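import Cfsg.Statements.S0906
-- import your own Cfsg.Agent.* helpers here

import Mathlib
import Cfsg.Agent.Lib.Helper6.Osima

set_option autoImplicit false
open Cfsg

namespace Cfsg.Agent.S0906

open Cfsg.Agent.Lib.Helper6 Cfsg.Agent.Lib.Helper24 Cfsg.Agent.CharLib

/-- Let B be a block of the finite group G relative to a maximal ideal M of the algebraic integers containing the prime p. Then some element g represents a defect class of B: the idempotent coefficient of B at g is a local integer not in the local ideal at M, and the central characters of the members of B at g are not in the local ideal. -/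
theorem result {G : Type*} [Group G] [Finite G] (p : ℕ) [Fact p.Prime] (M : Ideal Cfsg.AlgInt) (hM : Cfsg.IsPModular p M) (B : Set (Cfsg.IrrCharacter G)) (hB : Cfsg.IsPBlock M B) : ∃ g : G, Cfsg.IsDefectClass M B g := by
  classical
  let _ := Fintype.ofFinite G
  let _ : Fintype (ConjClasses G) := Fintype.ofFinite _
  have hprime : M.IsPrime := isPrime_of_isPModular hM
  obtain ⟨χ₀, rfl⟩ := hB
  set B := blockOf M (χ₀ : G → ℂ) with hBdef
  have hχ₀B : χ₀ ∈ B := by
    intro g
    rw [sub_self]
    exact memLocalIdeal_zero hprime.one_notMem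
  have hsum := sum_blockCoeff_mul_centralChar B χ₀
  rw [if_pos hχ₀B] at hsum
  have hex : ∃ C : ConjClasses G, ¬ MemLocalIdeal M (blockCoeff B (Quotient.out C)) ∧
      ¬ MemLocalIdeal M (centralChar (χ₀ : G → ℂ) (Quotient.out C)) := by
    by_contra hcon
    push Not at hcon
    have h1 : MemLocalIdeal M (∑ C : ConjClasses G, blockCoeff B (Quotient.out C) *
        centralChar (χ₀ : G → ℂ) (Quotient.out C)) := by
      apply sum_memLocalIdeal
      intro C _
      by_cases hC : MemLocalIdeal M (blockCoeff B (Quotient.out C))
      · exact memLocalIdeal_mul_right hC (memLocalRing_centralChar χ₀ _)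
      · exact memLocalIdeal_mul_left (memLocalRing_blockCoeff_blockOf χ₀ _) (hcon C hC)
    rw [hsum] at h1
    exact not_memLocalIdeal_one h1
  obtain ⟨C, hC1, hC2⟩ := hex
  refine ⟨Quotient.out C, memLocalRing_blockCoeff_blockOf χ₀ _, hC1, ?_⟩
  intro χ hχ hmem
  apply hC2
  have h1 : MemLocalIdeal M (centralChar (χ₀ : G → ℂ) (Quotient.out C) -
      centralChar (χ : G → ℂ) (Quotient.out C)) := hχ _
  have h2 := memLocalIdeal_add h1 hmem
  rwa [sub_add_cancel] at h2

end Cfsg.Agent.S0906
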