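import Cfsg.Statements.S0869
import Mathlib
-- import your own Cfsg.Agent.* helpers here

set_option autoImplicit false
open Cfsg

namespace Cfsg.Agent.S0869

/-- Pointwise: if no prime divides all values at `x`, some member takes the value `1` at `x`. -/
theorem exists_eval_one {S : Type*} (R : AddSubgroup (S → ℤ)) (x : S)
    (h : ∀ p : ℕ, p.Prime → ∃ f ∈ R, ¬ (p : ℤ) ∣ f x) : ∃ f ∈ R, f x = 1 := by
  let H : AddSubgroup ℤ := R.map (Pi.evalAddMonoidHom (fun _ : S => ℤ) x)
  have hmem : ∀ f ∈ R, f x ∈ H := fun f hf => ⟨f, hf, rfl⟩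
  obtain ⟨a, ha⟩ := Int.subgroup_cyclic H
  have hdvd : ∀ f ∈ R, a ∣ f x := by
    intro f hf
    have := hmem f hf
    rw [ha, AddSubgroup.mem_closure_singleton] at this
    obtain ⟨k, hk⟩ := this
    exact ⟨k, by rw [← hk]; simp [mul_comm]⟩
  have hna : a.natAbs = 1 := by
    by_contra hne
    obtain ⟨p, hp, hpa⟩ := Nat.exists_prime_and_dvd hne
    obtain ⟨f, hf, hpf⟩ := h p hp
    apply hpf
    have h1 : (p : ℤ) ∣ a := by
      rw [Int.natCast_dvd]
      exact hpa
    exact h1.trans (hdvd f hf)
  have ha_mem : a ∈ H := by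
    rw [ha]; exact AddSubgroup.subset_closure (Set.mem_singleton a)
  have h1H : (1 : ℤ) ∈ H := by
    rcases Int.natAbs_eq a with h' | h'
    · rw [hna] at h'
      have : a = 1 := by simpa using h'
      rw [← this]; exact ha_mem
    · rw [hna] at h'
      have : a = -1 := by simpa using h'
      have h2 : -a ∈ H := H.neg_mem ha_mem
      rw [this] at h2
      simpa using h2
  obtain ⟨f, hf, hfx⟩ := h1H
  exact ⟨f, hf, hfx⟩

theorem prod_one_sub_mem {S : Type*} (R : AddSubgroup (S → ℤ))
    (hmul : ∀ f ∈ R, ∀ g ∈ R, f * g ∈ R) (F : S → (S → ℤ)) (hF : ∀ x, F x ∈ R)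
    (s : Finset S) : ∃ r ∈ R, ∏ x ∈ s, (1 - F x) = 1 - r := by
  classical
  induction s using Finset.induction_on with
  | empty => exact ⟨0, R.zero_mem, by simp⟩
  | insert a s ha ih =>
    obtain ⟨r, hr, hprod⟩ := ih
    refine ⟨F a + r - F a * r, ?_, ?_⟩
    · exact R.sub_mem (R.add_mem (hF a) hr) (hmul _ (hF a) _ hr)
    · rw [Finset.prod_insert ha, hprod]; ring

/-- Let S be a nonempty finite type and R an additive subgroup of the integer-valued functions on S that is closed under pointwise multiplication. If the constant function 1 is not in R, then there exist a point x of S and a prime p such that p divides f x for every f in R. -/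
theorem result {S : Type*} [Finite S] [Nonempty S] (R : AddSubgroup (S → ℤ)) (hmul : ∀ f ∈ R, ∀ g ∈ R, f * g ∈ R) (h1 : (1 : S → ℤ) ∉ R) : ∃ (x : S) (p : ℕ), p.Prime ∧ ∀ f ∈ R, (p : ℤ) ∣ f x := by
  classical
  by_contra hcon
  push Not at hcon
  have hex : ∀ x : S, ∃ f ∈ R, f x = 1 := fun x => exists_eval_one R x (fun p hp => hcon x p hp)
  choose F hFR hFx using hex
  have := Fintype.ofFinite S
  obtain ⟨r, hr, hprod⟩ := prod_one_sub_mem R hmul F hFR Finset.univ
  have hzero : ∏ x ∈ (Finset.univ : Finset S), (1 - F x) = 0 := by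
    funext y
    rw [Finset.prod_apply]
    apply Finset.prod_eq_zero (Finset.mem_univ y)
    simp [hFx y]
  rw [hzero] at hprod
  have : r = 1 := by
    have h2 := hprod
    rw [eq_comm, sub_eq_zero] at h2
    exact h2.symm
  exact h1 (this ▸ hr)

end Cfsg.Agent.S0869
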