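import Cfsg.Statements.S0871
import Cfsg.Agent.Lib.Helper6.IndFun
-- import your own Cfsg.Agent.* helpers here

set_option autoImplicit false
open Cfsg

namespace Cfsg.Agent.S0871

open Cfsg.Agent.Lib.Helper6

/-- An element whose order is coprime to `k` is a power of its `k`-th power. -/
theorem mem_zpowers_pow_of_coprime {G : Type*} [Group G] (h : G) (k : ℕ)
    (hcop : Nat.Coprime (orderOf h) k) : h ∈ Subgroup.zpowers (h ^ k) := by
  have hb := Nat.gcd_eq_gcd_ab (orderOf h) k
  rw [hcop.gcd_eq_one] at hb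
  have h1 : h = (h ^ k) ^ (Nat.gcdB (orderOf h) k) := by
    calc h = h ^ ((1 : ℕ) : ℤ) := by simp
      _ = h ^ ((orderOf h : ℤ) * Nat.gcdA (orderOf h) k + (k : ℤ) * Nat.gcdB (orderOf h) k) := by
          rw [hb]
      _ = (h ^ k) ^ (Nat.gcdB (orderOf h) k) := by
          rw [zpow_add, zpow_mul, zpow_mul, zpow_natCast, zpow_natCast, pow_orderOf_eq_one,
            one_zpow, one_mul]
  exact Subgroup.mem_zpowers_iff.mpr ⟨_, h1.symm⟩

/-- Fixed cosets of a `p`-element, when the index is prime to `p`. -/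
theorem not_dvd_card_fixed {Γ : Type*} [Group Γ] [Finite Γ] (p : ℕ) [hp : Fact p.Prime]
    (L : Subgroup Γ) (hL : ¬ p ∣ L.index) (y : Γ) (a : ℕ) (hy : y ^ (p ^ a) = 1) :
    ¬ p ∣ Nat.card {q : Γ ⧸ L // y • q = q} := by
  have hP : IsPGroup p (Subgroup.zpowers y) := by
    rw [IsPGroup.iff_card]
    have hdvd : orderOf y ∣ p ^ a := orderOf_dvd_of_pow_eq_one hy
    obtain ⟨j, _, hj⟩ := (Nat.dvd_prime_pow hp.out).mp hdvd
    exact ⟨j, by rw [Nat.card_zpowers, hj]⟩
  have key := hP.card_modEq_card_fixedPoints (Γ ⧸ L)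
  have hcard : Nat.card (Γ ⧸ L) = L.index := rfl
  have heq : Nat.card (MulAction.fixedPoints (Subgroup.zpowers y) (Γ ⧸ L)) =
      Nat.card {q : Γ ⧸ L // y • q = q} := by
    apply Nat.card_congr
    apply Equiv.subtypeEquivRight
    intro q
    rw [MulAction.mem_fixedPoints]
    constructor
    · intro h
      exact h ⟨y, Subgroup.mem_zpowers y⟩
    · intro h z
      have hz : (z : Γ) ∈ MulAction.stabilizer Γ q :=
        (Subgroup.zpowers_le.mpr (MulAction.mem_stabilizer_iff.mpr h)) z.2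
      exact MulAction.mem_stabilizer_iff.mp hz
  rw [hcard, heq] at key
  intro hdvd
  apply hL
  exact (Nat.modEq_zero_iff_dvd).mp (key.trans ((Nat.modEq_zero_iff_dvd).mpr hdvd))

/-- Transfer of the fixed-coset count to an intermediate subgroup. -/
theorem card_fixed_transfer {G : Type*} [Group G] [Finite G] (H N : Subgroup G) (hHN : H ≤ N)
    (x : G) (y : N) (hsub : ∀ g : G, g⁻¹ * x * g ∈ H → g ∈ N)
    (hiff : ∀ g ∈ N, g⁻¹ * x * g ∈ H ↔ g⁻¹ * (y : G) * g ∈ H) :
    Nat.card {q : G ⧸ H // x • q = q} =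
      Nat.card {q : N ⧸ H.subgroupOf N // y • q = q} := by
  have h1 := card_conj_mem_eq H x
  have h2 := card_conj_mem_eq (H.subgroupOf N) y
  have hcardH : Nat.card (H.subgroupOf N) = Nat.card H :=
    Nat.card_congr (Subgroup.subgroupOfEquivOfLe hHN).toEquiv
  have hbij : Nat.card {g : G // g⁻¹ * x * g ∈ H} =
      Nat.card {g : N // g⁻¹ * y * g ∈ H.subgroupOf N} := by
    apply Nat.card_congr
    refine
      { toFun := fun g => ⟨⟨g.1, hsub g.1 g.2⟩, ?_⟩
        invFun := fun g => ⟨(g.1 : G), ?_⟩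
        left_inv := fun g => rfl
        right_inv := fun g => rfl }
    · rw [Subgroup.mem_subgroupOf]
      have := (hiff g.1 (hsub g.1 g.2)).mp g.2
      simpa using this
    · have h3 := g.2
      rw [Subgroup.mem_subgroupOf] at h3
      apply (hiff (g.1 : G) g.1.2).mpr
      simpa using h3
  rw [hbij, h2, hcardH] at h1
  have hpos : 0 < Nat.card H := Nat.card_pos
  exact (Nat.eq_of_mul_eq_mul_left hpos h1).symm

/-- Let x be an element of the finite group G and p a prime. Then there is a subgroup H having a cyclic normal subgroup C of order prime to p and p-power index in H, such that the value at x of the function induced from the constant function 1 on H is a natural number not divisible by p. -/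
theorem result {G : Type*} [Group G] [Fintype G] (x : G) (p : ℕ) (hp : p.Prime) : ∃ H : Subgroup G, (∃ C : Subgroup G, C ≤ H ∧ H ≤ Subgroup.normalizer (C : Set G) ∧ IsCyclic C ∧ Nat.Coprime (Nat.card C) p ∧ ∃ k : ℕ, C.relIndex H = p ^ k) ∧ ∃ n : ℕ, Cfsg.indFun H (fun _ => 1) x = (n : ℂ) ∧ ¬ p ∣ n := by
  classical
  have : Fact p.Prime := ⟨hp⟩
  -- decompose the order of x
  have hm0 : orderOf x ≠ 0 := (orderOf_pos x).ne'
  obtain ⟨a, m', hm'p, hm⟩ := Nat.exists_eq_pow_mul_and_not_dvd hm0 p hp.ne_one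
  have hcop : Nat.Coprime m' p := (Nat.Coprime.symm ((Nat.Prime.coprime_iff_not_dvd hp).mpr hm'p))
  have hcop' : Nat.Coprime (p ^ a) m' := Nat.Coprime.pow_left a hcop.symm
  set c : G := x ^ (p ^ a) with hc
  set C : Subgroup G := Subgroup.zpowers c with hC
  have hcord : orderOf c = m' := by
    rw [hc, orderOf_pow, hm, Nat.gcd_eq_right (Dvd.intro _ rfl), Nat.mul_div_cancel_left _ (pow_pos hp.pos a)]
  have hCcard : Nat.card C = m' := by rw [hC, Nat.card_zpowers, hcord]
  set N : Subgroup G := Subgroup.normalizer (C : Set G) with hN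
  have hCN : C ≤ N := Subgroup.le_normalizer
  -- Bezout
  have hb := Nat.gcd_eq_gcd_ab (p ^ a) m'
  rw [hcop'.gcd_eq_one] at hb
  set s : ℤ := Nat.gcdA (p ^ a) m' with hs
  set t : ℤ := Nat.gcdB (p ^ a) m' with ht
  set y : G := x ^ ((m' : ℤ) * t) with hy
  have hxy : x = y * c ^ s := by
    have h1 : x = x ^ ((1 : ℕ) : ℤ) := by simp
    rw [hy, hc, ← zpow_natCast x (p ^ a), ← zpow_mul, ← zpow_add]
    conv_lhs => rw [h1, hb]
    congr 1; ring
  have hypow : y ^ (p ^ a) = 1 := by
    rw [hy, ← zpow_natCast, ← zpow_mul]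
    have : (m' : ℤ) * t * ((p ^ a : ℕ) : ℤ) = ((orderOf x : ℕ) : ℤ) * t := by
      rw [hm]; push_cast; ring
    rw [this, zpow_mul, zpow_natCast, pow_orderOf_eq_one, one_zpow]
  have hxcomm : ∀ j : ℤ, x * c ^ j = c ^ j * x := by
    intro j
    rw [hc, ← zpow_natCast x (p ^ a), ← zpow_mul]
    exact (Commute.zpow_right (Commute.refl x) _).eq
  have hxN : x ∈ N := by
    apply Subgroup.mem_normalizer_fintype
    intro n hn
    rw [SetLike.mem_coe, hC, Subgroup.mem_zpowers_iff] at hn
    obtain ⟨j, rfl⟩ := hn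
    rw [hxcomm j, mul_assoc, mul_inv_cancel, mul_one]
    exact Subgroup.zpow_mem_zpowers _ _
  have hyN : y ∈ N := by rw [hy]; exact Subgroup.zpow_mem _ hxN _
  -- Sylow subgroup of N
  obtain P : Sylow p N := default
  set P' : Subgroup G := (P : Subgroup N).map N.subtype with hP'
  have hP'N : P' ≤ N := by
    rw [hP']; exact Subgroup.map_subtype_le _
  set H : Subgroup G := C ⊔ P' with hH
  have hHN : H ≤ N := sup_le hCN hP'N
  have hCH : C ≤ H := le_sup_left
  -- the subgroupOf N picture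
  have hCnormal : (C.subgroupOf N).Normal :=
    (Subgroup.normal_subgroupOf_iff_le_normalizer hCN).mpr le_rfl
  have hP'sub : P'.subgroupOf N = (P : Subgroup N) := by
    rw [hP']
    exact Subgroup.comap_map_eq_self_of_injective (Subgroup.subtype_injective N) _
  have hHsub : H.subgroupOf N = C.subgroupOf N ⊔ (P : Subgroup N) := by
    rw [hH, Subgroup.subgroupOf_sup hCN hP'N, hP'sub]
  -- relative index is a power of p
  have hrel : ∃ k : ℕ, C.relIndex H = p ^ k := by
    rw [← Subgroup.relIndex_subgroupOf hHN, hHsub, Subgroup.relIndex_sup_left]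
    have hdvd : (C.subgroupOf N).relIndex (P : Subgroup N) ∣ Nat.card (P : Subgroup N) :=
      Subgroup.relIndex_dvd_card _ _
    obtain ⟨n, hn⟩ := IsPGroup.iff_card.mp P.isPGroup'
    rw [hn] at hdvd
    obtain ⟨k, _, hk⟩ := (Nat.dvd_prime_pow hp).mp hdvd
    exact ⟨k, hk⟩
  -- p'-elements of H lie in C
  have hpprime : ∀ h ∈ H, Nat.Coprime (orderOf h) p → h ∈ C := by
    intro h hh hcoph
    have hhN : h ∈ N := hHN hh
    have hmem : (⟨h, hhN⟩ : N) ∈ C.subgroupOf N ⊔ (P : Subgroup N) := by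
      rw [← hHsub, Subgroup.mem_subgroupOf]; exact hh
    rw [← SetLike.mem_coe, Subgroup.normal_mul] at hmem
    obtain ⟨c₁, hc₁, u, hu, hcu⟩ := hmem
    -- u is a p-element
    obtain ⟨j, hj⟩ := (P.isPGroup' ⟨u, hu⟩)
    have huj : u ^ (p ^ j) = 1 := by
      have := congrArg Subtype.val hj
      simpa using this
    -- in the quotient by C.subgroupOf N
    have hq : (QuotientGroup.mk (⟨h, hhN⟩ : N) : N ⧸ C.subgroupOf N) = QuotientGroup.mk u := by
      rw [← hcu, QuotientGroup.mk_mul]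
      have : (QuotientGroup.mk c₁ : N ⧸ C.subgroupOf N) = 1 :=
        (QuotientGroup.eq_one_iff c₁).mpr hc₁
      rw [this, one_mul]
    have hq2 : (QuotientGroup.mk ((⟨h, hhN⟩ : N) ^ (p ^ j)) : N ⧸ C.subgroupOf N) = 1 := by
      rw [QuotientGroup.mk_pow, hq, ← QuotientGroup.mk_pow, huj, QuotientGroup.mk_one]
    have hmemC : h ^ (p ^ j) ∈ C := by
      have := (QuotientGroup.eq_one_iff _).mp hq2
      rw [Subgroup.mem_subgroupOf] at this
      simpa using this
    have hcopj : Nat.Coprime (orderOf h) (p ^ j) := Nat.Coprime.pow_right j hcoph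
    have := mem_zpowers_pow_of_coprime h (p ^ j) hcopj
    exact (Subgroup.zpowers_le.mpr hmemC) this
  -- elements conjugating x into H lie in N
  have hsub : ∀ g : G, g⁻¹ * x * g ∈ H → g ∈ N := by
    intro g hg
    have h1 : g⁻¹ * c * g ∈ H := by
      have : g⁻¹ * c * g = (g⁻¹ * x * g) ^ (p ^ a) := by
        rw [hc]
        have := conj_pow (a := g⁻¹) (b := x) (i := p ^ a)
        simpa using this.symm
      rw [this]; exact H.pow_mem hg _
    have hord : orderOf (g⁻¹ * c * g) = m' := by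
      rw [← hcord]
      have := (MulAut.conj g⁻¹).orderOf_eq c
      simpa using this
    have h2 : g⁻¹ * c * g ∈ C := hpprime _ h1 (by rw [hord]; exact hcop)
    have hginv : g⁻¹ ∈ N := by
      apply Subgroup.mem_normalizer_fintype
      intro n hn
      rw [SetLike.mem_coe, hC, Subgroup.mem_zpowers_iff] at hn
      obtain ⟨j, rfl⟩ := hn
      have : g⁻¹ * c ^ j * g⁻¹⁻¹ = (g⁻¹ * c * g) ^ j := by
        have := conj_zpow (a := g⁻¹) (b := c) (i := j)
        simpa using this.symm
      rw [this]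
      exact C.zpow_mem h2 j
    simpa using N.inv_mem hginv
  have hiff : ∀ g ∈ N, g⁻¹ * x * g ∈ H ↔ g⁻¹ * ((⟨y, hyN⟩ : N) : G) * g ∈ H := by
    intro g hg
    have hcs : g⁻¹ * c ^ s * g ∈ H := by
      apply hCH
      have hginv : g⁻¹ ∈ N := N.inv_mem hg
      have := (Subgroup.mem_normalizer_iff.mp hginv (c ^ s)).mp (Subgroup.zpow_mem_zpowers c s)
      simpa using this
    have hdecomp : g⁻¹ * x * g = (g⁻¹ * y * g) * (g⁻¹ * c ^ s * g) := by
      conv_lhs => rw [hxy]
      group
    rw [hdecomp]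
    exact Subgroup.mul_mem_cancel_right H hcs
  -- index of H in N prime to p
  have hidx : ¬ p ∣ (H.subgroupOf N).index := by
    have hle : (P : Subgroup N) ≤ H.subgroupOf N := by rw [hHsub]; exact le_sup_right
    have hdvd : (H.subgroupOf N).index ∣ (P : Subgroup N).index := Subgroup.index_dvd_of_le hle
    intro h
    exact P.not_dvd_index (h.trans hdvd)
  have hypowN : (⟨y, hyN⟩ : N) ^ (p ^ a) = 1 := by
    apply Subtype.ext
    simpa using hypow
  refine ⟨H, ⟨C, hCH, hHN, ?_, ?_, hrel⟩, Nat.card {q : G ⧸ H // x • q = q}, ?_, ?_⟩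
  · rw [hC]; infer_instance
  · rw [hCcard]; exact hcop
  · exact indFun_one_eq_card_fixed H x
  · rw [card_fixed_transfer H N hHN x ⟨y, hyN⟩ hsub hiff]
    exact not_dvd_card_fixed p _ hidx _ a hypowN

end Cfsg.Agent.S0871
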