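import Cfsg.Statements.S0872
import Cfsg.Agent.Lib.Helper6.PermChar
import Cfsg.Agent.S0869
import Cfsg.Agent.S0871
-- import your own Cfsg.Agent.* helpers here

set_option autoImplicit false
open Cfsg

namespace Cfsg.Agent.S0872

open Cfsg.Agent.Lib.Helper6

section
variable {G : Type*} [Group G]

/-- `H` is quasi-elementary for the prime `p`. -/
def QE (p : ℕ) (H : Subgroup G) : Prop :=
  ∃ C : Subgroup G, C ≤ H ∧ H ≤ Subgroup.normalizer (C : Set G) ∧ IsCyclic C ∧
    Nat.Coprime (Nat.card C) p ∧ ∃ k : ℕ, C.relIndex H = p ^ k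

theorem QE_of_le [Finite G] {p : ℕ} (hp : p.Prime) {H U : Subgroup G} (hH : QE p H) (hUH : U ≤ H) :
    QE p U := by
  obtain ⟨C, hCH, hHN, hcyc, hcop, k, hk⟩ := hH
  refine ⟨C ⊓ U, inf_le_right, ?_, ?_, ?_, ?_⟩
  · intro u hu
    have huN : u ∈ Subgroup.normalizer (C : Set G) := hHN (hUH hu)
    rw [Subgroup.mem_normalizer_iff]
    intro h
    have h1 := Subgroup.mem_normalizer_iff.mp huN h
    simp only [Subgroup.mem_inf]
    constructor
    · rintro ⟨hC, hU⟩
      exact ⟨h1.mp hC, U.mul_mem (U.mul_mem hu hU) (U.inv_mem hu)⟩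
    · rintro ⟨hC, hU⟩
      refine ⟨h1.mpr hC, ?_⟩
      have : h = u⁻¹ * (u * h * u⁻¹) * u := by group
      rw [this]
      exact U.mul_mem (U.mul_mem (U.inv_mem hu) hU) hu
  · exact Subgroup.isCyclic_of_le (inf_le_left : C ⊓ U ≤ C)
  · exact Nat.Coprime.coprime_dvd_left (Subgroup.card_dvd_of_le inf_le_left) hcop
  · rw [Subgroup.inf_relIndex_right]
    have hnormal : (C.subgroupOf H).Normal :=
      (Subgroup.normal_subgroupOf_iff_le_normalizer hCH).mpr hHN
    have h1 : (C.subgroupOf H).relIndex (U.subgroupOf H) ∣ (C.subgroupOf H).index :=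
      Subgroup.relIndex_dvd_index_of_normal _ _
    rw [Subgroup.relIndex_subgroupOf hUH] at h1
    have h2 : (C.subgroupOf H).index = C.relIndex H := rfl
    rw [h2, hk] at h1
    obtain ⟨j, _, hj⟩ := (Nat.dvd_prime_pow hp).mp h1
    exact ⟨j, hj⟩

/-- The permutation character of `G` on `G ⧸ H`, integer valued. -/
noncomputable def piZ (H : Subgroup G) : G → ℤ :=
  fun x => (Nat.card {q : G ⧸ H // x • q = q} : ℤ)

/-- Generators of the relevant additive group. -/
def gens (p : ℕ) : Set (G → ℤ) :=
  {f | ∃ H : Subgroup G, QE p H ∧ f = piZ H} ∪ {fun _ => (p : ℤ)}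

theorem mul_mem_closure [Fintype G] {p : ℕ} (hp : p.Prime) :
    ∀ f ∈ AddSubgroup.closure (gens (G := G) p), ∀ g ∈ AddSubgroup.closure (gens (G := G) p),
      f * g ∈ AddSubgroup.closure (gens (G := G) p) := by
  classical
  -- products of generators
  have hgen : ∀ s ∈ gens (G := G) p, ∀ t ∈ gens (G := G) p,
      s * t ∈ AddSubgroup.closure (gens (G := G) p) := by
    intro s hs t ht
    rcases hs with ⟨H, hH, rfl⟩ | hs
    · rcases ht with ⟨K, hK, rfl⟩ | ht
      · obtain ⟨a, ha, hmack⟩ := mackey_nat H K
        have : piZ H * piZ K = ∑ U : Subgroup G, (a U : ℤ) • piZ U := by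
          funext x
          rw [Pi.mul_apply, Finset.sum_apply]
          simp only [Pi.smul_apply, smul_eq_mul, piZ]
          exact_mod_cast hmack x
        rw [this]
        apply AddSubgroup.sum_mem
        intro U _
        by_cases hU : a U = 0
        · rw [hU]; simp
        · apply AddSubgroup.zsmul_mem
          apply AddSubgroup.subset_closure
          left
          exact ⟨U, QE_of_le hp hH (ha U hU), rfl⟩
      · rw [Set.mem_singleton_iff] at ht
        have : piZ H * t = (p : ℤ) • piZ H := by
          funext x; rw [ht]; simp [mul_comm]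
        rw [this]
        apply AddSubgroup.zsmul_mem
        apply AddSubgroup.subset_closure
        left; exact ⟨H, hH, rfl⟩
    · rw [Set.mem_singleton_iff] at hs
      have : s * t = (p : ℤ) • t := by
        funext x; rw [hs]; simp
      rw [this]
      apply AddSubgroup.zsmul_mem
      exact AddSubgroup.subset_closure ht
  -- generator times closure element
  have hgen2 : ∀ s ∈ gens (G := G) p, ∀ g ∈ AddSubgroup.closure (gens (G := G) p),
      s * g ∈ AddSubgroup.closure (gens (G := G) p) := by
    intro s hs g hg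
    induction hg using AddSubgroup.closure_induction with
    | mem t ht => exact hgen s hs t ht
    | zero => rw [mul_zero]; exact AddSubgroup.zero_mem _
    | add a b _ _ iha ihb => rw [mul_add]; exact AddSubgroup.add_mem _ iha ihb
    | neg a _ iha => rw [mul_neg]; exact AddSubgroup.neg_mem _ iha
  intro f hf g hg
  induction hf using AddSubgroup.closure_induction with
  | mem s hs => exact hgen2 s hs g hg
  | zero => rw [zero_mul]; exact AddSubgroup.zero_mem _
  | add a b _ _ iha ihb => rw [add_mul]; exact AddSubgroup.add_mem _ iha ihb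
  | neg a _ iha => rw [neg_mul]; exact AddSubgroup.neg_mem _ iha

/-- Shape of the elements of the closure. -/
theorem closure_shape [Fintype G] (p : ℕ) :
    ∀ f ∈ AddSubgroup.closure (gens (G := G) p),
      ∃ (a : Subgroup G → ℤ) (k : ℤ), (∀ H, a H ≠ 0 → QE p H) ∧
        f = ∑ H : Subgroup G, a H • piZ H + k • (fun _ => (p : ℤ)) := by
  classical
  intro f hf
  induction hf using AddSubgroup.closure_induction with
  | mem s hs =>
    rcases hs with ⟨H, hH, rfl⟩ | hs
    · refine ⟨fun U => if U = H then 1 else 0, 0, ?_, ?_⟩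
      · intro U hU
        by_cases h : U = H
        · rw [h]; exact hH
        · simp [h] at hU
      · simp [Finset.sum_ite_eq']
    · rw [Set.mem_singleton_iff] at hs
      refine ⟨fun _ => 0, 1, ?_, ?_⟩
      · intro U hU; exact absurd rfl hU
      · simp [hs]
  | zero =>
    refine ⟨fun _ => 0, 0, ?_, ?_⟩
    · intro U hU; exact absurd rfl hU
    · simp
  | add f g _ _ ihf ihg =>
    obtain ⟨a, k, ha, rfl⟩ := ihf
    obtain ⟨b, l, hb, rfl⟩ := ihg
    refine ⟨a + b, k + l, ?_, ?_⟩
    · intro U hU
      by_cases h : a U = 0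
      · have : b U ≠ 0 := by
          intro hb0; apply hU; simp [h, hb0]
        exact hb U this
      · exact ha U h
    · simp only [Pi.add_apply, add_smul, Finset.sum_add_distrib]
      abel
  | neg f _ ihf =>
    obtain ⟨a, k, ha, rfl⟩ := ihf
    refine ⟨-a, -k, ?_, ?_⟩
    · intro U hU
      apply ha U
      intro h0; apply hU; simp [h0]
    · simp only [Pi.neg_apply, neg_smul, Finset.sum_neg_distrib]
      abel

end

/-- For a finite group G and a prime p there are an integer m not divisible by p and a ℤ-linear combination of functions induced from the constant function 1 on subgroups H, each having a cyclic normal subgroup of order prime to p and p-power index in H, that equals the constant function m. -/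
theorem result {G : Type*} [Group G] [Fintype G] (p : ℕ) (hp : p.Prime) : ∃ (m : ℤ) (a : Subgroup G → ℤ), ¬ (p : ℤ) ∣ m ∧ (∀ H, a H ≠ 0 → (∃ C : Subgroup G, C ≤ H ∧ H ≤ Subgroup.normalizer (C : Set G) ∧ IsCyclic C ∧ Nat.Coprime (Nat.card C) p ∧ ∃ k : ℕ, C.relIndex H = p ^ k)) ∧ (fun _ : G => (m : ℂ)) = ∑ H : Subgroup G, (a H : ℂ) • Cfsg.indFun H (fun _ => 1) := by
  classical
  -- 1 lies in the closure
  have h1mem : (1 : G → ℤ) ∈ AddSubgroup.closure (gens (G := G) p) := by
    by_contra h1
    obtain ⟨x, q, hq, hdiv⟩ := Cfsg.Agent.S0869.result (AddSubgroup.closure (gens (G := G) p))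
      (mul_mem_closure hp) h1
    -- q = p
    have hqp : q = p := by
      have := hdiv (fun _ => (p : ℤ)) (AddSubgroup.subset_closure (Or.inr rfl))
      have h2 : q ∣ p := by exact_mod_cast this
      exact (Nat.prime_dvd_prime_iff_eq hq hp).mp h2
    subst hqp
    obtain ⟨H, hQE, n, hn, hndvd⟩ := Cfsg.Agent.S0871.result x q hp
    have hmem : piZ H ∈ AddSubgroup.closure (gens (G := G) q) :=
      AddSubgroup.subset_closure (Or.inl ⟨H, hQE, rfl⟩)
    have := hdiv (piZ H) hmem
    rw [indFun_one_eq_card_fixed] at hn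
    have hn' : Nat.card {r : G ⧸ H // x • r = r} = n := by exact_mod_cast hn
    simp only [piZ, hn'] at this
    apply hndvd
    exact_mod_cast this
  obtain ⟨a, k, ha, h1eq⟩ := closure_shape p 1 h1mem
  refine ⟨1 - k * p, a, ?_, ha, ?_⟩
  · intro hdvd
    have h2 : (p : ℤ) ∣ 1 := by
      have : (1 : ℤ) = (1 - k * p) + k * p := by ring
      rw [this]
      exact dvd_add hdvd (Dvd.intro_left k rfl)
    have h3 : (p : ℤ) = 1 ∨ (p : ℤ) = -1 := Int.isUnit_iff.mp (isUnit_of_dvd_one h2)
    rcases h3 with h3 | h3
    · have : p = 1 := by exact_mod_cast h3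
      exact hp.ne_one this
    · have : (0 : ℤ) ≤ p := Int.natCast_nonneg p
      omega
  · funext x
    have hx := congrFun h1eq x
    simp only [Pi.one_apply, Pi.add_apply, Finset.sum_apply, Pi.smul_apply, smul_eq_mul, piZ] at hx
    rw [Finset.sum_apply]
    simp only [Pi.smul_apply, smul_eq_mul, indFun_one_eq_card_fixed]
    have hx2 : (1 - k * p : ℤ) = ∑ H : Subgroup G, a H * (Nat.card {q : G ⧸ H // x • q = q} : ℤ) := by
      linarith
    have := congrArg (fun z : ℤ => (z : ℂ)) hx2
    simp only [Int.cast_sum, Int.cast_mul, Int.cast_natCast] at this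
    exact this

end Cfsg.Agent.S0872
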