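import Cfsg.Statements.S0873
-- import your own Cfsg.Agent.* helpers here
import Mathlib
import Cfsg.Agent.Lib.Helper6.CharNorm

set_option autoImplicit false
open Cfsg

namespace Cfsg.Agent.S0873

open Cfsg.Agent.Lib.Helper6

/-- Let C be a normal subgroup of the finite group G of order prime to p and P a p-subgroup with C ⊔ P = G. Let λ be a character of C of degree 1 invariant under conjugation by G and equal to 1 at every element of C centralized by P. Then λ is identically 1. -/
theorem result {G : Type*} [Group G] [Finite G] (p : ℕ) [Fact p.Prime] (C P : Subgroup G) [hC : C.Normal] (hP : IsPGroup p P) (hcop : Nat.Coprime (Nat.card C) p) (hCP : C ⊔ P = ⊤) (lam : C → ℂ) (hlam : Cfsg.IsCharacter C lam ∧ lam 1 = 1) (hinv : ∀ (g : G) (c : C), lam ⟨g * c * g⁻¹, hC.conj_mem (c : G) c.2 g⟩ = lam c) (hker : ∀ c : C, (c : G) ∈ Subgroup.centralizer (P : Set G) → lam c = 1) : lam = fun _ => 1 := by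
  classical
  obtain ⟨hchar, h1⟩ := hlam
  have hmul := IsCharacter.map_mul_of_apply_one hchar h1
  let φ : C →* ℂ := linCharHom hchar h1
  have hφ : ∀ c, φ c = lam c := fun _ => rfl
  funext c
  -- the fibre of `lam` through `c`
  let α := {c' : C // lam c' = lam c}
  -- `P` acts on the fibre by conjugation
  letI : MulAction P α :=
    { smul := fun x c' => ⟨⟨(x : G) * (c'.1 : G) * (x : G)⁻¹, hC.conj_mem _ c'.1.2 _⟩, by
        rw [hinv]; exact c'.2⟩
      one_smul := fun c' => by
        apply Subtype.ext; apply Subtype.ext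
        change ((1 : P) : G) * (c'.1 : G) * ((1 : P) : G)⁻¹ = (c'.1 : G)
        simp
      mul_smul := fun x y c' => by
        apply Subtype.ext; apply Subtype.ext
        change ((x * y : P) : G) * (c'.1 : G) * ((x * y : P) : G)⁻¹ =
          (x : G) * ((y : G) * (c'.1 : G) * (y : G)⁻¹) * (x : G)⁻¹
        simp [mul_assoc] }
  have hsmul : ∀ (x : P) (c' : α), ((x • c' : α).1 : G) = (x : G) * (c'.1 : G) * (x : G)⁻¹ :=
    fun _ _ => rfl
  -- the fibre is in bijection with the kernel
  let e : φ.ker ≃ α :=
    { toFun := fun k => ⟨c * k.1, by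
        rw [hmul, ← hφ k.1, MonoidHom.mem_ker.mp k.2, mul_one]⟩
      invFun := fun c' => ⟨c⁻¹ * c'.1, by
        rw [MonoidHom.mem_ker, hφ, hmul, c'.2, ← hmul, inv_mul_cancel, h1]⟩
      left_inv := fun k => by apply Subtype.ext; simp
      right_inv := fun c' => by apply Subtype.ext; simp }
  have hcard : Nat.card α = Nat.card φ.ker := (Nat.card_congr e).symm
  have hdvd : Nat.card φ.ker ∣ Nat.card C := Subgroup.card_subgroup_dvd_card _
  have hnp : ¬ p ∣ Nat.card α := by
    rw [hcard]
    intro hp
    have := hcop.symm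
    exact (Nat.Prime.coprime_iff_not_dvd Fact.out).mp this (hp.trans hdvd)
  have hmod := hP.card_modEq_card_fixedPoints α
  have hne : Nat.card (MulAction.fixedPoints P α) ≠ 0 := by
    intro h0
    rw [h0] at hmod
    exact hnp ((Nat.modEq_zero_iff_dvd).mp hmod)
  have hnonempty : Nonempty (MulAction.fixedPoints P α) := by
    by_contra hcon
    rw [not_nonempty_iff] at hcon
    exact hne Nat.card_of_isEmpty
  obtain ⟨⟨c', hc'⟩⟩ := hnonempty
  have hcent : ((c'.1 : C) : G) ∈ Subgroup.centralizer (P : Set G) := by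
    rw [Subgroup.mem_centralizer_iff]
    intro x hx
    have := hc' ⟨x, hx⟩
    have h2 := congrArg (fun a : α => ((a.1 : C) : G)) this
    simp only [hsmul] at h2
    -- x * c' * x⁻¹ = c'
    calc x * (c'.1 : G) = x * (c'.1 : G) * x⁻¹ * x := by group
      _ = (c'.1 : G) * x := by rw [h2]
  rw [← c'.2]
  exact hker c'.1 hcent

end Cfsg.Agent.S0873
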