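import Cfsg.Statements.S0936


import Mathlib
import Cfsg.Agent.Lib.Helper6.ThirdMain

set_option autoImplicit false
open Cfsg

namespace Cfsg.Agent.S0936

open Cfsg.Agent.Lib.Helper6 Cfsg.Agent.Lib.Helper24 Cfsg.Agent.CharLib

/-- Brauer's Third Main Theorem. Let H be a subgroup of the finite group G and b a block of H (relative to a maximal ideal M of the algebraic integers containing the prime p) whose induced block in G is defined. Then b induces the principal block of G if and only if b is the principal block of H. -/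
theorem result {G : Type*} [Group G] [Finite G] (p : ℕ) [Fact p.Prime] (M : Ideal Cfsg.AlgInt) (hM : Cfsg.IsPModular p M) (H : Subgroup G) (b : Set (Cfsg.IrrCharacter H)) (hdef : Cfsg.InducedBlockDefined M H b) : Cfsg.IsInducedBlock M H b (Cfsg.principalBlock M G) ↔ b = Cfsg.principalBlock M H := by
  classical
  let _ := Fintype.ofFinite G
  let _ : Fintype H := Fintype.ofFinite H
  have hprime : M.IsPrime := isPrime_of_isPModular hM
  constructor
  · intro hind
    obtain ⟨ξ₀, hb⟩ := hind.1
    have hξ₀ : ξ₀ ∈ b := by rw [hb]; exact mem_blockOf_self ξ₀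
    have h1G : trivIrr G ∈ principalBlock M G := mem_blockOf_self (trivIrr G)
    have h1 := memLocalIdeal_omegaFun_resFun_sub_of_induced H hind hξ₀ h1G
      (pRegInd_isClassFunction p) (memLocalRing_pRegInd p)
    rw [resFun_pRegInd, omegaFun_trivIrr_pRegInd] at h1
    have h2 := not_memLocalIdeal_of_sub_card_pRegular hM G h1
    have h3 : ξ₀ ∈ principalBlock M H := (mem_principalBlock_iff hM ξ₀).mpr h2
    exact isPBlock_eq_of_mem hind.1 ⟨trivIrr H, rfl⟩ hξ₀ h3
  · intro hb
    obtain ⟨B, hind⟩ := hdef
    obtain ⟨χ₀, hB⟩ := hind.2.1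
    have hχ₀ : χ₀ ∈ B := by rw [hB]; exact mem_blockOf_self χ₀
    have h1H : trivIrr H ∈ b := by rw [hb]; exact mem_blockOf_self (trivIrr H)
    have h1 := memLocalIdeal_omegaFun_resFun_sub_of_induced H hind h1H hχ₀
      (pRegInd_isClassFunction p) (memLocalRing_pRegInd p)
    rw [resFun_pRegInd, omegaFun_trivIrr_pRegInd] at h1
    have h1' := memLocalIdeal_neg h1
    rw [neg_sub] at h1'
    have h2 := not_memLocalIdeal_of_sub_card_pRegular hM H h1'
    have h3 : χ₀ ∈ principalBlock M G := (mem_principalBlock_iff hM χ₀).mpr h2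
    have h4 : B = principalBlock M G := isPBlock_eq_of_mem hind.2.1 ⟨trivIrr G, rfl⟩ hχ₀ h3
    rw [← h4]
    exact hind

end Cfsg.Agent.S0936
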