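import Cfsg.Statements.S0023
-- import your own Cfsg.Agent.* helpers here
import Mathlib
import Cfsg.Agent.Lib.Helper1.Coprime

set_option autoImplicit false
open Cfsg

namespace Cfsg.Agent.S0023

open Cfsg.Agent.Lib.Helper1 Subgroup

/-- Under coprime action there is an invariant Sylow subgroup: with A normalising K, coprime orders and A or K solvable, some Sylow p-subgroup of K is normalised by A. -/
theorem result {G : Type*} [Group G] [Finite G] (A K : Subgroup G) (hAK : A ≤ Subgroup.normalizer (K : Set G))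
    (hcop : (Nat.card A).Coprime (Nat.card K)) (hsolv : Group.IsSolvable A ∨ Group.IsSolvable K)
    (p : ℕ) [Fact p.Prime] :
    ∃ P : Sylow p K, A ≤ Subgroup.normalizer ((P : Subgroup K).map K.subtype : Set G) := by
  obtain ⟨P₀⟩ : Nonempty (Sylow p K) := inferInstance
  set Q₀ : Subgroup G := (P₀ : Subgroup K).map K.subtype with hQ₀
  set U : Subgroup G := normalizer (Q₀ : Set G) ⊓ (K ⊔ A) with hU
  have hΓ : K ⊔ A ≤ normalizer (K : Set G) := sup_le_normalizer hAK
  have hKU : ∀ γ ∈ K ⊔ A, ∃ k ∈ K, ∃ u ∈ U, γ = k * u := by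
    intro γ hγ
    obtain ⟨k, hk, hn⟩ := frattini_sylow K P₀ γ (hΓ hγ)
    exact ⟨k, hk, k⁻¹ * γ, ⟨hn, (K ⊔ A).mul_mem ((K ⊔ A).inv_mem (le_sup_left (a := K) hk)) hγ⟩,
      by group⟩
  obtain ⟨k, hk, hAk⟩ := exists_le_conj_smul_of_coprime hAK hcop hsolv inf_le_right hKU
  refine ⟨(⟨k, hk⟩ : K) • P₀, ?_⟩
  rw [Sylow.coe_subgroup_smul, map_subtype_conj_smul]
  intro a ha
  have := hAk ha
  rw [← conj_smul_normalizer]
  rw [mem_conj_smul_iff] at this ⊢
  exact this.1

end Cfsg.Agent.S0023
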