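import Cfsg.Statements.S0943
import Cfsg.Agent.Lib.Helper6.ClassMult
-- import your own Cfsg.Agent.* helpers here

set_option autoImplicit false
open Cfsg

namespace Cfsg.Agent.S0943

open Cfsg.Agent.Lib.Helper6 Cfsg.Agent.Lib.Helper24 Module

/-- Let χ be an irreducible character of the finite group G and u, v ∈ G. If χ (x * y) = χ (u * v) whenever x is conjugate to u and y is conjugate to v, then χ u * χ v = χ 1 * χ (u * v). (Multiply the class sums of u and v and apply the central character of χ.) -/
theorem result {G : Type*} [Group G] [Finite G] (χ : Cfsg.IrrCharacter G) (u v : G) (hc : ∀ x y : G, IsConj u x → IsConj v y → (χ : G → ℂ) (x * y) = (χ : G → ℂ) (u * v)) : (χ : G → ℂ) u * (χ : G → ℂ) v = (χ : G → ℂ) 1 * (χ : G → ℂ) (u * v) := by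
  classical
  have : Fintype G := Fintype.ofFinite G
  obtain ⟨χf, n, ρ, hirr, rfl⟩ := χ
  haveI := hirr
  change ρ.character u * ρ.character v = ρ.character 1 * ρ.character (u * v)
  have hc' : ∀ x y : G, IsConj u x → IsConj v y → ρ.character (x * y) = ρ.character (u * v) := hc
  have key := sum_isConj_char_mul ρ u v
  have hlhs : ∑ x : G, ∑ y : G, classInd u x * classInd v y * ρ.character (x * y) =
      ((Subgroup.centralizer ({u} : Set G)).index : ℂ) *
        ((Subgroup.centralizer ({v} : Set G)).index : ℂ) * ρ.character (u * v) := by
    have h1 : ∀ x y : G, classInd u x * classInd v y * ρ.character (x * y) =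
        classInd u x * classInd v y * ρ.character (u * v) := by
      intro x y
      by_cases hx : IsConj u x
      · by_cases hy : IsConj v y
        · rw [hc' x y hx hy]
        · rw [classInd_of_not_isConj hy]; simp
      · rw [classInd_of_not_isConj hx]; simp
    simp only [h1]
    rw [← sum_classInd u, ← sum_classInd v, Finset.sum_mul_sum, Finset.sum_mul]
    apply Finset.sum_congr rfl
    intro x _
    rw [Finset.sum_mul]
  rw [hlhs] at key
  have hu := index_centralizer_ne_zero u
  have hv := index_centralizer_ne_zero v
  have hpos := finrank_pos_of_isIrreducible ρ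
  have hne : (finrank ℂ (Fin n → ℂ) : ℂ) ≠ 0 := by exact_mod_cast hpos.ne'
  rw [Representation.char_one]
  field_simp at key
  linear_combination -key

end Cfsg.Agent.S0943
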