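import Cfsg.Statements.S4207
-- import your own Cfsg.Agent.* helpers here
import Mathlib
import Cfsg.Agent.Lib.Helper19.Derangement

set_option autoImplicit false
open Cfsg

namespace Cfsg.Agent.S4207


theorem card_frattini_aux {P : Type*} [Group P] [Finite P] {p n r : ℕ} [Fact p.Prime]
    (hP : Nat.card P = p ^ n) (hr : (frattini P).index = p ^ r) :
    r ≤ n ∧ Nat.card (frattini P) = p ^ (n - r) := by
  have hp : p.Prime := Fact.out
  have h1 := Subgroup.card_mul_index (frattini P)
  rw [hP, hr] at h1
  have hrn : r ≤ n := by
    have : p ^ r ∣ p ^ n := Dvd.intro_left _ h1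
    exact (Nat.pow_dvd_pow_iff_le_right hp.one_lt).1 this
  refine ⟨hrn, ?_⟩
  have h2 : p ^ n = p ^ (n - r) * p ^ r := by rw [← pow_add, Nat.sub_add_cancel hrn]
  rw [h2] at h1
  exact Nat.eq_of_mul_eq_mul_right (pow_pos hp.pos r) h1

theorem exists_gen_tuple {P : Type*} [Group P] [Finite P] {p n r : ℕ} [Fact p.Prime]
    (hP : Nat.card P = p ^ n) (hr : (frattini P).index = p ^ r) :
    ∃ x : Fin r → P, Subgroup.closure (Set.range x) ⊔ frattini P = ⊤ := by
  have hp : p.Prime := Fact.out
  obtain ⟨hrn, hΦ⟩ := card_frattini_aux hP hr
  have key : ∀ i : ℕ, i ≤ r → ∃ x : Fin i → P,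
      Nat.card (Subgroup.closure (Set.range x) ⊔ frattini P : Subgroup P) = p ^ (n - r + i) := by
    intro i
    induction i with
    | zero =>
      intro _
      refine ⟨Fin.elim0, ?_⟩
      have : Set.range (Fin.elim0 : Fin 0 → P) = ∅ := Set.range_eq_empty _
      rw [this, Subgroup.closure_empty, bot_sup_eq, hΦ, add_zero]
    | succ i ih =>
      intro hi
      obtain ⟨x, hx⟩ := ih (by omega)
      have hdvd : p ^ (n - r + i + 1) ∣ Nat.card P := by
        rw [hP]; exact pow_dvd_pow p (by omega)
      obtain ⟨K', hK', hKK'⟩ := Sylow.exists_subgroup_card_pow_succ hdvd hx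
      have hlt : Subgroup.closure (Set.range x) ⊔ frattini P < K' := by
        refine lt_of_le_of_ne hKK' (fun h => ?_)
        rw [← h, hx] at hK'
        have := Nat.pow_right_injective hp.two_le hK'
        omega
      obtain ⟨y, hyK', hyK⟩ := SetLike.exists_of_lt hlt
      refine ⟨Fin.snoc x y, ?_⟩
      have hrange : Set.range (Fin.snoc x y : Fin (i + 1) → P) = insert y (Set.range x) := by
        ext z
        simp only [Set.mem_range, Set.mem_insert_iff]
        constructor
        · rintro ⟨j, rfl⟩
          refine Fin.lastCases ?_ (fun j => ?_) j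
          · left; simp
          · right; exact ⟨j, by simp⟩
        · rintro (rfl | ⟨j, rfl⟩)
          · exact ⟨Fin.last i, by simp⟩
          · exact ⟨j.castSucc, by simp⟩
      set M : Subgroup P := Subgroup.closure (Set.range (Fin.snoc x y : Fin (i + 1) → P)) ⊔
        frattini P with hM
      have hKM : Subgroup.closure (Set.range x) ⊔ frattini P ≤ M := by
        refine sup_le_sup_right (Subgroup.closure_mono ?_) _
        rw [hrange]; exact Set.subset_insert _ _
      have hyM : y ∈ M := by
        apply Subgroup.mem_sup_left
        apply Subgroup.subset_closure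
        rw [hrange]; exact Set.mem_insert _ _
      have hMK' : M ≤ K' := by
        refine sup_le ?_ (le_sup_right.trans hKK')
        rw [Subgroup.closure_le, hrange]
        intro z hz
        rcases hz with rfl | hz
        · exact hyK'
        · exact hKK' (Subgroup.mem_sup_left (Subgroup.subset_closure hz))
      have hd1 : Nat.card (Subgroup.closure (Set.range x) ⊔ frattini P : Subgroup P) ∣ Nat.card M :=
        Subgroup.card_dvd_of_le hKM
      have hd2 : Nat.card M ∣ Nat.card K' := Subgroup.card_dvd_of_le hMK'
      rw [hx] at hd1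
      rw [hK'] at hd2
      obtain ⟨j, hj1, hj2⟩ := (Nat.dvd_prime_pow hp).1 hd2
      rw [hj2] at hd1
      have hj3 : n - r + i ≤ j := (Nat.pow_dvd_pow_iff_le_right hp.one_lt).1 hd1
      have hj4 : j ≠ n - r + i := by
        intro hj
        apply hyK
        have : Subgroup.closure (Set.range x) ⊔ frattini P = M :=
          Subgroup.eq_of_le_of_card_ge hKM (by rw [hx, hj2, hj])
        rw [this]; exact hyM
      have : j = n - r + (i + 1) := by omega
      rw [hj2, this]
  obtain ⟨x, hx⟩ := key r le_rfl
  refine ⟨x, ?_⟩
  rw [← Subgroup.card_eq_iff_eq_top, hx, hP]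
  congr 1
  omega

/-- Let `P` be a group of order `p^n` whose Frattini subgroup has index `p^r`. Then any group of automorphisms of `P` each of which induces the identity on the Frattini quotient has order dividing `p^(r(n-r))`; in particular it is a `p`-group. -/
theorem result {P : Type*} [Group P] [Finite P] {p n r : ℕ} [Fact p.Prime] (hP : Nat.card P = p ^ n) (hr : (frattini P).index = p ^ r) (A : Subgroup (MulAut P)) (hA : ∀ α ∈ A, ∀ x : P, α x * x⁻¹ ∈ frattini P) : Nat.card A ∣ p ^ (r * (n - r)) := by
  classical
  have hp : p.Prime := Fact.out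
  obtain ⟨hrn, hΦ⟩ := card_frattini_aux hP hr
  obtain ⟨x, hx⟩ := exists_gen_tuple hP hr
  -- the invariant set of tuples
  let S : SubMulAction A (Fin r → P) :=
    { carrier := {y | ∀ i, y i * (x i)⁻¹ ∈ frattini P}
      smul_mem' := by
        intro α y hy i
        have h1 : (α • y) i = (α : MulAut P) (y i) := rfl
        have h2 : (α • y) i * (x i)⁻¹ =
            ((α : MulAut P) (y i) * (y i)⁻¹) * (y i * (x i)⁻¹) := by
          rw [h1]; group
        show (α • y) i * (x i)⁻¹ ∈ frattini P
        rw [h2]
        exact mul_mem (hA α α.2 (y i)) (hy i) }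
  have hmemS : ∀ y : Fin r → P, y ∈ S ↔ ∀ i, y i * (x i)⁻¹ ∈ frattini P := fun y => Iff.rfl
  -- cardinality of S
  have hcardS : Nat.card S = p ^ (r * (n - r)) := by
    have e : S ≃ (Fin r → frattini P) :=
      { toFun := fun y i => ⟨y.1 i * (x i)⁻¹, y.2 i⟩
        invFun := fun z => ⟨fun i => (z i : P) * x i, by
          intro i
          show (z i : P) * x i * (x i)⁻¹ ∈ frattini P
          rw [mul_inv_cancel_right]; exact (z i).2⟩
        left_inv := by
          intro y
          apply Subtype.ext
          funext i
          show y.1 i * (x i)⁻¹ * x i = y.1 i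
          rw [inv_mul_cancel_right]
        right_inv := by
          intro z
          funext i
          apply Subtype.ext
          show (z i : P) * x i * (x i)⁻¹ = (z i : P)
          rw [mul_inv_cancel_right] }
    rw [Nat.card_congr e, Nat.card_fun, hΦ, Nat.card_eq_fintype_card, Fintype.card_fin, ← pow_mul,
      mul_comm]
  -- the action is free
  have hfree : ∀ (α : A) (y : S), α • y = y → α = 1 := by
    intro α y hαy
    have hgen : Subgroup.closure (Set.range y.1) = ⊤ := by
      apply frattini_nongenerating
      rw [eq_top_iff, ← hx]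
      refine sup_le ?_ le_sup_right
      rw [Subgroup.closure_le]
      rintro _ ⟨i, rfl⟩
      have : x i = (y.1 i * (x i)⁻¹)⁻¹ * y.1 i := by group
      show x i ∈ Subgroup.closure (Set.range y.1) ⊔ frattini P
      rw [this]
      exact mul_mem (Subgroup.mem_sup_right (inv_mem (y.2 i)))
        (Subgroup.mem_sup_left (Subgroup.subset_closure ⟨i, rfl⟩))
    have hfix : ∀ i, (α : MulAut P) (y.1 i) = y.1 i := by
      intro i
      have := congrArg (fun z : S => z.1 i) hαy
      exact this
    have hall : ∀ g : P, (α : MulAut P) g = g := by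
      intro g
      have hg : g ∈ Subgroup.closure (Set.range y.1) := by rw [hgen]; trivial
      induction hg using Subgroup.closure_induction with
      | mem z hz =>
        obtain ⟨i, rfl⟩ := hz
        exact hfix i
      | one => exact map_one _
      | mul a b _ _ ha hb => rw [map_mul, ha, hb]
      | inv a _ ha => rw [map_inv, ha]
    apply Subtype.ext
    apply MulEquiv.ext
    intro g
    exact hall g
  -- Burnside counting
  have := Fintype.ofFinite A
  have hfin : Finite S := by
    have : Finite (Fin r → P) := inferInstance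
    exact Subtype.finite
  have hB := Cfsg.Agent.Lib.Helper19.burnside_natCard (G := A) (Ω := S)
  have hsum : ∑ α : A, Nat.card (MulAction.fixedBy S α) = Nat.card S := by
    rw [← Finset.add_sum_erase Finset.univ _ (Finset.mem_univ (1 : A))]
    have h1 : Nat.card (MulAction.fixedBy S (1 : A)) = Nat.card S := by
      have : MulAction.fixedBy S (1 : A) = Set.univ := by
        ext q; simp
      rw [this, Nat.card_coe_set_eq, Set.ncard_univ]
    have h2 : ∑ α ∈ Finset.univ.erase (1 : A), Nat.card (MulAction.fixedBy S α) = 0 := by
      apply Finset.sum_eq_zero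
      intro α hα
      have hα1 : α ≠ 1 := Finset.ne_of_mem_erase hα
      have : IsEmpty (MulAction.fixedBy S α) := by
        refine ⟨fun q => hα1 (hfree α q.1 q.2)⟩
      exact Nat.card_of_isEmpty
    rw [h1, h2, add_zero]
  rw [hsum, hcardS] at hB
  exact Dvd.intro_left _ hB.symm

end Cfsg.Agent.S4207
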