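import Cfsg.Statements.S0914
-- import your own Cfsg.Agent.* helpers here

import Mathlib
import Cfsg.Agent.Lib.Helper6.Osima2
import Cfsg.Agent.Lib.Lead.CharEquiv
import Cfsg.Agent.Lib.Lead.CharDecomp

set_option autoImplicit false
open Cfsg

namespace Cfsg.Agent.S0914

open Cfsg.Agent.Lib.Helper6 Cfsg.Agent.Lib.Helper24 Cfsg.Agent.CharLib
open scoped ComplexConjugate

/-- A character vanishing on all `p`-singular elements has degree divisible by the order of a Sylow
`p`-subgroup. -/
theorem exists_apply_one_eq_mul_card_sylow {G : Type*} [Group G] [Fintype G] (p : ℕ)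
    [hpp : Fact p.Prime] {χ : G → ℂ} (hχ : IsCharacter G χ)
    (hvan : ∀ g : G, p ∣ orderOf g → χ g = 0) (P : Sylow p G) :
    ∃ n : ℕ, χ 1 = (n : ℂ) * (Nat.card P : ℂ) := by
  classical
  let _ : Fintype (P : Subgroup G) := Fintype.ofFinite _
  obtain ⟨n, hn⟩ := IsCharacter.classInner_nat (IsCharacter.restrict hχ (P : Subgroup G))
    (isCharacter_one (G := (P : Subgroup G)))
  refine ⟨n, ?_⟩
  unfold classInner at hn
  have h1 : ∑ u : (P : Subgroup G), χ (u : G) * conj ((1 : ↥(P : Subgroup G) → ℂ) u) = χ 1 := by
    rw [Finset.sum_eq_single (1 : (P : Subgroup G))]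
    · simp
    · intro u _ hu
      have h2 : p ∣ orderOf (u : G) := by
        obtain ⟨k, hk⟩ := (IsPGroup.iff_orderOf.mp P.isPGroup') u
        rw [Subgroup.orderOf_coe, hk]
        have hk0 : k ≠ 0 := by
          intro h0
          rw [h0, pow_zero, orderOf_eq_one_iff] at hk
          exact hu hk
        exact dvd_pow_self p hk0
      rw [hvan _ h2, zero_mul]
    · intro h
      exact absurd (Finset.mem_univ _) h
  rw [h1] at hn
  have hP0 : (Nat.card (P : Subgroup G) : ℂ) ≠ 0 := Nat.cast_ne_zero.mpr Nat.card_pos.ne'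
  field_simp at hn
  rw [hn]; ring

/-- Let χ be an irreducible character of the finite group G, p a prime and M a maximal ideal of the algebraic integers containing p. Then p does not divide the integer (Nat.card G) / χ(1) if and only if the block of χ relative to M consists of χ alone. -/
theorem result {G : Type*} [Group G] [Finite G] (p : ℕ) [Fact p.Prime] (M : Ideal Cfsg.AlgInt) (hM : Cfsg.IsPModular p M) (χ : Cfsg.IrrCharacter G) : ¬ p ∣ Nat.card G / Cfsg.charDegree (χ : G → ℂ) ↔ Cfsg.blockOf M (χ : G → ℂ) = {χ} := by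
  classical
  let _ := Fintype.ofFinite G
  have hprime : M.IsPrime := isPrime_of_isPModular hM
  have hd1 := irr_apply_one χ
  have hdvd := irr_charDegree_dvd_card χ
  have hdpos := irr_charDegree_pos χ
  set d := charDegree (χ : G → ℂ) with hd
  have hG0 : (Nat.card G : ℂ) ≠ 0 := Nat.cast_ne_zero.mpr Nat.card_pos.ne'
  have hsingle : ∀ g : G, blockCoeff ({χ} : Set (IrrCharacter G)) g =
      (Nat.card G : ℂ)⁻¹ * ((χ : G → ℂ) 1 * conj ((χ : G → ℂ) g)) := by
    intro g
    unfold blockCoeff
    rw [finsum_mem_singleton]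
  constructor
  · intro hnd
    ext ψ
    rw [Set.mem_singleton_iff]
    constructor
    · intro hψ
      by_contra hne
      have heC : IsClassFunction G (blockCoeff ({χ} : Set (IrrCharacter G))) :=
        blockCoeff_isClassFunction _
      have heR : ∀ g, MemLocalRing M (blockCoeff ({χ} : Set (IrrCharacter G)) g) := by
        intro g
        rw [hsingle, hd1]
        obtain ⟨m, hm⟩ := hdvd
        have hm' : Nat.card G / d = m := by rw [hm]; exact Nat.mul_div_cancel_left m hdpos
        rw [hm'] at hnd
        have hmM : (m : AlgInt) ∉ M := natCast_not_mem_of_not_dvd hM hnd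
        have hint : IsIntegral ℤ (conj ((χ : G → ℂ) g)) := by
          rw [← irr_apply_inv]
          exact irr_isIntegral χ g⁻¹
        have h1 : (Nat.card G : ℂ)⁻¹ * ((d : ℂ) * conj ((χ : G → ℂ) g)) =
            ((1 : AlgInt) : ℂ) / ((m : AlgInt) : ℂ) * conj ((χ : G → ℂ) g) := by
          have hd0 : (d : ℂ) ≠ 0 := Nat.cast_ne_zero.mpr hdpos.ne'
          have hm0 : (m : ℂ) ≠ 0 := by
            intro h0
            have : m = 0 := by exact_mod_cast h0
            rw [this, mul_zero] at hm
            exact Nat.card_pos.ne' hm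
          rw [hm]
          push_cast
          field_simp
        rw [h1]
        exact memLocalRing_mul ⟨1, m, hmM, rfl⟩
          (memLocalRing_of_algInt ⟨_, hint⟩ hprime.one_notMem)
      have h2 := memLocalIdeal_omegaFun_sub χ ψ hψ heC heR
      rw [omegaFun_blockCoeff, omegaFun_blockCoeff, if_pos (Set.mem_singleton χ),
        if_neg (by rw [Set.mem_singleton_iff]; exact hne), sub_zero] at h2
      exact not_memLocalIdeal_one h2
    · intro hψ
      rw [hψ]
      exact mem_blockOf_self χ
  · intro hB hpd
    have hvan : ∀ g : G, p ∣ orderOf g → (χ : G → ℂ) g = 0 := by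
      intro g hg
      have h1 := blockCoeff_eq_zero_of_dvd_orderOf hM χ g hg
      rw [hB, hsingle] at h1
      rcases mul_eq_zero.mp h1 with h2 | h2
      · exact absurd (inv_eq_zero.mp h2) hG0
      · rcases mul_eq_zero.mp h2 with h3 | h3
        · exact absurd h3 (irr_apply_one_ne_zero χ)
        · exact (map_eq_zero _).mp h3
    obtain ⟨P⟩ : Nonempty (Sylow p G) := inferInstance
    obtain ⟨n, hn⟩ := exists_apply_one_eq_mul_card_sylow p (IsIrrCharacter.isCharacter χ.2) hvan P
    rw [hd1] at hn
    have hn' : d = n * Nat.card P := by exact_mod_cast hn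
    have hPcard : Nat.card P = p ^ (Nat.card G).factorization p := P.card_eq_multiplicity
    -- p * d ∣ |G|
    have h1 : p * d ∣ Nat.card G := by
      obtain ⟨m, hm⟩ := hdvd
      have hm' : Nat.card G / d = m := by rw [hm]; exact Nat.mul_div_cancel_left m hdpos
      rw [hm'] at hpd
      obtain ⟨m', rfl⟩ := hpd
      exact ⟨m', by rw [hm]; ring⟩
    have h2 : p ^ ((Nat.card G).factorization p + 1) ∣ Nat.card G := by
      refine dvd_trans ?_ h1
      rw [hn', hPcard, pow_succ]
      exact ⟨n, by ring⟩
    exact Nat.pow_succ_factorization_not_dvd Nat.card_pos.ne' (Fact.out : p.Prime) h2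

end Cfsg.Agent.S0914
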