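import Cfsg.Statements.S1018
import Mathlib
import Cfsg.Agent.Lib.Helper17.Basic

set_option linter.unusedSectionVars false

set_option autoImplicit false
open Cfsg

namespace Cfsg.Agent.S1018

variable {G : Type*} [Group G] [Finite G] (p : ℕ) [Fact p.Prime] (P : Sylow p G)

lemma isPGroup_zpowers (w : G) (hw : orderOf w = p) : IsPGroup p (Subgroup.zpowers w) := by
  apply IsPGroup.of_card (n := 1)
  rw [Nat.card_zpowers, hw, pow_one]

lemma mem_of_mem_normalizer (w : G) (hw : orderOf w = p)
    (hwN : w ∈ Subgroup.normalizer ((P : Subgroup G) : Set G)) : w ∈ (P : Subgroup G) := by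
  have h1 := isPGroup_zpowers p w hw
  have h2 : Subgroup.zpowers w ≤ Subgroup.normalizer ((P : Subgroup G) : Set G) := by
    rw [Subgroup.zpowers_le]; exact hwN
  have h3 : IsPGroup p (Subgroup.zpowers w ⊔ (P : Subgroup G) : Subgroup G) :=
    IsPGroup.to_sup_of_normal_right' h1 P.2 h2
  have h4 := P.is_maximal' h3 le_sup_right
  have : Subgroup.zpowers w ≤ (P : Subgroup G) := by rw [← h4]; exact le_sup_left
  exact this (Subgroup.mem_zpowers w)

lemma zpowers_eq (hP : Nat.card ↥(P : Subgroup G) = p) (w : G) (hw : orderOf w = p)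
    (hwP : w ∈ (P : Subgroup G)) : Subgroup.zpowers w = (P : Subgroup G) := by
  apply Subgroup.eq_of_le_of_card_ge
  · rw [Subgroup.zpowers_le]; exact hwP
  · rw [Nat.card_zpowers, hw, hP]

lemma exists_conj_mem (y : G) (hy : orderOf y = p) : ∃ g : G, g⁻¹ * y * g ∈ (P : Subgroup G) := by
  have h1 := isPGroup_zpowers p y hy
  obtain ⟨Q, hQ⟩ := h1.exists_le_sylow
  obtain ⟨g, rfl⟩ := MulAction.exists_smul_eq G P Q
  have : y ∈ ((g • P : Sylow p G) : Subgroup G) := hQ (Subgroup.mem_zpowers y)
  rw [Sylow.coe_subgroup_smul, Subgroup.mem_pointwise_smul_iff_inv_smul_mem] at this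
  refine ⟨g, ?_⟩
  simpa [MulAut.smul_def] using this

lemma smul_mk_eq_iff (N : Subgroup G) (y h : G) :
    y • (h : G ⧸ N) = (h : G ⧸ N) ↔ h⁻¹ * y * h ∈ N := by
  rw [MulAction.Quotient.smul_coe] 
  rw [QuotientGroup.eq]
  simp only [smul_eq_mul, mul_inv_rev]
  constructor
  · intro hh
    have := N.inv_mem hh
    simpa [mul_assoc] using this
  · intro hh
    have := N.inv_mem hh
    simpa [mul_assoc] using this

theorem part1 (hP : Nat.card ↥(P : Subgroup G) = p) (y : G) (hy : orderOf y = p) :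
    Nat.card (MulAction.fixedBy (G ⧸ Subgroup.normalizer ((P : Subgroup G) : Set G)) y) = 1 := by
  obtain ⟨g, hg⟩ := exists_conj_mem p P y hy
  rw [Nat.card_eq_one_iff_exists]
  have hle : (P : Subgroup G) ≤ Subgroup.normalizer ((P : Subgroup G) : Set G) := Subgroup.le_normalizer
  refine ⟨⟨(g : G ⧸ _), ?_⟩, ?_⟩
  · rw [MulAction.mem_fixedBy, smul_mk_eq_iff]; exact hle hg
  · rintro ⟨a, ha⟩
    rw [Subtype.mk.injEq]
    induction a using QuotientGroup.induction_on with
    | H h =>
      rw [MulAction.mem_fixedBy, smul_mk_eq_iff] at ha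
      have ho : orderOf (h⁻¹ * y * h) = p := by
        have : SemiconjBy h⁻¹ y (h⁻¹ * y * h) := by unfold SemiconjBy; group
        rw [← this.orderOf_eq]; exact hy
      have hm := mem_of_mem_normalizer p P _ ho ha
      have ho' : orderOf (g⁻¹ * y * g) = p := by
        have : SemiconjBy g⁻¹ y (g⁻¹ * y * g) := by unfold SemiconjBy; group
        rw [← this.orderOf_eq]; exact hy
      have e1 := zpowers_eq p P hP _ ho hm
      have e2 := zpowers_eq p P hP _ ho' hg
      rw [eq_comm, QuotientGroup.eq]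
      apply Cfsg.Agent.Lib.Helper17.mem_normalizer_of_forall_conj_mem
      intro x hx
      rw [← e1] at hx
      obtain ⟨k, rfl⟩ := Subgroup.mem_zpowers_iff.mp hx
      have e3 : g⁻¹ * h * (h⁻¹ * y * h)^k * (g⁻¹ * h)⁻¹ = (g⁻¹ * y * g)^k := by
        rw [← conj_zpow]; congr 1; group
      rw [e3, ← e2]
      exact Subgroup.zpow_mem_zpowers _ k



lemma orderOf_eq_of_mem (hP : Nat.card ↥(P : Subgroup G) = p) (w : G) 
    (hwP : w ∈ (P : Subgroup G)) (hw1 : w ≠ 1) : orderOf w = p := by
  have h1 := Subgroup.orderOf_dvd_natCard (P : Subgroup G) hwP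
  rw [hP] at h1
  rcases (Nat.dvd_prime (Fact.out : p.Prime)).mp h1 with h | h
  · exact absurd (orderOf_eq_one_iff.mp h) hw1
  · exact h

lemma smul_zpow_fixed {α : Type*} [MulAction G α] {z : G} {b : α} (h : z • b = b) (k : ℤ) :
    (z ^ k) • b = b := by
  have : z ∈ MulAction.stabilizer G b := h
  exact (MulAction.stabilizer G b).zpow_mem this k

theorem part2 (hP : Nat.card ↥(P : Subgroup G) = p) (x : G)
    (hxN : x ∈ Subgroup.normalizer ((P : Subgroup G) : Set G))
    (hxC : x ∉ Subgroup.centralizer ((P : Subgroup G) : Set G)) :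
    Nat.card (MulAction.fixedBy (G ⧸ Subgroup.normalizer ((P : Subgroup G) : Set G)) x) ≤ Nat.card (MulAction.orbitRel.Quotient ↥(P : Subgroup G) (G ⧸ Subgroup.normalizer ((P : Subgroup G) : Set G))) := by
  apply Nat.card_le_card_of_injective (fun a => (Quotient.mk'' a.1 : MulAction.orbitRel.Quotient ↥(P : Subgroup G) (G ⧸ Subgroup.normalizer ((P : Subgroup G) : Set G))))
  rintro ⟨a, ha⟩ ⟨b, hb⟩ hab
  simp only at hab
  rw [Subtype.mk.injEq]
  rw [Quotient.eq''] at hab
  change a ∈ MulAction.orbit _ b at hab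
  obtain ⟨⟨y, hyP⟩, hy⟩ := hab
  replace hy : y • b = a := hy
  rw [MulAction.mem_fixedBy] at ha hb
  by_cases hy1 : y = 1
  · rw [← hy, hy1, one_smul]
  have hoy := orderOf_eq_of_mem p P hP y hyP hy1
  have hzP : y⁻¹ * (x * y * x⁻¹) ∈ (P : Subgroup G) :=
    (P : Subgroup G).mul_mem ((P : Subgroup G).inv_mem hyP)
      (Cfsg.Agent.Lib.Helper17.conj_mem_of_mem_normalizer hxN hyP)
  have hzb : (y⁻¹ * (x * y * x⁻¹)) • b = b := by
    have hb' : x⁻¹ • b = b := by rw [inv_smul_eq_iff, hb]
    rw [mul_smul, mul_smul, mul_smul, hb', hy, ha, ← hy, inv_smul_smul]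
  by_cases hz1 : y⁻¹ * (x * y * x⁻¹) = 1
  · exfalso
    apply hxC
    have hcomm : y * x = x * y := by
      have : x * y * x⁻¹ = y := by
        have := congrArg (fun t => y * t) hz1
        simpa using this
      calc y * x = (x * y * x⁻¹) * x := by rw [this]
        _ = x * y := by group
    rw [Subgroup.mem_centralizer_iff]
    intro h hh
    have hh' : h ∈ (P : Subgroup G) := hh
    rw [← zpowers_eq p P hP y hoy hyP] at hh'
    obtain ⟨k, rfl⟩ := Subgroup.mem_zpowers_iff.mp hh'
    exact ((Commute.zpow_left (show Commute y x from hcomm) k)).eq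
  · have hoz := orderOf_eq_of_mem p P hP _ hzP hz1
    have hyz : y ∈ Subgroup.zpowers (y⁻¹ * (x * y * x⁻¹)) := by
      rw [zpowers_eq p P hP _ hoz hzP]; exact hyP
    obtain ⟨k, hk⟩ := Subgroup.mem_zpowers_iff.mp hyz
    rw [← hy, ← hk]
    exact smul_zpow_fixed hzb k



/-- Let P be a Sylow p-subgroup of order p of a finite group G, and consider the action of G on the left cosets of the normalizer N of P. Then every element of order p fixes exactly one coset, and an element of N that does not centralize P fixes at most as many cosets as there are orbits of P. -/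
theorem result {G : Type*} [Group G] [Finite G] (p : ℕ) [Fact p.Prime] (P : Sylow p G) (hP : Nat.card ↥(P : Subgroup G) = p) : (∀ y : G, orderOf y = p → Nat.card (MulAction.fixedBy (G ⧸ Subgroup.normalizer ((P : Subgroup G) : Set G)) y) = 1) ∧ ∀ x : G, x ∈ Subgroup.normalizer ((P : Subgroup G) : Set G) → x ∉ Subgroup.centralizer ((P : Subgroup G) : Set G) → Nat.card (MulAction.fixedBy (G ⧸ Subgroup.normalizer ((P : Subgroup G) : Set G)) x) ≤ Nat.card (MulAction.orbitRel.Quotient ↥(P : Subgroup G) (G ⧸ Subgroup.normalizer ((P : Subgroup G) : Set G))) := by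
  exact ⟨fun y hy => part1 p P hP y hy, fun x hxN hxC => part2 p P hP x hxN hxC⟩

end Cfsg.Agent.S1018
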