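import Cfsg.Statements.S0499
-- import your own Cfsg.Agent.* helpers here
import Mathlib
import Cfsg.Agent.Lib.Helper29.Frobenius
import Cfsg.Agent.Lib.Helper29.PrimePowerElement

set_option autoImplicit false
open Cfsg

namespace Cfsg.Agent.S0499

open Subgroup
open Cfsg.Agent.Lib.Helper29

/-- the conjugation action of the cyclic group `⟨g⟩` on a subgroup `Q` normalized by `g` -/
@[reducible] def conjActZ {G : Type*} [Group G] (Q : Subgroup G) (g : G)
    (hg : g ∈ normalizer (Q : Set G)) : MulAction (zpowers g) Q where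
  smul z q := ⟨z * q * (z : G)⁻¹,
    (Subgroup.mem_normalizer_iff.mp ((zpowers_le.mpr hg) z.2) q).mp q.2⟩
  one_smul q := by
    apply Subtype.ext
    change ((1 : zpowers g) : G) * q * ((1 : zpowers g) : G)⁻¹ = q
    simp
  mul_smul a b q := by
    apply Subtype.ext
    change ((a * b : zpowers g) : G) * q * ((a * b : zpowers g) : G)⁻¹ =
      (a : G) * ((b : G) * q * (b : G)⁻¹) * (a : G)⁻¹
    simp [mul_assoc]

theorem card_modEq_card_fixed {G : Type*} [Group G] [Finite G] (Q : Subgroup G) (g : G)
    (hg : g ∈ normalizer (Q : Set G)) (r k : ℕ) [Fact r.Prime] (ho : orderOf g = r ^ k) :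
    Nat.card Q ≡ Nat.card (Q ⊓ centralizer (zpowers g : Set G) : Subgroup G) [MOD r] := by
  let _ : MulAction (zpowers g) Q := conjActZ Q g hg
  have hZ : IsPGroup r (zpowers g) := IsPGroup.of_card (n := k) (by rw [Nat.card_zpowers, ho])
  have h1 := hZ.card_modEq_card_fixedPoints Q
  have hset : Subtype.val '' (MulAction.fixedPoints (zpowers g) Q) =
      ((Q ⊓ centralizer (zpowers g : Set G) : Subgroup G) : Set G) := by
    ext x
    constructor
    · rintro ⟨q, hq, rfl⟩
      refine ⟨q.2, ?_⟩
      change (q : G) ∈ centralizer (zpowers g : Set G)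
      rw [Subgroup.mem_centralizer_iff]
      intro z hz
      have := hq ⟨z, hz⟩
      have h3 : z * (q : G) * z⁻¹ = q := congrArg Subtype.val this
      calc z * (q : G) = z * (q : G) * z⁻¹ * z := by group
        _ = q * z := by rw [h3]
    · rintro ⟨hxQ, hxc⟩
      refine ⟨⟨x, hxQ⟩, ?_, rfl⟩
      intro z
      apply Subtype.ext
      change (z : G) * x * (z : G)⁻¹ = x
      change x ∈ centralizer (zpowers g : Set G) at hxc
      rw [Subgroup.mem_centralizer_iff] at hxc
      rw [hxc z z.2]; group
  have h2 : Nat.card (MulAction.fixedPoints (zpowers g) Q) =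
      Nat.card (Q ⊓ centralizer (zpowers g : Set G) : Subgroup G) := by
    rw [Nat.card_coe_set_eq, ← Set.ncard_image_of_injective _ Subtype.val_injective, hset,
      ← Nat.card_coe_set_eq]
    rfl
  rw [h2] at h1
  exact h1

/-- A non-abelian finite simple group of even order has order divisible by 12, 16 or 56. -/
theorem result {G : Type*} [Group G] [Finite G] [IsSimpleGroup G]
    (hG : ¬ IsMulCommutative G) (h2 : Even (Nat.card G)) :
    12 ∣ Nat.card G ∨ 16 ∣ Nat.card G ∨ 56 ∣ Nat.card G := by
  by_contra hcon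
  push Not at hcon
  obtain ⟨h12, h16, h56⟩ := hcon
  have : Fact (Nat.Prime 2) := ⟨Nat.prime_two⟩
  obtain ⟨P⟩ : Nonempty (Sylow 2 G) := inferInstance
  obtain ⟨n, hn⟩ : ∃ n, n = (Nat.card G).factorization 2 := ⟨_, rfl⟩
  have hPcard : Nat.card P = 2 ^ n := by rw [hn]; exact P.card_eq_multiplicity
  have hPdvd : 2 ^ n ∣ Nat.card G := hPcard ▸ Subgroup.card_subgroup_dvd_card _
  have hn3 : n ≤ 3 := by
    by_contra h
    push Not at h
    exact h16 ((pow_dvd_pow 2 (show 4 ≤ n from h)).trans hPdvd)
  have hn1 : 1 ≤ n := by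
    have h2' : 2 ^ 1 ∣ Nat.card G := by simpa using even_iff_two_dvd.mp h2
    rw [hn]
    exact (Nat.prime_two.pow_dvd_iff_le_factorization Nat.card_pos.ne').mp h2'
  have h3 : 3 ∣ Nat.card G → n < 2 := by
    intro h3
    by_contra h
    push Not at h
    apply h12
    have h4 : 2 ^ 2 ∣ Nat.card G := (pow_dvd_pow 2 h).trans hPdvd
    exact Nat.Coprime.mul_dvd_of_dvd_of_dvd (by norm_num : Nat.Coprime (2 ^ 2) 3) h4 h3
  have h7 : 7 ∣ Nat.card G → n < 3 := by
    intro h7
    by_contra h
    push Not at h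
    apply h56
    have h8 : 2 ^ 3 ∣ Nat.card G := (pow_dvd_pow 2 h).trans hPdvd
    exact Nat.Coprime.mul_dvd_of_dvd_of_dvd (by norm_num : Nat.Coprime (2 ^ 3) 7) h8 h7
  have hF : FrobCond 2 G := by
    apply frobCond_of_sylow P
    intro Q hQP g hg hcop
    by_contra hgc
    obtain ⟨g', hg'z, hg'c, r, k, hr, hg'o⟩ :=
      exists_prime_pow_order_not_mem (centralizer (Q : Set G)) _ g rfl hgc
    have : Fact r.Prime := ⟨hr⟩
    have hg'n : g' ∈ normalizer (Q : Set G) := (zpowers_le.mpr hg) hg'z
    have hmod := card_modEq_card_fixed Q g' hg'n r k hg'o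
    have hk : k ≠ 0 := by
      intro h0
      rw [h0, pow_zero, orderOf_eq_one_iff] at hg'o
      rw [hg'o] at hg'c
      exact hg'c (one_mem _)
    have hrg : r ∣ orderOf g := by
      have : orderOf g' ∣ orderOf g := orderOf_dvd_of_mem_zpowers hg'z
      rw [hg'o] at this
      exact (dvd_pow_self r hk).trans this
    have hrG : r ∣ Nat.card G := hrg.trans (orderOf_dvd_natCard g)
    have hr2 : r ≠ 2 := by
      rintro rfl
      have := Nat.Coprime.eq_one_of_dvd hcop.symm hrg
      omega
    obtain ⟨a, ha, hQa⟩ := (Nat.dvd_prime_pow Nat.prime_two).mp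
      (hPcard ▸ Subgroup.card_dvd_of_le hQP)
    have hCQ : Q ⊓ centralizer (zpowers g' : Set G) ≤ Q := inf_le_left
    obtain ⟨b, hb, hCb⟩ := (Nat.dvd_prime_pow Nat.prime_two).mp
      (hQa ▸ Subgroup.card_dvd_of_le hCQ)
    have hba : b ≠ a := by
      rintro rfl
      have heq : Q ⊓ centralizer (zpowers g' : Set G) = Q :=
        Subgroup.eq_of_le_of_card_ge hCQ (by rw [hQa, hCb])
      apply hg'c
      rw [Subgroup.mem_centralizer_iff]
      intro q hq
      have hq' : q ∈ Q ⊓ centralizer (zpowers g' : Set G) := by rw [heq]; exact hq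
      have := (Subgroup.mem_centralizer_iff.mp hq'.2) g' (Subgroup.mem_zpowers g')
      exact this.symm
    rw [hQa, hCb] at hmod
    obtain ⟨c, rfl⟩ : ∃ c, a = b + c := ⟨a - b, by omega⟩
    have hc1 : 1 ≤ c := by omega
    have hc3 : c ≤ 3 := by omega
    have hmod' : 2 ^ c ≡ 1 [MOD r] := by
      have hcop2 : Nat.gcd r (2 ^ b) = 1 :=
        Nat.Coprime.pow_right b ((Nat.coprime_primes hr Nat.prime_two).mpr hr2)
      apply Nat.ModEq.cancel_left_of_coprime hcop2
      rw [mul_one, ← pow_add]
      exact hmod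
    interval_cases c
    · have : r ∣ 2 ^ 1 - 1 := (Nat.modEq_iff_dvd' (by norm_num)).mp hmod'.symm
      have : r = 1 := by simpa using this
      exact hr.one_lt.ne' this
    · have : r ∣ 2 ^ 2 - 1 := (Nat.modEq_iff_dvd' (by norm_num)).mp hmod'.symm
      have h33 : r = 3 := (Nat.prime_dvd_prime_iff_eq hr Nat.prime_three).mp (by simpa using this)
      have := h3 (h33 ▸ hrG)
      omega
    · have : r ∣ 2 ^ 3 - 1 := (Nat.modEq_iff_dvd' (by norm_num)).mp hmod'.symm
      have h77 : r = 7 := (Nat.prime_dvd_prime_iff_eq hr (by norm_num)).mp (by simpa using this)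
      have := h7 (h77 ▸ hrG)
      omega
  obtain ⟨N, hNn, hNc⟩ := hF.exists_normal_complement P
  rcases hNn.eq_bot_or_eq_top with h | h
  · -- P = ⊤ : G is a 2-group
    rw [h, isComplement'_bot_left] at hNc
    have hG2 : IsPGroup 2 G := by
      have := P.2
      rw [hNc] at this
      exact IsPGroup.of_equiv this Subgroup.topEquiv
    have : Nontrivial G := IsSimpleGroup.toNontrivial
    have hcn : Nontrivial (center G) := hG2.center_nontrivial
    have hct : center G = ⊤ := by
      rcases (inferInstance : (center G).Normal).eq_bot_or_eq_top with h0 | h0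
      · exfalso
        rw [Subgroup.nontrivial_iff_ne_bot] at hcn
        exact hcn h0
      · exact h0
    apply hG
    refine ⟨⟨fun x y => ?_⟩⟩
    have hx : x ∈ center G := by rw [hct]; trivial
    exact (Subgroup.mem_center_iff.mp hx y).symm
  · rw [h, isComplement'_top_left] at hNc
    have : Nat.card (P : Subgroup G) = 1 := by rw [hNc]; exact Subgroup.card_bot
    rw [hPcard] at this
    have : n = 0 := by
      by_contra h0
      have := Nat.one_lt_pow h0 (by norm_num : 1 < 2)
      omega
    omega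

end Cfsg.Agent.S0499
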