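import Cfsg.Statements.S4337
-- import your own Cfsg.Agent.* helpers here

set_option autoImplicit false
open Cfsg

namespace Cfsg.Agent.S4337

open Equiv
open scoped commutatorElement

set_option maxRecDepth 100000 in
theorem v4_mul : ∀ a b : Perm (Fin 4), (Perm.sign a = 1 ∧ a * a = 1) → (Perm.sign b = 1 ∧ b * b = 1) →
    (Perm.sign (a * b) = 1 ∧ (a * b) * (a * b) = 1) := by
  decide

set_option maxRecDepth 100000 in
theorem v4_inv : ∀ a : Perm (Fin 4), (Perm.sign a = 1 ∧ a * a = 1) →
    (Perm.sign a⁻¹ = 1 ∧ a⁻¹ * a⁻¹ = 1) := by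
  decide

set_option maxRecDepth 100000 in
theorem a4_comm : ∀ g₁ g₂ : Perm (Fin 4), Perm.sign g₁ = 1 → Perm.sign g₂ = 1 →
    (Perm.sign ⁅g₁, g₂⁆ = 1 ∧ ⁅g₁, g₂⁆ * ⁅g₁, g₂⁆ = 1) := by
  decide

set_option maxRecDepth 100000 in
theorem v4_comm : ∀ g₁ g₂ : Perm (Fin 4), (Perm.sign g₁ = 1 ∧ g₁ * g₁ = 1) →
    (Perm.sign g₂ = 1 ∧ g₂ * g₂ = 1) → ⁅g₁, g₂⁆ = 1 := by
  decide

/-- The Klein four-group inside `Perm (Fin 4)`: the even permutations of square one. -/
def V4 : Subgroup (Perm (Fin 4)) where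
  carrier := {σ | Perm.sign σ = 1 ∧ σ * σ = 1}
  mul_mem' := fun {a b} ha hb => v4_mul a b ha hb
  one_mem' := by simp
  inv_mem' := fun {a} ha => v4_inv a ha

theorem derivedSeries_perm_fin4 : derivedSeries (Perm (Fin 4)) 3 = ⊥ := by
  have h1 : derivedSeries (Perm (Fin 4)) 1 ≤ alternatingGroup (Fin 4) := by
    rw [derivedSeries_succ, Subgroup.commutator_le]
    intro g₁ _ g₂ _
    rw [Perm.mem_alternatingGroup, map_commutatorElement]
    exact commutatorElement_eq_one_iff_commute.mpr (Commute.all _ _)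
  have h2 : derivedSeries (Perm (Fin 4)) 2 ≤ V4 := by
    rw [derivedSeries_succ]
    refine (Subgroup.commutator_mono h1 h1).trans ?_
    rw [Subgroup.commutator_le]
    intro g₁ hg₁ g₂ hg₂
    exact a4_comm g₁ g₂ (Perm.mem_alternatingGroup.mp hg₁) (Perm.mem_alternatingGroup.mp hg₂)
  rw [eq_bot_iff, derivedSeries_succ]
  refine (Subgroup.commutator_mono h2 h2).trans ?_
  rw [Subgroup.commutator_le]
  intro g₁ hg₁ g₂ hg₂
  rw [Subgroup.mem_bot]
  exact v4_comm g₁ g₂ hg₁ hg₂

theorem derivedSeries_eq_bot_of_injective {G G' : Type*} [Group G] [Group G'] (f : G →* G')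
    (hf : Function.Injective f) (n : ℕ) (h : derivedSeries G' n = ⊥) : derivedSeries G n = ⊥ := by
  rw [eq_bot_iff]
  intro x hx
  have h1 : f x ∈ (derivedSeries G n).map f := ⟨x, hx, rfl⟩
  have h2 := map_derivedSeries_le_derivedSeries f n h1
  rw [h, Subgroup.mem_bot] at h2
  rw [Subgroup.mem_bot]
  exact hf (h2.trans (map_one f).symm)

theorem derivedSeries_perm_small {β : Type*} [Fintype β] (hβ : Fintype.card β ≤ 4) :
    derivedSeries (Perm β) 3 = ⊥ := by
  classical
  obtain ⟨ι⟩ : Nonempty (β ↪ Fin 4) :=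
    Function.Embedding.nonempty_of_card_le (by simpa using hβ)
  exact derivedSeries_eq_bot_of_injective (Perm.viaEmbeddingHom ι)
    (Perm.viaEmbeddingHom_injective ι) 3 derivedSeries_perm_fin4

/-- Subgroup of permutations stabilizing a set. -/
def stab {α : Type*} (s : Set α) : Subgroup (Perm α) where
  carrier := {k | ∀ y, k y ∈ s ↔ y ∈ s}
  mul_mem' := by
    intro a b ha hb y
    rw [Perm.mul_apply, ha, hb]
  one_mem' := by intro y; simp
  inv_mem' := by
    intro a ha y
    rw [← ha (a⁻¹ y)]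
    simp

theorem swap_mem_stab {α : Type*} [DecidableEq α] (s : Set α) (u v : α) (h : u ∈ s ↔ v ∈ s) :
    swap u v ∈ stab s := by
  intro y
  by_cases hu : y = u
  · subst hu; rw [swap_apply_left]; exact h.symm
  · by_cases hv : y = v
    · subst hv; rw [swap_apply_right]; exact h
    · rw [swap_apply_of_ne_of_ne hu hv]

/-- A permutation group all of whose points lie in an invariant set with at most four elements
is solvable. -/
theorem solvable_of_small_invariant {α : Type*} [DecidableEq α] (K : Subgroup (Perm α))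
    (h : ∀ x : α, ∃ s : Finset α, x ∈ s ∧ s.card ≤ 4 ∧ K ≤ stab (s : Set α)) :
    Group.IsSolvable K := by
  rw [Group.isSolvable_def]
  refine ⟨3, ?_⟩
  rw [eq_bot_iff]
  intro k hk
  rw [Subgroup.mem_bot]
  apply Subtype.ext
  apply Perm.ext
  intro x
  obtain ⟨s, hxs, hcard, hK⟩ := h x
  -- restriction homomorphism
  let r : K →* Perm {y // y ∈ s} := MonoidHom.mk'
    (fun k => (k : Perm α).subtypePerm (fun y => by simpa using hK k.2 y))
    (fun a b => by
      ext y
      rfl)
  have h1 : r k ∈ (derivedSeries K 3).map r := ⟨k, hk, rfl⟩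
  have h2 := map_derivedSeries_le_derivedSeries r 3 h1
  have hc : Fintype.card {y // y ∈ s} ≤ 4 := by simpa using hcard
  rw [derivedSeries_perm_small hc, Subgroup.mem_bot] at h2
  have h3 := congrArg (fun σ : Perm {y // y ∈ s} => (σ ⟨x, hxs⟩ : α)) h2
  simpa [r] using h3

theorem aux_disj {α : Type*} [DecidableEq α] (A B C : Finset α) (hA : A.card = 2) (hB : B.card = 2)
    (hC : C.card = 2) (h : Disjoint A (B ∪ C)) (x : α) :
    ∃ s : Finset α, x ∈ s ∧ s.card ≤ 4 ∧ (A ⊆ s ∨ Disjoint A s) ∧ (B ⊆ s ∨ Disjoint B s) ∧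
      (C ⊆ s ∨ Disjoint C s) := by
  by_cases hxA : x ∈ A
  · refine ⟨A, hxA, by omega, Or.inl subset_rfl, Or.inr ?_, Or.inr ?_⟩
    · exact (Finset.disjoint_union_right.mp h).1.symm
    · exact (Finset.disjoint_union_right.mp h).2.symm
  · by_cases hxBC : x ∈ B ∪ C
    · refine ⟨B ∪ C, hxBC, ?_, Or.inr h, Or.inl Finset.subset_union_left,
        Or.inl Finset.subset_union_right⟩
      have := Finset.card_union_le B C
      omega
    · refine ⟨{x}, Finset.mem_singleton_self x, by simp, Or.inr ?_, Or.inr ?_, Or.inr ?_⟩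
      · exact Finset.disjoint_singleton_right.mpr hxA
      · exact Finset.disjoint_singleton_right.mpr (fun hb => hxBC (Finset.mem_union_left _ hb))
      · exact Finset.disjoint_singleton_right.mpr (fun hb => hxBC (Finset.mem_union_right _ hb))

theorem card_union3_le {α : Type*} [DecidableEq α] (A B C : Finset α) (hA : A.card = 2)
    (hB : B.card = 2) (hC : C.card = 2) (h1 : ¬ Disjoint A (B ∪ C)) (h2 : ¬ Disjoint B (A ∪ C))
    (h3 : ¬ Disjoint C (A ∪ B)) : (A ∪ B ∪ C).card ≤ 4 := by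
  rw [Finset.union_assoc]
  have e1 := Finset.card_union_add_card_inter A (B ∪ C)
  have e2 := Finset.card_union_add_card_inter B C
  have n1 : 1 ≤ (A ∩ (B ∪ C)).card :=
    Finset.card_pos.mpr (Finset.not_disjoint_iff_nonempty_inter.mp h1)
  by_cases hBC : (B ∩ C).card = 0
  · have hBC' : B ∩ C = ∅ := Finset.card_eq_zero.mp hBC
    have hdisj : Disjoint (A ∩ B) (A ∩ C) := by
      rw [Finset.disjoint_iff_inter_eq_empty]
      have : A ∩ B ∩ (A ∩ C) = A ∩ (B ∩ C) := by
        ext y; simp only [Finset.mem_inter]; tauto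
      rw [this, hBC', Finset.inter_empty]
    have e3 : (A ∩ (B ∪ C)).card = (A ∩ B).card + (A ∩ C).card := by
      rw [Finset.inter_union_distrib_left, Finset.card_union_of_disjoint hdisj]
    have n2 : 1 ≤ (A ∩ B).card := by
      have hne := Finset.not_disjoint_iff_nonempty_inter.mp h2
      have : B ∩ (A ∪ C) = A ∩ B := by
        rw [Finset.inter_union_distrib_left, hBC', Finset.union_empty, Finset.inter_comm]
      rw [this] at hne
      exact Finset.card_pos.mpr hne
    have n3 : 1 ≤ (A ∩ C).card := by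
      have hne := Finset.not_disjoint_iff_nonempty_inter.mp h3
      have : C ∩ (A ∪ B) = A ∩ C := by
        rw [Finset.inter_union_distrib_left, Finset.inter_comm C B, hBC', Finset.union_empty,
          Finset.inter_comm]
      rw [this] at hne
      exact Finset.card_pos.mpr hne
    omega
  · omega

theorem exists_small_closed {α : Type*} [DecidableEq α] (A B C : Finset α) (hA : A.card = 2)
    (hB : B.card = 2) (hC : C.card = 2) (x : α) :
    ∃ s : Finset α, x ∈ s ∧ s.card ≤ 4 ∧ (A ⊆ s ∨ Disjoint A s) ∧ (B ⊆ s ∨ Disjoint B s) ∧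
      (C ⊆ s ∨ Disjoint C s) := by
  by_cases h1 : Disjoint A (B ∪ C)
  · exact aux_disj A B C hA hB hC h1 x
  by_cases h2 : Disjoint B (A ∪ C)
  · obtain ⟨s, hx, hc, hb, ha, hcc⟩ := aux_disj B A C hB hA hC h2 x
    exact ⟨s, hx, hc, ha, hb, hcc⟩
  by_cases h3 : Disjoint C (A ∪ B)
  · obtain ⟨s, hx, hc, hcc, ha, hb⟩ := aux_disj C A B hC hA hB h3 x
    exact ⟨s, hx, hc, ha, hb, hcc⟩
  have hcard := card_union3_le A B C hA hB hC h1 h2 h3
  by_cases hx : x ∈ A ∪ B ∪ C
  · refine ⟨A ∪ B ∪ C, hx, hcard, Or.inl ?_, Or.inl ?_, Or.inl ?_⟩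
    · intro y hy; simp [hy]
    · intro y hy; simp [hy]
    · intro y hy; simp [hy]
  · refine ⟨{x}, Finset.mem_singleton_self x, by simp, Or.inr ?_, Or.inr ?_, Or.inr ?_⟩
    · exact Finset.disjoint_singleton_right.mpr (fun h => hx (by simp [h]))
    · exact Finset.disjoint_singleton_right.mpr (fun h => hx (by simp [h]))
    · exact Finset.disjoint_singleton_right.mpr (fun h => hx (by simp [h]))

theorem mem_iff_of_closed {α : Type*} [DecidableEq α] (u v : α) (s : Finset α)
    (h : ({u, v} : Finset α) ⊆ s ∨ Disjoint ({u, v} : Finset α) s) : u ∈ s ↔ v ∈ s := by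
  rcases h with h | h
  · have hu : u ∈ s := h (by simp)
    have hv : v ∈ s := h (by simp)
    exact ⟨fun _ => hv, fun _ => hu⟩
  · have hu : u ∉ s := Finset.disjoint_left.mp h (by simp)
    have hv : v ∉ s := Finset.disjoint_left.mp h (by simp)
    exact ⟨fun h' => absurd h' hu, fun h' => absurd h' hv⟩


/-- In a finite symmetric group, any three transpositions generate a solvable subgroup. -/
theorem result (n : ℕ) (a b c : Equiv.Perm (Fin n))
    (ha : a.IsSwap) (hb : b.IsSwap) (hc : c.IsSwap) :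
    Group.IsSolvable (Subgroup.closure ({a, b, c} : Set (Equiv.Perm (Fin n)))) := by
  obtain ⟨a1, a2, ha12, rfl⟩ := ha
  obtain ⟨b1, b2, hb12, rfl⟩ := hb
  obtain ⟨c1, c2, hc12, rfl⟩ := hc
  apply solvable_of_small_invariant
  intro x
  obtain ⟨s, hxs, hcard, hA, hB, hC⟩ := exists_small_closed ({a1, a2} : Finset (Fin n)) {b1, b2} {c1, c2}
    (Finset.card_pair ha12) (Finset.card_pair hb12) (Finset.card_pair hc12) x
  refine ⟨s, hxs, hcard, ?_⟩
  rw [Subgroup.closure_le]
  intro k hk
  simp only [Set.mem_insert_iff, Set.mem_singleton_iff] at hk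
  rcases hk with rfl | rfl | rfl
  · exact swap_mem_stab _ _ _ (by simpa using mem_iff_of_closed a1 a2 s hA)
  · exact swap_mem_stab _ _ _ (by simpa using mem_iff_of_closed b1 b2 s hB)
  · exact swap_mem_stab _ _ _ (by simpa using mem_iff_of_closed c1 c2 s hC)

end Cfsg.Agent.S4337
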