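import Cfsg.Statements.S0675
import Mathlib
import Cfsg.Agent.Lib.Helper5.PrimeDeg2
import Cfsg.Agent.S4337

set_option autoImplicit false
open Cfsg

namespace Cfsg.Agent.S0675

section Aux

open Module Cfsg.Agent.Lib.Helper5.PrimeDeg


theorem burnside {α : Type*} [Fintype α] [DecidableEq α] (hα : (Fintype.card α).Prime)
    (G : Subgroup (Equiv.Perm α)) [MulAction.IsPretransitive G α] :
    Group.IsSolvable G ∨ MulAction.IsMultiplyPretransitive G α 2 := by
  classical
  obtain ⟨p, hp⟩ : ∃ p, Fintype.card α = p := ⟨_, rfl⟩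
  have hpr : p.Prime := hp ▸ hα
  have : Fact p.Prime := ⟨hpr⟩
  by_contra hcon
  push Not at hcon
  obtain ⟨hns, h2⟩ := hcon
  have hp5 : 5 ≤ p := by
    by_contra h
    push Not at h
    apply hns
    have : Group.IsSolvable (Equiv.Perm α) :=
      ⟨⟨3, Cfsg.Agent.S4337.derivedSeries_perm_small (by omega)⟩⟩
    infer_instance
  rw [MulAction.is_two_pretransitive_iff] at h2
  push Not at h2
  obtain ⟨a, b, c, d, hab, hcd, hno⟩ := h2
  -- the orbital
  set R : α → α → Prop := fun x y => ∃ g ∈ G, g a = x ∧ g b = y with hR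
  have R_ne : ∀ x y, R x y → x ≠ y := by
    rintro x y ⟨g, -, rfl, rfl⟩ h
    exact hab (g.injective h)
  have R_inv : ∀ g ∈ G, ∀ x y, R x y → R (g x) (g y) := by
    rintro g hg x y ⟨k, hk, rfl, rfl⟩
    exact ⟨g * k, G.mul_mem hg hk, rfl, rfl⟩
  have R_ab : R a b := ⟨1, G.one_mem, rfl, rfl⟩
  have R_cd : ¬ R c d := by
    rintro ⟨g, hg, h1, h2⟩
    exact hno ⟨g, hg⟩ h1 h2
  -- the orbital matrix over the prime field
  set K := ZMod p with hK
  set M : Matrix α α K := fun y x => if R x y then 1 else 0 with hM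
  set ψ : (α → K) →ₗ[K] (α → K) := Matrix.toLin' M with hψ
  have hψapp : ∀ (f : α → K) (y : α), ψ f y = ∑ x, M y x * f x := by
    intro f y
    rw [hψ, Matrix.toLin'_apply]
    rfl
  have hψδ : ∀ x y : α, ψ (Pi.single x 1) y = M y x := by
    intro x y
    rw [hψ, Matrix.toLin'_apply, Matrix.mulVec_single_one]
    rfl
  have hMinv : ∀ g ∈ G, ∀ x y, M (g y) (g x) = M y x := by
    intro g hg x y
    simp only [hM]
    have : R (g x) (g y) ↔ R x y := by
      constructor
      · intro h
        have := R_inv g⁻¹ (G.inv_mem hg) _ _ h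
        simpa using this
      · exact R_inv g hg x y
    rw [if_congr this rfl rfl]
  have hψeq : ∀ g ∈ G, ∀ f : α → K, ψ (f ∘ (g : α → α)) = (ψ f) ∘ (g : α → α) := by
    intro g hg f
    funext y
    rw [Function.comp_apply, hψapp, hψapp, ← Equiv.sum_comp g (fun x => M (g y) x * f x)]
    apply Finset.sum_congr rfl
    intro x _
    rw [hMinv g hg x y]
    rfl
  -- constants
  set one : α → K := fun _ => 1 with hone
  have htrans : ∀ x y : α, ∃ g ∈ G, g x = y := by
    intro x y
    obtain ⟨g, hg⟩ := MulAction.exists_smul_eq G x y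
    exact ⟨g.1, g.2, hg⟩
  have hconst_of_inv : ∀ f : α → K, (∀ g ∈ G, f ∘ (g : α → α) = f) → ∀ y, f y = f a := by
    intro f hf y
    obtain ⟨g, hg, hgy⟩ := htrans a y
    rw [← hgy]
    exact congrFun (hf g hg) a
  set c₀ : K := ψ one a with hc₀
  have hψone : ψ one = c₀ • one := by
    funext y
    rw [Pi.smul_apply, smul_eq_mul, mul_one]
    apply hconst_of_inv
    intro g hg
    rw [← hψeq g hg]
    rfl
  set ψ₁ : (α → K) →ₗ[K] (α → K) := ψ - c₀ • LinearMap.id with hψ₁
  have hψ₁app : ∀ f, ψ₁ f = ψ f - c₀ • f := fun f => rfl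
  have hψ₁one : ψ₁ one = 0 := by rw [hψ₁app, hψone, sub_self]
  have hψ₁eq : ∀ g ∈ G, ∀ f : α → K, ψ₁ (f ∘ (g : α → α)) = (ψ₁ f) ∘ (g : α → α) := by
    intro g hg f
    rw [hψ₁app, hψ₁app, hψeq g hg]
    rfl
  set C : Submodule K (α → K) := Submodule.span K {one} with hC
  have hone0 : one ≠ 0 := fun h => one_ne_zero (congrFun h a)
  have hCfin : finrank K C = 1 := finrank_span_singleton hone0
  have hCinv : ∀ g ∈ G, ∀ f ∈ C, f ∘ (g : α → α) ∈ C := by
    intro g hg f hf
    obtain ⟨t, rfl⟩ := Submodule.mem_span_singleton.mp hf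
    exact Submodule.mem_span_singleton.mpr ⟨t, rfl⟩
  set N := LinearMap.ker ψ₁ with hN
  have hNinv : ∀ g ∈ G, ∀ f ∈ N, f ∘ (g : α → α) ∈ N := by
    intro g hg f hf
    rw [hN, LinearMap.mem_ker] at hf ⊢
    rw [hψ₁eq g hg, hf]
    rfl
  have hCN : C ≤ N := by
    rw [hC, Submodule.span_le, Set.singleton_subset_iff]
    exact hψ₁one
  set I := LinearMap.range ψ₁ with hI
  have hIinv : ∀ g ∈ G, ∀ f ∈ I, f ∘ (g : α → α) ∈ I := by
    rintro g hg _ ⟨f, rfl⟩
    exact ⟨f ∘ (g : α → α), hψ₁eq g hg f⟩
  have hrn : finrank K I + finrank K N = p := by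
    have := LinearMap.finrank_range_add_finrank_ker ψ₁
    rwa [Module.finrank_fintype_fun_eq_card, hp] at this
  have hNdim := finrank_invariant hp G hns N hNinv
  have hN1 : 1 ≤ finrank K N := by rw [← hCfin]; exact Submodule.finrank_mono hCN
  have hMaa : ∀ x, M x x = 0 := by
    intro x
    simp only [hM]
    rw [if_neg]
    exact fun h => R_ne x x h rfl
  have hMba : M b a = 1 := by
    simp only [hM]
    rw [if_pos R_ab]
  rcases hNdim with h | h | h | h
  · omega
  · -- kernel is the constants
    have hNC : N = C := (Submodule.eq_of_le_of_finrank_eq hCN (by rw [hCfin, h])).symm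
    have hIfin : finrank K I = p - 1 := by omega
    have hCI : C ≤ I := invariant_le_of_finrank_le hp G C I hCinv hIinv (by rw [hCfin, hIfin]; omega)
    set U := C.comap ψ₁ with hU
    have hUinv : ∀ g ∈ G, ∀ f ∈ U, f ∘ (g : α → α) ∈ U := by
      intro g hg f hf
      rw [hU, Submodule.mem_comap] at hf ⊢
      rw [hψ₁eq g hg]
      exact hCinv g hg _ hf
    have hNU : N ≤ U := by
      intro f hf
      rw [hU, Submodule.mem_comap, LinearMap.mem_ker.mp hf]
      exact C.zero_mem
    have hUfin : finrank K U = 2 := by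
      have h1 := LinearMap.finrank_range_add_finrank_ker (ψ₁.domRestrict U)
      rw [LinearMap.range_domRestrict, LinearMap.ker_domRestrict, hU, Submodule.map_comap_eq,
        inf_eq_right.mpr hCI, hCfin] at h1
      rw [← hU] at h1
      rw [LinearEquiv.finrank_eq (Submodule.comapSubtypeEquivOfLe hNU), h] at h1
      omega
    have := finrank_invariant hp G hns U hUinv
    omega
  · -- kernel of codimension one
    have hIfin : finrank K I = 1 := by omega
    have hIC : I = C := by
      apply le_antisymm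
      · exact invariant_le_of_finrank_le hp G I C hIinv hCinv (by rw [hCfin, hIfin])
      · exact invariant_le_of_finrank_le hp G C I hCinv hIinv (by rw [hCfin, hIfin])
    have hconst : ∀ (f : α → K) (y y' : α), ψ₁ f y = ψ₁ f y' := by
      intro f y y'
      have : ψ₁ f ∈ C := by rw [← hIC]; exact ⟨f, rfl⟩
      obtain ⟨t, ht⟩ := Submodule.mem_span_singleton.mp this
      rw [← ht]
      rfl
    have hMrow : ∀ x y y' : α, y ≠ x → y' ≠ x → M y x = M y' x := by
      intro x y y' hy hy'
      have := hconst (Pi.single x 1) y y'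
      rw [hψ₁app, Pi.sub_apply, Pi.sub_apply, hψδ, hψδ, Pi.smul_apply, Pi.smul_apply,
        Pi.single_eq_of_ne hy, Pi.single_eq_of_ne hy'] at this
      simpa using this
    obtain ⟨g, hg, hga⟩ := htrans a c
    have h1 : R c (g b) := hga ▸ R_inv g hg a b R_ab
    have h2 : g b ≠ c := fun h => hab (g.injective (hga.trans h.symm))
    have h3 := hMrow c (g b) d h2 hcd.symm
    simp only [hM] at h3
    rw [if_pos h1, if_neg R_cd] at h3
    exact one_ne_zero h3
  · -- kernel is everything
    have hNtop : N = ⊤ := Submodule.eq_top_of_finrank_eq (by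
      rw [h, Module.finrank_fintype_fun_eq_card, hp])
    have hzero : ∀ f, ψ₁ f = 0 := by
      intro f
      have : f ∈ N := by rw [hNtop]; exact Submodule.mem_top
      exact LinearMap.mem_ker.mp this
    have h1 := congrFun (hzero (Pi.single a 1)) a
    have h2 := congrFun (hzero (Pi.single a 1)) b
    rw [hψ₁app, Pi.sub_apply, hψδ, Pi.smul_apply, Pi.zero_apply] at h1 h2
    rw [hMaa, Pi.single_eq_same, smul_eq_mul, mul_one, zero_sub, neg_eq_zero] at h1
    rw [hMba, h1, zero_smul, sub_zero] at h2
    exact one_ne_zero h2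


end Aux

/-- Burnside's Theorem on permutation groups of prime degree: a transitive permutation group of prime degree that is not solvable is doubly transitive. -/
theorem result {α : Type*} [Fintype α] [DecidableEq α] (hα : (Fintype.card α).Prime) (G : Subgroup (Equiv.Perm α)) [MulAction.IsPretransitive G α] : Group.IsSolvable G ∨ MulAction.IsMultiplyPretransitive G α 2 := by
  exact burnside hα G

end Cfsg.Agent.S0675
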