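import Cfsg.Statements.S0991
import Mathlib

set_option autoImplicit false
open Cfsg

namespace Cfsg.Agent.S0991

/-- Embedding Theorem: if a non-abelian finite simple group has a proper subgroup of index n, then it is isomorphic to a subgroup of the alternating group of degree n. -/
theorem result {G : Type*} [Group G] [Finite G] [IsSimpleGroup G] (hG : ¬ IsMulCommutative G) (H : Subgroup G) (hH : H ≠ ⊤) : ∃ f : G →* ↥(alternatingGroup (Fin H.index)), Function.Injective f := by
  classical
  have hcard : Nat.card (G ⧸ H) = H.index := rfl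
  let e : (G ⧸ H) ≃ Fin H.index := (Finite.equivFinOfCardEq hcard)
  let φ : G →* Equiv.Perm (Fin H.index) :=
    (e.permCongrHom.toMonoidHom).comp (MulAction.toPermHom G (G ⧸ H))
  have hsimp : ∀ N : Subgroup G, N.Normal → N = ⊥ ∨ N = ⊤ := fun N hN => hN.eq_bot_or_eq_top
  -- φ is injective
  have hφker : φ.ker = ⊥ := by
    rcases hsimp φ.ker (MonoidHom.normal_ker φ) with h | h
    · exact h
    · exfalso
      apply hH
      rw [eq_top_iff]
      intro g _
      have hg : g ∈ φ.ker := by rw [h]; trivial
      rw [MonoidHom.mem_ker] at hg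
      have h1 : e.permCongrHom (MulAction.toPermHom G (G ⧸ H) g) = 1 := hg
      have h2 : MulAction.toPermHom G (G ⧸ H) g = 1 := by
        apply e.permCongrHom.injective
        rw [h1, map_one]
      have h3 : g • (QuotientGroup.mk 1 : G ⧸ H) = QuotientGroup.mk 1 := by
        have := congrArg (fun σ : Equiv.Perm (G ⧸ H) => σ (QuotientGroup.mk 1)) h2
        simpa using this
      have h4 : (QuotientGroup.mk (g * 1) : G ⧸ H) = QuotientGroup.mk 1 := h3
      have := QuotientGroup.eq.mp h4.symm
      simpa using this
  have hφinj : Function.Injective φ := (MonoidHom.ker_eq_bot_iff φ).mp hφker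
  -- the sign of φ g is trivial
  let ψ : G →* ℤˣ := Equiv.Perm.sign.comp φ
  have hψker : ψ.ker = ⊤ := by
    rcases hsimp ψ.ker (MonoidHom.normal_ker ψ) with h | h
    · exfalso
      apply hG
      have hψinj : Function.Injective ψ := (MonoidHom.ker_eq_bot_iff ψ).mp h
      refine ⟨⟨fun a b => ?_⟩⟩
      apply hψinj
      rw [map_mul, map_mul, mul_comm]
    · exact h
  have hmem : ∀ g, φ g ∈ alternatingGroup (Fin H.index) := by
    intro g
    rw [Equiv.Perm.mem_alternatingGroup]
    have hg : g ∈ ψ.ker := by rw [hψker]; trivial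
    exact MonoidHom.mem_ker.mp hg
  refine ⟨φ.codRestrict (alternatingGroup (Fin H.index)) hmem, ?_⟩
  intro a b hab
  apply hφinj
  have := congrArg Subtype.val hab
  simpa using this

end Cfsg.Agent.S0991
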