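import Cfsg.Statements.S0989
import Mathlib
import Cfsg.Agent.Lib.Helper7.SimpleTools
import Cfsg.Agent.Lib.Helper17.Basic

set_option linter.unusedSectionVars false

set_option autoImplicit false
open Cfsg

namespace Cfsg.Agent.S0989
open Equiv Equiv.Perm Cfsg.Agent.Lib.Helper7
open scoped Nat

variable {α : Type*} [Fintype α] [DecidableEq α] (p : ℕ) [Fact p.Prime]

lemma card_perm_eq (hα : Fintype.card α = p ∨ Fintype.card α = p + 1) :
    ∃ m, Nat.card (Perm α) = p * m ∧ ¬ p ∣ m := by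
  have hp : p.Prime := Fact.out
  have h1 : ¬ p ∣ (p-1)! := by rw [hp.dvd_factorial]; have := hp.pos; omega
  rw [Nat.card_eq_fintype_card, Fintype.card_perm]
  rcases hα with h | h
  · refine ⟨(p-1)!, ?_, h1⟩
    rw [h]; exact (Nat.mul_factorial_pred hp.ne_zero).symm
  · refine ⟨(p+1) * (p-1)!, ?_, ?_⟩
    · rw [h, Nat.factorial_succ, ← Nat.mul_factorial_pred hp.ne_zero]; ring
    · rw [hp.dvd_mul]; push Not; refine ⟨?_, h1⟩
      intro hd; have := (Nat.dvd_add_right (dvd_refl p)).mp hd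
      exact hp.one_lt.ne' (Nat.dvd_one.mp this)

lemma cycleType_eq (hα : Fintype.card α = p ∨ Fintype.card α = p + 1) (σ : Perm α)
    (hσ : orderOf σ = p) : σ.cycleType = {p} := by
  have hp : p.Prime := Fact.out
  obtain ⟨n, hn⟩ := Equiv.Perm.cycleType_prime_order (σ := σ) (by rw [hσ]; exact hp)
  apply Equiv.Perm.cycleType_of_card_le_mem_cycleType_add_two
  · omega
  · rw [hn, hσ, Multiset.replicate_succ]; exact Multiset.mem_cons_self _ _

lemma card_centralizer (hα : Fintype.card α = p ∨ Fintype.card α = p + 1) (σ : Perm α)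
    (hσ : orderOf σ = p) : Nat.card (Subgroup.centralizer {σ}) = p := by
  rw [Equiv.Perm.nat_card_centralizer, cycleType_eq p hα σ hσ]
  have : (Fintype.card α - p)! = 1 := by
    rcases hα with h | h <;> simp [h]
  simp [this]


section gen
variable {G : Type*} [Group G] (p : ℕ) [Fact p.Prime] (T : Subgroup G)

lemma orderOf_eq_of_mem (hT : Nat.card ↥T = p) (w : G)
    (hwT : w ∈ T) (hw1 : w ≠ 1) : orderOf w = p := by
  have h1 := Subgroup.orderOf_dvd_natCard T hwT
  rw [hT] at h1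
  rcases (Nat.dvd_prime (Fact.out : p.Prime)).mp h1 with h | h
  · exact absurd (orderOf_eq_one_iff.mp h) hw1
  · exact h

lemma zpowers_eq (hT : Nat.card ↥T = p) (w : G) (hwT : w ∈ T) (hw1 : w ≠ 1) :
    Subgroup.zpowers w = T := by
  have : Finite ↥T := Nat.finite_of_card_ne_zero (by rw [hT]; exact (Fact.out : p.Prime).ne_zero)
  apply Subgroup.eq_of_le_of_card_ge
  · rw [Subgroup.zpowers_le]; exact hwT
  · rw [Nat.card_zpowers, orderOf_eq_of_mem p T hT w hwT hw1, hT]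

/-- if `τ σ τ⁻¹ ∈ T \ {1}` for a nontrivial `σ ∈ T`, `|T| = p`, then `τ` normalizes `T`. -/
lemma mem_normalizer_of_conj [Finite G] (hT : Nat.card ↥T = p) (σ τ : G) (hσT : σ ∈ T) (hσ1 : σ ≠ 1)
    (h : τ * σ * τ⁻¹ ∈ T) : τ ∈ Subgroup.normalizer (T : Set G) := by
  apply Cfsg.Agent.Lib.Helper17.mem_normalizer_of_forall_conj_mem
  intro x hx
  rw [← zpowers_eq p T hT σ hσT hσ1] at hx
  obtain ⟨k, rfl⟩ := Subgroup.mem_zpowers_iff.mp hx
  rw [← conj_zpow]
  exact T.zpow_mem h k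

lemma card_diff_one (hT : Nat.card ↥T = p) : Nat.card ↥((T : Set G) \ {1}) = p - 1 := by
  have : Finite ↥T := Nat.finite_of_card_ne_zero (by rw [hT]; exact (Fact.out : p.Prime).ne_zero)
  have hfin : (T : Set G).Finite := Set.toFinite _
  rw [Nat.card_coe_set_eq, Set.ncard_sdiff_singleton_of_mem T.one_mem, ← Nat.card_coe_set_eq]
  exact congrArg (· - 1) hT


/-- the normalizer of `T` is in bijection with pairs (ρ, τ) with τ σ τ⁻¹ = ρ ∈ T \ {1} -/
noncomputable def normEquiv [Finite G] (hT : Nat.card ↥T = p) (σ : G) (hσT : σ ∈ T) (hσ1 : σ ≠ 1) :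
    ↥(Subgroup.normalizer (T : Set G)) ≃
      Σ ρ : ↥((T : Set G) \ {1}), {τ : G // τ * σ * τ⁻¹ = ρ.1} where
  toFun τ := ⟨⟨τ.1 * σ * τ.1⁻¹, Cfsg.Agent.Lib.Helper17.conj_mem_of_mem_normalizer τ.2 hσT, by
      intro h
      apply hσ1
      have h' : τ.1 * σ * τ.1⁻¹ = 1 := h
      have := congrArg (fun t => τ.1⁻¹ * t * τ.1) h'
      simpa [mul_assoc] using this⟩, ⟨τ.1, rfl⟩⟩
  invFun x := ⟨x.2.1, mem_normalizer_of_conj p T hT σ x.2.1 hσT hσ1 (by rw [x.2.2]; exact x.1.2.1)⟩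
  left_inv τ := rfl
  right_inv := by
    rintro ⟨⟨ρ, hρ⟩, ⟨τ, h⟩⟩
    dsimp only at h
    subst h
    rfl

lemma card_normalizer_eq [Finite G] (hT : Nat.card ↥T = p) (σ : G) (hσT : σ ∈ T) (hσ1 : σ ≠ 1)
    (c : ℕ) (hc : Nat.card ↥(Subgroup.centralizer {σ}) = c)
    (hconj : ∀ ρ ∈ T, ρ ≠ 1 → ∃ d : G, d * σ * d⁻¹ = ρ) :
    Nat.card ↥(Subgroup.normalizer (T : Set G)) = c * (p - 1) := by
  classical
  have : Finite ↥T := inferInstance
  have : Fintype ↥((T : Set G) \ {1}) := Fintype.ofFinite _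
  rw [Nat.card_congr (normEquiv p T hT σ hσT hσ1), Nat.card_sigma]
  have hf : ∀ ρ : ↥((T : Set G) \ {1}), Nat.card {τ : G // τ * σ * τ⁻¹ = ρ.1} = c := by
    rintro ⟨ρ, hρT, hρ1⟩
    obtain ⟨d, hd⟩ := hconj ρ hρT hρ1
    rw [← hc]
    apply Nat.card_congr
    refine Equiv.subtypeEquiv (Equiv.mulLeft d⁻¹) ?_
    intro τ
    simp only [Equiv.coe_mulLeft]
    rw [Subgroup.mem_centralizer_singleton_iff]
    subst hd
    constructor
    · intro h
      have := congrArg (fun t => d⁻¹ * t * τ) h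
      simp only [mul_assoc, inv_mul_cancel, mul_one, inv_mul_cancel_left] at this
      simpa [mul_assoc] using this
    · intro h
      have := congrArg (fun t => d * t * τ⁻¹) h
      simpa [mul_assoc] using this
  rw [Finset.sum_congr rfl (fun ρ _ => hf ρ), Finset.sum_const, Finset.card_univ, smul_eq_mul,
    ← Nat.card_eq_fintype_card, card_diff_one p T hT, mul_comm]

end gen


theorem main (hα : Fintype.card α = p ∨ Fintype.card α = p + 1) (P : Sylow p (Perm α)) :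
    Nat.card ↥(Subgroup.normalizer ((P : Subgroup (Perm α)) : Set (Perm α))) = p * (p - 1) := by
  have hp : p.Prime := Fact.out
  obtain ⟨m, hm, hpm⟩ := card_perm_eq p hα
  obtain ⟨hPcard, -⟩ := sylow_card_index_of_exact hm hpm P
  obtain ⟨σ, hσP, hσ1⟩ : ∃ σ ∈ (P : Subgroup (Perm α)), σ ≠ 1 := by
    have : Nontrivial ↥(P : Subgroup (Perm α)) := by
      rw [← Finite.one_lt_card_iff_nontrivial, hPcard]; exact hp.one_lt
    obtain ⟨⟨σ, hσ⟩, h1⟩ := exists_ne (1 : ↥(P : Subgroup (Perm α)))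
    exact ⟨σ, hσ, fun h => h1 (Subtype.ext h)⟩
  have hoσ := orderOf_eq_of_mem p _ hPcard σ hσP hσ1
  apply card_normalizer_eq p _ hPcard σ hσP hσ1 p (card_centralizer p hα σ hoσ)
  intro ρ hρP hρ1
  have hoρ := orderOf_eq_of_mem p _ hPcard ρ hρP hρ1
  have : IsConj σ ρ := by
    rw [Equiv.Perm.isConj_iff_cycleType_eq, cycleType_eq p hα σ hoσ, cycleType_eq p hα ρ hoρ]
  obtain ⟨d, hd⟩ := isConj_iff.mp this
  exact ⟨d, hd⟩



/-- In the symmetric group on p or p + 1 letters, p a prime, the normalizer of a Sylow p-subgroup has order p * (p - 1). -/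
theorem result {α : Type*} [Fintype α] [DecidableEq α] (p : ℕ) [Fact p.Prime] (hα : Fintype.card α = p ∨ Fintype.card α = p + 1) (P : Sylow p (Equiv.Perm α)) : Nat.card ↥(Subgroup.normalizer ((P : Subgroup (Equiv.Perm α)) : Set (Equiv.Perm α))) = p * (p - 1) := by
  exact main p hα P

end Cfsg.Agent.S0989
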