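import Cfsg.Statements.S0990
import Mathlib
import Cfsg.Agent.Lib.Helper4.Basic

set_option linter.unusedSectionVars false

set_option autoImplicit false
open Cfsg

namespace Cfsg.Agent.S0990
open Equiv Equiv.Perm

variable {α : Type*} [Fintype α] [DecidableEq α]

theorem main (hα : 2 ≤ Fintype.card α) (p : ℕ) [Fact p.Prime] (hp : p ≠ 2) (P : Sylow p (Perm α)) :
    (P : Subgroup (Perm α)) ≤ alternatingGroup α ∧ 2 * Nat.card ↥(Subgroup.normalizer ((((P : Subgroup (Equiv.Perm α)).subgroupOf (alternatingGroup α) : Subgroup ↥(alternatingGroup α)) : Set ↥(alternatingGroup α)))) = Nat.card ↥(Subgroup.normalizer ((P : Subgroup (Equiv.Perm α)) : Set (Equiv.Perm α))) := by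
  have hpp : p.Prime := Fact.out
  have hle : (P : Subgroup (Perm α)) ≤ alternatingGroup α := by
    intro σ hσ
    rw [Equiv.Perm.mem_alternatingGroup]
    obtain ⟨k, hk⟩ := (IsPGroup.iff_orderOf.mp P.2) ⟨σ, hσ⟩
    rw [Subgroup.orderOf_mk] at hk
    have h1 : (sign σ) ^ (p^k) = 1 := by rw [← map_pow, ← hk, pow_orderOf_eq_one, map_one]
    rcases Int.units_eq_one_or (sign σ) with h | h
    · exact h
    · exfalso; rw [h] at h1
      have hodd : Odd (p^k) := (hpp.odd_of_ne_two hp).pow
      rw [hodd.neg_one_pow] at h1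
      exact absurd h1 (by decide)
  refine ⟨hle, ?_⟩
  have : Nontrivial α := Fintype.one_lt_card_iff_nontrivial.mp hα
  have h1 : Subgroup.normalizer ((((P : Subgroup (Perm α)).subgroupOf (alternatingGroup α) : Subgroup ↥(alternatingGroup α))) : Set ↥(alternatingGroup α)) = (Subgroup.normalizer ((P : Subgroup (Equiv.Perm α)) : Set (Equiv.Perm α))).subgroupOf (alternatingGroup α) := (Subgroup.subgroupOf_normalizer_eq hle).symm
  rw [h1]
  have hfr : (Subgroup.normalizer ((P : Subgroup (Equiv.Perm α)) : Set (Equiv.Perm α))) ⊔ alternatingGroup α = ⊤ := Sylow.normalizer_sup_eq_top' P hle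
  have hprod := Cfsg.Agent.Lib.Helper4.card_sup_mul_card_inf (Subgroup.normalizer ((P : Subgroup (Equiv.Perm α)) : Set (Equiv.Perm α))) (alternatingGroup α) (by
     rw [Subgroup.normalizer_eq_top (H := alternatingGroup α)]; exact le_top)
  rw [hfr, Subgroup.card_top, ← two_mul_nat_card_alternatingGroup] at hprod
  have hA : 0 < Nat.card (alternatingGroup α) := Nat.card_pos
  have h2 : Nat.card ((Subgroup.normalizer ((P : Subgroup (Equiv.Perm α)) : Set (Equiv.Perm α))).subgroupOf (alternatingGroup α)) = Nat.card ((Subgroup.normalizer ((P : Subgroup (Equiv.Perm α)) : Set (Equiv.Perm α))) ⊓ alternatingGroup α : Subgroup _) := by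
    rw [← Subgroup.inf_subgroupOf_right]
    exact Nat.card_congr (Subgroup.subgroupOfEquivOfLe inf_le_right).toEquiv
  rw [h2]
  nlinarith



/-- Let p be an odd prime and P a Sylow p-subgroup of the symmetric group on a finite set with at least two elements. Then P is contained in the alternating group, and twice the order of the normalizer of P inside the alternating group equals the order of the normalizer of P in the symmetric group. -/
theorem result {α : Type*} [Fintype α] [DecidableEq α] (hα : 2 ≤ Fintype.card α) (p : ℕ) [Fact p.Prime] (hp : p ≠ 2) (P : Sylow p (Equiv.Perm α)) : (P : Subgroup (Equiv.Perm α)) ≤ alternatingGroup α ∧ 2 * Nat.card ↥(Subgroup.normalizer ((((P : Subgroup (Equiv.Perm α)).subgroupOf (alternatingGroup α) : Subgroup ↥(alternatingGroup α)) : Set ↥(alternatingGroup α)))) = Nat.card ↥(Subgroup.normalizer ((P : Subgroup (Equiv.Perm α)) : Set (Equiv.Perm α))) := by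
  exact main hα p hp P

end Cfsg.Agent.S0990
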