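import Cfsg.Statements.S0016
-- import your own Cfsg.Agent.* helpers here
import Mathlib
import Cfsg.Agent.Lib.Helper18.UniqueInvolution

set_option autoImplicit false
open Cfsg

namespace Cfsg.Agent.S0016

/-- A finite p-group in which only one subgroup has order p is either cyclic or (with p = 2) isomorphic to a generalized quaternion group. -/
theorem result {G : Type*} [Group G] [Finite G] (p : ℕ) [Fact p.Prime]
    (hG : IsPGroup p G) (huniq : ∀ H K : Subgroup G, Nat.card H = p → Nat.card K = p → H = K) :
    IsCyclic G ∨ (p = 2 ∧ ∃ n : ℕ, Nonempty (G ≃* QuaternionGroup (2 ^ n))) := by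
  by_cases hp2 : p = 2
  · subst hp2
    have huniq' : ∀ s t : G, orderOf s = 2 → orderOf t = 2 → s = t := by
      intro s t hs ht
      have h1 : Subgroup.zpowers s = Subgroup.zpowers t :=
        huniq _ _ (by rw [Nat.card_zpowers, hs]) (by rw [Nat.card_zpowers, ht])
      have h2 : t ∈ Subgroup.zpowers s := by rw [h1]; exact Subgroup.mem_zpowers t
      obtain ⟨k, hk⟩ := Subgroup.mem_zpowers_iff.mp h2
      have ht1 : t ≠ 1 := by
        intro h; rw [h, orderOf_one] at ht; omega
      have hs2 : s ^ (2 : ℤ) = 1 := by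
        have : s ^ 2 = 1 := by rw [← hs]; exact pow_orderOf_eq_one s
        exact_mod_cast this
      rcases Int.even_or_odd' k with ⟨c, hc | hc⟩
      · exfalso; apply ht1
        rw [← hk, hc, zpow_mul, hs2, one_zpow]
      · rw [← hk, hc, zpow_add, zpow_mul, hs2, one_zpow, one_mul, zpow_one]
    rcases Cfsg.Agent.Lib.Helper18.isCyclic_or_quaternion_of_unique_involution hG huniq' with h | ⟨n, -, hn⟩
    · exact Or.inl h
    · exact Or.inr ⟨rfl, n, hn⟩
  · left
    by_contra hnc
    obtain ⟨a, b, -, ha, hb, hb1, hnot⟩ :=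
      Cfsg.Agent.Lib.Helper18.exists_rank_two_of_not_cyclic p hp2 (Nat.card G) G hG le_rfl hnc
    have ha1 : a ≠ 1 := by
      intro h; apply hnot; rw [h]; exact Subgroup.one_mem _
    have hao : orderOf a = p := orderOf_eq_prime ha ha1
    have hbo : orderOf b = p := orderOf_eq_prime hb hb1
    have h1 : Subgroup.zpowers a = Subgroup.zpowers b :=
      huniq _ _ (by rw [Nat.card_zpowers, hao]) (by rw [Nat.card_zpowers, hbo])
    apply hnot
    rw [← h1]; exact Subgroup.mem_zpowers a

end Cfsg.Agent.S0016
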