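import Cfsg.Statements.S0058
-- import your own Cfsg.Agent.* helpers here
import Mathlib
import Cfsg.Agent.Lib.Helper1.Fitting
import Cfsg.Agent.Lib.Helper1.Noncyclic
import Cfsg.Agent.Lib.Helper1.TraceIdentity
import Cfsg.Agent.S0023

set_option autoImplicit false
open Cfsg

namespace Cfsg.Agent.S0058

open Cfsg.Agent.Lib.Helper1 Subgroup

/-- the fixed points of conjugation by `g` on `P`, viewed in `G`, centralize `g` -/
theorem map_fixSub_le {G : Type*} [Group G] (P : Subgroup G) (g : G)
    (hg : g ∈ normalizer (P : Set G)) :
    (fixSub (P.normalizerMonoidHom ⟨g, hg⟩)).map P.subtype ≤ P ⊓ centralizer {g} := by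
  rintro _ ⟨x, hx, rfl⟩
  refine ⟨x.2, ?_⟩
  show (x : G) ∈ centralizer {g}
  rw [Subgroup.mem_centralizer_iff]
  intro y hy
  rw [Set.mem_singleton_iff.mp hy]
  have h1 : (P.normalizerMonoidHom ⟨g, hg⟩) x = x := hx
  have h2 : g * (x : G) * g⁻¹ = x := congrArg Subtype.val h1
  calc g * (x : G) = (g * (x : G) * g⁻¹) * g := by group
    _ = x * g := by rw [h2]

/-- Generation by centralisers: when a noncyclic abelian group A normalises K with coprime orders, K is generated by the fixed-point subgroups of the nonidentity elements of A. -/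
theorem result {G : Type*} [Group G] [Finite G] (A K : Subgroup G)
    [IsMulCommutative A] (hA : ¬ IsCyclic A) (hAK : A ≤ Subgroup.normalizer (K : Set G)) (hcop : (Nat.card A).Coprime (Nat.card K)) :
    (⨆ a ∈ {a : G | a ∈ A ∧ a ≠ 1}, K ⊓ Subgroup.centralizer {a}) = K := by
  classical
  apply le_antisymm
  · exact iSup₂_le (fun a _ => inf_le_left)
  -- a noncyclic pair in `A`
  have hpair : ∃ q : ℕ, q.Prime ∧ ∃ a b : A, a ^ q = 1 ∧ b ^ q = 1 ∧ b ≠ 1 ∧
      ∀ j : ℕ, a * b ^ j ≠ 1 := by
    open scoped IsMulCommutative in exact exists_noncyclic_pair hA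
  obtain ⟨q, hq, a, b, haq, hbq, hb1, hab⟩ := hpair
  have : Fact q.Prime := ⟨hq⟩
  have hcomm : a * b = b * a := mul_comm' a b
  -- `q` divides `|A|`, hence is prime to `|K|`
  have hqA : q ∣ Nat.card A := by
    have : orderOf b = q := orderOf_eq_prime hbq hb1
    rw [← this]; exact orderOf_dvd_natCard b
  have hqK : ¬ q ∣ Nat.card K := by
    intro h
    have := Nat.dvd_gcd hqA h
    rw [hcop] at this
    exact hq.one_lt.ne' (Nat.dvd_one.mp this)
  set W : Subgroup G := ⨆ a ∈ {a : G | a ∈ A ∧ a ≠ 1}, K ⊓ Subgroup.centralizer {a} with hW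
  have hWle : ∀ g : G, g ∈ A → g ≠ 1 → K ⊓ centralizer {g} ≤ W := by
    intro g hgA hg1
    exact le_iSup₂ (f := fun a (_ : a ∈ {a : G | a ∈ A ∧ a ≠ 1}) => K ⊓ Subgroup.centralizer {a})
      g ⟨hgA, hg1⟩
  have hsolv : Group.IsSolvable A ∨ Group.IsSolvable K := by
    left
    open scoped IsMulCommutative in exact inferInstance
  -- it suffices that `W` contains an (invariant) Sylow subgroup of `K` for each prime
  have key : W.subgroupOf K = ⊤ := by
    apply eq_top_of_forall_sylow_le
    intro p hp
    obtain ⟨P, hP⟩ := Cfsg.Agent.S0023.result A K hAK hcop hsolv p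
    refine ⟨P, ?_⟩
    set P' : Subgroup G := (P : Subgroup K).map K.subtype with hP'
    have hP'K : P' ≤ K := Subgroup.map_subtype_le _
    suffices hsuff : P' ≤ W by
      intro x hx
      rw [Subgroup.mem_subgroupOf]
      exact hsuff ⟨x, hx, rfl⟩
    have hP'p : IsPGroup p P' := P.2.map _
    by_cases hpq : q = p
    · -- then `P` is trivial
      subst hpq
      have h1 : Nat.card P' = 1 := by
        obtain ⟨m, hm⟩ := IsPGroup.iff_card.mp hP'p
        rcases Nat.eq_zero_or_pos m with h0 | hpos
        · rw [hm, h0, pow_zero]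
        · exfalso
          apply hqK
          have h2 : Nat.card P' ∣ Nat.card K := Subgroup.card_dvd_of_le hP'K
          exact (dvd_pow_self q hpos.ne').trans (hm ▸ h2)
      rw [Subgroup.card_eq_one.mp h1]
      exact bot_le
    · -- the automorphisms induced by `a` and `b`
      have haN : (a : G) ∈ normalizer (P' : Set G) := hP a.2
      have hbN : (b : G) ∈ normalizer (P' : Set G) := hP b.2
      set f := P'.normalizerMonoidHom with hf
      set α : MulAut P' := f ⟨a, haN⟩ with hα
      set β : MulAut P' := f ⟨b, hbN⟩ with hβ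
      have hαβ : α * β = β * α := by
        rw [hα, hβ, ← map_mul, ← map_mul]
        congr 1
        apply Subtype.ext
        have h' : (a : G) * (b : G) = (b : G) * (a : G) := by
          have := congrArg Subtype.val hcomm
          simpa using this
        exact h'
      have hαq : α ^ q = 1 := by
        rw [hα, ← map_pow]
        have : (⟨a, haN⟩ : normalizer (P' : Set G)) ^ q = 1 := by
          apply Subtype.ext
          have h' : (a : G) ^ q = 1 := by
            have := congrArg Subtype.val haq
            simpa using this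
          simpa using h'
        rw [this, map_one]
      have hβq : β ^ q = 1 := by
        rw [hβ, ← map_pow]
        have : (⟨b, hbN⟩ : normalizer (P' : Set G)) ^ q = 1 := by
          apply Subtype.ext
          have h' : (b : G) ^ q = 1 := by
            have := congrArg Subtype.val hbq
            simpa using this
          simpa using h'
        rw [this, map_one]
      have htop := iSup_fixSub_eq_top (K := P') hP'p hpq α β hαβ hαq hβq
      have hmap : P' = ((⨆ j : ℕ, fixSub (α * β ^ j)) ⊔ fixSub β).map P'.subtype := by
        rw [htop, ← MonoidHom.range_eq_map, Subgroup.range_subtype]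
      rw [hmap, Subgroup.map_sup, Subgroup.map_iSup]
      apply sup_le
      · apply iSup_le
        intro j
        have hjN : (a : G) * (b : G) ^ j ∈ normalizer (P' : Set G) :=
          Subgroup.mul_mem _ haN (Subgroup.pow_mem _ hbN j)
        have hc : α * β ^ j = f ⟨(a : G) * (b : G) ^ j, hjN⟩ := by
          rw [hα, hβ, ← map_pow, ← map_mul]
          rfl
        rw [hc]
        refine (map_fixSub_le P' _ hjN).trans ((inf_le_inf_right _ hP'K).trans ?_)
        apply hWle
        · exact A.mul_mem a.2 (A.pow_mem b.2 j)
        · intro h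
          apply hab j
          apply Subtype.ext
          exact h
      · refine (map_fixSub_le P' _ hbN).trans ((inf_le_inf_right _ hP'K).trans ?_)
        apply hWle _ b.2
        intro h
        apply hb1
        apply Subtype.ext
        exact h
  exact Subgroup.subgroupOf_eq_top.mp key

end Cfsg.Agent.S0058
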