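import Cfsg.Statements.S0044
-- import your own Cfsg.Agent.* helpers here
import Mathlib
import Cfsg.Agent.Lib.Helper1.Fitting
import Cfsg.Agent.Lib.Helper1.MinNormal

set_option autoImplicit false
open Cfsg

namespace Cfsg.Agent.S0044

open Cfsg.Agent.Lib.Helper1 Subgroup

/-- In a finite solvable group, the centraliser of the Fitting subgroup is contained in the Fitting subgroup. -/
theorem result {G : Type*} [Group G] [Finite G] [Group.IsSolvable G] :
    Subgroup.centralizer (Cfsg.fittingSubgroup G : Set G) ≤ Cfsg.fittingSubgroup G := by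
  set F : Subgroup G := Cfsg.fittingSubgroup G with hF
  have hFn : F.Normal := fittingSubgroup_normal G
  set C : Subgroup G := centralizer (F : Set G) with hC
  have hCn : C.Normal := inferInstance
  set Z : Subgroup G := C ⊓ F with hZ
  have hZn : Z.Normal := inferInstance
  by_contra hCF
  -- the image of `C` in `G ⧸ Z` is nontrivial
  set π := QuotientGroup.mk' Z with hπ
  have hπs : Function.Surjective π := QuotientGroup.mk'_surjective Z
  have hCbar : C.map π ≠ ⊥ := by
    intro h
    rw [Subgroup.map_eq_bot_iff, QuotientGroup.ker_mk'] at h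
    exact hCF (h.trans inf_le_right)
  have hCbarn : (C.map π).Normal := hCn.map π hπs
  have hsolq : Group.IsSolvable (G ⧸ Z) := inferInstance
  obtain ⟨Mb, hMb, hMbC⟩ := exists_isMinNormal_le (C.map π) hCbarn hCbar
  have hMbcomm : IsMulCommutative Mb := hMb.isMulCommutative
  set M : Subgroup G := Mb.comap π with hM
  have hMn : M.Normal := hMb.1.comap π
  have hMC : M ≤ C := by
    have h1 : M ≤ (C.map π).comap π := Subgroup.comap_mono hMbC
    rw [Subgroup.comap_map_eq, QuotientGroup.ker_mk'] at h1
    exact h1.trans (sup_le le_rfl inf_le_left)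
  have hMM : ⁅M, M⁆ ≤ Z := by
    have h1 : (⁅M, M⁆).map π = ⊥ := by
      rw [Subgroup.map_commutator, hM, Subgroup.map_comap_eq_self_of_surjective hπs]
      exact Subgroup.commutator_self_eq_bot_iff.mpr hMbcomm
    rw [Subgroup.map_eq_bot_iff, QuotientGroup.ker_mk'] at h1
    exact h1
  have hZM : ⁅Z, M⁆ = ⊥ := by
    rw [Subgroup.commutator_comm, Subgroup.commutator_eq_bot_iff_le_centralizer]
    exact hMC.trans (Subgroup.centralizer_le (by exact_mod_cast (inf_le_right : Z ≤ F)))
  have hnil : Group.IsNilpotent M := by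
    apply Subgroup.isNilpotent_of_lowerCentralSeries_eq_bot (n := 2)
    rw [Subgroup.lowerCentralSeries_succ, Subgroup.lowerCentralSeries_succ,
      Subgroup.lowerCentralSeries_zero, eq_bot_iff, ← hZM]
    exact Subgroup.commutator_mono hMM le_rfl
  have hMF : M ≤ F := le_fittingSubgroup hMn hnil
  have hMZ : M ≤ Z := le_inf hMC hMF
  have : Mb = ⊥ := by
    rw [← Subgroup.map_comap_eq_self_of_surjective hπs Mb, ← hM, Subgroup.map_eq_bot_iff,
      QuotientGroup.ker_mk']
    exact hMZ
  exact hMb.2.1 this

end Cfsg.Agent.S0044
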