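import Cfsg.Statements.S0017
-- import your own Cfsg.Agent.* helpers here
import Mathlib
import Cfsg.Agent.Lib.Helper1.Fitting
import Cfsg.Agent.S0044

set_option autoImplicit false
open Cfsg

namespace Cfsg.Agent.S0017

open Cfsg.Agent.Lib.Helper1 Subgroup

/-- In a finite solvable group whose largest normal subgroup of order prime to p is trivial, the centralizer of the p-core is contained in the p-core. -/
theorem result {G : Type*} [Group G] [Finite G] [Group.IsSolvable G] (p : ℕ) [Fact p.Prime]
    (h : Cfsg.pPrimeCore p G = ⊥) :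
    Subgroup.centralizer (Cfsg.pCore p G : Set G) ≤ Cfsg.pCore p G := by
  have hp : p.Prime := Fact.out
  have hF : Cfsg.fittingSubgroup G = Cfsg.pCore p G := by
    rw [fittingSubgroup_eq_iSup_pCore]
    apply le_antisymm
    · apply iSup_le
      intro q
      have : Fact (Nat.Prime (q : ℕ)) := ⟨q.2⟩
      by_cases hqp : (q : ℕ) = p
      · rw [hqp]
      · have h1 : Cfsg.pCore (q : ℕ) G ≤ Cfsg.pPrimeCore p G := by
          apply le_sSup
          refine ⟨pCore_normal _ G, ?_⟩
          obtain ⟨k, hk⟩ := IsPGroup.iff_card.mp (pCore_isPGroup (q : ℕ) G)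
          rw [hk]
          exact Nat.Coprime.pow_left k ((Nat.coprime_primes q.2 hp).mpr hqp)
        rw [h] at h1
        exact h1.trans bot_le
    · exact le_iSup (fun q : Nat.Primes => Cfsg.pCore (q : ℕ) G) ⟨p, hp⟩
  rw [← hF]
  exact Cfsg.Agent.S0044.result

end Cfsg.Agent.S0017
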