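import Cfsg.Statements.S0022
-- import your own Cfsg.Agent.* helpers here
import Cfsg.Agent.Lib.Helper1.Coprime

set_option autoImplicit false
open Cfsg

namespace Cfsg.Agent.S0022

open Pointwise
open Cfsg.Agent.Lib.Helper1

/-- Under coprime action fixed points pass to quotients: with A normalising K, coprime orders, A or K solvable, and N an A-invariant normal subgroup of K, every coset of N in K fixed by conjugation by A contains an element centralised by A. -/
theorem result {G : Type*} [Group G] [Finite G] (A K : Subgroup G) (hAK : A ≤ Subgroup.normalizer (K : Set G))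
    (hcop : (Nat.card A).Coprime (Nat.card K)) (hsolv : Group.IsSolvable A ∨ Group.IsSolvable K)
    (N : Subgroup G) (hNK : N ≤ K) (hNnormal : K ≤ Subgroup.normalizer (N : Set G)) (hNA : A ≤ Subgroup.normalizer (N : Set G))
    (k : G) (hk : k ∈ K) (hfix : ∀ a ∈ A, a * k * a⁻¹ * k⁻¹ ∈ N) :
    ∃ c ∈ K ⊓ Subgroup.centralizer (A : Set G), k⁻¹ * c ∈ N := by
  classical
  have hcopN : Nat.Coprime (Nat.card A) (Nat.card N) :=
    Nat.Coprime.coprime_dvd_right (Subgroup.card_dvd_of_le hNK) hcop
  have hsolvN : Group.IsSolvable A ∨ Group.IsSolvable N := by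
    rcases hsolv with h | h
    · exact Or.inl h
    · right
      exact Group.isSolvable_of_isSolvable_injective (f := Subgroup.inclusion hNK)
        (Subgroup.inclusion_injective hNK)
  have hx : ∀ a ∈ A, k⁻¹ * a * k * a⁻¹ ∈ N := by
    intro a ha
    have h1 := hfix a ha
    have h2 : k⁻¹ ∈ Subgroup.normalizer (N : Set G) := hNnormal (K.inv_mem hk)
    have h3 := (Subgroup.mem_normalizer_iff.mp h2 _).mp h1
    have e : k⁻¹ * (a * k * a⁻¹ * k⁻¹) * k⁻¹⁻¹ = k⁻¹ * a * k * a⁻¹ := by group
    rwa [e] at h3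
  obtain ⟨n, hn, hc⟩ := exists_mul_mem_centralizer hNA hcopN hsolvN k hx
  refine ⟨k * n, ⟨K.mul_mem hk (hNK hn), hc⟩, ?_⟩
  rw [inv_mul_cancel_left]; exact hn

end Cfsg.Agent.S0022
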