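import Cfsg.Statements.S0027
-- import your own Cfsg.Agent.* helpers here
import Cfsg.Agent.Lib.Helper1.Coprime
import Cfsg.Agent.Lib.Helper1.Commutator
import Cfsg.Agent.S0026

set_option autoImplicit false
open Cfsg

namespace Cfsg.Agent.S0027

open Pointwise
open scoped commutatorElement
open Cfsg.Agent.Lib.Helper1

/-- Under coprime action the commutator subgroup with A is stable: taking the commutator with A twice gives the same subgroup as once. -/
theorem result {G : Type*} [Group G] [Finite G] (A K : Subgroup G) (hAK : A ≤ Subgroup.normalizer (K : Set G))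
    (hcop : (Nat.card A).Coprime (Nat.card K)) (hsolv : Group.IsSolvable A ∨ Group.IsSolvable K) :
    ⁅⁅K, A⁆, A⁆ = ⁅K, A⁆ := by
  classical
  have hNK : ⁅K, A⁆ ≤ K := commutator_le_of_le_normalizer hAK
  apply le_antisymm (Subgroup.commutator_mono hNK le_rfl)
  rw [Subgroup.commutator_le]
  intro k hk a ha
  have hdec := Cfsg.Agent.S0026.result A K hAK hcop hsolv
  have hk' : k ∈ ⁅K, A⁆ ⊔ (K ⊓ Subgroup.centralizer (A : Set G)) := by rw [hdec]; exact hk
  have hnorm : K ⊓ Subgroup.centralizer (A : Set G) ≤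
      Subgroup.normalizer ((⁅K, A⁆ : Subgroup G) : Set G) :=
    inf_le_left.trans (le_normalizer_commutator_left K A)
  rw [← SetLike.mem_coe, Subgroup.coe_mul_of_right_le_normalizer_left _ _ hnorm, Set.mem_mul] at hk'
  obtain ⟨n, hn, c, hc, rfl⟩ := hk'
  have hca : a * c = c * a := (Subgroup.mem_centralizer_iff.mp hc.2) a ha
  have e : ⁅n * c, a⁆ = ⁅n, a⁆ := by
    simp only [commutatorElement_def]
    have : n * c * a * (n * c)⁻¹ * a⁻¹ = n * (c * a) * c⁻¹ * n⁻¹ * a⁻¹ := by group
    rw [this, ← hca]; group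
  rw [e]
  exact Subgroup.commutator_mem_commutator hn ha

end Cfsg.Agent.S0027
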