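import Cfsg.Statements.S0028
-- import your own Cfsg.Agent.* helpers here
import Mathlib
import Cfsg.Agent.Lib.Helper1.NilpotentAction
import Cfsg.Agent.S0027

set_option autoImplicit false
open Cfsg

namespace Cfsg.Agent.S0028

open Cfsg.Agent.Lib.Helper1 Subgroup

theorem aux {G : Type*} [Group G] [Finite G] (p : ℕ) [Fact p.Prime] (P Q : Subgroup G)
    (hP : IsPGroup p P) (hQ : (Nat.card Q).Coprime p) (hPQ : P ≤ centralizer (Q : Set G)) :
    ∀ (n : ℕ) (U : Subgroup G), Nat.card U = n → IsPGroup p U → P ≤ normalizer (U : Set G) →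
      Q ≤ normalizer (U : Set G) → U ⊓ centralizer (P : Set G) ≤ centralizer (Q : Set G) →
      Q ≤ centralizer (U : Set G) := by
  intro n
  induction n using Nat.strong_induction_on with
  | _ n ih =>
  intro U hn hU hPU hQU hC
  by_cases hne : U = ⊥
  · intro q _ u hu
    have hu' : u ∈ U := hu
    rw [hne, Subgroup.mem_bot] at hu'
    rw [hu']; simp
  have hlt : ⁅U, P⁆ < U := IsPGroup.commutator_lt hU hP hPU hne
  have hU₁ : IsPGroup p (⁅U, P⁆ : Subgroup G) := hU.to_le hlt.le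
  have hPU₁ : P ≤ normalizer ((⁅U, P⁆ : Subgroup G) : Set G) := le_normalizer_commutator_right U P
  have hQP : Q ≤ normalizer (P : Set G) :=
    (Subgroup.le_centralizer_iff.mp hPQ).trans (Subgroup.centralizer_le_normalizer _)
  have hQU₁ : Q ≤ normalizer ((⁅U, P⁆ : Subgroup G) : Set G) :=
    (le_inf hQU hQP).trans (inf_normalizer_le_normalizer_commutator U P)
  have hC₁ : ⁅U, P⁆ ⊓ centralizer (P : Set G) ≤ centralizer (Q : Set G) :=
    (inf_le_inf_right _ hlt.le).trans hC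
  have hcardlt : Nat.card (⁅U, P⁆ : Subgroup G) < n := by
    rw [← hn]
    refine lt_of_le_of_ne (Subgroup.card_le_of_le hlt.le) (fun h => hlt.ne ?_)
    exact Subgroup.eq_of_le_of_card_ge hlt.le h.ge
  have hIH : Q ≤ centralizer ((⁅U, P⁆ : Subgroup G) : Set G) :=
    ih _ hcardlt ⁅U, P⁆ rfl hU₁ hPU₁ hQU₁ hC₁
  have h1 : ⁅⁅U, P⁆, Q⁆ = ⊥ :=
    Subgroup.commutator_eq_bot_iff_le_centralizer.mpr (Subgroup.le_centralizer_iff.mp hIH)
  have h2 : ⁅⁅P, Q⁆, U⁆ = ⊥ := by
    rw [Subgroup.commutator_eq_bot_iff_le_centralizer.mpr hPQ, Subgroup.commutator_bot_left]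
  have h3 : ⁅⁅Q, U⁆, P⁆ = ⊥ := Subgroup.commutator_commutator_eq_bot_of_rotate h1 h2
  have h4 : ⁅U, Q⁆ ≤ centralizer (P : Set G) := by
    rw [Subgroup.commutator_comm]
    exact Subgroup.commutator_eq_bot_iff_le_centralizer.mp h3
  have h5 : ⁅U, Q⁆ ≤ U := commutator_le_of_le_normalizer hQU
  have h6 : ⁅U, Q⁆ ≤ centralizer (Q : Set G) := (le_inf h5 h4).trans hC
  have h7 : ⁅⁅U, Q⁆, Q⁆ = ⊥ := Subgroup.commutator_eq_bot_iff_le_centralizer.mpr h6
  have hcop : (Nat.card Q).Coprime (Nat.card U) := by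
    obtain ⟨k, hk⟩ := IsPGroup.exists_card_eq hU
    rw [hk]; exact Nat.Coprime.pow_right k hQ
  have hsolv : Group.IsSolvable U := by
    have : Group.IsNilpotent U := hU.isNilpotent
    infer_instance
  have h8 : ⁅⁅U, Q⁆, Q⁆ = ⁅U, Q⁆ := Cfsg.Agent.S0027.result Q U hQU hcop (Or.inr hsolv)
  rw [h7] at h8
  exact Subgroup.le_centralizer_iff.mp (Subgroup.commutator_eq_bot_iff_le_centralizer.mp h8.symm)

/-- Thompson's P × Q Lemma: let a p-subgroup P and a subgroup Q of order prime to p centralise each other and normalise a p-subgroup U; if every element of U fixed by P is fixed by Q, then Q centralises U. -/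
theorem result {G : Type*} [Group G] [Finite G] (p : ℕ) [Fact p.Prime]
    (P Q U : Subgroup G) (hP : IsPGroup p P) (hQ : (Nat.card Q).Coprime p) (hU : IsPGroup p U)
    (hPQ : P ≤ Subgroup.centralizer (Q : Set G))
    (hPU : P ≤ Subgroup.normalizer (U : Set G)) (hQU : Q ≤ Subgroup.normalizer (U : Set G))
    (hC : U ⊓ Subgroup.centralizer (P : Set G) ≤ Subgroup.centralizer (Q : Set G)) :
    Q ≤ Subgroup.centralizer (U : Set G) := by
  exact aux p P Q hP hQ hPQ _ U rfl hU hPU hQU hC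

end Cfsg.Agent.S0028
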