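import Cfsg.Statements.S0024
-- import your own Cfsg.Agent.* helpers here
import Mathlib
import Cfsg.Agent.Lib.Helper1.Coprime

set_option autoImplicit false
open Pointwise
open Cfsg

namespace Cfsg.Agent.S0024

open Cfsg.Agent.Lib.Helper1 Subgroup

/-- Under coprime action (A normalising K, coprime orders, A or K solvable), any two A-invariant Sylow p-subgroups of K are conjugate by an element of the centraliser of A in K. -/
theorem result {G : Type*} [Group G] [Finite G] (A K : Subgroup G) (hAK : A ≤ Subgroup.normalizer (K : Set G))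
    (hcop : (Nat.card A).Coprime (Nat.card K)) (hsolv : Group.IsSolvable A ∨ Group.IsSolvable K)
    (p : ℕ) [Fact p.Prime] (P Q : Sylow p K)
    (hP : A ≤ Subgroup.normalizer ((P : Subgroup K).map K.subtype : Set G))
    (hQ : A ≤ Subgroup.normalizer ((Q : Subgroup K).map K.subtype : Set G)) :
    ∃ c : K, (c : G) ∈ Subgroup.centralizer (A : Set G) ∧ MulAut.conj c • P = Q := by
  obtain ⟨k, hk⟩ := MulAction.exists_smul_eq K P Q
  set P' : Subgroup G := (P : Subgroup K).map K.subtype with hP'
  set Q' : Subgroup G := (Q : Subgroup K).map K.subtype with hQ'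
  have hkPQ : MulAut.conj (k : G) • P' = Q' := by
    rw [hP', ← map_subtype_conj_smul, ← Sylow.coe_subgroup_smul, hk]
  have hAk : A ≤ MulAut.conj (k : G) • normalizer (P' : Set G) := by
    rw [conj_smul_normalizer, hkPQ]; exact hQ
  obtain ⟨c, hc, hcU⟩ := exists_mem_centralizer_of_le_conj_smul hAK hcop hsolv hP (k : G) k.2 hAk
  refine ⟨⟨c, hc.1⟩, hc.2, ?_⟩
  have h1 : MulAut.conj ((k : G)⁻¹ * c) • P' = P' := by
    have := Subgroup.mem_normalizer_iff_map_conj_eq.mp hcU
    exact this
  have h2 : MulAut.conj c • P' = Q' := by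
    have e : c = (k : G) * ((k : G)⁻¹ * c) := by group
    rw [e, map_mul, mul_smul, h1, hkPQ]
  apply Sylow.ext
  rw [Sylow.pointwise_smul_def]
  apply Subgroup.map_injective K.subtype_injective
  rw [map_subtype_conj_smul]
  exact h2

end Cfsg.Agent.S0024
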