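import Cfsg.Statements.S0025
-- import your own Cfsg.Agent.* helpers here
import Mathlib
import Cfsg.Agent.Lib.Helper1.Coprime
import Cfsg.Agent.S0023

set_option autoImplicit false
open Cfsg

namespace Cfsg.Agent.S0025

open Cfsg.Agent.Lib.Helper1 Subgroup

theorem aux {G : Type*} [Group G] [Finite G] (A K : Subgroup G)
    (hAK : A ≤ Subgroup.normalizer (K : Set G))
    (hcop : (Nat.card A).Coprime (Nat.card K)) (hsolv : Group.IsSolvable A ∨ Group.IsSolvable K)
    (p : ℕ) [Fact p.Prime] : ∀ (d : ℕ) (U : Subgroup G), Nat.card K - Nat.card U = d → U ≤ K →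
    IsPGroup p U → A ≤ Subgroup.normalizer (U : Set G) →
    ∃ P : Sylow p K, U ≤ (P : Subgroup K).map K.subtype ∧
      A ≤ Subgroup.normalizer ((P : Subgroup K).map K.subtype : Set G) := by
  have hp : p.Prime := Fact.out
  intro d
  induction d using Nat.strong_induction_on with
  | _ d ih =>
  intro U hd hUK hU hUA
  set N : Subgroup G := normalizer (U : Set G) ⊓ K with hN
  have hNK : N ≤ K := inf_le_right
  have hUN : U ≤ N := le_inf Subgroup.le_normalizer hUK
  have hAN : A ≤ normalizer (N : Set G) :=
    (le_inf (hUA.trans Subgroup.le_normalizer) hAK).trans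
      Subgroup.inf_normalizer_le_normalizer_inf
  have hcopN : (Nat.card A).Coprime (Nat.card N) :=
    Nat.Coprime.coprime_dvd_right (Subgroup.card_dvd_of_le hNK) hcop
  have hsolvN : Group.IsSolvable A ∨ Group.IsSolvable N := by
    rcases hsolv with h | h
    · exact Or.inl h
    · right
      exact Group.isSolvable_of_isSolvable_injective
        (f := Subgroup.inclusion hNK) (Subgroup.inclusion_injective _)
  obtain ⟨S, hS⟩ := Cfsg.Agent.S0023.result A N hAN hcopN hsolvN p
  set S' : Subgroup G := (S : Subgroup N).map N.subtype with hS'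
  have hS'N : S' ≤ N := Subgroup.map_subtype_le _
  have hS'p : IsPGroup p S' := S.2.map _
  have hUS' : U ≤ S' := by
    have hn : (U.subgroupOf N).Normal :=
      (normal_subgroupOf_iff_le_normalizer hUN).mpr inf_le_left
    have h1 : U.subgroupOf N ≤ S :=
      IsPGroup.le_sylow_of_normal (N := U.subgroupOf N) (hU.comap_subtype) S
    have := Subgroup.map_mono (f := N.subtype) h1
    rwa [map_subgroupOf_eq_of_le hUN] at this
  by_cases hEq : S' = U
  · -- `U` is a Sylow subgroup of `N_K(U)`, hence of `K`
    obtain ⟨n, hn⟩ := IsPGroup.exists_card_eq hU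
    have hcUK : Nat.card (U.subgroupOf K) = p ^ n := by
      rw [card_subgroupOf_of_le hUK, hn]
    have hnd : ¬ p ^ (n + 1) ∣ Nat.card K := by
      intro hdvd
      have h1 := Sylow.prime_pow_dvd_card_normalizer hdvd hcUK
      rw [← subgroupOf_normalizer_eq hUK] at h1
      have h2 : Nat.card ((normalizer (U : Set G)).subgroupOf K) = Nat.card N := by
        rw [← inf_subgroupOf_right, card_subgroupOf_of_le inf_le_right]
      rw [h2] at h1
      have hN0 : Nat.card N ≠ 0 := Nat.card_pos.ne'
      have h3 : n + 1 ≤ (Nat.card N).factorization p :=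
        (hp.pow_dvd_iff_le_factorization hN0).mp h1
      have h4 : Nat.card S' = p ^ (Nat.card N).factorization p := by
        rw [hS', Subgroup.card_map_of_injective N.subtype_injective]
        exact S.card_eq_multiplicity
      rw [hEq, hn] at h4
      have := Nat.pow_right_injective hp.two_le h4
      omega
    have hK0 : Nat.card K ≠ 0 := Nat.card_pos.ne'
    have hle : n ≤ (Nat.card K).factorization p := by
      apply (hp.pow_dvd_iff_le_factorization hK0).mp
      rw [← hcUK]; exact Subgroup.card_subgroup_dvd_card _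
    have hnle : ¬ n + 1 ≤ (Nat.card K).factorization p := fun h =>
      hnd ((hp.pow_dvd_iff_le_factorization hK0).mpr h)
    have hcard : Nat.card (U.subgroupOf K) = p ^ (Nat.card K).factorization p := by
      rw [hcUK]; congr 1; omega
    refine ⟨Sylow.ofCard (U.subgroupOf K) hcard, ?_, ?_⟩
    · rw [Sylow.coe_ofCard, map_subgroupOf_eq_of_le hUK]
    · rw [Sylow.coe_ofCard, map_subgroupOf_eq_of_le hUK]; exact hUA
  · have hlt : U < S' := lt_of_le_of_ne hUS' (Ne.symm hEq)
    have hcardlt : Nat.card U < Nat.card S' := by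
      refine lt_of_le_of_ne (Subgroup.card_le_of_le hUS') (fun h => hEq ?_)
      exact (Subgroup.eq_of_le_of_card_ge hUS' h.ge).symm
    have hS'K : S' ≤ K := hS'N.trans hNK
    have hcardle : Nat.card S' ≤ Nat.card K := Subgroup.card_le_of_le hS'K
    obtain ⟨P, hP1, hP2⟩ := ih (Nat.card K - Nat.card S') (by omega) S' rfl hS'K hS'p hS
    exact ⟨P, hUS'.trans hP1, hP2⟩

/-- Under coprime action (A normalising K, coprime orders, A or K solvable), an A-invariant p-subgroup of K is contained in an A-invariant Sylow p-subgroup of K. -/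
theorem result {G : Type*} [Group G] [Finite G] (A K : Subgroup G) (hAK : A ≤ Subgroup.normalizer (K : Set G))
    (hcop : (Nat.card A).Coprime (Nat.card K)) (hsolv : Group.IsSolvable A ∨ Group.IsSolvable K)
    (p : ℕ) [Fact p.Prime] (U : Subgroup G) (hUK : U ≤ K) (hU : IsPGroup p U) (hUA : A ≤ Subgroup.normalizer (U : Set G)) :
    ∃ P : Sylow p K, U ≤ (P : Subgroup K).map K.subtype ∧ A ≤ Subgroup.normalizer ((P : Subgroup K).map K.subtype : Set G) := by
  exact aux A K hAK hcop hsolv p _ U rfl hUK hU hUA

end Cfsg.Agent.S0025
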