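import Cfsg.Statements.S1280
import Cfsg.Agent.Lib.Helper8.SupNormalizer

set_option autoImplicit false
open Cfsg

namespace Cfsg.Agent.S1280

/-- Let θ be a solvable A-signalizer functor (A a noncyclic elementary abelian p-subgroup of the finite group G), and X, Y members of its family with Y ≤ N_G(X). Then X ⊔ Y (= XY) is again in the family. -/
theorem result {G : Type*} [Group G] [Finite G] (p : ℕ) [Fact p.Prime] (A : Subgroup G) (hA : Cfsg.IsElementaryAbelian p A) (hA2 : p ^ 2 ≤ Nat.card ↥A) (θ : G → Subgroup G) (hθ : Cfsg.IsSolvableSignalizerFunctor p A θ) (X Y : Subgroup G) (hX : X ∈ Cfsg.signalizerFamily p A θ) (hY : Y ∈ Cfsg.signalizerFamily p A θ) (hn : Y ≤ Subgroup.normalizer (X : Set G)) : X ⊔ Y ∈ Cfsg.signalizerFamily p A θ := by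
  open Cfsg.Agent.Lib.Helper8 in
  obtain ⟨hXs, hXp, hXA, hXθ⟩ := hX
  obtain ⟨hYs, hYp, hYA, hYθ⟩ := hY
  have hp : p.Prime := Fact.out
  refine ⟨isSolvable_sup_of_le_normalizer hXs hYs hn,
    not_dvd_card_sup_of_le_normalizer hp hXp hYp hn, ?_, ?_⟩
  · intro b hb u hu
    obtain ⟨x, hx, y, hy, rfl⟩ := mem_sup_of_le_normalizer hn hu
    have : b * (x * y) * b⁻¹ = (b * x * b⁻¹) * (b * y * b⁻¹) := by group
    rw [this]
    exact Subgroup.mul_mem _ (Subgroup.mem_sup_left (hXA b hb x hx))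
      (Subgroup.mem_sup_right (hYA b hb y hy))
  · intro a ha ha1 g hg
    obtain ⟨hg1, hg2⟩ := Subgroup.mem_inf.mp hg
    rw [Subgroup.mem_centralizer_singleton_iff] at hg2
    have hoa : orderOf a = p := orderOf_eq_prime (hA.2 a ha) ha1
    obtain ⟨x, hx, y, hy, hxa, hya, rfl⟩ :=
      centralizer_sup_factor hoa (hXA a ha) (hYA a ha) hn hXp hg1 hg2
    refine Subgroup.mul_mem _ (hXθ a ha ha1 (Subgroup.mem_inf.mpr ⟨hx, ?_⟩))
      (hYθ a ha ha1 (Subgroup.mem_inf.mpr ⟨hy, ?_⟩))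
    · rw [Subgroup.mem_centralizer_singleton_iff]; exact hxa
    · rw [Subgroup.mem_centralizer_singleton_iff]; exact hya

end Cfsg.Agent.S1280
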