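import Cfsg.Statements.S1282
import Cfsg.Agent.Lib.Helper8.Hyperplane
import Cfsg.Agent.Lib.Helper17.Basic
import Cfsg.Agent.Lib.Helper17.Card

set_option autoImplicit false
open Cfsg

namespace Cfsg.Agent.S1282

/-- Let A be an elementary abelian p-subgroup of rank at least 3 of the finite group G, q ≠ p a prime, and Q₁, Q₂ q-subgroups normalized by A with D = Q₁ ∩ Q₂ different from both. Then there is a non-identity a ∈ A such that, for i = 1 and i = 2, N_{Q_i}(D) ∩ C_G(a) is not contained in D. -/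
theorem result {G : Type*} [Group G] [Finite G] (p : ℕ) [Fact p.Prime] (A : Subgroup G) (hA : Cfsg.IsElementaryAbelian p A) (hA3 : p ^ 3 ≤ Nat.card ↥A) (q : ℕ) [Fact q.Prime] (hqp : q ≠ p) (Q₁ Q₂ : Subgroup G) (h₁ : IsPGroup q ↥Q₁) (h₂ : IsPGroup q ↥Q₂) (hA₁ : A ≤ Subgroup.normalizer (Q₁ : Set G)) (hA₂ : A ≤ Subgroup.normalizer (Q₂ : Set G)) (hD₁ : Q₁ ⊓ Q₂ ≠ Q₁) (hD₂ : Q₁ ⊓ Q₂ ≠ Q₂) : ∃ a ∈ A, a ≠ 1 ∧ ¬ (Subgroup.normalizer ((Q₁ ⊓ Q₂ : Subgroup G) : Set G) ⊓ Q₁ ⊓ Subgroup.centralizer {a} ≤ Q₁ ⊓ Q₂) ∧ ¬ (Subgroup.normalizer ((Q₁ ⊓ Q₂ : Subgroup G) : Set G) ⊓ Q₂ ⊓ Subgroup.centralizer {a} ≤ Q₁ ⊓ Q₂) := by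
  classical
  have hp : p.Prime := Fact.out
  have hq : q.Prime := Fact.out
  have hAN : A ≤ Subgroup.normalizer ((Q₁ ⊓ Q₂ : Subgroup G) : Set G) := by
    intro a ha
    apply Cfsg.Agent.Lib.Helper1.mem_normalizer_of_forall_conj_mem
    intro x hx
    exact ⟨(Subgroup.mem_normalizer_iff.mp (hA₁ ha) x).mp hx.1,
      (Subgroup.mem_normalizer_iff.mp (hA₂ ha) x).mp hx.2⟩
  have hAp : IsPGroup p A := by
    rintro ⟨g, hg⟩
    exact ⟨1, Subtype.ext (by simpa using hA.2 g hg)⟩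
  have main : ∀ Q : Subgroup G, IsPGroup q Q → A ≤ Subgroup.normalizer (Q : Set G) →
      Q₁ ⊓ Q₂ ≤ Q → Q₁ ⊓ Q₂ ≠ Q →
      ∃ B : Subgroup G, B ≤ A ∧ Nat.card A ≤ p * Nat.card B ∧
        ¬ (Subgroup.normalizer ((Q₁ ⊓ Q₂ : Subgroup G) : Set G) ⊓ Q ⊓
          Subgroup.centralizer (B : Set G) ≤ Q₁ ⊓ Q₂) := by
    intro Q hQ hAQ hDQ hne
    apply Cfsg.Agent.Lib.Helper8.exists_hyperplane_centralizer_not_le p A _ _ hA
    · intro a ha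
      apply Cfsg.Agent.Lib.Helper1.mem_normalizer_of_forall_conj_mem
      intro x hx
      exact ⟨Subgroup.mul_mem _ (Subgroup.mul_mem _ (hAN ha) hx.1) (Subgroup.inv_mem _ (hAN ha)),
        (Subgroup.mem_normalizer_iff.mp (hAQ ha) x).mp hx.2⟩
    · obtain ⟨k, hk⟩ := IsPGroup.iff_card.mp hAp
      obtain ⟨l, hl⟩ := IsPGroup.iff_card.mp (hQ.to_le (inf_le_right :
        Subgroup.normalizer ((Q₁ ⊓ Q₂ : Subgroup G) : Set G) ⊓ Q ≤ Q))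
      rw [hk, hl]
      exact Nat.Coprime.pow _ _ ((Nat.coprime_primes hp hq).mpr hqp.symm)
    · intro h
      exact hne (Cfsg.Agent.Lib.Helper17.eq_of_normalizer_inf_le _ Q hQ hDQ h)
  obtain ⟨B₁, hB₁A, hB₁c, hB₁n⟩ := main Q₁ h₁ hA₁ inf_le_left hD₁
  obtain ⟨B₂, hB₂A, hB₂c, hB₂n⟩ := main Q₂ h₂ hA₂ inf_le_right hD₂
  have hcard := Cfsg.Agent.Lib.Helper17.card_mul_card_le_card_sup_mul_card_inf B₁ B₂
  have hsup : Nat.card ↥(B₁ ⊔ B₂) ≤ Nat.card A := Subgroup.card_le_of_le (sup_le hB₁A hB₂A)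
  have hlt : 1 < Nat.card ↥(B₁ ⊓ B₂) := by
    by_contra hle
    push Not at hle
    have hi : Nat.card ↥(B₁ ⊓ B₂) = 1 := le_antisymm hle Nat.card_pos
    rw [hi, mul_one] at hcard
    have hapos : 0 < Nat.card A := Nat.card_pos
    have h1 : Nat.card A * Nat.card A ≤ p ^ 2 * Nat.card A := by
      calc Nat.card A * Nat.card A ≤ (p * Nat.card B₁) * (p * Nat.card B₂) :=
            Nat.mul_le_mul hB₁c hB₂c
        _ = p ^ 2 * (Nat.card B₁ * Nat.card B₂) := by ring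
        _ ≤ p ^ 2 * Nat.card A := Nat.mul_le_mul_left _ (hcard.trans hsup)
    have h2 : Nat.card A ≤ p ^ 2 := Nat.le_of_mul_le_mul_right h1 hapos
    have h3 : p ^ 2 < p ^ 3 := Nat.pow_lt_pow_right hp.one_lt (by norm_num)
    omega
  have hne : B₁ ⊓ B₂ ≠ ⊥ := (Subgroup.one_lt_card_iff_ne_bot _).mp hlt
  obtain ⟨a, ha, ha1⟩ : ∃ a ∈ B₁ ⊓ B₂, a ≠ 1 := by
    by_contra h
    push Not at h
    exact hne ((Subgroup.eq_bot_iff_forall _).mpr h)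
  refine ⟨a, hB₁A ha.1, ha1, fun h => hB₁n (le_trans ?_ h), fun h => hB₂n (le_trans ?_ h)⟩
  · exact inf_le_inf_left _ (Subgroup.centralizer_le (Set.singleton_subset_iff.mpr ha.1))
  · exact inf_le_inf_left _ (Subgroup.centralizer_le (Set.singleton_subset_iff.mpr ha.2))

end Cfsg.Agent.S1282
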