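import Cfsg.Statements.S0013
-- import your own Cfsg.Agent.* helpers here
import Mathlib

set_option autoImplicit false
open Cfsg

namespace Cfsg.Agent.S0013

open Pointwise
open scoped commutatorElement

/-- In a finite p-group the Frattini subgroup is the smallest normal subgroup with elementary abelian quotient: it lies below any normal subgroup containing all commutators and all p-th powers. -/
theorem result {G : Type*} [Group G] [Finite G] (p : ℕ) [Fact p.Prime]
    (hG : IsPGroup p G) (N : Subgroup G) [N.Normal] (hcomm : commutator G ≤ N) (hpow : ∀ x : G, x ^ p ∈ N) :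
    frattini G ≤ N := by
  classical
  have hp : p.Prime := Fact.out
  intro g hgΦ
  by_contra hgN
  -- choose `M` maximal among subgroups containing `N` but not `g`
  let S : Set (Subgroup G) := {H | N ≤ H ∧ g ∉ H}
  have hne : S.Nonempty := ⟨N, le_rfl, hgN⟩
  obtain ⟨M, ⟨hNM, hgM⟩, hmax⟩ := (wellFounded_gt (α := Subgroup G)).has_min S hne
  -- `M` is normal since it contains the commutator subgroup
  have hMn : M.Normal := by
    constructor
    intro m hm x
    have h1 : ⁅x, m⁆ ∈ commutator G := Subgroup.commutator_mem_commutator (Subgroup.mem_top x) (Subgroup.mem_top m)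
    have h2 : ⁅x, m⁆ ∈ M := hNM (hcomm h1)
    have h3 : x * m * x⁻¹ = ⁅x, m⁆ * m := by rw [commutatorElement_def]; group
    rw [h3]; exact M.mul_mem h2 hm
  -- `M` is a coatom
  have hco : IsCoatom M := by
    refine ⟨fun h => hgM (h ▸ Subgroup.mem_top g), fun K hMK => ?_⟩
    have hgK : g ∈ K := by
      by_contra hgK
      exact hmax K ⟨hNM.trans hMK.le, hgK⟩ hMK
    by_contra hK
    obtain ⟨x, hxK⟩ : ∃ x : G, x ∉ K := by
      by_contra h
      exact hK (eq_top_iff.mpr fun y _ => by_contra fun hy => h ⟨y, hy⟩)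
    have hxM : x ∉ M := fun h => hxK (hMK.le h)
    have hlt : M < M ⊔ Subgroup.zpowers x := by
      refine lt_of_le_of_ne le_sup_left fun h => hxM ?_
      rw [h]; exact (le_sup_right : Subgroup.zpowers x ≤ _) (Subgroup.mem_zpowers x)
    have hg' : g ∈ M ⊔ Subgroup.zpowers x := by
      by_contra hg'
      exact hmax _ ⟨hNM.trans le_sup_left, hg'⟩ hlt
    rw [← SetLike.mem_coe, Subgroup.normal_mul, Set.mem_mul] at hg'
    obtain ⟨m, hm, y, hy, hmy⟩ := hg'
    obtain ⟨i, rfl⟩ := Subgroup.mem_zpowers_iff.mp hy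
    have hxiK : x ^ i ∈ K := by
      have : x ^ i = m⁻¹ * g := by rw [← hmy]; group
      rw [this]; exact K.mul_mem (K.inv_mem (hMK.le hm)) hgK
    have hpi : ¬ (p : ℤ) ∣ i := by
      rintro ⟨j, rfl⟩
      apply hgM
      rw [← hmy]
      refine M.mul_mem hm (hNM ?_)
      rw [zpow_mul, zpow_natCast]
      exact N.zpow_mem (hpow x) j
    have hcop : IsCoprime (p : ℤ) i :=
      (Nat.prime_iff_prime_int.mp hp).irreducible.coprime_iff_not_dvd.mpr hpi
    obtain ⟨a, b, hab⟩ := hcop
    apply hxK
    have hx : x = (x ^ p) ^ a * (x ^ i) ^ b := by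
      rw [← zpow_natCast, ← zpow_mul, ← zpow_mul, ← zpow_add]
      have : (p : ℤ) * a + i * b = 1 := by linarith
      rw [this, zpow_one]
    rw [hx]
    exact K.mul_mem (K.zpow_mem (hMK.le (hNM (hpow x))) a) (K.zpow_mem hxiK b)
  exact hgM (frattini_le_coatom hco hgΦ)

end Cfsg.Agent.S0013
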