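import Cfsg.Statements.S0093
-- import your own Cfsg.Agent.* helpers here
import Mathlib
import Cfsg.Agent.S0013
import Cfsg.Agent.Lib.Helper12.Basic

set_option autoImplicit false
open Cfsg

namespace Cfsg.Agent.S0093

open Subgroup
open scoped commutatorElement

/-- the candidate critical subgroup attached to a normal subgroup `A` -/
def critSub {P : Type*} [Group P] (A : Subgroup P) [hA : A.Normal] (p : ℕ) : Subgroup P where
  carrier := {x | x ∈ centralizer (A : Set P) ∧ (∀ g : P, ⁅x, g⁆ ∈ A) ∧ x ^ p ∈ A}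
  one_mem' := by
    refine ⟨one_mem _, fun g => ?_, ?_⟩
    · rw [commutatorElement_one_left]; exact one_mem _
    · rw [one_pow]; exact one_mem _
  mul_mem' := by
    rintro x y ⟨hx1, hx2, hx3⟩ ⟨hy1, hy2, hy3⟩
    refine ⟨mul_mem hx1 hy1, fun g => ?_, ?_⟩
    · have e : ⁅x * y, g⁆ = x * ⁅y, g⁆ * x⁻¹ * ⁅x, g⁆ := by
        simp only [commutatorElement_def]; group
      rw [e]
      exact A.mul_mem (hA.conj_mem _ (hy2 g) x) (hx2 g)
    · have hπ : ∀ z : P, z ∈ A ↔ (QuotientGroup.mk' A z) = 1 := fun z =>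
        (QuotientGroup.eq_one_iff z).symm
      rw [hπ, map_pow, map_mul]
      have hc : Commute (QuotientGroup.mk' A x) (QuotientGroup.mk' A y) := by
        rw [← commutatorElement_eq_one_iff_commute, ← map_commutatorElement, ← hπ]
        exact hx2 y
      rw [hc.mul_pow, ← map_pow, ← map_pow, (hπ _).mp hx3, (hπ _).mp hy3, one_mul]
  inv_mem' := by
    rintro x ⟨hx1, hx2, hx3⟩
    refine ⟨inv_mem hx1, fun g => ?_, ?_⟩
    · have e : ⁅x⁻¹, g⁆ = x⁻¹ * ⁅x, g⁆⁻¹ * x⁻¹⁻¹ := by
        simp only [commutatorElement_def]; group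
      rw [e]
      exact hA.conj_mem _ (A.inv_mem (hx2 g)) x⁻¹
    · rw [inv_pow]; exact A.inv_mem hx3

theorem mem_critSub {P : Type*} [Group P] (A : Subgroup P) [A.Normal] (p : ℕ) (x : P) :
    x ∈ critSub A p ↔ x ∈ centralizer (A : Set P) ∧ (∀ g : P, ⁅x, g⁆ ∈ A) ∧ x ^ p ∈ A := Iff.rfl

/-- Every finite p-group has a critical subgroup: a characteristic subgroup H whose Frattini subgroup and whose commutator with the whole group lie in the centre of H, and whose centralizer is contained in H. -/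
theorem result {P : Type*} [Group P] [Finite P] {p : ℕ} [Fact p.Prime] (hP : IsPGroup p P) : ∃ H : Subgroup P, H.Characteristic ∧ (frattini H).map H.subtype ≤ Subgroup.centralizer (H : Set P) ∧ ⁅H, (⊤ : Subgroup P)⁆ ≤ H ⊓ Subgroup.centralizer (H : Set P) ∧ Subgroup.centralizer (H : Set P) ≤ H := by
  classical
  -- a maximal characteristic abelian subgroup
  let S : Set (Subgroup P) := {A | A.Characteristic ∧ IsMulCommutative A}
  have hSne : S.Nonempty := ⟨⊥, inferInstance, inferInstance⟩
  obtain ⟨A, ⟨hAchar, hAcomm⟩, hAmax⟩ := (wellFounded_gt (α := Subgroup P)).has_min S hSne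
  haveI := hAchar
  have hAn : A.Normal := inferInstance
  obtain ⟨H, hH⟩ : ∃ H : Subgroup P, H = critSub A p := ⟨_, rfl⟩
  have hmemH : ∀ x : P, x ∈ H ↔
      x ∈ centralizer (A : Set P) ∧ (∀ g : P, ⁅x, g⁆ ∈ A) ∧ x ^ p ∈ A := by
    intro x
    rw [hH]
    exact mem_critSub A p x
  have hAH : A ≤ H := by
    intro a ha
    rw [hmemH]
    refine ⟨?_, fun g => ?_, A.pow_mem ha p⟩
    · rw [mem_centralizer_iff]
      intro b hb
      exact congrArg Subtype.val (mul_comm' (⟨b, hb⟩ : A) ⟨a, ha⟩)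
    · rw [commutatorElement_def]
      have e : a * g * a⁻¹ * g⁻¹ = a * (g * a⁻¹ * g⁻¹) := by group
      rw [e]
      exact A.mul_mem ha (hAn.conj_mem _ (A.inv_mem ha) g)
  have hHC : H ≤ centralizer (A : Set P) := fun x hx => ((hmemH x).mp hx).1
  have hAcentH : A ≤ centralizer (H : Set P) := by
    intro a ha
    rw [mem_centralizer_iff]
    intro x hx
    exact ((mem_centralizer_iff.mp (hHC hx)) a ha).symm
  -- `H` is characteristic
  have hHchar : H.Characteristic := by
    rw [characteristic_iff_map_le]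
    rintro φ _ ⟨x, hx, rfl⟩
    obtain ⟨hx1, hx2, hx3⟩ := (hmemH x).mp hx
    have hφA : ∀ a, a ∈ A → φ a ∈ A := fun a ha =>
      characteristic_iff_le_comap.mp hAchar φ ha
    have hφA' : ∀ a, a ∈ A → φ.symm a ∈ A := fun a ha =>
      characteristic_iff_le_comap.mp hAchar φ.symm ha
    rw [hmemH]
    refine ⟨?_, fun g => ?_, ?_⟩
    · rw [mem_centralizer_iff]
      intro b hb
      have h1 := (mem_centralizer_iff.mp hx1) _ (hφA' b hb)
      have h2 := congrArg φ h1
      simpa using h2
    · have e : ⁅φ.toMonoidHom x, g⁆ = φ ⁅x, φ.symm g⁆ := by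
        rw [map_commutatorElement]
        simp
      rw [e]
      exact hφA _ (hx2 _)
    · show (φ x) ^ p ∈ A
      rw [← map_pow]
      exact hφA _ hx3
  -- `Z(H) = A`
  have hZ : H ⊓ centralizer (H : Set P) = A := by
    by_contra hne
    have hle : A ≤ H ⊓ centralizer (H : Set P) := le_inf hAH hAcentH
    have hlt : A < H ⊓ centralizer (H : Set P) := lt_of_le_of_ne hle (Ne.symm hne)
    apply hAmax (H ⊓ centralizer (H : Set P)) ⟨?_, ?_⟩ hlt
    · haveI := hHchar
      infer_instance
    · refine ⟨⟨fun a b => ?_⟩⟩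
      apply Subtype.ext
      have ha := (Subgroup.mem_inf.mp a.2).2
      have hb := (Subgroup.mem_inf.mp b.2).1
      exact ((mem_centralizer_iff.mp ha) b hb).symm
  refine ⟨H, hHchar, ?_, ?_, ?_⟩
  · -- Frattini
    have hHp : IsPGroup p H := hP.to_subgroup H
    haveI : (A.subgroupOf H).Normal := hAn.subgroupOf H
    have h1 : frattini H ≤ A.subgroupOf H := by
      apply Cfsg.Agent.S0013.result p hHp (A.subgroupOf H)
      · rw [commutator_def, Subgroup.commutator_le]
        intro x _ y _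
        rw [mem_subgroupOf]
        have hx := ((hmemH x).mp x.2).2.1 y
        simpa [commutatorElement_def] using hx
      · intro x
        rw [mem_subgroupOf]
        have hx := ((hmemH x).mp x.2).2.2
        simpa using hx
    rintro _ ⟨x, hx, rfl⟩
    exact hAcentH (mem_subgroupOf.mp (h1 hx))
  · rw [hZ, Subgroup.commutator_le]
    intro x hx g _
    exact ((hmemH x).mp hx).2.1 g
  · by_contra hnot
    obtain ⟨Q, hQ⟩ : ∃ Q : Subgroup P, Q = centralizer (H : Set P) := ⟨_, rfl⟩
    rw [← hQ] at hnot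
    haveI : H.Characteristic := hHchar
    have hQn : Q.Normal := by
      rw [hQ]
      infer_instance
    have hQC : Q ≤ centralizer (A : Set P) := by
      rw [hQ]
      exact centralizer_le hAH
    have hQbar : Q.map (QuotientGroup.mk' A) ≠ ⊥ := by
      intro hbot
      apply hnot
      intro x hx
      have h1 : QuotientGroup.mk' A x ∈ Q.map (QuotientGroup.mk' A) := ⟨x, hx, rfl⟩
      rw [hbot, mem_bot] at h1
      exact hAH ((QuotientGroup.eq_one_iff x).mp h1)
    haveI : (Q.map (QuotientGroup.mk' A)).Normal :=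
      hQn.map (QuotientGroup.mk' A) (QuotientGroup.mk'_surjective A)
    have hPbar : IsPGroup p (P ⧸ A) := hP.to_quotient A
    obtain ⟨z, hzQ, hz1, hzc⟩ := Cfsg.Agent.Lib.Helper12.exists_ne_one_mem_center_of_normal hPbar
      (Q.map (QuotientGroup.mk' A)) hQbar
    have hex : ∃ k, z ^ p ^ k = 1 := hPbar z
    have hm1 : z ^ p ^ (Nat.find hex) = 1 := Nat.find_spec hex
    have hm0 : Nat.find hex ≠ 0 := by
      intro h0
      rw [h0, pow_zero, pow_one] at hm1
      exact hz1 hm1
    obtain ⟨j, hj⟩ := Nat.exists_eq_succ_of_ne_zero hm0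
    have hz'1 : z ^ p ^ j ≠ 1 := by
      intro h
      exact Nat.find_min hex (m := j) (by omega) h
    have hz'p : (z ^ p ^ j) ^ p = 1 := by
      rw [← pow_mul, ← pow_succ, ← Nat.succ_eq_add_one, ← hj]
      exact hm1
    have hz'Q : z ^ p ^ j ∈ Q.map (QuotientGroup.mk' A) := pow_mem hzQ _
    have hz'c : z ^ p ^ j ∈ center (P ⧸ A) := pow_mem hzc _
    obtain ⟨x, hxQ, hxz⟩ := hz'Q
    have hxH : x ∈ H := by
      rw [hmemH]
      refine ⟨hQC hxQ, fun g => ?_, ?_⟩
      · rw [← QuotientGroup.eq_one_iff]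
        show QuotientGroup.mk' A ⁅x, g⁆ = 1
        rw [map_commutatorElement, hxz, commutatorElement_eq_one_iff_commute]
        exact (mem_center_iff.mp hz'c (QuotientGroup.mk' A g)).symm
      · rw [← QuotientGroup.eq_one_iff]
        show QuotientGroup.mk' A (x ^ p) = 1
        rw [map_pow, hxz, hz'p]
    have hxA : x ∈ A := by
      rw [← hZ]
      exact Subgroup.mem_inf.mpr ⟨hxH, hQ ▸ hxQ⟩
    apply hz'1
    rw [← hxz]
    exact (QuotientGroup.eq_one_iff x).mpr hxA

end Cfsg.Agent.S0093
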