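import Cfsg.Statements.S0121
import Mathlib

set_option autoImplicit false
open Cfsg

namespace Cfsg.Agent.S0121

/-- A p'-automorphism of a p-group acting trivially on a critical subgroup is trivial. -/
theorem result {G : Type*} [Group G] [Finite G] {p : ℕ} [Fact p.Prime] (hG : IsPGroup p G) (H : Subgroup G) (hH : H.Characteristic) (h1 : (frattini H).map H.subtype ≤ Subgroup.centralizer (H : Set G)) (h2 : ⁅H, (⊤ : Subgroup G)⁆ ≤ H ⊓ Subgroup.centralizer (H : Set G)) (h3 : Subgroup.centralizer (H : Set G) ≤ H) (a : MulAut G) (ha : Nat.Coprime (orderOf a) p) (h : ∀ x ∈ H, a x = x) : a = 1 := by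
  classical
  have hp : p.Prime := Fact.out
  have hHn : H.Normal := Subgroup.normal_of_characteristic H
  ext g
  rw [MulAut.one_apply]
  set c := a g * g⁻¹ with hc
  have hag : a g = c * g := by rw [hc]; group
  have hcC : c ∈ Subgroup.centralizer (H : Set G) := by
    rw [Subgroup.mem_centralizer_iff]
    intro x hx
    have h4 : g⁻¹ * x * g ∈ H := by
      have := hHn.conj_mem x hx g⁻¹
      simpa using this
    have h5 : a (g⁻¹ * x * g) = g⁻¹ * x * g := h _ h4
    rw [map_mul, map_mul, map_inv, h x hx] at h5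
    calc x * c = a g * ((a g)⁻¹ * x * a g) * g⁻¹ := by rw [hc]; group
      _ = a g * (g⁻¹ * x * g) * g⁻¹ := by rw [h5]
      _ = c * x := by rw [hc]; group
  have hcH : c ∈ H := h3 hcC
  have hac : a c = c := h c hcH
  have hk : ∀ k : ℕ, (a ^ k) g = c ^ k * g := by
    intro k
    induction k with
    | zero => simp
    | succ k ih =>
      rw [pow_succ', MulAut.mul_apply, ih, map_mul, map_pow, hac, pow_succ, mul_assoc, ← hag]
  have h6 := hk (orderOf a)
  rw [pow_orderOf_eq_one, MulAut.one_apply] at h6
  have h7 : c ^ orderOf a = 1 := by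
    have : c ^ orderOf a * g = 1 * g := by rw [one_mul]; exact h6.symm
    exact mul_right_cancel this
  obtain ⟨j, hj⟩ := (IsPGroup.iff_orderOf.mp hG) c
  have h8 : orderOf c ∣ orderOf a := orderOf_dvd_of_pow_eq_one h7
  have h9 : orderOf c = 1 := by
    have hcop : Nat.Coprime (orderOf c) (orderOf a) := by
      rw [hj]; exact Nat.Coprime.pow_left j ha.symm
    exact Nat.Coprime.eq_one_of_dvd hcop h8
  have h10 : c = 1 := orderOf_eq_one_iff.mp h9
  rw [hag, h10, one_mul]

end Cfsg.Agent.S0121
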