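import Cfsg.Statements.S2305
import Cfsg.Agent.Lib.Helper13.PSBasic

set_option autoImplicit false
open Cfsg

namespace Cfsg.Agent.S2305

/-- Over a finite field F, for multiplicative characters α, β, α′, β′ of F, the characters of GL₂ induced from the linear characters b ↦ α(b₁₁) β(b₂₂) and b ↦ α′(b₁₁) β′(b₂₂) of the upper triangular subgroup coincide exactly when {α, β} = {α′, β′} as unordered pairs. -/
theorem result {F : Type*} [Field F] [Fintype F] [DecidableEq F] (α β α' β' : MulChar F ℂ) :
    Cfsg.indFun (Cfsg.upperTriangularGL 2 F) (fun b => α (((b : Matrix.GeneralLinearGroup (Fin 2) F) : Matrix (Fin 2) (Fin 2) F) 0 0) * β (((b : Matrix.GeneralLinearGroup (Fin 2) F) : Matrix (Fin 2) (Fin 2) F) 1 1)) = Cfsg.indFun (Cfsg.upperTriangularGL 2 F) (fun b => α' (((b : Matrix.GeneralLinearGroup (Fin 2) F) : Matrix (Fin 2) (Fin 2) F) 0 0) * β' (((b : Matrix.GeneralLinearGroup (Fin 2) F) : Matrix (Fin 2) (Fin 2) F) 1 1)) ↔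
      (α = α' ∧ β = β') ∨ (α = β' ∧ β = α') := by
  have hself := Cfsg.Agent.Lib.Helper13.classInner_indFun_psChar α β α β
  have hcross := Cfsg.Agent.Lib.Helper13.classInner_indFun_psChar α β α' β'
  constructor
  · intro heq
    by_contra hcon
    rw [not_or] at hcon
    change Cfsg.indFun (Cfsg.upperTriangularGL 2 F) (Cfsg.Agent.Lib.Helper13.psChar α β) =
      Cfsg.indFun (Cfsg.upperTriangularGL 2 F) (Cfsg.Agent.Lib.Helper13.psChar α' β') at heq
    rw [← heq, hself, if_pos ⟨rfl, rfl⟩, if_neg hcon.1, if_neg hcon.2, add_zero] at hcross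
    by_cases hab : α = β
    · rw [if_pos ⟨hab, hab.symm⟩] at hcross
      norm_num at hcross
    · rw [if_neg (fun h => hab h.1)] at hcross
      norm_num at hcross
  · rintro (⟨rfl, rfl⟩ | ⟨rfl, rfl⟩)
    · rfl
    · by_cases hab : α = β
      · subst hab; rfl
      · have i1 : Cfsg.IsIrrCharacter _ (Cfsg.indFun (Cfsg.upperTriangularGL 2 F) (Cfsg.Agent.Lib.Helper13.psChar α β)) := by
          have h1 := Cfsg.Agent.CharLib.IsCharacter.indFun (Cfsg.upperTriangularGL 2 F)
            (Cfsg.Agent.Lib.Helper13.isCharacter_psChar α β)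
          have h2 := hself
          rw [if_pos ⟨rfl, rfl⟩, if_neg (fun h => hab h.1), add_zero] at h2
          exact Cfsg.Agent.Lib.Helper6.isIrrCharacter_of_classInner_self_eq_one h1 h2
        have i2 : Cfsg.IsIrrCharacter _ (Cfsg.indFun (Cfsg.upperTriangularGL 2 F) (Cfsg.Agent.Lib.Helper13.psChar β α)) := by
          have h1 := Cfsg.Agent.CharLib.IsCharacter.indFun (Cfsg.upperTriangularGL 2 F)
            (Cfsg.Agent.Lib.Helper13.isCharacter_psChar β α)
          have h2 := Cfsg.Agent.Lib.Helper13.classInner_indFun_psChar β α β α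
          rw [if_pos ⟨rfl, rfl⟩, if_neg (fun h => hab h.1.symm), add_zero] at h2
          exact Cfsg.Agent.Lib.Helper6.isIrrCharacter_of_classInner_self_eq_one h1 h2
        have h3 := Cfsg.Agent.CharLib.classInner_irr i1 i2
        rw [hcross, if_neg (fun h => hab h.1), if_pos ⟨rfl, rfl⟩, zero_add] at h3
        by_contra hne
        change ¬ (Cfsg.indFun (Cfsg.upperTriangularGL 2 F) (Cfsg.Agent.Lib.Helper13.psChar α β) =
          Cfsg.indFun (Cfsg.upperTriangularGL 2 F) (Cfsg.Agent.Lib.Helper13.psChar β α)) at hne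
        rw [if_neg hne] at h3
        exact one_ne_zero h3

end Cfsg.Agent.S2305
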