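import Cfsg.Statements.S2330
import Cfsg.Agent.Lib.Helper13.GL2Classes

set_option autoImplicit false
open Cfsg

namespace Cfsg.Agent.S2330

/-- Over a finite field with q elements, the general linear group GL₂ has exactly q² − 1 conjugacy classes. -/
theorem result {F : Type*} [Field F] [Fintype F] :
    Nat.card (ConjClasses (Matrix.GeneralLinearGroup (Fin 2) F)) = Fintype.card F ^ 2 - 1 := by
  have h := Nat.card_congr (Equiv.ofBijective _ (Cfsg.Agent.Lib.Helper13.classOfGL2_bijective (K := F)))
  rw [← h, Nat.card_sum, Nat.card_prod, Nat.card_units, Nat.card_eq_fintype_card]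
  have hq : 1 ≤ Fintype.card F := Fintype.card_pos
  set q := Fintype.card F
  have h1 : q ^ 2 = q * q := pow_two q
  have h2 : q ≤ q * q := Nat.le_mul_of_pos_left q hq
  zify [hq, h1 ▸ (hq.trans h2)]
  ring

end Cfsg.Agent.S2330
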