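import Cfsg.Statements.S2298
import Cfsg.Agent.Lib.Helper13.PSCount

set_option autoImplicit false
open Cfsg

namespace Cfsg.Agent.S2298

/-- Over a finite field F with q elements, every irreducible complex character of GL₂ has degree 1, q − 1, q or q + 1; and when q ≥ 3 (so that these four numbers are distinct) there are exactly q − 1 irreducible characters of degree 1, exactly q − 1 of degree q, exactly (q − 1)(q − 2)/2 of degree q + 1 and exactly q(q − 1)/2 of degree q − 1. -/
theorem result {F : Type*} [Field F] [Fintype F] :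
    (∀ χ : Matrix.GeneralLinearGroup (Fin 2) F → ℂ, Cfsg.IsIrrCharacter (Matrix.GeneralLinearGroup (Fin 2) F) χ →
      χ 1 = 1 ∨ χ 1 = (Fintype.card F : ℂ) - 1 ∨ χ 1 = (Fintype.card F : ℂ) ∨ χ 1 = (Fintype.card F : ℂ) + 1) ∧
    (3 ≤ Fintype.card F →
      Nat.card {χ : Cfsg.IrrCharacter (Matrix.GeneralLinearGroup (Fin 2) F) // (χ : Matrix.GeneralLinearGroup (Fin 2) F → ℂ) 1 = 1} = Fintype.card F - 1 ∧
      Nat.card {χ : Cfsg.IrrCharacter (Matrix.GeneralLinearGroup (Fin 2) F) // (χ : Matrix.GeneralLinearGroup (Fin 2) F → ℂ) 1 = (Fintype.card F : ℂ)} = Fintype.card F - 1 ∧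
      Nat.card {χ : Cfsg.IrrCharacter (Matrix.GeneralLinearGroup (Fin 2) F) // (χ : Matrix.GeneralLinearGroup (Fin 2) F → ℂ) 1 = (Fintype.card F : ℂ) + 1} = (Fintype.card F - 1) * (Fintype.card F - 2) / 2 ∧
      Nat.card {χ : Cfsg.IrrCharacter (Matrix.GeneralLinearGroup (Fin 2) F) // (χ : Matrix.GeneralLinearGroup (Fin 2) F → ℂ) 1 = (Fintype.card F : ℂ) - 1} = Fintype.card F * (Fintype.card F - 1) / 2) := by
  classical
  have hq : 1 < Fintype.card F := Fintype.one_lt_card
  have hcast : ((Fintype.card F - 1 : ℕ) : ℂ) = (Fintype.card F : ℂ) - 1 := by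
    push_cast [Nat.cast_sub (by omega : 1 ≤ Fintype.card F)]; ring
  obtain ⟨hcusp, hN4⟩ := Cfsg.Agent.Lib.Helper13.cusp_main (F := F)
  have hT4 : ∀ χ : Matrix.GeneralLinearGroup (Fin 2) F → ℂ,
      Cfsg.IsIrrCharacter (Matrix.GeneralLinearGroup (Fin 2) F) χ → Cfsg.Agent.Lib.Helper13.IsT4 χ →
      χ 1 = (Fintype.card F : ℂ) - 1 := by
    intro χ hχ h4
    have := hcusp ⟨χ, hχ⟩ h4
    have h1 := Cfsg.Agent.Lib.Helper24.irr_apply_one (⟨χ, hχ⟩ : Cfsg.IrrCharacter _)
    rw [this, hcast] at h1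
    exact h1
  constructor
  · intro χ hχ
    rcases Cfsg.Agent.Lib.Helper13.types_excl hχ with ⟨a, -⟩ | ⟨-, b, -⟩ | ⟨-, -, c, -⟩ | ⟨-, -, -, d⟩
    · left; exact (Cfsg.Agent.Lib.Helper13.isT1_spec a).1
    · right; right; left; exact (Cfsg.Agent.Lib.Helper13.isT2_spec b).1
    · right; right; right; exact (Cfsg.Agent.Lib.Helper13.isT3_spec c).1
    · right; left; exact hT4 χ hχ d
  · intro hq3
    have hq0 : (Fintype.card F : ℂ) ≠ 0 := by
      exact_mod_cast (by omega : Fintype.card F ≠ 0)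
    have key1 : ∀ χ : Cfsg.IrrCharacter (Matrix.GeneralLinearGroup (Fin 2) F),
        (χ : Matrix.GeneralLinearGroup (Fin 2) F → ℂ) 1 = 1 ↔
          Cfsg.Agent.Lib.Helper13.IsT1 (χ : Matrix.GeneralLinearGroup (Fin 2) F → ℂ) := by
      intro χ
      constructor
      · intro h1
        rcases Cfsg.Agent.Lib.Helper13.types_excl χ.2 with ⟨a, -⟩ | ⟨-, b, -⟩ | ⟨-, -, c, -⟩ | ⟨-, -, -, d⟩
        · exact a
        · exfalso
          rw [(Cfsg.Agent.Lib.Helper13.isT2_spec b).1] at h1
          have : Fintype.card F = 1 := by exact_mod_cast h1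
          omega
        · exfalso
          rw [(Cfsg.Agent.Lib.Helper13.isT3_spec c).1] at h1
          exact hq0 (by linear_combination h1)
        · exfalso
          rw [hT4 χ.1 χ.2 d, ← hcast] at h1
          have : Fintype.card F - 1 = 1 := by exact_mod_cast h1
          omega
      · intro a; exact (Cfsg.Agent.Lib.Helper13.isT1_spec a).1
    have key2 : ∀ χ : Cfsg.IrrCharacter (Matrix.GeneralLinearGroup (Fin 2) F),
        (χ : Matrix.GeneralLinearGroup (Fin 2) F → ℂ) 1 = (Fintype.card F : ℂ) ↔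
          Cfsg.Agent.Lib.Helper13.IsT2 (χ : Matrix.GeneralLinearGroup (Fin 2) F → ℂ) := by
      intro χ
      constructor
      · intro h1
        rcases Cfsg.Agent.Lib.Helper13.types_excl χ.2 with ⟨a, -⟩ | ⟨-, b, -⟩ | ⟨-, -, c, -⟩ | ⟨-, -, -, d⟩
        · exfalso
          rw [(Cfsg.Agent.Lib.Helper13.isT1_spec a).1] at h1
          have : 1 = Fintype.card F := by exact_mod_cast h1
          omega
        · exact b
        · exfalso
          rw [(Cfsg.Agent.Lib.Helper13.isT3_spec c).1] at h1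
          exact one_ne_zero (by linear_combination h1 : (1 : ℂ) = 0)
        · exfalso
          rw [hT4 χ.1 χ.2 d] at h1
          exact one_ne_zero (by linear_combination -h1 : (1 : ℂ) = 0)
      · intro b; exact (Cfsg.Agent.Lib.Helper13.isT2_spec b).1
    have key3 : ∀ χ : Cfsg.IrrCharacter (Matrix.GeneralLinearGroup (Fin 2) F),
        (χ : Matrix.GeneralLinearGroup (Fin 2) F → ℂ) 1 = (Fintype.card F : ℂ) + 1 ↔
          Cfsg.Agent.Lib.Helper13.IsT3 (χ : Matrix.GeneralLinearGroup (Fin 2) F → ℂ) := by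
      intro χ
      constructor
      · intro h1
        rcases Cfsg.Agent.Lib.Helper13.types_excl χ.2 with ⟨a, -⟩ | ⟨-, b, -⟩ | ⟨-, -, c, -⟩ | ⟨-, -, -, d⟩
        · exfalso
          rw [(Cfsg.Agent.Lib.Helper13.isT1_spec a).1] at h1
          exact hq0 (by linear_combination -h1)
        · exfalso
          rw [(Cfsg.Agent.Lib.Helper13.isT2_spec b).1] at h1
          exact one_ne_zero (by linear_combination -h1 : (1 : ℂ) = 0)
        · exact c
        · exfalso
          rw [hT4 χ.1 χ.2 d] at h1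
          have : (2 : ℂ) = 0 := by linear_combination -h1
          norm_num at this
      · intro c; exact (Cfsg.Agent.Lib.Helper13.isT3_spec c).1
    have key4 : ∀ χ : Cfsg.IrrCharacter (Matrix.GeneralLinearGroup (Fin 2) F),
        (χ : Matrix.GeneralLinearGroup (Fin 2) F → ℂ) 1 = (Fintype.card F : ℂ) - 1 ↔
          Cfsg.Agent.Lib.Helper13.IsT4 (χ : Matrix.GeneralLinearGroup (Fin 2) F → ℂ) := by
      intro χ
      constructor
      · intro h1
        rcases Cfsg.Agent.Lib.Helper13.types_excl χ.2 with ⟨a, -⟩ | ⟨-, b, -⟩ | ⟨-, -, c, -⟩ | ⟨-, -, -, d⟩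
        · exfalso
          rw [(Cfsg.Agent.Lib.Helper13.isT1_spec a).1, ← hcast] at h1
          have : 1 = Fintype.card F - 1 := by exact_mod_cast h1
          omega
        · exfalso
          rw [(Cfsg.Agent.Lib.Helper13.isT2_spec b).1] at h1
          exact one_ne_zero (by linear_combination h1 : (1 : ℂ) = 0)
        · exfalso
          rw [(Cfsg.Agent.Lib.Helper13.isT3_spec c).1] at h1
          have : (2 : ℂ) = 0 := by linear_combination h1
          norm_num at this
        · exact d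
      · intro d; exact hT4 χ.1 χ.2 d
    refine ⟨?_, ?_, ?_, ?_⟩
    · rw [Nat.card_congr (Equiv.subtypeEquivRight key1), Cfsg.Agent.Lib.Helper13.card_T1]
    · rw [Nat.card_congr (Equiv.subtypeEquivRight key2), Cfsg.Agent.Lib.Helper13.card_T2]
    · rw [Nat.card_congr (Equiv.subtypeEquivRight key3), Cfsg.Agent.Lib.Helper13.card_T3,
        Nat.choose_two_right]
      congr 2
    · rw [Nat.card_congr (Equiv.subtypeEquivRight key4)]
      have hA := Cfsg.Agent.Lib.Helper13.choose_two_identity (Fintype.card F - 1)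
      obtain ⟨r, hr⟩ : ∃ r, Fintype.card F = r + 1 := ⟨Fintype.card F - 1, by omega⟩
      rw [hr] at hN4 hA ⊢
      simp only [Nat.add_sub_cancel] at hN4 hA ⊢
      have h2 : 2 * Nat.card {χ : Cfsg.IrrCharacter (Matrix.GeneralLinearGroup (Fin 2) F) //
          Cfsg.Agent.Lib.Helper13.IsT4 (χ : Matrix.GeneralLinearGroup (Fin 2) F → ℂ)} = (r + 1) * r := by
        nlinarith
      omega

end Cfsg.Agent.S2298
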