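import Cfsg.Statements.S2300
import Cfsg.Agent.Lib.Helper13.SLEven
import Cfsg.Agent.S2298

set_option autoImplicit false
open Cfsg

namespace Cfsg.Agent.S2300

/-- Over a finite field F with q elements, q even, every irreducible complex character of SL₂ has degree 1, q − 1, q or q + 1; and when q ≥ 4 (so that these four numbers are distinct) there are exactly one irreducible character of degree 1, one of degree q, (q − 2)/2 of degree q + 1 and q/2 of degree q − 1. -/
theorem result {F : Type*} [Field F] [Fintype F] [CharP F 2] :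
    (∀ χ : Matrix.SpecialLinearGroup (Fin 2) F → ℂ, Cfsg.IsIrrCharacter (Matrix.SpecialLinearGroup (Fin 2) F) χ →
      χ 1 = 1 ∨ χ 1 = (Fintype.card F : ℂ) - 1 ∨ χ 1 = (Fintype.card F : ℂ) ∨ χ 1 = (Fintype.card F : ℂ) + 1) ∧
    (4 ≤ Fintype.card F →
      Nat.card {χ : Cfsg.IrrCharacter (Matrix.SpecialLinearGroup (Fin 2) F) // (χ : Matrix.SpecialLinearGroup (Fin 2) F → ℂ) 1 = 1} = 1 ∧
      Nat.card {χ : Cfsg.IrrCharacter (Matrix.SpecialLinearGroup (Fin 2) F) // (χ : Matrix.SpecialLinearGroup (Fin 2) F → ℂ) 1 = (Fintype.card F : ℂ)} = 1 ∧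
      Nat.card {χ : Cfsg.IrrCharacter (Matrix.SpecialLinearGroup (Fin 2) F) // (χ : Matrix.SpecialLinearGroup (Fin 2) F → ℂ) 1 = (Fintype.card F : ℂ) + 1} = (Fintype.card F - 2) / 2 ∧
      Nat.card {χ : Cfsg.IrrCharacter (Matrix.SpecialLinearGroup (Fin 2) F) // (χ : Matrix.SpecialLinearGroup (Fin 2) F → ℂ) 1 = (Fintype.card F : ℂ) - 1} = Fintype.card F / 2) := by
  classical
  have hG := Cfsg.Agent.S2298.result (F := F)
  refine ⟨?_, ?_⟩
  · intro χ hχ
    obtain ⟨ψ, hψ, hψ1⟩ := Cfsg.Agent.Lib.Helper13.exists_irr_GL2_even hχ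
    rw [← hψ1]
    exact hG.1 ψ hψ
  · intro hq
    obtain ⟨h1, h2, h3, h4⟩ := hG.2 (by omega)
    rw [Cfsg.Agent.Lib.Helper13.card_irr_degree_GL2_even] at h1 h2 h3 h4
    have heven : Fintype.card F % 2 = 0 :=
      FiniteField.even_card_of_char_two (ringChar.eq F 2)
    obtain ⟨r, hr⟩ : ∃ r, Fintype.card F = 2 * r := ⟨Fintype.card F / 2, by omega⟩
    have hr2 : 2 ≤ r := by omega
    have hpos : 0 < Fintype.card F - 1 := by omega
    refine ⟨?_, ?_, ?_, ?_⟩
    · exact Nat.eq_of_mul_eq_mul_right hpos (by rw [h1, one_mul])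
    · exact Nat.eq_of_mul_eq_mul_right hpos (by rw [h2, one_mul])
    · apply Nat.eq_of_mul_eq_mul_right hpos
      rw [h3, hr]
      obtain ⟨a, rfl⟩ : ∃ a, r = a + 1 := ⟨r - 1, by omega⟩
      have e1 : 2 * (a + 1) - 1 = 2 * a + 1 := by omega
      have e2 : 2 * (a + 1) - 2 = 2 * a := by omega
      rw [e1, e2, Nat.mul_div_cancel_left _ (by norm_num : 0 < 2)]
      have e3 : (2 * a + 1) * (2 * a) = 2 * (a * (2 * a + 1)) := by ring
      rw [e3, Nat.mul_div_cancel_left _ (by norm_num : 0 < 2)]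
    · apply Nat.eq_of_mul_eq_mul_right hpos
      rw [h4, hr, Nat.mul_div_cancel_left _ (by norm_num : 0 < 2), mul_assoc,
        Nat.mul_div_cancel_left _ (by norm_num : 0 < 2)]

end Cfsg.Agent.S2300
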