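import Cfsg.Statements.S0808
import Cfsg.Agent.Lib.Helper13.PSL2KleinNorm

set_option autoImplicit false
open Cfsg

namespace Cfsg.Agent.S0808

/-- Conjugacy classes of four-groups in PSL_2(q), q odd: if q ≡ 3 or 5 (mod 8) all Klein four-subgroups are conjugate; if q ≡ 1 or 7 (mod 8) there are two Klein four-subgroups which are not conjugate, and every Klein four-subgroup is conjugate to one of them. -/
theorem result {F : Type*} [Field F] [Fintype F] {q : ℕ} (hF : Fintype.card F = q) (hodd : Odd q) : ((q % 8 = 3 ∨ q % 8 = 5) → ∀ V W : Subgroup (Matrix.ProjectiveSpecialLinearGroup (Fin 2) F), IsKleinFour V → IsKleinFour W → ∃ g : Matrix.ProjectiveSpecialLinearGroup (Fin 2) F, W = V.map (MulAut.conj g).toMonoidHom) ∧ ((q % 8 = 1 ∨ q % 8 = 7) → ∃ V₁ V₂ : Subgroup (Matrix.ProjectiveSpecialLinearGroup (Fin 2) F), IsKleinFour V₁ ∧ IsKleinFour V₂ ∧ (¬ ∃ g : Matrix.ProjectiveSpecialLinearGroup (Fin 2) F, V₂ = V₁.map (MulAut.conj g).toMonoidHom) ∧ ∀ W : Subgroup (Matrix.ProjectiveSpecialLinearGroup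 (Fin 2) F), IsKleinFour W → (∃ g : Matrix.ProjectiveSpecialLinearGroup (Fin 2) F, W = V₁.map (MulAut.conj g).toMonoidHom) ∨ (∃ g : Matrix.ProjectiveSpecialLinearGroup (Fin 2) F, W = V₂.map (MulAut.conj g).toMonoidHom)) := by
  classical
  subst hF
  have h2 : (2 : F) ≠ 0 := Cfsg.Agent.Lib.Helper13.two_ne_zero_of_odd_card hodd
  have hP := Cfsg.Agent.Lib.Helper13.card_PSL2_mul_two (F := F) h2
  have h12 := Cfsg.Agent.Lib.Helper13.twelve_mul_card_kleinFour_PSL2 (F := F) h2
  have hGpos : 0 < Nat.card (Matrix.ProjectiveSpecialLinearGroup (Fin 2) F) := Nat.card_pos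
  refine ⟨?_, ?_⟩
  · intro hq V W hV hW
    have : Fact (Nat.Prime 2) := ⟨Nat.prime_two⟩
    -- `|G| = 4 * odd`
    have hfac : (Nat.card (Matrix.ProjectiveSpecialLinearGroup (Fin 2) F)).factorization 2 = 2 := by
      obtain ⟨k, hk, hkodd⟩ : ∃ k, Nat.card (Matrix.ProjectiveSpecialLinearGroup (Fin 2) F) = 4 * k ∧
          k % 2 = 1 := by
        rcases hq with h | h
        · obtain ⟨m, hm⟩ : ∃ m, Fintype.card F = 8 * m + 3 := ⟨Fintype.card F / 8, by omega⟩
          refine ⟨(8 * m + 3) * ((4 * m + 1) * (2 * m + 1)), ?_, ?_⟩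
          · rw [hm] at hP
            have : (8 * m + 3) ^ 2 - 1 = 8 * ((4 * m + 1) * (2 * m + 1)) := by
              have : (8 * m + 3) ^ 2 = 8 * ((4 * m + 1) * (2 * m + 1)) + 1 := by ring
              omega
            rw [this] at hP
            have : Nat.card (Matrix.ProjectiveSpecialLinearGroup (Fin 2) F) * 2 =
                (4 * ((8 * m + 3) * ((4 * m + 1) * (2 * m + 1)))) * 2 := by rw [hP]; ring
            exact Nat.eq_of_mul_eq_mul_right (by norm_num) this
          · rw [Nat.mul_mod, Nat.mul_mod (4 * m + 1)]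
            have e1 : (8 * m + 3) % 2 = 1 := by omega
            have e2 : (4 * m + 1) % 2 = 1 := by omega
            have e3 : (2 * m + 1) % 2 = 1 := by omega
            rw [e1, e2, e3]
        · obtain ⟨m, hm⟩ : ∃ m, Fintype.card F = 8 * m + 5 := ⟨Fintype.card F / 8, by omega⟩
          refine ⟨(8 * m + 5) * ((2 * m + 1) * (4 * m + 3)), ?_, ?_⟩
          · rw [hm] at hP
            have : (8 * m + 5) ^ 2 - 1 = 8 * ((2 * m + 1) * (4 * m + 3)) := by
              have : (8 * m + 5) ^ 2 = 8 * ((2 * m + 1) * (4 * m + 3)) + 1 := by ring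
              omega
            rw [this] at hP
            have : Nat.card (Matrix.ProjectiveSpecialLinearGroup (Fin 2) F) * 2 =
                (4 * ((8 * m + 5) * ((2 * m + 1) * (4 * m + 3)))) * 2 := by rw [hP]; ring
            exact Nat.eq_of_mul_eq_mul_right (by norm_num) this
          · rw [Nat.mul_mod, Nat.mul_mod (2 * m + 1)]
            have e1 : (8 * m + 5) % 2 = 1 := by omega
            have e2 : (2 * m + 1) % 2 = 1 := by omega
            have e3 : (4 * m + 3) % 2 = 1 := by omega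
            rw [e1, e2, e3]
      have hk0 : k ≠ 0 := by
        rintro rfl
        omega
      rw [hk, Nat.factorization_mul (by norm_num) hk0]
      have h4 : (4 : ℕ) = 2 ^ 2 := by norm_num
      rw [h4, Nat.Prime.factorization_pow Nat.prime_two]
      have hk2 : k.factorization 2 = 0 := by
        apply Nat.factorization_eq_zero_of_not_dvd
        omega
      simp [hk2]
    let P : Sylow 2 (Matrix.ProjectiveSpecialLinearGroup (Fin 2) F) :=
      Sylow.ofCard V (by rw [hV.card_four, hfac]; norm_num)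
    let Q : Sylow 2 (Matrix.ProjectiveSpecialLinearGroup (Fin 2) F) :=
      Sylow.ofCard W (by rw [hW.card_four, hfac]; norm_num)
    exact Cfsg.Agent.Lib.Helper13.sylow_conj_exists P Q
  · intro hq
    have hN : ∀ V : Subgroup (Matrix.ProjectiveSpecialLinearGroup (Fin 2) F), IsKleinFour V →
        Nat.card (Subgroup.normalizer (V : Set (Matrix.ProjectiveSpecialLinearGroup (Fin 2) F))) = 24 :=
      fun V hV => Cfsg.Agent.Lib.Helper13.card_normalizer_kleinFour_of_one_seven h2 hq V hV
    have : Fintype (Subgroup (Matrix.ProjectiveSpecialLinearGroup (Fin 2) F)) := Fintype.ofFinite _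
    set 𝒱 : Finset (Subgroup (Matrix.ProjectiveSpecialLinearGroup (Fin 2) F)) :=
      Finset.univ.filter (fun V => IsKleinFour V) with h𝒱
    have h𝒱card : 12 * 𝒱.card = Nat.card (Matrix.ProjectiveSpecialLinearGroup (Fin 2) F) := by
      rw [← h12, Nat.card_eq_fintype_card, Fintype.card_subtype]
    let orb : Subgroup (Matrix.ProjectiveSpecialLinearGroup (Fin 2) F) →
        Finset (Subgroup (Matrix.ProjectiveSpecialLinearGroup (Fin 2) F)) :=
      fun V => Finset.univ.filter (fun K => ∃ g, K = V.map (MulAut.conj g).toMonoidHom)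
    have horbcard : ∀ V : Subgroup (Matrix.ProjectiveSpecialLinearGroup (Fin 2) F),
        IsKleinFour V → 24 * (orb V).card =
        Nat.card (Matrix.ProjectiveSpecialLinearGroup (Fin 2) F) := by
      intro V hV
      have h := Cfsg.Agent.Lib.Helper13.card_conjugates_mul_card_normalizer V
      rw [hN V hV, Nat.card_eq_fintype_card, Fintype.card_subtype] at h
      rw [← h, mul_comm]
    have horbsub : ∀ V : Subgroup (Matrix.ProjectiveSpecialLinearGroup (Fin 2) F),
        IsKleinFour V → orb V ⊆ 𝒱 := by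
      intro V hV K hK
      obtain ⟨g, rfl⟩ := (Finset.mem_filter.mp hK).2
      exact Finset.mem_filter.mpr ⟨Finset.mem_univ _,
        Cfsg.Agent.Lib.Helper13.isKleinFour_map_conj V hV g⟩
    have h𝒱pos : 0 < 𝒱.card := by
      rcases Nat.eq_zero_or_pos 𝒱.card with h | h
      · rw [h] at h𝒱card; omega
      · exact h
    obtain ⟨V₁, hV₁mem⟩ := Finset.card_pos.mp h𝒱pos
    have hV₁ : IsKleinFour V₁ := (Finset.mem_filter.mp hV₁mem).2
    have h1 := horbcard V₁ hV₁
    have hlt : (orb V₁).card < 𝒱.card := by omega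
    obtain ⟨V₂, hV₂mem, hV₂not⟩ := Finset.exists_mem_notMem_of_card_lt_card hlt
    have hV₂ : IsKleinFour V₂ := (Finset.mem_filter.mp hV₂mem).2
    have h2' := horbcard V₂ hV₂
    have hnot : ¬ ∃ g, V₂ = V₁.map (MulAut.conj g).toMonoidHom := by
      intro h
      exact hV₂not (Finset.mem_filter.mpr ⟨Finset.mem_univ _, h⟩)
    have hdisj : Disjoint (orb V₁) (orb V₂) := by
      rw [Finset.disjoint_left]
      intro K hK1 hK2
      obtain ⟨a, ha⟩ := (Finset.mem_filter.mp hK1).2
      obtain ⟨b, hb⟩ := (Finset.mem_filter.mp hK2).2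
      apply hnot
      refine ⟨b⁻¹ * a, ?_⟩
      rw [Cfsg.Agent.Lib.Helper13.map_conj_mul, ← ha, hb, ← Cfsg.Agent.Lib.Helper13.map_conj_mul,
        inv_mul_cancel, Cfsg.Agent.Lib.Helper13.map_conj_one]
    have hunion : orb V₁ ∪ orb V₂ = 𝒱 := by
      apply Finset.eq_of_subset_of_card_le
        (Finset.union_subset (horbsub V₁ hV₁) (horbsub V₂ hV₂))
      rw [Finset.card_union_of_disjoint hdisj]
      omega
    refine ⟨V₁, V₂, hV₁, hV₂, hnot, ?_⟩
    intro W hW
    have hWmem : W ∈ 𝒱 := Finset.mem_filter.mpr ⟨Finset.mem_univ _, hW⟩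
    rw [← hunion, Finset.mem_union] at hWmem
    rcases hWmem with h | h
    · left; exact (Finset.mem_filter.mp h).2
    · right; exact (Finset.mem_filter.mp h).2

end Cfsg.Agent.S0808
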