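import Cfsg.Statements.S2431
import Cfsg.Agent.Lib.Helper13.SL2SylowTwoNorm2

set_option autoImplicit false
open Cfsg

namespace Cfsg.Agent.S2431

/-- Let F be a finite field with q elements, q odd, and S a Sylow 2-subgroup of SL₂ over F. The centraliser of S is the centre of SL₂ (of order 2); S is its own normaliser when q ≡ ±1 mod 8, and has index 3 in its normaliser when q ≡ ±3 mod 8. -/
theorem result {F : Type*} [Field F] [Fintype F] (hodd : Odd (Fintype.card F)) (S : Sylow 2 (Matrix.SpecialLinearGroup (Fin 2) F)) :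
    Subgroup.centralizer ((S : Subgroup (Matrix.SpecialLinearGroup (Fin 2) F)) : Set (Matrix.SpecialLinearGroup (Fin 2) F)) = Subgroup.center (Matrix.SpecialLinearGroup (Fin 2) F) ∧
    ((Fintype.card F % 8 = 1 ∨ Fintype.card F % 8 = 7) →
      Subgroup.normalizer ((S : Subgroup (Matrix.SpecialLinearGroup (Fin 2) F)) : Set (Matrix.SpecialLinearGroup (Fin 2) F)) = (S : Subgroup (Matrix.SpecialLinearGroup (Fin 2) F))) ∧
    ((Fintype.card F % 8 = 3 ∨ Fintype.card F % 8 = 5) →
      Nat.card (Subgroup.normalizer ((S : Subgroup (Matrix.SpecialLinearGroup (Fin 2) F)) : Set (Matrix.SpecialLinearGroup (Fin 2) F))) = 3 * Nat.card S) := by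
  classical
  have h2 : (2 : F) ≠ 0 := Cfsg.Agent.Lib.Helper13.two_ne_zero_of_odd_card hodd
  obtain ⟨a, ha0, hSN⟩ := Cfsg.Agent.Lib.Helper13.exists_torus_normalizer_ge_sylow hodd S
  have hg := Cfsg.Agent.Lib.Helper13.trace_zero_sq_ne_four h2 a ha0
  refine ⟨Cfsg.Agent.Lib.Helper13.centralizer_sylow_two_eq h2 a ha0 S hSN, ?_, ?_⟩
  · intro hq
    have hT := Cfsg.Agent.Lib.Helper13.card_centralizer_of_trace_zero h2 a ha0
    have h8 : 8 ∣ Nat.card (Subgroup.centralizer
        ({a} : Set (Matrix.SpecialLinearGroup (Fin 2) F))) := by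
      have hq1 : 1 < Fintype.card F := Fintype.one_lt_card
      rcases hq with h | h
      · rw [hT.1 (by omega)]
        omega
      · rw [hT.2 (by omega)]
        omega
    have hcyc := Cfsg.Agent.Lib.Helper13.isCyclic_centralizer a hg
    obtain ⟨c, hc⟩ := Cfsg.Agent.Lib.Helper13.exists_orderOf_eq_of_dvd_card 8 h8
    refine Cfsg.Agent.Lib.Helper13.normalizer_sylow_two_eq_of_order_eight h2 a ha0 S hSN
      (c : Matrix.SpecialLinearGroup (Fin 2) F) c.2 ?_
    rw [Subgroup.orderOf_coe, hc]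
  · intro hq
    rw [Cfsg.Agent.Lib.Helper13.card_normalizer_sylow_two_of_three_five h2 a ha0 S hSN hq hodd]
    have h8 := Cfsg.Agent.Lib.Helper13.card_sylow_two_SL2_of_three_five hq S
    have : Nat.card S = 8 := h8
    rw [this]

end Cfsg.Agent.S2431
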