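import Cfsg.Statements.S1463
import Cfsg.Agent.Lib.Helper13.SL2OddOrder
import Cfsg.Agent.Lib.Helper13.GL2Unipotent

set_option autoImplicit false
open scoped MatrixGroups
open Cfsg

namespace Cfsg.Agent.S1463

/-- Let F be a field of odd characteristic p and H a finite subgroup of odd order of GL(2, F) that leaves no 1-dimensional subspace of F² invariant. Then p does not divide the order of H. -/
theorem result {F : Type*} [Field F] (p : ℕ) [Fact p.Prime] [CharP F p] (hp : p ≠ 2)
    (H : Subgroup (GL (Fin 2) F)) [Finite H] (hodd : Odd (Nat.card H))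
    (hirr : ∀ v : Fin 2 → F, v ≠ 0 → ∃ g ∈ H, (g : Matrix (Fin 2) (Fin 2) F).mulVec v ∉ Submodule.span F {v}) :
    ¬ p ∣ Nat.card H := by
  classical
  intro hpdvd
  have hpp : p.Prime := Fact.out
  have h2 : (2 : F) ≠ 0 := by
    intro h
    have h' : ((2 : ℕ) : F) = 0 := by exact_mod_cast h
    rw [CharP.cast_eq_zero_iff F p] at h'
    exact hp ((Nat.prime_dvd_prime_iff_eq hpp Nat.prime_two).mp h')
  obtain ⟨x, hx⟩ := exists_prime_orderOf_dvd_card' p hpdvd
  -- the ambient group: `H ∩ SL₂`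
  set G : Subgroup (Matrix.SpecialLinearGroup (Fin 2) F) :=
    H.comap Matrix.SpecialLinearGroup.toGL with hG
  let ι : G →* H :=
    { toFun := fun g => ⟨Matrix.SpecialLinearGroup.toGL g.1, g.2⟩
      map_one' := by apply Subtype.ext; simp
      map_mul' := fun a b => by apply Subtype.ext; simp }
  have hιinj : Function.Injective ι := by
    intro a b hab
    have h1 : Matrix.SpecialLinearGroup.toGL a.1 = Matrix.SpecialLinearGroup.toGL b.1 :=
      congrArg Subtype.val hab
    have h3 : ((Matrix.SpecialLinearGroup.toGL a.1 : GL (Fin 2) F) : Matrix (Fin 2) (Fin 2) F) =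
        ((Matrix.SpecialLinearGroup.toGL b.1 : GL (Fin 2) F) : Matrix (Fin 2) (Fin 2) F) := by
      rw [h1]
    exact Subtype.ext (Subtype.ext h3)
  have hGfin : Finite G := Finite.of_injective ι hιinj
  have hGodd : Odd (Nat.card G) :=
    Odd.of_dvd_nat hodd (Subgroup.card_dvd_of_injective ι hιinj)
  set φ : G →* Matrix.SpecialLinearGroup (Fin 2) F := G.subtype with hφ
  have hφinj : Function.Injective φ := Subgroup.subtype_injective G
  -- elements of `H` of order dividing `p` give elements of `G` of trace `2`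
  have hlift : ∀ y : GL (Fin 2) F, y ∈ H → y ^ p = 1 →
      ∃ y' : G, ((y'.1 : Matrix.SpecialLinearGroup (Fin 2) F) : Matrix (Fin 2) (Fin 2) F) =
        (y : Matrix (Fin 2) (Fin 2) F) ∧ Cfsg.Agent.Lib.Helper13.trOf φ y' = 2 := by
    intro y hy hyp
    have hM : (y : Matrix (Fin 2) (Fin 2) F) ^ p = 1 := by
      have := congrArg (fun u : GL (Fin 2) F => (u : Matrix (Fin 2) (Fin 2) F)) hyp
      simpa using this
    have hdet := Cfsg.Agent.Lib.Helper13.det_eq_one_of_pow_char p _ hM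
    obtain ⟨ySL, hySL⟩ : ∃ s : Matrix.SpecialLinearGroup (Fin 2) F,
        (s : Matrix (Fin 2) (Fin 2) F) = (y : Matrix (Fin 2) (Fin 2) F) := ⟨⟨_, hdet⟩, rfl⟩
    have hmem : ySL ∈ G := by
      rw [hG, Subgroup.mem_comap]
      have : Matrix.SpecialLinearGroup.toGL ySL = y := by
        apply Units.ext
        exact hySL
      rw [this]
      exact hy
    refine ⟨⟨ySL, hmem⟩, hySL, ?_⟩
    apply Cfsg.Agent.Lib.Helper13.trace_two_of_pow_char_pow φ hφinj p _ 1
    rw [pow_one]
    apply Subtype.ext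
    apply Subtype.ext
    change (ySL : Matrix (Fin 2) (Fin 2) F) ^ p = 1
    rw [hySL]
    exact hM
  have hxp : (x : GL (Fin 2) F) ^ p = 1 := by
    have := pow_orderOf_eq_one x
    rw [hx] at this
    have h' := congrArg Subtype.val this
    simpa using h'
  have hMx : ((x : GL (Fin 2) F) : Matrix (Fin 2) (Fin 2) F) ^ p = 1 := by
    have := congrArg (fun u : GL (Fin 2) F => (u : Matrix (Fin 2) (Fin 2) F)) hxp
    simpa using this
  have hx1 : ((x : GL (Fin 2) F) : Matrix (Fin 2) (Fin 2) F) ≠ 1 := by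
    intro h
    have h1 : x = 1 := by
      apply Subtype.ext
      apply Units.ext
      exact h
    rw [h1, orderOf_one] at hx
    exact hpp.one_lt.ne hx
  obtain ⟨v, hv0, hv⟩ := Cfsg.Agent.Lib.Helper13.exists_fixed_vector_of_pow_char p _ hMx
  obtain ⟨g, hgH, hgv⟩ := hirr v hv0
  set w : Fin 2 → F := (g : Matrix (Fin 2) (Fin 2) F).mulVec v with hw
  have hw0 : w ≠ 0 := by
    intro h
    apply hgv
    rw [h]
    exact Submodule.zero_mem _
  -- the conjugate
  set y : GL (Fin 2) F := g * x * g⁻¹ with hy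
  have hyH : y ∈ H := H.mul_mem (H.mul_mem hgH x.2) (H.inv_mem hgH)
  have hyp : y ^ p = 1 := by
    rw [hy, conj_pow, hxp, mul_one, mul_inv_cancel]
  have hMy : (y : Matrix (Fin 2) (Fin 2) F) ^ p = 1 := by
    have := congrArg (fun u : GL (Fin 2) F => (u : Matrix (Fin 2) (Fin 2) F)) hyp
    simpa using this
  have hyw : (y : Matrix (Fin 2) (Fin 2) F).mulVec w = w := by
    have e : (y : Matrix (Fin 2) (Fin 2) F) * (g : Matrix (Fin 2) (Fin 2) F) =
        (g : Matrix (Fin 2) (Fin 2) F) * ((x : GL (Fin 2) F) : Matrix (Fin 2) (Fin 2) F) := by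
      have : y * g = g * x := by rw [hy]; group
      have := congrArg (fun u : GL (Fin 2) F => (u : Matrix (Fin 2) (Fin 2) F)) this
      simpa using this
    rw [hw, Matrix.mulVec_mulVec, e, ← Matrix.mulVec_mulVec, hv]
  have hy1 : (y : Matrix (Fin 2) (Fin 2) F) ≠ 1 := by
    intro h
    apply hx1
    have h1 : y = 1 := Units.ext h
    have h3 : (x : GL (Fin 2) F) = g⁻¹ * y * g := by rw [hy]; group
    rw [h3, h1]
    simp
  obtain ⟨x', hx'M, hx'tr⟩ := hlift x x.2 hxp
  obtain ⟨y', hy'M, hy'tr⟩ := hlift y hyH hyp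
  have hcomm := Cfsg.Agent.Lib.Helper13.unip_commute_of_odd φ hφinj hGodd h2 p x' y' hx'tr hy'tr
  have hcommM : ((x : GL (Fin 2) F) : Matrix (Fin 2) (Fin 2) F) * (y : Matrix (Fin 2) (Fin 2) F) =
      (y : Matrix (Fin 2) (Fin 2) F) * ((x : GL (Fin 2) F) : Matrix (Fin 2) (Fin 2) F) := by
    rw [← hx'M, ← hy'M]
    have := congrArg (fun u : G => ((u.1 : Matrix.SpecialLinearGroup (Fin 2) F) :
      Matrix (Fin 2) (Fin 2) F)) hcomm
    simpa using this
  -- `x w` is fixed by `y`
  have h3 : (y : Matrix (Fin 2) (Fin 2) F).mulVec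
      (((x : GL (Fin 2) F) : Matrix (Fin 2) (Fin 2) F).mulVec w) =
      ((x : GL (Fin 2) F) : Matrix (Fin 2) (Fin 2) F).mulVec w := by
    rw [Matrix.mulVec_mulVec, ← hcommM, ← Matrix.mulVec_mulVec, hyw]
  have h4 := Cfsg.Agent.Lib.Helper13.fixed_mem_span _ hy1 w _ hw0 hyw h3
  obtain ⟨c, hc⟩ := Submodule.mem_span_singleton.mp h4
  have hc1 := Cfsg.Agent.Lib.Helper13.eigen_eq_one_of_pow_char p _ hMx w hw0 c hc.symm
  rw [hc1, one_smul] at hc
  exact hgv (Cfsg.Agent.Lib.Helper13.fixed_mem_span _ hx1 v w hv0 hv hc.symm)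

end Cfsg.Agent.S1463
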