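import Cfsg.Statements.S0120
import Mathlib
import Cfsg.Agent.Lib.Helper20.HHReduction
import Cfsg.Agent.Lib.Helper20.NormalRankTwo

set_option autoImplicit false
open Cfsg

namespace Cfsg.Agent.S0120

open scoped commutatorElement
open Cfsg.Agent.Lib.Helper20

/-- For odd p, a p'-automorphism of a p-group acting trivially on the elements of order dividing p is trivial. -/
theorem result {G : Type*} [Group G] [Finite G] {p : ℕ} [Fact p.Prime] (hp : p ≠ 2) (hG : IsPGroup p G) (a : MulAut G) (ha : Nat.Coprime (orderOf a) p) (h : ∀ x : G, x ^ p = 1 → a x = x) : a = 1 := by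
  classical
  by_contra hne
  have hpp : p.Prime := Fact.out
  obtain ⟨Q, hQinv, ⟨x₀, hx₀Q, hx₀⟩, hpc, hcc, hpf, hcf⟩ := exists_hh_reduction hG a ha hne
  apply hx₀
  apply fix_of_fix_comm hG a ha
  apply h
  obtain ⟨u, hu⟩ : ∃ u : ↥Q, (u : G) = x₀⁻¹ := ⟨⟨x₀⁻¹, Q.inv_mem hx₀Q⟩, rfl⟩
  obtain ⟨v, hv⟩ : ∃ v : ↥Q, (v : G) = a x₀ := ⟨⟨a x₀, hQinv x₀ hx₀Q⟩, rfl⟩
  have hc : ∀ g : ↥Q, g * ⁅v, u⁆ = ⁅v, u⁆ * g := by
    intro g
    apply Subtype.ext
    have h0 : ((⁅v, u⁆ : ↥Q) : G) = ⁅(v : G), (u : G)⁆ := by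
      simp [commutatorElement_def]
    simp only [Subgroup.coe_mul, h0]
    exact hcc _ v.2 _ u.2 g g.2
  have hvp : ∀ g : ↥Q, g * v ^ p = v ^ p * g := by
    intro g
    apply Subtype.ext
    simp only [Subgroup.coe_mul, Subgroup.coe_pow]
    exact hpc _ v.2 g g.2
  have hcp : ⁅v, u⁆ ^ p = 1 := by
    have h1 := pow_mul_comm_of_central u v hc p
    rw [← hvp u] at h1
    have h2 : ⁅v, u⁆ ^ p * (u * v ^ p) = 1 * (u * v ^ p) := by
      rw [one_mul, ← mul_assoc]; exact h1.symm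
    exact mul_right_cancel h2
  have h2 := mul_pow_prime_of_central hpp hp u v hc hcp
  have h3 := congrArg (Subtype.val : ↥Q → G) h2
  simp only [Subgroup.coe_mul, Subgroup.coe_pow, hu, hv] at h3
  rw [h3, ← map_pow, hpf x₀ hx₀Q, inv_pow, inv_mul_cancel]

end Cfsg.Agent.S0120
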