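import Cfsg.Statements.S1457
import Cfsg.Agent.Lib.Helper27.OddStable
import Cfsg.Agent.Lib.Helper27.ZJ2
import Cfsg.Agent.Lib.Helper17.CharP
import Cfsg.Agent.Lib.Helper9.PLengthOne
import Cfsg.Agent.Lib.Helper24.PSolvable

set_option autoImplicit false
open Cfsg

namespace Cfsg.Agent.S1457

/-- Let G be a solvable group of odd order, p a prime, S a Sylow p-subgroup of G and A an abelian subgroup of S normal in S. Then A ≤ O_{p',p}(G). -/
theorem result {G : Type*} [Group G] [Finite G] [Group.IsSolvable G] (hodd : Odd (Nat.card G)) (p : ℕ) [Fact p.Prime] (S : Sylow p G) (A : Subgroup G) (hA : A ≤ (S : Subgroup G)) (hAc : IsMulCommutative A)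
    (hAn : (S : Subgroup G) ≤ Subgroup.normalizer (A : Set G)) :
    A ≤ Cfsg.pPrimePCore p G := by
  by_cases hp : p = 2
  · subst hp
    have hS1 : Nat.card (S : Subgroup G) = 1 := by
      obtain ⟨k, hk⟩ := IsPGroup.iff_card.mp S.2
      have hdvd : Nat.card (S : Subgroup G) ∣ Nat.card G := Subgroup.card_subgroup_dvd_card _
      rcases Nat.eq_zero_or_pos k with rfl | hk0
      · simpa using hk
      · exfalso
        have h2 : 2 ∣ Nat.card G := by
          have : 2 ∣ Nat.card (S : Subgroup G) := by rw [hk]; exact dvd_pow_self 2 hk0.ne'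
          exact this.trans hdvd
        exact (Nat.not_even_iff_odd.mpr hodd) (even_iff_two_dvd.mpr h2)
    have hSbot : (S : Subgroup G) = ⊥ := Subgroup.card_eq_one.mp hS1
    intro a ha
    have h1 : a ∈ (S : Subgroup G) := hA ha
    rw [hSbot, Subgroup.mem_bot] at h1
    rw [h1]
    exact one_mem _
  · set K := Cfsg.pPrimeCore p G with hK
    set π := QuotientGroup.mk' K with hπ
    have hπs : Function.Surjective π := QuotientGroup.mk'_surjective K
    have hoddQ : Odd (Nat.card (G ⧸ K)) :=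
      Odd.of_dvd_nat hodd (Subgroup.card_quotient_dvd_card K)
    have hO : Cfsg.pPrimeCore p (G ⧸ K) = ⊥ := Cfsg.Agent.Lib.Helper24.pPrimeCore_quotient_eq_bot' p
    have hcQ := Cfsg.Agent.Lib.Helper9.centralizer_pCore_le_of_isSolvable (X := G ⧸ K) p hO
    set Q := Cfsg.pCore p (G ⧸ K) with hQ
    have hQp : IsPGroup p Q := Cfsg.Agent.Lib.Helper17.pCore_isPGroup p (G ⧸ K)
    have hst := Cfsg.Agent.Lib.Helper27.OddStable.isPStableOn_of_odd hp hoddQ Q hQp
    have hCp : IsPGroup p (Subgroup.centralizer (Q : Set (G ⧸ K))) := hQp.to_le hcQ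
    have hKp := Cfsg.Agent.Lib.Helper27.isPGroup_kSub Q hCp
    have hkQ : Cfsg.Agent.Lib.Helper27.kSub p Q ≤ Q :=
      Cfsg.Agent.Lib.Helper17.le_pCore _ inferInstance hKp
    have hQS : Q ≤ (S : Subgroup G).map π := by
      have := Cfsg.Agent.Lib.Helper24.normal_pgroup_le_sylow Q hQp (S.mapSurjective hπs)
      rwa [Sylow.coe_mapSurjective] at this
    intro a ha
    show π a ∈ Q
    apply hkQ
    rw [Cfsg.Agent.Lib.Helper27.mem_kSub_iff]
    apply hst (π a)
    rw [Subgroup.commutator_eq_bot_iff_le_centralizer]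
    have hzle : Subgroup.zpowers (π a) ≤ A.map π :=
      Subgroup.zpowers_le.mpr (Subgroup.mem_map_of_mem π ha)
    have h1 : ⁅Q, Subgroup.zpowers (π a)⁆ ≤ A.map π := by
      rw [Subgroup.commutator_le]
      intro x hx z hz
      obtain ⟨s, hs, rfl⟩ := hQS hx
      obtain ⟨z', hz', rfl⟩ := hzle hz
      rw [← map_commutatorElement]
      apply Subgroup.mem_map_of_mem
      have h2 : s * z' * s⁻¹ ∈ A := ((Subgroup.mem_normalizer_iff.mp (hAn hs)) z').mp hz'
      rw [commutatorElement_def]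
      exact A.mul_mem h2 (A.inv_mem hz')
    refine h1.trans ?_
    rintro _ ⟨x, hx, rfl⟩
    rw [Subgroup.mem_centralizer_iff]
    intro z hz
    obtain ⟨z', hz', rfl⟩ := hzle hz
    rw [← map_mul, ← map_mul]
    congr 1
    exact congrArg Subtype.val (mul_comm' (⟨z', hz'⟩ : A) ⟨x, hx⟩)

end Cfsg.Agent.S1457
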