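import Cfsg.Statements.S1466
import Cfsg.Agent.Lib.Helper10.Puig
import Cfsg.Agent.Lib.Helper10.PGroupBasic

set_option autoImplicit false
open Cfsg

namespace Cfsg.Agent.S1466

theorem normal_abelian_le_puigStep {R : Type*} [Group R] (A X : Subgroup R) [hA : A.Normal]
    [hc : IsMulCommutative A] : A ≤ Cfsg.puigStep X := by
  unfold Cfsg.puigStep
  apply le_sSup
  refine ⟨hc, ?_⟩
  rw [Subgroup.normalizer_eq_top]
  exact le_top

theorem key {R : Type*} [Group R] (A L : Subgroup R) (hAL : A ≤ L)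
    (hCA : Subgroup.centralizer (A : Set R) = A) :
    Subgroup.center R ≤ Subgroup.centralizer (L : Set R) ∧ Subgroup.centralizer (L : Set R) ≤ L := by
  refine ⟨Subgroup.center_le_centralizer _, ?_⟩
  calc Subgroup.centralizer (L : Set R) ≤ Subgroup.centralizer (A : Set R) :=
        Subgroup.centralizer_le (by exact_mod_cast hAL)
    _ = A := hCA
    _ ≤ L := hAL

/-- Let p be a prime and R a nontrivial finite p-group. Then for every i > 0, Z(R) ≤ C_R(L_i(R)) ≤ L_i(R); likewise Z(R) ≤ C_R(L_*(R)) ≤ L_*(R) and Z(R) ≤ C_R(L(R)) ≤ L(R); and L(R) ≠ 1, L_*(R) ≠ 1. -/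
theorem result {R : Type*} [Group R] [Finite R] (p : ℕ) [Fact p.Prime] (hR : IsPGroup p R) [Nontrivial R] :
    (∀ i : ℕ, 0 < i → Subgroup.center R ≤ Subgroup.centralizer ((Cfsg.puigSeq R i : Subgroup R) : Set R) ∧
        Subgroup.centralizer ((Cfsg.puigSeq R i : Subgroup R) : Set R) ≤ Cfsg.puigSeq R i) ∧
      (Subgroup.center R ≤ Subgroup.centralizer ((Cfsg.puigLower R : Subgroup R) : Set R) ∧ Subgroup.centralizer ((Cfsg.puigLower R : Subgroup R) : Set R) ≤ Cfsg.puigLower R) ∧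
      (Subgroup.center R ≤ Subgroup.centralizer ((Cfsg.puigSubgroup R : Subgroup R) : Set R) ∧ Subgroup.centralizer ((Cfsg.puigSubgroup R : Subgroup R) : Set R) ≤ Cfsg.puigSubgroup R) ∧
      Cfsg.puigSubgroup R ≠ ⊥ ∧ Cfsg.puigLower R ≠ ⊥ := by
  obtain ⟨A, hAn, hAc, hCA⟩ := Cfsg.Agent.Lib.Helper10.exists_normal_abelian_self_centralizing p hR
  have hAseq : ∀ i : ℕ, 0 < i → A ≤ Cfsg.puigSeq R i := by
    intro i hi
    obtain ⟨j, rfl⟩ := Nat.exists_eq_succ_of_ne_zero hi.ne'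
    exact normal_abelian_le_puigStep A _
  have hAlow : A ≤ Cfsg.puigLower R :=
    (hAseq 2 (by norm_num)).trans (Cfsg.Agent.Lib.Helper10.puigSeq_even_le_lower 1)
  have hAsub : A ≤ Cfsg.puigSubgroup R := by
    unfold Cfsg.puigSubgroup
    exact le_iInf fun n => hAseq _ (Nat.succ_pos _)
  have hne : ∀ L : Subgroup R, Subgroup.center R ≤ Subgroup.centralizer (L : Set R) →
      Subgroup.centralizer (L : Set R) ≤ L → L ≠ ⊥ := by
    intro L h1 h2 hL
    have := (hR.bot_lt_center).ne'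
    apply this
    rw [eq_bot_iff, ← hL]
    exact h1.trans h2
  have k1 := key A _ hAlow hCA
  have k2 := key A _ hAsub hCA
  exact ⟨fun i hi => key A _ (hAseq i hi) hCA, k1, k2, hne _ k2.1 k2.2, hne _ k1.1 k1.2⟩

end Cfsg.Agent.S1466
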