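import Cfsg.Statements.S1465
import Cfsg.Agent.Lib.Helper27.OddStable
import Cfsg.Agent.Lib.Helper27.ZJ2
import Cfsg.Agent.Lib.Helper17.CharP
import Cfsg.Agent.Lib.Helper9.PLengthOne

set_option autoImplicit false
open Cfsg

namespace Cfsg.Agent.S1465

/-- Let p be an odd prime, G a solvable group of odd order, P a normal p-subgroup of G, and X the subgroup generated by a family of abelian p-subgroups of G each normalized by P. Then the image of X in G/C_G(P) lies in O_p(G/C_G(P)); and if O_{p'}(G) = 1 and O_p(G) ∩ C_G(P) ≤ P then X ≤ O_p(G). -/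
theorem result {G : Type*} [Group G] [Finite G] [Group.IsSolvable G] (hodd : Odd (Nat.card G)) (p : ℕ) [Fact p.Prime] (hp : p ≠ 2) (P : Subgroup G) [P.Normal] (hP : IsPGroup p P)
    (S : Set (Subgroup G)) (hS : ∀ B ∈ S, IsMulCommutative B ∧ IsPGroup p B ∧ P ≤ Subgroup.normalizer (B : Set G)) :
    (sSup S).map (QuotientGroup.mk' (Subgroup.centralizer (P : Set G))) ≤ Cfsg.pCore p (G ⧸ Subgroup.centralizer (P : Set G)) ∧
      (Cfsg.pPrimeCore p G = ⊥ → Cfsg.pCore p G ⊓ Subgroup.centralizer (P : Set G) ≤ P → sSup S ≤ Cfsg.pCore p G) := by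
  have hst := Cfsg.Agent.Lib.Helper27.OddStable.isPStableOn_of_odd hp hodd P hP
  -- first part, in comap form
  have key : sSup S ≤ Cfsg.Agent.Lib.Helper27.kSub p P := by
    apply sSup_le
    intro B hB b hb
    obtain ⟨hBc, hBp, hPB⟩ := hS B hB
    rw [Cfsg.Agent.Lib.Helper27.mem_kSub_iff]
    apply hst b
    rw [Subgroup.commutator_eq_bot_iff_le_centralizer]
    have h1 : ⁅P, Subgroup.zpowers b⁆ ≤ B := by
      rw [Subgroup.commutator_le]
      intro x hx z hz
      have hzB : z ∈ B := (Subgroup.zpowers_le.mpr hb) hz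
      have h2 : x * z * x⁻¹ ∈ B := ((Subgroup.mem_normalizer_iff.mp (hPB hx)) z).mp hzB
      rw [commutatorElement_def]
      exact B.mul_mem h2 (B.inv_mem hzB)
    refine h1.trans ?_
    intro x hx
    rw [Subgroup.mem_centralizer_iff]
    intro z hz
    have hzB : z ∈ B := (Subgroup.zpowers_le.mpr hb) hz
    exact congrArg Subtype.val (mul_comm' (⟨z, hzB⟩ : B) ⟨x, hx⟩)
  refine ⟨?_, ?_⟩
  · rw [Subgroup.map_le_iff_le_comap]
    exact key
  · intro hO hle
    have hcQ := Cfsg.Agent.Lib.Helper9.centralizer_pCore_le_of_isSolvable (X := G) p hO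
    -- the centralizer of `P` is a `p`-group
    have hCp : IsPGroup p (Subgroup.centralizer (P : Set G)) := by
      apply Cfsg.Agent.Lib.Helper17.isPGroup_of_pprime_trivial
      intro c hc hcop
      have hPQ : P ≤ Cfsg.pCore p G := Cfsg.Agent.Lib.Helper17.le_pCore P inferInstance hP
      apply Cfsg.Agent.Lib.Helper17.eq_one_of_stabilizes_pCore hcQ c hcop P hPQ
      · intro k hk
        exact ((Subgroup.mem_centralizer_iff.mp hc) k hk).symm
      · intro h hh
        apply hle
        refine ⟨?_, ?_⟩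
        · have hQn : (Cfsg.pCore p G).Normal := Cfsg.Agent.Lib.Helper17.pCore_normal p G
          rw [commutatorElement_def]
          have : h * c * h⁻¹ * c⁻¹ = h * (c * h⁻¹ * c⁻¹) := by group
          rw [this]
          exact Subgroup.mul_mem _ hh (hQn.conj_mem _ (Subgroup.inv_mem _ hh) c)
        · have hCn : (Subgroup.centralizer (P : Set G)).Normal := inferInstance
          rw [commutatorElement_def]
          exact Subgroup.mul_mem _ (hCn.conj_mem _ hc h) (Subgroup.inv_mem _ hc)
    have hKp := Cfsg.Agent.Lib.Helper27.isPGroup_kSub P hCp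
    exact key.trans (Cfsg.Agent.Lib.Helper17.le_pCore _ inferInstance hKp)

end Cfsg.Agent.S1465
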