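import Cfsg.Statements.S1324
import Mathlib
import Cfsg.Agent.S0058
import Cfsg.Agent.Lib.Helper11.ElemAbCompl
-- import your own Cfsg.Agent.* helpers here

set_option autoImplicit false
open Cfsg

namespace Cfsg.Agent.S1324

open Cfsg.Agent.Lib.Helper11 in
/-- Generation by centralizers of hyperplanes, by induction on the order of `A`. -/
theorem gen_hyperplanes {H : Type*} [Group H] [Finite H] (p : ℕ) [Fact p.Prime] :
    ∀ (n : ℕ) (A X : Subgroup H), Nat.card ↥A = n → Cfsg.IsElementaryAbelian p A → p ^ 2 ≤ n →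
      ¬ p ∣ Nat.card ↥X → A ≤ Subgroup.normalizer (X : Set H) →
      X ≤ ⨆ B : {B : Subgroup H // B ≤ A ∧ B.relIndex A ≤ p},
        X ⊓ Subgroup.centralizer ((B : Subgroup H) : Set H) := by
  intro n
  induction n using Nat.strong_induction_on with
  | _ n ih =>
    intro A X hn hA hn2 hX hAX
    have hp : p.Prime := Fact.out
    haveI hAc : IsMulCommutative ↥A := hA.1
    have hAp := hA.2
    -- A is a p-group
    have hApg : IsPGroup p ↥A := by
      intro g
      refine ⟨1, ?_⟩
      apply Subtype.ext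
      rw [pow_one]
      exact hAp g g.2
    obtain ⟨k, hk⟩ := IsPGroup.iff_card.mp hApg
    have hcop : (Nat.card ↥A).Coprime (Nat.card ↥X) := by
      rw [hk]
      exact Nat.Coprime.pow_left k ((Nat.Prime.coprime_iff_not_dvd hp).mpr hX)
    -- A is not cyclic
    have hnc : ¬ IsCyclic ↥A := by
      intro hcyc
      obtain ⟨g, hg⟩ := hcyc.exists_generator
      have h1 : orderOf g = Nat.card ↥A := orderOf_eq_card_of_forall_mem_zpowers hg
      have h2 : g ^ p = 1 := by
        apply Subtype.ext
        exact hAp g g.2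
      have h3 : orderOf g ≤ p := orderOf_le_of_pow_eq_one hp.pos h2
      rw [h1, hn] at h3
      have : p < p ^ 2 := by
        rw [pow_two]
        nlinarith [hp.two_le]
      omega
    have h58 := Cfsg.Agent.S0058.result A X hnc hAX hcop
    calc X = ⨆ a ∈ {a : H | a ∈ A ∧ a ≠ 1}, X ⊓ Subgroup.centralizer {a} := h58.symm
      _ ≤ _ := ?_
    apply iSup₂_le
    rintro a ⟨haA, ha1⟩
    obtain ⟨A₁, hA₁A, haA₁, hsup, hinf, hcard⟩ := exists_hyperplane_not_mem hp hA haA ha1
    have hzA : Subgroup.zpowers a ≤ A := Subgroup.zpowers_le.mpr haA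
    have hA₁pos : 0 < Nat.card ↥A₁ := Nat.card_pos
    by_cases hsmall : Nat.card ↥A₁ < p ^ 2
    · -- |A| = p², take B = ⟨a⟩
      have hB : Subgroup.zpowers a ≤ A ∧ (Subgroup.zpowers a).relIndex A ≤ p := by
        refine ⟨hzA, ?_⟩
        have h1 := Cfsg.Agent.Lib.Helper4.card_mul_relIndex hzA
        rw [Nat.card_zpowers, orderOf_eq_prime (hAp a haA) ha1] at h1
        -- card A₁ ≤ p
        have hA₁pg : IsPGroup p ↥A₁ := hApg.to_le hA₁A
        obtain ⟨j, hj⟩ := IsPGroup.iff_card.mp hA₁pg
        have hj2 : j < 2 := by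
          rw [hj] at hsmall
          exact (Nat.pow_lt_pow_iff_right hp.one_lt).mp hsmall
        have hle : Nat.card ↥A₁ ≤ p := by
          rw [hj]
          calc p ^ j ≤ p ^ 1 := Nat.pow_le_pow_right hp.pos (by omega)
            _ = p := pow_one p
        have : p * (Subgroup.zpowers a).relIndex A = Nat.card ↥A₁ * p := by rw [h1, hcard]
        have h2 : (Subgroup.zpowers a).relIndex A = Nat.card ↥A₁ := by
          apply Nat.eq_of_mul_eq_mul_left hp.pos
          rw [this]; ring
        rw [h2]; exact hle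
      refine le_trans ?_ (le_iSup (fun B : {B : Subgroup H // B ≤ A ∧ B.relIndex A ≤ p} =>
        X ⊓ Subgroup.centralizer ((B : Subgroup H) : Set H)) ⟨Subgroup.zpowers a, hB⟩)
      intro y hy
      obtain ⟨hyX, hya⟩ := Subgroup.mem_inf.mp hy
      refine Subgroup.mem_inf.mpr ⟨hyX, ?_⟩
      rw [Subgroup.mem_centralizer_iff]
      intro z hz
      have hle : Subgroup.zpowers a ≤ Subgroup.centralizer ({y} : Set H) := by
        rw [Subgroup.zpowers_le, Subgroup.mem_centralizer_singleton_iff]
        exact (Subgroup.mem_centralizer_singleton_iff.mp hya).symm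
      exact Subgroup.mem_centralizer_singleton_iff.mp (hle hz)
    · push Not at hsmall
      -- induction for A₁ acting on Y = C_X(a)
      have hlt : Nat.card ↥A₁ < n := by
        rw [← hn, hcard]
        nlinarith [hp.two_le]
      have hA₁ : Cfsg.IsElementaryAbelian p A₁ := by
        refine ⟨⟨⟨fun u v => ?_⟩⟩, fun u hu => hAp u (hA₁A hu)⟩
        apply Subtype.ext
        exact commute_of_mem_of_isMulCommutative hAc (hA₁A u.2) (hA₁A v.2)
      have hYX : X ⊓ Subgroup.centralizer ({a} : Set H) ≤ X := inf_le_left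
      have hY : ¬ p ∣ Nat.card ↥(X ⊓ Subgroup.centralizer ({a} : Set H)) :=
        fun h => hX (dvd_trans h (Subgroup.card_dvd_of_le hYX))
      have hconj : ∀ u ∈ A₁, ∀ y ∈ X ⊓ Subgroup.centralizer ({a} : Set H),
          u * y * u⁻¹ ∈ X ⊓ Subgroup.centralizer ({a} : Set H) := by
        intro u hu y hy
        obtain ⟨hyX, hya⟩ := Subgroup.mem_inf.mp hy
        refine Subgroup.mem_inf.mpr ⟨(Subgroup.mem_normalizer_iff.mp (hAX (hA₁A hu)) y).mp hyX, ?_⟩
        rw [Subgroup.mem_centralizer_singleton_iff] at hya ⊢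
        have hua : u * a = a * u := commute_of_mem_of_isMulCommutative hAc (hA₁A hu) haA
        have hua' : u⁻¹ * a = a * u⁻¹ :=
          commute_of_mem_of_isMulCommutative hAc (A.inv_mem (hA₁A hu)) haA
        calc u * y * u⁻¹ * a = u * y * (u⁻¹ * a) := by group
          _ = u * y * (a * u⁻¹) := by rw [hua']
          _ = u * (y * a) * u⁻¹ := by group
          _ = u * (a * y) * u⁻¹ := by rw [hya]
          _ = (u * a) * y * u⁻¹ := by group
          _ = (a * u) * y * u⁻¹ := by rw [hua]
          _ = a * (u * y * u⁻¹) := by group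
      have hA₁Y : A₁ ≤ Subgroup.normalizer ((X ⊓ Subgroup.centralizer ({a} : Set H) : Subgroup H) : Set H) := by
        intro u hu
        rw [Subgroup.mem_normalizer_iff]
        intro y
        constructor
        · exact hconj u hu y
        · intro h
          have := hconj u⁻¹ (A₁.inv_mem hu) _ h
          have e : u⁻¹ * (u * y * u⁻¹) * u⁻¹⁻¹ = y := by group
          rwa [e] at this
      have hIH := ih _ hlt A₁ (X ⊓ Subgroup.centralizer ({a} : Set H)) rfl hA₁ hsmall hY hA₁Y
      refine le_trans hIH ?_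
      apply iSup_le
      rintro ⟨B₁, hB₁A₁, hB₁idx⟩
      -- B = B₁ ⊔ ⟨a⟩
      have hB₁A : B₁ ≤ A := hB₁A₁.trans hA₁A
      have hBA : B₁ ⊔ Subgroup.zpowers a ≤ A := sup_le hB₁A hzA
      have hB₁inf : B₁ ⊓ Subgroup.zpowers a = ⊥ := by
        rw [eq_bot_iff, ← hinf]
        exact inf_le_inf_right _ hB₁A₁
      have hnorm : B₁ ≤ Subgroup.normalizer (Subgroup.zpowers a : Set H) := by
        intro y hy
        apply (Subgroup.centralizer_le_normalizer (Subgroup.zpowers a : Set H))
        rw [Subgroup.mem_centralizer_iff]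
        intro z hz
        exact commute_of_mem_of_isMulCommutative hAc (hzA hz) (hB₁A hy)
      have hcB := Cfsg.Agent.Lib.Helper4.card_sup_mul_card_inf B₁ (Subgroup.zpowers a) hnorm
      rw [hB₁inf, Subgroup.card_bot, mul_one, Nat.card_zpowers,
        orderOf_eq_prime (hAp a haA) ha1] at hcB
      have hidx : (B₁ ⊔ Subgroup.zpowers a).relIndex A ≤ p := by
        have h1 := Cfsg.Agent.Lib.Helper4.card_mul_relIndex hBA
        have h2 := Cfsg.Agent.Lib.Helper4.card_mul_relIndex hB₁A₁
        have hB₁pos : 0 < Nat.card ↥B₁ := Nat.card_pos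
        have : (B₁ ⊔ Subgroup.zpowers a).relIndex A = B₁.relIndex A₁ := by
          have h3 : Nat.card ↥B₁ * p * (B₁ ⊔ Subgroup.zpowers a).relIndex A =
              Nat.card ↥B₁ * p * B₁.relIndex A₁ := by
            calc Nat.card ↥B₁ * p * (B₁ ⊔ Subgroup.zpowers a).relIndex A
                = Nat.card ↥(B₁ ⊔ Subgroup.zpowers a : Subgroup H) *
                    (B₁ ⊔ Subgroup.zpowers a).relIndex A := by rw [hcB]
              _ = Nat.card ↥A := h1
              _ = Nat.card ↥A₁ * p := hcard
              _ = (Nat.card ↥B₁ * B₁.relIndex A₁) * p := by rw [h2]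
              _ = Nat.card ↥B₁ * p * B₁.relIndex A₁ := by ring
          exact Nat.eq_of_mul_eq_mul_left (Nat.mul_pos hB₁pos hp.pos) h3
        rw [this]; exact hB₁idx
      refine le_trans ?_ (le_iSup (fun B : {B : Subgroup H // B ≤ A ∧ B.relIndex A ≤ p} =>
        X ⊓ Subgroup.centralizer ((B : Subgroup H) : Set H)) ⟨B₁ ⊔ Subgroup.zpowers a, hBA, hidx⟩)
      intro y hy
      obtain ⟨hyY, hyB₁⟩ := Subgroup.mem_inf.mp hy
      obtain ⟨hyX, hya⟩ := Subgroup.mem_inf.mp hyY
      refine Subgroup.mem_inf.mpr ⟨hyX, ?_⟩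
      rw [Subgroup.mem_centralizer_iff]
      intro z hz
      have hle : B₁ ⊔ Subgroup.zpowers a ≤ Subgroup.centralizer ({y} : Set H) := by
        apply sup_le
        · intro b hb
          rw [Subgroup.mem_centralizer_singleton_iff]
          exact Subgroup.mem_centralizer_iff.mp hyB₁ b hb
        · rw [Subgroup.zpowers_le, Subgroup.mem_centralizer_singleton_iff]
          exact (Subgroup.mem_centralizer_singleton_iff.mp hya).symm
      exact Subgroup.mem_centralizer_singleton_iff.mp (hle hz)


/-- Let A be a noncyclic elementary abelian p-subgroup of a finite group H normalizing a subgroup X of order prime to p. Then X is generated by the subgroups X ∩ C_H(B), B ranging over the subgroups of A of index at most p. -/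
theorem result {H : Type*} [Group H] [Finite H] (p : ℕ) [Fact p.Prime] (A X : Subgroup H) (hA : Cfsg.IsElementaryAbelian p A) (hA2 : p ^ 2 ≤ Nat.card ↥A) (hX : ¬ p ∣ Nat.card ↥X) (hAX : A ≤ Subgroup.normalizer (X : Set H)) : X = ⨆ B : {B : Subgroup H // B ≤ A ∧ B.relIndex A ≤ p}, X ⊓ Subgroup.centralizer ((B : Subgroup H) : Set H) := by
  apply le_antisymm
  · exact gen_hyperplanes p _ A X rfl hA hA2 hX hAX
  · apply iSup_le
    intro B
    exact inf_le_left

end Cfsg.Agent.S1324
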