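import Cfsg.Statements.S1396
import Cfsg.Agent.Lib.Helper8.BG76

set_option autoImplicit false
open Cfsg

namespace Cfsg.Agent.S1396

/-- Let G be a minimal simple group of odd order, p a prime dividing the order of G and A an abelian p-subgroup. Suppose either (1) A consists exactly of the elements x of C_G(A) with x^p = 1, and every proper subgroup of G has p-length at most one, or (2) A is normal and self-centralizing in some Sylow p-subgroup of G and has rank at least 2. Then A satisfies the transitivity hypothesis. -/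
theorem result {G : Type*} [Group G] [Finite G] (hG : Cfsg.IsMinSimpleOddOrder G)
    (p : ℕ) [Fact p.Prime] (hp : p ∣ Nat.card G) (A : Subgroup G) (hAp : IsPGroup p A) (hAc : IsMulCommutative A)
    (h : (∀ x ∈ Subgroup.centralizer (A : Set G), x ^ p = 1 ↔ x ∈ A) ∧ (∀ H : Subgroup G, H ≠ ⊤ → Cfsg.PLengthLE p 1 H) ∨
      ∃ P : Sylow p G, Cfsg.IsSCN (P : Subgroup G) A ∧ ¬ Cfsg.PRankLE p 1 A) :
    Cfsg.TransitivityHypothesis A := by
  classical
  obtain ⟨hodd, hsimple, hnc, hsolv⟩ := hG
  have hpp : p.Prime := Fact.out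
  have hp2 : p ≠ 2 := by
    rintro rfl
    exact (Nat.not_even_iff_odd.mpr hodd) (even_iff_two_dvd.mpr hp)
  have hΩ : ∀ x ∈ Subgroup.centralizer (A : Set G), orderOf x = p → x ∈ A := by
    intro x hx hox
    rcases h with ⟨h1, _⟩ | ⟨P, hP, _⟩
    · exact (h1 x hx).mp (by rw [← hox]; exact pow_orderOf_eq_one x)
    · apply Cfsg.Agent.Lib.Helper8.BG76.mem_of_mem_centralizer_of_isSCN P hP hx
      apply IsPGroup.of_card (n := 1)
      rw [Nat.card_zpowers, hox, pow_one]
  have hA1 : A ≠ ⊥ := by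
    rcases h with ⟨h1, _⟩ | ⟨P, _, hr⟩
    · intro hAb
      obtain ⟨x, hx⟩ := exists_prime_orderOf_dvd_card' p hp
      have hxA : x ∈ A := hΩ x (by
        rw [hAb, Subgroup.mem_centralizer_iff]
        intro y hy
        rw [SetLike.mem_coe, Subgroup.mem_bot] at hy
        rw [hy, one_mul, mul_one]) hx
      rw [hAb, Subgroup.mem_bot] at hxA
      rw [hxA, orderOf_one] at hx
      exact hpp.one_lt.ne hx
    · intro hAb
      apply hr
      intro B _ _
      haveI : Subsingleton ↥A := by rw [hAb]; infer_instance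
      have h1 : Nat.card ↥B = 1 := Nat.card_unique
      rw [h1]
      exact Nat.one_le_pow _ _ hpp.pos
  have hAT : A ≠ ⊤ := by
    intro hAt
    apply hnc
    refine ⟨⟨fun a b => ?_⟩⟩
    have := hAc.is_comm.comm (⟨a, hAt ▸ Subgroup.mem_top a⟩ : ↥A) ⟨b, hAt ▸ Subgroup.mem_top b⟩
    exact congrArg Subtype.val this
  refine ⟨hA1, hAT, fun X hX hAX => ?_⟩
  exact Cfsg.Agent.Lib.Helper8.BG76.sSup_invSubgroups_eq hp2 hAp hA1 hΩ (hsolv X hX) hAX

end Cfsg.Agent.S1396
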