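import Cfsg.Statements.S3879
import Mathlib
import Cfsg.Agent.Lib.Helper21.Metacyclic
-- import your own Cfsg.Agent.* helpers here

set_option autoImplicit false
open Cfsg

namespace Cfsg.Agent.S3879

open Subgroup Cfsg.Agent.Lib.Helper21.Metacyclic

/-- Let p be an odd prime and G a finite metacyclic p-group (G has a cyclic normal subgroup with cyclic quotient). Then the index of the center of G is the square of the order of the derived subgroup: |G : Z(G)| = |G'|². -/
theorem result {G : Type*} [Group G] [Finite G] {p : ℕ} [Fact p.Prime] (hp : p ≠ 2) (hG : IsPGroup p G) (hmc : Cfsg.IsMetacyclic G) : (Subgroup.center G).index = Nat.card ↥(commutator G) ^ 2 := by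
  obtain ⟨P⟩ := exists_pres hG hmc
  obtain ⟨n, hn, -⟩ := P.orderOf_c_eq_pow
  have h1 := P.card_Gs hp hn hG n le_rfl
  rw [P.Gs_eq_center hp hn] at h1
  have h2 := (center G).card_mul_index
  rw [← h1] at h2
  have hpos : 0 < Nat.card (center G) := Nat.card_pos
  have h3 := Nat.eq_of_mul_eq_mul_left hpos h2
  rw [h3, P.card_commutator hp, hn, ← pow_mul, mul_comm]

end Cfsg.Agent.S3879
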