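import Cfsg.Statements.S3886
import Mathlib
import Cfsg.Agent.Lib.Helper21.Metacyclic4
import Cfsg.Agent.S3880
-- import your own Cfsg.Agent.* helpers here

set_option autoImplicit false
open Cfsg

namespace Cfsg.Agent.S3886

open Cfsg.Agent.Lib.Helper21.Metacyclic Subgroup
universe u

theorem index_commutator_of_not_comm_aux {p : ℕ} [hp : Fact p.Prime] (hp2 : p ≠ 2) :
    ∀ (N : ℕ) (G : Type u) [Group G] [Finite G], Nat.card G = N → IsPGroup p G →
      Cfsg.IsMetacyclic G → ∀ R : Subgroup G, ¬ IsMulCommutative ↥R →
      (commutator ↥R).index = (commutator G).index := by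
  intro N
  induction N using Nat.strong_induction_on with
  | _ N ih =>
  intro G _ _ hN hG hmc R hR
  by_cases hRt : R = ⊤
  · subst hRt
    exact index_commutator_congr Subgroup.topEquiv
  · obtain ⟨M, hM, hRM⟩ := (eq_top_or_exists_le_coatom R).resolve_left hRt
    have hab : ¬ IsMulCommutative G := by
      intro h
      apply hR
      exact (isMulCommutative_iff_forall_mem R).mpr (fun x _ y _ => h.is_comm.comm x y)
    have key := index_commutator_coatom hp2 hG hmc hab M hM
    have hMcard : Nat.card ↥M < N := by
      rw [← hN]
      exact lt_of_le_of_ne (Subgroup.card_le_card_group M)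
        (fun h => hM.1 (Subgroup.eq_top_of_card_eq M h))
    have h1 := ih (Nat.card M) hMcard ↥M rfl (hG.to_subgroup M) (isMetacyclic_subgroup hmc M)
      (R.subgroupOf M) (by rwa [isMulCommutative_subgroupOf_iff R M hRM])
    rw [← key, ← h1]
    exact (index_commutator_congr (Subgroup.subgroupOfEquivOfLe hRM)).symm

theorem card_mul_card_center {G : Type*} [Group G] [Finite G] {p : ℕ} [Fact p.Prime] (hp : p ≠ 2)
    (hG : IsPGroup p G) (hmc : Cfsg.IsMetacyclic G) :
    Nat.card G * Nat.card (Subgroup.center G) = (commutator G).index ^ 2 := by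
  have h1 := Cfsg.Agent.S3879.result hp hG hmc
  have h2 := (center G).card_mul_index
  have h3 := (commutator G).card_mul_index
  rw [h1] at h2
  have hpos : 0 < Nat.card (commutator G) ^ 2 := pow_pos Nat.card_pos 2
  apply Nat.eq_of_mul_eq_mul_left hpos
  calc Nat.card (commutator G) ^ 2 * (Nat.card G * Nat.card (center G))
      = Nat.card G * (Nat.card (center G) * Nat.card (commutator G) ^ 2) := by ring
    _ = Nat.card G * Nat.card G := by rw [h2]
    _ = (Nat.card (commutator G) * (commutator G).index) *
          (Nat.card (commutator G) * (commutator G).index) := by rw [h3]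
    _ = Nat.card (commutator G) ^ 2 * (commutator G).index ^ 2 := by ring

/-- Let p be an odd prime and G a finite metacyclic p-group (G has a cyclic normal subgroup with cyclic quotient). Then the largest value of |R| · |Z(R)| over subgroups R of G is |G : G'|², and the subgroups attaining it (the centrally large subgroups) are exactly the non-abelian subgroups together with the maximal abelian subgroups of G. -/
theorem result {G : Type*} [Group G] [Finite G] {p : ℕ} [Fact p.Prime] (hp : p ≠ 2) (hG : IsPGroup p G) (hmc : Cfsg.IsMetacyclic G) : Cfsg.maxCentralProduct G = (commutator G).index ^ 2 ∧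
    ∀ R : Subgroup G, Cfsg.IsCentrallyLarge R ↔ (¬ IsMulCommutative ↥R ∨ Maximal (fun K : Subgroup G => IsMulCommutative ↥K) R) := by
  have hval : ∀ R : Subgroup G, Nat.card ↥R * Nat.card ↥(Subgroup.center ↥R) =
      (commutator ↥R).index ^ 2 := fun R =>
    card_mul_card_center hp (hG.to_subgroup R) (isMetacyclic_subgroup hmc R)
  have hna : ∀ R : Subgroup G, ¬ IsMulCommutative ↥R →
      (commutator ↥R).index = (commutator G).index := fun R hR =>
    index_commutator_of_not_comm_aux hp (Nat.card G) G rfl hG hmc R hR
  have hab : ∀ R : Subgroup G, IsMulCommutative ↥R → (commutator ↥R).index = Nat.card ↥R := by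
    intro R hR
    rw [commutator_eq_bot_of_isMulCommutative hR, index_bot]
  have hle : ∀ R : Subgroup G, (commutator ↥R).index ≤ (commutator G).index := by
    intro R
    by_cases hR : IsMulCommutative ↥R
    · rw [hab R hR]
      exact ((Cfsg.Agent.S3880.result hp hG hmc R).1).mp hR
    · exact (hna R hR).le
  have hmax : Cfsg.maxCentralProduct G = (commutator G).index ^ 2 := by
    unfold Cfsg.maxCentralProduct
    apply IsGreatest.csSup_eq
    constructor
    · refine ⟨⊤, ?_⟩
      rw [hval ⊤, index_commutator_congr Subgroup.topEquiv]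
    · rintro k ⟨R, rfl⟩
      rw [hval R]
      exact Nat.pow_le_pow_left (hle R) 2
  refine ⟨hmax, ?_⟩
  intro R
  unfold Cfsg.IsCentrallyLarge
  rw [hmax, hval R]
  have hpow : (commutator ↥R).index ^ 2 = (commutator G).index ^ 2 ↔
      (commutator ↥R).index = (commutator G).index := by
    constructor
    · intro h; exact Nat.pow_left_injective (by norm_num : 2 ≠ 0) h
    · intro h; rw [h]
  rw [hpow]
  by_cases hR : IsMulCommutative ↥R
  · rw [hab R hR, ← (Cfsg.Agent.S3880.result hp hG hmc R).2]
    constructor
    · intro h; exact Or.inr h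
    · rintro (h | h)
      · exact absurd hR h
      · exact h
  · exact iff_of_true (hna R hR) (Or.inl hR)

end Cfsg.Agent.S3886
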