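import Cfsg.Statements.S3740
import Cfsg.Agent.Lib.Helper13.SL2SylowOdd
import Cfsg.Agent.Lib.Helper29.Q8Odd
import Cfsg.Agent.Lib.Helper18.UniqueInvolution
import Cfsg.Agent.Lib.Helper9.CoprimeSylow
import Cfsg.Agent.Lib.Helper1.QuaternionSylow

set_option autoImplicit false
set_option linter.unusedSectionVars false
set_option linter.style.haveILetI false
open Cfsg

namespace Cfsg.Agent.S3740

open Subgroup Matrix Cfsg.Agent.Lib.Helper13 Cfsg.Agent.Lib.Helper29

variable {F : Type} [Field F] [Fintype F] {p : ℕ} [hpF : Fact p.Prime] [CharP F p]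

/-- a `p`-element of `SL₂(F)` centralizing an element of trace `≠ ±2` is trivial -/
theorem eq_one_of_commute (g u : SpecialLinearGroup (Fin 2) F)
    (hg : (g : Matrix (Fin 2) (Fin 2) F).trace ^ 2 ≠ 4)
    (hu : IsPGroup p ↥(zpowers u)) (hc : u * g = g * u) : u = 1 := by
  have hmem : u ∈ centralizer ({g} : Set (SpecialLinearGroup (Fin 2) F)) := by
    rw [mem_centralizer_iff]
    intro h hh
    rw [Set.mem_singleton_iff] at hh
    subst hh
    exact hc.symm
  have h1 : orderOf u ∣ Nat.card (centralizer ({g} : Set (SpecialLinearGroup (Fin 2) F))) := by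
    have := orderOf_dvd_natCard (⟨u, hmem⟩ : centralizer ({g} : Set (SpecialLinearGroup (Fin 2) F)))
    rwa [Subgroup.orderOf_mk] at this
  obtain ⟨k, hk⟩ := (IsPGroup.iff_orderOf.mp hu) ⟨u, mem_zpowers u⟩
  rw [Subgroup.orderOf_mk] at hk
  obtain ⟨n, hn⟩ := FiniteField.card F p
  have hq : Fintype.card F = p ^ (n : ℕ) := hn.2
  have hnpos : 0 < (n : ℕ) := n.pos
  have hpq : p ∣ Fintype.card F := by rw [hq]; exact dvd_pow_self p hnpos.ne'
  have hp1 : 1 < p := hpF.out.one_lt
  have hqpos : 0 < Fintype.card F := Fintype.card_pos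
  by_contra hne
  have hk0 : k ≠ 0 := by
    rintro rfl
    rw [pow_zero, orderOf_eq_one_iff] at hk
    exact hne hk
  have hpu : p ∣ orderOf u := by rw [hk]; exact dvd_pow_self p hk0
  have hpc := hpu.trans h1
  rcases card_centralizer_cases g hg with h | h
  · rw [h] at hpc
    have : p ∣ 1 := by
      have h2 : p ∣ Fintype.card F - 1 + 1 := by
        rw [Nat.sub_add_cancel hqpos]; exact hpq
      exact (Nat.dvd_add_right hpc).mp h2
    exact absurd (Nat.le_of_dvd one_pos this) (by omega)
  · rw [h] at hpc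
    have : p ∣ 1 := (Nat.dvd_add_right hpq).mp hpc
    exact absurd (Nat.le_of_dvd one_pos this) (by omega)

/-- elements of order prime to `p` with `g² ≠ 1` have trace `≠ ±2` -/
theorem trace_sq_ne_four (g : SpecialLinearGroup (Fin 2) F)
    (hcop : (orderOf g).Coprime p) (hg2 : g * g ≠ 1) :
    (g : Matrix (Fin 2) (Fin 2) F).trace ^ 2 ≠ 4 := by
  intro h4
  have h1 := pow_char_mul_two_of_trace_sq p g h4
  have h2 : orderOf g ∣ p * 2 := orderOf_dvd_of_pow_eq_one h1
  have h3 : orderOf g ∣ 2 := hcop.dvd_of_dvd_mul_left h2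
  apply hg2
  rw [← pow_two]
  exact orderOf_dvd_iff_pow_eq_one.mp h3

/-- a `p`-element (`p` odd) normalizing `⟨g⟩`, `g` of order prime to `p` with `g² ≠ 1`, is
trivial -/
theorem eq_one_of_mem_normalizer (hp : p ≠ 2) (g u : SpecialLinearGroup (Fin 2) F)
    (hcop : (orderOf g).Coprime p) (hg2 : g * g ≠ 1)
    (hu : IsPGroup p ↥(zpowers u))
    (hn : u ∈ normalizer ((zpowers g : Subgroup (SpecialLinearGroup (Fin 2) F)) :
      Set (SpecialLinearGroup (Fin 2) F))) : u = 1 := by
  have htr := trace_sq_ne_four g hcop hg2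
  have hodd : Odd (orderOf u) := by
    obtain ⟨k, hk⟩ := (IsPGroup.iff_orderOf.mp hu) ⟨u, mem_zpowers u⟩
    rw [Subgroup.orderOf_mk] at hk
    rw [hk]
    exact (hpF.out.odd_of_ne_two hp).pow
  have h1 := (mem_normalizer_zpowers_iff' g htr u).mp hn
  have h2 : u ^ 2 * g * (u ^ 2)⁻¹ = g := by
    rcases h1 with h | h
    · calc u ^ 2 * g * (u ^ 2)⁻¹ = u * (u * g * u⁻¹) * u⁻¹ := by rw [pow_two]; group
        _ = g := by rw [h, h]
    · calc u ^ 2 * g * (u ^ 2)⁻¹ = u * (u * g * u⁻¹) * u⁻¹ := by rw [pow_two]; group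
        _ = u * g⁻¹ * u⁻¹ := by rw [h]
        _ = (u * g * u⁻¹)⁻¹ := by group
        _ = g := by rw [h, inv_inv]
  have h3 := conj_eq_of_sq_conj_eq hodd h2
  apply eq_one_of_commute g u htr hu
  calc u * g = (u * g * u⁻¹) * u := by group
    _ = g * u := by rw [h3]


/-- `R` is a `2`-group -/
theorem isPGroup_two (hp : p ≠ 2) (u : SpecialLinearGroup (Fin 2) F)
    (hu : IsPGroup p ↥(zpowers u)) (hu1 : u ≠ 1)
    (R : Subgroup (SpecialLinearGroup (Fin 2) F)) (hR : (Nat.card R).Coprime p)
    (huR : u ∈ normalizer (R : Set (SpecialLinearGroup (Fin 2) F))) : IsPGroup 2 R := by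
  rcases Nat.eq_two_pow_or_exists_odd_prime_and_dvd (Nat.card R) with ⟨k, hk⟩ | ⟨r, hr, hrd, hrodd⟩
  · exact IsPGroup.of_card hk
  · exfalso
    haveI : Fact r.Prime := ⟨hr⟩
    have hr2 : r ≠ 2 := by
      rintro rfl
      exact absurd hrodd (by decide)
    have hrp : r ≠ p := by
      rintro rfl
      exact (Nat.Prime.coprime_iff_not_dvd hr).mp hR.symm hrd
    have hAN : zpowers u ≤ normalizer (R : Set (SpecialLinearGroup (Fin 2) F)) :=
      zpowers_le.mpr huR
    have hcop : (Nat.card (zpowers u)).Coprime (Nat.card R) := by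
      obtain ⟨k, hk⟩ := IsPGroup.iff_card.mp hu
      rw [hk]; exact Nat.Coprime.pow_left k hR.symm
    obtain ⟨Q, hQ⟩ := Cfsg.Agent.Lib.Helper9.exists_invariant_sylow (zpowers u) R hAN hcop
      (Or.inl inferInstance) r
    set QG := (Q : Subgroup ↥R).map R.subtype with hQG
    have hQGp : IsPGroup r QG := Q.isPGroup'.map _
    have hQne : QG ≠ ⊥ := by
      intro h
      have h1 : (Q : Subgroup ↥R) = ⊥ := by
        rw [← Subgroup.map_eq_bot_iff_of_injective _ R.subtype_injective]; exact h
      exact Q.ne_bot_of_dvd_card hrd h1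
    obtain ⟨S, hS⟩ := hQGp.exists_le_sylow
    haveI : IsCyclic (S : Subgroup (SpecialLinearGroup (Fin 2) F)) :=
      isCyclic_sylow_SL2 p r hr2 hrp S
    haveI : IsCyclic QG := Subgroup.isCyclic_of_le hS
    obtain ⟨g₀, hg₀⟩ := IsCyclic.exists_generator (α := QG)
    obtain ⟨g, hg⟩ : ∃ g : SpecialLinearGroup (Fin 2) F, g = (g₀ : SpecialLinearGroup (Fin 2) F) :=
      ⟨_, rfl⟩
    have hgQ : g ∈ QG := hg ▸ g₀.2
    have hQz : QG = zpowers g := by
      ext y; constructor
      · intro hy
        obtain ⟨i, hi⟩ := mem_zpowers_iff.mp (hg₀ ⟨y, hy⟩)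
        rw [mem_zpowers_iff]
        refine ⟨i, ?_⟩
        have := congrArg Subtype.val hi
        rw [hg]; simpa using this
      · intro hy
        obtain ⟨i, rfl⟩ := mem_zpowers_iff.mp hy
        exact zpow_mem hgQ i
    have hgR : g ∈ R := by
      obtain ⟨y, -, hy⟩ := hgQ
      rw [← hy]; exact y.2
    have hgcop : (orderOf g).Coprime p := by
      have h1 : orderOf g ∣ Nat.card R := by
        have := orderOf_dvd_natCard (⟨g, hgR⟩ : R)
        rwa [Subgroup.orderOf_mk] at this
      exact Nat.Coprime.coprime_dvd_left h1 hR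
    have hg2 : g * g ≠ 1 := by
      intro h
      have h1 : orderOf g ∣ 2 := orderOf_dvd_of_pow_eq_one (by rw [pow_two]; exact h)
      obtain ⟨k, hk⟩ := (IsPGroup.iff_orderOf.mp hQGp) ⟨g, hgQ⟩
      rw [Subgroup.orderOf_mk] at hk
      have h2 : (orderOf g).Coprime 2 := by
        rw [hk]; exact Nat.Coprime.pow_left k (Nat.coprime_two_right.mpr hrodd)
      have h3 := Nat.Coprime.eq_one_of_dvd h2 h1
      rw [orderOf_eq_one_iff] at h3
      apply hQne
      rw [hQz, h3, zpowers_one_eq_bot]
    have hn : u ∈ normalizer ((zpowers g : Subgroup (SpecialLinearGroup (Fin 2) F)) :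
        Set (SpecialLinearGroup (Fin 2) F)) := by
      rw [← hQz]; exact hQ (mem_zpowers u)
    exact hu1 (eq_one_of_mem_normalizer hp g u hgcop hg2 hu hn)


theorem result (F : Type) [Field F] [Fintype F] {p : ℕ} [Fact p.Prime] [CharP F p] (hp : p ≠ 2) (a : Matrix.SpecialLinearGroup (Fin 2) F) (ha : IsPGroup p ↥(Subgroup.zpowers a)) (R : Subgroup (Matrix.SpecialLinearGroup (Fin 2) F)) (hR : (Nat.card R).Coprime p) (haR : a ∈ Subgroup.normalizer (R : Set (Matrix.SpecialLinearGroup (Fin 2) F))) (hnt : ⁅R, Subgroup.zpowers a⁆ ≠ ⊥) : p = 3 ∧ Nonempty (↥R ≃* QuaternionGroup 2) ∧ Nonempty (↥(R ⊔ Subgroup.zpowers a) ≃* Matrix.SpecialLinearGroup (Fin 2) (ZMod 3)) := by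
  classical
  haveI : Fact (Nat.Prime 2) := ⟨Nat.prime_two⟩
  have hpprime : p.Prime := Fact.out
  have h2F : (2 : F) ≠ 0 := by
    intro h
    have h1 : ((2 : ℕ) : F) = 0 := by exact_mod_cast h
    rw [CharP.cast_eq_zero_iff F p] at h1
    exact hp ((Nat.prime_dvd_prime_iff_eq hpprime Nat.prime_two).mp h1)
  have ha1 : a ≠ 1 := by
    rintro rfl
    apply hnt
    rw [zpowers_one_eq_bot]
    exact Subgroup.commutator_bot_right R
  obtain ⟨ka, hka⟩ := (IsPGroup.iff_orderOf.mp ha) ⟨a, mem_zpowers a⟩
  rw [Subgroup.orderOf_mk] at hka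
  have hpodd : Odd p := hpprime.odd_of_ne_two hp
  have hodd : Odd (orderOf a) := by rw [hka]; exact hpodd.pow
  have hmove : ∃ q ∈ R, a * q * a⁻¹ ≠ q := by
    by_contra hcon
    push Not at hcon
    apply hnt
    rw [Subgroup.commutator_eq_bot_iff_le_centralizer]
    intro q hq
    rw [mem_centralizer_iff]
    intro z hz
    obtain ⟨i, rfl⟩ := mem_zpowers_iff.mp hz
    have hc : Commute a q := by
      have := hcon q hq
      calc a * q = (a * q * a⁻¹) * a := by group
        _ = q * a := by rw [this]
    exact (hc.zpow_left i).eq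
  have hconj_mem : ∀ q ∈ R, a * q * a⁻¹ ∈ R := fun q hq => (mem_normalizer_iff.mp haR q).mp hq
  have hR2 : IsPGroup 2 R := isPGroup_two hp a ha ha1 R hR haR
  have huniq : ∀ s t : ↥R, orderOf s = 2 → orderOf t = 2 → s = t := by
    intro s t hs ht
    have key : ∀ w : ↥R, orderOf w = 2 → (w : SpecialLinearGroup (Fin 2) F) = zSL F := by
      intro w hw
      have h1 : (w : SpecialLinearGroup (Fin 2) F) * (w : SpecialLinearGroup (Fin 2) F) = 1 := by
        have h2 : w ^ 2 = 1 := by
          have h4 := pow_orderOf_eq_one w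
          rwa [hw] at h4
        have h3 := congrArg Subtype.val h2
        simpa [pow_two] using h3
      rcases sq_eq_one_cases h2F (w : SpecialLinearGroup (Fin 2) F) h1 with h | h
      · exfalso
        have h2 : w = 1 := Subtype.ext h
        rw [h2, orderOf_one] at hw; omega
      · exact h
    exact Subtype.ext ((key s hs).trans (key t ht).symm)
  have hcontra : a ∈ centralizer (R : Set (SpecialLinearGroup (Fin 2) F)) → False := by
    intro hc
    obtain ⟨q, hq, hne⟩ := hmove
    apply hne
    have h1 := mem_centralizer_iff.mp hc q hq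
    rw [← h1]; group
  rcases Cfsg.Agent.Lib.Helper18.cyclic_or_quaternion_data hR2 huniq with
    hcyc | ⟨b, x, m, hm, hbord, hxnot, hxb, hx2, hcov⟩
  · exfalso
    haveI := hcyc
    exact hcontra
      (Cfsg.Agent.Lib.Helper1.mem_centralizer_of_mem_normalizer_cyclic_two R hR2 a haR hodd)
  · have hbord' : orderOf (b : SpecialLinearGroup (Fin 2) F) = 2 ^ m := by
      rw [Subgroup.orderOf_coe]; exact hbord
    have hxnot' : (x : SpecialLinearGroup (Fin 2) F) ∉
        zpowers (b : SpecialLinearGroup (Fin 2) F) := by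
      intro h
      apply hxnot
      obtain ⟨i, hi⟩ := mem_zpowers_iff.mp h
      rw [mem_zpowers_iff]; exact ⟨i, Subtype.ext (by simpa using hi)⟩
    have hxb' : (x : SpecialLinearGroup (Fin 2) F) * b * (x : SpecialLinearGroup (Fin 2) F)⁻¹ =
        (b : SpecialLinearGroup (Fin 2) F)⁻¹ := by
      have := congrArg Subtype.val hxb; simpa using this
    have hx2' : (x : SpecialLinearGroup (Fin 2) F) ^ 2 =
        (b : SpecialLinearGroup (Fin 2) F) ^ (2 ^ (m - 1)) := by
      have := congrArg Subtype.val hx2; simpa using this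
    have hcov' : ∀ q ∈ R, q ∈ zpowers (b : SpecialLinearGroup (Fin 2) F) ∨
        ∃ h ∈ zpowers (b : SpecialLinearGroup (Fin 2) F),
          q = (x : SpecialLinearGroup (Fin 2) F) * h := by
      intro q hq
      rcases hcov ⟨q, hq⟩ with h | ⟨h, hh, heq⟩
      · left
        obtain ⟨i, hi⟩ := mem_zpowers_iff.mp h
        rw [mem_zpowers_iff]
        exact ⟨i, by have := congrArg Subtype.val hi; simpa using this⟩
      · right
        obtain ⟨i, hi⟩ := mem_zpowers_iff.mp hh
        refine ⟨(h : SpecialLinearGroup (Fin 2) F), ?_, ?_⟩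
        · rw [mem_zpowers_iff]
          exact ⟨i, by have := congrArg Subtype.val hi; simpa using this⟩
        · have := congrArg Subtype.val heq; simpa using this
    by_cases hm3 : 3 ≤ m
    · exfalso
      exact hcontra (Cfsg.Agent.Lib.Helper1.mem_centralizer_of_quaternion_data R
        (b : SpecialLinearGroup (Fin 2) F) (x : SpecialLinearGroup (Fin 2) F) m hm3 hbord' hxnot'
        hxb' hx2' hcov' b.2 x.2 a hconj_mem hodd)
    · have hm2 : m = 2 := by omega
      subst hm2
      have hdata : IsQ8Data R (b : SpecialLinearGroup (Fin 2) F)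
          (x : SpecialLinearGroup (Fin 2) F) :=
        ⟨b.2, x.2, by simpa using hbord', hxnot', hxb', by rw [← pow_two]; simpa using hx2', hcov'⟩
      obtain ⟨a', b', ha'R, hb'R, ha'ord, hbb, hba, hga, hgb, hclosure⟩ :=
        hdata.exists_adapted a hconj_mem hodd hmove
      -- `a³` centralizes `a'`
      have hza : a ^ 3 * a' * (a ^ 3)⁻¹ = a' := by
        have h1 : a ^ 3 * a' * (a ^ 3)⁻¹ = a * (a * (a * a' * a⁻¹) * a⁻¹) * a⁻¹ := by
          rw [pow_succ, pow_two]; group
        have h2 : a * (a' * b') * a⁻¹ = (a * a' * a⁻¹) * (a * b' * a⁻¹) := by group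
        have h3 : b' * a' = a'⁻¹ * b' := by
          calc b' * a' = (b' * a' * b'⁻¹) * b' := by group
            _ = a'⁻¹ * b' := by rw [hba]
        rw [h1, hga, hgb, h2, hga, hgb]
        calc b' * (a' * b') = (b' * a') * b' := by group
          _ = a'⁻¹ * (b' * b') := by rw [h3]; group
          _ = a'⁻¹ * a' ^ 2 := by rw [hbb]
          _ = a' := by group
      have ha'2 : a' * a' ≠ 1 := by
        intro h
        have := orderOf_dvd_of_pow_eq_one (show a' ^ 2 = 1 by rw [pow_two]; exact h)
        rw [ha'ord] at this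
        omega
      have ha'cop : (orderOf a').Coprime p := by
        rw [ha'ord]
        have : Nat.Coprime (2 ^ 2) p := Nat.Coprime.pow_left 2 (Nat.coprime_two_left.mpr hpodd)
        simpa using this
      have htr := trace_sq_ne_four a' ha'cop ha'2
      have ha3 : a ^ 3 = 1 := by
        apply eq_one_of_commute a' (a ^ 3) htr
          (ha.to_le (zpowers_le.mpr (pow_mem (mem_zpowers a) 3)))
        calc a ^ 3 * a' = (a ^ 3 * a' * (a ^ 3)⁻¹) * a ^ 3 := by group
          _ = a' * a ^ 3 := by rw [hza]
      have haord : orderOf a = 3 := by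
        haveI : Fact (Nat.Prime 3) := ⟨Nat.prime_three⟩
        exact orderOf_eq_prime ha3 ha1
      have hp3 : p = 3 := by
        have hk0 : ka ≠ 0 := by
          rintro rfl
          rw [pow_zero] at hka
          omega
        have h1 : p ∣ 3 := by
          rw [← haord, hka]; exact dvd_pow_self p hk0
        exact (Nat.prime_dvd_prime_iff_eq hpprime Nat.prime_three).mp h1
      refine ⟨hp3, ?_, ?_⟩
      · apply Cfsg.Agent.Lib.Helper18.nonempty_mulEquiv_quaternionGroup b x 2
        · rw [hbord]; norm_num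
        · simpa using hx2
        · exact hxb
        · exact hxnot
        · exact hcov
      · have hsup : R ⊔ zpowers a = closure {a', b', a} := by
          apply le_antisymm
          · apply sup_le
            · refine hclosure.trans (closure_mono ?_)
              intro y hy
              rcases hy with rfl | hy
              · simp
              · rw [Set.mem_singleton_iff] at hy; subst hy; simp
            · rw [zpowers_le]; exact subset_closure (by simp)
          · rw [closure_le]
            intro y hy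
            rcases hy with rfl | rfl | hy
            · exact (le_sup_left : R ≤ R ⊔ zpowers a) ha'R
            · exact (le_sup_left : R ≤ R ⊔ zpowers a) hb'R
            · rw [Set.mem_singleton_iff] at hy; subst hy
              exact (le_sup_right : zpowers y ≤ R ⊔ zpowers y) (mem_zpowers y)
        rw [hsup]
        have ha'H : a' ∈ closure ({a', b', a} : Set (SpecialLinearGroup (Fin 2) F)) :=
          subset_closure (by simp)
        have hb'H : b' ∈ closure ({a', b', a} : Set (SpecialLinearGroup (Fin 2) F)) :=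
          subset_closure (by simp)
        have haH : a ∈ closure ({a', b', a} : Set (SpecialLinearGroup (Fin 2) F)) :=
          subset_closure (by simp)
        apply nonempty_mulEquiv_SL23_of_closure (a := ⟨a', ha'H⟩) (b := ⟨b', hb'H⟩) (t := ⟨a, haH⟩)
        · rw [Subgroup.orderOf_mk, ha'ord]
        · exact Subtype.ext (by simpa using hbb)
        · exact Subtype.ext (by simpa using hba)
        · rw [Subgroup.orderOf_mk, haord]
        · exact Subtype.ext (by simpa using hga)
        · exact Subtype.ext (by simpa using hgb)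
        · have h1 : closure (((↑) : ↥(closure ({a', b', a} : Set (SpecialLinearGroup (Fin 2) F))) →
              SpecialLinearGroup (Fin 2) F) ⁻¹' {a', b', a}) = ⊤ :=
            Subgroup.closure_closure_coe_preimage
          rw [eq_top_iff, ← h1]
          apply Subgroup.closure_mono
          intro y hy
          have hy' : (y : SpecialLinearGroup (Fin 2) F) ∈
              ({a', b', a} : Set (SpecialLinearGroup (Fin 2) F)) := hy
          rcases hy' with hy' | hy' | hy'
          · left; exact Subtype.ext hy'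
          · right; left; exact Subtype.ext hy'
          · right; right
            rw [Set.mem_singleton_iff] at hy' ⊢
            exact Subtype.ext hy'

end Cfsg.Agent.S3740
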