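import Cfsg.Statements.S1451
import Cfsg.Agent.Lib.Helper17.Rank2Fitting

set_option autoImplicit false
open Cfsg

namespace Cfsg.Agent.S1451

/-- Let G be a solvable group of odd order such that G, or its Fitting subgroup, has no elementary abelian subgroup of order q ^ 3 for any prime q. Then G' is nilpotent; for every Sylow subgroup S of G, every characteristic subgroup T of S with T ≤ [S, S] is normal in G; and for every prime p, G has a characteristic subgroup that is a Hall subgroup for the set of primes greater than p. -/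
theorem result {G : Type*} [Group G] [Finite G] [Group.IsSolvable G] (hodd : Odd (Nat.card G)) (hr : Cfsg.RankLE 2 G ∨ Cfsg.RankLE 2 (Cfsg.fittingSubgroup G)) :
    Group.IsNilpotent ↥(commutator G) ∧
      (∀ (q : ℕ) [Fact q.Prime] (S : Sylow q G) (T : Subgroup ↥(S : Subgroup G)), T.Characteristic → T.map (S : Subgroup G).subtype ≤ ⁅(S : Subgroup G), (S : Subgroup G)⁆ →
        (T.map (S : Subgroup G).subtype).Normal) ∧
      ∀ p : ℕ, ∃ N : Subgroup G, N.Characteristic ∧ Cfsg.IsPiHall {q | q.Prime ∧ p < q} N := by
  classical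
  have hF : ∀ p : ℕ, p.Prime → Cfsg.PRankLE p 2 (Cfsg.fittingSubgroup G) := by
    intro p hp
    rcases hr with h | h
    · exact Cfsg.Agent.Lib.Helper17.pRankLE_subgroup p (h p hp) _
    · exact h p hp
  have hder := Cfsg.Agent.Lib.Helper17.commutator_le_fitting_of_rank_two hodd hF
  refine ⟨?_, ?_, ?_⟩
  · have h1 : Group.IsNilpotent (Cfsg.fittingSubgroup G) :=
      Cfsg.Agent.Lib.Helper1.fittingSubgroup_isNilpotent G
    have h2 : Group.IsNilpotent ((commutator G).subgroupOf (Cfsg.fittingSubgroup G)) :=
      inferInstance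
    exact Group.nilpotent_of_mulEquiv (Subgroup.subgroupOfEquivOfLe hder)
  · intro q hq S T hT hTS
    exact Cfsg.Agent.Lib.Helper17.char_sylow_normal_of_rank_two hodd hF q S T hT hTS
  · intro p
    exact Cfsg.Agent.Lib.Helper17.exists_char_hall_of_rank_two (Nat.card G) G rfl hodd hF p

end Cfsg.Agent.S1451
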