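import Cfsg.Statements.S1452
-- import your own Cfsg.Agent.* helpers here
import Cfsg.Agent.Lib.Helper1.NormalRankThree

set_option autoImplicit false
open Cfsg

namespace Cfsg.Agent.S1452

/-- Let p be an odd prime and R a finite p-group containing an elementary abelian subgroup of order p ^ 3. If E is a normal elementary abelian subgroup of R of order p ^ 2, then E ≤ A for some normal subgroup A of R with C_R(A) = A that contains an elementary abelian subgroup of order p ^ 3. -/
theorem result {R : Type*} [Group R] [Finite R] (p : ℕ) [Fact p.Prime] (hp : p ≠ 2) (hR : IsPGroup p R) (hr : ¬ Cfsg.PRankLE p 2 R)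
    (E : Subgroup R) [E.Normal] (hE : Cfsg.IsElementaryAbelian p E) (hE2 : Nat.card E = p ^ 2) :
    ∃ A : Subgroup R, E ≤ A ∧ A.Normal ∧ Subgroup.centralizer (A : Set R) = A ∧ ¬ Cfsg.PRankLE p 2 A := by
  obtain ⟨E₀, hE₀c, hE₀e, hE₀card⟩ : ∃ E₀ : Subgroup R, IsMulCommutative E₀ ∧
      (∀ a ∈ E₀, a ^ p = 1) ∧ p ^ 2 < Nat.card E₀ := by
    by_contra hcon
    apply hr
    intro A hAc hAe
    by_contra h
    exact hcon ⟨A, hAc, hAe, not_le.mp h⟩
  obtain ⟨A, hEA, hAn, hCA, A₀, hA₀A, hA₀c, hA₀e, hA₀card⟩ :=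
    Cfsg.Agent.Lib.Helper1.exists_self_centralizing_normal_rank_three hp hR E₀ hE₀c hE₀e hE₀card
      E hE.1 hE.2 hE2
  refine ⟨A, hEA, hAn, hCA, ?_⟩
  intro hrk
  have h1 := hrk (A₀.subgroupOf A) inferInstance (by
    intro a ha
    rw [Subgroup.mem_subgroupOf] at ha
    exact Subtype.ext (by simpa using hA₀e a ha))
  rw [Cfsg.Agent.Lib.Helper1.card_subgroupOf_of_le hA₀A] at h1
  omega

end Cfsg.Agent.S1452
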