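import Cfsg.Statements.S1453
-- import your own Cfsg.Agent.* helpers here
import Cfsg.Agent.Lib.Helper1.NarrowOmegaZ2

set_option autoImplicit false
open Cfsg

namespace Cfsg.Agent.S1453

/-- Let p be an odd prime and R a finite p-group with an elementary abelian subgroup of order p ^ 3 and an elementary abelian subgroup E of order p ^ 2 contained in no larger elementary abelian subgroup. Let Z₂ be the second centre of R, W the subgroup generated by the elements of Z₂ of order dividing p, and T = C_R(W). Then E is not contained in T; the elements of order dividing p of the centre of R generate a group of order p; W is elementary abelian of order p ^ 2; and T is characteristic in R of index p. -/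
theorem result {R : Type*} [Group R] [Finite R] (p : ℕ) [Fact p.Prime] (hp : p ≠ 2) (hR : IsPGroup p R) (hr : ¬ Cfsg.PRankLE p 2 R)
    (E : Subgroup R) (hE : Cfsg.IsElementaryAbelian p E) (hE2 : Nat.card E = p ^ 2)
    (hEmax : ∀ B : Subgroup R, Cfsg.IsElementaryAbelian p B → E ≤ B → B = E) :
    ¬ E ≤ Subgroup.centralizer ((Subgroup.closure {x : R | x ∈ Subgroup.upperCentralSeries R 2 ∧ x ^ p = 1} : Subgroup R) : Set R) ∧
      Nat.card ↥(Subgroup.closure {x : R | x ∈ Subgroup.center R ∧ x ^ p = 1}) = p ∧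
      (Cfsg.IsElementaryAbelian p (Subgroup.closure {x : R | x ∈ Subgroup.upperCentralSeries R 2 ∧ x ^ p = 1}) ∧
        Nat.card ↥(Subgroup.closure {x : R | x ∈ Subgroup.upperCentralSeries R 2 ∧ x ^ p = 1}) = p ^ 2) ∧
      (Subgroup.centralizer ((Subgroup.closure {x : R | x ∈ Subgroup.upperCentralSeries R 2 ∧ x ^ p = 1} : Subgroup R) : Set R)).Characteristic ∧
      (Subgroup.centralizer ((Subgroup.closure {x : R | x ∈ Subgroup.upperCentralSeries R 2 ∧ x ^ p = 1} : Subgroup R) : Set R)).index = p := by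
  obtain ⟨E₀, hE₀c, hE₀e, hE₀card⟩ : ∃ E₀ : Subgroup R, IsMulCommutative E₀ ∧
      (∀ a ∈ E₀, a ^ p = 1) ∧ p ^ 2 < Nat.card E₀ := by
    by_contra hcon
    apply hr
    intro A hAc hAe
    by_contra h
    exact hcon ⟨A, hAc, hAe, not_le.mp h⟩
  have hEc : ∀ a ∈ E, ∀ b ∈ E, a * b = b * a := fun a ha b hb =>
    congrArg Subtype.val (hE.1.is_comm.comm (⟨a, ha⟩ : E) ⟨b, hb⟩)
  obtain ⟨h1, h2, ⟨h3c, h3e⟩, h3card, h5⟩ :=
    Cfsg.Agent.Lib.Helper1.omega_z2_structure hp hR E₀ hE₀c hE₀e hE₀card E hEc hE.2 hE2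
      (fun B hBc hBe hEB => hEmax B ⟨⟨⟨fun a b => Subtype.ext (hBc a a.2 b b.2)⟩⟩, hBe⟩ hEB)
      _ _ rfl rfl
  refine ⟨h1, h2, ⟨⟨⟨⟨fun a b => Subtype.ext (h3c a a.2 b b.2)⟩⟩, h3e⟩, h3card⟩, ?_, h5⟩
  have hchar := Cfsg.Agent.Lib.Helper1.omega_z2_characteristic (R := R) (p := p)
  infer_instance

end Cfsg.Agent.S1453
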