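import Cfsg.Statements.S1443
import Cfsg.Agent.Lib.Helper9.OmegaOdd

set_option autoImplicit false
open Cfsg

namespace Cfsg.Agent.S1443

/-- Let G be a finite group, p an odd prime, H a p-subgroup, E an elementary abelian subgroup of H, and A a subgroup of order coprime to p normalizing H. If A centralizes every element of order p in H ∩ C_G(E), then A centralizes H. -/
theorem result {G : Type*} [Group G] [Finite G] (p : ℕ) [Fact p.Prime] (hp : p ≠ 2) (H E A : Subgroup G) (hH : IsPGroup p H) (hE : E ≤ H) (hEe : Cfsg.IsElementaryAbelian p E)
    (hA : (A ≤ Subgroup.normalizer (H : Set G))) (hcop : (Nat.card A).Coprime p)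
    (hfix : ∀ x ∈ (H ⊓ Subgroup.centralizer (E : Set G)), orderOf x = p → A ≤ Subgroup.centralizer ({x} : Set G)) :
    A ≤ Subgroup.centralizer (H : Set G) := by
  open Cfsg.Agent.Lib.Helper9 in
  -- `A` centralizes `E`
  have hcommE : ∀ a ∈ E, ∀ b ∈ E, a * b = b * a := by
    intro a ha b hb
    haveI := hEe.1
    exact Subgroup.mul_comm_of_mem_isMulCommutative E ha hb
  have hAE : A ≤ Subgroup.centralizer (E : Set G) := by
    intro x hx
    rw [Subgroup.mem_centralizer_iff]
    intro e he
    by_cases he1 : e = 1
    · rw [he1, one_mul, mul_one]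
    · have hord : orderOf e = p := orderOf_eq_prime (hEe.2 e he) he1
      have hmem : e ∈ H ⊓ Subgroup.centralizer (E : Set G) := by
        rw [Subgroup.mem_inf]
        refine ⟨hE he, ?_⟩
        rw [Subgroup.mem_centralizer_iff]
        intro b hb
        exact hcommE b hb e he
      have := hfix e hmem hord hx
      rw [Subgroup.mem_centralizer_singleton_iff] at this
      exact this.symm
  -- `A` centralizes `C_H(E)`
  have hnorm : A ≤ Subgroup.normalizer ((H ⊓ Subgroup.centralizer (E : Set G) : Subgroup G) : Set G) := by
    intro x hx
    apply mem_normalizer_inf (hA hx)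
    exact normalizer_le_normalizer_centralizer E
      ((Subgroup.centralizer_le_normalizer _) (hAE hx))
  have hcent : ⁅H ⊓ Subgroup.centralizer (E : Set G), A⁆ = ⊥ := by
    rw [Subgroup.commutator_comm, Subgroup.commutator_eq_bot_iff_le_centralizer]
    intro x hx
    apply mem_centralizer_of_centralizes_omega hp (hH.to_le inf_le_left) (hnorm hx)
    · exact Nat.Coprime.coprime_dvd_left (Subgroup.orderOf_dvd_natCard A hx) hcop
    · intro d hd hdp
      by_cases hd1 : d = 1
      · rw [hd1, one_mul, mul_one]
      · have hord : orderOf d = p := orderOf_eq_prime hdp hd1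
        have := hfix d hd hord hx
        rw [Subgroup.mem_centralizer_singleton_iff] at this
        exact this
  have key := commutator_eq_bot_of_centralizes_centralizer hH hE hA hAE hcent
    (pStable_of_coprime p hcop)
  rw [Subgroup.commutator_comm, Subgroup.commutator_eq_bot_iff_le_centralizer] at key
  exact key

end Cfsg.Agent.S1443
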