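import Cfsg.Statements.S1402
import Cfsg.Agent.Lib.Helper19.BG95D4
import Cfsg.Agent.Lib.Helper17.BG95TypeI
import Cfsg.Agent.Lib.Helper17.BG95Final
import Cfsg.Agent.Lib.Helper8.BG95Kill

set_option autoImplicit false
open Cfsg

namespace Cfsg.Agent.S1402

/-- Let G be a minimal simple group of odd order, p a prime, P a Sylow p-subgroup of G and A a normal subgroup of P with C_P(A) = A containing an elementary abelian subgroup of order p ^ 3. Then A lies in exactly one maximal subgroup of G. -/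
theorem result {G : Type*} [Group G] [Finite G] (hG : Cfsg.IsMinSimpleOddOrder G)
    (p : ℕ) [Fact p.Prime] (P : Sylow p G) (A : Subgroup G) (hA : Cfsg.IsSCN (P : Subgroup G) A) (hA3 : ¬ Cfsg.PRankLE p 2 ↥A) :
    Cfsg.InUniqueMaximal A := by
  -- Case 0: the Fitting subgroup of some maximal subgroup has `p`-rank at least three (B & G 9.4)
  by_cases h0 : ∀ M : Subgroup G, IsCoatom M → Cfsg.PRankLE p 2 ↥(Cfsg.fittingOf M)
  · -- Part 1: all maximal subgroups containing `A` are of type I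
    by_cases hI : ∀ H : Subgroup G, IsCoatom H → A ≤ H → Cfsg.RankLE 2 ↥(Cfsg.fittingOf H)
    · exact Cfsg.Agent.Lib.Helper17.BG95TypeI.uniq_of_all_typeI hG p P A hA hA3 hI
    · -- Part 2: some maximal subgroup containing `A` is of type II
      push Not at hI
      obtain ⟨H₁, hH₁, hAH₁, hII⟩ := hI
      obtain ⟨s, W, h₁⟩ := Cfsg.Agent.Lib.Helper19.BG95.exists_typeII hG P hA hA3 h0 hH₁ hAH₁ hII
      refine Cfsg.Agent.Lib.Helper17.BG95Final.uniq_of_typeII' hG p P A hA hA3 h₁ ?_
      intro H hH hAH hHII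
      obtain ⟨s₂, W₂, h₂⟩ := Cfsg.Agent.Lib.Helper19.BG95.exists_typeII hG P hA hA3 h0 hH hAH hHII
      exact Cfsg.Agent.Lib.Helper8.BG95Kill.typeII_unique hG p P A hA hA3 h₂ h₁
  · push Not at h0
    obtain ⟨M, hM, hF⟩ := h0
    have hAp : IsPGroup p A := P.isPGroup'.to_le hA.1
    exact Cfsg.Agent.Lib.Helper17.BGU.uniq_of_fitting_rank_three hG hM hF hAp
      (Cfsg.Agent.Lib.Helper17.BGU.isMulCommutative_of_comm
        (Cfsg.Agent.Lib.Helper17.BGU.scn_comm hA)) hA3

end Cfsg.Agent.S1402
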