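import Cfsg.Statements.S1350
import Cfsg.Agent.S1403
import Cfsg.Agent.Lib.Helper1.BGX2

set_option autoImplicit false
set_option linter.style.haveILetI false
open Cfsg

namespace Cfsg.Agent.S1350

open Cfsg.Agent.Lib.Helper1.BGX in
/-- Let G be a minimal simple group of odd order and M a maximal subgroup. Then M_σ (the largest normal σ(M)-subgroup of M) is a Hall σ(M)-subgroup of M and also of G, and every Hall σ(M)-subgroup of M that is normal in M equals M_σ. -/
theorem result {G : Type*} [Group G] [Finite G] (hG : Cfsg.IsMinSimpleOddOrder G)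
    (M : Subgroup G) (hM : IsCoatom M) :
    Cfsg.IsPiHallOf (Cfsg.sigma M) (Cfsg.sigmaCore M) M ∧ Cfsg.IsPiHall (Cfsg.sigma M) (Cfsg.sigmaCore M) ∧
      ∀ N : Subgroup G, M ≤ Subgroup.normalizer (N : Set G) → Cfsg.IsPiHallOf (Cfsg.sigma M) N M →
        N = Cfsg.sigmaCore M := by
  have hU : UT G := fun K hK h2 h3 => Cfsg.Agent.S1403.result hG K hK h2 h3
  haveI hsol : Group.IsSolvable ↥M := hG.2.2.2 M hM.1
  have hodd : Odd (Nat.card ↥M) := odd_card_subgroup hG.1 M
  set π := Cfsg.sigma M with hπ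
  have hrank : ∀ q : ℕ, q.Prime → q ∉ π → Cfsg.PRankLE q 2 ↥M := by
    intro q hq hqπ
    by_contra h
    exact hqπ (alpha_subset_sigma hG hU hM ⟨hq, h⟩)
  have hidx : ∀ p : ℕ, p.Prime → p ∈ π → ¬ p ∣ (Cfsg.piCore π ↥M).index := by
    intro p hpp hp
    haveI : Fact p.Prime := ⟨hpp⟩
    obtain ⟨S, hSM, hS1, hNM, hcsf, hSc⟩ := exists_sylow_sigma hG hU hM hp
    have h1 : ((S.subtype hSM : Sylow p ↥M) : Subgroup ↥M) ≤ commutator ↥M := by
      intro x hx
      rw [Sylow.coe_subtype, Subgroup.mem_subgroupOf] at hx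
      have h2 := hSc hx
      rw [← Subgroup.map_subtype_commutator] at h2
      obtain ⟨y, hy, hyx⟩ := h2
      have : y = x := Subtype.ext hyx
      rw [← this]; exact hy
    have h3 := sylow_le_piCore_of_le_commutator π hodd hrank hp (S.subtype hSM) h1
    intro hd
    exact (S.subtype hSM).not_dvd_index (hd.trans (Subgroup.index_dvd_of_le h3))
  have hcard : Nat.card (Cfsg.sigmaCore M) = Nat.card (Cfsg.piCore π ↥M) :=
    Subgroup.card_map_of_injective M.subtype_injective
  have hprimes : ∀ p : ℕ, p.Prime → p ∣ Nat.card (Cfsg.sigmaCore M) → p ∈ π := by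
    intro p hpp hd
    rw [hcard] at hd
    exact Cfsg.Agent.Lib.Helper12.piCore_mem π p hpp hd
  have hle : Cfsg.sigmaCore M ≤ M := Subgroup.map_subtype_le _
  have hrel : (Cfsg.sigmaCore M).relIndex M = (Cfsg.piCore π ↥M).index := by
    unfold Subgroup.relIndex Cfsg.sigmaCore Subgroup.subgroupOf
    rw [Subgroup.comap_map_eq_self_of_injective M.subtype_injective]
  refine ⟨⟨hle, hprimes, ?_⟩, ⟨hprimes, ?_⟩, ?_⟩
  · intro p hpp hp
    rw [hrel]; exact hidx p hpp hp
  · intro p hpp hp hd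
    rw [← Subgroup.relIndex_mul_index hle, hrel] at hd
    haveI : Fact p.Prime := ⟨hpp⟩
    rcases (Nat.Prime.dvd_mul hpp).mp hd with h | h
    · exact hidx p hpp hp h
    · exact not_dvd_index_of_mem_sigma hp h
  · intro N hNn ⟨hNM, hNp, hNi⟩
    -- `N ≤ M_σ`
    have hN' : (N.subgroupOf M).Normal := by
      refine ⟨fun n hn g => ?_⟩
      rw [Subgroup.mem_subgroupOf] at hn ⊢
      have := (Subgroup.mem_normalizer_iff.mp (hNn g.2) (n : G)).mp hn
      simpa using this
    have hcN : Nat.card (N.subgroupOf M) = Nat.card N := by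
      rw [Cfsg.Agent.Lib.Helper1.card_subgroupOf_of_le hNM]
    have hNle' : N.subgroupOf M ≤ Cfsg.piCore π ↥M := by
      apply Cfsg.Agent.Lib.Helper12.le_piCore π _ hN'
      intro p hpp hd
      rw [hcN] at hd
      exact hNp p hpp hd
    have hNle : N ≤ Cfsg.sigmaCore M := by
      intro n hn
      exact ⟨⟨n, hNM hn⟩, hNle' (Subgroup.mem_subgroupOf.mpr hn), rfl⟩
    -- the relative index is 1
    have h1 : N.relIndex (Cfsg.sigmaCore M) = 1 := by
      by_contra hne
      obtain ⟨p, hpp, hpd⟩ := Nat.exists_prime_and_dvd hne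
      have h2 : p ∣ Nat.card (Cfsg.sigmaCore M) :=
        hpd.trans (Subgroup.relIndex_dvd_card _ _)
      have h3 : p ∣ N.relIndex M := by
        rw [← Subgroup.relIndex_mul_relIndex N (Cfsg.sigmaCore M) M hNle hle]
        exact hpd.mul_right _
      exact hNi p hpp (hprimes p hpp h2) h3
    exact le_antisymm hNle (Subgroup.relIndex_eq_one.mp h1)

end Cfsg.Agent.S1350
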