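import Cfsg.Statements.S1444
-- import your own Cfsg.Agent.* helpers here
import Cfsg.Agent.Lib.Helper1.BG36R7
import Cfsg.Agent.Lib.Helper21.BG36

set_option autoImplicit false
open Cfsg

namespace Cfsg.Agent.S1444

/-- Let G be a solvable group of odd order, H a normal subgroup of order coprime to its index, R a complement to H in G, and R₀ ≤ R a subgroup of prime order such that every Sylow subgroup of H ∩ C_G(R₀) is cyclic. Then for every prime p the commutator subgroup [H, R] satisfies [H,R] = O_{p',p,p'}([H,R]). -/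
theorem result {G : Type*} [Group G] [Finite G] [Group.IsSolvable G] (hodd : Odd (Nat.card G)) (H R R₀ : Subgroup G) [H.Normal] (hHall : (Nat.card H).Coprime H.index)
    (hR : Subgroup.IsComplement' H R) (hR₀ : R₀ ≤ R) (hR₀p : (Nat.card R₀).Prime) (hZ : IsZGroup ↥(H ⊓ Subgroup.centralizer (R₀ : Set G)))
    (p : ℕ) [Fact p.Prime] :
    Cfsg.PLengthLE p 1 ↥⁅H, R⁆ := by
  have hRidx : H.index = Nat.card R := hR.symm.index_eq_card
  have hC : Cfsg.Agent.Lib.Helper1.BG36R.Cls H R R₀ :=
    { norm := by rw [Subgroup.normalizer_eq_top]; exact le_top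
      cop := by rw [← hRidx]; exact hHall
      sol := inferInstance
      oddH := Odd.of_dvd_nat hodd (Subgroup.card_subgroup_dvd_card H)
      oddR := Odd.of_dvd_nat hodd (Subgroup.card_subgroup_dvd_card R)
      le := hR₀
      prime := hR₀p
      z := hZ }
  have hFC : Cfsg.Agent.Lib.Helper1.BG36R.FinalConfigStatement := by
    intro G' _ _ q _
    exact Cfsg.Agent.Lib.Helper21.BG36.final_config q
  exact Cfsg.Agent.Lib.Helper1.BG36R.main hFC p _ G H R R₀ hC rfl

end Cfsg.Agent.S1444
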