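import Cfsg.Statements.S1410
-- import your own Cfsg.Agent.* helpers here
import Cfsg.Agent.S1403
import Cfsg.Agent.S1444
import Cfsg.Agent.Lib.Helper1.BGX6

set_option autoImplicit false
open Cfsg

namespace Cfsg.Agent.S1410

/-- Let G be a minimal simple group of odd order. Then for every prime p and every proper subgroup H of G, H = O_{p',p,p'}(H). -/
theorem result {G : Type*} [Group G] [Finite G] (hG : Cfsg.IsMinSimpleOddOrder G) (p : ℕ) [Fact p.Prime] (H : Subgroup G) (hH : H ≠ ⊤) :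
    Cfsg.PLengthLE p 1 H := by
  have hU : Cfsg.Agent.Lib.Helper1.BGX.UT G := fun K hK h2 h3 => Cfsg.Agent.S1403.result hG K hK h2 h3
  refine Cfsg.Agent.Lib.Helper1.BGX.pLengthLE_one_proper hG hU ?_ p hH
  intro M hM H R R₀ _ hHall hR hR₀ hR₀p hZ q _
  haveI : Group.IsSolvable ↥M := hG.2.2.2 M hM.1
  exact Cfsg.Agent.S1444.result (Cfsg.Agent.Lib.Helper1.BGX.odd_card_subgroup hG.1 M) H R R₀ hHall hR hR₀
    hR₀p hZ q

end Cfsg.Agent.S1410
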