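import Cfsg.Statements.S1455
import Cfsg.Agent.S1450
import Cfsg.Agent.Lib.Helper17.NarrowF
import Cfsg.Agent.Lib.Helper17.NarrowG
import Cfsg.Agent.Lib.Helper17.BGUniqA
import Cfsg.Agent.Lib.Helper9.PLength

set_option autoImplicit false
open Cfsg

namespace Cfsg.Agent.S1455

/-- Let G be a solvable group of odd order, p a prime dividing its order, and S a Sylow p-subgroup of G that is narrow; if S has an elementary abelian subgroup of order p ^ 3 assume also G = O_{p',p,p'}(G). Then every prime dividing the index of O_{p'}(G) is at most p; if p = 3 or p is the smallest prime divisor of #G then G has a normal p-complement; G' has a normal p-complement; every subgroup of G' of order coprime to p lies in O_{p'}(G'); and G' ≤ O_{p',p}(G) with the index of O_{p',p}(G) coprime to p. -/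
theorem result {G : Type*} [Group G] [Finite G] [Group.IsSolvable G] (hodd : Odd (Nat.card G)) (p : ℕ) [Fact p.Prime] (hpG : p ∣ Nat.card G) (S : Sylow p G) (hS : Cfsg.IsNarrow p ↥(S : Subgroup G))
    (hpl : ¬ Cfsg.PRankLE p 2 ↥(S : Subgroup G) → Cfsg.PLengthLE p 1 G) :
    (∀ q : ℕ, q.Prime → q ∣ (Cfsg.pPrimeCore p G).index → q ≤ p) ∧
      ((p = 3 ∨ ∀ q : ℕ, q.Prime → q ∣ Nat.card G → p ≤ q) → Cfsg.HasNormalPComplement p G) ∧
      Cfsg.HasNormalPComplement p ↥(commutator G) ∧
      (∀ L : Subgroup ↥(commutator G), (Nat.card L).Coprime p → L ≤ Cfsg.pPrimeCore p ↥(commutator G)) ∧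
      commutator G ≤ Cfsg.pPrimePCore p G ∧ ((Cfsg.pPrimePCore p G).index).Coprime p := by
  classical
  have hpp : p.Prime := Fact.out
  have hp2 : p ≠ 2 := by
    rintro rfl
    exact (Nat.not_even_iff_odd.mpr hodd) (even_iff_two_dvd.mpr hpG)
  by_cases hr : Cfsg.PRankLE p 2 ↥(S : Subgroup G)
  · -- rank at most two: B&G 4.18
    apply Cfsg.Agent.S1450.result hodd p hpG
    apply Cfsg.Agent.Lib.Helper17.BGU.pRankLE_of_sylow S
    intro E hES hEc hEp
    have h1 : Nat.card (E.subgroupOf (S : Subgroup G)) = Nat.card E :=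
      Nat.card_congr (Subgroup.subgroupOfEquivOfLe hES).toEquiv
    rw [← h1]
    apply hr
    · refine ⟨⟨fun a b => ?_⟩⟩
      apply Subtype.ext
      apply Subtype.ext
      have := hEc.is_comm.comm (⟨(a : G), a.2⟩ : E) ⟨(b : G), b.2⟩
      have h2 : ((a : (S : Subgroup G)) : G) * ((b : (S : Subgroup G)) : G) =
          ((b : (S : Subgroup G)) : G) * ((a : (S : Subgroup G)) : G) := congrArg Subtype.val this
      push_cast
      exact h2
    · intro a ha
      apply Subtype.ext
      push_cast
      exact hEp _ ha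
  · -- narrow of rank at least three
    have hpl1 := hpl hr
    obtain ⟨K, hK⟩ : ∃ K : Subgroup G, K = Cfsg.pPrimeCore p G := ⟨_, rfl⟩
    have hKn : K.Normal := by rw [hK]; exact Cfsg.Agent.Lib.Helper1.pPrimeCore_normal p G
    have hKcop : (Nat.card K).Coprime p := by
      rw [hK]; exact Cfsg.Agent.Lib.Helper12.pPrimeCore_coprime p
    have hO : Cfsg.pPrimeCore p (G ⧸ K) = ⊥ := by
      subst hK
      exact Cfsg.Agent.Lib.Helper9.pPrimeCore_quotient_eq_bot p
    obtain ⟨f, hf⟩ : ∃ f : G →* G ⧸ K, f = QuotientGroup.mk' K := ⟨_, rfl⟩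
    have hfsurj : Function.Surjective f := by rw [hf]; exact QuotientGroup.mk'_surjective K
    have hfker : f.ker = K := by rw [hf]; exact QuotientGroup.ker_mk' K
    have hLdef : Cfsg.pPrimePCore p G = (Cfsg.pCore p (G ⧸ K)).comap f := by
      subst hK
      subst hf
      rfl
    have hLidx : ((Cfsg.pPrimePCore p G).index).Coprime p :=
      Cfsg.Agent.Lib.Helper9.coprime_index_pPrimePCore_of_pLengthLE_one p hpl1
    have hRbP : IsPGroup p (Cfsg.pCore p (G ⧸ K)) := Cfsg.Agent.Lib.Helper12.pCore_isPGroup' p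
    have hLn : (Cfsg.pPrimePCore p G).Normal := by
      rw [hLdef]
      have : (Cfsg.pCore p (G ⧸ K)).Normal := Subgroup.sSup_normal _ (fun _ h => h.1)
      infer_instance
    have hSP : IsPGroup p (S : Subgroup G) := S.isPGroup'
    -- S ≤ O_{p',p}(G)
    have hSL : (S : Subgroup G) ≤ Cfsg.pPrimePCore p G := by
      intro s hs
      obtain ⟨k, hk⟩ := hSP ⟨s, hs⟩
      have hk' : s ^ (p ^ k) = 1 := by
        have := congrArg Subtype.val hk
        simpa using this
      have h1 : orderOf (QuotientGroup.mk' (Cfsg.pPrimePCore p G) s) ∣ p ^ k := by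
        apply orderOf_dvd_of_pow_eq_one
        rw [← map_pow, hk', map_one]
      have h2 : orderOf (QuotientGroup.mk' (Cfsg.pPrimePCore p G) s) ∣
          (Cfsg.pPrimePCore p G).index := by
        rw [Subgroup.index_eq_card]
        exact orderOf_dvd_natCard _
      have h3 := Nat.dvd_gcd h2 h1
      rw [Nat.Coprime.pow_right k hLidx, Nat.dvd_one, orderOf_eq_one_iff] at h3
      exact (QuotientGroup.eq_one_iff s).mp h3
    have hfS : ∀ s : (S : Subgroup G), f (s : G) ∈ Cfsg.pCore p (G ⧸ K) := by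
      intro s
      have := hSL s.2
      rw [hLdef] at this
      exact this
    let φ : (S : Subgroup G) →* Cfsg.pCore p (G ⧸ K) :=
      { toFun := fun s => ⟨f (s : G), hfS s⟩
        map_one' := Subtype.ext (by simp)
        map_mul' := fun a b => Subtype.ext (by simp) }
    have hφinj : Function.Injective φ := by
      rw [injective_iff_map_eq_one]
      intro s hs
      have h1 : f (s : G) = 1 := congrArg Subtype.val hs
      have h2 : (s : G) ∈ K := by
        rw [← hfker]; exact h1
      have h5 := Cfsg.Agent.Lib.Helper12.inf_eq_bot_of_coprime_of_isPGroup hKcop hSP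
      have h6 : (s : G) ∈ K ⊓ (S : Subgroup G) := ⟨h2, s.2⟩
      rw [h5, Subgroup.mem_bot] at h6
      exact Subtype.ext h6
    have hcardle : Nat.card (Cfsg.pCore p (G ⧸ K)) ≤ Nat.card (S : Subgroup G) := by
      obtain ⟨m, hm⟩ := hRbP.exists_card_eq
      have h1 : p ^ m ∣ Nat.card G := by
        rw [← hm]
        refine (Subgroup.card_subgroup_dvd_card _).trans ?_
        rw [← Subgroup.index_eq_card]
        exact Subgroup.index_dvd_card K
      have h2 := S.pow_dvd_card_of_pow_dvd_card h1
      rw [hm]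
      exact Nat.le_of_dvd Nat.card_pos h2
    have hφbij : Function.Bijective φ := hφinj.bijective_of_nat_card_le hcardle
    obtain ⟨e⟩ : Nonempty ((S : Subgroup G) ≃* Cfsg.pCore p (G ⧸ K)) :=
      ⟨MulEquiv.ofBijective φ hφbij⟩
    have hn' : Cfsg.IsNarrow p ↥(Cfsg.pCore p (G ⧸ K)) :=
      Cfsg.Agent.Lib.Helper17.Narrow.isNarrow_of_equiv e hS
    have hr' : ¬ Cfsg.PRankLE p 2 ↥(Cfsg.pCore p (G ⧸ K)) := fun h =>
      hr (Cfsg.Agent.Lib.Helper17.Narrow.pRankLE_of_injective e.toMonoidHom e.injective h)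
    obtain ⟨hder, hidx, hprimes⟩ := Cfsg.Agent.Lib.Helper17.Narrow.narrow_core p hp2 hO hn' hr'
    exact Cfsg.Agent.Lib.Helper17.Narrow.conclusions_of_core hodd p K hK hder hidx hprimes

end Cfsg.Agent.S1455
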