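import Cfsg.Statements.S1446
-- import your own Cfsg.Agent.* helpers here
import Cfsg.Agent.Lib.Helper1.FM4

set_option autoImplicit false
open Cfsg

namespace Cfsg.Agent.S1446

/-- Let X be a finite group with subgroups K, R, M such that: K and R are nontrivial, K ∩ R = 1, R normalizes K, no non-identity element of R centralizes a non-identity element of K, K ⊔ R is solvable of odd order; M is nilpotent and nontrivial, normalized by K and by R, with order coprime to that of K ⊔ R, M ∩ C(K) = 1, and M ∩ C(x) = M ∩ C(R) for all non-identity x ∈ R. Then R has prime order p, #M = #(M ∩ C(R)) ^ p, and if M ∩ C(R) is cyclic then [K, K] centralizes M. -/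
theorem result {X : Type*} [Group X] [Finite X] (K R M : Subgroup X) (hK1 : K ≠ ⊥) (hR1 : R ≠ ⊥) (hKR : K ⊓ R = ⊥)
    (hRK : R ≤ Subgroup.normalizer (K : Set X)) (hfrob : ∀ r ∈ R, r ≠ 1 → K ⊓ Subgroup.centralizer ({r} : Set X) = ⊥)
    (hsolv : Group.IsSolvable ↥(K ⊔ R)) (hodd : Odd (Nat.card ↥(K ⊔ R)))
    (hM1 : M ≠ ⊥) (hMn : Group.IsNilpotent M) (hKM : K ≤ Subgroup.normalizer (M : Set X)) (hRM : R ≤ Subgroup.normalizer (M : Set X))
    (hcop : (Nat.card ↥(K ⊔ R)).Coprime (Nat.card M)) (hCK : M ⊓ Subgroup.centralizer (K : Set X) = ⊥)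
    (hpr : ∀ x ∈ R, x ≠ 1 → M ⊓ Subgroup.centralizer ({x} : Set X) = M ⊓ Subgroup.centralizer (R : Set X)) :
    (Nat.card R).Prime ∧ Nat.card M = Nat.card ↥(M ⊓ Subgroup.centralizer (R : Set X)) ^ Nat.card R ∧
      (IsCyclic ↥(M ⊓ Subgroup.centralizer (R : Set X)) → ⁅K, K⁆ ≤ Subgroup.centralizer (M : Set X)) := by
  classical
  have hUn : ∀ e ∈ R, ∀ u ∈ K, e * u * e⁻¹ ∈ K := by
    intro e he u hu
    exact (Subgroup.mem_normalizer_iff.mp (hRK he) u).mp hu
  have hfpf : ∀ e ∈ R, e ≠ 1 → ∀ u ∈ K, e * u = u * e → u = 1 := by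
    intro e he e1 u hu hc'
    have : u ∈ K ⊓ Subgroup.centralizer ({e} : Set X) := by
      refine Subgroup.mem_inf.mpr ⟨hu, ?_⟩
      rw [Subgroup.mem_centralizer_iff]
      intro h hh
      rw [Set.mem_singleton_iff] at hh
      rw [hh]
      exact hc'
    rw [hfrob e he e1] at this
    exact Subgroup.mem_bot.mp this
  have hKRM : K ⊔ R ≤ Subgroup.normalizer (M : Set X) := sup_le hKM hRM
  have hHn : ∀ x ∈ K ⊔ R, ∀ h ∈ M, x * h * x⁻¹ ∈ M := by
    intro x hx h hh
    exact (Subgroup.mem_normalizer_iff.mp (hKRM hx) h).mp hh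
  have hsolvM : Group.IsSolvable ↥M := by
    haveI := hMn
    infer_instance
  -- cardinalities of the trivial centralizers
  have hCK1 : Nat.card ↥(M ⊓ Subgroup.centralizer (K : Set X)) = 1 := by
    rw [hCK]; exact Subgroup.card_bot
  have hCsup : ∀ E : Subgroup X,
      Nat.card ↥(M ⊓ Subgroup.centralizer ((K ⊔ E : Subgroup X) : Set X)) = 1 := by
    intro E
    have hle : M ⊓ Subgroup.centralizer ((K ⊔ E : Subgroup X) : Set X)
        ≤ M ⊓ Subgroup.centralizer (K : Set X) :=
      inf_le_inf_left _ (Subgroup.centralizer_le (by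
        intro k hk
        exact (le_sup_left : K ≤ K ⊔ E) hk))
    rw [hCK] at hle
    rw [le_bot_iff.mp hle]
    exact Subgroup.card_bot
  -- the formula for R
  have F1 := Cfsg.Agent.Lib.Helper17.FrobCount.formula_aux K R hR1 hUn hfpf _ M rfl hHn hsolvM
    hcop.symm
  rw [hCsup R, hCK1, one_pow, one_mul, mul_one] at F1
  -- an element of prime order
  have hcardR : Nat.card ↥R ≠ 1 := by rwa [Ne, Subgroup.card_eq_one]
  set q := (Nat.card ↥R).minFac with hq0
  have hq : q.Prime := Nat.minFac_prime hcardR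
  have : Fact q.Prime := ⟨hq⟩
  obtain ⟨x, hx⟩ := exists_prime_orderOf_dvd_card' (G := ↥R) q (Nat.minFac_dvd _)
  have hx1 : (x : X) ≠ 1 := by
    intro h
    have : x = 1 := Subtype.ext h
    rw [this, orderOf_one] at hx
    exact hq.one_lt.ne hx
  have hxo : orderOf (x : X) = q := by rw [Subgroup.orderOf_coe]; exact hx
  set E : Subgroup X := Subgroup.zpowers (x : X) with hE
  have hER : E ≤ R := by
    rw [hE, Subgroup.zpowers_le]
    exact x.2
  have hE1 : E ≠ ⊥ := by
    rw [hE, Ne, Subgroup.zpowers_eq_bot]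
    exact hx1
  have hcardE : Nat.card ↥E = q := by
    rw [hE, Nat.card_zpowers, hxo]
  have hKE : K ⊔ E ≤ K ⊔ R := sup_le_sup_left hER K
  have F2 := Cfsg.Agent.Lib.Helper17.FrobCount.formula_aux K E hE1
    (fun e he u hu => hUn e (hER he) u hu) (fun e he e1 u hu hc' => hfpf e (hER he) e1 u hu hc')
    _ M rfl (fun y hy h hh => hHn y (hKE hy) h hh) hsolvM
    (hcop.symm.coprime_dvd_right (Subgroup.card_dvd_of_le hKE))
  rw [hCsup E, hCK1, one_pow, one_mul, mul_one, hcardE] at F2
  have hCE : M ⊓ Subgroup.centralizer (E : Set X) = M ⊓ Subgroup.centralizer (R : Set X) := by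
    rw [← hpr x x.2 hx1]
    congr 1
    ext g
    rw [Subgroup.mem_centralizer_iff, Subgroup.mem_centralizer_iff]
    constructor
    · intro h y hy
      rw [Set.mem_singleton_iff] at hy
      rw [hy]
      exact h _ (Subgroup.mem_zpowers (x : X))
    · intro h y hy
      obtain ⟨n, rfl⟩ := Subgroup.mem_zpowers_iff.mp hy
      have hc : Commute (x : X) g := h _ rfl
      exact (hc.zpow_left n).eq
  rw [hCE] at F2
  set c := Nat.card ↥(M ⊓ Subgroup.centralizer (R : Set X)) with hc
  have hc2 : 2 ≤ c := by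
    have hpos : 0 < c := Nat.card_pos
    rcases Nat.lt_or_ge c 2 with h | h
    · have hc1 : c = 1 := by omega
      rw [hc1, one_pow] at F1
      exact absurd (Subgroup.card_eq_one.mp F1) hM1
    · exact h
  have hqR : q = Nat.card ↥R := by
    apply Nat.pow_right_injective hc2
    show c ^ q = c ^ Nat.card ↥R
    rw [← F1, ← F2]
  refine ⟨hqR ▸ hq, F1, fun hcyc => ?_⟩
  exact Cfsg.Agent.Lib.Helper1.FM.derived_le_centralizer K R hR1 hUn hfpf _ M rfl hHn hsolvM
    hcop.symm hcyc

end Cfsg.Agent.S1446
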