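import Cfsg.Statements.S1448
import Cfsg.Agent.Lib.Helper24.RkTwo5
import Cfsg.Agent.Lib.Helper17.OddAutRank2

set_option autoImplicit false
open Cfsg

namespace Cfsg.Agent.S1448

open scoped commutatorElement

/-- Let G be a finite group, p an odd prime, R a nontrivial p-subgroup with no elementary abelian subgroup of order p ^ 3, and A a subgroup of odd order coprime to p normalizing R with [R, A] = R. Then 3 < p, and either R is abelian or R is generated by two elementwise-commuting subgroups R₁, R₂ with R₁ non-abelian of order p ^ 3 and exponent p, R₂ cyclic, and the elements of R₂ of order dividing p generating exactly [R₁, R₁]. -/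
theorem result {G : Type*} [Group G] [Finite G] (p : ℕ) [Fact p.Prime] (hp : p ≠ 2) (R A : Subgroup G) (hR : IsPGroup p R) (hR1 : R ≠ ⊥) (hr : Cfsg.PRankLE p 2 R)
    (hA : (A ≤ Subgroup.normalizer (R : Set G))) (hcop : (Nat.card A).Coprime p) (hAodd : Odd (Nat.card A)) (hRA : ⁅R, A⁆ = R) :
    3 < p ∧ (IsMulCommutative R ∨ ∃ R₁ R₂ : Subgroup G, R₁ ⊔ R₂ = R ∧ (∀ a ∈ R₁, ∀ b ∈ R₂, a * b = b * a) ∧
        ¬ IsMulCommutative R₁ ∧ Nat.card R₁ = p ^ 3 ∧ Monoid.exponent R₁ = p ∧ IsCyclic R₂ ∧
        Subgroup.closure {x : G | x ∈ R₂ ∧ x ^ p = 1} = ⁅R₁, R₁⁆) := by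
  classical
  have hpp : p.Prime := Fact.out
  set f : ↥A →* MulAut ↥R := R.normalizerMonoidHom.comp (Subgroup.inclusion hA) with hf
  have hfx : ∀ (a : ↥A) (x : ↥R), ((f a x : ↥R) : G) = a * x * (a : G)⁻¹ := fun a x => rfl
  set A' : Subgroup (MulAut ↥R) := f.range with hA'
  have hdvd : Nat.card A' ∣ Nat.card A :=
    Subgroup.card_dvd_of_surjective f.rangeRestrict f.rangeRestrict_surjective
  have hcop' : (Nat.card A').Coprime p := Nat.Coprime.coprime_dvd_left hdvd hcop
  have hodd' : Odd (Nat.card A') := hAodd.of_dvd_nat hdvd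
  have hgen : Subgroup.closure (Cfsg.Agent.Lib.Helper1.MetaCoprime.genSet A') = ⊤ := by
    apply Subgroup.map_injective (Subgroup.subtype_injective R)
    rw [MonoidHom.map_closure, ← MonoidHom.range_eq_map, Subgroup.range_subtype]
    apply le_antisymm
    · rw [Subgroup.closure_le]
      rintro _ ⟨x, _, rfl⟩
      exact x.2
    · conv_lhs => rw [← hRA, Subgroup.commutator_def]
      rw [Subgroup.closure_le]
      rintro _ ⟨r, hr, a, ha, rfl⟩
      have h1 : ⁅r, a⁆ = (a * r * a⁻¹ * r⁻¹)⁻¹ := by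
        rw [commutatorElement_def]; group
      rw [h1]
      apply inv_mem
      apply Subgroup.subset_closure
      refine ⟨f ⟨a, ha⟩ ⟨r, hr⟩ * (⟨r, hr⟩ : ↥R)⁻¹, ⟨f ⟨a, ha⟩, ⟨⟨a, ha⟩, rfl⟩, ⟨r, hr⟩, rfl⟩, ?_⟩
      simp [hfx]
  have hp3 : 3 < p := by
    by_contra hcon
    have hp3' : p = 3 := by
      have := hpp.two_le
      omega
    have h2 := (Cfsg.Agent.Lib.Helper17.odd_aut_rank_two p hp hR hr A' hodd').2
    have hone : Nat.card A' = 1 := by
      by_contra hne
      obtain ⟨q, hq, hqd⟩ := Nat.exists_prime_and_dvd hne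
      have hq3 := h2 q hq hqd
      have hq2 : q ≠ 2 := by
        rintro rfl
        exact (Nat.not_even_iff_odd.mpr hodd') (even_iff_two_dvd.mpr hqd)
      have hqp : q ≠ p := by
        rintro rfl
        exact (Nat.Prime.coprime_iff_not_dvd hpp).mp hcop'.symm hqd
      have := hq.two_le
      omega
    have hbot : A' = ⊥ := Subgroup.card_eq_one.mp hone
    have htb : (⊤ : Subgroup ↥R) = ⊥ := by
      rw [← hgen, Subgroup.closure_eq_bot_iff]
      rintro _ ⟨α, hα, x, rfl⟩
      rw [hbot, Subgroup.mem_bot] at hα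
      subst hα
      simp
    apply hR1
    rw [eq_bot_iff]
    intro x hx
    have : (⟨x, hx⟩ : ↥R) ∈ (⊥ : Subgroup ↥R) := htb ▸ Subgroup.mem_top _
    rw [Subgroup.mem_bot] at this
    rw [Subgroup.mem_bot]
    exact congrArg Subtype.val this
  refine ⟨hp3, ?_⟩
  rcases Cfsg.Agent.Lib.Helper24.RkTwo.abstract_main hp3 hR hr A' hcop' hodd' hgen with
    hab | ⟨S, C, hsup, hcomm, hna, hcard, hexp, hcyc, hcl⟩
  · left
    exact ⟨⟨fun a b => hab a b⟩⟩
  · right
    refine ⟨S.map R.subtype, C.map R.subtype, ?_, ?_, ?_, ?_, ?_, ?_, ?_⟩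
    · rw [← Subgroup.map_sup, hsup, ← MonoidHom.range_eq_map, Subgroup.range_subtype]
    · rintro _ ⟨a, ha, rfl⟩ _ ⟨b, hb, rfl⟩
      exact congrArg Subtype.val (hcomm a ha b hb)
    · intro hc
      apply hna
      intro a ha b hb
      have := hc.is_comm.comm (⟨a.1, ⟨a, ha, rfl⟩⟩ : ↥(S.map R.subtype)) ⟨b.1, ⟨b, hb, rfl⟩⟩
      have h2 : ((a : ↥R) : G) * b = b * a := congrArg Subtype.val this
      exact Subtype.ext h2
    · rw [Subgroup.card_map_of_injective R.subtype_injective]; exact hcard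
    · have hdvd : Monoid.exponent ↥(S.map R.subtype) ∣ p := by
        apply Monoid.exponent_dvd_of_forall_pow_eq_one
        rintro ⟨_, ⟨a, ha, rfl⟩⟩
        apply Subtype.ext
        have := congrArg Subtype.val (hexp a ha)
        simpa using this
      rcases (Nat.dvd_prime hpp).mp hdvd with h1 | h1
      · exfalso
        rw [Monoid.exp_eq_one_iff] at h1
        have h2 : Nat.card ↥(S.map R.subtype) = 1 := Nat.card_eq_one_iff_unique.mpr ⟨h1, ⟨1⟩⟩
        rw [Subgroup.card_map_of_injective R.subtype_injective, hcard] at h2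
        have := Nat.one_lt_pow (n := 3) (by norm_num) hpp.one_lt
        omega
      · exact h1
    · exact isCyclic_of_surjective (Subgroup.equivMapOfInjective C R.subtype R.subtype_injective)
        (Subgroup.equivMapOfInjective C R.subtype R.subtype_injective).surjective
    · rw [← Subgroup.map_commutator, ← hcl, MonoidHom.map_closure]
      congr 1
      ext x
      constructor
      · rintro ⟨hx1, hx2⟩
        obtain ⟨y, hy, rfl⟩ := hx1
        refine ⟨y, ⟨hy, ?_⟩, rfl⟩
        apply Subtype.ext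
        simpa using hx2
      · rintro ⟨y, ⟨hy1, hy2⟩, rfl⟩
        refine ⟨⟨y, hy1, rfl⟩, ?_⟩
        have := congrArg Subtype.val hy2
        simpa using this

end Cfsg.Agent.S1448
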