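import Cfsg.Statements.S1422
import Cfsg.Agent.S1350
import Cfsg.Agent.S1403
import Cfsg.Agent.S1412
import Cfsg.Agent.S1414
import Cfsg.Agent.S1416
import Cfsg.Agent.S1417
import Cfsg.Agent.Lib.Helper23.BGY4
import Cfsg.Agent.Lib.Helper9.BGNonabE

set_option autoImplicit false
open Cfsg

namespace Cfsg.Agent.S1422

/-- Let G be a minimal simple group of odd order, p a prime and P a non-abelian p-subgroup of G. Then P lies in exactly one maximal subgroup of G. -/
theorem result {G : Type*} [Group G] [Finite G] (hG : Cfsg.IsMinSimpleOddOrder G) (p : ℕ) [Fact p.Prime] (P : Subgroup G) (hP : IsPGroup p P) (hPna : ¬ IsMulCommutative P) :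
    Cfsg.InUniqueMaximal P := by
  have hHall : ∀ M : Subgroup G, IsCoatom M →
      Cfsg.IsPiHallOf (Cfsg.sigma M) (Cfsg.sigmaCore M) M :=
    fun M hM => (Cfsg.Agent.S1350.result hG M hM).1
  have h16 : Cfsg.Agent.Lib.Helper23.BGY.H16 G := fun M hM p _ A hA =>
    (Cfsg.Agent.S1416.result hG M hM p A hA).1
  have h17 : Cfsg.Agent.Lib.Helper23.BGY.H17 G := fun M hM p _ hp A hA => by
    obtain ⟨-, hb, -, -, he, -⟩ := Cfsg.Agent.S1417.result hG M hM p hp A hA
    exact ⟨fun P => (hb P).1, he⟩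
  exact Cfsg.Agent.Lib.Helper9.BGNonab.nonabelian_inUniqueMaximal hG
    (fun K hK hK2 hK3 => Cfsg.Agent.S1403.result hG K hK hK2 hK3) hHall
    (fun q _ Q hr => Cfsg.Agent.S1412.result hG q Q hr)
    (fun M hM q hq hqd hqβ => ((Cfsg.Agent.S1414.result hG M hM).2.2.2.2 q hq hqd hqβ).2.1)
    (fun M hM q _ A hA h => ((Cfsg.Agent.S1416.result hG M hM q A hA).2 h).2.2)
    (fun M hM N hNM hNnil hNσ =>
      Cfsg.Agent.Lib.Helper23.BGY.nilpotent_sigma'_comm hG h17 hM hNM hNnil hNσ)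
    (fun M hM q Q hq hQ hQM hQnc =>
      Cfsg.Agent.Lib.Helper23.BGY.normalizer_le_of_not_cyclic hG h16 hM hq hQ hQM hQnc)
    p P hP hPna

end Cfsg.Agent.S1422
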