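import Cfsg.Statements.S1423
import Cfsg.Agent.S1350
import Cfsg.Agent.S1403
import Cfsg.Agent.S1412
import Cfsg.Agent.S1414
import Cfsg.Agent.S1422
import Cfsg.Agent.Lib.Helper9.BGCentSigD

set_option autoImplicit false
open Cfsg

namespace Cfsg.Agent.S1423

/-- Let G be a minimal simple group of odd order, M a maximal subgroup, p ∈ σ(M), X ≤ M a subgroup of order p and P a Sylow p-subgroup of M_σ. If p ∈ β(M) or X ≤ (M_σ)', then C_G(X) ≤ M, M is the unique maximal subgroup containing C_G(X), and M is the unique maximal subgroup containing P. -/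
theorem result {G : Type*} [Group G] [Finite G] (hG : Cfsg.IsMinSimpleOddOrder G)
    (M : Subgroup G) (hM : IsCoatom M) (p : ℕ) [Fact p.Prime] (hp : p ∈ Cfsg.sigma M) (X : Subgroup G) (hXM : X ≤ M) (hX : Nat.card X = p)
    (P : Sylow p ↥(Cfsg.sigmaCore M)) (h : p ∈ Cfsg.beta M ∨ X ≤ ⁅Cfsg.sigmaCore M, Cfsg.sigmaCore M⁆) :
    (Subgroup.centralizer (X : Set G) ≤ M ∧ ∀ L : Subgroup G, IsCoatom L → Subgroup.centralizer (X : Set G) ≤ L → L = M) ∧ Cfsg.InUniqueMaximal ((P : Subgroup ↥(Cfsg.sigmaCore M)).map (Cfsg.sigmaCore M).subtype) ∧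
      (P : Subgroup ↥(Cfsg.sigmaCore M)).map (Cfsg.sigmaCore M).subtype ≤ M := by
  have hpp : p.Prime := Fact.out
  exact Cfsg.Agent.Lib.Helper9.BGCentSig.sigma_order_p_centralizer hG
    (fun K hK hK2 hK3 => Cfsg.Agent.S1403.result hG K hK hK2 hK3) hM hp
    (Cfsg.Agent.S1350.result hG M hM).2.1
    (fun Q hr => Cfsg.Agent.S1412.result hG p Q hr)
    (fun hβ => ((Cfsg.Agent.S1414.result hG M hM).2.2.2.2 p hpp hp.2.1 hβ).2.1)
    (fun Q hQ hQna => Cfsg.Agent.S1422.result hG p Q hQ hQna)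
    X hXM hX P h

end Cfsg.Agent.S1423
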