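import Cfsg.Statements.S1427
import Cfsg.Agent.Lib.Helper16.BGPrimC
import Cfsg.Agent.S1417
import Cfsg.Agent.S1418
import Cfsg.Agent.S1423
import Cfsg.Agent.S1424

set_option autoImplicit false
open Cfsg

namespace Cfsg.Agent.S1427

/-- Let G be a minimal simple group of odd order, M a maximal subgroup, E a complement to M_σ in M, and S a nontrivial cyclic Sylow subgroup of E (for some prime). Then M_σ ∩ C_G(x) = M_σ ∩ C_G(S) for every non-identity x ∈ S. -/
theorem result {G : Type*} [Group G] [Finite G] (hG : Cfsg.IsMinSimpleOddOrder G)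
    (M : Subgroup G) (hM : IsCoatom M) (E : Subgroup G) (hE : Cfsg.IsComplIn E (Cfsg.sigmaCore M) M) (p : ℕ) [Fact p.Prime] (S : Sylow p E) (hS1 : (S : Subgroup E) ≠ ⊥) (hSc : IsCyclic (S : Subgroup E)) :
    ∀ x ∈ (S : Subgroup E).map E.subtype, x ≠ 1 →
        Cfsg.sigmaCore M ⊓ Subgroup.centralizer ({x} : Set G) = Cfsg.sigmaCore M ⊓ Subgroup.centralizer (((S : Subgroup E).map E.subtype : Subgroup G) : Set G) := by
  have h17 : Cfsg.Agent.Lib.Helper16.BGPrim.H17n G :=
    fun M hM q _ hq A hA => (Cfsg.Agent.S1417.result hG M hM q hq A hA).1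
  have h18 : Cfsg.Agent.Lib.Helper16.BGPrim.H18a G :=
    fun M hM E hE q _ hq A hA =>
      ⟨(Cfsg.Agent.S1418.result hG M hM E hE q hq A hA).1.1,
        (Cfsg.Agent.S1418.result hG M hM E hE q hq A hA).2.1.2.2⟩
  have h23 : Cfsg.Agent.Lib.Helper16.BGPrim.H23 G :=
    fun M hM q _ hq X hXM hX P hXd =>
      (Cfsg.Agent.S1423.result hG M hM q hq X hXM hX P (Or.inr hXd)).2
  have h24 : Cfsg.Agent.Lib.Helper16.BGPrim.H24 G :=
    fun M hM q _ hq X hXq hX1 hXM Mstar hMs hne hNX S hXS =>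
      Cfsg.Agent.S1424.result hG M hM q hq X hXq hX1 hXM Mstar hMs hne hNX S hXS
  exact Cfsg.Agent.Lib.Helper16.BGPrim.s1427_core hG h17 h18 h23 h24 M hM E hE p S hS1 hSc

end Cfsg.Agent.S1427
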