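import Cfsg.Statements.S1426
import Cfsg.Agent.S1350
import Cfsg.Agent.S1403
import Cfsg.Agent.S1404
import Cfsg.Agent.S1416
import Cfsg.Agent.S1423
import Cfsg.Agent.Lib.Helper23.BGY4
import Cfsg.Agent.Lib.Helper9.BGSigActB
import Cfsg.Agent.Lib.Helper24.BGBeta4
import Cfsg.Agent.Lib.Helper23.BGY2

set_option autoImplicit false
open Cfsg

namespace Cfsg.Agent.S1426

/-- Let G be a minimal simple group of odd order, M a maximal subgroup and E a complement to M_σ in M. Then M_σ ∩ C_G(E) ≤ (M_σ)', the commutator subgroup [M_σ, E] equals M_σ, and for every g outside M the intersection M_σ ∩ gMg⁻¹ is cyclic, has no prime divisor in β(M), and meets (M_σ)' trivially. -/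
theorem result {G : Type*} [Group G] [Finite G] (hG : Cfsg.IsMinSimpleOddOrder G)
    (M : Subgroup G) (hM : IsCoatom M) (E : Subgroup G) (hE : Cfsg.IsComplIn E (Cfsg.sigmaCore M) M) :
    Cfsg.sigmaCore M ⊓ Subgroup.centralizer (E : Set G) ≤ ⁅Cfsg.sigmaCore M, Cfsg.sigmaCore M⁆ ∧
      ⁅Cfsg.sigmaCore M, E⁆ = Cfsg.sigmaCore M ∧
      ∀ g : G, g ∉ M → IsCyclic ↥(Cfsg.sigmaCore M ⊓ M.map (MulAut.conj g).toMonoidHom) ∧
        (∀ p : ℕ, p.Prime → p ∣ Nat.card ↥(Cfsg.sigmaCore M ⊓ M.map (MulAut.conj g).toMonoidHom) → p ∉ Cfsg.beta M) ∧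
        Cfsg.sigmaCore M ⊓ M.map (MulAut.conj g).toMonoidHom ⊓ ⁅Cfsg.sigmaCore M, Cfsg.sigmaCore M⁆ = ⊥ := by
  have hUT : Cfsg.Agent.Lib.Helper1.BGX.UT G :=
    fun K hK hK2 hK3 => Cfsg.Agent.S1403.result hG K hK hK2 hK3
  have hHall := (Cfsg.Agent.S1350.result hG M hM).1
  have hXn : M ≤ Subgroup.normalizer ((Cfsg.sigmaCore M : Subgroup G) : Set G) :=
    Cfsg.Agent.Lib.Helper23.BGY.le_normalizer_sigmaCore M
  have hsolv : Group.IsSolvable ↥M := hG.2.2.2 M hM.1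
  have hder : Cfsg.sigmaCore M ≤ ⁅M, M⁆ :=
    Cfsg.Agent.Lib.Helper24.BGBeta.sigmaCore_le_commutator hG hUT hM
  have h2 : ⁅Cfsg.sigmaCore M, E⁆ = Cfsg.sigmaCore M :=
    Cfsg.Agent.Lib.Helper9.BGSigAct.commutator_compl_eq hE hXn hder hsolv
  have hcop : (Nat.card E).Coprime (Nat.card (Cfsg.sigmaCore M)) := by
    have hmul := Cfsg.Agent.Lib.Helper9.isComplIn_card_mul_card hE
    have hrel : Nat.card (Cfsg.sigmaCore M) * (Cfsg.sigmaCore M).relIndex M = Nat.card M :=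
      Cfsg.Agent.Lib.Helper4.card_mul_relIndex hHall.1
    have hEq : (Cfsg.sigmaCore M).relIndex M = Nat.card E := by
      have h3 : Nat.card (Cfsg.sigmaCore M) * (Cfsg.sigmaCore M).relIndex M =
          Nat.card (Cfsg.sigmaCore M) * Nat.card E := by rw [hrel, ← hmul, mul_comm]
      exact Nat.eq_of_mul_eq_mul_left Nat.card_pos h3
    apply Nat.coprime_of_dvd
    intro r hr hrE hrS
    exact hHall.2.2 r hr (hHall.2.1 r hr hrS) (hEq ▸ hrE)
  have h1 := Cfsg.Agent.Lib.Helper9.BGSigAct.inf_centralizer_le_commutator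
    (hE.1.trans hXn) hcop h2
  refine ⟨h1, h2, fun g hg => ?_⟩
  exact Cfsg.Agent.Lib.Helper9.BGSigAct.sigmaCore_inf_conj
    (fun q _ hq X hXq hX1 hXM => (Cfsg.Agent.S1404.result hG M hM q hq X hXq hX1 hXM).1)
    (fun q Q hq hQ hQM hQnc => Cfsg.Agent.Lib.Helper23.BGY.normalizer_le_of_not_cyclic hG
      (fun M hM p _ A hA => (Cfsg.Agent.S1416.result hG M hM p A hA).1) hM hq hQ hQM hQnc)
    (fun q _ hq X hXM hXc h => ((Cfsg.Agent.S1423.result hG M hM q hq X hXM hXc default h).1).1)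
    g hg

end Cfsg.Agent.S1426
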