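import Cfsg.Statements.S0068
-- import your own Cfsg.Agent.* helpers here
import Mathlib

set_option autoImplicit false
open Cfsg

namespace Cfsg.Agent.S0068

open Subgroup

theorem inverts {G : Type*} [Group G] [Finite G] (K H : Subgroup G) [K.Normal]
    (hfpf : ∀ h ∈ H, h ≠ 1 → K ⊓ Subgroup.centralizer {h} = ⊥)
    (t : G) (ht : t ∈ H) (ht2 : orderOf t = 2) : ∀ k ∈ K, t * k * t⁻¹ = k⁻¹ := by
  have ht1 : t ≠ 1 := by
    intro h; rw [h, orderOf_one] at ht2; omega
  have htt : t * t = 1 := by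
    have := pow_orderOf_eq_one t
    rwa [ht2, pow_two] at this
  have htinv : t⁻¹ = t := inv_eq_of_mul_eq_one_left htt
  have hC := hfpf t ht ht1
  let f : K → K := fun k => ⟨(k : G)⁻¹ * (t * k * t⁻¹),
    K.mul_mem (K.inv_mem k.2) (‹K.Normal›.conj_mem _ k.2 _)⟩
  have hinj : Function.Injective f := by
    intro k k' hkk'
    have h1 : (k : G)⁻¹ * (t * k * t⁻¹) = (k' : G)⁻¹ * (t * k' * t⁻¹) := congrArg Subtype.val hkk'
    have h2 : t * ((k' : G) * (k : G)⁻¹) = ((k' : G) * (k : G)⁻¹) * t := by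
      have e1 : t * ((k' : G) * (k : G)⁻¹) = (k' : G) * ((k' : G)⁻¹ * (t * k' * t⁻¹)) * t * (k:G)⁻¹ := by
        group
      rw [e1, ← h1]; group
    have h3 : (k' : G) * (k : G)⁻¹ ∈ K ⊓ centralizer {t} := by
      refine ⟨K.mul_mem k'.2 (K.inv_mem k.2), ?_⟩
      show _ ∈ centralizer {t}
      rw [Subgroup.mem_centralizer_iff]
      intro y hy
      rw [Set.mem_singleton_iff.mp hy, h2]
    rw [hC, Subgroup.mem_bot, mul_inv_eq_one] at h3
    exact Subtype.ext h3.symm
  have hsurj : Function.Surjective f := Finite.surjective_of_injective hinj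
  intro x hx
  obtain ⟨k, hk⟩ := hsurj ⟨x, hx⟩
  have hx' : x = (k : G)⁻¹ * (t * k * t⁻¹) := (congrArg Subtype.val hk).symm
  rw [hx', htinv]
  have e : t * ((k : G)⁻¹ * (t * ↑k * t)) * t = t * (k:G)⁻¹ * t * k * (t * t) := by group
  rw [e, htt, mul_one]
  have e2 : ((k : G)⁻¹ * (t * ↑k * t))⁻¹ = t⁻¹ * (k : G)⁻¹ * t⁻¹ * k := by group
  rw [e2, htinv]

/-- Frobenius complements of even order: if H complements a nontrivial normal subgroup K, each nonidentity element of H has trivial centraliser in K, and H has even order, then H contains a unique involution s, K is abelian, and s inverts every element of K. -/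
theorem result {G : Type*} [Group G] [Finite G] (K H : Subgroup G) [K.Normal]
    (hc : Subgroup.IsComplement' K H) (hK : K ≠ ⊥) (hfpf : ∀ h ∈ H, h ≠ 1 → K ⊓ Subgroup.centralizer {h} = ⊥)
    (heven : 2 ∣ Nat.card H) :
    (∃ s ∈ H, orderOf s = 2 ∧ (∀ t ∈ H, orderOf t = 2 → t = s) ∧ ∀ k ∈ K, s * k * s⁻¹ = k⁻¹) ∧ IsMulCommutative K := by
  have : Fact (Nat.Prime 2) := ⟨Nat.prime_two⟩
  obtain ⟨s', hs'⟩ := exists_prime_orderOf_dvd_card' (G := H) 2 heven
  have hs2 : orderOf (s' : G) = 2 := by rw [Subgroup.orderOf_coe]; exact hs'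
  have hinv := inverts K H hfpf (s' : G) s'.2 hs2
  refine ⟨⟨(s' : G), s'.2, hs2, ?_, hinv⟩, ?_⟩
  · intro t ht ht2
    have hinvt := inverts K H hfpf t ht ht2
    by_contra hne
    have hst : (s' : G) * t ≠ 1 := by
      intro h
      have htt : t * t = 1 := by
        have := pow_orderOf_eq_one t
        rwa [ht2, pow_two] at this
      apply hne
      have h1 : (s' : G) = t⁻¹ := eq_inv_of_mul_eq_one_left h
      have h2 : t⁻¹ = t := inv_eq_of_mul_eq_one_left htt
      rw [h1, h2]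
    have hC := hfpf ((s' : G) * t) (H.mul_mem s'.2 ht) hst
    apply hK
    rw [eq_bot_iff]
    intro k hk
    rw [← hC]
    refine ⟨hk, ?_⟩
    show k ∈ centralizer {(s' : G) * t}
    rw [Subgroup.mem_centralizer_iff]
    intro y hy
    rw [Set.mem_singleton_iff.mp hy]
    have h1 : t * k * t⁻¹ = k⁻¹ := hinvt k hk
    have h2 : (s' : G) * k⁻¹ * (s' : G)⁻¹ = k⁻¹⁻¹ := hinv k⁻¹ (K.inv_mem hk)
    rw [inv_inv] at h2
    have h3 : (s' : G) * t * k * ((s' : G) * t)⁻¹ = k := by
      have e : (s' : G) * t * k * ((s' : G) * t)⁻¹ = (s' : G) * (t * k * t⁻¹) * (s' : G)⁻¹ := by group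
      rw [e, h1, h2]
    calc (s' : G) * t * k = ((s' : G) * t * k * ((s' : G) * t)⁻¹) * ((s' : G) * t) := by group
      _ = k * ((s' : G) * t) := by rw [h3]
  · apply IsMulCommutative.of_comm
    intro x y
    apply Subtype.ext
    have hx := hinv x x.2
    have hy := hinv y y.2
    have hxy := hinv (x * y) (K.mul_mem x.2 y.2)
    have e : (s' : G) * ((x : G) * y) * (s' : G)⁻¹ =
        ((s' : G) * x * (s' : G)⁻¹) * ((s' : G) * y * (s' : G)⁻¹) := by group
    rw [e, hx, hy, mul_inv_rev] at hxy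
    have : ((x : G)⁻¹ * (y : G)⁻¹)⁻¹ = ((y : G)⁻¹ * (x : G)⁻¹)⁻¹ := by rw [hxy]
    simpa using this.symm

end Cfsg.Agent.S0068
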