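import Cfsg.Statements.S0069
-- import your own Cfsg.Agent.* helpers here
import Mathlib
import Cfsg.Agent.Lib.Helper18.FrobComp
import Cfsg.Agent.S0068

set_option autoImplicit false
open Cfsg

namespace Cfsg.Agent.S0069

/-- A Frobenius complement has nontrivial centre: if H ≠ 1 complements a nontrivial normal subgroup K and every nonidentity element of H has trivial centraliser in K, then the centre of H is nontrivial. -/
theorem result {G : Type*} [Group G] [Finite G] (K H : Subgroup G) [K.Normal]
    (hc : Subgroup.IsComplement' K H) (hK : K ≠ ⊥) (hH : H ≠ ⊥) (hfpf : ∀ h ∈ H, h ≠ 1 → K ⊓ Subgroup.centralizer {h} = ⊥) :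
    Subgroup.center H ≠ ⊥ := by
  classical
  by_cases heven : 2 ∣ Nat.card H
  · obtain ⟨⟨s, hsH, hs2, hsuniq, -⟩, -⟩ := Cfsg.Agent.S0068.result K H hc hK hfpf heven
    intro hbot
    have hs1 : s ≠ 1 := by
      intro h; rw [h, orderOf_one] at hs2; omega
    have hmem : (⟨s, hsH⟩ : H) ∈ Subgroup.center H := by
      rw [Subgroup.mem_center_iff]
      intro g
      have h1 : (g : G) * s * (g : G)⁻¹ ∈ H := H.mul_mem (H.mul_mem g.2 hsH) (H.inv_mem g.2)
      have h2 : orderOf ((g : G) * s * (g : G)⁻¹) = 2 := by
        have hsc : SemiconjBy (g : G) s ((g : G) * s * (g : G)⁻¹) := by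
          unfold SemiconjBy; group
        rw [← hsc.orderOf_eq, hs2]
      have h3 := hsuniq _ h1 h2
      apply Subtype.ext
      show (g : G) * s = s * (g : G)
      calc (g : G) * s = ((g : G) * s * (g : G)⁻¹) * g := by group
        _ = s * g := by rw [h3]
    rw [hbot, Subgroup.mem_bot] at hmem
    exact hs1 (congrArg Subtype.val hmem)
  · haveI : Nontrivial H := (Subgroup.nontrivial_iff_ne_bot H).mpr hH
    haveI : IsZGroup H := by
      refine ⟨?_⟩
      intro p hp P
      haveI : Fact p.Prime := ⟨hp⟩
      by_cases hp2 : p = 2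
      · subst hp2
        have h1 : Nat.card (P : Subgroup H) = 1 := by
          obtain ⟨k, hk⟩ := IsPGroup.iff_card.mp P.isPGroup'
          rcases k with _ | k
          · simpa using hk
          · exfalso
            apply heven
            have : 2 ∣ Nat.card (P : Subgroup H) := by rw [hk, pow_succ]; exact Dvd.intro_left _ rfl
            exact this.trans (Subgroup.card_subgroup_dvd_card _)
        haveI : Subsingleton (P : Subgroup H) := (Nat.card_eq_one_iff_unique.mp h1).1
        exact isCyclic_of_subsingleton
      · exact Cfsg.Agent.Lib.Helper18.isCyclic_sylow_of_fpf K H hK hfpf p hp2 P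
    have hsolv : Group.IsSolvable H := inferInstance
    apply Cfsg.Agent.Lib.Helper18.center_ne_bot_of_isZGroup
    intro p q hp hq hpq a b ha hb hn
    have key := Cfsg.Agent.Lib.Helper18.conj_eq_of_fpf_pq K H hK hfpf hsolv p q hp hq hpq
      (a : G) (b : G) a.2 b.2 (by rw [Subgroup.orderOf_coe, ha]) (by rw [Subgroup.orderOf_coe, hb])
      (by
        obtain ⟨k, hk⟩ := Subgroup.mem_zpowers_iff.mp hn
        refine Subgroup.mem_zpowers_iff.mpr ⟨k, ?_⟩
        have := congrArg Subtype.val hk
        simpa using this)
    apply Subtype.ext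
    simpa using key

end Cfsg.Agent.S0069
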