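import Cfsg.Statements.S1476
import Cfsg.Agent.S1474
import Cfsg.Agent.Lib.Helper8.SolvCN5
import Cfsg.Agent.Lib.Helper8.HallSCN1

set_option autoImplicit false
open Cfsg

namespace Cfsg.Agent.S1476

/-- Let G be a finite solvable group in which every non-identity element has nilpotent centralizer. Then either G is nilpotent; or G has a normal subgroup K with a Frobenius complement E (K E = G, K ∩ E = 1, E meets its conjugates by outside elements trivially) such that E is cyclic or E is generated by two elementwise-commuting subgroups, one cyclic of odd order and one isomorphic to a generalized quaternion group; or G is a three-step group with respect to some prime p. -/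
theorem result {G : Type*} [Group G] [Finite G] [Group.IsSolvable G] (hCN : Cfsg.IsCNGroup G) :
    Group.IsNilpotent G ∨
      (∃ K E : Subgroup G, K.Normal ∧ Subgroup.IsComplement' K E ∧ Cfsg.IsFrobeniusComplement E ∧
        (IsCyclic E ∨ ∃ C Q : Subgroup G, C ⊔ Q = E ∧ (∀ a ∈ C, ∀ b ∈ Q, a * b = b * a) ∧ IsCyclic C ∧ Odd (Nat.card C) ∧
          ∃ n : ℕ, Nonempty (↥Q ≃* QuaternionGroup (2 ^ n)))) ∨
      ∃ p : ℕ, p.Prime ∧ Cfsg.IsThreeStepGroup p G := by
  classical
  by_cases hnil : Group.IsNilpotent G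
  · exact Or.inl hnil
  right
  by_cases hS : ∃ (p : ℕ) (_ : Fact p.Prime) (P : Sylow p G),
      (P : Subgroup G) ≠ ⊥ ∧ (P : Subgroup G).Normal
  · left
    obtain ⟨p, hp, P, hP1, hPn⟩ := hS
    obtain ⟨hK1, hK2, ⟨E, hcompl, hfrob, hfpf⟩, -⟩ :=
      Cfsg.Agent.S1474.result hCN hnil p P hP1 hPn
    have hE : Cfsg.Agent.Lib.Helper8.SolvCN.Fpf (Cfsg.fittingHall G) E := hfpf
    have hEnil : Group.IsNilpotent ↥E := hE.isNilpotent hCN hK1 inferInstance
    exact ⟨Cfsg.fittingHall G, E, inferInstance, hcompl, hfrob, hE.structure hK1 hEnil⟩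
  · right
    push Not at hS
    haveI : Nontrivial G := by
      by_contra hnt
      rw [not_nontrivial_iff_subsingleton] at hnt
      exact hnil inferInstance
    obtain ⟨M, hM⟩ := Cfsg.Agent.Lib.Helper1.exists_isMinNormal (G := G)
    obtain ⟨p, hp, hMp⟩ := hM.exists_prime_isPGroup
    haveI hpf : Fact p.Prime := ⟨hp⟩
    have hcore : Cfsg.pCore p G ≠ ⊥ := by
      intro hbot
      have hle := Cfsg.Agent.Lib.Helper1.le_pCore hM.1 hMp
      rw [hbot] at hle
      exact hM.2.1 (le_bot_iff.mp hle)
    haveI hFn : (Cfsg.pCore p G).Normal := Cfsg.Agent.Lib.Helper1.pCore_normal p G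
    have hother : ∀ q : ℕ, q.Prime → q ≠ p → Cfsg.pCore q G = ⊥ := by
      intro q hq hqp
      by_contra hqc
      haveI : Fact q.Prime := ⟨hq⟩
      obtain ⟨S⟩ : Nonempty (Sylow p G) := inferInstance
      have hSn := Cfsg.Agent.Lib.Helper8.SolvCN.sylow_normal_of_two_cores hCN (Ne.symm hqp)
        hcore hqc S
      have hS1 : (S : Subgroup G) ≠ ⊥ := by
        intro hbot
        have hle := Cfsg.Agent.Lib.Helper1.pCore_le_sylow S
        rw [hbot] at hle
        exact hcore (le_bot_iff.mp hle)
      exact hS p hpf S hS1 hSn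
    have hfit : Cfsg.fittingSubgroup G = Cfsg.pCore p G := by
      rw [Cfsg.Agent.Lib.Helper1.fittingSubgroup_eq_iSup_pCore]
      apply le_antisymm
      · apply iSup_le
        intro q
        by_cases hqp : (q : ℕ) = p
        · rw [hqp]
        · rw [hother q q.2 hqp]; exact bot_le
      · exact le_iSup (fun q : Nat.Primes => Cfsg.pCore (q : ℕ) G) ⟨p, hp⟩
    have hcent : Subgroup.centralizer (Cfsg.pCore p G : Set G) ≤ Cfsg.pCore p G := by
      have := Cfsg.Agent.Lib.Helper8.HallSCN.centralizer_fitting_le (G := G)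
      rwa [hfit] at this
    have hidx : p ∣ (Cfsg.pCore p G).index := by
      by_contra hnd
      have hFp := Cfsg.Agent.Lib.Helper1.pCore_isPGroup p G
      obtain ⟨P, hP⟩ := hFp.exists_le_sylow
      have hrel : (Cfsg.pCore p G).relIndex P = 1 := by
        have h1 : (Cfsg.pCore p G).relIndex P ∣ (Cfsg.pCore p G).index :=
          Subgroup.relIndex_dvd_index_of_normal _ _
        have h2 : (Cfsg.pCore p G).relIndex P ∣ Nat.card P := Subgroup.relIndex_dvd_card _ _
        obtain ⟨k, hk⟩ := IsPGroup.iff_card.mp P.isPGroup'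
        rw [hk] at h2
        obtain ⟨j, -, hj⟩ := (Nat.dvd_prime_pow hp).mp h2
        rcases Nat.eq_zero_or_pos j with h0 | hpos
        · rw [hj, h0, pow_zero]
        · exfalso
          apply hnd
          refine dvd_trans ?_ h1
          rw [hj]
          exact dvd_pow_self p hpos.ne'
      have hPle : (P : Subgroup G) ≤ Cfsg.pCore p G := Subgroup.relIndex_eq_one.mp hrel
      have hPeq : (P : Subgroup G) = Cfsg.pCore p G := le_antisymm hPle hP
      exact hS p hpf P (by rw [hPeq]; exact hcore) (by rw [hPeq]; exact hFn)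
    exact ⟨p, hp, Cfsg.Agent.Lib.Helper8.SolvCN.OneCore.isThreeStepGroup ⟨hCN, hcore, hcent⟩ hidx⟩

end Cfsg.Agent.S1476
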