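import Cfsg.Statements.S0909
-- import your own Cfsg.Agent.* helpers here

import Mathlib
import Cfsg.Agent.Lib.Helper6.BlockCoeff
import Cfsg.Agent.Lib.Helper24.LocalRing

set_option autoImplicit false
open Cfsg

namespace Cfsg.Agent.S0909

open Cfsg.Agent.Lib.Helper6 Cfsg.Agent.Lib.Helper24 Cfsg.Agent.CharLib
open scoped ComplexConjugate

/-- Let A be a set of irreducible characters of the finite group G such that, for every g, the inverse of the group order times the sum over χ ∈ A of χ 1 * conj (χ g) is a local integer at the maximal ideal M (containing the prime p) of the algebraic integers. Then A is a union of blocks relative to M: it contains the whole block of each of its members. -/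
theorem result {G : Type*} [Group G] [Finite G] (p : ℕ) [Fact p.Prime] (M : Ideal Cfsg.AlgInt) (hM : Cfsg.IsPModular p M) (A : Set (Cfsg.IrrCharacter G)) (hA : ∀ g : G, Cfsg.MemLocalRing M (Cfsg.blockCoeff A g)) (χ : Cfsg.IrrCharacter G) (hχ : χ ∈ A) : Cfsg.blockOf M (χ : G → ℂ) ⊆ A := by
  classical
  let _ := Fintype.ofFinite G
  let _ : Fintype (ConjClasses G) := Fintype.ofFinite _
  have hprime : M.IsPrime := isPrime_of_isPModular hM
  intro ψ hψ
  by_contra hψA
  have hψ' : ∀ g : G, MemLocalIdeal M (centralChar (χ : G → ℂ) g - centralChar (ψ : G → ℂ) g) := hψ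
  have hdiff : MemLocalIdeal M (∑ C : ConjClasses G, blockCoeff A (Quotient.out C) *
      (centralChar (χ : G → ℂ) (Quotient.out C) - centralChar (ψ : G → ℂ) (Quotient.out C))) :=
    sum_memLocalIdeal _ _ (fun C _ => memLocalIdeal_mul_left (hA _) (hψ' _))
  have hval : ∑ C : ConjClasses G, blockCoeff A (Quotient.out C) *
      (centralChar (χ : G → ℂ) (Quotient.out C) - centralChar (ψ : G → ℂ) (Quotient.out C)) = 1 := by
    simp_rw [mul_sub]
    rw [Finset.sum_sub_distrib, sum_blockCoeff_mul_centralChar A χ,
      sum_blockCoeff_mul_centralChar A ψ, if_pos hχ, if_neg hψA, sub_zero]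
  rw [hval] at hdiff
  exact not_memLocalIdeal_one hdiff

end Cfsg.Agent.S0909
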