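import Cfsg.Statements.S4653
import Mathlib
import Cfsg.Agent.Lib.Helper6.ClassSumOmega
import Cfsg.Agent.Lib.Helper6.FirstMain
import Cfsg.Agent.Lib.Helper6.Clifford
import Cfsg.Agent.Lib.Helper6.CliffordCorr
import Cfsg.Agent.Lib.Helper6.CharExtra
import Cfsg.Agent.Lib.Helper6.IndFun
import Cfsg.Agent.Lib.Lead.CharInd
import Cfsg.Agent.Lib.Lead.CharMain
import Cfsg.Agent.Lib.Lead.CharEquiv
import Cfsg.Agent.Lib.Helper24.IrrFacts
import Cfsg.Agent.Lib.Helper24.LocalRing

set_option autoImplicit false
open Cfsg

namespace Cfsg.Agent.S4653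

open Cfsg.Agent.CharLib Cfsg.Agent.Lib.Helper24 Cfsg.Agent.Lib.Helper6
open scoped ComplexConjugate

universe u

section
variable {G : Type u} [Group G] [Fintype G]

/-- Two irreducible characters lying over a common irreducible character of a normal subgroup
outside of which all central characters vanish modulo `M` are in the same block. -/
theorem sameBlock_of_common (M : Ideal AlgInt) [hprime : M.IsPrime]
    (C : Subgroup G) [hn : C.Normal] [Fintype C]
    (hout : ∀ g : G, g ∉ C → ∀ χ : IrrCharacter G, MemLocalIdeal M (centralChar (χ : G → ℂ) g))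
    (χ χ' : IrrCharacter G) (θ : IrrCharacter C)
    (h1 : classInner (resFun C (χ : G → ℂ)) (θ : C → ℂ) ≠ 0)
    (h2 : classInner (resFun C (χ' : G → ℂ)) (θ : C → ℂ) ≠ 0) :
    SameBlock M (χ : G → ℂ) (χ' : G → ℂ) := by
  classical
  intro g
  by_cases hg : g ∈ C
  · -- both central characters are equal
    have e1 := clifford C χ.2 θ.2 h1
    have e2 := clifford C χ'.2 θ.2 h2
    set S : C → ℂ := ∑ ψ ∈ conjOrbit C (θ : C → ℂ), ψ with hS
    have v1 : ∀ c : C, (χ : G → ℂ) c = classInner (resFun C (χ : G → ℂ)) (θ : C → ℂ) * S c := by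
      intro c
      have := congrFun e1 c
      rw [resFun_apply, Pi.smul_apply, smul_eq_mul] at this
      exact this
    have v2 : ∀ c : C, (χ' : G → ℂ) c = classInner (resFun C (χ' : G → ℂ)) (θ : C → ℂ) * S c := by
      intro c
      have := congrFun e2 c
      rw [resFun_apply, Pi.smul_apply, smul_eq_mul] at this
      exact this
    have w1 := v1 1
    have w2 := v2 1
    have w3 := v1 ⟨g, hg⟩
    have w4 := v2 ⟨g, hg⟩
    have h11 : ((1 : C) : G) = 1 := rfl
    rw [h11] at w1 w2
    change (χ : G → ℂ) g = _ at w3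
    change (χ' : G → ℂ) g = _ at w4
    have : centralChar (χ : G → ℂ) g = centralChar (χ' : G → ℂ) g := by
      have q1 : (χ : G → ℂ) g / (χ : G → ℂ) 1 = S ⟨g, hg⟩ / S 1 := by
        rw [w3, w1, mul_div_mul_left _ _ h1]
      have q2 : (χ' : G → ℂ) g / (χ' : G → ℂ) 1 = S ⟨g, hg⟩ / S 1 := by
        rw [w4, w2, mul_div_mul_left _ _ h2]
      unfold centralChar
      rw [mul_div_assoc, mul_div_assoc, q1, q2]
    rw [this, sub_self]
    exact memLocalIdeal_zero hprime.one_notMem
  · exact memLocalIdeal_sub (hout g hg χ) (hout g hg χ')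

/-- The block idempotents are supported on a normal subgroup outside of which all central
characters vanish modulo `M`. -/
theorem blockCoeff_eq_zero_off (M : Ideal AlgInt) [hprime : M.IsPrime]
    (C : Subgroup G) [hn : C.Normal] [Fintype C]
    (hout : ∀ g : G, g ∉ C → ∀ χ : IrrCharacter G, MemLocalIdeal M (centralChar (χ : G → ℂ) g))
    (B : Set (IrrCharacter G)) (hB : IsPBlock M B) (g : G) (hg : g ∉ C) :
    blockCoeff B g = 0 := by
  classical
  let _ : Fintype (IrrCharacter G) := fintypeIrr G
  let _ : Fintype (IrrCharacter C) := fintypeIrr C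
  unfold blockCoeff
  rw [mul_eq_zero]
  right
  rw [finsum_mem_eq_sum_ite]
  have hc : ∀ (χ : IrrCharacter G) (θ : IrrCharacter C), ∃ n : ℕ,
      classInner (resFun C (χ : G → ℂ)) (θ : C → ℂ) = n := fun χ θ =>
    IsCharacter.classInner_nat (isCharacter_resFun C (IsIrrCharacter.isCharacter χ.2))
      (IsIrrCharacter.isCharacter θ.2)
  choose c hc using hc
  have hdeg : ∀ χ : IrrCharacter G, (χ : G → ℂ) 1 =
      ∑ θ : IrrCharacter C, (c χ θ : ℂ) * (θ : C → ℂ) 1 := by
    intro χ
    have hcls : IsClassFunction C (resFun C (χ : G → ℂ)) :=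
      IsCharacter.isClassFunction (isCharacter_resFun C (IsIrrCharacter.isCharacter χ.2))
    have h1 := congrFun (classFunction_eq_sum hcls) 1
    rw [resFun_apply] at h1
    simp only [Finset.sum_apply, Pi.smul_apply, smul_eq_mul, hc] at h1
    exact h1
  have hind : ∀ θ : IrrCharacter C,
      ∑ χ : IrrCharacter G, (c χ θ : ℂ) * conj ((χ : G → ℂ) g) = 0 := by
    intro θ
    have h0 : indFun C (θ : C → ℂ) g = 0 := by
      rw [indFun_apply]
      rw [Finset.sum_eq_zero, mul_zero]
      intro x _
      apply extendByZero_not_mem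
      intro hmem
      apply hg
      have := hn.conj_mem _ hmem x
      simpa [mul_assoc] using this
    have hexp := congrFun (classFunction_eq_sum (indFun_isClassFunction C (θ : C → ℂ))) g
    have hfr : ∀ χ : IrrCharacter G, classInner (indFun C (θ : C → ℂ)) (χ : G → ℂ) = c χ θ := by
      intro χ
      rw [frobenius_reciprocity C (θ : C → ℂ)
        (IsCharacter.isClassFunction (IsIrrCharacter.isCharacter χ.2)), ← classInner_conj_symm]
      change conj (classInner (resFun C (χ : G → ℂ)) (θ : C → ℂ)) = _
      rw [hc, Complex.conj_natCast]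
    rw [h0] at hexp
    simp only [Finset.sum_apply, Pi.smul_apply, smul_eq_mul, hfr] at hexp
    have h2 := congrArg conj hexp.symm
    rw [map_sum, map_zero] at h2
    rw [← h2]
    apply Finset.sum_congr rfl
    intro χ _
    rw [map_mul, Complex.conj_natCast]
  obtain ⟨χ₁, rfl⟩ := hB
  calc ∑ χ : IrrCharacter G, (if χ ∈ blockOf M (χ₁ : G → ℂ) then
          (χ : G → ℂ) 1 * conj ((χ : G → ℂ) g) else 0)
      = ∑ χ : IrrCharacter G, ∑ θ : IrrCharacter C, (if χ ∈ blockOf M (χ₁ : G → ℂ) then
          (c χ θ : ℂ) * (θ : C → ℂ) 1 * conj ((χ : G → ℂ) g) else 0) := by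
        apply Finset.sum_congr rfl
        intro χ _
        split_ifs
        · rw [hdeg χ, Finset.sum_mul]
        · rw [Finset.sum_const_zero]
    _ = ∑ θ : IrrCharacter C, ∑ χ : IrrCharacter G, (if χ ∈ blockOf M (χ₁ : G → ℂ) then
          (c χ θ : ℂ) * (θ : C → ℂ) 1 * conj ((χ : G → ℂ) g) else 0) := Finset.sum_comm
    _ = 0 := by
        apply Finset.sum_eq_zero
        intro θ _
        by_cases hex : ∃ χ₀ : IrrCharacter G, χ₀ ∈ blockOf M (χ₁ : G → ℂ) ∧ c χ₀ θ ≠ 0
        · obtain ⟨χ₀, hχ₀, hne⟩ := hex
          have hall : ∀ χ : IrrCharacter G, c χ θ ≠ 0 → χ ∈ blockOf M (χ₁ : G → ℂ) := by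
            intro χ hχ
            have hs := sameBlock_of_common M C hout χ₀ χ θ
              (by rw [hc]; exact_mod_cast hne) (by rw [hc]; exact_mod_cast hχ)
            exact sameBlock_trans hχ₀ hs
          have : ∀ χ : IrrCharacter G, (if χ ∈ blockOf M (χ₁ : G → ℂ) then
              (c χ θ : ℂ) * (θ : C → ℂ) 1 * conj ((χ : G → ℂ) g) else 0) =
              (θ : C → ℂ) 1 * ((c χ θ : ℂ) * conj ((χ : G → ℂ) g)) := by
            intro χ
            split_ifs with hmem
            · ring
            · have : c χ θ = 0 := by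
                by_contra h
                exact hmem (hall χ h)
              rw [this]
              simp
          rw [Finset.sum_congr rfl (fun χ _ => this χ), ← Finset.mul_sum, hind θ, mul_zero]
        · push Not at hex
          apply Finset.sum_eq_zero
          intro χ _
          split_ifs with hmem
          · rw [hex χ hmem]
            simp
          · rfl

end


theorem result' {G : Type*} [Group G] [Fintype G] (p : ℕ) [Fact p.Prime] (M : Ideal Cfsg.AlgInt) (hM : Cfsg.IsPModular p M) (P : Subgroup G) [P.Normal] (hP : IsPGroup p P) (B : Set (Cfsg.IrrCharacter G)) (hB : Cfsg.IsPBlock M B) (g : G) (hg : g ∉ Subgroup.centralizer (P : Set G)) : Cfsg.blockCoeff B g = 0 := by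
  classical
  haveI hprime : M.IsPrime := isPrime_of_isPModular hM
  let _ : Fintype (Subgroup.centralizer (P : Set G)) := Fintype.ofFinite _
  apply blockCoeff_eq_zero_off M (Subgroup.centralizer (P : Set G)) _ B hB g hg
  intro x hx χ
  apply memLocalIdeal_centralChar_of_not_centralizes hM P hP x _ χ
  intro y hy hyC
  apply hx
  obtain ⟨c, hc⟩ := isConj_iff.mp hy
  have hn : (Subgroup.centralizer (P : Set G)).Normal := inferInstance
  have := hn.conj_mem y hyC c⁻¹
  rw [← hc] at this
  simpa [mul_assoc] using this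

/-- Fix a prime p and a maximal ideal M of the algebraic integers containing p. Let P be a normal p-subgroup of the finite group G and B a p-block of G. Then the idempotent of B is supported on C_G(P): its coefficient at every element of G outside C_G(P) is zero. -/
theorem result {G : Type*} [Group G] [Fintype G] (p : ℕ) [Fact p.Prime] (M : Ideal Cfsg.AlgInt) (hM : Cfsg.IsPModular p M) (P : Subgroup G) [P.Normal] (hP : IsPGroup p P) (B : Set (Cfsg.IrrCharacter G)) (hB : Cfsg.IsPBlock M B) (g : G) (hg : g ∉ Subgroup.centralizer (P : Set G)) : Cfsg.blockCoeff B g = 0 := by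
  exact result' p M hM P hP B hB g hg

end Cfsg.Agent.S4653
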