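import Cfsg.Statements.S4691
import Mathlib
import Cfsg.Agent.Lib.Helper24.ConjBlock
import Cfsg.Agent.Lib.Helper6.MinMax
import Cfsg.Agent.Lib.Helper6.BrauerMap
import Cfsg.Agent.Lib.Helper6.Osima
import Cfsg.Agent.Lib.Lead.BlockBasic
import Cfsg.Agent.Lib.Helper29.MinNonPNilpotent

set_option autoImplicit false
open Cfsg

namespace Cfsg.Agent.S4691

open Cfsg.Agent.CharLib Cfsg.Agent.Lib.Helper24 Cfsg.Agent.Lib.Helper6

universe u

section
variable {G : Type u} [Group G] [Fintype G]

theorem brauerOmega_eq_omegaFun (Q : Subgroup G) (β : G → ℂ)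
    [Fintype (Subgroup.centralizer (Q : Set G))]
    (ξ : Subgroup.centralizer (Q : Set G) → ℂ) :
    brauerOmega Q β ξ = omegaFun ξ (resFun (Subgroup.centralizer (Q : Set G)) β) := by
  unfold brauerOmega omegaFun
  rw [finsum_eq_sum_of_fintype, Finset.sum_div]
  rfl

/-- the pair `(Q, B₀(C_G(Q)))` belongs to the principal block -/
theorem isBrauerPairOf_principal (p : ℕ) [hp : Fact p.Prime] (M : Ideal AlgInt)
    (hM : IsPModular p M) (Q : Subgroup G) (hQ : IsPGroup p Q) :
    IsBrauerPairOf p M (principalBlock M G) Q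
      (principalBlock M (Subgroup.centralizer (Q : Set G))) := by
  classical
  haveI hprime : M.IsPrime := isPrime_of_isPModular hM
  set C := Subgroup.centralizer (Q : Set G) with hC
  let _ : Fintype C := Fintype.ofFinite C
  refine ⟨⟨hQ, ⟨trivIrr C, rfl⟩⟩, ⟨trivIrr G, rfl⟩, ?_⟩
  intro ξ hξ
  rw [brauerOmega_eq_omegaFun]
  set β : G → ℂ := blockCoeff (principalBlock M G) with hβ
  have hβcls : IsClassFunction G β := blockCoeff_isClassFunction _
  have hβR : ∀ x, MemLocalRing M (β x) := fun x =>
    memLocalRing_blockCoeff_blockOf (M := M) (trivIrr G) x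
  have hrescls : IsClassFunction C (resFun C β) := resFun_isClassFunction C hβcls
  have h1 := memLocalIdeal_omegaFun_sub (M := M) (trivIrr C) ξ hξ hrescls (fun x => hβR x)
  -- the trivial character
  have h2 : omegaFun ((trivIrr C : IrrCharacter C) : C → ℂ) (resFun C β) = ∑ x : C, β x := by
    unfold omegaFun
    change (∑ g : C, resFun C β g * (1 : ℂ)) / (1 : ℂ) = _
    rw [div_one]
    apply Finset.sum_congr rfl
    intro x _
    rw [mul_one, resFun_apply]
  have h3 : ∑ x : G, β x = 1 := by
    have := omegaFun_blockCoeff (principalBlock M G) (trivIrr G)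
    rw [if_pos (show trivIrr G ∈ principalBlock M G from mem_blockOf_self (trivIrr G))] at this
    rw [← this]
    unfold omegaFun
    change _ = (∑ g : G, β g * (1 : ℂ)) / (1 : ℂ)
    rw [div_one]
    apply Finset.sum_congr rfl
    intro x _
    rw [mul_one]
  -- split the sum
  have h4 : ∑ x : G, β x = ∑ x : C, β x +
      ∑ x ∈ Finset.univ.filter (fun x : G => x ∉ C), β x := sum_eq_sum_subgroup_add C β
  set K : Finset G := Finset.univ.filter (fun x : G => x ∉ C) with hK
  have hKc : ∀ x ∈ K, ∀ q ∈ Q, q * x * q⁻¹ ∈ K := by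
    intro x hx q hq
    rw [hK, Finset.mem_filter] at hx ⊢
    refine ⟨Finset.mem_univ _, ?_⟩
    intro hc
    apply hx.2
    exact (conj_mem_centralizer_iff (Subgroup.le_normalizer hq) x).mp hc
  have hfix : ∀ x ∈ K, ∃ q ∈ Q, q * x * q⁻¹ ≠ x := by
    intro x hx
    by_contra hcon
    push Not at hcon
    apply (Finset.mem_filter.mp hx).2
    rw [hC, Subgroup.mem_centralizer_iff]
    intro q hq
    have := hcon q hq
    calc q * x = q * x * q⁻¹ * q := by group
      _ = x * q := by rw [this]
  obtain ⟨t, ht, hsum⟩ := sum_eq_nsmul_of_pgroup_fixed_point_free p Q hQ K hKc hfix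
    (localSubring M).toAddSubgroup β (fun x _ => hβR x) (fun x _ q _ => hβcls x q)
  have hpM : MemLocalIdeal M (p : ℂ) := by
    have := memLocalIdeal_of_mem hM.2.2 hprime.one_notMem
    simpa using this
  have h5 : MemLocalIdeal M ((p : ℂ) * t) := memLocalIdeal_mul_right hpM ht
  have h6 : omegaFun (ξ : C → ℂ) (resFun C β) - 1 =
      -(omegaFun ((trivIrr C : IrrCharacter C) : C → ℂ) (resFun C β) -
        omegaFun (ξ : C → ℂ) (resFun C β)) - (p : ℂ) * t := by
    rw [h2]
    have : ∑ x : C, β x = 1 - (p : ℂ) * t := by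
      rw [← h3, h4, hsum, nsmul_eq_mul]
      ring
    rw [this]
    ring
  rw [h6]
  exact memLocalIdeal_sub (memLocalIdeal_neg h1) h5

end


theorem result' {G : Type*} [Group G] [Fintype G] (p : ℕ) [Fact p.Prime] (M : Ideal Cfsg.AlgInt) (hM : Cfsg.IsPModular p M) : Cfsg.HasNormalPComplement p G ↔ Cfsg.IsNilpotentBlock p M (Cfsg.principalBlock M G) := by
  classical
  have hiff : HasNormalPComplement p G ↔ Cfsg.Agent.Lib.Helper29.FrobCond p G :=
    (Cfsg.Agent.Lib.Helper29.frobCond_iff (p := p) (G := G)).symm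
  rw [hiff]
  constructor
  · intro hF
    refine ⟨⟨trivIrr G, rfl⟩, ?_⟩
    intro Q e hQe x hx _ hreg
    apply hF Q hQe.1.1 x hx
    exact ((Nat.Prime.coprime_iff_not_dvd (Fact.out : p.Prime)).mpr hreg).symm
  · intro hnil Q hQ g hg hcop
    apply hnil.2 Q (principalBlock M (Subgroup.centralizer (Q : Set G)))
      (isBrauerPairOf_principal p M hM Q hQ) g hg
    · apply stabilizesBlock_principalBlock
      -- g normalizes the centralizer
      rw [Subgroup.mem_normalizer_iff]
      intro h
      exact (conj_mem_centralizer_iff hg h).symm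
    · intro hdvd
      have := Nat.Coprime.eq_one_of_dvd hcop.symm hdvd
      exact (Fact.out : p.Prime).ne_one this

/-- Fix a prime p and a maximal ideal M of the algebraic integers containing p. A finite group G has a normal p-complement if and only if its principal p-block is nilpotent. -/
theorem result {G : Type*} [Group G] [Fintype G] (p : ℕ) [Fact p.Prime] (M : Ideal Cfsg.AlgInt) (hM : Cfsg.IsPModular p M) : Cfsg.HasNormalPComplement p G ↔ Cfsg.IsNilpotentBlock p M (Cfsg.principalBlock M G) := by
  exact result' p M hM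

end Cfsg.Agent.S4691
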