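import Cfsg.Statements.S4681
import Mathlib
import Cfsg.Agent.S4691
import Cfsg.Agent.Lib.Helper24.PrincipalPairs

set_option autoImplicit false
open Cfsg

namespace Cfsg.Agent.S4681

open Cfsg.Agent.CharLib Cfsg.Agent.Lib.Helper24 Cfsg.Agent.Lib.Helper6

universe u

section
variable {G : Type u} [Group G]

theorem le_of_reflTransGen (p : ℕ) (M : Ideal AlgInt) (a b : BrauerPairIdx G)
    (h : Relation.ReflTransGen (NormalSubpairRel p M) a b) : a.1 ≤ b.1 := by
  induction h with
  | refl => exact le_rfl
  | tail _ hstep ih => exact ih.trans hstep.2.2.1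

theorem le_of_subpairLE (p : ℕ) (M : Ideal AlgInt) (Q : Subgroup G)
    (f : Set (IrrCharacter (Subgroup.centralizer (Q : Set G)))) (P : Subgroup G)
    (e : Set (IrrCharacter (Subgroup.centralizer (P : Set G)))) (h : SubpairLE p M Q f P e) :
    Q ≤ P :=
  le_of_reflTransGen p M ⟨Q, f⟩ ⟨P, e⟩ h

end

theorem result' {G : Type u} [Group G] [Fintype G] (p : ℕ) [Fact p.Prime] (M : Ideal Cfsg.AlgInt) (hM : Cfsg.IsPModular p M) (S : Sylow p G) : Cfsg.IsMaximalBrauerPair p M (Cfsg.principalBlock M G) (S : Subgroup G) (Cfsg.principalBlock M (Subgroup.centralizer ((S : Subgroup G) : Set G))) ∧ ∀ F : Cfsg.FusionSystem (S : Subgroup G), Cfsg.IsBlockFusionSystemOn p M (Cfsg.principalBlock M G) (S : Subgroup G) (Cfsg.principalBlock M (Subgroup.centralizer ((S : Subgroup G) : Set G))) F → ∀ Q : Subgroup G, F.Hom Q = (Cfsg.groupFusionSystem (S : Subgroup G)).Hom Q := by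
  classical
  have hS : IsPGroup p (S : Subgroup G) := S.isPGroup'
  refine ⟨⟨Cfsg.Agent.S4691.isBrauerPairOf_principal (G := G) p M hM (S : Subgroup G) hS, ?_⟩, ?_⟩
  · intro R g hRg hle
    have h1 := le_of_subpairLE p M _ _ _ _ hle
    exact S.is_maximal' hRg.1.1 h1
  · intro F hF Q
    ext φ
    rw [hF.2 Q φ]
    constructor
    · rintro ⟨hQS, g, hg, hmap, _⟩
      refine ⟨hQS, ?_, g, hg⟩
      intro x
      apply hmap
      rw [hg x]
      exact ⟨(x : G), x.2, rfl⟩
    · rintro ⟨hQS, hφS, g, hg⟩
      have hmap : Q.map (MulAut.conj g).toMonoidHom ≤ (S : Subgroup G) := by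
        rintro _ ⟨q, hq, rfl⟩
        have := hφS ⟨q, hq⟩
        rw [hg] at this
        exact this
      refine ⟨hQS, g, hg, hmap, principalBlock M (Subgroup.centralizer (Q : Set G)),
        subpairLE_principal (G := G) hM (S : Subgroup G) hS Q hQS, ?_⟩
      rw [conjBlock_principalBlock]
      exact subpairLE_principal (G := G) hM (S : Subgroup G) hS _ hmap

/-- Fix a prime p and a maximal ideal M of the algebraic integers containing p. Let B₀ be the principal p-block of the finite group G, P a Sylow p-subgroup and e₀ the principal p-block of C_G(P). Then (P, e₀) is a maximal Brauer pair of B₀, and the fusion system of B₀ on (P, e₀) is the fusion system of G on P: its maps from each subgroup of P are exactly the conjugation maps into P by elements of G. -/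
theorem result {G : Type*} [Group G] [Fintype G] (p : ℕ) [Fact p.Prime] (M : Ideal Cfsg.AlgInt) (hM : Cfsg.IsPModular p M) (S : Sylow p G) : Cfsg.IsMaximalBrauerPair p M (Cfsg.principalBlock M G) (S : Subgroup G) (Cfsg.principalBlock M (Subgroup.centralizer ((S : Subgroup G) : Set G))) ∧ ∀ F : Cfsg.FusionSystem (S : Subgroup G), Cfsg.IsBlockFusionSystemOn p M (Cfsg.principalBlock M G) (S : Subgroup G) (Cfsg.principalBlock M (Subgroup.centralizer ((S : Subgroup G) : Set G))) F → ∀ Q : Subgroup G, F.Hom Q = (Cfsg.groupFusionSystem (S : Subgroup G)).Hom Q := by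
  exact result' p M hM S

end Cfsg.Agent.S4681
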