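import Cfsg.Statements.S4656
import Mathlib
import Cfsg.Agent.Lib.Helper24.BlockAction
import Cfsg.Agent.Lib.Helper24.BrauerPairs3
import Cfsg.Agent.Lib.Helper6.InducedDefect
import Cfsg.Agent.Lib.Helper6.OneBlock
import Cfsg.Agent.Lib.Lead.ConvAlg
import Cfsg.Agent.Lib.Lead.CharDecomp

set_option autoImplicit false
open Cfsg

namespace Cfsg.Agent.S4656

open Cfsg.Agent.CharLib Cfsg.Agent.Lib.Helper24 Cfsg.Agent.Lib.Helper6

universe u

section
variable {G : Type u} [Group G] [Fintype G]

/-- the sum of all block idempotents of a subgroup, read on the group, is the delta function -/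
theorem sum_subgroupBlockCoeff_blocks (M : Ideal AlgInt) [hprime : M.IsPrime] (K : Subgroup G)
    [Fintype K] [Fintype (Quotient (blockSetoid M K))] (x : G) (hx : x ∈ K) :
    ∑ q : Quotient (blockSetoid M K),
      subgroupBlockCoeff K (blockOf M ((Quotient.out q : IrrCharacter K) : K → ℂ)) x =
      classInd (1 : G) x := by
  classical
  have h1 : ∀ q : Quotient (blockSetoid M K),
      subgroupBlockCoeff K (blockOf M ((Quotient.out q : IrrCharacter K) : K → ℂ)) x =
      blockCoeff (blockOf M ((Quotient.out q : IrrCharacter K) : K → ℂ)) ⟨x, hx⟩ :=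
    fun q => subgroupBlockCoeff_coe K _ ⟨x, hx⟩
  rw [Finset.sum_congr rfl (fun q _ => h1 q)]
  have h2 := congrFun (sum_blockCoeff_blocks (M := M) (G := K)) ⟨x, hx⟩
  rw [Finset.sum_apply] at h2
  rw [h2]
  unfold classInd
  have : IsConj (1 : K) ⟨x, hx⟩ ↔ IsConj (1 : G) x := by
    rw [isConj_one_right, isConj_one_right]
    constructor
    · intro h
      exact congrArg Subtype.val h
    · intro h
      exact Subtype.ext h
  by_cases hc : IsConj (1 : G) x
  · rw [if_pos hc, if_pos (this.mpr hc)]
  · rw [if_neg hc, if_neg (fun h => hc (this.mp h))]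

end

theorem result' {G : Type u} [Group G] [Fintype G] (p : ℕ) [Fact p.Prime] (M : Ideal Cfsg.AlgInt) (hM : Cfsg.IsPModular p M) (P Q : Subgroup G) (e : Set (Cfsg.IrrCharacter (Subgroup.centralizer (P : Set G)))) (hPe : Cfsg.IsBrauerPair p M P e) (hQP : Q ≤ P) (hPN : P ≤ Subgroup.normalizer (Q : Set G)) : ∃! f : Set (Cfsg.IrrCharacter (Subgroup.centralizer (Q : Set G))), Cfsg.IsNormalSubpair p M Q f P e := by
  classical
  haveI hprime : M.IsPrime := isPrime_of_isPModular hM
  have hp : p.Prime := Fact.out
  obtain ⟨hP, ξ₀, rfl⟩ := hPe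
  have hQ : IsPGroup p Q := hP.to_le hQP
  let _ : Fintype (Subgroup.centralizer (P : Set G)) := Fintype.ofFinite _
  let _ : Fintype (Subgroup.centralizer (Q : Set G)) := Fintype.ofFinite _
  let _ : Fintype (IrrCharacter (Subgroup.centralizer (Q : Set G))) := fintypeIrr _
  let _ : Fintype (Quotient (blockSetoid M (Subgroup.centralizer (Q : Set G)))) :=
    Fintype.ofFinite _
  have hCK : Subgroup.centralizer (P : Set G) ≤ Subgroup.centralizer (Q : Set G) :=
    Subgroup.centralizer_le hQP
  have hPK : P ≤ Subgroup.normalizer ((Subgroup.centralizer (Q : Set G) : Subgroup G) : Set G) :=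
    fun x hx => mem_normalizer_centralizer_of_mem_normalizer (hPN hx)
  letI act : MulAction P (Quotient (blockSetoid M (Subgroup.centralizer (Q : Set G)))) :=
    blockMulAction (Subgroup.centralizer (Q : Set G)) P hPK M
  have hsmul : ∀ (g : P) (q : Quotient (blockSetoid M (Subgroup.centralizer (Q : Set G)))),
      g • q = blockSmul (Subgroup.centralizer (Q : Set G)) P hPK M g q := fun _ _ => rfl
  -- the idempotents and the Brauer functional
  set ε : Quotient (blockSetoid M (Subgroup.centralizer (Q : Set G))) → G → ℂ := fun q =>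
    subgroupBlockCoeff (Subgroup.centralizer (Q : Set G))
      (blockOf M ((Quotient.out q : IrrCharacter (Subgroup.centralizer (Q : Set G))) :
        Subgroup.centralizer (Q : Set G) → ℂ)) with hε
  set Λ : Quotient (blockSetoid M (Subgroup.centralizer (Q : Set G))) → ℂ := fun q =>
    omegaFun (ξ₀ : Subgroup.centralizer (P : Set G) → ℂ)
      (resFun (Subgroup.centralizer (P : Set G)) (ε q)) with hΛ
  have hεC : ∀ q, ConjInv (Subgroup.centralizer (P : Set G)) (ε q) := fun q u hu x =>
    subgroupBlockCoeff_conj_of_mem _ _ u (hCK hu) x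
  have hεR : ∀ q x, MemLocalRing M (ε q x) := fun q x =>
    memLocalRing_subgroupBlockCoeff M _ (Quotient.out q) x
  have hfixstab : ∀ q, q ∈ MulAction.fixedPoints P
      (Quotient (blockSetoid M (Subgroup.centralizer (Q : Set G)))) →
      ∀ x ∈ P, StabilizesBlock (Subgroup.centralizer (Q : Set G))
        (blockOf M ((Quotient.out q : IrrCharacter (Subgroup.centralizer (Q : Set G))) :
          Subgroup.centralizer (Q : Set G) → ℂ)) x := by
    intro q hq x hx
    have := hq ⟨x, hx⟩
    rw [hsmul] at this
    exact (blockSmul_eq_iff _ P hPK M ⟨x, hx⟩ q).mp this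
  have hεP : ∀ q, q ∈ MulAction.fixedPoints P
      (Quotient (blockSetoid M (Subgroup.centralizer (Q : Set G)))) → ConjInv P (ε q) := by
    intro q hq u hu x
    exact subgroupBlockCoeff_conj_of_stabilizes _ _ u (hfixstab q hq u hu) x
  have hΛR : ∀ q, MemLocalRing M (Λ q) := fun q =>
    memLocalRing_omegaFun ξ₀ (resFun_isClassFunction_of_conjInv _ (hεC q)) (fun x => hεR q x)
  have hΛinv : ∀ (g : P) (q : Quotient (blockSetoid M (Subgroup.centralizer (Q : Set G)))),
      Λ (g • q) = Λ q := by
    intro g q
    have : resFun (Subgroup.centralizer (P : Set G)) (ε (g • q)) =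
        resFun (Subgroup.centralizer (P : Set G)) (ε q) := by
      funext x
      rw [resFun_apply, resFun_apply, hsmul]
      have h1 := subgroupBlockCoeff_blockSmul (Subgroup.centralizer (Q : Set G)) P hPK M g q (x : G)
      have h2 : (g : G)⁻¹ * (x : G) * (g : G) = x := by
        have := Subgroup.mem_centralizer_iff.mp x.2 (g : G) g.2
        rw [mul_assoc, ← this, inv_mul_cancel_left]
      rw [h2] at h1
      exact h1
    change omegaFun _ (resFun _ (ε (g • q))) = omegaFun _ (resFun _ (ε q))
    rw [this]
  -- the sum of all values is 1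
  have hsum : ∑ q, Λ q = 1 := by
    have h1 : ∑ q, Λ q = omegaFun (ξ₀ : Subgroup.centralizer (P : Set G) → ℂ)
        (∑ q, resFun (Subgroup.centralizer (P : Set G)) (ε q)) := by
      rw [omegaFun_sum]
    rw [h1]
    have h2 : ∑ q, resFun (Subgroup.centralizer (P : Set G)) (ε q) =
        resFun (Subgroup.centralizer (P : Set G)) (classInd (1 : G)) := by
      funext x
      rw [Finset.sum_apply, resFun_apply]
      have := sum_subgroupBlockCoeff_blocks M (Subgroup.centralizer (Q : Set G)) (x : G) (hCK x.2)
      rw [← this]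
      apply Finset.sum_congr rfl
      intro q _
      rw [resFun_apply]
    rw [h2, omegaFun_resFun_classInd_one]
  -- orbit counting
  obtain ⟨t, ht, hsumfix⟩ := sum_eq_sum_fixedPoints_add_nsmul p hP
    (localSubring M).toAddSubgroup Λ hΛR hΛinv
  rw [hsum] at hsumfix
  have hpM : MemLocalIdeal M (p : ℂ) := by
    have := memLocalIdeal_of_mem hM.2.2 hprime.one_notMem
    simpa using this
  have hpt : MemLocalIdeal M (p • t) := by
    rw [nsmul_eq_mul]
    exact memLocalIdeal_mul_right hpM ht
  -- products
  have hzero : omegaFun (ξ₀ : Subgroup.centralizer (P : Set G) → ℂ)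
      (resFun (Subgroup.centralizer (P : Set G)) (0 : G → ℂ)) = 0 := by
    unfold omegaFun
    simp [resFun_apply]
  have hprod : ∀ q q', q ∈ MulAction.fixedPoints P
      (Quotient (blockSetoid M (Subgroup.centralizer (Q : Set G)))) →
      q' ∈ MulAction.fixedPoints P
      (Quotient (blockSetoid M (Subgroup.centralizer (Q : Set G)))) →
      MemLocalIdeal M ((if q = q' then Λ q else 0) - Λ q * Λ q') := by
    intro q q' hq hq'
    have h1 := memLocalIdeal_brauer_conv_of_conjInv hM P hP (hεP q hq) (hεC q) (hεR q)
      (hεP q' hq') (hεC q') (hεR q') ξ₀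
    have h2 : conv (ε q) (ε q') = if q = q' then ε q else 0 := by
      simp only [hε]
      rw [subgroupBlockCoeff_eq_extendByZero, subgroupBlockCoeff_eq_extendByZero,
        conv_extendByZero]
      by_cases hqq : q = q'
      · rw [if_pos hqq, ← hqq, conv_blockCoeff_self]
      · rw [if_neg hqq, conv_blockCoeff_of_disjoint]
        · funext x
          by_cases hx : x ∈ Subgroup.centralizer (Q : Set G)
          · rw [extendByZero_mem _ _ hx]
            rfl
          · rw [extendByZero_not_mem _ _ hx]
            rfl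
        · rw [Set.disjoint_left]
          intro χ h1 h2
          rw [mem_blockOf_out_iff] at h1 h2
          exact hqq (h1.symm.trans h2)
    rw [h2] at h1
    by_cases hqq : q = q'
    · rw [if_pos hqq] at h1 ⊢
      exact h1
    · rw [if_neg hqq] at h1 ⊢
      rw [hzero] at h1
      exact h1
  -- existence of a fixed block with value ≡ 1
  have hdich : ∀ q, q ∈ MulAction.fixedPoints P
      (Quotient (blockSetoid M (Subgroup.centralizer (Q : Set G)))) →
      MemLocalIdeal M (Λ q) ∨ MemLocalIdeal M (Λ q - 1) := by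
    intro q hq
    have h1 := hprod q q hq hq
    rw [if_pos rfl] at h1
    have e1 : Λ q - Λ q * Λ q = -(Λ q * (Λ q - 1)) := by ring
    rw [e1] at h1
    have h2 := memLocalIdeal_neg h1
    rw [neg_neg] at h2
    exact memLocalIdeal_or_of_mul (hΛR q) (memLocalRing_sub (hΛR q) memLocalRing_one) h2
  have hex : ∃ q, q ∈ MulAction.fixedPoints P
      (Quotient (blockSetoid M (Subgroup.centralizer (Q : Set G)))) ∧
      MemLocalIdeal M (Λ q - 1) := by
    by_contra hcon
    push Not at hcon
    have hall : MemLocalIdeal M (∑ x ∈ Finset.univ.filter (· ∈ MulAction.fixedPoints P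
        (Quotient (blockSetoid M (Subgroup.centralizer (Q : Set G))))), Λ x) := by
      apply sum_memLocalIdeal
      intro q hq
      have hq' := (Finset.mem_filter.mp hq).2
      rcases hdich q hq' with h | h
      · exact h
      · exact absurd h (hcon q hq')
    have := memLocalIdeal_add hall hpt
    rw [← hsumfix] at this
    exact not_memLocalIdeal_one this
  obtain ⟨q₁, hq₁fix, hq₁Λ⟩ := hex
  have hcongr : ∀ q, ∀ ξ ∈ blockOf M (ξ₀ : Subgroup.centralizer (P : Set G) → ℂ),
      MemLocalIdeal M (Λ q - omegaFun (ξ : Subgroup.centralizer (P : Set G) → ℂ)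
        (resFun (Subgroup.centralizer (P : Set G)) (ε q))) := fun q ξ hξ =>
    memLocalIdeal_omegaFun_sub ξ₀ ξ hξ (resFun_isClassFunction_of_conjInv _ (hεC q))
      (fun x => hεR q x)
  refine ⟨blockOf M ((Quotient.out q₁ : IrrCharacter (Subgroup.centralizer (Q : Set G))) :
    Subgroup.centralizer (Q : Set G) → ℂ), ?_, ?_⟩
  · refine ⟨⟨hQ, Quotient.out q₁, rfl⟩, ⟨hP, ξ₀, rfl⟩, hQP, hPN, hfixstab q₁ hq₁fix, ?_⟩
    intro ξ hξ
    rw [brauerOmega_eq]
    have := memLocalIdeal_sub hq₁Λ (hcongr q₁ ξ hξ)
    have e1 : ∀ a b : ℂ, a - 1 - (a - b) = b - 1 := fun a b => by ring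
    rw [e1] at this
    exact this
  · intro f' hn'
    obtain ⟨⟨_, η', rfl⟩, _, _, _, hstab', hN'⟩ := hn'
    set q' : Quotient (blockSetoid M (Subgroup.centralizer (Q : Set G))) :=
      Quotient.mk (blockSetoid M (Subgroup.centralizer (Q : Set G))) η' with hq'
    have hf' : blockOf M ((Quotient.out q' : IrrCharacter (Subgroup.centralizer (Q : Set G))) :
        Subgroup.centralizer (Q : Set G) → ℂ) =
        blockOf M (η' : Subgroup.centralizer (Q : Set G) → ℂ) := by
      ext χ
      rw [mem_blockOf_out_iff]
      constructor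
      · intro h
        exact sameBlock_symm (Quotient.exact h)
      · intro h
        exact Quotient.sound (sameBlock_symm h)
    have hq'fix : q' ∈ MulAction.fixedPoints P
        (Quotient (blockSetoid M (Subgroup.centralizer (Q : Set G)))) := by
      intro g
      rw [hsmul]
      apply (blockSmul_eq_iff _ P hPK M g q').mpr
      rw [hf']
      exact hstab' g g.2
    have hq'Λ : MemLocalIdeal M (Λ q' - 1) := by
      have := hN' ξ₀ (mem_blockOf_self ξ₀)
      rw [brauerOmega_eq, ← hf'] at this
      exact this
    have hqq : q' = q₁ := by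
      by_contra hne
      have h1 := hprod q' q₁ hq'fix hq₁fix
      rw [if_neg hne, zero_sub] at h1
      have h2 := memLocalIdeal_neg h1
      rw [neg_neg] at h2
      -- Λq' Λq₁ ≡ 1
      have h3 := memLocalIdeal_mul_right hq'Λ (hΛR q₁)
      have h4 := memLocalIdeal_add h3 hq₁Λ
      have e1 : (Λ q' - 1) * Λ q₁ + (Λ q₁ - 1) = Λ q' * Λ q₁ - 1 := by ring
      rw [e1] at h4
      have h5 := memLocalIdeal_sub h2 h4
      rw [sub_sub_cancel] at h5
      exact not_memLocalIdeal_one h5
    rw [← hf', hqq]

/-- Fix a prime p and a maximal ideal M of the algebraic integers containing p. Let (P, e) be a Brauer pair of the finite group G and Q a normal subgroup of P. Then there is exactly one p-block f of C_G(Q) that is stable under conjugation by P and such that e occurs in the Brauer-map image at P of the idempotent of f; that is, exactly one f with (Q, f) normally below (P, e). -/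
theorem result {G : Type*} [Group G] [Fintype G] (p : ℕ) [Fact p.Prime] (M : Ideal Cfsg.AlgInt) (hM : Cfsg.IsPModular p M) (P Q : Subgroup G) (e : Set (Cfsg.IrrCharacter (Subgroup.centralizer (P : Set G)))) (hPe : Cfsg.IsBrauerPair p M P e) (hQP : Q ≤ P) (hPN : P ≤ Subgroup.normalizer (Q : Set G)) : ∃! f : Set (Cfsg.IrrCharacter (Subgroup.centralizer (Q : Set G))), Cfsg.IsNormalSubpair p M Q f P e := by
  exact result' p M hM P Q e hPe hQP hPN

end Cfsg.Agent.S4656
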