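import Cfsg.Statements.S4654
import Mathlib
import Cfsg.Agent.Lib.Helper24.StableIdem
import Cfsg.Agent.Lib.Helper24.TraceIdem
import Cfsg.Agent.Lib.Helper24.BlockAction
import Cfsg.Agent.S4653
import Cfsg.Agent.Lib.Lead.ConvAlg
import Cfsg.Agent.Lib.Lead.CharDecomp

set_option autoImplicit false
open Cfsg

namespace Cfsg.Agent.S4654

open Cfsg.Agent.CharLib Cfsg.Agent.Lib.Helper24 Cfsg.Agent.Lib.Helper6

universe u

theorem result' {G : Type u} [Group G] [Fintype G] (p : ℕ) [Fact p.Prime] (M : Ideal Cfsg.AlgInt) (hM : Cfsg.IsPModular p M) (P : Subgroup G) [P.Normal] (hP : IsPGroup p P) (B : Set (Cfsg.IrrCharacter G)) (e : Set (Cfsg.IrrCharacter (Subgroup.centralizer (P : Set G)))) (hBe : Cfsg.IsBrauerPairOf p M B P e) (T : Subgroup G) (hT : ∀ x : G, x ∈ T ↔ Cfsg.StabilizesBlock (Subgroup.centralizer (P : Set G)) e x) : (∃ E : Set (Cfsg.IrrCharacter T), Cfsg.IsPBlock M E ∧ ∀ t : T, Cfsg.blockCoeff E t = Cfsg.subgroupBlockCoeff (Subgroup.centralizer (P : Set G)) e (t : G)) ∧ ∀ g : G, Cfsg.blockCoeff B g = (Nat.card T : ℂ)⁻¹ * ∑ x : G, Cfsg.subgroupBlockCoeff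 (Subgroup.centralizer (P : Set G)) e (x⁻¹ * g * x) := by
  classical
  haveI hprime : M.IsPrime := isPrime_of_isPModular hM
  let _ : Fintype (Subgroup.centralizer (P : Set G)) := Fintype.ofFinite _
  let _ : Fintype T := Fintype.ofFinite T
  have hCn : ∀ x : G, x ∈ Subgroup.normalizer
      ((Subgroup.centralizer (P : Set G) : Subgroup G) : Set G) := by
    intro x
    apply mem_normalizer_centralizer_of_mem_normalizer
    rw [Subgroup.normalizer_eq_top]
    exact Subgroup.mem_top x
  have hCT : Subgroup.centralizer (P : Set G) ≤ T := by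
    intro c hc
    rw [hT]
    refine ⟨hCn c, fun χ hχ => ⟨χ, hχ, ?_⟩⟩
    intro k k' hk
    have hcls := IsCharacter.isClassFunction (IsIrrCharacter.isCharacter χ.2)
    have : k' = ⟨c, hc⟩ * k * ⟨c, hc⟩⁻¹ := Subtype.ext hk
    rw [this]
    exact hcls k ⟨c, hc⟩
  have hPT : P ≤ T := by
    intro y hy
    rw [hT]
    refine ⟨hCn y, fun χ hχ => ⟨χ, hχ, ?_⟩⟩
    intro k k' hk
    have hyk : y * (k : G) = (k : G) * y := Subgroup.mem_centralizer_iff.mp k.2 y hy
    have : k' = k := by
      apply Subtype.ext
      rw [hk, hyk, mul_inv_cancel_right]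
    rw [this]
  obtain ⟨⟨_, ξ₀, rfl⟩, ⟨χ₀, rfl⟩, hω⟩ := hBe
  constructor
  · -- the block of `T`
    apply exists_block_of_stable hM T (Subgroup.centralizer (P : Set G)) hCT _ ⟨ξ₀, rfl⟩
      (fun t ht => (hT t).mp ht)
    intro E hE t ht
    haveI : (P.subgroupOf T).Normal := inferInstance
    apply Cfsg.Agent.S4653.result' p M hM (P.subgroupOf T) hP.comap_subtype E hE t
    intro hcent
    apply ht
    rw [Subgroup.mem_centralizer_iff]
    intro y hy
    have := Subgroup.mem_centralizer_iff.mp hcent ⟨y, hPT hy⟩ (Subgroup.mem_subgroupOf.mpr hy)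
    exact congrArg Subtype.val this
  · -- the trace formula
    set β : G → ℂ := blockCoeff (blockOf M (χ₀ : G → ℂ)) with hβ
    have hβcls : IsClassFunction G β := blockCoeff_isClassFunction _
    have hβR : ∀ x, MemLocalRing M (β x) := fun x => memLocalRing_blockCoeff_blockOf χ₀ x
    have hββ : conv β β = β := conv_blockCoeff_self _
    have hβvan : ∀ g, g ∉ Subgroup.centralizer (P : Set G) → β g = 0 := fun g hg =>
      Cfsg.Agent.S4653.result' p M hM P hP _ ⟨χ₀, rfl⟩ g hg
    set β' : Subgroup.centralizer (P : Set G) → ℂ :=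
      resFun (Subgroup.centralizer (P : Set G)) β with hβ'
    have hβext : β = extendByZero (Subgroup.centralizer (P : Set G)) β' := by
      funext g
      by_cases hg : g ∈ Subgroup.centralizer (P : Set G)
      · rw [extendByZero_mem _ _ hg]
        rfl
      · rw [extendByZero_not_mem _ _ hg]
        exact hβvan g hg
    have hβ'cls : IsClassFunction (Subgroup.centralizer (P : Set G)) β' :=
      resFun_isClassFunction _ hβcls
    have hβ'R : ∀ x, MemLocalRing M (β' x) := fun x => hβR (x : G)
    have hβ'idem : conv β' β' = β' := by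
      apply extendByZero_injective (Subgroup.centralizer (P : Set G))
      rw [← conv_extendByZero, ← hβext, hββ]
    set ee : Subgroup.centralizer (P : Set G) → ℂ :=
      blockCoeff (blockOf M (ξ₀ : Subgroup.centralizer (P : Set G) → ℂ)) with hee
    have heecls : IsClassFunction (Subgroup.centralizer (P : Set G)) ee :=
      blockCoeff_isClassFunction _
    have heeR : ∀ x, MemLocalRing M (ee x) := fun x => memLocalRing_blockCoeff_blockOf ξ₀ x
    have heeidem : conv ee ee = ee := conv_blockCoeff_self _
    have hcomm : conv β' ee = conv ee β' := conv_comm_of_isClassFunction hβ'cls ee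
    have hω₀ : omegaFun (ξ₀ : Subgroup.centralizer (P : Set G) → ℂ) ee = 1 := by
      have := omegaFun_blockCoeff (blockOf M (ξ₀ : Subgroup.centralizer (P : Set G) → ℂ)) ξ₀
      rw [if_pos (mem_blockOf_self ξ₀)] at this
      exact this
    have hbase : conv ee β' = ee := by
      apply eq_blockCoeff_of_idem_of_conv hM (conv_isClassFunction heecls hβ'cls) ?_
        (memLocalRing_conv heeR hβ'R) ?_ _ ⟨ξ₀, rfl⟩ ?_
      · rw [conv_assoc, ← conv_assoc β' ee β', hcomm, conv_assoc ee β' β', hβ'idem,
          ← conv_assoc, heeidem]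
      · intro h0
        have h1 := omegaFun_conv ξ₀ heecls hβ'cls
        rw [h0, hω₀, one_mul] at h1
        have h2 := hω ξ₀ (mem_blockOf_self ξ₀)
        rw [brauerOmega_eq] at h2
        change MemLocalIdeal M (omegaFun (ξ₀ : Subgroup.centralizer (P : Set G) → ℂ) β' - 1) at h2
        rw [← h1] at h2
        have h3 : omegaFun (ξ₀ : Subgroup.centralizer (P : Set G) → ℂ)
            (0 : Subgroup.centralizer (P : Set G) → ℂ) = 0 := by
          unfold omegaFun
          simp
        rw [h3, zero_sub] at h2
        have := memLocalIdeal_neg h2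
        rw [neg_neg] at this
        exact not_memLocalIdeal_one this
      · rw [conv_assoc, hcomm, ← conv_assoc, heeidem]
    set ε : G → ℂ := subgroupBlockCoeff (Subgroup.centralizer (P : Set G))
      (blockOf M (ξ₀ : Subgroup.centralizer (P : Set G) → ℂ)) with hε
    have hεext : ε = extendByZero (Subgroup.centralizer (P : Set G)) ee :=
      subgroupBlockCoeff_eq_extendByZero _ _
    have hbaseG : conv ε β = ε := by
      rw [hεext, hβext, conv_extendByZero, hbase]
    have hεne : ε ≠ 0 := by
      intro h0
      have h1 : ee = 0 := by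
        apply extendByZero_injective (Subgroup.centralizer (P : Set G))
        rw [← hεext, h0]
        funext g
        by_cases hg : g ∈ Subgroup.centralizer (P : Set G)
        · rw [extendByZero_mem _ _ hg]; rfl
        · rw [extendByZero_not_mem _ _ hg]; rfl
      rw [h1] at hω₀
      unfold omegaFun at hω₀
      simp at hω₀
    -- the action of `G` on the blocks of the centralizer
    let _ : Fintype (IrrCharacter (Subgroup.centralizer (P : Set G))) := fintypeIrr _
    let _ : Fintype (Quotient (blockSetoid M (Subgroup.centralizer (P : Set G)))) :=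
      Fintype.ofFinite _
    have hΓ : (⊤ : Subgroup G) ≤ Subgroup.normalizer
        ((Subgroup.centralizer (P : Set G) : Subgroup G) : Set G) := fun x _ => hCn x
    letI act : MulAction (⊤ : Subgroup G)
        (Quotient (blockSetoid M (Subgroup.centralizer (P : Set G)))) :=
      blockMulAction (Subgroup.centralizer (P : Set G)) ⊤ hΓ M
    have hsmul : ∀ (g : (⊤ : Subgroup G))
        (q : Quotient (blockSetoid M (Subgroup.centralizer (P : Set G)))),
        g • q = blockSmul (Subgroup.centralizer (P : Set G)) ⊤ hΓ M g q := fun _ _ => rfl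
    set q : Quotient (blockSetoid M (Subgroup.centralizer (P : Set G))) :=
      Quotient.mk (blockSetoid M (Subgroup.centralizer (P : Set G))) ξ₀ with hq
    have hqblock : blockOf M ((Quotient.out q :
        IrrCharacter (Subgroup.centralizer (P : Set G))) :
        Subgroup.centralizer (P : Set G) → ℂ) =
        blockOf M (ξ₀ : Subgroup.centralizer (P : Set G) → ℂ) := by
      ext χ
      rw [mem_blockOf_out_iff]
      constructor
      · intro h
        exact sameBlock_symm (Quotient.exact h)
      · intro h
        exact Quotient.sound (sameBlock_symm h)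
    set εq : Quotient (blockSetoid M (Subgroup.centralizer (P : Set G))) → G → ℂ := fun q' =>
      subgroupBlockCoeff (Subgroup.centralizer (P : Set G))
        (blockOf M ((Quotient.out q' : IrrCharacter (Subgroup.centralizer (P : Set G))) :
          Subgroup.centralizer (P : Set G) → ℂ)) with hεq
    have hεqq : εq q = ε := by
      simp only [hεq, hε]
      rw [hqblock]
    have hsm : ∀ (x : (⊤ : Subgroup G))
        (q' : Quotient (blockSetoid M (Subgroup.centralizer (P : Set G)))),
        εq (x • q') = conjFn (x : G) (εq q') := by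
      intro x q'
      funext g
      rw [conjFn_apply, hsmul]
      exact subgroupBlockCoeff_blockSmul (Subgroup.centralizer (P : Set G)) ⊤ hΓ M x q' g
    have hstab : ∀ x : (⊤ : Subgroup G), x • q = q ↔ (x : G) ∈ T := by
      intro x
      rw [hsmul, blockSmul_eq_iff, hqblock, hT]
    have horth : ∀ q₁ q₂ : Quotient (blockSetoid M (Subgroup.centralizer (P : Set G))),
        conv (εq q₁) (εq q₂) = if q₁ = q₂ then εq q₁ else 0 := by
      intro q₁ q₂
      simp only [hεq]
      rw [subgroupBlockCoeff_eq_extendByZero, subgroupBlockCoeff_eq_extendByZero,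
        conv_extendByZero]
      by_cases hqq : q₁ = q₂
      · rw [if_pos hqq, ← hqq, conv_blockCoeff_self]
      · rw [if_neg hqq, conv_blockCoeff_of_disjoint]
        · funext x
          by_cases hx : x ∈ Subgroup.centralizer (P : Set G)
          · rw [extendByZero_mem _ _ hx]
            rfl
          · rw [extendByZero_not_mem _ _ hx]
            rfl
        · rw [Set.disjoint_left]
          intro χ h1 h2
          rw [mem_blockOf_out_iff] at h1 h2
          exact hqq (h1.symm.trans h2)
    set O : Finset (Quotient (blockSetoid M (Subgroup.centralizer (P : Set G)))) :=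
      Finset.univ.image (fun x : (⊤ : Subgroup G) => x • q) with hO
    have hqO : q ∈ O := by
      rw [hO, Finset.mem_image]
      exact ⟨1, Finset.mem_univ _, one_smul _ q⟩
    set vO : G → ℂ := ∑ q' ∈ O, εq q' with hvO
    have hTcardN : (Finset.univ.filter (fun x : (⊤ : Subgroup G) => x • q = q)).card =
        Nat.card T := by
      rw [Nat.card_eq_fintype_card, ← Finset.card_univ]
      apply Finset.card_bij (fun (x : (⊤ : Subgroup G)) hx =>
        (⟨(x : G), (hstab x).mp (Finset.mem_filter.mp hx).2⟩ : T))
      · intro x _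
        exact Finset.mem_univ _
      · intro x _ y _ h
        apply Subtype.ext
        exact congrArg (fun t : T => (t : G)) h
      · intro t _
        refine ⟨⟨(t : G), Subgroup.mem_top _⟩, ?_, rfl⟩
        rw [Finset.mem_filter]
        exact ⟨Finset.mem_univ _, (hstab _).mpr t.2⟩
    have hTcard : ((Finset.univ.filter (fun x : (⊤ : Subgroup G) => x • q = q)).card : ℂ) =
        (Nat.card T : ℂ) := by
      rw [hTcardN]
    have hw : ∀ g : G, ∑ x : G, ε (x⁻¹ * g * x) = (Nat.card T : ℂ) * vO g := by
      intro g
      have h1 : ∑ x : G, ε (x⁻¹ * g * x) = ∑ x : (⊤ : Subgroup G), εq (x • q) g := by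
        rw [← Fintype.sum_equiv (Subgroup.topEquiv : (⊤ : Subgroup G) ≃* G).toEquiv
          (fun x : (⊤ : Subgroup G) => εq (x • q) g) (fun x : G => ε (x⁻¹ * g * x))]
        intro x
        rw [hsm, hεqq, conjFn_apply]
        rfl
      rw [h1, sum_smul_eq_sum_image q (fun q' => εq q' g), hvO, Finset.sum_apply,
        Finset.mul_sum]
      apply Finset.sum_congr rfl
      intro q' _
      rw [nsmul_eq_mul, hTcard]
    have hTne : (Nat.card T : ℂ) ≠ 0 := by
      have : 0 < Nat.card T := Nat.card_pos
      exact_mod_cast this.ne'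
    have hvOcls : IsClassFunction G vO := by
      intro g h
      have h1 := hw (h * g * h⁻¹)
      have h2 := hw g
      have h3 : ∑ x : G, ε (x⁻¹ * (h * g * h⁻¹) * x) = ∑ x : G, ε (x⁻¹ * g * x) := by
        rw [← Equiv.sum_comp (Equiv.mulLeft h)]
        apply Finset.sum_congr rfl
        intro x _
        rw [Equiv.coe_mulLeft]
        congr 1
        group
      rw [h3, h2] at h1
      exact (mul_left_cancel₀ hTne h1).symm
    have hvOR : ∀ x, MemLocalRing M (vO x) := by
      intro x
      rw [hvO, Finset.sum_apply]
      apply sum_memLocalRing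
      intro q' _
      exact memLocalRing_subgroupBlockCoeff M _ (Quotient.out q') x
    have hvOidem : conv vO vO = vO := by
      rw [hvO, conv_sum_left]
      apply Finset.sum_congr rfl
      intro q₁ hq₁
      rw [conv_sum_right]
      rw [Finset.sum_congr rfl (fun q₂ _ => horth q₁ q₂), Finset.sum_ite_eq, if_pos hq₁]
    have hvOβ : conv vO β = vO := by
      rw [hvO, conv_sum_left]
      apply Finset.sum_congr rfl
      intro q' hq'
      rw [hO, Finset.mem_image] at hq'
      obtain ⟨x, _, rfl⟩ := hq'
      rw [hsm, hεqq]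
      conv_lhs => rw [← conjFn_of_isClassFunction (x : G) hβcls]
      rw [conv_conjFn, hbaseG]
    have hvOne : vO ≠ 0 := by
      intro h0
      have h1 : conv ε vO = ε := by
        rw [hvO, conv_sum_right, ← hεqq]
        rw [Finset.sum_congr rfl (fun q₂ _ => horth q q₂), Finset.sum_ite_eq, if_pos hqO]
      rw [h0, conv_zero_right] at h1
      exact hεne h1.symm
    have hfinal := eq_blockCoeff_of_idem_of_conv hM hvOcls hvOidem hvOR hvOne
      (blockOf M (χ₀ : G → ℂ)) ⟨χ₀, rfl⟩ hvOβ
    intro g
    rw [hw g, ← mul_assoc, inv_mul_cancel₀ hTne, one_mul, hfinal]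

/-- Fix a prime p and a maximal ideal M of the algebraic integers containing p. Let P be a normal p-subgroup of the finite group G, B a p-block of G and e a p-block of C_G(P) such that (P, e) is a Brauer pair of B (as P is normal, this says that e occurs in the idempotent of B, which is supported on C_G(P)). Let T be the stabilizer of e in G under conjugation. Then the idempotent of e is a block idempotent of T: some block E of T has, at every element of T, the same idempotent coefficient as e (zero off C_G(P)); and the idempotent of B is the sum of the distinct G-conjugates of the idempotent of e: its coefficient at g is the sum over all x in G of the coefficient of e at x⁻¹ g x, divided by the order of T. -/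
theorem result {G : Type*} [Group G] [Fintype G] (p : ℕ) [Fact p.Prime] (M : Ideal Cfsg.AlgInt) (hM : Cfsg.IsPModular p M) (P : Subgroup G) [P.Normal] (hP : IsPGroup p P) (B : Set (Cfsg.IrrCharacter G)) (e : Set (Cfsg.IrrCharacter (Subgroup.centralizer (P : Set G)))) (hBe : Cfsg.IsBrauerPairOf p M B P e) (T : Subgroup G) (hT : ∀ x : G, x ∈ T ↔ Cfsg.StabilizesBlock (Subgroup.centralizer (P : Set G)) e x) : (∃ E : Set (Cfsg.IrrCharacter T), Cfsg.IsPBlock M E ∧ ∀ t : T, Cfsg.blockCoeff E t = Cfsg.subgroupBlockCoeff (Subgroup.centralizer (P : Set G)) e (t : G)) ∧ ∀ g : G, Cfsg.blockCoeff B g = (Nat.card T : ℂ)⁻¹ * ∑ x : G, Cfsg.subgroupBlockCoeff (Subgroup.centralizer (P : Set G)) e (x⁻¹ * g * x) := by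
  exact result' p M hM P hP B e hBe T hT

end Cfsg.Agent.S4654
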