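import Cfsg.Statements.S4657
import Mathlib
import Cfsg.Agent.Lib.Helper24.BrauerPairs

set_option autoImplicit false
open Cfsg

namespace Cfsg.Agent.S4657

open Cfsg.Agent.CharLib Cfsg.Agent.Lib.Helper24 Cfsg.Agent.Lib.Helper6

theorem result' {G : Type*} [Group G] [Fintype G] (p : ℕ) [Fact p.Prime] (M : Ideal Cfsg.AlgInt) (hM : Cfsg.IsPModular p M) (P : Subgroup G) (e : Set (Cfsg.IrrCharacter (Subgroup.centralizer (P : Set G)))) (hPe : Cfsg.IsBrauerPair p M P e) : ∃! B : Set (Cfsg.IrrCharacter G), Cfsg.IsBrauerPairOf p M B P e := by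
  classical
  haveI hprime : M.IsPrime := isPrime_of_isPModular hM
  let _ : Fintype (Subgroup.centralizer (P : Set G)) := Fintype.ofFinite _
  obtain ⟨hPp, ξ₀, rfl⟩ := hPe
  obtain ⟨χ₀, hχ₀⟩ := exists_block_brauer hM P hPp ξ₀
  have hcong : ∀ (χ₁ : IrrCharacter G) (ξ : IrrCharacter (Subgroup.centralizer (P : Set G))),
      ξ ∈ blockOf M (ξ₀ : Subgroup.centralizer (P : Set G) → ℂ) →
      MemLocalIdeal M
        (omegaFun (ξ₀ : Subgroup.centralizer (P : Set G) → ℂ)
          (resFun (Subgroup.centralizer (P : Set G)) (blockCoeff (blockOf M (χ₁ : G → ℂ)))) -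
        omegaFun (ξ : Subgroup.centralizer (P : Set G) → ℂ)
          (resFun (Subgroup.centralizer (P : Set G)) (blockCoeff (blockOf M (χ₁ : G → ℂ))))) := by
    intro χ₁ ξ hξ
    exact memLocalIdeal_omegaFun_sub ξ₀ ξ hξ
      (resFun_isClassFunction _ (blockCoeff_isClassFunction _))
      (fun x => memLocalRing_blockCoeff_blockOf χ₁ x)
  refine ⟨blockOf M (χ₀ : G → ℂ), ?_, ?_⟩
  · refine ⟨⟨hPp, ξ₀, rfl⟩, ⟨χ₀, rfl⟩, ?_⟩
    intro ξ hξ
    rw [brauerOmega_eq]
    have h1 := hcong χ₀ ξ hξ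
    have h2 := memLocalIdeal_sub hχ₀ h1
    have e1 : ∀ a b : ℂ, a - 1 - (a - b) = b - 1 := fun a b => by ring
    rw [e1] at h2
    exact h2
  · intro B' hB'
    obtain ⟨_, ⟨χ₁, rfl⟩, hB'ω⟩ := hB'
    by_contra hne
    have hdisj : Disjoint (blockOf M (χ₁ : G → ℂ)) (blockOf M (χ₀ : G → ℂ)) := by
      rw [Set.disjoint_left]
      intro χ h1 h0
      exact hne (isPBlock_eq_of_mem ⟨χ₁, rfl⟩ ⟨χ₀, rfl⟩ h1 h0)
    have h1 := hB'ω ξ₀ (mem_blockOf_self ξ₀)
    rw [brauerOmega_eq] at h1
    have hmul := memLocalIdeal_brauer_conv hM P hPp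
      (blockCoeff_isClassFunction (blockOf M (χ₁ : G → ℂ)))
      (fun x => memLocalRing_blockCoeff_blockOf χ₁ x)
      (blockCoeff_isClassFunction (blockOf M (χ₀ : G → ℂ)))
      (fun x => memLocalRing_blockCoeff_blockOf χ₀ x) ξ₀
    rw [conv_blockCoeff_of_disjoint _ _ hdisj] at hmul
    have hz : omegaFun (ξ₀ : Subgroup.centralizer (P : Set G) → ℂ)
        (resFun (Subgroup.centralizer (P : Set G)) (0 : G → ℂ)) = 0 := by
      unfold omegaFun
      simp
    rw [hz, zero_sub] at hmul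
    have hmul' := memLocalIdeal_neg hmul
    rw [neg_neg] at hmul'
    revert h1 hχ₀ hmul'
    generalize omegaFun (ξ₀ : Subgroup.centralizer (P : Set G) → ℂ)
        (resFun (Subgroup.centralizer (P : Set G)) (blockCoeff (blockOf M (χ₁ : G → ℂ)))) = s
    generalize omegaFun (ξ₀ : Subgroup.centralizer (P : Set G) → ℂ)
        (resFun (Subgroup.centralizer (P : Set G)) (blockCoeff (blockOf M (χ₀ : G → ℂ)))) = t
    intro h0 h1 hst
    -- 1 = s t - (s - 1) t - (t - 1)
    have hsR : MemLocalRing M t := by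
      have := memLocalRing_of_memLocalIdeal h0
      have h3 := memLocalRing_add this (memLocalRing_one (M := M))
      rwa [sub_add_cancel] at h3
    have h4 : MemLocalIdeal M ((s - 1) * t) := memLocalIdeal_mul_right h1 hsR
    have h5 : (1 : ℂ) = s * t - (s - 1) * t - (t - 1) := by ring
    have h6 : MemLocalIdeal M (1 : ℂ) := by
      rw [h5]
      exact memLocalIdeal_sub (memLocalIdeal_sub hst h4) h0
    exact not_memLocalIdeal_one h6

/-- Fix a prime p and a maximal ideal M of the algebraic integers containing p. Every Brauer pair (P, e) of the finite group G is a Brauer pair of exactly one p-block B of G. -/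
theorem result {G : Type*} [Group G] [Fintype G] (p : ℕ) [Fact p.Prime] (M : Ideal Cfsg.AlgInt) (hM : Cfsg.IsPModular p M) (P : Subgroup G) (e : Set (Cfsg.IrrCharacter (Subgroup.centralizer (P : Set G)))) (hPe : Cfsg.IsBrauerPair p M P e) : ∃! B : Set (Cfsg.IrrCharacter G), Cfsg.IsBrauerPairOf p M B P e := by
  exact result' p M hM P e hPe

end Cfsg.Agent.S4657
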