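import Cfsg.Statements.S4658
import Mathlib
import Cfsg.Agent.Lib.Helper24.BrauerPairs3

set_option autoImplicit false
open Cfsg

namespace Cfsg.Agent.S4658

open Cfsg.Agent.CharLib Cfsg.Agent.Lib.Helper24 Cfsg.Agent.Lib.Helper6

universe u

section
variable {G : Type u} [Group G] [Fintype G]

theorem normal_step (p : ℕ) [Fact p.Prime] (M : Ideal AlgInt) (hM : IsPModular p M)
    (P Q : Subgroup G) (e : Set (IrrCharacter (Subgroup.centralizer (P : Set G))))
    (f : Set (IrrCharacter (Subgroup.centralizer (Q : Set G))))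
    (hn : IsNormalSubpair p M Q f P e) (B : Set (IrrCharacter G)) (hB : IsPBlock M B) :
    IsBrauerPairOf p M B P e ↔ IsBrauerPairOf p M B Q f := by
  classical
  haveI hprime : M.IsPrime := isPrime_of_isPModular hM
  let _ : Fintype (Subgroup.centralizer (P : Set G)) := Fintype.ofFinite _
  let _ : Fintype (Subgroup.centralizer (Q : Set G)) := Fintype.ofFinite _
  obtain ⟨⟨hQ, η₀, rfl⟩, ⟨hP, ξ₀, rfl⟩, hQP, hPN, hstab, hN⟩ := hn
  obtain ⟨χ₀, rfl⟩ := hB
  have hCK : Subgroup.centralizer (P : Set G) ≤ Subgroup.centralizer (Q : Set G) :=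
    Subgroup.centralizer_le hQP
  have hβ : IsClassFunction G (blockCoeff (blockOf M (χ₀ : G → ℂ))) :=
    blockCoeff_isClassFunction _
  have hβR : ∀ x, MemLocalRing M (blockCoeff (blockOf M (χ₀ : G → ℂ)) x) :=
    fun x => memLocalRing_blockCoeff_blockOf χ₀ x
  have hββ : conv (blockCoeff (blockOf M (χ₀ : G → ℂ))) (blockCoeff (blockOf M (χ₀ : G → ℂ))) =
      blockCoeff (blockOf M (χ₀ : G → ℂ)) := conv_blockCoeff_self _
  have hidem : ∀ k : Subgroup.centralizer (Q : Set G), MemLocalIdeal M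
      (conv (resFun (Subgroup.centralizer (Q : Set G)) (blockCoeff (blockOf M (χ₀ : G → ℂ))))
        (resFun (Subgroup.centralizer (Q : Set G)) (blockCoeff (blockOf M (χ₀ : G → ℂ)))) k -
        resFun (Subgroup.centralizer (Q : Set G)) (blockCoeff (blockOf M (χ₀ : G → ℂ))) k) := by
    intro k
    have := resFun_conv_sub_of_conjInv hM Q hQ (ConjInv.of_isClassFunction Q hβ) hβR
      (ConjInv.of_isClassFunction Q hβ) hβR k
    rw [hββ] at this
    have h2 := memLocalIdeal_neg this
    rw [neg_sub] at h2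
    rw [resFun_apply]
    exact h2
  have hfP : ConjInv P (extendByZero (Subgroup.centralizer (Q : Set G))
      (blockCoeff (blockOf M (η₀ : Subgroup.centralizer (Q : Set G) → ℂ)))) := by
    intro u hu x
    have := subgroupBlockCoeff_conj_of_stabilizes (Subgroup.centralizer (Q : Set G))
      (blockOf M (η₀ : Subgroup.centralizer (Q : Set G) → ℂ)) u (hstab u hu) x
    rw [subgroupBlockCoeff_eq_extendByZero] at this
    exact this
  have key : ∀ ξ ∈ blockOf M (ξ₀ : Subgroup.centralizer (P : Set G) → ℂ), _ := fun ξ hξ =>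
    memLocalIdeal_brauer_of_block hM P hP (Subgroup.centralizer (Q : Set G)) hCK hβ hβR hidem η₀
      hfP ξ (by
        have := hN ξ hξ
        rw [brauerOmega_eq, subgroupBlockCoeff_eq_extendByZero] at this
        exact this)
  -- dichotomy for the central characters of f at β'
  have hβ'cls : IsClassFunction (Subgroup.centralizer (Q : Set G))
      (resFun (Subgroup.centralizer (Q : Set G)) (blockCoeff (blockOf M (χ₀ : G → ℂ)))) :=
    resFun_isClassFunction _ hβ
  have htR : MemLocalRing M (omegaFun (η₀ : Subgroup.centralizer (Q : Set G) → ℂ)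
      (resFun (Subgroup.centralizer (Q : Set G)) (blockCoeff (blockOf M (χ₀ : G → ℂ))))) :=
    memLocalRing_omegaFun η₀ hβ'cls (fun x => hβR (x : G))
  have hsq := memLocalIdeal_brauer_conv hM Q hQ hβ hβR hβ hβR η₀
  rw [hββ] at hsq
  have hdich : MemLocalIdeal M (omegaFun (η₀ : Subgroup.centralizer (Q : Set G) → ℂ)
      (resFun (Subgroup.centralizer (Q : Set G)) (blockCoeff (blockOf M (χ₀ : G → ℂ))))) ∨
      MemLocalIdeal M (omegaFun (η₀ : Subgroup.centralizer (Q : Set G) → ℂ)
      (resFun (Subgroup.centralizer (Q : Set G)) (blockCoeff (blockOf M (χ₀ : G → ℂ)))) - 1) := by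
    have e1 : ∀ t : ℂ, t - t * t = -(t * (t - 1)) := fun t => by ring
    rw [e1] at hsq
    have h2 := memLocalIdeal_neg hsq
    rw [neg_neg] at h2
    exact memLocalIdeal_or_of_mul htR (memLocalRing_sub htR memLocalRing_one) h2
  have hall : ∀ η ∈ blockOf M (η₀ : Subgroup.centralizer (Q : Set G) → ℂ),
      MemLocalIdeal M (omegaFun (η₀ : Subgroup.centralizer (Q : Set G) → ℂ)
        (resFun (Subgroup.centralizer (Q : Set G)) (blockCoeff (blockOf M (χ₀ : G → ℂ)))) -
      omegaFun (η : Subgroup.centralizer (Q : Set G) → ℂ)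
        (resFun (Subgroup.centralizer (Q : Set G)) (blockCoeff (blockOf M (χ₀ : G → ℂ))))) :=
    fun η hη => memLocalIdeal_omegaFun_sub η₀ η hη hβ'cls (fun x => hβR (x : G))
  constructor
  · rintro ⟨_, _, hω⟩
    refine ⟨⟨hQ, η₀, rfl⟩, ⟨χ₀, rfl⟩, ?_⟩
    rcases hdich with h0 | h1
    · exfalso
      have hξ₀ : ξ₀ ∈ blockOf M (ξ₀ : Subgroup.centralizer (P : Set G) → ℂ) := mem_blockOf_self ξ₀
      have hzero := (key ξ₀ hξ₀).2 (fun η hη => by
        have := memLocalIdeal_sub h0 (hall η hη)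
        rwa [sub_sub_cancel] at this)
      have hone := hω ξ₀ hξ₀
      rw [brauerOmega_eq] at hone
      have := memLocalIdeal_sub hzero hone
      rw [sub_sub_cancel] at this
      exact not_memLocalIdeal_one this
    · intro η hη
      rw [brauerOmega_eq]
      have := memLocalIdeal_sub h1 (hall η hη)
      have e1 : ∀ a b : ℂ, a - 1 - (a - b) = b - 1 := fun a b => by ring
      rwa [e1] at this
  · rintro ⟨_, _, hω⟩
    refine ⟨⟨hP, ξ₀, rfl⟩, ⟨χ₀, rfl⟩, ?_⟩
    intro ξ hξ
    rw [brauerOmega_eq]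
    apply (key ξ hξ).1
    intro η hη
    have := hω η hη
    rw [brauerOmega_eq] at this
    exact this

theorem chain_step (p : ℕ) [Fact p.Prime] (M : Ideal AlgInt) (hM : IsPModular p M)
    (B : Set (IrrCharacter G)) (hB : IsPBlock M B) (a b : BrauerPairIdx G)
    (h : Relation.ReflTransGen (NormalSubpairRel p M) a b) :
    IsBrauerPairOf p M B b.1 b.2 ↔ IsBrauerPairOf p M B a.1 a.2 := by
  induction h with
  | refl => exact Iff.rfl
  | tail _ hstep ih =>
    exact (normal_step p M hM _ _ _ _ hstep B hB).trans ih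

end

theorem result' {G : Type u} [Group G] [Fintype G] (p : ℕ) [Fact p.Prime] (M : Ideal Cfsg.AlgInt) (hM : Cfsg.IsPModular p M) (P Q : Subgroup G) (e : Set (Cfsg.IrrCharacter (Subgroup.centralizer (P : Set G)))) (f : Set (Cfsg.IrrCharacter (Subgroup.centralizer (Q : Set G)))) (hle : Cfsg.SubpairLE p M Q f P e) (B : Set (Cfsg.IrrCharacter G)) (hB : Cfsg.IsPBlock M B) : Cfsg.IsBrauerPairOf p M B P e ↔ Cfsg.IsBrauerPairOf p M B Q f :=
  chain_step p M hM B hB ⟨Q, f⟩ ⟨P, e⟩ hle

/-- Fix a prime p and a maximal ideal M of the algebraic integers containing p. Let (Q, f) ≤ (P, e) be Brauer pairs of the finite group G and B a p-block of G. Then (P, e) is a Brauer pair of B if and only if (Q, f) is. -/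
theorem result {G : Type*} [Group G] [Fintype G] (p : ℕ) [Fact p.Prime] (M : Ideal Cfsg.AlgInt) (hM : Cfsg.IsPModular p M) (P Q : Subgroup G) (e : Set (Cfsg.IrrCharacter (Subgroup.centralizer (P : Set G)))) (f : Set (Cfsg.IrrCharacter (Subgroup.centralizer (Q : Set G)))) (hPe : Cfsg.IsBrauerPair p M P e) (hQf : Cfsg.IsBrauerPair p M Q f) (hle : Cfsg.SubpairLE p M Q f P e) (B : Set (Cfsg.IrrCharacter G)) (hB : Cfsg.IsPBlock M B) : Cfsg.IsBrauerPairOf p M B P e ↔ Cfsg.IsBrauerPairOf p M B Q f := by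
  exact result' p M hM P Q e f hle B hB

end Cfsg.Agent.S4658
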