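import Cfsg.Statements.S4659
import Mathlib
import Cfsg.Agent.Lib.Helper24.MaxPair
import Cfsg.Agent.Lib.Helper6.BrauerCorrH
import Cfsg.Agent.Lib.Helper23.BrauerInduced
import Cfsg.Agent.S4654
import Cfsg.Agent.S4657
import Cfsg.Agent.S4658

set_option autoImplicit false
open Cfsg

namespace Cfsg.Agent.S4659

open Cfsg.Agent.CharLib Cfsg.Agent.Lib.Helper24 Cfsg.Agent.Lib.Helper6
open scoped ComplexConjugate
universe u

theorem result' {G : Type u} [Group G] [Fintype G] (p : ℕ) [hpp : Fact p.Prime] (M : Ideal Cfsg.AlgInt)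
    (hM : Cfsg.IsPModular p M) (B : Set (Cfsg.IrrCharacter G)) (P : Subgroup G)
    (e : Set (Cfsg.IrrCharacter (Subgroup.centralizer (P : Set G))))
    (hmax : Cfsg.IsMaximalBrauerPair p M B P e) : Cfsg.IsDefectGroup p M B P := by
  classical
  haveI hprime : M.IsPrime := isPrime_of_isPModular hM
  obtain ⟨hBe, hmaxim⟩ := hmax
  have hPe : IsBrauerPair p M P e := hBe.1
  have hP : IsPGroup p P := hPe.1
  have he : IsPBlock M e := hPe.2
  have hB : IsPBlock M B := hBe.2.1
  let _ : Fintype (Subgroup.normalizer (P : Set G)) := Fintype.ofFinite _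
  -- the transported pair
  have hP' : IsPGroup p (P.subgroupOf (Subgroup.normalizer (P : Set G))) := hP.comap_subtype
  have hPe' : IsBrauerPair p M (P.subgroupOf (Subgroup.normalizer (P : Set G)))
      (BlockIso.pullBlock (centEquiv P) e) :=
    ⟨hP', BlockIso.isPBlock_pullBlock (centEquiv P) he⟩
  obtain ⟨b, hb, -⟩ := Cfsg.Agent.S4657.result p M hM
    (P.subgroupOf (Subgroup.normalizer (P : Set G))) (BlockIso.pullBlock (centEquiv P) e) hPe'
  have hbB : IsPBlock M b := hb.2.1
  obtain ⟨T', hT'⟩ := exists_stabilizer_subgroup (M := M) _ (BlockIso.pullBlock (centEquiv P) e)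
    hPe'.2
  obtain ⟨-, hform⟩ := Cfsg.Agent.S4654.result p M hM
    (P.subgroupOf (Subgroup.normalizer (P : Set G))) hP' b (BlockIso.pullBlock (centEquiv P) e)
    hb T' hT'
  obtain ⟨D, hD⟩ := Cfsg.Agent.Lib.Helper23.exists_isDefectGroup hM b hbB
  have hPD : P.subgroupOf (Subgroup.normalizer (P : Set G)) ≤ D :=
    le_of_isDefectGroup_of_normal hM _ hP' hbB hD
  by_cases hDP : D = P.subgroupOf (Subgroup.normalizer (P : Set G))
  · -- the block `b` has defect group `P`
    rw [hDP] at hD
    obtain ⟨B', hB', hB'D, hcong⟩ := BrauerCorrH.exists_block_G hM P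
      (Subgroup.normalizer (P : Set G)) hP le_rfl b hbB hD
    have hB'e : IsBrauerPairOf p M B' P e := by
      refine ⟨hPe, hB', ?_⟩
      intro ξ hξ
      let _ : Fintype (Subgroup.centralizer (P : Set G)) := Fintype.ofFinite _
      have h1 := hb.2.2 (irrCompIso (centEquiv P) ξ)
        (BlockIso.irrCompIso_mem_pullBlock (centEquiv P) hξ)
      rw [brauerOmega_centEquiv P (subgroupBlockCoeff (Subgroup.normalizer (P : Set G)) b)
        (blockCoeff b) (fun h => (subgroupBlockCoeff_coe _ b h).symm) ξ] at h1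
      obtain ⟨χ', rfl⟩ := hB'
      obtain ⟨η, rfl⟩ := hbB
      have hu1 : ConjInv (Subgroup.centralizer (P : Set G))
          (blockCoeff (blockOf M (χ' : G → ℂ))) :=
        ConjInv.of_isClassFunction _ (blockCoeff_isClassFunction _)
      have hu2 : ConjInv (Subgroup.centralizer (P : Set G))
          (subgroupBlockCoeff (Subgroup.normalizer (P : Set G))
            (blockOf M (η : Subgroup.normalizer (P : Set G) → ℂ))) := by
        intro u hu x
        have huN : u ∈ Subgroup.normalizer (P : Set G) :=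
          Subgroup.centralizer_le_normalizer (P : Set G) hu
        exact subgroupBlockCoeff_conj_of_mem (Subgroup.normalizer (P : Set G)) _ u huN x
      have hR2 : ∀ x, MemLocalRing M (subgroupBlockCoeff (Subgroup.normalizer (P : Set G))
            (blockOf M (η : Subgroup.normalizer (P : Set G) → ℂ)) x) :=
        fun x => memLocalRing_subgroupBlockCoeff M _ η x
      have h2 := memLocalIdeal_brauer_sub_of_forall (M := M) P hu1
        (memLocalRing_blockCoeff_blockOf χ') hu2 hR2 hcong ξ
      rw [← brauerOmega_eq, ← brauerOmega_eq] at h2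
      have h3 := memLocalIdeal_add h2 h1
      rwa [sub_add_sub_cancel] at h3
    obtain ⟨B₀, -, huniq⟩ := Cfsg.Agent.S4657.result p M hM P e hPe
    have e1 : B = B₀ := huniq B hBe
    have e2 : B' = B₀ := huniq B' hB'e
    rw [e1, ← e2]
    exact hB'D
  · exfalso
    have hDp : IsPGroup p D := by
      obtain ⟨l, hl, S, hS⟩ := hD
      rw [hS]
      exact S.isPGroup'.map _
    have hnormal : (P.subgroupOf (Subgroup.normalizer (P : Set G))).Normal :=
      Subgroup.normal_in_normalizer
    -- a unit coefficient of `b` on the centralizer of `D`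
    obtain ⟨g₀, -, hg₀, c, hgc, hcD⟩ :=
      (Cfsg.Agent.Lib.Helper23.brauer_unit_coeff_iff p hM b hbB D hD D hDp).mpr
        ⟨1, by
          rintro _ ⟨z, hz, rfl⟩
          simpa using hz⟩
    have hcunit : ¬ MemLocalIdeal M (blockCoeff b c) := by
      rw [← IsClassFunction.of_isConj (blockCoeff_isClassFunction b) hgc]
      exact hg₀
    rw [hform c] at hcunit
    have hεR : ∀ x, MemLocalRing M (subgroupBlockCoeff (Subgroup.centralizer
        (((P.subgroupOf (Subgroup.normalizer (P : Set G))) :
          Subgroup (Subgroup.normalizer (P : Set G))) : Set (Subgroup.normalizer (P : Set G))))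
        (BlockIso.pullBlock (centEquiv P) e) x) := by
      obtain ⟨η', hη'⟩ := hPe'.2
      rw [hη']
      exact fun x => memLocalRing_subgroupBlockCoeff M _ η' x
    have hεT : ∀ t ∈ T', ∀ x, subgroupBlockCoeff (Subgroup.centralizer
        (((P.subgroupOf (Subgroup.normalizer (P : Set G))) :
          Subgroup (Subgroup.normalizer (P : Set G))) : Set (Subgroup.normalizer (P : Set G))))
        (BlockIso.pullBlock (centEquiv P) e) (t * x * t⁻¹) =
        subgroupBlockCoeff _ (BlockIso.pullBlock (centEquiv P) e) x :=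
      fun t ht x => subgroupBlockCoeff_conj_of_stabilizes _ _ t ((hT' t).mp ht) x
    obtain ⟨x, hxT, hxunit⟩ := exists_fixed_coset_of_trace hM T' D hDp _ hεR hεT c hcD hcunit
    -- the bigger subgroup
    set R : Subgroup G := (D.map (MulAut.conj x⁻¹).toMonoidHom).map
      (Subgroup.normalizer (P : Set G)).subtype with hR
    have hRmem : ∀ r : G, r ∈ R ↔ ∃ d ∈ D,
        ((x⁻¹ * d * x : Subgroup.normalizer (P : Set G)) : G) = r := by
      intro r
      constructor
      · rintro ⟨_, ⟨d, hd, rfl⟩, rfl⟩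
        refine ⟨d, hd, ?_⟩
        simp
      · rintro ⟨d, hd, rfl⟩
        refine ⟨x⁻¹ * d * x, ⟨d, hd, ?_⟩, rfl⟩
        simp
    have hRp : IsPGroup p R := (hDp.map _).map _
    have hPR : P ≤ R := by
      intro q hq
      rw [hRmem]
      have hq' : (⟨q, Subgroup.le_normalizer hq⟩ : Subgroup.normalizer (P : Set G)) ∈
          P.subgroupOf (Subgroup.normalizer (P : Set G)) := Subgroup.mem_subgroupOf.mpr hq
      refine ⟨x * ⟨q, Subgroup.le_normalizer hq⟩ * x⁻¹, hPD (hnormal.conj_mem _ hq' x), ?_⟩
      simp [mul_assoc]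
    have hRN : R ≤ Subgroup.normalizer (P : Set G) := by
      intro r hr
      obtain ⟨d, -, rfl⟩ := (hRmem r).mp hr
      exact (x⁻¹ * d * x).2
    have hst : ∀ r ∈ R, StabilizesBlock (Subgroup.centralizer (P : Set G)) e r := by
      intro r hr
      obtain ⟨d, hd, rfl⟩ := (hRmem r).mp hr
      exact stabilizesBlock_of_pullBlock P e _ ((hT' _).mp (hxT d hd))
    have hy : ((x⁻¹ * c * x : Subgroup.normalizer (P : Set G)) : G) ∈
        Subgroup.centralizer (R : Set G) := by
      rw [Subgroup.mem_centralizer_iff]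
      intro r hr
      obtain ⟨d, hd, rfl⟩ := (hRmem r).mp hr
      have hdc : d * c = c * d := Subgroup.mem_centralizer_iff.mp hcD d hd
      have h1 : (x⁻¹ * d * x) * (x⁻¹ * c * x) = (x⁻¹ * c * x) * (x⁻¹ * d * x) := by
        calc (x⁻¹ * d * x) * (x⁻¹ * c * x) = x⁻¹ * (d * c) * x := by group
          _ = x⁻¹ * (c * d) * x := by rw [hdc]
          _ = (x⁻¹ * c * x) * (x⁻¹ * d * x) := by group
      exact congrArg Subtype.val h1
    have hunit : ¬ MemLocalIdeal M (subgroupBlockCoeff (Subgroup.centralizer (P : Set G)) e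
        ((x⁻¹ * c * x : Subgroup.normalizer (P : Set G)) : G)) := by
      rw [← subgroupBlockCoeff_pullBlock_centEquiv P e (x⁻¹ * c * x)]
      exact hxunit
    obtain ⟨g, hnorm⟩ := exists_isNormalSubpair_of_unit hM P R e hPe hRp hPR hRN hst _ hy hunit
    have hle : SubpairLE p M P e R g := Relation.ReflTransGen.single hnorm
    have hRg : IsBrauerPair p M R g := hnorm.2.1
    have hBRg : IsBrauerPairOf p M B R g :=
      (Cfsg.Agent.S4658.result p M hM R P g e hRg hPe hle B hB).mpr hBe
    have hRP : R = P := hmaxim R g hBRg hle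
    apply hDP
    apply le_antisymm _ hPD
    intro d hd
    have h1 : ((x⁻¹ * d * x : Subgroup.normalizer (P : Set G)) : G) ∈ R :=
      (hRmem _).mpr ⟨d, hd, rfl⟩
    rw [hRP] at h1
    have h2 : x⁻¹ * d * x ∈ P.subgroupOf (Subgroup.normalizer (P : Set G)) :=
      Subgroup.mem_subgroupOf.mpr h1
    have h3 := hnormal.conj_mem _ h2 x
    have h4 : x * (x⁻¹ * d * x) * x⁻¹ = d := by group
    rwa [h4] at h3

/-- Fix a prime p and a maximal ideal M of the algebraic integers containing p. If (P, e) is a maximal Brauer pair of the p-block B of the finite group G, then P is a defect group of B. -/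
theorem result {G : Type*} [Group G] [Fintype G] (p : ℕ) [Fact p.Prime] (M : Ideal Cfsg.AlgInt) (hM : Cfsg.IsPModular p M) (B : Set (Cfsg.IrrCharacter G)) (P : Subgroup G) (e : Set (Cfsg.IrrCharacter (Subgroup.centralizer (P : Set G)))) (hmax : Cfsg.IsMaximalBrauerPair p M B P e) : Cfsg.IsDefectGroup p M B P := by
  exact result' p M hM B P e hmax

end Cfsg.Agent.S4659
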