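import Cfsg.Statements.S4660
import Mathlib
import Cfsg.Agent.Lib.Helper24.PairConj2
import Cfsg.Agent.S4659

set_option autoImplicit false
open Cfsg

namespace Cfsg.Agent.S4660

open Cfsg.Agent.CharLib Cfsg.Agent.Lib.Helper24 Cfsg.Agent.Lib.Helper6
open scoped ComplexConjugate
universe u

theorem result' {G : Type u} [Group G] [Fintype G] (p : ℕ) [Fact p.Prime] (M : Ideal Cfsg.AlgInt) (hM : Cfsg.IsPModular p M) (B : Set (Cfsg.IrrCharacter G)) (P Q : Subgroup G) (e : Set (Cfsg.IrrCharacter (Subgroup.centralizer (P : Set G)))) (f : Set (Cfsg.IrrCharacter (Subgroup.centralizer (Q : Set G)))) (hmax : Cfsg.IsMaximalBrauerPair p M B P e) (hQf : Cfsg.IsBrauerPairOf p M B Q f) : ∃ x : G, Cfsg.SubpairLE p M (Q.map (MulAut.conj x).toMonoidHom) (Cfsg.conjBlock Q x f) P e := by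
  obtain ⟨R, g, hmaxR, hle⟩ := exists_maximal_ge (M := M) p B _ Q f hQf rfl
  have hRD := Cfsg.Agent.S4659.result p M hM B R g hmaxR
  have hPD := Cfsg.Agent.S4659.result p M hM B P e hmax
  obtain ⟨c, hc⟩ := Cfsg.Agent.Lib.Helper23.isDefectGroup_conj_of_isDefectGroup hM hmax.1.2.1 hRD hPD
  obtain ⟨z, hz⟩ := exists_cjPair_eq hM B P hPD e hmax.1 R g hmaxR.1 c hc.symm
  refine ⟨z, ?_⟩
  have h1 := reflTransGen_cjPair (M := M) p z ⟨Q, f⟩ ⟨R, g⟩ hle
  rw [hz] at h1
  exact h1

/-- Fix a prime p and a maximal ideal M of the algebraic integers containing p. Let (P, e) be a maximal Brauer pair of the p-block B of the finite group G and (Q, f) any Brauer pair of B. Then some conjugate of (Q, f) lies below (P, e): there is x in G such that (x Q x⁻¹, conjugate of f by x) ≤ (P, e). -/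
theorem result {G : Type*} [Group G] [Fintype G] (p : ℕ) [Fact p.Prime] (M : Ideal Cfsg.AlgInt) (hM : Cfsg.IsPModular p M) (B : Set (Cfsg.IrrCharacter G)) (P Q : Subgroup G) (e : Set (Cfsg.IrrCharacter (Subgroup.centralizer (P : Set G)))) (f : Set (Cfsg.IrrCharacter (Subgroup.centralizer (Q : Set G)))) (hmax : Cfsg.IsMaximalBrauerPair p M B P e) (hQf : Cfsg.IsBrauerPairOf p M B Q f) : ∃ x : G, Cfsg.SubpairLE p M (Q.map (MulAut.conj x).toMonoidHom) (Cfsg.conjBlock Q x f) P e := by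
  exact result' p M hM B P Q e f hmax hQf

end Cfsg.Agent.S4660
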