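import Cfsg.Statements.S4662
import Mathlib
import Cfsg.Agent.Lib.Helper24.StabTransport
import Cfsg.Agent.Lib.Helper24.SubpairChain
import Cfsg.Agent.Lib.Helper24.BlockFusion
import Cfsg.Agent.Lib.Helper23.QuotDefectAux
import Cfsg.Agent.S4656
import Cfsg.Agent.S4658
import Cfsg.Agent.S4659
import Cfsg.Agent.S4660

set_option autoImplicit false
open Cfsg

namespace Cfsg.Agent.S4662

open Cfsg.Agent.CharLib Cfsg.Agent.Lib.Helper24 Cfsg.Agent.Lib.Helper6
open scoped ComplexConjugate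
universe u

/-- `N_P(Q) ≤ T` and it lies in (the subgroup of) a maximal Brauer pair of the block `F` of
`T = N_G(Q, f)` with the idempotent of `f`. -/
theorem exists_maximal_pair_ge_T {G : Type u} [Group G] [Fintype G] (p : ℕ) [Fact p.Prime]
    (M : Ideal Cfsg.AlgInt) (hM : Cfsg.IsPModular p M) (P Q : Subgroup G)
    (e : Set (Cfsg.IrrCharacter (Subgroup.centralizer (P : Set G))))
    (f : Set (Cfsg.IrrCharacter (Subgroup.centralizer (Q : Set G))))
    (hPe : IsBrauerPair p M P e) (hQP : Q ≤ P) (hf : IsPBlock M f)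
    (hle : Cfsg.SubpairLE p M Q f P e) (T : Subgroup G)
    (hT : ∀ y : G, y ∈ T ↔ y ∈ Subgroup.normalizer (Q : Set G) ∧
      StabilizesBlock (Subgroup.centralizer (Q : Set G)) f y)
    (F : Set (IrrCharacter T)) (hF : IsPBlock M F)
    (hFf : ∀ t : T, blockCoeff F t =
      subgroupBlockCoeff (Subgroup.centralizer (Q : Set G)) f (t : G)) :
    ∃ (D : Subgroup T) (gD : Set (IrrCharacter (Subgroup.centralizer (D : Set T)))),
      IsMaximalBrauerPair p M F D gD ∧
        (P ⊓ Subgroup.normalizer (Q : Set G)).subgroupOf T ≤ D := by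
  classical
  have hQ : IsPGroup p Q := hPe.1.to_le hQP
  have hQR : Q ≤ P ⊓ Subgroup.normalizer (Q : Set G) := le_inf hQP Subgroup.le_normalizer
  have hRP : P ⊓ Subgroup.normalizer (Q : Set G) ≤ P := inf_le_left
  have hRp : IsPGroup p (P ⊓ Subgroup.normalizer (Q : Set G) : Subgroup G) := hPe.1.to_le hRP
  obtain ⟨g, hg, hRPle⟩ := exists_subpairLE hM P e hPe _ hRP
  obtain ⟨f', hf', hQRle⟩ := exists_subpairLE hM _ g ⟨hRp, hg⟩ Q hQR
  have e1 : f' = f := subpairLE_unique hM _ P e Q f' f rfl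
    (Relation.ReflTransGen.trans hQRle hRPle) hle
  rw [e1] at hQRle
  obtain ⟨f'', hf'', -⟩ := Cfsg.Agent.S4656.result' p M hM _ Q g ⟨hRp, hg⟩ hQR inf_le_right
  have e2 : f'' = f := subpairLE_unique hM _ _ g Q f'' f rfl
    (Relation.ReflTransGen.single hf'') hQRle
  rw [e2] at hf''
  have hRT : P ⊓ Subgroup.normalizer (Q : Set G) ≤ T := fun x hx =>
    (hT x).mpr ⟨hx.2, hf''.2.2.2.2.1 x hx⟩
  have hR : P ⊓ Subgroup.normalizer (Q : Set G) =
      ((P ⊓ Subgroup.normalizer (Q : Set G)).subgroupOf T).map T.subtype :=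
    (Subgroup.map_subgroupOf_eq_of_le hRT).symm
  have hC : Subgroup.centralizer ((P ⊓ Subgroup.normalizer (Q : Set G) : Subgroup G) : Set G) ≤ T :=
    (Subgroup.centralizer_le hQR).trans (centralizer_le_stab Q T f hT)
  have hpair := (isNormalSubpair_iff_isBrauerPairOf_T (M := M) Q T _ _ hQ f hf hT F hF hFf hR hQR hC
    g).mp hf''
  let _ : Fintype T := Fintype.ofFinite _
  obtain ⟨D, gD, hmax, hleD⟩ := exists_maximal_ge (M := M) p F _ _ _ hpair rfl
  exact ⟨D, gD, hmax, Cfsg.Agent.S4681.le_of_subpairLE p M _ _ D gD hleD⟩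

theorem result' {G : Type u} [Group G] [Fintype G] (p : ℕ) [Fact p.Prime] (M : Ideal Cfsg.AlgInt) (hM : Cfsg.IsPModular p M) (B : Set (Cfsg.IrrCharacter G)) (P Q : Subgroup G) (e : Set (Cfsg.IrrCharacter (Subgroup.centralizer (P : Set G)))) (f : Set (Cfsg.IrrCharacter (Subgroup.centralizer (Q : Set G)))) (hmax : Cfsg.IsMaximalBrauerPair p M B P e) (hQP : Q ≤ P) (hf : Cfsg.IsPBlock M f) (hle : Cfsg.SubpairLE p M Q f P e) (T : Subgroup G) (hT : ∀ y : G, y ∈ T ↔ y ∈ Subgroup.normalizer (Q : Set G) ∧ Cfsg.StabilizesBlock (Subgroup.centralizer (Q : Set G)) f y) : (∃ F : Set (Cfsg.IrrCharacter T), Cfsg.IsPBlock M F ∧ (∀ t : T, Cfsg.blockCoeff F t = Cfsg.subgroupBlockCoeff (Subgroup.centralizer (Q : Set G)) f (t : G)) ∧ ∃ D : Subgroup T, Cfsg.IsDefectGroup p M F D ∧ (P ⊓ Subgroup.normalizer (Q : Set G)).subgroupOf T ≤ D) ∧ ∃ x : G, Cfsg.SubpairLE p M (Q.map (MulAut.conj x).toMonoidHom) (Cfsg.conjBlock Q x f) P e ∧ ∀ (T' : Subgroup G), (∀ y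 : G, y ∈ T' ↔ y ∈ Subgroup.normalizer ((Q.map (MulAut.conj x).toMonoidHom) : Set G) ∧ Cfsg.StabilizesBlock (Subgroup.centralizer ((Q.map (MulAut.conj x).toMonoidHom) : Set G)) (Cfsg.conjBlock Q x f) y) → ∃ F' : Set (Cfsg.IrrCharacter T'), Cfsg.IsPBlock M F' ∧ (∀ t : T', Cfsg.blockCoeff F' t = Cfsg.subgroupBlockCoeff (Subgroup.centralizer ((Q.map (MulAut.conj x).toMonoidHom) : Set G)) (Cfsg.conjBlock Q x f) (t : G)) ∧ Cfsg.IsDefectGroup p M F' ((P ⊓ Subgroup.normalizer ((Q.map (MulAut.conj x).toMonoidHom) : Set G)).subgroupOf T') := by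
  classical
  haveI hprime : M.IsPrime := isPrime_of_isPModular hM
  have hPe : IsBrauerPair p M P e := hmax.1.1
  have hB : IsPBlock M B := hmax.1.2.1
  have hQ : IsPGroup p Q := hPe.1.to_le hQP
  let _ : Fintype T := Fintype.ofFinite _
  obtain ⟨F, hF, hFf⟩ := exists_block_stab hM Q T hQ f hf hT
  obtain ⟨D, gD, hmaxD, hNPD⟩ := exists_maximal_pair_ge_T p M hM P Q e f hPe hQP hf hle T hT F hF hFf
  have hDdef : IsDefectGroup p M F D := Cfsg.Agent.S4659.result p M hM F D gD hmaxD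
  refine ⟨⟨F, hF, hFf, D, hDdef, hNPD⟩, ?_⟩
  have hQT : Q ≤ T := le_stab Q T f hT
  haveI hQnormal : (Q.subgroupOf T).Normal := by
    constructor
    intro n hn g
    rw [Subgroup.mem_subgroupOf] at hn ⊢
    have hgN := ((hT (g : G)).mp g.2).1
    exact (Subgroup.mem_normalizer_iff.mp hgN _).mp hn
  have hQ'D : Q.subgroupOf T ≤ D :=
    le_of_isDefectGroup_of_normal hM (Q.subgroupOf T) hQ.comap_subtype hF hDdef
  have hQR : Q ≤ D.map T.subtype := by
    intro q hq
    exact ⟨⟨q, hQT hq⟩, hQ'D (Subgroup.mem_subgroupOf.mpr hq), rfl⟩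
  have hC : Subgroup.centralizer ((D.map T.subtype : Subgroup G) : Set G) ≤ T :=
    (Subgroup.centralizer_le hQR).trans (centralizer_le_stab Q T f hT)
  set g := BlockIso.pullBlock (centEquivT T _ D rfl hC).symm gD with hgdef
  have hgD : BlockIso.pullBlock (centEquivT T _ D rfl hC) g = gD := by
    rw [hgdef]
    exact BlockIso.pullBlock_symm_pullBlock (centEquivT T _ D rfl hC).symm gD
  have hnorm : IsNormalSubpair p M Q f (D.map T.subtype) g := by
    rw [isNormalSubpair_iff_isBrauerPairOf_T (M := M) Q T _ D hQ f hf hT F hF hFf rfl hQR hC g, hgD]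
    exact hmaxD.1
  have hQfB : IsBrauerPairOf p M B Q f :=
    (Cfsg.Agent.S4658.result p M hM P Q e f hPe ⟨hQ, hf⟩ hle B hB).mp hmax.1
  have hRgB : IsBrauerPairOf p M B (D.map T.subtype) g :=
    (Cfsg.Agent.S4658.result p M hM _ Q g f hnorm.2.1 ⟨hQ, hf⟩
      (Relation.ReflTransGen.single hnorm) B hB).mpr hQfB
  obtain ⟨x, hx⟩ := Cfsg.Agent.S4660.result p M hM B P _ e g hmax hRgB
  have hnormx := isNormalSubpair_conj (M := M) p x Q _ f g hnorm
  have hlex : SubpairLE p M (Q.map (MulAut.conj x).toMonoidHom) (conjBlock Q x f) P e := by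
    have hstep : NormalSubpairRel p M ⟨Q.map (MulAut.conj x).toMonoidHom, conjBlock Q x f⟩
        ⟨(D.map T.subtype).map (MulAut.conj x).toMonoidHom, conjBlock _ x g⟩ := hnormx
    exact Relation.ReflTransGen.head hstep hx
  refine ⟨x, hlex, ?_⟩
  intro T' hT'
  have hmem := mem_stab_conj_iff Q T T' x f hT hT'
  let _ : Fintype T' := Fintype.ofFinite _
  set ψ := stabEquiv x T T' hmem with hψ
  have hF' : IsPBlock M (BlockIso.pullBlock ψ F) := BlockIso.isPBlock_pullBlock ψ hF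
  have hF'f : ∀ t : T', blockCoeff (BlockIso.pullBlock ψ F) t =
      subgroupBlockCoeff (Subgroup.centralizer
        ((Q.map (MulAut.conj x).toMonoidHom : Subgroup G) : Set G)) (conjBlock Q x f) (t : G) := by
    intro t
    rw [BlockIso.blockCoeff_pullBlock, hFf, subgroupBlockCoeff_conjBlock]
    rfl
  refine ⟨BlockIso.pullBlock ψ F, hF', hF'f, ?_⟩
  have hDx : IsDefectGroup p M (BlockIso.pullBlock ψ F) (D.comap ψ.toMonoidHom) :=
    BlockIso.isDefectGroup_pullBlock ψ hDdef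
  have hQxP : Q.map (MulAut.conj x).toMonoidHom ≤ P :=
    Cfsg.Agent.S4681.le_of_subpairLE p M _ _ P e hlex
  have hRxP : (D.map T.subtype).map (MulAut.conj x).toMonoidHom ≤ P :=
    Cfsg.Agent.S4681.le_of_subpairLE p M _ _ P e hx
  have hDxle : D.comap ψ.toMonoidHom ≤
      (P ⊓ Subgroup.normalizer ((Q.map (MulAut.conj x).toMonoidHom : Subgroup G) : Set G)).subgroupOf
        T' := by
    intro t' ht'
    rw [Subgroup.mem_subgroupOf, Subgroup.mem_inf]
    refine ⟨?_, ((hT' _).mp t'.2).1⟩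
    apply hRxP
    rw [mem_map_conj_iff]
    have h1 : ψ t' ∈ D := ht'
    exact ⟨ψ t', h1, rfl⟩
  obtain ⟨D₂, gD₂, hmaxD₂, hNPD₂⟩ := exists_maximal_pair_ge_T p M hM P
    (Q.map (MulAut.conj x).toMonoidHom) e (conjBlock Q x f) hPe hQxP
    (isPBlock_conjBlock Q x hf) hlex T' hT' _ hF' hF'f
  have hD₂def : IsDefectGroup p M (BlockIso.pullBlock ψ F) D₂ :=
    Cfsg.Agent.S4659.result p M hM _ D₂ gD₂ hmaxD₂
  have hcard : Nat.card D₂ ≤ Nat.card (D.comap ψ.toMonoidHom) :=
    card_le_of_isDefectGroup hM hF' hD₂def hDx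
  have heq : D.comap ψ.toMonoidHom = D₂ :=
    Subgroup.eq_of_le_of_card_ge (hDxle.trans hNPD₂) hcard
  have heq2 : (P ⊓ Subgroup.normalizer
      ((Q.map (MulAut.conj x).toMonoidHom : Subgroup G) : Set G)).subgroupOf T' = D₂ :=
    le_antisymm hNPD₂ (heq ▸ hDxle)
  rw [heq2]
  exact hD₂def

/-- Fix a prime p and a maximal ideal M of the algebraic integers containing p. Let (P, e) be a maximal Brauer pair of the p-block B of the finite group G, Q ≤ P, and f the p-block of C_G(Q) with (Q, f) ≤ (P, e). Let T be the stabilizer of f in N_G(Q). Then the idempotent of f is a block idempotent of T, and N_P(Q) is contained in a defect group of that block of T; moreover for some x in G the conjugate pair (x Q x⁻¹, conjugate of f) again lies below (P, e) and, with T' the stabilizer of the conjugate of f in N_G(x Q x⁻¹), N_P(x Q x⁻¹) is a defect group of the block of T' whose idempotent is that of the conjugate of f. -/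
theorem result {G : Type*} [Group G] [Fintype G] (p : ℕ) [Fact p.Prime] (M : Ideal Cfsg.AlgInt) (hM : Cfsg.IsPModular p M) (B : Set (Cfsg.IrrCharacter G)) (P Q : Subgroup G) (e : Set (Cfsg.IrrCharacter (Subgroup.centralizer (P : Set G)))) (f : Set (Cfsg.IrrCharacter (Subgroup.centralizer (Q : Set G)))) (hmax : Cfsg.IsMaximalBrauerPair p M B P e) (hQP : Q ≤ P) (hf : Cfsg.IsPBlock M f) (hle : Cfsg.SubpairLE p M Q f P e) (T : Subgroup G) (hT : ∀ y : G, y ∈ T ↔ y ∈ Subgroup.normalizer (Q : Set G) ∧ Cfsg.StabilizesBlock (Subgroup.centralizer (Q : Set G)) f y) : (∃ F : Set (Cfsg.IrrCharacter T), Cfsg.IsPBlock M F ∧ (∀ t : T, Cfsg.blockCoeff F t = Cfsg.subgroupBlockCoeff (Subgroup.centralizer (Q : Set G)) f (t : G)) ∧ ∃ D : Subgroup T, Cfsg.IsDefectGroup p M F D ∧ (P ⊓ Subgroup.normalizer (Q : Set G)).subgroupOf T ≤ D) ∧ ∃ x : G, Cfsg.SubpairLE p M (Q.map (MulAut.conj x).toMonoidHom) (Cfsg.conjBlock Q x f) P e ∧ ∀ (T' : Subgroup G), (∀ y : G,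 y ∈ T' ↔ y ∈ Subgroup.normalizer ((Q.map (MulAut.conj x).toMonoidHom) : Set G) ∧ Cfsg.StabilizesBlock (Subgroup.centralizer ((Q.map (MulAut.conj x).toMonoidHom) : Set G)) (Cfsg.conjBlock Q x f) y) → ∃ F' : Set (Cfsg.IrrCharacter T'), Cfsg.IsPBlock M F' ∧ (∀ t : T', Cfsg.blockCoeff F' t = Cfsg.subgroupBlockCoeff (Subgroup.centralizer ((Q.map (MulAut.conj x).toMonoidHom) : Set G)) (Cfsg.conjBlock Q x f) (t : G)) ∧ Cfsg.IsDefectGroup p M F' ((P ⊓ Subgroup.normalizer ((Q.map (MulAut.conj x).toMonoidHom) : Set G)).subgroupOf T') := by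
  exact result' p M hM B P Q e f hmax hQP hf hle T hT

end Cfsg.Agent.S4662
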