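import Cfsg.Statements.S0938
-- import your own Cfsg.Agent.* helpers here

import Mathlib
import Cfsg.Agent.Lib.Helper6.Osima2
import Cfsg.Agent.Lib.Helper6.QuotBlock
import Cfsg.Agent.Lib.Helper25.Gagola

set_option autoImplicit false
open Cfsg

namespace Cfsg.Agent.S0938

open Cfsg.Agent.Lib.Helper6 Cfsg.Agent.Lib.Helper24 Cfsg.Agent.Lib.Helper25 Cfsg.Agent.CharLib
open scoped ComplexConjugate

/-- A normal `p'`-subgroup in the kernel of `χ` lies in the kernel of every character in the block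
of `χ`. -/
theorem le_ker_of_sameBlock {G : Type*} [Group G] [Finite G] {p : ℕ} {M : Ideal AlgInt}
    (hM : IsPModular p M) (N : Subgroup G) [N.Normal] (hNp : ¬ p ∣ Nat.card N)
    (χ ψ : IrrCharacter G) (h : SameBlock M (χ : G → ℂ) (ψ : G → ℂ))
    (hχ : ∀ n ∈ N, (χ : G → ℂ) n = (χ : G → ℂ) 1) :
    ∀ n ∈ N, (ψ : G → ℂ) n = (ψ : G → ℂ) 1 := by
  classical
  let _ := Fintype.ofFinite G
  let _ := Fintype.ofFinite N
  have h0 : classInner (resFun N (χ : G → ℂ)) (1 : N → ℂ) ≠ 0 := by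
    unfold classInner
    have h2 : ∀ n : N, resFun N (χ : G → ℂ) n * conj ((1 : N → ℂ) n) = (χ : G → ℂ) 1 := by
      intro n
      rw [resFun_apply, hχ n n.2]
      simp
    rw [Finset.sum_congr rfl (fun n _ => h2 n), Finset.sum_const, Finset.card_univ, nsmul_eq_mul,
      ← Nat.card_eq_fintype_card]
    have hN0 : (Nat.card N : ℂ) ≠ 0 := Nat.cast_ne_zero.mpr Nat.card_pos.ne'
    rw [← mul_assoc, inv_mul_cancel₀ hN0, one_mul]
    exact irr_apply_one_ne_zero χ
  have h1 := (constituent_iff_of_sameBlock hM N hNp χ ψ h (isIrrCharacter_one N)).mp h0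
  have h3 := clifford_of_invariant N ψ.2 (isIrrCharacter_one N) h1 (fun g => rfl)
  intro n hn
  have h4 := congrFun h3 ⟨n, hn⟩
  have h5 := congrFun h3 1
  rw [resFun_apply] at h4 h5
  rw [Pi.smul_apply] at h4 h5
  change (ψ : G → ℂ) n = _ at h4
  change (ψ : G → ℂ) 1 = _ at h5
  rw [h4, h5]
  rfl

/-- Let B be a block of the finite group G relative to a maximal ideal M of the algebraic integers containing the prime p, and let χ ∈ B. Then the kernel of B (the set of g with ψ g = ψ 1 for all ψ ∈ B) is a normal subgroup of order prime to p contained in the kernel of χ, and it contains every normal subgroup of order prime to p on which χ takes the value χ(1); that is, it is O_p' of the kernel of χ. -/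
theorem result {G : Type*} [Group G] [Finite G] (p : ℕ) [Fact p.Prime] (M : Ideal Cfsg.AlgInt) (hM : Cfsg.IsPModular p M) (B : Set (Cfsg.IrrCharacter G)) (hB : Cfsg.IsPBlock M B) (χ : Cfsg.IrrCharacter G) (hχ : χ ∈ B) : ∃ K : Subgroup G, K.Normal ∧ (K : Set G) = Cfsg.blockKer B ∧ ¬ p ∣ Nat.card K ∧ (∀ g ∈ K, (χ : G → ℂ) g = (χ : G → ℂ) 1) ∧ ∀ N : Subgroup G, N.Normal → ¬ p ∣ Nat.card N → (∀ g ∈ N, (χ : G → ℂ) g = (χ : G → ℂ) 1) → N ≤ K := by
  classical
  let _ := Fintype.ofFinite G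
  let _ := fintypeIrr G
  have hprime : M.IsPrime := isPrime_of_isPModular hM
  obtain ⟨χ₀, rfl⟩ := hB
  set B := blockOf M (χ₀ : G → ℂ) with hBdef
  let K : Subgroup G := ⨅ ψ : B, irrKer (ψ : IrrCharacter G)
  have hKmem : ∀ g : G, g ∈ K ↔ ∀ ψ ∈ B, (ψ : G → ℂ) g = (ψ : G → ℂ) 1 := by
    intro g
    simp only [K, Subgroup.mem_iInf, mem_irrKer]
    constructor
    · intro h ψ hψ
      exact h ⟨ψ, hψ⟩
    · intro h ψ
      exact h ψ.1 ψ.2
  have hKn : K.Normal := Subgroup.normal_iInf_normal (fun ψ => inferInstance)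
  refine ⟨K, hKn, ?_, ?_, ?_, ?_⟩
  · ext g
    exact hKmem g
  · intro hp
    obtain ⟨k, hk⟩ := exists_prime_orderOf_dvd_card' (G := K) p hp
    have hkG : p ∣ orderOf (k : G) := by rw [Subgroup.orderOf_coe, hk]
    have h1 := blockCoeff_eq_zero_of_dvd_orderOf hM χ₀ (k : G) hkG
    rw [blockCoeff_eq_sum] at h1
    have hG0 : (Nat.card G : ℂ) ≠ 0 := Nat.cast_ne_zero.mpr Nat.card_pos.ne'
    rcases mul_eq_zero.mp h1 with h2 | h2
    · exact absurd (inv_eq_zero.mp h2) hG0
    · -- the sum is a sum of squares of degrees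
      have h3 : ∑ ψ : IrrCharacter G, (if ψ ∈ B then (ψ : G → ℂ) 1 * conj ((ψ : G → ℂ) (k : G))
          else 0) = ((∑ ψ : IrrCharacter G, (if ψ ∈ B then charDegree (ψ : G → ℂ) *
            charDegree (ψ : G → ℂ) else 0) : ℕ) : ℂ) := by
        push_cast
        apply Finset.sum_congr rfl
        intro ψ _
        by_cases hψ : ψ ∈ B
        · rw [if_pos hψ, if_pos hψ, (hKmem k).mp k.2 ψ hψ, irr_apply_one, Complex.conj_natCast]
        · rw [if_neg hψ, if_neg hψ]
      rw [h3] at h2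
      have h4 : (∑ ψ : IrrCharacter G, (if ψ ∈ B then charDegree (ψ : G → ℂ) *
            charDegree (ψ : G → ℂ) else 0) : ℕ) = 0 := by exact_mod_cast h2
      have h5 := (Finset.sum_eq_zero_iff.mp h4) χ (Finset.mem_univ _)
      rw [if_pos hχ] at h5
      have := irr_charDegree_pos χ
      have h6 : charDegree (χ : G → ℂ) = 0 := by
        rcases Nat.mul_eq_zero.mp h5 with h | h <;> exact h
      omega
  · intro g hg
    exact (hKmem g).mp hg χ hχ
  · intro N hN hNp hNχ n hn
    haveI := hN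
    rw [hKmem]
    intro ψ hψ
    have hsame : SameBlock M (χ : G → ℂ) (ψ : G → ℂ) :=
      sameBlock_trans (sameBlock_symm hχ) hψ
    exact le_ker_of_sameBlock hM N hNp χ ψ hsame hNχ n hn

end Cfsg.Agent.S0938
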