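import Cfsg.Statements.S0939
-- import your own Cfsg.Agent.* helpers here

import Mathlib
import Cfsg.Agent.Lib.Helper6.QuotBlock
import Cfsg.Agent.Lib.Helper12.Cores
import Cfsg.Agent.Lib.Helper24.PSolvable

set_option autoImplicit false
open Cfsg

namespace Cfsg.Agent.S0939

open Cfsg.Agent.Lib.Helper6 Cfsg.Agent.Lib.Helper24 Cfsg.Agent.CharLib

/-- Let G be a finite group with a normal p-complement (the largest normal subgroup O_p'(G) of order prime to p has p-power index). Then, relative to any maximal ideal M of the algebraic integers containing p, the principal block of G is the set of irreducible characters χ with χ n = χ 1 for every n ∈ O_p'(G). -/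
theorem result {G : Type*} [Group G] [Finite G] (p : ℕ) [Fact p.Prime] (M : Ideal Cfsg.AlgInt) (hM : Cfsg.IsPModular p M) (hnc : ∃ k : ℕ, (Cfsg.pPrimeCore p G).index = p ^ k) : Cfsg.principalBlock M G = {χ : Cfsg.IrrCharacter G | ∀ n ∈ Cfsg.pPrimeCore p G, (χ : G → ℂ) n = (χ : G → ℂ) 1} := by
  haveI hn : (Cfsg.pPrimeCore p G).Normal := pPrimeCore_normal' p
  have hcop : ¬ p ∣ Nat.card (Cfsg.pPrimeCore p G) := by
    intro hd
    have h1 := Cfsg.Agent.Lib.Helper12.pPrimeCore_coprime (X := G) p
    have h2 := Nat.Coprime.eq_one_of_dvd h1.symm hd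
    exact (Fact.out : p.Prime).one_lt.ne' h2
  obtain ⟨k, hk⟩ := hnc
  have hP : IsPGroup p (G ⧸ Cfsg.pPrimeCore p G) := by
    apply IsPGroup.of_card (n := k)
    rw [← Subgroup.index_eq_card, hk]
  ext χ
  constructor
  · intro h
    exact le_ker_of_sameBlock_one hM (Cfsg.pPrimeCore p G) hcop χ h
  · intro h
    exact sameBlock_one_of_le_ker hM (Cfsg.pPrimeCore p G) hP χ h

end Cfsg.Agent.S0939
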