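import Cfsg.Statements.S4646
import Mathlib
import Cfsg.Agent.S4691
import Cfsg.Agent.S0938
import Cfsg.Agent.S0939
import Cfsg.Agent.Lib.Helper12.PComplement
import Cfsg.Agent.Lib.Helper12.PNilpotent

set_option autoImplicit false
open Cfsg

namespace Cfsg.Agent.S4646

open Cfsg.Agent.CharLib Cfsg.Agent.Lib.Helper24 Cfsg.Agent.Lib.Helper6

universe u

section
variable {G : Type u} [Group G]

theorem pRegularPart_apply_of_regular (p : ℕ) (χ : G → ℂ) {g : G} (hg : IsPRegular p g) :
    pRegularPart p χ g = χ g := by
  unfold pRegularPart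
  rw [if_pos hg]

theorem pRegularPart_apply_of_not_regular (p : ℕ) (χ : G → ℂ) {g : G} (hg : ¬ IsPRegular p g) :
    pRegularPart p χ g = 0 := by
  unfold pRegularPart
  rw [if_neg hg]

theorem isPRegular_one (p : ℕ) [hp : Fact p.Prime] : IsPRegular p (1 : G) := by
  unfold IsPRegular
  rw [orderOf_one]
  exact hp.out.one_lt.ne' ∘ Nat.dvd_one.mp

theorem trivIrr_mem_principalBlock (M : Ideal AlgInt) [hprime : M.IsPrime] [Finite G] :
    trivIrr G ∈ principalBlock M G :=
  mem_blockOf_self (trivIrr G)

/-- if the index of a normal subgroup is a power of `p`, it contains the `p`-regular elements -/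
theorem mem_of_isPRegular_of_index [Finite G] (p : ℕ) [hp : Fact p.Prime] (K : Subgroup G)
    [K.Normal] (k : ℕ) (hK : K.index = p ^ k) {g : G} (hg : IsPRegular p g) : g ∈ K := by
  have h1 : g ^ (p ^ k) ∈ K := by
    rw [← QuotientGroup.eq_one_iff, QuotientGroup.mk_pow]
    have : Nat.card (G ⧸ K) = p ^ k := by rw [← hK]; rfl
    rw [← this]
    exact pow_card_eq_one'
  have hcop : (p ^ k).Coprime (orderOf g) := by
    apply Nat.Coprime.pow_left
    exact (Nat.Prime.coprime_iff_not_dvd hp.out).mpr hg
  obtain ⟨m, hm⟩ := exists_pow_eq_self_of_coprime hcop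
  rw [← hm]
  exact K.pow_mem h1 m

end

theorem result' {G : Type u} [Group G] [Finite G] (p : ℕ) [Fact p.Prime] (M : Ideal Cfsg.AlgInt) (hM : Cfsg.IsPModular p M) : Cfsg.IsNilpotentBlock p M (Cfsg.principalBlock M G) ↔ Cfsg.blockRank p (Cfsg.principalBlock M G) = 1 := by
  classical
  haveI hprime : M.IsPrime := isPrime_of_isPModular hM
  have hp : p.Prime := Fact.out
  let _ : Fintype G := Fintype.ofFinite G
  rw [← Cfsg.Agent.S4691.result p M hM]
  set ind : G → ℂ := pRegularPart p (fun _ => (1 : ℂ)) with hind
  have hind1 : ind 1 = 1 := pRegularPart_apply_of_regular p _ (isPRegular_one p)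
  have hind0 : ind ≠ 0 := by
    intro h
    have := congrFun h 1
    rw [hind1] at this
    exact one_ne_zero this
  have hindmem : ind ∈ (fun χ : IrrCharacter G => pRegularPart p (χ : G → ℂ)) ''
      (principalBlock M G) := ⟨trivIrr G, trivIrr_mem_principalBlock M, rfl⟩
  constructor
  · intro hnc
    -- the index of the p'-core is a power of p
    obtain ⟨P, N, hNn, hN⟩ := hnc
    have hNcop : (Nat.card N).Coprime p :=
      Cfsg.Agent.Lib.Helper12.coprime_card_of_isComplement' P N hN
    have hNle : N ≤ pPrimeCore p G := le_sSup ⟨hNn, hNcop⟩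
    have hidxN : N.index = Nat.card P := hN.symm.index_eq_card
    obtain ⟨n, hn⟩ := IsPGroup.iff_card.mp P.isPGroup'
    have hdvd : (pPrimeCore p G).index ∣ p ^ n := by
      rw [← hn, ← hidxN]
      exact Subgroup.index_dvd_of_le hNle
    obtain ⟨k, _, hk⟩ := (Nat.dvd_prime_pow hp).mp hdvd
    have hB := Cfsg.Agent.S0939.result p M hM ⟨k, hk⟩
    haveI : (pPrimeCore p G).Normal := pPrimeCore_normal' p
    have hspan : Submodule.span ℂ ((fun χ : IrrCharacter G => pRegularPart p (χ : G → ℂ)) ''
        (principalBlock M G)) = Submodule.span ℂ {ind} := by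
      apply le_antisymm
      · rw [Submodule.span_le]
        rintro _ ⟨χ, hχ, rfl⟩
        rw [hB] at hχ
        have : pRegularPart p (χ : G → ℂ) = ((χ : G → ℂ) 1) • ind := by
          funext g
          rw [Pi.smul_apply, smul_eq_mul]
          by_cases hg : IsPRegular p g
          · rw [pRegularPart_apply_of_regular p _ hg, hind, pRegularPart_apply_of_regular p _ hg,
              mul_one]
            exact hχ g (mem_of_isPRegular_of_index p _ k hk hg)
          · rw [pRegularPart_apply_of_not_regular p _ hg, hind,
              pRegularPart_apply_of_not_regular p _ hg, mul_zero]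
        change pRegularPart p (χ : G → ℂ) ∈ _
        rw [this]
        exact Submodule.smul_mem _ _ (Submodule.mem_span_singleton_self ind)
      · rw [Submodule.span_le]
        intro v hv
        rw [Set.mem_singleton_iff] at hv
        rw [hv]
        exact Submodule.subset_span hindmem
    unfold blockRank
    rw [hspan]
    exact finrank_span_singleton hind0
  · intro hrank
    unfold blockRank at hrank
    set V := Submodule.span ℂ ((fun χ : IrrCharacter G => pRegularPart p (χ : G → ℂ)) ''
        (principalBlock M G)) with hV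
    have hindV : ind ∈ V := Submodule.subset_span hindmem
    have hnz : (⟨ind, hindV⟩ : V) ≠ 0 := by
      intro h
      exact hind0 (congrArg Subtype.val h)
    have hall := (finrank_eq_one_iff_of_nonzero' (⟨ind, hindV⟩ : V) hnz).mp hrank
    -- every member of the principal block is constant on p-regular elements
    have hconst : ∀ χ ∈ principalBlock M G, ∀ g : G, IsPRegular p g →
        (χ : G → ℂ) g = (χ : G → ℂ) 1 := by
      intro χ hχ g hg
      have hχV : pRegularPart p (χ : G → ℂ) ∈ V := Submodule.subset_span ⟨χ, hχ, rfl⟩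
      obtain ⟨c, hc⟩ := hall ⟨_, hχV⟩
      have hc' : c • ind = pRegularPart p (χ : G → ℂ) := congrArg Subtype.val hc
      have h1 := congrFun hc' 1
      rw [Pi.smul_apply, hind1, smul_eq_mul, mul_one,
        pRegularPart_apply_of_regular p _ (isPRegular_one p)] at h1
      have h2 := congrFun hc' g
      rw [Pi.smul_apply, hind, pRegularPart_apply_of_regular p _ hg, smul_eq_mul, mul_one,
        pRegularPart_apply_of_regular p _ hg] at h2
      rw [← h2, h1]
    obtain ⟨K, hKn, hKset, hKp, _, _⟩ := Cfsg.Agent.S0938.result p M hM (principalBlock M G)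
      ⟨trivIrr G, rfl⟩ (trivIrr G) (trivIrr_mem_principalBlock M)
    have hmem : ∀ g : G, (orderOf g).Coprime p → g ∈ K := by
      intro g hg
      have hg' : IsPRegular p g := by
        unfold IsPRegular
        exact (Nat.Prime.coprime_iff_not_dvd hp).mp hg.symm
      have : g ∈ (K : Set G) := by
        rw [hKset]
        intro χ hχ
        exact hconst χ hχ g hg'
      exact this
    haveI := hKn
    obtain ⟨a, ha⟩ := Cfsg.Agent.Lib.Helper12.index_eq_pow_of_coprime_mem K hmem
    exact Cfsg.Agent.Lib.Helper12.hasNormalPComplement_of_normal K hKn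
      ((Nat.Prime.coprime_iff_not_dvd hp).mpr hKp).symm a ha

/-- For a finite group G, a prime p and a maximal ideal M of the algebraic integers containing p: the principal block of G is nilpotent if and only if its p-regular rank is 1 (the trivial Brauer character is its only irreducible Brauer character). -/
theorem result {G : Type*} [Group G] [Finite G] (p : ℕ) [Fact p.Prime] (M : Ideal Cfsg.AlgInt) (hM : Cfsg.IsPModular p M) : Cfsg.IsNilpotentBlock p M (Cfsg.principalBlock M G) ↔ Cfsg.blockRank p (Cfsg.principalBlock M G) = 1 := by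
  exact result' p M hM

end Cfsg.Agent.S4646
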