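import Cfsg.Statements.S4679
import Mathlib
import Cfsg.Agent.Lib.Helper24.StabTransport
import Cfsg.Agent.Lib.Helper24.BlockFusion
import Cfsg.Agent.Lib.Helper24.PPowerIndex
import Cfsg.Agent.S4662

set_option autoImplicit false
open Cfsg

namespace Cfsg.Agent.S4679

open Cfsg.Agent.CharLib Cfsg.Agent.Lib.Helper24 Cfsg.Agent.Lib.Helper6
open scoped ComplexConjugate
universe u

/-- `N_P(Q)` stabilizes `f` when `(Q, f) ≤ (P, e)`. -/
theorem inf_normalizer_le_stab {G : Type u} [Group G] [Fintype G] (p : ℕ) [Fact p.Prime]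
    (M : Ideal Cfsg.AlgInt) (hM : Cfsg.IsPModular p M) (P Q : Subgroup G)
    (e : Set (Cfsg.IrrCharacter (Subgroup.centralizer (P : Set G))))
    (f : Set (Cfsg.IrrCharacter (Subgroup.centralizer (Q : Set G))))
    (hPe : IsBrauerPair p M P e) (hQP : Q ≤ P)
    (hle : Cfsg.SubpairLE p M Q f P e) (T : Subgroup G)
    (hT : ∀ y : G, y ∈ T ↔ y ∈ Subgroup.normalizer (Q : Set G) ∧
      StabilizesBlock (Subgroup.centralizer (Q : Set G)) f y) :
    P ⊓ Subgroup.normalizer (Q : Set G) ≤ T := by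
  classical
  have hQR : Q ≤ P ⊓ Subgroup.normalizer (Q : Set G) := le_inf hQP Subgroup.le_normalizer
  have hRP : P ⊓ Subgroup.normalizer (Q : Set G) ≤ P := inf_le_left
  have hRp : IsPGroup p (P ⊓ Subgroup.normalizer (Q : Set G) : Subgroup G) := hPe.1.to_le hRP
  obtain ⟨g, hg, hRPle⟩ := exists_subpairLE hM P e hPe _ hRP
  obtain ⟨f', hf', hQRle⟩ := exists_subpairLE hM _ g ⟨hRp, hg⟩ Q hQR
  have e1 : f' = f := subpairLE_unique hM _ P e Q f' f rfl
    (Relation.ReflTransGen.trans hQRle hRPle) hle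
  rw [e1] at hQRle
  obtain ⟨f'', hf'', -⟩ := Cfsg.Agent.S4656.result' p M hM _ Q g ⟨hRp, hg⟩ hQR inf_le_right
  have e2 : f'' = f := subpairLE_unique hM _ _ g Q f'' f rfl
    (Relation.ReflTransGen.single hf'') hQRle
  rw [e2] at hf''
  exact fun x hx => (hT x).mpr ⟨hx.2, hf''.2.2.2.2.1 x hx⟩

/-- existence of the stabilizer subgroup -/
theorem exists_stab {G : Type u} [Group G] [Fintype G] (M : Ideal Cfsg.AlgInt) [M.IsPrime]
    (Q : Subgroup G)
    (f : Set (Cfsg.IrrCharacter (Subgroup.centralizer (Q : Set G)))) (hf : IsPBlock M f) :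
    ∃ T : Subgroup G, ∀ y : G, y ∈ T ↔ y ∈ Subgroup.normalizer (Q : Set G) ∧
      StabilizesBlock (Subgroup.centralizer (Q : Set G)) f y := by
  obtain ⟨T₀, hT₀⟩ := exists_stabilizer_subgroup (M := M) _ f hf
  refine ⟨Subgroup.normalizer (Q : Set G) ⊓ T₀, fun y => ?_⟩
  rw [Subgroup.mem_inf, hT₀]

theorem result' {G : Type u} [Group G] [Fintype G] (p : ℕ) [Fact p.Prime] (M : Ideal Cfsg.AlgInt) (hM : Cfsg.IsPModular p M) (B : Set (Cfsg.IrrCharacter G)) (P : Subgroup G) (e : Set (Cfsg.IrrCharacter (Subgroup.centralizer (P : Set G)))) (hmax : Cfsg.IsMaximalBrauerPair p M B P e) (F : Cfsg.FusionSystem P) (hF : Cfsg.IsBlockFusionSystemOn p M B P e F) (Q : Subgroup G) (f : Set (Cfsg.IrrCharacter (Subgroup.centralizer (Q : Set G)))) (hQP : Q ≤ P) (hf : Cfsg.IsPBlock M f) (hle : Cfsg.SubpairLE p M Q f P e) (T : Subgroup G) (hT : ∀ y : G, y ∈ T ↔ y ∈ Subgroup.normalizer (Q : Set G) ∧ Cfsg.StabilizesBlock (Subgroup.centralizer (Q : Set G)) f y) : F.IsFullyNormalized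 Q ↔ ∃ F' : Set (Cfsg.IrrCharacter T), Cfsg.IsPBlock M F' ∧ (∀ t : T, Cfsg.blockCoeff F' t = Cfsg.subgroupBlockCoeff (Subgroup.centralizer (Q : Set G)) f (t : G)) ∧ Cfsg.IsDefectGroup p M F' ((P ⊓ Subgroup.normalizer (Q : Set G)).subgroupOf T) := by
  classical
  haveI hprime : M.IsPrime := isPrime_of_isPModular hM
  have hPe : IsBrauerPair p M P e := hmax.1.1
  let _ : Fintype T := Fintype.ofFinite _
  -- cardinalities
  have hcardsub : ∀ (Q₁ T₁ : Subgroup G), P ⊓ Subgroup.normalizer (Q₁ : Set G) ≤ T₁ →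
      Nat.card ((P ⊓ Subgroup.normalizer (Q₁ : Set G)).subgroupOf T₁) =
        Nat.card (FusionSystem.normalizerIn P Q₁) := by
    intro Q₁ T₁ h
    rw [card_subgroupOf_eq_card_inf, inf_eq_left.mpr h]
    rfl
  have hNT := inf_normalizer_le_stab p M hM P Q e f hPe hQP hle T hT
  constructor
  · intro hfn
    obtain ⟨⟨F₀, hF₀, hF₀f, D, hDdef, hNPD⟩, x, hlex, hall⟩ :=
      Cfsg.Agent.S4662.result p M hM B P Q e f hmax hQP hf hle T hT
    obtain ⟨T', hT'⟩ := exists_stab M (Q.map (MulAut.conj x).toMonoidHom) (conjBlock Q x f)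
      (isPBlock_conjBlock Q x hf)
    obtain ⟨F', hF', hF'f, hF'def⟩ := hall T' hT'
    have hconj : F.IsConj Q (Q.map (MulAut.conj x).toMonoidHom) :=
      (blockFusion_isConj_iff hM B P e F hF Q f hle _).mpr ⟨x, rfl, hlex⟩
    have h1 := hfn.2 _ hconj
    have hQxP : Q.map (MulAut.conj x).toMonoidHom ≤ P :=
      Cfsg.Agent.S4681.le_of_subpairLE p M _ _ P e hlex
    have hNT' := inf_normalizer_le_stab p M hM P _ e _ hPe hQxP hlex T' hT'
    let _ : Fintype T' := Fintype.ofFinite _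
    have hmem := mem_stab_conj_iff Q T T' x f hT hT'
    set ψ := stabEquiv x T T' hmem with hψ
    have hF'' : IsPBlock M (BlockIso.pullBlock ψ F₀) := BlockIso.isPBlock_pullBlock ψ hF₀
    have heqF : BlockIso.pullBlock ψ F₀ = F' := by
      apply block_eq_of_blockCoeff_eq (M := M) hF'' hF'
      funext t
      rw [BlockIso.blockCoeff_pullBlock, hF₀f, hF'f, subgroupBlockCoeff_conjBlock]
      rfl
    have hDx : IsDefectGroup p M F' (D.comap ψ.toMonoidHom) := by
      rw [← heqF]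
      exact BlockIso.isDefectGroup_pullBlock ψ hDdef
    have h2 : Nat.card (D.comap ψ.toMonoidHom) ≤ _ := card_le_of_isDefectGroup hM hF' hDx hF'def
    rw [card_comap_mulEquiv, hcardsub _ _ hNT'] at h2
    have h3 : Nat.card D ≤ Nat.card ((P ⊓ Subgroup.normalizer (Q : Set G)).subgroupOf T) := by
      rw [hcardsub _ _ hNT]
      exact h2.trans h1
    have heq := Subgroup.eq_of_le_of_card_ge hNPD h3
    refine ⟨F₀, hF₀, hF₀f, ?_⟩
    rw [heq]
    exact hDdef
  · rintro ⟨F', hF', hF'f, hdef⟩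
    refine ⟨hQP, ?_⟩
    intro Q' hQ'
    obtain ⟨g, rfl, hleg⟩ := (blockFusion_isConj_iff hM B P e F hF Q f hle Q').mp hQ'
    have hQgP : Q.map (MulAut.conj g).toMonoidHom ≤ P :=
      Cfsg.Agent.S4681.le_of_subpairLE p M _ _ P e hleg
    obtain ⟨Tg, hTg⟩ := exists_stab M (Q.map (MulAut.conj g).toMonoidHom) (conjBlock Q g f)
      (isPBlock_conjBlock Q g hf)
    have hNTg := inf_normalizer_le_stab p M hM P _ e _ hPe hQgP hleg Tg hTg
    let _ : Fintype Tg := Fintype.ofFinite _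
    have hmem := mem_stab_conj_iff Q T Tg g f hT hTg
    set ψ := stabEquiv g T Tg hmem with hψ
    have hFg : IsPBlock M (BlockIso.pullBlock ψ F') := BlockIso.isPBlock_pullBlock ψ hF'
    have hFgf : ∀ t : Tg, blockCoeff (BlockIso.pullBlock ψ F') t =
        subgroupBlockCoeff (Subgroup.centralizer
          ((Q.map (MulAut.conj g).toMonoidHom : Subgroup G) : Set G)) (conjBlock Q g f) (t : G) := by
      intro t
      rw [BlockIso.blockCoeff_pullBlock, hF'f, subgroupBlockCoeff_conjBlock]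
      rfl
    obtain ⟨D₂, gD₂, hmaxD₂, hNPD₂⟩ := Cfsg.Agent.S4662.exists_maximal_pair_ge_T p M hM P
      (Q.map (MulAut.conj g).toMonoidHom) e (conjBlock Q g f) hPe hQgP
      (isPBlock_conjBlock Q g hf) hleg Tg hTg _ hFg hFgf
    have hD₂def : IsDefectGroup p M (BlockIso.pullBlock ψ F') D₂ :=
      Cfsg.Agent.S4659.result p M hM _ D₂ gD₂ hmaxD₂
    have hDg : IsDefectGroup p M (BlockIso.pullBlock ψ F') _ :=
      BlockIso.isDefectGroup_pullBlock ψ hdef
    have h2 : Nat.card D₂ ≤ Nat.card _ := card_le_of_isDefectGroup hM hFg hD₂def hDg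
    rw [card_comap_mulEquiv, hcardsub _ _ hNT] at h2
    have h3 := Subgroup.card_le_of_le hNPD₂
    rw [hcardsub _ _ hNTg] at h3
    exact h3.trans h2

/-- Fix a prime p and a maximal ideal M of the algebraic integers containing p, a p-block B of the finite group G with maximal Brauer pair (P, e), its fusion system F on P, a Brauer pair (Q, f) ≤ (P, e), and let T be the stabilizer of f in N_G(Q). Then Q is fully normalized in F if and only if N_P(Q) is a defect group of the block of T whose idempotent is that of f. -/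
theorem result {G : Type*} [Group G] [Fintype G] (p : ℕ) [Fact p.Prime] (M : Ideal Cfsg.AlgInt) (hM : Cfsg.IsPModular p M) (B : Set (Cfsg.IrrCharacter G)) (P : Subgroup G) (e : Set (Cfsg.IrrCharacter (Subgroup.centralizer (P : Set G)))) (hmax : Cfsg.IsMaximalBrauerPair p M B P e) (F : Cfsg.FusionSystem P) (hF : Cfsg.IsBlockFusionSystemOn p M B P e F) (Q : Subgroup G) (f : Set (Cfsg.IrrCharacter (Subgroup.centralizer (Q : Set G)))) (hQP : Q ≤ P) (hf : Cfsg.IsPBlock M f) (hle : Cfsg.SubpairLE p M Q f P e) (T : Subgroup G) (hT : ∀ y : G, y ∈ T ↔ y ∈ Subgroup.normalizer (Q : Set G) ∧ Cfsg.StabilizesBlock (Subgroup.centralizer (Q : Set G)) f y) : F.IsFullyNormalized Q ↔ ∃ F' : Set (Cfsg.IrrCharacter T), Cfsg.IsPBlock M F' ∧ (∀ t : T, Cfsg.blockCoeff F' t = Cfsg.subgroupBlockCoeff (Subgroup.centralizer (Q : Set G)) f (t : G)) ∧ Cfsg.IsDefectGroup p M F' ((P ⊓ Subgroup.normalizer (Q : Set G)).subgroupOf T) := by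
  exact result' p M hM B P e hmax F hF Q f hQP hf hle T hT

end Cfsg.Agent.S4679
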