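import Cfsg.Statements.S4682
import Mathlib
import Cfsg.Agent.Lib.Helper24.PairEq
import Cfsg.Agent.Lib.Helper24.SubpairChain
import Cfsg.Agent.Lib.Helper24.PPowerIndex
import Cfsg.Agent.S4656
import Cfsg.Agent.S4658
import Cfsg.Agent.S4660

set_option autoImplicit false
open Cfsg

namespace Cfsg.Agent.S4682

open Cfsg.Agent.CharLib Cfsg.Agent.Lib.Helper24 Cfsg.Agent.Lib.Helper6
open scoped ComplexConjugate
universe u

section lemmas
variable {G : Type u} [Group G] [Fintype G] (p : ℕ) [Fact p.Prime] (M : Ideal Cfsg.AlgInt)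

/-- an inclusion into a pair normalizing the smaller subgroup is a normal inclusion -/
theorem isNormalSubpair_of_le_normal (hM : Cfsg.IsPModular p M) (R Q : Subgroup G)
    (g : Set (IrrCharacter (Subgroup.centralizer (R : Set G))))
    (f : Set (IrrCharacter (Subgroup.centralizer (Q : Set G))))
    (hRg : IsBrauerPair p M R g) (hQR : Q ≤ R) (hRN : R ≤ Subgroup.normalizer (Q : Set G))
    (hle : SubpairLE p M Q f R g) : IsNormalSubpair p M Q f R g := by
  obtain ⟨f'', hf'', -⟩ := Cfsg.Agent.S4656.result' p M hM R Q g hRg hQR hRN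
  have e2 : f'' = f := subpairLE_unique hM _ R g Q f'' f rfl
    (Relation.ReflTransGen.single hf'') hle
  rw [e2] at hf''
  exact hf''

/-- For `Q ≤ Z(P)` and `(Q, f) ⊴ (P, e)` with `(P, e)` a maximal `B`-pair: `(P, e)` is a maximal
`f`-pair of the group `C_G(Q)`. -/
theorem maximal_in_centralizer (hM : Cfsg.IsPModular p M) (B : Set (IrrCharacter G))
    (P Q : Subgroup G) (e : Set (IrrCharacter (Subgroup.centralizer (P : Set G))))
    (f : Set (IrrCharacter (Subgroup.centralizer (Q : Set G))))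
    (hmax : IsMaximalBrauerPair p M B P e) (hnorm : IsNormalSubpair p M Q f P e)
    (hPH : P ≤ Subgroup.centralizer (Q : Set G))
    (hR : P = Q ⊔ (P.subgroupOf (Subgroup.centralizer (Q : Set G))).map
      (Subgroup.centralizer (Q : Set G)).subtype) :
    IsMaximalBrauerPair p M f (P.subgroupOf (Subgroup.centralizer (Q : Set G)))
      (BlockIso.pullBlock (centEquivQ Q P _ hR) e) := by
  classical
  have hQ : IsPGroup p Q := hnorm.1.1
  have hf : IsPBlock M f := hnorm.1.2
  have hB : IsPBlock M B := hmax.1.2.1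
  refine ⟨(isNormalSubpair_iff_isBrauerPairOf (M := M) Q P _ hQ hR f e).mp hnorm, ?_⟩
  intro D₁ g₁ hD₁ hle₁
  have hP'D₁ : P.subgroupOf (Subgroup.centralizer (Q : Set G)) ≤ D₁ :=
    Cfsg.Agent.S4681.le_of_subpairLE p M _ _ D₁ g₁ hle₁
  -- the pair `(Q·D₁, g̃₁)` of `G`
  set g := BlockIso.pullBlock (centEquivQ Q _ D₁ rfl).symm g₁ with hgdef
  have hg₁ : BlockIso.pullBlock (centEquivQ Q _ D₁ rfl) g = g₁ := by
    rw [hgdef]
    exact BlockIso.pullBlock_symm_pullBlock (centEquivQ Q _ D₁ rfl).symm g₁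
  have hnorm₁ : IsNormalSubpair p M Q f
      (Q ⊔ D₁.map (Subgroup.centralizer (Q : Set G)).subtype) g := by
    rw [isNormalSubpair_iff_isBrauerPairOf (M := M) Q _ D₁ hQ rfl f g, hg₁]
    exact hD₁
  have hQfB : IsBrauerPairOf p M B Q f :=
    (Cfsg.Agent.S4658.result p M hM P Q e f hmax.1.1 ⟨hQ, hf⟩
      (Relation.ReflTransGen.single hnorm) B hB).mp hmax.1
  have hRgB : IsBrauerPairOf p M B (Q ⊔ D₁.map (Subgroup.centralizer (Q : Set G)).subtype) g :=
    (Cfsg.Agent.S4658.result p M hM _ Q g f hnorm₁.2.1 ⟨hQ, hf⟩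
      (Relation.ReflTransGen.single hnorm₁) B hB).mpr hQfB
  obtain ⟨z, hz⟩ := Cfsg.Agent.S4660.result p M hM B P _ e g hmax hRgB
  have hzP : (Q ⊔ D₁.map (Subgroup.centralizer (Q : Set G)).subtype).map
      (MulAut.conj z).toMonoidHom ≤ P := Cfsg.Agent.S4681.le_of_subpairLE p M _ _ P e hz
  have hcard : Nat.card (Q ⊔ D₁.map (Subgroup.centralizer (Q : Set G)).subtype : Subgroup G) ≤
      Nat.card P := by
    have h1 : Nat.card ((Q ⊔ D₁.map (Subgroup.centralizer (Q : Set G)).subtype).map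
        (MulAut.conj z).toMonoidHom) =
        Nat.card (Q ⊔ D₁.map (Subgroup.centralizer (Q : Set G)).subtype : Subgroup G) :=
      Subgroup.card_map_of_injective (MulAut.conj z).injective
    rw [← h1]
    exact Subgroup.card_le_of_le hzP
  have hPle : P ≤ Q ⊔ D₁.map (Subgroup.centralizer (Q : Set G)).subtype := by
    intro u hu
    apply (le_sup_right : D₁.map (Subgroup.centralizer (Q : Set G)).subtype ≤ _)
    exact ⟨⟨u, hPH hu⟩, hP'D₁ (Subgroup.mem_subgroupOf.mpr hu), rfl⟩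
  have hPeq : P = Q ⊔ D₁.map (Subgroup.centralizer (Q : Set G)).subtype :=
    Subgroup.eq_of_le_of_card_ge hPle hcard
  apply le_antisymm _ hP'D₁
  intro d hd
  rw [Subgroup.mem_subgroupOf, hPeq]
  apply (le_sup_right : D₁.map (Subgroup.centralizer (Q : Set G)).subtype ≤ _)
  exact ⟨d, hd, rfl⟩

/-- core: an element of `N_G(Q, f)` can be moved into `N_G(P, e)` by an element of `C_G(Q)` -/
theorem exists_centralizer_mul_mem (hM : Cfsg.IsPModular p M) (B : Set (IrrCharacter G))
    (P : Subgroup G) (e : Set (IrrCharacter (Subgroup.centralizer (P : Set G))))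
    (hmax : IsMaximalBrauerPair p M B P e) (hab : ∀ x ∈ P, ∀ y ∈ P, x * y = y * x)
    (Q : Subgroup G) (f : Set (IrrCharacter (Subgroup.centralizer (Q : Set G))))
    (hQP : Q ≤ P) (hf : IsPBlock M f) (hle : SubpairLE p M Q f P e) (x : G)
    (hxN : x ∈ Subgroup.normalizer (Q : Set G))
    (hxst : StabilizesBlock (Subgroup.centralizer (Q : Set G)) f x) :
    ∃ c ∈ Subgroup.centralizer (Q : Set G), c * x ∈ Subgroup.normalizer (P : Set G) ∧
      StabilizesBlock (Subgroup.centralizer (P : Set G)) e (c * x) := by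
  classical
  haveI hprime : M.IsPrime := isPrime_of_isPModular hM
  have hPe : IsBrauerPair p M P e := hmax.1.1
  have hQ : IsPGroup p Q := hPe.1.to_le hQP
  have hPH : P ≤ Subgroup.centralizer (Q : Set G) := by
    intro u hu
    rw [Subgroup.mem_centralizer_iff]
    intro q hq
    exact hab q (hQP hq) u hu
  have hnorm : IsNormalSubpair p M Q f P e :=
    isNormalSubpair_of_le_normal p M hM P Q e f hPe hQP
      (hPH.trans (Subgroup.centralizer_le_normalizer _)) hle
  have hfix := cjPair_eq_self_of_stab (M := M) x Q f hf hxN hxst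
  have hnormx : NormalSubpairRel p M (cjPair x ⟨Q, f⟩) (cjPair x ⟨P, e⟩) :=
    isNormalSubpair_conj (M := M) p x Q P f e hnorm
  rw [hfix] at hnormx
  have hnormx' : IsNormalSubpair p M Q f (P.map (MulAut.conj x).toMonoidHom)
      (conjBlock P x e) := hnormx
  have hQP₁ : Q ≤ P.map (MulAut.conj x).toMonoidHom := hnormx'.2.2.1
  have hP₁H : P.map (MulAut.conj x).toMonoidHom ≤ Subgroup.centralizer (Q : Set G) := by
    rintro _ ⟨a, ha, rfl⟩
    rw [Subgroup.mem_centralizer_iff]
    intro q hq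
    obtain ⟨b, hb, rfl⟩ := hQP₁ hq
    change x * b * x⁻¹ * (x * a * x⁻¹) = x * a * x⁻¹ * (x * b * x⁻¹)
    have := hab b hb a ha
    calc x * b * x⁻¹ * (x * a * x⁻¹) = x * (b * a) * x⁻¹ := by group
      _ = x * (a * b) * x⁻¹ := by rw [this]
      _ = x * a * x⁻¹ * (x * b * x⁻¹) := by group
  have hR₁ : P = Q ⊔ (P.subgroupOf (Subgroup.centralizer (Q : Set G))).map
      (Subgroup.centralizer (Q : Set G)).subtype := by
    rw [Subgroup.map_subgroupOf_eq_of_le hPH, sup_eq_right.mpr hQP]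
  have hR₂ : P.map (MulAut.conj x).toMonoidHom =
      Q ⊔ ((P.map (MulAut.conj x).toMonoidHom).subgroupOf
        (Subgroup.centralizer (Q : Set G))).map (Subgroup.centralizer (Q : Set G)).subtype := by
    rw [Subgroup.map_subgroupOf_eq_of_le hP₁H, sup_eq_right.mpr hQP₁]
  have hmaxH := maximal_in_centralizer p M hM B P Q e f hmax hnorm hPH hR₁
  have hpair₂ := (isNormalSubpair_iff_isBrauerPairOf (M := M) Q _ _ hQ hR₂ f _).mp hnormx'
  let _ : Fintype (Subgroup.centralizer (Q : Set G)) := Fintype.ofFinite _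
  obtain ⟨c, hc⟩ := Cfsg.Agent.S4660.result p M hM f _ _ _ _ hmaxH hpair₂
  have hcle := Cfsg.Agent.S4681.le_of_subpairLE p M _ _ _ _ hc
  have hcard : Nat.card (P.subgroupOf (Subgroup.centralizer (Q : Set G))) ≤
      Nat.card ((((P.map (MulAut.conj x).toMonoidHom).subgroupOf
        (Subgroup.centralizer (Q : Set G))).map (MulAut.conj c).toMonoidHom :
          Subgroup (Subgroup.centralizer (Q : Set G)))) := by
    have h1 : Nat.card ((((P.map (MulAut.conj x).toMonoidHom).subgroupOf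
        (Subgroup.centralizer (Q : Set G))).map (MulAut.conj c).toMonoidHom :
          Subgroup (Subgroup.centralizer (Q : Set G)))) =
        Nat.card ((P.map (MulAut.conj x).toMonoidHom).subgroupOf
        (Subgroup.centralizer (Q : Set G))) :=
      Subgroup.card_map_of_injective (MulAut.conj c).injective
    have h2 : Nat.card (P.map (MulAut.conj x).toMonoidHom) = Nat.card P :=
      Subgroup.card_map_of_injective (MulAut.conj x).injective
    rw [h1, card_subgroupOf_eq_card_inf, card_subgroupOf_eq_card_inf, inf_eq_left.mpr hP₁H,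
      inf_eq_left.mpr hPH, h2]
  have hfst := Subgroup.eq_of_le_of_card_ge hcle hcard
  have hsig := eq_of_reflTransGen_of_fst_eq hM
    (cjPair c ⟨_, BlockIso.pullBlock (centEquivQ Q _ _ hR₂) (conjBlock P x e)⟩)
    ⟨_, BlockIso.pullBlock (centEquivQ Q P _ hR₁) e⟩ hc hfst
  have hG := conj_transfer (M := M) Q c _ _ P (P.map (MulAut.conj x).toMonoidHom) hR₁ hR₂ e
    (conjBlock P x e) hPe.2 (isPBlock_conjBlock P x hPe.2) hsig
  have hG' : cjPair (c : G) (cjPair x (⟨P, e⟩ : BrauerPairIdx G)) = ⟨P, e⟩ := hG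
  rw [cjPair_mul (M := M) (c : G) x P e hPe.2] at hG'
  exact ⟨(c : G), c.2, mem_stab_of_cjPair_eq _ P e hG'⟩

theorem result' {G : Type u} [Group G] [Fintype G] (p : ℕ) [Fact p.Prime] (M : Ideal Cfsg.AlgInt) (hM : Cfsg.IsPModular p M) (B : Set (Cfsg.IrrCharacter G)) (P : Subgroup G) (e : Set (Cfsg.IrrCharacter (Subgroup.centralizer (P : Set G)))) (hmax : Cfsg.IsMaximalBrauerPair p M B P e) (hab : ∀ x ∈ P, ∀ y ∈ P, x * y = y * x) (Q : Subgroup G) (f : Set (Cfsg.IrrCharacter (Subgroup.centralizer (Q : Set G)))) (hQP : Q ≤ P) (hf : Cfsg.IsPBlock M f) (hle : Cfsg.SubpairLE p M Q f P e) (TQ : Subgroup G) (hTQ : ∀ y : G, y ∈ TQ ↔ y ∈ Subgroup.normalizer (Q : Set G) ∧ Cfsg.StabilizesBlock (Subgroup.centralizer (Q : Set G)) f y) (TP : Subgroup G) (hTP : ∀ y : G, y ∈ TP ↔ y ∈ Subgroup.normalizer (P : Set G) ∧ Cfsg.StabilizesBlock (Subgroup.centralizer (P : Set G)) e y) : (∀ x ∈ TQ, ∃ y ∈ TP, ∃ c ∈ Subgroup.centralizer (Q : Set G), x = y * c) ∧ ((Subgroup.centralizer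 (Q : Set G)).subgroupOf TQ).index = ((TP ⊓ Subgroup.centralizer (Q : Set G)).subgroupOf (TP ⊓ Subgroup.normalizer (Q : Set G))).index := by
  classical
  haveI hprime : M.IsPrime := isPrime_of_isPModular hM
  have hPe : IsBrauerPair p M P e := hmax.1.1
  have part1 : ∀ x ∈ TQ, ∃ y ∈ TP, ∃ c ∈ Subgroup.centralizer (Q : Set G), x = y * c := by
    intro x hx
    have hx' := (hTQ x⁻¹).mp (TQ.inv_mem hx)
    obtain ⟨c, hc, hy⟩ := exists_centralizer_mul_mem p M hM B P e hmax hab Q f hQP hf hle x⁻¹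
      hx'.1 hx'.2
    have hyTP : c * x⁻¹ ∈ TP := (hTP _).mpr hy
    refine ⟨(c * x⁻¹)⁻¹, TP.inv_mem hyTP, c, hc, ?_⟩
    group
  refine ⟨part1, ?_⟩
  have hCTQ : Subgroup.centralizer (Q : Set G) ≤ TQ := centralizer_le_stab Q TQ f hTQ
  have hKTQ : TP ⊓ Subgroup.normalizer (Q : Set G) ≤ TQ := by
    intro y hy
    have hyP := (hTP y).mp hy.1
    have hfixP := cjPair_eq_self_of_stab (M := M) y P e hPe.2 hyP.1 hyP.2
    have hchain := reflTransGen_cjPair (M := M) p y ⟨Q, f⟩ ⟨P, e⟩ hle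
    rw [hfixP] at hchain
    have hQy : (cjPair y (⟨Q, f⟩ : BrauerPairIdx G)).1 = Q := by
      change Q.map (MulAut.conj y).toMonoidHom = Q
      ext k
      rw [mem_map_conj_iff]
      have h1 := Subgroup.mem_normalizer_iff.mp (Subgroup.inv_mem _ hy.2) k
      rw [inv_inv] at h1
      exact h1.symm
    obtain ⟨f₂, hf₂⟩ := exists_snd_of_fst_eq _ Q hQy
    rw [hf₂] at hchain
    have e1 : f₂ = f := subpairLE_unique hM _ P e Q f₂ f rfl hchain hle
    rw [e1] at hf₂
    exact (hTQ y).mpr (mem_stab_of_cjPair_eq y Q f hf₂)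
  -- work inside `TQ`
  haveI hnormal : ((Subgroup.centralizer (Q : Set G)).subgroupOf TQ).Normal := by
    constructor
    intro n hn g
    rw [Subgroup.mem_subgroupOf] at hn ⊢
    have hgN := ((hTQ (g : G)).mp g.2).2.1
    exact (Subgroup.mem_normalizer_iff.mp hgN _).mp hn
  have htop : (TP ⊓ Subgroup.normalizer (Q : Set G)).subgroupOf TQ ⊔
      (Subgroup.centralizer (Q : Set G)).subgroupOf TQ = ⊤ := by
    rw [eq_top_iff]
    intro t _
    obtain ⟨y, hy, c, hc, hyc⟩ := part1 (t : G) t.2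
    have hyN : y ∈ Subgroup.normalizer (Q : Set G) := by
      have h1 : y = (t : G) * c⁻¹ := by rw [hyc]; group
      rw [h1]
      exact Subgroup.mul_mem _ ((hTQ _).mp t.2).1
        (Subgroup.inv_mem _ (Subgroup.centralizer_le_normalizer _ hc))
    have hyK : y ∈ TP ⊓ Subgroup.normalizer (Q : Set G) := ⟨hy, hyN⟩
    have e1 : t = ⟨y, hKTQ hyK⟩ * ⟨c, hCTQ hc⟩ := Subtype.ext hyc
    rw [e1]
    exact Subgroup.mul_mem_sup (Subgroup.mem_subgroupOf.mpr hyK) (Subgroup.mem_subgroupOf.mpr hc)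
  have h1 := Subgroup.relIndex_sup_right
    (H := (TP ⊓ Subgroup.normalizer (Q : Set G)).subgroupOf TQ)
    (K := (Subgroup.centralizer (Q : Set G)).subgroupOf TQ)
  rw [htop, Subgroup.relIndex_top_right] at h1
  rw [h1, ← Subgroup.relIndex_map_map_of_injective _ _ (Subgroup.subtype_injective TQ),
    Subgroup.map_subgroupOf_eq_of_le hCTQ, Subgroup.map_subgroupOf_eq_of_le hKTQ,
    ← Subgroup.inf_relIndex_right]
  have e2 : Subgroup.centralizer (Q : Set G) ⊓ (TP ⊓ Subgroup.normalizer (Q : Set G)) =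
      TP ⊓ Subgroup.centralizer (Q : Set G) := by
    apply le_antisymm
    · exact le_inf (inf_le_right.trans inf_le_left) inf_le_left
    · exact le_inf inf_le_right (le_inf inf_le_left
        (inf_le_right.trans (Subgroup.centralizer_le_normalizer _)))
  rw [e2]
  rfl

end lemmas

/-- Fix a prime p and a maximal ideal M of the algebraic integers containing p, a p-block B of the finite group G with maximal Brauer pair (P, e), P abelian, and a Brauer pair (Q, f) ≤ (P, e). Let T_Q be the stabilizer of f in N_G(Q) and T_P the stabilizer of e in N_G(P). Then every element of T_Q is a product of an element of T_P and an element of C_G(Q); and the index of C_G(Q) in T_Q equals the index of T_P ∩ C_G(Q) in T_P ∩ N_G(Q). -/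
theorem result {G : Type*} [Group G] [Fintype G] (p : ℕ) [Fact p.Prime] (M : Ideal Cfsg.AlgInt) (hM : Cfsg.IsPModular p M) (B : Set (Cfsg.IrrCharacter G)) (P : Subgroup G) (e : Set (Cfsg.IrrCharacter (Subgroup.centralizer (P : Set G)))) (hmax : Cfsg.IsMaximalBrauerPair p M B P e) (hab : ∀ x ∈ P, ∀ y ∈ P, x * y = y * x) (Q : Subgroup G) (f : Set (Cfsg.IrrCharacter (Subgroup.centralizer (Q : Set G)))) (hQP : Q ≤ P) (hf : Cfsg.IsPBlock M f) (hle : Cfsg.SubpairLE p M Q f P e) (TQ : Subgroup G) (hTQ : ∀ y : G, y ∈ TQ ↔ y ∈ Subgroup.normalizer (Q : Set G) ∧ Cfsg.StabilizesBlock (Subgroup.centralizer (Q : Set G)) f y) (TP : Subgroup G) (hTP : ∀ y : G, y ∈ TP ↔ y ∈ Subgroup.normalizer (P : Set G) ∧ Cfsg.StabilizesBlock (Subgroup.centralizer (P : Set G)) e y) : (∀ x ∈ TQ, ∃ y ∈ TP, ∃ c ∈ Subgroup.centralizer (Q : Set G), x = y * c) ∧ ((Subgroup.centralizer (Q : Set G)).subgroupOf TQ).index = ((TP ⊓ Subgroup.centralizer (Q : Set G)).subgroupOf (TP ⊓ Subgroup.normalizer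 (Q : Set G))).index := by
  exact result' p M hM B P e hmax hab Q f hQP hf hle TQ hTQ TP hTP

end Cfsg.Agent.S4682
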