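import Cfsg.Statements.S4687
import Mathlib
import Cfsg.Agent.Lib.Helper24.InertialIndex
import Cfsg.Agent.Lib.Helper24.BlockFusion
import Cfsg.Agent.Lib.Helper24.PPowerIndex
import Cfsg.Agent.S4662
import Cfsg.Agent.S4679
import Cfsg.Agent.S4682

set_option autoImplicit false
open Cfsg

namespace Cfsg.Agent.S4687

open Cfsg.Agent.CharLib Cfsg.Agent.Lib.Helper24 Cfsg.Agent.Lib.Helper6
open scoped ComplexConjugate
universe u

/-- For a maximal pair `(P, e)` with stabilizer `T`, `P` is a defect group of the block of `T`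
with the idempotent of `e`. -/
theorem isDefectGroup_stab {G : Type u} [Group G] [Fintype G] (p : ℕ) [Fact p.Prime]
    (M : Ideal Cfsg.AlgInt) (hM : Cfsg.IsPModular p M) (B : Set (Cfsg.IrrCharacter G))
    (P : Subgroup G) (e : Set (Cfsg.IrrCharacter (Subgroup.centralizer (P : Set G))))
    (hmax : Cfsg.IsMaximalBrauerPair p M B P e) (T : Subgroup G)
    (hT : ∀ y : G, y ∈ T ↔ y ∈ Subgroup.normalizer (P : Set G) ∧
      Cfsg.StabilizesBlock (Subgroup.centralizer (P : Set G)) e y) :
    ∃ F : Set (IrrCharacter T), IsPBlock M F ∧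
      (∀ t : T, blockCoeff F t = subgroupBlockCoeff (Subgroup.centralizer (P : Set G)) e (t : G)) ∧
      IsDefectGroup p M F (P.subgroupOf T) := by
  classical
  haveI hprime : M.IsPrime := isPrime_of_isPModular hM
  have hPe : IsBrauerPair p M P e := hmax.1.1
  let _ : Fintype T := Fintype.ofFinite _
  obtain ⟨⟨F₀, hF₀, hF₀f, D, hDdef, hNPD⟩, x, hlex, hall⟩ :=
    Cfsg.Agent.S4662.result p M hM B P P e e hmax le_rfl hPe.2 Relation.ReflTransGen.refl T hT
  obtain ⟨T', hT'⟩ := Cfsg.Agent.S4679.exists_stab M (P.map (MulAut.conj x).toMonoidHom)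
    (conjBlock P x e) (isPBlock_conjBlock P x hPe.2)
  obtain ⟨F', hF', hF'f, hF'def⟩ := hall T' hT'
  let _ : Fintype T' := Fintype.ofFinite _
  have hmem := mem_stab_conj_iff P T T' x e hT hT'
  set ψ := stabEquiv x T T' hmem with hψ
  have hF'' : IsPBlock M (BlockIso.pullBlock ψ F₀) := BlockIso.isPBlock_pullBlock ψ hF₀
  have heqF : BlockIso.pullBlock ψ F₀ = F' := by
    apply block_eq_of_blockCoeff_eq (M := M) hF'' hF'
    funext t
    rw [BlockIso.blockCoeff_pullBlock, hF₀f, hF'f, subgroupBlockCoeff_conjBlock]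
    rfl
  have hDx : IsDefectGroup p M F' (D.comap ψ.toMonoidHom) := by
    rw [← heqF]
    exact BlockIso.isDefectGroup_pullBlock ψ hDdef
  have h2 : Nat.card (D.comap ψ.toMonoidHom) ≤ _ := card_le_of_isDefectGroup hM hF' hDx hF'def
  rw [card_comap_mulEquiv, card_subgroupOf_eq_card_inf] at h2
  have hPT : P ≤ T := le_stab P T e hT
  have h3 : Nat.card D ≤ Nat.card (P.subgroupOf T) := by
    rw [card_subgroupOf_eq_card_inf, inf_eq_left.mpr hPT]
    refine h2.trans ?_
    exact Subgroup.card_le_of_le ((inf_le_left : _ ≤ P ⊓ _).trans inf_le_left)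
  have hPN : (P ⊓ Subgroup.normalizer (P : Set G)).subgroupOf T = P.subgroupOf T := by
    rw [inf_eq_left.mpr Subgroup.le_normalizer]
  rw [hPN] at hNPD
  have heq := Subgroup.eq_of_le_of_card_ge hNPD h3
  refine ⟨F₀, hF₀, hF₀f, ?_⟩
  rw [heq]
  exact hDdef

theorem result' {G : Type u} [Group G] [Fintype G] (p : ℕ) [Fact p.Prime] (M : Ideal Cfsg.AlgInt) (hM : Cfsg.IsPModular p M) (B : Set (Cfsg.IrrCharacter G)) (P : Subgroup G) (e : Set (Cfsg.IrrCharacter (Subgroup.centralizer (P : Set G)))) (hmax : Cfsg.IsMaximalBrauerPair p M B P e) (hab : ∀ x ∈ P, ∀ y ∈ P, x * y = y * x) : Cfsg.IsNilpotentBlock p M B ↔ ∀ x : G, x ∈ Subgroup.normalizer (P : Set G) → Cfsg.StabilizesBlock (Subgroup.centralizer (P : Set G)) e x → x ∈ Subgroup.centralizer (P : Set G) := by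
  classical
  haveI hprime : M.IsPrime := isPrime_of_isPModular hM
  have hp : p.Prime := Fact.out
  have hPe : IsBrauerPair p M P e := hmax.1.1
  have hB : IsPBlock M B := hmax.1.2.1
  have hPC : P ≤ Subgroup.centralizer (P : Set G) := by
    intro u hu
    rw [Subgroup.mem_centralizer_iff]
    intro q hq
    exact hab q hq u hu
  constructor
  · -- nilpotent ⇒ trivial inertial quotient
    intro hnil x hxN hxst
    obtain ⟨T, hT⟩ := Cfsg.Agent.S4679.exists_stab M P e hPe.2
    obtain ⟨F, hF, hFf, hFdef⟩ := isDefectGroup_stab p M hM B P e hmax T hT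
    have hidx := not_dvd_index_sup_centralizer hM P T e hPe.2 hT F hF hFf _ hFdef
    have hCT := centralizer_le_stab P T e hT
    have hsup : P.subgroupOf T ⊔ (Subgroup.centralizer (P : Set G)).subgroupOf T =
        (Subgroup.centralizer (P : Set G)).subgroupOf T := by
      apply sup_eq_right.mpr
      intro t ht
      rw [Subgroup.mem_subgroupOf] at ht ⊢
      exact hPC ht
    rw [hsup] at hidx
    haveI hnormal : ((Subgroup.centralizer (P : Set G)).subgroupOf T).Normal := by
      constructor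
      intro n hn g
      rw [Subgroup.mem_subgroupOf] at hn ⊢
      have hgN := ((hT (g : G)).mp g.2).2.1
      exact (Subgroup.mem_normalizer_iff.mp hgN _).mp hn
    have hxT : x ∈ T := (hT x).mpr ⟨hxN, hxst⟩
    -- the index-th power of `x` centralizes `P`
    set k := ((Subgroup.centralizer (P : Set G)).subgroupOf T).index with hk
    have hxk : x ^ k ∈ Subgroup.centralizer (P : Set G) := by
      have h1 : (⟨x, hxT⟩ : T) ^ k ∈ (Subgroup.centralizer (P : Set G)).subgroupOf T :=
        Subgroup.pow_index_mem _ _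
      rw [Subgroup.mem_subgroupOf] at h1
      simpa using h1
    -- the `p`-regular part of `x` centralizes `P`
    set a := (orderOf x).factorization p with ha
    have hxpa : x ^ (p ^ a) ∈ Subgroup.centralizer (P : Set G) := by
      have hxpaT : x ^ (p ^ a) ∈ T := T.pow_mem hxT _
      have h1 := (hT _).mp hxpaT
      apply hnil.2 P e hmax.1 _ h1.1 h1.2
      unfold IsPRegular
      have hpos : 0 < orderOf x := orderOf_pos x
      rw [orderOf_pow' x (pow_ne_zero a hp.ne_zero),
        Nat.gcd_eq_right (Nat.ordProj_dvd (orderOf x) p)]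
      exact Nat.not_dvd_ordCompl hp hpos.ne'
    -- Bezout
    have hcop : Nat.Coprime k (p ^ a) := by
      apply Nat.Coprime.pow_right
      exact (Nat.Prime.coprime_iff_not_dvd hp).mpr hidx |>.symm
    have hgcd : Int.gcd (k : ℤ) ((p ^ a : ℕ) : ℤ) = 1 := by
      rw [Int.gcd_natCast_natCast]
      exact hcop
    have hbez := Int.gcd_eq_gcd_ab (k : ℤ) ((p ^ a : ℕ) : ℤ)
    rw [hgcd] at hbez
    have hx1 : x = (x ^ k) ^ (Int.gcdA (k : ℤ) ((p ^ a : ℕ) : ℤ)) *
        (x ^ (p ^ a)) ^ (Int.gcdB (k : ℤ) ((p ^ a : ℕ) : ℤ)) := by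
      rw [← zpow_natCast x k, ← zpow_natCast x (p ^ a), ← zpow_mul, ← zpow_mul, ← zpow_add]
      have : (k : ℤ) * Int.gcdA (k : ℤ) ((p ^ a : ℕ) : ℤ) +
          ((p ^ a : ℕ) : ℤ) * Int.gcdB (k : ℤ) ((p ^ a : ℕ) : ℤ) = 1 := by
        rw [← hbez]; rfl
      rw [this, zpow_one]
    rw [hx1]
    exact Subgroup.mul_mem _ (Subgroup.zpow_mem _ hxk _) (Subgroup.zpow_mem _ hxpa _)
  · -- trivial inertial quotient ⇒ nilpotent
    intro htriv
    refine ⟨hB, ?_⟩
    intro Q f hQf x hxN hxst _
    obtain ⟨z, hz⟩ := Cfsg.Agent.S4660.result p M hM B P Q e f hmax hQf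
    have hQzP : Q.map (MulAut.conj z).toMonoidHom ≤ P :=
      Cfsg.Agent.S4681.le_of_subpairLE p M _ _ P e hz
    have hx₁N := conj_mem_normalizer_map_conj Q z x hxN
    have hx₁st := stabilizesBlock_conjBlock Q z x f hxst
    obtain ⟨c, hc, hyN, hyst⟩ := Cfsg.Agent.S4682.exists_centralizer_mul_mem p M hM B P e hmax hab
      (Q.map (MulAut.conj z).toMonoidHom) (conjBlock Q z f) hQzP
      (isPBlock_conjBlock Q z hQf.1.2) hz (z * x * z⁻¹) hx₁N hx₁st
    have hyC := htriv _ hyN hyst
    have hyC' : c * (z * x * z⁻¹) ∈ Subgroup.centralizer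
        ((Q.map (MulAut.conj z).toMonoidHom : Subgroup G) : Set G) :=
      Subgroup.centralizer_le hQzP hyC
    have hx₁C : z * x * z⁻¹ ∈ Subgroup.centralizer
        ((Q.map (MulAut.conj z).toMonoidHom : Subgroup G) : Set G) := by
      have := Subgroup.mul_mem _ (Subgroup.inv_mem _ hc) hyC'
      rwa [inv_mul_cancel_left] at this
    have := (mem_centralizer_map_conj_iff Q z _).mp hx₁C
    have e1 : z⁻¹ * (z * x * z⁻¹) * z = x := by group
    rwa [e1] at this

/-- Fix a prime p and a maximal ideal M of the algebraic integers containing p, and a p-block B of the finite group G with maximal Brauer pair (P, e), P abelian. Then B is nilpotent if and only if its inertial quotient is trivial: every element of N_G(P) stabilizing e centralizes P. -/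
theorem result {G : Type*} [Group G] [Fintype G] (p : ℕ) [Fact p.Prime] (M : Ideal Cfsg.AlgInt) (hM : Cfsg.IsPModular p M) (B : Set (Cfsg.IrrCharacter G)) (P : Subgroup G) (e : Set (Cfsg.IrrCharacter (Subgroup.centralizer (P : Set G)))) (hmax : Cfsg.IsMaximalBrauerPair p M B P e) (hab : ∀ x ∈ P, ∀ y ∈ P, x * y = y * x) : Cfsg.IsNilpotentBlock p M B ↔ ∀ x : G, x ∈ Subgroup.normalizer (P : Set G) → Cfsg.StabilizesBlock (Subgroup.centralizer (P : Set G)) e x → x ∈ Subgroup.centralizer (P : Set G) := by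
  exact result' p M hM B P e hmax hab

end Cfsg.Agent.S4687
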