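import Cfsg.Statements.S4677
import Mathlib
import Cfsg.Agent.Lib.Helper24.SubStab
import Cfsg.Agent.Lib.Helper24.BlockFusion

set_option autoImplicit false
open Cfsg

namespace Cfsg.Agent.S4677

open Cfsg.Agent.CharLib Cfsg.Agent.Lib.Helper24 Cfsg.Agent.Lib.Helper6
open scoped ComplexConjugate
universe u

section fs
variable {G : Type u} [Group G] [Fintype G] {M : Ideal AlgInt} {p : ℕ} [hpp : Fact p.Prime]

/-- Elements of `P` fix the pair `(P, e)`. -/
theorem cjPair_eq_self_of_mem (hM : IsPModular p M) (P : Subgroup G)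
    (e : Set (IrrCharacter (Subgroup.centralizer (P : Set G)))) (he : IsPBlock M e)
    (g : G) (hg : g ∈ P) : cjPair g (⟨P, e⟩ : BrauerPairIdx G) = ⟨P, e⟩ := by
  haveI hprime : M.IsPrime := isPrime_of_isPModular hM
  obtain ⟨T, hT⟩ := Cfsg.Agent.S4679.exists_stab M P e he
  have hgT := le_stab P T e hT hg
  obtain ⟨hN, hst⟩ := (hT g).mp hgT
  exact cjPair_eq_self_of_stab (M := M) g P e he hN hst

theorem cjPair_one (hM : IsPModular p M) (Q : Subgroup G)
    (f : Set (IrrCharacter (Subgroup.centralizer (Q : Set G)))) (hf : IsPBlock M f) :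
    cjPair 1 (⟨Q, f⟩ : BrauerPairIdx G) = ⟨Q, f⟩ := by
  haveI hprime : M.IsPrime := isPrime_of_isPModular hM
  obtain ⟨T, hT⟩ := Cfsg.Agent.S4679.exists_stab M Q f hf
  have h1T := T.one_mem
  obtain ⟨hN, hst⟩ := (hT 1).mp h1T
  exact cjPair_eq_self_of_stab (M := M) 1 Q f hf hN hst

/-- the block of a pair below `(P, e)` -/
theorem isPBlock_of_subpairLE (hM : IsPModular p M) (P : Subgroup G)
    (e : Set (IrrCharacter (Subgroup.centralizer (P : Set G)))) (hPe : IsBrauerPair p M P e)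
    (Q : Subgroup G) (f : Set (IrrCharacter (Subgroup.centralizer (Q : Set G))))
    (hle : SubpairLE p M Q f P e) : IsPBlock M f := by
  have hQP : Q ≤ P := Cfsg.Agent.S4681.le_of_subpairLE p M _ _ P e hle
  obtain ⟨f', hf', hle'⟩ := exists_subpairLE hM P e hPe Q hQP
  have : f' = f := subpairLE_unique hM _ P e Q f' f rfl hle' hle
  rwa [this] at hf'

/-- the maps of the block fusion system -/
def bHom (p : ℕ) (M : Ideal AlgInt) (P : Subgroup G)
    (e : Set (IrrCharacter (Subgroup.centralizer (P : Set G)))) (Q : Subgroup G) : Set (Q →* G) :=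
  {φ | Q ≤ P ∧ ∃ g : G, (∀ u : Q, φ u = g * (u : G) * g⁻¹) ∧
    Q.map (MulAut.conj g).toMonoidHom ≤ P ∧
      ∃ f : Set (IrrCharacter (Subgroup.centralizer (Q : Set G))),
        SubpairLE p M Q f P e ∧
          SubpairLE p M (Q.map (MulAut.conj g).toMonoidHom) (conjBlock Q g f) P e}

/-- The block fusion system. -/
def blockFS (hM : IsPModular p M) (P : Subgroup G)
    (e : Set (IrrCharacter (Subgroup.centralizer (P : Set G)))) (hPe : IsBrauerPair p M P e) :
    FusionSystem P where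
  Hom := bHom p M P e
  le_of_mem := by
    rintro Q φ ⟨hQP, g, hφ, hQg, -⟩
    refine ⟨hQP, fun x => ?_⟩
    rw [hφ x]
    exact hQg ⟨(x : G), x.2, rfl⟩
  injective_of_mem := by
    rintro Q φ ⟨-, g, hφ, -⟩ a b hab
    rw [hφ a, hφ b] at hab
    exact Subtype.ext (mul_left_cancel (mul_right_cancel hab))
  conj_mem := by
    intro Q g hQP hg
    obtain ⟨f, hf, hle⟩ := exists_subpairLE hM P e hPe Q hQP
    have hleg : Relation.ReflTransGen (NormalSubpairRel p M) (cjPair g (⟨Q, f⟩ : BrauerPairIdx G))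
        ⟨P, e⟩ := by
      have := reflTransGen_cjPair (M := M) p g _ _ hle
      rwa [cjPair_eq_self_of_mem hM P e hPe.2 g hg] at this
    exact ⟨hQP, g, fun u => rfl, Cfsg.Agent.S4681.le_of_reflTransGen p M _ _ hleg, f, hle, hleg⟩
  comp_mem := by
    rintro Q₁ Q₂ φ ψ ⟨hQ₁P, g, hφ, hQ₁g, f₁, hle₁, hleg₁⟩ ⟨hQ₂P, k, hψ, hQ₂k, f₂, hle₂, hlek₂⟩ h
    haveI hprime : M.IsPrime := isPrime_of_isPModular hM
    have hf₁ := isPBlock_of_subpairLE hM P e hPe Q₁ f₁ hle₁
    have hf₂ := isPBlock_of_subpairLE hM P e hPe Q₂ f₂ hle₂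
    have hQ₁gQ₂ : Q₁.map (MulAut.conj g).toMonoidHom ≤ Q₂ := by
      rintro _ ⟨u, hu, rfl⟩
      have := h ⟨u, hu⟩
      rw [hφ] at this
      exact this
    obtain ⟨f', hf', hle'⟩ := exists_subpairLE hM Q₂ f₂ ⟨hPe.1.to_le hQ₂P, hf₂⟩ _ hQ₁gQ₂
    have e1 : f' = conjBlock Q₁ g f₁ := subpairLE_unique hM _ P e _ f' _ rfl
      (Relation.ReflTransGen.trans hle' hle₂) hleg₁
    rw [e1] at hle'
    have hchain : Relation.ReflTransGen (NormalSubpairRel p M)
        (cjPair (k * g) (⟨Q₁, f₁⟩ : BrauerPairIdx G)) ⟨P, e⟩ := by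
      rw [← cjPair_mul (M := M) k g Q₁ f₁ hf₁]
      exact Relation.ReflTransGen.trans (reflTransGen_cjPair (M := M) p k _ _ hle') hlek₂
    refine ⟨hQ₁P, k * g, ?_, Cfsg.Agent.S4681.le_of_reflTransGen p M _ _ hchain, f₁, hle₁, hchain⟩
    intro u
    change ψ ⟨φ u, h u⟩ = _
    rw [hψ]
    change k * φ u * k⁻¹ = _
    rw [hφ]
    group
  inv_mem := by
    rintro Q φ ⟨hQP, g, hφ, hQg, f, hle, hleg⟩
    haveI hprime : M.IsPrime := isPrime_of_isPModular hM
    have hf := isPBlock_of_subpairLE hM P e hPe Q f hle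
    have hrange : (cjPair g (⟨Q, f⟩ : BrauerPairIdx G)).1 = φ.range := by
      change Q.map (MulAut.conj g).toMonoidHom = φ.range
      ext y
      constructor
      · rintro ⟨u, hu, rfl⟩
        exact ⟨⟨u, hu⟩, hφ ⟨u, hu⟩⟩
      · rintro ⟨u, rfl⟩
        exact ⟨(u : G), u.2, (hφ u).symm⟩
    obtain ⟨f'', hf''⟩ := exists_snd_of_fst_eq _ _ hrange
    have hle'' : SubpairLE p M φ.range f'' P e := by
      change Relation.ReflTransGen (NormalSubpairRel p M) ⟨φ.range, f''⟩ ⟨P, e⟩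
      rw [← hf'']
      exact hleg
    have hback : Relation.ReflTransGen (NormalSubpairRel p M)
        (cjPair g⁻¹ (⟨φ.range, f''⟩ : BrauerPairIdx G)) ⟨P, e⟩ := by
      rw [← hf'', cjPair_mul (M := M) g⁻¹ g Q f hf, inv_mul_cancel, cjPair_one hM Q f hf]
      exact hle
    refine ⟨conjHom φ.range g⁻¹, ⟨?_, g⁻¹, fun u => rfl,
      Cfsg.Agent.S4681.le_of_reflTransGen p M _ _ hback, f'', hle'', hback⟩, ?_⟩
    · rintro _ ⟨u, rfl⟩
      rw [hφ]
      exact hQg ⟨(u : G), u.2, rfl⟩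
    · intro x
      change g⁻¹ * φ x * g⁻¹⁻¹ = _
      rw [hφ]
      group

theorem isBlockFusionSystemOn_blockFS (hM : IsPModular p M) (B : Set (IrrCharacter G))
    (P : Subgroup G) (e : Set (IrrCharacter (Subgroup.centralizer (P : Set G))))
    (hmax : IsMaximalBrauerPair p M B P e) :
    IsBlockFusionSystemOn p M B P e (blockFS hM P e hmax.1.1) :=
  ⟨hmax, fun _ _ => Iff.rfl⟩

end fs

section automized
variable {G : Type u} [Group G] [Fintype G] {M : Ideal AlgInt} {p : ℕ} [hpp : Fact p.Prime]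

/-- the conjugation homomorphism from a subgroup of the normalizer -/
noncomputable def kap (Q T : Subgroup G) (hTN : T ≤ Subgroup.normalizer (Q : Set G)) :
    T →* MulAut Q :=
  (Subgroup.normalizerMonoidHom Q).comp (Subgroup.inclusion hTN)

theorem kap_coe (Q T : Subgroup G) (hTN : T ≤ Subgroup.normalizer (Q : Set G)) (t : T) (u : Q) :
    ((kap Q T hTN t u : Q) : G) = (t : G) * (u : G) * (t : G)⁻¹ := rfl

/-- Automorphisms of `Q` in the block fusion system are the conjugations by elements of the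
stabilizer of the pair. -/
theorem mem_hom_iff_stab (hM : IsPModular p M) (P : Subgroup G)
    (e : Set (IrrCharacter (Subgroup.centralizer (P : Set G)))) (hPe : IsBrauerPair p M P e)
    (Q : Subgroup G) (f : Set (IrrCharacter (Subgroup.centralizer (Q : Set G))))
    (hle : SubpairLE p M Q f P e) (T : Subgroup G)
    (hT : ∀ y : G, y ∈ T ↔ y ∈ Subgroup.normalizer (Q : Set G) ∧
      StabilizesBlock (Subgroup.centralizer (Q : Set G)) f y) (α : MulAut Q) :
    Q.subtype.comp α.toMonoidHom ∈ (blockFS hM P e hPe).Hom Q ↔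
      ∃ t ∈ T, ∀ u : Q, ((α u : Q) : G) = t * (u : G) * t⁻¹ := by
  haveI hprime : M.IsPrime := isPrime_of_isPModular hM
  have hf := isPBlock_of_subpairLE hM P e hPe Q f hle
  have hQP : Q ≤ P := Cfsg.Agent.S4681.le_of_subpairLE p M _ _ P e hle
  constructor
  · rintro ⟨-, g, hφ, hQg, f'', hle'', hleg⟩
    have e1 : f'' = f := subpairLE_unique hM _ P e Q f'' f rfl hle'' hle
    rw [e1] at hleg
    have hφ' : ∀ u : Q, ((α u : Q) : G) = g * (u : G) * g⁻¹ := fun u => hφ u
    have hsub : Q.map (MulAut.conj g).toMonoidHom ≤ Q := by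
      rintro _ ⟨u, hu, rfl⟩
      have := hφ' ⟨u, hu⟩
      change g * u * g⁻¹ ∈ Q
      rw [← this]
      exact (α ⟨u, hu⟩).2
    have hcard : Nat.card (Q.map (MulAut.conj g).toMonoidHom : Subgroup G) = Nat.card Q := by
      have hinj : Function.Injective (MulAut.conj g).toMonoidHom := (MulAut.conj g).injective
      exact Subgroup.card_map_of_injective hinj
    have hfst : (cjPair g (⟨Q, f⟩ : BrauerPairIdx G)).1 = Q :=
      Subgroup.eq_of_le_of_card_ge hsub (le_of_eq hcard.symm)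
    obtain ⟨f₃, hf₃⟩ := exists_snd_of_fst_eq _ _ hfst
    have hle₃ : SubpairLE p M Q f₃ P e := by
      change Relation.ReflTransGen (NormalSubpairRel p M) ⟨Q, f₃⟩ ⟨P, e⟩
      rw [← hf₃]
      exact hleg
    have e2 : f₃ = f := subpairLE_unique hM _ P e Q f₃ f rfl hle₃ hle
    rw [e2] at hf₃
    obtain ⟨hN, hst⟩ := mem_stab_of_cjPair_eq g Q f hf₃
    exact ⟨g, (hT g).mpr ⟨hN, hst⟩, hφ'⟩
  · rintro ⟨t, ht, hα⟩
    obtain ⟨hN, hst⟩ := (hT t).mp ht
    have hfix := cjPair_eq_self_of_stab (M := M) t Q f hf hN hst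
    have hleg : Relation.ReflTransGen (NormalSubpairRel p M) (cjPair t (⟨Q, f⟩ : BrauerPairIdx G))
        ⟨P, e⟩ := by
      rw [hfix]; exact hle
    exact ⟨hQP, t, fun u => hα u, Cfsg.Agent.S4681.le_of_reflTransGen p M _ _ hleg, f, hle, hleg⟩

theorem autGroup_eq_range (hM : IsPModular p M) (P : Subgroup G)
    (e : Set (IrrCharacter (Subgroup.centralizer (P : Set G)))) (hPe : IsBrauerPair p M P e)
    (Q : Subgroup G) (f : Set (IrrCharacter (Subgroup.centralizer (Q : Set G))))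
    (hle : SubpairLE p M Q f P e) (T : Subgroup G)
    (hT : ∀ y : G, y ∈ T ↔ y ∈ Subgroup.normalizer (Q : Set G) ∧
      StabilizesBlock (Subgroup.centralizer (Q : Set G)) f y)
    (hTN : T ≤ Subgroup.normalizer (Q : Set G)) :
    (blockFS hM P e hPe).autGroup Q = (kap Q T hTN).range := by
  apply le_antisymm
  · unfold FusionSystem.autGroup
    rw [Subgroup.closure_le]
    intro α hα
    obtain ⟨t, ht, hαt⟩ := (mem_hom_iff_stab hM P e hPe Q f hle T hT α).mp hα
    refine ⟨⟨t, ht⟩, ?_⟩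
    ext u
    rw [kap_coe, hαt]
  · rintro _ ⟨t, rfl⟩
    apply Subgroup.subset_closure
    exact (mem_hom_iff_stab hM P e hPe Q f hle T hT _).mpr ⟨t, t.2, fun u => kap_coe Q T hTN t u⟩

theorem autInducedBy_eq_map (P Q T : Subgroup G) (hTN : T ≤ Subgroup.normalizer (Q : Set G))
    (hNT : P ⊓ Subgroup.normalizer (Q : Set G) ≤ T) :
    autInducedBy P Q = ((P ⊓ Subgroup.normalizer (Q : Set G)).subgroupOf T).map (kap Q T hTN) := by
  apply le_antisymm
  · unfold autInducedBy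
    rw [Subgroup.closure_le]
    rintro α ⟨g, hg, hα⟩
    have hgN : g ∈ Subgroup.normalizer (Q : Set G) := by
      rw [Subgroup.mem_normalizer_iff]
      intro h
      constructor
      · intro hh
        have := hα ⟨h, hh⟩
        rw [← this]
        exact (α ⟨h, hh⟩).2
      · intro hh
        obtain ⟨u, hu⟩ := α.surjective ⟨g * h * g⁻¹, hh⟩
        have h1 := hα u
        rw [hu] at h1
        have h2 : h = (u : G) := by
          have h3 : g * h * g⁻¹ = g * (u : G) * g⁻¹ := h1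
          exact mul_left_cancel (mul_right_cancel h3)
        rw [h2]
        exact u.2
    have hgT : g ∈ T := hNT ⟨hg, hgN⟩
    refine ⟨⟨g, hgT⟩, Subgroup.mem_subgroupOf.mpr ⟨hg, hgN⟩, ?_⟩
    ext u
    rw [kap_coe, hα]
  · rintro _ ⟨n, hn, rfl⟩
    apply Subgroup.subset_closure
    exact ⟨(n : G), (Subgroup.mem_subgroupOf.mp hn).1, fun u => kap_coe Q T hTN n u⟩

theorem ker_kap (Q T : Subgroup G) (hTN : T ≤ Subgroup.normalizer (Q : Set G)) :
    (kap Q T hTN).ker = (Subgroup.centralizer (Q : Set G)).subgroupOf T := by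
  ext t
  rw [MonoidHom.mem_ker, Subgroup.mem_subgroupOf, Subgroup.mem_centralizer_iff]
  constructor
  · intro h u hu
    have h1 : ((kap Q T hTN t ⟨u, hu⟩ : Q) : G) = u := by rw [h]; rfl
    rw [kap_coe] at h1
    have h2 : (t : G) * u = u * (t : G) := by
      calc (t : G) * u = (t : G) * u * (t : G)⁻¹ * (t : G) := by group
        _ = u * (t : G) := by rw [h1]
    exact h2.symm
  · intro h
    ext u
    rw [kap_coe]
    have h1 := h (u : G) u.2
    change (t : G) * (u : G) * (t : G)⁻¹ = (u : G)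
    rw [← h1]
    group

/-- The fully normalized pair is fully automized. -/
theorem isFullyAutomized_of_defect (hM : IsPModular p M) (P : Subgroup G)
    (e : Set (IrrCharacter (Subgroup.centralizer (P : Set G)))) (hPe : IsBrauerPair p M P e)
    (Q : Subgroup G) (f : Set (IrrCharacter (Subgroup.centralizer (Q : Set G))))
    (hle : SubpairLE p M Q f P e) (T : Subgroup G)
    (hT : ∀ y : G, y ∈ T ↔ y ∈ Subgroup.normalizer (Q : Set G) ∧
      StabilizesBlock (Subgroup.centralizer (Q : Set G)) f y)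
    (F : Set (IrrCharacter T)) (hF : IsPBlock M F)
    (hFf : ∀ t : T, blockCoeff F t =
      subgroupBlockCoeff (Subgroup.centralizer (Q : Set G)) f (t : G))
    (hdef : IsDefectGroup p M F ((P ⊓ Subgroup.normalizer (Q : Set G)).subgroupOf T)) :
    (blockFS hM P e hPe).IsFullyAutomized p Q := by
  classical
  have hf := isPBlock_of_subpairLE hM P e hPe Q f hle
  have hQP : Q ≤ P := Cfsg.Agent.S4681.le_of_subpairLE p M _ _ P e hle
  have hTN : T ≤ Subgroup.normalizer (Q : Set G) := fun t ht => ((hT t).mp ht).1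
  have hNT : P ⊓ Subgroup.normalizer (Q : Set G) ≤ T :=
    Cfsg.Agent.S4679.inf_normalizer_le_stab p M hM P Q e f hPe hQP hle T hT
  refine ⟨hQP, ?_⟩
  rw [autGroup_eq_range hM P e hPe Q f hle T hT hTN, autInducedBy_eq_map P Q T hTN hNT]
  have hS : (((P ⊓ Subgroup.normalizer (Q : Set G)).subgroupOf T).map (kap Q T hTN)).subgroupOf
      (kap Q T hTN).range =
      ((P ⊓ Subgroup.normalizer (Q : Set G)).subgroupOf T).map (kap Q T hTN).rangeRestrict := by
    ext y
    rw [Subgroup.mem_subgroupOf, Subgroup.mem_map, Subgroup.mem_map]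
    constructor
    · rintro ⟨n, hn, hny⟩
      exact ⟨n, hn, Subtype.ext hny⟩
    · rintro ⟨n, hn, hny⟩
      exact ⟨n, hn, congrArg Subtype.val hny⟩
  rw [hS]
  have hNp : IsPGroup p ((P ⊓ Subgroup.normalizer (Q : Set G)).subgroupOf T) :=
    (hPe.1.to_le inf_le_left).comap_subtype
  have hSp : IsPGroup p (((P ⊓ Subgroup.normalizer (Q : Set G)).subgroupOf T).map
      (kap Q T hTN).rangeRestrict) := hNp.map _
  have hidx : ¬ p ∣ (((P ⊓ Subgroup.normalizer (Q : Set G)).subgroupOf T).map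
      (kap Q T hTN).rangeRestrict).index := by
    rw [Subgroup.index_map, MonoidHom.ker_rangeRestrict, ker_kap,
      MonoidHom.range_eq_top.mpr (kap Q T hTN).rangeRestrict_surjective, Subgroup.index_top,
      mul_one]
    exact not_dvd_index_sup_centralizer hM Q T f hf hT F hF hFf _ hdef
  exact ⟨hSp.toSylow hidx, IsPGroup.toSylow_coe hSp hidx⟩

end automized

section receptive
variable {G : Type u} [Group G] [Fintype G] {M : Ideal AlgInt} {p : ℕ} [hpp : Fact p.Prime]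

/-- The fully normalized pair is receptive. -/
theorem isReceptive_of_defect (hM : IsPModular p M) (P : Subgroup G)
    (e : Set (IrrCharacter (Subgroup.centralizer (P : Set G)))) (hPe : IsBrauerPair p M P e)
    (Q : Subgroup G) (f : Set (IrrCharacter (Subgroup.centralizer (Q : Set G))))
    (hle : SubpairLE p M Q f P e) (T : Subgroup G)
    (hT : ∀ y : G, y ∈ T ↔ y ∈ Subgroup.normalizer (Q : Set G) ∧
      StabilizesBlock (Subgroup.centralizer (Q : Set G)) f y)
    (F : Set (IrrCharacter T)) (hF : IsPBlock M F)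
    (hFf : ∀ t : T, blockCoeff F t =
      subgroupBlockCoeff (Subgroup.centralizer (Q : Set G)) f (t : G))
    (hdef : IsDefectGroup p M F ((P ⊓ Subgroup.normalizer (Q : Set G)).subgroupOf T)) :
    (blockFS hM P e hPe).IsReceptive Q := by
  classical
  haveI hprime : M.IsPrime := isPrime_of_isPModular hM
  have hP : IsPGroup p P := hPe.1
  have hf := isPBlock_of_subpairLE hM P e hPe Q f hle
  have hQP : Q ≤ P := Cfsg.Agent.S4681.le_of_subpairLE p M _ _ P e hle
  have hQp : IsPGroup p Q := hP.to_le hQP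
  have hNT : P ⊓ Subgroup.normalizer (Q : Set G) ≤ T :=
    Cfsg.Agent.S4679.inf_normalizer_le_stab p M hM P Q e f hPe hQP hle T hT
  have hCT : Subgroup.centralizer (Q : Set G) ≤ T := centralizer_le_stab Q T f hT
  refine ⟨hQP, ?_⟩
  rintro R φ ⟨hRP, g, hφ, hRg, fR, hleR, hlegR⟩ hrange
  have hfR := isPBlock_of_subpairLE hM P e hPe R fR hleR
  -- the conjugate pair is `(Q, f)`
  have hfst : (cjPair g (⟨R, fR⟩ : BrauerPairIdx G)).1 = Q := by
    rw [← hrange]
    change R.map (MulAut.conj g).toMonoidHom = φ.range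
    ext y
    constructor
    · rintro ⟨u, hu, rfl⟩
      exact ⟨⟨u, hu⟩, hφ ⟨u, hu⟩⟩
    · rintro ⟨u, rfl⟩
      exact ⟨(u : G), u.2, (hφ u).symm⟩
  obtain ⟨f₃, hf₃⟩ := exists_snd_of_fst_eq _ _ hfst
  have hle₃ : SubpairLE p M Q f₃ P e := by
    change Relation.ReflTransGen (NormalSubpairRel p M) ⟨Q, f₃⟩ ⟨P, e⟩
    rw [← hf₃]
    exact hlegR
  have e2 : f₃ = f := subpairLE_unique hM _ P e Q f₃ f rfl hle₃ hle
  rw [e2] at hf₃
  have hy : cjPair g (⟨R, fR⟩ : BrauerPairIdx G) = ⟨Q, f⟩ := hf₃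
  have hQeq : R.map (MulAut.conj g).toMonoidHom = Q := hfst
  -- the extender
  set Nφ : Subgroup G := FusionSystem.extender P R φ with hNφ
  have hRN : R ≤ Nφ := by
    intro y hyR
    apply Subgroup.subset_closure
    refine ⟨hRP hyR, Subgroup.le_normalizer hyR, φ ⟨y, hyR⟩, ?_, ?_⟩
    · rw [hφ]
      exact hRg ⟨y, hyR, rfl⟩
    · intro x hx
      have : (⟨y * (x : G) * y⁻¹, hx⟩ : R) = ⟨y, hyR⟩ * x * ⟨y, hyR⟩⁻¹ := Subtype.ext rfl
      rw [this, map_mul, map_mul, map_inv]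
  have hNPN : Nφ ≤ P ⊓ Subgroup.normalizer (R : Set G) := by
    rw [hNφ]
    unfold FusionSystem.extender
    rw [Subgroup.closure_le]
    rintro y ⟨hyP, hyN, -⟩
    exact ⟨hyP, hyN⟩
  have hNφP : Nφ ≤ P := hNPN.trans inf_le_left
  -- the subgroup `H`
  set H : Subgroup G := (P ⊓ Subgroup.normalizer (Q : Set G)) ⊔ Subgroup.centralizer (Q : Set G)
    with hHdef
  have hNH : P ⊓ Subgroup.normalizer (Q : Set G) ≤ H := le_sup_left
  have hCH : Subgroup.centralizer (Q : Set G) ≤ H := le_sup_right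
  have hHT : H ≤ T := sup_le hNT hCT
  have hQH : Q ≤ H := (le_inf hQP Subgroup.le_normalizer).trans hNH
  have hHst : ∀ y : G, y ∈ H → y ∈ Subgroup.normalizer (Q : Set G) ∧
      StabilizesBlock (Subgroup.centralizer (Q : Set G)) f y := fun y hy => (hT y).mp (hHT hy)
  have hNφH : Nφ.map (MulAut.conj g).toMonoidHom ≤ H := by
    rw [Subgroup.map_le_iff_le_comap, hNφ]
    unfold FusionSystem.extender
    rw [Subgroup.closure_le]
    rintro y ⟨hyP, hyN, h, hhP, hh⟩
    change g * y * g⁻¹ ∈ H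
    have hc : h⁻¹ * (g * y * g⁻¹) ∈ Subgroup.centralizer (Q : Set G) := by
      rw [Subgroup.mem_centralizer_iff]
      intro q hq
      rw [← hQeq] at hq
      obtain ⟨x, hx, rfl⟩ := hq
      have hx' : y * x * y⁻¹ ∈ R := (Subgroup.mem_normalizer_iff.mp hyN x).mp hx
      have h1 := hh ⟨x, hx⟩ hx'
      rw [hφ, hφ] at h1
      change g * x * g⁻¹ * (h⁻¹ * (g * y * g⁻¹)) = h⁻¹ * (g * y * g⁻¹) * (g * x * g⁻¹)
      have h2 : g * (y * x * y⁻¹) * g⁻¹ = h * (g * x * g⁻¹) * h⁻¹ := h1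
      have h3 : g * y * g⁻¹ * (g * x * g⁻¹) = h * (g * x * g⁻¹) * h⁻¹ * (g * y * g⁻¹) := by
        rw [← h2]; group
      calc g * x * g⁻¹ * (h⁻¹ * (g * y * g⁻¹))
          = h⁻¹ * (h * (g * x * g⁻¹) * h⁻¹ * (g * y * g⁻¹)) := by group
        _ = h⁻¹ * (g * y * g⁻¹ * (g * x * g⁻¹)) := by rw [h3]
        _ = h⁻¹ * (g * y * g⁻¹) * (g * x * g⁻¹) := by group
    have hgyN : g * y * g⁻¹ ∈ Subgroup.normalizer (Q : Set G) := by
      have := conj_mem_normalizer_map_conj R g y hyN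
      rwa [hQeq] at this
    have hhN : h ∈ Subgroup.normalizer (Q : Set G) := by
      have e3 : h = (g * y * g⁻¹) * (h⁻¹ * (g * y * g⁻¹))⁻¹ := by group
      rw [e3]
      exact Subgroup.mul_mem _ hgyN (Subgroup.inv_mem _
        (Subgroup.centralizer_le_normalizer _ hc))
    have e4 : g * y * g⁻¹ = h * (h⁻¹ * (g * y * g⁻¹)) := by group
    rw [e4]
    exact Subgroup.mul_mem_sup ⟨hhP, hhN⟩ hc
  -- the block of `H` and its maximal pair
  obtain ⟨FH, hFH, hFHf⟩ := exists_block_H hM Q H hQp f hf hCH hQH hHst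
  obtain ⟨g₀, hR₀, hC₀, hle₀, hmax₀⟩ := exists_maximal_pair_H hM P Q e f hPe hQP hf hle T hT F hF
    hFf hdef H hCH hHT hNH FH hFH hFHf
  -- the pair at `Nφ`
  have hNφp : IsPGroup p Nφ := hP.to_le hNφP
  obtain ⟨fN, hfN, hleN⟩ := exists_subpairLE hM P e hPe Nφ hNφP
  obtain ⟨f', hf', hRNle⟩ := exists_subpairLE hM Nφ fN ⟨hNφp, hfN⟩ R hRN
  have e1 : f' = fR := subpairLE_unique hM _ P e R f' fR rfl
    (Relation.ReflTransGen.trans hRNle hleN) hleR
  rw [e1] at hRNle
  have hnorm : IsNormalSubpair p M R fR Nφ fN :=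
    Cfsg.Agent.S4682.isNormalSubpair_of_le_normal p M hM Nφ R fN fR ⟨hNφp, hfN⟩ hRN
      (hNPN.trans inf_le_right) hRNle
  have hn3' : NormalSubpairRel p M (cjPair g (⟨R, fR⟩ : BrauerPairIdx G))
      (cjPair g ⟨Nφ, fN⟩) := isNormalSubpair_conj (M := M) p g R Nφ fR fN hnorm
  rw [hy] at hn3'
  set R₃ : Subgroup G := Nφ.map (MulAut.conj g).toMonoidHom with hR₃def
  set h₃ := conjBlock Nφ g fN with hh₃def
  have hn3 : IsNormalSubpair p M Q f R₃ h₃ := hn3'
  have hQR₃ : Q ≤ R₃ := hn3.2.2.1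
  have hR : R₃ = (R₃.subgroupOf H).map H.subtype :=
    (Subgroup.map_subgroupOf_eq_of_le hNφH).symm
  have hC : Subgroup.centralizer (R₃ : Set G) ≤ H := (Subgroup.centralizer_le hQR₃).trans hCH
  have hpair₃ := (isNormalSubpair_iff_isBrauerPairOf_H (M := M) Q H R₃ (R₃.subgroupOf H) hQp f hf
    hHst FH hFH hFHf hR hQR₃ hC h₃).mp hn3
  let _ : Fintype H := Fintype.ofFinite _
  obtain ⟨t, ht⟩ := Cfsg.Agent.S4660.result p M hM FH _ (R₃.subgroupOf H) _ _ hmax₀ hpair₃
  -- transport to `G`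
  have hcorr₃ : Corr H (⟨R₃.subgroupOf H, BlockIso.pullBlock (centEquivT H R₃ _ hR hC) h₃⟩ :
      BrauerPairIdx H) (⟨R₃, h₃⟩ : BrauerPairIdx G) := ⟨hR, hC, rfl⟩
  have hcorr_t := corr_cjPair H t _ _ hcorr₃
  have htN : (t : G) ∈ Subgroup.normalizer (Q : Set G) := (hHst (t : G) t.2).1
  have hQle : Q ≤ (cjPair (t : G) (⟨R₃, h₃⟩ : BrauerPairIdx G)).1 := by
    intro q hq
    change q ∈ R₃.map (MulAut.conj (t : G)).toMonoidHom
    rw [mem_map_conj_iff]
    apply hQR₃
    have h1 := Subgroup.mem_normalizer_iff.mp (Subgroup.inv_mem _ htN) q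
    rw [inv_inv] at h1
    exact h1.mp hq
  obtain ⟨b, hb, hchain⟩ := reflTransGen_of_corr (M := M) H p Q hCH _ _ ht _ hcorr_t hQle
  have hcorr₀ : Corr H (⟨(P ⊓ Subgroup.normalizer (Q : Set G)).subgroupOf H,
      BlockIso.pullBlock (centEquivT H _ _ hR₀ hC₀) g₀⟩ : BrauerPairIdx H)
      (⟨P ⊓ Subgroup.normalizer (Q : Set G), g₀⟩ : BrauerPairIdx G) := ⟨hR₀, hC₀, rfl⟩
  have hbeq := corr_unique H _ b _ hb hcorr₀
  rw [hbeq] at hchain
  have hchain2 : Relation.ReflTransGen (NormalSubpairRel p M)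
      (cjPair ((t : G) * g) (⟨Nφ, fN⟩ : BrauerPairIdx G)) ⟨P, e⟩ := by
    rw [← cjPair_mul (M := M) (t : G) g _ fN hfN]
    exact Relation.ReflTransGen.trans hchain hle₀
  -- factor `t`
  have hNnorm : P ⊓ Subgroup.normalizer (Q : Set G) ≤
      Subgroup.normalizer ((Subgroup.centralizer (Q : Set G) : Subgroup G) : Set G) :=
    fun x hx => mem_normalizer_centralizer_of_mem_normalizer hx.2
  have htH : ∀ x : G, x ∈ H → ∃ n ∈ P ⊓ Subgroup.normalizer (Q : Set G),
      ∃ c ∈ Subgroup.centralizer (Q : Set G), n * c = x := by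
    intro x hx
    have hx' : x ∈ (((P ⊓ Subgroup.normalizer (Q : Set G)) ⊔
        Subgroup.centralizer (Q : Set G) : Subgroup G) : Set G) := hx
    rw [Subgroup.coe_mul_of_left_le_normalizer_right _ _ hNnorm] at hx'
    exact hx'
  obtain ⟨n, hn, c, hc, hnc⟩ := htH (t : G) t.2
  have hnP : n ∈ P := hn.1
  have hfinal : Relation.ReflTransGen (NormalSubpairRel p M)
      (cjPair (c * g) (⟨Nφ, fN⟩ : BrauerPairIdx G)) ⟨P, e⟩ := by
    have h1 := reflTransGen_cjPair (M := M) p n⁻¹ _ _ hchain2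
    rw [cjPair_mul (M := M) n⁻¹ ((t : G) * g) Nφ fN hfN,
      cjPair_eq_self_of_mem hM P e hPe.2 n⁻¹ (P.inv_mem hnP)] at h1
    have e5 : n⁻¹ * ((t : G) * g) = c * g := by
      rw [← hnc]; group
    rwa [e5] at h1
  refine ⟨conjHom Nφ (c * g), ⟨hNφP, c * g, fun u => rfl,
    Cfsg.Agent.S4681.le_of_reflTransGen p M _ _ hfinal, fN, hleN, hfinal⟩, ?_⟩
  intro x hxR hxN
  change c * g * x * (c * g)⁻¹ = φ ⟨x, hxR⟩
  rw [hφ]
  have hq : g * x * g⁻¹ ∈ Q := by
    rw [← hQeq]; exact ⟨x, hxR, rfl⟩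
  have hcomm := Subgroup.mem_centralizer_iff.mp hc _ hq
  calc c * g * x * (c * g)⁻¹ = c * (g * x * g⁻¹) * c⁻¹ := by group
    _ = g * x * g⁻¹ * c * c⁻¹ := by rw [hcomm]
    _ = g * x * g⁻¹ := by group

end receptive

theorem result' {G : Type u} [Group G] [Fintype G] (p : ℕ) [Fact p.Prime] (M : Ideal Cfsg.AlgInt) (hM : Cfsg.IsPModular p M) (B : Set (Cfsg.IrrCharacter G)) (P : Subgroup G) (e : Set (Cfsg.IrrCharacter (Subgroup.centralizer (P : Set G)))) (hmax : Cfsg.IsMaximalBrauerPair p M B P e) : ∃ F : Cfsg.FusionSystem P, Cfsg.IsBlockFusionSystemOn p M B P e F ∧ F.IsSaturated p := by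
  classical
  haveI hprime : M.IsPrime := isPrime_of_isPModular hM
  have hPe : IsBrauerPair p M P e := hmax.1.1
  refine ⟨blockFS hM P e hPe, isBlockFusionSystemOn_blockFS hM B P e hmax, ?_⟩
  intro Q hQP
  obtain ⟨f, hf, hle⟩ := exists_subpairLE hM P e hPe Q hQP
  obtain ⟨T, hT⟩ := Cfsg.Agent.S4679.exists_stab M Q f hf
  obtain ⟨-, x, hlex, hx⟩ := Cfsg.Agent.S4662.result p M hM B P Q e f hmax hQP hf hle T hT
  have hf₂ : IsPBlock M (conjBlock Q x f) := isPBlock_conjBlock Q x hf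
  obtain ⟨T₂, hT₂⟩ := Cfsg.Agent.S4679.exists_stab M _ _ hf₂
  obtain ⟨F₂, hF₂, hF₂f, hdef₂⟩ := hx T₂ hT₂
  refine ⟨Q.map (MulAut.conj x).toMonoidHom, ?_,
    isFullyAutomized_of_defect hM P e hPe _ _ hlex T₂ hT₂ F₂ hF₂ hF₂f hdef₂,
    isReceptive_of_defect hM P e hPe _ _ hlex T₂ hT₂ F₂ hF₂ hF₂f hdef₂⟩
  exact (blockFusion_isConj_iff hM B P e _ (isBlockFusionSystemOn_blockFS hM B P e hmax) Q f hle
    _).mpr ⟨x, rfl, hlex⟩

/-- Fix a prime p and a maximal ideal M of the algebraic integers containing p, a p-block B of the finite group G and a maximal Brauer pair (P, e) of B. Then the fusion system of B on (P, e) exists and is saturated: there is a saturated fusion system over P, with ambient group G, whose maps with source a subgroup Q of P are exactly the conjugation maps by elements g of G that carry the Brauer pair (Q, e_Q) below (P, e) to a Brauer pair again below (P, e). -/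
theorem result {G : Type*} [Group G] [Fintype G] (p : ℕ) [Fact p.Prime] (M : Ideal Cfsg.AlgInt) (hM : Cfsg.IsPModular p M) (B : Set (Cfsg.IrrCharacter G)) (P : Subgroup G) (e : Set (Cfsg.IrrCharacter (Subgroup.centralizer (P : Set G)))) (hmax : Cfsg.IsMaximalBrauerPair p M B P e) : ∃ F : Cfsg.FusionSystem P, Cfsg.IsBlockFusionSystemOn p M B P e F ∧ F.IsSaturated p := by
  exact result' p M hM B P e hmax

end Cfsg.Agent.S4677
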