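import Cfsg.Statements.S4661
import Mathlib
import Cfsg.Agent.Lib.Helper24.CentTransport
import Cfsg.Agent.Lib.Helper24.SubpairChain
import Cfsg.Agent.Lib.Helper23.QuotDefectAux
import Cfsg.Agent.S4656
import Cfsg.Agent.S4658
import Cfsg.Agent.S4659
import Cfsg.Agent.S4660

set_option autoImplicit false
open Cfsg

namespace Cfsg.Agent.S4661

open Cfsg.Agent.CharLib Cfsg.Agent.Lib.Helper24 Cfsg.Agent.Lib.Helper6
open scoped ComplexConjugate
universe u

/-- `C_P(Q)` lies in (the subgroup of) a maximal `f`-Brauer pair of the group `C_G(Q)`. -/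
theorem exists_maximal_pair_ge {G : Type u} [Group G] [Fintype G] (p : ℕ) [Fact p.Prime]
    (M : Ideal Cfsg.AlgInt) (hM : Cfsg.IsPModular p M) (P Q : Subgroup G)
    (e : Set (Cfsg.IrrCharacter (Subgroup.centralizer (P : Set G))))
    (f : Set (Cfsg.IrrCharacter (Subgroup.centralizer (Q : Set G))))
    (hPe : IsBrauerPair p M P e) (hQP : Q ≤ P) (hle : Cfsg.SubpairLE p M Q f P e) :
    ∃ (D : Subgroup (Subgroup.centralizer (Q : Set G)))
      (gD : Set (IrrCharacter (Subgroup.centralizer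
        (D : Set (Subgroup.centralizer (Q : Set G)))))),
      IsMaximalBrauerPair p M f D gD ∧
        (P ⊓ Subgroup.centralizer (Q : Set G)).subgroupOf (Subgroup.centralizer (Q : Set G)) ≤ D := by
  classical
  have hQ : IsPGroup p Q := hPe.1.to_le hQP
  have hmap : ((P ⊓ Subgroup.centralizer (Q : Set G)).subgroupOf
      (Subgroup.centralizer (Q : Set G))).map (Subgroup.centralizer (Q : Set G)).subtype =
      P ⊓ Subgroup.centralizer (Q : Set G) := Subgroup.map_subgroupOf_eq_of_le inf_le_right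
  have hR : Q ⊔ (P ⊓ Subgroup.centralizer (Q : Set G)) =
      Q ⊔ ((P ⊓ Subgroup.centralizer (Q : Set G)).subgroupOf
        (Subgroup.centralizer (Q : Set G))).map (Subgroup.centralizer (Q : Set G)).subtype := by
    rw [hmap]
  have hRP : Q ⊔ (P ⊓ Subgroup.centralizer (Q : Set G)) ≤ P := sup_le hQP inf_le_left
  have hRp : IsPGroup p (Q ⊔ (P ⊓ Subgroup.centralizer (Q : Set G)) : Subgroup G) :=
    hPe.1.to_le hRP
  obtain ⟨g, hg, hRPle⟩ := exists_subpairLE hM P e hPe _ hRP
  obtain ⟨f', hf', hQRle⟩ := exists_subpairLE hM _ g ⟨hRp, hg⟩ Q le_sup_left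
  have e1 : f' = f := subpairLE_unique hM _ P e Q f' f rfl
    (Relation.ReflTransGen.trans hQRle hRPle) hle
  rw [e1] at hQRle
  have hRN : Q ⊔ (P ⊓ Subgroup.centralizer (Q : Set G)) ≤ Subgroup.normalizer (Q : Set G) :=
    sup_le Subgroup.le_normalizer (inf_le_right.trans (Subgroup.centralizer_le_normalizer _))
  obtain ⟨f'', hf'', -⟩ := Cfsg.Agent.S4656.result' p M hM _ Q g ⟨hRp, hg⟩ le_sup_left hRN
  have e2 : f'' = f := subpairLE_unique hM _ _ g Q f'' f rfl
    (Relation.ReflTransGen.single hf'') hQRle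
  rw [e2] at hf''
  have hpair := (isNormalSubpair_iff_isBrauerPairOf (M := M) Q _ _ hQ hR f g).mp hf''
  let _ : Fintype (Subgroup.centralizer (Q : Set G)) := Fintype.ofFinite _
  obtain ⟨D, gD, hmax, hleD⟩ := exists_maximal_ge (M := M) p f _ _ _ hpair rfl
  exact ⟨D, gD, hmax, Cfsg.Agent.S4681.le_of_subpairLE p M _ _ D gD hleD⟩

theorem result' {G : Type u} [Group G] [Fintype G] (p : ℕ) [Fact p.Prime] (M : Ideal Cfsg.AlgInt) (hM : Cfsg.IsPModular p M) (B : Set (Cfsg.IrrCharacter G)) (P Q : Subgroup G) (e : Set (Cfsg.IrrCharacter (Subgroup.centralizer (P : Set G)))) (f : Set (Cfsg.IrrCharacter (Subgroup.centralizer (Q : Set G)))) (hmax : Cfsg.IsMaximalBrauerPair p M B P e) (hQP : Q ≤ P) (hf : Cfsg.IsPBlock M f) (hle : Cfsg.SubpairLE p M Q f P e) : (∃ D : Subgroup (Subgroup.centralizer (Q : Set G)), Cfsg.IsDefectGroup p M f D ∧ (P ⊓ Subgroup.centralizer (Q : Set G)).subgroupOf (Subgroup.centralizer (Q : Set G)) ≤ D) ∧ ∃ x : G, Cfsg.SubpairLE p M (Q.map (MulAut.conj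 x).toMonoidHom) (Cfsg.conjBlock Q x f) P e ∧ Cfsg.IsDefectGroup p M (Cfsg.conjBlock Q x f) ((P ⊓ Subgroup.centralizer ((Q.map (MulAut.conj x).toMonoidHom) : Set G)).subgroupOf (Subgroup.centralizer ((Q.map (MulAut.conj x).toMonoidHom) : Set G))) := by
  classical
  haveI hprime : M.IsPrime := isPrime_of_isPModular hM
  have hPe : IsBrauerPair p M P e := hmax.1.1
  have hB : IsPBlock M B := hmax.1.2.1
  have hQ : IsPGroup p Q := hPe.1.to_le hQP
  let _ : Fintype (Subgroup.centralizer (Q : Set G)) := Fintype.ofFinite _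
  obtain ⟨D, gD, hmaxD, hCPD⟩ := exists_maximal_pair_ge p M hM P Q e f hPe hQP hle
  have hDdef : IsDefectGroup p M f D := Cfsg.Agent.S4659.result p M hM f D gD hmaxD
  refine ⟨⟨D, hDdef, hCPD⟩, ?_⟩
  -- the pair `(Q·D, g)` of `G`
  set g := BlockIso.pullBlock (centEquivQ Q _ D rfl).symm gD with hgdef
  have hgD : BlockIso.pullBlock (centEquivQ Q _ D rfl) g = gD := by
    rw [hgdef]
    exact BlockIso.pullBlock_symm_pullBlock (centEquivQ Q _ D rfl).symm gD
  have hnorm : IsNormalSubpair p M Q f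
      (Q ⊔ D.map (Subgroup.centralizer (Q : Set G)).subtype) g := by
    rw [isNormalSubpair_iff_isBrauerPairOf (M := M) Q _ D hQ rfl f g, hgD]
    exact hmaxD.1
  have hQfB : IsBrauerPairOf p M B Q f :=
    (Cfsg.Agent.S4658.result p M hM P Q e f hPe ⟨hQ, hf⟩ hle B hB).mp hmax.1
  have hRgB : IsBrauerPairOf p M B (Q ⊔ D.map (Subgroup.centralizer (Q : Set G)).subtype) g :=
    (Cfsg.Agent.S4658.result p M hM _ Q g f hnorm.2.1 ⟨hQ, hf⟩
      (Relation.ReflTransGen.single hnorm) B hB).mpr hQfB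
  obtain ⟨x, hx⟩ := Cfsg.Agent.S4660.result p M hM B P _ e g hmax hRgB
  have hnormx := isNormalSubpair_conj (M := M) p x Q _ f g hnorm
  have hlex : SubpairLE p M (Q.map (MulAut.conj x).toMonoidHom) (conjBlock Q x f) P e := by
    have hstep : NormalSubpairRel p M ⟨Q.map (MulAut.conj x).toMonoidHom, conjBlock Q x f⟩
        ⟨(Q ⊔ D.map (Subgroup.centralizer (Q : Set G)).subtype).map
          (MulAut.conj x).toMonoidHom, conjBlock _ x g⟩ := hnormx
    exact Relation.ReflTransGen.head hstep hx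
  refine ⟨x, hlex, ?_⟩
  -- the conjugate defect group
  have hDx : IsDefectGroup p M (conjBlock Q x f) (D.comap (cjC Q x).symm.toMonoidHom) := by
    rw [conjBlock_eq_pullBlock]
    exact BlockIso.isDefectGroup_pullBlock (cjC Q x).symm hDdef
  have hQxP : Q.map (MulAut.conj x).toMonoidHom ≤ P :=
    Cfsg.Agent.S4681.le_of_subpairLE p M _ _ P e hlex
  have hRxP : (Q ⊔ D.map (Subgroup.centralizer (Q : Set G)).subtype).map
      (MulAut.conj x).toMonoidHom ≤ P :=
    Cfsg.Agent.S4681.le_of_subpairLE p M _ _ P e hx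
  have hDxle : D.comap (cjC Q x).symm.toMonoidHom ≤
      (P ⊓ Subgroup.centralizer ((Q.map (MulAut.conj x).toMonoidHom : Subgroup G) : Set G)).subgroupOf
        (Subgroup.centralizer ((Q.map (MulAut.conj x).toMonoidHom : Subgroup G) : Set G)) := by
    intro c' hc'
    rw [Subgroup.mem_subgroupOf, Subgroup.mem_inf]
    refine ⟨?_, c'.2⟩
    apply hRxP
    rw [mem_map_conj_iff]
    have h1 : (cjC Q x).symm c' ∈ D := hc'
    have h2 : (((cjC Q x).symm c' : Subgroup.centralizer (Q : Set G)) : G) ∈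
        D.map (Subgroup.centralizer (Q : Set G)).subtype := ⟨_, h1, rfl⟩
    rw [cjC_symm_coe] at h2
    exact (le_sup_right : D.map (Subgroup.centralizer (Q : Set G)).subtype ≤ _) h2
  let _ : Fintype (Subgroup.centralizer
      ((Q.map (MulAut.conj x).toMonoidHom : Subgroup G) : Set G)) := Fintype.ofFinite _
  obtain ⟨D₂, gD₂, hmaxD₂, hCPD₂⟩ := exists_maximal_pair_ge p M hM P
    (Q.map (MulAut.conj x).toMonoidHom) e (conjBlock Q x f) hPe hQxP hlex
  have hD₂def : IsDefectGroup p M (conjBlock Q x f) D₂ :=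
    Cfsg.Agent.S4659.result p M hM _ D₂ gD₂ hmaxD₂
  have hfx : IsPBlock M (conjBlock Q x f) := isPBlock_conjBlock Q x hf
  have hcard : Nat.card D₂ ≤ Nat.card (D.comap (cjC Q x).symm.toMonoidHom) :=
    card_le_of_isDefectGroup hM hfx hD₂def hDx
  have heq : D.comap (cjC Q x).symm.toMonoidHom = D₂ :=
    Subgroup.eq_of_le_of_card_ge (hDxle.trans hCPD₂) hcard
  have heq2 : (P ⊓ Subgroup.centralizer
      ((Q.map (MulAut.conj x).toMonoidHom : Subgroup G) : Set G)).subgroupOf
        (Subgroup.centralizer ((Q.map (MulAut.conj x).toMonoidHom : Subgroup G) : Set G)) = D₂ :=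
    le_antisymm hCPD₂ (heq ▸ hDxle)
  rw [heq2]
  exact hD₂def

/-- Fix a prime p and a maximal ideal M of the algebraic integers containing p. Let (P, e) be a maximal Brauer pair of the p-block B of the finite group G, Q ≤ P, and f the p-block of C_G(Q) with (Q, f) ≤ (P, e). Then C_P(Q) is contained in a defect group of f (as a block of the group C_G(Q)); and for some x in G the conjugate pair (x Q x⁻¹, conjugate of f) again lies below (P, e) and C_P(x Q x⁻¹) is a defect group of the conjugate of f in C_G(x Q x⁻¹). -/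
theorem result {G : Type*} [Group G] [Fintype G] (p : ℕ) [Fact p.Prime] (M : Ideal Cfsg.AlgInt) (hM : Cfsg.IsPModular p M) (B : Set (Cfsg.IrrCharacter G)) (P Q : Subgroup G) (e : Set (Cfsg.IrrCharacter (Subgroup.centralizer (P : Set G)))) (f : Set (Cfsg.IrrCharacter (Subgroup.centralizer (Q : Set G)))) (hmax : Cfsg.IsMaximalBrauerPair p M B P e) (hQP : Q ≤ P) (hf : Cfsg.IsPBlock M f) (hle : Cfsg.SubpairLE p M Q f P e) : (∃ D : Subgroup (Subgroup.centralizer (Q : Set G)), Cfsg.IsDefectGroup p M f D ∧ (P ⊓ Subgroup.centralizer (Q : Set G)).subgroupOf (Subgroup.centralizer (Q : Set G)) ≤ D) ∧ ∃ x : G, Cfsg.SubpairLE p M (Q.map (MulAut.conj x).toMonoidHom) (Cfsg.conjBlock Q x f) P e ∧ Cfsg.IsDefectGroup p M (Cfsg.conjBlock Q x f) ((P ⊓ Subgroup.centralizer ((Q.map (MulAut.conj x).toMonoidHom) : Set G)).subgroupOf (Subgroup.centralizer ((Q.map (MulAut.conj x).toMonoidHom) : Set G))) := by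
  exact result' p M hM B P Q e f hmax hQP hf hle

end Cfsg.Agent.S4661
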