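import Cfsg.Statements.S4678
import Mathlib
import Cfsg.Agent.Lib.Helper24.BlockFusion
import Cfsg.Agent.Lib.Helper24.PPowerIndex
import Cfsg.Agent.S4661

set_option autoImplicit false
open Cfsg

namespace Cfsg.Agent.S4678

open Cfsg.Agent.CharLib Cfsg.Agent.Lib.Helper24 Cfsg.Agent.Lib.Helper6
open scoped ComplexConjugate
universe u

theorem result' {G : Type u} [Group G] [Fintype G] (p : ℕ) [Fact p.Prime] (M : Ideal Cfsg.AlgInt) (hM : Cfsg.IsPModular p M) (B : Set (Cfsg.IrrCharacter G)) (P : Subgroup G) (e : Set (Cfsg.IrrCharacter (Subgroup.centralizer (P : Set G)))) (hmax : Cfsg.IsMaximalBrauerPair p M B P e) (F : Cfsg.FusionSystem P) (hF : Cfsg.IsBlockFusionSystemOn p M B P e F) (Q : Subgroup G) (f : Set (Cfsg.IrrCharacter (Subgroup.centralizer (Q : Set G)))) (hQP : Q ≤ P) (hf : Cfsg.IsPBlock M f) (hle : Cfsg.SubpairLE p M Q f P e) : F.IsFullyCentralized Q ↔ Cfsg.IsDefectGroup p M f ((P ⊓ Subgroup.centralizer (Q : Set G)).subgroupOf (Subgroup.centralizer (Q : Set G))) := by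
  classical
  haveI hprime : M.IsPrime := isPrime_of_isPModular hM
  have hPe : IsBrauerPair p M P e := hmax.1.1
  have hcardsub : ∀ Q₁ : Subgroup G, Nat.card ((P ⊓ Subgroup.centralizer (Q₁ : Set G)).subgroupOf
      (Subgroup.centralizer (Q₁ : Set G))) = Nat.card (FusionSystem.centralizerIn P Q₁) := by
    intro Q₁
    rw [card_subgroupOf_eq_card_inf, inf_assoc, inf_idem]
    rfl
  constructor
  · intro hfc
    obtain ⟨⟨D, hDdef, hCPD⟩, x, hlex, hdefx⟩ :=
      Cfsg.Agent.S4661.result p M hM B P Q e f hmax hQP hf hle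
    have hconj : F.IsConj Q (Q.map (MulAut.conj x).toMonoidHom) :=
      (blockFusion_isConj_iff hM B P e F hF Q f hle _).mpr ⟨x, rfl, hlex⟩
    have h1 := hfc.2 _ hconj
    have hDx := isDefectGroup_conjBlock (M := M) (p := p) Q x hDdef
    have hfx : IsPBlock M (conjBlock Q x f) := isPBlock_conjBlock Q x hf
    have h2 : Nat.card (D.comap (cjC Q x).symm.toMonoidHom) ≤ _ :=
      card_le_of_isDefectGroup hM hfx hDx hdefx
    rw [card_comap_mulEquiv, hcardsub] at h2
    have h3 : Nat.card D ≤ Nat.card ((P ⊓ Subgroup.centralizer (Q : Set G)).subgroupOf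
        (Subgroup.centralizer (Q : Set G))) := by
      rw [hcardsub]
      exact h2.trans h1
    have heq := Subgroup.eq_of_le_of_card_ge hCPD h3
    rw [heq]
    exact hDdef
  · intro hdef
    refine ⟨hQP, ?_⟩
    intro Q' hQ'
    obtain ⟨g, rfl, hleg⟩ := (blockFusion_isConj_iff hM B P e F hF Q f hle Q').mp hQ'
    have hQgP : Q.map (MulAut.conj g).toMonoidHom ≤ P :=
      Cfsg.Agent.S4681.le_of_subpairLE p M _ _ P e hleg
    obtain ⟨D₂, gD₂, hmaxD₂, hCPD₂⟩ := Cfsg.Agent.S4661.exists_maximal_pair_ge p M hM P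
      (Q.map (MulAut.conj g).toMonoidHom) e (conjBlock Q g f) hPe hQgP hleg
    let _ : Fintype (Subgroup.centralizer
      ((Q.map (MulAut.conj g).toMonoidHom : Subgroup G) : Set G)) := Fintype.ofFinite _
    have hD₂def : IsDefectGroup p M (conjBlock Q g f) D₂ :=
      Cfsg.Agent.S4659.result p M hM _ D₂ gD₂ hmaxD₂
    have hDg := isDefectGroup_conjBlock (M := M) (p := p) Q g hdef
    have hfg : IsPBlock M (conjBlock Q g f) := isPBlock_conjBlock Q g hf
    have h2 : Nat.card D₂ ≤ Nat.card _ := card_le_of_isDefectGroup hM hfg hD₂def hDg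
    rw [card_comap_mulEquiv, hcardsub] at h2
    have h3 := Subgroup.card_le_of_le hCPD₂
    rw [hcardsub] at h3
    exact h3.trans h2

/-- Fix a prime p and a maximal ideal M of the algebraic integers containing p, a p-block B of the finite group G with maximal Brauer pair (P, e), its fusion system F on P, and a Brauer pair (Q, f) ≤ (P, e). Then Q is fully centralized in F if and only if C_P(Q) is a defect group of f as a block of C_G(Q). -/
theorem result {G : Type*} [Group G] [Fintype G] (p : ℕ) [Fact p.Prime] (M : Ideal Cfsg.AlgInt) (hM : Cfsg.IsPModular p M) (B : Set (Cfsg.IrrCharacter G)) (P : Subgroup G) (e : Set (Cfsg.IrrCharacter (Subgroup.centralizer (P : Set G)))) (hmax : Cfsg.IsMaximalBrauerPair p M B P e) (F : Cfsg.FusionSystem P) (hF : Cfsg.IsBlockFusionSystemOn p M B P e F) (Q : Subgroup G) (f : Set (Cfsg.IrrCharacter (Subgroup.centralizer (Q : Set G)))) (hQP : Q ≤ P) (hf : Cfsg.IsPBlock M f) (hle : Cfsg.SubpairLE p M Q f P e) : F.IsFullyCentralized Q ↔ Cfsg.IsDefectGroup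 p M f ((P ⊓ Subgroup.centralizer (Q : Set G)).subgroupOf (Subgroup.centralizer (Q : Set G))) := by
  exact result' p M hM B P e hmax F hF Q f hQP hf hle

end Cfsg.Agent.S4678
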