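import Cfsg.Statements.S4733
import Cfsg.Agent.S0907
import Cfsg.Agent.S0914
import Cfsg.Agent.Lib.Lead.CharOrtho
import Cfsg.Agent.Lib.Lead.CharDecomp
import Cfsg.Agent.Lib.Lead.CharEquiv
import Cfsg.Agent.Lib.Helper6.FirstMain
import Cfsg.Agent.Lib.Helper6.Gallagher2
import Cfsg.Agent.Lib.Helper24.IrrFacts
import Cfsg.Agent.Lib.Helper24.LocalRing

set_option autoImplicit false
open Cfsg

namespace Cfsg.Agent.S4733

open Cfsg.Agent.CharLib Cfsg.Agent.Lib
open scoped ComplexConjugate

universe u

variable {G : Type u} [Group G]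

theorem pRegularPart_of_regular (p : ℕ) (χ : G → ℂ) {g : G} (hg : IsPRegular p g) :
    pRegularPart p χ g = χ g := by
  unfold pRegularPart
  simp only [hg, if_true]

theorem pRegularPart_of_singular (p : ℕ) (χ : G → ℂ) {g : G} (hg : ¬ IsPRegular p g) :
    pRegularPart p χ g = 0 := by
  unfold pRegularPart
  simp only [hg, if_false]

theorem finsum_mem_eq [Fintype (IrrCharacter G)] {A : Type*} [AddCommMonoid A]
    (B : Set (IrrCharacter G)) [DecidablePred (· ∈ B)] (f : IrrCharacter G → A) :
    ∑ᶠ χ ∈ B, f χ = ∑ χ ∈ Finset.univ.filter (· ∈ B), f χ := by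
  rw [finsum_mem_eq_finite_toFinset_sum f (Set.toFinite B)]
  congr 1
  ext χ
  simp

/-- An irreducible character vanishing on the `p`-singular elements has degree divisible by the
full power of `p`. -/
theorem pow_dvd_degree_of_vanish [Finite G] (p : ℕ) [Fact p.Prime] (χ : IrrCharacter G)
    (h : ∀ y : G, p ∣ orderOf y → (χ : G → ℂ) y = 0) :
    p ^ (Nat.card G).factorization p ∣ charDegree (χ : G → ℂ) := by
  classical
  letI : Fintype G := Fintype.ofFinite G
  obtain ⟨P⟩ : Nonempty (Sylow p G) := inferInstance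
  letI : Fintype ↥(P : Subgroup G) := Fintype.ofFinite _
  have hcard : Nat.card (P : Subgroup G) = p ^ (Nat.card G).factorization p :=
    Sylow.card_eq_multiplicity P
  have hres : IsCharacter ↥(P : Subgroup G) (fun g : ↥(P : Subgroup G) => (χ : G → ℂ) g) :=
    IsCharacter.restrict (IsIrrCharacter.isCharacter χ.2) _
  have hone : IsCharacter ↥(P : Subgroup G) (1 : ↥(P : Subgroup G) → ℂ) :=
    IsIrrCharacter.isCharacter (Helper6.isIrrCharacter_one _)
  obtain ⟨n, hn⟩ := IsCharacter.classInner_nat hres hone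
  unfold classInner at hn
  have hsum : ∑ g : ↥(P : Subgroup G), (χ : G → ℂ) g * conj ((1 : ↥(P : Subgroup G) → ℂ) g) =
      (χ : G → ℂ) 1 := by
    rw [Finset.sum_eq_single (1 : ↥(P : Subgroup G))]
    · simp
    · intro g _ hg
      have hg' : p ∣ orderOf (g : G) := by
        have hp := P.isPGroup' g
        obtain ⟨k, hk⟩ := hp
        have hk0 : k ≠ 0 := by
          rintro rfl
          rw [pow_zero, pow_one] at hk
          exact hg hk
        have : orderOf g ∣ p ^ k := orderOf_dvd_of_pow_eq_one hk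
        rw [Nat.dvd_prime_pow (Fact.out)] at this
        obtain ⟨j, _, hj⟩ := this
        have hj0 : j ≠ 0 := by
          rintro rfl
          rw [pow_zero, orderOf_eq_one_iff] at hj
          exact hg hj
        rw [Subgroup.orderOf_coe, hj]
        exact dvd_pow_self p hj0
      rw [h _ hg', zero_mul]
    · intro h1; exact absurd (Finset.mem_univ _) h1
  rw [hsum, hcard, Helper24.irr_apply_one χ] at hn
  have hp0 : ((p ^ (Nat.card G).factorization p : ℕ) : ℂ) ≠ 0 := by
    exact_mod_cast (pow_pos (Nat.Prime.pos Fact.out) _).ne'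
  have h2 : (charDegree (χ : G → ℂ) : ℂ) = ((p ^ (Nat.card G).factorization p * n : ℕ) : ℂ) := by
    push_cast
    push_cast at hn hp0
    field_simp at hn
    rw [hn]
  have h3 : charDegree (χ : G → ℂ) = p ^ (Nat.card G).factorization p * n := by
    exact_mod_cast h2
  exact Dvd.intro _ h3.symm


theorem result' [Finite G] (p : ℕ) [Fact p.Prime] (M : Ideal Cfsg.AlgInt)
    (hM : Cfsg.IsPModular p M) (B : Set (Cfsg.IrrCharacter G)) (hB : Cfsg.IsPBlock M B) :
    Cfsg.blockRank p B ≤ Nat.card B ∧
      (Cfsg.blockDefect p B = 0 ↔ (Nat.card B = 1 ∧ Cfsg.blockRank p B = 1)) ∧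
      (Cfsg.blockDefect p B = 0 ↔ Nat.card B = Cfsg.blockRank p B) := by
  classical
  letI : Fintype G := Fintype.ofFinite G
  letI := fintypeIrr G
  haveI hprime : M.IsPrime := Helper24.isPrime_of_isPModular hM
  have hp : p.Prime := Fact.out
  obtain ⟨χ₀, hBeq⟩ := hB
  have hχ₀ : χ₀ ∈ B := by rw [hBeq]; exact Helper6.mem_blockOf_self χ₀
  set a := (Nat.card G).factorization p with ha
  have hcard0 : Nat.card G ≠ 0 := Nat.card_pos.ne'
  have hdeg0 : ∀ χ : IrrCharacter G, charDegree (χ : G → ℂ) ≠ 0 :=
    fun χ => (Helper24.irr_charDegree_pos χ).ne'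
  have hν_le : ∀ χ : IrrCharacter G, (charDegree (χ : G → ℂ)).factorization p ≤ a := by
    intro χ
    exact (Nat.factorization_le_iff_dvd (hdeg0 χ) hcard0).2 (Helper24.irr_charDegree_dvd_card χ) p
  -- characterization of defect zero
  have hdef : Cfsg.blockDefect p B = 0 ↔
      ∀ χ ∈ B, (charDegree (χ : G → ℂ)).factorization p = a := by
    unfold blockDefect
    set S : Set ℕ := (fun χ : IrrCharacter G => (charDegree (χ : G → ℂ)).factorization p) '' B
    have hSne : S.Nonempty := ⟨_, χ₀, hχ₀, rfl⟩
    constructor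
    · intro h χ hχ
      have h1 : a ≤ sInf S := by omega
      have h2 : sInf S ≤ (charDegree (χ : G → ℂ)).factorization p := Nat.sInf_le ⟨χ, hχ, rfl⟩
      exact le_antisymm (hν_le χ) (h1.trans h2)
    · intro h
      obtain ⟨χ, hχ, hχe⟩ := Nat.sInf_mem hSne
      have := h χ hχ
      have hχe' : (charDegree (χ : G → ℂ)).factorization p = sInf S := hχe
      rw [hχe'] at this
      omega
  -- the family of p-regular parts
  let b : B → (G → ℂ) := fun χ => pRegularPart p ((χ : IrrCharacter G) : G → ℂ)
  have hrange : Set.range b = (fun χ : IrrCharacter G => pRegularPart p (χ : G → ℂ)) '' B := by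
    ext f
    constructor
    · rintro ⟨χ, rfl⟩
      exact ⟨χ.1, χ.2, rfl⟩
    · rintro ⟨χ, hχ, rfl⟩
      exact ⟨⟨χ, hχ⟩, rfl⟩
  have hrank : Cfsg.blockRank p B = Set.finrank ℂ (Set.range b) := by
    rw [hrange]
    rfl
  have hcardB : Nat.card B = Fintype.card B := Nat.card_eq_fintype_card
  have h1 : Cfsg.blockRank p B ≤ Nat.card B := by
    rw [hrank, hcardB]
    exact finrank_range_le_card b
  -- (A)
  have hA : Cfsg.blockDefect p B = 0 → Nat.card B = 1 ∧ Cfsg.blockRank p B = 1 := by
    intro h0
    have hν₀ := (hdef.1 h0) χ₀ hχ₀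
    have hnd : ¬ p ∣ Nat.card G / charDegree (χ₀ : G → ℂ) := by
      intro hdvd
      have hq0 : Nat.card G / charDegree (χ₀ : G → ℂ) ≠ 0 := by
        have := Nat.div_pos (Nat.le_of_dvd Nat.card_pos (Helper24.irr_charDegree_dvd_card χ₀))
          (Helper24.irr_charDegree_pos χ₀)
        exact this.ne'
      have hpos := Nat.Prime.factorization_pos_of_dvd hp hq0 hdvd
      rw [Nat.factorization_div (Helper24.irr_charDegree_dvd_card χ₀)] at hpos
      simp only [Finsupp.coe_tsub, Pi.sub_apply] at hpos
      omega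
    have hsing : B = {χ₀} := by
      rw [hBeq]
      exact (Cfsg.Agent.S0914.result p M hM χ₀).1 hnd
    constructor
    · rw [hsing]
      simp
    · unfold blockRank
      rw [hsing, Set.image_singleton]
      apply finrank_span_singleton
      intro h
      have h2 := congrFun h 1
      rw [pRegularPart_of_regular p _ (by unfold IsPRegular; rw [orderOf_one]; exact hp.not_dvd_one)] at h2
      exact Helper24.irr_apply_one_ne_zero χ₀ h2
  -- (B)
  have hBB : Nat.card B = Cfsg.blockRank p B → Cfsg.blockDefect p B = 0 := by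
    intro hkl
    rw [hrank, hcardB] at hkl
    have hli : LinearIndependent ℂ b := linearIndependent_iff_card_eq_finrank_span.2 hkl
    rw [Fintype.linearIndependent_iff] at hli
    have hvan : ∀ χ ∈ B, ∀ y : G, p ∣ orderOf y → (χ : G → ℂ) y = 0 := by
      intro χ hχ y hy
      have hzero : ∑ ψ : B, conj (((ψ : IrrCharacter G) : G → ℂ) y) • b ψ = 0 := by
        funext x
        rw [Finset.sum_apply, Pi.zero_apply]
        by_cases hx : IsPRegular p x
        · have hwo := Cfsg.Agent.S0907.result p M hM B ⟨χ₀, hBeq⟩ x y hx hy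
          rw [finsum_mem_eq] at hwo
          rw [← hwo]
          rw [Finset.sum_subtype (Finset.univ.filter (· ∈ B)) (p := (· ∈ B)) (by intro ψ; simp)
            (fun ψ : IrrCharacter G => (ψ : G → ℂ) x * conj ((ψ : G → ℂ) y))]
          apply Finset.sum_congr rfl
          intro ψ _
          rw [Pi.smul_apply, smul_eq_mul]
          change conj _ * pRegularPart p _ x = _
          rw [pRegularPart_of_regular p _ hx, mul_comm]
        · apply Finset.sum_eq_zero
          intro ψ _
          rw [Pi.smul_apply, smul_eq_mul]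
          change conj _ * pRegularPart p _ x = _
          rw [pRegularPart_of_singular p _ hx, mul_zero]
      have := hli (fun ψ => conj (((ψ : IrrCharacter G) : G → ℂ) y)) hzero ⟨χ, hχ⟩
      exact (map_eq_zero (starRingEnd ℂ)).1 this
    rw [hdef]
    intro χ hχ
    apply le_antisymm (hν_le χ)
    exact (Nat.Prime.pow_dvd_iff_le_factorization hp (hdeg0 χ)).1
      (pow_dvd_degree_of_vanish p χ (hvan χ hχ))
  refine ⟨h1, ⟨hA, ?_⟩, ⟨fun h => ?_, hBB⟩⟩
  · rintro ⟨hk, hl⟩
    exact hBB (by rw [hk, hl])
  · obtain ⟨hk, hl⟩ := hA h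
    rw [hk, hl]

/-- Let p be a prime, M a maximal ideal of the algebraic integers containing p, and B a p-block of the finite group G with k irreducible characters and p-regular rank l (the number of irreducible Brauer characters). Then l ≤ k, and the following are equivalent: B has defect 0; k = l = 1; k = l. -/
theorem result {G : Type*} [Group G] [Finite G] (p : ℕ) [Fact p.Prime] (M : Ideal Cfsg.AlgInt) (hM : Cfsg.IsPModular p M) (B : Set (Cfsg.IrrCharacter G)) (hB : Cfsg.IsPBlock M B) : Cfsg.blockRank p B ≤ Nat.card B ∧ (Cfsg.blockDefect p B = 0 ↔ (Nat.card B = 1 ∧ Cfsg.blockRank p B = 1)) ∧ (Cfsg.blockDefect p B = 0 ↔ Nat.card B = Cfsg.blockRank p B) := by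
  exact result' p M hM B hB

end Cfsg.Agent.S4733
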