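import Cfsg.Statements.S0111
-- import your own Cfsg.Agent.* helpers here

set_option autoImplicit false
open Cfsg

namespace Cfsg.Agent.S0111

/-- The Thompson transfer lemma states that an involution of a Sylow 2-subgroup P lying outside a subgroup Q of index 2 in P either lies outside some normal subgroup of index 2 in G or is conjugate to an element of Q. -/
theorem result {G : Type*} [Group G] [Finite G] (P : Sylow 2 G) (Q : Subgroup G) (hQP : Q ≤ (P : Subgroup G)) (hQi : Q.relIndex (P : Subgroup G) = 2) (u : G) (hu : orderOf u = 2) (huP : u ∈ (P : Subgroup G)) (huQ : u ∉ Q) : (∃ M : Subgroup G, M.Normal ∧ M.index = 2 ∧ u ∉ M) ∨ ∃ g : G, g * u * g⁻¹ ∈ Q := by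
  classical
  by_cases hconj : ∃ g : G, g * u * g⁻¹ ∈ Q
  · exact Or.inr hconj
  left
  push Not at hconj
  have hidx : (Q.subgroupOf (P : Subgroup G)).index = 2 := hQi
  -- the sign homomorphism P → {±1} with kernel Q
  let ϕ : (P : Subgroup G) →* ℤˣ :=
    { toFun := fun x => if (x : G) ∈ Q then 1 else -1
      map_one' := by simp [Q.one_mem]
      map_mul' := by
        intro a b
        have := Subgroup.mul_mem_iff_of_index_two hidx (a := a) (b := b)
        simp only [Subgroup.mem_subgroupOf, Subgroup.coe_mul] at this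
        by_cases ha : (a : G) ∈ Q <;> by_cases hb : (b : G) ∈ Q <;> simp_all }
  have hϕ : ∀ x : (P : Subgroup G), ϕ x = if (x : G) ∈ Q then 1 else -1 := fun x => rfl
  -- values on the relevant elements
  have hval : ∀ (k : ℕ) (x : G) (hmem : x⁻¹ * u ^ k * x ∈ (P : Subgroup G)), k ∣ 2 →
      ϕ ⟨x⁻¹ * u ^ k * x, hmem⟩ = (-1 : ℤˣ) ^ k := by
    intro k x hmem hk
    rcases (Nat.dvd_prime Nat.prime_two).mp hk with h1 | h2
    · subst h1
      rw [hϕ]
      have hnot : ¬ (x⁻¹ * u ^ 1 * x ∈ Q) := by
        have := hconj x⁻¹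
        simpa using this
      rw [if_neg hnot, pow_one]
    · subst h2
      rw [hϕ]
      have hin : x⁻¹ * u ^ 2 * x ∈ Q := by
        have hu2 : u ^ 2 = 1 := by rw [← hu, pow_orderOf_eq_one]
        rw [hu2]; simp [Q.one_mem]
      simp only [hin, if_true]
      norm_num
  haveI : Fintype (Quotient (MulAction.orbitRel (Subgroup.zpowers u) (G ⧸ (P : Subgroup G)))) :=
    Fintype.ofFinite _
  have hV : MonoidHom.transfer ϕ u = -1 := by
    rw [MonoidHom.transfer_eq_prod_quotient_orbitRel_zpowers_quot]
    have hterm : ∀ q : Quotient (MulAction.orbitRel (Subgroup.zpowers u) (G ⧸ (P : Subgroup G))),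
        ϕ ⟨q.out.out⁻¹ * u ^ Function.minimalPeriod (u • ·) q.out * q.out.out,
            QuotientGroup.out_conj_pow_minimalPeriod_mem (P : Subgroup G) u q.out⟩ =
          (-1 : ℤˣ) ^ Function.minimalPeriod (u • ·) q.out := by
      intro q
      apply hval
      have hu2 : u ^ 2 = 1 := by rw [← hu, pow_orderOf_eq_one]
      rw [← MulAction.pow_smul_eq_iff_minimalPeriod_dvd, hu2, one_smul]
    rw [Finset.prod_congr rfl (fun q _ => hterm q), Finset.prod_pow_eq_pow_sum,
      ← Subgroup.index_eq_sum_minimalPeriod]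
    have hodd : Odd (P : Subgroup G).index := by
      rw [← Nat.not_even_iff_odd, even_iff_two_dvd]
      exact P.not_dvd_index
    exact hodd.neg_one_pow
  refine ⟨(MonoidHom.transfer ϕ).ker, inferInstance, ?_, ?_⟩
  · rw [Subgroup.index_ker]
    have hrange : (MonoidHom.transfer ϕ).range = ⊤ := by
      rw [eq_top_iff]
      intro z _
      rcases Int.units_eq_one_or z with h | h
      · rw [h]; exact Subgroup.one_mem _
      · rw [h]; exact ⟨u, hV⟩
    rw [hrange, Subgroup.card_top]
    simp
  · rw [MonoidHom.mem_ker, hV]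
    decide

end Cfsg.Agent.S0111
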