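import Cfsg.Statements.S0840
import Cfsg.Agent.Lib.Helper6.ClassMult
import Cfsg.Agent.Lib.Lead.CharMain
-- import your own Cfsg.Agent.* helpers here

set_option autoImplicit false
open Cfsg

namespace Cfsg.Agent.S0840

open Cfsg.Agent.Lib.Helper6 Cfsg.Agent.Lib.Helper24 Cfsg.Agent.CharLib Module
open scoped ComplexConjugate

section
variable {G : Type*} [Group G] [Fintype G] [DecidableEq G]

/-- The class multiplication coefficient, complex valued. -/
noncomputable def cmc (a b : G) (z : G) : ℂ :=
  ∑ p : G × G, classInd a p.1 * classInd b p.2 * (if p.1 * p.2 = z then 1 else 0)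

theorem cmc_eq_card (a b c : G) :
    cmc a b c = (Nat.card {p : G × G // IsConj a p.1 ∧ IsConj b p.2 ∧ p.1 * p.2 = c} : ℂ) := by
  classical
  rw [Nat.card_eq_fintype_card, Fintype.card_subtype, cmc]
  rw [Finset.card_filter, Nat.cast_sum]
  apply Finset.sum_congr rfl
  intro p _
  by_cases hP : IsConj a p.1 ∧ IsConj b p.2 ∧ p.1 * p.2 = c
  · rw [if_pos hP, classInd_of_isConj hP.1, classInd_of_isConj hP.2.1, if_pos hP.2.2]
    norm_num
  · rw [if_neg hP]
    by_cases h1 : IsConj a p.1
    · by_cases h2 : IsConj b p.2
      · have h3 : ¬ (p.1 * p.2 = c) := fun h => hP ⟨h1, h2, h⟩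
        rw [if_neg h3, mul_zero, Nat.cast_zero]
      · rw [classInd_of_not_isConj h2, mul_zero, zero_mul, Nat.cast_zero]
    · rw [classInd_of_not_isConj h1, zero_mul, zero_mul, Nat.cast_zero]

theorem cmc_isClassFunction (a b : G) : IsClassFunction G (cmc a b) := by
  intro z h
  unfold cmc
  let e : G × G ≃ G × G :=
    { toFun := fun p => (h * p.1 * h⁻¹, h * p.2 * h⁻¹)
      invFun := fun p => (h⁻¹ * p.1 * h, h⁻¹ * p.2 * h)
      left_inv := fun p => by ext <;> simp [mul_assoc]
      right_inv := fun p => by ext <;> simp [mul_assoc] }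
  rw [← Equiv.sum_comp e]
  apply Finset.sum_congr rfl
  intro p _
  have h1 : (e p).1 = h * p.1 * h⁻¹ := rfl
  have h2 : (e p).2 = h * p.2 * h⁻¹ := rfl
  rw [h1, h2, classInd_conj, classInd_conj]
  congr 1
  have : h * p.1 * h⁻¹ * (h * p.2 * h⁻¹) = h * z * h⁻¹ ↔ p.1 * p.2 = z := by
    constructor
    · intro hh
      have h3 : h * (p.1 * p.2) * h⁻¹ = h * z * h⁻¹ := by rw [← hh]; group
      have h4 := mul_left_cancel (mul_right_cancel h3)
      exact h4
    · intro hh
      rw [← hh]; group
  simp only [this]

theorem conj_classInd (a x : G) : conj (classInd a x) = classInd a x := by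
  by_cases h : IsConj a x
  · rw [classInd_of_isConj h, map_one]
  · rw [classInd_of_not_isConj h, map_zero]

/-- Inner product of the class multiplication coefficient with an irreducible character. -/
theorem classInner_cmc (a b : G) {n : ℕ} (ρ : Representation ℂ G (Fin n → ℂ)) [ρ.IsIrreducible] :
    classInner (cmc a b) ρ.character = (Nat.card G : ℂ)⁻¹ *
      conj (((Subgroup.centralizer ({a} : Set G)).index : ℂ) * ρ.character a *
        (((Subgroup.centralizer ({b} : Set G)).index : ℂ) * ρ.character b) /
          (finrank ℂ (Fin n → ℂ) : ℂ)) := by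
  unfold classInner
  congr 1
  rw [← sum_isConj_char_mul ρ a b]
  have hR : (∑ x : G, ∑ y : G, classInd a x * classInd b y * ρ.character (x * y)) =
      ∑ p : G × G, classInd a p.1 * classInd b p.2 * ρ.character (p.1 * p.2) := by
    rw [Fintype.sum_prod_type]
  rw [hR, map_sum]
  have hL : ∀ z : G, cmc a b z * conj (ρ.character z) =
      ∑ p : G × G, classInd a p.1 * classInd b p.2 *
        (if p.1 * p.2 = z then conj (ρ.character z) else 0) := by
    intro z
    unfold cmc
    rw [Finset.sum_mul]
    apply Finset.sum_congr rfl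
    intro p _
    split_ifs <;> ring
  simp only [hL]
  rw [Finset.sum_comm]
  apply Finset.sum_congr rfl
  intro p _
  rw [← Finset.mul_sum, Finset.sum_ite_eq Finset.univ (p.1 * p.2), if_pos (Finset.mem_univ _),
    map_mul, map_mul, conj_classInd, conj_classInd]

end

/-- Class multiplication coefficients from the character table: for elements a, b, c of a finite group G, the number of ordered pairs (x, y) with x conjugate to a, y conjugate to b and x * y = c equals the product of the sizes of the conjugacy classes of a and b, divided by the order of G, times the sum over the irreducible characters χ of χ a * χ b * conj (χ c) / χ 1. -/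
theorem result {G : Type*} [Group G] [Finite G] (a b c : G) : (Nat.card {p : G × G // IsConj a p.1 ∧ IsConj b p.2 ∧ p.1 * p.2 = c} : ℂ) = (Nat.card {x : G // IsConj a x} : ℂ) * (Nat.card {x : G // IsConj b x} : ℂ) / (Nat.card G : ℂ) * ∑ᶠ χ : Cfsg.IrrCharacter G, (χ : G → ℂ) a * (χ : G → ℂ) b * conj ((χ : G → ℂ) c) / (χ : G → ℂ) 1 := by
  classical
  have : Fintype G := Fintype.ofFinite G
  let _ := fintypeIrr G
  rw [finsum_eq_sum_of_fintype]
  -- class sizes
  have hsize : ∀ u : G, (Nat.card {x : G // IsConj u x} : ℂ) =
      ((Subgroup.centralizer ({u} : Set G)).index : ℂ) := by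
    intro u
    rw [← ncard_conj_eq_index u, ← Nat.card_coe_set_eq]
    rfl
  rw [hsize a, hsize b, ← cmc_eq_card]
  -- expansion of the class function
  have hexp := congrFun (classFunction_eq_sum (cmc_isClassFunction a b)) c
  simp only [Finset.sum_apply, Pi.smul_apply, smul_eq_mul] at hexp
  -- the value is real
  have hreal : conj (cmc a b c) = cmc a b c := by
    rw [cmc_eq_card, Complex.conj_natCast]
  rw [← hreal, hexp, map_sum, Finset.mul_sum]
  apply Finset.sum_congr rfl
  intro χ _
  obtain ⟨χf, n, ρ, hirr, rfl⟩ := χ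
  have := hirr
  change conj (classInner (cmc a b) ρ.character * ρ.character c) = _ * (ρ.character a * ρ.character b * conj (ρ.character c) / ρ.character 1)
  rw [classInner_cmc a b ρ, Representation.char_one, map_mul, map_mul, Complex.conj_conj, map_inv₀,
    Complex.conj_natCast]
  have hG : (Nat.card G : ℂ) ≠ 0 := by exact_mod_cast (Nat.card_pos (α := G)).ne'
  have hpos := finrank_pos_of_isIrreducible ρ
  have hne : (finrank ℂ (Fin n → ℂ) : ℂ) ≠ 0 := by exact_mod_cast hpos.ne'
  field_simp

end Cfsg.Agent.S0840
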