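import Cfsg.Statements.S2530
-- import your own Cfsg.Agent.* helpers here
import Mathlib
import Cfsg.Agent.Lib.Helper14.TypeABound

set_option autoImplicit false
open Cfsg

namespace Cfsg.Agent.S2530

open Cfsg.Agent.Lib.Helper14

theorem A_apply (n : ℕ) (i j : Fin n) :
    (CoxeterMatrix.A n) i j =
      if i = j then 1 else (if (j : ℕ) + 1 = i ∨ (i : ℕ) + 1 = j then 3 else 2) := rfl

theorem swap_liftable (n : ℕ) :
    (CoxeterMatrix.A n).IsLiftable (fun i : Fin n => Equiv.swap i.castSucc i.succ) := by
  intro i j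
  rw [A_apply]
  by_cases hij : i = j
  · subst hij
    simp
  · rw [if_neg hij]
    have hijv : (i : ℕ) ≠ j := fun h => hij (Fin.ext h)
    by_cases hadj : (j : ℕ) + 1 = i ∨ (i : ℕ) + 1 = j
    · rw [if_pos hadj]
      rcases hadj with h | h
      · -- i.castSucc = j.succ
        have e1 : i.castSucc = j.succ := by
          apply Fin.ext; simp; omega
        have h3 : Equiv.Perm.IsThreeCycle
            (Equiv.swap j.succ i.succ * Equiv.swap j.succ j.castSucc) := by
          apply Equiv.Perm.isThreeCycle_swap_mul_swap_same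
          · intro h'; have := congrArg Fin.val h'; simp at this; omega
          · intro h'; have := congrArg Fin.val h'; simp at this
          · intro h'; have := congrArg Fin.val h'; simp at this; omega
        have := h3.orderOf
        show (Equiv.swap i.castSucc i.succ * Equiv.swap j.castSucc j.succ) ^ 3 = 1
        rw [e1, Equiv.swap_comm j.castSucc j.succ, ← this]
        exact pow_orderOf_eq_one _
      · have e1 : j.castSucc = i.succ := by
          apply Fin.ext; simp; omega
        have h3 : Equiv.Perm.IsThreeCycle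
            (Equiv.swap i.succ i.castSucc * Equiv.swap i.succ j.succ) := by
          apply Equiv.Perm.isThreeCycle_swap_mul_swap_same
          · intro h'; have := congrArg Fin.val h'; simp at this
          · intro h'; have := congrArg Fin.val h'; simp at this; omega
          · intro h'; have := congrArg Fin.val h'; simp at this; omega
        have := h3.orderOf
        show (Equiv.swap i.castSucc i.succ * Equiv.swap j.castSucc j.succ) ^ 3 = 1
        rw [e1, Equiv.swap_comm i.castSucc i.succ, ← this]
        exact pow_orderOf_eq_one _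
    · rw [if_neg hadj]
      push Not at hadj
      have hd : Equiv.Perm.Disjoint (Equiv.swap i.castSucc i.succ) (Equiv.swap j.castSucc j.succ) := by
        apply Equiv.Perm.disjoint_swap_swap
        simp only [List.nodup_cons, List.mem_cons, List.not_mem_nil, or_false, not_or,
          List.nodup_nil, and_true, not_false_eq_true]
        refine ⟨⟨?_, ?_, ?_⟩, ⟨?_, ?_⟩, ?_⟩ <;>
        · intro h'; have := congrArg Fin.val h'; simp at this <;> omega
      have hc := hd.commute.eq
      show (Equiv.swap i.castSucc i.succ * Equiv.swap j.castSucc j.succ) ^ 2 = 1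
      rw [pow_two]
      calc Equiv.swap i.castSucc i.succ * Equiv.swap j.castSucc j.succ *
            (Equiv.swap i.castSucc i.succ * Equiv.swap j.castSucc j.succ)
          = Equiv.swap i.castSucc i.succ * (Equiv.swap j.castSucc j.succ *
            Equiv.swap i.castSucc i.succ) * Equiv.swap j.castSucc j.succ := by
            simp only [mul_assoc]
        _ = Equiv.swap i.castSucc i.succ * (Equiv.swap i.castSucc i.succ *
            Equiv.swap j.castSucc j.succ) * Equiv.swap j.castSucc j.succ := by rw [hc]
        _ = 1 := by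
            rw [← mul_assoc, Equiv.swap_mul_self, one_mul, Equiv.swap_mul_self]

/-- generators indexed by ℕ -/
noncomputable def tgen (n : ℕ) (j : ℕ) : (CoxeterMatrix.A n).Group :=
  if h : j < n then (CoxeterMatrix.A n).simple ⟨j, h⟩ else 1

theorem tgen_of_lt (n j : ℕ) (h : j < n) : tgen n j = (CoxeterMatrix.A n).simple ⟨j, h⟩ := by
  unfold tgen
  rw [dif_pos h]

theorem tgen_braidRel (n : ℕ) : BraidRel (tgen n) n := by
  have cs := (CoxeterMatrix.A n).toCoxeterSystem
  refine ⟨?_, ?_, ?_⟩
  · intro i hi
    rw [tgen_of_lt n i hi]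
    exact (CoxeterMatrix.A n).toCoxeterSystem.simple_mul_simple_self ⟨i, hi⟩
  · intro i hi
    rw [tgen_of_lt n i (by omega), tgen_of_lt n (i+1) hi]
    have h3 := (CoxeterMatrix.A n).toCoxeterSystem.simple_mul_simple_pow ⟨i, by omega⟩ ⟨i+1, hi⟩
    have ha := (CoxeterMatrix.A n).toCoxeterSystem.simple_mul_simple_self ⟨i, by omega⟩
    have hb := (CoxeterMatrix.A n).toCoxeterSystem.simple_mul_simple_self ⟨i+1, hi⟩
    rw [CoxeterMatrix.toCoxeterSystem_simple] at h3 ha hb
    have hM : (CoxeterMatrix.A n) ⟨i, by omega⟩ ⟨i+1, hi⟩ = 3 := by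
      rw [A_apply]
      simp
    rw [hM] at h3
    set a := (CoxeterMatrix.A n).simple ⟨i, by omega⟩
    set b := (CoxeterMatrix.A n).simple ⟨i+1, hi⟩
    -- (ab)^3 = 1, a^2 = 1, b^2 = 1 ⊢ aba = bab
    have hai : a⁻¹ = a := inv_eq_of_mul_eq_one_right ha
    have hbi : b⁻¹ = b := inv_eq_of_mul_eq_one_right hb
    have : a * b * a * (b * a * b) = 1 := by
      rw [pow_succ, pow_two] at h3
      simpa only [mul_assoc] using h3
    have h4 := eq_inv_of_mul_eq_one_left this
    rw [h4, mul_inv_rev, mul_inv_rev, hai, hbi, mul_assoc]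
  · intro i j hij hj
    rw [tgen_of_lt n i (by omega), tgen_of_lt n j hj]
    have h2 := (CoxeterMatrix.A n).toCoxeterSystem.simple_mul_simple_pow ⟨i, by omega⟩ ⟨j, hj⟩
    have ha := (CoxeterMatrix.A n).toCoxeterSystem.simple_mul_simple_self ⟨i, by omega⟩
    have hb := (CoxeterMatrix.A n).toCoxeterSystem.simple_mul_simple_self ⟨j, hj⟩
    rw [CoxeterMatrix.toCoxeterSystem_simple] at h2 ha hb
    have hM : (CoxeterMatrix.A n) ⟨i, by omega⟩ ⟨j, hj⟩ = 2 := by
      rw [A_apply]
      have h1 : ¬ ((⟨i, by omega⟩ : Fin n) = ⟨j, hj⟩) := by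
        intro h; have := congrArg Fin.val h; simp at this; omega
      rw [if_neg h1, if_neg]
      simp only [not_or]
      constructor <;> omega
    rw [hM] at h2
    set a := (CoxeterMatrix.A n).simple ⟨i, by omega⟩
    set b := (CoxeterMatrix.A n).simple ⟨j, hj⟩
    have hai : a⁻¹ = a := inv_eq_of_mul_eq_one_right ha
    have hbi : b⁻¹ = b := inv_eq_of_mul_eq_one_right hb
    rw [pow_two] at h2
    have h4 := eq_inv_of_mul_eq_one_left h2
    rw [h4, mul_inv_rev, hai, hbi]

theorem tgen_closure (n : ℕ) : Subgroup.closure (tgen n '' Set.Iio n) = ⊤ := by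
  have h := (CoxeterMatrix.A n).toCoxeterSystem.subgroup_closure_range_simple
  rw [CoxeterMatrix.toCoxeterSystem_simple] at h
  rw [← h]
  congr 1
  ext w
  constructor
  · rintro ⟨j, hj, rfl⟩
    exact ⟨⟨j, hj⟩, (tgen_of_lt n j hj).symm⟩
  · rintro ⟨i, rfl⟩
    exact ⟨i, i.2, tgen_of_lt n i i.2⟩

/-- The Coxeter presentation of the symmetric group: for every n, the symmetric group on n+1 letters is the Coxeter group of type A_n with the adjacent transpositions (i, i+1) as simple reflections; that is, it is presented by generators r_1, …, r_n subject to r_i² = 1, (r_i r_j)² = 1 for |i − j| > 1 and (r_i r_{i+1})³ = 1, with r_i mapping to (i, i+1). -/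
theorem result (n : ℕ) :
    ∃ cs : CoxeterSystem (CoxeterMatrix.A n) (Equiv.Perm (Fin (n + 1))), ∀ i : Fin n, cs.simple i = Equiv.swap i.castSucc i.succ := by
  classical
  obtain ⟨hfin, hcard⟩ := finite_card_le_of_braidRel (tgen_braidRel n) (tgen_closure n)
  set φ : (CoxeterMatrix.A n).Group →* Equiv.Perm (Fin (n+1)) :=
    (CoxeterMatrix.A n).toCoxeterSystem.lift ⟨_, swap_liftable n⟩ with hφ
  have hφs : ∀ i : Fin n, φ ((CoxeterMatrix.A n).simple i) = Equiv.swap i.castSucc i.succ := by
    intro i
    have := (CoxeterMatrix.A n).toCoxeterSystem.lift_apply_simple (swap_liftable n) i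
    rwa [CoxeterMatrix.toCoxeterSystem_simple] at this
  have hsurj : Function.Surjective φ := by
    rw [← MonoidHom.mrange_eq_top]
    rw [eq_top_iff, ← Equiv.Perm.mclosure_swap_castSucc_succ n, Submonoid.closure_le]
    rintro _ ⟨i, rfl⟩
    exact ⟨_, hφs i⟩
  have := hfin
  have hbij : Function.Bijective φ := by
    rw [Nat.bijective_iff_surjective_and_card]
    refine ⟨hsurj, le_antisymm ?_ (Nat.card_le_card_of_surjective φ hsurj)⟩
    rw [Nat.card_perm, Nat.card_fin]
    exact hcard
  refine ⟨⟨(MulEquiv.ofBijective φ hbij).symm⟩, ?_⟩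
  intro i
  exact hφs i

end Cfsg.Agent.S2530
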