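import Cfsg.Statements.S5344
import Cfsg.Agent.S2530

set_option autoImplicit false
open Cfsg

namespace Cfsg.Agent.S5344

theorem key_normal : ∀ σ : Equiv.Perm (Fin 4), σ ≠ 1 →
    ∃ g h : Equiv.Perm (Fin 4), g * σ * g⁻¹ * (h * σ * h⁻¹) = Equiv.swap 0 1 * Equiv.swap 2 3 ∨
      g * σ * g⁻¹ = Equiv.swap 0 1 * Equiv.swap 2 3 := by
  decide +kernel

theorem sq_eq_one_of_orderOf {G : Type*} [Group G] {a : G} (h : orderOf a = 2) : a * a = 1 := by
  rw [← pow_two, ← h]
  exact pow_orderOf_eq_one a

theorem cube_of_not_commute {G : Type*} [Group G] {a b : G} (ha : a * a = 1) (hb : b * b = 1)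
    (h : (a * b) ^ 2 = 1 ∨ (a * b) ^ 3 = 1) (hab : ¬ Commute a b) : (a * b) ^ 3 = 1 := by
  rcases h with h | h
  · exfalso
    apply hab
    have ha' : a⁻¹ = a := inv_eq_of_mul_eq_one_right ha
    have hb' : b⁻¹ = b := inv_eq_of_mul_eq_one_right hb
    have h1 : (a * b)⁻¹ = a * b := inv_eq_of_mul_eq_one_right (by rw [← pow_two]; exact h)
    rw [mul_inv_rev, ha', hb'] at h1
    exact h1.symm
  · exact h

/-- In a set of 3-transpositions, let a, b, c be members with a and c different and commuting, while neither a nor c commutes with b (a 3-string). Then there is an injective homomorphism from the symmetric group of degree 4 into the ambient group sending the transpositions (0 1), (1 2), (2 3) to a, b, c; so a, b, c generate a copy of the symmetric group of degree 4 in which they are transpositions. -/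
theorem result {G : Type*} [Group G] {D : Set G} (hD : Cfsg.IsThreeTranspositionSet D) {a b c : G} (ha : a ∈ D) (hb : b ∈ D) (hc : c ∈ D) (hac : a ≠ c) (hac' : Commute a c) (hab : ¬ Commute a b) (hbc : ¬ Commute b c) : ∃ φ : Equiv.Perm (Fin 4) →* G, Function.Injective φ ∧ φ (Equiv.swap 0 1) = a ∧ φ (Equiv.swap 1 2) = b ∧ φ (Equiv.swap 2 3) = c := by
  obtain ⟨hord, hprod⟩ := hD
  have ha2 := sq_eq_one_of_orderOf (hord a ha)
  have hb2 := sq_eq_one_of_orderOf (hord b hb)
  have hc2 := sq_eq_one_of_orderOf (hord c hc)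
  have hab3 := cube_of_not_commute ha2 hb2 (hprod a ha b hb) hab
  have hba3 := cube_of_not_commute hb2 ha2 (hprod b hb a ha) (fun h => hab h.symm)
  have hbc3 := cube_of_not_commute hb2 hc2 (hprod b hb c hc) hbc
  have hcb3 := cube_of_not_commute hc2 hb2 (hprod c hc b hb) (fun h => hbc h.symm)
  have hac2 : (a * c) ^ 2 = 1 := by
    rw [pow_two, mul_assoc, ← mul_assoc c a c, ← hac'.eq, mul_assoc, hc2, mul_one, ha2]
  have hca2 : (c * a) ^ 2 = 1 := by
    rw [← hac'.eq]; exact hac2
  obtain ⟨cs, hcs⟩ := Cfsg.Agent.S2530.result 3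
  have hlift : (CoxeterMatrix.A 3).IsLiftable ![a, b, c] := by
    intro i j
    rw [Cfsg.Agent.S2530.A_apply]
    fin_cases i <;> fin_cases j <;> simp <;> assumption
  refine ⟨cs.lift ⟨_, hlift⟩, ?_, ?_, ?_, ?_⟩
  · rw [injective_iff_map_eq_one]
    intro σ hσ
    by_contra hne
    have hconj : ∀ g : Equiv.Perm (Fin 4), cs.lift ⟨_, hlift⟩ (g * σ * g⁻¹) = 1 := by
      intro g
      rw [map_mul, map_mul, hσ, mul_one, ← map_mul, mul_inv_cancel, map_one]
    have h01 : cs.lift ⟨_, hlift⟩ (Equiv.swap 0 1) = a := by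
      have := cs.lift_apply_simple hlift 0
      rw [hcs 0] at this
      exact this
    have h23 : cs.lift ⟨_, hlift⟩ (Equiv.swap 2 3) = c := by
      have := cs.lift_apply_simple hlift 2
      rw [hcs 2] at this
      exact this
    have hker : cs.lift ⟨_, hlift⟩ (Equiv.swap 0 1 * Equiv.swap 2 3) = 1 := by
      obtain ⟨g, h, hgh | hgh⟩ := key_normal σ hne
      · rw [← hgh, map_mul, hconj, hconj, mul_one]
      · rw [← hgh, hconj]
    rw [map_mul, h01, h23] at hker
    apply hac
    have hc' : c⁻¹ = c := inv_eq_of_mul_eq_one_right hc2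
    rw [← hc']
    exact eq_inv_of_mul_eq_one_left hker
  · have := cs.lift_apply_simple hlift 0
    rw [hcs 0] at this
    exact this
  · have := cs.lift_apply_simple hlift 1
    rw [hcs 1] at this
    exact this
  · have := cs.lift_apply_simple hlift 2
    rw [hcs 2] at this
    exact this

end Cfsg.Agent.S5344
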