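import Cfsg.Statements.S5351
import Cfsg.Agent.Lib.Helper12.FischerFitting
import Cfsg.Agent.Lib.Helper12.Cores
import Cfsg.Agent.Lib.Helper12.PPrimeP
import Cfsg.Agent.Lib.Helper1.Fitting
import Cfsg.Agent.Lib.Helper27.ThreeTrans

set_option autoImplicit false
open Cfsg

namespace Cfsg.Agent.S5351

theorem eq_one_of_pow_coprime {G : Type*} [Group G] {x : G} {m n : ℕ} (hm : x ^ m = 1)
    (hn : x ^ n = 1) (h : Nat.Coprime m n) : x = 1 := by
  have h1 : orderOf x ∣ Nat.gcd m n :=
    Nat.dvd_gcd (orderOf_dvd_of_pow_eq_one hm) (orderOf_dvd_of_pow_eq_one hn)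
  rw [h] at h1
  exact orderOf_eq_one_iff.mp (Nat.dvd_one.mp h1)


/-- Let D be a conjugacy class of 3-transpositions generating the finite group G, with at least two members. Then for every prime p > 3 the largest normal p-subgroup of G is central, and exactly one of the following holds: the largest normal 2-subgroup of G is not central; the largest normal 3-subgroup of G is not central; the layer of G (the product of its components) is non-trivial. -/
theorem result {G : Type*} [Group G] [Finite G] {D : Set G} (hD : Cfsg.IsThreeTranspositionClass D) (hD2 : ∃ a ∈ D, ∃ b ∈ D, a ≠ b) : (∀ p : ℕ, p.Prime → 3 < p → Cfsg.pCore p G ≤ Subgroup.center G) ∧ ((¬ Cfsg.pCore 2 G ≤ Subgroup.center G ∧ Cfsg.pCore 3 G ≤ Subgroup.center G ∧ Cfsg.layer G = ⊥) ∨ (Cfsg.pCore 2 G ≤ Subgroup.center G ∧ ¬ Cfsg.pCore 3 G ≤ Subgroup.center G ∧ Cfsg.layer G = ⊥) ∨ (Cfsg.pCore 2 G ≤ Subgroup.center G ∧ Cfsg.pCore 3 G ≤ Subgroup.center G ∧ Cfsg.layer G ≠ ⊥)) := by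
  classical
  obtain ⟨hTS, ⟨d, hd, hcls⟩, hgen⟩ := hD
  have hconj : ∀ g : G, ∀ e ∈ D, g * e * g⁻¹ ∈ D := by
    intro g e he
    rw [hcls] at he ⊢
    have he' : IsConj d e := he
    show IsConj d (g * e * g⁻¹)
    exact he'.trans (isConj_iff.mpr ⟨g, rfl⟩)
  have hconj2 : ∀ a ∈ D, ∀ b ∈ D, ∃ g : G, g * a * g⁻¹ = b := by
    intro a ha b hb
    rw [hcls] at ha hb
    have ha' : IsConj d a := ha
    have hb' : IsConj d b := hb
    exact isConj_iff.mp (ha'.symm.trans hb')
  have hsq : ∀ e ∈ D, e * e = 1 := fun e he => Cfsg.Agent.Lib.Helper27.ThreeTrans.sq_of_mem hTS he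
  have hinv : ∀ e ∈ D, e⁻¹ = e := fun e he => Cfsg.Agent.Lib.Helper27.ThreeTrans.inv_of_mem hTS he
  have hdd := hsq d hd
  have hdi := hinv d hd
  -- a normal subgroup centralized by `d` is central
  have hP0 : ∀ N : Subgroup G, N.Normal → (∀ x ∈ N, Commute d x) → N ≤ Subgroup.center G := by
    intro N hN hc x hx
    rw [Subgroup.mem_center_iff]
    have hle : Subgroup.closure D ≤ Subgroup.centralizer ({x} : Set G) := by
      rw [Subgroup.closure_le]
      intro e he
      rw [SetLike.mem_coe, Subgroup.mem_centralizer_singleton_iff]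
      obtain ⟨g, rfl⟩ := hconj2 d hd e he
      have hx' : g⁻¹ * x * g ∈ N := by
        have := hN.conj_mem x hx g⁻¹
        rwa [inv_inv] at this
      have h1 := (hc _ hx').eq
      calc g * d * g⁻¹ * x = g * (d * (g⁻¹ * x * g)) * g⁻¹ := by group
        _ = g * ((g⁻¹ * x * g) * d) * g⁻¹ := by rw [h1]
        _ = x * (g * d * g⁻¹) := by group
    intro g
    have hg : g ∈ Subgroup.centralizer ({x} : Set G) := hle (by rw [hgen]; exact Subgroup.mem_top g)
    rw [Subgroup.mem_centralizer_singleton_iff] at hg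
    exact hg
  -- a non-central normal subgroup contains a non-trivial `x` with `x d ∈ D`, inverted by `d`
  have hkey : ∀ N : Subgroup G, N.Normal → ¬ N ≤ Subgroup.center G →
      ∃ x ∈ N, x ≠ 1 ∧ x * d ∈ D ∧ d * x * d = x⁻¹ := by
    intro N hN hnc
    have h0 : ¬ ∀ r ∈ N, Commute d r := fun h => hnc (hP0 N hN h)
    push Not at h0
    obtain ⟨r, hr, hcr⟩ := h0
    refine ⟨r⁻¹ * d * r * d, ?_, ?_, ?_, ?_⟩
    · have e1 : r⁻¹ * d * r * d = r⁻¹ * (d * r * d⁻¹) := by rw [hdi]; group
      rw [e1]; exact mul_mem (inv_mem hr) (hN.conj_mem r hr d)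
    · intro h1
      apply hcr
      have h2 : r⁻¹ * d * r = d := by
        have := eq_inv_of_mul_eq_one_left h1
        rwa [hdi] at this
      show d * r = r * d
      calc d * r = r * (r⁻¹ * d * r) := by group
        _ = r * d := by rw [h2]
    · have e2 : r⁻¹ * d * r * d * d = r⁻¹ * d * r⁻¹⁻¹ := by
        rw [mul_assoc, hdd, mul_one, inv_inv]
      rw [e2]; exact hconj r⁻¹ d hd
    · have e3 : (r⁻¹ * d * r * d)⁻¹ = d⁻¹ * r⁻¹ * d⁻¹ * r := by group
      rw [e3, hdi]
      calc d * (r⁻¹ * d * r * d) * d = d * r⁻¹ * d * r * (d * d) := by group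
        _ = d * r⁻¹ * d * r := by rw [hdd, mul_one]
  have hx23 : ∀ x : G, x * d ∈ D → x ^ 2 = 1 ∨ x ^ 3 = 1 := by
    intro x hx
    have h := hTS.2 _ hx d hd
    rwa [mul_assoc, hdd, mul_one] at h
  -- part 1: `O_p(G)` is central for `p > 3`
  have hpart1 : ∀ p : ℕ, p.Prime → 3 < p → Cfsg.pCore p G ≤ Subgroup.center G := by
    intro p hp hp3
    have : Fact p.Prime := ⟨hp⟩
    by_contra hnc
    obtain ⟨x, hxN, hx1, hxD, -⟩ := hkey (Cfsg.pCore p G) (Cfsg.Agent.Lib.Helper12.pCore_normal'' p) hnc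
    obtain ⟨k, hk⟩ := (Cfsg.Agent.Lib.Helper12.pCore_isPGroup' (X := G) p) ⟨x, hxN⟩
    have hk' : x ^ p ^ k = 1 := by
      have := congrArg Subtype.val hk
      simpa using this
    apply hx1
    rcases hx23 x hxD with h | h
    · exact eq_one_of_pow_coprime hk' h
        (Nat.Coprime.pow_left k ((Nat.coprime_primes hp Nat.prime_two).mpr (by omega)))
    · exact eq_one_of_pow_coprime hk' h
        (Nat.Coprime.pow_left k ((Nat.coprime_primes hp Nat.prime_three).mpr (by omega)))
  refine ⟨hpart1, ?_⟩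
  have : Fact (Nat.Prime 2) := ⟨Nat.prime_two⟩
  have : Fact (Nat.Prime 3) := ⟨Nat.prime_three⟩
  set Q : Subgroup G := Cfsg.pCore 2 G with hQdef
  set R : Subgroup G := Cfsg.pCore 3 G with hRdef
  set E : Subgroup G := Cfsg.layer G with hEdef
  have hQn : Q.Normal := Cfsg.Agent.Lib.Helper12.pCore_normal'' 2
  have hRn : R.Normal := Cfsg.Agent.Lib.Helper12.pCore_normal'' 3
  have hEn : E.Normal := Cfsg.Agent.Lib.Helper9.layer_normal
  have hQp : IsPGroup 2 Q := Cfsg.Agent.Lib.Helper12.pCore_isPGroup' 2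
  have hRp : IsPGroup 3 R := Cfsg.Agent.Lib.Helper12.pCore_isPGroup' 3
  have hQF : Q ≤ Cfsg.fittingSubgroup G := Cfsg.Agent.Lib.Helper1.le_fittingSubgroup hQn hQp.isNilpotent
  have hRF : R ≤ Cfsg.fittingSubgroup G := Cfsg.Agent.Lib.Helper1.le_fittingSubgroup hRn hRp.isNilpotent
  have hFE : ∀ f ∈ Cfsg.fittingSubgroup G, ∀ g ∈ E, f * g = g * f := by
    intro f hf g hg
    have h1 := Cfsg.Agent.Lib.Helper9.layer_le_centralizer_fittingSubgroup (G := G) hg
    rw [Subgroup.mem_centralizer_iff] at h1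
    exact h1 f hf
  have hQdata : ¬ Q ≤ Subgroup.center G → ∃ w ∈ Q, w ≠ 1 ∧ w * d ∈ D ∧ w ^ 2 = 1 := by
    intro h2
    obtain ⟨w, hwQ, hw1, hwD, -⟩ := hkey Q hQn h2
    refine ⟨w, hwQ, hw1, hwD, ?_⟩
    rcases hx23 w hwD with h | h
    · exact h
    · exfalso
      obtain ⟨k, hk⟩ := hQp ⟨w, hwQ⟩
      have hk' : w ^ 2 ^ k = 1 := by
        have := congrArg Subtype.val hk
        simpa using this
      exact hw1 (eq_one_of_pow_coprime hk' h (Nat.Coprime.pow_left k (by norm_num)))
  have hRdata : ¬ R ≤ Subgroup.center G →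
      ∃ x ∈ R, x ≠ 1 ∧ x * d ∈ D ∧ x ^ 3 = 1 ∧ d * x * d = x⁻¹ := by
    intro h3
    obtain ⟨x, hxR, hx1, hxD, hxi⟩ := hkey R hRn h3
    refine ⟨x, hxR, hx1, hxD, ?_, hxi⟩
    rcases hx23 x hxD with h | h
    · exfalso
      obtain ⟨k, hk⟩ := hRp ⟨x, hxR⟩
      have hk' : x ^ 3 ^ k = 1 := by
        have := congrArg Subtype.val hk
        simpa using this
      exact hx1 (eq_one_of_pow_coprime hk' h (Nat.Coprime.pow_left k (by norm_num)))
    · exact h
  -- `O_2(G)` and `O_3(G)` are not both non-central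
  have hnot : ¬ (¬ Q ≤ Subgroup.center G ∧ ¬ R ≤ Subgroup.center G) := by
    rintro ⟨h2, h3⟩
    obtain ⟨w, hwQ, hw1, hwD, hw2⟩ := hQdata h2
    obtain ⟨x, hxR, hx1, hxD, hx3, hxinv⟩ := hRdata h3
    have hwx : Commute w x :=
      Cfsg.Agent.Lib.Helper1.pCore_commute (p := 2) (q := 3) (by norm_num) w x hwQ hxR
    have h := hTS.2 _ hwD _ hxD
    have e : w * d * (x * d) = w * x⁻¹ := by rw [← hxinv]; group
    rw [e] at h
    rcases h with h | h
    · rw [hwx.inv_right.mul_pow, hw2, one_mul, inv_pow, inv_eq_one] at h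
      exact hx1 (eq_one_of_pow_coprime h hx3 (by norm_num))
    · rw [hwx.inv_right.mul_pow, inv_pow, hx3, inv_one, mul_one] at h
      exact hw1 (eq_one_of_pow_coprime hw2 h (by norm_num))
  -- if `d` centralizes every component, the layer is trivial
  have hE_of_central : (∀ K : Subgroup G, Cfsg.IsComponent K → ∀ k ∈ K, Commute d k) → E = ⊥ := by
    intro hc
    have h1 : ∀ x ∈ E, Commute d x := by
      have hle : E ≤ Subgroup.centralizer ({d} : Set G) := by
        apply sSup_le
        intro K hK k hk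
        rw [Subgroup.mem_centralizer_singleton_iff]
        exact (hc K hK k hk).eq.symm
      intro x hx
      have := hle hx
      rw [Subgroup.mem_centralizer_singleton_iff] at this
      exact this.symm
    have h2 : E ≤ Subgroup.center G := hP0 E hEn h1
    have hcs : Group.IsSolvable ↥(Subgroup.center G) := by
      apply Group.isSolvable_of_comm
      rintro ⟨a, ha⟩ ⟨b, hb⟩
      apply Subtype.ext
      rw [Subgroup.mem_center_iff] at hb
      show a * b = b * a
      exact hb a
    exact Cfsg.Agent.Lib.Helper9.layer_eq_bot_of_le_isSolvable (Y := Subgroup.center G) hcs h2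
  -- the conjugates of `d` under the layer
  set S : Set G := {y : G | ∃ g ∈ Cfsg.layer G, y = g * d * g⁻¹} with hS
  have hSD : ∀ g ∈ E, g * d * g⁻¹ ∈ D := fun g _ => hconj g d hd
  have huE : ∀ g ∈ E, g * d * g⁻¹ * d ∈ E := by
    intro g hg
    have e1 : g * d * g⁻¹ * d = g * (d * g⁻¹ * d⁻¹) := by rw [hdi]; group
    rw [e1]
    exact mul_mem hg (hEn.conj_mem _ (inv_mem hg) d)
  -- case `O_2(G)` not central
  have hcase2 : ¬ Q ≤ Subgroup.center G → E = ⊥ := by
    intro h2
    obtain ⟨w, hwQ, hw1, hwD, hw2⟩ := hQdata h2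
    have hwF := hQF hwQ
    have hcomm : ∀ g ∈ E, Commute d (g * d * g⁻¹) := by
      intro g hg
      have ha := hSD g hg
      have hwa : w * (g * d * g⁻¹) ∈ D := by
        have h1 := hconj g _ hwD
        have e1 : g * (w * d) * g⁻¹ = w * (g * d * g⁻¹) := by
          calc g * (w * d) * g⁻¹ = (g * w) * d * g⁻¹ := by group
            _ = (w * g) * d * g⁻¹ := by rw [hFE w hwF g hg]
            _ = w * (g * d * g⁻¹) := by group
        rwa [e1] at h1
      have hwu : Commute w (g * d * g⁻¹ * d) := hFE w hwF _ (huE g hg)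
      have h := hTS.2 _ hwa d hd
      have e2 : w * (g * d * g⁻¹) * d = w * (g * d * g⁻¹ * d) := by group
      rw [e2, hwu.mul_pow, hwu.mul_pow, hw2, one_mul] at h
      have hu23 := hTS.2 _ ha d hd
      have hu2 : (g * d * g⁻¹ * d) ^ 2 = 1 := by
        rcases h with h | h
        · exact h
        · rcases hu23 with h' | h'
          · exact h'
          · exfalso
            rw [h', mul_one] at h
            exact hw1 (eq_one_of_pow_coprime hw2 h (by norm_num))
      exact (Cfsg.Agent.Lib.Helper12.commute_of_mul_sq (hsq _ ha) hdd hu2).symm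
    have hSc : ∀ y1 ∈ S, ∀ y2 ∈ S, y1 * y2 = y2 * y1 := by
      rintro y1 ⟨g1, hg1, rfl⟩ y2 ⟨g2, hg2, rfl⟩
      have e1 : g2 * d * g2⁻¹ = g1 * ((g1⁻¹ * g2) * d * (g1⁻¹ * g2)⁻¹) * g1⁻¹ := by group
      have h1 : Commute (g1 * d * g1⁻¹) (g2 * d * g2⁻¹) := by
        rw [e1, Commute.conj_iff]
        exact hcomm _ (mul_mem (inv_mem hg1) hg2)
      exact h1.eq
    have hs : Group.IsSolvable ↥(Subgroup.closure S) := by
      have h1 : ∀ s ∈ S, ∀ a ∈ Subgroup.closure S, a * s = s * a := by
        intro s hs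
        have hle : Subgroup.closure S ≤ Subgroup.centralizer ({s} : Set G) := by
          rw [Subgroup.closure_le]
          intro t ht
          rw [SetLike.mem_coe, Subgroup.mem_centralizer_singleton_iff]
          exact hSc t ht s hs
        intro a ha
        have := hle ha
        rwa [Subgroup.mem_centralizer_singleton_iff] at this
      have h2 : ∀ a ∈ Subgroup.closure S, ∀ b ∈ Subgroup.closure S, b * a = a * b := by
        intro a ha
        have hle : Subgroup.closure S ≤ Subgroup.centralizer ({a} : Set G) := by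
          rw [Subgroup.closure_le]
          intro t ht
          rw [SetLike.mem_coe, Subgroup.mem_centralizer_singleton_iff]
          exact (h1 t ht a ha).symm
        intro b hb
        have := hle hb
        rwa [Subgroup.mem_centralizer_singleton_iff] at this
      apply Group.isSolvable_of_comm
      rintro ⟨a, ha⟩ ⟨b, hb⟩
      apply Subtype.ext
      exact h2 b hb a ha
    exact hE_of_central (Cfsg.Agent.Lib.Helper12.FF.centralizes_components_of_solvable hs)
  -- case `O_3(G)` not central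
  have hcase3 : ¬ R ≤ Subgroup.center G → E = ⊥ := by
    intro h3
    obtain ⟨x, hxR, hx1, hxD, hx3, hxinv⟩ := hRdata h3
    have hxF := hRF hxR
    have hcube : ∀ g ∈ E, (g * d * g⁻¹ * d) ^ 3 = 1 := by
      intro g hg
      have ha := hSD g hg
      have hxa : x * (g * d * g⁻¹) ∈ D := by
        have h1 := hconj g _ hxD
        have e1 : g * (x * d) * g⁻¹ = x * (g * d * g⁻¹) := by
          calc g * (x * d) * g⁻¹ = (g * x) * d * g⁻¹ := by group
            _ = (x * g) * d * g⁻¹ := by rw [hFE x hxF g hg]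
            _ = x * (g * d * g⁻¹) := by group
        rwa [e1] at h1
      have hxu : Commute x (g * d * g⁻¹ * d) := hFE x hxF _ (huE g hg)
      have h := hTS.2 _ hxa d hd
      have e2 : x * (g * d * g⁻¹) * d = x * (g * d * g⁻¹ * d) := by group
      rw [e2, hxu.mul_pow, hxu.mul_pow, hx3, one_mul] at h
      rcases hTS.2 _ ha d hd with h' | h'
      · rcases h with h | h
        · exfalso
          rw [h', mul_one] at h
          exact hx1 (eq_one_of_pow_coprime h hx3 (by norm_num))
        · exact h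
      · exact h'
    set H : Subgroup G := E ⊔ Subgroup.zpowers d with hH
    have hdH : d ∈ H := (le_sup_right : Subgroup.zpowers d ≤ H) (Subgroup.mem_zpowers d)
    have hw : ∀ h ∈ H, Commute d (h * d * h⁻¹) → h * d * h⁻¹ = d := by
      intro h hh hc
      obtain ⟨g, hg, z, hz, rfl⟩ := Subgroup.mem_sup_of_normal_left.mp hh
      obtain ⟨i, rfl⟩ := Subgroup.mem_zpowers_iff.mp hz
      have e1 : g * d ^ i * d * (g * d ^ i)⁻¹ = g * d * g⁻¹ := by
        have h1 : d ^ i * d = d * d ^ i := (Commute.zpow_self d i).eq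
        calc g * d ^ i * d * (g * d ^ i)⁻¹ = g * (d ^ i * d) * (d ^ i)⁻¹ * g⁻¹ := by group
          _ = g * (d * d ^ i) * (d ^ i)⁻¹ * g⁻¹ := by rw [h1]
          _ = g * d * g⁻¹ := by group
      rw [e1] at hc ⊢
      have ha := hSD g hg
      have h3' := hcube g hg
      have h2' : (g * d * g⁻¹ * d) ^ 2 = 1 := by
        rw [hc.symm.mul_pow, pow_two, pow_two, hsq _ ha, hdd, one_mul]
      have h1' : g * d * g⁻¹ * d = 1 := eq_one_of_pow_coprime h2' h3' (by norm_num)
      have := eq_inv_of_mul_eq_one_left h1'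
      rwa [hdi] at this
    obtain ⟨P, hP3, hPd, hPH⟩ := Cfsg.Agent.Lib.Helper12.FF.relative_width_one hTS.1 hTS.2 H
      (fun g _ e he => hconj g e he) hd hdH hw
    have hB : Group.IsSolvable ↥(P ⊔ Subgroup.zpowers d) :=
      Cfsg.Agent.Lib.Helper12.FF.isSolvable_sup_zpowers hP3 hPd
    have hAB : Subgroup.closure S ≤ P ⊔ Subgroup.zpowers d := by
      rw [Subgroup.closure_le]
      rintro y ⟨g, hg, rfl⟩
      obtain ⟨x', hx', hxe⟩ := hPH g ((le_sup_left : E ≤ H) hg)
      rw [SetLike.mem_coe, hxe]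
      exact Subgroup.mul_mem_sup hx' (Subgroup.mem_zpowers d)
    have hs : Group.IsSolvable ↥(Subgroup.closure S) :=
      Group.isSolvable_of_isSolvable_injective (Subgroup.inclusion_injective hAB)
    exact hE_of_central (Cfsg.Agent.Lib.Helper12.FF.centralizes_components_of_solvable hs)
  -- both central: the layer is non-trivial
  have hcase0 : Q ≤ Subgroup.center G → R ≤ Subgroup.center G → E ≠ ⊥ := by
    intro hZ2 hZ3 hE
    have hF : Cfsg.fittingSubgroup G ≤ Subgroup.center G := by
      rw [Cfsg.Agent.Lib.Helper1.fittingSubgroup_eq_iSup_pCore]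
      apply iSup_le
      intro p
      have hp := p.2
      by_cases h2 : (p : ℕ) = 2
      · rw [h2]; exact hZ2
      by_cases h3 : (p : ℕ) = 3
      · rw [h3]; exact hZ3
      · apply hpart1 _ hp
        have := hp.two_le
        omega
    have hFs : Cfsg.generalizedFittingSubgroup G ≤ Subgroup.center G := by
      unfold Cfsg.generalizedFittingSubgroup
      rw [← hEdef, hE, bot_sup_eq]
      exact hF
    have h1 := Cfsg.Agent.Lib.Helper9.centralizer_generalizedFittingSubgroup_le (G := G)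
    have h2 : ∀ g : G, g ∈ Subgroup.center G := by
      intro g
      apply hFs
      apply h1
      rw [Subgroup.mem_centralizer_iff]
      intro h hh
      have := hFs hh
      rw [Subgroup.mem_center_iff] at this
      exact (this g).symm
    obtain ⟨a, ha, b, hb, hab⟩ := hD2
    obtain ⟨g, hg⟩ := hconj2 a ha b hb
    apply hab
    have h3 := h2 a
    rw [Subgroup.mem_center_iff] at h3
    rw [← hg, h3 g, mul_inv_cancel_right]
  by_cases hZ2 : Q ≤ Subgroup.center G
  · by_cases hZ3 : R ≤ Subgroup.center G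
    · exact Or.inr (Or.inr ⟨hZ2, hZ3, hcase0 hZ2 hZ3⟩)
    · exact Or.inr (Or.inl ⟨hZ2, hZ3, hcase3 hZ3⟩)
  · by_cases hZ3 : R ≤ Subgroup.center G
    · exact Or.inl ⟨hZ2, hZ3, hcase2 hZ2⟩
    · exact absurd ⟨hZ2, hZ3⟩ hnot

end Cfsg.Agent.S5351
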