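import Cfsg.Statements.S5352
import Cfsg.Agent.S5351
import Cfsg.Agent.Lib.Helper12.FischerFitting2
import Cfsg.Agent.Lib.Helper12.Cores
import Cfsg.Agent.Lib.Helper12.PPrimeP
import Cfsg.Agent.Lib.Helper1.Fitting
import Cfsg.Agent.Lib.Helper27.ThreeTrans

set_option autoImplicit false
open Cfsg

namespace Cfsg.Agent.S5352

/-- Let D be a conjugacy class of 3-transpositions generating the finite group G, with at least two members, and suppose the largest normal 2-subgroup and the largest normal 3-subgroup of G are both central. Then G has a quasisimple normal subgroup L such that the generalized Fitting subgroup of G is the product of L and the centre; and either L = G or the image of D in G/L has width 1, in the sense that two members of D whose commutator lies in L have the same image modulo L. -/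
theorem result {G : Type*} [Group G] [Finite G] {D : Set G} (hD : Cfsg.IsThreeTranspositionClass D) (hD2 : ∃ a ∈ D, ∃ b ∈ D, a ≠ b) (h2 : Cfsg.pCore 2 G ≤ Subgroup.center G) (h3 : Cfsg.pCore 3 G ≤ Subgroup.center G) : ∃ L : Subgroup G, L.Normal ∧ Cfsg.IsQuasisimple L ∧ Cfsg.generalizedFittingSubgroup G = L ⊔ Subgroup.center G ∧ (L = ⊤ ∨ ∀ a ∈ D, ∀ b ∈ D, a * b * a⁻¹ * b⁻¹ ∈ L → a⁻¹ * b ∈ L) := by
  classical
  obtain ⟨hpart1, htri⟩ := Cfsg.Agent.S5351.result hD hD2
  have hEne : Cfsg.layer G ≠ ⊥ := by
    rcases htri with ⟨h, -, -⟩ | ⟨-, h, -⟩ | ⟨-, -, h⟩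
    · exact absurd h2 h
    · exact absurd h3 h
    · exact h
  obtain ⟨hTS, ⟨d, hd, hcls⟩, hgen⟩ := hD
  have hconj : ∀ g : G, ∀ e ∈ D, g * e * g⁻¹ ∈ D := by
    intro g e he
    rw [hcls] at he ⊢
    have he' : IsConj d e := he
    show IsConj d (g * e * g⁻¹)
    exact he'.trans (isConj_iff.mpr ⟨g, rfl⟩)
  have hconj2 : ∀ a ∈ D, ∀ b ∈ D, ∃ g : G, g * a * g⁻¹ = b := by
    intro a ha b hb
    rw [hcls] at ha hb
    have ha' : IsConj d a := ha
    have hb' : IsConj d b := hb
    exact isConj_iff.mp (ha'.symm.trans hb')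
  have hsq : ∀ e ∈ D, e * e = 1 := fun e he => Cfsg.Agent.Lib.Helper27.ThreeTrans.sq_of_mem hTS he
  have hinv : ∀ e ∈ D, e⁻¹ = e := fun e he => Cfsg.Agent.Lib.Helper27.ThreeTrans.inv_of_mem hTS he
  have hdd := hsq d hd
  have hdi := hinv d hd
  have hcs : Group.IsSolvable ↥(Subgroup.center G) := by
    apply Group.isSolvable_of_comm
    rintro ⟨a, ha⟩ ⟨b, hb⟩
    apply Subtype.ext
    rw [Subgroup.mem_center_iff] at hb
    show a * b = b * a
    exact hb a
  -- a normal subgroup centralized by a member of `D` is central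
  have hP0 : ∀ e ∈ D, ∀ N : Subgroup G, N.Normal → (∀ x ∈ N, Commute e x) →
      N ≤ Subgroup.center G := by
    intro e he N hN hc x hx
    rw [Subgroup.mem_center_iff]
    have hle : Subgroup.closure D ≤ Subgroup.centralizer ({x} : Set G) := by
      rw [Subgroup.closure_le]
      intro f hf
      rw [SetLike.mem_coe, Subgroup.mem_centralizer_singleton_iff]
      obtain ⟨g, rfl⟩ := hconj2 e he f hf
      have hx' : g⁻¹ * x * g ∈ N := by
        have := hN.conj_mem x hx g⁻¹
        rwa [inv_inv] at this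
      have h1 := (hc _ hx').eq
      calc g * e * g⁻¹ * x = g * (e * (g⁻¹ * x * g)) * g⁻¹ := by group
        _ = g * ((g⁻¹ * x * g) * e) * g⁻¹ := by rw [h1]
        _ = x * (g * e * g⁻¹) := by group
    intro g
    have hg : g ∈ Subgroup.centralizer ({x} : Set G) := hle (by rw [hgen]; exact Subgroup.mem_top g)
    rw [Subgroup.mem_centralizer_singleton_iff] at hg
    exact hg
  -- a component exists
  obtain ⟨L, hL⟩ : ∃ L : Subgroup G, Cfsg.IsComponent L := by
    by_contra hno
    push Not at hno
    exact hEne (Cfsg.Agent.Lib.Helper9.layer_eq_bot_iff.mpr hno)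
  -- every component is normal
  have hnormal : ∀ K : Subgroup G, Cfsg.IsComponent K → K.Normal := by
    intro K hK
    rw [← Subgroup.normalizer_eq_top_iff, eq_top_iff, ← hgen, Subgroup.closure_le]
    intro e he
    exact Cfsg.Agent.Lib.Helper12.FF.mem_normalizer_component hTS hconj he hK
  -- no member of `D` centralizes a component
  have hnoncent : ∀ K : Subgroup G, Cfsg.IsComponent K → ∀ e ∈ D, ¬ ∀ k ∈ K, Commute e k := by
    intro K hK e he hc
    have hle : K ≤ Subgroup.center G := hP0 e he K (hnormal K hK) hc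
    exact Cfsg.Agent.Lib.Helper9.component_not_le_of_isSolvable hK hcs hle
  -- uniqueness of the component
  have huniq : ∀ K : Subgroup G, Cfsg.IsComponent K → K = L := by
    intro K hK
    by_contra hne
    have hKn := hnormal K hK
    have hLn := hnormal L hL
    have hcomm : ⁅K, L⁆ = ⊥ := Cfsg.Agent.Lib.Helper9.components_commute K L hK hL hne
    have hKL : ∀ x ∈ K, ∀ y ∈ L, y * x = x * y := by
      intro x hx y hy
      have h1 := Subgroup.commutator_eq_bot_iff_le_centralizer.mp hcomm hx
      rw [Subgroup.mem_centralizer_iff] at h1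
      exact h1 y hy
    have h2K : ∃ k ∈ K, (k * d * k⁻¹ * d) ^ 2 = 1 ∧ k * d * k⁻¹ * d ≠ 1 := by
      by_contra hno
      push Not at hno
      have hc : ∀ g ∈ K, (g * d * g⁻¹ * d) ^ 3 = 1 := by
        intro g hg
        rcases hTS.2 _ (hconj g d hd) d hd with h | h
        · rw [hno g hg h, one_pow]
        · exact h
      have hs := Cfsg.Agent.Lib.Helper12.FF.isSolvable_conj_closure_of_cube hTS hconj hd K hc
      exact hnoncent K hK d hd
        (Cfsg.Agent.Lib.Helper12.FF.centralizes_component_of_solvable d K hs hK le_rfl)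
    have h3L : ∃ l ∈ L, (l * d * l⁻¹ * d) ^ 3 = 1 ∧ l * d * l⁻¹ * d ≠ 1 := by
      by_contra hno
      push Not at hno
      have hc : ∀ g ∈ L, Commute d (g * d * g⁻¹) := by
        intro g hg
        rcases hTS.2 _ (hconj g d hd) d hd with h | h
        · exact (Cfsg.Agent.Lib.Helper12.commute_of_mul_sq (hsq _ (hconj g d hd)) hdd h).symm
        · have h1 := hno g hg h
          have h4 : g * d * g⁻¹ = d := by
            have := eq_inv_of_mul_eq_one_left h1
            rwa [hdi] at this
          rw [h4]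
      have hs := Cfsg.Agent.Lib.Helper12.FF.isSolvable_conj_closure_of_commute d L hc
      exact hnoncent L hL d hd
        (Cfsg.Agent.Lib.Helper12.FF.centralizes_component_of_solvable d L hs hL le_rfl)
    obtain ⟨k, hk, hk2, hk1⟩ := h2K
    obtain ⟨l, hl, hl3, hl1⟩ := h3L
    set uk : G := k * d * k⁻¹ * d with huk
    set ul : G := l * d * l⁻¹ * d with hul
    have hukK : uk ∈ K := by
      have e1 : uk = k * (d * k⁻¹ * d⁻¹) := by rw [huk, hdi]; group
      rw [e1]; exact mul_mem hk (hKn.conj_mem _ (inv_mem hk) d)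
    have hulL : ul ∈ L := by
      have e1 : ul = l * (d * l⁻¹ * d⁻¹) := by rw [hul, hdi]; group
      rw [e1]; exact mul_mem hl (hLn.conj_mem _ (inv_mem hl) d)
    have hprod : (k * l) * d * (k * l)⁻¹ * d = ul * uk := by
      have h1 : k * ul = ul * k := (hKL k hk ul hulL).symm
      have h2 : ul * d * k⁻¹ * d = ul * (d * k⁻¹ * d) := by group
      calc (k * l) * d * (k * l)⁻¹ * d = k * (l * d * l⁻¹ * d) * d⁻¹ * k⁻¹ * d := by group
        _ = (k * ul) * d * k⁻¹ * d := by rw [hdi, ← hul]
        _ = (ul * k) * d * k⁻¹ * d := by rw [h1]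
        _ = ul * uk := by rw [huk]; group
    have hcm : Commute ul uk := hKL uk hukK ul hulL
    have h := hTS.2 _ (hconj (k * l) d hd) d hd
    rw [hprod, hcm.mul_pow, hcm.mul_pow] at h
    rcases h with h | h
    · rw [hk2, mul_one] at h
      apply hl1
      exact Cfsg.Agent.S5351.eq_one_of_pow_coprime h hl3 (by norm_num)
    · rw [hl3, one_mul] at h
      apply hk1
      exact Cfsg.Agent.S5351.eq_one_of_pow_coprime hk2 h (by norm_num)
  have hlayer : Cfsg.layer G = L :=
    le_antisymm (sSup_le (fun K hK => (huniq K hK).le))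
      (Cfsg.Agent.Lib.Helper9.component_le_layer hL)
  have hF : Cfsg.fittingSubgroup G = Subgroup.center G := by
    apply le_antisymm
    · rw [Cfsg.Agent.Lib.Helper1.fittingSubgroup_eq_iSup_pCore]
      apply iSup_le
      intro p
      have hp := p.2
      by_cases hp2 : (p : ℕ) = 2
      · rw [hp2]; exact h2
      by_cases hp3 : (p : ℕ) = 3
      · rw [hp3]; exact h3
      · apply hpart1 _ hp
        have := hp.two_le
        omega
    · exact Cfsg.Agent.Lib.Helper1.le_fittingSubgroup inferInstance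
        (Cfsg.Agent.Lib.Helper9.isNilpotent_of_le_centralizer (Subgroup.center_le_centralizer _))
  have hLn := hnormal L hL
  refine ⟨L, hLn, hL.2, ?_, Or.inr ?_⟩
  · unfold Cfsg.generalizedFittingSubgroup
    rw [hlayer, hF]
  · intro a ha b hb hab
    have haa := hsq a ha
    have hbb := hsq b hb
    have hai := hinv a ha
    have hbi := hinv b hb
    by_cases hc : Commute a b
    · by_contra hnotin
      have hall : ∀ l ∈ L, Commute b (l * a * l⁻¹) := by
        intro l hl
        by_contra hnc
        apply hnotin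
        set c : G := l * a * l⁻¹ with hcdef
        have hcD : c ∈ D := hconj l a ha
        have hci := hinv c hcD
        have h3 : (b * c) ^ 3 = 1 :=
          Cfsg.Agent.Lib.Helper27.ThreeTrans.cube_of_not_commute hTS hb hcD hnc
        have hbraid : b * c * b = c * b * c := by
          have h4 : b * c * (b * c) * (b * c) = 1 := by rw [← h3]; simp [pow_succ]
          calc b * c * b = (b * c * (b * c) * (b * c)) * c⁻¹ * b⁻¹ * c⁻¹ := by group
            _ = c * b * c := by rw [h4, one_mul, hci, hbi]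
        have hm : a⁻¹ * c ∈ L := by
          have e1 : a⁻¹ * c = (a⁻¹ * l * a⁻¹⁻¹) * l⁻¹ := by rw [hcdef]; group
          rw [e1]; exact mul_mem (hLn.conj_mem l hl a⁻¹) (inv_mem hl)
        have h5 : a⁻¹ * (b * c * b) ∈ L := by
          have e1 : a⁻¹ * (b * c * b) = b * (a⁻¹ * c) * b⁻¹ := by
            have h6 : a⁻¹ * b = b * a⁻¹ := by rw [hai]; exact hc.eq
            calc a⁻¹ * (b * c * b) = (a⁻¹ * b) * c * b := by group
              _ = (b * a⁻¹) * c * b := by rw [h6]
              _ = b * (a⁻¹ * c) * b⁻¹ := by rw [hbi]; group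
          rw [e1]; exact hLn.conj_mem _ hm b
        have h7 : b⁻¹ * (c * b * c) ∈ L := by
          have e1 : b⁻¹ * (c * b * c) = a * ((b⁻¹ * (a⁻¹ * c) * b⁻¹⁻¹) * (a⁻¹ * c)⁻¹) * a⁻¹ := by
            have h6 : b⁻¹ * a = a * b⁻¹ := by rw [hbi]; exact hc.eq.symm
            have h8 : c = a * (a⁻¹ * c) := by group
            have h9 : c⁻¹ = c := hci
            calc b⁻¹ * (c * b * c) = b⁻¹ * (c * b * c⁻¹) := by rw [h9]
              _ = (b⁻¹ * a) * (a⁻¹ * c) * b * (a⁻¹ * c)⁻¹ * a⁻¹ := by group
              _ = (a * b⁻¹) * (a⁻¹ * c) * b * (a⁻¹ * c)⁻¹ * a⁻¹ := by rw [h6]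
              _ = a * ((b⁻¹ * (a⁻¹ * c) * b⁻¹⁻¹) * (a⁻¹ * c)⁻¹) * a⁻¹ := by group
          rw [e1]
          exact hLn.conj_mem _ (mul_mem (hLn.conj_mem _ hm b⁻¹) (inv_mem hm)) a
        have e2 : a⁻¹ * b = (a⁻¹ * (b * c * b)) * (b⁻¹ * (c * b * c))⁻¹ := by
          rw [← hbraid]; group
        rw [e2]
        exact mul_mem h5 (inv_mem h7)
      rcases Cfsg.Agent.Lib.Helper12.FF.component_le_closure_or_centralizes a L hL le_rfl with
        hle | hcen
      · apply hnoncent L hL b hb
        have hle2 : Subgroup.closure {y : G | ∃ g ∈ L, y = g * a * g⁻¹} ≤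
            Subgroup.centralizer ({b} : Set G) := by
          rw [Subgroup.closure_le]
          rintro y ⟨g, hg, rfl⟩
          rw [SetLike.mem_coe, Subgroup.mem_centralizer_singleton_iff]
          exact (hall g hg).eq.symm
        intro k hk
        have := hle2 (hle hk)
        rw [Subgroup.mem_centralizer_singleton_iff] at this
        exact this.symm
      · exact hnoncent L hL a ha hcen
    · have h3 : (a * b) ^ 3 = 1 :=
        Cfsg.Agent.Lib.Helper27.ThreeTrans.cube_of_not_commute hTS ha hb hc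
      have e1 : a * b * a⁻¹ * b⁻¹ = (a * b) ^ 2 := by rw [hai, hbi, pow_two]; group
      rw [e1] at hab
      have e2 : a⁻¹ * b = ((a * b) ^ 2) ^ 2 := by
        rw [hai, ← pow_mul]
        calc a * b = (a * b) ^ 3 * (a * b) := by rw [h3, one_mul]
          _ = (a * b) ^ (2 * 2) := by rw [← pow_succ]
      rw [e2]
      exact pow_mem hab 2

end Cfsg.Agent.S5352
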