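import Cfsg.Statements.S1012
import Mathlib

set_option autoImplicit false
open Cfsg

namespace Cfsg.Agent.S1012
open MulAction

/-- commuting elements of orders 2 and 3 give an element of order 6 -/
theorem orderOf_six {G : Type*} [Group G] (t x : G) (ht : orderOf t = 2) (hx : orderOf x = 3)
    (hc : Commute t x) : orderOf (t * x) = 6 := by
  have := hc.orderOf_mul_eq_mul_orderOf_of_coprime (by rw [ht, hx]; decide)
  rw [this, ht, hx]

theorem main {G : Type*} [Group G] [Finite G] (h : Nat.card G = 24) (h6 : ∀ g : G, orderOf g ≠ 6) :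
    Nonempty (G ≃* Equiv.Perm (Fin 4)) := by
  classical
  have : Fintype G := Fintype.ofFinite G
  have hf3 : Fact (Nat.Prime 3) := ⟨Nat.prime_three⟩
  -- an element of order 3
  obtain ⟨x, hx⟩ := exists_prime_orderOf_dvd_card' (G := G) 3 (by rw [h]; decide)
  -- Sylow 3-subgroups have order 3
  have hcard3 : ∀ P : Sylow 3 G, Nat.card ↥(P : Subgroup G) = 3 := by
    intro P
    obtain ⟨k, hk⟩ := P.2.exists_card_eq
    have hmul := (P : Subgroup G).card_mul_index
    rw [hk, h] at hmul
    have hnd := P.not_dvd_index
    rcases k with _ | _ | k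
    · exfalso
      rw [pow_zero, one_mul] at hmul
      rw [hmul] at hnd
      exact hnd (by norm_num)
    · rw [hk]; rfl
    · exfalso
      have : 9 ∣ 24 := ⟨3 ^ k * (P : Subgroup G).index, by rw [← hmul]; ring⟩
      omega
  have hidx : ∀ P : Sylow 3 G, (P : Subgroup G).index = 8 := by
    intro P
    have := (P : Subgroup G).card_mul_index
    rw [hcard3 P, h] at this
    omega
  -- number of Sylow 3-subgroups is 1 or 4
  have hn3 : Nat.card (Sylow 3 G) = 1 ∨ Nat.card (Sylow 3 G) = 4 := by
    obtain ⟨P⟩ : Nonempty (Sylow 3 G) := Sylow.nonempty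
    have h1 : Nat.card (Sylow 3 G) ∣ 8 := by rw [← hidx P]; exact Sylow.card_dvd_index P
    have h2 : Nat.card (Sylow 3 G) ≡ 1 [MOD 3] := card_sylow_modEq_one 3 G
    have h3 : Nat.card (Sylow 3 G) ∈ Nat.divisors 8 := Nat.mem_divisors.mpr ⟨h1, by norm_num⟩
    have hdiv : Nat.divisors 8 = {1, 2, 4, 8} := by decide
    rw [hdiv] at h3
    simp only [Finset.mem_insert, Finset.mem_singleton] at h3
    rcases h3 with h3 | h3 | h3 | h3
    · exact Or.inl h3
    · rw [h3] at h2; exact absurd h2 (by decide)
    · exact Or.inr h3
    · rw [h3] at h2; exact absurd h2 (by decide)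
  -- the case n_3 = 1 is impossible
  have hn3' : Nat.card (Sylow 3 G) = 4 := by
    rcases hn3 with h1 | h4
    · exfalso
      obtain ⟨P⟩ : Nonempty (Sylow 3 G) := Sylow.nonempty
      have hPnormal : (P : Subgroup G).Normal := by
        have hsub : Subsingleton (Sylow 3 G) := (Nat.card_eq_one_iff_unique.mp h1).1
        exact Sylow.normal_of_subsingleton P
      -- N(P) = ⊤, N/C embeds in Aut(P) of order 2
      set C := Subgroup.centralizer ((P : Subgroup G) : Set G) with hC
      have hcyc : IsCyclic ↥(P : Subgroup G) := isCyclic_of_prime_card (hcard3 P)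
      have hAut : Nat.card (MulAut ↥(P : Subgroup G)) = 2 := by
        rw [IsCyclic.card_mulAut, hcard3 P]; rfl
      have hNtop : Subgroup.normalizer ((P : Subgroup G) : Set G) = ⊤ :=
        (P : Subgroup G).normalizer_eq_top
      have hCidx : C.index ∣ 2 := by
        have hker := Subgroup.normalizerMonoidHom_ker (P : Subgroup G)
        have h2 : C.relIndex (Subgroup.normalizer ((P : Subgroup G) : Set G)) ∣ 2 := by
          have : C.relIndex (Subgroup.normalizer ((P : Subgroup G) : Set G))
              = ((P : Subgroup G).normalizerMonoidHom).ker.index := by rw [hker]; rfl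
          rw [this, Subgroup.index_ker, ← hAut]
          exact Subgroup.card_subgroup_dvd_card _
        rwa [hNtop, Subgroup.relIndex_top_right] at h2
      have hCcard : 2 ∣ Nat.card C := by
        have := C.card_mul_index
        rw [h] at this
        have hle : C.index ≤ 2 := Nat.le_of_dvd (by norm_num) hCidx
        have hpos : 0 < C.index := Nat.pos_of_ne_zero Subgroup.index_ne_zero_of_finite
        interval_cases hci : C.index
        · exact ⟨12, by omega⟩
        · exact ⟨6, by omega⟩
      obtain ⟨t, ht⟩ := exists_prime_orderOf_dvd_card' (G := C) 2 hCcard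
      -- a generator y of P
      obtain ⟨y, hy⟩ := exists_prime_orderOf_dvd_card' (G := ↥(P : Subgroup G)) 3 (by rw [hcard3 P])
      have hty : Commute (t : G) (y : G) := by
        have : (t : G) ∈ Subgroup.centralizer ((P : Subgroup G) : Set G) := t.2
        rw [Subgroup.mem_centralizer_iff] at this
        exact (this y y.2).symm
      have ht' : orderOf (t : G) = 2 := by rw [Subgroup.orderOf_coe]; exact ht
      have hy' : orderOf (y : G) = 3 := by rw [Subgroup.orderOf_coe]; exact hy
      exact h6 _ (orderOf_six (t : G) (y : G) ht' hy' hty)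
    · exact h4
  -- the action on Sylow 3-subgroups
  let φ : G →* Equiv.Perm (Sylow 3 G) := MulAction.toPermHom G (Sylow 3 G)
  have hker_le : ∀ P : Sylow 3 G, φ.ker ≤ Subgroup.normalizer ((P : Subgroup G) : Set G) := by
    intro P g hg
    rw [MonoidHom.mem_ker] at hg
    have : g • P = P := by
      have := congrArg (fun σ : Equiv.Perm (Sylow 3 G) => σ P) hg
      simpa [φ] using this
    exact Sylow.smul_eq_iff_mem_normalizer.mp this
  have hNcard : ∀ P : Sylow 3 G, Nat.card ↥(Subgroup.normalizer ((P : Subgroup G) : Set G)) = 6 := by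
    intro P
    have h1 : Nat.card (Sylow 3 G) = (Subgroup.normalizer ((P : Subgroup G) : Set G)).index :=
      Sylow.card_eq_index_normalizer P
    have h2 := (Subgroup.normalizer ((P : Subgroup G) : Set G)).card_mul_index
    rw [← h1, hn3', h] at h2
    omega
  -- 3 does not divide the order of the kernel
  have hk3 : ¬ 3 ∣ Nat.card φ.ker := by
    intro hdvd
    obtain ⟨y, hy⟩ := exists_prime_orderOf_dvd_card' (G := φ.ker) 3 hdvd
    have hy' : orderOf (y : G) = 3 := by rw [Subgroup.orderOf_coe]; exact hy
    -- Q = ⟨y⟩ is a 3-subgroup inside every normalizer, hence inside every Sylow 3-subgroup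
    have hQ : IsPGroup 3 ↥(Subgroup.zpowers (y : G)) := by
      apply IsPGroup.of_card (n := 1)
      rw [Nat.card_zpowers, hy']; rfl
    have hall : ∀ P : Sylow 3 G, (y : G) ∈ (P : Subgroup G) := by
      intro P
      have h1 : Subgroup.zpowers (y : G) ≤ Subgroup.normalizer ((P : Subgroup G) : Set G) := by
        rw [Subgroup.zpowers_le]; exact hker_le P y.2
      have h2 := hQ.inf_normalizer_sylow P
      have h3 : Subgroup.zpowers (y : G) ⊓ Subgroup.normalizer ((P : Subgroup G) : Set G)
          = Subgroup.zpowers (y : G) := inf_eq_left.mpr h1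
      have h2' : Subgroup.zpowers (y : G) ⊓ Subgroup.normalizer ((P : Subgroup G) : Set G)
          = Subgroup.zpowers (y : G) ⊓ (P : Subgroup G) := h2
      rw [h3] at h2'
      have : Subgroup.zpowers (y : G) ≤ (P : Subgroup G) := by
        rw [h2']; exact inf_le_right
      exact this (Subgroup.mem_zpowers _)
    -- then all Sylow 3-subgroups coincide with ⟨y⟩
    have heq : ∀ P : Sylow 3 G, (P : Subgroup G) = Subgroup.zpowers (y : G) := by
      intro P
      symm
      apply Subgroup.eq_of_le_of_card_ge
      · rw [Subgroup.zpowers_le]; exact hall P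
      · rw [hcard3 P, Nat.card_zpowers, hy']
    have hsub : Subsingleton (Sylow 3 G) := ⟨fun P Q => Sylow.ext ((heq P).trans (heq Q).symm)⟩
    have : Nat.card (Sylow 3 G) ≤ 1 := Finite.card_le_one_iff_subsingleton.mpr hsub
    omega
  -- the kernel has order 1 or 2
  have hkcard : Nat.card φ.ker = 1 ∨ Nat.card φ.ker = 2 := by
    obtain ⟨P⟩ : Nonempty (Sylow 3 G) := Sylow.nonempty
    have h1 : Nat.card φ.ker ∣ 6 := by rw [← hNcard P]; exact Subgroup.card_dvd_of_le (hker_le P)
    have h3 : Nat.card φ.ker ∈ Nat.divisors 6 := Nat.mem_divisors.mpr ⟨h1, by norm_num⟩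
    have hdiv : Nat.divisors 6 = {1, 2, 3, 6} := by decide
    rw [hdiv] at h3
    simp only [Finset.mem_insert, Finset.mem_singleton] at h3
    rcases h3 with h3 | h3 | h3 | h3
    · exact Or.inl h3
    · exact Or.inr h3
    · exact absurd (⟨1, by rw [h3]⟩ : 3 ∣ Nat.card φ.ker) hk3
    · exact absurd (⟨2, by rw [h3]⟩ : 3 ∣ Nat.card φ.ker) hk3
  have hkbot : φ.ker = ⊥ := by
    rcases hkcard with h1 | h2
    · exact Subgroup.card_eq_one.mp h1
    · exfalso
      -- a normal subgroup of order 2 is central
      obtain ⟨z, hz⟩ := exists_prime_orderOf_dvd_card' (G := φ.ker) 2 (by rw [h2])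
      have hz' : orderOf (z : G) = 2 := by rw [Subgroup.orderOf_coe]; exact hz
      have hz1 : (z : G) ≠ 1 := by
        intro h1; rw [h1, orderOf_one] at hz'; omega
      have hK : φ.ker = Subgroup.zpowers (z : G) := by
        symm
        apply Subgroup.eq_of_le_of_card_ge
        · rw [Subgroup.zpowers_le]; exact z.2
        · rw [Nat.card_zpowers, hz', h2]
      have hcentral : ∀ g : G, g * (z : G) * g⁻¹ = z := by
        intro g
        have hn : g * (z : G) * g⁻¹ ∈ φ.ker := (MonoidHom.normal_ker φ).conj_mem _ z.2 g
        have hn' : g * (z : G) * g⁻¹ ∈ Subgroup.zpowers (z : G) := hK ▸ hn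
        obtain ⟨n, hn⟩ := Subgroup.mem_zpowers_iff.mp hn'
        have hmod : (z : G) ^ n = (z : G) ^ (n % 2) := by
          have := zpow_mod_orderOf (z : G) n
          rw [hz'] at this
          exact_mod_cast this.symm
        rcases Int.emod_two_eq_zero_or_one n with h0 | h1
        · exfalso
          rw [hmod, h0, zpow_zero] at hn
          apply hz1
          have : (z : G) = g⁻¹ * (g * (z : G) * g⁻¹) * g := by group
          rw [this, ← hn]; group
        · rw [hmod, h1, zpow_one] at hn
          exact hn.symm
      have hcomm : Commute (z : G) x := by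
        have := hcentral x
        show (z : G) * x = x * (z : G)
        calc (z : G) * x = (x * (z : G) * x⁻¹) * x := by rw [this]
          _ = x * (z : G) := by group
      exact h6 _ (orderOf_six (z : G) x hz' hx hcomm)
  have hinj : Function.Injective φ := (MonoidHom.ker_eq_bot_iff φ).mp hkbot
  -- cardinalities agree
  have hfin : Finite (Sylow 3 G) := inferInstance
  have : Fintype (Sylow 3 G) := Fintype.ofFinite _
  have hcardS : Fintype.card (Sylow 3 G) = 4 := by rw [← Nat.card_eq_fintype_card]; exact hn3'
  have hcardPerm : Nat.card (Equiv.Perm (Sylow 3 G)) = 24 := by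
    rw [Nat.card_eq_fintype_card, Fintype.card_perm, hcardS]; rfl
  have hbij : Function.Bijective φ := by
    rw [Nat.bijective_iff_injective_and_card]
    exact ⟨hinj, by rw [h, hcardPerm]⟩
  let e1 : G ≃* Equiv.Perm (Sylow 3 G) := MulEquiv.ofBijective φ hbij
  let e2 : Sylow 3 G ≃ Fin 4 := Fintype.equivFinOfCardEq hcardS
  exact ⟨e1.trans e2.permCongrHom⟩



/-- A group of order 24 containing no element of order 6 is isomorphic to the symmetric group of degree 4. -/
theorem result {G : Type*} [Group G] [Finite G] (h : Nat.card G = 24) (h6 : ∀ g : G, orderOf g ≠ 6) : Nonempty (G ≃* Equiv.Perm (Fin 4)) := by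
  exact main h h6

end Cfsg.Agent.S1012
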