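import Cfsg.Statements.S5639
import Cfsg.Agent.Lib.Helper5.LSubC

set_option autoImplicit false
open Cfsg

namespace Cfsg.Agent.S5639

open Cfsg.Agent.Lib.Helper5.LSub in
/-- For a finite field F, a subfield F₀ with |F| = |F₀| ^ r for a prime r, and n ≥ 13, the subfield group (the conjugate by any P of the product of GL_n(F₀) with the non-zero scalars of F, intersected with SL_n(F)) is a maximal subgroup of SL_n(F). -/
theorem result {F : Type*} [Field F] [Fintype F] (n : ℕ) (hn : 13 ≤ n) (F₀ : Subfield F) (r : ℕ) (hr : r.Prime) (hcard : Fintype.card F = Nat.card F₀ ^ r) (P : Matrix.GeneralLinearGroup (Fin n) F) : Cfsg.Geo.IsMaximalIn (Cfsg.Geo.specialLinear (Fin n) F) (Cfsg.Geo.subfieldSubgroup F₀ P ⊓ Cfsg.Geo.specialLinear (Fin n) F) := by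
  have hfr : Module.finrank F₀ F = r := finrank_eq_of_card F₀ hcard
  have hp : (Module.finrank F₀ F).Prime := by rw [hfr]; exact hr
  refine ⟨subfield_lt (by omega) F₀ P hp.two_le, fun M hHM hMS => ?_⟩
  by_cases hM : Cfsg.Geo.specialLinear (Fin n) F ≤ M
  · right
    exact le_antisymm hMS hM
  · left
    have hctx : Ctx F₀ P M := ⟨hHM, hM, hp⟩
    apply le_antisymm _ hHM
    intro g hg
    refine Subgroup.mem_inf.mpr ⟨?_, hMS hg⟩
    by_cases hrn : Module.finrank F₀ F < n
    · exact easy_case (by omega) hctx hrn hg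
    · exact hard_case (by omega) hctx (by omega) hg

end Cfsg.Agent.S5639
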