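import Cfsg.Statements.S5642
import Mathlib
import Cfsg.Agent.Lib.Helper2.SLGen
import Cfsg.Agent.Lib.Helper5.SpMax

set_option autoImplicit false
open Cfsg

namespace Cfsg.Agent.S5642

section Aux
set_option linter.unusedSectionVars false
set_option linter.unusedVariables false
set_option linter.unusedSimpArgs false

namespace S5642aux
open Cfsg Matrix Cfsg.Agent.Lib.Helper5.SpMax

section Basic
variable {F : Type*} [Field F] {n : ℕ}

lemma exists_rank_one (s : (Fin n → F) →ₗ[F] F) (a : Fin n → F) (hs : s a = 0) :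
    ∃ g : GL (Fin n) F, g ∈ Cfsg.Geo.specialLinear (Fin n) F ∧
      (∀ v, (g : Matrix (Fin n) (Fin n) F) *ᵥ v = v + s v • a) := by
  set r : Fin n → F := fun j => s (Pi.single j 1) with hr
  have hdot : ∀ x : Fin n → F, r ⬝ᵥ x = s x := by
    intro x
    have hx : x = ∑ i, x i • (Pi.single i (1 : F) : Fin n → F) := by
      ext j
      simp [Finset.sum_apply, Pi.single_apply]
    conv_rhs => rw [hx, map_sum]
    simp only [dotProduct, hr, map_smul, smul_eq_mul]
    apply Finset.sum_congr rfl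
    intro i _
    ring
  set M : Matrix (Fin n) (Fin n) F := 1 + Matrix.vecMulVec a r with hM
  have hdet : M.det = 1 := by
    have h1 : M = 1 + Matrix.replicateCol Unit a * Matrix.replicateRow Unit r := by
      rw [hM]; congr 1
      ext i j; simp [Matrix.vecMulVec_apply, Matrix.mul_apply]
    rw [h1, Matrix.det_one_add_replicateCol_mul_replicateRow, hdot, hs, add_zero]
  have hMx : ∀ x : Fin n → F, M *ᵥ x = x + s x • a := by
    intro x
    rw [hM, Matrix.add_mulVec, Matrix.one_mulVec, Matrix.vecMulVec_mulVec, hdot]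
    congr 1
    ext i
    simp [mul_comm]
  refine ⟨Matrix.GeneralLinearGroup.mkOfDetNeZero M (by rw [hdet]; exact one_ne_zero), ?_, hMx⟩
  change _ ∈ (Matrix.GeneralLinearGroup.det : GL (Fin n) F →* Fˣ).ker
  rw [MonoidHom.mem_ker]
  apply Units.ext
  simp [hdet]

lemma transvection_mulVec (i j : Fin n) (c : F) (v : Fin n → F) :
    Matrix.transvection i j c *ᵥ v = v + (c * v j) • (Pi.single i (1 : F) : Fin n → F) := by
  unfold Matrix.transvection
  rw [Matrix.add_mulVec, Matrix.one_mulVec]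
  congr 1
  ext l
  simp only [Matrix.mulVec, dotProduct, Matrix.single_apply, Pi.smul_apply, Pi.single_apply,
    smul_eq_mul]
  by_cases hl : i = l
  · subst hl
    simp
  · simp [hl, Ne.symm hl]

/-- "the transvection `x ↦ x + s(x) a` lies in `M`" -/
def TM (M : Subgroup (GL (Fin n) F)) (s : (Fin n → F) →ₗ[F] F) (a : Fin n → F) : Prop :=
  s a = 0 ∧ ∃ t ∈ M, ∀ v, (t : Matrix (Fin n) (Fin n) F) *ᵥ v = v + s v • a

lemma TM_mono {M M' : Subgroup (GL (Fin n) F)} (h : M ≤ M') {s : (Fin n → F) →ₗ[F] F}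
    {a : Fin n → F} (hT : TM M s a) : TM M' s a := by
  obtain ⟨h0, t, ht, htv⟩ := hT
  exact ⟨h0, t, h ht, htv⟩

lemma TM_of_eq {M : Subgroup (GL (Fin n) F)} {s s' : (Fin n → F) →ₗ[F] F} {a : Fin n → F}
    (hs : ∀ v, s v = s' v) (hT : TM M s a) : TM M s' a := by
  have : s = s' := LinearMap.ext hs
  rw [← this]; exact hT

lemma TM_conj {M : Subgroup (GL (Fin n) F)} {x : GL (Fin n) F} (hx : x ∈ M)
    {s : (Fin n → F) →ₗ[F] F} {a : Fin n → F} (hT : TM M s a) :
    TM M (s ∘ₗ Matrix.toLin' ((x⁻¹ : GL (Fin n) F) : Matrix (Fin n) (Fin n) F))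
      ((x : Matrix (Fin n) (Fin n) F) *ᵥ a) := by
  obtain ⟨h0, t, ht, htv⟩ := hT
  refine ⟨?_, x * t * x⁻¹, M.mul_mem (M.mul_mem hx ht) (M.inv_mem hx), ?_⟩
  · rw [LinearMap.comp_apply, Matrix.toLin'_apply, inv_mul_mulVec, h0]
  · intro v
    rw [Units.val_mul, Units.val_mul, ← Matrix.mulVec_mulVec, ← Matrix.mulVec_mulVec, htv,
      Matrix.mulVec_add, Matrix.mulVec_smul, mul_inv_mulVec, LinearMap.comp_apply,
      Matrix.toLin'_apply]

end Basic

section Alt
variable {F : Type*} [Field F] {n : ℕ} {f : (Fin n → F) → (Fin n → F) → F}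
  (hf : Cfsg.Geo.IsSymplecticForm f)
include hf

lemma f_zero_right (x : Fin n → F) : f x 0 = 0 := by
  have := hf.bilinear.smul_right 0 x 0
  rwa [zero_smul, zero_mul] at this

lemma f_zero_left (x : Fin n → F) : f 0 x = 0 := by
  have := hf.bilinear.smul_left 0 0 x
  rwa [zero_smul, zero_mul] at this

lemma f_sub_right (x a b : Fin n → F) : f x (a - b) = f x a - f x b := by
  have h1 := hf.bilinear.add_right x (a - b) b
  rw [sub_add_cancel] at h1
  rw [h1, add_sub_cancel_right]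

lemma f_sub_left (a b x : Fin n → F) : f (a - b) x = f a x - f b x := by
  have h1 := hf.bilinear.add_left (a - b) b x
  rw [sub_add_cancel] at h1
  rw [h1, add_sub_cancel_right]

lemma eq_zero_of_forall_left {v : Fin n → F} (h : ∀ x, f x v = 0) : v = 0 := by
  by_contra hv
  obtain ⟨x, hx⟩ := (hf.nondegenerate v hv).1
  exact hx (h x)

/-- `x ↦ f x a` as a linear functional -/
def fL (a : Fin n → F) : (Fin n → F) →ₗ[F] F where
  toFun x := f x a
  map_add' x y := hf.bilinear.add_left x y a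
  map_smul' c x := by
    simp only [RingHom.id_apply, smul_eq_mul]
    exact hf.bilinear.smul_left c x a

lemma fL_apply (a x : Fin n → F) : fL hf a x = f x a := rfl

/-- the isometry group of `f` intersected with `SL` -/
abbrev isoSL (f : (Fin n → F) → (Fin n → F) → F) : Subgroup (GL (Fin n) F) :=
  Cfsg.preserving (Cfsg.glToMat (Fin n) F) f ⊓ Cfsg.Geo.specialLinear (Fin n) F

omit hf in
lemma mem_iso {g : GL (Fin n) F} : g ∈ Cfsg.preserving (Cfsg.glToMat (Fin n) F) f ↔
    ∀ u v, f ((g : Matrix (Fin n) (Fin n) F) *ᵥ u) ((g : Matrix (Fin n) (Fin n) F) *ᵥ v) = f u v :=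
  Iff.rfl

omit hf in
lemma isoSL_le : isoSL f ≤ Cfsg.Geo.similarityGroup f ⊓ Cfsg.Geo.specialLinear (Fin n) F := by
  intro g hg
  refine ⟨⟨1, fun u v => ?_⟩, hg.2⟩
  rw [Units.val_one, one_mul]
  exact mem_iso.mp hg.1 u v

/-- symplectic transvections -/
lemma T_TM (a : Fin n → F) (c : F) : TM (isoSL f) (c • fL hf a) a := by
  have h0 : (c • fL hf a) a = 0 := by
    rw [LinearMap.smul_apply, fL_apply, hf.alternating, smul_zero]
  obtain ⟨t, htSL, ht⟩ := exists_rank_one (c • fL hf a) a h0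
  have hiso : t ∈ Cfsg.preserving (Cfsg.glToMat (Fin n) F) f := by
    rw [mem_iso]
    intro u v
    rw [ht, ht]
    simp only [LinearMap.smul_apply, fL_apply, smul_eq_mul]
    rw [hf.bilinear.add_left, hf.bilinear.add_right, hf.bilinear.add_right, hf.bilinear.smul_left,
      hf.bilinear.smul_left, hf.bilinear.smul_right, hf.bilinear.smul_right, hf.alternating,
      hf.skew a v]
    ring
  exact ⟨h0, t, ⟨hiso, htSL⟩, ht⟩

/-- one transvection step -/
lemma iso_step (x y : Fin n → F) (hxy : f x y ≠ 0) :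
    ∃ h ∈ isoSL f, (h : Matrix (Fin n) (Fin n) F) *ᵥ x = y ∧
      ∀ z, f z (y - x) = 0 → (h : Matrix (Fin n) (Fin n) F) *ᵥ z = z := by
  obtain ⟨-, t, ht, htv⟩ := T_TM hf (y - x) (f x y)⁻¹
  refine ⟨t, ht, ?_, ?_⟩
  · rw [htv, LinearMap.smul_apply, fL_apply, f_sub_right hf, hf.alternating, sub_zero, smul_eq_mul,
      inv_mul_cancel₀ hxy, one_smul, add_sub_cancel]
  · intro z hz
    rw [htv, LinearMap.smul_apply, fL_apply, hz, smul_zero, zero_smul, add_zero]

lemma exists_common {a b : Fin n → F} (ha : ∃ x, f a x ≠ 0) (hb : ∃ x, f b x ≠ 0) :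
    ∃ z, f a z ≠ 0 ∧ f b z ≠ 0 := by
  obtain ⟨x, hx⟩ := ha
  obtain ⟨y, hy⟩ := hb
  by_cases hbx : f b x ≠ 0
  · exact ⟨x, hx, hbx⟩
  · rw [not_not] at hbx
    by_cases hay : f a y ≠ 0
    · exact ⟨y, hay, hy⟩
    · rw [not_not] at hay
      refine ⟨x + y, ?_, ?_⟩
      · rw [hf.bilinear.add_right, hay, add_zero]; exact hx
      · rw [hf.bilinear.add_right, hbx, zero_add]; exact hy

lemma exists_iso_move (a b : Fin n → F) (ha : a ≠ 0) (hb : b ≠ 0) :
    ∃ h ∈ isoSL f, (h : Matrix (Fin n) (Fin n) F) *ᵥ a = b := by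
  by_cases hab : f a b ≠ 0
  · obtain ⟨h, hh, hha, -⟩ := iso_step hf a b hab
    exact ⟨h, hh, hha⟩
  · obtain ⟨z, hza, hzb⟩ := exists_common hf (hf.nondegenerate a ha).2 (hf.nondegenerate b hb).2
    have hzb' : f z b ≠ 0 := by rw [hf.skew]; exact neg_ne_zero.mpr hzb
    obtain ⟨h1, hh1, hh1a, -⟩ := iso_step hf a z hza
    obtain ⟨h2, hh2, hh2z, -⟩ := iso_step hf z b hzb'
    refine ⟨h2 * h1, mul_mem hh2 hh1, ?_⟩
    rw [Units.val_mul, ← Matrix.mulVec_mulVec, hh1a, hh2z]

/-- if every `x` orthogonal to `a` is orthogonal to `b` then `b` is a multiple of `a` -/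
lemma exists_sep {a b : Fin n → F} (ha : a ≠ 0) (hb : b ∉ Submodule.span F {a}) :
    ∃ x, f a x = 0 ∧ f b x ≠ 0 := by
  by_contra hcon
  push Not at hcon
  apply hb
  obtain ⟨w₀, hw₀⟩ := (hf.nondegenerate a ha).2
  have key : ∀ w, f (b - (f b w₀ / f a w₀) • a) w = 0 := by
    intro w
    have h1 := hcon (w - (f a w / f a w₀) • w₀)
      (by rw [f_sub_right hf, hf.bilinear.smul_right, div_mul_cancel₀ _ hw₀, sub_self])
    rw [f_sub_right hf, hf.bilinear.smul_right] at h1
    rw [f_sub_left hf, hf.bilinear.smul_left]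
    linear_combination h1
  have h2 : b - (f b w₀ / f a w₀) • a = 0 := by
    by_contra hne
    obtain ⟨x, hx⟩ := (hf.nondegenerate _ hne).2
    exact hx (key x)
  rw [sub_eq_zero.mp h2]
  exact Submodule.smul_mem _ _ (Submodule.mem_span_singleton_self a)

lemma exists_iso_move_fix {a₀ b b' : Fin n → F} (ha₀ : a₀ ≠ 0) (hb : f a₀ b = 0)
    (hb' : f a₀ b' = 0) (hbn : b ∉ Submodule.span F {a₀}) (hb'n : b' ∉ Submodule.span F {a₀}) :
    ∃ h ∈ isoSL f, (h : Matrix (Fin n) (Fin n) F) *ᵥ a₀ = a₀ ∧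
      (h : Matrix (Fin n) (Fin n) F) *ᵥ b = b' := by
  by_cases hbb : f b b' ≠ 0
  · obtain ⟨h, hh, hhb, hfix⟩ := iso_step hf b b' hbb
    exact ⟨h, hh, hfix a₀ (by rw [f_sub_right hf, hb, hb', sub_zero]), hhb⟩
  · -- find z ⊥ a₀ with f b z ≠ 0 and f b' z ≠ 0
    obtain ⟨x, hx0, hx⟩ := exists_sep hf ha₀ hbn
    obtain ⟨y, hy0, hy⟩ := exists_sep hf ha₀ hb'n
    obtain ⟨z, hz0, hzb, hzb'⟩ : ∃ z, f a₀ z = 0 ∧ f b z ≠ 0 ∧ f b' z ≠ 0 := by
      by_cases hb'x : f b' x ≠ 0
      · exact ⟨x, hx0, hx, hb'x⟩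
      · rw [not_not] at hb'x
        by_cases hby : f b y ≠ 0
        · exact ⟨y, hy0, hby, hy⟩
        · rw [not_not] at hby
          refine ⟨x + y, ?_, ?_, ?_⟩
          · rw [hf.bilinear.add_right, hx0, hy0, add_zero]
          · rw [hf.bilinear.add_right, hby, add_zero]; exact hx
          · rw [hf.bilinear.add_right, hb'x, zero_add]; exact hy
    have hzb'' : f z b' ≠ 0 := by rw [hf.skew]; exact neg_ne_zero.mpr hzb'
    obtain ⟨h1, hh1, hh1b, hfix1⟩ := iso_step hf b z hzb
    obtain ⟨h2, hh2, hh2z, hfix2⟩ := iso_step hf z b' hzb''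
    refine ⟨h2 * h1, mul_mem hh2 hh1, ?_, ?_⟩
    · rw [Units.val_mul, ← Matrix.mulVec_mulVec,
        hfix1 a₀ (by rw [f_sub_right hf, hz0, hb, sub_zero]),
        hfix2 a₀ (by rw [f_sub_right hf, hb', hz0, sub_zero])]
    · rw [Units.val_mul, ← Matrix.mulVec_mulVec, hh1b, hh2z]

/-- Riesz representation -/
lemma exists_repr (s : (Fin n → F) →ₗ[F] F) : ∃ b, ∀ x, s x = f x b := by
  set R : (Fin n → F) →ₗ[F] (Fin n → F) →ₗ[F] F :=
    LinearMap.mk₂ F (fun b x => f x b) (fun b b' x => hf.bilinear.add_right x b b')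
      (fun c b x => by rw [hf.bilinear.smul_right, smul_eq_mul])
      (fun b x y => hf.bilinear.add_left x y b)
      (fun c b x => by rw [hf.bilinear.smul_left, smul_eq_mul]) with hR
  have hinj : Function.Injective R := by
    rw [injective_iff_map_eq_zero]
    intro b hb
    apply eq_zero_of_forall_left hf
    intro x
    have := LinearMap.congr_fun hb x
    simpa [hR] using this
  have hsurj : Function.Surjective R :=
    (LinearMap.injective_iff_surjective_of_finrank_eq_finrank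
      (Subspace.dual_finrank_eq (K := F) (V := Fin n → F)).symm).mp hinj
  obtain ⟨b, hb⟩ := hsurj s
  refine ⟨b, fun x => ?_⟩
  rw [← hb]
  simp [hR]

/-- local proportionality implies global proportionality -/
lemma local_global (φ : (Fin n → F) → (Fin n → F) → F)
    (hφadd : ∀ x a b, φ x (a + b) = φ x a + φ x b)
    (hφsmul : ∀ x (c : F) a, φ x (c • a) = c * φ x a)
    (h : ∀ a, a ≠ 0 → ∃ l : F, ∀ x, φ x a = l * f x a)
    (a₁ : Fin n → F) (ha₁ : a₁ ≠ 0) : ∃ l : F, ∀ a x, φ x a = l * f x a := by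
  obtain ⟨l₁, hl₁⟩ := h a₁ ha₁
  refine ⟨l₁, fun a x => ?_⟩
  by_cases hdep : ∃ μ : F, a = μ • a₁
  · obtain ⟨μ, rfl⟩ := hdep
    rw [hφsmul, hl₁, hf.bilinear.smul_right]
    ring
  · push Not at hdep
    have ha0 : a ≠ 0 := by
      intro h0
      exact hdep 0 (by rw [h0, zero_smul])
    have hsum : a + a₁ ≠ 0 := by
      intro h0
      exact hdep (-1) (by rw [neg_one_smul]; exact eq_neg_of_add_eq_zero_left h0)
    obtain ⟨la, hla⟩ := h a ha0
    obtain ⟨lp, hlp⟩ := h (a + a₁) hsum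
    have hvec : (la - lp) • a + (l₁ - lp) • a₁ = 0 := by
      apply eq_zero_of_forall_left hf
      intro y
      have h1 := hlp y
      rw [hφadd, hla, hl₁, hf.bilinear.add_right] at h1
      rw [hf.bilinear.add_right, hf.bilinear.smul_right, hf.bilinear.smul_right]
      linear_combination h1
    have h1 : la - lp = 0 := by
      by_contra hne
      apply hdep (-(l₁ - lp) / (la - lp))
      have : (la - lp) • a = -((l₁ - lp) • a₁) := eq_neg_of_add_eq_zero_left hvec
      have h2 : a = (la - lp)⁻¹ • ((la - lp) • a) := by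
        rw [smul_smul, inv_mul_cancel₀ hne, one_smul]
      rw [h2, this, smul_neg, smul_smul, ← neg_smul]
      congr 1
      field_simp
    rw [h1, zero_smul, zero_add] at hvec
    have h2 : l₁ - lp = 0 := by
      by_contra hne
      exact ha₁ ((smul_eq_zero.mp hvec).resolve_left hne)
    have : la = l₁ := by
      rw [sub_eq_zero] at h1 h2
      rw [h1, h2]
    rw [hla, this]

end Alt

section Main
variable {F : Type*} [Field F] {n : ℕ} {f : (Fin n → F) → (Fin n → F) → F}
  (hf : Cfsg.Geo.IsSymplecticForm f)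
include hf

lemma single_ne_zero' (i : Fin n) : (Pi.single i 1 : Fin n → F) ≠ 0 := by
  intro h
  have := congrFun h i
  simp at this

omit hf in
lemma single_ne_zero (i : Fin n) : (Pi.single i 1 : Fin n → F) ≠ 0 := by
  intro h
  have := congrFun h i
  simp at this

/-- strictness -/
lemma exists_not_sim (hn : 3 ≤ n) :
    ∃ t ∈ Cfsg.Geo.specialLinear (Fin n) F, t ∉ Cfsg.Geo.similarityGroup f := by
  obtain ⟨i0, i1, i2, h01, h02, h12⟩ : ∃ i0 i1 i2 : Fin n, i0 ≠ i1 ∧ i0 ≠ i2 ∧ i1 ≠ i2 :=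
    ⟨⟨0, by omega⟩, ⟨1, by omega⟩, ⟨2, by omega⟩, by simp [Fin.ext_iff], by simp [Fin.ext_iff],
      by simp [Fin.ext_iff]⟩
  obtain ⟨a, haeq⟩ : ∃ a : Fin n → F, a = Pi.single i0 1 := ⟨_, rfl⟩
  have ha : a ≠ 0 := by rw [haeq]; exact single_ne_zero i0
  obtain ⟨b, hab, hbn⟩ : ∃ b, f a b = 0 ∧ b ∉ Submodule.span F {a} := by
    by_cases h1 : f a (Pi.single i1 1) = 0
    · refine ⟨Pi.single i1 1, h1, ?_⟩
      intro hmem
      obtain ⟨μ, hμ⟩ := Submodule.mem_span_singleton.mp hmem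
      have := congrFun hμ i1
      rw [haeq] at this
      simp [Pi.single_apply, h01, Ne.symm h01] at this
    · refine ⟨f a (Pi.single i2 1) • Pi.single i1 1 - f a (Pi.single i1 1) • Pi.single i2 1,
        ?_, ?_⟩
      · rw [f_sub_right hf, hf.bilinear.smul_right, hf.bilinear.smul_right]; ring
      · intro hmem
        obtain ⟨μ, hμ⟩ := Submodule.mem_span_singleton.mp hmem
        have := congrFun hμ i2
        rw [haeq] at this
        simp [Pi.single_apply, h02, Ne.symm h02, h12, Ne.symm h12] at this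
        rw [haeq] at h1
        exact h1 this
  have hb0 : b ≠ 0 := by
    rintro rfl
    exact hbn (Submodule.zero_mem _)
  have hanb : a ∉ Submodule.span F {b} := by
    intro hmem
    obtain ⟨μ, hμ⟩ := Submodule.mem_span_singleton.mp hmem
    have hμ0 : μ ≠ 0 := by
      rintro rfl
      rw [zero_smul] at hμ
      exact ha hμ.symm
    apply hbn
    have : b = μ⁻¹ • a := by rw [← hμ, smul_smul, inv_mul_cancel₀ hμ0, one_smul]
    rw [this]
    exact Submodule.smul_mem _ _ (Submodule.mem_span_singleton_self a)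
  obtain ⟨x, hbx, hax⟩ := exists_sep hf hb0 hanb
  obtain ⟨u, hu⟩ := (hf.nondegenerate b hb0).1
  obtain ⟨t, htSL, htv⟩ := exists_rank_one (fL hf b) a (by rw [fL_apply, hab])
  refine ⟨t, htSL, ?_⟩
  rintro ⟨c, hc⟩
  have hta : (t : Matrix (Fin n) (Fin n) F) *ᵥ a = a := by
    rw [htv, fL_apply, hab, zero_smul, add_zero]
  have hxb : f x b = 0 := by rw [hf.skew, hbx, neg_zero]
  have htx : (t : Matrix (Fin n) (Fin n) F) *ᵥ x = x := by
    rw [htv, fL_apply, hxb, zero_smul, add_zero]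
  have h1 := hc a x
  rw [hta, htx] at h1
  have hc1 : (c : F) = 1 := by
    have : (1 - (c : F)) * f a x = 0 := by linear_combination h1
    rcases mul_eq_zero.mp this with h | h
    · exact (sub_eq_zero.mp h).symm
    · exact absurd h hax
  have h2 := hc u x
  rw [htx, htv, fL_apply, hf.bilinear.add_left, hf.bilinear.smul_left, hc1, one_mul] at h2
  have : f u b * f a x = 0 := by linear_combination h2
  rcases mul_eq_zero.mp this with h | h
  · exact hu h
  · exact hax h

theorem main (hn : 3 ≤ n) :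
    Cfsg.Geo.IsMaximalIn (Cfsg.Geo.specialLinear (Fin n) F)
      (Cfsg.Geo.similarityGroup f ⊓ Cfsg.Geo.specialLinear (Fin n) F) := by
  refine ⟨?_, ?_⟩
  · rw [lt_iff_le_and_ne]
    refine ⟨inf_le_right, fun h => ?_⟩
    obtain ⟨t, htSL, ht⟩ := exists_not_sim hf hn
    rw [← h] at htSL
    exact ht htSL.1
  · intro M hHM hMS
    by_cases hMH : M = Cfsg.Geo.similarityGroup f ⊓ Cfsg.Geo.specialLinear (Fin n) F
    · left; exact hMH
    right
    apply le_antisymm hMS
    obtain ⟨g, hgM, hgH⟩ : ∃ g ∈ M,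
        g ∉ Cfsg.Geo.similarityGroup f ⊓ Cfsg.Geo.specialLinear (Fin n) F := by
      by_contra hcon
      push Not at hcon
      exact hMH (le_antisymm hcon hHM)
    have hgS : g ∉ Cfsg.Geo.similarityGroup f := fun h => hgH ⟨h, hMS hgM⟩
    have hH₀M : isoSL f ≤ M := le_trans isoSL_le hHM
    obtain ⟨a₁, ha₁eq⟩ : ∃ a₁ : Fin n → F, a₁ = Pi.single ⟨0, by omega⟩ 1 := ⟨_, rfl⟩
    have ha₁ : a₁ ≠ 0 := by rw [ha₁eq]; exact single_ne_zero _
    -- a point where the two forms give independent functionals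
    obtain ⟨a₀, ha₀, hind⟩ : ∃ a₀ : Fin n → F, a₀ ≠ 0 ∧ ¬ ∃ l : F, ∀ x,
        f (((g⁻¹ : GL (Fin n) F) : Matrix (Fin n) (Fin n) F) *ᵥ x)
          (((g⁻¹ : GL (Fin n) F) : Matrix (Fin n) (Fin n) F) *ᵥ a₀) = l * f x a₀ := by
      by_contra hcon
      push Not at hcon
      obtain ⟨l, hl⟩ := local_global hf
        (fun x a => f (((g⁻¹ : GL (Fin n) F) : Matrix (Fin n) (Fin n) F) *ᵥ x)
          (((g⁻¹ : GL (Fin n) F) : Matrix (Fin n) (Fin n) F) *ᵥ a))
        (by intro x a b; rw [Matrix.mulVec_add, hf.bilinear.add_right])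
        (by intro x c a; rw [Matrix.mulVec_smul, hf.bilinear.smul_right])
        hcon a₁ ha₁
      have hl0 : l ≠ 0 := by
        rintro rfl
        have h0 : ((g⁻¹ : GL (Fin n) F) : Matrix (Fin n) (Fin n) F) *ᵥ a₁ = 0 := by
          apply eq_zero_of_forall_left hf
          intro y
          have := hl a₁ ((g : Matrix (Fin n) (Fin n) F) *ᵥ y)
          simp only [zero_mul] at this
          rwa [inv_mul_mulVec] at this
        apply ha₁
        have h2 := congrArg (fun v => (g : Matrix (Fin n) (Fin n) F) *ᵥ v) h0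
        simp only [mul_inv_mulVec, Matrix.mulVec_zero] at h2
        exact h2
      apply hgS
      have h1 : g⁻¹ ∈ Cfsg.Geo.similarityGroup f := ⟨Units.mk0 l hl0, fun u v => hl v u⟩
      have h2 := (Cfsg.Geo.similarityGroup f).inv_mem h1
      rwa [inv_inv] at h2
    obtain ⟨s₂, hs₂eq⟩ : ∃ s₂ : (Fin n → F) →ₗ[F] F,
        s₂ = (fL hf (((g⁻¹ : GL (Fin n) F) : Matrix (Fin n) (Fin n) F) *ᵥ a₀)) ∘ₗ
          Matrix.toLin' ((g⁻¹ : GL (Fin n) F) : Matrix (Fin n) (Fin n) F) := ⟨_, rfl⟩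
    have hs₂ : ∀ x, s₂ x = f (((g⁻¹ : GL (Fin n) F) : Matrix (Fin n) (Fin n) F) *ᵥ x)
        (((g⁻¹ : GL (Fin n) F) : Matrix (Fin n) (Fin n) F) *ᵥ a₀) := by
      intro x
      rw [hs₂eq, LinearMap.comp_apply, Matrix.toLin'_apply, fL_apply]
    have h2 : TM M s₂ a₀ := by
      have h := TM_conj hgM (TM_mono hH₀M
        (T_TM hf (((g⁻¹ : GL (Fin n) F) : Matrix (Fin n) (Fin n) F) *ᵥ a₀) 1))
      rw [mul_inv_mulVec] at h
      refine TM_of_eq ?_ h
      intro v
      rw [hs₂, LinearMap.comp_apply, Matrix.toLin'_apply, LinearMap.smul_apply, fL_apply, one_smul]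
    obtain ⟨b₂, hb₂⟩ := exists_repr hf s₂
    have hb₂a : f a₀ b₂ = 0 := by rw [← hb₂]; exact h2.1
    have hb₂n : b₂ ∉ Submodule.span F {a₀} := by
      intro hmem
      obtain ⟨μ, hμ⟩ := Submodule.mem_span_singleton.mp hmem
      apply hind
      refine ⟨μ, fun x => ?_⟩
      rw [← hs₂, hb₂, ← hμ, hf.bilinear.smul_right]
    -- all functionals vanishing at a₀
    have h4 : ∀ s : (Fin n → F) →ₗ[F] F, s a₀ = 0 → TM M s a₀ := by
      intro s hs
      obtain ⟨b, hb⟩ := exists_repr hf s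
      have hab : f a₀ b = 0 := by rw [← hb]; exact hs
      by_cases hbs : b ∈ Submodule.span F {a₀}
      · obtain ⟨μ, hμ⟩ := Submodule.mem_span_singleton.mp hbs
        refine TM_of_eq ?_ (TM_mono hH₀M (T_TM hf a₀ μ))
        intro v
        rw [LinearMap.smul_apply, fL_apply, hb, ← hμ, hf.bilinear.smul_right, smul_eq_mul]
      · obtain ⟨h, hh, hha, hhb⟩ := exists_iso_move_fix hf ha₀ hb₂a hab hb₂n hbs
        have h3 := TM_conj (hH₀M hh) h2
        rw [hha] at h3
        refine TM_of_eq ?_ h3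
        intro v
        rw [LinearMap.comp_apply, Matrix.toLin'_apply, hb₂, hb, ← hhb,
          ← mem_iso.mp hh.1 (((h⁻¹ : GL (Fin n) F) : Matrix (Fin n) (Fin n) F) *ᵥ v) b₂,
          mul_inv_mulVec]
    -- all points
    have h5 : ∀ a : Fin n → F, a ≠ 0 → ∀ s : (Fin n → F) →ₗ[F] F, s a = 0 → TM M s a := by
      intro a ha s hs
      obtain ⟨h, hh, hha⟩ := exists_iso_move hf a₀ a ha₀ ha
      have h3 := TM_conj (hH₀M hh)
        (h4 (s ∘ₗ Matrix.toLin' (h : Matrix (Fin n) (Fin n) F))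
          (by rw [LinearMap.comp_apply, Matrix.toLin'_apply, hha, hs]))
      rw [hha] at h3
      refine TM_of_eq ?_ h3
      intro v
      rw [LinearMap.comp_apply, LinearMap.comp_apply, Matrix.toLin'_apply, Matrix.toLin'_apply,
        mul_inv_mulVec]
    -- generation
    intro x hx
    have hdet : (x : Matrix (Fin n) (Fin n) F).det = 1 := by
      have h1 := congrArg Units.val (MonoidHom.mem_ker.mp hx)
      simpa using h1
    have hnt : Nontrivial (Fin n) := Fin.nontrivial_iff_two_le.mpr (by omega)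
    have key : ∀ A : Matrix.SpecialLinearGroup (Fin n) F,
        ∃ y ∈ M, (y : Matrix (Fin n) (Fin n) F) = (A : Matrix (Fin n) (Fin n) F) := by
      intro A
      refine Cfsg.Agent.Lib.Helper2.sl_transvection_induction
        (fun A => ∃ y ∈ M, (y : Matrix (Fin n) (Fin n) F) = (A : Matrix (Fin n) (Fin n) F)) ?_ ?_ A
      · intro i j hij c
        obtain ⟨-, t, htM, htv⟩ := h5 (Pi.single i 1) (single_ne_zero i)
          (c • LinearMap.proj j)
          (by rw [LinearMap.smul_apply, LinearMap.proj_apply, Pi.single_apply,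
            if_neg (Ne.symm hij), smul_zero])
        refine ⟨t, htM, ?_⟩
        apply mat_eq_of_mulVec
        intro v
        rw [htv]
        change _ = Matrix.transvection i j c *ᵥ v
        rw [transvection_mulVec, LinearMap.smul_apply, LinearMap.proj_apply, smul_eq_mul]
      · rintro A B ⟨y, hy, hyA⟩ ⟨z, hz, hzB⟩
        refine ⟨y * z, M.mul_mem hy hz, ?_⟩
        rw [Units.val_mul, hyA, hzB]
        rfl
    obtain ⟨y, hy, hyx⟩ := key ⟨(x : Matrix (Fin n) (Fin n) F), hdet⟩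
    have : y = x := Units.ext hyx
    rwa [← this]

end Main

end S5642aux

end Aux

/-- For a finite field F and n ≥ 13, let f be a non-degenerate symplectic form on F^n (so n is even). Then the elements of SL_n(F) that are similarities of f (f(gu, gv) = c f(u, v) for a non-zero scalar c depending on g) form a maximal subgroup of SL_n(F). -/
theorem result {F : Type*} [Field F] [Fintype F] (n : ℕ) (hn : 13 ≤ n) (f : (Fin n → F) → (Fin n → F) → F) (hf : Cfsg.Geo.IsSymplecticForm f) : Cfsg.Geo.IsMaximalIn (Cfsg.Geo.specialLinear (Fin n) F) (Cfsg.Geo.similarityGroup f ⊓ Cfsg.Geo.specialLinear (Fin n) F) := by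
  exact S5642aux.main hf (by omega)

end Cfsg.Agent.S5642
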