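import Cfsg.Statements.S5886
-- import your own Cfsg.Agent.* helpers here
import Cfsg.Agent.Lib.Helper24.C3lCore
import Cfsg.Agent.Lib.Helper23.C3lFinal
import Cfsg.Agent.Lib.Helper6.C3l42
import Cfsg.Agent.Lib.Helper28.C3lD2G
import Cfsg.Agent.Lib.Helper9.C3lE

set_option autoImplicit false
open Cfsg

namespace Cfsg.Agent.S5886
open Matrix Module Cfsg.Agent.Lib.Helper24.C3l

/-- Let F be a finite field, n a positive integer and r a prime that divides n with r < n. Let K be a subalgebra of the algebra of n × n matrices over F which is a field of degree r over F (commutative, every non-zero element invertible, of dimension r over F; it contains the scalars). Then the normaliser N of K in GL_n(F) — the invertible F-linear maps that are semilinear over the field K, a group of type ΓL_{n/r}(F_{q^r}) for |F| = q — is a maximal subgroup of GL_n(F), and N ∩ SL_n(F) is a maximal subgroup of SL_n(F). No lower bound on n is assumed. -/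
theorem result {F : Type*} [Field F]
    [Fintype F] (n r : ℕ) (hr : r.Prime) (hrn : r ∣ n) (hlt : r < n) (K : Subalgebra F (Matrix (Fin n) (Fin n) F))
    (hK : Cfsg.Geo.IsFieldSubalgebra r K) :
    IsCoatom (Cfsg.Geo.subalgebraNormalizer K) ∧
      Cfsg.Geo.IsMaximalIn (Cfsg.Geo.specialLinear (Fin n) F)
        (Cfsg.Geo.subalgebraNormalizer K ⊓ Cfsg.Geo.specialLinear (Fin n) F) := by
  classical
  by_cases hq : Fintype.card F = 2 ∧ n = 4
  · -- `GL_4(2)`: helper6's certificate
    obtain ⟨hF, hn⟩ := hq
    subst hn
    have hr2 : r = 2 := by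
      have h4 : r ∣ 2 ^ 2 := by
        have : (2 : ℕ) ^ 2 = 4 := by norm_num
        rw [this]
        exact hrn
      exact (Nat.prime_dvd_prime_iff_eq hr Nat.prime_two).mp (hr.dvd_of_dvd_pow h4)
    subst hr2
    exact Cfsg.Agent.Lib.Helper6.C3lLeaf.gl42 hF K hK
  · -- the general case: L0 + GLUE (helper23) around the core statement
    apply Cfsg.Agent.Lib.Helper23.C3lLeaf.frozen_of_core n r hr hlt K hK
    intro E _ _ S hrE M hM hnot
    have hfd : FiniteDimensional F E := Module.finite_of_finrank_pos (by rw [hrE]; exact hr.pos)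
    have hrE' : (finrank F E).Prime := by rw [hrE]; exact hr
    have hlt' : finrank F E < n := by rw [hrE]; exact hlt
    exact core_of S hrE' (by rw [hrE]; exact hrn) hlt' hq M hM
      (fun h2 v₀ hv₀ g hg hadj hX =>
        Cfsg.Agent.Lib.Helper28.C3lLeaf.hasTv_of_nonLin S hrE' h2 M hM hv₀ hg hadj hX)
      (fun h => Cfsg.Agent.Lib.Helper9.C3lLeaf.specialLinear_le_of_hasTv S hrE'
        (fun v => S.exists_not_mem_line hlt' v) M hM h)
      hnot

end Cfsg.Agent.S5886
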