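import Cfsg.Statements.S0370
-- import your own Cfsg.Agent.* helpers here
import Cfsg.Agent.Lib.Helper3.Golay.Perm

set_option autoImplicit false
open Cfsg

namespace Cfsg.Agent.S0370

open Cfsg.Agent.Lib.Helper3.Golay

def trTbl (i : ℕ) : ℕ := [1, 2, 3, 4, 5, 6, 7, 8, 9, 10, 11, 12, 13, 14, 15, 16, 17, 18, 19, 20, 21, 22, 0, 23].getD i 0

theorem trTbl_ok : ∀ i < 24, idx ((Equiv.optionCongr (Equiv.addRight (1 : ZMod 23))) (pt i)) = trTbl i := by
  decide +kernel

theorem trTbl_code : ∀ j < 12, codeMask (pmAux trTbl 24 (basisMask j) % 4096) = pmAux trTbl 24 (basisMask j) := by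
  decide +kernel

/-- The permutation x ↦ x + 1 of the residues modulo 23, fixing the extra point, lies in the group of the length-24 code. -/
theorem result : Equiv.optionCongr (Equiv.addRight (1 : ZMod 23)) ∈ Cfsg.M24 := by
  exact mem_M24_of_tbl _ trTbl trTbl_ok trTbl_code

end Cfsg.Agent.S0370
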