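import Cfsg.Statements.S0373
-- import your own Cfsg.Agent.* helpers here
import Cfsg.Agent.Lib.Helper3.Golay.Perm

set_option autoImplicit false
open Cfsg

namespace Cfsg.Agent.S0373

open Cfsg.Agent.Lib.Helper3.Golay

def ctTbl (i : ℕ) : ℕ := [0, 18, 6, 3, 2, 21, 1, 5, 16, 12, 7, 19, 8, 9, 17, 15, 13, 11, 4, 22, 10, 20, 14, 23].getD i 0

theorem ctTbl_ok' : ∀ i < 24, idx (Cfsg.cubeTwistFun (pt i)) = ctTbl i := by
  decide +kernel

theorem ctTbl_ok : ∀ i < 24, idx (Cfsg.cubeTwist (pt i)) = ctTbl i := by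
  intro i hi
  rw [← ctTbl_ok' i hi]
  rfl

theorem ctTbl_code : ∀ j < 12, codeMask (pmAux ctTbl 24 (basisMask j) % 4096) = pmAux ctTbl 24 (basisMask j) := by
  decide +kernel

/-- The cube-twist permutation (squares t ↦ t^3/9, non-squares t ↦ 9t^3, extra point fixed) lies in the group of the length-24 code. -/
theorem result : Cfsg.cubeTwist ∈ Cfsg.M24 := by
  exact mem_M24_of_tbl _ ctTbl ctTbl_ok ctTbl_code

end Cfsg.Agent.S0373
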