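import Cfsg.Statements.S0381
-- import your own Cfsg.Agent.* helpers here
import Cfsg.Agent.Lib.Helper3.Golay.M24Trans

set_option autoImplicit false
open Cfsg

namespace Cfsg.Agent.S0381

open Cfsg.Agent.Lib.Helper3.Golay
open scoped Pointwise

theorem base_mem_O0 : ∀ j < 6, β j ∈ bitSet O0 := by
  intro j hj
  rw [mem_bitSet]
  interval_cases j <;> decide +kernel

/-- elements of `M24` fixing the first six base points fix `O0` pointwise and are involutions -/
theorem fix6_props {g : Equiv.Perm GolayPt} (hg : g ∈ M24 ⊓ fixB 6) :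
    (∀ p ∈ bitSet O0, g p = p) ∧ g * g = 1 := by
  have h1 := hU 6 (by norm_num) g hg
  rw [mem_bitSet] at h1
  obtain ⟨σ, hσ, hσf, hσβ, hex⟩ := exists_trans (show 6 < 7 by norm_num) (idx_lt _) h1
  have h2 : σ⁻¹ * g ∈ M24 ⊓ fixB 7 := by
    refine Subgroup.mem_inf.mpr ⟨M24.mul_mem (M24.inv_mem (K3_le hσ)) hg.1, ?_⟩
    rw [mem_fixB]
    intro j hj
    rw [Equiv.Perm.mul_apply]
    rcases Nat.lt_succ_iff_lt_or_eq.mp hj with h | rfl
    · rw [mem_fixB.mp hg.2 j h, Equiv.Perm.inv_eq_iff_eq, mem_fixB.mp hσf j h]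
    · rw [Equiv.Perm.inv_eq_iff_eq, hσβ, Equiv.Perm.smul_def, pt_idx]
  rw [hT, Subgroup.mem_bot] at h2
  have h3 : g = σ := by
    have := congrArg (σ * ·) h2
    simpa using this
  rw [h3]
  exact hex le_rfl

theorem fix_O0_eq : M24 ⊓ fixingSubgroup (Equiv.Perm GolayPt) (bitSet O0 : Set GolayPt) = M24 ⊓ fixB 6 := by
  apply le_antisymm
  · intro g hg
    refine Subgroup.mem_inf.mpr ⟨hg.1, ?_⟩
    rw [mem_fixB]
    intro j hj
    exact (mem_fixingSubgroup_iff _).mp hg.2 _ (base_mem_O0 j hj)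
  · intro g hg
    refine Subgroup.mem_inf.mpr ⟨hg.1, ?_⟩
    rw [mem_fixingSubgroup_iff]
    intro y hy
    exact (fix6_props hg).1 y hy

/-- The pointwise stabiliser of an octad in the group of the length-24 code has order 16 and every element of it squares to the identity. -/
theorem result (o : Finset Cfsg.GolayPt) (ho : o ∈ Cfsg.octads) : Nat.card ↥(Cfsg.M24 ⊓ fixingSubgroup (Equiv.Perm Cfsg.GolayPt) (o : Set Cfsg.GolayPt)) = 16 ∧ ∀ g ∈ Cfsg.M24 ⊓ fixingSubgroup (Equiv.Perm Cfsg.GolayPt) (o : Set Cfsg.GolayPt), g * g = 1 := by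
  obtain ⟨g₀, hg₀, rfl⟩ := exists_map_octad O0_mem ho
  have hconj : ∀ a : Equiv.Perm GolayPt, a ∈ fixingSubgroup (Equiv.Perm GolayPt) (bitSet O0 : Set GolayPt) ↔
      g₀ * a * g₀⁻¹ ∈ fixingSubgroup (Equiv.Perm GolayPt) ((g₀ • bitSet O0 : Finset GolayPt) : Set GolayPt) := by
    intro a
    rw [mem_fixingSubgroup_iff, mem_fixingSubgroup_iff]
    constructor
    · intro h y hy
      rw [Finset.mem_coe, Finset.mem_smul_finset] at hy
      obtain ⟨x, hx, rfl⟩ := hy
      have := h x hx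
      simp only [Equiv.Perm.smul_def] at this ⊢
      simp [this]
    · intro h x hx
      have := h (g₀ • x) (Finset.smul_mem_smul_finset hx)
      simp only [Equiv.Perm.smul_def, Equiv.Perm.mul_apply] at this ⊢
      have h2 : g₀⁻¹ (g₀ x) = x := by simp
      rw [h2] at this
      exact g₀.injective this
  constructor
  · rw [← card_inf_eq_of_conj M24 _ _ g₀ hg₀ hconj, fix_O0_eq, card_M24_inf_fixB (by norm_num)]
    decide
  · intro b hb
    have ha : g₀⁻¹ * b * g₀ ∈ M24 ⊓ fixB 6 := by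
      rw [← fix_O0_eq]
      refine Subgroup.mem_inf.mpr ⟨M24.mul_mem (M24.mul_mem (M24.inv_mem hg₀) hb.1) hg₀, ?_⟩
      rw [hconj]
      have : g₀ * (g₀⁻¹ * b * g₀) * g₀⁻¹ = b := by group
      rw [this]; exact hb.2
    have h2 := (fix6_props ha).2
    have : b * b = g₀ * ((g₀⁻¹ * b * g₀) * (g₀⁻¹ * b * g₀)) * g₀⁻¹ := by group
    rw [this, h2]; group

end Cfsg.Agent.S0381
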