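import Cfsg.Statements.S1554
-- import your own Cfsg.Agent.* helpers here
import Cfsg.Agent.Lib.Helper3.Golay.OctadStab
import Cfsg.Agent.Lib.Helper3.Golay.M24List

set_option autoImplicit false
open scoped Pointwise
open Cfsg

namespace Cfsg.Agent.S1554

open scoped Pointwise
open Cfsg.Agent.Lib.Helper3.Golay

/-- the pointwise stabilizer of an octad is transitive on the complement -/
theorem exists_fix_octad_map {o : Finset GolayPt} (ho : o ∈ octads) {p q : GolayPt}
    (hp : p ∉ o) (hq : q ∉ o) :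
    ∃ f ∈ M24 ⊓ fixingSubgroup (Equiv.Perm GolayPt) (o : Set GolayPt), f p = q := by
  obtain ⟨g₀, hg₀, rfl⟩ := exists_map_octad O0_mem ho
  have key : ∀ y : GolayPt, y ∉ g₀ • bitSet O0 →
      ∃ f ∈ M24 ⊓ fixingSubgroup (Equiv.Perm GolayPt) ((g₀ • bitSet O0 : Finset GolayPt) : Set GolayPt),
        f (g₀ (pt 4)) = y := by
    intro y hy
    have hy' : g₀⁻¹ y ∉ bitSet O0 := by
      intro h
      apply hy
      have : g₀ • (g₀⁻¹ y) ∈ g₀ • bitSet O0 := Finset.smul_mem_smul_finset h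
      simpa using this
    obtain ⟨σ, hσ, hfix, -, hσy⟩ := exists_fix_O0_map hy'
    refine ⟨g₀ * σ * g₀⁻¹, Subgroup.mem_inf.mpr
      ⟨M24.mul_mem (M24.mul_mem hg₀ hσ) (M24.inv_mem hg₀), ?_⟩, ?_⟩
    · rw [mem_fixingSubgroup_iff]
      intro z hz
      rw [Finset.mem_coe, Finset.mem_smul_finset] at hz
      obtain ⟨x, hx, rfl⟩ := hz
      simp only [Equiv.Perm.smul_def, Equiv.Perm.mul_apply]
      have e1 : g₀⁻¹ (g₀ x) = x := by simp
      rw [e1, hfix x hx]
    · simp only [Equiv.Perm.mul_apply]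
      have e1 : g₀⁻¹ (g₀ (pt 4)) = pt 4 := by simp
      rw [e1, hσy]
      simp
  obtain ⟨f₁, hf₁, h1⟩ := key p hp
  obtain ⟨f₂, hf₂, h2⟩ := key q hq
  refine ⟨f₂ * f₁⁻¹, Subgroup.mul_mem _ hf₂ (Subgroup.inv_mem _ hf₁), ?_⟩
  rw [Equiv.Perm.mul_apply, Equiv.Perm.inv_eq_iff_eq.mpr h1.symm, h2]

/-- An octad stabiliser is a split extension: the joint stabiliser of the octad and a point outside it is a complement to the pointwise stabiliser of the octad, and is isomorphic to the alternating group of degree 8. -/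
theorem result (o : Finset Cfsg.GolayPt) (ho : o ∈ Cfsg.octads) (p : Cfsg.GolayPt) (hp : p ∉ o) : (Cfsg.M24 ⊓ fixingSubgroup (Equiv.Perm Cfsg.GolayPt) (o : Set Cfsg.GolayPt)) ⊓ (Cfsg.M24 ⊓ MulAction.stabilizer (Equiv.Perm Cfsg.GolayPt) o ⊓ MulAction.stabilizer (Equiv.Perm Cfsg.GolayPt) p) = ⊥ ∧ (Cfsg.M24 ⊓ fixingSubgroup (Equiv.Perm Cfsg.GolayPt) (o : Set Cfsg.GolayPt)) ⊔ (Cfsg.M24 ⊓ MulAction.stabilizer (Equiv.Perm Cfsg.GolayPt) o ⊓ MulAction.stabilizer (Equiv.Perm Cfsg.GolayPt) p) = (Cfsg.M24 ⊓ MulAction.stabilizer (Equiv.Perm Cfsg.GolayPt) o) ∧ Nonempty (↥(Cfsg.M24 ⊓ MulAction.stabilizer (Equiv.Perm Cfsg.GolayPt) o ⊓ MulAction.stabilizer (Equiv.Perm Cfsg.GolayPt) p) ≃* alternatingGroup (Fin 8)) := by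
  classical
  set F := Cfsg.M24 ⊓ fixingSubgroup (Equiv.Perm Cfsg.GolayPt) (o : Set Cfsg.GolayPt) with hF
  set H := Cfsg.M24 ⊓ MulAction.stabilizer (Equiv.Perm Cfsg.GolayPt) o with hH
  have hFH : F ≤ H := fix_le_stab o
  have hcompl : oᶜ.card = 16 := by
    rw [Finset.card_compl, ho.2, card_pts]
  have hstab : ∀ g ∈ H, g • p ∈ oᶜ := by
    intro g hg
    rw [Finset.mem_compl, Equiv.Perm.smul_def, stab_iff.mp hg.2 p]
    exact hp
  -- the stabilizer of `p` in `F` is trivial
  have hFp : F ⊓ MulAction.stabilizer (Equiv.Perm GolayPt) p = ⊥ := by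
    have h := card_of_orbit_eq F p oᶜ (fun g hg => hstab g (hFH hg))
      (fun q hq => by
        obtain ⟨f, hf, hfp⟩ := exists_fix_octad_map ho hp (Finset.mem_compl.mp hq)
        exact ⟨f, hf, hfp⟩)
    rw [hcompl, (Cfsg.Agent.S0381.result o ho).1] at h
    apply Subgroup.eq_bot_of_card_eq
    omega
  have hKcard : Nat.card ↥(H ⊓ MulAction.stabilizer (Equiv.Perm GolayPt) p) = 20160 := by
    have h := card_of_orbit_eq H p oᶜ hstab
      (fun q hq => by
        obtain ⟨f, hf, hfp⟩ := exists_fix_octad_map ho hp (Finset.mem_compl.mp hq)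
        exact ⟨f, hFH hf, hfp⟩)
    rw [hcompl, card_stab_octad ho] at h
    omega
  have h1 : F ⊓ (H ⊓ MulAction.stabilizer (Equiv.Perm GolayPt) p) = ⊥ := by
    apply le_antisymm _ bot_le
    rw [← hFp]
    exact inf_le_inf_left F inf_le_right
  refine ⟨h1, ?_, ?_⟩
  · apply le_antisymm (sup_le hFH inf_le_left)
    intro g hg
    have hgp : g p ∉ o := Finset.mem_compl.mp (hstab g hg)
    obtain ⟨f, hf, hfp⟩ := exists_fix_octad_map ho hp hgp
    have hK : f⁻¹ * g ∈ H ⊓ MulAction.stabilizer (Equiv.Perm GolayPt) p := by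
      refine Subgroup.mem_inf.mpr ⟨H.mul_mem (H.inv_mem (hFH hf)) hg, ?_⟩
      rw [MulAction.mem_stabilizer_iff, Equiv.Perm.smul_def, Equiv.Perm.mul_apply,
        Equiv.Perm.inv_eq_iff_eq]
      exact hfp.symm
    have : g = f * (f⁻¹ * g) := by group
    rw [this]
    exact Subgroup.mul_mem _ (Subgroup.mem_sup_left hf) (Subgroup.mem_sup_right hK)
  · -- the restriction to the octad is injective on the stabilizer of `p`
    set K := H ⊓ MulAction.stabilizer (Equiv.Perm GolayPt) p with hK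
    have hKH : K ≤ H := inf_le_left
    set ψ : ↥K →* Equiv.Perm ↥o := (restr o).comp (Subgroup.inclusion hKH) with hψ
    have hinj : Function.Injective ψ := by
      rw [injective_iff_map_eq_one]
      intro k hk
      have hker : Subgroup.inclusion hKH k ∈ (restr o).ker := hk
      rw [restr_ker, Subgroup.mem_subgroupOf] at hker
      have : (k : Equiv.Perm GolayPt) ∈ F ⊓ K := Subgroup.mem_inf.mpr ⟨hker, k.2⟩
      rw [h1, Subgroup.mem_bot] at this
      exact Subtype.ext this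
    have hrange : ψ.range = alternatingGroup ↥o := by
      apply Equiv.Perm.eq_alternatingGroup_of_index_eq_two
      have h := Subgroup.card_mul_index ψ.range
      rw [← Nat.card_congr (MonoidHom.ofInjective hinj).toEquiv, hKcard, Nat.card_eq_fintype_card,
        Fintype.card_perm, Fintype.card_coe, ho.2] at h
      have : (8 : ℕ).factorial = 40320 := by decide
      omega
    have hcard8 : Fintype.card ↥o = Fintype.card (Fin 8) := by
      rw [Fintype.card_coe, ho.2, Fintype.card_fin]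
    exact ⟨((MonoidHom.ofInjective hinj).trans (MulEquiv.subgroupCongr hrange)).trans
      (Equiv.altCongrHom (Fintype.equivOfCardEq hcard8))⟩

end Cfsg.Agent.S1554
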