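import Cfsg.Statements.S1562
-- import your own Cfsg.Agent.* helpers here
import Cfsg.Agent.Lib.Helper3.Golay.M24List
import Cfsg.Agent.Lib.Helper3.Golay.Inter

set_option autoImplicit false
open scoped Pointwise
open Cfsg

namespace Cfsg.Agent.S1562

open scoped Pointwise
open Cfsg.Agent.Lib.Helper3.Golay

theorem cnt21 : countBelow 4096 (wiTest 8 3 7) = 21 := by decide +kernel

theorem subset_iff_card_inter {T o : Finset GolayPt} {k : ℕ} (hT : T.card = k) :
    T ⊆ o ↔ (o ∩ T).card = k := by
  constructor
  · intro h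
    rw [Finset.inter_eq_right.mpr h, hT]
  · intro h
    have : o ∩ T = T := Finset.eq_of_subset_of_card_le Finset.inter_subset_right (by omega)
    exact Finset.inter_eq_right.mp this

theorem ncard_octads_triad (T : Finset GolayPt) (hT : T.card = 3) :
    {o : Finset GolayPt | o ∈ octads ∧ T ⊆ o}.ncard = 21 := by
  obtain ⟨g, hg, rfl⟩ := exists_map_finset (bitSet 7) T (by rw [hT, card_bitSet']; rfl)
    (by rw [card_bitSet']; decide)
  have : {o : Finset GolayPt | o ∈ octads ∧ g • bitSet 7 ⊆ o} =
      {b : Finset GolayPt | b ∈ wordsOfWeight (golayCode : Set (GolayPt → ZMod 2)) 8 ∧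
        (b ∩ g • bitSet 7).card = 3} := by
    ext o
    simp only [Set.mem_ofPred_eq]
    rw [subset_iff_card_inter hT]
    rfl
  rw [this, ncard_wi_smul hg, ncard_wi, cnt21]

/-- Orbits of a triad stabiliser on the triads disjoint from it: the 210 triads inside a common octad with it form one orbit and the remaining 1120 another. -/
theorem result (T : Finset Cfsg.GolayPt) (hT : T.card = 3) : {U : Finset Cfsg.GolayPt | U.card = 3 ∧ Disjoint T U ∧ (∃ o ∈ Cfsg.octads, T ∪ U ⊆ o)}.ncard = 210 ∧ {U : Finset Cfsg.GolayPt | U.card = 3 ∧ Disjoint T U ∧ ¬ (∃ o ∈ Cfsg.octads, T ∪ U ⊆ o)}.ncard = 1120 ∧ ∀ U U' : Finset Cfsg.GolayPt, U.card = 3 → U'.card = 3 → Disjoint T U → Disjoint T U' → ((∃ o ∈ Cfsg.octads, T ∪ U ⊆ o) ↔ (∃ o ∈ Cfsg.octads, T ∪ U' ⊆ o)) → ∃ g : Equiv.Perm Cfsg.GolayPt, g ∈ Cfsg.M24 ∧ g • T = T ∧ g • U = U' := by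
  classical
  -- the octads through `T`
  set A : Finset (Finset GolayPt) := Finset.univ.filter (fun o => o ∈ octads ∧ T ⊆ o) with hA
  have hAcard : A.card = 21 := by
    rw [← ncard_octads_triad T hT, ← Set.ncard_coe_finset]
    congr 1
    ext o
    simp [hA]
  have hS1 : {U : Finset Cfsg.GolayPt | U.card = 3 ∧ Disjoint T U ∧ (∃ o ∈ Cfsg.octads, T ∪ U ⊆ o)} =
      ↑(A.biUnion (fun o => Finset.powersetCard 3 (o \ T))) := by
    ext U
    simp only [Set.mem_ofPred_eq, Finset.coe_biUnion, Set.mem_iUnion, Finset.mem_coe,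
      Finset.mem_powersetCard, hA, Finset.mem_filter, Finset.mem_univ, true_and]
    constructor
    · rintro ⟨hU, hd, o, ho, hsub⟩
      refine ⟨o, ⟨ho, Finset.union_subset_left hsub⟩, ?_, hU⟩
      intro p hp
      rw [Finset.mem_sdiff]
      exact ⟨Finset.union_subset_right hsub hp, fun h => (Finset.disjoint_left.mp hd h) hp⟩
    · rintro ⟨o, ⟨ho, hTo⟩, hUo, hU⟩
      refine ⟨hU, ?_, o, ho, Finset.union_subset hTo (fun p hp => (Finset.mem_sdiff.mp (hUo hp)).1)⟩
      rw [Finset.disjoint_left]
      intro p hp hp'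
      exact (Finset.mem_sdiff.mp (hUo hp')).2 hp
  have hcard1 : (A.biUnion (fun o => Finset.powersetCard 3 (o \ T))).card = 210 := by
    rw [Finset.card_biUnion]
    · have : ∀ o ∈ A, (Finset.powersetCard 3 (o \ T)).card = 10 := by
        intro o ho
        rw [hA, Finset.mem_filter] at ho
        rw [Finset.card_powersetCard, Finset.card_sdiff_of_subset ho.2.2, ho.2.1.2, hT]
        rfl
      rw [Finset.sum_congr rfl this, Finset.sum_const, hAcard]
      rfl
    · intro o ho o' ho' hne
      rw [Finset.mem_coe, hA, Finset.mem_filter] at ho ho'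
      show Disjoint _ _
      rw [Finset.disjoint_left]
      intro U hU hU'
      rw [Finset.mem_powersetCard] at hU hU'
      have h6 : (T ∪ U).card = 6 := by
        rw [Finset.card_union_of_disjoint, hT, hU.2]
        rw [Finset.disjoint_left]
        intro p hp hp'
        exact (Finset.mem_sdiff.mp (hU.1 hp')).2 hp
      have hsub : T ∪ U ⊆ o ∩ o' := by
        intro p hp
        rw [Finset.mem_union] at hp
        rw [Finset.mem_inter]
        rcases hp with hp | hp
        · exact ⟨ho.2.2 hp, ho'.2.2 hp⟩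
        · exact ⟨(Finset.mem_sdiff.mp (hU.1 hp)).1, (Finset.mem_sdiff.mp (hU'.1 hp)).1⟩
      have := octad_inter_le ho.2.1 ho'.2.1 hne
      have := Finset.card_le_card hsub
      omega
  have h1 : {U : Finset Cfsg.GolayPt | U.card = 3 ∧ Disjoint T U ∧ (∃ o ∈ Cfsg.octads, T ∪ U ⊆ o)}.ncard = 210 := by
    rw [hS1, Set.ncard_coe_finset, hcard1]
  refine ⟨h1, ?_, ?_⟩
  · -- complement count
    have hall : {U : Finset Cfsg.GolayPt | U.card = 3 ∧ Disjoint T U ∧ (∃ o ∈ Cfsg.octads, T ∪ U ⊆ o)} ∪
        {U : Finset Cfsg.GolayPt | U.card = 3 ∧ Disjoint T U ∧ ¬ (∃ o ∈ Cfsg.octads, T ∪ U ⊆ o)} =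
        ↑(Finset.powersetCard 3 (Finset.univ \ T)) := by
      ext U
      simp only [Set.mem_union, Set.mem_ofPred_eq, Finset.mem_coe, Finset.mem_powersetCard]
      have hd : Disjoint T U ↔ U ⊆ Finset.univ \ T := by
        rw [Finset.subset_sdiff, disjoint_comm]
        simp
      rw [hd]
      by_cases hex : ∃ o ∈ octads, T ∪ U ⊆ o
      · simp only [hex, not_true_eq_false, and_false, or_false, and_true]; tauto
      · simp only [hex, not_false_eq_true, and_false, false_or, and_true]; tauto
    have hdisj : Disjoint {U : Finset Cfsg.GolayPt | U.card = 3 ∧ Disjoint T U ∧ (∃ o ∈ Cfsg.octads, T ∪ U ⊆ o)}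
        {U : Finset Cfsg.GolayPt | U.card = 3 ∧ Disjoint T U ∧ ¬ (∃ o ∈ Cfsg.octads, T ∪ U ⊆ o)} := by
      rw [Set.disjoint_left]
      rintro U ⟨-, -, h⟩ ⟨-, -, h'⟩
      exact h' h
    have := Set.ncard_union_eq hdisj (Set.toFinite _) (Set.toFinite _)
    rw [hall, Set.ncard_coe_finset, Finset.card_powersetCard, Finset.card_sdiff_of_subset (Finset.subset_univ _),
      Finset.card_univ, card_pts, hT, h1] at this
    have e : Nat.choose (24 - 3) 3 = 1330 := by decide
    omega
  · -- transitivity
    intro U U' hU hU' hd hd' hiff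
    -- a general analysis of a triad disjoint from `T`
    have key : ∀ V : Finset GolayPt, V.card = 3 → Disjoint T V →
        ∃ (u1 u2 u3 : GolayPt) (o : Finset GolayPt), V = {u1, u2, u3} ∧ o ∈ octads ∧
          (T.toList ++ [u1, u2] ++ [u3]).Nodup ∧ (∀ p ∈ T.toList ++ [u1, u2], p ∈ o) ∧
          (u3 ∈ o ↔ ∃ o ∈ Cfsg.octads, T ∪ V ⊆ o) := by
      intro V hV hdV
      obtain ⟨u1, u2, u3, h12, h13, h23, rfl⟩ := Finset.card_eq_three.mp hV
      have hu1 : u1 ∉ T := fun h => Finset.disjoint_left.mp hdV h (by simp)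
      have hu2 : u2 ∉ T := fun h => Finset.disjoint_left.mp hdV h (by simp)
      have hu3 : u3 ∉ T := fun h => Finset.disjoint_left.mp hdV h (by simp)
      have hnd : (T.toList ++ [u1, u2] ++ [u3]).Nodup := by
        rw [List.nodup_append, List.nodup_append]
        refine ⟨⟨Finset.nodup_toList _, by simp [h12], ?_⟩, by simp, ?_⟩
        · intro a ha b hb
          rw [Finset.mem_toList] at ha
          simp only [List.mem_cons, List.not_mem_nil, or_false] at hb
          rcases hb with rfl | rfl
          · rintro rfl; exact hu1 ha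
          · rintro rfl; exact hu2 ha
        · intro a ha b hb
          simp only [List.mem_cons, List.not_mem_nil, or_false] at hb
          subst hb
          rw [List.mem_append, Finset.mem_toList] at ha
          simp only [List.mem_cons, List.not_mem_nil, or_false] at ha
          rcases ha with ha | rfl | rfl
          · rintro rfl; exact hu3 ha
          · exact h13
          · exact h23
      have hcard : (T.toList ++ [u1, u2]).toFinset.card = 5 := by
        rw [List.toFinset_card_of_nodup (List.nodup_append.mp hnd).1, List.length_append,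
          Finset.length_toList, hT]
        rfl
      obtain ⟨o, ⟨ho, hsub⟩, huniq⟩ := octads_steiner.2 _ hcard
      refine ⟨u1, u2, u3, o, rfl, ho, hnd, fun p hp => hsub (List.mem_toFinset.mpr hp), ?_⟩
      have hTo : T ⊆ o := fun p hp => hsub (by simp [hp])
      have h1o : u1 ∈ o := hsub (by simp)
      have h2o : u2 ∈ o := hsub (by simp)
      constructor
      · intro h3
        refine ⟨o, ho, ?_⟩
        intro p hp
        simp only [Finset.mem_union, Finset.mem_insert, Finset.mem_singleton] at hp
        rcases hp with hp | rfl | rfl | rfl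
        · exact hTo hp
        · exact h1o
        · exact h2o
        · exact h3
      · rintro ⟨o2, ho2, hsub2⟩
        have : o2 = o := by
          apply huniq
          refine ⟨ho2, ?_⟩
          intro p hp
          rw [List.mem_toFinset, List.mem_append, Finset.mem_toList] at hp
          simp only [List.mem_cons, List.not_mem_nil, or_false] at hp
          apply hsub2
          simp only [Finset.mem_union, Finset.mem_insert, Finset.mem_singleton]
          tauto
        rw [← this]
        apply hsub2
        simp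
    obtain ⟨u1, u2, u3, o, rfl, ho, hnd, hlo, hx⟩ := key U hU hd
    obtain ⟨u1', u2', u3', o', rfl, ho', hnd', hlo', hx'⟩ := key U' hU' hd'
    have hlen : ∀ a b : GolayPt, (T.toList ++ [a, b]).length = 5 := by
      intro a b
      rw [List.length_append, Finset.length_toList, hT]; rfl
    obtain ⟨g, hg, -, hmap, hgx⟩ := exists_map_six ho ho' (T.toList ++ [u1, u2]) (T.toList ++ [u1', u2'])
      u3 u3' hnd hnd' (hlen _ _) (hlen _ _) hlo hlo' (by rw [hx, hx', hiff])
    rw [List.map_append] at hmap
    obtain ⟨hm1, hm2⟩ := List.append_inj hmap (by simp)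
    simp only [List.map_cons, List.map_nil, List.cons.injEq, and_true] at hm2
    refine ⟨g, hg, ?_, ?_⟩
    · rw [← toFinset_map_toList, hm1, Finset.toList_toFinset]
    · ext p
      rw [Finset.mem_smul_finset]
      simp only [Finset.mem_insert, Finset.mem_singleton]
      constructor
      · rintro ⟨q, rfl | rfl | rfl, rfl⟩
        · left; exact hm2.1
        · right; left; exact hm2.2
        · right; right; exact hgx
      · rintro (rfl | rfl | rfl)
        · exact ⟨u1, Or.inl rfl, hm2.1⟩
        · exact ⟨u2, Or.inr (Or.inl rfl), hm2.2⟩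
        · exact ⟨u3, Or.inr (Or.inr rfl), hgx⟩

end Cfsg.Agent.S1562
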