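import Cfsg.Statements.S1638
-- import your own Cfsg.Agent.* helpers here
import Cfsg.Agent.S1562
import Cfsg.Agent.Lib.Helper3.Golay.M24List
import Cfsg.Agent.Lib.Helper3.Golay.Inter

set_option autoImplicit false
open scoped Pointwise
open Cfsg

namespace Cfsg.Agent.S1638

open scoped Pointwise
open Cfsg.Agent.Lib.Helper3.Golay
open Cfsg.Agent.S1562 (subset_iff_card_inter)

theorem cnt5 : countBelow 4096 (wiTest 8 4 15) = 5 := by decide +kernel

theorem ncard_octads_tetrad (T : Finset GolayPt) (hT : T.card = 4) :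
    {o : Finset GolayPt | o ∈ octads ∧ T ⊆ o}.ncard = 5 := by
  obtain ⟨g, hg, rfl⟩ := exists_map_finset (bitSet 15) T (by rw [hT, card_bitSet']; rfl)
    (by rw [card_bitSet']; decide)
  have : {o : Finset GolayPt | o ∈ octads ∧ g • bitSet 15 ⊆ o} =
      {b : Finset GolayPt | b ∈ wordsOfWeight (golayCode : Set (GolayPt → ZMod 2)) 8 ∧
        (b ∩ g • bitSet 15).card = 4} := by
    ext o
    simp only [Set.mem_ofPred_eq]
    rw [subset_iff_card_inter hT]
    rfl
  rw [this, ncard_wi_smul hg, ncard_wi, cnt5]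

theorem smul_pair (g : Equiv.Perm GolayPt) (a b : GolayPt) :
    g • ({a, b} : Finset GolayPt) = {g a, g b} := by
  rw [Finset.smul_finset_insert, Finset.smul_finset_singleton]
  rfl

theorem pair_of_mem {s : Finset GolayPt} (hs : s.card = 2) {a : GolayPt} (ha : a ∈ s) :
    ∃ b, b ≠ a ∧ s = {a, b} := by
  classical
  have h1 : (s.erase a).card = 1 := by rw [Finset.card_erase_of_mem ha, hs]
  obtain ⟨b, hb⟩ := Finset.card_eq_one.mp h1
  have hb' : b ∈ s.erase a := by rw [hb]; simp
  refine ⟨b, (Finset.mem_erase.mp hb').1, ?_⟩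
  rw [← Finset.insert_erase ha, hb]

theorem meet_one {s t : Finset GolayPt} (ht : t.card = 2) (h : (s ∩ t).card = 1) :
    ∃ a u, a ∈ s ∧ u ∉ s ∧ a ≠ u ∧ t = {a, u} := by
  classical
  obtain ⟨a, ha⟩ := Finset.card_eq_one.mp h
  have ha' : a ∈ s ∩ t := by rw [ha]; simp
  rw [Finset.mem_inter] at ha'
  obtain ⟨u, hu, htu⟩ := pair_of_mem ht ha'.2
  refine ⟨a, u, ha'.1, ?_, hu.symm, htu⟩
  intro hus
  have : u ∈ s ∩ t := Finset.mem_inter.mpr ⟨hus, by rw [htu]; simp⟩
  rw [ha, Finset.mem_singleton] at this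
  exact hu this

/-- Fix two points p ≠ q and a pair s of two further points. Among the pairs avoiding p, q and disjoint from s, exactly 30 lie in an octad together with p, q and s and exactly 160 do not; and any two pairs other than s that meet s in equally many points and agree on that octad property are carried to one another by an element of the group of the length-24 code fixing p, q and s. -/
theorem result (p q : Cfsg.GolayPt) (hpq : p ≠ q) (s : Finset Cfsg.GolayPt) (hs : (s.card = 2 ∧ p ∉ s ∧ q ∉ s)) : {t : Finset Cfsg.GolayPt | (t.card = 2 ∧ p ∉ t ∧ q ∉ t) ∧ Disjoint s t ∧ (∃ o ∈ Cfsg.octads, p ∈ o ∧ q ∈ o ∧ s ∪ t ⊆ o)}.ncard = 30 ∧ {t : Finset Cfsg.GolayPt | (t.card = 2 ∧ p ∉ t ∧ q ∉ t) ∧ Disjoint s t ∧ ¬ (∃ o ∈ Cfsg.octads, p ∈ o ∧ q ∈ o ∧ s ∪ t ⊆ o)}.ncard = 160 ∧ ∀ t t' : Finset Cfsg.GolayPt, (t.card = 2 ∧ p ∉ t ∧ q ∉ t) → (t'.card = 2 ∧ p ∉ t' ∧ q ∉ t') → t ≠ s → t' ≠ s → (s ∩ t).card = (s ∩ t').card → ((∃ o ∈ Cfsg.octads, p ∈ o ∧ q ∈ o ∧ s ∪ t ⊆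 o) ↔ (∃ o ∈ Cfsg.octads, p ∈ o ∧ q ∈ o ∧ s ∪ t' ⊆ o)) → ∃ g : Equiv.Perm Cfsg.GolayPt, g ∈ Cfsg.M24 ∧ g p = p ∧ g q = q ∧ g • s = s ∧ g • t = t' := by
  classical
  obtain ⟨hs2, hps, hqs⟩ := hs
  set F : Finset GolayPt := insert p (insert q s) with hF
  have hFcard : F.card = 4 := by
    rw [hF, Finset.card_insert_of_notMem, Finset.card_insert_of_notMem hqs, hs2]
    simp [hpq, hps]
  have hFsub : ∀ o : Finset GolayPt, F ⊆ o ↔ (p ∈ o ∧ q ∈ o ∧ s ⊆ o) := by
    intro o
    rw [hF, Finset.insert_subset_iff, Finset.insert_subset_iff]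
  have hFdisj : ∀ t : Finset GolayPt, Disjoint F t ↔ (p ∉ t ∧ q ∉ t ∧ Disjoint s t) := by
    intro t
    rw [hF, Finset.disjoint_insert_left, Finset.disjoint_insert_left]
  -- the octads through `F`
  set A : Finset (Finset GolayPt) := Finset.univ.filter (fun o => o ∈ octads ∧ F ⊆ o) with hA
  have hAcard : A.card = 5 := by
    rw [← ncard_octads_tetrad F hFcard, ← Set.ncard_coe_finset]
    congr 1
    ext o
    simp [hA]
  have hS1 : {t : Finset Cfsg.GolayPt | (t.card = 2 ∧ p ∉ t ∧ q ∉ t) ∧ Disjoint s t ∧ (∃ o ∈ Cfsg.octads, p ∈ o ∧ q ∈ o ∧ s ∪ t ⊆ o)} =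
      ↑(A.biUnion (fun o => Finset.powersetCard 2 (o \ F))) := by
    ext U
    simp only [Set.mem_ofPred_eq, Finset.coe_biUnion, Set.mem_iUnion, Finset.mem_coe,
      Finset.mem_powersetCard, hA, Finset.mem_filter, Finset.mem_univ, true_and]
    constructor
    · rintro ⟨⟨hU, hpU, hqU⟩, hd, o, ho, hpo, hqo, hsub⟩
      refine ⟨o, ⟨ho, (hFsub o).mpr ⟨hpo, hqo, Finset.union_subset_left hsub⟩⟩, ?_, hU⟩
      intro x hx
      rw [Finset.mem_sdiff]
      refine ⟨Finset.union_subset_right hsub hx, fun h => ?_⟩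
      exact (Finset.disjoint_left.mp ((hFdisj U).mpr ⟨hpU, hqU, hd⟩) h) hx
    · rintro ⟨o, ⟨ho, hFo⟩, hUo, hU⟩
      have hdis : Disjoint F U := by
        rw [Finset.disjoint_left]
        intro x hx hx'
        exact (Finset.mem_sdiff.mp (hUo hx')).2 hx
      obtain ⟨hpU, hqU, hd⟩ := (hFdisj U).mp hdis
      obtain ⟨hpo, hqo, hso⟩ := (hFsub o).mp hFo
      exact ⟨⟨hU, hpU, hqU⟩, hd, o, ho, hpo, hqo,
        Finset.union_subset hso (fun x hx => (Finset.mem_sdiff.mp (hUo hx)).1)⟩
  have hcard1 : (A.biUnion (fun o => Finset.powersetCard 2 (o \ F))).card = 30 := by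
    rw [Finset.card_biUnion]
    · have : ∀ o ∈ A, (Finset.powersetCard 2 (o \ F)).card = 6 := by
        intro o ho
        rw [hA, Finset.mem_filter] at ho
        rw [Finset.card_powersetCard, Finset.card_sdiff_of_subset ho.2.2, ho.2.1.2, hFcard]
        rfl
      rw [Finset.sum_congr rfl this, Finset.sum_const, hAcard]
      rfl
    · intro o ho o' ho' hne
      rw [Finset.mem_coe, hA, Finset.mem_filter] at ho ho'
      show Disjoint _ _
      rw [Finset.disjoint_left]
      intro U hU hU'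
      rw [Finset.mem_powersetCard] at hU hU'
      have h6 : (F ∪ U).card = 6 := by
        rw [Finset.card_union_of_disjoint, hFcard, hU.2]
        rw [Finset.disjoint_left]
        intro x hx hx'
        exact (Finset.mem_sdiff.mp (hU.1 hx')).2 hx
      have hsub : F ∪ U ⊆ o ∩ o' := by
        intro x hx
        rw [Finset.mem_union] at hx
        rw [Finset.mem_inter]
        rcases hx with hx | hx
        · exact ⟨ho.2.2 hx, ho'.2.2 hx⟩
        · exact ⟨(Finset.mem_sdiff.mp (hU.1 hx)).1, (Finset.mem_sdiff.mp (hU'.1 hx)).1⟩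
      have := octad_inter_le ho.2.1 ho'.2.1 hne
      have := Finset.card_le_card hsub
      omega
  have h1 : {t : Finset Cfsg.GolayPt | (t.card = 2 ∧ p ∉ t ∧ q ∉ t) ∧ Disjoint s t ∧ (∃ o ∈ Cfsg.octads, p ∈ o ∧ q ∈ o ∧ s ∪ t ⊆ o)}.ncard = 30 := by
    rw [hS1, Set.ncard_coe_finset, hcard1]
  refine ⟨h1, ?_, ?_⟩
  · -- complement count
    have hall : {t : Finset Cfsg.GolayPt | (t.card = 2 ∧ p ∉ t ∧ q ∉ t) ∧ Disjoint s t ∧ (∃ o ∈ Cfsg.octads, p ∈ o ∧ q ∈ o ∧ s ∪ t ⊆ o)} ∪
        {t : Finset Cfsg.GolayPt | (t.card = 2 ∧ p ∉ t ∧ q ∉ t) ∧ Disjoint s t ∧ ¬ (∃ o ∈ Cfsg.octads, p ∈ o ∧ q ∈ o ∧ s ∪ t ⊆ o)} =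
        ↑(Finset.powersetCard 2 (Finset.univ \ F)) := by
      ext U
      simp only [Set.mem_union, Set.mem_ofPred_eq, Finset.mem_coe, Finset.mem_powersetCard]
      have hd : (p ∉ U ∧ q ∉ U ∧ Disjoint s U) ↔ U ⊆ Finset.univ \ F := by
        rw [← hFdisj, Finset.subset_sdiff, disjoint_comm]
        simp
      rw [← hd]
      by_cases hex : ∃ o ∈ octads, p ∈ o ∧ q ∈ o ∧ s ∪ U ⊆ o
      · simp only [hex, not_true_eq_false, and_false, or_false, and_true]; tauto
      · simp only [hex, not_false_eq_true, and_false, false_or, and_true]; tauto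
    have hdisj : Disjoint {t : Finset Cfsg.GolayPt | (t.card = 2 ∧ p ∉ t ∧ q ∉ t) ∧ Disjoint s t ∧ (∃ o ∈ Cfsg.octads, p ∈ o ∧ q ∈ o ∧ s ∪ t ⊆ o)}
        {t : Finset Cfsg.GolayPt | (t.card = 2 ∧ p ∉ t ∧ q ∉ t) ∧ Disjoint s t ∧ ¬ (∃ o ∈ Cfsg.octads, p ∈ o ∧ q ∈ o ∧ s ∪ t ⊆ o)} := by
      rw [Set.disjoint_left]
      rintro U ⟨-, -, h⟩ ⟨-, -, h'⟩
      exact h' h
    have := Set.ncard_union_eq hdisj (Set.toFinite _) (Set.toFinite _)
    rw [hall, Set.ncard_coe_finset, Finset.card_powersetCard, Finset.card_sdiff_of_subset (Finset.subset_univ _),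
      Finset.card_univ, card_pts, hFcard, h1] at this
    have e : Nat.choose (24 - 4) 2 = 190 := by decide
    omega
  · -- transitivity
    intro t t' ht ht' hts hts' hcard hiff
    have hle : (s ∩ t).card ≤ 1 := by
      by_contra hcon
      apply hts
      have h2 : s ∩ t = s := Finset.eq_of_subset_of_card_le Finset.inter_subset_left (by omega)
      have h3 : s ∩ t = t := Finset.eq_of_subset_of_card_le Finset.inter_subset_right (by omega)
      exact h3.symm.trans h2
    have hcases : (s ∩ t).card = 1 ∨ (s ∩ t).card = 0 := by omega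
    rcases hcases with hc | hc
    · -- the pairs meet `s` in one point
      obtain ⟨a, u, has, hus, hau, rfl⟩ := meet_one ht.1 hc
      obtain ⟨a', u', has', hus', hau', rfl⟩ := meet_one ht'.1 (hcard ▸ hc)
      obtain ⟨b, hba, hsab⟩ := pair_of_mem hs2 has
      obtain ⟨b', hba', hsab'⟩ := pair_of_mem hs2 has'
      have hbs : b ∈ s := by rw [hsab]; simp
      have hbs' : b' ∈ s := by rw [hsab']; simp
      have hpu : p ≠ u := fun h => ht.2.1 (by rw [h]; simp)
      have hqu : q ≠ u := fun h => ht.2.2 (by rw [h]; simp)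
      have hpu' : p ≠ u' := fun h => ht'.2.1 (by rw [h]; simp)
      have hqu' : q ≠ u' := fun h => ht'.2.2 (by rw [h]; simp)
      have hne : ∀ x ∈ s, p ≠ x ∧ q ≠ x := fun x hx =>
        ⟨fun h => hps (h ▸ hx), fun h => hqs (h ▸ hx)⟩
      have hnd : [p, q, a, b, u].Nodup := by
        simp only [List.nodup_cons, List.mem_cons, List.not_mem_nil, or_false, not_or,
          List.nodup_nil, and_true, not_false_eq_true]
        refine ⟨⟨hpq, (hne a has).1, (hne b hbs).1, hpu⟩, ⟨(hne a has).2, (hne b hbs).2, hqu⟩,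
          ⟨hba.symm, hau⟩, ?_⟩
        rintro rfl; exact hus hbs
      have hnd' : [p, q, a', b', u'].Nodup := by
        simp only [List.nodup_cons, List.mem_cons, List.not_mem_nil, or_false, not_or,
          List.nodup_nil, and_true, not_false_eq_true]
        refine ⟨⟨hpq, (hne a' has').1, (hne b' hbs').1, hpu'⟩, ⟨(hne a' has').2, (hne b' hbs').2, hqu'⟩,
          ⟨hba'.symm, hau'⟩, ?_⟩
        rintro rfl; exact hus' hbs'
      obtain ⟨g, hg, hmap⟩ := exists_map_list _ _ hnd hnd' rfl (by simp)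
      simp only [List.map_cons, List.map_nil, List.cons.injEq, and_true] at hmap
      obtain ⟨gp, gq, ga, gb, gu⟩ := hmap
      refine ⟨g, hg, gp, gq, ?_, ?_⟩
      · conv_lhs => rw [hsab]
        rw [smul_pair, ga, gb, ← hsab']
      · rw [smul_pair, ga, gu]
    · -- the pairs are disjoint from `s`
      have hc' : (s ∩ t').card = 0 := hcard ▸ hc
      obtain ⟨s1, s2, hs12, rfl⟩ := Finset.card_eq_two.mp hs2
      have key : ∀ V : Finset GolayPt, (V.card = 2 ∧ p ∉ V ∧ q ∉ V) → (({s1, s2} : Finset GolayPt) ∩ V).card = 0 →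
          ∃ (u1 u2 : GolayPt) (o : Finset GolayPt), V = {u1, u2} ∧ o ∈ octads ∧
            ([p, q, s1, s2, u1] ++ [u2]).Nodup ∧ (∀ x ∈ [p, q, s1, s2, u1], x ∈ o) ∧
            (u2 ∈ o ↔ ∃ o ∈ Cfsg.octads, p ∈ o ∧ q ∈ o ∧ {s1, s2} ∪ V ⊆ o) := by
        intro V hV hdV
        obtain ⟨u1, u2, h12, rfl⟩ := Finset.card_eq_two.mp hV.1
        rw [Finset.card_eq_zero, ← Finset.disjoint_iff_inter_eq_empty] at hdV
        have hpu1 : p ≠ u1 := fun h => hV.2.1 (by rw [h]; simp)
        have hpu2 : p ≠ u2 := fun h => hV.2.1 (by rw [h]; simp)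
        have hqu1 : q ≠ u1 := fun h => hV.2.2 (by rw [h]; simp)
        have hqu2 : q ≠ u2 := fun h => hV.2.2 (by rw [h]; simp)
        have hps1 : p ≠ s1 := fun h => hps (by rw [h]; simp)
        have hps2 : p ≠ s2 := fun h => hps (by rw [h]; simp)
        have hqs1 : q ≠ s1 := fun h => hqs (by rw [h]; simp)
        have hqs2 : q ≠ s2 := fun h => hqs (by rw [h]; simp)
        have hsu : ∀ x ∈ ({s1, s2} : Finset GolayPt), ∀ y ∈ ({u1, u2} : Finset GolayPt), x ≠ y :=
          fun x hx y hy h => Finset.disjoint_left.mp hdV hx (h ▸ hy)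
        have h11 := hsu s1 (by simp) u1 (by simp)
        have h12' := hsu s1 (by simp) u2 (by simp)
        have h21 := hsu s2 (by simp) u1 (by simp)
        have h22 := hsu s2 (by simp) u2 (by simp)
        have hnd : ([p, q, s1, s2, u1] ++ [u2]).Nodup := by
          simp only [List.cons_append, List.nil_append, List.nodup_cons, List.mem_cons,
            List.not_mem_nil, or_false, not_or, List.nodup_nil, and_true, not_false_eq_true]
          exact ⟨⟨hpq, hps1, hps2, hpu1, hpu2⟩, ⟨hqs1, hqs2, hqu1, hqu2⟩, ⟨hs12, h11, h12'⟩,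
            ⟨h21, h22⟩, h12⟩
        have hcard5 : ([p, q, s1, s2, u1] : List GolayPt).toFinset.card = 5 := by
          rw [List.toFinset_card_of_nodup (List.nodup_append.mp hnd).1]
          rfl
        obtain ⟨o, ⟨ho, hsub⟩, huniq⟩ := octads_steiner.2 _ hcard5
        refine ⟨u1, u2, o, rfl, ho, hnd, fun x hx => hsub (List.mem_toFinset.mpr hx), ?_⟩
        have hpo : p ∈ o := hsub (by simp)
        have hqo : q ∈ o := hsub (by simp)
        have h1o : s1 ∈ o := hsub (by simp)
        have h2o : s2 ∈ o := hsub (by simp)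
        have hu1o : u1 ∈ o := hsub (by simp)
        constructor
        · intro h3
          refine ⟨o, ho, hpo, hqo, ?_⟩
          intro x hx
          simp only [Finset.mem_union, Finset.mem_insert, Finset.mem_singleton] at hx
          rcases hx with (rfl | rfl) | rfl | rfl
          · exact h1o
          · exact h2o
          · exact hu1o
          · exact h3
        · rintro ⟨o2, ho2, hpo2, hqo2, hsub2⟩
          have : o2 = o := by
            apply huniq
            refine ⟨ho2, ?_⟩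
            intro x hx
            simp only [List.toFinset_cons, List.toFinset_nil, insert_empty_eq, Finset.mem_insert,
              Finset.mem_singleton] at hx
            rcases hx with rfl | rfl | rfl | rfl | rfl
            · exact hpo2
            · exact hqo2
            · exact hsub2 (by simp)
            · exact hsub2 (by simp)
            · exact hsub2 (by simp)
          rw [← this]
          apply hsub2
          simp
      obtain ⟨u1, u2, o, rfl, ho, hnd, hlo, hx⟩ := key t ht hc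
      obtain ⟨u1', u2', o', rfl, ho', hnd', hlo', hx'⟩ := key t' ht' hc'
      obtain ⟨g, hg, -, hmap, hgx⟩ := exists_map_six ho ho' [p, q, s1, s2, u1] [p, q, s1, s2, u1']
        u2 u2' hnd hnd' rfl rfl hlo hlo' (by rw [hx, hx', hiff])
      simp only [List.map_cons, List.map_nil, List.cons.injEq, and_true] at hmap
      obtain ⟨gp, gq, g1, g2, gu⟩ := hmap
      refine ⟨g, hg, gp, gq, ?_, ?_⟩
      · rw [smul_pair, g1, g2]
      · rw [smul_pair, gu, hgx]

end Cfsg.Agent.S1638
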