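import Cfsg.Statements.S1565
-- import your own Cfsg.Agent.* helpers here
import Cfsg.Agent.Lib.Helper3.Golay.Suborbit
import Cfsg.Agent.Lib.Helper3.Golay.M24List
import Cfsg.Agent.Lib.Helper3.Golay.Maximal
import Cfsg.Agent.S1556

set_option autoImplicit false
open scoped Pointwise
open Cfsg

namespace Cfsg.Agent.S1565

open scoped Pointwise
open Cfsg.Agent.Lib.Helper3.Golay

set_option maxRecDepth 100000 in
theorem cnt65_0 : countBelow 4096 (fun c => Nat.beq (clsG 8 O0 ([] : List ℕ) ([] : List ℕ) c) (1 + 0)) = 30 := by decide +kernel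
set_option maxRecDepth 100000 in
theorem cnt65_2 : countBelow 4096 (fun c => Nat.beq (clsG 8 O0 ([] : List ℕ) ([] : List ℕ) c) (1 + 2)) = 448 := by decide +kernel
set_option maxRecDepth 100000 in
theorem cnt65_4 : countBelow 4096 (fun c => Nat.beq (clsG 8 O0 ([] : List ℕ) ([] : List ℕ) c) (1 + 4)) = 280 := by decide +kernel

/-- the number of octads meeting a given octad in `k` points -/
theorem ncard_octad_inter {o : Finset GolayPt} (ho : o ∈ octads) (k : ℕ) :
    {o' : Finset GolayPt | o' ∈ octads ∧ (o ∩ o').card = k}.ncard =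
      countBelow 4096 (fun c => Nat.beq (clsG 8 O0 ([] : List ℕ) ([] : List ℕ) c) (1 + k)) := by
  obtain ⟨t, ht, rfl⟩ := exists_map_octad O0_mem ho
  rw [← suborbit_count 8 O0 [] [] (by simp) k ht]
  congr 1
  ext o'
  simp only [Set.mem_ofPred_eq, List.not_mem_nil, false_imp_iff, implies_true, true_and]
  rfl

theorem octad_inter_cases {a b : Finset GolayPt} (ha : a ∈ octads) (hb : b ∈ octads) (hne : a ≠ b) :
    (a ∩ b).card = 0 ∨ (a ∩ b).card = 2 ∨ (a ∩ b).card = 4 := by
  have hs := symmDiff_mem_supports ha.1 hb.1
  have hc := card_mem_supports hs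
  have h1 := card_symmDiff_add a b
  rw [ha.2, hb.2] at h1
  have h0 : (symmDiff a b).card ≠ 0 := by
    intro h
    rw [Finset.card_eq_zero] at h
    exact hne (symmDiff_eq_bot.mp h)
  omega

theorem arith65 : ∀ I ⊆ Finset.range (5 + 1), 0 ∈ I → (∀ i ∈ I, [1, 30, 0, 448, 0, 280].getD i 0 ≠ 0) →
    (∑ i ∈ I, [1, 30, 0, 448, 0, 280].getD i 0) ∣ 759 →
    I = {0} ∨ ∀ i ≤ 5, [1, 30, 0, 448, 0, 280].getD i 0 ≠ 0 → i ∈ I := by
  decide

/-- The stabiliser of an octad is a maximal proper subgroup of the group of the length-24 code. -/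
theorem result (o : Finset Cfsg.GolayPt) (ho : o ∈ Cfsg.octads) : IsCoatom (MulAction.stabilizer Cfsg.M24 o) := by
  classical
  have hcardΩ : octads_finite.toFinset.card = 759 := by
    rw [← ncard_octads, Set.ncard_eq_toFinset_card _ octads_finite]
  have hfilter : ∀ k, (octads_finite.toFinset.filter (fun y => (o ∩ y).card = k)).card =
      {o' : Finset GolayPt | o' ∈ octads ∧ (o ∩ o').card = k}.ncard := by
    intro k
    rw [← Set.ncard_coe_finset]
    congr 1
    ext y
    simp
  apply isCoatom_stabilizer_of_suborbits (G := ↥M24) o octads_finite.toFinset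
    (fun y => by
      rw [Set.Finite.mem_toFinset]
      constructor
      · intro hy
        obtain ⟨g, hg, h⟩ := exists_map_octad ho hy
        exact ⟨⟨g, hg⟩, h⟩
      · rintro ⟨g, rfl⟩
        exact smul_mem_octads g.2 ho)
    (fun y => if y = o then 0 else 1 + (o ∩ y).card) 5 (fun i => [1, 30, 0, 448, 0, 280].getD i 0)
  · intro y hy
    by_cases h : y = o
    · simp [h]
    · simp [h]
  · intro y hy
    rw [Set.Finite.mem_toFinset] at hy
    by_cases h : y = o
    · simp [h]
    · simp only [h, if_false]
      rcases octad_inter_cases ho hy (Ne.symm h) with h1 | h1 | h1 <;> omega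
  · intro i hi
    have hsplit : ∀ k, (octads_finite.toFinset.filter
        (fun y => (if y = o then 0 else 1 + (o ∩ y).card) = 1 + k)) =
        octads_finite.toFinset.filter (fun y => y ≠ o ∧ (o ∩ y).card = k) := by
      intro k
      apply Finset.filter_congr
      intro y _
      by_cases h : y = o
      · simp only [h, if_true, ne_eq, not_true_eq_false, false_and, iff_false]; omega
      · simp [h]
    have hpar : ∀ k, k = 1 ∨ k = 3 → (octads_finite.toFinset.filter
        (fun y => (if y = o then 0 else 1 + (o ∩ y).card) = 1 + k)) = ∅ := by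
      intro k hk
      rw [hsplit, Finset.filter_eq_empty_iff]
      intro y hy
      rw [Set.Finite.mem_toFinset] at hy
      rintro ⟨h1, h2⟩
      rcases octad_inter_cases ho hy (Ne.symm h1) with h3 | h3 | h3 <;> omega
    have hgood : ∀ k, k = 0 ∨ k = 2 ∨ k = 4 → (octads_finite.toFinset.filter
        (fun y => (if y = o then 0 else 1 + (o ∩ y).card) = 1 + k)).card =
        {o' : Finset GolayPt | o' ∈ octads ∧ (o ∩ o').card = k}.ncard := by
      intro k hk
      rw [hsplit, ← hfilter]
      congr 1
      apply Finset.filter_congr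
      intro y _
      constructor
      · exact fun h => h.2
      · intro h
        refine ⟨?_, h⟩
        rintro rfl
        rw [Finset.inter_self, ho.2] at h
        omega
    interval_cases i
    · have : (octads_finite.toFinset.filter
          (fun y => (if y = o then 0 else 1 + (o ∩ y).card) = 0)) = {o} := by
        ext y
        rw [Finset.mem_filter, Finset.mem_singleton, Set.Finite.mem_toFinset]
        constructor
        · rintro ⟨-, h⟩
          by_contra hne
          simp [hne] at h
        · rintro rfl
          exact ⟨ho, by simp⟩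
      rw [this]; rfl
    · rw [show (1 : ℕ) = 1 + 0 from rfl, hgood 0 (by simp), ncard_octad_inter ho, cnt65_0]; rfl
    · rw [show (2 : ℕ) = 1 + 1 from rfl, hpar 1 (by simp)]; rfl
    · rw [show (3 : ℕ) = 1 + 2 from rfl, hgood 2 (by simp), ncard_octad_inter ho, cnt65_2]; rfl
    · rw [show (4 : ℕ) = 1 + 3 from rfl, hpar 3 (by simp)]; rfl
    · rw [show (5 : ℕ) = 1 + 4 from rfl, hgood 4 (by simp), ncard_octad_inter ho, cnt65_4]; rfl
  · intro y hy y' hy' hc
    rw [Set.Finite.mem_toFinset] at hy hy'
    by_cases h : y = o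
    · have h' : y' = o := by
        by_contra hne
        simp only [h, hne, if_true, if_false] at hc
        omega
      exact ⟨1, Subgroup.one_mem _, by rw [one_smul, h, h']⟩
    · have h' : y' ≠ o := by
        intro h'
        simp only [h, h', if_true, if_false] at hc
        omega
      simp only [h, h', if_false] at hc
      obtain ⟨g, hg, hgo, hgy⟩ := Cfsg.Agent.S1556.result o y y' ho hy hy' (by omega)
      exact ⟨⟨g, hg⟩, hgo, hgy⟩
  · rw [hcardΩ]; exact arith65
  · rw [hcardΩ]; norm_num

end Cfsg.Agent.S1565
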