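import Cfsg.Statements.S0379
-- import your own Cfsg.Agent.* helpers here
import Cfsg.Agent.Lib.Helper3.Golay.M22Simple

set_option autoImplicit false
open Cfsg

namespace Cfsg.Agent.S0379

open scoped Pointwise
open Cfsg.Agent.Lib.Helper3.Golay

/-- the two point stabilizer in nested and flat form -/
def stabMulEquiv₂ (p q : GolayPt) :
    ↥(MulAction.stabilizer Cfsg.M24 p ⊓ MulAction.stabilizer Cfsg.M24 q) ≃* ↥(G22 p q) :=
  { stabEquiv₂ M24 p q with map_mul' := fun _ _ => rfl }

/-- A two-point stabiliser in the group of the length-24 code is simple. -/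
theorem result (p q : Cfsg.GolayPt) (hpq : p ≠ q) : IsSimpleGroup ↥(MulAction.stabilizer Cfsg.M24 p ⊓ MulAction.stabilizer Cfsg.M24 q) := by
  have := isSimpleGroup_G22 hpq
  exact (stabMulEquiv₂ p q).isSimpleGroup

end Cfsg.Agent.S0379
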