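import Cfsg.Statements.S0377
-- import your own Cfsg.Agent.* helpers here
import Cfsg.Agent.S0379
import Cfsg.Agent.Lib.Helper3.OnePointExt
import Cfsg.Agent.Lib.Helper3.Golay.M24List

set_option autoImplicit false
open Cfsg

namespace Cfsg.Agent.S0377

open scoped Pointwise
open Cfsg.Agent.Lib.Helper3.Golay
open Cfsg.Agent.Lib.Helper3

/-- the points different from `p`, with the action of the stabilizer of `p` -/
def ptsNe (p : GolayPt) : SubMulAction ↥(MulAction.stabilizer M24 p) GolayPt where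
  carrier := {x | x ≠ p}
  smul_mem' := by
    rintro ⟨g, hg⟩ x hx
    intro h
    apply hx
    have hgp : g • p = p := hg
    have : g • x = g • p := h.trans hgp.symm
    exact smul_left_cancel g this

theorem exists_notMem_of_card_le {F : Finset GolayPt} (hF : F.card ≤ 6) : ∃ x, x ∉ F := by
  by_contra hcon
  push Not at hcon
  have : F = Finset.univ := Finset.eq_univ_iff_forall.mpr hcon
  rw [this, Finset.card_univ, card_pts] at hF
  omega

/-- the stabilizer of a second point, in two forms -/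
def stabEquiv377 (p q : GolayPt) (hq : q ≠ p) :
    ↥(MulAction.stabilizer ↥(MulAction.stabilizer M24 p) (⟨q, hq⟩ : ↥(ptsNe p))) ≃*
      ↥(MulAction.stabilizer Cfsg.M24 p ⊓ MulAction.stabilizer Cfsg.M24 q) where
  toFun g := ⟨g.1.1, g.1.2, congrArg Subtype.val g.2⟩
  invFun h := ⟨⟨h.1, h.2.1⟩, Subtype.ext h.2.2⟩
  left_inv _ := rfl
  right_inv _ := rfl
  map_mul' _ _ := rfl

/-- A point stabiliser in the group of the length-24 code is simple. -/
theorem result (p : Cfsg.GolayPt) : IsSimpleGroup (MulAction.stabilizer Cfsg.M24 p) := by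
  classical
  obtain ⟨q, hq⟩ : ∃ q : GolayPt, q ≠ p := by
    obtain ⟨q, hq⟩ := exists_notMem_of_card_le (F := {p}) (by simp)
    exact ⟨q, by simpa using hq⟩
  have hsimple : IsSimpleGroup ↥(MulAction.stabilizer ↥(MulAction.stabilizer M24 p)
      (⟨q, hq⟩ : ↥(ptsNe p))) := by
    have := Cfsg.Agent.S0379.result p q (Ne.symm hq)
    exact (stabEquiv377 p q hq).isSimpleGroup
  -- elements of the stabilizer from permutations
  have mk : ∀ g : Equiv.Perm GolayPt, g ∈ M24 → g p = p →
      ∃ γ : ↥(MulAction.stabilizer M24 p), ∀ x : ↥(ptsNe p), ((γ • x : ↥(ptsNe p)) : GolayPt) = g x.1 := by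
    intro g hg hgp
    exact ⟨⟨⟨g, hg⟩, hgp⟩, fun x => rfl⟩
  apply isSimpleGroup_of_isSimpleGroup_stabilizer (G := ↥(MulAction.stabilizer M24 p))
    (Ω := ↥(ptsNe p)) _ (⟨q, hq⟩ : ↥(ptsNe p)) _ _ _ hsimple
  · -- faithful
    intro g hfix
    apply Subtype.ext
    apply Subtype.ext
    refine Equiv.ext fun x => ?_
    show g.1.1 x = x
    by_cases hx : x = p
    · rw [hx]; exact g.2
    · exact congrArg Subtype.val (hfix ⟨x, hx⟩)
  · -- two-transitive
    rintro ⟨x, hx⟩ ⟨y, hy⟩ ⟨x', hx'⟩ ⟨y', hy'⟩ hxy hxy'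
    have hxy0 : x ≠ y := fun h => hxy (Subtype.ext h)
    have hxy0' : x' ≠ y' := fun h => hxy' (Subtype.ext h)
    obtain ⟨g, hg, hmap⟩ := exists_map_list [p, x, y] [p, x', y']
      (by
        simp only [List.nodup_cons, List.mem_cons, List.not_mem_nil, or_false, not_or,
          List.nodup_nil, and_true, not_false_eq_true]
        exact ⟨⟨Ne.symm hx, Ne.symm hy⟩, hxy0⟩)
      (by
        simp only [List.nodup_cons, List.mem_cons, List.not_mem_nil, or_false, not_or,
          List.nodup_nil, and_true, not_false_eq_true]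
        exact ⟨⟨Ne.symm hx', Ne.symm hy'⟩, hxy0'⟩) rfl (by simp)
    simp only [List.map_cons, List.map_nil, List.cons.injEq, and_true] at hmap
    obtain ⟨γ, hγ⟩ := mk g hg hmap.1
    exact ⟨γ, Subtype.ext ((hγ _).trans hmap.2.1), Subtype.ext ((hγ _).trans hmap.2.2)⟩
  · -- the stabilizer of three points is transitive on the rest
    rintro ⟨r, hr⟩ ⟨t, ht⟩ ⟨s, hs⟩ ⟨s', hs'⟩ hrq htq htr hsq hsr hst hsq' hsr' hst'
    have e : ∀ {a b : GolayPt} {ha : a ≠ p} {hb : b ≠ p},
        (⟨a, ha⟩ : ↥(ptsNe p)) ≠ ⟨b, hb⟩ → a ≠ b := fun h h' => h (Subtype.ext h')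
    obtain ⟨g, hg, hmap⟩ := exists_map_list [p, q, r, t, s] [p, q, r, t, s']
      (by
        simp only [List.nodup_cons, List.mem_cons, List.not_mem_nil, or_false, not_or,
          List.nodup_nil, and_true, not_false_eq_true]
        exact ⟨⟨Ne.symm hq, Ne.symm hr, Ne.symm ht, Ne.symm hs⟩,
          ⟨Ne.symm (e hrq), Ne.symm (e htq), Ne.symm (e hsq)⟩, ⟨Ne.symm (e htr), Ne.symm (e hsr)⟩,
          Ne.symm (e hst)⟩)
      (by
        simp only [List.nodup_cons, List.mem_cons, List.not_mem_nil, or_false, not_or,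
          List.nodup_nil, and_true, not_false_eq_true]
        exact ⟨⟨Ne.symm hq, Ne.symm hr, Ne.symm ht, Ne.symm hs'⟩,
          ⟨Ne.symm (e hrq), Ne.symm (e htq), Ne.symm (e hsq')⟩, ⟨Ne.symm (e htr), Ne.symm (e hsr')⟩,
          Ne.symm (e hst')⟩) rfl (by simp)
    simp only [List.map_cons, List.map_nil, List.cons.injEq, and_true] at hmap
    obtain ⟨γ, hγ⟩ := mk g hg hmap.1
    exact ⟨γ, Subtype.ext ((hγ _).trans hmap.2.1), Subtype.ext ((hγ _).trans hmap.2.2.1),
      Subtype.ext ((hγ _).trans hmap.2.2.2.1), Subtype.ext ((hγ _).trans hmap.2.2.2.2)⟩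
  · -- enough points
    intro F hF
    obtain ⟨x, hx⟩ := exists_notMem_of_card_le (F := insert p (F.image Subtype.val)) (by
      have := Finset.card_image_le (s := F) (f := Subtype.val)
      have := Finset.card_insert_le p (F.image Subtype.val)
      omega)
    rw [Finset.mem_insert, not_or] at hx
    refine ⟨⟨x, hx.1⟩, fun h => hx.2 ?_⟩
    exact Finset.mem_image.mpr ⟨_, h, rfl⟩

end Cfsg.Agent.S0377
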