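import Cfsg.Statements.S0365
-- import your own Cfsg.Agent.* helpers here
import Cfsg.Agent.S0377
import Cfsg.Agent.Lib.Helper3.OnePointExt
import Cfsg.Agent.Lib.Helper3.Golay.M24List

set_option autoImplicit false
open Cfsg

namespace Cfsg.Agent.S0365

open scoped Pointwise
open Cfsg.Agent.Lib.Helper3.Golay
open Cfsg.Agent.Lib.Helper3
open Cfsg.Agent.S0377 (exists_notMem_of_card_le)

/-- The permutation group preserving the length-24 code is simple. -/
theorem result : IsSimpleGroup Cfsg.M24 := by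
  classical
  have hsimple : IsSimpleGroup ↥(MulAction.stabilizer ↥M24 (pt 0)) := Cfsg.Agent.S0377.result (pt 0)
  have mk : ∀ g : Equiv.Perm GolayPt, g ∈ M24 →
      ∃ γ : ↥M24, ∀ x : GolayPt, γ • x = g x := by
    intro g hg
    exact ⟨⟨g, hg⟩, fun x => rfl⟩
  apply isSimpleGroup_of_isSimpleGroup_stabilizer (G := ↥M24) (Ω := GolayPt) _ (pt 0) _ _ _ hsimple
  · -- faithful
    intro g hfix
    apply Subtype.ext
    refine Equiv.ext fun x => ?_
    exact hfix x
  · -- two-transitive
    intro x y x' y' hxy hxy'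
    obtain ⟨g, hg, hmap⟩ := exists_map_list [x, y] [x', y'] (by simpa using hxy) (by simpa using hxy')
      rfl (by simp)
    simp only [List.map_cons, List.map_nil, List.cons.injEq, and_true] at hmap
    obtain ⟨γ, hγ⟩ := mk g hg
    exact ⟨γ, (hγ _).trans hmap.1, (hγ _).trans hmap.2⟩
  · intro r t s s' hrq htq htr hsq hsr hst hsq' hsr' hst'
    obtain ⟨g, hg, hmap⟩ := exists_map_list [pt 0, r, t, s] [pt 0, r, t, s']
      (by
        simp only [List.nodup_cons, List.mem_cons, List.not_mem_nil, or_false, not_or,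
          List.nodup_nil, and_true, not_false_eq_true]
        exact ⟨⟨Ne.symm hrq, Ne.symm htq, Ne.symm hsq⟩, ⟨Ne.symm htr, Ne.symm hsr⟩, Ne.symm hst⟩)
      (by
        simp only [List.nodup_cons, List.mem_cons, List.not_mem_nil, or_false, not_or,
          List.nodup_nil, and_true, not_false_eq_true]
        exact ⟨⟨Ne.symm hrq, Ne.symm htq, Ne.symm hsq'⟩, ⟨Ne.symm htr, Ne.symm hsr'⟩, Ne.symm hst'⟩)
      rfl (by simp)
    simp only [List.map_cons, List.map_nil, List.cons.injEq, and_true] at hmap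
    obtain ⟨γ, hγ⟩ := mk g hg
    exact ⟨γ, (hγ _).trans hmap.1, (hγ _).trans hmap.2.1, (hγ _).trans hmap.2.2.1,
      (hγ _).trans hmap.2.2.2⟩
  · intro F hF
    exact exists_notMem_of_card_le (by omega)

end Cfsg.Agent.S0365
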