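import Cfsg.Statements.S1602
import Cfsg.Agent.Lib.Helper3.Golay.Dodecad3
import Cfsg.Agent.Lib.Helper28.GolayCode
import Cfsg.Agent.Lib.Helper28.M24Basic
import Cfsg.Agent.Lib.Helper28.StabLib

set_option autoImplicit false
open scoped Pointwise
open Cfsg

namespace Cfsg.Agent.S1602
open scoped Pointwise
open Cfsg.Agent.Lib.Helper28.GolayCode
open Cfsg.Agent.Lib.Helper28.StabLib
open Cfsg.Agent.Lib.Helper3.Golay (d0 p0 bitSet mem_bitSet exists_transport_flag
  stab_dodecad_point_map stab_dodecad_unique card_stab_dodecad_point inv_apply_mem)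

theorem bitSet_eq (m : ℕ) : bitSet m = bset m := by
  ext x
  rw [mem_bitSet, mem_bset]
  cases x <;> rfl

theorem p0_eq : p0 = dec 0 := by decide +kernel

def O1 : ℕ := 0x401ed

theorem O1_mem : O1 ∈ octadList := by decide +kernel

theorem uniq_aux : octadList.all (fun m => !(m.testBit 0 && m.testBit 5 && m.testBit 7 &&
    (popc (m &&& d0) == 6)) || (m == O1)) = true := by decide +kernel

theorem O1_props : O1.testBit 0 = true ∧ O1.testBit 5 = true ∧ O1.testBit 7 = true ∧
    popc (O1 &&& d0) = 6 := by decide +kernel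

theorem std_unique {O' : Finset GolayPt} (hO : O' ∈ octads) (h0 : dec 0 ∈ O') (h5 : dec 5 ∈ O')
    (h7 : dec 7 ∈ O') (hc : (O' ∩ bset d0).card = 6) : O' = bset O1 := by
  obtain ⟨m, hm, rfl⟩ := (mem_octads_iff_exists O').mp hO
  rw [mem_bset] at h0 h5 h7
  rw [← bset_and, card_bset] at hc
  have h0' : m.testBit 0 = true := h0
  have h5' : m.testBit 5 = true := h5
  have h7' : m.testBit 7 = true := h7
  have := List.all_eq_true.mp uniq_aux m hm
  simp only [h0', h5', h7', hc, Bool.and_self, beq_self_eq_true, Bool.not_true, Bool.false_or,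
    beq_iff_eq] at this
  rw [this]


theorem Q5_not_mem : dec 5 ∉ bitSet d0 := by rw [mem_bitSet]; decide +kernel
theorem Q7_not_mem : dec 7 ∉ bitSet d0 := by rw [mem_bitSet]; decide +kernel

theorem exists_t {d : Finset GolayPt} (hd : d ∈ dodecads) {p q q' : GolayPt} (hp : p ∈ d)
    (hq : q ∉ d) (hq' : q' ∉ d) (hqq' : q ≠ q') :
    ∃ t ∈ M24, t • bset d0 = d ∧ t (dec 0) = p ∧ t (dec 5) = q ∧ t (dec 7) = q' := by
  obtain ⟨t0, ht0, ht0d, ht0p⟩ := exists_transport_flag hd hp
  have h5 : t0 (dec 5) ∉ d := fun h => Q5_not_mem (by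
    have := (inv_apply_mem ht0d (t0 (dec 5))).mpr h
    simpa using this)
  have h7 : t0 (dec 7) ∉ d := fun h => Q7_not_mem (by
    have := (inv_apply_mem ht0d (t0 (dec 7))).mpr h
    simpa using this)
  have h57 : t0 (dec 5) ≠ t0 (dec 7) := fun h => by
    have := t0.injective h
    revert this; decide +kernel
  obtain ⟨g, hg, hmap⟩ := stab_dodecad_point_map hd hp
    (fun i => if i = 0 then t0 (dec 5) else t0 (dec 7)) (fun i => if i = 0 then q else q') 2
    (by norm_num)
    (by intro i hi; interval_cases i <;> simp [h5, h7])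
    (by intro i hi; interval_cases i <;> simp [hq, hq'])
    (by intro i hi j hj; interval_cases i <;> interval_cases j <;> simp [h57, h57.symm])
    (by intro i hi j hj; interval_cases i <;> interval_cases j <;> simp [hqq', hqq'.symm])
  obtain ⟨⟨hgM, hgd⟩, hgp⟩ := hg
  have hgd' : g • d = d := hgd
  have hgp' : g p = p := hgp
  refine ⟨g * t0, M24.mul_mem hgM ht0, ?_, ?_, ?_, ?_⟩
  · rw [mul_smul, ← bitSet_eq, ht0d, hgd']
  · rw [Equiv.Perm.mul_apply, ← p0_eq, ht0p, hgp']
  · have := hmap 0 (by norm_num)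
    simpa using this
  · have := hmap 1 (by norm_num)
    simpa using this

theorem exists_unique_octad {d : Finset GolayPt} (hd : d ∈ dodecads) {p q q' : GolayPt}
    (hp : p ∈ d) (hq : q ∉ d) (hq' : q' ∉ d) (hqq' : q ≠ q') :
    ∃ O ∈ octads, p ∈ O ∧ q ∈ O ∧ q' ∈ O ∧ (O ∩ d).card = 6 ∧
      ∀ O' ∈ octads, p ∈ O' → q ∈ O' → q' ∈ O' → (O' ∩ d).card = 6 → O' = O := by
  obtain ⟨t, ht, htd, htp, htq, htq'⟩ := exists_t hd hp hq hq' hqq'
  obtain ⟨c0, c5, c7, cc⟩ := O1_props
  have hO1 : bset O1 ∈ octads := (mem_octads_iff_exists _).mpr ⟨O1, O1_mem, rfl⟩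
  have m0 : dec 0 ∈ bset O1 := by rw [mem_bset]; exact c0
  have m5 : dec 5 ∈ bset O1 := by rw [mem_bset]; exact c5
  have m7 : dec 7 ∈ bset O1 := by rw [mem_bset]; exact c7
  refine ⟨t • bset O1, smul_mem_octads ht hO1, ?_, ?_, ?_, ?_, ?_⟩
  · rw [← htp]; exact Finset.smul_mem_smul_finset m0
  · rw [← htq]; exact Finset.smul_mem_smul_finset m5
  · rw [← htq']; exact Finset.smul_mem_smul_finset m7
  · rw [← htd, ← Finset.smul_finset_inter, Finset.card_smul_finset, ← bset_and, card_bset]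
    exact cc
  · intro O' hO' hpO hqO hq'O hcO
    have h1 : t⁻¹ • O' = bset O1 := by
      apply std_unique (smul_mem_octads (M24.inv_mem ht) hO')
      · rw [← htp] at hpO
        have := Finset.smul_mem_smul_finset (a := t⁻¹) hpO
        simpa using this
      · rw [← htq] at hqO
        have := Finset.smul_mem_smul_finset (a := t⁻¹) hqO
        simpa using this
      · rw [← htq'] at hq'O
        have := Finset.smul_mem_smul_finset (a := t⁻¹) hq'O
        simpa using this
      · rw [← htd] at hcO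
        have e : t⁻¹ • O' ∩ bset d0 = t⁻¹ • (O' ∩ t • bset d0) := by
          rw [Finset.smul_finset_inter, inv_smul_smul]
        rw [e, Finset.card_smul_finset]
        exact hcO
    rw [← h1, smul_inv_smul]


/-! ### the group -/

/-- the group of the statement -/
abbrev Hgrp (d : Finset GolayPt) (p q q' : GolayPt) : Subgroup ↥M24 :=
  MulAction.stabilizer M24 d ⊓ MulAction.stabilizer M24 p ⊓
    MulAction.stabilizer M24 ({q, q'} : Finset GolayPt)

theorem mem_H {d : Finset GolayPt} {p q q' : GolayPt} {g : ↥M24} (hg : g ∈ Hgrp d p q q') :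
    (g : Equiv.Perm GolayPt) • d = d ∧ (g : Equiv.Perm GolayPt) p = p ∧
      (g : Equiv.Perm GolayPt) • ({q, q'} : Finset GolayPt) = {q, q'} := by
  obtain ⟨⟨h1, h2⟩, h3⟩ := hg
  exact ⟨h1, h2, h3⟩

theorem mem_iff_of_smul_eq {g : Equiv.Perm GolayPt} {s : Finset GolayPt} (h : g • s = s)
    (x : GolayPt) : g x ∈ s ↔ x ∈ s := by
  conv_lhs => rw [← h]
  exact Finset.smul_mem_smul_finset_iff g

theorem exists_Ω {d : Finset GolayPt} (hd : d ∈ dodecads) {p q q' : GolayPt}
    (hp : p ∈ d) (hq : q ∉ d) (hq' : q' ∉ d) (hqq' : q ≠ q') :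
    ∃ Ω : Finset GolayPt, Ω.card = 5 ∧ Ω ⊆ d ∧
      ∀ g ∈ Hgrp d p q q', ∀ x, (g : Equiv.Perm GolayPt) x ∈ Ω ↔ x ∈ Ω := by
  obtain ⟨O, hO, hpO, hqO, hq'O, hc, huniq⟩ := exists_unique_octad hd hp hq hq' hqq'
  refine ⟨(O ∩ d).erase p, ?_, ?_, ?_⟩
  · rw [Finset.card_erase_of_mem (Finset.mem_inter.mpr ⟨hpO, hp⟩), hc]
  · intro x hx
    exact (Finset.mem_inter.mp (Finset.mem_of_mem_erase hx)).2
  · intro g hg x
    obtain ⟨h1, h2, h3⟩ := mem_H hg
    have hgO : (g : Equiv.Perm GolayPt) • O = O := by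
      have hsub : ({q, q'} : Finset GolayPt) ⊆ (g : Equiv.Perm GolayPt) • O := by
        rw [← h3]
        apply Finset.smul_finset_subset_smul_finset
        intro y hy
        rcases Finset.mem_insert.mp hy with rfl | hy
        · exact hqO
        · rw [Finset.mem_singleton] at hy; rw [hy]; exact hq'O
      apply huniq _ (smul_mem_octads g.2 hO)
      · have := Finset.smul_mem_smul_finset (a := (g : Equiv.Perm GolayPt)) hpO
        rwa [Equiv.Perm.smul_def, h2] at this
      · exact hsub (Finset.mem_insert_self _ _)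
      · exact hsub (Finset.mem_insert_of_mem (Finset.mem_singleton_self _))
      · have e : (g : Equiv.Perm GolayPt) • O ∩ d = (g : Equiv.Perm GolayPt) • (O ∩ d) := by
          rw [Finset.smul_finset_inter, h1]
        rw [e, Finset.card_smul_finset, hc]
    simp only [Finset.mem_erase, Finset.mem_inter]
    rw [mem_iff_of_smul_eq hgO x, mem_iff_of_smul_eq h1 x]
    have : (g : Equiv.Perm GolayPt) x = p ↔ x = p := by
      conv_lhs => rw [← h2]
      exact (g : Equiv.Perm GolayPt).injective.eq_iff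
    rw [Ne, Ne, this]

theorem eq_one_of_fix {d : Finset GolayPt} (hd : d ∈ dodecads) {Ω : Finset GolayPt}
    (hΩ : Ω.card = 5) (hsub : Ω ⊆ d) {h : Equiv.Perm GolayPt}
    (hh : h ∈ M24 ⊓ MulAction.stabilizer (Equiv.Perm GolayPt) d) (hfix : ∀ x ∈ Ω, h x = x) :
    h = 1 := by
  classical
  have hl : Ω.toList.length = 5 := by rw [Finset.length_toList, hΩ]
  have hnd : Ω.toList.Nodup := Finset.nodup_toList Ω
  refine stab_dodecad_unique hd (fun i => Ω.toList.getD i default) ?_ ?_ hh ?_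
  · intro i hi
    apply hsub
    rw [← Finset.mem_toList, List.getD_eq_getElem _ _ (by omega)]
    exact List.getElem_mem _
  · intro i hi j hj hij
    have hij : Ω.toList.getD i default = Ω.toList.getD j default := hij
    rw [List.getD_eq_getElem _ _ (by omega), List.getD_eq_getElem _ _ (by omega)] at hij
    exact (List.Nodup.getElem_inj_iff hnd).mp hij
  · intro i hi
    apply hfix
    rw [← Finset.mem_toList, List.getD_eq_getElem _ _ (by omega)]
    exact List.getElem_mem _

/-- the restriction homomorphism -/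
def ψ (H : Subgroup ↥M24) (Ω : Finset GolayPt)
    (hinv : ∀ g ∈ H, ∀ x, (g : Equiv.Perm GolayPt) x ∈ Ω ↔ x ∈ Ω) : ↥H →* Equiv.Perm ↥Ω where
  toFun g := (g.1.1 : Equiv.Perm GolayPt).subtypePerm (fun x => hinv g.1 g.2 x)
  map_one' := by
    refine Equiv.Perm.ext fun x => Subtype.ext ?_
    simp
  map_mul' a b := by
    refine Equiv.Perm.ext fun x => Subtype.ext ?_
    rfl

theorem ψ_apply (H : Subgroup ↥M24) (Ω : Finset GolayPt)
    (hinv : ∀ g ∈ H, ∀ x, (g : Equiv.Perm GolayPt) x ∈ Ω ↔ x ∈ Ω) (g : ↥H) (x : ↥Ω) :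
    ((ψ H Ω hinv g x : ↥Ω) : GolayPt) = (g.1.1 : Equiv.Perm GolayPt) x.1 := rfl


/-! ### the order -/

abbrev Kgrp (d : Finset GolayPt) (p : GolayPt) : Subgroup ↥M24 :=
  MulAction.stabilizer M24 d ⊓ MulAction.stabilizer M24 p

theorem card_K {d : Finset GolayPt} (hd : d ∈ dodecads) {p : GolayPt} (hp : p ∈ d) :
    Nat.card ↥(Kgrp d p) = 7920 := by
  rw [← card_stab_dodecad_point hd hp]
  apply Nat.card_congr
  exact {
    toFun := fun z => ⟨z.1.1, ⟨⟨z.1.2, z.2.1⟩, z.2.2⟩⟩
    invFun := fun y => ⟨⟨y.1, y.2.1.1⟩, ⟨y.2.1.2, y.2.2⟩⟩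
    left_inv := fun z => rfl
    right_inv := fun y => rfl }

theorem orbit_eq {d : Finset GolayPt} (hd : d ∈ dodecads) {p q q' : GolayPt}
    (hp : p ∈ d) (hq : q ∉ d) (hq' : q' ∉ d) (hqq' : q ≠ q') :
    MulAction.orbit ↥(Kgrp d p) ({q, q'} : Finset GolayPt) =
      ↑((Finset.univ \ d).powersetCard 2) := by
  ext s
  rw [mem_orbit_subgroup_iff, Finset.mem_coe, Finset.mem_powersetCard]
  constructor
  · rintro ⟨g, hg, rfl⟩
    obtain ⟨h1, -⟩ := hg
    have h1' : (g : Equiv.Perm GolayPt) • d = d := h1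
    constructor
    · intro y hy
      have hy' : y ∈ (g : Equiv.Perm GolayPt) • ({q, q'} : Finset GolayPt) := hy
      rw [Finset.mem_sdiff]
      refine ⟨Finset.mem_univ _, ?_⟩
      obtain ⟨z, hz, rfl⟩ := Finset.mem_smul_finset.mp hy'
      rw [Equiv.Perm.smul_def, mem_iff_of_smul_eq h1']
      rcases Finset.mem_insert.mp hz with rfl | hz
      · exact hq
      · rw [Finset.mem_singleton] at hz; rw [hz]; exact hq'
    · show ((g : Equiv.Perm GolayPt) • ({q, q'} : Finset GolayPt)).card = 2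
      rw [Finset.card_smul_finset, Finset.card_pair hqq']
  · rintro ⟨hsub, hcard⟩
    obtain ⟨a, b, hab, rfl⟩ := Finset.card_eq_two.mp hcard
    have ha : a ∉ d := (Finset.mem_sdiff.mp (hsub (Finset.mem_insert_self _ _))).2
    have hb : b ∉ d :=
      (Finset.mem_sdiff.mp (hsub (Finset.mem_insert_of_mem (Finset.mem_singleton_self _)))).2
    obtain ⟨g, hg, hmap⟩ := stab_dodecad_point_map hd hp
      (fun i => if i = 0 then q else q') (fun i => if i = 0 then a else b) 2
      (by norm_num)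
      (by intro i hi; interval_cases i <;> simp [hq, hq'])
      (by intro i hi; interval_cases i <;> simp [ha, hb])
      (by intro i hi j hj; interval_cases i <;> interval_cases j <;> simp [hqq', hqq'.symm])
      (by intro i hi j hj; interval_cases i <;> interval_cases j <;> simp [hab, hab.symm])
    refine ⟨⟨g, hg.1.1⟩, ⟨hg.1.2, hg.2⟩, ?_⟩
    show g • ({q, q'} : Finset GolayPt) = {a, b}
    have e0 : g q = a := by simpa using hmap 0 (by norm_num)
    have e1 : g q' = b := by simpa using hmap 1 (by norm_num)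
    rw [Finset.smul_finset_insert, Finset.smul_finset_singleton, Equiv.Perm.smul_def,
      Equiv.Perm.smul_def, e0, e1]

theorem card_H {d : Finset GolayPt} (hd : d ∈ dodecads) {p q q' : GolayPt}
    (hp : p ∈ d) (hq : q ∉ d) (hq' : q' ∉ d) (hqq' : q ≠ q') :
    Nat.card ↥(Hgrp d p q q') = 120 := by
  have h := card_orbit_mul_card_inf (Kgrp d p) ({q, q'} : Finset GolayPt)
  rw [orbit_eq hd hp hq hq' hqq', card_K hd hp, Nat.card_coe_set_eq, Set.ncard_coe_finset,
    Finset.card_powersetCard, Finset.card_univ_sdiff, hd.2] at h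
  have e : Fintype.card GolayPt = 24 := by decide +kernel
  rw [e] at h
  have e2 : Nat.choose (24 - 12) 2 = 66 := by decide
  rw [e2] at h
  have h' : 66 * Nat.card ↥(Hgrp d p q q') = 7920 := h
  omega


/-- In the 12-point action of the smallest Mathieu group the setwise stabiliser of a pair is isomorphic to the symmetric group of degree 5. -/
theorem result (d : Finset Cfsg.GolayPt) (hd : d ∈ Cfsg.dodecads) (p q q' : Cfsg.GolayPt) (hp : p ∈ d) (hq : q ∉ d) (hq' : q' ∉ d) (hqq' : q ≠ q') : Nonempty (↥(MulAction.stabilizer Cfsg.M24 d ⊓ MulAction.stabilizer Cfsg.M24 p ⊓ MulAction.stabilizer Cfsg.M24 ({q, q'} : Finset Cfsg.GolayPt)) ≃* Equiv.Perm (Fin 5)) := by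
  obtain ⟨Ω, hΩ, hsub, hinv⟩ := exists_Ω hd hp hq hq' hqq'
  have hinj : Function.Injective (ψ (Hgrp d p q q') Ω hinv) := by
    rw [injective_iff_map_eq_one]
    intro g hg
    have h1 : (g.1.1 : Equiv.Perm GolayPt) = 1 := by
      apply eq_one_of_fix hd hΩ hsub
      · obtain ⟨k1, -, -⟩ := mem_H g.2
        exact ⟨g.1.2, k1⟩
      · intro x hx
        have := congrArg (fun e : Equiv.Perm ↥Ω => ((e ⟨x, hx⟩ : ↥Ω) : GolayPt)) hg
        simpa [ψ_apply] using this
    exact Subtype.ext (Subtype.ext h1)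
  have hcard : Nat.card (Equiv.Perm ↥Ω) ≤ Nat.card ↥(Hgrp d p q q') := by
    rw [card_H hd hp hq hq' hqq', Nat.card_eq_fintype_card, Fintype.card_perm, Fintype.card_coe,
      hΩ]
    decide
  have hbij := hinj.bijective_of_nat_card_le hcard
  have e1 : ↥(Hgrp d p q q') ≃* Equiv.Perm ↥Ω := MulEquiv.ofBijective _ hbij
  have e2 : ↥Ω ≃ Fin 5 := Fintype.equivFinOfCardEq (by rw [Fintype.card_coe, hΩ])
  exact ⟨e1.trans e2.permCongrHom⟩

end Cfsg.Agent.S1602
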