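import Cfsg.Statements.S5607
import Cfsg.Agent.Lib.Helper28.M24InvolClasses
import Cfsg.Agent.Lib.Helper28.SextetData
import Cfsg.Agent.Lib.Helper28.M24Count
import Cfsg.Agent.Lib.Helper28.M24Sextet

set_option autoImplicit false
open scoped Pointwise
open Cfsg

namespace Cfsg.Agent.S5607
open Cfsg.Agent.Lib.Helper28.GolayCode Cfsg.Agent.Lib.Helper28.M24Pairs
  Cfsg.Agent.Lib.Helper28.M24OctadFix Cfsg.Agent.Lib.Helper28.M24InvolClasses
  Cfsg.Agent.Lib.Helper28.M24Fam Cfsg.Agent.Lib.Helper28.StabLib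

/-! ### Commuting packed permutations -/

def commP (k r : ℕ) : Bool :=
  (List.range 24).all fun i => Nat.beq (img k (img r i)) (img r (img k i))

theorem comm_of_commP {k r : ℕ} (hk : isPerm k = true) (hr : isPerm r = true)
    (h : commP k r = true) : permOf k * permOf r = permOf r * permOf k := by
  apply Cfsg.Agent.S5601.permOf_mul_comm_of_img hk hr hr
  intro i hi
  unfold commP at h
  have := List.all_eq_true.mp h i (List.mem_range.mpr hi)
  rwa [nat_beq_iff] at this

theorem commP_of_comm {k r : ℕ} (hk : isPerm k = true) (hr : isPerm r = true)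
    (h : permOf k * permOf r = permOf r * permOf k) : commP k r = true := by
  unfold commP
  rw [List.all_eq_true]
  intro i hi
  rw [List.mem_range] at hi
  rw [nat_beq_iff]
  have h1 := congrArg (fun f : Equiv.Perm GolayPt => f (dec i)) h
  simp only [Equiv.Perm.mul_apply] at h1
  have hri := img_lt_of_isPerm r hr i hi
  have hki := img_lt_of_isPerm k hk i hi
  rw [permOf_apply_dec r hr i hi, permOf_apply_dec k hk _ hri, permOf_apply_dec k hk i hi,
    permOf_apply_dec r hr _ hki] at h1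
  have h2 := congrArg enc h1
  rwa [enc_dec _ (img_lt_of_isPerm k hk _ hri), enc_dec _ (img_lt_of_isPerm r hr _ hki)] at h2

/-! ### The standard involution and its centraliser -/

/-- the standard fixed-point-free involution. -/
noncomputable def t0 : Equiv.Perm GolayPt := permOf qf0

theorem qf0_perm : isPerm qf0 = true := isPerm_of_inM24 _ qf0_inM24

theorem t0_mem : t0 ∈ M24 := permOf_mem_M24 _ qf0_inM24

/-- the centraliser of `t0` in `M24`. -/
noncomputable def Cen : Subgroup (Equiv.Perm GolayPt) := M24 ⊓ Subgroup.centralizer {t0}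

theorem mem_Cen (c : Equiv.Perm GolayPt) : c ∈ Cen ↔ c ∈ M24 ∧ c * t0 = t0 * c := by
  unfold Cen
  rw [Subgroup.mem_inf, Subgroup.mem_centralizer_iff]
  constructor
  · rintro ⟨h1, h2⟩
    exact ⟨h1, (h2 t0 rfl).symm⟩
  · rintro ⟨h1, h2⟩
    refine ⟨h1, ?_⟩
    intro h hh
    rw [Set.mem_singleton_iff] at hh
    rw [hh, h2]

theorem Cen_apply {c : Equiv.Perm GolayPt} (hc : c ∈ Cen) (p : GolayPt) : c (t0 p) = t0 (c p) := by
  have := congrArg (fun f : Equiv.Perm GolayPt => f p) ((mem_Cen c).mp hc).2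
  simpa using this

/-- certificate check: the packed permutation is in `M24`, commutes with `qf0`, fixes the listed
points and maps `b` to `i`. -/
noncomputable def certOK5 (fixed : List ℕ) (b i k : ℕ) : Bool :=
  inM24 k && commP k qf0 && (fixed.all fun f => Nat.beq (img k f) f) && Nat.beq (img k b) i

theorem certOK5_spec {fixed : List ℕ} {b i k : ℕ} (hb : b < 24) (hfix : ∀ f ∈ fixed, f < 24)
    (h : certOK5 fixed b i k = true) :
    permOf k ∈ Cen ∧ (∀ f ∈ fixed, permOf k (dec f) = dec f) ∧ permOf k (dec b) = dec i := by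
  unfold certOK5 at h
  simp only [Bool.and_eq_true, nat_beq_iff, List.all_eq_true] at h
  obtain ⟨⟨⟨h1, h2⟩, h3⟩, h4⟩ := h
  have hk := isPerm_of_inM24 _ h1
  refine ⟨(mem_Cen _).mpr ⟨permOf_mem_M24 _ h1, comm_of_commP hk qf0_perm h2⟩, ?_, ?_⟩
  · intro f hf
    rw [permOf_apply_dec k hk f (hfix f hf), h3 f hf]
  · rw [permOf_apply_dec k hk b hb, h4]

/-- all points of the mask are reached by certificates. -/
noncomputable def coverOK (L : List ℕ) (fixed : List ℕ) (b m : ℕ) : Bool :=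
  (List.range 24).all fun i => !(m.testBit i) || L.any fun k => certOK5 fixed b i k

theorem coverOK_spec {L fixed : List ℕ} {b m : ℕ} (hb : b < 24) (hfix : ∀ f ∈ fixed, f < 24)
    (h : coverOK L fixed b m = true) (q : GolayPt) (hq : q ∈ bset m) :
    ∃ c ∈ Cen, (∀ f ∈ fixed, c (dec f) = dec f) ∧ c (dec b) = q := by
  unfold coverOK at h
  rw [mem_bset] at hq
  have := List.all_eq_true.mp h (enc q) (List.mem_range.mpr (enc_lt q))
  rw [hq] at this
  simp only [Bool.not_true, Bool.false_or, List.any_eq_true] at this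
  obtain ⟨k, -, hk⟩ := this
  obtain ⟨h1, h2, h3⟩ := certOK5_spec hb hfix hk
  exact ⟨permOf k, h1, h2, by rw [h3, dec_enc]⟩

def C0 : List ℕ := [0xbdab49ca307b9ac5a928398a418820, 0x1513174caa38d0625deba82cd94181, 0xcd893d0aa80c06bbe51b550e23562, 0x2a2d17102b908ed4821565ccf54e83, 0x448d1759b052cec4de6fa007528824, 0x191917204d806ab78247b5cc954e85, 0x55ec51828e94d31385958096f6a086, 0x4866d589e3a56c5910d05200cbba27, 0x258749c9b02ae2c72840099f7aa4e8, 0x3b8d2b46b753da05b264a404808ca9, 0x3240441e6fbd0b51b62172d8284aca, 0x6c9251d910390cc505f4a8813bba2b, 0x8549173e47458490dd6368265a28cc, 0x5dd41101113120e60e72a15363bead, 0x8c8693d8102de8c9d42613daa5910e, 0xacdcc850e68a4aa1cae1059626a08f, 0x63a757c6d7a48602a4c251da159110, 0x74cb06500a1dc864482b1592d3beb1, 0xb0de651581ac2e2051313cc8e43572, 0xa256519cd56aa4fb09102062c702f3, 0x9811695d4e218b11b1626c0e14d5f4, 0x7b6d49ad2891e24719978284008cb5, 0x945b49b9975c1203a88f4187528456, 0x974986256ba43b188c429303d5f7]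

def C1 : List ℕ := [0xbdab49ca307b9ac5a928398a418820, 0xb9d76925d56c4cf54094430b318440, 0xbd49693dc7446899c1666b02a11460, 0xbbe549d627b38a91a982819a15a080, 0xbd572b3dc76c549330934405408ca0, 0xbb6ac82dc87c424148e54da63a28c0, 0xb9852b2a340b9736c0642b1e8aa4e0, 0xb8cd691622539213b28f9c17569100, 0xbb268241d6a44b21acc1535e2a9d20, 0xbb4f062dc84c4642daa27ca8199940, 0xb8e7061622a39e1ac9493590723560, 0xb88e8206234b8c5535f3aae54b4180, 0xbd8274c9cc144d053c742d51322da0, 0xbb14d5c1d634432112859a1233d5e0, 0xb9026521cb144ed4d06f2ce55b3200, 0xbac2a335c4145283cc752d20f65a40, 0xbb53692dc83c4a41c1e1ab0c255260, 0xb8d87495c18448243ecd9554b34e80, 0xbca6d5d9d0a444c090c3520e54bea0, 0xb86a440a257b8c352d333b61464ac0]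

def C2 : List ℕ := [0xbdab49ca307b9ac5a928398a418820, 0xba57061dcf6c6959d8864486a28820]

def C3 : List ℕ := [0xbdab49ca307b9ac5a928398a418820, 0xbc92655a2c3b9706cea47d0a818820, 0xbb1f3a4232ab916218ed4a8ab18820, 0xbae957b6289ba44b1cd0524ac18820, 0xbc0ea332364b892451ebaccad18820, 0xbb4c93ae2453ac893e8c9d4b018820, 0xba1474922b3398d85676a3cb218820, 0xb926faa22da3a0b6255231cb618820]

theorem C0_ok : coverOK C0 [] 0 0xffffff = true := by decide +kernel
theorem C1_ok : coverOK C1 [0] 1 0x7dbffe = true := by decide +kernel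
theorem C2_ok : coverOK C2 [0, 1] 3 0x28 = true := by decide +kernel
theorem C3_ok : coverOK C3 [0, 1, 3] 4 0x453910 = true := by decide +kernel

/-! ### The invariant sextet -/

def lbS : List ℕ := [0x824001, 0x2e, 0x2910, 0x180440, 0x208280, 0x451000]

theorem lbS_mem : lbS ∈ sextetData := by decide +kernel

theorem lbS_inv : lbS.all (fun m => Nat.beq (applyMask qf0 m) m) = true := by decide +kernel

theorem lbS_unique : (sextetData.all fun l =>
    !(l.all fun m => Nat.beq (applyMask qf0 m) m) || decide (l = lbS)) = true := by decide +kernel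

theorem S0_mem : fam lbS ∈ sextets := sextetFamData.sound lbS lbS_mem

theorem t0_smul_tetrad {T : Finset GolayPt} (hT : T ∈ fam lbS) : t0 • T = T := by
  obtain ⟨m, hm, rfl⟩ := mem_fam.mp hT
  have := List.all_eq_true.mp lbS_inv m hm
  rw [nat_beq_iff] at this
  unfold t0
  rw [permOf_smul_bset qf0 qf0_perm, this]

/-- a sextet whose tetrads are all `t0`-invariant is the standard one. -/
theorem eq_S0_of_inv {S : Finset (Finset GolayPt)} (hS : S ∈ sextets)
    (h : ∀ T ∈ S, t0 • T = T) : S = fam lbS := by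
  obtain ⟨l, hl, rfl⟩ := sextetFamData.complete S hS
  have hu := List.all_eq_true.mp lbS_unique l hl
  have hall : (l.all fun m => Nat.beq (applyMask qf0 m) m) = true := by
    rw [List.all_eq_true]
    intro m hm
    rw [nat_beq_iff]
    have h1 := h (bset m) (mem_fam.mpr ⟨m, hm, rfl⟩)
    unfold t0 at h1
    rw [permOf_smul_bset qf0 qf0_perm] at h1
    exact bset_inj _ _ (applyMask_lt qf0 qf0_perm m)
      (Cfsg.Agent.Lib.Helper28.M24Fam.sextetData_lt l hl m hm) h1
  rw [hall] at hu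
  simp only [Bool.not_true, Bool.false_or, decide_eq_true_eq] at hu
  rw [hu]

/-- the centraliser of `t0` fixes the standard sextet. -/
theorem Cen_smul_S0 {c : Equiv.Perm GolayPt} (hc : c ∈ Cen) : c • fam lbS = fam lbS := by
  obtain ⟨hcM, hct⟩ := (mem_Cen c).mp hc
  apply eq_S0_of_inv (smul_mem_sextets hcM S0_mem)
  intro T' hT'
  obtain ⟨T, hT, rfl⟩ := Finset.mem_smul_finset.mp hT'
  show t0 • c • T = c • T
  rw [← mul_smul, ← hct, mul_smul, t0_smul_tetrad hT]

theorem tetrad_of_0 : lbS.all (fun m => !(m.testBit 0) || Nat.beq m 0x824001) = true := by decide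
theorem tetrad_of_1 : lbS.all (fun m => !(m.testBit 1) || Nat.beq m 0x2e) = true := by decide

theorem tetrad_unique (i t : ℕ) (hi : i < 24)
    (h : lbS.all (fun m => !(m.testBit i) || Nat.beq m t) = true)
    {T : Finset GolayPt} (hT : T ∈ fam lbS) (hp : dec i ∈ T) : T = bset t := by
  obtain ⟨m, hm, rfl⟩ := mem_fam.mp hT
  have := List.all_eq_true.mp h m hm
  rw [mem_bset, enc_dec i hi] at hp
  rw [hp] at this
  simp only [Bool.not_true, Bool.false_or, nat_beq_iff] at this
  rw [this]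

/-- an element of the centraliser fixing `dec i` fixes the tetrad through it. -/
theorem Cen_smul_tetrad (i t : ℕ) (hi : i < 24)
    (h : lbS.all (fun m => !(m.testBit i) || Nat.beq m t) = true) (ht : t ∈ lbS)
    (hti : t.testBit i = true)
    {c : Equiv.Perm GolayPt} (hc : c ∈ Cen) (hfix : c (dec i) = dec i) : c • bset t = bset t := by
  have h1 : c • bset t ∈ fam lbS := by
    rw [← Cen_smul_S0 hc]
    exact Finset.smul_mem_smul_finset (mem_fam.mpr ⟨t, ht, rfl⟩)
  apply tetrad_unique i t hi h h1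
  rw [← hfix]
  apply Finset.smul_mem_smul_finset
  rw [mem_bset, enc_dec i hi]
  exact hti

theorem apply_mem_of_smul_eq {c : Equiv.Perm GolayPt} {T : Finset GolayPt} (h : c • T = T)
    (p : GolayPt) : c p ∈ T ↔ p ∈ T := by
  conv_lhs => rw [← h]
  exact Finset.smul_mem_smul_finset_iff c

/-! ### The stabiliser chain -/

theorem t0_dec (i : ℕ) (hi : i < 24) : t0 (dec i) = dec (img qf0 i) := by
  unfold t0
  exact permOf_apply_dec qf0 qf0_perm i hi

theorem qf0_imgs : img qf0 0 = 23 ∧ img qf0 1 = 2 ∧ img qf0 3 = 5 := by decide +kernel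

theorem dec_inj {i j : ℕ} (hi : i < 24) (hj : j < 24) (h : dec i = dec j) : i = j := by
  have := congrArg enc h
  rwa [enc_dec i hi, enc_dec j hj] at this

/-- an element of the centraliser fixing `dec i` fixes the `t0`-image too. -/
theorem Cen_fix_image {c : Equiv.Perm GolayPt} (hc : c ∈ Cen) {i : ℕ} (hi : i < 24)
    (h : c (dec i) = dec i) : c (dec (img qf0 i)) = dec (img qf0 i) := by
  rw [← t0_dec i hi, Cen_apply hc, h]

noncomputable def H1 : Subgroup (Equiv.Perm GolayPt) :=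
  Cen ⊓ MulAction.stabilizer (Equiv.Perm GolayPt) (dec 0)

noncomputable def H2 : Subgroup (Equiv.Perm GolayPt) :=
  H1 ⊓ MulAction.stabilizer (Equiv.Perm GolayPt) (dec 1)

noncomputable def H3 : Subgroup (Equiv.Perm GolayPt) :=
  H2 ⊓ MulAction.stabilizer (Equiv.Perm GolayPt) (dec 3)

noncomputable def H4 : Subgroup (Equiv.Perm GolayPt) :=
  H3 ⊓ MulAction.stabilizer (Equiv.Perm GolayPt) (dec 4)

theorem mem_H1 (c : Equiv.Perm GolayPt) : c ∈ H1 ↔ c ∈ Cen ∧ c (dec 0) = dec 0 := by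
  unfold H1
  rw [Subgroup.mem_inf, MulAction.mem_stabilizer_iff]
  rfl

theorem mem_H2 (c : Equiv.Perm GolayPt) :
    c ∈ H2 ↔ c ∈ Cen ∧ c (dec 0) = dec 0 ∧ c (dec 1) = dec 1 := by
  unfold H2
  rw [Subgroup.mem_inf, MulAction.mem_stabilizer_iff, mem_H1, and_assoc]
  rfl

theorem mem_H3 (c : Equiv.Perm GolayPt) :
    c ∈ H3 ↔ c ∈ Cen ∧ c (dec 0) = dec 0 ∧ c (dec 1) = dec 1 ∧ c (dec 3) = dec 3 := by
  unfold H3
  rw [Subgroup.mem_inf, MulAction.mem_stabilizer_iff, mem_H2, and_assoc, and_assoc]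
  rfl

theorem compl_T0 : ∀ i < 24, (0x824001 : ℕ).testBit i = false → (0x7dbffe : ℕ).testBit i = true := by
  decide

theorem T1_rest : ∀ i < 24, (0x2e : ℕ).testBit i = true → i ≠ 1 → i ≠ 2 →
    (0x28 : ℕ).testBit i = true := by
  decide

theorem orb0 : MulAction.orbit Cen (dec 0) = ((bset 0xffffff : Finset GolayPt) : Set GolayPt) := by
  ext q
  have hq : q ∈ bset 0xffffff := by
    rw [mem_bset]
    have := enc_lt q
    generalize enc q = i at this
    interval_cases i <;> rfl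
  rw [mem_orbit_subgroup_iff]
  simp only [Finset.mem_coe, hq, iff_true]
  obtain ⟨c, hc, -, h⟩ := coverOK_spec (by norm_num) (by simp) C0_ok q hq
  exact ⟨c, hc, h⟩

theorem orb1 : MulAction.orbit H1 (dec 1) = ((bset 0x7dbffe : Finset GolayPt) : Set GolayPt) := by
  ext q
  rw [mem_orbit_subgroup_iff, Finset.mem_coe]
  constructor
  · rintro ⟨c, hc, rfl⟩
    obtain ⟨hcC, h0⟩ := (mem_H1 c).mp hc
    have hT := Cen_smul_tetrad 0 0x824001 (by norm_num) tetrad_of_0 (by decide) (by decide) hcC h0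
    have h1 : c (dec 1) ∉ bset 0x824001 := by
      rw [apply_mem_of_smul_eq hT, mem_bset, enc_dec 1 (by norm_num)]
      decide
    show c (dec 1) ∈ bset 0x7dbffe
    rw [mem_bset] at h1 ⊢
    exact compl_T0 _ (enc_lt _) (by simpa using h1)
  · intro hq
    obtain ⟨c, hc, hf, h⟩ := coverOK_spec (by norm_num) (by simp) C1_ok q hq
    exact ⟨c, (mem_H1 c).mpr ⟨hc, hf 0 (by simp)⟩, h⟩

theorem orb2 : MulAction.orbit H2 (dec 3) = ((bset 0x28 : Finset GolayPt) : Set GolayPt) := by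
  ext q
  rw [mem_orbit_subgroup_iff, Finset.mem_coe]
  constructor
  · rintro ⟨c, hc, rfl⟩
    obtain ⟨hcC, h0, h1⟩ := (mem_H2 c).mp hc
    have hT := Cen_smul_tetrad 1 0x2e (by norm_num) tetrad_of_1 (by decide) (by decide) hcC h1
    have h3 : c (dec 3) ∈ bset 0x2e := by
      rw [apply_mem_of_smul_eq hT, mem_bset, enc_dec 3 (by norm_num)]
      decide
    have h2 : c (dec 2) = dec 2 := by
      have := Cen_fix_image hcC (by norm_num : 1 < 24) h1
      rwa [qf0_imgs.2.1] at this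
    show c (dec 3) ∈ bset 0x28
    rw [mem_bset] at h3 ⊢
    apply T1_rest _ (enc_lt _) h3
    · intro h
      have : c (dec 3) = c (dec 1) := by rw [h1, ← h, dec_enc]
      exact absurd (dec_inj (by norm_num) (by norm_num) (c.injective this)) (by norm_num)
    · intro h
      have : c (dec 3) = c (dec 2) := by rw [h2, ← h, dec_enc]
      exact absurd (dec_inj (by norm_num) (by norm_num) (c.injective this)) (by norm_num)
  · intro hq
    obtain ⟨c, hc, hf, h⟩ := coverOK_spec (by norm_num) (by simp) C2_ok q hq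
    exact ⟨c, (mem_H2 c).mpr ⟨hc, hf 0 (by simp), hf 1 (by simp)⟩, h⟩

theorem F6_sub : ∀ i < 24, (0x80002f : ℕ).testBit i = true →
    i = 0 ∨ i = 1 ∨ i = 2 ∨ i = 3 ∨ i = 5 ∨ i = 23 := by decide

theorem F6_card : popc (Nat.land O0 0x80002f) = 6 := by decide +kernel

/-- an element of `H3` fixes the base octad pointwise. -/
theorem fix_O0_of_H3 {c : Equiv.Perm GolayPt} (hc : c ∈ H3) : ∀ p ∈ bset O0, c p = p := by
  classical
  obtain ⟨hcC, h0, h1, h3⟩ := (mem_H3 c).mp hc
  have h23 : c (dec 23) = dec 23 := by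
    have := Cen_fix_image hcC (by norm_num : 0 < 24) h0
    rwa [qf0_imgs.1] at this
  have h2 : c (dec 2) = dec 2 := by
    have := Cen_fix_image hcC (by norm_num : 1 < 24) h1
    rwa [qf0_imgs.2.1] at this
  have h5 : c (dec 5) = dec 5 := by
    have := Cen_fix_image hcC (by norm_num : 3 < 24) h3
    rwa [qf0_imgs.2.2] at this
  have hF : ∀ p ∈ bset 0x80002f, c p = p := by
    intro p hp
    rw [mem_bset] at hp
    rcases F6_sub _ (enc_lt p) hp with h | h | h | h | h | h <;>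
      (rw [← dec_enc p, h]; assumption)
  have h6 : 6 ≤ (bset O0 ∩ bset 0x80002f).card := by
    rw [← bset_and, card_bset]
    exact le_of_eq F6_card.symm
  obtain ⟨h, hh, hho, q, hq, hconj⟩ :=
    exists_conj_Plist ((mem_Cen c).mp hcC).1 O0_mem (bset 0x80002f) hF h6
  intro p hp
  have hhp : h p ∈ bset O0 := by
    rw [← hho]
    exact Finset.smul_mem_smul_finset hp
  have := Plist_fix hq (h p) hhp
  rw [← hconj] at this
  simp only [Equiv.Perm.mul_apply, EmbeddingLike.apply_eq_iff_eq] at this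
  have e : h⁻¹ (h p) = p := by simp
  rwa [e] at this

theorem Plist_comm : Plist.all (fun q => !(commP q qf0) || (0x453910 : ℕ).testBit (img q 4)) = true := by
  decide +kernel

theorem orb3 : MulAction.orbit H3 (dec 4) = ((bset 0x453910 : Finset GolayPt) : Set GolayPt) := by
  ext q
  rw [mem_orbit_subgroup_iff, Finset.mem_coe]
  constructor
  · rintro ⟨c, hc, rfl⟩
    obtain ⟨hcC, -⟩ := (mem_H3 c).mp hc
    obtain ⟨hcM, hct⟩ := (mem_Cen c).mp hcC
    obtain ⟨r, hr, rfl⟩ := mem_Plist_of_fix hcM (fix_O0_of_H3 hc)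
    have hrP := isPerm_of_inM24 _ (Plist_inM24 hr)
    have hcomm := commP_of_comm hrP qf0_perm hct
    have := List.all_eq_true.mp Plist_comm r hr
    rw [hcomm] at this
    simp only [Bool.not_true, Bool.false_or] at this
    show permOf r (dec 4) ∈ bset 0x453910
    rw [permOf_apply_dec r hrP 4 (by norm_num), mem_bset,
      enc_dec _ (img_lt_of_isPerm r hrP 4 (by norm_num))]
    exact this
  · intro hq
    obtain ⟨c, hc, hf, h⟩ := coverOK_spec (by norm_num) (by simp) C3_ok q hq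
    exact ⟨c, (mem_H3 c).mpr ⟨hc, hf 0 (by simp), hf 1 (by simp), hf 3 (by simp)⟩, h⟩

theorem H4_eq_bot : H4 = ⊥ := by
  rw [Subgroup.eq_bot_iff_forall]
  intro c hc
  unfold H4 at hc
  rw [Subgroup.mem_inf, MulAction.mem_stabilizer_iff] at hc
  obtain ⟨hc3, hc4⟩ := hc
  obtain ⟨hcC, -⟩ := (mem_H3 c).mp hc3
  exact eq_one_of_fix_O0_x0 ((mem_Cen c).mp hcC).1 (fix_O0_of_H3 hc3) hc4

theorem card_orbit_bset {H : Subgroup (Equiv.Perm GolayPt)} {x : GolayPt} {m : ℕ}
    (h : MulAction.orbit H x = ((bset m : Finset GolayPt) : Set GolayPt)) :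
    Nat.card (MulAction.orbit H x) = popc m := by
  rw [h, Nat.card_coe_set_eq, Set.ncard_coe_finset, card_bset]

theorem pops : popc 0xffffff = 24 ∧ popc 0x7dbffe = 20 ∧ popc 0x28 = 2 ∧ popc 0x453910 = 8 := by
  decide +kernel

theorem card_Cen : Nat.card Cen = 7680 := by
  have e0 := card_orbit_mul_card_inf Cen (dec 0)
  have e1 := card_orbit_mul_card_inf H1 (dec 1)
  have e2 := card_orbit_mul_card_inf H2 (dec 3)
  have e3 := card_orbit_mul_card_inf H3 (dec 4)
  rw [card_orbit_bset orb0, pops.1] at e0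
  rw [card_orbit_bset orb1, pops.2.1] at e1
  rw [card_orbit_bset orb2, pops.2.2.1] at e2
  rw [card_orbit_bset orb3, pops.2.2.2] at e3
  have e4 : Nat.card ↥(H3 ⊓ MulAction.stabilizer (Equiv.Perm GolayPt) (dec 4)) = 1 := by
    have := H4_eq_bot
    unfold H4 at this
    rw [this]
    exact Subgroup.card_bot
  rw [e4] at e3
  change 2 * Nat.card ↥H3 = Nat.card ↥H2 at e2
  change 20 * Nat.card ↥H2 = Nat.card ↥H1 at e1
  change 24 * Nat.card ↥H1 = Nat.card ↥Cen at e0
  omega

/-! ### Transitivity and transport -/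

theorem Cen_trans (p q : GolayPt) : ∃ c ∈ Cen, c p = q := by
  have hp : p ∈ MulAction.orbit Cen (dec 0) := by
    rw [orb0, Finset.mem_coe, mem_bset]
    have := enc_lt p
    generalize enc p = i at this
    interval_cases i <;> rfl
  have hq : q ∈ MulAction.orbit Cen (dec 0) := by
    rw [orb0, Finset.mem_coe, mem_bset]
    have := enc_lt q
    generalize enc q = i at this
    interval_cases i <;> rfl
  rw [mem_orbit_subgroup_iff] at hp hq
  obtain ⟨c1, hc1, h1⟩ := hp
  obtain ⟨c2, hc2, h2⟩ := hq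
  refine ⟨c2 * c1⁻¹, Cen.mul_mem hc2 (Cen.inv_mem hc1), ?_⟩
  rw [Equiv.Perm.mul_apply, ← h1]
  simpa using h2

theorem conj_iff {k c t : Equiv.Perm GolayPt} (hk : k ∈ M24) :
    (c ∈ M24 ∧ c * t = t * c) ↔
      (k * c * k⁻¹ ∈ M24 ∧ (k * c * k⁻¹) * (k * t * k⁻¹) = (k * t * k⁻¹) * (k * c * k⁻¹)) := by
  have e1 : (k * c * k⁻¹) * (k * t * k⁻¹) = k * (c * t) * k⁻¹ := by group
  have e2 : (k * t * k⁻¹) * (k * c * k⁻¹) = k * (t * c) * k⁻¹ := by group
  rw [e1, e2]
  constructor
  · rintro ⟨h1, h2⟩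
    exact ⟨M24.mul_mem (M24.mul_mem hk h1) (M24.inv_mem hk), by rw [h2]⟩
  · rintro ⟨h1, h2⟩
    constructor
    · have := M24.mul_mem (M24.mul_mem (M24.inv_mem hk) h1) hk
      have e : k⁻¹ * (k * c * k⁻¹) * k = c := by group
      rwa [e] at this
    · exact mul_left_cancel (mul_right_cancel h2)

theorem result (t : Equiv.Perm Cfsg.GolayPt) (ht : t ∈ Cfsg.M24) (h₂ : orderOf t = 2) (h₀ : ∀ p, t p ≠ p) : Nat.card {c : Equiv.Perm Cfsg.GolayPt // c ∈ Cfsg.M24 ∧ c * t = t * c} = 7680 ∧ (∀ p q : Cfsg.GolayPt, ∃ c ∈ Cfsg.M24, c * t = t * c ∧ c p = q) ∧ ∃ S ∈ Cfsg.sextets, t • S = S ∧ ∀ c ∈ Cfsg.M24, c * t = t * c → c • S = S := by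
  have ht2 : t ^ 2 = 1 := by
    rw [← h₂]
    exact pow_orderOf_eq_one t
  obtain ⟨k, hk, hkt⟩ := fpf_invol_conj_rep ht ht2 h₀
  change k * t * k⁻¹ = t0 at hkt
  have hiff : ∀ c : Equiv.Perm GolayPt, (c ∈ M24 ∧ c * t = t * c) ↔ k * c * k⁻¹ ∈ Cen := by
    intro c
    rw [mem_Cen, ← hkt]
    exact conj_iff hk
  refine ⟨?_, ?_, ?_⟩
  · rw [← card_Cen]
    apply Nat.card_congr
    exact Equiv.subtypeEquiv (MulAut.conj k).toEquiv (fun c => hiff c)
  · intro p q
    obtain ⟨c0, hc0, hpq⟩ := Cen_trans (k p) (k q)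
    have e : k * (k⁻¹ * c0 * k) * k⁻¹ = c0 := by group
    have hmem := (hiff (k⁻¹ * c0 * k)).mpr (by rw [e]; exact hc0)
    refine ⟨k⁻¹ * c0 * k, hmem.1, hmem.2, ?_⟩
    simp only [Equiv.Perm.mul_apply, hpq]
    simp
  · refine ⟨k⁻¹ • fam lbS, smul_mem_sextets (M24.inv_mem hk) S0_mem, ?_, ?_⟩
    · have htC : k * t * k⁻¹ ∈ Cen := (hiff t).mp ⟨ht, rfl⟩
      have e : t = k⁻¹ * (k * t * k⁻¹) * k := by group
      rw [e, mul_smul, mul_smul, smul_inv_smul, Cen_smul_S0 htC]
    · intro c hc hct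
      have hcC := (hiff c).mp ⟨hc, hct⟩
      have e : c = k⁻¹ * (k * c * k⁻¹) * k := by group
      rw [e, mul_smul, mul_smul, smul_inv_smul, Cen_smul_S0 hcC]

end Cfsg.Agent.S5607
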