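import Cfsg.Statements.S1603
import Cfsg.Agent.S1602
import Cfsg.Agent.S5607
import Cfsg.Agent.Lib.Helper28.M24OctadFix
import Cfsg.Agent.Lib.Helper3.Golay.Dodecad3

set_option autoImplicit false
open scoped Pointwise
open Cfsg

namespace Cfsg.Agent.S1603
open scoped Pointwise
open Cfsg.Agent.Lib.Helper28.GolayCode
open Cfsg.Agent.Lib.Helper28.M24OctadFix (idP permOf_idP)
open Cfsg.Agent.S5607 (commP comm_of_commP)
open Cfsg.Agent.S1602 (bitSet_eq p0_eq eq_one_of_fix mem_iff_of_smul_eq)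
open Cfsg.Agent.Lib.Helper3.Golay (d0 p0 bitSet mem_bitSet d0_mem exists_transport
  stab_dodecad_map inv_apply_mem)

/-! ### data -/

/-- the standard involution of `M11`, packed -/
def X0 : ℕ := 0x2aab13ca827b9ac5d8269a2e324120

/-- its centraliser in `M11`, packed -/
def L48 : List ℕ := [
  0x29eb6a314872e4d7ce018a6e321840,
  0x2aab13ca827b9ac5d8269a2e324120,
  0x2c6aa9cac27ad8d750c13a6e41c100,
  0x2ceb4b36295ba4c79e06522e418440,
  0x2d2b3534e95bd92744d0b0ae320500,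
  0x2daa78b26873db25a830a0ae419920,
  0x395f68b54872e4cadc89a066281860,
  0x3a9f42ca23ab98d5d926ba26281020,
  0x3c5f7530a15d5b2750c4b0e6282500,
  0x3d1eabcac3aadac744c92867011100,
  0x3d9e5a36e8755925a92488e7011820,
  0x3ddf1b32815ba4da94865227012460,
  0x515719b2827b9b2adc8839ac90c060,
  0x51d74bb623ab9927ce0829ac149040,
  0x545653b2e27d64d7510498ec14c0c0,
  0x54d77a48a67558d79e0488ec90a040,
  0x551672b663abe4c74510b8ac9090c0,
  0x55d738c8e673daca9490a0ac14a060,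
  0x895ca3b6c27ad92adc699868834080,
  0x89dd7b48a15d5ac7ce035128832440,
  0x8a9c59b6e27d64c5d9233928644020,
  0x8cdd6bb144aadb279e092868640c40,
  0x8d9d32b0e4abe4d5a930b8a8830c20,
  0x8ddc754a615bd8da9470b0a8642480,
  0x995f4532295ba4dadc68b18e280480,
  0x9a9f78b4a6755925d823a10e282120,
  0x9c5f62c944aadac75101ba4e280cc0,
  0x9d1e5b32e95d5b274503510f0104c0,
  0x9d9f1bca84ab98d5a828298f010d20,
  0x9ddeaa36c672e4ca94618a4f012080,
  0xa15d3b48e95bd8dadc825422830460,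
  0xa1dca2b2c3aadb27cc41ba62831200,
  0xa29c7bb263abe4d5d8222c22641120,
  0xa4dc554ae95d5ac79c44b0e2640600,
  0xa59d73b4b07d64c5a82498e2830920,
  0xa5dd69b5507ad92a94813a62640860,
  0xb1567a4a6873dacadc628c14909880,
  0xb1d658cae87558d7cc43a114149a00,
  0xb4573bb4e4abe4c750c22c14148d00,
  0xb4d712b684ab99279c46ba14908e00,
  0xb51779b0b07d64d744c33914908900,
  0xb5d743b2307b9b2a94669a14148880,
  0xb9eb1536815ba4c7cc48b18a322600,
  0xbaab3a30e673db25d9228c0a322020,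
  0xbc6a7b36615bd9275102540a41a4c0,
  0xbceaa8b2c672e4d79c49a04a41a200,
  0xbd2b63c9507ad8d74509984a3208c0,
  0xbdab49ca307b9ac5a928398a418820]

def LA : List ℕ := [0, 1, 0, 1, 2, 0, 2, 0, 1, 2, 0, 0, 0, 0, 0, 0, 0, 0, 0, 0, 0, 0, 0, 0]
def LB : List ℕ := [0, 0, 1, 1, 2, 0, 1, 0, 2, 0, 0, 0, 0, 0, 0, 0, 2, 0, 0, 0, 0, 0, 0, 0]

/-- the coordinates (as natural numbers) of the label of a point -/
def Vn (i r : ℕ) : ℕ := if r = 0 then LA.getD i 0 else LB.getD i 0

noncomputable def okC (k : ℕ) : Bool :=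
  inM24 k && Nat.beq (applyMask k d0) d0 && Nat.beq (img k 0) 0 && commP k X0

theorem c1 : L48.all okC = true := by decide +kernel

theorem X0_ok : (inM24 X0 && Nat.beq (applyMask X0 d0) d0 && Nat.beq (img X0 0) 0 &&
    Nat.beq (img X0 1) 9 && Nat.beq (img X0 9) 1 && Nat.beq (img X0 2) 16 &&
    Nat.beq (img X0 16) 2) = true := by decide +kernel

def lookOK : Bool := (List.range 24).all fun u => (List.range 24).all fun v =>
  !(d0.testBit u && d0.testBit v && !(img X0 u == u) && !(img X0 v == v) && !(v == u) &&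
    !(v == img X0 u)) || L48.any fun k => (img k 1 == u) && (img k 2 == v)

theorem c2 : lookOK = true := by decide +kernel

def linOK (k : ℕ) : Bool := (List.range 24).all fun i =>
  (Vn (img k i) 0 == (Vn (img k 1) 0 * Vn i 0 + Vn (img k 2) 0 * Vn i 1) % 3) &&
  (Vn (img k i) 1 == (Vn (img k 1) 1 * Vn i 0 + Vn (img k 2) 1 * Vn i 1) % 3)

theorem c3 : L48.all linOK = true := by decide +kernel

theorem c4 : ∀ k ∈ L48, ((Vn (img k 1) 0 : ℕ) : ZMod 3) = 1 → ((Vn (img k 1) 1 : ℕ) : ZMod 3) = 0 →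
    ((Vn (img k 2) 0 : ℕ) : ZMod 3) = 0 → ((Vn (img k 2) 1 : ℕ) : ZMod 3) = 1 → k = idP := by
  decide +kernel

theorem c5 : ∀ a b c e : ZMod 3, a * e - b * c ≠ 0 → ∃ k ∈ L48,
    ((Vn (img k 1) 0 : ℕ) : ZMod 3) = a ∧ ((Vn (img k 2) 0 : ℕ) : ZMod 3) = b ∧
    ((Vn (img k 1) 1 : ℕ) : ZMod 3) = c ∧ ((Vn (img k 2) 1 : ℕ) : ZMod 3) = e := by
  decide +kernel


/-! ### labels and matrices -/

/-- the label of a point -/
def V (y : GolayPt) (r : Fin 2) : ZMod 3 := ((Vn (enc y) r.val : ℕ) : ZMod 3)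

/-- the two base points -/
def E (c : Fin 2) : GolayPt := if c = 0 then dec 1 else dec 2

/-- the matrix of a permutation -/
def M0 (σ : Equiv.Perm GolayPt) : Matrix (Fin 2) (Fin 2) (ZMod 3) :=
  Matrix.of fun r c => V (σ (E c)) r

def Lin (σ : Equiv.Perm GolayPt) : Prop :=
  ∀ y r, V (σ y) r = V (σ (dec 1)) r * V y 0 + V (σ (dec 2)) r * V y 1

theorem M0_mul {σ τ : Equiv.Perm GolayPt} (h : Lin σ) : M0 (σ * τ) = M0 σ * M0 τ := by
  ext r c
  rw [Matrix.mul_apply, Fin.sum_univ_two]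
  exact h (τ (E c)) r

theorem M0_one : M0 1 = 1 := by
  ext r c
  fin_cases r <;> fin_cases c <;> decide +kernel

theorem V_dec {i : ℕ} (hi : i < 24) (r : Fin 2) : V (dec i) r = ((Vn i r.val : ℕ) : ZMod 3) := by
  unfold V; rw [enc_dec i hi]

theorem okC_spec {k : ℕ} (hk : k ∈ L48) : inM24 k = true ∧ applyMask k d0 = d0 ∧ img k 0 = 0 ∧
    commP k X0 = true := by
  have := List.all_eq_true.mp c1 k hk
  unfold okC at this
  simp only [Bool.and_eq_true, nat_beq_iff] at this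
  exact ⟨this.1.1.1, this.1.1.2, this.1.2, this.2⟩

theorem isPerm_L48 {k : ℕ} (hk : k ∈ L48) : isPerm k = true :=
  isPerm_of_inM24 k (okC_spec hk).1

theorem lin_permOf {k : ℕ} (hk : k ∈ L48) : Lin (permOf k) := by
  have hP := isPerm_L48 hk
  have hl := List.all_eq_true.mp c3 k hk
  intro y r
  obtain ⟨i, hi, rfl⟩ : ∃ i < 24, y = dec i := ⟨enc y, enc_lt y, (dec_enc y).symm⟩
  rw [permOf_apply_dec k hP i hi, permOf_apply_dec k hP 1 (by norm_num),
    permOf_apply_dec k hP 2 (by norm_num), V_dec (img_lt_of_isPerm k hP i hi),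
    V_dec (img_lt_of_isPerm k hP 1 (by norm_num)), V_dec (img_lt_of_isPerm k hP 2 (by norm_num)),
    V_dec hi, V_dec hi]
  have := List.all_eq_true.mp hl i (List.mem_range.mpr hi)
  rw [Bool.and_eq_true, beq_iff_eq, beq_iff_eq] at this
  fin_cases r
  · show ((Vn (img k i) 0 : ℕ) : ZMod 3) = _
    rw [this.1, ZMod.natCast_mod]
    push_cast
    rfl
  · show ((Vn (img k i) 1 : ℕ) : ZMod 3) = _
    rw [this.2, ZMod.natCast_mod]
    push_cast
    rfl


/-! ### the standard centraliser -/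

/-- the centraliser of the standard involution in the standard `M11` -/
def C0 : Subgroup (Equiv.Perm GolayPt) :=
  (M24 ⊓ MulAction.stabilizer (Equiv.Perm GolayPt) (bset d0) ⊓
    MulAction.stabilizer (Equiv.Perm GolayPt) (dec 0)) ⊓ Subgroup.centralizer {permOf X0}

theorem mem_C0 {σ : Equiv.Perm GolayPt} : σ ∈ C0 ↔ σ ∈ M24 ∧ σ • bset d0 = bset d0 ∧
    σ (dec 0) = dec 0 ∧ σ * permOf X0 = permOf X0 * σ := by
  unfold C0
  constructor
  · rintro ⟨⟨⟨h1, h2⟩, h3⟩, h4⟩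
    exact ⟨h1, h2, h3, Subgroup.mem_centralizer_singleton_iff.mp h4⟩
  · rintro ⟨h1, h2, h3, h4⟩
    exact ⟨⟨⟨h1, h2⟩, h3⟩, Subgroup.mem_centralizer_singleton_iff.mpr h4⟩

theorem X0_spec : inM24 X0 = true ∧ applyMask X0 d0 = d0 ∧ img X0 0 = 0 ∧ img X0 1 = 9 ∧
    img X0 9 = 1 ∧ img X0 2 = 16 ∧ img X0 16 = 2 := by
  have := X0_ok
  simp only [Bool.and_eq_true, nat_beq_iff] at this
  obtain ⟨⟨⟨⟨⟨⟨h1, h2⟩, h3⟩, h4⟩, h5⟩, h6⟩, h7⟩ := this
  exact ⟨h1, h2, h3, h4, h5, h6, h7⟩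

theorem isPerm_X0 : isPerm X0 = true := isPerm_of_inM24 X0 X0_spec.1

theorem permOf_mem_C0 {k : ℕ} (hk : k ∈ L48) : permOf k ∈ C0 := by
  obtain ⟨h1, h2, h3, h4⟩ := okC_spec hk
  have hP := isPerm_L48 hk
  rw [mem_C0]
  refine ⟨permOf_mem_M24 k h1, ?_, ?_, comm_of_commP hP isPerm_X0 h4⟩
  · rw [permOf_smul_bset k hP, h2]
  · rw [permOf_apply_dec k hP 0 (by norm_num), h3]

theorem D0_mem : bset d0 ∈ dodecads := by
  rw [← bitSet_eq]; exact d0_mem

/-- five points of the standard dodecad -/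
def Ω5 : Finset GolayPt := {dec 0, dec 1, dec 9, dec 2, dec 16}

theorem Ω5_card : Ω5.card = 5 := by decide +kernel

theorem Ω5_sub : Ω5 ⊆ bset d0 := by decide +kernel

theorem eq_of_agree {d : Finset GolayPt} (hd : d ∈ dodecads) {Ω : Finset GolayPt}
    (hΩ : Ω.card = 5) (hsub : Ω ⊆ d) {σ π : Equiv.Perm GolayPt} (hσ : σ ∈ M24)
    (hσD : σ • d = d) (hπ : π ∈ M24) (hπD : π • d = d)
    (h : ∀ y ∈ Ω, σ y = π y) : σ = π := by
  have h1 : π⁻¹ * σ = 1 := by
    apply eq_one_of_fix hd hΩ hsub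
    · refine ⟨M24.mul_mem (M24.inv_mem hπ) hσ, ?_⟩
      show (π⁻¹ * σ) • d = d
      rw [mul_smul, hσD, inv_smul_eq_iff, hπD]
    · intro y hy
      rw [Equiv.Perm.mul_apply, h y hy]
      simp
  calc σ = π * (π⁻¹ * σ) := by group
    _ = π := by rw [h1, mul_one]


theorem comm_apply {σ τ : Equiv.Perm GolayPt} (h : σ * τ = τ * σ) (y : GolayPt) :
    σ (τ y) = τ (σ y) := by
  have := congrArg (fun f : Equiv.Perm GolayPt => f y) h
  simpa [Equiv.Perm.mul_apply] using this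

theorem exists_k {σ : Equiv.Perm GolayPt} (hσ : σ ∈ C0) : ∃ k ∈ L48, σ = permOf k := by
  obtain ⟨hM, hD, h0, hc⟩ := mem_C0.mp hσ
  have hPX := isPerm_X0
  obtain ⟨-, -, -, x1, x9, x2, x16⟩ := X0_spec
  have hcomm := comm_apply hc
  obtain ⟨u, hu24, hdu⟩ : ∃ u < 24, dec u = σ (dec 1) := ⟨enc (σ (dec 1)), enc_lt _, dec_enc _⟩
  obtain ⟨v, hv24, hdv⟩ : ∃ v < 24, dec v = σ (dec 2) := ⟨enc (σ (dec 2)), enc_lt _, dec_enc _⟩
  have t1 : d0.testBit u = true := by
    have : σ (dec 1) ∈ bset d0 := (mem_iff_of_smul_eq hD (dec 1)).mpr (by decide +kernel)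
    rwa [← hdu, mem_bset, enc_dec u hu24] at this
  have t2 : d0.testBit v = true := by
    have : σ (dec 2) ∈ bset d0 := (mem_iff_of_smul_eq hD (dec 2)).mpr (by decide +kernel)
    rwa [← hdv, mem_bset, enc_dec v hv24] at this
  have t3 : img X0 u ≠ u := by
    intro h
    have e1 : permOf X0 (dec u) = dec u := by rw [permOf_apply_dec X0 hPX u hu24, h]
    rw [hdu, ← hcomm, permOf_apply_dec X0 hPX 1 (by norm_num), x1] at e1
    have := σ.injective e1
    revert this; decide +kernel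
  have t4 : img X0 v ≠ v := by
    intro h
    have e1 : permOf X0 (dec v) = dec v := by rw [permOf_apply_dec X0 hPX v hv24, h]
    rw [hdv, ← hcomm, permOf_apply_dec X0 hPX 2 (by norm_num), x2] at e1
    have := σ.injective e1
    revert this; decide +kernel
  have t5 : v ≠ u := by
    intro h
    have : dec v = dec u := by rw [h]
    rw [hdu, hdv] at this
    have := σ.injective this
    revert this; decide +kernel
  have t6 : v ≠ img X0 u := by
    intro h
    have e1 : permOf X0 (dec u) = dec v := by rw [permOf_apply_dec X0 hPX u hu24, ← h]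
    rw [hdu, hdv, ← hcomm, permOf_apply_dec X0 hPX 1 (by norm_num), x1] at e1
    have := σ.injective e1
    revert this; decide +kernel
  have hl := c2
  unfold lookOK at hl
  have hl2 := List.all_eq_true.mp (List.all_eq_true.mp hl u (List.mem_range.mpr hu24)) v
    (List.mem_range.mpr hv24)
  have b3 : (img X0 u == u) = false := beq_false_of_ne t3
  have b4 : (img X0 v == v) = false := beq_false_of_ne t4
  have b5 : (v == u) = false := beq_false_of_ne t5
  have b6 : (v == img X0 u) = false := beq_false_of_ne t6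
  rw [t1, t2, b3, b4, b5, b6] at hl2
  simp only [Bool.and_self, Bool.not_false, Bool.not_true, Bool.false_or, List.any_eq_true,
    Bool.and_eq_true, beq_iff_eq] at hl2
  obtain ⟨k, hk, hk1, hk2⟩ := hl2
  refine ⟨k, hk, ?_⟩
  obtain ⟨kM, kD, k0, kc⟩ := mem_C0.mp (permOf_mem_C0 hk)
  have hP := isPerm_L48 hk
  have kcomm := comm_apply kc
  apply eq_of_agree D0_mem Ω5_card Ω5_sub hM hD kM kD
  intro y hy
  simp only [Ω5, Finset.mem_insert, Finset.mem_singleton] at hy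
  have e9 : dec 9 = permOf X0 (dec 1) := by rw [permOf_apply_dec X0 hPX 1 (by norm_num), x1]
  have e16 : dec 16 = permOf X0 (dec 2) := by rw [permOf_apply_dec X0 hPX 2 (by norm_num), x2]
  rcases hy with rfl | rfl | rfl | rfl | rfl
  · rw [h0, k0]
  · rw [permOf_apply_dec k hP 1 (by norm_num), hk1, hdu]
  · rw [e9, hcomm, kcomm, permOf_apply_dec k hP 1 (by norm_num), hk1, hdu]
  · rw [permOf_apply_dec k hP 2 (by norm_num), hk2, hdv]
  · rw [e16, hcomm, kcomm, permOf_apply_dec k hP 2 (by norm_num), hk2, hdv]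


theorem lin_of_mem {σ : Equiv.Perm GolayPt} (hσ : σ ∈ C0) : Lin σ := by
  obtain ⟨k, hk, rfl⟩ := exists_k hσ
  exact lin_permOf hk

/-- matrices of the elements of the standard centraliser -/
def M0hom : ↥C0 →* Matrix (Fin 2) (Fin 2) (ZMod 3) where
  toFun σ := M0 σ.1
  map_one' := M0_one
  map_mul' σ _ := M0_mul (lin_of_mem σ.2)

def Ψ0 : ↥C0 →* GL (Fin 2) (ZMod 3) := M0hom.toHomUnits

theorem Ψ0_coe (σ : ↥C0) :
    ((Ψ0 σ : GL (Fin 2) (ZMod 3)) : Matrix (Fin 2) (Fin 2) (ZMod 3)) = M0 σ.1 := rfl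

theorem M0_permOf {k : ℕ} (hk : k ∈ L48) (r : Fin 2) :
    M0 (permOf k) r 0 = ((Vn (img k 1) r.val : ℕ) : ZMod 3) ∧
    M0 (permOf k) r 1 = ((Vn (img k 2) r.val : ℕ) : ZMod 3) := by
  have hP := isPerm_L48 hk
  constructor
  · show V (permOf k (dec 1)) r = _
    rw [permOf_apply_dec k hP 1 (by norm_num), V_dec (img_lt_of_isPerm k hP 1 (by norm_num))]
  · show V (permOf k (dec 2)) r = _
    rw [permOf_apply_dec k hP 2 (by norm_num), V_dec (img_lt_of_isPerm k hP 2 (by norm_num))]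

theorem Ψ0_injective : Function.Injective Ψ0 := by
  rw [injective_iff_map_eq_one]
  intro σ h
  have h1 : M0 σ.1 = 1 := by
    have := congrArg (fun A : GL (Fin 2) (ZMod 3) => (A : Matrix (Fin 2) (Fin 2) (ZMod 3))) h
    simpa [Ψ0_coe] using this
  obtain ⟨k, hk, hσk⟩ := exists_k σ.2
  rw [hσk] at h1
  have e00 : M0 (permOf k) 0 0 = 1 := by rw [h1]; rfl
  have e10 : M0 (permOf k) 1 0 = 0 := by rw [h1]; rfl
  have e01 : M0 (permOf k) 0 1 = 0 := by rw [h1]; rfl
  have e11 : M0 (permOf k) 1 1 = 1 := by rw [h1]; rfl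
  rw [(M0_permOf hk 0).1] at e00
  rw [(M0_permOf hk 1).1] at e10
  rw [(M0_permOf hk 0).2] at e01
  rw [(M0_permOf hk 1).2] at e11
  have := c4 k hk e00 e10 e01 e11
  apply Subtype.ext
  rw [hσk, this, permOf_idP]
  rfl

theorem Ψ0_surjective : Function.Surjective Ψ0 := by
  intro A
  have hdet : (A : Matrix (Fin 2) (Fin 2) (ZMod 3)).det ≠ 0 :=
    ((Matrix.isUnit_iff_isUnit_det _).mp ⟨A, rfl⟩).ne_zero
  rw [Matrix.det_fin_two] at hdet
  obtain ⟨k, hk, h1, h2, h3, h4⟩ := c5 _ _ _ _ hdet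
  refine ⟨⟨permOf k, permOf_mem_C0 hk⟩, ?_⟩
  apply Units.ext
  rw [Ψ0_coe]
  ext r c
  fin_cases r <;> fin_cases c
  · exact (M0_permOf hk 0).1.trans h1
  · exact (M0_permOf hk 0).2.trans h2
  · exact (M0_permOf hk 1).1.trans h3
  · exact (M0_permOf hk 1).2.trans h4

/-- the standard isomorphism -/
noncomputable def Ψ0equiv : ↥C0 ≃* GL (Fin 2) (ZMod 3) :=
  MulEquiv.ofBijective Ψ0 ⟨Ψ0_injective, Ψ0_surjective⟩


/-! ### conjugacy of the involutions of `M11` -/

theorem exists_moved {d : Finset GolayPt} (hd : d ∈ dodecads) {ξ : Equiv.Perm GolayPt}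
    (hξM : ξ ∈ M24) (hξd : ξ • d = d) (hξ1 : ξ ≠ 1) :
    ∃ a b, a ∈ d ∧ b ∈ d ∧ ξ a ≠ a ∧ ξ b ≠ b ∧ b ≠ a ∧ b ≠ ξ a := by
  classical
  have hF : (d.filter fun y => ξ y = y).card ≤ 4 := by
    by_contra hcon
    push Not at hcon
    obtain ⟨Ω, hΩsub, hΩcard⟩ := Finset.exists_subset_card_eq (show 5 ≤ _ from hcon)
    apply hξ1
    apply eq_one_of_fix hd hΩcard (fun y hy => (Finset.mem_filter.mp (hΩsub hy)).1) ⟨hξM, hξd⟩
    intro y hy
    exact (Finset.mem_filter.mp (hΩsub hy)).2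
  have hsum := Finset.card_filter_add_card_filter_not (s := d) (fun y => ξ y = y)
  rw [hd.2] at hsum
  have hMv : 8 ≤ (d.filter fun y => ¬ ξ y = y).card := by omega
  obtain ⟨a, ha⟩ := Finset.card_pos.mp (show 0 < (d.filter fun y => ¬ ξ y = y).card by omega)
  have hcard2 : 0 < ((d.filter fun y => ¬ ξ y = y) \ {a, ξ a}).card := by
    have h1 := Finset.le_card_sdiff ({a, ξ a} : Finset GolayPt) (d.filter fun y => ¬ ξ y = y)
    have h2 : ({a, ξ a} : Finset GolayPt).card ≤ 2 := Finset.card_le_two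
    omega
  obtain ⟨b, hb⟩ := Finset.card_pos.mp hcard2
  rw [Finset.mem_sdiff, Finset.mem_filter, Finset.mem_insert, Finset.mem_singleton] at hb
  rw [Finset.mem_filter] at ha
  push Not at hb
  exact ⟨a, b, ha.1, hb.1.1, ha.2, hb.1.2, hb.2.1, hb.2.2⟩

theorem getD_inj {l : List GolayPt} (hnd : l.Nodup) (k : ℕ) (hk : k = l.length) :
    ∀ i < k, ∀ j < k, l.getD i default = l.getD j default → i = j := by
  intro i hi j hj hij
  rw [List.getD_eq_getElem _ _ (by omega), List.getD_eq_getElem _ _ (by omega)] at hij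
  exact (List.Nodup.getElem_inj_iff hnd).mp hij

theorem exists_t {d : Finset GolayPt} (hd : d ∈ dodecads) {p : GolayPt} (hp : p ∈ d)
    {ξ : Equiv.Perm GolayPt} (hξM : ξ ∈ M24) (hξd : ξ • d = d) (hξp : ξ p = p)
    (hξ2 : ξ * ξ = 1) (hξ1 : ξ ≠ 1) :
    ∃ t ∈ M24, t • bset d0 = d ∧ t (dec 0) = p ∧ t⁻¹ * ξ * t = permOf X0 := by
  obtain ⟨a, b, ha, hb, hξa, hξb, hba, hbξa⟩ := exists_moved hd hξM hξd hξ1
  have hinv : ∀ y, ξ (ξ y) = y := fun y => by
    have := congrArg (fun f : Equiv.Perm GolayPt => f y) hξ2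
    simpa using this
  have hξa_mem : ξ a ∈ d := (mem_iff_of_smul_eq hξd a).mpr ha
  have hξb_mem : ξ b ∈ d := (mem_iff_of_smul_eq hξd b).mpr hb
  obtain ⟨t0, ht0, ht0d⟩ := exists_transport hd
  have hnd2 : [p, a, ξ a, b, ξ b].Nodup := by
    have n1 : p ≠ a := fun h => hξa (by rw [← h, hξp])
    have n2 : p ≠ ξ a := fun h => n1 (by rw [← hinv a, ← h, hξp])
    have n3 : p ≠ b := fun h => hξb (by rw [← h, hξp])
    have n4 : p ≠ ξ b := fun h => n3 (by rw [← hinv b, ← h, hξp])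
    have n5 : a ≠ ξ b := fun h => hbξa (by rw [h, hinv])
    have n6 : ξ a ≠ ξ b := fun h => hba (ξ.injective h).symm
    simp only [List.nodup_cons, List.mem_cons, List.not_mem_nil, or_false, not_or, List.nodup_nil,
      and_true]
    exact ⟨⟨n1, n2, n3, n4⟩, ⟨hξa.symm, hba.symm, n5⟩, ⟨hbξa.symm, n6⟩, hξb.symm, not_false⟩
  have hnd1 : [t0 (dec 0), t0 (dec 1), t0 (dec 9), t0 (dec 2), t0 (dec 16)].Nodup := by
    have : [t0 (dec 0), t0 (dec 1), t0 (dec 9), t0 (dec 2), t0 (dec 16)] =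
        [dec 0, dec 1, dec 9, dec 2, dec 16].map t0 := rfl
    rw [this]
    exact List.Nodup.map t0.injective (by decide +kernel)
  obtain ⟨g, hg, hmap⟩ := stab_dodecad_map hd
    (fun i => [t0 (dec 0), t0 (dec 1), t0 (dec 9), t0 (dec 2), t0 (dec 16)].getD i default)
    (fun i => [p, a, ξ a, b, ξ b].getD i default) 5 le_rfl
    (by
      intro i hi
      have hmem : ∀ j, j < 24 → d0.testBit j = true → t0 (dec j) ∈ d := by
        intro j hj hbit
        rw [← ht0d]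
        apply Finset.smul_mem_smul_finset
        rw [mem_bitSet]
        have : Cfsg.Agent.Lib.Helper3.Golay.idx (dec j) = enc (dec j) := by
          cases (dec j) <;> rfl
        rw [this, enc_dec j hj]; exact hbit
      interval_cases i
      · exact hmem 0 (by norm_num) (by decide +kernel)
      · exact hmem 1 (by norm_num) (by decide +kernel)
      · exact hmem 9 (by norm_num) (by decide +kernel)
      · exact hmem 2 (by norm_num) (by decide +kernel)
      · exact hmem 16 (by norm_num) (by decide +kernel))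
    (by
      intro i hi
      interval_cases i
      · exact hp
      · exact ha
      · exact hξa_mem
      · exact hb
      · exact hξb_mem)
    (getD_inj hnd1 5 rfl) (getD_inj hnd2 5 rfl)
  obtain ⟨hgM, hgd⟩ := hg
  have hgd' : g • d = d := hgd
  have e0 : g (t0 (dec 0)) = p := hmap 0 (by norm_num)
  have e1 : g (t0 (dec 1)) = a := hmap 1 (by norm_num)
  have e2 : g (t0 (dec 9)) = ξ a := hmap 2 (by norm_num)
  have e3 : g (t0 (dec 2)) = b := hmap 3 (by norm_num)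
  have e4 : g (t0 (dec 16)) = ξ b := hmap 4 (by norm_num)
  have htM : g * t0 ∈ M24 := M24.mul_mem hgM ht0
  have htd : (g * t0) • bset d0 = d := by rw [mul_smul, ← bitSet_eq, ht0d, hgd']
  refine ⟨g * t0, htM, htd, e0, ?_⟩
  obtain ⟨xM, xD, x0', x1, x9, x2, x16⟩ := X0_spec
  have hPX := isPerm_X0
  have inv_app : ∀ y z, (g * t0) y = z → (g * t0)⁻¹ z = y := fun y z h => by
    rw [← h]; simp
  apply eq_of_agree D0_mem Ω5_card Ω5_sub
    (M24.mul_mem (M24.mul_mem (M24.inv_mem htM) hξM) htM) ?_ (permOf_mem_M24 X0 xM)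
    (by rw [permOf_smul_bset X0 hPX, xD]) ?_
  · rw [mul_smul, mul_smul, htd, hξd, inv_smul_eq_iff, htd]
  · intro y hy
    simp only [Ω5, Finset.mem_insert, Finset.mem_singleton] at hy
    rcases hy with rfl | rfl | rfl | rfl | rfl
    · rw [permOf_apply_dec X0 hPX 0 (by norm_num), x0']
      show (g * t0)⁻¹ (ξ (g (t0 (dec 0)))) = dec 0
      rw [e0, hξp]; exact inv_app _ _ e0
    · rw [permOf_apply_dec X0 hPX 1 (by norm_num), x1]
      show (g * t0)⁻¹ (ξ (g (t0 (dec 1)))) = dec 9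
      rw [e1]; exact inv_app _ _ e2
    · rw [permOf_apply_dec X0 hPX 9 (by norm_num), x9]
      show (g * t0)⁻¹ (ξ (g (t0 (dec 9)))) = dec 1
      rw [e2, hinv]; exact inv_app _ _ e1
    · rw [permOf_apply_dec X0 hPX 2 (by norm_num), x2]
      show (g * t0)⁻¹ (ξ (g (t0 (dec 2)))) = dec 16
      rw [e3]; exact inv_app _ _ e4
    · rw [permOf_apply_dec X0 hPX 16 (by norm_num), x16]
      show (g * t0)⁻¹ (ξ (g (t0 (dec 16)))) = dec 2
      rw [e4, hinv]; exact inv_app _ _ e3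


/-! ### the transport -/

/-- the underlying permutation -/
def toPerm (K : Subgroup ↥M24) (x : ↥K) :
    ↥(Subgroup.centralizer ({x} : Set ↥K)) →* Equiv.Perm GolayPt :=
  M24.subtype.comp (K.subtype.comp (Subgroup.centralizer ({x} : Set ↥K)).subtype)

abbrev Kg (d : Finset GolayPt) (p : GolayPt) : Subgroup ↥M24 :=
  MulAction.stabilizer M24 d ⊓ MulAction.stabilizer M24 p

/-- Involution centralisers in the smallest Mathieu group are isomorphic to GL(2, 3). -/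
theorem result (d : Finset Cfsg.GolayPt) (hd : d ∈ Cfsg.dodecads) (p : Cfsg.GolayPt) (hp : p ∈ d) (x : ↥(MulAction.stabilizer Cfsg.M24 d ⊓ MulAction.stabilizer Cfsg.M24 p)) (hx : orderOf x = 2) : Nonempty (↥(Subgroup.centralizer ({x} : Set ↥(MulAction.stabilizer Cfsg.M24 d ⊓ MulAction.stabilizer Cfsg.M24 p))) ≃* GL (Fin 2) (ZMod 3)) := by
  let ξ : Equiv.Perm GolayPt := ((x : ↥M24) : Equiv.Perm GolayPt)
  have hξM : ξ ∈ M24 := (x : ↥M24).2
  have hξd : ξ • d = d := x.2.1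
  have hξp : ξ p = p := x.2.2
  have hx2 : x * x = 1 := by rw [← pow_two, ← hx, pow_orderOf_eq_one]
  have hξ2 : ξ * ξ = 1 := congrArg (fun z : ↥(Kg d p) => ((z : ↥M24) : Equiv.Perm GolayPt)) hx2
  have hξ1 : ξ ≠ 1 := by
    intro h
    have : x = 1 := Subtype.ext (Subtype.ext h)
    rw [this, orderOf_one] at hx
    norm_num at hx
  obtain ⟨t, htM, htd, htp, htx⟩ := exists_t hd hp hξM hξd hξp hξ2 hξ1
  let ι := toPerm (Kg d p) x
  have hι : ∀ g, ι g ∈ M24 ∧ ι g • d = d ∧ ι g p = p ∧ ι g * ξ = ξ * ι g := by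
    intro g
    refine ⟨g.1.1.2, g.1.2.1, g.1.2.2, ?_⟩
    have := Subgroup.mem_centralizer_singleton_iff.mp g.2
    exact congrArg (fun z : ↥(Kg d p) => ((z : ↥M24) : Equiv.Perm GolayPt)) this
  let κ : ↥(Subgroup.centralizer ({x} : Set ↥(Kg d p))) →* Equiv.Perm GolayPt :=
    (MulAut.conj t⁻¹).toMonoidHom.comp ι
  have hκ : ∀ g, κ g = t⁻¹ * ι g * t := by
    intro g
    simp [κ]
  have hκmem : ∀ g, κ g ∈ C0 := by
    intro g
    obtain ⟨h1, h2, h3, h4⟩ := hι g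
    rw [hκ, mem_C0]
    refine ⟨M24.mul_mem (M24.mul_mem (M24.inv_mem htM) h1) htM, ?_, ?_, ?_⟩
    · rw [mul_smul, mul_smul, htd, h2, inv_smul_eq_iff, htd]
    · show t⁻¹ (ι g (t (dec 0))) = dec 0
      rw [htp, h3, ← htp]; simp
    · rw [← htx]
      calc t⁻¹ * ι g * t * (t⁻¹ * ξ * t) = t⁻¹ * (ι g * ξ) * t := by group
        _ = t⁻¹ * (ξ * ι g) * t := by rw [h4]
        _ = t⁻¹ * ξ * t * (t⁻¹ * ι g * t) := by group
  let κ' : ↥(Subgroup.centralizer ({x} : Set ↥(Kg d p))) →* ↥C0 := κ.codRestrict C0 hκmem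
  have hinj : Function.Injective κ' := by
    intro g h hgh
    have h1 : κ g = κ h := congrArg Subtype.val hgh
    rw [hκ, hκ] at h1
    have h2 : ι g = ι h := by
      have := congrArg (fun z => t * z * t⁻¹) h1
      simpa [mul_assoc] using this
    exact Subtype.ext (Subtype.ext (Subtype.ext h2))
  have hsurj : Function.Surjective κ' := by
    intro σ
    obtain ⟨s1, s2, s3, s4⟩ := mem_C0.mp σ.2
    have hξeq : ξ = t * permOf X0 * t⁻¹ := by rw [← htx]; group
    let γ : Equiv.Perm GolayPt := t * σ.1 * t⁻¹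
    have γM : γ ∈ M24 := M24.mul_mem (M24.mul_mem htM s1) (M24.inv_mem htM)
    have γd : γ • d = d := by
      show (t * σ.1 * t⁻¹) • d = d
      rw [mul_smul, mul_smul, ← htd, inv_smul_smul, s2]
    have γp : γ p = p := by
      show t (σ.1 (t⁻¹ p)) = p
      have : t⁻¹ p = dec 0 := by rw [← htp]; simp
      rw [this, s3, htp]
    have γc : γ * ξ = ξ * γ := by
      show t * σ.1 * t⁻¹ * ξ = ξ * (t * σ.1 * t⁻¹)
      rw [hξeq]
      calc t * σ.1 * t⁻¹ * (t * permOf X0 * t⁻¹) = t * (σ.1 * permOf X0) * t⁻¹ := by group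
        _ = t * (permOf X0 * σ.1) * t⁻¹ := by rw [s4]
        _ = t * permOf X0 * t⁻¹ * (t * σ.1 * t⁻¹) := by group
    let gK : ↥(Kg d p) := ⟨⟨γ, γM⟩, ⟨γd, γp⟩⟩
    have gc : gK ∈ Subgroup.centralizer ({x} : Set ↥(Kg d p)) := by
      rw [Subgroup.mem_centralizer_singleton_iff]
      exact Subtype.ext (Subtype.ext γc)
    refine ⟨⟨gK, gc⟩, ?_⟩
    apply Subtype.ext
    show κ ⟨gK, gc⟩ = σ.1
    rw [hκ]
    show t⁻¹ * (t * σ.1 * t⁻¹) * t = σ.1
    group
  exact ⟨(MulEquiv.ofBijective κ' ⟨hinj, hsurj⟩).trans Ψ0equiv⟩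

end Cfsg.Agent.S1603
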