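import Cfsg.Statements.S0388
-- import your own Cfsg.Agent.* helpers here
import Cfsg.Agent.Lib.Helper3.Golay.M11Simple

set_option autoImplicit false
open scoped Pointwise
open Cfsg

namespace Cfsg.Agent.S0388

open scoped Pointwise
open Cfsg.Agent.Lib.Helper3.Golay

/-- the stabilizer of a dodecad and a point in nested and flat form -/
def stabMulEquiv388 (d : Finset GolayPt) (p : GolayPt) :
    ↥(MulAction.stabilizer Cfsg.M24 d ⊓ MulAction.stabilizer Cfsg.M24 p) ≃* ↥(G11 d p) :=
  { stabEquiv₂ M24 d p with map_mul' := fun _ _ => rfl }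

/-- The stabiliser of a dodecad and a point on it is simple. -/
theorem result (d : Finset Cfsg.GolayPt) (hd : d ∈ Cfsg.dodecads) (p : Cfsg.GolayPt) (hp : p ∈ d) : IsSimpleGroup ↥(MulAction.stabilizer Cfsg.M24 d ⊓ MulAction.stabilizer Cfsg.M24 p) := by
  have := isSimpleGroup_G11 hd hp
  exact (stabMulEquiv388 d p).isSimpleGroup

end Cfsg.Agent.S0388
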