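import Cfsg.Statements.S0383
-- import your own Cfsg.Agent.* helpers here
import Cfsg.Agent.S0388
import Cfsg.Agent.Lib.Helper3.OnePointExt
import Cfsg.Agent.Lib.Helper3.Golay.M11Simple

set_option autoImplicit false
open scoped Pointwise
open Cfsg

namespace Cfsg.Agent.S0383

open scoped Pointwise
open Cfsg.Agent.Lib.Helper3.Golay
open Cfsg.Agent.Lib.Helper3

/-- the points of `d`, with the action of the stabilizer of `d` -/
def ptsIn (d : Finset GolayPt) : SubMulAction ↥(MulAction.stabilizer M24 d) GolayPt where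
  carrier := {x | x ∈ d}
  smul_mem' := by
    rintro ⟨g, hg⟩ x hx
    have hgd : g • d = d := hg
    show g • x ∈ d
    rw [← hgd]
    exact Finset.smul_mem_smul_finset hx

/-- the stabilizer of a point of the dodecad, in two forms -/
def stabEquiv383 (d : Finset GolayPt) (q : GolayPt) (hq : q ∈ d) :
    ↥(MulAction.stabilizer ↥(MulAction.stabilizer M24 d) (⟨q, hq⟩ : ↥(ptsIn d))) ≃*
      ↥(MulAction.stabilizer Cfsg.M24 d ⊓ MulAction.stabilizer Cfsg.M24 q) where
  toFun g := ⟨g.1.1, g.1.2, congrArg Subtype.val g.2⟩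
  invFun h := ⟨⟨h.1, h.2.1⟩, Subtype.ext h.2.2⟩
  left_inv _ := rfl
  right_inv _ := rfl
  map_mul' _ _ := rfl

/-- the stabilizer of a dodecad is 5-transitive on it, list form -/
theorem exists_map_list12 {d : Finset GolayPt} (hd : d ∈ dodecads) (l l' : List GolayPt)
    (hnd : l.Nodup) (hnd' : l'.Nodup) (hlen : l.length = l'.length) (h5 : l.length ≤ 5)
    (hmem : ∀ x ∈ l, x ∈ d) (hmem' : ∀ x ∈ l', x ∈ d) :
    ∃ g ∈ M24 ⊓ MulAction.stabilizer (Equiv.Perm GolayPt) d, l.map g = l' := by
  obtain ⟨g, hg, hmap⟩ := stab_dodecad_map hd (fun i => l.getD i none) (fun i => l'.getD i none)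
    l.length h5
    (by
      intro i hi
      rw [List.getD_eq_getElem _ _ hi]
      exact hmem _ (List.getElem_mem hi))
    (by
      intro i hi
      rw [hlen] at hi
      rw [List.getD_eq_getElem _ _ hi]
      exact hmem' _ (List.getElem_mem hi))
    (by
      intro i hi j hj h
      rw [List.getD_eq_getElem _ _ hi, List.getD_eq_getElem _ _ hj] at h
      exact (List.Nodup.getElem_inj_iff hnd).mp h)
    (by
      intro i hi j hj h
      rw [hlen] at hi hj
      rw [List.getD_eq_getElem _ _ hi, List.getD_eq_getElem _ _ hj] at h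
      exact (List.Nodup.getElem_inj_iff hnd').mp h)
  refine ⟨g, hg, ?_⟩
  apply List.ext_getElem (by simp [hlen])
  intro i h1 h2
  have hi : i < l.length := by simpa using h1
  have := hmap i hi
  rw [List.getD_eq_getElem _ _ hi, List.getD_eq_getElem _ _ (by rw [← hlen]; exact hi)] at this
  simpa using this

/-- A dodecad stabiliser in the group of the length-24 code is simple. -/
theorem result (d : Finset Cfsg.GolayPt) (hd : d ∈ Cfsg.dodecads) : IsSimpleGroup (MulAction.stabilizer Cfsg.M24 d) := by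
  classical
  have pick : ∀ F : Finset GolayPt, F.card < 12 → ∃ a ∈ d, a ∉ F := by
    intro F hF
    exact Finset.exists_mem_notMem_of_card_lt_card (by rw [hd.2]; exact hF)
  obtain ⟨q, hq, -⟩ := pick ∅ (by simp)
  have hsimple : IsSimpleGroup ↥(MulAction.stabilizer ↥(MulAction.stabilizer M24 d)
      (⟨q, hq⟩ : ↥(ptsIn d))) := by
    have := Cfsg.Agent.S0388.result d hd q hq
    exact (stabEquiv383 d q hq).isSimpleGroup
  -- elements of the stabilizer from permutations
  have mk : ∀ g : Equiv.Perm GolayPt, g ∈ M24 ⊓ MulAction.stabilizer (Equiv.Perm GolayPt) d →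
      ∃ γ : ↥(MulAction.stabilizer M24 d), ∀ x : ↥(ptsIn d), ((γ • x : ↥(ptsIn d)) : GolayPt) = g x.1 := by
    intro g hg
    exact ⟨⟨⟨g, hg.1⟩, hg.2⟩, fun x => rfl⟩
  apply isSimpleGroup_of_isSimpleGroup_stabilizer (G := ↥(MulAction.stabilizer M24 d))
    (Ω := ↥(ptsIn d)) _ (⟨q, hq⟩ : ↥(ptsIn d)) _ _ _ hsimple
  · -- faithful
    intro g hfix
    apply Subtype.ext
    apply Subtype.ext
    have hgd : g.1.1 ∈ M24 ⊓ MulAction.stabilizer (Equiv.Perm GolayPt) d :=
      Subgroup.mem_inf.mpr ⟨g.1.2, g.2⟩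
    have hfix' : ∀ z ∈ d, g.1.1 z = z := fun z hz => congrArg Subtype.val (hfix ⟨z, hz⟩)
    obtain ⟨t, ht, htd, -⟩ := exists_transport_pts hd (fun _ => q) 0 (by norm_num)
      (by intro i hi; omega) (by intro i hi; omega)
    exact stab_dodecad_unique hd (fun i => t (pt i))
      (fun i hi => apply_mem_of_smul htd (pt_mem_d0 i hi))
      (fun i hi j hj h => pt_inj5 i hi j hj (t.injective h)) hgd
      (fun i hi => hfix' _ (apply_mem_of_smul htd (pt_mem_d0 i hi)))
  · -- two-transitive
    rintro ⟨x, hx⟩ ⟨y, hy⟩ ⟨x', hx'⟩ ⟨y', hy'⟩ hxy hxy'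
    have hxy0 : x ≠ y := fun h => hxy (Subtype.ext h)
    have hxy0' : x' ≠ y' := fun h => hxy' (Subtype.ext h)
    obtain ⟨g, hg, hmap⟩ := exists_map_list12 hd [x, y] [x', y']
      (by simpa using hxy0) (by simpa using hxy0') rfl (by simp)
      (by
        intro z hz
        simp only [List.mem_cons, List.not_mem_nil, or_false] at hz
        rcases hz with rfl | rfl
        · exact hx
        · exact hy)
      (by
        intro z hz
        simp only [List.mem_cons, List.not_mem_nil, or_false] at hz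
        rcases hz with rfl | rfl
        · exact hx'
        · exact hy')
    simp only [List.map_cons, List.map_nil, List.cons.injEq, and_true] at hmap
    obtain ⟨γ, hγ⟩ := mk g hg
    exact ⟨γ, Subtype.ext ((hγ _).trans hmap.1), Subtype.ext ((hγ _).trans hmap.2)⟩
  · -- the stabilizer of three points is transitive on the rest
    rintro ⟨r, hr⟩ ⟨t, ht⟩ ⟨s, hs⟩ ⟨s', hs'⟩ hrq htq htr hsq hsr hst hsq' hsr' hst'
    have e : ∀ {a b : GolayPt} {ha : a ∈ d} {hb : b ∈ d},
        (⟨a, ha⟩ : ↥(ptsIn d)) ≠ ⟨b, hb⟩ → a ≠ b := fun h h' => h (Subtype.ext h')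
    obtain ⟨g, hg, hmap⟩ := exists_map_list12 hd [q, r, t, s] [q, r, t, s']
      (by
        simp only [List.nodup_cons, List.mem_cons, List.not_mem_nil, or_false, not_or,
          List.nodup_nil, and_true, not_false_eq_true]
        exact ⟨⟨Ne.symm (e hrq), Ne.symm (e htq), Ne.symm (e hsq)⟩, ⟨Ne.symm (e htr), Ne.symm (e hsr)⟩,
          Ne.symm (e hst)⟩)
      (by
        simp only [List.nodup_cons, List.mem_cons, List.not_mem_nil, or_false, not_or,
          List.nodup_nil, and_true, not_false_eq_true]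
        exact ⟨⟨Ne.symm (e hrq), Ne.symm (e htq), Ne.symm (e hsq')⟩, ⟨Ne.symm (e htr), Ne.symm (e hsr')⟩,
          Ne.symm (e hst')⟩) rfl (by simp)
      (by
        intro z hz
        simp only [List.mem_cons, List.not_mem_nil, or_false] at hz
        rcases hz with rfl | rfl | rfl | rfl
        · exact hq
        · exact hr
        · exact ht
        · exact hs)
      (by
        intro z hz
        simp only [List.mem_cons, List.not_mem_nil, or_false] at hz
        rcases hz with rfl | rfl | rfl | rfl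
        · exact hq
        · exact hr
        · exact ht
        · exact hs')
    simp only [List.map_cons, List.map_nil, List.cons.injEq, and_true] at hmap
    obtain ⟨γ, hγ⟩ := mk g hg
    exact ⟨γ, Subtype.ext ((hγ _).trans hmap.1), Subtype.ext ((hγ _).trans hmap.2.1),
      Subtype.ext ((hγ _).trans hmap.2.2.1), Subtype.ext ((hγ _).trans hmap.2.2.2)⟩
  · -- enough points
    intro F hF
    obtain ⟨x, hx, hx'⟩ := pick (F.image Subtype.val) (by
      have := Finset.card_image_le (s := F) (f := Subtype.val)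
      omega)
    refine ⟨⟨x, hx⟩, fun h => hx' ?_⟩
    exact Finset.mem_image.mpr ⟨_, h, rfl⟩

end Cfsg.Agent.S0383
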