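import Cfsg.Statements.S0384
-- import your own Cfsg.Agent.* helpers here
import Cfsg.Agent.Lib.Helper3.Golay.Dodecad3

set_option autoImplicit false
open scoped Pointwise
open Cfsg

namespace Cfsg.Agent.S0384

open scoped Pointwise
open Cfsg.Agent.Lib.Helper3.Golay

/-- A dodecad stabiliser is sharply 5-transitive on the dodecad. -/
theorem result (d : Finset Cfsg.GolayPt) (hd : d ∈ Cfsg.dodecads) (x y : Fin 5 ↪ Cfsg.GolayPt) (hx : ∀ i, x i ∈ d) (hy : ∀ i, y i ∈ d) : ∃! g : MulAction.stabilizer Cfsg.M24 d, ∀ i, ((g : Cfsg.M24) : Equiv.Perm Cfsg.GolayPt) (x i) = y i := by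
  set X : ℕ → GolayPt := fun i => if h : i < 5 then x ⟨i, h⟩ else none with hX
  set Y : ℕ → GolayPt := fun i => if h : i < 5 then y ⟨i, h⟩ else none with hY
  have hXd : ∀ i < 5, X i ∈ d := by
    intro i hi; simp only [hX, hi, dif_pos]; exact hx _
  have hYd : ∀ i < 5, Y i ∈ d := by
    intro i hi; simp only [hY, hi, dif_pos]; exact hy _
  have hXinj : ∀ i < 5, ∀ j < 5, X i = X j → i = j := by
    intro i hi j hj h
    simp only [hX, hi, hj, dif_pos] at h
    simpa using x.injective h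
  have hYinj : ∀ i < 5, ∀ j < 5, Y i = Y j → i = j := by
    intro i hi j hj h
    simp only [hY, hi, hj, dif_pos] at h
    simpa using y.injective h
  have hXi : ∀ i : Fin 5, X i.1 = x i := by
    intro i; simp only [hX, i.2, dif_pos, Fin.eta]
  have hYi : ∀ i : Fin 5, Y i.1 = y i := by
    intro i; simp only [hY, i.2, dif_pos, Fin.eta]
  obtain ⟨g, hg, hmap⟩ := stab_dodecad_map hd X Y 5 le_rfl hXd hYd hXinj hYinj
  refine ⟨⟨⟨g, hg.1⟩, hg.2⟩, fun i => ?_, ?_⟩
  · have := hmap i.1 i.2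
    rw [hXi, hYi] at this
    exact this
  · rintro ⟨⟨g', hg'1⟩, hg'2⟩ hmap'
    have h1 : g⁻¹ * g' = 1 := by
      apply stab_dodecad_unique hd X hXd hXinj
      · refine Subgroup.mul_mem _ (Subgroup.inv_mem _ hg) (Subgroup.mem_inf.mpr ⟨hg'1, hg'2⟩)
      · intro i hi
        have h2 := hmap' ⟨i, hi⟩
        have h3 := hmap i hi
        rw [← hXi ⟨i, hi⟩, ← hYi ⟨i, hi⟩] at h2
        simp only at h2
        rw [Equiv.Perm.mul_apply, h2, ← h3]
        simp
    have h2 : g' = g := by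
      have := congrArg (fun z => g * z) h1
      simpa using this
    subst h2
    rfl

end Cfsg.Agent.S0384
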