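import Cfsg.Statements.S0420
import Cfsg.Agent.Lib.Helper24.M11VecF
import Cfsg.Agent.Lib.Helper5.M11LocC
import Cfsg.Agent.Lib.Helper2.M11PermC

set_option autoImplicit false
open scoped Pointwise
open Cfsg

namespace Cfsg.Agent.S0420

/-- Simple groups of order 7920 are all isomorphic to the concrete smallest Mathieu group. -/
theorem result {G : Type*} [Group G] [Finite G] (hG : Cfsg.IsM11 G) (d : Finset Cfsg.GolayPt) (hd : d ∈ Cfsg.dodecads) (p : Cfsg.GolayPt) (hp : p ∈ d) : Nonempty (G ≃* ↥(MulAction.stabilizer Cfsg.M24 d ⊓ MulAction.stabilizer Cfsg.M24 p)) := by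
  classical
  have : IsSimpleGroup G := hG.1
  have hord : Nat.card G = 7920 := hG.2
  obtain ⟨T, Q, t, c, h1, h2, h3, h4, h5, h6, h7, h8, h9, h10, h11⟩ :=
    Cfsg.Agent.Lib.Helper5.M11.exists_local_data hord
  have D : Cfsg.Agent.Lib.Helper24.M11Vec.LocalData T Q t c :=
    ⟨h1, h2, h3, h4, h5, h6, h7, h8, h9, h10, h11⟩
  obtain ⟨χ, H, hd10, hc2, hc3, hH, -, hsum⟩ :=
    Cfsg.Agent.Lib.Helper24.M11Vec.exists_index_eleven hord D
  let _ : Fintype ↥H := Fintype.ofFinite _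
  obtain ⟨m, hm, hs⟩ := hsum
  have hne : ∑ h : ↥H, (χ : G → ℂ) h ≠ 0 := by
    rw [hs]
    have : (m : ℂ) ≠ 0 := Nat.cast_ne_zero.mpr hm.ne'
    exact mul_ne_zero (by norm_num) this
  exact Cfsg.Agent.Lib.Helper2.M11Perm.iso_kgrp_of_char hord H hH χ hd10 hc2 hc3 hne d hd p hp

end Cfsg.Agent.S0420
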