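import Cfsg.Statements.S4036
import Mathlib
-- import your own Cfsg.Agent.* helpers here

set_option autoImplicit false
open Cfsg

namespace Cfsg.Agent.S4036

/-- Let P be a finite abelian p-group and K a group of automorphisms of P (a subgroup of Aut P) whose order is divisible by p. If all non-identity elements of K have the same fixed-point subgroup on P, then K has no non-trivial normal subgroup of order prime to p. -/
theorem result {P : Type*} [CommGroup P] [Finite P] {p : ℕ}
    [Fact p.Prime] (hP : IsPGroup p P) (K : Subgroup (MulAut P)) (hK : p ∣ Nat.card K)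
    (hfix : ∀ x y : MulAut P, x ∈ K → y ∈ K → x ≠ 1 → y ≠ 1 → ∀ v : P, x v = v ↔ y v = v) :
    ∀ N : Subgroup ↥K, N.Normal → ¬ p ∣ Nat.card N → N = ⊥ := by
  classical
  intro N hN hpN
  by_contra hNbot
  have hp : p.Prime := Fact.out
  have : Finite (MulAut P) := inferInstance
  have : Fintype ↥N := Fintype.ofFinite _
  -- an element of order p in K
  obtain ⟨s, hs⟩ := exists_prime_orderOf_dvd_card' (G := ↥K) p hK
  have hs1 : (s : MulAut P) ≠ 1 := by
    intro h
    have : s = 1 := Subtype.ext h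
    rw [this, orderOf_one] at hs
    exact hp.one_lt.ne hs
  -- a nontrivial element of N
  obtain ⟨n₀, hn₀N, hn₀1⟩ : ∃ n₀ : ↥K, n₀ ∈ N ∧ n₀ ≠ 1 := by
    obtain ⟨a, ha1⟩ := (Subgroup.ne_bot_iff_exists_ne_one).mp hNbot
    exact ⟨a.1, a.2, fun h => ha1 (Subtype.ext h)⟩
  have hn₀1' : (n₀ : MulAut P) ≠ 1 := fun h => hn₀1 (Subtype.ext h)
  -- the norm map
  let θ : P →* P := ∏ n : ↥N, (((n : ↥K) : MulAut P)).toMonoidHom
  have hθ : ∀ x : P, θ x = ∏ n : ↥N, ((n : ↥K) : MulAut P) x := by
    intro x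
    simp only [θ, MonoidHom.finsetProd_apply]
    rfl
  -- equivariance
  have hθk : ∀ (k : ↥K) (x : P), θ ((k : MulAut P) x) = (k : MulAut P) (θ x) := by
    intro k x
    rw [hθ, hθ, map_prod]
    -- reindex by conjugation n ↦ k⁻¹ n k
    let φ : ↥N ≃ ↥N :=
      { toFun := fun n => ⟨k⁻¹ * n * k, by
          have := hN.conj_mem n.1 n.2 k⁻¹
          simpa using this⟩
        invFun := fun n => ⟨k * n * k⁻¹, hN.conj_mem n.1 n.2 k⟩
        left_inv := fun n => by ext; simp [mul_assoc]
        right_inv := fun n => by ext; simp [mul_assoc] }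
    rw [← Equiv.prod_comp φ.symm]
    apply Finset.prod_congr rfl
    intro n _
    simp only [φ, Equiv.coe_fn_symm_mk, Subgroup.coe_mul, InvMemClass.coe_inv, MulAut.mul_apply,
      MulAut.inv_apply_self]
  -- invariance under translation by n₀
  have hθn : ∀ x : P, θ ((n₀ : MulAut P) x) = θ x := by
    intro x
    rw [hθ, hθ]
    let ψ : ↥N ≃ ↥N := Equiv.mulRight ⟨n₀, hn₀N⟩
    conv_rhs => rw [← Equiv.prod_comp ψ]
    apply Finset.prod_congr rfl
    intro n _
    simp only [ψ, Equiv.coe_mulRight, Subgroup.coe_mul, MulAut.mul_apply]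
  set W : Subgroup P := θ.ker with hW
  -- W meets the fixed points of n₀ trivially
  have hWF : ∀ x : P, x ∈ W → (n₀ : MulAut P) x = x → x = 1 := by
    intro x hxW hx
    have hall : ∀ n : ↥N, ((n : ↥K) : MulAut P) x = x := by
      intro n
      by_cases hn1 : ((n : ↥K) : MulAut P) = 1
      · rw [hn1]; rfl
      · exact (hfix _ _ n₀.2 n.1.2 hn₀1' hn1 x).mp hx
    have h1 : θ x = x ^ Nat.card N := by
      rw [hθ, Finset.prod_congr rfl (fun n _ => hall n), Finset.prod_const, Finset.card_univ,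
        Nat.card_eq_fintype_card]
    rw [hW, MonoidHom.mem_ker, h1] at hxW
    obtain ⟨k, hk⟩ := (IsPGroup.iff_orderOf.mp hP) x
    have hdvd : orderOf x ∣ Nat.card N := orderOf_dvd_of_pow_eq_one hxW
    rw [hk] at hdvd
    have hk0 : k = 0 := by
      by_contra hne
      exact hpN (dvd_trans (dvd_pow_self p hne) hdvd)
    rw [hk0, pow_zero, orderOf_eq_one_iff] at hk
    exact hk
  -- W is nontrivial
  have hWne : W ≠ ⊥ := by
    intro hbot
    have hinj : Function.Injective θ := (MonoidHom.ker_eq_bot_iff θ).mp hbot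
    apply hn₀1'
    ext x
    exact hinj (hθn x)
  -- the p-group generated by s acts on W
  set S : Subgroup ↥K := Subgroup.zpowers s with hS
  have hSp : IsPGroup p ↥S := by
    apply IsPGroup.of_card (n := 1)
    rw [pow_one, hS, Nat.card_zpowers, hs]
  let W' : SubMulAction ↥S P :=
    { carrier := (W : Set P)
      smul_mem' := by
        intro t x hx
        have hx' : θ x = 1 := hx
        show θ (((t : ↥K) : MulAut P) x) = 1
        rw [hθk, hx', map_one] }
  have hcong := hSp.card_modEq_card_fixedPoints (↥W')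
  have hcardW : Nat.card ↥W' = Nat.card ↥W := rfl
  have hpW : p ∣ Nat.card ↥W := by
    rcases (hP.to_subgroup W).card_eq_or_dvd with h1 | h
    · exact absurd (Subgroup.card_eq_one.mp h1) hWne
    · exact h
  have hpfix : p ∣ Nat.card (MulAction.fixedPoints ↥S ↥W') := by
    rw [← hcardW] at hpW
    exact (Nat.modEq_zero_iff_dvd.mp ((hcong.symm.trans (Nat.modEq_zero_iff_dvd.mpr hpW))))
  have hone : (⟨1, W.one_mem⟩ : ↥W') ∈ MulAction.fixedPoints ↥S ↥W' := by
    intro t
    apply Subtype.ext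
    show ((t : ↥K) : MulAut P) 1 = 1
    exact map_one _
  have hfin : Finite (MulAction.fixedPoints ↥S ↥W') := inferInstance
  have hpos : 0 < Nat.card (MulAction.fixedPoints ↥S ↥W') := Nat.card_pos_iff.mpr ⟨⟨⟨_, hone⟩⟩, hfin⟩
  have h2 : 1 < Nat.card (MulAction.fixedPoints ↥S ↥W') :=
    lt_of_lt_of_le hp.one_lt (Nat.le_of_dvd hpos hpfix)
  have hnt : Nontrivial (MulAction.fixedPoints ↥S ↥W') := Finite.one_lt_card_iff_nontrivial.mp h2
  obtain ⟨⟨x, hxfix⟩, hxne⟩ := exists_ne (⟨_, hone⟩ : MulAction.fixedPoints ↥S ↥W')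
  have hx1 : (x : P) ≠ 1 := by
    intro h
    apply hxne
    apply Subtype.ext
    apply Subtype.ext
    exact h
  have hsx : (s : MulAut P) (x : P) = x := by
    have := hxfix ⟨s, Subgroup.mem_zpowers s⟩
    exact congrArg Subtype.val this
  have hn₀x : (n₀ : MulAut P) (x : P) = x := (hfix _ _ s.2 n₀.2 hs1 hn₀1' x).mp hsx
  exact hx1 (hWF x x.2 hn₀x)

end Cfsg.Agent.S4036
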