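import Cfsg.Statements.S4034
import Mathlib
import Cfsg.Agent.Lib.Lead.CharBurnside
import Cfsg.Agent.Lib.Helper11.AbelianTwoIndex
import Cfsg.Agent.Lib.Helper21.ClassSize
import Cfsg.Agent.Lib.Helper25.PComplement
import Cfsg.Agent.Lib.Helper25.PSolvableOfSolvable
import Cfsg.Agent.Lib.Helper29.Wielandt
-- import your own Cfsg.Agent.* helpers here

set_option autoImplicit false
open Cfsg

namespace Cfsg.Agent.S4034

open Cfsg.Agent.CharLib Cfsg.Agent.Lib.Helper11 Cfsg.Agent.Lib.Helper21 Cfsg.Agent.Lib.Helper25 Cfsg.Agent.Lib.Helper29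
universe u

/-- every `p`-regular element has a centralizer of `p`-power index -/
def PPowClass (p : ℕ) (G : Type*) [Group G] : Prop :=
  ∀ x : G, (orderOf x).Coprime p → ∃ k : ℕ, (Subgroup.centralizer ({x} : Set G)).index = p ^ k

theorem PPowClass.subgroup {p : ℕ} (hp : p.Prime) {G : Type*} [Group G] [Finite G] (h : PPowClass p G)
    (N : Subgroup G) [N.Normal] : PPowClass p N := by
  intro x hx
  rw [← Subgroup.orderOf_coe] at hx
  obtain ⟨k, hk⟩ := h (x : G) hx
  have h1 : (Subgroup.centralizer ({x} : Set N)) =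
      (Subgroup.centralizer ({(x : G)} : Set G)).subgroupOf N := by
    ext y
    rw [Subgroup.mem_subgroupOf, Subgroup.mem_centralizer_singleton_iff,
      Subgroup.mem_centralizer_singleton_iff]
    constructor
    · intro hy; exact congrArg Subtype.val hy
    · intro hy; exact Subtype.ext hy
  have h2 : (Subgroup.centralizer ({x} : Set N)).index ∣ p ^ k := by
    rw [h1, ← hk]
    exact relIndex_dvd_index_of_normal_right _ N
  obtain ⟨i, -, hi⟩ := (Nat.dvd_prime_pow hp).mp h2
  exact ⟨i, hi⟩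

theorem PPowClass.quotient {p : ℕ} (hp : p.Prime) {G : Type*} [Group G] [Finite G] (h : PPowClass p G)
    (N : Subgroup G) [N.Normal] : PPowClass p (G ⧸ N) := by
  intro xb hxb
  obtain ⟨g, rfl⟩ := QuotientGroup.mk_surjective xb
  -- a p-regular lift
  set a := (orderOf g).factorization p with ha
  set m := orderOf (g : G ⧸ N) with hm
  have hcop : Nat.Coprime (p ^ a) m := Nat.Coprime.pow_left a hxb.symm
  obtain ⟨c, hc⟩ : ∃ c : ℕ, p ^ a * c ≡ 1 [MOD m] := by
    by_cases hm1 : m = 1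
    · exact ⟨0, by rw [hm1]; exact Nat.modEq_one⟩
    · have hm0 : m ≠ 0 := by
        rw [hm]; exact (orderOf_pos _).ne'
      have : 1 < m := by omega
      obtain ⟨c, -, hc⟩ := Nat.exists_mul_mod_eq_one_of_coprime hcop this
      exact ⟨c, by
        unfold Nat.ModEq
        rw [hc, Nat.mod_eq_of_lt this]⟩
  set x := g ^ (p ^ a * c) with hx
  have hxq : (x : G ⧸ N) = (g : G ⧸ N) := by
    rw [hx, QuotientGroup.mk_pow]
    exact (pow_eq_pow_iff_modEq.mpr hc).trans (pow_one _)
  have hxo : (orderOf x).Coprime p := by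
    have h1 : x ^ (orderOf g / p ^ a) = 1 := by
      rw [hx, ← pow_mul, mul_comm (p ^ a) c, mul_assoc, Nat.ordProj_mul_ordCompl_eq_self, pow_mul',
        pow_orderOf_eq_one, one_pow]
    have h2 : orderOf x ∣ orderOf g / p ^ a := orderOf_dvd_of_pow_eq_one h1
    have h3 : (orderOf g / p ^ a).Coprime p :=
      (Nat.coprime_ordCompl hp (orderOf_pos g).ne').symm
    exact Nat.Coprime.coprime_dvd_left h2 h3
  obtain ⟨k, hk⟩ := h x hxo
  have hle : (Subgroup.centralizer ({x} : Set G)).map (QuotientGroup.mk' N) ≤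
      Subgroup.centralizer ({(g : G ⧸ N)} : Set (G ⧸ N)) := by
    rintro _ ⟨y, hy, rfl⟩
    have hy : y ∈ Subgroup.centralizer ({x} : Set G) := hy
    rw [Subgroup.mem_centralizer_singleton_iff] at hy ⊢
    rw [← hxq]
    show (QuotientGroup.mk' N) y * (QuotientGroup.mk' N) x = (QuotientGroup.mk' N) x * (QuotientGroup.mk' N) y
    rw [← map_mul, ← map_mul, hy]
  have h2 : (Subgroup.centralizer ({(g : G ⧸ N)} : Set (G ⧸ N))).index ∣ p ^ k := by
    rw [← hk]
    exact (Subgroup.index_dvd_of_le hle).trans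
      (Subgroup.index_map_dvd _ (QuotientGroup.mk'_surjective N))
  obtain ⟨i, -, hi⟩ := (Nat.dvd_prime_pow hp).mp h2
  exact ⟨i, hi⟩

theorem PPowClass.prime_card_of_simple {p : ℕ} (hp : p.Prime) {Q : Type u} [Group Q] [Finite Q]
    [IsSimpleGroup Q] (h : PPowClass p Q) : (Nat.card Q).Prime := by
  by_cases hq : ∃ q : ℕ, q.Prime ∧ q ≠ p ∧ q ∣ Nat.card Q
  · obtain ⟨q, hqp, hqne, hqd⟩ := hq
    haveI := Fact.mk hqp
    obtain ⟨x, hx⟩ := exists_prime_orderOf_dvd_card' q hqd
    have hx1 : x ≠ 1 := by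
      intro h0; rw [h0, orderOf_one] at hx; exact hqp.one_lt.ne hx
    obtain ⟨k, hk⟩ := h x (by rw [hx]; exact (Nat.coprime_primes hqp hp).mpr hqne)
    exact prime_card_of_class_prime_pow p k hp x hx1 hk
  · push Not at hq
    haveI := Fact.mk hp
    have hpow := Nat.eq_prime_pow_of_unique_prime_dvd Nat.card_pos.ne'
      (fun {d} hd hdd => by
        by_contra hne
        exact hq d hd hne hdd)
    have hPG : IsPGroup p Q := IsPGroup.of_card hpow
    have hnt := hPG.center_nontrivial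
    have hcn : (Subgroup.center Q).Normal := inferInstance
    rcases hcn.eq_bot_or_eq_top with h0 | h0
    · rw [h0] at hnt
      exact absurd hnt (not_nontrivial _)
    · have hcomm : ∀ a b : Q, a * b = b * a := fun a b => by
        have : a ∈ Subgroup.center Q := by rw [h0]; trivial
        exact (Subgroup.mem_center_iff.mp this b).symm
      let _ : CommGroup Q := { (inferInstance : Group Q) with mul_comm := hcomm }
      exact IsSimpleGroup.prime_card

theorem exists_abelian_pcompl (p : ℕ) [hp : Fact p.Prime] :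
    ∀ (n : ℕ) (G : Type u) [Group G] [Finite G], Nat.card G = n → PPowClass p G →
      Group.IsSolvable G ∧ ∃ H : Subgroup G, IsMulCommutative H ∧ IsPCompl p H := by
  intro n
  induction n using Nat.strong_induction_on with
  | _ n ih =>
  intro G _ _ hn hG
  classical
  by_cases htriv : Subsingleton G
  · refine ⟨Group.isSolvable_of_comm (fun a b => Subsingleton.elim _ _), ⊥,
      ⟨⟨fun a b => Subsingleton.elim _ _⟩⟩, ?_, 0, ?_⟩
    · rw [Subgroup.card_bot]; exact Nat.coprime_one_left p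
    · rw [Subgroup.index_bot, pow_zero]; exact Nat.card_eq_one_iff_unique.mpr ⟨htriv, ⟨1⟩⟩
  rw [not_subsingleton_iff_nontrivial] at htriv
  -- a maximal proper normal subgroup
  obtain ⟨G₁, hG₁n, hG₁top, hmax⟩ : ∃ G₁ : Subgroup G, G₁.Normal ∧ G₁ ≠ ⊤ ∧
      ∀ M : Subgroup G, M.Normal → G₁ ≤ M → M = G₁ ∨ M = ⊤ := by
    let S : Set (Subgroup G) := {H | H.Normal ∧ H ≠ ⊤}
    have hne : S.Nonempty := ⟨⊥, inferInstance, bot_ne_top⟩
    obtain ⟨G₁, ⟨h1, h2⟩, hmax⟩ := (wellFounded_gt (α := Subgroup G)).has_min S hne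
    refine ⟨G₁, h1, h2, fun M hMn hle => ?_⟩
    by_cases hM : M = ⊤
    · right; exact hM
    · left
      by_contra hne'
      exact hmax M ⟨hMn, hM⟩ (lt_of_le_of_ne hle (Ne.symm hne'))
  obtain ⟨g₀, hg₀⟩ : ∃ g₀ : G, g₀ ∉ G₁ := by
    by_contra hcon
    push Not at hcon
    exact hG₁top ((Subgroup.eq_top_iff' G₁).mpr hcon)
  haveI hQnt : Nontrivial (G ⧸ G₁) :=
    ⟨⟨(g₀ : G ⧸ G₁), 1, fun h0 => hg₀ ((QuotientGroup.eq_one_iff g₀).mp h0)⟩⟩
  haveI hQs : IsSimpleGroup (G ⧸ G₁) := by
    refine ⟨fun Hb hHb => ?_⟩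
    have hMn : (Hb.comap (QuotientGroup.mk' G₁)).Normal := hHb.comap _
    have hle : G₁ ≤ Hb.comap (QuotientGroup.mk' G₁) := by
      intro r hr
      rw [Subgroup.mem_comap]
      have : (QuotientGroup.mk' G₁) r = 1 := (QuotientGroup.eq_one_iff r).mpr hr
      rw [this]; exact Hb.one_mem
    have hmap : Hb = (Hb.comap (QuotientGroup.mk' G₁)).map (QuotientGroup.mk' G₁) :=
      (Subgroup.map_comap_eq_self_of_surjective (QuotientGroup.mk'_surjective G₁) Hb).symm
    rcases hmax _ hMn hle with h0 | h0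
    · left
      rw [hmap, h0, QuotientGroup.map_mk'_self]
    · right
      rw [hmap, h0, Subgroup.map_top_of_surjective _ (QuotientGroup.mk'_surjective G₁)]
  have hQ : PPowClass p (G ⧸ G₁) := hG.quotient hp.out G₁
  have hs : (Nat.card (G ⧸ G₁)).Prime := hQ.prime_card_of_simple hp.out
  set s := Nat.card (G ⧸ G₁) with hsdef
  have hidx : G₁.index = s := Subgroup.index_eq_card G₁
  have hG₁ : PPowClass p G₁ := hG.subgroup hp.out G₁
  have hlt : Nat.card G₁ < n := by
    rw [← hn, ← Subgroup.card_mul_index G₁, hidx]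
    have := hs.two_le
    have hpos : 0 < Nat.card G₁ := Nat.card_pos
    nlinarith
  obtain ⟨hsol₁, A, hAc, hA⟩ := ih _ hlt G₁ rfl hG₁
  have hsolQ : Group.IsSolvable (G ⧸ G₁) :=
    isSolvable_of_card_prime_pow (n := 1) hs (by rw [pow_one])
  have hsol : Group.IsSolvable G :=
    Group.isSolvable_of_ker_le_range G₁.subtype (QuotientGroup.mk' G₁)
      (by rw [QuotientGroup.ker_mk', Subgroup.range_subtype])
  refine ⟨hsol, ?_⟩
  by_cases hsp : s = p
  · refine ⟨A.map G₁.subtype, inferInstance, ?_, ?_⟩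
    · rw [Subgroup.card_map_of_injective G₁.subtype_injective]; exact hA.1
    · obtain ⟨j, hj⟩ := hA.2
      exact ⟨j + 1, by rw [Subgroup.index_map_subtype, hj, hidx, hsp, pow_succ]⟩
  -- s ≠ p: an s-element outside G₁
  set m := orderOf g₀ / s ^ (orderOf g₀).factorization s with hm
  set y := g₀ ^ m with hy
  have hms : Nat.Coprime s m := Nat.coprime_ordCompl hs (orderOf_pos g₀).ne'
  have hyG₁ : y ∉ G₁ := by
    intro hmem
    have h1 : ((g₀ : G ⧸ G₁)) ^ m = 1 := by
      rw [← QuotientGroup.mk_pow]; exact (QuotientGroup.eq_one_iff _).mpr hmem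
    have h2 : ((g₀ : G ⧸ G₁)) ^ s = 1 := pow_card_eq_one'
    have h3 : orderOf (g₀ : G ⧸ G₁) ∣ Nat.gcd s m :=
      Nat.dvd_gcd (orderOf_dvd_of_pow_eq_one h2) (orderOf_dvd_of_pow_eq_one h1)
    rw [hms, Nat.dvd_one, orderOf_eq_one_iff] at h3
    exact hg₀ ((QuotientGroup.eq_one_iff g₀).mp h3)
  have hyo : (orderOf y).Coprime p := by
    have h1 : y ^ (s ^ (orderOf g₀).factorization s) = 1 := by
      rw [hy, ← pow_mul, mul_comm, Nat.ordProj_mul_ordCompl_eq_self, pow_orderOf_eq_one]
    have h2 : orderOf y ∣ s ^ (orderOf g₀).factorization s := orderOf_dvd_of_pow_eq_one h1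
    exact Nat.Coprime.coprime_dvd_left h2
      (Nat.Coprime.pow_left _ ((Nat.coprime_primes hs hp.out).mpr hsp))
  obtain ⟨k, hk⟩ := hG y hyo
  set Cy := Subgroup.centralizer ({y} : Set G) with hCy
  set C₁ : Subgroup G₁ := Cy.subgroupOf G₁ with hC₁
  have hC₁idx : ∃ i : ℕ, C₁.index = p ^ i := by
    have h2 : C₁.index ∣ p ^ k := by
      rw [← hk]
      exact relIndex_dvd_index_of_normal_right Cy G₁
    obtain ⟨i, -, hi⟩ := (Nat.dvd_prime_pow hp.out).mp h2
    exact ⟨i, hi⟩
  obtain ⟨i, hi⟩ := hC₁idx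
  have hps : Cfsg.IsPSolvable p C₁ := isPSolvable_of_isSolvable' p hp.out inferInstance
  obtain ⟨A₁, hA₁⟩ := exists_isPCompl p hps
  set A₁' : Subgroup G₁ := A₁.map C₁.subtype with hA₁'
  have hA₁'c : IsPCompl p A₁' := by
    refine ⟨?_, ?_⟩
    · rw [hA₁', Subgroup.card_map_of_injective C₁.subtype_injective]; exact hA₁.1
    · obtain ⟨j, hj⟩ := hA₁.2
      exact ⟨j + i, by rw [hA₁', Subgroup.index_map_subtype, hj, hi, pow_add]⟩
  have hps₁ : Cfsg.IsPSolvable p G₁ := isPSolvable_of_isSolvable' p hp.out hsol₁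
  obtain ⟨g₁, hg₁⟩ := exists_conj_eq_of_isPCompl p hps₁ hA hA₁'c
  have hA₁'comm : IsMulCommutative A₁' := by
    rw [← hg₁, conj_smul_eq_map]; infer_instance
  set B : Subgroup G := A₁'.map G₁.subtype with hB
  have hBcomm : IsMulCommutative B := by rw [hB]; infer_instance
  have hBG₁ : B ≤ G₁ := Subgroup.map_subtype_le A₁'
  have hBy : ∀ b ∈ B, b * y = y * b := by
    intro b hb
    rw [hB, Subgroup.mem_map] at hb
    obtain ⟨b₁, hb₁, rfl⟩ := hb
    rw [hA₁', Subgroup.mem_map] at hb₁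
    obtain ⟨c, -, rfl⟩ := hb₁
    have hc : ((c : G₁) : G) ∈ Cy := Subgroup.mem_subgroupOf.mp c.2
    rw [hCy, Subgroup.mem_centralizer_singleton_iff] at hc
    exact hc
  set K₁ : Subgroup G := Subgroup.closure ((B : Set G) ∪ {y}) with hK₁
  have hBK : B ≤ K₁ := by
    intro b hb
    exact Subgroup.subset_closure (Or.inl hb)
  have hyK : y ∈ K₁ := Subgroup.subset_closure (Or.inr rfl)
  have hK₁comm : IsMulCommutative K₁ := by
    apply Subgroup.isMulCommutative_closure
    rintro u (hu | hu) v (hv | hv)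
    · exact congrArg Subtype.val (hBcomm.is_comm.comm ⟨u, hu⟩ ⟨v, hv⟩)
    · rw [Set.mem_singleton_iff] at hv; rw [hv]; exact hBy u hu
    · rw [Set.mem_singleton_iff] at hu; rw [hu]; exact (hBy v hv).symm
    · rw [Set.mem_singleton_iff] at hu hv; rw [hu, hv]
  -- exponent argument
  set e := Nat.card B * orderOf y with he
  have hecop : e.Coprime p := by
    rw [he]
    apply Nat.Coprime.mul_left _ hyo
    rw [hB, Subgroup.card_map_of_injective G₁.subtype_injective]
    exact hA₁'c.1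
  have hexp : ∀ z ∈ K₁, z ^ e = 1 := by
    intro z hz
    induction hz using Subgroup.closure_induction with
    | mem u hu =>
      rcases hu with hu | hu
      · rw [he, pow_mul]
        have : (⟨u, hu⟩ : B) ^ Nat.card B = 1 := pow_card_eq_one'
        have h2 := congrArg Subtype.val this
        simp only [Subgroup.coe_pow, Subgroup.coe_one] at h2
        rw [h2, one_pow]
      · rw [Set.mem_singleton_iff] at hu
        rw [hu, he, mul_comm, pow_mul, pow_orderOf_eq_one, one_pow]
    | one => exact one_pow _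
    | mul a b ha hb iha ihb =>
      have hc : a * b = b * a := congrArg Subtype.val (hK₁comm.is_comm.comm ⟨a, ha⟩ ⟨b, hb⟩)
      rw [(show Commute a b from hc).mul_pow, iha, ihb, one_mul]
    | inv a ha iha => rw [inv_pow, iha, inv_one]
  have hK₁cop : (Nat.card K₁).Coprime p := by
    rw [Nat.coprime_comm, Nat.Prime.coprime_iff_not_dvd hp.out]
    intro hdvd
    obtain ⟨z, hz⟩ := exists_prime_orderOf_dvd_card' p hdvd
    have h1 : (z : G) ^ e = 1 := hexp z z.2
    have h2 : orderOf (z : G) ∣ e := orderOf_dvd_of_pow_eq_one h1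
    rw [Subgroup.orderOf_coe, hz] at h2
    have h3 : p ∣ Nat.gcd e p := Nat.dvd_gcd h2 dvd_rfl
    rw [hecop] at h3
    exact hp.out.one_lt.ne' (Nat.dvd_one.mp h3)
  refine ⟨K₁, hK₁comm, hK₁cop, ?_⟩
  obtain ⟨j, hj⟩ := hA₁'c.2
  have hBidx : B.index = p ^ j * s := by
    rw [hB, Subgroup.index_map_subtype, hj, hidx]
  have hrel : B.relIndex K₁ * K₁.index = p ^ j * s := by
    rw [Subgroup.relIndex_mul_index hBK, hBidx]
  have hrel1 : B.relIndex K₁ ≠ 1 := by
    intro h1
    rw [Subgroup.relIndex_eq_one] at h1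
    exact hyG₁ (hBG₁ (h1 hyK))
  have hrelcop : (B.relIndex K₁).Coprime p :=
    Nat.Coprime.coprime_dvd_left (Subgroup.relIndex_dvd_card B K₁) hK₁cop
  have hrels : B.relIndex K₁ = s := by
    have h1 : B.relIndex K₁ ∣ p ^ j * s := Dvd.intro _ hrel
    have h2 : B.relIndex K₁ ∣ s :=
      Nat.Coprime.dvd_of_dvd_mul_left (Nat.Coprime.pow_right j hrelcop) h1
    rcases (Nat.dvd_prime hs).mp h2 with h3 | h3
    · exact absurd h3 hrel1
    · exact h3
  refine ⟨j, ?_⟩
  rw [hrels, mul_comm] at hrel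
  exact Nat.eq_of_mul_eq_mul_right hs.pos hrel

/-- Let G be a finite group and p a prime. Every conjugacy class of p-regular elements of G (elements of order prime to p) has p-power size if and only if G has an abelian p-complement, i.e. an abelian subgroup of order prime to p and p-power index. -/
theorem result {G : Type*} [Group G] [Finite G] {p : ℕ} (hp : p.Prime) :
    (∀ x : G, (orderOf x).Coprime p → ∃ k : ℕ, (ConjClasses.mk x).carrier.ncard = p ^ k) ↔
    (∃ H : Subgroup G, IsMulCommutative H ∧ ¬ p ∣ Nat.card H ∧ ∃ k : ℕ, H.index = p ^ k) := by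
  haveI : Fact p.Prime := ⟨hp⟩
  constructor
  · intro h
    have hG : PPowClass p G := by
      intro x hx
      obtain ⟨k, hk⟩ := h x hx
      exact ⟨k, by rw [index_centralizer_eq_ncard_carrier, hk]⟩
    obtain ⟨-, H, hHc, hH1, hH2⟩ := exists_abelian_pcompl p _ G rfl hG
    refine ⟨H, hHc, ?_, hH2⟩
    rw [← Nat.Prime.coprime_iff_not_dvd hp]
    exact hH1.symm
  · rintro ⟨H, hHc, hH1, k, hk⟩ x hx
    have hcop : (Nat.card H).Coprime p := ((Nat.Prime.coprime_iff_not_dvd hp).mpr hH1).symm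
    have hnil : Group.IsNilpotent H := by
      let _ : CommGroup H := { (inferInstance : Group H) with mul_comm := hHc.is_comm.comm }
      exact CommGroup.isNilpotent
    have hHall : (Nat.card H).Coprime H.index := by
      rw [hk]; exact Nat.Coprime.pow_right k hcop
    obtain ⟨g, hg⟩ := exists_conj_mem_of_nilpotent_hall H hnil hHall _ (Subgroup.zpowers x) rfl (by
      intro q hq hqd
      rw [Nat.card_zpowers] at hqd
      have h1 : q ∣ Nat.card G := hqd.trans (orderOf_dvd_natCard x)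
      rw [← Subgroup.card_mul_index H, hk] at h1
      rcases (Nat.Prime.dvd_mul hq).mp h1 with h2 | h2
      · exact h2
      · exfalso
        have h3 := (Nat.prime_dvd_prime_iff_eq hq hp).mp (hq.dvd_of_dvd_pow h2)
        rw [h3] at hqd
        have h4 : p ∣ Nat.gcd (orderOf x) p := Nat.dvd_gcd hqd dvd_rfl
        rw [hx] at h4
        exact hp.one_lt.ne' (Nat.dvd_one.mp h4))
    have hx' : g⁻¹ * x * g ∈ H := hg x (Subgroup.mem_zpowers x)
    have hle : H ≤ Subgroup.centralizer ({g⁻¹ * x * g} : Set G) := by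
      intro h hh
      rw [Subgroup.mem_centralizer_singleton_iff]
      exact congrArg Subtype.val (hHc.is_comm.comm ⟨h, hh⟩ ⟨_, hx'⟩)
    have h2 : (Subgroup.centralizer ({g⁻¹ * x * g} : Set G)).index ∣ p ^ k := by
      rw [← hk]; exact Subgroup.index_dvd_of_le hle
    obtain ⟨i, -, hi⟩ := (Nat.dvd_prime_pow hp).mp h2
    refine ⟨i, ?_⟩
    have hconj : ConjClasses.mk x = ConjClasses.mk (g⁻¹ * x * g) := by
      rw [ConjClasses.mk_eq_mk_iff_isConj, isConj_iff]
      exact ⟨g⁻¹, by rw [inv_inv]⟩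
    rw [hconj, ← index_centralizer_eq_ncard_carrier, hi]

end Cfsg.Agent.S4034
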