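import Cfsg.Statements.S4033
-- import your own Cfsg.Agent.* helpers here
import Mathlib
import Cfsg.Agent.S4034
import Cfsg.Agent.Lib.Helper21.ClassSize
import Cfsg.Agent.Lib.Helper22.PRegJ

set_option autoImplicit false
open Cfsg

namespace Cfsg.Agent.S4033

/-- Let G be a finite group and p a prime, and suppose the conjugacy classes of p-regular elements of G (elements of order prime to p) have exactly two distinct sizes. Then either G has an abelian p-complement (an abelian subgroup of order prime to p and p-power index), or there are a prime q ≠ p, a Sylow p-subgroup P, a Sylow q-subgroup Q and a central subgroup A such that PQ is a normal subgroup of order #P·#Q and G is the internal direct product PQ × A. -/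
theorem result {G : Type*} [Group G] [Finite G] {p : ℕ} (hp : p.Prime)
    (h2 : Set.ncard (Set.range fun x : {x : G // (orderOf x).Coprime p} => (ConjClasses.mk (x : G)).carrier.ncard) = 2) :
    (∃ H : Subgroup G, IsMulCommutative H ∧ ¬ p ∣ Nat.card H ∧ ∃ k : ℕ, H.index = p ^ k) ∨
    (∃ (q : ℕ) (_ : Fact q.Prime) (P : Sylow p G) (Q : Sylow q G) (A : Subgroup G), q ≠ p ∧
        A ≤ Subgroup.center G ∧ Nat.card ↥((P : Subgroup G) ⊔ (Q : Subgroup G)) = Nat.card P * Nat.card Q ∧
        ((P : Subgroup G) ⊔ (Q : Subgroup G)).Normal ∧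
        ((P : Subgroup G) ⊔ (Q : Subgroup G)) ⊓ A = ⊥ ∧ ((P : Subgroup G) ⊔ (Q : Subgroup G)) ⊔ A = ⊤) := by
  classical
  haveI : Fact p.Prime := ⟨hp⟩
  set R : Set ℕ := Set.range fun x : {x : G // (orderOf x).Coprime p} =>
    (ConjClasses.mk (x : G)).carrier.ncard with hR
  have hidx : ∀ x : G, (Subgroup.centralizer ({x} : Set G)).index =
      (ConjClasses.mk x).carrier.ncard :=
    fun x => Cfsg.Agent.Lib.Helper21.index_centralizer_eq_ncard_carrier x
  have hmemR : ∀ x : G, (orderOf x).Coprime p →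
      (Subgroup.centralizer ({x} : Set G)).index ∈ R := by
    intro x hx
    rw [hidx]
    exact ⟨⟨x, hx⟩, rfl⟩
  have h1R : 1 ∈ R := by
    have := hmemR 1 (by rw [orderOf_one]; exact Nat.coprime_one_left p)
    rwa [(Cfsg.Agent.Lib.Helper22.Ito.index_cent_eq_one_iff (1 : G)).2 (Subgroup.one_mem _)] at this
  obtain ⟨a, b, hab, hRab⟩ := Set.ncard_eq_two.1 h2
  -- name the other value
  obtain ⟨m, hm1, hRm⟩ : ∃ m : ℕ, m ≠ 1 ∧ R = {1, m} := by
    rw [hRab] at h1R
    rcases h1R with h1 | h1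
    · exact ⟨b, fun hb => hab (h1.symm.trans hb.symm), by rw [hRab, ← h1]⟩
    · rw [Set.mem_singleton_iff] at h1
      exact ⟨a, fun ha => hab (ha.trans h1), by rw [hRab, ← h1, Set.pair_comm]⟩
  have hmR : m ∈ R := by rw [hRm]; simp
  obtain ⟨⟨x0, hx0p⟩, hx0⟩ := hmR
  simp only at hx0
  rw [← hidx] at hx0
  have hm0 : m ≠ 0 := by
    rw [← hx0]; exact Subgroup.index_ne_zero_of_finite
  have hm : 1 < m := by omega
  have hcs : Cfsg.Agent.Lib.Helper22.PReg.PRegCS G p m := by
    intro x hx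
    have := hmemR x hx
    rw [hRm] at this
    rcases this with h | h
    · exact Or.inl h
    · exact Or.inr h
  have hx0c : x0 ∉ Subgroup.center G := by
    intro hcen
    rw [(Cfsg.Agent.Lib.Helper22.Ito.index_cent_eq_one_iff x0).2 hcen] at hx0
    exact hm1 hx0.symm
  rcases Cfsg.Agent.Lib.Helper22.PReg.dichotomy hp hm hcs ⟨x0, hx0p, hx0c⟩ with ⟨k, hk⟩ | ⟨q, hq, hqp, hcen⟩
  · left
    apply (Cfsg.Agent.S4034.result hp).1
    intro x hx
    rw [← hidx]
    rcases hcs x hx with h | h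
    · exact ⟨0, by rw [h, pow_zero]⟩
    · exact ⟨k, by rw [h, hk]⟩
  · right
    haveI : Fact q.Prime := ⟨hq⟩
    obtain ⟨P⟩ : Nonempty (Sylow p G) := inferInstance
    obtain ⟨Q⟩ : Nonempty (Sylow q G) := inferInstance
    obtain ⟨A, hA1, hA2, hA3, hA4, hA5⟩ :=
      Cfsg.Agent.Lib.Helper22.PReg.structure_pq hqp hcen P Q
    exact ⟨q, ⟨hq⟩, P, Q, A, hqp, hA1, hA2, hA3, hA4, hA5⟩

end Cfsg.Agent.S4033
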