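import Cfsg.Statements.S4126
-- import your own Cfsg.Agent.* helpers here
import Mathlib
import Cfsg.Agent.Lib.Helper9.Stability
import Cfsg.Agent.Lib.Helper10.PGroupBasic
import Cfsg.Agent.Lib.Helper1.PGroup
import Cfsg.Agent.Lib.Helper4.CoprimeIndex
import Cfsg.Agent.Lib.Helper12.PNilpotent

set_option autoImplicit false
open Cfsg

namespace Cfsg.Agent.S4126

open scoped commutatorElement

universe u


/-- class two power formula -/
theorem mul_pow_class2 {Γ : Type*} [Group Γ] (a b c : Γ) (hc : b * a = a * b * c)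
    (hca : Commute c a) (hcb : Commute c b) (n : ℕ) :
    (a * b) ^ n = a ^ n * b ^ n * c ^ (n.choose 2) := by
  have hba : ∀ k : ℕ, b ^ k * a = a * b ^ k * c ^ k := by
    intro k
    induction k with
    | zero => simp
    | succ k ih =>
      have h1 : Commute c (b ^ k) := hcb.pow_right k
      calc b ^ (k + 1) * a = b ^ k * (b * a) := by rw [pow_succ]; group
        _ = b ^ k * (a * b * c) := by rw [hc]
        _ = (b ^ k * a) * b * c := by group
        _ = (a * b ^ k * c ^ k) * b * c := by rw [ih]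
        _ = a * b ^ k * (c ^ k * b) * c := by group
        _ = a * b ^ k * (b * c ^ k) * c := by rw [(hcb.pow_left k).eq]
        _ = a * b ^ (k + 1) * c ^ (k + 1) := by rw [pow_succ, pow_succ]; group
  induction n with
  | zero => simp
  | succ n ih =>
    have h1 : Commute (c ^ (n.choose 2)) a := hca.pow_left _
    have h2 : Commute (c ^ (n.choose 2)) b := hcb.pow_left _
    have h3 : Commute (c ^ n) b := hcb.pow_left _
    have hch : (n + 1).choose 2 = n + n.choose 2 := by
      rw [Nat.choose_succ_succ, Nat.choose_one_right]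
    calc (a * b) ^ (n + 1) = (a * b) ^ n * (a * b) := pow_succ _ _
      _ = a ^ n * b ^ n * c ^ (n.choose 2) * (a * b) := by rw [ih]
      _ = a ^ n * b ^ n * (c ^ (n.choose 2) * a) * b := by group
      _ = a ^ n * b ^ n * (a * c ^ (n.choose 2)) * b := by rw [h1.eq]
      _ = a ^ n * (b ^ n * a) * (c ^ (n.choose 2) * b) := by group
      _ = a ^ n * (a * b ^ n * c ^ n) * (b * c ^ (n.choose 2)) := by rw [hba n, h2.eq]
      _ = a ^ n * a * b ^ n * (c ^ n * b) * c ^ (n.choose 2) := by group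
      _ = a ^ n * a * b ^ n * (b * c ^ n) * c ^ (n.choose 2) := by rw [h3.eq]
      _ = a ^ (n + 1) * b ^ (n + 1) * c ^ ((n + 1).choose 2) := by
        rw [hch, pow_succ, pow_succ, pow_add]; group




/-- Counting lemma: a normal `p`-subgroup all of whose elements have `p`-power class size is
centralized by every `p'`-element. -/
theorem centralizes_of_ppow_classes (p : ℕ) [Fact p.Prime] :
    ∀ (n : ℕ) {G : Type u} [Group G] [Finite G] (D : Subgroup G) [D.Normal],
      Nat.card D = n → IsPGroup p D →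
      (∀ a ∈ D, ∃ k : ℕ, (Subgroup.centralizer ({a} : Set G)).index = p ^ k) →
      ∀ g : G, (orderOf g).Coprime p → ∀ a ∈ D, g * a = a * g := by
  have hp : p.Prime := Fact.out
  intro n
  induction n using Nat.strong_induction_on with
  | _ n ih =>
  intro G _ _ D _ hcard hD hcl g hg
  by_cases hbot : D = ⊥
  · intro a ha
    rw [hbot, Subgroup.mem_bot] at ha
    rw [ha]; simp
  -- a Sylow subgroup containing D
  obtain ⟨P, hDP⟩ := hD.exists_le_sylow
  -- nontrivial element of D central in P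
  have : (D.subgroupOf (P : Subgroup G)).Normal := Subgroup.Normal.subgroupOf inferInstance _
  have hne : D.subgroupOf (P : Subgroup G) ≠ ⊥ := by
    intro h
    apply hbot
    rw [Subgroup.subgroupOf_eq_bot] at h
    rw [disjoint_iff, inf_of_le_left hDP] at h
    exact h
  obtain ⟨⟨z, hzP⟩, hzD, hzc, hz1⟩ :=
    Cfsg.Agent.Lib.Helper10.exists_mem_center_of_normal_ne_bot p P.2 (D.subgroupOf (P : Subgroup G)) hne
  rw [Subgroup.mem_subgroupOf] at hzD
  simp only at hzD
  have hz1' : z ≠ 1 := by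
    intro h; apply hz1; ext; exact h
  -- z is central in G
  have hzcen : ∀ y : G, y * z = z * y := by
    obtain ⟨k, hk⟩ := hcl z hzD
    have hle : (P : Subgroup G) ≤ Subgroup.centralizer ({z} : Set G) := by
      intro u hu
      rw [Subgroup.mem_centralizer_singleton_iff]
      have := Subgroup.mem_center_iff.mp hzc ⟨u, hu⟩
      have h2 := congrArg Subtype.val this
      simpa using h2
    have hdvd : (Subgroup.centralizer ({z} : Set G)).index ∣ (P : Subgroup G).index :=
      Subgroup.index_dvd_of_le hle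
    have hk0 : k = 0 := by
      by_contra hk0
      have : p ∣ (P : Subgroup G).index := by
        apply dvd_trans _ hdvd
        rw [hk]; exact dvd_pow_self p hk0
      exact P.not_dvd_index this
    rw [hk0, pow_zero, Subgroup.index_eq_one] at hk
    intro y
    have : y ∈ Subgroup.centralizer ({z} : Set G) := by rw [hk]; trivial
    rw [Subgroup.mem_centralizer_singleton_iff] at this
    exact this
  -- the central subgroup N
  set N : Subgroup G := Subgroup.zpowers z with hN
  have hNcen : ∀ x ∈ N, ∀ y : G, y * x = x * y := by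
    intro x hx y
    obtain ⟨i, rfl⟩ := Subgroup.mem_zpowers_iff.mp hx
    have : Commute y z := hzcen y
    exact (this.zpow_right i).eq
  have hNn : N.Normal := by
    constructor
    intro x hx y
    have := hNcen x hx y
    rw [this]; simpa using hx
  have hND : N ≤ D := by
    rw [hN, Subgroup.zpowers_le]; exact hzD
  set f := QuotientGroup.mk' N with hf
  have hfs : Function.Surjective f := QuotientGroup.mk'_surjective N
  set D' : Subgroup (G ⧸ N) := D.map f with hD'
  have : D'.Normal := Subgroup.Normal.map inferInstance f hfs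
  have hD'p : IsPGroup p D' := hD.map f
  have hlt : Nat.card D' < n := by
    rw [← hcard]
    have hsurj : Function.Surjective (f.subgroupMap D) := f.subgroupMap_surjective D
    have hninj : ¬ Function.Injective (f.subgroupMap D) := by
      intro hinj
      have h1 : f.subgroupMap D ⟨z, hzD⟩ = f.subgroupMap D 1 := by
        ext
        simp only [MonoidHom.subgroupMap_apply_coe, OneMemClass.coe_one, map_one]
        rw [hf, QuotientGroup.mk'_apply, QuotientGroup.eq_one_iff]
        exact Subgroup.mem_zpowers z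
      have := hinj h1
      apply hz1'
      exact congrArg Subtype.val this
    classical
    haveI := Fintype.ofFinite D
    haveI := Fintype.ofFinite D'
    rw [Nat.card_eq_fintype_card, Nat.card_eq_fintype_card]
    exact Fintype.card_lt_of_surjective_not_injective _ hsurj hninj
  have hcl' : ∀ a ∈ D', ∃ k : ℕ, (Subgroup.centralizer ({a} : Set (G ⧸ N))).index = p ^ k := by
    rintro _ ⟨a, ha, rfl⟩
    obtain ⟨k, hk⟩ := hcl a ha
    have h1 : (Subgroup.centralizer ({a} : Set G)).map f ≤ Subgroup.centralizer ({f a} : Set (G ⧸ N)) := by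
      rintro _ ⟨c, hc, rfl⟩
      have hc : c ∈ Subgroup.centralizer ({a} : Set G) := hc
      rw [Subgroup.mem_centralizer_singleton_iff] at hc ⊢
      rw [← map_mul, ← map_mul, hc]
    have h2 : (Subgroup.centralizer ({f a} : Set (G ⧸ N))).index ∣ p ^ k := by
      rw [← hk]
      exact dvd_trans (Subgroup.index_dvd_of_le h1) (Subgroup.index_map_dvd _ hfs)
    obtain ⟨j, -, hj⟩ := (Nat.dvd_prime_pow hp).mp h2
    exact ⟨j, hj⟩
  have hg' : (orderOf (f g)).Coprime p :=
    Nat.Coprime.coprime_dvd_left (orderOf_map_dvd f g) hg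
  have hIH := ih (Nat.card D') hlt D' rfl hD'p hcl' (f g) hg'
  -- g stabilizes D ≥ N ≥ 1
  haveI : Finite D := inferInstance
  have hcopD : (orderOf g).Coprime (Nat.card D) := by
    obtain ⟨k, hk⟩ := hD.exists_card_eq
    rw [hk]; exact Nat.Coprime.pow_right k hg
  refine Cfsg.Agent.Lib.Helper9.mem_centralizer_of_stabilizes_pair D N hND g hcopD ?_ ?_
  · intro x hx; exact hNcen x hx g
  · intro a ha
    have h1 : f ⁅a, g⁆ = 1 := by
      rw [map_commutatorElement, commutatorElement_eq_one_iff_mul_comm]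
      exact (hIH (f a) ⟨a, ha, rfl⟩).symm
    rw [hf, QuotientGroup.mk'_apply, QuotientGroup.eq_one_iff] at h1
    exact h1



/-- Structure lemma: a minimal normal subgroup of `Γ` inside the normal `p`-subgroup `R` on which the
`p'`-element `g` acts nontrivially has exponent `p` (or `4` if `p = 2`). -/
theorem exists_small_exponent {Γ : Type*} [Group Γ] [Finite Γ] (p : ℕ) [Fact p.Prime] (m : ℕ)
    (hm : m = if p = 2 then 4 else p)
    (R : Subgroup Γ) [R.Normal] (hR : IsPGroup p R) (g : Γ) (hg : (orderOf g).Coprime p)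
    (x : Γ) (hx : x ∈ R) (hgx : g * x ≠ x * g) :
    ∃ D : Subgroup Γ, D.Normal ∧ D ≤ R ∧ (∀ a ∈ D, a ^ m = 1) ∧ ∃ a ∈ D, g * a ≠ a * g := by
  classical
  have hp : p.Prime := Fact.out
  let 𝒮 : Set (Subgroup Γ) := {D | D.Normal ∧ D ≤ R ∧ ∃ a ∈ D, g * a ≠ a * g}
  have h𝒮 : 𝒮.Nonempty := ⟨R, inferInstance, le_rfl, x, hx, hgx⟩
  obtain ⟨D, hD𝒮, hmin⟩ := Set.exists_min_image 𝒮 (fun D => Nat.card D) (Set.toFinite _) h𝒮
  obtain ⟨hDn, hDR, a₀, ha₀, hga₀⟩ := hD𝒮
  have cen : ∀ D₀ : Subgroup Γ, D₀.Normal → D₀ ≤ D → D₀ ≠ D → ∀ a ∈ D₀, g * a = a * g := by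
    intro D₀ hn hle hne a ha
    by_contra hc
    have h1 : D₀ ∈ 𝒮 := ⟨hn, hle.trans hDR, a, ha, hc⟩
    have h2 := hmin D₀ h1
    exact hne (Subgroup.eq_of_le_of_card_ge hle h2)
  have pD : IsPGroup p D := hR.to_le hDR
  have hcopD : (orderOf g).Coprime (Nat.card D) := by
    obtain ⟨k, hk⟩ := pD.exists_card_eq
    rw [hk]; exact Nat.Coprime.pow_right k hg
  have stab : ∀ K : Subgroup Γ, K ≤ D → (∀ k ∈ K, g * k = k * g) → (∀ a ∈ D, ⁅a, g⁆ ∈ K) → False := by
    intro K hK h1 h2
    exact hga₀ (Cfsg.Agent.Lib.Helper9.mem_centralizer_of_stabilizes_pair D K hK g hcopD h1 h2 a₀ ha₀)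
  have hcommD : ∀ a ∈ D, ⁅a, g⁆ ∈ D := by
    intro a ha
    have : ⁅a, g⁆ = a * (g * a⁻¹ * g⁻¹) := by rw [commutatorElement_def]; group
    rw [this]
    exact D.mul_mem ha (hDn.conj_mem a⁻¹ (D.inv_mem ha) g)
  -- the Frattini subgroup of D
  set Φ : Subgroup Γ := (frattini D).map D.subtype with hΦ
  have hΦn : Φ.Normal := ConjAct.normal_of_characteristic_of_normal
  have hΦD : Φ ≤ D := Subgroup.map_subtype_le _
  have hΦne : Φ ≠ D := by
    intro h
    have h1 : frattini D = ⊤ := by
      apply Subgroup.map_injective D.subtype_injective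
      rw [← hΦ, h, ← MonoidHom.range_eq_map, Subgroup.range_subtype]
    rcases eq_top_or_exists_le_coatom (⊥ : Subgroup D) with h2 | ⟨M, hM, -⟩
    · have : (⟨a₀, ha₀⟩ : D) ∈ (⊥ : Subgroup D) := by rw [h2]; trivial
      rw [Subgroup.mem_bot] at this
      have h3 : a₀ = 1 := congrArg Subtype.val this
      apply hga₀; rw [h3]; simp
    · have := frattini_le_coatom hM
      rw [h1, top_le_iff] at this
      exact hM.1 this
  have hcommΦ : ∀ a ∈ D, ∀ b ∈ D, ⁅a, b⁆ ∈ Φ := by
    intro a ha b hb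
    have h1 : ⁅(⟨a, ha⟩ : D), ⟨b, hb⟩⁆ ∈ frattini D :=
      Cfsg.Agent.Lib.Helper1.IsPGroup.commutator_le_frattini pD
        (Subgroup.commutator_mem_commutator (Subgroup.mem_top _) (Subgroup.mem_top _))
    have h2 := Subgroup.mem_map_of_mem D.subtype h1
    rw [map_commutatorElement] at h2
    exact h2
  have hpowΦ : ∀ a ∈ D, a ^ p ∈ Φ := by
    intro a ha
    have h1 : (⟨a, ha⟩ : D) ^ p ∈ frattini D :=
      Cfsg.Agent.Lib.Helper1.IsPGroup.pow_mem_frattini pD _
    have h2 := Subgroup.mem_map_of_mem D.subtype h1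
    rw [map_pow] at h2
    exact h2
  have gΦ : ∀ f ∈ Φ, g * f = f * g := cen Φ hΦn hΦD hΦne
  -- Φ is central in D
  have hΦZ : ∀ f ∈ Φ, ∀ a ∈ D, f * a = a * f := by
    set C : Subgroup Γ := D ⊓ Subgroup.centralizer (Φ : Set Γ) with hC
    have hCn : C.Normal := by
      haveI := hΦn
      haveI := hDn
      infer_instance
    by_cases hCD : C = D
    · intro f hf a ha
      have : a ∈ C := by rw [hCD]; exact ha
      exact (Subgroup.mem_centralizer_iff.mp this.2) f hf
    · exfalso
      refine stab C inf_le_left (cen C hCn inf_le_left hCD) (fun a ha => Subgroup.mem_inf.mpr ⟨hcommD a ha, ?_⟩)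
      rw [Subgroup.mem_centralizer_iff]
      intro f hf
      have hf1 : a⁻¹ * f * a ∈ Φ := by
        have := hΦn.conj_mem f hf a⁻¹
        simpa using this
      have e1 : g⁻¹ * f = f * g⁻¹ := by
        have : Commute g f := gΦ f hf
        exact this.inv_left.eq
      have e2 : g * (a⁻¹ * f * a) = (a⁻¹ * f * a) * g := gΦ _ hf1
      calc f * ⁅a, g⁆ = a * ((a⁻¹ * f * a) * g) * a⁻¹ * g⁻¹ := by
            rw [commutatorElement_def]; group
        _ = a * (g * (a⁻¹ * f * a)) * a⁻¹ * g⁻¹ := by rw [e2]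
        _ = a * g * a⁻¹ * (f * g⁻¹) := by group
        _ = a * g * a⁻¹ * (g⁻¹ * f) := by rw [e1]
        _ = ⁅a, g⁆ * f := by rw [commutatorElement_def]; group
  -- m-th powers land in Φ
  have hmΦ : ∀ a ∈ D, a ^ m ∈ Φ := by
    intro a ha
    by_cases h2 : p = 2
    · rw [hm, if_pos h2]
      have : a ^ 4 = (a ^ p) ^ 2 := by rw [h2, ← pow_mul]
      rw [this]
      exact Φ.pow_mem (hpowΦ a ha) 2
    · rw [hm, if_neg h2]; exact hpowΦ a ha
  -- the m-th power map is multiplicative on D
  have hmul : ∀ a ∈ D, ∀ b ∈ D, (a * b) ^ m = a ^ m * b ^ m := by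
    intro a ha b hb
    set c := ⁅b⁻¹, a⁻¹⁆ with hcdef
    have hcΦ : c ∈ Φ := hcommΦ _ (D.inv_mem hb) _ (D.inv_mem ha)
    have hc : b * a = a * b * c := by rw [hcdef, commutatorElement_def]; group
    have hca : Commute c a := hΦZ c hcΦ a ha
    have hcb : Commute c b := hΦZ c hcΦ b hb
    have hcp : c ^ p = 1 := by
      have h1 : a⁻¹ * b * a = b * c := by rw [hcdef, commutatorElement_def]; group
      have h2 : (a⁻¹ * b * a) ^ p = a⁻¹ * b ^ p * a := by
        have := conj_pow (a := a⁻¹) (b := b) (i := p)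
        simpa using this
      have h3 : (b * c) ^ p = b ^ p * c ^ p := hcb.symm.mul_pow p
      have h4 : a⁻¹ * b ^ p * a = b ^ p := by
        have := hΦZ (b ^ p) (hpowΦ b hb) a ha
        rw [mul_assoc, this, inv_mul_cancel_left]
      rw [h1, h3, h4] at h2
      exact mul_left_cancel (a := b ^ p) (by rw [h2, mul_one])
    have hcm : c ^ (m.choose 2) = 1 := by
      by_cases h2 : p = 2
      · rw [hm, if_pos h2]
        have : Nat.choose 4 2 = 2 * 3 := by decide
        rw [this, pow_mul, ← h2, hcp, one_pow]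
      · rw [hm, if_neg h2]
        have h2lt : 2 < p := lt_of_le_of_ne hp.two_le (Ne.symm h2)
        obtain ⟨k, hk⟩ := hp.dvd_choose_self (by norm_num) h2lt
        rw [hk, pow_mul, hcp, one_pow]
    rw [mul_pow_class2 a b c hc hca hcb m, hcm, mul_one]
  -- the kernel of the power map
  let Ω : Subgroup Γ :=
    { carrier := {a | a ∈ D ∧ a ^ m = 1}
      mul_mem' := by
        rintro a b ⟨ha, ha1⟩ ⟨hb, hb1⟩
        exact ⟨D.mul_mem ha hb, by rw [hmul a ha b hb, ha1, hb1, mul_one]⟩
      one_mem' := ⟨D.one_mem, one_pow _⟩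
      inv_mem' := by
        rintro a ⟨ha, ha1⟩
        exact ⟨D.inv_mem ha, by rw [inv_pow, ha1, inv_one]⟩ }
  have hΩmem : ∀ a, a ∈ Ω ↔ a ∈ D ∧ a ^ m = 1 := fun a => Iff.rfl
  have hΩD : Ω ≤ D := fun a ha => ha.1
  have hΩn : Ω.Normal := by
    constructor
    intro a ha γ
    rw [hΩmem] at ha ⊢
    refine ⟨hDn.conj_mem a ha.1 γ, ?_⟩
    rw [conj_pow, ha.2]; group
  by_cases hΩ : Ω = D
  · refine ⟨D, hDn, hDR, ?_, a₀, ha₀, hga₀⟩
    intro a ha
    have : a ∈ Ω := by rw [hΩ]; exact ha
    exact this.2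
  · exfalso
    refine stab Ω hΩD (cen Ω hΩn hΩD hΩ) (fun a ha => ⟨hcommD a ha, ?_⟩)
    have e0 : ⁅a, g⁆ = a * (g * a⁻¹ * g⁻¹) := by rw [commutatorElement_def]; group
    have hconj : g * a⁻¹ * g⁻¹ ∈ D := hDn.conj_mem a⁻¹ (D.inv_mem ha) g
    rw [e0, hmul a ha _ hconj, conj_pow]
    have h1 : (a⁻¹) ^ m ∈ Φ := by rw [inv_pow]; exact Φ.inv_mem (hmΦ a ha)
    have h2 := gΦ _ h1
    rw [h2, mul_inv_cancel_right, inv_pow, mul_inv_cancel]



/-- A `p`-element of `p`-power class size generates a normal `p`-subgroup. -/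
theorem isPGroup_normalClosure {G : Type*} [Group G] [Finite G] (p : ℕ) [Fact p.Prime] (x : G)
    (k : ℕ) (hx : x ^ p ^ k = 1) (a : ℕ)
    (hidx : (Subgroup.centralizer ({x} : Set G)).index = p ^ a) :
    IsPGroup p (Subgroup.normalClosure ({x} : Set G)) := by
  have hp : p.Prime := Fact.out
  have hzp : IsPGroup p (Subgroup.zpowers x) := by
    apply IsPGroup.of_card (n := (Nat.factorization (orderOf x)) p)
    rw [Nat.card_zpowers]
    obtain ⟨j, -, hj⟩ := (Nat.dvd_prime_pow hp).mp (orderOf_dvd_of_pow_eq_one hx)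
    rw [hj, hp.factorization_pow]; simp
  obtain ⟨P, hP⟩ := hzp.exists_le_sylow
  have hxP : x ∈ (P : Subgroup G) := hP (Subgroup.mem_zpowers x)
  have hcop : Nat.Coprime (P : Subgroup G).index (Subgroup.centralizer ({x} : Set G)).index := by
    rw [hidx]
    exact Nat.Coprime.pow_right a (hp.coprime_iff_not_dvd.mpr P.not_dvd_index).symm
  have hfac := Cfsg.Agent.Lib.Helper4.forall_mul_of_coprime_index (P : Subgroup G)
    (Subgroup.centralizer ({x} : Set G)) hcop
  apply P.2.to_le
  unfold Subgroup.normalClosure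
  rw [Subgroup.closure_le]
  intro y hy
  rw [Group.mem_conjugatesOfSet_iff] at hy
  obtain ⟨x', hx', hconj⟩ := hy
  rw [Set.mem_singleton_iff] at hx'
  subst hx'
  rw [isConj_iff] at hconj
  obtain ⟨c, rfl⟩ := hconj
  obtain ⟨u, hu, k', hk', rfl⟩ := hfac c
  rw [Subgroup.mem_centralizer_singleton_iff] at hk'
  have : u * k' * x' * (u * k')⁻¹ = u * (k' * x') * k'⁻¹ * u⁻¹ := by group
  rw [SetLike.mem_coe, this, hk']
  have : u * (x' * k') * k'⁻¹ * u⁻¹ = u * x' * u⁻¹ := by group
  rw [this]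
  exact (P : Subgroup G).mul_mem ((P : Subgroup G).mul_mem hu hxP) ((P : Subgroup G).inv_mem hu)

/-- Let G be a finite group and p a prime. Suppose every element of order p, and when p = 2 also every element of order 4, has a conjugacy class of p-power size. Then G has a normal p-complement. -/
theorem result {G : Type*} [Group G] [Finite G] (p : ℕ) [Fact p.Prime]
    (h : ∀ x : G, (orderOf x = p ∨ (p = 2 ∧ orderOf x = 4)) → ∃ a : ℕ, (Subgroup.centralizer ({x} : Set G)).index = p ^ a) :
    Cfsg.HasNormalPComplement p G := by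
  have hp : p.Prime := Fact.out
  obtain ⟨m, hm⟩ : ∃ m : ℕ, m = if p = 2 then 4 else p := ⟨_, rfl⟩
  have hmpow : ∃ e : ℕ, m = p ^ e := by
    by_cases h2 : p = 2
    · exact ⟨2, by rw [hm, if_pos h2, h2]; norm_num⟩
    · exact ⟨1, by rw [hm, if_neg h2, pow_one]⟩
  -- every x with x^m = 1 has p-power class size
  have h' : ∀ x : G, x ^ m = 1 → ∃ a : ℕ, (Subgroup.centralizer ({x} : Set G)).index = p ^ a := by
    intro x hx
    by_cases hx1 : x = 1
    · refine ⟨0, ?_⟩
      rw [hx1, pow_zero, Subgroup.index_eq_one, eq_top_iff]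
      intro y _
      rw [Subgroup.mem_centralizer_singleton_iff]; simp
    · have hdvd : orderOf x ∣ m := orderOf_dvd_of_pow_eq_one hx
      have hne1 : orderOf x ≠ 1 := by rwa [Ne, orderOf_eq_one_iff]
      apply h
      by_cases h2 : p = 2
      · rw [hm, if_pos h2] at hdvd
        have h4 : (4 : ℕ) = 2 ^ 2 := by norm_num
        rw [h4] at hdvd
        obtain ⟨j, hj, hj2⟩ := (Nat.dvd_prime_pow Nat.prime_two).mp hdvd
        interval_cases j
        · exact absurd hj2 hne1
        · left; rw [hj2, h2]; norm_num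
        · right; exact ⟨h2, by rw [hj2]; norm_num⟩
      · rw [hm, if_neg h2] at hdvd
        rcases (Nat.dvd_prime hp).mp hdvd with h1 | h1
        · exact absurd h1 hne1
        · left; exact h1
  -- main claim
  have MC : ∀ g : G, (orderOf g).Coprime p → ∀ x : G, x ^ m = 1 → g * x = x * g := by
    intro g hg x hx
    by_contra hgx
    obtain ⟨e, he⟩ := hmpow
    obtain ⟨a, ha⟩ := h' x hx
    have hR : IsPGroup p (Subgroup.normalClosure ({x} : Set G)) :=
      isPGroup_normalClosure p x e (by rw [← he]; exact hx) a ha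
    obtain ⟨D, hDn, hDR, hDexp, b, hb, hgb⟩ :=
      exists_small_exponent p m hm (Subgroup.normalClosure ({x} : Set G)) hR g hg x
        (Subgroup.subset_normalClosure (Set.mem_singleton x)) hgx
    haveI := hDn
    exact hgb (centralizes_of_ppow_classes p (Nat.card D) D rfl (hR.to_le hDR)
      (fun a ha => h' a (hDexp a ha)) g hg b hb)
  rw [Cfsg.Agent.Lib.Helper12.hasNormalPComplement_iff_frobCond]
  intro Q hQ g hgN hg
  rw [Subgroup.mem_centralizer_iff]
  by_contra hcon
  push Not at hcon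
  obtain ⟨x, hxQ, hxg⟩ := hcon
  set Γ : Subgroup G := Q ⊔ Subgroup.zpowers g with hΓ
  have hQΓ : Q ≤ Γ := le_sup_left
  have hΓN : Γ ≤ Subgroup.normalizer (Q : Set G) :=
    sup_le Subgroup.le_normalizer ((Subgroup.zpowers_le).mpr hgN)
  haveI hRn : (Q.subgroupOf Γ).Normal := (Subgroup.normal_subgroupOf_iff_le_normalizer hQΓ).mpr hΓN
  have hR' : IsPGroup p (Q.subgroupOf Γ) := hQ.comap_subtype
  have hgΓ : g ∈ Γ := Subgroup.mem_sup_right (Subgroup.mem_zpowers g)
  have hg' : (orderOf (⟨g, hgΓ⟩ : Γ)).Coprime p := by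
    rw [← Subgroup.orderOf_coe]; exact hg
  have hx' : (⟨x, hQΓ hxQ⟩ : Γ) ∈ Q.subgroupOf Γ := by
    rw [Subgroup.mem_subgroupOf]; exact hxQ
  have hne' : (⟨g, hgΓ⟩ : Γ) * ⟨x, hQΓ hxQ⟩ ≠ ⟨x, hQΓ hxQ⟩ * ⟨g, hgΓ⟩ := by
    intro hc
    apply hxg
    have := congrArg Subtype.val hc
    exact this.symm
  obtain ⟨D, -, -, hDexp, b, hb, hgb⟩ :=
    exists_small_exponent p m hm (Q.subgroupOf Γ) hR' ⟨g, hgΓ⟩ hg' ⟨x, hQΓ hxQ⟩ hx' hne'
  apply hgb
  have h1 : ((b : G)) ^ m = 1 := by
    have := congrArg Subtype.val (hDexp b hb)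
    simpa using this
  have h2 := MC g hg (b : G) h1
  exact Subtype.ext h2

end Cfsg.Agent.S4126
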