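import Cfsg.Statements.S4127
-- import your own Cfsg.Agent.* helpers here
import Mathlib
import Cfsg.Agent.Lib.Helper22.Frobenius
import Cfsg.Agent.Lib.Helper17.Coprime
import Cfsg.Agent.Lib.Helper29.Frobenius
import Cfsg.Agent.Lib.Helper29.MinNonPNilpotent
import Cfsg.Agent.Lib.Helper10.CyclicSup
import Cfsg.Agent.Lib.Helper9.Stability
import Cfsg.Agent.Lib.Helper12.PNilpotent
import Cfsg.Agent.Lib.Helper12.PComplement
import Cfsg.Agent.S0028
import Cfsg.Agent.S4126

set_option autoImplicit false
open Cfsg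

namespace Cfsg.Agent.S4127

open scoped commutatorElement Pointwise


/-- If every `p'`-element has class size prime to `p`, then `p'`-elements commute with `p`-elements. -/
theorem comm_of_pprime_classes {C : Type*} [Group C] [Finite C] (p : ℕ) [Fact p.Prime]
    (hB : ∀ y : C, (orderOf y).Coprime p → ¬ p ∣ (Subgroup.centralizer ({y} : Set C)).index) :
    ∀ y t : C, (orderOf y).Coprime p → (∃ k : ℕ, orderOf t = p ^ k) → y * t = t * y := by
  classical
  have hp : p.Prime := Fact.out
  obtain ⟨T⟩ : Nonempty (Sylow p C) := inferInstance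
  set M : Subgroup C := (T : Subgroup C) ⊔ Subgroup.centralizer ((T : Subgroup C) : Set C) with hM
  -- covering
  have hMtop : M = ⊤ := by
    by_contra hne
    obtain ⟨w, -, hw⟩ := Cfsg.Agent.Lib.Helper22.exists_ne_one_forall_conj_not_mem M hne
    obtain ⟨i, j, hwij, ⟨k, hk⟩, hcop⟩ := Cfsg.Agent.Lib.Helper17.exists_p_pprime_decomp p w
    set s := w ^ i with hs
    set y := w ^ j with hy
    set L : Subgroup C := Subgroup.centralizer ({y} : Set C) with hL
    have hidx : ¬ p ∣ L.index := hB y hcop
    have hsL : s ∈ L := by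
      rw [hL, Subgroup.mem_centralizer_singleton_iff, hs, hy]
      exact (Commute.zpow_zpow_self w i j).eq
    -- Sylow of L containing s
    have hsp : IsPGroup p (Subgroup.zpowers (⟨s, hsL⟩ : L)) := by
      apply IsPGroup.of_card (n := k)
      rw [Nat.card_zpowers, Subgroup.orderOf_mk, hk]
    obtain ⟨Q, hQ⟩ := hsp.exists_le_sylow
    have hcardQ : Nat.card (Q : Subgroup L) = p ^ (Nat.card C).factorization p := by
      rw [Sylow.card_eq_multiplicity]
      congr 1
      have h1 : Nat.card L * L.index = Nat.card C := Subgroup.card_mul_index L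
      rw [← h1, Nat.factorization_mul Nat.card_pos.ne' Subgroup.index_ne_zero_of_finite]
      simp [Nat.factorization_eq_zero_of_not_dvd hidx]
    have hcardT'' : Nat.card ((Q : Subgroup L).map L.subtype) = p ^ (Nat.card C).factorization p := by
      rw [← hcardQ]
      exact Nat.card_congr ((Q : Subgroup L).equivMapOfInjective L.subtype L.subtype_injective).symm.toEquiv
    set S'' : Sylow p C := Sylow.ofCard _ hcardT'' with hS''
    obtain ⟨g, hg⟩ := MulAction.exists_smul_eq C T S''
    apply hw g
    have hsS : s ∈ S'' := by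
      change s ∈ (Q : Subgroup L).map L.subtype
      exact ⟨⟨s, hsL⟩, hQ (Subgroup.mem_zpowers _), rfl⟩
    have h1 : g⁻¹ * s * g ∈ (T : Subgroup C) := by
      rw [← hg] at hsS
      exact (Cfsg.Agent.Lib.Helper29.mem_smul_sylow_iff g s T).mp hsS
    have h2 : g⁻¹ * y * g ∈ Subgroup.centralizer ((T : Subgroup C) : Set C) := by
      rw [Subgroup.mem_centralizer_iff]
      intro u hu
      have hu' : g * u * g⁻¹ ∈ S'' := by
        rw [← hg]
        apply (Cfsg.Agent.Lib.Helper29.mem_smul_sylow_iff g _ T).mpr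
        have : g⁻¹ * (g * u * g⁻¹) * g = u := by group
        rw [this]; exact hu
      obtain ⟨⟨v, hvL⟩, -, hv⟩ := hu'
      have hv' : v = g * u * g⁻¹ := hv
      rw [hL, Subgroup.mem_centralizer_singleton_iff] at hvL
      rw [hv'] at hvL
      calc u * (g⁻¹ * y * g) = g⁻¹ * ((g * u * g⁻¹) * y) * g := by group
        _ = g⁻¹ * (y * (g * u * g⁻¹)) * g := by rw [hvL]
        _ = g⁻¹ * y * g * u := by group
    have : g⁻¹ * w * g = (g⁻¹ * s * g) * (g⁻¹ * y * g) := by
      rw [hwij]; group
    rw [this]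
    exact Subgroup.mul_mem_sup h1 h2
  -- T is normal
  have hTn : (T : Subgroup C).Normal := by
    rw [← Subgroup.normalizer_eq_top_iff, eq_top_iff, ← hMtop, hM]
    exact sup_le Subgroup.le_normalizer (Subgroup.centralizer_le_normalizer _)
  intro y t hy ⟨k, hk⟩
  -- t ∈ T
  have htT : t ∈ (T : Subgroup C) := by
    have htp : IsPGroup p (Subgroup.zpowers t) := by
      apply IsPGroup.of_card (n := k)
      rw [Nat.card_zpowers, hk]
    exact Cfsg.Agent.Lib.Helper29.le_of_isPGroup_of_normal_sylow T _ htp (Subgroup.mem_zpowers t)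
  -- y = t₁ z
  have hyM : y ∈ M := by rw [hMtop]; trivial
  rw [hM, Subgroup.mem_sup_of_normal_left] at hyM
  obtain ⟨t₁, ht₁, z, hz, hyz⟩ := hyM
  have hcomm : Commute t₁ z := by
    rw [Subgroup.mem_centralizer_iff] at hz
    exact (hz t₁ ht₁)
  obtain ⟨k₁, hk₁⟩ := (IsPGroup.iff_orderOf.mp T.2) ⟨t₁, ht₁⟩
  have hk₁' : orderOf t₁ = p ^ k₁ := by rw [← hk₁, Subgroup.orderOf_mk]
  have hpow : y ^ (p ^ k₁) ∈ Subgroup.centralizer ((T : Subgroup C) : Set C) := by
    rw [← hyz, hcomm.mul_pow, ← hk₁', pow_orderOf_eq_one, one_mul]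
    exact Subgroup.pow_mem _ hz _
  have hcop : (p ^ k₁).Coprime (orderOf y) := (Nat.Coprime.pow_right k₁ hy).symm
  obtain ⟨m, hm⟩ := exists_pow_eq_self_of_coprime hcop
  have hyc : y ∈ Subgroup.centralizer ((T : Subgroup C) : Set C) := by
    rw [← hm]; exact Subgroup.pow_mem _ hpow _
  rw [Subgroup.mem_centralizer_iff] at hyc
  exact (hyc t htT).symm

/-- Let G be a finite group, p a prime and p^a the largest power of p dividing the size of any conjugacy class of G. If some element of p-power order has a conjugacy class of size exactly p^a, then G has a normal p-complement. -/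
theorem result {G : Type*} [Group G] [Finite G] (p : ℕ) [Fact p.Prime]
    (a : ℕ) (hmax : ∀ y : G, ¬ p ^ (a + 1) ∣ (Subgroup.centralizer ({y} : Set G)).index)
    (hx : ∃ x : G, (∃ k : ℕ, orderOf x = p ^ k) ∧ (Subgroup.centralizer ({x} : Set G)).index = p ^ a) :
    Cfsg.HasNormalPComplement p G := by
  have hp : p.Prime := Fact.out
  obtain ⟨x, ⟨k, hk⟩, hidx⟩ := hx
  set C : Subgroup G := Subgroup.centralizer ({x} : Set G) with hC
  have hxC : ∀ c ∈ C, c * x = x * c := fun c hc => Subgroup.mem_centralizer_singleton_iff.mp hc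
  -- (i) class sizes of p'-elements in C
  have hB : ∀ y : C, (orderOf y).Coprime p → ¬ p ∣ (Subgroup.centralizer ({y} : Set C)).index := by
    intro y hy hdvd
    set w : G := x * (y : G) with hw
    have hxy : x * (y : G) = (y : G) * x := (hxC y y.2).symm
    have hyord : (orderOf (y : G)).Coprime p := by rw [Subgroup.orderOf_coe]; exact hy
    have hcop : (p ^ k).Coprime (orderOf (y : G)) := (Nat.Coprime.pow_right k hyord).symm
    obtain ⟨m₁, hm₁⟩ := Cfsg.Agent.Lib.Helper10.exists_pow_mul_eq_left (G := G) (p ^ k) (orderOf (y : G)) hcop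
    obtain ⟨m₂, hm₂⟩ := Cfsg.Agent.Lib.Helper10.exists_pow_mul_eq_left (G := G) (orderOf (y : G)) (p ^ k) hcop.symm
    have hxk : x ^ (p ^ k) = 1 := by rw [← hk]; exact pow_orderOf_eq_one x
    have hyk : (y : G) ^ orderOf (y : G) = 1 := pow_orderOf_eq_one _
    have hw1 : w ^ m₁ = x := hm₁ x y hxy hxk hyk
    have hw2 : w ^ m₂ = (y : G) := by
      have := hm₂ (y : G) x hxy.symm hyk hxk
      rw [← hxy] at this
      exact this
    set E : Subgroup G := C ⊓ Subgroup.centralizer ({(y : G)} : Set G) with hE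
    have hle : Subgroup.centralizer ({w} : Set G) ≤ E := by
      intro c hc
      rw [Subgroup.mem_centralizer_singleton_iff] at hc
      have hc' : Commute c w := hc
      refine Subgroup.mem_inf.mpr ⟨?_, ?_⟩
      · rw [hC, Subgroup.mem_centralizer_singleton_iff, ← hw1]
        exact (hc'.pow_right m₁).eq
      · rw [Subgroup.mem_centralizer_singleton_iff, ← hw2]
        exact (hc'.pow_right m₂).eq
    have h1 : E.index ∣ (Subgroup.centralizer ({w} : Set G)).index := Subgroup.index_dvd_of_le hle
    have h2 : E.relIndex C * C.index = E.index := Subgroup.relIndex_mul_index inf_le_left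
    have h3 : E.subgroupOf C = Subgroup.centralizer ({y} : Set C) := by
      ext c
      constructor
      · intro h
        have h' : (c : G) ∈ E := Subgroup.mem_subgroupOf.mp h
        have h'' := (Subgroup.mem_inf.mp h').2
        rw [Subgroup.mem_centralizer_singleton_iff] at h'' ⊢
        exact Subtype.ext h''
      · intro h
        rw [Subgroup.mem_centralizer_singleton_iff] at h
        apply Subgroup.mem_subgroupOf.mpr
        refine Subgroup.mem_inf.mpr ⟨c.2, ?_⟩
        rw [Subgroup.mem_centralizer_singleton_iff]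
        exact congrArg Subtype.val h
    have h4 : p ∣ E.relIndex C := by
      unfold Subgroup.relIndex
      rw [h3]; exact hdvd
    apply hmax w
    apply dvd_trans _ h1
    rw [← h2, hidx, pow_succ, mul_comm]
    exact Nat.mul_dvd_mul_right h4 _
  -- (ii)
  have hcomm := comm_of_pprime_classes p hB
  have hcommG : ∀ y ∈ C, ∀ t ∈ C, (orderOf y).Coprime p → (∃ j : ℕ, orderOf t = p ^ j) → y * t = t * y := by
    intro y hy t ht hyo ⟨j, hj⟩
    have := hcomm ⟨y, hy⟩ ⟨t, ht⟩ (by rw [Subgroup.orderOf_mk]; exact hyo) ⟨j, by rw [Subgroup.orderOf_mk]; exact hj⟩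
    exact congrArg Subtype.val this
  -- (iii)
  set N : Subgroup G := Subgroup.normalClosure ({x} : Set G) with hN
  have hNp : IsPGroup p N :=
    Cfsg.Agent.S4126.isPGroup_normalClosure p x k (by rw [← hk]; exact pow_orderOf_eq_one x) a hidx
  have hxN : x ∈ N := Subgroup.subset_normalClosure (Set.mem_singleton x)
  set K : Subgroup G := Subgroup.centralizer (N : Set G) with hK
  have hKn : K.Normal := Subgroup.normal_centralizer
  have hKC : K ≤ C := by
    intro c hc
    rw [hK, Subgroup.mem_centralizer_iff] at hc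
    rw [hC, Subgroup.mem_centralizer_singleton_iff]
    exact (hc x hxN).symm
  -- (iv) p'-elements of C lie in K
  have hpK : ∀ y ∈ C, (orderOf y).Coprime p → y ∈ K := by
    intro y hy hyo
    have hP : IsPGroup p (Subgroup.zpowers x) := by
      apply IsPGroup.of_card (n := k); rw [Nat.card_zpowers, hk]
    have hQ : (Nat.card (Subgroup.zpowers y)).Coprime p := by rw [Nat.card_zpowers]; exact hyo
    have hnorm : Subgroup.normalizer (N : Set G) = ⊤ := Subgroup.normalizer_eq_top_iff.mpr inferInstance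
    have hres := Cfsg.Agent.S0028.result p (Subgroup.zpowers x) (Subgroup.zpowers y) N hP hQ hNp
      (by
        rw [Subgroup.zpowers_le, Subgroup.mem_centralizer_iff]
        intro h hh
        obtain ⟨i, rfl⟩ := Subgroup.mem_zpowers_iff.mp hh
        have : Commute y x := hxC y hy
        exact (this.zpow_left i).eq)
      (by rw [hnorm]; exact le_top) (by rw [hnorm]; exact le_top)
      (by
        intro n hn
        obtain ⟨hnN, hnx⟩ := Subgroup.mem_inf.mp hn
        rw [Subgroup.mem_centralizer_iff] at hnx ⊢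
        have hnC : n ∈ C := by
          rw [hC, Subgroup.mem_centralizer_singleton_iff]
          exact (hnx x (Subgroup.mem_zpowers x)).symm
        obtain ⟨j, hj⟩ := (IsPGroup.iff_orderOf.mp hNp) ⟨n, hnN⟩
        have hj' : orderOf n = p ^ j := by rw [← hj, Subgroup.orderOf_mk]
        intro h hh
        obtain ⟨i, rfl⟩ := Subgroup.mem_zpowers_iff.mp hh
        have : Commute y n := hcommG y hy n hnC hyo ⟨j, hj'⟩
        exact (this.zpow_left i).eq)
    exact hres (Subgroup.mem_zpowers y)
  -- (v) index of K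
  have hKidx : ∃ b : ℕ, K.index = p ^ b := by
    haveI : (K.subgroupOf C).Normal := Subgroup.Normal.subgroupOf hKn C
    obtain ⟨b, hb⟩ := Cfsg.Agent.Lib.Helper12.index_eq_pow_of_coprime_mem (p := p) (K.subgroupOf C) (by
      intro g hg
      rw [Subgroup.mem_subgroupOf]
      exact hpK g g.2 (by rw [Subgroup.orderOf_coe]; exact hg))
    refine ⟨b + a, ?_⟩
    have := Subgroup.relIndex_mul_index hKC
    rw [← this, hidx]
    unfold Subgroup.relIndex
    rw [hb, pow_add]
  obtain ⟨b, hb⟩ := hKidx
  -- (vii)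
  rw [Cfsg.Agent.Lib.Helper12.hasNormalPComplement_iff_frobCond]
  intro U hU y hyN hyo
  have hyK : y ∈ K := Cfsg.Agent.Lib.Helper29.mem_of_coprime_of_index_pow K b hb y hyo
  rw [Subgroup.mem_centralizer_iff]
  intro u hu
  have h1 : ⁅u, y⁆ ∈ K := by
    have : ⁅u, y⁆ = (u * y * u⁻¹) * y⁻¹ := by rw [commutatorElement_def]
    rw [this]
    exact K.mul_mem (hKn.conj_mem y hyK u) (K.inv_mem hyK)
  have h2 : ⁅u, y⁆ ∈ U := by
    have : ⁅u, y⁆ = u * (y * u⁻¹ * y⁻¹) := by rw [commutatorElement_def]; group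
    rw [this]
    refine U.mul_mem hu ?_
    exact ((Subgroup.mem_normalizer_iff.mp hyN) u⁻¹).mp (U.inv_mem hu)
  obtain ⟨j, hj⟩ := (IsPGroup.iff_orderOf.mp hU) ⟨⁅u, y⁆, h2⟩
  have hj' : orderOf ⁅u, y⁆ = p ^ j := by rw [← hj, Subgroup.orderOf_mk]
  have h3 : y * ⁅u, y⁆ = ⁅u, y⁆ * y := hcommG y (hKC hyK) _ (hKC h1) hyo ⟨j, hj'⟩
  have h4 := Cfsg.Agent.Lib.Helper9.commute_of_commutator_centralized y u h3
    (by rw [hj']; exact Nat.Coprime.pow_right j hyo)
  exact h4.symm

end Cfsg.Agent.S4127
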