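import Cfsg.Statements.S0752
-- import your own Cfsg.Agent.* helpers here

set_option autoImplicit false
open Cfsg

namespace Cfsg.Agent.S0752

/-- hyperbolic family relations -/
def HypRel {F V : Type*} [Field F] [AddCommGroup V] [Module F V] (B : LinearMap.BilinForm F V)
    (m : ℕ) (e f : Fin m → V) : Prop :=
  (∀ i j, B (e i) (f j) = if i = j then 1 else 0) ∧ (∀ i j, B (e i) (e j) = 0) ∧
    (∀ i j, B (f i) (f j) = 0)

theorem coef_left {F V : Type*} [Field F] [AddCommGroup V] [Module F V]
    (B : LinearMap.BilinForm F V) {m : ℕ} {e f : Fin m → V} (h : HypRel B m e f)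
    (g : Fin m ⊕ Fin m → F) (j : Fin m) :
    B (∑ i, g (Sum.inl i) • e i + ∑ i, g (Sum.inr i) • f i) (f j) = g (Sum.inl j) := by
  simp only [map_add, map_sum, map_smul, LinearMap.add_apply, LinearMap.sum_apply,
    LinearMap.smul_apply, h.1, h.2.2, smul_eq_mul, mul_zero, Finset.sum_const_zero, add_zero,
    mul_ite, mul_one, Finset.sum_ite_eq', Finset.mem_univ, if_true]

theorem coef_right {F V : Type*} [Field F] [AddCommGroup V] [Module F V]
    (B : LinearMap.BilinForm F V) {m : ℕ} {e f : Fin m → V} (h : HypRel B m e f)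
    (g : Fin m ⊕ Fin m → F) (j : Fin m) :
    B (e j) (∑ i, g (Sum.inl i) • e i + ∑ i, g (Sum.inr i) • f i) = g (Sum.inr j) := by
  simp only [map_add, map_sum, map_smul, h.1, h.2.1, smul_eq_mul, mul_zero,
    Finset.sum_const_zero, zero_add, mul_ite, mul_one, Finset.sum_ite_eq, Finset.mem_univ,
    if_true]

theorem hyp_linearIndependent {F V : Type*} [Field F] [AddCommGroup V] [Module F V]
    (B : LinearMap.BilinForm F V) {m : ℕ} {e f : Fin m → V} (h : HypRel B m e f) :
    LinearIndependent F (Sum.elim e f) := by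
  rw [Fintype.linearIndependent_iff]
  intro g hg
  rw [Fintype.sum_sum_type] at hg
  simp only [Sum.elim_inl, Sum.elim_inr] at hg
  rintro (j | j)
  · rw [← coef_left B h g j, hg, map_zero, LinearMap.zero_apply]
  · rw [← coef_right B h g j, hg, map_zero]

/-- Classification of alternating forms: for an alternating bilinear form B on a finite-dimensional space over any field there is a basis indexed by (Fin m ⊕ Fin m) ⊕ Fin k such that B (e_i, f_j) = δ_ij, the e's are pairwise orthogonal, the f's are pairwise orthogonal, and the last k basis vectors are orthogonal to everything (they span the radical). -/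
theorem result {F V : Type*} [Field F] [AddCommGroup V] [Module F V] [FiniteDimensional F V] (B : LinearMap.BilinForm F V) (hA : B.IsAlt) : ∃ (m k : ℕ) (b : Module.Basis ((Fin m ⊕ Fin m) ⊕ Fin k) F V), (∀ i j : Fin m, B (b (Sum.inl (Sum.inl i))) (b (Sum.inl (Sum.inr j))) = if i = j then 1 else 0) ∧ (∀ i j : Fin m, B (b (Sum.inl (Sum.inl i))) (b (Sum.inl (Sum.inl j))) = 0) ∧ (∀ i j : Fin m, B (b (Sum.inl (Sum.inr i))) (b (Sum.inl (Sum.inr j))) = 0) ∧ (∀ (j : Fin k) (v : V), B (b (Sum.inr j)) v = 0) := by
  classical
  have hskew : ∀ x y : V, B x y = - B y x := fun x y => (hA.neg_eq y x).symm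
  let P : ℕ → Prop := fun m => ∃ e f : Fin m → V, HypRel B m e f
  have hP0 : P 0 := ⟨Fin.elim0, Fin.elim0, fun i => i.elim0, fun i => i.elim0, fun i => i.elim0⟩
  have hbound : ∀ m, P m → m ≤ Module.finrank F V := by
    rintro m ⟨e, f, h⟩
    have := (hyp_linearIndependent B h).fintype_card_le_finrank
    simp only [Fintype.card_sum, Fintype.card_fin] at this
    omega
  obtain ⟨m, hPm, hmax⟩ : ∃ m, P m ∧ ¬ P (m + 1) := by
    refine ⟨Nat.findGreatest P (Module.finrank F V),
      Nat.findGreatest_spec (Nat.zero_le _) hP0, ?_⟩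
    intro h
    have h1 := hbound _ h
    exact Nat.findGreatest_is_greatest (Nat.lt_succ_self _) h1 h
  obtain ⟨e, f, hef⟩ := hPm
  let W : Submodule F V :=
    { carrier := {v | (∀ i, B (e i) v = 0) ∧ (∀ i, B (f i) v = 0)}
      add_mem' := by
        rintro a b ⟨ha1, ha2⟩ ⟨hb1, hb2⟩
        exact ⟨fun i => by rw [map_add, ha1, hb1, add_zero],
          fun i => by rw [map_add, ha2, hb2, add_zero]⟩
      zero_mem' := ⟨fun i => map_zero _, fun i => map_zero _⟩
      smul_mem' := by
        rintro c a ⟨ha1, ha2⟩
        exact ⟨fun i => by rw [map_smul, ha1, smul_zero],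
          fun i => by rw [map_smul, ha2, smul_zero]⟩ }
  have hWW : ∀ x ∈ W, ∀ y ∈ W, B x y = 0 := by
    intro x hx y hy
    by_contra hc
    apply hmax
    have hxe : ∀ i, B x (e i) = 0 := fun i => by rw [hskew, hx.1 i, neg_zero]
    have hxf : ∀ i, B x (f i) = 0 := fun i => by rw [hskew, hx.2 i, neg_zero]
    have hye : ∀ i, B y (e i) = 0 := fun i => by rw [hskew, hy.1 i, neg_zero]
    have hyf : ∀ i, B y (f i) = 0 := fun i => by rw [hskew, hy.2 i, neg_zero]
    refine ⟨Fin.cons x e, Fin.cons ((B x y)⁻¹ • y) f, ?_, ?_, ?_⟩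
    · intro i j
      refine Fin.cases ?_ (fun i => ?_) i <;> refine Fin.cases ?_ (fun j => ?_) j
      · simp only [Fin.cons_zero, map_smul, smul_eq_mul, if_true]
        exact inv_mul_cancel₀ hc
      · simp only [Fin.cons_zero, Fin.cons_succ, hxf, (Fin.succ_ne_zero j).symm, if_false]
      · simp only [Fin.cons_zero, Fin.cons_succ, map_smul, hy.1 i, smul_zero,
          Fin.succ_ne_zero i, if_false]
      · simp only [Fin.cons_succ, hef.1 i j, Fin.succ_inj]
    · intro i j
      refine Fin.cases ?_ (fun i => ?_) i <;> refine Fin.cases ?_ (fun j => ?_) j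
      · simp only [Fin.cons_zero]; exact hA.self_eq_zero x
      · simp only [Fin.cons_zero, Fin.cons_succ, hxe]
      · simp only [Fin.cons_zero, Fin.cons_succ, hx.1 i]
      · simp only [Fin.cons_succ, hef.2.1 i j]
    · intro i j
      refine Fin.cases ?_ (fun i => ?_) i <;> refine Fin.cases ?_ (fun j => ?_) j
      · simp only [Fin.cons_zero]; exact hA.self_eq_zero _
      · simp only [Fin.cons_zero, Fin.cons_succ, map_smul, LinearMap.smul_apply, hyf, smul_zero]
      · simp only [Fin.cons_zero, Fin.cons_succ, map_smul, hy.2 i, smul_zero]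
      · simp only [Fin.cons_succ, hef.2.2 i j]
  set H := Submodule.span F (Set.range (Sum.elim e f)) with hH
  have hdec : ∀ v : V, ∃ h ∈ H, v - h ∈ W := by
    intro v
    refine ⟨∑ i, B v (f i) • e i + ∑ i, B (e i) v • f i, ?_, ?_, ?_⟩
    · apply Submodule.add_mem
      · apply Submodule.sum_mem
        intro i _
        apply Submodule.smul_mem
        apply Submodule.subset_span
        exact ⟨Sum.inl i, rfl⟩
      · apply Submodule.sum_mem
        intro i _
        apply Submodule.smul_mem
        apply Submodule.subset_span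
        exact ⟨Sum.inr i, rfl⟩
    · intro j
      rw [map_sub]
      have := coef_right B hef (Sum.elim (fun i => B v (f i)) (fun i => B (e i) v)) j
      simp only [Sum.elim_inl, Sum.elim_inr] at this
      rw [this, sub_self]
    · intro j
      rw [map_sub]
      have := coef_left B hef (Sum.elim (fun i => B v (f i)) (fun i => B (e i) v)) j
      simp only [Sum.elim_inl, Sum.elim_inr] at this
      rw [hskew (f j) (∑ i, B v (f i) • e i + ∑ i, B (e i) v • f i), this, hskew (f j) v]
      ring
  have hWH : ∀ w ∈ W, ∀ h ∈ H, B w h = 0 := by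
    intro w hw h hh
    induction hh using Submodule.span_induction with
    | mem x hx =>
      obtain ⟨(i | i), rfl⟩ := hx
      · simp only [Sum.elim_inl]; rw [hskew, hw.1 i, neg_zero]
      · simp only [Sum.elim_inr]; rw [hskew, hw.2 i, neg_zero]
    | zero => exact map_zero _
    | add x y _ _ hx hy => rw [map_add, hx, hy, add_zero]
    | smul c x _ hx => rw [map_smul, hx, smul_zero]
  have hrad : ∀ w ∈ W, ∀ v : V, B w v = 0 := by
    intro w hw v
    obtain ⟨h, hh, hvh⟩ := hdec v
    have : v = h + (v - h) := by abel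
    rw [this, map_add, hWW w hw _ hvh, add_zero]
    exact hWH w hw h hh
  have hdisj : Disjoint H W := by
    rw [Submodule.disjoint_def]
    intro x hxH hxW
    rw [hH, Submodule.mem_span_range_iff_exists_fun] at hxH
    obtain ⟨g, rfl⟩ := hxH
    rw [Fintype.sum_sum_type] at hxW ⊢
    simp only [Sum.elim_inl, Sum.elim_inr] at hxW ⊢
    have h1 : ∀ j, g (Sum.inr j) = 0 := fun j => by
      rw [← coef_right B hef g j]; exact hxW.1 j
    have h2 : ∀ j, g (Sum.inl j) = 0 := fun j => by
      rw [← coef_left B hef g j, hskew, hxW.2 j, neg_zero]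
    simp [h1, h2]
  set bW := Module.finBasis F W with hbW
  have hLIr : LinearIndependent F (fun j => (bW j : V)) :=
    bW.linearIndependent.map' W.subtype (Submodule.ker_subtype W)
  have hspanr : Submodule.span F (Set.range (fun j => (bW j : V))) = W := by
    have : (fun j => (bW j : V)) = W.subtype ∘ bW := rfl
    rw [this, Set.range_comp, Submodule.span_image, bW.span_eq, Submodule.map_subtype_top]
  have hLIall : LinearIndependent F (Sum.elim (Sum.elim e f) (fun j => (bW j : V))) := by
    apply LinearIndependent.sum_type (hyp_linearIndependent B hef) hLIr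
    rw [hspanr]; exact hdisj
  have hspan : ⊤ ≤ Submodule.span F
      (Set.range (Sum.elim (Sum.elim e f) (fun j => (bW j : V)))) := by
    rw [Set.Sum.elim_range, Submodule.span_union, hspanr]
    intro v _
    obtain ⟨h, hh, hvh⟩ := hdec v
    have : v = h + (v - h) := by abel
    rw [this]
    exact Submodule.add_mem_sup hh hvh
  refine ⟨m, Module.finrank F W, Module.Basis.mk hLIall hspan, ?_, ?_, ?_, ?_⟩
  · intro i j
    simp only [Module.Basis.mk_apply, Sum.elim_inl, Sum.elim_inr]
    exact hef.1 i j
  · intro i j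
    simp only [Module.Basis.mk_apply, Sum.elim_inl]
    exact hef.2.1 i j
  · intro i j
    simp only [Module.Basis.mk_apply, Sum.elim_inl, Sum.elim_inr]
    exact hef.2.2 i j
  · intro j v
    simp only [Module.Basis.mk_apply, Sum.elim_inr]
    exact hrad _ (bW j).2 v

end Cfsg.Agent.S0752
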