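import Cfsg.Statements.S0750
import Mathlib

set_option autoImplicit false
open Cfsg

namespace Cfsg.Agent.S0750

section Aux
set_option linter.unusedSectionVars false
set_option linter.unusedVariables false
set_option linter.unusedSimpArgs false
namespace S0750aux
open Cfsg QuadraticMap

variable {F V : Type*} [Field F] [AddCommGroup V] [Module F V]
  (Q : QuadraticForm F V)

lemma Q_add_smul (x u : V) (a : F) : Q (x + a • u) = Q x + a * a * Q u + a * polar Q x u := by
  rw [QuadraticMap.map_add Q, QuadraticMap.map_smul, polar_smul_right]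
  simp only [smul_eq_mul]

lemma Q_add_smul_smul (x u e : V) (a b : F) :
    Q (x + a • u + b • e) = Q x + a * a * Q u + b * b * Q e + a * polar Q x u + b * polar Q x e
      + a * b * polar Q u e := by
  rw [Q_add_smul, Q_add_smul, polar_add_left, polar_smul_left]
  simp only [smul_eq_mul]
  ring

lemma polar_of_isom {g : V → V} (hadd : ∀ x y, g (x + y) = g x + g y) (hg : ∀ x, Q (g x) = Q x)
    (x y : V) : polar Q (g x) (g y) = polar Q x y := by
  simp only [polar, ← hadd, hg]

variable [FiniteDimensional F V]

lemma exists_equiv (hQ : (QuadraticMap.polarBilin Q).Nondegenerate) (f : V →ₗ[F] V)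
    (hf : ∀ x, Q (f x) = Q x) : ∃ g : V ≃ₗ[F] V, ∀ x, g x = f x := by
  have hpol := polar_of_isom Q (fun x y => map_add f x y) hf
  have hinj : Function.Injective f := by
    rw [← LinearMap.ker_eq_bot, LinearMap.ker_eq_bot']
    intro x hx
    apply hQ.1 x
    intro y
    rw [polarBilin_apply_apply, ← hpol, hx]
    simp [polar]
  exact ⟨LinearEquiv.ofInjectiveEndo f hinj, fun x => rfl⟩

lemma exists_T (hQ : (QuadraticMap.polarBilin Q).Nondegenerate) (φ₁ φ₂ : V →ₗ[F] F) (a₁ a₂ : V)
    (h : ∀ x, φ₁ x * φ₁ x * Q a₁ + φ₂ x * φ₂ x * Q a₂ + φ₁ x * polar Q x a₁ + φ₂ x * polar Q x a₂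
      + φ₁ x * φ₂ x * polar Q a₁ a₂ = 0) :
    ∃ g : V ≃ₗ[F] V, (∀ x, Q (g x) = Q x) ∧ ∀ x, g x = x + φ₁ x • a₁ + φ₂ x • a₂ := by
  let f : V →ₗ[F] V := LinearMap.id + φ₁.smulRight a₁ + φ₂.smulRight a₂
  have hf : ∀ x, f x = x + φ₁ x • a₁ + φ₂ x • a₂ := fun x => rfl
  have hfQ : ∀ x, Q (f x) = Q x := fun x => by
    rw [hf, Q_add_smul_smul]
    linear_combination h x
  obtain ⟨g, hg⟩ := exists_equiv Q hQ f hfQ
  exact ⟨g, fun x => by rw [hg, hfQ], fun x => by rw [hg, hf]⟩

lemma riesz (hQ : (QuadraticMap.polarBilin Q).Nondegenerate) (φ : V →ₗ[F] F) :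
    ∃ e, ∀ x, polar Q e x = φ x := by
  have hinj : Function.Injective (QuadraticMap.polarBilin Q) := by
    rw [← LinearMap.ker_eq_bot, LinearMap.ker_eq_bot']
    intro x hx
    apply hQ.1 x
    intro y
    rw [hx]
    rfl
  have hsurj := (LinearMap.injective_iff_surjective_of_finrank_eq_finrank
    (Subspace.dual_finrank_eq (K := F) (V := V)).symm).mp hinj
  obtain ⟨e, he⟩ := hsurj φ
  exact ⟨e, fun x => by rw [← he, polarBilin_apply_apply]⟩

lemma exists_sep (hQ : (QuadraticMap.polarBilin Q).Nondegenerate) (K : Submodule F V) (w : V)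
    (hw : w ∉ K) (t : F) : ∃ e, (∀ k ∈ K, polar Q e k = 0) ∧ polar Q e w = t := by
  obtain ⟨φ, hφ1, hφ2⟩ := LinearMap.exists_extend_of_notMem (0 : K →ₗ[F] F) hw t
  obtain ⟨e, he⟩ := riesz Q hQ φ
  refine ⟨e, fun k hk => ?_, by rw [he, hφ2]⟩
  rw [he]
  have h1 := LinearMap.congr_fun hφ1 ⟨k, hk⟩
  simpa using h1

lemma step (hQ : (QuadraticMap.polarBilin Q).Nondegenerate) (H : Submodule F V) (w v : V)
    (hw : w ∉ H) (hv : v ∉ H) (hQwv : Q w = Q v) (hperp : ∀ h ∈ H, polar Q (w - v) h = 0) :
    ∃ g : V ≃ₗ[F] V, (∀ x, Q (g x) = Q x) ∧ (∀ h ∈ H, g h = h) ∧ g w = v := by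
  obtain ⟨u, hu⟩ : ∃ u, u = w - v := ⟨_, rfl⟩
  rw [← hu] at hperp
  have hwvu : w = v + u := by rw [hu]; abel
  have hvu : Q u = - polar Q v u := by
    have h1 : Q w = Q v + Q u + polar Q v u := by rw [hwvu, QuadraticMap.map_add Q]
    linear_combination hQwv - h1
  have hwu : polar Q w u = Q u := by
    rw [hwvu, polar_add_left, polar_self]
    linear_combination hvu
  have huw : polar Q u w = Q u := by rw [polar_comm, hwu]
  have huv : polar Q u v = - Q u := by rw [polar_comm]; linear_combination hvu
  by_cases hQu : Q u = 0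
  · by_cases hu0 : u = 0
    · refine ⟨LinearEquiv.refl F V, fun x => rfl, fun h _ => rfl, ?_⟩
      rw [hwvu, hu0, add_zero]
      rfl
    · rw [hQu] at huw huv
      have huu : polar Q u u = 0 := by rw [polar_self, hQu]; simp
      by_cases hwK : w ∈ H ⊔ Submodule.span F {u}
      · -- hyperbolic rescaling
        obtain ⟨h₀, hh₀, z, hz, hsum⟩ := Submodule.mem_sup.mp hwK
        obtain ⟨c, rfl⟩ := Submodule.mem_span_singleton.mp hz
        have hc0 : c ≠ 0 := by
          rintro rfl
          apply hw
          rw [← hsum, zero_smul, add_zero]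
          exact hh₀
        have hc1 : c ≠ 1 := by
          rintro rfl
          apply hv
          have h1 : v = h₀ := by
            have h2 : v = w - u := by rw [hwvu]; abel
            rw [h2, ← hsum, one_smul]
            abel
          rw [h1]
          exact hh₀
        have huH : u ∉ H := by
          intro h
          apply hw
          rw [← hsum]
          exact H.add_mem hh₀ (H.smul_mem c h)
        obtain ⟨u'', hu''H, hu''u⟩ := exists_sep Q hQ H u huH 1
        obtain ⟨u', hu'def⟩ : ∃ u', u' = u'' + (-(Q u'')) • u := ⟨_, rfl⟩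
        have hu'u : polar Q u' u = 1 := by
          rw [hu'def, polar_add_left, polar_smul_left, hu''u, huu]
          simp
        have huu' : polar Q u u' = 1 := by rw [polar_comm, hu'u]
        have hQu' : Q u' = 0 := by
          rw [hu'def, Q_add_smul, hQu, hu''u]
          ring
        have hu'H : ∀ h ∈ H, polar Q u' h = 0 := by
          intro h hh
          rw [hu'def, polar_add_left, polar_smul_left, hu''H h hh, hperp h hh]
          simp
        obtain ⟨μ, hμ⟩ : ∃ μ : F, μ = (c - 1) / c := ⟨_, rfl⟩
        have hμ0 : μ ≠ 0 := by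
          rw [hμ]
          exact div_ne_zero (sub_ne_zero.mpr hc1) hc0
        obtain ⟨g, hg1, hg2⟩ := exists_T Q hQ ((μ - 1) • QuadraticMap.polarBilin Q u')
          ((μ⁻¹ - 1) • QuadraticMap.polarBilin Q u) u u' (by
            intro x
            simp only [LinearMap.smul_apply, polarBilin_apply_apply, smul_eq_mul, hQu, hQu', huu',
              polar_comm Q x u, polar_comm Q x u']
            have h1 : μ * μ⁻¹ = 1 := mul_inv_cancel₀ hμ0
            linear_combination (polar Q u' x * polar Q u x) * h1)
        refine ⟨g, hg1, fun h hh => ?_, ?_⟩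
        · rw [hg2]
          simp only [LinearMap.smul_apply, polarBilin_apply_apply, hu'H h hh, hperp h hh]
          simp
        · have hgu : g u = μ • u := by
            rw [hg2]
            simp only [LinearMap.smul_apply, polarBilin_apply_apply, hu'u, huu, smul_eq_mul,
              mul_one, mul_zero, zero_smul, add_zero]
            rw [sub_smul, one_smul]
            abel
          have hgh : g h₀ = h₀ := by
            rw [hg2]
            simp only [LinearMap.smul_apply, polarBilin_apply_apply, hu'H h₀ hh₀, hperp h₀ hh₀]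
            simp
          rw [← hsum, map_add, map_smul, hgu, hgh]
          have h2 : v = w - u := by rw [hwvu]; abel
          rw [h2, ← hsum, smul_smul]
          have h3 : c * μ = c - 1 := by rw [hμ]; field_simp
          rw [h3, sub_smul, one_smul]
          abel
      · -- Siegel transformation
        obtain ⟨e, heK, hew⟩ := exists_sep Q hQ (H ⊔ Submodule.span F {u}) w hwK (-1)
        have heH : ∀ h ∈ H, polar Q e h = 0 := fun h hh =>
          heK h (Submodule.mem_sup_left hh)
        have heu : polar Q e u = 0 :=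
          heK u (Submodule.mem_sup_right (Submodule.mem_span_singleton_self u))
        have hue : polar Q u e = 0 := by rw [polar_comm, heu]
        obtain ⟨g, hg1, hg2⟩ := exists_T Q hQ
          (QuadraticMap.polarBilin Q e - Q e • QuadraticMap.polarBilin Q u)
          (-(QuadraticMap.polarBilin Q u)) u e (by
            intro x
            simp only [LinearMap.sub_apply, LinearMap.smul_apply, LinearMap.neg_apply,
              polarBilin_apply_apply, smul_eq_mul, hQu, hue, polar_comm Q x u, polar_comm Q x e]
            ring)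
        refine ⟨g, hg1, fun h hh => ?_, ?_⟩
        · rw [hg2]
          simp only [LinearMap.sub_apply, LinearMap.smul_apply, LinearMap.neg_apply,
            polarBilin_apply_apply, heH h hh, hperp h hh]
          simp
        · rw [hg2]
          simp only [LinearMap.sub_apply, LinearMap.smul_apply, LinearMap.neg_apply,
            polarBilin_apply_apply, hew, huw]
          rw [hwvu]
          simp
  · -- reflection
    obtain ⟨g, hg1, hg2⟩ := exists_T Q hQ (-(Q u)⁻¹ • QuadraticMap.polarBilin Q u) 0 u 0 (by
      intro x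
      simp only [LinearMap.smul_apply, LinearMap.zero_apply, polarBilin_apply_apply, smul_eq_mul,
        polar_comm Q x u]
      field_simp
      ring)
    refine ⟨g, hg1, fun h hh => ?_, ?_⟩
    · rw [hg2]
      simp only [LinearMap.smul_apply, LinearMap.zero_apply, polarBilin_apply_apply, hperp h hh]
      simp
    · rw [hg2]
      simp only [LinearMap.smul_apply, LinearMap.zero_apply, polarBilin_apply_apply, huw,
        smul_eq_mul, zero_smul, add_zero]
      rw [neg_mul, inv_mul_cancel₀ hQu, hwvu]
      simp

theorem witt_tuple (hQ : (QuadraticMap.polarBilin Q).Nondegenerate) :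
    ∀ (k : ℕ) (x y : Fin k → V), LinearIndependent F x → LinearIndependent F y →
      (∀ a, Q (x a) = Q (y a)) → (∀ a b, polar Q (x a) (x b) = polar Q (y a) (y b)) →
      ∃ g : V ≃ₗ[F] V, (∀ v, Q (g v) = Q v) ∧ ∀ a, g (x a) = y a := by
  intro k
  induction k with
  | zero =>
    intro x y _ _ _ _
    exact ⟨LinearEquiv.refl F V, fun v => rfl, fun a => a.elim0⟩
  | succ k ih =>
    intro x y hx hy hQxy hG
    obtain ⟨x', hx'def⟩ : ∃ x' : Fin k → V, x' = fun a => x a.succ := ⟨_, rfl⟩
    obtain ⟨y', hy'def⟩ : ∃ y' : Fin k → V, y' = fun a => y a.succ := ⟨_, rfl⟩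
    have hxc : x = Fin.cons (x 0) x' := by rw [hx'def]; exact (Fin.cons_self_tail x).symm
    have hyc : y = Fin.cons (y 0) y' := by rw [hy'def]; exact (Fin.cons_self_tail y).symm
    have hx1 : LinearIndependent F (Fin.cons (x 0) x' : Fin (k + 1) → V) := by rw [← hxc]; exact hx
    have hy1 : LinearIndependent F (Fin.cons (y 0) y' : Fin (k + 1) → V) := by rw [← hyc]; exact hy
    obtain ⟨hx', hx0⟩ := linearIndependent_finCons.mp hx1
    obtain ⟨hy', hy0⟩ := linearIndependent_finCons.mp hy1
    obtain ⟨g', hg'1, hg'2⟩ := ih x' y' hx' hy'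
      (fun a => by rw [hx'def, hy'def]; exact hQxy a.succ)
      (fun a b => by rw [hx'def, hy'def]; exact hG a.succ b.succ)
    have hg'pol := polar_of_isom Q (fun x y => map_add g' x y) hg'1
    have hyx' : y' = g' ∘ x' := by funext a; exact (hg'2 a).symm
    have hw : g' (x 0) ∉ Submodule.span F (Set.range y') := by
      intro h
      rw [hyx', Set.range_comp] at h
      have h2 : Submodule.span F (⇑g' '' Set.range x') =
          (Submodule.span F (Set.range x')).map (g' : V →ₗ[F] V) := by
        rw [Submodule.map_span]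
        rfl
      rw [h2] at h
      obtain ⟨z, hz, hzw⟩ := Submodule.mem_map.mp h
      have h1 : z = x 0 := g'.injective hzw
      exact hx0 (h1 ▸ hz)
    have hperp : ∀ h ∈ Submodule.span F (Set.range y'), polar Q (g' (x 0) - y 0) h = 0 := by
      have h1 : Submodule.span F (Set.range y') ≤
          LinearMap.ker (QuadraticMap.polarBilin Q (g' (x 0) - y 0)) := by
        rw [Submodule.span_le]
        rintro _ ⟨a, rfl⟩
        rw [SetLike.mem_coe, LinearMap.mem_ker, polarBilin_apply_apply, polar_sub_left,
          ← hg'2 a, hg'pol, hg'2 a, hx'def, hy'def]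
        rw [hG 0 a.succ, sub_self]
      intro h hh
      have h2 := h1 hh
      rwa [LinearMap.mem_ker, polarBilin_apply_apply] at h2
    obtain ⟨g₁, hg₁1, hg₁2, hg₁3⟩ := step Q hQ (Submodule.span F (Set.range y')) (g' (x 0)) (y 0)
      hw hy0 (by rw [hg'1, hQxy]) hperp
    refine ⟨g'.trans g₁, fun v => ?_, fun a => ?_⟩
    · rw [LinearEquiv.trans_apply, hg₁1, hg'1]
    · refine Fin.cases ?_ (fun a => ?_) a
      · rw [LinearEquiv.trans_apply, hg₁3]
      · rw [LinearEquiv.trans_apply]
        have h1 : g' (x a.succ) = y' a := by rw [← hg'2 a, hx'def]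
        rw [h1, hg₁2 _ (Submodule.subset_span ⟨a, rfl⟩), hy'def]

theorem main {F V : Type*} [Field F] [AddCommGroup V] [Module F V]
    [FiniteDimensional F V] (Q : QuadraticForm F V)
    (hQ : (QuadraticMap.polarBilin Q).Nondegenerate) (X Y : Submodule F V) (φ : X ≃ₗ[F] Y)
    (hφ : ∀ x : X, Q (φ x : V) = Q (x : V)) :
    ∃ g : V ≃ₗ[F] V, (∀ v : V, Q (g v) = Q v) ∧ ∀ x : X, g (x : V) = (φ x : V) := by
  let bX := Module.finBasis F X
  let x : Fin (Module.finrank F X) → V := fun a => (bX a : V)
  let y : Fin (Module.finrank F X) → V := fun a => (φ (bX a) : V)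
  have hx : LinearIndependent F x := bX.linearIndependent.map' X.subtype (Submodule.ker_subtype X)
  have hy : LinearIndependent F y := by
    have h1 := ((bX.map φ).linearIndependent).map' Y.subtype (Submodule.ker_subtype Y)
    have h2 : (Y.subtype ∘ (bX.map φ)) = y := by
      funext a
      simp [y]
    rw [h2] at h1
    exact h1
  have hpol : ∀ p p' : X, polar Q (φ p : V) (φ p' : V) = polar Q (p : V) (p' : V) := by
    intro p p'
    have h1 : (φ p : V) + (φ p' : V) = ((φ (p + p') : Y) : V) := by simp
    have h2 : (p : V) + (p' : V) = ((p + p' : X) : V) := by simp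
    simp only [polar, h1, h2, hφ]
  obtain ⟨g, hg1, hg2⟩ := witt_tuple Q hQ _ x y hx hy (fun a => (hφ (bX a)).symm)
    (fun a b => (hpol (bX a) (bX b)).symm)
  refine ⟨g, hg1, fun v => ?_⟩
  have h3 : g.toLinearMap ∘ₗ X.subtype = Y.subtype ∘ₗ φ.toLinearMap := bX.ext fun a => by
    simpa [x, y] using hg2 a
  exact LinearMap.congr_fun h3 v

end S0750aux
end Aux

/-- Witt's Lemma for quadratic forms over a finite field, in any characteristic: if Q is a quadratic form on a finite-dimensional space V whose polar bilinear form is non-degenerate, then every linear equivalence between subspaces X, Y of V that preserves Q extends to a Q-preserving linear automorphism of V. (In odd characteristic this is the symmetric-bilinear case; in characteristic two it is the statement for non-degenerate quadratic forms.) -/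
theorem result {F V : Type*} [Field F] [Finite F] [AddCommGroup V] [Module F V] [FiniteDimensional F V] (Q : QuadraticForm F V) (hQ : (QuadraticMap.polarBilin Q).Nondegenerate) (X Y : Submodule F V) (φ : X ≃ₗ[F] Y) (hφ : ∀ x : X, Q (φ x : V) = Q (x : V)) : ∃ g : V ≃ₗ[F] V, (∀ v : V, Q (g v) = Q v) ∧ ∀ x : X, g (x : V) = (φ x : V) := by
  exact S0750aux.main Q hQ X Y φ hφ

end Cfsg.Agent.S0750
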