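import Cfsg.Statements.S2590
-- import your own Cfsg.Agent.* helpers here
import Cfsg.Agent.S0750
import Cfsg.Agent.Lib.Helper15.AdjointRing
import Cfsg.Agent.Lib.Helper15.IsometryTransport

set_option autoImplicit false
open Cfsg

namespace Cfsg.Agent.S2590

open Matrix Cfsg.Agent.Lib.Helper15.AdjointRing

universe u

variable {F : Type u} [Field F] {n : ℕ}

lemma mat_ext_bilin (M N : Matrix (Fin n) (Fin n) F)
    (h : ∀ u v : Fin n → F, u ⬝ᵥ M *ᵥ v = u ⬝ᵥ N *ᵥ v) : M = N := by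
  apply Matrix.toBilin'.injective
  apply LinearMap.ext₂
  intro u v
  rw [Matrix.toBilin'_apply', Matrix.toBilin'_apply', h]

lemma exists_gram (Q : QuadraticForm F (Fin n → F))
    (hQ : (QuadraticMap.polarBilin Q).Nondegenerate) :
    ∃ G Gi : Matrix (Fin n) (Fin n) F, Gi * G = 1 ∧ G * Gi = 1 ∧ Gᵀ = G ∧
      ∀ u v, QuadraticMap.polar Q u v = u ⬝ᵥ G *ᵥ v := by
  obtain ⟨G, hG⟩ : ∃ G, G = LinearMap.BilinForm.toMatrix' (QuadraticMap.polarBilin Q) := ⟨_, rfl⟩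
  have hdet : G.det ≠ 0 := by
    rw [← Matrix.nondegenerate_iff_det_ne_zero, hG]
    exact LinearMap.BilinForm.nondegenerate_toMatrix'_iff.2 hQ
  have hu : IsUnit G.det := isUnit_iff_ne_zero.2 hdet
  refine ⟨G, G⁻¹, Matrix.nonsing_inv_mul _ hu, Matrix.mul_nonsing_inv _ hu, ?_, ?_⟩
  · ext i j
    rw [transpose_apply, hG, LinearMap.BilinForm.toMatrix'_apply,
      LinearMap.BilinForm.toMatrix'_apply]
    exact QuadraticMap.polar_comm _ _ _
  · intro u v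
    have h1 : Matrix.toBilin' G = QuadraticMap.polarBilin Q := by
      rw [hG]; exact Matrix.toBilin'_toMatrix' _
    rw [← Matrix.toBilin'_apply', h1]
    rfl

lemma gram_of_isometry (Q : QuadraticForm F (Fin n → F)) (G : Matrix (Fin n) (Fin n) F)
    (hpol : ∀ u v, QuadraticMap.polar Q u v = u ⬝ᵥ G *ᵥ v)
    (A : Matrix (Fin n) (Fin n) F) (hA : ∀ u, Q (A *ᵥ u) = Q u) : Aᵀ * G * A = G := by
  apply mat_ext_bilin
  intro u v
  have h3 : (A *ᵥ u) ⬝ᵥ G *ᵥ (A *ᵥ v) = u ⬝ᵥ (Aᵀ * G * A) *ᵥ v := by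
    rw [← Matrix.mulVec_mulVec, ← Matrix.mulVec_mulVec, Matrix.dotProduct_mulVec u,
      Matrix.vecMul_transpose]
  rw [← h3, ← hpol, ← hpol]
  unfold QuadraticMap.polar
  rw [← Matrix.mulVec_add, hA, hA, hA]

/-- facts about the second form pulled back to the first -/
lemma form_facts (G Gi : Matrix (Fin n) (Fin n) F) (h1 : Gi * G = 1) (h2 : G * Gi = 1)
    (hGs : Gᵀ = G) (A Ai B c ci : Matrix (Fin n) (Fin n) F) (hAAi : A * Ai = 1)
    (hAG : Aᵀ * G * A = G) (hBG : Bᵀ * G * B = G) (hc1 : c * ci = 1) (hc2 : ci * c = 1)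
    (hcAB : c * A = B * c) :
    dag G Gi A = Ai ∧ dag G Gi (Gi * (cᵀ * G * c)) = Gi * (cᵀ * G * c) ∧
      Gi * (cᵀ * G * c) * A = A * (Gi * (cᵀ * G * c)) ∧
      Gi * (cᵀ * G * c) * (ci * Gi * ciᵀ * G) = 1 := by
  have hAiA : Ai * A = 1 := mul_eq_one_comm.1 hAAi
  have hGis : Giᵀ = Gi := by
    have h3 : Giᵀ * G = 1 := by
      calc Giᵀ * G = Giᵀ * Gᵀ := by rw [hGs]
        _ = (G * Gi)ᵀ := by rw [transpose_mul]
        _ = 1 := by rw [h2, transpose_one]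
    calc Giᵀ = Giᵀ * (G * Gi) := by rw [h2, Matrix.mul_one]
      _ = (Giᵀ * G) * Gi := by rw [Matrix.mul_assoc]
      _ = Gi := by rw [h3, Matrix.one_mul]
  obtain ⟨G'', hG''⟩ : ∃ G'', G'' = cᵀ * G * c := ⟨_, rfl⟩
  have hG''s : G''ᵀ = G'' := by
    rw [hG'', transpose_mul, transpose_mul, transpose_transpose, hGs, Matrix.mul_assoc]
  have hAG'' : Aᵀ * G'' * A = G'' := by
    rw [hG'']
    calc Aᵀ * (cᵀ * G * c) * A = (c * A)ᵀ * G * (c * A) := by
          rw [transpose_mul]; simp only [Matrix.mul_assoc]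
      _ = (B * c)ᵀ * G * (B * c) := by rw [hcAB]
      _ = cᵀ * (Bᵀ * G * B) * c := by rw [transpose_mul]; simp only [Matrix.mul_assoc]
      _ = cᵀ * G * c := by rw [hBG]
  have hAiT : Aiᵀ * Aᵀ = 1 := by rw [← transpose_mul, hAAi, transpose_one]
  have hGA : G * A = Aiᵀ * G := by
    calc G * A = (Aiᵀ * Aᵀ) * G * A := by rw [hAiT, Matrix.one_mul]
      _ = Aiᵀ * (Aᵀ * G * A) := by simp only [Matrix.mul_assoc]
      _ = Aiᵀ * G := by rw [hAG]
  have hG''A : G'' * A = Aiᵀ * G'' := by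
    calc G'' * A = (Aiᵀ * Aᵀ) * G'' * A := by rw [hAiT, Matrix.one_mul]
      _ = Aiᵀ * (Aᵀ * G'' * A) := by simp only [Matrix.mul_assoc]
      _ = Aiᵀ * G'' := by rw [hAG'']
  have hAGi : A * Gi = Gi * Aiᵀ := by
    calc A * Gi = (Gi * G) * A * Gi := by rw [h1, Matrix.one_mul]
      _ = Gi * (G * A) * Gi := by simp only [Matrix.mul_assoc]
      _ = Gi * (Aiᵀ * G) * Gi := by rw [hGA]
      _ = Gi * Aiᵀ * (G * Gi) := by simp only [Matrix.mul_assoc]
      _ = Gi * Aiᵀ := by rw [h2, Matrix.mul_one]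
  rw [← hG'']
  refine ⟨?_, ?_, ?_, ?_⟩
  · have h3 : dag G Gi A * A = 1 := by
      unfold dag
      calc Gi * Aᵀ * G * A = Gi * (Aᵀ * G * A) := by simp only [Matrix.mul_assoc]
        _ = 1 := by rw [hAG, h1]
    calc dag G Gi A = dag G Gi A * (A * Ai) := by rw [hAAi, Matrix.mul_one]
      _ = (dag G Gi A * A) * Ai := by rw [Matrix.mul_assoc]
      _ = Ai := by rw [h3, Matrix.one_mul]
  · unfold dag
    rw [transpose_mul, hG''s, hGis]
    calc Gi * (G'' * Gi) * G = Gi * G'' * (Gi * G) := by simp only [Matrix.mul_assoc]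
      _ = Gi * G'' := by rw [h1, Matrix.mul_one]
  · calc Gi * G'' * A = Gi * (G'' * A) := by rw [Matrix.mul_assoc]
      _ = Gi * (Aiᵀ * G'') := by rw [hG''A]
      _ = (Gi * Aiᵀ) * G'' := by rw [Matrix.mul_assoc]
      _ = (A * Gi) * G'' := by rw [hAGi]
      _ = A * (Gi * G'') := by rw [Matrix.mul_assoc]
  · rw [hG'']
    calc Gi * (cᵀ * G * c) * (ci * Gi * ciᵀ * G)
        = Gi * cᵀ * G * (c * ci) * Gi * ciᵀ * G := by simp only [Matrix.mul_assoc]
      _ = Gi * cᵀ * (G * Gi) * ciᵀ * G := by rw [hc1, Matrix.mul_one]; simp only [Matrix.mul_assoc]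
      _ = Gi * (ci * c)ᵀ * G := by rw [h2, Matrix.mul_one, transpose_mul]; simp only [Matrix.mul_assoc]
      _ = 1 := by rw [hc2, transpose_one, Matrix.mul_one, h1]


lemma dot_mulVec (M N : Matrix (Fin n) (Fin n) F) (u v : Fin n → F) :
    (M *ᵥ u) ⬝ᵥ N *ᵥ v = u ⬝ᵥ (Mᵀ * N) *ᵥ v := by
  rw [← Matrix.mulVec_mulVec, Matrix.dotProduct_mulVec u, Matrix.vecMul_transpose]

lemma key_identity (G Gi : Matrix (Fin n) (Fin n) F) (h2 : G * Gi = 1)
    (c s E H H' : Matrix (Fin n) (Fin n) F) (hGs : G * s = cᵀ * G * c)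
    (hEE : E * E = E) (hHH' : H * H' = 1) (hH'E : H' * E = E * H') (hHE : H * E = E * H)
    (hdagH : dag G Gi H * H = s * (1 - E) + E) :
    (c * H')ᵀ * G * (c * H') * (1 - E) = G * (1 - E) := by
  obtain ⟨Fm, hFm⟩ : ∃ Fm, Fm = 1 - E := ⟨_, rfl⟩
  rw [← hFm] at hdagH ⊢
  have hFF : Fm * Fm = Fm := by
    rw [hFm, Matrix.mul_sub, Matrix.sub_mul, Matrix.sub_mul, Matrix.one_mul, Matrix.mul_one,
      Matrix.one_mul, hEE, sub_self, sub_zero]
  have hEF : E * Fm = 0 := by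
    rw [hFm, Matrix.mul_sub, Matrix.mul_one, hEE, sub_self]
  have hH'F : H' * Fm = Fm * H' := by
    rw [hFm, Matrix.mul_sub, Matrix.sub_mul, Matrix.mul_one, Matrix.one_mul, hH'E]
  have hHF : H * Fm = Fm * H := by
    rw [hFm, Matrix.mul_sub, Matrix.sub_mul, Matrix.mul_one, Matrix.one_mul, hHE]
  have hHG : Hᵀ * G = G * dag G Gi H := by
    unfold dag
    calc Hᵀ * G = (G * Gi) * Hᵀ * G := by rw [h2, Matrix.one_mul]
      _ = G * (Gi * Hᵀ * G) := by simp only [Matrix.mul_assoc]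
  have h3 : G * s * Fm = Hᵀ * G * H * Fm := by
    calc G * s * Fm = G * ((s * Fm + E) * Fm) := by
          rw [Matrix.add_mul, Matrix.mul_assoc s, hFF, hEF, add_zero, Matrix.mul_assoc]
      _ = G * (dag G Gi H * H) * Fm := by rw [hdagH, Matrix.mul_assoc]
      _ = (G * dag G Gi H) * H * Fm := by simp only [Matrix.mul_assoc]
      _ = Hᵀ * G * H * Fm := by rw [← hHG]
  calc (c * H')ᵀ * G * (c * H') * Fm = H'ᵀ * (cᵀ * G * c) * (H' * Fm) := by
        rw [transpose_mul]; simp only [Matrix.mul_assoc]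
    _ = H'ᵀ * (G * s * Fm) * H' := by rw [← hGs, hH'F]; simp only [Matrix.mul_assoc]
    _ = H'ᵀ * (Hᵀ * G * H * Fm) * H' := by rw [h3]
    _ = (H * H')ᵀ * G * (H * Fm * H') := by rw [transpose_mul]; simp only [Matrix.mul_assoc]
    _ = G * Fm := by
        rw [hHH', transpose_one, Matrix.one_mul, hHF, Matrix.mul_assoc Fm, hHH', Matrix.mul_one]


/-- the isometry on the non-fixed part: `k₀` preserves `Q` on the range of `1 - E` -/
lemma quad_preserved (Q : QuadraticForm F (Fin n → F)) (G : Matrix (Fin n) (Fin n) F)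
    (hpol : ∀ u v, QuadraticMap.polar Q u v = u ⬝ᵥ G *ᵥ v)
    (A B k₀ E D₁ : Matrix (Fin n) (Fin n) F) (hA : ∀ u, Q (A *ᵥ u) = Q u)
    (hB : ∀ u, Q (B *ᵥ u) = Q u) (hk₀A : k₀ * A = B * k₀)
    (hkey : k₀ᵀ * G * k₀ * (1 - E) = G * (1 - E)) (hEE : E * E = E)
    (hD₁ : (A - 1) * D₁ = 1 - E) (hD₁E : D₁ * E = E * D₁) (w : Fin n → F) :
    Q (k₀ *ᵥ ((1 - E) *ᵥ w)) = Q ((1 - E) *ᵥ w) := by
  obtain ⟨Fm, hFm⟩ : ∃ Fm, Fm = 1 - E := ⟨_, rfl⟩
  rw [← hFm] at hkey hD₁ ⊢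
  have hFF : Fm * Fm = Fm := by
    rw [hFm, Matrix.mul_sub, Matrix.sub_mul, Matrix.sub_mul, Matrix.one_mul, Matrix.mul_one,
      Matrix.one_mul, hEE, sub_self, sub_zero]
  have hD₁F : D₁ * Fm = Fm * D₁ := by
    rw [hFm, Matrix.mul_sub, Matrix.sub_mul, Matrix.mul_one, Matrix.one_mul, hD₁E]
  have hkpol : ∀ u w' : Fin n → F, QuadraticMap.polar Q (k₀ *ᵥ u) (k₀ *ᵥ (Fm *ᵥ w')) =
      QuadraticMap.polar Q u (Fm *ᵥ w') := by
    intro u w'
    rw [hpol, hpol, Matrix.mulVec_mulVec, Matrix.mulVec_mulVec, dot_mulVec, ← Matrix.mul_assoc,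
      ← Matrix.mul_assoc, hkey, Matrix.mulVec_mulVec]
  have hsplit : ∀ a b : Fin n → F, Q (a + b) = QuadraticMap.polar Q a b + Q a + Q b := by
    intro a b
    unfold QuadraticMap.polar
    ring
  obtain ⟨D, hD⟩ : ∃ D : (Fin n → F) → F, D = fun u => Q (k₀ *ᵥ u) - Q u := ⟨_, rfl⟩
  have hDv : ∀ u, D u = Q (k₀ *ᵥ u) - Q u := fun u => by rw [hD]
  have hDadd : ∀ u w' : Fin n → F, D (u + Fm *ᵥ w') = D u + D (Fm *ᵥ w') := by
    intro u w'
    rw [hDv, hDv, hDv, Matrix.mulVec_add, hsplit, hsplit u, hkpol]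
    ring
  obtain ⟨z, hz⟩ : ∃ z, z = (D₁ * Fm) *ᵥ w := ⟨_, rfl⟩
  have hFz : Fm *ᵥ z = z := by
    have h : Fm * (D₁ * Fm) = D₁ * Fm := by
      rw [← Matrix.mul_assoc, ← hD₁F, Matrix.mul_assoc, hFF]
    rw [hz, Matrix.mulVec_mulVec, h]
  have hAz : A *ᵥ z + Fm *ᵥ (-z) = Fm *ᵥ w := by
    have h3 : (A - 1) *ᵥ z = Fm *ᵥ w := by
      rw [hz, Matrix.mulVec_mulVec, ← Matrix.mul_assoc, hD₁, hFF]
    rw [Matrix.mulVec_neg, hFz, ← h3, Matrix.sub_mulVec, Matrix.one_mulVec, sub_eq_add_neg]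
  have hDneg : D (-z) = D z := by
    rw [hDv, hDv, Matrix.mulVec_neg, QuadraticMap.map_neg, QuadraticMap.map_neg]
  have hDA : D (A *ᵥ z) = D z := by
    rw [hDv, hDv, Matrix.mulVec_mulVec, hk₀A, ← Matrix.mulVec_mulVec, hB, hA]
  have hD2 : D (z + z) = D z + D z := by
    have := hDadd z z
    rwa [hFz] at this
  have hD4 : D (z + z) = 4 * D z := by
    rw [hDv, hDv, Matrix.mulVec_add, ← two_smul F z, ← two_smul F (k₀ *ᵥ z),
      QuadraticMap.map_smul, QuadraticMap.map_smul, smul_eq_mul, smul_eq_mul]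
    ring
  have hDx : D (Fm *ᵥ w) = D z + D z := by
    rw [← hAz, hDadd, hDA, Matrix.mulVec_neg, hFz, hDneg]
  have h0 : D (Fm *ᵥ w) = 0 := by
    rw [hDx]
    linear_combination hD2 - hD4
  rw [hDv] at h0
  exact sub_eq_zero.1 h0


lemma eq_zero_of_polar (Q : QuadraticForm F (Fin n → F)) (G Gi : Matrix (Fin n) (Fin n) F)
    (h2 : G * Gi = 1) (hpol : ∀ u v, QuadraticMap.polar Q u v = u ⬝ᵥ G *ᵥ v)
    (x : Fin n → F) (h : ∀ t, QuadraticMap.polar Q x t = 0) : x = 0 := by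
  apply dotProduct_eq_zero
  intro t
  have := h (Gi *ᵥ t)
  rw [hpol, Matrix.mulVec_mulVec, h2, Matrix.one_mulVec] at this
  exact this

theorem core [Finite F] (Q : QuadraticForm F (Fin n → F))
    (hnd : (QuadraticMap.polarBilin Q).Nondegenerate)
    (A B : Matrix (Fin n) (Fin n) F) (hA : ∀ u, Q (A *ᵥ u) = Q u) (hB : ∀ u, Q (B *ᵥ u) = Q u)
    (M : ℕ) (hM : A ^ M = 1) (hMF : (M : F) ≠ 0) (hodd : Odd M)
    (c ci : Matrix (Fin n) (Fin n) F) (hc1 : c * ci = 1) (hc2 : ci * c = 1)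
    (hcAB : c * A = B * c) :
    ∃ g gi : Matrix (Fin n) (Fin n) F, g * gi = 1 ∧ gi * g = 1 ∧ (∀ u, Q (g *ᵥ u) = Q u) ∧
      g * A = B * g := by
  classical
  obtain ⟨G, Gi, h1, h2, hGs, hpol⟩ := exists_gram Q hnd
  have hAG := gram_of_isometry Q G hpol A hA
  have hBG := gram_of_isometry Q G hpol B hB
  obtain ⟨M', rfl⟩ : ∃ M', M = M' + 1 := ⟨M - 1, by have := hodd.pos; omega⟩
  obtain ⟨Ai, hAi⟩ : ∃ Ai, Ai = A ^ M' := ⟨_, rfl⟩
  have hAAi : A * Ai = 1 := by rw [hAi, ← pow_succ', hM]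
  have hAiA : Ai * A = 1 := mul_eq_one_comm.1 hAAi
  obtain ⟨s, hs⟩ : ∃ s, s = Gi * (cᵀ * G * c) := ⟨_, rfl⟩
  obtain ⟨hdagA, hdags, hsA, hss⟩ :=
    form_facts G Gi h1 h2 hGs A Ai B c ci hAAi hAG hBG hc1 hc2 hcAB
  rw [← hs] at hdags hsA hss
  have hGs' : G * s = cᵀ * G * c := by rw [hs, ← Matrix.mul_assoc, h2, Matrix.one_mul]
  -- the commutative ring
  obtain ⟨S, hS⟩ : ∃ S : Set (Matrix (Fin n) (Fin n) F), S = {A, s} := ⟨_, rfl⟩
  have hAS : A ∈ Algebra.adjoin F S :=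
    Algebra.subset_adjoin (by rw [hS]; exact Set.mem_insert _ _)
  have hsS : s ∈ Algebra.adjoin F S :=
    Algebra.subset_adjoin (by rw [hS]; exact Set.mem_insert_of_mem _ rfl)
  have hcomm : ∀ a ∈ S, ∀ b ∈ S, a * b = b * a := by
    intro a ha b hb
    rw [hS, Set.mem_insert_iff, Set.mem_singleton_iff] at ha hb
    rcases ha with rfl | rfl <;> rcases hb with rfl | rfl
    · rfl
    · exact hsA.symm
    · exact hsA
    · rfl
  have hSdag : ∀ y ∈ S, dag G Gi y ∈ Algebra.adjoin F S := by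
    intro y hy
    rw [hS, Set.mem_insert_iff, Set.mem_singleton_iff] at hy
    rcases hy with rfl | rfl
    · rw [hdagA, hAi]; exact pow_mem hAS _
    · rw [hdags]; exact hsS
  obtain ⟨L, _, _, ι, σ, hinj, hrange, hισ, hσσ⟩ :=
    exists_commRing G Gi h1 h2 (Or.inl hGs) S hcomm hSdag
  obtain ⟨a, ha⟩ := (hrange A).1 hAS
  obtain ⟨s₀, hs₀⟩ := (hrange s).1 hsS
  obtain ⟨ai, hai⟩ := (hrange Ai).1 (by rw [hAi]; exact pow_mem hAS _)
  have hsu : IsUnit s := ⟨⟨s, _, hss, mul_eq_one_comm.1 hss⟩, rfl⟩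
  obtain ⟨s', hs'S, hss', -⟩ :=
    Cfsg.Agent.Lib.Helper15.AdjoinInv.exists_inv_mem (Algebra.adjoin F S) s hsS hsu
  obtain ⟨s₀', hs₀'⟩ := (hrange s').1 hs'S
  obtain ⟨m', hm'⟩ := (hrange (algebraMap F _ (((M' + 1 : ℕ) : F)⁻¹))).1
    (Subalgebra.algebraMap_mem _ _)
  have haM : a ^ (M' + 1) = 1 := hinj (by rw [map_pow, ha, hM, map_one])
  have hm : m' * ((M' + 1 : ℕ) : L) = 1 := by
    apply hinj
    rw [map_mul, hm', map_natCast, map_one,
      ← map_natCast (algebraMap F (Matrix (Fin n) (Fin n) F)) (M' + 1), ← map_mul,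
      inv_mul_cancel₀ hMF, map_one]
  have hai' : a * ai = 1 := hinj (by rw [map_mul, ha, hai, hAAi, map_one])
  have hσa : σ a = ai := hinj (by rw [hισ, ha, hai, hdagA])
  have hσs : σ s₀ = s₀ := hinj (by rw [hισ, hs₀, hdags])
  have hss₀ : s₀ * s₀' = 1 := hinj (by rw [map_mul, hs₀, hs₀', hss', map_one])
  obtain ⟨e, d₁, h, h', hee, hae, hσe, hd₁, hhh', hσh⟩ :=
    exists_isometry_factor σ hσσ a ai s₀ s₀' m' (M' + 1) hodd haM hm hai' hσa hσs hss₀
  have hcL : ∀ x y : L, ι x * ι y = ι y * ι x := by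
    intro x y
    rw [← map_mul, ← map_mul, mul_comm]
  obtain ⟨E, hE⟩ : ∃ E, E = ι e := ⟨_, rfl⟩
  obtain ⟨D₁, hD₁'⟩ : ∃ D₁, D₁ = ι d₁ := ⟨_, rfl⟩
  obtain ⟨H, hH⟩ : ∃ H, H = ι h := ⟨_, rfl⟩
  obtain ⟨H', hH'⟩ : ∃ H', H' = ι h' := ⟨_, rfl⟩
  have hEE : E * E = E := by rw [hE, ← map_mul, hee]
  have hAE : A * E = E := by rw [hE, ← ha, ← map_mul, hae]
  have hEA : E * A = E := by rw [hE, ← ha, hcL, ← map_mul, hae]
  have hdagE : dag G Gi E = E := by rw [hE, ← hισ, hσe]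
  have hD₁ : (A - 1) * D₁ = 1 - E := by
    have := congrArg ι hd₁
    rw [map_mul, map_sub, map_sub, map_one, ha] at this
    rw [hD₁', hE]
    exact this
  have hHH' : H * H' = 1 := by rw [hH, hH', ← map_mul, hhh', map_one]
  have hH'H : H' * H = 1 := mul_eq_one_comm.1 hHH'
  have hdagH : dag G Gi H * H = s * (1 - E) + E := by
    have := congrArg ι hσh
    rw [map_mul, hισ, map_add, map_mul, map_sub, map_one, hs₀] at this
    rw [hH, hE]
    exact this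
  have hH'E : H' * E = E * H' := by rw [hH', hE]; exact hcL _ _
  have hHE : H * E = E * H := by rw [hH, hE]; exact hcL _ _
  have hD₁E : D₁ * E = E * D₁ := by rw [hD₁', hE]; exact hcL _ _
  have hH'A : H' * A = A * H' := by rw [hH', ← ha]; exact hcL _ _
  -- the partial isometry
  obtain ⟨k₀, hk₀⟩ : ∃ k₀, k₀ = c * H' := ⟨_, rfl⟩
  obtain ⟨k₀i, hk₀i⟩ : ∃ k₀i, k₀i = H * ci := ⟨_, rfl⟩
  have hk1 : k₀ * k₀i = 1 := by
    rw [hk₀, hk₀i]
    calc c * H' * (H * ci) = c * (H' * H) * ci := by simp only [Matrix.mul_assoc]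
      _ = 1 := by rw [hH'H, Matrix.mul_one, hc1]
  have hk2 : k₀i * k₀ = 1 := mul_eq_one_comm.1 hk1
  have hk₀A : k₀ * A = B * k₀ := by
    rw [hk₀, Matrix.mul_assoc, hH'A, ← Matrix.mul_assoc, hcAB, Matrix.mul_assoc]
  have hkey : k₀ᵀ * G * k₀ * (1 - E) = G * (1 - E) := by
    rw [hk₀]
    exact key_identity G Gi h2 c s E H H' hGs' hEE hHH' hH'E hHE hdagH
  have hQk : ∀ w, Q (k₀ *ᵥ ((1 - E) *ᵥ w)) = Q ((1 - E) *ᵥ w) :=
    quad_preserved Q G hpol A B k₀ E D₁ hA hB hk₀A hkey hEE hD₁ hD₁E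
  -- Witt
  obtain ⟨K₀, hK₀⟩ : ∃ K₀ : (Fin n → F) ≃ₗ[F] (Fin n → F), ∀ v, K₀ v = k₀ *ᵥ v :=
    ⟨Matrix.toLin'OfInv hk2 hk1, fun v => by
      show (Matrix.toLin' k₀) v = _
      rw [Matrix.toLin'_apply]⟩
  obtain ⟨X, hX⟩ : ∃ X : Submodule F (Fin n → F), X = LinearMap.range (Matrix.toLin' (1 - E)) :=
    ⟨_, rfl⟩
  have hXmem : ∀ w, (1 - E) *ᵥ w ∈ X := by
    intro w
    rw [hX]
    exact ⟨w, by rw [Matrix.toLin'_apply]⟩
  have hφ : ∀ x : X, Q ((K₀.submoduleMap X x : Fin n → F)) = Q (x : Fin n → F) := by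
    intro x
    have hx : (x : Fin n → F) ∈ LinearMap.range (Matrix.toLin' (1 - E)) := by
      rw [← hX]; exact x.2
    obtain ⟨w, hw⟩ := hx
    rw [Matrix.toLin'_apply] at hw
    rw [LinearEquiv.submoduleMap_apply, hK₀, ← hw]
    exact hQk w
  obtain ⟨g, hgQ, hgx⟩ := Cfsg.Agent.S0750.result Q hnd X _ (K₀.submoduleMap X) hφ
  have hgX : ∀ w, g ((1 - E) *ᵥ w) = k₀ *ᵥ ((1 - E) *ᵥ w) := by
    intro w
    have := hgx ⟨_, hXmem w⟩
    rw [LinearEquiv.submoduleMap_apply, hK₀] at this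
    exact this
  have hgpol : ∀ x y, QuadraticMap.polar Q (g x) (g y) = QuadraticMap.polar Q x y := by
    intro x y
    unfold QuadraticMap.polar
    rw [← map_add, hgQ, hgQ, hgQ]
  have hBpol : ∀ x y, QuadraticMap.polar Q (B *ᵥ x) (B *ᵥ y) = QuadraticMap.polar Q x y := by
    intro x y
    unfold QuadraticMap.polar
    rw [← Matrix.mulVec_add, hB, hB, hB]
  -- g intertwines
  have hint : ∀ v, g (A *ᵥ v) = B *ᵥ g v := by
    intro v
    have hv : v = (1 - E) *ᵥ v + E *ᵥ v := by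
      rw [← Matrix.add_mulVec, sub_add_cancel, Matrix.one_mulVec]
    have hAF : A * (1 - E) = (1 - E) * A := by
      rw [Matrix.mul_sub, Matrix.sub_mul, Matrix.mul_one, Matrix.one_mul, hAE, hEA]
    have hpart1 : g (A *ᵥ ((1 - E) *ᵥ v)) = B *ᵥ g ((1 - E) *ᵥ v) := by
      have e1 : A *ᵥ ((1 - E) *ᵥ v) = (1 - E) *ᵥ (A *ᵥ v) := by
        rw [Matrix.mulVec_mulVec, Matrix.mulVec_mulVec, hAF]
      rw [e1, hgX, hgX, ← e1, Matrix.mulVec_mulVec _ k₀ A, hk₀A, ← Matrix.mulVec_mulVec]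
    have hpart2 : g (A *ᵥ (E *ᵥ v)) = B *ᵥ g (E *ᵥ v) := by
      rw [Matrix.mulVec_mulVec, hAE]
      obtain ⟨y, hy⟩ : ∃ y, y = g (E *ᵥ v) := ⟨_, rfl⟩
      rw [← hy]
      have hperp : ∀ t, QuadraticMap.polar Q y (B *ᵥ t) = QuadraticMap.polar Q y t := by
        intro t
        have h3 : B *ᵥ t - t = g ((1 - E) *ᵥ ((A - 1) *ᵥ (k₀i *ᵥ t))) := by
          rw [hgX, Matrix.mulVec_mulVec, Matrix.mulVec_mulVec, Matrix.mulVec_mulVec]
          have h4 : k₀ * (1 - E) * (A - 1) * k₀i = B - 1 := by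
            have h5 : (1 - E) * (A - 1) = A - 1 := by
              rw [Matrix.sub_mul, Matrix.one_mul, Matrix.mul_sub, Matrix.mul_one, hEA, sub_self,
                sub_zero]
            calc k₀ * (1 - E) * (A - 1) * k₀i = k₀ * ((1 - E) * (A - 1)) * k₀i := by
                  simp only [Matrix.mul_assoc]
              _ = (k₀ * A - k₀) * k₀i := by rw [h5, Matrix.mul_sub, Matrix.mul_one]
              _ = B * (k₀ * k₀i) - k₀ * k₀i := by
                  rw [hk₀A, Matrix.sub_mul, Matrix.mul_assoc]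
              _ = B - 1 := by rw [hk1, Matrix.mul_one]
          rw [h4, Matrix.sub_mulVec, Matrix.one_mulVec]
        have h6 : QuadraticMap.polar Q y (B *ᵥ t - t) = 0 := by
          rw [h3, hy, hgpol, hpol, Matrix.mulVec_mulVec, dot_mulVec]
          have h7 : Eᵀ * (G * (1 - E)) = 0 := by
            have h8 : Eᵀ * G = G * E := by
              have : dag G Gi E = E := hdagE
              unfold dag at this
              calc Eᵀ * G = (G * Gi) * Eᵀ * G := by rw [h2, Matrix.one_mul]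
                _ = G * (Gi * Eᵀ * G) := by simp only [Matrix.mul_assoc]
                _ = G * E := by rw [this]
            rw [← Matrix.mul_assoc, h8, Matrix.mul_assoc, Matrix.mul_sub, Matrix.mul_one, hEE,
              sub_self, Matrix.mul_zero]
          rw [h7, Matrix.zero_mulVec, dotProduct_zero]
        rw [QuadraticMap.polar_sub_right, sub_eq_zero] at h6
        exact h6
      have hz : B *ᵥ y - y = 0 := by
        apply eq_zero_of_polar Q G Gi h2 hpol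
        intro t'
        obtain ⟨Bi, hBi⟩ : ∃ Bi, Bi = c * Ai * ci := ⟨_, rfl⟩
        have hBBi : B * Bi = 1 := by
          rw [hBi]
          calc B * (c * Ai * ci) = (B * c) * Ai * ci := by simp only [Matrix.mul_assoc]
            _ = c * (A * Ai) * ci := by rw [← hcAB]; simp only [Matrix.mul_assoc]
            _ = 1 := by rw [hAAi, Matrix.mul_one, hc1]
        have ht' : t' = B *ᵥ (Bi *ᵥ t') := by
          rw [Matrix.mulVec_mulVec, hBBi, Matrix.one_mulVec]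
        rw [ht', QuadraticMap.polar_sub_left, hBpol, hperp, sub_self]
      exact (sub_eq_zero.1 hz).symm
    rw [hv, Matrix.mulVec_add, map_add, map_add, Matrix.mulVec_add, hpart1, hpart2]
  -- matrices of g
  obtain ⟨gm, hgm⟩ : ∃ gm, gm = LinearMap.toMatrix' (g : (Fin n → F) →ₗ[F] (Fin n → F)) :=
    ⟨_, rfl⟩
  obtain ⟨gmi, hgmi⟩ : ∃ gmi, gmi = LinearMap.toMatrix' (g.symm : (Fin n → F) →ₗ[F] (Fin n → F)) :=
    ⟨_, rfl⟩
  have hgv : ∀ v, gm *ᵥ v = g v := by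
    intro v
    rw [hgm, ← Matrix.toLin'_apply, Matrix.toLin'_toMatrix']
    rfl
  have hg1 : gm * gmi = 1 := by
    rw [hgm, hgmi, ← LinearMap.toMatrix'_comp]
    have : (g : (Fin n → F) →ₗ[F] (Fin n → F)).comp (g.symm : (Fin n → F) →ₗ[F] (Fin n → F)) =
        LinearMap.id := by
      ext v : 1
      simp
    rw [this, LinearMap.toMatrix'_id]
  refine ⟨gm, gmi, hg1, mul_eq_one_comm.1 hg1, ?_, ?_⟩
  · intro u
    rw [hgv, hgQ]
  · apply Matrix.toLin'.injective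
    apply LinearMap.ext
    intro v
    rw [Matrix.toLin'_apply, Matrix.toLin'_apply, ← Matrix.mulVec_mulVec, ← Matrix.mulVec_mulVec,
      hgv, hgv, hint]


theorem main {F : Type*} [Field F] [Fintype F] {p : ℕ} [hp : Fact p.Prime] [CharP F p] {n : ℕ}
    (Q : QuadraticForm F (Fin n → F)) (hQ : (QuadraticMap.polarBilin Q).Nondegenerate)
    (A B : ↥(Cfsg.isometryGroup F ⇑Q)) (hodd : Odd (orderOf A)) (hA : (orderOf A).Coprime p) :
    IsConj A B ↔ IsConj ((A : Matrix.GeneralLinearGroup (Fin n) F) : Matrix (Fin n) (Fin n) F)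
      ((B : Matrix.GeneralLinearGroup (Fin n) F) : Matrix (Fin n) (Fin n) F) := by
  constructor
  · intro h
    obtain ⟨c, hc⟩ := isConj_iff.1 h
    refine ⟨(c : Matrix.GeneralLinearGroup (Fin n) F), ?_⟩
    have h1 : c * A = B * c := by rw [← hc]; group
    have h2 := congrArg (fun x : ↥(Cfsg.isometryGroup F ⇑Q) =>
      ((x : Matrix.GeneralLinearGroup (Fin n) F) : Matrix (Fin n) (Fin n) F)) h1
    exact h2
  · rintro ⟨c, hc⟩
    have hAq := (Cfsg.Agent.Lib.Helper15.mem_isometryGroup_iff (⇑Q) A.1).1 A.2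
    have hBq := (Cfsg.Agent.Lib.Helper15.mem_isometryGroup_iff (⇑Q) B.1).1 B.2
    have hM : ((A : Matrix.GeneralLinearGroup (Fin n) F) : Matrix (Fin n) (Fin n) F) ^ orderOf A
        = 1 := by
      rw [← Units.val_pow_eq_pow_val, ← Subgroup.coe_pow, pow_orderOf_eq_one, Subgroup.coe_one,
        Units.val_one]
    have hMF : ((orderOf A : ℕ) : F) ≠ 0 := by
      rw [Ne, CharP.cast_eq_zero_iff F p]
      intro hd
      exact hp.out.one_lt.ne' (hA.symm.eq_one_of_dvd hd)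
    have hc' : (c : Matrix (Fin n) (Fin n) F) *
        ((A : Matrix.GeneralLinearGroup (Fin n) F) : Matrix (Fin n) (Fin n) F) =
        ((B : Matrix.GeneralLinearGroup (Fin n) F) : Matrix (Fin n) (Fin n) F) * c := hc
    obtain ⟨g, gi, hg1, hg2, hgQ, hgAB⟩ := core Q hQ _ _ hAq hBq (orderOf A) hM hMF hodd
      (c : Matrix (Fin n) (Fin n) F) ((c⁻¹ : (Matrix (Fin n) (Fin n) F)ˣ) : Matrix (Fin n) (Fin n) F)
      (by rw [← Units.val_mul, mul_inv_cancel, Units.val_one])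
      (by rw [← Units.val_mul, inv_mul_cancel, Units.val_one]) hc'
    obtain ⟨k, hk⟩ : ∃ k : Matrix.GeneralLinearGroup (Fin n) F,
        (k : Matrix (Fin n) (Fin n) F) = g := ⟨⟨g, gi, hg1, hg2⟩, rfl⟩
    have hkm : k ∈ Cfsg.isometryGroup F ⇑Q := by
      rw [Cfsg.Agent.Lib.Helper15.mem_isometryGroup_iff, hk]
      exact hgQ
    rw [isConj_iff]
    refine ⟨⟨k, hkm⟩, ?_⟩
    rw [mul_inv_eq_iff_eq_mul]
    apply Subtype.ext
    apply Units.ext
    show (k : Matrix (Fin n) (Fin n) F) * _ = _ * (k : Matrix (Fin n) (Fin n) F)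
    rw [hk]
    exact hgAB

/-- Two semisimple elements of odd order of a finite orthogonal group (isometry group of a quadratic form on F^n with non-degenerate polar form, F finite of characteristic p; the elements have odd order prime to p) are conjugate in the orthogonal group if and only if they are conjugate in GL_n(F). -/
theorem result {F : Type*} [Field F] [Fintype F] {p : ℕ} [Fact p.Prime] [CharP F p] {n : ℕ} (Q : QuadraticForm F (Fin n → F)) (hQ : (QuadraticMap.polarBilin Q).Nondegenerate) (A B : ↥(Cfsg.isometryGroup F ⇑Q)) (hodd : Odd (orderOf A)) (hA : (orderOf A).Coprime p) : IsConj A B ↔ IsConj ((A : Matrix.GeneralLinearGroup (Fin n) F) : Matrix (Fin n) (Fin n) F) ((B : Matrix.GeneralLinearGroup (Fin n) F) : Matrix (Fin n) (Fin n) F) := by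
  exact main Q hQ A B hodd hA

end Cfsg.Agent.S2590
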