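import Cfsg.Statements.S2618
-- import your own Cfsg.Agent.* helpers here
import Cfsg.Agent.Lib.Helper15.QuadClass

set_option autoImplicit false
open Cfsg

namespace Cfsg.Agent.S2618

/-- Standard (parabolic) basis of a non-degenerate quadratic space of odd dimension 2m + 1 over a finite field (the non-degeneracy of the polar form forces the characteristic to be odd): there is a basis e_i, f_i (i < m), x with Q(e_i) = Q(f_i) = 0, B(e_i, f_j) = δ_ij (B the polar form), the e's pairwise orthogonal and the f's pairwise orthogonal, x orthogonal to all of them and Q(x) ≠ 0. -/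
theorem result {F V : Type*} [Field F] [Finite F] [AddCommGroup V] [Module F V] [FiniteDimensional F V] {m : ℕ} (hV : Module.finrank F V = 2 * m + 1) (Q : QuadraticForm F V) (hQ : (QuadraticMap.polarBilin Q).Nondegenerate) : ∃ b : Module.Basis (Unit ⊕ (Fin m ⊕ Fin m)) F V, Q (b (Sum.inl ())) ≠ 0 ∧ (∀ i, QuadraticMap.polar ⇑Q (b (Sum.inl ())) (b (Sum.inr (Sum.inl i))) = 0 ∧ QuadraticMap.polar ⇑Q (b (Sum.inl ())) (b (Sum.inr (Sum.inr i))) = 0) ∧ (∀ i, Q (b (Sum.inr (Sum.inl i))) = 0 ∧ Q (b (Sum.inr (Sum.inr i))) = 0) ∧ (∀ i j, QuadraticMap.polar ⇑Q (b (Sum.inr (Sum.inl i))) (b (Sum.inr (Sum.inr j))) = if i = j then 1 else 0) ∧ (∀ i j, QuadraticMap.polar ⇑Q (b (Sum.inr (Sum.inl i))) (b (Sum.inr (Sum.inl j))) = 0 ∧ QuadraticMap.polar ⇑Q (b (Sum.inr (Sum.inr i))) (b (Sum.inr (Sum.inr j))) = 0) := by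
  obtain ⟨e, f, x, H, -, hQx, hx⟩ := Lib.Helper15.odd_family Q m ⊤ (Lib.Helper15.ndOn_top Q hQ)
    (by rw [finrank_top, hV])
  have hx0 : x ≠ 0 := by
    rintro rfl
    exact hQx (QuadraticMap.map_zero Q)
  have hli := H.linearIndependent_sum (fun _ : Unit => x) (linearIndependent_unique_iff.mpr hx0)
    (fun _ i => hx i)
  have hcard : Fintype.card (Unit ⊕ (Fin m ⊕ Fin m)) = Module.finrank F V := by
    rw [hV]; simp; omega
  refine ⟨basisOfLinearIndependentOfCardEqFinrank' _ hli hcard, ?_⟩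
  rw [coe_basisOfLinearIndependentOfCardEqFinrank']
  simp only [Sum.elim_inl, Sum.elim_inr]
  exact ⟨hQx, hx, H.2.1, H.2.2.1, H.2.2.2⟩

end Cfsg.Agent.S2618
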