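import Cfsg.Statements.S0493
import Mathlib
import Cfsg.Agent.Lib.Lead.CharBurnside
import Cfsg.Agent.Lib.Helper2.IndexTwo

set_option autoImplicit false
open Cfsg

namespace Cfsg.Agent.S0493


/-- A finite simple group of order at most 100 that is not cyclic has order 60. -/
theorem result {G : Type*} [Group G] [Finite G] [IsSimpleGroup G]
    (hG : ¬ IsCyclic G) (h : Nat.card G ≤ 100) : Nat.card G = 60 := by
  classical
  have hns : ¬ Group.IsSolvable G := by
    intro hs
    apply hG
    have hcomm : ∀ a b : G, a * b = b * a := IsSimpleGroup.comm_iff_isSolvable.mpr hs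
    -- commutative simple group is cyclic
    obtain ⟨g, hg⟩ := exists_ne (1 : G)
    have hzn : (Subgroup.zpowers g).Normal := ⟨fun x hx y => by rw [hcomm y x, mul_inv_cancel_right]; exact hx⟩
    have : Subgroup.zpowers g = ⊤ :=
      (hzn.eq_bot_or_eq_top).resolve_left (Subgroup.zpowers_ne_bot.2 hg)
    exact ⟨⟨g, (Subgroup.eq_top_iff' _).1 this⟩⟩
  obtain ⟨n, hn⟩ : ∃ n, Nat.card G = n := ⟨_, rfl⟩
  have hpos : 0 < n := hn ▸ Nat.card_pos
  have hpq : ∀ p q a b : ℕ, p.Prime → q.Prime → n = p ^ a * q ^ b → False :=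
    fun p q a b hp hq h' =>
      hns (Cfsg.Agent.CharLib.isSolvable_of_card_pq p q a b hp hq (hn.trans h'))
  have h2odd : ∀ m : ℕ, Odd m → n = 2 * m → 2 < n → False := by
    intro m hm h' h2
    have hf2 : Fact (Nat.Prime 2) := ⟨Nat.prime_two⟩
    let T : Sylow 2 G := default
    have hfac : (2 * m).factorization 2 = 1 := by
      rw [Nat.factorization_mul two_ne_zero hm.pos.ne', Finsupp.add_apply,
        Nat.Prime.factorization_self Nat.prime_two,
        Nat.factorization_eq_zero_of_not_dvd (fun hd => (Nat.not_even_iff_odd.mpr hm) (even_iff_two_dvd.mpr hd))]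
    have hTc : Nat.card (T : Subgroup G) = 2 := by
      have := T.card_eq_multiplicity
      rw [hn, h', hfac, pow_one] at this
      exact this
    have hcyc : IsCyclic (T : Subgroup G) := isCyclic_of_prime_card hTc
    obtain ⟨H, hH⟩ := Cfsg.Agent.Lib.Helper2.exists_index_two_of_cyclic_sylow
      (by rw [hn, h']; exact even_two_mul m) T hcyc
    have hHn := Subgroup.normal_of_index_eq_two hH
    rcases hHn.eq_bot_or_eq_top with h0 | h0
    · rw [h0, Subgroup.index_bot, hn] at hH; omega
    · rw [h0, Subgroup.index_top] at hH; omega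
  have h84 : n = 84 → False := by
    intro h'
    have hf7 : Fact (Nat.Prime 7) := ⟨by norm_num⟩
    let P : Sylow 7 G := default
    have hfac : (84 : ℕ).factorization 7 = 1 := by
      have h84' : (84 : ℕ) = 7 * 12 := by norm_num
      rw [h84', Nat.factorization_mul (by norm_num) (by norm_num), Finsupp.add_apply,
        Nat.Prime.factorization_self (by norm_num),
        Nat.factorization_eq_zero_of_not_dvd (by norm_num)]
    have hPc : Nat.card (P : Subgroup G) = 7 := by
      have := P.card_eq_multiplicity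
      rw [hn, h', hfac, pow_one] at this
      exact this
    have hidx : (P : Subgroup G).index = 12 := by
      have := (P : Subgroup G).card_mul_index
      rw [hPc, hn, h'] at this
      omega
    have h1 : Nat.card (Sylow 7 G) ≡ 1 [MOD 7] := card_sylow_modEq_one 7 G
    have h2 : Nat.card (Sylow 7 G) ∣ 12 := hidx ▸ P.card_dvd_index
    have h3 : Nat.card (Sylow 7 G) = 1 := by
      have hle : Nat.card (Sylow 7 G) ≤ 12 := Nat.le_of_dvd (by norm_num) h2
      have hpos' : 0 < Nat.card (Sylow 7 G) := Nat.card_pos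
      unfold Nat.ModEq at h1
      generalize Nat.card (Sylow 7 G) = k at *
      interval_cases k <;> simp_all
    have hss : Subsingleton (Sylow 7 G) := (Nat.card_eq_one_iff_unique.mp h3).1
    have hPn : (P : Subgroup G).Normal := Sylow.normal_of_subsingleton P
    rcases hPn.eq_bot_or_eq_top with h0 | h0
    · rw [h0, Subgroup.card_bot] at hPc; omega
    · rw [h0, Subgroup.card_top, hn, h'] at hPc; omega
  rw [hn] at h ⊢
  clear hn hns hG
  interval_cases n
  · exact (hpq 2 3 0 0 (by norm_num) (by norm_num) (by norm_num)).elim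
  · exact (hpq 2 3 1 0 (by norm_num) (by norm_num) (by norm_num)).elim
  · exact (hpq 3 2 1 0 (by norm_num) (by norm_num) (by norm_num)).elim
  · exact (hpq 2 3 2 0 (by norm_num) (by norm_num) (by norm_num)).elim
  · exact (hpq 5 2 1 0 (by norm_num) (by norm_num) (by norm_num)).elim
  · exact (hpq 2 3 1 1 (by norm_num) (by norm_num) (by norm_num)).elim
  · exact (hpq 7 2 1 0 (by norm_num) (by norm_num) (by norm_num)).elim
  · exact (hpq 2 3 3 0 (by norm_num) (by norm_num) (by norm_num)).elim
  · exact (hpq 3 2 2 0 (by norm_num) (by norm_num) (by norm_num)).elim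
  · exact (hpq 2 5 1 1 (by norm_num) (by norm_num) (by norm_num)).elim
  · exact (hpq 11 2 1 0 (by norm_num) (by norm_num) (by norm_num)).elim
  · exact (hpq 2 3 2 1 (by norm_num) (by norm_num) (by norm_num)).elim
  · exact (hpq 13 2 1 0 (by norm_num) (by norm_num) (by norm_num)).elim
  · exact (hpq 2 7 1 1 (by norm_num) (by norm_num) (by norm_num)).elim
  · exact (hpq 3 5 1 1 (by norm_num) (by norm_num) (by norm_num)).elim
  · exact (hpq 2 3 4 0 (by norm_num) (by norm_num) (by norm_num)).elim
  · exact (hpq 17 2 1 0 (by norm_num) (by norm_num) (by norm_num)).elim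
  · exact (hpq 2 3 1 2 (by norm_num) (by norm_num) (by norm_num)).elim
  · exact (hpq 19 2 1 0 (by norm_num) (by norm_num) (by norm_num)).elim
  · exact (hpq 2 5 2 1 (by norm_num) (by norm_num) (by norm_num)).elim
  · exact (hpq 3 7 1 1 (by norm_num) (by norm_num) (by norm_num)).elim
  · exact (hpq 2 11 1 1 (by norm_num) (by norm_num) (by norm_num)).elim
  · exact (hpq 23 2 1 0 (by norm_num) (by norm_num) (by norm_num)).elim
  · exact (hpq 2 3 3 1 (by norm_num) (by norm_num) (by norm_num)).elim
  · exact (hpq 5 2 2 0 (by norm_num) (by norm_num) (by norm_num)).elim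
  · exact (hpq 2 13 1 1 (by norm_num) (by norm_num) (by norm_num)).elim
  · exact (hpq 3 2 3 0 (by norm_num) (by norm_num) (by norm_num)).elim
  · exact (hpq 2 7 2 1 (by norm_num) (by norm_num) (by norm_num)).elim
  · exact (hpq 29 2 1 0 (by norm_num) (by norm_num) (by norm_num)).elim
  · exact (h2odd 15 (by decide) (by norm_num) (by norm_num)).elim
  · exact (hpq 31 2 1 0 (by norm_num) (by norm_num) (by norm_num)).elim
  · exact (hpq 2 3 5 0 (by norm_num) (by norm_num) (by norm_num)).elim
  · exact (hpq 3 11 1 1 (by norm_num) (by norm_num) (by norm_num)).elim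
  · exact (hpq 2 17 1 1 (by norm_num) (by norm_num) (by norm_num)).elim
  · exact (hpq 5 7 1 1 (by norm_num) (by norm_num) (by norm_num)).elim
  · exact (hpq 2 3 2 2 (by norm_num) (by norm_num) (by norm_num)).elim
  · exact (hpq 37 2 1 0 (by norm_num) (by norm_num) (by norm_num)).elim
  · exact (hpq 2 19 1 1 (by norm_num) (by norm_num) (by norm_num)).elim
  · exact (hpq 3 13 1 1 (by norm_num) (by norm_num) (by norm_num)).elim
  · exact (hpq 2 5 3 1 (by norm_num) (by norm_num) (by norm_num)).elim
  · exact (hpq 41 2 1 0 (by norm_num) (by norm_num) (by norm_num)).elim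
  · exact (h2odd 21 (by decide) (by norm_num) (by norm_num)).elim
  · exact (hpq 43 2 1 0 (by norm_num) (by norm_num) (by norm_num)).elim
  · exact (hpq 2 11 2 1 (by norm_num) (by norm_num) (by norm_num)).elim
  · exact (hpq 3 5 2 1 (by norm_num) (by norm_num) (by norm_num)).elim
  · exact (hpq 2 23 1 1 (by norm_num) (by norm_num) (by norm_num)).elim
  · exact (hpq 47 2 1 0 (by norm_num) (by norm_num) (by norm_num)).elim
  · exact (hpq 2 3 4 1 (by norm_num) (by norm_num) (by norm_num)).elim
  · exact (hpq 7 2 2 0 (by norm_num) (by norm_num) (by norm_num)).elim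
  · exact (hpq 2 5 1 2 (by norm_num) (by norm_num) (by norm_num)).elim
  · exact (hpq 3 17 1 1 (by norm_num) (by norm_num) (by norm_num)).elim
  · exact (hpq 2 13 2 1 (by norm_num) (by norm_num) (by norm_num)).elim
  · exact (hpq 53 2 1 0 (by norm_num) (by norm_num) (by norm_num)).elim
  · exact (hpq 2 3 1 3 (by norm_num) (by norm_num) (by norm_num)).elim
  · exact (hpq 5 11 1 1 (by norm_num) (by norm_num) (by norm_num)).elim
  · exact (hpq 2 7 3 1 (by norm_num) (by norm_num) (by norm_num)).elim
  · exact (hpq 3 19 1 1 (by norm_num) (by norm_num) (by norm_num)).elim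
  · exact (hpq 2 29 1 1 (by norm_num) (by norm_num) (by norm_num)).elim
  · exact (hpq 59 2 1 0 (by norm_num) (by norm_num) (by norm_num)).elim
  · rfl
  · exact (hpq 61 2 1 0 (by norm_num) (by norm_num) (by norm_num)).elim
  · exact (hpq 2 31 1 1 (by norm_num) (by norm_num) (by norm_num)).elim
  · exact (hpq 3 7 2 1 (by norm_num) (by norm_num) (by norm_num)).elim
  · exact (hpq 2 3 6 0 (by norm_num) (by norm_num) (by norm_num)).elim
  · exact (hpq 5 13 1 1 (by norm_num) (by norm_num) (by norm_num)).elim
  · exact (h2odd 33 (by decide) (by norm_num) (by norm_num)).elim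
  · exact (hpq 67 2 1 0 (by norm_num) (by norm_num) (by norm_num)).elim
  · exact (hpq 2 17 2 1 (by norm_num) (by norm_num) (by norm_num)).elim
  · exact (hpq 3 23 1 1 (by norm_num) (by norm_num) (by norm_num)).elim
  · exact (h2odd 35 (by decide) (by norm_num) (by norm_num)).elim
  · exact (hpq 71 2 1 0 (by norm_num) (by norm_num) (by norm_num)).elim
  · exact (hpq 2 3 3 2 (by norm_num) (by norm_num) (by norm_num)).elim
  · exact (hpq 73 2 1 0 (by norm_num) (by norm_num) (by norm_num)).elim
  · exact (hpq 2 37 1 1 (by norm_num) (by norm_num) (by norm_num)).elim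
  · exact (hpq 3 5 1 2 (by norm_num) (by norm_num) (by norm_num)).elim
  · exact (hpq 2 19 2 1 (by norm_num) (by norm_num) (by norm_num)).elim
  · exact (hpq 7 11 1 1 (by norm_num) (by norm_num) (by norm_num)).elim
  · exact (h2odd 39 (by decide) (by norm_num) (by norm_num)).elim
  · exact (hpq 79 2 1 0 (by norm_num) (by norm_num) (by norm_num)).elim
  · exact (hpq 2 5 4 1 (by norm_num) (by norm_num) (by norm_num)).elim
  · exact (hpq 3 2 4 0 (by norm_num) (by norm_num) (by norm_num)).elim
  · exact (hpq 2 41 1 1 (by norm_num) (by norm_num) (by norm_num)).elim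
  · exact (hpq 83 2 1 0 (by norm_num) (by norm_num) (by norm_num)).elim
  · exact (h84 rfl).elim
  · exact (hpq 5 17 1 1 (by norm_num) (by norm_num) (by norm_num)).elim
  · exact (hpq 2 43 1 1 (by norm_num) (by norm_num) (by norm_num)).elim
  · exact (hpq 3 29 1 1 (by norm_num) (by norm_num) (by norm_num)).elim
  · exact (hpq 2 11 3 1 (by norm_num) (by norm_num) (by norm_num)).elim
  · exact (hpq 89 2 1 0 (by norm_num) (by norm_num) (by norm_num)).elim
  · exact (h2odd 45 (by decide) (by norm_num) (by norm_num)).elim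
  · exact (hpq 7 13 1 1 (by norm_num) (by norm_num) (by norm_num)).elim
  · exact (hpq 2 23 2 1 (by norm_num) (by norm_num) (by norm_num)).elim
  · exact (hpq 3 31 1 1 (by norm_num) (by norm_num) (by norm_num)).elim
  · exact (hpq 2 47 1 1 (by norm_num) (by norm_num) (by norm_num)).elim
  · exact (hpq 5 19 1 1 (by norm_num) (by norm_num) (by norm_num)).elim
  · exact (hpq 2 3 5 1 (by norm_num) (by norm_num) (by norm_num)).elim
  · exact (hpq 97 2 1 0 (by norm_num) (by norm_num) (by norm_num)).elim
  · exact (hpq 2 7 1 2 (by norm_num) (by norm_num) (by norm_num)).elim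
  · exact (hpq 3 11 2 1 (by norm_num) (by norm_num) (by norm_num)).elim
  · exact (hpq 2 5 2 2 (by norm_num) (by norm_num) (by norm_num)).elim

end Cfsg.Agent.S0493
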