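import Cfsg.Statements.S0494
import Mathlib

set_option autoImplicit false
open Cfsg

namespace Cfsg.Agent.S0494

/-- the coset action of a simple group on the cosets of a proper subgroup is faithful -/
theorem toPermHom_injective_of_simple {G : Type*} [Group G] [IsSimpleGroup G] (H : Subgroup G)
    (hH : H ≠ ⊤) : Function.Injective (MulAction.toPermHom G (G ⧸ H)) := by
  rw [← MonoidHom.ker_eq_bot_iff]
  rcases (MonoidHom.normal_ker (MulAction.toPermHom G (G ⧸ H))).eq_bot_or_eq_top with h | h
  · exact h
  · exfalso
    apply hH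
    rw [eq_top_iff]
    intro g _
    have hg : g ∈ (MulAction.toPermHom G (G ⧸ H)).ker := by rw [h]; trivial
    rw [MonoidHom.mem_ker] at hg
    have h2 := congrArg (fun σ : Equiv.Perm (G ⧸ H) => σ ((1 : G) : G ⧸ H)) hg
    simp only [MulAction.toPermHom_apply, MulAction.toPerm_apply, Equiv.Perm.coe_one, id_eq] at h2
    rw [MulAction.Quotient.smul_coe] at h2
    have h3 := QuotientGroup.eq.mp h2
    simpa using h3

theorem fact60 : (60 : ℕ).factorization 2 = 2 := by
  rw [show (60:ℕ) = 2 ^ 2 * 15 from rfl, Nat.factorization_mul (by norm_num) (by norm_num),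
    Nat.factorization_pow]
  simp [Nat.Prime.factorization Nat.prime_two, Nat.factorization_eq_zero_of_not_dvd]


/-- A simple group of order 60 is isomorphic to the alternating group of degree 5. -/
theorem result {G : Type*} [Group G] [Finite G] [IsSimpleGroup G]
    (h : Nat.card G = 60) : Nonempty (G ≃* alternatingGroup (Fin 5)) := by
  classical
  have hF2 : Fact (Nat.Prime 2) := ⟨Nat.prime_two⟩
  have : Fintype G := Fintype.ofFinite G
  obtain ⟨P⟩ : Nonempty (Sylow 2 G) := inferInstance
  have hPc : Nat.card (P : Subgroup G) = 4 := by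
    rw [Sylow.card_eq_multiplicity, h, fact60]; rfl
  set N : Subgroup G := Subgroup.normalizer ((P : Subgroup G) : Set G) with hN
  have hPN : (P : Subgroup G) ≤ N := Subgroup.le_normalizer
  have hNcard_dvd : Nat.card N ∣ 60 := h ▸ Subgroup.card_subgroup_dvd_card N
  have h4N : 4 ∣ Nat.card N := hPc ▸ Subgroup.card_dvd_of_le hPN
  have hmul := Subgroup.card_mul_index N
  rw [h] at hmul
  have hPne_top : (P : Subgroup G) ≠ ⊤ := by
    intro h'
    rw [h', Subgroup.card_top, h] at hPc
    omega
  have hPne_bot : (P : Subgroup G) ≠ ⊥ := by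
    intro h'
    rw [h', Subgroup.card_bot] at hPc
    omega
  -- the possible orders of N
  have hcases : Nat.card N = 4 ∨ Nat.card N = 12 ∨ Nat.card N = 20 ∨ Nat.card N = 60 := by
    have hle : Nat.card N ≤ 60 := Nat.le_of_dvd (by norm_num) hNcard_dvd
    have hpos : 0 < Nat.card N := Nat.card_pos
    obtain ⟨k, hk⟩ := h4N
    have hk15 : k ≤ 15 := by omega
    rw [hk] at hNcard_dvd ⊢
    interval_cases k <;> simp_all
  rcases hcases with hc | hc | hc | hc
  · -- N = P is abelian: Burnside transfer
    exfalso
    have hNP : N = (P : Subgroup G) := by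
      symm
      apply Subgroup.eq_of_le_of_card_ge hPN
      rw [hc, hPc]
    have hcomm : IsMulCommutative (P : Subgroup G) :=
      IsPGroup.isMulCommutative_of_card_eq_prime_sq (p := 2) (by rw [hPc]; rfl)
    have hNC : Subgroup.normalizer ((P : Subgroup G) : Set G) ≤ Subgroup.centralizer ((P : Subgroup G) : Set G) := by
      rw [← hN, hNP]
      intro x hx
      rw [Subgroup.mem_centralizer_iff]
      intro y hy
      have := hcomm.is_comm.comm (⟨y, hy⟩ : (P : Subgroup G)) ⟨x, hx⟩
      exact congrArg Subtype.val this
    have hcompl := MonoidHom.ker_transferSylow_isComplement' P hNC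
    have hcard := hcompl.card_mul_card
    rw [hPc, h] at hcard
    have hK15 : Nat.card (MonoidHom.transferSylow P hNC).ker = 15 := by omega
    rcases (MonoidHom.normal_ker (MonoidHom.transferSylow P hNC)).eq_bot_or_eq_top with h' | h'
    · rw [h', Subgroup.card_bot] at hK15; omega
    · rw [h', Subgroup.card_top, h] at hK15; omega
  · -- index 5
    have hidx : N.index = 5 := by rw [hc] at hmul; omega
    have hNtop : N ≠ ⊤ := by
      intro h'
      rw [h', Subgroup.index_top] at hidx
      omega
    have hinj := toPermHom_injective_of_simple N hNtop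
    set φ : G →* Equiv.Perm (G ⧸ N) := MulAction.toPermHom G (G ⧸ N) with hφ
    have hq : Nat.card (G ⧸ N) = 5 := hidx
    have : Fintype (G ⧸ N) := Fintype.ofFinite _
    have hrange : Nat.card φ.range = 60 := by
      rw [← h]
      exact (Nat.card_congr (MonoidHom.ofInjective hinj).toEquiv).symm
    have hperm : Nat.card (Equiv.Perm (G ⧸ N)) = 120 := by
      rw [Nat.card_eq_fintype_card, Fintype.card_perm, ← Nat.card_eq_fintype_card, hq]
      rfl
    have hidx2 : φ.range.index = 2 := by
      have := Subgroup.card_mul_index φ.range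
      rw [hrange, hperm] at this
      omega
    have halt := Equiv.Perm.eq_alternatingGroup_of_index_eq_two hidx2
    have e1 : G ≃* φ.range := MonoidHom.ofInjective hinj
    have e2 : φ.range ≃* alternatingGroup (G ⧸ N) := MulEquiv.subgroupCongr halt
    have e0 : (G ⧸ N) ≃ Fin 5 := Finite.equivFinOfCardEq hq
    exact ⟨e1.trans (e2.trans (Equiv.altCongrHom e0))⟩
  · -- index 3
    exfalso
    have hidx : N.index = 3 := by rw [hc] at hmul; omega
    have hNtop : N ≠ ⊤ := by
      intro h'
      rw [h', Subgroup.index_top] at hidx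
      omega
    have hinj := toPermHom_injective_of_simple N hNtop
    have hq : Nat.card (G ⧸ N) = 3 := hidx
    have : Fintype (G ⧸ N) := Fintype.ofFinite _
    have hperm : Nat.card (Equiv.Perm (G ⧸ N)) = 6 := by
      rw [Nat.card_eq_fintype_card, Fintype.card_perm, ← Nat.card_eq_fintype_card, hq]
      rfl
    have hle := Nat.card_le_card_of_injective _ hinj
    rw [h, hperm] at hle
    omega
  · -- P normal
    exfalso
    have hNtop : N = ⊤ := by
      apply Subgroup.eq_top_of_card_eq
      rw [hc, h]
    have hnorm : (P : Subgroup G).Normal := Subgroup.normalizer_eq_top_iff.mp hNtop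
    rcases hnorm.eq_bot_or_eq_top with h' | h'
    · exact hPne_bot h'
    · exact hPne_top h'

end Cfsg.Agent.S0494
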