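import Cfsg.Statements.S0228
import Mathlib
import Cfsg.Agent.Lib.Helper2.Dihedral

set_option autoImplicit false
open Cfsg

namespace Cfsg.Agent.S0228

open Cfsg.Agent.Lib.Helper2 in
/-- normal Sylow 3 in a group of order 12 forces a central involution -/
theorem central_invol_of_normal {G : Type*} [Group G] [Finite G] (hG : Nat.card G = 12)
    (P : Subgroup G) (hPn : P.Normal) (hP : Nat.card P = 3) :
    ∃ z : G, orderOf z = 2 ∧ z ∈ Subgroup.center G := by
  classical
  have hF2 : Fact (Nat.Prime 2) := ⟨Nat.prime_two⟩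
  have hF3 : Fact (Nat.Prime 3) := ⟨Nat.prime_three⟩
  -- a subgroup Q of order 4
  obtain ⟨Q, hQ⟩ := Sylow.exists_subgroup_card_pow_prime (G := G) 2 (n := 2) (by rw [hG]; norm_num)
  -- generator of P
  have hPnt : P ≠ ⊥ := by
    intro h; rw [h, Subgroup.card_bot] at hP; omega
  obtain ⟨⟨g, hgP⟩, hg1'⟩ := (Subgroup.ne_bot_iff_exists_ne_one).mp hPnt
  have hg1 : g ≠ 1 := fun h => hg1' (Subtype.ext h)
  have hog : orderOf g = 3 := by
    have h1 : orderOf g ∣ 3 := by
      have := orderOf_dvd_natCard (⟨g, hgP⟩ : P)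
      rw [hP, Subgroup.orderOf_mk] at this
      exact this
    rcases (Nat.dvd_prime Nat.prime_three).mp h1 with h | h
    · exact absurd (orderOf_eq_one_iff.mp h) hg1
    · exact h
  have hzP : Subgroup.zpowers g = P := by
    apply Subgroup.eq_of_le_of_card_ge (Subgroup.zpowers_le.mpr hgP)
    rw [Nat.card_zpowers, hog, hP]
  have hg3 : g ^ 3 = 1 := by rw [← hog]; exact pow_orderOf_eq_one g
  have hginv : g⁻¹ = g ^ 2 := by
    rw [inv_eq_iff_mul_eq_one, ← pow_succ', hg3]
  -- every element conjugates g to g or g⁻¹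
  have hconj : ∀ q : G, q * g * q⁻¹ = g ∨ q * g * q⁻¹ = g⁻¹ := by
    intro q
    have hmem : q * g * q⁻¹ ∈ Subgroup.zpowers g := by
      rw [hzP]; exact hPn.conj_mem g hgP q
    obtain ⟨k, hk⟩ := Subgroup.mem_zpowers_iff.mp hmem
    have hk' : g ^ (k % 3) = q * g * q⁻¹ := by
      rw [← hk]
      have := zpow_mod_orderOf g k
      rw [hog] at this
      exact_mod_cast this
    have h03 : 0 ≤ k % 3 := Int.emod_nonneg k (by norm_num)
    have h33 : k % 3 < 3 := Int.emod_lt_of_pos k (by norm_num)
    have hcases : k % 3 = 0 ∨ k % 3 = 1 ∨ k % 3 = 2 := by omega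
    rcases hcases with h | h | h
    · exfalso
      rw [h, zpow_zero] at hk'
      apply hg1
      have : g = q⁻¹ * (q * g * q⁻¹) * q := by group
      rw [this, ← hk']; group
    · left; rw [← hk', h, zpow_one]
    · right; rw [← hk', h, hginv]; exact zpow_natCast g 2
  -- a nontrivial element of Q centralizing g
  have hQnt : Q ≠ ⊥ := by
    intro h; rw [h, Subgroup.card_bot] at hQ; norm_num at hQ
  obtain ⟨⟨a, haQ⟩, ha1'⟩ := (Subgroup.ne_bot_iff_exists_ne_one).mp hQnt
  have ha1 : a ≠ 1 := fun h => ha1' (Subtype.ext h)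
  have hinvinv : ∀ x y : G, x * g * x⁻¹ = g⁻¹ → y * g * y⁻¹ = g⁻¹ → (x * y) * g * (x * y)⁻¹ = g := by
    intro x y hx hy
    calc (x * y) * g * (x * y)⁻¹ = x * (y * g * y⁻¹) * x⁻¹ := by group
      _ = x * g⁻¹ * x⁻¹ := by rw [hy]
      _ = (x * g * x⁻¹)⁻¹ := by group
      _ = g := by rw [hx, inv_inv]
  obtain ⟨q, hqQ, hq1, hqg⟩ : ∃ q ∈ Q, q ≠ 1 ∧ q * g * q⁻¹ = g := by
    rcases hconj a with h | h
    · exact ⟨a, haQ, ha1, h⟩
    · by_cases ha2 : a * a = 1
      · -- pick b ∈ Q outside {1, a}
        have : ∃ b ∈ Q, b ≠ 1 ∧ b ≠ a := by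
          by_contra hcon
          push Not at hcon
          have hsub : (Q : Set G) ⊆ {1, a} := by
            intro b hb
            by_cases hb1 : b = 1
            · left; exact hb1
            · right; exact hcon b hb hb1
          have hfin : (Q : Set G).ncard ≤ ({1, a} : Set G).ncard :=
            Set.ncard_le_ncard hsub (Set.toFinite _)
          have h2 : ({1, a} : Set G).ncard ≤ 2 := Set.ncard_insert_le _ _ |>.trans (by simp)
          have h4 : (Q : Set G).ncard = 4 := by
            have : (Q : Set G).ncard = Nat.card Q := rfl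
            rw [this, hQ]; norm_num
          omega
        obtain ⟨b, hbQ, hb1, hba⟩ := this
        rcases hconj b with h' | h'
        · exact ⟨b, hbQ, hb1, h'⟩
        · refine ⟨a * b, Q.mul_mem haQ hbQ, ?_, hinvinv a b h h'⟩
          intro hab
          apply hba
          have : b = a⁻¹ := by rw [eq_inv_iff_mul_eq_one, ← hab]; exact (hab ▸ (by
            have := mul_eq_one_iff_eq_inv.mp hab
            rw [this]; group))
          rw [this, inv_eq_iff_mul_eq_one]; exact ha2
      · exact ⟨a * a, Q.mul_mem haQ haQ, ha2, hinvinv a a h h⟩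
  -- Q is abelian
  have hQcomm : ∀ x y : Q, x * y = y * x := by
    have := IsPGroup.isMulCommutative_of_card_eq_prime_sq (p := 2) (G := Q) hQ
    intro x y
    exact this.is_comm.comm x y
  -- centralizer of q is everything
  have hPC : P ≤ Subgroup.centralizer {q} := by
    rw [← hzP, Subgroup.zpowers_le]
    rw [Subgroup.mem_centralizer_iff]
    intro y hy
    rw [Set.mem_singleton_iff] at hy
    subst hy
    have : y * g = y * g * y⁻¹ * y := by group
    rw [this, hqg]
  have hQC : Q ≤ Subgroup.centralizer {q} := by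
    intro x hx
    rw [Subgroup.mem_centralizer_iff]
    intro y hy
    rw [Set.mem_singleton_iff] at hy
    subst hy
    have := hQcomm ⟨y, hqQ⟩ ⟨x, hx⟩
    exact congrArg Subtype.val this
  have h3 : 3 ∣ Nat.card (Subgroup.centralizer ({q} : Set G)) := hP ▸ Subgroup.card_dvd_of_le hPC
  have h4 : 4 ∣ Nat.card (Subgroup.centralizer ({q} : Set G)) := by
    have := Subgroup.card_dvd_of_le hQC
    rw [hQ] at this
    exact this
  have h12 : 12 ∣ Nat.card (Subgroup.centralizer ({q} : Set G)) := by
    have : Nat.Coprime 3 4 := by norm_num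
    exact this.mul_dvd_of_dvd_of_dvd h3 h4
  have hCtop : Subgroup.centralizer ({q} : Set G) = ⊤ := by
    apply Subgroup.eq_top_of_le_card
    rw [hG]
    exact Nat.le_of_dvd Nat.card_pos h12
  have hqcen : q ∈ Subgroup.center G := by
    rw [Subgroup.mem_center_iff]
    intro x
    have hx : x ∈ Subgroup.centralizer ({q} : Set G) := by rw [hCtop]; trivial
    rw [Subgroup.mem_centralizer_iff] at hx
    exact (hx q rfl).symm
  -- order of q is 2 or 4
  have hoq : orderOf q ∣ 4 := by
    have := orderOf_dvd_natCard (⟨q, hqQ⟩ : Q)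
    rw [hQ, Subgroup.orderOf_mk] at this
    exact this
  have hq4 : q ^ 4 = 1 := orderOf_dvd_iff_pow_eq_one.mp hoq
  by_cases hq2 : q * q = 1
  · exact ⟨q, orderOf_two_iff.mpr ⟨hq1, hq2⟩, hqcen⟩
  · refine ⟨q * q, orderOf_two_iff.mpr ⟨hq2, ?_⟩, Subgroup.mul_mem _ hqcen hqcen⟩
    rw [← hq4]; simp only [pow_succ, pow_zero, one_mul, mul_assoc]

/-- four Sylow 3-subgroups in a group of order 12 give an isomorphism with `A₄` -/
theorem iso_alt_of_four {G : Type*} [Group G] [Finite G] (hG : Nat.card G = 12)
    [hF3 : Fact (Nat.Prime 3)] (h4 : Nat.card (Sylow 3 G) = 4) :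
    Nonempty (G ≃* alternatingGroup (Fin 4)) := by
  classical
  have : Fintype G := Fintype.ofFinite G
  have : Fintype (Sylow 3 G) := Fintype.ofFinite _
  -- each Sylow 3 is self-normalizing
  have hself : ∀ P : Sylow 3 G, Subgroup.normalizer ((P : Subgroup G) : Set G) = (P : Subgroup G) := by
    intro P
    have hPc : Nat.card (P : Subgroup G) = 3 := by
      rw [Sylow.card_eq_multiplicity, hG]
      have : (12:ℕ).factorization 3 = 1 := by
        rw [show (12:ℕ) = 3 * 4 from rfl, Nat.factorization_mul (by norm_num) (by norm_num)]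
        simp [Nat.Prime.factorization Nat.prime_three, Nat.factorization_eq_zero_of_not_dvd]
      rw [this, pow_one]
    have hidx : Nat.card (Sylow 3 G) = (Subgroup.normalizer ((P : Subgroup G) : Set G)).index :=
      Sylow.card_eq_index_normalizer P
    rw [h4] at hidx
    have hmul := Subgroup.card_mul_index (Subgroup.normalizer ((P : Subgroup G) : Set G))
    rw [← hidx, hG] at hmul
    have hNc : Nat.card (Subgroup.normalizer ((P : Subgroup G) : Set G)) = 3 := by omega
    symm
    apply Subgroup.eq_of_le_of_card_ge Subgroup.le_normalizer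
    rw [hNc, hPc]
  have hPcard : ∀ P : Sylow 3 G, Nat.card (P : Subgroup G) = 3 := by
    intro P
    rw [Sylow.card_eq_multiplicity, hG]
    have : (12:ℕ).factorization 3 = 1 := by
      rw [show (12:ℕ) = 3 * 4 from rfl, Nat.factorization_mul (by norm_num) (by norm_num)]
      simp [Nat.Prime.factorization Nat.prime_three, Nat.factorization_eq_zero_of_not_dvd]
    rw [this, pow_one]
  let φ : G →* Equiv.Perm (Sylow 3 G) := MulAction.toPermHom G (Sylow 3 G)
  have hinj : Function.Injective φ := by
    rw [injective_iff_map_eq_one]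
    intro g hg
    have hfix : ∀ P : Sylow 3 G, g ∈ (P : Subgroup G) := by
      intro P
      have : g • P = P := by
        have := congrArg (fun σ : Equiv.Perm (Sylow 3 G) => σ P) hg
        simpa [φ] using this
      have h' : g ∈ Subgroup.normalizer ((P : Subgroup G) : Set G) :=
        Sylow.smul_eq_iff_mem_normalizer.mp this
      rw [hself P] at h'
      exact h'
    by_contra hg1
    have hnt : Nontrivial (Sylow 3 G) := by
      rw [← Finite.one_lt_card_iff_nontrivial, h4]; norm_num
    obtain ⟨P, P', hne⟩ := exists_pair_ne (Sylow 3 G)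
    have hog : orderOf g = 3 := by
      have h1 : orderOf g ∣ 3 := by
        have := orderOf_dvd_natCard (⟨g, hfix P⟩ : (P : Subgroup G))
        rw [hPcard P, Subgroup.orderOf_mk] at this
        exact this
      rcases (Nat.dvd_prime Nat.prime_three).mp h1 with h | h
      · exact absurd (orderOf_eq_one_iff.mp h) hg1
      · exact h
    have hz : ∀ R : Sylow 3 G, Subgroup.zpowers g = (R : Subgroup G) := by
      intro R
      apply Subgroup.eq_of_le_of_card_ge (Subgroup.zpowers_le.mpr (hfix R))
      rw [Nat.card_zpowers, hog, hPcard R]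
    apply hne
    apply Sylow.ext
    rw [← hz P, ← hz P']
  -- the range has index 2
  have hrange : Nat.card φ.range = 12 := by
    rw [← hG]
    exact (Nat.card_congr (MonoidHom.ofInjective hinj).toEquiv).symm
  have hperm : Nat.card (Equiv.Perm (Sylow 3 G)) = 24 := by
    rw [Nat.card_eq_fintype_card, Fintype.card_perm, ← Nat.card_eq_fintype_card, h4]
    rfl
  have hidx : φ.range.index = 2 := by
    have := Subgroup.card_mul_index φ.range
    rw [hrange, hperm] at this
    omega
  have halt := Equiv.Perm.eq_alternatingGroup_of_index_eq_two hidx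
  have e1 : G ≃* φ.range := MonoidHom.ofInjective hinj
  have e2 : φ.range ≃* alternatingGroup (Sylow 3 G) := MulEquiv.subgroupCongr halt
  have e0 : Sylow 3 G ≃ Fin 4 := Finite.equivFinOfCardEq h4
  exact ⟨e1.trans (e2.trans (Equiv.altCongrHom e0))⟩


/-- A group of order 12 in which no involution is central is isomorphic to the alternating group on four letters. -/
theorem result {G : Type*} [Group G] [Finite G] (hG : Nat.card G = 12) (hz : ∀ z : G, orderOf z = 2 → z ∉ Subgroup.center G) : Nonempty (G ≃* alternatingGroup (Fin 4)) := by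
  classical
  have hF3 : Fact (Nat.Prime 3) := ⟨Nat.prime_three⟩
  obtain ⟨P⟩ : Nonempty (Sylow 3 G) := inferInstance
  have hPc : Nat.card (P : Subgroup G) = 3 := by
    rw [Sylow.card_eq_multiplicity, hG]
    have : (12:ℕ).factorization 3 = 1 := by
      rw [show (12:ℕ) = 3 * 4 from rfl, Nat.factorization_mul (by norm_num) (by norm_num)]
      simp [Nat.Prime.factorization Nat.prime_three, Nat.factorization_eq_zero_of_not_dvd]
    rw [this, pow_one]
  have hmod := card_sylow_modEq_one 3 G
  have hdvd := Sylow.card_dvd_index P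
  have hidx : (P : Subgroup G).index = 4 := by
    have := Subgroup.card_mul_index (P : Subgroup G)
    rw [hPc, hG] at this
    omega
  rw [hidx] at hdvd
  have hle : Nat.card (Sylow 3 G) ≤ 4 := Nat.le_of_dvd (by norm_num) hdvd
  have hpos : 0 < Nat.card (Sylow 3 G) := Nat.card_pos
  unfold Nat.ModEq at hmod
  have hcases : Nat.card (Sylow 3 G) = 1 ∨ Nat.card (Sylow 3 G) = 4 := by
    generalize Nat.card (Sylow 3 G) = n at *
    interval_cases n <;> simp_all
  rcases hcases with h1 | h4
  · exfalso
    have hsub : Subsingleton (Sylow 3 G) := (Nat.card_eq_one_iff_unique.mp h1).1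
    have hPn : (P : Subgroup G).Normal := Sylow.normal_of_subsingleton P
    obtain ⟨z, hz2, hzc⟩ := central_invol_of_normal hG (P : Subgroup G) hPn hPc
    exact hz z hz2 hzc
  · exact iso_alt_of_four hG h4

end Cfsg.Agent.S0228
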