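import Cfsg.Statements.S3377
import Cfsg.Agent.Lib.Helper25.A5Pres2
-- import your own Cfsg.Agent.* helpers here

set_option autoImplicit false
open Cfsg

namespace Cfsg.Agent.S3377

/-- The alternating group of degree 5 has the presentation ⟨x, y | x³ = 1, y⁵ = 1, (xy)² = 1⟩: the group so presented is isomorphic to Alt(5). -/
theorem result :
    Nonempty (PresentedGroup ({FreeGroup.of (0 : Fin 2) ^ 3, FreeGroup.of (1 : Fin 2) ^ 5,
        (FreeGroup.of (0 : Fin 2) * FreeGroup.of 1) ^ 2} : Set (FreeGroup (Fin 2))) ≃* alternatingGroup (Fin 5)) := by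
  set rels : Set (FreeGroup (Fin 2)) := {FreeGroup.of (0 : Fin 2) ^ 3, FreeGroup.of (1 : Fin 2) ^ 5,
        (FreeGroup.of (0 : Fin 2) * FreeGroup.of 1) ^ 2} with hrels
  set gx : PresentedGroup rels := PresentedGroup.of 0 with hgx
  set gy : PresentedGroup rels := PresentedGroup.of 1 with hgy
  have hx3 : gx ^ 3 = 1 := by
    have : (QuotientGroup.mk (FreeGroup.of (0 : Fin 2) ^ 3) : PresentedGroup rels) = 1 :=
      (QuotientGroup.eq_one_iff _).mpr (Subgroup.subset_normalClosure (by simp [hrels]))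
    exact this
  have hy5 : gy ^ 5 = 1 := by
    have : (QuotientGroup.mk (FreeGroup.of (1 : Fin 2) ^ 5) : PresentedGroup rels) = 1 :=
      (QuotientGroup.eq_one_iff _).mpr (Subgroup.subset_normalClosure (by simp [hrels]))
    exact this
  have hxy2 : (gx * gy) ^ 2 = 1 := by
    have : (QuotientGroup.mk ((FreeGroup.of (0 : Fin 2) * FreeGroup.of 1) ^ 2) :
        PresentedGroup rels) = 1 :=
      (QuotientGroup.eq_one_iff _).mpr (Subgroup.subset_normalClosure (by simp [hrels]))
    exact this
  have hgen : Subgroup.closure ({gx, gy} : Set (PresentedGroup rels)) = ⊤ := by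
    have h := PresentedGroup.closure_range_of rels
    have hr : Set.range (PresentedGroup.of (rels := rels)) = {gx, gy} := by
      ext g
      simp only [Set.mem_range, Set.mem_insert_iff, Set.mem_singleton_iff, Fin.exists_fin_two]
      constructor
      · rintro (h | h)
        · exact Or.inl h.symm
        · exact Or.inr h.symm
      · rintro (h | h)
        · exact Or.inl h.symm
        · exact Or.inr h.symm
    rw [hr] at h
    exact h
  obtain ⟨hfin, hcard⟩ := Cfsg.Agent.Lib.Helper25.A5Pres.card_le_sixty gx gy hx3 hy5 hxy2 hgen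
  -- the map to A5
  let X : alternatingGroup (Fin 5) := ⟨Cfsg.Agent.Lib.Helper25.A5Pres.pX, Cfsg.Agent.Lib.Helper25.A5Pres.pX_mem⟩
  let Y : alternatingGroup (Fin 5) := ⟨Cfsg.Agent.Lib.Helper25.A5Pres.pY, Cfsg.Agent.Lib.Helper25.A5Pres.pY_mem⟩
  have hX3 : X ^ 3 = 1 := Subtype.ext Cfsg.Agent.Lib.Helper25.A5Pres.pX3
  have hY5 : Y ^ 5 = 1 := Subtype.ext Cfsg.Agent.Lib.Helper25.A5Pres.pY5
  have hXY2 : (X * Y) ^ 2 = 1 := Subtype.ext Cfsg.Agent.Lib.Helper25.A5Pres.pXY2
  have hX1 : X ≠ 1 := fun h => Cfsg.Agent.Lib.Helper25.A5Pres.pX1 (congrArg Subtype.val h)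
  have hY1 : Y ≠ 1 := fun h => Cfsg.Agent.Lib.Helper25.A5Pres.pY1 (congrArg Subtype.val h)
  have hXY1 : X * Y ≠ 1 := fun h => Cfsg.Agent.Lib.Helper25.A5Pres.pXY1 (congrArg Subtype.val h)
  haveI : Fact (Nat.Prime 2) := ⟨by norm_num⟩
  haveI : Fact (Nat.Prime 3) := ⟨by norm_num⟩
  haveI : Fact (Nat.Prime 5) := ⟨by norm_num⟩
  have hrel : ∀ r ∈ rels, FreeGroup.lift ![X, Y] r = 1 := by
    intro r hr
    rw [hrels] at hr
    rcases hr with rfl | rfl | rfl
    · simpa using hX3
    · simpa using hY5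
    · simpa using hXY2
  let φ : PresentedGroup rels →* alternatingGroup (Fin 5) := PresentedGroup.toGroup hrel
  have hφx : φ gx = X := by simp [φ, hgx]
  have hφy : φ gy = Y := by simp [φ, hgy]
  have hA5 : Nat.card (alternatingGroup (Fin 5)) = 60 := by
    rw [nat_card_alternatingGroup]
    simp [Nat.factorial]
  -- surjectivity via simplicity of A5
  have hsurj : Function.Surjective φ := by
    rw [← MonoidHom.range_eq_top]
    have hXr : X ∈ φ.range := ⟨gx, hφx⟩
    have hYr : Y ∈ φ.range := ⟨gy, hφy⟩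
    have hXYr : X * Y ∈ φ.range := mul_mem hXr hYr
    have h3 : 3 ∣ Nat.card φ.range := by
      have := Subgroup.orderOf_dvd_natCard φ.range hXr
      rwa [orderOf_eq_prime hX3 hX1] at this
    have h5 : 5 ∣ Nat.card φ.range := by
      have := Subgroup.orderOf_dvd_natCard φ.range hYr
      rwa [orderOf_eq_prime hY5 hY1] at this
    have h2 : 2 ∣ Nat.card φ.range := by
      have := Subgroup.orderOf_dvd_natCard φ.range hXYr
      rwa [orderOf_eq_prime hXY2 hXY1] at this
    have h30 : 30 ∣ Nat.card φ.range := by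
      have h15 : 15 ∣ Nat.card φ.range :=
        Nat.Coprime.mul_dvd_of_dvd_of_dvd (by norm_num : Nat.Coprime 3 5) h3 h5
      exact Nat.Coprime.mul_dvd_of_dvd_of_dvd (by norm_num : Nat.Coprime 2 15) h2 h15
    have hidx : φ.range.index * Nat.card φ.range = 60 := by
      rw [Subgroup.index_mul_card, hA5]
    obtain ⟨m, hm⟩ := h30
    have hm' : φ.range.index * m = 2 := by
      rw [hm] at hidx
      have : 30 * (φ.range.index * m) = 30 * 2 := by linarith
      exact Nat.eq_of_mul_eq_mul_left (by norm_num) this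
    have hidx2 : φ.range.index = 1 ∨ φ.range.index = 2 := by
      have hd : φ.range.index ∣ 2 := ⟨m, hm'.symm⟩
      have := (Nat.dvd_prime Nat.prime_two).mp hd
      exact this
    rcases hidx2 with h1 | h2'
    · exact Subgroup.index_eq_one.mp h1
    · haveI : φ.range.Normal := Subgroup.normal_of_index_eq_two h2'
      rcases (Subgroup.Normal.eq_bot_or_eq_top (inferInstance : φ.range.Normal)) with hb | ht
      · exfalso
        rw [hb, Subgroup.mem_bot] at hXr
        exact hX1 hXr
      · exact ht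
  have hbij : Function.Bijective φ :=
    hsurj.bijective_of_nat_card_le (by rw [hA5]; exact hcard)
  exact ⟨MulEquiv.ofBijective φ hbij⟩

end Cfsg.Agent.S3377
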