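import Cfsg.Statements.S0992
import Mathlib

set_option autoImplicit false
open Cfsg

namespace Cfsg.Agent.S0992

/-- A finite simple non-commutative group has no Sylow `p`-subgroup with a normal complement,
unless that Sylow subgroup is trivial. -/
theorem no_complement {G : Type*} [Group G] [Finite G] [IsSimpleGroup G] (hG : ¬ IsMulCommutative G)
    {p : ℕ} [Fact p.Prime] (T : Sylow p G) (hT : 1 < Nat.card ↥(T : Subgroup G))
    (hcomm : ∀ a ∈ (T : Subgroup G), ∀ b ∈ (T : Subgroup G), a * b = b * a)
    (K : Subgroup G) [K.Normal] (hK : K.IsComplement' (T : Subgroup G)) : False := by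
  have hcard := hK.card_mul_card
  rcases (inferInstance : K.Normal).eq_bot_or_eq_top with h | h
  · rw [h, Subgroup.card_bot, one_mul] at hcard
    have hTtop : (T : Subgroup G) = ⊤ := Subgroup.eq_top_of_card_eq _ hcard
    apply hG
    refine ⟨⟨fun a b => ?_⟩⟩
    exact hcomm a (by rw [hTtop]; trivial) b (by rw [hTtop]; trivial)
  · rw [h, Subgroup.card_top] at hcard
    have : Nat.card ↥(T : Subgroup G) = 1 := by
      have hpos : 0 < Nat.card G := Nat.card_pos
      nlinarith [Nat.eq_of_mul_eq_mul_left hpos (by rw [hcard, mul_one] : Nat.card G * Nat.card ↥(T : Subgroup G) = Nat.card G * 1)]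
    omega

theorem card_mulAut_kleinFour_dvd (V : Type*) [Group V] [IsKleinFour V] : Nat.card (MulAut V) ∣ 6 := by
  classical
  have : Finite V := IsKleinFour.instFinite
  have := Fintype.ofFinite V
  -- MulAut V embeds in Perm {x // x ≠ 1}
  let f : MulAut V →* Equiv.Perm {x : V // x ≠ 1} :=
    { toFun := fun σ => 
        { toFun := fun x => ⟨σ x.1, fun h => x.2 (by simpa using h)⟩
          invFun := fun x => ⟨σ.symm x.1, fun h => x.2 (by simpa using h)⟩
          left_inv := fun x => by simp
          right_inv := fun x => by simp }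
      map_one' := by ext x; simp
      map_mul' := fun σ τ => by ext x; simp }
  have hf : Function.Injective f := by
    intro σ τ h
    ext x
    by_cases hx : x = 1
    · simp [hx]
    · have := congrArg (fun ρ : Equiv.Perm {x : V // x ≠ 1} => (ρ ⟨x, hx⟩).1) h
      simpa [f] using this
  have h1 : Nat.card (MulAut V) ∣ Nat.card (Equiv.Perm {x : V // x ≠ 1}) :=
    Subgroup.card_dvd_of_injective f hf
  have h2 : Nat.card (Equiv.Perm {x : V // x ≠ 1}) = 6 := by
    rw [Nat.card_eq_fintype_card, Fintype.card_perm]
    have : Fintype.card {x : V // x ≠ 1} = 3 := by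
      rw [Fintype.card_subtype_compl, Fintype.card_subtype_eq]
      have : Fintype.card V = 4 := by rw [← Nat.card_eq_fintype_card]; exact IsKleinFour.card_four
      omega
    rw [this]; rfl
  rwa [h2] at h1


theorem main {G : Type*} [Group G] [Finite G] [IsSimpleGroup G] (hG : ¬ IsMulCommutative G)
    (h2 : Even (Nat.card G)) (h8 : ¬ 8 ∣ Nat.card G) (T : Sylow 2 G) :
    IsKleinFour ↥(T : Subgroup G) ∧
      (Subgroup.centralizer ((T : Subgroup G) : Set G)).relIndex
        (Subgroup.normalizer ((T : Subgroup G) : Set G)) = 3 := by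
  classical
  have hcardT : Nat.card ↥(T : Subgroup G) = 2 ^ (Nat.card G).factorization 2 := T.card_eq_multiplicity
  have hpos : Nat.card G ≠ 0 := Nat.card_pos.ne'
  have hk1 : 1 ≤ (Nat.card G).factorization 2 := by
    have : 2 ^ 1 ∣ Nat.card G := by simpa using h2.two_dvd
    exact (Nat.prime_two.pow_dvd_iff_le_factorization hpos).mp this
  have hk2 : (Nat.card G).factorization 2 ≤ 2 := by
    by_contra hlt
    push Not at hlt
    apply h8
    have : 2 ^ 3 ∣ Nat.card G := (Nat.prime_two.pow_dvd_iff_le_factorization hpos).mpr hlt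
    simpa using this
  have hT1 : 1 < Nat.card ↥(T : Subgroup G) := by
    rw [hcardT]; exact Nat.one_lt_two_pow (by omega)
  -- T is commutative (order 2 or 4)
  have hTcomm : ∀ a ∈ (T : Subgroup G), ∀ b ∈ (T : Subgroup G), a * b = b * a := by
    have hk : (Nat.card G).factorization 2 = 1 ∨ (Nat.card G).factorization 2 = 2 := by omega
    intro a ha b hb
    rcases hk with hk | hk
    · have : Nat.card ↥(T : Subgroup G) = 2 := by rw [hcardT, hk]; rfl
      have hcyc : IsCyclic ↥(T : Subgroup G) := isCyclic_of_prime_card (p := 2) this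
      have hmc : IsMulCommutative ↥(T : Subgroup G) := IsCyclic.isMulCommutative
      have := hmc.is_comm.comm ⟨a, ha⟩ ⟨b, hb⟩
      exact congrArg Subtype.val this
    · have : Nat.card ↥(T : Subgroup G) = 2 ^ 2 := by rw [hcardT, hk]
      have hmc : IsMulCommutative ↥(T : Subgroup G) :=
        IsPGroup.isMulCommutative_of_card_eq_prime_sq (p := 2) this
      exact congrArg Subtype.val (hmc.is_comm.comm ⟨a, ha⟩ ⟨b, hb⟩)
  -- T is not cyclic
  have hminFac : (Nat.card G).minFac = 2 := by
    rw [Nat.minFac_eq_two_iff]; exact h2.two_dvd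
  have hncyc : ¬ IsCyclic ↥(T : Subgroup G) := by
    intro hcyc
    exact no_complement hG T hT1 hTcomm _ (IsCyclic.isComplement' hminFac hcyc)
  have hcard4 : Nat.card ↥(T : Subgroup G) = 4 := by
    have hk : (Nat.card G).factorization 2 = 1 ∨ (Nat.card G).factorization 2 = 2 := by omega
    rcases hk with hk | hk
    · exfalso
      have : Nat.card ↥(T : Subgroup G) = 2 := by rw [hcardT, hk]; rfl
      exact hncyc (isCyclic_of_prime_card (p := 2) this)
    · rw [hcardT, hk]; rfl
  have hklein : IsKleinFour ↥(T : Subgroup G) := by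
    refine ⟨hcard4, ?_⟩
    have : Nontrivial ↥(T : Subgroup G) := by
      rw [← Finite.one_lt_card_iff_nontrivial]; exact hT1
    rw [Monoid.exponent_eq_prime_iff Nat.prime_two]
    intro g hg
    have hdvd : orderOf g ∣ 4 := by rw [← hcard4]; exact orderOf_dvd_natCard g
    have hne1 : orderOf g ≠ 1 := by rwa [Ne, orderOf_eq_one_iff]
    have hne4 : orderOf g ≠ 4 := by
      intro h4
      apply hncyc
      exact isCyclic_of_orderOf_eq_card g (by rw [h4, hcard4])
    have : orderOf g ∈ Nat.divisors 4 := Nat.mem_divisors.mpr ⟨hdvd, by norm_num⟩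
    have hdiv : Nat.divisors 4 = {1, 2, 4} := by decide
    rw [hdiv] at this
    simp only [Finset.mem_insert, Finset.mem_singleton] at this
    omega
  refine ⟨hklein, ?_⟩
  -- the relative index
  set C := Subgroup.centralizer ((T : Subgroup G) : Set G) with hC
  set N := Subgroup.normalizer ((T : Subgroup G) : Set G) with hN
  have hTC : (T : Subgroup G) ≤ C := by
    intro a ha
    rw [hC, Subgroup.mem_centralizer_iff]
    intro b hb
    exact hTcomm b hb a ha
  have hCN : C ≤ N := Subgroup.centralizer_le_normalizer _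
  -- relIndex divides 6
  have hdvd6 : C.relIndex N ∣ 6 := by
    have hker := Subgroup.normalizerMonoidHom_ker (T : Subgroup G)
    have h1 : C.relIndex N = ((T : Subgroup G).normalizerMonoidHom).ker.index := by
      rw [hker]; rfl
    rw [h1, Subgroup.index_ker]
    exact (Subgroup.card_subgroup_dvd_card _).trans (card_mulAut_kleinFour_dvd _)
  -- relIndex is odd
  have hodd : ¬ 2 ∣ C.relIndex N := by
    intro h
    have h1 : C.relIndex N * Nat.card C = Nat.card N := by
      have := Subgroup.relIndex_mul_relIndex (H := ⊥) (K := C) (L := N) bot_le hCN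
      rw [Subgroup.relIndex_bot_left, Subgroup.relIndex_bot_left] at this
      rw [mul_comm]; exact this
    have h3 : Nat.card ↥(T : Subgroup G) ∣ Nat.card C := Subgroup.card_dvd_of_le hTC
    have h4 : Nat.card N ∣ Nat.card G := Subgroup.card_subgroup_dvd_card N
    have h5 : 2 * Nat.card ↥(T : Subgroup G) ∣ Nat.card G := by
      refine dvd_trans ?_ h4
      rw [← h1]
      exact mul_dvd_mul h h3
    rw [hcardT, ← pow_succ'] at h5
    have := (Nat.prime_two.pow_dvd_iff_le_factorization hpos).mp h5
    omega
  -- relIndex ≠ 1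
  have hne1 : C.relIndex N ≠ 1 := by
    intro h
    have hNC : N ≤ C := Subgroup.relIndex_eq_one.mp h
    exact no_complement hG T hT1 hTcomm _ (MonoidHom.ker_transferSylow_isComplement' T hNC)
  have : C.relIndex N ∈ Nat.divisors 6 := Nat.mem_divisors.mpr ⟨hdvd6, by norm_num⟩
  have hdiv : Nat.divisors 6 = {1, 2, 3, 6} := by decide
  rw [hdiv] at this
  simp only [Finset.mem_insert, Finset.mem_singleton] at this
  rcases this with h | h | h | h
  · exact absurd h hne1
  · exact absurd (h ▸ dvd_rfl : 2 ∣ C.relIndex N) hodd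
  · exact h
  · exact absurd (h ▸ (by norm_num : 2 ∣ 6) : 2 ∣ C.relIndex N) hodd



/-- Let G be a non-abelian finite simple group of even order not divisible by 8, and T a Sylow 2-subgroup. Then T is a Klein four-group and the centralizer of T has index 3 in the normalizer of T. -/
theorem result {G : Type*} [Group G] [Finite G] [IsSimpleGroup G] (hG : ¬ IsMulCommutative G) (h2 : Even (Nat.card G)) (h8 : ¬ 8 ∣ Nat.card G) (T : Sylow 2 G) : IsKleinFour ↥(T : Subgroup G) ∧ (Subgroup.centralizer ((T : Subgroup G) : Set G)).relIndex (Subgroup.normalizer ((T : Subgroup G) : Set G)) = 3 := by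
  exact main hG h2 h8 T

end Cfsg.Agent.S0992
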