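import Cfsg.Statements.S0832
import Mathlib
import Cfsg.Agent.S0750

set_option autoImplicit false
open Cfsg

namespace Cfsg.Agent.S0832

section Aux
set_option linter.unusedSectionVars false
set_option linter.unusedVariables false
set_option linter.unusedSimpArgs false
namespace S0832aux
open Cfsg QuadraticMap

variable {F : Type*} [Field F]

noncomputable def plusQ (F : Type*) [Field F] (m : ℕ) : QuadraticForm F (Fin m ⊕ Fin m → F) :=
  ∑ i : Fin m, QuadraticMap.proj (Sum.inl i) (Sum.inr i)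

lemma plusQ_apply (m : ℕ) (v : Fin m ⊕ Fin m → F) :
    plusQ F m v = Cfsg.quadFormPlus m F v := by
  unfold plusQ Cfsg.quadFormPlus
  rw [_root_.sum_apply]
  simp only [QuadraticMap.proj_apply]

lemma polar_plusQ (m : ℕ) (u v : Fin m ⊕ Fin m → F) :
    polar (plusQ F m) u v =
      ∑ i, (u (Sum.inl i) * v (Sum.inr i) + u (Sum.inr i) * v (Sum.inl i)) := by
  simp only [polar, plusQ_apply, Cfsg.quadFormPlus, Pi.add_apply]
  rw [← Finset.sum_sub_distrib, ← Finset.sum_sub_distrib]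
  exact Finset.sum_congr rfl fun i _ => by ring

lemma plusQ_nondeg (m : ℕ) : (QuadraticMap.polarBilin (plusQ F m)).Nondegenerate := by
  classical
  have key : ∀ u : Fin m ⊕ Fin m → F, (∀ v, polar (plusQ F m) u v = 0) → u = 0 := by
    intro u hu
    funext j
    rcases j with j | j
    · have h1 := hu (Pi.single (Sum.inr j) 1)
      rw [polar_plusQ] at h1
      simpa [Pi.single_apply, Finset.sum_add_distrib] using h1
    · have h1 := hu (Pi.single (Sum.inl j) 1)
      rw [polar_plusQ] at h1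
      simpa [Pi.single_apply, Finset.sum_add_distrib] using h1
  constructor
  · intro u hu
    exact key u (fun v => by simpa using hu v)
  · intro v hv
    exact key v (fun u => by rw [polar_comm]; simpa using hv u)

section Std
variable {k : ℕ}

/-- coordinate subspace: vanishing on the coordinates in the image of `τ` -/
noncomputable def Kτ {ι : Type*} (τ : Fin (k + 1) → ι) : Submodule F (ι → F) :=
  LinearMap.ker (LinearMap.funLeft F F τ)

lemma mem_Kτ {ι : Type*} {τ : Fin (k + 1) → ι} {v : ι → F} :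
    v ∈ Kτ (F := F) τ ↔ ∀ j, v (τ j) = 0 := by
  rw [Kτ, LinearMap.mem_ker]
  constructor
  · intro h j
    exact congrFun h j
  · intro h
    funext j
    exact h j

lemma finrank_Kτ (τ : Fin (k + 1) → Fin (k + 1) ⊕ Fin (k + 1)) (hτ : Function.Injective τ) :
    Module.finrank F (Kτ (F := F) τ) = k + 1 := by
  have h1 := LinearMap.finrank_range_add_finrank_ker
    (LinearMap.funLeft F F τ : (Fin (k + 1) ⊕ Fin (k + 1) → F) →ₗ[F] (Fin (k + 1) → F))
  have h2 : LinearMap.range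
      (LinearMap.funLeft F F τ : (Fin (k + 1) ⊕ Fin (k + 1) → F) →ₗ[F] (Fin (k + 1) → F)) = ⊤ :=
    LinearMap.range_eq_top.mpr (LinearMap.funLeft_surjective_of_injective F F τ hτ)
  rw [h2, finrank_top, Module.finrank_fintype_fun_eq_card, Module.finrank_fintype_fun_eq_card,
    Fintype.card_sum, Fintype.card_fin] at h1
  unfold Kτ
  omega

def τ₂ : Fin (k + 1) → Fin (k + 1) ⊕ Fin (k + 1) :=
  Fin.cases (Sum.inl 0) (fun j => Sum.inr j.succ)

lemma τ₂_zero : (τ₂ 0 : Fin (k + 1) ⊕ Fin (k + 1)) = Sum.inl 0 := rfl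
lemma τ₂_succ (j : Fin k) : (τ₂ j.succ : Fin (k + 1) ⊕ Fin (k + 1)) = Sum.inr j.succ := rfl

lemma τ₂_inj : Function.Injective (τ₂ (k := k)) := by
  intro a b h
  induction a using Fin.cases with
  | zero =>
    induction b using Fin.cases with
    | zero => rfl
    | succ b => rw [τ₂_zero, τ₂_succ] at h; exact absurd h (by simp)
  | succ a =>
    induction b using Fin.cases with
    | zero => rw [τ₂_zero, τ₂_succ] at h; exact absurd h (by simp)
    | succ b =>
      rw [τ₂_succ, τ₂_succ] at h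
      exact congrArg Fin.succ (Fin.succ_injective _ (Sum.inr_injective h))

/-- standard singular vectors -/
def e (j : Fin (k + 1)) : Fin (k + 1) ⊕ Fin (k + 1) → F := Pi.single (Sum.inl j) 1

lemma e_inr (j i : Fin (k + 1)) : (e j : Fin (k + 1) ⊕ Fin (k + 1) → F) (Sum.inr i) = 0 := by
  unfold e
  rw [Pi.single_apply, if_neg (by simp)]

lemma e_inl (j i : Fin (k + 1)) :
    (e j : Fin (k + 1) ⊕ Fin (k + 1) → F) (Sum.inl i) = if i = j then 1 else 0 := by
  unfold e
  rw [Pi.single_apply]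
  simp

lemma claimA (W' : Submodule F (Fin (k + 1) ⊕ Fin (k + 1) → F))
    (hfr : Module.finrank F W' = k + 1) (hTS : ∀ w ∈ W', plusQ F (k + 1) w = 0)
    (he : ∀ a : Fin k, (e a.succ : Fin (k + 1) ⊕ Fin (k + 1) → F) ∈ W') :
    W' = Kτ Sum.inr ∨ W' = Kτ τ₂ := by
  classical
  have hpol : ∀ w ∈ W', ∀ w' ∈ W', polar (plusQ F (k + 1)) w w' = 0 := by
    intro w hw w' hw'
    simp only [polar]
    rw [hTS _ (W'.add_mem hw hw'), hTS w hw, hTS w' hw']
    ring
  have h1 : ∀ w ∈ W', ∀ a : Fin k, w (Sum.inr a.succ) = 0 := by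
    intro w hw a
    have h0 := hpol w hw (e a.succ) (he a)
    rw [polar_plusQ] at h0
    simpa [e_inr, e_inl, Finset.sum_add_distrib] using h0
  have hQ0 : ∀ w ∈ W', w (Sum.inl 0) * w (Sum.inr 0) = 0 := by
    intro w hw
    have h0 := hTS w hw
    rw [plusQ_apply, Cfsg.quadFormPlus, Fin.sum_univ_succ] at h0
    simpa [h1 w hw] using h0
  by_cases hall : ∀ w ∈ W', w (Sum.inr 0) = 0
  · left
    apply Submodule.eq_of_le_of_finrank_eq
    · intro w hw
      rw [mem_Kτ]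
      intro j
      refine Fin.cases ?_ (fun a => ?_) j
      · exact hall w hw
      · exact h1 w hw a
    · rw [hfr, finrank_Kτ _ Sum.inr_injective]
  · right
    push Not at hall
    obtain ⟨w₀, hw₀, hw₀0⟩ := hall
    have hw₀l : w₀ (Sum.inl 0) = 0 := (mul_eq_zero.mp (hQ0 w₀ hw₀)).resolve_right hw₀0
    have h2 : ∀ w ∈ W', w (Sum.inl 0) = 0 := by
      intro w hw
      have h0 := hpol w₀ hw₀ w hw
      rw [polar_plusQ, Fin.sum_univ_succ] at h0
      simp only [hw₀l, h1 w hw, h1 w₀ hw₀, zero_mul, mul_zero, add_zero, zero_add,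
        Finset.sum_const_zero] at h0
      exact (mul_eq_zero.mp h0).resolve_left hw₀0
    apply Submodule.eq_of_le_of_finrank_eq
    · intro w hw
      rw [mem_Kτ]
      intro j
      refine Fin.cases ?_ (fun a => ?_) j
      · rw [τ₂_zero]; exact h2 w hw
      · rw [τ₂_succ]; exact h1 w hw a
    · rw [hfr, finrank_Kτ _ τ₂_inj]

lemma K1_TS (w : Fin (k + 1) ⊕ Fin (k + 1) → F) (hw : w ∈ Kτ (F := F) (k := k) Sum.inr) :
    plusQ F (k + 1) w = 0 := by
  rw [mem_Kτ] at hw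
  rw [plusQ_apply, Cfsg.quadFormPlus]
  exact Finset.sum_eq_zero fun i _ => by rw [hw i, mul_zero]

lemma K2_TS (w : Fin (k + 1) ⊕ Fin (k + 1) → F) (hw : w ∈ Kτ (F := F) (k := k) τ₂) :
    plusQ F (k + 1) w = 0 := by
  rw [mem_Kτ] at hw
  rw [plusQ_apply, Cfsg.quadFormPlus, Fin.sum_univ_succ]
  have h0 := hw 0
  rw [τ₂_zero] at h0
  rw [h0, zero_mul, zero_add]
  exact Finset.sum_eq_zero fun i _ => by
    have hi := hw i.succ
    rw [τ₂_succ] at hi
    rw [hi, mul_zero]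

lemma e_mem_K1 (j : Fin (k + 1)) : (e j : Fin (k + 1) ⊕ Fin (k + 1) → F) ∈ Kτ Sum.inr := by
  rw [mem_Kτ]
  intro i
  exact e_inr j i

lemma e_mem_K2 (a : Fin k) : (e a.succ : Fin (k + 1) ⊕ Fin (k + 1) → F) ∈ Kτ τ₂ := by
  rw [mem_Kτ]
  intro j
  refine Fin.cases ?_ (fun b => ?_) j
  · rw [τ₂_zero, e_inl, if_neg (Fin.succ_ne_zero a).symm]
  · rw [τ₂_succ, e_inr]

lemma K1_ne_K2 : (Kτ Sum.inr : Submodule F (Fin (k + 1) ⊕ Fin (k + 1) → F)) ≠ Kτ τ₂ := by
  intro h
  have h1 : (e 0 : Fin (k + 1) ⊕ Fin (k + 1) → F) ∈ Kτ τ₂ := by rw [← h]; exact e_mem_K1 0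
  rw [mem_Kτ] at h1
  have h2 := h1 0
  rw [τ₂_zero, e_inl, if_pos rfl] at h2
  exact one_ne_zero h2

lemma e_linInd : LinearIndependent F
    (fun a : Fin k => (e a.succ : Fin (k + 1) ⊕ Fin (k + 1) → F)) := by
  classical
  have h1 := (Pi.basisFun F (Fin (k + 1) ⊕ Fin (k + 1))).linearIndependent.comp
    (fun a : Fin k => (Sum.inl a.succ : Fin (k + 1) ⊕ Fin (k + 1)))
    (fun a b h => Fin.succ_injective _ (Sum.inl_injective h))
  convert h1 using 1
  funext a
  simp [e, Pi.basisFun_apply]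

theorem main' [Finite F] (U : Submodule F (Fin (k + 1) ⊕ Fin (k + 1) → F))
    (hUk : Module.finrank F U = k) (hU : ∀ u ∈ U, Cfsg.quadFormPlus (k + 1) F u = 0) :
    Nat.card {W : Submodule F (Fin (k + 1) ⊕ Fin (k + 1) → F) //
      Module.finrank F W = k + 1 ∧ (∀ w ∈ W, Cfsg.quadFormPlus (k + 1) F w = 0) ∧ U ≤ W} = 2 := by
  classical
  let bU : Module.Basis (Fin k) F U := Module.finBasisOfFinrankEq F U hUk
  let x : Fin k → (Fin (k + 1) ⊕ Fin (k + 1) → F) := fun a => (bU a : Fin (k + 1) ⊕ Fin (k + 1) → F)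
  have hxU : ∀ a, x a ∈ U := fun a => (bU a).2
  have hx : LinearIndependent F x :=
    bU.linearIndependent.map' U.subtype (Submodule.ker_subtype U)
  have hQ := plusQ_nondeg (F := F) (k + 1)
  have hUQ : ∀ u ∈ U, plusQ F (k + 1) u = 0 := fun u hu => by rw [plusQ_apply]; exact hU u hu
  obtain ⟨g, hg1, hg2⟩ := Cfsg.Agent.S0750.S0750aux.witt_tuple (plusQ F (k + 1)) hQ k x
    (fun a => e a.succ) hx e_linInd
    (fun a => by rw [hUQ _ (hxU a), K1_TS _ (e_mem_K1 a.succ)])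
    (fun a b => by
      simp only [polar]
      rw [hUQ _ (U.add_mem (hxU a) (hxU b)), hUQ _ (hxU a), hUQ _ (hxU b),
        K1_TS _ ((Kτ Sum.inr).add_mem (e_mem_K1 a.succ) (e_mem_K1 b.succ)),
        K1_TS _ (e_mem_K1 a.succ), K1_TS _ (e_mem_K1 b.succ)])
  have hgs : ∀ w, plusQ F (k + 1) (g.symm w) = plusQ F (k + 1) w := fun w => by
    rw [← hg1 (g.symm w), LinearEquiv.apply_symm_apply]
  have hmm : ∀ W : Submodule F (Fin (k + 1) ⊕ Fin (k + 1) → F),
      (W.map (g : (Fin (k + 1) ⊕ Fin (k + 1) → F) →ₗ[F] (Fin (k + 1) ⊕ Fin (k + 1) → F))).map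
        (g.symm : (Fin (k + 1) ⊕ Fin (k + 1) → F) →ₗ[F] (Fin (k + 1) ⊕ Fin (k + 1) → F)) = W := by
    intro W
    ext w
    simp [Submodule.mem_map]
  -- forward: properties of `W.map g`
  have hfwd : ∀ W : Submodule F (Fin (k + 1) ⊕ Fin (k + 1) → F),
      (Module.finrank F W = k + 1 ∧ (∀ w ∈ W, Cfsg.quadFormPlus (k + 1) F w = 0) ∧ U ≤ W) →
      W.map (g : (Fin (k + 1) ⊕ Fin (k + 1) → F) →ₗ[F] (Fin (k + 1) ⊕ Fin (k + 1) → F))
        = Kτ Sum.inr ∨
      W.map (g : (Fin (k + 1) ⊕ Fin (k + 1) → F) →ₗ[F] (Fin (k + 1) ⊕ Fin (k + 1) → F))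
        = Kτ τ₂ := by
    rintro W ⟨hW1, hW2, hW3⟩
    apply claimA
    · rw [LinearEquiv.finrank_map_eq, hW1]
    · intro w' hw'
      obtain ⟨w, hw, rfl⟩ := Submodule.mem_map.mp hw'
      show plusQ F (k + 1) (g w) = 0
      rw [hg1, plusQ_apply]
      exact hW2 w hw
    · intro a
      rw [← hg2 a]
      exact Submodule.mem_map_of_mem (hW3 (hxU a))
  -- backward: `K.map g.symm` has the original properties
  have hbwd : ∀ K : Submodule F (Fin (k + 1) ⊕ Fin (k + 1) → F),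
      Module.finrank F K = k + 1 → (∀ w ∈ K, plusQ F (k + 1) w = 0) →
      (∀ a : Fin k, (e a.succ : Fin (k + 1) ⊕ Fin (k + 1) → F) ∈ K) →
      (Module.finrank F (K.map
        (g.symm : (Fin (k + 1) ⊕ Fin (k + 1) → F) →ₗ[F] (Fin (k + 1) ⊕ Fin (k + 1) → F))) = k + 1 ∧
      (∀ w ∈ K.map
        (g.symm : (Fin (k + 1) ⊕ Fin (k + 1) → F) →ₗ[F] (Fin (k + 1) ⊕ Fin (k + 1) → F)),
        Cfsg.quadFormPlus (k + 1) F w = 0) ∧
      U ≤ K.map
        (g.symm : (Fin (k + 1) ⊕ Fin (k + 1) → F) →ₗ[F] (Fin (k + 1) ⊕ Fin (k + 1) → F))) := by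
    intro K hK1 hK2 hK3
    refine ⟨by rw [LinearEquiv.finrank_map_eq, hK1], ?_, ?_⟩
    · intro w hw
      obtain ⟨w', hw', rfl⟩ := Submodule.mem_map.mp hw
      show Cfsg.quadFormPlus (k + 1) F (g.symm w') = 0
      rw [← plusQ_apply, hgs]
      exact hK2 w' hw'
    · intro u hu
      have hu' : u = ∑ a, (bU.repr ⟨u, hu⟩ a) • x a := by
        have h0 := congrArg Subtype.val (bU.sum_repr ⟨u, hu⟩)
        rw [Submodule.coe_sum] at h0
        simp only [Submodule.coe_smul] at h0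
        exact h0.symm
      have hgu : g u ∈ K := by
        rw [hu', map_sum]
        refine K.sum_mem fun a _ => ?_
        rw [map_smul, hg2 a]
        exact K.smul_mem _ (hK3 a)
      have h3 : u = g.symm (g u) := (LinearEquiv.symm_apply_apply g u).symm
      rw [h3]
      exact Submodule.mem_map_of_mem hgu
  rw [Nat.card_eq_two_iff]
  refine ⟨⟨_, hbwd (Kτ Sum.inr) (finrank_Kτ _ Sum.inr_injective) K1_TS (fun a => e_mem_K1 a.succ)⟩,
    ⟨_, hbwd (Kτ τ₂) (finrank_Kτ _ τ₂_inj) K2_TS e_mem_K2⟩, ?_, ?_⟩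
  · intro h
    have h1 := congrArg Subtype.val h
    simp only at h1
    have h2 := congrArg (Submodule.map
      (g : (Fin (k + 1) ⊕ Fin (k + 1) → F) →ₗ[F] (Fin (k + 1) ⊕ Fin (k + 1) → F))) h1
    have hmm' : ∀ W : Submodule F (Fin (k + 1) ⊕ Fin (k + 1) → F),
        (W.map (g.symm : (Fin (k + 1) ⊕ Fin (k + 1) → F) →ₗ[F] (Fin (k + 1) ⊕ Fin (k + 1) → F))).map
        (g : (Fin (k + 1) ⊕ Fin (k + 1) → F) →ₗ[F] (Fin (k + 1) ⊕ Fin (k + 1) → F)) = W := by
      intro W
      ext w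
      simp [Submodule.mem_map]
    rw [hmm', hmm'] at h2
    exact K1_ne_K2 h2
  · ext ⟨W, hW⟩
    simp only [Set.mem_insert_iff, Set.mem_singleton_iff, Set.mem_univ, iff_true]
    rcases hfwd W hW with h | h
    · left
      apply Subtype.ext
      have h5 : W = Submodule.map
          (g.symm : (Fin (k + 1) ⊕ Fin (k + 1) → F) →ₗ[F] (Fin (k + 1) ⊕ Fin (k + 1) → F))
          (Kτ Sum.inr) := by rw [← h, hmm]
      exact h5
    · right
      apply Subtype.ext
      have h5 : W = Submodule.map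
          (g.symm : (Fin (k + 1) ⊕ Fin (k + 1) → F) →ₗ[F] (Fin (k + 1) ⊕ Fin (k + 1) → F))
          (Kτ τ₂) := by rw [← h, hmm]
      exact h5

end Std

theorem main {F : Type*} [Field F] [Finite F] (m : ℕ) (hm : 1 ≤ m)
    (U : Submodule F (Fin m ⊕ Fin m → F))
    (hU : Module.finrank F U + 1 = m ∧ ∀ u ∈ U, Cfsg.quadFormPlus m F u = 0) :
    Nat.card {W : Submodule F (Fin m ⊕ Fin m → F) // Module.finrank F W = m ∧
      (∀ w ∈ W, Cfsg.quadFormPlus m F w = 0) ∧ U ≤ W} = 2 := by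
  obtain ⟨k, rfl⟩ : ∃ k, m = k + 1 := ⟨m - 1, by omega⟩
  exact main' U (by omega) hU.2

end S0832aux
end Aux

/-- For the form Σ x_i y_i on F^(2m) over a finite field, m ≥ 1: an (m−1)-dimensional subspace on which the form vanishes is contained in exactly two m-dimensional subspaces on which it vanishes. -/
theorem result {F : Type*} [Field F] [Finite F] (m : ℕ) (hm : 1 ≤ m) (U : Submodule F (Fin m ⊕ Fin m → F)) (hU : Module.finrank F U + 1 = m ∧ ∀ u ∈ U, Cfsg.quadFormPlus m F u = 0) : Nat.card {W : Submodule F (Fin m ⊕ Fin m → F) // Module.finrank F W = m ∧ (∀ w ∈ W, Cfsg.quadFormPlus m F w = 0) ∧ U ≤ W} = 2 := by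
  exact S0832aux.main m hm U hU

end Cfsg.Agent.S0832
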