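import Cfsg.Statements.S4652
import Mathlib
import Cfsg.Agent.S0906
import Cfsg.Agent.Lib.Helper6.BlockCoeff
import Cfsg.Agent.Lib.Helper24.LocalRing
import Cfsg.Agent.Lib.Helper24.CentralChar
import Cfsg.Agent.Lib.Helper24.PerfectLemmas

set_option autoImplicit false
open Cfsg

namespace Cfsg.Agent.S4652

open Cfsg.Agent.CharLib Cfsg.Agent.Lib.Helper24 Cfsg.Agent.Lib.Helper6

universe u
variable {G : Type u} [Group G]

theorem index_centralizer_conj' (g x : G) :
    (Subgroup.centralizer ({x * g * x⁻¹} : Set G)).index =
      (Subgroup.centralizer ({g} : Set G)).index := by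
  rw [← ncard_conj_eq_index, ← ncard_conj_eq_index]
  congr 1
  ext y
  have h : IsConj g (x * g * x⁻¹) := isConj_iff.mpr ⟨x, rfl⟩
  exact ⟨fun h1 => h.trans h1, fun h1 => h.symm.trans h1⟩

theorem centralChar_conj {χ : G → ℂ} (hχ : IsClassFunction G χ) (g x : G) :
    centralChar χ (x * g * x⁻¹) = centralChar χ g := by
  unfold centralChar
  rw [index_centralizer_conj', hχ g x]

theorem isDefectClass_conj [Finite G] (M : Ideal AlgInt) (B : Set (IrrCharacter G)) (g x : G)
    (h : IsDefectClass M B g) : IsDefectClass M B (x * g * x⁻¹) := by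
  have h1 : blockCoeff B (x * g * x⁻¹) = blockCoeff B g := blockCoeff_isClassFunction B g x
  refine ⟨by rw [h1]; exact h.1, by rw [h1]; exact h.2.1, ?_⟩
  intro χ hχ
  rw [centralChar_conj (IsCharacter.isClassFunction (IsIrrCharacter.isCharacter χ.2))]
  exact h.2.2 χ hχ

theorem trivIrr_mem_principalBlock (M : Ideal AlgInt) [hM : M.IsPrime] :
    trivIrr G ∈ principalBlock M G := by
  intro g
  have : centralChar (fun _ : G => (1 : ℂ)) g - centralChar ((trivIrr G : IrrCharacter G) : G → ℂ) g = 0 :=
    sub_self _
  rw [this]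
  exact memLocalIdeal_zero hM.one_notMem

/-- on a defect class of the principal block the class size is prime to `p`. -/
theorem not_dvd_index_of_defectClass [Finite G] (p : ℕ) [hp : Fact p.Prime] (M : Ideal AlgInt)
    (hM : IsPModular p M) (g : G) (hg : IsDefectClass M (principalBlock M G) g) :
    ¬ p ∣ (Subgroup.centralizer ({g} : Set G)).index := by
  have hprime : M.IsPrime := isPrime_of_isPModular hM
  intro hdvd
  have h1 := hg.2.2 (trivIrr G) (trivIrr_mem_principalBlock M)
  apply h1
  have h2 : centralChar ((trivIrr G : IrrCharacter G) : G → ℂ) g =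
      (((Subgroup.centralizer ({g} : Set G)).index : AlgInt) : ℂ) := by
    unfold centralChar
    have e1 : ((trivIrr G : IrrCharacter G) : G → ℂ) g = 1 := rfl
    have e2 : ((trivIrr G : IrrCharacter G) : G → ℂ) 1 = 1 := rfl
    rw [e1, e2]
    simp
  rw [h2]
  exact memLocalIdeal_of_mem (natCast_mem_of_dvd hM hdvd) hprime.one_notMem

theorem factorization_centralizer [Finite G] (p : ℕ) [hp : Fact p.Prime] (g : G)
    (h : ¬ p ∣ (Subgroup.centralizer ({g} : Set G)).index) :
    (Nat.card (Subgroup.centralizer ({g} : Set G))).factorization p =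
      (Nat.card G).factorization p := by
  have h1 := (Subgroup.centralizer ({g} : Set G)).card_mul_index
  rw [← h1, Nat.factorization_mul Nat.card_pos.ne' (Subgroup.index_ne_zero_of_finite)]
  simp [Nat.factorization_eq_zero_of_not_dvd h]

theorem result' [Finite G] (p : ℕ) [hp : Fact p.Prime] (M : Ideal Cfsg.AlgInt)
    (hM : Cfsg.IsPModular p M) (D : Subgroup G) :
    Cfsg.IsDefectGroup p M (Cfsg.principalBlock M G) D ↔ ∃ S : Sylow p G, (S : Subgroup G) = D := by
  have hprime : M.IsPrime := isPrime_of_isPModular hM
  constructor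
  · rintro ⟨g, hg, P, rfl⟩
    have hnd := not_dvd_index_of_defectClass p M hM g hg
    have hf := factorization_centralizer p g hnd
    have hcard : Nat.card ((P : Subgroup (Subgroup.centralizer ({g} : Set G))).map
        (Subgroup.centralizer ({g} : Set G)).subtype) = p ^ (Nat.card G).factorization p := by
      rw [Subgroup.card_subtype, P.card_eq_multiplicity, hf]
    exact ⟨Sylow.ofCard _ hcard, rfl⟩
  · rintro ⟨S, rfl⟩
    have hB : IsPBlock M (principalBlock M G) := ⟨trivIrr G, rfl⟩
    obtain ⟨g₀, hg₀⟩ := Cfsg.Agent.S0906.result p M hM _ hB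
    have hnd := not_dvd_index_of_defectClass p M hM g₀ hg₀
    have hf := factorization_centralizer p g₀ hnd
    let P₀ : Sylow p (Subgroup.centralizer ({g₀} : Set G)) := default
    have hcard : Nat.card ((P₀ : Subgroup (Subgroup.centralizer ({g₀} : Set G))).map
        (Subgroup.centralizer ({g₀} : Set G)).subtype) = p ^ (Nat.card G).factorization p := by
      rw [Subgroup.card_subtype, P₀.card_eq_multiplicity, hf]
    let S₀ : Sylow p G := Sylow.ofCard _ hcard
    obtain ⟨x, hx⟩ := MulAction.exists_smul_eq G S₀ S
    have hg := isDefectClass_conj M _ g₀ x hg₀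
    set g := x * g₀ * x⁻¹ with hgdef
    have hnd' : ¬ p ∣ (Subgroup.centralizer ({g} : Set G)).index := by
      rw [hgdef, index_centralizer_conj']; exact hnd
    have hf' := factorization_centralizer p g hnd'
    have hSC : (S : Subgroup G) ≤ Subgroup.centralizer ({g} : Set G) := by
      intro s hs
      rw [← hx, Sylow.coe_subgroup_smul, Subgroup.mem_pointwise_smul_iff_inv_smul_mem] at hs
      obtain ⟨d, hd, hds⟩ := Subgroup.mem_map.mp hs
      have hdc : (d : G) * g₀ = g₀ * d := by
        have := d.2
        rw [Subgroup.mem_centralizer_iff] at this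
        exact (this g₀ (Set.mem_singleton _)).symm
      rw [Subgroup.mem_centralizer_iff]
      intro y hy
      rw [Set.mem_singleton_iff] at hy
      subst hy
      have hs' : s = x * (d : G) * x⁻¹ := by
        have h2 : ((Subgroup.centralizer ({g₀} : Set G)).subtype d) = (MulAut.conj x)⁻¹ • s := hds
        rw [MulAut.smul_def, MulAut.inv_apply, MulAut.conj_symm_apply] at h2
        rw [Subgroup.coe_subtype] at h2
        rw [h2]; group
      rw [hs', hgdef]
      calc x * g₀ * x⁻¹ * (x * ↑d * x⁻¹) = x * (g₀ * ↑d) * x⁻¹ := by group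
        _ = x * (↑d * g₀) * x⁻¹ := by rw [hdc]
        _ = x * ↑d * x⁻¹ * (x * g₀ * x⁻¹) := by group
    have hQcard : Nat.card ((S : Subgroup G).subgroupOf (Subgroup.centralizer ({g} : Set G))) =
        p ^ (Nat.card (Subgroup.centralizer ({g} : Set G))).factorization p := by
      rw [Nat.card_congr (Subgroup.subgroupOfEquivOfLe hSC).toEquiv, S.card_eq_multiplicity, hf']
    refine ⟨g, hg, Sylow.ofCard _ hQcard, ?_⟩
    rw [Sylow.coe_ofCard, Subgroup.map_subgroupOf_eq_of_le hSC]

/-- Fix a prime p and a maximal ideal M of the algebraic integers containing p. The defect groups of the principal p-block of a finite group G are exactly the Sylow p-subgroups of G: a subgroup D is a defect group of the principal block if and only if D is a Sylow p-subgroup. -/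
theorem result {G : Type*} [Group G] [Fintype G] (p : ℕ) [Fact p.Prime] (M : Ideal Cfsg.AlgInt) (hM : Cfsg.IsPModular p M) (D : Subgroup G) : Cfsg.IsDefectGroup p M (Cfsg.principalBlock M G) D ↔ ∃ S : Sylow p G, (S : Subgroup G) = D := by
  exact result' p M hM D

end Cfsg.Agent.S4652
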