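import Cfsg.Statements.S4583
import Mathlib
import Cfsg.Agent.Lib.Helper6.ThirdMain
import Cfsg.Agent.Lib.Helper6.CliffordCorr
import Cfsg.Agent.Lib.Helper6.CharExtra
import Cfsg.Agent.Lib.Lead.CharInd
import Cfsg.Agent.Lib.Lead.CharMain
import Cfsg.Agent.Lib.Lead.CharEquiv
import Cfsg.Agent.Lib.Helper24.IrrFacts
import Cfsg.Agent.Lib.Helper24.LocalRing

set_option autoImplicit false
open Cfsg

namespace Cfsg.Agent.S4583

open Cfsg.Agent.CharLib Cfsg.Agent.Lib.Helper24 Cfsg.Agent.Lib.Helper6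
open scoped ComplexConjugate

universe u

section
variable {G : Type u} [Group G] [Fintype G]

/-- Frobenius reciprocity in bilinear form. -/
theorem sum_mul_indFun (H : Subgroup G) [Fintype H] (θ : H → ℂ) {a : G → ℂ}
    (ha : IsClassFunction G a) :
    ∑ g : G, a g * indFun H θ g = (H.index : ℂ) * ∑ h : H, a h * θ h := by
  have hcls : IsClassFunction G (fun g => conj (a g)) := fun g k => by
    show conj (a (k * g * k⁻¹)) = conj (a g)
    rw [ha g k]
  have h := frobenius_reciprocity H θ hcls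
  unfold classInner at h
  simp only [Complex.conj_conj] at h
  have hG : (Nat.card G : ℂ) ≠ 0 := Nat.cast_ne_zero.mpr Nat.card_pos.ne'
  have hH : (Nat.card H : ℂ) ≠ 0 := Nat.cast_ne_zero.mpr Nat.card_pos.ne'
  have hidx : (Nat.card G : ℂ) = (Nat.card H : ℂ) * (H.index : ℂ) := by
    rw [← Nat.cast_mul, Subgroup.card_mul_index]
  have e1 : ∑ g : G, a g * indFun H θ g = ∑ g : G, indFun H θ g * a g :=
    Finset.sum_congr rfl (fun g _ => mul_comm _ _)
  have e2 : ∑ h : H, a h * θ h = ∑ h : H, θ h * a h :=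
    Finset.sum_congr rfl (fun g _ => mul_comm _ _)
  rw [e1, e2]
  have h' : ∑ g : G, indFun H θ g * a g =
      (Nat.card G : ℂ) * ((Nat.card H : ℂ)⁻¹ * ∑ h : H, θ h * a h) := by
    rw [← h, ← mul_assoc, mul_inv_cancel₀ hG, one_mul]
  rw [h', hidx]
  field_simp

end


/-- A `p`-regular element of `N P` lies in `N`. -/
theorem mem_of_pRegular {G : Type u} [Group G] [Finite G] (N : Subgroup G) [N.Normal] (p : ℕ)
    [hp : Fact p.Prime] (P : Sylow p G) {k : G} (hk : k ∈ N ⊔ (P : Subgroup G))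
    (hreg : ¬ p ∣ orderOf k) : k ∈ N := by
  have hk' : k ∈ ((N ⊔ (P : Subgroup G) : Subgroup G) : Set G) := hk
  rw [Subgroup.normal_mul, Set.mem_mul] at hk'
  obtain ⟨n, hn, x, hx, rfl⟩ := hk'
  set π := QuotientGroup.mk' N with hπ
  have h1 : π (n * x) = π x := by
    rw [map_mul]
    have : π n = 1 := (QuotientGroup.eq_one_iff n).mpr hn
    rw [this, one_mul]
  have h2 : orderOf (π (n * x)) ∣ orderOf (n * x) := orderOf_map_dvd π (n * x)
  obtain ⟨j, hj⟩ := (P.isPGroup') ⟨x, hx⟩
  have hxj : x ^ (p ^ j) = 1 := by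
    have := congrArg Subtype.val hj
    simpa using this
  have h3 : orderOf (π x) ∣ p ^ j := by
    apply orderOf_dvd_of_pow_eq_one
    rw [← map_pow, hxj, map_one]
  rw [h1] at h2
  obtain ⟨i, _, hi⟩ := (Nat.dvd_prime_pow hp.out).mp h3
  have hi0 : i = 0 := by
    by_contra hne
    apply hreg
    refine dvd_trans ?_ h2
    rw [hi]
    exact dvd_pow_self p hne
  rw [hi0, pow_zero, orderOf_eq_one_iff] at hi
  have h4 : π (n * x) = 1 := by rw [h1, hi]
  exact (QuotientGroup.eq_one_iff (n * x)).mp h4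


section
variable {G : Type u} [Group G] [Fintype G]

/-- lying over is transitive, one step being an extension -/
theorem over_of_over {K N : Subgroup G} [Fintype K] [Fintype N] (hNK : N ≤ K) {χ : G → ℂ}
    (hχ : IsCharacter G χ) {η : K → ℂ} (hη : IsIrrCharacter K η) {θ : N → ℂ}
    (hθ : IsIrrCharacter N θ) (hres : resLE hNK η = θ)
    (h : classInner (resFun K χ) η ≠ 0) : classInner (resFun N χ) θ ≠ 0 := by
  have hα := IsCharacter.sub_constituent (isCharacter_resFun K hχ) hη h
  have hθc := IsIrrCharacter.isCharacter hθ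
  obtain ⟨b, hb⟩ := IsCharacter.classInner_nat (isCharacter_resLE hNK hα) hθc
  have e1 : resFun N χ = θ + resLE hNK (resFun K χ - η) := by
    rw [← hres, ← map_add]
    have : η + (resFun K χ - η) = resFun K χ := by abel
    rw [this]
    rfl
  have e2 : classInner θ θ = 1 := by
    have := classInner_irr' (⟨θ, hθ⟩ : IrrCharacter N) ⟨θ, hθ⟩
    simpa using this
  rw [e1, classInner_add_left, hb, e2]
  have : ((1 : ℂ) + b) = ((1 + b : ℕ) : ℂ) := by push_cast; ring
  rw [this]
  exact_mod_cast (by omega : 1 + b ≠ 0)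

theorem main (N : Subgroup G) [N.Normal] [Fintype N] (p : ℕ) [hp : Fact p.Prime]
    (M : Ideal AlgInt) (hM : IsPModular p M) (P : Sylow p G) (θ : IrrCharacter N)
    (hθ : θ ∈ principalBlock M N) (hdeg : ¬ p ∣ charDegree (θ : N → ℂ))
    (K : Subgroup G) [Fintype K] (hNK : N ≤ K) (hPK : (P : Subgroup G) ≤ K)
    (hKle : K ≤ N ⊔ (P : Subgroup G))
    (η : IrrCharacter K)
    (hη : ∀ n : N, (η : K → ℂ) (Subgroup.inclusion hNK n) = (θ : N → ℂ) n) :
    ∃ χ : IrrCharacter G, χ ∈ principalBlock M G ∧ ¬ p ∣ charDegree (χ : G → ℂ) ∧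
      classInner (resFun N (χ : G → ℂ)) (θ : N → ℂ) ≠ 0 := by
  classical
  have hprime : M.IsPrime := isPrime_of_isPModular hM
  let _ : Fintype (IrrCharacter G) := fintypeIrr G
  by_contra hcon
  push Not at hcon
  set Ψ : G → ℂ := indFun K (η : K → ℂ) with hΨ
  have hΨchar : IsCharacter G Ψ := IsCharacter.indFun K (IsIrrCharacter.isCharacter η.2)
  have h1 := sum_mul_indFun K (η : K → ℂ) (pRegInd_isClassFunction (G := G) p)
  have h2 : ∑ k : K, pRegInd p (k : G) * (η : K → ℂ) k =
      ∑ n : N, pRegInd p (n : G) * (θ : N → ℂ) n := by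
    symm
    apply Fintype.sum_of_injective (Subgroup.inclusion hNK) (Subgroup.inclusion_injective _)
    · intro k hk
      have hkN : (k : G) ∉ N := by
        intro hmem
        exact hk ⟨⟨k, hmem⟩, Subtype.ext rfl⟩
      have hdvd : p ∣ orderOf (k : G) := by
        by_contra hreg
        exact hkN (mem_of_pRegular N p P (hKle k.2) hreg)
      unfold pRegInd
      rw [if_neg (not_not.mpr hdvd), zero_mul]
    · intro n
      rw [hη n]
      rfl
  have hθ1 : (θ : N → ℂ) 1 ≠ 0 := irr_apply_one_ne_zero θ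
  have h3 : ∑ n : N, pRegInd p (n : G) * (θ : N → ℂ) n =
      omegaFun (θ : N → ℂ) (pRegInd p) * (θ : N → ℂ) 1 := by
    unfold omegaFun
    rw [div_mul_cancel₀ _ hθ1]
    apply Finset.sum_congr rfl
    intro n _
    congr 1
    unfold pRegInd
    simp only [Subgroup.orderOf_coe]
  -- the sum is a unit
  have hu : ¬ MemLocalIdeal M (omegaFun (θ : N → ℂ) (pRegInd p)) :=
    (mem_principalBlock_iff hM θ).mp hθ
  have hidx : ¬ p ∣ K.index := by
    intro hdvd
    exact P.not_dvd_index (dvd_trans hdvd (Subgroup.index_dvd_of_le hPK))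
  have hnd : ¬ p ∣ K.index * charDegree (θ : N → ℂ) := by
    intro hdvd
    rcases (Nat.Prime.dvd_mul hp.out).mp hdvd with h | h
    · exact hidx h
    · exact hdeg h
  have hS : ¬ MemLocalIdeal M (∑ g : G, pRegInd p g * Ψ g) := by
    intro hmem
    rw [h1, h2, h3, irr_apply_one θ] at hmem
    apply hu
    have e : omegaFun (θ : N → ℂ) (pRegInd p) =
        ((K.index * charDegree (θ : N → ℂ) : ℕ) : ℂ)⁻¹ *
          ((K.index : ℂ) * (omegaFun (θ : N → ℂ) (pRegInd p) *
            (charDegree (θ : N → ℂ) : ℂ))) := by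
      have h0 : ((K.index * charDegree (θ : N → ℂ) : ℕ) : ℂ) ≠ 0 := by
        apply Nat.cast_ne_zero.mpr
        intro h0
        apply hnd
        rw [h0]
        exact dvd_zero p
      rw [inv_mul_eq_div, eq_div_iff h0]
      push_cast
      ring
    rw [e]
    exact memLocalIdeal_mul_left (memLocalRing_inv_natCast_of_not_dvd hM hnd) hmem
  -- expansion into irreducibles
  apply hS
  have hexp := classFunction_eq_sum (IsCharacter.isClassFunction hΨchar)
  have hsum : ∑ g : G, pRegInd p g * Ψ g =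
      ∑ χ : IrrCharacter G, classInner Ψ (χ : G → ℂ) *
        (omegaFun (χ : G → ℂ) (pRegInd p) * (χ : G → ℂ) 1) := by
    have hχ1 : ∀ χ : IrrCharacter G, omegaFun (χ : G → ℂ) (pRegInd p) * (χ : G → ℂ) 1 =
        ∑ g : G, pRegInd p g * (χ : G → ℂ) g := by
      intro χ
      unfold omegaFun
      rw [div_mul_cancel₀ _ (irr_apply_one_ne_zero χ)]
    simp only [hχ1]
    have hpt : ∀ g : G, Ψ g = ∑ χ : IrrCharacter G, classInner Ψ (χ : G → ℂ) * (χ : G → ℂ) g := by
      intro g
      have := congrFun hexp g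
      rw [this]
      simp [Finset.sum_apply]
    rw [Finset.sum_congr rfl (fun g _ => by rw [hpt g, Finset.mul_sum])]
    rw [Finset.sum_comm]
    apply Finset.sum_congr rfl
    intro χ _
    rw [Finset.mul_sum]
    apply Finset.sum_congr rfl
    intro g _
    ring
  rw [hsum]
  apply sum_memLocalIdeal
  intro χ _
  have hχc : IsCharacter G (χ : G → ℂ) := IsIrrCharacter.isCharacter χ.2
  obtain ⟨m, hm⟩ := IsCharacter.classInner_nat hΨchar hχc
  by_cases hm0 : m = 0
  · rw [hm, hm0]
    simp only [Nat.cast_zero, zero_mul]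
    exact memLocalIdeal_zero hprime.one_notMem
  · -- χ lies over θ
    have hover : classInner (resFun N (χ : G → ℂ)) (θ : N → ℂ) ≠ 0 := by
      apply over_of_over hNK hχc η.2 θ.2
      · funext n
        rw [resLE_apply]
        exact hη n
      · have hfr := frobenius_reciprocity K (η : K → ℂ) (IsCharacter.isClassFunction hχc)
        rw [← hΨ, hm] at hfr
        rw [← classInner_conj_symm]
        change conj (classInner (η : K → ℂ) (fun k : K => (χ : G → ℂ) k)) ≠ 0
        rw [← hfr]
        simpa using hm0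
    have hmR : MemLocalRing M ((m : ℕ) : ℂ) := by
      have : ((m : AlgInt) : ℂ) = (m : ℂ) := by simp
      rw [← this]
      exact memLocalRing_of_algInt _ hprime.one_notMem
    rw [hm]
    apply memLocalIdeal_mul_left hmR
    by_cases hχB : χ ∈ principalBlock M G
    · have hdvd : p ∣ charDegree (χ : G → ℂ) := by
        by_contra hnd'
        exact hover (hcon χ hχB hnd')
      rw [irr_apply_one χ]
      apply memLocalIdeal_mul_left (memLocalRing_omegaFun χ (pRegInd_isClassFunction p)
        (memLocalRing_pRegInd p))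
      have : ((charDegree (χ : G → ℂ) : AlgInt) : ℂ) = (charDegree (χ : G → ℂ) : ℂ) := by simp
      rw [← this]
      exact memLocalIdeal_of_mem (natCast_mem_of_dvd hM hdvd) hprime.one_notMem
    · rw [omegaFun_pRegInd_eq_zero hM χ hχB, zero_mul]
      exact memLocalIdeal_zero hprime.one_notMem

end


theorem result' {G : Type*} [Group G] [Finite G] (N : Subgroup G) [N.Normal] (p : ℕ) [Fact p.Prime] (M : Ideal Cfsg.AlgInt) (hM : Cfsg.IsPModular p M) (P : Sylow p G)
    (θ : Cfsg.IrrCharacter N) (hθ : θ ∈ Cfsg.principalBlock M N) (hdeg : ¬ p ∣ Cfsg.charDegree (θ : N → ℂ))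
    (hext : ∃ η : Cfsg.IrrCharacter ↥(N ⊔ (P : Subgroup G)), ∀ n : N, (η : ↥(N ⊔ (P : Subgroup G)) → ℂ) (Subgroup.inclusion le_sup_left n) = (θ : N → ℂ) n) :
    ∃ χ : Cfsg.IrrCharacter G, χ ∈ Cfsg.principalBlock M G ∧ ¬ p ∣ Cfsg.charDegree (χ : G → ℂ) ∧
      haveI := Fintype.ofFinite N; Cfsg.classInner (fun n : N => (χ : G → ℂ) n) (θ : N → ℂ) ≠ 0 := by
  classical
  let _ : Fintype G := Fintype.ofFinite G
  obtain ⟨η, hη⟩ := hext
  obtain ⟨χ, h1, h2, h3⟩ := @main G _ _ N _ (Fintype.ofFinite N) p _ M hM P θ hθ hdeg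
    (N ⊔ (P : Subgroup G)) (Fintype.ofFinite _) le_sup_left le_sup_right le_rfl η hη
  exact ⟨χ, h1, h2, h3⟩

/-- Let N be a normal subgroup of the finite group G, p a prime, M a maximal ideal of the algebraic integers containing p, and P a Sylow p-subgroup of G. Let θ be an irreducible character of N of degree prime to p lying in the principal p-block of N, and suppose θ extends to the subgroup NP (some irreducible character of NP restricts to θ). Then some irreducible character χ of G of degree prime to p in the principal p-block of G lies over θ (θ is a constituent of the restriction of χ to N). -/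
theorem result {G : Type*} [Group G] [Finite G] (N : Subgroup G) [N.Normal] (p : ℕ) [Fact p.Prime] (M : Ideal Cfsg.AlgInt) (hM : Cfsg.IsPModular p M) (P : Sylow p G)
    (θ : Cfsg.IrrCharacter N) (hθ : θ ∈ Cfsg.principalBlock M N) (hdeg : ¬ p ∣ Cfsg.charDegree (θ : N → ℂ))
    (hext : ∃ η : Cfsg.IrrCharacter ↥(N ⊔ (P : Subgroup G)), ∀ n : N, (η : ↥(N ⊔ (P : Subgroup G)) → ℂ) (Subgroup.inclusion le_sup_left n) = (θ : N → ℂ) n) :
    ∃ χ : Cfsg.IrrCharacter G, χ ∈ Cfsg.principalBlock M G ∧ ¬ p ∣ Cfsg.charDegree (χ : G → ℂ) ∧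
      haveI := Fintype.ofFinite N; Cfsg.classInner (fun n : N => (χ : G → ℂ) n) (θ : N → ℂ) ≠ 0 := by
  exact result' N p M hM P θ hθ hdeg hext

end Cfsg.Agent.S4583
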