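import Cfsg.Statements.S4708
import Mathlib
import Cfsg.Agent.Lib.Helper6.ThirdMain
import Cfsg.Agent.Lib.Helper6.Clifford
import Cfsg.Agent.Lib.Helper6.CliffordCorr
import Cfsg.Agent.Lib.Helper6.CharExtra
import Cfsg.Agent.Lib.Helper6.IndFun
import Cfsg.Agent.Lib.Lead.CharInd
import Cfsg.Agent.Lib.Lead.CharMain
import Cfsg.Agent.Lib.Lead.CharEquiv
import Cfsg.Agent.Lib.Helper24.IrrFacts
import Cfsg.Agent.Lib.Helper24.LocalRing
import Cfsg.Agent.S4583

set_option autoImplicit false
open Cfsg

namespace Cfsg.Agent.S4708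

open Cfsg.Agent.CharLib Cfsg.Agent.Lib.Helper24 Cfsg.Agent.Lib.Helper6
open scoped ComplexConjugate

universe u

section
variable {G : Type u} [Group G] [Fintype G]

/-- expansion of `∑ a ψ` along the irreducible constituents of the class function `ψ` -/
theorem sum_mul_eq_sum_irr [Fintype (IrrCharacter G)] (a : G → ℂ) {ψ : G → ℂ}
    (hψ : IsClassFunction G ψ) :
    ∑ g : G, a g * ψ g = ∑ χ : IrrCharacter G, classInner ψ (χ : G → ℂ) *
        (omegaFun (χ : G → ℂ) a * (χ : G → ℂ) 1) := by
  have hexp := classFunction_eq_sum hψ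
  have hχ1 : ∀ χ : IrrCharacter G, omegaFun (χ : G → ℂ) a * (χ : G → ℂ) 1 =
      ∑ g : G, a g * (χ : G → ℂ) g := by
    intro χ
    unfold omegaFun
    rw [div_mul_cancel₀ _ (irr_apply_one_ne_zero χ)]
  simp only [hχ1]
  have hpt : ∀ g : G, ψ g = ∑ χ : IrrCharacter G, classInner ψ (χ : G → ℂ) * (χ : G → ℂ) g := by
    intro g
    have := congrFun hexp g
    rw [this]
    simp [Finset.sum_apply]
  rw [Finset.sum_congr rfl (fun g _ => by rw [hpt g, Finset.mul_sum])]
  rw [Finset.sum_comm]
  apply Finset.sum_congr rfl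
  intro χ _
  rw [Finset.mul_sum]
  apply Finset.sum_congr rfl
  intro g _
  ring

/-- Every character in the principal block of a subgroup lies under a character of the principal
block of the group. -/
theorem exists_over_principal (H : Subgroup G) [Fintype H] (p : ℕ) [hp : Fact p.Prime]
    (M : Ideal AlgInt) (hM : IsPModular p M) (θ : IrrCharacter H)
    (hθ : θ ∈ principalBlock M H) :
    ∃ χ : IrrCharacter G, χ ∈ principalBlock M G ∧
      classInner (resFun H (χ : G → ℂ)) (θ : H → ℂ) ≠ 0 := by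
  classical
  have hprime : M.IsPrime := isPrime_of_isPModular hM
  let _ : Fintype (IrrCharacter G) := fintypeIrr G
  by_contra hcon
  push Not at hcon
  set Ψ : G → ℂ := indFun H (θ : H → ℂ) with hΨ
  have hΨchar : IsCharacter G Ψ := IsCharacter.indFun H (IsIrrCharacter.isCharacter θ.2)
  have h1 := Cfsg.Agent.S4583.sum_mul_indFun H (θ : H → ℂ) (pRegInd_isClassFunction (G := G) p)
  have hθ1 : (θ : H → ℂ) 1 ≠ 0 := irr_apply_one_ne_zero θ
  have h3 : ∑ n : H, pRegInd p (n : G) * (θ : H → ℂ) n =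
      omegaFun (θ : H → ℂ) (pRegInd p) * (θ : H → ℂ) 1 := by
    unfold omegaFun
    rw [div_mul_cancel₀ _ hθ1]
    apply Finset.sum_congr rfl
    intro n _
    congr 1
    unfold pRegInd
    simp only [Subgroup.orderOf_coe]
  have hu : ¬ MemLocalIdeal M (omegaFun (θ : H → ℂ) (pRegInd p)) :=
    (mem_principalBlock_iff hM θ).mp hθ
  have hu0 : omegaFun (θ : H → ℂ) (pRegInd p) ≠ 0 := by
    intro h0
    apply hu
    rw [h0]
    exact memLocalIdeal_zero hprime.one_notMem
  have hidx : (H.index : ℂ) ≠ 0 := by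
    apply Nat.cast_ne_zero.mpr
    exact Subgroup.index_ne_zero_of_finite
  have hS : ∑ g : G, pRegInd p g * Ψ g ≠ 0 := by
    rw [h1, h3]
    exact mul_ne_zero hidx (mul_ne_zero hu0 hθ1)
  apply hS
  rw [sum_mul_eq_sum_irr (pRegInd p) (IsCharacter.isClassFunction hΨchar)]
  apply Finset.sum_eq_zero
  intro χ _
  have hχc : IsCharacter G (χ : G → ℂ) := IsIrrCharacter.isCharacter χ.2
  by_cases hχB : χ ∈ principalBlock M G
  · have h0 := hcon χ hχB
    have hfr := frobenius_reciprocity H (θ : H → ℂ) (IsCharacter.isClassFunction hχc)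
    rw [← hΨ] at hfr
    have : classInner Ψ (χ : G → ℂ) = 0 := by
      rw [hfr, ← classInner_conj_symm]
      change conj (classInner (resFun H (χ : G → ℂ)) (θ : H → ℂ)) = 0
      rw [h0, map_zero]
    rw [this, zero_mul]
  · rw [omegaFun_pRegInd_eq_zero hM χ hχB, zero_mul, mul_zero]

end


section normal
variable {G : Type u} [Group G] [Fintype G] (H : Subgroup G) [hN : H.Normal] [Fintype H]

theorem omegaFun_conjFun_pRegInd (p : ℕ) (g : G) (θ : H → ℂ) :
    omegaFun (conjFun H g θ) (pRegInd p) = omegaFun θ (pRegInd p) := by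
  unfold omegaFun
  rw [conjFun_apply_one]
  congr 1
  apply Fintype.sum_equiv (MulAut.conjNormal g : H ≃* H).toEquiv
  intro h
  have e1 : (MulAut.conjNormal g : H ≃* H).toEquiv h = ⟨g * h * g⁻¹, hN.conj_mem h h.2 g⟩ := by
    apply Subtype.ext
    simp [MulAut.conjNormal_apply]
  rw [e1, conjFun_apply]
  congr 1
  unfold pRegInd
  have : orderOf (⟨g * h * g⁻¹, hN.conj_mem h h.2 g⟩ : H) = orderOf h := by
    rw [← Subgroup.orderOf_coe, ← Subgroup.orderOf_coe]
    exact orderOf_conj_eq g (h : G)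
  rw [this]

/-- the constituents of the restriction of a principal block character to a normal subgroup lie
in the principal block -/
theorem constituent_mem_principal (p : ℕ) [hp : Fact p.Prime]
    (M : Ideal AlgInt) (hM : IsPModular p M) (χ : IrrCharacter G)
    (hχ : χ ∈ principalBlock M G) (θ : IrrCharacter H)
    (hover : classInner (resFun H (χ : G → ℂ)) (θ : H → ℂ) ≠ 0) :
    θ ∈ principalBlock M H := by
  classical
  have hprime : M.IsPrime := isPrime_of_isPModular hM
  let _ : Fintype (IrrCharacter H) := fintypeIrr H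
  by_contra hθ
  have hχc : IsCharacter G (χ : G → ℂ) := IsIrrCharacter.isCharacter χ.2
  -- the class function: indicator of the p-regular elements of H
  set a : G → ℂ := fun g => if g ∈ H then pRegInd p g else 0 with ha
  have hacls : IsClassFunction G a := by
    intro g k
    simp only [ha]
    by_cases hg : g ∈ H
    · rw [if_pos hg, if_pos (hN.conj_mem g hg k)]
      exact pRegInd_isClassFunction p g k
    · have : k * g * k⁻¹ ∉ H := by
        intro hmem
        apply hg
        have := hN.conj_mem _ hmem k⁻¹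
        simpa [mul_assoc] using this
      rw [if_neg hg, if_neg this]
  have haR : ∀ x, MemLocalRing M (a x) := by
    intro x
    simp only [ha]
    split_ifs
    · exact memLocalRing_pRegInd p x
    · exact memLocalRing_zero
  have hsumH : ∀ f : G → ℂ, ∑ g : G, a g * f g = ∑ h : H, pRegInd p h * f h := by
    intro f
    symm
    apply Fintype.sum_of_injective (Subtype.val : H → G) Subtype.val_injective
    · intro g hg
      have : g ∉ H := by
        intro hmem
        exact hg ⟨⟨g, hmem⟩, rfl⟩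
      simp only [ha]
      rw [if_neg this, zero_mul]
    · intro h
      simp only [ha]
      rw [if_pos h.2]
      congr 1
      unfold pRegInd
      simp only [Subgroup.orderOf_coe]
  have hkey := memLocalIdeal_omegaFun_sub (M := M) (trivIrr G) χ hχ hacls haR
  have h1 : omegaFun ((trivIrr G : IrrCharacter G) : G → ℂ) a =
      (Nat.card {x : H // ¬ p ∣ orderOf x} : ℂ) := by
    rw [← omegaFun_trivIrr_pRegInd (G := H) p]
    unfold omegaFun
    change (∑ g : G, a g * (1 : ℂ)) / (1 : ℂ) = (∑ h : H, pRegInd p h * (1 : ℂ)) / (1 : ℂ)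
    rw [hsumH (fun _ => (1 : ℂ))]
  have h2 : omegaFun (χ : G → ℂ) a = 0 := by
    unfold omegaFun
    rw [div_eq_zero_iff]
    left
    rw [hsumH]
    have := sum_mul_eq_sum_irr (G := H) (pRegInd p)
      (IsCharacter.isClassFunction (isCharacter_resFun H hχc))
    change ∑ h : H, pRegInd p h * (resFun H (χ : G → ℂ)) h = _ at this
    change ∑ h : H, pRegInd p h * (resFun H (χ : G → ℂ)) h = 0
    rw [this]
    apply Finset.sum_eq_zero
    intro φ _
    by_cases hφ : classInner (resFun H (χ : G → ℂ)) (φ : H → ℂ) = 0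
    · rw [hφ, zero_mul]
    · obtain ⟨g, hg⟩ := exists_conjFun_eq_of_constituent H χ.2 θ.2 φ.2 hover hφ
      rw [← hg, omegaFun_conjFun_pRegInd, omegaFun_pRegInd_eq_zero hM θ hθ, zero_mul, mul_zero]
  rw [h1, h2, sub_zero] at hkey
  have h3 : ((Nat.card {x : H // ¬ p ∣ orderOf x} : AlgInt) : ℂ) =
      (Nat.card {x : H // ¬ p ∣ orderOf x} : ℂ) := by simp
  rw [← h3, memLocalIdeal_coe_iff] at hkey
  exact natCast_not_mem_of_not_dvd hM (not_dvd_card_pRegular p) hkey

end normal


/-- the purely combinatorial part -/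
theorem comb {A B : Type*} [Fintype A] [Fintype B] (D : A → ℕ) (d : B → ℕ)
    (c : A → B → ℕ)
    (sA : Finset A) (sB : Finset B) (n : ℕ)
    (F1 : ∀ a, D a = ∑ b, c a b * d b)
    (F2 : ∀ b, ∑ a, c a b * D a = n * d b)
    (F3 : ∀ b ∈ sB, ∃ a ∈ sA, c a b ≠ 0)
    (F4 : ∀ a ∈ sA, ∀ b, c a b ≠ 0 → b ∈ sB) :
    ∑ b ∈ sB, d b ^ 2 ≤ ∑ a ∈ sA, D a ^ 2 ∧ ∑ a ∈ sA, D a ^ 2 ≤ n * ∑ b ∈ sB, d b ^ 2 := by
  classical
  constructor
  · calc ∑ b ∈ sB, d b ^ 2 ≤ ∑ b ∈ sB, ∑ a ∈ sA, (if c a b ≠ 0 then d b ^ 2 else 0) := by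
          apply Finset.sum_le_sum
          intro b hb
          obtain ⟨a, ha, hc⟩ := F3 b hb
          have h1 : d b ^ 2 = (if c a b ≠ 0 then d b ^ 2 else 0) := by rw [if_pos hc]
          calc d b ^ 2 = (if c a b ≠ 0 then d b ^ 2 else 0) := h1
            _ ≤ _ := Finset.single_le_sum (f := fun a => if c a b ≠ 0 then d b ^ 2 else 0)
                (fun _ _ => Nat.zero_le _) ha
      _ = ∑ a ∈ sA, ∑ b ∈ sB, (if c a b ≠ 0 then d b ^ 2 else 0) := Finset.sum_comm
      _ ≤ ∑ a ∈ sA, D a ^ 2 := by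
          apply Finset.sum_le_sum
          intro a _
          calc ∑ b ∈ sB, (if c a b ≠ 0 then d b ^ 2 else 0)
              ≤ ∑ b ∈ sB, (c a b * d b) ^ 2 := by
                apply Finset.sum_le_sum
                intro b _
                split_ifs with hc
                · have : 1 ≤ c a b := Nat.one_le_iff_ne_zero.mpr hc
                  calc d b ^ 2 = (1 * d b) ^ 2 := by rw [one_mul]
                    _ ≤ (c a b * d b) ^ 2 := by gcongr
                · exact Nat.zero_le _
            _ ≤ ∑ b, (c a b * d b) ^ 2 :=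
                Finset.sum_le_sum_of_subset (Finset.subset_univ _)
            _ ≤ (∑ b, c a b * d b) ^ 2 :=
                Finset.sum_sq_le_sq_sum_of_nonneg (fun _ _ => Nat.zero_le _)
            _ = D a ^ 2 := by rw [F1 a]
  · have h1 : ∀ a ∈ sA, D a ^ 2 = ∑ b ∈ sB, D a * (c a b * d b) := by
      intro a ha
      rw [sq, ← Finset.mul_sum]
      congr 1
      rw [F1 a]
      symm
      apply Finset.sum_subset (Finset.subset_univ _)
      intro b _ hb
      have : c a b = 0 := by
        by_contra hc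
        exact hb (F4 a ha b hc)
      rw [this, zero_mul]
    calc ∑ a ∈ sA, D a ^ 2 = ∑ a ∈ sA, ∑ b ∈ sB, D a * (c a b * d b) :=
          Finset.sum_congr rfl h1
      _ = ∑ b ∈ sB, ∑ a ∈ sA, D a * (c a b * d b) := Finset.sum_comm
      _ = ∑ b ∈ sB, d b * ∑ a ∈ sA, c a b * D a := by
          apply Finset.sum_congr rfl
          intro b _
          rw [Finset.mul_sum]
          apply Finset.sum_congr rfl
          intro a _
          ring
      _ ≤ ∑ b ∈ sB, d b * (n * d b) := by
          apply Finset.sum_le_sum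
          intro b _
          apply Nat.mul_le_mul_left
          rw [← F2 b]
          exact Finset.sum_le_sum_of_subset (Finset.subset_univ _)
      _ = n * ∑ b ∈ sB, d b ^ 2 := by
          rw [Finset.mul_sum]
          apply Finset.sum_congr rfl
          intro b _
          ring


theorem result' {G : Type*} [Group G] [Finite G] (p : ℕ) [Fact p.Prime] (M : Ideal Cfsg.AlgInt) (hM : Cfsg.IsPModular p M) (H : Subgroup G) [H.Normal] : (∑ᶠ θ ∈ Cfsg.principalBlock M H, Cfsg.charDegree (θ : H → ℂ) ^ 2) ≤ (∑ᶠ χ ∈ Cfsg.principalBlock M G, Cfsg.charDegree (χ : G → ℂ) ^ 2) ∧ (∑ᶠ χ ∈ Cfsg.principalBlock M G, Cfsg.charDegree (χ : G → ℂ) ^ 2) ≤ H.index * ∑ᶠ θ ∈ Cfsg.principalBlock M H, Cfsg.charDegree (θ : H → ℂ) ^ 2 := by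
  classical
  let _ : Fintype G := Fintype.ofFinite G
  let _ : Fintype H := Fintype.ofFinite H
  let _ : Fintype (IrrCharacter G) := fintypeIrr G
  let _ : Fintype (IrrCharacter H) := fintypeIrr H
  have hc : ∀ (χ : IrrCharacter G) (θ : IrrCharacter H), ∃ n : ℕ,
      classInner (resFun H (χ : G → ℂ)) (θ : H → ℂ) = n := fun χ θ =>
    IsCharacter.classInner_nat (isCharacter_resFun H (IsIrrCharacter.isCharacter χ.2))
      (IsIrrCharacter.isCharacter θ.2)
  choose c hc using hc
  rw [finsum_mem_eq_sum_ite, finsum_mem_eq_sum_ite, ← Finset.sum_filter, ← Finset.sum_filter]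
  apply comb (fun χ : IrrCharacter G => charDegree (χ : G → ℂ))
    (fun θ : IrrCharacter H => charDegree (θ : H → ℂ)) c
  · -- F1
    intro χ
    have hcls : IsClassFunction H (resFun H (χ : G → ℂ)) :=
      IsCharacter.isClassFunction (isCharacter_resFun H (IsIrrCharacter.isCharacter χ.2))
    have h1 := congrFun (classFunction_eq_sum hcls) 1
    rw [resFun_apply] at h1
    simp only [Finset.sum_apply, Pi.smul_apply, smul_eq_mul, hc, irr_apply_one] at h1
    have h2 : ((1 : H) : G) = 1 := rfl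
    rw [h2, irr_apply_one] at h1
    exact_mod_cast h1
  · -- F2
    intro θ
    have hcls : IsClassFunction G (indFun H (θ : H → ℂ)) := indFun_isClassFunction H _
    have h1 := congrFun (classFunction_eq_sum hcls) 1
    rw [indFun_apply_one] at h1
    have hfr : ∀ χ : IrrCharacter G, classInner (indFun H (θ : H → ℂ)) (χ : G → ℂ) = c χ θ := by
      intro χ
      rw [frobenius_reciprocity H (θ : H → ℂ)
        (IsCharacter.isClassFunction (IsIrrCharacter.isCharacter χ.2)), ← classInner_conj_symm]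
      change conj (classInner (resFun H (χ : G → ℂ)) (θ : H → ℂ)) = _
      rw [hc, Complex.conj_natCast]
    simp only [Finset.sum_apply, Pi.smul_apply, smul_eq_mul, hfr, irr_apply_one] at h1
    have hG : (Nat.card G : ℂ) = (Nat.card H : ℂ) * (H.index : ℂ) := by
      rw [← Nat.cast_mul, Subgroup.card_mul_index]
    have hH : (Nat.card H : ℂ) ≠ 0 := Nat.cast_ne_zero.mpr Nat.card_pos.ne'
    rw [hG, ← mul_assoc, inv_mul_cancel₀ hH, one_mul] at h1
    exact_mod_cast h1.symm
  · -- F3
    intro θ hθ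
    rw [Finset.mem_filter] at hθ
    obtain ⟨χ, hχ, hne⟩ := exists_over_principal H p M hM θ hθ.2
    refine ⟨χ, Finset.mem_filter.mpr ⟨Finset.mem_univ _, hχ⟩, ?_⟩
    intro h0
    apply hne
    rw [hc, h0, Nat.cast_zero]
  · -- F4
    intro χ hχ θ hne
    rw [Finset.mem_filter] at hχ
    refine Finset.mem_filter.mpr ⟨Finset.mem_univ _, ?_⟩
    apply constituent_mem_principal H p M hM χ hχ.2 θ
    rw [hc]
    exact_mod_cast hne

/-- Let p be a prime, M a maximal ideal of the algebraic integers containing p, G a finite group and H a normal subgroup. Write λ(X) for the sum of the squares of the degrees of the irreducible characters in the principal p-block of a group X. Then λ(H) ≤ λ(G) ≤ [G : H]·λ(H). -/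
theorem result {G : Type*} [Group G] [Finite G] (p : ℕ) [Fact p.Prime] (M : Ideal Cfsg.AlgInt) (hM : Cfsg.IsPModular p M) (H : Subgroup G) [H.Normal] : (∑ᶠ θ ∈ Cfsg.principalBlock M H, Cfsg.charDegree (θ : H → ℂ) ^ 2) ≤ (∑ᶠ χ ∈ Cfsg.principalBlock M G, Cfsg.charDegree (χ : G → ℂ) ^ 2) ∧ (∑ᶠ χ ∈ Cfsg.principalBlock M G, Cfsg.charDegree (χ : G → ℂ) ^ 2) ≤ H.index * ∑ᶠ θ ∈ Cfsg.principalBlock M H, Cfsg.charDegree (θ : H → ℂ) ^ 2 := by
  exact result' p M hM H

end Cfsg.Agent.S4708
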