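import Cfsg.Statements.S0051
-- import your own Cfsg.Agent.* helpers here
import Mathlib
import Cfsg.Agent.Lib.Helper1.Basic
import Cfsg.Agent.Lib.Helper1.ComplProj
import Cfsg.Agent.Lib.Helper1.Coprime

set_option autoImplicit false
open Cfsg

namespace Cfsg.Agent.S0051

open Cfsg.Agent.Lib.Helper1 Subgroup
open scoped Pointwise IsMulCommutative

theorem conj_eq_of_inv_mul_mem {G : Type*} [Group G] (K : Subgroup G) [IsMulCommutative K]
    {a b : G} (h : a⁻¹ * b ∈ K) (κ : K) : b * κ * b⁻¹ = a * κ * a⁻¹ := by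
  have hcx : (a⁻¹ * b) * κ = κ * (a⁻¹ * b) := congrArg Subtype.val (mul_comm (⟨_, h⟩ : K) κ)
  calc b * κ * b⁻¹ = a * ((a⁻¹ * b) * κ) * (a⁻¹ * b)⁻¹ * a⁻¹ := by group
    _ = a * (κ * (a⁻¹ * b)) * (a⁻¹ * b)⁻¹ * a⁻¹ := by rw [hcx]
    _ = a * κ * a⁻¹ := by group

/-- Gaschütz's Theorem, existence: an abelian normal subgroup K that is complemented inside a subgroup U ≥ K whose index is coprime to the order of K is complemented in the whole group. -/
theorem result {G : Type*} [Group G] [Finite G] (K U : Subgroup G) [K.Normal] [IsMulCommutative K]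
    (hKU : K ≤ U) (hcop : (Nat.card K).Coprime U.index)
    (A : Subgroup G) (hAU : A ≤ U) (hAK : A ⊓ K = ⊥) (hKA : K ⊔ A = U) :
    ∃ H : Subgroup G, Subgroup.IsComplement' K H := by
  classical
  letI : Fintype (G ⧸ U) := Fintype.ofFinite _
  have hKn : K.Normal := inferInstance
  -- `A` complements `K` inside `U`
  have hcin : IsComplIn K A U := by
    have hd : Disjoint K A := by
      rw [disjoint_iff, inf_comm]; exact hAK
    have hnorm : A ≤ normalizer (K : Set G) := by
      rw [normalizer_eq_top]; exact le_top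
    have := isComplIn_sup hnorm hd
    rwa [hKA] at this
  have hcU := hcin.isComplement'
  have hKUn : (K.subgroupOf U).Normal := inferInstance
  set α := complProj hcU with hα
  -- the projection `U → A` as a function on `G`
  let αG : G → G := fun g => if h : g ∈ U then (((α ⟨g, h⟩ : A.subgroupOf U) : U) : G) else 1
  have hαG_mul : ∀ u ∈ U, ∀ u' ∈ U, αG (u * u') = αG u * αG u' := by
    intro u hu u' hu'
    simp only [αG, dif_pos hu, dif_pos hu', dif_pos (U.mul_mem hu hu')]
    have : (⟨u * u', U.mul_mem hu hu'⟩ : U) = ⟨u, hu⟩ * ⟨u', hu'⟩ := rfl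
    rw [this, map_mul]
    rfl
  have hαG_mem : ∀ u ∈ U, u⁻¹ * αG u ∈ K := by
    intro u hu
    simp only [αG, dif_pos hu]
    have h1 := complProj_inv_mul_mem hcU ⟨u, hu⟩
    rw [Subgroup.mem_subgroupOf] at h1
    have h2 := K.inv_mem h1
    convert h2 using 1
    simp
    rfl
  have hαG_K : ∀ k ∈ K, αG k = 1 := by
    intro k hk
    simp only [αG, dif_pos (hKU hk)]
    have : (⟨k, hKU hk⟩ : U) ∈ K.subgroupOf U := Subgroup.mem_subgroupOf.mpr hk
    rw [complProj_of_mem_left hcU this]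
    rfl
  -- coset representatives with `r (mk 1) = 1`
  let r : G ⧸ U → G := fun c => if c = QuotientGroup.mk 1 then 1 else c.out
  have hr_mk : ∀ c, (QuotientGroup.mk (r c) : G ⧸ U) = c := by
    intro c
    by_cases hc : c = QuotientGroup.mk 1
    · simp only [r, if_pos hc]
      exact hc.symm
    · simp only [r, if_neg hc]
      exact QuotientGroup.out_eq' c
  have hr_one : r (QuotientGroup.mk 1) = 1 := by simp [r]
  have hr_mem : ∀ g, (r (QuotientGroup.mk g))⁻¹ * g ∈ U := by
    intro g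
    exact QuotientGroup.eq.mp (hr_mk (QuotientGroup.mk g))
  let σ : G → G := fun g => r (QuotientGroup.mk g) * αG ((r (QuotientGroup.mk g))⁻¹ * g)
  have hσ1 : ∀ g, g⁻¹ * σ g ∈ K := by
    intro g
    have h1 := hαG_mem _ (hr_mem g)
    convert h1 using 1
    simp only [σ]
    group
  have hσ2 : ∀ g, ∀ u ∈ U, σ (g * u) = σ g * αG u := by
    intro g u hu
    have hmk : (QuotientGroup.mk (g * u) : G ⧸ U) = QuotientGroup.mk g := by
      rw [QuotientGroup.eq]
      simp [hu]
    simp only [σ, hmk]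
    rw [← mul_assoc _ g u, hαG_mul _ (hr_mem g) _ hu, mul_assoc]
  have hσ3 : ∀ u ∈ U, σ u = αG u := by
    intro u hu
    have hmk : (QuotientGroup.mk u : G ⧸ U) = QuotientGroup.mk 1 := by
      rw [QuotientGroup.eq]
      simpa using hu
    simp only [σ, hmk, hr_one]
    simp
  have hσK : ∀ k ∈ K, σ k = 1 := fun k hk => by rw [hσ3 k (hKU hk), hαG_K k hk]
  have hσmk : ∀ g, (QuotientGroup.mk (σ g) : G ⧸ K) = QuotientGroup.mk g := by
    intro g
    rw [eq_comm, QuotientGroup.eq]
    exact hσ1 g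
  have hfmem : ∀ x y, σ x * σ y * (σ (x * y))⁻¹ ∈ K := by
    intro x y
    rw [← QuotientGroup.eq_one_iff]
    simp only [QuotientGroup.mk_mul, QuotientGroup.mk_inv, hσmk]
    group
  let f : G → G → K := fun x y => ⟨_, hfmem x y⟩
  have hfval : ∀ x y, ((f x y : K) : G) = σ x * σ y * (σ (x * y))⁻¹ := fun _ _ => rfl
  have hf1 : ∀ x, ∀ u ∈ U, f x u = 1 := by
    intro x u hu
    apply Subtype.ext
    rw [hfval, hσ2 x u hu, hσ3 u hu, Subgroup.coe_one]
    group
  have hf2 : ∀ k ∈ K, ∀ y, f k y = 1 := by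
    intro k hk y
    apply Subtype.ext
    have h1 : k * y = y * (y⁻¹ * k * y) := by group
    have h2 : y⁻¹ * k * y ∈ K := by
      have := hKn.conj_mem k hk y⁻¹
      simpa using this
    rw [hfval, hσK k hk, h1, hσ2 y _ (hKU h2), hαG_K _ h2, Subgroup.coe_one]
    group
  have hconj : ∀ (x : G) (κ : K), σ x * κ * (σ x)⁻¹ = x * κ * x⁻¹ :=
    fun x κ => conj_eq_of_inv_mul_mem K (hσ1 x) κ
  have hf3 : ∀ x y z, f x y * f (x * y) z = MulAut.conjNormal x (f y z) * f x (y * z) := by
    intro x y z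
    apply Subtype.ext
    rw [Subgroup.coe_mul, Subgroup.coe_mul, MulAut.conjNormal_apply, ← hconj x (f y z),
      hfval, hfval, hfval, hfval, mul_assoc x y z]
    group
  have hf4 : ∀ x y, ∀ u ∈ U, f x (y * u) = f x y := by
    intro x y u hu
    have := hf3 x y u
    rw [hf1 _ u hu, hf1 _ u hu, map_one, mul_one, one_mul] at this
    exact this.symm
  let e : G → K := fun x => ∏ c : G ⧸ U, f x c.out
  have he1 : ∀ x y, ∏ c : G ⧸ U, f x (y * c.out) = e x := by
    intro x y
    have h2 : ∏ c : G ⧸ U, f x (y * c.out) = ∏ c : G ⧸ U, f x ((y • c).out) := by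
      apply Finset.prod_congr rfl
      intro c _
      have e' : y • c = QuotientGroup.mk (y * c.out) := by
        conv_lhs => rw [← QuotientGroup.out_eq' c]
        rfl
      obtain ⟨u, hu⟩ := QuotientGroup.mk_out_eq_mul U (y * c.out)
      rw [e', hu, hf4 _ _ u u.2]
    rw [h2]
    exact Equiv.prod_comp (MulAction.toPerm y) (fun c : G ⧸ U => f x c.out)
  have he2 : ∀ x y, f x y ^ U.index * e (x * y) = MulAut.conjNormal x (e y) * e x := by
    intro x y
    have h1 : ∏ c : G ⧸ U, (f x y * f (x * y) c.out) =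
        ∏ c : G ⧸ U, (MulAut.conjNormal x (f y c.out) * f x (y * c.out)) :=
      Finset.prod_congr rfl (fun c _ => hf3 x y c.out)
    rw [Finset.prod_mul_distrib, Finset.prod_mul_distrib, Finset.prod_const, Finset.card_univ,
      ← map_prod, he1 x y] at h1
    convert h1 using 3
    rw [Subgroup.index_eq_card, Nat.card_eq_fintype_card]
  obtain ⟨z, hz⟩ : ∃ z : ℤ, ∀ x : K, (x ^ U.index) ^ z = x :=
    ⟨(Nat.card K).gcdB U.index, fun x => (powCoprime hcop).left_inv x⟩
  let e' : G → K := fun x => (e x) ^ z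
  have he' : ∀ x y, f x y = MulAut.conjNormal x (e' y) * e' x * (e' (x * y))⁻¹ := by
    intro x y
    have h1 : f x y ^ U.index = MulAut.conjNormal x (e y) * e x * (e (x * y))⁻¹ := by
      rw [eq_mul_inv_iff_mul_eq]
      exact he2 x y
    simp only [e']
    rw [← hz (f x y), h1, mul_zpow, mul_zpow, inv_zpow, ← map_zpow]
  have heK : ∀ k ∈ K, e' k = 1 := by
    intro k hk
    simp only [e', e]
    rw [Finset.prod_congr rfl (fun c _ => hf2 k hk c.out)]
    simp
  let σ' : G → G := fun g => (((e' g)⁻¹ : K) : G) * σ g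
  have hσ'mul : ∀ x y, σ' (x * y) = σ' x * σ' y := by
    intro x y
    have hB : (e' x)⁻¹ * (MulAut.conjNormal x (e' y))⁻¹ * f x y = (e' (x * y))⁻¹ := by
      rw [he' x y]
      group
    have hBval := congrArg Subtype.val hB
    simp only [Subgroup.coe_mul, Subgroup.coe_inv, MulAut.conjNormal_apply, hfval] at hBval
    have hc := hconj x (e' y)
    rw [← hc] at hBval
    simp only [σ', Subgroup.coe_inv]
    rw [← hBval]
    group
  let φ : G →* G := MonoidHom.mk' σ' hσ'mul
  have hφmk : ∀ g, (QuotientGroup.mk (φ g) : G ⧸ K) = QuotientGroup.mk g := by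
    intro g
    show (QuotientGroup.mk ((((e' g)⁻¹ : K) : G) * σ g) : G ⧸ K) = _
    rw [QuotientGroup.mk_mul, hσmk, (QuotientGroup.eq_one_iff _).mpr ((e' g)⁻¹).2, one_mul]
  have hφK : ∀ k ∈ K, φ k = 1 := by
    intro k hk
    show (((e' k)⁻¹ : K) : G) * σ k = 1
    rw [heK k hk, hσK k hk]
    simp
  refine ⟨φ.range, isComplement'_of_disjoint_and_mul_eq_univ ?_ ?_⟩
  · rw [disjoint_iff, eq_bot_iff]
    rintro x ⟨hxK, g, rfl⟩
    have h1 : (QuotientGroup.mk g : G ⧸ K) = 1 := by
      rw [← hφmk g]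
      exact (QuotientGroup.eq_one_iff _).mpr hxK
    have hg : g ∈ K := (QuotientGroup.eq_one_iff _).mp h1
    rw [Subgroup.mem_bot]
    exact hφK g hg
  · rw [Set.eq_univ_iff_forall]
    intro g
    refine ⟨g * (φ g)⁻¹, ?_, φ g, ⟨g, rfl⟩, by group⟩
    rw [SetLike.mem_coe, ← QuotientGroup.eq_one_iff, QuotientGroup.mk_mul, QuotientGroup.mk_inv,
      hφmk]
    group

end Cfsg.Agent.S0051
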