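import Cfsg.Statements.S0081
-- import your own Cfsg.Agent.* helpers here
import Mathlib
import Cfsg.Agent.S0051
import Cfsg.Agent.Lib.Helper12.PComplement

set_option autoImplicit false
open Cfsg

namespace Cfsg.Agent.S0081

open scoped commutatorElement

/-- In a nilpotent group a nontrivial normal subgroup strictly contains its commutator with the group. -/
theorem commutator_top_lt {P : Type*} [Group P] [Group.IsNilpotent P] (R : Subgroup P) [R.Normal]
    (hR : R ≠ ⊥) : ⁅R, (⊤ : Subgroup P)⁆ < R := by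
  have hle : ⁅R, (⊤ : Subgroup P)⁆ ≤ R := Subgroup.commutator_le_left R ⊤
  refine lt_of_le_of_ne hle ?_
  intro heq
  apply hR
  have key : ∀ n, R ≤ Subgroup.lowerCentralSeries (⊤ : Subgroup P) n := by
    intro n
    induction n with
    | zero => simp
    | succ n ih =>
      rw [Subgroup.lowerCentralSeries_succ, ← heq]
      exact Subgroup.commutator_mono ih le_rfl
  obtain ⟨n, hn⟩ := (Subgroup.nilpotent_iff_lowerCentralSeries (G := P)).mp inferInstance
  have := key n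
  rw [hn] at this
  exact le_bot_iff.mp this

section construction
variable {G : Type*} [Group G] (P M : Subgroup G) [M.Normal] (R₁ : Subgroup P) [R₁.Normal]
  (hR₁ : R₁ ≤ M.subgroupOf P)

/-- the map `P/R₁ → G/M` -/
noncomputable def piP : P ⧸ R₁ →* G ⧸ M :=
  QuotientGroup.lift R₁ ((QuotientGroup.mk' M).comp P.subtype) (by
    intro x hx
    have := hR₁ hx
    rw [Subgroup.mem_subgroupOf] at this
    simpa [MonoidHom.mem_ker] using this)

theorem piP_mk (x : P) : piP P M R₁ hR₁ (x : P ⧸ R₁) = ((x : G) : G ⧸ M) := rfl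

/-- the pulled back extension -/
noncomputable def ext : Subgroup (G × (P ⧸ R₁)) :=
  MonoidHom.eqLocus ((QuotientGroup.mk' M).comp (MonoidHom.fst G (P ⧸ R₁)))
    ((piP P M R₁ hR₁).comp (MonoidHom.snd G (P ⧸ R₁)))

theorem mem_ext (z : G × (P ⧸ R₁)) :
    z ∈ ext P M R₁ hR₁ ↔ ((z.1 : G) : G ⧸ M) = piP P M R₁ hR₁ z.2 := Iff.rfl

theorem mk_mem_ext (g : G) (x : P) :
    (g, (x : P ⧸ R₁)) ∈ ext P M R₁ hR₁ ↔ (x : G)⁻¹ * g ∈ M := by
  rw [mem_ext, piP_mk, eq_comm, QuotientGroup.eq]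

theorem one_mem_ext (g : G) : (g, (1 : P ⧸ R₁)) ∈ ext P M R₁ hR₁ ↔ g ∈ M := by
  have := mk_mem_ext P M R₁ hR₁ g 1
  simpa using this

theorem snd_mem_of_fst_mem (z : G × (P ⧸ R₁)) (hz : z ∈ ext P M R₁ hR₁) (h1 : z.1 ∈ M) :
    z.2 ∈ (M.subgroupOf P).map (QuotientGroup.mk' R₁) := by
  obtain ⟨g, y⟩ := z
  obtain ⟨x, rfl⟩ := QuotientGroup.mk'_surjective R₁ y
  change (g, (x : P ⧸ R₁)) ∈ ext P M R₁ hR₁ at hz
  rw [mk_mem_ext] at hz
  refine ⟨x, ?_, rfl⟩
  rw [SetLike.mem_coe, Subgroup.mem_subgroupOf]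
  have : (x : G) = g * ((x : G)⁻¹ * g)⁻¹ := by group
  rw [this]
  exact M.mul_mem h1 (M.inv_mem hz)

end construction

theorem core {G : Type*} [Group G] [Finite G] {p : ℕ} [Fact p.Prime] (P : Sylow p G)
    (M : Subgroup G) [M.Normal]
    (hM : M ⊓ (P : Subgroup G) ≤ (frattini ↥(P : Subgroup G)).map (P : Subgroup G).subtype)
    (hne : M ⊓ (P : Subgroup G) ≠ ⊥) :
    ∃ M' : Subgroup G, M' ≤ M ∧ M' ≠ M ∧ (∀ h ∈ M, ∀ g ∈ M', h * g * h⁻¹ ∈ M') ∧
      ∃ n : ℕ, ∀ g ∈ M, g ^ (p ^ n) ∈ M' := by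
  classical
  have hp : p.Prime := Fact.out
  set R : Subgroup (P : Subgroup G) := M.subgroupOf (P : Subgroup G) with hR
  have hRne : R ≠ ⊥ := by
    intro h
    apply hne
    rw [eq_bot_iff]
    intro x hx
    have : (⟨x, hx.2⟩ : (P : Subgroup G)) ∈ R := by rw [hR, Subgroup.mem_subgroupOf]; exact hx.1
    rw [h, Subgroup.mem_bot] at this
    rw [Subgroup.mem_bot]
    exact congrArg Subtype.val this
  have hRfr : R ≤ frattini (P : Subgroup G) := by
    intro x hx
    rw [hR, Subgroup.mem_subgroupOf] at hx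
    obtain ⟨y, hy, hyx⟩ := hM ⟨hx, x.2⟩
    have : y = x := Subtype.ext hyx
    rwa [← this]
  haveI : Group.IsNilpotent (P : Subgroup G) := P.isPGroup'.isNilpotent
  set R₁ : Subgroup (P : Subgroup G) := ⁅R, (⊤ : Subgroup (P : Subgroup G))⁆ with hR₁def
  haveI hR₁n : R₁.Normal := Subgroup.commutator_normal R ⊤
  have hR₁lt : R₁ < R := commutator_top_lt R hRne
  have hR₁ : R₁ ≤ M.subgroupOf (P : Subgroup G) := hR₁lt.le
  -- central
  have hcent : ∀ y ∈ R.map (QuotientGroup.mk' R₁), ∀ y' : (P : Subgroup G) ⧸ R₁, y * y' = y' * y := by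
    rintro _ ⟨r, hr, rfl⟩ y'
    obtain ⟨x, rfl⟩ := QuotientGroup.mk'_surjective R₁ y'
    rw [QuotientGroup.mk'_apply, QuotientGroup.mk'_apply, ← QuotientGroup.mk_mul, ← QuotientGroup.mk_mul, QuotientGroup.eq]
    have : (r * x)⁻¹ * (x * r) = ⁅x⁻¹, r⁻¹⁆ := by rw [commutatorElement_def]; group
    rw [this, hR₁def, Subgroup.commutator_comm]
    exact Subgroup.commutator_mem_commutator (Subgroup.mem_top _) (R.inv_mem hr)
  have hfrat : R.map (QuotientGroup.mk' R₁) ≤ frattini ((P : Subgroup G) ⧸ R₁) := by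
    rw [Subgroup.map_le_iff_le_comap]
    exact hRfr.trans (frattini_le_comap_frattini_of_surjective (QuotientGroup.mk'_surjective R₁))
  -- the extension
  set E : Subgroup (G × ((P : Subgroup G) ⧸ R₁)) := ext (P : Subgroup G) M R₁ hR₁ with hE
  set K : Subgroup E := ((MonoidHom.fst G ((P : Subgroup G) ⧸ R₁)).comp E.subtype).ker with hK
  have hKmem : ∀ z : E, z ∈ K ↔ z.1.1 = 1 := fun z => by rw [hK, MonoidHom.mem_ker]; rfl
  have hKsnd : ∀ z : E, z ∈ K → z.1.2 ∈ R.map (QuotientGroup.mk' R₁) := by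
    intro z hz
    apply snd_mem_of_fst_mem (P : Subgroup G) M R₁ hR₁ z.1 z.2
    rw [(hKmem z).mp hz]; exact M.one_mem
  haveI hKcomm : IsMulCommutative K := ⟨⟨fun a b => by
    apply Subtype.ext; apply Subtype.ext
    apply Prod.ext
    · simp [(hKmem a.1).mp a.2, (hKmem b.1).mp b.2]
    · exact hcent _ (hKsnd a.1 a.2) _⟩⟩
  set U : Subgroup E := (P : Subgroup G).comap ((MonoidHom.fst G ((P : Subgroup G) ⧸ R₁)).comp E.subtype) with hU
  have hUmem : ∀ z : E, z ∈ U ↔ z.1.1 ∈ (P : Subgroup G) := fun z => Iff.rfl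
  have hKU : K ≤ U := fun z hz => by rw [hUmem, (hKmem z).mp hz]; exact Subgroup.one_mem _
  -- the diagonal
  let δ : (P : Subgroup G) →* E :=
    MonoidHom.codRestrict (((P : Subgroup G).subtype).prod (QuotientGroup.mk' R₁)) E (fun x => by
      change ((x : G), (x : (P : Subgroup G) ⧸ R₁)) ∈ ext (P : Subgroup G) M R₁ hR₁
      rw [mk_mem_ext]; simp)
  have hδ1 : ∀ x : (P : Subgroup G), (δ x).1.1 = (x : G) := fun x => rfl
  have hδ2 : ∀ x : (P : Subgroup G), (δ x).1.2 = (x : (P : Subgroup G) ⧸ R₁) := fun x => rfl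
  set A : Subgroup E := δ.range with hA
  have hAU : A ≤ U := by
    rintro _ ⟨x, rfl⟩
    rw [hUmem, hδ1]; exact x.2
  have hAK : A ⊓ K = ⊥ := by
    rw [eq_bot_iff]
    rintro _ ⟨⟨x, rfl⟩, hx2⟩
    have h1 := (hKmem _).mp hx2
    rw [hδ1] at h1
    have : x = 1 := Subtype.ext h1
    rw [this, map_one]; exact Subgroup.mem_bot.mpr rfl
  have hKA : K ⊔ A = U := by
    apply le_antisymm (sup_le hKU hAU)
    intro z hz
    have hzP : z.1.1 ∈ (P : Subgroup G) := (hUmem z).mp hz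
    have hk : z * (δ ⟨z.1.1, hzP⟩)⁻¹ ∈ K := by
      rw [hKmem]
      change z.1.1 * ((δ ⟨z.1.1, hzP⟩).1.1)⁻¹ = 1
      rw [hδ1]; simp
    have : z = (z * (δ ⟨z.1.1, hzP⟩)⁻¹) * δ ⟨z.1.1, hzP⟩ := by group
    rw [this]
    exact Subgroup.mul_mem_sup hk ⟨_, rfl⟩
  have hcop : (Nat.card K).Coprime U.index := by
    have hKp : IsPGroup p K := by
      have hinj : Function.Injective
          ((MonoidHom.snd G ((P : Subgroup G) ⧸ R₁)).comp (E.subtype.comp K.subtype)) := by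
        intro a b hab
        apply Subtype.ext; apply Subtype.ext
        apply Prod.ext
        · rw [(hKmem a.1).mp a.2, (hKmem b.1).mp b.2]
        · exact hab
      exact IsPGroup.of_injective (P.isPGroup'.to_quotient R₁) _ hinj
    obtain ⟨k, hk⟩ := IsPGroup.iff_card.mp hKp
    rw [hk]
    apply Nat.Coprime.pow_left
    rw [Nat.Prime.coprime_iff_not_dvd hp]
    intro hdvd
    apply P.not_dvd_index
    refine hdvd.trans ?_
    rw [hU, Subgroup.index_comap]
    apply Subgroup.relIndex_dvd_index_of_le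
    intro x hx
    exact ⟨δ ⟨x, hx⟩, rfl⟩
  obtain ⟨C, hC⟩ := Cfsg.Agent.S0051.result K U hKU hcop A hAU hAK hKA
  have hdec : ∀ z : E, ∃ k ∈ K, ∃ c ∈ C, k * c = z := by
    intro z
    have : z ∈ K ⊔ C := by rw [hC.sup_eq_top]; exact Subgroup.mem_top z
    exact Subgroup.mem_sup_of_normal_left.mp this
  have hdisj : ∀ z : E, z ∈ K → z ∈ C → z = 1 := by
    intro z h1 h2
    have : z ∈ K ⊓ C := ⟨h1, h2⟩
    rw [hC.disjoint.eq_bot] at this
    exact Subgroup.mem_bot.mp this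
  set M' : Subgroup G := (C.map E.subtype).comap (MonoidHom.inl G ((P : Subgroup G) ⧸ R₁)) with hM'
  have hM'mem : ∀ g, g ∈ M' ↔ ∃ z ∈ C, (z : G × ((P : Subgroup G) ⧸ R₁)) = (g, 1) := by
    intro g; rw [hM', Subgroup.mem_comap, Subgroup.mem_map]; rfl
  have hM'le : M' ≤ M := by
    intro g hg
    obtain ⟨z, hz, hzg⟩ := (hM'mem g).mp hg
    have := z.2
    rw [hzg] at this
    exact (one_mem_ext _ M R₁ hR₁ g).mp this
  -- lifting elements of `M` to `C`
  have hlift : ∀ g ∈ M, ∃ c ∈ C, (c : G × ((P : Subgroup G) ⧸ R₁)).1 = g := by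
    intro g hg
    have hgE : (g, (1 : (P : Subgroup G) ⧸ R₁)) ∈ E := (one_mem_ext _ M R₁ hR₁ g).mpr hg
    obtain ⟨k, hk, c, hc, hkc⟩ := hdec ⟨_, hgE⟩
    refine ⟨c, hc, ?_⟩
    have h1 : k.1.1 * c.1.1 = g := congrArg (fun z : E => (z : G × ((P : Subgroup G) ⧸ R₁)).1) hkc
    rw [(hKmem k).mp hk, one_mul] at h1
    exact h1
  obtain ⟨n, hn⟩ := IsPGroup.iff_card.mp (P.isPGroup'.to_quotient R₁)
  refine ⟨M', hM'le, ?_, ?_, n, ?_⟩
  · -- M' ≠ M by the Frattini argument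
    intro heq
    set B : Subgroup ((P : Subgroup G) ⧸ R₁) :=
      (C.map E.subtype).map (MonoidHom.snd G ((P : Subgroup G) ⧸ R₁)) with hB
    have hBtop : B = ⊤ := by
      apply frattini_nongenerating
      rw [eq_top_iff]
      intro y _
      obtain ⟨x, rfl⟩ := QuotientGroup.mk'_surjective R₁ y
      obtain ⟨k, hk, c, hc, hkc⟩ := hdec (δ x)
      have h2 : k.1.2 * c.1.2 = (x : (P : Subgroup G) ⧸ R₁) :=
        congrArg (fun z : E => (z : G × ((P : Subgroup G) ⧸ R₁)).2) hkc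
      rw [QuotientGroup.mk'_apply, ← h2, sup_comm]
      refine Subgroup.mul_mem_sup (hfrat (hKsnd k hk)) ?_
      exact ⟨c.1, ⟨c, hc, rfl⟩, rfl⟩
    obtain ⟨r, hrR, hrR₁⟩ := SetLike.exists_of_lt hR₁lt
    have hrB : ((r : (P : Subgroup G) ⧸ R₁)) ∈ B := by rw [hBtop]; exact Subgroup.mem_top _
    obtain ⟨_, ⟨c, hc, rfl⟩, hc2⟩ := hrB
    change c.1.2 = (r : (P : Subgroup G) ⧸ R₁) at hc2
    have hcE : (c.1.1, (r : (P : Subgroup G) ⧸ R₁)) ∈ ext (P : Subgroup G) M R₁ hR₁ := by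
      have := c.2
      rw [← hc2]; exact this
    rw [mk_mem_ext] at hcE
    have hrM : (r : G) ∈ M := by
      rw [hR, Subgroup.mem_subgroupOf] at hrR; exact hrR
    have hc1M : c.1.1 ∈ M := by
      have : c.1.1 = (r : G) * ((r : G)⁻¹ * c.1.1) := by group
      rw [this]; exact M.mul_mem hrM hcE
    rw [← heq] at hc1M
    obtain ⟨z, hz, hzg⟩ := (hM'mem _).mp hc1M
    have hzc : z⁻¹ * c ∈ K := by
      rw [hKmem]
      change (z.1.1)⁻¹ * c.1.1 = 1
      rw [hzg]; simp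
    have h1 := hdisj _ hzc (C.mul_mem (C.inv_mem hz) hc)
    have h2 : (z.1.2)⁻¹ * c.1.2 = 1 :=
      congrArg (fun z : E => (z : G × ((P : Subgroup G) ⧸ R₁)).2) h1
    rw [hzg, hc2] at h2
    simp only [inv_one, one_mul] at h2
    apply hrR₁
    exact (QuotientGroup.eq_one_iff r).mp h2
  · -- normalised by M
    intro h hh g hg
    obtain ⟨c, hc, hc1⟩ := hlift h hh
    obtain ⟨z, hz, hzg⟩ := (hM'mem g).mp hg
    rw [hM'mem]
    refine ⟨c * z * c⁻¹, C.mul_mem (C.mul_mem hc hz) (C.inv_mem hc), ?_⟩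
    apply Prod.ext
    · change c.1.1 * z.1.1 * (c.1.1)⁻¹ = h * g * h⁻¹
      rw [hc1, hzg]
    · change c.1.2 * z.1.2 * (c.1.2)⁻¹ = 1
      rw [hzg]; simp
  · intro g hg
    obtain ⟨c, hc, hc1⟩ := hlift g hg
    rw [hM'mem]
    refine ⟨c ^ (p ^ n), C.pow_mem hc _, ?_⟩
    apply Prod.ext
    · change (c ^ (p ^ n)).1.1 = g ^ (p ^ n)
      rw [← hc1]; rfl
    · change (c ^ (p ^ n)).1.2 = 1
      have : (c ^ (p ^ n)).1.2 = (c.1.2) ^ (p ^ n) := rfl
      rw [this, ← hn]
      exact pow_card_eq_one'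

/-- If a normal subgroup meets a Sylow p-subgroup P inside the Frattini subgroup of P, then it has a normal p-complement. -/
theorem result {G : Type*} [Group G] [Finite G] {p : ℕ} [Fact p.Prime] (P : Sylow p G) (N : Subgroup G) [N.Normal] (h : N ⊓ (P : Subgroup G) ≤ (frattini P).map (P : Subgroup G).subtype) : Cfsg.HasNormalPComplement p N := by
  classical
  have hp : p.Prime := Fact.out
  set S : Set G := {g | g ∈ N ∧ (orderOf g).Coprime p} with hS
  set M : Subgroup G := Subgroup.normalClosure S with hMdef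
  have hMn : M.Normal := Subgroup.normalClosure_normal
  have hMN : M ≤ N := Subgroup.normalClosure_le_normal (fun g hg => hg.1)
  have hMP : M ⊓ (P : Subgroup G) ≤ (frattini ↥(P : Subgroup G)).map (P : Subgroup G).subtype :=
    (inf_le_inf_right _ hMN).trans h
  have hbot : M ⊓ (P : Subgroup G) = ⊥ := by
    by_contra hne
    obtain ⟨M', hM'le, hM'ne, -, n, hpow⟩ := core P M hMP hne
    apply hM'ne
    apply le_antisymm hM'le
    rw [hMdef, Subgroup.normalClosure, Subgroup.closure_le]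
    intro g hg
    rw [Group.mem_conjugatesOfSet_iff] at hg
    obtain ⟨s, hs, hsg⟩ := hg
    obtain ⟨c, hc⟩ := isConj_iff.mp hsg
    have hgM : g ∈ M := by
      rw [← hc]
      exact hMn.conj_mem s (Subgroup.subset_normalClosure hs) c
    have hgord : (orderOf g).Coprime p := by
      have : orderOf g = orderOf s := by
        rw [← hc]; exact (SemiconjBy.orderOf_eq c (x := s) (y := c * s * c⁻¹) (by simp [SemiconjBy])).symm
      rw [this]; exact hs.2
    have h1 : g ^ (p ^ n) ∈ M' := hpow g hgM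
    obtain ⟨m, hm⟩ := exists_pow_eq_self_of_coprime (Nat.Coprime.pow_left n hgord.symm)
    rw [SetLike.mem_coe, ← hm]; exact M'.pow_mem h1 m
  have hMcop : (Nat.card M).Coprime p := by
    have := Cfsg.Agent.Lib.Helper12.sylow_inf_relIndex P ⊤ M le_top le_top
      (fun h _ k hk => hMn.conj_mem k hk h)
    rw [inf_comm, hbot, Subgroup.relIndex_bot_left] at this
    exact ((Nat.Prime.coprime_iff_not_dvd hp).mpr this).symm
  have hn2 : (M.subgroupOf N).Normal := inferInstance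
  obtain ⟨a, ha⟩ := Cfsg.Agent.Lib.Helper12.index_eq_pow_of_coprime_mem (p := p) (M.subgroupOf N) (by
    intro g hg
    rw [Subgroup.mem_subgroupOf]
    apply Subgroup.subset_normalClosure
    exact ⟨g.2, by rwa [Subgroup.orderOf_coe]⟩)
  apply Cfsg.Agent.Lib.Helper12.hasNormalPComplement_of_normal (M.subgroupOf N) inferInstance _ a ha
  rw [Nat.card_congr (Subgroup.subgroupOfEquivOfLe hMN).toEquiv]; exact hMcop

end Cfsg.Agent.S0081
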