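import Cfsg.Statements.S4888
import Mathlib
import Cfsg.Agent.Lib.Helper24.PrincipalLinear
import Cfsg.Agent.Lib.Helper24.TateFrattini
import Cfsg.Agent.Lib.Helper6.QuotBlock

set_option autoImplicit false
open Cfsg

namespace Cfsg.Agent.S4888

open Cfsg.Agent.CharLib Cfsg.Agent.Lib.Helper24 Cfsg.Agent.Lib.Helper6
open scoped ComplexConjugate
universe u

theorem result' {G : Type u} [Group G] [Finite G] (p : ℕ) [hpp : Fact p.Prime] (M : Ideal Cfsg.AlgInt)
    (hM : Cfsg.IsPModular p M) :
    (∃ d : ℕ, ∀ χ : Cfsg.IrrCharacter G, χ ∈ (Cfsg.principalBlock M G) →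
      Cfsg.blockHeight p (Cfsg.principalBlock M G) (χ : G → ℂ) = 0 →
      Cfsg.charDegree (χ : G → ℂ) = d) ↔ Cfsg.HasNormalPComplement p G := by
  classical
  constructor
  · rintro ⟨d, hd⟩
    have hd1 : d = 1 := by
      have := hd (homIrr 1) (homIrr_one_mem hM) (by
        rw [blockHeight_principal hM, charDegree_homIrr]; simp)
      rw [charDegree_homIrr] at this
      exact this.symm
    obtain ⟨P⟩ : Nonempty (Sylow p G) := inferInstance
    apply hasNormalPComplement_of_hom_extensions P
    intro μ _
    have hk : Nat.Coprime 1 (Nat.card G) := Nat.coprime_one_left _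
    have hτ : twPerm 1 hk ^ (p ^ 0) = 1 := by
      rw [pow_zero, pow_one]
      ext χ g
      rw [twPerm_apply, twIrr_apply, pow_one]
      rfl
    refine exists_hom_extension hM (P : Subgroup G) P.isPGroup'
      (fun g hg => exists_conj_mem_sylow_of_pow P g hg) 1 hk 0 hτ ?_ μ (fun y => by rw [pow_one])
    intro χ hχ hpd _
    rw [← hd1]
    apply hd χ hχ
    rw [blockHeight_principal hM]
    exact Nat.factorization_eq_zero_of_not_dvd hpd
  · rintro ⟨P, N, hNn, hcompl⟩
    haveI := hNn
    refine ⟨1, fun χ hχ hht => ?_⟩
    rw [blockHeight_principal hM] at hht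
    have hdeg_dvd := irr_charDegree_dvd_card χ
    have hdeg_pos : charDegree (χ : G → ℂ) ≠ 0 := by
      intro h0
      rw [h0] at hdeg_dvd
      exact Nat.card_pos.ne' (Nat.eq_zero_of_zero_dvd hdeg_dvd)
    have hpd : ¬ p ∣ charDegree (χ : G → ℂ) := by
      intro h
      have := (hpp.out.factorization_pos_of_dvd hdeg_pos h)
      omega
    have hcard : Nat.card N * Nat.card P = Nat.card G := hcompl.card_mul
    have hPcard : Nat.card P = p ^ (Nat.card G).factorization p := Sylow.card_eq_multiplicity P
    have hNp : ¬ p ∣ Nat.card N := by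
      intro h
      have h1 : p ^ ((Nat.card G).factorization p + 1) ∣ Nat.card G := by
        have h2 : Nat.card N * p ^ (Nat.card G).factorization p = Nat.card G := by
          rw [← hPcard, hcard]
        have h3 : p * p ^ (Nat.card G).factorization p ∣
            Nat.card N * p ^ (Nat.card G).factorization p := Nat.mul_dvd_mul_right h _
        rw [h2] at h3
        rw [pow_succ, mul_comm]
        exact h3
      exact (Nat.pow_succ_factorization_not_dvd Nat.card_pos.ne' hpp.out) h1
    have hker := le_ker_of_sameBlock_one hM N hNp χ hχ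
    obtain ⟨β, hβ⟩ := exists_deflation N χ hker
    have hβdeg : charDegree (β : G ⧸ N → ℂ) = charDegree (χ : G → ℂ) := by
      unfold charDegree
      have := hβ 1
      rw [QuotientGroup.mk_one] at this
      rw [this]
    have hβdvd := irr_charDegree_dvd_card β
    rw [hβdeg] at hβdvd
    have hidx : Nat.card (G ⧸ N) = Nat.card P := by
      have h1 : Nat.card N * Nat.card (G ⧸ N) = Nat.card G := by
        rw [← Subgroup.index_eq_card]; exact Subgroup.card_mul_index N
      have h2 : 0 < Nat.card N := Nat.card_pos
      exact Nat.eq_of_mul_eq_mul_left h2 (h1.trans hcard.symm)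
    rw [hidx, hPcard] at hβdvd
    obtain ⟨i, -, hi⟩ := (Nat.dvd_prime_pow hpp.out).mp hβdvd
    rcases Nat.eq_zero_or_pos i with h0 | hpos
    · rw [hi, h0, pow_zero]
    · exfalso
      apply hpd
      rw [hi]
      exact dvd_pow_self p hpos.ne'

/-- Let G be a finite group, p a prime and M a maximal ideal of the algebraic integers containing p. Then all height-zero irreducible characters of the principal p-block of G (equivalently, all its characters of degree prime to p) have the same degree if and only if G has a normal p-complement. -/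
theorem result {G : Type*} [Group G] [Finite G] (p : ℕ) [Fact p.Prime] (M : Ideal Cfsg.AlgInt) (hM : Cfsg.IsPModular p M) : (∃ d : ℕ, ∀ χ : Cfsg.IrrCharacter G, χ ∈ (Cfsg.principalBlock M G) → Cfsg.blockHeight p (Cfsg.principalBlock M G) (χ : G → ℂ) = 0 → Cfsg.charDegree (χ : G → ℂ) = d) ↔ Cfsg.HasNormalPComplement p G := by
  exact result' p M hM

end Cfsg.Agent.S4888
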