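import Cfsg.Statements.S5194
-- import your own Cfsg.Agent.* helpers here
import Cfsg.Agent.Lib.Helper1.GlaubF4
import Cfsg.Agent.Lib.Helper26.FSNormalizer
import Cfsg.Agent.Lib.Helper26.FSNormal

set_option autoImplicit false
open Cfsg

namespace Cfsg.Agent.S5194

/-- Thompson's normal p-complement Theorem for fusion systems. Let F be a saturated fusion system over a finite p-group S such that p is odd or F is S₄-free (the symmetric group of degree 4 is not involved in any model of the normalizer system of a fully normalized F-centric subgroup), and let J(S) be the subgroup generated by the abelian subgroups of S of largest order. If the centralizer fusion system of Z(S) in F is the inner fusion system of C_S(Z(S)) = S and the normalizer fusion system of J(S) in F is the inner fusion system of N_S(J(S)) = S, then F is the inner fusion system of S. -/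
theorem result {Ω : Type*} [Group Ω] {S : Subgroup Ω} [Finite S] (p : ℕ) [Fact p.Prime] (hS : IsPGroup p S) (F : Cfsg.FusionSystem S) (hF : F.IsSaturated p) (hp : p ≠ 2 ∨ F.IsSectionFree p (Equiv.Perm (Fin 4))) (hC : ∀ C : Cfsg.FusionSystem (Cfsg.FusionSystem.centralizerIn S (S ⊓ Subgroup.centralizer (S : Set Ω))), F.IsCentralizerSystem (S ⊓ Subgroup.centralizer (S : Set Ω)) C → ∀ P : Subgroup Ω, C.Hom P = (Cfsg.innerFusionSystem (Cfsg.FusionSystem.centralizerIn S (S ⊓ Subgroup.centralizer (S : Set Ω)))).Hom P) (hN : ∀ N : Cfsg.FusionSystem (Cfsg.FusionSystem.normalizerIn S (Cfsg.thompsonSubgroupAOf S)), F.IsNormalizerSystem (Cfsg.thompsonSubgroupAOf S) N → ∀ P : Subgroup Ω, N.Hom P = (Cfsg.innerFusionSystem (Cfsg.FusionSystem.normalizerIn S (Cfsg.thompsonSubgroupAOf S))).Hom P) : ∀ P : Subgroup Ω, F.Hom P = (Cfsg.innerFusionSystem S).Hom P := by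
  classical
  have hJS : Cfsg.thompsonSubgroupAOf S ≤ S := Subgroup.map_subtype_le _
  have hZS : S ⊓ Subgroup.centralizer (S : Set Ω) ≤ S := inf_le_left
  have hNs := Cfsg.Agent.Lib.Helper26.normalizerSystem_isNormalizerSystem F _ hJS
  have hCs := Cfsg.Agent.Lib.Helper26.centralizerSystem_isCentralizerSystem F _ hZS
  have hNinner := hN _ hNs
  have hCinner := hC _ hCs
  have hcen := (Cfsg.Agent.Lib.Helper1.GlaubF.glauberman_fusion p hS F hF _ hNs).2 hp
  -- `N_S(J(S)) = S`
  have hT : Cfsg.FusionSystem.normalizerIn S (Cfsg.thompsonSubgroupAOf S) = S := by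
    apply le_antisymm inf_le_left
    intro s hs
    haveI : Finite ↥(Cfsg.thompsonSubgroupAOf S) := Finite.of_injective (Subgroup.inclusion hJS) (Subgroup.inclusion_injective _)
    refine ⟨hs, Cfsg.Agent.Lib.Helper26.mem_normalizer_of_conj_mem_finite (fun u hu => ?_)⟩
    exact (Cfsg.Agent.Lib.Helper1.GlaubF.posChar_JA p).conj_mem hS (Subgroup.le_normalizer hs) hu
  have hZT : S ⊓ Subgroup.centralizer (S : Set Ω) ≤ Cfsg.FusionSystem.normalizerIn S (Cfsg.thompsonSubgroupAOf S) := by
    rw [hT]; exact hZS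
  -- `Z(S)` is central in the normalizer system
  have hZN : (Cfsg.Agent.Lib.Helper26.normalizerSystem F _ hJS).IsCentral (S ⊓ Subgroup.centralizer (S : Set Ω)) := by
    refine ⟨hZT, ?_⟩
    intro P φ hφ
    rw [hNinner P] at hφ
    obtain ⟨hPT, g, hgT, hg⟩ := hφ
    refine ⟨Cfsg.conjHom (P ⊔ (S ⊓ Subgroup.centralizer (S : Set Ω))) g, ?_, ?_, ?_⟩
    · rw [hNinner]
      exact ⟨sup_le hPT hZT, g, hgT, fun x => rfl⟩
    · intro x
      rw [hg x]
      rfl
    · intro x
      have hx : (x : Ω) ∈ Subgroup.centralizer (S : Set Ω) := x.2.2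
      rw [Subgroup.mem_centralizer_iff] at hx
      have hgS : g ∈ S := (hT ▸ hgT : g ∈ S)
      have := hx g hgS
      show g * (x : Ω) * g⁻¹ = x
      rw [this]; group
  have hZF : S ⊓ Subgroup.centralizer (S : Set Ω) ≤ F.center := by
    rw [← hcen]; exact le_sSup hZN
  have hZc : F.IsCentral F.center := Cfsg.Agent.Lib.Helper26.center_isCentral F
  intro P
  ext φ
  constructor
  · intro hφ
    obtain ⟨ψ, hψ, hext, hfix⟩ := hZc.2 P φ hφ
    have hle : P ⊔ (S ⊓ Subgroup.centralizer (S : Set Ω)) ≤ P ⊔ F.center := sup_le_sup_left hZF P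
    have hψ' := Cfsg.Agent.Lib.Helper26.inclusion_comp_mem F hle hψ
    have hPS : P ≤ S := (F.le_of_mem hφ).1
    have hcS : Cfsg.FusionSystem.centralizerIn S (S ⊓ Subgroup.centralizer (S : Set Ω)) = S := by
      apply le_antisymm inf_le_left
      intro s hs
      refine ⟨hs, ?_⟩
      show s ∈ Subgroup.centralizer _
      rw [Subgroup.mem_centralizer_iff]
      intro z hz
      have : z ∈ Subgroup.centralizer (S : Set Ω) := hz.2
      rw [Subgroup.mem_centralizer_iff] at this
      exact (this s hs).symm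
    have hφC : φ ∈ F.centralizerHom (S ⊓ Subgroup.centralizer (S : Set Ω)) P := by
      refine ⟨hφ, hcS.symm ▸ hPS, fun x => hcS.symm ▸ (F.le_of_mem hφ).2 x, _, hψ', ?_, ?_⟩
      · intro x
        exact hext x
      · intro x
        exact hfix ⟨x, hZF x.2⟩
    rw [← hCs P, hCinner P] at hφC
    obtain ⟨hPC, g, hgC, hg⟩ := hφC
    exact ⟨hPS, g, hgC.1, hg⟩
  · rintro ⟨hP, g, hg, h⟩
    have := F.conj_mem hP hg
    convert this using 1
    ext x
    exact h x

end Cfsg.Agent.S5194
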