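import Cfsg.Statements.S5250
import Cfsg.Agent.Lib.Helper27.ModelNormal
import Cfsg.Agent.Lib.Helper27.Involves

set_option autoImplicit false
universe u
open Cfsg
open Cfsg.FusionSystem Cfsg.Agent.Lib.Helper26 Cfsg.Agent.Lib.Helper27.FM Cfsg.Agent.Lib.Helper27.ModelRad

namespace Cfsg.Agent.S5250

/-- Let F be a saturated fusion system over a finite p-group S such that Qd(p) (the natural semidirect product of an elementary abelian group of order p² by SL₂(p)) is involved in no model of the normalizer system of any fully normalized subgroup that is both centric and radical in F. Then F is Qd(p)-free: Qd(p) is involved in no model of the normalizer system of any fully normalized centric subgroup. -/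
theorem result {Ω : Type u} [Group Ω] {S : Subgroup Ω} [Finite S] (p : ℕ) [Fact p.Prime] (hS : IsPGroup p S) (F : Cfsg.FusionSystem S) (hF : F.IsSaturated p) (h : ∀ Q : Subgroup Ω, F.IsFullyNormalized Q → F.IsCentric Q → F.IsRadical p Q → ∀ N : Cfsg.FusionSystem (Cfsg.FusionSystem.normalizerIn S Q), F.IsNormalizerSystem Q N → ∀ (L : Type u) [Group L] (ι : ↥(Cfsg.FusionSystem.normalizerIn S Q) →* L), N.IsModel p L ι → ¬ Cfsg.Involves ↥(Cfsg.qd p) L) : F.IsSectionFree p ↥(Cfsg.qd p) := by
  have key : ∀ d : ℕ, ∀ Q : Subgroup Ω, Nat.card S - Nat.card Q = d → F.IsFullyNormalized Q → F.IsCentric Q →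
      ∀ N : Cfsg.FusionSystem (Cfsg.FusionSystem.normalizerIn S Q), F.IsNormalizerSystem Q N →
      ∀ (L : Type u) [Group L] (ι : ↥(Cfsg.FusionSystem.normalizerIn S Q) →* L), N.IsModel p L ι →
        ¬ Cfsg.Involves ↥(Cfsg.qd p) L := by
    intro d
    induction d using Nat.strong_induction_on with
    | _ d ih =>
      intro Q hd hQfn hQc N hN L _ ι hM hinv
      by_cases hrad : F.IsRadical p Q
      · exact h Q hQfn hQc hrad N hN L ι hM hinv
      · have hQS : Q ≤ S := hQfn.1
        have hTS : normalizerIn S Q ≤ S := normalizerIn_le S Q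
        haveI : Finite ↥(normalizerIn S Q) := finite_of_le hTS
        have hpT : IsPGroup p ↥(normalizerIn S Q) := hS.to_le hTS
        have hRrad := isRadical_pullSub_pCore p hpT N ι hM
        have hM0 := hM
        obtain ⟨hfin, hreal, ⟨Tsyl, hTsyl⟩, hcent⟩ := hM
        haveI := hfin
        have hOT : pCore p L ≤ ι.range := hTsyl ▸ Cfsg.Agent.Lib.Helper16.pCore_le_sylow Tsyl
        haveI hOn : (pCore p L).Normal := Cfsg.Agent.Lib.Helper24.pCore_normal' p
        have hRn : N.IsNormal (pullSub ι (pCore p L)) := isNormal_pullSub_of_realized N ι hreal (pCore p L) hOT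
        have hQn : N.IsNormal Q := isNormal_of_isNormalizerSystem F hQS N hN
        have hιQ : ((Q.subgroupOf (normalizerIn S Q)).map ι).Normal :=
          Cfsg.Agent.Lib.Helper26.ModelThm.map_normal_of_isNormal hM0 hQn
        have hQR : Q ≤ pullSub ι (pCore p L) := by
          intro x hx
          have hxT : x ∈ normalizerIn S Q := le_normalizerIn hQS hx
          refine (mem_pullSub ι (pCore p L) ⟨x, hxT⟩).mpr ?_
          exact Cfsg.Agent.Lib.Helper16.le_pCore hιQ ((hpT.to_subgroup _).map ι) ⟨⟨x, hxT⟩, hx, rfl⟩
        have hne : pullSub ι (pCore p L) ≠ Q := by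
          intro e
          apply hrad
          refine ⟨hQS, ?_⟩
          rw [← autGroup_eq_of_isNormalizerSystem F hQS N hN]
          have h2 := hRrad.2
          rw [e] at h2
          exact h2
        have hRT : pullSub ι (pCore p L) ≤ normalizerIn S Q := pullSub_le ι _
        have hRS : pullSub ι (pCore p L) ≤ S := hRT.trans hTS
        have hRc : F.IsCentric (pullSub ι (pCore p L)) := centric_of_le F hQc hQR hRS
        have hN' := normalizerSystem_isNormalizerSystem N (pullSub ι (pCore p L)) hRT
        have hsatN : N.IsSaturated p := normalizerSystem_saturated hS F hF hQfn N hN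
        have hsatN' := normalizerSystem_saturated hpT N hsatN (isFullyNormalized_of_isNormal N hRn) _ hN'
        have hM' := isModel_normalizer_of_isNormal N hRn _ hN' p ι hM0
        obtain ⟨Us, hUsfn, hUsc, hconj, Ns, hNs, Ls, instLs, ιs, hMs, f, hf⟩ :=
          exists_model_embedding hS F hF hQR hRT hRc N hN _ hN' hsatN' _ hM'
        have hcardUs : Nat.card ↥Us = Nat.card ↥(pullSub ι (pCore p L)) := by
          obtain ⟨θ, hθ, hi⟩ := (isConj_iff_isFM F).mp hconj
          exact hθ.card_image hi
        have hlt : Nat.card ↥Q < Nat.card ↥(pullSub ι (pCore p L)) := by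
          by_contra hle
          push_neg at hle
          haveI : Finite ↥(pullSub ι (pCore p L)) := finite_of_le hRS
          exact hne (Subgroup.eq_of_le_of_card_ge hQR hle).symm
        have hUsle : Nat.card ↥Us ≤ Nat.card ↥S := Subgroup.card_le_of_le hUsfn.1
        have hdlt : Nat.card ↥S - Nat.card ↥Us < d := by omega
        exact ih _ hdlt Us rfl hUsfn hUsc Ns hNs Ls ιs hMs
          (Cfsg.Agent.Lib.Helper27.involves_of_injective f hf hinv)
  intro Q hQfn hQc N hN L _ ι hM
  exact key _ Q rfl hQfn hQc N hN L ι hM

end Cfsg.Agent.S5250
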