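import Cfsg.Statements.S5240
import Cfsg.Agent.S5250
import Cfsg.Agent.Lib.Helper27.FMCentric

set_option autoImplicit false
open Cfsg
open Cfsg.FusionSystem Cfsg.Agent.Lib.Helper26 Cfsg.Agent.Lib.Helper27.FM Cfsg.Agent.Lib.Helper27.ModelRad

namespace Cfsg.Agent.S5240

/-- Let F be a saturated fusion system over a finite p-group S that is Qd(p)-free (Qd(p), the natural semidirect product of an elementary abelian group of order p² by SL₂(p), is not involved in any model of the normalizer system of a fully normalized centric subgroup), and let Q be a fully normalized subgroup of S. Then every normalizer fusion system of Q in F is Qd(p)-free. -/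
theorem result {Ω : Type*} [Group Ω] {S : Subgroup Ω} [Finite S] (p : ℕ) [Fact p.Prime] (hS : IsPGroup p S) (F : Cfsg.FusionSystem S) (hF : F.IsSaturated p) (hfree : F.IsSectionFree p ↥(Cfsg.qd p)) (Q : Subgroup Ω) (hQ : F.IsFullyNormalized Q) (N : Cfsg.FusionSystem (Cfsg.FusionSystem.normalizerIn S Q)) (hN : F.IsNormalizerSystem Q N) : N.IsSectionFree p ↥(Cfsg.qd p) := by
  have hQS : Q ≤ S := hQ.1
  have hTS : normalizerIn S Q ≤ S := normalizerIn_le S Q
  haveI : Finite ↥(normalizerIn S Q) := finite_of_le hTS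
  have hpT : IsPGroup p ↥(normalizerIn S Q) := hS.to_le hTS
  have hsatN : N.IsSaturated p := normalizerSystem_saturated hS F hF hQ N hN
  have hQn : N.IsNormal Q := isNormal_of_isNormalizerSystem F hQS N hN
  apply Cfsg.Agent.S5250.result p hpT N hsatN
  intro U hUfn hUc hUr N' hN' L _ ι hM hinv
  have hQU : Q ≤ U := le_of_isNormal_of_centric_radical hpT N hQn hUc hUr
  have hUcF : F.IsCentric U := isCentric_of_isCentric_normalizer hS F hF hQ N hN hQU hUc
  have hsatN' : N'.IsSaturated p := normalizerSystem_saturated hpT N hsatN hUfn N' hN'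
  obtain ⟨Us, hUsfn, hUsc, hconj, Ns, hNs, Ls, instLs, ιs, hMs, f, hf⟩ :=
    exists_model_embedding hS F hF hQU hUc.1 hUcF N hN N' hN' hsatN' ι hM
  exact hfree Us hUsfn hUsc Ns hNs Ls ιs hMs (Cfsg.Agent.Lib.Helper27.involves_of_injective f hf hinv)

end Cfsg.Agent.S5240
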