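import Cfsg.Statements.S4582
import Mathlib

set_option autoImplicit false
open Cfsg

namespace Cfsg.Agent.S4582

open scoped commutatorElement

/-- transfer of the restriction of a homomorphism defined on the whole group -/
theorem transfer_restrict {G A : Type*} [Group G] [Finite G] [CommGroup A] (H : Subgroup G)
    (ψ : G →* A) (g : G) : (ψ.comp H.subtype).transfer g = ψ g ^ H.index := by
  classical
  have : Fintype (Quotient (MulAction.orbitRel (Subgroup.zpowers g) (G ⧸ H))) := Fintype.ofFinite _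
  rw [MonoidHom.transfer_eq_prod_quotient_orbitRel_zpowers_quot]
  simp only [MonoidHom.comp_apply, Subgroup.coe_subtype, map_mul, map_inv, map_pow]
  have h1 : ∀ q : Quotient (MulAction.orbitRel (Subgroup.zpowers g) (G ⧸ H)),
      (ψ q.out.out)⁻¹ * ψ g ^ Function.minimalPeriod (g • ·) q.out * ψ q.out.out =
        ψ g ^ Function.minimalPeriod (g • ·) q.out := by
    intro q
    rw [mul_comm, mul_inv_cancel_left]
  rw [Finset.prod_congr rfl (fun q _ => h1 q), Finset.prod_pow_eq_pow_sum,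
    ← Subgroup.index_eq_sum_minimalPeriod]

/-- transfer commutes with post-composition -/
theorem transfer_comp {G A B : Type*} [Group G] [Finite G] [CommGroup A] [CommGroup B]
    (H : Subgroup G) (ϕ : ↥H →* A) (f : A →* B) (g : G) :
    (f.comp ϕ).transfer g = f (ϕ.transfer g) := by
  classical
  rw [MonoidHom.transfer_def _ default, MonoidHom.transfer_def _ default]
  unfold Subgroup.leftTransversals.diff
  simp only [map_prod, MonoidHom.comp_apply]

theorem key {H : Type*} [Group H] [Finite H] (P N : Subgroup H) [N.Normal] (hPN : P ⊔ N = ⊤)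
    (hP2 : IsPGroup 2 P) (hidx : Odd P.index)
    (hP : ∀ x ∈ P, x ^ 2 ∈ (P ⊓ N) ⊔ ⁅P, P⁆)
    (hQ : ∀ x ∈ P ⊓ N, x ^ 2 ∈ ⁅P, P⁆)
    (hodd : Odd (Nat.card (Abelianization N))) :
    ∀ x ∈ P, x ^ 2 ∈ ⁅P, P⁆ := by
  classical
  have hker : ∀ y : ↥P, (Abelianization.of y : Abelianization ↥P) = 1 ↔ (y : H) ∈ ⁅P, P⁆ := by
    intro y
    rw [← MonoidHom.mem_ker, Abelianization.ker_of, ← Subgroup.map_subtype_commutator]
    constructor
    · intro h; exact ⟨y, h, rfl⟩
    · rintro ⟨z, hz, hzy⟩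
      have : z = y := Subtype.ext hzy
      exact this ▸ hz
  set π : ↥P →* Abelianization ↥P := Abelianization.of with hπ
  set T : H →* Abelianization ↥P := π.transfer with hT
  have hA2 : IsPGroup 2 (Abelianization ↥P) := hP2.to_quotient (commutator ↥P)
  have hTN : ∀ n ∈ N, T n = 1 := by
    intro n hn
    let f : ↥N →* Abelianization ↥P := T.comp N.subtype
    have h1 : (Abelianization.lift f (Abelianization.of ⟨n, hn⟩)) = T n := rfl
    have h2 : (T n) ^ Nat.card (Abelianization ↥N) = 1 := by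
      rw [← h1, ← map_pow, pow_card_eq_one', map_one]
    obtain ⟨k, hk⟩ := hA2 (T n)
    have h3 : orderOf (T n) ∣ Nat.card (Abelianization ↥N) := orderOf_dvd_of_pow_eq_one h2
    have h4 : orderOf (T n) ∣ 2 ^ k := orderOf_dvd_of_pow_eq_one hk
    have h5 : Nat.Coprime (Nat.card (Abelianization ↥N)) (2 ^ k) :=
      Nat.Coprime.pow_right k (Nat.coprime_two_right.mpr hodd)
    exact orderOf_eq_one_iff.mp (Nat.eq_one_of_dvd_coprimes h5 h3 h4)
  have hTc : ⁅P, P⁆ ≤ T.ker := by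
    calc ⁅P, P⁆ ≤ ⁅(⊤ : Subgroup H), ⊤⁆ := Subgroup.commutator_mono le_top le_top
      _ = commutator H := (commutator_def H).symm
      _ ≤ T.ker := Abelianization.commutator_subset_ker T
  have hTker : (P ⊓ N) ⊔ ⁅P, P⁆ ≤ T.ker := sup_le (fun n hn => hTN n hn.2) hTc
  have hTsq : ∀ x ∈ P, T x ^ 2 = 1 := by
    intro x hx
    rw [← map_pow]
    exact hTker (hP x hx)
  let ψ : ↥P →* H ⧸ N := (QuotientGroup.mk' N).comp P.subtype
  have hψ : Function.Surjective ψ := by
    intro q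
    obtain ⟨g, rfl⟩ := QuotientGroup.mk'_surjective N q
    have hg : g ∈ ((P ⊔ N : Subgroup H) : Set H) := by rw [hPN]; exact Set.mem_univ g
    rw [Subgroup.mul_normal] at hg
    obtain ⟨a, ha, n, hn, rfl⟩ := Set.mem_mul.mp hg
    refine ⟨⟨a, ha⟩, ?_⟩
    show QuotientGroup.mk' N a = QuotientGroup.mk' N (a * n)
    have hn1 : QuotientGroup.mk' N n = 1 := (QuotientGroup.eq_one_iff n).mpr hn
    rw [map_mul, hn1, mul_one]
  let σ : ↥P →* Abelianization ↥P := (powMonoidHom 2).comp π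
  have hσker : ψ.ker ≤ σ.ker := by
    intro y hy
    rw [MonoidHom.mem_ker] at hy ⊢
    have hyN : (y : H) ∈ N := (QuotientGroup.eq_one_iff _).mp hy
    show π y ^ 2 = 1
    rw [← map_pow, hπ, hker]
    have := hQ (y : H) ⟨y.2, hyN⟩
    simpa using this
  let φbar : H ⧸ N →* Abelianization ↥P := ψ.liftOfSurjective hψ ⟨σ, hσker⟩
  let φ : H →* Abelianization ↥P := φbar.comp (QuotientGroup.mk' N)
  have hφ : φ.comp P.subtype = σ := by
    ext y
    show φbar (ψ y) = σ y
    exact MonoidHom.liftOfRightInverse_comp_apply _ _ _ _ y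
  intro x hx
  have h1 : σ.transfer x = (T x) ^ 2 := transfer_comp P π (powMonoidHom 2) x
  have h2 : σ.transfer x = φ x ^ P.index := by rw [← hφ]; exact transfer_restrict P φ x
  have h3 : φ x = π ⟨x, hx⟩ ^ 2 := by
    have := congrArg (fun f : ↥P →* Abelianization ↥P => f ⟨x, hx⟩) hφ
    exact this
  have h4 : (π ⟨x, hx⟩ ^ 2) ^ P.index = 1 := by rw [← h3, ← h2, h1, hTsq x hx]
  obtain ⟨k, hk⟩ := hA2 (π ⟨x, hx⟩ ^ 2)
  have h5 : orderOf (π ⟨x, hx⟩ ^ 2) ∣ P.index := orderOf_dvd_of_pow_eq_one h4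
  have h6 : orderOf (π ⟨x, hx⟩ ^ 2) ∣ 2 ^ k := orderOf_dvd_of_pow_eq_one hk
  have h7 : Nat.Coprime P.index (2 ^ k) :=
    Nat.Coprime.pow_right k (Nat.coprime_two_right.mpr hidx)
  have h8 : π ⟨x, hx⟩ ^ 2 = 1 := orderOf_eq_one_iff.mp (Nat.eq_one_of_dvd_coprimes h7 h5 h6)
  rw [← map_pow, hπ, hker] at h8
  simpa using h8

theorem result' {G : Type*} [Group G] [Finite G] (N : Subgroup G) [N.Normal] (P : Sylow 2 G)
    (hP : ∀ x ∈ (P : Subgroup G), x ^ 2 ∈ ((P : Subgroup G) ⊓ N) ⊔ ⁅(P : Subgroup G), (P : Subgroup G)⁆)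
    (hQ : ∀ x ∈ (P : Subgroup G) ⊓ N, x ^ 2 ∈ ⁅(P : Subgroup G) ⊓ N, (P : Subgroup G) ⊓ N⁆)
    (hodd : Odd (Nat.card (Abelianization N))) :
    ∀ x ∈ (P : Subgroup G), x ^ 2 ∈ ⁅(P : Subgroup G), (P : Subgroup G)⁆ := by
  classical
  have : Fact (Nat.Prime 2) := ⟨Nat.prime_two⟩
  set K : Subgroup G := (P : Subgroup G) ⊔ N with hK
  have hPK : (P : Subgroup G) ≤ K := le_sup_left
  have hNK : N ≤ K := le_sup_right
  have hι : Function.Injective K.subtype := K.subtype_injective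
  set PK : Subgroup ↥K := (P : Subgroup G).subgroupOf K with hPKdef
  set NK : Subgroup ↥K := N.subgroupOf K with hNKdef
  have hNKn : NK.Normal := Subgroup.normal_subgroupOf
  have hmapP : PK.map K.subtype = P := Subgroup.map_subgroupOf_eq_of_le hPK
  have hmapN : NK.map K.subtype = N := Subgroup.map_subgroupOf_eq_of_le hNK
  have hmapC : (⁅PK, PK⁆).map K.subtype = ⁅(P : Subgroup G), (P : Subgroup G)⁆ := by
    rw [Subgroup.map_commutator, hmapP]
  have h1 : PK ⊔ NK = ⊤ := by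
    rw [hPKdef, hNKdef, ← Subgroup.subgroupOf_sup hPK hNK]
    exact Subgroup.subgroupOf_self K
  have h2 : IsPGroup 2 PK := (P.isPGroup').of_equiv (Subgroup.subgroupOfEquivOfLe hPK).symm
  have h3 : Odd PK.index := by
    have hrel : PK.index = (P : Subgroup G).relIndex K := rfl
    have hmul := Subgroup.relIndex_mul_index hPK
    have hnd := P.not_dvd_index
    rw [hrel, ← Nat.not_even_iff_odd, even_iff_two_dvd]
    intro h
    exact hnd (hmul ▸ Dvd.dvd.mul_right h _)
  have hsupmap : ((PK ⊓ NK) ⊔ ⁅PK, PK⁆).map K.subtype =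
      ((P : Subgroup G) ⊓ N) ⊔ ⁅(P : Subgroup G), (P : Subgroup G)⁆ := by
    rw [Subgroup.map_sup, Subgroup.map_inf _ _ _ hι, hmapP, hmapN, hmapC]
  have h4 : ∀ x ∈ PK, x ^ 2 ∈ (PK ⊓ NK) ⊔ ⁅PK, PK⁆ := by
    intro x hx
    have hx' : (x : G) ∈ (P : Subgroup G) := Subgroup.mem_subgroupOf.mp hx
    have := hP (x : G) hx'
    rw [← hsupmap] at this
    have h5 : K.subtype (x ^ 2) ∈ ((PK ⊓ NK) ⊔ ⁅PK, PK⁆).map K.subtype := by
      rw [map_pow]; exact this
    exact (Subgroup.mem_map_iff_mem hι).mp h5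
  have h5 : ∀ x ∈ PK ⊓ NK, x ^ 2 ∈ ⁅PK, PK⁆ := by
    intro x hx
    have hx1 : (x : G) ∈ (P : Subgroup G) := Subgroup.mem_subgroupOf.mp hx.1
    have hx2 : (x : G) ∈ N := Subgroup.mem_subgroupOf.mp hx.2
    have h6 := hQ (x : G) ⟨hx1, hx2⟩
    have h7 : (x : G) ^ 2 ∈ ⁅(P : Subgroup G), (P : Subgroup G)⁆ :=
      Subgroup.commutator_mono inf_le_left inf_le_left h6
    rw [← hmapC] at h7
    have h8 : K.subtype (x ^ 2) ∈ (⁅PK, PK⁆).map K.subtype := by
      rw [map_pow]; exact h7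
    exact (Subgroup.mem_map_iff_mem hι).mp h8
  have h6 : Odd (Nat.card (Abelianization ↥NK)) := by
    have e : Abelianization ↥NK ≃* Abelianization ↥N :=
      (Subgroup.subgroupOfEquivOfLe hNK).abelianizationCongr
    rw [Nat.card_congr e.toEquiv]
    exact hodd
  have hkey := key PK NK h1 h2 h3 h4 h5 h6
  intro x hx
  have h7 := hkey ⟨x, hPK hx⟩ (Subgroup.mem_subgroupOf.mpr hx)
  rw [← hmapC]
  exact ⟨_, h7, by simp⟩

/-- Let N be a normal subgroup of the finite group G, P a Sylow 2-subgroup of G and Q = P ∩ N. Suppose that P/QP' and Q/Q' are elementary abelian (every square of an element of P lies in the subgroup generated by Q and the derived subgroup of P, and every square of an element of Q lies in the derived subgroup of Q), and that the commutator factor group N/N' has odd order. Then P/P' is elementary abelian. -/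
theorem result {G : Type*} [Group G] [Finite G] (N : Subgroup G) [N.Normal] (P : Sylow 2 G)
    (hP : ∀ x ∈ (P : Subgroup G), x ^ 2 ∈ ((P : Subgroup G) ⊓ N) ⊔ ⁅(P : Subgroup G), (P : Subgroup G)⁆)
    (hQ : ∀ x ∈ (P : Subgroup G) ⊓ N, x ^ 2 ∈ ⁅(P : Subgroup G) ⊓ N, (P : Subgroup G) ⊓ N⁆)
    (hodd : Odd (Nat.card (Abelianization N))) :
    ∀ x ∈ (P : Subgroup G), x ^ 2 ∈ ⁅(P : Subgroup G), (P : Subgroup G)⁆ := by
  exact result' N P hP hQ hodd

end Cfsg.Agent.S4582
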