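import Cfsg.Statements.S2842
import Cfsg.Agent.Lib.Helper16.WCCharP

set_option autoImplicit false
open Cfsg

namespace Cfsg.Agent.S2842

/-- Let Q be a nontrivial p-subgroup of the finite group H that is a weakly closed subgroup with C_H(Q) ≤ Q, and Q ≤ L ≤ H. Suppose H has characteristic p, or more generally that C_H(y) has characteristic p for some nonidentity y ∈ C_{O_p(L)}(Q). Then [Q, C_H(O_p(L))] ≤ Q ∩ O_p(L), C_H(O_p(L)) is a p-group, and L has characteristic p. -/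
theorem result {H : Type*} [Group H] [Finite H] {p : ℕ} [Fact p.Prime] (Q : Subgroup H) (hQp : IsPGroup p ↥Q) (hQ1 : Q ≠ ⊥) (hwc : Cfsg.IsWeaklyClosedSubgroup p Q) (hCQ : Subgroup.centralizer ((Q : Subgroup H) : Set H) ≤ Q) (L : Subgroup H) (hQL : Q ≤ L) (hyp : Subgroup.centralizer (Cfsg.pCore p H : Set H) ≤ Cfsg.pCore p H ∨ ∃ y : H, y ≠ 1 ∧ y ∈ (Cfsg.pCoreOf p L) ⊓ Subgroup.centralizer ((Q : Subgroup H) : Set H) ∧ Subgroup.centralizer (Cfsg.pCore p ↥(Subgroup.centralizer ({y} : Set H)) : Set ↥(Subgroup.centralizer ({y} : Set H))) ≤ Cfsg.pCore p ↥(Subgroup.centralizer ({y} : Set H))) : ⁅Q, Subgroup.centralizer (((Cfsg.pCoreOf p L) : Subgroup H) : Set H)⁆ ≤ Q ⊓ (Cfsg.pCoreOf p L) ∧ IsPGroup p ↥(Subgroup.centralizer (((Cfsg.pCoreOf p L) : Subgroup H) : Set H)) ∧ Subgroup.centralizer (Cfsg.pCore p ↥L : Set ↥L) ≤ Cfsg.pCore p ↥L := by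
  have hCN : Subgroup.centralizer (((Cfsg.pCoreOf p L) : Subgroup H) : Set H) ≤
      Subgroup.normalizer (Q : Set H) := by
    rcases hyp with hH | ⟨y, -, hy, hK⟩
    · haveI hn : (Cfsg.pCore p H).Normal := inferInstance
      have htop : Subgroup.normalizer ((Cfsg.pCore p H : Subgroup H) : Set H) = ⊤ :=
        Subgroup.normalizer_eq_top_iff.mpr hn
      apply Cfsg.Agent.Lib.Helper16.wc_centralizer_le_normalizer hQp hwc hQL (Cfsg.pCore p H)
        Cfsg.Agent.Lib.Helper16.pCore_isPGroup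
      · rw [htop]; exact le_top
      · rw [htop]; exact le_top
      · exact (Cfsg.Agent.Lib.Helper16.pCore_isPGroup (G := H) (p := p)).to_le
          (inf_le_right.trans hH)
    · exact Cfsg.Agent.Lib.Helper16.wc_centralizer_le_normalizer_of_mem hQp hwc hQL y hy.1 hK
  obtain ⟨h1, h2⟩ := Cfsg.Agent.Lib.Helper16.centralizer_pCoreOf_facts hQp hCQ hQL hCN
  refine ⟨?_, h2, ?_⟩
  · refine le_trans (le_inf ?_ ?_) (le_inf inf_le_left h1)
    · exact Subgroup.le_normalizer_iff_commutator_le_left.mp hCN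
    · apply Subgroup.le_normalizer_iff_commutator_le_right.mp
      exact hQL.trans ((Cfsg.Agent.Lib.Helper16.le_normalizer_pCoreOf (p := p) L).trans
        (Cfsg.Agent.Lib.Helper16.normalizer_le_normalizer_centralizer _))
  · exact Cfsg.Agent.Lib.Helper16.charP_of_ambient L
      (Cfsg.Agent.Lib.Helper16.inf_centralizer_pCoreOf_le L h2)

end Cfsg.Agent.S2842
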