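import Cfsg.Statements.S0781
import Mathlib
import Cfsg.Agent.Lib.Helper5.HermBridge
import Cfsg.Agent.Lib.Helper5.UEichler

set_option autoImplicit false
open Cfsg

namespace Cfsg.Agent.S0781

section Aux
set_option linter.unusedSectionVars false
set_option linter.unusedVariables false
set_option linter.unusedSimpArgs false
namespace S0781aux
open Cfsg Matrix Cfsg.Agent.Lib.Helper14 Cfsg.Agent.Lib.Helper5.SpMax
  Cfsg.Agent.Lib.Helper5.TMCalc Cfsg.Agent.Lib.Helper5.UForm Cfsg.Agent.Lib.Helper5.UEichler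
  Cfsg.Agent.Lib.Helper5.HermBridge

variable {F : Type*} [Field F] [Fintype F] {q n : ℕ}

lemma one_mem_comm {G : Type*} [Group G] : (1 : G) ∈ commutatorSet G :=
  ⟨1, 1, by simp⟩

omit [Fintype F] in
/-- from a `GL` element of determinant one preserving the form to an element of `SU` -/
lemma toSU {g : GL (Fin n) F} (hS : g ∈ Cfsg.Geo.specialLinear (Fin n) F)
    (hiso : ∀ x y, Cfsg.hermForm n F q ((g : Matrix (Fin n) (Fin n) F) *ᵥ x)
      ((g : Matrix (Fin n) (Fin n) F) *ᵥ y) = Cfsg.hermForm n F q x y) :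
    ∃ A : ↥(Cfsg.SU n F q), ((A : Matrix.SpecialLinearGroup (Fin n) F) :
      Matrix (Fin n) (Fin n) F) = (g : Matrix (Fin n) (Fin n) F) := by
  have hdet : (g : Matrix (Fin n) (Fin n) F).det = 1 := by
    have h1 := congrArg Units.val (MonoidHom.mem_ker.mp hS)
    simpa using h1
  exact ⟨⟨⟨(g : Matrix (Fin n) (Fin n) F), hdet⟩, hiso⟩, rfl⟩

theorem main (hF : Fintype.card F = q ^ 2) (hn : 3 ≤ n) (A : ↥(Cfsg.SU n F q))
    (v : Fin n → F) (c : F) (hv0 : Cfsg.hermForm n F q v v = 0)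
    (hA : ((A : Matrix.SpecialLinearGroup (Fin n) F) : Matrix (Fin n) (Fin n) F) =
      Cfsg.unitaryTransvection n q v c) : A ∈ commutatorSet ↥(Cfsg.SU n F q) := by
  classical
  have hf := herm_unitary (n := n) hF
  by_cases hdeg : v = 0 ∨ c = 0
  · have hA1 : A = 1 := by
      apply Subtype.ext
      apply Subtype.ext
      rw [hA]
      rcases hdeg with rfl | rfl
      · apply mat_eq_of_mulVec
        intro x
        rw [ut_mulVec, smul_zero, add_zero]
        simp
      · apply mat_eq_of_mulVec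
        intro x
        rw [ut_mulVec, zero_mul, zero_smul, add_zero]
        simp
    rw [hA1]
    exact one_mem_comm
  push Not at hdeg
  obtain ⟨hvne, hcne⟩ := hdeg
  have hAiso : ∀ x y, Cfsg.hermForm n F q
      (((A : Matrix.SpecialLinearGroup (Fin n) F) : Matrix (Fin n) (Fin n) F) *ᵥ x)
      (((A : Matrix.SpecialLinearGroup (Fin n) F) : Matrix (Fin n) (Fin n) F) *ᵥ y)
      = Cfsg.hermForm n F q x y := A.2
  have hskew : frobQ hF c = -c := by
    obtain ⟨x, hx⟩ := (hf.nondegenerate v hvne).1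
    have h1 := hAiso x x
    rw [hA, ut_mulVec, u_expand hf, hv0, mul_zero, add_zero, hf.herm v x, map_mul] at h1
    have h2 : (frobQ hF c + c) * (Cfsg.hermForm n F q x v * frobQ hF (Cfsg.hermForm n F q x v))
        = 0 := by linear_combination h1
    rcases mul_eq_zero.mp h2 with h | h
    · linear_combination h
    · exfalso
      rcases mul_eq_zero.mp h with h' | h'
      · exact hx h'
      · exact hx ((map_eq_zero (frobQ hF)).mp h')
  have htop : Module.finrank F (⊤ : Submodule F (Fin n → F)) = n := by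
    rw [finrank_top, Module.finrank_fin_fun]
  obtain ⟨v', -, hv'v', hvv'⟩ := exists_partner hf (ND_top hf) Submodule.mem_top hvne hv0
  have hUND := ND_hyp hf (ND_top hf) (Submodule.mem_top : v ∈ ⊤) (Submodule.mem_top : v' ∈ ⊤)
    hv0 hv'v' hvv'
  have hd1 := finrank_inf_pp hf ⊤ v
  have hd2 := finrank_inf_pp hf (⊤ ⊓ pp hf v) v'
  obtain ⟨z, hzU, hz0⟩ := exists_mem_ne_zero (U := ⊤ ⊓ pp hf v ⊓ pp hf v') (by omega)
  obtain ⟨w, hwU, hww⟩ := exists_noniso hf hUND ⟨z, hzU, hz0⟩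
  have hwv : Cfsg.hermForm n F q w v = 0 :=
    (mem_pp hf).mp (Submodule.mem_inf.mp (Submodule.mem_inf.mp hwU).1).2
  obtain ⟨γ, hγdef⟩ : ∃ γ, γ = Cfsg.hermForm n F q w w := ⟨_, rfl⟩
  have hγ0 : γ ≠ 0 := by rw [hγdef]; exact hww
  have hγ : frobQ hF γ = γ := by rw [hγdef]; exact u_self_fixed hf w
  obtain ⟨τ, hτ⟩ := tr_surj hf.involutive hf.ne_refl (-1) (by rw [map_neg, map_one])
  obtain ⟨β, hβdef⟩ : ∃ β, β = c / γ * τ := ⟨_, rfl⟩
  have hβ : γ * (frobQ hF β - β) = c := by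
    have h1 : frobQ hF β - β = -(c / γ) * (τ + frobQ hF τ) := by
      rw [hβdef, map_mul, map_div₀, hskew, hγ]
      ring
    rw [h1, hτ]
    field_simp
  obtain ⟨κ, hκ⟩ := tr_surj hf.involutive hf.ne_refl γ hγ
  have hfix' : frobQ hF (β * frobQ hF β * γ) = β * frobQ hF β * γ := by
    rw [map_mul, map_mul, hf.involutive, hγ]
    ring
  obtain ⟨κ', hκ'⟩ := tr_surj hf.involutive hf.ne_refl (β * frobQ hF β * γ) hfix'
  have hw'v : Cfsg.hermForm n F q (β • w) v = 0 := by rw [hf.smul_left, hwv, mul_zero]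
  have hw'w' : Cfsg.hermForm n F q (β • w) (β • w) = β * frobQ hF β * γ := by
    rw [hf.smul_left, u_smul_right hf, hγdef]
    ring
  obtain ⟨g, hgS, hg⟩ := exists_E hf hv0 hwv κ
  obtain ⟨g', hg'S, hg'⟩ := exists_E hf hv0 hw'v κ'
  have hc : Cfsg.hermForm n F q w (β • w) - Cfsg.hermForm n F q (β • w) w = c := by
    rw [u_smul_right hf, hf.smul_left, ← hγdef]
    linear_combination hβ
  obtain ⟨t, htdef⟩ : ∃ t : GL (Fin n) F, (t : Matrix (Fin n) (Fin n) F) =
      ((A : Matrix.SpecialLinearGroup (Fin n) F) : Matrix (Fin n) (Fin n) F) :=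
    ⟨Matrix.SpecialLinearGroup.toGL (A : Matrix.SpecialLinearGroup (Fin n) F), rfl⟩
  have ht : ∀ x, (t : Matrix (Fin n) (Fin n) F) *ᵥ x = x +
      ((Cfsg.hermForm n F q w (β • w) - Cfsg.hermForm n F q (β • w) w) *
        Cfsg.hermForm n F q x v) • v := by
    intro x
    rw [htdef, hA, ut_mulVec, hc]
  have hcomm := E_comm hf hv0 hwv hw'v hg hg' ht
  have hκ2 : κ + frobQ hF κ = Cfsg.hermForm n F q w w := by rw [hκ, hγdef]
  have hκ'2 : κ' + frobQ hF κ' = Cfsg.hermForm n F q (β • w) (β • w) := by rw [hκ', hw'w']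
  obtain ⟨B, hB⟩ := toSU (q := q) hgS (E_isometry hf hv0 hwv hκ2 hg)
  obtain ⟨C, hC⟩ := toSU (q := q) hg'S (E_isometry hf hv0 hw'v hκ'2 hg')
  refine ⟨B, C, ?_⟩
  rw [commutatorElement_def, mul_inv_eq_iff_eq_mul, mul_inv_eq_iff_eq_mul]
  apply Subtype.ext
  apply Subtype.ext
  simp only [Subgroup.coe_mul, Matrix.SpecialLinearGroup.coe_mul]
  rw [hB, hC, ← htdef]
  have h3 := congrArg Units.val hcomm
  simpa only [Units.val_mul] using h3

end S0781aux
end Aux

/-- In SU_n(q) with n ≥ 4, or n = 3 and q > 2, every element whose matrix is a unitary transvection x ↦ x + c h(x, v) v (v isotropic) is a commutator ⁅B, C⁆ of two elements of SU_n(q). -/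
theorem result {F : Type*} [Field F] [Fintype F] {q : ℕ} (hF : Fintype.card F = q ^ 2) (n : ℕ) (hn : 4 ≤ n ∨ (n = 3 ∧ 3 ≤ q)) (A : ↥(Cfsg.SU n F q)) (v : Fin n → F) (c : F) (hv0 : Cfsg.hermForm n F q v v = 0) (hA : ((A : Matrix.SpecialLinearGroup (Fin n) F) : Matrix (Fin n) (Fin n) F) = Cfsg.unitaryTransvection n q v c) : A ∈ commutatorSet ↥(Cfsg.SU n F q) := by
  exact S0781aux.main hF (by rcases hn with h | ⟨h, -⟩ <;> omega) A v c hv0 hA

end Cfsg.Agent.S0781
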