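-- S5650 : the subfield group of Sp_2m(F) (prime degree r, m ≥ 7) is maximal.
-- Assembled from the leaves of notes/S5650_leaves.lean (leaf market of helper2).
import Cfsg.Statements.S5650
import Cfsg.Agent.Lib.Helper2.SpSubDefs
import Cfsg.Agent.Lib.Helper2.SpSubBasic
import Cfsg.Agent.Lib.Helper2.SpSubR2
import Cfsg.Agent.Lib.Helper2.SpSubG2
import Cfsg.Agent.Lib.Helper29.SpSubB
import Cfsg.Agent.Lib.Helper29.SpSubN1core
import Cfsg.Agent.Lib.Helper9.SpSubT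
import Cfsg.Agent.Lib.Helper27.SpSubE23
import Cfsg.Agent.Lib.Helper26.SpSubN2Core
import Cfsg.Agent.Lib.Helper15.SpSubN3core
import Cfsg.Agent.Lib.Helper15.SpSubG1core
import Cfsg.Agent.Lib.Helper1.SpSubR

set_option autoImplicit false
open Cfsg

namespace Cfsg.Agent.S5650

open Matrix Cfsg.Agent.Lib.Helper5 Cfsg.Agent.Lib.Helper5.SpMax Cfsg.Agent.Lib.Helper2.SpSub

section aux
variable {F : Type*} [Field F] {m : ℕ}

/-- (N1) = (A) -/
theorem ratA5650 [Fintype F] {F₀ : Subfield F} (hm : 3 ≤ m) {M : Subgroup (GL (Fin m ⊕ Fin m) F)}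
    (h : Ctx F₀ M) {a w : Fin m ⊕ Fin m → F} (ha : RatV F₀ a) (ha0 : a ≠ 0)
    (haw : sympForm m F a w = 0) {ν : F} (hc : Sab a w 1 * tvc a ν ∈ M) :
    ∃ (r : Fin m ⊕ Fin m → F) (θ : F), RatV F₀ r ∧ w = r + θ • a :=
  Cfsg.Agent.Lib.Helper29.SpSubLeaf.ratA_of h
    (fun ha hb hab hind _ _ hc => Cfsg.Agent.Lib.Helper27.SpSubLeaf.nr_pair hm h ha hb hab hind hc)
    ha ha0 haw hc

/-- (N2) = (C) -/
theorem ratC5650 [Fintype F] {F₀ : Subfield F} (hm : 3 ≤ m) {M : Subgroup (GL (Fin m ⊕ Fin m) F)}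
    (h : Ctx F₀ M) {y : Fin m ⊕ Fin m → F} {c : F} (hc0 : c ≠ 0) (hT : tvc y c ∈ M)
    {a : Fin m ⊕ Fin m → F} (ha : RatV F₀ a) (ha0 : a ≠ 0) (hya : sympForm m F y a = 0) :
    ∃ (μ : F) (r : Fin m ⊕ Fin m → F), RatV F₀ r ∧ y = μ • r :=
  Cfsg.Agent.Lib.Helper26.SpSubLeaf.ratC_core hm h
    (fun hab hay c => Cfsg.Agent.Lib.Helper29.SpSubLeaf.tvc_Sab_comm hab hay c)
    (fun ha ha0 haw _ hc => ratA5650 hm h ha ha0 haw hc)
    (fun hij _ _ ha hd had hind =>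
      Cfsg.Agent.Lib.Helper9.SpSubLeaf.exists_H0_map_pair F₀ hm hij ha hd had hind)
    hc0 hT ha ha0 hya

/-- (N3) = (L5) -/
theorem mem_of_rat_point5650 [Fintype F] {F₀ : Subfield F} (hm : 3 ≤ m)
    {M : Subgroup (GL (Fin m ⊕ Fin m) F)} (h : Ctx F₀ M) {g : GL (Fin m ⊕ Fin m) F} (hg : g ∈ M)
    {a a' : Fin m ⊕ Fin m → F} (ha : RatV F₀ a) (ha0 : a ≠ 0) (ha' : RatV F₀ a') {μ : F}
    (hga : mv g a = μ • a') : g ∈ Cfsg.Geo.subfieldSubgroup F₀ (1 : GL (Fin m ⊕ Fin m) F) :=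
  Cfsg.Agent.Lib.Helper15.SpSubLeaf.mem_of_rat_point_of hm h
    (fun ha ha0 _ hc => Cfsg.Agent.Lib.Helper27.SpSubLeaf.nrT hm h ha ha0 hc)
    (fun ha ha0 haw _ hc => ratA5650 hm h ha ha0 haw hc)
    (fun hc0 hT _ ha ha0 hya => ratC5650 hm h hc0 hT ha ha0 hya)
    hg ha ha0 ha' hga

/-- (G1) -/
theorem easy_case5650 [Fintype F] {F₀ : Subfield F} (hm : 3 ≤ m)
    {M : Subgroup (GL (Fin m ⊕ Fin m) F)}
    (h : Ctx F₀ M) (hr : Module.finrank F₀ F < 2 * m) {g : GL (Fin m ⊕ Fin m) F} (hg : g ∈ M) :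
    g ∈ Cfsg.Geo.subfieldSubgroup F₀ (1 : GL (Fin m ⊕ Fin m) F) :=
  Cfsg.Agent.Lib.Helper15.SpSubLeaf.easy_case_of hm h
    (fun hc0 hT _ ha ha0 hya => ratC5650 hm h hc0 hT ha ha0 hya)
    (fun hg _ _ ha ha0 ha' _ hga => mem_of_rat_point5650 hm h hg ha ha0 ha' hga)
    hr hg

/-- (G2) -/
theorem hard_case5650 [Fintype F] {F₀ : Subfield F} (hm : 5 ≤ m)
    {M : Subgroup (GL (Fin m ⊕ Fin m) F)}
    (h : Ctx F₀ M) (hr3 : 3 ≤ Module.finrank F₀ F) {g : GL (Fin m ⊕ Fin m) F} (hg : g ∈ M) :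
    g ∈ Cfsg.Geo.subfieldSubgroup F₀ (1 : GL (Fin m ⊕ Fin m) F) :=
  Cfsg.Agent.Lib.Helper2.SpSubLeaf.hard_case_of hm h hr3
    (fun hc0 hT _ ha ha0 hya => ratC5650 (by omega) h hc0 hT ha ha0 hya)
    (fun hg _ _ ha ha0 ha' _ hga => mem_of_rat_point5650 (by omega) h hg ha ha0 ha' hga)
    hg

theorem finrank_eq_of_card5650 [Fintype F] (F₀ : Subfield F) {r : ℕ}
    (hcard : Fintype.card F = Nat.card F₀ ^ r) : Module.finrank F₀ F = r := by
  classical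
  letI : Fintype F₀ := Fintype.ofFinite F₀
  have h1 := Module.card_eq_pow_finrank (K := F₀) (V := F)
  rw [hcard, Nat.card_eq_fintype_card] at h1
  have h2 : 2 ≤ Fintype.card F₀ := Fintype.one_lt_card
  exact (Nat.pow_right_injective h2 h1).symm

theorem std_maximal5650 [Fintype F] (hm : 7 ≤ m) (F₀ : Subfield F)
    (hp : (Module.finrank F₀ F).Prime) : Cfsg.Geo.IsMaximalIn (spGL m F) (H0 m F₀) := by
  refine ⟨Cfsg.Agent.Lib.Helper2.SpSubLeaf.H0_lt F₀ (by omega) hp.two_le, fun M hHM hMS => ?_⟩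
  by_cases hM : spGL m F ≤ M
  · right
    exact le_antisymm hMS hM
  · left
    have hctx : Ctx F₀ M := ⟨hHM, hMS, hM, hp⟩
    apply le_antisymm _ hHM
    intro g hg
    refine Subgroup.mem_inf.mpr ⟨?_, hMS hg⟩
    by_cases hrn : Module.finrank F₀ F < 2 * m
    · exact easy_case5650 (by omega) hctx hrn hg
    · exact hard_case5650 (by omega) hctx (by omega) hg

end aux

/-- For a finite field F, a subfield F₀ with |F| = |F₀| ^ r for a prime r, and m ≥ 7, let P be an invertible matrix and ζ a non-zero scalar such that ζ times the standard alternating form takes values in F₀ on the F₀-span of the columns of P. Then the elements of Sp_2m(F) lying in the subfield group of P (the conjugate by P of the product of GL_2m(F₀) with the scalars) form a maximal subgroup of Sp_2m(F). -/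
theorem result {F : Type*} [Field F] [Fintype F] (m : ℕ) (hm : 7 ≤ m) (F₀ : Subfield F) (r : ℕ) (hr : r.Prime) (hcard : Fintype.card F = Nat.card F₀ ^ r) (P : Matrix.GeneralLinearGroup (Fin m ⊕ Fin m) F) (ζ : F) (hζ : ζ ≠ 0) (hP : Cfsg.Geo.IsFormRationalStructure (Cfsg.sympForm m F) F₀ ζ P) : Cfsg.Geo.IsMaximalIn (Cfsg.spGL m F) (Cfsg.Geo.subfieldSubgroup F₀ P ⊓ Cfsg.spGL m F) := by
  have hfr : Module.finrank F₀ F = r := finrank_eq_of_card5650 F₀ hcard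
  have hp : (Module.finrank F₀ F).Prime := by rw [hfr]; exact hr
  obtain ⟨P', hP'eq, hP'⟩ :=
    Cfsg.Agent.Lib.Helper1.SpSubLeaf.exists_normalized F₀ P ζ hζ hP
  rw [← hP'eq]
  exact Cfsg.Agent.Lib.Helper2.SpSubLeaf.maximal_transfer F₀ P' ζ hζ hP' (std_maximal5650 hm F₀ hp)

end Cfsg.Agent.S5650
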