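import Cfsg.Statements.S2573
-- import your own Cfsg.Agent.* helpers here

set_option autoImplicit false
open Cfsg

namespace Cfsg.Agent.S2573

open Matrix Module

theorem finrank_le_map_add_ker {K V V₂ : Type*} [Field K] [AddCommGroup V] [Module K V] [FiniteDimensional K V]
    [AddCommGroup V₂] [Module K V₂]
    (f : V →ₗ[K] V₂) (S : Submodule K V) :
    finrank K S ≤ finrank K (S.map f) + finrank K (LinearMap.ker f) := by
  have h := LinearMap.finrank_range_add_finrank_ker (f.domRestrict S)
  have hr : LinearMap.range (f.domRestrict S) = S.map f := by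
    ext y; simp [LinearMap.domRestrict]
  have hk : finrank K (LinearMap.ker (f.domRestrict S)) ≤ finrank K (LinearMap.ker f) := by
    have : finrank K (LinearMap.ker (f.domRestrict S)) = finrank K ((LinearMap.ker (f.domRestrict S)).map S.subtype) :=
      (LinearEquiv.finrank_eq (Submodule.equivMapOfInjective S.subtype S.injective_subtype _))
    rw [this]
    apply Submodule.finrank_mono
    rintro _ ⟨x, hx, rfl⟩
    simpa using hx
  rw [hr] at h
  omega

theorem ker_pow_le {K V : Type*} [Field K] [AddCommGroup V] [Module K V] [FiniteDimensional K V]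
    (f : End K V) (j : ℕ) : finrank K (LinearMap.ker (f ^ j)) ≤ j * finrank K (LinearMap.ker f) := by
  induction j with
  | zero => simp [Module.End.one_eq_id]
  | succ j ih =>
    have h := finrank_le_map_add_ker (f ^ j) (LinearMap.ker (f ^ (j + 1)))
    have hle : (LinearMap.ker (f ^ (j + 1))).map (f ^ j) ≤ LinearMap.ker f := by
      rintro _ ⟨x, hx, rfl⟩
      rw [LinearMap.mem_ker, ← Module.End.mul_apply, ← pow_succ']
      exact hx
    have h1 := Submodule.finrank_mono hle
    nlinarith [h, h1, ih]

/-- general version: a nilpotent endomorphism with one-dimensional kernel has its invariant subspaces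
equal to kernels of powers. -/
theorem inv_eq_ker_pow {K V : Type*} [Field K] [AddCommGroup V] [Module K V] [FiniteDimensional K V]
    (N : End K V) (m : ℕ) (hm : finrank K V ≤ m) (hnil : N ^ m = 0) (hker : finrank K (LinearMap.ker N) ≤ 1)
    (W : Submodule K V) (hW : ∀ v ∈ W, N v ∈ W) :
    W = LinearMap.ker (N ^ finrank K W) := by
  have hle : W ≤ LinearMap.ker (N ^ finrank K W) := by
    intro w hw
    have hpow : (N.restrict hW) ^ m = 0 := by
      rw [Module.End.pow_restrict]
      ext x
      simp [hnil]
    have hk : LinearMap.ker ((N.restrict hW) ^ finrank K W) = ⊤ := by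
      rw [← Module.End.ker_pow_eq_ker_pow_finrank_of_le ((Submodule.finrank_le W).trans hm), hpow]
      simp
    have : (⟨w, hw⟩ : W) ∈ LinearMap.ker ((N.restrict hW) ^ finrank K W) := by rw [hk]; trivial
    rw [LinearMap.mem_ker, Module.End.pow_restrict] at this
    have h2 := congrArg Subtype.val this
    simpa using h2
  apply Submodule.eq_of_le_of_finrank_le hle
  have := ker_pow_le N (finrank K W)
  nlinarith [this, hker]

/-- The invariant subspaces of a regular unipotent matrix form a chain: over a finite field, if u is an n × n matrix with (u − 1)^n = 0 and rank(u − 1) = n − 1, then every subspace W of F^n with u W ⊆ W is the kernel of (u − 1)^(dim W); so u has at most one invariant subspace of each dimension. -/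
theorem result {F : Type*} [Field F] [Finite F] {n : ℕ} (u : Matrix (Fin n) (Fin n) F) (hnil : (u - 1) ^ n = 0) (hreg : (u - 1).rank = n - 1) (W : Submodule F (Fin n → F)) (hW : ∀ v ∈ W, u.mulVec v ∈ W) : W = LinearMap.ker (Matrix.mulVecLin ((u - 1) ^ Module.finrank F W)) := by
  have hN : Matrix.mulVecLin ((u - 1) ^ Module.finrank F W) = (Matrix.toLin' (u - 1)) ^ Module.finrank F W := by
    rw [← Matrix.toLin'_pow]; rfl
  rw [hN]
  have hfin : Module.finrank F (Fin n → F) = n := by simp
  apply inv_eq_ker_pow (Matrix.toLin' (u - 1)) n (le_of_eq hfin)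
  · rw [← Matrix.toLin'_pow, hnil]; simp
  · have h := LinearMap.finrank_range_add_finrank_ker (Matrix.toLin' (u - 1))
    have hr : Module.finrank F (LinearMap.range (Matrix.toLin' (u - 1))) = n - 1 := hreg
    rw [hr, hfin] at h
    omega
  · intro v hv
    have : Matrix.toLin' (u - 1) v = u.mulVec v - v := by
      simp [Matrix.sub_mulVec]
    rw [this]
    exact W.sub_mem (hW v hv) hv

end Cfsg.Agent.S2573
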