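import Cfsg.Statements.S2571
-- import your own Cfsg.Agent.* helpers here
import Cfsg.Agent.S2573

set_option autoImplicit false
open Cfsg

namespace Cfsg.Agent.S2571

open Matrix Module

variable {F : Type*} [Field F] {n : ℕ}

/-- Krylov matrix: the columns are `N^i w`. -/
def kry (N : Matrix (Fin n) (Fin n) F) (w : Fin n → F) : Matrix (Fin n) (Fin n) F :=
  Matrix.of fun r i => ((N ^ (i : ℕ)) *ᵥ w) r

theorem kry_mulVec (N : Matrix (Fin n) (Fin n) F) (w a : Fin n → F) :
    kry N w *ᵥ a = ∑ i, a i • ((N ^ (i:ℕ)) *ᵥ w) := by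
  ext r
  simp [kry, Matrix.mulVec, dotProduct, Finset.sum_apply, mul_comm]

theorem mul_kry (N M : Matrix (Fin n) (Fin n) F) (h : M * N = N * M) (w : Fin n → F) :
    M * kry N w = kry N (M *ᵥ w) := by
  ext r i
  have hc : M * N ^ (i:ℕ) = N ^ (i:ℕ) * M := (Commute.pow_right h _).eq
  have : (M *ᵥ ((N ^ (i:ℕ)) *ᵥ w)) r = ((N ^ (i:ℕ)) *ᵥ (M *ᵥ w)) r := by
    rw [Matrix.mulVec_mulVec, Matrix.mulVec_mulVec, hc]
  simpa [kry, Matrix.mul_apply, Matrix.mulVec, dotProduct] using this

theorem kry_ker (N : Matrix (Fin n) (Fin n) F) (hnil : N ^ n = 0) (w : Fin n → F)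
    (hw : (N ^ (n-1)) *ᵥ w ≠ 0) (c : Fin n → F) (hc : kry N w *ᵥ c = 0) : c = 0 := by
  rw [kry_mulVec] at hc
  have key : ∀ j : ℕ, ∀ hj : j < n, (∀ i : Fin n, (i:ℕ) < j → c i = 0) → c ⟨j, hj⟩ = 0 := by
    intro j hj hlt
    have h1 := congrArg (fun x => (N ^ (n - 1 - j)) *ᵥ x) hc
    simp only [Matrix.mulVec_sum, Matrix.mulVec_smul, Matrix.mulVec_mulVec, ← pow_add,
      Matrix.mulVec_zero] at h1
    rw [Finset.sum_eq_single ⟨j, hj⟩] at h1
    · have : n - 1 - j + j = n - 1 := by omega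
      simp only [this] at h1
      rcases smul_eq_zero.mp h1 with h | h
      · exact h
      · exact absurd h hw
    · intro i _ hne
      have hne' : (i : ℕ) ≠ j := fun h => hne (Fin.ext h)
      rcases lt_or_gt_of_ne hne' with h | h
      · rw [hlt i h, zero_smul]
      · have : N ^ (n - 1 - j + i) = 0 := by
          have : n - 1 - j + (i:ℕ) = n + (i - j - 1) := by
            have := i.2
            omega
          rw [this, pow_add, hnil, zero_mul]
        rw [this, Matrix.zero_mulVec, smul_zero]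
    · intro h; exact absurd (Finset.mem_univ _) h
  have all : ∀ j : ℕ, ∀ i : Fin n, (i : ℕ) = j → c i = 0 := by
    intro j
    induction j using Nat.strong_induction_on with
    | _ j ih =>
      intro i hi
      have := key j (hi ▸ i.2) (fun i' hi' => ih _ hi' i' rfl)
      convert this using 2
      exact Fin.ext hi
  funext i
  exact all _ i rfl

theorem kry_isUnit (N : Matrix (Fin n) (Fin n) F) (hnil : N ^ n = 0) (w : Fin n → F)
    (hw : (N ^ (n-1)) *ᵥ w ≠ 0) : IsUnit (kry N w) := by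
  rw [← Matrix.mulVec_injective_iff_isUnit]
  intro a b hab
  have h0 : kry N w *ᵥ (a - b) = 0 := by rw [Matrix.mulVec_sub, hab, sub_self]
  exact sub_eq_zero.mp (kry_ker N hnil w hw _ h0)

/-- Centraliser of a regular unipotent element in GL_n(q): if u is an invertible n × n matrix over the field with q elements, n ≥ 1, with (u − 1)^n = 0 and rank(u − 1) = n − 1 (a single unipotent Jordan block), then its centraliser in GL_n(q) has order (q − 1) q^(n−1). -/
theorem result {F : Type*} [Field F] [Fintype F] {q n : ℕ} (hF : Fintype.card F = q) (hn : 1 ≤ n) (u : GL (Fin n) F) (hnil : ((u : Matrix (Fin n) (Fin n) F) - 1) ^ n = 0) (hreg : ((u : Matrix (Fin n) (Fin n) F) - 1).rank = n - 1) : Nat.card ↥(Subgroup.centralizer ({u} : Set (GL (Fin n) F))) = (q - 1) * q ^ (n - 1) := by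
  classical
  obtain ⟨N, hN⟩ : ∃ N : Matrix (Fin n) (Fin n) F, N = (u : Matrix (Fin n) (Fin n) F) - 1 := ⟨_, rfl⟩
  rw [← hN] at hnil hreg
  obtain ⟨f, hf⟩ : ∃ f : End F (Fin n → F), f = Matrix.toLin' N := ⟨_, rfl⟩
  have hfin : finrank F (Fin n → F) = n := by simp
  have hker : finrank F (LinearMap.ker f) = 1 := by
    have h := LinearMap.finrank_range_add_finrank_ker f
    have hr : finrank F (LinearMap.range f) = n - 1 := by rw [hf]; exact hreg
    rw [hr, hfin] at h; omega
  have hg_eq : Matrix.toLin' (N ^ (n-1)) = f ^ (n-1) := by rw [hf]; exact Matrix.toLin'_pow _ _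
  have hfn : f ^ n = 0 := by rw [hf, ← Matrix.toLin'_pow, hnil]; simp
  have hkerg_le : finrank F (LinearMap.ker (f ^ (n-1))) ≤ n - 1 := by
    have := S2573.ker_pow_le f (n-1); rw [hker] at this; omega
  have hrange_le : LinearMap.range (f ^ (n-1)) ≤ LinearMap.ker f := by
    rintro _ ⟨x, rfl⟩
    rw [LinearMap.mem_ker, ← Module.End.mul_apply, ← pow_succ']
    have : n - 1 + 1 = n := by omega
    rw [this, hfn]; rfl
  have hkerg : finrank F (LinearMap.ker (f ^ (n-1))) = n - 1 := by
    have h := LinearMap.finrank_range_add_finrank_ker (f ^ (n-1))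
    have h1 := Submodule.finrank_mono hrange_le
    rw [hfin] at h; rw [hker] at h1; omega
  obtain ⟨v, hv⟩ : ∃ v, (N ^ (n-1)) *ᵥ v ≠ 0 := by
    by_contra hcon
    push Not at hcon
    have : LinearMap.ker (f ^ (n-1)) = ⊤ := by
      rw [eq_top_iff]; intro x _
      rw [LinearMap.mem_ker, ← hg_eq, Matrix.toLin'_apply]; exact hcon x
    rw [this, finrank_top, hfin] at hkerg_le; omega
  have hcomm : ∀ c : GL (Fin n) F, c ∈ Subgroup.centralizer ({u} : Set (GL (Fin n) F)) ↔
      (c : Matrix (Fin n) (Fin n) F) * N = N * (c : Matrix (Fin n) (Fin n) F) := by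
    intro c
    rw [Subgroup.mem_centralizer_iff]
    constructor
    · intro h
      have h1 := h u rfl
      have h2 : (u : Matrix (Fin n) (Fin n) F) * (c : Matrix (Fin n) (Fin n) F) = (c : Matrix (Fin n) (Fin n) F) * (u : Matrix (Fin n) (Fin n) F) := by
        have := congrArg (fun x : GL (Fin n) F => (x : Matrix (Fin n) (Fin n) F)) h1
        simpa using this
      rw [hN, mul_sub, sub_mul, mul_one, one_mul, h2]
    · intro h x hx
      rw [Set.mem_singleton_iff.mp hx]
      apply Units.ext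
      simp only [Units.val_mul]
      have : (u : Matrix (Fin n) (Fin n) F) = N + 1 := by rw [hN]; abel
      rw [this, add_mul, mul_add, h, one_mul, mul_one]
  let Φ : ↥(Subgroup.centralizer ({u} : Set (GL (Fin n) F))) →
      {w : Fin n → F // (N^(n-1)) *ᵥ w ≠ 0} :=
    fun c => ⟨(c.1 : Matrix (Fin n) (Fin n) F) *ᵥ v, by
      have hc := (hcomm c.1).mp c.2
      have hc' : (c.1 : Matrix (Fin n) (Fin n) F) * N ^ (n-1) = N ^ (n-1) * (c.1 : Matrix (Fin n) (Fin n) F) :=
        (Commute.pow_right hc _).eq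
      rw [Matrix.mulVec_mulVec, ← hc', ← Matrix.mulVec_mulVec]
      intro h0
      apply hv
      have := congrArg (fun x => ((c.1⁻¹ : GL (Fin n) F) : Matrix (Fin n) (Fin n) F) *ᵥ x) h0
      simpa [Matrix.mulVec_mulVec] using this⟩
  have hΦ : Function.Bijective Φ := by
    constructor
    · intro c c' h
      have h1 : (c.1 : Matrix (Fin n) (Fin n) F) *ᵥ v = (c'.1 : Matrix (Fin n) (Fin n) F) *ᵥ v := congrArg Subtype.val h
      have e1 := mul_kry N _ ((hcomm c.1).mp c.2) v
      have e2 := mul_kry N _ ((hcomm c'.1).mp c'.2) v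
      rw [h1, ← e2] at e1
      have := (kry_isUnit N hnil v hv).mul_left_injective e1
      exact Subtype.ext (Units.ext this)
    · rintro ⟨w, hw⟩
      obtain ⟨Pv, hPv⟩ := kry_isUnit N hnil v hv
      obtain ⟨a, ha⟩ : ∃ a, a = ((Pv⁻¹ : (Matrix (Fin n) (Fin n) F)ˣ) : Matrix (Fin n) (Fin n) F) *ᵥ w := ⟨_, rfl⟩
      obtain ⟨M, hM⟩ : ∃ M : Matrix (Fin n) (Fin n) F, M = ∑ i, a i • N ^ (i:ℕ) := ⟨_, rfl⟩
      have hMN : M * N = N * M := by
        rw [hM, Finset.sum_mul, Finset.mul_sum]
        apply Finset.sum_congr rfl; intro i _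
        rw [Matrix.smul_mul, Matrix.mul_smul, ← pow_succ, ← pow_succ']
      have hMv : M *ᵥ v = w := by
        rw [hM, Matrix.sum_mulVec]
        simp only [Matrix.smul_mulVec]
        rw [← kry_mulVec, ← hPv, ha, Matrix.mulVec_mulVec, Units.mul_inv, Matrix.one_mulVec]
      have hMP : M * kry N v = kry N w := by rw [mul_kry N M hMN v, hMv]
      have hMunit : IsUnit M := by
        have h1 : IsUnit (M * kry N v) := by rw [hMP]; exact kry_isUnit N hnil w hw
        rw [Matrix.isUnit_iff_isUnit_det, Matrix.det_mul] at h1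
        rw [Matrix.isUnit_iff_isUnit_det]
        exact isUnit_of_mul_isUnit_left h1
      refine ⟨⟨hMunit.unit, (hcomm _).mpr ?_⟩, ?_⟩
      · simpa using hMN
      · apply Subtype.ext
        simpa [Φ] using hMv
  rw [Nat.card_congr (Equiv.ofBijective Φ hΦ)]
  have hS : ∀ w : Fin n → F, (N^(n-1)) *ᵥ w ≠ 0 ↔ w ∉ LinearMap.ker (f ^ (n-1)) := by
    intro w; rw [LinearMap.mem_ker, ← hg_eq, Matrix.toLin'_apply]
  rw [Nat.card_congr (Equiv.subtypeEquivRight hS)]
  rw [Nat.card_eq_fintype_card, Fintype.card_subtype_compl]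
  have hcardK : Fintype.card (LinearMap.ker (f ^ (n-1))) = q ^ (n-1) := by
    rw [Module.card_eq_pow_finrank (K := F), hkerg, hF]
  have hcardV : Fintype.card (Fin n → F) = q ^ n := by simp [hF]
  have hcardK' : Fintype.card {x : Fin n → F // x ∈ LinearMap.ker (f ^ (n-1))} = q ^ (n-1) := by
    rw [← hcardK]
  rw [hcardV, hcardK']
  obtain ⟨k, rfl⟩ : ∃ k, n = k + 1 := ⟨n - 1, by omega⟩
  simp only [Nat.add_sub_cancel]
  rw [pow_succ, Nat.sub_mul, one_mul, mul_comm]

end Cfsg.Agent.S2571
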