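import Cfsg.Statements.S2578
-- import your own Cfsg.Agent.* helpers here
import Cfsg.Agent.S2571

set_option autoImplicit false
open Cfsg

namespace Cfsg.Agent.S2578

open Matrix Module

variable {F : Type*} [Field F] {n : ℕ}

/-- Lower shift matrix. -/
def shift (n : ℕ) (F : Type*) [Field F] : Matrix (Fin n) (Fin n) F :=
  Matrix.of fun r s => if (r:ℕ) = (s:ℕ) + 1 then 1 else 0

theorem mul_shift (c : Matrix (Fin n) (Fin n) F) (r s : Fin n) :
    (c * shift n F) r s = if h : (s:ℕ) + 1 < n then c r ⟨s+1, h⟩ else 0 := by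
  rw [Matrix.mul_apply]
  split_ifs with h
  · rw [Finset.sum_eq_single ⟨s+1, h⟩]
    · simp [shift]
    · intro k _ hk
      have : (k:ℕ) ≠ s + 1 := fun e => hk (Fin.ext e)
      simp [shift, this]
    · intro h'; exact absurd (Finset.mem_univ _) h'
  · apply Finset.sum_eq_zero
    intro k _
    have : (k:ℕ) ≠ s + 1 := by have := k.2; omega
    simp [shift, this]

theorem shift_mul (c : Matrix (Fin n) (Fin n) F) (r s : Fin n) :
    (shift n F * c) r s = if h : 0 < (r:ℕ) then c ⟨r - 1, by omega⟩ s else 0 := by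
  rw [Matrix.mul_apply]
  split_ifs with h
  · rw [Finset.sum_eq_single ⟨r-1, by omega⟩]
    · have : (r:ℕ) = r - 1 + 1 := by omega
      simp [shift, ← this]
    · intro k _ hk
      have : (r:ℕ) ≠ k + 1 := fun e => hk (Fin.ext (by simp; omega))
      simp [shift, this]
    · intro h'; exact absurd (Finset.mem_univ _) h'
  · apply Finset.sum_eq_zero
    intro k _
    have : (r:ℕ) ≠ k + 1 := by omega
    simp [shift, this]

theorem comm_shift_entry (c : Matrix (Fin n) (Fin n) F) (hc : c * shift n F = shift n F * c)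
    (r s : ℕ) (hr : r + 1 < n) (hs : s + 1 < n) :
    c ⟨r+1, hr⟩ ⟨s+1, hs⟩ = c ⟨r, by omega⟩ ⟨s, by omega⟩ := by
  have := congrFun (congrFun hc ⟨r+1,hr⟩) ⟨s, by omega⟩
  rw [mul_shift, shift_mul] at this
  simpa [hs] using this

theorem comm_shift_row0 (c : Matrix (Fin n) (Fin n) F) (hc : c * shift n F = shift n F * c)
    (s : ℕ) (hs : s + 1 < n) : c ⟨0, by omega⟩ ⟨s+1, hs⟩ = 0 := by
  have := congrFun (congrFun hc ⟨0, by omega⟩) ⟨s, by omega⟩
  rw [mul_shift, shift_mul] at this
  simpa [hs] using this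

theorem comm_shift_upper (c : Matrix (Fin n) (Fin n) F) (hc : c * shift n F = shift n F * c) :
    ∀ (r s : ℕ) (hr : r < n) (hs : s < n), r < s → c ⟨r,hr⟩ ⟨s,hs⟩ = 0 := by
  intro r
  induction r with
  | zero =>
    intro s hr hs hlt
    obtain ⟨s', rfl⟩ : ∃ s', s = s'+1 := ⟨s-1, by omega⟩
    exact comm_shift_row0 c hc s' hs
  | succ r ih =>
    intro s hr hs hlt
    obtain ⟨s', rfl⟩ : ∃ s', s = s'+1 := ⟨s-1, by omega⟩
    rw [comm_shift_entry c hc r s' hr hs]
    exact ih s' _ _ (by omega)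

theorem comm_shift_diag (c : Matrix (Fin n) (Fin n) F) (hc : c * shift n F = shift n F * c)
    (hn : 0 < n) :
    ∀ (r : ℕ) (hr : r < n), c ⟨r,hr⟩ ⟨r,hr⟩ = c ⟨0, hn⟩ ⟨0, hn⟩ := by
  intro r
  induction r with
  | zero => intro hr; rfl
  | succ r ih =>
    intro hr
    rw [comm_shift_entry c hc r r hr hr]
    exact ih _

theorem det_comm_shift (c : Matrix (Fin n) (Fin n) F) (hc : c * shift n F = shift n F * c)
    (hn : 0 < n) : c.det = (c ⟨0,hn⟩ ⟨0,hn⟩)^n := by
  rw [Matrix.det_of_isLowerTriangular c ?_]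
  · rw [Finset.prod_congr rfl (fun (i : Fin n) _ => comm_shift_diag c hc hn (i:ℕ) i.2),
      Finset.prod_const, Finset.card_univ, Fintype.card_fin]
  · intro i j hij
    exact comm_shift_upper c hc i j i.2 j.2 (by simpa using hij)

theorem mul_kry_shift (N : Matrix (Fin n) (Fin n) F) (hnil : N^n = 0) (v : Fin n → F) :
    N * S2571.kry N v = S2571.kry N v * shift n F := by
  ext r i
  rw [mul_shift]
  have h1 : (N * S2571.kry N v) r i = ((N ^ ((i:ℕ)+1)) *ᵥ v) r := by
    rw [pow_succ', ← Matrix.mulVec_mulVec]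
    simp [S2571.kry, Matrix.mul_apply, Matrix.mulVec, dotProduct]
  rw [h1]
  split_ifs with h
  · simp [S2571.kry]
  · have : (i:ℕ)+1 = n := by have := i.2; omega
    rw [this, hnil]; simp

theorem shift_pow (s : ℕ) (r c : Fin n) :
    ((shift n F) ^ s) r c = if (r:ℕ) = (c:ℕ) + s then 1 else 0 := by
  induction s generalizing r c with
  | zero => simp [Matrix.one_apply, Fin.ext_iff]
  | succ s ih =>
    rw [pow_succ, mul_shift]
    split_ifs with h h1 h2
    · rw [ih]; simp; omega
    · rw [ih]; simp; omega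
    · have := r.2; omega
    · rfl

theorem shift_pow_n : (shift n F) ^ n = 0 := by
  ext r c
  rw [shift_pow]
  have := r.2
  simp; omega

theorem shift_transpose_mul_shift [DecidableEq F] :
    (shift n F)ᵀ * shift n F = Matrix.diagonal (fun i : Fin n => if (i:ℕ) + 1 < n then (1:F) else 0) := by
  ext r s
  rw [mul_shift]
  by_cases hrs : r = s
  · subst hrs
    rw [Matrix.diagonal_apply_eq]
    split_ifs with h
    · simp [shift]
    · rfl
  · rw [Matrix.diagonal_apply_ne _ hrs]
    split_ifs with h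
    · have : (s:ℕ) ≠ r := fun e => hrs (Fin.ext e.symm)
      simp [shift, this]
    · rfl

theorem shift_mul_diag [DecidableEq F] :
    shift n F * Matrix.diagonal (fun i : Fin n => if (i:ℕ) + 1 < n then (1:F) else 0) = shift n F := by
  ext r s
  rw [Matrix.mul_diagonal]
  split_ifs with h
  · rw [mul_one]
  · have : (r:ℕ) ≠ s + 1 := by have := r.2; omega
    simp [shift, this]

theorem card_diag (k : ℕ) [DecidableEq F] :
    Fintype.card {i : Fin (k+1) // (if (i:ℕ) + 1 < k + 1 then (1:F) else 0) ≠ 0} = k := by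
  have e : {i : Fin (k+1) // (if (i:ℕ) + 1 < k + 1 then (1:F) else 0) ≠ 0} ≃
      {i : Fin (k+1) // i ≠ Fin.last k} := by
    apply Equiv.subtypeEquivRight
    intro i
    simp only [ne_eq, Fin.ext_iff, Fin.val_last]
    split_ifs with h
    · simp; omega
    · simp; omega
  rw [Fintype.card_congr e, ← Fintype.card_congr (finSuccAboveEquiv (Fin.last k)), Fintype.card_fin]

theorem shift_rank (hn : 1 ≤ n) : (shift n F).rank = n - 1 := by
  classical
  obtain ⟨k, rfl⟩ : ∃ k, n = k + 1 := ⟨n - 1, by omega⟩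
  have hd : (Matrix.diagonal (fun i : Fin (k+1) => if (i:ℕ) + 1 < k+1 then (1:F) else 0)).rank = k := by
    rw [Matrix.rank_diagonal, card_diag]
  apply le_antisymm
  · have h := Matrix.rank_mul_le_right (shift (k+1) F)
      (Matrix.diagonal (fun i : Fin (k+1) => if (i:ℕ) + 1 < k+1 then (1:F) else 0))
    rw [shift_mul_diag, hd] at h
    simpa using h
  · have h := Matrix.rank_mul_le_right (shift (k+1) F)ᵀ (shift (k+1) F)
    rw [shift_transpose_mul_shift, hd] at h
    simpa using h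

theorem exists_cyclic (N : Matrix (Fin n) (Fin n) F) (hn : 1 ≤ n)
    (hreg : N.rank = n - 1) : ∃ v, (N ^ (n-1)) *ᵥ v ≠ 0 := by
  obtain ⟨f, hf⟩ : ∃ f : End F (Fin n → F), f = Matrix.toLin' N := ⟨_, rfl⟩
  have hfin : finrank F (Fin n → F) = n := by simp
  have hker : finrank F (LinearMap.ker f) = 1 := by
    have h := LinearMap.finrank_range_add_finrank_ker f
    have hr : finrank F (LinearMap.range f) = n - 1 := by rw [hf]; exact hreg
    rw [hr, hfin] at h; omega
  have hg_eq : Matrix.toLin' (N ^ (n-1)) = f ^ (n-1) := by rw [hf]; exact Matrix.toLin'_pow _ _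
  have hkerg_le : finrank F (LinearMap.ker (f ^ (n-1))) ≤ n - 1 := by
    have := S2573.ker_pow_le f (n-1); rw [hker] at this; omega
  by_contra hcon
  push Not at hcon
  have : LinearMap.ker (f ^ (n-1)) = ⊤ := by
    rw [eq_top_iff]; intro x _
    rw [LinearMap.mem_ker, ← hg_eq, Matrix.toLin'_apply]; exact hcon x
  rw [this, finrank_top, hfin] at hkerg_le; omega

/-- Regular unipotent condition on a matrix. -/
def RU (A : Matrix (Fin n) (Fin n) F) : Prop := (A - 1) ^ n = 0 ∧ (A - 1).rank = n - 1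

theorem RU_conj (g : GL (Fin n) F) (A : Matrix (Fin n) (Fin n) F) (h : RU A) :
    RU ((g : Matrix (Fin n) (Fin n) F) * A * ((g⁻¹ : GL (Fin n) F) : Matrix (Fin n) (Fin n) F)) := by
  have e : (g : Matrix (Fin n) (Fin n) F) * A * ((g⁻¹ : GL (Fin n) F) : Matrix (Fin n) (Fin n) F) - 1
      = (g : Matrix (Fin n) (Fin n) F) * (A - 1) * ((g⁻¹ : GL (Fin n) F) : Matrix (Fin n) (Fin n) F) := by
    rw [mul_sub, sub_mul, mul_one, Units.mul_inv]
  unfold RU
  rw [e]
  constructor
  · rw [Units.conj_pow, h.1, mul_zero, zero_mul]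
  · rw [Matrix.rank_mul_eq_left_of_isUnit_det, Matrix.rank_mul_eq_right_of_isUnit_det, h.2]
    · exact (Matrix.isUnit_iff_isUnit_det _).mp g.isUnit
    · exact (Matrix.isUnit_iff_isUnit_det _).mp (g⁻¹).isUnit

theorem RU_one_add_shift (hn : 1 ≤ n) : RU (1 + shift n F) := by
  unfold RU
  rw [add_sub_cancel_left]
  exact ⟨shift_pow_n, shift_rank hn⟩

theorem det_one_add_shift (hn : 1 ≤ n) : (1 + shift n F).det = 1 := by
  have hc : (1 + shift n F) * shift n F = shift n F * (1 + shift n F) := by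
    rw [add_mul, mul_add, one_mul, mul_one]
  rw [det_comm_shift _ hc (by omega)]
  simp [shift]

/-- Every regular unipotent matrix is GL-conjugate to `1 + shift`. -/
theorem exists_conj (hn : 1 ≤ n) (A : Matrix (Fin n) (Fin n) F) (h : RU A) :
    ∃ g : GL (Fin n) F, (g : Matrix (Fin n) (Fin n) F) * (1 + shift n F) *
      ((g⁻¹ : GL (Fin n) F) : Matrix (Fin n) (Fin n) F) = A := by
  obtain ⟨v, hv⟩ := exists_cyclic (A - 1) hn h.2
  obtain ⟨g, hg⟩ := S2571.kry_isUnit (A - 1) h.1 v hv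
  refine ⟨g, ?_⟩
  have h1 := mul_kry_shift (A - 1) h.1 v
  rw [← hg] at h1
  have h2 : (g : Matrix (Fin n) (Fin n) F) * (1 + shift n F) = A * (g : Matrix (Fin n) (Fin n) F) := by
    rw [mul_add, mul_one, ← h1, sub_mul, one_mul]; abel
  rw [h2, mul_assoc, Units.mul_inv, mul_one]

/-- Conjugation of an SL element by a GL element. -/
def conjSL (g : GL (Fin n) F) (u : SpecialLinearGroup (Fin n) F) : SpecialLinearGroup (Fin n) F :=
  ⟨(g : Matrix (Fin n) (Fin n) F) * (u : Matrix (Fin n) (Fin n) F) *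
    ((g⁻¹ : GL (Fin n) F) : Matrix (Fin n) (Fin n) F), by
    rw [Matrix.det_units_conj]; exact u.2⟩

theorem toGL_conjSL (g : GL (Fin n) F) (u : SpecialLinearGroup (Fin n) F) :
    SpecialLinearGroup.toGL (conjSL g u) = g * SpecialLinearGroup.toGL u * g⁻¹ := by
  apply Units.ext; rfl

/-- The standard regular unipotent element. -/
def u0 (hn : 1 ≤ n) : SpecialLinearGroup (Fin n) F := ⟨1 + shift n F, det_one_add_shift hn⟩

theorem det_of_commute (hn : 1 ≤ n) (c : GL (Fin n) F)
    (hc : c * SpecialLinearGroup.toGL (u0 (F := F) hn) = SpecialLinearGroup.toGL (u0 hn) * c) :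
    ∃ a : Fˣ, GeneralLinearGroup.det c = a ^ n := by
  have h1 : (c : Matrix (Fin n) (Fin n) F) * (1 + shift n F) = (1 + shift n F) * (c : Matrix (Fin n) (Fin n) F) := by
    have := congrArg (fun x : GL (Fin n) F => (x : Matrix (Fin n) (Fin n) F)) hc
    exact this
  have h2 : (c : Matrix (Fin n) (Fin n) F) * shift n F = shift n F * (c : Matrix (Fin n) (Fin n) F) := by
    rw [mul_add, add_mul, mul_one, one_mul] at h1
    exact add_left_cancel h1
  have h3 := det_comm_shift _ h2 (by omega)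
  have h4 : (c : Matrix (Fin n) (Fin n) F).det ≠ 0 := GeneralLinearGroup.det_ne_zero c
  have h5 : (c : Matrix (Fin n) (Fin n) F) ⟨0, by omega⟩ ⟨0, by omega⟩ ≠ 0 := by
    intro h0
    rw [h3, h0, zero_pow (by omega)] at h4
    exact h4 rfl
  refine ⟨Units.mk0 _ h5, ?_⟩
  apply Units.ext
  rw [GeneralLinearGroup.val_det_apply, h3]
  simp

/-- Regular unipotent classes of SL_n(q): for n ≥ 2 over the field with q elements, the matrices u of determinant one with (u − 1)^n = 0 and rank(u − 1) = n − 1 form a single GL_n(q)-class which splits into exactly gcd(n, q − 1) conjugacy classes of SL_n(q). -/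
theorem result {F : Type*} [Field F] [Fintype F] {q : ℕ} (hF : Fintype.card F = q) {n : ℕ} (hn : 2 ≤ n) : Nat.card {C : ConjClasses (Matrix.SpecialLinearGroup (Fin n) F) // ∃ u : Matrix.SpecialLinearGroup (Fin n) F, ConjClasses.mk u = C ∧ ((u : Matrix (Fin n) (Fin n) F) - 1) ^ n = 0 ∧ ((u : Matrix (Fin n) (Fin n) F) - 1).rank = n - 1} = Nat.gcd n (q - 1) := by
  classical
  have hn1 : 1 ≤ n := by omega
  have : Nonempty (Fin n) := ⟨⟨0, by omega⟩⟩
  obtain ⟨x0, hx0⟩ : ∃ x0 : GL (Fin n) F, x0 = SpecialLinearGroup.toGL (u0 (F := F) hn1) := ⟨_, rfl⟩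
  let H : Subgroup Fˣ := (powMonoidHom n : Fˣ →* Fˣ).range
  let K : Subgroup (GL (Fin n) F) := H.comap Matrix.GeneralLinearGroup.det
  let Θ : GL (Fin n) F → {C : ConjClasses (Matrix.SpecialLinearGroup (Fin n) F) // ∃ u : Matrix.SpecialLinearGroup (Fin n) F, ConjClasses.mk u = C ∧ ((u : Matrix (Fin n) (Fin n) F) - 1) ^ n = 0 ∧ ((u : Matrix (Fin n) (Fin n) F) - 1).rank = n - 1} :=
    fun g => ⟨ConjClasses.mk (conjSL g (u0 hn1)), conjSL g (u0 hn1), rfl,
      RU_conj g _ (RU_one_add_shift hn1)⟩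
  have hsurj : Function.Surjective Θ := by
    rintro ⟨C, u, rfl, hu⟩
    obtain ⟨g, hg⟩ := exists_conj hn1 (u : Matrix (Fin n) (Fin n) F) hu
    refine ⟨g, Subtype.ext ?_⟩
    show ConjClasses.mk (conjSL g (u0 hn1)) = ConjClasses.mk u
    congr 1
    exact Subtype.ext hg
  have hker : Setoid.ker Θ = QuotientGroup.leftRel K := by
    ext g g'
    rw [Setoid.ker_def, QuotientGroup.leftRel_apply]
    show Θ g = Θ g' ↔ GeneralLinearGroup.det (g⁻¹ * g') ∈ H
    constructor
    · intro h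
      have h1 : ConjClasses.mk (conjSL g (u0 hn1)) = ConjClasses.mk (conjSL g' (u0 hn1)) :=
        congrArg Subtype.val h
      obtain ⟨s, hs⟩ := isConj_iff.mp (ConjClasses.mk_eq_mk_iff_isConj.mp h1)
      have h2 := congrArg SpecialLinearGroup.toGL hs
      rw [map_mul, map_mul, map_inv, toGL_conjSL, toGL_conjSL, ← hx0] at h2
      obtain ⟨c, hc⟩ : ∃ c : GL (Fin n) F, c = g'⁻¹ * SpecialLinearGroup.toGL s * g := ⟨_, rfl⟩
      have h3 : c * x0 * c⁻¹ = x0 := by
        have : c * x0 * c⁻¹ = g'⁻¹ * (SpecialLinearGroup.toGL s * (g * x0 * g⁻¹) *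
            (SpecialLinearGroup.toGL s)⁻¹) * g' := by rw [hc]; group
        rw [this, h2]; group
      have h4 : c * x0 = x0 * c := mul_inv_eq_iff_eq_mul.mp h3
      rw [hx0] at h4
      obtain ⟨a, ha⟩ := det_of_commute hn1 c h4
      have hdet_s : GeneralLinearGroup.det (SpecialLinearGroup.toGL s) = 1 := by
        apply Units.ext
        rw [GeneralLinearGroup.val_det_apply]
        exact s.2
      refine ⟨a⁻¹, ?_⟩
      rw [powMonoidHom_apply, inv_pow, ← ha, hc, map_mul, map_mul, map_mul, map_inv, map_inv,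
        hdet_s, mul_one, _root_.mul_inv_rev, inv_inv, mul_comm]
    · rintro ⟨a, ha⟩
      rw [powMonoidHom_apply] at ha
      obtain ⟨z, hz⟩ : ∃ z : GL (Fin n) F, z = GeneralLinearGroup.scalar (Fin n) a := ⟨_, rfl⟩
      have hzdet : GeneralLinearGroup.det z = a ^ n := by
        rw [hz, GeneralLinearGroup.det_scalar, Fintype.card_fin]
      have hzc : z⁻¹ * x0 * z = x0 := by
        have := GeneralLinearGroup.scalar_commute (n := Fin n) a x0
        rw [← hz] at this
        rw [mul_assoc, ← this, inv_mul_cancel_left]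
      obtain ⟨sG, hsG⟩ : ∃ sG : GL (Fin n) F, sG = g' * z⁻¹ * g⁻¹ := ⟨_, rfl⟩
      have hsdet : (sG : Matrix (Fin n) (Fin n) F).det = 1 := by
        rw [← GeneralLinearGroup.val_det_apply, hsG, map_mul, map_mul, map_inv, map_inv, hzdet, ha,
          map_mul, map_inv]
        have : GeneralLinearGroup.det g' * ((GeneralLinearGroup.det g)⁻¹ * GeneralLinearGroup.det g')⁻¹ *
            (GeneralLinearGroup.det g)⁻¹ = 1 := by
          rw [_root_.mul_inv_rev, inv_inv, mul_inv_cancel_left, mul_inv_cancel]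
        rw [this]; rfl
      obtain ⟨s, hs⟩ : ∃ s : SpecialLinearGroup (Fin n) F, SpecialLinearGroup.toGL s = sG :=
        ⟨⟨(sG : Matrix (Fin n) (Fin n) F), hsdet⟩, Units.ext rfl⟩
      apply Subtype.ext
      show ConjClasses.mk (conjSL g (u0 hn1)) = ConjClasses.mk (conjSL g' (u0 hn1))
      rw [ConjClasses.mk_eq_mk_iff_isConj, isConj_iff]
      refine ⟨s, ?_⟩
      apply SpecialLinearGroup.toGL_injective
      rw [map_mul, map_mul, map_inv, toGL_conjSL, toGL_conjSL, ← hx0, hs, hsG]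
      have : g' * z⁻¹ * g⁻¹ * (g * x0 * g⁻¹) * (g' * z⁻¹ * g⁻¹)⁻¹ = g' * (z⁻¹ * x0 * z) * g'⁻¹ := by
        group
      rw [this, hzc]
  have h1 : Nat.card {C : ConjClasses (Matrix.SpecialLinearGroup (Fin n) F) // ∃ u : Matrix.SpecialLinearGroup (Fin n) F, ConjClasses.mk u = C ∧ ((u : Matrix (Fin n) (Fin n) F) - 1) ^ n = 0 ∧ ((u : Matrix (Fin n) (Fin n) F) - 1).rank = n - 1} = K.index := by
    rw [← Nat.card_congr (Setoid.quotientKerEquivOfSurjective Θ hsurj), hker]; rfl
  rw [h1, Subgroup.index_comap_of_surjective _ Matrix.GeneralLinearGroup.det_surjective,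
    IsCyclic.index_powMonoidHom_range, Nat.card_eq_fintype_card, Fintype.card_units, hF, Nat.gcd_comm]

end Cfsg.Agent.S2578
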