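import Cfsg.Statements.S2643
-- import your own Cfsg.Agent.* helpers here
import Cfsg.Agent.Lib.Helper14.Unitary3
import Cfsg.Agent.Lib.Helper15.SkewNil

set_option autoImplicit false
open Cfsg

namespace Cfsg.Agent.S2643

open Matrix Cfsg.Agent.Lib.Helper14 Cfsg.Agent.Lib.Helper15

section frob

variable {K : Type*} [Field K] [Fintype K] {q n : ℕ}

/-- the Frobenius involution as a star structure -/
@[reducible] def frobStar (hK : Fintype.card K = q ^ 2) : StarRing K where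
  star := fun x => x ^ q
  star_involutive := fun x => by
    classical
    show (x ^ q) ^ q = x
    rw [← pow_mul, ← sq, herm_pow_card hK]
  star_mul := fun x y => by
    show (x * y) ^ q = y ^ q * x ^ q
    rw [mul_pow, mul_comm]
  star_add := fun x y => by
    classical
    exact herm_add_pow hK x y

lemma exists_not_fixed (hK : Fintype.card K = q ^ 2) : ∃ x : K, x ^ q ≠ x := by
  classical
  by_contra hcon
  push Not at hcon
  have h1 := fixStar_card hK
  have h2 : fixStar K q = Finset.univ.erase 0 := by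
    ext c
    rw [mem_fixStar, Finset.mem_erase]
    simp [hcon c]
  rw [h2, Finset.card_erase_of_mem (Finset.mem_univ _), Finset.card_univ, hK] at h1
  have hq := herm_two_le hK
  have h3 : q ^ 2 ≥ 2 * q := by nlinarith
  omega

lemma frob_T (hK : Fintype.card K = q ^ 2) : ∃ d : K, d + d ^ q ≠ 0 := by
  by_contra hcon
  push Not at hcon
  have h1 := hcon 1
  rw [one_pow] at h1
  obtain ⟨x, hx⟩ := exists_not_fixed hK
  apply hx
  have h2 : x + x = 0 := by
    calc x + x = x * (1 + 1) := by ring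
      _ = 0 := by rw [h1, mul_zero]
  have h3 := hcon x
  exact (add_left_cancel (h3.trans h2.symm))

lemma frob_S (hK : Fintype.card K = q ^ 2) : ∃ τ : K, τ ≠ 0 ∧ τ ^ q = -τ := by
  classical
  obtain ⟨x, hx⟩ := exists_not_fixed hK
  refine ⟨x - x ^ q, sub_ne_zero.2 (Ne.symm hx), ?_⟩
  rw [herm_sub_pow hK, ← pow_mul, ← sq, herm_pow_card hK, neg_sub]

lemma frob_N (hK : Fintype.card K = q ^ 2) :
    ∀ x : K, x ^ q = x → x ≠ 0 → ∃ r : K, r ^ q * r = x := by
  classical
  intro x hx hx0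
  have h1 := normFiber_of_mem hK x (mem_fixStar.2 ⟨hx0, hx⟩)
  unfold normFiber at h1
  have h2 : 0 < (Finset.univ.filter (fun w : K => w * w ^ q = x)).card := by rw [h1]; omega
  obtain ⟨w, hw⟩ := Finset.card_pos.1 h2
  rw [Finset.mem_filter] at hw
  exact ⟨w, by rw [mul_comm]; exact hw.2⟩

/-- unitarity as a matrix equation -/
lemma isUni_iff (hK : Fintype.card K = q ^ 2) (M : Matrix (Fin n) (Fin n) K) :
    IsUni K q n M ↔ (Mᵀ.map (fun x => x ^ q)) * M = 1 := by
  classical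
  constructor
  · intro h
    have hO : OrthoN K q n n (fun j i => M i j) := by
      intro j l
      have := h (Pi.single j 1) (Pi.single l 1)
      rw [hermForm_single hK, Matrix.mulVec_single_one, Matrix.mulVec_single_one] at this
      exact this
    have h1 := transpose_mul_map_of_orthoN M hO
    have h2 := congrArg Matrix.transpose h1
    rw [Matrix.transpose_mul, Matrix.transpose_transpose, Matrix.transpose_one,
      ← Matrix.transpose_map] at h2
    exact h2
  · intro h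
    have h2 := congrArg Matrix.transpose h
    rw [Matrix.transpose_mul, Matrix.transpose_one, ← Matrix.transpose_map,
      Matrix.transpose_transpose] at h2
    have hO : OrthoN K q n n (fun j i => M i j) := by
      intro j l
      have h3 := congrFun (congrFun h2 j) l
      rw [Matrix.mul_apply, Matrix.one_apply] at h3
      unfold Cfsg.hermForm
      rw [← h3]
      rfl
    intro u v
    exact hermForm_mulVec_of_orthoN hK M hO u v

end frob

section count

variable {K : Type*} [Field K] [Fintype K] {q n : ℕ}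

/-- the embedding of `SU` in `GL` -/
def suToGL (n : ℕ) (K : Type*) [Field K] (q : ℕ) : ↥(Cfsg.SU n K q) →* GL (Fin n) K :=
  SpecialLinearGroup.toGL.comp (Cfsg.SU n K q).subtype

lemma suToGL_mem (s : ↥(Cfsg.SU n K q)) : suToGL n K q s ∈ Cfsg.GU n K q := by
  classical
  rw [mem_GU_iff]
  exact (mem_SU_iff s.1).1 s.2

omit [Fintype K] in
lemma suToGL_injective : Function.Injective (suToGL n K q) := by
  intro a b h
  apply Subtype.ext
  apply SpecialLinearGroup.toGL_injective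
  exact h

/-- conjugation of an `SU` element by a `GU` element -/
def conjSU (g : ↥(Cfsg.GU n K q)) (u : ↥(Cfsg.SU n K q)) : ↥(Cfsg.SU n K q) :=
  ⟨S2578.conjSL g.1 u.1, by
    classical
    rw [mem_SU_iff]
    have hg : IsUni K q n (g.1 : Matrix (Fin n) (Fin n) K) := (mem_GU_iff g.1).1 g.2
    have hgi : IsUni K q n ((g.1⁻¹ : GL (Fin n) K) : Matrix (Fin n) (Fin n) K) :=
      (mem_GU_iff _).1 ((Cfsg.GU n K q).inv_mem g.2)
    have hu : IsUni K q n (u.1 : Matrix (Fin n) (Fin n) K) := (mem_SU_iff u.1).1 u.2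
    exact (hg.mul hu).mul hgi⟩

lemma suToGL_conjSU (g : ↥(Cfsg.GU n K q)) (u : ↥(Cfsg.SU n K q)) :
    suToGL n K q (conjSU g u) = g.1 * suToGL n K q u * g.1⁻¹ := by
  apply Units.ext
  rfl

lemma ru_conjSU (g : ↥(Cfsg.GU n K q)) (u : ↥(Cfsg.SU n K q))
    (h : (((u : GL (Fin n) K) : Matrix (Fin n) (Fin n) K) - 1) ^ n = 0 ∧
      (((u : GL (Fin n) K) : Matrix (Fin n) (Fin n) K) - 1).rank = n - 1) :
    ((((conjSU g u : ↥(Cfsg.SU n K q)) : GL (Fin n) K) : Matrix (Fin n) (Fin n) K) - 1) ^ n = 0 ∧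
      ((((conjSU g u : ↥(Cfsg.SU n K q)) : GL (Fin n) K) : Matrix (Fin n) (Fin n) K) - 1).rank = n - 1 :=
  S2578.RU_conj g.1 _ h

theorem count_of_std (hK : Fintype.card K = q ^ 2) (hn : 2 ≤ n) (U₀ : Matrix (Fin n) (Fin n) K)
    (h1 : IsUni K q n U₀) (h2 : (U₀ - 1) ^ n = 0) (h3 : (U₀ - 1).rank = n - 1)
    (hconj : ∀ u : Matrix (Fin n) (Fin n) K, IsUni K q n u → (u - 1) ^ n = 0 →
      (u - 1).rank = n - 1 → ∃ g : Matrix (Fin n) (Fin n) K, IsUni K q n g ∧ g * U₀ = u * g)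
    (hcent : ∀ c : Matrix (Fin n) (Fin n) K, IsUni K q n c → c * U₀ = U₀ * c →
      ∃ f : K, f ^ q * f = 1 ∧ c.det = f ^ n) :
    Nat.card {C : ConjClasses ↥(Cfsg.SU n K q) // ∃ u : ↥(Cfsg.SU n K q), ConjClasses.mk u = C ∧ (((u : GL (Fin n) K) : Matrix (Fin n) (Fin n) K) - 1) ^ n = 0 ∧ (((u : GL (Fin n) K) : Matrix (Fin n) (Fin n) K) - 1).rank = n - 1} = Nat.gcd n (q + 1) := by
  classical
  have hn1 : 1 ≤ n := by omega
  have hdet0 : U₀.det = 1 := by
    have := SkewNil.det_smul_one_add_nilpotent (1 : K) (U₀ - 1) ⟨n, h2⟩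
    rwa [one_smul, add_sub_cancel, one_pow] at this
  obtain ⟨u0, hu0⟩ : ∃ u0 : ↥(Cfsg.SU n K q),
      ((suToGL n K q u0 : GL (Fin n) K) : Matrix (Fin n) (Fin n) K) = U₀ :=
    ⟨⟨⟨U₀, hdet0⟩, (mem_SU_iff _).2 h1⟩, rfl⟩
  obtain ⟨x0, hx0⟩ : ∃ x0 : GL (Fin n) K, x0 = suToGL n K q u0 := ⟨_, rfl⟩
  have hx0v : (x0 : Matrix (Fin n) (Fin n) K) = U₀ := by rw [hx0]; exact hu0
  have hru0 : (((u0 : GL (Fin n) K) : Matrix (Fin n) (Fin n) K) - 1) ^ n = 0 ∧
      (((u0 : GL (Fin n) K) : Matrix (Fin n) (Fin n) K) - 1).rank = n - 1 := by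
    have e : ((u0 : GL (Fin n) K) : Matrix (Fin n) (Fin n) K) = U₀ := hu0
    rw [e]
    exact ⟨h2, h3⟩
  let detN : ↥(Cfsg.GU n K q) →* ↥(normOne K q) :=
    (detGU K q n).codRestrict (normOne K q) (fun g => detGU_range_le hK ⟨g, rfl⟩)
  have hdetN_surj : Function.Surjective detN := by
    rintro ⟨l, hl⟩
    have hle : normOne K q ≤ (detGU K q n).range := by
      obtain ⟨m, rfl⟩ : ∃ m, n = m + 1 := ⟨n - 1, by omega⟩
      exact normOne_le_detGU_range hK m
    obtain ⟨g, hg⟩ := hle hl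
    exact ⟨g, Subtype.ext hg⟩
  let H : Subgroup ↥(normOne K q) := (powMonoidHom n : ↥(normOne K q) →* ↥(normOne K q)).range
  let Kk : Subgroup ↥(Cfsg.GU n K q) := H.comap detN
  let Θ : ↥(Cfsg.GU n K q) → {C : ConjClasses ↥(Cfsg.SU n K q) // ∃ u : ↥(Cfsg.SU n K q), ConjClasses.mk u = C ∧ (((u : GL (Fin n) K) : Matrix (Fin n) (Fin n) K) - 1) ^ n = 0 ∧ (((u : GL (Fin n) K) : Matrix (Fin n) (Fin n) K) - 1).rank = n - 1} :=
    fun g => ⟨ConjClasses.mk (conjSU g u0), conjSU g u0, rfl, ru_conjSU g u0 hru0⟩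
  have hsurj : Function.Surjective Θ := by
    rintro ⟨C, u, rfl, hu⟩
    have huU : IsUni K q n ((suToGL n K q u : GL (Fin n) K) : Matrix (Fin n) (Fin n) K) :=
      (mem_GU_iff _).1 (suToGL_mem u)
    obtain ⟨g, hgU, hg⟩ := hconj _ huU hu.1 hu.2
    have hgdet : g.det ≠ 0 := (Matrix.isUnit_det_of_left_inverse ((isUni_iff hK g).1 hgU)).ne_zero
    obtain ⟨gG, hgG⟩ : ∃ gG : GL (Fin n) K, (gG : Matrix (Fin n) (Fin n) K) = g :=
      ⟨Matrix.GeneralLinearGroup.mkOfDetNeZero g hgdet, rfl⟩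
    have hgGmem : gG ∈ Cfsg.GU n K q := by
      rw [mem_GU_iff, hgG]
      exact hgU
    refine ⟨⟨gG, hgGmem⟩, Subtype.ext ?_⟩
    show ConjClasses.mk (conjSU ⟨gG, hgGmem⟩ u0) = ConjClasses.mk u
    congr 1
    apply suToGL_injective
    rw [suToGL_conjSU, ← hx0, mul_inv_eq_iff_eq_mul]
    apply Units.ext
    rw [Units.val_mul, Units.val_mul, hgG, hx0v]
    exact hg
  have hker : Setoid.ker Θ = QuotientGroup.leftRel Kk := by
    ext g g'
    rw [Setoid.ker_def, QuotientGroup.leftRel_apply]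
    show Θ g = Θ g' ↔ detN (g⁻¹ * g') ∈ H
    constructor
    · intro h
      have h1' : ConjClasses.mk (conjSU g u0) = ConjClasses.mk (conjSU g' u0) :=
        congrArg Subtype.val h
      obtain ⟨s, hs⟩ := isConj_iff.mp (ConjClasses.mk_eq_mk_iff_isConj.mp h1')
      have h2' := congrArg (suToGL n K q) hs
      rw [map_mul, map_mul, map_inv, suToGL_conjSU, suToGL_conjSU, ← hx0] at h2'
      obtain ⟨sG, hsG⟩ : ∃ sG : GL (Fin n) K, sG = suToGL n K q s := ⟨_, rfl⟩
      rw [← hsG] at h2'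
      have hsGmem : sG ∈ Cfsg.GU n K q := by rw [hsG]; exact suToGL_mem s
      have hsGdet : GeneralLinearGroup.det sG = 1 := by
        apply Units.ext
        rw [GeneralLinearGroup.val_det_apply, hsG]
        exact s.1.2
      obtain ⟨c, hc⟩ : ∃ c : GL (Fin n) K, c = g'.1⁻¹ * sG * g.1 := ⟨_, rfl⟩
      have hcmem : c ∈ Cfsg.GU n K q := by
        rw [hc]
        exact (Cfsg.GU n K q).mul_mem ((Cfsg.GU n K q).mul_mem ((Cfsg.GU n K q).inv_mem g'.2) hsGmem) g.2
      have h3' : c * x0 * c⁻¹ = x0 := by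
        have : c * x0 * c⁻¹ = g'.1⁻¹ * (sG * (g.1 * x0 * g.1⁻¹) * sG⁻¹) * g'.1 := by
          rw [hc]; group
        rw [this, h2']; group
      have h4 : c * x0 = x0 * c := mul_inv_eq_iff_eq_mul.mp h3'
      have h5 : (c : Matrix (Fin n) (Fin n) K) * U₀ = U₀ * (c : Matrix (Fin n) (Fin n) K) := by
        have := congrArg (fun x : GL (Fin n) K => (x : Matrix (Fin n) (Fin n) K)) h4
        simp only [Units.val_mul, hx0v] at this
        exact this
      obtain ⟨f, hf, hfdet⟩ := hcent _ ((mem_GU_iff c).1 hcmem) h5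
      have hf0 : f ≠ 0 := by
        intro h0
        rw [h0, mul_zero] at hf
        exact zero_ne_one hf
      obtain ⟨fu, hfu⟩ : ∃ fu : Kˣ, (fu : K) = f := ⟨Units.mk0 f hf0, rfl⟩
      have hfumem : fu ∈ normOne K q := by
        rw [mem_normOne]
        apply Units.ext
        rw [Units.val_pow_eq_pow_val, Units.val_one, hfu, pow_succ]
        exact hf
      have hcdet : GeneralLinearGroup.det c = fu ^ n := by
        apply Units.ext
        rw [GeneralLinearGroup.val_det_apply, hfdet, Units.val_pow_eq_pow_val, hfu]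
      refine ⟨(⟨fu, hfumem⟩ : ↥(normOne K q))⁻¹, ?_⟩
      apply Subtype.ext
      show ((⟨fu, hfumem⟩ : ↥(normOne K q))⁻¹ ^ n : ↥(normOne K q)).1 =
        GeneralLinearGroup.det (g⁻¹ * g').1
      rw [Subgroup.coe_pow, Subgroup.coe_inv, inv_pow, ← hcdet, hc, map_mul, map_mul, map_inv,
        hsGdet, mul_one, _root_.mul_inv_rev, inv_inv, Subgroup.coe_mul, Subgroup.coe_inv, map_mul,
        map_inv, mul_comm]
    · rintro ⟨a, ha⟩
      rw [powMonoidHom_apply] at ha
      have ha' : ((a : Kˣ)) ^ n = GeneralLinearGroup.det (g⁻¹ * g').1 := by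
        rw [← Subgroup.coe_pow, ha]
        rfl
      have hamem := (mem_normOne (a : Kˣ)).1 a.2
      obtain ⟨z, hz⟩ : ∃ z : GL (Fin n) K, z = GeneralLinearGroup.scalar (Fin n) (a : Kˣ) := ⟨_, rfl⟩
      have hzmem : z ∈ Cfsg.GU n K q := by
        rw [mem_GU_iff, hz, GeneralLinearGroup.coe_scalar]
        have h6 : Matrix.scalar (Fin n) ((a : Kˣ) : K) = Matrix.diagonal (fun _ => ((a : Kˣ) : K)) := rfl
        rw [h6]
        apply isUni_diagonal
        intro i
        have := congrArg Units.val hamem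
        rw [Units.val_pow_eq_pow_val, Units.val_one, pow_succ'] at this
        exact this
      have hzdet : GeneralLinearGroup.det z = (a : Kˣ) ^ n := by
        rw [hz, GeneralLinearGroup.det_scalar, Fintype.card_fin]
      have hzc : z⁻¹ * x0 * z = x0 := by
        have := GeneralLinearGroup.scalar_commute (n := Fin n) (a : Kˣ) x0
        rw [← hz] at this
        rw [mul_assoc, ← this, inv_mul_cancel_left]
      obtain ⟨sG, hsG⟩ : ∃ sG : GL (Fin n) K, sG = g'.1 * z⁻¹ * g.1⁻¹ := ⟨_, rfl⟩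
      have hsGmem : sG ∈ Cfsg.GU n K q := by
        rw [hsG]
        exact (Cfsg.GU n K q).mul_mem ((Cfsg.GU n K q).mul_mem g'.2 ((Cfsg.GU n K q).inv_mem hzmem))
          ((Cfsg.GU n K q).inv_mem g.2)
      have hsdet : (sG : Matrix (Fin n) (Fin n) K).det = 1 := by
        rw [← GeneralLinearGroup.val_det_apply, hsG, map_mul, map_mul, map_inv, map_inv, hzdet, ha',
          Subgroup.coe_mul, Subgroup.coe_inv, map_mul, map_inv]
        have : GeneralLinearGroup.det g'.1 * ((GeneralLinearGroup.det g.1)⁻¹ * GeneralLinearGroup.det g'.1)⁻¹ *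
            (GeneralLinearGroup.det g.1)⁻¹ = 1 := by
          rw [_root_.mul_inv_rev, inv_inv, mul_inv_cancel_left, mul_inv_cancel]
        rw [this]; rfl
      obtain ⟨s, hs⟩ : ∃ s : ↥(Cfsg.SU n K q), suToGL n K q s = sG :=
        ⟨⟨⟨(sG : Matrix (Fin n) (Fin n) K), hsdet⟩, (mem_SU_iff _).2 ((mem_GU_iff sG).1 hsGmem)⟩,
          Units.ext rfl⟩
      apply Subtype.ext
      show ConjClasses.mk (conjSU g u0) = ConjClasses.mk (conjSU g' u0)
      rw [ConjClasses.mk_eq_mk_iff_isConj, isConj_iff]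
      refine ⟨s, ?_⟩
      apply suToGL_injective
      rw [map_mul, map_mul, map_inv, suToGL_conjSU, suToGL_conjSU, ← hx0, hs, hsG]
      have : g'.1 * z⁻¹ * g.1⁻¹ * (g.1 * x0 * g.1⁻¹) * (g'.1 * z⁻¹ * g.1⁻¹)⁻¹ =
          g'.1 * (z⁻¹ * x0 * z) * g'.1⁻¹ := by
        group
      rw [this, hzc]
  have hcard : Nat.card {C : ConjClasses ↥(Cfsg.SU n K q) // ∃ u : ↥(Cfsg.SU n K q), ConjClasses.mk u = C ∧ (((u : GL (Fin n) K) : Matrix (Fin n) (Fin n) K) - 1) ^ n = 0 ∧ (((u : GL (Fin n) K) : Matrix (Fin n) (Fin n) K) - 1).rank = n - 1} = Kk.index := by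
    rw [← Nat.card_congr (Setoid.quotientKerEquivOfSurjective Θ hsurj), hker]; rfl
  rw [hcard, Subgroup.index_comap_of_surjective _ hdetN_surj,
    IsCyclic.index_powMonoidHom_range, card_normOne hK, Nat.gcd_comm]

end count

theorem main {K : Type*} [Field K] [Fintype K] {q n : ℕ} (hK : Fintype.card K = q ^ 2) (hn : 2 ≤ n) : Nat.card {C : ConjClasses ↥(Cfsg.SU n K q) // ∃ u : ↥(Cfsg.SU n K q), ConjClasses.mk u = C ∧ (((u : GL (Fin n) K) : Matrix (Fin n) (Fin n) K) - 1) ^ n = 0 ∧ (((u : GL (Fin n) K) : Matrix (Fin n) (Fin n) K) - 1).rank = n - 1} = Nat.gcd n (q + 1) := by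
  classical
  have hn1 : 1 ≤ n := by omega
  letI : StarRing K := frobStar hK
  obtain ⟨U₀, hU₀u, hU₀n, hU₀r, hconj, hcent⟩ :=
    SkewNil.exists_std (K := K) (n := n) (frob_T hK) (frob_N hK) (frob_S hK) hn1
  have key : ∀ M : Matrix (Fin n) (Fin n) K, IsUni K q n M ↔ Mᴴ * M = 1 :=
    fun M => isUni_iff hK M
  apply count_of_std hK hn U₀ ((key U₀).2 hU₀u) hU₀n hU₀r
  · intro u hu hun hur
    obtain ⟨g, hg, hgu⟩ := hconj u ((key u).1 hu) hun hur
    exact ⟨g, (key g).2 hg, hgu⟩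
  · intro c hc hcu
    exact hcent c ((key c).1 hc) hcu

/-- Regular unipotent classes of SU_n(q), n ≥ 2: the elements u of the special unitary group (isometries of Σ u_i v_i^q of determinant one over the field with q² elements) with (u − 1)^n = 0 and rank(u − 1) = n − 1 form exactly gcd(n, q + 1) conjugacy classes of SU_n(q). -/
theorem result {K : Type*} [Field K] [Fintype K] {q n : ℕ} (hK : Fintype.card K = q ^ 2) (hn : 2 ≤ n) : Nat.card {C : ConjClasses ↥(Cfsg.SU n K q) // ∃ u : ↥(Cfsg.SU n K q), ConjClasses.mk u = C ∧ (((u : GL (Fin n) K) : Matrix (Fin n) (Fin n) K) - 1) ^ n = 0 ∧ (((u : GL (Fin n) K) : Matrix (Fin n) (Fin n) K) - 1).rank = n - 1} = Nat.gcd n (q + 1) := by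
  exact main hK hn

end Cfsg.Agent.S2643
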