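import Cfsg.Statements.S1996
-- import your own Cfsg.Agent.* helpers here
import Cfsg.Agent.Lib.Helper12.FusionConvert

set_option autoImplicit false
universe u
open Cfsg

namespace Cfsg.Agent.S1996

open Cfsg.Agent.Lib.Helper12 in
/-- a factorization `Q = N_Q(W₁(T)) N_Q(W₂(T))` gives control of strong fusion by `{W₁, W₂}` -/
theorem fctl_of_factorization {Q : Type u} [Group Q] [Finite Q] {p : ℕ} [Fact p.Prime]
    (W₁ W₂ : ∀ (Q : Type u) [Group Q], Subgroup Q) (hW₁ : Cfsg.IsCharPFunctor.{u} p W₁)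
    (hW₂ : Cfsg.IsCharPFunctor.{u} p W₂) (T : Sylow p Q)
    (hfac : ∀ x : Q, ∃ a ∈ Subgroup.normalizer ((Cfsg.inducedFunctor W₁ (T : Subgroup Q) : Subgroup Q) : Set Q),
      ∃ b ∈ Subgroup.normalizer ((Cfsg.inducedFunctor W₂ (T : Subgroup Q) : Subgroup Q) : Set Q), x = a * b) :
    ∀ (A : Set Q) (x : Q), A ⊆ (T : Subgroup Q) → lcj x A ⊆ (T : Subgroup Q) →
      FCtl ((fun W => Cfsg.inducedFunctor (G := Q) W) '' ({W₁, W₂} : Set (∀ (Q : Type u) [Group Q], Subgroup Q)))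
        ⊤ (T : Subgroup Q) A x := by
  intro A x hA hAx
  obtain ⟨a, ha, b, hb, hab⟩ := hfac x
  set N₁ := Subgroup.normalizer ((Cfsg.inducedFunctor W₁ (T : Subgroup Q) : Subgroup Q) : Set Q)
    with hN₁
  set N₂ := Subgroup.normalizer ((Cfsg.inducedFunctor W₂ (T : Subgroup Q) : Subgroup Q) : Set Q)
    with hN₂
  have hTN₁ : (T : Subgroup Q) ≤ N₁ :=
    Subgroup.le_normalizer.trans
      (normalizer_le_normalizer_of_isConjugacyFunctor (isConjugacyFunctor_induced W₁ hW₁ Q) T.2)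
  have hTN₂ : (T : Subgroup Q) ≤ N₂ :=
    Subgroup.le_normalizer.trans
      (normalizer_le_normalizer_of_isConjugacyFunctor (isConjugacyFunctor_induced W₂ hW₂ Q) T.2)
  have hclA : Subgroup.closure A ≤ (T : Subgroup Q) := (Subgroup.closure_le _).mpr hA
  set B₁ := cj b (Subgroup.closure A) with hB₁
  have hB₁p : IsPGroup p B₁ := (T.2.to_le hclA).map _
  have hxcl : ∀ y ∈ Subgroup.closure A, x * y * x⁻¹ ∈ (T : Subgroup Q) := by
    have : cj x (Subgroup.closure A) ≤ (T : Subgroup Q) := by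
      rw [cj_def, MonoidHom.map_closure, Subgroup.closure_le]
      rintro _ ⟨y, hy, rfl⟩
      apply hAx
      exact ⟨y, hy, rfl⟩
    intro y hy
    exact this ⟨y, hy, rfl⟩
  have hB₁N₂ : B₁ ≤ N₂ := by
    have h1 : cj b N₂ = N₂ := cj_self_of_mem hb
    rw [← h1]
    exact cj_mono b (hclA.trans hTN₂)
  have hB₁N₁ : B₁ ≤ N₁ := by
    rintro _ ⟨y, hy, rfl⟩
    have e : (MulAut.conj b).toMonoidHom y = a⁻¹ * (x * y * x⁻¹) * a := by
      show b * y * b⁻¹ = _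
      rw [hab]; group
    rw [e]
    exact N₁.mul_mem (N₁.mul_mem (N₁.inv_mem ha) (hTN₁ (hxcl y hy))) ha
  set Y := N₁ ⊓ N₂ with hY
  have hTY : (T : Subgroup Q) ≤ Y := le_inf hTN₁ hTN₂
  have hidx : ¬ p ∣ (T : Subgroup Q).relIndex Y := fun hdvd =>
    T.not_dvd_index (dvd_trans hdvd (Subgroup.relIndex_dvd_index_of_le hTY))
  obtain ⟨k, hkY, hk⟩ := exists_conj_mem_of_relIndex (T : Subgroup Q) Y B₁
    T.2 hidx (le_inf hB₁N₁ hB₁N₂) hB₁p
  have hkbA : lcj (k * b) A ⊆ (T : Subgroup Q) := by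
    rintro _ ⟨y, hy, rfl⟩
    have hb' : b * y * b⁻¹ ∈ B₁ := ⟨y, Subgroup.subset_closure hy, rfl⟩
    have := hk _ hb'
    have e : k * b * y * (k * b)⁻¹ = k * (b * y * b⁻¹) * k⁻¹ := by group
    show k * b * y * (k * b)⁻¹ ∈ (T : Subgroup Q)
    rw [e]; exact this
  have h1 : FCtl ((fun W => Cfsg.inducedFunctor (G := Q) W) '' ({W₁, W₂} : Set _)) ⊤
      (T : Subgroup Q) A (k * b) :=
    FCtl.single (Cfsg.inducedFunctor W₂) ⟨W₂, Or.inr rfl, rfl⟩
      (Subgroup.mem_inf.mpr ⟨Subgroup.mem_top _, N₂.mul_mem (Subgroup.mem_inf.mp hkY).2 hb⟩) hA hkbA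
  have e : x = (a * k⁻¹) * (k * b) := by rw [hab]; group
  have h2 : FCtl ((fun W => Cfsg.inducedFunctor (G := Q) W) '' ({W₁, W₂} : Set _)) ⊤
      (T : Subgroup Q) (lcj (k * b) A) (a * k⁻¹) :=
    FCtl.single (Cfsg.inducedFunctor W₁) ⟨W₁, Or.inl rfl, rfl⟩
      (Subgroup.mem_inf.mpr ⟨Subgroup.mem_top _,
        N₁.mul_mem ha (N₁.inv_mem (Subgroup.mem_inf.mp hkY).1)⟩) hkbA
      (by rw [← lcj_mul, ← e]; exact hAx)
  rw [e]
  exact h1.trans h2


/-- Let p be a prime, G a finite group and W₁, W₂ two isomorphism-invariant p-group functors (W assigns to every group Q a subgroup W(Q), nontrivial whenever Q is a nontrivial finite p-group, and every isomorphism from a finite p-group Q onto a group R carries W(Q) onto W(R)). Suppose that G* = N_{G*}(W₁(S*)) N_{G*}(W₂(S*)) whenever G* = K/R is a section of G with C_{G*}(O_p(G*)) ≤ O_p(G*) and S* is a Sylow p-subgroup of G*. Then the pair {W₁, W₂} controls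 strong fusion in G. -/
theorem result {G : Type u} [Group G] [Finite G] {p : ℕ} [Fact p.Prime] (W₁ W₂ : ∀ (Q : Type u) [Group Q], Subgroup Q) (hW₁ : Cfsg.IsCharPFunctor.{u} p W₁) (hW₂ : Cfsg.IsCharPFunctor.{u} p W₂) (hfac : ∀ (K R : Subgroup G) [hR : (R.subgroupOf K).Normal], Subgroup.centralizer ((Cfsg.pCore p (↥K ⧸ R.subgroupOf K) : Subgroup (↥K ⧸ R.subgroupOf K)) : Set (↥K ⧸ R.subgroupOf K)) ≤ Cfsg.pCore p (↥K ⧸ R.subgroupOf K) → ∀ T : Sylow p (↥K ⧸ R.subgroupOf K), ∀ x : (↥K ⧸ R.subgroupOf K), ∃ a ∈ Subgroup.normalizer ((Cfsg.inducedFunctor (G := (↥K ⧸ R.subgroupOf K)) W₁ (T : Subgroup (↥K ⧸ R.subgroupOf K)) : Subgroup (↥K ⧸ R.subgroupOf K)) : Set (↥K ⧸ R.subgroupOf K)), ∃ b ∈ Subgroup.normalizer ((Cfsg.inducedFunctor (G := (↥K ⧸ R.subgroupOf K)) W₂ (T : Subgroup (↥K ⧸ R.subgroupOf K)) : Subgroup (↥K ⧸ R.subgroupOf K)) : Set (↥K ⧸ R.subgroupOf K)), x = a * b) : Cfsg.FamilyControlsStrongFusionIn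 p {Cfsg.inducedFunctor (G := G) W₁, Cfsg.inducedFunctor (G := G) W₂} ⊤ := by
  classical
  have h𝓦 : ∀ W' ∈ ({W₁, W₂} : Set (∀ (Q : Type u) [Group Q], Subgroup Q)),
      Cfsg.IsCharPFunctor.{u} p W' := by
    intro W' hW'
    rcases hW' with h | h
    · rw [h]; exact hW₁
    · have : W' = W₂ := h
      rw [this]; exact hW₂
  have hgood : Cfsg.Agent.Lib.Helper12.AllSections
      (fun Q _ => Finite Q → Cfsg.Agent.Lib.Helper12.FamFusHyp p
        ({W₁, W₂} : Set (∀ (Q : Type u) [Group Q], Subgroup Q)) Q) G := by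
    intro K' R' _ _ hC
    obtain ⟨T⟩ : Nonempty (Sylow p (↥K' ⧸ R'.subgroupOf K')) := inferInstance
    apply Cfsg.Agent.Lib.Helper12.familyControlsStrongFusionIn_top_of_fctl _ T
    exact fctl_of_factorization W₁ W₂ hW₁ hW₂ T (hfac K' R' hC T)
  have hmain := Cfsg.Agent.Lib.Helper12.familyControlsStrongFusionIn_top_of_famFusHyp
    ({W₁, W₂} : Set (∀ (Q : Type u) [Group Q], Subgroup Q)) h𝓦 _ G rfl hgood
  rw [Cfsg.Agent.Lib.Helper12.inducedFamily, Set.image_pair] at hmain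
  exact hmain

end Cfsg.Agent.S1996
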