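import Cfsg.Statements.S4667
import Cfsg.Agent.S0907
import Cfsg.Agent.Lib.Lead.CharOrtho
import Cfsg.Agent.Lib.Lead.CharDecomp

set_option autoImplicit false
open Cfsg

namespace Cfsg.Agent.S4667

open Cfsg.Agent.CharLib
open scoped ComplexConjugate

universe u

variable {G : Type u} [Group G] [Fintype G]

theorem pRegularPart_of_regular (p : ℕ) (χ : G → ℂ) {g : G} (hg : IsPRegular p g) :
    pRegularPart p χ g = χ g := by
  unfold pRegularPart
  simp only [hg, if_true]

theorem pRegularPart_of_singular (p : ℕ) (χ : G → ℂ) {g : G} (hg : ¬ IsPRegular p g) :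
    pRegularPart p χ g = 0 := by
  unfold pRegularPart
  simp only [hg, if_false]

/-- The functional `f ↦ ⟨f, χ⟩`. -/
noncomputable def innerFunctional (χ : G → ℂ) : (G → ℂ) →ₗ[ℂ] ℂ where
  toFun f := classInner f χ
  map_add' f g := classInner_add_left f g χ
  map_smul' c f := by
    rw [classInner_smul_left]; rfl

theorem innerFunctional_apply (χ f : G → ℂ) : innerFunctional χ f = classInner f χ := rfl

/-- finsum over a set of irreducible characters as a filtered finset sum -/
theorem finsum_mem_eq [Fintype (IrrCharacter G)] {A : Type*} [AddCommMonoid A]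
    (B : Set (IrrCharacter G)) [DecidablePred (· ∈ B)] (f : IrrCharacter G → A) :
    ∑ᶠ χ ∈ B, f χ = ∑ χ ∈ Finset.univ.filter (· ∈ B), f χ := by
  rw [finsum_mem_eq_finite_toFinset_sum f (Set.toFinite B)]
  congr 1
  ext χ
  simp


theorem result' (p : ℕ) [Fact p.Prime] (M : Ideal Cfsg.AlgInt) (hM : Cfsg.IsPModular p M)
    (B : Set (Cfsg.IrrCharacter G)) (hB : Cfsg.IsPBlock M B) :
    (Nat.card G : ℂ) * (Cfsg.blockRank p B : ℂ) =
      ∑ x : G, ∑ᶠ χ ∈ B, Cfsg.pRegularPart p (χ : G → ℂ) x * (χ : G → ℂ) x⁻¹ := by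
  classical
  letI := fintypeIrr G
  set Bf : Finset (IrrCharacter G) := Finset.univ.filter (· ∈ B) with hBf
  have hmemBf : ∀ χ, χ ∈ Bf ↔ χ ∈ B := by
    intro χ; rw [hBf]; simp
  let V : Submodule ℂ (G → ℂ) :=
    Submodule.span ℂ ((fun χ : IrrCharacter G => pRegularPart p (χ : G → ℂ)) '' B)
  let P : (G → ℂ) →ₗ[ℂ] (G → ℂ) :=
    ∑ χ ∈ Bf, (innerFunctional (χ : G → ℂ)).smulRight (pRegularPart p (χ : G → ℂ))
  have hPapp : ∀ (f : G → ℂ) (y : G),
      P f y = ∑ χ ∈ Bf, classInner f (χ : G → ℂ) * pRegularPart p (χ : G → ℂ) y := by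
    intro f y
    change (∑ χ ∈ Bf, (innerFunctional (χ : G → ℂ)).smulRight (pRegularPart p (χ : G → ℂ))) f y = _
    rw [LinearMap.sum_apply, Finset.sum_apply]
    apply Finset.sum_congr rfl
    intro χ _
    rw [LinearMap.smulRight_apply, Pi.smul_apply, innerFunctional_apply, smul_eq_mul]
  -- weak block orthogonality
  have hwo : ∀ x y : G, IsPRegular p y → ¬ IsPRegular p x →
      ∑ χ ∈ Bf, (χ : G → ℂ) y * conj ((χ : G → ℂ) x) = 0 := by
    intro x y hy hx
    have h := Cfsg.Agent.S0907.result p M hM B hB y x hy (by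
      unfold IsPRegular at hx; push Not at hx; exact hx)
    rw [finsum_mem_eq] at h
    exact h
  have hG0 : (Nat.card G : ℂ) ≠ 0 := by
    exact_mod_cast (Nat.card_pos (α := G)).ne'
  -- P fixes the generators
  have hkey : ∀ χ' : IrrCharacter G, χ' ∈ B →
      P (pRegularPart p (χ' : G → ℂ)) = pRegularPart p (χ' : G → ℂ) := by
    intro χ' hχ'
    funext y
    rw [hPapp]
    by_cases hy : IsPRegular p y
    · rw [pRegularPart_of_regular p _ hy]
      have h1 : ∀ χ ∈ Bf, classInner (pRegularPart p (χ' : G → ℂ)) (χ : G → ℂ) *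
          pRegularPart p (χ : G → ℂ) y =
          (Nat.card G : ℂ)⁻¹ * ∑ x : G, pRegularPart p (χ' : G → ℂ) x *
            ((χ : G → ℂ) y * conj ((χ : G → ℂ) x)) := by
        intro χ _
        rw [pRegularPart_of_regular p _ hy]
        unfold classInner
        rw [mul_assoc, Finset.sum_mul]
        congr 1
        apply Finset.sum_congr rfl
        intro x _
        ring
      rw [Finset.sum_congr rfl h1, ← Finset.mul_sum, Finset.sum_comm]
      have h2 : ∀ x : G, ∑ χ ∈ Bf, pRegularPart p (χ' : G → ℂ) x *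
          ((χ : G → ℂ) y * conj ((χ : G → ℂ) x)) =
          ∑ χ ∈ Bf, (χ' : G → ℂ) x * ((χ : G → ℂ) y * conj ((χ : G → ℂ) x)) := by
        intro x
        by_cases hx : IsPRegular p x
        · rw [pRegularPart_of_regular p _ hx]
        · rw [← Finset.mul_sum, ← Finset.mul_sum, hwo x y hy hx, mul_zero, mul_zero]
      rw [Finset.sum_congr rfl (fun x _ => h2 x), Finset.sum_comm]
      have h3 : ∀ χ ∈ Bf, ∑ x : G, (χ' : G → ℂ) x * ((χ : G → ℂ) y * conj ((χ : G → ℂ) x)) =
          (χ : G → ℂ) y * ((Nat.card G : ℂ) * (if χ' = χ then 1 else 0)) := by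
        intro χ _
        have h4 := classInner_irr' χ' χ
        unfold classInner at h4
        rw [← h4, ← mul_assoc (Nat.card G : ℂ), mul_inv_cancel₀ hG0, one_mul, Finset.mul_sum]
        apply Finset.sum_congr rfl
        intro x _
        ring
      rw [Finset.sum_congr rfl h3, Finset.mul_sum]
      rw [Finset.sum_eq_single χ']
      · rw [if_pos rfl]
        field_simp
      · intro χ _ hne
        rw [if_neg (Ne.symm hne)]
        ring
      · intro h
        exact absurd ((hmemBf χ').2 hχ') h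
    · rw [pRegularPart_of_singular p _ hy]
      apply Finset.sum_eq_zero
      intro χ _
      rw [pRegularPart_of_singular p _ hy, mul_zero]
  have hproj : LinearMap.IsProj V P := by
    constructor
    · intro f
      change (∑ χ ∈ Bf, (innerFunctional (χ : G → ℂ)).smulRight (pRegularPart p (χ : G → ℂ))) f ∈ V
      rw [LinearMap.sum_apply]
      apply Submodule.sum_mem
      intro χ hχ
      rw [LinearMap.smulRight_apply]
      apply Submodule.smul_mem
      apply Submodule.subset_span
      exact ⟨χ, (hmemBf χ).1 hχ, rfl⟩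
    · intro f hf
      induction hf using Submodule.span_induction with
      | mem x hx =>
        obtain ⟨χ', hχ', rfl⟩ := hx
        exact hkey χ' hχ'
      | zero => exact map_zero P
      | add x y _ _ hx hy => rw [map_add, hx, hy]
      | smul a x _ hx => rw [map_smul, hx]
  have htr := hproj.trace
  have htr2 : LinearMap.trace ℂ (G → ℂ) P =
      ∑ χ ∈ Bf, classInner (pRegularPart p (χ : G → ℂ)) (χ : G → ℂ) := by
    change LinearMap.trace ℂ (G → ℂ)
      (∑ χ ∈ Bf, (innerFunctional (χ : G → ℂ)).smulRight (pRegularPart p (χ : G → ℂ))) = _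
    rw [map_sum]
    apply Finset.sum_congr rfl
    intro χ _
    rw [LinearMap.trace_smulRight, innerFunctional_apply]
  have hrank : (Cfsg.blockRank p B : ℂ) =
      ∑ χ ∈ Bf, classInner (pRegularPart p (χ : G → ℂ)) (χ : G → ℂ) := by
    rw [← htr2, htr]
    rfl
  rw [hrank, Finset.mul_sum]
  have h5 : ∀ x : G, ∑ᶠ χ ∈ B, Cfsg.pRegularPart p (χ : G → ℂ) x * (χ : G → ℂ) x⁻¹ =
      ∑ χ ∈ Bf, Cfsg.pRegularPart p (χ : G → ℂ) x * (χ : G → ℂ) x⁻¹ := by
    intro x
    rw [finsum_mem_eq]
  rw [Finset.sum_congr rfl (fun x _ => h5 x), Finset.sum_comm]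
  apply Finset.sum_congr rfl
  intro χ _
  unfold classInner
  rw [← mul_assoc, mul_inv_cancel₀ hG0, one_mul]
  apply Finset.sum_congr rfl
  intro x _
  rw [IsCharacter.apply_inv (IsIrrCharacter.isCharacter χ.2)]

/-- Fix a prime p and a maximal ideal M of the algebraic integers containing p, and a p-block B of the finite group G. The p-regular rank of B (the number of irreducible Brauer characters in B) times the order of G equals the sum over the p-regular elements x of G of Σ_{χ ∈ B} χ(x) χ(x⁻¹) (written with the restriction of χ to p-regular elements, which vanishes at p-singular x). -/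
theorem result {G : Type*} [Group G] [Fintype G] (p : ℕ) [Fact p.Prime] (M : Ideal Cfsg.AlgInt) (hM : Cfsg.IsPModular p M) (B : Set (Cfsg.IrrCharacter G)) (hB : Cfsg.IsPBlock M B) : (Nat.card G : ℂ) * (Cfsg.blockRank p B : ℂ) = ∑ x : G, ∑ᶠ χ ∈ B, Cfsg.pRegularPart p (χ : G → ℂ) x * (χ : G → ℂ) x⁻¹ := by
  exact result' p M hM B hB

end Cfsg.Agent.S4667
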