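import Cfsg.Statements.S2166
import Mathlib
import Cfsg.Agent.Lib.Helper5.Symp
import Cfsg.Agent.Lib.Helper5.SympTrans
import Cfsg.Agent.Lib.Helper5.SympGen
import Cfsg.Agent.Lib.Helper5.SpMax

set_option autoImplicit false
open Cfsg

namespace Cfsg.Agent.S2166

section Aux
set_option linter.unusedSectionVars false
set_option linter.unusedVariables false
set_option linter.unusedSimpArgs false
namespace S2166aux
open Cfsg Matrix Cfsg.Agent.Lib.Helper5 Cfsg.Agent.Lib.Helper5.SpMax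

variable {F : Type*} [Field F] {m : ℕ}

lemma sf_zero_right (x : Fin m ⊕ Fin m → F) : Cfsg.sympForm m F x 0 = 0 := by
  rw [sympForm_swap, sympForm_zero_left, neg_zero]

/-- the symplectic form as a bilinear map -/
noncomputable def fB (m : ℕ) (F : Type*) [Field F] :
    (Fin m ⊕ Fin m → F) →ₗ[F] (Fin m ⊕ Fin m → F) →ₗ[F] F :=
  LinearMap.mk₂ F (Cfsg.sympForm m F) sympForm_add_left
    (fun c x z => by rw [smul_eq_mul]; exact sympForm_smul_left c x z)
    sympForm_add_right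
    (fun c x z => by rw [smul_eq_mul]; exact sympForm_smul_right c x z)

lemma fB_apply (x y : Fin m ⊕ Fin m → F) : fB m F x y = Cfsg.sympForm m F x y := rfl

lemma riesz (φ : (Fin m ⊕ Fin m → F) →ₗ[F] F) : ∃ e, ∀ x, Cfsg.sympForm m F e x = φ x := by
  have hinj : Function.Injective (fB m F) := by
    rw [← LinearMap.ker_eq_bot, LinearMap.ker_eq_bot']
    intro x hx
    by_contra hx0
    obtain ⟨a, ha⟩ := sympForm_nondeg x hx0
    apply ha
    rw [← fB_apply, hx]
    rfl
  have hsurj := (LinearMap.injective_iff_surjective_of_finrank_eq_finrank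
    (Subspace.dual_finrank_eq (K := F) (V := (Fin m ⊕ Fin m → F))).symm).mp hinj
  obtain ⟨e, he⟩ := hsurj φ
  exact ⟨e, fun x => by rw [← he, fB_apply]⟩

lemma exists_sep (K : Submodule F (Fin m ⊕ Fin m → F)) (w : Fin m ⊕ Fin m → F) (hw : w ∉ K)
    (t : F) : ∃ e, (∀ k ∈ K, Cfsg.sympForm m F e k = 0) ∧ Cfsg.sympForm m F e w = t := by
  obtain ⟨φ, hφ1, hφ2⟩ := LinearMap.exists_extend_of_notMem (0 : K →ₗ[F] F) hw t
  obtain ⟨e, he⟩ := riesz φ
  refine ⟨e, fun k hk => ?_, by rw [he, hφ2]⟩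
  rw [he]
  have h1 := LinearMap.congr_fun hφ1 ⟨k, hk⟩
  simpa using h1

lemma sp_step {ι : Type*} (s : ι → (Fin m ⊕ Fin m → F)) (z w : Fin m ⊕ Fin m → F)
    (hz : z ∉ Submodule.span F (Set.range s)) (hw : w ∉ Submodule.span F (Set.range s))
    (hperp : ∀ i, Cfsg.sympForm m F (s i) (z - w) = 0) :
    ∃ A : Matrix.symplecticGroup (Fin m) F,
      (∀ i, (A : Matrix (Fin m ⊕ Fin m) (Fin m ⊕ Fin m) F) *ᵥ s i = s i) ∧
      (A : Matrix (Fin m ⊕ Fin m) (Fin m ⊕ Fin m) F) *ᵥ z = w := by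
  by_cases hzw : Cfsg.sympForm m F z w ≠ 0
  · obtain ⟨A, -, hAz, hfix⟩ := transvIn_step ⊤ z w Submodule.mem_top Submodule.mem_top hzw
    exact ⟨A, fun i => hfix _ (hperp i), hAz⟩
  · rw [not_not] at hzw
    obtain ⟨t, htH, htz, htw⟩ : ∃ t, (∀ i, Cfsg.sympForm m F t (s i) = 0) ∧
        Cfsg.sympForm m F t z ≠ 0 ∧ Cfsg.sympForm m F t w ≠ 0 := by
      obtain ⟨t1, ht1H, ht1z⟩ := exists_sep _ z hz 1
      obtain ⟨t2, ht2H, ht2w⟩ := exists_sep _ w hw 1
      have h1 : ∀ i, Cfsg.sympForm m F t1 (s i) = 0 := fun i =>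
        ht1H _ (Submodule.subset_span ⟨i, rfl⟩)
      have h2 : ∀ i, Cfsg.sympForm m F t2 (s i) = 0 := fun i =>
        ht2H _ (Submodule.subset_span ⟨i, rfl⟩)
      by_cases h3 : Cfsg.sympForm m F t1 w ≠ 0
      · exact ⟨t1, h1, by rw [ht1z]; exact one_ne_zero, h3⟩
      · rw [not_not] at h3
        by_cases h4 : Cfsg.sympForm m F t2 z ≠ 0
        · exact ⟨t2, h2, h4, by rw [ht2w]; exact one_ne_zero⟩
        · rw [not_not] at h4
          refine ⟨t1 + t2, fun i => by rw [sympForm_add_left, h1, h2, add_zero], ?_, ?_⟩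
          · rw [sympForm_add_left, ht1z, h4, add_zero]; exact one_ne_zero
          · rw [sympForm_add_left, h3, ht2w, zero_add]; exact one_ne_zero
    obtain ⟨u, hu⟩ : ∃ u, u = z + t := ⟨_, rfl⟩
    have hzu : Cfsg.sympForm m F z u ≠ 0 := by
      rw [hu, sympForm_add_right, sympForm_self, zero_add, sympForm_swap]
      exact neg_ne_zero.mpr htz
    have huw : Cfsg.sympForm m F u w ≠ 0 := by
      rw [hu, sympForm_add_left, hzw, zero_add]
      exact htw
    obtain ⟨A1, -, hA1z, hfix1⟩ := transvIn_step ⊤ z u Submodule.mem_top Submodule.mem_top hzu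
    obtain ⟨A2, -, hA2u, hfix2⟩ := transvIn_step ⊤ u w Submodule.mem_top Submodule.mem_top huw
    have hst : ∀ i, Cfsg.sympForm m F (s i) t = 0 := fun i => by
      rw [sympForm_swap, htH, neg_zero]
    refine ⟨A2 * A1, fun i => ?_, ?_⟩
    · have e1 : (A1 : Matrix (Fin m ⊕ Fin m) (Fin m ⊕ Fin m) F) *ᵥ s i = s i := by
        apply hfix1
        have : z - u = -t := by rw [hu]; abel
        rw [this, sympForm_neg_right, hst, neg_zero]
      have e2 : (A2 : Matrix (Fin m ⊕ Fin m) (Fin m ⊕ Fin m) F) *ᵥ s i = s i := by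
        apply hfix2
        have : u - w = (z - w) + t := by rw [hu]; abel
        rw [this, sympForm_add_right, hperp, hst, add_zero]
      change ((A2 : Matrix (Fin m ⊕ Fin m) (Fin m ⊕ Fin m) F) *
        (A1 : Matrix (Fin m ⊕ Fin m) (Fin m ⊕ Fin m) F)) *ᵥ s i = s i
      rw [← Matrix.mulVec_mulVec, e1, e2]
    · change ((A2 : Matrix (Fin m ⊕ Fin m) (Fin m ⊕ Fin m) F) *
        (A1 : Matrix (Fin m ⊕ Fin m) (Fin m ⊕ Fin m) F)) *ᵥ z = w
      rw [← Matrix.mulVec_mulVec, hA1z, hA2u]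

theorem sp_witt_tuple : ∀ (k : ℕ) (x y : Fin k → (Fin m ⊕ Fin m → F)),
    LinearIndependent F x → LinearIndependent F y →
    (∀ i j, Cfsg.sympForm m F (x i) (x j) = Cfsg.sympForm m F (y i) (y j)) →
    ∃ A : Matrix.symplecticGroup (Fin m) F,
      ∀ i, (A : Matrix (Fin m ⊕ Fin m) (Fin m ⊕ Fin m) F) *ᵥ x i = y i := by
  intro k
  induction k with
  | zero =>
    intro x y _ _ _
    exact ⟨1, fun i => i.elim0⟩
  | succ k ih =>
    intro x y hx hy hG
    obtain ⟨hx1, hx2⟩ := linearIndependent_finSucc.mp hx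
    obtain ⟨hy1, hy2⟩ := linearIndependent_finSucc.mp hy
    obtain ⟨A₀, hA₀⟩ := ih (Fin.tail x) (Fin.tail y) hx1 hy1 (fun i j => hG i.succ j.succ)
    have hA₀' : ∀ i : Fin k, (A₀ : Matrix (Fin m ⊕ Fin m) (Fin m ⊕ Fin m) F) *ᵥ x i.succ =
        y i.succ := hA₀
    obtain ⟨z, hzdef⟩ : ∃ z, z = (A₀ : Matrix (Fin m ⊕ Fin m) (Fin m ⊕ Fin m) F) *ᵥ x 0 :=
      ⟨_, rfl⟩
    have hz : z ∉ Submodule.span F (Set.range (Fin.tail y)) := by
      intro hmem
      apply hx2
      have hle : Submodule.span F (Set.range (Fin.tail y)) ≤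
          (Submodule.span F (Set.range (Fin.tail x))).comap
            (Matrix.toLin' ((A₀⁻¹ : Matrix.symplecticGroup (Fin m) F) :
              Matrix (Fin m ⊕ Fin m) (Fin m ⊕ Fin m) F)) := by
        rw [Submodule.span_le]
        rintro _ ⟨i, rfl⟩
        rw [SetLike.mem_coe, Submodule.mem_comap, Matrix.toLin'_apply]
        have : Fin.tail y i = (A₀ : Matrix (Fin m ⊕ Fin m) (Fin m ⊕ Fin m) F) *ᵥ x i.succ :=
          (hA₀' i).symm
        rw [this, coe_inv_mulVec_cancel']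
        exact Submodule.subset_span ⟨i, rfl⟩
      have h1 := hle hmem
      rw [Submodule.mem_comap, Matrix.toLin'_apply, hzdef, coe_inv_mulVec_cancel'] at h1
      exact h1
    have hperp : ∀ i, Cfsg.sympForm m F (Fin.tail y i) (z - y 0) = 0 := by
      intro i
      have h1 : Cfsg.sympForm m F (Fin.tail y i) z = Cfsg.sympForm m F (y i.succ) (y 0) := by
        have h2 : Fin.tail y i = (A₀ : Matrix (Fin m ⊕ Fin m) (Fin m ⊕ Fin m) F) *ᵥ x i.succ :=
          (hA₀' i).symm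
        rw [h2, hzdef, sympForm_mulVec_of_mem A₀.2, hG]
      rw [sympForm_sub_right, h1]
      exact sub_self _
    obtain ⟨B, hB1, hB2⟩ := sp_step (Fin.tail y) z (y 0) hz hy2 hperp
    refine ⟨B * A₀, fun i => ?_⟩
    change ((B : Matrix (Fin m ⊕ Fin m) (Fin m ⊕ Fin m) F) *
      (A₀ : Matrix (Fin m ⊕ Fin m) (Fin m ⊕ Fin m) F)) *ᵥ x i = y i
    rw [← Matrix.mulVec_mulVec]
    refine Fin.cases ?_ (fun j => ?_) i
    · rw [← hzdef, hB2]
    · rw [hA₀' j]; exact hB1 j

/-- self-adjoint square-zero matrices -/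
def Good (N : Matrix (Fin m ⊕ Fin m) (Fin m ⊕ Fin m) F) : Prop :=
  (∀ x, N *ᵥ (N *ᵥ x) = 0) ∧
    ∀ x y, Cfsg.sympForm m F (N *ᵥ x) y = Cfsg.sympForm m F x (N *ᵥ y)

lemma good_of_inv [CharP F 2] (M : Matrix (Fin m ⊕ Fin m) (Fin m ⊕ Fin m) F)
    (hM : M ∈ Matrix.symplecticGroup (Fin m) F) (hMM : M * M = 1) : Good (M - 1) := by
  have h2 : (2 : F) = 0 := CharTwo.two_eq_zero
  constructor
  · intro x
    have h1 : ∀ y, (M - 1) *ᵥ y = M *ᵥ y - y := fun y => by
      rw [Matrix.sub_mulVec, Matrix.one_mulVec]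
    rw [h1 x, h1, Matrix.mulVec_sub, Matrix.mulVec_mulVec, hMM, Matrix.one_mulVec]
    funext i
    simp only [Pi.sub_apply, Pi.zero_apply]
    linear_combination (x i - (M *ᵥ x) i) * h2
  · intro x y
    rw [Matrix.sub_mulVec, Matrix.sub_mulVec, Matrix.one_mulVec, Matrix.one_mulVec,
      sympForm_sub_left, sympForm_sub_right]
    have h1 : Cfsg.sympForm m F (M *ᵥ x) y = Cfsg.sympForm m F (M *ᵥ x) (M *ᵥ (M *ᵥ y)) := by
      rw [Matrix.mulVec_mulVec, hMM, Matrix.one_mulVec]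
    rw [h1, sympForm_mulVec_of_mem hM]

lemma structure_nonalt [Fintype F] [CharP F 2] :
    ∀ (r : ℕ) (N : Matrix (Fin m ⊕ Fin m) (Fin m ⊕ Fin m) F), Good N → N.rank = r →
    (r ≠ 0 → ∃ x, Cfsg.sympForm m F (N *ᵥ x) x ≠ 0) →
    ∃ e : Fin r → (Fin m ⊕ Fin m → F), (∀ i, ∃ z, e i = N *ᵥ z) ∧
      ∀ x, N *ᵥ x = ∑ i, Cfsg.sympForm m F x (e i) • e i := by
  intro r
  induction r with
  | zero =>
    intro N hN hr _
    have h1 : LinearMap.range (Matrix.toLin' N) = ⊥ := Submodule.finrank_eq_zero.mp hr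
    refine ⟨Fin.elim0, fun i => i.elim0, fun x => ?_⟩
    have h2 : Matrix.toLin' N x ∈ LinearMap.range (Matrix.toLin' N) :=
      LinearMap.mem_range_self _ x
    rw [h1, Submodule.mem_bot, Matrix.toLin'_apply] at h2
    rw [h2]
    simp
  | succ r ih =>
    intro N hN hr hna
    have h2 : (2 : F) = 0 := CharTwo.two_eq_zero
    have hvv : ∀ v : Fin m ⊕ Fin m → F, v + v = 0 := fun v => by
      funext i
      exact CharTwo.add_self_eq_zero (v i)
    have hsw : ∀ u v : Fin m ⊕ Fin m → F, Cfsg.sympForm m F u v = Cfsg.sympForm m F v u := by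
      intro u v
      rw [sympForm_swap, CharTwo.neg_eq]
    obtain ⟨x₀, hx₀⟩ := hna (Nat.succ_ne_zero r)
    obtain ⟨ζ, hζ⟩ : ∃ ζ : F, ζ * ζ = (Cfsg.sympForm m F (N *ᵥ x₀) x₀)⁻¹ := by
      obtain ⟨ζ, h⟩ := FiniteField.isSquare_of_char_two (ringChar.eq F 2)
        (Cfsg.sympForm m F (N *ᵥ x₀) x₀)⁻¹
      exact ⟨ζ, h.symm⟩
    obtain ⟨x₁, hx₁, hx₁good⟩ : ∃ x₁, Cfsg.sympForm m F (N *ᵥ x₁) x₁ = 1 ∧
        (r ≠ 0 → ∃ y, Cfsg.sympForm m F (N *ᵥ y) y +
          Cfsg.sympForm m F y (N *ᵥ x₁) * Cfsg.sympForm m F y (N *ᵥ x₁) ≠ 0) := by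
      obtain ⟨x', hx'def⟩ : ∃ x', x' = ζ • x₀ := ⟨_, rfl⟩
      have hx' : Cfsg.sympForm m F (N *ᵥ x') x' = 1 := by
        rw [hx'def, Matrix.mulVec_smul, sympForm_smul_left, sympForm_smul_right, ← mul_assoc, hζ]
        exact inv_mul_cancel₀ hx₀
      by_cases hbad : ∃ y, Cfsg.sympForm m F (N *ᵥ y) y +
          Cfsg.sympForm m F y (N *ᵥ x') * Cfsg.sympForm m F y (N *ᵥ x') ≠ 0
      · exact ⟨x', hx', fun _ => hbad⟩
      · push Not at hbad
        by_cases hr0 : r = 0
        · exact ⟨x', hx', fun h => absurd hr0 h⟩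
        · have hNx'0 : N *ᵥ x' ≠ 0 := by
            intro h0
            rw [h0, sympForm_zero_left] at hx'
            exact zero_ne_one hx'
          obtain ⟨v, hv⟩ : ∃ v, N *ᵥ v ∉ Submodule.span F {N *ᵥ x'} := by
            by_contra hcon
            push Not at hcon
            have h1 : LinearMap.range (Matrix.toLin' N) ≤ Submodule.span F {N *ᵥ x'} := by
              rintro _ ⟨v, rfl⟩
              rw [Matrix.toLin'_apply]
              exact hcon v
            have h3 := Submodule.finrank_mono h1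
            have h4 : Module.finrank F (Submodule.span F {N *ᵥ x'}) = 1 :=
              finrank_span_singleton hNx'0
            have h5 : N.rank = Module.finrank F (LinearMap.range (Matrix.toLin' N)) := rfl
            omega
          obtain ⟨c, hcdef⟩ : ∃ c, c = Cfsg.sympForm m F v (N *ᵥ x') := ⟨_, rfl⟩
          obtain ⟨k, hkdef⟩ : ∃ k, k = v + c • x' := ⟨_, rfl⟩
          have hx'N : Cfsg.sympForm m F x' (N *ᵥ x') = 1 := by rw [hsw, hx']
          have hkx' : Cfsg.sympForm m F k (N *ᵥ x') = 0 := by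
            rw [hkdef, sympForm_add_left, sympForm_smul_left, hx'N, mul_one, ← hcdef]
            exact CharTwo.add_self_eq_zero c
          have hkk : Cfsg.sympForm m F (N *ᵥ k) k = 0 := by
            have h1 := hbad k
            rw [hkx', mul_zero, add_zero] at h1
            exact h1
          have hNk : N *ᵥ k ≠ 0 := by
            intro h0
            apply hv
            have h1 : N *ᵥ v = (-c) • (N *ᵥ x') := by
              rw [hkdef, Matrix.mulVec_add, Matrix.mulVec_smul] at h0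
              rw [neg_smul]
              exact eq_neg_of_add_eq_zero_left h0
            rw [h1]
            exact Submodule.smul_mem _ _ (Submodule.mem_span_singleton_self _)
          obtain ⟨y₀, hy₀⟩ := sympForm_nondeg (N *ᵥ k) hNk
          refine ⟨x' + k, ?_, fun _ => ⟨y₀, ?_⟩⟩
          · rw [Matrix.mulVec_add, sympForm_add_left, sympForm_add_right, sympForm_add_right, hx',
              hkk, hN.2 k x', hkx', hsw (N *ᵥ x') k, hkx']
            ring
          · have h1 := hbad y₀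
            rw [Matrix.mulVec_add, sympForm_add_right]
            have h3 : Cfsg.sympForm m F y₀ (N *ᵥ k) ≠ 0 := by rw [hsw]; exact hy₀
            intro h4
            apply h3
            have h5 : Cfsg.sympForm m F y₀ (N *ᵥ k) * Cfsg.sympForm m F y₀ (N *ᵥ k) = 0 := by
              linear_combination h4 - h1 -
                (Cfsg.sympForm m F y₀ (N *ᵥ x') * Cfsg.sympForm m F y₀ (N *ᵥ k)) * h2
            exact mul_self_eq_zero.mp h5
    obtain ⟨e₀, he₀⟩ : ∃ e₀, e₀ = N *ᵥ x₁ := ⟨_, rfl⟩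
    obtain ⟨N₁, hN₁def⟩ : ∃ N₁, N₁ = N + (Cfsg.sympTransvection m e₀ 1 - 1) := ⟨_, rfl⟩
    have hN₁x : ∀ x, N₁ *ᵥ x = N *ᵥ x + Cfsg.sympForm m F x e₀ • e₀ := by
      intro x
      rw [hN₁def, Matrix.add_mulVec, Matrix.sub_mulVec, sympTransvection_mulVec,
        Matrix.one_mulVec, one_mul]
      abel
    have hNe₀ : N *ᵥ e₀ = 0 := by rw [he₀]; exact hN.1 x₁
    have he₀N : ∀ x, Cfsg.sympForm m F (N *ᵥ x) e₀ = 0 := by
      intro x
      rw [hN.2, hNe₀, sf_zero_right]
    have he₀e₀ : Cfsg.sympForm m F e₀ e₀ = 0 := sympForm_self m e₀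
    have he₀x₁ : Cfsg.sympForm m F e₀ x₁ = 1 := by rw [he₀]; exact hx₁
    have hx₁e₀ : Cfsg.sympForm m F x₁ e₀ = 1 := by rw [hsw, he₀x₁]
    have hN₁x₁ : N₁ *ᵥ x₁ = 0 := by
      rw [hN₁x, ← he₀, hx₁e₀, one_smul]
      exact hvv e₀
    have hGood₁ : Good N₁ := by
      constructor
      · intro x
        rw [hN₁x x, hN₁x]
        simp only [Matrix.mulVec_add, Matrix.mulVec_smul, hN.1, hNe₀, sympForm_add_left,
          sympForm_smul_left, he₀N, he₀e₀]
        simp
      · intro x y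
        simp only [hN₁x, sympForm_add_left, sympForm_add_right, sympForm_smul_left,
          sympForm_smul_right]
        rw [hN.2 x y, hsw e₀ y]
        ring
    have hrange_le : LinearMap.range (Matrix.toLin' N₁) ≤ LinearMap.range (Matrix.toLin' N) := by
      rintro _ ⟨x, rfl⟩
      refine ⟨x + Cfsg.sympForm m F x e₀ • x₁, ?_⟩
      rw [Matrix.toLin'_apply, Matrix.toLin'_apply, hN₁x, Matrix.mulVec_add, Matrix.mulVec_smul,
        he₀]
    have he₀_notin : e₀ ∉ LinearMap.range (Matrix.toLin' N₁) := by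
      rintro ⟨z, hz⟩
      rw [Matrix.toLin'_apply] at hz
      have h1 : Cfsg.sympForm m F e₀ x₁ = 0 := by
        rw [← hz, hGood₁.2, hN₁x₁, sf_zero_right]
      rw [he₀x₁] at h1
      exact one_ne_zero h1
    have he₀_in : e₀ ∈ LinearMap.range (Matrix.toLin' N) :=
      ⟨x₁, by rw [Matrix.toLin'_apply, he₀]⟩
    have hlt : LinearMap.range (Matrix.toLin' N₁) < LinearMap.range (Matrix.toLin' N) :=
      lt_of_le_of_ne hrange_le (fun h => he₀_notin (h ▸ he₀_in))
    have hr1 : N₁.rank < N.rank := Submodule.finrank_lt_finrank_of_lt hlt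
    have he₀ne : e₀ ≠ 0 := by
      intro h0
      rw [h0, sympForm_zero_left] at he₀x₁
      exact zero_ne_one he₀x₁
    have hr2 : N.rank ≤ N₁.rank + 1 := by
      have h1 : LinearMap.range (Matrix.toLin' N) ≤
          LinearMap.range (Matrix.toLin' N₁) ⊔ Submodule.span F {e₀} := by
        rintro _ ⟨x, rfl⟩
        rw [Matrix.toLin'_apply]
        have h0 : N *ᵥ x = N₁ *ᵥ x + (-(Cfsg.sympForm m F x e₀)) • e₀ := by
          rw [hN₁x, neg_smul]
          abel
        rw [h0]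
        exact Submodule.add_mem_sup ⟨x, Matrix.toLin'_apply _ _⟩
          (Submodule.smul_mem _ _ (Submodule.mem_span_singleton_self e₀))
      have h3 := Submodule.finrank_mono h1
      have h4 := Submodule.finrank_add_le_finrank_add_finrank
        (LinearMap.range (Matrix.toLin' N₁)) (Submodule.span F {e₀})
      have h5 : Module.finrank F (Submodule.span F {e₀}) = 1 := finrank_span_singleton he₀ne
      have h6 : N.rank = Module.finrank F (LinearMap.range (Matrix.toLin' N)) := rfl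
      have h7 : N₁.rank = Module.finrank F (LinearMap.range (Matrix.toLin' N₁)) := rfl
      omega
    obtain ⟨e', he'1, he'2⟩ := ih N₁ hGood₁ (by omega) (fun hr0 => by
      obtain ⟨y, hy⟩ := hx₁good hr0
      refine ⟨y, ?_⟩
      rw [hN₁x, sympForm_add_left, sympForm_smul_left, hsw e₀ y, he₀]
      exact hy)
    refine ⟨Fin.cons e₀ e', ?_, ?_⟩
    · intro i
      refine Fin.cases ?_ (fun i => ?_) i
      · exact ⟨x₁, by rw [Fin.cons_zero, he₀]⟩
      · obtain ⟨z, hz⟩ := he'1 i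
        refine ⟨z + Cfsg.sympForm m F z e₀ • x₁, ?_⟩
        rw [Fin.cons_succ, hz, hN₁x, Matrix.mulVec_add, Matrix.mulVec_smul, he₀]
    · intro x
      rw [Fin.sum_univ_succ]
      simp only [Fin.cons_zero, Fin.cons_succ]
      rw [← he'2 x, hN₁x, add_comm (N *ᵥ x) _, ← add_assoc, hvv, zero_add]

lemma structure_alt [CharP F 2] :
    ∀ (r : ℕ) (N : Matrix (Fin m ⊕ Fin m) (Fin m ⊕ Fin m) F), Good N →
    (∀ x, Cfsg.sympForm m F (N *ᵥ x) x = 0) → N.rank = r →
    ∃ s, r = 2 * s ∧ ∃ e d : Fin s → (Fin m ⊕ Fin m → F),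
      (∀ i, ∃ z, e i = N *ᵥ z) ∧ (∀ i, ∃ z, d i = N *ᵥ z) ∧
      ∀ x, N *ᵥ x = ∑ i, (Cfsg.sympForm m F x (d i) • e i + Cfsg.sympForm m F x (e i) • d i) := by
  intro r
  induction r using Nat.strong_induction_on with
  | _ r ih =>
    intro N hN halt hr
    have h2 : (2 : F) = 0 := CharTwo.two_eq_zero
    have hvv : ∀ v : Fin m ⊕ Fin m → F, v + v = 0 := fun v => by
      funext i
      exact CharTwo.add_self_eq_zero (v i)
    have hsw : ∀ u v : Fin m ⊕ Fin m → F, Cfsg.sympForm m F u v = Cfsg.sympForm m F v u := by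
      intro u v
      rw [sympForm_swap, CharTwo.neg_eq]
    by_cases hN0 : ∀ x, N *ᵥ x = 0
    · have h0 : N = 0 := mat_eq_of_mulVec (fun v => by rw [hN0, Matrix.zero_mulVec])
      rw [h0, Matrix.rank_zero] at hr
      refine ⟨0, by omega, Fin.elim0, Fin.elim0, fun i => i.elim0, fun i => i.elim0, fun x => ?_⟩
      rw [hN0]
      simp
    · push Not at hN0
      obtain ⟨z, hz⟩ := hN0
      obtain ⟨w₀, hw₀⟩ := sympForm_nondeg (N *ᵥ z) hz
      obtain ⟨w, hwdef⟩ : ∃ w, w = (Cfsg.sympForm m F (N *ᵥ z) w₀)⁻¹ • w₀ := ⟨_, rfl⟩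
      have hzw : Cfsg.sympForm m F (N *ᵥ z) w = 1 := by
        rw [hwdef, sympForm_smul_right]
        exact inv_mul_cancel₀ hw₀
      obtain ⟨e₀, he₀⟩ : ∃ e₀, e₀ = N *ᵥ z := ⟨_, rfl⟩
      obtain ⟨d₀, hd₀⟩ : ∃ d₀, d₀ = N *ᵥ w := ⟨_, rfl⟩
      have he₀w : Cfsg.sympForm m F e₀ w = 1 := by rw [he₀]; exact hzw
      have hwe₀ : Cfsg.sympForm m F w e₀ = 1 := by rw [hsw, he₀w]
      have hd₀z : Cfsg.sympForm m F d₀ z = 1 := by rw [hd₀, hN.2, ← he₀, hwe₀]
      have hzd₀ : Cfsg.sympForm m F z d₀ = 1 := by rw [hsw, hd₀z]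
      have he₀z : Cfsg.sympForm m F e₀ z = 0 := by rw [he₀]; exact halt z
      have hze₀ : Cfsg.sympForm m F z e₀ = 0 := by rw [hsw, he₀z]
      have hd₀w : Cfsg.sympForm m F d₀ w = 0 := by rw [hd₀]; exact halt w
      have hwd₀ : Cfsg.sympForm m F w d₀ = 0 := by rw [hsw, hd₀w]
      have hNe₀ : N *ᵥ e₀ = 0 := by rw [he₀]; exact hN.1 z
      have hNd₀ : N *ᵥ d₀ = 0 := by rw [hd₀]; exact hN.1 w
      have hNe : ∀ x, Cfsg.sympForm m F (N *ᵥ x) e₀ = 0 := fun x => by
        rw [hN.2, hNe₀, sf_zero_right]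
      have hNd : ∀ x, Cfsg.sympForm m F (N *ᵥ x) d₀ = 0 := fun x => by
        rw [hN.2, hNd₀, sf_zero_right]
      have hee : Cfsg.sympForm m F e₀ e₀ = 0 := sympForm_self m e₀
      have hdd : Cfsg.sympForm m F d₀ d₀ = 0 := sympForm_self m d₀
      have hed : Cfsg.sympForm m F e₀ d₀ = 0 := by
        have h1 := hNd z
        rwa [← he₀] at h1
      have hde : Cfsg.sympForm m F d₀ e₀ = 0 := by rw [hsw, hed]
      obtain ⟨N₁, hN₁def⟩ : ∃ N₁, N₁ = N + ((Cfsg.sympTransvection m (e₀ + d₀) 1 - 1) -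
          (Cfsg.sympTransvection m e₀ 1 - 1) - (Cfsg.sympTransvection m d₀ 1 - 1)) := ⟨_, rfl⟩
      have hN₁x : ∀ x, N₁ *ᵥ x = N *ᵥ x +
          (Cfsg.sympForm m F x d₀ • e₀ + Cfsg.sympForm m F x e₀ • d₀) := by
        intro x
        rw [hN₁def]
        simp only [Matrix.add_mulVec, Matrix.sub_mulVec, sympTransvection_mulVec,
          Matrix.one_mulVec, sympForm_add_right, one_mul]
        module
      have hN₁z : N₁ *ᵥ z = 0 := by
        rw [hN₁x, ← he₀, hzd₀, hze₀, one_smul, zero_smul, add_zero]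
        exact hvv e₀
      have hN₁w : N₁ *ᵥ w = 0 := by
        rw [hN₁x, ← hd₀, hwd₀, hwe₀, one_smul, zero_smul, zero_add]
        exact hvv d₀
      have hGood₁ : Good N₁ := by
        constructor
        · intro x
          rw [hN₁x x, hN₁x]
          simp only [Matrix.mulVec_add, Matrix.mulVec_smul, hN.1, hNe₀, hNd₀, sympForm_add_left,
            sympForm_smul_left, hNd, hNe, hed, hdd, hee, hde]
          simp
        · intro x y
          simp only [hN₁x, sympForm_add_left, sympForm_add_right, sympForm_smul_left,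
            sympForm_smul_right]
          rw [hN.2 x y, hsw e₀ y, hsw d₀ y]
          ring
      have halt₁ : ∀ x, Cfsg.sympForm m F (N₁ *ᵥ x) x = 0 := by
        intro x
        rw [hN₁x, sympForm_add_left, sympForm_add_left, sympForm_smul_left, sympForm_smul_left,
          halt, hsw e₀ x, hsw d₀ x]
        linear_combination (Cfsg.sympForm m F x d₀ * Cfsg.sympForm m F x e₀) * h2
      have hrange_le : LinearMap.range (Matrix.toLin' N₁) ≤
          LinearMap.range (Matrix.toLin' N) := by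
        rintro _ ⟨x, rfl⟩
        refine ⟨x + (Cfsg.sympForm m F x d₀ • z + Cfsg.sympForm m F x e₀ • w), ?_⟩
        rw [Matrix.toLin'_apply, Matrix.toLin'_apply, hN₁x, Matrix.mulVec_add, Matrix.mulVec_add,
          Matrix.mulVec_smul, Matrix.mulVec_smul, he₀, hd₀]
      have he₀_in : e₀ ∈ LinearMap.range (Matrix.toLin' N) :=
        ⟨z, by rw [Matrix.toLin'_apply, he₀]⟩
      have hd₀_in : d₀ ∈ LinearMap.range (Matrix.toLin' N) :=
        ⟨w, by rw [Matrix.toLin'_apply, hd₀]⟩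
      have he₀_notin : e₀ ∉ LinearMap.range (Matrix.toLin' N₁) := by
        rintro ⟨y, hy⟩
        rw [Matrix.toLin'_apply] at hy
        have h1 : Cfsg.sympForm m F e₀ w = 0 := by
          rw [← hy, hGood₁.2, hN₁w, sf_zero_right]
        rw [he₀w] at h1
        exact one_ne_zero h1
      have hd₀_notin : d₀ ∉ LinearMap.range (Matrix.toLin' N₁) ⊔ Submodule.span F {e₀} := by
        intro h
        obtain ⟨u, ⟨y, hy⟩, v, hv, huv⟩ := Submodule.mem_sup.mp h
        obtain ⟨c, rfl⟩ := Submodule.mem_span_singleton.mp hv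
        rw [Matrix.toLin'_apply] at hy
        have h1 : Cfsg.sympForm m F d₀ z = 0 := by
          rw [← huv, sympForm_add_left, sympForm_smul_left, he₀z, mul_zero, add_zero, ← hy,
            hGood₁.2, hN₁z, sf_zero_right]
        rw [hd₀z] at h1
        exact one_ne_zero h1
      have hlt1 : LinearMap.range (Matrix.toLin' N₁) <
          LinearMap.range (Matrix.toLin' N₁) ⊔ Submodule.span F {e₀} :=
        lt_of_le_of_ne le_sup_left (fun h => he₀_notin (h ▸ Submodule.mem_sup_right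
          (Submodule.mem_span_singleton_self e₀)))
      have hle2 : LinearMap.range (Matrix.toLin' N₁) ⊔ Submodule.span F {e₀} ≤
          LinearMap.range (Matrix.toLin' N) :=
        sup_le hrange_le ((Submodule.span_singleton_le_iff_mem _ _).mpr he₀_in)
      have hlt2 : LinearMap.range (Matrix.toLin' N₁) ⊔ Submodule.span F {e₀} <
          LinearMap.range (Matrix.toLin' N) :=
        lt_of_le_of_ne hle2 (fun h => hd₀_notin (h ▸ hd₀_in))
      have hf1 := Submodule.finrank_lt_finrank_of_lt hlt1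
      have hf2 := Submodule.finrank_lt_finrank_of_lt hlt2
      have he₀ne : e₀ ≠ 0 := by
        intro h0
        rw [h0, sympForm_zero_left] at he₀w
        exact zero_ne_one he₀w
      have hd₀ne : d₀ ≠ 0 := by
        intro h0
        rw [h0, sympForm_zero_left] at hd₀z
        exact zero_ne_one hd₀z
      have hup : LinearMap.range (Matrix.toLin' N) ≤
          (LinearMap.range (Matrix.toLin' N₁) ⊔ Submodule.span F {e₀}) ⊔
            Submodule.span F {d₀} := by
        rintro _ ⟨x, rfl⟩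
        rw [Matrix.toLin'_apply]
        have h0 : N *ᵥ x = (N₁ *ᵥ x + (-(Cfsg.sympForm m F x d₀)) • e₀) +
            (-(Cfsg.sympForm m F x e₀)) • d₀ := by
          rw [hN₁x, neg_smul, neg_smul]
          abel
        rw [h0]
        exact Submodule.add_mem_sup (Submodule.add_mem_sup ⟨x, Matrix.toLin'_apply _ _⟩
          (Submodule.smul_mem _ _ (Submodule.mem_span_singleton_self e₀)))
          (Submodule.smul_mem _ _ (Submodule.mem_span_singleton_self d₀))
      have h3 := Submodule.finrank_mono hup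
      have h4 := Submodule.finrank_add_le_finrank_add_finrank
        (LinearMap.range (Matrix.toLin' N₁) ⊔ Submodule.span F {e₀}) (Submodule.span F {d₀})
      have h4' := Submodule.finrank_add_le_finrank_add_finrank
        (LinearMap.range (Matrix.toLin' N₁)) (Submodule.span F {e₀})
      have h5 : Module.finrank F (Submodule.span F {e₀}) = 1 := finrank_span_singleton he₀ne
      have h5' : Module.finrank F (Submodule.span F {d₀}) = 1 := finrank_span_singleton hd₀ne
      have h6 : N.rank = Module.finrank F (LinearMap.range (Matrix.toLin' N)) := rfl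
      have h7 : N₁.rank = Module.finrank F (LinearMap.range (Matrix.toLin' N₁)) := rfl
      have hrk : N.rank = N₁.rank + 2 := by omega
      obtain ⟨s', hs', e', d', he', hd', hsum'⟩ := ih N₁.rank (by omega) N₁ hGood₁ halt₁ rfl
      refine ⟨s' + 1, by omega, Fin.cons e₀ e', Fin.cons d₀ d', ?_, ?_, ?_⟩
      · intro i
        refine Fin.cases ?_ (fun i => ?_) i
        · exact ⟨z, by rw [Fin.cons_zero, he₀]⟩
        · obtain ⟨z', hz'⟩ := he' i
          refine ⟨z' + (Cfsg.sympForm m F z' d₀ • z + Cfsg.sympForm m F z' e₀ • w), ?_⟩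
          rw [Fin.cons_succ, hz', hN₁x, Matrix.mulVec_add, Matrix.mulVec_add, Matrix.mulVec_smul,
            Matrix.mulVec_smul, he₀, hd₀]
      · intro i
        refine Fin.cases ?_ (fun i => ?_) i
        · exact ⟨w, by rw [Fin.cons_zero, hd₀]⟩
        · obtain ⟨z', hz'⟩ := hd' i
          refine ⟨z' + (Cfsg.sympForm m F z' d₀ • z + Cfsg.sympForm m F z' e₀ • w), ?_⟩
          rw [Fin.cons_succ, hz', hN₁x, Matrix.mulVec_add, Matrix.mulVec_add, Matrix.mulVec_smul,
            Matrix.mulVec_smul, he₀, hd₀]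
      · intro x
        rw [Fin.sum_univ_succ]
        simp only [Fin.cons_zero, Fin.cons_succ]
        rw [← hsum' x, hN₁x, add_comm (N *ᵥ x) _, ← add_assoc, hvv, zero_add]

lemma li_of_span (N : Matrix (Fin m ⊕ Fin m) (Fin m ⊕ Fin m) F) {k : ℕ} (hr : N.rank = k)
    (E : Fin k → (Fin m ⊕ Fin m → F)) (hE : ∀ i, ∃ z, E i = N *ᵥ z)
    (hsp : ∀ x, N *ᵥ x ∈ Submodule.span F (Set.range E)) : LinearIndependent F E := by
  rw [linearIndependent_iff_card_eq_finrank_span, Fintype.card_fin]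
  have h1 : Submodule.span F (Set.range E) = LinearMap.range (Matrix.toLin' N) := by
    apply le_antisymm
    · rw [Submodule.span_le]
      rintro _ ⟨i, rfl⟩
      obtain ⟨z, hz⟩ := hE i
      exact ⟨z, by rw [Matrix.toLin'_apply, hz]⟩
    · rintro _ ⟨x, rfl⟩
      rw [Matrix.toLin'_apply]
      exact hsp x
  rw [Set.finrank, h1]
  exact hr.symm

lemma gram_zero (N : Matrix (Fin m ⊕ Fin m) (Fin m ⊕ Fin m) F) (hN : Good N) {k : ℕ}
    (E : Fin k → (Fin m ⊕ Fin m → F)) (hE : ∀ i, ∃ z, E i = N *ᵥ z) :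
    ∀ i j, Cfsg.sympForm m F (E i) (E j) = 0 := by
  intro i j
  obtain ⟨zi, hzi⟩ := hE i
  obtain ⟨zj, hzj⟩ := hE j
  rw [hzi, hzj, hN.2, hN.1, sf_zero_right]

lemma conj_of_tuples (a b : Matrix.symplecticGroup (Fin m) F) {k : ℕ}
    (E E' G G' : Fin k → (Fin m ⊕ Fin m → F))
    (hA : ∀ x, ((a : Matrix (Fin m ⊕ Fin m) (Fin m ⊕ Fin m) F) - 1) *ᵥ x =
      ∑ i, Cfsg.sympForm m F x (E i) • E' i)
    (hB : ∀ x, ((b : Matrix (Fin m ⊕ Fin m) (Fin m ⊕ Fin m) F) - 1) *ᵥ x =
      ∑ i, Cfsg.sympForm m F x (G i) • G' i)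
    (g : Matrix.symplecticGroup (Fin m) F)
    (hg : ∀ i, (g : Matrix (Fin m ⊕ Fin m) (Fin m ⊕ Fin m) F) *ᵥ E i = G i)
    (hg' : ∀ i, (g : Matrix (Fin m ⊕ Fin m) (Fin m ⊕ Fin m) F) *ᵥ E' i = G' i) : IsConj a b := by
  rw [isConj_iff]
  refine ⟨g, ?_⟩
  rw [mul_inv_eq_iff_eq_mul]
  apply Subtype.ext
  change (g : Matrix (Fin m ⊕ Fin m) (Fin m ⊕ Fin m) F) *
    (a : Matrix (Fin m ⊕ Fin m) (Fin m ⊕ Fin m) F) =
    (b : Matrix (Fin m ⊕ Fin m) (Fin m ⊕ Fin m) F) *
    (g : Matrix (Fin m ⊕ Fin m) (Fin m ⊕ Fin m) F)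
  apply mat_eq_of_mulVec
  intro x
  have hAx : ∀ x, (a : Matrix (Fin m ⊕ Fin m) (Fin m ⊕ Fin m) F) *ᵥ x =
      x + ∑ i, Cfsg.sympForm m F x (E i) • E' i := by
    intro x
    rw [← hA x, Matrix.sub_mulVec, Matrix.one_mulVec]
    abel
  have hBx : ∀ x, (b : Matrix (Fin m ⊕ Fin m) (Fin m ⊕ Fin m) F) *ᵥ x =
      x + ∑ i, Cfsg.sympForm m F x (G i) • G' i := by
    intro x
    rw [← hB x, Matrix.sub_mulVec, Matrix.one_mulVec]
    abel
  rw [← Matrix.mulVec_mulVec, ← Matrix.mulVec_mulVec, hAx, hBx, Matrix.mulVec_add,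
    Matrix.mulVec_sum]
  congr 1
  apply Finset.sum_congr rfl
  intro i _
  rw [Matrix.mulVec_smul, hg', ← hg i, sympForm_mulVec_of_mem g.2]

lemma card_conj (a b c : Matrix.symplecticGroup (Fin m) F) (h : c * a * c⁻¹ = b) :
    Nat.card {v : Fin m ⊕ Fin m → F // Cfsg.sympForm m F v
      ((a : Matrix (Fin m ⊕ Fin m) (Fin m ⊕ Fin m) F) *ᵥ v) = 0} =
    Nat.card {v : Fin m ⊕ Fin m → F // Cfsg.sympForm m F v
      ((b : Matrix (Fin m ⊕ Fin m) (Fin m ⊕ Fin m) F) *ᵥ v) = 0} := by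
  have hbc : ∀ v, (b : Matrix (Fin m ⊕ Fin m) (Fin m ⊕ Fin m) F) *ᵥ
      ((c : Matrix (Fin m ⊕ Fin m) (Fin m ⊕ Fin m) F) *ᵥ v) =
      (c : Matrix (Fin m ⊕ Fin m) (Fin m ⊕ Fin m) F) *ᵥ
      ((a : Matrix (Fin m ⊕ Fin m) (Fin m ⊕ Fin m) F) *ᵥ v) := by
    intro v
    have h1 : b * c = c * a := by rw [← h]; group
    have h2 : (b : Matrix (Fin m ⊕ Fin m) (Fin m ⊕ Fin m) F) *
        (c : Matrix (Fin m ⊕ Fin m) (Fin m ⊕ Fin m) F) =
        (c : Matrix (Fin m ⊕ Fin m) (Fin m ⊕ Fin m) F) *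
        (a : Matrix (Fin m ⊕ Fin m) (Fin m ⊕ Fin m) F) := congrArg Subtype.val h1
    rw [Matrix.mulVec_mulVec, Matrix.mulVec_mulVec, h2]
  apply Nat.card_congr
  refine Equiv.subtypeEquiv
    ⟨fun v => (c : Matrix (Fin m ⊕ Fin m) (Fin m ⊕ Fin m) F) *ᵥ v,
     fun v => ((c⁻¹ : Matrix.symplecticGroup (Fin m) F) :
        Matrix (Fin m ⊕ Fin m) (Fin m ⊕ Fin m) F) *ᵥ v,
     coe_inv_mulVec_cancel' c, coe_inv_mulVec_cancel c⟩ (fun v => ?_)
  change Cfsg.sympForm m F v ((a : Matrix (Fin m ⊕ Fin m) (Fin m ⊕ Fin m) F) *ᵥ v) = 0 ↔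
    Cfsg.sympForm m F ((c : Matrix (Fin m ⊕ Fin m) (Fin m ⊕ Fin m) F) *ᵥ v)
      ((b : Matrix (Fin m ⊕ Fin m) (Fin m ⊕ Fin m) F) *ᵥ
        ((c : Matrix (Fin m ⊕ Fin m) (Fin m ⊕ Fin m) F) *ᵥ v)) = 0
  rw [hbc, sympForm_mulVec_of_mem c.2]

lemma rank_conj (a b c : Matrix.symplecticGroup (Fin m) F) (h : c * a * c⁻¹ = b) :
    ((a : Matrix (Fin m ⊕ Fin m) (Fin m ⊕ Fin m) F) - 1).rank =
    ((b : Matrix (Fin m ⊕ Fin m) (Fin m ⊕ Fin m) F) - 1).rank := by
  have h2 : (b : Matrix (Fin m ⊕ Fin m) (Fin m ⊕ Fin m) F) =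
      (c : Matrix (Fin m ⊕ Fin m) (Fin m ⊕ Fin m) F) *
      (a : Matrix (Fin m ⊕ Fin m) (Fin m ⊕ Fin m) F) *
      ((c⁻¹ : Matrix.symplecticGroup (Fin m) F) :
        Matrix (Fin m ⊕ Fin m) (Fin m ⊕ Fin m) F) := by
    rw [← h]; rfl
  have h3 : (c : Matrix (Fin m ⊕ Fin m) (Fin m ⊕ Fin m) F) *
      ((c⁻¹ : Matrix.symplecticGroup (Fin m) F) :
        Matrix (Fin m ⊕ Fin m) (Fin m ⊕ Fin m) F) = 1 := congrArg Subtype.val (mul_inv_cancel c)
  have h1 : (b : Matrix (Fin m ⊕ Fin m) (Fin m ⊕ Fin m) F) - 1 =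
      (c : Matrix (Fin m ⊕ Fin m) (Fin m ⊕ Fin m) F) *
      ((a : Matrix (Fin m ⊕ Fin m) (Fin m ⊕ Fin m) F) - 1) *
      ((c⁻¹ : Matrix.symplecticGroup (Fin m) F) :
        Matrix (Fin m ⊕ Fin m) (Fin m ⊕ Fin m) F) := by
    rw [h2, Matrix.mul_sub, Matrix.sub_mul, Matrix.mul_one, h3]
  rw [h1, Matrix.rank_mul_eq_left_of_isUnit_det _ _ (SymplecticGroup.symplectic_det (c⁻¹).2),
    Matrix.rank_mul_eq_right_of_isUnit_det _ _ (SymplecticGroup.symplectic_det c.2)]

lemma alt_iff_card [Fintype F] (a : Matrix.symplecticGroup (Fin m) F) :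
    (∀ x, Cfsg.sympForm m F (((a : Matrix (Fin m ⊕ Fin m) (Fin m ⊕ Fin m) F) - 1) *ᵥ x) x = 0) ↔
    Nat.card {v : Fin m ⊕ Fin m → F // Cfsg.sympForm m F v
      ((a : Matrix (Fin m ⊕ Fin m) (Fin m ⊕ Fin m) F) *ᵥ v) = 0} =
      Nat.card (Fin m ⊕ Fin m → F) := by
  classical
  have hkey : ∀ v, Cfsg.sympForm m F
      (((a : Matrix (Fin m ⊕ Fin m) (Fin m ⊕ Fin m) F) - 1) *ᵥ v) v = 0 ↔
      Cfsg.sympForm m F v ((a : Matrix (Fin m ⊕ Fin m) (Fin m ⊕ Fin m) F) *ᵥ v) = 0 := by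
    intro v
    rw [Matrix.sub_mulVec, Matrix.one_mulVec, sympForm_sub_left, sympForm_self, sub_zero,
      sympForm_swap, neg_eq_zero]
  constructor
  · intro h
    exact Nat.card_congr (Equiv.subtypeUnivEquiv (fun v => (hkey v).mp (h v)))
  · intro h
    by_contra hcon
    push Not at hcon
    obtain ⟨x, hx⟩ := hcon
    have hx' : ¬ Cfsg.sympForm m F x
        ((a : Matrix (Fin m ⊕ Fin m) (Fin m ⊕ Fin m) F) *ᵥ x) = 0 := fun h0 =>
      hx ((hkey x).mpr h0)
    have h3 := Fintype.card_subtype_lt (p := fun v : Fin m ⊕ Fin m → F =>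
      Cfsg.sympForm m F v ((a : Matrix (Fin m ⊕ Fin m) (Fin m ⊕ Fin m) F) *ᵥ v) = 0) hx'
    rw [← Nat.card_eq_fintype_card, ← Nat.card_eq_fintype_card] at h3
    omega

theorem main [Fintype F] [CharP F 2] (a b : Matrix.symplecticGroup (Fin m) F)
    (ha : orderOf a = 2) (hb : orderOf b = 2) :
    IsConj a b ↔ (((a : Matrix (Fin m ⊕ Fin m) (Fin m ⊕ Fin m) F) - 1).rank =
      ((b : Matrix (Fin m ⊕ Fin m) (Fin m ⊕ Fin m) F) - 1).rank ∧
      (Even ((a : Matrix (Fin m ⊕ Fin m) (Fin m ⊕ Fin m) F) - 1).rank →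
        Nat.card {v : Fin m ⊕ Fin m → F // Cfsg.sympForm m F v
          ((a : Matrix (Fin m ⊕ Fin m) (Fin m ⊕ Fin m) F) *ᵥ v) = 0} =
        Nat.card {v : Fin m ⊕ Fin m → F // Cfsg.sympForm m F v
          ((b : Matrix (Fin m ⊕ Fin m) (Fin m ⊕ Fin m) F) *ᵥ v) = 0})) := by
  classical
  constructor
  · intro h
    obtain ⟨c, hc⟩ := isConj_iff.mp h
    exact ⟨rank_conj a b c hc, fun _ => card_conj a b c hc⟩
  · rintro ⟨hrk, hcard⟩
    have hsq : ∀ x : Matrix.symplecticGroup (Fin m) F, orderOf x = 2 →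
        (x : Matrix (Fin m ⊕ Fin m) (Fin m ⊕ Fin m) F) *
        (x : Matrix (Fin m ⊕ Fin m) (Fin m ⊕ Fin m) F) = 1 := by
      intro x hx
      have h1 : x ^ 2 = 1 := by rw [← hx]; exact pow_orderOf_eq_one x
      rw [pow_two] at h1
      exact congrArg Subtype.val h1
    have hGA := good_of_inv (a : Matrix (Fin m ⊕ Fin m) (Fin m ⊕ Fin m) F) a.2 (hsq a ha)
    have hGB := good_of_inv (b : Matrix (Fin m ⊕ Fin m) (Fin m ⊕ Fin m) F) b.2 (hsq b hb)
    obtain ⟨r, hr⟩ : ∃ r, ((a : Matrix (Fin m ⊕ Fin m) (Fin m ⊕ Fin m) F) - 1).rank = r :=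
      ⟨_, rfl⟩
    have hr' : ((b : Matrix (Fin m ⊕ Fin m) (Fin m ⊕ Fin m) F) - 1).rank = r := by
      rw [← hrk, hr]
    rw [hr] at hcard
    have htype : (∀ x, Cfsg.sympForm m F
        (((a : Matrix (Fin m ⊕ Fin m) (Fin m ⊕ Fin m) F) - 1) *ᵥ x) x = 0) ↔
        (∀ x, Cfsg.sympForm m F
        (((b : Matrix (Fin m ⊕ Fin m) (Fin m ⊕ Fin m) F) - 1) *ᵥ x) x = 0) := by
      constructor
      · intro hA
        obtain ⟨s, hs, -⟩ := structure_alt r _ hGA hA hr
        have hc := hcard (by rw [hs]; exact even_two_mul s)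
        apply (alt_iff_card b).mpr
        rw [← hc]
        exact (alt_iff_card a).mp hA
      · intro hB
        obtain ⟨s, hs, -⟩ := structure_alt r _ hGB hB hr'
        have hc := hcard (by rw [hs]; exact even_two_mul s)
        apply (alt_iff_card a).mpr
        rw [hc]
        exact (alt_iff_card b).mp hB
    by_cases hA : ∀ x, Cfsg.sympForm m F
        (((a : Matrix (Fin m ⊕ Fin m) (Fin m ⊕ Fin m) F) - 1) *ᵥ x) x = 0
    · have hB := htype.mp hA
      obtain ⟨s, hs, e, d, he, hd, hsum⟩ := structure_alt r _ hGA hA hr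
      obtain ⟨s', hs', e', d', he', hd', hsum'⟩ := structure_alt r _ hGB hB hr'
      obtain rfl : s' = s := by omega
      have hrs : ((a : Matrix (Fin m ⊕ Fin m) (Fin m ⊕ Fin m) F) - 1).rank = s' + s' := by omega
      have hrs' : ((b : Matrix (Fin m ⊕ Fin m) (Fin m ⊕ Fin m) F) - 1).rank = s' + s' := by omega
      have hE : ∀ i, ∃ z, Fin.append e d i =
          ((a : Matrix (Fin m ⊕ Fin m) (Fin m ⊕ Fin m) F) - 1) *ᵥ z := fun i =>
        Fin.addCases (motive := fun i => ∃ z, Fin.append e d i =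
          ((a : Matrix (Fin m ⊕ Fin m) (Fin m ⊕ Fin m) F) - 1) *ᵥ z)
          (fun j => by rw [Fin.append_left]; exact he j)
          (fun j => by rw [Fin.append_right]; exact hd j) i
      have hG : ∀ i, ∃ z, Fin.append e' d' i =
          ((b : Matrix (Fin m ⊕ Fin m) (Fin m ⊕ Fin m) F) - 1) *ᵥ z := fun i =>
        Fin.addCases (motive := fun i => ∃ z, Fin.append e' d' i =
          ((b : Matrix (Fin m ⊕ Fin m) (Fin m ⊕ Fin m) F) - 1) *ᵥ z)
          (fun j => by rw [Fin.append_left]; exact he' j)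
          (fun j => by rw [Fin.append_right]; exact hd' j) i
      have hliE : LinearIndependent F (Fin.append e d) := by
        apply li_of_span _ hrs _ hE
        intro x
        rw [hsum x]
        refine Submodule.sum_mem _ fun i _ => Submodule.add_mem _
          (Submodule.smul_mem _ _ (Submodule.subset_span ⟨Fin.castAdd s' i, Fin.append_left e d i⟩))
          (Submodule.smul_mem _ _ (Submodule.subset_span ⟨Fin.natAdd s' i, Fin.append_right e d i⟩))
      have hliG : LinearIndependent F (Fin.append e' d') := by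
        apply li_of_span _ hrs' _ hG
        intro x
        rw [hsum' x]
        refine Submodule.sum_mem _ fun i _ => Submodule.add_mem _
          (Submodule.smul_mem _ _ (Submodule.subset_span
            ⟨Fin.castAdd s' i, Fin.append_left e' d' i⟩))
          (Submodule.smul_mem _ _ (Submodule.subset_span
            ⟨Fin.natAdd s' i, Fin.append_right e' d' i⟩))
      obtain ⟨g, hg⟩ := sp_witt_tuple (s' + s') (Fin.append e d) (Fin.append e' d') hliE hliG
        (fun i j => by rw [gram_zero _ hGA _ hE, gram_zero _ hGB _ hG])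
      have hge : ∀ j, (g : Matrix (Fin m ⊕ Fin m) (Fin m ⊕ Fin m) F) *ᵥ e j = e' j := fun j => by
        have := hg (Fin.castAdd s' j)
        rwa [Fin.append_left, Fin.append_left] at this
      have hgd : ∀ j, (g : Matrix (Fin m ⊕ Fin m) (Fin m ⊕ Fin m) F) *ᵥ d j = d' j := fun j => by
        have := hg (Fin.natAdd s' j)
        rwa [Fin.append_right, Fin.append_right] at this
      have hg' : ∀ i, (g : Matrix (Fin m ⊕ Fin m) (Fin m ⊕ Fin m) F) *ᵥ Fin.append d e i =
          Fin.append d' e' i := fun i =>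
        Fin.addCases (motive := fun i =>
          (g : Matrix (Fin m ⊕ Fin m) (Fin m ⊕ Fin m) F) *ᵥ Fin.append d e i =
          Fin.append d' e' i)
          (fun j => by rw [Fin.append_left, Fin.append_left]; exact hgd j)
          (fun j => by rw [Fin.append_right, Fin.append_right]; exact hge j) i
      refine conj_of_tuples a b (Fin.append e d) (Fin.append d e) (Fin.append e' d')
        (Fin.append d' e') ?_ ?_ g hg hg'
      · intro x
        rw [hsum x, Fin.sum_univ_add]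
        simp only [Fin.append_left, Fin.append_right]
        rw [Finset.sum_add_distrib]
        exact add_comm _ _
      · intro x
        rw [hsum' x, Fin.sum_univ_add]
        simp only [Fin.append_left, Fin.append_right]
        rw [Finset.sum_add_distrib]
        exact add_comm _ _
    · have hB : ¬ ∀ x, Cfsg.sympForm m F
          (((b : Matrix (Fin m ⊕ Fin m) (Fin m ⊕ Fin m) F) - 1) *ᵥ x) x = 0 := fun h =>
        hA (htype.mpr h)
      push Not at hA hB
      obtain ⟨e, he1, he2⟩ := structure_nonalt r _ hGA hr (fun _ => hA)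
      obtain ⟨e', he'1, he'2⟩ := structure_nonalt r _ hGB hr' (fun _ => hB)
      have hli : LinearIndependent F e := by
        apply li_of_span _ hr _ he1
        intro x
        rw [he2 x]
        exact Submodule.sum_mem _ fun i _ =>
          Submodule.smul_mem _ _ (Submodule.subset_span ⟨i, rfl⟩)
      have hli' : LinearIndependent F e' := by
        apply li_of_span _ hr' _ he'1
        intro x
        rw [he'2 x]
        exact Submodule.sum_mem _ fun i _ =>
          Submodule.smul_mem _ _ (Submodule.subset_span ⟨i, rfl⟩)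
      obtain ⟨g, hg⟩ := sp_witt_tuple r e e' hli hli'
        (fun i j => by rw [gram_zero _ hGA _ he1, gram_zero _ hGB _ he'1])
      exact conj_of_tuples a b e e e' e' he2 he'2 g hg hg

end S2166aux
end Aux

/-- Conjugacy of involutions in the symplectic group Sp_{2m}(F), F a finite field of characteristic two, m ≥ 2 (Sp taken as the matrices A with A J Aᵀ = J, acting on column vectors, with the alternating form f(u, v) = u ⬝ (J v)). For an involution t write V(t) for the set of vectors v with f(v, t v) = 0 (a subspace). Two involutions a, b are conjugate in Sp_{2m}(F) exactly when a − 1 and b − 1 have the same rank and, in case that rank is even, V(a) and V(b) have the same number of elements. -/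
theorem result {F : Type*} [Field F] [Fintype F] [CharP F 2] {m : ℕ} (hm : 2 ≤ m) (a b : ↥(Matrix.symplecticGroup (Fin m) F)) (ha : orderOf a = 2) (hb : orderOf b = 2) :
    IsConj a b ↔ ((((a : ↥(Matrix.symplecticGroup (Fin m) F)) : Matrix (Fin m ⊕ Fin m) (Fin m ⊕ Fin m) F) - 1).rank = (((b : ↥(Matrix.symplecticGroup (Fin m) F)) : Matrix (Fin m ⊕ Fin m) (Fin m ⊕ Fin m) F) - 1).rank ∧
      (Even (((a : ↥(Matrix.symplecticGroup (Fin m) F)) : Matrix (Fin m ⊕ Fin m) (Fin m ⊕ Fin m) F) - 1).rank → Nat.card {v : Fin m ⊕ Fin m → F // Cfsg.sympForm m F v (Matrix.mulVec ((a : ↥(Matrix.symplecticGroup (Fin m) F)) : Matrix (Fin m ⊕ Fin m) (Fin m ⊕ Fin m) F) v) = 0} = Nat.card {v : Fin m ⊕ Fin m → F // Cfsg.sympForm m F v (Matrix.mulVec ((b : ↥(Matrix.symplecticGroup (Fin m) F)) : Matrix (Fin m ⊕ Fin m) (Fin m ⊕ Fin m) F) v) = 0})) := by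
  exact S2166aux.main a b ha hb

end Cfsg.Agent.S2166
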