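import Cfsg.Statements.S0775
-- import your own Cfsg.Agent.* helpers here
import Cfsg.Agent.S2166
import Cfsg.Agent.Lib.Helper14.SympCount

set_option autoImplicit false
open Cfsg

namespace Cfsg.Agent.S0775

open Cfsg Matrix Cfsg.Agent.Lib.Helper5 Cfsg.Agent.S2166.S2166aux

variable {F : Type*} [Field F] {m : ℕ}

/-- totally isotropic linearly independent tuples -/
def TI (k : ℕ) (x : Fin k → (Fin m ⊕ Fin m → F)) : Prop :=
  LinearIndependent F x ∧ ∀ i j, sympForm m F (x i) (x j) = 0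

lemma TI_cons (k : ℕ) (v : Fin m ⊕ Fin m → F) (x : Fin k → (Fin m ⊕ Fin m → F)) :
    TI (k + 1) (Fin.cons v x : Fin (k + 1) → (Fin m ⊕ Fin m → F)) ↔
      TI k x ∧ (v ∉ Submodule.span F (Set.range x) ∧ ∀ i, sympForm m F (x i) v = 0) := by
  unfold TI
  rw [linearIndependent_finCons]
  constructor
  · rintro ⟨⟨h1, h2⟩, h3⟩
    refine ⟨⟨h1, fun i j => ?_⟩, h2, fun i => ?_⟩
    · have := h3 i.succ j.succ
      simpa using this
    · have := h3 i.succ 0
      simpa using this
  · rintro ⟨⟨h1, h3⟩, h2, h4⟩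
    refine ⟨⟨h1, h2⟩, fun i j => ?_⟩
    refine Fin.cases ?_ (fun i' => ?_) i
    · refine Fin.cases ?_ (fun j' => ?_) j
      · simp only [Fin.cons_zero]
        exact sympForm_self m v
      · simp only [Fin.cons_zero, Fin.cons_succ]
        rw [sympForm_swap, h4, neg_zero]
    · refine Fin.cases ?_ (fun j' => ?_) j
      · simp only [Fin.cons_zero, Fin.cons_succ]
        exact h4 i'
      · simp only [Fin.cons_succ]
        exact h3 i' j'

/-- peeling off the first vector -/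
def consEquiv (k : ℕ) (V : Type*) : (Fin (k + 1) → V) ≃ V × (Fin k → V) where
  toFun s := (s 0, Fin.tail s)
  invFun p := Fin.cons p.1 p.2
  left_inv s := Fin.cons_self_tail s
  right_inv := by
    rintro ⟨v, s⟩
    simp

def tiEquiv (k : ℕ) :
    {s : Fin (k + 1) → (Fin m ⊕ Fin m → F) // TI (k + 1) s} ≃
      {p : (Fin m ⊕ Fin m → F) × (Fin k → (Fin m ⊕ Fin m → F)) //
        TI k p.2 ∧ (p.1 ∉ Submodule.span F (Set.range p.2) ∧
          ∀ i, sympForm m F (p.2 i) p.1 = 0)} :=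
  (consEquiv k _).subtypeEquiv (fun s => by
    rw [← TI_cons]
    show TI (k + 1) s ↔ TI (k + 1) (Fin.cons (s 0) (Fin.tail s))
    rw [Fin.cons_self_tail])

/-- fibrewise counting -/
lemma card_prod_fiber {A B : Type*} [Finite A] [Finite B] (P : A → Prop) (Q : A → B → Prop) (c : ℕ)
    (h : ∀ a, P a → Nat.card {b // Q a b} = c) :
    Nat.card {p : B × A // P p.2 ∧ Q p.2 p.1} = Nat.card {a // P a} * c := by
  classical
  have := Fintype.ofFinite A
  let e : {p : B × A // P p.2 ∧ Q p.2 p.1} ≃ Σ a : {a // P a}, {b // Q a.1 b} :=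
    { toFun := fun p => ⟨⟨p.1.2, p.2.1⟩, ⟨p.1.1, p.2.2⟩⟩
      invFun := fun x => ⟨(x.2.1, x.1.1), x.1.2, x.2.2⟩
      left_inv := fun _ => rfl
      right_inv := fun _ => rfl }
  rw [Nat.card_congr e, Nat.card_sigma]
  rw [Finset.sum_congr rfl (fun a _ => h a.1 a.2), Finset.sum_const, Finset.card_univ,
    smul_eq_mul, Nat.card_eq_fintype_card]

section count

variable [Fintype F]

/-- pairing against the vectors of a tuple -/
noncomputable def perpMap (k : ℕ) (s : Fin k → (Fin m ⊕ Fin m → F)) :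
    (Fin m ⊕ Fin m → F) →ₗ[F] (Fin k → F) :=
  LinearMap.pi (fun i => fB m F (s i))

omit [Fintype F] in
lemma perpMap_apply (k : ℕ) (s : Fin k → (Fin m ⊕ Fin m → F)) (v : Fin m ⊕ Fin m → F)
    (i : Fin k) : perpMap k s v i = sympForm m F (s i) v := rfl

omit [Fintype F] in
lemma perpMap_surjective (k : ℕ) (s : Fin k → (Fin m ⊕ Fin m → F))
    (hs : LinearIndependent F s) : Function.Surjective (perpMap k s) := by
  classical
  have hex : ∀ i : Fin k, ∃ e : Fin m ⊕ Fin m → F, ∀ j, sympForm m F (s j) e =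
      if j = i then 1 else 0 := by
    intro i
    have hw : s i ∉ Submodule.span F (s '' {j | j ≠ i}) :=
      hs.notMem_span_image (by simp)
    obtain ⟨e, he1, he2⟩ := exists_sep _ (s i) hw (-1)
    refine ⟨e, fun j => ?_⟩
    by_cases hj : j = i
    · rw [if_pos hj, hj, sympForm_swap, he2, neg_neg]
    · rw [if_neg hj, sympForm_swap, he1 _ (Submodule.subset_span ⟨j, hj, rfl⟩), neg_zero]
  choose e he using hex
  intro c
  refine ⟨∑ i, c i • e i, ?_⟩
  funext j
  rw [perpMap_apply, Cfsg.Agent.Lib.Helper14.sympForm_sum_right]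
  simp only [sympForm_smul_right, he]
  simp

lemma card_perp (k : ℕ) (s : Fin k → (Fin m ⊕ Fin m → F)) (hs : LinearIndependent F s) :
    Nat.card (LinearMap.ker (perpMap k s)) = Fintype.card F ^ (2 * m - k) := by
  have h1 := LinearMap.finrank_range_add_finrank_ker (perpMap k s)
  rw [LinearMap.range_eq_top.2 (perpMap_surjective k s hs), finrank_top,
    Module.finrank_fintype_fun_eq_card, Module.finrank_fintype_fun_eq_card, Fintype.card_fin,
    Fintype.card_sum, Fintype.card_fin] at h1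
  rw [Module.natCard_eq_pow_finrank (K := F), Nat.card_eq_fintype_card]
  congr 1
  omega

lemma card_fiber (k : ℕ) (s : Fin k → (Fin m ⊕ Fin m → F)) (hs : TI k s) :
    Nat.card {v : Fin m ⊕ Fin m → F // v ∉ Submodule.span F (Set.range s) ∧
      ∀ i, sympForm m F (s i) v = 0} =
      Fintype.card F ^ (2 * m - k) - Fintype.card F ^ k := by
  have hle : (Submodule.span F (Set.range s) : Set (Fin m ⊕ Fin m → F)) ⊆
      (LinearMap.ker (perpMap k s) : Set (Fin m ⊕ Fin m → F)) := by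
    intro v hv
    rw [SetLike.mem_coe] at hv ⊢
    refine Submodule.span_induction ?_ ?_ ?_ ?_ hv
    · rintro _ ⟨j, rfl⟩
      rw [LinearMap.mem_ker]
      funext i
      rw [perpMap_apply]
      exact hs.2 i j
    · exact Submodule.zero_mem _
    · intro x y _ _ hx hy
      exact Submodule.add_mem _ hx hy
    · intro a x _ hx
      exact Submodule.smul_mem _ a hx
  have h1 : {v : Fin m ⊕ Fin m → F | v ∉ Submodule.span F (Set.range s) ∧
      ∀ i, sympForm m F (s i) v = 0} =
      (LinearMap.ker (perpMap k s) : Set (Fin m ⊕ Fin m → F)) \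
        (Submodule.span F (Set.range s) : Set (Fin m ⊕ Fin m → F)) := by
    ext v
    simp only [Set.mem_ofPred_eq, Set.mem_sdiff, SetLike.mem_coe, LinearMap.mem_ker]
    constructor
    · rintro ⟨h1, h2⟩
      exact ⟨funext fun i => h2 i, h1⟩
    · rintro ⟨h1, h2⟩
      exact ⟨h2, fun i => congrFun h1 i⟩
  have h2 : Nat.card (Submodule.span F (Set.range s)) = Fintype.card F ^ k := by
    rw [Module.natCard_eq_pow_finrank (K := F), finrank_span_eq_card hs.1, Fintype.card_fin,
      Nat.card_eq_fintype_card]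
  have h3 := card_perp k s hs.1
  show Nat.card ↥{v : Fin m ⊕ Fin m → F | v ∉ Submodule.span F (Set.range s) ∧
      ∀ i, sympForm m F (s i) v = 0} = _
  rw [h1, Nat.card_coe_set_eq, Set.ncard_sdiff hle (Set.toFinite _), ← Nat.card_coe_set_eq,
    ← Nat.card_coe_set_eq]
  rw [← h2, ← h3]
  rfl

theorem card_TI (k : ℕ) :
    Nat.card {s : Fin k → (Fin m ⊕ Fin m → F) // TI k s} =
      ∏ i ∈ Finset.range k, (Fintype.card F ^ (2 * m - i) - Fintype.card F ^ i) := by
  induction k with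
  | zero =>
    rw [Finset.prod_range_zero, Nat.card_eq_one_iff_unique]
    refine ⟨⟨?_⟩, ⟨⟨fun i => i.elim0, linearIndependent_empty_type, fun i => i.elim0⟩⟩⟩
    rintro ⟨a, _⟩ ⟨b, _⟩
    apply Subtype.ext
    funext i
    exact i.elim0
  | succ k ih =>
    rw [Nat.card_congr (tiEquiv k), Finset.prod_range_succ, ← ih]
    exact card_prod_fiber (fun s => TI k s) (fun s v => v ∉ Submodule.span F (Set.range s) ∧
      ∀ i, sympForm m F (s i) v = 0) _ (fun s hs => card_fiber k s hs)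

end count

section action

/-- tuples of vectors, with the action of the symplectic group -/
def Tup (F : Type*) (m k : ℕ) := Fin k → (Fin m ⊕ Fin m → F)

instance tupAction (k : ℕ) : MulAction (Matrix.symplecticGroup (Fin m) F) (Tup F m k) where
  smul A x := fun i => (A : Matrix (Fin m ⊕ Fin m) (Fin m ⊕ Fin m) F) *ᵥ x i
  one_smul x := by
    funext i
    show ((1 : Matrix.symplecticGroup (Fin m) F) : Matrix (Fin m ⊕ Fin m) (Fin m ⊕ Fin m) F) *ᵥ
      x i = x i
    simp
  mul_smul A B x := by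
    funext i
    show ((A * B : Matrix.symplecticGroup (Fin m) F) :
      Matrix (Fin m ⊕ Fin m) (Fin m ⊕ Fin m) F) *ᵥ x i =
      (A : Matrix (Fin m ⊕ Fin m) (Fin m ⊕ Fin m) F) *ᵥ
        ((B : Matrix (Fin m ⊕ Fin m) (Fin m ⊕ Fin m) F) *ᵥ x i)
    rw [Matrix.mulVec_mulVec]
    rfl

lemma smul_apply (k : ℕ) (A : Matrix.symplecticGroup (Fin m) F) (x : Tup F m k) (i : Fin k) :
    (A • x) i = (A : Matrix (Fin m ⊕ Fin m) (Fin m ⊕ Fin m) F) *ᵥ x i := rfl

lemma mulVec_injective (A : Matrix.symplecticGroup (Fin m) F) :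
    Function.Injective (Matrix.toLin' (A : Matrix (Fin m ⊕ Fin m) (Fin m ⊕ Fin m) F)) := by
  intro u v h
  rw [Matrix.toLin'_apply, Matrix.toLin'_apply] at h
  have := congrArg (fun w => ((A⁻¹ : Matrix.symplecticGroup (Fin m) F) :
    Matrix (Fin m ⊕ Fin m) (Fin m ⊕ Fin m) F) *ᵥ w) h
  simp only [coe_inv_mulVec_cancel'] at this
  exact this

lemma TI_smul (k : ℕ) (A : Matrix.symplecticGroup (Fin m) F) (x : Tup F m k) (hx : TI k x) :
    TI k (A • x) := by
  refine ⟨?_, fun i j => ?_⟩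
  · have := hx.1.map' (Matrix.toLin' (A : Matrix (Fin m ⊕ Fin m) (Fin m ⊕ Fin m) F))
      (LinearMap.ker_eq_bot.2 (mulVec_injective A))
    exact this
  · rw [smul_apply, smul_apply, sympForm_mulVec_of_mem A.2]
    exact hx.2 i j

lemma orbit_eq (k : ℕ) (x : Tup F m k) (hx : TI k x) :
    MulAction.orbit (Matrix.symplecticGroup (Fin m) F) x = {y : Tup F m k | TI k y} := by
  ext y
  constructor
  · rintro ⟨A, rfl⟩
    exact TI_smul k A x hx
  · intro hy
    obtain ⟨A, hA⟩ := sp_witt_tuple k x y hx.1 hy.1 (fun i j => by rw [hx.2, hy.2])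
    exact ⟨A, funext hA⟩

lemma card_stab_mul (k : ℕ) (x : Tup F m k) (hx : TI k x) :
    Nat.card (MulAction.stabilizer (Matrix.symplecticGroup (Fin m) F) x) *
      Nat.card {s : Fin k → (Fin m ⊕ Fin m → F) // TI k s} =
      Nat.card (Matrix.symplecticGroup (Fin m) F) := by
  rw [← Subgroup.card_mul_index (MulAction.stabilizer (Matrix.symplecticGroup (Fin m) F) x),
    MulAction.index_stabilizer, orbit_eq k x hx, ← Nat.card_coe_set_eq]
  rfl

lemma mem_stab_iff (W : Submodule F (Fin m ⊕ Fin m → F))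
    (A : Matrix.symplecticGroup (Fin m) F) :
    A ∈ Cfsg.stabilizing (Cfsg.spToMat m F) (W : Set (Fin m ⊕ Fin m → F)) ↔
      W.map (Matrix.toLin' (A : Matrix (Fin m ⊕ Fin m) (Fin m ⊕ Fin m) F)) = W := by
  constructor
  · intro hA
    apply le_antisymm
    · rintro _ ⟨v, hv, rfl⟩
      rw [Matrix.toLin'_apply]
      exact (hA v).1 hv
    · intro w hw
      refine ⟨((A⁻¹ : Matrix.symplecticGroup (Fin m) F) :
        Matrix (Fin m ⊕ Fin m) (Fin m ⊕ Fin m) F) *ᵥ w, ?_, ?_⟩
      · apply (hA _).2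
        show (A : Matrix (Fin m ⊕ Fin m) (Fin m ⊕ Fin m) F) *ᵥ _ ∈ (W : Set _)
        rw [coe_inv_mulVec_cancel]
        exact hw
      · rw [Matrix.toLin'_apply, coe_inv_mulVec_cancel]
  · intro h v
    constructor
    · intro hv
      have : Matrix.toLin' (A : Matrix (Fin m ⊕ Fin m) (Fin m ⊕ Fin m) F) v ∈
          W.map (Matrix.toLin' (A : Matrix (Fin m ⊕ Fin m) (Fin m ⊕ Fin m) F)) :=
        Submodule.mem_map_of_mem hv
      rw [h, Matrix.toLin'_apply] at this
      exact this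
    · intro hv
      have hv' : (A : Matrix (Fin m ⊕ Fin m) (Fin m ⊕ Fin m) F) *ᵥ v ∈ W := hv
      rw [← h] at hv'
      obtain ⟨w, hw, hwv⟩ := hv'
      rw [← Matrix.toLin'_apply] at hwv
      have := mulVec_injective A hwv
      rw [← this]
      exact hw

lemma span_smul (k : ℕ) (A : Matrix.symplecticGroup (Fin m) F) (x : Tup F m k) :
    Submodule.span F (Set.range (A • x)) =
      (Submodule.span F (Set.range x)).map
        (Matrix.toLin' (A : Matrix (Fin m ⊕ Fin m) (Fin m ⊕ Fin m) F)) := by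
  rw [Submodule.map_span]
  congr 1
  ext v
  constructor
  · rintro ⟨i, rfl⟩
    exact ⟨x i, ⟨i, rfl⟩, by rw [Matrix.toLin'_apply]; rfl⟩
  · rintro ⟨_, ⟨i, rfl⟩, rfl⟩
    exact ⟨i, by rw [Matrix.toLin'_apply]; rfl⟩

lemma orbit_sub_eq (W : Submodule F (Fin m ⊕ Fin m → F)) (k : ℕ) (x : Tup F m k) (hx : TI k x)
    (hxW : Submodule.span F (Set.range x) = W) :
    MulAction.orbit (Cfsg.stabilizing (Cfsg.spToMat m F) (W : Set (Fin m ⊕ Fin m → F))) x =
      {y : Tup F m k | TI k y ∧ Submodule.span F (Set.range y) = W} := by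
  ext y
  constructor
  · rintro ⟨⟨A, hA⟩, rfl⟩
    refine ⟨TI_smul k A x hx, ?_⟩
    show Submodule.span F (Set.range (A • x)) = W
    rw [span_smul, hxW]
    exact (mem_stab_iff W A).1 hA
  · rintro ⟨hy, hyW⟩
    obtain ⟨A, hA⟩ := sp_witt_tuple k x y hx.1 hy.1 (fun i j => by rw [hx.2, hy.2])
    have hAx : A • x = y := funext hA
    have hmem : A ∈ Cfsg.stabilizing (Cfsg.spToMat m F) (W : Set (Fin m ⊕ Fin m → F)) := by
      rw [mem_stab_iff, ← hxW, ← span_smul, hAx, hyW, hxW]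
    exact ⟨⟨A, hmem⟩, hAx⟩

lemma stab_card_eq (W : Submodule F (Fin m ⊕ Fin m → F)) (k : ℕ) (x : Tup F m k)
    (hxW : Submodule.span F (Set.range x) = W) :
    Nat.card (MulAction.stabilizer
      (Cfsg.stabilizing (Cfsg.spToMat m F) (W : Set (Fin m ⊕ Fin m → F))) x) =
    Nat.card (MulAction.stabilizer (Matrix.symplecticGroup (Fin m) F) x) := by
  apply Nat.card_congr
  refine
    { toFun := fun a => ⟨a.1.1, a.2⟩
      invFun := fun A => ⟨⟨A.1, ?_⟩, A.2⟩
      left_inv := fun _ => rfl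
      right_inv := fun _ => rfl }
  rw [mem_stab_iff, ← hxW, ← span_smul]
  have : A.1 • x = x := A.2
  rw [this]

end action

section final

variable [Fintype F]

omit [Fintype F] in
lemma tuple_of_li (W : Submodule F (Fin m ⊕ Fin m → F)) (k : ℕ) (hWk : Module.finrank F W = k)
    (hW : ∀ u ∈ W, ∀ v ∈ W, sympForm m F u v = 0) (s : Fin k → W) (hs : LinearIndependent F s) :
    TI k (fun i => (s i : Fin m ⊕ Fin m → F)) ∧
      Submodule.span F (Set.range (fun i => (s i : Fin m ⊕ Fin m → F))) = W := by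
  have hli : LinearIndependent F (fun i => (s i : Fin m ⊕ Fin m → F)) :=
    hs.map' W.subtype (Submodule.ker_subtype W)
  refine ⟨⟨hli, fun i j => hW _ (s i).2 _ (s j).2⟩, ?_⟩
  apply Submodule.eq_of_le_of_finrank_eq
  · rw [Submodule.span_le]
    rintro _ ⟨i, rfl⟩
    exact (s i).2
  · rw [finrank_span_eq_card hli, Fintype.card_fin, hWk]

lemma card_bases (W : Submodule F (Fin m ⊕ Fin m → F)) (k : ℕ) (hWk : Module.finrank F W = k)
    (hW : ∀ u ∈ W, ∀ v ∈ W, sympForm m F u v = 0) :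
    Nat.card {y : Tup F m k // TI k y ∧ Submodule.span F (Set.range y) = W} =
      ∏ i : Fin k, (Fintype.card F ^ k - Fintype.card F ^ (i : ℕ)) := by
  have h := card_linearIndependent (K := F) (V := W) (k := k) (le_of_eq hWk.symm)
  rw [hWk] at h
  rw [← h]
  apply Nat.card_congr
  refine
    { toFun := fun y => ⟨fun i => ⟨y.1 i, ?_⟩, ?_⟩
      invFun := fun s => ⟨fun i => (s.1 i : Fin m ⊕ Fin m → F), tuple_of_li W k hWk hW s.1 s.2⟩
      left_inv := fun _ => rfl
      right_inv := fun _ => rfl }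
  · have h1 : y.1 i ∈ Submodule.span F (Set.range y.1) := Submodule.subset_span ⟨i, rfl⟩
    have h2 := y.2.2
    rw [h2] at h1
    exact h1
  · apply LinearIndependent.of_comp W.subtype
    exact y.2.1.1

theorem card_stab_eq (W : Submodule F (Fin m ⊕ Fin m → F)) (k : ℕ)
    (hWk : Module.finrank F W = k) (hW : ∀ u ∈ W, ∀ v ∈ W, sympForm m F u v = 0) :
    Nat.card (Cfsg.stabilizing (Cfsg.spToMat m F) (W : Set (Fin m ⊕ Fin m → F))) *
      (∏ i ∈ Finset.range k, (Fintype.card F ^ (2 * m - i) - Fintype.card F ^ i)) =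
    (∏ i : Fin k, (Fintype.card F ^ k - Fintype.card F ^ (i : ℕ))) *
      Nat.card (Matrix.symplecticGroup (Fin m) F) := by
  let b : Module.Basis (Fin k) F W := Module.finBasisOfFinrankEq F W hWk
  let x : Tup F m k := fun i => (b i : Fin m ⊕ Fin m → F)
  obtain ⟨hx, hxW⟩ := tuple_of_li W k hWk hW b b.linearIndependent
  have h1 := card_stab_mul k x hx
  have h2 := Subgroup.card_mul_index (MulAction.stabilizer
    (Cfsg.stabilizing (Cfsg.spToMat m F) (W : Set (Fin m ⊕ Fin m → F))) x)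
  rw [MulAction.index_stabilizer, orbit_sub_eq W k x hx hxW, ← Nat.card_coe_set_eq,
    stab_card_eq W k x hxW] at h2
  have h3 : Nat.card ↥{y : Tup F m k | TI k y ∧ Submodule.span F (Set.range y) = W} =
      ∏ i : Fin k, (Fintype.card F ^ k - Fintype.card F ^ (i : ℕ)) := card_bases W k hWk hW
  rw [h3] at h2
  rw [card_TI] at h1
  rw [← h2, ← h1]
  ring

end final

section arith

lemma tri_succ (k : ℕ) : (k + 1) * (k + 1 + 1) / 2 = k * (k + 1) / 2 + (k + 1) := by
  have h : (k + 1) * (k + 1 + 1) = k * (k + 1) + 2 * (k + 1) := by ring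
  rw [h]
  omega

lemma arith (q m : ℕ) : ∀ k, k ≤ m →
    q ^ (k * (k + 1) / 2 + 2 * k * (m - k) + (m - k) ^ 2) *
      (∏ i ∈ Finset.range (m - k), (q ^ (2 * (i + 1)) - 1)) *
      ∏ i ∈ Finset.range k, (q ^ (2 * m - i) - q ^ i) =
    q ^ (m ^ 2) * ∏ i ∈ Finset.range m, (q ^ (2 * (i + 1)) - 1) := by
  intro k
  induction k with
  | zero =>
    intro _
    simp
  | succ k ih =>
    intro hk
    have ih' := ih (by omega)
    obtain ⟨j, rfl⟩ : ∃ j, m = k + 1 + j := ⟨m - (k + 1), by omega⟩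
    have e1 : k + 1 + j - (k + 1) = j := by omega
    have e2 : k + 1 + j - k = j + 1 := by omega
    rw [e2, Finset.prod_range_succ] at ih'
    rw [e1, Finset.prod_range_succ, ← ih']
    have e3 : 2 * (k + 1 + j) - k = k + 2 * (j + 1) := by omega
    have e4 : q ^ (2 * (k + 1 + j) - k) - q ^ k = q ^ k * (q ^ (2 * (j + 1)) - 1) := by
      rw [e3, pow_add, Nat.mul_sub, mul_one]
    rw [e4, tri_succ]
    have e5 : k * (k + 1) / 2 + (k + 1) + 2 * (k + 1) * j + j ^ 2 + k =
        k * (k + 1) / 2 + 2 * k * (j + 1) + (j + 1) ^ 2 := by ring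
    rw [← e5, pow_add (a := q) (n := k)]
    ring

end arith

section main

variable [Fintype F]

theorem main {q : ℕ} (hF : Fintype.card F = q) (m k : ℕ) (hk : k ≤ m)
    (W : Submodule F (Fin m ⊕ Fin m → F)) (hWk : Module.finrank F W = k)
    (hW : ∀ u ∈ W, ∀ v ∈ W, Cfsg.sympForm m F u v = 0) :
    Nat.card ↥(Cfsg.stabilizing (Cfsg.spToMat m F) (W : Set (Fin m ⊕ Fin m → F))) =
      q ^ (k * (k + 1) / 2 + 2 * k * (m - k)) *
        (q ^ ((m - k) ^ 2) * ∏ i ∈ Finset.range (m - k), (q ^ (2 * (i + 1)) - 1)) *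
        ∏ i : Fin k, (q ^ k - q ^ (i : ℕ)) := by
  have hq : 2 ≤ q := by
    rw [← hF]
    exact Fintype.one_lt_card
  have h1 := card_stab_eq W k hWk hW
  rw [Cfsg.Agent.Lib.Helper14.card_symplectic, hF, ← arith q m k hk] at h1
  have hpos : 0 < ∏ i ∈ Finset.range k, (q ^ (2 * m - i) - q ^ i) := by
    apply Finset.prod_pos
    intro i hi
    rw [Finset.mem_range] at hi
    have : q ^ i < q ^ (2 * m - i) := Nat.pow_lt_pow_right (by omega) (by omega)
    omega
  apply Nat.eq_of_mul_eq_mul_right hpos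
  rw [h1, pow_add]
  ring

end main

/-- Maximal parabolics of the symplectic group: if W is a k-dimensional subspace of F^(2m) on which the symplectic form vanishes identically, its stabiliser in Sp_2m(q) has order q^(k(k+1)/2 + 2k(m−k)) · |Sp_(2m−2k)(q)| · |GL_k(q)|. -/
theorem result {F : Type*} [Field F] [Fintype F] {q : ℕ} (hF : Fintype.card F = q) (m k : ℕ) (hk : k ≤ m) (W : Submodule F (Fin m ⊕ Fin m → F)) (hWk : Module.finrank F W = k) (hW : ∀ u ∈ W, ∀ v ∈ W, Cfsg.sympForm m F u v = 0) : Nat.card ↥(Cfsg.stabilizing (Cfsg.spToMat m F) (W : Set (Fin m ⊕ Fin m → F))) = q ^ (k * (k + 1) / 2 + 2 * k * (m - k)) * (q ^ ((m - k) ^ 2) * ∏ i ∈ Finset.range (m - k), (q ^ (2 * (i + 1)) - 1)) * ∏ i : Fin k, (q ^ k - q ^ (i : ℕ)) := by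
  exact main hF m k hk W hWk hW

end Cfsg.Agent.S0775
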