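import Cfsg.Statements.S2589
-- import your own Cfsg.Agent.* helpers here
import Cfsg.Agent.Lib.Helper15.AdjointRing
import Cfsg.Agent.Lib.Helper15.AltGlue
import Cfsg.Agent.Lib.Helper15.SympChar2

set_option autoImplicit false
open Cfsg

namespace Cfsg.Agent.S2589

open Matrix Cfsg.Agent.Lib.Helper15.AdjointRing Cfsg.Agent.Lib.Helper15.AltGlue

universe u

variable {F : Type u} [Field F] {ι : Type} [Fintype ι] [DecidableEq ι]

/-- facts about the second form pulled back to the first (symmetric or skew Gram matrix) -/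
lemma form_facts' (G Gi : Matrix ι ι F) (h1 : Gi * G = 1) (h2 : G * Gi = 1)
    (hGs : Gᵀ = G ∨ Gᵀ = -G) (A Ai B c ci : Matrix ι ι F) (hAAi : A * Ai = 1)
    (hAG : Aᵀ * G * A = G) (hBG : Bᵀ * G * B = G) (hc1 : c * ci = 1) (hc2 : ci * c = 1)
    (hcAB : c * A = B * c) :
    dag G Gi A = Ai ∧ dag G Gi (Gi * (cᵀ * G * c)) = Gi * (cᵀ * G * c) ∧
      Gi * (cᵀ * G * c) * A = A * (Gi * (cᵀ * G * c)) ∧
      Gi * (cᵀ * G * c) * (ci * Gi * ciᵀ * G) = 1 := by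
  have hAiA : Ai * A = 1 := mul_eq_one_comm.1 hAAi
  obtain ⟨G'', hG''⟩ : ∃ G'', G'' = cᵀ * G * c := ⟨_, rfl⟩
  have hprod : (Gi * G'')ᵀ = G'' * Gi := by
    have hGiT : Giᵀ * Gᵀ = 1 := by rw [← transpose_mul, h2, transpose_one]
    rcases hGs with hGs | hGs
    · have hGis : Giᵀ = Gi := by
        rw [hGs] at hGiT
        calc Giᵀ = Giᵀ * (G * Gi) := by rw [h2, Matrix.mul_one]
          _ = (Giᵀ * G) * Gi := by rw [Matrix.mul_assoc]
          _ = Gi := by rw [hGiT, Matrix.one_mul]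
      have hG''s : G''ᵀ = G'' := by
        rw [hG'', transpose_mul, transpose_mul, transpose_transpose, hGs, Matrix.mul_assoc]
      rw [transpose_mul, hG''s, hGis]
    · have hGis : Giᵀ = -Gi := by
        rw [hGs] at hGiT
        calc Giᵀ = Giᵀ * (G * Gi) := by rw [h2, Matrix.mul_one]
          _ = -((Giᵀ * -G) * Gi) := by
              rw [Matrix.mul_neg, Matrix.neg_mul, neg_neg, Matrix.mul_assoc]
          _ = -Gi := by rw [hGiT, Matrix.one_mul]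
      have hG''s : G''ᵀ = -G'' := by
        rw [hG'', transpose_mul, transpose_mul, transpose_transpose, hGs, Matrix.neg_mul,
          Matrix.mul_neg, Matrix.mul_assoc]
      rw [transpose_mul, hG''s, hGis, Matrix.neg_mul, Matrix.mul_neg, neg_neg]
  have hAG'' : Aᵀ * G'' * A = G'' := by
    rw [hG'']
    calc Aᵀ * (cᵀ * G * c) * A = (c * A)ᵀ * G * (c * A) := by
          rw [transpose_mul]; simp only [Matrix.mul_assoc]
      _ = (B * c)ᵀ * G * (B * c) := by rw [hcAB]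
      _ = cᵀ * (Bᵀ * G * B) * c := by rw [transpose_mul]; simp only [Matrix.mul_assoc]
      _ = cᵀ * G * c := by rw [hBG]
  have hAiT : Aiᵀ * Aᵀ = 1 := by rw [← transpose_mul, hAAi, transpose_one]
  have hGA : G * A = Aiᵀ * G := by
    calc G * A = (Aiᵀ * Aᵀ) * G * A := by rw [hAiT, Matrix.one_mul]
      _ = Aiᵀ * (Aᵀ * G * A) := by simp only [Matrix.mul_assoc]
      _ = Aiᵀ * G := by rw [hAG]
  have hG''A : G'' * A = Aiᵀ * G'' := by
    calc G'' * A = (Aiᵀ * Aᵀ) * G'' * A := by rw [hAiT, Matrix.one_mul]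
      _ = Aiᵀ * (Aᵀ * G'' * A) := by simp only [Matrix.mul_assoc]
      _ = Aiᵀ * G'' := by rw [hAG'']
  have hAGi : A * Gi = Gi * Aiᵀ := by
    calc A * Gi = (Gi * G) * A * Gi := by rw [h1, Matrix.one_mul]
      _ = Gi * (G * A) * Gi := by simp only [Matrix.mul_assoc]
      _ = Gi * (Aiᵀ * G) * Gi := by rw [hGA]
      _ = Gi * Aiᵀ * (G * Gi) := by simp only [Matrix.mul_assoc]
      _ = Gi * Aiᵀ := by rw [h2, Matrix.mul_one]
  rw [← hG'']
  refine ⟨?_, ?_, ?_, ?_⟩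
  · have h3 : dag G Gi A * A = 1 := by
      unfold dag
      calc Gi * Aᵀ * G * A = Gi * (Aᵀ * G * A) := by simp only [Matrix.mul_assoc]
        _ = 1 := by rw [hAG, h1]
    calc dag G Gi A = dag G Gi A * (A * Ai) := by rw [hAAi, Matrix.mul_one]
      _ = (dag G Gi A * A) * Ai := by rw [Matrix.mul_assoc]
      _ = Ai := by rw [h3, Matrix.one_mul]
  · unfold dag
    rw [hprod]
    calc Gi * (G'' * Gi) * G = Gi * G'' * (Gi * G) := by simp only [Matrix.mul_assoc]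
      _ = Gi * G'' := by rw [h1, Matrix.mul_one]
  · calc Gi * G'' * A = Gi * (G'' * A) := by rw [Matrix.mul_assoc]
      _ = Gi * (Aiᵀ * G'') := by rw [hG''A]
      _ = (Gi * Aiᵀ) * G'' := by rw [Matrix.mul_assoc]
      _ = (A * Gi) * G'' := by rw [hAGi]
      _ = A * (Gi * G'') := by rw [Matrix.mul_assoc]
  · rw [hG'']
    calc Gi * (cᵀ * G * c) * (ci * Gi * ciᵀ * G)
        = Gi * cᵀ * G * (c * ci) * Gi * ciᵀ * G := by simp only [Matrix.mul_assoc]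
      _ = Gi * cᵀ * (G * Gi) * ciᵀ * G := by rw [hc1, Matrix.mul_one]; simp only [Matrix.mul_assoc]
      _ = Gi * (ci * c)ᵀ * G := by
          rw [h2, Matrix.mul_one, transpose_mul]; simp only [Matrix.mul_assoc]
      _ = 1 := by rw [hc2, transpose_one, Matrix.mul_one, h1]

lemma key_identity' (G Gi : Matrix ι ι F) (h2 : G * Gi = 1)
    (c s E H H' : Matrix ι ι F) (hGs : G * s = cᵀ * G * c)
    (hEE : E * E = E) (hHH' : H * H' = 1) (hH'E : H' * E = E * H') (hHE : H * E = E * H)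
    (hdagH : dag G Gi H * H = s * (1 - E) + E) :
    (c * H')ᵀ * G * (c * H') * (1 - E) = G * (1 - E) := by
  obtain ⟨Fm, hFm⟩ : ∃ Fm, Fm = 1 - E := ⟨_, rfl⟩
  rw [← hFm] at hdagH ⊢
  have hFF : Fm * Fm = Fm := by
    rw [hFm, Matrix.mul_sub, Matrix.sub_mul, Matrix.sub_mul, Matrix.one_mul, Matrix.mul_one,
      Matrix.one_mul, hEE, sub_self, sub_zero]
  have hEF : E * Fm = 0 := by
    rw [hFm, Matrix.mul_sub, Matrix.mul_one, hEE, sub_self]
  have hH'F : H' * Fm = Fm * H' := by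
    rw [hFm, Matrix.mul_sub, Matrix.sub_mul, Matrix.mul_one, Matrix.one_mul, hH'E]
  have hHF : H * Fm = Fm * H := by
    rw [hFm, Matrix.mul_sub, Matrix.sub_mul, Matrix.mul_one, Matrix.one_mul, hHE]
  have hHG : Hᵀ * G = G * dag G Gi H := by
    unfold dag
    calc Hᵀ * G = (G * Gi) * Hᵀ * G := by rw [h2, Matrix.one_mul]
      _ = G * (Gi * Hᵀ * G) := by simp only [Matrix.mul_assoc]
  have h3 : G * s * Fm = Hᵀ * G * H * Fm := by
    calc G * s * Fm = G * ((s * Fm + E) * Fm) := by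
          rw [Matrix.add_mul, Matrix.mul_assoc s, hFF, hEF, add_zero, Matrix.mul_assoc]
      _ = G * (dag G Gi H * H) * Fm := by rw [hdagH, Matrix.mul_assoc]
      _ = (G * dag G Gi H) * H * Fm := by simp only [Matrix.mul_assoc]
      _ = Hᵀ * G * H * Fm := by rw [← hHG]
  calc (c * H')ᵀ * G * (c * H') * Fm = H'ᵀ * (cᵀ * G * c) * (H' * Fm) := by
        rw [transpose_mul]; simp only [Matrix.mul_assoc]
    _ = H'ᵀ * (G * s * Fm) * H' := by rw [← hGs, hH'F]; simp only [Matrix.mul_assoc]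
    _ = H'ᵀ * (Hᵀ * G * H * Fm) * H' := by rw [h3]
    _ = (H * H')ᵀ * G * (H * Fm * H') := by rw [transpose_mul]; simp only [Matrix.mul_assoc]
    _ = G * Fm := by
        rw [hHH', transpose_one, Matrix.one_mul, hHF, Matrix.mul_assoc Fm, hHH', Matrix.mul_one]

/-- a self-adjoint element commuting with `H'` and `s` is self-adjoint for the pulled-back form -/
lemma selfadj_pullback (G Gi : Matrix ι ι F) (h2 : G * Gi = 1) (c s X H' : Matrix ι ι F)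
    (hGs : G * s = cᵀ * G * c) (hX : dag G Gi X = X) (hXH' : X * H' = H' * X)
    (hXs : X * s = s * X) :
    Xᵀ * G = G * X ∧ Xᵀ * ((c * H')ᵀ * G * (c * H')) = (c * H')ᵀ * G * (c * H') * X := by
  have hXG : Xᵀ * G = G * X := by
    unfold dag at hX
    calc Xᵀ * G = (G * Gi) * Xᵀ * G := by rw [h2, Matrix.one_mul]
      _ = G * (Gi * Xᵀ * G) := by simp only [Matrix.mul_assoc]
      _ = G * X := by rw [hX]
  refine ⟨hXG, ?_⟩
  have hΓ : (c * H')ᵀ * G * (c * H') = H'ᵀ * (G * s) * H' := by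
    rw [hGs, transpose_mul]; simp only [Matrix.mul_assoc]
  rw [hΓ]
  calc Xᵀ * (H'ᵀ * (G * s) * H') = (H' * X)ᵀ * G * s * H' := by
        rw [transpose_mul]; simp only [Matrix.mul_assoc]
    _ = H'ᵀ * (Xᵀ * G) * s * H' := by rw [← hXH', transpose_mul]; simp only [Matrix.mul_assoc]
    _ = H'ᵀ * G * (X * s) * H' := by rw [hXG]; simp only [Matrix.mul_assoc]
    _ = H'ᵀ * G * s * (X * H') := by rw [hXs]; simp only [Matrix.mul_assoc]
    _ = H'ᵀ * (G * s) * H' * X := by rw [hXH']; simp only [Matrix.mul_assoc]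


theorem core_sp [Finite F] (G Gi : Matrix ι ι F)
    (h1 : Gi * G = 1) (h2 : G * Gi = 1) (hGt : Gᵀ = -G) (hGalt : ∀ u : ι → F, u ⬝ᵥ G *ᵥ u = 0)
    (A B : Matrix ι ι F) (hAG : Aᵀ * G * A = G) (hBG : Bᵀ * G * B = G)
    (M : ℕ) (hM : A ^ M = 1) (hMF : (M : F) ≠ 0)
    (c ci : Matrix ι ι F) (hc1 : c * ci = 1) (hc2 : ci * c = 1) (hcAB : c * A = B * c) :
    ∃ g gi : Matrix ι ι F, g * gi = 1 ∧ gi * g = 1 ∧ gᵀ * G * g = G ∧ g * A = B * g := by
  classical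
  obtain ⟨M₂, hM₂, hM₂F, hdisj⟩ : ∃ M₂ : ℕ, A ^ M₂ = 1 ∧ (M₂ : F) ≠ 0 ∧
      ((2 : F) = 0 ∨ ((2 : F) ≠ 0 ∧ Even M₂)) := by
    by_cases h2F : (2 : F) = 0
    · exact ⟨M, hM, hMF, Or.inl h2F⟩
    · refine ⟨2 * M, by rw [pow_mul', hM, one_pow], ?_, Or.inr ⟨h2F, even_two_mul M⟩⟩
      push_cast
      exact mul_ne_zero h2F hMF
  obtain ⟨M', rfl⟩ : ∃ M', M₂ = M' + 1 := by
    refine ⟨M₂ - 1, ?_⟩
    have : M₂ ≠ 0 := by
      rintro rfl
      exact hM₂F Nat.cast_zero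
    omega
  obtain ⟨Ai, hAi⟩ : ∃ Ai, Ai = A ^ M' := ⟨_, rfl⟩
  have hAAi : A * Ai = 1 := by rw [hAi, ← pow_succ', hM₂]
  have hAiA : Ai * A = 1 := mul_eq_one_comm.1 hAAi
  obtain ⟨s, hs⟩ : ∃ s, s = Gi * (cᵀ * G * c) := ⟨_, rfl⟩
  obtain ⟨hdagA, hdags, hsA, hss⟩ :=
    form_facts' G Gi h1 h2 (Or.inr hGt) A Ai B c ci hAAi hAG hBG hc1 hc2 hcAB
  rw [← hs] at hdags hsA hss
  have hGs' : G * s = cᵀ * G * c := by rw [hs, ← Matrix.mul_assoc, h2, Matrix.one_mul]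
  -- the commutative ring
  obtain ⟨S, hS⟩ : ∃ S : Set (Matrix ι ι F), S = {A, s} := ⟨_, rfl⟩
  have hAS : A ∈ Algebra.adjoin F S :=
    Algebra.subset_adjoin (by rw [hS]; exact Set.mem_insert _ _)
  have hsS : s ∈ Algebra.adjoin F S :=
    Algebra.subset_adjoin (by rw [hS]; exact Set.mem_insert_of_mem _ rfl)
  have hcomm : ∀ a ∈ S, ∀ b ∈ S, a * b = b * a := by
    intro a ha b hb
    rw [hS, Set.mem_insert_iff, Set.mem_singleton_iff] at ha hb
    rcases ha with rfl | rfl <;> rcases hb with rfl | rfl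
    · rfl
    · exact hsA.symm
    · exact hsA
    · rfl
  have hSdag : ∀ y ∈ S, dag G Gi y ∈ Algebra.adjoin F S := by
    intro y hy
    rw [hS, Set.mem_insert_iff, Set.mem_singleton_iff] at hy
    rcases hy with rfl | rfl
    · rw [hdagA, hAi]; exact pow_mem hAS _
    · rw [hdags]; exact hsS
  obtain ⟨L, _, _, ι', σ, hinj, hrange, hισ, hσσ⟩ :=
    exists_commRing G Gi h1 h2 (Or.inr hGt) S hcomm hSdag
  obtain ⟨a, ha⟩ := (hrange A).1 hAS
  obtain ⟨s₀, hs₀⟩ := (hrange s).1 hsS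
  obtain ⟨ai, hai⟩ := (hrange Ai).1 (by rw [hAi]; exact pow_mem hAS _)
  have hsu : IsUnit s := ⟨⟨s, _, hss, mul_eq_one_comm.1 hss⟩, rfl⟩
  obtain ⟨s', hs'S, hss', -⟩ := exists_inv_mem' (Algebra.adjoin F S) s hsS hsu
  obtain ⟨s₀', hs₀'⟩ := (hrange s').1 hs'S
  obtain ⟨m', hm'⟩ := (hrange (algebraMap F _ (((M' + 1 : ℕ) : F)⁻¹))).1
    (Subalgebra.algebraMap_mem _ _)
  have haM : a ^ (M' + 1) = 1 := hinj (by rw [map_pow, ha, hM₂, map_one])
  have hm : m' * ((M' + 1 : ℕ) : L) = 1 := by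
    apply hinj
    rw [map_mul, hm', map_natCast, map_one,
      ← map_natCast (algebraMap F (Matrix ι ι F)) (M' + 1), ← map_mul,
      inv_mul_cancel₀ hM₂F, map_one]
  have hai' : a * ai = 1 := hinj (by rw [map_mul, ha, hai, hAAi, map_one])
  have hσa : σ a = ai := hinj (by rw [hισ, ha, hai, hdagA])
  have hσs : σ s₀ = s₀ := hinj (by rw [hισ, hs₀, hdags])
  have hss₀ : s₀ * s₀' = 1 := hinj (by rw [map_mul, hs₀, hs₀', hss', map_one])
  have h2mat : (2 : Matrix ι ι F) = algebraMap F (Matrix ι ι F) (2 : F) := (map_ofNat _ 2).symm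
  have hL2 : (2 : L) = 0 ∨ ((∃ t : L, t * 2 = 1) ∧ Even (M' + 1)) := by
    rcases hdisj with h2F | ⟨h2F, hev⟩
    · left
      apply hinj
      rw [map_ofNat, map_zero, h2mat, h2F, map_zero]
    · right
      refine ⟨?_, hev⟩
      obtain ⟨t, ht⟩ := (hrange (algebraMap F _ ((2 : F)⁻¹))).1 (Subalgebra.algebraMap_mem _ _)
      refine ⟨t, ?_⟩
      apply hinj
      rw [map_mul, ht, map_ofNat, h2mat, ← map_mul, inv_mul_cancel₀ h2F, map_one, map_one]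
  obtain ⟨e₁, e₂, h, h', p11, p22, p12, pa1, pa2, pσ1, pσ2, phh, pσh⟩ :=
    exists_sp_factor σ hσσ a ai s₀ s₀' m' (M' + 1) haM hm hai' hσa hσs hss₀ hL2
  have hcL : ∀ x y : L, ι' x * ι' y = ι' y * ι' x := by
    intro x y
    rw [← map_mul, ← map_mul, mul_comm]
  obtain ⟨E₁, hE₁⟩ : ∃ E₁, E₁ = ι' e₁ := ⟨_, rfl⟩
  obtain ⟨E₂, hE₂⟩ : ∃ E₂, E₂ = ι' e₂ := ⟨_, rfl⟩
  obtain ⟨H, hH⟩ : ∃ H, H = ι' h := ⟨_, rfl⟩
  obtain ⟨H', hH'⟩ : ∃ H', H' = ι' h' := ⟨_, rfl⟩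
  have q11 : E₁ * E₁ = E₁ := by rw [hE₁, ← map_mul, p11]
  have q22 : E₂ * E₂ = E₂ := by rw [hE₂, ← map_mul, p22]
  have q12 : E₁ * E₂ = 0 := by rw [hE₁, hE₂, ← map_mul, p12, map_zero]
  have q21 : E₂ * E₁ = 0 := by rw [hE₁, hE₂, hcL, ← map_mul, p12, map_zero]
  have qa1 : A * E₁ = E₁ := by rw [hE₁, ← ha, ← map_mul, pa1]
  have qa2 : A * E₂ = -E₂ := by rw [hE₂, ← ha, ← map_mul, pa2, map_neg]
  have q1a : E₁ * A = E₁ := by rw [hE₁, ← ha, hcL, ← map_mul, pa1]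
  have q2a : E₂ * A = -E₂ := by rw [hE₂, ← ha, hcL, ← map_mul, pa2, map_neg]
  have qσ1 : dag G Gi E₁ = E₁ := by rw [hE₁, ← hισ, pσ1]
  have qσ2 : dag G Gi E₂ = E₂ := by rw [hE₂, ← hισ, pσ2]
  have hHH' : H * H' = 1 := by rw [hH, hH', ← map_mul, phh, map_one]
  have hH'H : H' * H = 1 := mul_eq_one_comm.1 hHH'
  obtain ⟨E, hE⟩ : ∃ E, E = E₁ + E₂ := ⟨_, rfl⟩
  have hEE : E * E = E := by
    rw [hE, Matrix.add_mul, Matrix.mul_add, Matrix.mul_add, q11, q22, q12, q21, add_zero, zero_add]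
  have hdagH : dag G Gi H * H = s * (1 - E) + E := by
    have := congrArg ι' pσh
    rw [map_mul, hισ, map_add, map_add, map_mul, map_sub, map_sub, map_one, hs₀] at this
    rw [hH, hE, hE₁, hE₂, this, sub_sub, add_assoc]
  have hH'E : H' * E = E * H' := by
    rw [hE, Matrix.mul_add, Matrix.add_mul, hH', hE₁, hE₂, hcL h' e₁, hcL h' e₂]
  have hHE : H * E = E * H := by
    rw [hE, Matrix.mul_add, Matrix.add_mul, hH, hE₁, hE₂, hcL h e₁, hcL h e₂]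
  have hH'A : H' * A = A * H' := by rw [hH', ← ha]; exact hcL _ _
  -- the partial isometry and the pulled-back form
  obtain ⟨k₀, hk₀⟩ : ∃ k₀, k₀ = c * H' := ⟨_, rfl⟩
  obtain ⟨k₀i, hk₀i⟩ : ∃ k₀i, k₀i = H * ci := ⟨_, rfl⟩
  have hk1 : k₀ * k₀i = 1 := by
    rw [hk₀, hk₀i]
    calc c * H' * (H * ci) = c * (H' * H) * ci := by simp only [Matrix.mul_assoc]
      _ = 1 := by rw [hH'H, Matrix.mul_one, hc1]
  have hk2 : k₀i * k₀ = 1 := mul_eq_one_comm.1 hk1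
  have hk₀A : k₀ * A = B * k₀ := by
    rw [hk₀, Matrix.mul_assoc, hH'A, ← Matrix.mul_assoc, hcAB, Matrix.mul_assoc]
  obtain ⟨Γ, hΓ⟩ : ∃ Γ, Γ = k₀ᵀ * G * k₀ := ⟨_, rfl⟩
  have hkey : Γ * (1 - E₁ - E₂) = G * (1 - E₁ - E₂) := by
    rw [hΓ, hk₀, sub_sub, ← hE]
    exact key_identity' G Gi h2 c s E H H' hGs' hEE hHH' hH'E hHE hdagH
  obtain ⟨hGE₁, hΓE₁⟩ := selfadj_pullback G Gi h2 c s E₁ H' hGs' qσ1
    (by rw [hE₁, hH']; exact hcL _ _) (by rw [hE₁, ← hs₀]; exact hcL _ _)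
  obtain ⟨hGE₂, hΓE₂⟩ := selfadj_pullback G Gi h2 c s E₂ H' hGs' qσ2
    (by rw [hE₂, hH']; exact hcL _ _) (by rw [hE₂, ← hs₀]; exact hcL _ _)
  rw [← hk₀, ← hΓ] at hΓE₁ hΓE₂
  have hGnd : ∀ u : ι → F, (∀ v, u ⬝ᵥ G *ᵥ v = 0) → u = 0 := by
    intro u hu
    apply dotProduct_eq_zero
    intro t
    have := hu (Gi *ᵥ t)
    rw [Matrix.mulVec_mulVec, h2, Matrix.one_mulVec] at this
    exact this
  have hΓalt : ∀ u : ι → F, u ⬝ᵥ Γ *ᵥ u = 0 := by
    intro u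
    have := hGalt (k₀ *ᵥ u)
    rw [dot_mulVec', Matrix.mulVec_mulVec] at this
    rw [hΓ]
    exact this
  have hΓnd : ∀ u : ι → F, (∀ v, u ⬝ᵥ Γ *ᵥ v = 0) → u = 0 := by
    intro u hu
    have h3 : k₀ *ᵥ u = 0 := by
      apply hGnd
      intro v
      have := hu (k₀i *ᵥ v)
      rw [hΓ, Matrix.mulVec_mulVec, Matrix.mul_assoc, Matrix.mul_assoc, hk1, Matrix.mul_one,
        ← dot_mulVec'] at this
      exact this
    have := congrArg (fun w => k₀i *ᵥ w) h3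
    simp only [Matrix.mulVec_mulVec, hk2, Matrix.one_mulVec, Matrix.mulVec_zero] at this
    exact this
  obtain ⟨Θ, Θ', t1, t2, t3, t4, t5⟩ := glue_two G Γ E₁ E₂ hGalt hΓalt hGnd hΓnd q11 q22 q12 q21
    hGE₁ hΓE₁ hGE₂ hΓE₂ hkey
  have t1' : Θ' * Θ = 1 := mul_eq_one_comm.1 t1
  refine ⟨k₀ * Θ, Θ' * k₀i, ?_, ?_, ?_, ?_⟩
  · calc k₀ * Θ * (Θ' * k₀i) = k₀ * (Θ * Θ') * k₀i := by simp only [Matrix.mul_assoc]
      _ = 1 := by rw [t1, Matrix.mul_one, hk1]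
  · calc Θ' * k₀i * (k₀ * Θ) = Θ' * (k₀i * k₀) * Θ := by simp only [Matrix.mul_assoc]
      _ = 1 := by rw [hk2, Matrix.mul_one, t1']
  · calc (k₀ * Θ)ᵀ * G * (k₀ * Θ) = Θᵀ * (k₀ᵀ * G * k₀) * Θ := by
          rw [transpose_mul]; simp only [Matrix.mul_assoc]
      _ = G := by rw [← hΓ, t5]
  · -- Θ commutes with A
    obtain ⟨F₀, hF₀⟩ : ∃ F₀, F₀ = 1 - E₁ - E₂ := ⟨_, rfl⟩
    rw [← hF₀] at t4
    have hF₀Θ : F₀ * Θ = F₀ := by
      calc F₀ * Θ = Θ - E₁ * Θ - E₂ * Θ := by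
            rw [hF₀, Matrix.sub_mul, Matrix.sub_mul, Matrix.one_mul]
        _ = Θ * (1 - E₁ - E₂) := by
            rw [← t2, ← t3, Matrix.mul_sub, Matrix.mul_sub, Matrix.mul_one]
        _ = F₀ := by rw [← hF₀, t4]
    have hAF : A * F₀ = A - E₁ + E₂ := by
      rw [hF₀, Matrix.mul_sub, Matrix.mul_sub, Matrix.mul_one, qa1, qa2, sub_neg_eq_add]
    have hFA : F₀ * A = A - E₁ + E₂ := by
      rw [hF₀, Matrix.sub_mul, Matrix.sub_mul, Matrix.one_mul, q1a, q2a, sub_neg_eq_add]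
    have hA1 : A = F₀ * A + E₁ - E₂ := by rw [hFA]; abel
    have hA2 : A = A * F₀ + E₁ - E₂ := by rw [hAF]; abel
    have hΘA : Θ * A = A * Θ := by
      calc Θ * A = Θ * (F₀ * A + E₁ - E₂) := by rw [← hA1]
        _ = (Θ * F₀) * A + Θ * E₁ - Θ * E₂ := by
            rw [Matrix.mul_sub, Matrix.mul_add, Matrix.mul_assoc]
        _ = F₀ * A + E₁ * Θ - E₂ * Θ := by rw [t4, t2, t3]
        _ = A * (F₀ * Θ) + E₁ * Θ - E₂ * Θ := by rw [hF₀Θ, hFA, hAF]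
        _ = (A * F₀ + E₁ - E₂) * Θ := by
            rw [Matrix.sub_mul, Matrix.add_mul, Matrix.mul_assoc]
        _ = A * Θ := by rw [← hA2]
    calc k₀ * Θ * A = k₀ * (Θ * A) := by rw [Matrix.mul_assoc]
      _ = (k₀ * A) * Θ := by rw [hΘA, Matrix.mul_assoc]
      _ = B * (k₀ * Θ) := by rw [hk₀A, Matrix.mul_assoc]


theorem main {F : Type*} [Field F] [Fintype F] {p : ℕ} [hp : Fact p.Prime] [CharP F p] {m : ℕ}
    (A B : Matrix.symplecticGroup (Fin m) F) (hA : (orderOf A).Coprime p) :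
    IsConj A B ↔ IsConj (A : Matrix (Fin m ⊕ Fin m) (Fin m ⊕ Fin m) F)
      (B : Matrix (Fin m ⊕ Fin m) (Fin m ⊕ Fin m) F) := by
  constructor
  · intro h
    obtain ⟨c, hc⟩ := isConj_iff.1 h
    have h1 : c * A = B * c := by rw [← hc]; group
    refine ⟨⟨(c : Matrix (Fin m ⊕ Fin m) (Fin m ⊕ Fin m) F),
      ((c⁻¹ : Matrix.symplecticGroup (Fin m) F) : Matrix (Fin m ⊕ Fin m) (Fin m ⊕ Fin m) F),
      ?_, ?_⟩, ?_⟩
    · have := congrArg (Subtype.val) (mul_inv_cancel c)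
      exact this
    · have := congrArg (Subtype.val) (inv_mul_cancel c)
      exact this
    · have := congrArg (Subtype.val) h1
      exact this
  · rintro ⟨c, hc⟩
    obtain ⟨J, hJ⟩ : ∃ J, J = Matrix.J (Fin m) F := ⟨_, rfl⟩
    have hJ1 : (-J) * J = 1 := by rw [hJ, Matrix.neg_mul, Matrix.J_squared, neg_neg]
    have hJ2 : J * (-J) = 1 := by rw [hJ, Matrix.mul_neg, Matrix.J_squared, neg_neg]
    have hJt : Jᵀ = -J := by rw [hJ]; exact Matrix.J_transpose (Fin m) F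
    have hJalt : ∀ u : Fin m ⊕ Fin m → F, u ⬝ᵥ J *ᵥ u = 0 := by
      intro u
      have := Cfsg.Agent.Lib.Helper15.sympForm_eq m u u
      unfold Cfsg.sympForm at this
      rw [hJ, this]
      apply Finset.sum_eq_zero
      intro i _
      ring
    have hAJ : (A : Matrix (Fin m ⊕ Fin m) (Fin m ⊕ Fin m) F)ᵀ * J * A = J := by
      rw [hJ]; exact SymplecticGroup.mem_iff'.1 A.2
    have hBJ : (B : Matrix (Fin m ⊕ Fin m) (Fin m ⊕ Fin m) F)ᵀ * J * B = J := by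
      rw [hJ]; exact SymplecticGroup.mem_iff'.1 B.2
    have hM : (A : Matrix (Fin m ⊕ Fin m) (Fin m ⊕ Fin m) F) ^ orderOf A = 1 := by
      have := congrArg (Subtype.val) (pow_orderOf_eq_one A)
      rw [SubmonoidClass.coe_pow] at this
      exact this
    have hMF : ((orderOf A : ℕ) : F) ≠ 0 := by
      rw [Ne, CharP.cast_eq_zero_iff F p]
      intro hd
      exact hp.out.one_lt.ne' (hA.symm.eq_one_of_dvd hd)
    have hc' : (c : Matrix (Fin m ⊕ Fin m) (Fin m ⊕ Fin m) F) * A = B * c := hc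
    obtain ⟨g, gi, hg1, hg2, hgJ, hgAB⟩ := core_sp J (-J) hJ1 hJ2 hJt hJalt _ _ hAJ hBJ
      (orderOf A) hM hMF (c : Matrix (Fin m ⊕ Fin m) (Fin m ⊕ Fin m) F)
      ((c⁻¹ : (Matrix (Fin m ⊕ Fin m) (Fin m ⊕ Fin m) F)ˣ) :
        Matrix (Fin m ⊕ Fin m) (Fin m ⊕ Fin m) F)
      (by rw [← Units.val_mul, mul_inv_cancel, Units.val_one])
      (by rw [← Units.val_mul, inv_mul_cancel, Units.val_one]) hc'
    have hgm : g ∈ Matrix.symplecticGroup (Fin m) F := by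
      rw [SymplecticGroup.mem_iff', ← hJ]
      exact hgJ
    rw [isConj_iff]
    refine ⟨⟨g, hgm⟩, ?_⟩
    rw [mul_inv_eq_iff_eq_mul]
    apply Subtype.ext
    exact hgAB

/-- Two semisimple elements of the finite symplectic group Sp_2m(F) (elements of order prime to the characteristic) are conjugate in Sp_2m(F) if and only if they are conjugate in GL_2m(F). -/
theorem result {F : Type*} [Field F] [Fintype F] {p : ℕ} [Fact p.Prime] [CharP F p] {m : ℕ} (A B : Matrix.symplecticGroup (Fin m) F) (hA : (orderOf A).Coprime p) : IsConj A B ↔ IsConj (A : Matrix (Fin m ⊕ Fin m) (Fin m ⊕ Fin m) F) (B : Matrix (Fin m ⊕ Fin m) (Fin m ⊕ Fin m) F) := by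
  exact main A B hA

end Cfsg.Agent.S2589
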