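import Cfsg.Statements.S2389
-- import your own Cfsg.Agent.* helpers here
import Cfsg.Agent.S2589
import Cfsg.Agent.Lib.Helper15.SemisimpleCount

set_option autoImplicit false
open Cfsg

namespace Cfsg.Agent.S2389

open Polynomial Cfsg.Agent.Lib.Helper15.SemisimpleCount

/-- `matrix_conj` over an arbitrary finite index type -/
theorem matrix_conj' {F : Type*} [Field F] [Fintype F] {ι : Type*} [Fintype ι] [DecidableEq ι]
    (A B : Matrix ι ι F) (N : ℕ) (hN : (N : F) ≠ 0) (hA : A ^ N = 1) (hB : B ^ N = 1)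
    (hc : A.charpoly = B.charpoly) :
    ∃ c : (Matrix ι ι F)ˣ, (c : Matrix ι ι F) * A = B * (c : Matrix ι ι F) := by
  let e := Fintype.equivFin ι
  let φ : Matrix ι ι F ≃ₐ[F] Matrix (Fin (Fintype.card ι)) (Fin (Fintype.card ι)) F :=
    Matrix.reindexAlgEquiv F F e
  have hφ : ∀ X : Matrix ι ι F, φ X = Matrix.reindex e e X := fun X => rfl
  have h1 : (φ A) ^ N = 1 := by rw [← map_pow, hA, map_one]
  have h2 : (φ B) ^ N = 1 := by rw [← map_pow, hB, map_one]
  have h3 : (φ A).charpoly = (φ B).charpoly := by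
    rw [hφ, hφ, Matrix.charpoly_reindex, Matrix.charpoly_reindex, hc]
  obtain ⟨M, hM⟩ := matrix_conj _ (φ A) (φ B) N hN h1 h2 h3
  refine ⟨Units.map φ.symm.toAlgHom.toRingHom.toMonoidHom M, ?_⟩
  show φ.symm (M : Matrix _ _ F) * A = B * φ.symm (M : Matrix _ _ F)
  apply φ.injective
  rw [map_mul, map_mul, AlgEquiv.apply_symm_apply]
  exact hM

theorem main {F : Type*} [Field F] [Fintype F] (p : ℕ) [hp : Fact p.Prime] [CharP F p] (n : ℕ)
    (g h : ↥(Matrix.symplecticGroup (Fin n) F)) (hg : (orderOf g).Coprime p)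
    (hh : (orderOf h).Coprime p)
    (hc : (g : Matrix (Fin n ⊕ Fin n) (Fin n ⊕ Fin n) F).charpoly =
      (h : Matrix (Fin n ⊕ Fin n) (Fin n ⊕ Fin n) F).charpoly) :
    IsConj g h := by
  rw [S2589.main g h hg]
  have hN : ((orderOf g * orderOf h : ℕ) : F) ≠ 0 :=
    cast_ne_zero_of_coprime p _ (Nat.Coprime.mul_left hg hh)
  have hgN : (g : Matrix (Fin n ⊕ Fin n) (Fin n ⊕ Fin n) F) ^ (orderOf g * orderOf h) = 1 := by
    rw [← SubmonoidClass.coe_pow, pow_mul, pow_orderOf_eq_one, one_pow]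
    rfl
  have hhN : (h : Matrix (Fin n ⊕ Fin n) (Fin n ⊕ Fin n) F) ^ (orderOf g * orderOf h) = 1 := by
    rw [← SubmonoidClass.coe_pow, mul_comm, pow_mul, pow_orderOf_eq_one, one_pow]
    rfl
  obtain ⟨c, hc'⟩ := matrix_conj' _ _ _ hN hgN hhN hc
  exact ⟨c, hc'⟩

/-- In the symplectic group `Sp_{2n}(q)`, `q` a power of the prime `p`, two elements of order prime to `p` with the same characteristic polynomial are conjugate in `Sp_{2n}(q)`. -/
theorem result {F : Type*} [Field F] [Fintype F] (p : ℕ) [Fact p.Prime] [CharP F p] (n : ℕ)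
    (g h : ↥(Matrix.symplecticGroup (Fin n) F)) (hg : (orderOf g).Coprime p) (hh : (orderOf h).Coprime p)
    (hc : (g : Matrix (Fin n ⊕ Fin n) (Fin n ⊕ Fin n) F).charpoly = (h : Matrix (Fin n ⊕ Fin n) (Fin n ⊕ Fin n) F).charpoly) :
    IsConj g h := by
  exact main p n g h hg hh hc

end Cfsg.Agent.S2389
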