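import Cfsg.Statements.S2568
-- import your own Cfsg.Agent.* helpers here
import Cfsg.Agent.Lib.Helper15.PrimeOrderClasses

set_option autoImplicit false
open Cfsg

namespace Cfsg.Agent.S2568

open Polynomial Module Cfsg.Agent.Lib.Helper15.PrimeOrderClasses
  Cfsg.Agent.Lib.Helper15.SemisimpleCount Cfsg.Agent.Lib.Helper15.SemisimpleConj

universe u

variable {F : Type u} [Field F] [Fintype F]

/-- a matrix of order dividing `r` with a prescribed characteristic polynomial -/
theorem exists_matrix_pow_eq_one (n r K : ℕ) (hr : 0 < r) (χ : F[X])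
    (hmon : χ.Monic) (hdeg : χ.natDegree = n) (hdvd : χ ∣ (X ^ r - 1) ^ K) :
    ∃ M : Matrix (Fin n) (Fin n) F, M.charpoly = χ ∧ M ^ r = 1 := by
  classical
  have h0 : χ.coeff 0 ≠ 0 := by
    intro h
    rw [coeff_zero_eq_eval_zero] at h
    have h1 : eval 0 ((X ^ r - 1 : F[X]) ^ K) = 0 := by
      obtain ⟨c, hc⟩ := hdvd
      rw [hc, eval_mul, h, zero_mul]
    rw [eval_pow, eval_sub, eval_pow, eval_X, eval_one, zero_pow hr.ne', zero_sub] at h1
    exact (pow_ne_zero K (neg_ne_zero.2 one_ne_zero)) h1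
  obtain ⟨M, hM, N, hN, hMN⟩ := exists_matrix_of_charpoly n χ hmon hdeg h0
  refine ⟨M, hM, ?_⟩
  rcases Nat.eq_zero_or_pos n with rfl | hn
  · exact Subsingleton.elim _ _
  have : Nonempty (Fin n) := ⟨⟨0, hn⟩⟩
  set T : End F (Fin n → F) := Matrix.toLinAlgEquiv' M with hT
  have hss : T.IsSemisimple := by
    apply End.isSemisimple_of_squarefree_aeval_eq_zero
      (separable_X_pow_sub_C (1 : F) hN one_ne_zero).squarefree
    rw [map_sub, map_pow, aeval_X, aeval_C, map_one, hT, ← map_pow, hMN, map_one, sub_self]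
  have hsq := hss.minpoly_squarefree
  have hd : minpoly F T ∣ (X ^ r - 1) ^ K := by
    have h1 := LinearMap.minpoly_dvd_charpoly T
    have h3 : T.charpoly = M.charpoly := Matrix.charpoly_toLin' M
    rw [h3, hM] at h1
    exact h1.trans hdvd
  have hd' : minpoly F T ∣ X ^ r - 1 := hsq.isRadical K _ hd
  have h1 : aeval T (X ^ r - 1 : F[X]) = 0 := by
    obtain ⟨c, hc⟩ := hd'
    rw [hc, map_mul, minpoly.aeval, zero_mul]
  rw [map_sub, map_pow, aeval_X, map_one, sub_eq_zero, hT, ← map_pow] at h1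
  have : Matrix.toLinAlgEquiv' (M ^ r) = Matrix.toLinAlgEquiv' (1 : Matrix (Fin n) (Fin n) F) := by
    rw [h1, map_one]
  exact Matrix.toLinAlgEquiv'.injective this

/-- the characteristic polynomial of a matrix killed by `∏ h` -/
theorem matrix_charpoly_of_family {ι : Type*} [Fintype ι] [DecidableEq ι] (h : ι → F[X])
    (hmon : ∀ o, (h o).Monic) (hirr : ∀ o, Irreducible (h o)) (hsq : Squarefree (∏ o, h o))
    (n : ℕ) (A : Matrix (Fin n) (Fin n) F) (hA : aeval A (∏ o, h o) = 0) :
    ∃ e : ι → ℕ, A.charpoly = ∏ o, h o ^ e o := by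
  classical
  set T : End F (Fin n → F) := Matrix.toLinAlgEquiv' A with hT
  have h1 : aeval T (∏ o, h o) = 0 := by
    have h3 : aeval T (∏ o, h o) = Matrix.toLinAlgEquiv' (aeval A (∏ o, h o)) :=
      Polynomial.aeval_algHom_apply
        (Matrix.toLinAlgEquiv' : Matrix (Fin n) (Fin n) F ≃ₐ[F] _).toAlgHom A _
    rw [h3, hA, map_zero]
  obtain ⟨e, he⟩ := charpoly_of_family h hmon hirr hsq n (Fin n → F) T (Module.finrank_fin_fun F) h1
  refine ⟨e, ?_⟩
  rw [← he]
  exact (Matrix.charpoly_toLin' A).symm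

/-- degree bookkeeping -/
lemma natDegree_family {ι : Type*} [Fintype ι] (h : ι → F[X]) (hmon : ∀ o, (h o).Monic)
    (e : ι → ℕ) : (∏ o, h o ^ e o).natDegree = ∑ o, e o * (h o).natDegree := by
  rw [Polynomial.natDegree_prod_of_monic _ _ (fun o _ => (hmon o).pow (e o))]
  apply Finset.sum_congr rfl
  intro o _
  rw [(hmon o).natDegree_pow]

lemma family_dvd_pow {ι : Type*} [Fintype ι] [DecidableEq ι] (h : ι → F[X]) (e : ι → ℕ) :
    ∏ o, h o ^ e o ∣ (∏ o, h o) ^ (∑ o, e o) := by
  rw [← Finset.prod_pow_eq_pow_sum]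
  apply Finset.prod_dvd_prod_of_dvd
  intro o _
  exact pow_dvd_pow_of_dvd (Finset.dvd_prod_of_mem h (Finset.mem_univ o)) _

theorem main {p q : ℕ} [hp : Fact p.Prime] [CharP F p] (hF : Fintype.card F = q) (n r i t : ℕ)
    (hr : r.Prime) (hrp : r ≠ p) (hi : i = orderOf (q : ZMod r)) (ht : t * i = r - 1) :
    Nat.card {C : ConjClasses (GL (Fin n) F) //
      ∃ g : GL (Fin n) F, ConjClasses.mk g = C ∧ orderOf g = r} =
      Nat.choose (n / i + t) t - 1 := by
  classical
  obtain ⟨h, hmon, hirr, hnone, hdeg, hprod⟩ := exists_factor_family hF r i t hr hrp hi ht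
  have hrF : (r : F) ≠ 0 := by
    rw [Ne, CharP.cast_eq_zero_iff F p]
    intro hd
    exact hrp ((Nat.prime_dvd_prime_iff_eq hp.out hr).1 hd).symm
  have hsq : Squarefree (∏ o, h o) := by
    rw [hprod]
    have := (separable_X_pow_sub_C (1 : F) hrF one_ne_zero).squarefree
    rwa [map_one] at this
  have hcop := family_coprime h hmon hirr hsq
  have hi0 : 0 < i := by
    have := hr.two_le
    rcases Nat.eq_zero_or_pos i with h0 | h0
    · rw [h0, mul_zero] at ht; omega
    · exact h0
  let ex : (Fin t → ℕ) → Option (Fin t) → ℕ :=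
    fun a o => Option.casesOn o (n - i * ∑ j, a j) a
  have hdegsum : ∀ e : Option (Fin t) → ℕ,
      (∏ o, h o ^ e o).natDegree = e none + i * ∑ j, e (some j) := by
    intro e
    have hX1 : (X - 1 : F[X]).natDegree = 1 := by
      rw [← C_1]; exact natDegree_X_sub_C 1
    rw [natDegree_family h hmon, Fintype.sum_option, hnone, hX1, mul_one,
      Finset.mul_sum]
    congr 1
    apply Finset.sum_congr rfl
    intro j _
    rw [hdeg j, mul_comm]
  have hdegex : ∀ a : Fin t → ℕ, (∑ j, a j) ≤ n / i → (∏ o, h o ^ ex a o).natDegree = n := by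
    intro a ha
    rw [hdegsum]
    show n - i * ∑ j, a j + i * ∑ j, a j = n
    have h1 : i * ∑ j, a j ≤ n := by
      have := Nat.mul_le_mul_left i ha
      exact this.trans (Nat.mul_div_le n i)
    omega
  have hmat : ∀ a : Fin t → ℕ, (∑ j, a j) ≤ n / i →
      ∃ M : Matrix (Fin n) (Fin n) F, M.charpoly = ∏ o, h o ^ ex a o ∧ M ^ r = 1 := by
    intro a ha
    apply exists_matrix_pow_eq_one n r (∑ o, ex a o) hr.pos _
      (monic_prod_of_monic _ _ (fun o _ => (hmon o).pow _)) (hdegex a ha)
    rw [← hprod]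
    exact family_dvd_pow h (ex a)
  -- matrices killed by X^r - 1
  have hstruct : ∀ A : Matrix (Fin n) (Fin n) F, A ^ r = 1 →
      ∃ e : Option (Fin t) → ℕ, A.charpoly = ∏ o, h o ^ e o := by
    intro A hA
    apply matrix_charpoly_of_family h hmon hirr hsq n A
    rw [hprod, map_sub, map_pow, aeval_X, map_one, hA, sub_self]
  have hone : ∀ A : Matrix (Fin n) (Fin n) F, A ^ r = 1 → ∀ e : Option (Fin t) → ℕ,
      A.charpoly = ∏ o, h o ^ e o → (∀ j, e (some j) = 0) → A = 1 := by
    intro A hA e he hz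
    have h1 : A.charpoly = (1 : Matrix (Fin n) (Fin n) F).charpoly := by
      have hd := hdegsum e
      rw [← he, Matrix.charpoly_natDegree_eq_dim, Fintype.card_fin] at hd
      have h0 : ∑ j, e (some j) = 0 := Finset.sum_eq_zero (fun j _ => hz j)
      rw [h0, mul_zero, add_zero] at hd
      rw [he, Fintype.prod_option, Matrix.charpoly_one, Fintype.card_fin, hnone, ← hd]
      have : ∏ j, h (some j) ^ e (some j) = 1 := by
        apply Finset.prod_eq_one
        intro j _
        rw [hz j, pow_zero]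
      rw [this, mul_one]
    obtain ⟨M, hM⟩ := matrix_conj n A 1 r hrF hA (one_pow r) h1
    rw [one_mul] at hM
    have h3 : (M⁻¹ : GL (Fin n) F).val * (M.val * A) = (M⁻¹ : GL (Fin n) F).val * M.val := by
      rw [hM]
    rw [← mul_assoc, ← Units.val_mul, inv_mul_cancel, Units.val_one, one_mul] at h3
    exact h3
  -- the bijection
  rw [← card_nonzero_bounded_tuples t (n / i)]
  symm
  let 𝒯 := {a : Fin t → ℕ // ∑ j, a j ≤ n / i ∧ a ≠ 0}
  let 𝒞 := {C : ConjClasses (GL (Fin n) F) //
      ∃ g : GL (Fin n) F, ConjClasses.mk g = C ∧ orderOf g = r}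
  let Ma : 𝒯 → Matrix (Fin n) (Fin n) F := fun a => Classical.choose (hmat a.1 a.2.1)
  have hMa : ∀ a : 𝒯, (Ma a).charpoly = ∏ o, h o ^ ex a.1 o ∧ (Ma a) ^ r = 1 :=
    fun a => Classical.choose_spec (hmat a.1 a.2.1)
  have hex_inj : ∀ a b : Fin t → ℕ, ex a = ex b → a = b := by
    intro a b hab
    funext j
    exact congrFun hab (some j)
  have hMa1 : ∀ a : 𝒯, Ma a ≠ 1 := by
    intro a h1
    apply a.2.2
    have := hone (Ma a) (hMa a).2 (ex a.1) (hMa a).1
    -- if all a j = 0 fine; use uniqueness instead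
    have h3 : (Ma a).charpoly = ∏ o, h o ^ ex (0 : Fin t → ℕ) o := by
      rw [h1, Matrix.charpoly_one, Fintype.card_fin, Fintype.prod_option, hnone]
      have : ∏ j, h (some j) ^ ex (0 : Fin t → ℕ) (some j) = 1 := by
        apply Finset.prod_eq_one
        intro j _
        show h (some j) ^ (0 : ℕ) = 1
        rw [pow_zero]
      rw [this, mul_one]
      show (X - 1 : F[X]) ^ n = (X - 1) ^ (n - i * ∑ j, (0 : Fin t → ℕ) j)
      simp
    rw [(hMa a).1] at h3
    exact hex_inj _ _ (exp_unique h hirr hcop _ _ h3)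
  obtain ⟨r', hr'⟩ : ∃ r', r = r' + 1 := ⟨r - 1, by have := hr.pos; omega⟩
  let ga : 𝒯 → GL (Fin n) F := fun a => ⟨Ma a, (Ma a) ^ r', by
    rw [← pow_succ', ← hr', (hMa a).2], by rw [← pow_succ, ← hr', (hMa a).2]⟩
  have hga : ∀ a : 𝒯, orderOf (ga a) = r := by
    intro a
    haveI : Fact r.Prime := ⟨hr⟩
    apply orderOf_eq_prime
    · apply Units.ext
      rw [Units.val_pow_eq_pow_val, Units.val_one]
      exact (hMa a).2
    · intro h1
      apply hMa1 a
      have := congrArg Units.val h1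
      exact this
  let Ψ : 𝒯 → 𝒞 := fun a => ⟨ConjClasses.mk (ga a), ga a, rfl, hga a⟩
  apply Nat.card_congr
  refine Equiv.ofBijective Ψ ⟨?_, ?_⟩
  · intro a b hab
    have h1 : ConjClasses.mk (ga a) = ConjClasses.mk (ga b) := congrArg Subtype.val hab
    obtain ⟨u, hu⟩ := isConj_iff.1 (ConjClasses.mk_eq_mk_iff_isConj.1 h1)
    have h3 : (Ma b).charpoly = (Ma a).charpoly := by
      have h4 : Ma b = u.val * Ma a * u.val⁻¹ := by
        have := congrArg Units.val hu
        rw [Units.val_mul, Units.val_mul, Matrix.coe_units_inv] at this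
        exact this.symm
      rw [h4, Matrix.charpoly_units_conj]
    rw [(hMa a).1, (hMa b).1] at h3
    apply Subtype.ext
    exact (hex_inj _ _ (exp_unique h hirr hcop _ _ h3)).symm
  · rintro ⟨C, g, rfl, hg⟩
    have hgr : (g : Matrix (Fin n) (Fin n) F) ^ r = 1 := by
      rw [← Units.val_pow_eq_pow_val, ← hg, pow_orderOf_eq_one, Units.val_one]
    have hg1 : (g : Matrix (Fin n) (Fin n) F) ≠ 1 := by
      intro h1
      have : g = 1 := Units.ext h1
      rw [this, orderOf_one] at hg
      exact hr.one_lt.ne hg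
    obtain ⟨e, he⟩ := hstruct g.val hgr
    have hd := hdegsum e
    rw [← he, Matrix.charpoly_natDegree_eq_dim, Fintype.card_fin] at hd
    let a : Fin t → ℕ := fun j => e (some j)
    have hsum : ∑ j, a j = ∑ j, e (some j) := rfl
    have ha1 : ∑ j, a j ≤ n / i := by
      rw [Nat.le_div_iff_mul_le hi0, mul_comm, hsum]
      omega
    have ha2 : a ≠ 0 := by
      intro h0
      apply hg1
      apply hone g.val hgr e he
      intro j
      exact congrFun h0 j
    have hea : ex a = e := by
      funext o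
      cases o with
      | none =>
        show n - i * ∑ j, a j = e none
        rw [hsum]
        omega
      | some j => rfl
    refine ⟨⟨a, ha1, ha2⟩, ?_⟩
    apply Subtype.ext
    show ConjClasses.mk (ga ⟨a, ha1, ha2⟩) = ConjClasses.mk g
    rw [ConjClasses.mk_eq_mk_iff_isConj]
    have hcp : (Ma ⟨a, ha1, ha2⟩).charpoly = g.val.charpoly := by
      rw [(hMa ⟨a, ha1, ha2⟩).1, he]
      show ∏ o, h o ^ ex a o = _
      rw [hea]
    obtain ⟨M, hM⟩ := matrix_conj n _ _ r hrF (hMa ⟨a, ha1, ha2⟩).2 hgr hcp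
    rw [isConj_iff]
    refine ⟨M, ?_⟩
    rw [mul_inv_eq_iff_eq_mul]
    apply Units.ext
    rw [Units.val_mul, Units.val_mul]
    exact hM

/-- Number of conjugacy classes of elements of a given prime order r, coprime to the characteristic, in GL_n(q): if i is the multiplicative order of q modulo r and t = (r − 1)/i, the classes correspond to the non-zero t-tuples of natural numbers (a_1, …, a_t) with i(a_1 + ⋯ + a_t) ≤ n (a_j is the multiplicity of the j-th Frobenius orbit of nontrivial r-th roots of unity among the eigenvalues), so there are exactly C(⌊n/i⌋ + t, t) − 1 of them. -/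
theorem result {F : Type*} [Field F] [Fintype F] {p q : ℕ} [Fact p.Prime] [CharP F p] (hF : Fintype.card F = q) (n r i t : ℕ) (hr : r.Prime) (hrp : r ≠ p) (hi : i = orderOf (q : ZMod r)) (ht : t * i = r - 1) : Nat.card {C : ConjClasses (GL (Fin n) F) // ∃ g : GL (Fin n) F, ConjClasses.mk g = C ∧ orderOf g = r} = Nat.choose (n / i + t) t - 1 := by
  exact main hF n r i t hr hrp hi ht

end Cfsg.Agent.S2568
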