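import Cfsg.Statements.S2587
-- import your own Cfsg.Agent.* helpers here
import Cfsg.Agent.S2643
import Cfsg.Agent.Lib.Helper15.UnitaryConj

set_option autoImplicit false
open Cfsg

namespace Cfsg.Agent.S2587

open Matrix Cfsg.Agent.Lib.Helper14 Cfsg.Agent.Lib.Helper15

/-- `GL`-conjugate elements of `GU` are `GU`-conjugate -/
theorem conj_of_gl_conj {K : Type*} [Field K] [Fintype K] {q n : ℕ} (hK : Fintype.card K = q ^ 2)
    (A B : ↥(Cfsg.GU n K q)) (h : IsConj (A : GL (Fin n) K) (B : GL (Fin n) K)) : IsConj A B := by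
  classical
  let _ : StarRing K := S2643.frobStar hK
  have key : ∀ M : Matrix (Fin n) (Fin n) K, IsUni K q n M ↔ Mᴴ * M = 1 :=
    fun M => S2643.isUni_iff hK M
  obtain ⟨τ, hτ⟩ := S2643.exists_not_fixed hK
  have hτ' : τ - star τ ≠ 0 := sub_ne_zero.2 (Ne.symm hτ)
  obtain ⟨c, hc⟩ := isConj_iff.1 h
  have hcm : (c : Matrix (Fin n) (Fin n) K) * (A.1 : Matrix (Fin n) (Fin n) K) =
      (B.1 : Matrix (Fin n) (Fin n) K) * (c : Matrix (Fin n) (Fin n) K) := by
    have h1 : c * A.1 = B.1 * c := by rw [← hc]; group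
    have := congrArg (fun x : GL (Fin n) K => (x : Matrix (Fin n) (Fin n) K)) h1
    simpa only [Units.val_mul] using this
  have hAu : (A.1 : Matrix (Fin n) (Fin n) K)ᴴ * (A.1 : Matrix (Fin n) (Fin n) K) = 1 :=
    (key _).1 ((mem_GU_iff A.1).1 A.2)
  have hBu : (B.1 : Matrix (Fin n) (Fin n) K)ᴴ * (B.1 : Matrix (Fin n) (Fin n) K) = 1 :=
    (key _).1 ((mem_GU_iff B.1).1 B.2)
  obtain ⟨g, hgu, hgAB⟩ := UnitaryConj.unitary_conj_of_conj τ hτ' _ _ _ hAu hBu c.isUnit hcm
  have hgdet : g.det ≠ 0 := (Matrix.isUnit_det_of_left_inverse hgu).ne_zero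
  obtain ⟨gG, hgG⟩ : ∃ gG : GL (Fin n) K, (gG : Matrix (Fin n) (Fin n) K) = g :=
    ⟨Matrix.GeneralLinearGroup.mkOfDetNeZero g hgdet, rfl⟩
  have hgGmem : gG ∈ Cfsg.GU n K q := by
    rw [mem_GU_iff, hgG]
    exact (key g).2 hgu
  rw [isConj_iff]
  refine ⟨⟨gG, hgGmem⟩, ?_⟩
  apply Subtype.ext
  rw [Subgroup.coe_mul, Subgroup.coe_mul, Subgroup.coe_inv, mul_inv_eq_iff_eq_mul]
  apply Units.ext
  rw [Units.val_mul, Units.val_mul, hgG]
  exact hgAB

/-- Conjugacy in the finite general unitary group is controlled by the general linear group: two elements of GU_n(q) (the invertible matrices over the field with q² elements preserving the Hermitian form Σ u_i v_i^q) are conjugate in GU_n(q) if and only if they are conjugate in GL_n(q²). -/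
theorem result {K : Type*} [Field K] [Fintype K] {q n : ℕ} (hK : Fintype.card K = q ^ 2) (A B : ↥(Cfsg.GU n K q)) : IsConj A B ↔ IsConj (A : GL (Fin n) K) (B : GL (Fin n) K) := by
  exact ⟨fun h => MonoidHom.map_isConj (Cfsg.GU n K q).subtype h, conj_of_gl_conj hK A B⟩

end Cfsg.Agent.S2587
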