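import Cfsg.Statements.S2588
-- import your own Cfsg.Agent.* helpers here
import Cfsg.Agent.S2643
import Cfsg.Agent.Lib.Helper15.UnitaryForm

set_option autoImplicit false
open Cfsg

namespace Cfsg.Agent.S2588

open Matrix Cfsg.Agent.Lib.Helper14 Cfsg.Agent.Lib.Helper15

theorem main {K : Type*} [Field K] [Fintype K] {q n : ℕ} (hK : Fintype.card K = q ^ 2) (A : GL (Fin n) K) : (∃ B : ↥(Cfsg.GU n K q), IsConj A (B : GL (Fin n) K)) ↔ IsConj (A : Matrix (Fin n) (Fin n) K) (((A : Matrix (Fin n) (Fin n) K).map (fun x : K => x ^ q)).transpose)⁻¹ := by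
  classical
  let _ : StarRing K := S2643.frobStar hK
  have key : ∀ M : Matrix (Fin n) (Fin n) K, IsUni K q n M ↔ Mᴴ * M = 1 :=
    fun M => S2643.isUni_iff hK M
  have hAH : ((A : Matrix (Fin n) (Fin n) K).map (fun x : K => x ^ q)).transpose =
      (A : Matrix (Fin n) (Fin n) K)ᴴ := rfl
  rw [hAH]
  have hAHdet : IsUnit ((A : Matrix (Fin n) (Fin n) K)ᴴ).det := by
    rw [← Matrix.isUnit_iff_isUnit_det, ← Matrix.star_eq_conjTranspose]
    exact A.isUnit.star
  have hinv1 : ((A : Matrix (Fin n) (Fin n) K)ᴴ)⁻¹ * (A : Matrix (Fin n) (Fin n) K)ᴴ = 1 :=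
    Matrix.nonsing_inv_mul _ hAHdet
  have hinv2 : (A : Matrix (Fin n) (Fin n) K)ᴴ * ((A : Matrix (Fin n) (Fin n) K)ᴴ)⁻¹ = 1 :=
    Matrix.mul_nonsing_inv _ hAHdet
  constructor
  · rintro ⟨B, hAB⟩
    obtain ⟨c, hc⟩ := isConj_iff.1 hAB
    have hcm : (c : Matrix (Fin n) (Fin n) K) * (A : Matrix (Fin n) (Fin n) K) =
        (B.1 : Matrix (Fin n) (Fin n) K) * (c : Matrix (Fin n) (Fin n) K) := by
      have h1 : c * A = B.1 * c := by rw [← hc]; group
      have := congrArg (fun x : GL (Fin n) K => (x : Matrix (Fin n) (Fin n) K)) h1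
      simpa only [Units.val_mul] using this
    have hBu : (B.1 : Matrix (Fin n) (Fin n) K)ᴴ * (B.1 : Matrix (Fin n) (Fin n) K) = 1 :=
      (key _).1 ((mem_GU_iff B.1).1 B.2)
    obtain ⟨d, hd⟩ : ∃ d : Matrix (Fin n) (Fin n) K,
        d = (c : Matrix (Fin n) (Fin n) K)ᴴ * (c : Matrix (Fin n) (Fin n) K) := ⟨_, rfl⟩
    have hdu : IsUnit d := by
      rw [hd]
      refine IsUnit.mul ?_ c.isUnit
      rw [← Matrix.star_eq_conjTranspose]
      exact c.isUnit.star
    have hform : (A : Matrix (Fin n) (Fin n) K)ᴴ * (d * (A : Matrix (Fin n) (Fin n) K)) = d := by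
      calc (A : Matrix (Fin n) (Fin n) K)ᴴ * (d * (A : Matrix (Fin n) (Fin n) K))
          = ((c : Matrix (Fin n) (Fin n) K) * (A : Matrix (Fin n) (Fin n) K))ᴴ *
            ((c : Matrix (Fin n) (Fin n) K) * (A : Matrix (Fin n) (Fin n) K)) := by
            rw [hd, conjTranspose_mul]; simp only [Matrix.mul_assoc]
        _ = (c : Matrix (Fin n) (Fin n) K)ᴴ * ((B.1 : Matrix (Fin n) (Fin n) K)ᴴ *
            (B.1 : Matrix (Fin n) (Fin n) K)) * (c : Matrix (Fin n) (Fin n) K) := by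
            rw [hcm, conjTranspose_mul]; simp only [Matrix.mul_assoc]
        _ = d := by rw [hBu, Matrix.mul_one, hd]
    obtain ⟨du, hdu'⟩ := hdu
    refine ⟨du, ?_⟩
    show (du : Matrix (Fin n) (Fin n) K) * (A : Matrix (Fin n) (Fin n) K) =
      ((A : Matrix (Fin n) (Fin n) K)ᴴ)⁻¹ * (du : Matrix (Fin n) (Fin n) K)
    rw [hdu']
    calc d * (A : Matrix (Fin n) (Fin n) K)
        = (((A : Matrix (Fin n) (Fin n) K)ᴴ)⁻¹ * (A : Matrix (Fin n) (Fin n) K)ᴴ) *
          (d * (A : Matrix (Fin n) (Fin n) K)) := by rw [hinv1, Matrix.one_mul]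
      _ = ((A : Matrix (Fin n) (Fin n) K)ᴴ)⁻¹ * ((A : Matrix (Fin n) (Fin n) K)ᴴ *
          (d * (A : Matrix (Fin n) (Fin n) K))) := by rw [Matrix.mul_assoc]
      _ = ((A : Matrix (Fin n) (Fin n) K)ᴴ)⁻¹ * d := by rw [hform]
  · rintro ⟨du, hdu⟩
    have hdu' : (du : Matrix (Fin n) (Fin n) K) * (A : Matrix (Fin n) (Fin n) K) =
      ((A : Matrix (Fin n) (Fin n) K)ᴴ)⁻¹ * (du : Matrix (Fin n) (Fin n) K) := hdu
    have hform : (A : Matrix (Fin n) (Fin n) K)ᴴ * (du : Matrix (Fin n) (Fin n) K) *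
        (A : Matrix (Fin n) (Fin n) K) = (du : Matrix (Fin n) (Fin n) K) := by
      rw [Matrix.mul_assoc, hdu', ← Matrix.mul_assoc, hinv2, Matrix.one_mul]
    obtain ⟨τ, hτ⟩ := S2643.exists_not_fixed hK
    have hτ' : τ - star τ ≠ 0 := sub_ne_zero.2 (Ne.symm hτ)
    obtain ⟨Q, P, hQP, hPQ, hunit⟩ := UnitaryForm.exists_unitary_conj (S2643.frob_T hK)
      (S2643.frob_N hK) τ hτ' (A : Matrix (Fin n) (Fin n) K)
      ((A⁻¹ : GL (Fin n) K) : Matrix (Fin n) (Fin n) K) (du : Matrix (Fin n) (Fin n) K)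
      ((du⁻¹ : (Matrix (Fin n) (Fin n) K)ˣ) : Matrix (Fin n) (Fin n) K)
      (by rw [← Units.val_mul, mul_inv_cancel, Units.val_one])
      (by rw [← Units.val_mul, inv_mul_cancel, Units.val_one])
      (by rw [← Units.val_mul, inv_mul_cancel, Units.val_one])
      (by rw [← Units.val_mul, mul_inv_cancel, Units.val_one]) hform
    have hBdet : (Q * (A : Matrix (Fin n) (Fin n) K) * P).det ≠ 0 :=
      (Matrix.isUnit_det_of_left_inverse hunit).ne_zero
    obtain ⟨BG, hBG⟩ : ∃ BG : GL (Fin n) K,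
        (BG : Matrix (Fin n) (Fin n) K) = Q * (A : Matrix (Fin n) (Fin n) K) * P :=
      ⟨Matrix.GeneralLinearGroup.mkOfDetNeZero _ hBdet, rfl⟩
    have hBmem : BG ∈ Cfsg.GU n K q := by
      rw [mem_GU_iff, hBG]
      exact (key _).2 hunit
    refine ⟨⟨BG, hBmem⟩, ?_⟩
    rw [isConj_iff]
    refine ⟨⟨Q, P, hQP, hPQ⟩, ?_⟩
    apply Units.ext
    rw [hBG]
    rfl

/-- An invertible matrix A over the field with q² elements is conjugate in GL_n(q²) to an element of the general unitary group GU_n(q) (isometries of the Hermitian form Σ u_i v_i^q) if and only if A is similar to the inverse transpose of its entrywise q-th power (A ~ A^(−qT), the image of A under the map sending a matrix to the inverse transpose of its entrywise q-th power — inverse transpose composed with the field automorphism — whose fixed points form GU_n(q)). -/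
theorem result {K : Type*} [Field K] [Fintype K] {q n : ℕ} (hK : Fintype.card K = q ^ 2) (A : GL (Fin n) K) : (∃ B : ↥(Cfsg.GU n K q), IsConj A (B : GL (Fin n) K)) ↔ IsConj (A : Matrix (Fin n) (Fin n) K) (((A : Matrix (Fin n) (Fin n) K).map (fun x : K => x ^ q)).transpose)⁻¹ := by
  exact main hK A

end Cfsg.Agent.S2588
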