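import Cfsg.Statements.S2671
-- import your own Cfsg.Agent.* helpers here
import Cfsg.Agent.Lib.Helper15.StarPoly
import Cfsg.Agent.Lib.Helper15.PrimeOrderClasses
import Cfsg.Agent.S2568
import Cfsg.Agent.S2587
import Cfsg.Agent.S2588

set_option autoImplicit false
open Cfsg

namespace Cfsg.Agent.S2671

open Polynomial Cfsg.Agent.Lib.Helper15 Cfsg.Agent.Lib.Helper15.PrimeOrderClasses
  Cfsg.Agent.Lib.Helper15.SemisimpleCount


theorem charpoly_star {K : Type*} [Field K] (σ : K →+* K) {n : ℕ}
    (A : Matrix (Fin n) (Fin n) K) (hA : IsUnit A) :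
    (((A.map σ).transpose)⁻¹).charpoly = StarPoly.star σ A.charpoly := by
  have hB : IsUnit ((A.map σ).transpose) := by
    rw [Matrix.isUnit_transpose]
    exact hA.map σ.mapMatrix
  have hcp : ((A.map σ).transpose).charpoly = A.charpoly.map σ := by
    rw [Matrix.charpoly_transpose]
    exact Matrix.charpoly_map A σ
  rw [Matrix.charpoly_inv _ hB, ← Matrix.reverse_charpoly, hcp]
  unfold StarPoly.star
  have hdet := Matrix.det_eq_sign_charpoly_coeff ((A.map σ).transpose)
  rw [hcp, Fintype.card_fin] at hdet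
  have hdet0 : ((A.map σ).transpose).det ≠ 0 := by
    rw [Matrix.isUnit_iff_isUnit_det] at hB
    exact hB.ne_zero
  rw [Ring.inverse_eq_inv', Fintype.card_fin]
  have h1 : ((map σ A.charpoly).coeff 0)⁻¹ = (-1) ^ n * ((A.map σ).transpose).det⁻¹ := by
    rw [hdet, mul_inv, ← mul_assoc]
    have h2 : ((-1 : K) ^ n) * ((-1) ^ n)⁻¹ = 1 := mul_inv_cancel₀ (pow_ne_zero _ (by norm_num))
    have h3 : ((-1 : K) ^ n) * ((-1) ^ n) = 1 := by
      rw [← mul_pow]; norm_num
    have h4 : ((-1 : K) ^ n)⁻¹ = (-1) ^ n := by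
      rw [inv_eq_iff_eq_inv]
      exact eq_inv_of_mul_eq_one_left h3
    rw [h4, h3, one_mul]
  rw [h1, C_mul, C_pow, C_neg, C_1]


section family

variable {K : Type*} [Field K]

/-- the star involution permutes a factor family of `X^r - 1` -/
theorem exists_tau {ι : Type*} [Fintype ι] [DecidableEq ι] (σ : K →+* K)
    (hσσ : ∀ c, σ (σ c) = c) (r : ℕ) (hr : 0 < r) (h : ι → K[X]) (hmon : ∀ o, (h o).Monic)
    (hirr : ∀ o, Irreducible (h o)) (hprod : ∏ o, h o = X ^ r - 1)
    (hinj : Function.Injective h) :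
    ∃ τ : ι → ι, (∀ o, StarPoly.star σ (h o) = h (τ o)) ∧ Function.Involutive τ := by
  have hdvd : ∀ o, h o ∣ X ^ r - 1 := by
    intro o
    rw [← hprod]
    exact Finset.dvd_prod_of_mem h (Finset.mem_univ o)
  have h0 : ∀ o, (h o).coeff 0 ≠ 0 := by
    intro o hc
    rw [coeff_zero_eq_eval_zero] at hc
    obtain ⟨g, hg⟩ := hdvd o
    have := congrArg (eval 0) hg
    rw [eval_mul, hc, zero_mul, eval_sub, eval_pow, eval_X, eval_one, zero_pow hr.ne',
      zero_sub] at this
    exact one_ne_zero (neg_eq_zero.1 this)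
  have hex : ∀ o, ∃ o', StarPoly.star σ (h o) = h o' := by
    intro o
    have h1 : StarPoly.star σ (h o) ∣ X ^ r - 1 := by
      have := map_dvd (StarPoly.starHom σ) (hdvd o)
      have h2 : StarPoly.starHom σ (X ^ r - 1) = X ^ r - 1 := StarPoly.star_X_pow_sub_one σ r hr
      rw [h2] at this
      exact this
    have hirr' := StarPoly.irreducible_star σ hσσ (h o) (hmon o) (h0 o) (hirr o)
    rw [← hprod] at h1
    obtain ⟨o', -, ho'⟩ := (hirr'.prime.dvd_finsetProd_iff h).1 h1
    refine ⟨o', ?_⟩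
    exact eq_of_monic_of_associated (StarPoly.monic_star σ (h o) (h0 o)) (hmon o')
      (hirr'.associated_of_dvd (hirr o') ho')
  choose τ hτ using hex
  refine ⟨τ, hτ, ?_⟩
  intro o
  apply hinj
  rw [← hτ, ← hτ, StarPoly.star_star σ hσσ (h o) (hmon o) (h0 o)]

lemma star_family {ι : Type*} [Fintype ι] [DecidableEq ι] (σ : K →+* K) (h : ι → K[X])
    (τ : ι → ι) (hτ : ∀ o, StarPoly.star σ (h o) = h (τ o)) (hinv : Function.Involutive τ)
    (e : ι → ℕ) : StarPoly.star σ (∏ o, h o ^ e o) = ∏ o, h o ^ e (τ o) := by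
  rw [StarPoly.star_prod]
  apply Fintype.prod_equiv hinv.toPerm
  intro o
  rw [StarPoly.star_pow, hτ]
  show h (τ o) ^ e o = h (τ o) ^ e (τ (τ o))
  rw [hinv o]

end family

section arith

lemma order_sq (r q i b : ℕ) (hi : i = orderOf (q : ZMod r))
    (hb : b = if Odd i then i else i / 2) : b = orderOf (((q ^ 2 : ℕ)) : ZMod r) := by
  rw [Nat.cast_pow, orderOf_pow' _ two_ne_zero, ← hi, hb]
  by_cases ho : Odd i
  · rw [if_pos ho]
    have : Nat.gcd i 2 = 1 := Nat.coprime_two_right.2 ho
    rw [this, Nat.div_one]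
  · rw [if_neg ho]
    have he : Even i := Nat.not_odd_iff_even.1 ho
    have : Nat.gcd i 2 = 2 := Nat.gcd_eq_right he.two_dvd
    rw [this]

lemma arith (r q i : ℕ) (hr : r.Prime) (hr2 : r ≠ 2) (hi : i = orderOf (q : ZMod r))
    (hi0 : 0 < i) : (∃ m : ℕ, ((q + (q ^ 2) ^ m : ℕ) : ZMod r) = 0) ↔ i % 4 = 2 := by
  haveI : Fact r.Prime := ⟨hr⟩
  haveI : Fact (2 < r) := ⟨lt_of_le_of_ne hr.two_le (Ne.symm hr2)⟩
  obtain ⟨x, hx⟩ : ∃ x : ZMod r, x = (q : ZMod r) := ⟨_, rfl⟩
  rw [← hx] at hi
  have hxi : x ^ i = 1 := by rw [hi]; exact pow_orderOf_eq_one x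
  have hx0 : x ≠ 0 := by
    intro h0
    rw [h0, zero_pow hi0.ne'] at hxi
    exact zero_ne_one hxi
  have hcast : ∀ m : ℕ, ((q + (q ^ 2) ^ m : ℕ) : ZMod r) = x + (x ^ 2) ^ m := by
    intro m
    rw [Nat.cast_add, Nat.cast_pow, Nat.cast_pow, hx]
  have hne : (-1 : ZMod r) ≠ 1 := ZMod.neg_one_ne_one
  constructor
  · rintro ⟨m, hm⟩
    rw [hcast] at hm
    rcases Nat.eq_zero_or_pos m with rfl | hm0
    · rw [pow_zero] at hm
      have hx1 : x = -1 := eq_neg_of_add_eq_zero_left hm
      have h2 : i ∣ 2 := by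
        rw [hi]
        apply orderOf_dvd_of_pow_eq_one
        rw [hx1]; norm_num
      have h1 : i ≠ 1 := by
        intro h1
        rw [h1, pow_one] at hxi
        rw [hxi] at hx1
        exact hne hx1.symm
      have : i ≤ 2 := Nat.le_of_dvd (by norm_num) h2
      interval_cases i
      · exact absurd rfl h1
      · rfl
    · obtain ⟨m', rfl⟩ : ∃ m', m = m' + 1 := ⟨m - 1, by omega⟩
      have h1 : x * (1 + x ^ (2 * m' + 1)) = 0 := by
        rw [← hm]; ring
      have h2 : x ^ (2 * m' + 1) = -1 := by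
        rcases mul_eq_zero.1 h1 with h | h
        · exact absurd h hx0
        · exact (eq_neg_of_add_eq_zero_right h)
      have h3 : i ∣ 2 * (2 * m' + 1) := by
        rw [hi]
        apply orderOf_dvd_of_pow_eq_one
        rw [mul_comm, pow_mul, h2]; norm_num
      have h4 : ¬ i ∣ (2 * m' + 1) := by
        intro hd
        rw [hi] at hd
        have := orderOf_dvd_iff_pow_eq_one.1 hd
        rw [h2] at this
        exact hne this
      rcases Nat.even_or_odd i with he | ho
      · obtain ⟨i', hi'⟩ := he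
        have h5 : i' ∣ 2 * m' + 1 := by
          have : 2 * i' ∣ 2 * (2 * m' + 1) := by
            have h6 : i = 2 * i' := by omega
            rw [← h6]; exact h3
          exact Nat.dvd_of_mul_dvd_mul_left (by norm_num) this
        have h6 : Odd i' := by
          have hodd : Odd (2 * m' + 1) := ⟨m', rfl⟩
          exact Odd.of_dvd_nat hodd h5
        obtain ⟨j, hj⟩ := h6
        omega
      · exfalso
        apply h4
        have hc : Nat.Coprime i 2 := Nat.coprime_two_right.2 ho
        exact hc.dvd_of_dvd_mul_left h3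
  · intro h4
    obtain ⟨k, hk⟩ : ∃ k, i = 4 * k + 2 := ⟨i / 4, by omega⟩
    have h1 : (x ^ (2 * k + 1)) ^ 2 = 1 := by
      rw [← pow_mul]
      have : (2 * k + 1) * 2 = i := by omega
      rw [this, hxi]
    have h2 : x ^ (2 * k + 1) = -1 := by
      rw [sq] at h1
      rcases mul_self_eq_one_iff.1 h1 with h | h
      · exfalso
        have hd : i ∣ 2 * k + 1 := by
          rw [hi]; exact orderOf_dvd_of_pow_eq_one h
        have := Nat.le_of_dvd (by omega) hd
        omega
      · exact h
    refine ⟨k + 1, ?_⟩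
    rw [hcast]
    have : x + (x ^ 2) ^ (k + 1) = x * (1 + x ^ (2 * k + 1)) := by ring
    rw [this, h2]; ring

end arith

section comb

theorem card_nonzero_bounded_tuples' (κ : Type*) [Fintype κ] (k : ℕ) :
    Nat.card {c : κ → ℕ // ∑ j, c j ≤ k ∧ c ≠ 0} =
      (k + Fintype.card κ).choose (Fintype.card κ) - 1 := by
  classical
  rw [← card_nonzero_bounded_tuples (Fintype.card κ) k]
  apply Nat.card_congr
  let ε := Fintype.equivFin κ
  refine Equiv.subtypeEquiv (ε.arrowCongr (Equiv.refl ℕ)) ?_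
  intro c
  have h1 : ∀ j, (ε.arrowCongr (Equiv.refl ℕ)) c j = c (ε.symm j) := fun j => rfl
  have h2 : ∑ j, (ε.arrowCongr (Equiv.refl ℕ)) c j = ∑ j, c j := by
    simp only [h1]
    exact Equiv.sum_comp ε.symm c
  rw [h2]
  apply and_congr Iff.rfl
  apply not_congr
  constructor
  · intro h0
    rw [h0]
    rfl
  · intro h0
    funext x
    have := congrFun h0 (ε x)
    rw [h1, Equiv.symm_apply_apply] at this
    exact this

theorem card_invariant_fpf (s N : ℕ) (τ : Fin s → Fin s) (hinv : Function.Involutive τ)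
    (hfpf : ∀ x, τ x ≠ x) :
    Nat.card {a : Fin s → ℕ // ∑ j, a j ≤ N ∧ a ≠ 0 ∧ ∀ x, a (τ x) = a x} =
      Nat.choose (N / 2 + s / 2) (s / 2) - 1 := by
  classical
  have hlt : ∀ x, ¬ x < τ x → τ x < τ (τ x) := by
    intro x hx
    rw [hinv x]
    exact lt_of_le_of_ne (not_lt.1 hx) (hfpf x)
  have hsum : ∀ a : Fin s → ℕ, (∀ x, a (τ x) = a x) →
      ∑ j, a j = 2 * ∑ x : {x : Fin s // x < τ x}, a x.1 := by
    intro a ha
    rw [← Finset.sum_filter_add_sum_filter_not Finset.univ (fun x => x < τ x) a]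
    have h2 : ∑ x ∈ Finset.univ.filter (fun x => ¬ x < τ x), a x =
        ∑ x ∈ Finset.univ.filter (fun x => x < τ x), a x := by
      apply Finset.sum_nbij' τ τ
      · intro x hx
        rw [Finset.mem_filter] at hx ⊢
        exact ⟨Finset.mem_univ _, hlt x hx.2⟩
      · intro x hx
        rw [Finset.mem_filter] at hx ⊢
        refine ⟨Finset.mem_univ _, ?_⟩
        rw [hinv x]
        exact lt_asymm hx.2
      · intro x _; exact hinv x
      · intro x _; exact hinv x
      · intro x _; exact (ha x).symm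
    rw [h2, ← two_mul]
    congr 1
    exact Finset.sum_subtype _ (fun x => by simp) a
  have hcard : s = 2 * Fintype.card {x : Fin s // x < τ x} := by
    have := hsum (fun _ => 1) (fun _ => rfl)
    simpa using this
  have hcard' : Fintype.card {x : Fin s // x < τ x} = s / 2 := by omega
  rw [← hcard', ← card_nonzero_bounded_tuples' {x : Fin s // x < τ x} (N / 2)]
  apply Nat.card_congr
  have hres1 : ∀ a : {a : Fin s → ℕ // ∑ j, a j ≤ N ∧ a ≠ 0 ∧ ∀ x, a (τ x) = a x},
      ∑ x : {x : Fin s // x < τ x}, a.1 x.1 ≤ N / 2 := by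
    intro a
    have h1 := hsum a.1 a.2.2.2
    have h2 := a.2.1
    omega
  have hres2 : ∀ a : {a : Fin s → ℕ // ∑ j, a j ≤ N ∧ a ≠ 0 ∧ ∀ x, a (τ x) = a x},
      (fun x : {x : Fin s // x < τ x} => a.1 x.1) ≠ 0 := by
    intro a h0
    apply a.2.2.1
    funext x
    by_cases hx : x < τ x
    · exact congrFun h0 ⟨x, hx⟩
    · have := congrFun h0 ⟨τ x, hlt x hx⟩
      rw [← a.2.2.2 x]
      exact this
  refine Equiv.ofBijective (fun a => ⟨fun x => a.1 x.1, hres1 a, hres2 a⟩) ⟨?_, ?_⟩
  · intro a a' haa'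
    have h1 : ∀ x : {x : Fin s // x < τ x}, a.1 x.1 = a'.1 x.1 := by
      intro x
      exact congrFun (congrArg Subtype.val haa') x
    apply Subtype.ext
    funext x
    by_cases hx : x < τ x
    · exact h1 ⟨x, hx⟩
    · rw [← a.2.2.2 x, ← a'.2.2.2 x]
      exact h1 ⟨τ x, hlt x hx⟩
  · intro c
    obtain ⟨A, hA⟩ : ∃ A : Fin s → ℕ, A = fun x => if hx : x < τ x then c.1 ⟨x, hx⟩ else
        c.1 ⟨τ x, hlt x hx⟩ := ⟨_, rfl⟩
    have hA1 : ∀ x : {x : Fin s // x < τ x}, A x.1 = c.1 x := by
      intro x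
      rw [hA]
      simp only [dif_pos x.2]
    have hA2 : ∀ x, A (τ x) = A x := by
      intro x
      by_cases hx : x < τ x
      · have hx' : ¬ τ x < τ (τ x) := by rw [hinv x]; exact lt_asymm hx
        rw [hA]
        simp only [dif_pos hx, dif_neg hx']
        exact congrArg c.1 (Subtype.ext (hinv x))
      · have hx' : τ x < τ (τ x) := hlt x hx
        rw [hA]
        simp only [dif_neg hx, dif_pos hx']
    have hA3 : ∑ j, A j ≤ N := by
      rw [hsum A hA2]
      have h3 : ∑ x : {x : Fin s // x < τ x}, A x.1 = ∑ x, c.1 x :=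
        Finset.sum_congr rfl (fun x _ => hA1 x)
      rw [h3]
      have h2 := c.2.1
      omega
    have hA4 : A ≠ 0 := by
      intro h0
      apply c.2.2
      funext x
      rw [← hA1 x, h0]
      rfl
    refine ⟨⟨A, hA3, hA4, hA2⟩, ?_⟩
    apply Subtype.ext
    funext x
    exact hA1 x

end comb

section mainsec

open Cfsg.Agent.S2568

theorem main {K : Type*} [Field K] [Fintype K] {p q n r i b s : ℕ} [hp : Fact p.Prime]
    [CharP K p] (hK : Fintype.card K = q ^ 2) (hr : r.Prime) (hr2 : r ≠ 2) (hrp : r ≠ p)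
    (hi : i = orderOf (q : ZMod r)) (hb : b = if Odd i then i else i / 2)
    (hs : s * b = r - 1) :
    Nat.card {C : ConjClasses ↥(Cfsg.GU n K q) //
      ∃ g : ↥(Cfsg.GU n K q), ConjClasses.mk g = C ∧ orderOf g = r} =
      if i % 4 = 2 then Nat.choose (2 * n / i + s) s - 1
      else Nat.choose (n / (2 * b) + s / 2) (s / 2) - 1 := by
  classical
  have hb0 : 0 < b := by
    rcases Nat.eq_zero_or_pos b with h0 | h0
    · rw [h0, mul_zero] at hs
      have := hr.two_le
      omega
    · exact h0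
  have hi0 : 0 < i := by
    rcases Nat.eq_zero_or_pos i with h0 | h0
    · exfalso
      rw [h0] at hb
      simp at hb
      omega
    · exact h0
  have hb' := order_sq r q i b hi hb
  obtain ⟨k, -, hk⟩ := FiniteField.card K p
  obtain ⟨f, hf⟩ : ∃ f, q = p ^ f := by
    have h1 : q ∣ p ^ (k : ℕ) := by
      rw [← hk, hK]
      exact dvd_pow_self q two_ne_zero
    obtain ⟨f, -, hf⟩ := (Nat.dvd_prime_pow hp.out).1 h1
    exact ⟨f, hf⟩
  let σ : K →+* K := iterateFrobenius K p f
  have hσ : ∀ c, σ c = c ^ (p ^ f) := fun c => iterateFrobenius_def ..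
  have hσq : ∀ c, σ c = c ^ q := fun c => by rw [hσ, hf]
  have hσσ : ∀ c, σ (σ c) = c := by
    intro c
    rw [hσq, hσq, ← pow_mul, ← sq, ← hK, FiniteField.pow_card]
  have hmapσ : ∀ A : Matrix (Fin n) (Fin n) K, A.map (fun x : K => x ^ q) = A.map σ := by
    intro A
    ext a b
    rw [Matrix.map_apply, Matrix.map_apply, hσq]
  obtain ⟨h, hmon, hirr, hnone, hdeg, hprod⟩ := exists_factor_family hK r b s hr hrp hb' hs
  have hrK : (r : K) ≠ 0 := by
    rw [Ne, CharP.cast_eq_zero_iff K p]
    intro hd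
    exact hrp ((Nat.prime_dvd_prime_iff_eq hp.out hr).1 hd).symm
  have hsq : Squarefree (∏ o, h o) := by
    rw [hprod]
    have := (separable_X_pow_sub_C (1 : K) hrK one_ne_zero).squarefree
    rwa [map_one] at this
  have hcop := family_coprime h hmon hirr hsq
  have hinj : Function.Injective h := by
    intro o o' hoo'
    by_contra hne
    have h1 := hcop o o' hne
    rw [hoo'] at h1
    exact (hirr o').not_isUnit (isCoprime_self.1 h1)
  obtain ⟨τ', hτ', hinv'⟩ := exists_tau σ hσσ r hr.pos h hmon hirr hprod hinj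
  have hτnone : τ' none = none := by
    apply hinj
    rw [← hτ', hnone, StarPoly.star_X_sub_one]
  have hτsome : ∀ j, ∃ j', τ' (some j) = some j' := by
    intro j
    cases hj : τ' (some j) with
    | none =>
      exfalso
      have := hinv' (some j)
      rw [hj, hτnone] at this
      exact absurd this.symm (Option.some_ne_none j)
    | some j' => exact ⟨j', rfl⟩
  choose τ hτ using hτsome
  have hinv : Function.Involutive τ := by
    intro j
    have := hinv' (some j)
    rw [hτ, hτ] at this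
    exact Option.some.inj this
  have hdich : ∀ j, τ j = j ↔ i % 4 = 2 := by
    intro j
    have hne : h (some j) ≠ X - 1 := by
      rw [← hnone]
      intro h1
      exact absurd (hinj h1) (Option.some_ne_none j)
    have hdvd : h (some j) ∣ X ^ r - 1 := by
      rw [← hprod]
      exact Finset.dvd_prod_of_mem h (Finset.mem_univ _)
    have h1 := StarPoly.star_eq_self_iff p f σ hσ hσσ r hr (h (some j)) (hmon _) (hirr _) hdvd hne
    rw [hτ', hτ] at h1
    have h2 : (∃ m : ℕ, ((p ^ f + Nat.card K ^ m : ℕ) : ZMod r) = 0) ↔ i % 4 = 2 := by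
      rw [Nat.card_eq_fintype_card, hK, ← hf]
      exact arith r q i hr hr2 hi hi0
    rw [← h2, ← h1]
    constructor
    · intro h3
      rw [h3]
    · intro h3
      exact Option.some.inj (hinj h3)
  have hstarex : ∀ e : Option (Fin s) → ℕ,
      StarPoly.star σ (∏ o, h o ^ e o) = ∏ o, h o ^ e (τ' o) :=
    star_family σ h τ' hτ' hinv'
  let ex : (Fin s → ℕ) → Option (Fin s) → ℕ :=
    fun a o => Option.casesOn o (n - b * ∑ j, a j) a
  have hdegsum : ∀ e : Option (Fin s) → ℕ,
      (∏ o, h o ^ e o).natDegree = e none + b * ∑ j, e (some j) := by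
    intro e
    have hX1 : (X - 1 : K[X]).natDegree = 1 := by
      rw [← C_1]; exact natDegree_X_sub_C 1
    rw [natDegree_family h hmon, Fintype.sum_option, hnone, hX1, mul_one,
      Finset.mul_sum]
    congr 1
    apply Finset.sum_congr rfl
    intro j _
    rw [hdeg j, mul_comm]
  have hdegex : ∀ a : Fin s → ℕ, (∑ j, a j) ≤ n / b → (∏ o, h o ^ ex a o).natDegree = n := by
    intro a ha
    rw [hdegsum]
    show n - b * ∑ j, a j + b * ∑ j, a j = n
    have h1 : b * ∑ j, a j ≤ n := by
      have := Nat.mul_le_mul_left b ha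
      exact this.trans (Nat.mul_div_le n b)
    omega
  have hmat : ∀ a : Fin s → ℕ, (∑ j, a j) ≤ n / b →
      ∃ M : Matrix (Fin n) (Fin n) K, M.charpoly = ∏ o, h o ^ ex a o ∧ M ^ r = 1 := by
    intro a ha
    apply exists_matrix_pow_eq_one n r (∑ o, ex a o) hr.pos _
      (monic_prod_of_monic _ _ (fun o _ => (hmon o).pow _)) (hdegex a ha)
    rw [← hprod]
    exact family_dvd_pow h (ex a)
  have hstruct : ∀ A : Matrix (Fin n) (Fin n) K, A ^ r = 1 →
      ∃ e : Option (Fin s) → ℕ, A.charpoly = ∏ o, h o ^ e o := by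
    intro A hA
    apply matrix_charpoly_of_family h hmon hirr hsq n A
    rw [hprod, map_sub, map_pow, aeval_X, map_one, hA, sub_self]
  have hone : ∀ A : Matrix (Fin n) (Fin n) K, A ^ r = 1 → ∀ e : Option (Fin s) → ℕ,
      A.charpoly = ∏ o, h o ^ e o → (∀ j, e (some j) = 0) → A = 1 := by
    intro A hA e he hz
    have h1 : A.charpoly = (1 : Matrix (Fin n) (Fin n) K).charpoly := by
      have hd := hdegsum e
      rw [← he, Matrix.charpoly_natDegree_eq_dim, Fintype.card_fin] at hd
      have h0 : ∑ j, e (some j) = 0 := Finset.sum_eq_zero (fun j _ => hz j)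
      rw [h0, mul_zero, add_zero] at hd
      rw [he, Fintype.prod_option, Matrix.charpoly_one, Fintype.card_fin, hnone, ← hd]
      have : ∏ j, h (some j) ^ e (some j) = 1 := by
        apply Finset.prod_eq_one
        intro j _
        rw [hz j, pow_zero]
      rw [this, mul_one]
    obtain ⟨M, hM⟩ := matrix_conj n A 1 r hrK hA (one_pow r) h1
    rw [one_mul] at hM
    have h3 : (M⁻¹ : GL (Fin n) K).val * (M.val * A) = (M⁻¹ : GL (Fin n) K).val * M.val := by
      rw [hM]
    rw [← mul_assoc, ← Units.val_mul, inv_mul_cancel, Units.val_one, one_mul] at h3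
    exact h3
  have hex_inj : ∀ a a' : Fin s → ℕ, ex a = ex a' → a = a' := by
    intro a a' haa'
    funext j
    exact congrFun haa' (some j)
  obtain ⟨r', hr'⟩ : ∃ r', r = r' + 1 := ⟨r - 1, by have := hr.pos; omega⟩
  -- existence inside GU
  have hGU : ∀ a : Fin s → ℕ, (∑ j, a j) ≤ n / b → (∀ j, a (τ j) = a j) → a ≠ 0 →
      ∃ B : ↥(Cfsg.GU n K q),
        ((B : GL (Fin n) K) : Matrix (Fin n) (Fin n) K).charpoly = ∏ o, h o ^ ex a o ∧
        orderOf B = r := by
    intro a ha hainv ha0
    obtain ⟨M, hM, hMr⟩ := hmat a ha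
    obtain ⟨gM, hgM⟩ : ∃ gM : GL (Fin n) K, (gM : Matrix (Fin n) (Fin n) K) = M :=
      ⟨⟨M, M ^ r', by rw [← pow_succ', ← hr', hMr], by rw [← pow_succ, ← hr', hMr]⟩, rfl⟩
    have hMu : IsUnit M := by rw [← hgM]; exact gM.isUnit
    have hcs := charpoly_star σ M hMu
    rw [hM, hstarex] at hcs
    have hexinv : ∀ o, ex a (τ' o) = ex a o := by
      intro o
      cases o with
      | none => rw [hτnone]
      | some j =>
        rw [hτ]
        exact hainv j
    have hcs' : (((M.map σ).transpose)⁻¹).charpoly = M.charpoly := by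
      rw [hcs, hM]
      exact Finset.prod_congr rfl (fun o _ => by rw [hexinv o])
    have hMstar : (((M.map σ).transpose)⁻¹) ^ r = 1 := by
      have h1 : (M.map σ) ^ r = 1 := by
        have : M.map σ = σ.mapMatrix M := rfl
        rw [this, ← map_pow, hMr, map_one]
      rw [Matrix.inv_pow', ← Matrix.transpose_pow, h1, Matrix.transpose_one, inv_one]
    obtain ⟨c, hc⟩ := matrix_conj n M _ r hrK hMr hMstar hcs'.symm
    have hconj : IsConj ((gM : GL (Fin n) K) : Matrix (Fin n) (Fin n) K)
        ((((gM : Matrix (Fin n) (Fin n) K)).map (fun x : K => x ^ q)).transpose)⁻¹ := by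
      rw [hmapσ, hgM]
      exact ⟨c, hc⟩
    obtain ⟨B, hB⟩ := (S2588.main hK gM).2 hconj
    obtain ⟨u, hu⟩ := isConj_iff.1 hB
    refine ⟨B, ?_, ?_⟩
    · rw [← hu, Units.val_mul, Units.val_mul, Matrix.coe_units_inv, Matrix.charpoly_units_conj,
        hgM, hM]
    · rw [← Subgroup.orderOf_coe, ← hu]
      have h1 : u * gM * u⁻¹ = MulAut.conj u gM := (MulAut.conj_apply u gM).symm
      rw [h1, MulEquiv.orderOf_eq]
      have hr1 : Fact r.Prime := ⟨hr⟩
      apply orderOf_eq_prime
      · apply Units.ext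
        rw [Units.val_pow_eq_pow_val, Units.val_one, hgM]
        exact hMr
      · intro h2
        apply ha0
        have hM1 : M = 1 := by rw [← hgM, h2, Units.val_one]
        have h3 : M.charpoly = ∏ o, h o ^ ex (0 : Fin s → ℕ) o := by
          rw [hM1, Matrix.charpoly_one, Fintype.card_fin, Fintype.prod_option, hnone]
          have : ∏ j, h (some j) ^ ex (0 : Fin s → ℕ) (some j) = 1 := by
            apply Finset.prod_eq_one
            intro j _
            show h (some j) ^ (0 : ℕ) = 1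
            rw [pow_zero]
          rw [this, mul_one]
          show (X - 1 : K[X]) ^ n = (X - 1) ^ (n - b * ∑ j, (0 : Fin s → ℕ) j)
          simp
        rw [hM] at h3
        exact hex_inj _ _ (exp_unique h hirr hcop _ _ h3)
  -- the bijection
  let 𝒯 := {a : Fin s → ℕ // ∑ j, a j ≤ n / b ∧ a ≠ 0 ∧ ∀ j, a (τ j) = a j}
  let 𝒞 := {C : ConjClasses ↥(Cfsg.GU n K q) //
      ∃ g : ↥(Cfsg.GU n K q), ConjClasses.mk g = C ∧ orderOf g = r}
  have hcount : Nat.card 𝒞 = Nat.card 𝒯 := by
    symm
    let Ba : 𝒯 → ↥(Cfsg.GU n K q) := fun a => Classical.choose (hGU a.1 a.2.1 a.2.2.2 a.2.2.1)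
    have hBa : ∀ a : 𝒯, ((Ba a : GL (Fin n) K) : Matrix (Fin n) (Fin n) K).charpoly =
        ∏ o, h o ^ ex a.1 o ∧ orderOf (Ba a) = r :=
      fun a => Classical.choose_spec (hGU a.1 a.2.1 a.2.2.2 a.2.2.1)
    let Ψ : 𝒯 → 𝒞 := fun a => ⟨ConjClasses.mk (Ba a), Ba a, rfl, (hBa a).2⟩
    apply Nat.card_congr
    refine Equiv.ofBijective Ψ ⟨?_, ?_⟩
    · intro a a' haa'
      have h1 : ConjClasses.mk (Ba a) = ConjClasses.mk (Ba a') := congrArg Subtype.val haa'
      have h2 : IsConj ((Ba a : GL (Fin n) K)) ((Ba a' : GL (Fin n) K)) :=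
        MonoidHom.map_isConj (Cfsg.GU n K q).subtype (ConjClasses.mk_eq_mk_iff_isConj.1 h1)
      obtain ⟨u, hu⟩ := isConj_iff.1 h2
      have h3 : ((Ba a' : GL (Fin n) K) : Matrix (Fin n) (Fin n) K).charpoly =
          ((Ba a : GL (Fin n) K) : Matrix (Fin n) (Fin n) K).charpoly := by
        rw [← hu, Units.val_mul, Units.val_mul, Matrix.coe_units_inv, Matrix.charpoly_units_conj]
      rw [(hBa a).1, (hBa a').1] at h3
      apply Subtype.ext
      exact (hex_inj _ _ (exp_unique h hirr hcop _ _ h3)).symm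
    · rintro ⟨C, g, rfl, hg⟩
      have hgr : ((g : GL (Fin n) K) : Matrix (Fin n) (Fin n) K) ^ r = 1 := by
        rw [← Units.val_pow_eq_pow_val, ← Subgroup.coe_pow, ← hg, pow_orderOf_eq_one,
          Subgroup.coe_one, Units.val_one]
      have hg1 : ((g : GL (Fin n) K) : Matrix (Fin n) (Fin n) K) ≠ 1 := by
        intro h1
        have h2 : (g : GL (Fin n) K) = 1 := Units.ext h1
        have : g = 1 := Subtype.ext h2
        rw [this, orderOf_one] at hg
        exact hr.one_lt.ne hg
      obtain ⟨e, he⟩ := hstruct _ hgr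
      have hd := hdegsum e
      rw [← he, Matrix.charpoly_natDegree_eq_dim, Fintype.card_fin] at hd
      let a : Fin s → ℕ := fun j => e (some j)
      have hsum : ∑ j, a j = ∑ j, e (some j) := rfl
      have ha1 : ∑ j, a j ≤ n / b := by
        rw [Nat.le_div_iff_mul_le hb0, mul_comm, hsum]
        omega
      have ha2 : a ≠ 0 := by
        intro h0
        apply hg1
        apply hone _ hgr e he
        intro j
        exact congrFun h0 j
      have hea : ex a = e := by
        funext o
        cases o with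
        | none =>
          show n - b * ∑ j, a j = e none
          rw [hsum]
          omega
        | some j => rfl
      have ha3 : ∀ j, a (τ j) = a j := by
        have h1 : IsConj ((g : GL (Fin n) K) : Matrix (Fin n) (Fin n) K)
            ((((g : GL (Fin n) K) : Matrix (Fin n) (Fin n) K).map
              (fun x : K => x ^ q)).transpose)⁻¹ :=
          (S2588.main hK (g : GL (Fin n) K)).1 ⟨g, IsConj.refl _⟩
        obtain ⟨c, hc⟩ := h1
        have hc' : (c : Matrix (Fin n) (Fin n) K) * ((g : GL (Fin n) K) : Matrix (Fin n) (Fin n) K)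
            = ((((g : GL (Fin n) K) : Matrix (Fin n) (Fin n) K).map
              (fun x : K => x ^ q)).transpose)⁻¹ * (c : Matrix (Fin n) (Fin n) K) := hc
        have h2 : ((((g : GL (Fin n) K) : Matrix (Fin n) (Fin n) K).map
              (fun x : K => x ^ q)).transpose)⁻¹ = (c : Matrix (Fin n) (Fin n) K) *
              ((g : GL (Fin n) K) : Matrix (Fin n) (Fin n) K) *
              ((c⁻¹ : (Matrix (Fin n) (Fin n) K)ˣ) : Matrix (Fin n) (Fin n) K) := by
          rw [hc', Matrix.mul_assoc, ← Units.val_mul, mul_inv_cancel, Units.val_one, Matrix.mul_one]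
        have h3 := charpoly_star σ ((g : GL (Fin n) K) : Matrix (Fin n) (Fin n) K)
          (g : GL (Fin n) K).isUnit
        rw [← hmapσ, h2, Matrix.coe_units_inv, Matrix.charpoly_units_conj, he, hstarex] at h3
        have h4 := exp_unique h hirr hcop _ _ h3
        intro j
        have := congrFun h4 (some j)
        rw [hτ] at this
        exact this.symm
      refine ⟨⟨a, ha1, ha2, ha3⟩, ?_⟩
      apply Subtype.ext
      show ConjClasses.mk (Ba ⟨a, ha1, ha2, ha3⟩) = ConjClasses.mk g
      rw [ConjClasses.mk_eq_mk_iff_isConj]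
      apply S2587.conj_of_gl_conj hK
      have hcp : ((Ba ⟨a, ha1, ha2, ha3⟩ : GL (Fin n) K) : Matrix (Fin n) (Fin n) K).charpoly =
          ((g : GL (Fin n) K) : Matrix (Fin n) (Fin n) K).charpoly := by
        rw [(hBa ⟨a, ha1, ha2, ha3⟩).1, he]
        show ∏ o, h o ^ ex a o = _
        rw [hea]
      have hBr : ((Ba ⟨a, ha1, ha2, ha3⟩ : GL (Fin n) K) : Matrix (Fin n) (Fin n) K) ^ r = 1 := by
        rw [← Units.val_pow_eq_pow_val, ← Subgroup.coe_pow, ← (hBa ⟨a, ha1, ha2, ha3⟩).2,
          pow_orderOf_eq_one, Subgroup.coe_one, Units.val_one]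
      obtain ⟨M, hM⟩ := matrix_conj n _ _ r hrK hBr hgr hcp
      rw [isConj_iff]
      refine ⟨M, ?_⟩
      rw [mul_inv_eq_iff_eq_mul]
      apply Units.ext
      rw [Units.val_mul, Units.val_mul]
      exact hM
  rw [hcount]
  by_cases h4 : i % 4 = 2
  · rw [if_pos h4]
    have hτid : ∀ j, τ j = j := fun j => (hdich j).2 h4
    have hbi : i = 2 * b := by
      have : ¬ Odd i := by
        rw [Nat.not_odd_iff_even]
        exact Nat.even_iff.2 (by omega)
      rw [if_neg this] at hb
      omega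
    have h5 : 2 * n / i = n / b := by
      rw [hbi, Nat.mul_div_mul_left _ _ (by norm_num : 0 < 2)]
    rw [h5, ← card_nonzero_bounded_tuples s (n / b)]
    apply Nat.card_congr
    refine Equiv.subtypeEquivRight ?_
    intro a
    constructor
    · rintro ⟨h1, h2, -⟩
      exact ⟨h1, h2⟩
    · rintro ⟨h1, h2⟩
      refine ⟨h1, h2, ?_⟩
      intro j
      rw [hτid]
  · rw [if_neg h4]
    have hfpf : ∀ j, τ j ≠ j := fun j hj => h4 ((hdich j).1 hj)
    have h5 : n / (2 * b) = n / b / 2 := by
      rw [Nat.div_div_eq_div_mul, mul_comm]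
    rw [h5]
    exact card_invariant_fpf s (n / b) τ hinv hfpf

end mainsec

/-- Number of conjugacy classes of elements of odd prime order r in the general unitary group GU_n(q), for r not dividing q(q + 1): let i be the multiplicative order of q modulo r, b = i if i is odd and b = i/2 if i is even, and s = (r − 1)/b. If i ≢ 2 (mod 4) the eigenvalue orbits pair off into dual pairs of totally isotropic blocks and there are C(⌊n/(2b)⌋ + s/2, s/2) − 1 classes; if i ≡ 2 (mod 4) each orbit gives a non-degenerate block of dimension i/2 and there are C(⌊2n/i⌋ + s, s) − 1 classes. -/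
theorem result {K : Type*} [Field K] [Fintype K] {p q n r i b s : ℕ} [Fact p.Prime] [CharP K p] (hK : Fintype.card K = q ^ 2) (hr : r.Prime) (hr2 : r ≠ 2) (hrp : r ≠ p) (hi : i = orderOf (q : ZMod r)) (hi2 : i ≠ 2) (hb : b = if Odd i then i else i / 2) (hs : s * b = r - 1) : Nat.card {C : ConjClasses ↥(Cfsg.GU n K q) // ∃ g : ↥(Cfsg.GU n K q), ConjClasses.mk g = C ∧ orderOf g = r} = if i % 4 = 2 then Nat.choose (2 * n / i + s) s - 1 else Nat.choose (n / (2 * b) + s / 2) (s / 2) - 1 := by
  exact main hK hr hr2 hrp hi hb hs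

end Cfsg.Agent.S2671
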