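import Cfsg.Statements.S2645
-- import your own Cfsg.Agent.* helpers here
import Cfsg.Agent.Lib.Helper15.StarPoly
import Cfsg.Agent.Lib.Helper15.SpReal
import Cfsg.Agent.Lib.Helper15.PrimeOrderClasses
import Cfsg.Agent.S2568
import Cfsg.Agent.S2589
import Cfsg.Agent.S2389
import Cfsg.Agent.S2671

set_option autoImplicit false
open Cfsg

namespace Cfsg.Agent.S2645

open Polynomial Cfsg.Agent.Lib.Helper15 Cfsg.Agent.Lib.Helper15.PrimeOrderClasses
  Cfsg.Agent.Lib.Helper15.SemisimpleCount Cfsg.Agent.Lib.Helper15.SpReal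

section aux

lemma arith_even (r q i : ℕ) (hr : r.Prime) (hr2 : r ≠ 2) (hi : i = orderOf (q : ZMod r))
    (hi0 : 0 < i) : (∃ m : ℕ, ((1 + q ^ m : ℕ) : ZMod r) = 0) ↔ Even i := by
  have : Fact r.Prime := ⟨hr⟩
  have : Fact (2 < r) := ⟨lt_of_le_of_ne hr.two_le (Ne.symm hr2)⟩
  obtain ⟨x, hx⟩ : ∃ x : ZMod r, x = (q : ZMod r) := ⟨_, rfl⟩
  rw [← hx] at hi
  have hxi : x ^ i = 1 := by rw [hi]; exact pow_orderOf_eq_one x
  have hcast : ∀ m : ℕ, ((1 + q ^ m : ℕ) : ZMod r) = 1 + x ^ m := by
    intro m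
    rw [Nat.cast_add, Nat.cast_pow, Nat.cast_one, hx]
  have hne : (-1 : ZMod r) ≠ 1 := ZMod.neg_one_ne_one
  constructor
  · rintro ⟨m, hm⟩
    rw [hcast] at hm
    have h2 : x ^ m = -1 := eq_neg_of_add_eq_zero_right hm
    have h3 : i ∣ 2 * m := by
      rw [hi]
      apply orderOf_dvd_of_pow_eq_one
      rw [mul_comm, pow_mul, h2]; norm_num
    have h4 : ¬ i ∣ m := by
      intro hd
      rw [hi] at hd
      have := orderOf_dvd_iff_pow_eq_one.1 hd
      rw [h2] at this
      exact hne this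
    rcases Nat.even_or_odd i with he | ho
    · exact he
    · exfalso
      apply h4
      have hc : Nat.Coprime i 2 := Nat.coprime_two_right.2 ho
      exact hc.dvd_of_dvd_mul_left h3
  · rintro ⟨k, hk⟩
    have h1 : (x ^ k) * (x ^ k) = 1 := by
      rw [← pow_add, ← hk, hxi]
    have h2 : x ^ k = -1 := by
      rcases mul_self_eq_one_iff.1 h1 with h | h
      · exfalso
        have hd : i ∣ k := by
          rw [hi]; exact orderOf_dvd_of_pow_eq_one h
        have := Nat.le_of_dvd (by omega) hd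
        omega
      · exact h
    refine ⟨k, ?_⟩
    rw [hcast, h2]; ring

variable {F : Type*} [Field F]

lemma not_dvd_sq (r : ℕ) (hr : Odd r) (h : F[X]) (hm : h.Monic) (hirr : Irreducible h)
    (hdvd : h ∣ X ^ r - 1) (hne : h ≠ X - 1) : ¬ h ∣ X ^ 2 - 1 := by
  intro h2
  obtain ⟨k, hk⟩ := hr
  have h3 : (X ^ 2 - 1 : F[X]) ∣ (X ^ 2) ^ k - 1 ^ k := sub_dvd_pow_sub_pow _ _ k
  have h4 : (X ^ r - 1 : F[X]) - X * ((X ^ 2) ^ k - 1 ^ k) = X - 1 := by
    rw [hk]; ring
  have h5 : h ∣ X - 1 := by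
    rw [← h4]
    exact dvd_sub hdvd (Dvd.dvd.mul_left (h2.trans h3) _)
  have h6 : (X - 1 : F[X]).Monic := by rw [← C_1]; exact monic_X_sub_C 1
  have h7 : Irreducible (X - 1 : F[X]) := by rw [← C_1]; exact irreducible_X_sub_C 1
  exact hne (eq_of_monic_of_associated hm h6 (hirr.associated_of_dvd h7 h5))

lemma even_sum_fpf (s : ℕ) (τ : Fin s → Fin s) (hinv : Function.Involutive τ)
    (hfpf : ∀ x, τ x ≠ x) (a : Fin s → ℕ) (ha : ∀ x, a (τ x) = a x) : Even (∑ j, a j) := by
  classical
  have hlt : ∀ x, ¬ x < τ x → τ x < τ (τ x) := by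
    intro x hx
    rw [hinv x]
    exact lt_of_le_of_ne (not_lt.1 hx) (hfpf x)
  rw [← Finset.sum_filter_add_sum_filter_not Finset.univ (fun x => x < τ x) a]
  have h2 : ∑ x ∈ Finset.univ.filter (fun x => ¬ x < τ x), a x =
      ∑ x ∈ Finset.univ.filter (fun x => x < τ x), a x := by
    apply Finset.sum_nbij' τ τ
    · intro x hx
      rw [Finset.mem_filter] at hx ⊢
      exact ⟨Finset.mem_univ _, hlt x hx.2⟩
    · intro x hx
      rw [Finset.mem_filter] at hx ⊢
      refine ⟨Finset.mem_univ _, ?_⟩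
      rw [hinv x]
      exact lt_asymm hx.2
    · intro x _; exact hinv x
    · intro x _; exact hinv x
    · intro x _; exact (ha x).symm
  rw [h2]
  exact ⟨_, rfl⟩

variable [Fintype F]

/-- `matrix_charpoly_of_family` over an arbitrary index type -/
theorem matrix_charpoly_of_family' {κ : Type*} [Fintype κ] [DecidableEq κ] {ι : Type*}
    [Fintype ι] [DecidableEq ι] (h : ι → F[X])
    (hmon : ∀ o, (h o).Monic) (hirr : ∀ o, Irreducible (h o)) (hsq : Squarefree (∏ o, h o))
    (A : Matrix κ κ F) (hA : aeval A (∏ o, h o) = 0) :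
    ∃ e : ι → ℕ, A.charpoly = ∏ o, h o ^ e o := by
  let ε := Fintype.equivFin κ
  let φ : Matrix κ κ F ≃ₐ[F] Matrix (Fin (Fintype.card κ)) (Fin (Fintype.card κ)) F :=
    Matrix.reindexAlgEquiv F F ε
  have hφ : ∀ X : Matrix κ κ F, φ X = Matrix.reindex ε ε X := fun X => rfl
  have h1 : aeval (φ A) (∏ o, h o) = 0 := by
    have h3 : aeval (φ A) (∏ o, h o) = φ (aeval A (∏ o, h o)) :=
      Polynomial.aeval_algHom_apply φ.toAlgHom A _
    rw [h3, hA, map_zero]
  obtain ⟨e, he⟩ := S2568.matrix_charpoly_of_family h hmon hirr hsq _ (φ A) h1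
  refine ⟨e, ?_⟩
  rw [← he, hφ, Matrix.charpoly_reindex]

end aux


section mainsec

open Cfsg.Agent.S2568 Cfsg.Agent.S2671

theorem main {F : Type*} [Field F] [Fintype F] {p q : ℕ} [hp : Fact p.Prime] [CharP F p]
    (hF : Fintype.card F = q) (m r i t : ℕ) (hr : r.Prime) (hr2 : r ≠ 2) (hrp : r ≠ p)
    (hi : i = orderOf (q : ZMod r)) (ht : t * i = r - 1) :
    Nat.card {C : ConjClasses ↥(Matrix.symplecticGroup (Fin m) F) //
      ∃ g : Matrix.symplecticGroup (Fin m) F, ConjClasses.mk g = C ∧ orderOf g = r} =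
      if Odd i then Nat.choose (m / i + t / 2) (t / 2) - 1
      else Nat.choose (2 * m / i + t) t - 1 := by
  classical
  have hi0 : 0 < i := by
    rcases Nat.eq_zero_or_pos i with h0 | h0
    · rw [h0, mul_zero] at ht
      have := hr.two_le
      omega
    · exact h0
  have hrodd : Odd r := hr.odd_of_ne_two hr2
  obtain ⟨h, hmon, hirr, hnone, hdeg, hprod⟩ := exists_factor_family hF r i t hr hrp hi ht
  have hrF : (r : F) ≠ 0 := by
    rw [Ne, CharP.cast_eq_zero_iff F p]
    intro hd
    exact hrp ((Nat.prime_dvd_prime_iff_eq hp.out hr).1 hd).symm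
  have hsq : Squarefree (∏ o, h o) := by
    rw [hprod]
    have := (separable_X_pow_sub_C (1 : F) hrF one_ne_zero).squarefree
    rwa [map_one] at this
  have hcop := family_coprime h hmon hirr hsq
  have hinj : Function.Injective h := by
    intro o o' hoo'
    by_contra hne
    have h1 := hcop o o' hne
    rw [hoo'] at h1
    exact (hirr o').not_isUnit (isCoprime_self.1 h1)
  obtain ⟨σ, hσdef⟩ : ∃ σ : F →+* F, σ = RingHom.id F := ⟨_, rfl⟩
  have hσ : ∀ c, σ c = c ^ (p ^ 0) := by
    intro c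
    rw [hσdef, pow_zero, pow_one]
    rfl
  have hσσ : ∀ c, σ (σ c) = c := by
    intro c
    rw [hσdef]
    rfl
  obtain ⟨τ', hτ', hinv'⟩ := exists_tau σ hσσ r hr.pos h hmon hirr hprod hinj
  have hτnone : τ' none = none := by
    apply hinj
    rw [← hτ', hnone, StarPoly.star_X_sub_one]
  have hτsome : ∀ j, ∃ j', τ' (some j) = some j' := by
    intro j
    cases hj : τ' (some j) with
    | none =>
      exfalso
      have := hinv' (some j)
      rw [hj, hτnone] at this
      exact absurd this.symm (Option.some_ne_none j)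
    | some j' => exact ⟨j', rfl⟩
  choose τ hτ using hτsome
  have hinv : Function.Involutive τ := by
    intro j
    have := hinv' (some j)
    rw [hτ, hτ] at this
    exact Option.some.inj this
  have hdvdj : ∀ o, h o ∣ X ^ r - 1 := by
    intro o
    rw [← hprod]
    exact Finset.dvd_prod_of_mem h (Finset.mem_univ _)
  have hnej : ∀ j, h (some j) ≠ X - 1 := by
    intro j
    rw [← hnone]
    intro h1
    exact absurd (hinj h1) (Option.some_ne_none j)
  have hdich : ∀ j, τ j = j ↔ Even i := by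
    intro j
    have h1 := StarPoly.star_eq_self_iff p 0 σ hσ hσσ r hr (h (some j)) (hmon _) (hirr _)
      (hdvdj _) (hnej j)
    rw [hτ', hτ] at h1
    have h2 : (∃ m : ℕ, ((p ^ 0 + Nat.card F ^ m : ℕ) : ZMod r) = 0) ↔ Even i := by
      rw [Nat.card_eq_fintype_card, hF, pow_zero]
      exact arith_even r q i hr hr2 hi hi0
    rw [← h2, ← h1]
    constructor
    · intro h3
      rw [h3]
    · intro h3
      exact Option.some.inj (hinj h3)
  have hstarex : ∀ e : Option (Fin t) → ℕ,
      StarPoly.star σ (∏ o, h o ^ e o) = ∏ o, h o ^ e (τ' o) :=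
    star_family σ h τ' hτ' hinv'
  let ex : (Fin t → ℕ) → Option (Fin t) → ℕ :=
    fun a o => Option.casesOn o (2 * m - i * ∑ j, a j) a
  have hdegsum : ∀ e : Option (Fin t) → ℕ,
      (∏ o, h o ^ e o).natDegree = e none + i * ∑ j, e (some j) := by
    intro e
    have hX1 : (X - 1 : F[X]).natDegree = 1 := by
      rw [← C_1]; exact natDegree_X_sub_C 1
    rw [natDegree_family h hmon, Fintype.sum_option, hnone, hX1, mul_one,
      Finset.mul_sum]
    congr 1
    apply Finset.sum_congr rfl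
    intro j _
    rw [hdeg j, mul_comm]
  have hdegex : ∀ a : Fin t → ℕ, (∑ j, a j) ≤ 2 * m / i →
      (∏ o, h o ^ ex a o).natDegree = m + m := by
    intro a ha
    rw [hdegsum]
    show 2 * m - i * ∑ j, a j + i * ∑ j, a j = m + m
    have h1 : i * ∑ j, a j ≤ 2 * m := by
      have := Nat.mul_le_mul_left i ha
      exact this.trans (Nat.mul_div_le (2 * m) i)
    omega
  -- realisation
  have hreal : ∀ a : Fin t → ℕ, (∑ j, a j) ≤ 2 * m / i → (∀ j, a (τ j) = a j) →
      SympReal r (∏ o, h o ^ ex a o) := by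
    intro a ha hainv
    have h1 : i * ∑ j, a j ≤ 2 * m := by
      have := Nat.mul_le_mul_left i ha
      exact this.trans (Nat.mul_div_le (2 * m) i)
    by_cases hev : Even i
    · -- all factors self-dual
      have hτid : ∀ j, τ j = j := fun j => (hdich j).2 hev
      obtain ⟨i', hi'⟩ := hev
      obtain ⟨k, hk⟩ : ∃ k, 2 * m - i * ∑ j, a j = k + k := by
        refine ⟨m - i' * ∑ j, a j, ?_⟩
        have : i * ∑ j, a j = i' * ∑ j, a j + i' * ∑ j, a j := by rw [hi', add_mul]
        omega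
      rw [Fintype.prod_option]
      apply SympReal.mul
      · show SympReal r (h none ^ (2 * m - i * ∑ j, a j))
        rw [hk, hnone, pow_add]
        have h2 := sympReal_hyperbolic r k (1 : Matrix (Fin k) (Fin k) F) 1 (one_mul 1)
          (one_pow r)
        rw [Matrix.charpoly_one, Fintype.card_fin, StarPoly.star_pow,
          StarPoly.star_X_sub_one] at h2
        exact h2
      · apply SympReal.prod
        intro j _
        apply SympReal.pow
        apply sympReal_selfdual p r (h (some j)) (hmon _) (hirr _) _ (hdvdj _)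
          (not_dvd_sq r hrodd _ (hmon _) (hirr _) (hdvdj _) (hnej j))
        have := hτ' (some j)
        rw [hτ, hτid, hσdef] at this
        exact this
    · -- dual pairs
      have hfpf : ∀ j, τ j ≠ j := fun j hj => hev ((hdich j).1 hj)
      have hodd : Odd i := Nat.not_even_iff_odd.1 hev
      obtain ⟨c, hc⟩ := even_sum_fpf t τ hinv hfpf a hainv
      obtain ⟨k, hk⟩ : ∃ k, 2 * m - i * ∑ j, a j = k + k := by
        refine ⟨m - i * c, ?_⟩
        have : i * ∑ j, a j = i * c + i * c := by rw [hc, mul_add]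
        omega
      let ek : Option (Fin t) → ℕ :=
        fun o => Option.casesOn o k (fun j => if j < τ j then a j else 0)
      have hek : ∀ o, ek o + ek (τ' o) = ex a o := by
        intro o
        cases o with
        | none =>
          rw [hτnone]
          show k + k = 2 * m - i * ∑ j, a j
          rw [hk]
        | some j =>
          rw [hτ]
          show (if j < τ j then a j else 0) + (if τ j < τ (τ j) then a (τ j) else 0) = a j
          rw [hinv j, hainv j]
          by_cases hj : j < τ j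
          · rw [if_pos hj, if_neg (lt_asymm hj), add_zero]
          · have hj' : τ j < j := lt_of_le_of_ne (not_lt.1 hj) (hfpf j)
            rw [if_neg hj, if_pos hj', zero_add]
      obtain ⟨g, hg⟩ : ∃ g : F[X], g = ∏ o, h o ^ ek o := ⟨_, rfl⟩
      have hgmon : g.Monic := by
        rw [hg]
        exact monic_prod_of_monic _ _ (fun o _ => (hmon o).pow _)
      have hgdvd : g ∣ (X ^ r - 1) ^ (∑ o, ek o) := by
        rw [hg, ← hprod]
        exact family_dvd_pow h ek
      obtain ⟨C, hC, hCr⟩ := exists_matrix_pow_eq_one g.natDegree r (∑ o, ek o) hr.pos g hgmon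
        rfl hgdvd
      obtain ⟨r', hr'⟩ : ∃ r', r = r' + 1 := ⟨r - 1, by have := hr.pos; omega⟩
      have h2 := sympReal_hyperbolic r g.natDegree C (C ^ r') (by rw [← pow_succ', ← hr', hCr]) hCr
      rw [hC, ← hσdef, hg, hstarex, ← Finset.prod_mul_distrib] at h2
      have h3 : ∀ o, h o ^ ek o * h o ^ ek (τ' o) = h o ^ ex a o := by
        intro o
        rw [← pow_add, hek]
      rw [Finset.prod_congr rfl (fun o _ => h3 o)] at h2
      exact h2
  have hstruct : ∀ A : Matrix (Fin m ⊕ Fin m) (Fin m ⊕ Fin m) F, A ^ r = 1 →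
      ∃ e : Option (Fin t) → ℕ, A.charpoly = ∏ o, h o ^ e o := by
    intro A hA
    apply matrix_charpoly_of_family' h hmon hirr hsq A
    rw [hprod, map_sub, map_pow, aeval_X, map_one, hA, sub_self]
  have hone : ∀ A : Matrix (Fin m ⊕ Fin m) (Fin m ⊕ Fin m) F, A ^ r = 1 →
      ∀ e : Option (Fin t) → ℕ,
      A.charpoly = ∏ o, h o ^ e o → (∀ j, e (some j) = 0) → A = 1 := by
    intro A hA e he hz
    have h1 : A.charpoly = (1 : Matrix (Fin m ⊕ Fin m) (Fin m ⊕ Fin m) F).charpoly := by
      have hd := hdegsum e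
      rw [← he, Matrix.charpoly_natDegree_eq_dim] at hd
      have h0 : ∑ j, e (some j) = 0 := Finset.sum_eq_zero (fun j _ => hz j)
      rw [h0, mul_zero, add_zero] at hd
      rw [he, Fintype.prod_option, Matrix.charpoly_one, hnone, ← hd]
      have : ∏ j, h (some j) ^ e (some j) = 1 := by
        apply Finset.prod_eq_one
        intro j _
        rw [hz j, pow_zero]
      rw [this, mul_one]
    obtain ⟨M, hM⟩ := S2389.matrix_conj' A 1 r hrF hA (one_pow r) h1
    rw [one_mul] at hM
    have h3 : (M⁻¹ : (Matrix (Fin m ⊕ Fin m) (Fin m ⊕ Fin m) F)ˣ).val * (M.val * A) =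
        (M⁻¹ : (Matrix (Fin m ⊕ Fin m) (Fin m ⊕ Fin m) F)ˣ).val * M.val := by
      rw [hM]
    rw [← mul_assoc, ← Units.val_mul, inv_mul_cancel, Units.val_one, one_mul] at h3
    exact h3
  have hex_inj : ∀ a a' : Fin t → ℕ, ex a = ex a' → a = a' := by
    intro a a' haa'
    funext j
    exact congrFun haa' (some j)
  have hrcop : r.Coprime p := (Nat.coprime_primes hr hp.out).2 hrp
  -- existence inside Sp
  have hSp : ∀ a : Fin t → ℕ, (∑ j, a j) ≤ 2 * m / i → (∀ j, a (τ j) = a j) → a ≠ 0 →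
      ∃ B : ↥(Matrix.symplecticGroup (Fin m) F),
        (B : Matrix (Fin m ⊕ Fin m) (Fin m ⊕ Fin m) F).charpoly = ∏ o, h o ^ ex a o ∧
        orderOf B = r := by
    intro a ha hainv ha0
    obtain ⟨B, hBmem, hBcp, hBr⟩ := exists_symplectic (hreal a ha hainv) m (hdegex a ha)
    refine ⟨⟨B, hBmem⟩, hBcp, ?_⟩
    have hr1 : Fact r.Prime := ⟨hr⟩
    apply orderOf_eq_prime
    · apply Subtype.ext
      rw [SubmonoidClass.coe_pow]
      exact hBr
    · intro h2
      apply ha0
      have hM1 : B = 1 := congrArg Subtype.val h2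
      have h3 : B.charpoly = ∏ o, h o ^ ex (0 : Fin t → ℕ) o := by
        rw [hM1, Matrix.charpoly_one, Fintype.prod_option, hnone]
        have : ∏ j, h (some j) ^ ex (0 : Fin t → ℕ) (some j) = 1 := by
          apply Finset.prod_eq_one
          intro j _
          show h (some j) ^ (0 : ℕ) = 1
          rw [pow_zero]
        rw [this, mul_one]
        show (X - 1 : F[X]) ^ Fintype.card (Fin m ⊕ Fin m) =
          (X - 1) ^ (2 * m - i * ∑ j, (0 : Fin t → ℕ) j)
        rw [Fintype.card_sum, Fintype.card_fin]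
        simp
        congr 1
        omega
      rw [hBcp] at h3
      exact hex_inj _ _ (exp_unique h hirr hcop _ _ h3)
  -- the bijection
  let 𝒯 := {a : Fin t → ℕ // ∑ j, a j ≤ 2 * m / i ∧ a ≠ 0 ∧ ∀ j, a (τ j) = a j}
  let 𝒞 := {C : ConjClasses ↥(Matrix.symplecticGroup (Fin m) F) //
      ∃ g : Matrix.symplecticGroup (Fin m) F, ConjClasses.mk g = C ∧ orderOf g = r}
  have hcount : Nat.card 𝒞 = Nat.card 𝒯 := by
    symm
    let Ba : 𝒯 → ↥(Matrix.symplecticGroup (Fin m) F) :=
      fun a => Classical.choose (hSp a.1 a.2.1 a.2.2.2 a.2.2.1)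
    have hBa : ∀ a : 𝒯, (Ba a : Matrix (Fin m ⊕ Fin m) (Fin m ⊕ Fin m) F).charpoly =
        ∏ o, h o ^ ex a.1 o ∧ orderOf (Ba a) = r :=
      fun a => Classical.choose_spec (hSp a.1 a.2.1 a.2.2.2 a.2.2.1)
    let Ψ : 𝒯 → 𝒞 := fun a => ⟨ConjClasses.mk (Ba a), Ba a, rfl, (hBa a).2⟩
    apply Nat.card_congr
    refine Equiv.ofBijective Ψ ⟨?_, ?_⟩
    · intro a a' haa'
      have h1 : ConjClasses.mk (Ba a) = ConjClasses.mk (Ba a') := congrArg Subtype.val haa'
      have hca : (orderOf (Ba a)).Coprime p := by rw [(hBa a).2]; exact hrcop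
      have h2 := (S2589.main (Ba a) (Ba a') hca).1 (ConjClasses.mk_eq_mk_iff_isConj.1 h1)
      obtain ⟨u, hu⟩ := h2
      have hu' : (u : Matrix (Fin m ⊕ Fin m) (Fin m ⊕ Fin m) F) *
          (Ba a : Matrix (Fin m ⊕ Fin m) (Fin m ⊕ Fin m) F) =
          (Ba a' : Matrix (Fin m ⊕ Fin m) (Fin m ⊕ Fin m) F) *
          (u : Matrix (Fin m ⊕ Fin m) (Fin m ⊕ Fin m) F) := hu
      have h3 : (Ba a' : Matrix (Fin m ⊕ Fin m) (Fin m ⊕ Fin m) F).charpoly =
          (Ba a : Matrix (Fin m ⊕ Fin m) (Fin m ⊕ Fin m) F).charpoly := by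
        have h4 : (Ba a' : Matrix (Fin m ⊕ Fin m) (Fin m ⊕ Fin m) F) =
            (u : Matrix (Fin m ⊕ Fin m) (Fin m ⊕ Fin m) F) *
            (Ba a : Matrix (Fin m ⊕ Fin m) (Fin m ⊕ Fin m) F) *
            ((u⁻¹ : (Matrix (Fin m ⊕ Fin m) (Fin m ⊕ Fin m) F)ˣ) :
              Matrix (Fin m ⊕ Fin m) (Fin m ⊕ Fin m) F) := by
          rw [hu', Matrix.mul_assoc, ← Units.val_mul, mul_inv_cancel, Units.val_one,
            Matrix.mul_one]
        rw [h4, Matrix.coe_units_inv, Matrix.charpoly_units_conj]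
      rw [(hBa a).1, (hBa a').1] at h3
      apply Subtype.ext
      exact (hex_inj _ _ (exp_unique h hirr hcop _ _ h3)).symm
    · rintro ⟨C, g, rfl, hg⟩
      have hgr : (g : Matrix (Fin m ⊕ Fin m) (Fin m ⊕ Fin m) F) ^ r = 1 := by
        rw [← SubmonoidClass.coe_pow, ← hg, pow_orderOf_eq_one]
        rfl
      have hg1 : (g : Matrix (Fin m ⊕ Fin m) (Fin m ⊕ Fin m) F) ≠ 1 := by
        intro h1
        have : g = 1 := Subtype.ext h1
        rw [this, orderOf_one] at hg
        exact hr.one_lt.ne hg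
      obtain ⟨e, he⟩ := hstruct _ hgr
      have hd := hdegsum e
      rw [← he, Matrix.charpoly_natDegree_eq_dim, Fintype.card_sum, Fintype.card_fin] at hd
      let a : Fin t → ℕ := fun j => e (some j)
      have hsum : ∑ j, a j = ∑ j, e (some j) := rfl
      have ha1 : ∑ j, a j ≤ 2 * m / i := by
        rw [Nat.le_div_iff_mul_le hi0, mul_comm, hsum]
        omega
      have ha2 : a ≠ 0 := by
        intro h0
        apply hg1
        apply hone _ hgr e he
        intro j
        exact congrFun h0 j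
      have hea : ex a = e := by
        funext o
        cases o with
        | none =>
          show 2 * m - i * ∑ j, a j = e none
          rw [hsum]
          omega
        | some j => rfl
      have ha3 : ∀ j, a (τ j) = a j := by
        have h3 := charpoly_symplectic (g : Matrix (Fin m ⊕ Fin m) (Fin m ⊕ Fin m) F) g.2
        rw [← hσdef, he, hstarex] at h3
        have h4 := exp_unique h hirr hcop _ _ h3
        intro j
        have := congrFun h4 (some j)
        rw [hτ] at this
        exact this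
      refine ⟨⟨a, ha1, ha2, ha3⟩, ?_⟩
      apply Subtype.ext
      show ConjClasses.mk (Ba ⟨a, ha1, ha2, ha3⟩) = ConjClasses.mk g
      rw [ConjClasses.mk_eq_mk_iff_isConj]
      have hca : (orderOf (Ba ⟨a, ha1, ha2, ha3⟩)).Coprime p := by
        rw [(hBa ⟨a, ha1, ha2, ha3⟩).2]; exact hrcop
      rw [S2589.main _ _ hca]
      have hcp : (Ba ⟨a, ha1, ha2, ha3⟩ : Matrix (Fin m ⊕ Fin m) (Fin m ⊕ Fin m) F).charpoly =
          (g : Matrix (Fin m ⊕ Fin m) (Fin m ⊕ Fin m) F).charpoly := by
        rw [(hBa ⟨a, ha1, ha2, ha3⟩).1, he]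
        show ∏ o, h o ^ ex a o = _
        rw [hea]
      have hBr : (Ba ⟨a, ha1, ha2, ha3⟩ : Matrix (Fin m ⊕ Fin m) (Fin m ⊕ Fin m) F) ^ r = 1 := by
        rw [← SubmonoidClass.coe_pow, ← (hBa ⟨a, ha1, ha2, ha3⟩).2, pow_orderOf_eq_one]
        rfl
      obtain ⟨M, hM⟩ := S2389.matrix_conj' _ _ r hrF hBr hgr hcp
      exact ⟨M, hM⟩
  rw [hcount]
  by_cases hodd : Odd i
  · rw [if_pos hodd]
    have hfpf : ∀ j, τ j ≠ j := fun j hj => (Nat.not_even_iff_odd.2 hodd) ((hdich j).1 hj)
    have h5 : m / i = 2 * m / i / 2 := by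
      rw [Nat.div_div_eq_div_mul, mul_comm i 2, Nat.mul_div_mul_left _ _ (by norm_num : 0 < 2)]
    rw [h5]
    exact card_invariant_fpf t (2 * m / i) τ hinv hfpf
  · rw [if_neg hodd]
    have hτid : ∀ j, τ j = j := fun j => (hdich j).2 (Nat.not_odd_iff_even.1 hodd)
    rw [← card_nonzero_bounded_tuples t (2 * m / i)]
    apply Nat.card_congr
    refine Equiv.subtypeEquivRight ?_
    intro a
    constructor
    · rintro ⟨h1, h2, -⟩
      exact ⟨h1, h2⟩
    · rintro ⟨h1, h2⟩
      refine ⟨h1, h2, ?_⟩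
      intro j
      rw [hτid]

end mainsec

/-- Number of conjugacy classes of elements of odd prime order r, r different from the characteristic, in the symplectic group Sp_2m(q): let i be the multiplicative order of q modulo r and t = (r − 1)/i. If i is odd the eigenvalue orbits pair off (Λ ≠ Λ⁻¹) and the classes correspond to the non-zero (t/2)-tuples (a_j) with 2i Σ a_j ≤ 2m, giving C(⌊m/i⌋ + t/2, t/2) − 1 classes; if i is even (Λ = Λ⁻¹) they correspond to the non-zero t-tuples with i Σ a_j ≤ 2m, giving C(⌊2m/i⌋ + t, t) − 1 classes. -/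
theorem result {F : Type*} [Field F] [Fintype F] {p q : ℕ} [Fact p.Prime] [CharP F p] (hF : Fintype.card F = q) (m r i t : ℕ) (hr : r.Prime) (hr2 : r ≠ 2) (hrp : r ≠ p) (hi : i = orderOf (q : ZMod r)) (ht : t * i = r - 1) : Nat.card {C : ConjClasses ↥(Matrix.symplecticGroup (Fin m) F) // ∃ g : Matrix.symplecticGroup (Fin m) F, ConjClasses.mk g = C ∧ orderOf g = r} = if Odd i then Nat.choose (m / i + t / 2) (t / 2) - 1 else Nat.choose (2 * m / i + t) t - 1 := by
  exact main hF m r i t hr hr2 hrp hi ht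

end Cfsg.Agent.S2645
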