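import Cfsg.Statements.S2636
-- import your own Cfsg.Agent.* helpers here

set_option autoImplicit false
open Cfsg

namespace Cfsg.Agent.S2636

open Matrix

variable {F : Type*} [Field F]

/-- The fixed subfield of a ring automorphism. -/
noncomputable def fixF (σ : F ≃+* F) : Subfield F := FixedPoints.subfield (Subgroup.zpowers σ) F

theorem mem_fixF (σ : F ≃+* F) (x : F) : x ∈ fixF σ ↔ σ x = x := by
  constructor
  · intro h
    exact h ⟨σ, Subgroup.mem_zpowers σ⟩
  · intro h g
    obtain ⟨g, hg⟩ := g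
    show g x = x
    obtain ⟨k, rfl⟩ := Subgroup.mem_zpowers_iff.mp hg
    have h1 : ∀ m : ℕ, (σ ^ m) x = x := by
      intro m
      induction m with
      | zero => rfl
      | succ m ih => rw [pow_succ, RingAut.mul_apply, h, ih]
    have h2 : ∀ m : ℕ, (σ ^ m)⁻¹ x = x := by
      intro m
      have := h1 m
      conv_lhs => rw [← this]
      exact (σ ^ m).symm_apply_apply x
    rcases Int.eq_nat_or_neg k with ⟨m, rfl | rfl⟩
    · rw [zpow_natCast]; exact h1 m
    · rw [_root_.zpow_neg, zpow_natCast]; exact h2 m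

theorem card_fixF [Fintype F] (σ : F ≃+* F) {q₀ r : ℕ} (hr : r.Prime) (hF : Fintype.card F = q₀ ^ r)
    (hσ : orderOf σ = r) : Nat.card (fixF σ) = q₀ := by
  classical
  have hfin : Finite (Subgroup.zpowers σ) := by
    have : IsOfFinOrder σ := by rw [← orderOf_pos_iff, hσ]; exact hr.pos
    exact (finite_zpowers.mpr this).to_subtype
  let _ : Fintype (Subgroup.zpowers σ) := Fintype.ofFinite _
  have hfaith : FaithfulSMul (Subgroup.zpowers σ) F :=
    ⟨fun {g h} hgh => Subtype.ext (RingEquiv.ext hgh)⟩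
  have h1 : Module.finrank (fixF σ) F = r := by
    unfold fixF
    rw [FixedPoints.finrank_eq_card, ← Nat.card_eq_fintype_card, Nat.card_zpowers, hσ]
  let _ : Fintype (fixF σ) := Fintype.ofFinite _
  have h2 := Module.card_eq_pow_finrank (K := fixF σ) (V := F)
  rw [h1, hF] at h2
  rw [Nat.card_eq_fintype_card]
  exact (Nat.pow_left_injective hr.ne_zero h2).symm

section main
variable {n : ℕ}

/-- inclusion of GL over the fixed field -/
noncomputable def incl (σ : F ≃+* F) (n : ℕ) : GL (Fin n) (fixF σ) →* GL (Fin n) F :=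
  Matrix.GeneralLinearGroup.map (fixF σ).subtype

theorem incl_apply (σ : F ≃+* F) (h : GL (Fin n) (fixF σ)) (i j : Fin n) :
    ((incl σ n h : GL (Fin n) F) : Matrix (Fin n) (Fin n) F) i j
      = (((h : Matrix (Fin n) (Fin n) (fixF σ)) i j : fixF σ) : F) := rfl

/-- the product map `(d, h) ↦ d • h` -/
noncomputable def prodHom (σ : F ≃+* F) (n : ℕ) : Fˣ × GL (Fin n) (fixF σ) →* GL (Fin n) F :=
  (Matrix.GeneralLinearGroup.scalar (Fin n)).noncommCoprod (incl σ n)
    (fun d h => show Commute _ _ from Matrix.GeneralLinearGroup.scalar_commute d (incl σ n h))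

theorem prodHom_apply (σ : F ≃+* F) (d : Fˣ) (h : GL (Fin n) (fixF σ)) (i j : Fin n) :
    ((prodHom σ n (d, h) : GL (Fin n) F) : Matrix (Fin n) (Fin n) F) i j
      = (d : F) * (((h : Matrix (Fin n) (Fin n) (fixF σ)) i j : fixF σ) : F) := by
  unfold prodHom
  rw [MonoidHom.noncommCoprod_apply, Units.val_mul, Matrix.GeneralLinearGroup.coe_scalar,
    Matrix.scalar_apply, Matrix.diagonal_mul, incl_apply]

theorem mem_range_iff (σ : F ≃+* F) (hn : 1 ≤ n) (g : GL (Fin n) F) :
    (∃ c : F, c ≠ 0 ∧ (g : Matrix (Fin n) (Fin n) F).map σ = c • (g : Matrix (Fin n) (Fin n) F)) ↔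
      g ∈ (prodHom σ n).range := by
  constructor
  · rintro ⟨c, hc0, hc⟩
    have hent : ∀ k l, σ ((g : Matrix (Fin n) (Fin n) F) k l) = c * (g : Matrix (Fin n) (Fin n) F) k l := by
      intro k l
      have := congrFun (congrFun hc k) l
      simpa using this
    obtain ⟨i, j, hij⟩ : ∃ i j, (g : Matrix (Fin n) (Fin n) F) i j ≠ 0 := by
      by_contra hcon
      push Not at hcon
      have h0 : (g : Matrix (Fin n) (Fin n) F) = 0 := by ext i j; exact hcon i j
      have hdet := Matrix.GeneralLinearGroup.det_ne_zero g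
      have : Nonempty (Fin n) := ⟨⟨0, by omega⟩⟩
      rw [h0, Matrix.det_zero] at hdet
      exact hdet rfl
    obtain ⟨d₀, hd₀⟩ : ∃ d₀, d₀ = (g : Matrix (Fin n) (Fin n) F) i j := ⟨_, rfl⟩
    rw [← hd₀] at hij
    have hσd : σ d₀ = c * d₀ := by rw [hd₀]; exact hent i j
    have hmem : ∀ k l, (g : Matrix (Fin n) (Fin n) F) k l / d₀ ∈ fixF σ := by
      intro k l
      rw [mem_fixF, map_div₀, hent, hσd]
      field_simp
    let h₀ : Matrix (Fin n) (Fin n) (fixF σ) := fun k l => ⟨_, hmem k l⟩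
    have hmap : (fixF σ).subtype.mapMatrix h₀ = d₀⁻¹ • (g : Matrix (Fin n) (Fin n) F) := by
      ext k l
      show (g : Matrix (Fin n) (Fin n) F) k l / d₀ = (d₀⁻¹ • (g : Matrix (Fin n) (Fin n) F)) k l
      rw [Matrix.smul_apply, smul_eq_mul, div_eq_inv_mul]
    have hdet : h₀.det ≠ 0 := by
      intro h0
      have h1 : ((fixF σ).subtype.mapMatrix h₀).det = 0 := by
        rw [← RingHom.map_det, h0, map_zero]
      rw [hmap, Matrix.det_smul] at h1
      rcases mul_eq_zero.mp h1 with h2 | h2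
      · exact hij (inv_eq_zero.mp (eq_zero_of_pow_eq_zero h2))
      · exact Matrix.GeneralLinearGroup.det_ne_zero g h2
    refine ⟨(Units.mk0 d₀ hij, Matrix.GeneralLinearGroup.mkOfDetNeZero h₀ hdet), ?_⟩
    apply Units.ext
    ext k l
    rw [prodHom_apply]
    show d₀ * ((g : Matrix (Fin n) (Fin n) F) k l / d₀) = _
    field_simp
  · rintro ⟨⟨d, h⟩, rfl⟩
    refine ⟨σ d / d, div_ne_zero ((map_ne_zero σ).mpr d.ne_zero) d.ne_zero, ?_⟩
    ext k l
    rw [Matrix.map_apply, Matrix.smul_apply, prodHom_apply, map_mul, smul_eq_mul]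
    have : σ (((h : Matrix (Fin n) (Fin n) (fixF σ)) k l : fixF σ) : F)
        = (((h : Matrix (Fin n) (Fin n) (fixF σ)) k l : fixF σ) : F) :=
      (mem_fixF σ _).mp (SetLike.coe_mem _)
    rw [this]
    field_simp

/-- the kernel parametrisation -/
noncomputable def kerHom (σ : F ≃+* F) (n : ℕ) : (fixF σ)ˣ →* Fˣ × GL (Fin n) (fixF σ) :=
  MonoidHom.prod (invMonoidHom.comp (Units.map (fixF σ).subtype.toMonoidHom))
    (Matrix.GeneralLinearGroup.scalar (Fin n))

theorem kerHom_injective (σ : F ≃+* F) (n : ℕ) : Function.Injective (kerHom σ n) := by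
  intro e e' h
  have h1 : (Units.map (fixF σ).subtype.toMonoidHom e)⁻¹ = (Units.map (fixF σ).subtype.toMonoidHom e')⁻¹ :=
    congrArg Prod.fst h
  have h2 := inv_injective h1
  exact Units.map_injective (f := (fixF σ).subtype.toMonoidHom) Subtype.val_injective h2

theorem range_kerHom (σ : F ≃+* F) (hn : 1 ≤ n) : (kerHom σ n).range = (prodHom σ n).ker := by
  ext ⟨d, h⟩
  rw [MonoidHom.mem_ker]
  constructor
  · rintro ⟨e, he⟩
    have h1 : d = (Units.map (fixF σ).subtype.toMonoidHom e)⁻¹ := (congrArg Prod.fst he).symm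
    have h2 : h = Matrix.GeneralLinearGroup.scalar (Fin n) e := (congrArg Prod.snd he).symm
    apply Units.ext
    ext k l
    rw [prodHom_apply, h1, h2, Matrix.GeneralLinearGroup.coe_scalar, Matrix.scalar_apply]
    by_cases hkl : k = l
    · subst hkl
      simp
    · simp [hkl]
  · intro hker
    have hent : ∀ k l, (d : F) * (((h : Matrix (Fin n) (Fin n) (fixF σ)) k l : fixF σ) : F)
        = (1 : Matrix (Fin n) (Fin n) F) k l := by
      intro k l
      rw [← prodHom_apply, hker]; rfl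
    obtain ⟨e₀, he₀⟩ : ∃ e₀ : fixF σ, e₀ = (h : Matrix (Fin n) (Fin n) (fixF σ)) ⟨0, by omega⟩ ⟨0, by omega⟩ :=
      ⟨_, rfl⟩
    have h00 : (d : F) * (e₀ : F) = 1 := by
      rw [he₀, hent]; simp
    have he₀ne : e₀ ≠ 0 := by
      intro h0
      rw [h0] at h00
      simp at h00
    refine ⟨Units.mk0 e₀ he₀ne, ?_⟩
    apply Prod.ext
    · show (Units.map (fixF σ).subtype.toMonoidHom (Units.mk0 e₀ he₀ne))⁻¹ = d
      apply Units.ext
      rw [Units.val_inv_eq_inv_val]
      show ((e₀ : F))⁻¹ = d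
      exact (eq_inv_of_mul_eq_one_left h00).symm
    · show Matrix.GeneralLinearGroup.scalar (Fin n) (Units.mk0 e₀ he₀ne) = h
      apply Units.ext
      ext k l
      rw [Matrix.GeneralLinearGroup.coe_scalar, Matrix.scalar_apply]
      have hkl := hent k l
      by_cases hk : k = l
      · subst hk
        rw [Matrix.diagonal_apply_eq]
        rw [Matrix.one_apply_eq] at hkl
        show (e₀ : F) = _
        have hd : (d : F) ≠ 0 := d.ne_zero
        exact mul_left_cancel₀ hd (h00.trans hkl.symm)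
      · rw [Matrix.diagonal_apply_ne _ hk]
        rw [Matrix.one_apply_ne hk] at hkl
        have hd : (d : F) ≠ 0 := d.ne_zero
        exact ((mul_eq_zero.mp hkl).resolve_left hd).symm

end main

/-- Centraliser of a field automorphism in PGL_n: let F be the field with q = q₀^r elements, σ a field automorphism of F of prime order r (so its fixed field has q₀ elements) and n ≥ 1. The invertible matrices g whose entrywise image under σ is a scalar multiple of g — those whose coset modulo scalars is fixed by σ — number (q − 1)/(q₀ − 1) · |GL_n(q₀)|; equivalently the centraliser in PGL_n(q) of the induced automorphism has the order of PGL_n(q₀). -/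
theorem result {F : Type*} [Field F] [Fintype F] {q₀ r n : ℕ} (hr : r.Prime) (hn : 1 ≤ n) (hF : Fintype.card F = q₀ ^ r) (σ : F ≃+* F) (hσ : orderOf σ = r) : Nat.card {g : GL (Fin n) F // ∃ c : F, c ≠ 0 ∧ (g : Matrix (Fin n) (Fin n) F).map σ = c • (g : Matrix (Fin n) (Fin n) F)} = (q₀ ^ r - 1) / (q₀ - 1) * ∏ i : Fin n, (q₀ ^ n - q₀ ^ (i : ℕ)) := by
  classical
  have hc0 := card_fixF σ hr hF hσ
  let _ : Fintype (fixF σ) := Fintype.ofFinite _
  have hcard0 : Fintype.card (fixF σ) = q₀ := by rw [← Nat.card_eq_fintype_card]; exact hc0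
  have h1 : Nat.card {g : GL (Fin n) F // ∃ c : F, c ≠ 0 ∧ (g : Matrix (Fin n) (Fin n) F).map σ = c • (g : Matrix (Fin n) (Fin n) F)} = Nat.card (prodHom σ n).range :=
    Nat.card_congr (Equiv.subtypeEquivRight (fun g => mem_range_iff σ hn g))
  have h2 : Nat.card (prodHom σ n).ker = q₀ - 1 := by
    rw [← range_kerHom σ hn, ← Nat.card_congr (MonoidHom.ofInjective (kerHom_injective σ n)).toEquiv,
      Nat.card_units, hc0]
  have h3 : Nat.card (prodHom σ n).ker * Nat.card (prodHom σ n).range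
      = Nat.card (Fˣ × GL (Fin n) (fixF σ)) := by
    rw [← Subgroup.index_ker]; exact Subgroup.card_mul_index _
  have h4 : Nat.card (Fˣ × GL (Fin n) (fixF σ)) = (q₀ ^ r - 1) * ∏ i : Fin n, (q₀ ^ n - q₀ ^ (i:ℕ)) := by
    rw [Nat.card_prod, Nat.card_units, Nat.card_eq_fintype_card, hF, Matrix.card_GL_field, hcard0]
  rw [h1]
  rw [h2, h4] at h3
  obtain ⟨t, ht⟩ : (q₀ - 1) ∣ (q₀ ^ r - 1) := Nat.sub_one_dvd_pow_sub_one q₀ r
  have hq1 : 0 < q₀ - 1 := by
    have : 1 < Fintype.card (fixF σ) := Fintype.one_lt_card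
    omega
  rw [ht, Nat.mul_div_cancel_left _ hq1]
  rw [ht, mul_assoc] at h3
  exact Nat.eq_of_mul_eq_mul_left hq1 h3

end Cfsg.Agent.S2636
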