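import Cfsg.Statements.S0751
import Mathlib
import Cfsg.Agent.Lib.Helper5.UForm

set_option autoImplicit false
open Cfsg

namespace Cfsg.Agent.S0751

section Aux
set_option linter.unusedSectionVars false
set_option linter.unusedVariables false
set_option linter.unusedSimpArgs false
namespace S0751aux
open Cfsg

section Fld
variable {F : Type*} [Field F] {σ : F →+* F}

def sigE (hσ2 : ∀ a : F, σ (σ a) = a) : F ≃+* F :=
  RingEquiv.ofRingHom σ σ (RingHom.ext fun a => by simp [hσ2]) (RingHom.ext fun a => by simp [hσ2])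

lemma sigE_apply (hσ2 : ∀ a : F, σ (σ a) = a) (a : F) : sigE hσ2 a = σ a := rfl

lemma sigE_ne (hσ : σ ≠ RingHom.id F) (hσ2 : ∀ a : F, σ (σ a) = a) :
    sigE hσ2 ≠ RingEquiv.refl F := fun h => hσ (RingHom.ext fun a => by
  have h1 := congrArg (fun e : F ≃+* F => e a) h
  simpa [sigE_apply] using h1)

lemma tr_surj' (hσ : σ ≠ RingHom.id F) (hσ2 : ∀ a : F, σ (σ a) = a) (r : F) (hr : σ r = r) :
    ∃ z : F, z + σ z = r :=
  Cfsg.Agent.Lib.Helper5.UForm.tr_surj (σ := sigE hσ2) (fun a => hσ2 a) (sigE_ne hσ hσ2) r hr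

lemma exists_tr_ne' (hσ : σ ≠ RingHom.id F) (hσ2 : ∀ a : F, σ (σ a) = a) :
    ∃ θ : F, θ + σ θ ≠ 0 :=
  Cfsg.Agent.Lib.Helper5.UForm.exists_tr_ne (σ := sigE hσ2) (fun a => hσ2 a) (sigE_ne hσ hσ2)

lemma norm_surj' [Fintype F] (hσ : σ ≠ RingHom.id F) (hσ2 : ∀ a : F, σ (σ a) = a) (r : F)
    (hr0 : r ≠ 0) (hr : σ r = r) : ∃ z : F, z * σ z = r :=
  Cfsg.Agent.Lib.Helper5.UForm.norm_surj (σ := sigE hσ2) (fun a => hσ2 a) (sigE_ne hσ hσ2) r hr0 hr

end Fld

variable {F V : Type*} [Field F] [AddCommGroup V] [Module F V]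
  {σ : F →+* F} (B : V →ₛₗ[σ] V →ₗ[F] F)

lemma B_smul_left (c : F) (u v : V) : B (c • u) v = σ c * B u v := by
  rw [map_smulₛₗ, LinearMap.smul_apply, smul_eq_mul]

lemma B_smul_right (c : F) (u v : V) : B u (c • v) = c * B u v := by
  rw [map_smul, smul_eq_mul]

lemma B_sum_left {ι : Type*} (s : Finset ι) (c : ι → F) (x : ι → V) (v : V) :
    B (∑ a ∈ s, c a • x a) v = ∑ a ∈ s, σ (c a) * B (x a) v := by
  rw [map_sum, LinearMap.sum_apply]
  exact Finset.sum_congr rfl fun a _ => B_smul_left B _ _ _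

lemma B_sum_right {ι : Type*} (s : Finset ι) (c : ι → F) (x : ι → V) (v : V) :
    B v (∑ a ∈ s, c a • x a) = ∑ a ∈ s, c a * B v (x a) := by
  rw [map_sum]
  exact Finset.sum_congr rfl fun a _ => B_smul_right B _ _ _

lemma B_symm (hS : B.IsSymm) (u v : V) : σ (B u v) = B v u := hS.eq u v

/-- Riesz representation. -/
lemma riesz [Finite F] [FiniteDimensional F V] (hB : B.Nondegenerate) (φ : V →ₗ[F] F) :
    ∃ w, ∀ v, B w v = φ v := by
  have hinj : Function.Injective (fun w => (B w : V →ₗ[F] F)) := by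
    intro w w' h
    have h1 : B (w - w') = 0 := by rw [map_sub]; exact sub_eq_zero.mpr h
    have h2 := hB.1 (w - w') (fun v => by rw [h1]; rfl)
    exact sub_eq_zero.mp h2
  have : Finite V := Module.finite_of_finite F
  have : Finite (V →ₗ[F] F) := Module.finite_of_finite F
  have hcard : Nat.card V = Nat.card (V →ₗ[F] F) := by
    rw [Module.natCard_eq_pow_finrank (K := F), Module.natCard_eq_pow_finrank (K := F) (V := V →ₗ[F] F)]
    congr 1
    exact (Subspace.dual_finrank_eq).symm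
  have hbij := (Nat.bijective_iff_injective_and_card _).mpr ⟨hinj, hcard⟩
  obtain ⟨w, hw⟩ := hbij.2 φ
  exact ⟨w, fun v => by rw [← hw]⟩

lemma exists_prescribed [Finite F] [FiniteDimensional F V] (hB : B.Nondegenerate) {k : ℕ}
    {x : Fin k → V} (hx : LinearIndependent F x) (t : Fin k → F) :
    ∃ w, ∀ a, B w (x a) = t a := by
  obtain ⟨φ, hφ⟩ : ∃ φ : V →ₗ[F] F, ∀ a, φ (x a) = t a := by
    let bs := Module.Basis.span hx
    obtain ⟨φ, hφ⟩ := LinearMap.exists_extend (bs.constr F t : _ →ₗ[F] F)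
    refine ⟨φ, fun a => ?_⟩
    have h1 : ((bs a : Submodule.span F (Set.range x)) : V) = x a :=
      congrArg Subtype.val (Module.Basis.span_apply hx a)
    have h2 := LinearMap.congr_fun hφ (bs a)
    rw [LinearMap.comp_apply, Submodule.subtype_apply, h1] at h2
    rw [h2, Module.Basis.constr_basis]
  obtain ⟨w, hw⟩ := riesz B hB φ
  exact ⟨w, fun a => by rw [hw, hφ]⟩

lemma case1 [Finite F] [FiniteDimensional F V] (hσ : σ ≠ RingHom.id F)
    (hσ2 : ∀ a : F, σ (σ a) = a) (hS : B.IsSymm) (hB : B.Nondegenerate) {k : ℕ}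
    {x : Fin k → V} (hx : LinearIndependent F x) (c : Fin k → F) (a₀ : Fin k) (hc : c a₀ ≠ 0)
    (hr : ∀ b, B (∑ a, c a • x a) (x b) = 0) :
    ∃ w, w ∉ Submodule.span F (Set.range x) ∧ B w w = 0 ∧
      ∀ a, B w (x a) = (Pi.single a₀ (c a₀)⁻¹ : Fin k → F) a := by
  obtain ⟨r, hrdef⟩ : ∃ r, r = ∑ a, c a • x a := ⟨_, rfl⟩
  rw [← hrdef] at hr
  obtain ⟨w, hw⟩ := exists_prescribed B hB hx (Pi.single a₀ (c a₀)⁻¹)
  have hwr : B w r = 1 := by
    rw [hrdef, B_sum_right]
    simp only [hw]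
    rw [Finset.sum_eq_single a₀]
    · simp [hc]
    · intro b _ hb; simp [hb]
    · simp
  have hrw : B r w = 1 := by rw [← B_symm B hS, hwr, map_one]
  have hrX : ∀ v ∈ Submodule.span F (Set.range x), B r v = 0 := by
    intro v hv
    obtain ⟨d, rfl⟩ := (Submodule.mem_span_range_iff_exists_fun F).mp hv
    rw [B_sum_right]
    simp [hr]
  have hrmem : r ∈ Submodule.span F (Set.range x) := by
    rw [hrdef]
    exact Submodule.sum_mem _ fun a _ => Submodule.smul_mem _ _ (Submodule.subset_span ⟨a, rfl⟩)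
  have hrr : B r r = 0 := hrX r hrmem
  have hwX : w ∉ Submodule.span F (Set.range x) := fun h => by
    have h1 := hrX w h
    rw [hrw] at h1
    exact one_ne_zero h1
  have hfix : σ (B w w) = B w w := B_symm B hS w w
  obtain ⟨d, hd⟩ := tr_surj' hσ hσ2 (-(B w w)) (by rw [map_neg, hfix])
  refine ⟨w + d • r, ?_, ?_, ?_⟩
  · intro h
    apply hwX
    have h1 := Submodule.sub_mem _ h (Submodule.smul_mem _ d hrmem)
    simpa using h1
  · simp only [map_add, LinearMap.add_apply, B_smul_left, B_smul_right, hwr, hrw, hrr]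
    linear_combination hd
  · intro a
    rw [map_add, LinearMap.add_apply, B_smul_left, hr, hw, mul_zero, add_zero]

lemma case2 [Finite F] [FiniteDimensional F V] (hσ : σ ≠ RingHom.id F)
    (hσ2 : ∀ a : F, σ (σ a) = a) (hS : B.IsSymm) (hB : B.Nondegenerate) {k : ℕ}
    {x : Fin k → V} (hx : LinearIndependent F x) (hk : k < Module.finrank F V)
    (hnd : ∀ c : Fin k → F, (∀ b, B (∑ a, c a • x a) (x b) = 0) → c = 0) :
    ∃ w, (∀ a, B w (x a) = 0) ∧ B w w = 1 := by
  have hproj : ∀ v : V, ∃ c : Fin k → F, ∀ b, B (v - ∑ a, c a • x a) (x b) = 0 := by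
    intro v
    let f : (Fin k → F) → (Fin k → F) := fun c b => B (∑ a, c a • x a) (x b)
    have hadd : ∀ c c', f (c - c') = f c - f c' := by
      intro c c'
      funext b
      simp only [f, Pi.sub_apply, sub_smul, Finset.sum_sub_distrib, map_sub, LinearMap.sub_apply]
    have hinj : Function.Injective f := by
      intro c c' h
      have h1 : f (c - c') = 0 := by rw [hadd, h, sub_self]
      have h2 := hnd (c - c') (fun b => congrFun h1 b)
      exact sub_eq_zero.mp h2
    obtain ⟨c, hc⟩ := (Finite.injective_iff_surjective.mp hinj) (fun b => B v (x b))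
    exact ⟨c, fun b => by
      rw [map_sub, LinearMap.sub_apply, sub_eq_zero]; exact (congrFun hc b).symm⟩
  obtain ⟨v, hv⟩ : ∃ v, v ∉ Submodule.span F (Set.range x) := by
    by_contra h
    push Not at h
    have h0 : Submodule.span F (Set.range x) = ⊤ := Submodule.eq_top_iff'.mpr h
    have h1 := finrank_span_eq_card hx
    rw [h0, finrank_top, Fintype.card_fin] at h1
    omega
  obtain ⟨c₀, hc₀⟩ := hproj v
  obtain ⟨w₀, hw₀def⟩ : ∃ w₀, w₀ = v - ∑ a, c₀ a • x a := ⟨_, rfl⟩
  rw [← hw₀def] at hc₀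
  have hw₀0 : w₀ ≠ 0 := by
    intro h
    apply hv
    have h1 : v = ∑ a, c₀ a • x a := sub_eq_zero.mp (by rw [← hw₀def]; exact h)
    rw [h1]
    exact Submodule.sum_mem _ fun a _ => Submodule.smul_mem _ _ (Submodule.subset_span ⟨a, rfl⟩)
  have hPnd : ∀ u, (∀ a, B u (x a) = 0) → (∀ w, (∀ a, B w (x a) = 0) → B u w = 0) → u = 0 := by
    intro u hu huP
    apply hB.1
    intro y
    obtain ⟨c, hc⟩ := hproj y
    have h1 : y = (y - ∑ a, c a • x a) + ∑ a, c a • x a := by abel
    rw [h1, map_add, huP _ hc, B_sum_right]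
    simp [hu]
  obtain ⟨w₁, hw₁P, hw₁⟩ : ∃ w₁, (∀ a, B w₁ (x a) = 0) ∧ B w₁ w₁ ≠ 0 := by
    by_contra hcon
    have hcon' : ∀ w₁, (∀ a, B w₁ (x a) = 0) → B w₁ w₁ = 0 := fun w₁ h => by
      by_contra h'
      exact hcon ⟨w₁, h, h'⟩
    obtain ⟨w, hwP, hw⟩ : ∃ w, (∀ a, B w (x a) = 0) ∧ B w₀ w ≠ 0 := by
      by_contra h
      apply hw₀0
      apply hPnd w₀ hc₀
      intro w hwP
      by_contra h'
      exact h ⟨w, hwP, h'⟩
    obtain ⟨θ₀, hθ₀⟩ := exists_tr_ne' hσ hσ2
    obtain ⟨β, hβ⟩ : ∃ β, β = B w₀ w := ⟨_, rfl⟩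
    rw [← hβ] at hw
    have hβ' : B w w₀ = σ β := by rw [hβ]; exact (B_symm B hS w₀ w).symm
    have hu : ∀ a, B (w₀ + (θ₀ / β) • w) (x a) = 0 := fun a => by
      rw [map_add, LinearMap.add_apply, B_smul_left, hc₀ a, hwP a, mul_zero, add_zero]
    have h0 := hcon' _ hu
    simp only [map_add, LinearMap.add_apply, B_smul_left, B_smul_right, hcon' w₀ hc₀,
      hcon' w hwP, hβ', ← hβ] at h0
    have e1 : θ₀ / β * β = θ₀ := div_mul_cancel₀ _ hw
    have e2 : σ (θ₀ / β) * σ β = σ θ₀ := by rw [← map_mul, e1]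
    apply hθ₀
    linear_combination h0 - e1 - e2
  have hν : σ (B w₁ w₁) = B w₁ w₁ := B_symm B hS w₁ w₁
  cases nonempty_fintype F
  obtain ⟨ζ, hζ⟩ := norm_surj' hσ hσ2 (B w₁ w₁)⁻¹ (inv_ne_zero hw₁) (by rw [map_inv₀, hν])
  refine ⟨ζ • w₁, fun a => by rw [B_smul_left, hw₁P a, mul_zero], ?_⟩
  rw [B_smul_left, B_smul_right]
  have h1 : ζ * σ ζ * B w₁ w₁ = 1 := by rw [hζ]; exact inv_mul_cancel₀ hw₁
  linear_combination h1

theorem witt_tuple [Finite F] [FiniteDimensional F V] (hσ : σ ≠ RingHom.id F)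
    (hσ2 : ∀ a : F, σ (σ a) = a) (hS : B.IsSymm) (hB : B.Nondegenerate) :
    ∀ (m k : ℕ) (x y : Fin k → V), LinearIndependent F x → LinearIndependent F y →
      (∀ a b, B (x a) (x b) = B (y a) (y b)) → Module.finrank F V = k + m →
      ∃ g : V ≃ₗ[F] V, (∀ u v, B (g u) (g v) = B u v) ∧ ∀ a, g (x a) = y a := by
  intro m
  induction m with
  | zero =>
    intro k x y hx hy hG hk
    have hcard : Fintype.card (Fin k) = Module.finrank F V := by simp [hk]
    let bx : Module.Basis (Fin k) F V :=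
      Module.Basis.mk hx (hx.span_eq_top_of_card_eq_finrank' hcard).ge
    let by' : Module.Basis (Fin k) F V :=
      Module.Basis.mk hy (hy.span_eq_top_of_card_eq_finrank' hcard).ge
    have hbx : ∀ a, bx a = x a := fun a => by simp [bx]
    have hby : ∀ a, by' a = y a := fun a => by simp [by']
    let g := bx.equiv by' (Equiv.refl _)
    have hg : ∀ a, g (x a) = y a := fun a => by
      rw [← hbx, Module.Basis.equiv_apply, Equiv.refl_apply, hby]
    refine ⟨g, ?_, hg⟩
    have h1 : (B.comp g.toLinearMap).compl₂ g.toLinearMap = B := by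
      apply LinearMap.ext_basis bx bx
      intro a b
      simp only [LinearMap.compl₂_apply, LinearMap.comp_apply, LinearEquiv.coe_coe, hbx, hg, hG]
    intro u v
    have h2 := LinearMap.congr_fun₂ h1 u v
    simpa [LinearMap.compl₂_apply] using h2
  | succ m ih =>
    intro k x y hx hy hG hk
    have hG' : ∀ (c : Fin k → F) b, B (∑ a, c a • x a) (x b) = B (∑ a, c a • y a) (y b) :=
      fun c b => by
        rw [B_sum_left, B_sum_left]
        exact Finset.sum_congr rfl fun a _ => by rw [hG]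
    obtain ⟨w, z, hw, hz, hwz, hwx⟩ : ∃ w z, w ∉ Submodule.span F (Set.range x) ∧
        z ∉ Submodule.span F (Set.range y) ∧ B w w = B z z ∧ ∀ a, B w (x a) = B z (y a) := by
      by_cases hdeg : ∃ c : Fin k → F, c ≠ 0 ∧ ∀ b, B (∑ a, c a • x a) (x b) = 0
      · obtain ⟨c, hc0, hc⟩ := hdeg
        obtain ⟨a₀, ha₀⟩ := Function.ne_iff.mp hc0
        obtain ⟨w, hw1, hw2, hw3⟩ := case1 B hσ hσ2 hS hB hx c a₀ ha₀ hc
        obtain ⟨z, hz1, hz2, hz3⟩ := case1 B hσ hσ2 hS hB hy c a₀ ha₀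
          (fun b => by rw [← hG']; exact hc b)
        exact ⟨w, z, hw1, hz1, by rw [hw2, hz2], fun a => by rw [hw3, hz3]⟩
      · have hndx : ∀ c : Fin k → F, (∀ b, B (∑ a, c a • x a) (x b) = 0) → c = 0 := fun c h => by
          by_contra hc
          exact hdeg ⟨c, hc, h⟩
        have hndy : ∀ c : Fin k → F, (∀ b, B (∑ a, c a • y a) (y b) = 0) → c = 0 := fun c h =>
          hndx c (fun b => by rw [hG']; exact h b)
        have hk' : k < Module.finrank F V := by omega
        obtain ⟨w, hw1, hw2⟩ := case2 B hσ hσ2 hS hB hx hk' hndx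
        obtain ⟨z, hz1, hz2⟩ := case2 B hσ hσ2 hS hB hy hk' hndy
        refine ⟨w, z, ?_, ?_, by rw [hw2, hz2], fun a => by rw [hw1, hz1]⟩
        · intro h
          obtain ⟨d, hd⟩ := (Submodule.mem_span_range_iff_exists_fun F).mp h
          have h1 : B w w = 0 := by
            have h0 : B w (∑ i, d i • x i) = 0 := by
              rw [B_sum_right]
              simp [hw1]
            rwa [hd] at h0
          rw [hw2] at h1
          exact one_ne_zero h1
        · intro h
          obtain ⟨d, hd⟩ := (Submodule.mem_span_range_iff_exists_fun F).mp h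
          have h1 : B z z = 0 := by
            have h0 : B z (∑ i, d i • y i) = 0 := by
              rw [B_sum_right]
              simp [hz1]
            rwa [hd] at h0
          rw [hz2] at h1
          exact one_ne_zero h1
    have hx' : LinearIndependent F (Fin.cons w x : Fin (k + 1) → V) :=
      linearIndependent_finCons.mpr ⟨hx, hw⟩
    have hy' : LinearIndependent F (Fin.cons z y : Fin (k + 1) → V) :=
      linearIndependent_finCons.mpr ⟨hy, hz⟩
    have hG'' : ∀ a b, B ((Fin.cons w x : Fin (k + 1) → V) a) ((Fin.cons w x : Fin (k + 1) → V) b)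
        = B ((Fin.cons z y : Fin (k + 1) → V) a) ((Fin.cons z y : Fin (k + 1) → V) b) := by
      intro a b
      refine Fin.cases ?_ (fun a => ?_) a <;> refine Fin.cases ?_ (fun b => ?_) b
      · simpa using hwz
      · simpa using hwx b
      · simp only [Fin.cons_zero, Fin.cons_succ]
        rw [← B_symm B hS, ← B_symm B hS z, hwx]
      · simpa using hG a b
    obtain ⟨g, hg1, hg2⟩ := ih (k + 1) _ _ hx' hy' hG'' (by omega)
    exact ⟨g, hg1, fun a => by simpa using hg2 a.succ⟩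

theorem main {F V : Type*} [Field F] [Finite F] [AddCommGroup V] [Module F V]
    [FiniteDimensional F V] (σ : F →+* F) (hσ : σ ≠ RingHom.id F) (hσ2 : ∀ a : F, σ (σ a) = a)
    (B : V →ₛₗ[σ] V →ₗ[F] F) (hS : B.IsSymm) (hB : B.Nondegenerate) (X Y : Submodule F V)
    (φ : X ≃ₗ[F] Y) (hφ : ∀ x x' : X, B (φ x : V) (φ x' : V) = B (x : V) (x' : V)) :
    ∃ g : V ≃ₗ[F] V, (∀ u v : V, B (g u) (g v) = B u v) ∧ ∀ x : X, g (x : V) = (φ x : V) := by
  let bX := Module.finBasis F X
  let x : Fin (Module.finrank F X) → V := fun a => (bX a : V)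
  let y : Fin (Module.finrank F X) → V := fun a => (φ (bX a) : V)
  have hx : LinearIndependent F x := bX.linearIndependent.map' X.subtype (Submodule.ker_subtype X)
  have hy : LinearIndependent F y := by
    have h1 := ((bX.map φ).linearIndependent).map' Y.subtype (Submodule.ker_subtype Y)
    have h2 : (Y.subtype ∘ (bX.map φ)) = y := by
      funext a
      simp [y]
    rw [h2] at h1
    exact h1
  have hle : Module.finrank F X ≤ Module.finrank F V := Submodule.finrank_le X
  obtain ⟨g, hg1, hg2⟩ := witt_tuple B hσ hσ2 hS hB (Module.finrank F V - Module.finrank F X) _ x y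
    hx hy (fun a b => (hφ (bX a) (bX b)).symm) (by omega)
  refine ⟨g, hg1, fun v => ?_⟩
  have h3 : g.toLinearMap ∘ₗ X.subtype = Y.subtype ∘ₗ φ.toLinearMap := bX.ext fun a => by
    simpa [x, y] using hg2 a
  exact LinearMap.congr_fun h3 v

end S0751aux
end Aux

/-- Witt's Lemma for Hermitian forms. Let σ be a non-identity involutive automorphism of a finite field F and B a non-degenerate σ-sesquilinear form on a finite-dimensional F-space V which is conjugate-symmetric (σ (B x y) = B y x). Then every linear equivalence between subspaces X, Y of V preserving B extends to a B-preserving linear automorphism of V. -/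
theorem result {F V : Type*} [Field F] [Finite F] [AddCommGroup V] [Module F V] [FiniteDimensional F V] (σ : F →+* F) (hσ : σ ≠ RingHom.id F) (hσ2 : ∀ a : F, σ (σ a) = a) (B : V →ₛₗ[σ] V →ₗ[F] F) (hS : B.IsSymm) (hB : B.Nondegenerate) (X Y : Submodule F V) (φ : X ≃ₗ[F] Y) (hφ : ∀ x x' : X, B (φ x : V) (φ x' : V) = B (x : V) (x' : V)) : ∃ g : V ≃ₗ[F] V, (∀ u v : V, B (g u) (g v) = B u v) ∧ ∀ x : X, g (x : V) = (φ x : V) := by
  exact S0751aux.main σ hσ hσ2 B hS hB X Y φ hφ

end Cfsg.Agent.S0751
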