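import Cfsg.Statements.S2644
import Mathlib
import Cfsg.Agent.Lib.Helper5.HermBridge
import Cfsg.Agent.Lib.Helper5.UEichler
import Cfsg.Agent.Lib.Helper14.Unitary2
import Cfsg.Agent.S0751

set_option autoImplicit false
open Cfsg

namespace Cfsg.Agent.S2644

section Aux
set_option linter.unusedSectionVars false
set_option linter.unusedVariables false
set_option linter.unusedSimpArgs false
namespace S2644aux
open Cfsg Matrix Cfsg.Agent.Lib.Helper14 Cfsg.Agent.Lib.Helper5.SpMax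
  Cfsg.Agent.Lib.Helper5.TMCalc Cfsg.Agent.Lib.Helper5.UForm Cfsg.Agent.Lib.Helper5.UEichler
  Cfsg.Agent.Lib.Helper5.HermBridge

variable {F : Type*} [Field F] [Fintype F] {q n : ℕ}

omit [Fintype F] in
lemma mkSU (M : Matrix (Fin n) (Fin n) F) (hdet : M.det = 1)
    (hiso : ∀ x y, Cfsg.hermForm n F q (M *ᵥ x) (M *ᵥ y) = Cfsg.hermForm n F q x y) :
    ∃ A : ↥(Cfsg.SU n F q), ((A : Matrix.SpecialLinearGroup (Fin n) F) :
      Matrix (Fin n) (Fin n) F) = M :=
  ⟨⟨⟨M, hdet⟩, hiso⟩, rfl⟩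

omit [Fintype F] in
lemma rank_one_form (N : Matrix (Fin n) (Fin n) F) (hr : N.rank = 1) :
    ∃ (a : Fin n → F) (φ : (Fin n → F) →ₗ[F] F), a ≠ 0 ∧ ∀ x, N *ᵥ x = φ x • a := by
  have hr' : Module.finrank F (LinearMap.range (Matrix.toLin' N)) = 1 := hr
  obtain ⟨⟨a, haR⟩, ha0, hspan⟩ := finrank_eq_one_iff'.mp hr'
  have ha : a ≠ 0 := fun h => ha0 (Subtype.ext h)
  obtain ⟨i, hi⟩ : ∃ i, a i ≠ 0 := by
    by_contra hcon
    push Not at hcon
    exact ha (funext hcon)
  refine ⟨a, (a i)⁻¹ • (LinearMap.proj i ∘ₗ Matrix.toLin' N), ha, fun x => ?_⟩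
  obtain ⟨c, hc⟩ := hspan ⟨Matrix.toLin' N x, LinearMap.mem_range_self _ x⟩
  have hc' : c • a = N *ᵥ x := by
    have h1 := congrArg Subtype.val hc
    simpa [Matrix.toLin'_apply] using h1
  have h2 : (N *ᵥ x) i = c * a i := by rw [← hc']; rfl
  simp only [LinearMap.smul_apply, LinearMap.comp_apply, LinearMap.proj_apply,
    Matrix.toLin'_apply, smul_eq_mul]
  rw [h2, ← hc']
  congr 1
  field_simp

lemma tv_form (hF : Fintype.card F = q ^ 2) (M : Matrix (Fin n) (Fin n) F)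
    (hiso : ∀ x y, Cfsg.hermForm n F q (M *ᵥ x) (M *ᵥ y) = Cfsg.hermForm n F q x y)
    (hM : Cfsg.IsTransvection M) :
    ∃ a c, a ≠ 0 ∧ c ≠ 0 ∧ Cfsg.hermForm n F q a a = 0 ∧
      M = Cfsg.unitaryTransvection n q a c := by
  classical
  have hf := herm_unitary (n := n) hF
  obtain ⟨hr, hsq⟩ := hM
  obtain ⟨a, φ, ha, hN⟩ := rank_one_form (M - 1) hr
  have hMx : ∀ x, M *ᵥ x = x + φ x • a := by
    intro x
    have h1 := hN x
    rw [Matrix.sub_mulVec, Matrix.one_mulVec] at h1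
    rw [← h1]
    abel
  have hφa : φ a = 0 := by
    have h1 : (M - 1) *ᵥ ((M - 1) *ᵥ a) = 0 := by
      rw [Matrix.mulVec_mulVec, hsq, Matrix.zero_mulVec]
    rw [hN a, Matrix.mulVec_smul, hN a, smul_smul] at h1
    rcases smul_eq_zero.mp h1 with h | h
    · exact mul_self_eq_zero.mp h
    · exact absurd h ha
  obtain ⟨y₀, hy₀⟩ : ∃ y₀, φ y₀ ≠ 0 := by
    by_contra hcon
    push Not at hcon
    have h0 : M - 1 = 0 := by
      apply mat_eq_of_mulVec
      intro x
      rw [hN x, hcon x, zero_smul, Matrix.zero_mulVec]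
    rw [h0, Matrix.rank_zero] at hr
    exact zero_ne_one hr
  have hE : ∀ x y, frobQ hF (φ y) * Cfsg.hermForm n F q x a + φ x * Cfsg.hermForm n F q a y
      + φ x * frobQ hF (φ y) * Cfsg.hermForm n F q a a = 0 := by
    intro x y
    have h1 := hiso x y
    rw [hMx, hMx, hf.add_left, u_add_right hf, u_add_right hf, hf.smul_left, hf.smul_left,
      u_smul_right hf, u_smul_right hf] at h1
    linear_combination h1
  have haa : Cfsg.hermForm n F q a a = 0 := by
    have h1 := hE a y₀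
    rw [hφa] at h1
    have h2 : frobQ hF (φ y₀) * Cfsg.hermForm n F q a a = 0 := by linear_combination h1
    rcases mul_eq_zero.mp h2 with h | h
    · exact absurd ((map_eq_zero (frobQ hF)).mp h) hy₀
    · exact h
  have hay₀ : Cfsg.hermForm n F q a y₀ ≠ 0 := by
    intro h0
    apply ha
    apply u_eq_zero_of_forall_left hf
    intro x
    have h1 := hE x y₀
    rw [haa, h0] at h1
    have h2 : frobQ hF (φ y₀) * Cfsg.hermForm n F q x a = 0 := by linear_combination h1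
    rcases mul_eq_zero.mp h2 with h | h
    · exact absurd ((map_eq_zero (frobQ hF)).mp h) hy₀
    · exact h
  obtain ⟨c, hcdef⟩ : ∃ c, c = - frobQ hF (φ y₀) / Cfsg.hermForm n F q a y₀ := ⟨_, rfl⟩
  have hc0 : c ≠ 0 := by
    rw [hcdef]
    exact div_ne_zero (neg_ne_zero.mpr ((map_ne_zero _).mpr hy₀)) hay₀
  have hφx : ∀ x, φ x = c * Cfsg.hermForm n F q x a := by
    intro x
    have h1 := hE x y₀
    rw [haa, mul_zero, add_zero] at h1
    rw [hcdef]
    field_simp
    linear_combination h1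
  refine ⟨a, c, ha, hc0, haa, ?_⟩
  apply mat_eq_of_mulVec
  intro x
  rw [hMx, ut_mulVec, hφx]

/-- the Hermitian form as a sesquilinear map -/
noncomputable def Bh (hF : Fintype.card F = q ^ 2) :
    (Fin n → F) →ₛₗ[(frobQ hF : F →+* F)] (Fin n → F) →ₗ[F] F :=
  LinearMap.mk₂'ₛₗ (frobQ hF : F →+* F) (RingHom.id F) (fun x y => Cfsg.hermForm n F q y x)
    (fun x x' y => u_add_right (herm_unitary hF) y x x')
    (fun c x y => by rw [u_smul_right (herm_unitary hF)]; rfl)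
    (fun x y y' => (herm_unitary hF).add_left y y' x)
    (fun c x y => by rw [(herm_unitary hF).smul_left]; rfl)

lemma Bh_apply (hF : Fintype.card F = q ^ 2) (x y : Fin n → F) :
    Bh hF x y = Cfsg.hermForm n F q y x := rfl

lemma exists_isom (hF : Fintype.card F = q ^ 2) (hn : 1 ≤ n) {a b : Fin n → F} (ha : a ≠ 0)
    (hb : b ≠ 0) (haa : Cfsg.hermForm n F q a a = 0) (hbb : Cfsg.hermForm n F q b b = 0) :
    ∃ M : Matrix (Fin n) (Fin n) F, M.det ≠ 0 ∧
      (∀ x y, Cfsg.hermForm n F q (M *ᵥ x) (M *ᵥ y) = Cfsg.hermForm n F q x y) ∧ M *ᵥ a = b := by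
  classical
  have hf := herm_unitary (n := n) hF
  have hσ : (frobQ hF : F →+* F) ≠ RingHom.id F := by
    intro h
    apply hf.ne_refl
    ext x
    exact congrArg (fun φ : F →+* F => φ x) h
  have hσ2 : ∀ a : F, (frobQ hF : F →+* F) ((frobQ hF : F →+* F) a) = a := hf.involutive
  have hS : (Bh (n := n) hF).IsSymm := ⟨fun x y => by
    rw [Bh_apply, Bh_apply]; exact (hf.herm x y).symm⟩
  have hB : (Bh (n := n) hF).Nondegenerate := by
    constructor
    · intro x hx
      by_contra hx0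
      obtain ⟨y, hy⟩ := (hf.nondegenerate x hx0).1
      exact hy (hx y)
    · intro y hy
      by_contra hy0
      obtain ⟨x, hx⟩ := (hf.nondegenerate y hy0).2
      exact hx (hy x)
  obtain ⟨g, hg1, hg2⟩ := Cfsg.Agent.S0751.S0751aux.witt_tuple (Bh hF) hσ hσ2 hS hB (n - 1) 1
    (fun _ => a) (fun _ => b)
    (linearIndependent_unique_iff.mpr (by simpa using ha))
    (linearIndependent_unique_iff.mpr (by simpa using hb))
    (fun _ _ => by rw [Bh_apply, Bh_apply, haa, hbb]) (by rw [Module.finrank_fin_fun]; omega)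
  have hMv : ∀ x, LinearMap.toMatrix' (g : (Fin n → F) →ₗ[F] (Fin n → F)) *ᵥ x = g x :=
    fun x => by
      rw [← Matrix.toLin'_apply, Matrix.toLin'_toMatrix']
      rfl
  refine ⟨LinearMap.toMatrix' (g : (Fin n → F) →ₗ[F] (Fin n → F)), ?_, ?_, ?_⟩
  · have h1 : LinearMap.toMatrix' (g : (Fin n → F) →ₗ[F] (Fin n → F)) *
        LinearMap.toMatrix' (g.symm : (Fin n → F) →ₗ[F] (Fin n → F)) = 1 := by
      rw [← LinearMap.toMatrix'_comp]
      simp
    intro h0
    have h2 := congrArg Matrix.det h1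
    rw [Matrix.det_mul, h0, zero_mul, Matrix.det_one] at h2
    exact zero_ne_one h2
  · intro x y
    rw [hMv, hMv]
    have h1 := hg1 y x
    rwa [Bh_apply, Bh_apply] at h1
  · rw [hMv]
    exact hg2 0

lemma qr_det (d : Fin n → F) (c : F) :
    (Cfsg.unitaryTransvection n q d c).det = 1 + c * Cfsg.hermForm n F q d d := by
  have h1 : Cfsg.unitaryTransvection n q d c = 1 + Matrix.replicateCol Unit (c • d) *
      Matrix.replicateRow Unit (fun j => d j ^ q) := by
    unfold Cfsg.unitaryTransvection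
    rw [← Matrix.vecMulVec_eq Unit, Matrix.smul_vecMulVec]
  rw [h1, Matrix.det_one_add_replicateCol_mul_replicateRow, dotProduct_smul]
  have h2 : (fun j => d j ^ q) ⬝ᵥ d = Cfsg.hermForm n F q d d := by
    unfold Cfsg.hermForm dotProduct
    exact Finset.sum_congr rfl fun i _ => mul_comm _ _
  rw [h2, smul_eq_mul]

lemma qr_iso (hF : Fintype.card F = q ^ 2) (d : Fin n → F) (ε : F)
    (hd : Cfsg.hermForm n F q d d = 1) (hε : ε * frobQ hF ε = 1) (x y : Fin n → F) :
    Cfsg.hermForm n F q (Cfsg.unitaryTransvection n q d (ε - 1) *ᵥ x)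
      (Cfsg.unitaryTransvection n q d (ε - 1) *ᵥ y) = Cfsg.hermForm n F q x y := by
  have hf := herm_unitary (n := n) hF
  rw [ut_mulVec, ut_mulVec, hf.add_left, u_add_right hf, u_add_right hf, hf.smul_left,
    hf.smul_left, u_smul_right hf, u_smul_right hf, hd, hf.herm d y]
  simp only [map_mul, map_sub, map_one]
  linear_combination (Cfsg.hermForm n F q x d * frobQ hF (Cfsg.hermForm n F q y d)) * hε

lemma exists_d (hF : Fintype.card F = q ^ 2) (hn : 3 ≤ n) {a : Fin n → F} (ha : a ≠ 0)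
    (haa : Cfsg.hermForm n F q a a = 0) :
    ∃ d, Cfsg.hermForm n F q d d = 1 ∧ Cfsg.hermForm n F q d a = 0 := by
  classical
  have hf := herm_unitary (n := n) hF
  have htop : Module.finrank F (⊤ : Submodule F (Fin n → F)) = n := by
    rw [finrank_top, Module.finrank_fin_fun]
  obtain ⟨a', -, ha'a', haa'⟩ := exists_partner hf (ND_top hf) Submodule.mem_top ha haa
  have hUND := ND_hyp hf (ND_top hf) (Submodule.mem_top : a ∈ ⊤) (Submodule.mem_top : a' ∈ ⊤)
    haa ha'a' haa'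
  have hd1 := finrank_inf_pp hf ⊤ a
  have hd2 := finrank_inf_pp hf (⊤ ⊓ pp hf a) a'
  obtain ⟨z, hzU, hz0⟩ := exists_mem_ne_zero (U := ⊤ ⊓ pp hf a ⊓ pp hf a') (by omega)
  obtain ⟨w, hwU, hww⟩ := exists_noniso hf hUND ⟨z, hzU, hz0⟩
  have hwa : Cfsg.hermForm n F q w a = 0 :=
    (mem_pp hf).mp (Submodule.mem_inf.mp (Submodule.mem_inf.mp hwU).1).2
  obtain ⟨ζ, hζ⟩ := norm_surj hf.involutive hf.ne_refl (Cfsg.hermForm n F q w w)⁻¹
    (inv_ne_zero hww) (by rw [map_inv₀, u_self_fixed hf])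
  refine ⟨ζ • w, ?_, ?_⟩
  · rw [hf.smul_left, u_smul_right hf]
    have h1 : ζ * frobQ hF ζ * Cfsg.hermForm n F q w w = 1 := by
      rw [hζ]; exact inv_mul_cancel₀ hww
    linear_combination h1
  · rw [hf.smul_left, hwa, mul_zero]

lemma det_norm (hF : Fintype.card F = q ^ 2) (M : Matrix (Fin n) (Fin n) F) (hdet : M.det ≠ 0)
    (hiso : ∀ x y, Cfsg.hermForm n F q (M *ᵥ x) (M *ᵥ y) = Cfsg.hermForm n F q x y) :
    M.det * frobQ hF M.det = 1 := by
  classical
  let g : GL (Fin n) F := Matrix.GeneralLinearGroup.mkOfDetNeZero M hdet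
  have hg : g ∈ Cfsg.GU n F q := (mem_GU_iff g).mpr hiso
  have h1 := orthoN_cols_of_mem_GU hF g hg
  exact det_mul_det_pow_of_orthoN hF M h1

theorem main (hK : Fintype.card F = q ^ 2) (hn : 3 ≤ n) (s t : ↥(Cfsg.SU n F q))
    (hs : Cfsg.IsTransvection (((s : GL (Fin n) F) : Matrix (Fin n) (Fin n) F)))
    (ht : Cfsg.IsTransvection (((t : GL (Fin n) F) : Matrix (Fin n) (Fin n) F))) :
    IsConj s t := by
  classical
  have hf := herm_unitary (n := n) hK
  have es : ((s : GL (Fin n) F) : Matrix (Fin n) (Fin n) F) =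
      ((s : Matrix.SpecialLinearGroup (Fin n) F) : Matrix (Fin n) (Fin n) F) := rfl
  have et : ((t : GL (Fin n) F) : Matrix (Fin n) (Fin n) F) =
      ((t : Matrix.SpecialLinearGroup (Fin n) F) : Matrix (Fin n) (Fin n) F) := rfl
  rw [es] at hs
  rw [et] at ht
  have hsiso : ∀ x y, Cfsg.hermForm n F q
      (((s : Matrix.SpecialLinearGroup (Fin n) F) : Matrix (Fin n) (Fin n) F) *ᵥ x)
      (((s : Matrix.SpecialLinearGroup (Fin n) F) : Matrix (Fin n) (Fin n) F) *ᵥ y)
      = Cfsg.hermForm n F q x y := s.2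
  have htiso : ∀ x y, Cfsg.hermForm n F q
      (((t : Matrix.SpecialLinearGroup (Fin n) F) : Matrix (Fin n) (Fin n) F) *ᵥ x)
      (((t : Matrix.SpecialLinearGroup (Fin n) F) : Matrix (Fin n) (Fin n) F) *ᵥ y)
      = Cfsg.hermForm n F q x y := t.2
  obtain ⟨a, c, ha, hc, haa, hS⟩ := tv_form hK _ hsiso hs
  obtain ⟨b₀, c', hb₀, hc', hbb₀, hT⟩ := tv_form hK _ htiso ht
  have hskew : ∀ (a : Fin n → F) (c : F), a ≠ 0 → Cfsg.hermForm n F q a a = 0 →
      (∀ x y, Cfsg.hermForm n F q (Cfsg.unitaryTransvection n q a c *ᵥ x)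
        (Cfsg.unitaryTransvection n q a c *ᵥ y) = Cfsg.hermForm n F q x y) →
      frobQ hK c = -c := by
    intro a c ha haa hiso
    obtain ⟨x, hx⟩ := (hf.nondegenerate a ha).1
    have h1 := hiso x x
    rw [ut_mulVec, u_expand hf, haa, mul_zero, add_zero, hf.herm a x, map_mul] at h1
    have h2 : (frobQ hK c + c) * (Cfsg.hermForm n F q x a * frobQ hK (Cfsg.hermForm n F q x a))
        = 0 := by linear_combination h1
    rcases mul_eq_zero.mp h2 with h | h
    · linear_combination h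
    · exfalso
      rcases mul_eq_zero.mp h with h' | h'
      · exact hx h'
      · exact hx ((map_eq_zero (frobQ hK)).mp h')
  have hsk : frobQ hK c = -c := hskew a c ha haa (by rw [← hS]; exact hsiso)
  have hsk' : frobQ hK c' = -c' := hskew b₀ c' hb₀ hbb₀ (by rw [← hT]; exact htiso)
  obtain ⟨l, hl⟩ := norm_surj hf.involutive hf.ne_refl (c' / c) (div_ne_zero hc' hc)
    (by rw [map_div₀, hsk', hsk, neg_div_neg_eq])
  have hl0 : l ≠ 0 := by
    rintro rfl
    rw [zero_mul] at hl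
    exact (div_ne_zero hc' hc) hl.symm
  obtain ⟨b, hbdef⟩ : ∃ b, b = l • b₀ := ⟨_, rfl⟩
  have hb : b ≠ 0 := by
    rw [hbdef]
    exact smul_ne_zero hl0 hb₀
  have hbb : Cfsg.hermForm n F q b b = 0 := by
    rw [hbdef, hf.smul_left, u_smul_right hf, hbb₀, mul_zero, mul_zero]
  have hT' : ((t : Matrix.SpecialLinearGroup (Fin n) F) : Matrix (Fin n) (Fin n) F) =
      Cfsg.unitaryTransvection n q b c := by
    rw [hT]
    apply mat_eq_of_mulVec
    intro x
    rw [ut_mulVec, ut_mulVec, hbdef, u_smul_right hf, smul_smul]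
    congr 2
    have h1 : c * (l * frobQ hK l) = c' := by rw [hl]; field_simp
    linear_combination (-(Cfsg.hermForm n F q x b₀)) * h1
  obtain ⟨M₀, hM₀det, hM₀iso, hM₀a⟩ := exists_isom hK (by omega) ha hb haa hbb
  have hδ := det_norm hK M₀ hM₀det hM₀iso
  obtain ⟨d, hdd, hda⟩ := exists_d hK hn ha haa
  obtain ⟨ε, hεdef⟩ : ∃ ε, ε = (M₀.det)⁻¹ := ⟨_, rfl⟩
  have hε : ε * frobQ hK ε = 1 := by
    rw [hεdef, map_inv₀, ← mul_inv, hδ, inv_one]
  obtain ⟨D, hDdef⟩ : ∃ D, D = Cfsg.unitaryTransvection n q d (ε - 1) := ⟨_, rfl⟩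
  have hDdet : D.det = ε := by
    rw [hDdef, qr_det, hdd]
    ring
  have hDiso : ∀ x y, Cfsg.hermForm n F q (D *ᵥ x) (D *ᵥ y) = Cfsg.hermForm n F q x y := by
    intro x y
    rw [hDdef]
    exact qr_iso hK d ε hdd hε x y
  have hDa : D *ᵥ a = a := by
    rw [hDdef, ut_mulVec, hf.herm a d, hda, map_zero, mul_zero, zero_smul, add_zero]
  have hGdet : (M₀ * D).det = 1 := by
    rw [Matrix.det_mul, hDdet, hεdef]
    exact mul_inv_cancel₀ hM₀det
  have hGiso : ∀ x y, Cfsg.hermForm n F q ((M₀ * D) *ᵥ x) ((M₀ * D) *ᵥ y)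
      = Cfsg.hermForm n F q x y := by
    intro x y
    rw [← Matrix.mulVec_mulVec, ← Matrix.mulVec_mulVec, hM₀iso, hDiso]
  have hGa : (M₀ * D) *ᵥ a = b := by
    rw [← Matrix.mulVec_mulVec, hDa, hM₀a]
  obtain ⟨Gm, hGmdef⟩ : ∃ Gm, Gm = M₀ * D := ⟨_, rfl⟩
  rw [← hGmdef] at hGdet hGiso hGa
  obtain ⟨G, hG⟩ := mkSU (q := q) Gm hGdet hGiso
  rw [isConj_iff]
  refine ⟨G, ?_⟩
  rw [mul_inv_eq_iff_eq_mul]
  apply Subtype.ext
  apply Subtype.ext
  simp only [Subgroup.coe_mul, Matrix.SpecialLinearGroup.coe_mul]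
  rw [hG, hS, hT']
  apply mat_eq_of_mulVec
  intro x
  rw [← Matrix.mulVec_mulVec, ← Matrix.mulVec_mulVec, ut_mulVec, ut_mulVec, Matrix.mulVec_add,
    Matrix.mulVec_smul, hGa]
  have h1 : Cfsg.hermForm n F q (Gm *ᵥ x) b = Cfsg.hermForm n F q x a := by
    rw [← hGa, hGiso]
  rw [h1]

end S2644aux
end Aux

/-- In the special unitary group SU_n(q) with n ≥ 3 (isometries of Σ u_i v_i^q of determinant one over the field with q² elements), any two transvections (elements t with t − 1 of rank one and square zero) are conjugate. -/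
theorem result {K : Type*} [Field K] [Fintype K] {q n : ℕ} (hK : Fintype.card K = q ^ 2) (hn : 3 ≤ n) (s t : ↥(Cfsg.SU n K q)) (hs : Cfsg.IsTransvection (((s : GL (Fin n) K) : Matrix (Fin n) (Fin n) K))) (ht : Cfsg.IsTransvection (((t : GL (Fin n) K) : Matrix (Fin n) (Fin n) K))) : IsConj s t := by
  exact S2644aux.main hK hn s t hs ht

end Cfsg.Agent.S2644
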