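import Cfsg.Statements.S3383
-- import your own Cfsg.Agent.* helpers here
import Mathlib
import Cfsg.Agent.Lib.Helper18.Frobenius

set_option autoImplicit false
open Cfsg

namespace Cfsg.Agent.S3383

/-- Let H be a Frobenius complement in a finite group L and K the Frobenius kernel (as a subgroup). Then K is characteristic in L, and every normal subgroup of L either contains K or is contained in K. -/
theorem result {L : Type*} [Group L] [Finite L]
    (H : Subgroup L) (hH : Cfsg.IsFrobeniusComplement H)
    (K : Subgroup L) (hK : (K : Set L) = Cfsg.frobeniusKernel H) :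
    K.Characteristic ∧ ∀ N : Subgroup L, N.Normal → K ≤ N ∨ N ≤ K := by
  classical
  have hKmem : ∀ x : L, x ∈ K ↔ x ∈ Cfsg.frobeniusKernel H := by
    intro x
    rw [← hK]; rfl
  -- K is closed under conjugation
  have hKconj : ∀ c x : L, x ∈ K → c * x * c⁻¹ ∈ K := by
    intro c x hx
    rw [hKmem] at hx ⊢
    exact Cfsg.Agent.Lib.Helper18.conj_mem_frobeniusKernel H c x hx
  -- the dichotomy
  have hdich : ∀ N : Subgroup L, N.Normal → K ≤ N ∨ N ≤ K := by
    intro N hN
    by_cases hex : ∃ h ∈ N, h ∈ H ∧ h ≠ 1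
    · left
      obtain ⟨h, hhN, hhH, hh1⟩ := hex
      let f : K → K := fun k => ⟨k.1 * h * k.1⁻¹ * h⁻¹, by
        have h1 : h * k.1⁻¹ * h⁻¹ ∈ K := hKconj h _ (K.inv_mem k.2)
        have := K.mul_mem k.2 h1
        have e : k.1 * h * k.1⁻¹ * h⁻¹ = k.1 * (h * k.1⁻¹ * h⁻¹) := by group
        rw [e]; exact this⟩
      have hfinj : Function.Injective f := by
        intro k k' hkk
        have h1 : k.1 * h * k.1⁻¹ * h⁻¹ = k'.1 * h * k'.1⁻¹ * h⁻¹ := congrArg Subtype.val hkk
        have h2 : k.1 * h * k.1⁻¹ = k'.1 * h * k'.1⁻¹ := mul_right_cancel h1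
        have hmem : k'.1⁻¹ * k.1 ∈ Cfsg.frobeniusKernel H := by
          rw [← hKmem]; exact K.mul_mem (K.inv_mem k'.2) k.2
        have hcomm : (k'.1⁻¹ * k.1) * h = h * (k'.1⁻¹ * k.1) := by
          have : k.1 * h = k'.1 * h * k'.1⁻¹ * k.1 := by rw [← h2]; group
          calc (k'.1⁻¹ * k.1) * h = k'.1⁻¹ * (k.1 * h) := by group
            _ = k'.1⁻¹ * (k'.1 * h * k'.1⁻¹ * k.1) := by rw [this]
            _ = h * (k'.1⁻¹ * k.1) := by group
        have := Cfsg.Agent.Lib.Helper18.eq_one_of_commute_of_mem_frobeniusKernel H hH h hhH hh1 _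
          hmem hcomm
        apply Subtype.ext
        have e : k.1 = k'.1 * (k'.1⁻¹ * k.1) := by group
        rw [e, this, mul_one]
      have hfsurj : Function.Surjective f := Finite.injective_iff_surjective.mp hfinj
      intro k hk
      obtain ⟨k₀, hk₀⟩ := hfsurj ⟨k, hk⟩
      have h1 : k₀.1 * h * k₀.1⁻¹ * h⁻¹ = k := congrArg Subtype.val hk₀
      rw [← h1]
      exact N.mul_mem (hN.conj_mem h hhN k₀.1) (N.inv_mem hhN)
    · right
      rw [not_exists] at hex
      intro x hxN
      rw [hKmem, Cfsg.Agent.Lib.Helper18.mem_frobeniusKernel_iff]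
      by_cases hx1 : x = 1
      · left; exact hx1
      · right
        intro g hg
        have hgN : g⁻¹ * x * g ∈ N := by
          have := hN.conj_mem x hxN g⁻¹
          simpa using this
        apply hex (g⁻¹ * x * g)
        refine ⟨hgN, hg, ?_⟩
        intro h1
        apply hx1
        have : x = g * (g⁻¹ * x * g) * g⁻¹ := by group
        rw [this, h1]; group
  refine ⟨?_, hdich⟩
  -- K is normal
  have hKnormal : K.Normal := ⟨fun x hx c => hKconj c x hx⟩
  rw [Subgroup.characteristic_iff_comap_le]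
  intro φ
  rcases hdich (K.comap φ.toMonoidHom) (hKnormal.comap _) with h1 | h1
  · -- φ maps K into K, hence onto
    let f : K → K := fun k => ⟨φ k.1, h1 k.2⟩
    have hfinj : Function.Injective f := by
      intro k k' hkk
      apply Subtype.ext
      exact φ.injective (congrArg Subtype.val hkk)
    have hfsurj : Function.Surjective f := Finite.injective_iff_surjective.mp hfinj
    intro x hx
    obtain ⟨k, hk⟩ := hfsurj ⟨φ x, hx⟩
    have : φ k.1 = φ x := congrArg Subtype.val hk
    rw [← φ.injective this]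
    exact k.2
  · exact h1

end Cfsg.Agent.S3383
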