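import Cfsg.Statements.S1579
-- import your own Cfsg.Agent.* helpers here
import Cfsg.Agent.Lib.Helper14.LeechPairs8

set_option autoImplicit false
open Cfsg

namespace Cfsg.Agent.S1579

open Cfsg.Agent.Lib.Helper14.LeechPairs Cfsg.Agent.Lib.Helper14.LeechMono

theorem dot_of_sub (u v : ↥leechLattice) (hu : sqNorm (u : GolayPt → ℤ) = 48)
    (hv : sqNorm (v : GolayPt → ℤ) = 32)
    (hs : sqNorm ((u : GolayPt → ℤ) - (v : GolayPt → ℤ)) = 32) :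
    sqNorm ((u - v : ↥leechLattice) : GolayPt → ℤ) = 32 ∧
      dotInt (v : GolayPt → ℤ) ((u - v : ↥leechLattice) : GolayPt → ℤ) = -8 := by
  refine ⟨hs, ?_⟩
  rw [AddSubgroup.coe_sub, dotInt_sub_right,
    Cfsg.Agent.Lib.Helper14.LeechCross.dotInt_self, hv]
  rw [Cfsg.Agent.Lib.Helper14.Leech.sqNorm_sub, hu, hv] at hs
  rw [Cfsg.Agent.Lib.Helper14.LeechCross.dotInt_comm]
  linarith

/-- The stabiliser of a vector of customary norm 6 is transitive on the 552 minimal vectors that complete it to a sum of two minimal vectors. -/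
theorem result (u v v' : ↥Cfsg.leechLattice) (hu : Cfsg.sqNorm (u : Cfsg.GolayPt → ℤ) = 48) (hv : Cfsg.sqNorm (v : Cfsg.GolayPt → ℤ) = 32 ∧ Cfsg.sqNorm ((u - v) : Cfsg.GolayPt → ℤ) = 32) (hv' : Cfsg.sqNorm (v' : Cfsg.GolayPt → ℤ) = 32 ∧ Cfsg.sqNorm ((u - v') : Cfsg.GolayPt → ℤ) = 32) : ∃ g : ↥Cfsg.Co0, g • u = u ∧ g • v = v' := by
  obtain ⟨hw1, hw2⟩ := dot_of_sub u v hu hv.1 hv.2
  obtain ⟨hw1', hw2'⟩ := dot_of_sub u v' hu hv'.1 hv'.2
  obtain ⟨g, hgv, hgw⟩ := pair8 v (u - v) hv.1 hw1 hw2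
  obtain ⟨g', hgv', hgw'⟩ := pair8 v' (u - v') hv'.1 hw1' hw2'
  have h1 : (g'⁻¹ * g) • v = v' := by
    rw [mul_smul, inv_smul_eq_iff]
    exact Subtype.ext (hgv.trans hgv'.symm)
  have h2 : (g'⁻¹ * g) • (u - v) = u - v' := by
    rw [mul_smul, inv_smul_eq_iff]
    exact Subtype.ext (hgw.trans hgw'.symm)
  refine ⟨g'⁻¹ * g, ?_, h1⟩
  have hadd : (g'⁻¹ * g) • (v + (u - v)) = (g'⁻¹ * g) • v + (g'⁻¹ * g) • (u - v) :=
    (g'⁻¹ * g).2.1 v (u - v)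
  rw [h1, h2] at hadd
  have e1 : v + (u - v) = u := by abel
  have e2 : v' + (u - v') = u := by abel
  rw [e1, e2] at hadd
  exact hadd

end Cfsg.Agent.S1579
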