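import Cfsg.Statements.S1578
-- import your own Cfsg.Agent.* helpers here
import Cfsg.Agent.Lib.Helper14.LeechMinCount
import Cfsg.Agent.Lib.Helper14.LeechOrbit

set_option autoImplicit false
open Cfsg

namespace Cfsg.Agent.S1578

open Cfsg.Agent.Lib.Helper14.Golay Cfsg.Agent.Lib.Helper14.Leech
  Cfsg.Agent.Lib.Helper14.LeechCount Cfsg.Agent.Lib.Helper14.LeechMinCount
  Cfsg.Agent.Lib.Helper14.LeechOrbit
open Cfsg.Agent.Lib.Helper3.Golay (wordOf codeMask pc24 bitSet idx)

/-- the reference vector `(5, 1, …, 1)` -/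
def u0 : GolayPt → ℤ := fun i => if i = none then 5 else 1

theorem u0_mem : u0 ∈ leechLattice := mem_odd _ (by decide) (by decide)

theorem u0_norm : sqNorm u0 = 48 := by decide +kernel

theorem dot_u0 (x : GolayPt → ℤ) : dotInt u0 x = (∑ i, x i) + 4 * x none := by
  unfold dotInt u0
  have : ∀ i : GolayPt, (if i = none then (5 : ℤ) else 1) * x i
      = x i + (if i = none then 4 * x i else 0) := by
    intro i; split_ifs <;> ring
  rw [Finset.sum_congr rfl (fun i _ => this i), Finset.sum_add_distrib, Finset.sum_ite_eq']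
  simp

/-! ### the odd family -/

theorem sum_PhiO (w : GolayPt → ZMod 2) (j : GolayPt) :
    ∑ i, PhiO (w, j) i = 20 - 2 * ((support₂ w).card : ℤ) + 8 * ((w j).val : ℤ) := by
  have : ∀ i, PhiO (w, j) i = (1 - 2 * ((w i).val : ℤ))
      - (if i = j then 4 * (1 - 2 * ((w i).val : ℤ)) else 0) := by
    intro i
    rw [PhiO_apply]
    split_ifs <;> ring
  rw [Finset.sum_congr rfl (fun i _ => this i), Finset.sum_sub_distrib, Finset.sum_sub_distrib,
    ← Finset.mul_sum, sum_val_eq_card, Finset.sum_ite_eq', Finset.sum_const, Finset.card_univ,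
    card_golayPt]
  simp
  ring

theorem val_wordOf (m : ℕ) (j : GolayPt) : (wordOf m j).val = (m.testBit (idx j)).toNat := by
  rw [Cfsg.Agent.Lib.Helper3.Golay.wordOf_apply]
  cases m.testBit (idx j) <;> rfl

/-- the condition for the odd family, in terms of bit masks -/
def condO (m : ℕ) (j : GolayPt) : Prop :=
  if j = none then 16 * (m.testBit 23).toNat = 8 + pc24 m
  else 4 * (m.testBit (idx j)).toNat = pc24 m + 4 * (m.testBit 23).toNat

instance (m : ℕ) (j : GolayPt) : Decidable (condO m j) := by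
  unfold condO; infer_instance

theorem condO_iff (m : ℕ) (j : GolayPt) :
    dotInt u0 (PhiO (wordOf m, j)) = 24 ↔ condO m j := by
  rw [dot_u0, sum_PhiO, PhiO_apply, Cfsg.Agent.Lib.Helper3.Golay.support_wordOf,
    Cfsg.Agent.Lib.Helper3.Golay.card_bitSet', val_wordOf, val_wordOf]
  unfold condO
  have h23 : idx none = 23 := rfl
  rw [h23]
  by_cases hj : j = none
  · subst hj
    rw [if_pos rfl, if_pos rfl, h23]
    cases (Nat.testBit m 23) <;> simp <;> omega
  · rw [if_neg hj, if_neg (fun h => hj h.symm)]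
    cases (Nat.testBit m 23) <;> cases (Nat.testBit m (idx j)) <;> simp <;> omega

theorem card_PO_gen (P : (GolayPt → ZMod 2) × GolayPt → Prop) [DecidablePred P] :
    (PO.filter P).card
      = ∑ j : GolayPt, sumBelow 4096 (fun c => if P (wordOf (codeMask c), j) then 1 else 0) := by
  classical
  rw [Finset.card_filter]
  unfold PO
  rw [Finset.sum_product_right]
  refine Finset.sum_congr rfl fun j _ => ?_
  exact sum_Cf (fun w => if P (w, j) then 1 else 0)

set_option maxRecDepth 100000 in
theorem countO_aux : (∑ j : GolayPt,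
    sumBelow 4096 (fun c => if condO (codeMask c) j then 1 else 0)) = 276 := by
  decide +kernel

theorem countO : (PO.filter (fun q => dotInt u0 (PhiO q) = 24)).card = 276 := by
  rw [card_PO_gen, ← countO_aux]
  refine Finset.sum_congr rfl fun j _ => ?_
  congr 1
  funext c
  simp only [condO_iff]

/-! ### the octad family -/

theorem cond2_iff (w : GolayPt → ZMod 2) (h8 : (support₂ w).card = 8) (U : Finset GolayPt)
    (hU : U ⊆ support₂ w) :
    dotInt u0 (f2 ⟨w, U⟩) = 24 ↔ (U = ∅ ∧ none ∈ support₂ w) := by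
  unfold f2
  rw [dot_u0, sum_Psi 2 _ _ hU, h8, Psi_apply]
  have hc : U.card ≤ 8 := h8 ▸ Finset.card_le_card hU
  constructor
  · intro h
    by_cases hT : none ∈ support₂ w
    · by_cases hnU : none ∈ U
      · simp only [hT, hnU, if_true] at h
        omega
      · simp only [hT, hnU, if_true, if_false] at h
        refine ⟨Finset.card_eq_zero.mp ?_, hT⟩
        omega
    · simp only [hT, if_false] at h
      omega
  · rintro ⟨rfl, hT⟩
    simp [hT]

set_option maxRecDepth 100000 in
theorem count2_aux : sumBelow 4096 (fun c => if pc24 (codeMask c) = 8 then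
    (if (codeMask c).testBit 23 = true then 1 else 0) else 0) = 253 := by
  decide +kernel

theorem count2 : (P2.filter (fun q => dotInt u0 (f2 q) = 24)).card = 253 := by
  classical
  have h1 : (P2.filter (fun q => dotInt u0 (f2 q) = 24)).card
      = ∑ w ∈ Oct8, if none ∈ support₂ w then 1 else 0 := by
    rw [Finset.card_filter]
    unfold P2
    rw [Finset.sum_sigma]
    refine Finset.sum_congr rfl fun w hw => ?_
    have h8 := ((mem_Oct8 w).mp hw).2
    have hval : ∀ U ∈ (support₂ w).powerset.filter (fun U => Even U.card),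
        (if dotInt u0 (f2 ⟨w, U⟩) = 24 then 1 else 0)
          = if U = ∅ then (if none ∈ support₂ w then 1 else 0) else 0 := by
      intro U hU
      rw [Finset.mem_filter, Finset.mem_powerset] at hU
      have := cond2_iff w h8 U hU.1
      by_cases hUe : U = ∅
      · rw [if_pos hUe]
        by_cases hT : none ∈ support₂ w
        · rw [if_pos hT, if_pos (this.mpr ⟨hUe, hT⟩)]
        · rw [if_neg hT, if_neg (fun h => hT (this.mp h).2)]
      · rw [if_neg hUe, if_neg (fun h => hUe (this.mp h).1)]
    have hfin : (∑ U ∈ (support₂ w).powerset.filter (fun U => Even U.card),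
        (if dotInt u0 (f2 ⟨w, U⟩) = 24 then 1 else 0))
        = if none ∈ support₂ w then 1 else 0 := by
      rw [Finset.sum_congr rfl hval, Finset.sum_ite_eq']
      rw [if_pos]
      rw [Finset.mem_filter, Finset.mem_powerset]
      exact ⟨Finset.empty_subset _, by simp⟩
    convert hfin using 2
  rw [h1, sum_Oct8, ← count2_aux]
  congr 1
  funext c
  rw [Cfsg.Agent.Lib.Helper3.Golay.support_wordOf]
  congr 1
  simp only [Cfsg.Agent.Lib.Helper3.Golay.mem_bitSet]
  rfl

/-! ### the family `(±4, ±4, 0, …)` -/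

set_option maxRecDepth 100000 in
theorem count4 : (P4.filter (fun q => dotInt u0 (Psi 4 q) = 24)).card = 23 := by
  decide +kernel

theorem count0 :
    {w : GolayPt → ℤ | w ∈ leechLattice ∧ sqNorm w = 32 ∧ dotInt u0 w = 24}.ncard = 552 := by
  rw [ncard_min_filter (fun x => dotInt u0 x = 24), countO, count2, count4]

/-- A lattice vector of customary norm 6 is the sum of an unordered pair of minimal vectors in exactly 276 ways (552 ordered summands). -/
theorem result (u : ↥Cfsg.leechLattice) (hu : Cfsg.sqNorm (u : Cfsg.GolayPt → ℤ) = 48) : {v : ↥Cfsg.leechLattice | Cfsg.sqNorm (v : Cfsg.GolayPt → ℤ) = 32 ∧ Cfsg.sqNorm ((u - v) : Cfsg.GolayPt → ℤ) = 32}.ncard = 552 := by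
  obtain ⟨g, hg⟩ := co0_trans48 ⟨u0, u0_mem⟩ u u0_norm hu
  have h := ncard_dot_congr u ⟨u0, u0_mem⟩ g hg 32 24
  rw [count0] at h
  rw [← h]
  have himg : {w : GolayPt → ℤ | w ∈ leechLattice ∧ sqNorm w = 32 ∧
      dotInt (u : GolayPt → ℤ) w = 24}
      = Subtype.val '' {v : ↥leechLattice | sqNorm (v : GolayPt → ℤ) = 32 ∧
          sqNorm ((u : GolayPt → ℤ) - (v : GolayPt → ℤ)) = 32} := by
    ext w
    simp only [Set.mem_ofPred_eq, Set.mem_image]
    constructor
    · rintro ⟨hw, hn, hd⟩
      refine ⟨⟨w, hw⟩, ⟨hn, ?_⟩, rfl⟩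
      show sqNorm ((u : GolayPt → ℤ) - w) = 32
      rw [Cfsg.Agent.Lib.Helper14.Leech.sqNorm_sub, hu, hn, hd]
      norm_num
    · rintro ⟨v, ⟨hn, hs⟩, rfl⟩
      refine ⟨v.2, hn, ?_⟩
      have : sqNorm ((u : GolayPt → ℤ) - (v : GolayPt → ℤ)) = 32 := hs
      rw [Cfsg.Agent.Lib.Helper14.Leech.sqNorm_sub, hu, hn] at this
      linarith
  rw [himg, Set.ncard_image_of_injective _ Subtype.val_injective]

end Cfsg.Agent.S1578
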