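import Cfsg.Statements.S1583
-- import your own Cfsg.Agent.* helpers here
import Cfsg.Agent.Lib.Helper14.LeechHS

set_option autoImplicit false
open Cfsg

namespace Cfsg.Agent.S1583

open Cfsg.Agent.Lib.Helper14.Golay Cfsg.Agent.Lib.Helper14.Leech
  Cfsg.Agent.Lib.Helper14.LeechCount Cfsg.Agent.Lib.Helper14.LeechMinCount
  Cfsg.Agent.Lib.Helper14.LeechOrbit Cfsg.Agent.Lib.Helper14.LeechPairs
  Cfsg.Agent.Lib.Helper14.LeechHS Cfsg.Agent.Lib.Helper14.LeechMono
  Cfsg.Agent.Lib.Helper14.Co0Center Cfsg.Agent.Lib.Helper14.Co0Order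
open Cfsg.Agent.Lib.Helper3.Golay (wordOf codeMask pc24 bitSet idx)
open Cfsg.Agent.S1578 (u0 u0_mem u0_norm dot_u0 sum_PhiO val_wordOf card_PO_gen)

/-! ### the standard pair -/

/-- `(-1, -5, -1, …, -1)` -/
def ws : GolayPt → ℤ := -(fun i => if i = some 0 then 5 else 1)

theorem ws_mem : ws ∈ leechLattice := by
  apply AddSubgroup.neg_mem
  exact mem_odd _ (by decide) (by decide)

theorem ws_norm : sqNorm ws = 48 := by decide +kernel

theorem dot_u0_ws : dotInt u0 ws = -32 := by decide +kernel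

theorem dot_ws (x : GolayPt → ℤ) : dotInt ws x = -((∑ i, x i) + 4 * x (some 0)) := by
  unfold dotInt ws
  have : ∀ i : GolayPt, (-(fun i : GolayPt => if i = some 0 then (5 : ℤ) else 1)) i * x i
      = -(x i + (if i = some 0 then 4 * x i else 0)) := by
    intro i
    rw [Pi.neg_apply]
    split_ifs <;> ring
  rw [Finset.sum_congr rfl (fun i _ => this i), Finset.sum_neg_distrib, Finset.sum_add_distrib,
    Finset.sum_ite_eq']
  simp

/-! ### the odd family -/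

/-- the second condition for the odd family, in terms of bit masks -/
def condO' (m : ℕ) (j : GolayPt) : Prop :=
  if j = some 0 then 16 * (m.testBit 0).toNat = 8 + pc24 m
  else 4 * (m.testBit (idx j)).toNat = pc24 m + 4 * (m.testBit 0).toNat

instance (m : ℕ) (j : GolayPt) : Decidable (condO' m j) := by
  unfold condO'; infer_instance

theorem condO'_iff (m : ℕ) (j : GolayPt) :
    dotInt ws (PhiO (wordOf m, j)) = -24 ↔ condO' m j := by
  rw [dot_ws, sum_PhiO, PhiO_apply, Cfsg.Agent.Lib.Helper3.Golay.support_wordOf,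
    Cfsg.Agent.Lib.Helper3.Golay.card_bitSet', val_wordOf, val_wordOf]
  unfold condO'
  have h0 : idx (some 0) = 0 := rfl
  rw [h0]
  by_cases hj : j = some 0
  · subst hj
    rw [if_pos rfl, if_pos rfl, h0]
    cases (Nat.testBit m 0) <;> simp <;> omega
  · rw [if_neg hj, if_neg (fun h => hj h.symm)]
    cases (Nat.testBit m 0) <;> cases (Nat.testBit m (idx j)) <;> simp <;> omega

set_option maxRecDepth 100000 in
theorem countO_aux : (∑ j : GolayPt, sumBelow 4096 (fun c =>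
    if Cfsg.Agent.S1578.condO (codeMask c) j ∧ condO' (codeMask c) j then 1 else 0)) = 22 := by
  decide +kernel

theorem countO : (PO.filter (fun q => dotInt u0 (PhiO q) = 24 ∧ dotInt ws (PhiO q) = -24)).card
    = 22 := by
  rw [card_PO_gen]
  refine Eq.trans ?_ countO_aux
  refine Finset.sum_congr rfl fun j _ => ?_
  congr 1
  funext c
  simp only [Cfsg.Agent.S1578.condO_iff, condO'_iff]

/-! ### the octad family -/

theorem cond2_iff (w : GolayPt → ZMod 2) (h8 : (support₂ w).card = 8) (U : Finset GolayPt)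
    (hU : U ⊆ support₂ w) :
    (dotInt u0 (f2 ⟨w, U⟩) = 24 ∧ dotInt ws (f2 ⟨w, U⟩) = -24) ↔
      (U = ∅ ∧ (none ∈ support₂ w ∧ (some 0 : GolayPt) ∈ support₂ w)) := by
  rw [Cfsg.Agent.S1578.cond2_iff w h8 U hU]
  constructor
  · rintro ⟨⟨rfl, hT⟩, h2⟩
    refine ⟨rfl, hT, ?_⟩
    unfold f2 at h2
    rw [dot_ws, sum_Psi 2 _ _ (Finset.empty_subset _), h8, Psi_apply] at h2
    by_contra h0
    rw [if_neg h0] at h2
    simp at h2
  · rintro ⟨rfl, hT, h0⟩
    refine ⟨⟨rfl, hT⟩, ?_⟩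
    unfold f2
    rw [dot_ws, sum_Psi 2 _ _ (Finset.empty_subset _), h8, Psi_apply, if_pos h0]
    simp

set_option maxRecDepth 100000 in
theorem count2_aux : sumBelow 4096 (fun c => if pc24 (codeMask c) = 8 then
    (if (codeMask c).testBit 23 = true ∧ (codeMask c).testBit 0 = true then 1 else 0) else 0)
    = 77 := by
  decide +kernel

theorem count2 : (P2.filter (fun q => dotInt u0 (f2 q) = 24 ∧ dotInt ws (f2 q) = -24)).card
    = 77 := by
  rw [count2_empty (fun x => dotInt u0 x = 24 ∧ dotInt ws x = -24)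
    (fun O => none ∈ O ∧ (some 0 : GolayPt) ∈ O) cond2_iff]
  refine Eq.trans ?_ count2_aux
  congr 1
  funext c
  congr 1
  simp only [Cfsg.Agent.Lib.Helper3.Golay.mem_bitSet]
  rfl

/-! ### the family `(±4, ±4, 0, …)` -/

set_option maxRecDepth 100000 in
theorem count4 : (P4.filter (fun q => dotInt u0 (Psi 4 q) = 24 ∧ dotInt ws (Psi 4 q) = -24)).card
    = 1 := by
  decide +kernel

theorem count0 :
    {x : ↥leechLattice | sqNorm (x : GolayPt → ℤ) = 32 ∧
      dotInt u0 (x : GolayPt → ℤ) = 24 ∧ dotInt ws (x : GolayPt → ℤ) = -24}.ncard = 100 := by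
  have himg : {w : GolayPt → ℤ | w ∈ leechLattice ∧ sqNorm w = 32 ∧
      (dotInt u0 w = 24 ∧ dotInt ws w = -24)}
      = Subtype.val '' {x : ↥leechLattice | sqNorm (x : GolayPt → ℤ) = 32 ∧
          dotInt u0 (x : GolayPt → ℤ) = 24 ∧ dotInt ws (x : GolayPt → ℤ) = -24} := by
    ext w
    simp only [Set.mem_ofPred_eq, Set.mem_image]
    constructor
    · rintro ⟨hw, hn, hd⟩
      exact ⟨⟨w, hw⟩, ⟨hn, hd⟩, rfl⟩
    · rintro ⟨v, ⟨hn, hd⟩, rfl⟩
      exact ⟨v.2, hn, hd⟩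
  rw [← Set.ncard_image_of_injective _ Subtype.val_injective, ← himg,
    ncard_min_filter (fun x => dotInt u0 x = 24 ∧ dotInt ws x = -24), countO, count2, count4]

/-- The Higman–Sims configuration: for two vectors of customary norm 6 with inner product −4, exactly 100 minimal vectors have customary inner products 3 and −3 with them, and the joint stabiliser permutes these transitively. -/
theorem result (v w : ↥Cfsg.leechLattice) (hv : Cfsg.sqNorm (v : Cfsg.GolayPt → ℤ) = 48) (hw : Cfsg.sqNorm (w : Cfsg.GolayPt → ℤ) = 48) (hvw : Cfsg.dotInt (v : Cfsg.GolayPt → ℤ) (w : Cfsg.GolayPt → ℤ) = -32) : {x : ↥Cfsg.leechLattice | Cfsg.sqNorm (x : Cfsg.GolayPt → ℤ) = 32 ∧ Cfsg.dotInt (v : Cfsg.GolayPt → ℤ) (x : Cfsg.GolayPt → ℤ) = 24 ∧ Cfsg.dotInt (w : Cfsg.GolayPt → ℤ) (x : Cfsg.GolayPt → ℤ) = -24}.ncard = 100 ∧ ∀ x ∈ {x : ↥Cfsg.leechLattice | Cfsg.sqNorm (x : Cfsg.GolayPt → ℤ) = 32 ∧ Cfsg.dotInt (v : Cfsg.GolayPt → ℤ) (x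 : Cfsg.GolayPt → ℤ) = 24 ∧ Cfsg.dotInt (w : Cfsg.GolayPt → ℤ) (x : Cfsg.GolayPt → ℤ) = -24}, ∀ x' ∈ {x : ↥Cfsg.leechLattice | Cfsg.sqNorm (x : Cfsg.GolayPt → ℤ) = 32 ∧ Cfsg.dotInt (v : Cfsg.GolayPt → ℤ) (x : Cfsg.GolayPt → ℤ) = 24 ∧ Cfsg.dotInt (w : Cfsg.GolayPt → ℤ) (x : Cfsg.GolayPt → ℤ) = -24}, ∃ g : ↥Cfsg.Co0, g • v = v ∧ g • w = w ∧ g • x = x' := by
  constructor
  · obtain ⟨g, hgv, hgw⟩ := pair_move v w ⟨u0, u0_mem⟩ ⟨ws, ws_mem⟩ hv hw hvw u0_norm ws_norm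
      dot_u0_ws
    rw [ncard_dot2_congr v w _ _ g hgv hgw 32 24 (-24)]
    exact count0
  · rintro x ⟨hxn, hx1, hx2⟩ x' ⟨hxn', hx1', hx2'⟩
    obtain ⟨g1, h1z, h1x, h1v⟩ := triple_normal v w x hv hw hvw hxn hx1 hx2
    obtain ⟨g2, h2z, h2x, h2v⟩ := triple_normal v w x' hv hw hvw hxn' hx1' hx2'
    have e1 : (g2⁻¹ * g1) • v = v := by
      rw [mul_smul, inv_smul_eq_iff]
      exact Subtype.ext (h1v.trans h2v.symm)
    have e2 : (g2⁻¹ * g1) • (v + w) = v + w := by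
      rw [mul_smul, inv_smul_eq_iff]
      exact Subtype.ext (h1z.trans h2z.symm)
    have e3 : (g2⁻¹ * g1) • x = x' := by
      rw [mul_smul, inv_smul_eq_iff]
      exact Subtype.ext (h1x.trans h2x.symm)
    refine ⟨g2⁻¹ * g1, e1, ?_, e3⟩
    have hadd : (g2⁻¹ * g1) • (v + w) = (g2⁻¹ * g1) • v + (g2⁻¹ * g1) • w :=
      (g2⁻¹ * g1).2.1 v w
    rw [e2, e1] at hadd
    exact (add_left_cancel hadd).symm

end Cfsg.Agent.S1583
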