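import Cfsg.Statements.S1584
-- import your own Cfsg.Agent.* helpers here
import Cfsg.Agent.S1583
import Cfsg.Agent.Lib.Helper3.Golay.M24List

set_option autoImplicit false
open Cfsg

namespace Cfsg.Agent.S1584

open Cfsg.Agent.Lib.Helper14.Golay Cfsg.Agent.Lib.Helper14.Leech
  Cfsg.Agent.Lib.Helper14.LeechCount Cfsg.Agent.Lib.Helper14.LeechMinCount
  Cfsg.Agent.Lib.Helper14.LeechOrbit Cfsg.Agent.Lib.Helper14.LeechPairs
  Cfsg.Agent.Lib.Helper14.LeechHS Cfsg.Agent.Lib.Helper14.LeechMono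
  Cfsg.Agent.Lib.Helper14.Co0Center Cfsg.Agent.Lib.Helper14.Co0Order
  Cfsg.Agent.Lib.Helper14.LeechCross
open Cfsg.Agent.S1578 (u0 u0_mem u0_norm dot_u0 sum_PhiO)
open scoped Pointwise
open Cfsg.Agent.S1583 (ws ws_mem ws_norm dot_u0_ws dot_ws)

/-! ### the standard configuration -/

/-- the standard points of the first kind: `(1, …, 1, -3, 1, …, 1)` -/
def yO (j : GolayPt) : GolayPt → ℤ := fun i => if i = j then -3 else 1

theorem PhiO_zero (j : GolayPt) : PhiO (0, j) = yO j := by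
  funext i
  rw [PhiO_apply]
  simp [yO]

theorem yO_mem (j : GolayPt) : yO j ∈ leechLattice := by
  rw [← PhiO_zero]
  exact AddSubgroup.subset_closure (PhiO_mem 0 golayCode.zero_mem j).1

theorem yO_injective : Function.Injective yO := by
  intro j j' h
  have := congrFun h j
  unfold yO at this
  rw [if_pos rfl] at this
  by_contra hne
  rw [if_neg hne] at this
  norm_num at this

set_option maxRecDepth 100000 in
theorem yO_facts : ∀ j : GolayPt, j ≠ none → j ≠ some 0 →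
    (sqNorm (yO j) = 32 ∧ dotInt u0 (yO j) = 24 ∧ dotInt ws (yO j) = -24) ∧
      dotInt v0 (yO j) = 8 := by
  decide +kernel

set_option maxRecDepth 100000 in
theorem v0_facts : dotInt u0 v0 = 24 ∧ dotInt ws v0 = -24 := by
  decide +kernel

set_option maxRecDepth 100000 in
theorem Psi4_std : Psi 4 ⟨{none, some 0}, ∅⟩ = v0 := by
  funext i
  revert i
  decide +kernel

/-- classification of the points of the standard configuration -/
theorem classify_std (y : GolayPt → ℤ) (hy : y ∈ leechLattice) (hn : sqNorm y = 32)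
    (h1 : dotInt u0 y = 24) (h2 : dotInt ws y = -24) :
    (∃ j, j ≠ none ∧ j ≠ some 0 ∧ y = yO j) ∨
    (∃ O ∈ octads, none ∈ O ∧ (some 0 : GolayPt) ∈ O ∧ y = Psi 2 ⟨O, ∅⟩) ∨ y = v0 := by
  classical
  have hmem : y ∈ {x : GolayPt → ℤ | x ∈ leechLattice ∧ sqNorm x = 32} := ⟨hy, hn⟩
  rw [min_eq, Finset.mem_coe, Finset.mem_union, Finset.mem_union] at hmem
  rcases hmem with (hm | hm) | hm
  · left
    obtain ⟨⟨w, j⟩, hq, rfl⟩ := Finset.mem_image.mp hm
    rw [mem_PO] at hq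
    have hwt := Cfsg.Agent.Lib.Helper3.Golay.weight_mem hq
    have hnorm : hammingNorm w = (support₂ w).card := rfl
    rw [hnorm] at hwt
    rw [dot_u0, sum_PhiO, PhiO_apply] at h1
    rw [dot_ws, sum_PhiO, PhiO_apply] at h2
    have c1 := val_cases (w none)
    have c2 := val_cases (w (some 0))
    have c3 := val_cases (w j)
    have hcard : (support₂ w).card = 0 ∧ j ≠ none ∧ j ≠ some 0 := by
      by_cases hj1 : j = none
      · subst hj1
        rw [if_pos rfl] at h1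
        rw [if_neg (by decide)] at h2
        omega
      · by_cases hj2 : j = some 0
        · subst hj2
          rw [if_neg (by decide)] at h1
          rw [if_pos rfl] at h2
          omega
        · rw [if_neg (fun h => hj1 h.symm)] at h1
          rw [if_neg (fun h => hj2 h.symm)] at h2
          refine ⟨?_, hj1, hj2⟩
          omega
    obtain ⟨h0, hj1, hj2⟩ := hcard
    have hw0 : w = 0 := by
      funext i
      have : i ∉ support₂ w := by
        rw [Finset.card_eq_zero.mp h0]; exact Finset.notMem_empty i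
      rw [notMem_support₂_iff] at this
      exact (ZMod.val_eq_zero _).mp this
    exact ⟨j, hj1, hj2, by rw [hw0]; exact PhiO_zero j⟩
  · right; left
    obtain ⟨⟨w, U⟩, hq, rfl⟩ := Finset.mem_image.mp hm
    rw [mem_P2] at hq
    obtain ⟨⟨hw, h8⟩, hU, -⟩ := hq
    obtain ⟨rfl, hn1, hn2⟩ := (Cfsg.Agent.S1583.cond2_iff w h8 U hU).mp ⟨h1, h2⟩
    exact ⟨support₂ w, ⟨⟨w, hw, rfl⟩, h8⟩, hn1, hn2, rfl⟩
  · right; right
    obtain ⟨q, hq, rfl⟩ := Finset.mem_image.mp hm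
    obtain ⟨a, ha⟩ := Finset.card_eq_one.mp Cfsg.Agent.S1583.count4
    have m1 : q ∈ P4.filter (fun q => dotInt u0 (Psi 4 q) = 24 ∧ dotInt ws (Psi 4 q) = -24) :=
      Finset.mem_filter.mpr ⟨hq, h1, h2⟩
    have m2 : (⟨{none, some 0}, ∅⟩ : (_ : Finset GolayPt) × Finset GolayPt)
        ∈ P4.filter (fun q => dotInt u0 (Psi 4 q) = 24 ∧ dotInt ws (Psi 4 q) = -24) := by
      refine Finset.mem_filter.mpr ⟨(mem_P4 _).mpr ⟨by decide, Finset.empty_subset _⟩, ?_⟩
      rw [Psi4_std]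
      exact v0_facts
    rw [ha, Finset.mem_singleton] at m1 m2
    rw [m1, ← m2, Psi4_std]

theorem dot_v0_yO (j : GolayPt) (h1 : j ≠ none) (h2 : j ≠ some 0) : dotInt v0 (yO j) = 8 :=
  (yO_facts j h1 h2).2

theorem dot_v0_Psi (O : Finset GolayPt) (h1 : none ∈ O) (h2 : (some 0 : GolayPt) ∈ O) :
    dotInt v0 (Psi 2 ⟨O, ∅⟩) = 16 := by
  rw [dot_v0, Psi_apply, Psi_apply, if_pos h1, if_pos h2, if_neg (Finset.notMem_empty _),
    if_neg (Finset.notMem_empty _)]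
  norm_num

theorem dot_v0_v0 : dotInt v0 v0 = 32 := by rw [dotInt_self, v0_norm]

/-! ### permutations as elements of `Co0` -/

noncomputable def permEl (π : Equiv.Perm GolayPt) (hπ : π ∈ M24) : ↥Co0 :=
  ⟨mono ⟨π, hπ⟩ 0, mono_mem_Co0 _ _⟩

theorem permEl_apply (π : Equiv.Perm GolayPt) (hπ : π ∈ M24) (y : ↥leechLattice) (i : GolayPt) :
    ((permEl π hπ • y : ↥leechLattice) : GolayPt → ℤ) i = (y : GolayPt → ℤ) (π.symm i) := by
  rw [smul_coe]
  show ((mono ⟨π, hπ⟩ 0 y : ↥leechLattice) : GolayPt → ℤ) i = _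
  rw [mono_apply, signedPerm_apply, if_neg]
  show i ∉ support₂ (0 : GolayPt → ZMod 2)
  rw [notMem_support₂_iff]
  rfl

theorem permEl_eq (π : Equiv.Perm GolayPt) (hπ : π ∈ M24) (y y' : ↥leechLattice)
    (h : ∀ i, (y : GolayPt → ℤ) (π.symm i) = (y' : GolayPt → ℤ) i) : permEl π hπ • y = y' :=
  Subtype.ext (funext fun i => (permEl_apply π hπ y i).trans (h i))

theorem u0_perm (π : Equiv.Perm GolayPt) (h1 : π none = none) (i : GolayPt) :
    u0 (π.symm i) = u0 i := by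
  unfold u0
  simp only [Equiv.symm_apply_eq, h1]

theorem ws_perm (π : Equiv.Perm GolayPt) (h2 : π (some 0) = some 0) (i : GolayPt) :
    ws (π.symm i) = ws i := by
  unfold ws
  simp only [Pi.neg_apply, Equiv.symm_apply_eq, h2]

theorem v0_perm (π : Equiv.Perm GolayPt) (h1 : π none = none) (h2 : π (some 0) = some 0)
    (i : GolayPt) : v0 (π.symm i) = v0 i := by
  unfold v0
  simp only [Pi.add_apply, Pi.single_apply, Equiv.symm_apply_eq, h1, h2]

theorem yO_perm (π : Equiv.Perm GolayPt) (j : GolayPt) (i : GolayPt) :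
    yO j (π.symm i) = yO (π j) i := by
  unfold yO
  simp only [Equiv.symm_apply_eq]

theorem Psi_perm (π : Equiv.Perm GolayPt) (O : Finset GolayPt) (i : GolayPt) :
    Psi 2 ⟨O, ∅⟩ (π.symm i) = Psi 2 ⟨π • O, ∅⟩ i := by
  rw [Psi_apply, Psi_apply]
  have : π.symm i ∈ O ↔ i ∈ π • O := by
    show π⁻¹ • i ∈ O ↔ _
    exact Finset.inv_smul_mem_iff
  simp only [this, Finset.notMem_empty, if_false]

/-! ### the point stabiliser is transitive on each class -/

/-- the standard vectors as lattice elements -/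
noncomputable def U0 : ↥leechLattice := ⟨u0, u0_mem⟩
noncomputable def WS : ↥leechLattice := ⟨ws, ws_mem⟩
noncomputable def V0 : ↥leechLattice := ⟨v0, v0_mem⟩

theorem std_trans (y y' : ↥leechLattice)
    (hy : sqNorm (y : GolayPt → ℤ) = 32 ∧ dotInt u0 (y : GolayPt → ℤ) = 24 ∧
      dotInt ws (y : GolayPt → ℤ) = -24)
    (hy' : sqNorm (y' : GolayPt → ℤ) = 32 ∧ dotInt u0 (y' : GolayPt → ℤ) = 24 ∧
      dotInt ws (y' : GolayPt → ℤ) = -24)
    (hne : (y : GolayPt → ℤ) ≠ v0) (hne' : (y' : GolayPt → ℤ) ≠ v0)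
    (hiff : dotInt v0 (y : GolayPt → ℤ) = 8 ↔ dotInt v0 (y' : GolayPt → ℤ) = 8) :
    ∃ h : ↥Co0, h • U0 = U0 ∧ h • WS = WS ∧ h • V0 = V0 ∧ h • y = y' := by
  rcases classify_std y.1 y.2 hy.1 hy.2.1 hy.2.2 with ⟨j, hj1, hj2, e⟩ | ⟨O, hO, hO1, hO2, e⟩ | e
  · have d : dotInt v0 (y : GolayPt → ℤ) = 8 := by rw [e]; exact dot_v0_yO j hj1 hj2
    have d' := hiff.mp d
    rcases classify_std y'.1 y'.2 hy'.1 hy'.2.1 hy'.2.2 with
      ⟨j', hj1', hj2', e'⟩ | ⟨O', hO', hO1', hO2', e'⟩ | e'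
    · obtain ⟨π, hπ, hmap⟩ := Cfsg.Agent.Lib.Helper3.Golay.exists_map_list
        [none, some 0, j] [none, some 0, j']
        (List.nodup_cons.mpr ⟨by simp [hj1.symm], List.nodup_cons.mpr
          ⟨by simp [hj2.symm], List.nodup_singleton _⟩⟩)
        (List.nodup_cons.mpr ⟨by simp [hj1'.symm], List.nodup_cons.mpr
          ⟨by simp [hj2'.symm], List.nodup_singleton _⟩⟩) rfl (by norm_num)
      simp only [List.map_cons, List.map_nil, List.cons.injEq, and_true] at hmap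
      obtain ⟨m1, m2, m3⟩ := hmap
      refine ⟨permEl π hπ, permEl_eq π hπ _ _ (u0_perm π m1), permEl_eq π hπ _ _ (ws_perm π m2),
        permEl_eq π hπ _ _ (v0_perm π m1 m2), permEl_eq π hπ _ _ ?_⟩
      intro i
      rw [e, e', yO_perm, m3]
    · exfalso
      rw [e', dot_v0_Psi O' hO1' hO2'] at d'
      norm_num at d'
    · exact absurd e' hne'
  · have d : dotInt v0 (y : GolayPt → ℤ) ≠ 8 := by
      rw [e, dot_v0_Psi O hO1 hO2]; norm_num
    have d' : dotInt v0 (y' : GolayPt → ℤ) ≠ 8 := fun h => d (hiff.mpr h)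
    rcases classify_std y'.1 y'.2 hy'.1 hy'.2.1 hy'.2.2 with
      ⟨j', hj1', hj2', e'⟩ | ⟨O', hO', hO1', hO2', e'⟩ | e'
    · exfalso
      apply d'
      rw [e']; exact dot_v0_yO j' hj1' hj2'
    · obtain ⟨π, hπ, hOO, hmap⟩ := Cfsg.Agent.Lib.Helper3.Golay.exists_map_octad_list hO hO'
        [none, some 0] [none, some 0]
        (List.nodup_cons.mpr ⟨by simp, List.nodup_singleton _⟩)
        (List.nodup_cons.mpr ⟨by simp, List.nodup_singleton _⟩) rfl (by norm_num)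
        (by
          intro p hp
          simp only [List.mem_cons, List.not_mem_nil, or_false] at hp
          rcases hp with rfl | rfl
          · exact hO1
          · exact hO2)
        (by
          intro p hp
          simp only [List.mem_cons, List.not_mem_nil, or_false] at hp
          rcases hp with rfl | rfl
          · exact hO1'
          · exact hO2')
      simp only [List.map_cons, List.map_nil, List.cons.injEq, and_true] at hmap
      obtain ⟨m1, m2⟩ := hmap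
      refine ⟨permEl π hπ, permEl_eq π hπ _ _ (u0_perm π m1), permEl_eq π hπ _ _ (ws_perm π m2),
        permEl_eq π hπ _ _ (v0_perm π m1 m2), permEl_eq π hπ _ _ ?_⟩
      intro i
      rw [e, e', Psi_perm, hOO]
    · exact absurd e' hne'
  · exact absurd e hne

/-! ### counting -/

theorem ncard_congr_smul (g : ↥Co0) (S S' : Set ↥leechLattice) (h : ∀ y, y ∈ S ↔ g • y ∈ S') :
    S.ncard = S'.ncard := by
  have : S' = (fun y => g • y) '' S := by
    ext z
    constructor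
    · intro hz
      exact ⟨g⁻¹ • z, (h _).mpr (by rw [smul_inv_smul]; exact hz), smul_inv_smul g z⟩
    · rintro ⟨y, hy, rfl⟩
      exact (h y).mp hy
  rw [this, Set.ncard_image_of_injective _ (MulAction.injective g)]

theorem count22 : {y : ↥leechLattice | (sqNorm (y : GolayPt → ℤ) = 32 ∧
    dotInt u0 (y : GolayPt → ℤ) = 24 ∧ dotInt ws (y : GolayPt → ℤ) = -24) ∧
    dotInt v0 (y : GolayPt → ℤ) = 8}.ncard = 22 := by
  classical
  have hset : {y : ↥leechLattice | (sqNorm (y : GolayPt → ℤ) = 32 ∧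
      dotInt u0 (y : GolayPt → ℤ) = 24 ∧ dotInt ws (y : GolayPt → ℤ) = -24) ∧
      dotInt v0 (y : GolayPt → ℤ) = 8}
      = (fun j => (⟨yO j, yO_mem j⟩ : ↥leechLattice)) ''
        (↑(Finset.univ.filter (fun j : GolayPt => j ≠ none ∧ j ≠ some 0)) : Set GolayPt) := by
    ext y
    simp only [Set.mem_ofPred_eq, Set.mem_image, Finset.coe_filter, Finset.mem_univ, true_and]
    constructor
    · rintro ⟨hy, hd⟩
      rcases classify_std y.1 y.2 hy.1 hy.2.1 hy.2.2 with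
        ⟨j, hj1, hj2, e⟩ | ⟨O, hO, hO1, hO2, e⟩ | e
      · exact ⟨j, ⟨hj1, hj2⟩, Subtype.ext e.symm⟩
      · exfalso
        rw [e, dot_v0_Psi O hO1 hO2] at hd
        norm_num at hd
      · exfalso
        rw [e, dot_v0_v0] at hd
        norm_num at hd
    · rintro ⟨j, ⟨hj1, hj2⟩, rfl⟩
      exact yO_facts j hj1 hj2
  rw [hset, Set.ncard_image_of_injective _ (fun j j' h => yO_injective (congrArg Subtype.val h)),
    Set.ncard_coe_finset]
  decide

/-- The Higman–Sims group acts with rank 3 and subdegrees 1, 22, 77 on its 100 points, the orbits of a point stabiliser being distinguished by customary inner product 1 with the fixed point. -/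
theorem result (v w x : ↥Cfsg.leechLattice) (hv : Cfsg.sqNorm (v : Cfsg.GolayPt → ℤ) = 48) (hw : Cfsg.sqNorm (w : Cfsg.GolayPt → ℤ) = 48) (hvw : Cfsg.dotInt (v : Cfsg.GolayPt → ℤ) (w : Cfsg.GolayPt → ℤ) = -32) (hx : x ∈ {x : ↥Cfsg.leechLattice | Cfsg.sqNorm (x : Cfsg.GolayPt → ℤ) = 32 ∧ Cfsg.dotInt (v : Cfsg.GolayPt → ℤ) (x : Cfsg.GolayPt → ℤ) = 24 ∧ Cfsg.dotInt (w : Cfsg.GolayPt → ℤ) (x : Cfsg.GolayPt → ℤ) = -24}) : {y : ↥Cfsg.leechLattice | y ∈ {x : ↥Cfsg.leechLattice | Cfsg.sqNorm (x : Cfsg.GolayPt → ℤ) = 32 ∧ Cfsg.dotInt (v : Cfsg.GolayPt → ℤ) (x : Cfsg.GolayPt → ℤ) = 24 ∧ Cfsg.dotInt (w : Cfsg.GolayPt → ℤ) (x : Cfsg.GolayPt → ℤ) = -24} ∧ Cfsg.dotInt (x : Cfsg.GolayPt → ℤ) (y : Cfsg.GolayPt → ℤ) = 8}.ncard = 22 ∧ {y : ↥Cfsg.leechLattice | y ∈ {x : ↥Cfsg.leechLattice | Cfsg.sqNorm (x : Cfsg.GolayPt → ℤ) = 32 ∧ Cfsg.dotInt (v : Cfsg.GolayPt → ℤ) (x : Cfsg.GolayPt → ℤ) = 24 ∧ Cfsg.dotInt (w : Cfsg.GolayPt → ℤ)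 (x : Cfsg.GolayPt → ℤ) = -24} ∧ y ≠ x ∧ Cfsg.dotInt (x : Cfsg.GolayPt → ℤ) (y : Cfsg.GolayPt → ℤ) ≠ 8}.ncard = 77 ∧ ∀ y ∈ {x : ↥Cfsg.leechLattice | Cfsg.sqNorm (x : Cfsg.GolayPt → ℤ) = 32 ∧ Cfsg.dotInt (v : Cfsg.GolayPt → ℤ) (x : Cfsg.GolayPt → ℤ) = 24 ∧ Cfsg.dotInt (w : Cfsg.GolayPt → ℤ) (x : Cfsg.GolayPt → ℤ) = -24}, ∀ y' ∈ {x : ↥Cfsg.leechLattice | Cfsg.sqNorm (x : Cfsg.GolayPt → ℤ) = 32 ∧ Cfsg.dotInt (v : Cfsg.GolayPt → ℤ) (x : Cfsg.GolayPt → ℤ) = 24 ∧ Cfsg.dotInt (w : Cfsg.GolayPt → ℤ) (x : Cfsg.GolayPt → ℤ) = -24}, y ≠ x → y' ≠ x → (Cfsg.dotInt (x : Cfsg.GolayPt → ℤ) (y : Cfsg.GolayPt → ℤ) = 8 ↔ Cfsg.dotInt (x : Cfsg.GolayPt → ℤ) (y' : Cfsg.GolayPt → ℤ) = 8) → ∃ g : ↥Cfsg.Co0, g • v = v ∧ g • w = w ∧ g • x = x ∧ g • y = y' := by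
  classical
  obtain ⟨hxn, hx1, hx2⟩ := hx
  -- the normal form
  obtain ⟨g0, hg0v, hg0w⟩ := pair_move v w U0 WS hv hw hvw u0_norm ws_norm dot_u0_ws
  have hstd := Cfsg.Agent.S1583.result U0 WS u0_norm ws_norm dot_u0_ws
  have hgx0 : g0 • x ∈ {x : ↥leechLattice | sqNorm (x : GolayPt → ℤ) = 32 ∧
      dotInt (U0 : GolayPt → ℤ) (x : GolayPt → ℤ) = 24 ∧
      dotInt (WS : GolayPt → ℤ) (x : GolayPt → ℤ) = -24} := by
    refine ⟨?_, ?_, ?_⟩
    · rw [smul_coe, g0.2.2, hxn]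
    · rw [← hg0v, smul_coe, smul_coe, dot_pres g0.1 g0.2, hx1]
    · rw [← hg0w, smul_coe, smul_coe, dot_pres g0.1 g0.2, hx2]
  have hV0 : V0 ∈ {x : ↥leechLattice | sqNorm (x : GolayPt → ℤ) = 32 ∧
      dotInt (U0 : GolayPt → ℤ) (x : GolayPt → ℤ) = 24 ∧
      dotInt (WS : GolayPt → ℤ) (x : GolayPt → ℤ) = -24} :=
    ⟨v0_norm, v0_facts.1, v0_facts.2⟩
  obtain ⟨h, hhv, hhw, hhx⟩ := hstd.2 (g0 • x) hgx0 V0 hV0
  have hgv : (h * g0) • v = U0 := by rw [mul_smul, hg0v, hhv]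
  have hgw : (h * g0) • w = WS := by rw [mul_smul, hg0w, hhw]
  have hgx : (h * g0) • x = V0 := by rw [mul_smul, hhx]
  generalize h * g0 = g at hgv hgw hgx
  have hX : ∀ y : ↥leechLattice, (sqNorm (y : GolayPt → ℤ) = 32 ∧
      dotInt (v : GolayPt → ℤ) (y : GolayPt → ℤ) = 24 ∧
      dotInt (w : GolayPt → ℤ) (y : GolayPt → ℤ) = -24) ↔
      (sqNorm ((g • y : ↥leechLattice) : GolayPt → ℤ) = 32 ∧
        dotInt u0 ((g • y : ↥leechLattice) : GolayPt → ℤ) = 24 ∧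
        dotInt ws ((g • y : ↥leechLattice) : GolayPt → ℤ) = -24) := by
    intro y
    have e1 : dotInt u0 ((g • y : ↥leechLattice) : GolayPt → ℤ)
        = dotInt (v : GolayPt → ℤ) (y : GolayPt → ℤ) := by
      have : u0 = ((g • v : ↥leechLattice) : GolayPt → ℤ) := by rw [hgv]; rfl
      rw [this, smul_coe, smul_coe, dot_pres g.1 g.2]
    have e2 : dotInt ws ((g • y : ↥leechLattice) : GolayPt → ℤ)
        = dotInt (w : GolayPt → ℤ) (y : GolayPt → ℤ) := by
      have : ws = ((g • w : ↥leechLattice) : GolayPt → ℤ) := by rw [hgw]; rfl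
      rw [this, smul_coe, smul_coe, dot_pres g.1 g.2]
    have e3 : sqNorm ((g • y : ↥leechLattice) : GolayPt → ℤ) = sqNorm (y : GolayPt → ℤ) := by
      rw [smul_coe, g.2.2]
    rw [e1, e2, e3]
  have hD : ∀ y : ↥leechLattice, dotInt v0 ((g • y : ↥leechLattice) : GolayPt → ℤ)
      = dotInt (x : GolayPt → ℤ) (y : GolayPt → ℤ) := by
    intro y
    have : v0 = ((g • x : ↥leechLattice) : GolayPt → ℤ) := by rw [hgx]; rfl
    rw [this, smul_coe, smul_coe, dot_pres g.1 g.2]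
  have h22 : {y : ↥leechLattice | y ∈ {x : ↥leechLattice | sqNorm (x : GolayPt → ℤ) = 32 ∧
      dotInt (v : GolayPt → ℤ) (x : GolayPt → ℤ) = 24 ∧
      dotInt (w : GolayPt → ℤ) (x : GolayPt → ℤ) = -24} ∧
      dotInt (x : GolayPt → ℤ) (y : GolayPt → ℤ) = 8}.ncard = 22 := by
    rw [ncard_congr_smul g _ _ (fun y => ?_), count22]
    simp only [Set.mem_ofPred_eq]
    rw [hX y, hD y]
  refine ⟨h22, ?_, ?_⟩
  · -- the 77
    have h100 := (Cfsg.Agent.S1583.result v w hv hw hvw).1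
    set X := {x : ↥leechLattice | sqNorm (x : GolayPt → ℤ) = 32 ∧
      dotInt (v : GolayPt → ℤ) (x : GolayPt → ℤ) = 24 ∧
      dotInt (w : GolayPt → ℤ) (x : GolayPt → ℤ) = -24} with hXdef
    set S22 := {y : ↥leechLattice | y ∈ X ∧ dotInt (x : GolayPt → ℤ) (y : GolayPt → ℤ) = 8}
      with hS22
    have hfin : X.Finite := Set.finite_of_ncard_ne_zero (by rw [h100]; norm_num)
    have hsub : S22 ⊆ X := fun y hy => hy.1
    have hxX : x ∈ X := ⟨hxn, hx1, hx2⟩
    have hxS : x ∉ S22 := by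
      rintro ⟨-, hd⟩
      rw [dotInt_self, hxn] at hd
      norm_num at hd
    have hset : {y : ↥leechLattice | y ∈ X ∧ y ≠ x ∧
        dotInt (x : GolayPt → ℤ) (y : GolayPt → ℤ) ≠ 8} = (X \ S22) \ {x} := by
      ext y
      simp only [Set.mem_ofPred_eq, Set.mem_sdiff, Set.mem_singleton_iff, hS22]
      constructor
      · rintro ⟨h1, h2, h3⟩
        exact ⟨⟨h1, fun h => h3 h.2⟩, h2⟩
      · rintro ⟨⟨h1, h3⟩, h2⟩
        exact ⟨h1, h2, fun h => h3 ⟨h1, h⟩⟩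
    rw [hset, Set.ncard_sdiff_singleton_of_mem (show x ∈ X \ S22 from ⟨hxX, hxS⟩),
      Set.ncard_sdiff hsub (hfin.subset hsub), h100, h22]
  · -- transitivity
    rintro y hy y' hy' hyx hyx' hiff
    have a1 := (hX y).mp hy
    have a2 := (hX y').mp hy'
    have n1 : ((g • y : ↥leechLattice) : GolayPt → ℤ) ≠ v0 := by
      intro hh
      apply hyx
      have : g • y = g • x := by rw [hgx]; exact Subtype.ext hh
      exact smul_left_cancel g this
    have n2 : ((g • y' : ↥leechLattice) : GolayPt → ℤ) ≠ v0 := by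
      intro hh
      apply hyx'
      have : g • y' = g • x := by rw [hgx]; exact Subtype.ext hh
      exact smul_left_cancel g this
    obtain ⟨k, k1, k2, k3, k4⟩ := std_trans (g • y) (g • y') a1 a2 n1 n2
      (by rw [hD y, hD y']; exact hiff)
    refine ⟨g⁻¹ * k * g, ?_, ?_, ?_, ?_⟩
    · rw [mul_smul, mul_smul, hgv, k1, ← hgv, inv_smul_smul]
    · rw [mul_smul, mul_smul, hgw, k2, ← hgw, inv_smul_smul]
    · rw [mul_smul, mul_smul, hgx, k3, ← hgx, inv_smul_smul]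
    · rw [mul_smul, mul_smul, k4, inv_smul_smul]

end Cfsg.Agent.S1584
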