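import Cfsg.Statements.S1580
-- import your own Cfsg.Agent.* helpers here
import Cfsg.Agent.Lib.Helper14.LeechMcL

set_option autoImplicit false
open Cfsg

namespace Cfsg.Agent.S1580

open Cfsg.Agent.Lib.Helper14.Golay Cfsg.Agent.Lib.Helper14.Leech
  Cfsg.Agent.Lib.Helper14.LeechCount Cfsg.Agent.Lib.Helper14.LeechMinCount
  Cfsg.Agent.Lib.Helper14.LeechOrbit Cfsg.Agent.Lib.Helper14.LeechPairs
  Cfsg.Agent.Lib.Helper14.LeechHS Cfsg.Agent.Lib.Helper14.LeechMono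
  Cfsg.Agent.Lib.Helper14.Co0Center Cfsg.Agent.Lib.Helper14.Co0Order
  Cfsg.Agent.Lib.Helper14.LeechCross Cfsg.Agent.Lib.Helper14.LeechMcL
open Cfsg.Agent.Lib.Helper3.Golay (wordOf codeMask pc24 bitSet idx)
open Cfsg.Agent.S1578 (u0 u0_mem u0_norm dot_u0 sum_PhiO val_wordOf card_PO_gen)
open Cfsg.Agent.S1584 (U0 V0)

/-! ### counting in the standard configuration -/

/-- the condition `v0 · x = 16` for the odd family, in terms of bit masks -/
def condV (m : ℕ) (j : GolayPt) : Prop :=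
  if j = none then (m.testBit 23 = true ∧ m.testBit 0 = false)
  else if j = some 0 then (m.testBit 0 = true ∧ m.testBit 23 = false) else False

instance (m : ℕ) (j : GolayPt) : Decidable (condV m j) := by
  unfold condV; infer_instance

theorem condV_iff (m : ℕ) (j : GolayPt) :
    dotInt v0 (PhiO (wordOf m, j)) = 16 ↔ condV m j := by
  rw [dot_v0, PhiO_apply, PhiO_apply, val_wordOf, val_wordOf]
  have h23 : idx none = 23 := rfl
  have h0 : idx (some 0) = 0 := rfl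
  rw [h23, h0]
  unfold condV
  by_cases hj : j = none
  · subst hj
    rw [if_pos rfl, if_pos rfl, if_neg (by decide)]
    cases (Nat.testBit m 23) <;> cases (Nat.testBit m 0) <;> simp
  · rw [if_neg hj, if_neg (fun h => hj h.symm)]
    by_cases hj0 : j = some 0
    · subst hj0
      rw [if_pos rfl, if_pos rfl]
      cases (Nat.testBit m 23) <;> cases (Nat.testBit m 0) <;> simp
    · rw [if_neg hj0, if_neg (fun h => hj0 h.symm)]
      cases (Nat.testBit m 23) <;> cases (Nat.testBit m 0) <;> simp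

set_option maxRecDepth 100000 in
theorem countO_aux : (∑ j : GolayPt, sumBelow 4096 (fun c =>
    if Cfsg.Agent.S1578.condO (codeMask c) j ∧ condV (codeMask c) j then 1 else 0)) = 176 := by
  decide +kernel

theorem countO : (PO.filter (fun q => dotInt u0 (PhiO q) = 24 ∧ dotInt v0 (PhiO q) = 16)).card
    = 176 := by
  rw [card_PO_gen]
  refine Eq.trans ?_ countO_aux
  refine Finset.sum_congr rfl fun j _ => ?_
  congr 1
  funext c
  simp only [Cfsg.Agent.S1578.condO_iff, condV_iff]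

theorem cond2_iff (w : GolayPt → ZMod 2) (h8 : (support₂ w).card = 8) (U : Finset GolayPt)
    (hU : U ⊆ support₂ w) :
    (dotInt u0 (f2 ⟨w, U⟩) = 24 ∧ dotInt v0 (f2 ⟨w, U⟩) = 16) ↔
      (U = ∅ ∧ (none ∈ support₂ w ∧ (some 0 : GolayPt) ∈ support₂ w)) := by
  rw [Cfsg.Agent.S1578.cond2_iff w h8 U hU]
  constructor
  · rintro ⟨⟨rfl, hT⟩, h2⟩
    refine ⟨rfl, hT, ?_⟩
    unfold f2 at h2
    rw [dot_v0, Psi_apply, Psi_apply, if_pos hT, if_neg (Finset.notMem_empty _)] at h2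
    by_contra h0
    rw [if_neg h0] at h2
    norm_num at h2
  · rintro ⟨rfl, hT, h0⟩
    refine ⟨⟨rfl, hT⟩, ?_⟩
    unfold f2
    rw [dot_v0, Psi_apply, Psi_apply, if_pos hT, if_pos h0, if_neg (Finset.notMem_empty _)]
    norm_num

theorem count2 : (P2.filter (fun q => dotInt u0 (f2 q) = 24 ∧ dotInt v0 (f2 q) = 16)).card
    = 77 := by
  rw [count2_empty (fun x => dotInt u0 x = 24 ∧ dotInt v0 x = 16)
    (fun O => none ∈ O ∧ (some 0 : GolayPt) ∈ O) cond2_iff]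
  refine Eq.trans ?_ Cfsg.Agent.S1583.count2_aux
  congr 1
  funext c
  congr 1
  simp only [Cfsg.Agent.Lib.Helper3.Golay.mem_bitSet]
  rfl

set_option maxRecDepth 100000 in
theorem count4 : (P4.filter (fun q => dotInt u0 (Psi 4 q) = 24 ∧ dotInt v0 (Psi 4 q) = 16)).card
    = 22 := by
  decide +kernel

theorem count0 :
    {x : ↥leechLattice | sqNorm (x : GolayPt → ℤ) = 32 ∧
      dotInt u0 (x : GolayPt → ℤ) = 24 ∧ dotInt v0 (x : GolayPt → ℤ) = 16}.ncard = 275 := by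
  have himg : {w : GolayPt → ℤ | w ∈ leechLattice ∧ sqNorm w = 32 ∧
      (dotInt u0 w = 24 ∧ dotInt v0 w = 16)}
      = Subtype.val '' {x : ↥leechLattice | sqNorm (x : GolayPt → ℤ) = 32 ∧
          dotInt u0 (x : GolayPt → ℤ) = 24 ∧ dotInt v0 (x : GolayPt → ℤ) = 16} := by
    ext w
    simp only [Set.mem_ofPred_eq, Set.mem_image]
    constructor
    · rintro ⟨hw, hn, hd⟩
      exact ⟨⟨w, hw⟩, ⟨hn, hd⟩, rfl⟩
    · rintro ⟨v, ⟨hn, hd⟩, rfl⟩
      exact ⟨v.2, hn, hd⟩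
  rw [← Set.ncard_image_of_injective _ Subtype.val_injective, ← himg,
    ncard_min_filter (fun x => dotInt u0 x = 24 ∧ dotInt v0 x = 16), countO, count2, count4]

/-- the conditions of the statement, in terms of inner products -/
theorem mem_iff (u v x : ↥leechLattice) (hu : sqNorm (u : GolayPt → ℤ) = 48) :
    (sqNorm (x : GolayPt → ℤ) = 32 ∧
      sqNorm ((u : GolayPt → ℤ) - (x : GolayPt → ℤ)) = 32 ∧
      dotInt (v : GolayPt → ℤ) (x : GolayPt → ℤ) = 16) ↔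
    (sqNorm (x : GolayPt → ℤ) = 32 ∧ dotInt (u : GolayPt → ℤ) (x : GolayPt → ℤ) = 24 ∧
      dotInt (v : GolayPt → ℤ) (x : GolayPt → ℤ) = 16) := by
  constructor
  · rintro ⟨h1, h2, h3⟩
    exact ⟨h1, (sub_norm_iff _ _ hu h1).mp h2, h3⟩
  · rintro ⟨h1, h2, h3⟩
    exact ⟨h1, (sub_norm_iff _ _ hu h1).mpr h2, h3⟩

/-- The McLaughlin configuration: for u of customary norm 6 and v minimal with u − v minimal, there are 275 further such summands x of customary inner product 2 with v, permuted transitively by the stabiliser of u and v. -/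
theorem result (u v : ↥Cfsg.leechLattice) (hu : Cfsg.sqNorm (u : Cfsg.GolayPt → ℤ) = 48) (hv : Cfsg.sqNorm (v : Cfsg.GolayPt → ℤ) = 32 ∧ Cfsg.sqNorm ((u - v) : Cfsg.GolayPt → ℤ) = 32) : {x : ↥Cfsg.leechLattice | Cfsg.sqNorm (x : Cfsg.GolayPt → ℤ) = 32 ∧ Cfsg.sqNorm ((u - x) : Cfsg.GolayPt → ℤ) = 32 ∧ Cfsg.dotInt (v : Cfsg.GolayPt → ℤ) (x : Cfsg.GolayPt → ℤ) = 16}.ncard = 275 ∧ ∀ x ∈ {x : ↥Cfsg.leechLattice | Cfsg.sqNorm (x : Cfsg.GolayPt → ℤ) = 32 ∧ Cfsg.sqNorm ((u - x) : Cfsg.GolayPt → ℤ) = 32 ∧ Cfsg.dotInt (v : Cfsg.GolayPt → ℤ) (x : Cfsg.GolayPt → ℤ) = 16}, ∀ x' ∈ {x : ↥Cfsg.leechLattice | Cfsg.sqNorm (x : Cfsg.GolayPt → ℤ) = 32 ∧ Cfsg.sqNorm ((u - x) : Cfsg.GolayPt → ℤ) = 32 ∧ Cfsg.dotInt (v : Cfsg.GolayPt → ℤ) (x : Cfsg.GolayPt → ℤ) = 16}, ∃ g : ↥Cfsg.Co0, g • u = u ∧ g • v = v ∧ g • x = x' := by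
  obtain ⟨hvn, hvs⟩ := hv
  have huv : dotInt (u : GolayPt → ℤ) (v : GolayPt → ℤ) = 24 := (sub_norm_iff _ _ hu hvn).mp hvs
  constructor
  · obtain ⟨g, hgu, hgv⟩ := pair24 u v hu hvn huv
    rw [Cfsg.Agent.S1584.ncard_congr_smul g _ {x : ↥leechLattice | sqNorm (x : GolayPt → ℤ) = 32 ∧
      dotInt u0 (x : GolayPt → ℤ) = 24 ∧ dotInt v0 (x : GolayPt → ℤ) = 16} (fun y => ?_), count0]
    have e1 : dotInt u0 ((g • y : ↥leechLattice) : GolayPt → ℤ)
        = dotInt (u : GolayPt → ℤ) (y : GolayPt → ℤ) := by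
      have : u0 = ((g • u : ↥leechLattice) : GolayPt → ℤ) := by rw [hgu]; rfl
      rw [this, dot_smul]
    have e2 : dotInt v0 ((g • y : ↥leechLattice) : GolayPt → ℤ)
        = dotInt (v : GolayPt → ℤ) (y : GolayPt → ℤ) := by
      have : v0 = ((g • v : ↥leechLattice) : GolayPt → ℤ) := by rw [hgv]; rfl
      rw [this, dot_smul]
    have e3 : sqNorm ((g • y : ↥leechLattice) : GolayPt → ℤ) = sqNorm (y : GolayPt → ℤ) := by
      rw [smul_coe, g.2.2]
    simp only [Set.mem_ofPred_eq]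
    rw [e1, e2, e3]
    exact mem_iff u v y hu
  · rintro x hx x' hx'
    obtain ⟨a1, a2, a3⟩ := (mem_iff u v x hu).mp hx
    obtain ⟨b1, b2, b3⟩ := (mem_iff u v x' hu).mp hx'
    obtain ⟨g1, h1u, h1v, h1x⟩ := triple_normal275 u v x hu hvn a1 huv a2 a3
    obtain ⟨g2, h2u, h2v, h2x⟩ := triple_normal275 u v x' hu hvn b1 huv b2 b3
    refine ⟨g2⁻¹ * g1, ?_, ?_, ?_⟩
    · rw [mul_smul, inv_smul_eq_iff, h1u, h2u]
    · rw [mul_smul, inv_smul_eq_iff, h1v, h2v]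
    · rw [mul_smul, inv_smul_eq_iff]
      exact Subtype.ext (h1x.trans h2x.symm)

end Cfsg.Agent.S1580
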