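import Cfsg.Statements.S1581
-- import your own Cfsg.Agent.* helpers here
import Cfsg.Agent.Lib.Helper14.LeechMcL2
import Cfsg.Agent.S1580

set_option autoImplicit false
open Cfsg

namespace Cfsg.Agent.S1581

open Cfsg.Agent.Lib.Helper14.Golay Cfsg.Agent.Lib.Helper14.Leech
  Cfsg.Agent.Lib.Helper14.LeechCount Cfsg.Agent.Lib.Helper14.LeechMinCount
  Cfsg.Agent.Lib.Helper14.LeechOrbit Cfsg.Agent.Lib.Helper14.LeechPairs
  Cfsg.Agent.Lib.Helper14.LeechHS Cfsg.Agent.Lib.Helper14.LeechMono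
  Cfsg.Agent.Lib.Helper14.Co0Center Cfsg.Agent.Lib.Helper14.Co0Order
  Cfsg.Agent.Lib.Helper14.LeechCross Cfsg.Agent.Lib.Helper14.LeechMcL
open Cfsg.Agent.Lib.Helper3.Golay (wordOf codeMask pc24 bitSet idx)
open Cfsg.Agent.S1578 (u0 u0_mem u0_norm dot_u0 sum_PhiO val_wordOf card_PO_gen)
open Cfsg.Agent.S1584 (U0 V0)
open Cfsg.Agent.S1580 (condV condV_iff mem_iff)

/-! ### counting in the standard configuration -/

/-- the condition `xRef · x = d` for the odd family, in terms of bit masks -/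
def condX (d : ℕ) (m : ℕ) (j : GolayPt) : Prop :=
  16 + (if mRef.testBit (idx j) = true then 16 * (m.testBit (idx j)).toNat else 0)
    = d + 4 * pc24 (mRef &&& m) + (if mRef.testBit (idx j) = true then 8 else 0)

instance (d m : ℕ) (j : GolayPt) : Decidable (condX d m j) := by
  unfold condX; infer_instance

theorem mRef_card : (bitSet mRef).card = 8 := by
  rw [Cfsg.Agent.Lib.Helper3.Golay.card_bitSet']; decide +kernel

theorem sum_PhiO_on (A : Finset GolayPt) (w : GolayPt → ZMod 2) (j : GolayPt) :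
    ∑ i ∈ A, PhiO (w, j) i = (A.card : ℤ) - 2 * ((A ∩ support₂ w).card : ℤ)
      - (if j ∈ A then 4 * (1 - 2 * (((w j).val : ℕ) : ℤ)) else 0) := by
  classical
  have : ∀ i, PhiO (w, j) i = (1 - 2 * (((w i).val : ℕ) : ℤ))
      - (if i = j then 4 * (1 - 2 * (((w i).val : ℕ) : ℤ)) else 0) := by
    intro i
    rw [PhiO_apply]
    split_ifs <;> ring
  rw [Finset.sum_congr rfl (fun i _ => this i), Finset.sum_sub_distrib, Finset.sum_sub_distrib,
    ← Finset.mul_sum, sum_val_on, Finset.sum_const, Finset.sum_ite_eq' A j]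
  simp

theorem condX_iff (d : ℕ) (m : ℕ) (j : GolayPt) :
    dotInt xRef (PhiO (wordOf m, j)) = (d : ℤ) ↔ condX d m j := by
  unfold xRef
  rw [dot_Psi2, sum_PhiO_on, mRef_card, Cfsg.Agent.Lib.Helper3.Golay.support_wordOf,
    ← Cfsg.Agent.Lib.Helper3.Golay.bitSet_and, Cfsg.Agent.Lib.Helper3.Golay.card_bitSet',
    val_wordOf]
  unfold condX
  by_cases hj : mRef.testBit (idx j) = true
  · rw [if_pos (Cfsg.Agent.Lib.Helper3.Golay.mem_bitSet.mpr hj), if_pos hj, if_pos hj]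
    cases (Nat.testBit m (idx j)) <;> simp <;> omega
  · rw [if_neg (fun h => hj (Cfsg.Agent.Lib.Helper3.Golay.mem_bitSet.mp h)), if_neg hj, if_neg hj]
    push_cast
    omega

set_option maxRecDepth 100000 in
theorem countO_aux8 : (∑ j : GolayPt, sumBelow 4096 (fun c =>
    if Cfsg.Agent.S1578.condO (codeMask c) j ∧ condV (codeMask c) j ∧ condX 8 (codeMask c) j
    then 1 else 0)) = 80 := by
  decide +kernel

set_option maxRecDepth 100000 in
theorem countO_aux16 : (∑ j : GolayPt, sumBelow 4096 (fun c =>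
    if Cfsg.Agent.S1578.condO (codeMask c) j ∧ condV (codeMask c) j ∧ condX 16 (codeMask c) j
    then 1 else 0)) = 96 := by
  decide +kernel

theorem countO (d : ℕ) : (PO.filter (fun q => dotInt u0 (PhiO q) = 24 ∧ dotInt v0 (PhiO q) = 16 ∧
    dotInt xRef (PhiO q) = (d : ℤ))).card
    = ∑ j : GolayPt, sumBelow 4096 (fun c =>
      if Cfsg.Agent.S1578.condO (codeMask c) j ∧ condV (codeMask c) j ∧ condX d (codeMask c) j
      then 1 else 0) := by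
  rw [card_PO_gen]
  refine Finset.sum_congr rfl fun j _ => ?_
  congr 1
  funext c
  simp only [Cfsg.Agent.S1578.condO_iff, condV_iff, condX_iff]

theorem cond2_iff (d : ℕ) (w : GolayPt → ZMod 2) (h8 : (support₂ w).card = 8)
    (U : Finset GolayPt) (hU : U ⊆ support₂ w) :
    (dotInt u0 (f2 ⟨w, U⟩) = 24 ∧ dotInt v0 (f2 ⟨w, U⟩) = 16 ∧
        dotInt xRef (f2 ⟨w, U⟩) = (d : ℤ)) ↔
      (U = ∅ ∧ (none ∈ support₂ w ∧ (some 0 : GolayPt) ∈ support₂ w ∧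
        4 * (bitSet mRef ∩ support₂ w).card = d)) := by
  rw [← and_assoc, Cfsg.Agent.S1580.cond2_iff w h8 U hU]
  constructor
  · rintro ⟨⟨rfl, hT, h0⟩, h2⟩
    refine ⟨rfl, hT, h0, ?_⟩
    unfold f2 xRef at h2
    rw [dot_Psi2_Psi2] at h2
    exact_mod_cast h2
  · rintro ⟨rfl, hT, h0, h2⟩
    refine ⟨⟨rfl, hT, h0⟩, ?_⟩
    unfold f2 xRef
    rw [dot_Psi2_Psi2]
    exact_mod_cast h2

set_option maxRecDepth 100000 in
theorem count2_aux8 : sumBelow 4096 (fun c => if pc24 (codeMask c) = 8 then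
    (if (codeMask c).testBit 23 = true ∧ (codeMask c).testBit 0 = true ∧
      4 * pc24 (mRef &&& codeMask c) = 8 then 1 else 0) else 0) = 16 := by
  decide +kernel

set_option maxRecDepth 100000 in
theorem count2_aux16 : sumBelow 4096 (fun c => if pc24 (codeMask c) = 8 then
    (if (codeMask c).testBit 23 = true ∧ (codeMask c).testBit 0 = true ∧
      4 * pc24 (mRef &&& codeMask c) = 16 then 1 else 0) else 0) = 60 := by
  decide +kernel

theorem count2 (d : ℕ) : (P2.filter (fun q => dotInt u0 (f2 q) = 24 ∧ dotInt v0 (f2 q) = 16 ∧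
    dotInt xRef (f2 q) = (d : ℤ))).card
    = sumBelow 4096 (fun c => if pc24 (codeMask c) = 8 then
    (if (codeMask c).testBit 23 = true ∧ (codeMask c).testBit 0 = true ∧
      4 * pc24 (mRef &&& codeMask c) = d then 1 else 0) else 0) := by
  classical
  rw [count2_empty (fun x => dotInt u0 x = 24 ∧ dotInt v0 x = 16 ∧ dotInt xRef x = (d : ℤ))
    (fun O => none ∈ O ∧ (some 0 : GolayPt) ∈ O ∧ 4 * (bitSet mRef ∩ O).card = d) (cond2_iff d)]
  congr 1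
  funext c
  congr 1
  simp only [Cfsg.Agent.Lib.Helper3.Golay.mem_bitSet, ← Cfsg.Agent.Lib.Helper3.Golay.bitSet_and,
    Cfsg.Agent.Lib.Helper3.Golay.card_bitSet']
  rfl

set_option maxRecDepth 100000 in
theorem count4_8 : (P4.filter (fun q => dotInt u0 (Psi 4 q) = 24 ∧ dotInt v0 (Psi 4 q) = 16 ∧
    dotInt xRef (Psi 4 q) = ((8 : ℕ) : ℤ))).card = 16 := by
  decide +kernel

set_option maxRecDepth 100000 in
theorem count4_16 : (P4.filter (fun q => dotInt u0 (Psi 4 q) = 24 ∧ dotInt v0 (Psi 4 q) = 16 ∧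
    dotInt xRef (Psi 4 q) = ((16 : ℕ) : ℤ))).card = 6 := by
  decide +kernel

theorem count0 (d n : ℕ)
    (hn : (PO.filter (fun q => dotInt u0 (PhiO q) = 24 ∧ dotInt v0 (PhiO q) = 16 ∧
        dotInt xRef (PhiO q) = (d : ℤ))).card
      + (P2.filter (fun q => dotInt u0 (f2 q) = 24 ∧ dotInt v0 (f2 q) = 16 ∧
        dotInt xRef (f2 q) = (d : ℤ))).card
      + (P4.filter (fun q => dotInt u0 (Psi 4 q) = 24 ∧ dotInt v0 (Psi 4 q) = 16 ∧
        dotInt xRef (Psi 4 q) = (d : ℤ))).card = n) :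
    {x : ↥leechLattice | (sqNorm (x : GolayPt → ℤ) = 32 ∧
      dotInt u0 (x : GolayPt → ℤ) = 24 ∧ dotInt v0 (x : GolayPt → ℤ) = 16) ∧
      dotInt xRef (x : GolayPt → ℤ) = (d : ℤ)}.ncard = n := by
  have himg : {w : GolayPt → ℤ | w ∈ leechLattice ∧ sqNorm w = 32 ∧
      (dotInt u0 w = 24 ∧ dotInt v0 w = 16 ∧ dotInt xRef w = (d : ℤ))}
      = Subtype.val '' {x : ↥leechLattice | (sqNorm (x : GolayPt → ℤ) = 32 ∧
          dotInt u0 (x : GolayPt → ℤ) = 24 ∧ dotInt v0 (x : GolayPt → ℤ) = 16) ∧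
          dotInt xRef (x : GolayPt → ℤ) = (d : ℤ)} := by
    ext w
    simp only [Set.mem_ofPred_eq, Set.mem_image]
    constructor
    · rintro ⟨hw, hn, h1, h2, h3⟩
      exact ⟨⟨w, hw⟩, ⟨⟨hn, h1, h2⟩, h3⟩, rfl⟩
    · rintro ⟨v, ⟨⟨hn, h1, h2⟩, h3⟩, rfl⟩
      exact ⟨v.2, hn, h1, h2, h3⟩
  rw [← Set.ncard_image_of_injective _ Subtype.val_injective, ← himg,
    ncard_min_filter (fun x => dotInt u0 x = 24 ∧ dotInt v0 x = 16 ∧ dotInt xRef x = (d : ℤ)), hn]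

theorem count112 : {x : ↥leechLattice | (sqNorm (x : GolayPt → ℤ) = 32 ∧
    dotInt u0 (x : GolayPt → ℤ) = 24 ∧ dotInt v0 (x : GolayPt → ℤ) = 16) ∧
    dotInt xRef (x : GolayPt → ℤ) = 8}.ncard = 112 := by
  have := count0 8 112 (by rw [countO, countO_aux8, count2, count2_aux8, count4_8])
  exact_mod_cast this

theorem count162 : {x : ↥leechLattice | (sqNorm (x : GolayPt → ℤ) = 32 ∧
    dotInt u0 (x : GolayPt → ℤ) = 24 ∧ dotInt v0 (x : GolayPt → ℤ) = 16) ∧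
    dotInt xRef (x : GolayPt → ℤ) = 16}.ncard = 162 := by
  have := count0 16 162 (by rw [countO, countO_aux16, count2, count2_aux16, count4_16])
  exact_mod_cast this

/-- The McLaughlin group acts with rank 3 and subdegrees 1, 112, 162 on its 275 points: the point stabiliser has two orbits on the remaining points, distinguished by customary inner product 1 or 2 with the fixed point. -/
theorem result (u v x : ↥Cfsg.leechLattice) (hu : Cfsg.sqNorm (u : Cfsg.GolayPt → ℤ) = 48) (hv : Cfsg.sqNorm (v : Cfsg.GolayPt → ℤ) = 32 ∧ Cfsg.sqNorm ((u - v) : Cfsg.GolayPt → ℤ) = 32) (hx : x ∈ {x : ↥Cfsg.leechLattice | Cfsg.sqNorm (x : Cfsg.GolayPt → ℤ) = 32 ∧ Cfsg.sqNorm ((u - x) : Cfsg.GolayPt → ℤ) = 32 ∧ Cfsg.dotInt (v : Cfsg.GolayPt → ℤ) (x : Cfsg.GolayPt → ℤ) = 16}) : {y : ↥Cfsg.leechLattice | y ∈ {x : ↥Cfsg.leechLattice | Cfsg.sqNorm (x : Cfsg.GolayPt → ℤ) = 32 ∧ Cfsg.sqNorm ((u - x) : Cfsg.GolayPt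 → ℤ) = 32 ∧ Cfsg.dotInt (v : Cfsg.GolayPt → ℤ) (x : Cfsg.GolayPt → ℤ) = 16} ∧ Cfsg.dotInt (x : Cfsg.GolayPt → ℤ) (y : Cfsg.GolayPt → ℤ) = 8}.ncard = 112 ∧ {y : ↥Cfsg.leechLattice | y ∈ {x : ↥Cfsg.leechLattice | Cfsg.sqNorm (x : Cfsg.GolayPt → ℤ) = 32 ∧ Cfsg.sqNorm ((u - x) : Cfsg.GolayPt → ℤ) = 32 ∧ Cfsg.dotInt (v : Cfsg.GolayPt → ℤ) (x : Cfsg.GolayPt → ℤ) = 16} ∧ y ≠ x ∧ Cfsg.dotInt (x : Cfsg.GolayPt → ℤ) (y : Cfsg.GolayPt → ℤ) = 16}.ncard = 162 ∧ ∀ y ∈ {x : ↥Cfsg.leechLattice | Cfsg.sqNorm (x : Cfsg.GolayPt → ℤ) = 32 ∧ Cfsg.sqNorm ((u - x) : Cfsg.GolayPt → ℤ) = 32 ∧ Cfsg.dotInt (v : Cfsg.GolayPt → ℤ) (x : Cfsg.GolayPt → ℤ) = 16}, ∀ y' ∈ {x : ↥Cfsg.leechLattice | Cfsg.sqNorm (x : Cfsg.GolayPt → ℤ) = 32 ∧ Cfsg.sqNorm ((u - x) : Cfsg.GolayPt → ℤ) = 32 ∧ Cfsg.dotInt (v : Cfsg.GolayPt → ℤ) (x : Cfsg.GolayPt → ℤ) = 16}, y ≠ x → y' ≠ x → Cfsg.dotInt (x : Cfsg.GolayPt → ℤ) (y : Cfsg.GolayPt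 → ℤ) = Cfsg.dotInt (x : Cfsg.GolayPt → ℤ) (y' : Cfsg.GolayPt → ℤ) → ∃ g : ↥Cfsg.Co0, g • u = u ∧ g • v = v ∧ g • x = x ∧ g • y = y' := by
  obtain ⟨hvn, hvs⟩ := hv
  have huv : dotInt (u : GolayPt → ℤ) (v : GolayPt → ℤ) = 24 := (sub_norm_iff _ _ hu hvn).mp hvs
  obtain ⟨a1, a2, a3⟩ := (mem_iff u v x hu).mp hx
  obtain ⟨g, hgu, hgv, hgx⟩ := triple_normal275 u v x hu hvn a1 huv a2 a3
  -- transport of the conditions
  have hX : ∀ y : ↥leechLattice, y ∈ {x : ↥leechLattice | sqNorm (x : GolayPt → ℤ) = 32 ∧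
      sqNorm ((u : GolayPt → ℤ) - (x : GolayPt → ℤ)) = 32 ∧
      dotInt (v : GolayPt → ℤ) (x : GolayPt → ℤ) = 16} ↔
      (sqNorm ((g • y : ↥leechLattice) : GolayPt → ℤ) = 32 ∧
        dotInt u0 ((g • y : ↥leechLattice) : GolayPt → ℤ) = 24 ∧
        dotInt v0 ((g • y : ↥leechLattice) : GolayPt → ℤ) = 16) := by
    intro y
    have e1 : dotInt u0 ((g • y : ↥leechLattice) : GolayPt → ℤ)
        = dotInt (u : GolayPt → ℤ) (y : GolayPt → ℤ) := by
      have : u0 = ((g • u : ↥leechLattice) : GolayPt → ℤ) := by rw [hgu]; rfl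
      rw [this, dot_smul]
    have e2 : dotInt v0 ((g • y : ↥leechLattice) : GolayPt → ℤ)
        = dotInt (v : GolayPt → ℤ) (y : GolayPt → ℤ) := by
      have : v0 = ((g • v : ↥leechLattice) : GolayPt → ℤ) := by rw [hgv]; rfl
      rw [this, dot_smul]
    have e3 : sqNorm ((g • y : ↥leechLattice) : GolayPt → ℤ) = sqNorm (y : GolayPt → ℤ) := by
      rw [smul_coe, g.2.2]
    rw [e1, e2, e3]
    exact mem_iff u v y hu
  have hD : ∀ y : ↥leechLattice, dotInt xRef ((g • y : ↥leechLattice) : GolayPt → ℤ)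
      = dotInt (x : GolayPt → ℤ) (y : GolayPt → ℤ) := by
    intro y
    rw [← hgx, dot_smul]
  refine ⟨?_, ?_, ?_⟩
  · rw [Cfsg.Agent.S1584.ncard_congr_smul g _ _ (fun y => ?_), count112]
    simp only [Set.mem_ofPred_eq]
    rw [← hD y]
    constructor
    · rintro ⟨h1, h2⟩
      exact ⟨(hX y).mp h1, h2⟩
    · rintro ⟨h1, h2⟩
      exact ⟨(hX y).mpr h1, h2⟩
  · rw [Cfsg.Agent.S1584.ncard_congr_smul g _ _ (fun y => ?_), count162]
    simp only [Set.mem_ofPred_eq]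
    rw [← hD y]
    constructor
    · rintro ⟨h1, -, h2⟩
      exact ⟨(hX y).mp h1, h2⟩
    · rintro ⟨h1, h2⟩
      refine ⟨(hX y).mpr h1, ?_, h2⟩
      rintro rfl
      rw [hD, dotInt_self, a1] at h2
      norm_num at h2
  · rintro y hy y' hy' hyx hyx' hdd
    obtain ⟨b1, b2, b3⟩ := (mem_iff u v y hu).mp hy
    obtain ⟨c1, c2, c3⟩ := (mem_iff u v y' hu).mp hy'
    obtain ⟨k1, k1u, k1v, k1y, k1x⟩ := quad_normal u v x y hu hvn a1 b1 huv a2 b2 a3 b3 hyx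
    obtain ⟨k2, k2u, k2v, k2y, k2x⟩ := quad_normal u v x y' hu hvn a1 c1 huv a2 c2 a3 c3 hyx'
    have hxx : ((k1 • x : ↥leechLattice) : GolayPt → ℤ) = ((k2 • x : ↥leechLattice) : GolayPt → ℤ) := by
      rcases k1x with ⟨d1, e1⟩ | ⟨d1, e1⟩ <;> rcases k2x with ⟨d2, e2⟩ | ⟨d2, e2⟩
      · rw [e1, e2]
      · omega
      · omega
      · rw [e1, e2]
    refine ⟨k2⁻¹ * k1, ?_, ?_, ?_, ?_⟩
    · rw [mul_smul, inv_smul_eq_iff, k1u, k2u]
    · rw [mul_smul, inv_smul_eq_iff, k1v, k2v]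
    · rw [mul_smul, inv_smul_eq_iff]
      exact Subtype.ext hxx
    · rw [mul_smul, inv_smul_eq_iff]
      exact Subtype.ext (k1y.trans k2y.symm)

end Cfsg.Agent.S1581
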