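import Cfsg.Statements.S1640
-- import your own Cfsg.Agent.* helpers here
import Cfsg.Agent.Lib.Helper14.LeechPairs48
import Cfsg.Agent.Lib.Helper14.LeechMinCount
import Cfsg.Agent.S1578

set_option autoImplicit false
open Cfsg

namespace Cfsg.Agent.S1640

open Cfsg.Agent.Lib.Helper14.Golay Cfsg.Agent.Lib.Helper14.Leech
  Cfsg.Agent.Lib.Helper14.LeechCount Cfsg.Agent.Lib.Helper14.LeechMinCount
  Cfsg.Agent.Lib.Helper14.LeechOrbit Cfsg.Agent.Lib.Helper14.LeechPairs
open Cfsg.Agent.Lib.Helper3.Golay (wordOf codeMask pc24 bitSet idx)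
open Cfsg.Agent.S1578 (u0 u0_mem u0_norm dot_u0 sum_PhiO val_wordOf card_PO_gen)

/-! ### the odd family -/

/-- the condition for the odd family, in terms of bit masks -/
def condO (m : ℕ) (j : GolayPt) : Prop :=
  if j = none then pc24 m = 12 + 16 * (m.testBit 23).toNat
  else pc24 m + 4 * (m.testBit 23).toNat = 20 + 4 * (m.testBit (idx j)).toNat

instance (m : ℕ) (j : GolayPt) : Decidable (condO m j) := by
  unfold condO; infer_instance

theorem condO_iff (m : ℕ) (j : GolayPt) :
    dotInt u0 (PhiO (wordOf m, j)) = -16 ↔ condO m j := by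
  rw [dot_u0, sum_PhiO, PhiO_apply, Cfsg.Agent.Lib.Helper3.Golay.support_wordOf,
    Cfsg.Agent.Lib.Helper3.Golay.card_bitSet', val_wordOf, val_wordOf]
  unfold condO
  have h23 : idx none = 23 := rfl
  rw [h23]
  by_cases hj : j = none
  · subst hj
    rw [if_pos rfl, if_pos rfl, h23]
    cases (Nat.testBit m 23) <;> simp <;> omega
  · rw [if_neg hj, if_neg (fun h => hj h.symm)]
    cases (Nat.testBit m 23) <;> cases (Nat.testBit m (idx j)) <;> simp <;> omega

set_option maxRecDepth 100000 in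
theorem countO_aux : (∑ j : GolayPt,
    sumBelow 4096 (fun c => if condO (codeMask c) j then 1 else 0)) = 5336 := by
  decide +kernel

theorem countO : (PO.filter (fun q => dotInt u0 (PhiO q) = -16)).card = 5336 := by
  rw [card_PO_gen, ← countO_aux]
  refine Finset.sum_congr rfl fun j _ => ?_
  congr 1
  funext c
  simp only [condO_iff]

/-! ### the octad family -/

theorem card_subsets_with {α : Type*} [DecidableEq α] (O : Finset α) (a : α) (ha : a ∈ O) (m : ℕ) :
    (O.powerset.filter (fun U => a ∈ U ∧ U.card = m + 1)).card = (O.card - 1).choose m := by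
  rw [← Finset.card_erase_of_mem ha, ← Finset.card_powersetCard]
  refine Finset.card_bij' (fun U _ => U.erase a) (fun A _ => insert a A) ?_ ?_ ?_ ?_
  · intro U hU
    rw [Finset.mem_filter, Finset.mem_powerset] at hU
    rw [Finset.mem_powersetCard]
    refine ⟨Finset.erase_subset_erase a hU.1, ?_⟩
    rw [Finset.card_erase_of_mem hU.2.1, hU.2.2]
    rfl
  · intro A hA
    rw [Finset.mem_powersetCard] at hA
    have haA : a ∉ A := fun h => (Finset.mem_erase.mp (hA.1 h)).1 rfl
    rw [Finset.mem_filter, Finset.mem_powerset]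
    refine ⟨?_, Finset.mem_insert_self _ _, ?_⟩
    · intro x hx
      rw [Finset.mem_insert] at hx
      rcases hx with rfl | hx
      · exact ha
      · exact Finset.mem_of_mem_erase (hA.1 hx)
    · rw [Finset.card_insert_of_notMem haA, hA.2]
  · intro U hU
    rw [Finset.mem_filter] at hU
    exact Finset.insert_erase hU.2.1
  · intro A hA
    rw [Finset.mem_powersetCard] at hA
    have haA : a ∉ A := fun h => (Finset.mem_erase.mp (hA.1 h)).1 rfl
    exact Finset.erase_insert haA

theorem cond2_iff (w : GolayPt → ZMod 2) (h8 : (support₂ w).card = 8) (U : Finset GolayPt)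
    (hU : U ⊆ support₂ w) :
    dotInt u0 (f2 ⟨w, U⟩) = -16 ↔
      ((none ∈ U ∧ U.card = 6) ∨ (none ∉ support₂ w ∧ U = support₂ w)) := by
  unfold f2
  rw [dot_u0, sum_Psi 2 _ _ hU, h8]
  have hc : U.card ≤ 8 := h8 ▸ Finset.card_le_card hU
  constructor
  · intro h
    rcases Psi_vals 2 (support₂ w) U none with ⟨_, hnU, hv⟩ | ⟨_, _, hv⟩ | ⟨hT, hv⟩
    · left
      refine ⟨hnU, ?_⟩
      rw [hv] at h
      omega
    · rw [hv] at h
      omega
    · right
      refine ⟨hT, Finset.eq_of_subset_of_card_le hU ?_⟩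
      rw [hv] at h
      omega
  · rintro (⟨hnU, h6⟩ | ⟨hT, rfl⟩)
    · rw [Psi_apply, if_pos (hU hnU), if_pos hnU, h6]
      norm_num
    · rw [Psi_apply, if_neg hT, h8]
      norm_num

set_option maxRecDepth 100000 in
theorem count2_aux : sumBelow 4096 (fun c => if pc24 (codeMask c) = 8 then
    (if (codeMask c).testBit 23 = true then 21 else 1) else 0) = 5819 := by
  decide +kernel

theorem count2 : (P2.filter (fun q => dotInt u0 (f2 q) = -16)).card = 5819 := by
  classical
  have h1 : (P2.filter (fun q => dotInt u0 (f2 q) = -16)).card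
      = ∑ w ∈ Oct8, if none ∈ support₂ w then 21 else 1 := by
    rw [Finset.card_filter]
    unfold P2
    rw [Finset.sum_sigma]
    refine Finset.sum_congr rfl fun w hw => ?_
    have h8 := ((mem_Oct8 w).mp hw).2
    have hfin : (∑ U ∈ (support₂ w).powerset.filter (fun U => Even U.card),
        (if dotInt u0 (f2 ⟨w, U⟩) = -16 then 1 else 0))
        = if none ∈ support₂ w then 21 else 1 := by
      rw [← Finset.card_filter]
      by_cases hT : none ∈ support₂ w
      · rw [if_pos hT]
        have hset : ((support₂ w).powerset.filter (fun U => Even U.card)).filter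
            (fun U => dotInt u0 (f2 ⟨w, U⟩) = -16)
            = (support₂ w).powerset.filter (fun U => none ∈ U ∧ U.card = 5 + 1) := by
          ext U
          simp only [Finset.mem_filter, Finset.mem_powerset]
          constructor
          · rintro ⟨⟨hU, _⟩, hd⟩
            rcases (cond2_iff w h8 U hU).mp hd with h | ⟨h, _⟩
            · exact ⟨hU, h⟩
            · exact absurd hT h
          · rintro ⟨hU, hn, h6⟩
            refine ⟨⟨hU, by rw [h6]; decide⟩, (cond2_iff w h8 U hU).mpr (Or.inl ⟨hn, h6⟩)⟩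
        rw [hset, card_subsets_with _ _ hT, h8]
        rfl
      · rw [if_neg hT]
        have hset : ((support₂ w).powerset.filter (fun U => Even U.card)).filter
            (fun U => dotInt u0 (f2 ⟨w, U⟩) = -16) = {support₂ w} := by
          ext U
          simp only [Finset.mem_filter, Finset.mem_powerset, Finset.mem_singleton]
          constructor
          · rintro ⟨⟨hU, _⟩, hd⟩
            rcases (cond2_iff w h8 U hU).mp hd with ⟨h, _⟩ | ⟨_, h⟩
            · exact absurd (hU h) hT
            · exact h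
          · rintro rfl
            exact ⟨⟨Finset.Subset.refl _, by rw [h8]; decide⟩,
              (cond2_iff w h8 _ (Finset.Subset.refl _)).mpr (Or.inr ⟨hT, rfl⟩)⟩
        rw [hset, Finset.card_singleton]
    convert hfin using 2
  rw [h1, sum_Oct8, ← count2_aux]
  congr 1
  funext c
  rw [Cfsg.Agent.Lib.Helper3.Golay.support_wordOf]
  congr 1
  simp only [Cfsg.Agent.Lib.Helper3.Golay.mem_bitSet]
  rfl

/-! ### the family `(±4, ±4, 0, …)` -/

set_option maxRecDepth 100000 in
theorem count4 : (P4.filter (fun q => dotInt u0 (Psi 4 q) = -16)).card = 23 := by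
  decide +kernel

theorem count0 :
    {w : GolayPt → ℤ | w ∈ leechLattice ∧ sqNorm w = 32 ∧ dotInt u0 w = -16}.ncard = 11178 := by
  rw [ncard_min_filter (fun x => dotInt u0 x = -16), countO, count2, count4]

/-- The stabiliser of a vector of customary norm 6 is transitive on the 11178 minimal vectors of customary inner product −2 with it. -/
theorem result (u : ↥Cfsg.leechLattice) (hu : Cfsg.sqNorm (u : Cfsg.GolayPt → ℤ) = 48) : {x : ↥Cfsg.leechLattice | Cfsg.sqNorm (x : Cfsg.GolayPt → ℤ) = 32 ∧ Cfsg.dotInt (u : Cfsg.GolayPt → ℤ) (x : Cfsg.GolayPt → ℤ) = -16}.ncard = 11178 ∧ ∀ x ∈ {x : ↥Cfsg.leechLattice | Cfsg.sqNorm (x : Cfsg.GolayPt → ℤ) = 32 ∧ Cfsg.dotInt (u : Cfsg.GolayPt → ℤ) (x : Cfsg.GolayPt → ℤ) = -16}, ∀ x' ∈ {x : ↥Cfsg.leechLattice | Cfsg.sqNorm (x : Cfsg.GolayPt → ℤ) = 32 ∧ Cfsg.dotInt (u : Cfsg.GolayPt → ℤ) (x : Cfsg.GolayPt → ℤ) = -16}, ∃ g : ↥Cfsg.Co0, g • u = u ∧ g • x = x' := by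
  constructor
  · obtain ⟨g, hg⟩ := co0_trans48 ⟨u0, u0_mem⟩ u u0_norm hu
    have h := ncard_dot_congr u ⟨u0, u0_mem⟩ g hg 32 (-16)
    rw [count0] at h
    rw [← h]
    have himg : {w : GolayPt → ℤ | w ∈ leechLattice ∧ sqNorm w = 32 ∧
        dotInt (u : GolayPt → ℤ) w = -16}
        = Subtype.val '' {x : ↥leechLattice | sqNorm (x : GolayPt → ℤ) = 32 ∧
            dotInt (u : GolayPt → ℤ) (x : GolayPt → ℤ) = -16} := by
      ext w
      simp only [Set.mem_ofPred_eq, Set.mem_image]
      constructor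
      · rintro ⟨hw, hn, hd⟩
        exact ⟨⟨w, hw⟩, ⟨hn, hd⟩, rfl⟩
      · rintro ⟨v, ⟨hn, hd⟩, rfl⟩
        exact ⟨v.2, hn, hd⟩
    rw [himg, Set.ncard_image_of_injective _ Subtype.val_injective]
  · rintro x ⟨hxn, hxd⟩ x' ⟨hxn', hxd'⟩
    obtain ⟨g1, h1x, h1u⟩ := pair48 u x hu hxn hxd
    obtain ⟨g2, h2x, h2u⟩ := pair48 u x' hu hxn' hxd'
    refine ⟨g2⁻¹ * g1, ?_, ?_⟩
    · rw [mul_smul, inv_smul_eq_iff]
      exact Subtype.ext (h1u.trans h2u.symm)
    · rw [mul_smul, inv_smul_eq_iff]
      exact Subtype.ext (h1x.trans h2x.symm)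

end Cfsg.Agent.S1640
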