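import Cfsg.Statements.S0405
-- import your own Cfsg.Agent.* helpers here
import Cfsg.Agent.S1584
import Cfsg.Agent.S1640
import Cfsg.Agent.Lib.Helper14.Rank3Simple
import Cfsg.Agent.Lib.Helper14.LeechCount48c
import Cfsg.Agent.Lib.Helper3.Golay.M22Simple

set_option autoImplicit false
open Cfsg

namespace Cfsg.Agent.S0405

open Cfsg.Agent.Lib.Helper14.Golay Cfsg.Agent.Lib.Helper14.Leech
  Cfsg.Agent.Lib.Helper14.LeechCount Cfsg.Agent.Lib.Helper14.LeechMinCount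
  Cfsg.Agent.Lib.Helper14.LeechOrbit Cfsg.Agent.Lib.Helper14.LeechPairs
  Cfsg.Agent.Lib.Helper14.LeechHS Cfsg.Agent.Lib.Helper14.LeechMono
  Cfsg.Agent.Lib.Helper14.Co0Center Cfsg.Agent.Lib.Helper14.Co0Order
  Cfsg.Agent.Lib.Helper14.LeechCross
open Cfsg.Agent.S1578 (u0 u0_mem u0_norm dot_u0 sum_PhiO)
open Cfsg.Agent.S1583 (ws ws_mem ws_norm dot_u0_ws dot_ws)
open Cfsg.Agent.S1584 (U0 WS V0 yO permEl)
open Cfsg.Agent.Lib.Helper3.Golay (G22 mem_G22 isSimpleGroup_G22 card_stab_two)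
open MulAction

/-! ### the order -/

theorem card_orbit48 (v : ↥leechLattice) (hv : sqNorm (v : GolayPt → ℤ) = 48) :
    Nat.card ↥(orbit ↥Co0 v) = 16773120 := by
  have horb : orbit ↥Co0 v = {v' : ↥leechLattice | sqNorm (v' : GolayPt → ℤ) = 48} := by
    ext v'
    constructor
    · rintro ⟨g, rfl⟩
      show sqNorm ((g • v : ↥leechLattice) : GolayPt → ℤ) = 48
      rw [smul_coe, g.2.2, hv]
    · intro hv'
      obtain ⟨g, hg⟩ := co0_trans48 v v' hv hv'
      exact ⟨g, hg⟩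
  rw [horb, Nat.card_coe_set_eq, ← Cfsg.Agent.Lib.Helper14.LeechCount.ncard48,
    ← Set.ncard_image_of_injective _ Subtype.val_injective]
  congr 1
  ext x
  simp only [Set.mem_image, Set.mem_ofPred_eq, Subtype.exists, exists_and_right, exists_eq_right]
  constructor
  · rintro ⟨hx, h⟩; exact ⟨hx, h⟩
  · rintro ⟨hx, h⟩; exact ⟨hx, h⟩

theorem card_stab48 (v : ↥leechLattice) (hv : sqNorm (v : GolayPt → ℤ) = 48) :
    16773120 * Nat.card ↥(stabilizer ↥Co0 v) = 8315553613086720000 := by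
  rw [← card_Co0, Subgroup.card_eq_card_quotient_mul_card_subgroup (stabilizer ↥Co0 v),
    ← Nat.card_congr (orbitEquivQuotientStabilizer ↥Co0 v), card_orbit48 v hv]


/-- the set of partners of `v` -/
def Wset (v : ↥leechLattice) : Set ↥leechLattice :=
  {w' | sqNorm (w' : GolayPt → ℤ) = 48 ∧ dotInt (v : GolayPt → ℤ) (w' : GolayPt → ℤ) = -32}

theorem ncard_Wset (v : ↥leechLattice) (hv : sqNorm (v : GolayPt → ℤ) = 48) :
    (Wset v).ncard = 11178 := by
  rw [← (Cfsg.Agent.S1640.result v hv).1]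
  refine Set.ncard_congr (fun w' _ => -(v + w')) ?_ ?_ ?_
  · rintro w' ⟨h1, h2⟩
    have hc : ((-(v + w') : ↥leechLattice) : GolayPt → ℤ)
        = -((v : GolayPt → ℤ) + (w' : GolayPt → ℤ)) := rfl
    constructor
    · rw [hc, Cfsg.Agent.Lib.Helper14.Leech.sqNorm_neg,
        Cfsg.Agent.Lib.Helper14.Leech.sqNorm_add, hv, h1, h2]
      norm_num
    · rw [hc, dotInt_neg_right, dotInt_add_right, dotInt_self, hv, h2]; norm_num
  · intro a b _ _ h
    have := neg_injective h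
    exact add_left_cancel this
  · rintro x ⟨h1, h2⟩
    refine ⟨-x - v, ⟨?_, ?_⟩, by abel⟩
    · have hc : ((-x - v : ↥leechLattice) : GolayPt → ℤ)
          = -((x : GolayPt → ℤ) + (v : GolayPt → ℤ)) := by
        show -(x : GolayPt → ℤ) - (v : GolayPt → ℤ) = _
        abel
      rw [hc, Cfsg.Agent.Lib.Helper14.Leech.sqNorm_neg,
        Cfsg.Agent.Lib.Helper14.Leech.sqNorm_add, hv, h1, dotInt_comm, h2]
      norm_num
    · have hc : ((-x - v : ↥leechLattice) : GolayPt → ℤ)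
          = -((x : GolayPt → ℤ) + (v : GolayPt → ℤ)) := by
        show -(x : GolayPt → ℤ) - (v : GolayPt → ℤ) = _
        abel
      rw [hc, dotInt_neg_right, dotInt_add_right, dotInt_self, hv, h2]; norm_num

theorem orbit_stab_eq (v w : ↥leechLattice) (hv : sqNorm (v : GolayPt → ℤ) = 48)
    (hw : sqNorm (w : GolayPt → ℤ) = 48)
    (hvw : dotInt (v : GolayPt → ℤ) (w : GolayPt → ℤ) = -32) :
    orbit ↥(stabilizer ↥Co0 v) w = Wset v := by
  ext w'
  constructor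
  · rintro ⟨g, rfl⟩
    have hg : g.1 • v = v := g.2
    refine ⟨?_, ?_⟩
    · show sqNorm ((g.1 • w : ↥leechLattice) : GolayPt → ℤ) = 48
      rw [smul_coe, g.1.2.2, hw]
    · show dotInt (v : GolayPt → ℤ) ((g.1 • w : ↥leechLattice) : GolayPt → ℤ) = -32
      have : (v : GolayPt → ℤ) = ((g.1 • v : ↥leechLattice) : GolayPt → ℤ) := by rw [hg]
      rw [this, smul_coe, smul_coe, dot_pres g.1.1 g.1.2, hvw]
  · rintro ⟨h1, h2⟩
    obtain ⟨g, hgv, hgw⟩ := pair_move v w v w' hv hw hvw hv h1 h2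
    exact ⟨⟨g, hgv⟩, hgw⟩

theorem card_joint (v w : ↥leechLattice) (hv : sqNorm (v : GolayPt → ℤ) = 48)
    (hw : sqNorm (w : GolayPt → ℤ) = 48)
    (hvw : dotInt (v : GolayPt → ℤ) (w : GolayPt → ℤ) = -32) :
    Nat.card ↥(stabilizer ↥Co0 v ⊓ stabilizer ↥Co0 w) = 44352000 := by
  have h1 := card_stab48 v hv
  have h2 := Cfsg.Agent.Lib.Helper3.Golay.card_eq_orbit_mul (stabilizer ↥Co0 v) w
  rw [orbit_stab_eq v w hv hw hvw, Nat.card_coe_set_eq, ncard_Wset v hv] at h2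
  rw [h2] at h1
  omega




/-! ### the standard group and its 100 points -/

/-- the standard copy of the group -/
noncomputable abbrev G0 : Subgroup ↥Co0 := stabilizer ↥Co0 U0 ⊓ stabilizer ↥Co0 WS

theorem G0_fix (g : ↥G0) : g.1 • U0 = U0 ∧ g.1 • WS = WS := ⟨g.2.1, g.2.2⟩

def Xstd : Set ↥leechLattice :=
  {x | sqNorm (x : GolayPt → ℤ) = 32 ∧ dotInt u0 (x : GolayPt → ℤ) = 24 ∧
    dotInt ws (x : GolayPt → ℤ) = -24}

theorem dot_u0_smul (g : ↥G0) (x : ↥leechLattice) :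
    dotInt u0 ((g.1 • x : ↥leechLattice) : GolayPt → ℤ) = dotInt u0 (x : GolayPt → ℤ) := by
  have h := dot_pres g.1.1 g.1.2 U0 x
  have hfix : g.1.1 U0 = U0 := (G0_fix g).1
  rw [hfix] at h
  exact h

theorem dot_ws_smul (g : ↥G0) (x : ↥leechLattice) :
    dotInt ws ((g.1 • x : ↥leechLattice) : GolayPt → ℤ) = dotInt ws (x : GolayPt → ℤ) := by
  have h := dot_pres g.1.1 g.1.2 WS x
  have hfix : g.1.1 WS = WS := (G0_fix g).2
  rw [hfix] at h
  exact h

/-- the 100 points as a `G0`-set -/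
def S100 : SubMulAction ↥G0 ↥leechLattice where
  carrier := Xstd
  smul_mem' := by
    rintro g x ⟨h1, h2, h3⟩
    refine ⟨?_, ?_, ?_⟩
    · show sqNorm ((g.1 • x : ↥leechLattice) : GolayPt → ℤ) = 32
      rw [smul_coe, g.1.2.2, h1]
    · show dotInt u0 ((g.1 • x : ↥leechLattice) : GolayPt → ℤ) = 24
      rw [dot_u0_smul, h2]
    · show dotInt ws ((g.1 • x : ↥leechLattice) : GolayPt → ℤ) = -24
      rw [dot_ws_smul, h3]

theorem V0_mem : V0 ∈ S100 := ⟨v0_norm, Cfsg.Agent.S1584.v0_facts.1, Cfsg.Agent.S1584.v0_facts.2⟩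

/-- the base point -/
noncomputable def x0 : ↥S100 := ⟨V0, V0_mem⟩

theorem smul_val (g : ↥G0) (y : ↥S100) : ((g • y : ↥S100) : ↥leechLattice) = g.1 • y.1 := rfl

theorem hstd100 :
    {x : ↥leechLattice | sqNorm (x : GolayPt → ℤ) = 32 ∧
      dotInt (U0 : GolayPt → ℤ) (x : GolayPt → ℤ) = 24 ∧
      dotInt (WS : GolayPt → ℤ) (x : GolayPt → ℤ) = -24}.ncard = 100 ∧
    ∀ x ∈ {x : ↥leechLattice | sqNorm (x : GolayPt → ℤ) = 32 ∧
      dotInt (U0 : GolayPt → ℤ) (x : GolayPt → ℤ) = 24 ∧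
      dotInt (WS : GolayPt → ℤ) (x : GolayPt → ℤ) = -24},
    ∀ x' ∈ {x : ↥leechLattice | sqNorm (x : GolayPt → ℤ) = 32 ∧
      dotInt (U0 : GolayPt → ℤ) (x : GolayPt → ℤ) = 24 ∧
      dotInt (WS : GolayPt → ℤ) (x : GolayPt → ℤ) = -24},
    ∃ g : ↥Co0, g • U0 = U0 ∧ g • WS = WS ∧ g • x = x' :=
  Cfsg.Agent.S1583.result U0 WS u0_norm ws_norm dot_u0_ws

theorem card_S100 : Nat.card ↥S100 = 100 := by
  have h := hstd100.1
  rw [← h]
  exact Nat.card_coe_set_eq _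

theorem trans_S100 (x y : ↥S100) : ∃ g : ↥G0, g • x = y := by
  obtain ⟨g, h1, h2, h3⟩ := hstd100.2 x.1 x.2 y.1 y.2
  exact ⟨⟨g, h1, h2⟩, Subtype.ext h3⟩




/-- the 100 points, in the form of the statements -/
def X0 : Set ↥leechLattice := {x : ↥leechLattice | sqNorm (x : GolayPt → ℤ) = 32 ∧
  dotInt (U0 : GolayPt → ℤ) (x : GolayPt → ℤ) = 24 ∧
  dotInt (WS : GolayPt → ℤ) (x : GolayPt → ℤ) = -24}

theorem V0_mem_X0 : V0 ∈ X0 := V0_mem

/-- the rank 3 statement for the standard configuration -/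
theorem hstd3a : {y : ↥leechLattice | y ∈ X0 ∧
    dotInt (V0 : GolayPt → ℤ) (y : GolayPt → ℤ) = 8}.ncard = 22 :=
  (Cfsg.Agent.S1584.result U0 WS V0 u0_norm ws_norm dot_u0_ws V0_mem_X0).1

theorem hstd3b : {y : ↥leechLattice | y ∈ X0 ∧ y ≠ V0 ∧
    dotInt (V0 : GolayPt → ℤ) (y : GolayPt → ℤ) ≠ 8}.ncard = 77 :=
  (Cfsg.Agent.S1584.result U0 WS V0 u0_norm ws_norm dot_u0_ws V0_mem_X0).2.1

theorem hstd3c : ∀ y ∈ X0, ∀ y' ∈ X0, y ≠ V0 → y' ≠ V0 →
    (dotInt (V0 : GolayPt → ℤ) (y : GolayPt → ℤ) = 8 ↔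
      dotInt (V0 : GolayPt → ℤ) (y' : GolayPt → ℤ) = 8) →
    ∃ g : ↥Co0, g • U0 = U0 ∧ g • WS = WS ∧ g • V0 = V0 ∧ g • y = y' :=
  (Cfsg.Agent.S1584.result U0 WS V0 u0_norm ws_norm dot_u0_ws V0_mem_X0).2.2

/-- the two suborbits -/
def A100 : Set ↥S100 := {y | dotInt v0 ((y : ↥leechLattice) : GolayPt → ℤ) = 8}
def B100 : Set ↥S100 := {y | y ≠ x0 ∧ dotInt v0 ((y : ↥leechLattice) : GolayPt → ℤ) ≠ 8}

theorem cover100 (y : ↥S100) : y = x0 ∨ y ∈ A100 ∨ y ∈ B100 := by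
  by_cases h1 : y = x0
  · exact Or.inl h1
  · by_cases h2 : dotInt v0 ((y : ↥leechLattice) : GolayPt → ℤ) = 8
    · exact Or.inr (Or.inl h2)
    · exact Or.inr (Or.inr ⟨h1, h2⟩)

theorem x0_notMem_A : x0 ∉ A100 := by
  intro h
  have h' : dotInt v0 v0 = 8 := h
  rw [Cfsg.Agent.S1584.dot_v0_v0] at h'
  norm_num at h'

theorem x0_notMem_B : x0 ∉ B100 := fun h => h.1 rfl

theorem ncard_A : A100.ncard = 22 := by
  rw [← hstd3a, ← Set.ncard_image_of_injective A100 Subtype.val_injective]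
  congr 1
  ext y
  simp only [Set.mem_image, Set.mem_ofPred_eq]
  constructor
  · rintro ⟨z, hz, rfl⟩
    exact ⟨z.2, hz⟩
  · rintro ⟨hy, hd⟩
    exact ⟨⟨y, hy⟩, hd, rfl⟩

theorem ncard_B : B100.ncard = 77 := by
  rw [← hstd3b, ← Set.ncard_image_of_injective B100 Subtype.val_injective]
  congr 1
  ext y
  simp only [Set.mem_image, Set.mem_ofPred_eq]
  constructor
  · rintro ⟨z, ⟨hz1, hz2⟩, rfl⟩
    exact ⟨z.2, fun h => hz1 (Subtype.ext h), hz2⟩
  · rintro ⟨hy, hne, hd⟩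
    exact ⟨⟨y, hy⟩, ⟨fun h => hne (congrArg Subtype.val h), hd⟩, rfl⟩

theorem trans_A (a : ↥S100) (ha : a ∈ A100) (a' : ↥S100) (ha' : a' ∈ A100) :
    ∃ g : ↥G0, g • x0 = x0 ∧ g • a = a' := by
  have hne : ∀ z : ↥S100, z ∈ A100 → (z : ↥leechLattice) ≠ V0 := by
    intro z hz h
    apply x0_notMem_A
    have : z = x0 := Subtype.ext h
    rwa [this] at hz
  obtain ⟨g, h1, h2, h3, h4⟩ := hstd3c a.1 a.2 a'.1 a'.2 (hne a ha) (hne a' ha')
    ⟨fun _ => ha', fun _ => ha⟩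
  exact ⟨⟨g, h1, h2⟩, Subtype.ext h3, Subtype.ext h4⟩

theorem trans_B (b : ↥S100) (hb : b ∈ B100) (b' : ↥S100) (hb' : b' ∈ B100) :
    ∃ g : ↥G0, g • x0 = x0 ∧ g • b = b' := by
  obtain ⟨g, h1, h2, h3, h4⟩ := hstd3c b.1 b.2 b'.1 b'.2
    (fun h => hb.1 (Subtype.ext h)) (fun h => hb'.1 (Subtype.ext h))
    ⟨fun h => absurd h hb.2, fun h => absurd h hb'.2⟩
  exact ⟨⟨g, h1, h2⟩, Subtype.ext h3, Subtype.ext h4⟩




/-! ### faithfulness -/

theorem dot_yO (j : GolayPt) (x : GolayPt → ℤ) : dotInt (yO j) x = (∑ i, x i) - 4 * x j := by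
  unfold dotInt yO
  have : ∀ i : GolayPt, (if i = j then (-3 : ℤ) else 1) * x i
      = x i - (if i = j then 4 * x i else 0) := by
    intro i; split_ifs <;> ring
  rw [Finset.sum_congr rfl (fun i _ => this i), Finset.sum_sub_distrib, Finset.sum_ite_eq']
  simp

theorem YO_mem (j : GolayPt) (h1 : j ≠ none) (h2 : j ≠ some 0) :
    (⟨yO j, Cfsg.Agent.S1584.yO_mem j⟩ : ↥leechLattice) ∈ S100 :=
  (Cfsg.Agent.S1584.yO_facts j h1 h2).1

theorem faithful100 (g : ↥G0) (hg : ∀ y : ↥S100, g • y = y) : g = 1 := by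
  apply Subtype.ext
  apply Subtype.ext
  apply Equiv.ext
  intro z
  show g.1.1 z = z
  -- inner products with the fixed vectors
  have key : ∀ (f : ↥leechLattice), g.1.1 f = f →
      dotInt (f : GolayPt → ℤ) ((g.1.1 z : ↥leechLattice) : GolayPt → ℤ)
        = dotInt (f : GolayPt → ℤ) (z : GolayPt → ℤ) := by
    intro f hf
    have h := dot_pres g.1.1 g.1.2 f z
    rw [hf] at h
    exact h
  have e1 := key U0 (G0_fix g).1
  have e2 := key WS (G0_fix g).2
  have e3 := key V0 (congrArg Subtype.val (hg x0))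
  have e4 : ∀ j : GolayPt, j ≠ none → j ≠ some 0 →
      dotInt (yO j) ((g.1.1 z : ↥leechLattice) : GolayPt → ℤ)
        = dotInt (yO j) (z : GolayPt → ℤ) := by
    intro j h1 h2
    exact key ⟨yO j, Cfsg.Agent.S1584.yO_mem j⟩ (congrArg Subtype.val (hg ⟨_, YO_mem j h1 h2⟩))
  change dotInt u0 _ = dotInt u0 _ at e1
  change dotInt ws _ = dotInt ws _ at e2
  change dotInt v0 _ = dotInt v0 _ at e3
  rw [dot_u0, dot_u0] at e1
  rw [dot_ws, dot_ws] at e2
  rw [dot_v0, dot_v0] at e3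
  apply Subtype.ext
  funext j
  by_cases h1 : j = none
  · subst h1; omega
  · by_cases h2 : j = some 0
    · subst h2; omega
    · have := e4 j h1 h2
      rw [dot_yO, dot_yO] at this
      omega

/-! ### the point stabiliser -/

theorem permEl_mul (π π' : Equiv.Perm GolayPt) (h : π ∈ M24) (h' : π' ∈ M24)
    (h'' : π * π' ∈ M24) : permEl (π * π') h'' = permEl π h * permEl π' h' := by
  apply Subtype.ext
  apply Equiv.ext
  intro x
  apply Subtype.ext
  funext i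
  show ((permEl (π * π') h'' • x : ↥leechLattice) : GolayPt → ℤ) i
    = ((permEl π h • (permEl π' h' • x) : ↥leechLattice) : GolayPt → ℤ) i
  rw [Cfsg.Agent.S1584.permEl_apply, Cfsg.Agent.S1584.permEl_apply,
    Cfsg.Agent.S1584.permEl_apply]
  rfl

theorem permEl_inj (π π' : Equiv.Perm GolayPt) (h : π ∈ M24) (h' : π' ∈ M24)
    (he : permEl π h = permEl π' h') : π = π' := by
  apply Equiv.ext
  intro j
  have h1 : ((permEl π h • E j : ↥leechLattice) : GolayPt → ℤ) (π j)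
      = ((permEl π' h' • E j : ↥leechLattice) : GolayPt → ℤ) (π j) := by rw [he]
  rw [Cfsg.Agent.S1584.permEl_apply, Cfsg.Agent.S1584.permEl_apply, E_coe,
    Equiv.symm_apply_apply, Pi.single_eq_same] at h1
  by_contra hne
  have : π'.symm (π j) ≠ j := by
    intro h2
    apply hne
    have h3 := congrArg π' h2
    rw [Equiv.apply_symm_apply] at h3
    exact h3
  rw [Pi.single_eq_of_ne this] at h1
  norm_num at h1

/-- the map from `M22` to the point stabiliser -/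
noncomputable def phi (π : ↥(G22 none (some 0))) : ↥(stabilizer ↥G0 x0) :=
  ⟨⟨permEl π.1 (mem_G22.mp π.2).1,
    ⟨Cfsg.Agent.S1584.permEl_eq _ _ _ _ (Cfsg.Agent.S1584.u0_perm π.1 (mem_G22.mp π.2).2.1),
     Cfsg.Agent.S1584.permEl_eq _ _ _ _ (Cfsg.Agent.S1584.ws_perm π.1 (mem_G22.mp π.2).2.2)⟩⟩,
   Subtype.ext (Cfsg.Agent.S1584.permEl_eq _ _ _ _
     (Cfsg.Agent.S1584.v0_perm π.1 (mem_G22.mp π.2).2.1 (mem_G22.mp π.2).2.2))⟩

theorem phi_mul (π π' : ↥(G22 none (some 0))) : phi (π * π') = phi π * phi π' := by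
  apply Subtype.ext
  apply Subtype.ext
  exact permEl_mul π.1 π'.1 _ _ _

theorem phi_injective : Function.Injective phi := by
  intro π π' h
  apply Subtype.ext
  have h1 := congrArg (fun q : ↥(stabilizer ↥G0 x0) => (q.1.1 : ↥Co0)) h
  exact permEl_inj _ _ _ _ h1

theorem card_G0 : Nat.card ↥G0 = 44352000 := card_joint U0 WS u0_norm ws_norm dot_u0_ws

instance : Finite ↥G0 := Nat.finite_of_card_ne_zero (by rw [card_G0]; norm_num)

theorem card_stab_x0 : Nat.card ↥(stabilizer ↥G0 x0) = 443520 := by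
  have h1 : orbit ↥G0 x0 = Set.univ := by
    ext y
    simp only [Set.mem_univ, iff_true]
    obtain ⟨g, hg⟩ := trans_S100 x0 y
    exact ⟨g, hg⟩
  have h2 : Nat.card (orbit ↥G0 x0) = 100 := by
    rw [h1, Nat.card_congr (Equiv.Set.univ _), card_S100]
  have h3 := Subgroup.card_eq_card_quotient_mul_card_subgroup (stabilizer ↥G0 x0)
  rw [← Nat.card_congr (orbitEquivQuotientStabilizer ↥G0 x0), h2, card_G0] at h3
  omega

theorem phi_bijective : Function.Bijective phi := by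
  rw [Nat.bijective_iff_injective_and_card]
  refine ⟨phi_injective, ?_⟩
  rw [card_stab_x0]
  exact card_stab_two (by decide)

theorem simple_stab_x0 : IsSimpleGroup ↥(stabilizer ↥G0 x0) := by
  have := isSimpleGroup_G22 (show (none : GolayPt) ≠ some 0 by decide)
  exact (MulEquiv.ofBijective (MonoidHom.mk' phi phi_mul) phi_bijective).symm.isSimpleGroup

theorem simple_G0 : IsSimpleGroup ↥G0 := by
  have : Finite ↥S100 := Nat.finite_of_card_ne_zero (by rw [card_S100]; norm_num)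
  exact Cfsg.Agent.Lib.Helper14.Rank3Simple.simple_of_rank3 faithful100 trans_S100 x0 A100 B100
    card_S100 cover100 x0_notMem_A x0_notMem_B ncard_A ncard_B trans_A trans_B simple_stab_x0




/-- conjugation between joint stabilisers -/
def conjEquiv {Γ : Type*} [Group Γ] {α β : Type*} [MulAction Γ α] [MulAction Γ β] (k : Γ)
    (a a' : α) (b b' : β) (ha : k • a = a') (hb : k • b = b') :
    ↥(stabilizer Γ a ⊓ stabilizer Γ b) ≃* ↥(stabilizer Γ a' ⊓ stabilizer Γ b') where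
  toFun g := ⟨k * g.1 * k⁻¹, by
    have h1 : g.1 • a = a := g.2.1
    have h2 : g.1 • b = b := g.2.2
    constructor
    · show (k * g.1 * k⁻¹) • a' = a'
      rw [← ha, mul_smul, mul_smul, inv_smul_smul, h1]
    · show (k * g.1 * k⁻¹) • b' = b'
      rw [← hb, mul_smul, mul_smul, inv_smul_smul, h2]⟩
  invFun g := ⟨k⁻¹ * g.1 * k, by
    have h1 : g.1 • a' = a' := g.2.1
    have h2 : g.1 • b' = b' := g.2.2
    constructor
    · show (k⁻¹ * g.1 * k) • a = a
      rw [mul_smul, mul_smul, ha, h1, ← ha, inv_smul_smul]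
    · show (k⁻¹ * g.1 * k) • b = b
      rw [mul_smul, mul_smul, hb, h2, ← hb, inv_smul_smul]⟩
  left_inv g := Subtype.ext (by simp [mul_assoc])
  right_inv g := Subtype.ext (by simp [mul_assoc])
  map_mul' g h := Subtype.ext (by simp [mul_assoc])

/-- Joint stabiliser of two vectors of sum of squares 48 with coordinate dot product −32 is simple of order 44352000. -/
theorem result (v w : Cfsg.leechLattice) (hv : Cfsg.sqNorm (v : Cfsg.GolayPt → ℤ) = 48) (hw : Cfsg.sqNorm (w : Cfsg.GolayPt → ℤ) = 48) (hvw : Cfsg.dotInt (v : Cfsg.GolayPt → ℤ) (w : Cfsg.GolayPt → ℤ) = -32) : Cfsg.IsHS ↥(MulAction.stabilizer Cfsg.Co0 v ⊓ MulAction.stabilizer Cfsg.Co0 w) := by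
  obtain ⟨k, hkv, hkw⟩ := pair_move v w U0 WS hv hw hvw u0_norm ws_norm dot_u0_ws
  have := simple_G0
  exact ⟨(conjEquiv k v U0 w WS hkv hkw).isSimpleGroup, card_joint v w hv hw hvw⟩

end Cfsg.Agent.S0405
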