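import Cfsg.Statements.S1634
-- import your own Cfsg.Agent.* helpers here
import Cfsg.Agent.Lib.Helper14.LeechMcL3

set_option autoImplicit false
open Cfsg

namespace Cfsg.Agent.S1634

open Cfsg.Agent.Lib.Helper14.Golay Cfsg.Agent.Lib.Helper14.Leech
  Cfsg.Agent.Lib.Helper14.LeechCount Cfsg.Agent.Lib.Helper14.LeechMinCount
  Cfsg.Agent.Lib.Helper14.LeechOrbit Cfsg.Agent.Lib.Helper14.LeechPairs
  Cfsg.Agent.Lib.Helper14.LeechHS Cfsg.Agent.Lib.Helper14.LeechMono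
  Cfsg.Agent.Lib.Helper14.Co0Center Cfsg.Agent.Lib.Helper14.Co0Order
  Cfsg.Agent.Lib.Helper14.LeechCross Cfsg.Agent.Lib.Helper14.LeechMcL
open Cfsg.Agent.S1578 (u0 u0_mem u0_norm dot_u0)
open Cfsg.Agent.S1584 (U0 V0)
open MulAction

theorem smul_add' (g : ↥Co0) (a b : ↥leechLattice) : g • (a + b) = g • a + g • b := g.2.1 a b

theorem coe_add' (a b : ↥leechLattice) :
    ((a + b : ↥leechLattice) : GolayPt → ℤ) = (a : GolayPt → ℤ) + (b : GolayPt → ℤ) := rfl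

/-- the sum of the two vectors has norm 48 and inner product 24 with the first -/
theorem sum_facts (v w : ↥leechLattice) (hv : sqNorm (v : GolayPt → ℤ) = 32)
    (hw : sqNorm (w : GolayPt → ℤ) = 32)
    (hvw : dotInt (v : GolayPt → ℤ) (w : GolayPt → ℤ) = -8) :
    sqNorm ((v + w : ↥leechLattice) : GolayPt → ℤ) = 48 ∧
      dotInt ((v + w : ↥leechLattice) : GolayPt → ℤ) (v : GolayPt → ℤ) = 24 := by
  constructor
  · rw [coe_add', Cfsg.Agent.Lib.Helper14.Leech.sqNorm_add, hv, hw, hvw]; norm_num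
  · rw [coe_add', dotInt_add_left, dotInt_self, hv, dotInt_comm, hvw]; norm_num

/-- membership in the configuration, transported to the standard one -/
theorem mem_iff_std (v w : ↥leechLattice) (g : ↥Co0) (hgv : g • v = V0)
    (hgu : g • (v + w) = U0) (x : ↥leechLattice) :
    (sqNorm (x : GolayPt → ℤ) = 32 ∧ dotInt (v : GolayPt → ℤ) (x : GolayPt → ℤ) = 0 ∧
      dotInt (w : GolayPt → ℤ) (x : GolayPt → ℤ) = 16) ↔
    (sqNorm ((g • x : ↥leechLattice) : GolayPt → ℤ) = 32 ∧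
      pX ((g • x : ↥leechLattice) : GolayPt → ℤ)) := by
  have e1 : dotInt v0 ((g • x : ↥leechLattice) : GolayPt → ℤ)
      = dotInt (v : GolayPt → ℤ) (x : GolayPt → ℤ) := by
    have : v0 = ((g • v : ↥leechLattice) : GolayPt → ℤ) := by rw [hgv]; rfl
    rw [this, dot_smul]
  have e2 : dotInt u0 ((g • x : ↥leechLattice) : GolayPt → ℤ)
      = dotInt (v : GolayPt → ℤ) (x : GolayPt → ℤ) + dotInt (w : GolayPt → ℤ) (x : GolayPt → ℤ) := by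
    have : u0 = ((g • (v + w) : ↥leechLattice) : GolayPt → ℤ) := by rw [hgu]; rfl
    rw [this, dot_smul, coe_add', dotInt_add_left]
  have e3 : sqNorm ((g • x : ↥leechLattice) : GolayPt → ℤ) = sqNorm (x : GolayPt → ℤ) := by
    rw [smul_coe, g.2.2]
  unfold pX
  rw [e1, e2, e3]
  constructor
  · rintro ⟨h1, h2, h3⟩
    exact ⟨h1, h2, by omega⟩
  · rintro ⟨h1, h2, h3⟩
    exact ⟨h1, h2, by omega⟩

/-- the standard form of the pair -/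
theorem exists_std (v w : ↥leechLattice) (hv : sqNorm (v : GolayPt → ℤ) = 32)
    (hw : sqNorm (w : GolayPt → ℤ) = 32)
    (hvw : dotInt (v : GolayPt → ℤ) (w : GolayPt → ℤ) = -8) :
    ∃ g : ↥Co0, g • v = V0 ∧ g • (v + w) = U0 := by
  obtain ⟨h1, h2⟩ := sum_facts v w hv hw hvw
  obtain ⟨g, hgu, hgv⟩ := pair24 (v + w) v h1 hv h2
  exact ⟨g, hgv, hgu⟩

/-- the standard form of the pair and a point -/
theorem exists_std_pt (v w x : ↥leechLattice) (hv : sqNorm (v : GolayPt → ℤ) = 32)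
    (hw : sqNorm (w : GolayPt → ℤ) = 32)
    (hvw : dotInt (v : GolayPt → ℤ) (w : GolayPt → ℤ) = -8)
    (hx : sqNorm (x : GolayPt → ℤ) = 32 ∧ dotInt (v : GolayPt → ℤ) (x : GolayPt → ℤ) = 0 ∧
      dotInt (w : GolayPt → ℤ) (x : GolayPt → ℤ) = 16) :
    ∃ k : ↥Co0, k • v = V0 ∧ k • (v + w) = U0 ∧ k • x = T0 := by
  obtain ⟨g, hgv, hgu⟩ := exists_std v w hv hw hvw
  obtain ⟨h1, h2⟩ := (mem_iff_std v w g hgv hgu x).mp hx
  obtain ⟨h, hhu, hhv, hht⟩ := renorm (g • x) h1 h2.1 h2.2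
  refine ⟨h * g, ?_, ?_, ?_⟩
  · rw [mul_smul, hgv, hhv]
  · rw [mul_smul, hgu, hhu]
  · rw [mul_smul]
    exact Subtype.ext hht

/-- an element fixing `v` and `v + w` fixes `w` -/
theorem fix_w (a : ↥Co0) (v w : ↥leechLattice) (h1 : a • v = v) (h2 : a • (v + w) = v + w) :
    a • w = w := by
  rw [smul_add', h1] at h2
  exact add_left_cancel h2

/-- transitivity on the classes, for the original pair -/
theorem trans_class (v w x : ↥leechLattice) (k : ↥Co0) (hkv : k • v = V0)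
    (hku : k • (v + w) = U0) (hkx : k • x = T0) (c : ℤ) (y z : ↥leechLattice)
    (hy : (sqNorm (y : GolayPt → ℤ) = 32 ∧ dotInt (v : GolayPt → ℤ) (y : GolayPt → ℤ) = 0 ∧
      dotInt (w : GolayPt → ℤ) (y : GolayPt → ℤ) = 16) ∧
      dotInt (x : GolayPt → ℤ) (y : GolayPt → ℤ) = c)
    (hz : (sqNorm (z : GolayPt → ℤ) = 32 ∧ dotInt (v : GolayPt → ℤ) (z : GolayPt → ℤ) = 0 ∧
      dotInt (w : GolayPt → ℤ) (z : GolayPt → ℤ) = 16) ∧
      dotInt (x : GolayPt → ℤ) (z : GolayPt → ℤ) = c) :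
    ∃ a : ↥Co0, a • v = v ∧ a • w = w ∧ a • x = x ∧ a • y = z := by
  have et : ∀ q : ↥leechLattice, dotInt t0 ((k • q : ↥leechLattice) : GolayPt → ℤ)
      = dotInt (x : GolayPt → ℤ) (q : GolayPt → ℤ) := by
    intro q
    have : t0 = ((k • x : ↥leechLattice) : GolayPt → ℤ) := by rw [hkx]; rfl
    rw [this, dot_smul]
  obtain ⟨y1, y2⟩ := (mem_iff_std v w k hkv hku y).mp hy.1
  obtain ⟨z1, z2⟩ := (mem_iff_std v w k hkv hku z).mp hz.1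
  obtain ⟨b, hbu, hbv, hbt, hby⟩ := transX (k • y) (k • z) c
    ⟨y1, y2, by rw [et, hy.2]⟩ ⟨z1, z2, by rw [et, hz.2]⟩
  have hav : (k⁻¹ * b * k) • v = v := by
    rw [mul_smul, mul_smul, hkv, hbv, inv_smul_eq_iff, hkv]
  have hau : (k⁻¹ * b * k) • (v + w) = v + w := by
    rw [mul_smul, mul_smul, hku, hbu, inv_smul_eq_iff, hku]
  refine ⟨k⁻¹ * b * k, hav, fix_w _ v w hav hau, ?_, ?_⟩
  · rw [mul_smul, mul_smul, hkx, hbt, inv_smul_eq_iff, hkx]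
  · rw [mul_smul, mul_smul, hby, inv_smul_smul]

/-- the orbits of the stabiliser of a point are the classes -/
theorem orbit_eq_class (v w x : ↥leechLattice) (k : ↥Co0) (hkv : k • v = V0)
    (hku : k • (v + w) = U0) (hkx : k • x = T0) (c : ℤ) (y : ↥leechLattice)
    (hy : (sqNorm (y : GolayPt → ℤ) = 32 ∧ dotInt (v : GolayPt → ℤ) (y : GolayPt → ℤ) = 0 ∧
      dotInt (w : GolayPt → ℤ) (y : GolayPt → ℤ) = 16) ∧
      dotInt (x : GolayPt → ℤ) (y : GolayPt → ℤ) = c) :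
    orbit ↥(stabilizer ↥Co0 v ⊓ stabilizer ↥Co0 w ⊓ stabilizer ↥Co0 x) y
      = {z : ↥leechLattice | (sqNorm (z : GolayPt → ℤ) = 32 ∧
          dotInt (v : GolayPt → ℤ) (z : GolayPt → ℤ) = 0 ∧
          dotInt (w : GolayPt → ℤ) (z : GolayPt → ℤ) = 16) ∧
          dotInt (x : GolayPt → ℤ) (z : GolayPt → ℤ) = c} := by
  ext z
  constructor
  · rintro ⟨a, rfl⟩
    have h1 : a.1 • v = v := a.2.1.1
    have h2 : a.1 • w = w := a.2.1.2
    have h3 : a.1 • x = x := a.2.2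
    have key : ∀ f : ↥leechLattice, a.1 • f = f →
        dotInt (f : GolayPt → ℤ) ((a.1 • y : ↥leechLattice) : GolayPt → ℤ)
          = dotInt (f : GolayPt → ℤ) (y : GolayPt → ℤ) := by
      intro f hf
      have h := dot_smul a.1 f y
      rwa [hf] at h
    change (sqNorm ((a.1 • y : ↥leechLattice) : GolayPt → ℤ) = 32 ∧
      dotInt (v : GolayPt → ℤ) ((a.1 • y : ↥leechLattice) : GolayPt → ℤ) = 0 ∧
      dotInt (w : GolayPt → ℤ) ((a.1 • y : ↥leechLattice) : GolayPt → ℤ) = 16) ∧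
      dotInt (x : GolayPt → ℤ) ((a.1 • y : ↥leechLattice) : GolayPt → ℤ) = c
    rw [key v h1, key w h2, key x h3, smul_coe, a.1.2.2]
    exact hy
  · intro hz
    obtain ⟨a, h1, h2, h3, h4⟩ := trans_class v w x k hkv hku hkx c y z hy hz
    exact ⟨⟨a, ⟨h1, h2⟩, h3⟩, h4⟩

/-- the sizes of the classes -/
theorem ncard_class (v w x : ↥leechLattice) (k : ↥Co0) (hkv : k • v = V0)
    (hku : k • (v + w) = U0) (hkx : k • x = T0) (c : ℤ) :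
    {z : ↥leechLattice | (sqNorm (z : GolayPt → ℤ) = 32 ∧
        dotInt (v : GolayPt → ℤ) (z : GolayPt → ℤ) = 0 ∧
        dotInt (w : GolayPt → ℤ) (z : GolayPt → ℤ) = 16) ∧
        dotInt (x : GolayPt → ℤ) (z : GolayPt → ℤ) = c}.ncard
      = {z : ↥leechLattice | sqNorm (z : GolayPt → ℤ) = 32 ∧
          (pX (z : GolayPt → ℤ) ∧ dotInt t0 (z : GolayPt → ℤ) = c)}.ncard := by
  refine Cfsg.Agent.S1584.ncard_congr_smul k _ _ (fun q => ?_)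
  have et : dotInt t0 ((k • q : ↥leechLattice) : GolayPt → ℤ)
      = dotInt (x : GolayPt → ℤ) (q : GolayPt → ℤ) := by
    have : t0 = ((k • x : ↥leechLattice) : GolayPt → ℤ) := by rw [hkx]; rfl
    rw [this, dot_smul]
  simp only [Set.mem_ofPred_eq]
  rw [mem_iff_std v w k hkv hku q, et]
  tauto

/-- a class of the given nonzero size contains a point, whose orbit is the class -/
theorem exists_orbit (v w x : ↥leechLattice) (k : ↥Co0) (hkv : k • v = V0)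
    (hku : k • (v + w) = U0) (hkx : k • x = T0) (c : ℤ) (n : ℕ) (hn : n ≠ 0)
    (hc : {z : ↥leechLattice | sqNorm (z : GolayPt → ℤ) = 32 ∧
          (pX (z : GolayPt → ℤ) ∧ dotInt t0 (z : GolayPt → ℤ) = c)}.ncard = n) :
    ∃ y ∈ {x : ↥leechLattice | sqNorm (x : GolayPt → ℤ) = 32 ∧
        dotInt (v : GolayPt → ℤ) (x : GolayPt → ℤ) = 0 ∧
        dotInt (w : GolayPt → ℤ) (x : GolayPt → ℤ) = 16},
      (orbit ↥(stabilizer ↥Co0 v ⊓ stabilizer ↥Co0 w ⊓ stabilizer ↥Co0 x) y).ncard = n := by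
  have h1 := ncard_class v w x k hkv hku hkx c
  rw [hc] at h1
  obtain ⟨y, hy⟩ := Set.nonempty_of_ncard_ne_zero (by rw [h1]; exact hn)
  refine ⟨y, hy.1, ?_⟩
  rw [orbit_eq_class v w x k hkv hku hkx c y hy, h1]

/-- The McLaughlin group acts on 2025 points (minimal vectors orthogonal to v with customary inner product 2 with w) transitively with rank 4 and subdegrees 1, 330, 462, 1232. -/
theorem result (v w : ↥Cfsg.leechLattice) (hv : Cfsg.sqNorm (v : Cfsg.GolayPt → ℤ) = 32) (hw : Cfsg.sqNorm (w : Cfsg.GolayPt → ℤ) = 32) (hvw : Cfsg.dotInt (v : Cfsg.GolayPt → ℤ) (w : Cfsg.GolayPt → ℤ) = -8) : {x : ↥Cfsg.leechLattice | Cfsg.sqNorm (x : Cfsg.GolayPt → ℤ) = 32 ∧ Cfsg.dotInt (v : Cfsg.GolayPt → ℤ) (x : Cfsg.GolayPt → ℤ) = 0 ∧ Cfsg.dotInt (w : Cfsg.GolayPt → ℤ) (x : Cfsg.GolayPt → ℤ) = 16}.ncard = 2025 ∧ (∀ x ∈ {x : ↥Cfsg.leechLattice | Cfsg.sqNorm (x : Cfsg.GolayPt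 → ℤ) = 32 ∧ Cfsg.dotInt (v : Cfsg.GolayPt → ℤ) (x : Cfsg.GolayPt → ℤ) = 0 ∧ Cfsg.dotInt (w : Cfsg.GolayPt → ℤ) (x : Cfsg.GolayPt → ℤ) = 16}, ∀ x' ∈ {x : ↥Cfsg.leechLattice | Cfsg.sqNorm (x : Cfsg.GolayPt → ℤ) = 32 ∧ Cfsg.dotInt (v : Cfsg.GolayPt → ℤ) (x : Cfsg.GolayPt → ℤ) = 0 ∧ Cfsg.dotInt (w : Cfsg.GolayPt → ℤ) (x : Cfsg.GolayPt → ℤ) = 16}, ∃ g : ↥Cfsg.Co0, g • v = v ∧ g • w = w ∧ g • x = x') ∧ ∀ x ∈ {x : ↥Cfsg.leechLattice | Cfsg.sqNorm (x : Cfsg.GolayPt → ℤ) = 32 ∧ Cfsg.dotInt (v : Cfsg.GolayPt → ℤ) (x : Cfsg.GolayPt → ℤ) = 0 ∧ Cfsg.dotInt (w : Cfsg.GolayPt → ℤ) (x : Cfsg.GolayPt → ℤ) = 16}, ∃ y₁ ∈ {x : ↥Cfsg.leechLattice | Cfsg.sqNorm (x : Cfsg.GolayPt → ℤ) = 32 ∧ Cfsg.dotInt (v : Cfsg.GolayPt → ℤ) (x : Cfsg.GolayPt → ℤ) = 0 ∧ Cfsg.dotInt (w : Cfsg.GolayPt → ℤ) (x : Cfsg.GolayPt → ℤ) = 16}, ∃ y₂ ∈ {x : ↥Cfsg.leechLattice | Cfsg.sqNorm (x : Cfsg.GolayPt → ℤ)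 = 32 ∧ Cfsg.dotInt (v : Cfsg.GolayPt → ℤ) (x : Cfsg.GolayPt → ℤ) = 0 ∧ Cfsg.dotInt (w : Cfsg.GolayPt → ℤ) (x : Cfsg.GolayPt → ℤ) = 16}, ∃ y₃ ∈ {x : ↥Cfsg.leechLattice | Cfsg.sqNorm (x : Cfsg.GolayPt → ℤ) = 32 ∧ Cfsg.dotInt (v : Cfsg.GolayPt → ℤ) (x : Cfsg.GolayPt → ℤ) = 0 ∧ Cfsg.dotInt (w : Cfsg.GolayPt → ℤ) (x : Cfsg.GolayPt → ℤ) = 16}, (MulAction.orbit ↥(MulAction.stabilizer ↥Cfsg.Co0 v ⊓ MulAction.stabilizer ↥Cfsg.Co0 w ⊓ MulAction.stabilizer ↥Cfsg.Co0 x) y₁).ncard = 330 ∧ (MulAction.orbit ↥(MulAction.stabilizer ↥Cfsg.Co0 v ⊓ MulAction.stabilizer ↥Cfsg.Co0 w ⊓ MulAction.stabilizer ↥Cfsg.Co0 x) y₂).ncard = 462 ∧ (MulAction.orbit ↥(MulAction.stabilizer ↥Cfsg.Co0 v ⊓ MulAction.stabilizer ↥Cfsg.Co0 w ⊓ MulAction.stabilizer ↥Cfsg.Co0 x) y₃).ncard = 1232 := by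
  constructor
  · obtain ⟨g, hgv, hgu⟩ := exists_std v w hv hw hvw
    refine (Cfsg.Agent.S1584.ncard_congr_smul g _ _ (fun y => ?_)).trans countX
    exact mem_iff_std v w g hgv hgu y
  constructor
  · intro x hx x' hx'
    obtain ⟨k, hkv, hku, hkx⟩ := exists_std_pt v w x hv hw hvw hx
    obtain ⟨k', hkv', hku', hkx'⟩ := exists_std_pt v w x' hv hw hvw hx'
    have hav : (k'⁻¹ * k) • v = v := by rw [mul_smul, hkv, inv_smul_eq_iff, hkv']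
    have hau : (k'⁻¹ * k) • (v + w) = v + w := by rw [mul_smul, hku, inv_smul_eq_iff, hku']
    refine ⟨k'⁻¹ * k, hav, fix_w _ v w hav hau, ?_⟩
    rw [mul_smul, hkx, inv_smul_eq_iff, hkx']
  · intro x hx
    obtain ⟨k, hkv, hku, hkx⟩ := exists_std_pt v w x hv hw hvw hx
    obtain ⟨y1, hy1, h1⟩ := exists_orbit v w x k hkv hku hkx 0 330 (by norm_num) countA
    obtain ⟨y2, hy2, h2⟩ := exists_orbit v w x k hkv hku hkx 16 462 (by norm_num) countB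
    obtain ⟨y3, hy3, h3⟩ := exists_orbit v w x k hkv hku hkx 8 1232 (by norm_num) countC
    exact ⟨y1, hy1, y2, hy2, y3, hy3, h1, h2, h3⟩

end Cfsg.Agent.S1634
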