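import Cfsg.Statements.S0404
-- import your own Cfsg.Agent.* helpers here
import Cfsg.Agent.S1634
import Cfsg.Agent.S0405
import Cfsg.Agent.Lib.Helper14.PrimSimple
import Cfsg.Agent.Lib.Helper14.CharSub

set_option autoImplicit false
open Cfsg

namespace Cfsg.Agent.S0404

open Cfsg.Agent.Lib.Helper14.Golay Cfsg.Agent.Lib.Helper14.Leech
  Cfsg.Agent.Lib.Helper14.LeechCount Cfsg.Agent.Lib.Helper14.LeechMinCount
  Cfsg.Agent.Lib.Helper14.LeechOrbit Cfsg.Agent.Lib.Helper14.LeechPairs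
  Cfsg.Agent.Lib.Helper14.LeechHS Cfsg.Agent.Lib.Helper14.LeechMono
  Cfsg.Agent.Lib.Helper14.Co0Center Cfsg.Agent.Lib.Helper14.Co0Order
  Cfsg.Agent.Lib.Helper14.LeechCross Cfsg.Agent.Lib.Helper14.LeechMcL
open Cfsg.Agent.S1578 (u0 u0_mem u0_norm dot_u0)
open Cfsg.Agent.S1584 (U0 V0 permEl)
open Cfsg.Agent.S1634 (smul_add' coe_add' fix_w exists_std)
open Cfsg.Agent.Lib.Helper3.Golay (G22 mem_G22 isSimpleGroup_G22 card_stab_two)
open MulAction

/-! ### the order -/

theorem orbit_stab_uv (u v : ↥leechLattice) (hu : sqNorm (u : GolayPt → ℤ) = 48)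
    (hv : sqNorm (v : GolayPt → ℤ) = 32)
    (huv : dotInt (u : GolayPt → ℤ) (v : GolayPt → ℤ) = 24) :
    orbit ↥(stabilizer ↥Co0 u) v = {v' : ↥leechLattice | sqNorm (v' : GolayPt → ℤ) = 32 ∧
      sqNorm ((u : GolayPt → ℤ) - (v' : GolayPt → ℤ)) = 32} := by
  ext v'
  constructor
  · rintro ⟨g, rfl⟩
    have hg : g.1 • u = u := g.2
    have h1 : sqNorm ((g.1 • v : ↥leechLattice) : GolayPt → ℤ) = 32 := by
      rw [smul_coe, g.1.2.2, hv]
    refine ⟨h1, (sub_norm_iff _ _ hu h1).mpr ?_⟩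
    have h := dot_smul g.1 u v
    rw [hg] at h
    rw [h, huv]
  · rintro ⟨h1, h2⟩
    have h3 := (sub_norm_iff _ _ hu h1).mp h2
    obtain ⟨g, hgu, hgv⟩ := pair24 u v hu hv huv
    obtain ⟨g', hgu', hgv'⟩ := pair24 u v' hu h1 h3
    refine ⟨⟨g'⁻¹ * g, ?_⟩, ?_⟩
    · show (g'⁻¹ * g) • u = u
      rw [mul_smul, hgu, inv_smul_eq_iff, hgu']
    · show (g'⁻¹ * g) • v = v'
      rw [mul_smul, hgv, inv_smul_eq_iff, hgv']

theorem card_joint_uv (u v : ↥leechLattice) (hu : sqNorm (u : GolayPt → ℤ) = 48)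
    (hv : sqNorm (v : GolayPt → ℤ) = 32)
    (huv : dotInt (u : GolayPt → ℤ) (v : GolayPt → ℤ) = 24) :
    Nat.card ↥(stabilizer ↥Co0 u ⊓ stabilizer ↥Co0 v) = 898128000 := by
  have h1 := Cfsg.Agent.S0405.card_stab48 u hu
  have h2 := Cfsg.Agent.Lib.Helper3.Golay.card_eq_orbit_mul (stabilizer ↥Co0 u) v
  rw [orbit_stab_uv u v hu hv huv, Nat.card_coe_set_eq] at h2
  have h3 := Cfsg.Agent.S1578.result u hu
  have h4 : {v' : ↥leechLattice | sqNorm (v' : GolayPt → ℤ) = 32 ∧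
      sqNorm ((u : GolayPt → ℤ) - (v' : GolayPt → ℤ)) = 32}.ncard = 552 := h3
  rw [h4] at h2
  rw [h2] at h1
  omega

/-! ### the standard group and its 2025 points -/

/-- the standard copy of the group -/
noncomputable abbrev G0 : Subgroup ↥Co0 := stabilizer ↥Co0 U0 ⊓ stabilizer ↥Co0 V0

theorem G0_fix (g : ↥G0) : g.1 • U0 = U0 ∧ g.1 • V0 = V0 := ⟨g.2.1, g.2.2⟩

theorem card_G0 : Nat.card ↥G0 = 898128000 := card_joint_uv U0 V0 u0_norm v0_norm dot_u0_v0

instance : Finite ↥G0 := Nat.finite_of_card_ne_zero (by rw [card_G0]; norm_num)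

theorem dot_fix (g : ↥Co0) (f x : ↥leechLattice) (hf : g • f = f) :
    dotInt (f : GolayPt → ℤ) ((g • x : ↥leechLattice) : GolayPt → ℤ)
      = dotInt (f : GolayPt → ℤ) (x : GolayPt → ℤ) := by
  have h := dot_smul g f x
  rwa [hf] at h

theorem pX_smul (g : ↥Co0) (hu : g • U0 = U0) (hv : g • V0 = V0) (x : ↥leechLattice) :
    pX ((g • x : ↥leechLattice) : GolayPt → ℤ) ↔ pX (x : GolayPt → ℤ) := by
  unfold pX
  have e1 : dotInt v0 ((g • x : ↥leechLattice) : GolayPt → ℤ) = dotInt v0 (x : GolayPt → ℤ) :=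
    dot_fix g V0 x hv
  have e2 : dotInt u0 ((g • x : ↥leechLattice) : GolayPt → ℤ) = dotInt u0 (x : GolayPt → ℤ) :=
    dot_fix g U0 x hu
  rw [e1, e2]

/-- the 2025 points as a `G0`-set -/
def S2025 : SubMulAction ↥G0 ↥leechLattice where
  carrier := {x | sqNorm (x : GolayPt → ℤ) = 32 ∧ pX (x : GolayPt → ℤ)}
  smul_mem' := by
    rintro g x ⟨h1, h2⟩
    refine ⟨?_, ?_⟩
    · show sqNorm ((g.1 • x : ↥leechLattice) : GolayPt → ℤ) = 32
      rw [smul_coe, g.1.2.2, h1]
    · show pX ((g.1 • x : ↥leechLattice) : GolayPt → ℤ)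
      rw [pX_smul g.1 (G0_fix g).1 (G0_fix g).2]
      exact h2

theorem T0_mem : T0 ∈ S2025 := ⟨t0_norm, pX_t0⟩

/-- the base point -/
noncomputable def x0 : ↥S2025 := ⟨T0, T0_mem⟩

theorem smul_val (g : ↥G0) (y : ↥S2025) : ((g • y : ↥S2025) : ↥leechLattice) = g.1 • y.1 := rfl

theorem card_S : Nat.card ↥S2025 = 2025 := by
  rw [← countX]
  exact Nat.card_coe_set_eq _

instance : Finite ↥S2025 := Nat.finite_of_card_ne_zero (by rw [card_S]; norm_num)

theorem trans_S (x y : ↥S2025) : ∃ g : ↥G0, g • x = y := by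
  obtain ⟨h, hu, hv, ht⟩ := renorm x.1 x.2.1 x.2.2.1 x.2.2.2
  obtain ⟨h', hu', hv', ht'⟩ := renorm y.1 y.2.1 y.2.2.1 y.2.2.2
  refine ⟨⟨h'⁻¹ * h, ?_, ?_⟩, ?_⟩
  · show (h'⁻¹ * h) • U0 = U0
    rw [mul_smul, hu, inv_smul_eq_iff, hu']
  · show (h'⁻¹ * h) • V0 = V0
    rw [mul_smul, hv, inv_smul_eq_iff, hv']
  · apply Subtype.ext
    show (h'⁻¹ * h) • x.1 = y.1
    rw [mul_smul, inv_smul_eq_iff]
    exact Subtype.ext (ht.trans ht'.symm)

/-! ### the classes -/

/-- the inner product with the base point -/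
def cval (y : ↥S2025) : ℤ := dotInt t0 ((y : ↥leechLattice) : GolayPt → ℤ)

theorem cval_cases (y : ↥S2025) : (cval y = 32 ∧ y = x0) ∨ cval y = 0 ∨ cval y = 16 ∨ cval y = 8 := by
  rcases classifyXc y.1.1 y.1.2 y.2.1 y.2.2 (cval y) rfl with ⟨h, -⟩ | ⟨h, -⟩ | ⟨h, -⟩ | ⟨h, e⟩
  · exact Or.inr (Or.inl h)
  · exact Or.inr (Or.inr (Or.inl h))
  · exact Or.inr (Or.inr (Or.inr h))
  · exact Or.inl ⟨h, Subtype.ext (Subtype.ext e)⟩

theorem cval_x0 : cval x0 = 32 := dot_t0_t0

/-- the class of a point -/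
def cls (y : ↥S2025) : Fin 4 :=
  if cval y = 32 then 0 else if cval y = 0 then 1 else if cval y = 16 then 2 else 3

theorem cls_x0 : cls x0 = 0 := by
  unfold cls
  rw [if_pos cval_x0]

theorem cls_eq_iff (y : ↥S2025) :
    (cls y = 0 ↔ cval y = 32) ∧ (cls y = 1 ↔ cval y = 0) ∧ (cls y = 2 ↔ cval y = 16) ∧
      (cls y = 3 ↔ cval y = 8) := by
  unfold cls
  rcases cval_cases y with ⟨h, -⟩ | h | h | h <;> rw [h] <;> simp <;> decide

theorem cval_eq_of_cls (y y' : ↥S2025) (h : cls y = cls y') : cval y = cval y' := by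
  obtain ⟨a0, a1, a2, a3⟩ := cls_eq_iff y
  obtain ⟨b0, b1, b2, b3⟩ := cls_eq_iff y'
  rcases cval_cases y with ⟨hy, -⟩ | hy | hy | hy
  · rw [hy, b0.mp (h ▸ a0.mpr hy)]
  · rw [hy, b1.mp (h ▸ a1.mpr hy)]
  · rw [hy, b2.mp (h ▸ a2.mpr hy)]
  · rw [hy, b3.mp (h ▸ a3.mpr hy)]

theorem ncard_cval (c : ℤ) : {y : ↥S2025 | cval y = c}.ncard
    = {z : ↥leechLattice | sqNorm (z : GolayPt → ℤ) = 32 ∧
        (pX (z : GolayPt → ℤ) ∧ dotInt t0 (z : GolayPt → ℤ) = c)}.ncard := by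
  rw [← Set.ncard_image_of_injective {y : ↥S2025 | cval y = c} Subtype.val_injective]
  congr 1
  ext z
  simp only [Set.mem_image, Set.mem_ofPred_eq]
  constructor
  · rintro ⟨y, hy, rfl⟩
    exact ⟨y.2.1, y.2.2, hy⟩
  · rintro ⟨h1, h2, h3⟩
    exact ⟨⟨z, h1, h2⟩, h3, rfl⟩

/-- the class sizes -/
def msz : Fin 4 → ℕ := ![1, 330, 462, 1232]

theorem ncard_cls (i : Fin 4) : {y : ↥S2025 | cls y = i}.ncard = msz i := by
  fin_cases i
  · have : {y : ↥S2025 | cls y = (0 : Fin 4)} = {x0} := by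
      ext y
      simp only [Set.mem_ofPred_eq, Set.mem_singleton_iff]
      constructor
      · intro h
        rcases cval_cases y with ⟨-, e⟩ | h' | h' | h'
        · exact e
        · have := (cls_eq_iff y).1.mp h; omega
        · have := (cls_eq_iff y).1.mp h; omega
        · have := (cls_eq_iff y).1.mp h; omega
      · rintro rfl
        exact cls_x0
    show {y : ↥S2025 | cls y = (0 : Fin 4)}.ncard = 1
    rw [this, Set.ncard_singleton]
  · show {y : ↥S2025 | cls y = (1 : Fin 4)}.ncard = 330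
    rw [← countA, ← ncard_cval]
    congr 1
    ext y
    exact (cls_eq_iff y).2.1
  · show {y : ↥S2025 | cls y = (2 : Fin 4)}.ncard = 462
    rw [← countB, ← ncard_cval]
    congr 1
    ext y
    exact (cls_eq_iff y).2.2.1
  · show {y : ↥S2025 | cls y = (3 : Fin 4)}.ncard = 1232
    rw [← countC, ← ncard_cval]
    congr 1
    ext y
    exact (cls_eq_iff y).2.2.2

theorem cls_fix (y : ↥S2025) (h : cls y = cls x0) : y = x0 := by
  rw [cls_x0] at h
  have h32 := (cls_eq_iff y).1.mp h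
  rcases cval_cases y with ⟨-, e⟩ | h' | h' | h'
  · exact e
  · omega
  · omega
  · omega

theorem cls_trans (y y' : ↥S2025) (h : cls y = cls y') :
    ∃ g : ↥G0, g • x0 = x0 ∧ g • y = y' := by
  have hc := cval_eq_of_cls y y' h
  obtain ⟨a, hu, hv, ht, hy⟩ := transX y.1 y'.1 (cval y) ⟨y.2.1, y.2.2, rfl⟩
    ⟨y'.2.1, y'.2.2, hc.symm⟩
  exact ⟨⟨a, hu, hv⟩, Subtype.ext ht, Subtype.ext hy⟩

set_option maxRecDepth 100000 in
theorem arith : ∀ J : Finset (Fin 4), (0 : Fin 4) ∈ J → (∑ i ∈ J, msz i) ∣ 2025 →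
    J = {0} ∨ J = Finset.univ := by
  decide +kernel

/-! ### faithfulness -/

theorem exists_octad_through (s : Finset GolayPt) (hs : s.card ≤ 5) : ∃ O ∈ octads, s ⊆ O := by
  obtain ⟨t, hst, ht⟩ := Finset.exists_superset_card_eq hs
    (by rw [Cfsg.Agent.Lib.Helper3.Golay.card_pts]; norm_num)
  obtain ⟨O, ⟨hO, htO⟩, -⟩ := Cfsg.Agent.Lib.Helper3.Golay.octads_steiner.2 t ht
  exact ⟨O, hO, hst.trans htO⟩

theorem dot_Psi2U (O U : Finset GolayPt) (hU : U ⊆ O) (y : GolayPt → ℤ) :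
    dotInt (Psi 2 ⟨O, U⟩) y = 2 * ∑ i ∈ O, y i - 4 * ∑ i ∈ U, y i := by
  classical
  unfold dotInt
  have : ∀ i : GolayPt, Psi 2 ⟨O, U⟩ i * y i
      = (if i ∈ O then 2 * y i else 0) - (if i ∈ U then 4 * y i else 0) := by
    intro i
    rw [Psi_apply]
    by_cases h : i ∈ O
    · by_cases h' : i ∈ U
      · simp only [h, h', if_true]; ring
      · simp only [h, h', if_true, if_false]; ring
    · have h' : i ∉ U := fun h' => h (hU h')
      simp only [h, h', if_false]; ring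
  rw [Finset.sum_congr rfl (fun i _ => this i), Finset.sum_sub_distrib, Finset.sum_ite_mem,
    Finset.sum_ite_mem, Finset.univ_inter, Finset.univ_inter, Finset.mul_sum, Finset.mul_sum]

/-- the points of the second class -/
theorem formB_mem (O : Finset GolayPt) (hO : O ∈ octads) (h1 : none ∈ O)
    (h2 : (some 0 : GolayPt) ∈ O) (k : GolayPt) (hk : k ∈ O) (hk1 : k ≠ none) (hk2 : k ≠ some 0) :
    ∃ y : ↥S2025, ((y : ↥leechLattice) : GolayPt → ℤ) = Psi 2 ⟨O, {some 0, k}⟩ := by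
  obtain ⟨⟨w, hw, rfl⟩, h8⟩ := hO
  have hU : ({some 0, k} : Finset GolayPt) ⊆ support₂ w := by
    intro x hx
    simp only [Finset.mem_insert, Finset.mem_singleton] at hx
    rcases hx with rfl | rfl
    · exact h2
    · exact hk
  have hev : Even ({some 0, k} : Finset GolayPt).card := by
    rw [Finset.card_pair hk2.symm]; decide
  obtain ⟨m1, m2⟩ := Psi2_mem w hw h8 _ hU hev
  have hp : pX (f2 ⟨w, {some 0, k}⟩) :=
    (cond2X_iff w h8 _ hU).mpr (Or.inr ⟨h1, h2, k, hk, hk1, hk2, rfl⟩)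
  exact ⟨⟨⟨_, AddSubgroup.subset_closure m1⟩, m2, hp⟩, rfl⟩

theorem faithful (g : ↥G0) (hg : ∀ y : ↥S2025, g • y = y) : g = 1 := by
  classical
  apply Subtype.ext
  apply Subtype.ext
  apply Equiv.ext
  intro z
  show g.1.1 z = z
  have key : ∀ (f : ↥leechLattice), g.1 • f = f →
      dotInt (f : GolayPt → ℤ) ((g.1 • z : ↥leechLattice) : GolayPt → ℤ)
        = dotInt (f : GolayPt → ℤ) (z : GolayPt → ℤ) := fun f hf => dot_fix g.1 f z hf
  have e1 := key U0 (G0_fix g).1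
  have e2 := key V0 (G0_fix g).2
  have e3 := key T0 (congrArg Subtype.val (hg x0))
  change dotInt u0 _ = dotInt u0 _ at e1
  change dotInt v0 _ = dotInt v0 _ at e2
  change dotInt t0 _ = dotInt t0 _ at e3
  rw [dot_u0, dot_u0] at e1
  rw [dot_v0, dot_v0] at e2
  rw [dot_t0, dot_t0] at e3
  set z' : GolayPt → ℤ := ((g.1 • z : ↥leechLattice) : GolayPt → ℤ) with hz'
  set zz : GolayPt → ℤ := (z : GolayPt → ℤ) with hzz
  have hinf : z' none = zz none := by omega
  have hzero : z' (some 0) = zz (some 0) := by omega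
  -- the differences of the coordinates are preserved
  have hdiff : ∀ j j' : GolayPt, j ≠ none → j ≠ some 0 → j' ≠ none → j' ≠ some 0 →
      z' j - zz j = z' j' - zz j' := by
    intro j j' hj1 hj2 hj1' hj2'
    obtain ⟨O, hO, hsub⟩ := exists_octad_through {none, some 0, j, j'}
      (le_trans (Finset.card_le_four) (by norm_num))
    have m1 : none ∈ O := hsub (by simp)
    have m2 : (some 0 : GolayPt) ∈ O := hsub (by simp)
    have m3 : j ∈ O := hsub (by simp)
    have m4 : j' ∈ O := hsub (by simp)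
    obtain ⟨y, hy⟩ := formB_mem O hO m1 m2 j m3 hj1 hj2
    obtain ⟨y', hy'⟩ := formB_mem O hO m1 m2 j' m4 hj1' hj2'
    have f1 := key y.1 (congrArg Subtype.val (hg y))
    have f2 := key y'.1 (congrArg Subtype.val (hg y'))
    have hU : ∀ k : GolayPt, k ∈ O → ({some 0, k} : Finset GolayPt) ⊆ O := by
      intro k hk x hx
      simp only [Finset.mem_insert, Finset.mem_singleton] at hx
      rcases hx with rfl | rfl
      · exact m2
      · exact hk
    rw [hy, dot_Psi2U O _ (hU j m3), dot_Psi2U O _ (hU j m3), Finset.sum_pair hj2.symm,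
      Finset.sum_pair hj2.symm] at f1
    rw [hy', dot_Psi2U O _ (hU j' m4), dot_Psi2U O _ (hU j' m4), Finset.sum_pair hj2'.symm,
      Finset.sum_pair hj2'.symm] at f2
    omega
  -- the common difference vanishes
  have hd : z' (some 1) - zz (some 1) = 0 := by
    have hsum : ∑ i, (z' i - zz i) = 22 * (z' (some 1) - zz (some 1)) := by
      have : ∀ i : GolayPt, z' i - zz i
          = if (i = none ∨ i = some 0) then 0 else (z' (some 1) - zz (some 1)) := by
        intro i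
        by_cases h : i = none ∨ i = some 0
        · rw [if_pos h]
          rcases h with rfl | rfl
          · omega
          · omega
        · rw [if_neg h]
          push Not at h
          exact hdiff i (some 1) h.1 h.2 (by decide) (by decide)
      rw [Finset.sum_congr rfl (fun i _ => this i), Finset.sum_ite, Finset.sum_const_zero,
        Finset.sum_const, zero_add, nsmul_eq_mul]
      congr 1
    rw [Finset.sum_sub_distrib] at hsum
    omega
  apply Subtype.ext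
  funext j
  show z' j = zz j
  by_cases h1 : j = none
  · subst h1; exact hinf
  · by_cases h2 : j = some 0
    · subst h2; exact hzero
    · have := hdiff j (some 1) h1 h2 (by decide) (by decide)
      omega

/-! ### the point stabiliser -/

/-- the map from `M22` to the point stabiliser -/
noncomputable def phi (π : ↥(G22 none (some 0))) : ↥(stabilizer ↥G0 x0) :=
  ⟨⟨permEl π.1 (mem_G22.mp π.2).1,
    ⟨Cfsg.Agent.S1584.permEl_eq _ _ _ _ (Cfsg.Agent.S1584.u0_perm π.1 (mem_G22.mp π.2).2.1),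
     Cfsg.Agent.S1584.permEl_eq _ _ _ _
      (Cfsg.Agent.S1584.v0_perm π.1 (mem_G22.mp π.2).2.1 (mem_G22.mp π.2).2.2)⟩⟩,
   Subtype.ext (Cfsg.Agent.S1584.permEl_eq _ _ _ _
     (t0_perm π.1 (mem_G22.mp π.2).2.1 (mem_G22.mp π.2).2.2))⟩

theorem phi_mul (π π' : ↥(G22 none (some 0))) : phi (π * π') = phi π * phi π' := by
  apply Subtype.ext
  apply Subtype.ext
  exact Cfsg.Agent.S0405.permEl_mul π.1 π'.1 _ _ _

theorem phi_injective : Function.Injective phi := by
  intro π π' h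
  apply Subtype.ext
  have h1 := congrArg (fun q : ↥(stabilizer ↥G0 x0) => (q.1.1 : ↥Co0)) h
  exact Cfsg.Agent.S0405.permEl_inj _ _ _ _ h1

theorem card_stab_x0 : Nat.card ↥(stabilizer ↥G0 x0) = 443520 := by
  have h1 : orbit ↥G0 x0 = Set.univ := by
    ext y
    simp only [Set.mem_univ, iff_true]
    obtain ⟨g, hg⟩ := trans_S x0 y
    exact ⟨g, hg⟩
  have h2 : Nat.card (orbit ↥G0 x0) = 2025 := by
    rw [h1, Nat.card_congr (Equiv.Set.univ _), card_S]
  have h3 := Subgroup.card_eq_card_quotient_mul_card_subgroup (stabilizer ↥G0 x0)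
  rw [← Nat.card_congr (orbitEquivQuotientStabilizer ↥G0 x0), h2, card_G0] at h3
  omega

theorem phi_bijective : Function.Bijective phi := by
  rw [Nat.bijective_iff_injective_and_card]
  refine ⟨phi_injective, ?_⟩
  rw [card_stab_x0]
  exact card_stab_two (by decide)

theorem simple_stab_x0 : IsSimpleGroup ↥(stabilizer ↥G0 x0) := by
  have := isSimpleGroup_G22 (show (none : GolayPt) ≠ some 0 by decide)
  exact (MulEquiv.ofBijective (MonoidHom.mk' phi phi_mul) phi_bijective).symm.isSimpleGroup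

theorem simple_G0 : IsSimpleGroup ↥G0 := by
  apply Cfsg.Agent.Lib.Helper14.PrimSimple.simple_of_primitive x0
  · intro N hN hne
    refine Cfsg.Agent.Lib.Helper14.PrimSimple.normal_transitive_of_fibers faithful trans_S x0 cls msz
      ncard_cls cls_fix cls_trans ?_ N hne
    rw [card_S, cls_x0]
    exact arith
  · exact simple_stab_x0
  · intro N hN
    rw [card_S] at hN
    haveI : Fact (Nat.Prime 5) := ⟨by norm_num⟩
    refine Cfsg.Agent.Lib.Helper14.CharSub.exists_char_of_card 5 2 81 (by rw [hN]; norm_num) ⟨by norm_num, le_rfl⟩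
      (by norm_num) (by norm_num) ?_
    intro d hd h5
    have hle : d ≤ 81 := Nat.le_of_dvd (by norm_num) hd
    interval_cases d <;> simp_all

/-- Joint stabiliser of two minimal vectors with coordinate dot product −8 is simple of order 898128000. -/
theorem result (v w : Cfsg.leechLattice) (hv : Cfsg.sqNorm (v : Cfsg.GolayPt → ℤ) = 32) (hw : Cfsg.sqNorm (w : Cfsg.GolayPt → ℤ) = 32) (hvw : Cfsg.dotInt (v : Cfsg.GolayPt → ℤ) (w : Cfsg.GolayPt → ℤ) = -8) : Cfsg.IsMcL ↥(MulAction.stabilizer Cfsg.Co0 v ⊓ MulAction.stabilizer Cfsg.Co0 w) := by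
  obtain ⟨k, hkv, hku⟩ := exists_std v w hv hw hvw
  -- the conjugate of the joint stabiliser is the standard group
  have heq : stabilizer ↥Co0 V0 ⊓ stabilizer ↥Co0 (k • w) = G0 := by
    have hsum : U0 = V0 + k • w := by rw [← hku, smul_add', hkv]
    ext a
    simp only [Subgroup.mem_inf, mem_stabilizer_iff]
    constructor
    · rintro ⟨h1, h2⟩
      refine ⟨?_, h1⟩
      rw [hsum, smul_add', h1, h2]
    · rintro ⟨h1, h2⟩
      refine ⟨h2, ?_⟩
      apply fix_w a V0 (k • w) h2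
      rw [← hsum]; exact h1
  have e : ↥(stabilizer ↥Co0 v ⊓ stabilizer ↥Co0 w) ≃* ↥G0 :=
    (Cfsg.Agent.S0405.conjEquiv k v V0 w (k • w) hkv rfl).trans (MulEquiv.subgroupCongr heq)
  have := simple_G0
  refine ⟨e.isSimpleGroup, ?_⟩
  rw [Nat.card_congr e.toEquiv, card_G0]

end Cfsg.Agent.S0404
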