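import Cfsg.Statements.S0403
-- import your own Cfsg.Agent.* helpers here
import Cfsg.Agent.S0404
import Cfsg.Agent.S1580

set_option autoImplicit false
open Cfsg

namespace Cfsg.Agent.S0403

open Cfsg.Agent.Lib.Helper14.Golay Cfsg.Agent.Lib.Helper14.Leech
  Cfsg.Agent.Lib.Helper14.LeechCount Cfsg.Agent.Lib.Helper14.LeechMinCount
  Cfsg.Agent.Lib.Helper14.LeechOrbit Cfsg.Agent.Lib.Helper14.LeechPairs
  Cfsg.Agent.Lib.Helper14.LeechHS Cfsg.Agent.Lib.Helper14.LeechMono
  Cfsg.Agent.Lib.Helper14.Co0Center Cfsg.Agent.Lib.Helper14.Co0Order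
  Cfsg.Agent.Lib.Helper14.LeechCross Cfsg.Agent.Lib.Helper14.LeechMcL
open Cfsg.Agent.S1578 (u0 u0_mem u0_norm dot_u0)
open Cfsg.Agent.S1584 (U0 V0)
open Cfsg.Agent.S1634 (smul_add' coe_add')
open Cfsg.Agent.S0404 (dot_fix)
open Cfsg.Agent.Lib.Helper3.Golay (bitSet O0 O0_mem pt)
open MulAction

/-! ### the group and its 552 points -/

/-- the standard copy of the group -/
noncomputable abbrev G3 : Subgroup ↥Co0 := stabilizer ↥Co0 U0

theorem G3_fix (g : ↥G3) : g.1 • U0 = U0 := g.2

theorem card_G3 : Nat.card ↥G3 = 495766656000 := by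
  have := Cfsg.Agent.S0405.card_stab48 U0 u0_norm
  show Nat.card ↥(stabilizer ↥Co0 U0) = 495766656000
  omega

instance : Finite ↥G3 := Nat.finite_of_card_ne_zero (by rw [card_G3]; norm_num)

/-- the 552 points as a `G3`-set -/
def S552 : SubMulAction ↥G3 ↥leechLattice where
  carrier := {x | sqNorm (x : GolayPt → ℤ) = 32 ∧ dotInt u0 (x : GolayPt → ℤ) = 24}
  smul_mem' := by
    rintro g x ⟨h1, h2⟩
    refine ⟨?_, ?_⟩
    · show sqNorm ((g.1 • x : ↥leechLattice) : GolayPt → ℤ) = 32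
      rw [smul_coe, g.1.2.2, h1]
    · show dotInt u0 ((g.1 • x : ↥leechLattice) : GolayPt → ℤ) = 24
      have := dot_fix g.1 U0 x (G3_fix g)
      exact this.trans h2

theorem V0_mem : V0 ∈ S552 := ⟨v0_norm, dot_u0_v0⟩

/-- the base point -/
noncomputable def x0 : ↥S552 := ⟨V0, V0_mem⟩

theorem card_S : Nat.card ↥S552 = 552 := by
  have h : {x : ↥leechLattice | sqNorm (x : GolayPt → ℤ) = 32 ∧
      dotInt u0 (x : GolayPt → ℤ) = 24}.ncard = 552 := by
    rw [ncard_sub_filter (fun x => dotInt u0 x = 24), Cfsg.Agent.S1578.countO,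
      Cfsg.Agent.S1578.count2, Cfsg.Agent.S1578.count4]
  rw [← h]
  exact Nat.card_coe_set_eq _

instance : Finite ↥S552 := Nat.finite_of_card_ne_zero (by rw [card_S]; norm_num)

theorem trans_S (x y : ↥S552) : ∃ g : ↥G3, g • x = y := by
  obtain ⟨h, hu, hv⟩ := pair24 U0 x.1 u0_norm x.2.1 x.2.2
  obtain ⟨h', hu', hv'⟩ := pair24 U0 y.1 u0_norm y.2.1 y.2.2
  refine ⟨⟨h'⁻¹ * h, ?_⟩, ?_⟩
  · show (h'⁻¹ * h) • U0 = U0
    rw [mul_smul, hu, inv_smul_eq_iff, hu']
  · apply Subtype.ext
    show (h'⁻¹ * h) • x.1 = y.1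
    rw [mul_smul, hv, inv_smul_eq_iff, hv']

theorem smul_sub' (g : ↥Co0) (a b : ↥leechLattice) : g • (a - b) = g • a - g • b := by
  have h := smul_add' g (a - b) b
  rw [sub_add_cancel] at h
  rw [h, add_sub_cancel_right]

theorem coe_sub' (a b : ↥leechLattice) :
    ((a - b : ↥leechLattice) : GolayPt → ℤ) = (a : GolayPt → ℤ) - (b : GolayPt → ℤ) := rfl

/-- the complementary point -/
theorem compl_mem (x : ↥leechLattice) (hx : x ∈ S552) : U0 - x ∈ S552 := by
  obtain ⟨h1, h2⟩ := hx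
  refine ⟨?_, ?_⟩
  · rw [coe_sub']
    exact (sub_norm_iff u0 _ u0_norm h1).mpr h2
  · rw [coe_sub', Cfsg.Agent.Lib.Helper14.LeechPairs.dotInt_sub_right]
    have : dotInt u0 u0 = 48 := by rw [dotInt_self, u0_norm]
    show dotInt u0 u0 - dotInt u0 (x : GolayPt → ℤ) = 24
    rw [this, h2]; norm_num

/-- the second fixed point of the point stabiliser -/
noncomputable def w0 : ↥S552 := ⟨U0 - V0, compl_mem V0 V0_mem⟩

/-! ### the classes -/

/-- the inner product with the base point -/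
def cval (y : ↥S552) : ℤ := dotInt v0 ((y : ↥leechLattice) : GolayPt → ℤ)

theorem eq_of_dot32 (a b : ↥leechLattice) (ha : sqNorm (a : GolayPt → ℤ) = 32)
    (hb : sqNorm (b : GolayPt → ℤ) = 32)
    (h : dotInt (a : GolayPt → ℤ) (b : GolayPt → ℤ) = 32) : a = b := by
  have h0 : sqNorm ((a - b : ↥leechLattice) : GolayPt → ℤ) = 0 := by
    rw [coe_sub', Cfsg.Agent.Lib.Helper14.Leech.sqNorm_sub, ha, hb, h]; norm_num
  by_contra hne
  have hne' : ((a - b : ↥leechLattice) : GolayPt → ℤ) ≠ 0 := by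
    intro h'
    apply hne
    have : a - b = 0 := Subtype.ext h'
    exact sub_eq_zero.mp this
  have := Cfsg.Agent.Lib.Helper14.Leech.thirtytwo_le_sqNorm_lattice _ (a - b).2 hne'
  omega

theorem dot_bound (a b : ↥leechLattice) (ha : sqNorm (a : GolayPt → ℤ) = 32)
    (hb : sqNorm (b : GolayPt → ℤ) = 32) :
    (8 : ℤ) ∣ dotInt (a : GolayPt → ℤ) (b : GolayPt → ℤ) ∧
      (a = b ∨ dotInt (a : GolayPt → ℤ) (b : GolayPt → ℤ) ≤ 16) := by
  have hn : sqNorm ((a - b : ↥leechLattice) : GolayPt → ℤ)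
      = 64 - 2 * dotInt (a : GolayPt → ℤ) (b : GolayPt → ℤ) := by
    rw [coe_sub', Cfsg.Agent.Lib.Helper14.Leech.sqNorm_sub, ha, hb]; ring
  have h16 := Cfsg.Agent.Lib.Helper14.Leech.sixteen_dvd_sqNorm_lattice _ (a - b).2
  rw [hn] at h16
  constructor
  · omega
  · by_cases hab : a = b
    · exact Or.inl hab
    · right
      have hne' : ((a - b : ↥leechLattice) : GolayPt → ℤ) ≠ 0 := by
        intro h'
        apply hab
        have : a - b = 0 := Subtype.ext h'
        exact sub_eq_zero.mp this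
      have := Cfsg.Agent.Lib.Helper14.Leech.thirtytwo_le_sqNorm_lattice _ (a - b).2 hne'
      rw [hn] at this
      omega

theorem cval_compl (y : ↥S552) :
    dotInt v0 ((U0 - y.1 : ↥leechLattice) : GolayPt → ℤ) = 24 - cval y := by
  rw [coe_sub', Cfsg.Agent.Lib.Helper14.LeechPairs.dotInt_sub_right]
  have : dotInt v0 u0 = 24 := by rw [dotInt_comm]; exact dot_u0_v0
  show dotInt v0 u0 - dotInt v0 (y.1 : GolayPt → ℤ) = 24 - cval y
  rw [this]; rfl

theorem cval_cases (y : ↥S552) :
    (cval y = 32 ∧ y = x0) ∨ (cval y = -8 ∧ y = w0) ∨ cval y = 16 ∨ cval y = 8 := by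
  obtain ⟨h8, h1⟩ := dot_bound V0 y.1 v0_norm y.2.1
  have hc := compl_mem y.1 y.2
  obtain ⟨-, h2⟩ := dot_bound V0 (U0 - y.1) v0_norm hc.1
  change (8 : ℤ) ∣ cval y at h8
  change V0 = y.1 ∨ cval y ≤ 16 at h1
  have h2' : V0 = U0 - y.1 ∨ 24 - cval y ≤ 16 := by
    rcases h2 with h | h
    · exact Or.inl h
    · right
      have := cval_compl y
      change dotInt v0 ((U0 - y.1 : ↥leechLattice) : GolayPt → ℤ) ≤ 16 at h
      omega
  rcases h1 with h1 | h1
  · left
    have : y = x0 := Subtype.ext h1.symm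
    refine ⟨?_, this⟩
    rw [this]
    show dotInt v0 v0 = 32
    rw [dotInt_self, v0_norm]
  · rcases h2' with h2 | h2
    · right; left
      have e : y.1 = U0 - V0 := by rw [h2]; abel
      have : y = w0 := Subtype.ext e
      refine ⟨?_, this⟩
      have := cval_compl y
      rw [← h2] at this
      have h32 : dotInt v0 ((V0 : ↥leechLattice) : GolayPt → ℤ) = 32 := by
        show dotInt v0 v0 = 32
        rw [dotInt_self, v0_norm]
      omega
    · right; right
      obtain ⟨k, hk⟩ := h8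
      have : k = 1 ∨ k = 2 := by omega
      rcases this with rfl | rfl
      · right; omega
      · left; omega

theorem cval_x0 : cval x0 = 32 := by
  show dotInt v0 v0 = 32
  rw [dotInt_self, v0_norm]

theorem cval_w0 : cval w0 = -8 := by
  have := cval_compl x0
  have h : cval w0 = 24 - cval x0 := this
  rw [h, cval_x0]; norm_num

/-- the class of a point -/
def cls (y : ↥S552) : Fin 4 :=
  if cval y = 32 then 0 else if cval y = -8 then 1 else if cval y = 16 then 2 else 3

theorem cls_x0 : cls x0 = 0 := by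
  unfold cls
  rw [if_pos cval_x0]

theorem cls_eq_iff (y : ↥S552) :
    (cls y = 0 ↔ cval y = 32) ∧ (cls y = 1 ↔ cval y = -8) ∧ (cls y = 2 ↔ cval y = 16) ∧
      (cls y = 3 ↔ cval y = 8) := by
  unfold cls
  rcases cval_cases y with ⟨h, -⟩ | ⟨h, -⟩ | h | h <;> rw [h] <;> simp <;> decide

theorem cval_eq_of_cls (y y' : ↥S552) (h : cls y = cls y') : cval y = cval y' := by
  obtain ⟨a0, a1, a2, a3⟩ := cls_eq_iff y
  obtain ⟨b0, b1, b2, b3⟩ := cls_eq_iff y'
  rcases cval_cases y with ⟨hy, -⟩ | ⟨hy, -⟩ | hy | hy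
  · rw [hy, b0.mp (h ▸ a0.mpr hy)]
  · rw [hy, b1.mp (h ▸ a1.mpr hy)]
  · rw [hy, b2.mp (h ▸ a2.mpr hy)]
  · rw [hy, b3.mp (h ▸ a3.mpr hy)]

/-- the complementary point -/
noncomputable def compl (y : ↥S552) : ↥S552 := ⟨U0 - y.1, compl_mem y.1 y.2⟩

theorem compl_compl (y : ↥S552) : compl (compl y) = y := by
  apply Subtype.ext
  show U0 - (U0 - y.1) = y.1
  abel

theorem cval_compl' (y : ↥S552) : cval (compl y) = 24 - cval y := cval_compl y

theorem ncard16 : {y : ↥S552 | cval y = 16}.ncard = 275 := by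
  rw [← Cfsg.Agent.S1580.count0,
    ← Set.ncard_image_of_injective {y : ↥S552 | cval y = 16} Subtype.val_injective]
  congr 1
  ext z
  simp only [Set.mem_image, Set.mem_ofPred_eq]
  constructor
  · rintro ⟨y, hy, rfl⟩
    exact ⟨y.2.1, y.2.2, hy⟩
  · rintro ⟨h1, h2, h3⟩
    exact ⟨⟨z, h1, h2⟩, h3, rfl⟩

theorem ncard8 : {y : ↥S552 | cval y = 8}.ncard = 275 := by
  rw [← ncard16]
  refine Set.ncard_congr (fun y _ => compl y) ?_ ?_ ?_
  · intro y hy
    show cval (compl y) = 16
    rw [cval_compl']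
    have : cval y = 8 := hy
    omega
  · intro a b _ _ h
    have := congrArg compl h
    rwa [compl_compl, compl_compl] at this
  · intro z hz
    refine ⟨compl z, ?_, compl_compl z⟩
    show cval (compl z) = 8
    rw [cval_compl']
    have : cval z = 16 := hz
    omega

/-- the class sizes -/
def msz : Fin 4 → ℕ := ![1, 1, 275, 275]

theorem ncard_cls (i : Fin 4) : {y : ↥S552 | cls y = i}.ncard = msz i := by
  fin_cases i
  · have : {y : ↥S552 | cls y = (0 : Fin 4)} = {x0} := by
      ext y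
      simp only [Set.mem_ofPred_eq, Set.mem_singleton_iff]
      constructor
      · intro h
        have h32 := (cls_eq_iff y).1.mp h
        rcases cval_cases y with ⟨-, e⟩ | ⟨h', -⟩ | h' | h'
        · exact e
        · omega
        · omega
        · omega
      · rintro rfl
        exact cls_x0
    show {y : ↥S552 | cls y = (0 : Fin 4)}.ncard = 1
    rw [this, Set.ncard_singleton]
  · have : {y : ↥S552 | cls y = (1 : Fin 4)} = {w0} := by
      ext y
      simp only [Set.mem_ofPred_eq, Set.mem_singleton_iff]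
      constructor
      · intro h
        have h8 := (cls_eq_iff y).2.1.mp h
        rcases cval_cases y with ⟨h', -⟩ | ⟨-, e⟩ | h' | h'
        · omega
        · exact e
        · omega
        · omega
      · rintro rfl
        exact (cls_eq_iff w0).2.1.mpr cval_w0
    show {y : ↥S552 | cls y = (1 : Fin 4)}.ncard = 1
    rw [this, Set.ncard_singleton]
  · show {y : ↥S552 | cls y = (2 : Fin 4)}.ncard = 275
    rw [← ncard16]
    congr 1
    ext y
    exact (cls_eq_iff y).2.2.1
  · show {y : ↥S552 | cls y = (3 : Fin 4)}.ncard = 275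
    rw [← ncard8]
    congr 1
    ext y
    exact (cls_eq_iff y).2.2.2

theorem trans16 (y y' : ↥S552) (h : cval y = 16) (h' : cval y' = 16) :
    ∃ g : ↥Co0, g • U0 = U0 ∧ g • V0 = V0 ∧ g • y.1 = y'.1 := by
  have hv : sqNorm ((V0 : ↥leechLattice) : GolayPt → ℤ) = 32 ∧
      sqNorm (((U0 : ↥leechLattice) : GolayPt → ℤ) - ((V0 : ↥leechLattice) : GolayPt → ℤ)) = 32 :=
    ⟨v0_norm, (sub_norm_iff u0 v0 u0_norm v0_norm).mpr dot_u0_v0⟩
  exact (Cfsg.Agent.S1580.result U0 V0 u0_norm hv).2 y.1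
    ((Cfsg.Agent.S1580.mem_iff U0 V0 y.1 u0_norm).mpr ⟨y.2.1, y.2.2, h⟩) y'.1
    ((Cfsg.Agent.S1580.mem_iff U0 V0 y'.1 u0_norm).mpr ⟨y'.2.1, y'.2.2, h'⟩)

theorem cls_trans (y y' : ↥S552) (h : cls y = cls y') :
    ∃ g : ↥G3, g • x0 = x0 ∧ g • y = y' := by
  have hc := cval_eq_of_cls y y' h
  rcases cval_cases y with ⟨hy, e⟩ | ⟨hy, e⟩ | hy | hy
  · rcases cval_cases y' with ⟨-, e'⟩ | ⟨hy', -⟩ | hy' | hy'
    · exact ⟨1, one_smul _ _, by rw [one_smul, e, e']⟩
    · omega
    · omega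
    · omega
  · rcases cval_cases y' with ⟨hy', -⟩ | ⟨-, e'⟩ | hy' | hy'
    · omega
    · exact ⟨1, one_smul _ _, by rw [one_smul, e, e']⟩
    · omega
    · omega
  · obtain ⟨g, hu, hv, hg⟩ := trans16 y y' hy (by omega)
    exact ⟨⟨g, hu⟩, Subtype.ext hv, Subtype.ext hg⟩
  · obtain ⟨g, hu, hv, hg⟩ := trans16 (compl y) (compl y')
      (by rw [cval_compl']; omega) (by rw [cval_compl']; omega)
    refine ⟨⟨g, hu⟩, Subtype.ext hv, Subtype.ext ?_⟩
    have hg' : g • (U0 - y.1) = U0 - y'.1 := hg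
    rw [smul_sub', hu] at hg'
    show g • y.1 = y'.1
    have := sub_right_injective hg'
    exact this


/-! ### special points -/

theorem dot_xA (k : GolayPt) (z : GolayPt → ℤ) : dotInt (xA k) z = 4 * z none + 4 * z k := by
  unfold xA
  rw [dotInt_add_left, dot_single_left, dot_single_left]

theorem xA_mem (k : GolayPt) (hk : k ≠ none) :
    ∃ y : ↥S552, ((y : ↥leechLattice) : GolayPt → ℤ) = xA k := by
  obtain ⟨m1, m2⟩ := pair_mem none k hk.symm 1 1 (Or.inl rfl) (Or.inl rfl)
  have e : (Pi.single none (4 * 1) + Pi.single k (4 * 1) : GolayPt → ℤ) = xA k := by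
    unfold xA; norm_num
  rw [e] at m1 m2
  refine ⟨⟨⟨xA k, m1⟩, m2, ?_⟩, rfl⟩
  show dotInt u0 (xA k) = 24
  rw [dotInt_comm, dot_xA]
  unfold u0
  rw [if_pos rfl, if_neg hk]
  norm_num

theorem yRef_mem : ∃ y : ↥S552, ((y : ↥leechLattice) : GolayPt → ℤ) = yRef := by
  obtain ⟨⟨w, hw, hwO⟩, h8⟩ := O0_mem
  obtain ⟨m1, m2⟩ := Psi2_mem w hw (by rw [hwO]; exact h8) ∅ (Finset.empty_subset _) (by simp)
  rw [hwO] at m1 m2
  refine ⟨⟨⟨yRef, AddSubgroup.subset_closure m1⟩, m2, ?_⟩, rfl⟩
  show dotInt u0 yRef = 24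
  unfold yRef
  rw [dot_u0, sum_Psi 2 _ _ (Finset.empty_subset _), h8, Psi_apply, if_pos O0_pts.1,
    if_neg (Finset.notMem_empty _)]
  norm_num

theorem cval_xA (y : ↥S552) (k : GolayPt) (hk1 : k ≠ none) (hk : k ≠ some 0)
    (hy : ((y : ↥leechLattice) : GolayPt → ℤ) = xA k) : cval y = 16 := by
  unfold cval
  rw [hy, dotInt_comm, dot_xA]
  unfold v0
  simp only [Pi.add_apply, Pi.single_apply]
  rw [if_neg hk1, if_neg hk, if_neg (show ¬ ((none : GolayPt) = some 0) by decide)]
  norm_num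

theorem cval_yRef (y : ↥S552) (hy : ((y : ↥leechLattice) : GolayPt → ℤ) = yRef) :
    cval y = 16 := by
  unfold cval
  rw [hy]
  exact Cfsg.Agent.S1584.dot_v0_Psi _ O0_pts.1 O0_pts.2.1

theorem dot_compl (a b : ↥S552) :
    dotInt (((compl a : ↥S552) : ↥leechLattice) : GolayPt → ℤ)
      (((compl b : ↥S552) : ↥leechLattice) : GolayPt → ℤ)
      = dotInt ((a : ↥leechLattice) : GolayPt → ℤ) ((b : ↥leechLattice) : GolayPt → ℤ) := by
  show dotInt ((U0 - a.1 : ↥leechLattice) : GolayPt → ℤ) ((U0 - b.1 : ↥leechLattice) : GolayPt → ℤ) = _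
  rw [coe_sub', coe_sub', dotInt_sub_left, dotInt_sub_right, dotInt_sub_right]
  have h1 : dotInt ((U0 : ↥leechLattice) : GolayPt → ℤ) ((U0 : ↥leechLattice) : GolayPt → ℤ) = 48 := by
    show dotInt u0 u0 = 48
    rw [dotInt_self, u0_norm]
  have h2 : dotInt ((U0 : ↥leechLattice) : GolayPt → ℤ) ((b : ↥leechLattice) : GolayPt → ℤ) = 24 :=
    b.2.2
  have h3 : dotInt ((a : ↥leechLattice) : GolayPt → ℤ) ((U0 : ↥leechLattice) : GolayPt → ℤ) = 24 := by
    rw [dotInt_comm]; exact a.2.2
  rw [h1, h2, h3]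
  ring

/-! ### faithfulness -/

theorem faithful (g : ↥G3) (hg : ∀ y : ↥S552, g • y = y) : g = 1 := by
  classical
  apply Subtype.ext
  apply Subtype.ext
  apply Equiv.ext
  intro z
  show g.1.1 z = z
  have key : ∀ (f : ↥leechLattice), g.1 • f = f →
      dotInt (f : GolayPt → ℤ) ((g.1 • z : ↥leechLattice) : GolayPt → ℤ)
        = dotInt (f : GolayPt → ℤ) (z : GolayPt → ℤ) := fun f hf => dot_fix g.1 f z hf
  have e1 := key U0 (G3_fix g)
  change dotInt u0 _ = dotInt u0 _ at e1
  rw [dot_u0, dot_u0] at e1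
  set z' : GolayPt → ℤ := ((g.1 • z : ↥leechLattice) : GolayPt → ℤ) with hz'
  set zz : GolayPt → ℤ := (z : GolayPt → ℤ) with hzz
  have hk : ∀ k : GolayPt, k ≠ none → z' k - zz k = -(z' none - zz none) := by
    intro k hk
    obtain ⟨y, hy⟩ := xA_mem k hk
    have f1 := key y.1 (congrArg Subtype.val (hg y))
    rw [hy, dot_xA, dot_xA] at f1
    omega
  have hsum : ∑ i, (z' i - zz i) = -22 * (z' none - zz none) := by
    have : ∀ i : GolayPt, z' i - zz i
        = if i = none then (z' none - zz none) else -(z' none - zz none) := by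
      intro i
      by_cases h : i = none
      · rw [if_pos h, h]
      · rw [if_neg h]
        exact hk i h
    rw [Finset.sum_congr rfl (fun i _ => this i), Finset.sum_ite, Finset.sum_const,
      Finset.sum_const, nsmul_eq_mul, nsmul_eq_mul]
    have c1 : ((Finset.univ.filter (fun i : GolayPt => i = none)).card : ℤ) = 1 := by
      norm_cast
    have c2 : ((Finset.univ.filter (fun i : GolayPt => ¬ i = none)).card : ℤ) = 23 := by
      norm_cast
    rw [c1, c2]
    ring
  rw [Finset.sum_sub_distrib] at hsum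
  have hd : z' none - zz none = 0 := by omega
  apply Subtype.ext
  funext j
  show z' j = zz j
  by_cases h1 : j = none
  · subst h1; omega
  · have := hk j h1
    omega

/-! ### the point stabiliser -/

/-- the point stabiliser is the joint stabiliser of `U0` and `V0` -/
noncomputable def stabEquiv : ↥(stabilizer ↥G3 x0) ≃* ↥Cfsg.Agent.S0404.G0 where
  toFun a := ⟨a.1.1, a.1.2, congrArg Subtype.val a.2⟩
  invFun b := ⟨⟨b.1, b.2.1⟩, Subtype.ext b.2.2⟩
  left_inv _ := rfl
  right_inv _ := rfl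
  map_mul' _ _ := rfl

theorem simple_stab_x0 : IsSimpleGroup ↥(stabilizer ↥G3 x0) := by
  have := Cfsg.Agent.S0404.simple_G0
  exact stabEquiv.isSimpleGroup


/-! ### normal subgroups are transitive -/

set_option maxRecDepth 100000 in
theorem arith : ∀ J : Finset (Fin 4), (0 : Fin 4) ∈ J → (∑ i ∈ J, msz i) ∣ 552 →
    J = {0} ∨ J = {0, 1} ∨ J = {0, 2} ∨ J = {0, 3} ∨ J = Finset.univ := by
  decide +kernel

theorem cls_fix0 (y : ↥S552) (h : cls y = 0) : y = x0 := by
  have h32 := (cls_eq_iff y).1.mp h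
  rcases cval_cases y with ⟨-, e⟩ | ⟨h', -⟩ | h' | h'
  · exact e
  · omega
  · omega
  · omega

theorem cls_fix1 (y : ↥S552) (h : cls y = 1) : y = w0 := by
  have h8 := (cls_eq_iff y).2.1.mp h
  rcases cval_cases y with ⟨h', -⟩ | ⟨-, e⟩ | h' | h'
  · omega
  · exact e
  · omega
  · omega

theorem e8_mem : (Pi.single none 8 : GolayPt → ℤ) ∈ leechLattice := by
  apply mem_even
  · intro k
    rw [Pi.single_apply]
    split_ifs <;> norm_num
  · rw [Finset.sum_pi_single']
    simp

/-- no element of the group maps every point to its complement -/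
theorem no_swap (z : ↥G3) (hz : ∀ a : ↥S552, z.1 • a.1 = U0 - a.1) : False := by
  classical
  set E : ↥leechLattice := ⟨Pi.single none 8, e8_mem⟩ with hE
  set t : GolayPt → ℤ := ((z.1 • E : ↥leechLattice) : GolayPt → ℤ) with ht
  have hu : dotInt t u0 = 40 := by
    have h := dot_smul z.1 E U0
    rw [G3_fix z] at h
    have h40 : dotInt ((E : ↥leechLattice) : GolayPt → ℤ) ((U0 : ↥leechLattice) : GolayPt → ℤ)
        = 40 := by
      show dotInt (Pi.single none 8) u0 = 40
      rw [dot_single_left]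
      unfold u0
      rw [if_pos rfl]
      norm_num
    exact h.trans h40
  have hk : ∀ k : GolayPt, k ≠ none → 4 * t none + 4 * t k = 8 := by
    intro k hk
    obtain ⟨y, hy⟩ := xA_mem k hk
    have h := dot_smul z.1 E y.1
    rw [hz y, coe_sub', dotInt_sub_right, hy] at h
    have h32 : dotInt ((E : ↥leechLattice) : GolayPt → ℤ) (xA k) = 32 := by
      show dotInt (Pi.single none 8) (xA k) = 32
      rw [dot_single_left]
      unfold xA
      simp only [Pi.add_apply, Pi.single_apply]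
      rw [if_neg hk.symm]
      norm_num
    rw [h32] at h
    have e : dotInt t (xA k) = 4 * t none + 4 * t k := by rw [dotInt_comm, dot_xA]
    change dotInt t u0 - dotInt t (xA k) = 32 at h
    omega
  rw [dotInt_comm, dot_u0] at hu
  have hsum : ∑ i, t i = t none + 23 * (2 - t none) := by
    have : ∀ i : GolayPt, t i = if i = none then t none else 2 - t none := by
      intro i
      by_cases h : i = none
      · rw [if_pos h, h]
      · rw [if_neg h]
        have := hk i h
        omega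
    rw [Finset.sum_congr rfl (fun i _ => this i), Finset.sum_ite, Finset.sum_const,
      Finset.sum_const, nsmul_eq_mul, nsmul_eq_mul]
    have c1 : ((Finset.univ.filter (fun i : GolayPt => i = none)).card : ℤ) = 1 := by
      norm_cast
    have c2 : ((Finset.univ.filter (fun i : GolayPt => ¬ i = none)).card : ℤ) = 23 := by
      norm_cast
    rw [c1, c2]
    ring
  omega

theorem x0_ne_w0 : x0 ≠ w0 := by
  intro h
  have h1 := cval_x0
  rw [h, cval_w0] at h1
  norm_num at h1

theorem normal_trans (N : Subgroup ↥G3) [hN : N.Normal] (hne : N ≠ ⊥) :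
    ∀ y : ↥S552, ∃ n ∈ N, n • x0 = y := by
  obtain ⟨J, hJ0, hJ, hdvd⟩ :=
    Cfsg.Agent.Lib.Helper14.PrimSimple.orbit_normal_fibers trans_S x0 cls cls_trans N
  rw [Finset.sum_congr rfl (fun i _ => ncard_cls i), card_S] at hdvd
  rw [cls_x0] at hJ0
  -- special points
  obtain ⟨pA, hpA⟩ := yRef_mem
  obtain ⟨pB, hpB⟩ := xA_mem (pt 4) (by decide)
  obtain ⟨pC, hpC⟩ := xA_mem (some 1) (by decide)
  have cA : cls pA = 2 := (cls_eq_iff pA).2.2.1.mpr (cval_yRef pA hpA)
  have cB : cls pB = 2 :=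
    (cls_eq_iff pB).2.2.1.mpr (cval_xA pB (pt 4) (by decide) (by decide) hpB)
  have cC : cls pC = 2 :=
    (cls_eq_iff pC).2.2.1.mpr (cval_xA pC (some 1) (by decide) (by decide) hpC)
  have dAB : dotInt ((pA : ↥leechLattice) : GolayPt → ℤ) ((pB : ↥leechLattice) : GolayPt → ℤ)
      = 8 := by
    rw [hpA, hpB, dotInt_comm]
    unfold yRef
    rw [dot_xA_Psi _ _ O0_pts.1, if_neg O0_pts.2.2.2]
    norm_num
  have dAC : dotInt ((pA : ↥leechLattice) : GolayPt → ℤ) ((pC : ↥leechLattice) : GolayPt → ℤ)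
      = 16 := by
    rw [hpA, hpC, dotInt_comm]
    unfold yRef
    rw [dot_xA_Psi _ _ O0_pts.1, if_pos O0_pts.2.2.1]
    norm_num
  -- moving a point of the orbit to the base point
  have hmove : ∀ (k : ↥G3) (a b : ↥S552), k • x0 = a →
      cval (k⁻¹ • b) = dotInt ((a : ↥leechLattice) : GolayPt → ℤ)
        ((b : ↥leechLattice) : GolayPt → ℤ) := by
    intro k a b hka
    have e0 : ((k⁻¹ • b : ↥S552) : ↥leechLattice) = (k.1)⁻¹ • b.1 := rfl
    have h := dot_smul k.1 V0 ((k.1)⁻¹ • b.1)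
    have e1 : k.1 • V0 = a.1 := congrArg Subtype.val hka
    rw [e1, smul_inv_smul] at h
    unfold cval
    rw [e0]
    exact h.symm
  have hblock : ∀ a b : ↥S552, cls a ∈ J → cls b ∈ J →
      ∃ y : ↥S552, cls y ∈ J ∧ cval y = dotInt ((a : ↥leechLattice) : GolayPt → ℤ)
        ((b : ↥leechLattice) : GolayPt → ℤ) := by
    intro a b ha hb
    obtain ⟨n, hn, hna⟩ := (hJ a).mpr ha
    obtain ⟨n', hn', hnb⟩ := (hJ b).mpr hb
    refine ⟨n⁻¹ • b, (hJ _).mp ⟨n⁻¹ * n', N.mul_mem (N.inv_mem hn) hn', ?_⟩, hmove n a b hna⟩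
    rw [mul_smul, hnb]
  rcases arith J hJ0 hdvd with h | h | h | h | h
  · -- the subgroup fixes the base point
    exfalso
    apply hne
    apply Cfsg.Agent.Lib.Helper14.Rank3Simple.eq_bot_of_fix faithful trans_S x0 N
    intro n hn
    have : cls (n • x0) ∈ J := (hJ _).mp ⟨n, hn, rfl⟩
    rw [h, Finset.mem_singleton] at this
    exact cls_fix0 _ this
  · -- blocks of size two
    exfalso
    have hJmem : ∀ y : ↥S552, cls y ∈ J → y = x0 ∨ y = w0 := by
      intro y hy
      rw [h] at hy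
      simp only [Finset.mem_insert, Finset.mem_singleton] at hy
      rcases hy with hy | hy
      · exact Or.inl (cls_fix0 y hy)
      · exact Or.inr (cls_fix1 y hy)
    set H := stabilizer ↥G3 x0 with hH
    have hnorm : (N.subgroupOf H).Normal := inferInstance
    rcases simple_stab_x0.eq_bot_or_eq_top_of_normal (N.subgroupOf H) hnorm with hbot | htop
    · -- the subgroup acts semiregularly
      have hreg : ∀ n ∈ N, n • x0 = x0 → n = 1 := by
        intro n hn hfix
        have hmem : (⟨n, hfix⟩ : H) ∈ N.subgroupOf H := by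
          rw [Subgroup.mem_subgroupOf]; exact hn
        rw [hbot, Subgroup.mem_bot] at hmem
        exact congrArg Subtype.val hmem
      have hw0J : cls w0 ∈ J := by
        rw [h, (cls_eq_iff w0).2.1.mpr cval_w0]
        simp
      obtain ⟨z, hzN, hzw⟩ := (hJ w0).mpr hw0J
      apply no_swap z
      intro a
      obtain ⟨g, hga⟩ := trans_S x0 a
      have hn' : g⁻¹ * z * g ∈ N := by
        have := hN.conj_mem z hzN g⁻¹
        rwa [inv_inv] at this
      have hcl : cls ((g⁻¹ * z * g) • x0) ∈ J := (hJ _).mp ⟨_, hn', rfl⟩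
      rcases hJmem _ hcl with hx | hx
      · exfalso
        have h1 := hreg _ hn' hx
        have hz1 : z = 1 := by
          have := congrArg (fun q => g * q * g⁻¹) h1
          simpa [mul_assoc] using this
        rw [hz1, one_smul] at hzw
        exact x0_ne_w0 hzw
      · rw [mul_smul, mul_smul, hga, inv_smul_eq_iff] at hx
        have e1 : z.1 • a.1 = g.1 • (U0 - V0) := congrArg Subtype.val hx
        rw [e1, smul_sub', G3_fix g]
        congr 1
        exact congrArg Subtype.val hga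
    · -- the point stabiliser lies in the subgroup
      obtain ⟨g, hgx, hgA⟩ := cls_trans pA pC (cA.trans cC.symm)
      have hgN : g ∈ N := by
        have hmem : (⟨g, hgx⟩ : H) ∈ N.subgroupOf H := by
          rw [htop]; exact Subgroup.mem_top _
        rwa [Subgroup.mem_subgroupOf] at hmem
      obtain ⟨k, hk⟩ := trans_S x0 pA
      have hn' : k⁻¹ * g * k ∈ N := by
        have := hN.conj_mem g hgN k⁻¹
        rwa [inv_inv] at this
      have hcl : cls (k⁻¹ • pC) ∈ J := by
        apply (hJ _).mp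
        refine ⟨_, hn', ?_⟩
        rw [mul_smul, mul_smul, hk, hgA]
      have hc : cval (k⁻¹ • pC) = 16 := (hmove k pA pC hk).trans dAC
      have h2 := (cls_eq_iff (k⁻¹ • pC)).2.2.1.mpr hc
      rw [h, h2] at hcl
      revert hcl
      decide
  · -- a block of size 276, first kind
    exfalso
    obtain ⟨y, hy, hc⟩ := hblock pA pB (h ▸ cA ▸ by simp) (h ▸ cB ▸ by simp)
    have h3 := (cls_eq_iff y).2.2.2.mpr (hc.trans dAB)
    rw [h, h3] at hy
    revert hy
    decide
  · -- a block of size 276, second kind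
    exfalso
    have cC' : cls (compl pC) = 3 := by
      apply (cls_eq_iff _).2.2.2.mpr
      rw [cval_compl', (cls_eq_iff pC).2.2.1.mp cC]
      norm_num
    have cA' : cls (compl pA) = 3 := by
      apply (cls_eq_iff _).2.2.2.mpr
      rw [cval_compl', (cls_eq_iff pA).2.2.1.mp cA]
      norm_num
    obtain ⟨y, hy, hc⟩ := hblock (compl pA) (compl pC) (h ▸ cA' ▸ by simp) (h ▸ cC' ▸ by simp)
    rw [dot_compl, dAC] at hc
    have h2 := (cls_eq_iff y).2.2.1.mpr hc
    rw [h, h2] at hy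
    revert hy
    decide
  · intro y
    rw [hJ, h]
    exact Finset.mem_univ _

theorem simple_G3 : IsSimpleGroup ↥G3 := by
  apply Cfsg.Agent.Lib.Helper14.PrimSimple.simple_of_primitive x0
  · intro N hN hne
    exact normal_trans N hne
  · exact simple_stab_x0
  · intro N hN
    rw [card_S] at hN
    haveI : Fact (Nat.Prime 23) := ⟨by norm_num⟩
    refine Cfsg.Agent.Lib.Helper14.CharSub.exists_char_of_card 23 1 24 (by rw [hN]; norm_num)
      ⟨le_rfl, by norm_num⟩ (by norm_num) (by norm_num) ?_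
    intro d hd h23
    have hle : d ≤ 24 := Nat.le_of_dvd (by norm_num) hd
    interval_cases d <;> simp_all

/-- conjugation between stabilisers -/
def conjEquiv1 {Γ : Type*} [Group Γ] {α : Type*} [MulAction Γ α] (k : Γ) (a a' : α)
    (ha : k • a = a') : ↥(stabilizer Γ a) ≃* ↥(stabilizer Γ a') where
  toFun g := ⟨k * g.1 * k⁻¹, by
    have h1 : g.1 • a = a := g.2
    show (k * g.1 * k⁻¹) • a' = a'
    rw [← ha, mul_smul, mul_smul, inv_smul_smul, h1]⟩
  invFun g := ⟨k⁻¹ * g.1 * k, by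
    have h1 : g.1 • a' = a' := g.2
    show (k⁻¹ * g.1 * k) • a = a
    rw [mul_smul, mul_smul, ha, h1, ← ha, inv_smul_smul]⟩
  left_inv g := Subtype.ext (by simp [mul_assoc])
  right_inv g := Subtype.ext (by simp [mul_assoc])
  map_mul' g h := Subtype.ext (by simp [mul_assoc])


/-- Stabiliser of a vector of sum of squares 48 is simple of order 495766656000. -/
theorem result (v : Cfsg.leechLattice) (hv : Cfsg.sqNorm (v : Cfsg.GolayPt → ℤ) = 48) : Cfsg.IsCo3 (MulAction.stabilizer Cfsg.Co0 v) := by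
  obtain ⟨k, hk⟩ := co0_trans48 v U0 hv u0_norm
  have := simple_G3
  refine ⟨(conjEquiv1 k v U0 hk).isSimpleGroup, ?_⟩
  have h := Cfsg.Agent.S0405.card_stab48 v hv
  omega

end Cfsg.Agent.S0403
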