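import Cfsg.Statements.S0402
-- import your own Cfsg.Agent.* helpers here
import Cfsg.Agent.Lib.Helper14.LeechCo2
import Cfsg.Agent.S0404
import Cfsg.Agent.Lib.Helper14.PrimSimple
import Cfsg.Agent.Lib.Helper14.CharSub

set_option autoImplicit false
open Cfsg

namespace Cfsg.Agent.S0402

open Cfsg.Agent.Lib.Helper14.Golay Cfsg.Agent.Lib.Helper14.Leech
  Cfsg.Agent.Lib.Helper14.LeechCount Cfsg.Agent.Lib.Helper14.LeechMinCount
  Cfsg.Agent.Lib.Helper14.LeechOrbit Cfsg.Agent.Lib.Helper14.LeechPairs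
  Cfsg.Agent.Lib.Helper14.LeechHS Cfsg.Agent.Lib.Helper14.LeechMono
  Cfsg.Agent.Lib.Helper14.Co0Center Cfsg.Agent.Lib.Helper14.Co0Order
  Cfsg.Agent.Lib.Helper14.LeechCross Cfsg.Agent.Lib.Helper14.LeechMcL
  Cfsg.Agent.Lib.Helper14.LeechCo2
open Cfsg.Agent.S1578 (u0 u0_mem u0_norm dot_u0)
open Cfsg.Agent.S1584 (U0 V0 permEl)
open Cfsg.Agent.S1634 (smul_add' coe_add' fix_w exists_std)
open Cfsg.Agent.S0403 (smul_sub' coe_sub' conjEquiv1)
open MulAction

/-! ### the order -/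

theorem card_orbit32 (v : ↥leechLattice) (hv : sqNorm (v : GolayPt → ℤ) = 32) :
    Nat.card ↥(orbit ↥Co0 v) = 196560 := by
  have horb : orbit ↥Co0 v = {v' : ↥leechLattice | sqNorm (v' : GolayPt → ℤ) = 32} := by
    ext v'
    constructor
    · rintro ⟨g, rfl⟩
      show sqNorm ((g • v : ↥leechLattice) : GolayPt → ℤ) = 32
      rw [smul_coe, g.2.2, hv]
    · intro hv'
      obtain ⟨g, hg⟩ := co0_trans32 v v' hv hv'
      exact ⟨g, hg⟩
  rw [horb, Nat.card_coe_set_eq, ← Cfsg.Agent.Lib.Helper14.LeechCount.ncard_min,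
    ← Set.ncard_image_of_injective _ Subtype.val_injective]
  congr 1
  ext x
  simp only [Set.mem_image, Set.mem_ofPred_eq, Subtype.exists, exists_and_right, exists_eq_right]
  constructor
  · rintro ⟨hx, h⟩; exact ⟨hx, h⟩
  · rintro ⟨hx, h⟩; exact ⟨hx, h⟩

theorem card_stab32 (v : ↥leechLattice) (hv : sqNorm (v : GolayPt → ℤ) = 32) :
    196560 * Nat.card ↥(stabilizer ↥Co0 v) = 8315553613086720000 := by
  rw [← card_Co0, Subgroup.card_eq_card_quotient_mul_card_subgroup (stabilizer ↥Co0 v),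
    ← Nat.card_congr (orbitEquivQuotientStabilizer ↥Co0 v), card_orbit32 v hv]

/-! ### the standard group and its 47104 points -/

/-- the standard copy of the group -/
noncomputable abbrev G2 : Subgroup ↥Co0 := stabilizer ↥Co0 V0

theorem G2_fix (g : ↥G2) : g.1 • V0 = V0 := g.2

theorem nrm_V0 : nrm V0 = 32 := v0_norm

theorem nrm_U0 : nrm U0 = 48 := u0_norm

theorem ip_U0_V0 : ip U0 V0 = 24 := dot_u0_v0

theorem card_G2 : Nat.card ↥G2 = 42305421312000 := by
  have := card_stab32 V0 v0_norm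
  show Nat.card ↥(stabilizer ↥Co0 V0) = 42305421312000
  omega

instance : Finite ↥G2 := Nat.finite_of_card_ne_zero (by rw [card_G2]; norm_num)

/-- the second fixed vector of the point stabiliser -/
noncomputable def W0 : ↥leechLattice := U0 - V0

theorem nrm_W0 : nrm W0 = 32 := by
  unfold W0
  rw [nrm_sub, nrm_U0, nrm_V0, ip_U0_V0]; norm_num

theorem ip_V0_W0 : ip V0 W0 = -8 := by
  unfold W0
  rw [ip_sub_right, ip_comm, ip_U0_V0, ip_self, nrm_V0]; norm_num

/-- the 47104 points as a `G2`-set -/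
def SX : SubMulAction ↥G2 ↥leechLattice where
  carrier := {x | nrm x = 32 ∧ ip V0 x = -8}
  smul_mem' := by
    rintro g x ⟨h1, h2⟩
    refine ⟨?_, ?_⟩
    · show nrm (g.1 • x) = 32
      rw [nrm_smul, h1]
    · show ip V0 (g.1 • x) = -8
      rw [ip_fix g.1 V0 x (G2_fix g), h2]

theorem W0_mem : W0 ∈ SX := ⟨nrm_W0, ip_V0_W0⟩

/-- the base point -/
noncomputable def x0 : ↥SX := ⟨W0, W0_mem⟩

theorem smul_val (g : ↥G2) (y : ↥SX) : ((g • y : ↥SX) : ↥leechLattice) = g.1 • y.1 := rfl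

theorem trans_S (x y : ↥SX) : ∃ g : ↥G2, g • x = y := by
  obtain ⟨a, a1, a2⟩ := pair8 V0 x.1 v0_norm x.2.1 x.2.2
  obtain ⟨b, b1, b2⟩ := pair8 V0 y.1 v0_norm y.2.1 y.2.2
  refine ⟨⟨b⁻¹ * a, ?_⟩, ?_⟩
  · show (b⁻¹ * a) • V0 = V0
    rw [mul_smul, inv_smul_eq_iff]
    exact Subtype.ext (a1.trans b1.symm)
  · apply Subtype.ext
    show (b⁻¹ * a) • x.1 = y.1
    rw [mul_smul, inv_smul_eq_iff]
    exact Subtype.ext (a2.trans b2.symm)

/-! ### the point stabiliser -/

/-- the point stabiliser is the joint stabiliser of `U0` and `V0` -/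
noncomputable def stabEquiv : ↥(stabilizer ↥G2 x0) ≃* ↥Cfsg.Agent.S0404.G0 where
  toFun a := ⟨a.1.1, by
    have h1 : a.1.1 • V0 = V0 := a.1.2
    have h2 : a.1.1 • W0 = W0 := congrArg Subtype.val a.2
    refine ⟨?_, h1⟩
    show a.1.1 • U0 = U0
    have hU : U0 = W0 + V0 := by unfold W0; abel
    rw [hU, smul_add', h1, h2]⟩
  invFun b := ⟨⟨b.1, b.2.2⟩, by
    apply Subtype.ext
    show b.1 • W0 = W0
    have h1 : b.1 • U0 = U0 := b.2.1
    have h2 : b.1 • V0 = V0 := b.2.2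
    unfold W0
    rw [smul_sub', h1, h2]⟩
  left_inv _ := rfl
  right_inv _ := rfl
  map_mul' _ _ := rfl

theorem simple_stab_x0 : IsSimpleGroup ↥(stabilizer ↥G2 x0) := by
  have := Cfsg.Agent.S0404.simple_G0
  exact stabEquiv.isSimpleGroup

theorem card_S : Nat.card ↥SX = 47104 := by
  have h1 : orbit ↥G2 x0 = Set.univ := by
    ext y
    simp only [Set.mem_univ, iff_true]
    obtain ⟨g, hg⟩ := trans_S x0 y
    exact ⟨g, hg⟩
  have h2 : Nat.card (orbit ↥G2 x0) = Nat.card ↥SX := by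
    rw [h1, Nat.card_congr (Equiv.Set.univ _)]
  have h3 := Subgroup.card_eq_card_quotient_mul_card_subgroup (stabilizer ↥G2 x0)
  rw [← Nat.card_congr (orbitEquivQuotientStabilizer ↥G2 x0), h2, card_G2,
    Nat.card_congr stabEquiv.toEquiv, Cfsg.Agent.S0404.card_G0] at h3
  omega

instance : Finite ↥SX := Nat.finite_of_card_ne_zero (by rw [card_S]; norm_num)

/-! ### the classes -/

/-- the inner product with the base point -/
noncomputable def cval (y : ↥SX) : ℤ := ip W0 y.1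

theorem cval_cases (y : ↥SX) : (cval y = 32 ∧ y = x0) ∨ cval y = 16 ∨ cval y = 8 ∨ cval y = 0 ∨
    cval y = -8 ∨ cval y = -16 := by
  rcases ip_cases V0 W0 y.1 nrm_W0 y.2.1 ip_V0_W0 y.2.2 with ⟨h, e⟩ | h | h | h | h | h
  · exact Or.inl ⟨h, Subtype.ext e⟩
  · exact Or.inr (Or.inl h)
  · exact Or.inr (Or.inr (Or.inl h))
  · exact Or.inr (Or.inr (Or.inr (Or.inl h)))
  · exact Or.inr (Or.inr (Or.inr (Or.inr (Or.inl h))))
  · exact Or.inr (Or.inr (Or.inr (Or.inr (Or.inr h))))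

theorem cval_x0 : cval x0 = 32 := by
  show ip W0 W0 = 32
  rw [ip_self, nrm_W0]

/-- the class of a point -/
noncomputable def cls (y : ↥SX) : Fin 6 :=
  if cval y = 32 then 0 else if cval y = 16 then 1 else if cval y = 8 then 2
  else if cval y = 0 then 3 else if cval y = -8 then 4 else 5

theorem cls_x0 : cls x0 = 0 := by
  unfold cls
  rw [if_pos cval_x0]

theorem cls_eq_iff (y : ↥SX) :
    (cls y = 0 ↔ cval y = 32) ∧ (cls y = 1 ↔ cval y = 16) ∧ (cls y = 2 ↔ cval y = 8) ∧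
      (cls y = 3 ↔ cval y = 0) ∧ (cls y = 4 ↔ cval y = -8) ∧ (cls y = 5 ↔ cval y = -16) := by
  unfold cls
  rcases cval_cases y with ⟨h, -⟩ | h | h | h | h | h <;> rw [h] <;> simp <;> decide

theorem cval_eq_of_cls (y y' : ↥SX) (h : cls y = cls y') : cval y = cval y' := by
  obtain ⟨a0, a1, a2, a3, a4, a5⟩ := cls_eq_iff y
  obtain ⟨b0, b1, b2, b3, b4, b5⟩ := cls_eq_iff y'
  rcases cval_cases y with ⟨hy, -⟩ | hy | hy | hy | hy | hy
  · rw [hy, b0.mp (h ▸ a0.mpr hy)]
  · rw [hy, b1.mp (h ▸ a1.mpr hy)]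
  · rw [hy, b2.mp (h ▸ a2.mpr hy)]
  · rw [hy, b3.mp (h ▸ a3.mpr hy)]
  · rw [hy, b4.mp (h ▸ a4.mpr hy)]
  · rw [hy, b5.mp (h ▸ a5.mpr hy)]

theorem cls_fix (y : ↥SX) (h : cls y = cls x0) : y = x0 := by
  rw [cls_x0] at h
  have h32 := (cls_eq_iff y).1.mp h
  rcases cval_cases y with ⟨-, e⟩ | h' | h' | h' | h' | h'
  · exact e
  all_goals omega

theorem cls_trans (y y' : ↥SX) (h : cls y = cls y') :
    ∃ g : ↥G2, g • x0 = x0 ∧ g • y = y' := by
  have hc := cval_eq_of_cls y y' h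
  obtain ⟨a, a1, a2, a3⟩ := trans_all V0 W0 y.1 y'.1 nrm_V0 nrm_W0 y.2.1 y'.2.1 ip_V0_W0
    y.2.2 y'.2.2 hc
  exact ⟨⟨a, a1⟩, Subtype.ext a2, Subtype.ext a3⟩

/-! ### the class sizes -/

/-- the inner product with `U0` -/
theorem ip_U0_eq (y : ↥SX) : ip U0 y.1 = cval y - 8 := by
  unfold cval W0
  rw [ip_sub_left, y.2.2]; ring

theorem ncard_cval_b (c b : ℤ) (hb : b = c - 8) : {y : ↥SX | cval y = c}.ncard
    = {x : ↥leechLattice | sqNorm (x : GolayPt → ℤ) = 32 ∧ pXb b (x : GolayPt → ℤ)}.ncard := by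
  rw [← Set.ncard_image_of_injective {y : ↥SX | cval y = c} Subtype.val_injective]
  congr 1
  ext z
  simp only [Set.mem_image, Set.mem_ofPred_eq]
  constructor
  · rintro ⟨y, hy, rfl⟩
    refine ⟨y.2.1, y.2.2, ?_⟩
    have := ip_U0_eq y
    rw [hy] at this
    rw [hb]
    exact this
  · rintro ⟨h1, h2, h3⟩
    refine ⟨⟨z, h1, h2⟩, ?_, rfl⟩
    have := ip_U0_eq ⟨z, h1, h2⟩
    have h3' : ip U0 z = b := h3
    rw [h3'] at this
    omega

theorem ncard_16 : {y : ↥SX | cval y = 16}.ncard = 2025 := by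
  rw [← countX]
  refine Set.ncard_congr (fun y _ => W0 - y.1) ?_ ?_ ?_
  · intro y hy
    have hy' : ip W0 y.1 = 16 := hy
    refine ⟨?_, ?_, ?_⟩
    · show nrm (W0 - y.1) = 32
      rw [nrm_sub, nrm_W0, y.2.1, hy']; norm_num
    · show ip V0 (W0 - y.1) = 0
      rw [ip_sub_right, ip_V0_W0, y.2.2]; norm_num
    · show ip U0 (W0 - y.1) = 16
      have := ip_U0_eq y
      rw [show cval y = 16 from hy] at this
      have hUW : ip U0 W0 = 24 := by
        unfold W0
        rw [ip_sub_right, ip_self, nrm_U0, ip_U0_V0]; norm_num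
      rw [ip_sub_right, hUW, this]; norm_num
  · intro a b _ _ h
    exact Subtype.ext (sub_right_injective h)
  · rintro z ⟨h1, h2, h3⟩
    have h1' : nrm z = 32 := h1
    have h2' : ip V0 z = 0 := h2
    have h3' : ip U0 z = 16 := h3
    have hWz : ip W0 z = 16 := by
      unfold W0
      rw [ip_sub_left, h3', h2']; norm_num
    refine ⟨⟨W0 - z, ?_, ?_⟩, ?_, by simp⟩
    · show nrm (W0 - z) = 32
      rw [nrm_sub, nrm_W0, h1', hWz]; norm_num
    · show ip V0 (W0 - z) = -8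
      rw [ip_sub_right, ip_V0_W0, h2']; norm_num
    · show ip W0 (W0 - z) = 16
      rw [ip_sub_right, ip_self, nrm_W0, hWz]; norm_num

theorem ncard_m16 : {y : ↥SX | cval y = -16}.ncard = 275 := by
  have hvv : sqNorm ((V0 : ↥leechLattice) : GolayPt → ℤ) = 32 ∧
      sqNorm (((U0 : ↥leechLattice) : GolayPt → ℤ) - ((V0 : ↥leechLattice) : GolayPt → ℤ))
        = 32 := ⟨v0_norm, (sub_norm_iff u0 v0 u0_norm v0_norm).mpr dot_u0_v0⟩
  rw [← (Cfsg.Agent.S1580.result U0 V0 u0_norm hvv).1]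
  refine Set.ncard_congr (fun y _ => U0 + y.1) ?_ ?_ ?_
  · intro y hy
    have hU := ip_U0_eq y
    rw [show cval y = -16 from hy] at hU
    apply (Cfsg.Agent.S1580.mem_iff U0 V0 _ u0_norm).mpr
    refine ⟨?_, ?_, ?_⟩
    · show nrm (U0 + y.1) = 32
      rw [nrm_add, nrm_U0, y.2.1, hU]; norm_num
    · show ip U0 (U0 + y.1) = 24
      rw [ip_add_right, ip_self, nrm_U0, hU]; norm_num
    · show ip V0 (U0 + y.1) = 16
      rw [ip_add_right, ip_comm, ip_U0_V0, y.2.2]; norm_num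
  · intro a b _ _ h
    exact Subtype.ext (add_left_cancel h)
  · intro z hz
    obtain ⟨h1, h2, h3⟩ := (Cfsg.Agent.S1580.mem_iff U0 V0 z u0_norm).mp hz
    have h1' : nrm z = 32 := h1
    have h2' : ip U0 z = 24 := h2
    have h3' : ip V0 z = 16 := h3
    have hm : z - U0 ∈ SX := by
      refine ⟨?_, ?_⟩
      · show nrm (z - U0) = 32
        rw [nrm_sub, h1', nrm_U0, ip_comm, h2']; norm_num
      · show ip V0 (z - U0) = -8
        rw [ip_sub_right, h3', ip_comm, ip_U0_V0]; norm_num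
    refine ⟨⟨z - U0, hm⟩, ?_, by simp⟩
    show ip W0 (z - U0) = -16
    unfold W0
    rw [ip_sub_left, ip_sub_right, ip_sub_right, h2', ip_self, nrm_U0, h3', ip_comm V0 U0,
      ip_U0_V0]
    norm_num

/-- the class sizes -/
def msz : Fin 6 → ℕ := ![1, 2025, 15400, 22275, 7128, 275]

theorem ncard_cls (i : Fin 6) : {y : ↥SX | cls y = i}.ncard = msz i := by
  fin_cases i
  · have : {y : ↥SX | cls y = (0 : Fin 6)} = {x0} := by
      ext y
      simp only [Set.mem_ofPred_eq, Set.mem_singleton_iff]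
      constructor
      · intro h
        exact cls_fix y (h.trans cls_x0.symm)
      · rintro rfl
        exact cls_x0
    show {y : ↥SX | cls y = (0 : Fin 6)}.ncard = 1
    rw [this, Set.ncard_singleton]
  · show {y : ↥SX | cls y = (1 : Fin 6)}.ncard = 2025
    rw [← ncard_16]
    congr 1
    ext y
    exact (cls_eq_iff y).2.1
  · show {y : ↥SX | cls y = (2 : Fin 6)}.ncard = 15400
    rw [← countXb0, ← ncard_cval_b 8 0 (by norm_num)]
    congr 1
    ext y
    exact (cls_eq_iff y).2.2.1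
  · show {y : ↥SX | cls y = (3 : Fin 6)}.ncard = 22275
    rw [← countXb8, ← ncard_cval_b 0 (-8) (by norm_num)]
    congr 1
    ext y
    exact (cls_eq_iff y).2.2.2.1
  · show {y : ↥SX | cls y = (4 : Fin 6)}.ncard = 7128
    rw [← countXb16, ← ncard_cval_b (-8) (-16) (by norm_num)]
    congr 1
    ext y
    exact (cls_eq_iff y).2.2.2.2.1
  · show {y : ↥SX | cls y = (5 : Fin 6)}.ncard = 275
    rw [← ncard_m16]
    congr 1
    ext y
    exact (cls_eq_iff y).2.2.2.2.2

set_option maxRecDepth 100000 in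
theorem arith : ∀ J : Finset (Fin 6), (0 : Fin 6) ∈ J → (∑ i ∈ J, msz i) ∣ 47104 →
    J = {0} ∨ J = Finset.univ := by
  decide +kernel

/-! ### faithfulness -/

theorem faithful (g : ↥G2) (hg : ∀ y : ↥SX, g • y = y) : g = 1 := by
  have hW : g.1 • W0 = W0 := congrArg Subtype.val (hg x0)
  have hV : g.1 • V0 = V0 := G2_fix g
  have hU : g.1 • U0 = U0 := by
    have hU : U0 = W0 + V0 := by unfold W0; abel
    rw [hU, smul_add', hV, hW]
  -- the element lies in the stabiliser of `U0` and `V0` and fixes the 2025 points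
  set b : ↥Cfsg.Agent.S0404.G0 := ⟨g.1, hU, hV⟩ with hb
  have hb1 : b = 1 := by
    apply Cfsg.Agent.S0404.faithful
    intro T
    apply Subtype.ext
    show g.1 • T.1 = T.1
    have hT1 : nrm T.1 = 32 := T.2.1
    have hT2 : ip V0 T.1 = 0 := T.2.2.1
    have hT3 : ip U0 T.1 = 16 := T.2.2.2
    have hWT : ip W0 T.1 = 16 := by
      unfold W0
      rw [ip_sub_left, hT3, hT2]; norm_num
    have hm : W0 - T.1 ∈ SX := by
      refine ⟨?_, ?_⟩
      · show nrm (W0 - T.1) = 32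
        rw [nrm_sub, nrm_W0, hT1, hWT]; norm_num
      · show ip V0 (W0 - T.1) = -8
        rw [ip_sub_right, ip_V0_W0, hT2]; norm_num
    have h := congrArg Subtype.val (hg ⟨W0 - T.1, hm⟩)
    change g.1 • (W0 - T.1) = W0 - T.1 at h
    rw [smul_sub', hW] at h
    exact sub_right_injective h
  apply Subtype.ext
  have := congrArg (fun q : ↥Cfsg.Agent.S0404.G0 => (q.1 : ↥Co0)) hb1
  exact this

/-! ### simplicity -/

theorem simple_G2 : IsSimpleGroup ↥G2 := by
  apply Cfsg.Agent.Lib.Helper14.PrimSimple.simple_of_primitive x0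
  · intro N hN hne
    refine Cfsg.Agent.Lib.Helper14.PrimSimple.normal_transitive_of_fibers faithful trans_S x0 cls
      msz ncard_cls cls_fix cls_trans ?_ N hne
    rw [card_S, cls_x0]
    exact arith
  · exact simple_stab_x0
  · intro N hN
    rw [card_S] at hN
    haveI : Fact (Nat.Prime 23) := ⟨by norm_num⟩
    refine Cfsg.Agent.Lib.Helper14.CharSub.exists_char_of_card 23 1 2048 (by rw [hN]; norm_num)
      ⟨le_rfl, by norm_num⟩ (by norm_num) (by norm_num) ?_
    intro d hd h23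
    have h2 : d ∣ 2 ^ 11 := by norm_num; exact hd
    obtain ⟨k, hk, rfl⟩ := (Nat.dvd_prime_pow Nat.prime_two).mp h2
    interval_cases k <;> simp_all

/-- Stabiliser of a minimal vector is simple of order 42305421312000. -/
theorem result (v : Cfsg.leechLattice) (hv : Cfsg.sqNorm (v : Cfsg.GolayPt → ℤ) = 32) : Cfsg.IsCo2 (MulAction.stabilizer Cfsg.Co0 v) := by
  obtain ⟨k, hk⟩ := co0_trans32 v V0 hv v0_norm
  have := simple_G2
  refine ⟨(conjEquiv1 k v V0 hk).isSimpleGroup, ?_⟩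
  have h := card_stab32 v hv
  omega

end Cfsg.Agent.S0402
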