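import Cfsg.Statements.S1573
-- import your own Cfsg.Agent.* helpers here
import Cfsg.Agent.Lib.Helper14.LeechMinCount
import Cfsg.Agent.Lib.Helper14.LeechOrbit

set_option autoImplicit false
open Cfsg

namespace Cfsg.Agent.S1573

open Cfsg.Agent.Lib.Helper14.LeechCount Cfsg.Agent.Lib.Helper14.LeechMinCount
  Cfsg.Agent.Lib.Helper14.LeechOrbit
open Cfsg.Agent.Lib.Helper3.Golay (wordOf codeMask pc24 bitSet)

/-- the reference vector `4 e_∞ + 4 e_0` -/
def v0 : GolayPt → ℤ := fun i => (if i = none then 4 else 0) + (if i = some 0 then 4 else 0)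

theorem v0_mem : v0 ∈ leechLattice := mem_even _ (by decide) (by decide)

theorem v0_norm : sqNorm v0 = 32 := by decide +kernel

theorem dot_v0 (x : GolayPt → ℤ) : dotInt v0 x = 4 * x none + 4 * x (some 0) :=
  dot_two none (some 0) 4 4 x

set_option maxRecDepth 100000 in
theorem hN : ∀ α β : ZMod 2,
    (Cf.filter (fun w => w none = α ∧ w (some 0) = β)).card = 1024 := by
  intro α β
  rw [card_Cf_filter]
  revert α β
  decide +kernel

theorem hp (c : ℤ) (T U : Finset GolayPt) :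
    (4 * Psi 2 ⟨T, U⟩ none + 4 * Psi 2 ⟨T, U⟩ (some 0) = c) ↔
      (4 * Psi 2 ⟨T, U ∩ {none, some 0}⟩ none + 4 * Psi 2 ⟨T, U ∩ {none, some 0}⟩ (some 0) = c) := by
  simp only [Psi_apply, Finset.mem_inter, Finset.mem_insert, Finset.mem_singleton, true_or, or_true,
    and_true]

set_option maxRecDepth 100000 in
theorem cO : ∀ c ∈ ({-16, -8, 0} : Finset ℤ),
    (∑ j : GolayPt, ∑ α : ZMod 2, ∑ β : ZMod 2,
      (if 4 * phi j none α + 4 * phi j (some 0) β = c then 1 else 0) * 1024)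
      = if c = -16 then 2048 else if c = -8 then 24576 else 45056 := by
  decide +kernel

set_option maxRecDepth 100000 in
theorem c2 : ∀ c ∈ ({-16, -8, 0} : Finset ℤ),
    sumBelow 4096 (fun k => if pc24 (codeMask k) = 8 then
          ∑ B ∈ (bitSet (codeMask k) ∩ {none, some 0}).powerset,
            (if 4 * Psi 2 ⟨bitSet (codeMask k), B⟩ none + 4 * Psi 2 ⟨bitSet (codeMask k), B⟩ (some 0) = c
              then 2 ^ (7 - (bitSet (codeMask k) ∩ {none, some 0}).card) else 0)
          else 0)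
      = if c = -16 then 2464 else if c = -8 then 22528 else 47168 := by
  decide +kernel

set_option maxRecDepth 100000 in
theorem c4 : ∀ c ∈ ({-16, -8, 0} : Finset ℤ),
    (P4.filter (fun q => 4 * Psi 4 q none + 4 * Psi 4 q (some 0) = c)).card
      = if c = -16 then 88 else if c = -8 then 0 else 926 := by
  decide +kernel

theorem count0 (c : ℤ) (hc : c ∈ ({-16, -8, 0} : Finset ℤ)) :
    {w : GolayPt → ℤ | w ∈ leechLattice ∧ sqNorm w = 32 ∧ dotInt v0 w = c}.ncard
      = if c = -16 then 4600 else if c = -8 then 47104 else 93150 := by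
  have hset : {w : GolayPt → ℤ | w ∈ leechLattice ∧ sqNorm w = 32 ∧ dotInt v0 w = c}
      = {w : GolayPt → ℤ | w ∈ leechLattice ∧ sqNorm w = 32 ∧ 4 * w none + 4 * w (some 0) = c} := by
    simp only [dot_v0]
  rw [hset, ncard_min_filter (fun x => 4 * x none + 4 * x (some 0) = c)]
  have e1 : (PO.filter (fun q => 4 * PhiO q none + 4 * PhiO q (some 0) = c)).card = _ :=
    card_PO_filter none (some 0) 1024 hN (fun x y => 4 * x + 4 * y = c)
  have e2 : (P2.filter (fun q => 4 * f2 q none + 4 * f2 q (some 0) = c)).card = _ :=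
    card_P2_filter {none, some 0} (by decide) (fun x => 4 * x none + 4 * x (some 0) = c) (hp c)
  rw [e1, e2, cO c hc, c2 c hc, c4 c hc]
  simp only [Finset.mem_insert, Finset.mem_singleton] at hc
  rcases hc with rfl | rfl | rfl <;> norm_num

/-- Census of minimal vectors by inner product with a fixed minimal vector: 4600 have customary inner product −2, 47104 have −1, and 93150 are orthogonal. -/
theorem result (v : Cfsg.GolayPt → ℤ) (hv : v ∈ Cfsg.leechLattice) (hvn : Cfsg.sqNorm v = 32) : {w : Cfsg.GolayPt → ℤ | w ∈ Cfsg.leechLattice ∧ Cfsg.sqNorm w = 32 ∧ Cfsg.dotInt v w = -16}.ncard = 4600 ∧ {w : Cfsg.GolayPt → ℤ | w ∈ Cfsg.leechLattice ∧ Cfsg.sqNorm w = 32 ∧ Cfsg.dotInt v w = -8}.ncard = 47104 ∧ {w : Cfsg.GolayPt → ℤ | w ∈ Cfsg.leechLattice ∧ Cfsg.sqNorm w = 32 ∧ Cfsg.dotInt v w = 0}.ncard = 93150 := by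
  obtain ⟨g, hg⟩ := co0_trans32 ⟨v0, v0_mem⟩ ⟨v, hv⟩ v0_norm hvn
  have h := fun c => ncard_dot_congr ⟨v, hv⟩ ⟨v0, v0_mem⟩ g hg 32 c
  refine ⟨?_, ?_, ?_⟩
  · rw [h (-16)]
    exact count0 (-16) (by decide)
  · rw [h (-8)]
    exact count0 (-8) (by decide)
  · rw [h 0]
    exact count0 0 (by decide)

end Cfsg.Agent.S1573
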