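import Cfsg.Statements.S0399
-- import your own Cfsg.Agent.* helpers here
import Cfsg.Agent.S0402
import Cfsg.Agent.S1573
import Cfsg.Agent.Lib.Helper14.RegularCount
import Cfsg.Agent.Lib.Helper21.Frobenius

set_option autoImplicit false
open Cfsg

namespace Cfsg.Agent.S0399

open Cfsg.Agent.Lib.Helper14.Golay Cfsg.Agent.Lib.Helper14.Leech
  Cfsg.Agent.Lib.Helper14.LeechCount Cfsg.Agent.Lib.Helper14.LeechMinCount
  Cfsg.Agent.Lib.Helper14.LeechOrbit Cfsg.Agent.Lib.Helper14.LeechPairs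
  Cfsg.Agent.Lib.Helper14.LeechHS Cfsg.Agent.Lib.Helper14.LeechMono
  Cfsg.Agent.Lib.Helper14.Co0Center Cfsg.Agent.Lib.Helper14.Co0Order
  Cfsg.Agent.Lib.Helper14.LeechCross Cfsg.Agent.Lib.Helper14.LeechMcL
  Cfsg.Agent.Lib.Helper14.LeechCo2
open Cfsg.Agent.S1584 (V0)
open Cfsg.Agent.S1634 (smul_add' coe_add')
open Cfsg.Agent.S0403 (smul_sub' coe_sub')
open Cfsg.Agent.S0402 (G2 simple_G2 nrm_V0 card_orbit32)
open MulAction

/-! ### negation -/

theorem coe_neg' (a : ↥leechLattice) :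
    ((-a : ↥leechLattice) : GolayPt → ℤ) = -(a : GolayPt → ℤ) := rfl

theorem nrm_neg (a : ↥leechLattice) : nrm (-a) = nrm a := by
  unfold nrm; rw [coe_neg', sqNorm_neg]

theorem ip_neg_right (a b : ↥leechLattice) : ip a (-b) = -ip a b := by
  unfold ip; rw [coe_neg', dotInt_neg_right]

theorem ip_neg_left (a b : ↥leechLattice) : ip (-a) b = -ip a b := by
  rw [ip_comm, ip_neg_right, ip_comm]

theorem smul_neg' (g : ↥Co0) (a : ↥leechLattice) : g • (-a) = -(g • a) :=
  co0_map_neg g.1 g.2 a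

theorem negC_smul (a : ↥leechLattice) : negC • a = -a := rfl

/-! ### the minimal vectors as a `Co0`-set -/

/-- the 196560 minimal vectors -/
def MV : SubMulAction ↥Co0 ↥leechLattice where
  carrier := {x | nrm x = 32}
  smul_mem' := by
    intro g x h
    show nrm (g • x) = 32
    rw [nrm_smul]; exact h

/-- the base point -/
noncomputable def x0 : ↥MV := ⟨V0, nrm_V0⟩

theorem smul_val (g : ↥Co0) (y : ↥MV) : ((g • y : ↥MV) : ↥leechLattice) = g • y.1 := rfl

theorem trans_MV (x y : ↥MV) : ∃ g : ↥Co0, g • x = y := by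
  obtain ⟨g, hg⟩ := co0_trans32 x.1 y.1 x.2 y.2
  exact ⟨g, Subtype.ext hg⟩

theorem card_MV : Nat.card ↥MV = 196560 := by
  rw [← card_orbit32 V0 v0_norm]
  refine Nat.card_congr (Equiv.subtypeEquivRight fun x => ?_)
  constructor
  · intro hx
    obtain ⟨g, hg⟩ := co0_trans32 V0 x v0_norm hx
    exact ⟨g, hg⟩
  · rintro ⟨g, rfl⟩
    show nrm (g • V0) = 32
    rw [nrm_smul]; exact nrm_V0

instance : Finite ↥MV := Nat.finite_of_card_ne_zero (by rw [card_MV]; norm_num)

/-! ### the classes -/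

theorem ip_V0_cases (y : ↥leechLattice) (hy : nrm y = 32) :
    (ip V0 y = 32 ∧ y = V0) ∨ ip V0 y = 16 ∨ ip V0 y = 8 ∨ ip V0 y = 0 ∨ ip V0 y = -8 ∨
      ip V0 y = -16 ∨ (ip V0 y = -32 ∧ y = -V0) := by
  obtain ⟨h8, hle⟩ := Cfsg.Agent.S0403.dot_bound V0 y nrm_V0 hy
  change (8 : ℤ) ∣ ip V0 y at h8
  change V0 = y ∨ ip V0 y ≤ 16 at hle
  by_cases hz : V0 + y = 0
  · have hyv : y = -V0 := eq_neg_of_add_eq_zero_right hz
    refine Or.inr (Or.inr (Or.inr (Or.inr (Or.inr (Or.inr ⟨?_, hyv⟩)))))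
    rw [hyv, ip_neg_right, ip_self, nrm_V0]
  · have hne : ((V0 + y : ↥leechLattice) : GolayPt → ℤ) ≠ 0 := fun h => hz (Subtype.ext h)
    have h32 := thirtytwo_le_sqNorm_lattice _ (V0 + y).2 hne
    change 32 ≤ nrm (V0 + y) at h32
    rw [nrm_add, nrm_V0, hy] at h32
    rcases hle with hle | hle
    · left
      subst hle
      exact ⟨by rw [ip_self, nrm_V0], rfl⟩
    · have : ip V0 y = 16 ∨ ip V0 y = 8 ∨ ip V0 y = 0 ∨ ip V0 y = -8 ∨ ip V0 y = -16 := by
        obtain ⟨t, ht⟩ := h8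
        have h1 : -2 ≤ t := by omega
        have h2 : t ≤ 2 := by omega
        interval_cases t <;> omega
      rcases this with h | h | h | h | h <;> simp [h]

/-- the inner product with the base point -/
noncomputable def cval (y : ↥MV) : ℤ := ip V0 y.1

theorem cval_cases (y : ↥MV) : (cval y = 32 ∧ y = x0) ∨ cval y = 16 ∨ cval y = 8 ∨ cval y = 0 ∨
    cval y = -8 ∨ cval y = -16 ∨ (cval y = -32 ∧ y.1 = -V0) := by
  rcases ip_V0_cases y.1 y.2 with ⟨h, e⟩ | h | h | h | h | h | ⟨h, e⟩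
  · exact Or.inl ⟨h, Subtype.ext e⟩
  · exact Or.inr (Or.inl h)
  · exact Or.inr (Or.inr (Or.inl h))
  · exact Or.inr (Or.inr (Or.inr (Or.inl h)))
  · exact Or.inr (Or.inr (Or.inr (Or.inr (Or.inl h))))
  · exact Or.inr (Or.inr (Or.inr (Or.inr (Or.inr (Or.inl h)))))
  · exact Or.inr (Or.inr (Or.inr (Or.inr (Or.inr (Or.inr ⟨h, e⟩)))))

theorem cval_x0 : cval x0 = 32 := by
  show ip V0 V0 = 32
  rw [ip_self, nrm_V0]

theorem eq_x0_of_cval (y : ↥MV) (h : cval y = 32) : y = x0 := by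
  rcases cval_cases y with ⟨-, e⟩ | h' | h' | h' | h' | h' | ⟨h', -⟩
  · exact e
  all_goals omega

theorem eq_neg_of_cval (y : ↥MV) (h : cval y = -32) : y.1 = -V0 := by
  rcases cval_cases y with ⟨h', -⟩ | h' | h' | h' | h' | h' | ⟨-, e⟩
  · omega
  · omega
  · omega
  · omega
  · omega
  · omega
  · exact e

/-- the class of a point -/
noncomputable def cls (y : ↥MV) : Fin 7 :=
  if cval y = 32 then 0 else if cval y = 16 then 1 else if cval y = 8 then 2
  else if cval y = 0 then 3 else if cval y = -8 then 4 else if cval y = -16 then 5 else 6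

theorem cls_x0 : cls x0 = 0 := by
  unfold cls
  rw [if_pos cval_x0]

theorem cls_eq_iff (y : ↥MV) :
    (cls y = 0 ↔ cval y = 32) ∧ (cls y = 1 ↔ cval y = 16) ∧ (cls y = 2 ↔ cval y = 8) ∧
      (cls y = 3 ↔ cval y = 0) ∧ (cls y = 4 ↔ cval y = -8) ∧ (cls y = 5 ↔ cval y = -16) ∧
      (cls y = 6 ↔ cval y = -32) := by
  unfold cls
  rcases cval_cases y with ⟨h, -⟩ | h | h | h | h | h | ⟨h, -⟩ <;> rw [h] <;> simp <;> decide

theorem cval_eq_of_cls (y y' : ↥MV) (h : cls y = cls y') : cval y = cval y' := by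
  obtain ⟨a0, a1, a2, a3, a4, a5, a6⟩ := cls_eq_iff y
  obtain ⟨b0, b1, b2, b3, b4, b5, b6⟩ := cls_eq_iff y'
  rcases cval_cases y with ⟨hy, -⟩ | hy | hy | hy | hy | hy | ⟨hy, -⟩
  · rw [hy, b0.mp (h ▸ a0.mpr hy)]
  · rw [hy, b1.mp (h ▸ a1.mpr hy)]
  · rw [hy, b2.mp (h ▸ a2.mpr hy)]
  · rw [hy, b3.mp (h ▸ a3.mpr hy)]
  · rw [hy, b4.mp (h ▸ a4.mpr hy)]
  · rw [hy, b5.mp (h ▸ a5.mpr hy)]
  · rw [hy, b6.mp (h ▸ a6.mpr hy)]

/-! ### transitivity of the point stabiliser on the classes -/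

theorem trans_low (y y' : ↥leechLattice) (hy : nrm y = 32) (hy' : nrm y' = 32) (c : ℤ)
    (hc : c = 0 ∨ c = -8 ∨ c = -16) (h1 : ip V0 y = c) (h2 : ip V0 y' = c) :
    ∃ g : ↥Co0, g • V0 = V0 ∧ g • y = y' := by
  have key : ∀ a b : ↥Co0, ∀ f w : GolayPt → ℤ,
      ((a • V0 : ↥leechLattice) : GolayPt → ℤ) = f →
      ((a • y : ↥leechLattice) : GolayPt → ℤ) = w →
      ((b • V0 : ↥leechLattice) : GolayPt → ℤ) = f →
      ((b • y' : ↥leechLattice) : GolayPt → ℤ) = w →
      ∃ g : ↥Co0, g • V0 = V0 ∧ g • y = y' := by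
    intro a b f w a1 a2 b1 b2
    refine ⟨b⁻¹ * a, ?_, ?_⟩
    · rw [mul_smul, inv_smul_eq_iff]; exact Subtype.ext (a1.trans b1.symm)
    · rw [mul_smul, inv_smul_eq_iff]; exact Subtype.ext (a2.trans b2.symm)
  rcases hc with rfl | rfl | rfl
  · obtain ⟨a, a1, a2⟩ := orth_normal V0 y v0_norm hy h1
    obtain ⟨b, b1, b2⟩ := orth_normal V0 y' v0_norm hy' h2
    exact key a b _ _ a1 a2 b1 b2
  · obtain ⟨a, a1, a2⟩ := pair8 V0 y v0_norm hy h1
    obtain ⟨b, b1, b2⟩ := pair8 V0 y' v0_norm hy' h2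
    exact key a b _ _ a1 a2 b1 b2
  · obtain ⟨a, a1, a2⟩ := pair16 V0 y v0_norm hy h1
    obtain ⟨b, b1, b2⟩ := pair16 V0 y' v0_norm hy' h2
    exact key a b _ _ a1 a2 b1 b2

theorem trans_any (y y' : ↥leechLattice) (hy : nrm y = 32) (hy' : nrm y' = 32) (c : ℤ)
    (hc : c = 16 ∨ c = 8 ∨ c = 0 ∨ c = -8 ∨ c = -16) (h1 : ip V0 y = c) (h2 : ip V0 y' = c) :
    ∃ g : ↥Co0, g • V0 = V0 ∧ g • y = y' := by
  have hneg : ∀ d : ℤ, (d = 0 ∨ d = -8 ∨ d = -16) → c = -d →
      ∃ g : ↥Co0, g • V0 = V0 ∧ g • y = y' := by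
    intro d hd hcd
    obtain ⟨g, g1, g2⟩ := trans_low (-y) (-y') (by rw [nrm_neg]; exact hy)
      (by rw [nrm_neg]; exact hy') d hd (by rw [ip_neg_right, h1, hcd, neg_neg])
      (by rw [ip_neg_right, h2, hcd, neg_neg])
    refine ⟨g, g1, ?_⟩
    rw [smul_neg'] at g2
    exact neg_injective g2
  rcases hc with rfl | rfl | rfl | rfl | rfl
  · exact hneg (-16) (Or.inr (Or.inr rfl)) (by norm_num)
  · exact hneg (-8) (Or.inr (Or.inl rfl)) (by norm_num)
  · exact trans_low y y' hy hy' 0 (Or.inl rfl) h1 h2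
  · exact trans_low y y' hy hy' (-8) (Or.inr (Or.inl rfl)) h1 h2
  · exact trans_low y y' hy hy' (-16) (Or.inr (Or.inr rfl)) h1 h2

theorem cls_trans (y y' : ↥MV) (h : cls y = cls y') :
    ∃ g : ↥Co0, g • x0 = x0 ∧ g • y = y' := by
  have hc := cval_eq_of_cls y y' h
  have mk : ∀ c : ℤ, (c = 16 ∨ c = 8 ∨ c = 0 ∨ c = -8 ∨ c = -16) → cval y = c →
      ∃ g : ↥Co0, g • x0 = x0 ∧ g • y = y' := by
    intro c hcc h1
    obtain ⟨g, g1, g2⟩ := trans_any y.1 y'.1 y.2 y'.2 c hcc h1 (by rw [← h1, hc]; rfl)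
    exact ⟨g, Subtype.ext g1, Subtype.ext g2⟩
  rcases cval_cases y with ⟨h1, e⟩ | h1 | h1 | h1 | h1 | h1 | ⟨h1, e⟩
  · have e' := eq_x0_of_cval y' (hc ▸ h1)
    exact ⟨1, one_smul _ _, by rw [one_smul, e, e']⟩
  · exact mk 16 (by norm_num) h1
  · exact mk 8 (by norm_num) h1
  · exact mk 0 (by norm_num) h1
  · exact mk (-8) (by norm_num) h1
  · exact mk (-16) (by norm_num) h1
  · have e' := eq_neg_of_cval y' (hc ▸ h1)
    exact ⟨1, one_smul _ _, by rw [one_smul]; exact Subtype.ext (e.trans e'.symm)⟩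

/-! ### the class sizes -/

theorem ncard_cval_low (c : ℤ) : {y : ↥MV | cval y = c}.ncard
    = {w : GolayPt → ℤ | w ∈ leechLattice ∧ sqNorm w = 32 ∧
        dotInt ((V0 : ↥leechLattice) : GolayPt → ℤ) w = c}.ncard := by
  rw [← Set.ncard_image_of_injective {y : ↥MV | cval y = c}
    (f := fun y : ↥MV => ((y.1 : ↥leechLattice) : GolayPt → ℤ))
    (fun a b h => Subtype.ext (Subtype.ext h))]
  congr 1
  ext w
  simp only [Set.mem_image, Set.mem_ofPred_eq]
  constructor
  · rintro ⟨y, hy, rfl⟩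
    exact ⟨y.1.2, y.2, hy⟩
  · rintro ⟨h1, h2, h3⟩
    exact ⟨⟨⟨w, h1⟩, h2⟩, h3, rfl⟩

/-- negation of a minimal vector -/
def negMV (y : ↥MV) : ↥MV := ⟨-y.1, by
  show nrm (-y.1) = 32
  rw [nrm_neg]; exact y.2⟩

theorem cval_negMV (y : ↥MV) : cval (negMV y) = -cval y := ip_neg_right _ _

theorem ncard_cval_neg (c : ℤ) :
    {y : ↥MV | cval y = c}.ncard = {y : ↥MV | cval y = -c}.ncard := by
  refine Set.ncard_congr (fun y _ => negMV y) ?_ ?_ ?_
  · intro y hy
    show cval (negMV y) = -c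
    rw [cval_negMV, show cval y = c from hy]
  · intro a b _ _ h
    have := congrArg (fun q : ↥MV => (q.1 : ↥leechLattice)) h
    exact Subtype.ext (neg_injective this)
  · intro z hz
    refine ⟨negMV z, ?_, ?_⟩
    · show cval (negMV z) = c
      rw [cval_negMV, show cval z = -c from hz, neg_neg]
    · apply Subtype.ext
      show - -z.1 = z.1
      rw [neg_neg]

/-- the class sizes -/
def msz : Fin 7 → ℕ := ![1, 4600, 47104, 93150, 47104, 4600, 1]

theorem ncard_cls (i : Fin 7) : {y : ↥MV | cls y = i}.ncard = msz i := by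
  have census := Cfsg.Agent.S1573.result ((V0 : ↥leechLattice) : GolayPt → ℤ) V0.2 v0_norm
  fin_cases i
  · have : {y : ↥MV | cls y = (0 : Fin 7)} = {x0} := by
      ext y
      simp only [Set.mem_ofPred_eq, Set.mem_singleton_iff]
      constructor
      · intro h
        exact eq_x0_of_cval y ((cls_eq_iff y).1.mp h)
      · rintro rfl
        exact cls_x0
    show {y : ↥MV | cls y = (0 : Fin 7)}.ncard = 1
    rw [this, Set.ncard_singleton]
  · show {y : ↥MV | cls y = (1 : Fin 7)}.ncard = 4600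
    rw [← census.1, ← ncard_cval_low (-16), ← ncard_cval_neg 16]
    congr 1
    ext y
    exact (cls_eq_iff y).2.1
  · show {y : ↥MV | cls y = (2 : Fin 7)}.ncard = 47104
    rw [← census.2.1, ← ncard_cval_low (-8), ← ncard_cval_neg 8]
    congr 1
    ext y
    exact (cls_eq_iff y).2.2.1
  · show {y : ↥MV | cls y = (3 : Fin 7)}.ncard = 93150
    rw [← census.2.2, ← ncard_cval_low 0]
    congr 1
    ext y
    exact (cls_eq_iff y).2.2.2.1
  · show {y : ↥MV | cls y = (4 : Fin 7)}.ncard = 47104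
    rw [← census.2.1, ← ncard_cval_low (-8)]
    congr 1
    ext y
    exact (cls_eq_iff y).2.2.2.2.1
  · show {y : ↥MV | cls y = (5 : Fin 7)}.ncard = 4600
    rw [← census.1, ← ncard_cval_low (-16)]
    congr 1
    ext y
    exact (cls_eq_iff y).2.2.2.2.2.1
  · have : {y : ↥MV | cls y = (6 : Fin 7)} = {negMV x0} := by
      ext y
      simp only [Set.mem_ofPred_eq, Set.mem_singleton_iff]
      constructor
      · intro h
        exact Subtype.ext (eq_neg_of_cval y ((cls_eq_iff y).2.2.2.2.2.2.mp h))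
      · rintro rfl
        apply (cls_eq_iff _).2.2.2.2.2.2.mpr
        rw [cval_negMV, cval_x0]
    show {y : ↥MV | cls y = (6 : Fin 7)}.ncard = 1
    rw [this, Set.ncard_singleton]

set_option maxRecDepth 100000 in
theorem arith : ∀ J : Finset (Fin 7), (0 : Fin 7) ∈ J → (∑ i ∈ J, msz i) ∣ 196560 →
    J = {0} ∨ J = {0, 6} ∨ J = Finset.univ := by
  decide +kernel

set_option maxRecDepth 100000 in
theorem arith13 : ∀ J : Finset (Fin 7), (0 : Fin 7) ∉ J → (6 : Fin 7) ∉ J →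
    ¬ 13 ∣ (∑ i ∈ J, msz i) + 1 := by
  decide +kernel

/-! ### faithfulness -/

theorem faithful (g : ↥Co0) (hg : ∀ y : ↥MV, g • y = y) : g = 1 := by
  have hfix : ∀ y : ↥leechLattice, nrm y = 32 → g • y = y :=
    fun y hy => congrArg Subtype.val (hg ⟨y, hy⟩)
  apply Subtype.ext
  apply Equiv.ext
  intro v
  show g • v = v
  set w : ↥leechLattice := g • v - v with hw
  have horth : ∀ y : ↥leechLattice, nrm y = 32 → ip w y = 0 := by
    intro y hy
    rw [hw, ip_sub_left]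
    have := ip_smul g v y
    rw [hfix y hy] at this
    rw [this, sub_self]
  have hzero : ∀ i : GolayPt, (w : GolayPt → ℤ) i = 0 := by
    intro i
    obtain ⟨j, hj⟩ := exists_ne i
    obtain ⟨m1, n1⟩ := pair_mem i j hj.symm 1 1 (Or.inl rfl) (Or.inl rfl)
    obtain ⟨m2, n2⟩ := pair_mem i j hj.symm 1 (-1) (Or.inl rfl) (Or.inr rfl)
    have e1 := horth ⟨_, m1⟩ n1
    have e2 := horth ⟨_, m2⟩ n2
    unfold ip at e1 e2
    rw [dotInt_add_right, dotInt_single, dotInt_single] at e1 e2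
    omega
  have hw0 : w = 0 := Subtype.ext (funext hzero)
  exact sub_eq_zero.mp hw0

/-! ### elements acting as a sign on every minimal vector -/

theorem sign_all (g : ↥Co0) (hg : ∀ y : ↥leechLattice, nrm y = 32 → g • y = y ∨ g • y = -y) :
    g ∈ Subgroup.center ↥Co0 := by
  classical
  by_cases hplus : ∀ y : ↥leechLattice, nrm y = 32 → g • y = y
  · have : g = 1 := faithful g (fun y => Subtype.ext (hplus y.1 y.2))
    rw [this]; exact Subgroup.one_mem _
  by_cases hminus : ∀ y : ↥leechLattice, nrm y = 32 → g • y = -y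
  · have h1 : negC * g = 1 := by
      apply faithful
      intro y
      apply Subtype.ext
      show (negC * g) • y.1 = y.1
      rw [mul_smul, hminus y.1 y.2, negC_smul, neg_neg]
    have h2 : g = negC⁻¹ := eq_inv_of_mul_eq_one_right h1
    rw [h2]; exact Subgroup.inv_mem _ negC_mem_center
  exfalso
  push Not at hplus hminus
  obtain ⟨y1, hy1, hne1⟩ := hplus
  obtain ⟨y2, hy2, hne2⟩ := hminus
  have e1 : g • y1 = -y1 := (hg y1 hy1).resolve_left hne1
  have e2 : g • y2 = y2 := (hg y2 hy2).resolve_right hne2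
  have h0 : ip y1 y2 = 0 := by
    have := ip_smul g y1 y2
    rw [e1, e2, ip_neg_left] at this
    omega
  obtain ⟨h, h1, h2⟩ := orth_normal y1 y2 hy1 hy2 h0
  obtain ⟨m, n⟩ := pair_mem none (some 1) (by decide) 1 1 (Or.inl rfl) (Or.inl rfl)
  set z0 : ↥leechLattice := ⟨_, m⟩ with hz0
  have hz0n : (z0 : GolayPt → ℤ) none = 4 := by
    simp [hz0]
  have hz00 : (z0 : GolayPt → ℤ) (some 0) = 0 := by
    show (Pi.single none (4 * 1) + Pi.single (some 1) (4 * 1) : GolayPt → ℤ) (some 0) = 0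
    rw [Pi.add_apply, Pi.single_eq_of_ne (by decide), Pi.single_eq_of_ne (by decide)]
    rfl
  set z : ↥leechLattice := h⁻¹ • z0 with hz
  have hzn : nrm z = 32 := by rw [hz, nrm_smul]; exact n
  have i1 : ip y1 z = 16 := by
    rw [hz, ip_comm, ip_inv_smul, ip_comm, ip_of_eq (h • y1) v0 z0 h1, dot_v0, hz0n, hz00]
    norm_num
  have i2 : ip y2 z = 16 := by
    rw [hz, ip_comm, ip_inv_smul, ip_comm, ip_of_eq (h • y2) t0 z0 h2, dot_t0, hz0n, hz00]
    norm_num
  rcases hg z hzn with e3 | e3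
  · have := ip_smul g y1 z
    rw [e1, e3, ip_neg_left] at this
    omega
  · have := ip_smul g y2 z
    rw [e2, e3, ip_neg_right] at this
    omega

/-! ### the normal subgroups -/

theorem no_regular (N : Subgroup ↥Co0) [hN : N.Normal]
    (htr : ∀ y : ↥MV, ∃ n ∈ N, n • x0 = y) (hreg : ∀ n ∈ N, n • x0 = x0 → n = 1) : False := by
  classical
  have hcardN : Nat.card ↥N = 196560 := by
    rw [← card_MV]
    refine Nat.card_congr (Equiv.ofBijective (fun n : ↥N => n.1 • x0) ⟨?_, ?_⟩)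
    · intro a b hab
      have hab' : a.1 • x0 = b.1 • x0 := hab
      have h1 : (b.1⁻¹ * a.1) • x0 = x0 := by
        rw [mul_smul, inv_smul_eq_iff]
        exact hab'
      have h2 := hreg _ (N.mul_mem (N.inv_mem b.2) a.2) h1
      apply Subtype.ext
      exact (inv_mul_eq_one.mp h2).symm
    · intro y
      obtain ⟨n, hn, hy⟩ := htr y
      exact ⟨⟨n, hn⟩, hy⟩
  haveI : Finite ↥N := Nat.finite_of_card_ne_zero (by rw [hcardN]; norm_num)
  obtain ⟨J, hJ, hcount⟩ :=
    Cfsg.Agent.Lib.Helper14.RegularCount.regular_normal_count x0 cls cls_trans N hreg 13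
  have h0 : (0 : Fin 7) ∉ J := by
    intro h
    obtain ⟨n, hn, ho, hc⟩ := hJ 0 h
    have h1 : n • x0 = x0 := eq_x0_of_cval _ ((cls_eq_iff _).1.mp hc)
    have h2 := hreg n hn h1
    rw [h2, orderOf_one] at ho
    norm_num at ho
  have h6 : (6 : Fin 7) ∉ J := by
    intro h
    obtain ⟨n, hn, ho, hc⟩ := hJ 6 h
    have h1 : n • V0 = -V0 := eq_neg_of_cval _ ((cls_eq_iff _).2.2.2.2.2.2.mp hc)
    have h2 : (n * n) • x0 = x0 := by
      apply Subtype.ext
      show (n * n) • V0 = V0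
      rw [mul_smul, h1, smul_neg', h1, neg_neg]
    have h3 := hreg _ (N.mul_mem hn hn) h2
    have h4 : orderOf n ∣ 2 := orderOf_dvd_of_pow_eq_one (by rw [pow_two]; exact h3)
    rw [ho] at h4
    norm_num at h4
  have hfrob := Cfsg.Agent.Lib.Helper21.frobenius_dvd_card_pow_eq_one (G := ↥N) 13
    (by rw [hcardN]; norm_num)
  have hsplit : Nat.card {g : ↥N // g ^ 13 = 1} = Nat.card {n : ↥N // orderOf n = 13} + 1 := by
    have e1 : {g : ↥N | g ^ 13 = 1} = insert 1 {n : ↥N | orderOf n = 13} := by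
      ext g
      simp only [Set.mem_ofPred_eq, Set.mem_insert_iff]
      constructor
      · intro hg
        have hd : orderOf g ∣ 13 := orderOf_dvd_of_pow_eq_one hg
        rcases (Nat.dvd_prime (by norm_num : Nat.Prime 13)).mp hd with h | h
        · left; exact orderOf_eq_one_iff.mp h
        · right; exact h
      · rintro (rfl | hg)
        · exact one_pow _
        · rw [← hg]; exact pow_orderOf_eq_one g
    have e2 : (1 : ↥N) ∉ {n : ↥N | orderOf n = 13} := by
      simp only [Set.mem_ofPred_eq, orderOf_one]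
      norm_num
    show Nat.card ↥{g : ↥N | g ^ 13 = 1} = Nat.card ↥{n : ↥N | orderOf n = 13} + 1
    rw [Nat.card_coe_set_eq, Nat.card_coe_set_eq, e1,
      Set.ncard_insert_of_notMem e2 (Set.toFinite _)]
  rw [hsplit, hcount, Finset.sum_congr rfl (fun i _ => ncard_cls i)] at hfrob
  exact arith13 J h0 h6 hfrob

theorem normal_cases (N : Subgroup ↥Co0) [hN : N.Normal] :
    N ≤ Subgroup.center ↥Co0 ∨ N = ⊤ := by
  obtain ⟨J, hJ0, hJ, hdvd⟩ :=
    Cfsg.Agent.Lib.Helper14.PrimSimple.orbit_normal_fibers trans_MV x0 cls cls_trans N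
  rw [Finset.sum_congr rfl (fun i _ => ncard_cls i), card_MV] at hdvd
  rw [cls_x0] at hJ0
  rcases arith J hJ0 hdvd with h | h | h
  · left
    have : N = ⊥ := by
      apply Cfsg.Agent.Lib.Helper14.Rank3Simple.eq_bot_of_fix faithful trans_MV x0 N
      intro n hn
      have : cls (n • x0) ∈ J := (hJ _).mp ⟨n, hn, rfl⟩
      rw [h, Finset.mem_singleton] at this
      exact eq_x0_of_cval _ ((cls_eq_iff _).1.mp this)
    rw [this]; exact bot_le
  · left
    intro n hn
    apply sign_all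
    intro y hy
    obtain ⟨k, hk⟩ := co0_trans32 V0 y v0_norm hy
    have hmem : k⁻¹ * n * k ∈ N := by
      have := hN.conj_mem n hn k⁻¹
      rwa [inv_inv] at this
    have hc : cls ((k⁻¹ * n * k) • x0) ∈ J := (hJ _).mp ⟨_, hmem, rfl⟩
    rw [h, Finset.mem_insert, Finset.mem_singleton] at hc
    have hsm : n • y = k • ((k⁻¹ * n * k) • V0) := by
      rw [← hk, ← mul_smul, ← mul_smul]
      congr 1
      group
    rcases hc with hc | hc
    · left
      have h1 : (k⁻¹ * n * k) • V0 = V0 :=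
        congrArg Subtype.val (eq_x0_of_cval _ ((cls_eq_iff _).1.mp hc))
      rw [hsm, h1, hk]
    · right
      have h1 : (k⁻¹ * n * k) • V0 = -V0 := eq_neg_of_cval _ ((cls_eq_iff _).2.2.2.2.2.2.mp hc)
      rw [hsm, h1, smul_neg', hk]
  · right
    have htr : ∀ y : ↥MV, ∃ n ∈ N, n • x0 = y := fun y =>
      (hJ y).mpr (h ▸ Finset.mem_univ _)
    have hs := simple_G2
    rcases hs.eq_bot_or_eq_top_of_normal (N.subgroupOf G2) inferInstance with hbot | htop
    · exfalso
      apply no_regular N htr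
      intro n hn hfix
      have hfix' : n • V0 = V0 := congrArg Subtype.val hfix
      have hmem : (⟨n, hfix'⟩ : ↥G2) ∈ N.subgroupOf G2 := by
        rw [Subgroup.mem_subgroupOf]; exact hn
      rw [hbot, Subgroup.mem_bot] at hmem
      exact congrArg Subtype.val hmem
    · rw [eq_top_iff]
      intro g _
      obtain ⟨n, hn, hng⟩ := htr (g • x0)
      have hfix : (n⁻¹ * g) • V0 = V0 := by
        have := congrArg Subtype.val hng
        change n • V0 = g • V0 at this
        rw [mul_smul, ← this, inv_smul_smul]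
      have hmem : (⟨n⁻¹ * g, hfix⟩ : ↥G2) ∈ N.subgroupOf G2 := by
        rw [htop]; exact Subgroup.mem_top _
      rw [Subgroup.mem_subgroupOf] at hmem
      have := N.mul_mem hn hmem
      rwa [mul_inv_cancel_left] at this

theorem card_quot : Nat.card (↥Co0 ⧸ Subgroup.center ↥Co0) = 4157776806543360000 := by
  have h := Subgroup.card_eq_card_quotient_mul_card_subgroup (Subgroup.center ↥Co0)
  rw [card_Co0, card_center] at h
  omega

/-- Automorphism group of the lattice modulo its centre is simple of order 4157776806543360000. -/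
theorem result : Cfsg.IsCo1 (Cfsg.Co0 ⧸ Subgroup.center Cfsg.Co0) := by
  refine ⟨?_, card_quot⟩
  haveI : Nontrivial (↥Co0 ⧸ Subgroup.center ↥Co0) := by
    by_contra hnt
    rw [not_nontrivial_iff_subsingleton] at hnt
    have h1 := card_quot
    rw [Nat.card_of_subsingleton (1 : ↥Co0 ⧸ Subgroup.center ↥Co0)] at h1
    norm_num at h1
  refine ⟨fun H hH => ?_⟩
  set Z := Subgroup.center ↥Co0 with hZ
  have hsurj := QuotientGroup.mk'_surjective Z
  haveI : (H.comap (QuotientGroup.mk' Z)).Normal := hH.comap _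
  rcases normal_cases (H.comap (QuotientGroup.mk' Z)) with h | h
  · left
    rw [Subgroup.eq_bot_iff_forall]
    intro q hq
    obtain ⟨g, rfl⟩ := hsurj q
    have hg : g ∈ H.comap (QuotientGroup.mk' Z) := hq
    exact (QuotientGroup.eq_one_iff g).mpr (h hg)
  · right
    rw [← Subgroup.map_comap_eq_self_of_surjective hsurj H, h,
      Subgroup.map_top_of_surjective _ hsurj]

end Cfsg.Agent.S0399
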