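import Cfsg.Statements.S0433
-- import your own Cfsg.Agent.* helpers here
import Mathlib
import Cfsg.Agent.Lib.Helper14.Golay

set_option autoImplicit false
open Cfsg

namespace Cfsg.Agent.S0433

open Cfsg.Agent.Lib.Helper14.Golay in
theorem leechSet_flip (c : Finset Cfsg.GolayPt)
    (hc : c ∈ Cfsg.supports (Cfsg.golayCode : Set (Cfsg.GolayPt → ZMod 2)))
    (x : Cfsg.GolayPt → ℤ) (hx : x ∈ Cfsg.leechSet) :
    (fun i => if i ∈ c then -x i else x i) ∈ Cfsg.leechSet := by
  classical
  obtain ⟨m, h1, h2, h3⟩ := hx
  have h1' : ∀ i, x i % 2 = m % 2 := fun i => h1 i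
  refine ⟨m, ?_, ?_, ?_⟩
  · intro i
    have := h1' i
    change (if i ∈ c then -x i else x i) % 2 = m % 2
    split_ifs <;> omega
  · -- the sum
    set m₀ : ℤ := m % 2 with hm₀
    set A : Finset Cfsg.GolayPt := Finset.univ.filter fun i => x i ≡ m₀ + 2 [ZMOD 4] with hA
    have hAs : A ∈ Cfsg.supports (Cfsg.golayCode : Set (Cfsg.GolayPt → ZMod 2)) := h3 (m₀ + 2)
    have hpt : ∀ i, (4 : ℤ) ∣ x i - (m₀ + 2 * (if i ∈ A then 1 else 0)) := by
      intro i
      have hi := h1' i
      by_cases hiA : i ∈ A
      · have hiA' := hiA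
        rw [hA, Finset.mem_filter] at hiA'
        have h4 : x i % 4 = (m₀ + 2) % 4 := hiA'.2
        rw [if_pos hiA]
        omega
      · have hiA' : ¬ (x i % 4 = (m₀ + 2) % 4) := by
          intro h
          apply hiA
          rw [hA, Finset.mem_filter]
          exact ⟨Finset.mem_univ _, h⟩
        rw [if_neg hiA]
        omega
    have hsumc : (4 : ℤ) ∣ ∑ i ∈ c, x i := by
      have hsplit : ∑ i ∈ c, x i = ∑ i ∈ c, (x i - (m₀ + 2 * (if i ∈ A then 1 else 0)))
          + (m₀ * (c.card : ℤ) + 2 * ((c ∩ A).card : ℤ)) := by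
        rw [Finset.sum_sub_distrib, Finset.sum_add_distrib, Finset.sum_const, ← Finset.mul_sum,
          Finset.sum_ite_mem, Finset.sum_const]
        simp only [nsmul_eq_mul, mul_one]
        ring
      rw [hsplit]
      have d1 : (4 : ℤ) ∣ ∑ i ∈ c, (x i - (m₀ + 2 * (if i ∈ A then 1 else 0))) :=
        Finset.dvd_sum fun i _ => hpt i
      have d2 : (4 : ℤ) ∣ (c.card : ℤ) := by
        exact_mod_cast supports_four_dvd c hc
      have d3 : (2 : ℤ) ∣ ((c ∩ A).card : ℤ) := by
        exact_mod_cast supports_even_inter c A hc hAs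
      obtain ⟨t, ht⟩ := d3
      have d4 : (4 : ℤ) ∣ 2 * ((c ∩ A).card : ℤ) := ⟨t, by rw [ht]; ring⟩
      exact dvd_add d1 (dvd_add (Dvd.dvd.mul_left d2 _) d4)
    have hsum : ∑ i, (if i ∈ c then -x i else x i) = ∑ i, x i - 2 * ∑ i ∈ c, x i := by
      have hc' : ∑ i ∈ c, x i = ∑ i, (if i ∈ c then x i else 0) := by
        rw [Finset.sum_ite_mem, Finset.univ_inter]
      rw [hc', Finset.mul_sum, ← Finset.sum_sub_distrib]
      refine Finset.sum_congr rfl fun i _ => ?_
      split_ifs <;> ring
    rw [hsum]
    obtain ⟨t, ht⟩ := hsumc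
    have h2' : (∑ i, x i) % 8 = (4 * m) % 8 := h2
    change (∑ i, x i - 2 * ∑ i ∈ c, x i) % 8 = (4 * m) % 8
    omega
  · intro k
    by_cases hcase : m % 2 = 1 ∧ k % 2 = 1
    · -- symmetric difference
      have : (Finset.univ.filter fun i => (if i ∈ c then -x i else x i) ≡ k [ZMOD 4])
          = symmDiff (Finset.univ.filter fun i => x i ≡ k [ZMOD 4]) c := by
        ext i
        simp only [Finset.mem_filter, Finset.mem_univ, true_and, Finset.mem_symmDiff]
        have hi := h1' i
        by_cases hic : i ∈ c
        · simp only [hic, if_true, not_true_eq_false, and_false, false_or, true_and]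
          change (-x i) % 4 = k % 4 ↔ ¬ (x i % 4 = k % 4)
          omega
        · simp only [hic, if_false, not_false_eq_true, and_true, false_and, or_false]
      rw [this]
      exact supports_symmDiff _ _ (h3 k) hc
    · have : (Finset.univ.filter fun i => (if i ∈ c then -x i else x i) ≡ k [ZMOD 4])
          = (Finset.univ.filter fun i => x i ≡ k [ZMOD 4]) := by
        ext i
        simp only [Finset.mem_filter, Finset.mem_univ, true_and]
        have hi := h1' i
        by_cases hic : i ∈ c
        · simp only [hic, if_true]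
          change (-x i) % 4 = k % 4 ↔ (x i % 4 = k % 4)
          omega
        · simp only [hic, if_false]
      rw [this]
      exact h3 k

/-- Sign changes on the support of a codeword preserve the lattice. -/
theorem result (c : Finset Cfsg.GolayPt) (hc : c ∈ Cfsg.supports (Cfsg.golayCode : Set (Cfsg.GolayPt → ZMod 2))) (x : Cfsg.GolayPt → ℤ) (hx : x ∈ Cfsg.leechLattice) : (fun i => if i ∈ c then -x i else x i) ∈ Cfsg.leechLattice := by
  classical
  unfold Cfsg.leechLattice at hx ⊢
  induction hx using AddSubgroup.closure_induction with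
  | mem y hy => exact AddSubgroup.subset_closure (leechSet_flip c hc y hy)
  | zero =>
    have : (fun i => if i ∈ c then -(0 : Cfsg.GolayPt → ℤ) i else (0 : Cfsg.GolayPt → ℤ) i)
        = 0 := by
      funext i; simp
    rw [this]; exact AddSubgroup.zero_mem _
  | add y z _ _ hy hz =>
    have : (fun i => if i ∈ c then -(y + z) i else (y + z) i)
        = (fun i => if i ∈ c then -y i else y i) + (fun i => if i ∈ c then -z i else z i) := by
      funext i
      simp only [Pi.add_apply]
      split_ifs <;> ring
    rw [this]; exact AddSubgroup.add_mem _ hy hz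
  | neg y _ hy =>
    have : (fun i => if i ∈ c then -(-y) i else (-y) i)
        = -(fun i => if i ∈ c then -y i else y i) := by
      funext i
      simp only [Pi.neg_apply]
      split_ifs <;> ring
    rw [this]; exact AddSubgroup.neg_mem _ hy

end Cfsg.Agent.S0433
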