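import Cfsg.Statements.S5594
-- import your own Cfsg.Agent.* helpers here
import Mathlib
import Cfsg.Agent.S0372
import Cfsg.Agent.S0432
import Cfsg.Agent.S0433
import Cfsg.Agent.Lib.Helper14.Leech

set_option autoImplicit false
open Cfsg

namespace Cfsg.Agent.S5594

/-- The dodecad of squares modulo 23. -/
def Qset : Finset Cfsg.GolayPt := Cfsg.support₂ (Cfsg.qrWord 0)

theorem Q_mem : Qset ∈ Cfsg.supports (Cfsg.golayCode : Set (Cfsg.GolayPt → ZMod 2)) := by
  refine ⟨Cfsg.qrWord 0, ?_, rfl⟩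
  unfold Cfsg.golayCode
  exact Submodule.subset_span (Or.inl ⟨0, rfl⟩)

set_option maxRecDepth 100000 in
theorem proj_swap : ∀ i : Cfsg.GolayPt, (Cfsg.projInv i ∈ Qset ↔ i ∉ Qset) := by
  decide +kernel

set_option maxRecDepth 100000 in
theorem proj_invol : ∀ i : Cfsg.GolayPt, Cfsg.projInv (Cfsg.projInv i) = i := by
  decide +kernel

/-- The underlying signed permutation on vectors. -/
def gfun (x : Cfsg.GolayPt → ℤ) : Cfsg.GolayPt → ℤ :=
  fun i => if i ∈ Qset then -x (Cfsg.projInv i) else x (Cfsg.projInv i)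

theorem gfun_mem (x : Cfsg.GolayPt → ℤ) (hx : x ∈ Cfsg.leechLattice) :
    gfun x ∈ Cfsg.leechLattice := by
  have h1 := Cfsg.Agent.S0432.result Cfsg.projInv Cfsg.Agent.S0372.result x hx
  exact Cfsg.Agent.S0433.result Qset Q_mem _ h1

theorem gfun_gfun (x : Cfsg.GolayPt → ℤ) : gfun (gfun x) = -x := by
  funext i
  simp only [gfun, Pi.neg_apply]
  rw [proj_invol]
  by_cases hi : i ∈ Qset
  · have : Cfsg.projInv i ∉ Qset := fun h => ((proj_swap i).mp h) hi
    simp [hi, this]
  · have : Cfsg.projInv i ∈ Qset := (proj_swap i).mpr hi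
    simp [hi, this]

theorem gfun_add (x y : Cfsg.GolayPt → ℤ) : gfun (x + y) = gfun x + gfun y := by
  funext i
  simp only [gfun, Pi.add_apply]
  split_ifs <;> ring

theorem gfun_neg (x : Cfsg.GolayPt → ℤ) : gfun (-x) = -gfun x := by
  funext i
  simp only [gfun, Pi.neg_apply]
  split_ifs <;> ring

theorem sqNorm_gfun (x : Cfsg.GolayPt → ℤ) : Cfsg.sqNorm (gfun x) = Cfsg.sqNorm x := by
  unfold Cfsg.sqNorm
  rw [← Equiv.sum_comp Cfsg.projInv (fun j => x j ^ 2)]
  refine Finset.sum_congr rfl fun i _ => ?_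
  simp only [gfun]
  split_ifs <;> ring

/-- The signed permutation as a permutation of the lattice. -/
def gEquiv : Equiv.Perm Cfsg.leechLattice where
  toFun v := ⟨gfun v, gfun_mem v v.2⟩
  invFun v := ⟨-gfun v, neg_mem (gfun_mem v v.2)⟩
  left_inv v := by
    apply Subtype.ext
    change -gfun (gfun (v : Cfsg.GolayPt → ℤ)) = v
    rw [gfun_gfun, neg_neg]
  right_inv v := by
    apply Subtype.ext
    change gfun (-gfun (v : Cfsg.GolayPt → ℤ)) = v
    rw [gfun_neg, gfun_gfun, neg_neg]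

theorem gEquiv_mem : gEquiv ∈ Cfsg.Co0 := by
  refine ⟨fun v w => ?_, fun v => ?_⟩
  · apply Subtype.ext
    change gfun ((v : Cfsg.GolayPt → ℤ) + (w : Cfsg.GolayPt → ℤ)) = gfun v + gfun w
    exact gfun_add _ _
  · exact sqNorm_gfun _

theorem neg_mem_Co0 : Equiv.neg Cfsg.leechLattice ∈ Cfsg.Co0 := by
  refine ⟨fun v w => ?_, fun v => ?_⟩
  · simp only [Equiv.neg_apply]
    abel
  · simp only [Equiv.neg_apply]
    change Cfsg.sqNorm (-(v : Cfsg.GolayPt → ℤ)) = _
    unfold Cfsg.sqNorm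
    refine Finset.sum_congr rfl fun i _ => ?_
    rw [Pi.neg_apply]; ring

theorem four_mem : (fun _ => (4 : ℤ)) ∈ Cfsg.leechLattice := by
  rw [Cfsg.Agent.Lib.Helper14.Leech.mem_leechLattice_iff,
    Cfsg.Agent.Lib.Helper14.Leech.mem_leechSet_iff]
  refine ⟨0, 0, Submodule.zero_mem _, ?_, ?_⟩
  · intro i; simp
  · simp [Cfsg.Agent.Lib.Helper14.Leech.card_golayPt]

/-- The automorphism group of the Leech lattice contains the negation map, and the subgroup of order 2 it generates has no complement: the automorphism group is a non-split extension of its quotient by that subgroup (it is not the direct product of a group of order 2 with the first Conway group). -/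
theorem result :
    ∃ n : ↥Cfsg.Co0, (∀ v : ↥Cfsg.leechLattice, ((n • v : ↥Cfsg.leechLattice) : Cfsg.GolayPt → ℤ) = -(v : Cfsg.GolayPt → ℤ)) ∧
    ∀ K : Subgroup ↥Cfsg.Co0, ¬ (Subgroup.zpowers n).IsComplement' K := by
  set n : ↥Cfsg.Co0 := ⟨Equiv.neg Cfsg.leechLattice, neg_mem_Co0⟩ with hn
  set g : ↥Cfsg.Co0 := ⟨gEquiv, gEquiv_mem⟩ with hg
  have hgg : g * g = n := by
    apply Subtype.ext
    apply Equiv.ext
    intro v
    apply Subtype.ext
    change gfun (gfun (v : Cfsg.GolayPt → ℤ)) = -(v : Cfsg.GolayPt → ℤ)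
    exact gfun_gfun _
  have hnn : n * n = 1 := by
    apply Subtype.ext
    apply Equiv.ext
    intro v
    change -(-v) = v
    exact neg_neg v
  have hzero : ∀ k : ↥Cfsg.Co0, (k : Equiv.Perm Cfsg.leechLattice) 0 = 0 := by
    intro k
    have h := k.2.1 0 0
    rw [add_zero] at h
    exact left_eq_add.mp h
  have hkneg : ∀ (k : ↥Cfsg.Co0) (v : Cfsg.leechLattice),
      (k : Equiv.Perm Cfsg.leechLattice) (-v) = -(k : Equiv.Perm Cfsg.leechLattice) v := by
    intro k v
    have h := k.2.1 v (-v)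
    rw [add_neg_cancel, hzero k] at h
    exact eq_neg_of_add_eq_zero_right h.symm
  have hcentral : ∀ k : ↥Cfsg.Co0, n * k = k * n := by
    intro k
    apply Subtype.ext
    apply Equiv.ext
    intro v
    change -((k : Equiv.Perm Cfsg.leechLattice) v) = (k : Equiv.Perm Cfsg.leechLattice) (-v)
    rw [hkneg]
  have hn1 : n ≠ 1 := by
    intro h
    have h1 := congrArg (fun k : ↥Cfsg.Co0 =>
      (((k : Equiv.Perm Cfsg.leechLattice) ⟨fun _ => (4 : ℤ), four_mem⟩ : Cfsg.leechLattice) :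
        Cfsg.GolayPt → ℤ) none) h
    change (-(4 : ℤ)) = 4 at h1
    omega
  refine ⟨n, fun v => rfl, ?_⟩
  intro K hK
  obtain ⟨⟨⟨z, hz⟩, ⟨k, hk⟩⟩, hzk, -⟩ := hK.existsUnique g
  simp only at hzk
  obtain ⟨j, rfl⟩ := Subgroup.mem_zpowers_iff.mp hz
  have hzc : Commute (n ^ j) k := Commute.zpow_left (hcentral k) j
  have hzz : n ^ j * n ^ j = 1 := by
    rw [← zpow_add, ← two_mul, zpow_mul, zpow_two, hnn, one_zpow]
  have hnK : n ∈ K := by
    have : n = k * k := by
      rw [← hgg, ← hzk]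
      calc n ^ j * k * (n ^ j * k) = (n ^ j * n ^ j) * (k * k) := by
            rw [mul_assoc, ← mul_assoc k, ← hzc.eq, mul_assoc, ← mul_assoc]
        _ = k * k := by rw [hzz, one_mul]
    rw [this]
    exact K.mul_mem hk hk
  have hdisj := hK.disjoint
  rw [Subgroup.disjoint_def] at hdisj
  exact hn1 (hdisj (Subgroup.mem_zpowers n) hnK)

end Cfsg.Agent.S5594
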