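import Cfsg.Statements.S0672
import Cfsg.Agent.Lib.Helper5.HeartHom

set_option autoImplicit false
open Cfsg

namespace Cfsg.Agent.S0672

/-- Let a finite group act faithfully and doubly transitively with point stabilisers of even order, and let `K` have characteristic `p` dividing the degree. If the heart of the permutation module admits no non-zero equivariant map to the permutation module on unordered pairs (phrased: every intertwining map from the sum-zero functions vanishing on the constants is zero), the action is triply transitive. -/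
theorem result {G : Type*} [Group G] [Finite G] {K : Type*} [Field K] {p : ℕ} [Fact p.Prime] [CharP K p] {Ω : Type*} [Fintype Ω] [DecidableEq Ω] [MulAction G Ω] [FaithfulSMul G Ω] (h2 : MulAction.IsMultiplyPretransitive G Ω 2) (hp : p ∣ Fintype.card Ω) (heven : ∀ a : Ω, Even (Nat.card (MulAction.stabilizer G a))) (h : ∀ f : Representation.IntertwiningMap (Cfsg.permSumZero K G Ω).toRepresentation (Cfsg.permRep K G (Set.powersetCard Ω 2)), (∀ v : (Cfsg.permSumZero K G Ω).toSubmodule, (v : Ω → K) ∈ (Cfsg.permConstants K G Ω).toSubmodule → f v = 0) → f = 0) : MulAction.IsMultiplyPretransitive G Ω 3 := by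
  classical
  by_contra h3
  have hP : ¬ ∀ (s s' : Set.powersetCard Ω 2) (c c' : Ω), c ∉ s.1 → c' ∉ s'.1 →
      ∃ g : G, g • s = s' ∧ g • c = c' :=
    fun hP => h3 (Cfsg.Agent.Lib.Helper5.HeartHom.three_trans_of_flag_trans heven hP)
  push Not at hP
  obtain ⟨s0, s1, c0, c1, hc0, hc1, hno⟩ := hP
  obtain ⟨F, hFeq, hF1, v, hv0, hFv⟩ :=
    Cfsg.Agent.Lib.Helper5.HeartHom.exists_map_of_not_flag_trans (K := K) h2 s0 s1 c0 c1 hc0 hc1
      hno
  have hf0 := h ⟨F ∘ₗ (Cfsg.permSumZero K G Ω).toSubmodule.subtype, fun g =>
      LinearMap.ext fun u => hFeq g u.1⟩ (by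
    intro u hu
    obtain ⟨a, ha⟩ := Submodule.mem_span_singleton.mp hu
    change F u.1 = 0
    rw [← ha, map_smul, hF1, smul_zero])
  apply hFv
  have h4 := congrArg (fun φ => φ ⟨v, hv0⟩) hf0
  exact h4

end Cfsg.Agent.S0672
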