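import Cfsg.Statements.S0674
import Mathlib
import Cfsg.Agent.Lib.Helper5.PrimeDeg

set_option autoImplicit false
open Cfsg Module

namespace Cfsg.Agent.S0674

/-- Let `G` be a non-solvable transitive permutation group of prime degree `p` and `K` a field of characteristic `p`. Then the heart of the permutation module is irreducible: an invariant subspace containing the constants and contained in the sum-zero functions is one or the other. -/
theorem result {α : Type*} [Fintype α] [DecidableEq α] {p : ℕ} [Fact p.Prime] (hα : Fintype.card α = p) (G : Subgroup (Equiv.Perm α)) [MulAction.IsPretransitive G α] (hG : ¬ Group.IsSolvable G) {K : Type*} [Field K] [CharP K p] (W : Subrepresentation (Cfsg.permRep K G α)) (h₁ : (Cfsg.permConstants K G α).toSubmodule ≤ W.toSubmodule) (h₂ : W.toSubmodule ≤ (Cfsg.permSumZero K G α).toSubmodule) : W = Cfsg.permConstants K G α ∨ W = Cfsg.permSumZero K G α := by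
  have hp : p.Prime := Fact.out
  have hW : ∀ g ∈ G, ∀ f ∈ W.toSubmodule, f ∘ (g : α → α) ∈ W.toSubmodule := by
    intro g hg f hf
    have := W.apply_mem_toSubmodule (⟨g⁻¹, G.inv_mem hg⟩ : G) hf
    convert this using 1
    funext x
    change f (g x) = f ((⟨g⁻¹, G.inv_mem hg⟩ : G)⁻¹ • x)
    congr 1
  have hdim := Cfsg.Agent.Lib.Helper5.PrimeDeg.finrank_invariant hα G hG W.toSubmodule hW
  have hc1 : finrank K (Cfsg.permConstants K G α).toSubmodule = 1 := by
    change finrank K (Submodule.span K {fun _ : α => (1 : K)}) = 1
    apply finrank_span_singleton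
    intro h
    have hne : Nonempty α := by
      rw [← Fintype.card_pos_iff, hα]; exact hp.pos
    obtain ⟨a⟩ := hne
    exact one_ne_zero (congrFun h a)
  have hs_ne : (Cfsg.permSumZero K G α).toSubmodule ≠ ⊤ := by
    intro h
    have hne : Nonempty α := by
      rw [← Fintype.card_pos_iff, hα]; exact hp.pos
    obtain ⟨a⟩ := hne
    have : (Pi.single a (1 : K) : α → K) ∈ (Cfsg.permSumZero K G α).toSubmodule := by
      rw [h]; exact Submodule.mem_top
    change ∑ x, (Pi.single a (1 : K) : α → K) x = 0 at this
    rw [Finset.sum_pi_single'] at this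
    simp at this
  have hs_lt : finrank K (Cfsg.permSumZero K G α).toSubmodule < p := by
    have := Submodule.finrank_lt hs_ne
    rwa [Module.finrank_fintype_fun_eq_card, hα] at this
  have hW1 : 1 ≤ finrank K W.toSubmodule := by
    rw [← hc1]; exact Submodule.finrank_mono h₁
  have hW2 : finrank K W.toSubmodule ≤ finrank K (Cfsg.permSumZero K G α).toSubmodule :=
    Submodule.finrank_mono h₂
  rcases hdim with h | h | h | h
  · omega
  · left
    apply Subrepresentation.toSubmodule_injective
    exact (Submodule.eq_of_le_of_finrank_eq h₁ (by rw [hc1, h])).symm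
  · right
    apply Subrepresentation.toSubmodule_injective
    exact Submodule.eq_of_le_of_finrank_le h₂ (by omega)
  · omega

end Cfsg.Agent.S0674
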