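import Cfsg.Statements.S0677
import Mathlib
import Cfsg.Agent.S0675
import Cfsg.Agent.Lib.Helper1.Hall
import Cfsg.Agent.Lib.Helper5.PrimeDeg
-- import your own Cfsg.Agent.* helpers here

set_option autoImplicit false
open Cfsg

namespace Cfsg.Agent.S0677

open MulAction

theorem even_card_of_involution {ι : Type*} [DecidableEq ι] (s : Finset ι) (f : ι → ι)
    (hmem : ∀ a ∈ s, f a ∈ s) (hinv : ∀ a ∈ s, f (f a) = a) (hne : ∀ a ∈ s, f a ≠ a) :
    Even s.card := by
  have h := Finset.sum_involution (s := s) (f := fun _ => (1 : ZMod 2)) (fun a _ => f a)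
    (by intro a ha; decide) (fun a ha _ => hne a ha) hmem (fun a ha => hinv a ha)
  simp only [Finset.sum_const, nsmul_eq_mul, mul_one] at h
  exact ZMod.natCast_eq_zero_iff_even.mp h

/-- an involution acting on a set of odd cardinality has a fixed point -/
theorem exists_fixed_of_odd {G X : Type*} [Group G] [MulAction G X] [Fintype X]
    (hX : Odd (Fintype.card X)) (t : G) (ht : t * t = 1) : ∃ u : X, t • u = u := by
  classical
  by_contra hcon
  push Not at hcon
  have : Even (Finset.univ : Finset X).card :=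
    even_card_of_involution _ (fun u => t • u) (fun _ _ => Finset.mem_univ _)
      (fun u _ => by rw [smul_smul, ht, one_smul]) (fun u _ => hcon u)
  rw [Finset.card_univ] at this
  exact (Nat.not_even_iff_odd.mpr hX) this

/-- an element of prime order `p` without fixed points on a set with `p` elements is transitive -/
theorem exists_zpow_smul_eq {G X : Type*} [Group G] [MulAction G X] [Fintype X] {p : ℕ}
    [Fact p.Prime] (hX : Fintype.card X = p) (x : G) (hx : orderOf x = p)
    (hfix : ∀ u : X, x • u ≠ u) (u v : X) : ∃ i : ℤ, x ^ i • u = v := by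
  classical
  have hp : p.Prime := Fact.out
  have h2 : Nat.card (Subgroup.zpowers x) = p := by rw [Nat.card_zpowers, hx]
  have : Finite (Subgroup.zpowers x) := Nat.finite_of_card_ne_zero (by rw [h2]; exact hp.ne_zero)
  have h3 : (orbit (Subgroup.zpowers x) u).ncard ∣ p := by
    rw [← MulAction.index_stabilizer, ← h2]
    exact Subgroup.index_dvd_card _
  have hxu : (⟨x, Subgroup.mem_zpowers x⟩ : Subgroup.zpowers x) • u ∈ orbit (Subgroup.zpowers x) u :=
    mem_orbit _ _
  have h4 : (orbit (Subgroup.zpowers x) u).ncard = p := by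
    rcases (Nat.dvd_prime hp).mp h3 with h | h
    · exfalso
      rw [Set.ncard_eq_one] at h
      obtain ⟨w, hw⟩ := h
      have h5 : u ∈ orbit (Subgroup.zpowers x) u := mem_orbit_self u
      rw [hw] at hxu h5
      rw [Set.mem_singleton_iff] at hxu h5
      apply hfix u
      rw [h5]
      rw [h5] at hxu
      exact hxu
    · exact h
  have h5 : orbit (Subgroup.zpowers x) u = Set.univ := by
    rw [Set.eq_univ_iff_ncard, h4, Nat.card_eq_fintype_card, hX]
  have h6 : v ∈ orbit (Subgroup.zpowers x) u := by rw [h5]; trivial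
  obtain ⟨⟨g, hg⟩, hgv⟩ := h6
  obtain ⟨i, hi⟩ := Subgroup.mem_zpowers_iff.mp hg
  refine ⟨i, ?_⟩
  rw [hi]
  exact hgv

/-- an involution inverting a regular element of odd prime order has exactly one fixed point -/
theorem unique_fixed {G X : Type*} [Group G] [MulAction G X] [Fintype X] {p : ℕ}
    [Fact p.Prime] (hp2 : p ≠ 2) (hX : Fintype.card X = p) (x t : G) (hx : orderOf x = p)
    (hfix : ∀ u : X, x • u ≠ u) (htx : t * x * t⁻¹ = x⁻¹) (ht : t * t = 1) :
    ∃ u₀ : X, t • u₀ = u₀ ∧ ∀ u, t • u = u → u = u₀ := by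
  have hp : p.Prime := Fact.out
  have hodd : Odd p := hp.odd_of_ne_two hp2
  obtain ⟨u₀, hu₀⟩ := exists_fixed_of_odd (X := X) (by rw [hX]; exact hodd) t ht
  refine ⟨u₀, hu₀, ?_⟩
  intro u hu
  obtain ⟨i, hi⟩ := exists_zpow_smul_eq hX x hx hfix u₀ u
  have htinv : t⁻¹ = t := inv_eq_of_mul_eq_one_left ht
  have hconj : ∀ j : ℤ, t * x ^ j = x ^ (-j) * t := by
    intro j
    have h1 : t * x ^ j * t⁻¹ = (x⁻¹) ^ j := by
      rw [← htx]
      exact (conj_zpow (a := t) (b := x) (i := j)).symm
    rw [inv_zpow', ] at h1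
    rw [← h1]; group
  have h1 : x ^ (-i) • u₀ = x ^ i • u₀ := by
    have : t • (x ^ i • u₀) = x ^ i • u₀ := by rw [hi]; exact hu
    rw [smul_smul, hconj, ← smul_smul, hu₀] at this
    exact this
  have h2 : x ^ (2 * i) • u₀ = u₀ := by
    have : x ^ i • (x ^ (-i) • u₀) = x ^ i • (x ^ i • u₀) := by rw [h1]
    rw [smul_smul, smul_smul, ← zpow_add, ← zpow_add] at this
    simp only [add_neg_cancel, zpow_zero, one_smul] at this
    rw [two_mul]
    exact this.symm
  obtain ⟨m, hm⟩ := hodd
  have h3 : x ^ (2 * i) ∈ stabilizer G u₀ := h2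
  have h4 : (x ^ (2 * i)) ^ (m + 1) ∈ stabilizer G u₀ := Subgroup.pow_mem _ h3 _
  have h5 : (x ^ (2 * i)) ^ (m + 1) = x ^ i := by
    rw [← zpow_natCast, ← zpow_mul]
    have : 2 * i * ((m + 1 : ℕ) : ℤ) = i * (p : ℤ) + i := by
      rw [hm]; push_cast; ring
    rw [this, zpow_add, zpow_mul', zpow_natCast, ← hx, pow_orderOf_eq_one, one_zpow, one_mul]
  rw [h5] at h4
  rw [← hi]
  exact h4


/-- parity argument: in a "symmetric design" acted on 2-transitively, an involution with a unique
fixed point and a unique fixed block has the fixed block trivial away from the fixed point -/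
theorem design_parity {G α Ω : Type*} [Group G] [MulAction G α] [MulAction G Ω] [Fintype Ω]
    (h2 : ∀ a b c d : α, a ≠ b → c ≠ d → ∃ g : G, g • a = c ∧ g • b = d)
    (inB : Ω → α → Prop) (hinB : ∀ (r : G) (ω : Ω) (u : α), inB (r • ω) (r • u) ↔ inB ω u)
    (t : G) (ht : t * t = 1) (u₀ : α) (hu₀ : ∀ u, t • u = u → u = u₀)
    (ω₀ : Ω) (hω₀ : t • ω₀ = ω₀) (hω₀' : ∀ ω, t • ω = ω → ω = ω₀) :
    ∀ u u', u ≠ u₀ → u' ≠ u₀ → (inB ω₀ u ↔ inB ω₀ u') := by
  classical
  set Λ : α → α → Finset Ω := fun u v => Finset.univ.filter (fun ω => inB ω u ∧ inB ω v) with hΛ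
  have hA : ∀ u v u' v', u ≠ v → u' ≠ v' → (Λ u v).card = (Λ u' v').card := by
    intro u v u' v' huv huv'
    obtain ⟨r, hru, hrv⟩ := h2 u v u' v' huv huv'
    refine Finset.card_bij' (fun ω _ => r • ω) (fun ω _ => r⁻¹ • ω) ?_ ?_ ?_ ?_
    · intro ω hω
      simp only [hΛ, Finset.mem_filter, Finset.mem_univ, true_and] at hω ⊢
      rw [← hru, ← hrv, hinB, hinB]
      exact hω
    · intro ω hω
      simp only [hΛ, Finset.mem_filter, Finset.mem_univ, true_and] at hω ⊢
      rw [← hru, ← hrv] at hω
      rw [← hinB r, ← hinB r (r⁻¹ • ω) v, smul_inv_smul]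
      exact hω
    · intro ω _
      simp
    · intro ω _
      simp
  have htinv : t⁻¹ = t := inv_eq_of_mul_eq_one_left ht
  have htt : ∀ u : α, t • t • u = u := fun u => by rw [smul_smul, ht, one_smul]
  have httΩ : ∀ ω : Ω, t • t • ω = ω := fun ω => by rw [smul_smul, ht, one_smul]
  have hB : ∀ u, u ≠ u₀ → (inB ω₀ u ↔ ¬ Even (Λ u (t • u)).card) := by
    intro u hu
    have hev : Even ((Λ u (t • u)).erase ω₀).card := by
      apply even_card_of_involution _ (fun ω => t • ω)
      · intro ω hω
        simp only [hΛ, Finset.mem_erase, Finset.mem_filter, Finset.mem_univ, true_and] at hω ⊢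
        refine ⟨?_, ?_, ?_⟩
        · intro h
          apply hω.1
          apply hω₀'
          have := congrArg (fun z => t • z) h
          simp only [httΩ, hω₀] at this
          rw [this, hω₀]
        · have := (hinB t ω (t • u)).mpr hω.2.2
          rw [htt] at this
          exact this
        · exact (hinB t ω u).mpr hω.2.1
      · intro ω _
        exact httΩ ω
      · intro ω hω
        simp only [hΛ, Finset.mem_erase, Finset.mem_filter, Finset.mem_univ, true_and] at hω
        intro h
        exact hω.1 (hω₀' ω h)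
    have hmem : ω₀ ∈ Λ u (t • u) ↔ inB ω₀ u := by
      simp only [hΛ, Finset.mem_filter, Finset.mem_univ, true_and]
      constructor
      · exact fun h => h.1
      · intro h
        refine ⟨h, ?_⟩
        have := (hinB t ω₀ u).mpr h
        rw [hω₀] at this
        exact this
    constructor
    · intro h
      have h1 := Finset.card_erase_add_one (hmem.mpr h)
      rw [← h1]
      intro h2
      rw [Nat.even_add_one] at h2
      exact h2 hev
    · intro h
      by_contra hcon
      apply h
      rw [← Finset.erase_eq_of_notMem (mt hmem.mp hcon)]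
      exact hev
  intro u u' hu hu'
  rw [hB u hu, hB u' hu']
  have hne : ∀ v, v ≠ u₀ → v ≠ t • v := fun v hv h => hv (hu₀ v h.symm)
  rw [hA u (t • u) u' (t • u') (hne u hu) (hne u' hu')]


theorem not_sq_dvd_factorial {p : ℕ} (hp : p.Prime) : ¬ p * p ∣ p.factorial := by
  intro h
  have h1 : p.factorial = p * (p - 1).factorial := by
    rw [Nat.mul_factorial_pred hp.ne_zero]
  rw [h1] at h
  have h2 : p ∣ (p - 1).factorial := Nat.dvd_of_mul_dvd_mul_left hp.pos h
  have h3 := (hp.dvd_factorial).mp h2
  have := hp.pos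
  omega


/-- In a transitive permutation group of prime degree `p` whose Sylow `p`-normaliser has even order, the point stabilisers are the only subgroups of index `p`. -/
theorem result {α : Type*} [Fintype α] [DecidableEq α] {p : ℕ} [Fact p.Prime] (hα : Fintype.card α = p) (G : Subgroup (Equiv.Perm α)) [MulAction.IsPretransitive G α] (P : Sylow p G) (heven : Even (Nat.card (Subgroup.normalizer ((P : Subgroup G) : Set G)))) (H : Subgroup G) (hH : H.index = p) : ∃ a : α, H = MulAction.stabilizer G a := by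
  classical
  have hp : p.Prime := Fact.out
  obtain ⟨a₀⟩ : Nonempty α := Fintype.card_pos_iff.mp (by rw [hα]; exact hp.pos)
  have hidx : ∀ a : α, (stabilizer G a).index = p := fun a => by
    rw [index_stabilizer_of_transitive, Nat.card_eq_fintype_card, hα]
  have hkey : ∀ a : α, H ≤ stabilizer G a → H = stabilizer G a := by
    intro a hle
    apply le_antisymm hle
    rw [← Subgroup.relIndex_eq_one]
    have h1 := Subgroup.relIndex_mul_index hle
    rw [hidx, hH] at h1
    have : H.relIndex (stabilizer G a) * p = 1 * p := by rw [h1, one_mul]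
    exact Nat.eq_of_mul_eq_mul_right hp.pos this
  -- cardinalities
  have hGcard : Nat.card G = Nat.card H * p := by rw [← hH, Subgroup.card_mul_index]
  have hGdvd : Nat.card G ∣ p.factorial := by
    have := Subgroup.card_subgroup_dvd_card G
    rwa [Nat.card_eq_fintype_card (α := Equiv.Perm α), Fintype.card_perm, hα] at this
  have hcop : (Nat.card H).Coprime p := by
    rw [Nat.coprime_comm, hp.coprime_iff_not_dvd]
    intro h
    apply not_sq_dvd_factorial hp
    refine dvd_trans ?_ hGdvd
    rw [hGcard]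
    exact Nat.mul_dvd_mul_right h p
  have hstabcard : ∀ a : α, Nat.card (stabilizer G a) = Nat.card H := by
    intro a
    have h1 := Subgroup.card_mul_index (stabilizer G a)
    rw [hidx, hGcard] at h1
    exact Nat.eq_of_mul_eq_mul_right hp.pos h1
  by_cases hsolv : Group.IsSolvable G
  · -- solvable case: Hall conjugacy
    obtain ⟨g, hg⟩ := Cfsg.Agent.Lib.Helper1.hall_conj (Nat.card H) p hGcard hcop
      (stabilizer (α := α) G a₀) H (hstabcard a₀) rfl
    refine ⟨g • a₀, hkey _ ?_⟩
    intro h hh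
    rw [← hg, Cfsg.Agent.Lib.Helper1.mem_conj_smul_iff] at hh
    rw [mem_stabilizer_iff] at hh ⊢
    have := congrArg (fun z => g • z) hh
    simp only [smul_smul] at this
    rw [smul_smul, ← this]
    congr 1
    group
  by_cases hp2 : p = 2
  · subst hp2
    have h1 : Nat.card H * 2 ∣ 2 := by
      rw [← hGcard]
      simpa using hGdvd
    have h2 : Nat.card H = 1 := by
      have h3 : Nat.card H * 2 ≤ 2 := Nat.le_of_dvd (by norm_num) h1
      have h4 : 0 < Nat.card H := Nat.card_pos
      omega
    have h5 : H = ⊥ := Subgroup.card_eq_one.mp h2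
    exact ⟨a₀, hkey a₀ (by rw [h5]; exact bot_le)⟩
  -- 2-transitivity
  have h2t : MulAction.IsMultiplyPretransitive G α 2 := by
    rcases Cfsg.Agent.S0675.result (by rw [hα]; exact hp) G with h | h
    · exact absurd h hsolv
    · exact h
  rw [is_two_pretransitive_iff] at h2t
  -- the Sylow subgroup has order p
  have hpG : p ∣ Nat.card G := by rw [hGcard]; exact Dvd.intro_left _ rfl
  have hPcard : Nat.card P = p := by
    rw [Sylow.card_eq_multiplicity]
    have h1 : (Nat.card G).factorization p = 1 := by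
      have hpos : Nat.card G ≠ 0 := Nat.card_pos.ne'
      have h1 : 1 ≤ (Nat.card G).factorization p :=
        (hp.dvd_iff_one_le_factorization hpos).mp hpG
      have h2 : ¬ 2 ≤ (Nat.card G).factorization p := by
        intro h
        have := (hp.pow_dvd_iff_le_factorization hpos).mpr h
        apply not_sq_dvd_factorial hp
        rw [← sq]
        exact dvd_trans this hGdvd
      omega
    rw [h1, pow_one]
  obtain ⟨x', hx'⟩ := exists_prime_orderOf_dvd_card' (G := P) p (by rw [hPcard])
  set x : G := (x' : G) with hxdef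
  have hxP : x ∈ (P : Subgroup G) := x'.2
  have hx : orderOf x = p := by rw [hxdef, Subgroup.orderOf_coe, hx']
  have hnotdvd : ¬ p ∣ Nat.card H := hp.coprime_iff_not_dvd.mp hcop.symm
  have hxα : ∀ u : α, x • u ≠ u := by
    intro u hu
    have hσ : orderOf ((x : G) : Equiv.Perm α) = p := by rw [Subgroup.orderOf_coe, hx]
    obtain ⟨e, he⟩ := Cfsg.Agent.Lib.Helper5.PrimeDeg.exists_equiv hα _ hσ
    have h1 := he (e.symm u)
    rw [Equiv.apply_symm_apply] at h1
    have h2 : ((x : G) : Equiv.Perm α) u = u := hu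
    rw [h2] at h1
    have h3 := e.injective (h1.trans (e.apply_symm_apply u).symm)
    have h4 : (1 : ZMod p) = 0 := by simp at h3
    have : Fact (1 < p) := ⟨hp.one_lt⟩
    exact one_ne_zero h4
  have hxΩ : ∀ ω : G ⧸ H, x • ω ≠ ω := by
    intro ω
    induction ω using QuotientGroup.induction_on with
    | H s =>
      intro h
      rw [MulAction.Quotient.smul_mk, QuotientGroup.eq] at h
      have h1 : s⁻¹ * x * s ∈ H := by
        have := H.inv_mem h
        simpa [mul_assoc] using this
      have h2 : orderOf (s⁻¹ * x * s) = p := by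
        rw [← hx]
        have := orderOf_injective (MulAut.conj s⁻¹).toMonoidHom (MulEquiv.injective _) x
        simpa [MulAut.conj_apply] using this
      have h3 := Subgroup.orderOf_dvd_natCard H h1
      rw [h2] at h3
      exact hnotdvd h3
  -- the involution
  obtain ⟨t', ht'⟩ := exists_prime_orderOf_dvd_card'
    (G := Subgroup.normalizer ((P : Subgroup G) : Set G)) 2 heven.two_dvd
  set t : G := (t' : G) with htdef
  have htN : t ∈ Subgroup.normalizer ((P : Subgroup G) : Set G) := t'.2
  have ht2 : orderOf t = 2 := by rw [htdef, Subgroup.orderOf_coe, ht']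
  have htt : t * t = 1 := by rw [← pow_two, ← ht2, pow_orderOf_eq_one]
  have htinv : t⁻¹ = t := inv_eq_of_mul_eq_one_left htt
  have hconjP : t * x * t⁻¹ ∈ (P : Subgroup G) :=
    (Subgroup.mem_set_normalizer_iff.mp htN x).mp hxP
  have hPz : ∀ y ∈ (P : Subgroup G), ∃ k : ℤ, x ^ k = y := by
    intro y hy
    have h1 : Subgroup.zpowers x' = ⊤ := zpowers_eq_top_of_prime_card hPcard (by
      intro h
      rw [h, orderOf_one] at hx'
      exact hp.one_lt.ne hx')
    have h2 : (⟨y, hy⟩ : (P : Subgroup G)) ∈ Subgroup.zpowers x' := by rw [h1]; trivial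
    obtain ⟨k, hk⟩ := Subgroup.mem_zpowers_iff.mp h2
    refine ⟨k, ?_⟩
    have := congrArg (Subtype.val) hk
    simpa using this
  have hodd : Odd p := hp.odd_of_ne_two hp2
  have htx : t * x * t⁻¹ = x⁻¹ := by
    obtain ⟨k, hk⟩ := hPz _ hconjP
    have h1 : t * (t * x * t⁻¹) * t⁻¹ = x := by
      rw [htinv]
      calc t * (t * x * t) * t = (t * t) * x * (t * t) := by group
        _ = x := by rw [htt, one_mul, mul_one]
    have h2 : t * x ^ k * t⁻¹ = (x ^ k) ^ k := by
      rw [← conj_zpow, ← hk]
    rw [← hk, h2, ← zpow_mul] at h1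
    have h3 : x ^ (k * k - 1) = 1 := by
      rw [zpow_sub, zpow_one, h1, mul_inv_cancel]
    have h4 : (p : ℤ) ∣ k * k - 1 := by
      rw [← hx]
      exact orderOf_dvd_iff_zpow_eq_one.mpr h3
    have h5 : k * k - 1 = (k - 1) * (k + 1) := by ring
    rw [h5] at h4
    rcases Int.Prime.dvd_mul' hp h4 with h6 | h6
    · exfalso
      have h7 : x ^ (k - 1) = 1 := by
        rw [← hx] at h6
        exact orderOf_dvd_iff_zpow_eq_one.mp h6
      have h8 : x ^ k = x := by
        rw [zpow_sub, zpow_one, mul_inv_eq_one] at h7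
        exact h7
      have hcomm : Commute t x := by
        have : t * x * t⁻¹ = x := by rw [← hk, h8]
        have h9 : t * x = x * t := by
          rw [mul_inv_eq_iff_eq_mul] at this
          exact this
        exact h9
      obtain ⟨u₁, hu₁⟩ := exists_fixed_of_odd (X := α) (by rw [hα]; exact hodd) t htt
      have h10 : t = 1 := by
        apply Subtype.ext
        apply Equiv.ext
        intro u
        obtain ⟨i, hi⟩ := exists_zpow_smul_eq hα x hx hxα u₁ u
        change t • u = u
        rw [← hi, smul_smul, (hcomm.zpow_right i).eq, ← smul_smul, hu₁]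
      rw [h10, orderOf_one] at ht2
      omega
    · have h7 : x ^ (k + 1) = 1 := by
        rw [← hx] at h6
        exact orderOf_dvd_iff_zpow_eq_one.mp h6
      rw [← hk]
      rw [zpow_add, zpow_one] at h7
      exact eq_inv_of_mul_eq_one_left h7
  obtain ⟨u₀, hu₀, hu₀'⟩ := unique_fixed hp2 hα x t hx hxα htx htt
  let _ : Fintype (G ⧸ H) := Fintype.ofFinite _
  have hΩ : Fintype.card (G ⧸ H) = p := by
    rw [← Nat.card_eq_fintype_card, ← Subgroup.index_eq_card, hH]
  obtain ⟨ω₀, hω₀, hω₀'⟩ := unique_fixed hp2 hΩ x t hx hxΩ htx htt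
  -- the block
  set Δ : Set α := {u | ∃ h ∈ H, h • a₀ = u} with hΔ
  have hΔinv : ∀ h ∈ H, ∀ u, h • u ∈ Δ ↔ u ∈ Δ := by
    intro h hh u
    constructor
    · rintro ⟨h', hh', e⟩
      refine ⟨h⁻¹ * h', H.mul_mem (H.inv_mem hh) hh', ?_⟩
      rw [← smul_smul, e, inv_smul_smul]
    · rintro ⟨h', hh', e⟩
      exact ⟨h * h', H.mul_mem hh hh', by rw [← smul_smul, e]⟩
  have ha₀Δ : a₀ ∈ Δ := ⟨1, H.one_mem, one_smul _ _⟩
  have hΔne : Δ ≠ Set.univ := by
    intro h
    have : IsPretransitive H α := ⟨fun u v => by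
      obtain ⟨h₁, hh₁, e₁⟩ : u ∈ Δ := by rw [h]; trivial
      obtain ⟨h₂, hh₂, e₂⟩ : v ∈ Δ := by rw [h]; trivial
      refine ⟨⟨h₂ * h₁⁻¹, H.mul_mem hh₂ (H.inv_mem hh₁)⟩, ?_⟩
      change (h₂ * h₁⁻¹) • u = v
      rw [← e₁, smul_smul, inv_mul_cancel_right, e₂]⟩
    have h1 : (stabilizer H a₀).index = p := by
      rw [index_stabilizer_of_transitive, Nat.card_eq_fintype_card, hα]
    have h2 := Subgroup.index_dvd_card (stabilizer H a₀)
    rw [h1] at h2
    exact hnotdvd h2
  set inB : G ⧸ H → α → Prop := fun ω u => (Quotient.out ω)⁻¹ • u ∈ Δ with hinBdef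
  have hinBmk : ∀ (s : G) (u : α), inB (s : G ⧸ H) u ↔ s⁻¹ • u ∈ Δ := by
    intro s u
    obtain ⟨h, hh⟩ := QuotientGroup.mk_out_eq_mul H s
    simp only [hinBdef]
    rw [hh, mul_inv_rev, ← smul_smul]
    exact hΔinv _ (H.inv_mem h.2) _
  have hinB : ∀ (r : G) (ω : G ⧸ H) (u : α), inB (r • ω) (r • u) ↔ inB ω u := by
    intro r ω u
    induction ω using QuotientGroup.induction_on with
    | H s =>
      rw [MulAction.Quotient.smul_mk, hinBmk, hinBmk, smul_eq_mul, mul_inv_rev, ← smul_smul,
        inv_smul_smul]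
  have hpar := design_parity (fun a b c d hab hcd => h2t hab hcd) inB hinB t htt u₀ hu₀' ω₀ hω₀
    hω₀'
  obtain ⟨g, hg⟩ := QuotientGroup.mk_surjective ω₀
  set w := g⁻¹ • u₀ with hw
  have hsame : ∀ v v', v ≠ w → v' ≠ w → (v ∈ Δ ↔ v' ∈ Δ) := by
    intro v v' hv hv'
    have h1 := hpar (g • v) (g • v')
      (by intro h; apply hv; rw [hw, ← h, inv_smul_smul])
      (by intro h; apply hv'; rw [hw, ← h, inv_smul_smul])
    rw [← hg, hinBmk, hinBmk, inv_smul_smul, inv_smul_smul] at h1
    exact h1
  have hfixw : ∀ h ∈ H, h • w = w := by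
    by_cases hex : ∃ v, v ≠ w ∧ v ∈ Δ
    · obtain ⟨v, hvw, hvΔ⟩ := hex
      have hall : ∀ v', v' ≠ w → v' ∈ Δ := fun v' hv' => (hsame v v' hvw hv').mp hvΔ
      have hwΔ : w ∉ Δ := by
        intro hw'
        apply hΔne
        ext v'
        simp only [Set.mem_univ, iff_true]
        by_cases h : v' = w
        · rw [h]; exact hw'
        · exact hall v' h
      intro h hh
      by_contra hne
      apply hwΔ
      exact (hΔinv h hh w).mp (hall _ hne)
    · push Not at hex
      have h1 : a₀ = w := by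
        by_contra h
        exact hex a₀ h ha₀Δ
      intro h hh
      by_contra hne
      apply hex (h • w) hne
      rw [← h1]
      exact ⟨h, hh, rfl⟩
  exact ⟨w, hkey w (fun h hh => hfixw h hh)⟩

end Cfsg.Agent.S0677
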