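import Cfsg.Statements.S0676
import Cfsg.Agent.S0672
import Cfsg.Agent.S0674
import Cfsg.Agent.S0675
import Cfsg.Agent.S0677
import Cfsg.Agent.Lib.Helper5.PrimeDeg
import Cfsg.Agent.Lib.Helper5.HeartHom

set_option autoImplicit false
open Cfsg

namespace Cfsg.Agent.S0676

open MulAction in
/-- an element of order `p` and an involution inverting it -/
theorem exists_inverting {α : Type*} [Fintype α] [DecidableEq α] {p : ℕ} [Fact p.Prime]
    (hα : Fintype.card α = p) (hp2 : p ≠ 2) (G : Subgroup (Equiv.Perm α))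
    [MulAction.IsPretransitive G α] (P : Sylow p G)
    (heven : Even (Nat.card (Subgroup.normalizer ((P : Subgroup G) : Set G)))) :
    ∃ x t : G, orderOf x = p ∧ (∀ u : α, x • u ≠ u) ∧ t * t = 1 ∧ t * x * t⁻¹ = x⁻¹ := by
  classical
  have hp : p.Prime := Fact.out
  obtain ⟨a₀⟩ : Nonempty α := Fintype.card_pos_iff.mp (by rw [hα]; exact hp.pos)
  have hidx : ∀ a : α, (stabilizer G a).index = p := fun a => by
    rw [index_stabilizer_of_transitive, Nat.card_eq_fintype_card, hα]
  have hGdvd : Nat.card G ∣ p.factorial := by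
    have := Subgroup.card_subgroup_dvd_card G
    rwa [Nat.card_eq_fintype_card (α := Equiv.Perm α), Fintype.card_perm, hα] at this
  have hpG : p ∣ Nat.card G := by
    rw [← hidx a₀]
    exact Subgroup.index_dvd_card _
  have hPcard : Nat.card P = p := by
    rw [Sylow.card_eq_multiplicity]
    have h1 : (Nat.card G).factorization p = 1 := by
      have hpos : Nat.card G ≠ 0 := Nat.card_pos.ne'
      have h1 : 1 ≤ (Nat.card G).factorization p :=
        (hp.dvd_iff_one_le_factorization hpos).mp hpG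
      have h2 : ¬ 2 ≤ (Nat.card G).factorization p := by
        intro h
        have := (hp.pow_dvd_iff_le_factorization hpos).mpr h
        apply Cfsg.Agent.S0677.not_sq_dvd_factorial hp
        rw [← sq]
        exact dvd_trans this hGdvd
      omega
    rw [h1, pow_one]
  obtain ⟨x', hx'⟩ := exists_prime_orderOf_dvd_card' (G := P) p (by rw [hPcard])
  set x : G := (x' : G) with hxdef
  have hxP : x ∈ (P : Subgroup G) := x'.2
  have hx : orderOf x = p := by rw [hxdef, Subgroup.orderOf_coe, hx']
  have hxα : ∀ u : α, x • u ≠ u := by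
    intro u hu
    have hσ : orderOf ((x : G) : Equiv.Perm α) = p := by rw [Subgroup.orderOf_coe, hx]
    obtain ⟨e, he⟩ := Cfsg.Agent.Lib.Helper5.PrimeDeg.exists_equiv hα _ hσ
    have h1 := he (e.symm u)
    rw [Equiv.apply_symm_apply] at h1
    have h2 : ((x : G) : Equiv.Perm α) u = u := hu
    rw [h2] at h1
    have h3 := e.injective (h1.trans (e.apply_symm_apply u).symm)
    have h4 : (1 : ZMod p) = 0 := by simp at h3
    have : Fact (1 < p) := ⟨hp.one_lt⟩
    exact one_ne_zero h4
  obtain ⟨t', ht'⟩ := exists_prime_orderOf_dvd_card'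
    (G := Subgroup.normalizer ((P : Subgroup G) : Set G)) 2 heven.two_dvd
  set t : G := (t' : G) with htdef
  have htN : t ∈ Subgroup.normalizer ((P : Subgroup G) : Set G) := t'.2
  have ht2 : orderOf t = 2 := by rw [htdef, Subgroup.orderOf_coe, ht']
  have htt : t * t = 1 := by rw [← pow_two, ← ht2, pow_orderOf_eq_one]
  have htinv : t⁻¹ = t := inv_eq_of_mul_eq_one_left htt
  have hconjP : t * x * t⁻¹ ∈ (P : Subgroup G) :=
    (Subgroup.mem_set_normalizer_iff.mp htN x).mp hxP
  have hPz : ∀ y ∈ (P : Subgroup G), ∃ k : ℤ, x ^ k = y := by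
    intro y hy
    have h1 : Subgroup.zpowers x' = ⊤ := zpowers_eq_top_of_prime_card hPcard (by
      intro h
      rw [h, orderOf_one] at hx'
      exact hp.one_lt.ne hx')
    have h2 : (⟨y, hy⟩ : (P : Subgroup G)) ∈ Subgroup.zpowers x' := by rw [h1]; trivial
    obtain ⟨k, hk⟩ := Subgroup.mem_zpowers_iff.mp h2
    refine ⟨k, ?_⟩
    have := congrArg (Subtype.val) hk
    simpa using this
  have hodd : Odd p := hp.odd_of_ne_two hp2
  refine ⟨x, t, hx, hxα, htt, ?_⟩
  obtain ⟨k, hk⟩ := hPz _ hconjP
  have h1 : t * (t * x * t⁻¹) * t⁻¹ = x := by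
    rw [htinv]
    calc t * (t * x * t) * t = (t * t) * x * (t * t) := by group
      _ = x := by rw [htt, one_mul, mul_one]
  have h2 : t * x ^ k * t⁻¹ = (x ^ k) ^ k := by
    rw [← conj_zpow, ← hk]
  rw [← hk, h2, ← zpow_mul] at h1
  have h3 : x ^ (k * k - 1) = 1 := by
    rw [zpow_sub, zpow_one, h1, mul_inv_cancel]
  have h4 : (p : ℤ) ∣ k * k - 1 := by
    rw [← hx]
    exact orderOf_dvd_iff_zpow_eq_one.mpr h3
  have h5 : k * k - 1 = (k - 1) * (k + 1) := by ring
  rw [h5] at h4
  rcases Int.Prime.dvd_mul' hp h4 with h6 | h6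
  · exfalso
    have h7 : x ^ (k - 1) = 1 := by
      rw [← hx] at h6
      exact orderOf_dvd_iff_zpow_eq_one.mp h6
    have h8 : x ^ k = x := by
      rw [zpow_sub, zpow_one, mul_inv_eq_one] at h7
      exact h7
    have hcomm : Commute t x := by
      have : t * x * t⁻¹ = x := by rw [← hk, h8]
      have h9 : t * x = x * t := by
        rw [mul_inv_eq_iff_eq_mul] at this
        exact this
      exact h9
    obtain ⟨u₁, hu₁⟩ := Cfsg.Agent.S0677.exists_fixed_of_odd (X := α)
      (by rw [hα]; exact hodd) t htt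
    have h10 : t = 1 := by
      apply Subtype.ext
      apply Equiv.ext
      intro u
      obtain ⟨i, hi⟩ := Cfsg.Agent.S0677.exists_zpow_smul_eq hα x hx hxα u₁ u
      change t • u = u
      rw [← hi, smul_smul, (hcomm.zpow_right i).eq, ← smul_smul, hu₁]
    rw [h10, orderOf_one] at ht2
    omega
  · have h7 : x ^ (k + 1) = 1 := by
      rw [← hx] at h6
      exact orderOf_dvd_iff_zpow_eq_one.mp h6
    rw [← hk]
    rw [zpow_add, zpow_one] at h7
    exact eq_inv_of_mul_eq_one_left h7

/-- A non-solvable transitive permutation group of prime degree `p` whose Sylow `p`-normaliser has even order is triply transitive. -/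
theorem result {α : Type*} [Fintype α] [DecidableEq α] {p : ℕ} [Fact p.Prime] (hα : Fintype.card α = p) (G : Subgroup (Equiv.Perm α)) [MulAction.IsPretransitive G α] (hG : ¬ Group.IsSolvable G) (P : Sylow p G) (heven : Even (Nat.card (Subgroup.normalizer ((P : Subgroup G) : Set G)))) : MulAction.IsMultiplyPretransitive G α 3 := by
  classical
  have hp : p.Prime := Fact.out
  by_cases hp2 : p = 2
  · rw [MulAction.isMultiplyPretransitive_iff]
    intro x
    exfalso
    have := Fintype.card_le_of_embedding x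
    rw [Fintype.card_fin, hα, hp2] at this
    omega
  have hodd : Odd p := hp.odd_of_ne_two hp2
  have h2ne : (2 : ZMod p) ≠ 0 := by
    have h1 : ((2 : ℕ) : ZMod p) ≠ 0 := by
      rw [Ne, ZMod.natCast_eq_zero_iff]
      intro h
      have := Nat.le_of_dvd (by norm_num) h
      have := hp.two_le
      omega
    exact_mod_cast h1
  have h2t : MulAction.IsMultiplyPretransitive G α 2 :=
    (Cfsg.Agent.S0675.result (by rw [hα]; exact hp) G).resolve_left hG
  obtain ⟨x, t, hx, hxα, htt, htx⟩ := exists_inverting hα hp2 G P heven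
  have htinv : t⁻¹ = t := inv_eq_of_mul_eq_one_left htt
  have hidx : ∀ a : α, (MulAction.stabilizer G a).index = p := fun a => by
    rw [MulAction.index_stabilizer_of_transitive, Nat.card_eq_fintype_card, hα]
  have hGeven : Even (Nat.card G) := by
    have := Subgroup.card_subgroup_dvd_card (Subgroup.normalizer ((P : Subgroup G) : Set G))
    exact (even_iff_two_dvd.mpr (dvd_trans heven.two_dvd this))
  have hstab : ∀ a : α, Even (Nat.card (MulAction.stabilizer G a)) := by
    intro a
    have h1 := Subgroup.card_mul_index (MulAction.stabilizer G a)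
    rw [hidx] at h1
    rw [← h1] at hGeven
    rcases Nat.even_mul.mp hGeven with h | h
    · exact h
    · exact absurd h (Nat.not_even_iff_odd.mpr hodd)
  apply Cfsg.Agent.S0672.result (K := ZMod p) (p := p) h2t (by rw [hα]) hstab
  set S : Subrepresentation (Cfsg.permRep (ZMod p) G α) := Cfsg.permSumZero (ZMod p) G α
    with hSdef
  intro f hf
  have hI : ∀ (g : G) (u : S.toSubmodule) (s : Set.powersetCard α 2),
      f (S.toRepresentation g u) s = f u (g⁻¹ • s) := fun g u s =>
    congrFun (LinearMap.congr_fun (f.isIntertwining' g) u) s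
  obtain ⟨W, hWdef⟩ : ∃ W : Subrepresentation (Cfsg.permRep (ZMod p) G α),
      W.toSubmodule = (LinearMap.ker f.toLinearMap).map S.toSubmodule.subtype :=
    ⟨⟨(LinearMap.ker f.toLinearMap).map S.toSubmodule.subtype, by
      rintro g _ ⟨u, hu, rfl⟩
      refine ⟨S.toRepresentation g u, ?_, rfl⟩
      have hu' : f u = 0 := hu
      change f (S.toRepresentation g u) = 0
      funext s
      rw [hI, hu']
      rfl⟩, rfl⟩
  have hmemW : ∀ u : S.toSubmodule, (u : α → ZMod p) ∈ W.toSubmodule ↔ f u = 0 := by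
    intro u
    rw [hWdef]
    constructor
    · rintro ⟨u', hu', e⟩
      have : u' = u := Subtype.ext e
      rw [← this]
      exact hu'
    · intro h
      exact ⟨u, h, rfl⟩
  have hcS : ∀ v : α → ZMod p, v ∈ (Cfsg.permConstants (ZMod p) G α).toSubmodule →
      v ∈ S.toSubmodule := by
    intro v hv
    obtain ⟨a, rfl⟩ := Submodule.mem_span_singleton.mp hv
    rw [hSdef]
    change ∑ u : α, a • (1 : ZMod p) = 0
    rw [Finset.sum_const, Finset.card_univ, hα]
    simp
  have hW1 : (Cfsg.permConstants (ZMod p) G α).toSubmodule ≤ W.toSubmodule := by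
    intro v hv
    exact (hmemW ⟨v, hcS v hv⟩).mpr (hf ⟨v, hcS v hv⟩ hv)
  have hW2 : W.toSubmodule ≤ (Cfsg.permSumZero (ZMod p) G α).toSubmodule := by
    rw [hWdef]
    rintro _ ⟨u, -, rfl⟩
    exact u.2
  rcases Cfsg.Agent.S0674.result hα G hG W hW1 hW2 with hWc | hWs
  swap
  · apply Representation.IntertwiningMap.ext
    apply LinearMap.ext
    intro u
    have h1 : (u : α → ZMod p) ∈ W.toSubmodule := by rw [hWs]; exact u.2
    exact (hmemW u).mp h1
  exfalso
  -- coordinates
  obtain ⟨e, he⟩ := Cfsg.Agent.Lib.Helper5.PrimeDeg.exists_equiv hα (x : Equiv.Perm α)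
    (by rw [Subgroup.orderOf_coe, hx])
  obtain ⟨u₀, hu₀⟩ := Cfsg.Agent.S0677.exists_fixed_of_odd (X := α)
    (by rw [hα]; exact hodd) t htt
  obtain ⟨j₀, hj₀⟩ : ∃ j₀ : ZMod p, e j₀ = u₀ := e.surjective u₀
  have hxe : ∀ j : ZMod p, x • e j = e (j + 1) := fun j => (he j).symm
  have hxn : ∀ (n : ℕ) (j : ZMod p), x ^ n • e j = e (j + n) := by
    intro n
    induction n with
    | zero => intro j; simp
    | succ n ih =>
      intro j
      rw [pow_succ', mul_smul, ih, hxe]
      congr 1
      push_cast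
      ring
  have hxinv : ∀ j : ZMod p, x⁻¹ • e j = e (j - 1) := by
    intro j
    rw [inv_smul_eq_iff, hxe, sub_add_cancel]
  have htx' : ∀ u : α, t • x • u = x⁻¹ • t • u := by
    intro u
    have : t * x = x⁻¹ * t := by rw [← htx]; group
    rw [smul_smul, this, mul_smul]
  have hte : ∀ n : ℕ, t • e (j₀ + n) = e (j₀ - n) := by
    intro n
    induction n with
    | zero => simp [hj₀, hu₀]
    | succ n ih =>
      have h1 : j₀ + ((n + 1 : ℕ) : ZMod p) = (j₀ + n) + 1 := by push_cast; ring
      rw [h1, ← hxe, htx', ih, hxinv]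
      congr 1
      push_cast
      ring
  have hte' : ∀ j : ZMod p, t • e j = e (2 * j₀ - j) := by
    intro j
    have h1 : j = j₀ + ((j - j₀).val : ZMod p) := by
      rw [ZMod.natCast_zmod_val]; ring
    conv_lhs => rw [h1]
    rw [hte, ZMod.natCast_zmod_val]
    congr 1
    ring
  obtain ⟨v, hvdef⟩ : ∃ v : α → ZMod p, v = fun u => e.symm u - j₀ := ⟨_, rfl⟩
  have hve : ∀ j : ZMod p, v (e j) = j - j₀ := by
    intro j
    rw [hvdef]
    simp
  have hvt : ∀ u : α, v (t • u) = - v u := by
    intro u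
    obtain ⟨j, rfl⟩ := e.surjective u
    rw [hte', hve, hve]
    ring
  have hvx : ∀ u : α, v (x⁻¹ • u) = v u - 1 := by
    intro u
    obtain ⟨j, rfl⟩ := e.surjective u
    rw [hxinv, hve, hve]
    ring
  have hvS : v ∈ S.toSubmodule := by
    rw [hSdef]
    change ∑ u, v u = 0
    have h1 : ∑ u, v u = ∑ u, v (t • u) :=
      (Equiv.sum_comp (MulAction.toPerm t) v).symm
    have h2 : ∑ u, v (t • u) = - ∑ u, v u := by
      rw [← Finset.sum_neg_distrib]
      exact Finset.sum_congr rfl (fun u _ => hvt u)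
    have h3 : (2 : ZMod p) * ∑ u, v u = 0 := by linear_combination h1.trans h2
    rcases mul_eq_zero.mp h3 with h | h
    · exact absurd h h2ne
    · exact h
  obtain ⟨vS, hvSdef⟩ : ∃ vS : S.toSubmodule, vS = ⟨v, hvS⟩ := ⟨_, rfl⟩
  obtain ⟨φ, hφdef⟩ : ∃ φ : Set.powersetCard α 2 → ZMod p, φ = f vS := ⟨_, rfl⟩
  have h1 : f (S.toRepresentation x vS) = f vS := by
    have hmem : ((S.toRepresentation x vS - vS : S.toSubmodule) : α → ZMod p) ∈
        (Cfsg.permConstants (ZMod p) G α).toSubmodule := by
      apply Submodule.mem_span_singleton.mpr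
      refine ⟨-1, ?_⟩
      funext u
      rw [hvSdef]
      change (-1 : ZMod p) • (1 : ZMod p) = v (x⁻¹ • u) - v u
      rw [hvx]
      simp
    have := hf _ hmem
    rw [map_sub, sub_eq_zero] at this
    exact this
  have h2 : f (S.toRepresentation t vS) = - f vS := by
    have e1 : S.toRepresentation t vS = -vS := by
      apply Subtype.ext
      funext u
      rw [hvSdef]
      change v (t⁻¹ • u) = - v u
      rw [htinv, hvt]
    rw [e1, map_neg]
  have hφx : ∀ s, φ (x • s) = φ s := by
    intro s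
    have h3 := hI x vS (x • s)
    rw [h1, inv_smul_smul, ← hφdef] at h3
    exact h3
  have hφt : ∀ s, φ (t • s) = - φ s := by
    intro s
    have h3 := hI t vS (t • s)
    rw [h2, inv_smul_smul, ← hφdef] at h3
    change - φ (t • s) = φ s at h3
    rw [← h3, neg_neg]
  have hφ0 : ∀ s, φ s = 0 := by
    apply Cfsg.Agent.Lib.Helper5.HeartHom.pair_fn_zero φ x t hφx hφt h2ne
    intro u w huw
    obtain ⟨a, rfl⟩ := e.surjective u
    obtain ⟨b, rfl⟩ := e.surjective w
    refine ⟨(2 * j₀ - a - b).val, ?_, ?_⟩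
    · rw [hte', hxn, ZMod.natCast_zmod_val]
      congr 1
      ring
    · rw [hte', hxn, ZMod.natCast_zmod_val]
      congr 1
      ring
  have h6 : f vS = 0 := by
    rw [← hφdef]
    exact funext hφ0
  have h7 : (vS : α → ZMod p) ∈ W.toSubmodule := (hmemW vS).mpr h6
  rw [hWc, hvSdef] at h7
  obtain ⟨c, hc⟩ := Submodule.mem_span_singleton.mp h7
  have h8 := congrFun hc (e 0)
  have h9 := congrFun hc (e 1)
  change c • (1 : ZMod p) = v (e 0) at h8
  change c • (1 : ZMod p) = v (e 1) at h9
  rw [hve, smul_eq_mul] at h8 h9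
  have h10 : (1 : ZMod p) = 0 := by linear_combination h8 - h9
  exact one_ne_zero h10

end Cfsg.Agent.S0676
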