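import Cfsg.Statements.S5626
import Cfsg.Agent.Lib.Helper28.Plane4

set_option autoImplicit false
open Cfsg

namespace Cfsg.Agent.S5626
open Cfsg.Agent.S5627 Cfsg.Agent.Lib.Helper28.Plane4

theorem exists_hyperoval {α : Type*} [Fintype α] [DecidableEq α] (hα : Fintype.card α = 21)
    {L : Set (Finset α)} (hL : Cfsg.IsSteinerSystem 2 5 L) : ∃ H : Finset α, IsHyperoval L H := by
  obtain ⟨H, hH⟩ : (IndepSets L 6).Nonempty := Finset.card_pos.mp (by
    rw [card_IndepSets_six hα hL]; norm_num)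
  rw [mem_IndepSets] at hH
  exact ⟨H, ⟨hH.1, hH.2⟩⟩

/-- Uniqueness of the projective plane of order 4: any two Steiner systems S(2, 5, 21) (21 points, lines of 5 points, two points on exactly one line) are isomorphic. -/
theorem result {α β : Type*} [Fintype α] [DecidableEq α] [Fintype β] [DecidableEq β] (hα : Fintype.card α = 21) (hβ : Fintype.card β = 21) {L : Set (Finset α)} {L' : Set (Finset β)} (hL : Cfsg.IsSteinerSystem 2 5 L) (hL' : Cfsg.IsSteinerSystem 2 5 L') : Cfsg.SetSystemIso L L' := by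
  obtain ⟨H, hH⟩ := exists_hyperoval hα hL
  obtain ⟨H', hH'⟩ := exists_hyperoval hβ hL'
  have e0 : H ≃ H' := Finset.equivOfCardEq (hH.card.trans hH'.card.symm)
  obtain ⟨a0⟩ : Nonempty α := Fintype.card_pos_iff.mp (by rw [hα]; norm_num)
  obtain ⟨b0⟩ : Nonempty β := Fintype.card_pos_iff.mp (by rw [hβ]; norm_num)
  have hs : HBij H H' (fun x => if h : x ∈ H then (e0 ⟨x, h⟩ : β) else b0)
      (fun y => if h : y ∈ H' then (e0.symm ⟨y, h⟩ : α) else a0) := by
    constructor
    · intro x hx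
      simp only [dif_pos hx]
      exact (e0 ⟨x, hx⟩).2
    · intro y hy
      simp only [dif_pos hy]
      exact (e0.symm ⟨y, hy⟩).2
    · intro x hx
      simp only [dif_pos hx, Subtype.coe_eta, Equiv.symm_apply_apply]
      rw [dif_pos (e0 ⟨x, hx⟩).2]
    · intro y hy
      simp only [dif_pos hy, Subtype.coe_eta, Equiv.apply_symm_apply]
      rw [dif_pos (e0.symm ⟨y, hy⟩).2]
  obtain ⟨e, -, he⟩ := exists_iso hα hβ hL hL' hH hH' hs
  exact ⟨e, he⟩

end Cfsg.Agent.S5626
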