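import Cfsg.Statements.S0428
import Mathlib
import Cfsg.Agent.Lib.Helper2.Steiner22

set_option autoImplicit false
open Cfsg

namespace Cfsg.Agent.S0428

/-- symmetric form of the adjacency relation -/
def adjS {α : Type*} (B : Set (Finset α)) : Option (α ⊕ ↥B) → Option (α ⊕ ↥B) → Prop
  | none, some (Sum.inl _) => True
  | some (Sum.inl _), none => True
  | some (Sum.inl a), some (Sum.inr b) => a ∈ (b : Finset α)
  | some (Sum.inr b), some (Sum.inl a) => a ∈ (b : Finset α)
  | some (Sum.inr b), some (Sum.inr c) => Disjoint (b : Finset α) (c : Finset α)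
  | _, _ => False

theorem adj_iff {α : Type*} {B : Set (Finset α)} (hB : Cfsg.IsSteinerSystem 3 6 B)
    (u v : Option (α ⊕ ↥B)) : (Cfsg.pointBlockGraph B).Adj u v ↔ adjS B u v := by
  unfold Cfsg.pointBlockGraph
  rw [SimpleGraph.fromRel_adj]
  rcases u with _ | (a | b) <;> rcases v with _ | (a' | b') <;>
    simp [Cfsg.pointBlockRel, adjS]
  constructor
  · rintro ⟨_, h | h⟩
    · exact h
    · exact h.symm
  · intro h
    refine ⟨?_, Or.inl h⟩
    intro hvw
    rw [hvw] at h
    exact Cfsg.Agent.Lib.Helper2.not_disjoint_self22 hB b'.2 h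

theorem card_decomp {α : Type*} [Fintype α] {B : Set (Finset α)}
    (S : Set (Option (α ⊕ ↥B))) [Fintype S]
    (n0 : ℕ) (F1 : Finset α) (F2 : Finset (Finset α))
    (hn0 : n0 = 0 ∨ n0 = 1) (h0 : none ∈ S ↔ n0 = 1)
    (h1 : ∀ a, some (Sum.inl a) ∈ S ↔ a ∈ F1)
    (h2 : ∀ b : ↥B, some (Sum.inr b) ∈ S ↔ (b : Finset α) ∈ F2) (hF2 : ∀ x ∈ F2, x ∈ B) :
    Fintype.card S = n0 + F1.card + F2.card := by
  classical
  rw [← Nat.card_eq_fintype_card, Nat.card_coe_set_eq]
  have hS : S = ({x | x = none ∧ n0 = 1} ∪ (fun a => some (Sum.inl a)) '' (F1 : Set α)) ∪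
      (fun b : ↥B => some (Sum.inr b)) '' {b : ↥B | (b : Finset α) ∈ F2} := by
    ext x
    rcases x with _ | (a | b)
    · simp [h0]
    · simp [h1]
    · simp [h2]
  have hd1 : Disjoint ({x : Option (α ⊕ ↥B) | x = none ∧ n0 = 1})
      ((fun a => some (Sum.inl a)) '' (F1 : Set α)) := by
    rw [Set.disjoint_left]
    rintro x ⟨rfl, _⟩ ⟨a, _, ha⟩
    simp at ha
  have hd2 : Disjoint ({x : Option (α ⊕ ↥B) | x = none ∧ n0 = 1} ∪
      (fun a => some (Sum.inl a)) '' (F1 : Set α))
      ((fun b : ↥B => some (Sum.inr b)) '' {b : ↥B | (b : Finset α) ∈ F2}) := by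
    rw [Set.disjoint_left]
    rintro x (⟨rfl, _⟩ | ⟨a, _, rfl⟩) ⟨b, _, hb⟩
    · simp at hb
    · simp at hb
  rw [hS, Set.ncard_union_eq hd2, Set.ncard_union_eq hd1]
  congr 1
  · congr 1
    · rcases hn0 with h | h
      · have : {x : Option (α ⊕ ↥B) | x = none ∧ n0 = 1} = ∅ := by
          ext x; simp [h]
        rw [this, h, Set.ncard_empty]
      · have : {x : Option (α ⊕ ↥B) | x = none ∧ n0 = 1} = {none} := by
          ext x; simp [h]
        rw [this, h, Set.ncard_singleton]
    · rw [Set.ncard_image_of_injective, Set.ncard_coe_finset]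
      intro a a' h
      simpa using h
  · rw [Set.ncard_image_of_injective, ← Set.ncard_image_of_injective _ Subtype.val_injective]
    · have : Subtype.val '' {b : ↥B | (b : Finset α) ∈ F2} = (F2 : Set (Finset α)) := by
        ext x
        constructor
        · rintro ⟨y, hy, rfl⟩
          exact hy
        · intro hx
          exact ⟨⟨x, hF2 x hx⟩, hx, rfl⟩
      rw [this, Set.ncard_coe_finset]
    · intro b b' h
      simpa using h


/-- The point-block graph of an S(3, 6, 22) is strongly regular with parameters (100, 22, 0, 6). -/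
theorem result {α : Type*} [Fintype α] (hα : Fintype.card α = 22) {B : Set (Finset α)} (hB : Cfsg.IsSteinerSystem 3 6 B) [Fintype B] [DecidableRel (Cfsg.pointBlockGraph B).Adj] : (Cfsg.pointBlockGraph B).IsSRGWith 100 22 0 6 := by
  classical
  open Cfsg.Agent.Lib.Helper2 Cfsg.Agent.Lib.Helper28.Steiner in
  refine ⟨?_, ?_, ?_, ?_⟩
  · -- number of vertices
    rw [Fintype.card_option, Fintype.card_sum, hα]
    have : Fintype.card ↥B = 77 := by
      rw [← Nat.card_eq_fintype_card, Nat.card_coe_set_eq]
      have : B = ((allBlocks B : Finset (Finset α)) : Set (Finset α)) := by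
        ext x
        simp [mem_allBlocks]
      rw [this, Set.ncard_coe_finset]
      exact card_allBlocks22 hα hB
    rw [this]
  · -- regularity
    intro v
    rw [← SimpleGraph.card_neighborSet_eq_degree]
    rcases v with _ | (p | b)
    · rw [card_decomp ((Cfsg.pointBlockGraph B).neighborSet none) 0 Finset.univ ∅ (Or.inl rfl)]
      · simp [hα]
      · rw [SimpleGraph.mem_neighborSet, adj_iff hB]; simp [adjS]
      · intro a; rw [SimpleGraph.mem_neighborSet, adj_iff hB]; simp [adjS]
      · intro b; rw [SimpleGraph.mem_neighborSet, adj_iff hB]; simp [adjS]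
      · simp
    · rw [card_decomp ((Cfsg.pointBlockGraph B).neighborSet (some (Sum.inl p))) 1 ∅
        (blocksThrough B {p}) (Or.inr rfl)]
      · rw [card_through_point22 hα hB p]; rfl
      · rw [SimpleGraph.mem_neighborSet, adj_iff hB]; simp [adjS]
      · intro a; rw [SimpleGraph.mem_neighborSet, adj_iff hB]; simp [adjS]
      · intro b; rw [SimpleGraph.mem_neighborSet, adj_iff hB]
        simp [adjS, mem_blocksThrough]
      · intro x hx; exact ((mem_blocksThrough B _ x).mp hx).1
    · rw [card_decomp ((Cfsg.pointBlockGraph B).neighborSet (some (Sum.inr b))) 0 (b : Finset α)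
        ((allBlocks B).filter (fun x => Disjoint (b : Finset α) x)) (Or.inl rfl)]
      · rw [card_disjoint22 hα hB b.2, hB.1 b b.2]
      · rw [SimpleGraph.mem_neighborSet, adj_iff hB]; simp [adjS]
      · intro a; rw [SimpleGraph.mem_neighborSet, adj_iff hB]; simp [adjS]
      · intro c; rw [SimpleGraph.mem_neighborSet, adj_iff hB]
        simp [adjS, mem_allBlocks]
      · intro x hx; exact (mem_allBlocks B x).mp (Finset.mem_filter.mp hx).1
  · -- adjacent vertices
    intro u v huv
    rw [adj_iff hB] at huv
    rcases u with _ | (p | b) <;> rcases v with _ | (q | c) <;> simp only [adjS] at huv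
    · -- none, point
      rw [card_decomp ((Cfsg.pointBlockGraph B).commonNeighbors none (some (Sum.inl q))) 0 ∅ ∅
        (Or.inl rfl)]
      · simp
      · rw [SimpleGraph.mem_commonNeighbors, adj_iff hB, adj_iff hB]; simp [adjS]
      · intro a; rw [SimpleGraph.mem_commonNeighbors, adj_iff hB, adj_iff hB]; simp [adjS]
      · intro d; rw [SimpleGraph.mem_commonNeighbors, adj_iff hB, adj_iff hB]; simp [adjS]
      · simp
    · -- point, none
      rw [card_decomp ((Cfsg.pointBlockGraph B).commonNeighbors (some (Sum.inl p)) none) 0 ∅ ∅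
        (Or.inl rfl)]
      · simp
      · rw [SimpleGraph.mem_commonNeighbors, adj_iff hB, adj_iff hB]; simp [adjS]
      · intro a; rw [SimpleGraph.mem_commonNeighbors, adj_iff hB, adj_iff hB]; simp [adjS]
      · intro d; rw [SimpleGraph.mem_commonNeighbors, adj_iff hB, adj_iff hB]; simp [adjS]
      · simp
    · -- point, block
      rw [card_decomp ((Cfsg.pointBlockGraph B).commonNeighbors (some (Sum.inl p))
        (some (Sum.inr c))) 0 ∅ ∅ (Or.inl rfl)]
      · simp
      · rw [SimpleGraph.mem_commonNeighbors, adj_iff hB, adj_iff hB]; simp [adjS]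
      · intro a; rw [SimpleGraph.mem_commonNeighbors, adj_iff hB, adj_iff hB]; simp [adjS]
      · intro d; rw [SimpleGraph.mem_commonNeighbors, adj_iff hB, adj_iff hB]
        simp only [adjS, Finset.notMem_empty, iff_false, not_and]
        intro hpd hcd
        exact (Finset.disjoint_left.mp hcd) huv hpd
      · simp
    · -- block, point
      rw [card_decomp ((Cfsg.pointBlockGraph B).commonNeighbors (some (Sum.inr b))
        (some (Sum.inl q))) 0 ∅ ∅ (Or.inl rfl)]
      · simp
      · rw [SimpleGraph.mem_commonNeighbors, adj_iff hB, adj_iff hB]; simp [adjS]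
      · intro a; rw [SimpleGraph.mem_commonNeighbors, adj_iff hB, adj_iff hB]; simp [adjS]
      · intro d; rw [SimpleGraph.mem_commonNeighbors, adj_iff hB, adj_iff hB]
        simp only [adjS, Finset.notMem_empty, iff_false, not_and]
        intro hbd hqd
        exact (Finset.disjoint_left.mp hbd) huv hqd
      · simp
    · -- block, block
      have hne : (b : Finset α) ≠ c := by
        intro h
        rw [h] at huv
        exact not_disjoint_self22 hB c.2 huv
      rw [card_decomp ((Cfsg.pointBlockGraph B).commonNeighbors (some (Sum.inr b))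
        (some (Sum.inr c))) 0 ((b : Finset α) ∩ c)
        (((allBlocks B).filter (fun x => Disjoint (b : Finset α) x)).filter
          (fun x => Disjoint (c : Finset α) x)) (Or.inl rfl)]
      · rw [card_disjoint_both22 hα hB b.2 c.2 hne, if_pos huv,
          Finset.disjoint_iff_inter_eq_empty.mp huv]
        simp
      · rw [SimpleGraph.mem_commonNeighbors, adj_iff hB, adj_iff hB]; simp [adjS]
      · intro a; rw [SimpleGraph.mem_commonNeighbors, adj_iff hB, adj_iff hB]; simp [adjS]
      · intro d; rw [SimpleGraph.mem_commonNeighbors, adj_iff hB, adj_iff hB]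
        simp [adjS, mem_allBlocks]
      · intro x hx
        exact (mem_allBlocks B x).mp (Finset.mem_filter.mp (Finset.mem_filter.mp hx).1).1
  · -- non-adjacent vertices
    intro u v hne huv
    rw [adj_iff hB] at huv
    rcases u with _ | (p | b) <;> rcases v with _ | (q | c) <;> simp only [adjS] at huv
    · exact absurd rfl hne
    · exact absurd trivial huv
    · -- none, block
      rw [card_decomp ((Cfsg.pointBlockGraph B).commonNeighbors none (some (Sum.inr c))) 0
        (c : Finset α) ∅ (Or.inl rfl)]
      · rw [hB.1 c c.2]; rfl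
      · rw [SimpleGraph.mem_commonNeighbors, adj_iff hB, adj_iff hB]; simp [adjS]
      · intro a; rw [SimpleGraph.mem_commonNeighbors, adj_iff hB, adj_iff hB]; simp [adjS]
      · intro d; rw [SimpleGraph.mem_commonNeighbors, adj_iff hB, adj_iff hB]; simp [adjS]
      · simp
    · exact absurd trivial huv
    · -- point, point
      have hpq : p ≠ q := fun h => hne (by rw [h])
      rw [card_decomp ((Cfsg.pointBlockGraph B).commonNeighbors (some (Sum.inl p))
        (some (Sum.inl q))) 1 ∅ (blocksThrough B {p, q}) (Or.inr rfl)]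
      · rw [card_through_pair22 hα hB hpq]; rfl
      · rw [SimpleGraph.mem_commonNeighbors, adj_iff hB, adj_iff hB]; simp [adjS]
      · intro a; rw [SimpleGraph.mem_commonNeighbors, adj_iff hB, adj_iff hB]; simp [adjS]
      · intro d; rw [SimpleGraph.mem_commonNeighbors, adj_iff hB, adj_iff hB]
        simp [adjS, mem_blocksThrough, Finset.insert_subset_iff]
      · intro x hx; exact ((mem_blocksThrough B _ x).mp hx).1
    · -- point, block
      rw [card_decomp ((Cfsg.pointBlockGraph B).commonNeighbors (some (Sum.inl p))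
        (some (Sum.inr c))) 0 ∅ ((blocksThrough B {p}).filter (fun x => Disjoint (c : Finset α) x))
        (Or.inl rfl)]
      · rw [card_through_disjoint22 hα hB c.2 huv]; rfl
      · rw [SimpleGraph.mem_commonNeighbors, adj_iff hB, adj_iff hB]; simp [adjS]
      · intro a; rw [SimpleGraph.mem_commonNeighbors, adj_iff hB, adj_iff hB]; simp [adjS]
      · intro d; rw [SimpleGraph.mem_commonNeighbors, adj_iff hB, adj_iff hB]
        simp [adjS, mem_blocksThrough]
      · intro x hx; exact ((mem_blocksThrough B _ x).mp (Finset.mem_filter.mp hx).1).1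
    · -- block, none
      rw [card_decomp ((Cfsg.pointBlockGraph B).commonNeighbors (some (Sum.inr b)) none) 0
        (b : Finset α) ∅ (Or.inl rfl)]
      · rw [hB.1 b b.2]; rfl
      · rw [SimpleGraph.mem_commonNeighbors, adj_iff hB, adj_iff hB]; simp [adjS]
      · intro a; rw [SimpleGraph.mem_commonNeighbors, adj_iff hB, adj_iff hB]; simp [adjS]
      · intro d; rw [SimpleGraph.mem_commonNeighbors, adj_iff hB, adj_iff hB]; simp [adjS]
      · simp
    · -- block, point
      rw [card_decomp ((Cfsg.pointBlockGraph B).commonNeighbors (some (Sum.inr b))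
        (some (Sum.inl q))) 0 ∅ ((blocksThrough B {q}).filter (fun x => Disjoint (b : Finset α) x))
        (Or.inl rfl)]
      · rw [card_through_disjoint22 hα hB b.2 huv]; rfl
      · rw [SimpleGraph.mem_commonNeighbors, adj_iff hB, adj_iff hB]; simp [adjS]
      · intro a; rw [SimpleGraph.mem_commonNeighbors, adj_iff hB, adj_iff hB]; simp [adjS]
      · intro d; rw [SimpleGraph.mem_commonNeighbors, adj_iff hB, adj_iff hB]
        simp [adjS, mem_blocksThrough, and_comm]
      · intro x hx; exact ((mem_blocksThrough B _ x).mp (Finset.mem_filter.mp hx).1).1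
    · -- block, block
      have hbc : (b : Finset α) ≠ c := fun h => hne (by rw [Subtype.ext h])
      rw [card_decomp ((Cfsg.pointBlockGraph B).commonNeighbors (some (Sum.inr b))
        (some (Sum.inr c))) 0 ((b : Finset α) ∩ c)
        (((allBlocks B).filter (fun x => Disjoint (b : Finset α) x)).filter
          (fun x => Disjoint (c : Finset α) x)) (Or.inl rfl)]
      · rw [card_disjoint_both22 hα hB b.2 c.2 hbc, if_neg huv]
        rcases inter22 hα hB b.2 c.2 hbc with h | h
        · exfalso
          apply huv
          rw [Finset.disjoint_iff_inter_eq_empty]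
          exact Finset.card_eq_zero.mp h
        · rw [h]
      · rw [SimpleGraph.mem_commonNeighbors, adj_iff hB, adj_iff hB]; simp [adjS]
      · intro a; rw [SimpleGraph.mem_commonNeighbors, adj_iff hB, adj_iff hB]; simp [adjS]
      · intro d; rw [SimpleGraph.mem_commonNeighbors, adj_iff hB, adj_iff hB]
        simp [adjS, mem_allBlocks]
      · intro x hx
        exact (mem_allBlocks B x).mp (Finset.mem_filter.mp (Finset.mem_filter.mp hx).1).1

end Cfsg.Agent.S0428
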