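import Cfsg.Statements.S0498
import Mathlib
import Cfsg.Agent.Lib.Helper4.PslQ11
import Cfsg.Agent.Lib.Helper4.PslQ13
import Cfsg.Agent.Lib.Helper2.GLCard

set_option autoImplicit false
open Cfsg

namespace Cfsg.Agent.S0498


/-- A simple group of order 660, respectively 1092, is isomorphic to the projective special linear group of dimension 2
over the field with 11, respectively 13, elements. -/
theorem result {G : Type*} [Group G] [Finite G] [IsSimpleGroup G] (p : ℕ)
    (hp : p = 11 ∨ p = 13) (h : 2 * Nat.card G = p * (p ^ 2 - 1)) {F : Type*} [Field F] [Fintype F]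
    (hF : Fintype.card F = p) : Nonempty (G ≃* Matrix.ProjectiveSpecialLinearGroup (Fin 2) F) := by
  rcases hp with rfl | rfl
  · have hG : Nat.card G = 660 := by
      norm_num at h
      omega
    have hcard := Cfsg.Agent.Lib.Helper2.card_PSL_field (F := F) 2 (by norm_num)
    rw [hF, Fin.prod_univ_two] at hcard
    norm_num at hcard
    have hsimple : IsSimpleGroup (Matrix.ProjectiveSpecialLinearGroup (Fin 2) F) :=
      Matrix.ProjectiveSpecialLinearGroup.rank_two_simple
        (by rw [Nat.card_eq_fintype_card, hF]; norm_num)
    exact Cfsg.Agent.Lib.Helper4.s660_mulEquiv hG (by omega)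
  · have hG : Nat.card G = 1092 := by
      norm_num at h
      omega
    have hcard := Cfsg.Agent.Lib.Helper2.card_PSL_field (F := F) 2 (by norm_num)
    rw [hF, Fin.prod_univ_two] at hcard
    norm_num at hcard
    have hsimple : IsSimpleGroup (Matrix.ProjectiveSpecialLinearGroup (Fin 2) F) :=
      Matrix.ProjectiveSpecialLinearGroup.rank_two_simple
        (by rw [Nat.card_eq_fintype_card, hF]; norm_num)
    exact Cfsg.Agent.Lib.Helper4.s1092_mulEquiv hG (by omega)

end Cfsg.Agent.S0498
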