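import Cfsg.Statements.S1560
-- import your own Cfsg.Agent.* helpers here
import Cfsg.Agent.Lib.Helper3.Golay.Inter
import Cfsg.Agent.Lib.Helper3.Golay.Dodecad

set_option autoImplicit false
open scoped Pointwise
open Cfsg

namespace Cfsg.Agent.S1560

open scoped Pointwise
open Cfsg.Agent.Lib.Helper3.Golay

set_option maxRecDepth 100000 in
theorem cnt4 : countBelow 4096 (wiTest 12 4 d0) = 495 := by decide +kernel
set_option maxRecDepth 100000 in
theorem cnt6 : countBelow 4096 (wiTest 12 6 d0) = 1584 := by decide +kernel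
set_option maxRecDepth 100000 in
theorem cnt8 : countBelow 4096 (wiTest 12 8 d0) = 495 := by decide +kernel

theorem set_eq (d : Finset GolayPt) (k : ℕ) :
    {d' : Finset GolayPt | d' ∈ dodecads ∧ (d ∩ d').card = k} =
      {b : Finset GolayPt | b ∈ wordsOfWeight (golayCode : Set (GolayPt → ZMod 2)) 12 ∧
        (b ∩ d).card = k} := by
  ext b
  simp only [Set.mem_ofPred_eq, Finset.inter_comm d b]
  rfl

/-- Intersection numbers of dodecads: a dodecad meets every other dodecad in 0, 4, 6 or 8 points, meeting 495 of them in 4 points, 1584 in 6 points and 495 in 8 points. -/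
theorem result (d : Finset Cfsg.GolayPt) (hd : d ∈ Cfsg.dodecads) : (∀ d' ∈ Cfsg.dodecads, d' ≠ d → (d ∩ d').card = 0 ∨ (d ∩ d').card = 4 ∨ (d ∩ d').card = 6 ∨ (d ∩ d').card = 8) ∧ {d' : Finset Cfsg.GolayPt | d' ∈ Cfsg.dodecads ∧ (d ∩ d').card = 4}.ncard = 495 ∧ {d' : Finset Cfsg.GolayPt | d' ∈ Cfsg.dodecads ∧ (d ∩ d').card = 6}.ncard = 1584 ∧ {d' : Finset Cfsg.GolayPt | d' ∈ Cfsg.dodecads ∧ (d ∩ d').card = 8}.ncard = 495 := by
  refine ⟨?_, ?_⟩
  · intro d' hd' hne
    have hs := symmDiff_mem_supports hd.1 hd'.1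
    have hc := card_mem_supports hs
    have h1 := card_symmDiff_add d d'
    rw [hd.2, hd'.2] at h1
    have h0 : (symmDiff d d').card ≠ 0 := by
      intro h
      rw [Finset.card_eq_zero] at h
      exact hne (symmDiff_eq_bot.mp h).symm
    omega
  · obtain ⟨g, hg, rfl⟩ := exists_map_dodecad d0_mem hd
    refine ⟨?_, ?_, ?_⟩
    · rw [set_eq, ncard_wi_smul hg, ncard_wi, cnt4]
    · rw [set_eq, ncard_wi_smul hg, ncard_wi, cnt6]
    · rw [set_eq, ncard_wi_smul hg, ncard_wi, cnt8]

end Cfsg.Agent.S1560
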