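import Cfsg.Statements.S1566
-- import your own Cfsg.Agent.* helpers here
import Cfsg.Agent.S1560
import Cfsg.Agent.S1561
import Cfsg.Agent.Lib.Helper3.Golay.Steiner
import Cfsg.Agent.Lib.Helper3.Golay.Dodecad
import Cfsg.Agent.Lib.Helper3.Golay.Maximal

set_option autoImplicit false
open scoped Pointwise
open Cfsg

namespace Cfsg.Agent.S1566

open scoped Pointwise
open Cfsg.Agent.Lib.Helper3.Golay

theorem univ_mem_supports : (Finset.univ : Finset GolayPt) ∈ supports (golayCode : Set (GolayPt → ZMod 2)) := by
  rw [mem_supports_iff]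
  refine ⟨4095, by norm_num, ?_⟩
  have : codeMask 4095 = 0xffffff := by decide +kernel
  rw [this]
  ext p
  simp only [Finset.mem_univ, mem_bitSet, true_iff]
  have := idx_lt p
  revert this
  generalize idx p = i
  intro hi
  interval_cases i <;> decide

theorem compl_mem_dodecads {d : Finset GolayPt} (hd : d ∈ dodecads) : dᶜ ∈ dodecads := by
  refine ⟨?_, ?_⟩
  · have := symmDiff_mem_supports hd.1 univ_mem_supports
    have e : symmDiff d Finset.univ = dᶜ := by
      ext p
      simp [Finset.mem_symmDiff]
    rw [← e]; exact this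
  · rw [Finset.card_compl, hd.2]
    simp only [card_pts]

theorem smul_compl (g : Equiv.Perm GolayPt) (d : Finset GolayPt) : g • dᶜ = (g • d)ᶜ := by
  ext p
  rw [Finset.mem_compl, ← Finset.inv_smul_mem_iff, ← Finset.inv_smul_mem_iff, Finset.mem_compl]

/-- the pair of a set and its complement -/
def pr (e : Finset GolayPt) : Finset (Finset GolayPt) := {e, eᶜ}

theorem smul_pr (g : Equiv.Perm GolayPt) (e : Finset GolayPt) : g • pr e = pr (g • e) := by
  unfold pr
  rw [Finset.smul_finset_insert, Finset.smul_finset_singleton, smul_compl]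

theorem ne_compl {e : Finset GolayPt} : e ≠ eᶜ := by
  intro h
  have hp : pt 0 ∈ e ∨ pt 0 ∈ eᶜ := by
    by_cases h0 : pt 0 ∈ e
    · exact Or.inl h0
    · exact Or.inr (Finset.mem_compl.mpr h0)
  rcases hp with hp | hp
  · have := hp; rw [h, Finset.mem_compl] at this; exact this hp
  · have := hp; rw [← h] at this; exact (Finset.mem_compl.mp hp) this

theorem card_pr (e : Finset GolayPt) : (pr e).card = 2 := by
  unfold pr
  rw [Finset.card_pair ne_compl]

theorem pr_eq_iff {e e' : Finset GolayPt} : pr e' = pr e ↔ e' = e ∨ e' = eᶜ := by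
  unfold pr
  constructor
  · intro h
    have : e' ∈ ({e, eᶜ} : Finset (Finset GolayPt)) := by rw [← h]; simp
    simpa using this
  · rintro (rfl | rfl)
    · rfl
    · rw [compl_compl, Finset.pair_comm]

theorem mem_pr {e e' : Finset GolayPt} : e' ∈ pr e ↔ e' = e ∨ e' = eᶜ := by
  unfold pr; simp

theorem card_inter_compl (d e : Finset GolayPt) : (d ∩ eᶜ).card + (d ∩ e).card = d.card := by
  have := Finset.card_sdiff_add_card_inter d e
  have e1 : d ∩ eᶜ = d \ e := by
    ext p; simp [Finset.mem_sdiff]
  rw [e1]; exact this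

theorem card_image_pr (S : Finset (Finset GolayPt)) (hS : ∀ e ∈ S, eᶜ ∈ S) :
    2 * (S.image pr).card = S.card := by
  classical
  have hmaps : Set.MapsTo pr (S : Set (Finset GolayPt)) (S.image pr : Finset _) := by
    intro e he
    exact Finset.mem_image_of_mem pr he
  rw [Finset.card_eq_sum_card_fiberwise hmaps]
  have : ∀ y ∈ S.image pr, (S.filter (fun e => pr e = y)).card = 2 := by
    intro y hy
    obtain ⟨e0, he0, rfl⟩ := Finset.mem_image.mp hy
    have : S.filter (fun e => pr e = pr e0) = pr e0 := by
      ext e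
      rw [Finset.mem_filter, pr_eq_iff, mem_pr]
      constructor
      · exact fun h => h.2
      · rintro (rfl | rfl)
        · exact ⟨he0, Or.inl rfl⟩
        · exact ⟨hS _ he0, Or.inr rfl⟩
    rw [this, card_pr]
  rw [Finset.sum_congr rfl this, Finset.sum_const, smul_eq_mul, mul_comm]

theorem arith66 : ∀ I ⊆ Finset.range (2 + 1), 0 ∈ I → (∀ i ∈ I, [1, 495, 792].getD i 0 ≠ 0) →
    (∑ i ∈ I, [1, 495, 792].getD i 0) ∣ 1288 →
    I = {0} ∨ ∀ i ≤ 2, [1, 495, 792].getD i 0 ≠ 0 → i ∈ I := by
  decide

open Classical in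
/-- class of a pair of complementary dodecads relative to the dodecad `d` -/
noncomputable def cls66 (d : Finset GolayPt) (y : Finset (Finset GolayPt)) : ℕ :=
  if y = pr d then 0 else if ∃ e ∈ y, (d ∩ e).card = 6 then 2 else 1

/-- The setwise stabiliser of a dodecad together with its complement is a maximal proper subgroup of the group of the length-24 code. -/
theorem result (d : Finset Cfsg.GolayPt) (hd : d ∈ Cfsg.dodecads) : IsCoatom (MulAction.stabilizer Cfsg.M24 ({d, dᶜ} : Finset (Finset Cfsg.GolayPt))) := by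
  classical
  obtain ⟨hk, h4, h6, h8⟩ := Cfsg.Agent.S1560.result d hd
  have hdc : d.card = 12 := hd.2
  -- facts on intersection numbers
  have kcompl : ∀ e : Finset GolayPt, (d ∩ eᶜ).card = 12 - (d ∩ e).card := by
    intro e
    have := card_inter_compl d e
    omega
  have k12 : ∀ e ∈ dodecads, (d ∩ e).card = 12 → e = d := by
    intro e he h
    have h1 : d ∩ e = d := Finset.eq_of_subset_of_card_le Finset.inter_subset_left (by omega)
    have h2 : d ∩ e = e := Finset.eq_of_subset_of_card_le Finset.inter_subset_right (by rw [he.2]; omega)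
    exact h2.symm.trans h1
  have k0 : ∀ e ∈ dodecads, (d ∩ e).card = 0 → e = dᶜ := by
    intro e he h
    have : (d ∩ eᶜ).card = 12 := by rw [kcompl, h]
    have h1 : d ∩ eᶜ = d := Finset.eq_of_subset_of_card_le Finset.inter_subset_left (by omega)
    have h2 : d ∩ eᶜ = eᶜ := Finset.eq_of_subset_of_card_le Finset.inter_subset_right
      (by rw [(compl_mem_dodecads he).2]; omega)
    have : eᶜ = d := h2.symm.trans h1
    rw [← this, compl_compl]
  have kcases : ∀ e ∈ dodecads, e = d ∨ e = dᶜ ∨ (d ∩ e).card = 4 ∨ (d ∩ e).card = 6 ∨ (d ∩ e).card = 8 := by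
    intro e he
    by_cases hed : e = d
    · exact Or.inl hed
    · rcases hk e he hed with h | h | h | h
      · exact Or.inr (Or.inl (k0 e he h))
      · exact Or.inr (Or.inr (Or.inl h))
      · exact Or.inr (Or.inr (Or.inr (Or.inl h)))
      · exact Or.inr (Or.inr (Or.inr (Or.inr h)))
  have kd : (d ∩ d).card = 12 := by rw [Finset.inter_self, hdc]
  have kdc : (d ∩ dᶜ).card = 0 := by rw [kcompl, kd]
  -- the sets of dodecads
  set D : Finset (Finset GolayPt) := Finset.univ.filter (fun e => e ∈ dodecads) with hD
  have memD : ∀ e, e ∈ D ↔ e ∈ dodecads := by intro e; simp [hD]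
  have hDcard : D.card = 2576 := by
    rw [← ncard_dodecads, ← Set.ncard_coe_finset]
    congr 1
    ext e
    simp [hD]
  have hDk : ∀ k : ℕ, (D.filter (fun e => (d ∩ e).card = k)).card =
      {d' : Finset Cfsg.GolayPt | d' ∈ Cfsg.dodecads ∧ (d ∩ d').card = k}.ncard := by
    intro k
    rw [← Set.ncard_coe_finset]
    congr 1
    ext e
    simp [hD]
  -- class values
  have cls_pr : ∀ e ∈ dodecads, (cls66 d (pr e) = 0 ↔ (e = d ∨ e = dᶜ)) ∧
      (cls66 d (pr e) = 2 ↔ (d ∩ e).card = 6) ∧
      (cls66 d (pr e) = 1 ↔ ((d ∩ e).card = 4 ∨ (d ∩ e).card = 8)) := by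
    intro e he
    have hex : (∃ e' ∈ pr e, (d ∩ e').card = 6) ↔ (d ∩ e).card = 6 := by
      constructor
      · rintro ⟨e', he', h⟩
        rcases mem_pr.mp he' with rfl | rfl
        · exact h
        · rw [kcompl] at h; omega
      · intro h
        exact ⟨e, mem_pr.mpr (Or.inl rfl), h⟩
    unfold cls66
    simp only [pr_eq_iff, hex]
    rcases kcases e he with h | h | h | h | h
    · subst h
      simp [hdc]
    · subst h
      simp
    · have n1 : ¬ (e = d ∨ e = dᶜ) := by
        rintro (rfl | rfl) <;> omega
      simp [h, n1]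
    · have n1 : ¬ (e = d ∨ e = dᶜ) := by
        rintro (rfl | rfl) <;> omega
      simp [h, n1]
    · have n1 : ¬ (e = d ∨ e = dᶜ) := by
        rintro (rfl | rfl) <;> omega
      simp [h, n1]
  have hΩcard : (D.image pr).card = 1288 := by
    have := card_image_pr D (fun e he => (memD _).mpr (compl_mem_dodecads ((memD e).mp he)))
    omega
  show IsCoatom (MulAction.stabilizer (↥M24) (pr d))
  apply isCoatom_stabilizer_of_suborbits (G := ↥M24) (pr d) (D.image pr)
    (fun y => by
      rw [Finset.mem_image]
      constructor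
      · rintro ⟨e, he, rfl⟩
        obtain ⟨g, hg, rfl⟩ := exists_map_dodecad hd ((memD e).mp he)
        exact ⟨⟨g, hg⟩, smul_pr g d⟩
      · rintro ⟨g, rfl⟩
        exact ⟨g.1 • d, (memD _).mpr (smul_mem_dodecads g.2 hd), (smul_pr g.1 d).symm⟩)
    (cls66 d) 2 (fun i => [1, 495, 792].getD i 0)
  · intro y _
    unfold cls66
    constructor
    · intro h
      by_contra hne
      rw [if_neg hne] at h
      split_ifs at h
    · intro h
      rw [if_pos h]
  · intro y _
    unfold cls66
    split_ifs <;> omega
  · intro i hi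
    interval_cases i
    · -- class 0
      have : (D.image pr).filter (fun y => cls66 d y = 0) = {pr d} := by
        ext y
        rw [Finset.mem_filter, Finset.mem_singleton, Finset.mem_image]
        constructor
        · rintro ⟨⟨e, he, rfl⟩, h⟩
          exact pr_eq_iff.mpr (((cls_pr e ((memD e).mp he)).1).mp h)
        · rintro rfl
          exact ⟨⟨d, (memD d).mpr hd, rfl⟩, ((cls_pr d hd).1).mpr (Or.inl rfl)⟩
      rw [this]; rfl
    · -- class 1
      set S := D.filter (fun e => (d ∩ e).card = 4 ∨ (d ∩ e).card = 8) with hS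
      have : (D.image pr).filter (fun y => cls66 d y = 1) = S.image pr := by
        ext y
        rw [Finset.mem_filter, Finset.mem_image, Finset.mem_image]
        constructor
        · rintro ⟨⟨e, he, rfl⟩, h⟩
          refine ⟨e, ?_, rfl⟩
          rw [hS, Finset.mem_filter]
          exact ⟨he, ((cls_pr e ((memD e).mp he)).2.2).mp h⟩
        · rintro ⟨e, he, rfl⟩
          rw [hS, Finset.mem_filter] at he
          exact ⟨⟨e, he.1, rfl⟩, ((cls_pr e ((memD e).mp he.1)).2.2).mpr he.2⟩
      rw [this]
      have hScl : ∀ e ∈ S, eᶜ ∈ S := by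
        intro e he
        rw [hS, Finset.mem_filter] at he ⊢
        refine ⟨(memD _).mpr (compl_mem_dodecads ((memD e).mp he.1)), ?_⟩
        rw [kcompl]
        omega
      have hScard : S.card = 990 := by
        have e1 : S = D.filter (fun e => (d ∩ e).card = 4) ∪ D.filter (fun e => (d ∩ e).card = 8) := by
          rw [hS, Finset.filter_or]
        have e2 : Disjoint (D.filter (fun e => (d ∩ e).card = 4)) (D.filter (fun e => (d ∩ e).card = 8)) := by
          rw [Finset.disjoint_left]
          intro e he he'
          rw [Finset.mem_filter] at he he'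
          omega
        rw [e1, Finset.card_union_of_disjoint e2, hDk, hDk, h4, h8]
      have := card_image_pr S hScl
      show (S.image pr).card = 495
      omega
    · -- class 2
      set S := D.filter (fun e => (d ∩ e).card = 6) with hS
      have : (D.image pr).filter (fun y => cls66 d y = 2) = S.image pr := by
        ext y
        rw [Finset.mem_filter, Finset.mem_image, Finset.mem_image]
        constructor
        · rintro ⟨⟨e, he, rfl⟩, h⟩
          refine ⟨e, ?_, rfl⟩
          rw [hS, Finset.mem_filter]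
          exact ⟨he, ((cls_pr e ((memD e).mp he)).2.1).mp h⟩
        · rintro ⟨e, he, rfl⟩
          rw [hS, Finset.mem_filter] at he
          exact ⟨⟨e, he.1, rfl⟩, ((cls_pr e ((memD e).mp he.1)).2.1).mpr he.2⟩
      rw [this]
      have hScl : ∀ e ∈ S, eᶜ ∈ S := by
        intro e he
        rw [hS, Finset.mem_filter] at he ⊢
        refine ⟨(memD _).mpr (compl_mem_dodecads ((memD e).mp he.1)), ?_⟩
        rw [kcompl]
        omega
      have hScard : S.card = 1584 := by
        rw [hS, hDk, h6]
      have := card_image_pr S hScl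
      show (S.image pr).card = 792
      omega
  · intro y hy y' hy' hc
    obtain ⟨e, he, rfl⟩ := Finset.mem_image.mp hy
    obtain ⟨e', he', rfl⟩ := Finset.mem_image.mp hy'
    have hed := (memD e).mp he
    have hed' := (memD e').mp he'
    -- find a representative of the second pair with the same intersection number
    have : ∃ e'' ∈ dodecads, pr e'' = pr e' ∧ (d ∩ e'').card = (d ∩ e).card := by
      obtain ⟨c0, c2, c1⟩ := cls_pr e hed
      obtain ⟨c0', c2', c1'⟩ := cls_pr e' hed'
      have hle : cls66 d (pr e) ≤ 2 := by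
        unfold cls66
        split_ifs <;> omega
      have hcases : cls66 d (pr e) = 0 ∨ cls66 d (pr e) = 1 ∨ cls66 d (pr e) = 2 := by omega
      rcases hcases with h | h | h
      · have h' : cls66 d (pr e') = 0 := hc ▸ h
        rcases c0.mp h with h1 | h1
        · rcases c0'.mp h' with h2 | h2
          · exact ⟨e', hed', rfl, by rw [h1, h2]⟩
          · exact ⟨e'ᶜ, compl_mem_dodecads hed', pr_eq_iff.mpr (Or.inr rfl), by rw [h1, h2, compl_compl]⟩
        · rcases c0'.mp h' with h2 | h2
          · exact ⟨e'ᶜ, compl_mem_dodecads hed', pr_eq_iff.mpr (Or.inr rfl), by rw [h1, h2]⟩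
          · exact ⟨e', hed', rfl, by rw [h1, h2]⟩
      · have h' : cls66 d (pr e') = 1 := hc ▸ h
        have a := c1.mp h
        have a' := c1'.mp h'
        by_cases heq : (d ∩ e').card = (d ∩ e).card
        · exact ⟨e', hed', rfl, heq⟩
        · refine ⟨e'ᶜ, compl_mem_dodecads hed', pr_eq_iff.mpr (Or.inr rfl), ?_⟩
          rw [kcompl]
          omega
      · have h' : cls66 d (pr e') = 2 := hc ▸ h
        exact ⟨e', hed', rfl, by rw [c2.mp h, c2'.mp h']⟩
    obtain ⟨e'', hed'', hpr, hkk⟩ := this
    obtain ⟨g, hg, hgd, hge⟩ := Cfsg.Agent.S1561.result d e e'' hd hed hed'' hkk.symm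
    refine ⟨⟨g, hg⟩, ?_, ?_⟩
    · rw [MulAction.mem_stabilizer_iff]
      show g • pr d = pr d
      rw [smul_pr, hgd]
    · show g • pr e = pr e'
      rw [smul_pr, hge, hpr]
  · rw [hΩcard]; exact arith66
  · rw [hΩcard]; norm_num

end Cfsg.Agent.S1566
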