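import Cfsg.Statements.S1600
-- import your own Cfsg.Agent.* helpers here
import Cfsg.Agent.Lib.Helper3.Golay.Dodecad3
import Cfsg.Agent.Lib.Helper3.Golay.TblPerm

set_option autoImplicit false
open scoped Pointwise
open Cfsg

namespace Cfsg.Agent.S1600

open scoped Pointwise
open Cfsg.Agent.Lib.Helper3.Golay

/-- elements of the stabilizer of the base dodecad fixing three of its points, one for each point
outside the dodecad -/
def L1600 : List (List ℕ) := [
  [0, 1, 2, 3, 12, 5, 9, 10, 16, 6, 7, 22, 4, 18, 14, 19, 8, 17, 13, 15, 21, 20, 11, 23],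
  [0, 1, 2, 6, 12, 7, 8, 5, 18, 4, 15, 20, 13, 9, 23, 17, 16, 19, 3, 10, 11, 22, 14, 21],
  [0, 1, 2, 8, 3, 10, 6, 19, 9, 4, 15, 14, 16, 18, 22, 17, 13, 5, 12, 7, 11, 23, 20, 21],
  [0, 1, 2, 16, 12, 11, 3, 14, 4, 8, 21, 19, 9, 6, 7, 22, 13, 20, 18, 23, 10, 17, 15, 5],
  [0, 1, 2, 13, 16, 14, 8, 22, 3, 9, 23, 7, 4, 6, 19, 20, 18, 11, 12, 21, 15, 5, 17, 10],
  [0, 1, 2, 18, 16, 15, 12, 17, 9, 8, 10, 11, 6, 13, 14, 5, 4, 7, 3, 19, 21, 20, 23, 22],
  [0, 1, 2, 3, 16, 17, 13, 19, 4, 18, 15, 20, 8, 9, 23, 7, 12, 5, 6, 10, 22, 11, 21, 14],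
  [0, 1, 2, 6, 18, 19, 3, 17, 13, 9, 10, 22, 16, 8, 21, 15, 12, 7, 4, 5, 20, 14, 11, 23],
  [0, 1, 2, 16, 4, 20, 18, 22, 9, 6, 23, 17, 13, 3, 5, 21, 12, 11, 8, 14, 19, 15, 10, 7],
  [0, 1, 2, 6, 3, 21, 16, 11, 8, 18, 22, 17, 9, 12, 19, 14, 4, 23, 13, 20, 15, 5, 10, 7],
  [0, 1, 2, 18, 13, 22, 9, 20, 8, 4, 21, 19, 3, 6, 7, 11, 12, 14, 16, 23, 17, 10, 5, 15],
  [0, 1, 2, 3, 18, 23, 16, 20, 6, 8, 21, 15, 13, 4, 17, 22, 9, 14, 12, 11, 10, 7, 19, 5]]

/-- three base points in the dodecad and one outside -/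
def bs1600 : List ℕ := [0, 1, 2, 5]

theorem L1600_ok : L1600.all (tblOK d0) = true := by decide +kernel

theorem trans1600 : transOK L1600 bs1600 3 0xfacca0 = true := by decide +kernel

theorem bs1600_lt (j : ℕ) : bs1600.getD j 0 < 24 := by
  unfold bs1600
  by_cases hj : j < 4
  · interval_cases j <;> decide
  · rw [List.getD_eq_default _ _ (by simpa using hj)]; norm_num

theorem compl_d0 : ∀ y : GolayPt, d0.testBit (idx y) = false → (0xfacca0 : ℕ).testBit (idx y) = true := by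
  decide +kernel

/-- transitivity of the three point stabilizer on the complement, base case -/
theorem base1600 {y : GolayPt} (hy : y ∉ bitSet d0) :
    ∃ σ ∈ H12, σ (pt 0) = pt 0 ∧ σ (pt 1) = pt 1 ∧ σ (pt 2) = pt 2 ∧ σ (pt 5) = y := by
  have hy' : y ∈ bitSet 0xfacca0 := by
    rw [mem_bitSet]
    apply compl_d0
    rw [mem_bitSet] at hy
    simpa using hy
  obtain ⟨σ, hσ, hfix, hmap⟩ := transOK_sound (sound_of_all_tblOK L1600_ok) bs1600_lt trans1600 hy'
  exact ⟨σ, hσ, hfix 0 (by norm_num), hfix 1 (by norm_num), hfix 2 (by norm_num), hmap⟩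

theorem inj2 {α : Type*} {a b : α} (hab : a ≠ b) :
    ∀ i < 2, ∀ j < 2, (if i = 0 then a else b) = (if j = 0 then a else b) → i = j := by
  intro i hi j hj h
  interval_cases i <;> interval_cases j <;> simp_all

theorem inj3 {α : Type*} {a b c : α} (hab : a ≠ b) (hac : a ≠ c) (hbc : b ≠ c) :
    ∀ i < 3, ∀ j < 3, (if i = 0 then a else if i = 1 then b else c) =
      (if j = 0 then a else if j = 1 then b else c) → i = j := by
  intro i hi j hj h
  interval_cases i <;> interval_cases j <;> simp_all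

theorem mem3 {α : Type*} {a b c : α} {P : α → Prop} (ha : P a) (hb : P b) (hc : P c) :
    ∀ i < 3, P (if i = 0 then a else if i = 1 then b else c) := by
  intro i hi
  interval_cases i <;> simp_all

theorem mem2 {α : Type*} {a b : α} {P : α → Prop} (ha : P a) (hb : P b) :
    ∀ i < 2, P (if i = 0 then a else b) := by
  intro i hi
  interval_cases i <;> simp_all

/-- the flat form of the stabilizer in the statement -/
def flat1600 (d : Finset GolayPt) (p q r : GolayPt) :
    ↥(MulAction.stabilizer Cfsg.M24 d ⊓ MulAction.stabilizer Cfsg.M24 p ⊓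
      MulAction.stabilizer Cfsg.M24 q ⊓ MulAction.stabilizer Cfsg.M24 r) ≃
    ↥(M24 ⊓ MulAction.stabilizer (Equiv.Perm GolayPt) d ⊓ MulAction.stabilizer (Equiv.Perm GolayPt) p ⊓
      MulAction.stabilizer (Equiv.Perm GolayPt) q ⊓ MulAction.stabilizer (Equiv.Perm GolayPt) r) where
  toFun g := ⟨g.1.1, ⟨⟨⟨g.1.2, g.2.1.1.1⟩, g.2.1.1.2⟩, g.2.1.2⟩, g.2.2⟩
  invFun g := ⟨⟨g.1, g.2.1.1.1.1⟩, ⟨⟨g.2.1.1.1.2, g.2.1.1.2⟩, g.2.1.2⟩, g.2.2⟩
  left_inv _ := rfl
  right_inv _ := rfl

/-- The pointwise stabiliser of three points of a dodecad inside the dodecad stabiliser (order 72) is transitive on the complementary dodecad. -/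
theorem result (d : Finset Cfsg.GolayPt) (hd : d ∈ Cfsg.dodecads) (p q r : Cfsg.GolayPt) (hp : p ∈ d) (hq : q ∈ d) (hr : r ∈ d) (hpq : p ≠ q) (hpr : p ≠ r) (hqr : q ≠ r) : Nat.card ↥(MulAction.stabilizer Cfsg.M24 d ⊓ MulAction.stabilizer Cfsg.M24 p ⊓ MulAction.stabilizer Cfsg.M24 q ⊓ MulAction.stabilizer Cfsg.M24 r) = 72 ∧ ∀ x ∉ d, ∀ y ∉ d, ∃ g ∈ (MulAction.stabilizer Cfsg.M24 d ⊓ MulAction.stabilizer Cfsg.M24 p ⊓ MulAction.stabilizer Cfsg.M24 q ⊓ MulAction.stabilizer Cfsg.M24 r), ((g : ↥Cfsg.M24) : Equiv.Perm Cfsg.GolayPt) x = y := by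
  classical
  constructor
  · rw [Nat.card_congr (flat1600 d p q r)]
    set S1 := M24 ⊓ MulAction.stabilizer (Equiv.Perm GolayPt) d ⊓ MulAction.stabilizer (Equiv.Perm GolayPt) p
      with hS1
    have hS1d : ∀ g ∈ S1, ∀ z, g z ∈ d ↔ z ∈ d := by
      intro g hg z
      have h1 : g • d = d := hg.1.2
      conv_lhs => rw [← h1]
      exact Finset.smul_mem_smul_finset_iff g
    have hS1p : ∀ g ∈ S1, g p = p := fun g hg => hg.2
    have c1 : Nat.card ↥S1 = 7920 := card_stab_dodecad_point hd hp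
    -- second point
    have h2 := card_of_orbit_eq S1 q (d.erase p)
      (by
        intro g hg
        rw [Finset.mem_erase, Equiv.Perm.smul_def]
        refine ⟨?_, (hS1d g hg q).mpr hq⟩
        intro h
        rw [← hS1p g hg] at h
        exact hpq (g.injective h).symm)
      (by
        intro δ hδ
        rw [Finset.mem_erase] at hδ
        obtain ⟨g, hg, hmap⟩ := stab_dodecad_map hd (fun i => if i = 0 then p else q)
          (fun i => if i = 0 then p else δ) 2 (by norm_num)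
          (mem2 (P := fun z => z ∈ d) hp hq)
          (mem2 (P := fun z => z ∈ d) hp hδ.2)
          (inj2 hpq) (inj2 (Ne.symm hδ.1))
        have e0 := hmap 0 (by norm_num)
        have e1 := hmap 1 (by norm_num)
        simp only [if_true, one_ne_zero, if_false] at e0 e1
        exact ⟨g, Subgroup.mem_inf.mpr ⟨hg, e0⟩, e1⟩)
    have hcard1 : (d.erase p).card = 11 := by rw [Finset.card_erase_of_mem hp, hd.2]
    rw [c1, hcard1] at h2
    set S2 := S1 ⊓ MulAction.stabilizer (Equiv.Perm GolayPt) q with hS2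
    have c2 : Nat.card ↥S2 = 720 := by omega
    -- third point
    have h3 := card_of_orbit_eq S2 r ((d.erase p).erase q)
      (by
        intro g hg
        rw [Finset.mem_erase, Finset.mem_erase, Equiv.Perm.smul_def]
        have hgq : g q = q := hg.2
        have hgp : g p = p := hS1p g hg.1
        refine ⟨?_, ?_, (hS1d g hg.1 r).mpr hr⟩
        · intro h
          rw [← hgq] at h
          exact hqr (g.injective h).symm
        · intro h
          rw [← hgp] at h
          exact hpr (g.injective h).symm)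
      (by
        intro δ hδ
        rw [Finset.mem_erase, Finset.mem_erase] at hδ
        obtain ⟨g, hg, hmap⟩ := stab_dodecad_map hd (fun i => if i = 0 then p else if i = 1 then q else r)
          (fun i => if i = 0 then p else if i = 1 then q else δ) 3 (by norm_num)
          (mem3 (P := fun z => z ∈ d) hp hq hr)
          (mem3 (P := fun z => z ∈ d) hp hq hδ.2.2)
          (inj3 hpq hpr hqr) (inj3 hpq (Ne.symm hδ.2.1) (Ne.symm hδ.1))
        have e0 := hmap 0 (by norm_num)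
        have e1 := hmap 1 (by norm_num)
        have e2 := hmap 2 (by norm_num)
        simp at e0 e1 e2
        exact ⟨g, Subgroup.mem_inf.mpr ⟨Subgroup.mem_inf.mpr ⟨hg, e0⟩, e1⟩, e2⟩)
    have hcard2 : ((d.erase p).erase q).card = 10 := by
      rw [Finset.card_erase_of_mem (Finset.mem_erase.mpr ⟨hpq.symm, hq⟩), hcard1]
    rw [c2, hcard2] at h3
    omega
  · intro x hx y hy
    -- transport to the base configuration
    obtain ⟨t₀, ht₀, htd₀⟩ := exists_transport hd
    obtain ⟨v, hv, hmapv⟩ := H12_map_base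
      (fun i => if i = 0 then t₀⁻¹ p else if i = 1 then t₀⁻¹ q else t₀⁻¹ r) 3 (by norm_num)
      (mem3 (P := fun z => z ∈ bitSet d0) ((inv_apply_mem htd₀ _).mpr hp)
        ((inv_apply_mem htd₀ _).mpr hq) ((inv_apply_mem htd₀ _).mpr hr))
      (inj3 (fun h => hpq (t₀⁻¹.injective h)) (fun h => hpr (t₀⁻¹.injective h))
        (fun h => hqr (t₀⁻¹.injective h)))
    have e0 := hmapv 0 (by norm_num)
    have e1 := hmapv 1 (by norm_num)
    have e2 := hmapv 2 (by norm_num)
    simp only [if_true, one_ne_zero, if_false, Equiv.Perm.smul_def] at e0 e1 e2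
    have e2' : v (b2 2) = t₀⁻¹ r := by simpa using e2
    set t := t₀ * v with ht
    have htM : t ∈ M24 := M24.mul_mem ht₀ hv.1
    have htd : t • bitSet d0 = d := by
      rw [ht, mul_smul]
      have : v • bitSet d0 = bitSet d0 := hv.2
      rw [this, htd₀]
    have htp : t (pt 0) = p := by
      rw [ht, Equiv.Perm.mul_apply]
      show t₀ (v (b2 0)) = p
      rw [e0]; simp
    have htq : t (pt 1) = q := by
      rw [ht, Equiv.Perm.mul_apply]
      show t₀ (v (b2 1)) = q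
      rw [e1]; simp
    have htr : t (pt 2) = r := by
      rw [ht, Equiv.Perm.mul_apply]
      show t₀ (v (b2 2)) = r
      rw [e2']; simp
    have hx' : t⁻¹ x ∉ bitSet d0 := fun h => hx ((inv_apply_mem htd _).mp h)
    have hy' : t⁻¹ y ∉ bitSet d0 := fun h => hy ((inv_apply_mem htd _).mp h)
    obtain ⟨σ, hσ, s0, s1, s2, s5⟩ := base1600 hx'
    obtain ⟨τ, hτ, t0, t1, t2, t5⟩ := base1600 hy'
    have hu : τ * σ⁻¹ ∈ H12 := H12.mul_mem hτ (H12.inv_mem hσ)
    have hconj := conj_mem_stab htM htd hu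
    have hfix : ∀ z : GolayPt, σ z = z → τ z = z → (t * (τ * σ⁻¹) * t⁻¹) (t z) = t z := by
      intro z h1 h2
      simp only [Equiv.Perm.mul_apply]
      have e : t⁻¹ (t z) = z := by simp
      rw [e, Equiv.Perm.inv_eq_iff_eq.mpr h1.symm, h2]
    have hmap : (t * (τ * σ⁻¹) * t⁻¹) x = y := by
      simp only [Equiv.Perm.mul_apply]
      rw [Equiv.Perm.inv_eq_iff_eq.mpr s5.symm, t5]
      simp
    refine ⟨⟨t * (τ * σ⁻¹) * t⁻¹, hconj.1⟩, ?_, hmap⟩
    refine Subgroup.mem_inf.mpr ⟨Subgroup.mem_inf.mpr ⟨Subgroup.mem_inf.mpr ⟨?_, ?_⟩, ?_⟩, ?_⟩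
    · exact hconj.2
    · rw [MulAction.mem_stabilizer_iff]
      show (t * (τ * σ⁻¹) * t⁻¹) p = p
      rw [← htp]; exact hfix _ s0 t0
    · rw [MulAction.mem_stabilizer_iff]
      show (t * (τ * σ⁻¹) * t⁻¹) q = q
      rw [← htq]; exact hfix _ s1 t1
    · rw [MulAction.mem_stabilizer_iff]
      show (t * (τ * σ⁻¹) * t⁻¹) r = r
      rw [← htr]; exact hfix _ s2 t2

end Cfsg.Agent.S1600
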