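import Cfsg.Statements.S1229
import Cfsg.Agent.Lib.Helper8.CIT2

set_option autoImplicit false
open Cfsg

namespace Cfsg.Agent.S1229

/-- Let G be a finite group with a Sylow 2-subgroup T that is neither cyclic nor normal, such that the centralizer of every involution is an elementary abelian 2-group; put H = N_G(T) and X = G/H. Then G is triply transitive on X, an element fixing three distinct points of X is the identity, and T acts regularly on X minus the point H. -/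
theorem result {G : Type*} [Group G] [Finite G] (T : Sylow 2 G) (hnc : ¬ IsCyclic (T : Subgroup G)) (hnn : ¬ (T : Subgroup G).Normal) (hC : ∀ t : G, orderOf t = 2 → IsMulCommutative (Subgroup.centralizer ({t} : Set G)) ∧ ∀ c ∈ Subgroup.centralizer ({t} : Set G), c ^ 2 = 1) : (∀ x₁ x₂ x₃ y₁ y₂ y₃ : G ⧸ Subgroup.normalizer ((T : Subgroup G) : Set G), x₁ ≠ x₂ → x₁ ≠ x₃ → x₂ ≠ x₃ → y₁ ≠ y₂ → y₁ ≠ y₃ → y₂ ≠ y₃ → ∃ g : G, g • x₁ = y₁ ∧ g • x₂ = y₂ ∧ g • x₃ = y₃) ∧ (∀ g : G, ∀ x₁ x₂ x₃ : G ⧸ Subgroup.normalizer ((T : Subgroup G) : Set G), x₁ ≠ x₂ → x₁ ≠ x₃ → x₂ ≠ x₃ → g • x₁ = x₁ → g • x₂ = x₂ → g • x₃ = x₃ → g = 1) ∧ (∀ x y : G ⧸ Subgroup.normalizer ((T : Subgroup G) : Set G), x ≠ QuotientGroup.mk 1 → y ≠ QuotientGroup.mk 1 → ∃! t : G, t ∈ T ∧ t • x = y) := by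
  open Cfsg.Agent.Lib.Helper8 Cfsg.Agent.Lib.Helper2 in
  have hH := cit_stronglyEmbedded T hC hnc hnn
  have hT := cit_sylow_ne_bot T hnc
  obtain ⟨hab, hex, hcent⟩ := cit_sylow T hC hT
  obtain ⟨t', ht', ht'2, _⟩ := sylow_exists_central_invol T hT
  have ht'1 : t' ≠ 1 := invol_ne_one ht'2
  -- an involution outside the normalizer
  obtain ⟨u, hu, huH⟩ : ∃ u : G, orderOf u = 2 ∧
      u ∉ Subgroup.normalizer ((T : Subgroup G) : Set G) := by
    have hne : Subgroup.normalizer ((T : Subgroup G) : Set G) ≠ ⊤ := hH.1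
    obtain ⟨g, hg⟩ : ∃ g : G, g ∉ Subgroup.normalizer ((T : Subgroup G) : Set G) := by
      by_contra hcon
      push Not at hcon
      exact hne (eq_top_iff.mpr fun x _ => hcon x)
    have hgne : (QuotientGroup.mk g : G ⧸ Subgroup.normalizer ((T : Subgroup G) : Set G)) ≠
        QuotientGroup.mk 1 := by
      intro h
      rw [QuotientGroup.eq] at h
      apply hg
      have := Subgroup.inv_mem _ h
      simpa using this
    obtain ⟨w, hw2, hw1, _⟩ := se_exists_swap hH hgne.symm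
    refine ⟨w, hw2, ?_⟩
    intro hwH
    apply hgne
    rw [← hw1, smul_mk_eq_iff]
    simpa using hwH
  refine ⟨?_, ?_, ?_⟩
  · intro x₁ x₂ x₃ y₁ y₂ y₃ hx12 hx13 hx23 hy12 hy13 hy23
    obtain ⟨gx, hgx1, hgx2, hgx3⟩ := cit_three_to_std T hC hnc hnn hu huH ht' ht'1 hx12 hx13 hx23
    obtain ⟨gy, hgy1, hgy2, hgy3⟩ := cit_three_to_std T hC hnc hnn hu huH ht' ht'1 hy12 hy13 hy23
    refine ⟨gy⁻¹ * gx, ?_, ?_, ?_⟩
    · rw [mul_smul, hgx1, ← hgy1, ← mul_smul, inv_mul_cancel, one_smul]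
    · rw [mul_smul, hgx2, ← hgy2, ← mul_smul, inv_mul_cancel, one_smul]
    · rw [mul_smul, hgx3, ← hgy3, ← mul_smul, inv_mul_cancel, one_smul]
  · intro g x₁ x₂ x₃ h12 h13 h23 hg1 hg2 hg3
    induction x₁ using QuotientGroup.induction_on with | _ a
    rw [smul_mk_eq_iff] at hg1
    have hfix : ∀ x : G ⧸ Subgroup.normalizer ((T : Subgroup G) : Set G), g • x = x →
        (a⁻¹ * g * a) • (a⁻¹ • x) = a⁻¹ • x := by
      intro x hx
      rw [← mul_smul]
      have : a⁻¹ * g * a * a⁻¹ = a⁻¹ * g := by group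
      rw [this, mul_smul, hx]
    have hg1' : a⁻¹ • (QuotientGroup.mk a : G ⧸ Subgroup.normalizer ((T : Subgroup G) : Set G)) =
        QuotientGroup.mk 1 := by
      rw [MulAction.Quotient.smul_mk, smul_eq_mul, inv_mul_cancel]
    have hy0 : a⁻¹ • x₂ ≠ QuotientGroup.mk 1 := by
      intro h
      rw [← hg1'] at h
      exact h12 (MulAction.injective a⁻¹ h).symm
    have hz0 : a⁻¹ • x₃ ≠ QuotientGroup.mk 1 := by
      intro h
      rw [← hg1'] at h
      exact h13 (MulAction.injective a⁻¹ h).symm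
    have hyz : a⁻¹ • x₃ ≠ a⁻¹ • x₂ := by
      intro h
      exact h23 (MulAction.injective a⁻¹ h).symm
    obtain ⟨w, hw2, hw1, _⟩ := se_exists_swap hH hy0.symm
    have hyw : a⁻¹ • x₂ = QuotientGroup.mk w := by
      rw [← hw1, MulAction.Quotient.smul_mk, smul_eq_mul, mul_one]
    have hwH : w ∉ Subgroup.normalizer ((T : Subgroup G) : Set G) := by
      intro h
      apply hy0
      rw [hyw, QuotientGroup.eq]
      simpa using h
    have hgD : a⁻¹ * g * a ∈ Subgroup.normalizer ((T : Subgroup G) : Set G) ⊓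
        Subgroup.map (MulEquiv.toMonoidHom (MulAut.conj w))
          (Subgroup.normalizer ((T : Subgroup G) : Set G)) := by
      rw [mem_inter_conj_iff]
      refine ⟨?_, ?_⟩
      · rw [smul_mk_eq_iff]; simpa using hg1
      · rw [← hyw]; exact hfix _ hg2
    have h1 := cit_fix_elt T hC hnc hnn hw2 hwH hgD (hfix _ hg3) hz0 (by rw [← hyw]; exact hyz)
    have : g = a * (a⁻¹ * g * a) * a⁻¹ := by group
    rw [this, h1]; group
  · intro x y hx hy
    obtain ⟨t1, ht1, ht1u⟩ := cit_sylow_transitive T hC hnc hnn hu huH hx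
    obtain ⟨t2, ht2, ht2u⟩ := cit_sylow_transitive T hC hnc hnn hu huH hy
    refine ⟨t2 * t1⁻¹, ⟨Subgroup.mul_mem _ ht2 (Subgroup.inv_mem _ ht1), ?_⟩, ?_⟩
    · rw [← ht1u, ← mul_smul]
      have : t2 * t1⁻¹ * t1 = t2 := by group
      rw [this, ht2u]
    · rintro t ⟨htT, htx⟩
      have htT' : t ∈ (T : Subgroup G) := htT
      have h1 : ((t2 * t1⁻¹)⁻¹ * t) • x = x := by
        rw [mul_smul, htx, ← ht2u, ← ht1u, ← mul_smul]
        congr 1
        group
      have h2 := cit_sylow_semiregular T hC hnc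
        (Subgroup.mul_mem _ (Subgroup.inv_mem _ (Subgroup.mul_mem _ ht2 (Subgroup.inv_mem _ ht1))) htT')
        hx h1 hnn
      exact (inv_mul_eq_one.mp h2).symm

end Cfsg.Agent.S1229
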