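import Cfsg.Statements.S1230
import Cfsg.Agent.Lib.Helper9.Sharp3PSL
import Cfsg.Agent.S1229

set_option autoImplicit false
open Cfsg

namespace Cfsg.Agent.S1230

/-- Let G be a finite group with a Sylow 2-subgroup T that is neither cyclic nor normal, such that the centralizer of every involution is an elementary abelian 2-group. Then G ≅ PSL(2,F) for a finite field F with |F| = |T|. -/
theorem result {G : Type*} [Group G] [Finite G] (T : Sylow 2 G) (hnc : ¬ IsCyclic (T : Subgroup G)) (hnn : ¬ (T : Subgroup G).Normal) (hC : ∀ t : G, orderOf t = 2 → IsMulCommutative (Subgroup.centralizer ({t} : Set G)) ∧ ∀ c ∈ Subgroup.centralizer ({t} : Set G), c ^ 2 = 1) : ∃ (F : Type) (_ : Field F) (_ : Fintype F), Fintype.card F = Nat.card T ∧ Nonempty (G ≃* Matrix.ProjectiveSpecialLinearGroup (Fin 2) F) := by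
  classical
  haveI : Fact (Nat.Prime 2) := ⟨Nat.prime_two⟩
  obtain ⟨h3, hu, hreg⟩ := Cfsg.Agent.S1229.result T hnc hnn hC
  have hsharp : Cfsg.Agent.Lib.Helper9.Sharp3 G
      (G ⧸ Subgroup.normalizer ((T : Subgroup G) : Set G)) := by
    refine ⟨?_, ?_⟩
    · intro a b c a' b' c' hab hac hbc hab' hac' hbc'
      exact h3 a b c a' b' c' hab hac hbc hab' hac' hbc'
    · intro g a b c hab hac hbc ha hb hc
      exact hu g a b c hab hac hbc ha hb hc
  -- a coset different from the trivial one
  have hne : ∃ x₀ : G ⧸ Subgroup.normalizer ((T : Subgroup G) : Set G), x₀ ≠ QuotientGroup.mk 1 := by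
    by_contra hcon
    push Not at hcon
    apply hnn
    rw [← Subgroup.normalizer_eq_top_iff]
    rw [eq_top_iff]
    intro g _
    have := hcon (QuotientGroup.mk g)
    rw [QuotientGroup.eq] at this
    have h1 := Subgroup.inv_mem _ this
    simpa using h1
  obtain ⟨x₀, hx₀⟩ := hne
  -- the cardinality of the coset space
  have hcard : Nat.card (G ⧸ Subgroup.normalizer ((T : Subgroup G) : Set G)) =
      Nat.card (T : Subgroup G) + 1 := by
    have hbij : Function.Bijective (fun t : (T : Subgroup G) =>
        (⟨(t : G) • x₀, by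
          intro h
          have h0 : ((t : G)) • (QuotientGroup.mk 1 : G ⧸ Subgroup.normalizer ((T : Subgroup G) : Set G))
              = QuotientGroup.mk 1 := by
            rw [MulAction.Quotient.smul_mk, smul_eq_mul, mul_one, QuotientGroup.eq]
            have := Subgroup.le_normalizer t.2
            simpa using Subgroup.inv_mem _ this
          rw [← h0] at h
          exact hx₀ (MulAction.injective _ h)⟩ :
          {x : G ⧸ Subgroup.normalizer ((T : Subgroup G) : Set G) // x ≠ QuotientGroup.mk 1})) := by
      constructor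
      · intro t t' htt
        have htt' : (t : G) • x₀ = (t' : G) • x₀ := congrArg Subtype.val htt
        obtain ⟨s, -, hs⟩ := hreg x₀ ((t : G) • x₀) hx₀ (by
          intro h
          have h0 : ((t : G)) • (QuotientGroup.mk 1 : G ⧸ Subgroup.normalizer ((T : Subgroup G) : Set G))
              = QuotientGroup.mk 1 := by
            rw [MulAction.Quotient.smul_mk, smul_eq_mul, mul_one, QuotientGroup.eq]
            have := Subgroup.le_normalizer t.2
            simpa using Subgroup.inv_mem _ this
          rw [← h0] at h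
          exact hx₀ (MulAction.injective _ h))
        have e1 := hs (t : G) ⟨t.2, rfl⟩
        have e2 := hs (t' : G) ⟨t'.2, htt'.symm⟩
        exact Subtype.ext (e1.trans e2.symm)
      · rintro ⟨y, hy⟩
        obtain ⟨s, ⟨hsT, hsy⟩, -⟩ := hreg x₀ y hx₀ hy
        exact ⟨⟨s, hsT⟩, Subtype.ext hsy⟩
    have h1 := Nat.card_eq_of_bijective _ hbij
    have h2 : Nat.card {x : G ⧸ Subgroup.normalizer ((T : Subgroup G) : Set G) // x ≠ QuotientGroup.mk 1} + 1
        = Nat.card (G ⧸ Subgroup.normalizer ((T : Subgroup G) : Set G)) := by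
      rw [← Finite.card_option]
      exact Nat.card_congr (Equiv.optionSubtypeNe _)
    omega
  obtain ⟨f, hf⟩ := T.2.exists_card_eq
  have hf1 : 1 ≤ f := by
    by_contra hcon
    have hf0 : f = 0 := by omega
    rw [hf0, pow_zero] at hf
    apply hnc
    haveI : Subsingleton (T : Subgroup G) := (Nat.card_eq_one_iff_unique.mp hf).1
    exact isCyclic_of_subsingleton
  have hα : Nat.card (G ⧸ Subgroup.normalizer ((T : Subgroup G) : Set G)) = 2 ^ f + 1 := by
    rw [hcard, hf]
  obtain ⟨F, i1, i2, hF, hiso⟩ := hsharp.exists_psl_iso hf1 hα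
  exact ⟨F, i1, i2, by rw [hF]; exact hf.symm, hiso⟩

end Cfsg.Agent.S1230
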