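import Cfsg.Statements.S1496
import Cfsg.Agent.Lib.Helper1.Coprime

set_option autoImplicit false
open Cfsg

namespace Cfsg.Agent.S1496

/-- Let H be a subgroup of the finite group G and g an element normalising H whose order is coprime to the order of H. Then for every h ∈ H there are x ∈ H and c ∈ H commuting with g such that x * (h * g) * x⁻¹ = c * g. -/
theorem result {G : Type*} [Group G] [Finite G] (H : Subgroup G) (g : G) (hg : g ∈ Subgroup.normalizer (H : Set G)) (hcop : Nat.Coprime (orderOf g) (Nat.card H)) (h : G) (hh : h ∈ H) : ∃ x ∈ H, ∃ c ∈ H, c * g = g * c ∧ x * (h * g) * x⁻¹ = c * g := by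
  classical
  have hnpos : 0 < orderOf g := orderOf_pos g
  set n := orderOf g with hn
  set m := Nat.card H with hm
  -- conjugation by powers of g preserves H
  have hgk : ∀ k : ℕ, ∀ u ∈ H, g ^ k * u * (g ^ k)⁻¹ ∈ H := by
    intro k u hu
    have hk : g ^ k ∈ Subgroup.normalizer (H : Set G) := Subgroup.pow_mem _ hg k
    exact (Subgroup.mem_normalizer_iff.mp hk u).mp hu
  -- powers of u * g
  have hpow : ∀ u ∈ H, ∀ k : ℕ, ∃ v ∈ H, (u * g) ^ k = v * g ^ k := by
    intro u hu k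
    induction k with
    | zero => exact ⟨1, H.one_mem, by simp⟩
    | succ k ih =>
      obtain ⟨v, hv, hvk⟩ := ih
      refine ⟨v * (g ^ k * u * (g ^ k)⁻¹), H.mul_mem hv (hgk k u hu), ?_⟩
      rw [pow_succ, hvk, pow_succ]
      group
  set y := h * g with hy
  have hyn : y ^ n ∈ H := by
    obtain ⟨v, hv, hvk⟩ := hpow h hh n
    rw [hvk, hn, pow_orderOf_eq_one, mul_one]
    exact hv
  have hynm : y ^ (n * m) = 1 := by
    rw [pow_mul]
    have h2 : ((⟨y ^ n, hyn⟩ : H) ^ m : H) = 1 := pow_card_eq_one'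
    have h3 := congrArg Subtype.val h2
    simpa only [SubmonoidClass.coe_pow, OneMemClass.coe_one] using h3
  have hord : orderOf y ∣ n * m := orderOf_dvd_of_pow_eq_one hynm
  obtain ⟨e, he1, he0⟩ := Nat.chineseRemainder hcop 1 0
  obtain ⟨f, hf0, hf1⟩ := Nat.chineseRemainder hcop 0 1
  have hef : y ^ f * y ^ e = y := by
    rw [← pow_add]
    have h1 : f + e ≡ 1 [MOD n * m] := by
      rw [← Nat.modEq_and_modEq_iff_modEq_mul hcop]
      constructor
      · simpa using hf0.add he1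
      · simpa using hf1.add he0
    have := pow_eq_pow_iff_modEq.mpr (h1.of_dvd hord)
    rwa [pow_one] at this
  have hy₂ : y ^ f ∈ H := by
    obtain ⟨f', rfl⟩ := (Nat.modEq_zero_iff_dvd).mp hf0
    rw [pow_mul]
    exact H.pow_mem hyn f'
  obtain ⟨v₁, hv₁, hy₁⟩ := hpow h hh e
  have hge : g ^ e = g := by
    have := pow_eq_pow_iff_modEq.mpr he1
    rwa [pow_one] at this
  rw [hge] at hy₁
  have hy₁n : (y ^ e) ^ n = 1 := by
    rw [← pow_mul]
    obtain ⟨e', rfl⟩ := (Nat.modEq_zero_iff_dvd).mp he0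
    have : m * e' * n = n * m * e' := by ring
    rw [this, pow_mul, hynm, one_pow]
  -- complements
  have hAnorm : Subgroup.zpowers g ≤ Subgroup.normalizer (H : Set G) := Subgroup.zpowers_le.mpr hg
  have hy₁norm : y ^ e ∈ Subgroup.normalizer (H : Set G) := by
    rw [hy₁]
    exact Subgroup.mul_mem _ (Subgroup.le_normalizer hv₁) hg
  have hA₁norm : Subgroup.zpowers (y ^ e) ≤ Subgroup.normalizer (H : Set G) :=
    Subgroup.zpowers_le.mpr hy₁norm
  have hcardA : Nat.card (Subgroup.zpowers g) = n := Nat.card_zpowers g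
  have hcardA₁ : Nat.card (Subgroup.zpowers (y ^ e)) ∣ n := by
    rw [Nat.card_zpowers]
    exact orderOf_dvd_of_pow_eq_one hy₁n
  have hdA : Disjoint H (Subgroup.zpowers g) := by
    apply Subgroup.disjoint_of_coprime_natCard
    rw [hcardA]
    exact hcop.symm
  have hdA₁ : Disjoint H (Subgroup.zpowers (y ^ e)) := by
    apply Subgroup.disjoint_of_coprime_natCard
    exact Nat.Coprime.coprime_dvd_right hcardA₁ hcop.symm
  have hΓ : H ⊔ Subgroup.zpowers (y ^ e) = H ⊔ Subgroup.zpowers g := by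
    apply le_antisymm
    · apply sup_le le_sup_left
      rw [Subgroup.zpowers_le, hy₁]
      exact Subgroup.mul_mem _ (Subgroup.mem_sup_left hv₁)
        (Subgroup.mem_sup_right (Subgroup.mem_zpowers g))
    · apply sup_le le_sup_left
      rw [Subgroup.zpowers_le]
      have : g = v₁⁻¹ * y ^ e := by rw [hy₁]; group
      rw [this]
      exact Subgroup.mul_mem _ (Subgroup.mem_sup_left (H.inv_mem hv₁))
        (Subgroup.mem_sup_right (Subgroup.mem_zpowers _))
  have hCA : Cfsg.Agent.Lib.Helper1.IsComplIn H (Subgroup.zpowers g) (H ⊔ Subgroup.zpowers g) :=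
    Cfsg.Agent.Lib.Helper1.isComplIn_sup hAnorm hdA
  have hCA₁ : Cfsg.Agent.Lib.Helper1.IsComplIn H (Subgroup.zpowers (y ^ e)) (H ⊔ Subgroup.zpowers g) := by
    rw [← hΓ]
    exact Cfsg.Agent.Lib.Helper1.isComplIn_sup hA₁norm hdA₁
  have hsolv : Group.IsSolvable (Subgroup.zpowers g) :=
    Group.isSolvable_of_comm (fun a b => (Subgroup.isCyclic_zpowers g).isMulCommutative.is_comm.comm a b)
  obtain ⟨k, hk, hconj⟩ := Cfsg.Agent.Lib.Helper1.internal_sz_conj
    (Cfsg.Agent.Lib.Helper1.sup_le_normalizer hAnorm) hCA hCA₁ (by rw [hcardA]; exact hcop.symm)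
    (Or.inr hsolv)
  have hkinvH : ∀ u ∈ H, g * u * g⁻¹ ∈ H := fun u hu => by
    have := hgk 1 u hu
    simpa using this
  have hmemA : k * y ^ e * k⁻¹ ∈ Subgroup.zpowers g := by
    rw [← hconj, Cfsg.Agent.Lib.Helper1.mem_conj_smul_iff]
    have : k⁻¹ * (k * y ^ e * k⁻¹) * k = y ^ e := by group
    rw [this]
    exact Subgroup.mem_zpowers _
  have hmemH : k * y ^ e * k⁻¹ * g⁻¹ ∈ H := by
    rw [hy₁]
    have : k * (v₁ * g) * k⁻¹ * g⁻¹ = k * v₁ * (g * k⁻¹ * g⁻¹) := by group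
    rw [this]
    exact H.mul_mem (H.mul_mem hk hv₁) (hkinvH _ (H.inv_mem hk))
  have hmemA' : k * y ^ e * k⁻¹ * g⁻¹ ∈ Subgroup.zpowers g :=
    Subgroup.mul_mem _ hmemA (Subgroup.inv_mem _ (Subgroup.mem_zpowers g))
  have hone : k * y ^ e * k⁻¹ * g⁻¹ = 1 := by
    have := Subgroup.disjoint_def.mp hdA hmemH hmemA'
    exact this
  have hkg : k * y ^ e * k⁻¹ = g := by
    have := mul_inv_eq_one.mp hone
    exact this
  refine ⟨k, hk, k * y ^ f * k⁻¹, ?_, ?_, ?_⟩
  · have hkn : k ∈ Subgroup.normalizer (H : Set G) := Subgroup.le_normalizer hk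
    exact (Subgroup.mem_normalizer_iff.mp hkn _).mp hy₂
  · rw [← hkg]
    have h1 : k * y ^ f * k⁻¹ * (k * y ^ e * k⁻¹) = k * (y ^ f * y ^ e) * k⁻¹ := by group
    have h2 : k * y ^ e * k⁻¹ * (k * y ^ f * k⁻¹) = k * (y ^ e * y ^ f) * k⁻¹ := by group
    rw [h1, h2, pow_mul_comm]
  · rw [← hkg]
    have h1 : k * y ^ f * k⁻¹ * (k * y ^ e * k⁻¹) = k * (y ^ f * y ^ e) * k⁻¹ := by group
    rw [h1, hef]

end Cfsg.Agent.S1496
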