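import Cfsg.Statements.S0198
import Cfsg.Agent.Lib.Helper10.GenChar
import Cfsg.Agent.Lib.Lead.CharBurnside

set_option autoImplicit false
open Cfsg

namespace Cfsg.Agent.S0198

open Cfsg.Agent.Lib.Helper10

/-- propagation of a common part along pairs -/
theorem all_eq_of_pair {n : ℕ} {X : Type*} (i₀ : Fin n) (P Q : Fin n → X)
    (hpair : ∀ i j, i ≠ i₀ → j ≠ i₀ → i ≠ j → (P i = P j ∧ Q i ≠ Q j) ∨ (Q i = Q j ∧ P i ≠ P j))
    (i j : Fin n) (hi : i ≠ i₀) (hj : j ≠ i₀) (hji : j ≠ i) (hQ : Q j = Q i) :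
    ∀ k, k ≠ i₀ → Q k = Q i := by
  intro k hk
  by_cases hki : k = i
  · rw [hki]
  by_cases hkj : k = j
  · rw [hkj, hQ]
  rcases hpair i k hi hk (Ne.symm hki) with ⟨hPik, _⟩ | ⟨hQik, _⟩
  · rcases hpair j k hj hk (Ne.symm hkj) with ⟨hPjk, _⟩ | ⟨hQjk, _⟩
    · rcases hpair i j hi hj (Ne.symm hji) with ⟨_, hne⟩ | ⟨_, hne⟩
      · exact absurd hQ.symm hne
      · exact absurd (hPik.trans hPjk.symm) hne
    · exact hQjk.symm.trans hQ
  · exact hQik.symm

theorem all_eq_or {n : ℕ} {X : Type*} (i₀ : Fin n) (P Q : Fin n → X)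
    (hpair : ∀ i j, i ≠ i₀ → j ≠ i₀ → i ≠ j → (P i = P j ∧ Q i ≠ Q j) ∨ (Q i = Q j ∧ P i ≠ P j))
    (i : Fin n) (hi : i ≠ i₀) :
    (∀ k, k ≠ i₀ → Q k = Q i) ∨ (∀ k, k ≠ i₀ → P k = P i) := by
  have hpair' : ∀ i j, i ≠ i₀ → j ≠ i₀ → i ≠ j → (Q i = Q j ∧ P i ≠ P j) ∨ (P i = P j ∧ Q i ≠ Q j) :=
    fun i j hi hj hij => (hpair i j hi hj hij).symm
  by_cases hA : ∃ j, j ≠ i₀ ∧ j ≠ i ∧ Q j = Q i
  · obtain ⟨j, hj, hji, hQ⟩ := hA
    exact Or.inl (all_eq_of_pair i₀ P Q hpair i j hi hj hji hQ)
  · by_cases hB : ∃ j, j ≠ i₀ ∧ j ≠ i ∧ P j = P i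
    · obtain ⟨j, hj, hji, hP⟩ := hB
      exact Or.inr (all_eq_of_pair i₀ Q P hpair' i j hi hj hji hP)
    · left
      intro k hk
      by_cases hki : k = i
      · rw [hki]
      · exfalso
        rcases hpair i k hi hk (Ne.symm hki) with ⟨h, _⟩ | ⟨h, _⟩
        · exact hB ⟨k, hk, hki, h.symm⟩
        · exact hA ⟨k, hk, hki, h.symm⟩


/-- The isometry lemma behind exceptional characters. Let τ be a family of generalized characters of a finite group G indexed by Fin n, with τ i₀ = 0, every τ i vanishing at the identity, and inner products ⟨τ i, τ j⟩ = 2 if i = j and 1 otherwise for i, j ≠ i₀. Then there are a sign ε and pairwise distinct irreducible characters μ i with τ i = ε (μ i − μ i₀) for all i. -/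
theorem result {G : Type*} [Group G] [Fintype G] (n : ℕ) (i₀ : Fin n) (τ : Fin n → (G → ℂ)) (h0 : τ i₀ = 0) (hgen : ∀ i, Cfsg.IsGeneralizedCharacter G (τ i)) (hone : ∀ i, τ i 1 = 0) (hgram : ∀ i j, i ≠ i₀ → j ≠ i₀ → Cfsg.classInner (τ i) (τ j) = if i = j then 2 else 1) : ∃ ε : ℂ, (ε = 1 ∨ ε = -1) ∧ ∃ μ : Fin n → (G → ℂ), (∀ i, Cfsg.IsIrrCharacter G (μ i)) ∧ Function.Injective μ ∧ ∀ i, τ i = ε • (μ i - μ i₀) := by
  classical
  have hdec : ∀ i, i ≠ i₀ → ∃ α β : G → ℂ, IsIrrCharacter G α ∧ IsIrrCharacter G β ∧ α ≠ β ∧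
      τ i = α - β := by
    intro i hi
    have h2 := hgram i i hi hi
    rw [if_pos rfl] at h2
    exact genChar_norm_two_vanish (hgen i) h2 (hone i)
  have h1irr : IsIrrCharacter G (1 : G → ℂ) := Cfsg.Agent.CharLib.isIrrCharacter_one
  have hdec' : ∀ i, ∃ α β : G → ℂ, IsIrrCharacter G α ∧ IsIrrCharacter G β ∧
      (i ≠ i₀ → α ≠ β ∧ τ i = α - β) := by
    intro i
    by_cases hi : i = i₀
    · exact ⟨1, 1, h1irr, h1irr, fun h => absurd hi h⟩
    · obtain ⟨α, β, hα, hβ, hne, heq⟩ := hdec i hi
      exact ⟨α, β, hα, hβ, fun _ => ⟨hne, heq⟩⟩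
  choose α β hα hβ hαβ using hdec'
  have hpair : ∀ i j, i ≠ i₀ → j ≠ i₀ → i ≠ j →
      (α i = α j ∧ β i ≠ β j) ∨ (β i = β j ∧ α i ≠ α j) := by
    intro i j hi hj hij
    have h := hgram i j hi hj
    rw [if_neg hij, (hαβ i hi).2, (hαβ j hj).2,
      classInner_sub_sub_irr (hα i) (hβ i) (hα j) (hβ j)] at h
    have hi' := (hαβ i hi).1
    have hj' := (hαβ j hj).1
    by_cases p : α i = α j
    · by_cases r : α i = β j
      · exact absurd (p.symm.trans r) hj'
      · by_cases s : β i = α j
        · exact absurd (p.trans s.symm) hi'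
        · by_cases q : β i = β j
          · exfalso
            rw [if_pos p, if_neg r, if_neg s, if_pos q] at h
            norm_num at h
          · exact Or.inl ⟨p, q⟩
    · by_cases q : β i = β j
      · exact Or.inr ⟨q, p⟩
      · exfalso
        rw [if_neg p, if_neg q] at h
        split_ifs at h <;> norm_num at h
  by_cases hex : ∃ i, i ≠ i₀
  · obtain ⟨i, hi⟩ := hex
    rcases all_eq_or i₀ α β hpair i hi with hall | hall
    · -- all β equal: ε = 1
      refine ⟨1, Or.inl rfl, fun k => if k = i₀ then β i else α k, ?_, ?_, ?_⟩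
      · intro k
        by_cases hk : k = i₀
        · simp only [hk, if_true]; exact hβ i
        · simp only [hk, if_false]; exact hα k
      · intro k l hkl
        simp only at hkl
        by_cases hk : k = i₀
        · by_cases hl : l = i₀
          · rw [hk, hl]
          · exfalso
            rw [if_pos hk, if_neg hl] at hkl
            exact (hαβ l hl).1 (hkl.symm.trans (hall l hl).symm)
        · by_cases hl : l = i₀
          · exfalso
            rw [if_neg hk, if_pos hl] at hkl
            exact (hαβ k hk).1 (hkl.trans (hall k hk).symm)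
          · rw [if_neg hk, if_neg hl] at hkl
            by_contra hne
            rcases hpair k l hk hl hne with ⟨_, h⟩ | ⟨_, h⟩
            · exact h ((hall k hk).trans (hall l hl).symm)
            · exact h hkl
      · intro k
        by_cases hk : k = i₀
        · simp only [hk, if_true, sub_self, smul_zero]; exact h0
        · simp only [hk, if_false, if_true, one_smul]
          rw [(hαβ k hk).2, hall k hk]
    · -- all α equal: ε = -1
      refine ⟨-1, Or.inr rfl, fun k => if k = i₀ then α i else β k, ?_, ?_, ?_⟩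
      · intro k
        by_cases hk : k = i₀
        · simp only [hk, if_true]; exact hα i
        · simp only [hk, if_false]; exact hβ k
      · intro k l hkl
        simp only at hkl
        by_cases hk : k = i₀
        · by_cases hl : l = i₀
          · rw [hk, hl]
          · exfalso
            rw [if_pos hk, if_neg hl] at hkl
            exact (hαβ l hl).1 ((hall l hl).trans hkl)
        · by_cases hl : l = i₀
          · exfalso
            rw [if_neg hk, if_pos hl] at hkl
            exact (hαβ k hk).1 ((hall k hk).trans hkl.symm)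
          · rw [if_neg hk, if_neg hl] at hkl
            by_contra hne
            rcases hpair k l hk hl hne with ⟨_, h⟩ | ⟨_, h⟩
            · exact h hkl
            · exact h ((hall k hk).trans (hall l hl).symm)
      · intro k
        by_cases hk : k = i₀
        · simp only [hk, if_true, sub_self, smul_zero]; exact h0
        · simp only [hk, if_false, if_true]
          rw [(hαβ k hk).2, hall k hk]
          funext g
          simp
  · push_neg at hex
    refine ⟨1, Or.inl rfl, fun _ => 1, fun _ => h1irr, ?_, ?_⟩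
    · intro k l _
      rw [hex k, hex l]
    · intro k
      rw [hex k, h0]
      simp

end Cfsg.Agent.S0198
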