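import Cfsg.Statements.S1516
import Cfsg.Agent.Lib.Helper10.Coherence3

set_option autoImplicit false
open Cfsg

namespace Cfsg.Agent.S1516

set_option maxHeartbeats 1600000 in
open Cfsg.Agent.CharLib Cfsg.Agent.Lib.Helper10 in
open scoped ComplexConjugate in

/-- Let (S, τ, R) be a coherence system from L to G with degrees φ 1 = d φ and squared norms ⟨φ, φ⟩ = n φ for φ ∈ S. Let S₁ ⊆ S be a finite subset closed under complex conjugation such that (S₁, L minus 1, τ) is coherent, let χ ∈ S with χ ∉ S₁ and conj χ ∉ S₁, and let χ₁ ∈ S₁ with d χ₁ dividing d χ and 2 d χ d χ₁ < Σ_{φ ∈ S₁} (d φ)² / n φ. Then S₁ together with χ and conj χ is coherent. -/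
theorem result {L : Type*} [Group L] [Fintype L] {G : Type*} [Group G] [Fintype G] (S : Set (L → ℂ)) (τ : (L → ℂ) → (G → ℂ)) (R : (L → ℂ) → Finset (G → ℂ)) (hS : Cfsg.IsCoherenceSystem S τ R) (d n : (L → ℂ) → ℕ) (hd : ∀ φ ∈ S, φ 1 = (d φ : ℂ)) (hn : ∀ φ ∈ S, Cfsg.classInner φ φ = (n φ : ℂ)) (S₁ : Finset (L → ℂ)) (hS₁ : ↑S₁ ⊆ S) (hS₁c : ∀ φ ∈ S₁, Cfsg.conjFun φ ∈ S₁) (hcoh : Cfsg.IsCoherent (↑S₁ : Set (L → ℂ)) {1}ᶜ τ) (χ : L → ℂ) (hχ : χ ∈ S) (hχ₁ : χ ∉ S₁) (hχ₂ : Cfsg.conjFun χ ∉ S₁) (χ₁ : L → ℂ) (hχ₁S : χ₁ ∈ S₁) (hdvd : d χ₁ ∣ d χ) (hineq : (2 * d χ * d χ₁ : ℝ) < ∑ φ ∈ S₁, ((d φ : ℝ) ^ 2 / (n φ : ℝ))) : Cfsg.IsCoherent (↑S₁ ∪ {χ, Cfsg.conjFun χ} : Set (L → ℂ)) {1}ᶜ τ := by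
  classical
  obtain ⟨⟨α₀, hα₀, hα₀ne⟩, τ₁, hτ₁, hτ₁τ⟩ := hcoh
  have hχbar : conjFun χ ∈ S := hS.conj_mem χ hχ
  have hmemS : ∀ φ ∈ S₁, φ ∈ S := fun φ h => hS₁ (Finset.mem_coe.mpr h)
  have hnpos : ∀ φ ∈ S, n φ ≠ 0 := by
    intro φ hφ h0
    have h1 := hn φ hφ
    rw [h0] at h1
    simp only [Nat.cast_zero] at h1
    have h2 := Cfsg.Agent.Lib.Helper10.classInner_self_eq_zero h1
    apply hS.conj_ne φ hφ
    rw [h2]
    funext x
    simp [conjFun]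
  have hdpos : ∀ φ ∈ S, 0 < d φ := by
    intro φ hφ
    rcases Nat.eq_zero_or_pos (d φ) with h0 | h0
    · exfalso
      have h1 := hd φ hφ
      rw [h0] at h1
      simp only [Nat.cast_zero] at h1
      have h2 := char_eq_zero_of_apply_one_eq_zero (hS.isCharacter φ hφ) h1
      apply hnpos φ hφ
      have h3 : classInner φ φ = 0 := by
        rw [h2, Cfsg.Agent.Lib.Helper10.classInner_zero_left]
      rw [hn φ hφ] at h3
      exact_mod_cast h3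
    · exact h0
  have hinner : ∀ φ ∈ S, ∀ ψ ∈ S, classInner φ ψ = if φ = ψ then (n φ : ℂ) else 0 := by
    intro φ hφ ψ hψ
    by_cases h : φ = ψ
    · rw [if_pos h, ← h, hn φ hφ]
    · rw [if_neg h, hS.orthogonal φ hφ ψ hψ h]
  have hnbar : n (conjFun χ) = n χ := by
    have h1 := hn _ hχbar
    rw [classInner_conjFun, hn χ hχ] at h1
    exact_mod_cast h1.symm
  have hχne : conjFun χ ≠ χ := hS.conj_ne χ hχ
  have hχ₁Smem : χ₁ ∈ S := hmemS χ₁ hχ₁S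
  have hneχ : ∀ φ ∈ S₁, φ ≠ χ := fun φ hφ h => hχ₁ (h ▸ hφ)
  have hneχbar : ∀ φ ∈ S₁, φ ≠ conjFun χ := fun φ hφ h => hχ₂ (h ▸ hφ)
  have hT₁ : OrthogOn S₁ n := fun φ hφ ψ hψ => hinner φ (hmemS φ hφ) ψ (hmemS ψ hψ)
  have hw₁ : ∀ φ ∈ S₁, n φ ≠ 0 := fun φ hφ => hnpos φ (hmemS φ hφ)
  obtain ⟨a, ha⟩ := hdvd
  have hapos : 1 ≤ a := by
    have := hdpos χ hχ
    rcases Nat.eq_zero_or_pos a with h | h
    · rw [h, mul_zero] at ha; omega
    · exact h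
  -- the domain E
  have hES : ∀ θ ∈ zspanOn S {1}ᶜ, ∀ k : ℤ, k • θ ∈ zspanOn S {1}ᶜ := fun θ h k => zspanOn_zsmul h k
  have hEadd : ∀ θ ∈ zspanOn S {1}ᶜ, ∀ θ' ∈ zspanOn S {1}ᶜ, θ + θ' ∈ zspanOn S {1}ᶜ :=
    fun θ h θ' h' => zspanOn_add h h'
  have hE₁ : ∀ θ ∈ zspan (↑S₁ : Set (L → ℂ)), ∀ k : ℤ, k • θ ∈ zspan (↑S₁ : Set (L → ℂ)) :=
    fun θ h k => zspan_zsmul h k
  have hχbar1 : conjFun χ 1 = (d χ : ℂ) := by
    show (starRingEnd ℂ) (χ 1) = _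
    rw [hd χ hχ, Complex.conj_natCast]
  -- β, v, ω
  set β : L → ℂ := (1 : ℤ) • χ + (-(a : ℤ)) • χ₁ with hβ
  set v : L → ℂ := (1 : ℤ) • χ + (-1 : ℤ) • conjFun χ with hv
  set ω : L → ℂ := (1 : ℤ) • conjFun χ + (-(a : ℤ)) • χ₁ with hω
  have hβE : β ∈ zspanOn S {1}ᶜ := by
    refine ⟨zspan_add (zspan_zsmul (subset_zspan hχ) _) (zspan_zsmul (subset_zspan hχ₁Smem) _), ?_⟩
    intro x hx
    have hx1 : x = 1 := by simpa using hx
    subst hx1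
    rw [hβ, Pi.add_apply, Pi.smul_apply, Pi.smul_apply, hd χ hχ, hd χ₁ hχ₁Smem, ha]
    simp only [zsmul_eq_mul]
    push_cast
    ring
  have hvE : v ∈ zspanOn S {1}ᶜ := by
    refine ⟨zspan_add (zspan_zsmul (subset_zspan hχ) _) (zspan_zsmul (subset_zspan hχbar) _), ?_⟩
    intro x hx
    have hx1 : x = 1 := by simpa using hx
    subst hx1
    rw [hv, Pi.add_apply, Pi.smul_apply, Pi.smul_apply, hd χ hχ, hχbar1]
    simp only [zsmul_eq_mul]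
    push_cast
    ring
  have hωE : ω ∈ zspanOn S {1}ᶜ := by
    refine ⟨zspan_add (zspan_zsmul (subset_zspan hχbar) _) (zspan_zsmul (subset_zspan hχ₁Smem) _), ?_⟩
    intro x hx
    have hx1 : x = 1 := by simpa using hx
    subst hx1
    rw [hω, Pi.add_apply, Pi.smul_apply, Pi.smul_apply, hχbar1, hd χ₁ hχ₁Smem, ha]
    simp only [zsmul_eq_mul]
    push_cast
    ring
  have hωβv : ω = (1 : ℤ) • β + (-1 : ℤ) • v := by
    rw [hω, hβ, hv]
    module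
  have hτ := hS.isometry
  set B : G → ℂ := τ β with hB
  have hBg : IsGeneralizedCharacter G B := hτ.2.2.2 β hβE
  have hτv : τ v = ∑ α ∈ R χ, α := by
    have : v = χ - conjFun χ := by rw [hv]; module
    rw [this, hS.sum_eq χ hχ]
  have hτω : τ ω = B - ∑ α ∈ R χ, α := by
    rw [hωβv, isometry_lin2 hτ hES hβE hvE, hτv, one_smul, neg_one_smul, sub_eq_add_neg]
  -- inner products on the L side
  have hχχ₁ : classInner χ χ₁ = 0 := by
    rw [hinner χ hχ χ₁ hχ₁Smem, if_neg (fun h => hneχ χ₁ hχ₁S h.symm)]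
  have hχ₁χ : classInner χ₁ χ = 0 := by
    rw [hinner χ₁ hχ₁Smem χ hχ, if_neg (hneχ χ₁ hχ₁S)]
  have hχ₁χbar : classInner χ₁ (conjFun χ) = 0 := by
    rw [hinner χ₁ hχ₁Smem _ hχbar, if_neg (hneχbar χ₁ hχ₁S)]
  have hχχbar : classInner χ (conjFun χ) = 0 := by
    rw [hinner χ hχ _ hχbar, if_neg (fun h => hχne h.symm)]
  have hβv : classInner β v = (n χ : ℂ) := by
    rw [hβ, hv, classInner_lin2, hn χ hχ, hχχbar, hχ₁χ, hχ₁χbar]
    push_cast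
    ring
  have hββ : classInner β β = (n χ : ℂ) + (a : ℂ) * (a : ℂ) * (n χ₁ : ℂ) := by
    rw [hβ, classInner_lin2, hn χ hχ, hχχ₁, hχ₁χ, hn χ₁ hχ₁Smem]
    push_cast
    ring
  have hvv : classInner v v = 2 * (n χ : ℂ) := by
    have hbarχ : classInner (conjFun χ) χ = 0 := by
      rw [hinner _ hχbar χ hχ, if_neg hχne]
    rw [hv, classInner_lin2, hn χ hχ, hχχbar, hbarχ, hn _ hχbar, hnbar]
    push_cast
    ring
  have hRo := hS.orthonormal χ hχ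
  have hRg := hS.virtual χ hχ
  have hcardR : (((R χ).card : ℕ) : ℂ) = 2 * (n χ : ℂ) := by
    have h1 : classInner (τ v) (τ v) = 2 * (n χ : ℂ) := by
      rw [hτ.2.2.1 v hvE v hvE, hvv]
    rw [hτv] at h1
    have h2 : (∑ α ∈ R χ, α) = ∑ α ∈ R χ, (1 : ℂ) • (fun x => x) α := by simp
    rw [h2, classInner_sum_smul_sum_smul (R χ) (fun x => x) hRo] at h1
    simp at h1
    exact h1
  -- coefficients b
  have hb : ∀ α : G → ℂ, ∃ b : ℤ, α ∈ R χ → classInner B α = b := by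
    intro α
    by_cases hα : α ∈ R χ
    · obtain ⟨b, hb⟩ := genChar_inner_int hBg (hRg α hα)
      exact ⟨b, fun _ => hb⟩
    · exact ⟨0, fun h => absurd h hα⟩
  choose b hb using hb
  have hsumb : ∑ α ∈ R χ, (b α : ℂ) = (n χ : ℂ) := by
    have h1 : classInner B (τ v) = (n χ : ℂ) := by
      rw [hB, hτ.2.2.1 β hβE v hvE, hβv]
    rw [hτv, Cfsg.Agent.Lib.Helper10.classInner_sum_right] at h1
    rw [← h1]
    apply Finset.sum_congr rfl
    intro α hα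
    rw [hb α hα]
  -- (P3)
  have hτ₁o : ∀ φ ∈ S₁, ∀ ψ ∈ S₁, classInner (τ₁ φ) (τ₁ ψ) = if φ = ψ then (n φ : ℂ) else 0 := by
    intro φ hφ ψ hψ
    rw [hτ₁.2.2.1 φ (subset_zspan (Finset.mem_coe.mpr hφ)) ψ (subset_zspan (Finset.mem_coe.mpr hψ))]
    exact hT₁ φ hφ ψ hψ
  have hτ₁g : ∀ φ ∈ S₁, IsGeneralizedCharacter G (τ₁ φ) := fun φ hφ =>
    hτ₁.2.2.2 φ (subset_zspan (Finset.mem_coe.mpr hφ))
  have hP3 : ∀ φ ∈ S₁, ∀ α ∈ R χ, classInner (τ₁ φ) α = 0 := by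
    intro φ hφ α hα
    have hφS := hmemS φ hφ
    have hφbar : conjFun φ ∈ S₁ := hS₁c φ hφ
    have hφbarS := hmemS _ hφbar
    have hφbarne : conjFun φ ≠ φ := hS.conj_ne φ hφS
    have hdiffmem : (1 : ℤ) • φ + (-1 : ℤ) • conjFun φ ∈ zspanOn (↑S₁ : Set (L → ℂ)) {1}ᶜ := by
      refine ⟨zspan_add (zspan_zsmul (subset_zspan (Finset.mem_coe.mpr hφ)) _)
        (zspan_zsmul (subset_zspan (Finset.mem_coe.mpr hφbar)) _), ?_⟩
      intro x hx
      have hx1 : x = 1 := by simpa using hx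
      subst hx1
      have hbar1 : conjFun φ 1 = (d φ : ℂ) := by
        show (starRingEnd ℂ) (φ 1) = _
        rw [hd φ hφS, Complex.conj_natCast]
      rw [Pi.add_apply, Pi.smul_apply, Pi.smul_apply, hd φ hφS, hbar1]
      simp only [zsmul_eq_mul]
      push_cast
      ring
    have huv : τ₁ φ - τ₁ (conjFun φ) = ∑ γ ∈ R φ, γ := by
      have h1 := isometry_lin2 hτ₁ hE₁ (subset_zspan (Finset.mem_coe.mpr hφ))
        (subset_zspan (Finset.mem_coe.mpr hφbar)) 1 (-1)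
      rw [hτ₁τ _ hdiffmem] at h1
      have h2 : (1 : ℤ) • φ + (-1 : ℤ) • conjFun φ = φ - conjFun φ := by module
      rw [h2, hS.sum_eq φ hφS] at h1
      rw [h1]
      module
    have hnbarφ : n (conjFun φ) = n φ := by
      have h1 := hn _ hφbarS
      rw [classInner_conjFun, hn φ hφS] at h1
      exact_mod_cast h1.symm
    have hexp := half_sum_lemma (R φ) (hS.orthonormal φ hφS) (hS.virtual φ hφS) (hτ₁g φ hφ) huv (n φ)
      (by rw [hτ₁o φ hφ φ hφ, if_pos rfl])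
      (by rw [hτ₁o _ hφbar _ hφbar, if_pos rfl, hnbarφ])
      (by rw [hτ₁o φ hφ _ hφbar, if_neg (fun h => hφbarne h.symm)])
    rw [hexp, Cfsg.Agent.Lib.Helper10.classInner_sum_left]
    apply Finset.sum_eq_zero
    intro γ hγ
    rw [Cfsg.Agent.Lib.Helper10.classInner_smul_left]
    have h3 : classInner γ α = 0 := by
      apply hS.disjoint χ hχ φ hφS _ _ γ hγ α hα
      · rw [hinner φ hφS χ hχ, if_neg (hneχ φ hφ)]
      · rw [hinner φ hφS _ hχbar, if_neg (hneχbar φ hφ)]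
    rw [h3, mul_zero]
  -- coefficients c
  have hc : ∀ φ : L → ℂ, ∃ c : ℤ, φ ∈ S₁ → classInner B (τ₁ φ) = c := by
    intro φ
    by_cases hφ : φ ∈ S₁
    · obtain ⟨c, hc⟩ := genChar_inner_int hBg (hτ₁g φ hφ)
      exact ⟨c, fun _ => hc⟩
    · exact ⟨0, fun h => absurd h hφ⟩
  choose c hc using hc
  have hγ : ∀ φ ∈ S₁, ((d χ₁ : ℤ) • φ + (-(d φ : ℤ)) • χ₁) ∈ zspanOn (↑S₁ : Set (L → ℂ)) {1}ᶜ := by
    intro φ hφ
    refine ⟨zspan_add (zspan_zsmul (subset_zspan (Finset.mem_coe.mpr hφ)) _)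
      (zspan_zsmul (subset_zspan (Finset.mem_coe.mpr hχ₁S)) _), ?_⟩
    intro x hx
    have hx1 : x = 1 := by simpa using hx
    subst hx1
    rw [Pi.add_apply, Pi.smul_apply, Pi.smul_apply, hd φ (hmemS φ hφ), hd χ₁ hχ₁Smem]
    simp only [zsmul_eq_mul]
    push_cast
    ring
  have hτγ : ∀ φ ∈ S₁, τ ((d χ₁ : ℤ) • φ + (-(d φ : ℤ)) • χ₁) =
      (d χ₁ : ℤ) • τ₁ φ + (-(d φ : ℤ)) • τ₁ χ₁ := by
    intro φ hφ
    rw [← hτ₁τ _ (hγ φ hφ), isometry_lin2 hτ₁ hE₁ (subset_zspan (Finset.mem_coe.mpr hφ))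
      (subset_zspan (Finset.mem_coe.mpr hχ₁S))]
  set x : ℤ := c χ₁ + (a : ℤ) * (n χ₁ : ℤ) with hx
  have hE1 : ∀ φ ∈ S₁, (d χ₁ : ℤ) * c φ = (d φ : ℤ) * x -
      (if φ = χ₁ then (a : ℤ) * (d χ₁ : ℤ) * (n χ₁ : ℤ) else 0) := by
    intro φ hφ
    have hφS := hmemS φ hφ
    have h1 : classInner B (τ ((d χ₁ : ℤ) • φ + (-(d φ : ℤ)) • χ₁)) =
        classInner β ((d χ₁ : ℤ) • φ + (-(d φ : ℤ)) • χ₁) :=
      hτ.2.2.1 β hβE _ (zspanOn_mono hS₁ _ (hγ φ hφ))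
    rw [hτγ φ hφ, Cfsg.Agent.Lib.Helper10.classInner_add_right, classInner_zsmul_right,
      classInner_zsmul_right, hc φ hφ, hc χ₁ hχ₁S, hβ, classInner_lin2,
      hinner χ hχ φ hφS, if_neg (fun h => hneχ φ hφ h.symm), hχχ₁,
      hinner χ₁ hχ₁Smem φ hφS, hn χ₁ hχ₁Smem] at h1
    have h2 : (((d χ₁ : ℤ) * c φ : ℤ) : ℂ) = (((d φ : ℤ) * x -
        (if φ = χ₁ then (a : ℤ) * (d χ₁ : ℤ) * (n χ₁ : ℤ) else 0) : ℤ) : ℂ) := by
      rw [hx]
      by_cases h : φ = χ₁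
      · rw [if_pos h]
        rw [if_pos h.symm] at h1
        push_cast at h1 ⊢
        linear_combination h1
      · rw [if_neg h]
        rw [if_neg (fun h' => h h'.symm)] at h1
        push_cast at h1 ⊢
        linear_combination h1
    exact_mod_cast h2
  -- Pythagoras
  set W₁ : G → ℂ := B - ∑ α ∈ R χ, classInner B α • α with hW₁
  have hp1 : classInner B B = ∑ α ∈ R χ, classInner B α * conj (classInner B α) + classInner W₁ W₁ :=
    classInner_self_eq_sum_add (R χ) (fun x => x) hRo B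
  have hW₁φ : ∀ φ ∈ S₁, classInner W₁ (τ₁ φ) = (c φ : ℂ) := by
    intro φ hφ
    rw [hW₁, Cfsg.Agent.Lib.Helper10.classInner_sub_left, hc φ hφ,
      Cfsg.Agent.Lib.Helper10.classInner_sum_left]
    have : ∑ α ∈ R χ, classInner (classInner B α • α) (τ₁ φ) = 0 := by
      apply Finset.sum_eq_zero
      intro α hα
      rw [Cfsg.Agent.Lib.Helper10.classInner_smul_left, Cfsg.Agent.Lib.Helper10.classInner_conj_symm α,
        hP3 φ hφ α hα, map_zero, mul_zero]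
    rw [this, sub_zero]
  set W₂ : G → ℂ := W₁ - ∑ φ ∈ S₁, (classInner W₁ (τ₁ φ) / (n φ : ℂ)) • τ₁ φ with hW₂
  have hp2 : classInner W₁ W₁ = ∑ φ ∈ S₁, classInner W₁ (τ₁ φ) * conj (classInner W₁ (τ₁ φ)) / (n φ : ℂ) +
      classInner W₂ W₂ := classInner_self_eq_sum_add_w S₁ τ₁ n hw₁ hτ₁o W₁
  obtain ⟨r₂, hr₂0, hr₂⟩ := classInner_self_nonneg W₂
  have hsb : ∑ α ∈ R χ, classInner B α * conj (classInner B α) =
      ((∑ α ∈ R χ, (b α : ℝ) ^ 2 : ℝ) : ℂ) := by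
    push_cast
    apply Finset.sum_congr rfl
    intro α hα
    rw [hb α hα, map_intCast]
    ring
  have hsc : ∑ φ ∈ S₁, classInner W₁ (τ₁ φ) * conj (classInner W₁ (τ₁ φ)) / (n φ : ℂ) =
      ((∑ φ ∈ S₁, (c φ : ℝ) ^ 2 / (n φ : ℝ) : ℝ) : ℂ) := by
    push_cast
    apply Finset.sum_congr rfl
    intro φ hφ
    rw [hW₁φ φ hφ, map_intCast]
    ring
  have hBB : classInner B B = (((n χ : ℝ) + (a : ℝ) * (a : ℝ) * (n χ₁ : ℝ) : ℝ) : ℂ) := by
    rw [hB, hτ.2.2.1 β hβE β hβE, hββ]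
    push_cast
    ring
  have hmainR : (n χ : ℝ) + (a : ℝ) * (a : ℝ) * (n χ₁ : ℝ) =
      ∑ α ∈ R χ, (b α : ℝ) ^ 2 + (∑ φ ∈ S₁, (c φ : ℝ) ^ 2 / (n φ : ℝ) + r₂) := by
    have h1 := hp1
    rw [hp2, hsb, hsc, hr₂, hBB] at h1
    exact_mod_cast h1
  have hsumbR : ∑ α ∈ R χ, (b α : ℝ) = (n χ : ℝ) := by
    have h1 : ((∑ α ∈ R χ, (b α : ℝ) : ℝ) : ℂ) = ((n χ : ℝ) : ℂ) := by
      push_cast
      exact hsumb
    exact_mod_cast h1
  have hbge : ∀ α ∈ R χ, (b α : ℝ) ≤ (b α : ℝ) ^ 2 := by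
    intro α _
    have h3 : b α ≤ b α ^ 2 := by
      rcases le_or_gt (b α) 0 with h | h
      · nlinarith
      · have : 1 ≤ b α := h
        nlinarith
    exact_mod_cast h3
  have hsbge : (n χ : ℝ) ≤ ∑ α ∈ R χ, (b α : ℝ) ^ 2 := by
    rw [← hsumbR]
    exact Finset.sum_le_sum hbge
  -- the weighted sum of c
  set T' : ℝ := ∑ φ ∈ S₁, ((d φ : ℝ) ^ 2 / (n φ : ℝ)) with hT'
  set p : ℝ := (d χ₁ : ℝ) with hp
  have hppos : 0 < p := by rw [hp]; exact_mod_cast hdpos χ₁ hχ₁Smem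
  have hn₁pos : (0 : ℝ) < (n χ₁ : ℝ) := by
    exact_mod_cast Nat.pos_of_ne_zero (hnpos χ₁ hχ₁Smem)
  have hscsum : p ^ 2 * ∑ φ ∈ S₁, (c φ : ℝ) ^ 2 / (n φ : ℝ) =
      (x : ℝ) ^ 2 * T' - (2 * (x : ℝ) * (a : ℝ) * p ^ 2 - (a : ℝ) ^ 2 * p ^ 2 * (n χ₁ : ℝ)) := by
    rw [Finset.mul_sum]
    have hterm : ∀ φ ∈ S₁, p ^ 2 * ((c φ : ℝ) ^ 2 / (n φ : ℝ)) =
        (x : ℝ) ^ 2 * ((d φ : ℝ) ^ 2 / (n φ : ℝ)) -
          (if φ = χ₁ then 2 * (x : ℝ) * (a : ℝ) * p ^ 2 - (a : ℝ) ^ 2 * p ^ 2 * (n χ₁ : ℝ) else 0) := by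
      intro φ hφ
      have h1 : (p * (c φ : ℝ)) = (d φ : ℝ) * (x : ℝ) -
          (if φ = χ₁ then (a : ℝ) * p * (n χ₁ : ℝ) else 0) := by
        have h2 := hE1 φ hφ
        have h3 : (((d χ₁ : ℤ) * c φ : ℤ) : ℝ) = (((d φ : ℤ) * x -
            (if φ = χ₁ then (a : ℤ) * (d χ₁ : ℤ) * (n χ₁ : ℤ) else 0) : ℤ) : ℝ) := by rw [h2]
        rw [hp]
        by_cases h : φ = χ₁
        · rw [if_pos h] at h3 ⊢
          push_cast at h3
          exact h3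
        · rw [if_neg h] at h3 ⊢
          push_cast at h3
          exact h3
      have hnφ : (n φ : ℝ) ≠ 0 := by exact_mod_cast hw₁ φ hφ
      have h4 : p ^ 2 * ((c φ : ℝ) ^ 2 / (n φ : ℝ)) = (p * (c φ : ℝ)) ^ 2 / (n φ : ℝ) := by ring
      rw [h4, h1]
      by_cases h : φ = χ₁
      · rw [if_pos h, if_pos h, h]
        field_simp
        ring
      · rw [if_neg h, if_neg h]
        ring
    rw [Finset.sum_congr rfl hterm, Finset.sum_sub_distrib, Finset.sum_ite_eq' S₁ χ₁, if_pos hχ₁S,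
      ← Finset.mul_sum]
  have hT'gt : 2 * (a : ℝ) * p ^ 2 < T' := by
    have h1 : (2 * (d χ : ℝ) * (d χ₁ : ℝ)) < T' := hineq
    have h2 : (d χ : ℝ) = p * (a : ℝ) := by rw [hp]; exact_mod_cast ha
    rw [h2] at h1
    rw [← hp] at h1
    linarith
  have hx0 : x = 0 := by
    by_contra hxne
    have hxR : (x : ℝ) ≠ 0 := by exact_mod_cast hxne
    have hx2 : (0 : ℝ) < (x : ℝ) ^ 2 := by positivity
    have hle : ∑ φ ∈ S₁, (c φ : ℝ) ^ 2 / (n φ : ℝ) ≤ (a : ℝ) * (a : ℝ) * (n χ₁ : ℝ) := by linarith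
    have h1 : p ^ 2 * ∑ φ ∈ S₁, (c φ : ℝ) ^ 2 / (n φ : ℝ) ≤ p ^ 2 * ((a : ℝ) * (a : ℝ) * (n χ₁ : ℝ)) :=
      mul_le_mul_of_nonneg_left hle (by positivity)
    rw [hscsum] at h1
    have h2 : (x : ℝ) ^ 2 * (2 * (a : ℝ) * p ^ 2) < (x : ℝ) ^ 2 * T' :=
      mul_lt_mul_of_pos_left hT'gt hx2
    have haR : (1 : ℝ) ≤ (a : ℝ) := by exact_mod_cast hapos
    have h3 : (x : ℝ) ^ 2 * (2 * (a : ℝ) * p ^ 2) < (x : ℝ) * (2 * (a : ℝ) * p ^ 2) := by nlinarith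
    have h4 : 0 < 2 * (a : ℝ) * p ^ 2 := by positivity
    have h5 : (x : ℝ) ^ 2 < (x : ℝ) := lt_of_mul_lt_mul_right h3 h4.le
    have h6 : x ≤ x ^ 2 := by
      rcases le_or_gt x 0 with h | h
      · nlinarith
      · have : 1 ≤ x := h
        nlinarith
    have h7 : (x : ℝ) ≤ (x : ℝ) ^ 2 := by exact_mod_cast h6
    linarith
  -- consequences of x = 0
  have hcφ : ∀ φ ∈ S₁, c φ = if φ = χ₁ then -((a : ℤ) * (n χ₁ : ℤ)) else 0 := by
    intro φ hφ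
    have h1 := hE1 φ hφ
    rw [hx0, mul_zero, zero_sub] at h1
    have hd₁ : (d χ₁ : ℤ) ≠ 0 := by exact_mod_cast (hdpos χ₁ hχ₁Smem).ne'
    by_cases h : φ = χ₁
    · rw [if_pos h] at h1 ⊢
      have : (d χ₁ : ℤ) * c φ = (d χ₁ : ℤ) * (-((a : ℤ) * (n χ₁ : ℤ))) := by rw [h1]; ring
      exact mul_left_cancel₀ hd₁ this
    · rw [if_neg h] at h1 ⊢
      have : (d χ₁ : ℤ) * c φ = (d χ₁ : ℤ) * 0 := by rw [h1]; ring
      exact mul_left_cancel₀ hd₁ this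
  have hscval : ∑ φ ∈ S₁, (c φ : ℝ) ^ 2 / (n φ : ℝ) = (a : ℝ) * (a : ℝ) * (n χ₁ : ℝ) := by
    have h1 := hscsum
    rw [hx0] at h1
    have h2 : p ^ 2 * ∑ φ ∈ S₁, (c φ : ℝ) ^ 2 / (n φ : ℝ) = p ^ 2 * ((a : ℝ) * (a : ℝ) * (n χ₁ : ℝ)) := by
      rw [h1]; push_cast; ring
    exact mul_left_cancel₀ (pow_ne_zero 2 hppos.ne') h2
  have hr₂zero : r₂ = 0 := by linarith
  have hsbval : ∑ α ∈ R χ, (b α : ℝ) ^ 2 = (n χ : ℝ) := by linarith
  have hW₂0 : W₂ = 0 := by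
    apply Cfsg.Agent.Lib.Helper10.classInner_self_eq_zero
    rw [hr₂, hr₂zero]; simp
  have hb01 : ∀ α ∈ R χ, (b α : ℝ) ^ 2 = (b α : ℝ) := by
    have hzero : ∑ α ∈ R χ, ((b α : ℝ) ^ 2 - (b α : ℝ)) = 0 := by
      rw [Finset.sum_sub_distrib, hsbval, hsumbR, sub_self]
    have hz := (Finset.sum_eq_zero_iff_of_nonneg (fun α hα => sub_nonneg.mpr (hbge α hα))).mp hzero
    intro α hα
    have := hz α hα
    linarith
  have hW₁val : W₁ = (-(a : ℤ)) • τ₁ χ₁ := by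
    have h1 : W₁ = ∑ φ ∈ S₁, (classInner W₁ (τ₁ φ) / (n φ : ℂ)) • τ₁ φ := by
      have := hW₂0
      rw [hW₂] at this
      exact sub_eq_zero.mp this
    rw [h1]
    have hterm : ∀ φ ∈ S₁, (classInner W₁ (τ₁ φ) / (n φ : ℂ)) • τ₁ φ =
        if φ = χ₁ then (-(a : ℤ)) • τ₁ χ₁ else 0 := by
      intro φ hφ
      rw [hW₁φ φ hφ, hcφ φ hφ]
      by_cases h : φ = χ₁
      · rw [if_pos h, if_pos h, h]
        have hn₁ : (n χ₁ : ℂ) ≠ 0 := by exact_mod_cast hnpos χ₁ hχ₁Smem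
        have : (((-((a : ℤ) * (n χ₁ : ℤ)) : ℤ) : ℂ) / (n χ₁ : ℂ)) = ((-(a : ℤ) : ℤ) : ℂ) := by
          push_cast
          field_simp
        rw [this, Int.cast_smul_eq_zsmul]
      · rw [if_neg h, if_neg h]
        simp
    rw [Finset.sum_congr rfl hterm, Finset.sum_ite_eq' S₁ χ₁, if_pos hχ₁S]
  set X : G → ℂ := ∑ α ∈ R χ, ((b α : ℤ) : ℂ) • α with hX
  set Xbar : G → ℂ := ∑ α ∈ R χ, (((b α - 1 : ℤ)) : ℂ) • α with hXbar
  have hBX : B = X + (-(a : ℤ)) • τ₁ χ₁ := by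
    rw [← hW₁val, hW₁, hX]
    have : ∑ α ∈ R χ, classInner B α • α = ∑ α ∈ R χ, ((b α : ℤ) : ℂ) • α := by
      apply Finset.sum_congr rfl
      intro α hα
      rw [hb α hα]
    rw [this]
    abel
  have hXbarX : Xbar = X - ∑ α ∈ R χ, α := by
    rw [hXbar, hX, ← Finset.sum_sub_distrib]
    apply Finset.sum_congr rfl
    intro α _
    push_cast
    rw [sub_smul, one_smul]
  have hXg : IsGeneralizedCharacter G X := by
    apply genChar_sum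
    intro α hα
    rw [Int.cast_smul_eq_zsmul]
    exact genChar_zsmul (hRg α hα) _
  have hXbarg : IsGeneralizedCharacter G Xbar := by
    apply genChar_sum
    intro α hα
    rw [Int.cast_smul_eq_zsmul]
    exact genChar_zsmul (hRg α hα) _
  have hbC : ∀ α ∈ R χ, ((b α : ℤ) : ℂ) * ((b α : ℤ) : ℂ) = ((b α : ℤ) : ℂ) := by
    intro α hα
    have h1 := hb01 α hα
    have h2 : (b α) ^ 2 = b α := by exact_mod_cast h1
    have h3 : (((b α) ^ 2 : ℤ) : ℂ) = ((b α : ℤ) : ℂ) := by rw [h2]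
    rw [← sq]
    exact_mod_cast h3
  have hXX : classInner X X = (n χ : ℂ) := by
    rw [hX, classInner_sum_smul_sum_smul (R χ) (fun x => x) hRo]
    rw [← hsumb]
    apply Finset.sum_congr rfl
    intro α hα
    rw [map_intCast, hbC α hα]
  have hXXbar : classInner X Xbar = 0 := by
    rw [hX, hXbar, classInner_sum_smul_sum_smul (R χ) (fun x => x) hRo]
    apply Finset.sum_eq_zero
    intro α hα
    rw [map_intCast]
    push_cast
    rw [mul_sub, hbC α hα, mul_one, sub_self]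
  have hXbarXbar : classInner Xbar Xbar = (n χ : ℂ) := by
    rw [hXbar, classInner_sum_smul_sum_smul (R χ) (fun x => x) hRo]
    have hterm : ∀ α ∈ R χ, (((b α - 1 : ℤ)) : ℂ) * conj ((((b α - 1 : ℤ)) : ℂ)) =
        1 - ((b α : ℤ) : ℂ) := by
      intro α hα
      rw [map_intCast]
      push_cast
      have := hbC α hα
      linear_combination this
    rw [Finset.sum_congr rfl hterm, Finset.sum_sub_distrib, hsumb]
    simp only [Finset.sum_const, nsmul_eq_mul, mul_one]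
    rw [hcardR]
    ring
  have hXφ : ∀ φ ∈ S₁, classInner X (τ₁ φ) = 0 := by
    intro φ hφ
    rw [hX, Cfsg.Agent.Lib.Helper10.classInner_sum_left]
    apply Finset.sum_eq_zero
    intro α hα
    rw [Cfsg.Agent.Lib.Helper10.classInner_smul_left, Cfsg.Agent.Lib.Helper10.classInner_conj_symm α,
      hP3 φ hφ α hα, map_zero, mul_zero]
  have hXbarφ : ∀ φ ∈ S₁, classInner Xbar (τ₁ φ) = 0 := by
    intro φ hφ
    rw [hXbar, Cfsg.Agent.Lib.Helper10.classInner_sum_left]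
    apply Finset.sum_eq_zero
    intro α hα
    rw [Cfsg.Agent.Lib.Helper10.classInner_smul_left, Cfsg.Agent.Lib.Helper10.classInner_conj_symm α,
      hP3 φ hφ α hα, map_zero, mul_zero]
  -- the extended family
  set T₀ : Finset (L → ℂ) := insert (conjFun χ) S₁ with hT₀def
  set T : Finset (L → ℂ) := insert χ T₀ with hTdef
  have hχT₀ : χ ∉ T₀ := by
    rw [hT₀def, Finset.mem_insert]
    rintro (h | h)
    · exact hχne h.symm
    · exact hχ₁ h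
  have hTS : ∀ ξ ∈ T, ξ ∈ S := by
    intro ξ hξ
    rcases Finset.mem_insert.mp hξ with rfl | h
    · exact hχ
    · rcases Finset.mem_insert.mp h with rfl | h
      · exact hχbar
      · exact hmemS ξ h
  have hTo : OrthogOn T n := fun ξ hξ η hη => hinner ξ (hTS ξ hξ) η (hTS η hη)
  have hTw : ∀ ξ ∈ T, n ξ ≠ 0 := fun ξ hξ => hnpos ξ (hTS ξ hξ)
  have hTcoe : (↑T : Set (L → ℂ)) = ↑S₁ ∪ {χ, conjFun χ} := by
    ext ξ
    rw [hTdef, hT₀def, Finset.coe_insert, Finset.coe_insert]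
    constructor
    · rintro (h | h | h)
      · exact Or.inr (Or.inl h)
      · exact Or.inr (Or.inr h)
      · exact Or.inl h
    · rintro (h | h | h)
      · exact Or.inr (Or.inr h)
      · exact Or.inl h
      · exact Or.inr (Or.inl h)
  set f : (L → ℂ) → (G → ℂ) := fun ξ => if ξ = χ then X else if ξ = conjFun χ then Xbar else τ₁ ξ
    with hf
  have hfχ : f χ = X := by rw [hf]; simp
  have hfχbar : f (conjFun χ) = Xbar := by
    rw [hf]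
    show (if conjFun χ = χ then X else if conjFun χ = conjFun χ then Xbar else τ₁ (conjFun χ)) = Xbar
    rw [if_neg hχne, if_pos rfl]
  have hfS₁ : ∀ φ ∈ S₁, f φ = τ₁ φ := by
    intro φ hφ
    rw [hf]
    show (if φ = χ then X else if φ = conjFun χ then Xbar else τ₁ φ) = τ₁ φ
    rw [if_neg (hneχ φ hφ), if_neg (hneχbar φ hφ)]
  have hXbarX' : classInner Xbar X = 0 := by
    rw [Cfsg.Agent.Lib.Helper10.classInner_conj_symm, hXXbar, map_zero]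
  have hfo : ∀ ξ ∈ T, ∀ η ∈ T, classInner (f ξ) (f η) = if ξ = η then (n ξ : ℂ) else 0 := by
    intro ξ hξ η hη
    rcases Finset.mem_insert.mp hξ with rfl | hξ'
    · rcases Finset.mem_insert.mp hη with rfl | hη'
      · rw [hfχ, hXX, if_pos rfl]
      · rcases Finset.mem_insert.mp hη' with rfl | hη''
        · rw [hfχ, hfχbar, hXXbar, if_neg (fun h => hχne h.symm)]
        · rw [hfχ, hfS₁ η hη'', hXφ η hη'', if_neg (fun h => hneχ η hη'' h.symm)]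
    · rcases Finset.mem_insert.mp hξ' with rfl | hξ''
      · rcases Finset.mem_insert.mp hη with rfl | hη'
        · rw [hfχ, hfχbar, hXbarX', if_neg hχne]
        · rcases Finset.mem_insert.mp hη' with rfl | hη''
          · rw [hfχbar, hXbarXbar, if_pos rfl, hnbar]
          · rw [hfχbar, hfS₁ η hη'', hXbarφ η hη'', if_neg (fun h => hneχbar η hη'' h.symm)]
      · rcases Finset.mem_insert.mp hη with rfl | hη'
        · rw [hfχ, hfS₁ ξ hξ'', Cfsg.Agent.Lib.Helper10.classInner_conj_symm, hXφ ξ hξ'', map_zero,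
            if_neg (hneχ ξ hξ'')]
        · rcases Finset.mem_insert.mp hη' with rfl | hη''
          · rw [hfχbar, hfS₁ ξ hξ'', Cfsg.Agent.Lib.Helper10.classInner_conj_symm, hXbarφ ξ hξ'',
              map_zero, if_neg (hneχbar ξ hξ'')]
          · rw [hfS₁ ξ hξ'', hfS₁ η hη'']
            exact hτ₁o ξ hξ'' η hη''
  have hfg : ∀ ξ ∈ T, IsGeneralizedCharacter G (f ξ) := by
    intro ξ hξ
    rcases Finset.mem_insert.mp hξ with rfl | hξ'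
    · rw [hfχ]; exact hXg
    · rcases Finset.mem_insert.mp hξ' with rfl | hξ''
      · rw [hfχbar]; exact hXbarg
      · rw [hfS₁ ξ hξ'']; exact hτ₁g ξ hξ''
  have hτ₂ := wMap_isLinearIsometryOn hTo hTw f hfo hfg
  rw [hTcoe] at hτ₂
  have hS₁sub : (↑S₁ : Set (L → ℂ)) ⊆ ↑S₁ ∪ {χ, conjFun χ} := Set.subset_union_left
  refine ⟨⟨α₀, zspanOn_mono hS₁sub _ hα₀, hα₀ne⟩, wMap T n f, hτ₂, ?_⟩
  have hχT : χ ∈ T := Finset.mem_insert_self χ T₀
  have hχbarT : conjFun χ ∈ T := Finset.mem_insert_of_mem (Finset.mem_insert_self _ S₁)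
  have hS₁T : ∀ φ ∈ S₁, φ ∈ T := fun φ hφ => Finset.mem_insert_of_mem (Finset.mem_insert_of_mem hφ)
  have hτ₂β : wMap T n f β = B := by
    rw [hβ, wMap_add, wMap_zsmul, wMap_zsmul, wMap_apply_mem hTo hTw f hχT,
      wMap_apply_mem hTo hTw f (hS₁T χ₁ hχ₁S), hfχ, hfS₁ χ₁ hχ₁S, hBX, one_smul]
  have hτ₂ω : wMap T n f ω = τ ω := by
    rw [hτω, hω, wMap_add, wMap_zsmul, wMap_zsmul, wMap_apply_mem hTo hTw f hχbarT,
      wMap_apply_mem hTo hTw f (hS₁T χ₁ hχ₁S), hfχbar, hfS₁ χ₁ hχ₁S, hBX, hXbarX, one_smul]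
    abel
  intro θ hθ
  have hθT : θ ∈ zspan (↑T : Set (L → ℂ)) := by rw [hTcoe]; exact hθ.1
  obtain ⟨m, hm⟩ := mem_zspan_finset.mp hθT
  have hTsubS : (↑S₁ ∪ {χ, conjFun χ} : Set (L → ℂ)) ⊆ S := by
    intro ξ hξ
    rcases hξ with h | h
    · exact hS₁ h
    · rcases h with rfl | rfl
      · exact hχ
      · exact hχbar
  have hθE : θ ∈ zspanOn S {1}ᶜ := zspanOn_mono hTsubS _ hθ
  set θ₀ : L → ℂ := ∑ φ ∈ S₁, m φ • φ + ((m χ + m (conjFun χ)) * (a : ℤ)) • χ₁ with hθ₀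
  have hθeq : θ = (1 : ℤ) • θ₀ + m χ • β + m (conjFun χ) • ω := by
    rw [hm, hTdef, Finset.sum_insert hχT₀, hT₀def, Finset.sum_insert hχ₂, hθ₀, hβ, hω]
    module
  have hθ₀S₁ : θ₀ ∈ zspan (↑S₁ : Set (L → ℂ)) :=
    zspan_add (zspan_sum S₁ _ (fun φ hφ => zspan_zsmul (subset_zspan (Finset.mem_coe.mpr hφ)) _))
      (zspan_zsmul (subset_zspan (Finset.mem_coe.mpr hχ₁S)) _)
  have hθ₀On : θ₀ ∈ zspanOn (↑S₁ : Set (L → ℂ)) {1}ᶜ := by
    refine ⟨hθ₀S₁, ?_⟩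
    intro x hx
    have h1 : θ₀ = θ + (-(m χ)) • β + (-(m (conjFun χ))) • ω := by
      rw [hθeq]; module
    rw [h1, Pi.add_apply, Pi.add_apply, Pi.smul_apply, Pi.smul_apply, hθ.2 x hx, hβE.2 x hx,
      hωE.2 x hx]
    simp
  have hθ₀E : θ₀ ∈ zspanOn S {1}ᶜ := zspanOn_mono hS₁ _ hθ₀On
  have hτθ : τ θ = τ θ₀ + m χ • B + m (conjFun χ) • τ ω := by
    conv_lhs => rw [hθeq]
    rw [isometry_lin3 hτ hES hEadd hθ₀E hβE hωE, one_smul]
  have hθ₀χ : classInner θ₀ χ = 0 := by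
    obtain ⟨c', hc'⟩ := mem_zspan_finset.mp hθ₀S₁
    rw [hc', Cfsg.Agent.Lib.Helper10.classInner_sum_left]
    apply Finset.sum_eq_zero
    intro φ hφ
    rw [classInner_zsmul_left, hinner φ (hmemS φ hφ) χ hχ, if_neg (hneχ φ hφ), mul_zero]
  have hθ₀χbar : classInner θ₀ (conjFun χ) = 0 := by
    obtain ⟨c', hc'⟩ := mem_zspan_finset.mp hθ₀S₁
    rw [hc', Cfsg.Agent.Lib.Helper10.classInner_sum_left]
    apply Finset.sum_eq_zero
    intro φ hφ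
    rw [classInner_zsmul_left, hinner φ (hmemS φ hφ) _ hχbar, if_neg (hneχbar φ hφ), mul_zero]
  have hτ₂θ₀ : wMap T n f θ₀ = τ θ₀ := by
    rw [hTdef, wMap_insert hχT₀, hT₀def, wMap_insert hχ₂, hθ₀χ, hθ₀χbar, zero_div, zero_div,
      zero_smul, zero_smul, zero_add, zero_add, wMap_congr hfS₁,
      ← isometry_eq_wMap hT₁ hw₁ hτ₁ hθ₀S₁, hτ₁τ θ₀ hθ₀On]
  conv_lhs => rw [hθeq]
  rw [wMap_add, wMap_add, wMap_zsmul, wMap_zsmul, wMap_zsmul, hτ₂θ₀, hτ₂β, hτ₂ω, hτθ, one_smul]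


end Cfsg.Agent.S1516
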