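import Cfsg.Statements.S0386
-- import your own Cfsg.Agent.* helpers here
import Cfsg.Agent.Lib.Helper3.Golay.Dodecad

set_option autoImplicit false
open Cfsg

namespace Cfsg.Agent.S0386

open scoped Pointwise
open Cfsg.Agent.Lib.Helper3.Golay

/-- the test on code word indices: an octad meeting the base dodecad in `k` points -/
def interTest (k c : ℕ) : Bool :=
  Nat.beq (pc24 (codeMask c)) 8 && Nat.beq (pc24 (codeMask c &&& d0)) k

theorem inter_d0_eq (k : ℕ) :
    {o : Finset GolayPt | o ∈ octads ∧ (o ∩ bitSet d0).card = k} =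
      ↑(((Finset.range 4096).filter (fun c => interTest k c = true)).image
        (fun c => bitSet (codeMask c))) := by
  ext b
  simp only [Set.mem_ofPred_eq, Finset.coe_image, Finset.coe_filter, Finset.mem_range, Set.mem_image]
  constructor
  · rintro ⟨⟨hb, hcard⟩, hk⟩
    obtain ⟨c, hc, rfl⟩ := (mem_supports_iff b).mp hb
    refine ⟨c, ⟨hc, ?_⟩, rfl⟩
    rw [card_bitSet'] at hcard
    rw [← bitSet_and, card_bitSet'] at hk
    unfold interTest
    rw [hcard, hk]
    simp
  · rintro ⟨c, ⟨hc, ht⟩, rfl⟩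
    unfold interTest at ht
    rw [Bool.and_eq_true] at ht
    refine ⟨⟨(mem_supports_iff _).mpr ⟨c, hc, rfl⟩, ?_⟩, ?_⟩
    · rw [card_bitSet']; exact Nat.eq_of_beq_eq_true ht.1
    · rw [← bitSet_and, card_bitSet']; exact Nat.eq_of_beq_eq_true ht.2

theorem ncard_inter_d0 (k : ℕ) :
    {o : Finset GolayPt | o ∈ octads ∧ (o ∩ bitSet d0).card = k}.ncard =
      countBelow 4096 (interTest k) := by
  rw [inter_d0_eq, Set.ncard_coe_finset, countBelow_eq, Finset.card_image_of_injOn]
  intro c hc c' hc' h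
  simp only [Finset.coe_filter, Finset.mem_range, Set.mem_ofPred_eq] at hc hc'
  exact codeMask_injOn hc.1 hc'.1 h

set_option maxRecDepth 100000 in
theorem count6 : countBelow 4096 (interTest 6) = 132 := by decide +kernel

set_option maxRecDepth 100000 in
theorem count2 : countBelow 4096 (interTest 2) = 132 := by decide +kernel

set_option maxRecDepth 100000 in
theorem count4 : countBelow 4096 (interTest 4) = 495 := by decide +kernel

/-- transport of the intersection numbers along an element of `M24` -/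
theorem ncard_inter_smul {g : Equiv.Perm GolayPt} (hg : g ∈ M24) (d : Finset GolayPt) (k : ℕ) :
    {o : Finset GolayPt | o ∈ octads ∧ (o ∩ g • d).card = k}.ncard =
      {o : Finset GolayPt | o ∈ octads ∧ (o ∩ d).card = k}.ncard := by
  classical
  have : {o : Finset GolayPt | o ∈ octads ∧ (o ∩ g • d).card = k} =
      (fun o => g • o) '' {o : Finset GolayPt | o ∈ octads ∧ (o ∩ d).card = k} := by
    ext o'
    simp only [Set.mem_ofPred_eq, Set.mem_image]
    constructor
    · rintro ⟨ho', hk⟩
      refine ⟨g⁻¹ • o', ⟨smul_mem_octads (M24.inv_mem hg) ho', ?_⟩, smul_inv_smul g o'⟩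
      have : g⁻¹ • o' ∩ d = g⁻¹ • (o' ∩ g • d) := by
        rw [Finset.smul_finset_inter, inv_smul_smul]
      rw [this, Finset.card_smul_finset, hk]
    · rintro ⟨o, ⟨ho, hk⟩, rfl⟩
      refine ⟨smul_mem_octads hg ho, ?_⟩
      rw [← Finset.smul_finset_inter, Finset.card_smul_finset, hk]
  rw [this, Set.ncard_image_of_injective _ (MulAction.injective g)]

/-- For a fixed dodecad, 132 octads meet it in 6 points, 132 in 2 points and 495 in 4 points. -/
theorem result (d : Finset Cfsg.GolayPt) (hd : d ∈ Cfsg.dodecads) : {o : Finset Cfsg.GolayPt | o ∈ Cfsg.octads ∧ (o ∩ d).card = 6}.ncard = 132 ∧ {o : Finset Cfsg.GolayPt | o ∈ Cfsg.octads ∧ (o ∩ d).card = 2}.ncard = 132 ∧ {o : Finset Cfsg.GolayPt | o ∈ Cfsg.octads ∧ (o ∩ d).card = 4}.ncard = 495 := by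
  obtain ⟨g, hg, rfl⟩ := exists_map_dodecad d0_mem hd
  refine ⟨?_, ?_, ?_⟩
  · rw [ncard_inter_smul hg, ncard_inter_d0, count6]
  · rw [ncard_inter_smul hg, ncard_inter_d0, count2]
  · rw [ncard_inter_smul hg, ncard_inter_d0, count4]

end Cfsg.Agent.S0386
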