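import Cfsg.Statements.S1550
-- import your own Cfsg.Agent.* helpers here
import Cfsg.Agent.S1638

set_option autoImplicit false
open scoped Pointwise
open Cfsg

namespace Cfsg.Agent.S1550

open scoped Pointwise
open Cfsg.Agent.Lib.Helper3.Golay
open Cfsg.Agent.S1638 (ncard_octads_tetrad)

/-- two distinct octads through a tetrad meet exactly in the tetrad -/
theorem inter_eq_tetrad {t o o' : Finset GolayPt} (ht : t.card = 4) (ho : o ∈ octads) (ho' : o' ∈ octads)
    (hto : t ⊆ o) (hto' : t ⊆ o') (hne : o ≠ o') : o ∩ o' = t := by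
  symm
  apply Finset.eq_of_subset_of_card_le (Finset.subset_inter hto hto')
  rw [ht]
  exact octad_inter_le ho ho' hne

/-- the sextet of a tetrad -/
noncomputable def sextetOf (t : Finset GolayPt) : Finset (Finset GolayPt) :=
  open Classical in
  insert t ((Finset.univ.filter (fun o => o ∈ octads ∧ t ⊆ o)).image (fun o => o \ t))

theorem mem_sextetOf {t u : Finset GolayPt} :
    u ∈ sextetOf t ↔ u = t ∨ ∃ o ∈ octads, t ⊆ o ∧ o \ t = u := by
  classical
  unfold sextetOf
  simp only [Finset.mem_insert, Finset.mem_image, Finset.mem_filter, Finset.mem_univ, true_and,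
    and_assoc]

theorem sextetOf_mem {t : Finset GolayPt} (ht : t.card = 4) : sextetOf t ∈ sextets := by
  classical
  have hA : (Finset.univ.filter (fun o : Finset GolayPt => o ∈ octads ∧ t ⊆ o)).card = 5 := by
    rw [← ncard_octads_tetrad t ht, ← Set.ncard_coe_finset]
    congr 1
    ext o
    simp
  have hcard4 : ∀ o ∈ octads, t ⊆ o → (o \ t).card = 4 := by
    intro o ho hto
    rw [Finset.card_sdiff_of_subset hto, ho.2, ht]
  refine ⟨?_, ?_, ?_⟩
  · unfold sextetOf
    rw [Finset.card_insert_of_notMem, Finset.card_image_of_injOn, hA]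
    · intro o ho o' ho' h
      simp only [Finset.coe_filter, Finset.mem_univ, true_and, Set.mem_ofPred_eq] at ho ho'
      have e1 : o = (o \ t) ∪ t := (Finset.sdiff_union_of_subset ho.2).symm
      have e2 : o' = (o' \ t) ∪ t := (Finset.sdiff_union_of_subset ho'.2).symm
      rw [e1, e2]
      simp only at h
      rw [h]
    · intro h
      rw [Finset.mem_image] at h
      obtain ⟨o, ho, hot⟩ := h
      rw [Finset.mem_filter] at ho
      have : (o \ t) ∩ t = ∅ := by
        ext p; simp
      rw [hot, Finset.inter_self] at this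
      rw [this] at ht; simp at ht
  · intro u hu
    rcases mem_sextetOf.mp hu with rfl | ⟨o, ho, hto, rfl⟩
    · exact ht
    · exact hcard4 o ho hto
  · intro u hu v hv huv
    rcases mem_sextetOf.mp hu with rfl | ⟨o, ho, hto, rfl⟩
    · rcases mem_sextetOf.mp hv with rfl | ⟨o', ho', hto', rfl⟩
      · exact absurd rfl huv
      · rw [Finset.union_sdiff_of_subset hto']; exact ho'
    · rcases mem_sextetOf.mp hv with rfl | ⟨o', ho', hto', rfl⟩
      · rw [Finset.union_comm, Finset.union_sdiff_of_subset hto]; exact ho
      · have hne : o ≠ o' := by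
          rintro rfl; exact huv rfl
        have hint := inter_eq_tetrad ht ho ho' hto hto' hne
        have e : o \ t ∪ o' \ t = symmDiff o o' := by
          ext p
          simp only [Finset.mem_union, Finset.mem_sdiff, Finset.mem_symmDiff]
          have : p ∈ t ↔ (p ∈ o ∧ p ∈ o') := by rw [← hint, Finset.mem_inter]
          rw [this]
          tauto
        rw [e]
        refine ⟨symmDiff_mem_supports ho.1 ho'.1, ?_⟩
        have := card_symmDiff_add o o'
        rw [hint, ht, ho.2, ho'.2] at this
        omega

theorem disjoint_of_union_octad {t u : Finset GolayPt} (ht : t.card = 4) (hu : u.card = 4)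
    (h : t ∪ u ∈ octads) : Disjoint t u := by
  rw [Finset.disjoint_iff_inter_eq_empty, ← Finset.card_eq_zero]
  have := Finset.card_union_add_card_inter t u
  rw [h.2, ht, hu] at this
  omega

theorem sextet_eq {S : Finset (Finset GolayPt)} (hS : S ∈ sextets) {t : Finset GolayPt} (ht : t ∈ S) :
    S = sextetOf t := by
  have ht4 := hS.2.1 t ht
  apply Finset.eq_of_subset_of_card_le
  · intro u hu
    rw [mem_sextetOf]
    by_cases hut : u = t
    · exact Or.inl hut
    · right
      have hoct := hS.2.2 t ht u hu (Ne.symm hut)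
      refine ⟨t ∪ u, hoct, Finset.subset_union_left, ?_⟩
      have hd := disjoint_of_union_octad ht4 (hS.2.1 u hu) hoct
      rw [Finset.union_sdiff_left, Finset.sdiff_eq_self_of_disjoint hd.symm]
  · rw [hS.1, (sextetOf_mem ht4).1]

/-- Every 4-element set of the 24 points is a tetrad of exactly one sextet, and the sextets number 1771. -/
theorem result : (∀ t : Finset Cfsg.GolayPt, t.card = 4 → ∃! S : Finset (Finset Cfsg.GolayPt), S ∈ Cfsg.sextets ∧ t ∈ S) ∧ Cfsg.sextets.ncard = 1771 := by
  classical
  have huniq : ∀ t : Finset Cfsg.GolayPt, t.card = 4 →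
      ∃! S : Finset (Finset Cfsg.GolayPt), S ∈ Cfsg.sextets ∧ t ∈ S := by
    intro t ht
    refine ⟨sextetOf t, ⟨sextetOf_mem ht, mem_sextetOf.mpr (Or.inl rfl)⟩, ?_⟩
    rintro S ⟨hS, htS⟩
    exact sextet_eq hS htS
  refine ⟨huniq, ?_⟩
  -- count the tetrads by their sextets
  set Sx := (Set.toFinite sextets).toFinset with hSx
  have memSx : ∀ S, S ∈ Sx ↔ S ∈ sextets := fun S => Set.Finite.mem_toFinset _
  rw [Set.ncard_eq_toFinset_card _ (Set.toFinite sextets)]
  set P := (Finset.univ : Finset GolayPt).powersetCard 4 with hP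
  have hPcard : P.card = 10626 := by
    rw [hP, Finset.card_powersetCard, Finset.card_univ, card_pts]; rfl
  have hmaps : Set.MapsTo sextetOf (P : Set (Finset GolayPt)) (Sx : Finset _) := by
    intro t ht
    rw [Finset.mem_coe, hP, Finset.mem_powersetCard] at ht
    rw [Finset.mem_coe, memSx]
    exact sextetOf_mem ht.2
  have hfib : ∀ S ∈ Sx, (P.filter (fun t => sextetOf t = S)).card = 6 := by
    intro S hS
    have hS' := (memSx S).mp hS
    have : P.filter (fun t => sextetOf t = S) = S := by
      ext t
      rw [Finset.mem_filter, hP, Finset.mem_powersetCard]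
      constructor
      · rintro ⟨_, rfl⟩
        exact mem_sextetOf.mpr (Or.inl rfl)
      · intro ht
        exact ⟨⟨Finset.subset_univ _, hS'.2.1 t ht⟩, (sextet_eq hS' ht).symm⟩
    rw [this, hS'.1]
  have := Finset.card_eq_sum_card_fiberwise hmaps
  rw [Finset.sum_congr rfl hfib, Finset.sum_const, hPcard, smul_eq_mul] at this
  show Sx.card = 1771
  omega

end Cfsg.Agent.S1550
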