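import Cfsg.Statements.S1591
import Mathlib

set_option autoImplicit false
open Cfsg

namespace Cfsg.Agent.S1591

theorem sum_zmod3 (f : ZMod 3 → ZMod 3) : ∑ r : ZMod 3, f r = f 0 + f 1 + f 2 :=
  Fin.sum_univ_three f

theorem col_id : ∀ f0 f1 f2 g0 g1 g2 s s' : ZMod 3, f0 + f1 + f2 = -s → g0 + g1 + g2 = -s' →
    f0 * g0 + f1 * g1 + f2 * g2 = -(f0 * s' + (f2 - f1) * (g2 - g1) + s * g0 + s * s') := by
  decide

theorem col_diff : ∀ a0 a1 a2 s : ZMod 3, a0 + a1 + a2 = -s →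
    a1 - a0 = (a2 - a1) + s ∧ a2 - a0 = 2 * (a2 - a1) + s := by
  decide

theorem tetra_orth : ∀ b0 b1 b2 b3 d0 d1 d2 d3 : ZMod 3, b1 + b2 + b3 = 0 → b0 + b2 + 2 * b3 = 0 →
    d1 + d2 + d3 = 0 → d0 + d2 + 2 * d3 = 0 → b0 * d0 + b1 * d1 + b2 * d2 + b3 * d3 = 0 := by
  decide

/-- the linear constraints on the "linear coefficients" of the columns of a code word -/
theorem lin_constraints (x : Cfsg.ArrayPt → ZMod 3) (s : ZMod 3)
    (hcol : ∀ i : Fin 4, ∑ r : ZMod 3, x (i, r) = -s)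
    (htet : ∀ t ∈ Cfsg.tetracode, ∑ i : Fin 4, x (i, t i) = s) :
    (x (0, 0) + x (1, 0) + x (2, 0) + x (3, 0) = s) ∧
    ((x (1, 2) - x (1, 1)) + (x (2, 2) - x (2, 1)) + (x (3, 2) - x (3, 1)) = 0) ∧
    ((x (0, 2) - x (0, 1)) + (x (2, 2) - x (2, 1)) + 2 * (x (3, 2) - x (3, 1)) = 0) := by
  have h3 : (3 : ZMod 3) = 0 := by decide
  have hu : (![0, 1, 1, 1] : Fin 4 → ZMod 3) ∈ Cfsg.tetracode := Submodule.subset_span (by simp)
  have hv : (![1, 0, 1, 2] : Fin 4 → ZMod 3) ∈ Cfsg.tetracode := Submodule.subset_span (by simp)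
  have h0 : (0 : Fin 4 → ZMod 3) ∈ Cfsg.tetracode := Submodule.zero_mem _
  have e0 := htet 0 h0
  have eu := htet _ hu
  have ev := htet _ hv
  simp only [Fin.sum_univ_four, Pi.zero_apply] at e0
  simp only [Fin.sum_univ_four] at eu ev
  have eu' : x (0, 0) + x (1, 1) + x (2, 1) + x (3, 1) = s := eu
  have ev' : x (0, 1) + x (1, 0) + x (2, 1) + x (3, 2) = s := ev
  have c0 := hcol 0
  have c1 := hcol 1
  have c2 := hcol 2
  have c3 := hcol 3
  rw [sum_zmod3] at c0 c1 c2 c3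
  obtain ⟨d01, d02⟩ := col_diff _ _ _ _ c0
  obtain ⟨d11, d12⟩ := col_diff _ _ _ _ c1
  obtain ⟨d21, d22⟩ := col_diff _ _ _ _ c2
  obtain ⟨d31, d32⟩ := col_diff _ _ _ _ c3
  refine ⟨e0, ?_, ?_⟩
  · linear_combination eu' - e0 - d11 - d21 - d31 + (-s) * h3
  · linear_combination ev' - e0 - d01 - d21 - d32 + (-s) * h3


/-- Any two words of the length-12 ternary code have dot product zero. -/
theorem result (x y : Cfsg.ArrayPt → ZMod 3) (hx : x ∈ Cfsg.ternaryGolayCode) (hy : y ∈ Cfsg.ternaryGolayCode) : ∑ p, x p * y p = 0 := by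
  have h3 : (3 : ZMod 3) = 0 := by decide
  obtain ⟨s, hcol, htet⟩ := hx
  obtain ⟨s', hcol', htet'⟩ := hy
  obtain ⟨e0, hB1, hB2⟩ := lin_constraints x s hcol htet
  obtain ⟨e0', hB1', hB2'⟩ := lin_constraints y s' hcol' htet'
  have hBB := tetra_orth _ _ _ _ _ _ _ _ hB1 hB2 hB1' hB2'
  have c0 := hcol 0
  have c1 := hcol 1
  have c2 := hcol 2
  have c3 := hcol 3
  have c0' := hcol' 0
  have c1' := hcol' 1
  have c2' := hcol' 2
  have c3' := hcol' 3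
  rw [sum_zmod3] at c0 c1 c2 c3 c0' c1' c2' c3'
  have X0 := col_id _ _ _ _ _ _ _ _ c0 c0'
  have X1 := col_id _ _ _ _ _ _ _ _ c1 c1'
  have X2 := col_id _ _ _ _ _ _ _ _ c2 c2'
  have X3 := col_id _ _ _ _ _ _ _ _ c3 c3'
  rw [Fintype.sum_prod_type, Fin.sum_univ_four, sum_zmod3, sum_zmod3, sum_zmod3, sum_zmod3]
  linear_combination X0 + X1 + X2 + X3 + (-s') * e0 + (-s) * e0' + (-1) * hBB + (-2 * s * s') * h3

end Cfsg.Agent.S1591
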