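import Cfsg.Statements.S4219
-- import your own Cfsg.Agent.* helpers here


set_option autoImplicit false
open Cfsg

namespace Cfsg.Agent.S4219


theorem witt_aux {G : Type*} [Group G] [Finite G] {α : Type*} [MulAction G α] {t : ℕ}
    (hG : MulAction.IsMultiplyPretransitive G α t) (x : Fin t ↪ α) {p : ℕ} [Fact p.Prime]
    (P : Sylow p (MulAction.stabilizer G x)) (c : Fin t ↪ α)
    (hc : ∀ i, c i ∈ MulAction.fixedPoints ((P : Subgroup (MulAction.stabilizer G x)).map
      (MulAction.stabilizer G x).subtype) α) :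
    ∃ g ∈ Subgroup.normalizer ((((P : Subgroup (MulAction.stabilizer G x)).map
      (MulAction.stabilizer G x).subtype) : Subgroup G) : Set G), g • x = c := by
  obtain ⟨g₁, hg₁⟩ := MulAction.exists_smul_eq G x c
  have hQc : ∀ q ∈ ((P : Subgroup (MulAction.stabilizer G x)).map
      (MulAction.stabilizer G x).subtype), q • c = c := by
    intro q hq
    ext i
    have := hc i ⟨q, hq⟩
    simpa using this
  have hconj : ∀ q ∈ ((P : Subgroup (MulAction.stabilizer G x)).map
      (MulAction.stabilizer G x).subtype), g₁⁻¹ * q * g₁ ∈ MulAction.stabilizer G x := by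
    intro q hq
    rw [MulAction.mem_stabilizer_iff, mul_smul, mul_smul, hg₁, hQc q hq, ← hg₁, inv_smul_smul]
  let φ : MulAction.stabilizer G x →* G :=
    (MulAut.conj g₁).toMonoidHom.comp (MulAction.stabilizer G x).subtype
  have hφ : Function.Injective φ := by
    intro u v huv
    have : g₁ * (u : G) * g₁⁻¹ = g₁ * (v : G) * g₁⁻¹ := by simpa [φ] using huv
    exact Subtype.ext (by simpa using this)
  have hP₁ : IsPGroup p (((P : Subgroup (MulAction.stabilizer G x)).map
      (MulAction.stabilizer G x).subtype).comap φ) :=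
    (P.isPGroup'.map (MulAction.stabilizer G x).subtype).comap_of_injective φ hφ
  obtain ⟨P', hP'⟩ := hP₁.exists_le_sylow
  obtain ⟨h, hh⟩ := MulAction.exists_smul_eq (MulAction.stabilizer G x) P P'
  refine ⟨g₁ * h, ?_, ?_⟩
  · have hmem : (g₁ * h)⁻¹ ∈ Subgroup.normalizer ((((P : Subgroup (MulAction.stabilizer G x)).map
      (MulAction.stabilizer G x).subtype) : Subgroup G) : Set G) := by
      apply Subgroup.mem_normalizer_fintype
      intro q hq
      have hk : (⟨g₁⁻¹ * q * g₁, hconj q hq⟩ : MulAction.stabilizer G x) ∈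
          ((P : Subgroup (MulAction.stabilizer G x)).map
            (MulAction.stabilizer G x).subtype).comap φ := by
        have : g₁ * (g₁⁻¹ * q * g₁) * g₁⁻¹ = q := by group
        rw [Subgroup.mem_comap]
        have h2 : φ ⟨g₁⁻¹ * q * g₁, hconj q hq⟩ = q := by simpa [φ] using this
        rw [h2]; exact hq
      have hk' : (⟨g₁⁻¹ * q * g₁, hconj q hq⟩ : MulAction.stabilizer G x) ∈ P' := hP' hk
      rw [← hh, Sylow.smul_def] at hk'
      have hk'' := (Subgroup.mem_pointwise_smul_iff_inv_smul_mem).1 hk'
      refine ⟨_, hk'', ?_⟩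
      simp [MulAut.smul_def, mul_assoc]
    simpa using inv_mem hmem
  · have : (h : G) • x = x := h.2
    rw [mul_smul, this, hg₁]

/-- Let a finite group `G` act `t`-fold transitively on a finite set, let `H` be the stabilizer of `t` distinct points and `P` a Sylow `p`-subgroup of `H`. Then the normalizer of `P` in `G` is `t`-fold transitive on the fixed points of `P`: any `t` distinct fixed points of `P` can be carried to any other `t` distinct fixed points of `P` by an element normalizing `P`. -/
theorem result {G : Type*} [Group G] [Finite G] {α : Type*} [Fintype α] [MulAction G α] {t : ℕ} (hG : MulAction.IsMultiplyPretransitive G α t) (x : Fin t ↪ α) {p : ℕ} [Fact p.Prime] (P : Sylow p (MulAction.stabilizer G x)) (a b : Fin t ↪ α) (ha : ∀ i, a i ∈ MulAction.fixedPoints ((P : Subgroup (MulAction.stabilizer G x)).map (MulAction.stabilizer G x).subtype) α) (hb : ∀ i, b i ∈ MulAction.fixedPoints ((P : Subgroup (MulAction.stabilizer G x)).map (MulAction.stabilizer G x).subtype) α) : ∃ g ∈ Subgroup.normalizer ((((P : Subgroup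 (MulAction.stabilizer G x)).map (MulAction.stabilizer G x).subtype) : Subgroup G) : Set G), g • a = b := by
  obtain ⟨g₁, hg₁, e₁⟩ := witt_aux hG x P a ha
  obtain ⟨g₂, hg₂, e₂⟩ := witt_aux hG x P b hb
  refine ⟨g₂ * g₁⁻¹, mul_mem hg₂ (inv_mem hg₁), ?_⟩
  rw [mul_smul, ← e₁, inv_smul_smul, e₂]

end Cfsg.Agent.S4219
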