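import Cfsg.Statements.S4220
import Mathlib
import Cfsg.Agent.Lib.Helper20.MillerI

set_option autoImplicit false
open Cfsg

namespace Cfsg.Agent.S4220

open Equiv Equiv.Perm MulAction Cfsg.Agent.Lib.Helper20.Miller

universe u

/-- Miller's theorem, by strong induction on `k`. -/
theorem miller_main : ∀ (k : ℕ) {α : Type u} [Fintype α] [DecidableEq α]
    (G : Subgroup (Perm α)) {p r : ℕ}, p.Prime → Fintype.card α = k * p + r → 1 ≤ k → k < p →
    k < r → ¬ (k = 1 ∧ r = 2) → IsMultiplyPretransitive G α (r + 1) →
    alternatingGroup α ≤ G := by
  intro k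
  induction k using Nat.strong_induction_on with
  | _ k IH =>
    intro α _ _ G p r hp hn hk hpk hrk hex hG
    have hcardα : Nat.card α = k * p + r := by rw [Nat.card_eq_fintype_card, hn]
    have hkp : 0 < k * p := Nat.mul_pos hk hp.pos
    by_cases hsmall : k * p ≤ 3
    · -- the group is `(n - 2)`-transitive
      apply IsMultiplyPretransitive.alternatingGroup_le
      rw [hcardα]
      exact isMultiplyPretransitive_of_le (n := r + 1) (by omega) (by rw [hcardα]; omega)
    push Not at hsmall
    have hp2 : p ≠ 2 := by
      rintro rfl
      have : k = 1 := by omega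
      subst this
      omega
    have hp3 : 3 ≤ p := by
      have := hp.two_le
      omega
    have hne : Fintype.card (Fin (r + 1)) ≤ Fintype.card α := by
      rw [Fintype.card_fin, hn]; omega
    obtain ⟨x⟩ := Function.Embedding.nonempty_of_card_le hne
    by_cases hdvd : p ∣ Nat.card (stabilizer ↥G x)
    · -- case A
      apply caseA G hp hp2 hn hpk hrk hG x hdvd
      intro k' hk'k Δ H hΔ hk'1 hH
      have hk2 : 2 ≤ k := by omega
      exact IH k' hk'k H hp (by rw [Fintype.card_coe, hΔ]) hk'1 (by omega) (by omega)
        (by omega) hH
    · -- case B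
      by_cases h9 : p = 3 ∧ r = 3
      · obtain ⟨rfl, rfl⟩ := h9
        have hk2 : k = 2 := by omega
        subst hk2
        have hn9 : Fintype.card α = 9 := by omega
        apply nine G hn9 hG x hdvd
        intro h5
        exact IH 1 (by norm_num) G Nat.prime_five (by rw [hn9]) le_rfl (by norm_num)
          (by norm_num) (by norm_num) h5
      · have hr3 : 3 ≤ r := by
          by_contra hh
          push Not at hh
          have h1 : k = 1 := by omega
          have h2 : r = 2 := by omega
          exact hex ⟨h1, h2⟩
        have hp3r : p = 3 → 4 ≤ r := by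
          intro h
          by_contra hh
          apply h9
          exact ⟨h, by omega⟩
        exact caseB G hp hp2 hn hk hpk hrk hr3 hp3r hG x hdvd

/-- Let `n = kp + r` with `p` prime, `1 ≤ k < p` and `r > k`, excluding the case `k = 1, r = 2`. Then a permutation group of degree `n` that is `(r + 1)`-fold transitive contains the alternating group. -/
theorem result {α : Type*} [Fintype α] [DecidableEq α] (G : Subgroup (Equiv.Perm α)) {k p r : ℕ} (hp : p.Prime) (hn : Fintype.card α = k * p + r) (hk : 1 ≤ k) (hpk : k < p) (hrk : k < r) (hex : ¬ (k = 1 ∧ r = 2)) (hG : MulAction.IsMultiplyPretransitive G α (r + 1)) : alternatingGroup α ≤ G := by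
  exact miller_main k G hp hn hk hpk hrk hex hG

end Cfsg.Agent.S4220
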