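import Cfsg.Statements.S1557
-- import your own Cfsg.Agent.* helpers here
import Cfsg.Agent.S1565
import Cfsg.Agent.S1566

set_option autoImplicit false
open scoped Pointwise
open Cfsg

namespace Cfsg.Agent.S1557

open scoped Pointwise
open Cfsg.Agent.Lib.Helper3.Golay
open Cfsg.Agent.S1565 (ncard_octad_inter cnt65_0)
open Cfsg.Agent.S1566 (univ_mem_supports)

theorem compl_union_mem_octads {o o' : Finset GolayPt} (ho : o ∈ octads) (ho' : o' ∈ octads)
    (hd : Disjoint o o') : (o ∪ o')ᶜ ∈ octads := by
  refine ⟨?_, ?_⟩
  · have h1 := symmDiff_mem_supports ho.1 ho'.1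
    have h2 := symmDiff_mem_supports h1 univ_mem_supports
    have e : symmDiff (symmDiff o o') Finset.univ = (o ∪ o')ᶜ := by
      ext p
      have := @Finset.disjoint_left _ o o'
      have := (this.mp hd) (a := p)
      simp only [Finset.mem_symmDiff, Finset.mem_univ, Finset.mem_compl, Finset.mem_union]
      tauto
    rw [← e]; exact h2
  · rw [Finset.card_compl, Finset.card_union_of_disjoint hd, ho.2, ho'.2]
    simp only [card_pts]

/-- the trio through two disjoint octads -/
def trioOf (x : Finset GolayPt × Finset GolayPt) : Finset (Finset GolayPt) :=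
  {x.1, x.2, (x.1 ∪ x.2)ᶜ}

theorem octad_ne_of_disjoint {o o' : Finset GolayPt} (ho : o ∈ octads) (hd : Disjoint o o') : o ≠ o' := by
  rintro rfl
  rw [disjoint_self, Finset.bot_eq_empty] at hd
  have := ho.2
  rw [hd] at this
  simp at this

theorem trioOf_mem {x : Finset GolayPt × Finset GolayPt} (h1 : x.1 ∈ octads) (h2 : x.2 ∈ octads)
    (hd : Disjoint x.1 x.2) : trioOf x ∈ trios := by
  have h3 := compl_union_mem_octads h1 h2 hd
  have d13 : Disjoint x.1 (x.1 ∪ x.2)ᶜ := by
    rw [Finset.disjoint_left]
    intro p hp hp'
    rw [Finset.mem_compl, Finset.mem_union] at hp'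
    exact hp' (Or.inl hp)
  have d23 : Disjoint x.2 (x.1 ∪ x.2)ᶜ := by
    rw [Finset.disjoint_left]
    intro p hp hp'
    rw [Finset.mem_compl, Finset.mem_union] at hp'
    exact hp' (Or.inr hp)
  refine ⟨?_, ?_, ?_⟩
  · unfold trioOf
    rw [Finset.card_insert_of_notMem, Finset.card_insert_of_notMem, Finset.card_singleton]
    · rw [Finset.mem_singleton]; exact octad_ne_of_disjoint h2 d23
    · rw [Finset.mem_insert, Finset.mem_singleton, not_or]
      exact ⟨octad_ne_of_disjoint h1 hd, octad_ne_of_disjoint h1 d13⟩
  · intro o ho
    unfold trioOf at ho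
    simp only [Finset.mem_insert, Finset.mem_singleton] at ho
    rcases ho with rfl | rfl | rfl
    · exact h1
    · exact h2
    · exact h3
  · intro o ho o' ho' hne
    unfold trioOf at ho ho'
    simp only [Finset.mem_insert, Finset.mem_singleton] at ho ho'
    rcases ho with rfl | rfl | rfl <;> rcases ho' with rfl | rfl | rfl
    · exact absurd rfl hne
    · exact hd
    · exact d13
    · exact hd.symm
    · exact absurd rfl hne
    · exact d23
    · exact d13.symm
    · exact d23.symm
    · exact absurd rfl hne

/-- The complement of the union of two disjoint octads is an octad, and the code has exactly 3795 trios of pairwise disjoint octads. -/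
theorem result : (∀ o o' : Finset Cfsg.GolayPt, o ∈ Cfsg.octads → o' ∈ Cfsg.octads → Disjoint o o' → (o ∪ o')ᶜ ∈ Cfsg.octads) ∧ Cfsg.trios.ncard = 3795 := by
  classical
  refine ⟨fun o o' ho ho' hd => compl_union_mem_octads ho ho' hd, ?_⟩
  set O := octads_finite.toFinset with hO
  have memO : ∀ o, o ∈ O ↔ o ∈ octads := fun o => Set.Finite.mem_toFinset _
  have hOcard : O.card = 759 := by
    rw [← ncard_octads, Set.ncard_eq_toFinset_card _ octads_finite]
  set Tr := (Set.toFinite trios).toFinset with hTr
  have memTr : ∀ T, T ∈ Tr ↔ T ∈ trios := fun T => Set.Finite.mem_toFinset _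
  rw [Set.ncard_eq_toFinset_card _ (Set.toFinite trios)]
  set P := (O ×ˢ O).filter (fun x => Disjoint x.1 x.2) with hP
  -- the number of ordered pairs of disjoint octads
  have hPcard : P.card = 759 * 30 := by
    rw [hP, Finset.card_filter, Finset.sum_product]
    have : ∀ o ∈ O, (∑ o' ∈ O, if Disjoint (o, o').1 (o, o').2 then 1 else 0) = 30 := by
      intro o ho
      rw [← Finset.card_filter, ← cnt65_0, ← ncard_octad_inter ((memO o).mp ho) 0,
        ← Set.ncard_coe_finset]
      congr 1
      ext o'
      simp only [Finset.coe_filter, Set.mem_ofPred_eq, memO, Finset.card_eq_zero,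
        Finset.disjoint_iff_inter_eq_empty]
    rw [Finset.sum_congr rfl this, Finset.sum_const, hOcard]
    rfl
  have hmaps : Set.MapsTo trioOf (P : Set (Finset GolayPt × Finset GolayPt)) (Tr : Finset _) := by
    intro x hx
    rw [Finset.mem_coe, hP, Finset.mem_filter, Finset.mem_product] at hx
    rw [Finset.mem_coe, memTr]
    exact trioOf_mem ((memO _).mp hx.1.1) ((memO _).mp hx.1.2) hx.2
  have hfib : ∀ T ∈ Tr, (P.filter (fun x => trioOf x = T)).card = 6 := by
    intro T hT
    have hT' := (memTr T).mp hT
    have : P.filter (fun x => trioOf x = T) = T.offDiag := by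
      ext x
      rw [Finset.mem_filter, Finset.mem_offDiag, hP, Finset.mem_filter, Finset.mem_product]
      constructor
      · rintro ⟨⟨⟨h1, h2⟩, hd⟩, rfl⟩
        refine ⟨?_, ?_, octad_ne_of_disjoint ((memO _).mp h1) hd⟩
        · unfold trioOf; simp
        · unfold trioOf; simp
      · rintro ⟨h1, h2, hne⟩
        have o1 := hT'.2.1 _ h1
        have o2 := hT'.2.1 _ h2
        have hd := hT'.2.2 _ h1 _ h2 hne
        refine ⟨⟨⟨(memO _).mpr o1, (memO _).mpr o2⟩, hd⟩, ?_⟩
        symm
        apply Finset.eq_of_subset_of_card_le
        · intro y hy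
          unfold trioOf
          simp only [Finset.mem_insert, Finset.mem_singleton]
          by_cases e1 : y = x.1
          · exact Or.inl e1
          · by_cases e2 : y = x.2
            · exact Or.inr (Or.inl e2)
            · right; right
              have d1 := hT'.2.2 _ hy _ h1 e1
              have d2 := hT'.2.2 _ hy _ h2 e2
              apply Finset.eq_of_subset_of_card_le
              · intro p hp
                rw [Finset.mem_compl, Finset.mem_union]
                rintro (h | h)
                · exact Finset.disjoint_left.mp d1 hp h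
                · exact Finset.disjoint_left.mp d2 hp h
              · rw [(compl_union_mem_octads o1 o2 hd).2, (hT'.2.1 _ hy).2]
        · rw [hT'.1]
          unfold trioOf
          exact Finset.card_le_three
    rw [this, Finset.offDiag_card, hT'.1]
  have := Finset.card_eq_sum_card_fiberwise hmaps
  rw [Finset.sum_congr rfl hfib, Finset.sum_const, hPcard, smul_eq_mul] at this
  show Tr.card = 3795
  omega

end Cfsg.Agent.S1557
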