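import Cfsg.Statements.S5025
import Cfsg.Agent.Lib.Helper25.RootSetTI
-- import your own Cfsg.Agent.* helpers here

set_option autoImplicit false
open Cfsg

namespace Cfsg.Agent.S5025

open Cfsg.Agent.Lib.Helper25

/-- Let S be a set of abstract root subgroups of G, A ∈ S and B a rank one partner of A in S. If z ≠ 1 centralizes ⟨A, B⟩, then no product z a with a a non-identity element of A is a non-identity element of a member of S. -/
theorem result {G : Type*} [Group G] {S : Set (Subgroup G)} (hS : Cfsg.IsRootSubgroupSet S)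
    {A B : Subgroup G} (hA : A ∈ S) (hB : B ∈ Cfsg.rankOnePartners S A) {z : G}
    (hz : z ∈ Subgroup.centralizer ((A ⊔ B : Subgroup G) : Set G)) (hz1 : z ≠ 1) :
    ∀ a ∈ A, a ≠ 1 → z * a ∉ Cfsg.rootElements S := by
  obtain ⟨hBS, hAB⟩ := hB
  intro a ha ha1 hmem
  obtain ⟨he1, E, hE, heE⟩ := hmem
  have hzc : ∀ x ∈ A ⊔ B, x * z = z * x := by
    intro x hx
    rw [Subgroup.mem_centralizer_iff] at hz
    exact hz x hx
  have hzA : ∀ x ∈ A, x * z = z * x := fun x hx => hzc x (Subgroup.mem_sup_left hx)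
  have hzB : ∀ x ∈ B, x * z = z * x := fun x hx => hzc x (Subgroup.mem_sup_right hx)
  have hzNB : z ∈ Subgroup.normalizer (B : Set G) :=
    mem_normalizer_of_comm (fun y hy => (hzB y hy).symm)
  have hzNA : z ∈ Subgroup.normalizer (A : Set G) :=
    mem_normalizer_of_comm (fun y hy => (hzA y hy).symm)
  rcases hS.pair E hE B hBS with h1 | h1 | h1
  · rw [commutator_eq_bot_iff_commute] at h1
    apply ha1
    apply rankOne_eq_one_of_mem_normalizer hAB ha
    apply mem_normalizer_of_comm
    intro b hb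
    have h2 := h1 _ heE b hb
    -- z a b = b z a = z b a
    have h3 : z * (a * b) = z * (b * a) := by
      rw [← mul_assoc, h2, ← mul_assoc, hzB b hb, mul_assoc]
    exact mul_left_cancel h3
  · obtain ⟨b, hb, _, hAb⟩ := hAB.cond_left a ha ha1
    obtain ⟨b', hb', _, hEb'⟩ := h1.cond_left _ heE he1
    have h2 : conjBy B (z * a)⁻¹ = conjBy B a⁻¹ := by
      rw [mul_inv_rev, conjBy_mul,
        conjBy_eq_self_iff.2 ((Subgroup.normalizer (B : Set G)).inv_mem hzNB)]
    have h3 : conjBy A b⁻¹ = conjBy E b'⁻¹ := by rw [hAb, hEb', h2]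
    have hmemE : E ∈ unipotentSubgroups A B := by
      refine ⟨b' * b⁻¹, (A ⊔ B).mul_mem (Subgroup.mem_sup_right hb')
        (Subgroup.mem_sup_right (B.inv_mem hb)), ?_⟩
      rw [conjBy_mul, h3, conjBy_inv_conjBy]
    by_cases hEA : E = A
    · -- then z ∈ A normalizes B
      apply hz1
      have hzmem : z ∈ A := by
        have : z * a * a⁻¹ ∈ A := A.mul_mem (hEA ▸ heE) (A.inv_mem ha)
        simpa using this
      exact rankOne_eq_one_of_mem_normalizer hAB hzmem hzNB
    · have hp := (rankOne_pair_of_mem hAB hmemE (self_mem_unipotentSubgroups A B) hEA).1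
      apply he1
      apply rankOne_eq_one_of_mem_normalizer hp heE
      exact (Subgroup.normalizer (A : Set G)).mul_mem hzNA (Subgroup.le_normalizer ha)
  · apply rankOne_no_normalizing_commutators hAB ha ha1
    intro b hb
    have h2 := rootCommutatorCase_commutator_mem_normalizer h1 heE hb
    have hcomm : (a * b * a⁻¹) * z = z * (a * b * a⁻¹) :=
      hzc _ ((A ⊔ B).mul_mem ((A ⊔ B).mul_mem (Subgroup.mem_sup_left ha) (Subgroup.mem_sup_right hb))
        (Subgroup.mem_sup_left (A.inv_mem ha)))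
    have h3 : z * a * b * (z * a)⁻¹ * b⁻¹ = a * b * a⁻¹ * b⁻¹ := by
      have e1 : z * a * b * (z * a)⁻¹ * b⁻¹ = z * (a * b * a⁻¹) * z⁻¹ * b⁻¹ := by group
      rw [e1, ← hcomm]
      group
    rwa [h3] at h2

end Cfsg.Agent.S5025
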