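import Cfsg.Statements.S1780
-- import your own Cfsg.Agent.* helpers here

set_option autoImplicit false
open Cfsg

namespace Cfsg.Agent.S1780

/-- powers of `t` commute with `t` pointwise -/
theorem pow_comm_apply {A : Type*} [CommGroup A] (t : MulAut A) (n : ℕ) (a : A) :
    (t ^ n) (t a) = t ((t ^ n) a) := by
  have h : (t ^ n) * t = t * (t ^ n) := (Commute.pow_self t n).eq
  have := congrArg (fun f : MulAut A => f a) h
  simpa [MulAut.mul_apply] using this

/-- Stage 1: on elements of exponent two. -/
theorem stage_one {A : Type*} [CommGroup A]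
    (t : MulAut A) (hC : ∀ a : A, t (t a) = a → t a = a) :
    ∀ j : ℕ, ∀ a : A, a ^ 2 = 1 → (t ^ (2 ^ (j + 1))) a = a → t a = a := by
  intro j
  induction j with
  | zero =>
    intro a _ h
    apply hC
    have : (t ^ (2 ^ (0 + 1))) a = t (t a) := by
      simp [pow_succ, MulAut.mul_apply]
    rw [← this]; exact h
  | succ j ih =>
    intro a ha h
    set u : MulAut A := t ^ (2 ^ (j + 1)) with hu
    have huu : u (u a) = a := by
      have : t ^ (2 ^ (j + 1 + 1)) = u * u := by
        rw [hu, ← pow_add]; congr 1; ring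
      rw [this, MulAut.mul_apply] at h
      exact h
    have hut : ∀ x : A, u (t x) = t (u x) := fun x => pow_comm_apply t _ x
    -- b = a * u a is fixed by u
    have hb2 : (a * u a) ^ 2 = 1 := by
      rw [mul_pow, ← map_pow, ha, map_one, mul_one]
    have hub : u (a * u a) = a * u a := by
      rw [map_mul, huu, mul_comm]
    have htb : t (a * u a) = a * u a := ih _ hb2 hub
    -- c = a * t a
    have hc2 : (a * t a) ^ 2 = 1 := by
      rw [mul_pow, ← map_pow, ha, map_one, mul_one]
    have huc : u (a * t a) = a * t a := by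
      -- c * u c = b * t b = b * b = 1
      have h1 : (a * t a) * u (a * t a) = 1 := by
        have : (a * t a) * u (a * t a) = (a * u a) * t (a * u a) := by
          rw [map_mul, map_mul, hut]
          simp only [mul_comm, mul_left_comm]
        rw [this, htb, ← pow_two, hb2]
      have h2 : u (a * t a) = (a * t a)⁻¹ := by
        rw [eq_inv_iff_mul_eq_one, mul_comm]; exact h1
      have h3 : (a * t a)⁻¹ = a * t a := by
        rw [inv_eq_iff_mul_eq_one, ← pow_two]; exact hc2
      rw [h2, h3]
    have htc : t (a * t a) = a * t a := ih _ hc2 huc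
    apply hC
    have : t a * t (t a) = t a * a := by
      rw [← map_mul, htc, mul_comm]
    exact mul_left_cancel this

/-- Stage 2: induction on the exponent. -/
theorem stage_two {A : Type*} [CommGroup A]
    (t : MulAut A) (hC : ∀ a : A, t (t a) = a → t a = a)
    (h1 : ∀ a : A, a ^ 2 = 1 → t a = a) :
    ∀ n : ℕ, ∀ a : A, a ^ (2 ^ n) = 1 → t a = a := by
  intro n
  induction n with
  | zero => intro a ha; simp at ha; subst ha; exact map_one t
  | succ n ih =>
    intro a ha
    have ha2 : (a ^ 2) ^ (2 ^ n) = 1 := by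
      rw [← pow_mul, ← pow_succ']; exact ha
    have hta2 : t (a ^ 2) = a ^ 2 := ih _ ha2
    -- e = a⁻¹ * t a has square one
    have he2 : (a⁻¹ * t a) ^ 2 = 1 := by
      rw [mul_pow, ← map_pow, hta2, inv_pow, inv_mul_cancel]
    have hte : t (a⁻¹ * t a) = a⁻¹ * t a := h1 _ he2
    apply hC
    -- t (t a) = t (a * e) = t a * e = a * e * e = a
    have hta : t a = a * (a⁻¹ * t a) := by rw [mul_inv_cancel_left]
    calc t (t a) = t (a * (a⁻¹ * t a)) := by rw [← hta]
      _ = t a * (a⁻¹ * t a) := by rw [map_mul, hte]
      _ = a * (a⁻¹ * t a) ^ 2 := by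
        rw [pow_two, ← mul_assoc a, ← hta]
      _ = a := by rw [he2, mul_one]

/-- Let A be a finite abelian 2-group and t an automorphism of A whose order is a power of 2. If every element of A fixed by t² is fixed by t, then t fixes every element of A. -/
theorem result {A : Type*} [CommGroup A] [Finite A]
    (hA : IsPGroup 2 A) (t : MulAut A) (ht : ∃ k : ℕ, orderOf t = 2 ^ k) (hC : ∀ a : A, t (t a) = a → t a = a) :
    ∀ a : A, t a = a := by
  obtain ⟨k, hk⟩ := ht
  have htk : t ^ (2 ^ k) = 1 := by rw [← hk]; exact pow_orderOf_eq_one t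
  have h1 : ∀ a : A, a ^ 2 = 1 → t a = a := by
    intro a ha
    rcases Nat.eq_zero_or_pos k with h0 | hpos
    · subst h0
      have : t = 1 := by simpa using htk
      rw [this]; rfl
    · obtain ⟨j, rfl⟩ : ∃ j, k = j + 1 := ⟨k - 1, by omega⟩
      apply stage_one t hC j a ha
      rw [htk]; rfl
  intro a
  obtain ⟨n, hn⟩ := hA a
  exact stage_two t hC h1 n a hn

end Cfsg.Agent.S1780
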