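import Cfsg.Statements.S0233
import Mathlib

set_option autoImplicit false
open Cfsg

namespace Cfsg.Agent.S0233

variable {G : Type*} [Group G]

/-- the extended centralizer `C*(x)` -/
def extCent (x : G) : Subgroup G where
  carrier := {h | h * x * h⁻¹ = x ∨ h * x * h⁻¹ = x⁻¹}
  one_mem' := by left; simp
  mul_mem' := by
    intro a b ha hb
    have e : a * b * x * (a * b)⁻¹ = a * (b * x * b⁻¹) * a⁻¹ := by group
    rcases hb with hb | hb <;> rcases ha with ha | ha
    · left; rw [e, hb, ha]
    · right; rw [e, hb, ha]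
    · right; rw [e, hb]
      have : a * x⁻¹ * a⁻¹ = (a * x * a⁻¹)⁻¹ := by group
      rw [this, ha]
    · left; rw [e, hb]
      have : a * x⁻¹ * a⁻¹ = (a * x * a⁻¹)⁻¹ := by group
      rw [this, ha, inv_inv]
  inv_mem' := by
    intro a ha
    rcases ha with ha | ha
    · left
      have : a⁻¹ * x * a⁻¹⁻¹ = a⁻¹ * (a * x * a⁻¹) * a := by rw [ha]; group
      rw [this]; group
    · right
      have h1 : a * x⁻¹ * a⁻¹ = x := by
        have : a * x⁻¹ * a⁻¹ = (a * x * a⁻¹)⁻¹ := by group
        rw [this, ha, inv_inv]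
      have : a⁻¹ * x * a⁻¹⁻¹ = a⁻¹ * (a * x⁻¹ * a⁻¹) * a := by rw [h1]; group
      rw [this]; group

theorem mem_extCent (x h : G) : h ∈ extCent x ↔ (h * x * h⁻¹ = x ∨ h * x * h⁻¹ = x⁻¹) := Iff.rfl

theorem mem_cent_iff (x h : G) : h ∈ Subgroup.centralizer ({x} : Set G) ↔ h * x * h⁻¹ = x := by
  rw [Subgroup.mem_centralizer_iff]
  constructor
  · intro hh
    have := hh x rfl
    rw [← this]; group
  · intro hh y hy
    rw [Set.mem_singleton_iff] at hy
    subst hy
    have : h * y = (h * y * h⁻¹) * h := by group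
    rw [this, hh]

theorem cent_le_extCent (x : G) : Subgroup.centralizer ({x} : Set G) ≤ extCent x := by
  intro h hh
  exact Or.inl ((mem_cent_iff x h).mp hh)

theorem extCent_eq_cent (x : G) (hx : x⁻¹ = x) : extCent x = Subgroup.centralizer ({x} : Set G) := by
  ext h
  rw [mem_extCent, mem_cent_iff, hx, or_self]

theorem relIndex_extCent (x g : G) (hne : x ≠ x⁻¹) (hg : g * x * g⁻¹ = x⁻¹) :
    (Subgroup.centralizer ({x} : Set G)).relIndex (extCent x) = 2 := by
  rw [Subgroup.relIndex_eq_two_iff]
  refine ⟨g, Or.inr hg, ?_⟩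
  intro b hb
  have e : b * g * x * (b * g)⁻¹ = b * (g * x * g⁻¹) * b⁻¹ := by group
  rcases hb with hb | hb
  · refine Or.inr ⟨(mem_cent_iff x b).mpr hb, ?_⟩
    rw [mem_cent_iff, e, hg]
    have : b * x⁻¹ * b⁻¹ = (b * x * b⁻¹)⁻¹ := by group
    rw [this, hb]
    exact fun h => hne h.symm
  · refine Or.inl ⟨?_, ?_⟩
    · rw [mem_cent_iff, e, hg]
      have : b * x⁻¹ * b⁻¹ = (b * x * b⁻¹)⁻¹ := by group
      rw [this, hb, inv_inv]
    · rw [mem_cent_iff, hb]
      exact fun h => hne h.symm


section counting

variable [Fintype G] [DecidableEq G]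

/-- the involutions -/
noncomputable def invs (G : Type*) [Group G] [Fintype G] [DecidableEq G] : Finset G :=
  Finset.univ.filter (fun t => orderOf t = 2)

theorem mem_invs (t : G) : t ∈ invs G ↔ orderOf t = 2 := by
  simp [invs]

theorem inv_of_mem_invs {t : G} (ht : t ∈ invs G) : t⁻¹ = t := by
  rw [mem_invs] at ht
  have h2 : t ^ 2 = 1 := by rw [← ht]; exact pow_orderOf_eq_one t
  rw [pow_two] at h2
  exact inv_eq_of_mul_eq_one_left h2

theorem ne_one_of_mem_invs {t : G} (ht : t ∈ invs G) : t ≠ 1 := by
  rw [mem_invs] at ht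
  intro h
  rw [h, orderOf_one] at ht
  omega

/-- pairs of involutions with product `x` -/
noncomputable def pairs (x : G) : Finset (G × G) :=
  (invs G ×ˢ invs G).filter (fun p => p.1 * p.2 = x)

theorem mem_pairs (x : G) (p : G × G) :
    p ∈ pairs x ↔ p.1 ∈ invs G ∧ p.2 ∈ invs G ∧ p.1 * p.2 = x := by
  simp [pairs, and_assoc]

theorem sum_card_pairs : ∑ x : G, (pairs x).card = (invs G).card ^ 2 := by
  rw [pow_two, ← Finset.card_product]
  exact (Finset.card_eq_sum_card_fiberwise (f := fun p : G × G => p.1 * p.2)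
    (fun p _ => Finset.mem_univ _)).symm

theorem card_pairs_one : (pairs (1 : G)).card = (invs G).card := by
  have : pairs (1 : G) = (invs G).image (fun u => (u, u)) := by
    ext ⟨u, v⟩
    rw [mem_pairs, Finset.mem_image]
    constructor
    · rintro ⟨hu, hv, h⟩
      refine ⟨u, hu, ?_⟩
      have : v = u⁻¹ := (inv_eq_of_mul_eq_one_right h).symm
      rw [this, inv_of_mem_invs hu]
    · rintro ⟨w, hw, h⟩
      obtain ⟨rfl, rfl⟩ := Prod.mk.inj h
      refine ⟨hw, hw, ?_⟩
      change w * w = 1
      have := inv_of_mem_invs hw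
      calc w * w = w⁻¹ * w := by rw [this]
        _ = 1 := inv_mul_cancel w
  rw [this, Finset.card_image_of_injective]
  intro a b h
  exact (Prod.mk.inj h).1

/-- the first member of a pair inverts the product -/
theorem pair_inverts {x : G} {p : G × G} (hp : p ∈ pairs x) : p.1 * x * p.1⁻¹ = x⁻¹ := by
  rw [mem_pairs] at hp
  obtain ⟨hu, hv, h⟩ := hp
  have hu' := inv_of_mem_invs hu
  have hv' := inv_of_mem_invs hv
  rw [← h, mul_inv_rev, hu', hv']
  have : p.1 * p.1 = 1 := by
    have := mul_inv_cancel p.1
    rwa [hu'] at this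
  calc p.1 * (p.1 * p.2) * p.1 = (p.1 * p.1) * p.2 * p.1 := by group
    _ = p.2 * p.1 := by rw [this, one_mul]

/-- for an involution `x`: `β(x) + 2 ≤ |C(x)|` -/
theorem card_pairs_invol {x : G} (hx : x ∈ invs G) :
    (pairs x).card + 2 ≤ Nat.card (Subgroup.centralizer ({x} : Set G)) := by
  have hxinv := inv_of_mem_invs hx
  have hx1 := ne_one_of_mem_invs hx
  let f : Option (Option {p // p ∈ pairs x}) → Subgroup.centralizer ({x} : Set G) := fun o =>
    match o with
    | none => ⟨1, Subgroup.one_mem _⟩
    | some none => ⟨x, by rw [mem_cent_iff]; group⟩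
    | some (some p) => ⟨p.1.1, by
        rw [mem_cent_iff, pair_inverts p.2, hxinv]⟩
  have hf : Function.Injective f := by
    intro a b hab
    have hval : (f a : G) = (f b : G) := congrArg Subtype.val hab
    have key1 : ∀ p : {p // p ∈ pairs x}, (p.1.1 : G) ≠ 1 := fun p =>
      ne_one_of_mem_invs ((mem_pairs x p.1).mp p.2).1
    have key2 : ∀ p : {p // p ∈ pairs x}, (p.1.1 : G) ≠ x := by
      intro p h
      obtain ⟨hu, hv, hprod⟩ := (mem_pairs x p.1).mp p.2
      rw [h] at hprod
      have : p.1.2 = 1 := by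
        have := mul_left_cancel (a := x) (b := p.1.2) (c := 1) (by rw [hprod, mul_one])
        exact this
      exact ne_one_of_mem_invs hv this
    have key3 : ∀ p q : {p // p ∈ pairs x}, (p.1.1 : G) = q.1.1 → p = q := by
      intro p q h
      obtain ⟨_, _, hp⟩ := (mem_pairs x p.1).mp p.2
      obtain ⟨_, _, hq⟩ := (mem_pairs x q.1).mp q.2
      apply Subtype.ext
      apply Prod.ext h
      have hpq' : (q.1.1 : G) * p.1.2 = q.1.1 * q.1.2 := by rw [hq, ← h]; exact hp
      exact mul_left_cancel hpq'
    match a, b with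
    | none, none => rfl
    | none, some none => exact absurd hval.symm hx1
    | none, some (some q) => exact absurd hval.symm (key1 q)
    | some none, none => exact absurd hval hx1
    | some none, some none => rfl
    | some none, some (some q) => exact absurd hval.symm (key2 q)
    | some (some p), none => exact absurd hval (key1 p)
    | some (some p), some none => exact absurd hval (key2 p)
    | some (some p), some (some q) => rw [key3 p q hval]
  have := Nat.card_le_card_of_injective f hf
  rw [Nat.card_eq_fintype_card, Fintype.card_option, Fintype.card_option, Fintype.card_coe] at this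
  exact this

/-- for `x` not an involution: `β(x) ≤ |C(x)|` -/
theorem card_pairs_le (x : G) :
    (pairs x).card ≤ Nat.card (Subgroup.centralizer ({x} : Set G)) := by
  by_cases hne : (pairs x).Nonempty
  · obtain ⟨p₀, hp₀⟩ := hne
    have h0 := pair_inverts hp₀
    let f : {p // p ∈ pairs x} → Subgroup.centralizer ({x} : Set G) := fun p =>
      ⟨p₀.1⁻¹ * p.1.1, by
        rw [mem_cent_iff]
        have h1 := pair_inverts p.2
        have : p₀.1⁻¹ * p.1.1 * x * (p₀.1⁻¹ * p.1.1)⁻¹ = p₀.1⁻¹ * (p.1.1 * x * p.1.1⁻¹) * p₀.1 := by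
          group
        rw [this, h1, ← h0]
        group⟩
    have hf : Function.Injective f := by
      intro p q hpq
      have hval : p₀.1⁻¹ * p.1.1 = p₀.1⁻¹ * q.1.1 := congrArg Subtype.val hpq
      have h : (p.1.1 : G) = q.1.1 := mul_left_cancel hval
      obtain ⟨_, _, hp⟩ := (mem_pairs x p.1).mp p.2
      obtain ⟨_, _, hq⟩ := (mem_pairs x q.1).mp q.2
      apply Subtype.ext
      apply Prod.ext h
      have hpq' : (q.1.1 : G) * p.1.2 = q.1.1 * q.1.2 := by rw [hq, ← h]; exact hp
      exact mul_left_cancel hpq'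
    have := Nat.card_le_card_of_injective f hf
    rw [Nat.card_eq_fintype_card, Fintype.card_coe] at this
    exact this
  · rw [Finset.not_nonempty_iff_eq_empty] at hne
    rw [hne, Finset.card_empty]
    exact Nat.zero_le _


/-- `idx x * (β x + 2) ≤ |G|` for an involution `x`. -/
theorem bound_invol {x : G} (hx : x ∈ invs G) :
    (extCent x).index * ((pairs x).card + 2) ≤ Nat.card G := by
  rw [extCent_eq_cent x (inv_of_mem_invs hx)]
  calc (Subgroup.centralizer ({x} : Set G)).index * ((pairs x).card + 2)
      ≤ (Subgroup.centralizer ({x} : Set G)).index * Nat.card (Subgroup.centralizer ({x} : Set G)) :=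
        Nat.mul_le_mul_left _ (card_pairs_invol hx)
    _ = Nat.card G := by rw [mul_comm]; exact Subgroup.card_mul_index _

/-- `2 * idx x * β x ≤ |G|` for a non-involution `x ≠ 1` with `β x ≠ 0`. -/
theorem bound_noninvol {x : G} (hx1 : x ≠ 1) (hx2 : orderOf x ≠ 2) (hβ : (pairs x).card ≠ 0) :
    2 * (extCent x).index * (pairs x).card ≤ Nat.card G ∧
      (Subgroup.centralizer ({x} : Set G)).relIndex (extCent x) = 2 := by
  have hne : x ≠ x⁻¹ := by
    intro h
    apply hx2
    have h2 : x ^ 2 = 1 := by
      rw [pow_two]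
      calc x * x = x * x⁻¹ := by rw [← h]
        _ = 1 := mul_inv_cancel x
    exact orderOf_eq_prime h2 hx1
  obtain ⟨p₀, hp₀⟩ := Finset.card_ne_zero.mp hβ
  have hrel := relIndex_extCent x p₀.1 hne (pair_inverts hp₀)
  refine ⟨?_, hrel⟩
  have hidx : (Subgroup.centralizer ({x} : Set G)).index = 2 * (extCent x).index := by
    rw [← Subgroup.relIndex_mul_index (cent_le_extCent x), hrel]
  calc 2 * (extCent x).index * (pairs x).card
      ≤ 2 * (extCent x).index * Nat.card (Subgroup.centralizer ({x} : Set G)) :=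
        Nat.mul_le_mul_left _ (card_pairs_le x)
    _ = Nat.card G := by rw [← hidx, mul_comm]; exact Subgroup.card_mul_index _


theorem core (hinv : (invs G).Nonempty) :
    ∃ x : G, x ≠ 1 ∧ (orderOf x = 2 ∨ (Subgroup.centralizer ({x} : Set G)).relIndex (extCent x) = 2) ∧
      2 * (extCent x).index * (invs G).card ^ 2 <
        Nat.card G * (Nat.card G + (invs G).card) := by
  set n := (invs G).card with hn
  set m := Nat.card G with hm
  let isR : G → Prop := fun x => x ≠ 1 ∧ orderOf x ≠ 2 ∧ (pairs x).card ≠ 0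
  let R : Finset G := Finset.univ.filter isR
  have hmemR : ∀ x, x ∈ R ↔ isR x := by intro x; simp [R]
  let T : Finset G := invs G ∪ R
  have hT : T.Nonempty := by
    obtain ⟨t, ht⟩ := hinv
    exact ⟨t, Finset.mem_union_left _ ht⟩
  obtain ⟨x₀, hx₀T, hmin⟩ := Finset.exists_min_image T (fun x => (extCent x).index) hT
  set h := (extCent x₀).index with hh
  -- pointwise bound
  have hpt : ∀ x : G, 2 * h * (pairs x).card + (if x ∈ invs G then 4 * h else 0) ≤
      (if x = 1 then 2 * h * n else 0) + (if x ∈ invs G then 2 * m else 0) +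
        (if x ∈ R then m else 0) := by
    intro x
    by_cases hx1 : x = 1
    · subst hx1
      have h1 : (1 : G) ∉ invs G := fun h => ne_one_of_mem_invs h rfl
      have h2 : (1 : G) ∉ R := by rw [hmemR]; exact fun h => h.1 rfl
      rw [if_neg h1, if_pos rfl, if_neg h1, if_neg h2, card_pairs_one]
    · by_cases hxI : x ∈ invs G
      · have hxR : x ∉ R := by
          rw [hmemR]; exact fun h => h.2.1 ((mem_invs x).mp hxI)
        rw [if_pos hxI, if_neg hx1, if_pos hxI, if_neg hxR]
        have b1 := bound_invol hxI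
        have b2 : h ≤ (extCent x).index := hmin x (Finset.mem_union_left _ hxI)
        have b3 : h * ((pairs x).card + 2) ≤ m :=
          le_trans (Nat.mul_le_mul_right _ b2) b1
        have : 2 * h * (pairs x).card + 4 * h = 2 * (h * ((pairs x).card + 2)) := by ring
        omega
      · by_cases hβ : (pairs x).card = 0
        · rw [hβ, if_neg hxI, if_neg hx1, if_neg hxI]
          omega
        · have hx2 : orderOf x ≠ 2 := fun h => hxI ((mem_invs x).mpr h)
          have hxR : x ∈ R := by rw [hmemR]; exact ⟨hx1, hx2, hβ⟩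
          rw [if_neg hxI, if_neg hx1, if_neg hxI, if_pos hxR]
          have b1 := (bound_noninvol hx1 hx2 hβ).1
          have b2 : h ≤ (extCent x).index := hmin x (Finset.mem_union_right _ hxR)
          have b3 : 2 * h * (pairs x).card ≤ 2 * (extCent x).index * (pairs x).card :=
            Nat.mul_le_mul_right _ (Nat.mul_le_mul_left _ b2)
          omega
  have hsum := Finset.sum_le_sum (s := Finset.univ) (fun x _ => hpt x)
  rw [Finset.sum_add_distrib, Finset.sum_add_distrib, Finset.sum_add_distrib, ← Finset.mul_sum,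
    sum_card_pairs, Finset.sum_ite_eq' Finset.univ (1 : G), if_pos (Finset.mem_univ _),
    Finset.sum_ite_mem, Finset.sum_ite_mem, Finset.sum_ite_mem, Finset.univ_inter,
    Finset.univ_inter, Finset.sum_const, Finset.sum_const, Finset.sum_const, smul_eq_mul,
    smul_eq_mul, smul_eq_mul, ← hn] at hsum
  -- disjointness count
  have hcard : R.card + n + 1 ≤ m := by
    have hd1 : Disjoint (invs G) R := by
      rw [Finset.disjoint_left]
      intro x hxI hxR
      exact ((hmemR x).mp hxR).2.1 ((mem_invs x).mp hxI)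
    have h1T : (1 : G) ∉ T := by
      intro h1
      rcases Finset.mem_union.mp h1 with h1 | h1
      · exact ne_one_of_mem_invs h1 rfl
      · exact ((hmemR 1).mp h1).1 rfl
    have : (insert (1 : G) T).card ≤ Finset.univ.card := Finset.card_le_univ _
    rw [Finset.card_insert_of_notMem h1T, Finset.card_union_of_disjoint hd1, Finset.card_univ,
      ← Nat.card_eq_fintype_card] at this
    omega
  have hmpos : 0 < m := Nat.card_pos
  have hfinal : 2 * h * n ^ 2 < m * (m + n) := by
    have e1 : m * (R.card + n + 1) ≤ m * m := Nat.mul_le_mul_left _ hcard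
    nlinarith [hsum, e1, hmpos]
  refine ⟨x₀, ?_, ?_, hfinal⟩
  · rcases Finset.mem_union.mp hx₀T with hx | hx
    · exact ne_one_of_mem_invs hx
    · exact ((hmemR x₀).mp hx).1
  · rcases Finset.mem_union.mp hx₀T with hx | hx
    · exact Or.inl ((mem_invs x₀).mp hx)
    · obtain ⟨a, b, c⟩ := (hmemR x₀).mp hx
      exact Or.inr (bound_noninvol a b c).2

end counting


/-- Let G be a finite group of even order with exactly n involutions whose centre has odd order, and put a = |G|/n. Then G has a proper subgroup H with |G : H| = 2 or |G : H| < a(a+1)/2; over ℕ the latter reads 2·|G:H|·n² < |G|·(|G| + n). -/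
theorem result {G : Type*} [Group G] [Finite G] (heven : Even (Nat.card G)) (hZ : Odd (Nat.card (Subgroup.center G))) : ∃ H : Subgroup G, H ≠ ⊤ ∧ (H.index = 2 ∨ 2 * H.index * (Nat.card {t : G // orderOf t = 2}) ^ 2 < Nat.card G * (Nat.card G + Nat.card {t : G // orderOf t = 2})) := by
  classical
  have : Fintype G := Fintype.ofFinite G
  have hcardI : Nat.card {t : G // orderOf t = 2} = (invs G).card := by
    rw [Nat.card_eq_fintype_card, Fintype.card_subtype]
    rfl
  rw [hcardI]
  have hinv : (invs G).Nonempty := by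
    have : Fact (Nat.Prime 2) := ⟨Nat.prime_two⟩
    obtain ⟨t, ht⟩ := exists_prime_orderOf_dvd_card' (G := G) 2 (even_iff_two_dvd.mp heven)
    exact ⟨t, (mem_invs t).mpr ht⟩
  obtain ⟨x, hx1, hx, hlt⟩ := core hinv
  by_cases htop : extCent x = ⊤
  · rcases hx with hx | hx
    · exfalso
      have hxI : x ∈ invs G := (mem_invs x).mpr hx
      rw [extCent_eq_cent x (inv_of_mem_invs hxI)] at htop
      have hxc : x ∈ Subgroup.center G := by
        rw [Subgroup.mem_center_iff]
        intro g
        have hg : g ∈ Subgroup.centralizer ({x} : Set G) := by rw [htop]; exact Subgroup.mem_top g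
        rw [Subgroup.mem_centralizer_iff] at hg
        exact (hg x rfl).symm
      have h2 : orderOf (⟨x, hxc⟩ : Subgroup.center G) = 2 := by
        rw [← hx]
        exact Subgroup.orderOf_mk x hxc
      have hdvd : 2 ∣ Nat.card (Subgroup.center G) := by
        rw [← h2]; exact orderOf_dvd_natCard _
      exact (Nat.not_even_iff_odd.mpr hZ) (even_iff_two_dvd.mpr hdvd)
    · rw [htop, Subgroup.relIndex_top_right] at hx
      refine ⟨Subgroup.centralizer ({x} : Set G), ?_, Or.inl hx⟩
      intro h
      rw [h, Subgroup.index_top] at hx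
      omega
  · exact ⟨extCent x, htop, Or.inr hlt⟩

end Cfsg.Agent.S0233
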