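import Cfsg.Statements.S0212
import Cfsg.Agent.S0233

set_option autoImplicit false
open Cfsg

namespace Cfsg.Agent.S0212

/-- In a simple group the action on the cosets of a proper subgroup is faithful. -/
theorem toPermHom_injective {G : Type*} [Group G] [IsSimpleGroup G] (H : Subgroup G)
    (hH : H ≠ ⊤) : Function.Injective (MulAction.toPermHom G (G ⧸ H)) := by
  rw [← MonoidHom.ker_eq_bot_iff, ← Subgroup.normalCore_eq_ker]
  rcases (H.normalCore_normal).eq_bot_or_eq_top with h | h
  · exact h
  · exact absurd (top_le_iff.mp (h ▸ H.normalCore_le)) hH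

theorem card_le_factorial_index {G : Type*} [Group G] [Finite G] [IsSimpleGroup G]
    (H : Subgroup G) (hH : H ≠ ⊤) : Nat.card G ≤ (H.index).factorial := by
  have := Nat.card_le_card_of_injective _ (toPermHom_injective H hH)
  rwa [Nat.card_perm, ← Subgroup.index_eq_card] at this

/-- `|G| ≤ (#involutions) * |C(t)|` for an involution `t`. -/
theorem card_le_invs_mul_cent {G : Type*} [Group G] [Finite G] (t : G) (ht : orderOf t = 2) :
    Nat.card G ≤ Nat.card {s : G // orderOf s = 2} *
      Nat.card (Subgroup.centralizer ({t} : Set G)) := by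
  let C := Subgroup.centralizer ({t} : Set G)
  let f : G ⧸ C → {s : G // orderOf s = 2} := fun q =>
    Quotient.liftOn' q (fun g => ⟨g * t * g⁻¹, by
      have := (MulAut.conj g).orderOf_eq t
      rw [MulAut.conj_apply] at this
      rw [this, ht]⟩) (by
      intro a b hab
      rw [QuotientGroup.leftRel_apply] at hab
      have hab' := (Cfsg.Agent.S0233.mem_cent_iff t (a⁻¹ * b)).mp hab
      apply Subtype.ext
      change a * t * a⁻¹ = b * t * b⁻¹
      have : b * t * b⁻¹ = a * ((a⁻¹ * b) * t * (a⁻¹ * b)⁻¹) * a⁻¹ := by group
      rw [this, hab'])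
  have hf : Function.Injective f := by
    intro q₁ q₂
    induction q₁ using QuotientGroup.induction_on with | _ a => ?_
    induction q₂ using QuotientGroup.induction_on with | _ b => ?_
    intro h
    have h' : a * t * a⁻¹ = b * t * b⁻¹ := congrArg Subtype.val h
    rw [QuotientGroup.eq]
    change a⁻¹ * b ∈ Subgroup.centralizer ({t} : Set G)
    rw [Cfsg.Agent.S0233.mem_cent_iff]
    have : a⁻¹ * b * t * (a⁻¹ * b)⁻¹ = a⁻¹ * (b * t * b⁻¹) * a := by group
    rw [this, ← h']
    group
  have h1 := Nat.card_le_card_of_injective f hf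
  rw [← Subgroup.index_eq_card] at h1
  calc Nat.card G = Nat.card C * C.index := (Subgroup.card_mul_index C).symm
    _ ≤ Nat.card C * Nat.card {s : G // orderOf s = 2} := Nat.mul_le_mul_left _ h1
    _ = _ := mul_comm _ _


/-- The Brauer–Fowler bound: if G is a finite simple group and t an involution of G whose centralizer has order n, then |G| ≤ (2n^2)!. -/
theorem result {G : Type*} [Group G] [Finite G] [IsSimpleGroup G] (t : G) (ht : orderOf t = 2) : Nat.card G ≤ Nat.factorial (2 * (Nat.card (Subgroup.centralizer ({t} : Set G))) ^ 2) := by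
  set c := Nat.card (Subgroup.centralizer ({t} : Set G)) with hc
  have hcpos : 0 < c := Nat.card_pos
  by_cases hcomm : ∀ a b : G, a * b = b * a
  · have htop : Subgroup.centralizer ({t} : Set G) = ⊤ := by
      rw [eq_top_iff]
      intro g _
      rw [Subgroup.mem_centralizer_iff]
      intro x _
      exact hcomm x g
    have hcm : c = Nat.card G := by rw [hc, htop, Subgroup.card_top]
    rw [hcm]
    have h1 : Nat.card G ≤ 2 * Nat.card G ^ 2 := by nlinarith [Nat.card_pos (α := G)]
    exact le_trans h1 (Nat.self_le_factorial _)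
  · have hcenter : Subgroup.center G = ⊥ := by
      rcases (inferInstance : (Subgroup.center G).Normal).eq_bot_or_eq_top with h | h
      · exact h
      · exfalso
        apply hcomm
        intro a b
        have hb : b ∈ Subgroup.center G := by rw [h]; exact Subgroup.mem_top b
        exact ((Subgroup.mem_center_iff.mp hb) a)
    have hZ : Odd (Nat.card (Subgroup.center G)) := by
      rw [hcenter, Subgroup.card_bot]; exact odd_one
    have heven : Even (Nat.card G) := by
      rw [even_iff_two_dvd, ← ht]; exact orderOf_dvd_natCard t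
    obtain ⟨H, hH, h2 | hlt⟩ := Cfsg.Agent.S0233.result heven hZ
    · have h1 := card_le_factorial_index H hH
      rw [h2] at h1
      have h3 : 2 ≤ 2 * c ^ 2 := by nlinarith
      calc Nat.card G ≤ 2 := h1
        _ ≤ 2 * c ^ 2 := h3
        _ ≤ _ := Nat.self_le_factorial _
    · have h1 := card_le_factorial_index H hH
      have hk := card_le_invs_mul_cent t ht
      rw [← hc] at hk
      set n := Nat.card {s : G // orderOf s = 2} with hn
      set m := Nat.card G with hm
      have hnpos : 0 < n := by
        rw [hn]
        have : Nonempty {s : G // orderOf s = 2} := ⟨⟨t, ht⟩⟩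
        exact Nat.card_pos
      have h4 : m * (m + n) ≤ n ^ 2 * (c * (c + 1)) := by
        calc m * (m + n) ≤ (n * c) * (n * c + n) :=
              Nat.mul_le_mul hk (Nat.add_le_add_right hk n)
          _ = n ^ 2 * (c * (c + 1)) := by ring
      have h5 : n ^ 2 * (2 * H.index) < n ^ 2 * (c * (c + 1)) := by
        calc n ^ 2 * (2 * H.index) = 2 * H.index * n ^ 2 := by ring
          _ < m * (m + n) := hlt
          _ ≤ _ := h4
      have h6 : 2 * H.index < c * (c + 1) := Nat.lt_of_mul_lt_mul_left h5
      have h7 : H.index ≤ 2 * c ^ 2 := by nlinarith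
      exact le_trans h1 (Nat.factorial_le h7)

end Cfsg.Agent.S0212
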