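import Cfsg.Statements.S0034
-- import your own Cfsg.Agent.* helpers here
import Mathlib
import Cfsg.Agent.Lib.Helper1.Basic
import Cfsg.Agent.Lib.Helper19.Derangement

set_option autoImplicit false
open Cfsg

namespace Cfsg.Agent.S0034

open Cfsg.Agent.Lib.Helper1 Subgroup
open Pointwise

theorem compl_card {G : Type*} [Group G] [Finite G] (H : Subgroup G)
    (hH : Cfsg.IsFrobeniusComplement H) :
    Nat.card ((Cfsg.frobeniusKernel H)ᶜ : Set G) = H.index * (Nat.card H - 1) := by
  classical
  obtain ⟨-, -, hF⟩ := hH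
  have hmemc : ∀ x : G, x ∈ (Cfsg.frobeniusKernel H)ᶜ ↔ x ≠ 1 ∧ ∃ g : G, x ∈ MulAut.conj g • H := by
    intro x
    simp only [Cfsg.frobeniusKernel, Set.mem_compl_iff, Set.mem_setOf_eq, not_or, not_forall,
      not_not]
  -- the parametrisation
  let Ψ : (G ⧸ H) × {y : H // y ≠ 1} → ((Cfsg.frobeniusKernel H)ᶜ : Set G) := fun p =>
    ⟨p.1.out * (p.2.1 : G) * p.1.out⁻¹, by
      rw [hmemc]
      refine ⟨?_, p.1.out, ?_⟩
      · intro h
        apply p.2.2
        apply Subtype.ext
        have : (p.2.1 : G) = p.1.out⁻¹ * (p.1.out * (p.2.1 : G) * p.1.out⁻¹) * p.1.out := by group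
        rw [this, h]; simp
      · rw [mem_conj_smul_iff]
        have : p.1.out⁻¹ * (p.1.out * (p.2.1 : G) * p.1.out⁻¹) * p.1.out = (p.2.1 : G) := by group
        rw [this]; exact p.2.1.2⟩
  have hinj : Function.Injective Ψ := by
    rintro ⟨c, y, hy⟩ ⟨c', y', hy'⟩ h
    have hx : c.out * (y : G) * c.out⁻¹ = c'.out * (y' : G) * c'.out⁻¹ := congrArg Subtype.val h
    have hg : c.out⁻¹ * c'.out ∈ H := by
      by_contra hg
      have h1 : (y : G) ∈ H ⊓ MulAut.conj (c.out⁻¹ * c'.out) • H := by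
        refine ⟨y.2, ?_⟩
        show (y : G) ∈ MulAut.conj (c.out⁻¹ * c'.out) • H
        rw [mem_conj_smul_iff]
        have e : (c.out⁻¹ * c'.out)⁻¹ * (y : G) * (c.out⁻¹ * c'.out) =
            c'.out⁻¹ * (c.out * (y : G) * c.out⁻¹) * c'.out := by group
        rw [e, hx]
        have e2 : c'.out⁻¹ * (c'.out * (y' : G) * c'.out⁻¹) * c'.out = (y' : G) := by group
        rw [e2]; exact y'.2
      rw [hF _ hg, Subgroup.mem_bot] at h1
      exact hy (Subtype.ext h1)
    have hcc : c = c' := by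
      rw [← QuotientGroup.out_eq' c, ← QuotientGroup.out_eq' c']
      exact QuotientGroup.eq.mpr hg
    subst hcc
    have hyy : (y : G) = y' := by
      have := congrArg (fun t => c.out⁻¹ * t * c.out) hx
      simpa [mul_assoc] using this
    have : y = y' := Subtype.ext hyy
    subst this
    rfl
  have hsurj : Function.Surjective Ψ := by
    rintro ⟨x, hx⟩
    obtain ⟨hx1, g, hxg⟩ := (hmemc x).mp hx
    rw [mem_conj_smul_iff] at hxg
    obtain ⟨h₀, hh₀⟩ := QuotientGroup.mk_out_eq_mul H g
    have hy : (h₀ : G)⁻¹ * (g⁻¹ * x * g) * h₀ ∈ H :=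
      H.mul_mem (H.mul_mem (H.inv_mem h₀.2) hxg) h₀.2
    have hy1 : (⟨_, hy⟩ : H) ≠ 1 := by
      intro h
      have h' : (h₀ : G)⁻¹ * (g⁻¹ * x * g) * h₀ = 1 := congrArg Subtype.val h
      apply hx1
      have : x = g * h₀ * ((h₀ : G)⁻¹ * (g⁻¹ * x * g) * h₀) * (g * h₀)⁻¹ := by group
      rw [this, h']; group
    refine ⟨⟨QuotientGroup.mk g, ⟨_, hy⟩, hy1⟩, ?_⟩
    apply Subtype.ext
    show (QuotientGroup.mk g : G ⧸ H).out * ((h₀ : G)⁻¹ * (g⁻¹ * x * g) * h₀) *
      (QuotientGroup.mk g : G ⧸ H).out⁻¹ = x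
    rw [hh₀]; group
  have hcard := Nat.card_congr (Equiv.ofBijective Ψ ⟨hinj, hsurj⟩)
  rw [← hcard, Nat.card_prod]
  have h1 : Nat.card {y : H // y ≠ 1} + 1 = Nat.card H := by
    rw [← Finite.card_option, Nat.card_congr (Equiv.optionSubtypeNe (1 : H))]
  have h2 : Nat.card {y : H // y ≠ 1} = Nat.card H - 1 := by omega
  rw [h2]; rfl

/-- For a Frobenius complement H, the set of elements lying in no conjugate of H, together with 1, has exactly as many elements as the index of H, and that index is congruent to 1 modulo the order of H. -/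
theorem result {G : Type*} [Group G] [Finite G] (H : Subgroup G) (hH : Cfsg.IsFrobeniusComplement H) :
    Nat.card (Cfsg.frobeniusKernel H) = H.index ∧ H.index % Nat.card H = 1 % Nat.card H := by
  classical
  have hc := compl_card H hH
  have hsum : Nat.card (Cfsg.frobeniusKernel H) + Nat.card ((Cfsg.frobeniusKernel H)ᶜ : Set G) =
      Nat.card G := by
    rw [← Nat.card_sum]
    exact Nat.card_congr (Equiv.Set.sumCompl (Cfsg.frobeniusKernel H))
  have hG : Nat.card H * H.index = Nat.card G := Subgroup.card_mul_index H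
  have hHpos : 0 < Nat.card H := Nat.card_pos
  have hipos : 0 < H.index := Nat.pos_of_ne_zero Subgroup.index_ne_zero_of_finite
  have h1 : Nat.card (Cfsg.frobeniusKernel H) = H.index := by
    rw [hc, ← hG] at hsum
    have e : H.index * (Nat.card H - 1) + H.index = Nat.card H * H.index := by
      obtain ⟨k, hk⟩ : ∃ k, Nat.card H = k + 1 := ⟨Nat.card H - 1, by omega⟩
      rw [hk]; simp; ring
    omega
  refine ⟨h1, ?_⟩
  -- Burnside counting for the action of `H` on `G ⧸ H`
  obtain ⟨-, -, hF⟩ := hH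
  have := Fintype.ofFinite H
  have hb := Cfsg.Agent.Lib.Helper19.burnside_natCard (G := H) (Ω := G ⧸ H)
  have hfix1 : Nat.card (MulAction.fixedBy (G ⧸ H) (1 : H)) = H.index := by
    have : MulAction.fixedBy (G ⧸ H) (1 : H) = Set.univ := by
      ext c; simp [MulAction.mem_fixedBy]
    rw [this, Nat.card_congr (Equiv.Set.univ _)]; rfl
  have hfixne : ∀ y : H, y ≠ 1 → Nat.card (MulAction.fixedBy (G ⧸ H) y) = 1 := by
    intro y hy
    have : MulAction.fixedBy (G ⧸ H) y = {(QuotientGroup.mk 1 : G ⧸ H)} := by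
      ext c
      rw [MulAction.mem_fixedBy, Set.mem_singleton_iff]
      obtain ⟨g, rfl⟩ := QuotientGroup.mk_surjective c
      constructor
      · intro h
        have h' : (QuotientGroup.mk ((y : G) * g) : G ⧸ H) = QuotientGroup.mk g := h
        rw [QuotientGroup.eq] at h'
        by_contra hne
        have hgH : g ∉ H := by
          intro hg
          apply hne
          rw [QuotientGroup.eq]
          exact H.mul_mem (H.inv_mem hg) H.one_mem
        have h2 : (y : G)⁻¹ ∈ H ⊓ MulAut.conj g • H := by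
          refine ⟨H.inv_mem y.2, ?_⟩
          show (y : G)⁻¹ ∈ MulAut.conj g • H
          rw [mem_conj_smul_iff]
          have e : g⁻¹ * (y : G)⁻¹ * g = ((y : G) * g)⁻¹ * g := by group
          rw [e]; exact h'
        rw [hF g hgH, Subgroup.mem_bot, inv_eq_one] at h2
        exact hy (Subtype.ext h2)
      · intro h
        rw [h]
        show (QuotientGroup.mk ((y : G) * 1) : G ⧸ H) = QuotientGroup.mk 1
        rw [QuotientGroup.eq]
        exact H.mul_mem (H.inv_mem (H.mul_mem y.2 H.one_mem)) H.one_mem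
    rw [this]; simp
  have hsumfix : ∑ y : H, Nat.card (MulAction.fixedBy (G ⧸ H) y) = H.index + (Nat.card H - 1) := by
    rw [← Finset.add_sum_erase Finset.univ _ (Finset.mem_univ (1 : H)), hfix1]
    congr 1
    rw [Finset.sum_congr rfl (fun y hy => hfixne y (Finset.ne_of_mem_erase hy))]
    rw [Finset.sum_const, smul_eq_mul, mul_one, Finset.card_erase_of_mem (Finset.mem_univ _),
      Finset.card_univ, Nat.card_eq_fintype_card]
  rw [hsumfix] at hb
  set m := Nat.card (MulAction.orbitRel.Quotient (↥H) (G ⧸ H)) with hm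
  obtain ⟨k, hk⟩ : ∃ k, Nat.card H = k + 1 := ⟨Nat.card H - 1, by omega⟩
  rw [hk] at hb ⊢
  have hmpos : 0 < m := by
    rcases Nat.eq_zero_or_pos m with h0 | h0
    · rw [h0, zero_mul] at hb; omega
    · exact h0
  obtain ⟨m', hm'⟩ : ∃ m', m = m' + 1 := ⟨m - 1, by omega⟩
  rw [hm'] at hb
  have hn : H.index = 1 + m' * (k + 1) := by
    have : (m' + 1) * (k + 1) = m' * (k + 1) + (k + 1) := by ring
    omega
  rw [hn, Nat.add_mul_mod_self_right]

end Cfsg.Agent.S0034
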