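import Cfsg.Statements.S0042
import Cfsg.Agent.Lib.Helper8.ThNilpD
import Cfsg.Agent.Lib.Lead.FrobConj

set_option autoImplicit false
open Cfsg

namespace Cfsg.Agent.S0042

/-- In a finite Frobenius group, the Frobenius kernel is (the carrier of) a normal subgroup which is nilpotent. -/
theorem result {G : Type*} [Group G] [Finite G] (H : Subgroup G) (hH : Cfsg.IsFrobeniusComplement H) :
    ∃ N : Subgroup G, (N : Set G) = Cfsg.frobeniusKernel H ∧ N.Normal ∧ Group.IsNilpotent N := by
  obtain ⟨K, hK, hKn, hc, hKne, hfpf⟩ := Cfsg.Agent.CharLib.frob_setup H hH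
  refine ⟨K, hK, hKn, ?_⟩
  haveI := hKn
  -- an element of prime order in `H`
  have hHcard : Nat.card H ≠ 1 := fun h => hH.1 (Subgroup.card_eq_one.mp h)
  obtain ⟨r, hr, hrd⟩ := Nat.exists_prime_and_dvd hHcard
  haveI : Fact r.Prime := ⟨hr⟩
  obtain ⟨x, hx⟩ := exists_prime_orderOf_dvd_card' r hrd
  have hx1 : (x : G) ≠ 1 := by
    intro h
    have : x = 1 := Subtype.ext h
    rw [this, orderOf_one] at hx
    exact hr.one_lt.ne hx
  have hxr : (x : G) ^ r = 1 := by
    have : x ^ r = 1 := by rw [← hx]; exact pow_orderOf_eq_one x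
    simpa using congrArg Subtype.val this
  let φ : ↥K →* ↥K := (MulAut.conjNormal (x : G) : MulAut ↥K).toMonoidHom
  have hφ : ∀ k : ↥K, ((φ k : ↥K) : G) = (x : G) * k * (x : G)⁻¹ := fun k => rfl
  have hiter : ∀ (n : ℕ) (k : ↥K), ((φ^[n] k : ↥K) : G) = (x : G) ^ n * k * ((x : G) ^ n)⁻¹ := by
    intro n
    induction n with
    | zero => intro k; simp
    | succ n ih =>
      intro k
      rw [Function.iterate_succ_apply', hφ, ih, pow_succ']
      group
  apply Cfsg.Agent.Lib.Helper8.ThNilp.isNilpotent_of_fpf φ hr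
  · intro k
    apply Subtype.ext
    rw [hiter, hxr]
    simp
  · intro k hk
    have h1 : (x : G) * k * (x : G)⁻¹ = k := by
      have := congrArg Subtype.val hk
      rwa [hφ] at this
    have h2 : (k : G) ∈ K ⊓ Subgroup.centralizer {(x : G)} := by
      refine ⟨k.2, Subgroup.mem_centralizer_singleton_iff.mpr ?_⟩
      calc (k : G) * x = ((x : G) * k * (x : G)⁻¹) * x := by rw [h1]
        _ = x * k := by group
    rw [hfpf x x.2 hx1, Subgroup.mem_bot] at h2
    exact Subtype.ext h2

end Cfsg.Agent.S0042
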