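import Cfsg.Statements.S0039
-- import your own Cfsg.Agent.* helpers here
import Mathlib
import Cfsg.Agent.Lib.Helper1.Transport

set_option autoImplicit false
open Cfsg

namespace Cfsg.Agent.S0039

open Cfsg.Agent.Lib.Helper1 Subgroup
open Pointwise

/-- In a finite group that is a semidirect product of a normal subgroup K by a nontrivial subgroup H, H is a Frobenius complement exactly when each nonidentity element of H acts without nonidentity fixed points on K by conjugation. -/
theorem result {G : Type*} [Group G] [Finite G] (K H : Subgroup G) [K.Normal]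
    (hc : Subgroup.IsComplement' K H) (hK : K ≠ ⊥) (hH : H ≠ ⊥) :
    Cfsg.IsFrobeniusComplement H ↔ ∀ h ∈ H, h ≠ 1 → K ⊓ Subgroup.centralizer {h} = ⊥ := by
  have hdisj : Disjoint K H := hc.disjoint
  constructor
  · rintro ⟨-, -, hF⟩ h hh hh1
    rw [eq_bot_iff]
    rintro k ⟨hkK, hkC⟩
    rw [Subgroup.mem_bot]
    by_contra hk1
    have hkH : k ∉ H := fun hkH => hk1 (Subgroup.disjoint_def.mp hdisj hkK hkH)
    have hcomm : h * k = k * h := Subgroup.mem_centralizer_iff.mp hkC h rfl
    have h2 : h ∈ MulAut.conj k • H := by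
      rw [mem_conj_smul_iff]
      have e : k⁻¹ * h * k = h := by rw [mul_assoc, hcomm, inv_mul_cancel_left]
      rw [e]; exact hh
    have h3 : h ∈ H ⊓ MulAut.conj k • H := ⟨hh, h2⟩
    rw [hF k hkH, Subgroup.mem_bot] at h3
    exact hh1 h3
  · intro hfpf
    refine ⟨hH, ?_, ?_⟩
    · intro htop
      apply hK
      rw [eq_bot_iff]
      intro k hk
      exact Subgroup.disjoint_def.mp hdisj hk (htop ▸ Subgroup.mem_top k)
    · intro g hg
      rw [eq_bot_iff]
      rintro x ⟨hxH, hxg⟩
      rw [Subgroup.mem_bot]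
      by_contra hx1
      obtain ⟨k, hk, h', hh', rfl⟩ := IsComplement'.exists_mul_eq hc g
      have hxH : x ∈ H := hxH
      have hxg : x ∈ MulAut.conj (k * h') • H := hxg
      rw [mem_conj_smul_iff] at hxg
      have hy : k⁻¹ * x * k ∈ H := by
        have e : k⁻¹ * x * k = h' * ((k * h')⁻¹ * x * (k * h')) * h'⁻¹ := by group
        rw [e]
        exact H.mul_mem (H.mul_mem hh' hxg) (H.inv_mem hh')
      have h1 : x⁻¹ * (k⁻¹ * x * k) ∈ H := H.mul_mem (H.inv_mem hxH) hy
      have h2 : x⁻¹ * (k⁻¹ * x * k) ∈ K := by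
        have e : x⁻¹ * (k⁻¹ * x * k) = (x⁻¹ * k⁻¹ * x⁻¹⁻¹) * k := by group
        rw [e]
        exact K.mul_mem (‹K.Normal›.conj_mem _ (K.inv_mem hk) _) hk
      have h3 : x⁻¹ * (k⁻¹ * x * k) = 1 := Subgroup.disjoint_def.mp hdisj h2 h1
      have hcomm : x * k = k * x := by
        have : k⁻¹ * x * k = x := by
          have := congrArg (fun z => x * z) h3
          simpa using this
        calc x * k = k * (k⁻¹ * x * k) := by group
          _ = k * x := by rw [this]
      have hkC : k ∈ K ⊓ centralizer {x} := by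
        refine ⟨hk, ?_⟩
        show k ∈ centralizer {x}
        rw [Subgroup.mem_centralizer_iff]
        intro y hy
        rw [Set.mem_singleton_iff.mp hy, hcomm]
      rw [hfpf x hxH hx1, Subgroup.mem_bot] at hkC
      apply hg
      rw [hkC, one_mul]; exact hh'

end Cfsg.Agent.S0039
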