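import Cfsg.Statements.S2012
import Cfsg.Agent.Lib.Helper12.AlperinP

set_option autoImplicit false
open Cfsg

namespace Cfsg.Agent.S2012
open Cfsg.Agent.Lib.Helper12

/-- Alperin's fusion Theorem with the factors taken to be p-elements: let P be a Sylow p-subgroup of a finite group G, A a subset of P and g an element with g⁻¹Ag ⊆ P. Then g = x_1 ⋯ x_n where, for each i, Q_i is a Sylow p-subgroup with P ∩ Q_i a tame intersection (the normalizers in P and in Q_i of P ∩ Q_i are Sylow in N_G(P ∩ Q_i)), x_i normalizes P ∩ Q_i, x_i has p-power order unless Q_i = P, A ⊆ P ∩ Q_1, and (x_1 ⋯ x_i)⁻¹ A (x_1 ⋯ x_i) lies in P ∩ Q_{i+1} for i < n. -/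
theorem result {G : Type*} [Group G] [Finite G] {p : ℕ} [Fact p.Prime] (P : Sylow p G) (A : Set G) (g : G) (hA : A ⊆ (P : Set G)) (hAg : (fun a => g⁻¹ * a * g) '' A ⊆ (P : Set G)) : ∃ (n : ℕ) (Q : Fin n → Sylow p G) (x : Fin n → G), (List.ofFn x).prod = g ∧ (∀ i : Fin n, x i ∈ Subgroup.normalizer ((((P : Subgroup G) ⊓ (Q i : Subgroup G)) : Subgroup G) : Set G) ∧ ¬ p ∣ ((P : Subgroup G) ⊓ Subgroup.normalizer ((((P : Subgroup G) ⊓ (Q i : Subgroup G)) : Subgroup G) : Set G)).relIndex (Subgroup.normalizer ((((P : Subgroup G) ⊓ (Q i : Subgroup G)) : Subgroup G) : Set G)) ∧ ¬ p ∣ ((Q i : Subgroup G) ⊓ Subgroup.normalizer ((((P : Subgroup G) ⊓ (Q i : Subgroup G)) : Subgroup G) : Set G)).relIndex (Subgroup.normalizer ((((P : Subgroup G) ⊓ (Q i : Subgroup G)) : Subgroup G) : Set G)) ∧ ((Q i : Subgroup G) = (P : Subgroup G) ∨ ∃ k : ℕ, orderOf (x i) = p ^ k)) ∧ (∀ h : 0 < n, A ⊆ (((P : Subgroup G) ⊓ (Q ⟨0, h⟩ : Subgroup G) : Subgroup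 G) : Set G)) ∧ ∀ i : Fin n, ∀ h : i.val + 1 < n, (fun a => (((List.ofFn x).take (i.val + 1)).prod)⁻¹ * a * ((List.ofFn x).take (i.val + 1)).prod) '' A ⊆ (((P : Subgroup G) ⊓ (Q ⟨i.val + 1, h⟩ : Subgroup G) : Subgroup G) : Set G) := by
  classical
  have hAg' : cjs g A ⊆ ((P : Subgroup G) : Set G) := hAg
  obtain ⟨l, hl, hR, hprod⟩ := alperin_original P A g hA hAg'
  have hstep : ∀ i : Fin l.length, AlpStep P (l.get i).1 (l.get i).2 :=
    fun i => hR _ (List.get_mem l i)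
  have hnorm : ∀ i : Fin l.length, (l.get i).2 ∈ Subgroup.normalizer (((l.get i).1 : Subgroup G) : Set G) :=
    fun i => (hl.mem _ _ (List.get_mem l i)).2
  obtain ⟨hfprod, hf0, hfstep⟩ := Chain.toFamilyAlpP _ hl
  have hQ : ∀ i : Fin l.length, (l.get i).1 =
      (P : Subgroup G) ⊓ ((Classical.choose (hstep i) : Sylow p G) : Subgroup G) :=
    fun i => (Classical.choose_spec (hstep i)).1
  refine ⟨l.length, fun i => Classical.choose (hstep i), fun i => (l.get i).2, hfprod.trans hprod, ?_, ?_, ?_⟩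
  · intro i
    have hspec := Classical.choose_spec (hstep i)
    rw [← hQ i]
    exact ⟨hnorm i, hspec.2.1, hspec.2.2.1, hspec.2.2.2⟩
  · intro hn
    rw [← hQ ⟨0, hn⟩]
    exact hf0 hn
  · intro i hi
    rw [← hQ ⟨i.val + 1, hi⟩]
    exact hfstep i hi

end Cfsg.Agent.S2012
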