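import Cfsg.Statements.S2392
-- import your own Cfsg.Agent.* helpers here
import Cfsg.Agent.Lib.Helper15.OrbitBound

set_option autoImplicit false
open scoped MatrixGroups
open Cfsg

namespace Cfsg.Agent.S2392

open Matrix Cfsg.Agent.Lib.Helper15.OrbitBound

section chain

variable {F : Type*} [Field F] {k : ℕ}

theorem hiff (G : (Fin (k + 2) → F) → Prop)
    (h : ∀ u w r, r ⬝ᵥ w = 0 → G u → G (u + (u ⬝ᵥ w) • r)) (u w r : Fin (k + 2) → F)
    (hrw : r ⬝ᵥ w = 0) : G u ↔ G (u + (u ⬝ᵥ w) • r) := by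
  refine ⟨h u w r hrw, fun hG => ?_⟩
  have h1 := h (u + (u ⬝ᵥ w) • r) w (-r) (by rw [neg_dotProduct, hrw, neg_zero]) hG
  have h2 : u + (u ⬝ᵥ w) • r + ((u + (u ⬝ᵥ w) • r) ⬝ᵥ w) • (-r) = u := by
    rw [add_dotProduct, smul_dotProduct, hrw, smul_zero, add_zero, smul_neg]
    abel
  rwa [h2] at h1

/-- dual transvections are transitive on non-zero vectors -/
theorem chain (G : (Fin (k + 2) → F) → Prop)
    (h : ∀ u w r, r ⬝ᵥ w = 0 → G u → G (u + (u ⬝ᵥ w) • r)) {u : Fin (k + 2) → F} (hu : u ≠ 0) :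
    G u ↔ G (Pi.single 0 1) := by
  have step3 : ∀ u : Fin (k + 2) → F, u 0 = 1 → (G u ↔ G (Pi.single 0 1)) := by
    intro u h0
    have h1 := hiff G h u (Pi.single 0 1) (Pi.single 0 1 - u)
      (by rw [dotProduct_single, mul_one, Pi.sub_apply, Pi.single_eq_same, h0, sub_self])
    rw [dotProduct_single, mul_one, h0, one_smul] at h1
    rw [h1]
    have : u + (Pi.single 0 1 - u) = Pi.single 0 1 := by abel
    rw [this]
  have step2 : ∀ (u : Fin (k + 2) → F) (b : Fin (k + 2)), b ≠ 0 → u b ≠ 0 →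
      (G u ↔ G (Pi.single 0 1)) := by
    intro u b hb hub
    have h1 := hiff G h u (Pi.single b 1) (((1 - u 0) / u b) • Pi.single 0 1)
      (by rw [smul_dotProduct, single_dotProduct, Pi.single_eq_of_ne (Ne.symm hb)]; simp)
    rw [h1]
    apply step3
    rw [dotProduct_single, mul_one, Pi.add_apply, Pi.smul_apply, Pi.smul_apply,
      Pi.single_eq_same, smul_eq_mul, smul_eq_mul, mul_one, mul_div_cancel₀ _ hub]
    ring
  by_cases hex : ∃ b, b ≠ 0 ∧ u b ≠ 0
  · obtain ⟨b, hb, hub⟩ := hex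
    exact step2 u b hb hub
  · push Not at hex
    have h0 : u 0 ≠ 0 := by
      intro h0
      apply hu
      funext i
      by_cases hi : i = 0
      · rw [hi, h0]; rfl
      · exact hex i hi
    have h10 : (1 : Fin (k + 2)) ≠ 0 := by
      intro h; exact absurd (congrArg Fin.val h) (by simp)
    have h1 := hiff G h u (Pi.single 0 1) (Pi.single 1 1)
      (by rw [single_dotProduct, Pi.single_eq_of_ne h10]; simp)
    rw [h1]
    apply step2 _ 1 h10
    rw [dotProduct_single, mul_one, Pi.add_apply, Pi.smul_apply, Pi.single_eq_same, smul_eq_mul,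
      mul_one, hex 1 h10, zero_add]
    exact h0

end chain

section sl

variable {F : Type*} [Field F] {k : ℕ}

/-- extend a vector by a zero first coordinate -/
def colv (v : Fin k → F) : Fin (k + 1) → F := Fin.cons 0 v

theorem colv_dot (r w : Fin k → F) : colv r ⬝ᵥ colv w = r ⬝ᵥ w := by
  simp [colv, dotProduct, Fin.sum_univ_succ]

theorem colv_add (v w : Fin k → F) : colv (v + w) = colv v + colv w := by
  funext i
  refine Fin.cases ?_ (fun j => ?_) i <;> simp [colv]

theorem colv_smul (c : F) (w : Fin k → F) : colv (c • w) = c • colv w := by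
  funext i
  refine Fin.cases ?_ (fun j => ?_) i <;> simp [colv]

/-- the first basis vector -/
def e0 : Fin (k + 1) → F := Pi.single 0 1

theorem e0_dot (v : Fin k → F) : (e0 : Fin (k + 1) → F) ⬝ᵥ colv v = 0 := by
  rw [e0, single_dotProduct, one_mul]
  rfl

/-- the matrix `1 + a bᵀ` of determinant one -/
def EE (a b : Fin (k + 1) → F) (h : b ⬝ᵥ a = 0) : Matrix.SpecialLinearGroup (Fin (k + 1)) F :=
  ⟨1 + vecMulVec a b, by
    rw [vecMulVec_eq Unit, det_one_add_replicateCol_mul_replicateRow, h, add_zero]⟩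

theorem EE_mul (a b c d : Fin (k + 1) → F) (h : b ⬝ᵥ a = 0) (h' : d ⬝ᵥ c = 0) :
    (EE a b h * EE c d h').1 =
      1 + vecMulVec a b + vecMulVec c d + vecMulVec a ((b ⬝ᵥ c) • d) := by
  show (1 + vecMulVec a b) * (1 + vecMulVec c d) = _
  rw [mul_add, add_mul, add_mul, one_mul, one_mul, mul_one, vecMulVec_mul_vecMulVec]
  abel

/-- the translations -/
def X (v : Fin k → F) : Matrix.SpecialLinearGroup (Fin (k + 1)) F := EE (colv v) e0 (e0_dot v)

theorem X_add (v w : Fin k → F) : X (v + w) = X v * X w := by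
  apply Subtype.ext
  show (1 + vecMulVec (colv (v + w)) e0 : Matrix _ _ F) =
    (EE (colv v) e0 (e0_dot v) * EE (colv w) e0 (e0_dot w)).1
  rw [EE_mul, e0_dot, zero_smul, vecMulVec_zero, add_zero, colv_add, add_vecMulVec, add_assoc]

theorem X_zero : X (0 : Fin k → F) = 1 := by
  apply Subtype.ext
  show (1 + vecMulVec (colv (0 : Fin k → F)) e0 : Matrix _ _ F) = 1
  have : colv (0 : Fin k → F) = 0 := by
    funext i
    refine Fin.cases ?_ (fun j => ?_) i <;> simp [colv]
  rw [this, zero_vecMulVec, add_zero]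

/-- the normalising transvections -/
def MM (w r : Fin k → F) (h : r ⬝ᵥ w = 0) : Matrix.SpecialLinearGroup (Fin (k + 1)) F :=
  EE (colv w) (colv r) (by rw [colv_dot]; exact h)

theorem MM_mul_X (w r : Fin k → F) (h : r ⬝ᵥ w = 0) (v : Fin k → F) :
    MM w r h * X v = X (v + (r ⬝ᵥ v) • w) * MM w r h := by
  apply Subtype.ext
  show (EE (colv w) (colv r) _ * EE (colv v) e0 _).1 =
    (EE (colv (v + (r ⬝ᵥ v) • w)) e0 _ * EE (colv w) (colv r) _).1
  rw [EE_mul, EE_mul, e0_dot, zero_smul, vecMulVec_zero, add_zero, colv_dot, colv_add,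
    colv_smul, add_vecMulVec, smul_vecMulVec, vecMulVec_smul]
  abel

theorem X_center {v : Fin k → F}
    (h : X v ∈ Subgroup.center (Matrix.SpecialLinearGroup (Fin (k + 1)) F)) :
    v = 0 := by
  rw [Matrix.SpecialLinearGroup.mem_center_iff] at h
  obtain ⟨r, _, hr⟩ := h
  funext i
  have h1 : (Matrix.scalar (Fin (k + 1)) r) i.succ 0 = (X v).1 i.succ 0 := by rw [hr]
  have h2 : (X v).1 i.succ 0 = v i := by
    show (1 + vecMulVec (colv v) e0 : Matrix _ _ F) i.succ 0 = v i
    simp [vecMulVec_apply, colv, e0, Fin.succ_ne_zero]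
  rw [h2] at h1
  rw [← h1]
  simp [Matrix.scalar_apply, Fin.succ_ne_zero]

end sl


section main

variable {F : Type*} [Field F] [Fintype F]

theorem card_ne_zero_of_char {K L : Type*} [Field K] [Field L] [Algebra K L]
    (hK : ringChar K ≠ ringChar F) : (Fintype.card F : L) ≠ 0 := by
  obtain ⟨n, hp, hc⟩ := FiniteField.card F (ringChar F)
  rw [hc]
  push_cast
  apply pow_ne_zero
  intro h0
  have h1 : ((ringChar F : ℕ) : K) = 0 := by
    apply (algebraMap K L).injective
    rw [map_natCast, map_zero, h0]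
  have h2 := (ringChar.spec K (ringChar F)).mp h1
  rcases (Nat.dvd_prime hp).mp h2 with h3 | h3
  · have : CharP K 1 := h3 ▸ ringChar.charP K
    exact CharP.char_ne_one K 1 rfl
  · exact hK h3

theorem main_aux (k : ℕ) {K : Type*} [Field K] (hK : ringChar K ≠ ringChar F) {d : ℕ}
    (ρ : Matrix.SpecialLinearGroup (Fin (k + 2 + 1)) F →* GL (Fin d) K)
    (hker : ρ.ker ≤ Subgroup.center (Matrix.SpecialLinearGroup (Fin (k + 2 + 1)) F)) :
    Fintype.card F ^ (k + 2) - 1 ≤ d := by
  classical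
  let ψ₀ := AddChar.FiniteField.primitiveChar F K hK
  let L := CyclotomicField ψ₀.n K
  let ψ : AddChar F L := ψ₀.char
  have hψ : ψ.IsPrimitive := ψ₀.prim
  have hinj : Function.Injective (algebraMap K L) := (algebraMap K L).injective
  -- the representation over `L`
  let σ : Matrix.SpecialLinearGroup (Fin (k + 2 + 1)) F →* Matrix (Fin d) (Fin d) L :=
    ((RingHom.mapMatrix (algebraMap K L)).toMonoidHom.comp (Units.coeHom _)).comp ρ
  have hσ1 : ∀ g, σ g = 1 → g ∈ ρ.ker := by
    intro g hg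
    rw [MonoidHom.mem_ker]
    apply Units.ext
    have : (RingHom.mapMatrix (algebraMap K L)) ((ρ g : GL (Fin d) K) : Matrix (Fin d) (Fin d) K) =
        (RingHom.mapMatrix (algebraMap K L)) 1 := by
      rw [map_one]; exact hg
    exact Matrix.map_injective hinj this
  let x : (Fin (k + 2) → F) → Matrix (Fin d) (Fin d) L := fun v => σ (X v)
  have hxa : ∀ v w, x (v + w) = x v * x w := fun v w => by
    show σ (X (v + w)) = σ (X v) * σ (X w)
    rw [X_add, map_mul]
  have hx0 : x 0 = 1 := by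
    show σ (X 0) = 1
    rw [X_zero, map_one]
  have hcard : (Fintype.card (Fin (k + 2) → F) : L) ≠ 0 := by
    rw [Fintype.card_fun, Fintype.card_fin]
    push_cast
    exact pow_ne_zero _ (card_ne_zero_of_char hK)
  -- closure under dual transvections
  have hclos : ∀ u w r : Fin (k + 2) → F, r ⬝ᵥ w = 0 → Pr ψ x u ≠ 0 →
      Pr ψ x (u + (u ⬝ᵥ w) • r) ≠ 0 := by
    intro u w r hrw hu
    have hrw' : (-r) ⬝ᵥ w = 0 := by rw [neg_dotProduct, hrw, neg_zero]
    have hN1 : ∀ v : Fin (k + 2) → F,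
        (v + ((-r) ⬝ᵥ v) • w) - ((-r) ⬝ᵥ (v + ((-r) ⬝ᵥ v) • w)) • w = v := by
      intro v
      rw [dotProduct_add, dotProduct_smul, hrw', smul_zero, add_zero]
      abel
    have hN2 : ∀ v : Fin (k + 2) → F,
        (v - ((-r) ⬝ᵥ v) • w) + ((-r) ⬝ᵥ (v - ((-r) ⬝ᵥ v) • w)) • w = v := by
      intro v
      rw [dotProduct_sub, dotProduct_smul, hrw', smul_zero, sub_zero]
      abel
    let N : (Fin (k + 2) → F) ≃ (Fin (k + 2) → F) :=
      { toFun := fun v => v + ((-r) ⬝ᵥ v) • w
        invFun := fun v => v - ((-r) ⬝ᵥ v) • w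
        left_inv := hN1
        right_inv := hN2 }
    have hunit : IsUnit (σ (MM w (-r) hrw')) := by
      refine ⟨⟨σ (MM w (-r) hrw'), σ (MM w (-r) hrw')⁻¹, ?_, ?_⟩, rfl⟩
      · rw [← map_mul, mul_inv_cancel, map_one]
      · rw [← map_mul, inv_mul_cancel, map_one]
    refine Pr_ne_zero_of_conj ψ x hunit (N := N) ?_ ?_ hu
    · intro v
      show σ (MM w (-r) hrw') * σ (X v) = σ (X (v + ((-r) ⬝ᵥ v) • w)) * σ (MM w (-r) hrw')
      rw [← map_mul, ← map_mul, MM_mul_X]
    · intro v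
      show u ⬝ᵥ v = (u + (u ⬝ᵥ w) • r) ⬝ᵥ (v + ((-r) ⬝ᵥ v) • w)
      rw [add_dotProduct, dotProduct_add, dotProduct_add, smul_dotProduct, smul_dotProduct,
        dotProduct_smul, dotProduct_smul, hrw, neg_dotProduct]
      simp only [smul_eq_mul]
      ring
  -- some non-trivial character occurs
  have hne1 : x (Pi.single 0 1) ≠ 1 := by
    intro h
    have h1 := hker (hσ1 _ h)
    have h2 := congrFun (X_center h1) 0
    simp at h2
  obtain ⟨u₀, hu₀, hu₀'⟩ := exists_of_ne_one ψ x hψ hcard hx0 hne1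
  have hu₀0 : u₀ ≠ 0 := by
    rintro rfl
    exact hu₀' (zero_dotProduct _)
  have hall : ∀ u : Fin (k + 2) → F, u ≠ 0 → Pr ψ x u ≠ 0 := by
    intro u hu
    have h1 := chain (fun u => Pr ψ x u ≠ 0) hclos hu₀0
    have h2 := chain (fun u => Pr ψ x u ≠ 0) hclos hu
    exact h2.mpr (h1.mp hu₀)
  have key := card_le_of_orthogonal (κ := {u : Fin (k + 2) → F // u ≠ 0})
    (fun a => Pr ψ x a.1)
    (fun a b => by
      rw [Pr_mul_Pr ψ x hψ hcard hxa]
      by_cases hab : a = b
      · rw [if_pos hab, if_pos (congrArg Subtype.val hab)]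
      · rw [if_neg hab, if_neg (fun h => hab (Subtype.ext h))])
    (fun a => hall a.1 a.2)
  rw [Fintype.card_subtype_compl, Fintype.card_fun, Fintype.card_fin] at key
  simpa using key

theorem main {q : ℕ} (hq : Fintype.card F = q) (n : ℕ) (hn : 3 ≤ n)
    {K : Type*} [Field K] (hK : ringChar K ≠ ringChar F) {d : ℕ}
    (ρ : Matrix.SpecialLinearGroup (Fin n) F →* GL (Fin d) K)
    (hker : ρ.ker ≤ Subgroup.center (Matrix.SpecialLinearGroup (Fin n) F)) :
    q ^ (n - 1) - 1 ≤ d := by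
  obtain ⟨k, rfl⟩ : ∃ k, n = k + 2 + 1 := ⟨n - 3, by omega⟩
  rw [← hq]
  exact main_aux k hK ρ hker

end main

/-- A lower bound for representations in cross characteristic: for `n ≥ 3` and a field `F` with `q` elements, every homomorphism from `SL_n(F)` to `GL_d(K)`, `K` a field of characteristic different from that of `F`, whose kernel is central has `d ≥ q^(n-1) - 1`. -/
theorem result {F : Type*} [Field F] [Fintype F] {q : ℕ} (hq : Fintype.card F = q) (n : ℕ) (hn : 3 ≤ n)
    {K : Type*} [Field K] (hK : ringChar K ≠ ringChar F) {d : ℕ}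
    (ρ : Matrix.SpecialLinearGroup (Fin n) F →* GL (Fin d) K) (hker : ρ.ker ≤ Subgroup.center (Matrix.SpecialLinearGroup (Fin n) F)) :
    q ^ (n - 1) - 1 ≤ d := by
  exact main hq n hn hK ρ hker

end Cfsg.Agent.S2392
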