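import Cfsg.Statements.S2364
-- import your own Cfsg.Agent.* helpers here
import Cfsg.Agent.Lib.Helper15.SylowLarge

set_option autoImplicit false
open Cfsg

namespace Cfsg.Agent.S2364

open Cfsg.Agent.Lib.Helper15.SylowLarge

section grp

/-- lifting elements of prime-power-free order through a finite central-like quotient -/
lemma exists_lift_pow {G : Type*} [Group G] (Z : Subgroup G) [Z.Normal] [Finite Z] (p : ℕ)
    (hp : 1 < p) (hcop : Nat.Coprime (Nat.card Z) p) (x : G ⧸ Z) (hx : x ^ p = 1) :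
    ∃ y : G, (y : G ⧸ Z) = x ∧ y ^ p = 1 := by
  obtain ⟨y₀, rfl⟩ := QuotientGroup.mk_surjective x
  obtain ⟨m, -, hm⟩ := Nat.exists_mul_mod_eq_one_of_coprime hcop hp
  refine ⟨y₀ ^ (Nat.card Z * m), ?_, ?_⟩
  · rw [QuotientGroup.mk_pow, ← Nat.div_add_mod (Nat.card Z * m) p, hm, pow_add, pow_mul, hx,
      one_pow, one_mul, pow_one]
  · have h1 : y₀ ^ p ∈ Z := by
      rw [← QuotientGroup.eq_one_iff, QuotientGroup.mk_pow]; exact hx
    have h2 : (⟨y₀ ^ p, h1⟩ : Z) ^ Nat.card Z = 1 := pow_card_eq_one'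
    have h3 : (y₀ ^ p) ^ Nat.card Z = 1 := by
      have := congrArg Subtype.val h2
      rwa [Subgroup.coe_pow, Subgroup.coe_one] at this
    rw [← pow_mul, mul_comm, pow_mul, pow_mul, h3, one_pow]

lemma commute_of_central {G : Type*} [Group G] (x y : G) (p r : ℕ) (hx : x ^ p = 1)
    (hy : y ^ r = 1) (hpr : Nat.Coprime p r) (hz : x * y * x⁻¹ * y⁻¹ ∈ Subgroup.center G) :
    Commute x y := by
  set z := x * y * x⁻¹ * y⁻¹ with hzdef
  have hzc : ∀ g : G, Commute z g := fun g => (Subgroup.mem_center_iff.mp hz g).symm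
  have h1 : x * y * x⁻¹ = z * y := by rw [hzdef]; group
  have h2 : z ^ r = 1 := by
    have : (x * y * x⁻¹) ^ r = 1 := by rw [conj_pow, hy]; group
    rw [h1, (hzc y).mul_pow, hy, mul_one] at this
    exact this
  have h3 : y * x⁻¹ * y⁻¹ = x⁻¹ * z := by rw [hzdef]; group
  have h4 : z ^ p = 1 := by
    have : (y * x⁻¹ * y⁻¹) ^ p = 1 := by rw [conj_pow, inv_pow, hx]; group
    rw [h3, ((hzc x⁻¹).symm).mul_pow, inv_pow, hx, inv_one, one_mul] at this
    exact this
  have h5 : orderOf z ∣ 1 := by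
    have := Nat.dvd_gcd (orderOf_dvd_of_pow_eq_one h4) (orderOf_dvd_of_pow_eq_one h2)
    rwa [hpr] at this
  have h6 : z = 1 := orderOf_eq_one_iff.mp (Nat.dvd_one.mp h5)
  show x * y = y * x
  have : x * y * x⁻¹ * y⁻¹ = 1 := h6
  calc x * y = (x * y * x⁻¹ * y⁻¹) * (y * x) := by group
    _ = y * x := by rw [this, one_mul]

end grp

section linalg

variable {F V : Type*} [Field F] [Fintype F] [AddCommGroup V] [Module F V] [Finite V]

omit [Fintype F] in
/-- fixed point congruence on an invariant subspace -/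
theorem mod_lemma {r : ℕ} [Fact r.Prime] (T : Module.End F V) (hT : T ^ r = 1)
    (W : Submodule F V) (hW : ∀ w ∈ W, T w ∈ W) :
    Nat.card W ≡ Nat.card ↥(W ⊓ LinearMap.ker (T - 1)) [MOD r] := by
  classical
  have : Fintype V := Fintype.ofFinite V
  let f : Function.End W := fun w => ⟨T w.1, hW w.1 w.2⟩
  have hpow : ∀ (j : ℕ) (w : W), ((f ^ j) w).1 = (T ^ j) w.1 := by
    intro j
    induction j with
    | zero => intro w; rfl
    | succ j ih =>
      intro w
      rw [pow_succ', pow_succ']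
      show T ((f ^ j) w).1 = _
      rw [ih]
      rfl
  have hf : f ^ r ^ 1 = 1 := by
    rw [pow_one]
    funext w
    apply Subtype.ext
    rw [hpow, hT]
    rfl
  have key := Equiv.Perm.card_fixedPoints_modEq (f := f) (p := r) (n := 1) hf
  rw [← Nat.card_eq_fintype_card, ← Nat.card_eq_fintype_card] at key
  refine key.trans (Nat.ModEq.of_dvd (dvd_refl r) ?_)
  have hcard : Nat.card ↥(Function.fixedPoints f) = Nat.card ↥(W ⊓ LinearMap.ker (T - 1)) := ?_
  · rw [hcard]
  apply Nat.card_congr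
  refine ⟨fun w => ⟨w.1.1, w.1.2, ?_⟩, fun w => ⟨⟨w.1, w.2.1⟩, ?_⟩, fun w => rfl, fun w => rfl⟩
  · have h1 : f w.1 = w.1 := w.2
    have h2 : T w.1.1 = w.1.1 := congrArg Subtype.val h1
    show w.1.1 ∈ LinearMap.ker (T - 1)
    rw [LinearMap.mem_ker, LinearMap.sub_apply, h2]
    exact sub_self _
  · have h1 : w.1 ∈ LinearMap.ker (T - 1) := w.2.2
    rw [LinearMap.mem_ker, LinearMap.sub_apply, sub_eq_zero] at h1
    show f ⟨w.1, w.2.1⟩ = ⟨w.1, w.2.1⟩
    exact Subtype.ext h1

theorem card_sub (W : Submodule F V) : Nat.card W = Fintype.card F ^ Module.finrank F W := by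
  rw [← Nat.card_eq_fintype_card (α := F)]
  exact Module.natCard_eq_pow_finrank

lemma e_dvd {r : ℕ} [hr : Fact r.Prime] {q : ℕ} (hrq : ¬ r ∣ q) {a b : ℕ} (hab : b ≤ a)
    (h : q ^ a ≡ q ^ b [MOD r]) : orderOf (q : ZMod r) ∣ a - b := by
  apply orderOf_dvd_of_pow_eq_one
  have h1 : ((q ^ a : ℕ) : ZMod r) = ((q ^ b : ℕ) : ZMod r) := (ZMod.natCast_eq_natCast_iff _ _ _).mpr h
  push_cast at h1
  have hq0 : (q : ZMod r) ≠ 0 := by rwa [Ne, ZMod.natCast_eq_zero_iff]
  have h2 : (q : ZMod r) ^ b * (q : ZMod r) ^ (a - b) = (q : ZMod r) ^ b * 1 := by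
    rw [← pow_add, mul_one, Nat.add_sub_cancel' hab, h1]
  exact mul_left_cancel₀ (pow_ne_zero _ hq0) h2

theorem lin_main {p r : ℕ} [hp : Fact p.Prime] [hr : Fact r.Prime] [CharP F p] (hpr : p ≠ r)
    (A C : Module.End F V) (hAC : Commute A C) (hA : A ^ p = 1) (hC : C ^ r = 1) (hC1 : C ≠ 1)
    (hn1 : Module.finrank F V < 2 * orderOf ((Fintype.card F : ℕ) : ZMod r))
    (hn2 : Module.finrank F V ≤ orderOf ((Fintype.card F : ℕ) : ZMod r) + 1) : A = 1 := by
  classical
  have : Module.Finite F V := .of_finite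
  set q := Fintype.card F with hq
  set e := orderOf ((q : ℕ) : ZMod r) with he
  obtain ⟨k, -, hk⟩ := FiniteField.card F p
  have hpq : p ∣ q := by rw [hq, hk]; exact dvd_pow_self p k.pos.ne'
  have hrq : ¬ r ∣ q := by
    rw [hq, hk]
    intro h
    exact hpr ((Nat.prime_dvd_prime_iff_eq hr.out hp.out).mp (hr.out.dvd_of_dvd_pow h)).symm
  have he0 : 0 < e := d_pos hrq
  have hrF : (r : F) ≠ 0 := by
    rw [Ne, CharP.cast_eq_zero_iff F p r]
    intro h
    exact hpr ((Nat.prime_dvd_prime_iff_eq hp.out hr.out).mp h)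
  set V₀ := LinearMap.ker (C - 1) with hV₀
  set V₁ := LinearMap.range (C - 1) with hV₁
  have hCA : ∀ v, C (A v) = A (C v) := fun v => by
    have := congrArg (fun f : Module.End F V => f v) hAC.eq
    exact this.symm
  have hCV₁ : ∀ w ∈ V₁, C w ∈ V₁ := by
    rintro _ ⟨u, rfl⟩
    exact ⟨C u, by simp [map_sub]⟩
  have hAV₁ : ∀ w ∈ V₁, A w ∈ V₁ := by
    rintro _ ⟨u, rfl⟩
    refine ⟨A u, ?_⟩
    simp only [LinearMap.sub_apply, Module.End.one_apply, map_sub, hCA]
  have hAV₀ : ∀ w ∈ V₀, A w ∈ V₀ := by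
    intro w hw
    rw [hV₀, LinearMap.mem_ker, LinearMap.sub_apply, Module.End.one_apply, sub_eq_zero] at hw ⊢
    rw [hCA, hw]
  have hCker : ∀ w ∈ LinearMap.ker (A - 1), C w ∈ LinearMap.ker (A - 1) := by
    intro w hw
    rw [LinearMap.mem_ker, LinearMap.sub_apply, Module.End.one_apply, sub_eq_zero] at hw ⊢
    rw [← hCA, hw]
  -- (1) the two parts meet trivially
  have hdisj : V₀ ⊓ V₁ = ⊥ := by
    rw [eq_bot_iff]
    rintro v ⟨hv0, u, rfl⟩
    rw [SetLike.mem_coe, hV₀, LinearMap.mem_ker, LinearMap.sub_apply, Module.End.one_apply,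
      sub_eq_zero] at hv0
    set v := (C - 1) u with hv
    have hpowv : ∀ i : ℕ, (C ^ i) v = v := by
      intro i
      induction i with
      | zero => rfl
      | succ i ih => rw [pow_succ, Module.End.mul_apply, hv0, ih]
    have hN1 : (∑ i ∈ Finset.range r, C ^ i) v = (r : F) • v := by
      rw [LinearMap.sum_apply, Finset.sum_congr rfl (fun i _ => hpowv i), Finset.sum_const,
        Finset.card_range, Nat.cast_smul_eq_nsmul]
    have hN0 : (∑ i ∈ Finset.range r, C ^ i) v = 0 := by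
      have h1 : ((∑ i ∈ Finset.range r, C ^ i) * (C - 1)) u = 0 := by
        rw [geom_sum_mul, hC, sub_self]; rfl
      exact h1
    rw [hN1] at hN0
    rcases smul_eq_zero.mp hN0 with h | h
    · exact absurd h hrF
    · exact h
  have hrank : Module.finrank F V₁ + Module.finrank F V₀ = Module.finrank F V :=
    LinearMap.finrank_range_add_finrank_ker (C - 1)
  -- (3)
  have hle0 : Module.finrank F V₀ ≤ Module.finrank F V := Submodule.finrank_le V₀
  have h3 : e ∣ Module.finrank F V - Module.finrank F V₀ := by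
    apply e_dvd hrq hle0
    have := mod_lemma C hC ⊤ (fun w _ => Submodule.mem_top)
    rw [top_inf_eq, card_sub, card_sub, finrank_top] at this
    exact this
  have h4 : Module.finrank F V₀ < Module.finrank F V := by
    rcases Nat.lt_or_ge (Module.finrank F V₀) (Module.finrank F V) with h | h
    · exact h
    · exfalso
      have h5 : V₀ = ⊤ := Submodule.eq_top_of_finrank_eq (le_antisymm hle0 h)
      apply hC1
      have h6 : C - 1 = 0 := LinearMap.ker_eq_top.mp h5
      exact sub_eq_zero.mp h6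
  have h5 : Module.finrank F V - Module.finrank F V₀ = e := by
    obtain ⟨k, hk⟩ := h3
    have hk1 : k = 1 := by
      rcases Nat.lt_or_ge k 2 with h | h
      · rcases Nat.eq_zero_or_pos k with h0 | h0
        · subst h0; omega
        · omega
      · have : e * 2 ≤ e * k := Nat.mul_le_mul_left e h
        omega
    rw [hk, hk1, mul_one]
  have hV₁e : Module.finrank F V₁ = e := by omega
  have hV₀1 : Module.finrank F V₀ ≤ 1 := by omega
  -- (5)
  have h5' : ∀ X : Submodule F V, X ≤ V₁ → (∀ w ∈ X, C w ∈ X) → e ∣ Module.finrank F X := by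
    intro X hX hCX
    have h1 := mod_lemma C hC X hCX
    have h2 : X ⊓ V₀ = ⊥ := by
      rw [eq_bot_iff, ← hdisj]
      exact le_inf inf_le_right (inf_le_left.trans hX)
    rw [← hV₀, h2, card_sub, card_sub, finrank_bot] at h1
    have := e_dvd hrq (Nat.zero_le _) h1
    rwa [Nat.sub_zero] at this
  -- (6)
  have h6 : V₁ ≤ LinearMap.ker (A - 1) := by
    set X := V₁ ⊓ LinearMap.ker (A - 1) with hX
    have hXle : X ≤ V₁ := inf_le_left
    have h1 := mod_lemma A hA V₁ hAV₁
    rw [← hX, card_sub, card_sub, hV₁e] at h1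
    have h2 : p ∣ q ^ Module.finrank F X := by
      rw [← Nat.modEq_zero_iff_dvd]
      refine h1.symm.trans ?_
      rw [Nat.modEq_zero_iff_dvd]
      exact dvd_pow hpq he0.ne'
    have h3 : Module.finrank F X ≠ 0 := by
      intro h
      rw [h, pow_zero] at h2
      exact hp.out.one_lt.ne' (Nat.dvd_one.mp h2)
    have h4 : e ∣ Module.finrank F X := h5' X hXle (fun w hw => ⟨hCV₁ w hw.1, hCker w hw.2⟩)
    have h5 : Module.finrank F X ≤ e := hV₁e ▸ Submodule.finrank_mono hXle
    have h6 : Module.finrank F X = e := by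
      obtain ⟨k, hk⟩ := h4
      rcases Nat.eq_zero_or_pos k with h0 | h0
      · subst h0; omega
      · have : e * 1 ≤ e * k := Nat.mul_le_mul_left e h0
        omega
    have h7 : X = V₁ := Submodule.eq_of_le_of_finrank_eq hXle (by rw [h6, hV₁e])
    rw [← h7]
    exact inf_le_right
  -- (7)
  have h7 : V₀ ≤ LinearMap.ker (A - 1) := by
    set Y := V₀ ⊓ LinearMap.ker (A - 1) with hY
    have hYle : Y ≤ V₀ := inf_le_left
    rcases Nat.eq_zero_or_pos (Module.finrank F V₀) with h0 | h0
    · rw [Submodule.finrank_eq_zero] at h0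
      rw [h0]; exact bot_le
    · have h01 : Module.finrank F V₀ = 1 := by omega
      have h1 := mod_lemma A hA V₀ hAV₀
      rw [← hY, card_sub, card_sub, h01, pow_one] at h1
      have h2 : p ∣ q ^ Module.finrank F Y := by
        rw [← Nat.modEq_zero_iff_dvd]
        refine h1.symm.trans ?_
        rw [Nat.modEq_zero_iff_dvd]
        exact hpq
      have h3 : Module.finrank F Y ≠ 0 := by
        intro h
        rw [h, pow_zero] at h2
        exact hp.out.one_lt.ne' (Nat.dvd_one.mp h2)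
      have h5 : Module.finrank F Y ≤ 1 := h01 ▸ Submodule.finrank_mono hYle
      have h7 : Y = V₀ := Submodule.eq_of_le_of_finrank_eq hYle (by omega)
      rw [← h7]
      exact inf_le_right
  -- (8)
  have h8 : V₀ ⊔ V₁ = ⊤ := by
    apply Submodule.eq_top_of_finrank_eq
    have := Submodule.finrank_sup_add_finrank_inf_eq V₀ V₁
    rw [hdisj, finrank_bot, add_zero] at this
    omega
  have h9 : LinearMap.ker (A - 1) = ⊤ := by
    rw [eq_top_iff, ← h8]
    exact sup_le h7 h6
  exact sub_eq_zero.mp (LinearMap.ker_eq_top.mp h9)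

end linalg

section main

variable {F : Type*} [Field F] [Fintype F]

open Matrix

lemma card_SL_eq (k : ℕ) :
    Nat.card (SpecialLinearGroup (Fin (k + 1)) F) =
      (∏ i : Fin k, (Fintype.card F ^ (k + 1) - Fintype.card F ^ (i : ℕ))) * Fintype.card F ^ k := by
  have h1 := card_SL_mul (F := F) (k + 1) (by omega)
  rw [Matrix.card_GL_field, Fin.prod_univ_castSucc] at h1
  have hq2 : 2 ≤ Fintype.card F := Fintype.one_lt_card
  have h2 : Fintype.card F ^ (k + 1) - Fintype.card F ^ ((Fin.last k : Fin (k + 1)) : ℕ) =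
      Fintype.card F ^ k * (Fintype.card F - 1) := by
    rw [Fin.val_last, Nat.mul_sub, mul_one, pow_succ]
  rw [h2, ← mul_assoc] at h1
  simp only [Fin.val_castSucc] at h1
  exact Nat.eq_of_mul_eq_mul_right (by omega) h1

lemma dvd_card_SL (m : ℕ) (hm : 2 ≤ m) (r : ℕ)
    (h : r ∣ Fintype.card F ∨ ∃ j, 2 ≤ j ∧ j ≤ m ∧ r ∣ Fintype.card F ^ j - 1) :
    r ∣ Nat.card (SpecialLinearGroup (Fin m) F) := by
  obtain ⟨k, rfl⟩ : ∃ k, m = k + 1 := ⟨m - 1, by omega⟩
  rw [card_SL_eq]
  rcases h with h | ⟨j, hj2, hjm, hj⟩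
  · exact Dvd.dvd.mul_left (dvd_pow h (by omega)) _
  · apply Dvd.dvd.mul_right
    have hmem : (⟨k + 1 - j, by omega⟩ : Fin k) ∈ Finset.univ := Finset.mem_univ _
    refine Dvd.dvd.trans ?_ (Finset.dvd_prod_of_mem _ hmem)
    have : Fintype.card F ^ (k + 1) - Fintype.card F ^ (k + 1 - j) =
        Fintype.card F ^ (k + 1 - j) * (Fintype.card F ^ j - 1) := by
      rw [Nat.mul_sub, mul_one, ← pow_add]
      congr 2; omega
    show r ∣ Fintype.card F ^ (k + 1) - Fintype.card F ^ (k + 1 - j)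
    rw [this]
    exact Dvd.dvd.mul_left hj _

theorem main (p : ℕ) [hp : Fact p.Prime] [CharP F p] (n : ℕ) (hn : 4 ≤ n)
    (a b : Matrix.ProjectiveSpecialLinearGroup (Fin n) F) (ha : orderOf a = p) (hab : Commute a b) :
    (orderOf b).primeFactors ⊆ (Nat.card (Matrix.SpecialLinearGroup (Fin (n - 2)) F)).primeFactors := by
  classical
  intro r hr
  rw [Nat.mem_primeFactors] at hr ⊢
  obtain ⟨hrp, hrb, hb0⟩ := hr
  refine ⟨hrp, ?_, Nat.card_pos.ne'⟩
  have : Fact r.Prime := ⟨hrp⟩
  set q := Fintype.card F with hq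
  have hq2 : 2 ≤ q := Fintype.one_lt_card
  by_contra hnd
  have hrq : ¬ r ∣ q := fun h => hnd (dvd_card_SL (n - 2) (by omega) r (Or.inl h))
  have hj : ∀ j, 2 ≤ j → j ≤ n - 2 → ¬ r ∣ q ^ j - 1 := fun j h1 h2 h3 =>
    hnd (dvd_card_SL (n - 2) (by omega) r (Or.inr ⟨j, h1, h2, h3⟩))
  set e := orderOf (q : ZMod r) with he
  have he0 : 0 < e := d_pos hrq
  have hen : n - 1 ≤ e := by
    by_contra h
    rcases Nat.lt_or_ge e 2 with h1 | h1
    · have h2 : e = 1 := by omega
      apply hj 2 le_rfl (by omega)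
      rw [dvd_pow_sub_one_iff hrq, ← he, h2]
      exact one_dvd _
    · apply hj e h1 (by omega)
      rw [dvd_pow_sub_one_iff hrq]
  -- `p ≠ r`
  obtain ⟨k, -, hk⟩ := FiniteField.card F p
  have hpq : p ∣ q := by rw [hq, hk]; exact dvd_pow_self p k.pos.ne'
  have hpr : p ≠ r := by rintro rfl; exact hrq hpq
  -- the centre
  set Z := Subgroup.center (SpecialLinearGroup (Fin n) F) with hZ
  have hZcard : Nat.card Z ∣ q - 1 := by
    have i0 : Fin n := ⟨0, by omega⟩
    have h1 : Nat.card Z = Nat.card (rootsOfUnity (Fintype.card (Fin n)) F) :=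
      Nat.card_congr (SpecialLinearGroup.center_equiv_rootsOfUnity' i0).toEquiv
    rw [h1]
    have h2 := Subgroup.card_subgroup_dvd_card (rootsOfUnity (Fintype.card (Fin n)) F)
    rwa [Nat.card_units, Nat.card_eq_fintype_card (α := F)] at h2
  have hq1 : q - 1 ≠ 0 := by omega
  have hZp : Nat.Coprime (Nat.card Z) p := by
    apply Nat.Coprime.symm
    rw [Nat.Prime.coprime_iff_not_dvd hp.out]
    intro h
    have h1 : p ∣ q - 1 := h.trans hZcard
    have h2 : p ∣ q - (q - 1) := Nat.dvd_sub hpq h1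
    have h3 : q - (q - 1) = 1 := by omega
    rw [h3] at h2
    exact hp.out.one_lt.ne' (Nat.dvd_one.mp h2)
  have hZr : Nat.Coprime (Nat.card Z) r := by
    apply Nat.Coprime.symm
    rw [Nat.Prime.coprime_iff_not_dvd hrp]
    intro h
    have h1 : r ∣ q ^ 1 - 1 := by rw [pow_one]; exact h.trans hZcard
    rw [dvd_pow_sub_one_iff hrq, ← he, Nat.dvd_one] at h1
    omega
  -- the element of order `r`
  set c := b ^ (orderOf b / r) with hc
  have hcr : orderOf c = r := orderOf_pow_orderOf_div hb0 hrb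
  have hac : Commute a c := hab.pow_right _
  obtain ⟨a', ha', ha'p⟩ := exists_lift_pow Z p hp.out.one_lt hZp a (by rw [← ha]; exact pow_orderOf_eq_one a)
  obtain ⟨c', hc', hc'r⟩ := exists_lift_pow Z r hrp.one_lt hZr c (by rw [← hcr]; exact pow_orderOf_eq_one c)
  have hcomm : Commute a' c' := by
    apply commute_of_central a' c' p r ha'p hc'r ((Nat.coprime_primes hp.out hrp).mpr hpr)
    rw [← hZ, ← QuotientGroup.eq_one_iff]
    rw [QuotientGroup.mk_mul, QuotientGroup.mk_mul, QuotientGroup.mk_mul, QuotientGroup.mk_inv,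
      QuotientGroup.mk_inv, ha', hc', hac.eq, mul_inv_cancel_right, mul_inv_cancel]
  -- linear maps
  set A : Module.End F (Fin n → F) := Matrix.toLinAlgEquiv' (a' : Matrix (Fin n) (Fin n) F) with hAdef
  set C : Module.End F (Fin n → F) := Matrix.toLinAlgEquiv' (c' : Matrix (Fin n) (Fin n) F) with hCdef
  have hAp : A ^ p = 1 := by
    have h1 : (a' : Matrix (Fin n) (Fin n) F) ^ p = 1 := by
      have := congrArg (fun x : SpecialLinearGroup (Fin n) F => (x : Matrix (Fin n) (Fin n) F)) ha'p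
      simpa using this
    rw [hAdef, ← map_pow, h1, map_one]
  have hCr : C ^ r = 1 := by
    have h1 : (c' : Matrix (Fin n) (Fin n) F) ^ r = 1 := by
      have := congrArg (fun x : SpecialLinearGroup (Fin n) F => (x : Matrix (Fin n) (Fin n) F)) hc'r
      simpa using this
    rw [hCdef, ← map_pow, h1, map_one]
  have hACcomm : Commute A C := by
    show A * C = C * A
    have h1 : (a' : Matrix (Fin n) (Fin n) F) * (c' : Matrix (Fin n) (Fin n) F) =
        (c' : Matrix (Fin n) (Fin n) F) * (a' : Matrix (Fin n) (Fin n) F) := by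
      have := congrArg (fun x : SpecialLinearGroup (Fin n) F => (x : Matrix (Fin n) (Fin n) F)) hcomm.eq
      simpa using this
    rw [hAdef, hCdef, ← map_mul, ← map_mul, h1]
  have hC1 : C ≠ 1 := by
    intro h
    have h1 : (c' : Matrix (Fin n) (Fin n) F) = 1 := by
      apply Matrix.toLinAlgEquiv'.injective
      rw [map_one]; exact h
    have h2 : c' = 1 := Subtype.ext h1
    have h3 : c = 1 := by rw [← hc', h2]; rfl
    rw [h3, orderOf_one] at hcr
    exact hrp.one_lt.ne' hcr.symm
  have hfr : Module.finrank F (Fin n → F) = n := Module.finrank_fin_fun F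
  have hA1 := lin_main (F := F) (V := Fin n → F) hpr A C hACcomm hAp hCr hC1
    (by rw [hfr, ← hq, ← he]; omega) (by rw [hfr, ← hq, ← he]; omega)
  have h1 : (a' : Matrix (Fin n) (Fin n) F) = 1 := by
    apply Matrix.toLinAlgEquiv'.injective
    rw [map_one]; exact hA1
  have h2 : a' = 1 := Subtype.ext h1
  have h3 : a = 1 := by rw [← ha', h2]; rfl
  rw [h3, orderOf_one] at ha
  exact hp.out.one_lt.ne' ha.symm

end main

/-- Let F be a finite field of characteristic p, n ≥ 4, and let a, b be commuting elements of PSL(n, F) with a of order p. Then every prime divisor of the order of b divides the order of SL(n − 2, F). -/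
theorem result {F : Type*} [Field F] [Fintype F] (p : ℕ) [Fact p.Prime] [CharP F p] (n : ℕ) (hn : 4 ≤ n)
    (a b : Matrix.ProjectiveSpecialLinearGroup (Fin n) F) (ha : orderOf a = p) (hab : Commute a b) :
    (orderOf b).primeFactors ⊆ (Nat.card (Matrix.SpecialLinearGroup (Fin (n - 2)) F)).primeFactors := by
  exact main p n hn a b ha hab

end Cfsg.Agent.S2364
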