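import Cfsg.Statements.S0246
-- import your own Cfsg.Agent.* helpers here
import Mathlib
import Cfsg.Agent.Lib.Helper5.Symp

set_option autoImplicit false
open Cfsg

namespace Cfsg.Agent.S0246

open Matrix Cfsg.Agent.Lib.Helper5

/-- central elements act as scalars on each vector -/
theorem center_eigen {F : Type*} [Field F] (m : ℕ)
    (z : Matrix.symplecticGroup (Fin m) F) (hz : z ∈ Subgroup.center (Matrix.symplecticGroup (Fin m) F))
    (v : Fin m ⊕ Fin m → F) (hv : v ≠ 0) :
    ∃ c : F, c • v = (z : Matrix (Fin m ⊕ Fin m) (Fin m ⊕ Fin m) F) *ᵥ v := by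
  obtain ⟨a, ha⟩ := sympForm_nondeg v hv
  have ha' : Cfsg.sympForm m F a v ≠ 0 := by
    rw [sympForm_swap]; exact neg_ne_zero.mpr ha
  let T : Matrix.symplecticGroup (Fin m) F := ⟨Cfsg.sympTransvection m v 1, sympTransvection_mem m v 1⟩
  have hcomm := Subgroup.mem_center_iff.mp hz T
  have hmat : Cfsg.sympTransvection m v 1 * (z : Matrix (Fin m ⊕ Fin m) (Fin m ⊕ Fin m) F) =
      (z : Matrix (Fin m ⊕ Fin m) (Fin m ⊕ Fin m) F) * Cfsg.sympTransvection m v 1 :=
    congrArg Subtype.val hcomm
  have h1 := congrArg (fun M => M *ᵥ a) hmat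
  simp only [← Matrix.mulVec_mulVec, sympTransvection_mulVec, one_mul, Matrix.mulVec_add,
    Matrix.mulVec_smul] at h1
  -- z a + ω(z a, v) v = z a + ω(a, v) z v
  have h2 : Cfsg.sympForm m F ((z : Matrix (Fin m ⊕ Fin m) (Fin m ⊕ Fin m) F) *ᵥ a) v • v =
      Cfsg.sympForm m F a v • ((z : Matrix (Fin m ⊕ Fin m) (Fin m ⊕ Fin m) F) *ᵥ v) :=
    add_left_cancel h1
  refine ⟨(Cfsg.sympForm m F a v)⁻¹ * Cfsg.sympForm m F ((z : Matrix (Fin m ⊕ Fin m) (Fin m ⊕ Fin m) F) *ᵥ a) v, ?_⟩
  rw [mul_smul, h2, smul_smul, inv_mul_cancel₀ ha', one_smul]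

theorem center_scalar {F : Type*} [Field F] (m : ℕ) (hm : 1 ≤ m)
    (z : Matrix.symplecticGroup (Fin m) F) (hz : z ∈ Subgroup.center (Matrix.symplecticGroup (Fin m) F)) :
    (z : Matrix (Fin m ⊕ Fin m) (Fin m ⊕ Fin m) F) = 1 ∨
      (z : Matrix (Fin m ⊕ Fin m) (Fin m ⊕ Fin m) F) = -1 := by
  set Z := (z : Matrix (Fin m ⊕ Fin m) (Fin m ⊕ Fin m) F) with hZ
  obtain ⟨a, ha⟩ := (Matrix.toLin' Z).exists_eq_smul_id_of_forall_notLinearIndependent
    (fun v => by
      by_cases hv : v = 0
      · subst hv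
        intro h
        exact h.ne_zero 0 rfl
      · rw [LinearIndependent.pair_iff' hv]
        push Not
        obtain ⟨c, hc⟩ := center_eigen m z hz v hv
        exact ⟨c, by rw [hc]; rfl⟩)
  have hscalar : Z = Matrix.scalar _ a := calc
      Z = LinearMap.toMatrix' (Matrix.toLin' Z) := (LinearMap.toMatrix'_toLin' Z).symm
      _ = (algebraMap F (Module.End F (Fin m ⊕ Fin m → F)) a).toMatrix' := congrArg LinearMap.toMatrix' ha
      _ = Matrix.scalar _ a := LinearMap.toMatrix'_algebraMap a
  have hmem := SymplecticGroup.mem_iff.mp z.2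
  rw [← hZ, hscalar] at hmem
  have h00 := congrFun (congrFun hmem (Sum.inr ⟨0, by omega⟩)) (Sum.inl ⟨0, by omega⟩)
  have ha2 : a * a = 1 := by
    simp [Matrix.J, Matrix.scalar, Matrix.mul_apply, Matrix.diagonal_apply, Matrix.transpose_apply,
      Finset.sum_ite_eq, Finset.sum_ite_eq'] at h00
    exact h00
  have : (a - 1) * (a + 1) = 0 := by ring_nf; rw [← pow_two] at *; linear_combination ha2
  rcases mul_eq_zero.mp this with h | h
  · left
    rw [hscalar, sub_eq_zero.mp h]
    simp
  · right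
    rw [hscalar, eq_neg_of_add_eq_zero_left h]
    ext i j
    by_cases hij : i = j
    · subst hij; simp
    · simp [Matrix.diagonal_apply_ne _ hij, Matrix.one_apply_ne hij]

/-- The centre of Sp_{2m}(q), m at least 1, is {1, -1}: it has order gcd(2, q-1). -/
theorem result {F : Type*} [Field F] [Fintype F] {q : ℕ} (hF : Fintype.card F = q) (m : ℕ) (hm : 1 ≤ m) : Nat.card (Subgroup.center (Matrix.symplecticGroup (Fin m) F)) = Nat.gcd 2 (q - 1) := by
  classical
  have hcenter : ((Subgroup.center (Matrix.symplecticGroup (Fin m) F) : Subgroup _) : Set (Matrix.symplecticGroup (Fin m) F)) =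
      {1, ⟨-1, SymplecticGroup.neg_mem (one_mem _)⟩} := by
    ext z
    simp only [SetLike.mem_coe, Set.mem_insert_iff, Set.mem_singleton_iff]
    constructor
    · intro hz
      rcases center_scalar m hm z hz with h | h
      · left; exact Subtype.ext h
      · right; exact Subtype.ext h
    · rintro (rfl | rfl)
      · exact one_mem _
      · rw [Subgroup.mem_center_iff]
        intro g
        apply Subtype.ext
        show (g : Matrix (Fin m ⊕ Fin m) (Fin m ⊕ Fin m) F) * (-1) = (-1) * (g : Matrix (Fin m ⊕ Fin m) (Fin m ⊕ Fin m) F)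
        simp
  have hcard : Nat.card (Subgroup.center (Matrix.symplecticGroup (Fin m) F)) =
      ((Subgroup.center (Matrix.symplecticGroup (Fin m) F) : Subgroup _) : Set (Matrix.symplecticGroup (Fin m) F)).ncard := by
    rw [← Nat.card_coe_set_eq]
    rfl
  rw [hcard, hcenter]
  have hq1 : 1 < q := by rw [← hF]; exact Fintype.one_lt_card
  by_cases h2 : (2 : F) = 0
  · -- char 2
    have hneg : (⟨-1, SymplecticGroup.neg_mem (one_mem _)⟩ : Matrix.symplecticGroup (Fin m) F) = 1 := by
      apply Subtype.ext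
      show (-1 : Matrix (Fin m ⊕ Fin m) (Fin m ⊕ Fin m) F) = 1
      have : (-1 : F) = 1 := by linear_combination -h2
      ext i j
      by_cases hij : i = j
      · subst hij; simp [this]
      · simp [Matrix.one_apply_ne hij]
    rw [hneg, Set.pair_eq_singleton, Set.ncard_singleton]
    -- q even
    have hqeven : Even q := by
      haveI : CharP F 2 := CharTwo.of_one_ne_zero_of_two_eq_zero one_ne_zero h2
      obtain ⟨n, hp, hc⟩ := FiniteField.card F 2
      rw [← hF, hc]
      exact (Nat.even_pow.mpr ⟨even_two, n.ne_zero⟩)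
    have : Odd (q - 1) := by
      obtain ⟨k, hk⟩ := hqeven
      exact ⟨k - 1, by omega⟩
    exact (Nat.Coprime.gcd_eq_one (Nat.coprime_two_left.mpr this)).symm
  · have hne : (1 : Matrix.symplecticGroup (Fin m) F) ≠ ⟨-1, SymplecticGroup.neg_mem (one_mem _)⟩ := by
      intro h
      have h1 := congrArg Subtype.val h
      have h3 := congrFun (congrFun h1 (Sum.inl ⟨0, by omega⟩)) (Sum.inl ⟨0, by omega⟩)
      simp at h3
      apply h2
      linear_combination h3
    rw [Set.ncard_pair hne]
    -- q odd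
    have hqodd : Odd q := by
      by_contra hne
      have heven : Even q := Nat.not_odd_iff_even.mp hne
      apply h2
      have : ((q : ℕ) : F) = 0 := by rw [← hF]; exact Nat.cast_card_eq_zero F
      obtain ⟨p, hp⟩ := CharP.exists F
      haveI := hp
      obtain ⟨n, hprime, hc⟩ := FiniteField.card F p
      have h2q : 2 ∣ p ^ (n : ℕ) := by rw [← hc, hF]; exact heven.two_dvd
      have h2p : 2 ∣ p := Nat.Prime.dvd_of_dvd_pow Nat.prime_two h2q
      have : p = 2 := ((Nat.prime_dvd_prime_iff_eq Nat.prime_two hprime).mp h2p).symm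
      subst this
      exact_mod_cast CharP.cast_eq_zero F 2
    obtain ⟨k, hk⟩ := hqodd
    have : q - 1 = 2 * k := by omega
    rw [this]
    have hk1 : 1 ≤ k := by omega
    exact (Nat.gcd_eq_left (Dvd.intro k rfl)).symm

end Cfsg.Agent.S0246
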