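import Cfsg.Statements.S3031
import Mathlib
import Cfsg.Agent.Lib.Helper11.HSubC
-- import your own Cfsg.Agent.* helpers here

set_option autoImplicit false
open Cfsg

namespace Cfsg.Agent.S3031

open Cfsg.Agent.Lib.Helper11.HSub Cfsg.Agent.Lib.Helper11.HAut

theorem cyclic_case {G : Type*} [Group G] [Finite G] {p : ℕ} [Fact p.Prime]
    (hmin : ∀ q : ℕ, q.Prime → q ∣ Nat.card G → p ≤ q) (P : Sylow p G)
    (h : IsCyclic ↥(P : Subgroup G)) : Cfsg.HasNormalPComplement p G := by
  have hp : p.Prime := Fact.out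
  have hF : Cfsg.Agent.Lib.Helper29.FrobCond p G := by
    apply Cfsg.Agent.Lib.Helper29.frobCond_of_sylow P
    intro Q hQP g hg hcop
    have hcyc : IsCyclic ↥Q :=
      isCyclic_of_injective (Subgroup.inclusion hQP) (Subgroup.inclusion_injective hQP)
    obtain ⟨q₀, hq₀⟩ := IsCyclic.exists_generator (α := ↥Q)
    have hcop1 := coprime_pred_of_hmin hmin g hcop
    -- order of q₀
    obtain ⟨e, he⟩ : ∃ e : ℕ, orderOf (q₀ : G) = p ^ e := by
      obtain ⟨k, hk⟩ := (P.2.to_le hQP) q₀
      have hk' : (q₀ : G) ^ p ^ k = 1 := by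
        have := congrArg Subtype.val hk
        simpa using this
      exact (Nat.dvd_prime_pow hp).mp (orderOf_dvd_of_pow_eq_one hk') |>.imp fun j hj => hj.2
    have hmem : (MulAut.conj g) (q₀ : G) ∈ Subgroup.zpowers (q₀ : G) := by
      have h1 : g * (q₀ : G) * g⁻¹ ∈ Q := (Subgroup.mem_normalizer_iff.mp hg _).mp q₀.2
      obtain ⟨k, hk⟩ := Subgroup.mem_zpowers_iff.mp (hq₀ ⟨_, h1⟩)
      rw [MulAut.conj_apply]
      refine Subgroup.mem_zpowers_iff.mpr ⟨k, ?_⟩
      have := congrArg Subtype.val hk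
      simpa using this
    have hpow : (MulAut.conj g) ^ orderOf g = 1 := by
      rw [← map_pow, pow_orderOf_eq_one, map_one]
    have hfix := fix_of_mem_zpowers' (MulAut.conj g) (q₀ : G) e he hmem (orderOf g) hpow hcop hcop1
    rw [MulAut.conj_apply] at hfix
    have hcomm : g * (q₀ : G) = (q₀ : G) * g := by
      calc g * (q₀ : G) = g * (q₀ : G) * g⁻¹ * g := by group
        _ = (q₀ : G) * g := by rw [hfix]
    rw [Subgroup.mem_centralizer_iff]
    intro x hx
    obtain ⟨k, hk⟩ := Subgroup.mem_zpowers_iff.mp (hq₀ ⟨x, hx⟩)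
    have hx' : x = (q₀ : G) ^ k := by
      have := congrArg Subtype.val hk
      simpa using this.symm
    rw [hx']
    exact ((Commute.zpow_right (show Commute g (q₀ : G) from hcomm) k).eq).symm
  obtain ⟨N, hN, hc⟩ := hF.exists_normal_complement P
  exact ⟨P, N, hN, hc⟩


/-- Let G be a finite group, p the smallest prime dividing |G| and P a Sylow p-subgroup. Suppose that P is cyclic, or that P has a subgroup D with 1 < |D| < |P| such that every subgroup E of P of order |D|, and also every subgroup E of P of order 4 when |D| = 2, satisfies g E g⁻¹ ∩ N_G(E) ≤ E for all g ∈ G (E is strongly closed in its normalizer with respect to G). Then G has a normal p-complement. -/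
theorem result {G : Type*} [Group G] [Finite G] {p : ℕ} [Fact p.Prime] (hdiv : p ∣ Nat.card G)
    (hmin : ∀ q : ℕ, q.Prime → q ∣ Nat.card G → p ≤ q) (P : Sylow p G)
    (h : IsCyclic ↥(P : Subgroup G) ∨ ∃ D : Subgroup G, D ≤ (P : Subgroup G) ∧ 1 < Nat.card D ∧ Nat.card D < Nat.card (P : Subgroup G) ∧
      ∀ E : Subgroup G, E ≤ (P : Subgroup G) → (Nat.card E = Nat.card D ∨ (Nat.card D = 2 ∧ Nat.card E = 4)) →
        ∀ g : G, E.map (MulAut.conj g).toMonoidHom ⊓ Subgroup.normalizer (E : Set G) ≤ E) :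
    Cfsg.HasNormalPComplement p G := by
  rcases h with h | ⟨D, hDP, hD1, hDlt, hH⟩
  · exact cyclic_case hmin P h
  · have hp : p.Prime := Fact.out
    obtain ⟨d, hd⟩ := IsPGroup.iff_card.mp (P.2.to_le hDP)
    have hd1 : 1 ≤ d := by
      by_contra hcon
      have : d = 0 := by omega
      rw [this, pow_zero] at hd
      omega
    have hyp : HHyp p P d := by
      refine ⟨hmin, hd1, by rw [← hd]; exact hDlt, ?_, ?_⟩
      · intro E hEP hE
        exact hH E hEP (Or.inl (by rw [hE, hd]))
      · intro h2 E hEP hE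
        exact hH E hEP (Or.inr ⟨by rw [hd]; exact h2, hE⟩)
    exact hasNormalPComplement_of_hHyp hyp

end Cfsg.Agent.S3031
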