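import Cfsg.Statements.S0865
-- import your own Cfsg.Agent.* helpers here

import Mathlib
import Cfsg.Agent.Lib.Helper6.LinExt

set_option autoImplicit false
open Cfsg

namespace Cfsg.Agent.S0865

open Cfsg.Agent.Lib.Helper6 Cfsg.Agent.CharLib

/-- Abstract version: a restriction map `res : A →* B` of commutative groups whose kernel is killed
by `d`, an element `Λ` of order coprime to `d` with `Λ ^ d` in the image. -/
theorem abstract_ext {A B : Type*} [CommGroup A] [CommGroup B] (res : A →* B) (d : ℕ)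
    (hkill : ∀ ν : A, res ν = 1 → ν ^ d = 1) (Λ : B) (μ₀ : A) (hμ₀ : res μ₀ = Λ ^ d)
    (hcop : Nat.Coprime d (orderOf Λ)) :
    ∃ μ : A, res μ = Λ ∧ orderOf μ = orderOf Λ ∧
      ∀ M' : A, res M' = Λ → Nat.Coprime d (orderOf M') → M' = μ := by
  obtain ⟨m, hm⟩ := exists_pow_eq_self_of_coprime hcop
  have hΛo : Λ ^ orderOf Λ = 1 := pow_orderOf_eq_one Λ
  have hμ₁ : res (μ₀ ^ m) = Λ := by rw [map_pow, hμ₀, hm]
  have hμ : res ((μ₀ ^ m) ^ (d * m)) = Λ := by
    rw [map_pow, hμ₁, pow_mul, hm]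
  have hμo : ((μ₀ ^ m) ^ (d * m)) ^ orderOf Λ = 1 := by
    have h2 : res ((μ₀ ^ m) ^ orderOf Λ) = 1 := by rw [map_pow, hμ₁, hΛo]
    have h3 := hkill _ h2
    have h4 : ((μ₀ ^ m) ^ (d * m)) ^ orderOf Λ = ((((μ₀ ^ m)) ^ orderOf Λ) ^ d) ^ m := by
      generalize μ₀ ^ m = x
      rw [← pow_mul, ← pow_mul, ← pow_mul]
      congr 1
      ring
    rw [h4, h3, one_pow]
  have hord : orderOf ((μ₀ ^ m) ^ (d * m)) = orderOf Λ := by
    apply Nat.dvd_antisymm
    · exact orderOf_dvd_of_pow_eq_one hμo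
    · apply orderOf_dvd_of_pow_eq_one
      rw [← hμ, ← map_pow, pow_orderOf_eq_one, map_one]
  refine ⟨(μ₀ ^ m) ^ (d * m), hμ, hord, ?_⟩
  intro M' hresM' hcop'
  set μ := (μ₀ ^ m) ^ (d * m) with hμdef
  have hν1 : res (M' * μ⁻¹) = 1 := by
    rw [map_mul, map_inv, hresM', hμ, mul_inv_cancel]
  have hν2 : (M' * μ⁻¹) ^ d = 1 := hkill _ hν1
  have hν3 : (M' * μ⁻¹) ^ (orderOf M' * orderOf Λ) = 1 := by
    rw [mul_pow, inv_pow, pow_mul, pow_orderOf_eq_one, one_pow, mul_comm (orderOf M'), pow_mul,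
      hμo, one_pow, inv_one, mul_one]
  have hcop2 : Nat.Coprime d (orderOf M' * orderOf Λ) := Nat.Coprime.mul_right hcop' hcop
  have hd1 : orderOf (M' * μ⁻¹) ∣ d := orderOf_dvd_of_pow_eq_one hν2
  have hd2 : orderOf (M' * μ⁻¹) ∣ orderOf M' * orderOf Λ := orderOf_dvd_of_pow_eq_one hν3
  have hd3 : orderOf (M' * μ⁻¹) = 1 := Nat.eq_one_of_dvd_coprimes hcop2 hd1 hd2
  have hν : M' * μ⁻¹ = 1 := orderOf_eq_one_iff.mp hd3
  exact mul_inv_eq_one.mp hν

/-- Let N be a normal subgroup of the finite group G and λ a character of N of degree 1, invariant under conjugation by G, whose order (under pointwise multiplication) is coprime to the index of N. Then there is a character μ of G of degree 1 restricting to λ with the same order as λ, and μ is the only degree-1 character of G restricting to λ whose order is coprime to the index of N. -/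
theorem result {G : Type*} [Group G] [Finite G] (N : Subgroup G) [hN : N.Normal] (lam : N → ℂ) (hlam : Cfsg.IsCharacter N lam ∧ lam 1 = 1) (hinv : ∀ (g : G) (n : N), lam ⟨g * n * g⁻¹, hN.conj_mem (n : G) n.2 g⟩ = lam n) (hcop : Nat.Coprime N.index (orderOf lam)) : ∃ μ : G → ℂ, (Cfsg.IsCharacter G μ ∧ μ 1 = 1 ∧ (∀ n : N, μ n = lam n) ∧ orderOf μ = orderOf lam) ∧ ∀ μ' : G → ℂ, Cfsg.IsCharacter G μ' ∧ μ' 1 = 1 → (∀ n : N, μ' n = lam n) → Nat.Coprime N.index (orderOf μ') → μ' = μ := by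
  classical
  obtain ⟨hchar, h1⟩ := hlam
  let Λ : N →* ℂˣ := linCharUnitsHom hchar h1
  have hΛinv : ∀ (g : G) (n : N), Λ ⟨g * n * g⁻¹, le_refl N (hN.conj_mem n n.2 g)⟩ = Λ ⟨n, le_refl N n.2⟩ := by
    intro g n
    apply Units.ext
    exact hinv g n
  have horder : orderOf lam = orderOf Λ := by
    rw [← orderOf_unitsHomToFun Λ]
    rfl
  rw [horder] at hcop
  -- restriction
  let res : (G →* ℂˣ) →* (N →* ℂˣ) := MonoidHom.compHom' N.subtype
  have hres : ∀ (μ : G →* ℂˣ) (n : N), res μ n = μ (n : G) := fun μ n => rfl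
  have hkill : ∀ ν : G →* ℂˣ, res ν = 1 → ν ^ N.index = 1 := by
    intro ν hν
    apply pow_index_eq_one_of_trivial_on ν
    intro n
    have := DFunLike.congr_fun hν n
    exact this
  -- the transfer
  let μ₀ : G →* ℂˣ := MonoidHom.transfer Λ
  have hμ₀ : res μ₀ = Λ ^ N.index := by
    apply MonoidHom.ext
    intro n
    rw [hres, MonoidHom.pow_apply]
    exact transfer_apply_of_mem_normal (le_refl N) Λ hΛinv n
  obtain ⟨μ, hμ, hord, huniq⟩ := abstract_ext res N.index hkill Λ μ₀ hμ₀ hcop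
  refine ⟨unitsHomToFun G μ, ⟨isCharacter_of_hom μ, ?_, ?_, ?_⟩, ?_⟩
  · rw [unitsHomToFun_apply, map_one, Units.val_one]
  · intro n
    rw [unitsHomToFun_apply, ← hres, hμ]
    rfl
  · rw [orderOf_unitsHomToFun, hord, horder]
  · rintro μ' ⟨hchar', h1'⟩ hres' hcop'
    let M' : G →* ℂˣ := linCharUnitsHom hchar' h1'
    have hM' : unitsHomToFun G M' = μ' := rfl
    have hordM' : orderOf M' = orderOf μ' := by rw [← orderOf_unitsHomToFun M']; rfl
    have hresM' : res M' = Λ := by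
      apply MonoidHom.ext
      intro n
      apply Units.ext
      exact hres' n
    rw [← hordM'] at hcop'
    rw [← hM', huniq M' hresM' hcop']

end Cfsg.Agent.S0865
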