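import Cfsg.Statements.S0866
-- import your own Cfsg.Agent.* helpers here

import Mathlib
import Cfsg.Agent.Lib.Helper6.ProjExt
import Cfsg.Agent.Lib.Helper6.DetExtSolv

set_option autoImplicit false
open Cfsg

namespace Cfsg.Agent.S0866

open Cfsg.Agent.Lib.Helper6 Cfsg.Agent.CharLib

/-- Let N be a normal subgroup of the finite group G and ϑ an irreducible character of N, invariant under conjugation by G, of degree d coprime to the index of N. Then ϑ is the restriction of an irreducible character of G if and only if the determinantal character of ϑ is the restriction of a character of G of degree 1. -/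
theorem result {G : Type*} [Group G] [Finite G] (N : Subgroup G) [hN : N.Normal] (ϑ : N → ℂ) (hϑ : Cfsg.IsIrrCharacter N ϑ) (hinv : ∀ (g : G) (n : N), ϑ ⟨g * n * g⁻¹, hN.conj_mem (n : G) n.2 g⟩ = ϑ n) (d : ℕ) (hd : ϑ 1 = d) (hcop : Nat.Coprime N.index d) : (∃ χ : G → ℂ, Cfsg.IsIrrCharacter G χ ∧ (∀ n : N, χ n = ϑ n)) ↔ ∃ μ : G → ℂ, Cfsg.IsCharacter G μ ∧ μ 1 = 1 ∧ ∀ n : N, μ n = Cfsg.detChar ϑ n := by
  classical
  have hinv' : ∀ g : G, Cfsg.Agent.Lib.Helper6.conjFun N g ϑ = ϑ := by
    intro g
    funext n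
    rw [conjFun_apply]
    exact hinv g n
  constructor
  · rintro ⟨χ, hχ, hχN⟩
    have hχc := IsIrrCharacter.isCharacter hχ
    refine ⟨detChar χ, (detChar_isCharacter hχc).1, (detChar_isCharacter hχc).2, ?_⟩
    intro n
    have h1 : resFun N χ = ϑ := funext hχN
    have h2 := detChar_resFun N hχc
    rw [h1] at h2
    rw [h2]
    rfl
  · rintro ⟨μ, hμ, hμ1, hμN⟩
    apply exists_irr_extension_of_coprime N hϑ hinv
    intro p hp
    haveI : Fact p.Prime := ⟨hp⟩
    let Q : Sylow p (G ⧸ N) := default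
    let P : Subgroup G := (Q : Subgroup (G ⧸ N)).comap (QuotientGroup.mk' N)
    have hNP : N ≤ P := by
      intro n hn
      change ((n : G) : G ⧸ N) ∈ (Q : Subgroup (G ⧸ N))
      rw [(QuotientGroup.eq_one_iff n).mpr hn]
      exact one_mem _
    have hPidx : P.index = (Q : Subgroup (G ⧸ N)).index :=
      Subgroup.index_comap_of_surjective _ (QuotientGroup.mk'_surjective N)
    have hcopP : Nat.Coprime P.index p := by
      rw [hPidx]
      exact ((Nat.Prime.coprime_iff_not_dvd hp).mpr Q.not_dvd_index).symm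
    have hPidx0 : P.index ≠ 0 := Subgroup.index_ne_zero_of_finite
    have hpg : IsPGroup p (P ⧸ N.subgroupOf P) := by
      obtain ⟨k, hk⟩ := IsPGroup.iff_card.mp Q.isPGroup'
      apply IsPGroup.of_card (n := k)
      rw [← Subgroup.index_eq_card]
      change N.relIndex P = p ^ k
      have h1 : N.relIndex P * P.index = N.index := Subgroup.relIndex_mul_index hNP
      have h2 : Nat.card Q * (Q : Subgroup (G ⧸ N)).index = Nat.card (G ⧸ N) :=
        Subgroup.card_mul_index _
      rw [← hPidx, hk, ← Subgroup.index_eq_card N, ← h1] at h2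
      exact (Nat.eq_of_mul_eq_mul_right (Nat.pos_of_ne_zero hPidx0) h2).symm
    have hnil : Group.IsNilpotent (P ⧸ N.subgroupOf P) := hpg.isNilpotent
    have hsolv : Group.IsSolvable (P ⧸ N.subgroupOf P) := IsNilpotent.to_isSolvable
    let e : N.subgroupOf P ≃* N := Subgroup.subgroupOfEquivOfLe hNP
    have hϑ' : IsIrrCharacter (N.subgroupOf P) (ϑ ∘ e) := isIrrCharacter_comp_mulEquiv' e hϑ
    have hinv'' : ∀ m : P, Cfsg.Agent.Lib.Helper6.conjFun (N.subgroupOf P) m (ϑ ∘ e) = ϑ ∘ e := by
      intro m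
      rw [conjFun_subgroupOf, hinv']
    have hd' : (ϑ ∘ e) 1 = d := by
      rw [Function.comp_apply, map_one, hd]
    have hcop' : Nat.Coprime (N.subgroupOf P).index d := by
      have h1 : (N.subgroupOf P).index ∣ N.index := Subgroup.relIndex_dvd_index_of_le hNP
      exact Nat.Coprime.coprime_dvd_left h1 hcop
    have hμc' : IsCharacter P (resFun P μ) := isCharacter_resFun P hμ
    have hμ1' : resFun P μ 1 = 1 := hμ1
    have hμN' : resFun (N.subgroupOf P) (resFun P μ) = detChar (ϑ ∘ e) := by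
      have h1 : detChar (ϑ ∘ e) = detChar ϑ ∘ e :=
        detChar_comp_hom e.toMonoidHom (IsIrrCharacter.isCharacter hϑ)
      rw [h1]
      funext x
      exact hμN (e x)
    obtain ⟨η, hη, hηN⟩ := exists_extension_of_det_extends (N.subgroupOf P) hsolv hϑ' hinv''
      hd' hcop' hμc' hμ1' hμN'
    refine ⟨P, hNP, η, hcopP, hη, ?_⟩
    intro n
    have := congrFun hηN ⟨⟨n, hNP n.2⟩, n.2⟩
    exact this

end Cfsg.Agent.S0866
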