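import Cfsg.Statements.S3971
import Cfsg.Agent.S0499
import Cfsg.Agent.Lib.Helper29.Frobenius
import Cfsg.Agent.Lib.Helper29.PrimePowerElement
import Cfsg.Agent.Lib.Helper16.StronglyEmbedded
import Cfsg.Agent.Lib.Helper4.Basic

set_option autoImplicit false
open Cfsg

namespace Cfsg.Agent.S3971

open Subgroup

/-- counting lemma -/
theorem le_centralizer_of_card_lt {G : Type*} [Group G] [Finite G] (Q E : Subgroup G) (g : G)
    (hg : g ∈ normalizer (Q : Set G)) (r k : ℕ) (hr : r.Prime) (ho : orderOf g = r ^ k)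
    (hcop : (Nat.card Q).Coprime r) (hEQ : E ≤ Q) (hEc : E ≤ centralizer (zpowers g : Set G))
    (hlt : Nat.card Q < r * Nat.card E) : Q ≤ centralizer (zpowers g : Set G) := by
  have : Fact r.Prime := ⟨hr⟩
  set F : Subgroup G := Q ⊓ centralizer (zpowers g : Set G) with hF
  have hmod : Nat.card Q ≡ Nat.card F [MOD r] := Cfsg.Agent.S0499.card_modEq_card_fixed Q g hg r k ho
  have hEF : E ≤ F := le_inf hEQ hEc
  have hFQ : F ≤ Q := inf_le_left
  have hcE : Nat.card E ≤ Nat.card F := Subgroup.card_le_of_le hEF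
  obtain ⟨t, ht⟩ := Subgroup.card_dvd_of_le hFQ
  have hFpos : 0 < Nat.card F := Nat.card_pos
  have htr : t < r := by
    by_contra hcon
    push Not at hcon
    have : r * Nat.card E ≤ Nat.card Q := by
      rw [ht]
      calc r * Nat.card E ≤ t * Nat.card F := Nat.mul_le_mul hcon hcE
        _ = Nat.card F * t := Nat.mul_comm _ _
    omega
  have hcopF : (Nat.card F).Coprime r := Nat.Coprime.coprime_dvd_left ⟨t, ht⟩ hcop
  have h1 : Nat.card F * t ≡ Nat.card F * 1 [MOD r] := by
    rw [← ht, mul_one]; exact hmod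
  have h2 : t ≡ 1 [MOD r] :=
    Nat.ModEq.cancel_left_of_coprime (by rw [Nat.gcd_comm]; exact hcopF) h1
  have ht1 : t = 1 := Nat.ModEq.eq_of_lt_of_lt h2 htr hr.one_lt
  have hFeq : F = Q := Subgroup.eq_of_le_of_card_ge hFQ (by rw [ht, ht1, mul_one])
  rw [← hFeq]
  exact inf_le_right

/-- an element of odd prime power order normalizing a cyclic 2-group centralizes it -/
theorem zpowers_le_centralizer_of_two_pow {G : Type*} [Group G] [Finite G] (g : G)
    (r k : ℕ) (hr : r.Prime) (hr3 : 3 ≤ r) (ho : orderOf g = r ^ k) :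
    ∀ (m : ℕ) (c : G), orderOf c = 2 ^ m → g ∈ normalizer (zpowers c : Set G) →
      zpowers c ≤ centralizer (zpowers g : Set G) := by
  intro m
  induction m with
  | zero =>
    intro c hc _
    rw [pow_zero, orderOf_eq_one_iff] at hc
    rw [hc, zpowers_one_eq_bot]
    exact bot_le
  | succ m ih =>
    intro c hc hg
    have hc2 : orderOf (c ^ 2) = 2 ^ m := by
      rw [orderOf_pow, hc, pow_succ, Nat.gcd_mul_left_left, Nat.mul_div_cancel _ (by norm_num)]
    have hle : zpowers (c ^ 2) ≤ zpowers c := zpowers_le_of_mem (npow_mem_zpowers c 2)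
    have hg2 : g ∈ normalizer (zpowers (c ^ 2) : Set G) := by
      apply Cfsg.Agent.Lib.Helper16.mem_normalizer_of_map_conj_le
      rw [MonoidHom.map_zpowers]
      apply zpowers_le_of_mem
      have h1 : g * c * g⁻¹ ∈ zpowers c :=
        (Subgroup.mem_normalizer_iff.mp hg c).mp (mem_zpowers c)
      obtain ⟨j, hj⟩ := Subgroup.mem_zpowers_iff.mp h1
      rw [Subgroup.mem_zpowers_iff]
      refine ⟨j, ?_⟩
      change (c ^ 2) ^ j = g * c ^ 2 * g⁻¹
      have : g * c ^ 2 * g⁻¹ = (g * c * g⁻¹) ^ 2 := by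
        rw [conj_pow]
      rw [this, ← hj, ← zpow_natCast, ← zpow_natCast, ← zpow_mul, ← zpow_mul, mul_comm]
    have hE := ih (c ^ 2) hc2 hg2
    have hr2 : r ≠ 2 := by omega
    refine le_centralizer_of_card_lt (zpowers c) (zpowers (c ^ 2)) g hg r k hr ho ?_ hle hE ?_
    · rw [Nat.card_zpowers, hc]
      exact Nat.Coprime.pow_left _ ((Nat.coprime_primes Nat.prime_two hr).mpr (Ne.symm hr2))
    · rw [Nat.card_zpowers, Nat.card_zpowers, hc, hc2, pow_succ]
      have : 0 < 2 ^ m := by positivity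
      nlinarith

/-- an element of prime power order `r ^ k`, `r ≥ 5`, normalizing a 2-group with a cyclic subgroup
of index at most 2 centralizes it -/
theorem le_centralizer_of_cyclic_index_two {G : Type*} [Group G] [Finite G] (Q : Subgroup G)
    (hQ : IsPGroup 2 Q) (c : G) (hcQ : c ∈ Q) (hcard : Nat.card Q ≤ 2 * orderOf c) (g : G)
    (hg : g ∈ normalizer (Q : Set G))
    (r k : ℕ) (hr : r.Prime) (hr5 : 5 ≤ r) (ho : orderOf g = r ^ k) :
    Q ≤ centralizer (zpowers g : Set G) := by
  have hCQ : zpowers c ≤ Q := zpowers_le_of_mem hcQ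
  set E : Subgroup G := Subgroup.closure {y | ∃ q ∈ Q, y = q ^ 2} with hE
  have hEQ : E ≤ Q := by
    rw [hE, Subgroup.closure_le]
    rintro y ⟨q, hq, rfl⟩
    exact Q.pow_mem hq 2
  -- squares lie in `zpowers c`
  have hsq : ∀ q ∈ Q, q ^ 2 ∈ zpowers c := by
    intro q hq
    have hmul := Cfsg.Agent.Lib.Helper4.card_mul_relIndex hCQ
    rw [Nat.card_zpowers] at hmul
    have hopos : 0 < orderOf c := orderOf_pos c
    have hle : (zpowers c).relIndex Q ≤ 2 := by
      by_contra hcon
      push Not at hcon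
      have : orderOf c * 3 ≤ orderOf c * (zpowers c).relIndex Q := Nat.mul_le_mul_left _ hcon
      omega
    have hne : (zpowers c).relIndex Q ≠ 0 := by
      intro h0
      rw [h0, mul_zero] at hmul
      exact (Nat.card_pos (α := Q)).ne' hmul.symm
    have hcases : (zpowers c).relIndex Q = 1 ∨ (zpowers c).relIndex Q = 2 := by omega
    rcases hcases with h1 | h2
    · exact (Subgroup.relIndex_eq_one.mp h1) (Q.pow_mem hq 2)
    · have := Subgroup.sq_mem_of_index_two (H := (zpowers c).subgroupOf Q) h2 ⟨q, hq⟩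
      rw [Subgroup.mem_subgroupOf] at this
      simpa using this
  have hEC : E ≤ zpowers c := by
    rw [hE, Subgroup.closure_le]
    rintro y ⟨q, hq, rfl⟩
    exact hsq q hq
  obtain ⟨n, hn⟩ := (Subgroup.le_zpowers_iff c E).mp hEC
  have hgE : g ∈ normalizer (E : Set G) := by
    apply Cfsg.Agent.Lib.Helper16.mem_normalizer_of_map_conj_le
    rw [hE, MonoidHom.map_closure, Subgroup.closure_le]
    rintro _ ⟨y, ⟨q, hq, rfl⟩, rfl⟩
    apply Subgroup.subset_closure
    refine ⟨g * q * g⁻¹, (Subgroup.mem_normalizer_iff.mp hg q).mp hq, ?_⟩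
    change g * q ^ 2 * g⁻¹ = _
    rw [conj_pow]
  have hcnQ : c ^ n ∈ Q := Q.pow_mem hcQ n
  obtain ⟨m, hm⟩ := (IsPGroup.iff_orderOf.mp hQ) ⟨c ^ n, hcnQ⟩
  rw [Subgroup.orderOf_mk] at hm
  have hEcent : E ≤ centralizer (zpowers g : Set G) := by
    rw [hn]
    rw [hn] at hgE
    exact zpowers_le_centralizer_of_two_pow g r k hr (by omega) ho m (c ^ n) hm hgE
  have hc2E : zpowers (c ^ 2) ≤ E := by
    apply zpowers_le_of_mem
    apply Subgroup.subset_closure
    exact ⟨c, hcQ, rfl⟩
  have h1 : orderOf c ≤ 2 * orderOf (c ^ 2) := by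
    rw [orderOf_pow]
    have hd : Nat.gcd (orderOf c) 2 ∣ orderOf c := Nat.gcd_dvd_left _ _
    have hle2 : Nat.gcd (orderOf c) 2 ≤ 2 := Nat.le_of_dvd (by norm_num) (Nat.gcd_dvd_right _ _)
    have hcancel := Nat.div_mul_cancel hd
    have := Nat.mul_le_mul_left (orderOf c / Nat.gcd (orderOf c) 2) hle2
    omega
  have h2 : orderOf (c ^ 2) ≤ Nat.card E := by
    rw [← Nat.card_zpowers]
    exact Subgroup.card_le_of_le hc2E
  have hEpos : 0 < Nat.card E := Nat.card_pos
  refine le_centralizer_of_card_lt Q E g hg r k hr ho ?_ hEQ hEcent ?_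
  · obtain ⟨j, hj⟩ := IsPGroup.iff_card.mp hQ
    rw [hj]
    have hr2 : r ≠ 2 := by omega
    exact Nat.Coprime.pow_left _ ((Nat.coprime_primes Nat.prime_two hr).mpr (Ne.symm hr2))
  · nlinarith

/-- Let `G` be a finite group of order `2 ^ a * n` with `n` odd and not divisible by `3`, and suppose `G` has an element of order `2 ^ (a - 1)` (so a Sylow `2`-subgroup has a cyclic subgroup of index at most `2`). Then `G` has a normal subgroup of order `n`. -/
theorem result {G : Type*} [Group G] [Finite G] (a n : ℕ) (hG : Nat.card G = 2 ^ a * n) (hn : Odd n) (h3 : ¬ 3 ∣ n) (hx : ∃ x : G, orderOf x = 2 ^ (a - 1)) : ∃ N : Subgroup G, N.Normal ∧ Nat.card N = n := by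
  obtain ⟨x, hx⟩ := hx
  have : Fact (Nat.Prime 2) := ⟨Nat.prime_two⟩
  have hCp : IsPGroup 2 (zpowers x) := IsPGroup.of_card (n := a - 1) (by rw [Nat.card_zpowers, hx])
  obtain ⟨P, hCP⟩ := hCp.exists_le_sylow
  have hn2 : ¬ 2 ∣ n := by
    intro h
    exact (Nat.not_even_iff_odd.mpr hn) (even_iff_two_dvd.mpr h)
  have hnpos : 0 < n := hn.pos
  have hPcard : Nat.card P = 2 ^ a := by
    rw [Sylow.card_eq_multiplicity, hG,
      Nat.factorization_mul (by positivity) hnpos.ne', Nat.factorization_pow]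
    simp [Nat.factorization_eq_zero_of_not_dvd hn2, Nat.prime_two.factorization_self]
  have hP2 : Nat.card P ≤ 2 * orderOf x := by
    rw [hPcard, hx]
    rcases Nat.eq_zero_or_pos a with rfl | ha
    · simp
    · obtain ⟨b, rfl⟩ : ∃ b, a = b + 1 := ⟨a - 1, by omega⟩
      simp [pow_succ, mul_comm]
  have hF : Cfsg.Agent.Lib.Helper29.FrobCond 2 G := by
    apply Cfsg.Agent.Lib.Helper29.frobCond_of_sylow P
    intro Q hQP g hg hcop
    by_contra hgc
    obtain ⟨g', hg'z, hg'c, r, k, hr, hg'o⟩ :=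
      Cfsg.Agent.Lib.Helper29.exists_prime_pow_order_not_mem (centralizer (Q : Set G)) _ g rfl hgc
    have hg'N : g' ∈ normalizer (Q : Set G) := (Subgroup.zpowers_le.mpr hg) hg'z
    have hd : orderOf g' ∣ orderOf g := by
      obtain ⟨j, rfl⟩ := Subgroup.mem_zpowers_iff.mp hg'z
      exact orderOf_dvd_of_pow_eq_one (by
        rw [← zpow_natCast, ← zpow_mul, mul_comm, zpow_mul, zpow_natCast, pow_orderOf_eq_one,
          one_zpow])
    have hk : k ≠ 0 := by
      rintro rfl
      rw [pow_zero, orderOf_eq_one_iff] at hg'o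
      rw [hg'o] at hg'c
      exact hg'c (Subgroup.one_mem _)
    have hrd : r ∣ orderOf g' := by
      rw [hg'o]; exact dvd_pow_self r hk
    have hr2 : r ≠ 2 := by
      rintro rfl
      have h2 : 2 ∣ orderOf g := hrd.trans hd
      have := Nat.eq_one_of_dvd_coprimes hcop h2 (dvd_refl 2)
      omega
    have hrG : r ∣ Nat.card G := hrd.trans (orderOf_dvd_natCard g')
    have hrn : r ∣ n := by
      rw [hG] at hrG
      rcases (Nat.Prime.dvd_mul hr).mp hrG with h | h
      · exact absurd ((Nat.prime_dvd_prime_iff_eq hr Nat.prime_two).mp (hr.dvd_of_dvd_pow h)) hr2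
      · exact h
    have hr3 : r ≠ 3 := by
      rintro rfl
      exact h3 hrn
    have hr5 : 5 ≤ r := by
      have := hr.two_le
      by_contra hcon
      push Not at hcon
      have : r = 4 := by omega
      subst this
      norm_num at hr
    -- the cyclic subgroup of index ≤ 2 in Q
    obtain ⟨j, hj⟩ := (Subgroup.le_zpowers_iff x (Q ⊓ zpowers x)).mp inf_le_right
    have hcQ : x ^ j ∈ Q := by
      have : x ^ j ∈ Q ⊓ zpowers x := by rw [hj]; exact mem_zpowers _
      exact this.1
    have hQcard : Nat.card Q ≤ 2 * orderOf (x ^ j) := by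
      rw [← Nat.card_zpowers, ← hj]
      have h1 := Cfsg.Agent.Lib.Helper4.card_mul_relIndex (inf_le_left : Q ⊓ zpowers x ≤ Q)
      rw [Subgroup.inf_relIndex_left] at h1
      have h2 := Cfsg.Agent.Lib.Helper4.card_mul_relIndex hCP
      rw [Nat.card_zpowers] at h2
      have hri : (zpowers x).relIndex P ≤ 2 := by
        by_contra hcon
        push Not at hcon
        have : orderOf x * 3 ≤ orderOf x * (zpowers x).relIndex P := Nat.mul_le_mul_left _ hcon
        have := orderOf_pos x
        omega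
      have hne : (zpowers x).relIndex P ≠ 0 := by
        intro h0
        rw [h0, mul_zero] at h2
        exact (Nat.card_pos (α := P)).ne' h2.symm
      have hle := Subgroup.relIndex_le_of_le_right hQP hne
      rw [← h1]
      rw [mul_comm]
      exact Nat.mul_le_mul_right _ (hle.trans hri)
    have hQp : IsPGroup 2 Q := P.2.to_le hQP
    have := le_centralizer_of_cyclic_index_two Q hQp (x ^ j) hcQ hQcard g' hg'N r k hr hr5 hg'o
    apply hg'c
    rw [Subgroup.mem_centralizer_iff]
    intro y hy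
    have hy' := this hy
    rw [Subgroup.mem_centralizer_iff] at hy'
    exact (hy' g' (mem_zpowers g')).symm
  obtain ⟨N, hNn, hNc⟩ := hF.exists_normal_complement P
  refine ⟨N, hNn, ?_⟩
  have := hNc.card_mul_card
  rw [hPcard, hG, mul_comm] at this
  exact Nat.eq_of_mul_eq_mul_left (by positivity) this

end Cfsg.Agent.S3971
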