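import Cfsg.Statements.S0514
import Cfsg.Agent.Lib.Helper29.DihedralLike
import Cfsg.Agent.Lib.Helper29.MinNonPNilpotent

set_option autoImplicit false
open Cfsg

namespace Cfsg.Agent.S0514

open Subgroup Cfsg.Agent.Lib.Helper29

/-- In a finite group whose Sylow 2-subgroups are dihedral of order at least 4, the centralizer of any involution has a
normal subgroup of odd order whose index in the centralizer is a power of 2. -/
theorem result {X : Type*} [Group X] [Finite X]
    (S : Sylow 2 X) (n : ℕ) (hn : 2 ≤ n) (hS : Nonempty ((S : Subgroup X) ≃* DihedralGroup n)) (t : X)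
    (ht : orderOf t = 2) :
    ∃ N : Subgroup (Subgroup.centralizer ({t} : Set X)), N.Normal ∧ Odd (Nat.card N) ∧ ∃ k : ℕ, N.index = 2 ^ k := by
  have : Fact (Nat.Prime 2) := ⟨Nat.prime_two⟩
  obtain ⟨eS⟩ := hS
  have hSd : DihLike (S : Subgroup X) := dihLike_of_mulEquiv_dihedralGroup _ n eS
  set C : Subgroup X := Subgroup.centralizer ({t} : Set X) with hC
  have ht1 : t ≠ 1 := by
    rintro rfl
    rw [orderOf_one] at ht
    omega
  have ht2 : t ^ 2 = 1 := by rw [← ht]; exact pow_orderOf_eq_one t
  have hCt : ∀ x ∈ C, x * t = t * x := by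
    intro x hx
    rw [hC, Subgroup.mem_centralizer_iff] at hx
    exact (hx t rfl).symm
  have hF : FrobCond 2 C := by
    intro Q' hQ' g' hg' hcop
    set Q : Subgroup X := Q'.map C.subtype with hQ
    have hQ2 : IsPGroup 2 Q := hQ'.map _
    have hQd : DihLike Q := DihLike.of_isPGroup S hSd Q hQ2
    have hgo : (orderOf (g' : X)).Coprime 2 := by rwa [Subgroup.orderOf_coe]
    have hgN : (g' : X) ∈ normalizer (Q : Set X) := by
      apply Cfsg.Agent.Lib.Helper16.mem_normalizer_of_map_conj_le
      rintro _ ⟨_, ⟨q, hq, rfl⟩, rfl⟩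
      refine ⟨g' * q * g'⁻¹, (Subgroup.mem_normalizer_iff.mp hg' q).mp hq, ?_⟩
      simp
    have hQC : Q ≤ C := Subgroup.map_subtype_le _
    -- it suffices to centralize `Q`
    suffices hgc : (g' : X) ∈ centralizer (Q : Set X) by
      rw [Subgroup.mem_centralizer_iff] at hgc ⊢
      intro q hq
      apply Subtype.ext
      have := hgc (q : X) (Subgroup.mem_map_of_mem C.subtype hq)
      simpa using this
    rcases mem_centralizer_or_isKleinFour Q hQ2 hQd g' hgN hgo with h1 | h1
    · exact h1
    · have hQ4 : Nat.card Q = 4 := h1.card_four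
      by_cases htQ : t ∈ Q
      · exact mem_centralizer_of_card_four_of_fixed Q hQ4 g' hgN hgo t htQ ht1 (hCt _ g'.2)
      · exfalso
        -- `R = Q ⊔ ⟨t⟩` is an elementary abelian 2-group of order > 4
        set R : Subgroup X := Q ⊔ zpowers t with hR
        have hZN : zpowers t ≤ normalizer (Q : Set X) := by
          apply zpowers_le_of_mem
          apply Cfsg.Agent.Lib.Helper16.mem_normalizer_of_map_conj_le
          rintro _ ⟨q, hq, rfl⟩
          change t * q * t⁻¹ ∈ Q
          have : t * q * t⁻¹ = q := by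
            rw [← hCt q (hQC hq)]; group
          rwa [this]
        have hsq : ∀ x ∈ R, x ^ 2 = 1 := by
          intro x hx
          have hx' : x ∈ ((Q ⊔ zpowers t : Subgroup X) : Set X) := hx
          rw [Subgroup.coe_mul_of_right_le_normalizer_left Q (zpowers t) hZN] at hx'
          obtain ⟨q, hq, z, hz, rfl⟩ := hx'
          have hq2 : q ^ 2 = 1 := by
            have := IsKleinFour.mul_self (⟨q, hq⟩ : Q)
            have h3 := congrArg Subtype.val this
            rw [pow_two]
            simpa using h3
          obtain ⟨i, rfl⟩ := Subgroup.mem_zpowers_iff.mp hz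
          have hcomm : Commute q (t ^ i) := (Commute.zpow_right (show Commute q t from hCt q (hQC hq)) i)
          rw [hcomm.mul_pow, hq2, ← zpow_natCast, ← zpow_mul, mul_comm, zpow_mul, zpow_natCast, ht2,
            one_zpow, one_mul]
        have hR2 : IsPGroup 2 R := by
          rintro ⟨x, hx⟩
          refine ⟨1, ?_⟩
          apply Subtype.ext
          simpa using hsq x hx
        obtain ⟨c, hcR, hcard, _⟩ := DihLike.of_isPGroup S hSd R hR2
        have hco : orderOf c ≤ 2 := orderOf_le_of_pow_eq_one (by norm_num) (hsq c hcR)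
        have hlt : Q < R := by
          refine lt_of_le_of_ne le_sup_left (fun h => htQ ?_)
          rw [h]
          exact (le_sup_right : zpowers t ≤ R) (mem_zpowers t)
        have := card_lt_card_of_lt' hlt
        omega
  obtain ⟨T⟩ : Nonempty (Sylow 2 C) := inferInstance
  obtain ⟨N, hNn, hNc⟩ := hF.exists_normal_complement T
  refine ⟨N, hNn, ?_, ?_⟩
  · rw [← hNc.index_eq_card]
    have := T.not_dvd_index
    exact Nat.odd_iff.mpr (by omega)
  · obtain ⟨k, hk⟩ := IsPGroup.iff_card.mp T.2
    exact ⟨k, by rw [hNc.symm.index_eq_card, hk]⟩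

end Cfsg.Agent.S0514
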