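import Cfsg.Statements.S2638
-- import your own Cfsg.Agent.* helpers here

set_option autoImplicit false
open Cfsg

namespace Cfsg.Agent.S2638

open Module Polynomial

/-- Centraliser of a "simple" invertible endomorphism of a nonzero finite-dimensional space over a
finite field: cyclic of order `q^n - 1`. -/
theorem simple_centralizer {F V : Type*} [Field F] [Fintype F] [AddCommGroup V] [Module F V]
    [FiniteDimensional F V] [Nontrivial V] (φu : (End F V)ˣ)
    (hφ : ∀ U : Submodule F V, (∀ u ∈ U, (φu : End F V) u ∈ U) → U = ⊥ ∨ U = ⊤) :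
    IsCyclic ↥(Subgroup.centralizer ({φu} : Set (End F V)ˣ)) ∧
      Nat.card ↥(Subgroup.centralizer ({φu} : Set (End F V)ˣ)) =
        Fintype.card F ^ finrank F V - 1 := by
  classical
  obtain ⟨φ, hφdef⟩ : ∃ φ : End F V, φ = (φu : End F V) := ⟨_, rfl⟩
  rw [← hφdef] at hφ
  let A := Algebra.adjoin F ({φ} : Set (End F V))
  have hcommS : ∀ a ∈ ({φ} : Set (End F V)), ∀ b ∈ ({φ} : Set (End F V)), a * b = b * a := by
    intro a ha b hb
    rw [Set.mem_singleton_iff] at ha hb
    rw [ha, hb]
  letI : CommRing A := Algebra.adjoinCommRingOfComm F hcommS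
  have hφA : φ ∈ A := Algebra.subset_adjoin (Set.mem_singleton φ)
  have hcomm : ∀ a : A, (a : End F V) * φ = φ * (a : End F V) := by
    intro a
    have := mul_comm a ⟨φ, hφA⟩
    exact congrArg Subtype.val this
  have hinj : ∀ a : A, a ≠ 0 → Function.Injective (a : End F V) := by
    intro a ha
    rw [← LinearMap.ker_eq_bot]
    rcases hφ (LinearMap.ker (a : End F V)) (by
      intro u hu
      rw [LinearMap.mem_ker] at hu ⊢
      have := congrArg (fun g : End F V => g u) (hcomm a)
      simp only [Module.End.mul_apply] at this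
      rw [this, hu, map_zero]) with h | h
    · exact h
    · exfalso
      apply ha
      apply Subtype.ext
      exact LinearMap.ker_eq_top.mp h
  haveI : Finite V := Module.finite_of_finite F
  haveI : Finite (End F V) :=
    Finite.of_injective (fun g : End F V => (g : V → V)) DFunLike.coe_injective
  haveI : Finite A := inferInstance
  haveI : NoZeroDivisors A := by
    refine ⟨?_⟩
    intro a b hab
    by_contra hcon
    push Not at hcon
    apply hcon.2
    apply Subtype.ext
    apply LinearMap.ext
    intro w
    have h1 : (a : End F V) ((b : End F V) w) = 0 := by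
      have := congrArg (fun g : A => (g : End F V) w) hab
      simpa using this
    have := hinj a hcon.1 (h1.trans (map_zero _).symm)
    simpa using this
  haveI : IsDomain A := NoZeroDivisors.to_isDomain A
  letI : Fintype A := Fintype.ofFinite A
  letI : Field A := Fintype.fieldOfDomain A
  obtain ⟨v, hv⟩ := exists_ne (0 : V)
  let ev : A →ₗ[F] V := (LinearMap.applyₗ v).comp A.val.toLinearMap
  have hev : ∀ a : A, ev a = (a : End F V) v := fun a => rfl
  have hevinj : Function.Injective ev := by
    rw [← LinearMap.ker_eq_bot, LinearMap.ker_eq_bot']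
    intro a ha
    by_contra hne
    exact hv (hinj a hne (ha.trans (map_zero _).symm))
  have hevsurj : Function.Surjective ev := by
    rw [← LinearMap.range_eq_top]
    rcases hφ (LinearMap.range ev) (by
      rintro _ ⟨a, rfl⟩
      refine ⟨⟨φ, hφA⟩ * a, ?_⟩
      rw [hev, hev]
      rfl) with h | h
    · exfalso
      have : ev 1 ∈ LinearMap.range ev := LinearMap.mem_range_self _ _
      rw [h, Submodule.mem_bot, hev] at this
      exact hv (by simpa using this)
    · exact h
  let e : A ≃ₗ[F] V := LinearEquiv.ofBijective ev ⟨hevinj, hevsurj⟩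
  -- the homomorphism
  let ψ : Aˣ →* (End F V)ˣ := Units.map (A.val : A →* End F V)
  have hψinj : Function.Injective ψ := by
    apply Units.map_injective
    exact Subtype.val_injective
  have hrange : ψ.range = Subgroup.centralizer ({φu} : Set (End F V)ˣ) := by
    ext c
    rw [Subgroup.mem_centralizer_iff]
    constructor
    · rintro ⟨a, rfl⟩ y hy
      rw [Set.mem_singleton_iff.mp hy]
      apply Units.ext
      show φu.val * ((a : A) : End F V) = ((a : A) : End F V) * φu.val
      rw [← hφdef]
      exact (hcomm a).symm
    · intro hc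
      have hcφ : (c : End F V) * φ = φ * (c : End F V) := by
        have := hc φu rfl
        have h2 := congrArg Units.val this
        rw [hφdef]
        exact h2.symm
      -- c commutes with all of A
      have hcA : ∀ a : A, (c : End F V) * (a : End F V) = (a : End F V) * (c : End F V) := by
        have hle : A ≤ Subalgebra.centralizer F ({(c : End F V)} : Set (End F V)) := by
          apply Algebra.adjoin_le
          intro y hy
          rw [Set.mem_singleton_iff.mp hy]
          rw [SetLike.mem_coe, Subalgebra.mem_centralizer_iff]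
          intro z hz
          rw [Set.mem_singleton_iff.mp hz]
          exact hcφ
        intro a
        have := (Subalgebra.mem_centralizer_iff F).mp (hle a.2) (c : End F V) rfl
        exact this
      obtain ⟨a₀, ha₀⟩ := hevsurj ((c : End F V) v)
      have hca : (c : End F V) = (a₀ : End F V) := by
        apply LinearMap.ext
        intro w
        obtain ⟨a, rfl⟩ := hevsurj w
        rw [hev]
        have h1 := congrArg (fun g : End F V => g v) (hcA a)
        simp only [Module.End.mul_apply] at h1
        rw [h1, ← ha₀, hev]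
        have h2 := congrArg (fun g : A => (g : End F V) v) (mul_comm a a₀)
        simpa using h2
      have ha₀ne : a₀ ≠ 0 := by
        intro h0
        rw [h0] at hca
        have : (c : End F V) = 0 := hca
        have h1 : (1 : End F V) = 0 := by rw [← c.inv_mul, this, mul_zero]
        exact one_ne_zero h1
      refine ⟨Units.mk0 a₀ ha₀ne, ?_⟩
      apply Units.ext
      exact hca.symm
  rw [← hrange]
  have eqv : Aˣ ≃* ψ.range := MonoidHom.ofInjective hψinj
  constructor
  · exact isCyclic_of_surjective eqv.toMonoidHom eqv.surjective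
  · rw [← Nat.card_congr eqv.toEquiv, Nat.card_units, Nat.card_congr e.toEquiv,
      Module.natCard_eq_pow_finrank (K := F), Nat.card_eq_fintype_card]


theorem card_modEq_fixed {F V : Type*} [Field F] [Fintype F] [AddCommGroup V] [Module F V]
    [FiniteDimensional F V] (φ : End F V) {r : ℕ} [hr : Fact r.Prime] (hφ : φ ^ r = 1) :
    Fintype.card F ^ finrank F V ≡ Fintype.card F ^ finrank F (LinearMap.ker (φ - 1)) [MOD r] := by
  classical
  haveI : Finite V := Module.finite_of_finite F
  letI : Fintype V := Fintype.ofFinite V
  let f : Function.End V := (φ : V → V)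
  have hf : f ^ r ^ 1 = 1 := by
    rw [pow_one]
    have h1 : (f ^ r : V → V) = (φ : V → V)^[r] :=
      hom_coe_pow (fun g : Function.End V ↦ (g : V → V)) rfl (fun g h ↦ rfl) f r
    have h2 : (φ : V → V)^[r] = ⇑(φ ^ r) := (Module.End.coe_pow φ r).symm
    have h3 : (f ^ r : V → V) = id := by
      rw [h1, h2, hφ]; rfl
    exact h3
  have key := Equiv.Perm.card_fixedPoints_modEq (p := r) (n := 1) hf
  have hfix : Function.fixedPoints f = (LinearMap.ker (φ - 1) : Set V) := by
    ext v
    simp only [Function.mem_fixedPoints, Function.IsFixedPt, SetLike.mem_coe, LinearMap.mem_ker,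
      LinearMap.sub_apply, Module.End.one_apply, sub_eq_zero]
    rfl
  have hc1 : Fintype.card V = Fintype.card F ^ finrank F V := Module.card_eq_pow_finrank
  have hc2 : Fintype.card (Function.fixedPoints f) =
      Fintype.card F ^ finrank F (LinearMap.ker (φ - 1)) := by
    rw [← Module.card_eq_pow_finrank (K := F) (V := LinearMap.ker (φ - 1))]
    apply Fintype.card_congr
    exact Equiv.setCongr hfix
  rw [← hc1, ← hc2]
  exact key


theorem dvd_of_pow_modEq {q r n a b : ℕ} (hi : orderOf (q : ZMod r) = n) (hn : 1 ≤ n) (hab : b ≤ a)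
    (h : q ^ a ≡ q ^ b [MOD r]) : n ∣ a - b := by
  have h1 : (q : ZMod r) ^ a = (q : ZMod r) ^ b := by
    have := (ZMod.natCast_eq_natCast_iff _ _ _).mpr h
    push_cast at this; exact this
  have hunit : IsUnit (q : ZMod r) := by
    have := pow_orderOf_eq_one (q : ZMod r); rw [hi] at this
    exact IsUnit.of_pow_eq_one this (by omega)
  rw [← hi, orderOf_dvd_iff_pow_eq_one]
  have : (q : ZMod r) ^ b * (q : ZMod r) ^ (a - b) = (q : ZMod r) ^ b * 1 := by
    rw [← pow_add, Nat.add_sub_cancel' hab, mul_one, h1]
  exact (hunit.pow b).mul_left_cancel this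

theorem simple_of_order {F V : Type*} [Field F] [Fintype F] [AddCommGroup V] [Module F V]
    [FiniteDimensional F V] (φ : End F V) {r : ℕ} [Fact r.Prime] (hφ : φ ^ r = 1) (hne : φ ≠ 1)
    (hi : orderOf (Fintype.card F : ZMod r) = finrank F V) (hn : 1 ≤ finrank F V) :
    ∀ U : Submodule F V, (∀ u ∈ U, φ u ∈ U) → U = ⊥ ∨ U = ⊤ := by
  have hker : LinearMap.ker (φ - 1) = ⊥ := by
    have h1 := card_modEq_fixed φ hφ
    have h2 := dvd_of_pow_modEq hi hn (Submodule.finrank_le _) h1
    by_contra hne'
    have hpos : 0 < finrank F (LinearMap.ker (φ - 1)) := by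
      rw [Module.finrank_pos_iff]
      exact Submodule.nontrivial_iff_ne_bot.mpr hne'
    have hle := Submodule.finrank_le (LinearMap.ker (φ - 1))
    have h0 : finrank F V - finrank F (LinearMap.ker (φ - 1)) = 0 :=
      Nat.eq_zero_of_dvd_of_lt h2 (by omega)
    have hd : finrank F (LinearMap.ker (φ - 1)) = finrank F V := by omega
    have htop : LinearMap.ker (φ - 1) = ⊤ := Submodule.eq_top_of_finrank_eq hd
    apply hne
    exact sub_eq_zero.mp (LinearMap.ker_eq_top.mp htop)
  intro U hU
  have hφU : (φ.restrict hU) ^ r = 1 := by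
    rw [Module.End.pow_restrict]
    ext u
    simp [hφ]
  have h1 := card_modEq_fixed (φ.restrict hU) hφU
  have hkU : LinearMap.ker (φ.restrict hU - 1) = ⊥ := by
    rw [LinearMap.ker_eq_bot']
    intro u hu
    have : (u : V) ∈ LinearMap.ker (φ - 1) := by
      rw [LinearMap.mem_ker, LinearMap.sub_apply]
      have := congrArg Subtype.val hu
      simpa using this
    rw [hker, Submodule.mem_bot] at this
    exact Subtype.ext this
  rw [hkU, finrank_bot, pow_zero] at h1
  have h2 := dvd_of_pow_modEq hi hn (Nat.zero_le _) (by simpa using h1)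
  by_cases hU0 : finrank F U = 0
  · left; exact Submodule.finrank_eq_zero.mp hU0
  · right
    apply Submodule.eq_top_of_finrank_eq
    have h3 := Nat.le_of_dvd (by omega) h2
    have h4 := Submodule.finrank_le U
    omega

def centEquiv {G H : Type*} [Group G] [Group H] (Φ : G ≃* H) (x : G) :
    ↥(Subgroup.centralizer ({x} : Set G)) ≃* ↥(Subgroup.centralizer ({Φ x} : Set H)) :=
  (Φ.subgroupMap (Subgroup.centralizer ({x} : Set G))).trans
    (MulEquiv.subgroupCongr (by
      ext y
      simp only [Subgroup.mem_map, Subgroup.mem_centralizer_iff, Set.mem_singleton_iff,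
        forall_eq]
      constructor
      · rintro ⟨c, hc, rfl⟩
        show Φ x * Φ c = Φ c * Φ x
        rw [← map_mul, ← map_mul, hc]
      · intro hy
        refine ⟨Φ.symm y, ?_, by simp⟩
        apply Φ.injective
        simp [hy]))

/-- If an element x of GL_n(q), n ≥ 1, has prime order r and the multiplicative order of q modulo r is n (r is a primitive prime divisor of q^n − 1, so x acts irreducibly), then the centraliser of x in GL_n(q) is cyclic of order q^n − 1 (the multiplicative group of the field with q^n elements, a Singer cycle). -/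
theorem result {F : Type*} [Field F] [Fintype F] {p q : ℕ} [Fact p.Prime] [CharP F p] (hF : Fintype.card F = q) {n r : ℕ} (hn : 1 ≤ n) (hr : r.Prime) (hrp : r ≠ p) (hi : orderOf (q : ZMod r) = n) (x : GL (Fin n) F) (hx : orderOf x = r) : IsCyclic ↥(Subgroup.centralizer ({x} : Set (GL (Fin n) F))) ∧ Nat.card ↥(Subgroup.centralizer ({x} : Set (GL (Fin n) F))) = q ^ n - 1 := by
  classical
  haveI : Fact r.Prime := ⟨hr⟩
  haveI : Nonempty (Fin n) := ⟨⟨0, hn⟩⟩
  haveI : Nontrivial (Fin n → F) := inferInstance
  let Φ : GL (Fin n) F ≃* (End F (Fin n → F))ˣ :=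
    Units.mapEquiv (Matrix.toLinAlgEquiv' (R := F) (n := Fin n)).toRingEquiv.toMulEquiv
  have hfin : finrank F (Fin n → F) = n := by simp
  have hpow : ((Φ x : (End F (Fin n → F))ˣ) : End F (Fin n → F)) ^ r = 1 := by
    rw [← Units.val_pow_eq_pow_val, ← map_pow, ← hx, pow_orderOf_eq_one, map_one, Units.val_one]
  have hne : ((Φ x : (End F (Fin n → F))ˣ) : End F (Fin n → F)) ≠ 1 := by
    intro h
    have h1 : Φ x = 1 := Units.ext h
    have hx1 : x = 1 := by simpa using h1
    rw [hx1, orderOf_one] at hx
    exact hr.one_lt.ne' hx.symm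
  have hsimple := simple_of_order _ hpow hne (by rw [hF, hfin]; exact hi) (by rw [hfin]; exact hn)
  obtain ⟨h1, h2⟩ := simple_centralizer (Φ x) hsimple
  have eqv := centEquiv Φ x
  constructor
  · exact isCyclic_of_surjective eqv.symm.toMonoidHom eqv.symm.surjective
  · rw [Nat.card_congr eqv.toEquiv, h2, hF, hfin]

end Cfsg.Agent.S2638
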