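import Cfsg.Statements.S4216

set_option autoImplicit false
open Cfsg

namespace Cfsg.Agent.S4216

open Subgroup MulAction
open scoped IsMulCommutative Classical commutatorElement

variable {G : Type*} [Group G] [Finite G]

/-- extension by `1` of a homomorphism defined on a subgroup -/
noncomputable def ext1 {A : Type*} [One A] (H : Subgroup G) (ϕ : H → A) (x : G) : A := by
  classical
  exact if h : x ∈ H then ϕ ⟨x, h⟩ else 1

omit [Finite G] in
theorem ext1_of_mem {A : Type*} [One A] (H : Subgroup G) (ϕ : H → A) (x : G) (h : x ∈ H) :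
    ext1 H ϕ x = ϕ ⟨x, h⟩ := by
  unfold ext1
  rw [dif_pos h]

/-- the transfer of `u ∈ H` is the product over the cosets fixed by `u`, provided the contributions
of the longer cycles vanish -/
theorem transfer_eq_prod_fixed {A : Type*} [CommGroup A] (H : Subgroup G) (ϕ : H →* A)
    (u : G)
    (hpow : ∀ (k : G) (n : ℕ), n ≠ 1 → n ∣ orderOf u → ∀ h : k⁻¹ * u ^ n * k ∈ H,
      ϕ ⟨_, h⟩ = 1) :
    MonoidHom.transfer ϕ u =
      ∏ c ∈ ((Fintype.ofFinite (G ⧸ H)).elems.filter (fun c : G ⧸ H => u • c = c)),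
        ext1 H ϕ (c.out⁻¹ * u * c.out) := by
  let _ := Fintype.ofFinite (G ⧸ H)
  change _ = ∏ c ∈ (Finset.univ.filter (fun c : G ⧸ H => u • c = c)),
        ext1 H ϕ (c.out⁻¹ * u * c.out)
  let _ : Fintype (Quotient (orbitRel (zpowers u) (G ⧸ H))) := Fintype.ofFinite _
  rw [MonoidHom.transfer_eq_prod_quotient_orbitRel_zpowers_quot]
  -- restrict to orbits of length one
  have hstep : ∀ q : Quotient (orbitRel (zpowers u) (G ⧸ H)),
      Function.minimalPeriod (u • ·) q.out ≠ 1 →
      ϕ ⟨q.out.out⁻¹ * u ^ Function.minimalPeriod (u • ·) q.out * q.out.out,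
            QuotientGroup.out_conj_pow_minimalPeriod_mem H u q.out⟩ = 1 := by
    intro q hq
    apply hpow _ _ hq
    apply Function.IsPeriodicPt.minimalPeriod_dvd
    rw [Function.IsPeriodicPt, Function.IsFixedPt, smul_iterate, pow_orderOf_eq_one]
    exact one_smul _ _
  rw [← Finset.prod_subset (Finset.subset_univ
    (Finset.univ.filter (fun q : Quotient (orbitRel (zpowers u) (G ⧸ H)) =>
      Function.minimalPeriod (u • ·) q.out = 1)))]
  swap
  · intro q _ hq
    simp only [Finset.mem_filter, Finset.mem_univ, true_and] at hq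
    exact hstep q hq
  refine Finset.prod_bij (fun q _ => q.out) ?_ ?_ ?_ ?_
  · intro q hq
    simp only [Finset.mem_filter, Finset.mem_univ, true_and] at hq ⊢
    exact Function.minimalPeriod_eq_one_iff_isFixedPt.mp hq
  · intro q _ q' _ h
    rw [← Quotient.out_eq q, ← Quotient.out_eq q', h]
  · intro c hc
    simp only [Finset.mem_filter, Finset.mem_univ, true_and] at hc
    have hout : (Quotient.mk'' c : Quotient (orbitRel (zpowers u) (G ⧸ H))).out = c := by
      have h1 : (Quotient.mk'' c : Quotient (orbitRel (zpowers u) (G ⧸ H))).out ∈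
          orbit (zpowers u) c := by
        have := Quotient.mk_out (s := orbitRel (zpowers u) (G ⧸ H)) c
        exact this
      obtain ⟨⟨z, hz⟩, hzc⟩ := h1
      rw [← hzc]
      obtain ⟨i, rfl⟩ := Subgroup.mem_zpowers_iff.mp hz
      change u ^ i • c = c
      have : ∀ i : ℤ, u ^ i • c = c := by
        intro i
        have hfix : c ∈ MulAction.fixedBy (G ⧸ H) u := hc
        exact (MulAction.mem_fixedBy.mp ((MulAction.stabilizer G c).zpow_mem hc i))
      exact this i
    refine ⟨Quotient.mk'' c, ?_, hout⟩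
    simp only [Finset.mem_filter, Finset.mem_univ, true_and]
    rw [hout]
    exact Function.minimalPeriod_eq_one_iff_isFixedPt.mpr hc
  · intro q hq
    simp only [Finset.mem_filter, Finset.mem_univ, true_and] at hq
    have hmem := QuotientGroup.out_conj_pow_minimalPeriod_mem H u q.out
    have e : q.out.out⁻¹ * u ^ Function.minimalPeriod (u • ·) q.out * q.out.out =
        q.out.out⁻¹ * u * q.out.out := by rw [hq, pow_one]
    rw [ext1_of_mem H ϕ _ (e ▸ hmem)]
    congr 1
    exact Subtype.ext e

/-- counting: in a non-trivial orbit of the `p`-group `P` on a finite `P`-set, the number of points fixed by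
an element `u` of `P` is divisible by `p` -/
theorem dvd_card_fixed_in_orbit {p : ℕ} [Fact p.Prime] {P : Type*} [Group P] (hP : IsPGroup p P)
    {X : Type*} [MulAction P X] [Fintype X] (u : P) (c₁ : X) (hc₁ : c₁ ∉ fixedPoints P X) :
    p ∣ (Finset.univ.filter (fun c : X => u • c = c ∧ c ∈ orbit P c₁)).card := by
  have hZ : IsPGroup p (zpowers u) := hP.to_subgroup _
  have h1 := hZ.card_modEq_card_fixedPoints (orbit P c₁)
  have hset : (fun x : orbit P c₁ => (x : X)) '' (fixedPoints (zpowers u) (orbit P c₁)) =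
      ((Finset.univ.filter (fun c : X => u • c = c ∧ c ∈ orbit P c₁) : Finset X) : Set X) := by
    ext c
    simp only [Set.mem_image, Finset.coe_filter, Finset.mem_univ, true_and, Set.mem_ofPred_eq]
    constructor
    · rintro ⟨x, hx, rfl⟩
      refine ⟨?_, x.2⟩
      have := hx ⟨u, mem_zpowers u⟩
      exact congrArg Subtype.val this
    · rintro ⟨huc, hc⟩
      refine ⟨⟨c, hc⟩, ?_, rfl⟩
      rintro ⟨z, hz⟩
      obtain ⟨i, rfl⟩ := Subgroup.mem_zpowers_iff.mp hz
      apply Subtype.ext
      change u ^ i • c = c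
      exact MulAction.mem_fixedBy.mp ((MulAction.stabilizer P c).zpow_mem huc i)
  have h2 : Nat.card (fixedPoints (zpowers u) (orbit P c₁)) =
      (Finset.univ.filter (fun c : X => u • c = c ∧ c ∈ orbit P c₁)).card := by
    rw [Nat.card_coe_set_eq, ← Set.ncard_image_of_injective _ Subtype.val_injective, hset,
      Set.ncard_coe_finset]
  rw [h2] at h1
  obtain ⟨n, hn⟩ := hP.card_orbit c₁
  have hn0 : n ≠ 0 := by
    rintro rfl
    rw [pow_zero] at hn
    apply hc₁
    rw [MulAction.mem_fixedPoints_iff_card_orbit_eq_one, ← Nat.card_eq_fintype_card]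
    exact hn
  rw [hn] at h1
  have : p ∣ p ^ n := dvd_pow_self p hn0
  exact (Nat.modEq_zero_iff_dvd.mp ((h1.symm.trans (Nat.modEq_zero_iff_dvd.mpr this))))

omit [Finite G] in
theorem out_conj_mem_of_fixed (H : Subgroup G) (u : G) (c : G ⧸ H) (hc : u • c = c) :
    c.out⁻¹ * u * c.out ∈ H := by
  have h := QuotientGroup.out_conj_pow_minimalPeriod_mem H u c
  have h1 : Function.minimalPeriod (u • ·) c = 1 :=
    Function.minimalPeriod_eq_one_iff_isFixedPt.mpr hc
  rwa [h1, pow_one] at h

theorem orderOf_conj_inv {G : Type*} [Group G] (k v : G) : orderOf (k⁻¹ * v * k) = orderOf v := by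
  have := orderOf_injective (MulAut.conj k⁻¹).toMonoidHom (MulAut.conj k⁻¹).injective v
  simpa using this

/-- the inductive step of Grün's theorem -/
theorem grun_step {p : ℕ} [Fact p.Prime] (P : Sylow p G) (K : Subgroup G)
    (hKP : K ≤ (P : Subgroup G))
    (hPK : ⁅(P : Subgroup G), (P : Subgroup G)⁆ ≤ K)
    (hH1 : ∀ k ∈ normalizer ((P : Subgroup G) : Set G), ∀ x ∈ (P : Subgroup G),
      x⁻¹ * (k⁻¹ * x * k) ∈ K)
    (hH2 : ∀ k : G, ∀ w ∈ ⁅(P : Subgroup G), (P : Subgroup G)⁆,
      k⁻¹ * w * k ∈ (P : Subgroup G) → k⁻¹ * w * k ∈ K)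
    (u : G) (hu : u ∈ (P : Subgroup G)) (huG : u ∈ commutator G)
    (hmin : ∀ v ∈ (P : Subgroup G), v ∈ commutator G → orderOf v < orderOf u → v ∈ K) :
    u ∈ K := by
  have hp : p.Prime := Fact.out
  set KP : Subgroup ↥(P : Subgroup G) := K.subgroupOf P with hKPdef
  have hcle : commutator ↥(P : Subgroup G) ≤ KP := by
    rw [hKPdef, Subgroup.subgroupOf, ← Subgroup.map_le_iff_le_comap, Subgroup.map_subtype_commutator]
    exact hPK
  have hKPn : KP.Normal := Subgroup.Normal.of_commutator_le (h := hcle)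
  have hcomm : IsMulCommutative (↥(P : Subgroup G) ⧸ KP) :=
    Subgroup.Normal.quotient_commutative_iff_commutator_le.mpr hcle
  set ϕ : ↥(P : Subgroup G) →* ↥(P : Subgroup G) ⧸ KP := QuotientGroup.mk' KP with hϕ
  -- basic properties of the extension of `ϕ`
  have E1 : ∀ x, x ∈ K → ext1 (P : Subgroup G) ϕ x = 1 := by
    intro x hx
    rw [ext1_of_mem _ _ _ (hKP hx), hϕ, QuotientGroup.mk'_apply, QuotientGroup.eq_one_iff]
    exact hx
  have E2 : ∀ x y, x ∈ (P : Subgroup G) → y ∈ (P : Subgroup G) → x⁻¹ * y ∈ K →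
      ext1 (P : Subgroup G) ϕ x = ext1 (P : Subgroup G) ϕ y := by
    intro x y hx hy hxy
    rw [ext1_of_mem _ _ _ hx, ext1_of_mem _ _ _ hy, hϕ, QuotientGroup.mk'_apply,
      QuotientGroup.mk'_apply, QuotientGroup.eq]
    exact hxy
  have E3 : ∀ x (n : ℕ), x ∈ (P : Subgroup G) →
      ext1 (P : Subgroup G) ϕ (x ^ n) = ext1 (P : Subgroup G) ϕ x ^ n := by
    intro x n hx
    rw [ext1_of_mem _ _ _ hx, ext1_of_mem _ _ _ (Subgroup.pow_mem _ hx n), ← map_pow]
    rfl
  have E4 : ∀ x, x ∈ (P : Subgroup G) → ext1 (P : Subgroup G) ϕ x = 1 → x ∈ K := by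
    intro x hx h
    rw [ext1_of_mem _ _ _ hx, hϕ, QuotientGroup.mk'_apply, QuotientGroup.eq_one_iff] at h
    exact h
  -- conjugates of proper powers of `u` lying in `P` are in `K`
  have hu0 : 0 < orderOf u := orderOf_pos u
  have hsmall : ∀ (k : G) (n : ℕ), n ≠ 1 → n ∣ orderOf u → k⁻¹ * u ^ n * k ∈ (P : Subgroup G) →
      k⁻¹ * u ^ n * k ∈ K := by
    intro k n hn1 hnd hmem
    apply hmin _ hmem
    · exact (inferInstance : (commutator G).Normal).conj_mem' _ (Subgroup.pow_mem _ huG n) k
    · have hnpos : 0 < n := Nat.pos_of_dvd_of_pos hnd hu0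
      rw [orderOf_conj_inv, orderOf_pow_of_dvd hnpos.ne' hnd]
      have hn2 : 2 ≤ n := by omega
      exact Nat.div_lt_self hu0 hn2
  by_cases hu1 : u = 1
  · rw [hu1]; exact K.one_mem
  obtain ⟨j, hj⟩ := (IsPGroup.iff_orderOf.mp P.2) ⟨u, hu⟩
  rw [Subgroup.orderOf_mk] at hj
  have hj0 : j ≠ 0 := by
    rintro rfl
    rw [pow_zero, orderOf_eq_one_iff] at hj
    exact hu1 hj
  have hpu : p ∣ orderOf u := by rw [hj]; exact dvd_pow_self p hj0
  let _ := Fintype.ofFinite (G ⧸ (P : Subgroup G))
  have htr := transfer_eq_prod_fixed (P : Subgroup G) ϕ u (by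
    intro k n hn1 hnd h
    have := hsmall k n hn1 hnd h
    rw [hϕ, QuotientGroup.mk'_apply, QuotientGroup.eq_one_iff]
    exact this)
  change _ = ∏ c ∈ (Finset.univ.filter (fun c : G ⧸ (P : Subgroup G) => u • c = c)), _ at htr
  have hker : MonoidHom.transfer ϕ u = 1 :=
    Abelianization.commutator_subset_ker (MonoidHom.transfer ϕ) huG
  rw [hker] at htr
  set g : G ⧸ (P : Subgroup G) → ↥(P : Subgroup G) ⧸ KP :=
    fun c => ext1 (P : Subgroup G) ϕ (c.out⁻¹ * u * c.out) with hg
  rw [← Finset.prod_filter_mul_prod_filter_not _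
    (fun c => c ∈ fixedPoints (P : Subgroup G) (G ⧸ (P : Subgroup G)))] at htr
  -- first part: cosets fixed by `P`
  have part1 : ∀ c ∈ (Finset.univ.filter (fun c : G ⧸ (P : Subgroup G) => u • c = c)).filter
      (fun c => c ∈ fixedPoints (P : Subgroup G) (G ⧸ (P : Subgroup G))),
      g c = ext1 (P : Subgroup G) ϕ u := by
    intro c hc
    simp only [Finset.mem_filter, Finset.mem_univ, true_and] at hc
    obtain ⟨huc, hcP⟩ := hc
    have hkN : c.out ∈ normalizer ((P : Subgroup G) : Set G) := by
      rw [← Sylow.mem_fixedPoints_mul_left_cosets_iff_mem_normalizer, QuotientGroup.out_eq']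
      exact hcP
    have hmem := out_conj_mem_of_fixed (P : Subgroup G) u c huc
    exact (E2 u _ hu hmem (hH1 _ hkN u hu)).symm
  rw [Finset.prod_eq_pow_card part1] at htr
  -- second part: the other cosets
  have part2 : ∏ c ∈ (Finset.univ.filter (fun c : G ⧸ (P : Subgroup G) => u • c = c)).filter
      (fun c => ¬ c ∈ fixedPoints (P : Subgroup G) (G ⧸ (P : Subgroup G))), g c = 1 := by
    let _ : Fintype (Quotient (orbitRel ↥(P : Subgroup G) (G ⧸ (P : Subgroup G)))) :=
      Fintype.ofFinite _
    rw [← Finset.prod_fiberwise _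
      (fun c => (Quotient.mk'' c : Quotient (orbitRel ↥(P : Subgroup G) (G ⧸ (P : Subgroup G))))) g]
    apply Finset.prod_eq_one
    intro D _
    by_cases hne : (((Finset.univ.filter (fun c : G ⧸ (P : Subgroup G) => u • c = c)).filter
      (fun c => ¬ c ∈ fixedPoints (P : Subgroup G) (G ⧸ (P : Subgroup G)))).filter
      (fun c => (Quotient.mk'' c :
        Quotient (orbitRel ↥(P : Subgroup G) (G ⧸ (P : Subgroup G)))) = D)).Nonempty
    swap
    · rw [Finset.not_nonempty_iff_eq_empty.mp hne, Finset.prod_empty]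
    obtain ⟨c₁, hc₁⟩ := hne
    simp only [Finset.mem_filter, Finset.mem_univ, true_and] at hc₁
    obtain ⟨⟨huc₁, hc₁P⟩, hc₁D⟩ := hc₁
    have hx₁ := out_conj_mem_of_fixed (P : Subgroup G) u c₁ huc₁
    -- all values agree with the value at `c₁`
    have hconst : ∀ c ∈ (((Finset.univ.filter (fun c : G ⧸ (P : Subgroup G) => u • c = c)).filter
      (fun c => ¬ c ∈ fixedPoints (P : Subgroup G) (G ⧸ (P : Subgroup G)))).filter
      (fun c => (Quotient.mk'' c :
        Quotient (orbitRel ↥(P : Subgroup G) (G ⧸ (P : Subgroup G)))) = D)), g c = g c₁ := by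
      intro c hc
      simp only [Finset.mem_filter, Finset.mem_univ, true_and] at hc
      obtain ⟨⟨huc, _⟩, hcD⟩ := hc
      have hx := out_conj_mem_of_fixed (P : Subgroup G) u c huc
      have horb : c ∈ orbit ↥(P : Subgroup G) c₁ := by
        have := Quotient.exact (hcD.trans hc₁D.symm)
        exact this
      obtain ⟨⟨y, hy⟩, hyc⟩ := horb
      -- `c.out = y * c₁.out * h` with `h ∈ P`
      have hh : (y * c₁.out)⁻¹ * c.out ∈ (P : Subgroup G) := by
        rw [← QuotientGroup.eq]
        have e1 : ((y * c₁.out : G) : G ⧸ (P : Subgroup G)) = y • (c₁.out : G ⧸ (P : Subgroup G)) := rfl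
        rw [e1, QuotientGroup.out_eq', QuotientGroup.out_eq']
        exact hyc
      set h := (y * c₁.out)⁻¹ * c.out with hhdef
      set w := c₁.out⁻¹ * (y⁻¹ * u * y) * c₁.out with hw
      have hwx : w = h * (c.out⁻¹ * u * c.out) * h⁻¹ := by
        rw [hw, hhdef]; group
      have hwP : w ∈ (P : Subgroup G) := by
        rw [hwx]
        exact (P : Subgroup G).mul_mem ((P : Subgroup G).mul_mem hh hx) ((P : Subgroup G).inv_mem hh)
      have e1 : g c = ext1 (P : Subgroup G) ϕ w := by
        apply E2 _ _ hx hwP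
        apply hPK
        have : (c.out⁻¹ * u * c.out)⁻¹ * w = ⁅(c.out⁻¹ * u * c.out)⁻¹, h⁆ := by
          rw [hwx, commutatorElement_def]; group
        rw [this]
        exact Subgroup.commutator_mem_commutator ((P : Subgroup G).inv_mem hx) hh
      have e2 : g c₁ = ext1 (P : Subgroup G) ϕ w := by
        apply E2 _ _ hx₁ hwP
        have e3 : (c₁.out⁻¹ * u * c₁.out)⁻¹ * w = c₁.out⁻¹ * ⁅u⁻¹, y⁻¹⁆ * c₁.out := by
          rw [hw, commutatorElement_def]; group
        rw [e3]
        apply hH2
        · exact Subgroup.commutator_mem_commutator ((P : Subgroup G).inv_mem hu)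
            ((P : Subgroup G).inv_mem hy)
        · rw [← e3]
          exact (P : Subgroup G).mul_mem ((P : Subgroup G).inv_mem hx₁) hwP
      rw [e1, e2]
    rw [Finset.prod_eq_pow_card hconst]
    -- the number of factors is divisible by `p`, and the common value has order dividing `p`
    have hcard : p ∣ (((Finset.univ.filter (fun c : G ⧸ (P : Subgroup G) => u • c = c)).filter
      (fun c => ¬ c ∈ fixedPoints (P : Subgroup G) (G ⧸ (P : Subgroup G)))).filter
      (fun c => (Quotient.mk'' c :
        Quotient (orbitRel ↥(P : Subgroup G) (G ⧸ (P : Subgroup G)))) = D)).card := by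
      have h1 := dvd_card_fixed_in_orbit P.2 (X := G ⧸ (P : Subgroup G)) (⟨u, hu⟩ : ↥(P : Subgroup G))
        c₁ hc₁P
      convert h1 using 2
      ext c
      simp only [Finset.mem_filter, Finset.mem_univ, true_and]
      constructor
      · rintro ⟨⟨huc, _⟩, hcD⟩
        refine ⟨huc, ?_⟩
        have := Quotient.exact (hcD.trans hc₁D.symm)
        exact this
      · rintro ⟨huc, horb⟩
        refine ⟨⟨huc, ?_⟩, ?_⟩
        · intro hcP
          apply hc₁P
          obtain ⟨y, hyc⟩ := horb
          have hyc' : y • c₁ = c := hyc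
          have h2 : y⁻¹ • c = c := hcP y⁻¹
          rw [← hyc', inv_smul_smul] at h2
          have h3 : c₁ = c := h2.trans hyc'
          rw [h3]; exact hcP
        · rw [← hc₁D]
          exact Quotient.sound horb
    obtain ⟨t, ht⟩ := hcard
    have hgp : g c₁ ^ p = 1 := by
      rw [hg]
      change ext1 (P : Subgroup G) ϕ (c₁.out⁻¹ * u * c₁.out) ^ p = 1
      rw [← E3 _ _ hx₁]
      apply E1
      have e4 : (c₁.out⁻¹ * u * c₁.out) ^ p = c₁.out⁻¹ * u ^ p * c₁.out := by
        have := conj_pow (a := c₁.out⁻¹) (b := u) (i := p)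
        simpa using this
      rw [e4]
      apply hsmall _ _ hp.ne_one hpu
      rw [← e4]
      exact Subgroup.pow_mem _ hx₁ p
    rw [ht, pow_mul, hgp, one_pow]
  rw [part2, mul_one] at htr
  -- the exponent is prime to `p`
  have hm : ¬ p ∣ ((Finset.univ.filter (fun c : G ⧸ (P : Subgroup G) => u • c = c)).filter
      (fun c => c ∈ fixedPoints (P : Subgroup G) (G ⧸ (P : Subgroup G)))).card := by
    have h1 := P.2.card_modEq_card_fixedPoints (G ⧸ (P : Subgroup G))
    have h2 : Nat.card (fixedPoints (P : Subgroup G) (G ⧸ (P : Subgroup G))) =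
        ((Finset.univ.filter (fun c : G ⧸ (P : Subgroup G) => u • c = c)).filter
          (fun c => c ∈ fixedPoints (P : Subgroup G) (G ⧸ (P : Subgroup G)))).card := by
      rw [Nat.card_coe_set_eq, ← Set.ncard_coe_finset]
      congr 1
      ext c
      simp only [Finset.coe_filter, Finset.mem_filter, Finset.mem_univ, true_and,
        Set.mem_ofPred_eq]
      constructor
      · intro hc
        exact ⟨hc ⟨u, hu⟩, hc⟩
      · exact fun h => h.2
    rw [h2] at h1
    intro hd
    have : p ∣ Nat.card (G ⧸ (P : Subgroup G)) :=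
      (Nat.modEq_zero_iff_dvd.mp (h1.trans (Nat.modEq_zero_iff_dvd.mpr hd)))
    rw [← Subgroup.index_eq_card] at this
    exact P.not_dvd_index this
  apply E4 u hu
  have h1 : orderOf (ext1 (P : Subgroup G) ϕ u) ∣ _ := orderOf_dvd_of_pow_eq_one htr.symm
  have h2 : orderOf (ext1 (P : Subgroup G) ϕ u) ∣ p ^ j := by
    apply orderOf_dvd_of_pow_eq_one
    rw [← E3 u _ hu, ← hj, pow_orderOf_eq_one]
    exact E1 1 K.one_mem
  have hcop : Nat.Coprime ((Finset.univ.filter (fun c : G ⧸ (P : Subgroup G) => u • c = c)).filter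
      (fun c => c ∈ fixedPoints (P : Subgroup G) (G ⧸ (P : Subgroup G)))).card (p ^ j) :=
    Nat.Coprime.pow_right j ((Nat.Prime.coprime_iff_not_dvd hp).mpr hm).symm
  exact orderOf_eq_one_iff.mp (Nat.eq_one_of_dvd_coprimes hcop h1 h2)

/-- Grün's first Theorem: if `P` is a Sylow `p`-subgroup of the finite group `G`, then `P ∩ G'` is the subgroup generated by `P ∩ N_G(P)'` together with the subgroups `P ∩ z P' z⁻¹` for all `z ∈ G`, where `'` denotes the derived subgroup and `N_G(P)` the normalizer of `P`. -/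
theorem result {G : Type*} [Group G] [Finite G] {p : ℕ} [Fact p.Prime] (P : Sylow p G) : (P : Subgroup G) ⊓ commutator G = ((P : Subgroup G) ⊓ ⁅Subgroup.normalizer ((P : Subgroup G) : Set G), Subgroup.normalizer ((P : Subgroup G) : Set G)⁆) ⊔ ⨆ z : G, (P : Subgroup G) ⊓ (⁅(P : Subgroup G), (P : Subgroup G)⁆).map (MulAut.conj z).toMonoidHom := by
  set K : Subgroup G := ((P : Subgroup G) ⊓ ⁅Subgroup.normalizer ((P : Subgroup G) : Set G),
    Subgroup.normalizer ((P : Subgroup G) : Set G)⁆) ⊔ ⨆ z : G, (P : Subgroup G) ⊓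
      (⁅(P : Subgroup G), (P : Subgroup G)⁆).map (MulAut.conj z).toMonoidHom with hK
  have hKP : K ≤ (P : Subgroup G) := sup_le inf_le_left (iSup_le fun z => inf_le_left)
  have hterm : ∀ z : G, (P : Subgroup G) ⊓
      (⁅(P : Subgroup G), (P : Subgroup G)⁆).map (MulAut.conj z).toMonoidHom ≤ K := by
    intro z
    exact le_trans (le_iSup (fun z : G => (P : Subgroup G) ⊓
      (⁅(P : Subgroup G), (P : Subgroup G)⁆).map (MulAut.conj z).toMonoidHom) z) le_sup_right
  have hPK : ⁅(P : Subgroup G), (P : Subgroup G)⁆ ≤ K := by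
    intro w hw
    apply hterm 1
    refine ⟨Subgroup.commutator_le_self _ hw, w, hw, ?_⟩
    simp
  apply le_antisymm
  · -- the transfer argument
    have key : ∀ n : ℕ, ∀ u : G, orderOf u = n → u ∈ (P : Subgroup G) → u ∈ commutator G → u ∈ K := by
      intro n
      induction n using Nat.strong_induction_on with
      | _ n ih =>
        intro u hun hu huG
        apply grun_step P K hKP hPK ?_ ?_ u hu huG
        · intro v hv hvG hlt
          exact ih (orderOf v) (hun ▸ hlt) v rfl hv hvG
        · intro k hk x hx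
          apply le_sup_left (a := (P : Subgroup G) ⊓ ⁅Subgroup.normalizer ((P : Subgroup G) : Set G),
            Subgroup.normalizer ((P : Subgroup G) : Set G)⁆)
          have hkx : k⁻¹ * x * k ∈ (P : Subgroup G) := by
            have := (Subgroup.mem_normalizer_iff.mp
              ((Subgroup.normalizer ((P : Subgroup G) : Set G)).inv_mem hk) x).mp hx
            simpa using this
          refine ⟨(P : Subgroup G).mul_mem ((P : Subgroup G).inv_mem hx) hkx, ?_⟩
          have e : x⁻¹ * (k⁻¹ * x * k) = ⁅x⁻¹, k⁻¹⁆ := by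
            rw [commutatorElement_def]; group
          rw [e]
          exact Subgroup.commutator_mem_commutator
            (Subgroup.le_normalizer ((P : Subgroup G).inv_mem hx))
            ((Subgroup.normalizer ((P : Subgroup G) : Set G)).inv_mem hk)
        · intro k w hw hkw
          apply hterm k⁻¹
          refine ⟨hkw, w, hw, ?_⟩
          simp
    rintro u ⟨hu, huG⟩
    exact key _ u rfl hu huG
  · apply sup_le
    · exact inf_le_inf_left _ (Subgroup.commutator_mono le_top le_top)
    · apply iSup_le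
      intro z
      apply inf_le_inf_left
      rintro _ ⟨w, hw, rfl⟩
      have hwG : w ∈ commutator G :=
        (Subgroup.commutator_mono le_top le_top : ⁅(P : Subgroup G), (P : Subgroup G)⁆ ≤ _) hw
      exact (inferInstance : (commutator G).Normal).conj_mem _ hwG z

end Cfsg.Agent.S4216
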