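import Cfsg.Statements.S2581
-- import your own Cfsg.Agent.* helpers here
import Cfsg.Agent.Lib.Helper15.ParaCount

set_option autoImplicit false
open Cfsg

namespace Cfsg.Agent.S2581

open Matrix

section core

variable {F : Type*} [Field F] {t : ℕ} (d : Fin t → ℕ)

/-- the nilpotent part of the Jordan matrix -/
def Nmat : Matrix ((k : Fin t) × Fin (d k)) ((k : Fin t) × Fin (d k)) F :=
  Cfsg.jordanTypeMatrix d F - 1

lemma Nmat_apply (x y : (k : Fin t) × Fin (d k)) :
    Nmat (F := F) d x y = if x.1 = y.1 ∧ x.2.1 = y.2.1 + 1 then 1 else 0 := by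
  obtain ⟨k, i⟩ := x
  obtain ⟨l, j⟩ := y
  unfold Nmat Cfsg.jordanTypeMatrix
  rw [Matrix.sub_apply]
  by_cases h : k = l
  · subst h
    rw [Matrix.blockDiagonal'_apply_eq]
    unfold Cfsg.jordanBlock
    simp only [Matrix.of_apply]
    by_cases hij : (i : ℕ) = j
    · have : i = j := Fin.ext hij
      subst this
      simp
    · have hne : (⟨k, i⟩ : (k : Fin t) × Fin (d k)) ≠ ⟨k, j⟩ := by
        intro h'
        apply hij
        have := eq_of_heq (Sigma.mk.inj h').2
        rw [this]
      rw [if_neg hij, Matrix.one_apply_ne hne, sub_zero]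
      simp
  · rw [Matrix.blockDiagonal'_apply_ne _ _ _ h]
    have hne : (⟨k, i⟩ : (k : Fin t) × Fin (d k)) ≠ ⟨l, j⟩ := by
      intro h'
      exact h (Sigma.mk.inj h').1
    rw [Matrix.one_apply_ne hne, sub_zero, if_neg]
    intro h'
    exact h h'.1

/-- predecessor index -/
def pred (x : (k : Fin t) × Fin (d k)) (s : ℕ) : (k : Fin t) × Fin (d k) :=
  ⟨x.1, ⟨x.2.1 - s, lt_of_le_of_lt (Nat.sub_le _ _) x.2.2⟩⟩

lemma Nmat_mulVec (f : ((k : Fin t) × Fin (d k)) → F) (x : (k : Fin t) × Fin (d k)) :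
    (Nmat d *ᵥ f) x = if 1 ≤ x.2.1 then f (pred d x 1) else 0 := by
  classical
  rw [Matrix.mulVec, dotProduct]
  by_cases h : 1 ≤ x.2.1
  · rw [if_pos h, Finset.sum_eq_single (pred d x 1)]
    · rw [Nmat_apply, if_pos, one_mul]
      refine ⟨rfl, ?_⟩
      simp only [pred]
      omega
    · intro y _ hy
      rw [Nmat_apply, if_neg, zero_mul]
      rintro ⟨h1, h2⟩
      apply hy
      obtain ⟨k, i, hi⟩ := x
      obtain ⟨l, j, hj⟩ := y
      simp only at h1 h2
      subst h1
      simp only [pred]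
      congr 1
      apply Fin.ext
      simp only
      omega
    · intro h'
      exact absurd (Finset.mem_univ _) h'
  · rw [if_neg h]
    apply Finset.sum_eq_zero
    intro y _
    rw [Nmat_apply, if_neg, zero_mul]
    rintro ⟨_, h2⟩
    omega

lemma Nmat_pow_mulVec (s : ℕ) (f : ((k : Fin t) × Fin (d k)) → F) (x : (k : Fin t) × Fin (d k)) :
    ((Nmat d) ^ s *ᵥ f) x = if s ≤ x.2.1 then f (pred d x s) else 0 := by
  induction s generalizing x with
  | zero =>
    simp only [pow_zero, Matrix.one_mulVec, Nat.zero_le, if_true]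
    congr 1
  | succ s ih =>
    rw [pow_succ', ← Matrix.mulVec_mulVec, Nmat_mulVec]
    by_cases h : 1 ≤ x.2.1
    · rw [if_pos h, ih]
      by_cases h2 : s + 1 ≤ x.2.1
      · rw [if_pos h2, if_pos]
        · congr 1
          simp only [pred]
          congr 1
          apply Fin.ext
          simp only
          omega
        · simp only [pred]
          omega
      · rw [if_neg h2, if_neg]
        simp only [pred]
        omega
    · rw [if_neg h, if_neg]
      omega

/-- kernel of the `s`-th power of the nilpotent part -/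
def Ksub (s : ℕ) : Submodule F (((k : Fin t) × Fin (d k)) → F) where
  carrier := {f | ∀ y : (k : Fin t) × Fin (d k), y.2.1 + s < d y.1 → f y = 0}
  add_mem' := by
    intro a b ha hb y hy
    rw [Pi.add_apply, ha y hy, hb y hy, add_zero]
  zero_mem' := fun _ _ => rfl
  smul_mem' := by
    intro c a ha y hy
    rw [Pi.smul_apply, ha y hy, smul_zero]

lemma mem_Ksub (s : ℕ) (f : ((k : Fin t) × Fin (d k)) → F) :
    f ∈ Ksub d s ↔ ∀ y : (k : Fin t) × Fin (d k), y.2.1 + s < d y.1 → f y = 0 := Iff.rfl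

lemma mem_Ksub_iff (s : ℕ) (f : ((k : Fin t) × Fin (d k)) → F) :
    f ∈ Ksub d s ↔ (Nmat d) ^ s *ᵥ f = 0 := by
  rw [mem_Ksub]
  constructor
  · intro h
    funext x
    rw [Nmat_pow_mulVec, Pi.zero_apply]
    split_ifs with hx
    · apply h
      simp only [pred]
      have := x.2.2
      omega
    · rfl
  · intro h y hy
    have h1 := congrFun h ⟨y.1, ⟨y.2.1 + s, hy⟩⟩
    rw [Nmat_pow_mulVec, Pi.zero_apply, if_pos (by simp)] at h1
    have h2 : pred d ⟨y.1, ⟨y.2.1 + s, hy⟩⟩ s = y := by
      obtain ⟨k, i, hi⟩ := y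
      simp only [pred]
      congr 1
      apply Fin.ext
      simp
    rw [h2] at h1
    exact h1

lemma card_not_lt (s : ℕ) :
    Fintype.card {y : (k : Fin t) × Fin (d k) // ¬ (y.2.1 + s < d y.1)} = ∑ k, min (d k) s := by
  classical
  rw [Fintype.card_subtype, Finset.card_filter, Fintype.sum_sigma]
  apply Finset.sum_congr rfl
  intro k _
  simp only
  rw [Fin.sum_univ_eq_sum_range (fun j => if ¬ (j + s < d k) then 1 else 0) (d k),
    Finset.sum_boole]
  simp only [Nat.cast_id]
  have : (Finset.range (d k)).filter (fun j => ¬ (j + s < d k)) =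
      (Finset.range (d k)) \ (Finset.range (d k - s)) := by
    ext j
    simp only [Finset.mem_filter, Finset.mem_range, Finset.mem_sdiff]
    omega
  rw [this, Finset.card_sdiff_of_subset, Finset.card_range, Finset.card_range]
  · omega
  · intro j
    simp only [Finset.mem_range]
    omega

lemma card_Ksub [Fintype F] (s : ℕ) :
    Nat.card (Ksub (F := F) d s) = Fintype.card F ^ (∑ k, min (d k) s) := by
  classical
  let P : ((k : Fin t) × Fin (d k)) → Prop := fun y => y.2.1 + s < d y.1
  let ρ : (((k : Fin t) × Fin (d k)) → F) →ₗ[F] ({y // P y} → F) :=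
    LinearMap.funLeft F F (Subtype.val : {y // P y} → ((k : Fin t) × Fin (d k)))
  have hker : LinearMap.ker ρ = Ksub d s := by
    ext f
    rw [mem_Ksub, LinearMap.mem_ker]
    constructor
    · intro h y hy
      exact congrFun h ⟨y, hy⟩
    · intro h
      ext ⟨y, hy⟩
      exact h y hy
  have hsurj : Function.Surjective ρ :=
    LinearMap.funLeft_surjective_of_injective F F _ Subtype.val_injective
  have h1 := LinearMap.finrank_range_add_finrank_ker ρ
  rw [LinearMap.range_eq_top.2 hsurj, finrank_top, hker, Module.finrank_fintype_fun_eq_card,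
    Module.finrank_fintype_fun_eq_card] at h1
  have h2 : Fintype.card {y : (k : Fin t) × Fin (d k) // ¬ P y} =
      Fintype.card ((k : Fin t) × Fin (d k)) - Fintype.card {y // P y} :=
    Fintype.card_subtype_compl P
  have h3 := card_not_lt d s
  rw [Module.natCard_eq_pow_finrank (K := F), Nat.card_eq_fintype_card]
  congr 1
  change Fintype.card {y : (k : Fin t) × Fin (d k) // ¬ P y} = _ at h3
  omega

section cols

lemma idx_ext {x y : (k : Fin t) × Fin (d k)} (h1 : x.1 = y.1) (h2 : x.2.1 = y.2.1) : x = y := by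
  obtain ⟨k, i, hi⟩ := x
  obtain ⟨l, j, hj⟩ := y
  simp only at h1 h2
  subst h1
  subst h2
  rfl

/-- standard basis vectors -/
def ev (y : (k : Fin t) × Fin (d k)) : ((k : Fin t) × Fin (d k)) → F :=
  fun x => if x.1 = y.1 ∧ x.2.1 = y.2.1 then 1 else 0

lemma ev_self (y : (k : Fin t) × Fin (d k)) : ev (F := F) d y y = 1 := by
  simp [ev]

lemma ev_ne {x y : (k : Fin t) × Fin (d k)} (h : x ≠ y) : ev (F := F) d y x = 0 := by
  unfold ev
  rw [if_neg]
  rintro ⟨h1, h2⟩
  exact h (idx_ext d h1 h2)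

lemma mulVec_ev (A : Matrix ((k : Fin t) × Fin (d k)) ((k : Fin t) × Fin (d k)) F)
    (y : (k : Fin t) × Fin (d k)) : A *ᵥ ev d y = fun x => A x y := by
  classical
  funext x
  rw [Matrix.mulVec, dotProduct, Finset.sum_eq_single y]
  · rw [ev_self, mul_one]
  · intro z _ hz
    rw [ev_ne d hz, mul_zero]
  · intro h
    exact absurd (Finset.mem_univ _) h

lemma ext_cols (A B : Matrix ((k : Fin t) × Fin (d k)) ((k : Fin t) × Fin (d k)) F)
    (h : ∀ y, A *ᵥ ev d y = B *ᵥ ev d y) : A = B := by
  ext x y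
  have := congrFun (h y) x
  rw [mulVec_ev, mulVec_ev] at this
  exact this

lemma pred_fst (x : (k : Fin t) × Fin (d k)) (s : ℕ) : (pred d x s).1 = x.1 := rfl

lemma pred_snd (x : (k : Fin t) × Fin (d k)) (s : ℕ) : (pred d x s).2.1 = x.2.1 - s := rfl

lemma pow_mulVec_ev (s : ℕ) (y : (k : Fin t) × Fin (d k)) :
    (Nmat (F := F) d) ^ s *ᵥ ev d y =
      if h : y.2.1 + s < d y.1 then ev d ⟨y.1, ⟨y.2.1 + s, h⟩⟩ else 0 := by
  funext x
  rw [Nmat_pow_mulVec]
  by_cases h : y.2.1 + s < d y.1
  · rw [dif_pos h]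
    by_cases hx : x = ⟨y.1, ⟨y.2.1 + s, h⟩⟩
    · subst hx
      rw [ev_self, if_pos (by simp)]
      have : pred d ⟨y.1, ⟨y.2.1 + s, h⟩⟩ s = y := by
        apply idx_ext
        · rfl
        · rw [pred_snd]; simp
      rw [this, ev_self]
    · rw [ev_ne d hx]
      split_ifs with h1
      · apply ev_ne
        intro h2
        apply hx
        have h3 := congrArg (fun z : (k : Fin t) × Fin (d k) => z.2.1) h2
        have h4 := congrArg (fun z : (k : Fin t) × Fin (d k) => z.1) h2
        simp only [pred_snd, pred_fst] at h3 h4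
        apply idx_ext
        · exact h4
        · simp only
          omega
      · rfl
  · rw [dif_neg h, Pi.zero_apply]
    split_ifs with h1
    · apply ev_ne
      intro h2
      apply h
      have h3 := congrArg (fun z : (k : Fin t) × Fin (d k) => z.2.1) h2
      have h4 := congrArg (fun z : (k : Fin t) × Fin (d k) => z.1) h2
      simp only [pred_snd, pred_fst] at h3 h4
      have h5 := x.2.2
      have h6 : d x.1 = d y.1 := congrArg d h4
      omega
    · rfl

end cols

section psi

variable (hd : ∀ k, 1 ≤ d k)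

/-- generator index of a block -/
def gen (l : Fin t) : (k : Fin t) × Fin (d k) := ⟨l, ⟨0, hd l⟩⟩

/-- top index of a block -/
def top (l : Fin t) : (k : Fin t) × Fin (d k) := ⟨l, ⟨d l - 1, by have := hd l; omega⟩⟩

/-- the matrix commuting with `Nmat` with prescribed images of the generators -/
def Psi (w : Fin t → (((k : Fin t) × Fin (d k)) → F)) :
    Matrix ((k : Fin t) × Fin (d k)) ((k : Fin t) × Fin (d k)) F :=
  fun x y => ((Nmat d) ^ (y.2.1) *ᵥ w y.1) x

lemma Psi_col (w : Fin t → (((k : Fin t) × Fin (d k)) → F)) (y : (k : Fin t) × Fin (d k)) :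
    Psi d w *ᵥ ev d y = (Nmat d) ^ (y.2.1) *ᵥ w y.1 := by
  rw [mulVec_ev]
  rfl

lemma Psi_comm (w : Fin t → (((k : Fin t) × Fin (d k)) → F))
    (hw : ∀ l, w l ∈ Ksub d (d l)) : Psi d w * Nmat d = Nmat d * Psi d w := by
  apply ext_cols
  intro y
  rw [← Matrix.mulVec_mulVec, ← Matrix.mulVec_mulVec, Psi_col]
  have h1 := pow_mulVec_ev (F := F) d 1 y
  rw [pow_one] at h1
  rw [h1, Matrix.mulVec_mulVec, ← pow_succ']
  by_cases h : y.2.1 + 1 < d y.1
  · rw [dif_pos h, Psi_col]
  · rw [dif_neg h, Matrix.mulVec_zero]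
    have h2 : y.2.1 + 1 = d y.1 := by have := y.2.2; omega
    rw [h2]
    exact ((mem_Ksub_iff d (d y.1) (w y.1)).1 (hw y.1)).symm

lemma Psi_gen (w : Fin t → (((k : Fin t) × Fin (d k)) → F)) (l : Fin t) :
    Psi d w *ᵥ ev d (gen d hd l) = w l := by
  rw [Psi_col]
  show (Nmat d) ^ 0 *ᵥ w l = w l
  rw [pow_zero, Matrix.one_mulVec]

lemma comm_pow (g : Matrix ((k : Fin t) × Fin (d k)) ((k : Fin t) × Fin (d k)) F)
    (hg : g * Nmat d = Nmat d * g) (s : ℕ) : g * (Nmat d) ^ s = (Nmat d) ^ s * g := by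
  have : Commute g (Nmat d) := hg
  exact this.pow_right s

lemma gen_mem (g : Matrix ((k : Fin t) × Fin (d k)) ((k : Fin t) × Fin (d k)) F)
    (hg : g * Nmat d = Nmat d * g) (l : Fin t) : g *ᵥ ev d (gen d hd l) ∈ Ksub d (d l) := by
  rw [mem_Ksub_iff, Matrix.mulVec_mulVec, ← comm_pow d g hg, ← Matrix.mulVec_mulVec,
    pow_mulVec_ev, dif_neg, Matrix.mulVec_zero]
  simp [gen]

lemma eq_Psi (g : Matrix ((k : Fin t) × Fin (d k)) ((k : Fin t) × Fin (d k)) F)
    (hg : g * Nmat d = Nmat d * g) : g = Psi d (fun l => g *ᵥ ev d (gen d hd l)) := by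
  apply ext_cols
  intro y
  rw [Psi_col, Matrix.mulVec_mulVec, ← comm_pow d g hg, ← Matrix.mulVec_mulVec, pow_mulVec_ev]
  have h : (gen d hd y.1).2.1 + y.2.1 < d (gen d hd y.1).1 := by
    simp only [gen]
    have := y.2.2
    omega
  rw [dif_pos h]
  congr 2
  apply idx_ext
  · rfl
  · simp [gen]

/-- the socle matrix -/
def Rmat (g : Matrix ((k : Fin t) × Fin (d k)) ((k : Fin t) × Fin (d k)) F) :
    Matrix (Fin t) (Fin t) F := fun k l => g (top d hd k) (top d hd l)

lemma sum_tops (r f : ((k : Fin t) × Fin (d k)) → F) (hf : f ∈ Ksub d 1) :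
    ∑ y, r y * f y = ∑ l, r (top d hd l) * f (top d hd l) := by
  rw [Fintype.sum_sigma]
  apply Finset.sum_congr rfl
  intro l _
  have hlt : d l - 1 < d l := by have := hd l; omega
  rw [Finset.sum_eq_single (⟨d l - 1, hlt⟩ : Fin (d l))]
  · rfl
  · intro j _ hj
    rw [(mem_Ksub d 1 f).1 hf ⟨l, j⟩, mul_zero]
    simp only
    have h1 := j.2
    have h2 : (j : ℕ) ≠ d l - 1 := fun h => hj (Fin.ext h)
    omega
  · intro h
    exact absurd (Finset.mem_univ _) h

lemma top_of_not_lt (x : (k : Fin t) × Fin (d k)) (h : ¬ x.2.1 + 1 < d x.1) :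
    x = top d hd x.1 := by
  apply idx_ext
  · rfl
  · simp only [top]
    have := x.2.2
    omega

lemma N_mulVec_eq_zero_iff (f : ((k : Fin t) × Fin (d k)) → F) :
    Nmat d *ᵥ f = 0 ↔ f ∈ Ksub d 1 := by
  rw [mem_Ksub_iff, pow_one]

lemma det_eq_zero_iff (g : Matrix ((k : Fin t) × Fin (d k)) ((k : Fin t) × Fin (d k)) F)
    (hg : g * Nmat d = Nmat d * g) : g.det = 0 ↔ (Rmat d hd g).det = 0 := by
  classical
  rw [← Matrix.exists_mulVec_eq_zero_iff, ← Matrix.exists_mulVec_eq_zero_iff]
  constructor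
  · rintro ⟨v, hv0, hv⟩
    -- find the last nonzero `N^s v`
    have hex : ∃ s, (Nmat d) ^ s *ᵥ v = 0 := by
      refine ⟨Finset.univ.sup d + 1, ?_⟩
      funext x
      rw [Nmat_pow_mulVec, if_neg, Pi.zero_apply]
      have h1 : d x.1 ≤ Finset.univ.sup d := Finset.le_sup (Finset.mem_univ x.1)
      have h2 := x.2.2
      omega
    have hs0 : Nat.find hex ≠ 0 := by
      intro h
      have := Nat.find_spec hex
      rw [h, pow_zero, Matrix.one_mulVec] at this
      exact hv0 this
    obtain ⟨s, hs⟩ := Nat.exists_eq_succ_of_ne_zero hs0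
    have hv'0 : (Nmat d) ^ s *ᵥ v ≠ 0 := Nat.find_min hex (by omega : s < Nat.find hex)
    have hv'N : Nmat d *ᵥ ((Nmat d) ^ s *ᵥ v) = 0 := by
      rw [Matrix.mulVec_mulVec, ← pow_succ']
      have := Nat.find_spec hex
      rw [hs] at this
      exact this
    have hv'g : g *ᵥ ((Nmat d) ^ s *ᵥ v) = 0 := by
      rw [Matrix.mulVec_mulVec, comm_pow d g hg, ← Matrix.mulVec_mulVec, hv, Matrix.mulVec_zero]
    set v' := (Nmat d) ^ s *ᵥ v with hv'
    have hK : v' ∈ Ksub d 1 := (N_mulVec_eq_zero_iff d v').1 hv'N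
    refine ⟨fun l => v' (top d hd l), ?_, ?_⟩
    · intro h
      apply hv'0
      funext x
      by_cases hx : x.2.1 + 1 < d x.1
      · exact (mem_Ksub d 1 v').1 hK x hx
      · rw [top_of_not_lt d hd x hx]
        exact congrFun h x.1
    · funext k
      have := congrFun hv'g (top d hd k)
      rw [Matrix.mulVec, dotProduct, sum_tops d hd _ _ hK] at this
      exact this
  · rintro ⟨c, hc0, hc⟩
    let v : ((k : Fin t) × Fin (d k)) → F := fun x => if x.2.1 + 1 < d x.1 then 0 else c x.1
    have hK : v ∈ Ksub d 1 := by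
      rw [mem_Ksub]
      intro y hy
      simp only [v]
      rw [if_pos hy]
    have hvtop : ∀ l, v (top d hd l) = c l := by
      intro l
      simp only [v, top]
      rw [if_neg]
      have := hd l
      omega
    refine ⟨v, ?_, ?_⟩
    · intro h
      apply hc0
      funext l
      rw [← hvtop l, h]
      rfl
    · have hgv : g *ᵥ v ∈ Ksub d 1 := by
        rw [← N_mulVec_eq_zero_iff, Matrix.mulVec_mulVec, ← hg, ← Matrix.mulVec_mulVec,
          (N_mulVec_eq_zero_iff d v).2 hK, Matrix.mulVec_zero]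
      funext x
      by_cases hx : x.2.1 + 1 < d x.1
      · exact (mem_Ksub d 1 _).1 hgv x hx
      · rw [top_of_not_lt d hd x hx, Matrix.mulVec, dotProduct, sum_tops d hd _ _ hK]
        have := congrFun hc x.1
        rw [Matrix.mulVec, dotProduct] at this
        simp only [hvtop]
        exact this

end psi

section count

/-- fibre counting for linear maps -/
lemma card_preimage {A B : Type*} [AddCommGroup A] [Module F A] [AddCommGroup B] [Module F B]
    [Finite A] (f : A →ₗ[F] B) (S : Set B) :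
    Nat.card {a // f a ∈ S} =
      Nat.card (LinearMap.ker f) * Nat.card {b : B // b ∈ LinearMap.range f ∧ b ∈ S} := by
  classical
  have hfin : Finite (LinearMap.range f) := by
    have : Finite (Set.range f) := Set.finite_range f
    exact this
  have hfin2 : Finite {b : B // b ∈ LinearMap.range f ∧ b ∈ S} :=
    Finite.of_injective (fun b => (⟨b.1, b.2.1⟩ : LinearMap.range f))
      (fun b b' h => Subtype.ext (congrArg (fun z : LinearMap.range f => z.1) h))
  have := Fintype.ofFinite {b : B // b ∈ LinearMap.range f ∧ b ∈ S}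
  let e : {a // f a ∈ S} ≃ Σ b : {b : B // b ∈ LinearMap.range f ∧ b ∈ S}, {a // f a = b.1} :=
    { toFun := fun a => ⟨⟨f a.1, ⟨a.1, rfl⟩, a.2⟩, ⟨a.1, rfl⟩⟩
      invFun := fun x => ⟨x.2.1, by rw [x.2.2]; exact x.1.2.2⟩
      left_inv := fun _ => rfl
      right_inv := by
        rintro ⟨⟨b, hb1, hb2⟩, ⟨a, ha⟩⟩
        simp only at ha
        subst ha
        rfl }
  rw [Nat.card_congr e, Nat.card_sigma]
  have hfib : ∀ b : {b : B // b ∈ LinearMap.range f ∧ b ∈ S},
      Nat.card {a // f a = b.1} = Nat.card (LinearMap.ker f) := by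
    intro b
    obtain ⟨a₀, ha₀⟩ := b.2.1
    apply Nat.card_congr
    exact
      { toFun := fun a => ⟨a.1 - a₀, by rw [LinearMap.mem_ker, map_sub, a.2, ha₀, sub_self]⟩
        invFun := fun z => ⟨z.1 + a₀, by
          rw [map_add, LinearMap.mem_ker.1 z.2, zero_add, ha₀]⟩
        left_inv := fun a => by simp
        right_inv := fun z => by simp }
  rw [Finset.sum_congr rfl (fun b _ => hfib b), Finset.sum_const, Finset.card_univ, smul_eq_mul,
    ← Nat.card_eq_fintype_card, mul_comm]

variable (hd : ∀ k, 1 ≤ d k)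

/-- the socle matrix as a linear map on the tuples of generator images -/
def rho : ((l : Fin t) → ↥(Ksub (F := F) d (d l))) →ₗ[F] Matrix (Fin t) (Fin t) F where
  toFun w := fun k l => ((Nmat d) ^ (d l - 1) *ᵥ (w l).1) (top d hd k)
  map_add' w w' := by
    ext k l
    have h : ((w + w') l).1 = (w l).1 + (w' l).1 := rfl
    show ((Nmat d) ^ (d l - 1) *ᵥ ((w + w') l).1) (top d hd k) = _
    rw [h, Matrix.mulVec_add]
    rfl
  map_smul' c w := by
    ext k l
    have h : ((c • w) l).1 = c • (w l).1 := rfl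
    show ((Nmat d) ^ (d l - 1) *ᵥ ((c • w) l).1) (top d hd k) = _
    rw [h, Matrix.mulVec_smul]
    rfl

lemma rho_eq (w : (l : Fin t) → ↥(Ksub (F := F) d (d l))) :
    rho d hd w = Rmat d hd (Psi d (fun l => (w l).1)) := rfl

lemma rho_apply (w : (l : Fin t) → ↥(Ksub (F := F) d (d l))) (k l : Fin t) :
    rho d hd w k l = if d l ≤ d k then
      (w l).1 ⟨k, ⟨d k - d l, by have := hd l; have := hd k; omega⟩⟩ else 0 := by
  show ((Nmat d) ^ (d l - 1) *ᵥ (w l).1) (top d hd k) = _
  rw [Nmat_pow_mulVec]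
  have h1 := hd l
  have h2 := hd k
  by_cases h : d l ≤ d k
  · rw [if_pos h, if_pos (by simp only [top]; omega)]
    apply congrArg
    apply idx_ext
    · rfl
    · simp only [pred, top]
      omega
  · rw [if_neg h, if_neg (by simp only [top]; omega)]

lemma mem_range_rho (M : Matrix (Fin t) (Fin t) F) :
    M ∈ LinearMap.range (rho (F := F) d hd) ↔ ∀ k l, d k < d l → M k l = 0 := by
  constructor
  · rintro ⟨w, rfl⟩ k l hkl
    rw [rho_apply, if_neg (by omega)]
  · intro hM
    let w : (l : Fin t) → ↥(Ksub (F := F) d (d l)) := fun l =>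
      ⟨fun x => if x.2.1 + d l = d x.1 then M x.1 l else 0, by
        rw [mem_Ksub]
        intro y hy
        rw [if_neg (by omega)]⟩
    refine ⟨w, ?_⟩
    ext k l
    rw [rho_apply]
    by_cases h : d l ≤ d k
    · rw [if_pos h]
      show (if d k - d l + d l = d k then M k l else 0) = M k l
      rw [if_pos (by omega)]
    · rw [if_neg h, hM k l (by omega)]

/-- the units of the centralizer in terms of generator images -/
def unitsEquiv :
    {g : Matrix ((k : Fin t) × Fin (d k)) ((k : Fin t) × Fin (d k)) F //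
      g * Nmat d = Nmat d * g ∧ g.det ≠ 0} ≃
    {w : (l : Fin t) → ↥(Ksub (F := F) d (d l)) // (rho d hd w).det ≠ 0} where
  toFun g := ⟨fun l => ⟨g.1 *ᵥ ev d (gen d hd l), gen_mem d hd g.1 g.2.1 l⟩, by
    rw [rho_eq]
    have h1 : Psi d (fun l => g.1 *ᵥ ev d (gen d hd l)) = g.1 := (eq_Psi d hd g.1 g.2.1).symm
    show (Rmat d hd (Psi d (fun l => g.1 *ᵥ ev d (gen d hd l)))).det ≠ 0
    rw [h1]
    intro h
    exact g.2.2 ((det_eq_zero_iff d hd g.1 g.2.1).2 h)⟩
  invFun w := ⟨Psi d (fun l => (w.1 l).1), Psi_comm (F := F) d _ (fun l => (w.1 l).2), by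
    intro h
    apply w.2
    rw [rho_eq]
    exact (det_eq_zero_iff d hd _ (Psi_comm (F := F) d _ (fun l => (w.1 l).2))).1 h⟩
  left_inv g := by
    apply Subtype.ext
    exact (eq_Psi d hd g.1 g.2.1).symm
  right_inv w := by
    apply Subtype.ext
    funext l
    apply Subtype.ext
    exact Psi_gen (F := F) d hd (fun l => (w.1 l).1) l

/-- block labels: the block size, in the reversed order -/
def blab (k : Fin t) : (Fin (Finset.univ.sup d + 1))ᵒᵈ :=
  OrderDual.toDual ⟨d k, Nat.lt_succ_of_le (Finset.le_sup (Finset.mem_univ k))⟩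

lemma blab_lt (k l : Fin t) : blab d l < blab d k ↔ d k < d l := by
  unfold blab
  rw [OrderDual.toDual_lt_toDual, Fin.mk_lt_mk]

lemma blab_eq (k l : Fin t) : blab d k = blab d l ↔ d k = d l := by
  unfold blab
  rw [OrderDual.toDual_inj, Fin.mk.injEq]

lemma blockTriangular_iff (M : Matrix (Fin t) (Fin t) F) :
    M.BlockTriangular (blab d) ↔ ∀ k l, d k < d l → M k l = 0 := by
  constructor
  · intro h k l hkl
    exact h ((blab_lt d k l).2 hkl)
  · intro h k l hkl
    exact h k l ((blab_lt d k l).1 hkl)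

variable [Fintype F]

lemma card_W :
    Nat.card ((l : Fin t) → ↥(Ksub (F := F) d (d l))) =
      Fintype.card F ^ (∑ l, ∑ k, min (d k) (d l)) := by
  rw [Nat.card_pi, Finset.prod_congr rfl (fun l _ => card_Ksub (F := F) d (d l)),
    Finset.prod_pow_eq_pow_sum]

lemma card_units_eq :
    Nat.card {g : Matrix ((k : Fin t) × Fin (d k)) ((k : Fin t) × Fin (d k)) F //
      g * Nmat d = Nmat d * g ∧ g.det ≠ 0} =
    Nat.card (LinearMap.ker (rho (F := F) d hd)) *
      Nat.card {g : GL (Fin t) F // (g : Matrix (Fin t) (Fin t) F).BlockTriangular (blab d)} := by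
  rw [Nat.card_congr (unitsEquiv d hd)]
  have h := card_preimage (rho (F := F) d hd) {M | M.det ≠ 0}
  rw [show Nat.card {w : (l : Fin t) → ↥(Ksub (F := F) d (d l)) // (rho d hd w).det ≠ 0} =
    Nat.card {a // rho (F := F) d hd a ∈ {M : Matrix (Fin t) (Fin t) F | M.det ≠ 0}} from rfl, h]
  congr 1
  apply Nat.card_congr
  refine
    { toFun := fun M => ⟨Matrix.GeneralLinearGroup.mk'' M.1 (isUnit_iff_ne_zero.2 M.2.2), ?_⟩
      invFun := fun g => ⟨g.1.1, ?_, ?_⟩
      left_inv := fun _ => rfl
      right_inv := fun g => by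
        apply Subtype.ext
        apply Units.ext
        rfl }
  · rw [blockTriangular_iff]
    exact (mem_range_rho d hd M.1).1 M.2.1
  · rw [mem_range_rho]
    exact (blockTriangular_iff d _).1 g.2
  · exact (Matrix.isUnits_det_units g.1).ne_zero

lemma card_ker_mul :
    Nat.card (LinearMap.ker (rho (F := F) d hd)) *
      Nat.card {M : Matrix (Fin t) (Fin t) F // M.BlockTriangular (blab d)} =
    Fintype.card F ^ (∑ l, ∑ k, min (d k) (d l)) := by
  rw [← card_W]
  have h := card_preimage (rho (F := F) d hd) Set.univ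
  have h1 : Nat.card {a : (l : Fin t) → ↥(Ksub (F := F) d (d l)) //
      rho (F := F) d hd a ∈ (Set.univ : Set (Matrix (Fin t) (Fin t) F))} =
      Nat.card ((l : Fin t) → ↥(Ksub (F := F) d (d l))) :=
    Nat.card_congr (Equiv.subtypeUnivEquiv (fun _ => Set.mem_univ _))
  rw [← h1, h]
  congr 1
  apply Nat.card_congr
  apply Equiv.subtypeEquivRight
  intro M
  rw [blockTriangular_iff, mem_range_rho]
  simp

end count

end core

section combi

variable {t : ℕ} (d : Fin t → ℕ)

/-- multiplicity of a block size -/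
def Amul (i : ℕ) : ℕ := (Finset.univ.filter (fun k : Fin t => d k = i)).card

lemma fib1 (g : ℕ → ℕ) :
    ∑ i ∈ Finset.range (Finset.univ.sup d + 1), Amul d i * g i = ∑ k, g (d k) := by
  rw [← Finset.sum_fiberwise_of_maps_to (s := Finset.univ)
    (t := Finset.range (Finset.univ.sup d + 1)) (g := d) (f := fun k => g (d k))]
  · apply Finset.sum_congr rfl
    intro i _
    rw [Finset.sum_congr rfl (fun k hk => by rw [(Finset.mem_filter.1 hk).2] :
      ∀ k ∈ Finset.univ.filter (fun k : Fin t => d k = i), g (d k) = g i),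
      Finset.sum_const, smul_eq_mul]
    rfl
  · intro k _
    rw [Finset.mem_range]
    exact Nat.lt_succ_of_le (Finset.le_sup (Finset.mem_univ k))

lemma fib2 (h : ℕ → ℕ → ℕ) :
    ∑ i ∈ Finset.range (Finset.univ.sup d + 1), ∑ j ∈ Finset.range (Finset.univ.sup d + 1),
      Amul d i * Amul d j * h i j = ∑ k, ∑ l, h (d k) (d l) := by
  rw [← fib1 d (fun i => ∑ l, h i (d l))]
  apply Finset.sum_congr rfl
  intro i _
  rw [← fib1 d (fun j => h i j), Finset.mul_sum]
  apply Finset.sum_congr rfl
  intro j _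
  ring

lemma Amul_eq_sum (i : ℕ) : Amul d i = ∑ l, (if d l = i then 1 else 0) := by
  unfold Amul
  rw [Finset.card_filter]

theorem exponent_identity (hd : ∀ k, 1 ≤ d k) :
    2 * (∑ i ∈ Finset.range (Finset.univ.sup d + 1),
      ∑ j ∈ Finset.range (Finset.univ.sup d + 1),
        if i < j then i * Amul d i * Amul d j else 0) +
      ∑ i ∈ Finset.range (Finset.univ.sup d + 1), (i - 1) * Amul d i ^ 2 +
      ∑ k, ∑ l, (if d k = d l then 1 else 0) =
    ∑ l, ∑ k, min (d k) (d l) := by
  have hT1 : (∑ i ∈ Finset.range (Finset.univ.sup d + 1),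
      ∑ j ∈ Finset.range (Finset.univ.sup d + 1),
        if i < j then i * Amul d i * Amul d j else 0) =
      ∑ k, ∑ l, (if d k < d l then d k else 0) := by
    rw [← fib2 d (fun i j => if i < j then i else 0)]
    apply Finset.sum_congr rfl
    intro i _
    apply Finset.sum_congr rfl
    intro j _
    split_ifs
    · ring
    · ring
  have hT1' : (∑ k, ∑ l, (if d k < d l then d k else 0)) =
      ∑ k, ∑ l, (if d l < d k then d l else 0) := by
    rw [Finset.sum_comm]
  have hT2 : (∑ i ∈ Finset.range (Finset.univ.sup d + 1), (i - 1) * Amul d i ^ 2) =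
      ∑ k, ∑ l, (if d l = d k then d k - 1 else 0) := by
    have h1 : ∀ i ∈ Finset.range (Finset.univ.sup d + 1), (i - 1) * Amul d i ^ 2 =
        Amul d i * ((i - 1) * Amul d i) := fun i _ => by ring
    rw [Finset.sum_congr rfl h1, fib1 d (fun i => (i - 1) * Amul d i)]
    apply Finset.sum_congr rfl
    intro k _
    rw [Amul_eq_sum, Finset.mul_sum]
    apply Finset.sum_congr rfl
    intro l _
    split_ifs <;> simp
  rw [hT2, hT1, two_mul]
  nth_rewrite 2 [hT1']
  rw [Finset.sum_comm (f := fun l k => min (d k) (d l))]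
  rw [← Finset.sum_add_distrib, ← Finset.sum_add_distrib, ← Finset.sum_add_distrib]
  apply Finset.sum_congr rfl
  intro k _
  rw [← Finset.sum_add_distrib, ← Finset.sum_add_distrib, ← Finset.sum_add_distrib]
  apply Finset.sum_congr rfl
  intro l _
  have h1 := hd k
  have h2 := hd l
  rcases lt_trichotomy (d k) (d l) with h | h | h
  · rw [if_pos h, if_neg (by omega), if_neg (by omega), if_neg (by omega)]
    omega
  · rw [if_neg (by omega), if_neg (by omega), if_pos h.symm, if_pos h]
    omega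
  · rw [if_neg (by omega), if_pos h, if_neg (by omega), if_neg (by omega)]
    omega

end combi


section final

open Cfsg.Agent.Lib.Helper15.ParaCount

variable {F : Type*} [Field F] [Fintype F] {t : ℕ} (d : Fin t → ℕ)

/-- fibre sizes of the block labelling -/
noncomputable def fcard (a : (Fin (Finset.univ.sup d + 1))ᵒᵈ) : ℕ :=
  Fintype.card {k // blab d k = a}

lemma fcard_toDual (i : ℕ) (hi : i < Finset.univ.sup d + 1) :
    fcard d (OrderDual.toDual ⟨i, hi⟩) = Amul d i := by
  unfold fcard Amul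
  rw [Fintype.card_subtype]
  congr 1
  ext k
  simp only [Finset.mem_filter, Finset.mem_univ, true_and]
  unfold blab
  rw [OrderDual.toDual_inj, Fin.mk.injEq]

lemma sum_fcard_sq :
    ∑ a, fcard d a ^ 2 = ∑ k, ∑ l, (if d k = d l then 1 else 0) := by
  have h1 : ∀ a, fcard d a = ∑ k, (if blab d k = a then 1 else 0) := by
    intro a
    unfold fcard
    rw [Fintype.card_subtype, Finset.card_filter]
  have h2 : ∀ a, fcard d a ^ 2 =
      ∑ k, ∑ l, (if blab d k = a then (if blab d l = a then 1 else 0) else 0) := by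
    intro a
    rw [pow_two, h1 a, Finset.sum_mul]
    apply Finset.sum_congr rfl
    intro k _
    rw [Finset.mul_sum]
    apply Finset.sum_congr rfl
    intro l _
    split_ifs <;> simp
  rw [Finset.sum_congr rfl (fun a _ => h2 a), Finset.sum_comm]
  apply Finset.sum_congr rfl
  intro k _
  rw [Finset.sum_comm]
  apply Finset.sum_congr rfl
  intro l _
  rw [Finset.sum_ite_eq Finset.univ (blab d k)
    (fun a => if blab d l = a then 1 else 0), if_pos (Finset.mem_univ _)]
  by_cases h : d k = d l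
  · rw [if_pos h, if_pos ((blab_eq d l k).2 h.symm)]
  · rw [if_neg h, if_neg (fun h' => h ((blab_eq d l k).1 h').symm)]

lemma card_BT :
    Nat.card {M : Matrix (Fin t) (Fin t) F // M.BlockTriangular (blab d)} =
      Fintype.card F ^ (∑ a, fcard d a ^ 2 +
        Nat.card {p : Fin t × Fin t // blab d p.1 < blab d p.2}) := by
  rw [Nat.card_congr (splitEquiv (F := F) (blab d)), Nat.card_prod, Nat.card_pi, Nat.card_fun,
    Nat.card_eq_fintype_card (α := F), pow_add, ← Finset.prod_pow_eq_pow_sum]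
  congr 1
  apply Finset.prod_congr rfl
  intro a _
  show Nat.card ({i // blab d i = a} → {i // blab d i = a} → F) = _
  rw [Nat.card_fun, Nat.card_fun, Nat.card_eq_fintype_card (α := F), ← pow_mul,
    Nat.card_eq_fintype_card, pow_two]
  rfl

lemma prod_gam (q : ℕ) :
    ∏ a, gam q (fcard d a) =
      ∏ i ∈ Finset.range (Finset.univ.sup d + 1), gam q (Amul d i) := by
  rw [← Fin.prod_univ_eq_prod_range (fun i => gam q (Amul d i)) (Finset.univ.sup d + 1)]
  rw [← Equiv.prod_comp OrderDual.toDual (fun a => gam q (fcard d a))]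
  apply Finset.prod_congr rfl
  intro i _
  rw [← fcard_toDual d i.1 i.2]


lemma card_units_final (hd : ∀ k, 1 ≤ d k) :
    Nat.card {g : Matrix ((k : Fin t) × Fin (d k)) ((k : Fin t) × Fin (d k)) F //
      g * Nmat d = Nmat d * g ∧ g.det ≠ 0} =
    Fintype.card F ^ (2 * (∑ i ∈ Finset.range (Finset.univ.sup d + 1),
      ∑ j ∈ Finset.range (Finset.univ.sup d + 1),
        if i < j then i * Amul d i * Amul d j else 0) +
      ∑ i ∈ Finset.range (Finset.univ.sup d + 1), (i - 1) * Amul d i ^ 2) *
      ∏ i ∈ Finset.range (Finset.univ.sup d + 1), gam (Fintype.card F) (Amul d i) := by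
  have hq : 0 < Fintype.card F := Fintype.card_pos
  rw [card_units_eq d hd, card_blockTriangular (blab d)]
  have h1 := card_ker_mul (F := F) d hd
  rw [card_BT, ← exponent_identity d hd, ← sum_fcard_sq] at h1
  have h2 : Nat.card (LinearMap.ker (rho (F := F) d hd)) *
      Fintype.card F ^ Nat.card {p : Fin t × Fin t // blab d p.1 < blab d p.2} =
      Fintype.card F ^ (2 * (∑ i ∈ Finset.range (Finset.univ.sup d + 1),
      ∑ j ∈ Finset.range (Finset.univ.sup d + 1),
        if i < j then i * Amul d i * Amul d j else 0) +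
      ∑ i ∈ Finset.range (Finset.univ.sup d + 1), (i - 1) * Amul d i ^ 2) := by
    apply Nat.eq_of_mul_eq_mul_right (pow_pos hq (∑ a, fcard d a ^ 2))
    rw [← pow_add, ← h1, pow_add]
    ring
  rw [← h2, ← prod_gam]
  have h3 : ∀ a ∈ (Finset.univ : Finset (Fin (Finset.univ.sup d + 1))ᵒᵈ),
      Nat.card (GL {i // blab d i = a} F) = gam (Fintype.card F) (fcard d a) := by
    intro a _
    rw [card_GL_of_card]
    rfl
  rw [Finset.prod_congr rfl h3]
  ring

/-- from the commuting units to the commuting invertible matrices -/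
noncomputable def finalEquiv :
    {g : GL ((k : Fin t) × Fin (d k)) F //
      (g : Matrix ((k : Fin t) × Fin (d k)) ((k : Fin t) × Fin (d k)) F) *
        Cfsg.jordanTypeMatrix d F = Cfsg.jordanTypeMatrix d F *
        (g : Matrix ((k : Fin t) × Fin (d k)) ((k : Fin t) × Fin (d k)) F)} ≃
    {g : Matrix ((k : Fin t) × Fin (d k)) ((k : Fin t) × Fin (d k)) F //
      g * Nmat d = Nmat d * g ∧ g.det ≠ 0} where
  toFun g := ⟨g.1.1, by
    unfold Nmat
    rw [mul_sub, sub_mul, g.2, mul_one, one_mul], (Matrix.isUnits_det_units g.1).ne_zero⟩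
  invFun g := ⟨Matrix.GeneralLinearGroup.mk'' g.1 (isUnit_iff_ne_zero.2 g.2.2), by
    show g.1 * Cfsg.jordanTypeMatrix d F = Cfsg.jordanTypeMatrix d F * g.1
    have h := g.2.1
    unfold Nmat at h
    rw [mul_sub, sub_mul, mul_one, one_mul] at h
    exact sub_left_inj.1 h⟩
  left_inv g := by
    apply Subtype.ext
    apply Units.ext
    rfl
  right_inv g := rfl

theorem main {q : ℕ} (hF : Fintype.card F = q) (hd : ∀ k, 1 ≤ d k) :
    Nat.card {g : GL ((k : Fin t) × Fin (d k)) F //
      (g : Matrix ((k : Fin t) × Fin (d k)) ((k : Fin t) × Fin (d k)) F) *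
        Cfsg.jordanTypeMatrix d F = Cfsg.jordanTypeMatrix d F *
        (g : Matrix ((k : Fin t) × Fin (d k)) ((k : Fin t) × Fin (d k)) F)} =
    q ^ (2 * (∑ i ∈ Finset.range (Finset.univ.sup d + 1),
      ∑ j ∈ Finset.range (Finset.univ.sup d + 1),
        if i < j then i * (Finset.univ.filter (fun k : Fin t => d k = i)).card *
          (Finset.univ.filter (fun k : Fin t => d k = j)).card else 0) +
      ∑ i ∈ Finset.range (Finset.univ.sup d + 1),
        (i - 1) * (Finset.univ.filter (fun k : Fin t => d k = i)).card ^ 2) *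
      ∏ i ∈ Finset.range (Finset.univ.sup d + 1),
        ∏ j : Fin ((Finset.univ.filter (fun k : Fin t => d k = i)).card),
          (q ^ (Finset.univ.filter (fun k : Fin t => d k = i)).card - q ^ (j : ℕ)) := by
  subst hF
  rw [Nat.card_congr (finalEquiv d), card_units_final d hd]
  rfl

end final

/-- Order of the centraliser in GL of a unipotent matrix of given Jordan type over the field with q elements: if the type has a_i blocks of size i (all block sizes at least 1), the invertible matrices commuting with it number q^γ · Π_i |GL_(a_i)(q)| with γ = 2 Σ_(i<j) i a_i a_j + Σ_i (i − 1) a_i² (a group of order q^γ extended by Π GL_(a_i)(q)). -/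
theorem result {F : Type*} [Field F] [Fintype F] {q : ℕ} (hF : Fintype.card F = q) {t : ℕ} (d : Fin t → ℕ) (hd : ∀ k, 1 ≤ d k) : Nat.card {g : GL ((k : Fin t) × Fin (d k)) F // (g : Matrix ((k : Fin t) × Fin (d k)) ((k : Fin t) × Fin (d k)) F) * Cfsg.jordanTypeMatrix d F = Cfsg.jordanTypeMatrix d F * (g : Matrix ((k : Fin t) × Fin (d k)) ((k : Fin t) × Fin (d k)) F)} = q ^ (2 * (∑ i ∈ Finset.range (Finset.univ.sup d + 1), ∑ j ∈ Finset.range (Finset.univ.sup d + 1), if i < j then i * (Finset.univ.filter (fun k : Fin t => d k = i)).card * (Finset.univ.filter (fun k : Fin t => d k = j)).card else 0) + ∑ i ∈ Finset.range (Finset.univ.sup d + 1), (i - 1) * (Finset.univ.filter (fun k : Fin t => d k = i)).card ^ 2) * ∏ i ∈ Finset.range (Finset.univ.sup d + 1), ∏ j : Fin ((Finset.univ.filter (fun k : Fin t => d k = i)).card), (q ^ (Finset.univ.filter (fun k : Fin t => d k = i)).card - q ^ (j : ℕ)) := by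
  exact main d hF hd

end Cfsg.Agent.S2581
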