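import Cfsg.Statements.S5118
import Cfsg.Agent.Lib.Helper27.FSSubgroupSat
import Cfsg.Agent.Lib.Helper27.FSWeaklyNormal

set_option autoImplicit false
open Cfsg

namespace Cfsg.Agent.S5118

open Cfsg.FusionSystem Cfsg.Agent.Lib.Helper26 Cfsg.Agent.Lib.Helper27

section

variable {G : Type*} [Group G]

theorem sub_subsystem (S H : Subgroup G) :
    (fusionSystemOfSubgroup H (S ⊓ H) inf_le_right).IsSubsystemOf (groupFusionSystem S) := by
  rintro P φ ⟨hP, hφ, g, -, hg⟩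
  exact ⟨hP.trans inf_le_left, fun x => (hφ x).1, g, hg⟩

theorem inf_stronglyClosed (S H : Subgroup G) [H.Normal] :
    (groupFusionSystem S).StronglyClosed (S ⊓ H) := by
  refine ⟨inf_le_left, ?_⟩
  rintro R hR φ ⟨-, hφS, g, hg⟩ x
  refine ⟨hφS x, ?_⟩
  rw [hg]
  exact Subgroup.Normal.conj_mem inferInstance _ (hR x.2).2 g

theorem sub_invariance (S H : Subgroup G) [H.Normal] (P : Subgroup G) (hPT : P ≤ S ⊓ H) (φ : P →* G)
    (hφ : φ ∈ (fusionSystemOfSubgroup H (S ⊓ H) inf_le_right).Hom P) (α : MulAut ↥(S ⊓ H))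
    (hα : α ∈ (groupFusionSystem S).autGroup (S ⊓ H)) :
    ∃ χ ∈ (fusionSystemOfSubgroup H (S ⊓ H) inf_le_right).Hom
        ((P.subgroupOf (S ⊓ H)).map ((S ⊓ H).subtype.comp α.toMonoidHom)),
      ∀ (x : P) (hφx : φ x ∈ S ⊓ H)
        (hαx : ((α ⟨x, hPT x.2⟩ : ↥(S ⊓ H)) : G) ∈
          (P.subgroupOf (S ⊓ H)).map ((S ⊓ H).subtype.comp α.toMonoidHom)),
        χ ⟨(α ⟨x, hPT x.2⟩ : ↥(S ⊓ H)), hαx⟩ = ((α ⟨φ x, hφx⟩ : ↥(S ⊓ H)) : G) := by
  rw [groupFS_autGroup_eq inf_le_left] at hα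
  obtain ⟨g, -, hg⟩ := (mem_autInducedBy_iff _ _ _).mp hα
  obtain ⟨hP, hφT, h, hhH, hh⟩ := hφ
  have hghH : g * h * g⁻¹ ∈ H := Subgroup.Normal.conj_mem inferInstance h hhH g
  have key : ∀ (x : G) (hx : x ∈ P), g * h * g⁻¹ * (g * x * g⁻¹) * (g * h * g⁻¹)⁻¹ =
      g * (φ ⟨x, hx⟩) * g⁻¹ := by
    intro x hx
    rw [hh]
    simp [mul_assoc]
  refine ⟨conjHom _ (g * h * g⁻¹), ⟨img_le α P, ?_, g * h * g⁻¹, hghH, fun _ => rfl⟩, ?_⟩
  · rintro ⟨y, hy⟩
    obtain ⟨x, hx, rfl⟩ := mem_img.mp hy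
    show g * h * g⁻¹ * ((α x : ↥(S ⊓ H)) : G) * (g * h * g⁻¹)⁻¹ ∈ S ⊓ H
    rw [hg x, key x hx, ← hg ⟨φ ⟨x, hx⟩, hφT _⟩]
    exact (α _).2
  · intro x hφx hαx
    show g * h * g⁻¹ * ((α ⟨x, hPT x.2⟩ : ↥(S ⊓ H)) : G) * (g * h * g⁻¹)⁻¹ = _
    rw [hg, hg]
    exact key x x.2

variable [Finite G] {p : ℕ} [Fact p.Prime]

theorem sub_frattini (S : Sylow p G) (H : Subgroup G) [H.Normal] (P : Subgroup G)
    (hPT : P ≤ (S : Subgroup G) ⊓ H) (φ : P →* G) (hφ : φ ∈ (groupFusionSystem (S : Subgroup G)).Hom P) :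
    ∃ α ∈ (groupFusionSystem (S : Subgroup G)).autGroup ((S : Subgroup G) ⊓ H),
      ∃ φ₀ ∈ (fusionSystemOfSubgroup H ((S : Subgroup G) ⊓ H) inf_le_right).Hom P,
        ∀ (x : P) (hx : φ₀ x ∈ (S : Subgroup G) ⊓ H),
          φ x = ((α ⟨φ₀ x, hx⟩ : ↥((S : Subgroup G) ⊓ H)) : G) := by
  obtain ⟨hP, hφS, g, hg⟩ := hφ
  obtain ⟨R, hR⟩ := sylowIn_inf_of_normal S H
  have hfr := Sylow.normalizer_sup_eq_top R
  rw [hR, Subgroup.map_subgroupOf_eq_of_le inf_le_right] at hfr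
  have hgtop : g ∈ Subgroup.normalizer ((((S : Subgroup G) ⊓ H : Subgroup G)) : Set G) ⊔ H := by
    rw [hfr]; trivial
  obtain ⟨n, hn, h, hhH, rfl⟩ := Subgroup.mem_sup_of_normal_right.mp hgtop
  have hφT : ∀ x : P, φ x ∈ (S : Subgroup G) ⊓ H := by
    intro x
    refine ⟨hφS x, ?_⟩
    rw [hg]
    exact Subgroup.Normal.conj_mem inferInstance _ (hPT x.2).2 _
  have hhx : ∀ x : P, h * (x : G) * h⁻¹ ∈ (S : Subgroup G) ⊓ H := by
    intro x
    have h1 := (Subgroup.mem_normalizer_iff.mp (Subgroup.inv_mem _ hn) (φ x)).mp (hφT x)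
    rw [hg] at h1
    have h2 : n⁻¹ * (n * h * (x : G) * (n * h)⁻¹) * n⁻¹⁻¹ = h * (x : G) * h⁻¹ := by
      simp [mul_assoc]
    rwa [h2] at h1
  refine ⟨((S : Subgroup G) ⊓ H).normalizerMonoidHom ⟨n, hn⟩, ?_, conjHom P h,
    ⟨hPT, hhx, h, hhH, fun _ => rfl⟩, ?_⟩
  · rw [groupFS_autGroup_eq inf_le_left]
    exact normalizerMonoidHom_mem_autInducedBy (Subgroup.mem_top _) hn
  · intro x hx
    rw [hg]
    show n * h * (x : G) * (n * h)⁻¹ = n * (h * (x : G) * h⁻¹) * n⁻¹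
    simp [mul_assoc]

theorem sub_extension (S0 H : Subgroup G) [H.Normal] (hS0p : IsPGroup p S0)
    (hSyl : ∀ B : Subgroup G, IsPGroup p B → Nat.card B ≤ Nat.card S0)
    (T : Subgroup G) (hT : T = S0 ⊓ H) (hTH : T ≤ H)
    (α : MulAut ↥T)
    (hα : α ∈ (fusionSystemOfSubgroup H T hTH).autGroup T) :
    ∃ β ∈ (groupFusionSystem S0).autGroup (T ⊔ centralizerIn S0 T),
      (∀ x : ↥T,
        ((β (Subgroup.inclusion le_sup_left x) : ↥(T ⊔ centralizerIn S0 T)) : G) =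
          ((α x : ↥T) : G)) ∧
      ∀ c : ↥(T ⊔ centralizerIn S0 T),
        (c : G) ∈ centralizerIn S0 T →
        (c : G)⁻¹ * ((β c : ↥(T ⊔ centralizerIn S0 T)) : G) ∈
          T ⊓ Subgroup.centralizer ((T : Subgroup G) : Set G) := by
  set C : Subgroup G := centralizerIn S0 T with hC
  set R : Subgroup G := T ⊔ C with hR
  set G' : Subgroup G := H ⊔ C with hG'
  -- α = c_h
  rw [subFS_autGroup_eq hTH le_rfl] at hα
  obtain ⟨h, hhH, hh⟩ := (mem_autInducedBy_iff _ _ _).mp hα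
  have hhN : h ∈ Subgroup.normalizer (T : Set G) := mem_normalizer_of_aut α h hh
  -- `T ⊴ S0`
  have f1 : S0 ≤ Subgroup.normalizer (T : Set G) := by
    intro s hs
    rw [Subgroup.mem_normalizer_iff, hT]
    intro x
    constructor
    · rintro ⟨hx1, hx2⟩
      exact ⟨S0.mul_mem (S0.mul_mem hs hx1) (S0.inv_mem hs),
        Subgroup.Normal.conj_mem inferInstance x hx2 s⟩
    · rintro ⟨hx1, hx2⟩
      refine ⟨?_, ?_⟩
      · have := S0.mul_mem (S0.mul_mem (S0.inv_mem hs) hx1) hs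
        simpa [mul_assoc] using this
      · have := Subgroup.Normal.conj_mem (inferInstance : H.Normal) _ hx2 s⁻¹
        simpa [mul_assoc] using this
  have hCS : C ≤ S0 := inf_le_left
  have hTmem : ∀ y : G, y ∈ S0 → y ∈ H → y ∈ T := fun y h1 h2 => by rw [hT]; exact ⟨h1, h2⟩
  have hTS : T ≤ S0 := hT ▸ inf_le_left
  have hRS : R ≤ S0 := sup_le hTS hCS
  have hCcent : C ≤ Subgroup.centralizer (T : Set G) := inf_le_right
  have f4 : S0 ⊓ G' ≤ R := by
    rintro y ⟨hyS, hyG⟩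
    obtain ⟨a, ha, c, hc, rfl⟩ := Subgroup.mem_sup_of_normal_left.mp hyG
    have haS : a ∈ S0 := by
      have := S0.mul_mem hyS (S0.inv_mem (hCS hc))
      simpa [mul_assoc] using this
    exact Subgroup.mul_mem_sup (hT ▸ ⟨haS, ha⟩) hc
  have hSK : ∃ Q : Sylow p ↥(S0 ⊔ H), (Q : Subgroup ↥(S0 ⊔ H)) = S0.subgroupOf (S0 ⊔ H) := by
    rw [sylowIn_iff_card le_sup_left]
    exact ⟨hS0p, fun B _ hB => hSyl B hB⟩
  have f5 : ∀ B : Subgroup G, B ≤ G' → IsPGroup p B → Nat.card B ≤ Nat.card R := by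
    intro B hBG hB
    have hBK : B ≤ S0 ⊔ H := hBG.trans (sup_le le_sup_right (hCS.trans le_sup_left))
    obtain ⟨x, hxK, hx⟩ := exists_conj_le_of_sylowIn hSK hBK hB
    obtain ⟨s, hs, a, ha, rfl⟩ := Subgroup.mem_sup_of_normal_right.mp hxK
    have hBa : B.map (MulAut.conj a).toMonoidHom ≤ S0 ⊓ G' := by
      rintro _ ⟨b, hb, rfl⟩
      refine ⟨?_, ?_⟩
      · have h1 : s * a * b * (s * a)⁻¹ ∈ S0 := hx ⟨b, hb, rfl⟩
        have h2 := S0.mul_mem (S0.mul_mem (S0.inv_mem hs) h1) hs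
        have h3 : s⁻¹ * (s * a * b * (s * a)⁻¹) * s = a * b * a⁻¹ := by simp [mul_assoc]
        rw [h3] at h2
        exact h2
      · have haG : a ∈ G' := Subgroup.mem_sup_left ha
        exact G'.mul_mem (G'.mul_mem haG (hBG hb)) (G'.inv_mem haG)
    rw [← card_map_conj B a]
    exact Subgroup.card_le_of_le (hBa.trans f4)
  have hRN : normalizerIn R T = R := le_antisymm inf_le_left (le_inf le_rfl (hRS.trans f1))
  have hRG' : R ≤ G' := sup_le (hTH.trans le_sup_left) le_sup_right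
  have hRp : IsPGroup p R := hS0p.to_le hRS
  have hN : ∃ Q : Sylow p ↥(normalizerIn G' T),
      (Q : Subgroup ↥(normalizerIn G' T)) = (normalizerIn R T).subgroupOf (normalizerIn G' T) := by
    rw [sylowIn_iff_card (show normalizerIn R T ≤ normalizerIn G' T from inf_le_inf hRG' le_rfl)]
    refine ⟨hRp.to_le inf_le_left, fun B hBN hB => ?_⟩
    rw [hRN]
    exact f5 B (hBN.trans inf_le_left) hB
  have hB0 : R.map (MulAut.conj h).toMonoidHom ≤ normalizerIn R T ⊔ centralizerIn G' T := by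
    rw [Subgroup.map_le_iff_le_comap, hRN, hR]
    apply sup_le
    · intro t ht
      show h * t * h⁻¹ ∈ T ⊔ C ⊔ centralizerIn G' T
      exact Subgroup.mem_sup_left
        (Subgroup.mem_sup_left ((Subgroup.mem_normalizer_iff.mp hhN t).mp ht))
    · intro c hc
      show h * c * h⁻¹ ∈ T ⊔ C ⊔ centralizerIn G' T
      have h1 : h * c * h⁻¹ = (h * c * h⁻¹ * c⁻¹) * c := by simp [mul_assoc]
      rw [h1]
      refine Subgroup.mul_mem _ (Subgroup.mem_sup_right ⟨?_, ?_⟩)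
        (Subgroup.mem_sup_left (Subgroup.mem_sup_right hc))
      · apply Subgroup.mem_sup_left
        have : h * (c * h⁻¹ * c⁻¹) ∈ H :=
          H.mul_mem hhH (Subgroup.Normal.conj_mem inferInstance _ (H.inv_mem hhH) c)
        simpa [mul_assoc] using this
      · have h2 : h * c * h⁻¹ ∈ Subgroup.centralizer (T : Set G) := by
          have := normalizer_le_normalizer_centralizer T hhN
          exact (Subgroup.mem_normalizer_iff.mp this c).mp (hCcent hc)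
        exact Subgroup.mul_mem _ h2 (Subgroup.inv_mem _ (hCcent hc))
  obtain ⟨c', hc', hle⟩ :=
    exists_centralizerIn_conj_le (p := p) hRG' T hN (isPGroup_map_conj hRp h) hB0
  rw [map_conj_map_conj, hRN] at hle
  obtain ⟨a, ha, c0, hc0, hac⟩ := Subgroup.mem_sup_of_normal_left.mp hc'.1
  have hc0R : c0 ∈ R := Subgroup.mem_sup_right hc0
  obtain ⟨g, hg⟩ : ∃ g : G, g = c' * h * c0⁻¹ := ⟨_, rfl⟩
  have hgH : g ∈ H := by
    rw [hg, ← hac]
    have : a * (c0 * h * c0⁻¹) ∈ H :=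
      H.mul_mem ha (Subgroup.Normal.conj_mem inferInstance _ hhH c0)
    simpa [mul_assoc] using this
  have hgR : ∀ y ∈ R, g * y * g⁻¹ ∈ R := by
    intro y hy
    have h1 : c0⁻¹ * y * c0⁻¹⁻¹ ∈ R :=
      R.mul_mem (R.mul_mem (R.inv_mem hc0R) hy) (R.inv_mem (R.inv_mem hc0R))
    have h2 : c' * h * (c0⁻¹ * y * c0⁻¹⁻¹) * (c' * h)⁻¹ ∈ R := hle ⟨_, h1, rfl⟩
    have h3 : g * y * g⁻¹ = c' * h * (c0⁻¹ * y * c0⁻¹⁻¹) * (c' * h)⁻¹ := by
      rw [hg]; simp [mul_assoc]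
    rw [h3]
    exact h2
  have hgNR : g ∈ Subgroup.normalizer (R : Set G) := mem_normalizer_of_conj_mem_finite hgR
  have hgT : ∀ t ∈ T, g * t * g⁻¹ = h * t * h⁻¹ := by
    intro t ht
    have h1 : c0⁻¹ * t * c0 = t := by
      have := (Subgroup.mem_centralizer_iff.mp (hCcent hc0)) t ht
      rw [mul_assoc, this, inv_mul_cancel_left]
    have h2 : c' * (h * t * h⁻¹) * c'⁻¹ = h * t * h⁻¹ := by
      have ht' : h * t * h⁻¹ ∈ T := (Subgroup.mem_normalizer_iff.mp hhN t).mp ht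
      have := (Subgroup.mem_centralizer_iff.mp hc'.2) _ ht'
      rw [← this, mul_inv_cancel_right]
    calc g * t * g⁻¹ = c' * (h * (c0⁻¹ * t * c0) * h⁻¹) * c'⁻¹ := by rw [hg]; simp [mul_assoc]
      _ = c' * (h * t * h⁻¹) * c'⁻¹ := by rw [h1]
      _ = h * t * h⁻¹ := h2
  have hgNT : g ∈ Subgroup.normalizer (T : Set G) :=
    mem_normalizer_of_conj_mem_finite (fun y hy => by
      rw [hgT y hy]; exact (Subgroup.mem_normalizer_iff.mp hhN y).mp hy)
  have hgC : ∀ c ∈ C, g * c * g⁻¹ ∈ C := by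
    intro c hc
    refine ⟨hRS (hgR c (Subgroup.mem_sup_right hc)), ?_⟩
    have := normalizer_le_normalizer_centralizer T hgNT
    exact (Subgroup.mem_normalizer_iff.mp this c).mp (hCcent hc)
  refine ⟨R.normalizerMonoidHom ⟨g, hgNR⟩, ?_, ?_, ?_⟩
  · rw [groupFS_autGroup_eq hRS]
    exact normalizerMonoidHom_mem_autInducedBy (Subgroup.mem_top _) hgNR
  · intro x
    show g * (x : G) * g⁻¹ = _
    rw [hgT x x.2, hh]
  · intro c hc
    show (c : G)⁻¹ * (g * (c : G) * g⁻¹) ∈ _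
    have h1 := hgC c hc
    have hmemT : (c : G)⁻¹ * (g * (c : G) * g⁻¹) ∈ T := by
      refine hTmem _ (S0.mul_mem (S0.inv_mem (hCS hc)) (hCS h1)) ?_
      have h2 : (c : G)⁻¹ * g * (c : G)⁻¹⁻¹ ∈ H :=
        Subgroup.Normal.conj_mem inferInstance g hgH (c : G)⁻¹
      have h3 := H.mul_mem h2 (H.inv_mem hgH)
      have h4 : (c : G)⁻¹ * g * (c : G)⁻¹⁻¹ * g⁻¹ = (c : G)⁻¹ * (g * (c : G) * g⁻¹) := by
        simp [mul_assoc]
      rw [h4] at h3
      exact h3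
    exact ⟨hmemT, Subgroup.mul_mem _ (Subgroup.inv_mem _ (hCcent hc)) (hCcent h1)⟩

end

end Cfsg.Agent.S5118

namespace Cfsg.Agent.S5118

open Cfsg.FusionSystem Cfsg.Agent.Lib.Helper26 Cfsg.Agent.Lib.Helper27

/-- For a finite group G with Sylow p-subgroup S and a normal subgroup H, the fusion system of H on S ∩ H is a normal subsystem of the fusion system of G on S. -/
theorem result {G : Type*} [Group G] [Finite G] (p : ℕ) [Fact p.Prime] (S : Sylow p G) (H : Subgroup G) [H.Normal] : (Cfsg.fusionSystemOfSubgroup H ((S : Subgroup G) ⊓ H) inf_le_right).IsNormalIn (Cfsg.groupFusionSystem (S : Subgroup G)) p := by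
  refine ⟨⟨subFS_saturated inf_le_right (sylowIn_inf_of_normal S H), groupFS_saturated S,
    sub_subsystem _ H, inf_stronglyClosed _ H, ?_, ?_⟩, ?_⟩
  · intro P hPT φ hφ α hα
    exact sub_invariance _ H P hPT φ hφ α hα
  · intro P hPT φ hφ
    exact sub_frattini S H P hPT φ hφ
  · intro α hα
    refine sub_extension (S : Subgroup G) H S.isPGroup' ?_ _ rfl inf_le_right α hα
    intro B hB
    obtain ⟨x, hx⟩ := exists_conj_le_sylow S hB
    rw [← card_map_conj B x]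
    exact Subgroup.card_le_of_le hx

end Cfsg.Agent.S5118
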