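import Cfsg.Statements.S3888
import Cfsg.Agent.Lib.Helper27.Blackburn9
import Cfsg.Agent.Lib.Helper20.NormalRankTwoB

set_option autoImplicit false
open Cfsg

namespace Cfsg.Agent.S3888

open Cfsg.Agent.Lib.Helper27.Blackburn Cfsg.Agent.Lib.Helper22.RankTwoChar

/-- the case `C = N` of order `p²`: `G` is the nonabelian group of order `p³` and exponent `p` -/
theorem small_case {G : Type*} [Group G] [Finite G] {p : ℕ} [hp : Fact p.Prime] {N : Subgroup G}
    (S : Cfg p N) (Z : Subgroup G) (hZN : Z ≤ N) (hZcard : Nat.card Z = p)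
    (hZc : Z ≤ Subgroup.center G) (hZcomm : ∀ n ∈ N, ∀ g : G, n⁻¹ * (g⁻¹ * n * g) ∈ Z)
    (hZfix : ∀ g : G, g ∉ S.cen → ∀ n ∈ N, n * g = g * n → n ∈ Z)
    (n : ℕ) (hcard : Nat.card G = p ^ n) (hidx : S.cen.index = p)
    (g : G) (hg : g ∉ S.cen) (hall : ∀ x : G, x ^ p ∈ S.ag) (hCN : S.cen ≤ N) :
    (3 ≤ n ∧ ∃ x y z : G, Subgroup.closure ({x, y, z} : Set G) = ⊤ ∧ x ^ p = 1 ∧ y ^ p = 1 ∧
        z ^ p ^ (n - 2) = 1 ∧ x * z = z * x ∧ y * z = z * y ∧
        x⁻¹ * y * x = y * z ^ p ^ (n - 3)) := by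
  have hpp := hp.out
  have hCeq : S.cen = N := le_antisymm hCN S.le_cen
  have hn : n = 3 := by
    have h1 := S.cen.card_mul_index
    rw [hidx, hCeq, S.hNcard, hcard] at h1
    have h2 : p ^ 2 * p = p ^ 3 := by ring
    rw [h2] at h1
    exact (Nat.pow_right_injective hpp.two_le h1.symm)
  subst hn
  have hag : S.ag = ⊥ := by
    rw [eq_bot_iff]
    apply S.ag_le
    intro h hh
    rw [Subgroup.mem_bot]
    exact S.hNexp h (hCN hh)
  have hexp : ∀ x : G, x ^ p = 1 := by
    intro x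
    have := hall x
    rwa [hag, Subgroup.mem_bot] at this
  have hlt : Z < N := by
    refine lt_of_le_of_ne hZN ?_
    intro h
    have h1 := hZcard
    rw [h, S.hNcard] at h1
    have := hpp.one_lt
    nlinarith
  obtain ⟨y, hyN, hyZ⟩ := SetLike.exists_of_lt hlt
  set z := y⁻¹ * (g⁻¹ * y * g) with hz
  have hzZ : z ∈ Z := hZcomm y hyN g
  have hz1 : z ≠ 1 := by
    intro h
    apply hyZ
    apply hZfix g hg y hyN
    have h2 : g⁻¹ * y * g = y := (inv_mul_eq_one.mp h).symm
    calc y * g = g * (g⁻¹ * y * g) := by group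
      _ = g * y := by rw [h2]
  refine ⟨le_rfl, g, y, z, ?_, hexp g, hexp y, ?_, ?_, ?_, ?_⟩
  · set H := Subgroup.closure ({g, y, z} : Set G) with hH
    have hgH : g ∈ H := Subgroup.subset_closure (by simp)
    have hyH : y ∈ H := Subgroup.subset_closure (by simp)
    have hzH : z ∈ H := Subgroup.subset_closure (by simp)
    have hZH : Z ≤ H := by
      rw [Cfg.eq_zpowers_of_card_prime Z hZcard hzZ hz1, Subgroup.zpowers_le]
      exact hzH
    have hsup : Z ⊔ Subgroup.zpowers y = N := by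
      have hlt' : Z < Z ⊔ Subgroup.zpowers y := by
        refine lt_of_le_of_ne le_sup_left ?_
        intro h
        apply hyZ
        rw [h]
        exact Subgroup.mem_sup_right (Subgroup.mem_zpowers y)
      have hle : Z ⊔ Subgroup.zpowers y ≤ N := sup_le hZN (by rw [Subgroup.zpowers_le]; exact hyN)
      have h1 := p_mul_card_le S.hG hlt'
      rw [hZcard] at h1
      apply Subgroup.eq_of_le_of_card_ge hle
      rw [S.hNcard, pow_two]; exact h1
    have hNH : N ≤ H := by
      rw [← hsup]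
      exact sup_le hZH (by rw [Subgroup.zpowers_le]; exact hyH)
    exact eq_top_of_le_of_not_mem S.cen H hidx (le_trans hCN hNH) hgH hg
  · simpa using hexp z
  · exact (Subgroup.mem_center_iff.mp (hZc hzZ) g)
  · exact S.hNcomm y hyN z (hZN hzZ)
  · rw [hz]; simp

/-- The classification of the p-groups of rank at most two for odd p. Let p be an odd prime and G a group of order p^n with no elementary abelian subgroup of order p³. Then one of the following holds: G is metacyclic; n ≥ 3 and G is generated by elements x, y, z with x^p = y^p = z^(p^(n−2)) = 1, z commuting with x and y, and x⁻¹yx = y z^(p^(n−3)); n ≥ 4 and G is generated by elements x, y, z with x^p = y^p = z^(p^(n−2)) = 1, yz = zy, x⁻¹yx = y z^(s p^(n−3)) and x⁻¹zx = yz, where s = 1 or s is a quadratic non-residue modulo p; or p = 3 and G has maximal class (nilpotency class n − 1). -/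
theorem result {G : Type*} [Group G] [Finite G] {p : ℕ} [Fact p.Prime] (hp : p ≠ 2) (n : ℕ) (hG : Nat.card G = p ^ n)
    (hrk : Cfsg.PRankLE p 2 G) :
    Cfsg.IsMetacyclic G ∨
    (3 ≤ n ∧ ∃ x y z : G, Subgroup.closure ({x, y, z} : Set G) = ⊤ ∧ x ^ p = 1 ∧ y ^ p = 1 ∧ z ^ p ^ (n - 2) = 1 ∧
        x * z = z * x ∧ y * z = z * y ∧ x⁻¹ * y * x = y * z ^ p ^ (n - 3)) ∨
    (4 ≤ n ∧ ∃ (s : ℕ) (x y z : G), (s = 1 ∨ ¬ IsSquare (s : ZMod p)) ∧ Subgroup.closure ({x, y, z} : Set G) = ⊤ ∧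
        x ^ p = 1 ∧ y ^ p = 1 ∧ z ^ p ^ (n - 2) = 1 ∧ y * z = z * y ∧ x⁻¹ * y * x = y * z ^ (s * p ^ (n - 3)) ∧
        x⁻¹ * z * x = y * z) ∨
    (p = 3 ∧ 2 ≤ n ∧ (⊤ : Subgroup G).lowerCentralSeries (n - 2) ≠ ⊥) := by
  have hpp : p.Prime := Fact.out
  have hGp : IsPGroup p G := IsPGroup.of_card hG
  by_cases hcyc : IsCyclic G
  · left
    exact ⟨⊥, inferInstance, isCyclic_of_subsingleton,
      isCyclic_of_surjective (QuotientGroup.mk' ⊥) (QuotientGroup.mk'_surjective ⊥)⟩
  obtain ⟨N, hNn, hNc, hNe, hNcard⟩ :=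
    Cfsg.Agent.Lib.Helper20.exists_normal_elemAb_of_not_isCyclic hp hGp hcyc
  have S : Cfg p N :=
    { hp2 := hp, hG := hGp, hrk := hrk, hNn := hNn, hNexp := hNe,
      hNcomm := fun x hx y hy => congrArg Subtype.val (hNc.is_comm.comm ⟨x, hx⟩ ⟨y, hy⟩),
      hNcard := hNcard }
  by_cases hCtop : S.cen = ⊤
  · left; exact S.isMetacyclic_of_cen_eq_top hCtop
  by_cases hall : ∀ x : G, x ^ p ∈ S.ag
  swap
  · left
    push Not at hall
    obtain ⟨x, hx⟩ := hall
    exact S.isMetacyclic_of_pow_not_mem hx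
  -- the index of `C`
  have hidx : S.cen.index = p := by
    have h1 := S.card_le
    have h2 := S.cen.card_mul_index
    have h3 : S.cen.index ≠ 1 := fun h => hCtop (Subgroup.index_eq_one.mp h)
    have h4 : S.cen.index ∣ p ^ n := by rw [← hG]; exact Subgroup.index_dvd_card _
    obtain ⟨j, hj, hj2⟩ := (Nat.dvd_prime_pow hpp).mp h4
    have h5 : 0 < Nat.card S.cen := Nat.card_pos
    have h6 : S.cen.index ≤ p := by
      rw [← h2] at h1
      have : Nat.card S.cen * S.cen.index ≤ Nat.card S.cen * p := by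
        rw [mul_comm _ p]; exact h1
      exact Nat.le_of_mul_le_mul_left this h5
    rw [hj2] at h3 h6 ⊢
    have hj1 : j ≤ 1 := by
      by_contra hlt
      push Not at hlt
      have : p ^ 2 ≤ p ^ j := Nat.pow_le_pow_right hpp.pos hlt
      have := hpp.one_lt
      nlinarith
    have hj0 : j ≠ 0 := by
      rintro rfl
      exact h3 (pow_zero p)
    have : j = 1 := by omega
    rw [this, pow_one]
  obtain ⟨Z, hZN, hZcard, hZc, hZcomm, hZfix⟩ := S.exists_Z
  obtain ⟨g, hg⟩ : ∃ g : G, g ∉ S.cen := by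
    by_contra h
    push Not at h
    exact hCtop (eq_top_iff.mpr fun x _ => h x)
  have hn2 : 2 ≤ n := by
    have h1 : p ^ 2 ∣ p ^ n := by
      rw [← hNcard, ← hG]; exact Subgroup.card_subgroup_dvd_card N
    exact (Nat.pow_dvd_pow_iff_le_right hpp.one_lt).mp h1
  have hnil : Group.IsNilpotent G := hGp.isNilpotent
  by_cases hA : ∃ v ∈ S.cen, v ^ p ∈ N ∧ v ^ p ∉ Z
  · obtain ⟨v, hv, hvN, hvZ⟩ := hA
    obtain ⟨hp3, hcl⟩ := S.caseA Z hZN hZcard hZc hZcomm hZfix n hG hidx g hg (hall g) v hv hvN hvZ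
    right; right; right
    exact ⟨hp3, hn2, lowerCentralSeries_ne_bot_of_nilpotencyClass n hn2 hcl⟩
  have hB : ∀ t ∈ S.cen, t ^ p ∈ N → t ^ p ∈ Z := by
    intro t ht htp
    by_contra h
    exact hA ⟨t, ht, htp, h⟩
  obtain ⟨c, hc, hgen⟩ := S.exists_generator_mod Z hZcard hB
  by_cases hcN : c ∈ N
  · right; left
    apply small_case S Z hZN hZcard hZc hZcomm hZfix n hG hidx g hg hall
    intro h hh
    obtain ⟨i, m, hm, rfl⟩ := hgen h hh
    exact N.mul_mem (N.pow_mem hcN i) hm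
  obtain ⟨k, hk⟩ := Cfsg.Agent.Lib.Helper1.HuppertMeta.exists_orderOf_eq_pow hGp c
  have hk2 : 2 ≤ k := by
    by_contra hlt
    push Not at hlt
    apply hcN
    apply S.mem_of_pow_eq_one hc
    have : orderOf c ∣ p := by
      rw [hk]
      calc p ^ k ∣ p ^ 1 := pow_dvd_pow p (by omega)
        _ = p := pow_one p
    exact orderOf_dvd_iff_pow_eq_one.mp this
  have B : CfgB p N Z c g k :=
    { S := S, hZN := hZN, hZcard := hZcard, hZc := hZc, hZcomm := hZcomm, hZfix := hZfix,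
      hidx := hidx, hc := hc, hgen := hgen, hord := hk, hk := hk2, hg := hg, hall := hall,
      hB := hB }
  rcases B.exists_pow_eq_one_or n hG with ⟨e, he⟩ | ⟨hp3, hcl⟩
  · rcases (B.replace e).final he n hG with h | h
    · right; left; exact h
    · right; right; left; exact h
  · right; right; right
    exact ⟨hp3, hn2, lowerCentralSeries_ne_bot_of_nilpotencyClass n hn2 hcl⟩

end Cfsg.Agent.S3888
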