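import Cfsg.Statements.S4866
import Cfsg.Agent.Lib.Helper25.RealOrbits
-- import your own Cfsg.Agent.* helpers here

set_option autoImplicit false
open Cfsg

namespace Cfsg.Agent.S4866

open Cfsg.Agent.Lib.Helper25 Cfsg.Agent.CharLib Cfsg.Agent.Lib.Helper6

/-- Let K be a normal subgroup of odd index in the finite group G. Then G has as many orbits on the real-valued irreducible complex characters of K (acting by conjugation) as it has orbits on the conjugacy classes of K that are real in K; equivalently, the number of G-orbits of real-valued irreducible characters of K equals the number of G-conjugacy classes of elements of K that are conjugate in K to their inverses. -/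
theorem result {G : Type*} [Group G] [Finite G] (K : Subgroup G) [K.Normal] (hodd : Odd K.index) : Nat.card (Quot (fun θ η : {θ : Cfsg.IrrCharacter ↥K // (∀ k : ↥K, ((θ : ↥K → ℂ) k).im = 0)} => ∃ g : G, ∀ k k' : ↥K, (k' : G) = g * (k : G) * g⁻¹ → (η.1 : ↥K → ℂ) k' = (θ.1 : ↥K → ℂ) k)) = Nat.card (Quot (fun x y : {x : ↥K // IsConj x x⁻¹} => ∃ g : G, (y.1 : G) = g * x.1 * g⁻¹)) := by
  classical
  letI := Fintype.ofFinite G
  letI actX := realIrrAction K
  letI actZ := realClsAction K
  -- left side: orbits on real irreducible characters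
  have hL := card_quot_eq_card_orbits (G := G)
    (fun θ η : {θ : Cfsg.IrrCharacter ↥K // (∀ k : ↥K, ((θ : ↥K → ℂ) k).im = 0)} =>
      ∃ g : G, ∀ k k' : ↥K, (k' : G) = g * (k : G) * g⁻¹ → (η.1 : ↥K → ℂ) k' = (θ.1 : ↥K → ℂ) k)
    id Function.surjective_id (by
      intro θ η
      constructor
      · rintro ⟨g, hg⟩
        refine ⟨g, ?_⟩
        apply Subtype.ext; apply Subtype.ext
        funext k'
        show (η.1 : ↥K → ℂ) k' = conjFun K g⁻¹ θ.1.1 k'
        rw [conjFun_apply]
        apply hg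
        simp [mul_assoc]
      · rintro ⟨g, hg⟩
        refine ⟨g, ?_⟩
        intro k k' hk
        have h1 : (η.1 : ↥K → ℂ) = conjFun K g⁻¹ θ.1.1 := by
          have := congrArg (fun x => (x.1 : ↥K → ℂ)) hg
          exact this
        rw [h1, conjFun_apply]
        exact congrArg (θ.1.1) (Subtype.ext (by simp [hk, mul_assoc])))
  -- right side: orbits on real classes
  have hreal : ∀ x : {x : ↥K // IsConj x x⁻¹}, ∀ k : ↥K,
      ConjClasses.mk k = ConjClasses.mk x.1 → IsConj k k⁻¹ :=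
    fun x k hk => real_of_mk_eq K x.2 hk
  have hR := card_quot_eq_card_orbits (G := G)
    (fun x y : {x : ↥K // IsConj x x⁻¹} => ∃ g : G, (y.1 : G) = g * x.1 * g⁻¹)
    (fun x => (⟨ConjClasses.mk x.1, hreal x⟩ :
      {C : ConjClasses ↥K // ∀ k : ↥K, ConjClasses.mk k = C → IsConj k k⁻¹}))
    (by
      rintro ⟨C, hC⟩
      obtain ⟨k0, rfl⟩ := ConjClasses.exists_rep C
      exact ⟨⟨k0, hC k0 rfl⟩, rfl⟩)
    (by
      intro x y
      constructor
      · rintro ⟨g, hg⟩
        refine ⟨g, ?_⟩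
        apply Subtype.ext
        show ConjClasses.mk y.1 = ConjClasses.mk ((MulAut.conjNormal g : MulAut ↥K) x.1)
        congr 1
        apply Subtype.ext
        rw [hg, MulAut.conjNormal_apply]
      · rintro ⟨g, hg⟩
        have h1 : ConjClasses.mk y.1 = ConjClasses.mk ((MulAut.conjNormal g : MulAut ↥K) x.1) :=
          congrArg Subtype.val hg
        obtain ⟨k, hk⟩ := isConj_iff.mp (ConjClasses.mk_eq_mk_iff_isConj.mp h1)
        refine ⟨(k : G)⁻¹ * g, ?_⟩
        have h2 := congrArg (fun z : ↥K => (z : G)) hk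
        simp only [Subgroup.coe_mul, Subgroup.coe_inv, MulAut.conjNormal_apply] at h2
        have : (y.1 : G) = (k : G)⁻¹ * ((k : G) * (y.1 : G) * (k : G)⁻¹) * (k : G) := by group
        rw [this, h2]
        group)
  rw [hL, hR]
  -- Burnside
  have hB1 := Cfsg.Agent.Lib.Helper19.burnside_natCard (G := G)
    (Ω := {θ : Cfsg.IrrCharacter ↥K // (∀ k : ↥K, ((θ : ↥K → ℂ) k).im = 0)})
  have hB2 := Cfsg.Agent.Lib.Helper19.burnside_natCard (G := G)
    (Ω := {C : ConjClasses ↥K // ∀ k : ↥K, ConjClasses.mk k = C → IsConj k k⁻¹})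
  have hfix : ∀ g : G,
      Nat.card (MulAction.fixedBy {θ : Cfsg.IrrCharacter ↥K // (∀ k : ↥K, ((θ : ↥K → ℂ) k).im = 0)} g) =
      Nat.card (MulAction.fixedBy
        {C : ConjClasses ↥K // ∀ k : ↥K, ConjClasses.mk k = C → IsConj k k⁻¹} g) := by
    intro g
    have hc : ∀ k : ↥K, IsConj (((MulAut.conjNormal g : MulAut ↥K) ^ K.index) k) k := by
      intro k
      rw [← map_pow]
      have hm : g ^ K.index ∈ K := Subgroup.pow_index_mem K g
      refine (isConj_iff.mpr ⟨⟨g ^ K.index, hm⟩, ?_⟩).symm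
      apply Subtype.ext
      rw [MulAut.conjNormal_apply]
      rfl
    have key := card_real_fixed (MulAut.conjNormal g : MulAut ↥K) K.index hodd hc
    have e1 : Nat.card (MulAction.fixedBy
        {θ : Cfsg.IrrCharacter ↥K // (∀ k : ↥K, ((θ : ↥K → ℂ) k).im = 0)} g) =
        Nat.card {θ : Cfsg.IrrCharacter ↥K //
          (θ : ↥K → ℂ) ∘ (MulAut.conjNormal g : MulAut ↥K) = (θ : ↥K → ℂ) ∧
          ∀ k, ((θ : ↥K → ℂ) k).im = 0} := by
      apply Nat.card_congr
      refine
        { toFun := fun θ => ⟨θ.1.1, ?_, θ.1.2⟩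
          invFun := fun θ => ⟨⟨θ.1, θ.2.2⟩, ?_⟩
          left_inv := fun θ => rfl
          right_inv := fun θ => rfl }
      · have h1 : g • θ.1 = θ.1 := θ.2
        have h2 : conjFun K g⁻¹ θ.1.1.1 = θ.1.1.1 :=
          congrArg (fun x => (x.1 : ↥K → ℂ)) h1
        rw [← conjFun_eq_comp]
        calc conjFun K g θ.1.1.1 = conjFun K g (conjFun K g⁻¹ θ.1.1.1) := by rw [h2]
          _ = θ.1.1.1 := conjFun_conjFun_inv K g _
      · show g • (⟨θ.1, θ.2.2⟩ : {θ : Cfsg.IrrCharacter ↥K //
          (∀ k : ↥K, ((θ : ↥K → ℂ) k).im = 0)}) = ⟨θ.1, θ.2.2⟩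
        apply Subtype.ext; apply Subtype.ext
        show conjFun K g⁻¹ θ.1.1 = θ.1.1
        have h2 : conjFun K g θ.1.1 = θ.1.1 := by rw [conjFun_eq_comp]; exact θ.2.1
        calc conjFun K g⁻¹ θ.1.1 = conjFun K g⁻¹ (conjFun K g θ.1.1) := by rw [h2]
          _ = θ.1.1 := conjFun_inv_conjFun K g _
    have e2 : Nat.card (MulAction.fixedBy
        {C : ConjClasses ↥K // ∀ k : ↥K, ConjClasses.mk k = C → IsConj k k⁻¹} g) =
        Nat.card {C : ConjClasses ↥K //
          (∀ k, ConjClasses.mk k = C → IsConj ((MulAut.conjNormal g : MulAut ↥K) k) k) ∧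
          (∀ k, ConjClasses.mk k = C → IsConj k k⁻¹)} := by
      apply Nat.card_congr
      refine
        { toFun := fun C => ⟨C.1.1, ?_, C.1.2⟩
          invFun := fun C => ⟨⟨C.1, C.2.2⟩, ?_⟩
          left_inv := fun C => rfl
          right_inv := fun C => rfl }
      · intro k hk
        have h1 : g • C.1 = C.1 := C.2
        have h2 : ConjClasses.map (MulAut.conjNormal g : ↥K ≃* ↥K).toMonoidHom C.1.1 = C.1.1 :=
          congrArg Subtype.val h1
        rw [← hk] at h2
        exact ConjClasses.mk_eq_mk_iff_isConj.mp h2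
      · show g • (⟨C.1, C.2.2⟩ :
          {C : ConjClasses ↥K // ∀ k : ↥K, ConjClasses.mk k = C → IsConj k k⁻¹}) = ⟨C.1, C.2.2⟩
        apply Subtype.ext
        show ConjClasses.map (MulAut.conjNormal g : ↥K ≃* ↥K).toMonoidHom C.1 = C.1
        obtain ⟨C, hC⟩ := C
        obtain ⟨k0, rfl⟩ := ConjClasses.exists_rep C
        exact ConjClasses.mk_eq_mk_iff_isConj.mpr (hC.1 k0 rfl)
    rw [e1, e2, key]
  have hsum : Nat.card (MulAction.orbitRel.Quotient G
      {θ : Cfsg.IrrCharacter ↥K // (∀ k : ↥K, ((θ : ↥K → ℂ) k).im = 0)}) * Nat.card G =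
      Nat.card (MulAction.orbitRel.Quotient G
      {C : ConjClasses ↥K // ∀ k : ↥K, ConjClasses.mk k = C → IsConj k k⁻¹}) * Nat.card G := by
    rw [← hB1, ← hB2]
    exact Finset.sum_congr rfl (fun g _ => hfix g)
  exact Nat.eq_of_mul_eq_mul_right Nat.card_pos hsum

end Cfsg.Agent.S4866
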