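import Cfsg.Statements.S2336
-- import your own Cfsg.Agent.* helpers here
import Cfsg.Agent.Lib.Helper15.SLPerm
import Cfsg.Agent.Lib.Helper15.MultFree
import Cfsg.Agent.Lib.Helper6.LinChar
import Cfsg.Agent.Lib.Helper10.SylowInduced
import Cfsg.Agent.Lib.Helper10.TIInd
import Cfsg.Agent.Lib.Lead.CharInd

set_option autoImplicit false
open Cfsg

namespace Cfsg.Agent.S2336

open Matrix Cfsg Cfsg.Agent.CharLib Cfsg.Agent.Lib.Helper15.SLTrans Cfsg.Agent.Lib.Helper15.SLPerm
  Cfsg.Agent.Lib.Helper15.MultFree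
open scoped ComplexConjugate

section mulchar
variable {F : Type*} [Field F] [Fintype F] [DecidableEq F]

instance instNeZeroExp : NeZero (Monoid.exponent Fˣ) := ⟨Monoid.exponent_ne_zero_of_finite⟩

noncomputable instance instFintypeMulChar : Fintype (MulChar F ℂ) := Fintype.ofFinite _

theorem card_mulChar : Fintype.card (MulChar F ℂ) = Fintype.card F - 1 := by
  rw [← Nat.card_eq_fintype_card, MulChar.card_eq_card_units_of_hasEnoughRootsOfUnity F ℂ,
    Nat.card_units, Nat.card_eq_fintype_card]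

/-- column orthogonality for multiplicative characters -/
theorem sum_mulChar (a : F) :
    ∑ α : MulChar F ℂ, α a = if a = 1 then ((Fintype.card F - 1 : ℕ) : ℂ) else 0 := by
  split_ifs with ha
  · subst ha
    simp only [map_one, Finset.sum_const, Finset.card_univ, nsmul_eq_mul, mul_one]
    rw [card_mulChar]
  · obtain ⟨χ, hχ⟩ := MulChar.exists_apply_ne_one_of_hasEnoughRootsOfUnity F ℂ ha
    refine eq_zero_of_mul_eq_self_left hχ ?_
    simp only [Finset.mul_sum, ← MulChar.mul_apply]
    exact Fintype.sum_bijective _ (Group.mulLeft_bijective χ) _ _ fun χ' ↦ rfl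

end mulchar

section main
variable {F : Type*} [Field F] [Fintype F] [DecidableEq F] {k : ℕ}

local notation "𝔾" => Matrix.SpecialLinearGroup (Fin (k + 3)) F
local notation "𝕏" => NZ F (k + 3)

/-- the permutation character -/
noncomputable def pi0 (g : 𝔾) : ℂ := (Nat.card (MulAction.fixedBy 𝕏 g) : ℂ)

theorem pi0_eq (g : 𝔾) :
    (Nat.card {v : Fin (k + 3) → F // v ≠ 0 ∧ (g : Matrix (Fin (k + 3)) (Fin (k + 3)) F).mulVec v = v} : ℂ) =
      pi0 g := by
  unfold pi0
  congr 1
  apply Nat.card_congr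
  refine ⟨fun v => ⟨⟨v.1, v.2.1⟩, Subtype.ext v.2.2⟩, fun v => ⟨v.1.1, v.1.2, congrArg Subtype.val v.2⟩,
    fun v => rfl, fun v => rfl⟩

theorem classInner_pi0 : classInner (pi0 (F := F) (k := k)) pi0 = (Fintype.card F : ℂ) := by
  unfold classInner
  have h1 : ∀ g : 𝔾, pi0 g * conj (pi0 g) = (Nat.card (MulAction.fixedBy (𝕏 × 𝕏) g) : ℂ) := by
    intro g
    unfold pi0
    rw [Complex.conj_natCast, card_fixedBy_prod, Nat.cast_mul]
  rw [Finset.sum_congr rfl (fun g _ => h1 g), sum_card_fixedBy, card_orbits_pairs]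
  have : (Nat.card 𝔾 : ℂ) ≠ 0 := by
    have : Nat.card 𝔾 ≠ 0 := Nat.card_pos.ne'
    exact_mod_cast this
  field_simp

/-! ### the stabiliser of the first coordinate line -/

theorem scal_one (v : 𝕏) : scal 1 v = v := Subtype.ext (by rw [scal_val, Units.val_one, one_smul])

theorem scal_scal (c c' : Fˣ) (v : 𝕏) : scal c (scal c' v) = scal (c * c') v :=
  Subtype.ext (by rw [scal_val, scal_val, scal_val, Units.val_mul, mul_smul])

/-- the stabiliser of the first coordinate line -/
def P1 : Subgroup 𝔾 where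
  carrier := {g | ∃ c : Fˣ, g • (e0X : 𝕏) = scal c e0X}
  one_mem' := ⟨1, by rw [one_smul, scal_one]⟩
  mul_mem' := by
    rintro g h ⟨c, hc⟩ ⟨c', hc'⟩
    exact ⟨c' * c, by rw [mul_smul, hc', smul_scal, hc, scal_scal]⟩
  inv_mem' := by
    rintro g ⟨c, hc⟩
    refine ⟨c⁻¹, ?_⟩
    have h1 : g⁻¹ • scal c (e0X : 𝕏) = e0X := by rw [← hc, inv_smul_smul]
    rw [smul_scal] at h1
    have h2 := congrArg (scal c⁻¹) h1
    rw [scal_scal, inv_mul_cancel, scal_one] at h2
    exact h2

/-- the eigenvalue on the first coordinate line -/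
noncomputable def phi0 (g : P1 (F := F) (k := k)) : Fˣ := g.2.choose

theorem phi0_spec (g : P1 (F := F) (k := k)) : g.1 • (e0X : 𝕏) = scal (phi0 g) e0X := g.2.choose_spec

theorem phi0_eq {g : P1 (F := F) (k := k)} {c : Fˣ} (h : g.1 • (e0X : 𝕏) = scal c e0X) :
    phi0 g = c := scal_inj ((phi0_spec g).symm.trans h)

/-- the eigenvalue as a homomorphism -/
noncomputable def phi : P1 (F := F) (k := k) →* Fˣ where
  toFun := phi0
  map_one' := phi0_eq (by rw [Subgroup.coe_one, one_smul, scal_one])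
  map_mul' g h := phi0_eq (by
    rw [Subgroup.coe_mul, mul_smul, phi0_spec h, smul_scal, phi0_spec g, scal_scal, mul_comm])

/-- the linear character of the line stabiliser -/
noncomputable def lamt (α : MulChar F ℂ) : P1 (F := F) (k := k) → ℂ := fun g => α ((phi g : Fˣ) : F)

theorem isCharacter_lamt (α : MulChar F ℂ) : IsCharacter (P1 (F := F) (k := k)) (lamt α) := by
  have := Cfsg.Agent.Lib.Helper6.isCharacter_of_hom (α.toUnitHom.comp (phi (F := F) (k := k)))
  convert this using 1
  funext g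
  exact (MulChar.coe_toUnitHom α (phi g)).symm

/-- the induced characters -/
noncomputable def theta (α : MulChar F ℂ) : 𝔾 → ℂ := indFun P1 (lamt α)

theorem isCharacter_theta (α : MulChar F ℂ) : IsCharacter 𝔾 (theta (k := k) α) :=
  IsCharacter.indFun P1 (isCharacter_lamt α)

/-! ### counting -/

/-- the order of the vector stabiliser -/
noncomputable def NN (F : Type*) [Field F] (k : ℕ) : ℕ :=
  Nat.card {x : Matrix.SpecialLinearGroup (Fin (k + 3)) F // x • (e0X : NZ F (k + 3)) = e0X}

theorem NN_pos : 0 < NN F k := by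
  have : Nonempty {x : 𝔾 // x • (e0X : 𝕏) = e0X} := ⟨⟨1, one_smul _ _⟩⟩
  exact Nat.card_pos

theorem card_preimage (p : 𝕏 → Prop) :
    Nat.card {x : 𝔾 // p (x • (e0X : 𝕏))} = Nat.card {v : 𝕏 // p v} * NN F k := by
  choose t ht using fun v : 𝕏 => exists_smul_e0X (k := k + 1) v
  unfold NN
  rw [← Nat.card_prod]
  apply Nat.card_congr
  refine ⟨fun x => (⟨x.1 • e0X, x.2⟩, ⟨(t (x.1 • e0X))⁻¹ * x.1, by
      rw [mul_smul, inv_smul_eq_iff, ht]⟩),
    fun q => ⟨t q.1.1 * q.2.1, by rw [mul_smul, q.2.2, ht]; exact q.1.2⟩, ?_, ?_⟩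
  · intro x
    apply Subtype.ext
    simp
  · rintro ⟨⟨v, hv⟩, ⟨y, hy⟩⟩
    have h : (t v * y) • (e0X : 𝕏) = v := by rw [mul_smul, hy, ht]
    apply Prod.ext
    · exact Subtype.ext h
    · apply Subtype.ext
      show (t ((t v * y) • (e0X : 𝕏)))⁻¹ * (t v * y) = y
      rw [h]
      group

theorem card_P1 : Nat.card (P1 (F := F) (k := k)) = (Fintype.card F - 1) * NN F k := by
  have h1 : Nat.card (P1 (F := F) (k := k)) =
      Nat.card {x : 𝔾 // (fun v : 𝕏 => ∃ c : Fˣ, v = scal c e0X) (x • (e0X : 𝕏))} := rfl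
  rw [h1, card_preimage (fun v : 𝕏 => ∃ c : Fˣ, v = scal c e0X)]
  congr 1
  rw [← Nat.card_eq_fintype_card, ← Nat.card_units]
  apply Nat.card_congr
  refine (Equiv.ofBijective (fun c : Fˣ => (⟨scal c e0X, c, rfl⟩ : {v : 𝕏 // ∃ c : Fˣ, v = scal c e0X}))
    ⟨?_, ?_⟩).symm
  · intro c c' h
    exact scal_inj (congrArg Subtype.val h)
  · rintro ⟨v, c, rfl⟩
    exact ⟨c, rfl⟩

open Classical in
theorem sum_ext (y : 𝔾) :
    ∑ α : MulChar F ℂ, extendByZero P1 (lamt α) y =
      if y • (e0X : 𝕏) = e0X then ((Fintype.card F - 1 : ℕ) : ℂ) else 0 := by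
  by_cases hy : y ∈ P1 (F := F) (k := k)
  · have h1 : ∀ α : MulChar F ℂ, extendByZero P1 (lamt α) y = α ((phi ⟨y, hy⟩ : Fˣ) : F) := by
      intro α
      have : y = ((⟨y, hy⟩ : P1 (F := F) (k := k)) : 𝔾) := rfl
      conv_lhs => rw [this, extendByZero_apply_coe]
      rfl
    rw [Finset.sum_congr rfl (fun α _ => h1 α), sum_mulChar]
    have h2 : (((phi ⟨y, hy⟩ : Fˣ) : F) = 1) ↔ y • (e0X : 𝕏) = e0X := by
      rw [Units.val_eq_one]
      constructor
      · intro h
        have h3 := phi0_spec (⟨y, hy⟩ : P1 (F := F) (k := k))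
        have h4 : phi0 (⟨y, hy⟩ : P1 (F := F) (k := k)) = 1 := h
        rw [h4, scal_one] at h3
        exact h3
      · intro h
        exact phi0_eq (by rw [scal_one]; exact h)
    simp only [h2]
  · have h1 : ∀ α : MulChar F ℂ, extendByZero P1 (lamt α) y = 0 :=
      fun α => extendByZero_apply_of_not_mem _ _ hy
    rw [Finset.sum_congr rfl (fun α _ => h1 α), Finset.sum_const_zero, if_neg]
    intro h
    exact hy ⟨1, by rw [scal_one]; exact h⟩

theorem card_F_sub_one_ne_zero : ((Fintype.card F - 1 : ℕ) : ℂ) ≠ 0 := by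
  have : 1 < Fintype.card F := Fintype.one_lt_card
  have h : Fintype.card F - 1 ≠ 0 := by omega
  exact_mod_cast h

theorem sum_theta (g : 𝔾) : ∑ α : MulChar F ℂ, theta α g = pi0 g := by
  classical
  unfold theta indFun
  rw [← Finset.mul_sum, Finset.sum_comm]
  rw [Finset.sum_congr rfl (fun x _ => sum_ext (x⁻¹ * g * x))]
  rw [← Finset.sum_filter, Finset.sum_const, nsmul_eq_mul]
  have h1 : (Finset.univ.filter (fun x : 𝔾 => (x⁻¹ * g * x) • (e0X : 𝕏) = e0X)).card =
      Nat.card (MulAction.fixedBy 𝕏 g) * NN F k := by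
    have h2 := card_preimage (F := F) (k := k) (fun v => v ∈ MulAction.fixedBy 𝕏 g)
    rw [← h2, Nat.card_eq_fintype_card, Fintype.card_subtype]
    congr 1
    apply Finset.filter_congr
    intro x _
    rw [mul_smul, mul_smul, inv_smul_eq_iff]
    rfl
  rw [h1, card_P1]
  unfold pi0
  have hN : (NN F k : ℂ) ≠ 0 := by
    have := NN_pos (F := F) (k := k)
    exact_mod_cast this.ne'
  have hq := card_F_sub_one_ne_zero (F := F)
  push_cast at hq ⊢
  field_simp

/-! ### the induced characters -/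

theorem card_ne_zero' {H : Type*} [Group H] [Finite H] : (Nat.card H : ℂ) ≠ 0 := by
  have : Nat.card H ≠ 0 := Nat.card_pos.ne'
  exact_mod_cast this

theorem theta_one (α : MulChar F ℂ) :
    theta (k := k) α 1 = (Nat.card (P1 (F := F) (k := k)) : ℂ)⁻¹ * (Nat.card 𝔾 : ℂ) := by
  unfold theta
  rw [Cfsg.Agent.Lib.Helper10.indFun_apply_one]
  have : lamt α (1 : P1 (F := F) (k := k)) = 1 := by
    unfold lamt
    rw [map_one, Units.val_one, map_one]
  rw [this, mul_one]

theorem theta_ne_zero (α : MulChar F ℂ) : theta (k := k) α ≠ 0 := by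
  intro h
  have h1 := congrFun h 1
  rw [theta_one, Pi.zero_apply] at h1
  exact mul_ne_zero (inv_ne_zero card_ne_zero') card_ne_zero' h1

theorem classInner_theta_one :
    classInner (theta (k := k) (1 : MulChar F ℂ)) (1 : 𝔾 → ℂ) = 1 := by
  have : Fintype (P1 (F := F) (k := k)) := Fintype.ofFinite _
  rw [theta, frobenius_reciprocity P1 (lamt 1) (IsCharacter.isClassFunction isCharacter_one)]
  unfold classInner
  have h : ∀ h : P1 (F := F) (k := k),
      lamt (1 : MulChar F ℂ) h * conj ((1 : 𝔾 → ℂ) h) = 1 := by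
    intro h
    unfold lamt
    rw [MulChar.one_apply_coe]
    simp
  rw [Finset.sum_congr rfl (fun x _ => h x), Finset.sum_const, Finset.card_univ, nsmul_eq_mul,
    mul_one, ← Nat.card_eq_fintype_card]
  exact inv_mul_cancel₀ card_ne_zero'

theorem theta_one_sub_ne : theta (k := k) (1 : MulChar F ℂ) - 1 ≠ 0 := by
  intro h
  have h1 := congrFun h 1
  rw [Pi.sub_apply, theta_one, Pi.one_apply, Pi.zero_apply, sub_eq_zero] at h1
  have h2 : Nat.card (P1 (F := F) (k := k)) = Nat.card 𝔾 := by
    have hP : (Nat.card (P1 (F := F) (k := k)) : ℂ) ≠ 0 := card_ne_zero'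
    have : (Nat.card 𝔾 : ℂ) = Nat.card (P1 (F := F) (k := k)) := by
      field_simp at h1
      exact h1
    exact_mod_cast this.symm
  have h3 : P1 (F := F) (k := k) = ⊤ := Subgroup.eq_top_of_card_eq _ h2
  obtain ⟨x, hx⟩ := exists_smul_e0X (k := k + 1) (e1X : 𝕏)
  have hx1 : x ∈ P1 (F := F) (k := k) := by rw [h3]; trivial
  obtain ⟨c, hc⟩ := hx1
  exact not_dep_e0_e1 (F := F) (k := k + 1) ⟨c, by
    show (e1X : 𝕏) = scal c e0X
    rw [← hx, hc]⟩

open Classical in
/-- the family of constituents -/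
noncomputable def Theta : Option (MulChar F ℂ) → (𝔾 → ℂ)
  | none => 1
  | some α => if α = 1 then theta α - 1 else theta α

theorem main_aux : ∃ χ : Fin (Fintype.card F - 1) → (𝔾 → ℂ),
    (∀ i, IsIrrCharacter 𝔾 (χ i)) ∧ Function.Injective χ ∧ ∀ g, pi0 g = 1 + ∑ i, χ i g := by
  classical
  have hchar : ∀ j, IsCharacter 𝔾 (Theta (F := F) (k := k) j) := by
    intro j
    rcases j with _ | α
    · exact isCharacter_one
    · show IsCharacter 𝔾 (if α = 1 then theta α - 1 else theta α)
      split_ifs with h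
      · subst h
        apply Cfsg.Agent.Lib.Helper10.char_sub_irr_isCharacter (isCharacter_theta 1)
          isIrrCharacter_one
        rw [classInner_theta_one]
        exact one_ne_zero
      · exact isCharacter_theta α
  have hne : ∀ j, Theta (F := F) (k := k) j ≠ 0 := by
    intro j
    rcases j with _ | α
    · intro h
      have := congrFun h 1
      simp [Theta] at this
    · show (if α = 1 then theta α - 1 else theta α) ≠ 0
      split_ifs with h
      · subst h
        exact theta_one_sub_ne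
      · exact theta_ne_zero α
  have hsome : ∑ α : MulChar F ℂ, Theta (F := F) (k := k) (some α) = pi0 - 1 := by
    have h1 : ∀ α : MulChar F ℂ, Theta (F := F) (k := k) (some α) =
        theta α - (if α = 1 then (1 : 𝔾 → ℂ) else 0) := by
      intro α
      show (if α = 1 then theta α - 1 else theta α) = _
      split_ifs with h
      · rfl
      · rw [sub_zero]
    rw [Finset.sum_congr rfl (fun α _ => h1 α), Finset.sum_sub_distrib,
      Finset.sum_ite_eq' Finset.univ (1 : MulChar F ℂ), if_pos (Finset.mem_univ _)]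
    congr 1
    funext g
    rw [Finset.sum_apply, sum_theta]
  have hsum : ∑ j, Theta (F := F) (k := k) j = pi0 := by
    rw [Fintype.sum_option, hsome]
    show (1 : 𝔾 → ℂ) + (pi0 - 1) = pi0
    abel
  have hnorm : classInner (∑ j, Theta (F := F) (k := k) j) (∑ j, Theta (F := F) (k := k) j) =
      (Fintype.card (Option (MulChar F ℂ)) : ℂ) := by
    rw [hsum, classInner_pi0, Fintype.card_option, card_mulChar]
    have : 1 ≤ Fintype.card F := Fintype.card_pos
    rw [Nat.sub_add_cancel this]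
  obtain ⟨hirr, hinj⟩ := multfree (Theta (F := F) (k := k)) hchar hne hnorm
  let e : Fin (Fintype.card F - 1) ≃ MulChar F ℂ := (Fintype.equivFinOfCardEq card_mulChar).symm
  refine ⟨fun i => Theta (some (e i)), fun i => hirr _, ?_, ?_⟩
  · intro i j h
    exact e.injective (Option.some.inj (hinj h))
  · intro g
    have h1 : ∑ i, Theta (F := F) (k := k) (some (e i)) g =
        ∑ α : MulChar F ℂ, Theta (F := F) (k := k) (some α) g :=
      Equiv.sum_comp e (fun α => Theta (F := F) (k := k) (some α) g)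
    rw [h1, ← Finset.sum_apply, hsome]
    simp

end main

theorem main {F : Type*} [Field F] [Fintype F] [DecidableEq F] (n : ℕ) (hn : 3 ≤ n) :
    ∃ χ : Fin (Fintype.card F - 1) → (Matrix.SpecialLinearGroup (Fin n) F → ℂ),
      (∀ i, Cfsg.IsIrrCharacter (Matrix.SpecialLinearGroup (Fin n) F) (χ i)) ∧ Function.Injective χ ∧
      ∀ g : Matrix.SpecialLinearGroup (Fin n) F,
        (Nat.card {v : Fin n → F // v ≠ 0 ∧ (g : Matrix (Fin n) (Fin n) F).mulVec v = v} : ℂ) = 1 + ∑ i, χ i g := by
  obtain ⟨k, rfl⟩ : ∃ k, n = k + 3 := ⟨n - 3, by omega⟩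
  obtain ⟨χ, h1, h2, h3⟩ := main_aux (F := F) (k := k)
  exact ⟨χ, h1, h2, fun g => by rw [pi0_eq]; exact h3 g⟩

/-- Let F be a finite field with q elements and n ≥ 3. The permutation character of SL_n(F) on the non-zero vectors of F^n (the function sending a matrix to the number of non-zero vectors it fixes) is the sum of the principal character and q − 1 pairwise distinct irreducible complex characters. -/
theorem result {F : Type*} [Field F] [Fintype F] [DecidableEq F] (n : ℕ) (hn : 3 ≤ n) :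
    ∃ χ : Fin (Fintype.card F - 1) → (Matrix.SpecialLinearGroup (Fin n) F → ℂ),
      (∀ i, Cfsg.IsIrrCharacter (Matrix.SpecialLinearGroup (Fin n) F) (χ i)) ∧ Function.Injective χ ∧
      ∀ g : Matrix.SpecialLinearGroup (Fin n) F,
        (Nat.card {v : Fin n → F // v ≠ 0 ∧ (g : Matrix (Fin n) (Fin n) F).mulVec v = v} : ℂ) = 1 + ∑ i, χ i g := by
  exact main n hn

end Cfsg.Agent.S2336
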