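import Cfsg.Statements.S2388
-- import your own Cfsg.Agent.* helpers here
import Cfsg.Agent.Lib.Helper15.SemisimpleConj

set_option autoImplicit false
open Cfsg

namespace Cfsg.Agent.S2388

open Polynomial Module Cfsg.Agent.Lib.Helper15.SemisimpleConj

variable {F : Type*} [Field F]

section det

universe u

variable {V : Type u} [AddCommGroup V] [Module F V] [FiniteDimensional F V]

/-- for an irreducible action over a finite field, some commuting endomorphism has any
prescribed determinant -/
theorem irr_commuting_det [Finite F] {W : Type*} [AddCommGroup W] [Module F W]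
    [FiniteDimensional F W] (T : End F W) (hT : IrrAct T) (δ : F) :
    ∃ c : End F W, Commute c T ∧ LinearMap.det c = δ := by
  have hirr := minpoly_irreducible_of_irrAct T hT
  have : Fact (Irreducible (minpoly F T)) := ⟨hirr⟩
  obtain ⟨e, he⟩ := irrAct_equiv T hT _ rfl
  set K := AdjoinRoot (minpoly F T) with hK
  have : Finite W := Module.finite_of_finite F
  have : Finite K := Finite.of_equiv _ e.symm.toEquiv
  obtain ⟨κ, hκ⟩ := FiniteField.norm_surjective F K δ
  refine ⟨e.conj (Algebra.lmul F K κ), ?_, ?_⟩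
  · have hT' : T = e.conj (Algebra.lmul F K (AdjoinRoot.root (minpoly F T))) := by
      apply LinearMap.ext
      intro w
      obtain ⟨x, rfl⟩ := e.surjective w
      rw [LinearEquiv.conj_apply]
      simp only [LinearMap.comp_apply, LinearEquiv.coe_coe, LinearEquiv.symm_apply_apply]
      rw [← he]
      rfl
    have hcomm : Commute (e.conj (Algebra.lmul F K κ))
        (e.conj (Algebra.lmul F K (AdjoinRoot.root (minpoly F T)))) := by
      show e.conjAlgEquiv F _ * e.conjAlgEquiv F _ = e.conjAlgEquiv F _ * e.conjAlgEquiv F _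
      rw [← map_mul, ← map_mul, ← map_mul, ← map_mul, mul_comm]
    rw [← hT'] at hcomm
    exact hcomm
  · rw [LinearEquiv.conj_apply, LinearMap.comp_assoc, LinearMap.det_conj, ← Algebra.norm_apply, hκ]

theorem exists_commuting_det [Finite F] (P : F[X]) (hP : Squarefree P) (T : End F V)
    [Nontrivial V] (hT : aeval T P = 0) (δ : F) :
    ∃ c : End F V, Commute c T ∧ LinearMap.det c = δ := by
  obtain ⟨ℓ, U, hℓ, hU, hirr, hc⟩ := exists_split P hP T hT
  obtain ⟨E, hE⟩ := (conj_prodMap_of_isCompl T ℓ U hℓ hU hc).conj_eq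
  obtain ⟨c₁, hc₁, hdet⟩ := irr_commuting_det (T.restrict hℓ) hirr δ
  refine ⟨E.conj (c₁.prodMap LinearMap.id), ?_, ?_⟩
  · rw [← hE]
    show E.conjAlgEquiv F _ * E.conjAlgEquiv F _ = E.conjAlgEquiv F _ * E.conjAlgEquiv F _
    rw [← map_mul, ← map_mul]
    congr 1
    apply LinearMap.ext
    rintro ⟨a, b⟩
    simp only [End.mul_apply, LinearMap.prodMap_apply, LinearMap.id_apply]
    have := congrArg (fun φ : End F ℓ => φ a) hc₁.eq
    simp only [End.mul_apply] at this
    rw [this]
  · rw [LinearEquiv.conj_apply, LinearMap.comp_assoc, LinearMap.det_conj, LinearMap.det_prodMap,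
      hdet, LinearMap.det_id, mul_one]

end det


section main

variable [Fintype F]

theorem main (p : ℕ) [Fact p.Prime] [CharP F p] (n : ℕ)
    (g h : Matrix.SpecialLinearGroup (Fin n) F) (hg : (orderOf g).Coprime p)
    (hh : (orderOf h).Coprime p)
    (hc : (g : Matrix (Fin n) (Fin n) F).charpoly = (h : Matrix (Fin n) (Fin n) F).charpoly) :
    IsConj g h := by
  classical
  rcases Nat.eq_zero_or_pos n with rfl | hn
  · have : g = h := by
      apply Subtype.ext
      apply Matrix.ext
      intro i; exact i.elim0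
    rw [this]
  have hp := (Fact.out : p.Prime)
  set N := orderOf g * orderOf h with hNdef
  have hN : (N : F) ≠ 0 := by
    rw [Ne, CharP.cast_eq_zero_iff F p]
    intro hd
    rcases (Nat.Prime.dvd_mul hp).1 hd with h1 | h1
    · exact (Nat.Prime.coprime_iff_not_dvd hp).1 hg.symm h1
    · exact (Nat.Prime.coprime_iff_not_dvd hp).1 hh.symm h1
  set P : F[X] := X ^ N - C 1 with hPdef
  have hP : Squarefree P := (separable_X_pow_sub_C (1 : F) hN one_ne_zero).squarefree
  set T : End F (Fin n → F) := Matrix.toLinAlgEquiv' (g : Matrix (Fin n) (Fin n) F) with hTdef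
  set T' : End F (Fin n → F) := Matrix.toLinAlgEquiv' (h : Matrix (Fin n) (Fin n) F) with hT'def
  have hgN : (g : Matrix (Fin n) (Fin n) F) ^ N = 1 := by
    rw [← Matrix.SpecialLinearGroup.coe_pow, hNdef, pow_mul, pow_orderOf_eq_one, one_pow]
    rfl
  have hhN : (h : Matrix (Fin n) (Fin n) F) ^ N = 1 := by
    rw [← Matrix.SpecialLinearGroup.coe_pow, hNdef, mul_comm, pow_mul, pow_orderOf_eq_one, one_pow]
    rfl
  have hT : aeval T P = 0 := by
    rw [hPdef, map_sub, map_pow, aeval_X, aeval_C, hTdef, ← map_pow, hgN, map_one, map_one, sub_self]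
  have hT' : aeval T' P = 0 := by
    rw [hPdef, map_sub, map_pow, aeval_X, aeval_C, hT'def, ← map_pow, hhN, map_one, map_one,
      sub_self]
  have hcp : T.charpoly = T'.charpoly := by
    rw [hTdef, hT'def]
    have e1 : ∀ A : Matrix (Fin n) (Fin n) F,
        (Matrix.toLinAlgEquiv' A : End F (Fin n → F)) = Matrix.toLin' A := fun A => rfl
    rw [e1, e1, Matrix.charpoly_toLin', Matrix.charpoly_toLin', hc]
  obtain ⟨e, he⟩ := conj_of_charpoly_eq P hP n (Fin n → F) (Fin n → F) T T'
    (Module.finrank_fin_fun F) hT hT' hcp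
  have : Nonempty (Fin n) := ⟨⟨0, hn⟩⟩
  have hdet0 : LinearMap.det (e : (Fin n → F) →ₗ[F] (Fin n → F)) ≠ 0 :=
    (LinearEquiv.isUnit_det' e).ne_zero
  obtain ⟨c, hcT, hdet⟩ := exists_commuting_det P hP T hT
    (LinearMap.det (e : (Fin n → F) →ₗ[F] (Fin n → F)))⁻¹
  let Q : End F (Fin n → F) := (e : (Fin n → F) →ₗ[F] (Fin n → F)) ∘ₗ c
  have hQdet : LinearMap.det Q = 1 := by
    show LinearMap.det ((e : (Fin n → F) →ₗ[F] (Fin n → F)) * c) = 1
    rw [map_mul, hdet, mul_inv_cancel₀ hdet0]
  have hQT : Q * T = T' * Q := by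
    apply LinearMap.ext
    intro v
    show e (c (T v)) = T' (e (c v))
    rw [← he]
    congr 1
    have := congrArg (fun φ : End F (Fin n → F) => φ v) hcT.eq
    exact this
  let M := LinearMap.toMatrixAlgEquiv' Q
  have hM : M.det = 1 := by
    have : M = LinearMap.toMatrix' Q := rfl
    rw [this, LinearMap.det_toMatrix', hQdet]
  have hMg : M * (g : Matrix (Fin n) (Fin n) F) = (h : Matrix (Fin n) (Fin n) F) * M := by
    have h1 : (g : Matrix (Fin n) (Fin n) F) = LinearMap.toMatrixAlgEquiv' T := by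
      rw [hTdef]; exact (LinearMap.toMatrixAlgEquiv'_toLinAlgEquiv' _).symm
    have h2 : (h : Matrix (Fin n) (Fin n) F) = LinearMap.toMatrixAlgEquiv' T' := by
      rw [hT'def]; exact (LinearMap.toMatrixAlgEquiv'_toLinAlgEquiv' _).symm
    rw [h1, h2, ← map_mul, ← map_mul, hQT]
  obtain ⟨Mg, hMg'⟩ : ∃ Mg : Matrix.SpecialLinearGroup (Fin n) F,
      (Mg : Matrix (Fin n) (Fin n) F) = M := ⟨⟨M, hM⟩, rfl⟩
  rw [isConj_iff]
  refine ⟨Mg, ?_⟩
  rw [mul_inv_eq_iff_eq_mul]
  apply Subtype.ext
  rw [Matrix.SpecialLinearGroup.coe_mul, Matrix.SpecialLinearGroup.coe_mul, hMg']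
  exact hMg

end main

/-- In `SL_n(q)`, `q` a power of the prime `p`, two elements of order prime to `p` with the same characteristic polynomial are conjugate in `SL_n(q)` (not merely in `GL_n`). -/
theorem result {F : Type*} [Field F] [Fintype F] (p : ℕ) [Fact p.Prime] [CharP F p] (n : ℕ)
    (g h : Matrix.SpecialLinearGroup (Fin n) F) (hg : (orderOf g).Coprime p) (hh : (orderOf h).Coprime p)
    (hc : (g : Matrix (Fin n) (Fin n) F).charpoly = (h : Matrix (Fin n) (Fin n) F).charpoly) : IsConj g h := by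
  exact main p n g h hg hh hc

end Cfsg.Agent.S2388
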