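import Cfsg.Statements.S0738
import Cfsg.Agent.Lib.Helper5.SemiReg

set_option autoImplicit false
open Cfsg
open MulAction Cfsg.Agent.Lib.Helper5.SemiReg

namespace Cfsg.Agent.S0738

/-- Let a finite Zassenhaus group of degree `n + 1` have two-point stabilisers of order `d` with `2d ≥ n - 1`. Then a normal subgroup of a point stabiliser acting regularly on the remaining points is elementary abelian, and the degree is a prime power plus one. -/
theorem result {G Ω : Type*} [Group G] [Finite G] [MulAction G Ω] [Fintype Ω] (hZ : Cfsg.IsZassenhausGroup G Ω) {a b : Ω} (hab : a ≠ b) (hd : Fintype.card Ω - 2 ≤ 2 * Nat.card ↥(MulAction.stabilizer G a ⊓ MulAction.stabilizer G b)) (F : Subgroup G) (hFle : F ≤ MulAction.stabilizer G a) (hFn : (F.subgroupOf (MulAction.stabilizer G a)).Normal) (hreg : ∀ y z : Ω, y ≠ a → z ≠ a → ∃! u : F, (u : G) • y = z) : IsMulCommutative F ∧ ∃ p f : ℕ, p.Prime ∧ (∀ u ∈ F, u ^ p = 1) ∧ Fintype.card Ω = p ^ f + 1 := by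
  classical
  obtain ⟨hfaith, h2, h3, h4, h5⟩ := hZ
  have hFa : ∀ u ∈ F, u • a = a := fun u hu => mem_stabilizer_iff.mp (hFle hu)
  -- |F| = |Ω| - 1
  have hFcard : Nat.card F = Fintype.card Ω - 1 := by
    have hne : ∀ u : F, (u : G) • b ≠ a := by
      intro u h'
      rw [← hFa u u.2] at h'
      exact hab (MulAction.injective _ h').symm
    have hbij : Function.Bijective (fun u : F => (⟨(u : G) • b, hne u⟩ : {z : Ω // z ≠ a})) := by
      constructor
      · intro u u' huu'
        have h1 : (u : G) • b = (u' : G) • b := congrArg Subtype.val huu'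
        have hu'b : (u' : G) • b ≠ a := by
          intro h'
          rw [← hFa u' u'.2] at h'
          exact hab (MulAction.injective _ h').symm
        obtain ⟨w, -, hw⟩ := hreg b ((u' : G) • b) (Ne.symm hab) hu'b
        rw [hw u h1, hw u' rfl]
      · rintro ⟨z, hz⟩
        obtain ⟨u, hu, -⟩ := hreg b z (Ne.symm hab) hz
        exact ⟨u, Subtype.ext hu⟩
    rw [Nat.card_congr (Equiv.ofBijective _ hbij), Nat.card_eq_fintype_card,
      Fintype.card_subtype_compl, Fintype.card_subtype_eq]
  have hnorm : ∀ h ∈ stabilizer G a ⊓ stabilizer G b, ∀ u ∈ F, h * u * h⁻¹ ∈ F := by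
    intro h hh u hu
    have hha : h ∈ stabilizer G a := (Subgroup.mem_inf.mp hh).1
    have := hFn.conj_mem ⟨u, hFle hu⟩ (Subgroup.mem_subgroupOf.mpr hu) ⟨h, hha⟩
    exact Subgroup.mem_subgroupOf.mp this
  have hsemi : ∀ h ∈ stabilizer G a ⊓ stabilizer G b, ∀ u ∈ F, u ≠ 1 → h * u * h⁻¹ = u → h = 1 := by
    intro h hh u hu hu1 hcomm
    obtain ⟨hha, hhb⟩ := Subgroup.mem_inf.mp hh
    rw [mem_stabilizer_iff] at hha hhb
    have hub : u • b ≠ b := by
      intro hub
      apply hu1
      obtain ⟨w, -, hw⟩ := hreg b b (Ne.symm hab) (Ne.symm hab)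
      have e1 := hw ⟨u, hu⟩ hub
      have e2 := hw 1 (by simp)
      have : (⟨u, hu⟩ : F) = 1 := e1.trans e2.symm
      exact congrArg Subtype.val this
    have hua : u • b ≠ a := by
      intro h'
      rw [← hFa u hu] at h'
      exact hab (MulAction.injective _ h').symm
    have hfix : h • (u • b) = u • b := by
      have : h * u = u * h := by
        calc h * u = (h * u * h⁻¹) * h := by group
          _ = u * h := by rw [hcomm]
      rw [← mul_smul, this, mul_smul, hhb]
    exact h3 h a b (u • b) hab (Ne.symm hub) (Ne.symm hua) hha hhb hfix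
  have hcard : Nat.card F ≤ 2 * Nat.card ↥(stabilizer G a ⊓ stabilizer G b) + 1 := by
    rw [hFcard]; omega
  obtain ⟨hcomm, p, f, hp, hexp, hpf⟩ :=
    semireg_elem_abelian F (stabilizer G a ⊓ stabilizer G b) hnorm hsemi hcard
  refine ⟨⟨⟨fun u v => Subtype.ext (hcomm u u.2 v v.2)⟩⟩, p, f, hp, hexp, ?_⟩
  have hpos : 0 < Fintype.card Ω := Fintype.card_pos_iff.mpr ⟨a⟩
  rw [← hpf, hFcard]; omega

end Cfsg.Agent.S0738
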