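import Cfsg.Statements.S0339
import Cfsg.Agent.Lib.Helper5.ZassNormal
import Cfsg.Agent.Lib.Helper5.RegNormal

set_option autoImplicit false
open Cfsg
open MulAction Cfsg.Agent.Lib.Helper5.Zass Cfsg.Agent.Lib.Helper5.RegNormal

namespace Cfsg.Agent.S0339

/-- A non-trivial normal subgroup of a Zassenhaus group is itself a Zassenhaus group on the same set. -/
theorem result {G Ω : Type*} [Group G] [MulAction G Ω] [Finite Ω]
    (hZ : Cfsg.IsZassenhausGroup G Ω) (N : Subgroup G) [N.Normal] (hN : N ≠ ⊥) :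
    Cfsg.IsZassenhausGroup N Ω := by
  have hNn : N.Normal := inferInstance
  have hfin := zass_finite hZ
  have hker := zass_normal_contains_kernel hZ N hN
  have htr := zass_normal_trans hZ N hN
  obtain ⟨hfaith, h2, h3, h4, h5⟩ := hZ
  have hZ : Cfsg.IsZassenhausGroup G Ω := ⟨hfaith, h2, h3, h4, h5⟩
  have hfaithN : FaithfulSMul N Ω := ⟨fun {n₁ n₂} h => Subtype.ext (hfaith.eq_of_smul_eq_smul h)⟩
  -- elementwise 2-transitivity of N
  have h2N : ∀ a b c d : Ω, a ≠ b → c ≠ d → ∃ n : N, n • a = c ∧ n • b = d := by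
    intro a b c d hab hcd
    obtain ⟨n₁, hn₁, hn₁a⟩ := htr a c
    obtain ⟨K, hK1, hK2, hK3, hK4⟩ := zass_kernel hZ c
    have h6 : n₁ • b ≠ c := by
      intro h
      rw [← hn₁a] at h
      exact hab (MulAction.injective n₁ h).symm
    obtain ⟨k, hk, hkd⟩ := hK3 (n₁ • b) d h6 (Ne.symm hcd)
    have hkc : k • c = c := ((hK1 k).mp hk).1
    refine ⟨⟨k * n₁, N.mul_mem (hker c k ((hK1 k).mp hk)) hn₁⟩, ?_, ?_⟩
    · show (k * n₁) • a = c
      rw [mul_smul, hn₁a, hkc]
    · show (k * n₁) • b = d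
      rw [mul_smul, hkd]
  refine ⟨hfaithN, ?_, ?_, ?_, ?_⟩
  · rw [MulAction.is_two_pretransitive_iff]
    intro a b c d hab hcd
    exact h2N a b c d hab hcd
  · intro g a b c hab hbc hac ha hb hc
    exact Subtype.ext (h3 (g : G) a b c hab hbc hac ha hb hc)
  · by_contra hcon
    push Not at hcon
    apply zass_no_frobenius_normal hZ N hN
    intro y hy hy1 c d hc hd
    by_contra hcd
    exact hcon ⟨y, hy⟩ (fun h => hy1 (congrArg Subtype.val h)) c d hcd hc hd
  · intro M hMn hMtr
    by_contra hcon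
    push Not at hcon
    have hreg : ∀ m ∈ M, ∀ c : Ω, m • c = c → m = 1 := by
      intro m hm c hc
      have : (⟨m, hm⟩ : M) ∈ stabilizer M c := mem_stabilizer_iff.mpr hc
      rw [hcon c, Subgroup.mem_bot] at this
      exact congrArg Subtype.val this
    have htrM : ∀ c d : Ω, ∃ m ∈ M, m • c = d := by
      intro c d
      obtain ⟨m, hm⟩ := hMtr.exists_smul_eq c d
      exact ⟨m, m.2, hm⟩
    have hfinN : Finite N := inferInstance
    obtain ⟨a₀, b₀, c₀, hab₀, -, -⟩ := zass_three hZ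
    have hM1 : M ≠ ⊥ := by
      intro h
      obtain ⟨m, hm, hmab⟩ := htrM a₀ b₀
      rw [h, Subgroup.mem_bot] at hm
      rw [hm, one_smul] at hmab
      exact hab₀ hmab
    -- M is invariant under conjugation by G
    have hinv : ∀ g : G, ∀ m ∈ M, ∃ m' ∈ M, (m : G) = g * (m' : G) * g⁻¹ := by
      intro g m hm
      have hLn : (M.map (MulAut.conjNormal g : N ≃* N).toMonoidHom).Normal :=
        hMn.map _ (MulAut.conjNormal g : N ≃* N).surjective
      have hL1 : M.map (MulAut.conjNormal g : N ≃* N).toMonoidHom ≠ ⊥ := by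
        intro h
        apply hM1
        exact (Subgroup.map_eq_bot_iff_of_injective M
          (MulAut.conjNormal g : N ≃* N).injective).mp h
      have hle := regular_normal_le h2N M hreg htrM _ hL1
      obtain ⟨m', hm', hmm'⟩ := Subgroup.mem_map.mp (hle hm)
      refine ⟨m', hm', ?_⟩
      rw [← hmm']
      exact MulAut.conjNormal_apply g m'
    have hM'n : (M.map N.subtype).Normal := by
      refine ⟨fun x hx g => ?_⟩
      obtain ⟨m, hm, rfl⟩ := Subgroup.mem_map.mp hx
      obtain ⟨m', hm', hmm'⟩ := hinv g⁻¹ m hm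
      refine Subgroup.mem_map.mpr ⟨m', hm', ?_⟩
      show (m' : G) = g * (m : G) * g⁻¹
      rw [hmm']; group
    have hM'tr : IsPretransitive (M.map N.subtype) Ω := ⟨fun c d => by
      obtain ⟨m, hm, hmcd⟩ := htrM c d
      exact ⟨⟨m, Subgroup.mem_map.mpr ⟨m, hm, rfl⟩⟩, hmcd⟩⟩
    obtain ⟨c, hc⟩ := h5 _ hM'n hM'tr
    apply hc
    rw [eq_bot_iff]
    intro x hx
    rw [Subgroup.mem_bot]
    obtain ⟨m, hm, hmx⟩ := Subgroup.mem_map.mp x.2
    have hxc : (x : G) • c = c := mem_stabilizer_iff.mp hx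
    have : m = 1 := hreg m hm c (by
      show (m : G) • c = c
      have : (m : G) = x := hmx
      rw [this]; exact hxc)
    apply Subtype.ext
    rw [← hmx, this]; rfl

end Cfsg.Agent.S0339
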