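import Cfsg.Statements.S0741
import Cfsg.Agent.Lib.Helper5.Zassenhaus

set_option autoImplicit false
open Cfsg
open MulAction Cfsg.Agent.Lib.Helper5.Zass

namespace Cfsg.Agent.S0741

/-- If the two-point stabilisers of a finite Zassenhaus group of degree `n + 1` have even order `d`, then `2d ≥ n - 1`. -/
theorem result {G Ω : Type*} [Group G] [Finite G] [MulAction G Ω] [Fintype Ω] (hZ : Cfsg.IsZassenhausGroup G Ω) {a b : Ω} (hab : a ≠ b) (heven : Even (Nat.card ↥(MulAction.stabilizer G a ⊓ MulAction.stabilizer G b))) : Fintype.card Ω - 2 ≤ 2 * Nat.card ↥(MulAction.stabilizer G a ⊓ MulAction.stabilizer G b) := by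
  classical
  have : Fintype G := Fintype.ofFinite G
  obtain ⟨hfaith, h2, h3, h4, h5⟩ := hZ
  -- an involution in the two-point stabiliser
  obtain ⟨t', ht'⟩ := exists_prime_orderOf_dvd_card' (G := ↥(stabilizer G a ⊓ stabilizer G b)) 2
    (even_iff_two_dvd.mp heven)
  obtain ⟨t, htdef⟩ : ∃ t : G, t = (t' : G) := ⟨_, rfl⟩
  have hto : orderOf t = 2 := by rw [htdef, Subgroup.orderOf_coe, ht']
  have ht1 : t ≠ 1 := by
    intro h; rw [h, orderOf_one] at hto; omega
  have ht2 : t * t = 1 := by rw [← pow_two, ← hto, pow_orderOf_eq_one]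
  have hta : t • a = a := by
    rw [htdef]; exact mem_stabilizer_iff.mp (Subgroup.mem_inf.mp t'.2).1
  have htb : t • b = b := by
    rw [htdef]; exact mem_stabilizer_iff.mp (Subgroup.mem_inf.mp t'.2).2
  -- the involution attached to a pair
  have hex : ∀ p : Ω × Ω, ∃ τ : G, p.1 ≠ p.2 → (τ * τ = 1 ∧ τ ≠ 1 ∧ τ • p.1 = p.1 ∧ τ • p.2 = p.2) := by
    intro p
    by_cases hp : p.1 = p.2
    · exact ⟨1, fun h => absurd hp h⟩
    · obtain ⟨g, hga, hgb⟩ : ∃ g : G, g • a = p.1 ∧ g • b = p.2 :=
        MulAction.is_two_pretransitive_iff.mp h2 hab hp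
      refine ⟨g * t * g⁻¹, fun _ => ⟨?_, ?_, ?_, ?_⟩⟩
      · calc g * t * g⁻¹ * (g * t * g⁻¹) = g * (t * t) * g⁻¹ := by group
          _ = 1 := by rw [ht2]; group
      · intro h
        apply ht1
        have : t = g⁻¹ * (g * t * g⁻¹) * g := by group
        rw [this, h]; group
      · rw [← hga, mul_smul, mul_smul, inv_smul_smul, hta]
      · rw [← hgb, mul_smul, mul_smul, inv_smul_smul, htb]
  choose τ hτ using hex
  -- the set of involutions with two fixed points
  let J : Finset G := Finset.univ.filter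
    (fun u => u * u = 1 ∧ u ≠ 1 ∧ ∃ x y : Ω, x ≠ y ∧ u • x = x ∧ u • y = y)
  let T : Finset (Ω × Ω) := Finset.univ.filter (fun p => p.1 ≠ p.2)
  have hTcard : T.card = Fintype.card Ω * (Fintype.card Ω - 1) := by
    have : T = (Finset.univ : Finset Ω).offDiag := by
      ext p
      simp [T, Finset.mem_offDiag]
    rw [this, Finset.offDiag_card, Finset.card_univ, Nat.mul_sub, mul_one]
  -- Step 2 : |T| ≤ 2 |J|
  have hstep2 : T.card ≤ 2 * J.card := by
    have himg : T.image τ ⊆ J := by
      intro u hu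
      obtain ⟨p, hp, rfl⟩ := Finset.mem_image.mp hu
      have hp' : p.1 ≠ p.2 := (Finset.mem_filter.mp hp).2
      obtain ⟨e1, e2, e3, e4⟩ := hτ p hp'
      exact Finset.mem_filter.mpr ⟨Finset.mem_univ _, e1, e2, p.1, p.2, hp', e3, e4⟩
    have hfib : ∀ u ∈ T.image τ, (T.filter fun p => τ p = u).card ≤ 2 := by
      intro u hu
      obtain ⟨p₀, hp₀, rfl⟩ := Finset.mem_image.mp hu
      have hp₀' : p₀.1 ≠ p₀.2 := (Finset.mem_filter.mp hp₀).2
      obtain ⟨e1, e2, e3, e4⟩ := hτ p₀ hp₀'
      have hsub : (T.filter fun p => τ p = τ p₀) ⊆ {p₀, (p₀.2, p₀.1)} := by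
        intro p hp
        obtain ⟨hpT, hpe⟩ := Finset.mem_filter.mp hp
        have hp' : p.1 ≠ p.2 := (Finset.mem_filter.mp hpT).2
        obtain ⟨f1, f2, f3, f4⟩ := hτ p hp'
        rw [hpe] at f3 f4
        have hfix : ∀ z : Ω, τ p₀ • z = z → z = p₀.1 ∨ z = p₀.2 := by
          intro z hz
          by_contra hcon
          push Not at hcon
          exact e2 (h3 _ p₀.1 p₀.2 z hp₀' (Ne.symm hcon.2) (Ne.symm hcon.1) e3 e4 hz)
        simp only [Finset.mem_insert, Finset.mem_singleton]
        rcases hfix _ f3 with g1 | g1 <;> rcases hfix _ f4 with g2 | g2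
        · exact absurd (g1.trans g2.symm) hp'
        · left; exact Prod.ext g1 g2
        · right; exact Prod.ext g1 g2
        · exact absurd (g1.trans g2.symm) hp'
      calc (T.filter fun p => τ p = τ p₀).card ≤ ({p₀, (p₀.2, p₀.1)} : Finset (Ω × Ω)).card :=
            Finset.card_le_card hsub
        _ ≤ 2 := Finset.card_le_two
    calc T.card ≤ 2 * (T.image τ).card := Finset.card_le_mul_card_image T 2 hfib
      _ ≤ 2 * J.card := Nat.mul_le_mul_left 2 (Finset.card_le_card himg)
  -- the two-point stabiliser as a finset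
  let D : Finset G := Finset.univ.filter (fun x => x • a = a ∧ x • b = b)
  have hDcard : D.card = Nat.card ↥(stabilizer G a ⊓ stabilizer G b) := by
    rw [Nat.card_eq_fintype_card, Fintype.card_subtype]
    congr 1
    ext x
    simp [D, Subgroup.mem_inf, mem_stabilizer_iff]
  -- Step 1 : at most d involutions of J swap a given pair
  have hstep1 : ∀ z z' : Ω, z ≠ z' → (J.filter (fun u => u • z = z')).card ≤ D.card := by
    intro z z' hzz'
    rcases (J.filter (fun u => u • z = z')).eq_empty_or_nonempty with hE | ⟨u₀, hu₀⟩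
    · rw [hE]; simp
    obtain ⟨g, hga, hgb⟩ : ∃ g : G, g • a = z ∧ g • b = z' :=
      MulAction.is_two_pretransitive_iff.mp h2 hab hzz'
    have hswap : ∀ u ∈ J.filter (fun u => u • z = z'), u • z = z' ∧ u • z' = z := by
      intro u hu
      obtain ⟨huJ, huz⟩ := Finset.mem_filter.mp hu
      have hu2 : u * u = 1 := (Finset.mem_filter.mp huJ).2.1
      refine ⟨huz, ?_⟩
      rw [← huz, ← mul_smul, hu2, one_smul]
    obtain ⟨hu₀z, hu₀z'⟩ := hswap u₀ hu₀
    have hu₀i : u₀⁻¹ • z' = z := by rw [inv_smul_eq_iff, hu₀z]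
    have hu₀i' : u₀⁻¹ • z = z' := by rw [inv_smul_eq_iff, hu₀z']
    have hgi : g⁻¹ • z = a := by rw [inv_smul_eq_iff, hga]
    have hgi' : g⁻¹ • z' = b := by rw [inv_smul_eq_iff, hgb]
    apply Finset.card_le_card_of_injOn (fun u => g⁻¹ * (u₀⁻¹ * u) * g)
    · intro u hu
      obtain ⟨huz, huz'⟩ := hswap u hu
      refine Finset.mem_filter.mpr ⟨Finset.mem_univ _, ?_, ?_⟩
      · rw [mul_smul, mul_smul, mul_smul, hga, huz, hu₀i, hgi]
      · rw [mul_smul, mul_smul, mul_smul, hgb, huz', hu₀i', hgi']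
    · intro u _ u' _ h
      have h' : g⁻¹ * (u₀⁻¹ * u) * g = g⁻¹ * (u₀⁻¹ * u') * g := h
      have h1 := mul_right_cancel h'
      have h2 := mul_left_cancel h1
      exact mul_left_cancel h2
  -- the incidence set
  let P : Finset (Σ _ : G, Ω) := J.sigma (fun u => Finset.univ.filter (fun z => u • z ≠ z))
  have hPlow : J.card * (Fintype.card Ω - 2) ≤ P.card := by
    rw [Finset.card_sigma]
    have : ∀ u ∈ J, Fintype.card Ω - 2 ≤ (Finset.univ.filter (fun z : Ω => u • z ≠ z)).card := by
      intro u hu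
      obtain ⟨-, hu2, hu1, -⟩ := Finset.mem_filter.mp hu
      have hfixle : (Finset.univ.filter (fun z : Ω => u • z = z)).card ≤ 2 := by
        by_contra hcon
        push Not at hcon
        obtain ⟨x, hx, y, hy, z, hz, hxy, hxz, hyz⟩ := Finset.two_lt_card.mp hcon
        exact hu1 (h3 u x y z hxy hyz hxz (Finset.mem_filter.mp hx).2 (Finset.mem_filter.mp hy).2
          (Finset.mem_filter.mp hz).2)
      have hsum := Finset.card_filter_add_card_filter_not (s := (Finset.univ : Finset Ω))
        (fun z : Ω => u • z = z)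
      rw [Finset.card_univ] at hsum
      change _ ≤ (Finset.univ.filter (fun z : Ω => ¬ u • z = z)).card
      omega
    calc J.card * (Fintype.card Ω - 2) = ∑ _u ∈ J, (Fintype.card Ω - 2) := by
          rw [Finset.sum_const, smul_eq_mul]
      _ ≤ ∑ u ∈ J, (Finset.univ.filter (fun z : Ω => u • z ≠ z)).card := Finset.sum_le_sum this
  have hPup : P.card ≤ D.card * T.card := by
    let φ : (Σ _ : G, Ω) → Ω × Ω := fun p => (p.2, p.1 • p.2)
    have himg : P.image φ ⊆ T := by
      intro q hq
      obtain ⟨p, hp, rfl⟩ := Finset.mem_image.mp hq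
      obtain ⟨hp1, hp2⟩ := Finset.mem_sigma.mp hp
      exact Finset.mem_filter.mpr ⟨Finset.mem_univ _, fun h => (Finset.mem_filter.mp hp2).2 h.symm⟩
    have hfib : ∀ q ∈ P.image φ, (P.filter fun p => φ p = q).card ≤ D.card := by
      intro q hq
      have hqT := himg hq
      have hq' : q.1 ≠ q.2 := (Finset.mem_filter.mp hqT).2
      refine le_trans ?_ (hstep1 q.1 q.2 hq')
      apply Finset.card_le_card_of_injOn (fun p => p.1)
      · intro p hp
        obtain ⟨hpP, hpq⟩ := Finset.mem_filter.mp hp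
        obtain ⟨hp1, hp2⟩ := Finset.mem_sigma.mp hpP
        refine Finset.mem_filter.mpr ⟨hp1, ?_⟩
        have e1 : p.2 = q.1 := congrArg Prod.fst hpq
        have e2 : p.1 • p.2 = q.2 := congrArg Prod.snd hpq
        rw [← e1]; exact e2
      · intro p hp p' hp' h
        obtain ⟨-, hpq⟩ := Finset.mem_filter.mp hp
        obtain ⟨-, hpq'⟩ := Finset.mem_filter.mp hp'
        have e1 : p.2 = q.1 := congrArg Prod.fst hpq
        have e1' : p'.2 = q.1 := congrArg Prod.fst hpq'
        have h' : p.1 = p'.1 := h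
        cases p; cases p'
        simp only at h' e1 e1'
        subst h'
        rw [e1, e1']
    calc P.card ≤ D.card * (P.image φ).card := Finset.card_le_mul_card_image P D.card hfib
      _ ≤ D.card * T.card := Nat.mul_le_mul_left _ (Finset.card_le_card himg)
  have hJpos : 0 < J.card := by
    apply Finset.card_pos.mpr
    exact ⟨t, Finset.mem_filter.mpr ⟨Finset.mem_univ _, ht2, ht1, a, b, hab, hta, htb⟩⟩
  rw [← hDcard]
  have h6 : J.card * (Fintype.card Ω - 2) ≤ J.card * (2 * D.card) := by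
    calc J.card * (Fintype.card Ω - 2) ≤ P.card := hPlow
      _ ≤ D.card * T.card := hPup
      _ ≤ D.card * (2 * J.card) := Nat.mul_le_mul_left _ hstep2
      _ = J.card * (2 * D.card) := by ring
  exact Nat.le_of_mul_le_mul_left h6 hJpos

end Cfsg.Agent.S0741
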