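import Cfsg.Statements.S1530
import Cfsg.Agent.Lib.Helper10.Coherence

set_option autoImplicit false
open Cfsg

namespace Cfsg.Agent.S1530

theorem arith_main (p a x n D : ℤ) (hp : 0 < p) (ha : 1 ≤ a) (hn : 0 ≤ n) (hD : 2*a*p^2 < D)
    (heq : x^2 * D = p^2 * (1 + 2*a*x - n)) :
    (x = 0 ∧ n = 1) ∨ (x = 1 ∧ n = 0 ∧ D = p^2 * (1 + 2*a)) := by
  have hp2 : 0 < p^2 := by positivity
  by_cases hx : x = 0
  · left
    refine ⟨hx, ?_⟩
    subst hx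
    have : p^2 * (1 - n) = 0 := by linarith
    rcases mul_eq_zero.mp this with h | h
    · exact absurd h hp2.ne'
    · linarith
  · right
    have hx2 : 0 < x^2 := by positivity
    have h1 : x^2 * (2*a*p^2) < x^2 * D := mul_lt_mul_of_pos_left hD hx2
    have h2 : p^2 * (2*a*x^2) < p^2 * (1 + 2*a*x - n) := by nlinarith
    have h3 : 2*a*x^2 < 1 + 2*a*x - n := lt_of_mul_lt_mul_left h2 hp2.le
    have h4 : 0 ≤ x*(x-1) := by
      rcases le_or_gt x 0 with h | h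
      · nlinarith
      · have : 1 ≤ x := h
        nlinarith
    have h5 : n = 0 := by nlinarith
    have h6 : x*(x-1) = 0 := by
      by_contra hne
      have : 1 ≤ x*(x-1) := by
        rcases lt_or_eq_of_le h4 with h | h
        · exact h
        · exact absurd h.symm hne
      nlinarith
    have h7 : x = 1 := by
      rcases mul_eq_zero.mp h6 with h | h
      · exact absurd h hx
      · linarith
    refine ⟨h7, h5, ?_⟩
    subst h7 h5
    linarith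

open Cfsg.Agent.CharLib Cfsg.Agent.Lib.Helper10 in
open scoped ComplexConjugate in

/-- Let N be a subgroup of the finite group G and S₀ a finite set of irreducible characters of N, χ an irreducible character of N not in S₀, with degrees ξ 1 = d ξ. Let τ be a linear isometry on the integer combinations of S₀ ∪ {χ} vanishing at 1, with values virtual characters of G vanishing at 1, such that (S₀, N minus 1, τ) is coherent. If some ψ ∈ S₀ has d ψ dividing d χ and 2 · d ψ · d χ < Σ_{ξ ∈ S₀} (d ξ)², then (S₀ ∪ {χ}, N minus 1, τ) is coherent. -/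
theorem result {G : Type*} [Group G] [Fintype G] (N : Subgroup G) [Fintype N] (S₀ : Finset (N → ℂ)) (χ : N → ℂ) (hirr : ∀ ξ ∈ S₀, Cfsg.IsIrrCharacter N ξ) (hχ : Cfsg.IsIrrCharacter N χ) (hχS : χ ∉ S₀) (d : (N → ℂ) → ℕ) (hd : ∀ ξ ∈ insert χ S₀, ξ 1 = (d ξ : ℂ)) (τ : (N → ℂ) → (G → ℂ)) (hτ : Cfsg.IsLinearIsometryOn (Cfsg.zspanOn (↑(insert χ S₀) : Set (N → ℂ)) {1}ᶜ) τ) (hτ1 : ∀ α ∈ Cfsg.zspanOn (↑(insert χ S₀) : Set (N → ℂ)) {1}ᶜ, τ α 1 = 0) (hcoh : Cfsg.IsCoherent (↑S₀ : Set (N → ℂ)) {1}ᶜ τ) (ψ : N → ℂ) (hψ : ψ ∈ S₀) (hdvd : d ψ ∣ d χ) (hlt : 2 * d ψ * d χ < ∑ ξ ∈ S₀, d ξ ^ 2) : Cfsg.IsCoherent (↑(insert χ S₀) : Set (N → ℂ)) {1}ᶜ τ := by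
  classical
  obtain ⟨⟨α₀, hα₀, hα₀ne⟩, τ₁, hτ₁, hτ₁τ⟩ := hcoh
  have hSsub : (↑S₀ : Set (N → ℂ)) ⊆ ↑(insert χ S₀) := by
    intro x hx
    exact Finset.mem_coe.mpr (Finset.mem_insert_of_mem (Finset.mem_coe.mp hx))
  have hχmem : χ ∈ insert χ S₀ := Finset.mem_insert_self χ S₀
  have hmemS : ∀ ξ ∈ S₀, ξ ∈ insert χ S₀ := fun ξ hξ => Finset.mem_insert_of_mem hξ
  have hirrS : ∀ ξ ∈ insert χ S₀, IsIrrCharacter N ξ := by
    intro ξ hξ
    rcases Finset.mem_insert.mp hξ with rfl | h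
    · exact hχ
    · exact hirr ξ h
  have hS₀o : OrthoOn S₀ := orthoOn_of_irr hirr
  have hSo : OrthoOn (insert χ S₀) := orthoOn_of_irr hirrS
  have hdpos : ∀ ξ ∈ insert χ S₀, 0 < d ξ := by
    intro ξ hξ
    obtain ⟨n, hn0, hn⟩ := IsIrrCharacter.apply_one_pos (hirrS ξ hξ)
    have h1 := hd ξ hξ
    rw [hn] at h1
    have : n = d ξ := by exact_mod_cast h1
    omega
  obtain ⟨a, ha⟩ := hdvd
  have hapos : 1 ≤ a := by
    have := hdpos χ hχmem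
    rcases Nat.eq_zero_or_pos a with h | h
    · rw [h, mul_zero] at ha; omega
    · exact h
  have hne : ∀ ξ ∈ S₀, ξ ≠ χ := fun ξ hξ h => hχS (h ▸ hξ)
  -- β
  set β : N → ℂ := χ - (a : ℤ) • ψ with hβ
  have hβE : β ∈ zspanOn (↑(insert χ S₀) : Set (N → ℂ)) {1}ᶜ := by
    refine ⟨zspan_sub (subset_zspan (Finset.mem_coe.mpr hχmem))
      (zspan_zsmul (subset_zspan (Finset.mem_coe.mpr (hmemS ψ hψ))) _), ?_⟩
    intro x hx
    have hx1 : x = 1 := by simpa using hx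
    subst hx1
    rw [hβ, Pi.sub_apply, Pi.smul_apply, hd χ hχmem, hd ψ (hmemS ψ hψ), ha]
    push_cast
    simp only [zsmul_eq_mul]
    push_cast
    ring
  -- γ ξ
  have hγ : ∀ ξ ∈ S₀, ((d ψ : ℤ) • ξ - (d ξ : ℤ) • ψ) ∈ zspanOn (↑S₀ : Set (N → ℂ)) {1}ᶜ := by
    intro ξ hξ
    refine ⟨zspan_sub (zspan_zsmul (subset_zspan (Finset.mem_coe.mpr hξ)) _)
      (zspan_zsmul (subset_zspan (Finset.mem_coe.mpr hψ)) _), ?_⟩
    intro x hx
    have hx1 : x = 1 := by simpa using hx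
    subst hx1
    rw [Pi.sub_apply, Pi.smul_apply, Pi.smul_apply, hd ξ (hmemS ξ hξ), hd ψ (hmemS ψ hψ)]
    simp only [zsmul_eq_mul]
    push_cast
    ring
  have hτ₁γ : ∀ ξ ∈ S₀, τ ((d ψ : ℤ) • ξ - (d ξ : ℤ) • ψ) = (d ψ : ℤ) • τ₁ ξ - (d ξ : ℤ) • τ₁ ψ := by
    intro ξ hξ
    rw [← hτ₁τ _ (hγ ξ hξ), isometry_eq_coefMap hS₀o hτ₁ (hγ ξ hξ).1, coefMap_sub, coefMap_zsmul,
      coefMap_zsmul, coefMap_apply_mem hS₀o τ₁ hξ, coefMap_apply_mem hS₀o τ₁ hψ]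
  set B : G → ℂ := τ β with hB
  have hBg : IsGeneralizedCharacter G B := hτ.2.2.2 β hβE
  have hτ₁g : ∀ ξ ∈ S₀, IsGeneralizedCharacter G (τ₁ ξ) := fun ξ hξ =>
    hτ₁.2.2.2 ξ (subset_zspan (Finset.mem_coe.mpr hξ))
  have hτ₁o := isometry_ortho hS₀o hτ₁
  have hcz : ∀ ξ : N → ℂ, ∃ c : ℤ, ξ ∈ S₀ → classInner B (τ₁ ξ) = c := by
    intro ξ
    by_cases hξ : ξ ∈ S₀
    · obtain ⟨c, hc⟩ := genChar_inner_int hBg (hτ₁g ξ hξ)
      exact ⟨c, fun _ => hc⟩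
    · exact ⟨0, fun h => absurd h hξ⟩
  choose cz hcz using hcz
  -- inner products on the N side
  have hχψ : ∀ ξ ∈ S₀, classInner χ ξ = 0 := by
    intro ξ hξ
    rw [hSo χ hχmem ξ (hmemS ξ hξ), if_neg (fun h => hne ξ hξ h.symm)]
  have hψξ : ∀ ξ ∈ S₀, classInner ψ ξ = if ξ = ψ then 1 else 0 := by
    intro ξ hξ
    rw [hS₀o ψ hψ ξ hξ]
    by_cases h : ξ = ψ
    · rw [if_pos h, if_pos h.symm]
    · rw [if_neg h, if_neg (fun h' => h h'.symm)]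
  have hE1c : ∀ ξ ∈ S₀, (d ψ : ℂ) * (cz ξ : ℂ) - (d ξ : ℂ) * (cz ψ : ℂ) =
      (a : ℂ) * (d ξ : ℂ) - (if ξ = ψ then (a : ℂ) * (d ψ : ℂ) else 0) := by
    intro ξ hξ
    have h1 : classInner B (τ ((d ψ : ℤ) • ξ - (d ξ : ℤ) • ψ)) =
        classInner β ((d ψ : ℤ) • ξ - (d ξ : ℤ) • ψ) :=
      hτ.2.2.1 β hβE _ (zspanOn_mono hSsub _ (hγ ξ hξ))
    rw [hτ₁γ ξ hξ, Cfsg.Agent.Lib.Helper10.classInner_sub_right, classInner_zsmul_right,
      classInner_zsmul_right, hcz ξ hξ, hcz ψ hψ] at h1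
    rw [hβ, Cfsg.Agent.Lib.Helper10.classInner_sub_left, Cfsg.Agent.Lib.Helper10.classInner_sub_right,
      Cfsg.Agent.Lib.Helper10.classInner_sub_right, classInner_zsmul_right, classInner_zsmul_right,
      classInner_zsmul_left, classInner_zsmul_left, classInner_zsmul_right, classInner_zsmul_right,
      hχψ ξ hξ, hχψ ψ hψ, hψξ ξ hξ, hψξ ψ hψ, if_pos rfl] at h1
    push_cast at h1
    rw [h1]
    split_ifs <;> ring
  set x : ℤ := cz ψ + (a : ℤ) with hx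
  have hE1 : ∀ ξ ∈ S₀, (d ψ : ℤ) * cz ξ = (d ξ : ℤ) * x - (if ξ = ψ then (a : ℤ) * (d ψ : ℤ) else 0) := by
    intro ξ hξ
    have h1 := hE1c ξ hξ
    have h2 : ((d ψ : ℤ) * cz ξ : ℂ) = ((d ξ : ℤ) * x - (if ξ = ψ then (a : ℤ) * (d ψ : ℤ) else 0) : ℂ) := by
      rw [hx]
      push_cast
      split_ifs with h
      · rw [if_pos h] at h1; linear_combination h1
      · rw [if_neg h] at h1; linear_combination h1
    have h3 : (((d ψ : ℤ) * cz ξ : ℤ) : ℂ) =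
        ((((d ξ : ℤ) * x - (if ξ = ψ then (a : ℤ) * (d ψ : ℤ) else 0)) : ℤ) : ℂ) := by
      push_cast
      split_ifs with h
      · rw [if_pos h] at h2; push_cast at h2 ⊢; exact h2
      · rw [if_neg h] at h2; push_cast at h2 ⊢; exact h2
    exact_mod_cast h3
  -- Δ
  set Sg : G → ℂ := ∑ ξ ∈ S₀, ((cz ξ : ℤ) : ℂ) • τ₁ ξ with hSg
  set Δ : G → ℂ := B - Sg with hΔ
  have hSgg : IsGeneralizedCharacter G Sg := by
    apply genChar_sum
    intro ξ hξ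
    rw [Int.cast_smul_eq_zsmul]
    exact genChar_zsmul (hτ₁g ξ hξ) _
  have hΔg : IsGeneralizedCharacter G Δ := genChar_sub hBg hSgg
  have hSgη : ∀ η ∈ S₀, classInner Sg (τ₁ η) = (cz η : ℂ) := by
    intro η hη
    exact classInner_sum_smul_left S₀ τ₁ hτ₁o (fun ξ => ((cz ξ : ℤ) : ℂ)) hη
  have hΔη : ∀ η ∈ S₀, classInner Δ (τ₁ η) = 0 := by
    intro η hη
    rw [hΔ, Cfsg.Agent.Lib.Helper10.classInner_sub_left, hSgη η hη, hcz η hη, sub_self]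
  have hΔSg : classInner Δ Sg = 0 := by
    rw [hSg, Cfsg.Agent.Lib.Helper10.classInner_sum_right]
    apply Finset.sum_eq_zero
    intro ξ hξ
    rw [Cfsg.Agent.Lib.Helper10.classInner_smul_right, hΔη ξ hξ, mul_zero]
  have hSgΔ : classInner Sg Δ = 0 := by
    rw [Cfsg.Agent.Lib.Helper10.classInner_conj_symm, hΔSg, map_zero]
  have hSgSg : classInner Sg Sg = ∑ ξ ∈ S₀, ((cz ξ : ℤ) : ℂ) * ((cz ξ : ℤ) : ℂ) := by
    rw [hSg, classInner_sum_smul_sum_smul S₀ τ₁ hτ₁o]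
    apply Finset.sum_congr rfl
    intro ξ _
    rw [map_intCast]
  obtain ⟨n, hn⟩ := genChar_inner_int hΔg hΔg
  have hn0 : 0 ≤ n := by
    obtain ⟨r, hr0, hr⟩ := classInner_self_nonneg Δ
    rw [hn] at hr
    have : (n : ℝ) = r := by exact_mod_cast hr
    have : (0 : ℝ) ≤ (n : ℝ) := by rw [this]; exact hr0
    exact_mod_cast this
  have hBsplit : B = Δ + Sg := by rw [hΔ]; abel
  -- E2
  have hββ : classInner β β = 1 + (a : ℂ) * (a : ℂ) := by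
    rw [hβ, Cfsg.Agent.Lib.Helper10.classInner_sub_left, Cfsg.Agent.Lib.Helper10.classInner_sub_right,
      Cfsg.Agent.Lib.Helper10.classInner_sub_right, classInner_zsmul_right, classInner_zsmul_right,
      classInner_zsmul_left, classInner_zsmul_left, hχψ ψ hψ, hψξ ψ hψ, if_pos rfl,
      hSo χ hχmem χ hχmem, if_pos rfl, Cfsg.Agent.Lib.Helper10.classInner_conj_symm ψ χ, hχψ ψ hψ]
    push_cast
    simp
  have hE2c : ∑ ξ ∈ S₀, ((cz ξ : ℤ) : ℂ) * ((cz ξ : ℤ) : ℂ) + (n : ℂ) = 1 + (a : ℂ) * (a : ℂ) := by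
    have h1 : classInner B B = classInner β β := hτ.2.2.1 β hβE β hβE
    rw [hββ, hBsplit, Cfsg.Agent.Lib.Helper10.classInner_add_left,
      Cfsg.Agent.Lib.Helper10.classInner_add_right, Cfsg.Agent.Lib.Helper10.classInner_add_right,
      hΔSg, hSgΔ, hSgSg, hn] at h1
    linear_combination h1
  have hE2 : ∑ ξ ∈ S₀, cz ξ * cz ξ + n = 1 + (a : ℤ) * (a : ℤ) := by
    have : ((∑ ξ ∈ S₀, cz ξ * cz ξ + n : ℤ) : ℂ) = ((1 + (a : ℤ) * (a : ℤ) : ℤ) : ℂ) := by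
      push_cast
      exact hE2c
    exact_mod_cast this
  set p : ℤ := (d ψ : ℤ) with hp
  set D : ℤ := ∑ ξ ∈ S₀, (d ξ : ℤ) ^ 2 with hD
  have hppos : 0 < p := by
    rw [hp]; exact_mod_cast hdpos ψ (hmemS ψ hψ)
  have hDlt : 2 * (a : ℤ) * p ^ 2 < D := by
    have h1 : ((2 * d ψ * d χ : ℕ) : ℤ) < ((∑ ξ ∈ S₀, d ξ ^ 2 : ℕ) : ℤ) := by exact_mod_cast hlt
    rw [ha] at h1
    push_cast at h1
    rw [hD, hp]
    linarith
  have hsq : ∀ ξ ∈ S₀, (p * cz ξ) ^ 2 = (d ξ : ℤ) ^ 2 * x ^ 2 -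
      (if ξ = ψ then 2 * (a : ℤ) * p ^ 2 * x - (a : ℤ) ^ 2 * p ^ 2 else 0) := by
    intro ξ hξ
    rw [hE1 ξ hξ]
    by_cases h : ξ = ψ
    · rw [if_pos h, if_pos h, h]
      ring
    · rw [if_neg h, if_neg h]
      ring
  have hsum : p ^ 2 * ∑ ξ ∈ S₀, cz ξ * cz ξ = x ^ 2 * D - (2 * (a : ℤ) * p ^ 2 * x - (a : ℤ) ^ 2 * p ^ 2) := by
    rw [Finset.mul_sum]
    have : ∀ ξ ∈ S₀, p ^ 2 * (cz ξ * cz ξ) = (p * cz ξ) ^ 2 := fun ξ _ => by ring
    rw [Finset.sum_congr rfl this, Finset.sum_congr rfl hsq, Finset.sum_sub_distrib,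
      Finset.sum_ite_eq' S₀ ψ, if_pos hψ, hD, Finset.mul_sum]
    congr 1
    apply Finset.sum_congr rfl
    intro ξ _
    ring
  have heq : x ^ 2 * D = p ^ 2 * (1 + 2 * (a : ℤ) * x - n) := by
    have h1 : p ^ 2 * (∑ ξ ∈ S₀, cz ξ * cz ξ + n) = p ^ 2 * (1 + (a : ℤ) * (a : ℤ)) := by rw [hE2]
    rw [mul_add, hsum] at h1
    linear_combination h1
  have hapos' : (1 : ℤ) ≤ (a : ℤ) := by exact_mod_cast hapos
  rcases arith_main p a x n D hppos hapos' hn0 hDlt heq with ⟨hx0, hn1⟩ | ⟨hx1, hn0', hDeq⟩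
  · -- case x = 0: construct the extension
    have hczβ : ∀ ξ ∈ S₀, ((cz ξ : ℤ) : ℂ) = classInner β ξ := by
      intro ξ hξ
      have h1 := hE1 ξ hξ
      rw [hx0, mul_zero, zero_sub] at h1
      have h2 : cz ξ = if ξ = ψ then -(a : ℤ) else 0 := by
        by_cases h : ξ = ψ
        · rw [if_pos h] at h1 ⊢
          have : p * cz ξ = p * (-(a : ℤ)) := by rw [h1]; ring
          exact mul_left_cancel₀ hppos.ne' this
        · rw [if_neg h] at h1 ⊢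
          have : p * cz ξ = p * 0 := by rw [h1]; ring
          exact mul_left_cancel₀ hppos.ne' this
      rw [hβ, Cfsg.Agent.Lib.Helper10.classInner_sub_left, classInner_zsmul_left, hχψ ξ hξ,
        hψξ ξ hξ, h2]
      by_cases h : ξ = ψ
      · rw [if_pos h, if_pos h]; push_cast; ring
      · rw [if_neg h, if_neg h]; push_cast; ring
    have hΔΔ : classInner Δ Δ = 1 := by rw [hn, hn1]; norm_num
    set f : (N → ℂ) → (G → ℂ) := fun ξ => if ξ = χ then Δ else τ₁ ξ with hf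
    have hfχ : f χ = Δ := by rw [hf]; simp
    have hfS₀ : ∀ ξ ∈ S₀, f ξ = τ₁ ξ := by
      intro ξ hξ
      rw [hf]
      simp only
      rw [if_neg (hne ξ hξ)]
    have hfo : ∀ ξ ∈ insert χ S₀, ∀ η ∈ insert χ S₀,
        classInner (f ξ) (f η) = if ξ = η then 1 else 0 := by
      intro ξ hξ η hη
      rcases Finset.mem_insert.mp hξ with rfl | hξ'
      · rcases Finset.mem_insert.mp hη with rfl | hη'
        · rw [hfχ, hΔΔ, if_pos rfl]
        · rw [hfχ, hfS₀ η hη', hΔη η hη', if_neg (fun h => hne η hη' h.symm)]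
      · rcases Finset.mem_insert.mp hη with rfl | hη'
        · rw [hfχ, hfS₀ ξ hξ', Cfsg.Agent.Lib.Helper10.classInner_conj_symm, hΔη ξ hξ', map_zero,
            if_neg (hne ξ hξ')]
        · rw [hfS₀ ξ hξ', hfS₀ η hη']
          exact hτ₁o ξ hξ' η hη'
    have hfg : ∀ ξ ∈ insert χ S₀, IsGeneralizedCharacter G (f ξ) := by
      intro ξ hξ
      rcases Finset.mem_insert.mp hξ with rfl | hξ'
      · rw [hfχ]; exact hΔg
      · rw [hfS₀ ξ hξ']; exact hτ₁g ξ hξ'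
    have hτ₂ := coefMap_isLinearIsometryOn hSo f hfo hfg
    refine ⟨⟨α₀, zspanOn_mono hSsub _ hα₀, hα₀ne⟩, coefMap (insert χ S₀) f, hτ₂, ?_⟩
    -- value on β
    have hβχ : classInner β χ = 1 := by
      rw [hβ, Cfsg.Agent.Lib.Helper10.classInner_sub_left, classInner_zsmul_left,
        hSo χ hχmem χ hχmem, if_pos rfl, Cfsg.Agent.Lib.Helper10.classInner_conj_symm ψ χ, hχψ ψ hψ]
      simp
    have hτ₂β : coefMap (insert χ S₀) f β = B := by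
      rw [coefMap_insert hχS, hβχ, one_smul, hfχ, coefMap_congr hfS₀, hBsplit]
      congr 1
      unfold coefMap
      rw [hSg]
      apply Finset.sum_congr rfl
      intro ξ hξ
      rw [hczβ ξ hξ]
    intro α hα
    obtain ⟨c, hc1, hc2⟩ := zspan_expand hSo hα.1
    set m : ℤ := c χ with hm
    set α₁ : N → ℂ := α - m • β with hα₁
    have hα₁E : α₁ ∈ zspanOn (↑(insert χ S₀) : Set (N → ℂ)) {1}ᶜ :=
      zspanOn_sub hα (zspanOn_zsmul hβE m)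
    have hα₁S₀ : α₁ ∈ zspan (↑S₀ : Set (N → ℂ)) := by
      have h1 : α₁ = ∑ ξ ∈ S₀, c ξ • ξ + (m * (a : ℤ)) • ψ := by
        rw [hα₁, hc2, Finset.sum_insert hχS, hβ, ← hm, smul_sub, mul_smul]
        abel
      rw [h1]
      exact zspan_add (zspan_sum S₀ _ (fun ξ hξ => zspan_zsmul (subset_zspan (Finset.mem_coe.mpr hξ)) _))
        (zspan_zsmul (subset_zspan (Finset.mem_coe.mpr hψ)) _)
    have hα₁On : α₁ ∈ zspanOn (↑S₀ : Set (N → ℂ)) {1}ᶜ := ⟨hα₁S₀, hα₁E.2⟩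
    have hαeq : α = α₁ + m • β := by rw [hα₁]; abel
    have hα₁χ : classInner α₁ χ = 0 := by
      obtain ⟨c', hc'⟩ := mem_zspan_finset.mp hα₁S₀
      rw [hc', Cfsg.Agent.Lib.Helper10.classInner_sum_left]
      apply Finset.sum_eq_zero
      intro ξ hξ
      rw [classInner_zsmul_left, Cfsg.Agent.Lib.Helper10.classInner_conj_symm, hχψ ξ hξ, map_zero,
        mul_zero]
    have h1 : τ α = τ α₁ + m • B := by
      conv_lhs => rw [hαeq]
      rw [hτ.1 α₁ hα₁E (m • β) (zspanOn_zsmul hβE m), hτ.2.1 β hβE m]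
    have h2 : coefMap (insert χ S₀) f α₁ = τ α₁ := by
      rw [coefMap_insert hχS, hα₁χ, zero_smul, zero_add, coefMap_congr hfS₀,
        ← isometry_eq_coefMap hS₀o hτ₁ hα₁S₀, hτ₁τ α₁ hα₁On]
    conv_lhs => rw [hαeq]
    rw [coefMap_add, coefMap_zsmul, h2, hτ₂β, h1]
  · -- case x = 1: contradiction
    exfalso
    have hΔ0 : Δ = 0 := Cfsg.Agent.Lib.Helper10.classInner_self_eq_zero (by rw [hn, hn0']; norm_num)
    have hB1 : B 1 = 0 := hτ1 β hβE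
    set w : ℂ := τ₁ ψ 1 with hw
    have hE4 : ∀ ξ ∈ S₀, (p : ℂ) * τ₁ ξ 1 = (d ξ : ℂ) * w := by
      intro ξ hξ
      have h1 := hτ1 _ (zspanOn_mono hSsub _ (hγ ξ hξ))
      rw [hτ₁γ ξ hξ, Pi.sub_apply, Pi.smul_apply, Pi.smul_apply] at h1
      simp only [zsmul_eq_mul] at h1
      push_cast at h1
      rw [hp]
      push_cast
      linear_combination h1
    have hSg1 : ∑ ξ ∈ S₀, ((cz ξ : ℤ) : ℂ) * τ₁ ξ 1 = 0 := by
      have h1 : B 1 = Sg 1 := by rw [hBsplit, hΔ0, zero_add]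
      rw [hB1, hSg, Finset.sum_apply] at h1
      rw [h1]
      apply Finset.sum_congr rfl
      intro ξ _
      rw [Pi.smul_apply, smul_eq_mul]
    have hterm : ∀ ξ ∈ S₀, (p : ℂ) ^ 2 * (((cz ξ : ℤ) : ℂ) * τ₁ ξ 1) =
        w * ((d ξ : ℂ) ^ 2 - (if ξ = ψ then (a : ℂ) * (p : ℂ) ^ 2 else 0)) := by
      intro ξ hξ
      have h1 : ((p * cz ξ : ℤ) : ℂ) = (((d ξ : ℤ) * x - (if ξ = ψ then (a : ℤ) * (d ψ : ℤ) else 0) : ℤ) : ℂ) := by
        rw [hE1 ξ hξ]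
      have h2 := hE4 ξ hξ
      rw [hx1] at h1
      by_cases h : ξ = ψ
      · rw [if_pos h] at h1 ⊢
        push_cast at h1
        have : (p : ℂ) ^ 2 * (((cz ξ : ℤ) : ℂ) * τ₁ ξ 1) = ((p : ℂ) * (cz ξ : ℂ)) * ((p : ℂ) * τ₁ ξ 1) := by ring
        rw [this, h1, h2, h, hp]
        push_cast
        ring
      · rw [if_neg h] at h1 ⊢
        push_cast at h1
        have : (p : ℂ) ^ 2 * (((cz ξ : ℤ) : ℂ) * τ₁ ξ 1) = ((p : ℂ) * (cz ξ : ℂ)) * ((p : ℂ) * τ₁ ξ 1) := by ring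
        rw [this, h1, h2]
        ring
    have hw0 : w * ((D : ℂ) - (a : ℂ) * (p : ℂ) ^ 2) = 0 := by
      have h1 : (p : ℂ) ^ 2 * ∑ ξ ∈ S₀, ((cz ξ : ℤ) : ℂ) * τ₁ ξ 1 = 0 := by rw [hSg1, mul_zero]
      rw [Finset.mul_sum, Finset.sum_congr rfl hterm, ← Finset.mul_sum, Finset.sum_sub_distrib,
        Finset.sum_ite_eq' S₀ ψ, if_pos hψ] at h1
      rw [hD]
      push_cast
      exact h1
    have hw1 : w = 0 := by
      rw [hDeq] at hw0
      push_cast at hw0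
      have h2 : w * ((p : ℂ) ^ 2 * (1 + (a : ℂ))) = 0 := by linear_combination hw0
      have hp0 : (p : ℂ) ^ 2 ≠ 0 := by
        apply pow_ne_zero
        exact_mod_cast hppos.ne'
      have ha0 : (1 + (a : ℂ)) ≠ 0 := by
        have : (0 : ℝ) < 1 + (a : ℝ) := by positivity
        intro h
        have h3 : ((1 + (a : ℝ) : ℝ) : ℂ) = 0 := by push_cast; exact h
        have : (1 + (a : ℝ) : ℝ) = 0 := by exact_mod_cast h3
        linarith
      rcases mul_eq_zero.mp h2 with h | h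
      · exact h
      · exact absurd h (mul_ne_zero hp0 ha0)
    obtain ⟨ε, hε, hirrε⟩ := genChar_norm_one (hτ₁g ψ hψ) (by rw [hτ₁o ψ hψ ψ hψ, if_pos rfl])
    have := irr_one_ne_zero hirrε
    rw [Pi.smul_apply, smul_eq_mul, ← hw, hw1, mul_zero] at this
    exact this rfl


end Cfsg.Agent.S1530
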