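import Cfsg.Statements.S0171
import Cfsg.Agent.Lib.Helper10.FrobChar
import Cfsg.Agent.Lib.Helper10.GenChar
import Cfsg.Agent.Lib.Helper10.ConjChar
import Cfsg.Agent.Lib.Helper10.IrrOrtho
import Cfsg.Agent.Lib.Lead.CharInd

set_option autoImplicit false
open Cfsg

namespace Cfsg.Agent.S0171

open Cfsg.Agent.Lib.Helper10
open scoped ComplexConjugate


/-- Let G = K H with K normal, K ⊓ H trivial, and no non-identity element of H commuting with a non-identity element of K (a Frobenius group with kernel K and complement H). Then every non-principal irreducible character of K induces to an irreducible character of G. -/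
theorem result {G : Type*} [Group G] [Fintype G] (K H : Subgroup G) [K.Normal] (hKH : K ⊓ H = ⊥) (hKH' : K ⊔ H = ⊤) (hfpf : ∀ h ∈ H, h ≠ 1 → ∀ k ∈ K, h * k = k * h → k = 1) (τ : K → ℂ) (hτ : Cfsg.IsIrrCharacter K τ) (hτ1 : τ ≠ fun _ => 1) : Cfsg.IsIrrCharacter G (Cfsg.indFun K τ) := by
  classical
  have hKn : K.Normal := inferInstance
  have hK0 : (Nat.card K : ℂ) ≠ 0 := Nat.cast_ne_zero.mpr Nat.card_pos.ne'
  have hchar : IsCharacter G (indFun K τ) :=
    Cfsg.Agent.CharLib.IsCharacter.indFun K (Cfsg.Agent.CharLib.IsIrrCharacter.isCharacter hτ)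
  have hcl : IsClassFunction K τ :=
    Cfsg.Agent.CharLib.IsCharacter.isClassFunction (Cfsg.Agent.CharLib.IsIrrCharacter.isCharacter hτ)
  have h0 : ∀ x : G, ∑ k : K, τ ⟨x⁻¹ * k * x, by
      have := hKn.conj_mem k k.2 x⁻¹; simpa using this⟩ * conj (τ k)
      = if x ∈ K then (Nat.card K : ℂ) else 0 := by
    intro x
    have hirr := isIrrCharacter_conj K τ hτ x⁻¹
    have hinner := Cfsg.Agent.Lib.Helper10.classInner_irr hirr hτ
    have hiff : ((fun h : K => τ ⟨x⁻¹ * h * x⁻¹⁻¹, hKn.conj_mem h h.2 x⁻¹⟩) = τ) ↔ x ∈ K := by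
      constructor
      · intro h
        have := frob_inertia K H hKH' hfpf τ hτ hτ1 x⁻¹ h
        exact K.inv_mem_iff.mp this
      · intro hx
        funext k
        have h1 := hcl k ⟨x⁻¹, K.inv_mem hx⟩
        rw [← h1]
        congr 1
    have hsum : ∑ k : K, τ ⟨x⁻¹ * k * x, by
        have := hKn.conj_mem k k.2 x⁻¹; simpa using this⟩ * conj (τ k)
        = (Nat.card K : ℂ) * (if (fun h : K => τ ⟨x⁻¹ * h * x⁻¹⁻¹, hKn.conj_mem h h.2 x⁻¹⟩) = τ
            then 1 else 0) := by
      rw [← hinner]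
      unfold classInner
      rw [← mul_assoc, mul_inv_cancel₀ hK0, one_mul]
      apply Finset.sum_congr rfl
      intro k _
      congr 2
      apply Subtype.ext
      simp
    by_cases hx : x ∈ K
    · rw [if_pos hx, hsum, if_pos (hiff.mpr hx), mul_one]
    · rw [if_neg hx, hsum, if_neg (fun h => hx (hiff.mp h)), mul_zero]
  have hnorm : classInner (indFun K τ) (indFun K τ) = 1 := by
    rw [classInner_indFun_right K τ _ (isClassFunction_indFun K τ)]
    have e : ∀ k : K, indFun K τ k * conj (τ k) = ∑ x : G, (Nat.card K : ℂ)⁻¹ *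
        (τ ⟨x⁻¹ * k * x, by have := hKn.conj_mem k k.2 x⁻¹; simpa using this⟩ * conj (τ k)) := by
      intro k
      rw [indFun_apply_of_normal K τ k, Finset.mul_sum, Finset.sum_mul]
      apply Finset.sum_congr rfl
      intro x _
      ring
    simp_rw [e]
    rw [Finset.sum_comm]
    simp_rw [← Finset.mul_sum, h0]
    rw [Finset.sum_ite, Finset.sum_const_zero, add_zero, Finset.sum_const, nsmul_eq_mul]
    have hcard : (Finset.univ.filter (fun x : G => x ∈ K)).card = Nat.card K := by
      rw [Nat.card_eq_fintype_card, Fintype.card_subtype]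
    rw [hcard]
    field_simp
  obtain ⟨ε, hε, hirr⟩ := genChar_norm_one (isGeneralizedCharacter_of_isCharacter hchar) hnorm
  rcases hε with rfl | rfl
  · simpa using hirr
  · exfalso
    obtain ⟨n, hnpos, hn⟩ := Cfsg.Agent.CharLib.IsIrrCharacter.apply_one_pos hirr
    obtain ⟨m, hm⟩ := Cfsg.Agent.CharLib.IsCharacter.apply_one hchar
    simp only [Pi.smul_apply, smul_eq_mul] at hn
    rw [hm] at hn
    have hc : ((n + m : ℕ) : ℂ) = 0 := by
      push_cast
      linear_combination (-1 : ℂ) * hn
    have := Nat.cast_eq_zero.mp hc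
    omega

end Cfsg.Agent.S0171
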