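import Cfsg.Statements.S0170
import Cfsg.Agent.S0198
import Cfsg.Agent.Lib.Helper10.TIInd
import Cfsg.Agent.Lib.Lead.CharInd

set_option autoImplicit false
open Cfsg

namespace Cfsg.Agent.S0170

open Cfsg.Agent.Lib.Helper10


/-- Exceptional characters. Let S be a subset of a finite group contained in its normalizer N and meeting its conjugates by elements outside N only in the identity. Given n ≥ 2 distinct irreducible characters of N of equal degree that vanish on N away from S, there exist a sign ε and n distinct irreducible characters θ_i of G such that inducing χ_i − χ_j to G gives ε (θ_i − θ_j) for all i, j. -/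
theorem result {G : Type*} [Group G] [Fintype G] (S : Set G) (hSN : S ⊆ Subgroup.normalizer S) (hTI : ∀ g : G, g ∉ Subgroup.normalizer S → ∀ s ∈ S, g * s * g⁻¹ ∈ S → s = 1) (n : ℕ) (hn : 2 ≤ n) (χ : Fin n → (Subgroup.normalizer S → ℂ)) (hirr : ∀ i, Cfsg.IsIrrCharacter (Subgroup.normalizer S) (χ i)) (hinj : Function.Injective χ) (hvan : ∀ i, ∀ x : Subgroup.normalizer S, (x : G) ∉ S → χ i x = 0) (hdeg : ∀ i j, χ i 1 = χ j 1) : ∃ ε : ℂ, (ε = 1 ∨ ε = -1) ∧ ∃ θ : Fin n → (G → ℂ), (∀ i, Cfsg.IsIrrCharacter G (θ i)) ∧ Function.Injective θ ∧ ∀ i j, Cfsg.indFun (Subgroup.normalizer S) (χ i) - Cfsg.indFun (Subgroup.normalizer S) (χ j) = ε • (θ i - θ j) := by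
  classical
  have hnpos : 0 < n := by omega
  set i₀ : Fin n := ⟨0, hnpos⟩ with hi₀
  have hcharχ : ∀ i, IsCharacter (Subgroup.normalizer S) (χ i) :=
    fun i => Cfsg.Agent.CharLib.IsIrrCharacter.isCharacter (hirr i)
  have hclχ : ∀ i, IsClassFunction (Subgroup.normalizer S) (χ i) :=
    fun i => Cfsg.Agent.CharLib.IsCharacter.isClassFunction (hcharχ i)
  have hind : ∀ i, IsCharacter G (indFun (Subgroup.normalizer S) (χ i)) :=
    fun i => Cfsg.Agent.CharLib.IsCharacter.indFun _ (hcharχ i)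
  set τ : Fin n → (G → ℂ) := fun i =>
    indFun (Subgroup.normalizer S) (χ i) - indFun (Subgroup.normalizer S) (χ i₀) with hτ
  have h0 : τ i₀ = 0 := by simp [hτ]
  have hgen : ∀ i, IsGeneralizedCharacter G (τ i) := fun i => ⟨_, _, hind i, hind i₀, rfl⟩
  have hone : ∀ i, τ i 1 = 0 := by
    intro i
    simp only [hτ, Pi.sub_apply]
    rw [indFun_apply_one, indFun_apply_one, hdeg i i₀, sub_self]
  have hgram : ∀ i j, i ≠ i₀ → j ≠ i₀ → classInner (τ i) (τ j) = if i = j then 2 else 1 := by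
    intro i j hi hj
    have hτi : ∀ k, τ k = indFun (Subgroup.normalizer S) (χ k - χ i₀) := by
      intro k
      rw [indFun_sub]
    rw [hτi i, hτi j]
    rw [classInner_indFun_of_TI S hTI (χ i - χ i₀) (χ j - χ i₀)
      (Cfsg.Agent.CharLib.IsClassFunction.sub (hclχ i) (hclχ i₀))
      (fun x hx => by simp [hvan i x hx, hvan i₀ x hx])
      (fun x hx => by simp [hvan j x hx, hvan i₀ x hx])
      (by simp [hdeg j i₀])]
    rw [classInner_sub_sub_irr (hirr i) (hirr i₀) (hirr j) (hirr i₀)]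
    have e1 : (χ i = χ j) ↔ i = j := hinj.eq_iff
    have e2 : ¬ (χ i = χ i₀) := fun h => hi (hinj h)
    have e3 : ¬ (χ i₀ = χ j) := fun h => hj (hinj h).symm
    rw [if_neg e2, if_neg e3, if_pos rfl]
    by_cases hij : i = j
    · rw [if_pos hij, if_pos (e1.mpr hij)]; norm_num
    · rw [if_neg hij, if_neg (fun h => hij (e1.mp h))]; norm_num
  obtain ⟨ε, hε, μ, hμirr, hμinj, hμ⟩ := Cfsg.Agent.S0198.result n i₀ τ h0 hgen hone hgram
  refine ⟨ε, hε, μ, hμirr, hμinj, ?_⟩
  intro i j
  have hi := hμ i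
  have hj := hμ j
  simp only [hτ] at hi hj
  have : indFun (Subgroup.normalizer S) (χ i) - indFun (Subgroup.normalizer S) (χ j)
      = (indFun (Subgroup.normalizer S) (χ i) - indFun (Subgroup.normalizer S) (χ i₀))
        - (indFun (Subgroup.normalizer S) (χ j) - indFun (Subgroup.normalizer S) (χ i₀)) := by
    abel
  rw [this, hi, hj, ← smul_sub]
  congr 1
  abel

end Cfsg.Agent.S0170
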