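import Cfsg.Statements.S0878
import Mathlib
import Cfsg.Agent.Lib.Helper5.Zassenhaus

set_option autoImplicit false
open Cfsg

namespace Cfsg.Agent.S0878

section Aux

open MulAction SubMulAction Cfsg.Agent.Lib.Helper5 Cfsg.Agent.Lib.Helper5.Zass

theorem main {G Ω : Type*} [Group G] [Finite G] [MulAction G Ω] [Fintype Ω] (hZ : Cfsg.IsZassenhausGroup G Ω) (a : Ω) (H : Subgroup G) (hHa : H ≤ MulAction.stabilizer G a) (hHcard : Nat.card H + 1 = Fintype.card Ω) (hHfix : ∀ u ∈ H, u ≠ 1 → ∀ c : Ω, u • c = c → c = a) : (∀ g : G, g ∉ MulAction.stabilizer G a → ∀ u ∈ H, g * u * g⁻¹ ∈ H → u = 1) ∧ Subgroup.normalizer (H : Set G) = MulAction.stabilizer G a := by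
  have hZ' := hZ
  obtain ⟨hfaith, h2, h3, h4, h5⟩ := hZ
  -- Part 1
  have part1 : ∀ g : G, g ∉ MulAction.stabilizer G a → ∀ u ∈ H, g * u * g⁻¹ ∈ H → u = 1 := by
    intro g hg u hu hgu
    by_contra hu1
    have hne : g * u * g⁻¹ ≠ 1 := by
      intro h
      apply hu1
      have : u = g⁻¹ * (g * u * g⁻¹) * g := by group
      rw [this, h]; group
    have hfix : (g * u * g⁻¹) • (g • a) = g • a := by
      rw [mul_smul, mul_smul, inv_smul_smul, (MulAction.mem_stabilizer_iff.mp (hHa hu))]
    exact hg (MulAction.mem_stabilizer_iff.mpr (hHfix _ hgu hne _ hfix))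
  refine ⟨part1, ?_⟩
  -- H is nontrivial
  obtain ⟨x₁, x₂, x₃, h12, h13, h23⟩ := zass_three hZ'
  have hcard3 : 3 ≤ Fintype.card Ω := by
    have := Fintype.two_lt_card_iff.mpr ⟨x₁, x₂, x₃, h12, h13, h23⟩
    omega
  have hHnt : ∃ u ∈ H, u ≠ 1 := by
    by_contra hcon
    push Not at hcon
    have : H = ⊥ := (Subgroup.eq_bot_iff_forall _).mpr hcon
    rw [this, Subgroup.card_bot] at hHcard
    omega
  -- characterisation of H
  have hHP : ∀ u ∈ H, PK a u := by
    intro u hu
    refine ⟨MulAction.mem_stabilizer_iff.mp (hHa hu), ?_⟩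
    by_cases h1 : u = 1
    · exact Or.inl h1
    · exact Or.inr (hHfix u hu h1)
  have htrans := zass_stab_trans hZ' a
  have hne : Nonempty (ofStabilizer G a) := by
    have hx : x₁ ≠ a ∨ x₂ ≠ a := by
      by_contra hcon
      push Not at hcon
      exact h12 (hcon.1.trans hcon.2.symm)
    rcases hx with hx | hx
    · exact ⟨⟨x₁, hx⟩⟩
    · exact ⟨⟨x₂, hx⟩⟩
  have hK1 : ∀ k : stabilizer G a, k ≠ 1 → ∀ x y : ofStabilizer G a, k • x = x → k • y = y →
      x = y := by
    intro k hk x y hx hy
    by_contra hxy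
    apply hk
    apply Subtype.ext
    have hx' : (k : G) • (x : Ω) = x := congrArg Subtype.val hx
    have hy' : (k : G) • (y : Ω) = y := congrArg Subtype.val hy
    exact h3 k.1 a x.1 y.1 (Ne.symm x.2) (fun h => hxy (Subtype.ext h)) (Ne.symm y.2)
      (MulAction.mem_stabilizer_iff.mp k.2) hx' hy'
  have hcount := frobenius_kernel_count (K := stabilizer G a) (X := ofStabilizer G a) hK1
  have hXcard : Nat.card (ofStabilizer G a) = Fintype.card Ω - 1 := by
    rw [nat_card_ofStabilizer_eq, Nat.card_eq_fintype_card]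
  have hPset : {u : G | PK a u} = Subtype.val ''
      {k : stabilizer G a | k = 1 ∨ ∀ x : ofStabilizer G a, k • x ≠ x} := by
    ext u
    constructor
    · rintro ⟨hua, hu⟩
      refine ⟨⟨u, hua⟩, ?_, rfl⟩
      rcases hu with hu | hu
      · exact Or.inl (Subtype.ext hu)
      · refine Or.inr fun x hx => x.2 (hu x.1 (congrArg Subtype.val hx))
    · rintro ⟨k, hk, rfl⟩
      refine ⟨MulAction.mem_stabilizer_iff.mp k.2, ?_⟩
      rcases hk with hk | hk
      · exact Or.inl (congrArg Subtype.val hk)
      · refine Or.inr fun c hc => ?_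
        by_contra hca
        exact hk ⟨c, hca⟩ (Subtype.ext hc)
  have hPcard : {u : G | PK a u}.ncard = Fintype.card Ω - 1 := by
    rw [hPset, Set.ncard_image_of_injective _ Subtype.val_injective, hcount, hXcard]
  have hHeq : (H : Set G) = {u : G | PK a u} := by
    have hsub : (H : Set G) ⊆ {u : G | PK a u} := fun u hu => hHP u hu
    have hHn : (H : Set G).ncard = Nat.card H := by
      rw [← Nat.card_coe_set_eq]; rfl
    have hle : {u : G | PK a u}.ncard ≤ (H : Set G).ncard := by
      rw [hPcard, hHn]; omega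
    exact Set.eq_of_subset_of_ncard_le hsub hle (Set.toFinite _)
  have hPconj : ∀ g : G, g • a = a → ∀ u, PK a u → PK a (g * u * g⁻¹) := by
    intro g hg u ⟨hua, hu⟩
    have hg' : g⁻¹ • a = a := by rw [inv_smul_eq_iff, hg]
    refine ⟨by rw [mul_smul, mul_smul, hg', hua, hg], ?_⟩
    rcases hu with hu | hu
    · left; rw [hu]; group
    · right
      intro c hc
      have : u • (g⁻¹ • c) = g⁻¹ • c := by
        have := congrArg (fun z => g⁻¹ • z) hc
        simpa [mul_smul] using this
      have := hu _ this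
      rw [inv_smul_eq_iff, hg] at this
      exact this
  apply le_antisymm
  · intro g hg
    by_contra hga
    obtain ⟨u, hu, hu1⟩ := hHnt
    have := (Subgroup.mem_normalizer_iff.mp hg u).mp hu
    exact hu1 (part1 g hga u hu this)
  · intro g hg
    have hga := MulAction.mem_stabilizer_iff.mp hg
    rw [Subgroup.mem_normalizer_iff]
    intro u
    constructor
    · intro hu
      have : g * u * g⁻¹ ∈ (H : Set G) := by
        rw [hHeq]; exact hPconj g hga u (hHP u hu)
      exact this
    · intro hu
      have h1 : PK a (g * u * g⁻¹) := hHP _ hu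
      have hg' : g⁻¹ • a = a := by rw [inv_smul_eq_iff, hga]
      have h2 := hPconj g⁻¹ hg' _ h1
      have h3 : g⁻¹ * (g * u * g⁻¹) * g⁻¹⁻¹ = u := by group
      rw [h3] at h2
      have : u ∈ (H : Set G) := by rw [hHeq]; exact h2
      exact this

end Aux

/-- Let G be a Zassenhaus group on the finite set Ω, a a point, and let H be the subgroup of the stabilizer of a consisting of the identity and the elements fixing no point other than a (given here as a subgroup of the stabilizer of order one less than the number of points whose non-identity elements fix only a; it is the Frobenius kernel of the stabilizer). Then an element outside the stabilizer of a conjugates no non-identity element of H into H, and the normalizer of H is exactly the stabilizer of a. -/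
theorem result {G Ω : Type*} [Group G] [Finite G] [MulAction G Ω] [Fintype Ω] (hZ : Cfsg.IsZassenhausGroup G Ω) (a : Ω) (H : Subgroup G) (hHa : H ≤ MulAction.stabilizer G a) (hHcard : Nat.card H + 1 = Fintype.card Ω) (hHfix : ∀ u ∈ H, u ≠ 1 → ∀ c : Ω, u • c = c → c = a) : (∀ g : G, g ∉ MulAction.stabilizer G a → ∀ u ∈ H, g * u * g⁻¹ ∈ H → u = 1) ∧ Subgroup.normalizer (H : Set G) = MulAction.stabilizer G a := by
  exact main hZ a H hHa hHcard hHfix

end Cfsg.Agent.S0878
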