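import Cfsg.Statements.S1528
import Cfsg.Agent.Lib.Helper6.CliffordCorr
import Cfsg.Agent.Lib.Lead.CharMore
import Cfsg.Agent.Lib.Helper24.PerfectLemmas

set_option autoImplicit false
open Cfsg

namespace Cfsg.Agent.S1528

open Cfsg Cfsg.Agent.CharLib Cfsg.Agent.Lib.Helper6 Cfsg.Agent.Lib.Helper24

universe u

theorem result' {G : Type u} [Group G] [Fintype G] (N : Subgroup G) [hNn : N.Normal] (hC : ∀ n ∈ N, n ≠ 1 → Subgroup.centralizer ({n} : Set G) ≤ N) (χ : G → ℂ) (hχ : Cfsg.IsIrrCharacter G χ) (hker : ∃ n ∈ N, χ n ≠ χ 1) : ∃ φ : N → ℂ, Cfsg.IsIrrCharacter N φ ∧ χ = Cfsg.indFun N φ := by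
  classical
  let _ : Fintype ↥N := Fintype.ofFinite _
  let _ := fintypeIrr ↥N
  have hχc : IsCharacter G χ := IsIrrCharacter.isCharacter hχ
  -- a nontrivial constituent
  obtain ⟨m, hm, hcoef⟩ := IsCharacter.exists_decomp_sum (isCharacter_resFun N hχc)
  have hex : ∃ ψ : IrrCharacter ↥N, m ψ ≠ 0 ∧ ψ ≠ trivIrr ↥N := by
    by_contra hcon
    push Not at hcon
    obtain ⟨n, hn, hne⟩ := hker
    apply hne
    have hval : ∀ x : ↥N, resFun N χ x = (m (trivIrr ↥N) : ℂ) := by
      intro x
      rw [hm, Finset.sum_apply, Finset.sum_eq_single (trivIrr ↥N)]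
      · rw [Pi.smul_apply]
        change m (trivIrr ↥N) • (1 : ℂ) = _
        simp
      · intro ψ _ hψ
        have : m ψ = 0 := by
          by_contra h0
          exact hψ (hcon ψ h0)
        rw [this, zero_smul]
        rfl
      · intro h; exact absurd (Finset.mem_univ _) h
    have h1 := hval ⟨n, hn⟩
    have h2 := hval 1
    rw [resFun_apply] at h1 h2
    exact h1.trans h2.symm
  obtain ⟨φ, hmφ, hφne⟩ := hex
  have he : classInner (resFun N χ) (φ : ↥N → ℂ) ≠ 0 := by
    rw [hcoef φ]; exact Nat.cast_ne_zero.mpr hmφ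
  -- inertia group is N
  have hφcls : IsClassFunction ↥N (φ : ↥N → ℂ) :=
    IsCharacter.isClassFunction (IsIrrCharacter.isCharacter φ.2)
  have hT : ∀ g : G, g ∈ N ↔ Cfsg.Agent.Lib.Helper6.conjFun N g (φ : ↥N → ℂ) = (φ : ↥N → ℂ) := by
    intro g
    constructor
    · intro hg; exact Cfsg.Agent.Lib.Helper6.conjFun_of_mem N hφcls hg
    · intro hfix
      by_contra hgN
      let α : ↥N ≃* ↥N := MulAut.conjNormal g
      have hα : ∀ x : ↥N, ((α x : ↥N) : G) = g * x * g⁻¹ := fun x => MulAut.conjNormal_apply g x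
      have hφα : (φ : ↥N → ℂ) ∘ α = (φ : ↥N → ℂ) := by
        funext x
        have := congrFun hfix x
        rw [Cfsg.Agent.Lib.Helper6.conjFun_apply] at this
        rw [Function.comp_apply, ← this]
        congr 1
      have htα : ((trivIrr ↥N : IrrCharacter ↥N) : ↥N → ℂ) ∘ α = ((trivIrr ↥N : IrrCharacter ↥N) : ↥N → ℂ) := rfl
      have hcard := card_fixed_classes_eq_card_fixed_irr α
      have h2 : 1 < Nat.card {ψ : IrrCharacter ↥N // (ψ : ↥N → ℂ) ∘ α = (ψ : ↥N → ℂ)} := by
        rw [Finite.one_lt_card_iff_nontrivial]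
        exact ⟨⟨φ, hφα⟩, ⟨trivIrr ↥N, htα⟩, fun h => hφne (congrArg Subtype.val h)⟩
      rw [← hcard, Finite.one_lt_card_iff_nontrivial] at h2
      have h1fix : ConjClasses.map α.toMonoidHom (ConjClasses.mk (1 : ↥N)) = ConjClasses.mk 1 := by
        show ConjClasses.mk (α.toMonoidHom 1) = ConjClasses.mk 1
        rw [map_one]
      obtain ⟨⟨C, hCfix⟩, hCne⟩ := exists_ne (⟨ConjClasses.mk (1 : ↥N), h1fix⟩ :
        {C : ConjClasses ↥N // ConjClasses.map α.toMonoidHom C = C})
      obtain ⟨n, rfl⟩ := ConjClasses.mk_surjective C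
      have hn1 : n ≠ 1 := by
        intro h
        apply hCne
        apply Subtype.ext
        simp [h]
      have hconj : IsConj (α n) n := by
        have h5 : ConjClasses.mk (α.toMonoidHom n) = ConjClasses.mk n := hCfix
        exact ConjClasses.mk_eq_mk_iff_isConj.mp h5
      obtain ⟨k, hk⟩ := isConj_iff.mp hconj
      -- k * α n * k⁻¹ = n in N
      have hk' : (k : G) * (g * n * g⁻¹) * (k : G)⁻¹ = n := by
        have := congrArg (Subtype.val : ↥N → G) hk
        simpa [hα] using this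
      have hmem : (k : G) * g ∈ Subgroup.centralizer ({(n : G)} : Set G) := by
        rw [Subgroup.mem_centralizer_singleton_iff]
        calc (k : G) * g * n = ((k : G) * (g * n * g⁻¹) * (k : G)⁻¹) * ((k : G) * g) := by group
          _ = n * ((k : G) * g) := by rw [hk']
      have hn1' : (n : G) ≠ 1 := fun h => hn1 (Subtype.ext h)
      have h3 := hC n n.2 hn1' hmem
      have : g = (k : G)⁻¹ * ((k : G) * g) := by group
      rw [this] at hgN
      exact hgN (N.mul_mem (N.inv_mem k.2) h3)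
  obtain ⟨ψ, hψ, hind, _⟩ := exists_indFun_inertia_eq (le_refl N) φ.2 hT hχ he
  exact ⟨ψ, hψ, hind.symm⟩

/-- Let N be a normal subgroup of the finite group G such that every element of G commuting with a non-identity element of N lies in N. If χ is an irreducible character of G with χ n ≠ χ 1 for some n ∈ N, then χ is the function induced from some irreducible character of N. -/
theorem result {G : Type*} [Group G] [Fintype G] (N : Subgroup G) [N.Normal] (hC : ∀ n ∈ N, n ≠ 1 → Subgroup.centralizer ({n} : Set G) ≤ N) (χ : G → ℂ) (hχ : Cfsg.IsIrrCharacter G χ) (hker : ∃ n ∈ N, χ n ≠ χ 1) : ∃ φ : N → ℂ, Cfsg.IsIrrCharacter N φ ∧ χ = Cfsg.indFun N φ := by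
  exact result' N hC χ hχ hker

end Cfsg.Agent.S1528
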