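import Cfsg.Statements.S1529
import Cfsg.Agent.Lib.Helper10.GenChar

set_option autoImplicit false
open Cfsg

namespace Cfsg.Agent.S1529

open Cfsg.Agent.Lib.Helper10


/-- Let N be a subgroup of the finite group G, S a set of irreducible characters of N with at least two members, and τ₁ a linear isometry on the integer combinations of S with virtual-character values such that τ₁ α vanishes at 1 whenever α ∈ ℤ[S] does. Then there is ε ∈ {1, −1} such that ε • τ₁ χ is an irreducible character of G for every χ ∈ S, and distinct members of S give distinct characters. -/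
theorem result {G : Type*} [Group G] [Fintype G] (N : Subgroup G) [Fintype N] (S : Set (N → ℂ)) (hirr : ∀ χ ∈ S, Cfsg.IsIrrCharacter N χ) (htwo : ∃ χ ∈ S, ∃ ψ ∈ S, χ ≠ ψ) (τ₁ : (N → ℂ) → (G → ℂ)) (hτ₁ : Cfsg.IsLinearIsometryOn (Cfsg.zspan S) τ₁) (h0 : ∀ α ∈ Cfsg.zspan S, α 1 = 0 → τ₁ α 1 = 0) : ∃ ε : ℂ, (ε = 1 ∨ ε = -1) ∧ (∀ χ ∈ S, Cfsg.IsIrrCharacter G (ε • τ₁ χ)) ∧ (∀ χ ∈ S, ∀ ψ ∈ S, τ₁ χ = τ₁ ψ → χ = ψ) := by
  classical
  obtain ⟨hadd, hsmul, hiso, hgen⟩ := hτ₁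
  have hmem : ∀ χ ∈ S, χ ∈ zspan S := fun χ hχ => Submodule.subset_span hχ
  have hnorm : ∀ χ ∈ S, classInner (τ₁ χ) (τ₁ χ) = 1 := by
    intro χ hχ
    rw [hiso χ (hmem χ hχ) χ (hmem χ hχ)]
    have := Cfsg.Agent.CharLib.classInner_irr (hirr χ hχ) (hirr χ hχ)
    simpa using this
  have hpm : ∀ χ ∈ S, ∃ ε : ℂ, (ε = 1 ∨ ε = -1) ∧ IsIrrCharacter G (ε • τ₁ χ) :=
    fun χ hχ => genChar_norm_one (hgen χ (hmem χ hχ)) (hnorm χ hχ)
  obtain ⟨χ₀, hχ₀, -⟩ := htwo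
  obtain ⟨ε, hε, hε₀⟩ := hpm χ₀ hχ₀
  refine ⟨ε, hε, ?_, ?_⟩
  · intro χ hχ
    obtain ⟨ε', hε', hirr'⟩ := hpm χ hχ
    suffices hs : ε' = ε by rw [← hs]; exact hirr'
    obtain ⟨n, hnpos, hn⟩ := Cfsg.Agent.CharLib.IsIrrCharacter.apply_one_pos (hirr χ hχ)
    obtain ⟨m, hmpos, hm⟩ := Cfsg.Agent.CharLib.IsIrrCharacter.apply_one_pos (hirr χ₀ hχ₀)
    obtain ⟨k, hkpos, hk⟩ := Cfsg.Agent.CharLib.IsIrrCharacter.apply_one_pos hirr'
    obtain ⟨l, hlpos, hl⟩ := Cfsg.Agent.CharLib.IsIrrCharacter.apply_one_pos hε₀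
    have hα : ((m : ℤ) • χ + (-(n : ℤ)) • χ₀) ∈ zspan S :=
      Submodule.add_mem _ (Submodule.smul_mem _ _ (hmem χ hχ)) (Submodule.smul_mem _ _ (hmem χ₀ hχ₀))
    have hα1 : ((m : ℤ) • χ + (-(n : ℤ)) • χ₀) 1 = 0 := by
      simp only [Pi.add_apply, Pi.smul_apply]
      simp only [hn, hm, zsmul_eq_mul, Int.cast_natCast, Int.cast_neg]
      ring
    have h := h0 _ hα hα1
    rw [hadd _ (Submodule.smul_mem _ _ (hmem χ hχ)) _ (Submodule.smul_mem _ _ (hmem χ₀ hχ₀)),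
      hsmul χ (hmem χ hχ), hsmul χ₀ (hmem χ₀ hχ₀)] at h
    simp only [Pi.add_apply, Pi.smul_apply] at h
    simp only [zsmul_eq_mul, Int.cast_natCast, Int.cast_neg] at h
    simp only [Pi.smul_apply, smul_eq_mul] at hk hl
    have hmk := Nat.mul_pos hmpos hkpos
    have hnl := Nat.mul_pos hnpos hlpos
    rcases hε with rfl | rfl <;> rcases hε' with rfl | rfl
    · rfl
    · exfalso
      have hc : ((m * k + n * l : ℕ) : ℂ) = 0 := by
        push_cast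
        linear_combination (-1 : ℂ) * h - (m : ℂ) * hk - (n : ℂ) * hl
      have := Nat.cast_eq_zero.mp hc
      omega
    · exfalso
      have hc : ((m * k + n * l : ℕ) : ℂ) = 0 := by
        push_cast
        linear_combination h - (m : ℂ) * hk - (n : ℂ) * hl
      have := Nat.cast_eq_zero.mp hc
      omega
    · rfl
  · intro χ hχ ψ hψ heq
    by_contra hne
    have h1 := hiso χ (hmem χ hχ) ψ (hmem ψ hψ)
    rw [← heq, hnorm χ hχ] at h1
    have h2 := Cfsg.Agent.CharLib.classInner_irr (hirr χ hχ) (hirr ψ hψ)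
    rw [if_neg hne] at h2
    rw [h2] at h1
    exact one_ne_zero h1

end Cfsg.Agent.S1529
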