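import Cfsg.Statements.S0881
import Cfsg.Agent.Lib.Helper5.ZassOdd3
import Cfsg.Agent.Lib.Helper5.IndIrr

set_option autoImplicit false
open Cfsg

namespace Cfsg.Agent.S0881

/-- Let G be a finite simple Zassenhaus group on Ω with n points, a ≠ b points with two-point stabilizer E of odd order less than n - 2, and let H be the subgroup of the stabilizer of a consisting of the identity and the elements fixing no point other than a (given here as a subgroup of the stabilizer of order one less than the number of points whose non-identity elements fix only a; it is the Frobenius kernel of the stabilizer). Let μ be a character of degree 1 of the stabilizer of a that is identically 1 on H but not identically 1. Then the function induced from μ to G is an irreducible character of G, and it takes the value 1 at every non-identity element of H. -/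
theorem result {G Ω : Type*} [Group G] [Fintype G] [MulAction G Ω] [Fintype Ω] (hZ : Cfsg.IsZassenhausGroup G Ω) {a b : Ω} (hab : a ≠ b) [IsSimpleGroup G] (hodd : Odd (Nat.card ↥(MulAction.stabilizer G a ⊓ MulAction.stabilizer G b : Subgroup G))) (hlt : Nat.card ↥(MulAction.stabilizer G a ⊓ MulAction.stabilizer G b : Subgroup G) < Fintype.card Ω - 2) (H : Subgroup G) (hHa : H ≤ MulAction.stabilizer G a) (hHcard : Nat.card H + 1 = Fintype.card Ω) (hHfix : ∀ u ∈ H, u ≠ 1 → ∀ c : Ω, u • c = c → c = a) (μ : MulAction.stabilizer G a → ℂ) (hμ : Cfsg.IsCharacter (MulAction.stabilizer G a) μ ∧ μ 1 = 1) (hμH : ∀ u : MulAction.stabilizer G a, (u : G) ∈ H → μ u = 1) (hμne : μ ≠ fun _ => 1) : Cfsg.IsIrrCharacter G (Cfsg.indFun (MulAction.stabilizer G a) μ) ∧ ∀ u ∈ H, u ≠ 1 → Cfsg.indFun (MulAction.stabilizer G a) μ u = 1 := by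
  classical
  haveI : Fintype ↥(MulAction.stabilizer G a) := Fintype.ofFinite _
  have hnil := Cfsg.Agent.Lib.Helper5.ZassOdd.no_normal_complement_of_simple hZ hab
  obtain ⟨τ, hττ, hτa, hτb⟩ := Cfsg.Agent.Lib.Helper5.ZassOdd.exists_swap_involution hZ hab hodd
  have hinv := Cfsg.Agent.Lib.Helper5.ZassOdd.zass_inverts hZ hab hodd hnil τ hττ hτa hτb
  have h1 := Cfsg.Agent.Lib.Helper5.IndIrr.two_trans_ind_norm hab
    (fun c d c' d' h1 h2 => MulAction.is_two_pretransitive_iff.mp hZ.2.1 h1 h2)
    (MulAction.stabilizer G a) (MulAction.stabilizer G a ⊓ MulAction.stabilizer G b)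
    (fun x => MulAction.mem_stabilizer_iff)
    (fun x => by rw [Subgroup.mem_inf, MulAction.mem_stabilizer_iff, MulAction.mem_stabilizer_iff])
    hodd τ hττ hτa hτb hinv H hHa hHcard hHfix μ hμ.1 hμ.2 hμH hμne
  refine ⟨Cfsg.Agent.Lib.Helper6.isIrrCharacter_of_classInner_self_eq_one
    (Cfsg.Agent.CharLib.IsCharacter.indFun _ hμ.1) h1, ?_⟩
  intro u hu hu1
  exact Cfsg.Agent.Lib.Helper5.IndIrr.indFun_eq_one_of_fix (a := a) (MulAction.stabilizer G a)
    (fun x => MulAction.mem_stabilizer_iff) μ
    (Cfsg.Agent.CharLib.IsCharacter.isClassFunction hμ.1) u (hHa hu) (hHfix u hu hu1)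
    (hμH ⟨u, hHa hu⟩ hu)

end Cfsg.Agent.S0881
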