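import Cfsg.Statements.S0882
import Cfsg.Agent.Lib.Helper5.ZassOdd3

set_option autoImplicit false
open Cfsg

namespace Cfsg.Agent.S0882

/-- Let G be a finite simple Zassenhaus group on Ω with n = h + 1 points whose two-point stabilizer E has odd order e with 2e < h - 1. Then any two involutions of G are conjugate, and the number of involutions is e * (h + 1) if h is even and e * h if h is odd. -/
theorem result {G Ω : Type*} [Group G] [Finite G] [MulAction G Ω] [Fintype Ω] (hZ : Cfsg.IsZassenhausGroup G Ω) {a b : Ω} (hab : a ≠ b) [IsSimpleGroup G] (h e : ℕ) (hh : Fintype.card Ω = h + 1) (he : Nat.card ↥(MulAction.stabilizer G a ⊓ MulAction.stabilizer G b : Subgroup G) = e) (hodd : Odd e) (hlt : 2 * e < h - 1) : (∀ x y : G, orderOf x = 2 → orderOf y = 2 → IsConj x y) ∧ Nat.card {x : G // orderOf x = 2} = (if Even h then e * (h + 1) else e * h) := by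
  classical
  haveI : Fintype G := Fintype.ofFinite G
  have hodd' : Odd (Nat.card ↥(MulAction.stabilizer G a ⊓ MulAction.stabilizer G b : Subgroup G)) := by
    rw [he]; exact hodd
  have hnil := Cfsg.Agent.Lib.Helper5.ZassOdd.no_normal_complement_of_simple hZ hab
  obtain ⟨τ, hττ, hτa, hτb⟩ := Cfsg.Agent.Lib.Helper5.ZassOdd.exists_swap_involution hZ hab hodd'
  have hinv := Cfsg.Agent.Lib.Helper5.ZassOdd.zass_inverts hZ hab hodd' hnil τ hττ hτa hτb
  have hτinv : τ⁻¹ = τ := inv_eq_of_mul_eq_one_left hττ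
  obtain ⟨E, hE⟩ : ∃ E : Subgroup G, E = MulAction.stabilizer G a ⊓ MulAction.stabilizer G b :=
    ⟨_, rfl⟩
  rw [← hE] at he hodd' hinv
  have hEmem : ∀ x, x ∈ E ↔ x • a = a ∧ x • b = b := by
    intro x
    rw [hE, Subgroup.mem_inf, MulAction.mem_stabilizer_iff, MulAction.mem_stabilizer_iff]
  have h2t : ∀ {c d c' d' : Ω}, c ≠ d → c' ≠ d' → ∃ g : G, g • c = c' ∧ g • d = d' :=
    MulAction.is_two_pretransitive_iff.mp hZ.2.1
  have hinvol : ∀ u : G, orderOf u = 2 → u ≠ 1 ∧ u * u = 1 := by
    intro u hu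
    constructor
    · intro h1
      rw [h1, orderOf_one] at hu
      omega
    · rw [← pow_two, ← hu, pow_orderOf_eq_one]
  haveI : Fact (Nat.Prime 2) := ⟨Nat.prime_two⟩
  have horder2 : ∀ u : G, u ≠ 1 → u * u = 1 → orderOf u = 2 := by
    intro u hu1 huu
    exact orderOf_eq_prime (by rw [pow_two]; exact huu) hu1
  have horderconj : ∀ g u : G, orderOf (g * u * g⁻¹) = orderOf u := by
    intro g u
    have := orderOf_injective (MulAut.conj g).toMonoidHom (MulEquiv.injective _) u
    simpa [MulAut.conj_apply] using this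
  have hτx : ∀ x ∈ E, (τ * x) * (τ * x) = 1 := by
    intro x hx
    have h1 := hinv x hx
    rw [hτinv] at h1
    calc τ * x * (τ * x) = (τ * x * τ) * x := by group
      _ = 1 := by rw [h1, inv_mul_cancel]
  have hconjτ : ∀ u : G, u * u = 1 → u • a = b → IsConj τ u := by
    intro u huu hua
    have hub : u • b = a := by rw [← hua, smul_smul, huu, one_smul]
    obtain ⟨x, hxdef⟩ : ∃ x : G, x = τ * u := ⟨_, rfl⟩
    have hxE : x ∈ E := by
      rw [hxdef]
      exact (hEmem _).mpr ⟨by rw [mul_smul, hua, hτb], by rw [mul_smul, hub, hτa]⟩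
    obtain ⟨k, hk⟩ := hodd'
    have hxpow : x ^ (2 * k + 1) = 1 := by
      have h1 : (⟨x, hxE⟩ : ↥E) ^ Nat.card ↥E = 1 := pow_card_eq_one'
      rw [hk] at h1
      exact congrArg Subtype.val h1
    obtain ⟨y, hydef⟩ : ∃ y : G, y = x ^ k := ⟨_, rfl⟩
    have hyE : y ∈ E := by rw [hydef]; exact E.pow_mem hxE k
    have hi := hinv y hyE
    rw [hτinv] at hi
    have hii : y * y * x = 1 := by
      rw [hydef, ← pow_add, ← pow_succ, show k + k + 1 = 2 * k + 1 by ring, hxpow]
    have e1 : y * τ = τ * y⁻¹ := by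
      calc y * τ = (τ * τ) * y * τ := by rw [hττ, one_mul]
        _ = τ * (τ * y * τ) := by group
        _ = τ * y⁻¹ := by rw [hi]
    have e2 : y⁻¹ * y⁻¹ = x := by
      calc y⁻¹ * y⁻¹ = y⁻¹ * y⁻¹ * (y * y * x) := by rw [hii, mul_one]
        _ = x := by group
    rw [isConj_iff]
    refine ⟨y, ?_⟩
    calc y * τ * y⁻¹ = τ * y⁻¹ * y⁻¹ := by rw [e1]
      _ = τ * (y⁻¹ * y⁻¹) := by group
      _ = τ * x := by rw [e2]
      _ = u := by rw [hxdef, ← mul_assoc, hττ, one_mul]
  have hall : ∀ u : G, orderOf u = 2 → IsConj τ u := by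
    intro u hu
    obtain ⟨hu1, huu⟩ := hinvol u hu
    obtain ⟨c, hc⟩ : ∃ c : Ω, u • c ≠ c := by
      by_contra hcon
      push Not at hcon
      apply hu1
      apply hZ.1.eq_of_smul_eq_smul
      intro c
      rw [hcon c, one_smul]
    obtain ⟨g, hga, hgb⟩ := h2t (Ne.symm hc) hab
    have h1 : IsConj τ (g * u * g⁻¹) := by
      apply hconjτ
      · calc g * u * g⁻¹ * (g * u * g⁻¹) = g * (u * u) * g⁻¹ := by group
          _ = 1 := by rw [huu]; group
      · rw [mul_smul, mul_smul, inv_smul_eq_iff.mpr hga.symm, hgb]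
    have h2 : IsConj u (g * u * g⁻¹) := isConj_iff.mpr ⟨g, rfl⟩
    exact h1.trans h2.symm
  refine ⟨fun x y hx hy => (hall x hx).symm.trans (hall y hy), ?_⟩
  -- counting
  obtain ⟨I, hI⟩ : ∃ I : Finset G, I = Finset.univ.filter (fun u : G => orderOf u = 2) := ⟨_, rfl⟩
  have hImem : ∀ u, u ∈ I ↔ orderOf u = 2 := by
    intro u; rw [hI]; simp
  have hcardI : Nat.card {x : G // orderOf x = 2} = I.card := by
    rw [Nat.card_eq_fintype_card, Fintype.card_subtype, hI]
  obtain ⟨N, hN⟩ : ∃ N : ℕ, N = Fintype.card Ω := ⟨_, rfl⟩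
  have hC0 : (I.filter (fun u => u • a = b)).card = e := by
    have h1 : I.filter (fun u => u • a = b) =
        (Finset.univ : Finset ↥E).image (fun x : ↥E => τ * (x : G)) := by
      ext u
      rw [Finset.mem_filter, hImem, Finset.mem_image]
      constructor
      · rintro ⟨hu, hua⟩
        obtain ⟨hu1, huu⟩ := hinvol u hu
        have hub : u • b = a := by rw [← hua, smul_smul, huu, one_smul]
        refine ⟨⟨τ * u, (hEmem _).mpr ⟨by rw [mul_smul, hua, hτb], by rw [mul_smul, hub, hτa]⟩⟩,
          Finset.mem_univ _, ?_⟩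
        change τ * (τ * u) = u
        rw [← mul_assoc, hττ, one_mul]
      · rintro ⟨x, -, rfl⟩
        have hxa := ((hEmem _).mp x.2).1
        have h2 : (τ * (x : G)) • a = b := by rw [mul_smul, hxa, hτa]
        refine ⟨horder2 _ ?_ (hτx x x.2), h2⟩
        intro h3
        rw [h3, one_smul] at h2
        exact hab h2
    rw [h1, Finset.card_image_of_injective _ (fun x y hxy => Subtype.ext (mul_left_cancel hxy)),
      Finset.card_univ, ← Nat.card_eq_fintype_card, he]
  have hC : ∀ c c' : Ω, c ≠ c' → (I.filter (fun u => u • c = c')).card = e := by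
    intro c c' hcc
    obtain ⟨g, hga, hgb⟩ := h2t hcc hab
    rw [← hC0]
    apply Finset.card_bij (fun u _ => g * u * g⁻¹)
    · intro u hu
      simp only [Finset.mem_filter, hImem] at hu ⊢
      refine ⟨by rw [horderconj]; exact hu.1, ?_⟩
      rw [mul_smul, mul_smul, inv_smul_eq_iff.mpr hga.symm, hu.2, hgb]
    · intro u _ v _ huv
      have := congrArg (fun z => g⁻¹ * z * g) huv
      simpa [mul_assoc] using this
    · intro v hv
      simp only [Finset.mem_filter, hImem] at hv
      refine ⟨g⁻¹ * v * g, ?_, by group⟩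
      simp only [Finset.mem_filter, hImem]
      refine ⟨?_, ?_⟩
      · have := horderconj g⁻¹ v
        rw [inv_inv] at this
        rw [this]; exact hv.1
      · rw [mul_smul, mul_smul, hga, hv.2, inv_smul_eq_iff.mpr hgb.symm]
  have hB : ∀ c : Ω, (I.filter (fun u => u • c ≠ c)).card = (N - 1) * e := by
    intro c
    rw [Finset.card_eq_sum_card_fiberwise (f := fun u : G => u • c) (t := Finset.univ.erase c)
      (by
        intro u hu
        simp only [Finset.coe_filter, Set.mem_setOf_eq] at hu
        simp only [Finset.coe_erase, Finset.coe_univ, Set.mem_diff, Set.mem_univ,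
          Set.mem_singleton_iff, true_and]
        exact hu.2)]
    rw [Finset.sum_congr rfl (g := fun _ => e) (by
      intro c' hc'
      have hc'c : c' ≠ c := Finset.ne_of_mem_erase hc'
      rw [Finset.filter_filter, ← hC c c' (Ne.symm hc'c)]
      congr 1
      apply Finset.filter_congr
      intro u _
      constructor
      · exact fun h => h.2
      · intro h
        exact ⟨by rw [h]; exact hc'c, h⟩)]
    rw [Finset.sum_const, Finset.card_erase_of_mem (Finset.mem_univ c), Finset.card_univ, ← hN,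
      smul_eq_mul]
  have hA : ∀ u ∈ I, (Finset.univ.filter (fun c : Ω => u • c ≠ c)).card = N - N % 2 := by
    intro u hu
    obtain ⟨hu1, huu⟩ := hinvol u ((hImem u).mp hu)
    have hev : Even (Finset.univ.filter (fun c : Ω => u • c ≠ c)).card := by
      apply Cfsg.Agent.S0677.even_card_of_involution _ (fun c => u • c)
      · intro c hc
        simp only [Finset.mem_filter, Finset.mem_univ, true_and] at hc ⊢
        rw [smul_smul, huu, one_smul]
        exact fun h => hc h.symm
      · intro c _
        rw [smul_smul, huu, one_smul]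
      · intro c hc
        simp only [Finset.mem_filter, Finset.mem_univ, true_and] at hc
        exact hc
    have hsum := Finset.card_filter_add_card_filter_not (s := (Finset.univ : Finset Ω))
      (fun c : Ω => u • c ≠ c)
    rw [Finset.card_univ, ← hN] at hsum
    have hfix : (Finset.univ.filter (fun c : Ω => ¬ u • c ≠ c)).card ≤ 1 := by
      by_contra hcon
      push Not at hcon
      obtain ⟨c, hc, d, hd, hcd⟩ := Finset.one_lt_card.mp hcon
      simp only [Finset.mem_filter, Finset.mem_univ, true_and, not_not] at hc hd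
      obtain ⟨g, hga, hgb⟩ := h2t hcd hab
      have hgE : g * u * g⁻¹ ∈ E := by
        rw [hEmem]
        constructor
        · rw [mul_smul, mul_smul, inv_smul_eq_iff.mpr hga.symm, hc, hga]
        · rw [mul_smul, mul_smul, inv_smul_eq_iff.mpr hgb.symm, hd, hgb]
      have h1 : orderOf (g * u * g⁻¹) ∣ Nat.card ↥E := by
        have := orderOf_dvd_natCard (⟨g * u * g⁻¹, hgE⟩ : ↥E)
        rwa [Subgroup.orderOf_mk] at this
      rw [horderconj, (hImem u).mp hu, he] at h1
      exact (Nat.not_even_iff_odd.mpr hodd) (even_iff_two_dvd.mpr h1)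
    obtain ⟨t, ht⟩ := hev
    omega
  have hdc := Finset.sum_card_bipartiteAbove_eq_sum_card_bipartiteBelow (s := I)
    (t := (Finset.univ : Finset Ω)) (fun u c => u • c ≠ c)
  simp only [Finset.bipartiteAbove, Finset.bipartiteBelow] at hdc
  rw [Finset.sum_congr rfl hA, Finset.sum_congr rfl (fun c _ => hB c), Finset.sum_const,
    Finset.sum_const, Finset.card_univ, ← hN, smul_eq_mul, smul_eq_mul] at hdc
  -- arithmetic
  obtain ⟨a0, b0, c0, h01, h02, h12⟩ := Cfsg.Agent.Lib.Helper5.Zass.zass_three hZ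
  have hN3 : 3 ≤ Fintype.card Ω := Fintype.two_lt_card_iff.mpr ⟨a0, b0, c0, h01, h02, h12⟩
  rw [hcardI]
  rw [← hN] at hN3 hh
  by_cases hev : Even h
  · rw [if_pos hev]
    have hNodd : N % 2 = 1 := by
      obtain ⟨t, ht⟩ := hev
      omega
    rw [hNodd, hh, Nat.add_sub_cancel] at hdc
    have h1 : I.card * h = (e * (h + 1)) * h := by rw [hdc]; ring
    exact Nat.eq_of_mul_eq_mul_right (by omega) h1
  · rw [if_neg hev]
    have hNev : N % 2 = 0 := by
      rcases Nat.even_or_odd h with h1 | ⟨t, ht⟩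
      · exact absurd h1 hev
      · omega
    rw [hNev, Nat.sub_zero, hh, Nat.add_sub_cancel] at hdc
    have h1 : I.card * (h + 1) = (e * h) * (h + 1) := by rw [hdc]; ring
    exact Nat.eq_of_mul_eq_mul_right (by omega) h1

end Cfsg.Agent.S0882
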