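import Cfsg.Statements.S0883
import Cfsg.Agent.S0882
import Cfsg.Agent.Lib.Helper5.ZassKernel

set_option autoImplicit false
open Cfsg

namespace Cfsg.Agent.S0883

/-- Let G be a finite simple Zassenhaus group on Ω with h + 1 points whose two-point stabilizer E has odd order e with 2e < h - 1, and let H be the subgroup of the stabilizer of a consisting of the identity and the elements fixing no point other than a (given here as a subgroup of the stabilizer of order one less than the number of points whose non-identity elements fix only a; it is the Frobenius kernel of the stabilizer). If a non-identity element u of H is a product of two involutions of G, then u is an involution. -/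
theorem result {G Ω : Type*} [Group G] [Finite G] [MulAction G Ω] [Fintype Ω] (hZ : Cfsg.IsZassenhausGroup G Ω) {a b : Ω} (hab : a ≠ b) [IsSimpleGroup G] (h e : ℕ) (hh : Fintype.card Ω = h + 1) (he : Nat.card ↥(MulAction.stabilizer G a ⊓ MulAction.stabilizer G b : Subgroup G) = e) (hodd : Odd e) (hlt : 2 * e < h - 1) (H : Subgroup G) (hHa : H ≤ MulAction.stabilizer G a) (hHcard : Nat.card H + 1 = Fintype.card Ω) (hHfix : ∀ u ∈ H, u ≠ 1 → ∀ c : Ω, u • c = c → c = a) (u : G) (hu : u ∈ H) (hu1 : u ≠ 1) (x y : G) (hx : orderOf x = 2) (hy : orderOf y = 2) (hxy : x * y = u) : orderOf u = 2 := by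
  classical
  have h2t : ∀ {c d c' d' : Ω}, c ≠ d → c' ≠ d' → ∃ g : G, g • c = c' ∧ g • d = d' :=
    MulAction.is_two_pretransitive_iff.mp hZ.2.1
  have hinvol : ∀ t : G, orderOf t = 2 → t ≠ 1 ∧ t * t = 1 := by
    intro t ht
    constructor
    · intro h1
      rw [h1, orderOf_one] at ht
      omega
    · rw [← pow_two, ← ht, pow_orderOf_eq_one]
  have horderconj : ∀ g t : G, orderOf (g * t * g⁻¹) = orderOf t := by
    intro g t
    have := orderOf_injective (MulAut.conj g).toMonoidHom (MulEquiv.injective _) t
    simpa [MulAut.conj_apply] using this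
  obtain ⟨hx1, hxx⟩ := hinvol x hx
  obtain ⟨hy1, hyy⟩ := hinvol y hy
  have hHa' : ∀ v ∈ H, v • a = a := fun v hv => MulAction.mem_stabilizer_iff.mp (hHa hv)
  have hua : u • a = a := hHa' u hu
  have hxu : x * u = y := by rw [← hxy, ← mul_assoc, hxx, one_mul]
  have huy : u * y = x := by rw [← hxy, mul_assoc, hyy, mul_one]
  have hfixu : u • (x • a) = x • a := by
    calc u • (x • a) = u • (x • (u • a)) := by rw [hua]
      _ = (u * (x * u)) • a := by rw [mul_smul, mul_smul]
      _ = (u * y) • a := by rw [hxu]
      _ = x • a := by rw [huy]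
  have hxa : x • a = a := hHfix u hu hu1 _ hfixu
  have hya : y • a = a := by rw [← hxu, mul_smul, hua, hxa]
  have hfix1 : ∀ t : G, orderOf t = 2 → ∀ c d : Ω, t • c = c → t • d = d → c = d := by
    intro t ht c d hc hd
    by_contra hcd
    obtain ⟨g, hga, hgb⟩ := h2t hcd hab
    have hgE : g * t * g⁻¹ ∈ (MulAction.stabilizer G a ⊓ MulAction.stabilizer G b : Subgroup G) := by
      rw [Subgroup.mem_inf, MulAction.mem_stabilizer_iff, MulAction.mem_stabilizer_iff]
      constructor
      · rw [mul_smul, mul_smul, inv_smul_eq_iff.mpr hga.symm, hc, hga]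
      · rw [mul_smul, mul_smul, inv_smul_eq_iff.mpr hgb.symm, hd, hgb]
    have h1 : orderOf (g * t * g⁻¹) ∣
        Nat.card ↥(MulAction.stabilizer G a ⊓ MulAction.stabilizer G b : Subgroup G) := by
      have := orderOf_dvd_natCard
        (⟨g * t * g⁻¹, hgE⟩ : ↥(MulAction.stabilizer G a ⊓ MulAction.stabilizer G b : Subgroup G))
      rwa [Subgroup.orderOf_mk] at this
    rw [horderconj, ht, he] at h1
    exact (Nat.not_even_iff_odd.mpr hodd) (even_iff_two_dvd.mpr h1)
  have hev : Even h := by
    have hmoved : Even (Finset.univ.filter (fun c : Ω => x • c ≠ c)).card := by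
      apply Cfsg.Agent.S0677.even_card_of_involution _ (fun c => x • c)
      · intro c hc
        simp only [Finset.mem_filter, Finset.mem_univ, true_and] at hc ⊢
        rw [smul_smul, hxx, one_smul]
        exact fun h => hc h.symm
      · intro c _
        rw [smul_smul, hxx, one_smul]
      · intro c hc
        simp only [Finset.mem_filter, Finset.mem_univ, true_and] at hc
        exact hc
    have hsum := Finset.card_filter_add_card_filter_not (s := (Finset.univ : Finset Ω))
      (fun c : Ω => x • c ≠ c)
    rw [Finset.card_univ, hh] at hsum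
    have hfixc : (Finset.univ.filter (fun c : Ω => ¬ x • c ≠ c)).card = 1 := by
      rw [Finset.card_eq_one]
      refine ⟨a, ?_⟩
      ext c
      simp only [Finset.mem_filter, Finset.mem_univ, true_and, not_not, Finset.mem_singleton]
      constructor
      · intro hc; exact hfix1 x hx c a hc hxa
      · intro hc; rw [hc]; exact hxa
    rw [hfixc] at hsum
    have hm : (Finset.univ.filter (fun c : Ω => x • c ≠ c)).card = h := by omega
    rw [hm] at hmoved
    exact hmoved
  obtain ⟨hconjall, hcount⟩ := Cfsg.Agent.S0882.result hZ hab h e hh he hodd hlt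
  rw [if_pos hev] at hcount
  have hGcard := Cfsg.Agent.Lib.Helper5.ZassOdd.two_trans_card hZ.2.1 hab
  rw [he, hh, Nat.add_sub_cancel] at hGcard
  have hcls := Cfsg.Agent.Lib.Helper5.ZassKernel.card_centralizer_mul_card_conj x
  have hset : Nat.card {t : G // IsConj x t} = Nat.card {t : G // orderOf t = 2} := by
    apply Nat.card_congr
    apply Equiv.subtypeEquivRight
    intro t
    constructor
    · intro hc
      obtain ⟨g, hg⟩ := isConj_iff.mp hc
      rw [← hg, horderconj]; exact hx
    · intro ht; exact hconjall x t hx ht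
  rw [hset, hcount, hGcard] at hcls
  have hCcard : Nat.card (Subgroup.centralizer ({x} : Set G)) = h := by
    have he0 : 0 < e := hodd.pos
    have h1 : Nat.card (Subgroup.centralizer ({x} : Set G)) * (e * (h + 1)) =
        h * (e * (h + 1)) := by rw [hcls]; ring
    exact Nat.eq_of_mul_eq_mul_right (by positivity) h1
  have hKH : ∀ g : G, g • a = a → (∀ c : Ω, g • c = c → c = a) → g ∈ H :=
    fun g hga hgfix =>
      Cfsg.Agent.Lib.Helper5.ZassKernel.mem_of_fix_only hZ.2.2.1 H hHa' hHcard hHfix hga hgfix
  have hCH : Subgroup.centralizer ({x} : Set G) ≤ H := by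
    intro g hg
    rw [Subgroup.mem_centralizer_iff] at hg
    have hgx : x * g = g * x := hg x (Set.mem_singleton x)
    by_cases hg1 : g = 1
    · rw [hg1]; exact H.one_mem
    have hga : g • a = a := by
      have h1 : x • (g • a) = g • a := by rw [smul_smul, hgx, mul_smul, hxa]
      exact hfix1 x hx _ _ h1 hxa
    apply hKH g hga
    intro c hc
    by_contra hca
    have h1 : g • (x • c) = x • c := by rw [smul_smul, ← hgx, mul_smul, hc]
    have h2 : x • c ≠ c := fun h => hca (hfix1 x hx c a h hxa)
    have h3 : x • c ≠ a := by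
      intro h
      apply hca
      have h4 : x • c = x • a := h.trans hxa.symm
      exact MulAction.injective x h4
    exact hg1 (hZ.2.2.1 g a c (x • c) (Ne.symm hca) (Ne.symm h2) (Ne.symm h3) hga hc h1)
  have hCeq : Subgroup.centralizer ({x} : Set G) = H := by
    apply Subgroup.eq_of_le_of_card_ge hCH
    rw [hCcard]; omega
  have hyH : y ∈ H := hKH y hya (fun c hc => hfix1 y hy c a hc hya)
  rw [← hCeq, Subgroup.mem_centralizer_iff] at hyH
  have hcomm : x * y = y * x := hyH x (Set.mem_singleton x)
  have huu : u * u = 1 := by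
    rw [← hxy]
    calc x * y * (x * y) = x * (y * x) * y := by group
      _ = x * (x * y) * y := by rw [hcomm]
      _ = (x * x) * (y * y) := by group
      _ = 1 := by rw [hxx, hyy, one_mul]
  haveI : Fact (Nat.Prime 2) := ⟨Nat.prime_two⟩
  exact orderOf_eq_prime (by rw [pow_two]; exact huu) hu1

end Cfsg.Agent.S0883
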