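import Cfsg.Statements.S0884
import Cfsg.Agent.S0883
import Cfsg.Agent.Lib.Helper23.InvPairs
import Cfsg.Agent.Lib.Helper5.ZassOdd

set_option autoImplicit false
open Cfsg

namespace Cfsg.Agent.S0884



/-- Let G be a finite simple Zassenhaus group on Ω with h + 1 points whose two-point stabilizer E has odd order e with 2e < h - 1, and let H be the subgroup of the stabilizer of a consisting of the identity and the elements fixing no point other than a (given here as a subgroup of the stabilizer of order one less than the number of points whose non-identity elements fix only a; it is the Frobenius kernel of the stabilizer). Then at least e conjugacy classes of G contain no element of H. -/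
theorem result {G Ω : Type*} [Group G] [Finite G] [MulAction G Ω] [Fintype Ω] (hZ : Cfsg.IsZassenhausGroup G Ω) {a b : Ω} (hab : a ≠ b) [IsSimpleGroup G] (h e : ℕ) (hh : Fintype.card Ω = h + 1) (he : Nat.card ↥(MulAction.stabilizer G a ⊓ MulAction.stabilizer G b : Subgroup G) = e) (hodd : Odd e) (hlt : 2 * e < h - 1) (H : Subgroup G) (hHa : H ≤ MulAction.stabilizer G a) (hHcard : Nat.card H + 1 = Fintype.card Ω) (hHfix : ∀ u ∈ H, u ≠ 1 → ∀ c : Ω, u • c = c → c = a) : e ≤ Nat.card {C : ConjClasses G // ∀ g : G, ConjClasses.mk g = C → g ∉ H} := by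
  classical
  have hfin : Fintype G := Fintype.ofFinite G
  obtain ⟨hconj, hcount⟩ := Cfsg.Agent.S0882.result hZ hab h e hh he hodd hlt
  have h83 : ∀ u : G, u ∈ H → u ≠ 1 → ∀ x y : G, orderOf x = 2 → orderOf y = 2 → x * y = u →
      orderOf u = 2 := fun u hu hu1 x y hx hy hxy =>
    Cfsg.Agent.S0883.result hZ hab h e hh he hodd hlt H hHa hHcard hHfix u hu hu1 x y hx hy hxy
  have hGcard := Cfsg.Agent.Lib.Helper5.ZassOdd.two_trans_card hZ.2.1 hab
  rw [hh, he, Nat.add_sub_cancel, Nat.card_eq_fintype_card] at hGcard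
  have hHh : Nat.card H = h := by omega
  -- e ≥ 3
  have he3 : 3 ≤ e := by
    obtain ⟨x, hx1, hxa, hxb⟩ := Cfsg.Agent.Lib.Helper5.Zass.zass_two_point_ne hZ hab
    have hne : (MulAction.stabilizer G a ⊓ MulAction.stabilizer G b : Subgroup G) ≠ ⊥ := by
      intro hbot
      apply hx1
      have : x ∈ (MulAction.stabilizer G a ⊓ MulAction.stabilizer G b : Subgroup G) :=
        Subgroup.mem_inf.mpr ⟨MulAction.mem_stabilizer_iff.mpr hxa,
          MulAction.mem_stabilizer_iff.mpr hxb⟩
      rw [hbot] at this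
      exact Subgroup.mem_bot.mp this
    have h1 : e ≠ 1 := by
      intro h1
      rw [h1] at he
      exact hne (Subgroup.card_eq_one.mp he)
    have h0 : e ≠ 0 := by
      rw [← he]
      exact Nat.card_pos.ne'
    obtain ⟨k, hk⟩ := hodd
    omega
  -- the set of classes
  obtain ⟨A, hAdef⟩ : ∃ A : Finset (ConjClasses G),
      A = Finset.univ.filter (fun C : ConjClasses G => ∀ g : G, ConjClasses.mk g = C → g ∉ H) :=
    ⟨_, rfl⟩
  have hA : Nat.card {C : ConjClasses G // ∀ g : G, ConjClasses.mk g = C → g ∉ H} = A.card := by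
    rw [Nat.card_eq_fintype_card, Fintype.card_subtype, hAdef]
  rw [hA]
  have key := Cfsg.Agent.Lib.Helper23.InvPairs.card_invs_sq_le A
  have hI : (Cfsg.Agent.Lib.Helper23.InvPairs.invs G).card =
      (if Even h then e * (h + 1) else e * h) := by
    rw [← hcount, Nat.card_eq_fintype_card, Fintype.card_subtype]
    rfl
  -- elements whose class meets H
  have hZmem : ∀ g : G, ConjClasses.mk g ∉ A → ∃ k : G, k * g * k⁻¹ ∈ H := by
    intro g hg
    rw [hAdef, Finset.mem_filter] at hg
    push Not at hg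
    obtain ⟨g', hg', hg'H⟩ := hg (Finset.mem_univ _)
    rw [ConjClasses.mk_eq_mk_iff_isConj, isConj_comm, isConj_iff] at hg'
    obtain ⟨k, hk⟩ := hg'
    exact ⟨k, by rw [hk]; exact hg'H⟩
  have hnz : ∀ g : G, ConjClasses.mk g ∉ A → g ≠ 1 →
      Cfsg.Agent.Lib.Helper23.InvPairs.invPairs g ≠ 0 →
      g ∈ Cfsg.Agent.Lib.Helper23.InvPairs.invs G ∧ Even h := by
    intro g hg hg1 hne
    obtain ⟨k, hk⟩ := hZmem g hg
    unfold Cfsg.Agent.Lib.Helper23.InvPairs.invPairs at hne
    obtain ⟨p, hp⟩ := Finset.card_ne_zero.mp hne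
    rw [Finset.mem_filter, Finset.mem_product, Cfsg.Agent.Lib.Helper23.InvPairs.mem_invs,
      Cfsg.Agent.Lib.Helper23.InvPairs.mem_invs] at hp
    obtain ⟨⟨hp1, hp2⟩, hpg⟩ := hp
    have hu1 : k * g * k⁻¹ ≠ 1 := by
      intro h1
      apply hg1
      have : g = k⁻¹ * (k * g * k⁻¹) * k := by group
      rw [this, h1]; group
    have ho : ∀ x : G, orderOf (k * x * k⁻¹) = orderOf x := fun x =>
      (MulAut.conj k).orderOf_eq x
    have h2 := h83 (k * g * k⁻¹) hk hu1 (k * p.1 * k⁻¹) (k * p.2 * k⁻¹)
      (by rw [ho, hp1]) (by rw [ho, hp2]) (by rw [← hpg]; group)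
    rw [ho] at h2
    refine ⟨(Cfsg.Agent.Lib.Helper23.InvPairs.mem_invs g).mpr h2, ?_⟩
    have h3 : orderOf (⟨k * g * k⁻¹, hk⟩ : H) = 2 := by
      rw [← Subgroup.orderOf_coe]
      change orderOf (k * g * k⁻¹) = 2
      rw [ho, h2]
    have h4 := orderOf_dvd_natCard (⟨k * g * k⁻¹, hk⟩ : H)
    rw [h3, hHh] at h4
    exact even_iff_two_dvd.mpr h4
  -- the sum of the centralizer orders over the involutions
  have hsumI : ∑ g ∈ Cfsg.Agent.Lib.Helper23.InvPairs.invs G,
      Cfsg.Agent.Lib.Helper23.InvPairs.centCard g ≤ Fintype.card G := by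
    by_cases hIne : (Cfsg.Agent.Lib.Helper23.InvPairs.invs G).Nonempty
    · obtain ⟨z, hz⟩ := hIne
      have hIz : Cfsg.Agent.Lib.Helper23.InvPairs.invs G =
          Finset.univ.filter (fun t : G => ConjClasses.mk t = ConjClasses.mk z) := by
        ext t
        rw [Cfsg.Agent.Lib.Helper23.InvPairs.mem_invs, Finset.mem_filter,
          ConjClasses.mk_eq_mk_iff_isConj]
        rw [Cfsg.Agent.Lib.Helper23.InvPairs.mem_invs] at hz
        constructor
        · intro ht
          exact ⟨Finset.mem_univ _, hconj t z ht hz⟩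
        · rintro ⟨-, ht⟩
          obtain ⟨k, hk⟩ := isConj_iff.mp ht
          rw [← hz, ← hk]
          exact ((MulAut.conj k).orderOf_eq t).symm
      rw [hIz, Cfsg.Agent.Lib.Helper23.InvPairs.sum_centCard_class]
    · rw [Finset.not_nonempty_iff_eq_empty] at hIne
      rw [hIne, Finset.sum_empty]
      exact Nat.zero_le _
  -- bound for the part of the sum over classes meeting H
  have hZsum : ∑ g ∈ Finset.univ.filter (fun g : G => ConjClasses.mk g ∉ A),
      Cfsg.Agent.Lib.Helper23.InvPairs.invPairs g ≤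
      (Cfsg.Agent.Lib.Helper23.InvPairs.invs G).card +
        (if Even h then Fintype.card G else 0) := by
    have hterm : ∀ g ∈ Finset.univ.filter (fun g : G => ConjClasses.mk g ∉ A),
        Cfsg.Agent.Lib.Helper23.InvPairs.invPairs g ≤
        (if g = 1 then (Cfsg.Agent.Lib.Helper23.InvPairs.invs G).card else 0) +
        (if g ∈ Cfsg.Agent.Lib.Helper23.InvPairs.invs G then
          (if Even h then Cfsg.Agent.Lib.Helper23.InvPairs.centCard g else 0) else 0) := by
      intro g hg
      rw [Finset.mem_filter] at hg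
      by_cases hg1 : g = 1
      · rw [if_pos hg1, hg1, Cfsg.Agent.Lib.Helper23.InvPairs.invPairs_one]
        exact Nat.le_add_right _ _
      · by_cases hne : Cfsg.Agent.Lib.Helper23.InvPairs.invPairs g = 0
        · rw [hne]; exact Nat.zero_le _
        · obtain ⟨hgI, hev⟩ := hnz g hg.2 hg1 hne
          rw [if_neg hg1, if_pos hgI, if_pos hev, zero_add]
          exact Cfsg.Agent.Lib.Helper23.InvPairs.invPairs_le_centCard g
    refine (Finset.sum_le_sum hterm).trans ?_
    refine (Finset.sum_le_sum_of_subset (Finset.filter_subset _ _)).trans ?_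
    rw [Finset.sum_add_distrib, Finset.sum_ite_eq' Finset.univ (1 : G), if_pos (Finset.mem_univ _)]
    apply Nat.add_le_add_left
    rw [← Finset.sum_filter]
    have : Finset.univ.filter (fun g : G => g ∈ Cfsg.Agent.Lib.Helper23.InvPairs.invs G) =
        Cfsg.Agent.Lib.Helper23.InvPairs.invs G := by
      ext g; simp
    rw [this]
    by_cases hev : Even h
    · simp only [if_pos hev]
      exact hsumI
    · simp only [if_neg hev, Finset.sum_const_zero]
      exact le_refl _
  -- final arithmetic
  by_contra hcon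
  push Not at hcon
  have hkey2 := key.trans (Nat.add_le_add_right hZsum _)
  rw [hI, hGcard] at hkey2
  have hpos : 0 < e := by omega
  by_cases hev : Even h
  · rw [if_pos hev, if_pos hev] at hkey2
    -- (e(h+1))^2 ≤ e(h+1) + (h+1)he + r (h+1) h e
    have h1 : (e * (h + 1)) * (e * (h + 1)) ≤ (e * (h + 1)) * (1 + (A.card + 1) * h) := by
      calc (e * (h + 1)) * (e * (h + 1)) = (e * (h + 1)) ^ 2 := by ring
        _ ≤ e * (h + 1) + (h + 1) * h * e + A.card * ((h + 1) * h * e) := hkey2
        _ = (e * (h + 1)) * (1 + (A.card + 1) * h) := by ring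
    have h2 : e * (h + 1) ≤ 1 + (A.card + 1) * h :=
      Nat.le_of_mul_le_mul_left h1 (Nat.mul_pos hpos (Nat.succ_pos h))
    have h3 : (A.card + 1) * h ≤ e * h := Nat.mul_le_mul_right h hcon
    have h4 : e * (h + 1) = e * h + e := by ring
    omega
  · rw [if_neg hev, if_neg hev, add_zero] at hkey2
    have hh0 : 0 < h := by omega
    have h1 : (e * h) * (e * h) ≤ (e * h) * (1 + A.card * (h + 1)) := by
      calc (e * h) * (e * h) = (e * h) ^ 2 := by ring
        _ ≤ e * h + A.card * ((h + 1) * h * e) := hkey2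
        _ = (e * h) * (1 + A.card * (h + 1)) := by ring
    have h2 : e * h ≤ 1 + A.card * (h + 1) :=
      Nat.le_of_mul_le_mul_left h1 (Nat.mul_pos hpos hh0)
    obtain ⟨r', hr'⟩ : ∃ r', e = A.card + 1 + r' := Nat.exists_eq_add_of_le hcon
    have h3 : e * h = A.card * h + h + r' * h := by rw [hr']; ring
    have h4 : A.card * (h + 1) = A.card * h + A.card := by ring
    have h5 : 0 ≤ r' * h := Nat.zero_le _
    omega

end Cfsg.Agent.S0884
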