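import Cfsg.Statements.S1531
import Cfsg.Agent.Lib.Helper10.Coherence2

set_option autoImplicit false
open Cfsg

namespace Cfsg.Agent.S1531

open Cfsg.Agent.CharLib Cfsg.Agent.Lib.Helper10 in
open scoped ComplexConjugate in

/-- Let N be a subgroup of the finite group G, S a set of irreducible characters of N, and α a linear isometry on the integer combinations of S vanishing at 1 with values virtual characters of G vanishing at 1. Let X, Y ⊆ S be disjoint, each with at least two members, and σ, τ linear isometries on ℤ[X], ℤ[Y] into virtual characters agreeing with α on the members vanishing at 1. Then ⟨σ χ, τ η⟩ = 0 for χ ∈ X, η ∈ Y; and if for some χ₀ ∈ X, η₀ ∈ Y with degrees c = χ₀ 1, e = η₀ 1 one has α (c • η₀ − e • χ₀) = c • τ η₀ − e • σ χ₀, then (X ∪ Y, N minus 1, α) is coherent. -/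
theorem result {G : Type*} [Group G] [Fintype G] (N : Subgroup G) [Fintype N] (S X Y : Set (N → ℂ)) (hirr : ∀ ξ ∈ S, Cfsg.IsIrrCharacter N ξ) (hXS : X ⊆ S) (hYS : Y ⊆ S) (hXY : Disjoint X Y) (hX2 : ∃ a ∈ X, ∃ b ∈ X, a ≠ b) (hY2 : ∃ a ∈ Y, ∃ b ∈ Y, a ≠ b) (α : (N → ℂ) → (G → ℂ)) (hα : Cfsg.IsLinearIsometryOn (Cfsg.zspanOn S {1}ᶜ) α) (hα1 : ∀ θ ∈ Cfsg.zspanOn S {1}ᶜ, α θ 1 = 0) (σ τ : (N → ℂ) → (G → ℂ)) (hσ : Cfsg.IsLinearIsometryOn (Cfsg.zspan X) σ) (hσα : ∀ θ ∈ Cfsg.zspanOn X {1}ᶜ, σ θ = α θ) (hτ : Cfsg.IsLinearIsometryOn (Cfsg.zspan Y) τ) (hτα : ∀ θ ∈ Cfsg.zspanOn Y {1}ᶜ, τ θ = α θ) : (∀ χ ∈ X, ∀ η ∈ Y, Cfsg.classInner (σ χ) (τ η) = 0) ∧ ((∃ χ₀ ∈ X, ∃ η₀ ∈ Y, α (χ₀ 1 • η₀ - η₀ 1 • χ₀) = χ₀ 1 • τ η₀ - η₀ 1 • σ χ₀) → Cfsg.IsCoherent (X ∪ Y) {1}ᶜ α) := by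
  classical
  have hXirr : ∀ ξ ∈ X, IsIrrCharacter N ξ := fun ξ h => hirr ξ (hXS h)
  have hYirr : ∀ ξ ∈ Y, IsIrrCharacter N ξ := fun ξ h => hirr ξ (hYS h)
  have hfin := finite_setOf_isIrrCharacter N
  have hXfin : X.Finite := hfin.subset (fun ξ h => hXirr ξ h)
  have hYfin : Y.Finite := hfin.subset (fun ξ h => hYirr ξ h)
  -- degrees
  have hdeg : ∀ ξ : N → ℂ, ∃ n : ℕ, ξ ∈ S → (0 < n ∧ ξ 1 = (n : ℂ)) := by
    intro ξ
    by_cases h : ξ ∈ S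
    · obtain ⟨n, hn0, hn⟩ := IsIrrCharacter.apply_one_pos (hirr ξ h)
      exact ⟨n, fun _ => ⟨hn0, hn⟩⟩
    · exact ⟨0, fun h' => absurd h' h⟩
  choose d hd using hdeg
  have hdX : ∀ ξ ∈ X, 0 < d ξ ∧ ξ 1 = (d ξ : ℂ) := fun ξ h => hd ξ (hXS h)
  have hdY : ∀ ξ ∈ Y, 0 < d ξ ∧ ξ 1 = (d ξ : ℂ) := fun ξ h => hd ξ (hYS h)
  -- closure of the domains
  have hEX : ∀ θ ∈ zspan X, ∀ n : ℤ, n • θ ∈ zspan X := fun θ h n => zspan_zsmul h n
  have hEY : ∀ θ ∈ zspan Y, ∀ n : ℤ, n • θ ∈ zspan Y := fun θ h n => zspan_zsmul h n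
  have hES : ∀ θ ∈ zspanOn S {1}ᶜ, ∀ n : ℤ, n • θ ∈ zspanOn S {1}ᶜ := fun θ h n => zspanOn_zsmul h n
  -- orthogonality on the N side
  have hinner : ∀ ξ ∈ S, ∀ η ∈ S, classInner ξ η = if ξ = η then 1 else 0 :=
    fun ξ hξ η hη => Cfsg.Agent.Lib.Helper10.classInner_irr (hirr ξ hξ) (hirr η hη)
  have hXYne : ∀ ξ ∈ X, ∀ η ∈ Y, ξ ≠ η := by
    intro ξ hξ η hη h
    exact (Set.disjoint_left.mp hXY hξ) (h ▸ hη)
  -- orthonormality of images
  have hσo : ∀ ξ ∈ X, ∀ η ∈ X, classInner (σ ξ) (σ η) = if ξ = η then 1 else 0 := by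
    intro ξ hξ η hη
    rw [hσ.2.2.1 ξ (subset_zspan hξ) η (subset_zspan hη)]
    exact hinner ξ (hXS hξ) η (hXS hη)
  have hτo : ∀ ξ ∈ Y, ∀ η ∈ Y, classInner (τ ξ) (τ η) = if ξ = η then 1 else 0 := by
    intro ξ hξ η hη
    rw [hτ.2.2.1 ξ (subset_zspan hξ) η (subset_zspan hη)]
    exact hinner ξ (hYS hξ) η (hYS hη)
  have hσg : ∀ ξ ∈ X, IsGeneralizedCharacter G (σ ξ) := fun ξ h => hσ.2.2.2 ξ (subset_zspan h)
  have hτg : ∀ ξ ∈ Y, IsGeneralizedCharacter G (τ ξ) := fun ξ h => hτ.2.2.2 ξ (subset_zspan h)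
  -- difference elements
  have hθ : ∀ (Z : Set (N → ℂ)), Z ⊆ S → ∀ ξ ∈ Z, ∀ ξ' ∈ Z,
      ((d ξ' : ℤ) • ξ + (-(d ξ : ℤ)) • ξ') ∈ zspanOn Z {1}ᶜ := by
    intro Z hZ ξ hξ ξ' hξ'
    refine ⟨zspan_add (zspan_zsmul (subset_zspan hξ) _) (zspan_zsmul (subset_zspan hξ') _), ?_⟩
    intro x hx
    have hx1 : x = 1 := by simpa using hx
    subst hx1
    rw [Pi.add_apply, Pi.smul_apply, Pi.smul_apply, (hd ξ (hZ hξ)).2, (hd ξ' (hZ hξ')).2]
    simp only [zsmul_eq_mul]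
    push_cast
    ring
  have hσθ : ∀ ξ ∈ X, ∀ ξ' ∈ X, α ((d ξ' : ℤ) • ξ + (-(d ξ : ℤ)) • ξ') =
      (d ξ' : ℤ) • σ ξ + (-(d ξ : ℤ)) • σ ξ' := by
    intro ξ hξ ξ' hξ'
    rw [← hσα _ (hθ X hXS ξ hξ ξ' hξ'), isometry_lin2 hσ hEX (subset_zspan hξ) (subset_zspan hξ')]
  have hτθ : ∀ ξ ∈ Y, ∀ ξ' ∈ Y, α ((d ξ' : ℤ) • ξ + (-(d ξ : ℤ)) • ξ') =
      (d ξ' : ℤ) • τ ξ + (-(d ξ : ℤ)) • τ ξ' := by
    intro ξ hξ ξ' hξ'
    rw [← hτα _ (hθ Y hYS ξ hξ ξ' hξ'), isometry_lin2 hτ hEY (subset_zspan hξ) (subset_zspan hξ')]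
  have hσ1 : ∀ ξ ∈ X, ∀ ξ' ∈ X, (d ξ' : ℂ) * σ ξ 1 = (d ξ : ℂ) * σ ξ' 1 := by
    intro ξ hξ ξ' hξ'
    have h1 := hα1 _ (zspanOn_mono hXS _ (hθ X hXS ξ hξ ξ' hξ'))
    rw [hσθ ξ hξ ξ' hξ', Pi.add_apply, Pi.smul_apply, Pi.smul_apply] at h1
    simp only [zsmul_eq_mul] at h1
    push_cast at h1
    linear_combination h1
  have hτ1 : ∀ ξ ∈ Y, ∀ ξ' ∈ Y, (d ξ' : ℂ) * τ ξ 1 = (d ξ : ℂ) * τ ξ' 1 := by
    intro ξ hξ ξ' hξ'
    have h1 := hα1 _ (zspanOn_mono hYS _ (hθ Y hYS ξ hξ ξ' hξ'))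
    rw [hτθ ξ hξ ξ' hξ', Pi.add_apply, Pi.smul_apply, Pi.smul_apply] at h1
    simp only [zsmul_eq_mul] at h1
    push_cast at h1
    linear_combination h1
  have hcross : ∀ ξ ∈ X, ∀ η ∈ Y, classInner ξ η = 0 := by
    intro ξ hξ η hη
    rw [hinner ξ (hXS hξ) η (hYS hη), if_neg (hXYne ξ hξ η hη)]
  have hstar : ∀ χ ∈ X, ∀ χ' ∈ X, ∀ η ∈ Y, ∀ η' ∈ Y,
      (d χ' : ℂ) * (d η' : ℂ) * classInner (σ χ) (τ η) - (d χ' : ℂ) * (d η : ℂ) * classInner (σ χ) (τ η')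
        - (d χ : ℂ) * (d η' : ℂ) * classInner (σ χ') (τ η)
        + (d χ : ℂ) * (d η : ℂ) * classInner (σ χ') (τ η') = 0 := by
    intro χ hχ χ' hχ' η hη η' hη'
    have h1 := hα.2.2.1 _ (zspanOn_mono hXS _ (hθ X hXS χ hχ χ' hχ')) _
      (zspanOn_mono hYS _ (hθ Y hYS η hη η' hη'))
    rw [hσθ χ hχ χ' hχ', hτθ η hη η' hη', classInner_lin2, classInner_lin2, hcross χ hχ η hη,
      hcross χ hχ η' hη', hcross χ' hχ' η hη, hcross χ' hχ' η' hη'] at h1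
    push_cast at h1
    linear_combination h1
  have hpartA : ∀ χ ∈ X, ∀ η ∈ Y, classInner (σ χ) (τ η) = 0 := by
    intro χ hχ η hη
    by_contra hm
    obtain ⟨ε, hε, hv, hmε⟩ := eq_sign_smul_of_inner_ne_zero (hσg χ hχ) (hτg η hη)
      (by rw [hσo χ hχ χ hχ, if_pos rfl]) (by rw [hτo η hη η hη, if_pos rfl]) hm
    obtain ⟨χ', hχ', hne⟩ : ∃ χ' ∈ X, χ' ≠ χ := by
      obtain ⟨a, ha, b, hb, hab⟩ := hX2
      by_cases h : a = χ
      · exact ⟨b, hb, fun h' => hab (h.trans h'.symm)⟩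
      · exact ⟨a, ha, h⟩
    obtain ⟨η', hη', hne'⟩ : ∃ η' ∈ Y, η' ≠ η := by
      obtain ⟨a, ha, b, hb, hab⟩ := hY2
      by_cases h : a = η
      · exact ⟨b, hb, fun h' => hab (h.trans h'.symm)⟩
      · exact ⟨a, ha, h⟩
    have h1 : classInner (σ χ') (τ η) = 0 := by
      rw [hv, Cfsg.Agent.Lib.Helper10.classInner_smul_right, hσo χ' hχ' χ hχ, if_neg hne, mul_zero]
    have hu : σ χ = ε • τ η := by
      rw [hv, smul_smul]
      rcases hε with rfl | rfl <;> simp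
    have h2 : classInner (σ χ) (τ η') = 0 := by
      rw [hu, Cfsg.Agent.Lib.Helper10.classInner_smul_left, hτo η hη η' hη', if_neg hne'.symm, mul_zero]
    have h3 := hstar χ hχ χ' hχ' η hη η' hη'
    rw [h1, h2, hmε] at h3
    have hdχ := (hdX χ hχ).1
    have hdχ' := (hdX χ' hχ').1
    have hdη := (hdY η hη).1
    have hdη' := (hdY η' hη').1
    have hposR : (0 : ℝ) < (d χ' : ℝ) * (d η' : ℝ) := by positivity
    have hposR2 : (0 : ℝ) < (d χ : ℝ) * (d η : ℝ) := by positivity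
    have hm' : classInner (σ χ') (τ η') ≠ 0 := by
      intro h0
      rw [h0] at h3
      have h4 : (d χ' : ℂ) * (d η' : ℂ) * ε = 0 := by linear_combination h3
      have h5 : (d χ' : ℂ) * (d η' : ℂ) ≠ 0 := by
        have : ((d χ' * d η' : ℕ) : ℂ) ≠ 0 := by
          exact_mod_cast (Nat.mul_pos hdχ' hdη').ne'
        simpa using this
      have h6 : ε ≠ 0 := by rcases hε with rfl | rfl <;> norm_num
      exact (mul_ne_zero h5 h6) h4
    obtain ⟨ε', hε', hv', hmε'⟩ := eq_sign_smul_of_inner_ne_zero (hσg χ' hχ') (hτg η' hη')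
      (by rw [hσo χ' hχ' χ' hχ', if_pos rfl]) (by rw [hτo η' hη' η' hη', if_pos rfl]) hm'
    rw [hmε'] at h3
    have hsum_ne : ((d χ' : ℂ) * (d η' : ℂ) + (d χ : ℂ) * (d η : ℂ)) ≠ 0 := by
      have : ((d χ' * d η' + d χ * d η : ℕ) : ℂ) ≠ 0 := by
        exact_mod_cast (Nat.add_pos_left (Nat.mul_pos hdχ' hdη') _).ne'
      simpa using this
    have hεε : ε' = -ε := by
      rcases hε with rfl | rfl <;> rcases hε' with rfl | rfl
      · exfalso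
        apply hsum_ne
        linear_combination h3
      · rfl
      · simp
      · exfalso
        apply hsum_ne
        linear_combination -h3
    have e1 := hσ1 χ hχ χ' hχ'
    have e2 := hτ1 η hη η' hη'
    rw [hv, hv', hεε] at e2
    simp only [Pi.smul_apply, smul_eq_mul] at e2
    have hsum_ne2 : ((d χ : ℂ) * (d η' : ℂ) + (d η : ℂ) * (d χ' : ℂ)) ≠ 0 := by
      have : ((d χ * d η' + d η * d χ' : ℕ) : ℂ) ≠ 0 := by
        exact_mod_cast (Nat.add_pos_left (Nat.mul_pos hdχ hdη') _).ne'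
      simpa using this
    have h5 : ((d χ : ℂ) * (d η' : ℂ) + (d η : ℂ) * (d χ' : ℂ)) * σ χ 1 = 0 := by
      rcases hε with rfl | rfl
      · linear_combination (d χ : ℂ) * e2 + (d η : ℂ) * e1
      · linear_combination (-(d χ : ℂ)) * e2 + (d η : ℂ) * e1
    have h6 : σ χ 1 ≠ 0 := genChar_norm_one_apply_one_ne_zero (hσg χ hχ)
      (by rw [hσo χ hχ χ hχ, if_pos rfl])
    exact (mul_ne_zero hsum_ne2 h6) h5
  refine ⟨hpartA, ?_⟩
  rintro ⟨χ₀, hχ₀, η₀, hη₀, hΓ⟩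
  set XF := hXfin.toFinset with hXFdef
  set YF := hYfin.toFinset with hYFdef
  have hmemXF : ∀ ξ, ξ ∈ XF ↔ ξ ∈ X := fun ξ => Set.Finite.mem_toFinset hXfin
  have hmemYF : ∀ ξ, ξ ∈ YF ↔ ξ ∈ Y := fun ξ => Set.Finite.mem_toFinset hYfin
  have hXFcoe : (↑XF : Set (N → ℂ)) = X := Set.Finite.coe_toFinset hXfin
  have hYFcoe : (↑YF : Set (N → ℂ)) = Y := Set.Finite.coe_toFinset hYfin
  have hdisj : Disjoint XF YF := Finset.disjoint_left.mpr
    (fun ξ h1 h2 => hXYne ξ ((hmemXF ξ).mp h1) ξ ((hmemYF ξ).mp h2) rfl)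
  have hcoeU : (↑(XF ∪ YF) : Set (N → ℂ)) = X ∪ Y := by
    rw [Finset.coe_union, hXFcoe, hYFcoe]
  have hXo : OrthoOn XF := orthoOn_of_irr (fun ξ h => hXirr ξ ((hmemXF ξ).mp h))
  have hYo : OrthoOn YF := orthoOn_of_irr (fun ξ h => hYirr ξ ((hmemYF ξ).mp h))
  have hUo : OrthoOn (XF ∪ YF) := orthoOn_of_irr (fun ξ h => by
    rcases Finset.mem_union.mp h with h | h
    · exact hXirr ξ ((hmemXF ξ).mp h)
    · exact hYirr ξ ((hmemYF ξ).mp h))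
  have hσ' : IsLinearIsometryOn (zspan (↑XF : Set (N → ℂ))) σ := by rw [hXFcoe]; exact hσ
  have hτ' : IsLinearIsometryOn (zspan (↑YF : Set (N → ℂ))) τ := by rw [hYFcoe]; exact hτ
  set f : (N → ℂ) → (G → ℂ) := fun ξ => if ξ ∈ X then σ ξ else τ ξ with hf
  have hfX : ∀ ξ ∈ X, f ξ = σ ξ := by
    intro ξ hξ
    rw [hf]; simp only; rw [if_pos hξ]
  have hfY : ∀ ξ ∈ Y, f ξ = τ ξ := by
    intro ξ hξ
    rw [hf]; simp only
    rw [if_neg (fun h => hXYne ξ h ξ hξ rfl)]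
  have hfo : ∀ ξ ∈ XF ∪ YF, ∀ η ∈ XF ∪ YF, classInner (f ξ) (f η) = if ξ = η then 1 else 0 := by
    intro ξ hξ η hη
    rcases Finset.mem_union.mp hξ with h | h <;> rcases Finset.mem_union.mp hη with h' | h'
    · rw [hfX ξ ((hmemXF ξ).mp h), hfX η ((hmemXF η).mp h')]
      exact hσo ξ ((hmemXF ξ).mp h) η ((hmemXF η).mp h')
    · rw [hfX ξ ((hmemXF ξ).mp h), hfY η ((hmemYF η).mp h'),
        hpartA ξ ((hmemXF ξ).mp h) η ((hmemYF η).mp h'),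
        if_neg (hXYne ξ ((hmemXF ξ).mp h) η ((hmemYF η).mp h'))]
    · rw [hfY ξ ((hmemYF ξ).mp h), hfX η ((hmemXF η).mp h'),
        Cfsg.Agent.Lib.Helper10.classInner_conj_symm,
        hpartA η ((hmemXF η).mp h') ξ ((hmemYF ξ).mp h), map_zero,
        if_neg (fun e => hXYne η ((hmemXF η).mp h') ξ ((hmemYF ξ).mp h) e.symm)]
    · rw [hfY ξ ((hmemYF ξ).mp h), hfY η ((hmemYF η).mp h')]
      exact hτo ξ ((hmemYF ξ).mp h) η ((hmemYF η).mp h')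
  have hfg : ∀ ξ ∈ XF ∪ YF, IsGeneralizedCharacter G (f ξ) := by
    intro ξ hξ
    rcases Finset.mem_union.mp hξ with h | h
    · rw [hfX ξ ((hmemXF ξ).mp h)]; exact hσg ξ ((hmemXF ξ).mp h)
    · rw [hfY ξ ((hmemYF ξ).mp h)]; exact hτg ξ ((hmemYF ξ).mp h)
  have hρ := coefMap_isLinearIsometryOn hUo f hfo hfg
  rw [hcoeU] at hρ
  refine ⟨?_, coefMap (XF ∪ YF) f, hρ, ?_⟩
  · obtain ⟨a, ha, b, hb, hab⟩ := hX2
    refine ⟨_, zspanOn_mono Set.subset_union_left _ (hθ X hXS a ha b hb), ?_⟩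
    intro h0
    have h1 : classInner ((d b : ℤ) • a + (-(d a : ℤ)) • b) a = 0 := by
      rw [h0, Cfsg.Agent.Lib.Helper10.classInner_zero_left]
    rw [Cfsg.Agent.Lib.Helper10.classInner_add_left, classInner_zsmul_left, classInner_zsmul_left,
      hinner a (hXS ha) a (hXS ha), if_pos rfl, hinner b (hXS hb) a (hXS ha),
      if_neg (Ne.symm hab), mul_zero, add_zero, mul_one] at h1
    have h2 : (d b : ℤ) = 0 := by exact_mod_cast h1
    have := (hdX b hb).1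
    omega
  · intro θ hθU
    have hθU' : θ ∈ zspan (↑(XF ∪ YF) : Set (N → ℂ)) := by rw [hcoeU]; exact hθU.1
    obtain ⟨c, hc⟩ := mem_zspan_finset.mp hθU'
    set θX : N → ℂ := ∑ ξ ∈ XF, c ξ • ξ with hθXdef
    set θY : N → ℂ := ∑ ξ ∈ YF, c ξ • ξ with hθYdef
    have hθsplit : θ = θX + θY := by rw [hc, Finset.sum_union hdisj]
    have hθXmem : θX ∈ zspan X :=
      zspan_sum _ _ (fun ξ h => zspan_zsmul (subset_zspan ((hmemXF ξ).mp h)) _)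
    have hθYmem : θY ∈ zspan Y :=
      zspan_sum _ _ (fun ξ h => zspan_zsmul (subset_zspan ((hmemYF ξ).mp h)) _)
    set k : ℤ := ∑ ξ ∈ XF, c ξ * (d ξ : ℤ) with hk
    have hθX1 : θX 1 = (k : ℂ) := by
      rw [hθXdef, Finset.sum_apply, hk]
      push_cast
      apply Finset.sum_congr rfl
      intro ξ h
      rw [Pi.smul_apply, zsmul_eq_mul, (hdX ξ ((hmemXF ξ).mp h)).2]
    have hθY1 : θY 1 = -(k : ℂ) := by
      have h1 := hθU.2 1 (by simp)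
      rw [hθsplit, Pi.add_apply, hθX1] at h1
      linear_combination h1
    set cz : ℤ := (d χ₀ : ℤ) with hcz
    set ez : ℤ := (d η₀ : ℤ) with hez
    have hχ₀1 : χ₀ 1 = (cz : ℂ) := by rw [(hdX χ₀ hχ₀).2, hcz]; push_cast; rfl
    have hη₀1 : η₀ 1 = (ez : ℂ) := by rw [(hdY η₀ hη₀).2, hez]; push_cast; rfl
    set A : N → ℂ := cz • θX + (-k) • χ₀ with hAdef
    have hA : A ∈ zspanOn X {1}ᶜ := by
      refine ⟨zspan_add (zspan_zsmul hθXmem _) (zspan_zsmul (subset_zspan hχ₀) _), ?_⟩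
      intro x hx
      have hx1 : x = 1 := by simpa using hx
      subst hx1
      rw [hAdef, Pi.add_apply, Pi.smul_apply, Pi.smul_apply, hθX1, hχ₀1]
      simp only [zsmul_eq_mul]
      push_cast
      ring
    set Bv : N → ℂ := ez • θY + k • η₀ with hBvdef
    have hBv : Bv ∈ zspanOn Y {1}ᶜ := by
      refine ⟨zspan_add (zspan_zsmul hθYmem _) (zspan_zsmul (subset_zspan hη₀) _), ?_⟩
      intro x hx
      have hx1 : x = 1 := by simpa using hx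
      subst hx1
      rw [hBvdef, Pi.add_apply, Pi.smul_apply, Pi.smul_apply, hθY1, hη₀1]
      simp only [zsmul_eq_mul]
      push_cast
      ring
    set Γ : N → ℂ := cz • η₀ + (-ez) • χ₀ with hΓdef
    have hΓmem : Γ ∈ zspanOn S {1}ᶜ := by
      refine ⟨zspan_add (zspan_zsmul (subset_zspan (hYS hη₀)) _)
        (zspan_zsmul (subset_zspan (hXS hχ₀)) _), ?_⟩
      intro x hx
      have hx1 : x = 1 := by simpa using hx
      subst hx1
      rw [hΓdef, Pi.add_apply, Pi.smul_apply, Pi.smul_apply, hχ₀1, hη₀1]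
      simp only [zsmul_eq_mul]
      push_cast
      ring
    have hΓα : α Γ = cz • τ η₀ + (-ez) • σ χ₀ := by
      have e1 : Γ = χ₀ 1 • η₀ - η₀ 1 • χ₀ := by
        rw [hΓdef, hχ₀1, hη₀1, Int.cast_smul_eq_zsmul, Int.cast_smul_eq_zsmul, neg_smul,
          sub_eq_add_neg]
      rw [e1, hΓ, hχ₀1, hη₀1, Int.cast_smul_eq_zsmul, Int.cast_smul_eq_zsmul, neg_smul,
        sub_eq_add_neg]
    have hθS : θ ∈ zspanOn S {1}ᶜ := zspanOn_mono (Set.union_subset hXS hYS) _ hθU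
    have hkey : (cz * ez) • θ = ez • A + cz • Bv + (-k) • Γ := by
      rw [hθsplit, hAdef, hBvdef, hΓdef]
      module
    have hαkey : (cz * ez) • α θ = (cz * ez) • (σ θX + τ θY) := by
      rw [← hα.2.1 θ hθS (cz * ez), hkey,
        isometry_lin3 hα hES (fun a ha b hb => zspanOn_add ha hb) (zspanOn_mono hXS _ hA)
          (zspanOn_mono hYS _ hBv) hΓmem,
        ← hσα A hA, ← hτα Bv hBv, hΓα, hAdef, hBvdef,
        isometry_lin2 hσ hEX hθXmem (subset_zspan hχ₀),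
        isometry_lin2 hτ hEY hθYmem (subset_zspan hη₀)]
      module
    have hczez : cz * ez ≠ 0 := by
      apply mul_ne_zero
      · rw [hcz]; exact_mod_cast (hdX χ₀ hχ₀).1.ne'
      · rw [hez]; exact_mod_cast (hdY η₀ hη₀).1.ne'
    have hαθ : α θ = σ θX + τ θY := zsmul_left_cancel_fun hczez hαkey
    have hθXY : ∀ η ∈ YF, classInner θX η = 0 := by
      intro η hη
      rw [hθXdef, Cfsg.Agent.Lib.Helper10.classInner_sum_left]
      apply Finset.sum_eq_zero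
      intro ξ hξ
      rw [classInner_zsmul_left, hcross ξ ((hmemXF ξ).mp hξ) η ((hmemYF η).mp hη), mul_zero]
    have hθYX : ∀ ξ ∈ XF, classInner θY ξ = 0 := by
      intro ξ hξ
      rw [hθYdef, Cfsg.Agent.Lib.Helper10.classInner_sum_left]
      apply Finset.sum_eq_zero
      intro η hη
      rw [classInner_zsmul_left, Cfsg.Agent.Lib.Helper10.classInner_conj_symm,
        hcross ξ ((hmemXF ξ).mp hξ) η ((hmemYF η).mp hη), map_zero, mul_zero]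
    have hθXmem' : θX ∈ zspan (↑XF : Set (N → ℂ)) := by rw [hXFcoe]; exact hθXmem
    have hθYmem' : θY ∈ zspan (↑YF : Set (N → ℂ)) := by rw [hYFcoe]; exact hθYmem
    rw [hαθ, hθsplit, coefMap_add]
    congr 1
    · rw [isometry_eq_coefMap hXo hσ' hθXmem']
      unfold coefMap
      rw [Finset.sum_union hdisj]
      have h1 : ∑ ξ ∈ YF, classInner θX ξ • f ξ = 0 := by
        apply Finset.sum_eq_zero
        intro ξ hξ
        rw [hθXY ξ hξ, zero_smul]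
      rw [h1, add_zero]
      apply Finset.sum_congr rfl
      intro ξ hξ
      rw [hfX ξ ((hmemXF ξ).mp hξ)]
    · rw [isometry_eq_coefMap hYo hτ' hθYmem']
      unfold coefMap
      rw [Finset.sum_union hdisj]
      have h1 : ∑ ξ ∈ XF, classInner θY ξ • f ξ = 0 := by
        apply Finset.sum_eq_zero
        intro ξ hξ
        rw [hθYX ξ hξ, zero_smul]
      rw [h1, zero_add]
      apply Finset.sum_congr rfl
      intro ξ hξ
      rw [hfY ξ ((hmemYF ξ).mp hξ)]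


end Cfsg.Agent.S1531
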