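import Cfsg.Statements.S1514
import Cfsg.Agent.Lib.Helper10.Coherence2

set_option autoImplicit false
open Cfsg

namespace Cfsg.Agent.S1514

open Cfsg.Agent.CharLib Cfsg.Agent.Lib.Helper10 in
open scoped ComplexConjugate in

/-- Let S be a nonempty set of irreducible characters of the finite group L, closed under complex conjugation and containing no real-valued member, and τ a linear isometry on the integer combinations of S vanishing at 1, with values virtual characters of G vanishing at 1. Then there is a choice R making (S, τ, R) a coherence system. -/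
theorem result {L : Type*} [Group L] [Fintype L] {G : Type*} [Group G] [Fintype G] (S : Set (L → ℂ)) (hS : S.Nonempty) (hirr : ∀ χ ∈ S, Cfsg.IsIrrCharacter L χ) (hconj : ∀ χ ∈ S, Cfsg.conjFun χ ∈ S ∧ Cfsg.conjFun χ ≠ χ) (τ : (L → ℂ) → (G → ℂ)) (hτ : Cfsg.IsLinearIsometryOn (Cfsg.zspanOn S {1}ᶜ) τ) (hτ1 : ∀ α ∈ Cfsg.zspanOn S {1}ᶜ, τ α 1 = 0) : ∃ R : (L → ℂ) → Finset (G → ℂ), Cfsg.IsCoherenceSystem S τ R := by
  classical
  have hconjconj : ∀ χ : L → ℂ, conjFun (conjFun χ) = χ := by
    intro χ; funext x; simp [conjFun]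
  have hbarirr : ∀ χ ∈ S, IsIrrCharacter L (conjFun χ) := fun χ h => hirr _ (hconj χ h).1
  have hinner : ∀ ξ ∈ S, ∀ η ∈ S, classInner ξ η = if ξ = η then 1 else 0 :=
    fun ξ hξ η hη => Cfsg.Agent.Lib.Helper10.classInner_irr (hirr ξ hξ) (hirr η hη)
  have hvE : ∀ χ ∈ S, χ - conjFun χ ∈ zspanOn S {1}ᶜ := by
    intro χ hχ
    refine ⟨zspan_sub (subset_zspan hχ) (subset_zspan (hconj χ hχ).1), ?_⟩
    intro x hx
    have hx1 : x = 1 := by simpa using hx
    subst hx1
    rw [Pi.sub_apply]
    show χ 1 - (starRingEnd ℂ) (χ 1) = 0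
    rw [IsCharacter.conj_apply_one (IsIrrCharacter.isCharacter (hirr χ hχ)), sub_self]
  have hvv : ∀ χ ∈ S, ∀ φ ∈ S, classInner (χ - conjFun χ) (φ - conjFun φ) =
      (if χ = φ then 1 else 0) - (if χ = conjFun φ then 1 else 0)
        - ((if conjFun χ = φ then 1 else 0) - (if conjFun χ = conjFun φ then 1 else 0)) :=
    fun χ hχ φ hφ => classInner_sub_sub_irr (hirr χ hχ) (hbarirr χ hχ) (hirr φ hφ) (hbarirr φ hφ)
  have hdec : ∀ χ : L → ℂ, ∃ α β : G → ℂ, χ ∈ S → (IsIrrCharacter G α ∧ IsIrrCharacter G β ∧ α ≠ β ∧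
      τ (χ - conjFun χ) = α - β) := by
    intro χ
    by_cases hχ : χ ∈ S
    · have hg := hτ.2.2.2 _ (hvE χ hχ)
      have h2 : classInner (τ (χ - conjFun χ)) (τ (χ - conjFun χ)) = 2 := by
        rw [hτ.2.2.1 _ (hvE χ hχ) _ (hvE χ hχ), hvv χ hχ χ hχ, if_pos rfl, if_pos rfl,
          if_neg (fun h => (hconj χ hχ).2 h.symm), if_neg (hconj χ hχ).2]
        norm_num
      obtain ⟨α, β, hα, hβ, hne, heq⟩ := genChar_norm_two_vanish hg h2 (hτ1 _ (hvE χ hχ))
      exact ⟨α, β, fun _ => ⟨hα, hβ, hne, heq⟩⟩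
    · exact ⟨0, 0, fun h => absurd h hχ⟩
  choose A Bf hAB using hdec
  have hAnegB : ∀ χ ∈ S, A χ ≠ -Bf χ := by
    intro χ hχ h
    obtain ⟨hα, hβ, _, _⟩ := hAB χ hχ
    obtain ⟨n, hn0, hn⟩ := IsIrrCharacter.apply_one_pos hα
    obtain ⟨m, hm0, hm⟩ := IsIrrCharacter.apply_one_pos hβ
    have h1 := congrFun h 1
    rw [Pi.neg_apply, hn, hm] at h1
    have h2 : ((n + m : ℕ) : ℂ) = 0 := by push_cast; linear_combination h1
    have := Nat.cast_eq_zero.mp h2
    omega
  have hirrinner : ∀ {a b : G → ℂ}, IsIrrCharacter G a → IsIrrCharacter G b →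
      classInner a b = if a = b then 1 else 0 :=
    fun ha hb => Cfsg.Agent.Lib.Helper10.classInner_irr ha hb
  refine ⟨fun χ => {A χ, -Bf χ}, ?_⟩
  refine
    { nonempty := hS
      isCharacter := fun χ h => IsIrrCharacter.isCharacter (hirr χ h)
      conj_mem := fun χ h => (hconj χ h).1
      conj_ne := fun χ h => (hconj χ h).2
      isometry := hτ
      map_one := hτ1
      orthogonal := ?_
      orthonormal := ?_
      virtual := ?_
      sum_eq := ?_
      disjoint := ?_ }
  · intro χ hχ φ hφ hne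
    rw [hinner χ hχ φ hφ, if_neg hne]
  · intro χ hχ α hα β hβ
    obtain ⟨hA, hB, hne, _⟩ := hAB χ hχ
    simp only [Finset.mem_insert, Finset.mem_singleton] at hα hβ
    rcases hα with rfl | rfl <;> rcases hβ with rfl | rfl
    · rw [hirrinner hA hA]
    · rw [classInner_neg_right, hirrinner hA hB, if_neg hne, if_neg (hAnegB χ hχ), neg_zero]
    · rw [classInner_neg_left, hirrinner hB hA, if_neg hne.symm,
        if_neg (fun h => hAnegB χ hχ h.symm), neg_zero]
    · rw [classInner_neg_left, classInner_neg_right, hirrinner hB hB, if_pos rfl, if_pos rfl, neg_neg]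
  · intro χ hχ α hα
    obtain ⟨hA, hB, _, _⟩ := hAB χ hχ
    simp only [Finset.mem_insert, Finset.mem_singleton] at hα
    rcases hα with rfl | rfl
    · exact isGeneralizedCharacter_of_isCharacter (IsIrrCharacter.isCharacter hA)
    · exact genChar_neg (isGeneralizedCharacter_of_isCharacter (IsIrrCharacter.isCharacter hB))
  · intro χ hχ
    obtain ⟨_, _, _, heq⟩ := hAB χ hχ
    rw [heq, Finset.sum_pair (hAnegB χ hχ), sub_eq_add_neg]
  · intro χ hχ φ hφ h1 h2
    obtain ⟨hA, hB, hne, heq⟩ := hAB χ hχ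
    obtain ⟨hA', hB', hne', heq'⟩ := hAB φ hφ
    have hφχ : φ ≠ χ := by
      intro h
      rw [h, hinner χ hχ χ hχ, if_pos rfl] at h1
      exact one_ne_zero h1
    have hφχbar : φ ≠ conjFun χ := by
      intro h
      rw [h, hinner _ (hconj χ hχ).1 _ (hconj χ hχ).1, if_pos rfl] at h2
      exact one_ne_zero h2
    have hφbarχ : conjFun φ ≠ χ := by
      intro h
      apply hφχbar
      rw [← h, hconjconj]
    have hφbarχbar : conjFun φ ≠ conjFun χ := by
      intro h
      apply hφχ
      rw [← hconjconj φ, h, hconjconj]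
    have h0 : classInner (A φ - Bf φ) (A χ - Bf χ) = 0 := by
      rw [← heq, ← heq', hτ.2.2.1 _ (hvE φ hφ) _ (hvE χ hχ), hvv φ hφ χ hχ, if_neg hφχ,
        if_neg hφχbar, if_neg hφbarχ, if_neg hφbarχbar]
      norm_num
    rw [classInner_sub_sub_irr hA' hB' hA hB] at h0
    have hAA : A φ ≠ A χ := by
      intro h
      rw [if_pos h] at h0
      by_cases h3 : A φ = Bf χ
      · exact hne (h.symm.trans h3)
      · rw [if_neg h3] at h0
        by_cases h4 : Bf φ = A χ
        · exact hne' (h.trans h4.symm)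
        · rw [if_neg h4] at h0
          by_cases h5 : Bf φ = Bf χ
          · rw [if_pos h5] at h0; norm_num at h0
          · rw [if_neg h5] at h0; norm_num at h0
    have hBB : Bf φ ≠ Bf χ := by
      intro h
      rw [if_neg hAA, if_pos h] at h0
      by_cases h3 : A φ = Bf χ
      · exact hne' (h3.trans h.symm)
      · rw [if_neg h3] at h0
        by_cases h4 : Bf φ = A χ
        · exact hne (h4.symm.trans h)
        · rw [if_neg h4] at h0; norm_num at h0
    rw [if_neg hAA, if_neg hBB] at h0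
    have hAB' : A φ ≠ Bf χ := by
      intro h
      rw [if_pos h] at h0
      by_cases h4 : Bf φ = A χ
      · rw [if_pos h4] at h0; norm_num at h0
      · rw [if_neg h4] at h0; norm_num at h0
    rw [if_neg hAB'] at h0
    have hBA' : Bf φ ≠ A χ := by
      intro h
      rw [if_pos h] at h0; norm_num at h0
    intro α hα β hβ
    simp only [Finset.mem_insert, Finset.mem_singleton] at hα hβ
    rcases hα with rfl | rfl <;> rcases hβ with rfl | rfl
    · rw [hirrinner hA' hA, if_neg hAA]
    · rw [classInner_neg_right, hirrinner hA' hB, if_neg hAB', neg_zero]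
    · rw [classInner_neg_left, hirrinner hB' hA, if_neg hBA', neg_zero]
    · rw [classInner_neg_left, classInner_neg_right, hirrinner hB' hB, if_neg hBB, neg_zero, neg_zero]

end Cfsg.Agent.S1514
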