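import Cfsg.Statements.S1522
import Cfsg.Agent.S1521
import Cfsg.Agent.Lib.Helper8.PFLower
import Cfsg.Agent.Lib.Helper8.PFCount
import Cfsg.Agent.Lib.Helper8.PFArith

set_option autoImplicit false
open Cfsg

namespace Cfsg.Agent.S1522

open Cfsg.Agent.CharLib Cfsg.Agent.Lib.Helper10 Cfsg.Agent.Lib.Helper8.PFCentral
  Cfsg.Agent.Lib.Helper8.PFCount Cfsg.Agent.Lib.Helper8.PFLower Cfsg.Agent.Lib.Helper8.PFArith in
attribute [local instance] fintypeIrr in
set_option maxHeartbeats 1600000 in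
/-- Let K be a nilpotent normal subgroup of the finite group L of odd order with [K,K] < K < L and L/[K,K] a Frobenius group with kernel K/[K,K] (elements of K outside [K,K] are centralised modulo [K,K] only from inside K); let (S, τ, R) be a coherence system from L to G with S the functions induced from non-principal irreducible characters of K. Let Z be a nontrivial normal subgroup of L contained in the centre of K, and suppose every member of S outside S(Z) is an irreducible character of L. Then S minus S(Z) is the set of irreducible characters χ of L with χ z ≠ χ 1 for some z ∈ Z, and it is coherent. -/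
theorem result {L : Type*} [Group L] [Fintype L] {G : Type*} [Group G] [Fintype G] (K : Subgroup L) [hK : K.Normal] (hsolv : Group.IsSolvable K) (τ : (L → ℂ) → (G → ℂ)) (R : (L → ℂ) → Finset (G → ℂ)) (hS : Cfsg.IsCoherenceSystem (Cfsg.inducedIrrAbove K ⊥) τ R) (hodd : Odd (Nat.card L)) (hnil : Group.IsNilpotent K) (hH₁K : ⁅K, K⁆ < K) (hKL : K < ⊤) (hfrob : ∀ k ∈ K, k ∉ ⁅K, K⁆ → ∀ x : L, x * k * x⁻¹ * k⁻¹ ∈ ⁅K, K⁆ → x ∈ K) (Z : Subgroup L) [Z.Normal] (hZ1 : Z ≠ ⊥) (hZK : Z ≤ K) (hZc : ∀ z ∈ Z, ∀ k ∈ K, z * k = k * z) (hirr : ∀ χ ∈ Cfsg.inducedIrrAbove K ⊥ \ Cfsg.inducedIrrAbove K Z, Cfsg.IsIrrCharacter L χ) : Cfsg.inducedIrrAbove K ⊥ \ Cfsg.inducedIrrAbove K Z = {χ | Cfsg.IsIrrCharacter L χ ∧ ∃ z ∈ Z, χ z ≠ χ 1} ∧ Cfsg.IsCoherent (Cfsg.inducedIrrAbove K ⊥ \ Cfsg.inducedIrrAbove K Z) {1}ᶜ τ := by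
  classical
  have hdiffeq := diff_eq_irr K Z hZK hirr
  refine ⟨hdiffeq, ?_⟩
  -- nonempty
  have hXne : (inducedIrrAbove K ⊥ \ inducedIrrAbove K Z).Nonempty := by
    have hexz : ∃ z ∈ Z, z ≠ 1 := by
      by_contra hcon
      push Not at hcon
      exact hZ1 ((Subgroup.eq_bot_iff_forall Z).mpr hcon)
    obtain ⟨z, hz, hz1⟩ := hexz
    have hzK : (⟨z, hZK hz⟩ : K) ≠ 1 := by
      intro h
      apply hz1
      exact congrArg Subtype.val h
    have h1 := Cfsg.Agent.Lib.Helper24.sum_irr_degree_mul (G := K) ⟨z, hZK hz⟩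
    rw [if_neg hzK] at h1
    have h2 := Cfsg.Agent.Lib.Helper24.sum_irr_degree_mul (G := K) 1
    rw [if_pos rfl] at h2
    have hex : ∃ ψ : IrrCharacter K, ψ.1 ⟨z, hZK hz⟩ ≠ ψ.1 1 := by
      by_contra hcon
      push Not at hcon
      rw [Finset.sum_congr rfl (fun ψ _ => by rw [hcon ψ])] at h1
      rw [h1] at h2
      have h3 : (Fintype.card K : ℂ) ≠ 0 := by
        have : 0 < Fintype.card K := Fintype.card_pos
        exact_mod_cast this.ne'
      exact h3 h2.symm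
    obtain ⟨ψ, hψ⟩ := hex
    refine ⟨indFun K ψ.1, ?_⟩
    rw [mem_diff_iff K Z hZK]
    exact ⟨ψ.1, ψ.2, ⟨⟨z, hZK hz⟩, hz, hψ⟩, rfl⟩
  -- closed under conjugation
  have hXc : ∀ φ ∈ inducedIrrAbove K ⊥ \ inducedIrrAbove K Z,
      conjFun φ ∈ inducedIrrAbove K ⊥ \ inducedIrrAbove K Z := by
    intro φ hφ
    refine ⟨inducedIrrAbove_conj hφ.1, ?_⟩
    intro h
    apply hφ.2
    have := inducedIrrAbove_conj h
    rwa [conjFun_conjFun] at this
  by_cases hpp : ∃ p m : ℕ, p.Prime ∧ (⊥ : Subgroup L).relIndex K = p ^ m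
  · -- `K` is a `p`-group
    obtain ⟨p, m, hp, hcard⟩ := hpp
    rw [Subgroup.relIndex_bot_left] at hcard
    -- `p` is odd
    have hm0 : m ≠ 0 := by
      intro h0
      rw [h0, pow_zero] at hcard
      have hKbot : K = ⊥ := Subgroup.card_eq_one.mp hcard
      rw [hKbot] at hH₁K
      exact not_lt_bot hH₁K
    have hp3 : 3 ≤ p := by
      have h1 : p ∣ Nat.card L := by
        have h2 : p ∣ Nat.card K := by rw [hcard]; exact dvd_pow_self p hm0
        exact dvd_trans h2 (Subgroup.card_subgroup_dvd_card K)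
      have h3 : Odd p := Odd.of_dvd_nat hodd h1
      have h4 := hp.two_le
      obtain ⟨k, hk⟩ := h3
      omega
    have hcop := coprime_index K hH₁K hfrob p m hp hcard
    have hepos : 0 < K.index := Nat.pos_of_ne_zero Subgroup.index_ne_zero_of_finite
    obtain ⟨d, n, hd, hn⟩ := exists_deg_norm hS.isCharacter
    set X : Finset (L → ℂ) := seqS K ⊥ \ seqS K Z with hXdef
    have hmemX : ∀ φ, φ ∈ X ↔ φ ∈ inducedIrrAbove K ⊥ \ inducedIrrAbove K Z := by
      intro φ
      rw [hXdef, Finset.mem_sdiff, mem_seqS, mem_seqS]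
      rfl
    have hcoeX : (↑X : Set (L → ℂ)) = inducedIrrAbove K ⊥ \ inducedIrrAbove K Z := by
      ext φ
      rw [Finset.mem_coe, hmemX]
    have hXS : ∀ φ ∈ X, φ ∈ inducedIrrAbove K ⊥ := fun φ hφ => ((hmemX φ).mp hφ).1
    have hXirr : ∀ φ ∈ X, IsIrrCharacter L φ := fun φ hφ => hirr φ ((hmemX φ).mp hφ)
    have hn1 : ∀ φ ∈ X, n φ = 1 := by
      intro φ hφ
      have h1 := hn φ (hXS φ hφ)
      rw [Cfsg.Agent.CharLib.classInner_irr (hXirr φ hφ) (hXirr φ hφ), if_pos rfl] at h1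
      exact_mod_cast h1.symm
    have hX' : ∀ φ, φ ∈ X ↔ IsIrrCharacter L φ ∧ ∃ z ∈ Z, φ z ≠ φ 1 := by
      intro φ
      rw [hmemX, hdiffeq]
      rfl
    have hsum := sum_sq_X Z X hX' d (fun φ hφ => hd φ (hXS φ hφ))
    have hsum' : ∑ ξ ∈ X, (d ξ) ^ 2 = Nat.card L - Z.index := by omega
    have hdeg : ∀ ξ ∈ X, ∃ b, d ξ = K.index * p ^ b := by
      intro ξ hξ
      obtain ⟨b, hb, -⟩ := degree_of_mem_diff K Z hZK hZc p m hp hcard d (hd ξ (hXS ξ hξ))
        ((hmemX ξ).mp hξ)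
      exact ⟨b, hb⟩
    have hdiv : ∀ ξ ∈ X, ∀ b, d ξ = K.index * p ^ b → p ^ (2 * b) ∣ Nat.card L - Z.index := by
      intro ξ hξ b hb
      obtain ⟨b', hb', hdvd⟩ := degree_of_mem_diff K Z hZK hZc p m hp hcard d (hd ξ (hXS ξ hξ))
        ((hmemX ξ).mp hξ)
      have hbb : b = b' := by
        rw [hb] at hb'
        have h1 : p ^ b = p ^ b' := Nat.eq_of_mul_eq_mul_left hepos hb'
        exact Nat.pow_right_injective hp.two_le h1
      rw [hbb]
      have h2 : Z.relIndex K ∣ Z.index := ⟨K.index, (Subgroup.relIndex_mul_index hZK).symm⟩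
      have h3 : Z.index ∣ Nat.card L - Z.index :=
        Nat.dvd_sub (Subgroup.index_dvd_card Z) (dvd_refl _)
      exact dvd_trans hdvd (dvd_trans h2 h3)
    have key := key_arith X d K.index p (Nat.card L - Z.index) hp hp3 hcop hepos hdeg hsum' hdiv
    have hXne' : X.Nonempty := by
      obtain ⟨φ, hφ⟩ := hXne
      exact ⟨φ, (hmemX φ).mpr hφ⟩
    have hXc' : ∀ φ ∈ X, conjFun φ ∈ X := by
      intro φ hφ
      exact (hmemX _).mpr (hXc φ ((hmemX φ).mp hφ))
    have hres := coherent_of_lower hS d n hd hn X hXS hn1 key X.card X rfl subset_rfl hXne' hXc'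
      (fun _ _ η hη _ => hη)
    rw [hcoeX] at hres
    exact hres
  · -- `|K|` is not a prime power: Peterfalvi (6.5)
    haveI := hnil
    have h := Cfsg.Agent.S1521.result K hsolv τ R hS hodd ⊥ bot_le inferInstance (⁅K, K⁆ ⊔ ⊥) rfl
      (by rw [sup_bot_eq]; exact hH₁K) hKL (by rw [sup_bot_eq]; exact hfrob)
      (Or.inr (Or.inr (Or.inl hpp)))
    exact isCoherent_subset hS Set.sdiff_subset subset_rfl hXne hXc h

end Cfsg.Agent.S1522
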