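import Cfsg.Statements.S1523
import Cfsg.Agent.Lib.Helper24.ClassMul
import Cfsg.Agent.Lib.Helper24.IrrFacts
import Cfsg.Agent.Lib.Helper24.IntLemmas

set_option autoImplicit false
open Cfsg

namespace Cfsg.Agent.S1523

open Representation Module
open Cfsg.Agent.Lib.Helper24

/-- sums of an invariant algebraic-integer valued function over a finite set on which a finite group
acts freely are divisible by the group order -/
theorem sum_free_action {Γ X : Type*} [Group Γ] [Fintype Γ] [DecidableEq X]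
    (act : Γ → X → X) (act_one : ∀ x, act 1 x = x)
    (act_mul : ∀ a b x, act (a * b) x = act a (act b x))
    (f : X → ℂ) (hf : ∀ x, IsIntegral ℤ (f x)) :
    ∀ (S : Finset X), (∀ γ, ∀ x ∈ S, act γ x ∈ S) → (∀ γ, ∀ x ∈ S, f (act γ x) = f x) →
      (∀ γ, ∀ x ∈ S, act γ x = x → γ = 1) →
      ∃ A : ℂ, IsIntegral ℤ A ∧ ∑ x ∈ S, f x = (Fintype.card Γ : ℂ) * A := by
  intro S
  induction S using Finset.strongInduction with
  | H S ih =>
    intro hinv hfinv hfree
    rcases S.eq_empty_or_nonempty with rfl | ⟨x, hx⟩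
    · exact ⟨0, isIntegral_zero, by simp⟩
    · let O : Finset X := Finset.univ.image (fun γ => act γ x)
      have hOS : O ⊆ S := by
        intro y hy
        obtain ⟨γ, -, rfl⟩ := Finset.mem_image.mp hy
        exact hinv γ x hx
      have hxO : x ∈ O := Finset.mem_image.mpr ⟨1, Finset.mem_univ _, act_one x⟩
      have hO_inv : ∀ γ, ∀ y ∈ O, act γ y ∈ O := by
        intro γ y hy
        obtain ⟨δ, -, rfl⟩ := Finset.mem_image.mp hy
        exact Finset.mem_image.mpr ⟨γ * δ, Finset.mem_univ _, act_mul γ δ x⟩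
      have hsub : S \ O ⊂ S := by
        refine Finset.ssubset_iff_subset_ne.mpr ⟨Finset.sdiff_subset, ?_⟩
        intro h
        have : x ∈ S \ O := by rw [h]; exact hx
        exact (Finset.mem_sdiff.mp this).2 hxO
      obtain ⟨A, hA, hsum⟩ := ih (S \ O) hsub
        (by
          intro γ y hy
          obtain ⟨hyS, hyO⟩ := Finset.mem_sdiff.mp hy
          refine Finset.mem_sdiff.mpr ⟨hinv γ y hyS, ?_⟩
          intro h
          apply hyO
          have := hO_inv γ⁻¹ _ h
          rwa [← act_mul, inv_mul_cancel, act_one] at this)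
        (fun γ y hy => hfinv γ y (Finset.mem_sdiff.mp hy).1)
        (fun γ y hy => hfree γ y (Finset.mem_sdiff.mp hy).1)
      refine ⟨f x + A, (hf x).add hA, ?_⟩
      rw [← Finset.sum_sdiff hOS, hsum]
      have hinj : Set.InjOn (fun γ => act γ x) (Finset.univ : Finset Γ) := by
        intro a _ b _ hab
        have h1 : act (b⁻¹ * a) x = x := by
          rw [act_mul]
          show act b⁻¹ (act a x) = x
          have hab' : act a x = act b x := hab
          rw [hab', ← act_mul, inv_mul_cancel, act_one]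
        have := hfree _ x hx h1
        exact (inv_mul_eq_one.mp this).symm
      rw [Finset.sum_image hinj]
      have : ∀ γ ∈ (Finset.univ : Finset Γ), f (act γ x) = f x := fun γ _ => hfinv γ x hx
      rw [Finset.sum_congr rfl this, Finset.sum_const, Finset.card_univ, nsmul_eq_mul]
      ring

/-- class sums act as scalars: character form -/
theorem irr_sum_mul_conj {G : Type*} [Group G] [Fintype G] (ψ : G → ℂ) (hψ : IsIrrCharacter G ψ) (w x : G) :
    ψ 1 * ∑ a : G, ψ (w * (a * x * a⁻¹)) = (Fintype.card G : ℂ) * ψ x * ψ w := by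
  obtain ⟨n, ρ, hirr, rfl⟩ := hψ
  have hirr' : ρ.IsIrreducible := hirr
  have hpos := finrank_pos_of_isIrreducible ρ
  have hne : (finrank ℂ (Fin n → ℂ) : ℂ) ≠ 0 := by exact_mod_cast hpos.ne'
  have h1 : ∑ a : G, ρ.character (w * (a * x * a⁻¹)) =
      LinearMap.trace ℂ _ (ρ w * ∑ a : G, ρ (a * x * a⁻¹)) := by
    rw [Finset.mul_sum, map_sum]
    apply Finset.sum_congr rfl
    intro a _
    rw [← map_mul]
    rfl
  rw [h1, sum_conj_eq_smul_one ρ x, mul_smul_comm, mul_one, map_smul, smul_eq_mul, Representation.char_one]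
  show _ = _ * _ * LinearMap.trace ℂ _ (ρ w)
  field_simp


theorem centralizer_le_normalizer {G : Type*} [Group G] (p : ℕ) [Fact p.Prime] (P : Sylow p G)
    (hTI : Cfsg.IsTISubset ((P : Subgroup G) : Set G)) (u : G) (huP : u ∈ (P : Subgroup G)) (hu1 : u ≠ 1) :
    Subgroup.centralizer ({u} : Set G) ≤ Subgroup.normalizer ((P : Subgroup G) : Set G) := by
  intro c hc
  by_contra hcL
  apply hu1
  apply hTI c hcL u huP
  have h1 : u * c = c * u := Subgroup.mem_centralizer_iff.mp hc u rfl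
  have h2 : c * u * c⁻¹ = u := by rw [← h1]; group
  rw [h2]
  exact huP

theorem main_sum {G : Type*} [Group G] [Fintype G] [DecidableEq G] (p : ℕ) [Fact p.Prime] (P : Sylow p G)
    (hTI : Cfsg.IsTISubset ((P : Subgroup G) : Set G))
    (ψ : G → ℂ) (hψ : IsIrrCharacter G ψ)
    (z : G) (hzc : ∀ y ∈ (P : Subgroup G), z * y = y * z)
    (u : G) (huP : u ∈ (P : Subgroup G)) (hu1 : u ≠ 1)
    [DecidablePred (fun g => g ∉ Subgroup.normalizer ((P : Subgroup G) : Set G))] :
    ∃ A : ℂ, IsIntegral ℤ A ∧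
      ∑ g ∈ Finset.univ.filter (fun g => g ∉ Subgroup.normalizer ((P : Subgroup G) : Set G)),
          ψ (z * (g * u * g⁻¹)) =
        ((Nat.card (P : Subgroup G) : ℂ) * (Nat.card (Subgroup.centralizer ({u} : Set G)) : ℂ)) * A := by
  classical
  have hCL := centralizer_le_normalizer p P hTI u huP hu1
  have hPL : (P : Subgroup G) ≤ Subgroup.normalizer ((P : Subgroup G) : Set G) := Subgroup.le_normalizer
  letI : Fintype (P : Subgroup G) := Fintype.ofFinite _
  letI : Fintype (Subgroup.centralizer ({u} : Set G)) := Fintype.ofFinite _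
  have key := sum_free_action (Γ := ↥(P : Subgroup G) × ↥(Subgroup.centralizer ({u} : Set G))) (X := G)
    (fun γ g => (γ.1 : G) * g * ((γ.2 : G))⁻¹)
    (by intro x; simp)
    (by
      intro a b x
      simp only [Prod.fst_mul, Prod.snd_mul, Subgroup.coe_mul, mul_inv_rev]
      group)
    (fun g => ψ (z * (g * u * g⁻¹)))
    (fun g => irr_isIntegral ⟨ψ, hψ⟩ _)
    (Finset.univ.filter (fun g => g ∉ Subgroup.normalizer ((P : Subgroup G) : Set G)))
    (by
      rintro ⟨h, c⟩ g hg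
      rw [Finset.mem_filter] at hg ⊢
      refine ⟨Finset.mem_univ _, ?_⟩
      intro hmem
      apply hg.2
      have h1 : g = (h : G)⁻¹ * ((h : G) * g * (c : G)⁻¹) * (c : G) := by group
      rw [h1]
      exact Subgroup.mul_mem _ (Subgroup.mul_mem _ (Subgroup.inv_mem _ (hPL h.2)) hmem) (hCL c.2))
    (by
      rintro ⟨h, c⟩ g hg
      show ψ (z * ((h : G) * g * (c : G)⁻¹ * u * ((h : G) * g * (c : G)⁻¹)⁻¹)) = ψ (z * (g * u * g⁻¹))
      have h1 : u * (c : G) = (c : G) * u := Subgroup.mem_centralizer_iff.mp c.2 u rfl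
      have h2 : (c : G)⁻¹ * u * (c : G) = u := by rw [mul_assoc, h1]; group
      have h3 : (h : G) * g * (c : G)⁻¹ * u * ((h : G) * g * (c : G)⁻¹)⁻¹ =
          (h : G) * (g * ((c : G)⁻¹ * u * (c : G)) * g⁻¹) * (h : G)⁻¹ := by group
      rw [h3, h2]
      have h4 : z * ((h : G) * (g * u * g⁻¹) * (h : G)⁻¹) = (h : G) * (z * (g * u * g⁻¹)) * (h : G)⁻¹ := by
        rw [← mul_assoc, ← mul_assoc, hzc h h.2]
        group
      rw [h4]
      exact Cfsg.Agent.CharLib.IsCharacter.isClassFunction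
        (Cfsg.Agent.CharLib.IsIrrCharacter.isCharacter hψ) _ _)
    (by
      rintro ⟨h, c⟩ g hg hfix
      rw [Finset.mem_filter] at hg
      have hfix' : (h : G) * g * (c : G)⁻¹ = g := hfix
      have hc_eq : (c : G) = g⁻¹ * (h : G) * g := by
        have : (h : G) * g = g * (c : G) := by
          have := congrArg (· * (c : G)) hfix'
          simpa using this
        rw [mul_assoc, this]; group
      -- c lies in P
      have hQ : IsPGroup p ((P : Subgroup G).map (MulAut.conj g⁻¹).toMonoidHom) := P.2.map _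
      have hcQ : (c : G) ∈ (P : Subgroup G).map (MulAut.conj g⁻¹).toMonoidHom := by
        refine ⟨(h : G), h.2, ?_⟩
        rw [hc_eq]
        simp
      have hcP : (c : G) ∈ (P : Subgroup G) := by
        have h1 := hQ.inf_normalizer_sylow P
        have h2 := h1.le (show (c : G) ∈ _ from ⟨hcQ, hCL c.2⟩)
        exact h2.2
      have hc1 : (c : G) = 1 := by
        apply hTI g hg.2 (c : G) hcP
        have : g * (c : G) * g⁻¹ = (h : G) := by rw [hc_eq]; group
        rw [this]
        exact h.2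
      have hh1 : (h : G) = 1 := by
        have : (h : G) = g * (c : G) * g⁻¹ := by rw [hc_eq]; group
        rw [this, hc1]; group
      ext
      · exact hh1
      · exact hc1)
  obtain ⟨A, hA, hsum⟩ := key
  refine ⟨A, hA, ?_⟩
  rw [hsum, Fintype.card_prod, Nat.card_eq_fintype_card, Nat.card_eq_fintype_card]
  push_cast
  rfl


/-- an element of an odd-order subgroup cannot invert a non-identity element of that subgroup -/
theorem not_inverts_of_odd {G : Type*} [Group G] [Finite G] (L : Subgroup G) (hodd : Odd (Nat.card L))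
    (g z : G) (hg : g ∈ L) (hzL : z ∈ L) (hz1 : z ≠ 1) : g * z * g⁻¹ ≠ z⁻¹ := by
  intro hinv
  -- conjugation by even powers of g fixes z
  have heven : ∀ n : ℕ, g ^ (2 * n) * z * (g ^ (2 * n))⁻¹ = z := by
    intro n
    induction n with
    | zero => simp
    | succ n ih =>
      have h1 : g ^ (2 * (n + 1)) = g * g * g ^ (2 * n) := by
        rw [show 2 * (n + 1) = 2 + 2 * n by ring, pow_add, pow_two]
      rw [h1]
      have h2 : g * g * g ^ (2 * n) * z * (g * g * g ^ (2 * n))⁻¹ =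
          g * (g * (g ^ (2 * n) * z * (g ^ (2 * n))⁻¹) * g⁻¹) * g⁻¹ := by group
      rw [h2, ih, hinv]
      have h3 : g * z⁻¹ * g⁻¹ = (g * z * g⁻¹)⁻¹ := by group
      rw [h3, hinv, inv_inv]
  have hog : Odd (orderOf g) := by
    have h1 : orderOf g ∣ Nat.card L := by
      have := orderOf_dvd_natCard (⟨g, hg⟩ : L)
      rwa [Subgroup.orderOf_mk] at this
    exact Odd.of_dvd_nat hodd h1
  obtain ⟨k, hk⟩ := hog
  have h4 : g ^ (2 * (k + 1)) = g := by
    rw [show 2 * (k + 1) = (2 * k + 1) + 1 by ring, ← hk, pow_succ, pow_orderOf_eq_one, one_mul]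
  have h5 := heven (k + 1)
  rw [h4, hinv] at h5
  -- z⁻¹ = z so z ^ 2 = 1 and z has odd order
  have h6 : z ^ 2 = 1 := by
    rw [pow_two]
    calc z * z = z * z⁻¹ := by rw [h5]
      _ = 1 := mul_inv_cancel z
  have hoz : Odd (orderOf z) := by
    have h1 : orderOf z ∣ Nat.card L := by
      have := orderOf_dvd_natCard (⟨z, hzL⟩ : L)
      rwa [Subgroup.orderOf_mk] at this
    exact Odd.of_dvd_nat hodd h1
  have h7 : orderOf z ∣ 2 := orderOf_dvd_of_pow_eq_one h6
  have h8 : orderOf z = 1 := by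
    have hle : orderOf z ≤ 2 := Nat.le_of_dvd (by norm_num) h7
    have hpos : 0 < orderOf z := orderOf_pos z
    obtain ⟨j, hj⟩ := hoz
    omega
  exact hz1 (orderOf_eq_one_iff.mp h8)


theorem centralizer_inv {G : Type*} [Group G] (z : G) :
    Subgroup.centralizer ({z⁻¹} : Set G) = Subgroup.centralizer ({z} : Set G) := by
  ext g
  simp only [Subgroup.mem_centralizer_iff, Set.mem_singleton_iff, forall_eq]
  constructor
  · intro h
    have : z * (z⁻¹ * g) * z = z * (g * z⁻¹) * z := by rw [h]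
    have h2 : g * z = z * g := by simpa [mul_assoc] using this
    exact h2.symm
  · intro h
    have : z⁻¹ * (z * g) * z⁻¹ = z⁻¹ * (g * z) * z⁻¹ := by rw [h]
    have h2 : g * z⁻¹ = z⁻¹ * g := by simpa [mul_assoc] using this
    exact h2.symm

theorem result' {G : Type*} [Group G] [Finite G] (p : ℕ) [Fact p.Prime] (P : Sylow p G)
    (hTI : Cfsg.IsTISubset ((P : Subgroup G) : Set G))
    (hodd : Odd (Nat.card (Subgroup.normalizer ((P : Subgroup G) : Set G)))) (Z : Subgroup G)
    (hZ1 : Z ≠ ⊥) (hZP : Z ≤ P)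
    (hZn : ∀ x ∈ Subgroup.normalizer ((P : Subgroup G) : Set G), ∀ z ∈ Z, x * z * x⁻¹ ∈ Z)
    (hZc : ∀ z ∈ Z, ∀ y ∈ (P : Subgroup G), z * y = y * z)
    (ψ : G → ℂ) (hψ : Cfsg.IsIrrCharacter G ψ)
    (hconst : ∀ z ∈ Z, ∀ z' ∈ Z, z ≠ 1 → z' ≠ 1 → ψ z = ψ z') (z : G) (hz : z ∈ Z) (hz1 : z ≠ 1) :
    ∃ n d : ℤ, ψ z = n ∧ ψ 1 = d ∧ (Nat.card (P : Subgroup G) : ℤ) ∣ d - n := by
  classical
  letI : Fintype G := Fintype.ofFinite G
  set L := Subgroup.normalizer ((P : Subgroup G) : Set G) with hL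
  have hPL : (P : Subgroup G) ≤ L := Subgroup.le_normalizer
  have hzP : z ∈ (P : Subgroup G) := hZP hz
  have hzi : z⁻¹ ∈ Z := Z.inv_mem hz
  have hzi1 : z⁻¹ ≠ 1 := by simpa using hz1
  have hd : ψ 1 = ((charDegree ψ : ℕ) : ℂ) := irr_apply_one ⟨ψ, hψ⟩
  have hdpos : 0 < charDegree ψ := irr_charDegree_pos ⟨ψ, hψ⟩
  have hd0 : ψ 1 ≠ 0 := irr_apply_one_ne_zero ⟨ψ, hψ⟩
  -- (0) the value on `Z \ {1}` is an integer
  have hint : ∃ n : ℤ, ψ z = n := by
    letI : Fintype Z := Fintype.ofFinite Z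
    obtain ⟨m, hm⟩ := irr_sum_subgroup ⟨ψ, hψ⟩ Z
    have hsum : ∑ y : Z, ψ (y : G) = (Nat.card Z : ℂ) * ψ z + (ψ 1 - ψ z) := by
      have h1 : ∀ y : Z, ψ (y : G) = ψ z + (if y = 1 then (ψ 1 - ψ z) else 0) := by
        intro y
        by_cases hy : y = 1
        · rw [if_pos hy, hy]; simp
        · rw [if_neg hy, add_zero]
          apply hconst _ y.2 _ hz _ hz1
          intro h
          exact hy (Subtype.ext h)
      rw [Finset.sum_congr rfl (fun y _ => h1 y), Finset.sum_add_distrib, Finset.sum_const,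
        Finset.card_univ, nsmul_eq_mul, Finset.sum_ite_eq' Finset.univ (1 : Z)]
      simp [Nat.card_eq_fintype_card]
    have hcard : 2 ≤ Nat.card Z := by
      have : Nontrivial Z := (Subgroup.nontrivial_iff_ne_bot Z).mpr hZ1
      exact Finite.one_lt_card
    have hmain : (((Nat.card Z : ℤ) * (m : ℤ) - (charDegree ψ : ℤ) : ℤ) : ℂ) =
        (((Nat.card Z : ℤ) - 1 : ℤ) : ℂ) * ψ z := by
      push_cast
      have : (Nat.card Z : ℂ) * (m : ℂ) = (Nat.card Z : ℂ) * ψ z + (ψ 1 - ψ z) := by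
        rw [← hm]; exact hsum
      rw [this, hd]; ring
    have hb : ((Nat.card Z : ℤ) - 1) ≠ 0 := by omega
    obtain ⟨k, hk⟩ := int_dvd_of_eq_mul_isIntegral hb (irr_isIntegral ⟨ψ, hψ⟩ z) hmain
    refine ⟨k, ?_⟩
    have hb' : ((((Nat.card Z : ℤ) - 1 : ℤ)) : ℂ) ≠ 0 := by exact_mod_cast hb
    apply mul_left_cancel₀ hb'
    rw [← hmain, hk]
    push_cast
    ring
  obtain ⟨n, hn⟩ := hint
  refine ⟨n, (charDegree ψ : ℤ), hn, by rw [hd]; norm_cast, ?_⟩
  -- (1) the two class sums
  have hcentr : ∀ y ∈ (P : Subgroup G), z * y = y * z := hZc z hz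
  obtain ⟨A₁, hA₁, hS₁⟩ := main_sum p P hTI ψ hψ z hcentr z hzP hz1
  obtain ⟨A₂, hA₂, hS₂⟩ := main_sum p P hTI ψ hψ z hcentr z⁻¹ (Subgroup.inv_mem _ hzP) hzi1
  rw [centralizer_inv] at hS₂
  have hCL := centralizer_le_normalizer p P hTI z hzP hz1
  set C := Subgroup.centralizer ({z} : Set G) with hC
  have hE₁ := irr_sum_mul_conj ψ hψ z z
  have hE₂ := irr_sum_mul_conj ψ hψ z z⁻¹
  have hzinv : ψ z⁻¹ = ψ z := hconst _ hzi _ hz hzi1 hz1
  rw [hzinv] at hE₂
  have hEq : ∑ a : G, ψ (z * (a * z * a⁻¹)) = ∑ a : G, ψ (z * (a * z⁻¹ * a⁻¹)) := by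
    apply mul_left_cancel₀ hd0
    rw [hE₁, hE₂]
  -- split both sums
  rw [← Finset.sum_filter_add_sum_filter_not Finset.univ (fun g => g ∈ L),
    ← Finset.sum_filter_add_sum_filter_not Finset.univ (fun g => g ∈ L) (fun a => ψ (z * (a * z⁻¹ * a⁻¹))),
    hS₁, hS₂] at hEq
  -- the `L`-parts
  have hcardL : ((Finset.univ.filter (fun g => g ∈ L)).card : ℂ) = (Nat.card L : ℂ) := by
    rw [Nat.card_eq_fintype_card, Fintype.card_subtype]
  have hcardC : ((Finset.univ.filter (fun g => g ∈ C)).card : ℂ) = (Nat.card C : ℂ) := by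
    rw [Nat.card_eq_fintype_card, Fintype.card_subtype]
  have hL₁ : ∑ g ∈ Finset.univ.filter (fun g => g ∈ L), ψ (z * (g * z * g⁻¹)) = (Nat.card L : ℂ) * ψ z := by
    have h1 : ∀ g ∈ Finset.univ.filter (fun g => g ∈ L), ψ (z * (g * z * g⁻¹)) = ψ z := by
      intro g hg
      have hgL : g ∈ L := (Finset.mem_filter.mp hg).2
      apply hconst _ (Z.mul_mem hz (hZn g hgL z hz)) _ hz _ hz1
      intro h
      have h2 : g * z * g⁻¹ = z⁻¹ := eq_inv_of_mul_eq_one_right h
      exact not_inverts_of_odd L hodd g z hgL (hPL hzP) hz1 h2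
    rw [Finset.sum_congr rfl h1, Finset.sum_const, nsmul_eq_mul, hcardL]
  have hL₂ : ∑ g ∈ Finset.univ.filter (fun g => g ∈ L), ψ (z * (g * z⁻¹ * g⁻¹)) =
      (Nat.card L : ℂ) * ψ z + (Nat.card C : ℂ) * (ψ 1 - ψ z) := by
    have h1 : ∀ g ∈ Finset.univ.filter (fun g => g ∈ L), ψ (z * (g * z⁻¹ * g⁻¹)) =
        ψ z + (if g ∈ C then (ψ 1 - ψ z) else 0) := by
      intro g hg
      have hgL : g ∈ L := (Finset.mem_filter.mp hg).2
      by_cases hgC : g ∈ C
      · rw [if_pos hgC]
        have h2 : z * g = g * z := Subgroup.mem_centralizer_iff.mp hgC z rfl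
        have h3 : z * (g * z⁻¹ * g⁻¹) = 1 := by
          rw [← mul_assoc, ← mul_assoc, h2]; group
        rw [h3]; ring
      · rw [if_neg hgC, add_zero]
        apply hconst _ (Z.mul_mem hz (hZn g hgL _ hzi)) _ hz _ hz1
        intro h
        apply hgC
        rw [hC, Subgroup.mem_centralizer_iff]
        intro y hy
        rw [Set.mem_singleton_iff] at hy
        subst hy
        have h4 : g * y⁻¹ * g⁻¹ = y⁻¹ := by
          have := congrArg (fun t => y⁻¹ * t) h
          simpa using this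
        have h5 : g * y * g⁻¹ = y := by
          have : g * y * g⁻¹ = (g * y⁻¹ * g⁻¹)⁻¹ := by group
          rw [this, h4, inv_inv]
        calc y * g = (g * y * g⁻¹) * g := by rw [h5]
          _ = g * y := by group
    rw [Finset.sum_congr rfl h1, Finset.sum_add_distrib, Finset.sum_const, nsmul_eq_mul, hcardL,
      ← Finset.sum_filter, Finset.filter_filter, Finset.sum_const, nsmul_eq_mul]
    have : Finset.univ.filter (fun g => g ∈ L ∧ g ∈ C) = Finset.univ.filter (fun g => g ∈ C) := by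
      ext g
      simp only [Finset.mem_filter, Finset.mem_univ, true_and]
      exact ⟨fun h => h.2, fun h => ⟨hCL h, h⟩⟩
    rw [this, hcardC]
  rw [hL₁, hL₂] at hEq
  -- conclude
  have hCpos : (Nat.card C : ℂ) ≠ 0 := by
    have : 0 < Nat.card C := Nat.card_pos
    exact_mod_cast this.ne'
  have hfin : ψ 1 - ψ z = (Nat.card (P : Subgroup G) : ℂ) * (A₁ - A₂) := by
    apply mul_left_cancel₀ hCpos
    linear_combination (-1 : ℂ) * hEq
  have hPpos : ((Nat.card (P : Subgroup G) : ℤ)) ≠ 0 := by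
    have : 0 < Nat.card (P : Subgroup G) := Nat.card_pos
    exact_mod_cast this.ne'
  apply int_dvd_of_eq_mul_isIntegral hPpos (hA₁.sub hA₂)
  push_cast
  rw [← hfin, hd, hn]

/-- Let G be a finite group, p a prime, P a Sylow p-subgroup whose underlying set is a TI-subset of G, with L the set normaliser of P of odd order. Let Z ≠ ⊥ be a subgroup of P, normal in L and central in P, such that the centralisers in L of any two non-identity elements of Z have the same order. If ψ is an irreducible character of G taking the same value at all non-identity elements of Z, then for z ∈ Z, z ≠ 1, the value ψ z is an integer n with Nat.card P dividing ψ(1) − n (as integers, ψ 1 being the degree). -/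
theorem result {G : Type*} [Group G] [Finite G] (p : ℕ) [Fact p.Prime] (P : Sylow p G) (hTI : Cfsg.IsTISubset ((P : Subgroup G) : Set G)) (hodd : Odd (Nat.card (Subgroup.normalizer ((P : Subgroup G) : Set G)))) (Z : Subgroup G) (hZ1 : Z ≠ ⊥) (hZP : Z ≤ P) (hZn : ∀ x ∈ Subgroup.normalizer ((P : Subgroup G) : Set G), ∀ z ∈ Z, x * z * x⁻¹ ∈ Z) (hZc : ∀ z ∈ Z, ∀ y ∈ (P : Subgroup G), z * y = y * z) (hCL : ∀ z ∈ Z, ∀ z' ∈ Z, z ≠ 1 → z' ≠ 1 → Nat.card ↥(Subgroup.normalizer ((P : Subgroup G) : Set G) ⊓ Subgroup.centralizer ({z} : Set G)) = Nat.card ↥(Subgroup.normalizer ((P : Subgroup G) : Set G) ⊓ Subgroup.centralizer ({z'} : Set G))) (ψ : G → ℂ) (hψ : Cfsg.IsIrrCharacter G ψ) (hconst : ∀ z ∈ Z, ∀ z' ∈ Z, z ≠ 1 → z' ≠ 1 → ψ z = ψ z') (z : G) (hz : z ∈ Z) (hz1 : z ≠ 1) : ∃ n d : ℤ, ψ z = n ∧ ψ 1 = d ∧ (Nat.card (P : Subgroup G) : ℤ) ∣ d - n := by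
  exact result' p P hTI hodd Z hZ1 hZP hZn hZc ψ hψ hconst z hz hz1

end Cfsg.Agent.S1523
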