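import Cfsg.Statements.S1532
import Cfsg.Agent.S1522
import Cfsg.Agent.Lib.Helper8.TIFrobSetup
import Cfsg.Agent.Lib.Helper8.TIFrobFpf

set_option autoImplicit false
open Cfsg

namespace Cfsg.Agent.S1532

/-- `⁅K, K⁆ < K` for a nontrivial solvable subgroup -/
theorem commutator_lt_of_solvable {L : Type*} [Group L] (K : Subgroup L)
    (hs : Group.IsSolvable K) (hK1 : K ≠ ⊥) : ⁅K, K⁆ < K := by
  haveI : Nontrivial K := (Subgroup.nontrivial_iff_ne_bot K).mpr hK1
  haveI := hs
  have h1 := Group.IsSolvable.commutator_lt_top_of_nontrivial (G := K)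
  refine lt_of_le_of_ne (Subgroup.commutator_le_self K) ?_
  intro heq
  apply h1.ne
  rw [← Subgroup.map_subtype_commutator] at heq
  apply Subgroup.map_injective K.subtype_injective
  rw [heq, ← MonoidHom.range_eq_map, Subgroup.range_subtype]

open Cfsg.Agent.CharLib Cfsg.Agent.Lib.Helper10 Cfsg.Agent.Lib.Helper8.TIFrobSetup
  Cfsg.Agent.Lib.Helper8.TIFrobFpf in
set_option maxHeartbeats 1600000 in
/-- Let G be a finite group, p an odd prime and P a Sylow p-subgroup that is non-abelian, whose underlying set is a TI-subset of G, with P properly contained in its set normaliser N and C_G(x) ≤ P for every non-identity x ∈ P. Let Z be a nontrivial subgroup of the centre of P normalised by N. Then the set of irreducible characters χ of N with χ z ≠ χ 1 for some z ∈ Z is coherent for the map induced by induction from N to G. -/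
theorem result {G : Type*} [Group G] [Fintype G] (p : ℕ) [Fact p.Prime] (hp : p ≠ 2) (P : Sylow p G) (hna : ¬ IsMulCommutative (P : Subgroup G)) (hTI : Cfsg.IsTISubset ((P : Subgroup G) : Set G)) (hlt : (P : Subgroup G) < Subgroup.normalizer ((P : Subgroup G) : Set G)) (hC : ∀ k ∈ (P : Subgroup G), k ≠ 1 → Subgroup.centralizer ({k} : Set G) ≤ (P : Subgroup G)) [Fintype ↥(Subgroup.normalizer ((P : Subgroup G) : Set G))] (Z : Subgroup G) (hZ1 : Z ≠ ⊥) (hZP : ∀ z ∈ Z, z ∈ (P : Subgroup G) ∧ ∀ y ∈ (P : Subgroup G), z * y = y * z) (hZn : ∀ x ∈ Subgroup.normalizer ((P : Subgroup G) : Set G), ∀ z ∈ Z, x * z * x⁻¹ ∈ Z) : Cfsg.IsCoherent {χ : ↥(Subgroup.normalizer ((P : Subgroup G) : Set G)) → ℂ | Cfsg.IsIrrCharacter ↥(Subgroup.normalizer ((P : Subgroup G) : Set G)) χ ∧ ∃ z : ↥(Subgroup.normalizer ((P : Subgroup G) : Set G)), (z : G) ∈ Z ∧ χ z ≠ χ 1} {1}ᶜ (fun α => Cfsg.indFun (Subgroup.normalizer ((P : Subgroup G) : Set G)) α) := by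
  classical
  set K := (P : Subgroup G).subgroupOf (Subgroup.normalizer ((P : Subgroup G) : Set G)) with hKdef
  have hPN : (P : Subgroup G) ≤ Subgroup.normalizer ((P : Subgroup G) : Set G) := hlt.le
  have hcardK : Nat.card K = Nat.card (P : Subgroup G) :=
    Nat.card_congr (Subgroup.subgroupOfEquivOfLe hPN).toEquiv
  -- the centralizer condition inside `N`
  have hCN : ∀ k ∈ K, k ≠ 1 → ∀ x : ↥(Subgroup.normalizer ((P : Subgroup G) : Set G)),
      x * k = k * x → x ∈ K := by
    intro k hk hk1 x hx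
    rw [hKdef, Subgroup.mem_subgroupOf]
    apply hC (k : G) (Subgroup.mem_subgroupOf.mp hk) (fun h => hk1 (Subtype.ext h))
    rw [Subgroup.mem_centralizer_singleton_iff]
    exact congrArg Subtype.val hx
  -- `P` is not abelian, in particular nontrivial
  have hna' : ¬ ∀ a ∈ K, ∀ b ∈ K, a * b = b * a := by
    intro h
    apply hna
    refine ⟨⟨fun a b => ?_⟩⟩
    apply Subtype.ext
    have := h ⟨a.1, hPN a.2⟩ (Subgroup.mem_subgroupOf.mpr a.2) ⟨b.1, hPN b.2⟩
      (Subgroup.mem_subgroupOf.mpr b.2)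
    exact congrArg (fun z : ↥(Subgroup.normalizer ((P : Subgroup G) : Set G)) => (z : G)) this
  have hP1 : (P : Subgroup G) ≠ ⊥ := by
    intro h
    apply hna'
    intro a ha b hb
    have ha' : (a : G) ∈ (⊥ : Subgroup G) := by
      rw [← h]; exact Subgroup.mem_subgroupOf.mp ha
    have hb' : (b : G) ∈ (⊥ : Subgroup G) := by
      rw [← h]; exact Subgroup.mem_subgroupOf.mp hb
    rw [Subgroup.mem_bot] at ha' hb'
    have ha1 : a = 1 := Subtype.ext ha'
    have hb1 : b = 1 := Subtype.ext hb'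
    rw [ha1, hb1]
  have hK1 : K ≠ ⊥ := by
    intro h
    apply hna'
    intro a ha b hb
    rw [h, Subgroup.mem_bot] at ha hb
    rw [ha, hb]
  -- `K` is a `p`-group
  have hKp : IsPGroup p K := IsPGroup.comap_subtype P.isPGroup'
  obtain ⟨n, hn⟩ := IsPGroup.exists_card_eq hKp
  have hn0 : n ≠ 0 := by
    intro h0
    rw [h0, pow_zero] at hn
    exact hK1 (Subgroup.card_eq_one.mp hn)
  have hpodd : Odd p := (Fact.out : p.Prime).eq_two_or_odd'.resolve_left hp
  have hKodd : Odd (Nat.card K) := by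
    rw [hn]
    exact Odd.pow hpodd
  have hodd : Odd (Nat.card ↥(Subgroup.normalizer ((P : Subgroup G) : Set G))) :=
    odd_card_of_nonabelian_kernel K hKodd hna' hCN
  have hcop : ¬ p ∣ K.index := by
    intro hdvd
    have h1 := Cfsg.Agent.Lib.Helper2.tifrob_coprime (P : Subgroup G) hC
    rw [← hcardK, hn] at h1
    have h2 : p ∣ Nat.gcd (p ^ n) K.index := Nat.dvd_gcd (dvd_pow_self p hn0) hdvd
    rw [h1] at h2
    exact (Fact.out : p.Prime).one_lt.ne' (Nat.dvd_one.mp h2)
  have hfrob := frob_quot_fpf K p hKp hcop hCN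
  haveI hnil : Group.IsNilpotent K := IsPGroup.isNilpotent hKp
  have hsolv : Group.IsSolvable K := inferInstance
  have hH₁K : ⁅K, K⁆ < K := commutator_lt_of_solvable K hsolv hK1
  have hKL : K < ⊤ := by
    refine lt_of_le_of_ne le_top ?_
    intro h
    rw [hKdef, Subgroup.subgroupOf_eq_top] at h
    exact (not_le_of_gt hlt) h
  obtain ⟨R, hS⟩ := tifrob_cohsys (P : Subgroup G) hTI hlt hP1 hC hodd
  -- the subgroup `Z` inside `N`
  have hZP' : Z ≤ (P : Subgroup G) := fun z hz => (hZP z hz).1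
  set Zn := Z.subgroupOf (Subgroup.normalizer ((P : Subgroup G) : Set G)) with hZndef
  haveI hZnn : Zn.Normal := by
    refine ⟨fun z hz x => ?_⟩
    rw [hZndef, Subgroup.mem_subgroupOf] at hz ⊢
    exact hZn x x.2 z hz
  have hZn1 : Zn ≠ ⊥ := by
    intro h
    apply hZ1
    rw [Subgroup.eq_bot_iff_forall]
    intro z hz
    have h1 : (⟨z, hPN (hZP' hz)⟩ : ↥(Subgroup.normalizer ((P : Subgroup G) : Set G))) ∈ Zn :=
      Subgroup.mem_subgroupOf.mpr hz
    rw [h, Subgroup.mem_bot] at h1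
    exact congrArg Subtype.val h1
  have hZnK : Zn ≤ K := by
    intro z hz
    rw [hZndef, Subgroup.mem_subgroupOf] at hz
    rw [hKdef, Subgroup.mem_subgroupOf]
    exact hZP' hz
  have hZnc : ∀ z ∈ Zn, ∀ k ∈ K, z * k = k * z := by
    intro z hz k hk
    apply Subtype.ext
    exact (hZP z (Subgroup.mem_subgroupOf.mp hz)).2 k (Subgroup.mem_subgroupOf.mp hk)
  have hirr : ∀ χ ∈ inducedIrrAbove K ⊥ \ inducedIrrAbove K Zn,
      IsIrrCharacter ↥(Subgroup.normalizer ((P : Subgroup G) : Set G)) χ :=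
    fun χ hχ => (tifrob_mem_props (P : Subgroup G) hC hχ.1).1
  obtain ⟨hset, hcoh⟩ := Cfsg.Agent.S1522.result K hsolv _ R hS hodd hnil hH₁K hKL hfrob Zn hZn1
    hZnK hZnc hirr
  rw [hset] at hcoh
  exact hcoh

end Cfsg.Agent.S1532
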