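import Cfsg.Statements.S1524
import Cfsg.Agent.S1521
import Cfsg.Agent.S1532
import Cfsg.Agent.Lib.Helper8.SibMain
import Cfsg.Agent.Lib.Helper8.SibLocal

set_option autoImplicit false
open Cfsg

namespace Cfsg.Agent.S1524

open Cfsg.Agent.CharLib Cfsg.Agent.Lib.Helper10 Cfsg.Agent.Lib.Helper8.TIFrobSetup
  Cfsg.Agent.Lib.Helper8.SibFrob Cfsg.Agent.Lib.Helper8.SibLocal
  Cfsg.Agent.Lib.Helper8.SibMain in
set_option maxHeartbeats 1600000 in
/-- Let G be a finite group and H ≤ L subgroups with L of odd order, H ≠ ⊥ nilpotent and normal in L with a nontrivial complement W₁ in L (H ⊓ W₁ = ⊥, H ⊔ W₁ = L) acting on H without non-identity fixed points (L is a Frobenius group with kernel H), and suppose the underlying set of H is a TI-subset of G whose normaliser is L. Let S be the set of functions on L induced from the non-principal irreducible characters of H. Then (S, L minus 1, induction to G) is coherent. -/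
theorem result {G : Type*} [Group G] [Fintype G] (H L W₁ : Subgroup G) [Fintype L] (hodd : Odd (Nat.card L)) (hHL : H ≤ L) (hW₁L : W₁ ≤ L) (hH1 : H ≠ ⊥) (hW1 : W₁ ≠ ⊥) (hnil : Group.IsNilpotent H) (hHn : ∀ x ∈ L, ∀ h ∈ H, x * h * x⁻¹ ∈ H) (hinf : H ⊓ W₁ = ⊥) (hsup : H ⊔ W₁ = L) (hfpf : ∀ w ∈ W₁, w ≠ 1 → ∀ h ∈ H, w * h = h * w → h = 1) (hTI : Cfsg.IsTISubset (H : Set G)) (hN : Subgroup.normalizer (H : Set G) = L) : Cfsg.IsCoherent (Cfsg.inducedIrrAbove (H.subgroupOf L) ⊥) {1}ᶜ (fun α : L → ℂ => Cfsg.indFun L α) := by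
  classical
  -- the centralizer conditions
  have hloc := centralizer_inf_le H L W₁ hHL hW₁L hHn hsup hfpf
  have hC := centralizer_le_of_ti H L hTI hN hloc
  subst hN
  have hlt : H < Subgroup.normalizer (H : Set G) := by
    refine lt_of_le_of_ne hHL ?_
    intro heq
    apply hW1
    rw [← hinf]
    apply le_antisymm
    · refine le_inf ?_ le_rfl
      rw [heq]
      exact hW₁L
    · exact inf_le_right
  set K := H.subgroupOf (Subgroup.normalizer (H : Set G)) with hKdef
  have hcardK : Nat.card K = Nat.card H :=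
    Nat.card_congr (Subgroup.subgroupOfEquivOfLe hHL).toEquiv
  have hCN : ∀ k ∈ K, k ≠ 1 → ∀ x : ↥(Subgroup.normalizer (H : Set G)), x * k = k * x → x ∈ K := by
    intro k hk hk1 x hx
    rw [hKdef, Subgroup.mem_subgroupOf]
    apply hC (k : G) (Subgroup.mem_subgroupOf.mp hk) (fun h => hk1 (Subtype.ext h))
    rw [Subgroup.mem_centralizer_singleton_iff]
    exact congrArg Subtype.val hx
  have hK1 : K ≠ ⊥ := by
    intro h
    apply hH1
    rw [Subgroup.eq_bot_iff_forall]
    intro k hk
    have h1 : (⟨k, hHL hk⟩ : ↥(Subgroup.normalizer (H : Set G))) ∈ K :=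
      Subgroup.mem_subgroupOf.mpr hk
    rw [h, Subgroup.mem_bot] at h1
    exact congrArg Subtype.val h1
  have hcop : Nat.Coprime (Nat.card K) K.index := by
    have h1 := Cfsg.Agent.Lib.Helper2.tifrob_coprime H hC
    rw [← hcardK] at h1
    exact h1
  have hfrob := frob_quot_fpf_coprime K hcop hCN
  haveI hnilK : Group.IsNilpotent K := by
    haveI := hnil
    exact Group.nilpotent_of_mulEquiv (Subgroup.subgroupOfEquivOfLe hHL).symm
  have hsolv : Group.IsSolvable K := inferInstance
  have hH₁K : ⁅K, K⁆ < K := Cfsg.Agent.S1532.commutator_lt_of_solvable K hsolv hK1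
  have hKL : K < ⊤ := by
    refine lt_of_le_of_ne le_top ?_
    intro h
    rw [hKdef, Subgroup.subgroupOf_eq_top] at h
    exact (not_le_of_gt hlt) h
  by_cases hab : ∀ a ∈ K, ∀ b ∈ K, a * b = b * a
  · -- abelian kernel
    obtain ⟨R, hS⟩ := tifrob_cohsys H hTI hlt hH1 hC hodd
    have hcomm : ⁅K, K⁆ ≤ (⊥ : Subgroup ↥(Subgroup.normalizer (H : Set G))) := by
      rw [Subgroup.commutator_le]
      intro a ha b hb
      rw [Subgroup.mem_bot, commutatorElement_eq_one_iff_mul_comm]
      exact hab a ha b hb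
    exact Cfsg.Agent.S1521.result K hsolv _ R hS hodd ⊥ bot_le inferInstance (⁅K, K⁆ ⊔ ⊥) rfl
      (by rw [sup_bot_eq]; exact hH₁K) hKL (by rw [sup_bot_eq]; exact hfrob)
      (Or.inr (Or.inr (Or.inr (Or.inl hcomm))))
  · by_cases hpp : ∃ p m : ℕ, p.Prime ∧
        (⊥ : Subgroup ↥(Subgroup.normalizer (H : Set G))).relIndex K = p ^ m
    · -- nonabelian `p`-group: Sibley's argument
      obtain ⟨p, m, hp, hcard⟩ := hpp
      rw [Subgroup.relIndex_bot_left] at hcard
      haveI : Fact p.Prime := ⟨hp⟩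
      have hHp : IsPGroup p H := IsPGroup.of_card (n := m) (by rw [← hcardK, hcard])
      have hm0 : m ≠ 0 := by
        intro h0
        rw [h0, pow_zero] at hcard
        exact hK1 (Subgroup.card_eq_one.mp hcard)
      have hcop' : ¬ p ∣ H.relIndex (Subgroup.normalizer (H : Set G)) := by
        intro hdvd
        have h1 : p ∣ K.index := hdvd
        have h2 : p ∣ Nat.gcd (Nat.card K) K.index := by
          apply Nat.dvd_gcd _ h1
          rw [hcard]
          exact dvd_pow_self p hm0
        rw [hcop] at h2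
        exact hp.one_lt.ne' (Nat.dvd_one.mp h2)
      obtain ⟨P, hP⟩ := exists_sylow_eq_of_relIndex p H hHp hcop'
      subst hP
      have hna : ¬ IsMulCommutative (P : Subgroup G) := by
        intro hcomm
        apply hab
        intro a ha b hb
        apply Subtype.ext
        have h1 := hcomm.1.1 ⟨(a : G), Subgroup.mem_subgroupOf.mp ha⟩
          ⟨(b : G), Subgroup.mem_subgroupOf.mp hb⟩
        have h2 : (a : G) * (b : G) = (b : G) * (a : G) :=
          congrArg (fun z : ↥(P : Subgroup G) => (z : G)) h1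
        exact h2
      exact sibley_sylow p P hna hTI hlt hC hodd
    · -- the order of the kernel is not a prime power
      obtain ⟨R, hS⟩ := tifrob_cohsys H hTI hlt hH1 hC hodd
      exact Cfsg.Agent.S1521.result K hsolv _ R hS hodd ⊥ bot_le inferInstance (⁅K, K⁆ ⊔ ⊥) rfl
        (by rw [sup_bot_eq]; exact hH₁K) hKL (by rw [sup_bot_eq]; exact hfrob)
        (Or.inr (Or.inr (Or.inl hpp)))

end Cfsg.Agent.S1524
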