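import Cfsg.Statements.S0739
import Cfsg.Agent.Lib.Helper5.ZassOdd2

set_option autoImplicit false
open Cfsg

namespace Cfsg.Agent.S0739

/-- In a finite Zassenhaus group whose two-point stabiliser `H = G_{a,b}` has odd order `d`, and which has no normal `q`-complement for any prime `q ∣ d`, `H` is cyclic, `C_G(H) = H`, and every element swapping `a` and `b` inverts each element of `H`. -/
theorem result {G Ω : Type*} [Group G] [Finite G] [MulAction G Ω] [Fintype Ω] (hZ : Cfsg.IsZassenhausGroup G Ω) {a b : Ω} (hab : a ≠ b) (hodd : Odd (Nat.card ↥(MulAction.stabilizer G a ⊓ MulAction.stabilizer G b))) (hnil : ∀ q : ℕ, q.Prime → q ∣ Nat.card ↥(MulAction.stabilizer G a ⊓ MulAction.stabilizer G b) → ¬ ∃ N : Subgroup G, N.Normal ∧ N.index = q ^ (Nat.card G).factorization q) : IsCyclic ↥(MulAction.stabilizer G a ⊓ MulAction.stabilizer G b) ∧ Subgroup.centralizer ((MulAction.stabilizer G a ⊓ MulAction.stabilizer G b : Subgroup G)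 : Set G) = MulAction.stabilizer G a ⊓ MulAction.stabilizer G b ∧ ∀ s : G, s • a = b → s • b = a → ∀ h ∈ MulAction.stabilizer G a ⊓ MulAction.stabilizer G b, s * h * s⁻¹ = h⁻¹ := by
  classical
  obtain ⟨τ, hττ, hτa, hτb⟩ := Cfsg.Agent.Lib.Helper5.ZassOdd.exists_swap_involution hZ hab hodd
  have hinv := Cfsg.Agent.Lib.Helper5.ZassOdd.zass_inverts hZ hab hodd hnil τ hττ hτa hτb
  have hZG := Cfsg.Agent.Lib.Helper5.ZassOdd.isZGroup_two_point hZ hab hodd
  obtain ⟨E, hE⟩ : ∃ E : Subgroup G, E = MulAction.stabilizer G a ⊓ MulAction.stabilizer G b :=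
    ⟨_, rfl⟩
  rw [← hE] at hodd hinv hZG ⊢
  have hEmem : ∀ x, x ∈ E ↔ x • a = a ∧ x • b = b := by
    intro x
    rw [hE, Subgroup.mem_inf, MulAction.mem_stabilizer_iff, MulAction.mem_stabilizer_iff]
  have hcomm : ∀ x ∈ E, ∀ y ∈ E, x * y = y * x := by
    intro x hx y hy
    have h1 := hinv (x * y) (E.mul_mem hx hy)
    have h2 : τ * (x * y) * τ⁻¹ = (τ * x * τ⁻¹) * (τ * y * τ⁻¹) := by group
    rw [h2, hinv x hx, hinv y hy, mul_inv_rev] at h1
    have h3 := congrArg (fun z => z⁻¹) h1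
    simp only [mul_inv_rev, inv_inv] at h3
    exact h3.symm
  have hcyc : IsCyclic ↥E := by
    haveI := hZG
    have hnilp : Group.IsNilpotent ↥E :=
      @CommGroup.isNilpotent ↥E
        { (inferInstance : Group ↥E) with
          mul_comm := fun x y => Subtype.ext (hcomm x x.2 y y.2) }
    infer_instance
  obtain ⟨x₁, hx₁1, hx₁a, hx₁b⟩ := Cfsg.Agent.Lib.Helper5.Zass.zass_two_point_ne hZ hab
  have hx₁E : x₁ ∈ E := (hEmem x₁).mpr ⟨hx₁a, hx₁b⟩
  refine ⟨hcyc, ?_, ?_⟩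
  · apply le_antisymm
    · intro g hg
      rw [Subgroup.mem_centralizer_iff] at hg
      have h1 : g * x₁ * g⁻¹ = x₁ := by
        have := hg x₁ hx₁E
        rw [← this, mul_inv_cancel_right]
      rcases Cfsg.Agent.Lib.Helper5.ZassOdd.fix_or_swap hZ hab hx₁1 hx₁a hx₁b
        (by rw [h1]; exact hx₁a) (by rw [h1]; exact hx₁b) with ⟨hga, hgb⟩ | ⟨hga, hgb⟩
      · exact (hEmem g).mpr ⟨hga, hgb⟩
      · exfalso
        have hτgE : τ * g ∈ E :=
          (hEmem _).mpr ⟨by rw [mul_smul, hga, hτb], by rw [mul_smul, hgb, hτa]⟩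
        have h2 : (τ * g) * x₁ * (τ * g)⁻¹ = x₁ := by
          rw [hcomm (τ * g) hτgE x₁ hx₁E, mul_inv_cancel_right]
        have h3 : (τ * g) * x₁ * (τ * g)⁻¹ = τ * (g * x₁ * g⁻¹) * τ⁻¹ := by group
        rw [h3, h1, hinv x₁ hx₁E] at h2
        have h4 : (1 : ↥E) * (⟨x₁, hx₁E⟩ : ↥E) * (1 : ↥E)⁻¹ = (⟨x₁, hx₁E⟩ : ↥E)⁻¹ := by
          apply Subtype.ext
          change (1 : G) * x₁ * (1 : G)⁻¹ = x₁⁻¹
          rw [one_mul, inv_one, mul_one]
          exact h2.symm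
        have h5 := Cfsg.Agent.Lib.Helper5.OddInv.eq_one_of_conj_eq_inv hodd h4
        exact hx₁1 (congrArg Subtype.val h5)
    · intro g hg
      rw [Subgroup.mem_centralizer_iff]
      intro h hh
      exact hcomm h hh g hg
  · intro s hsa hsb h hh
    have hτsE : τ * s ∈ E :=
      (hEmem _).mpr ⟨by rw [mul_smul, hsa, hτb], by rw [mul_smul, hsb, hτa]⟩
    have e1 : s * h * s⁻¹ = τ * ((τ * s) * h * (τ * s)⁻¹) * τ⁻¹ := by
      have h1 : τ * ((τ * s) * h * (τ * s)⁻¹) * τ⁻¹ = (τ * τ) * (s * h * s⁻¹) * (τ * τ)⁻¹ := by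
        group
      rw [h1, hττ]
      group
    have e2 : (τ * s) * h * (τ * s)⁻¹ = h := by
      rw [hcomm (τ * s) hτsE h hh, mul_inv_cancel_right]
    rw [e1, e2, hinv h hh]

end Cfsg.Agent.S0739
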