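import Cfsg.Statements.S0742
import Cfsg.Agent.Lib.Helper5.ZPslC
import Cfsg.Agent.Lib.Helper5.ZPslD
import Cfsg.Agent.Lib.Helper5.ZPslE

set_option autoImplicit false
open Cfsg
open Cfsg.Agent.Lib.Helper5.ZPsl

namespace Cfsg.Agent.S0742

/-- A finite Zassenhaus group of degree `n + 1` with two-point stabilisers of even order `d` satisfying `2d ≤ n - 1` has `n = p^f` for an odd prime `p` and is isomorphic to `PSL(2, p^f)`. -/
theorem result {G Ω : Type*} [Group G] [Finite G] [MulAction G Ω] [Fintype Ω] (hZ : Cfsg.IsZassenhausGroup G Ω) {a b : Ω} (hab : a ≠ b) (heven : Even (Nat.card ↥(MulAction.stabilizer G a ⊓ MulAction.stabilizer G b))) (hd : 2 * Nat.card ↥(MulAction.stabilizer G a ⊓ MulAction.stabilizer G b) ≤ Fintype.card Ω - 2) : ∃ (p f : ℕ) (K : Type) (_ : Field K) (_ : Fintype K), p.Prime ∧ p ≠ 2 ∧ Fintype.card K = p ^ f ∧ Fintype.card Ω = p ^ f + 1 ∧ Nonempty (G ≃* Matrix.ProjectiveSpecialLinearGroup (Fin 2) K) := by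
  classical
  obtain ⟨K, iK, fK, e, hc1, hc4, he1, he2, hT, hM, hB⟩ := exists_coord hZ hab heven hd
  have hsw := swap_mul_self hZ hab heven hd
  have hinvs := swap_inverts hZ hab heven hd
  have hfx := fix_swap hZ hab heven hd
  obtain ⟨t, ht1, ht2, ht3⟩ := exists_inversion (G := G) e hc4
    (by
      intro c
      obtain ⟨g, hg1, hg2⟩ := hT c
      exact ⟨g, by rw [he1]; exact hg1, hg2⟩)
    (by
      intro s hs hsq
      obtain ⟨g, hg1, hg2, hg3⟩ := hM s hs hsq
      exact ⟨g, by rw [he1]; exact hg1, hg3⟩)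
    (by
      intro g hg
      rw [he1] at hg
      exact hB g hg)
    (by
      intro g hg1 hg2
      rw [he1, he2] at hg1 hg2
      refine ⟨hsw a b hab g hg1 hg2, fun h hh1 hh2 => ?_⟩
      rw [he1] at hh1
      rw [he2] at hh2
      exact hinvs a b hab g hg1 hg2 h hh1 hh2)
    (by
      intro x hx
      have hxa : e (some x) ≠ a := by
        rw [← he1]
        intro h
        exact Option.some_ne_none x (e.injective h)
      have hxb : e (some x) ≠ b := by
        rw [← he2]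
        intro h
        exact hx (Option.some_injective _ (e.injective h))
      obtain ⟨w, hw1, hw2, hw3⟩ := hfx (e (some x)) hxa hxb
      exact ⟨w, by rw [he1, he2]; exact hw1, by rw [he1, he2]; exact hw2, hw3⟩)
  haveI : FaithfulSMul G Ω := hZ.1
  have hneg1 : IsSquare (-1 : K) := FiniteField.isSquare_neg_one_iff.mpr (by omega)
  have hrec := psl2_of_moebius (G := G) e
    (by
      intro a' b' ha'
      obtain ⟨m, hm1, hm2, hm3⟩ := hM (a' ^ 2) (pow_ne_zero 2 ha') ⟨a', sq a'⟩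
      obtain ⟨k, hk1, hk2⟩ := hT b'
      refine ⟨k * m, ?_, fun x => ?_⟩
      · rw [mul_smul, he1, hm1, hk1]
      · rw [mul_smul, hm3, hk2])
    (by
      obtain ⟨m, hm1, hm2, hm3⟩ := hM (-1) (neg_ne_zero.mpr one_ne_zero) hneg1
      refine ⟨m * t, ?_, ?_, fun x hx => ?_⟩
      · rw [mul_smul, ht1, hm3, mul_zero]
      · rw [mul_smul, ht2, he1, hm1]
      · rw [mul_smul, ht3 x hx, hm3, neg_one_mul])
    (by
      intro g hg
      rw [he1] at hg
      obtain ⟨s, c, hs0, ⟨r, hr⟩, hsc⟩ := hB g hg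
      have hr0 : r ≠ 0 := by
        rintro rfl
        exact hs0 (by rw [hr, mul_zero])
      refine ⟨r, c, hr0, fun x => ?_⟩
      rw [hsc, hr, sq])
  obtain ⟨p, hpchar, n, hp, hKcard⟩ := FiniteField.card' K
  refine ⟨p, n, K, iK, fK, hp, ?_, hKcard, ?_, hrec⟩
  · rintro rfl
    have h1 : Even (2 ^ (n : ℕ)) := Nat.even_pow.mpr ⟨even_two, n.ne_zero⟩
    rw [← hKcard, Nat.even_iff] at h1
    omega
  · rw [← hc1, hKcard]

end Cfsg.Agent.S0742
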