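import Cfsg.Statements.S0054
-- import your own Cfsg.Agent.* helpers here
import Mathlib

set_option autoImplicit false
open Cfsg

namespace Cfsg.Agent.S0054

open Subgroup

/-- A regular normal subgroup of a finite 2-transitive group is elementary abelian: it is commutative and all its elements have order dividing one prime. -/
theorem result {G : Type*} [Group G] [Finite G]
    {X : Type*} [Nonempty X] [MulAction G X] (h2 : MulAction.IsMultiplyPretransitive G X 2)
    (N : Subgroup G) [N.Normal] (htrans : MulAction.IsPretransitive N X) (hreg : ∀ x : X, MulAction.stabilizer N x = ⊥) :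
    IsMulCommutative N ∧ ∃ p : ℕ, p.Prime ∧ ∀ n ∈ N, n ^ p = 1 := by
  classical
  obtain ⟨x₀⟩ : Nonempty X := inferInstance
  have hNn : N.Normal := inferInstance
  have hregular : ∀ n ∈ N, n • x₀ = x₀ → n = 1 := by
    intro n hn h
    have h1 : (⟨n, hn⟩ : N) ∈ MulAction.stabilizer N x₀ := by
      rw [MulAction.mem_stabilizer_iff]; exact h
    rw [hreg x₀, Subgroup.mem_bot] at h1
    exact congrArg Subtype.val h1
  have h2' : ∀ {a b c d : X}, a ≠ b → c ≠ d → ∃ g : G, g • a = c ∧ g • b = d :=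
    MulAction.is_two_pretransitive_iff.mp h2
  have hconj : ∀ n ∈ N, ∀ m ∈ N, n ≠ 1 → m ≠ 1 → ∃ g : G, g * n * g⁻¹ = m := by
    intro n hn m hm hn1 hm1
    have hnx : x₀ ≠ n • x₀ := fun h => hn1 (hregular n hn h.symm)
    have hmx : x₀ ≠ m • x₀ := fun h => hm1 (hregular m hm h.symm)
    obtain ⟨g, hg1, hg2⟩ := h2' hnx hmx
    refine ⟨g, ?_⟩
    have hg1' : g⁻¹ • x₀ = x₀ := by rw [inv_smul_eq_iff, hg1]
    have h3 : (m⁻¹ * (g * n * g⁻¹)) • x₀ = x₀ := by
      rw [mul_smul, mul_smul, mul_smul, hg1', hg2, inv_smul_smul]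
    have h4 : m⁻¹ * (g * n * g⁻¹) ∈ N := N.mul_mem (N.inv_mem hm) (hNn.conj_mem n hn g)
    have h5 := hregular _ h4 h3
    exact (inv_mul_eq_one.mp h5).symm
  by_cases hbot : N = ⊥
  · constructor
    · apply IsMulCommutative.of_comm
      intro a b
      have ha : a = 1 := by
        apply Subtype.ext
        have h1 : ∀ g : G, g ∈ N → g = 1 := fun g hg => by
          rw [hbot, Subgroup.mem_bot] at hg; exact hg
        exact h1 a a.2
      rw [ha, one_mul, mul_one]
    · refine ⟨2, Nat.prime_two, fun n hn => ?_⟩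
      rw [hbot, Subgroup.mem_bot] at hn
      rw [hn, one_pow]
  · have hcard : 1 < Nat.card N := (Subgroup.one_lt_card_iff_ne_bot N).mpr hbot
    obtain ⟨p, hp, hpd⟩ := Nat.exists_prime_and_dvd (ne_of_gt hcard)
    have : Fact p.Prime := ⟨hp⟩
    obtain ⟨n₀, hn₀⟩ := exists_prime_orderOf_dvd_card' (G := N) p hpd
    have hn₀' : orderOf (n₀ : G) = p := by rw [Subgroup.orderOf_coe]; exact hn₀
    have hn₀1 : (n₀ : G) ≠ 1 := by
      intro h; rw [h, orderOf_one] at hn₀'; exact hp.ne_one hn₀'.symm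
    have hn₀p : (n₀ : G) ^ p = 1 := hn₀' ▸ pow_orderOf_eq_one _
    have hpow : ∀ n ∈ N, n ^ p = 1 := by
      intro n hn
      by_cases hn1 : n = 1
      · rw [hn1, one_pow]
      · obtain ⟨g, rfl⟩ := hconj n₀ n₀.2 n hn hn₀1 hn1
        rw [conj_pow, hn₀p, mul_one, mul_inv_cancel]
    refine ⟨?_, p, hp, hpow⟩
    have hNp : IsPGroup p N := by
      intro n
      refine ⟨1, Subtype.ext ?_⟩
      rw [pow_one]
      simpa using hpow n n.2
    have hnt : Nontrivial N := (Subgroup.nontrivial_iff_ne_bot N).mpr hbot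
    have hcnt : Nontrivial (Subgroup.center N) := hNp.center_nontrivial
    obtain ⟨z, hz1⟩ := exists_ne (1 : Subgroup.center N)
    have hzc : ∀ m : N, m * (z : N) = (z : N) * m := fun m => Subgroup.mem_center_iff.mp z.2 m
    have hzG1 : ((z : N) : G) ≠ 1 := by
      intro h
      apply hz1
      apply Subtype.ext
      apply Subtype.ext
      exact h
    apply IsMulCommutative.of_comm
    intro a b
    by_cases ha1 : (a : G) = 1
    · have : a = 1 := Subtype.ext ha1
      rw [this, one_mul, mul_one]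
    · obtain ⟨g, hg⟩ := hconj ((z : N) : G) (z : N).2 a a.2 hzG1 ha1
      apply Subtype.ext
      have hb' : g⁻¹ * (b : G) * g ∈ N := by
        have := hNn.conj_mem (b : G) b.2 g⁻¹
        rwa [inv_inv] at this
      have hc := congrArg Subtype.val (hzc ⟨g⁻¹ * (b : G) * g, hb'⟩)
      have hc' : g⁻¹ * (b : G) * g * ((z : N) : G) = ((z : N) : G) * (g⁻¹ * (b : G) * g) := hc
      show (a : G) * (b : G) = (b : G) * (a : G)
      rw [← hg]
      calc g * ((z : N) : G) * g⁻¹ * (b : G) = g * (((z : N) : G) * (g⁻¹ * (b : G) * g)) * g⁻¹ := by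
            group
        _ = g * (g⁻¹ * (b : G) * g * ((z : N) : G)) * g⁻¹ := by rw [hc']
        _ = (b : G) * (g * ((z : N) : G) * g⁻¹) := by group

end Cfsg.Agent.S0054
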