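import Cfsg.Statements.S0680
import Mathlib

set_option autoImplicit false
open Cfsg

namespace Cfsg.Agent.S0680

section Aux

open MulAction

variable {α : Type*} [Fintype α] [DecidableEq α] (G : Subgroup (Equiv.Perm α))

/-- sharpness at the level of points -/
lemma sharp (hsharp : ∀ x : Fin 2 ↪ α, MulAction.stabilizer G x = ⊥) (g : G) (a b : α)
    (hab : a ≠ b) (ha : g • a = a) (hb : g • b = b) : g = 1 := by
  have hinj : Function.Injective ![a, b] := by
    intro i j hij
    fin_cases i <;> fin_cases j <;> simp_all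
  let x : Fin 2 ↪ α := ⟨![a, b], hinj⟩
  have hg : g ∈ MulAction.stabilizer G x := by
    rw [MulAction.mem_stabilizer_iff]
    ext i
    change g • (x i) = x i
    fin_cases i
    · exact ha
    · exact hb
  rw [hsharp x] at hg
  exact Subgroup.mem_bot.1 hg

/-- a non-identity element has at most one fixed point -/
lemma card_fixedBy_le_one (hsharp : ∀ x : Fin 2 ↪ α, MulAction.stabilizer G x = ⊥) (g : G)
    (hg : g ≠ 1) : (MulAction.fixedBy α g).Subsingleton := by
  intro a ha b hb
  by_contra hab
  exact hg (sharp G hsharp g a b hab ha hb)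

/-- the order of `G` -/
lemma card_G [hG : MulAction.IsMultiplyPretransitive G α 2]
    (hsharp : ∀ x : Fin 2 ↪ α, MulAction.stabilizer G x = ⊥) (h2 : 2 ≤ Fintype.card α) :
    Nat.card G = Fintype.card α * (Fintype.card α - 1) := by
  have hne : Nonempty (Fin 2 ↪ α) := by
    rw [Function.Embedding.nonempty_iff_card_le]
    simpa using h2
  obtain ⟨x⟩ := hne
  have h1 := Subgroup.card_mul_index (MulAction.stabilizer G x)
  rw [MulAction.index_stabilizer, hsharp x, Subgroup.card_bot, one_mul] at h1
  have h4 : Nat.card G = Nat.card (Fin 2 ↪ α) := by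
    rw [← h1]
    convert Set.ncard_univ (Fin 2 ↪ α) using 2
    rw [Set.eq_univ_iff_forall]
    intro y
    obtain ⟨g, hg⟩ := hG.exists_smul_eq x y
    exact ⟨g, hg⟩
  rw [h4, Nat.card_eq_fintype_card, Fintype.card_embedding_eq, Fintype.card_fin]
  rw [Nat.descFactorial_succ, Nat.descFactorial_one, mul_comm]

/-- the number of fixed-point-free elements -/
lemma card_fpf [hG : MulAction.IsMultiplyPretransitive G α 2]
    (hsharp : ∀ x : Fin 2 ↪ α, MulAction.stabilizer G x = ⊥) (h2 : 2 ≤ Fintype.card α) :
    Set.ncard {g : G | g ≠ 1 ∧ ∀ a : α, g • a ≠ a} = Fintype.card α - 1 := by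
  classical
  haveI : Fintype G := Fintype.ofFinite G
  have : MulAction.IsPretransitive G α := MulAction.isPretransitive_of_is_two_pretransitive
  have hB := MulAction.sum_card_fixedBy_eq_card_orbits_mul_card_group G α
  have hΩ : Fintype.card (Quotient (MulAction.orbitRel G α)) = 1 := by
    rw [Fintype.card_eq_one_iff]
    have hne : Nonempty α := by
      rw [← Fintype.card_pos_iff]; omega
    obtain ⟨a⟩ := hne
    refine ⟨Quotient.mk'' a, ?_⟩
    intro y
    induction y using Quotient.inductionOn' with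
    | h b =>
      apply Quotient.sound'
      exact MulAction.exists_smul_eq G a b
  rw [hΩ, one_mul] at hB
  have hN : Fintype.card G = Fintype.card α * (Fintype.card α - 1) := by
    rw [← Nat.card_eq_fintype_card]; exact card_G G hsharp h2
  -- split off the identity
  rw [← Finset.add_sum_erase Finset.univ _ (Finset.mem_univ (1 : G))] at hB
  have h1 : Fintype.card (MulAction.fixedBy α (1 : G)) = Fintype.card α := by
    apply Fintype.card_of_subtype Finset.univ
    intro a
    simp
  have hc : ∀ g ∈ Finset.univ.erase (1 : G), Fintype.card (MulAction.fixedBy α g)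
      = if ¬ (∀ a : α, g • a ≠ a) then 1 else 0 := by
    intro g hg
    have hg1 : g ≠ 1 := (Finset.mem_erase.1 hg).1
    split_ifs with h
    · rw [Fintype.card_eq_zero_iff]
      exact ⟨fun ⟨a, ha⟩ => h a ha⟩
    · push Not at h
      obtain ⟨a, ha⟩ := h
      rw [Fintype.card_eq_one_iff]
      refine ⟨⟨a, ha⟩, ?_⟩
      rintro ⟨b, hb⟩
      apply Subtype.ext
      exact card_fixedBy_le_one G hsharp g hg1 hb ha
  rw [Finset.sum_congr rfl hc, Finset.sum_boole, h1] at hB
  have hsplit := Finset.card_filter_add_card_filter_not (s := Finset.univ.erase (1 : G))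
    (fun g : G => ∀ a : α, g • a ≠ a)
  rw [Finset.card_erase_of_mem (Finset.mem_univ _), Finset.card_univ] at hsplit
  have hset : {g : G | g ≠ 1 ∧ ∀ a : α, g • a ≠ a}
      = ↑((Finset.univ.erase (1 : G)).filter (fun g : G => ∀ a : α, g • a ≠ a)) := by
    ext g
    simp
  rw [hset, Set.ncard_coe_finset]
  have hn1 : Fintype.card α - 1 + 1 = Fintype.card α := by omega
  have hpos : 1 ≤ Fintype.card G := Fintype.card_pos
  have hN' : Fintype.card G = Fintype.card α * (Fintype.card α - 1) := hN
  have : Fintype.card α ≤ Fintype.card G := by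
    rw [hN']
    have : 1 ≤ Fintype.card α - 1 := by omega
    nlinarith
  simp only [Nat.cast_id] at hB
  omega

/-- the order of a point stabiliser -/
lemma card_stab [hG : MulAction.IsMultiplyPretransitive G α 2]
    (hsharp : ∀ x : Fin 2 ↪ α, MulAction.stabilizer G x = ⊥) (h2 : 2 ≤ Fintype.card α) (a : α) :
    Nat.card (MulAction.stabilizer G a) = Fintype.card α - 1 := by
  have : MulAction.IsPretransitive G α := MulAction.isPretransitive_of_is_two_pretransitive
  have h1 := Subgroup.card_mul_index (MulAction.stabilizer G a)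
  rw [MulAction.index_stabilizer, MulAction.orbit_eq_univ, Set.ncard_univ, card_G G hsharp h2,
    Nat.card_eq_fintype_card (α := α), mul_comm] at h1
  exact Nat.eq_of_mul_eq_mul_left (by omega) h1

/-- non-identity elements of `q`-power order, `q ∣ n`, have no fixed points -/
lemma fpf_of_pow [hG : MulAction.IsMultiplyPretransitive G α 2]
    (hsharp : ∀ x : Fin 2 ↪ α, MulAction.stabilizer G x = ⊥) (h2 : 2 ≤ Fintype.card α)
    {q : ℕ} (hq : q.Prime) (hqn : q ∣ Fintype.card α) (g : G) (k : ℕ) (hgk : g ^ (q ^ k) = 1)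
    (hg1 : g ≠ 1) (a : α) : g • a ≠ a := by
  intro ha
  apply hg1
  have hmem : g ∈ MulAction.stabilizer G a := ha
  have hd1 : orderOf g ∣ Fintype.card α - 1 := by
    rw [← card_stab G hsharp h2 a]
    exact Subgroup.orderOf_dvd_natCard _ hmem
  have hd2 : orderOf g ∣ q ^ k := orderOf_dvd_of_pow_eq_one hgk
  have hcop : Nat.Coprime (q ^ k) (Fintype.card α - 1) := by
    apply Nat.Coprime.pow_left
    have h3 : Nat.Coprime (Fintype.card α) (Fintype.card α - 1) := by
      rw [Nat.coprime_self_sub_right (by omega)]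
      exact Nat.coprime_one_right _
    exact Nat.Coprime.coprime_dvd_left hqn h3
  have := Nat.eq_one_of_dvd_coprimes hcop hd2 hd1
  exact orderOf_eq_one_iff.1 this

/-- an element of a point stabiliser commuting with a fixed-point-free element is trivial -/
lemma eq_one_of_commute_fpf (hsharp : ∀ x : Fin 2 ↪ α, MulAction.stabilizer G x = ⊥)
    (z g : G) (hz : ∀ a : α, z • a ≠ a) (a : α) (hga : g • a = a) (hgz : g * z = z * g) :
    g = 1 := by
  apply sharp G hsharp g a (z • a) (hz a).symm hga
  rw [← mul_smul, hgz, mul_smul, hga]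

/-- all fixed-point-free elements are conjugate -/
lemma conj_all [hG : MulAction.IsMultiplyPretransitive G α 2]
    (hsharp : ∀ x : Fin 2 ↪ α, MulAction.stabilizer G x = ⊥) (h2 : 2 ≤ Fintype.card α)
    (z : G) (hz1 : z ≠ 1) (hz : ∀ a : α, z • a ≠ a) (k : G) (hk1 : k ≠ 1)
    (hk : ∀ a : α, k • a ≠ a) : ∃ g : G, k = g * z * g⁻¹ := by
  have hne : Nonempty α := by
    rw [← Fintype.card_pos_iff]; omega
  obtain ⟨a⟩ := hne
  let f : MulAction.stabilizer G a → {g : G | g ≠ 1 ∧ ∀ a : α, g • a ≠ a} := fun g =>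
    ⟨(g : G) * z * (g : G)⁻¹, by
      constructor
      · intro h
        apply hz1
        have := congrArg (fun x => (g : G)⁻¹ * x * (g : G)) h
        simpa [mul_assoc] using this
      · intro b hb
        apply hz ((g : G)⁻¹ • b)
        rw [← mul_smul]
        have := congrArg (fun x => (g : G)⁻¹ • x) hb
        simp only [← mul_smul] at this
        rw [← this]
        congr 1
        group⟩
  have hinj : Function.Injective f := by
    intro g h hgh
    have h1 : (g : G) * z * (g : G)⁻¹ = (h : G) * z * (h : G)⁻¹ := congrArg Subtype.val hgh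
    have h2' : ((h : G)⁻¹ * (g : G)) * z = z * ((h : G)⁻¹ * (g : G)) := by
      have := congrArg (fun x => (h : G)⁻¹ * x * (g : G)) h1
      simp only [mul_assoc, inv_mul_cancel, mul_one, inv_mul_cancel_left] at this
      rw [mul_assoc]
      exact this
    have h3 : ((h : G)⁻¹ * (g : G)) • a = a := by
      rw [mul_smul, show (g : G) • a = a from g.2, inv_smul_eq_iff]
      exact (show (h : G) • a = a from h.2).symm
    have h4 := eq_one_of_commute_fpf G hsharp z _ hz a h3 h2'
    apply Subtype.ext
    have := congrArg (fun x => (h : G) * x) h4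
    simpa using this
  have hcard : Nat.card {g : G | g ≠ 1 ∧ ∀ a : α, g • a ≠ a}
      ≤ Nat.card (MulAction.stabilizer G a) := by
    rw [card_stab G hsharp h2 a, Nat.card_coe_set_eq, card_fpf G hsharp h2]
  obtain ⟨g, hg⟩ := (hinj.bijective_of_nat_card_le hcard).2 ⟨k, hk1, hk⟩
  exact ⟨g, (congrArg Subtype.val hg).symm⟩

/-- a central element of order `p` in a non-trivial Sylow `p`-subgroup -/
lemma center_elt {p : ℕ} [Fact p.Prime] (P : Sylow p G) (hP : Nat.card P ≠ 1) :
    ∃ z : G, z ∈ P ∧ orderOf z = p ∧ ∀ y ∈ P, y * z = z * y := by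
  have hpos : 0 < Nat.card P := Nat.card_pos
  haveI : Nontrivial P := by
    rw [← Finite.one_lt_card_iff_nontrivial]; omega
  have hPp : IsPGroup p P := P.isPGroup'
  have hcn : Nontrivial (Subgroup.center P) := hPp.center_nontrivial
  have hcp : IsPGroup p (Subgroup.center P) := hPp.to_subgroup _
  have hdvd : p ∣ Nat.card (Subgroup.center P) := by
    obtain ⟨k, hk⟩ := IsPGroup.iff_card.1 hcp
    have hk0 : k ≠ 0 := by
      rintro rfl
      rw [pow_zero] at hk
      have := Finite.one_lt_card_iff_nontrivial.2 hcn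
      omega
    rw [hk]; exact dvd_pow_self p hk0
  obtain ⟨x, hx⟩ := exists_prime_orderOf_dvd_card' p hdvd
  refine ⟨((x : P) : G), (x : P).2, ?_, ?_⟩
  · rw [Subgroup.orderOf_coe, Subgroup.orderOf_coe]
    exact hx
  · intro y hy
    have := Subgroup.mem_center_iff.1 x.2 ⟨y, hy⟩
    exact congrArg Subtype.val this

end Aux

/-- A finite sharply doubly transitive permutation group has degree a prime power `p ^ j`; a Sylow `p`-subgroup is normal, elementary abelian and regular, and consists of the identity together with the elements without fixed points. (Frobenius' Theorem is not needed.) -/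
theorem result {α : Type*} [Fintype α] [DecidableEq α] (G : Subgroup (Equiv.Perm α)) [MulAction.IsMultiplyPretransitive G α 2] (hsharp : ∀ x : Fin 2 ↪ α, MulAction.stabilizer G x = ⊥) (h2 : 2 ≤ Fintype.card α) : ∃ p j : ℕ, p.Prime ∧ 1 ≤ j ∧ Fintype.card α = p ^ j ∧ ∀ (hp : Fact p.Prime) (P : Sylow p G), (P : Subgroup G).Normal ∧ IsMulCommutative (P : Subgroup G) ∧ (∀ x ∈ (P : Subgroup G), x ^ p = 1) ∧ MulAction.IsPretransitive (P : Subgroup G) α ∧ (∀ a : α, MulAction.stabilizer (P : Subgroup G) a = ⊥) ∧ ∀ g : G, g ∈ (P : Subgroup G) ↔ g = 1 ∨ ∀ a : α, g • a ≠ a := by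
  classical
  have hn1 : Fintype.card α ≠ 1 := by omega
  obtain ⟨p, hp, hpn⟩ := Nat.exists_prime_and_dvd hn1
  haveI : Fact p.Prime := ⟨hp⟩
  have hNG := card_G G hsharp h2
  have hpG : p ∣ Nat.card G := by rw [hNG]; exact dvd_mul_of_dvd_left hpn _
  have hP1 : ∀ P : Sylow p G, Nat.card P ≠ 1 := by
    intro P h
    have := P.dvd_card_of_dvd_card hpG
    rw [h] at this
    exact hp.one_lt.ne' (Nat.dvd_one.1 this)
  have hPfpf : ∀ P : Sylow p G, ∀ g ∈ P, g ≠ 1 → ∀ a : α, g • a ≠ a := by
    intro P g hg hg1 a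
    obtain ⟨k, hk⟩ := P.isPGroup' ⟨g, hg⟩
    apply fpf_of_pow G hsharp h2 hp hpn g k _ hg1 a
    exact congrArg Subtype.val hk
  -- orders of fixed-point-free elements
  obtain ⟨P₀⟩ : Nonempty (Sylow p G) := inferInstance
  obtain ⟨z, hzP, hzo, hzc⟩ := center_elt G P₀ (hP1 P₀)
  have hz1 : z ≠ 1 := by
    rintro rfl
    rw [orderOf_one] at hzo
    exact hp.one_lt.ne hzo
  have hzf := hPfpf P₀ z hzP hz1
  have hord : ∀ k : G, k ≠ 1 → (∀ a : α, k • a ≠ a) → orderOf k = p := by
    intro k hk1 hk
    obtain ⟨g, rfl⟩ := conj_all G hsharp h2 z hz1 hzf k hk1 hk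
    rw [← hzo]
    symm
    apply SemiconjBy.orderOf_eq g
    unfold SemiconjBy
    group
  -- the degree is a power of p
  have hnpow : Fintype.card α = p ^ (Fintype.card α).primeFactorsList.length := by
    apply Nat.eq_prime_pow_of_unique_prime_dvd (by omega)
    intro q hq hqn
    haveI : Fact q.Prime := ⟨hq⟩
    have hqG : q ∣ Nat.card G := by rw [hNG]; exact dvd_mul_of_dvd_left hqn _
    obtain ⟨x, hx⟩ := exists_prime_orderOf_dvd_card' q hqG
    have hx1 : x ≠ 1 := by
      rintro rfl
      rw [orderOf_one] at hx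
      exact hq.one_lt.ne hx
    have hxf : ∀ a : α, x • a ≠ a :=
      fpf_of_pow G hsharp h2 hq hqn x 1 (by rw [pow_one, ← hx]; exact pow_orderOf_eq_one x) hx1
    rw [← hx, hord x hx1 hxf]
  set j := (Fintype.card α).primeFactorsList.length with hjdef
  have hj : 1 ≤ j := by
    by_contra h
    have : j = 0 := by omega
    rw [this, pow_zero] at hnpow
    omega
  refine ⟨p, j, hp, hj, hnpow, ?_⟩
  intro hp' P
  have hsub : (P : Set G) \ {1} ⊆ {g : G | g ≠ 1 ∧ ∀ a : α, g • a ≠ a} := by
    rintro g ⟨hgP, hg1⟩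
    exact ⟨hg1, hPfpf P g hgP hg1⟩
  have hKcard := card_fpf G hsharp h2
  have hKfin : {g : G | g ≠ 1 ∧ ∀ a : α, g • a ≠ a}.Finite := Set.toFinite _
  have hPge : Fintype.card α ∣ Nat.card P := by
    rw [hnpow]
    apply P.pow_dvd_card_of_pow_dvd_card
    rw [hNG, ← hnpow]
    exact dvd_mul_right _ _
  have hPcardS : Nat.card P = (P : Set G).ncard := (Nat.card_coe_set_eq _).symm
  have hdiff : ((P : Set G) \ {1}).ncard = (P : Set G).ncard - 1 :=
    Set.ncard_diff_singleton_of_mem (Subgroup.one_mem _)
  have hle := Set.ncard_le_ncard hsub hKfin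
  have hPpos : 0 < Nat.card P := Nat.card_pos
  have hPcard : Nat.card P = Fintype.card α := by
    have := Nat.le_of_dvd hPpos hPge
    omega
  have hKeq : (P : Set G) \ {1} = {g : G | g ≠ 1 ∧ ∀ a : α, g • a ≠ a} := by
    apply Set.eq_of_subset_of_ncard_le hsub _ hKfin
    omega
  have hmem : ∀ g : G, g ∈ (P : Subgroup G) ↔ g = 1 ∨ ∀ a : α, g • a ≠ a := by
    intro g
    constructor
    · intro hg
      by_cases hg1 : g = 1
      · exact Or.inl hg1
      · exact Or.inr (hPfpf P g hg hg1)
    · rintro (rfl | hg)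
      · exact Subgroup.one_mem _
      · have hne : Nonempty α := by
          rw [← Fintype.card_pos_iff]; omega
        obtain ⟨a⟩ := hne
        have hg1 : g ≠ 1 := by
          rintro rfl
          exact hg a (one_smul _ a)
        have : g ∈ (P : Set G) \ {1} := by
          rw [hKeq]; exact ⟨hg1, hg⟩
        exact this.1
  have hnormal : (P : Subgroup G).Normal := by
    constructor
    intro x hx g
    rw [hmem] at hx ⊢
    rcases hx with rfl | hx
    · left; group
    · right
      intro b hb
      apply hx (g⁻¹ • b)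
      have := congrArg (fun y => g⁻¹ • y) hb
      simp only [← mul_smul] at this
      rw [← mul_smul, ← this]
      congr 1
      group
  refine ⟨hnormal, ?_, ?_, ?_, ?_, hmem⟩
  · -- commutative
    obtain ⟨z', hz'P, hz'o, hz'c⟩ := center_elt G P (hP1 P)
    have hz'1 : z' ≠ 1 := by
      rintro rfl
      rw [orderOf_one] at hz'o
      exact hp.one_lt.ne hz'o
    have hz'f := hPfpf P z' hz'P hz'1
    refine ⟨⟨fun x y => ?_⟩⟩
    apply Subtype.ext
    change (x : G) * (y : G) = (y : G) * (x : G)
    by_cases hx1 : (x : G) = 1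
    · rw [hx1, one_mul, mul_one]
    · obtain ⟨g, hg⟩ := conj_all G hsharp h2 z' hz'1 hz'f (x : G) hx1 (hPfpf P _ x.2 hx1)
      have hy' : g⁻¹ * (y : G) * g ∈ (P : Subgroup G) := by
        have := hnormal.conj_mem (y : G) y.2 g⁻¹
        rwa [inv_inv] at this
      have hc := hz'c _ hy'
      rw [hg]
      calc g * z' * g⁻¹ * (y : G) = g * (z' * (g⁻¹ * (y : G) * g)) * g⁻¹ := by group
        _ = g * ((g⁻¹ * (y : G) * g) * z') * g⁻¹ := by rw [hc]
        _ = (y : G) * (g * z' * g⁻¹) := by group
  · -- exponent p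
    intro x hx
    by_cases hx1 : x = 1
    · rw [hx1, one_pow]
    · rw [← hord x hx1 (hPfpf P x hx hx1)]
      exact pow_orderOf_eq_one x
  · -- transitive
    have hne : Nonempty α := by
      rw [← Fintype.card_pos_iff]; omega
    obtain ⟨a₀⟩ := hne
    have hinj : Function.Injective (fun g : (P : Subgroup G) => (g : G) • a₀) := by
      intro g h hgh
      simp only at hgh
      by_contra hne
      have h1 : (h : G)⁻¹ * (g : G) ≠ 1 := by
        intro h1
        apply hne
        apply Subtype.ext
        have := congrArg (fun x => (h : G) * x) h1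
        simpa using this
      have h2' : (h : G)⁻¹ * (g : G) ∈ (P : Subgroup G) :=
        Subgroup.mul_mem _ (Subgroup.inv_mem _ h.2) g.2
      apply hPfpf P _ h2' h1 a₀
      rw [mul_smul, hgh, ← mul_smul, inv_mul_cancel, one_smul]
    have hbij : Function.Bijective (fun g : (P : Subgroup G) => (g : G) • a₀) := by
      apply hinj.bijective_of_nat_card_le
      rw [Nat.card_eq_fintype_card (α := α)]
      exact hPcard.ge
    constructor
    intro a b
    obtain ⟨g, hg⟩ := hbij.2 a
    obtain ⟨h, hh⟩ := hbij.2 b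
    refine ⟨h * g⁻¹, ?_⟩
    simp only at hg hh
    rw [← hg, ← hh]
    change ((h * g⁻¹ : (P : Subgroup G)) : G) • ((g : G) • a₀) = (h : G) • a₀
    rw [← mul_smul]
    congr 1
    simp
  · -- semiregular
    intro a
    rw [Subgroup.eq_bot_iff_forall]
    intro g hg
    by_contra hg1
    have hg1' : (g : G) ≠ 1 := by
      intro h
      apply hg1
      exact Subtype.ext h
    exact hPfpf P _ g.2 hg1' a hg

end Cfsg.Agent.S0680
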