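import Cfsg.Statements.S0732
import Cfsg.Agent.Lib.Helper5.PP1A
import Cfsg.Agent.Lib.Helper5.PP1B
import Cfsg.Agent.Lib.Helper5.PP1C
import Cfsg.Agent.Lib.Helper5.ZPslH
import Cfsg.Agent.Lib.Helper22.PSLCongr
import Cfsg.Agent.S0054
import Cfsg.Agent.S0680

set_option autoImplicit false
open Cfsg
open MulAction Cfsg.Agent.Lib.Helper5.PP1 Cfsg.Agent.Lib.Helper5.ZPsl Cfsg.Agent.Lib.Helper5.Zass Cfsg.Agent.Lib.Helper5.ZassOdd

namespace Cfsg.Agent.S0732

/-- a regular subgroup has as many elements as there are points -/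
theorem card_of_regular {G α : Type*} [Group G] [MulAction G α] [Fintype α] (N : Subgroup G)
    (hNt : IsPretransitive N α) (hNr : ∀ a : α, stabilizer N a = ⊥) (x : α) :
    Nat.card N = Fintype.card α := by
  rw [← Nat.card_eq_fintype_card]
  apply Nat.card_congr
  refine Equiv.ofBijective (fun n : N => n • x) ⟨?_, ?_⟩
  · intro n m h
    have h1 : (m⁻¹ * n) • x = x := by
      have h' : n • x = m • x := h
      rw [mul_smul, h', inv_smul_smul]
    have h2 : m⁻¹ * n ∈ stabilizer N x := mem_stabilizer_iff.mpr h1
    rw [hNr x, Subgroup.mem_bot] at h2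
    exact (inv_mul_eq_one.mp h2).symm
  · intro a
    exact hNt.exists_smul_eq x a

/-- A transitive permutation group on `p + 1` points (`p` prime) of order `(p+1) p d` with `d < p` is isomorphic to `PGL(2,p)` with `d = p - 1`, or to `PSL(2,p)` with `2d = p - 1`, or else `p + 1 = 2^q` for a prime `q`, `d = 1` or `d = q`, and the group is permutation-isomorphic to a group of semi-affine maps `x ↦ a φ(x) + b` of the field with `2^q` elements. -/
theorem result {α : Type*} [Fintype α] [DecidableEq α] {p d : ℕ} (hp : p.Prime) (hα : Fintype.card α = p + 1) (G : Subgroup (Equiv.Perm α)) [MulAction.IsPretransitive G α] (hG : Nat.card G = (p + 1) * p * d) (hd : d < p) : (d = p - 1 ∧ Nonempty (G ≃* Matrix.ProjGenLinGroup (Fin 2) (ZMod p))) ∨ (2 * d = p - 1 ∧ Nonempty (G ≃* Matrix.ProjectiveSpecialLinearGroup (Fin 2) (ZMod p))) ∨ (∃ q : ℕ, q.Prime ∧ p + 1 = 2 ^ q ∧ (d = 1 ∨ d = q) ∧ ∃ e : α ≃ GaloisField 2 q, ∀ g : G, (e.symm.trans (((g : Equiv.Perm α)).trans e)) ∈ Cfsg.semiaffineGroup (GaloisField 2 q)) := by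
  classical
  haveI : Fact p.Prime := ⟨hp⟩
  obtain ⟨x, u, D⟩ := exists_data hp hα G hG hd
  have hp2 := hp.two_le
  have hcard3 : 3 ≤ Nat.card α := by rw [Nat.card_eq_fintype_card, hα]; omega
  have h2 : IsMultiplyPretransitive G α 2 := D.two_trans hcard3
  haveI : Nontrivial α := Fintype.one_lt_card_iff_nontrivial.mp (by rw [hα]; omega)
  obtain ⟨y, hy⟩ := exists_ne x
  -- order of two-point stabilisers
  have hHcard' : ∀ a b : α, a ≠ b → Nat.card ↥(stabilizer G a ⊓ stabilizer G b) = d := by
    intro a b hab
    have h1 := two_trans_card h2 hab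
    rw [hG, hα] at h1
    have h3 : p + 1 - 1 = p := by omega
    rw [h3] at h1
    have hpos : 0 < (p + 1) * p := by positivity
    exact (Nat.eq_of_mul_eq_mul_left hpos h1).symm
  have hHcard : ∀ y' : α, y' ≠ x → Nat.card ↥(stabilizer G x ⊓ stabilizer G y') = d :=
    fun y' hy' => hHcard' x y' hy'.symm
  have hd0 : 0 < d := by rw [← hHcard y hy]; exact Nat.card_pos
  -- three-point stabilisers
  have h3 : ∀ g : G, ∀ a b c : α, a ≠ b → b ≠ c → a ≠ c → g • a = a → g • b = b → g • c = c →
      g = 1 := by
    intro g a b c hab hbc hac hga hgb hgc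
    obtain ⟨s, hsa, hsb⟩ : ∃ s : G, s • a = x ∧ s • b = y :=
      MulAction.is_two_pretransitive_iff.mp h2 hab hy.symm
    have hsc1 : s • c ≠ x := by
      intro h
      rw [← hsa] at h
      exact hac (MulAction.injective s h).symm
    have hsc2 : s • c ≠ y := by
      intro h
      rw [← hsb] at h
      exact hbc (MulAction.injective s h).symm
    have hconj : s * g * s⁻¹ = 1 := by
      apply D.three_point hy hsc1 (Ne.symm hsc2)
      · rw [mul_smul, mul_smul, ← hsa, inv_smul_smul, hga]
      · rw [mul_smul, mul_smul, ← hsb, inv_smul_smul, hgb]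
      · rw [mul_smul, mul_smul, inv_smul_smul, hgc]
    exact conj_eq_one_iff.mp hconj
  have hsw : ∃ t : G, t • x = y ∧ t • y = x :=
    MulAction.is_two_pretransitive_iff.mp h2 hy.symm hy
  by_cases hdp : d = p - 1
  · left
    refine ⟨hdp, ?_⟩
    have hlarge : Fintype.card α - 2 < 2 * Nat.card ↥(stabilizer G x ⊓ stabilizer G y) := by
      rw [hHcard y hy, hα, hdp]; omega
    apply pgl_of_data D hy hsw
    intro c c' hcx hcy hc'x hc'y
    exact two_point_trans_of_large h3 hy.symm hlarge hcx hcy hc'x hc'y
  · right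
    by_cases hreg : ∃ N : Subgroup G, N.Normal ∧ IsPretransitive N α ∧
        ∀ a : α, stabilizer N a = ⊥
    · right
      obtain ⟨N, hNn, hNt, hNr⟩ := hreg
      haveI := hNn
      obtain ⟨hNc, r, hr, hNr'⟩ := Cfsg.Agent.S0054.result h2 N hNt hNr
      haveI : Fact r.Prime := ⟨hr⟩
      have hNcard : Nat.card N = p + 1 := by rw [card_of_regular N hNt hNr x, hα]
      have hPG : IsPGroup r N := by
        intro n
        refine ⟨1, ?_⟩
        rw [pow_one]
        apply Subtype.ext
        rw [Subgroup.coe_pow, hNr' n n.2]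
        rfl
      obtain ⟨j, hj⟩ := (IsPGroup.iff_card (p := r) (G := N)).mp hPG
      rw [hNcard] at hj
      have hj1 : j ≠ 1 := by
        rintro rfl
        rw [pow_one] at hj
        rcases hp.eq_two_or_odd' with h | h
        · omega
        · have he : Even r := by
            rw [← hj]
            exact Odd.add_one h
          have := (hr.even_iff).mp he
          omega
      have hP : (r ^ j - 1).Prime := by
        rw [← hj]
        have : p + 1 - 1 = p := by omega
        rw [this]
        exact hp
      obtain ⟨hr2, hjp⟩ := Nat.prime_of_pow_sub_one_prime hj1 hP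
      rw [hr2] at hj
      obtain ⟨e, y', hy', hdvd, hall⟩ :=
        semiaffine_of_regular_normal D hα N hNt hNr (isMulCommutative_iff.mp hNc) hjp.ne_zero hj
      rw [hHcard y' hy'] at hdvd
      refine ⟨j, hjp, hj, (Nat.dvd_prime hjp).mp hdvd, e, fun g => ?_⟩
      obtain ⟨a, b, φ, h⟩ := hall g
      change ∃ a : (GaloisField 2 j)ˣ, ∃ b : GaloisField 2 j,
        ∃ φ : GaloisField 2 j ≃+* GaloisField 2 j,
          ∀ w, (e.symm.trans (((g : Equiv.Perm α)).trans e)) w = (a : GaloisField 2 j) * φ w + b
      exact ⟨a, b, φ, h⟩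
    · left
      have hd1 : d ≠ 1 := by
        intro hd1
        haveI := h2
        have hsharp : ∀ t : Fin 2 ↪ α, stabilizer G t = ⊥ := by
          intro t
          rw [eq_bot_iff]
          intro g hg
          rw [Subgroup.mem_bot]
          have hgt : g • t = t := mem_stabilizer_iff.mp hg
          have h0 : g • t 0 = t 0 := by
            have := DFunLike.congr_fun hgt 0
            rwa [Function.Embedding.smul_apply] at this
          have h1 : g • t 1 = t 1 := by
            have := DFunLike.congr_fun hgt 1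
            rwa [Function.Embedding.smul_apply] at this
          have hne : t 0 ≠ t 1 := fun h => by
            have := t.injective h
            exact absurd this (by decide)
          have hc := hHcard' _ _ hne
          rw [hd1] at hc
          have hbot := Subgroup.eq_bot_of_card_eq _ hc
          have hmem : g ∈ stabilizer G (t 0) ⊓ stabilizer G (t 1) :=
            Subgroup.mem_inf.mpr ⟨mem_stabilizer_iff.mpr h0, mem_stabilizer_iff.mpr h1⟩
          rw [hbot, Subgroup.mem_bot] at hmem
          exact hmem
        obtain ⟨r, j, hr, -, -, hall⟩ := Cfsg.Agent.S0680.result G hsharp (by rw [hα]; omega)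
        haveI : Fact r.Prime := ⟨hr⟩
        obtain ⟨P⟩ : Nonempty (Sylow r G) := Sylow.nonempty
        obtain ⟨hPn, -, -, hPt, hPr, -⟩ := hall ⟨hr⟩ P
        exact hreg ⟨P, hPn, hPt, hPr⟩
      have hd2 : 2 ≤ d := by omega
      have hZ : Cfsg.IsZassenhausGroup G α := by
        refine ⟨inferInstance, h2, h3, ?_, ?_⟩
        · have h1 : 1 < Nat.card ↥(stabilizer G x ⊓ stabilizer G y) := by
            rw [hHcard y hy]; omega
          haveI : Nontrivial ↥(stabilizer G x ⊓ stabilizer G y) :=
            Finite.one_lt_card_iff_nontrivial.mp h1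
          obtain ⟨h, hh⟩ := exists_ne (1 : ↥(stabilizer G x ⊓ stabilizer G y))
          have hm := Subgroup.mem_inf.mp h.2
          exact ⟨(h : G), fun h1 => hh (Subtype.ext h1), x, y, hy.symm,
            mem_stabilizer_iff.mp hm.1, mem_stabilizer_iff.mp hm.2⟩
        · intro N hNn hNt
          by_contra hcon
          push Not at hcon
          exact hreg ⟨N, hNn, hNt, hcon⟩
      have hFle : Subgroup.zpowers u ≤ stabilizer G x := by
        rw [Subgroup.zpowers_le]
        exact mem_stabilizer_iff.mpr D.fix
      have hcomm := kernel_comm_of_regular hZ x (Subgroup.zpowers u) hFle inferInstance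
        (fun y z hy hz => D.exists_unique_zpowers hy hz)
      have hineq := ineq_of_comm_kernel hZ hy.symm hcomm
      rw [hHcard y hy, hα] at hineq
      have h2d' : 2 * d = p - 1 := by
        by_contra hne
        have hlarge : Fintype.card α - 2 < 2 * Nat.card ↥(stabilizer G x ⊓ stabilizer G y) := by
          rw [hHcard y hy, hα]; omega
        have hH : ∀ c c' : α, c ≠ x → c ≠ y → c' ≠ x → c' ≠ y →
            ∃ h : G, h • x = x ∧ h • y = y ∧ h • c = c' :=
          fun c c' hcx hcy hc'x hc'y =>
            two_point_trans_of_large h3 hy.symm hlarge hcx hcy hc'x hc'y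
        have hle := le_card_of_trans D hy hH
        rw [hHcard y hy] at hle
        omega
      refine ⟨h2d', ?_⟩
      have h2d : 2 * Nat.card ↥(stabilizer G x ⊓ stabilizer G y) + 2 = Fintype.card α := by
        rw [hHcard y hy, hα]; omega
      obtain ⟨K, iK, fK, hKc, ⟨iso⟩⟩ := psl_card_of_half hZ hy.symm hcomm h2d
      have hcK : Fintype.card K = Fintype.card (ZMod p) := by
        rw [ZMod.card, ← Nat.add_right_cancel_iff (n := 1), hKc, hα]
      obtain ⟨iso2⟩ := Cfsg.Agent.Lib.Helper22.PSLCongr.nonempty_pslCongr_of_card_eq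
        (n := Fin 2) hcK
      exact ⟨iso.trans iso2⟩

end Cfsg.Agent.S0732
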