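import Cfsg.Statements.S3937
import Mathlib
import Cfsg.Agent.Lib.Helper1.Zipper
import Cfsg.Agent.Lib.Helper1.Fitting
import Cfsg.Agent.Lib.Helper20.Subnormal
-- import your own Cfsg.Agent.* helpers here

set_option autoImplicit false
open Cfsg

namespace Cfsg.Agent.S3937

open Cfsg.Agent.Lib.Helper1
open scoped Pointwise

universe u

/-- iterated commutator `[x, g, ..., g]` -/
def engelSeq {G : Type*} [Group G] (g : G) : ℕ → G → G
  | 0, x => x
  | n + 1, x => engelSeq g n x * g * (engelSeq g n x)⁻¹ * g⁻¹

theorem foldl_eq_engelSeq {G : Type*} [Group G] (g x : G) (n : ℕ) :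
    (List.replicate n g).foldl (fun a b => a * b * a⁻¹ * b⁻¹) x = engelSeq g n x := by
  induction n with
  | zero => rfl
  | succ n ih => rw [List.replicate_succ', List.foldl_append, ih]; rfl

theorem engelSeq_mem {G : Type*} [Group G] (g : G) (K : Subgroup G) (hg : g ∈ K) (x : G) (hx : x ∈ K)
    (n : ℕ) : engelSeq g n x ∈ K := by
  induction n with
  | zero => exact hx
  | succ n ih =>
    exact K.mul_mem (K.mul_mem (K.mul_mem ih hg) (K.inv_mem ih)) (K.inv_mem hg)

theorem isMaxIn_conj {G : Type*} [Group G] {M K : Subgroup G} (hM : IsMaxIn M K) {c : G} (hc : c ∈ K) :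
    IsMaxIn (MulAut.conj c • M) K := by
  have hK : ∀ d ∈ K, MulAut.conj d • K = K := fun d hd => Subgroup.conj_smul_eq_self_of_mem hd
  refine ⟨conj_smul_le_of_mem hM.1 hc, ?_, ?_⟩
  · intro he
    apply hM.2.1
    have : MulAut.conj c⁻¹ • (MulAut.conj c • M) = MulAut.conj c⁻¹ • K := by rw [he]
    rw [map_inv, inv_smul_smul, ← map_inv, hK _ (K.inv_mem hc)] at this
    exact this
  · intro L hML hLK
    have h1 : M ≤ MulAut.conj c⁻¹ • L := by
      have := Subgroup.pointwise_smul_le_pointwise_smul_iff (a := MulAut.conj c⁻¹) |>.mpr hML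
      rwa [map_inv, inv_smul_smul, ← map_inv] at this
    have h2 : MulAut.conj c⁻¹ • L ≤ K := conj_smul_le_of_mem hLK (K.inv_mem hc)
    rcases hM.2.2 _ h1 h2 with h | h
    · left
      rw [← h, map_inv, smul_inv_smul]
    · right
      have : MulAut.conj c • (MulAut.conj c⁻¹ • L) = MulAut.conj c • K := by rw [h]
      rw [map_inv, smul_inv_smul, hK _ hc] at this
      exact this

/-- relative form: a left Engel element generates a subnormal subgroup. -/
theorem engel_subIn {G : Type u} [Group G] [Finite G] (g : G) :
    ∀ (n : ℕ) (K : Subgroup G), Nat.card K = n → g ∈ K →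
      (∀ x ∈ K, ∃ m, engelSeq g m x = 1) → SubIn (Subgroup.zpowers g) K := by
  intro n
  induction n using Nat.strong_induction_on with
  | _ n ih =>
    intro K hn hgK hE
    obtain ⟨A, hA⟩ : ∃ A : Subgroup G, A = Subgroup.zpowers g := ⟨_, rfl⟩
    rw [← hA]
    have hgA : g ∈ A := hA ▸ Subgroup.mem_zpowers g
    have hAle : ∀ H : Subgroup G, g ∈ H → A ≤ H := fun H hH => by
      rw [hA, Subgroup.zpowers_le]; exact hH
    have hAK : A ≤ K := hAle K hgK
    have hyp_i : ∀ H : Subgroup G, A ≤ H → H ≤ K → H ≠ K → SubIn A H := by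
      intro H hAH hHK hHne
      have hcard : Nat.card H < n := by rw [← hn]; exact card_lt_card_of_le_of_ne hHK hHne
      have := ih _ hcard H rfl (hAH hgA) (fun x hx => hE x (hHK hx))
      rwa [← hA] at this
    by_contra hns
    have hne : A ≠ K := by
      intro he
      apply hns
      rw [← he]
      exact SubIn.refl A
    obtain ⟨M, hM, hAM⟩ := exists_isMaxIn hAK hne
    have huniq : ∀ M' : Subgroup G, IsMaxIn M' K → A ≤ M' → M' = M := fun M' hM' hAM' =>
      zipper K _ A rfl hAK hyp_i hns M' M hM' hM hAM' hAM
    have hgM : g ∈ M := hAM hgA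
    have hex : ∃ x ∈ K, x * g * x⁻¹ ∉ M := by
      by_contra hall
      push Not at hall
      obtain ⟨C, hC⟩ : ∃ C : Subgroup G, C = Subgroup.closure {y | ∃ x ∈ K, y = x * g * x⁻¹} :=
        ⟨_, rfl⟩
      have hAC : A ≤ C := by
        apply hAle
        rw [hC]
        apply Subgroup.subset_closure
        exact ⟨1, K.one_mem, by group⟩
      have hCM : C ≤ M := by
        rw [hC, Subgroup.closure_le]
        rintro y ⟨x, hx, rfl⟩
        exact hall x hx
      have hKC : K ≤ Subgroup.normalizer (C : Set G) := by
        intro k hk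
        apply mem_normalizer_of_forall_conj_mem
        intro y hy
        rw [hC] at hy ⊢
        induction hy using Subgroup.closure_induction with
        | mem y hy =>
          obtain ⟨x, hx, rfl⟩ := hy
          apply Subgroup.subset_closure
          exact ⟨k * x, K.mul_mem hk hx, by group⟩
        | one => simp
        | mul y z _ _ hy hz =>
          have : k * (y * z) * k⁻¹ = (k * y * k⁻¹) * (k * z * k⁻¹) := by group
          rw [this]
          exact Subgroup.mul_mem _ hy hz
        | inv y _ hy =>
          have : k * y⁻¹ * k⁻¹ = (k * y * k⁻¹)⁻¹ := by group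
          rw [this]
          exact Subgroup.inv_mem _ hy
      have hCK : C ≤ K := hCM.trans hM.1
      have hCne : C ≠ K := by
        intro he
        apply hM.2.1
        exact le_antisymm hM.1 (he ▸ hCM)
      exact hns ((hyp_i C hAC hCK hCne).trans (SubIn.of_le_normalizer hCK hKC))
    obtain ⟨x, hxK, hxM⟩ := hex
    -- `N_K(M) = M`
    have hNM : Subgroup.normalizer (M : Set G) ⊓ K ≤ M := by
      rcases hM.2.2 (Subgroup.normalizer (M : Set G) ⊓ K) (le_inf Subgroup.le_normalizer hM.1)
        inf_le_right with h | h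
      · exact h.le
      · exfalso
        apply hxM
        have hxN : x ∈ Subgroup.normalizer (M : Set G) := by
          have : x ∈ Subgroup.normalizer (M : Set G) ⊓ K := by rw [h]; exact hxK
          exact this.1
        exact (Subgroup.mem_normalizer_iff.mp hxN g).mp hgM
    have hcl2 : ∀ c ∈ K, c * g * c⁻¹ ∈ M → c ∈ M := by
      intro c hcK hc
      have hM'max : IsMaxIn (MulAut.conj c⁻¹ • M) K := isMaxIn_conj hM (K.inv_mem hcK)
      have hAM' : A ≤ MulAut.conj c⁻¹ • M := by
        apply hAle
        rw [mem_conj_smul_iff]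
        simpa using hc
      have heq := huniq _ hM'max hAM'
      have hcN : c⁻¹ ∈ Subgroup.normalizer (M : Set G) :=
        Subgroup.mem_normalizer_iff_map_conj_eq.mpr heq
      have := hNM ⟨hcN, K.inv_mem hcK⟩
      simpa using M.inv_mem this
    have hdown : ∀ k : ℕ, engelSeq g k x ∈ M → x ∈ M := by
      intro k
      induction k with
      | zero => exact fun h => h
      | succ k ihk =>
        intro h
        apply ihk
        apply hcl2 _ (engelSeq_mem g K hgK x hxK k)
        have : engelSeq g k x * g * (engelSeq g k x)⁻¹ = engelSeq g (k + 1) x * g := by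
          simp [engelSeq]
        rw [this]
        exact M.mul_mem h hgM
    obtain ⟨m, hm⟩ := hE x hxK
    have hxM' : x ∈ M := hdown m (hm ▸ M.one_mem)
    exact hxM (M.mul_mem (M.mul_mem hxM' hgM) (M.inv_mem hxM'))

/-- Baer's characterization of the Fitting subgroup: in a finite group G, an element g lies in the Fitting subgroup if and only if g is a left Engel element, that is, for every x there is n with [x, g, g, …, g] = 1 (n entries g, [a, b] = aba⁻¹b⁻¹). -/
theorem result {G : Type*} [Group G] [Finite G] (g : G) :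
    g ∈ Cfsg.fittingSubgroup G ↔ ∀ x : G, ∃ n : ℕ, (List.replicate n g).foldl (fun a b => a * b * a⁻¹ * b⁻¹) x = 1 := by
  simp only [foldl_eq_engelSeq]
  constructor
  · intro hg x
    have hFn : (Cfsg.fittingSubgroup G).Normal := fittingSubgroup_normal G
    have hnil : Group.IsNilpotent (Cfsg.fittingSubgroup G) := fittingSubgroup_isNilpotent G
    obtain ⟨n, hn⟩ := (Subgroup.isNilpotent_iff_lowerCentralSeries _).mp hnil
    have key : ∀ k : ℕ, engelSeq g (k + 1) x ∈ (Cfsg.fittingSubgroup G).lowerCentralSeries k := by
      intro k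
      induction k with
      | zero =>
        rw [Subgroup.lowerCentralSeries_zero]
        have h1 : x * g * x⁻¹ ∈ Cfsg.fittingSubgroup G := hFn.conj_mem g hg x
        exact Subgroup.mul_mem _ h1 (Subgroup.inv_mem _ hg)
      | succ k ih =>
        rw [Subgroup.lowerCentralSeries_succ]
        exact Subgroup.commutator_mem_commutator ih hg
    refine ⟨n + 1, ?_⟩
    have := key n
    rw [hn, Subgroup.mem_bot] at this
    exact this
  · intro hE
    have h1 : SubIn (Subgroup.zpowers g) ⊤ :=
      engel_subIn g _ ⊤ rfl (Subgroup.mem_top g) (fun x _ => hE x)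
    have h2 : (Subgroup.zpowers g).IsSubnormal := h1.isSubnormal
    have h3 : Group.IsNilpotent (Subgroup.zpowers g) := by
      have : IsCyclic (Subgroup.zpowers g) := inferInstance
      let _ : CommGroup (Subgroup.zpowers g) := IsCyclic.commGroup
      infer_instance
    exact Cfsg.Agent.Lib.Helper20.subnormal_nilpotent_le_fitting _ h2 h3 (Subgroup.mem_zpowers g)

end Cfsg.Agent.S3937
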