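import Cfsg.Statements.S4066
import Mathlib
import Cfsg.Agent.Lib.Helper21.SylowBasic
-- import your own Cfsg.Agent.* helpers here

set_option autoImplicit false
open Cfsg

namespace Cfsg.Agent.S4066

open Cfsg.Agent.Lib.Helper21
theorem mem_cent {G : Type*} [Group G] (y c : G) :
    c ∈ Subgroup.centralizer ({y} : Set G) ↔ Commute c y := by
  rw [Subgroup.mem_centralizer_iff]
  constructor
  · intro h; exact (h y rfl).symm
  · intro h z hz; rw [Set.mem_singleton_iff] at hz; rw [hz]; exact h.eq.symm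

theorem commute_conj_iff {G : Type*} [Group G] (g a b : G) :
    Commute (g * a * g⁻¹) (g * b * g⁻¹) ↔ Commute a b := by
  constructor
  · intro h
    have h1 := h.map (MulAut.conj g⁻¹)
    simp only [MulAut.conj_apply, inv_inv] at h1
    have e1 : g⁻¹ * (g * a * g⁻¹) * g = a := by group
    have e2 : g⁻¹ * (g * b * g⁻¹) * g = b := by group
    rwa [e1, e2] at h1
  · intro h
    have h1 := h.map (MulAut.conj g)
    simpa only [MulAut.conj_apply] using h1

/-- the key consequence of the TI property of centralizers -/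
theorem key_TI {G : Type*} [Group G]
    (hTI : ∀ x : G, Cfsg.IsTISubset (Subgroup.centralizer ({x} : Set G) : Set G))
    (y g t : G) (ht1 : t ≠ 1) (hty : Commute t y) (htg : Commute t (g * y * g⁻¹)) :
    g ∈ Subgroup.normalizer ((Subgroup.centralizer ({y} : Set G) : Subgroup G) : Set G) := by
  by_contra hg
  have hg' : g⁻¹ ∉ Subgroup.normalizer ((Subgroup.centralizer ({y} : Set G) : Subgroup G) : Set G) :=
    fun h => hg (by simpa using Subgroup.inv_mem _ h)
  have h1 : t ∈ ((Subgroup.centralizer ({y} : Set G) : Subgroup G) : Set G) := (mem_cent y t).mpr hty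
  have h2 : g⁻¹ * t * g⁻¹⁻¹ ∈ ((Subgroup.centralizer ({y} : Set G) : Subgroup G) : Set G) := by
    apply (mem_cent y _).mpr
    have h3 := (commute_conj_iff g⁻¹ t (g * y * g⁻¹)).mpr htg
    have e : g⁻¹ * (g * y * g⁻¹) * g⁻¹⁻¹ = y := by group
    rwa [e] at h3
  exact ht1 (hTI y g⁻¹ hg' t h1 h2)

theorem normalizer_cent {G : Type*} [Group G] (y m : G)
    (hm : m ∈ Subgroup.normalizer ((Subgroup.centralizer ({y} : Set G) : Subgroup G) : Set G)) (c : G) :
    Commute c y ↔ Commute c (m * y * m⁻¹) := by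
  have h1 := Subgroup.mem_normalizer_iff.mp (Subgroup.inv_mem _ hm) c
  rw [mem_cent, mem_cent] at h1
  rw [h1, inv_inv, ← commute_conj_iff m (m⁻¹ * c * m) y]
  have e : m * (m⁻¹ * c * m) * m⁻¹ = c := by group
  rw [e]

/-- Let G be a finite group in which the centralizer of every element meets each of its conjugates by elements outside its normalizer trivially. Then any two distinct Sylow p-subgroups of G, for any prime p, intersect trivially. -/
theorem result {G : Type*} [Group G] [Finite G] (hTI : ∀ x : G, Cfsg.IsTISubset (Subgroup.centralizer ({x} : Set G) : Set G))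
    {p : ℕ} [Fact p.Prime] (P Q : Sylow p G) (hPQ : P ≠ Q) : (P : Subgroup G) ⊓ (Q : Subgroup G) = ⊥ := by
  by_contra hne
  obtain ⟨x, hxPQ, hx1⟩ := (Subgroup.ne_bot_iff_exists_ne_one).mp hne |> fun ⟨a, ha⟩ =>
    (⟨a.1, a.2, fun h => ha (Subtype.ext h)⟩ : ∃ x : G, x ∈ (P : Subgroup G) ⊓ (Q : Subgroup G) ∧ x ≠ 1)
  have hxP : x ∈ (P : Subgroup G) := hxPQ.1
  have hxQ : x ∈ (Q : Subgroup G) := hxPQ.2
  obtain ⟨h, hh⟩ := MulAction.exists_smul_eq G P Q
  have hQmem : ∀ w : G, w ∈ (Q : Subgroup G) ↔ h⁻¹ * w * h ∈ (P : Subgroup G) := by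
    intro w; rw [← hh]; exact mem_sylow_smul_iff' P h w
  have hconjQ : ∀ y : G, y ∈ (P : Subgroup G) → h * y * h⁻¹ ∈ (Q : Subgroup G) := by
    intro y hy
    rw [hQmem]
    have e : h⁻¹ * (h * y * h⁻¹) * h = y := by group
    rwa [e]
  -- a nontrivial central element of P
  have hPnt : Nontrivial (P : Subgroup G) := ⟨⟨⟨x, hxP⟩, 1, fun h => hx1 (congrArg Subtype.val h)⟩⟩
  have hcnt := P.2.center_nontrivial
  obtain ⟨⟨z, hzc⟩, hz1⟩ := exists_ne (1 : Subgroup.center (P : Subgroup G))
  have hz1' : (z : G) ≠ 1 := by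
    intro h
    apply hz1
    apply Subtype.ext
    apply Subtype.ext
    exact h
  have hzP : ∀ y : G, y ∈ (P : Subgroup G) → Commute (z : G) y := by
    intro y hy
    have := (Subgroup.mem_center_iff.mp hzc) ⟨y, hy⟩
    have h2 := congrArg Subtype.val this
    exact h2.symm
  -- h normalizes C(z)
  have hhz : h ∈ Subgroup.normalizer ((Subgroup.centralizer ({(z : G)} : Set G) : Subgroup G) : Set G) := by
    apply key_TI hTI (z : G) h x hx1
    · exact (hzP x hxP).symm
    · -- x ∈ Q commutes with h z h⁻¹ ∈ Z(Q)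
      have e : x = h * (h⁻¹ * x * h) * h⁻¹ := by group
      rw [e, commute_conj_iff]
      exact (hzP _ ((hQmem x).mp hxQ)).symm
  -- z commutes with all of Q
  have hzQ : ∀ w : G, w ∈ (Q : Subgroup G) → Commute (z : G) w := by
    intro w hw
    have h1 : Commute w (h * (z : G) * h⁻¹) := by
      have e : w = h * (h⁻¹ * w * h) * h⁻¹ := by group
      rw [e, commute_conj_iff]
      exact (hzP _ ((hQmem w).mp hw)).symm
    exact ((normalizer_cent (z : G) h hhz w).mpr h1).symm
  -- the subgroup M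
  set M : Subgroup G := ⨅ y : {y : G // y ∈ (P : Subgroup G) ∧ y ≠ 1},
    Subgroup.normalizer ((Subgroup.centralizer ({(y : G)} : Set G) : Subgroup G) : Set G) with hM
  have memM : ∀ m : G, m ∈ M ↔ ∀ y : G, y ∈ (P : Subgroup G) → y ≠ 1 →
      m ∈ Subgroup.normalizer ((Subgroup.centralizer ({y} : Set G) : Subgroup G) : Set G) := by
    intro m
    rw [hM, Subgroup.mem_iInf]
    constructor
    · intro hm y hy hy1; exact hm ⟨y, hy, hy1⟩
    · intro hm y; exact hm y.1 y.2.1 y.2.2
  have hhM : h ∈ M := by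
    rw [memM]
    intro y hy hy1
    apply key_TI hTI y h (z : G) hz1' (hzP y hy)
    exact hzQ _ (hconjQ y hy)
  have hPM : (P : Subgroup G) ≤ M := by
    intro u hu
    rw [memM]
    intro y hy hy1
    apply key_TI hTI y u (z : G) hz1' (hzP y hy)
    exact hzP _ (P.1.mul_mem (P.1.mul_mem hu hy) (P.1.inv_mem hu))
  -- conjugates of y ∈ P under h stay in P
  have hstay : ∀ y : G, y ∈ (P : Subgroup G) → h * y * h⁻¹ ∈ (P : Subgroup G) := by
    intro y hy
    by_cases hy1 : y = 1
    · rw [hy1]; simp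
    set s : Set G := {w | ∃ m ∈ M, w = m * y * m⁻¹} with hs
    set A : Subgroup G := Subgroup.closure s with hA
    have hscomm : ∀ a ∈ s, ∀ b ∈ s, a * b = b * a := by
      rintro a ⟨m, hm, rfl⟩ b ⟨m', hm', rfl⟩
      have hmN := (memM m).mp hm y hy hy1
      have hm'N := (memM m').mp hm' y hy hy1
      -- m y m⁻¹ commutes with itself, hence with y, hence with m' y m'⁻¹
      have h1 : Commute (m * y * m⁻¹) (m * y * m⁻¹) := Commute.refl _
      have h2 : Commute (m * y * m⁻¹) y := (normalizer_cent y m hmN _).mpr h1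
      exact ((normalizer_cent y m' hm'N _).mp h2).eq
    obtain ⟨k, hk⟩ := (IsPGroup.iff_orderOf.mp P.2) ⟨y, hy⟩
    have hyk : y ^ p ^ k = 1 := by
      have := pow_orderOf_eq_one (⟨y, hy⟩ : (P : Subgroup G))
      rw [hk] at this
      exact congrArg Subtype.val this
    have hspow : ∀ a ∈ s, ∃ k : ℕ, a ^ p ^ k = 1 := by
      rintro a ⟨m, hm, rfl⟩
      refine ⟨k, ?_⟩
      rw [conj_pow, hyk]; simp
    have hAp : IsPGroup p A := isPGroup_closure_of_commute s hscomm hspow
    have hPA : (P : Subgroup G) ≤ Subgroup.normalizer (A : Set G) := by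
      rw [hA, Subgroup.le_normalizer_closure_iff]
      rintro u hu w ⟨m, hm, rfl⟩
      apply Subgroup.subset_closure
      refine ⟨u * m, M.mul_mem (hPM hu) hm, ?_⟩
      group
    have hsup : IsPGroup p ((P : Subgroup G) ⊔ A : Subgroup G) := P.2.to_sup_of_normal_right' hAp hPA
    have heq := P.is_maximal' hsup le_sup_left
    have hAP : A ≤ (P : Subgroup G) := by
      rw [← heq]; exact le_sup_right
    exact hAP (Subgroup.subset_closure ⟨h, hhM, rfl⟩)
  -- hence Q ≤ P
  have hQP : (Q : Subgroup G) ≤ (P : Subgroup G) := by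
    intro w hw
    have h1 := hstay _ ((hQmem w).mp hw)
    have e : h * (h⁻¹ * w * h) * h⁻¹ = w := by group
    rwa [e] at h1
  have := Q.is_maximal' P.2 hQP
  exact hPQ (Sylow.ext this)

end Cfsg.Agent.S4066
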