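import Cfsg.Statements.S2331
import Cfsg.Agent.Lib.Helper13.GL2Classes

set_option autoImplicit false
open Cfsg

namespace Cfsg.Agent.S2331


open Matrix Cfsg.Agent.Lib.Helper13

variable {F : Type*} [Field F]

/-- Companion matrix `[[0, -1], [1, t]]` in `SL₂`. -/
def compSL (t : F) : SpecialLinearGroup (Fin 2) F :=
  ⟨!![0, -1; 1, t], by simp [Matrix.det_fin_two]⟩

theorem compSL_coe (t : F) :
    ((compSL t : SpecialLinearGroup (Fin 2) F) : Matrix (Fin 2) (Fin 2) F) = !![0, -1; 1, t] := rfl

theorem trace_eq_of_isConj_SL {g h : SpecialLinearGroup (Fin 2) F} (hc : IsConj g h) :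
    (g : Matrix (Fin 2) (Fin 2) F).trace = (h : Matrix (Fin 2) (Fin 2) F).trace := by
  exact trace_eq_of_isConj (MonoidHom.map_isConj SpecialLinearGroup.toGL hc)

/-- In characteristic two over a finite field, a non-scalar element of `SL₂` is `SL₂`-conjugate to the
companion matrix of its trace. -/
theorem exists_conj_compSL [Fintype F] [CharP F 2] (g : SpecialLinearGroup (Fin 2) F)
    (hns : ¬ IsScalar2 (g : Matrix (Fin 2) (Fin 2) F)) :
    IsConj (compSL ((g : Matrix (Fin 2) (Fin 2) F).trace)) g := by
  obtain ⟨B, hB⟩ := exists_conj_compGL (SpecialLinearGroup.toGL g) hns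
  have hdetg : Matrix.GeneralLinearGroup.det (SpecialLinearGroup.toGL g) = 1 :=
    SpecialLinearGroup.coeToGL_det g
  rw [hdetg] at hB
  set b : Matrix (Fin 2) (Fin 2) F := (B : Matrix (Fin 2) (Fin 2) F) with hb
  have hbdet : b.det ≠ 0 := ((Matrix.isUnit_iff_isUnit_det _).mp B.isUnit).ne_zero
  obtain ⟨s, hs⟩ := FiniteField.isSquare_of_char_two (ringChar.eq F 2) (b.det)⁻¹
  have hB' : (g : Matrix (Fin 2) (Fin 2) F) * b =
      b * !![0, -1; 1, (g : Matrix (Fin 2) (Fin 2) F).trace] := by
    have := congrArg (fun x : GL (Fin 2) F => (x : Matrix (Fin 2) (Fin 2) F)) hB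
    simpa [compGL_coe] using this
  have hdet' : (s • b).det = 1 := by
    rw [Matrix.det_smul, Fintype.card_fin, pow_two, ← hs, inv_mul_cancel₀ hbdet]
  rw [isConj_iff]
  let B' : SpecialLinearGroup (Fin 2) F := ⟨s • b, hdet'⟩
  refine ⟨B', ?_⟩
  rw [mul_inv_eq_iff_eq_mul]
  apply Subtype.ext
  change (s • b) * !![0, -1; 1, (g : Matrix (Fin 2) (Fin 2) F).trace] = (g : Matrix (Fin 2) (Fin 2) F) * (s • b)
  rw [Matrix.smul_mul, Matrix.mul_smul, hB']

/-- The parametrisation of the classes of `SL₂` in characteristic two. -/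
def classOfSL2 : Option F → ConjClasses (SpecialLinearGroup (Fin 2) F)
  | none => ConjClasses.mk 1
  | some t => ConjClasses.mk (compSL t)

theorem classOfSL2_bijective [Fintype F] [CharP F 2] : Function.Bijective (classOfSL2 (F := F)) := by
  constructor
  · rintro (_ | t) (_ | t') h
    · rfl
    · exfalso
      simp only [classOfSL2, ConjClasses.mk_eq_mk_iff_isConj, isConj_one_right] at h
      have := congrArg (fun x : SpecialLinearGroup (Fin 2) F => (x : Matrix (Fin 2) (Fin 2) F) 1 0) h
      simp [compSL_coe] at this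
    · exfalso
      simp only [classOfSL2, ConjClasses.mk_eq_mk_iff_isConj, isConj_one_left] at h
      have := congrArg (fun x : SpecialLinearGroup (Fin 2) F => (x : Matrix (Fin 2) (Fin 2) F) 1 0) h
      simp [compSL_coe] at this
    · simp only [classOfSL2, ConjClasses.mk_eq_mk_iff_isConj] at h
      have := trace_eq_of_isConj_SL h
      rw [compSL_coe, compSL_coe, Matrix.trace_fin_two, Matrix.trace_fin_two] at this
      simp at this
      rw [this]
  · intro C
    obtain ⟨g, rfl⟩ := ConjClasses.exists_rep C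
    by_cases hs : IsScalar2 (g : Matrix (Fin 2) (Fin 2) F)
    · refine ⟨none, ?_⟩
      obtain ⟨h01, h10, h00⟩ := hs
      have hdet := g.2
      rw [Matrix.det_fin_two, h01, zero_mul, sub_zero, ← h00, ← pow_two] at hdet
      have ha : (g : Matrix (Fin 2) (Fin 2) F) 0 0 = 1 := by
        set x := (g : Matrix (Fin 2) (Fin 2) F) 0 0
        have : (x - 1) ^ 2 = 0 := by
          have h2' : (2 : F) = 0 := CharTwo.two_eq_zero
          calc (x - 1) ^ 2 = x ^ 2 - 2 * x + 1 := by ring
            _ = 0 := by rw [hdet, h2']; ring_nf; exact CharTwo.two_eq_zero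
        exact sub_eq_zero.mp (pow_eq_zero_iff (two_ne_zero) |>.mp this)
      have : g = 1 := by
        apply Subtype.ext
        ext i j
        fin_cases i <;> fin_cases j <;> simp [h01, h10, ha, ← h00]
      rw [this]; rfl
    · exact ⟨some _, ConjClasses.mk_eq_mk_iff_isConj.mpr (exists_conj_compSL g hs)⟩

/-- Over a finite field with q elements, q even, the special linear group SL₂ has exactly q + 1 conjugacy classes. -/
theorem result {F : Type*} [Field F] [Fintype F] [CharP F 2] :
    Nat.card (ConjClasses (Matrix.SpecialLinearGroup (Fin 2) F)) = Fintype.card F + 1 := by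
  have h := Nat.card_congr (Equiv.ofBijective _ (classOfSL2_bijective (F := F)))
  rw [← h, Nat.card_eq_fintype_card, Fintype.card_option]

end Cfsg.Agent.S2331
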