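import Cfsg.Statements.S2325
import Cfsg.Agent.Lib.Helper13.GL2Classes
import Cfsg.Agent.Lib.Helper13.SL2b
import Cfsg.Agent.S2331

set_option autoImplicit false
open Cfsg

namespace Cfsg.Agent.S2325

open Matrix Polynomial Cfsg.Agent.Lib.Helper13 Cfsg.Agent.S2331

variable {F : Type*} [Field F]

/-- The scalar matrix `e • 1` with `e * e = 1`, in `SL₂`. -/
def zSL (e : F) (he : e * e = 1) : SpecialLinearGroup (Fin 2) F :=
  ⟨!![e, 0; 0, e], by simp [Matrix.det_fin_two, he]⟩

theorem zSL_coe (e : F) (he : e * e = 1) :
    ((zSL e he : SpecialLinearGroup (Fin 2) F) : Matrix (Fin 2) (Fin 2) F) = !![e, 0; 0, e] := rfl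

theorem zSL_central (e : F) (he : e * e = 1) (B : SpecialLinearGroup (Fin 2) F) :
    B * zSL e he = zSL e he * B := by
  apply Subtype.ext
  change (B : Matrix (Fin 2) (Fin 2) F) * !![e, 0; 0, e] = !![e, 0; 0, e] * (B : Matrix (Fin 2) (Fin 2) F)
  ext i j
  fin_cases i <;> fin_cases j <;> simp [Matrix.mul_apply, Fin.sum_univ_two, mul_comm]

theorem zSL_mul_self (e : F) (he : e * e = 1) : zSL e he * zSL e he = 1 := by
  apply Subtype.ext
  change (!![e, 0; 0, e] * !![e, 0; 0, e] : Matrix (Fin 2) (Fin 2) F) = 1
  ext i j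
  fin_cases i <;> fin_cases j <;> simp [Matrix.mul_apply, Fin.sum_univ_two, he]

theorem isConj_zSL_iff (e : F) (he : e * e = 1) (h : SpecialLinearGroup (Fin 2) F) :
    IsConj (zSL e he) h ↔ h = zSL e he := by
  constructor
  · intro hc
    obtain ⟨B, hB⟩ := isConj_iff.mp hc
    rw [← hB, zSL_central, mul_assoc, mul_inv_cancel, mul_one]
  · rintro rfl
    exact IsConj.refl _

theorem isConj_zSL_mul {e : F} (he : e * e = 1) {a b : SpecialLinearGroup (Fin 2) F}
    (h : IsConj a b) : IsConj (zSL e he * a) (zSL e he * b) := by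
  obtain ⟨c, hc⟩ := isConj_iff.mp h
  rw [isConj_iff]
  refine ⟨c, ?_⟩
  rw [← mul_assoc, zSL_central, mul_assoc, mul_assoc, ← mul_assoc c a, hc]

theorem isConj_zSL_mul_iff {e : F} (he : e * e = 1) {a b : SpecialLinearGroup (Fin 2) F} :
    IsConj (zSL e he * a) (zSL e he * b) ↔ IsConj a b := by
  constructor
  · intro h
    have := isConj_zSL_mul he h
    rwa [← mul_assoc, ← mul_assoc, zSL_mul_self, one_mul, one_mul] at this
  · exact isConj_zSL_mul he

/-- The binary form `a² + t a b + b²` with `t² ≠ 4` represents every element of a finite field of odd order. -/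
theorem exists_norm_eq [Fintype F] (hodd : Fintype.card F % 2 = 1) (t d : F) (ht : t ^ 2 ≠ 4) :
    ∃ a b : F, a ^ 2 + t * a * b + b ^ 2 = d := by
  have hchar : ringChar F ≠ 2 := by
    intro h
    have := FiniteField.even_card_iff_char_two.mp h
    omega
  have h2 : (2 : F) ≠ 0 := Ring.two_ne_zero hchar
  have h4 : (4 : F) ≠ 0 := by
    have : (4 : F) = 2 * 2 := by norm_num
    rw [this]; exact mul_ne_zero h2 h2
  set c : F := 1 - t ^ 2 / 4 with hc
  have hc0 : c ≠ 0 := by
    intro h0
    apply ht
    have : t ^ 2 / 4 = 1 := by linear_combination -h0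
    field_simp at this
    linear_combination this
  have hf : degree (X ^ 2 : F[X]) = 2 := degree_X_pow 2
  have hg : degree (C c * X ^ 2 - C d : F[X]) = 2 := by
    have h1 : degree (C c * X ^ 2 : F[X]) = 2 := by
      rw [degree_C_mul_X_pow 2 hc0]; rfl
    rw [degree_sub_C (by rw [h1]; decide), h1]
  obtain ⟨x, y, hxy⟩ := FiniteField.exists_root_sum_quadratic hf hg hodd
  simp only [eval_pow, eval_X, eval_sub, eval_mul, eval_C] at hxy
  refine ⟨x - t * y / 2, y, ?_⟩
  have : x ^ 2 + c * y ^ 2 = d := by linear_combination hxy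
  rw [← this, hc]
  field_simp
  ring

/-- A non-scalar element of `SL₂` over a finite field of odd order whose trace `t` satisfies `t² ≠ 4` is
`SL₂`-conjugate to the companion matrix of its trace. -/
theorem exists_conj_compSL_odd [Fintype F] (hodd : Fintype.card F % 2 = 1)
    (g : SpecialLinearGroup (Fin 2) F) (hns : ¬ IsScalar2 (g : Matrix (Fin 2) (Fin 2) F))
    (ht : ((g : Matrix (Fin 2) (Fin 2) F).trace) ^ 2 ≠ 4) :
    IsConj (compSL ((g : Matrix (Fin 2) (Fin 2) F).trace)) g := by
  obtain ⟨B, hB⟩ := exists_conj_compGL (SpecialLinearGroup.toGL g) hns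
  have hdetg : Matrix.GeneralLinearGroup.det (SpecialLinearGroup.toGL g) = 1 :=
    SpecialLinearGroup.coeToGL_det g
  rw [hdetg] at hB
  set b : Matrix (Fin 2) (Fin 2) F := (B : Matrix (Fin 2) (Fin 2) F) with hb
  set tr : F := (g : Matrix (Fin 2) (Fin 2) F).trace with htr
  have hbdet : b.det ≠ 0 := ((Matrix.isUnit_iff_isUnit_det _).mp B.isUnit).ne_zero
  have hB' : (g : Matrix (Fin 2) (Fin 2) F) * b = b * !![0, -1; 1, tr] := by
    have := congrArg (fun x : GL (Fin 2) F => (x : Matrix (Fin 2) (Fin 2) F)) hB
    simpa [compGL_coe] using this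
  obtain ⟨x, y, hxy⟩ := exists_norm_eq hodd tr (b.det)⁻¹ ht
  -- the matrix x + y C commutes with C and has determinant x^2 + t x y + y^2
  set z : Matrix (Fin 2) (Fin 2) F := !![x, -y; y, x + tr * y] with hz
  have hzdet : z.det = (b.det)⁻¹ := by
    rw [← hxy, hz, Matrix.det_fin_two_of]; ring
  have hzc : z * !![0, -1; 1, tr] = !![0, -1; 1, tr] * z := by
    rw [hz]
    ext i j
    fin_cases i <;> fin_cases j <;> simp [Matrix.mul_apply, Fin.sum_univ_two] <;> ring
  have hdet' : (b * z).det = 1 := by
    rw [Matrix.det_mul, hzdet, mul_inv_cancel₀ hbdet]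
  rw [isConj_iff]
  let B' : SpecialLinearGroup (Fin 2) F := ⟨b * z, hdet'⟩
  refine ⟨B', ?_⟩
  rw [mul_inv_eq_iff_eq_mul]
  apply Subtype.ext
  change (b * z) * !![0, -1; 1, tr] = (g : Matrix (Fin 2) (Fin 2) F) * (b * z)
  rw [Matrix.mul_assoc, hzc, ← Matrix.mul_assoc, ← hB', Matrix.mul_assoc]

/-- Sign: `true ↦ 1`, `false ↦ -1`. -/
def sg (b : Bool) : F := if b then 1 else -1

theorem sg_mul_self (b : Bool) : (sg b : F) * sg b = 1 := by
  cases b <;> simp [sg]

theorem sg_injective (h2 : (2 : F) ≠ 0) : Function.Injective (sg : Bool → F) := by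
  have hne : (1 : F) ≠ -1 := by
    intro h
    apply h2
    linear_combination h
  intro a b h
  cases a <;> cases b <;> simp [sg] at h ⊢
  · exact hne h.symm
  · exact hne h

/-- Parameter of the unipotent classes: `true ↦ 1`, `false ↦ ε`. -/
def sv (ε : F) (c : Bool) : F := if c then 1 else ε

/-- The parametrisation of the classes of `SL₂` in odd characteristic. -/
def classOfSL2o (ε : F) : Bool ⊕ {t : F // t ^ 2 ≠ 4} ⊕ (Bool × Bool) →
    ConjClasses (SpecialLinearGroup (Fin 2) F)
  | Sum.inl b => ConjClasses.mk (zSL (sg b) (sg_mul_self b))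
  | Sum.inr (Sum.inl t) => ConjClasses.mk (compSL t.1)
  | Sum.inr (Sum.inr (b, c)) => ConjClasses.mk (zSL (sg b) (sg_mul_self b) * tSL (sv ε c))

theorem zSL_mul_tSL_coe (e : F) (he : e * e = 1) (s : F) :
    ((zSL e he * tSL s : SpecialLinearGroup (Fin 2) F) : Matrix (Fin 2) (Fin 2) F) =
      !![e, e * s; 0, e] := by
  change (!![e, 0; 0, e] * !![1, s; 0, 1] : Matrix (Fin 2) (Fin 2) F) = _
  ext i j
  fin_cases i <;> fin_cases j <;> simp [Matrix.mul_apply, Fin.sum_univ_two]

theorem cayley_two (g : SpecialLinearGroup (Fin 2) F)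
    (htr : (g : Matrix (Fin 2) (Fin 2) F).trace = 2) :
    ((g : Matrix (Fin 2) (Fin 2) F) - 1) ^ 2 = 0 := by
  have hdet := g.2
  set m : Matrix (Fin 2) (Fin 2) F := (g : Matrix (Fin 2) (Fin 2) F) with hm
  rw [Matrix.det_fin_two] at hdet
  rw [Matrix.trace_fin_two] at htr
  ext i j
  fin_cases i <;> fin_cases j <;>
    simp [pow_two, Matrix.mul_apply, Fin.sum_univ_two]
  · linear_combination (m 0 0) * htr - hdet
  · linear_combination (m 0 1) * htr
  · linear_combination (m 1 0) * htr
  · linear_combination (m 1 1) * htr - hdet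

theorem classOfSL2o_bijective [Fintype F] (hodd : Fintype.card F % 2 = 1) (ε : F)
    (hε : ¬ IsSquare ε) : Function.Bijective (classOfSL2o ε) := by
  have hchar : ringChar F ≠ 2 := by
    intro h
    have := FiniteField.even_card_iff_char_two.mp h
    omega
  have h2 : (2 : F) ≠ 0 := Ring.two_ne_zero hchar
  have hε0 : ε ≠ 0 := by
    rintro rfl
    exact hε ⟨0, by simp⟩
  have hsv0 : ∀ c, sv ε c ≠ 0 := by
    intro c; cases c <;> simp [sv, hε0]
  have hsv_inj : ∀ c c', IsSquare (sv ε c * sv ε c') → c = c' := by
    intro c c' h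
    cases c <;> cases c' <;> simp [sv] at h ⊢
    · exact hε h
    · exact hε h
  constructor
  · rintro (b | t | ⟨b, c⟩) (b' | t' | ⟨b', c'⟩) h
    · -- scalar vs scalar
      simp only [classOfSL2o, ConjClasses.mk_eq_mk_iff_isConj, isConj_zSL_iff] at h
      have := congrArg (fun x : SpecialLinearGroup (Fin 2) F => (x : Matrix (Fin 2) (Fin 2) F) 0 0) h
      simp only [zSL_coe] at this
      simp at this
      rw [sg_injective h2 this.symm]
    · exfalso
      simp only [classOfSL2o, ConjClasses.mk_eq_mk_iff_isConj, isConj_zSL_iff] at h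
      have := congrArg (fun x : SpecialLinearGroup (Fin 2) F => (x : Matrix (Fin 2) (Fin 2) F) 1 0) h
      simp [zSL_coe, compSL_coe] at this
    · exfalso
      simp only [classOfSL2o, ConjClasses.mk_eq_mk_iff_isConj, isConj_zSL_iff] at h
      have := congrArg (fun x : SpecialLinearGroup (Fin 2) F => (x : Matrix (Fin 2) (Fin 2) F) 0 1) h
      rw [zSL_mul_tSL_coe, zSL_coe] at this
      simp at this
      rcases this with h' | h'
      · have := sg_mul_self (F := F) b'
        rw [h'] at this; simp at this
      · exact hsv0 c' h'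
    · exfalso
      simp only [classOfSL2o, ConjClasses.mk_eq_mk_iff_isConj] at h
      have h' := (isConj_zSL_iff _ (sg_mul_self b') _).mp h.symm
      have := congrArg (fun x : SpecialLinearGroup (Fin 2) F => (x : Matrix (Fin 2) (Fin 2) F) 1 0) h'
      simp [zSL_coe, compSL_coe] at this
    · simp only [classOfSL2o, ConjClasses.mk_eq_mk_iff_isConj] at h
      have := trace_eq_of_isConj_SL h
      rw [compSL_coe, compSL_coe, Matrix.trace_fin_two, Matrix.trace_fin_two] at this
      simp at this
      have : t = t' := Subtype.ext this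
      rw [this]
    · exfalso
      simp only [classOfSL2o, ConjClasses.mk_eq_mk_iff_isConj] at h
      have := trace_eq_of_isConj_SL h
      rw [compSL_coe, zSL_mul_tSL_coe, Matrix.trace_fin_two, Matrix.trace_fin_two] at this
      simp at this
      apply t.2
      rw [this]
      linear_combination 4 * sg_mul_self (F := F) b'
    · exfalso
      simp only [classOfSL2o, ConjClasses.mk_eq_mk_iff_isConj] at h
      have h' := (isConj_zSL_iff _ (sg_mul_self b') _).mp h.symm
      have := congrArg (fun x : SpecialLinearGroup (Fin 2) F => (x : Matrix (Fin 2) (Fin 2) F) 0 1) h'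
      rw [zSL_mul_tSL_coe, zSL_coe] at this
      simp at this
      rcases this with h' | h'
      · have := sg_mul_self (F := F) b
        rw [h'] at this; simp at this
      · exact hsv0 c h'
    · exfalso
      simp only [classOfSL2o, ConjClasses.mk_eq_mk_iff_isConj] at h
      have := trace_eq_of_isConj_SL h
      rw [compSL_coe, zSL_mul_tSL_coe, Matrix.trace_fin_two, Matrix.trace_fin_two] at this
      simp at this
      apply t'.2
      rw [← this]
      linear_combination 4 * sg_mul_self (F := F) b
    · simp only [classOfSL2o, ConjClasses.mk_eq_mk_iff_isConj] at h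
      have htr := trace_eq_of_isConj_SL h
      rw [zSL_mul_tSL_coe, zSL_mul_tSL_coe, Matrix.trace_fin_two, Matrix.trace_fin_two] at htr
      simp at htr
      have hsg : (sg b : F) = sg b' := by
        have : (2 : F) * sg b = 2 * sg b' := by linear_combination htr
        exact mul_left_cancel₀ h2 this
      have hbb : b = b' := sg_injective h2 hsg
      subst hbb
      rw [isConj_zSL_mul_iff, isConj_tSL_iff _ _ (hsv0 c) (hsv0 c')] at h
      rw [hsv_inj c c' h]
  · intro C
    obtain ⟨g, rfl⟩ := ConjClasses.exists_rep C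
    by_cases hs : IsScalar2 (g : Matrix (Fin 2) (Fin 2) F)
    · obtain ⟨h01, h10, h00⟩ := hs
      have hdet := g.2
      rw [Matrix.det_fin_two, h01, zero_mul, sub_zero, ← h00] at hdet
      set x := (g : Matrix (Fin 2) (Fin 2) F) 0 0 with hx
      have hx' : (x - 1) * (x + 1) = 0 := by linear_combination hdet
      have hxb : ∃ b : Bool, x = sg b := by
        rcases mul_eq_zero.mp hx' with h | h
        · exact ⟨true, by simp [sg]; linear_combination h⟩
        · exact ⟨false, by simp [sg]; linear_combination h⟩
      obtain ⟨b, hb⟩ := hxb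
      refine ⟨Sum.inl b, ?_⟩
      have : g = zSL (sg b) (sg_mul_self b) := by
        apply Subtype.ext
        rw [zSL_coe]
        ext i j
        fin_cases i <;> fin_cases j <;> simp [h01, h10, ← h00, ← hb, ← hx]
      rw [this]; rfl
    · by_cases ht : ((g : Matrix (Fin 2) (Fin 2) F).trace) ^ 2 = 4
      · -- trace is ±2
        set tr := (g : Matrix (Fin 2) (Fin 2) F).trace with htr
        have ht' : (tr - 2) * (tr + 2) = 0 := by linear_combination ht
        have hb : ∃ b : Bool, tr = 2 * sg b := by
          rcases mul_eq_zero.mp ht' with h | h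
          · exact ⟨true, by simp [sg]; linear_combination h⟩
          · exact ⟨false, by simp [sg]; linear_combination h⟩
        obtain ⟨b, hb⟩ := hb
        set z := zSL (sg b : F) (sg_mul_self b) with hz
        set g' := z * g with hg'
        have hg'coe : (g' : Matrix (Fin 2) (Fin 2) F) = !![sg b, 0; 0, sg b] * (g : Matrix (Fin 2) (Fin 2) F) := rfl
        have hg'tr : (g' : Matrix (Fin 2) (Fin 2) F).trace = 2 := by
          rw [hg'coe, Matrix.trace_fin_two]
          simp [Matrix.mul_apply, Fin.sum_univ_two]
          rw [Matrix.trace_fin_two] at htr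
          have : sg b * ((g : Matrix (Fin 2) (Fin 2) F) 0 0 + (g : Matrix (Fin 2) (Fin 2) F) 1 1) = 2 := by
            rw [← htr, hb]
            linear_combination 2 * sg_mul_self (F := F) b
          linear_combination this
        have hg'ne : g' ≠ 1 := by
          intro h1
          apply hs
          have hgz : g = z := by
            have : z * g' = z * 1 := by rw [h1]
            rw [hg', ← mul_assoc, zSL_mul_self, one_mul, mul_one] at this
            exact this
          rw [hgz, hz, zSL_coe]
          exact ⟨by simp, by simp, by simp⟩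
        obtain ⟨B, s, hs0, hBs⟩ := exists_conj_tSL g' (cayley_two g' hg'tr) hg'ne
        have hconj1 : IsConj (tSL s) g' := by
          rw [isConj_iff]
          exact ⟨B, by rw [← hBs, mul_assoc, mul_inv_cancel, mul_one]⟩
        have hc : ∃ c : Bool, IsConj (tSL (sv ε c)) (tSL s) := by
          by_cases hsq : IsSquare s
          · refine ⟨true, ?_⟩
            rw [isConj_tSL_iff _ _ (hsv0 true) hs0]
            simpa [sv] using hsq
          · refine ⟨false, ?_⟩
            rw [isConj_tSL_iff _ _ (hsv0 false) hs0]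
            have hsvf : sv ε false = ε := rfl
            rw [hsvf]
            -- product of two non-squares is a square
            have h1 := (FiniteField.isSquare_iff hchar hε0).not.mp hε
            have h2' := (FiniteField.isSquare_iff hchar hs0).not.mp hsq
            have d1 := (FiniteField.pow_dichotomy hchar hε0).resolve_left h1
            have d2 := (FiniteField.pow_dichotomy hchar hs0).resolve_left h2'
            rw [FiniteField.isSquare_iff hchar (mul_ne_zero hε0 hs0), mul_pow, d1, d2]
            simp
        obtain ⟨c, hc⟩ := hc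
        refine ⟨Sum.inr (Sum.inr (b, c)), ?_⟩
        simp only [classOfSL2o, ConjClasses.mk_eq_mk_iff_isConj]
        have h3 : IsConj (tSL (sv ε c)) g' := hc.trans hconj1
        have h4 := isConj_zSL_mul (sg_mul_self (F := F) b) h3
        rw [hg', ← mul_assoc, zSL_mul_self, one_mul] at h4
        exact h4
      · refine ⟨Sum.inr (Sum.inl ⟨_, ht⟩), ?_⟩
        exact ConjClasses.mk_eq_mk_iff_isConj.mpr (exists_conj_compSL_odd hodd g hs ht)

theorem card_index [Fintype F] (hodd : Fintype.card F % 2 = 1) :
    Nat.card (Bool ⊕ {t : F // t ^ 2 ≠ 4} ⊕ (Bool × Bool)) = Fintype.card F + 4 := by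
  classical
  have hchar : ringChar F ≠ 2 := by
    intro h
    have := FiniteField.even_card_iff_char_two.mp h
    omega
  have h2 : (2 : F) ≠ 0 := Ring.two_ne_zero hchar
  have hne : (2 : F) ≠ -2 := by
    intro h
    apply h2
    have : (2 : F) * 2 = 0 := by linear_combination h
    rcases mul_eq_zero.mp this with h | h <;> exact h
  have hset : (Finset.univ.filter (fun t : F => t ^ 2 ≠ 4)) = Finset.univ \ {2, -2} := by
    ext t
    simp only [Finset.mem_filter, Finset.mem_univ, true_and, Finset.mem_sdiff, Finset.mem_insert,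
      Finset.mem_singleton, not_or]
    constructor
    · intro h
      constructor
      · rintro rfl; apply h; norm_num
      · rintro rfl; apply h; norm_num
    · rintro ⟨h1, h2'⟩ h
      have : (t - 2) * (t + 2) = 0 := by linear_combination h
      rcases mul_eq_zero.mp this with h | h
      · exact h1 (by linear_combination h)
      · exact h2' (by linear_combination h)
  have hcard : Fintype.card {t : F // t ^ 2 ≠ 4} = Fintype.card F - 2 := by
    rw [Fintype.card_subtype, hset, Finset.card_sdiff_of_subset (Finset.subset_univ _),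
      Finset.card_univ, Finset.card_pair hne]
  have hq : 3 ≤ Fintype.card F := by
    have : 2 ≤ Fintype.card F := Fintype.one_lt_card
    omega
  rw [Nat.card_eq_fintype_card, Fintype.card_sum, Fintype.card_sum, Fintype.card_prod, hcard,
    Fintype.card_bool]
  omega

/-- Over a finite field with q elements, q odd, the special linear group SL₂ has exactly q + 4 conjugacy classes. -/
theorem result {F : Type*} [Field F] [Fintype F] (hodd : Odd (Fintype.card F)) :
    Nat.card (ConjClasses (Matrix.SpecialLinearGroup (Fin 2) F)) = Fintype.card F + 4 := by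
  have hodd' : Fintype.card F % 2 = 1 := Nat.odd_iff.mp hodd
  have hchar : ringChar F ≠ 2 := by
    intro h
    have := FiniteField.even_card_iff_char_two.mp h
    omega
  obtain ⟨ε, hε⟩ := FiniteField.exists_nonsquare hchar
  have h := Nat.card_congr (Equiv.ofBijective _ (classOfSL2o_bijective hodd' ε hε))
  rw [← h, card_index hodd']

end Cfsg.Agent.S2325
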