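import Cfsg.Statements.S2299
import Cfsg.Agent.Lib.Helper13.SL2OddCount

set_option autoImplicit false
open Cfsg

namespace Cfsg.Agent.S2299

/-- Over a finite field F with q elements, q odd, every irreducible complex character of SL₂ has degree 1, q, q + 1, q − 1, (q + 1)/2 or (q − 1)/2; and when q ≥ 5 (so that these six numbers are distinct) there are exactly one irreducible character of degree 1, one of degree q, (q − 3)/2 of degree q + 1, (q − 1)/2 of degree q − 1, two of degree (q + 1)/2 and two of degree (q − 1)/2. -/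
theorem result {F : Type*} [Field F] [Fintype F] (hodd : Odd (Fintype.card F)) :
    (∀ χ : Matrix.SpecialLinearGroup (Fin 2) F → ℂ, Cfsg.IsIrrCharacter (Matrix.SpecialLinearGroup (Fin 2) F) χ →
      χ 1 = 1 ∨ χ 1 = (Fintype.card F : ℂ) ∨ χ 1 = (Fintype.card F : ℂ) + 1 ∨ χ 1 = (Fintype.card F : ℂ) - 1 ∨
        χ 1 = (((Fintype.card F + 1) / 2 : ℕ) : ℂ) ∨ χ 1 = (((Fintype.card F - 1) / 2 : ℕ) : ℂ)) ∧
    (5 ≤ Fintype.card F →
      Nat.card {χ : Cfsg.IrrCharacter (Matrix.SpecialLinearGroup (Fin 2) F) // (χ : Matrix.SpecialLinearGroup (Fin 2) F → ℂ) 1 = 1} = 1 ∧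
      Nat.card {χ : Cfsg.IrrCharacter (Matrix.SpecialLinearGroup (Fin 2) F) // (χ : Matrix.SpecialLinearGroup (Fin 2) F → ℂ) 1 = (Fintype.card F : ℂ)} = 1 ∧
      Nat.card {χ : Cfsg.IrrCharacter (Matrix.SpecialLinearGroup (Fin 2) F) // (χ : Matrix.SpecialLinearGroup (Fin 2) F → ℂ) 1 = (Fintype.card F : ℂ) + 1} = (Fintype.card F - 3) / 2 ∧
      Nat.card {χ : Cfsg.IrrCharacter (Matrix.SpecialLinearGroup (Fin 2) F) // (χ : Matrix.SpecialLinearGroup (Fin 2) F → ℂ) 1 = (Fintype.card F : ℂ) - 1} = (Fintype.card F - 1) / 2 ∧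
      Nat.card {χ : Cfsg.IrrCharacter (Matrix.SpecialLinearGroup (Fin 2) F) // (χ : Matrix.SpecialLinearGroup (Fin 2) F → ℂ) 1 = (((Fintype.card F + 1) / 2 : ℕ) : ℂ)} = 2 ∧
      Nat.card {χ : Cfsg.IrrCharacter (Matrix.SpecialLinearGroup (Fin 2) F) // (χ : Matrix.SpecialLinearGroup (Fin 2) F → ℂ) 1 = (((Fintype.card F - 1) / 2 : ℕ) : ℂ)} = 2) := by
  classical
  have hq2 : 1 < Fintype.card F := Fintype.one_lt_card
  obtain ⟨r, hr⟩ := hodd
  have hodd : Odd (Fintype.card F) := ⟨r, hr⟩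
  have hhalf1 : (Fintype.card F + 1) / 2 = r + 1 := by omega
  have hhalf2 : (Fintype.card F - 1) / 2 = r := by omega
  have hdeg : ∀ χ : Cfsg.IrrCharacter (Matrix.SpecialLinearGroup (Fin 2) F),
      (χ : Matrix.SpecialLinearGroup (Fin 2) F → ℂ) 1 =
        (Cfsg.charDegree (χ : Matrix.SpecialLinearGroup (Fin 2) F → ℂ) : ℂ) :=
    fun χ => Cfsg.Agent.Lib.Helper24.irr_apply_one χ
  refine ⟨?_, ?_⟩
  · intro χ hχ
    obtain ⟨X, d, hX, hc, hd, htype⟩ := Cfsg.Agent.Lib.Helper13.under_types hodd hχ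
    rw [hd, hhalf1, hhalf2]
    rcases htype with ⟨-, h⟩ | ⟨-, h⟩ | ⟨-, h | h⟩ | ⟨-, h | h⟩
    · left; rw [h]; norm_num
    · right; left; rw [h]
    · right; right; left; rw [h]; push_cast; ring
    · right; right; right; right; left
      have : d = r + 1 := by omega
      rw [this]
    · right; right; right; left
      rw [← h]; push_cast; ring
    · right; right; right; right; right
      have : d = r := by omega
      rw [this]
  · intro hq
    have hr2 : 2 ≤ r := by omega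
    obtain ⟨h1, h2, h3, h4, h5, h6⟩ := Cfsg.Agent.Lib.Helper13.card_by_degree_SL2_odd (F := F) r hr hr2
    have key : ∀ (c : ℂ) (k : ℕ), c = (k : ℂ) →
        Nat.card {χ : Cfsg.IrrCharacter (Matrix.SpecialLinearGroup (Fin 2) F) //
          (χ : Matrix.SpecialLinearGroup (Fin 2) F → ℂ) 1 = c} =
        Nat.card {χ : Cfsg.IrrCharacter (Matrix.SpecialLinearGroup (Fin 2) F) //
          Cfsg.charDegree (χ : Matrix.SpecialLinearGroup (Fin 2) F → ℂ) = k} := by
      intro c k hck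
      apply Nat.card_congr
      apply Equiv.subtypeEquivRight
      intro χ
      rw [hdeg, hck]
      exact Nat.cast_inj
    refine ⟨?_, ?_, ?_, ?_, ?_, ?_⟩
    · rw [key 1 1 (by norm_num), h1]
    · rw [key (Fintype.card F : ℂ) (2 * r + 1) (by rw [hr]), h2]
    · rw [key ((Fintype.card F : ℂ) + 1) (2 * r + 2) (by rw [hr]; push_cast; ring)]
      omega
    · rw [key ((Fintype.card F : ℂ) - 1) (2 * r) (by rw [hr]; push_cast; ring), h4]
      omega
    · rw [hhalf1, key ((r + 1 : ℕ) : ℂ) (r + 1) rfl, h5]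
    · rw [hhalf2, key ((r : ℕ) : ℂ) r rfl, h6]

end Cfsg.Agent.S2299
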