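import Cfsg.Statements.S0556
-- import your own Cfsg.Agent.* helpers here
import Mathlib
import Cfsg.Agent.Lib.Helper29.HallTransfer
import Cfsg.Agent.Lib.Helper1.Coprime
import Cfsg.Agent.Lib.Helper4.Supersolvable2
import Cfsg.Agent.S0023

set_option autoImplicit false
open Cfsg

namespace Cfsg.Agent.S0556

open scoped Pointwise
open Subgroup
open Cfsg.Agent.Lib.Helper1 Cfsg.Agent.Lib.Helper29

universe u

/-- A subgroup `A` with `A ∩ A^g = 1` for `g ∉ A` is a Hall subgroup. -/
theorem coprime_card_index_of_ti {G : Type u} [Group G] [Finite G] (A : Subgroup G)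
    (hTI : ∀ g : G, g ∉ A → A ⊓ MulAut.conj g • A = ⊥) : (Nat.card A).Coprime A.index := by
  apply Nat.coprime_of_dvd
  intro p hp hpA hpi
  have : Fact p.Prime := ⟨hp⟩
  obtain ⟨h, hh⟩ := exists_prime_orderOf_dvd_card' p hpA
  have hh' : orderOf (h : G) = p := by rw [Subgroup.orderOf_coe, hh]
  have hZ : IsPGroup p (zpowers (h : G)) :=
    IsPGroup.of_card (n := 1) (by rw [Nat.card_zpowers, hh', pow_one])
  have h1 := hZ.card_modEq_card_fixedPoints (G ⧸ A)
  have hfix : MulAction.fixedPoints (zpowers (h : G)) (G ⧸ A) = {((1 : G) : G ⧸ A)} := by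
    ext q
    constructor
    · intro hq
      induction q using QuotientGroup.induction_on with
      | H g =>
      have h2 := hq ⟨(h : G), Subgroup.mem_zpowers _⟩
      change (((h : G) * g : G) : G ⧸ A) = (g : G ⧸ A) at h2
      rw [QuotientGroup.eq] at h2
      rw [Set.mem_singleton_iff, QuotientGroup.eq]
      by_contra hg
      have hg' : g ∉ A := by
        intro hgA
        apply hg
        simpa using A.inv_mem hgA
      have h3 : (h : G)⁻¹ ∈ A ⊓ MulAut.conj g • A := by
        refine ⟨A.inv_mem h.2, ?_⟩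
        change (h : G)⁻¹ ∈ MulAut.conj g • A
        rw [mem_conj_smul_iff]
        have e : g⁻¹ * (h : G)⁻¹ * g = ((h : G) * g)⁻¹ * g := by group
        rw [e]; exact h2
      rw [hTI g hg', Subgroup.mem_bot, inv_eq_one] at h3
      rw [h3, orderOf_one] at hh'
      exact hp.one_lt.ne' hh'.symm
    · intro hq
      rw [Set.mem_singleton_iff] at hq
      rw [hq]
      intro z
      change (((z : G) * 1 : G) : G ⧸ A) = ((1 : G) : G ⧸ A)
      rw [QuotientGroup.eq]
      have hz : (z : G) ∈ A := (zpowers_le.mpr h.2) z.2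
      simpa using A.inv_mem hz
  rw [hfix] at h1
  have h2 : Nat.card ({((1 : G) : G ⧸ A)} : Set (G ⧸ A)) = 1 := by
    rw [Nat.card_coe_set_eq, Set.ncard_singleton]
  rw [h2, ← Subgroup.index_eq_card] at h1
  have h3 : A.index % p = 0 := Nat.mod_eq_zero_of_dvd hpi
  have h4 : A.index % p = 1 % p := h1
  rw [h3, Nat.mod_eq_of_lt hp.one_lt] at h4
  omega

/-- **Herstein, Frobenius case**: if an abelian maximal subgroup `A` satisfies `A ∩ A^g = 1` for
all `g ∉ A`, then `G'' = 1`. -/
theorem derivedSeries_two_eq_bot_of_ti {G : Type u} [Group G] [Finite G] (A : Subgroup G)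
    (hA : IsCoatom A) (hab : ∀ x ∈ A, ∀ y ∈ A, x * y = y * x)
    (hTI : ∀ g : G, g ∉ A → A ⊓ MulAut.conj g • A = ⊥) : derivedSeries G 2 = ⊥ := by
  have hcomm : IsMulCommutative A := ⟨⟨fun x y => Subtype.ext (hab x x.2 y y.2)⟩⟩
  have hHall := coprime_card_index_of_ti A hTI
  have hnil : Group.IsNilpotent A := by
    let _ : CommGroup A := { (inferInstance : Group A) with mul_comm := fun x y => Subtype.ext (hab x x.2 y y.2) }
    exact CommGroup.isNilpotent
  obtain ⟨N, hNn, hNc⟩ := exists_normal_complement_of_control_fusion A hnil hHall (by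
    intro x hx g hxg
    by_cases hg : g ∈ A
    · exact ⟨g, hg, rfl⟩
    · have h1 : x ∈ A ⊓ MulAut.conj g • A := by
        refine ⟨hx, ?_⟩
        change x ∈ MulAut.conj g • A
        rw [mem_conj_smul_iff]; exact hxg
      rw [hTI g hg, Subgroup.mem_bot] at h1
      exact ⟨1, A.one_mem, by rw [h1]; group⟩)
  have hcop : (Nat.card A).Coprime (Nat.card N) := by
    rw [← hNc.index_eq_card]; exact hHall
  have hdisj : Disjoint N A := hNc.disjoint
  have hcardG : Nat.card N * Nat.card A = Nat.card G := hNc.card_mul_card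
  -- every nontrivial `A`-invariant subgroup of `N` is `N`
  have key : ∀ M : Subgroup G, M ≤ N → M ≠ ⊥ → A ≤ normalizer (M : Set G) → M = N := by
    intro M hMN hM hAM
    have hdM : Disjoint M A := hdisj.mono_left hMN
    have h1 := (isComplIn_sup hAM hdM).card_mul_card
    have h2 : M ⊔ A = ⊤ := by
      apply hA.2
      refine lt_of_le_of_ne le_sup_right (fun heq => hM ?_)
      have hMA : M ≤ A := by rw [heq]; exact le_sup_left
      exact (disjoint_self.mp (hdM.mono_right hMA)) 
    rw [h2, Subgroup.card_top, ← hcardG] at h1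
    have h3 : Nat.card M = Nat.card N := Nat.eq_of_mul_eq_mul_right Nat.card_pos h1
    exact Subgroup.eq_of_le_of_card_ge hMN h3.ge
  have hNbot : N ≠ ⊥ := by
    intro h
    rw [h, isComplement'_bot_left] at hNc
    exact hA.1 hNc
  -- `N` is a `p`-group
  have hN1 : Nat.card N ≠ 1 := by rwa [Ne, Subgroup.card_eq_one]
  obtain ⟨p, hp, hpN⟩ := Nat.exists_prime_and_dvd hN1
  have : Fact p.Prime := ⟨hp⟩
  have hsolv : Group.IsSolvable A ∨ Group.IsSolvable N := Or.inl
    (Group.isSolvable_of_comm (fun x y => Subtype.ext (hab x x.2 y y.2)))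
  obtain ⟨P, hP⟩ := Cfsg.Agent.S0023.result A N (by rw [normalizer_eq_top]; exact le_top)
    hcop hsolv p
  have hPN : (P : Subgroup N).map N.subtype = N := by
    refine key _ (Subgroup.map_subtype_le _) ?_ hP
    rw [Ne, Subgroup.map_eq_bot_iff_of_injective _ N.subtype_injective]
    exact P.ne_bot_of_dvd_card hpN
  have hpg : IsPGroup p N := by
    have := P.2.map N.subtype
    rwa [hPN] at this
  -- `N` is abelian
  have hNnt : Nontrivial N := (Subgroup.nontrivial_iff_ne_bot N).mpr hNbot
  have hcn : Nontrivial (center N) := hpg.center_nontrivial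
  obtain ⟨z, hz, hz1⟩ := (center N).exists_ne_one_of_nontrivial
  have hCne : N ⊓ centralizer (N : Set G) ≠ ⊥ := by
    intro h
    have hzC : (z : G) ∈ N ⊓ centralizer (N : Set G) := by
      refine ⟨z.2, ?_⟩
      change (z : G) ∈ centralizer (N : Set G)
      rw [Subgroup.mem_centralizer_iff]
      intro n hn
      have := (Subgroup.mem_center_iff.mp hz) ⟨n, hn⟩
      exact congrArg Subtype.val this
    rw [h, Subgroup.mem_bot] at hzC
    apply hz1
    apply Subtype.ext
    exact hzC
  have hCN : N ⊓ centralizer (N : Set G) = N :=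
    key _ inf_le_left hCne (by rw [normalizer_eq_top]; exact le_top)
  have hNcent : N ≤ centralizer (N : Set G) := by
    intro x hx
    rw [← hCN] at hx
    exact hx.2
  have hGN : _root_.commutator G ≤ N :=
    hNn.commutator_le_of_self_sup_commutative_eq_top hNc.sup_eq_top hcomm
  rw [derivedSeries_succ, derivedSeries_one, eq_bot_iff]
  exact (Subgroup.commutator_mono hGN hGN).trans
    (le_of_eq (Subgroup.commutator_eq_bot_iff_le_centralizer.mpr hNcent))

/-- a self-normalizing abelian maximal subgroup becomes a TI subgroup modulo the centre -/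
theorem ti_map_of_ker_eq_center {G Q : Type u} [Group G] [Finite G] [Group Q] (f : G →* Q)
    (hf : Function.Surjective f) (hker : f.ker = center G) (A : Subgroup G) (hA : IsCoatom A)
    (hab : ∀ x ∈ A, ∀ y ∈ A, x * y = y * x) (hNA : normalizer (A : Set G) = A)
    (hZA : center G ≤ A) :
    ∀ gb : Q, gb ∉ A.map f → A.map f ⊓ MulAut.conj gb • A.map f = ⊥ := by
  intro gb hgb
  obtain ⟨g, rfl⟩ := hf gb
  have hg : g ∉ A := fun h => hgb ⟨g, h, rfl⟩
  rw [eq_bot_iff]
  rintro xb ⟨hx1, hx2⟩
  obtain ⟨x, hx, rfl⟩ := hx1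
  change f x ∈ MulAut.conj (f g) • A.map f at hx2
  rw [mem_conj_smul_iff] at hx2
  obtain ⟨a, ha, hax⟩ := hx2
  have hxg : g⁻¹ * x * g ∈ A := by
    have h1 : a⁻¹ * (g⁻¹ * x * g) ∈ center G := by
      rw [← hker, MonoidHom.mem_ker, map_mul, map_inv, hax, map_mul, map_mul, map_inv]
      group
    have : g⁻¹ * x * g = a * (a⁻¹ * (g⁻¹ * x * g)) := by group
    rw [this]
    exact A.mul_mem ha (hZA h1)
  -- `x` is central
  have hsup : A ⊔ MulAut.conj g • A = ⊤ := by
    apply hA.2
    refine lt_of_le_of_ne le_sup_left (fun heq => hg ?_)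
    have hle : MulAut.conj g • A ≤ A := le_sup_right.trans (le_of_eq heq.symm)
    rw [← hNA]
    apply mem_normalizer_of_forall_conj_mem
    intro y hy
    apply hle
    rw [mem_conj_smul_iff]
    have : g⁻¹ * (g * y * g⁻¹) * g = y := by group
    rw [this]; exact hy
  have hcent : A ⊔ MulAut.conj g • A ≤ centralizer ({x} : Set G) := by
    apply sup_le
    · intro y hy
      rw [Subgroup.mem_centralizer_iff]
      intro z hz
      rw [Set.mem_singleton_iff] at hz
      rw [hz]; exact hab x hx y hy
    · intro y hy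
      rw [mem_conj_smul_iff] at hy
      rw [Subgroup.mem_centralizer_iff]
      intro z hz
      rw [Set.mem_singleton_iff] at hz
      rw [hz]
      have h1 := hab _ hxg _ hy
      calc x * y = g * ((g⁻¹ * x * g) * (g⁻¹ * y * g)) * g⁻¹ := by group
        _ = g * ((g⁻¹ * y * g) * (g⁻¹ * x * g)) * g⁻¹ := by rw [h1]
        _ = y * x := by group
  rw [hsup] at hcent
  have hxZ : x ∈ center G := by
    rw [Subgroup.mem_center_iff]
    intro y
    have := (Subgroup.mem_centralizer_iff.mp (hcent (Subgroup.mem_top y))) x rfl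
    exact this.symm
  rw [Subgroup.mem_bot, ← MonoidHom.mem_ker, hker]
  exact hxZ

/-- If a finite group has a maximal subgroup that is abelian, then the third term of its derived series is trivial (so the group is solvable of derived length at most three). -/
theorem result {G : Type*} [Group G] [Finite G] (A : Subgroup G) (hA : IsCoatom A) [IsMulCommutative A] : derivedSeries G 3 = ⊥ := by
  have hab : ∀ x ∈ A, ∀ y ∈ A, x * y = y * x := fun x hx y hy => setLike_mul_comm hx hy
  have hAcent : A ≤ centralizer (A : Set G) := by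
    intro x hx
    rw [Subgroup.mem_centralizer_iff]
    intro y hy
    exact hab y hy x hx
  by_cases hn : A.Normal
  · obtain ⟨g, hg⟩ : ∃ g, g ∉ A := by
      by_contra h
      push Not at h
      exact hA.1 (eq_top_iff.mpr fun x _ => h x)
    have h1 : A ⊔ zpowers g = ⊤ := by
      apply hA.2
      refine lt_of_le_of_ne le_sup_left (fun heq => hg ?_)
      rw [heq]
      exact (le_sup_right : zpowers g ≤ A ⊔ zpowers g) (Subgroup.mem_zpowers g)
    have h2 : _root_.commutator G ≤ A :=
      hn.commutator_le_of_self_sup_commutative_eq_top h1 inferInstance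
    have h3 : derivedSeries G 2 = ⊥ := by
      rw [derivedSeries_succ, derivedSeries_one, eq_bot_iff]
      exact (Subgroup.commutator_mono h2 h2).trans
        (le_of_eq (Subgroup.commutator_eq_bot_iff_le_centralizer.mpr hAcent))
    rw [derivedSeries_succ, h3, Subgroup.commutator_bot_left]
  · have hNA : normalizer (A : Set G) = A := by
      by_contra h
      have hlt : A < normalizer (A : Set G) := lt_of_le_of_ne Subgroup.le_normalizer (Ne.symm h)
      exact hn (Subgroup.normalizer_eq_top_iff.mp (hA.2 _ hlt))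
    have hZA : center G ≤ A := by
      rw [← hNA]; exact Subgroup.center_le_normalizer _
    have hsurj := QuotientGroup.mk'_surjective (center G)
    have hker : (QuotientGroup.mk' (center G)).ker = center G := QuotientGroup.ker_mk' _
    have hD2 : derivedSeries (G ⧸ center G) 2 = ⊥ := by
      apply derivedSeries_two_eq_bot_of_ti (A.map (QuotientGroup.mk' (center G)))
      · exact Cfsg.Agent.Lib.Helper4.isCoatom_map_of_ker_le _ hsurj hA (by rw [hker]; exact hZA)
      · rintro _ ⟨a, ha, rfl⟩ _ ⟨b, hb, rfl⟩
        rw [← map_mul, ← map_mul, hab a ha b hb]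
      · exact ti_map_of_ker_eq_center _ hsurj hker A hA hab hNA hZA
    have h2 : derivedSeries G 2 ≤ center G := by
      have := map_derivedSeries_eq hsurj 2
      rw [hD2, Subgroup.map_eq_bot_iff, hker] at this
      exact this
    rw [derivedSeries_succ, eq_bot_iff]
    refine (Subgroup.commutator_mono h2 h2).trans (le_of_eq ?_)
    rw [Subgroup.commutator_eq_bot_iff_le_centralizer]
    exact Subgroup.center_le_centralizer _

end Cfsg.Agent.S0556
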