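import Cfsg.Statements.S0804
import Cfsg.Agent.Lib.Helper13.PSL2AltFive

set_option autoImplicit false
open Cfsg

namespace Cfsg.Agent.S0804

/-- PSL_2(q) has a subgroup isomorphic to A_5 iff 5 ∣ q(q² − 1). -/
theorem result {F : Type*} [Field F] [Fintype F] {q : ℕ} (hF : Fintype.card F = q) : (∃ H : Subgroup (Matrix.ProjectiveSpecialLinearGroup (Fin 2) F), Nonempty (H ≃* alternatingGroup (Fin 5))) ↔ 5 ∣ q * (q ^ 2 - 1) := by
  classical
  have hcard := Cfsg.Agent.Lib.Helper13.card_SL2 (F := F)
  rw [hF] at hcard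
  constructor
  · rintro ⟨H, ⟨e⟩⟩
    have h1 : Nat.card H = 60 := by
      rw [Nat.card_congr e.toEquiv, Nat.card_eq_fintype_card]
      have := two_mul_card_alternatingGroup (α := Fin 5)
      rw [Fintype.card_perm, Fintype.card_fin] at this
      have h120 : Nat.factorial 5 = 120 := by decide
      omega
    have h2 : Nat.card H ∣ Nat.card (Matrix.ProjectiveSpecialLinearGroup (Fin 2) F) :=
      Subgroup.card_subgroup_dvd_card H
    have h3 : Nat.card (Matrix.ProjectiveSpecialLinearGroup (Fin 2) F) ∣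
        Nat.card (Matrix.SpecialLinearGroup (Fin 2) F) :=
      Subgroup.card_quotient_dvd_card _
    rw [← hcard]
    rw [h1] at h2
    exact (by norm_num : 5 ∣ 60).trans (h2.trans h3)
  · intro h5
    rw [← hcard] at h5
    exact Cfsg.Agent.Lib.Helper13.exists_alt_five_PSL2 h5

end Cfsg.Agent.S0804
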