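import Cfsg.Statements.S5891
import Cfsg.Agent.Lib.Helper13.PGL2MaxG
import Cfsg.Agent.Lib.Helper13.PGL2MaxK
import Cfsg.Agent.Lib.Helper13.PGL2MaxO
import Cfsg.Agent.Lib.Helper13.PGL2MaxQ

set_option autoImplicit false
open Cfsg
open Matrix Subgroup Cfsg.Agent.Lib.Helper13 Cfsg.Agent.Lib.Helper13.Dk
  Cfsg.Agent.Lib.Helper13.PSL2MaxOdd Cfsg.Agent.Lib.Helper13.PGL2Max Cfsg.Agent.Lib.Helper13.TwGeom

namespace Cfsg.Agent.S5891

set_option maxHeartbeats 3200000 in
/-- Let F be a finite field of odd order q > 3 and characteristic p, and let M be a maximal subgroup of PGL₂(F) not containing the image L of SL₂(F) (a copy of PSL₂(F) of index 2). Then one of the following holds: |M| = q(q − 1) (M is the stabiliser of a point of the projective line); q ≠ 5 and M is dihedral of order 2(q − 1); M is dihedral of order 2(q + 1); q = p ≡ ±3 (mod 8) and M ≅ S₄; or q = q₀^r for an odd prime r and M ≅ PGL₂(F₀) with |F₀| = q₀. -/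
theorem result {F : Type*} [Field F] [Fintype F]
    (hodd : Odd (Fintype.card F)) (h3 : 3 < Fintype.card F) (M : Subgroup (Matrix.ProjGenLinGroup (Fin 2) F)) (hM : IsCoatom M)
    (hML : ¬ (Matrix.ProjGenLinGroup.mk.comp Matrix.SpecialLinearGroup.toGL).range ≤ M) :
    Nat.card M = Fintype.card F * (Fintype.card F - 1) ∨
    (Fintype.card F ≠ 5 ∧ Nonempty (M ≃* DihedralGroup (Fintype.card F - 1))) ∨
    Nonempty (M ≃* DihedralGroup (Fintype.card F + 1)) ∨
    ((Fintype.card F).Prime ∧ (Fintype.card F % 8 = 3 ∨ Fintype.card F % 8 = 5) ∧ Nonempty (M ≃* Equiv.Perm (Fin 4))) ∨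
    (∃ (F₀ : Type) (_ : Field F₀) (_ : Fintype F₀) (r : ℕ), r.Prime ∧ Odd r ∧ Fintype.card F = Fintype.card F₀ ^ r ∧
        Nonempty (M ≃* Matrix.ProjGenLinGroup (Fin 2) F₀)) := by
  classical
  obtain ⟨p, hp⟩ := CharP.exists F
  haveI : Fact p.Prime := ⟨CharP.char_is_prime F p⟩
  have hML' : ¬ (piP F).range ≤ M := hML
  have hp2 : p ≠ 2 := p_ne_two (F := F) p hodd
  have h2 : (2 : F) ≠ 0 := two_ne_zero_of_odd hodd
  have h := glMax_comap M hM hML'
  by_cases hss : ∀ y : M.comap (piP F), ¬ Emb.sc ((subEmb (M.comap (piP F))).m y) →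
      (subEmb (M.comap (piP F))).tr y ^ 2 ≠ 4
  · by_cases hna : ∃ x y : M.comap (piP F), x * y ≠ y * x
    · rcases (subEmb (M.comap (piP F))).caseI hna hss with hD | hs | hs | ⟨hs, h5⟩
      · rcases dih_case hodd h3 M hM hML' hD with ⟨hq5, hiso⟩ | hiso
        · exact Or.inr (Or.inl ⟨hq5, hiso⟩)
        · exact Or.inr (Or.inr (Or.inl hiso))
      · right; right; right; left
        obtain ⟨e⟩ := PGL2Max.sym4_of_small M hM hML' hodd p hna hss hs
        have hq := prime_of_small12 hodd M hM hML' p hna hss hs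
        obtain ⟨f⟩ := alt4_of_small (prH M) (prH_surjective M) (ker_prH M hM hML' hna) hs
        refine ⟨?_, mod_eight_of_sym4 h2 M f e, ⟨e⟩⟩
        rw [hq]
        exact Fact.out
      · exact (false_of_small24 M hM hML' hodd p hna hs).elim
      · exfalso
        have hnd : ¬ p ∣ Nat.card (M.comap (piP F)) := PairNF.not_dvd_of_hss p hp2 _ hss
        have hc2 : Nat.card (center (M.comap (piP F))) = 2 := card_center_comap_piP h2 M hna
        have hcard : Nat.card (M.comap (piP F)) = 120 := by rw [hs.1, hc2]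
        have hp5 : p ≠ 5 := by
          rintro rfl
          apply hnd
          rw [hcard]; norm_num
        exact false_of_small60 M hM hML' hodd p hna hs h5 hp5
    · push Not at hna
      exact (abelian_false hodd h3 M hM hML' hss hna).elim
  · rcases (subEmb (M.comap (piP F))).dickson_refined' p with h1 | ⟨Θ, hB⟩ | hD | ⟨hs, h5, hp3⟩ | hsf
    · exact absurd h1 hss
    · left
      obtain ⟨P, hP, hΘ⟩ := tw_geom h2 Θ
      push Not at hss
      obtain ⟨y, hy, htr⟩ := hss
      rw [card_eq_card_comap M hM hML' hodd]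
      exact card_of_borel h P hP Θ hΘ hB y hy htr
    · rcases dih_case hodd h3 M hM hML' hD with ⟨hq5, hiso⟩ | hiso
      · exact Or.inr (Or.inl ⟨hq5, hiso⟩)
      · exact Or.inr (Or.inr (Or.inl hiso))
    · exfalso
      have hna : ∃ x y : M.comap (piP F), x * y ≠ y * x := by
        by_contra hab
        push Not at hab
        have htop : center (M.comap (piP F)) = ⊤ := by
          rw [eq_top_iff]
          intro x _
          rw [Subgroup.mem_center_iff]
          intro y
          exact hab y x
        have h1 := hs.1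
        rw [htop, Subgroup.card_top] at h1
        have hpos : 0 < Nat.card (M.comap (piP F)) := Nat.card_pos
        omega
      have hp5 : p ≠ 5 := by rw [hp3]; norm_num
      exact false_of_small60 M hM hML' hodd p hna hs h5 hp5
    · right; right; right; right
      exact subfield_case hodd h3 M hM hML' hsf

end Cfsg.Agent.S5891
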