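import Cfsg.Statements.S2433
import Cfsg.Agent.Lib.Helper13.SLBridge3

set_option autoImplicit false
open Cfsg

namespace Cfsg.Agent.S2433

/-- Let F be a finite field with q elements, q odd, α a multiplicative character of F, and R(α) the function on SL₂ induced from the linear character b ↦ α(b₁₁) of the upper triangular subgroup. Then R(α) takes the value α(a) + α(a⁻¹) at a diagonal element with entries a, a⁻¹, a² ≠ 1; the value 0 at every element with no eigenvector in F²; the value α(ε) at an upper triangular element with both diagonal entries ε and non-zero upper right entry; and the value (q + 1)α(ε) at the scalar element ε (ε = ±1). -/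
theorem result {F : Type*} [Field F] [Fintype F] [DecidableEq F] (hodd : Odd (Fintype.card F)) (α : MulChar F ℂ) (g : Matrix.SpecialLinearGroup (Fin 2) F) :
    ((g : Matrix (Fin 2) (Fin 2) F) 0 1 = 0 → (g : Matrix (Fin 2) (Fin 2) F) 1 0 = 0 → (g : Matrix (Fin 2) (Fin 2) F) 0 0 ^ 2 ≠ 1 →
      (Cfsg.indFun ((Cfsg.upperTriangularGL 2 F).comap Matrix.SpecialLinearGroup.toGL) (fun b => α (((b : Matrix.SpecialLinearGroup (Fin 2) F) : Matrix (Fin 2) (Fin 2) F) 0 0))) g = α ((g : Matrix (Fin 2) (Fin 2) F) 0 0) + α ((g : Matrix (Fin 2) (Fin 2) F) 1 1)) ∧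
    ((∀ (c : F) (v : Fin 2 → F), v ≠ 0 → (g : Matrix (Fin 2) (Fin 2) F).mulVec v ≠ c • v) → (Cfsg.indFun ((Cfsg.upperTriangularGL 2 F).comap Matrix.SpecialLinearGroup.toGL) (fun b => α (((b : Matrix.SpecialLinearGroup (Fin 2) F) : Matrix (Fin 2) (Fin 2) F) 0 0))) g = 0) ∧
    ((g : Matrix (Fin 2) (Fin 2) F) 1 0 = 0 → (g : Matrix (Fin 2) (Fin 2) F) 0 0 = (g : Matrix (Fin 2) (Fin 2) F) 1 1 → (g : Matrix (Fin 2) (Fin 2) F) 0 1 ≠ 0 →
      (Cfsg.indFun ((Cfsg.upperTriangularGL 2 F).comap Matrix.SpecialLinearGroup.toGL) (fun b => α (((b : Matrix.SpecialLinearGroup (Fin 2) F) : Matrix (Fin 2) (Fin 2) F) 0 0))) g = α ((g : Matrix (Fin 2) (Fin 2) F) 0 0)) ∧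
    ((g : Matrix (Fin 2) (Fin 2) F) 0 1 = 0 → (g : Matrix (Fin 2) (Fin 2) F) 1 0 = 0 → (g : Matrix (Fin 2) (Fin 2) F) 0 0 = (g : Matrix (Fin 2) (Fin 2) F) 1 1 →
      (Cfsg.indFun ((Cfsg.upperTriangularGL 2 F).comap Matrix.SpecialLinearGroup.toGL) (fun b => α (((b : Matrix.SpecialLinearGroup (Fin 2) F) : Matrix (Fin 2) (Fin 2) F) 0 0))) g = ((Fintype.card F : ℂ) + 1) * α ((g : Matrix (Fin 2) (Fin 2) F) 0 0)) := by
  have hres := Cfsg.Agent.Lib.Helper13.resSL_indFun_psChar α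
  have hval : ∀ g : Matrix.SpecialLinearGroup (Fin 2) F,
      (Cfsg.indFun ((Cfsg.upperTriangularGL 2 F).comap Matrix.SpecialLinearGroup.toGL) (fun b => α (((b : Matrix.SpecialLinearGroup (Fin 2) F) : Matrix (Fin 2) (Fin 2) F) 0 0))) g =
      Cfsg.indFun (Cfsg.upperTriangularGL 2 F) (Cfsg.Agent.Lib.Helper13.psChar α 1)
        (Matrix.SpecialLinearGroup.toGL g) := by
    intro g
    have := congrFun hres g
    rw [Cfsg.Agent.Lib.Helper13.resSL_apply] at this
    rw [this]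
    rfl
  have hdet : (g : Matrix (Fin 2) (Fin 2) F) 0 0 * (g : Matrix (Fin 2) (Fin 2) F) 1 1 -
      (g : Matrix (Fin 2) (Fin 2) F) 0 1 * (g : Matrix (Fin 2) (Fin 2) F) 1 0 = 1 := by
    have := g.2
    rw [Matrix.det_fin_two] at this
    exact this
  have hone : ∀ x : F, x ≠ 0 → (1 : MulChar F ℂ) x = 1 := fun x hx => MulChar.one_apply hx.isUnit
  rw [hval]
  refine ⟨?_, ?_, ?_, ?_⟩
  · intro h01 h10 hne
    rw [h01, zero_mul, sub_zero] at hdet
    rw [Cfsg.Agent.Lib.Helper13.indFun_psChar_split α 1 _ h01 h10]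
    · change α ((g : Matrix (Fin 2) (Fin 2) F) 0 0) * (1 : MulChar F ℂ) ((g : Matrix (Fin 2) (Fin 2) F) 1 1) +
        α ((g : Matrix (Fin 2) (Fin 2) F) 1 1) * (1 : MulChar F ℂ) ((g : Matrix (Fin 2) (Fin 2) F) 0 0) = _
      rw [hone _ (right_ne_zero_of_mul_eq_one hdet), hone _ (left_ne_zero_of_mul_eq_one hdet), mul_one, mul_one]
    · change (g : Matrix (Fin 2) (Fin 2) F) 0 0 ≠ (g : Matrix (Fin 2) (Fin 2) F) 1 1
      intro heq
      apply hne
      rw [← heq] at hdet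
      rw [pow_two]
      exact hdet
  · intro hell
    exact Cfsg.Agent.Lib.Helper13.indFun_ut_elliptic _ _ hell
  · intro h10 h0011 h01
    rw [h10, mul_zero, sub_zero] at hdet
    rw [Cfsg.Agent.Lib.Helper13.indFun_psChar_scal_unip α 1 _ ((g : Matrix (Fin 2) (Fin 2) F) 0 0)
      ((g : Matrix (Fin 2) (Fin 2) F) 0 1) h01, hone _ (left_ne_zero_of_mul_eq_one hdet), mul_one]
    change (g : Matrix (Fin 2) (Fin 2) F) = _
    ext i j
    fin_cases i <;> fin_cases j
    · rfl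
    · rfl
    · exact h10
    · exact h0011.symm
  · intro h01 h10 h0011
    rw [h01, zero_mul, sub_zero] at hdet
    rw [Cfsg.Agent.Lib.Helper13.indFun_psChar_scalar α 1 _ ((g : Matrix (Fin 2) (Fin 2) F) 0 0),
      hone _ (left_ne_zero_of_mul_eq_one hdet), mul_one]
    change (g : Matrix (Fin 2) (Fin 2) F) = _
    ext i j
    fin_cases i <;> fin_cases j
    · rfl
    · exact h01
    · exact h10
    · exact h0011.symm

end Cfsg.Agent.S2433
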