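import Cfsg.Statements.S0300
import Cfsg.Agent.Lib.Helper13.SL2
import Cfsg.Agent.Lib.Helper14.OrthMinus
import Cfsg.Agent.Lib.Helper15.UnitaryQuad
import Cfsg.Agent.Lib.Helper15.HermAct

set_option autoImplicit false
open Cfsg

namespace Cfsg.Agent.S0300

open Cfsg.Agent.Lib.Helper15 Cfsg.Agent.Lib.Helper15.HermAct Cfsg.Agent.Lib.Helper15.OmegaIso Matrix

section model

variable {F K : Type*} [Field F] [Fintype F] [Field K] [Fintype K] [Algebra F K]

/-- the index type of the four-dimensional minus-type space -/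
abbrev J := (Fin 1 ⊕ Fin 1) ⊕ Fin 2

/-- the Frobenius as a ring hom -/
noncomputable def sg (F K : Type*) [Field F] [Fintype F] [Field K] [Fintype K] [Algebra F K] :
    K →+* K := (frobK F K : K →+* K)

lemma sg_apply (z : K) : sg F K z = z ^ Fintype.card F := rfl

lemma sg_sg (hK : Fintype.card K = Fintype.card F ^ 2) (z : K) : sg F K (sg F K z) = z :=
  frobK_frobK hK z

lemma sg_algebraMap (c : F) : sg F K (algebraMap F K c) = algebraMap F K c :=
  frobK_algebraMap c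

lemma sg_fixed (z : K) (hz : sg F K z = z) : ∃ c : F, algebraMap F K c = z :=
  fix_mem_range z hz

/-- the off-diagonal entry -/
noncomputable def bet (ω : K) (v : J → F) : K :=
  algebraMap F K (v (.inr 0)) + algebraMap F K (v (.inr 1)) * ω

/-- the Hermitian matrix of a vector -/
noncomputable def Xm (ω : K) (v : J → F) : Matrix (Fin 2) (Fin 2) K :=
  Matrix.of ![![algebraMap F K (v (.inl (.inl 0))), bet ω v],
    ![sg F K (bet ω v), -algebraMap F K (v (.inl (.inr 0)))]]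

lemma Xm_00 (ω : K) (v : J → F) : Xm ω v 0 0 = algebraMap F K (v (.inl (.inl 0))) := rfl
lemma Xm_01 (ω : K) (v : J → F) : Xm ω v 0 1 = bet ω v := rfl
lemma Xm_10 (ω : K) (v : J → F) : Xm ω v 1 0 = sg F K (bet ω v) := rfl
lemma Xm_11 (ω : K) (v : J → F) : Xm ω v 1 1 = -algebraMap F K (v (.inl (.inr 0))) := rfl

lemma bet_add (ω : K) (v w : J → F) : bet ω (v + w) = bet ω v + bet ω w := by
  unfold bet
  simp only [Pi.add_apply, map_add]
  ring

lemma bet_smul (ω : K) (c : F) (v : J → F) : bet ω (c • v) = algebraMap F K c * bet ω v := by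
  unfold bet
  simp only [Pi.smul_apply, smul_eq_mul, map_mul]
  ring

/-- `Xm` as a linear map -/
noncomputable def XL (ω : K) : (J → F) →ₗ[F] Matrix (Fin 2) (Fin 2) K where
  toFun := Xm ω
  map_add' v w := by
    ext i j
    fin_cases i <;> fin_cases j
    · show Xm ω (v + w) 0 0 = Xm ω v 0 0 + Xm ω w 0 0
      simp only [Xm_00, Pi.add_apply, map_add]
    · show Xm ω (v + w) 0 1 = Xm ω v 0 1 + Xm ω w 0 1
      simp only [Xm_01, bet_add]
    · show Xm ω (v + w) 1 0 = Xm ω v 1 0 + Xm ω w 1 0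
      simp only [Xm_10, bet_add, map_add]
    · show Xm ω (v + w) 1 1 = Xm ω v 1 1 + Xm ω w 1 1
      simp only [Xm_11, Pi.add_apply, map_add]
      ring
  map_smul' c v := by
    ext i j
    fin_cases i <;> fin_cases j
    · show Xm ω (c • v) 0 0 = c • Xm ω v 0 0
      rw [Xm_00, Xm_00, Pi.smul_apply, smul_eq_mul, map_mul, Algebra.smul_def]
    · show Xm ω (c • v) 0 1 = c • Xm ω v 0 1
      rw [Xm_01, Xm_01, bet_smul, Algebra.smul_def]
    · show Xm ω (c • v) 1 0 = c • Xm ω v 1 0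
      rw [Xm_10, Xm_10, bet_smul, map_mul, sg_algebraMap, Algebra.smul_def]
    · show Xm ω (c • v) 1 1 = c • Xm ω v 1 1
      rw [Xm_11, Xm_11, Pi.smul_apply, smul_eq_mul, map_mul, Algebra.smul_def]
      ring

lemma XL_apply (ω : K) (v : J → F) : XL ω v = Xm ω v := rfl

lemma Xm_herm (hK : Fintype.card K = Fintype.card F ^ 2) (ω : K) (v : J → F) :
    cj (sg F K) (Xm ω v) = Xm ω v := by
  ext i j
  rw [cj_apply]
  fin_cases i <;> fin_cases j
  · show sg F K (Xm ω v 0 0) = Xm ω v 0 0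
    rw [Xm_00, sg_algebraMap]
  · show sg F K (Xm ω v 1 0) = Xm ω v 0 1
    rw [Xm_10, Xm_01, sg_sg hK]
  · show sg F K (Xm ω v 0 1) = Xm ω v 1 0
    rw [Xm_10, Xm_01]
  · show sg F K (Xm ω v 1 1) = Xm ω v 1 1
    rw [Xm_11, map_neg, sg_algebraMap]

lemma det_Xm (a b : F) (ω : K) (hω1 : ω + sg F K ω = algebraMap F K a)
    (hω2 : ω * sg F K ω = algebraMap F K b) (v : J → F) :
    (Xm ω v).det = -algebraMap F K (Cfsg.quadFormMinus 1 F a b v) := by
  rw [Matrix.det_fin_two, Xm_00, Xm_01, Xm_10, Xm_11]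
  unfold Cfsg.quadFormMinus bet
  simp only [Finset.univ_unique, Fin.default_eq_zero, Fin.isValue, Finset.sum_singleton, map_add,
    map_mul, map_pow, sg_algebraMap]
  linear_combination (-(algebraMap F K (v (.inr 0)) * algebraMap F K (v (.inr 1)))) * hω1
    - (algebraMap F K (v (.inr 1))) ^ 2 * hω2

/-- every element of `K` is `z₀ + z₁ ω` -/
lemma exists_coords (hK : Fintype.card K = Fintype.card F ^ 2) (ω : K)
    (hω3 : ∀ z : F, algebraMap F K z ≠ ω) (β : K) :
    ∃ z₀ z₁ : F, algebraMap F K z₀ + algebraMap F K z₁ * ω = β := by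
  set d : K := ω - sg F K ω with hd
  have hd0 : d ≠ 0 := by
    intro h
    obtain ⟨c, hc⟩ := sg_fixed ω (sub_eq_zero.mp h).symm
    exact hω3 c hc
  have hsd : sg F K d = -d := by
    rw [hd, map_sub, sg_sg hK]
    ring
  set t₁ : K := (β - sg F K β) / d with ht₁
  have h1 : sg F K t₁ = t₁ := by
    rw [ht₁, map_div₀, map_sub, sg_sg hK, hsd]
    field_simp
    ring
  obtain ⟨z₁, hz₁⟩ := sg_fixed t₁ h1
  set t₀ : K := β - t₁ * ω with ht₀
  have h0 : sg F K t₀ = t₀ := by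
    have e : t₁ * d = β - sg F K β := by
      rw [ht₁, div_mul_cancel₀ _ hd0]
    rw [ht₀, map_sub, map_mul, h1]
    linear_combination e
  obtain ⟨z₀, hz₀⟩ := sg_fixed t₀ h0
  refine ⟨z₀, z₁, ?_⟩
  rw [hz₀, hz₁, ht₀]
  ring

/-- the vector with given coordinates -/
def mkV (x y z₀ z₁ : F) : J → F :=
  Sum.elim (Sum.elim (fun _ => x) (fun _ => y)) ![z₀, z₁]

lemma Xm_surj (hK : Fintype.card K = Fintype.card F ^ 2) (ω : K)
    (hω3 : ∀ z : F, algebraMap F K z ≠ ω) (A : Matrix (Fin 2) (Fin 2) K)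
    (hA : cj (sg F K) A = A) : ∃ v : J → F, Xm ω v = A := by
  have h00 : sg F K (A 0 0) = A 0 0 := by
    have := congrFun (congrFun hA 0) 0
    rwa [cj_apply] at this
  have h11 : sg F K (A 1 1) = A 1 1 := by
    have := congrFun (congrFun hA 1) 1
    rwa [cj_apply] at this
  have h10 : sg F K (A 0 1) = A 1 0 := by
    have := congrFun (congrFun hA 1) 0
    rwa [cj_apply] at this
  obtain ⟨x, hx⟩ := sg_fixed _ h00
  obtain ⟨y, hy⟩ := sg_fixed (-(A 1 1)) (by rw [map_neg, h11])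
  obtain ⟨z₀, z₁, hz⟩ := exists_coords hK ω hω3 (A 0 1)
  refine ⟨mkV x y z₀ z₁, ?_⟩
  have hb : bet ω (mkV x y z₀ z₁) = A 0 1 := by
    unfold bet mkV
    simpa using hz
  ext i j
  fin_cases i <;> fin_cases j
  · show Xm ω (mkV x y z₀ z₁) 0 0 = A 0 0
    rw [Xm_00, ← hx]
    rfl
  · show Xm ω (mkV x y z₀ z₁) 0 1 = A 0 1
    rw [Xm_01, hb]
  · show Xm ω (mkV x y z₀ z₁) 1 0 = A 1 0
    rw [Xm_10, hb, h10]
  · show Xm ω (mkV x y z₀ z₁) 1 1 = A 1 1
    rw [Xm_11]
    have : algebraMap F K (mkV x y z₀ z₁ (.inl (.inr 0))) = -(A 1 1) := hy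
    rw [this, neg_neg]

lemma XL_ker (ω : K) (hω3 : ∀ z : F, algebraMap F K z ≠ ω) : LinearMap.ker (XL (F := F) ω) = ⊥ := by
  rw [LinearMap.ker_eq_bot']
  intro v hv
  rw [XL_apply] at hv
  have h00 : Xm ω v 0 0 = 0 := by rw [hv]; rfl
  have h01 : Xm ω v 0 1 = 0 := by rw [hv]; rfl
  have h11 : Xm ω v 1 1 = 0 := by rw [hv]; rfl
  rw [Xm_00] at h00
  rw [Xm_11, neg_eq_zero] at h11
  rw [Xm_01] at h01
  unfold bet at h01
  have hx : v (.inl (.inl 0)) = 0 := (map_eq_zero (algebraMap F K)).mp h00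
  have hy : v (.inl (.inr 0)) = 0 := (map_eq_zero (algebraMap F K)).mp h11
  have hz1 : v (.inr 1) = 0 := by
    by_contra hne
    apply hω3 (-(v (.inr 0)) / v (.inr 1))
    have hne' : algebraMap F K (v (.inr 1)) ≠ 0 := by
      rwa [Ne, map_eq_zero]
    rw [map_div₀, map_neg]
    field_simp
    linear_combination (-1 : K) * h01
  have hz0 : v (.inr 0) = 0 := by
    rw [hz1, map_zero, zero_mul, add_zero] at h01
    exact (map_eq_zero (algebraMap F K)).mp h01
  funext j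
  rcases j with (i | i) | i
  · rw [Subsingleton.elim i 0]; exact hx
  · rw [Subsingleton.elim i 0]; exact hy
  · fin_cases i
    · exact hz0
    · exact hz1

end model

section rep

variable {F K : Type*} [Field F] [Fintype F] [Field K] [Fintype K] [Algebra F K]

/-- `act` as an `F`-linear map -/
noncomputable def actL (g : Matrix (Fin 2) (Fin 2) K) :
    Matrix (Fin 2) (Fin 2) K →ₗ[F] Matrix (Fin 2) (Fin 2) K where
  toFun := act (sg F K) g
  map_add' A B := by
    unfold act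
    rw [Matrix.mul_add, Matrix.add_mul]
  map_smul' c A := by
    unfold act
    rw [Matrix.mul_smul, Matrix.smul_mul]
    rfl

lemma actL_apply (g A : Matrix (Fin 2) (Fin 2) K) : actL (F := F) g A = act (sg F K) g A := rfl

lemma XY (hK : Fintype.card K = Fintype.card F ^ 2) (ω : K)
    (hω3 : ∀ z : F, algebraMap F K z ≠ ω) (Y : Matrix (Fin 2) (Fin 2) K →ₗ[F] (J → F))
    (hY : ∀ v, Y (Xm ω v) = v) (A : Matrix (Fin 2) (Fin 2) K) (hA : cj (sg F K) A = A) :
    Xm ω (Y A) = A := by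
  obtain ⟨v, rfl⟩ := Xm_surj hK ω hω3 A hA
  rw [hY]

/-- the representation of `SL₂(K)` on the four-dimensional `F`-space -/
noncomputable def rho (hK : Fintype.card K = Fintype.card F ^ 2) (ω : K)
    (hω3 : ∀ z : F, algebraMap F K z ≠ ω) (Y : Matrix (Fin 2) (Fin 2) K →ₗ[F] (J → F))
    (hY : ∀ v, Y (Xm ω v) = v) :
    Matrix.SpecialLinearGroup (Fin 2) K →* Module.End F (J → F) where
  toFun g := Y ∘ₗ actL g.1 ∘ₗ XL ω
  map_one' := by
    refine LinearMap.ext fun v => ?_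
    show Y (act (sg F K) 1 (Xm ω v)) = v
    rw [act_one, hY]
  map_mul' g h := by
    refine LinearMap.ext fun v => ?_
    show Y (act (sg F K) (g.1 * h.1) (Xm ω v)) =
      Y (act (sg F K) g.1 (Xm ω (Y (act (sg F K) h.1 (Xm ω v)))))
    rw [act_mul, XY hK ω hω3 Y hY _ (herm_act _ (sg_sg hK) _ _ (Xm_herm hK ω v))]

lemma rho_apply (hK : Fintype.card K = Fintype.card F ^ 2) (ω : K)
    (hω3 : ∀ z : F, algebraMap F K z ≠ ω) (Y : Matrix (Fin 2) (Fin 2) K →ₗ[F] (J → F))
    (hY : ∀ v, Y (Xm ω v) = v) (g : Matrix.SpecialLinearGroup (Fin 2) K) (v : J → F) :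
    Xm ω (rho hK ω hω3 Y hY g v) = act (sg F K) g.1 (Xm ω v) := by
  show Xm ω (Y (act (sg F K) g.1 (Xm ω v))) = _
  rw [XY hK ω hω3 Y hY _ (herm_act _ (sg_sg hK) _ _ (Xm_herm hK ω v))]

lemma rho_quad (hK : Fintype.card K = Fintype.card F ^ 2) (a b : F) (ω : K)
    (hω1 : ω + sg F K ω = algebraMap F K a) (hω2 : ω * sg F K ω = algebraMap F K b)
    (hω3 : ∀ z : F, algebraMap F K z ≠ ω) (Y : Matrix (Fin 2) (Fin 2) K →ₗ[F] (J → F))
    (hY : ∀ v, Y (Xm ω v) = v) (g : Matrix.SpecialLinearGroup (Fin 2) K) (v : J → F) :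
    Cfsg.quadFormMinus 1 F a b (rho hK ω hω3 Y hY g v) = Cfsg.quadFormMinus 1 F a b v := by
  apply (algebraMap F K).injective
  apply neg_injective
  rw [← det_Xm a b ω hω1 hω2, ← det_Xm a b ω hω1 hω2, rho_apply, det_act, g.2, map_one, one_mul,
    mul_one]

/-- kernel elements are scalar -/
lemma rho_ker (hK : Fintype.card K = Fintype.card F ^ 2) (ω : K)
    (hω3 : ∀ z : F, algebraMap F K z ≠ ω) (Y : Matrix (Fin 2) (Fin 2) K →ₗ[F] (J → F))
    (hY : ∀ v, Y (Xm ω v) = v) (g : Matrix.SpecialLinearGroup (Fin 2) K)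
    (hg : rho hK ω hω3 Y hY g = 1) :
    ∃ p : K, p * p = 1 ∧ (g : Matrix (Fin 2) (Fin 2) K) = p • (1 : Matrix (Fin 2) (Fin 2) K) := by
  have hfix : ∀ v : J → F, act (sg F K) g.1 (Xm ω v) = Xm ω v := by
    intro v
    rw [← rho_apply hK ω hω3 Y hY, hg]
    rfl
  have hs0 : ∀ z : K, z * sg F K z = 0 → z = 0 := by
    intro z hz
    rcases mul_eq_zero.mp hz with h | h
    · exact h
    · rw [sg_apply] at h
      exact pow_eq_zero_iff (Fintype.card_ne_zero) |>.mp h
  -- the three test vectors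
  have e1 := hfix (mkV 1 0 0 0)
  have e2 := hfix (mkV 0 1 0 0)
  have e3 := hfix (mkV 0 0 1 0)
  have b1 : bet ω (mkV (1 : F) 0 0 0) = 0 := by unfold bet mkV; simp
  have b2 : bet ω (mkV (0 : F) 1 0 0) = 0 := by unfold bet mkV; simp
  have b3 : bet ω (mkV (0 : F) 0 1 0) = 1 := by unfold bet mkV; simp
  have x1 : algebraMap F K (mkV (1 : F) 0 0 0 (.inl (.inl 0))) = 1 := by unfold mkV; simp
  have y1 : algebraMap F K (mkV (1 : F) 0 0 0 (.inl (.inr 0))) = 0 := by unfold mkV; simp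
  have x2 : algebraMap F K (mkV (0 : F) 1 0 0 (.inl (.inl 0))) = 0 := by unfold mkV; simp
  have y2 : algebraMap F K (mkV (0 : F) 1 0 0 (.inl (.inr 0))) = 1 := by unfold mkV; simp
  have x3 : algebraMap F K (mkV (0 : F) 0 1 0 (.inl (.inl 0))) = 0 := by unfold mkV; simp
  have y3 : algebraMap F K (mkV (0 : F) 0 1 0 (.inl (.inr 0))) = 0 := by unfold mkV; simp
  -- entry (1,1) of e1: s σ s = 0
  have h1 := congrFun (congrFun e1 1) 1
  rw [act_apply, Xm_00, Xm_01, Xm_10, Xm_11, b1, x1, y1] at h1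
  simp only [map_zero, mul_zero, add_zero, neg_zero, mul_one, zero_mul] at h1
  have hs : g.1 1 0 = 0 := hs0 _ h1
  -- entry (0,0) of e2: r σ r = 0
  have h2 := congrFun (congrFun e2 0) 0
  rw [act_apply, Xm_00, Xm_01, Xm_10, Xm_11, b2, x2, y2] at h2
  simp only [map_zero, mul_zero, zero_mul, add_zero, zero_add, mul_neg, mul_one, neg_mul,
    neg_eq_zero] at h2
  have hr : g.1 0 1 = 0 := hs0 _ h2
  -- entry (1,1) of e2: t σ t = 1
  have h3 := congrFun (congrFun e2 1) 1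
  rw [act_apply, Xm_00, Xm_01, Xm_10, Xm_11, b2, x2, y2] at h3
  simp only [map_zero, mul_zero, zero_mul, add_zero, zero_add, mul_neg, mul_one, neg_mul,
    neg_inj] at h3
  -- entry (0,1) of e3: p σ t = 1
  have h4 := congrFun (congrFun e3 0) 1
  rw [act_apply, Xm_00, Xm_01, Xm_10, Xm_11, b3, x3, y3] at h4
  simp only [map_one, map_zero, mul_zero, add_zero, zero_add, mul_one, neg_zero, hs, hr] at h4
  have hσt : sg F K (g.1 1 1) ≠ 0 := by
    intro h
    rw [h, mul_zero] at h3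
    exact zero_ne_one h3
  have hpt : g.1 0 0 = g.1 1 1 := mul_right_cancel₀ hσt (h4.trans h3.symm)
  have hdet := g.2
  rw [Matrix.det_fin_two, hs, hr, hpt] at hdet
  refine ⟨g.1 1 1, by linear_combination hdet, ?_⟩
  ext i j
  fin_cases i <;> fin_cases j
  · show g.1 0 0 = _
    rw [hpt]; simp
  · show g.1 0 1 = _
    rw [hr]; simp
  · show g.1 1 0 = _
    rw [hs]; simp
  · show g.1 1 1 = _
    simp

end rep

section final

variable {F K : Type*} [Field F] [Fintype F] [Field K] [Fintype K]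

lemma sl2_perfect (hK : 4 ≤ Fintype.card K) :
    commutator (Matrix.SpecialLinearGroup (Fin 2) K) = ⊤ := by
  classical
  have hlt : ({0, 1, -1} : Finset K).card < (Finset.univ : Finset K).card := by
    rw [Finset.card_univ]
    calc ({0, 1, -1} : Finset K).card ≤ 3 := Finset.card_le_three
      _ < Fintype.card K := by omega
  obtain ⟨x, -, hx⟩ := Finset.exists_mem_notMem_of_card_lt_card hlt
  simp only [Finset.mem_insert, Finset.mem_singleton, not_or] at hx
  apply Matrix.SL2.commutator_eq_top hx.1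
  intro h
  have : (x - 1) * (x + 1) = 0 := by linear_combination h
  rcases mul_eq_zero.mp this with h | h
  · exact hx.2.1 (sub_eq_zero.mp h)
  · exact hx.2.2 (eq_neg_of_add_eq_zero_left h)

lemma card_sl2 {Q : ℕ} (hK : Fintype.card K = Q) (hQ : 2 ≤ Q) :
    Nat.card (Matrix.SpecialLinearGroup (Fin 2) K) = Q * (Q ^ 2 - 1) := by
  have hSL := Cfsg.Agent.Lib.Helper13.card_SL_mul (F := K) 2 (by norm_num)
  rw [Matrix.card_GL_field] at hSL
  simp only [Fin.prod_univ_two, Fin.val_zero, Fin.val_one, pow_zero, pow_one, hK] at hSL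
  have e2 : Q ^ 2 - Q = Q * (Q - 1) := by
    rw [Nat.mul_sub, mul_one, pow_two]
  rw [e2] at hSL
  have hD : 0 < Q - 1 := by omega
  apply Nat.eq_of_mul_eq_mul_right hD
  rw [hSL]
  ring

theorem main {q : ℕ} (hF : Fintype.card F = q) (hK : Fintype.card K = q ^ 2) (a b : F)
    (hab : ∀ z₁ z₂ : F, z₁ ^ 2 + a * z₁ * z₂ + b * z₂ ^ 2 = 0 → z₁ = 0 ∧ z₂ = 0) :
    Nonempty (Cfsg.POmega F (Cfsg.quadFormMinus 1 F a b) ≃*
      Matrix.ProjectiveSpecialLinearGroup (Fin 2) K) := by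
  classical
  have hq : 2 ≤ q := by rw [← hF]; exact Fintype.one_lt_card
  have hK' : Fintype.card K = Fintype.card F ^ 2 := by rw [hK, hF]
  have hac : ∀ z : F, z ^ 2 + a * z + b ≠ 0 := by
    intro z hz
    have := hab z 1 (by linear_combination hz)
    exact one_ne_zero this.2
  obtain ⟨ι, α, hα, -⟩ := exists_embedding_root hK' a b hac
  let _ : Algebra F K := ι.toAlgebra
  have hα' : α ^ 2 + algebraMap F K a * α + algebraMap F K b = 0 := hα
  obtain ⟨hω1, hω2, hω3⟩ := conj_root a b hac α hα'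
  obtain ⟨Y, hY⟩ := LinearMap.exists_leftInverse_of_injective (XL (F := F) (-α)) (XL_ker (-α) hω3)
  have hY' : ∀ v, Y (Xm (-α) v) = v := fun v => LinearMap.congr_fun hY v
  obtain ⟨φ, hφ⟩ := hom_of_rep (Cfsg.quadFormMinus 1 F a b) (rho hK' (-α) hω3 Y hY')
    (rho_quad hK' a b (-α) hω1 hω2 hω3 Y hY')
  have hkerscal : ∀ g ∈ φ.ker, ∃ p : K, p * p = 1 ∧
      (g : Matrix (Fin 2) (Fin 2) K) = p • (1 : Matrix (Fin 2) (Fin 2) K) := by
    intro g hg
    exact rho_ker hK' (-α) hω3 Y hY' g ((hφ g).mp hg)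
  have hker : φ.ker ≤ Subgroup.center (Matrix.SpecialLinearGroup (Fin 2) K) := by
    intro g hg
    obtain ⟨p, hp, hgp⟩ := hkerscal g hg
    rw [Matrix.SpecialLinearGroup.mem_center_iff]
    refine ⟨p, ?_, ?_⟩
    · simp only [Fintype.card_fin]
      rw [pow_two]; exact hp
    · rw [hgp, Matrix.smul_one_eq_diagonal]
      rfl
  have hkcard : Nat.card φ.ker ≤ 2 := card_le_two_of_scalar 0 φ.ker hkerscal
  have hperf : commutator (Matrix.SpecialLinearGroup (Fin 2) K) = ⊤ := by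
    apply sl2_perfect
    rw [hK]
    nlinarith
  have hcard : Nat.card ↥(Cfsg.isometryGroup F (Cfsg.quadFormMinus 1 F a b)) =
      2 * Nat.card (Matrix.SpecialLinearGroup (Fin 2) K) := by
    rw [Cfsg.Agent.Lib.Helper14.OrthMinus.card_isometry_minus hab 1,
      card_sl2 hK (by nlinarith), hF]
    simp only [Finset.prod_range_one]
    have h1 : (q ^ 2) ^ 2 - 1 = (q ^ 2 + 1) * (q ^ 2 - 1) := by
      have : 1 ≤ q ^ 2 := Nat.one_le_pow _ _ (by omega)
      zify [this, Nat.one_le_pow 2 (q ^ 2) (by positivity)]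
      ring
    rw [h1]
    norm_num
    ring
  exact iso_of_hom φ hperf hker hkcard hcard

end final

/-- PΩ^-_4(q) is isomorphic to PSL_2(q^2). -/
theorem result {F K : Type*} [Field F] [Fintype F] [Field K] [Fintype K] {q : ℕ} (hF : Fintype.card F = q) (hK : Fintype.card K = q ^ 2) (a b : F) (hab : ∀ z₁ z₂ : F, z₁ ^ 2 + a * z₁ * z₂ + b * z₂ ^ 2 = 0 → z₁ = 0 ∧ z₂ = 0) : Nonempty (Cfsg.POmega F (Cfsg.quadFormMinus 1 F a b) ≃* Matrix.ProjectiveSpecialLinearGroup (Fin 2) K) := by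
  exact main hF hK a b hab

end Cfsg.Agent.S0300
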