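import Cfsg.Statements.S0254
import Cfsg.Agent.S0300
import Cfsg.Agent.Lib.Helper14.OrthMinus
import Cfsg.Agent.Lib.Helper15.HermAct
import Cfsg.Agent.Lib.Helper15.OmegaIso

set_option autoImplicit false
open Cfsg

namespace Cfsg.Agent.S0254

open Cfsg.Agent.Lib.Helper15 Cfsg.Agent.Lib.Helper15.HermAct Cfsg.Agent.Lib.Helper15.OmegaIso Equiv

/-- the index type of the four-dimensional minus-type space -/
abbrev J := (Fin 1 ⊕ Fin 1) ⊕ Fin 2

abbrev R := ZMod 3

lemma three_eq_zero : (3 : R) = 0 := by decide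

/-- lift of a vector to the sum-zero hyperplane of the permutation module -/
def Xf (v : J → R) : Fin 6 → R :=
  ![v (.inl (.inl 0)) + v (.inl (.inr 0)) + v (.inr 0) + v (.inr 1),
    v (.inl (.inl 0)) + v (.inl (.inr 0)) - v (.inr 0) - v (.inr 1),
    v (.inl (.inl 0)), v (.inl (.inr 0)), v (.inr 0) - v (.inr 1), -v (.inr 0) + v (.inr 1)]

/-- coordinates modulo the all-ones vector -/
def Yf (w : Fin 6 → R) : J → R :=
  Sum.elim (Sum.elim (fun _ => w 2 + w 4 + w 5) (fun _ => w 3 + w 4 + w 5))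
    ![w 0 - w 1 + w 4 - w 5, w 0 - w 1 - w 4 + w 5]

lemma Xf_add (v w : J → R) : Xf (v + w) = Xf v + Xf w := by
  funext i
  fin_cases i <;> simp [Xf] <;> ring

lemma Xf_smul (c : R) (v : J → R) : Xf (c • v) = c • Xf v := by
  funext i
  fin_cases i <;> simp [Xf] <;> ring

lemma Yf_add (v w : Fin 6 → R) : Yf (v + w) = Yf v + Yf w := by
  funext j
  rcases j with (i | i) | i
  · simp [Yf]; ring
  · simp [Yf]; ring
  · fin_cases i <;> simp [Yf] <;> ring

lemma Yf_smul (c : R) (v : Fin 6 → R) : Yf (c • v) = c • Yf v := by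
  funext j
  rcases j with (i | i) | i
  · simp [Yf]; ring
  · simp [Yf]; ring
  · fin_cases i <;> simp [Yf] <;> ring

def XL : (J → R) →ₗ[R] (Fin 6 → R) where
  toFun := Xf
  map_add' := Xf_add
  map_smul' := Xf_smul

def YL : (Fin 6 → R) →ₗ[R] (J → R) where
  toFun := Yf
  map_add' := Yf_add
  map_smul' := Yf_smul

lemma YX (v : J → R) : Yf (Xf v) = v := by
  funext j
  rcases j with (i | i) | i
  · rw [Subsingleton.elim i 0]
    simp [Yf, Xf]
    ring
  · rw [Subsingleton.elim i 0]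
    simp [Yf, Xf]
    ring
  · fin_cases i
    · simp [Yf, Xf]
      linear_combination (v (.inr 0)) * three_eq_zero
    · simp [Yf, Xf]
      linear_combination (v (.inr 1)) * three_eq_zero

lemma Y_one : Yf (fun _ => 1) = 0 := by
  funext j
  rcases j with (i | i) | i
  · simp [Yf]; exact three_eq_zero
  · simp [Yf]; exact three_eq_zero
  · fin_cases i <;> simp [Yf]

lemma sum_Xf (v : J → R) : ∑ i, Xf v i = 0 := by
  simp [Fin.sum_univ_six, Xf]
  linear_combination (v (.inl (.inl 0)) + v (.inl (.inr 0))) * three_eq_zero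

lemma XY (w : Fin 6 → R) (hw : ∑ i, w i = 0) : Xf (Yf w) = w + (w 4 + w 5) • (fun _ => 1) := by
  rw [Fin.sum_univ_six] at hw
  funext i
  fin_cases i
  · simp [Xf, Yf]
    linear_combination hw - (w 1) * three_eq_zero
  · simp [Xf, Yf]
    linear_combination hw - (w 0) * three_eq_zero
  · simp [Xf, Yf]
    ring
  · simp [Xf, Yf]
    ring
  · simp [Xf, Yf]
    linear_combination (-(w 5)) * three_eq_zero
  · simp [Xf, Yf]
    linear_combination (-(w 4)) * three_eq_zero

lemma quad_Xf (v : J → R) :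
    Cfsg.quadFormMinus 1 R 0 1 v = ∑ i, Xf v i ^ 2 := by
  unfold Cfsg.quadFormMinus
  simp [Fin.sum_univ_six, Xf]
  linear_combination (-(v (.inl (.inl 0)) ^ 2) - v (.inl (.inr 0)) ^ 2
    - v (.inl (.inl 0)) * v (.inl (.inr 0)) - v (.inr 0) ^ 2 - v (.inr 1) ^ 2) * three_eq_zero

/-- the permutation action on functions -/
def Pf (π : Perm (Fin 6)) (w : Fin 6 → R) : Fin 6 → R := fun i => w (π.symm i)

lemma Pf_one (w : Fin 6 → R) : Pf 1 w = w := rfl

lemma Pf_mul (π τ : Perm (Fin 6)) (w : Fin 6 → R) : Pf (π * τ) w = Pf π (Pf τ w) := rfl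

lemma Pf_add (π : Perm (Fin 6)) (v w : Fin 6 → R) : Pf π (v + w) = Pf π v + Pf π w := rfl

lemma Pf_smul (π : Perm (Fin 6)) (c : R) (w : Fin 6 → R) : Pf π (c • w) = c • Pf π w := rfl

lemma Pf_const (π : Perm (Fin 6)) (c : R) : Pf π (fun _ => c) = fun _ => c := rfl

lemma sum_Pf (π : Perm (Fin 6)) (w : Fin 6 → R) : ∑ i, Pf π w i = ∑ i, w i :=
  Equiv.sum_comp π.symm w

lemma sum_sq_Pf (π : Perm (Fin 6)) (w : Fin 6 → R) : ∑ i, Pf π w i ^ 2 = ∑ i, w i ^ 2 :=
  Equiv.sum_comp π.symm (fun i => w i ^ 2)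

def PL (π : Perm (Fin 6)) : (Fin 6 → R) →ₗ[R] (Fin 6 → R) where
  toFun := Pf π
  map_add' := Pf_add π
  map_smul' := Pf_smul π

lemma Yf_add_const (w : Fin 6 → R) (c : R) : Yf (w + c • (fun _ => 1)) = Yf w := by
  rw [Yf_add, Yf_smul, Y_one, smul_zero, add_zero]

/-- the representation of `S₆` on the four-dimensional space -/
def rho : Perm (Fin 6) →* Module.End R (J → R) where
  toFun π := YL ∘ₗ PL π ∘ₗ XL
  map_one' := by
    refine LinearMap.ext fun v => ?_
    show Yf (Pf 1 (Xf v)) = v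
    rw [Pf_one, YX]
  map_mul' π τ := by
    refine LinearMap.ext fun v => ?_
    show Yf (Pf (π * τ) (Xf v)) = Yf (Pf π (Xf (Yf (Pf τ (Xf v)))))
    rw [XY (Pf τ (Xf v)) (by rw [sum_Pf, sum_Xf]), Pf_add, Pf_smul, Pf_const, Yf_add_const, Pf_mul]

lemma rho_apply (π : Perm (Fin 6)) (v : J → R) : rho π v = Yf (Pf π (Xf v)) := rfl

lemma six_eq_zero : (6 : R) = 0 := by decide

lemma rho_quad (π : Perm (Fin 6)) (v : J → R) :
    Cfsg.quadFormMinus 1 R 0 1 (rho π v) = Cfsg.quadFormMinus 1 R 0 1 v := by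
  rw [quad_Xf, quad_Xf, rho_apply, XY (Pf π (Xf v)) (by rw [sum_Pf, sum_Xf]), ← sum_sq_Pf π (Xf v)]
  have hs : ∑ i, Pf π (Xf v) i = 0 := by rw [sum_Pf, sum_Xf]
  set h := Pf π (Xf v) with hh
  set c := h 4 + h 5 with hc
  have : ∀ i, (h + c • (fun _ : Fin 6 => (1 : R))) i ^ 2 = h i ^ 2 + 2 * c * h i + c ^ 2 := by
    intro i
    simp only [Pi.add_apply, Pi.smul_apply, smul_eq_mul, mul_one]
    ring
  simp only [this, Finset.sum_add_distrib, ← Finset.mul_sum, hs, Finset.sum_const,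
    Finset.card_univ, Fintype.card_fin, nsmul_eq_mul]
  push_cast
  linear_combination (c ^ 2) * six_eq_zero

/-- a test vector -/
def ve : J → R := Sum.elim (Sum.elim (fun _ => 1) (fun _ => 0)) ![0, 0]

lemma rho_ne : Yf (Pf (swap 2 3 * swap 4 5) (Xf ve)) ≠ ve := by decide

lemma aniso01 : ∀ z₁ z₂ : R, z₁ ^ 2 + 0 * z₁ * z₂ + 1 * z₂ ^ 2 = 0 → z₁ = 0 ∧ z₂ = 0 := by decide

theorem main {F : Type*} [Field F] [Fintype F] (hF : Fintype.card F = 9) :
    Nonempty (Matrix.ProjectiveSpecialLinearGroup (Fin 2) F ≃* alternatingGroup (Fin 6)) := by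
  classical
  let ρA : alternatingGroup (Fin 6) →* Module.End R (J → R) :=
    rho.comp (alternatingGroup (Fin 6)).subtype
  obtain ⟨φ, hφ⟩ := hom_of_rep (Cfsg.quadFormMinus 1 R 0 1) ρA (fun g v => rho_quad g.1 v)
  have h5 : 5 ≤ Nat.card (Fin 6) := by simp
  have hsimple : IsSimpleGroup (alternatingGroup (Fin 6)) := alternatingGroup.isSimpleGroup h5
  have hperf : commutator (alternatingGroup (Fin 6)) = ⊤ :=
    _root_.commutator_alternatingGroup_eq_top h5
  have hinj : Function.Injective φ := by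
    rw [← MonoidHom.ker_eq_bot_iff]
    rcases hsimple.eq_bot_or_eq_top_of_normal φ.ker inferInstance with h | h
    · exact h
    · exfalso
      have hmem : swap (2 : Fin 6) 3 * swap 4 5 ∈ alternatingGroup (Fin 6) := by
        rw [Equiv.Perm.mem_alternatingGroup, map_mul, Equiv.Perm.sign_swap (by decide),
          Equiv.Perm.sign_swap (by decide)]
        rfl
      have hg : (⟨swap (2 : Fin 6) 3 * swap 4 5, hmem⟩ : alternatingGroup (Fin 6)) ∈ φ.ker := by
        rw [h]; trivial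
      have h1 := (hφ _).mp hg
      have h2 := LinearMap.congr_fun h1 ve
      exact rho_ne h2
  have hcenter : Subgroup.center (alternatingGroup (Fin 6)) = ⊥ := by
    rcases hsimple.eq_bot_or_eq_top_of_normal (Subgroup.center _) inferInstance with h | h
    · exact h
    · exfalso
      have h1 : commutator (alternatingGroup (Fin 6)) = ⊥ := (_root_.commutator_eq_bot_iff_center_eq_top _).mpr h
      rw [hperf] at h1
      have : Nontrivial (alternatingGroup (Fin 6)) := hsimple.toNontrivial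
      exact top_ne_bot h1
  have hcardA : Nat.card (alternatingGroup (Fin 6)) = 360 := by
    rw [nat_card_alternatingGroup]
    simp [Nat.factorial]
  have hcardO : Nat.card ↥(Cfsg.isometryGroup R (Cfsg.quadFormMinus 1 R 0 1)) = 1440 := by
    rw [Cfsg.Agent.Lib.Helper14.OrthMinus.card_isometry_minus aniso01 1, ZMod.card]
    simp
  obtain ⟨e1⟩ := iso_of_injective φ hinj hperf hcenter (by rw [hcardA, hcardO])
  obtain ⟨e2⟩ := Cfsg.Agent.S0300.result (F := R) (K := F) (q := 3) (ZMod.card 3)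
    (by rw [hF]; norm_num) 0 1 aniso01
  exact ⟨e2.symm.trans e1⟩

/-- PSL_2(9) is isomorphic to A_6. -/
theorem result {F : Type*} [Field F] [Fintype F] (hF : Fintype.card F = 9) : Nonempty (Matrix.ProjectiveSpecialLinearGroup (Fin 2) F ≃* alternatingGroup (Fin 6)) := by
  exact main hF

end Cfsg.Agent.S0254
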