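import Cfsg.Statements.S1611
-- import your own Cfsg.Agent.* helpers here
import Cfsg.Agent.Lib.Helper14.HexaCount

set_option autoImplicit false
open Cfsg

namespace Cfsg.Agent.S1611

open Cfsg.Agent.Lib.Helper14.GF4 Cfsg.Agent.Lib.Helper14.Hexa

set_option maxRecDepth 1000000 in
theorem total_count : ∑ σ : Equiv.Perm (Fin 6), cntC (code6 σ) = 1080 := by
  decide +kernel

set_option maxRecDepth 1000000 in
theorem sign_count : ∀ σ : Equiv.Perm (Fin 6),
    (cntC (code6 σ) ≠ 0 ↔ Equiv.Perm.sign σ = 1) := by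
  decide +kernel

set_option maxRecDepth 1000000 in
theorem diag_model : ∀ v0 v1 v2 v3 v4 v5 : Fin 3,
    rowsA (code6 1) v0.val v1.val v2.val v3.val = true ∧
    rowsB (code6 1) v0.val v1.val v2.val v4.val = true ∧
    rowsC (code6 1) v0.val v1.val v2.val v5.val = true →
    v1 = v0 ∧ v2 = v0 ∧ v3 = v0 ∧ v4 = v0 ∧ v5 = v0 := by
  decide +kernel

section
variable {F : Type*} [Field F] [Fintype F] [DecidableEq F]

/-- index functions to unit functions -/
noncomputable def eP (hF : Fintype.card F = 4) {ω : F} (hω : ω ^ 2 + ω + 1 = 0) :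
    (Fin 6 → Fin 3) ≃ (Fin 6 → Fˣ) :=
  Equiv.piCongrRight (fun _ => Equiv.ofBijective (U hF hω) (U_bijective hF hω))

theorem eP_apply (hF : Fintype.card F = 4) {ω : F} (hω : ω ^ 2 + ω + 1 = 0) (k : Fin 6 → Fin 3) :
    eP hF hω k = fun i => U hF hω (k i) := rfl

theorem valid_eP (hF : Fintype.card F = 4) {ω : F} (hω : ω ^ 2 + ω + 1 = 0)
    (σ : Equiv.Perm (Fin 6)) (k : Fin 6 → Fin 3) :
    (∀ x ∈ Cfsg.hexacode F ω, Cfsg.monomialMap σ (eP hF hω k) x ∈ Cfsg.hexacode F ω) ↔
      validM σ k := by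
  rw [eP_apply]
  exact valid_iff hF hω σ k

theorem exists_valid_iff (hF : Fintype.card F = 4) {ω : F} (hω : ω ^ 2 + ω + 1 = 0)
    (σ : Equiv.Perm (Fin 6)) :
    (∃ c : Fin 6 → Fˣ, ∀ x ∈ Cfsg.hexacode F ω, Cfsg.monomialMap σ c x ∈ Cfsg.hexacode F ω) ↔
      cntC (code6 σ) ≠ 0 := by
  rw [← card_valid, Finset.card_ne_zero, Finset.filter_nonempty_iff]
  constructor
  · rintro ⟨c, hc⟩
    refine ⟨(eP hF hω).symm c, Finset.mem_univ _, ?_⟩
    rw [← valid_eP hF hω, Equiv.apply_symm_apply]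
    exact hc
  · rintro ⟨k, _, hk⟩
    exact ⟨eP hF hω k, (valid_eP hF hω σ k).mpr hk⟩

end

/-- The monomial automorphism group of the hexacode has order 1080: its diagonal part is the scalars and its permutation parts form the alternating group of degree 6. -/
theorem result (F : Type*) [Field F] [Fintype F] [DecidableEq F] (hF : Fintype.card F = 4) (ω : F) (hω : ω ^ 2 + ω + 1 = 0) : Nat.card {f : Equiv.Perm (Fin 6) × (Fin 6 → Fˣ) // (∀ x ∈ Cfsg.hexacode F ω, Cfsg.monomialMap f.1 f.2 x ∈ Cfsg.hexacode F ω)} = 1080 ∧ (∀ c : Fin 6 → Fˣ, (∀ x ∈ Cfsg.hexacode F ω, Cfsg.monomialMap 1 c x ∈ Cfsg.hexacode F ω) → ∀ i j, c i = c j) ∧ {σ : Equiv.Perm (Fin 6) | ∃ c : Fin 6 → Fˣ, (∀ x ∈ Cfsg.hexacode F ω, Cfsg.monomialMap σ c x ∈ Cfsg.hexacode F ω)} = (alternatingGroup (Fin 6) : Set (Equiv.Perm (Fin 6))) := by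
  classical
  refine ⟨?_, ?_, ?_⟩
  · -- the count
    have hv : ∀ g : Equiv.Perm (Fin 6) × (Fin 6 → Fin 3),
        validM g.1 g.2 ↔ (∀ x ∈ Cfsg.hexacode F ω, Cfsg.monomialMap
          ((Equiv.prodCongr (Equiv.refl _) (eP hF hω)) g).1
          ((Equiv.prodCongr (Equiv.refl _) (eP hF hω)) g).2 x ∈ Cfsg.hexacode F ω) := by
      intro g
      exact (valid_eP hF hω g.1 g.2).symm
    rw [← Nat.card_congr (Equiv.subtypeEquiv (Equiv.prodCongr (Equiv.refl _) (eP hF hω)) hv)]
    rw [Nat.card_eq_fintype_card, Fintype.card_subtype, Finset.card_filter,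
      Fintype.sum_prod_type]
    simp only [← Finset.card_filter]
    simp only [card_valid]
    exact total_count
  · -- diagonal automorphisms are scalars
    intro c hc
    set k := (eP hF hω).symm c with hk
    have hck : c = eP hF hω k := by rw [hk, Equiv.apply_symm_apply]
    rw [hck, valid_eP hF hω] at hc
    have hk6 : k = ![k 0, k 1, k 2, k 3, k 4, k 5] := by
      funext i
      fin_cases i <;> rfl
    rw [hk6, validM_iff_rows] at hc
    obtain ⟨h1, h2, h3, h4, h5⟩ := diag_model _ _ _ _ _ _ hc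
    have hall : ∀ i, k i = k 0 := by
      intro i
      fin_cases i
      · rfl
      · exact h1
      · exact h2
      · exact h3
      · exact h4
      · exact h5
    intro i j
    rw [hck, eP_apply]
    show U hF hω (k i) = U hF hω (k j)
    rw [hall i, hall j]
  · -- the permutation parts
    ext σ
    rw [Set.mem_ofPred_eq, SetLike.mem_coe, Equiv.Perm.mem_alternatingGroup,
      exists_valid_iff hF hω σ]
    exact sign_count σ

end Cfsg.Agent.S1611
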