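import Cfsg.Statements.S5893
import Cfsg.Agent.Lib.Helper13.DkMaxSL
import Cfsg.Agent.Lib.Helper13.DkWrap
import Cfsg.Agent.Lib.Helper13.DkMax
import Cfsg.Agent.Lib.Helper13.DkSolv
import Cfsg.Agent.Lib.Helper13.DkDih
import Cfsg.Agent.S0556
-- import your own Cfsg.Agent.* helpers here

set_option autoImplicit false
open Cfsg
open Subgroup Matrix Cfsg.Agent.Lib.Helper13 Cfsg.Agent.Lib.Helper13.Dk

namespace Cfsg.Agent.S5893

section

variable {F : Type*} [Field F] [Fintype F]

omit [Fintype F] in
theorem neg_one_mat (h2 : (2 : F) = 0) : (-1 : Matrix (Fin 2) (Fin 2) F) = 1 := by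
  have h : (-1 : F) = 1 := by linear_combination -h2
  ext i j
  fin_cases i <;> fin_cases j <;> simp [h]

theorem eq_one_of_sc (h2 : (2 : F) = 0) (H : Subgroup (SpecialLinearGroup (Fin 2) F)) (g : H)
    (h : Emb.sc ((subEmb H).m g)) : g = 1 := by
  apply (subEmb H).m_injective
  rw [(subEmb H).m_one]
  rcases (subEmb H).m_eq_of_sc h with h1 | h1
  · exact h1
  · rw [h1, neg_one_mat h2]

theorem four_eq_zero (h2 : (2 : F) = 0) : (4 : F) = 0 := by linear_combination 2 * h2

/-- Non-identity elements with `t ^ 2 = 1` are unipotent. -/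
theorem unip_of_sq (h2 : (2 : F) = 0) (H : Subgroup (SpecialLinearGroup (Fin 2) F)) (t : H)
    (ht : t ^ 2 = 1) (ht1 : t ≠ 1) :
    ¬ Emb.sc ((subEmb H).m t) ∧ (subEmb H).tr t ^ 2 = 4 := by
  refine ⟨fun h => ht1 (eq_one_of_sc h2 H t h), ?_⟩
  set S := subEmb H
  have hmm : S.m t * S.m t = 1 := by rw [← S.m_mul, ← sq, ht, S.m_one]
  have hch := cayley_hamilton_two (S.m t) (S.m_det t)
  rw [hmm] at hch
  have hdet := S.m_det' t
  have h00 := congrFun (congrFun hch 0) 0
  have h01 := congrFun (congrFun hch 0) 1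
  have h10 := congrFun (congrFun hch 1) 0
  have h11 := congrFun (congrFun hch 1) 1
  simp only [Matrix.sub_apply, Matrix.smul_apply, Matrix.one_apply_eq, smul_eq_mul,
    Matrix.one_apply_ne, ne_eq, zero_ne_one, one_ne_zero, not_false_eq_true, sub_zero] at h00 h01 h10 h11
  rw [four_eq_zero h2, S.tr_eq]
  by_contra htr
  have htr' : S.m t 0 0 + S.m t 1 1 ≠ 0 := fun h => htr (by rw [h]; ring)
  have e00 : S.m t 0 0 = 0 := by
    have : (S.m t 0 0 + S.m t 1 1) * S.m t 0 0 = 0 := by linear_combination -h00 + h2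
    exact (mul_eq_zero.mp this).resolve_left htr'
  have e01 : S.m t 0 1 = 0 := by
    have : (S.m t 0 0 + S.m t 1 1) * S.m t 0 1 = 0 := by linear_combination -h01
    exact (mul_eq_zero.mp this).resolve_left htr'
  rw [e00, e01] at hdet
  simp at hdet

/-- If no non-scalar element is unipotent then `H` has odd order. -/
theorem odd_of_hss (h2 : (2 : F) = 0) (H : Subgroup (SpecialLinearGroup (Fin 2) F))
    (hss : ∀ y : H, ¬ Emb.sc ((subEmb H).m y) → (subEmb H).tr y ^ 2 ≠ 4) :
    ¬ 2 ∣ Nat.card H := by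
  intro hdvd
  haveI : Fact (Nat.Prime 2) := ⟨Nat.prime_two⟩
  obtain ⟨t, ht⟩ := exists_prime_orderOf_dvd_card' 2 hdvd
  have ht2 : t ^ 2 = 1 := by
    have := pow_orderOf_eq_one t
    rwa [ht] at this
  have ht1 : t ≠ 1 := by
    intro h
    rw [h, orderOf_one] at ht
    omega
  obtain ⟨h1, h2'⟩ := unip_of_sq h2 H t ht2 ht1
  exact hss t h1 h2'

theorem center_eq_bot (h2 : (2 : F) = 0) (H : Subgroup (SpecialLinearGroup (Fin 2) F))
    (hna : ∃ x y : H, x * y ≠ y * x) : center H = ⊥ := by
  rw [eq_bot_iff]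
  intro g hg
  rw [(subEmb H).mem_center_iff_sc hna] at hg
  rw [Subgroup.mem_bot]
  exact eq_one_of_sc h2 H g hg

theorem not_isSolvable_SL2 (h4 : 4 ≤ Fintype.card F) :
    ¬ Group.IsSolvable (SpecialLinearGroup (Fin 2) F) := by
  intro hs
  apply not_isSolvable_PSL2 (K := F) h4
  exact Group.isSolvable_of_surjective
    (QuotientGroup.mk'_surjective (center (SpecialLinearGroup (Fin 2) F)))

/-- Handler for the dihedral case. -/
theorem dih_case (h2 : (2 : F) = 0) (h4 : 4 ≤ Fintype.card F)
    (H : Subgroup (SpecialLinearGroup (Fin 2) F)) (hH : IsCoatom H) (hD : (subEmb H).DihType) :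
    Nonempty (H ≃* DihedralGroup (Fintype.card F - 1)) ∨
      Nonempty (H ≃* DihedralGroup (Fintype.card F + 1)) := by
  obtain ⟨g₀, hg₀, hcard⟩ := coatom_dih H hH h4 hD
  have hna : ∃ x y : H, x * y ≠ y * x := by
    obtain ⟨g, hg, hc⟩ := hD
    by_contra hcon
    push Not at hcon
    have : centralizer ({g} : Set H) = ⊤ := by
      rw [eq_top_iff]
      intro x _
      rw [mem_centralizer_singleton_iff]
      exact hcon x g
    rw [this, Subgroup.card_top] at hc
    have hpos : 0 < Nat.card H := Nat.card_pos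
    omega
  have hZ : (MonoidHom.id H).ker = center H := by
    rw [center_eq_bot h2 H hna]
    ext x
    rw [MonoidHom.mem_ker, Subgroup.mem_bot]
    rfl
  obtain ⟨k, -, ⟨e⟩⟩ := (subEmb H).dih_of_dihType (MonoidHom.id H) Function.surjective_id hZ hD
  have hk : Nat.card H = 2 * k := by
    rw [Nat.card_congr e.toEquiv, DihedralGroup.nat_card]
  have hkT : k = Nat.card (centralizer ({g₀} : Set (SpecialLinearGroup (Fin 2) F))) := by omega
  rcases card_centralizer_cases g₀ hg₀ with h | h
  · left
    rw [← h, ← hkT]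
    exact ⟨e⟩
  · right
    rw [← h, ← hkT]
    exact ⟨e⟩

/-- `PGL₂(K) ≃* PSL₂(K)` for a finite field of even order. -/
theorem nonempty_PGL_equiv_PSL {K : Type*} [Field K] [Fintype K] (hK : Even (Fintype.card K)) :
    Nonempty (Matrix.ProjGenLinGroup (Fin 2) K ≃* Matrix.ProjectiveSpecialLinearGroup (Fin 2) K) := by
  have hinj := Matrix.ProjectiveSpecialLinearGroup.toPGL_injective (n := Fin 2) (R := K)
  have h1 := card_PSL2_mul_gcd (K := K)
  have h2 := card_PGL2 (K := K)
  have hpos : 0 < Fintype.card K := Fintype.card_pos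
  have hg : Nat.gcd 2 (Fintype.card K - 1) = 1 := by
    obtain ⟨m, hm⟩ := hK
    have hodd : ¬ 2 ∣ Fintype.card K - 1 := by omega
    exact Nat.Coprime.gcd_eq_one ((Nat.Prime.coprime_iff_not_dvd Nat.prime_two).mpr hodd)
  rw [hg, mul_one] at h1
  haveI : Finite (Matrix.ProjGenLinGroup (Fin 2) K) := by
    apply Nat.finite_of_card_ne_zero
    rw [h2]
    have : 2 ≤ Fintype.card K := Fintype.one_lt_card
    have h3 : 2 ^ 2 ≤ Fintype.card K ^ 2 := Nat.pow_le_pow_left this 2
    have h4 : 0 < Fintype.card K ^ 2 - 1 := by omega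
    exact (Nat.mul_pos hpos h4).ne'
  have hbij : Function.Bijective
      (Matrix.ProjectiveSpecialLinearGroup.toPGL (n := Fin 2) (R := K)) := by
    rw [Nat.bijective_iff_injective_and_card]
    exact ⟨hinj, by rw [h1, h2]⟩
  exact ⟨(MulEquiv.ofBijective _ hbij).symm⟩

/-- The maximal subgroups of `SL₂(F)`, `|F|` even. -/
theorem coatom_SL2_even (h2 : (2 : F) = 0) (h4 : 4 ≤ Fintype.card F)
    (H : Subgroup (SpecialLinearGroup (Fin 2) F)) (hH : IsCoatom H) :
    Nat.card H = Fintype.card F * (Fintype.card F - 1) ∨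
    Nonempty (H ≃* DihedralGroup (Fintype.card F - 1)) ∨
    Nonempty (H ≃* DihedralGroup (Fintype.card F + 1)) ∨
    (∃ (F₀ : Type) (_ : Field F₀) (_ : Fintype F₀) (r : ℕ), r.Prime ∧ Fintype.card F₀ ≠ 2 ∧
        Fintype.card F = Fintype.card F₀ ^ r ∧
        Nonempty (H ≃* Matrix.ProjectiveSpecialLinearGroup (Fin 2) F₀)) := by
  classical
  haveI : Fact (Nat.Prime 2) := ⟨Nat.prime_two⟩
  haveI : CharP F 2 := by
    have h : ((2 : ℕ) : F) = 0 := by exact_mod_cast h2
    exact CharTwo.of_one_ne_zero_of_two_eq_zero one_ne_zero h2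
  have hdih : (subEmb H).DihType →
      (Nat.card H = Fintype.card F * (Fintype.card F - 1) ∨
      Nonempty (H ≃* DihedralGroup (Fintype.card F - 1)) ∨
      Nonempty (H ≃* DihedralGroup (Fintype.card F + 1)) ∨
      (∃ (F₀ : Type) (_ : Field F₀) (_ : Fintype F₀) (r : ℕ), r.Prime ∧ Fintype.card F₀ ≠ 2 ∧
        Fintype.card F = Fintype.card F₀ ^ r ∧
        Nonempty (H ≃* Matrix.ProjectiveSpecialLinearGroup (Fin 2) F₀))) := fun hD =>
    (dih_case h2 h4 H hH hD).elim (fun h => Or.inr (Or.inl h)) (fun h => Or.inr (Or.inr (Or.inl h)))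
  rcases (subEmb H).dickson_refined 2 with hss | ⟨Θ, hB⟩ | hD | ⟨-, -, h3⟩ | hsub
  · -- no unipotent elements: impossible
    exfalso
    have hodd := odd_of_hss h2 H hss
    by_cases hna : ∃ x y : H, x * y ≠ y * x
    · rcases (subEmb H).caseI hna hss with ⟨g, -, hg⟩ | h | h | ⟨h, -⟩
      · exact hodd ⟨_, by rw [← hg, mul_comm]⟩
      · exact hodd (by rw [h.1]; exact Dvd.dvd.mul_left (by norm_num) _)
      · exact hodd (by rw [h.1]; exact Dvd.dvd.mul_left (by norm_num) _)
      · exact hodd (by rw [h.1]; exact Dvd.dvd.mul_left (by norm_num) _)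
    · push Not at hna
      haveI : IsMulCommutative H := ⟨⟨hna⟩⟩
      have hsolv := Cfsg.Agent.S0556.result H hH
      exact not_isSolvable_SL2 h4 ((Group.isSolvable_def _).mpr ⟨3, hsolv⟩)
  · exact Or.inl (coatom_borel H hH Θ hB)
  · exact hdih hD
  · omega
  · obtain ⟨Θ, K₀, k, hsc, hcard, hna, K, fK, ftK, m, hm, hcK, hiso⟩ := hsub
    have hZ1 : Nat.card (center H) = 1 := by
      rw [center_eq_bot h2 H hna, Subgroup.card_bot]
    rw [hZ1, one_mul, ← hcK] at hcard
    rw [← hcK] at hiso
    have hm' : Nat.card K₀ ^ m = Fintype.card F := by rw [← hcK, hm]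
    set r := Fintype.card K with hr
    have hr2 : 2 ≤ r := Fintype.one_lt_card
    have hq_even : Even (Fintype.card F) := by
      rw [Nat.even_iff]
      exact FiniteField.even_card_of_char_two (ringChar.eq F 2)
    have hr_even : Even r := by
      rw [← hm] at hq_even
      exact (Nat.even_pow.mp hq_even).1
    have hk : k + 1 = r := by
      rcases hiso with ⟨h, -⟩ | ⟨h, -⟩
      · exfalso
        obtain ⟨j, hj⟩ := hr_even
        omega
      · exact h
    have hPGL : Nonempty (H ⧸ center H ≃* Matrix.ProjGenLinGroup (Fin 2) K) := by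
      rcases hiso with ⟨h, -⟩ | ⟨-, h⟩
      · exfalso
        obtain ⟨j, hj⟩ := hr_even
        omega
      · exact h
    have hm0 : m ≠ 0 := by
      intro h0
      rw [h0, pow_zero] at hm
      omega
    have hm1 : m ≠ 1 := by
      intro h1
      rw [h1, pow_one] at hm
      have : Nat.card H = Nat.card (SpecialLinearGroup (Fin 2) F) := by
        rw [hcard, card_SL2, ← hm, ← hk]
        have : (k + 1) ^ 2 - 1 = k * (k + 1 + 1) := by
          apply Nat.sub_eq_of_eq_add
          ring
        rw [this]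
        ring
      exact hH.1 ((Subgroup.card_eq_iff_eq_top H).mp this)
    have hmp : m.Prime := coatom_subfield H hH Θ K₀ hsc m hm' (by omega)
    by_cases hr2' : r = 2
    · -- `|H| = 6`: dihedral
      apply hdih
      have hk1 : k = 1 := by omega
      rw [hr2', hk1] at hcard
      have h3 : 3 ∣ Nat.card H := ⟨2, by rw [hcard]⟩
      haveI : Fact (Nat.Prime 3) := ⟨Nat.prime_three⟩
      obtain ⟨g, hg⟩ := exists_prime_orderOf_dvd_card' 3 h3
      have hg3 : g ^ 3 = 1 := by
        have := pow_orderOf_eq_one g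
        rwa [hg] at this
      have hg1 : g ≠ 1 := by
        intro h
        rw [h, orderOf_one] at hg
        omega
      set S := subEmb H
      have htr : S.tr g ^ 2 ≠ 4 := by
        rw [four_eq_zero h2]
        intro h0
        have h0' : S.m g 0 0 + S.m g 1 1 = 0 := by
          rw [← S.tr_eq]
          exact pow_eq_zero_iff (two_ne_zero) |>.mp h0
        have hch := cayley_hamilton_two (S.m g) (S.m_det g)
        rw [h0', zero_smul, zero_sub, neg_one_mat h2, ← S.m_mul, ← S.m_one] at hch
        have hgg : g * g = 1 := S.m_injective hch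
        apply hg1
        calc g = g ^ 3 * (g * g)⁻¹ := by group
          _ = 1 := by rw [hg3, hgg]; simp
      refine ⟨g, htr, ?_⟩
      set C := centralizer ({g} : Set H) with hC
      have hgC : g ∈ C := mem_centralizer_singleton_iff.mpr rfl
      have h3C : 3 ∣ Nat.card C := by
        have := Subgroup.orderOf_dvd_natCard C hgC
        rwa [hg] at this
      have hC6 : Nat.card C ∣ 6 := by
        have := Subgroup.card_subgroup_dvd_card C
        rwa [hcard] at this
      have hCne : Nat.card C ≠ 6 := by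
        intro h6
        have hCtop : C = ⊤ := (Subgroup.card_eq_iff_eq_top C).mp (by rw [h6, hcard])
        have : g ∈ center H := by
          rw [Subgroup.mem_center_iff]
          intro x
          have hx : x ∈ C := hCtop ▸ mem_top x
          rw [hC, mem_centralizer_singleton_iff] at hx
          exact hx
        rw [center_eq_bot h2 H hna, Subgroup.mem_bot] at this
        exact hg1 this
      have hCle : Nat.card C ≤ 6 := Nat.le_of_dvd (by norm_num) hC6
      have hCpos : 0 < Nat.card C := Nat.card_pos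
      obtain ⟨j, hj⟩ := h3C
      have hj2 : j ≤ 2 := by omega
      have : Nat.card C = 3 := by
        interval_cases j
        · omega
        · omega
        · omega
      rw [this, hcard]
    · right; right; right
      refine ⟨K, fK, ftK, m, hmp, hr2', hm.symm, ?_⟩
      obtain ⟨e1⟩ := hPGL
      obtain ⟨e2⟩ := nonempty_PGL_equiv_PSL (K := K) hr_even
      have hZ : (MonoidHom.id H).ker = center H := by
        rw [center_eq_bot h2 H hna]
        ext x
        rw [MonoidHom.mem_ker, Subgroup.mem_bot]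
        rfl
      exact ⟨((equivQuot (MonoidHom.id H) Function.surjective_id hZ).trans e1).trans e2⟩

end

/-- Let F be a finite field of even order q ≥ 4 and let M be a maximal subgroup of PSL₂(F) (= SL₂(F) = PGL₂(F)). Then one of the following holds: |M| = q(q − 1) (the stabiliser of a point of the projective line, elementary abelian of order q extended by a cyclic group of order q − 1); M is dihedral of order 2(q − 1); M is dihedral of order 2(q + 1); or q = q₀^r for a prime r with q₀ ≠ 2 and M ≅ PSL₂(F₀) with |F₀| = q₀. -/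
theorem result {F : Type*} [Field F] [Fintype F]
    (heven : Even (Fintype.card F)) (h4 : 4 ≤ Fintype.card F) (M : Subgroup (Matrix.ProjectiveSpecialLinearGroup (Fin 2) F)) (hM : IsCoatom M) :
    Nat.card M = Fintype.card F * (Fintype.card F - 1) ∨
    Nonempty (M ≃* DihedralGroup (Fintype.card F - 1)) ∨
    Nonempty (M ≃* DihedralGroup (Fintype.card F + 1)) ∨
    (∃ (F₀ : Type) (_ : Field F₀) (_ : Fintype F₀) (r : ℕ), r.Prime ∧ Fintype.card F₀ ≠ 2 ∧
        Fintype.card F = Fintype.card F₀ ^ r ∧ Nonempty (M ≃* Matrix.ProjectiveSpecialLinearGroup (Fin 2) F₀)) := by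
  classical
  have hchar : ringChar F = 2 := FiniteField.even_card_iff_char_two.mpr (Nat.even_iff.mp heven)
  haveI : CharP F 2 := ringChar.of_eq hchar
  have h2 : (2 : F) = 0 := CharTwo.two_eq_zero
  let q' : SpecialLinearGroup (Fin 2) F →* Matrix.ProjectiveSpecialLinearGroup (Fin 2) F :=
    QuotientGroup.mk' (center (SpecialLinearGroup (Fin 2) F))
  have hq' : Function.Surjective q' := QuotientGroup.mk'_surjective _
  have hcen : center (SpecialLinearGroup (Fin 2) F) = ⊥ :=
    Subgroup.card_eq_one.mp (card_center_SL2_char_two h2)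
  have hq'inj : Function.Injective q' := by
    rw [← MonoidHom.ker_eq_bot_iff, QuotientGroup.ker_mk', hcen]
  let H : Subgroup (SpecialLinearGroup (Fin 2) F) := M.comap q'
  have hH : IsCoatom H := Subgroup.isCoatom_comap_of_surjective hq' hM
  let π : H →* M := q'.subgroupComap M
  have hπ : Function.Surjective π := q'.subgroupComap_surjective_of_surjective M hq'
  have hπinj : Function.Injective π := by
    intro a b hab
    apply Subtype.ext
    apply hq'inj
    exact congrArg Subtype.val hab
  let e : H ≃* M := MulEquiv.ofBijective π ⟨hπinj, hπ⟩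
  have hcard : Nat.card M = Nat.card H := (Nat.card_congr e.toEquiv).symm
  rcases coatom_SL2_even h2 h4 H hH with h | ⟨⟨f⟩⟩ | ⟨⟨f⟩⟩ | ⟨F₀, fF, ftF, r, hr, hF2, hq, ⟨f⟩⟩
  · exact Or.inl (hcard.trans h)
  · exact Or.inr (Or.inl ⟨e.symm.trans f⟩)
  · exact Or.inr (Or.inr (Or.inl ⟨e.symm.trans f⟩))
  · exact Or.inr (Or.inr (Or.inr ⟨F₀, fF, ftF, r, hr, hF2, hq, ⟨e.symm.trans f⟩⟩))

end Cfsg.Agent.S5893
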