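import Cfsg.Statements.S0338
import Cfsg.Agent.Lib.Helper5.ZassNormal

set_option autoImplicit false
open Cfsg
open MulAction Cfsg.Agent.Lib.Helper5.Zass

namespace Cfsg.Agent.S0338

/-- A Zassenhaus group of odd degree is a simple group. -/
theorem result {G Ω : Type*} [Group G] [MulAction G Ω] [Fintype Ω]
    (hZ : Cfsg.IsZassenhausGroup G Ω) (hodd : Odd (Fintype.card Ω)) : IsSimpleGroup G := by
  have hfin := zass_finite hZ
  have hnt : Nontrivial G := by
    obtain ⟨g, hg, _⟩ := hZ.2.2.2.1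
    exact ⟨⟨g, 1, hg⟩⟩
  refine { exists_pair_ne := hnt.exists_pair_ne, eq_bot_or_eq_top_of_normal := ?_ }
  intro N hNn
  by_cases hN : N = ⊥
  · left; exact hN
  right
  have hker := zass_normal_contains_kernel hZ N hN
  have htr := zass_normal_trans hZ N hN
  obtain ⟨a₀, _, _, _⟩ := zass_three hZ
  obtain ⟨a, hprop⟩ : ∃ a : Ω, a = a₀ := ⟨a₀, rfl⟩
  obtain ⟨K, hK1, hK2, hK3, hK4⟩ := zass_kernel hZ a
  have hKcard := zass_kernel_card hZ a K hK1 hK3
  rw [Nat.card_eq_fintype_card (α := Ω)] at hKcard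
  have h2K : 2 ∣ Nat.card K := by
    rw [hKcard]
    obtain ⟨k, hk⟩ := hodd
    omega
  obtain ⟨t', ht'⟩ := exists_prime_orderOf_dvd_card' (G := K) 2 h2K
  obtain ⟨t, htdef⟩ : ∃ t : G, t = (t' : G) := ⟨_, rfl⟩
  have hto : orderOf t = 2 := by rw [htdef, Subgroup.orderOf_coe, ht']
  have htK : t ∈ K := by rw [htdef]; exact t'.2
  have ht1 : t ≠ 1 := by
    intro h; rw [h, orderOf_one] at hto; omega
  have ht2 : t * t = 1 := by rw [← pow_two, ← hto, pow_orderOf_eq_one]
  have htinv : t⁻¹ = t := inv_eq_of_mul_eq_one_left ht2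
  obtain ⟨hta, htfix⟩ := (hK1 t).mp htK
  have htfix' : ∀ c : Ω, t • c = c → c = a := by
    rcases htfix with h | h
    · exact absurd h ht1
    · exact h
  have htN : t ∈ N := hker a t ((hK1 t).mp htK)
  obtain ⟨b, -, hb, -, -⟩ := zass_two_more hZ a
  have hb'b : t • b ≠ b := fun h => hb (htfix' b h)
  have hb'a : t • b ≠ a := by
    intro h
    apply hb
    rw [← hta] at h
    exact MulAction.injective t h
  have htb' : t • (t • b) = b := by rw [← mul_smul, ht2, one_smul]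
  obtain ⟨hfaith, h2, h3, h4, h5⟩ := hZ
  have hZ : Cfsg.IsZassenhausGroup G Ω := ⟨hfaith, h2, h3, h4, h5⟩
  -- the two-point stabiliser lies in N
  have hH : ∀ h : G, h • b = b → h • (t • b) = t • b → h ∈ N := by
    let φ : ↥(stabilizer G b ⊓ stabilizer G (t • b)) → ↥(stabilizer G b ⊓ stabilizer G (t • b)) :=
      fun h => ⟨(h : G) * t * (h : G)⁻¹ * t⁻¹, by
        obtain ⟨h1, h2⟩ := Subgroup.mem_inf.mp h.2
        rw [mem_stabilizer_iff] at h1 h2
        have h1' : (h : G)⁻¹ • b = b := by rw [inv_smul_eq_iff, h1]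
        have h2' : (h : G)⁻¹ • (t • b) = t • b := by rw [inv_smul_eq_iff, h2]
        refine Subgroup.mem_inf.mpr ⟨?_, ?_⟩
        · rw [mem_stabilizer_iff, htinv, mul_smul, mul_smul, mul_smul, h2', htb', h1]
        · rw [mem_stabilizer_iff, htinv, mul_smul, mul_smul, mul_smul, htb', h1', h2]⟩
    have hφinj : Function.Injective φ := by
      intro h h' hh
      have hh' : (h : G) * t * (h : G)⁻¹ * t⁻¹ = (h' : G) * t * (h' : G)⁻¹ * t⁻¹ :=
        congrArg Subtype.val hh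
      obtain ⟨h1, h2⟩ := Subgroup.mem_inf.mp h.2
      obtain ⟨h1', h2'⟩ := Subgroup.mem_inf.mp h'.2
      rw [mem_stabilizer_iff] at h1 h2 h1' h2'
      have hcomm : ((h' : G)⁻¹ * h) * t = t * ((h' : G)⁻¹ * h) := by
        have e1 : (h : G) * t * (h : G)⁻¹ = (h' : G) * t * (h' : G)⁻¹ := mul_right_cancel hh'
        calc ((h' : G)⁻¹ * h) * t = (h' : G)⁻¹ * ((h : G) * t * (h : G)⁻¹) * h := by group
          _ = (h' : G)⁻¹ * ((h' : G) * t * (h' : G)⁻¹) * h := by rw [e1]
          _ = t * ((h' : G)⁻¹ * h) := by group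
      have hsa : ((h' : G)⁻¹ * h) • a = a := by
        apply htfix'
        rw [← mul_smul, ← hcomm, mul_smul, hta]
      have hsb : ((h' : G)⁻¹ * h) • b = b := by
        rw [mul_smul, h1, inv_smul_eq_iff, h1']
      have hsb' : ((h' : G)⁻¹ * h) • (t • b) = t • b := by
        rw [mul_smul, h2, inv_smul_eq_iff, h2']
      have hs1 := h3 _ a b (t • b) (Ne.symm hb) (Ne.symm hb'b) (Ne.symm hb'a) hsa hsb hsb'
      apply Subtype.ext
      have : (h : G) = h' * ((h' : G)⁻¹ * h) := by group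
      rw [this, hs1, mul_one]
    have hφsurj : Function.Surjective φ := Finite.surjective_of_injective hφinj
    intro h hhb hhb'
    obtain ⟨h₀, hh₀⟩ := hφsurj ⟨h, Subgroup.mem_inf.mpr ⟨hhb, hhb'⟩⟩
    have : (h₀ : G) * t * (h₀ : G)⁻¹ * t⁻¹ = h := congrArg Subtype.val hh₀
    rw [← this]
    exact N.mul_mem (hNn.conj_mem t htN _) (N.inv_mem htN)
  -- the point stabiliser of b lies in N
  have hGb : ∀ g : G, g • b = b → g ∈ N := by
    intro g hg
    obtain ⟨Kb, hKb1, hKb2, -, -⟩ := zass_kernel hZ b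
    obtain ⟨k, hk, h, hhb, hhb', rfl⟩ := hKb2 (t • b) hb'b g hg
    exact N.mul_mem (hker b k ((hKb1 k).mp hk)) (hH h hhb hhb')
  rw [eq_top_iff]
  intro g _
  obtain ⟨n, hn, hnb⟩ := htr b (g • b)
  have : g = n * (n⁻¹ * g) := by group
  rw [this]
  refine N.mul_mem hn (hGb _ ?_)
  rw [mul_smul, ← hnb, inv_smul_smul]

end Cfsg.Agent.S0338
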