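import Cfsg.Statements.S2247
-- import your own Cfsg.Agent.* helpers here
import Cfsg.Agent.Lib.Helper15.SuzukiBorel
import Cfsg.Agent.S0325

set_option autoImplicit false
open Cfsg

namespace Cfsg.Agent.S2247

open Cfsg.Agent.Lib.Helper15.SuzukiAlg Cfsg.Agent.Lib.Helper15.SuzukiOvoid
  Cfsg.Agent.Lib.Helper15.SuzukiForm Cfsg.Agent.Lib.Helper15.SuzukiMat
  Cfsg.Agent.Lib.Helper15.SuzukiGroup Cfsg.Agent.Lib.Helper15.SuzukiOrder
  Cfsg.Agent.Lib.Helper15.SuzukiSylow Cfsg.Agent.Lib.Helper15.SuzukiZassenhaus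
  Cfsg.Agent.Lib.Helper15.SuzukiBorel Matrix

/-- transport of the "unique maximal overgroup" property along an automorphism -/
theorem transport {G : Type*} [Group G] (φ : G ≃* G) (K : Subgroup G)
    (h : IsCoatom (Subgroup.normalizer (K : Set G)) ∧
      ∀ M : Subgroup G, IsCoatom M → K ≤ M → M = Subgroup.normalizer (K : Set G)) :
    IsCoatom (Subgroup.normalizer ((K.map φ.toMonoidHom : Subgroup G) : Set G)) ∧
      ∀ M : Subgroup G, IsCoatom M → K.map φ.toMonoidHom ≤ M →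
        M = Subgroup.normalizer ((K.map φ.toMonoidHom : Subgroup G) : Set G) := by
  rw [← Subgroup.map_equiv_normalizer_eq]
  constructor
  · have := (φ.mapSubgroup.isCoatom_iff (Subgroup.normalizer (K : Set G))).mpr h.1
    rwa [MulEquiv.coe_mapSubgroup] at this
  · intro M hM hKM
    have hM' : IsCoatom (φ.symm.mapSubgroup M) := (φ.symm.mapSubgroup.isCoatom_iff M).mpr hM
    have hK' : K ≤ φ.symm.mapSubgroup M := by
      intro k hk
      rw [MulEquiv.coe_mapSubgroup]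
      exact ⟨φ k, hKM ⟨k, hk, rfl⟩, φ.symm_apply_apply k⟩
    have := h.2 _ hM' hK'
    rw [← this, MulEquiv.coe_mapSubgroup]
    ext x
    constructor
    · intro hx
      exact ⟨φ.symm x, ⟨x, hx, rfl⟩, φ.apply_symm_apply x⟩
    · rintro ⟨_, ⟨z, hz, rfl⟩, rfl⟩
      show φ (φ.symm z) ∈ M
      rw [φ.apply_symm_apply]
      exact hz

variable {F : Type*} [Field F] [Fintype F] {m : ℕ}

/-- the Borel subgroup -/
abbrev Bz (hF : Fintype.card F = 2 ^ (2 * m + 1)) : Subgroup (Cfsg.Sz F m) :=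
  MulAction.stabilizer (Cfsg.Sz F m) (pt hF none)

theorem Qz_le_Bz (hF : Fintype.card F = 2 ^ (2 * m + 1)) : Qz hF ≤ Bz hF := by
  intro g hg
  obtain ⟨a, b, rfl⟩ := (mem_Qz hF g).mp hg
  exact MulAction.mem_stabilizer_iff.mpr (Ts_inf hF a b)

theorem Ts_one_zero_ne (hF : Fintype.card F = 2 ^ (2 * m + 1)) : Ts hF 1 0 ≠ 1 := by
  intro h
  rw [← Ts_one hF] at h
  have := (Ts_inj hF h).1
  exact one_ne_zero this

theorem conj_mem_Qz (hm : 1 ≤ m) (hF : Fintype.card F = 2 ^ (2 * m + 1)) {g : Cfsg.Sz F m}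
    (hg : g ∈ Bz hF) {h : Cfsg.Sz F m} (hh : h ∈ Qz hF) : g * h * g⁻¹ ∈ Qz hF := by
  obtain ⟨c, d, μ, rfl⟩ := fix_inf hF hm (MulAction.mem_stabilizer_iff.mp hg)
  obtain ⟨a, b, rfl⟩ := (mem_Qz hF h).mp hh
  rw [borel_conj]
  exact Ts_mem_Qz hF _ _

theorem normalizer_Qz (hm : 1 ≤ m) (hF : Fintype.card F = 2 ^ (2 * m + 1)) :
    Subgroup.normalizer ((Qz hF : Subgroup (Cfsg.Sz F m)) : Set (Cfsg.Sz F m)) = Bz hF := by
  ext g
  rw [Subgroup.mem_normalizer_iff]
  constructor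
  · intro h
    have h1 := (h (Ts hF 1 0)).mp (Ts_mem_Qz hF 1 0)
    obtain ⟨a, b, hab⟩ := (mem_Qz hF _).mp h1
    have hne : ¬(a = 0 ∧ b = 0) := by
      rintro ⟨rfl, rfl⟩
      rw [Ts_one] at hab
      apply Ts_one_zero_ne hF
      have : Ts hF 1 0 = g⁻¹ * (g * Ts hF 1 0 * g⁻¹) * g := by group
      rw [this, hab]; group
    have hfix : Ts hF a b • (g • pt hF none) = g • pt hF none := by
      rw [← hab, ← mul_smul]
      have : g * Ts hF 1 0 * g⁻¹ * g = g * Ts hF 1 0 := by group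
      rw [this, mul_smul, Ts_inf]
    exact MulAction.mem_stabilizer_iff.mpr (Ts_fix_only hF hne hfix)
  · intro hg h
    constructor
    · exact conj_mem_Qz hm hF hg
    · intro hh
      have := conj_mem_Qz hm hF ((Bz hF).inv_mem hg) hh
      have e : g⁻¹ * (g * h * g⁻¹) * g⁻¹⁻¹ = h := by group
      rwa [e] at this

/-- an overgroup of the translations not inside the Borel subgroup is everything -/
theorem overgroup_top (hm : 1 ≤ m) (hF : Fintype.card F = 2 ^ (2 * m + 1))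
    (M : Subgroup (Cfsg.Sz F m)) (hQM : Qz hF ≤ M) (hMB : ¬ M ≤ Bz hF) : M = ⊤ := by
  have h2 := two_eq_zero hF
  obtain ⟨g, hgM, hgB⟩ := SetLike.not_le_iff_exists.mp hMB
  -- `M` is transitive on the ovoid
  have htrans : ∀ P : Cfsg.suzukiOvoid F m, ∃ y ∈ M, y • pt hF none = P := by
    intro P
    obtain ⟨c, rfl⟩ := pt_surj hF P
    rcases c with _ | ⟨x, y⟩
    · exact ⟨1, M.one_mem, one_smul _ _⟩
    · obtain ⟨c₀, hc₀⟩ := pt_surj hF (g • pt hF none)
      rcases c₀ with _ | ⟨x₀, y₀⟩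
      · exact absurd (MulAction.mem_stabilizer_iff.mpr hc₀) hgB
      · refine ⟨Ts hF (x + x₀) (y + y₀ + sig h2 m (x + x₀) * x₀) * g,
          M.mul_mem (hQM (Ts_mem_Qz hF _ _)) hgM, ?_⟩
        rw [mul_smul, hc₀, Ts_some]
        have e1 : x₀ + (x + x₀) = x := by
          have := add_self h2 x₀
          grind
        have e2 : y₀ + (y + y₀ + sig h2 m (x + x₀) * x₀) + sig h2 m (x + x₀) * x₀ = y := by
          have := add_self h2 y₀
          have := add_self h2 (sig h2 m (x + x₀) * x₀)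
          grind
        rw [e1, e2]
  -- all conjugates of translations lie in `M`
  have hconj : ∀ (x h : Cfsg.Sz F m), h ∈ Qz hF → x * h * x⁻¹ ∈ M := by
    intro x h hh
    obtain ⟨y, hyM, hy⟩ := htrans (x • pt hF none)
    have hb : y⁻¹ * x ∈ Bz hF := by
      rw [MulAction.mem_stabilizer_iff, mul_smul, ← hy, inv_smul_smul]
    have h1 := conj_mem_Qz hm hF hb hh
    have e : x * h * x⁻¹ = y * ((y⁻¹ * x) * h * (y⁻¹ * x)⁻¹) * y⁻¹ := by group
    rw [e]
    exact M.mul_mem (M.mul_mem hyM (hQM h1)) (M.inv_mem hyM)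
  have hncl : Subgroup.normalClosure ((Qz hF : Subgroup (Cfsg.Sz F m)) : Set (Cfsg.Sz F m)) ≤ M := by
    rw [Subgroup.normalClosure, Subgroup.closure_le]
    intro z hz
    obtain ⟨h, hh, hhz⟩ := Group.mem_conjugatesOfSet_iff.mp hz
    obtain ⟨x, hx⟩ := isConj_iff.mp hhz
    rw [← hx]
    exact hconj x h hh
  have hsimple : IsSimpleGroup (Cfsg.Sz F m) := Cfsg.Agent.S0325.result hm hF
  have hnormal : (Subgroup.normalClosure
      ((Qz hF : Subgroup (Cfsg.Sz F m)) : Set (Cfsg.Sz F m))).Normal := Subgroup.normalClosure_normal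
  rcases hnormal.eq_bot_or_eq_top with h | h
  · exfalso
    apply Ts_one_zero_ne hF
    have : Ts hF 1 0 ∈ Subgroup.normalClosure
        ((Qz hF : Subgroup (Cfsg.Sz F m)) : Set (Cfsg.Sz F m)) :=
      Subgroup.subset_normalClosure (Ts_mem_Qz hF 1 0)
    rw [h] at this
    exact Subgroup.mem_bot.mp this
  · rw [h] at hncl
    exact top_le_iff.mp hncl

theorem Bz_ne_top (hF : Fintype.card F = 2 ^ (2 * m + 1)) : Bz hF ≠ ⊤ := by
  intro h
  obtain ⟨g, hg, hgc⟩ := exists_map_inf hF (some ((0 : F), (0 : F)))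
  have h1 : (⟨g, hg⟩ : Cfsg.Sz F m) ∈ Bz hF := by rw [h]; exact Subgroup.mem_top _
  have h3 : (⟨g, hg⟩ : Cfsg.Sz F m) • pt hF none = pt hF (some (0, 0)) := Subtype.ext hgc
  rw [MulAction.mem_stabilizer_iff.mp h1] at h3
  exact pt_none_ne_zero hF h3

theorem standard (hm : 1 ≤ m) (hF : Fintype.card F = 2 ^ (2 * m + 1)) :
    IsCoatom (Subgroup.normalizer ((Qz hF : Subgroup (Cfsg.Sz F m)) : Set (Cfsg.Sz F m))) ∧
      ∀ M : Subgroup (Cfsg.Sz F m), IsCoatom M → Qz hF ≤ M →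
        M = Subgroup.normalizer ((Qz hF : Subgroup (Cfsg.Sz F m)) : Set (Cfsg.Sz F m)) := by
  rw [normalizer_Qz hm hF]
  have hco : IsCoatom (Bz hF) := by
    refine ⟨Bz_ne_top hF, fun M hBM => ?_⟩
    exact overgroup_top hm hF M ((Qz_le_Bz hF).trans hBM.le) (not_le_of_gt hBM)
  refine ⟨hco, fun M hM hQM => ?_⟩
  have hMB : M ≤ Bz hF := by
    by_contra hcon
    exact hM.1 (overgroup_top hm hF M hQM hcon)
  exact ((hM.le_iff_eq (Bz_ne_top hF)).mp hMB).symm

theorem main (hm : 1 ≤ m) (hF : Fintype.card F = 2 ^ (2 * m + 1)) (P : Sylow 2 ↥(Cfsg.Sz F m)) :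
    IsCoatom (Subgroup.normalizer ((P : Subgroup ↥(Cfsg.Sz F m)) : Set ↥(Cfsg.Sz F m))) ∧
    ∀ M : Subgroup ↥(Cfsg.Sz F m), IsCoatom M → (P : Subgroup ↥(Cfsg.Sz F m)) ≤ M →
      M = Subgroup.normalizer ((P : Subgroup ↥(Cfsg.Sz F m)) : Set ↥(Cfsg.Sz F m)) := by
  obtain ⟨y, hy⟩ := exists_conj_sylow hF hm P
  have hP : (P : Subgroup ↥(Cfsg.Sz F m)) = (Qz hF).map (MulAut.conj y⁻¹).toMonoidHom := by
    ext g
    rw [hy g]
    constructor
    · intro h
      refine ⟨y * g * y⁻¹, h, ?_⟩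
      show MulAut.conj y⁻¹ (y * g * y⁻¹) = g
      rw [MulAut.conj_apply]
      group
    · rintro ⟨z, hz, rfl⟩
      have : y * (MulAut.conj y⁻¹).toMonoidHom z * y⁻¹ = z := by
        show y * MulAut.conj y⁻¹ z * y⁻¹ = z
        rw [MulAut.conj_apply]
        group
      rw [this]; exact hz
  rw [hP]
  exact transport (MulAut.conj y⁻¹) (Qz hF) (standard hm hF)

/-- In the Suzuki group with q = 2^(2m+1), m ≥ 1 (realised as the stabiliser in SL₄ of the Suzuki–Tits ovoid), the normalizer of a Sylow 2-subgroup P is a maximal subgroup and is the only maximal subgroup containing P. -/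
theorem result {F : Type*} [Field F] [Fintype F] {m : ℕ} (hm : 1 ≤ m) (hF : Fintype.card F = 2 ^ (2 * m + 1)) (P : Sylow 2 ↥(Cfsg.Sz F m)) :
    IsCoatom (Subgroup.normalizer ((P : Subgroup ↥(Cfsg.Sz F m)) : Set ↥(Cfsg.Sz F m))) ∧
    ∀ M : Subgroup ↥(Cfsg.Sz F m), IsCoatom M → (P : Subgroup ↥(Cfsg.Sz F m)) ≤ M → M = Subgroup.normalizer ((P : Subgroup ↥(Cfsg.Sz F m)) : Set ↥(Cfsg.Sz F m)) := by
  exact main hm hF P

end Cfsg.Agent.S2247
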