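import Cfsg.Statements.S2410
-- import your own Cfsg.Agent.* helpers here
import Cfsg.Agent.Lib.Helper15.SuzukiBorel
import Cfsg.Agent.S2247

set_option autoImplicit false
open Cfsg

namespace Cfsg.Agent.S2410

open Cfsg.Agent.Lib.Helper15.SuzukiAlg Cfsg.Agent.Lib.Helper15.SuzukiOvoid
  Cfsg.Agent.Lib.Helper15.SuzukiForm Cfsg.Agent.Lib.Helper15.SuzukiMat
  Cfsg.Agent.Lib.Helper15.SuzukiGroup Cfsg.Agent.Lib.Helper15.SuzukiOrder
  Cfsg.Agent.Lib.Helper15.SuzukiSylow Cfsg.Agent.Lib.Helper15.SuzukiZassenhaus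
  Cfsg.Agent.Lib.Helper15.SuzukiBorel Matrix

variable {F : Type*} [Field F] [Fintype F] {m : ℕ}

/-- the inversion as an element of the Suzuki group -/
def Js (hF : Fintype.card F = 2 ^ (2 * m + 1)) : Cfsg.Sz F m := ⟨Jg (two_eq_zero hF), Jg_mem hF⟩

theorem Js_inf (hF : Fintype.card F = 2 ^ (2 * m + 1)) :
    Js hF • pt hF none = pt hF (some (0, 0)) := by
  rw [smul_pt_iff]
  exact ⟨1, one_ne_zero, by rw [one_smul]; exact J_e0 _⟩

theorem Js_mul_self (hF : Fintype.card F = 2 ^ (2 * m + 1)) : Js hF * Js hF = 1 :=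
  Subtype.ext (Jg_mul_self (two_eq_zero hF))

theorem Js_inv (hF : Fintype.card F = 2 ^ (2 * m + 1)) : (Js hF)⁻¹ = Js hF :=
  inv_eq_of_mul_eq_one_right (Js_mul_self hF)

/-- the inversion inverts the torus -/
theorem Js_mul_Hs (hF : Fintype.card F = 2 ^ (2 * m + 1)) (μ : Fˣ) :
    Js hF * Hs hF μ = Hs hF μ⁻¹ * Js hF := by
  have h2 := two_eq_zero hF
  have hμ : (μ : F) ≠ 0 := μ.ne_zero
  have hsμ : sig h2 m (μ : F) ≠ 0 := fun h => hμ ((map_eq_zero _).mp h)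
  apply Subtype.ext
  apply Subtype.ext
  show Cfsg.suzukiForm F * Hm (sig h2 m) (μ : F) = Hm (sig h2 m) ((μ⁻¹ : Fˣ) : F) * Cfsg.suzukiForm F
  rw [Hm, Hm, Units.val_inv_eq_inv_val]
  ext i j
  rw [Matrix.diagonal_mul, Matrix.mul_diagonal]
  fin_cases i <;> fin_cases j <;> simp [Cfsg.suzukiForm, map_inv₀] <;> ring

theorem Hs_mul (hF : Fintype.card F = 2 ^ (2 * m + 1)) (μ ν : Fˣ) :
    Hs hF μ * Hs hF ν = Hs hF (μ * ν) := Subtype.ext (H_mul _ m μ ν)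

theorem Hs_one (hF : Fintype.card F = 2 ^ (2 * m + 1)) : Hs hF 1 = 1 := Subtype.ext (H_one _ m)

theorem Hs_inv (hF : Fintype.card F = 2 ^ (2 * m + 1)) (μ : Fˣ) : (Hs hF μ)⁻¹ = Hs hF μ⁻¹ := by
  apply inv_eq_of_mul_eq_one_right
  rw [Hs_mul, mul_inv_cancel, Hs_one]

/-- the torus as a homomorphism into the Suzuki group -/
def HsHom (hF : Fintype.card F = 2 ^ (2 * m + 1)) : Fˣ →* Cfsg.Sz F m where
  toFun := Hs hF
  map_one' := Hs_one hF
  map_mul' μ ν := (Hs_mul hF μ ν).symm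

theorem exists_comm_pair (hm : 1 ≤ m) (hF : Fintype.card F = 2 ^ (2 * m + 1)) {b : F} (hb : b ≠ 0) :
    ∃ a c : F, a ≠ 0 ∧ c ≠ 0 ∧
      sig (two_eq_zero hF) m a * c + sig (two_eq_zero hF) m c * a = b := by
  have h2 := two_eq_zero hF
  have hσ := sig_sig h2 hF
  obtain ⟨t, ht⟩ := exists_sig_ne_self hF hm
  obtain ⟨w, hw⟩ : ∃ w, w = sig h2 m t + t := ⟨_, rfl⟩
  rw [← hw] at ht
  have ht0 : t ≠ 0 := by
    rintro rfl
    apply ht
    rw [hw]; simp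
  obtain ⟨κ, hκ⟩ : ∃ κ, κ = b / w := ⟨_, rfl⟩
  have hκ0 : κ ≠ 0 := by rw [hκ]; exact div_ne_zero hb ht
  have hsκ : sig h2 m κ ≠ 0 := fun h => hκ0 ((map_eq_zero _).mp h)
  obtain ⟨c, hc⟩ : ∃ c, c = sig h2 m κ / κ := ⟨_, rfl⟩
  have hc0 : c ≠ 0 := by rw [hc]; exact div_ne_zero hsκ hκ0
  have hcc : c * sig h2 m c = κ := by
    rw [hc, map_div₀, hσ]
    field_simp
  refine ⟨t * c, c, mul_ne_zero ht0 hc0, hc0, ?_⟩
  rw [map_mul]
  have : sig h2 m t * sig h2 m c * c + sig h2 m c * (t * c) = (c * sig h2 m c) * w := by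
    rw [hw]; ring
  rw [this, hcc, hκ]
  field_simp

theorem main (hm : 1 ≤ m) (hF : Fintype.card F = 2 ^ (2 * m + 1)) :
    ∃ a b : ↥(Cfsg.Sz F m), Subgroup.closure ({a, b} : Set ↥(Cfsg.Sz F m)) = ⊤ := by
  have h2 := two_eq_zero hF
  have hσ := sig_sig h2 hF
  obtain ⟨ζ, hζ⟩ := IsCyclic.exists_generator (α := Fˣ)
  refine ⟨Hs hF ζ, Ts hF 1 0 * Js hF, ?_⟩
  set M := Subgroup.closure ({Hs hF ζ, Ts hF 1 0 * Js hF} : Set ↥(Cfsg.Sz F m)) with hM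
  have ha : Hs hF ζ ∈ M := Subgroup.subset_closure (by simp)
  have hb : Ts hF 1 0 * Js hF ∈ M := Subgroup.subset_closure (by simp)
  -- the whole torus
  have hH : ∀ μ : Fˣ, Hs hF μ ∈ M := by
    intro μ
    obtain ⟨k, rfl⟩ := Subgroup.mem_zpowers_iff.mp (hζ μ)
    have : Hs hF (ζ ^ k) = (Hs hF ζ) ^ k := map_zpow (HsHom hF) ζ k
    rw [this]
    exact M.zpow_mem ha k
  -- a non-trivial translation
  have hζ1 : ζ ≠ 1 := by
    rintro rfl
    obtain ⟨c, hc0, hc1⟩ := exists_ne_zero_one hF hm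
    have := hζ (Units.mk0 c hc0)
    rw [Subgroup.zpowers_one_eq_bot, Subgroup.mem_bot] at this
    apply hc1
    have h3 := congrArg Units.val this
    simpa using h3
  obtain ⟨c₀, d₀, hc₀, ht₀⟩ : ∃ c₀ d₀ : F, c₀ ≠ 0 ∧ Ts hF c₀ d₀ ∈ M := by
    have h1 : (Ts hF 1 0 * Js hF) * Hs hF ζ * (Ts hF 1 0 * Js hF)⁻¹ * Hs hF ζ ∈ M :=
      M.mul_mem (M.mul_mem (M.mul_mem hb ha) (M.inv_mem hb)) ha
    have h3 : (Ts hF 1 0 * Js hF) * Hs hF ζ * (Ts hF 1 0 * Js hF)⁻¹ * Hs hF ζ =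
        Ts hF 1 0 * (Hs hF ζ⁻¹ * (Ts hF 1 0)⁻¹ * (Hs hF ζ⁻¹)⁻¹) := by
      have e1 : (Ts hF 1 0 * Js hF) * Hs hF ζ * (Ts hF 1 0 * Js hF)⁻¹ * Hs hF ζ =
          Ts hF 1 0 * (Js hF * Hs hF ζ) * (Js hF)⁻¹ * (Ts hF 1 0)⁻¹ * Hs hF ζ := by group
      rw [e1, Js_mul_Hs, Hs_inv, inv_inv, Js_inv]
      have e2 : Ts hF 1 0 * (Hs hF ζ⁻¹ * Js hF) * Js hF * (Ts hF 1 0)⁻¹ * Hs hF ζ =
          Ts hF 1 0 * (Hs hF ζ⁻¹ * (Js hF * Js hF) * (Ts hF 1 0)⁻¹ * Hs hF ζ) := by group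
      rw [e2, Js_mul_self, mul_one]
    rw [h3, Ts_inv, Hs_mul_Ts, mul_inv_cancel_right, Ts_mul] at h1
    refine ⟨_, _, ?_, h1⟩
    intro h
    have h4 : sig h2 m ((ζ⁻¹ : Fˣ) : F) = 1 := by
      have := eq_of_add_eq_zero h2 h
      rw [mul_one] at this
      exact this.symm
    have h5 : sig h2 m ((ζ⁻¹ : Fˣ) : F) = sig h2 m 1 := by rw [h4, map_one]
    have h6 := (sig h2 m).injective h5
    apply hζ1
    have : ζ⁻¹ = 1 := Units.ext h6
    exact inv_eq_one.mp this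
  -- translations with every first coordinate
  have hsurj : Function.Surjective (sig h2 m) :=
    Finite.injective_iff_surjective.mp (sig h2 m).injective
  have hfirst : ∀ c : F, c ≠ 0 → ∃ d : F, Ts hF c d ∈ M := by
    intro c hc
    obtain ⟨μ', hμ'⟩ := hsurj (c / c₀)
    have hμ0 : μ' ≠ 0 := by
      rintro rfl
      rw [map_zero] at hμ'
      exact div_ne_zero hc hc₀ hμ'.symm
    have h1 : Hs hF (Units.mk0 μ' hμ0) * Ts hF c₀ d₀ * (Hs hF (Units.mk0 μ' hμ0))⁻¹ ∈ M :=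
      M.mul_mem (M.mul_mem (hH _) ht₀) (M.inv_mem (hH _))
    rw [Hs_mul_Ts, mul_inv_cancel_right, Units.val_mk0, hμ', div_mul_cancel₀ _ hc₀] at h1
    exact ⟨_, h1⟩
  -- the centre
  have hcentre : ∀ b : F, Ts hF 0 b ∈ M := by
    intro b
    by_cases hb0 : b = 0
    · rw [hb0, Ts_one]; exact M.one_mem
    obtain ⟨a, c, ha0, hc0, hac⟩ := exists_comm_pair hm hF hb0
    obtain ⟨d, hd⟩ := hfirst a ha0
    obtain ⟨d', hd'⟩ := hfirst c hc0
    have h1 : Ts hF a d * Ts hF c d' * (Ts hF a d)⁻¹ * (Ts hF c d')⁻¹ ∈ M :=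
      M.mul_mem (M.mul_mem (M.mul_mem hd hd') (M.inv_mem hd)) (M.inv_mem hd')
    rw [Ts_conj, Ts_inv, Ts_mul] at h1
    have e1 : c + c = 0 := add_self h2 c
    have e2 : d' + sig h2 m a * c + sig h2 m c * a + (d' + c * sig h2 m c) + sig h2 m c * c = b := by
      rw [← hac]
      have := add_self h2 d'
      have := add_self h2 (c * sig h2 m c)
      grind
    rw [e1, e2] at h1
    exact h1
  have hQ : Qz hF ≤ M := by
    intro g hg
    obtain ⟨c, d, rfl⟩ := (mem_Qz hF g).mp hg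
    by_cases hc : c = 0
    · rw [hc]; exact hcentre d
    · obtain ⟨d₁, hd₁⟩ := hfirst c hc
      have h1 : Ts hF c d₁ * Ts hF 0 (d + d₁) ∈ M := M.mul_mem hd₁ (hcentre _)
      rw [Ts_mul] at h1
      have e1 : c + 0 = c := add_zero c
      have e2 : d₁ + (d + d₁) + sig h2 m c * 0 = d := by
        have := add_self h2 d₁
        grind
      rw [e1, e2] at h1
      exact h1
  apply Cfsg.Agent.S2247.overgroup_top hm hF M hQ
  intro hMB
  have h1 := MulAction.mem_stabilizer_iff.mp (hMB hb)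
  rw [mul_smul, Js_inf, Ts_some] at h1
  have := pt_inj hF h1
  simp at this

/-- The Suzuki group over the field with `2^(2m+1)` elements, `m ≥ 1` (realised as the stabiliser in `SL₄` of the Suzuki–Tits ovoid), is generated by two of its elements. -/
theorem result {F : Type*} [Field F] [Fintype F] {m : ℕ} (hm : 1 ≤ m) (hF : Fintype.card F = 2 ^ (2 * m + 1)) :
    ∃ a b : ↥(Cfsg.Sz F m), Subgroup.closure ({a, b} : Set ↥(Cfsg.Sz F m)) = ⊤ := by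
  exact main hm hF

end Cfsg.Agent.S2410
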