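import Cfsg.Statements.S2238
-- import your own Cfsg.Agent.* helpers here
import Cfsg.Agent.Lib.Helper15.SuzukiTori

set_option autoImplicit false
open Cfsg

namespace Cfsg.Agent.S2238

open Cfsg.Agent.Lib.Helper15.SuzukiAlg Cfsg.Agent.Lib.Helper15.SuzukiOvoid
  Cfsg.Agent.Lib.Helper15.SuzukiGroup Cfsg.Agent.Lib.Helper15.SuzukiOrder
  Cfsg.Agent.Lib.Helper15.SuzukiZassenhaus Cfsg.Agent.Lib.Helper15.SuzukiBorel
  Cfsg.Agent.Lib.Helper15.SuzukiElements
  Cfsg.Agent.Lib.Helper15.SuzukiFpf Cfsg.Agent.Lib.Helper15.SuzukiField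
  Cfsg.Agent.Lib.Helper15.SuzukiTori Cfsg.Agent.S2410 Cfsg.Agent.S2247 Cfsg.Agent.S0331
open scoped Pointwise

variable {F : Type*} [Field F] [Fintype F] {m : ℕ}

/-- the three kinds of non-identity elements -/
theorem classify (hm : 1 ≤ m) (hF : Fintype.card F = 2 ^ (2 * m + 1)) {g : Cfsg.Sz F m}
    (hg : g ≠ 1) :
    IsFpf g ∨ (∃ (k : Cfsg.Sz F m) (a b : F), ¬(a = 0 ∧ b = 0) ∧ k * g * k⁻¹ = Ts hF a b) ∨
      (∃ (k : Cfsg.Sz F m) (ν : Fˣ), ν ≠ 1 ∧ k * g * k⁻¹ = Hs hF ν) := by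
  by_cases hfpf : IsFpf g
  · left; exact hfpf
  · right
    unfold IsFpf at hfpf
    push Not at hfpf
    obtain ⟨P, hP⟩ := hfpf
    obtain ⟨c, rfl⟩ := pt_surj hF P
    obtain ⟨g₁, hg₁, hg₁c⟩ := exists_map_inf hF c
    have h1 : (⟨g₁, hg₁⟩ : Cfsg.Sz F m) • pt hF none = pt hF c := Subtype.ext hg₁c
    have h1' : (⟨g₁, hg₁⟩ : Cfsg.Sz F m)⁻¹ • pt hF c = pt hF none := by
      rw [← h1, inv_smul_smul]
    obtain ⟨k₀, hk₀⟩ : ∃ k₀ : Cfsg.Sz F m, k₀ = (⟨g₁, hg₁⟩ : Cfsg.Sz F m)⁻¹ := ⟨_, rfl⟩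
    rw [← hk₀] at h1'
    have hfix : (k₀ * g * k₀⁻¹) • pt hF none = pt hF none := by
      rw [mul_smul, mul_smul, hk₀, inv_inv, h1, hP, ← hk₀, h1']
    have hne : k₀ * g * k₀⁻¹ ≠ 1 := by
      intro h
      apply hg
      have : g = k₀⁻¹ * (k₀ * g * k₀⁻¹) * k₀ := by group
      rw [this, h]; group
    obtain ⟨a, b, μ, hab⟩ := fix_inf hF hm hfix
    by_cases hμ : μ = 1
    · left
      subst hμ
      rw [Hs_one, mul_one] at hab
      refine ⟨k₀, a, b, ?_, hab⟩
      rintro ⟨rfl, rfl⟩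
      rw [Ts_one] at hab
      exact hne hab
    · right
      obtain ⟨x, y, hxy⟩ := exists_second_fixed hF a b hμ
      rw [← hab] at hxy
      have hne' : pt hF none ≠ pt hF (some (x, y)) := by
        intro h
        have := pt_inj hF h
        simp at this
      obtain ⟨k₁, ν, hk₁⟩ := two_fixed_conj hF hm hne' hfix hxy
      refine ⟨k₁ * k₀, ν, ?_, ?_⟩
      · rintro rfl
        rw [Hs_one] at hk₁
        apply hne
        have : k₀ * g * k₀⁻¹ = k₁⁻¹ * (k₁ * (k₀ * g * k₀⁻¹) * k₁⁻¹) * k₁ := by group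
        rw [this, hk₁]; group
      · rw [← hk₁]; group

/-- distinct Sylow `2`-subgroups intersect trivially -/
theorem sylow_two_unique (hm : 1 ≤ m) (hF : Fintype.card F = 2 ^ (2 * m + 1)) {g : Cfsg.Sz F m}
    (hg : g ≠ 1) (P P' : Sylow 2 (Cfsg.Sz F m)) (h : g ∈ (P : Subgroup (Cfsg.Sz F m)))
    (h' : g ∈ (P' : Subgroup (Cfsg.Sz F m))) : P = P' := by
  obtain ⟨y, hy⟩ := exists_conj_sylow hF hm P
  obtain ⟨y', hy'⟩ := exists_conj_sylow hF hm P'
  have key : ∀ z : Cfsg.Sz F m, z * g * z⁻¹ ∈ Qz hF →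
      ∀ Q : Cfsg.suzukiOvoid F m, g • Q = Q → Q = z⁻¹ • pt hF none := by
    intro z hz Q hQ
    obtain ⟨a, b, hab⟩ := (mem_Qz hF _).mp hz
    have hab0 : ¬(a = 0 ∧ b = 0) := by
      rintro ⟨rfl, rfl⟩
      rw [Ts_one] at hab
      apply hg
      have : g = z⁻¹ * (z * g * z⁻¹) * z := by group
      rw [this, hab]; group
    have hfix : Ts hF a b • (z • Q) = z • Q := by
      rw [← hab, ← mul_smul]
      have : z * g * z⁻¹ * z = z * g := by group
      rw [this, mul_smul, hQ]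
    have := Ts_fix_only hF hab0 hfix
    rw [← this, inv_smul_smul]
  have hfix1 : g • (y⁻¹ • pt hF none) = y⁻¹ • pt hF none := by
    obtain ⟨a, b, hab⟩ := (mem_Qz hF _).mp ((hy g).mp h)
    have : g = y⁻¹ * Ts hF a b * y := by rw [← hab]; group
    rw [this, mul_smul, mul_smul, smul_inv_smul, Ts_inf]
  have h2 := key y' ((hy' g).mp h') _ hfix1
  have hB : y' * y⁻¹ ∈ Bz hF := by
    rw [MulAction.mem_stabilizer_iff, mul_smul, h2, smul_inv_smul]
  rw [← normalizer_Qz hm hF] at hB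
  apply Sylow.ext
  ext z
  rw [hy z, hy' z]
  have := Subgroup.mem_normalizer_iff.mp hB (y * z * y⁻¹)
  rw [this]
  have e : y' * y⁻¹ * (y * z * y⁻¹) * (y' * y⁻¹)⁻¹ = y' * z * y'⁻¹ := by group
  rw [e]

/-- non-identity elements of a Sylow `2`-subgroup have even order -/
theorem two_dvd_order {g : Cfsg.Sz F m} (hg : g ≠ 1) (P : Sylow 2 (Cfsg.Sz F m))
    (h : g ∈ (P : Subgroup (Cfsg.Sz F m))) : 2 ∣ orderOf g := by
  have h1 : orderOf g ∣ Nat.card (P : Subgroup (Cfsg.Sz F m)) := by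
    have := orderOf_dvd_natCard (⟨g, h⟩ : (P : Subgroup (Cfsg.Sz F m)))
    rwa [← Subgroup.orderOf_coe] at this
  rw [P.card_eq_multiplicity] at h1
  obtain ⟨j, -, hj⟩ := (Nat.dvd_prime_pow Nat.prime_two).mp h1
  rcases Nat.eq_zero_or_pos j with rfl | hj0
  · rw [pow_zero] at hj
    exact absurd (orderOf_eq_one_iff.mp hj) hg
  · rw [hj]; exact dvd_pow_self 2 hj0.ne'

/-- subgroups of commutative overgroups -/
theorem le_of_comm {G : Type*} [Group G] {U : Subgroup G} (hU : IsCyclic U) {g : G} (hg : g ∈ U) :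
    ∀ u ∈ U, u * g = g * u := by
  intro u hu
  have := (isMulCommutative_iff.mp (IsCyclic.isMulCommutative (α := U))) ⟨u, hu⟩ ⟨g, hg⟩
  exact congrArg Subtype.val this

theorem main (hm : 1 ≤ m) (hF : Fintype.card F = 2 ^ (2 * m + 1)) (g : ↥(Cfsg.Sz F m)) (hg : g ≠ 1) :
    ∃! U : Subgroup ↥(Cfsg.Sz F m), ((∃ P : Sylow 2 ↥(Cfsg.Sz F m), U = (P : Subgroup ↥(Cfsg.Sz F m))) ∨
      (IsCyclic ↥U ∧ Nat.card ↥U ∈ ({2 ^ (2 * m + 1) - 1, 2 ^ (2 * m + 1) + 2 ^ (m + 1) + 1, 2 ^ (2 * m + 1) - 2 ^ (m + 1) + 1} : Set ℕ))) ∧ g ∈ U := by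
  classical
  obtain ⟨x₁, x₂, hx₁, hx₂, hd₁, hd₂, -, -, hall⟩ := tori hF hm
  have hq8 : 8 ≤ 2 ^ (2 * m + 1) := by
    calc 8 = 2 ^ 3 := by norm_num
      _ ≤ 2 ^ (2 * m + 1) := Nat.pow_le_pow_right (by norm_num) (by omega)
  have hle : 2 ^ (m + 1) ≤ 2 ^ (2 * m + 1) := Nat.pow_le_pow_right (by norm_num) (by omega)
  have he1 : 2 ∣ 2 ^ (2 * m + 1) := dvd_pow_self 2 (by omega)
  have he2 : 2 ∣ 2 ^ (m + 1) := dvd_pow_self 2 (by omega)
  have hodd : ∀ k ∈ ({2 ^ (2 * m + 1) - 1, 2 ^ (2 * m + 1) + 2 ^ (m + 1) + 1,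
      2 ^ (2 * m + 1) - 2 ^ (m + 1) + 1} : Set ℕ), ¬ 2 ∣ k := by
    intro k hk
    rcases hk with rfl | rfl | hk
    · omega
    · omega
    · rw [Set.mem_singleton_iff] at hk
      subst hk
      omega
  have hne12 : dd x₂ ≠ dd x₁ := by
    rw [hd₁, hd₂]
    have : 0 < 2 ^ (m + 1) := by positivity
    omega
  have hcop := coprime_dd hF hm hx₁ hx₂ hne12
  have h5₁ := five_le_dd hF hm hx₁
  have h5₂ := five_le_dd hF hm hx₂
  have hdN₁ := dd_dvd hF hm hx₁
  have hdN₂ := dd_dvd hF hm hx₂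
  -- a torus order does not divide `q - 1`
  have hnd : ∀ d, (d = dd x₁ ∨ d = dd x₂) → ¬ d ∣ 2 ^ (2 * m + 1) - 1 := by
    intro d hd hdvd
    have hdN : d ∣ (2 ^ (2 * m + 1)) ^ 2 + 1 := by
      rcases hd with rfl | rfl
      · exact hdN₁
      · exact hdN₂
    have h1 := Nat.Coprime.eq_one_of_dvd (Nat.Coprime.coprime_dvd_left hdN coprime_N)
      (dvd_mul_of_dvd_right hdvd _)
    rcases hd with rfl | rfl <;> omega
  -- a cyclic subgroup from the list containing `g` has odd order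
  have hcyc_odd : ∀ U : Subgroup (Cfsg.Sz F m), Nat.card U ∈ ({2 ^ (2 * m + 1) - 1,
      2 ^ (2 * m + 1) + 2 ^ (m + 1) + 1, 2 ^ (2 * m + 1) - 2 ^ (m + 1) + 1} : Set ℕ) → g ∈ U →
      ¬ 2 ∣ orderOf g := by
    intro U hU hgU h2
    have h1 : orderOf g ∣ Nat.card U := by
      have := orderOf_dvd_natCard (⟨g, hgU⟩ : U)
      rwa [← Subgroup.orderOf_coe] at this
    exact hodd _ hU (dvd_trans h2 h1)
  rcases classify hm hF hg with hfpf | ⟨k, a, b, hab, hk⟩ | ⟨k, ν, hν, hk⟩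
  · -- fixed-point-free elements
    have hgg : g ∈ Subgroup.centralizer ({g} : Set (Cfsg.Sz F m)) :=
      Subgroup.mem_centralizer_singleton_iff.mpr rfl
    have hddg : dd g = dd x₁ ∨ dd g = dd x₂ := hall g hfpf
    refine ⟨Subgroup.centralizer ({g} : Set (Cfsg.Sz F m)), ⟨Or.inr ⟨cent_cyclic hF hm hfpf, ?_⟩, hgg⟩, ?_⟩
    · show dd g ∈ _
      rcases hddg with h | h
      · rw [h, hd₁]; right; left; rfl
      · rw [h, hd₂]; right; right; rfl
    · rintro U' ⟨hU', hgU'⟩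
      rcases hU' with ⟨P', rfl⟩ | ⟨hcyc, hcard⟩
      · exact absurd (two_dvd_order hg P' hgU') (hfpf.odd_order hF hm)
      · have hle' : U' ≤ Subgroup.centralizer ({g} : Set (Cfsg.Sz F m)) := by
          intro u hu
          exact Subgroup.mem_centralizer_singleton_iff.mpr (le_of_comm hcyc hgU' u hu)
        have hdvd : Nat.card U' ∣ dd g := Subgroup.card_dvd_of_le hle'
        apply Subgroup.eq_of_le_of_card_ge hle'
        show dd g ≤ Nat.card U'
        rcases hcard with h | h | h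
        · exfalso
          have hdN : dd g ∣ (2 ^ (2 * m + 1)) ^ 2 + 1 := dd_dvd hF hm hfpf
          have h1 := Nat.Coprime.eq_one_of_dvd
            (Nat.Coprime.coprime_dvd_left (dvd_trans hdvd hdN) coprime_N)
            (show Nat.card U' ∣ (2 ^ (2 * m + 1)) ^ 2 * (2 ^ (2 * m + 1) - 1) by
              rw [h]; exact dvd_mul_left _ _)
          omega
        · rw [← hd₁] at h
          rcases hddg with h' | h'
          · rw [h, h']
          · exfalso
            rw [h, h'] at hdvd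
            have := Nat.Coprime.eq_one_of_dvd hcop hdvd
            omega
        · rw [Set.mem_singleton_iff, ← hd₂] at h
          rcases hddg with h' | h'
          · exfalso
            rw [h, h'] at hdvd
            have := Nat.Coprime.eq_one_of_dvd hcop.symm hdvd
            omega
          · rw [h, h']
  · -- `2`-elements
    have h2el : ∃ j : ℕ, g ^ (2 ^ j) = 1 := by
      have hQ : IsPGroup 2 (Qz hF) := (QSyl hF hm).isPGroup'
      obtain ⟨j, hj⟩ := hQ ⟨Ts hF a b, Ts_mem_Qz hF a b⟩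
      refine ⟨j, ?_⟩
      have h1 : (Ts hF a b) ^ (2 ^ j) = 1 := congrArg Subtype.val hj
      rw [← hk, conj_pow] at h1
      have : g ^ 2 ^ j = k⁻¹ * (k * g ^ 2 ^ j * k⁻¹) * k := by group
      rw [this, h1]; group
    obtain ⟨j, hj⟩ := h2el
    have hKp : IsPGroup 2 (Subgroup.zpowers g) := by
      have h1 : orderOf g ∣ 2 ^ j := orderOf_dvd_of_pow_eq_one hj
      obtain ⟨i, -, hi⟩ := (Nat.dvd_prime_pow Nat.prime_two).mp h1
      apply IsPGroup.of_card (n := i)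
      rw [Nat.card_zpowers, hi]
    obtain ⟨P, hP⟩ := hKp.exists_le_sylow
    have hgP : g ∈ (P : Subgroup (Cfsg.Sz F m)) := hP (Subgroup.mem_zpowers g)
    refine ⟨(P : Subgroup (Cfsg.Sz F m)), ⟨Or.inl ⟨P, rfl⟩, hgP⟩, ?_⟩
    rintro U' ⟨hU', hgU'⟩
    rcases hU' with ⟨P', rfl⟩ | ⟨hcyc, hcard⟩
    · rw [sylow_two_unique hm hF hg P' P hgU' hgP]
    · exact absurd (two_dvd_order hg P hgP) (hcyc_odd U' hcard hgU')
  · -- torus elements
    set f : Fˣ →* Cfsg.Sz F m := (MulAut.conj k⁻¹).toMonoidHom.comp (HsHom hF) with hf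
    have hfa : ∀ μ : Fˣ, f μ = k⁻¹ * Hs hF μ * k := by
      intro μ
      show MulAut.conj k⁻¹ (Hs hF μ) = _
      rw [MulAut.conj_apply, inv_inv]
    have hfinj : Function.Injective f := by
      intro μ μ' h
      rw [hfa, hfa] at h
      have h1 : Hs hF μ = Hs hF μ' := mul_left_cancel (mul_right_cancel h)
      exact H_injective _ m (congrArg Subtype.val h1)
    have hgf : f ν = g := by
      rw [hfa, ← hk]; group
    have hgU : g ∈ f.range := ⟨ν, hgf⟩
    have hUcyc : IsCyclic f.range := isCyclic_of_surjective f.rangeRestrict f.rangeRestrict_surjective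
    have hUcard : Nat.card f.range = 2 ^ (2 * m + 1) - 1 := by
      rw [Nat.card_congr (MonoidHom.ofInjective hfinj).symm.toEquiv, Nat.card_eq_fintype_card,
        Fintype.card_units, hF]
    have hordg : orderOf g ∣ 2 ^ (2 * m + 1) - 1 := by
      rw [← hgf, orderOf_injective f hfinj, ← hUcard,
        Nat.card_congr (MonoidHom.ofInjective hfinj).symm.toEquiv]
      exact orderOf_dvd_natCard ν
    have hgodd : ¬ 2 ∣ orderOf g := fun h => by
      have := dvd_trans h hordg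
      omega
    refine ⟨f.range, ⟨Or.inr ⟨hUcyc, ?_⟩, hgU⟩, ?_⟩
    · rw [hUcard]; left; rfl
    · rintro U' ⟨hU', hgU'⟩
      rcases hU' with ⟨P', rfl⟩ | ⟨hcyc, hcard⟩
      · exact absurd (two_dvd_order hg P' hgU') hgodd
      · have hle' : U' ≤ f.range := by
          intro u hu
          have hc := le_of_comm hcyc hgU' u hu
          have hc' : (k * u * k⁻¹) * Hs hF ν = Hs hF ν * (k * u * k⁻¹) := by
            rw [← hk]
            have e1 : k * u * k⁻¹ * (k * g * k⁻¹) = k * (u * g) * k⁻¹ := by group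
            have e2 : k * g * k⁻¹ * (k * u * k⁻¹) = k * (g * u) * k⁻¹ := by group
            rw [e1, e2, hc]
          obtain ⟨ν', hν'⟩ := cent_Hs hF hm hν hc'
          refine ⟨ν', ?_⟩
          rw [hfa, ← hν']; group
        have hdvd : Nat.card U' ∣ 2 ^ (2 * m + 1) - 1 := by
          rw [← hUcard]; exact Subgroup.card_dvd_of_le hle'
        apply Subgroup.eq_of_le_of_card_ge hle'
        rw [hUcard]
        rcases hcard with h | h | h
        · rw [h]
        · exfalso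
          rw [h, ← hd₁] at hdvd
          exact hnd _ (Or.inl rfl) hdvd
        · exfalso
          rw [Set.mem_singleton_iff] at h
          rw [h, ← hd₂] at hdvd
          exact hnd _ (Or.inr rfl) hdvd

/-- The partition of the Suzuki group: with q = 2^(2m+1), m ≥ 1, r = 2^m and the Suzuki group realised as the stabiliser in SL₄ of the Suzuki–Tits ovoid, every non-identity element lies in exactly one subgroup that is either a Sylow 2-subgroup or a cyclic subgroup of order q − 1, q + 2r + 1 or q − 2r + 1. -/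
theorem result {F : Type*} [Field F] [Fintype F] {m : ℕ} (hm : 1 ≤ m) (hF : Fintype.card F = 2 ^ (2 * m + 1)) (g : ↥(Cfsg.Sz F m)) (hg : g ≠ 1) :
    ∃! U : Subgroup ↥(Cfsg.Sz F m), ((∃ P : Sylow 2 ↥(Cfsg.Sz F m), U = (P : Subgroup ↥(Cfsg.Sz F m))) ∨
      (IsCyclic ↥U ∧ Nat.card ↥U ∈ ({2 ^ (2 * m + 1) - 1, 2 ^ (2 * m + 1) + 2 ^ (m + 1) + 1, 2 ^ (2 * m + 1) - 2 ^ (m + 1) + 1} : Set ℕ))) ∧ g ∈ U := by
  exact main hm hF g hg

end Cfsg.Agent.S2238
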