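import Cfsg.Statements.S2240
-- import your own Cfsg.Agent.* helpers here
import Cfsg.Agent.Lib.Helper15.SuzukiBorel
import Cfsg.Agent.Lib.Helper15.SuzukiElements

set_option autoImplicit false
open Cfsg

namespace Cfsg.Agent.S2240

open Cfsg.Agent.Lib.Helper15.SuzukiAlg Cfsg.Agent.Lib.Helper15.SuzukiOvoid
  Cfsg.Agent.Lib.Helper15.SuzukiForm Cfsg.Agent.Lib.Helper15.SuzukiMat
  Cfsg.Agent.Lib.Helper15.SuzukiGroup Cfsg.Agent.Lib.Helper15.SuzukiOrder
  Cfsg.Agent.Lib.Helper15.SuzukiSylow Cfsg.Agent.Lib.Helper15.SuzukiZassenhaus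
  Cfsg.Agent.Lib.Helper15.SuzukiBorel Cfsg.Agent.Lib.Helper15.SuzukiElements

section
variable {F : Type*} [Field F] [Fintype F] {m : ℕ} (hF : Fintype.card F = 2 ^ (2 * m + 1))

/-- the scaling factor of the torus on the centre of the translation group -/
def kap (μ : Fˣ) : F := (μ : F) ^ 2 * sig (two_eq_zero hF) m (μ : F)

theorem Hs_conj (μ : Fˣ) (b : F) :
    Hs hF μ * Ts hF 0 b * (Hs hF μ)⁻¹ = Ts hF 0 (kap hF μ * b) := by
  rw [Hs_mul_Ts, mul_inv_cancel_right, mul_zero]; rfl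

theorem kap_surj {c : F} (hc : c ≠ 0) : ∃ μ : Fˣ, kap hF μ = c := by
  have h2 := two_eq_zero hF
  let κ : Fˣ →* Fˣ := powMonoidHom 2 * Units.map (sig h2 m : F →* F)
  have hκ : ∀ μ : Fˣ, ((κ μ : Fˣ) : F) = kap hF μ := by
    intro μ
    show (((μ ^ 2 * Units.map (sig h2 m : F →* F) μ : Fˣ)) : F) = _
    rw [Units.val_mul, Units.val_pow_eq_pow_val]; rfl
  have hinj : Function.Injective κ := by
    rw [injective_iff_map_eq_one]
    intro μ hμ
    have h1 : kap hF μ = 1 := by rw [← hκ, hμ]; rfl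
    exact Units.ext (char_two_inj hF h1)
  obtain ⟨μ, hμ⟩ := (Finite.injective_iff_surjective.mp hinj) (Units.mk0 c hc)
  exact ⟨μ, by rw [← hκ, hμ]; rfl⟩

theorem Ts0_mul (b b' : F) : Ts hF 0 b * Ts hF 0 b' = Ts hF 0 (b + b') := by
  rw [Ts_mul]; simp

theorem Ts0_inv (b : F) : (Ts hF 0 b)⁻¹ = Ts hF 0 b := by
  rw [Ts_inv]; simp

theorem Ts0_ne_one {b : F} (hb : b ≠ 0) : Ts hF 0 b ≠ 1 := by
  intro h
  rw [← Ts_one hF] at h
  exact hb (Ts_inj hF h).2

include hF in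
theorem add_self' (b : F) : b + b = 0 := by
  have := two_eq_zero hF
  rw [← two_mul, this, zero_mul]

theorem Ts_invol {a b : F} (h : Ts hF a b * Ts hF a b = 1) : a = 0 := by
  rw [Ts_mul, ← Ts_one hF] at h
  have h1 := (Ts_inj hF h).2
  rw [add_self' hF, zero_add] at h1
  rcases mul_eq_zero.mp h1 with h3 | h3
  · exact (map_eq_zero _).mp h3
  · exact h3

include hF in
theorem forward (hm : 1 ≤ m) (n : ℕ) (hn : 1 ≤ n) (E : Subgroup (Cfsg.Sz F m))
    (hexp : ∀ a ∈ E, a ^ 2 = 1) (hcard : Nat.card E = 2 ^ n)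
    (hTI : ∀ x : Cfsg.Sz F m, E ⊓ E.map (MulAut.conj x).toMonoidHom ≠ ⊥ →
      x ∈ Subgroup.normalizer (E : Set (Cfsg.Sz F m))) :
    n ∣ 2 * m + 1 := by
  have : Fact (Nat.Prime 2) := ⟨Nat.prime_two⟩
  have hp : IsPGroup 2 E := IsPGroup.of_card hcard
  obtain ⟨P, hP⟩ := hp.exists_le_sylow
  obtain ⟨y, hy⟩ := exists_conj_sylow hF hm P
  -- every element of `E` is a central translation after conjugation
  have hEy : ∀ g ∈ E, ∃ b, g = y⁻¹ * Ts hF 0 b * y := by
    intro g hg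
    obtain ⟨a, b, hab⟩ := (mem_Qz hF _).mp ((hy g).mp (hP hg))
    have h1 : Ts hF a b * Ts hF a b = 1 := by
      rw [← hab]
      have : y * g * y⁻¹ * (y * g * y⁻¹) = y * (g ^ 2) * y⁻¹ := by
        rw [pow_two]; simp [mul_assoc]
      rw [this, hexp g hg]; simp
    have ha := Ts_invol hF h1
    subst ha
    exact ⟨b, by rw [← hab]; group⟩
  let V : Set F := {b | y⁻¹ * Ts hF 0 b * y ∈ E}
  have hV0 : (0 : F) ∈ V := by
    show y⁻¹ * Ts hF 0 0 * y ∈ E
    rw [Ts_one]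
    have : y⁻¹ * 1 * y = (1 : Cfsg.Sz F m) := by group
    rw [this]; exact E.one_mem
  -- `V` is in bijection with `E`
  have hVcard : Nat.card V = 2 ^ n := by
    rw [← hcard]
    refine Nat.card_congr (Equiv.ofBijective (fun b : V => (⟨y⁻¹ * Ts hF 0 b.1 * y, b.2⟩ : E)) ⟨?_, ?_⟩)
    · intro b b' h
      have h1 : y⁻¹ * Ts hF 0 b.1 * y = y⁻¹ * Ts hF 0 b'.1 * y := congrArg Subtype.val h
      have h2 : Ts hF 0 b.1 = Ts hF 0 b'.1 := by
        have := mul_right_cancel h1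
        exact mul_left_cancel this
      exact Subtype.ext (Ts_inj hF h2).2
    · rintro ⟨g, hg⟩
      obtain ⟨b, hb⟩ := hEy g hg
      refine ⟨⟨b, ?_⟩, Subtype.ext hb.symm⟩
      show y⁻¹ * Ts hF 0 b * y ∈ E
      rw [← hb]; exact hg
  -- a non-zero element of `V`
  obtain ⟨v₀, hv₀V, hv₀⟩ : ∃ v ∈ V, v ≠ 0 := by
    have h1 : 1 < Nat.card V := by
      rw [hVcard]; exact Nat.one_lt_two_pow (by omega)
    have : Finite V := Nat.finite_of_card_ne_zero (by omega)
    have : Nontrivial V := Finite.one_lt_card_iff_nontrivial.mp h1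
    obtain ⟨v, hv⟩ := exists_ne (⟨0, hV0⟩ : V)
    exact ⟨v.1, v.2, fun h => hv (Subtype.ext h)⟩
  -- key step
  have hkey : ∀ (μ : Fˣ) (v : F), v ∈ V → v ≠ 0 → kap hF μ * v ∈ V →
      ∀ b, b ∈ V ↔ kap hF μ * b ∈ V := by
    intro μ v hv hv0 hw b
    have hconj : ∀ c : F, (y⁻¹ * Hs hF μ * y) * (y⁻¹ * Ts hF 0 c * y) * (y⁻¹ * Hs hF μ * y)⁻¹ =
        y⁻¹ * Ts hF 0 (kap hF μ * c) * y := by
      intro c
      rw [← Hs_conj]; group
    have hx : y⁻¹ * Hs hF μ * y ∈ Subgroup.normalizer (E : Set (Cfsg.Sz F m)) := by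
      apply hTI
      intro hbot
      have hmem : y⁻¹ * Ts hF 0 (kap hF μ * v) * y ∈
          E ⊓ E.map (MulAut.conj (y⁻¹ * Hs hF μ * y)).toMonoidHom := by
        refine Subgroup.mem_inf.mpr ⟨hw, ?_⟩
        rw [Subgroup.mem_map]
        refine ⟨y⁻¹ * Ts hF 0 v * y, hv, ?_⟩
        rw [MulEquiv.coe_toMonoidHom, MulAut.conj_apply, hconj]
      rw [hbot, Subgroup.mem_bot] at hmem
      have h3 : Ts hF 0 (kap hF μ * v) = 1 := by
        have : Ts hF 0 (kap hF μ * v) = y * (y⁻¹ * Ts hF 0 (kap hF μ * v) * y) * y⁻¹ := by group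
        rw [this, hmem]; group
      have hκ0 : kap hF μ ≠ 0 := by
        unfold kap
        exact mul_ne_zero (pow_ne_zero _ μ.ne_zero) (fun h => μ.ne_zero ((map_eq_zero _).mp h))
      exact Ts0_ne_one hF (mul_ne_zero hκ0 hv0) h3
    rw [Subgroup.mem_normalizer_iff] at hx
    have := hx (y⁻¹ * Ts hF 0 b * y)
    rw [hconj] at this
    exact this
  -- the multiplicative stabiliser of `V`
  let S : Subgroup Fˣ :=
    { carrier := {c | ∀ b, b ∈ V ↔ (c : F) * b ∈ V}
      one_mem' := by intro b; simp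
      mul_mem' := by
        intro c c' hc hc' b
        rw [Units.val_mul, mul_assoc, ← hc, ← hc']
      inv_mem' := by
        intro c hc b
        have := hc ((c⁻¹ : Fˣ) * b)
        rw [← mul_assoc, ← Units.val_mul, mul_inv_cancel, Units.val_one, one_mul] at this
        exact this.symm }
  -- `Option S` is in bijection with `V`
  have hS : Nat.card S + 1 = 2 ^ n := by
    rw [← hVcard]
    rw [← Finite.card_option]
    refine Nat.card_congr (Equiv.ofBijective
      (fun o : Option S => (Option.rec (⟨0, hV0⟩ : V)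
        (fun c : S => (⟨(c.1 : F) * v₀, (c.2 v₀).mp hv₀V⟩ : V)) o : V)) ⟨?_, ?_⟩)
    · intro o o' h
      rcases o with _ | c <;> rcases o' with _ | c'
      · rfl
      · exfalso
        have h1 : (0 : F) = (c'.1 : F) * v₀ := congrArg Subtype.val h
        exact mul_ne_zero c'.1.ne_zero hv₀ h1.symm
      · exfalso
        have h1 : (c.1 : F) * v₀ = 0 := congrArg Subtype.val h
        exact mul_ne_zero c.1.ne_zero hv₀ h1
      · have h1 : (c.1 : F) * v₀ = (c'.1 : F) * v₀ := congrArg Subtype.val h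
        have h2 := mul_right_cancel₀ hv₀ h1
        exact congrArg some (Subtype.ext (Units.ext h2))
    · rintro ⟨w, hw⟩
      by_cases hw0 : w = 0
      · exact ⟨none, Subtype.ext hw0.symm⟩
      · have hc : w / v₀ ≠ 0 := div_ne_zero hw0 hv₀
        obtain ⟨μ, hμ⟩ := kap_surj hF hc
        have hwv : kap hF μ * v₀ = w := by rw [hμ]; field_simp
        have hmem : Units.mk0 (w / v₀) hc ∈ S := by
          intro b
          have := hkey μ v₀ hv₀V hv₀ (by rw [hwv]; exact hw) b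
          rw [hμ] at this
          exact this
        refine ⟨some ⟨Units.mk0 (w / v₀) hc, hmem⟩, Subtype.ext ?_⟩
        show w / v₀ * v₀ = w
        field_simp
  -- Lagrange
  have hdvd : Nat.card S ∣ Nat.card Fˣ := Subgroup.card_subgroup_dvd_card S
  have hU : Nat.card Fˣ = 2 ^ (2 * m + 1) - 1 := by
    rw [Nat.card_units, Nat.card_eq_fintype_card, hF]
  rw [hU] at hdvd
  have hS' : Nat.card S = 2 ^ n - 1 := by omega
  rw [hS'] at hdvd
  have hg := Nat.gcd_eq_left hdvd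
  rw [Nat.pow_sub_one_gcd_pow_sub_one] at hg
  have h4 : 2 ^ Nat.gcd n (2 * m + 1) = 2 ^ n := by
    have h5 : 1 ≤ 2 ^ Nat.gcd n (2 * m + 1) := Nat.one_le_two_pow
    have h6 : 1 ≤ 2 ^ n := Nat.one_le_two_pow
    omega
  have h7 := Nat.pow_right_injective (le_refl 2) h4
  rw [← h7]
  exact Nat.gcd_dvd_right _ _

theorem borel_conj0 (c d : F) (μ : Fˣ) (b : F) :
    (Ts hF c d * Hs hF μ) * Ts hF 0 b * (Ts hF c d * Hs hF μ)⁻¹ = Ts hF 0 (kap hF μ * b) := by
  rw [borel_conj]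
  simp only [mul_zero, map_zero, zero_mul, add_zero]
  rfl

include hF in
theorem backward (hm : 1 ≤ m) (n : ℕ) (hn : 1 ≤ n) (hdiv : n ∣ 2 * m + 1) :
    ∃ E : Subgroup (Cfsg.Sz F m), Cfsg.IsElementaryAbelian 2 E ∧ Nat.card E = 2 ^ n ∧
      ∀ x : Cfsg.Sz F m, E ⊓ E.map (MulAut.conj x).toMonoidHom ≠ ⊥ →
        x ∈ Subgroup.normalizer (E : Set (Cfsg.Sz F m)) := by
  have h2 := two_eq_zero hF
  have : Fact (Nat.Prime 2) := ⟨Nat.prime_two⟩
  have : CharP F 2 := CharTwo.of_one_ne_zero_of_two_eq_zero one_ne_zero h2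
  let _ : Algebra (ZMod 2) F := ZMod.algebra F 2
  have hn0 : n ≠ 0 := by omega
  have hrF : Module.finrank (ZMod 2) F = 2 * m + 1 := by
    have := FiniteField.pow_finrank_eq_card 2 F
    rw [hF] at this
    exact Nat.pow_right_injective (le_refl 2) this
  obtain ⟨f⟩ := FiniteField.nonempty_algHom_of_finrank_dvd (F := ZMod 2) (K := GaloisField 2 n)
    (L := F) (by rw [GaloisField.finrank 2 hn0, hrF]; exact hdiv)
  have hfinj : Function.Injective f := f.toRingHom.injective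
  let E : Subgroup (Cfsg.Sz F m) :=
    { carrier := {g | ∃ u : GaloisField 2 n, g = Ts hF 0 (f u)}
      one_mem' := ⟨0, by rw [map_zero, Ts_one]⟩
      mul_mem' := by
        rintro _ _ ⟨u, rfl⟩ ⟨u', rfl⟩
        exact ⟨u + u', by rw [Ts0_mul, map_add]⟩
      inv_mem' := by
        rintro _ ⟨u, rfl⟩
        exact ⟨u, Ts0_inv hF _⟩ }
  have hEmem : ∀ g, g ∈ E ↔ ∃ u : GaloisField 2 n, g = Ts hF 0 (f u) := fun g => Iff.rfl
  have hcardE : Nat.card E = 2 ^ n := by
    rw [← GaloisField.card 2 n hn0]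
    refine (Nat.card_congr (Equiv.ofBijective
      (fun u : GaloisField 2 n => (⟨Ts hF 0 (f u), u, rfl⟩ : E)) ⟨?_, ?_⟩)).symm
    · intro u u' h
      have h1 : Ts hF 0 (f u) = Ts hF 0 (f u') := congrArg Subtype.val h
      exact hfinj (Ts_inj hF h1).2
    · rintro ⟨g, u, rfl⟩
      exact ⟨u, rfl⟩
  refine ⟨E, ⟨⟨⟨?_⟩⟩, ?_⟩, hcardE, ?_⟩
  · rintro ⟨_, u, rfl⟩ ⟨_, u', rfl⟩
    apply Subtype.ext
    show Ts hF 0 (f u) * Ts hF 0 (f u') = Ts hF 0 (f u') * Ts hF 0 (f u)
    rw [Ts0_mul, Ts0_mul, add_comm]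
  · rintro _ ⟨u, rfl⟩
    rw [pow_two, Ts0_mul, add_self' hF, Ts_one]
  · intro x hx
    -- a non-trivial element of the intersection
    obtain ⟨g, hgE, hgx, hg1⟩ : ∃ g, g ∈ E ∧ g ∈ E.map (MulAut.conj x).toMonoidHom ∧ g ≠ 1 := by
      by_contra hcon
      apply hx
      rw [Subgroup.eq_bot_iff_forall]
      intro g hg
      by_contra hg1
      exact hcon ⟨g, (Subgroup.mem_inf.mp hg).1, (Subgroup.mem_inf.mp hg).2, hg1⟩
    obtain ⟨u, rfl⟩ := hgE
    rw [Subgroup.mem_map] at hgx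
    obtain ⟨g', ⟨u', rfl⟩, hg'⟩ := hgx
    rw [MulEquiv.coe_toMonoidHom, MulAut.conj_apply] at hg'
    have hu0 : f u ≠ 0 := by
      intro h
      apply hg1
      rw [h, Ts_one]
    have hu'0 : f u' ≠ 0 := by
      intro h
      apply hg1
      rw [← hg', h, Ts_one]; group
    -- `x` fixes the point at infinity
    have hfix : x • pt hF none = pt hF none := by
      apply Ts_fix_only hF (a := 0) (b := f u) (fun h => hu0 h.2)
      rw [← hg', mul_smul, mul_smul, inv_smul_smul, Ts_inf]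
    obtain ⟨c, d, μ, rfl⟩ := fix_inf hF hm hfix
    rw [borel_conj0] at hg'
    have hκ : kap hF μ = f (u / u') := by
      have h1 := (Ts_inj hF hg').2
      rw [map_div₀]
      field_simp
      exact h1
    have hle : E.map (MulAut.conj (Ts hF c d * Hs hF μ)).toMonoidHom ≤ E := by
      rintro _ ⟨_, ⟨w, rfl⟩, rfl⟩
      rw [MulEquiv.coe_toMonoidHom, MulAut.conj_apply, borel_conj0, hκ, ← map_mul]
      exact ⟨_, rfl⟩
    have heq : E.map (MulAut.conj (Ts hF c d * Hs hF μ)).toMonoidHom = E := by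
      have : Finite E := Nat.finite_of_card_ne_zero (by rw [hcardE]; positivity)
      apply Subgroup.eq_of_le_of_card_ge hle
      rw [Subgroup.card_map_of_injective (MulAut.conj (Ts hF c d * Hs hF μ)).injective]
    rw [Subgroup.mem_normalizer_iff]
    intro h
    constructor
    · intro hh
      apply hle
      exact Subgroup.mem_map.mpr ⟨h, hh, by rw [MulEquiv.coe_toMonoidHom, MulAut.conj_apply]⟩
    · intro hh
      rw [← heq, Subgroup.mem_map] at hh
      obtain ⟨h', hh', he⟩ := hh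
      rw [MulEquiv.coe_toMonoidHom, MulAut.conj_apply] at he
      have : h' = h := by
        have := mul_right_cancel he
        exact mul_left_cancel this
      rw [← this]; exact hh'

end

theorem main {F : Type*} [Field F] [Fintype F] {m : ℕ} (hm : 1 ≤ m) (hF : Fintype.card F = 2 ^ (2 * m + 1)) (n : ℕ) (hn : 2 ≤ n) :
    (∃ E : Subgroup ↥(Cfsg.Sz F m), Cfsg.IsElementaryAbelian 2 E ∧ Nat.card ↥E = 2 ^ n ∧
      ∀ x : ↥(Cfsg.Sz F m), E ⊓ E.map (MulAut.conj x).toMonoidHom ≠ ⊥ → x ∈ Subgroup.normalizer (E : Set ↥(Cfsg.Sz F m))) ↔ n ∣ 2 * m + 1 := by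
  constructor
  · rintro ⟨E, ⟨_, hexp⟩, hcard, hTI⟩
    exact forward hF hm n (by omega) E hexp hcard hTI
  · intro h
    exact backward hF hm n (by omega) h

/-- Elementary abelian TI-subgroups of the Suzuki group: let q = 2^(2m+1) with m ≥ 1, the group realised as the stabiliser in SL₄ of the Suzuki–Tits ovoid, and n ≥ 2. There is an elementary abelian 2-subgroup E of order 2^n that is a TI-subgroup (every conjugate of E meeting E nontrivially is E itself) if and only if n divides 2m + 1. -/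
theorem result {F : Type*} [Field F] [Fintype F] {m : ℕ} (hm : 1 ≤ m) (hF : Fintype.card F = 2 ^ (2 * m + 1)) (n : ℕ) (hn : 2 ≤ n) :
    (∃ E : Subgroup ↥(Cfsg.Sz F m), Cfsg.IsElementaryAbelian 2 E ∧ Nat.card ↥E = 2 ^ n ∧
      ∀ x : ↥(Cfsg.Sz F m), E ⊓ E.map (MulAut.conj x).toMonoidHom ≠ ⊥ → x ∈ Subgroup.normalizer (E : Set ↥(Cfsg.Sz F m))) ↔ n ∣ 2 * m + 1 := by
  exact main hm hF n hn

end Cfsg.Agent.S2240
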