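import Cfsg.Statements.S2251
import Cfsg.Agent.Lib.Helper13.SzSubG

set_option autoImplicit false
open Cfsg

namespace Cfsg.Agent.S2251

open Cfsg.Agent.Lib.Helper15.SuzukiAlg Cfsg.Agent.Lib.Helper15.SuzukiOvoid
  Cfsg.Agent.Lib.Helper15.SuzukiForm Cfsg.Agent.Lib.Helper15.SuzukiMat
  Cfsg.Agent.Lib.Helper15.SuzukiGroup Cfsg.Agent.Lib.Helper15.SuzukiOrder
  Cfsg.Agent.Lib.Helper15.SuzukiSylow Cfsg.Agent.Lib.Helper15.SuzukiZassenhaus
  Cfsg.Agent.Lib.Helper15.SuzukiBorel Cfsg.Agent.Lib.Helper15.SuzukiElements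
  Cfsg.Agent.Lib.Helper15.SuzukiFpf Cfsg.Agent.Lib.Helper15.SuzukiField
  Cfsg.Agent.Lib.Helper15.SuzukiTori Cfsg.Agent.S2410 Cfsg.Agent.S2247 Cfsg.Agent.S2238
  Cfsg.Agent.Lib.Helper18.SzFixity Cfsg.Agent.Lib.Helper13.SzSub

/-- the conclusion of the theorem for a subgroup `M` -/
def Concl {F : Type*} [Field F] [Fintype F] (m : ℕ) (M : Subgroup ↥(Cfsg.Sz F m)) : Prop :=
    (∃ P : Sylow 2 ↥(Cfsg.Sz F m), M ≤ Subgroup.normalizer ((P : Subgroup ↥(Cfsg.Sz F m)) : Set ↥(Cfsg.Sz F m))) ∨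
    (∃ U : Subgroup ↥(Cfsg.Sz F m), IsCyclic ↥U ∧ Nat.card ↥U ∈ ({2 ^ (2 * m + 1) - 1, 2 ^ (2 * m + 1) + 2 ^ (m + 1) + 1, 2 ^ (2 * m + 1) - 2 ^ (m + 1) + 1} : Set ℕ) ∧
      M ≤ Subgroup.normalizer (U : Set ↥(Cfsg.Sz F m))) ∨
    (∃ (K : Type) (_ : Field K) (_ : Fintype K) (k : ℕ), 1 ≤ k ∧ k < m ∧ Fintype.card K = 2 ^ (2 * k + 1) ∧ 2 * k + 1 ∣ 2 * m + 1 ∧
      ∃ S : Subgroup ↥(Cfsg.Sz F m), Nonempty (↥S ≃* ↥(Cfsg.Sz K k)) ∧ M ≤ S)

theorem Concl.map {F : Type*} [Field F] [Fintype F] {m : ℕ} {M : Subgroup ↥(Cfsg.Sz F m)}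
    (h : Concl m M) (c : ↥(Cfsg.Sz F m)) : Concl m (M.map (MulAut.conj c).toMonoidHom) := by
  rcases h with ⟨P, hP⟩ | ⟨U, hU, hcard, hM⟩ | ⟨K, iK, iF, k, hk, hkm, hcK, hdiv, S, hS, hMS⟩
  · left
    refine ⟨c • P, ?_⟩
    have : ((c • P : Sylow 2 ↥(Cfsg.Sz F m)) : Subgroup ↥(Cfsg.Sz F m)) =
        (P : Subgroup ↥(Cfsg.Sz F m)).map (MulAut.conj c).toMonoidHom := by
      rw [Sylow.coe_subgroup_smul]; rfl
    rw [this, ← Subgroup.map_equiv_normalizer_eq]
    exact Subgroup.map_mono hP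
  · right; left
    refine ⟨U.map (MulAut.conj c).toMonoidHom, ?_, ?_, ?_⟩
    · exact (MulEquiv.isCyclic (U.equivMapOfInjective _ (MulAut.conj c).injective)).mp hU
    · rw [Subgroup.card_map_of_injective (MulAut.conj c).injective]; exact hcard
    · rw [← Subgroup.map_equiv_normalizer_eq]; exact Subgroup.map_mono hM
  · right; right
    refine ⟨K, iK, iF, k, hk, hkm, hcK, hdiv, S.map (MulAut.conj c).toMonoidHom, ?_,
      Subgroup.map_mono hMS⟩
    obtain ⟨e⟩ := hS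
    exact ⟨(S.equivMapOfInjective _ (MulAut.conj c).injective).symm.trans e⟩

theorem conj_inv_comp {G : Type*} [Group G] (c : G) :
    (MulAut.conj c⁻¹).toMonoidHom.comp (MulAut.conj c).toMonoidHom = MonoidHom.id G := by
  apply MonoidHom.ext
  intro x
  simp only [MonoidHom.comp_apply, MulEquiv.coe_toMonoidHom, MulAut.conj_apply,
    MonoidHom.id_apply]
  group

theorem main {F : Type*} [Field F] [Fintype F] {m : ℕ} (hm : 1 ≤ m)
    (hF : Fintype.card F = 2 ^ (2 * m + 1)) (M : Subgroup ↥(Cfsg.Sz F m)) (hM : M ≠ ⊤) :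
    Concl m M := by
  have hback : ∀ (L : Subgroup ↥(Cfsg.Sz F m)) (c : ↥(Cfsg.Sz F m)),
      Concl m (L.map (MulAut.conj c).toMonoidHom) → Concl m L := by
    intro L c h
    have h3 := h.map c⁻¹
    have h4 := conj_inv_comp c
    rwa [Subgroup.map_map, h4, Subgroup.map_id] at h3
  have hbacktop : ∀ (L : Subgroup ↥(Cfsg.Sz F m)) (c : ↥(Cfsg.Sz F m)),
      L.map (MulAut.conj c).toMonoidHom = ⊤ → L = ⊤ := by
    intro L c h
    have h3 := congrArg (Subgroup.map (MulAut.conj c⁻¹).toMonoidHom) h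
    have h4 := conj_inv_comp c
    rw [Subgroup.map_map, h4, Subgroup.map_id] at h3
    rw [h3, ← MonoidHom.range_eq_map, MonoidHom.range_eq_top]
    exact (MulAut.conj c⁻¹).surjective
  by_cases h2 : 2 ∣ Nat.card M
  · have : Fact (Nat.Prime 2) := ⟨Nat.prime_two⟩
    obtain ⟨t, ht⟩ := exists_prime_orderOf_dvd_card' 2 h2
    obtain ⟨ht2, ht1⟩ := orderOf_eq_prime_iff.mp ht
    have ht2' : t.1 * t.1 = 1 := by
      have := congrArg Subtype.val ht2
      rwa [pow_two] at this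
    have ht1' : t.1 ≠ 1 := fun h => ht1 (Subtype.ext h)
    obtain ⟨k₀, b, hb0, hk₀⟩ := involution_conj hF hm ht1' ht2'
    obtain ⟨μ, hμ⟩ := Cfsg.Agent.S2240.kap_surj hF (inv_ne_zero hb0)
    apply hback M (Hs hF μ * k₀)
    have h1M' : Ts hF 0 1 ∈ M.map (MulAut.conj (Hs hF μ * k₀)).toMonoidHom := by
      have h3 : Ts hF 0 1 = (MulAut.conj (Hs hF μ * k₀)).toMonoidHom t.1 := by
        rw [MulEquiv.coe_toMonoidHom, MulAut.conj_apply]
        have : Hs hF μ * k₀ * t.1 * (Hs hF μ * k₀)⁻¹ =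
            Hs hF μ * (k₀ * t.1 * k₀⁻¹) * (Hs hF μ)⁻¹ := by group
        rw [this, hk₀, Cfsg.Agent.S2240.Hs_conj, hμ, inv_mul_cancel₀ hb0]
      rw [h3]
      exact Subgroup.mem_map_of_mem _ t.2
    have hM'top : M.map (MulAut.conj (Hs hF μ * k₀)).toMonoidHom ≠ ⊤ :=
      fun h => hM (hbacktop M _ h)
    generalize M.map (MulAut.conj (Hs hF μ * k₀)).toMonoidHom = M' at h1M' hM'top
    by_cases hfix : ∀ g ∈ M', g • pt hF none = pt hF none
    · left
      refine ⟨QSyl hF hm, ?_⟩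
      rw [coe_QSyl, normalizer_Qz hm hF]
      intro g hg
      exact MulAction.mem_stabilizer_iff.mpr (hfix g hg)
    · push Not at hfix
      by_cases huniq : ∀ b, Ts hF 0 b ∈ M' → b = 0 ∨ b = 1
      · right; left
        exact cyclic_case hF hm M' one_ne_zero h1M' huniq hfix
      · push Not at huniq
        obtain ⟨b₂, hb₂M, hb₂0, hb₂1⟩ := huniq
        obtain ⟨c', e, he2, hediv, hcard, hStd⟩ := theoremA hF hm M' h1M' hb₂M hb₂0 hb₂1 hfix
        apply hback M' c'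
        have hStdtop : Std hF e ≠ ⊤ := fun h => hM'top (hbacktop M' c' (hStd.trans h))
        rw [hStd]
        obtain ⟨k, rfl⟩ : ∃ k, e = 2 * k + 1 := by
          rcases Nat.even_or_odd' e with ⟨j, rfl | rfl⟩
          · exfalso
            obtain ⟨d, hd⟩ := hediv
            have : 2 * j * d = 2 * (j * d) := by ring
            omega
          · exact ⟨j, rfl⟩
        have hk1 : 1 ≤ k := by omega
        have hkm : k < m := by
          have h3 : 2 * k + 1 ≤ 2 * m + 1 := Nat.le_of_dvd (by omega) hediv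
          by_contra hlt
          have : k = m := by omega
          subst this
          exact hStdtop (Std_top hF hm)
        right; right
        have hn0 : 2 * k + 1 ≠ 0 := by omega
        let iFin : Fintype (GaloisField 2 (2 * k + 1)) := Fintype.ofFinite _
        have hcK : Fintype.card (GaloisField 2 (2 * k + 1)) = 2 ^ (2 * k + 1) := by
          rw [← Nat.card_eq_fintype_card, GaloisField.card 2 _ hn0]
        exact ⟨GaloisField 2 (2 * k + 1), inferInstance, iFin, k, hk1, hkm, hcK, hediv,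
          Std hF (2 * k + 1), Std_iso hF hcK hk1 hediv, le_refl _⟩
  · by_cases hM1 : M = ⊥
    · left
      exact ⟨default, by rw [hM1]; exact bot_le⟩
    · right; left
      obtain ⟨g, hgM, hg1⟩ : ∃ g ∈ M, g ≠ 1 := by
        by_contra hcon
        push Not at hcon
        exact hM1 ((Subgroup.eq_bot_iff_forall M).mpr hcon)
      have hodd : ¬ 2 ∣ orderOf g := by
        intro h
        apply h2
        have h3 : orderOf (⟨g, hgM⟩ : M) = orderOf g := Subgroup.orderOf_mk g hgM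
        rw [← h3] at h
        exact dvd_trans h (orderOf_dvd_natCard _)
      obtain ⟨hcyc, hcard⟩ := cent_cyclic_card hF hm hg1 hodd
      exact ⟨Subgroup.centralizer ({g} : Set ↥(Cfsg.Sz F m)), hcyc, hcard,
        le_trans (odd_le_cent hF hm M h2 hgM hg1) Subgroup.le_normalizer⟩

/-- The subgroups of the Suzuki group: with q = 2^(2m+1), m ≥ 1, r = 2^m and the group realised as the stabiliser in SL₄ of the Suzuki–Tits ovoid, every proper subgroup is contained in the normalizer of a Sylow 2-subgroup, or in the normalizer of a cyclic subgroup of order q − 1, q + 2r + 1 or q − 2r + 1, or in a subgroup isomorphic to a smaller Suzuki group Sz(s) with s = 2^(2k+1) ≥ 8 and 2k+1 a proper divisor of 2m+1. -/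
theorem result {F : Type*} [Field F] [Fintype F] {m : ℕ} (hm : 1 ≤ m) (hF : Fintype.card F = 2 ^ (2 * m + 1)) (M : Subgroup ↥(Cfsg.Sz F m)) (hM : M ≠ ⊤) :
    (∃ P : Sylow 2 ↥(Cfsg.Sz F m), M ≤ Subgroup.normalizer ((P : Subgroup ↥(Cfsg.Sz F m)) : Set ↥(Cfsg.Sz F m))) ∨
    (∃ U : Subgroup ↥(Cfsg.Sz F m), IsCyclic ↥U ∧ Nat.card ↥U ∈ ({2 ^ (2 * m + 1) - 1, 2 ^ (2 * m + 1) + 2 ^ (m + 1) + 1, 2 ^ (2 * m + 1) - 2 ^ (m + 1) + 1} : Set ℕ) ∧
      M ≤ Subgroup.normalizer (U : Set ↥(Cfsg.Sz F m))) ∨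
    (∃ (K : Type) (_ : Field K) (_ : Fintype K) (k : ℕ), 1 ≤ k ∧ k < m ∧ Fintype.card K = 2 ^ (2 * k + 1) ∧ 2 * k + 1 ∣ 2 * m + 1 ∧
      ∃ S : Subgroup ↥(Cfsg.Sz F m), Nonempty (↥S ≃* ↥(Cfsg.Sz K k)) ∧ M ≤ S) := by
  exact main hm hF M hM

end Cfsg.Agent.S2251
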