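import Cfsg.Statements.S4688
import Mathlib
import Cfsg.Agent.Lib.Helper24.NilFrobenius
import Cfsg.Agent.Lib.Helper24.CentTransport
import Cfsg.Agent.Lib.Helper24.BlockFusion
import Cfsg.Agent.Lib.Helper24.PPowerIndex
import Cfsg.Agent.S4661
import Cfsg.Agent.S4658

set_option autoImplicit false
open Cfsg

namespace Cfsg.Agent.S4688

open Cfsg.Agent.CharLib Cfsg.Agent.Lib.Helper24 Cfsg.Agent.Lib.Helper6
open scoped ComplexConjugate
universe u

theorem stabilizesBlock_of_pullBlock_centEquivQ {G : Type u} [Group G] [Finite G]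
    (Q R : Subgroup G) (D' : Subgroup (Subgroup.centralizer (Q : Set G)))
    (hR : R = Q ⊔ D'.map (Subgroup.centralizer (Q : Set G)).subtype)
    (g : Set (IrrCharacter (Subgroup.centralizer (R : Set G))))
    (x : Subgroup.centralizer (Q : Set G))
    (hx : StabilizesBlock (Subgroup.centralizer (D' : Set (Subgroup.centralizer (Q : Set G))))
      (BlockIso.pullBlock (centEquivQ Q R D' hR) g) x) :
    StabilizesBlock (Subgroup.centralizer (R : Set G)) g (x : G) := by
  constructor
  · rw [Subgroup.mem_normalizer_iff]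
    intro k
    have key : ∀ (y : Subgroup.centralizer (Q : Set G)) (k : G),
        y ∈ Subgroup.normalizer ((Subgroup.centralizer
          (D' : Set (Subgroup.centralizer (Q : Set G))) :
            Subgroup (Subgroup.centralizer (Q : Set G))) : Set _) →
        k ∈ Subgroup.centralizer (R : Set G) →
        (y : G) * k * (y : G)⁻¹ ∈ Subgroup.centralizer (R : Set G) := by
      intro y k hy hk
      obtain ⟨hkQ, hkC⟩ := (mem_centralizer_of_eq_sup Q R D' hR k).mp hk
      have h1 := (Subgroup.mem_normalizer_iff.mp hy ⟨k, hkQ⟩).mp hkC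
      exact (mem_centralizer_of_eq_sup Q R D' hR _).mpr ⟨(y * ⟨k, hkQ⟩ * y⁻¹).2, h1⟩
    constructor
    · exact key x k hx.1
    · intro hk
      have := key x⁻¹ _ (Subgroup.inv_mem _ hx.1) hk
      have e : ((x⁻¹ : Subgroup.centralizer (Q : Set G)) : G) * ((x : G) * k * (x : G)⁻¹) *
          (((x⁻¹ : Subgroup.centralizer (Q : Set G)) : G))⁻¹ = k := by
        simp [mul_assoc]
      rwa [e] at this
  · intro χ hχ
    obtain ⟨ψ', hψ', hconj⟩ := hx.2 (irrCompIso (centEquivQ Q R D' hR) χ)
      (BlockIso.irrCompIso_mem_pullBlock _ hχ)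
    refine ⟨irrCompIso (centEquivQ Q R D' hR).symm ψ', hψ', ?_⟩
    intro k k' hk
    have h1 := hconj ((centEquivQ Q R D' hR).symm k) ((centEquivQ Q R D' hR).symm k') (by
      apply Subtype.ext
      change (k' : G) = (x : G) * (k : G) * ((x : G))⁻¹
      exact hk)
    rw [irrCompIso_apply] at h1 ⊢
    rw [MulEquiv.apply_symm_apply] at h1
    exact h1

theorem result' {G : Type u} [Group G] [Fintype G] (p : ℕ) [Fact p.Prime] (M : Ideal Cfsg.AlgInt) (hM : Cfsg.IsPModular p M) (B : Set (Cfsg.IrrCharacter G)) (P : Subgroup G) (e : Set (Cfsg.IrrCharacter (Subgroup.centralizer (P : Set G)))) (hmax : Cfsg.IsMaximalBrauerPair p M B P e) (hnil : Cfsg.IsNilpotentBlock p M B) (Q : Subgroup G) (f : Set (Cfsg.IrrCharacter (Subgroup.centralizer (Q : Set G)))) (hQf : Cfsg.IsBrauerPairOf p M B Q f) : Cfsg.IsNilpotentBlock p M f ∧ (Cfsg.SubpairLE p M Q f P e → Cfsg.IsDefectGroup p M f ((P ⊓ Subgroup.centralizer (Q : Set G)).subgroupOf (Subgroup.centralizer (Q : Set G)))) := by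
  classical
  haveI hprime : M.IsPrime := isPrime_of_isPModular hM
  have hPe : IsBrauerPair p M P e := hmax.1.1
  have hB : IsPBlock M B := hmax.1.2.1
  have hP : IsPGroup p P := hPe.1
  have hQ : IsPGroup p Q := hQf.1.1
  have hf : IsPBlock M f := hQf.1.2
  constructor
  · refine ⟨hf, ?_⟩
    intro D' e' hD'e' x hxN hxst hxreg
    set R : Subgroup G := Q ⊔ D'.map (Subgroup.centralizer (Q : Set G)).subtype with hRdef
    set g := BlockIso.pullBlock (centEquivQ Q R D' rfl).symm e' with hgdef
    have hg : BlockIso.pullBlock (centEquivQ Q R D' rfl) g = e' := by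
      rw [hgdef]
      exact BlockIso.pullBlock_symm_pullBlock (centEquivQ Q R D' rfl).symm e'
    have hnormal : IsNormalSubpair p M Q f R g := by
      rw [isNormalSubpair_iff_isBrauerPairOf (M := M) Q R D' hQ rfl f g, hg]
      exact hD'e'
    have hRgB : IsBrauerPairOf p M B R g :=
      (Cfsg.Agent.S4658.result p M hM R Q g f hnormal.2.1 ⟨hQ, hf⟩
        (Relation.ReflTransGen.single hnormal) B hB).mpr hQf
    -- x normalizes R
    have hDx : D'.map (MulAut.conj x).toMonoidHom = D' := by
      ext k
      rw [mem_map_conj_iff]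
      have h1 := Subgroup.mem_normalizer_iff.mp (Subgroup.inv_mem _ hxN) k
      rw [inv_inv] at h1
      exact h1.symm
    have hRx : R.map (MulAut.conj (x : G)).toMonoidHom = R := by
      rw [hRdef, map_conj_sup_of_mem_centralizer, hDx]
    have hxNR : (x : G) ∈ Subgroup.normalizer (R : Set G) := by
      rw [Subgroup.mem_normalizer_iff]
      intro h
      constructor
      · intro hh
        rw [← hRx]
        exact ⟨h, hh, rfl⟩
      · intro hh
        rw [← hRx, mem_map_conj_iff] at hh
        have e2 : (x : G)⁻¹ * ((x : G) * h * (x : G)⁻¹) * (x : G) = h := by group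
        rwa [e2] at hh
    have hxst' : StabilizesBlock (Subgroup.centralizer (R : Set G)) g (x : G) := by
      apply stabilizesBlock_of_pullBlock_centEquivQ Q R D' rfl g x
      rw [hg]
      exact hxst
    have hreg' : IsPRegular p (x : G) := by
      unfold IsPRegular at hxreg ⊢
      rwa [Subgroup.orderOf_coe]
    have hmem := hnil.2 R g hRgB (x : G) hxNR hxst' hreg'
    obtain ⟨hxQ, hxC⟩ := (mem_centralizer_of_eq_sup Q R D' rfl (x : G)).mp hmem
    exact hxC
  · intro hle
    have hQP : Q ≤ P := Cfsg.Agent.S4681.le_of_subpairLE p M _ _ P e hle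
    obtain ⟨⟨D, hDdef, hCPD⟩, x, hlex, hdefx⟩ :=
      Cfsg.Agent.S4661.result p M hM B P Q e f hmax hQP hf hle
    obtain ⟨u, hu, c, hc, hxuc⟩ := nil_frobenius' hM B hnil P e hmax Q f hle x hlex
    have hDx := isDefectGroup_conjBlock (M := M) (p := p) Q x hDdef
    have hfx : IsPBlock M (conjBlock Q x f) := isPBlock_conjBlock Q x hf
    have h2 : Nat.card (D.comap (cjC Q x).symm.toMonoidHom) ≤ _ :=
      card_le_of_isDefectGroup hM hfx hDx hdefx
    have hcardsub : ∀ Q₁ : Subgroup G, Nat.card ((P ⊓ Subgroup.centralizer (Q₁ : Set G)).subgroupOf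
        (Subgroup.centralizer (Q₁ : Set G))) =
        Nat.card (P ⊓ Subgroup.centralizer (Q₁ : Set G) : Subgroup G) := by
      intro Q₁
      rw [card_subgroupOf_eq_card_inf, inf_assoc, inf_idem]
    rw [card_comap_mulEquiv, hcardsub] at h2
    have hset : P ⊓ Subgroup.centralizer
        ((Q.map (MulAut.conj x).toMonoidHom : Subgroup G) : Set G) =
        (P ⊓ Subgroup.centralizer (Q : Set G)).map (MulAut.conj u).toMonoidHom := by
      ext k
      rw [Subgroup.mem_inf, mem_centralizer_map_conj_iff, mem_map_conj_iff, Subgroup.mem_inf]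
      have hkP : k ∈ P ↔ u⁻¹ * k * u ∈ P := by
        constructor
        · intro hk; exact P.mul_mem (P.mul_mem (P.inv_mem hu) hk) hu
        · intro hk
          have e3 : k = u * (u⁻¹ * k * u) * u⁻¹ := by group
          rw [e3]
          exact P.mul_mem (P.mul_mem hu hk) (P.inv_mem hu)
      have hkC : x⁻¹ * k * x ∈ Subgroup.centralizer (Q : Set G) ↔
          u⁻¹ * k * u ∈ Subgroup.centralizer (Q : Set G) := by
        have e4 : x⁻¹ * k * x = c⁻¹ * (u⁻¹ * k * u) * c := by rw [hxuc]; group
        rw [e4]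
        constructor
        · intro hk
          have e5 : u⁻¹ * k * u = c * (c⁻¹ * (u⁻¹ * k * u) * c) * c⁻¹ := by group
          rw [e5]
          exact Subgroup.mul_mem _ (Subgroup.mul_mem _ hc hk) (Subgroup.inv_mem _ hc)
        · intro hk
          exact Subgroup.mul_mem _ (Subgroup.mul_mem _ (Subgroup.inv_mem _ hc) hk) hc
      rw [hkP, hkC]
    have hcardeq : Nat.card (P ⊓ Subgroup.centralizer
        ((Q.map (MulAut.conj x).toMonoidHom : Subgroup G) : Set G) : Subgroup G) =
        Nat.card (P ⊓ Subgroup.centralizer (Q : Set G) : Subgroup G) := by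
      rw [hset]
      have hinj : Function.Injective (MulAut.conj u).toMonoidHom := (MulAut.conj u).injective
      exact Subgroup.card_map_of_injective hinj
    have h3 : Nat.card D ≤ Nat.card ((P ⊓ Subgroup.centralizer (Q : Set G)).subgroupOf
        (Subgroup.centralizer (Q : Set G))) := by
      rw [hcardsub, ← hcardeq]
      exact h2
    have heq := Subgroup.eq_of_le_of_card_ge hCPD h3
    rw [heq]
    exact hDdef

/-- Fix a prime p and a maximal ideal M of the algebraic integers containing p, and a nilpotent p-block B of the finite group G with maximal Brauer pair (P, e). Then for every Brauer pair (Q, f) of B, f is a nilpotent block of C_G(Q); and if moreover (Q, f) ≤ (P, e), then C_P(Q) is a defect group of f as a block of C_G(Q). -/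
theorem result {G : Type*} [Group G] [Fintype G] (p : ℕ) [Fact p.Prime] (M : Ideal Cfsg.AlgInt) (hM : Cfsg.IsPModular p M) (B : Set (Cfsg.IrrCharacter G)) (P : Subgroup G) (e : Set (Cfsg.IrrCharacter (Subgroup.centralizer (P : Set G)))) (hmax : Cfsg.IsMaximalBrauerPair p M B P e) (hnil : Cfsg.IsNilpotentBlock p M B) (Q : Subgroup G) (f : Set (Cfsg.IrrCharacter (Subgroup.centralizer (Q : Set G)))) (hQf : Cfsg.IsBrauerPairOf p M B Q f) : Cfsg.IsNilpotentBlock p M f ∧ (Cfsg.SubpairLE p M Q f P e → Cfsg.IsDefectGroup p M f ((P ⊓ Subgroup.centralizer (Q : Set G)).subgroupOf (Subgroup.centralizer (Q : Set G)))) := by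
  exact result' p M hM B P e hmax hnil Q f hQf

end Cfsg.Agent.S4688
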