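import Cfsg.Statements.S4650
import Mathlib
import Cfsg.Agent.Lib.Helper24.NilFrobenius
import Cfsg.Agent.Lib.Helper24.CentTransport
import Cfsg.Agent.Lib.Lead.BrauerPairBridge
import Cfsg.Agent.Lib.Helper6.ExtFirstMain
import Cfsg.Agent.S4658
import Cfsg.Agent.S4659
import Cfsg.Agent.S4687
import Cfsg.Agent.S4688

set_option autoImplicit false
open Cfsg

namespace Cfsg.Agent.S4650

open Cfsg.Agent.CharLib Cfsg.Agent.Lib.Helper24 Cfsg.Agent.Lib.Helper6
open scoped ComplexConjugate
universe u

section conv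
variable {G : Type u} [Group G] {M : Ideal AlgInt}

/-- `inducedCentralCharIn` computed in `G` is `inducedCentralChar` computed in the group `H`. -/
theorem inducedCentralCharIn_eq (H K : Subgroup G) (K' : Subgroup H) (κ : K' ≃* K)
    (hκ : ∀ k' : K', ((κ k' : K) : G) = ((k' : H) : G)) (ξ : K → ℂ) (h : H) :
    inducedCentralCharIn H K ξ (h : G) = inducedCentralChar K' (ξ ∘ κ) h := by
  unfold inducedCentralCharIn inducedCentralChar
  symm
  apply finsum_mem_eq_of_bijOn (fun k' : K' => κ k')
  · refine ⟨?_, ?_, ?_⟩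
    · intro k' hk'
      obtain ⟨c, hc⟩ := isConj_iff.mp hk'
      refine ⟨c⁻¹, ?_⟩
      rw [hκ]
      have := congrArg (Subtype.val : H → G) hc
      push_cast at this
      rw [← this]
      push_cast
      group
    · intro a _ b _ hab
      exact κ.injective hab
    · intro k hk
      obtain ⟨x, hx⟩ := hk
      refine ⟨κ.symm k, ?_, κ.apply_symm_apply k⟩
      apply isConj_iff.mpr
      refine ⟨x⁻¹, ?_⟩
      apply Subtype.ext
      push_cast
      have h1 := hκ (κ.symm k)
      rw [κ.apply_symm_apply] at h1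
      rw [← h1, ← hx]
      group
  · intro k' _
    simp only [Function.comp_apply, map_one]

theorem isInducedBlockIn_iff (H K : Subgroup G) (K' : Subgroup H) (κ : K' ≃* K)
    (hκ : ∀ k' : K', ((κ k' : K) : G) = ((k' : H) : G)) (c : Set (IrrCharacter K))
    (f : Set (IrrCharacter H)) :
    IsInducedBlockIn M H K c f ↔ IsInducedBlock M K' (BlockIso.pullBlock κ c) f := by
  constructor
  · rintro ⟨hc, hf, h⟩
    refine ⟨BlockIso.isPBlock_pullBlock κ hc, hf, ?_⟩
    intro ξ' hξ' χ hχ x
    have h1 := h (irrCompIso κ.symm ξ') ((BlockIso.mem_pullBlock_iff κ c ξ').mp hξ') χ hχ x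
    rw [inducedCentralCharIn_eq H K K' κ hκ] at h1
    have e : ((irrCompIso κ.symm ξ' : IrrCharacter K) : K → ℂ) ∘ κ = (ξ' : K' → ℂ) := by
      funext k'
      simp [irrCompIso_apply]
    rwa [e] at h1
  · rintro ⟨hc', hf, h⟩
    have hc : IsPBlock M c := by
      have := BlockIso.isPBlock_pullBlock κ.symm hc'
      rwa [BlockIso.pullBlock_symm_pullBlock] at this
    refine ⟨hc, hf, ?_⟩
    intro ξ hξ χ hχ x
    have h1 := h (irrCompIso κ ξ) (BlockIso.irrCompIso_mem_pullBlock κ hξ) χ hχ x
    rw [inducedCentralCharIn_eq H K K' κ hκ]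
    exact h1

end conv

section stab
variable {G : Type u} [Group G]

/-- An element normalizing `R` normalizes `C(R)`. -/
theorem mem_normalizer_centralizer' {H : Type u} [Group H] (R : Subgroup H)
    (w : H) (hw : w ∈ Subgroup.normalizer (R : Set H)) :
    w ∈ Subgroup.normalizer ((Subgroup.centralizer (R : Set H) : Subgroup H) : Set H) := by
  have key : ∀ (g : H), g ∈ Subgroup.normalizer (R : Set H) →
      ∀ k ∈ Subgroup.centralizer (R : Set H), g * k * g⁻¹ ∈ Subgroup.centralizer (R : Set H) := by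
    intro g hg k hk
    rw [Subgroup.mem_centralizer_iff]
    intro q hq
    have h1 : g⁻¹ * q * g ∈ R := by
      have := (Subgroup.mem_normalizer_iff.mp (Subgroup.inv_mem _ hg) q).mp hq
      simpa using this
    have h2 := Subgroup.mem_centralizer_iff.mp hk _ h1
    calc q * (g * k * g⁻¹) = g * ((g⁻¹ * q * g) * k) * g⁻¹ := by group
      _ = g * (k * (g⁻¹ * q * g)) * g⁻¹ := by rw [h2]
      _ = g * k * g⁻¹ * q := by group
  rw [Subgroup.mem_normalizer_iff]
  intro k
  constructor
  · intro hk
    exact key w hw k hk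
  · intro hk
    have := key w⁻¹ (Subgroup.inv_mem _ hw) _ hk
    simpa [mul_assoc] using this

theorem stabilizesBlock_pullBlock_centEquivQ_of
    (Q R : Subgroup G) (D' : Subgroup (Subgroup.centralizer (Q : Set G)))
    (hR : R = Q ⊔ D'.map (Subgroup.centralizer (Q : Set G)).subtype)
    (g : Set (IrrCharacter (Subgroup.centralizer (R : Set G))))
    (x : Subgroup.centralizer (Q : Set G))
    (hxN : x ∈ Subgroup.normalizer (D' : Set (Subgroup.centralizer (Q : Set G))))
    (hx : StabilizesBlock (Subgroup.centralizer (R : Set G)) g (x : G)) :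
    StabilizesBlock (Subgroup.centralizer (D' : Set (Subgroup.centralizer (Q : Set G))))
      (BlockIso.pullBlock (centEquivQ Q R D' hR) g) x := by
  refine ⟨mem_normalizer_centralizer' D' x hxN, ?_⟩
  intro χ' hχ'
  have hχ : irrCompIso (centEquivQ Q R D' hR).symm χ' ∈ g :=
    (BlockIso.mem_pullBlock_iff _ g χ').mp hχ'
  obtain ⟨ψ, hψ, hconj⟩ := hx.2 _ hχ
  refine ⟨irrCompIso (centEquivQ Q R D' hR) ψ, BlockIso.irrCompIso_mem_pullBlock _ hψ, ?_⟩
  intro k k' hk
  have h1 := hconj (centEquivQ Q R D' hR k) (centEquivQ Q R D' hR k') (by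
    rw [centEquivQ_coe, centEquivQ_coe]
    have := congrArg (Subtype.val : Subgroup.centralizer (Q : Set G) → G) hk
    push_cast at this
    exact this)
  rw [irrCompIso_apply, h1, irrCompIso_apply, MulEquiv.symm_apply_apply]

end stab

section main
variable {G : Type u} [Group G] [Fintype G] {M : Ideal AlgInt} {p : ℕ} [hpp : Fact p.Prime]

theorem card_le_of_pair (hM : IsPModular p M) (B : Set (IrrCharacter G)) (hB : IsPBlock M B)
    (P : Subgroup G) (hPD : IsDefectGroup p M B P) (R : Subgroup G)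
    (g : Set (IrrCharacter (Subgroup.centralizer (R : Set G))))
    (h : IsBrauerPairOf p M B R g) : Nat.card R ≤ Nat.card P := by
  obtain ⟨R₁, g₁, hmax, hle⟩ := exists_maximal_ge (M := M) p B _ R g h rfl
  have hR₁ := Cfsg.Agent.S4659.result' p M hM B R₁ g₁ hmax
  have h1 : R ≤ R₁ := Cfsg.Agent.S4681.le_of_subpairLE p M R g R₁ g₁ hle
  exact (Subgroup.card_le_of_le h1).trans (card_le_of_isDefectGroup hM hB hR₁ hPD)

theorem isBrauerPairOf_of_induced {X : Type u} [Group X] [Fintype X] (hM : IsPModular p M)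
    (A : Set (IrrCharacter X)) (R : Subgroup X) (hRp : IsPGroup p R)
    (e : Set (IrrCharacter (Subgroup.centralizer (R : Set X))))
    (h : IsInducedBlock M (Subgroup.centralizer (R : Set X)) e A) : IsBrauerPairOf p M A R e := by
  classical
  have hp : M.IsPrime := isPrime_of_isPModular hM
  refine ⟨⟨hRp, h.1⟩, h.2.1, ?_⟩
  intro ξ hξ
  obtain ⟨χ₀, hA⟩ := h.2.1
  have hχ₀ : χ₀ ∈ A := by rw [hA]; exact mem_blockOf_self χ₀
  rw [brauerOmega_eq]
  have h1 := memLocalIdeal_omegaFun_resFun_sub_of_induced (Subgroup.centralizer (R : Set X)) h hξ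
    hχ₀ (blockCoeff_isClassFunction A) (fun x => by rw [hA]; exact memLocalRing_blockCoeff_blockOf χ₀ x)
  rw [omegaFun_blockCoeff, if_pos hχ₀] at h1
  exact h1

theorem le_centralizer_of_abelian (P Q : Subgroup G) (hPab : ∀ x ∈ P, ∀ y ∈ P, x * y = y * x)
    (hQP : Q ≤ P) : P ≤ Subgroup.centralizer (Q : Set G) := by
  intro x hx
  rw [Subgroup.mem_centralizer_iff]
  intro q hq
  exact hPab q (hQP hq) x hx

theorem eq_sup_map (P Q : Subgroup G) (hQP : Q ≤ P)
    (hPH : P ≤ Subgroup.centralizer (Q : Set G)) :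
    P = Q ⊔ (P.subgroupOf (Subgroup.centralizer (Q : Set G))).map
      (Subgroup.centralizer (Q : Set G)).subtype := by
  rw [Subgroup.subgroupOf_map_subtype, inf_eq_left.mpr hPH, sup_eq_right.mpr hQP]

/-- the key equivalence -/
theorem core (hM : IsPModular p M) (B : Set (IrrCharacter G)) (hB : IsPBlock M B)
    (P : Subgroup G) (hPD : IsDefectGroup p M B P) (hPab : ∀ x ∈ P, ∀ y ∈ P, x * y = y * x)
    (c : Set (IrrCharacter (Subgroup.centralizer (P : Set G))))
    (hc : IsInducedBlock M (Subgroup.centralizer (P : Set G)) c B) (T : Subgroup G)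
    (hT : ∀ g : G, g ∈ T ↔ (g ∈ Subgroup.normalizer (P : Set G) ∧
      StabilizesBlock (Subgroup.centralizer (P : Set G)) c g))
    (Q : Subgroup G) (hQP : Q ≤ P)
    (f : Set (IrrCharacter (Subgroup.centralizer (Q : Set G))))
    (hf : IsInducedBlockIn M (Subgroup.centralizer (Q : Set G))
      (Subgroup.centralizer (P : Set G)) c f) :
    IsNilpotentBlock p M f ↔
      ∀ g ∈ T, g ∈ Subgroup.centralizer (Q : Set G) → g ∈ Subgroup.centralizer (P : Set G) := by
  classical
  have hp : M.IsPrime := isPrime_of_isPModular hM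
  have hPp : IsPGroup p P := ExtFirstMain.isPGroup_of_isDefectGroup hPD
  have hQp : IsPGroup p Q := hPp.to_le hQP
  have hPH := le_centralizer_of_abelian P Q hPab hQP
  have hR := eq_sup_map P Q hQP hPH
  set P' : Subgroup (Subgroup.centralizer (Q : Set G)) :=
    P.subgroupOf (Subgroup.centralizer (Q : Set G)) with hP'
  set κ := centEquivQ Q P P' hR with hκdef
  have hP'p : IsPGroup p P' := by
    have h2 := hPp.comap_of_injective (Subgroup.centralizer (Q : Set G)).subtype
      (Subgroup.subtype_injective _)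
    exact h2
  have hPc : IsBrauerPairOf p M B P c := isBrauerPairOf_of_induced hM B P hPp c hc
  have hind' : IsInducedBlock M (Subgroup.centralizer (P' : Set (Subgroup.centralizer (Q : Set G))))
      (BlockIso.pullBlock κ c) f :=
    (isInducedBlockIn_iff _ _ _ κ (centEquivQ_coe Q P P' hR) c f).mp hf
  have hpair' : IsBrauerPairOf p M f P' (BlockIso.pullBlock κ c) :=
    isBrauerPairOf_of_induced hM f P' hP'p _ hind'
  have hnormal : IsNormalSubpair p M Q f P c :=
    (isNormalSubpair_iff_isBrauerPairOf (M := M) Q P P' hQp hR f c).mpr hpair'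
  have hQfB : IsBrauerPairOf p M B Q f :=
    (Cfsg.Agent.S4658.result' p M hM P Q c f (Relation.ReflTransGen.single hnormal) B hB).mp hPc
  have hf' : IsPBlock M f := hf.2.1
  -- maximality
  have hmax' : IsMaximalBrauerPair p M f P' (BlockIso.pullBlock κ c) := by
    refine ⟨hpair', ?_⟩
    intro R' g' hR'g' hle
    have hP'R' : P' ≤ R' := Cfsg.Agent.S4681.le_of_subpairLE p M _ _ _ _ hle
    set R : Subgroup G := Q ⊔ R'.map (Subgroup.centralizer (Q : Set G)).subtype with hRdef
    set g := BlockIso.pullBlock (centEquivQ Q R R' rfl).symm g' with hgdef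
    have hg : BlockIso.pullBlock (centEquivQ Q R R' rfl) g = g' := by
      rw [hgdef]
      exact BlockIso.pullBlock_symm_pullBlock (centEquivQ Q R R' rfl).symm g'
    have hnormal2 : IsNormalSubpair p M Q f R g := by
      rw [isNormalSubpair_iff_isBrauerPairOf (M := M) Q R R' hQp rfl f g, hg]
      exact hR'g'
    have hRgB : IsBrauerPairOf p M B R g :=
      (Cfsg.Agent.S4658.result' p M hM R Q g f (Relation.ReflTransGen.single hnormal2) B hB).mpr hQfB
    have hcard : Nat.card R ≤ Nat.card P := card_le_of_pair hM B hB P hPD R g hRgB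
    have hPR : P ≤ R := by
      rw [hR, hRdef]
      exact sup_le_sup_left (Subgroup.map_mono hP'R') Q
    have hRP : R = P := (Subgroup.eq_of_le_of_card_ge hPR hcard).symm
    apply le_antisymm _ hP'R'
    intro r hr
    rw [hP', Subgroup.mem_subgroupOf, ← hRP, hRdef]
    exact (le_sup_right : R'.map (Subgroup.centralizer (Q : Set G)).subtype ≤ _) ⟨r, hr, rfl⟩
  have hab' : ∀ x ∈ P', ∀ y ∈ P', x * y = y * x := by
    intro x hx y hy
    apply Subtype.ext
    exact hPab _ (Subgroup.mem_subgroupOf.mp hx) _ (Subgroup.mem_subgroupOf.mp hy)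
  rw [Cfsg.Agent.S4687.result' p M hM f P' (BlockIso.pullBlock κ c) hmax' hab']
  -- membership lemmas
  have hnorm : ∀ x : Subgroup.centralizer (Q : Set G),
      x ∈ Subgroup.normalizer (P' : Set (Subgroup.centralizer (Q : Set G))) ↔
        (x : G) ∈ Subgroup.normalizer (P : Set G) := by
    intro x
    constructor
    · intro hx
      rw [Subgroup.mem_normalizer_iff]
      intro k
      constructor
      · intro hk
        have := (Subgroup.mem_normalizer_iff.mp hx ⟨k, hPH hk⟩).mp (Subgroup.mem_subgroupOf.mpr hk)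
        exact Subgroup.mem_subgroupOf.mp this
      · intro hk
        have hkH : k ∈ Subgroup.centralizer (Q : Set G) := by
          have h1 := hPH hk
          have h2 := Subgroup.mul_mem _ (Subgroup.mul_mem _ (Subgroup.inv_mem _ x.2) h1) x.2
          have e : (x : G)⁻¹ * ((x : G) * k * (x : G)⁻¹) * (x : G) = k := by group
          rwa [e] at h2
        have := (Subgroup.mem_normalizer_iff.mp hx ⟨k, hkH⟩).mpr (Subgroup.mem_subgroupOf.mpr hk)
        exact Subgroup.mem_subgroupOf.mp this
    · intro hx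
      rw [Subgroup.mem_normalizer_iff]
      intro k
      rw [hP', Subgroup.mem_subgroupOf, Subgroup.mem_subgroupOf]
      exact Subgroup.mem_normalizer_iff.mp hx (k : G)
  have hcent : ∀ x : Subgroup.centralizer (Q : Set G),
      x ∈ Subgroup.centralizer (P' : Set (Subgroup.centralizer (Q : Set G))) ↔
        (x : G) ∈ Subgroup.centralizer (P : Set G) := by
    intro x
    rw [mem_centralizer_of_eq_sup Q P P' hR (x : G)]
    constructor
    · intro hx; exact ⟨x.2, hx⟩
    · rintro ⟨_, hx⟩; exact hx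
  constructor
  · intro h g hgT hgQ
    have hg := (hT g).mp hgT
    have h1 := h ⟨g, hgQ⟩ ((hnorm ⟨g, hgQ⟩).mpr hg.1)
      (stabilizesBlock_pullBlock_centEquivQ_of Q P P' hR c ⟨g, hgQ⟩
        ((hnorm ⟨g, hgQ⟩).mpr hg.1) hg.2)
    exact (hcent ⟨g, hgQ⟩).mp h1
  · intro h x hxN hxst
    have hxst' := Cfsg.Agent.S4688.stabilizesBlock_of_pullBlock_centEquivQ Q P P' hR c x hxst
    have hxT : (x : G) ∈ T := (hT _).mpr ⟨(hnorm x).mp hxN, hxst'⟩
    exact (hcent x).mpr (h _ hxT x.2)

/-- existence of the induced block in `C_G(Q)` -/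
theorem exists_induced (hM : IsPModular p M) (B : Set (IrrCharacter G))
    (P : Subgroup G) (hPD : IsDefectGroup p M B P) (hPab : ∀ x ∈ P, ∀ y ∈ P, x * y = y * x)
    (c : Set (IrrCharacter (Subgroup.centralizer (P : Set G))))
    (hc : IsInducedBlock M (Subgroup.centralizer (P : Set G)) c B)
    (Q : Subgroup G) (hQP : Q ≤ P) :
    ∃ f : Set (IrrCharacter (Subgroup.centralizer (Q : Set G))),
      IsInducedBlockIn M (Subgroup.centralizer (Q : Set G))
        (Subgroup.centralizer (P : Set G)) c f := by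
  classical
  have hp : M.IsPrime := isPrime_of_isPModular hM
  have hPp : IsPGroup p P := ExtFirstMain.isPGroup_of_isDefectGroup hPD
  have hQp : IsPGroup p Q := hPp.to_le hQP
  have hPH := le_centralizer_of_abelian P Q hPab hQP
  have hR := eq_sup_map P Q hQP hPH
  set P' : Subgroup (Subgroup.centralizer (Q : Set G)) :=
    P.subgroupOf (Subgroup.centralizer (Q : Set G)) with hP'
  set κ := centEquivQ Q P P' hR with hκdef
  have hPN : P ≤ Subgroup.normalizer (Q : Set G) :=
    hPH.trans (Subgroup.centralizer_le_normalizer (Q : Set G))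
  obtain ⟨f, hnormal, -⟩ := Cfsg.Agent.S4656.result' p M hM P Q c ⟨hPp, hc.1⟩ hQP hPN
  have hpair' : IsBrauerPairOf p M f P' (BlockIso.pullBlock κ c) :=
    (isNormalSubpair_iff_isBrauerPairOf (M := M) Q P P' hQp hR f c).mp hnormal
  have hab' : P' ≤ Subgroup.centralizer (P' : Set (Subgroup.centralizer (Q : Set G))) := by
    intro x hx
    rw [Subgroup.mem_centralizer_iff]
    intro y hy
    apply Subtype.ext
    exact hPab _ (Subgroup.mem_subgroupOf.mp hy) _ (Subgroup.mem_subgroupOf.mp hx)
  have hind' := isInducedBlock_of_isBrauerPairOf hM f P' hab' _ hpair'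
  exact ⟨f, (isInducedBlockIn_iff _ _ _ κ (centEquivQ_coe Q P P' hR) c f).mpr hind'⟩

end main

theorem result' {G : Type u} [Group G] [Finite G] (p : ℕ) [Fact p.Prime] (M : Ideal Cfsg.AlgInt) (hM : Cfsg.IsPModular p M) (B : Set (Cfsg.IrrCharacter G)) (hB : Cfsg.IsPBlock M B) (P : Subgroup G) (hPD : Cfsg.IsDefectGroup p M B P) (hPab : ∀ x ∈ P, ∀ y ∈ P, x * y = y * x) (hP1 : P ≠ ⊥) (c : Set (Cfsg.IrrCharacter (Subgroup.centralizer (P : Set G)))) (hc : Cfsg.IsInducedBlock M (Subgroup.centralizer (P : Set G)) c B) (T : Subgroup G) (hT : ∀ g : G, g ∈ T ↔ (g ∈ Subgroup.normalizer (P : Set G) ∧ Cfsg.StabilizesBlock (Subgroup.centralizer (P : Set G)) c g)) : (∀ g ∈ T, ∀ x ∈ P, x ≠ 1 → g * x * g⁻¹ = x → g ∈ Subgroup.centralizer (P : Set G)) ↔ ∀ Q : Subgroup G, Q ≤ P → Q ≠ ⊥ → ∀ f : Set (Cfsg.IrrCharacter (Subgroup.centralizer (Q : Set G))), Cfsg.IsInducedBlockIn M (Subgroup.centralizer (Q : Set G)) (Subgroup.centralizer (P : Set G)) c f → Cfsg.IsNilpotentBlock p M f := by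
  classical
  let _ : Fintype G := Fintype.ofFinite G
  constructor
  · intro h Q hQP hQ1 f hf
    rw [core hM B hB P hPD hPab c hc T hT Q hQP f hf]
    intro g hgT hgQ
    obtain ⟨x, hx1⟩ := (Subgroup.ne_bot_iff_exists_ne_one.mp hQ1)
    have hx1' : (x : G) ≠ 1 := fun h0 => hx1 (Subtype.ext h0)
    refine h g hgT x (hQP x.2) hx1' ?_
    have := Subgroup.mem_centralizer_iff.mp hgQ x x.2
    rw [← this]; group
  · intro h g hgT x hxP hx1 hgx
    have hQP : Subgroup.zpowers x ≤ P := by
      rw [Subgroup.zpowers_le]; exact hxP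
    have hQ1 : Subgroup.zpowers x ≠ ⊥ := by
      intro h0
      exact hx1 (Subgroup.zpowers_eq_bot.mp h0)
    obtain ⟨f, hf⟩ := exists_induced hM B P hPD hPab c hc (Subgroup.zpowers x) hQP
    have hnil := h _ hQP hQ1 f hf
    rw [core hM B hB P hPD hPab c hc T hT _ hQP f hf] at hnil
    apply hnil g hgT
    rw [Subgroup.mem_centralizer_iff]
    intro y hy
    obtain ⟨k, rfl⟩ := Subgroup.mem_zpowers_iff.mp hy
    have hcomm : Commute g x := by
      have : g * x = x * g := by
        calc g * x = (g * x * g⁻¹) * g := by group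
          _ = x * g := by rw [hgx]
      exact this
    exact ((hcomm.zpow_right k).eq).symm

/-- Let B be a block of the finite group G relative to a maximal ideal M of the algebraic integers containing the prime p, with a nontrivial commutative defect group P; let c be a block of C_G(P) inducing B and T the stabilizer of c in N_G(P). Then T/C_G(P) acts freely on the non-identity elements of P (an element of T fixing a non-identity element of P under conjugation lies in C_G(P)) if and only if, for every nontrivial subgroup Q of P, the block of C_G(Q) induced by c inside C_G(Q) is a nilpotent block of C_G(Q). -/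
theorem result {G : Type*} [Group G] [Finite G] (p : ℕ) [Fact p.Prime] (M : Ideal Cfsg.AlgInt) (hM : Cfsg.IsPModular p M) (B : Set (Cfsg.IrrCharacter G)) (hB : Cfsg.IsPBlock M B) (P : Subgroup G) (hPD : Cfsg.IsDefectGroup p M B P) (hPab : ∀ x ∈ P, ∀ y ∈ P, x * y = y * x) (hP1 : P ≠ ⊥) (c : Set (Cfsg.IrrCharacter (Subgroup.centralizer (P : Set G)))) (hc : Cfsg.IsInducedBlock M (Subgroup.centralizer (P : Set G)) c B) (T : Subgroup G) (hT : ∀ g : G, g ∈ T ↔ (g ∈ Subgroup.normalizer (P : Set G) ∧ Cfsg.StabilizesBlock (Subgroup.centralizer (P : Set G)) c g)) : (∀ g ∈ T, ∀ x ∈ P, x ≠ 1 → g * x * g⁻¹ = x → g ∈ Subgroup.centralizer (P : Set G)) ↔ ∀ Q : Subgroup G, Q ≤ P → Q ≠ ⊥ → ∀ f : Set (Cfsg.IrrCharacter (Subgroup.centralizer (Q : Set G))), Cfsg.IsInducedBlockIn M (Subgroup.centralizer (Q : Set G)) (Subgroup.centralizer (P : Set G)) c f → Cfsg.IsNilpotentBlock p M f := by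
  exact result' p M hM B hB P hPD hPab hP1 c hc T hT

end Cfsg.Agent.S4650
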