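import Cfsg.Statements.S0362
-- import your own Cfsg.Agent.* helpers here
import Cfsg.Agent.Lib.Helper3.Golay.Weights

set_option autoImplicit false
open Cfsg

namespace Cfsg.Agent.S0362

open Cfsg.Agent.Lib.Helper3.Golay

theorem dot_wordOf (m n : ℕ) :
    ∑ p : GolayPt, wordOf m p * wordOf n p = ((pc24 (m &&& n) : ℕ) : ZMod 2) := by
  rw [← card_bitSet', bitSet, Finset.card_filter, Nat.cast_sum]
  apply Finset.sum_congr rfl
  intro p _
  rw [wordOf_apply, wordOf_apply, Nat.testBit_and]
  cases m.testBit (idx p) <;> cases n.testBit (idx p) <;> simp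

theorem basis_orth : ∀ i < 12, ∀ j < 12, pc24 (basisMask i &&& basisMask j) % 2 = 0 := by
  decide +kernel

theorem dot_bvec (i j : Fin 12) : ∑ p : GolayPt, bvec i p * bvec j p = 0 := by
  unfold bvec
  rw [dot_wordOf]
  have := basis_orth i i.2 j j.2
  rw [ZMod.natCast_eq_zero_iff]
  exact Nat.dvd_of_mod_eq_zero this

/-- The length-24 code is self-orthogonal: the dot product over ZMod 2 of any two of its words vanishes (with dimension 12 this makes it self-dual). -/
theorem result (v w : Cfsg.GolayPt → ZMod 2) (hv : v ∈ Cfsg.golayCode) (hw : w ∈ Cfsg.golayCode) : ∑ i, v i * w i = 0 := by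
  rw [golayCode_eq_span] at hv hw
  have h1 : ∀ j : Fin 12, ∑ i, v i * bvec j i = 0 := by
    intro j
    induction hv using Submodule.span_induction with
    | mem x hx =>
      obtain ⟨i, rfl⟩ := hx
      exact dot_bvec i j
    | zero => simp
    | add x y _ _ hx hy =>
      simp only [Pi.add_apply, add_mul, Finset.sum_add_distrib, hx, hy, add_zero]
    | smul a x _ hx =>
      simp only [Pi.smul_apply, smul_eq_mul, mul_assoc, ← Finset.mul_sum, hx, mul_zero]
  induction hw using Submodule.span_induction with
  | mem x hx =>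
    obtain ⟨j, rfl⟩ := hx
    exact h1 j
  | zero => simp
  | add x y _ _ hx hy =>
    simp only [Pi.add_apply, mul_add, Finset.sum_add_distrib, hx, hy, add_zero]
  | smul a x _ hx =>
    simp only [Pi.smul_apply, smul_eq_mul]
    have : ∀ i, v i * (a * x i) = a * (v i * x i) := fun i => by ring
    simp only [this, ← Finset.mul_sum, hx, mul_zero]

end Cfsg.Agent.S0362
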