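import Cfsg.Statements.S1635
-- import your own Cfsg.Agent.* helpers here
import Cfsg.Agent.Lib.Helper28.Golay24
import Cfsg.Agent.Lib.Helper14.GolayMin
import Cfsg.Agent.Lib.Helper3.Golay.Code

set_option autoImplicit false
open Cfsg

namespace Cfsg.Agent.S1635

open Cfsg.Agent.Lib.Helper28.Golay24

/-- reindexing of words along `Fin 24 ≃ GolayPt` -/
noncomputable def phi : (Cfsg.GolayPt → ZMod 2) ≃ₗ[ZMod 2] (Fin 24 → ZMod 2) :=
  LinearEquiv.funCongrLeft (ZMod 2) (ZMod 2) (Cfsg.Agent.Lib.Helper3.Golay.ptEquiv).symm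

theorem phi_apply (v : Cfsg.GolayPt → ZMod 2) (i : Fin 24) :
    phi v i = v ((Cfsg.Agent.Lib.Helper3.Golay.ptEquiv).symm i) := rfl

theorem norm_phi (v : Cfsg.GolayPt → ZMod 2) : hammingNorm (phi v) = hammingNorm v := by
  unfold hammingNorm
  apply Finset.card_equiv (Cfsg.Agent.Lib.Helper3.Golay.ptEquiv).symm
  intro i
  simp only [Finset.mem_filter, Finset.mem_univ, true_and]
  rfl

/-- the transported code -/
noncomputable def C' : Submodule (ZMod 2) (Fin 24 → ZMod 2) :=
  Submodule.map phi.toLinearMap Cfsg.golayCode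

theorem phi_mem (x : Cfsg.GolayPt → ZMod 2) : phi x ∈ C' ↔ x ∈ Cfsg.golayCode := by
  constructor
  · rintro ⟨c, hc, h⟩
    have : c = x := phi.injective h
    rw [← this]; exact hc
  · intro h
    exact ⟨x, h, rfl⟩

theorem finrank_C' : Module.finrank (ZMod 2) C' = 12 := by
  unfold C'
  rw [LinearEquiv.finrank_map_eq phi Cfsg.golayCode]
  exact Cfsg.Agent.Lib.Helper3.Golay.finrank_golayCode

theorem hmin_golay (c : Cfsg.GolayPt → ZMod 2) (hc : c ∈ Cfsg.golayCode) (h0 : c ≠ 0) :
    8 ≤ hammingNorm c :=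
  Cfsg.Agent.Lib.Helper14.GolayMin.eight_le_card c hc h0

theorem hmin_C' : ∀ w ∈ C', w ≠ 0 → 8 ≤ hammingNorm w := by
  rintro w ⟨c, hc, rfl⟩ h0
  have : phi c ≠ 0 := h0
  rw [show (phi.toLinearMap c) = phi c from rfl, norm_phi]
  apply hmin_golay c hc
  rintro rfl
  exact this (map_zero _)

theorem norm_sub_le (u v : Cfsg.GolayPt → ZMod 2) :
    hammingNorm (u - v) ≤ hammingNorm u + hammingNorm v := by
  rw [← neg_add_eq_sub, ← hammingDist_eq_hammingNorm]
  calc hammingDist v u ≤ hammingDist v 0 + hammingDist 0 u := hammingDist_triangle v 0 u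
    _ = hammingNorm u + hammingNorm v := by
        rw [hammingDist_zero_right, hammingDist_zero_left, add_comm]

theorem unique_small (w u v : Cfsg.GolayPt → ZMod 2) (hu : w - u ∈ Cfsg.golayCode)
    (hv : w - v ∈ Cfsg.golayCode) (h : hammingNorm u + hammingNorm v ≤ 7) : u = v := by
  by_contra hne
  have hmem : u - v ∈ Cfsg.golayCode := by
    have : u - v = (w - v) - (w - u) := by abel
    rw [this]
    exact Submodule.sub_mem _ hv hu
  have h8 := hmin_golay (u - v) hmem (sub_ne_zero.mpr hne)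
  have := norm_sub_le u v
  omega

/-- Coset leaders of the length-24 code: a coset contains a unique word of weight ≤ 3, or else exactly six words of weight 4 and none lighter. -/
theorem result (w : Cfsg.GolayPt → ZMod 2) : ({v : Cfsg.GolayPt → ZMod 2 | hammingNorm v ≤ 4 ∧ w - v ∈ Cfsg.golayCode}.ncard = 1 ∧ ∃ v : Cfsg.GolayPt → ZMod 2, hammingNorm v ≤ 3 ∧ w - v ∈ Cfsg.golayCode) ∨ ({v : Cfsg.GolayPt → ZMod 2 | hammingNorm v ≤ 4 ∧ w - v ∈ Cfsg.golayCode}.ncard = 6 ∧ ∀ v : Cfsg.GolayPt → ZMod 2, w - v ∈ Cfsg.golayCode → hammingNorm v ≤ 4 → hammingNorm v = 4) := by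
  classical
  set S : Set (Cfsg.GolayPt → ZMod 2) :=
    {v | hammingNorm v ≤ 4 ∧ w - v ∈ Cfsg.golayCode} with hS
  by_cases hA : ∃ u : Cfsg.GolayPt → ZMod 2, hammingNorm u ≤ 3 ∧ w - u ∈ Cfsg.golayCode
  · left
    obtain ⟨u, hu3, hu⟩ := hA
    refine ⟨?_, u, hu3, hu⟩
    have : S = {u} := by
      ext v
      simp only [hS, Set.mem_ofPred_eq, Set.mem_singleton_iff]
      constructor
      · rintro ⟨hv4, hv⟩
        exact (unique_small w u v hu hv (by omega)).symm
      · rintro rfl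
        exact ⟨by omega, hu⟩
    rw [this, Set.ncard_singleton]
  · right
    have hno : ∀ v : Cfsg.GolayPt → ZMod 2, w - v ∈ Cfsg.golayCode → hammingNorm v ≤ 4 →
        hammingNorm v = 4 := by
      intro v hv h4
      by_contra hne
      exact hA ⟨v, by omega, hv⟩
    refine ⟨?_, hno⟩
    set q : W24 ⧸ C' := Submodule.Quotient.mk (phi w) with hq
    have hmk : ∀ v : Cfsg.GolayPt → ZMod 2,
        (Submodule.Quotient.mk (phi v) : W24 ⧸ C') = q ↔ w - v ∈ Cfsg.golayCode := by
      intro v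
      rw [hq, eq_comm, Submodule.Quotient.eq, ← map_sub, phi_mem]
    rcases coset_dichotomy C' finrank_C' hmin_C' q with ⟨u', hu3, hu'⟩ | h6
    · exfalso
      apply hA
      refine ⟨phi.symm u', ?_, ?_⟩
      · rw [← norm_phi, LinearEquiv.apply_symm_apply]; exact hu3
      · rw [← hmk, LinearEquiv.apply_symm_apply]; exact hu'
    · have himg : phi '' S = ↑(fiber4 C' q) := by
        ext x
        simp only [Set.mem_image, Finset.mem_coe, mem_fiber4]
        constructor
        · rintro ⟨v, ⟨hv4, hv⟩, rfl⟩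
          exact ⟨by rw [norm_phi]; exact hno v hv hv4, (hmk v).mpr hv⟩
        · rintro ⟨hx4, hx⟩
          refine ⟨phi.symm x, ⟨?_, ?_⟩, LinearEquiv.apply_symm_apply _ _⟩
          · rw [← norm_phi, LinearEquiv.apply_symm_apply]; omega
          · rw [← hmk, LinearEquiv.apply_symm_apply]; exact hx
      rw [← Set.ncard_image_of_injective S phi.injective, himg, Set.ncard_coe_finset, h6]

end Cfsg.Agent.S1635
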