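import Cfsg.Statements.S0371
-- import your own Cfsg.Agent.* helpers here
import Cfsg.Agent.Lib.Helper3.Golay.Perm

set_option autoImplicit false
open Cfsg

namespace Cfsg.Agent.S0371

open Cfsg.Agent.Lib.Helper3.Golay

/-- Multiplication by a nonzero square residue modulo 23, fixing the extra point, lies in the group of the length-24 code. -/
theorem result (u : (ZMod 23)ˣ) (hu : IsSquare u) : Equiv.optionCongr (Units.mulLeft u) ∈ Cfsg.M24 := by
  obtain ⟨a, rfl⟩ := hu
  apply mem_M24_of_gens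
  · intro t
    have : permWord (Equiv.optionCongr (Units.mulLeft (a * a))) (qrWord t) = qrWord (((a * a : (ZMod 23)ˣ) : ZMod 23) * t) := by
      funext p
      rw [permWord_apply]
      cases p with
      | none => rfl
      | some x =>
        have h1 : (Equiv.optionCongr (Units.mulLeft (a * a))).symm (some x) = some (((a * a)⁻¹ : (ZMod 23)ˣ) * x) := rfl
        rw [h1]
        show (if ∃ r : ZMod 23, ((a * a)⁻¹ : (ZMod 23)ˣ) * x = r ^ 2 + t then (1 : ZMod 2) else 0) =
          if ∃ r : ZMod 23, x = r ^ 2 + ((a * a : (ZMod 23)ˣ) : ZMod 23) * t then 1 else 0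
        congr 1
        rw [eq_iff_iff]
        constructor
        · rintro ⟨r, hr⟩
          refine ⟨(a : ZMod 23) * r, ?_⟩
          have : x = ((a * a : (ZMod 23)ˣ) : ZMod 23) * (((a * a)⁻¹ : (ZMod 23)ˣ) * x) := by
            rw [← mul_assoc, ← Units.val_mul, mul_inv_cancel, Units.val_one, one_mul]
          rw [this, hr, Units.val_mul]
          ring
        · rintro ⟨r, hr⟩
          refine ⟨((a⁻¹ : (ZMod 23)ˣ) : ZMod 23) * r, ?_⟩
          rw [hr, mul_inv_rev, Units.val_mul, Units.val_mul]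
          have h2 : ((a⁻¹ : (ZMod 23)ˣ) : ZMod 23) * (a : ZMod 23) = 1 := by
            rw [← Units.val_mul, inv_mul_cancel, Units.val_one]
          calc ((a⁻¹ : (ZMod 23)ˣ) : ZMod 23) * ((a⁻¹ : (ZMod 23)ˣ) : ZMod 23) * (r ^ 2 + (a : ZMod 23) * (a : ZMod 23) * t)
              = (((a⁻¹ : (ZMod 23)ˣ) : ZMod 23) * r) ^ 2 + (((a⁻¹ : (ZMod 23)ˣ) : ZMod 23) * (a : ZMod 23)) * (((a⁻¹ : (ZMod 23)ˣ) : ZMod 23) * (a : ZMod 23)) * t := by ring
            _ = (((a⁻¹ : (ZMod 23)ˣ) : ZMod 23) * r) ^ 2 + t := by rw [h2]; ring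
    rw [this]
    exact Submodule.subset_span (Or.inl ⟨_, rfl⟩)
  · have : permWord (Equiv.optionCongr (Units.mulLeft (a * a))) 1 = 1 := by
      funext p; rfl
    rw [this]
    exact Submodule.subset_span (Or.inr rfl)

end Cfsg.Agent.S0371
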