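import Cfsg.Statements.S3277
-- import your own Cfsg.Agent.* helpers here
import Cfsg.Agent.Lib.Helper22.KleinCentA5

set_option autoImplicit false
open Cfsg

namespace Cfsg.Agent.S3277

/-- Let G be a finite group containing an involution whose centralizer is elementary abelian of order 4. If G has no normal 2-complement and no normal elementary abelian 2-subgroup of order 2 or 4, then G is isomorphic to the alternating group of degree 5 (that is, to PSL(2, 5)). -/
theorem result {G : Type*} [Group G] [Finite G] (x : G) (hx : orderOf x = 2)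
    (hC4 : Nat.card ↥(Subgroup.centralizer ({x} : Set G)) = 4) (hCe : ∀ c ∈ Subgroup.centralizer ({x} : Set G), c ^ 2 = 1)
    (hnc : ¬ Cfsg.HasNormalPComplement 2 G)
    (hne : ∀ E : Subgroup G, E.Normal → Cfsg.IsElementaryAbelian 2 E → Nat.card ↥E ≠ 2 ∧ Nat.card ↥E ≠ 4) :
    Nonempty (G ≃* ↥(alternatingGroup (Fin 5))) := by
  classical
  haveI : Fact (Nat.Prime 2) := ⟨Nat.prime_two⟩
  have hVp : IsPGroup 2 (Subgroup.centralizer ({x} : Set G)) :=
    IsPGroup.of_card (n := 2) (by rw [hC4]; norm_num)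
  obtain ⟨T, hT⟩ := hVp.exists_le_sylow
  rcases eq_or_lt_of_le hT with heq | hlt
  · apply Cfsg.Agent.Lib.Helper22.KleinCent.iso_A5_of_eq x hx hC4 hCe T heq.symm hnc
    intro hn
    have hsq : ∀ a ∈ (T : Subgroup G), a ^ 2 = 1 := fun a ha => hCe a (heq ▸ ha)
    have hel : Cfsg.IsElementaryAbelian 2 (T : Subgroup G) := by
      refine ⟨⟨⟨fun a b => ?_⟩⟩, hsq⟩
      have ha : a ^ 2 = 1 := Subtype.ext (hsq a a.2)
      have hb : b ^ 2 = 1 := Subtype.ext (hsq b b.2)
      have hab : (a * b) ^ 2 = 1 := Subtype.ext (hsq (a * b) (a * b).2)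
      have ha' : a⁻¹ = a := by rw [inv_eq_iff_mul_eq_one, ← pow_two, ha]
      have hb' : b⁻¹ = b := by rw [inv_eq_iff_mul_eq_one, ← pow_two, hb]
      have hab' : (a * b)⁻¹ = a * b := by rw [inv_eq_iff_mul_eq_one, ← pow_two, hab]
      calc a * b = (a * b)⁻¹ := hab'.symm
        _ = b⁻¹ * a⁻¹ := mul_inv_rev a b
        _ = b * a := by rw [ha', hb']
    exact (hne (T : Subgroup G) hn hel).2 (by rw [← heq, hC4])
  · exfalso
    obtain ⟨E, hEn, hEe, hEc⟩ :=
      Cfsg.Agent.Lib.Helper22.KleinCent.exists_normal_of_lt x hx hC4 hCe T hlt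
    have := hne E hEn hEe
    rcases hEc with h | h
    · exact this.1 h
    · exact this.2 h

end Cfsg.Agent.S3277
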