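import Cfsg.Statements.S0824
-- import your own Cfsg.Agent.* helpers here
import Cfsg.Agent.Lib.Helper14.OrthMinus
import Cfsg.Agent.Lib.Helper15.IsometryTransport

set_option autoImplicit false
open Cfsg

namespace Cfsg.Agent.S0824


open Matrix

abbrev J4 := (Fin 1 ⊕ Fin 1) ⊕ Fin 2
abbrev V5 := Fin 5 → ZMod 2

def x0 : V5 := ![1,1,1,1,0]
def y0 : V5 := ![1,1,1,0,1]
def z1 : V5 := ![1,1,0,0,0]
def z2 : V5 := ![0,1,1,0,0]

def PiM : Matrix J4 (Fin 5) (ZMod 2) :=
  Matrix.of fun r j => Sum.elim (Sum.elim (fun _ => y0 j) (fun _ => x0 j)) (fun i => if i = 0 then z2 j else z1 j) r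
def SM : Matrix (Fin 5) J4 (ZMod 2) :=
  Matrix.of fun j r => Sum.elim (Sum.elim (fun _ => x0 j) (fun _ => y0 j)) (fun i => if i = 0 then z1 j else z2 j) r

set_option maxRecDepth 100000 in
theorem PiM_SM : PiM * SM = 1 := by decide

set_option maxRecDepth 100000 in
theorem SM_even : ∀ u : J4 → ZMod 2, ∑ i, (SM *ᵥ u) i = 0 := by decide

set_option maxRecDepth 1000000 in
theorem SM_PiM : ∀ w : V5, ∑ i, w i = 0 → SM *ᵥ (PiM *ᵥ w) = w := by decide

set_option maxRecDepth 1000000 in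
theorem Q_PiM : ∀ w : V5, ∑ i, w i = 0 →
    Cfsg.quadFormMinus 1 (ZMod 2) 1 1 (PiM *ᵥ w) =
      (((Finset.univ.filter (fun i => w i = 1)).card / 2 : ℕ) : ZMod 2) := by decide

set_option maxRecDepth 100000 in
theorem exists_other : ∀ a b : Fin 5, ∃ l, l ≠ a ∧ l ≠ b := by decide

def PM (σ : Equiv.Perm (Fin 5)) : Matrix (Fin 5) (Fin 5) (ZMod 2) := (σ⁻¹).permMatrix (ZMod 2)

theorem PM_mulVec (σ : Equiv.Perm (Fin 5)) (w : V5) : PM σ *ᵥ w = w ∘ ⇑σ⁻¹ := by
  show (σ⁻¹).permMatrix (ZMod 2) *ᵥ w = _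
  exact Matrix.permMatrix_mulVec _

theorem PM_mul (σ τ : Equiv.Perm (Fin 5)) : PM (σ * τ) = PM σ * PM τ := by
  unfold PM
  rw [_root_.mul_inv_rev, Matrix.permMatrix_mul]

theorem PM_one : PM 1 = 1 := by
  unfold PM
  rw [inv_one, Matrix.permMatrix_one]

theorem ev_PM (σ : Equiv.Perm (Fin 5)) (w : V5) (h : ∑ i, w i = 0) :
    ∑ i, (PM σ *ᵥ w) i = 0 := by
  rw [PM_mulVec]
  simp only [Function.comp]
  rw [Equiv.sum_comp (σ⁻¹) w]
  exact h

theorem wt_PM (σ : Equiv.Perm (Fin 5)) (w : V5) :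
    (Finset.univ.filter (fun i => (PM σ *ᵥ w) i = 1)).card =
      (Finset.univ.filter (fun i => w i = 1)).card := by
  rw [PM_mulVec]
  apply Finset.card_bij (fun i _ => σ⁻¹ i)
  · intro i hi
    simpa using hi
  · intro i _ j _ h
    exact (σ⁻¹).injective h
  · intro j hj
    refine ⟨σ j, ?_, by simp⟩
    simpa using hj

def MM (σ : Equiv.Perm (Fin 5)) : Matrix J4 J4 (ZMod 2) := PiM * PM σ * SM

theorem MM_mulVec (σ : Equiv.Perm (Fin 5)) (u : J4 → ZMod 2) :
    MM σ *ᵥ u = PiM *ᵥ (PM σ *ᵥ (SM *ᵥ u)) := by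
  simp only [MM, Matrix.mulVec_mulVec, Matrix.mul_assoc]

theorem mat_ext {A B : Matrix J4 J4 (ZMod 2)} (h : ∀ v, A *ᵥ v = B *ᵥ v) : A = B := by
  apply Matrix.toLin'.injective
  apply LinearMap.ext
  intro v
  rw [Matrix.toLin'_apply, Matrix.toLin'_apply, h]

theorem MM_one : MM 1 = 1 := by
  unfold MM
  rw [PM_one, Matrix.mul_one, PiM_SM]

theorem MM_mul (σ τ : Equiv.Perm (Fin 5)) : MM (σ * τ) = MM σ * MM τ := by
  apply mat_ext
  intro u
  rw [← Matrix.mulVec_mulVec, MM_mulVec, MM_mulVec, MM_mulVec,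
    SM_PiM _ (ev_PM τ _ (SM_even u)), PM_mul, Matrix.mulVec_mulVec (SM *ᵥ u) (PM σ) (PM τ)]

theorem MM_iso (σ : Equiv.Perm (Fin 5)) (u : J4 → ZMod 2) :
    Cfsg.quadFormMinus 1 (ZMod 2) 1 1 (MM σ *ᵥ u) = Cfsg.quadFormMinus 1 (ZMod 2) 1 1 u := by
  rw [MM_mulVec, Q_PiM _ (ev_PM σ _ (SM_even u)), wt_PM, ← Q_PiM _ (SM_even u),
    Matrix.mulVec_mulVec, PiM_SM, Matrix.one_mulVec]

theorem MM_inj (σ : Equiv.Perm (Fin 5)) (h : MM σ = 1) : σ = 1 := by
  have h2 : ∀ w : V5, ∑ i, w i = 0 → PM σ *ᵥ w = w := by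
    intro w hw
    have h1 : PiM *ᵥ (PM σ *ᵥ w) = PiM *ᵥ w := by
      have := MM_mulVec σ (PiM *ᵥ w)
      rw [SM_PiM w hw, h, Matrix.one_mulVec] at this
      exact this.symm
    rw [← SM_PiM _ (ev_PM σ w hw), h1, SM_PiM w hw]
  have h3 : ∀ i j : Fin 5, i ≠ j → σ i = i ∨ σ i = j := by
    intro i j hij
    obtain ⟨w, hw⟩ : ∃ w : V5, w = Pi.single i 1 + Pi.single j 1 := ⟨_, rfl⟩
    have hwv : ∀ l, w l = if l = i ∨ l = j then 1 else 0 := by
      intro l
      rw [hw, Pi.add_apply, Pi.single_apply, Pi.single_apply]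
      by_cases h1 : l = i
      · have : l ≠ j := fun h => hij (h1.symm.trans h)
        simp [h1, hij]
      · by_cases h2 : l = j
        · simp [h2, hij.symm]
        · simp [h1, h2]
    have hev : ∑ l, w l = 0 := by
      rw [hw]
      simp only [Pi.add_apply]
      rw [Finset.sum_add_distrib, Finset.sum_pi_single', Finset.sum_pi_single']
      simp only [Finset.mem_univ, if_true]
      decide
    have h4 := h2 w hev
    have := congrFun h4 (σ i)
    rw [PM_mulVec, Function.comp_apply, Equiv.Perm.inv_def, Equiv.symm_apply_apply, hwv i,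
      hwv (σ i)] at this
    simp only [true_or, if_true] at this
    by_contra hcon
    push Not at hcon
    rw [if_neg (by rw [not_or]; exact hcon)] at this
    exact one_ne_zero this
  ext i
  obtain ⟨j, hj1, -⟩ := exists_other i i
  obtain ⟨j', hj'1, hj'2⟩ := exists_other i j
  rcases h3 i j hj1.symm with h | h
  · rw [h]; rfl
  · rcases h3 i j' hj'1.symm with h' | h'
    · rw [h']; rfl
    · exfalso
      apply hj'2
      rw [← h, ← h']

/-- the permutation hom into matrices -/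
def phi0 : Equiv.Perm (Fin 5) →* Matrix J4 J4 (ZMod 2) where
  toFun := MM
  map_one' := MM_one
  map_mul' := MM_mul

theorem aniso_two {F : Type*} [Field F] [Fintype F] (hF : Fintype.card F = 2) :
    Cfsg.Agent.Lib.Helper14.QuadExt.Aniso (1 : F) 1 := by
  classical
  have h2 : (2 : F) = 0 := by
    have := card_nsmul_eq_zero (G := F) (x := (1 : F))
    rw [hF] at this
    simpa using this
  have h01 : ∀ z : F, z = 0 ∨ z = 1 := by
    intro z
    by_contra hcon
    push Not at hcon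
    have : ({0, 1, z} : Finset F).card ≤ Fintype.card F := Finset.card_le_univ _
    rw [hF, Finset.card_insert_of_notMem, Finset.card_insert_of_notMem, Finset.card_singleton] at this
    · omega
    · simp only [Finset.mem_singleton]
      exact fun h => hcon.2 h.symm
    · simp only [Finset.mem_insert, Finset.mem_singleton, not_or]
      exact ⟨zero_ne_one, fun h => hcon.1 h.symm⟩
  intro a b hab
  rcases h01 a with rfl | rfl <;> rcases h01 b with rfl | rfl
  · exact ⟨rfl, rfl⟩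
  · exfalso
    simp at hab
  · exfalso
    simp at hab
  · exfalso
    have : (1 : F) = 0 := by linear_combination hab - h2
    exact one_ne_zero this

/-- O⁻_4(2) ≅ S_5: the isometry group of the form x y + z_1² + z_1 z_2 + z_2² over the field with 2 elements is isomorphic to the symmetric group on 5 letters. -/
theorem result {F : Type*} [Field F] [Fintype F] (hF : Fintype.card F = 2) : Nonempty (↥(Cfsg.isometryGroup F (Cfsg.quadFormMinus 1 F 1 1)) ≃* Equiv.Perm (Fin 5)) := by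
  classical
  have : Fact (Nat.Prime 2) := ⟨Nat.prime_two⟩
  have : CharP F 2 := charP_of_card_eq_prime hF
  obtain ⟨f, -⟩ : ∃ f : ZMod 2 →+* F, True := ⟨ZMod.castHom (dvd_refl 2) F, trivial⟩
  have hfbij : Function.Bijective f := by
    rw [Fintype.bijective_iff_injective_and_card]
    exact ⟨f.injective, by rw [hF, ZMod.card]⟩
  obtain ⟨ψ₀, hψ₀⟩ : ∃ ψ₀ : Equiv.Perm (Fin 5) →* Matrix J4 J4 F, ∀ σ, ψ₀ σ = (MM σ).map f :=
    ⟨(f.mapMatrix : Matrix J4 J4 (ZMod 2) →+* Matrix J4 J4 F).toMonoidHom.comp phi0, fun σ => rfl⟩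
  have hQ : ∀ w : J4 → ZMod 2, Cfsg.quadFormMinus 1 F 1 1 (f ∘ w) =
      f (Cfsg.quadFormMinus 1 (ZMod 2) 1 1 w) := by
    intro w
    simp only [Cfsg.quadFormMinus, map_sum, map_mul, map_add, map_pow, map_one, Function.comp_apply]
  have hmem : ∀ σ, ψ₀.toHomUnits σ ∈ Cfsg.isometryGroup F (Cfsg.quadFormMinus 1 F 1 1) := by
    intro σ
    rw [Cfsg.Agent.Lib.Helper15.mem_isometryGroup_iff]
    intro u
    obtain ⟨u₀, rfl⟩ : ∃ u₀ : J4 → ZMod 2, f ∘ u₀ = u :=
      ⟨fun i => (Equiv.ofBijective f hfbij).symm (u i), by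
        funext i
        exact (Equiv.ofBijective f hfbij).apply_symm_apply (u i)⟩
    have h1 : ((ψ₀.toHomUnits σ : Matrix.GeneralLinearGroup J4 F) : Matrix J4 J4 F) = (MM σ).map f :=
      hψ₀ σ
    rw [h1]
    have h2 : (MM σ).map f *ᵥ (f ∘ u₀) = f ∘ (MM σ *ᵥ u₀) := by
      funext i
      exact (RingHom.map_mulVec f (MM σ) u₀ i).symm
    rw [h2, hQ, hQ, MM_iso]
  obtain ⟨ψ, hψ⟩ : ∃ ψ : Equiv.Perm (Fin 5) →* ↥(Cfsg.isometryGroup F (Cfsg.quadFormMinus 1 F 1 1)),
      ∀ σ, (((ψ σ : ↥(Cfsg.isometryGroup F (Cfsg.quadFormMinus 1 F 1 1))) :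
        Matrix.GeneralLinearGroup J4 F) : Matrix J4 J4 F) = (MM σ).map f :=
    ⟨ψ₀.toHomUnits.codRestrict _ hmem, fun σ => hψ₀ σ⟩
  have hinj : Function.Injective ψ := by
    rw [injective_iff_map_eq_one]
    intro σ h
    apply MM_inj
    have h1 := hψ σ
    rw [h] at h1
    apply Matrix.map_injective f.injective
    show (MM σ).map f = (1 : Matrix J4 J4 (ZMod 2)).map f
    rw [← h1, Matrix.map_one _ (map_zero f) (map_one f)]
    rfl
  have hcard : Nat.card ↥(Cfsg.isometryGroup F (Cfsg.quadFormMinus 1 F 1 1)) = 120 := by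
    rw [Cfsg.Agent.Lib.Helper14.OrthMinus.card_isometry_minus (aniso_two hF) 1, hF]
    simp [Finset.prod_range_succ]
  have hfin : Finite ↥(Cfsg.isometryGroup F (Cfsg.quadFormMinus 1 F 1 1)) :=
    Nat.finite_of_card_ne_zero (by rw [hcard]; norm_num)
  have hbij : Function.Bijective ψ := by
    rw [Nat.bijective_iff_injective_and_card]
    refine ⟨hinj, ?_⟩
    rw [hcard, Nat.card_perm, Nat.card_eq_fintype_card, Fintype.card_fin]
    rfl
  exact ⟨(MulEquiv.ofBijective ψ hbij).symm⟩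

end Cfsg.Agent.S0824
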