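import Cfsg.Statements.S0848


import Mathlib
import Cfsg.Agent.Lib.Helper6.D8C3
import Cfsg.Agent.Lib.Helper6.D8D

set_option autoImplicit false
open Cfsg

namespace Cfsg.Agent.S0848

open Cfsg.Agent.Lib.Helper6.D8Cent

/-- If a finite group equals its own commutator subgroup and contains an involution whose centralizer is isomorphic to the dihedral group of order 8, then the group has order 168 or 360. -/
theorem result {G : Type*} [Group G] [Finite G] (hperf : commutator G = ⊤) (t : G) (ht : orderOf t = 2) (e : Subgroup.centralizer ({t} : Set G) ≃* DihedralGroup 4) : Nat.card G = 168 ∨ Nat.card G = 360 := by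
  classical
  have : Fintype G := Fintype.ofFinite G
  let C : Ctx G := ⟨t, ht, e⟩
  obtain ⟨d1, d2, d3, c1, c2, c3, hc1, hc2, hc3, ho1, ho2, ho3, hn1, hn2, hn3, hsum, hsq, heq⟩ :=
    C.key hperf
  exact arith (Nat.card G) d1 d2 d3 c1 c2 c3 hc1 hc2 hc3 ho1 ho2 ho3 hn1 hn2 hn3 hsum hsq heq
    C.eight_dvd_card C.not_sixteen_dvd_card

end Cfsg.Agent.S0848
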