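-- Statement S4607 (Brandt: k(B) = 2 iff |D| = 2).  helper27 (planner/assembler) with leaves by
-- helpers 6, 14, 18, 19, 21, 22, 23, 24, 25, 29.
-- Route (Külshammer): over the algebraically closed residue field F the block algebra ē F[G] is a
-- symmetric algebra with local centre of dimension k(B) = 2, hence of dimension 2 n²
-- (`SymAlgMain`, `BlkAlgMain`); with l(B) = 1 and the rank-one-block degree formula this forces
-- p^d = 2 (`BlkGlueC3`).  Conversely (`BlkGlueC4`): |D| = 2 gives p = 2, defect 1, all heights 0,
-- and Broué's inequality for the major subsection (z, b) gives k(B)² ≤ 4, while k(B) ≠ 1.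
import Cfsg.Statements.S4607
import Cfsg.Agent.Lib.Helper27.BlkAlgMain
import Cfsg.Agent.Lib.Helper21.BlkGlueC3
import Cfsg.Agent.Lib.Helper27.BlkGlueC4

set_option autoImplicit false
open Cfsg

namespace Cfsg.Agent.S4607

/-- Let G be a finite group, p a prime, M a maximal ideal of the algebraic integers containing p, and B a p-block of G with defect group D. Then B contains exactly two irreducible characters if and only if D has order 2. -/
theorem result {G : Type*} [Group G] [Finite G] (p : ℕ) [Fact p.Prime] (M : Ideal Cfsg.AlgInt) (hM : Cfsg.IsPModular p M) (B : Set (Cfsg.IrrCharacter G)) (hB : Cfsg.IsPBlock M B) (D : Subgroup G) (hD : Cfsg.IsDefectGroup p M B D) : Nat.card B = 2 ↔ Nat.card D = 2 := by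
  classical
  let _ : Fintype G := Fintype.ofFinite G
  let _ : Fintype (IrrCharacter G) := Fintype.ofFinite _
  constructor
  · intro h2
    obtain ⟨n, hn⟩ := Cfsg.Agent.Lib.Helper27.BlkAlgMain.blockDegSq_eq_two_mul_sq M hM hB h2
    exact Cfsg.Agent.Lib.Helper21.BlkGlueC3.card_defectGroup_eq_two p M hM B hB D hD h2 n hn
  · intro h2
    exact Cfsg.Agent.Lib.Helper27.BlkGlueC4.card_block_eq_two p M hM B hB D hD h2

end Cfsg.Agent.S4607
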