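import Cfsg.Statements.S2362
-- import your own Cfsg.Agent.* helpers here
import Cfsg.Agent.Lib.Helper15.OrthSemi
import Cfsg.Agent.Lib.Helper15.OrthDisc
import Cfsg.Agent.Lib.Helper15.OrthReal
import Cfsg.Agent.Lib.Helper5.OmegaCenter
import Cfsg.Agent.Lib.Helper12.ElusE
import Cfsg.Agent.Lib.Helper25.SpinForms
import Cfsg.Agent.Lib.Helper15.FieldExt
import Cfsg.Agent.Lib.Helper12.SpE
import Cfsg.Agent.Lib.Helper5.SpMax
import Cfsg.Agent.Lib.Helper19.Zsigmondy
import Cfsg.Agent.S2472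

set_option autoImplicit false
open Cfsg

namespace Cfsg.Agent.S2362

set_option linter.unusedSectionVars false

section N

open Module QuadraticMap Cfsg.Agent.Lib.Helper15 Cfsg.Agent.Lib.Helper15.OrthSemi
  Cfsg.Agent.Lib.Helper15.OrthDisc Cfsg.Agent.Lib.Helper12.Elus Cfsg.Agent.Lib.Helper15.HermPair
open scoped Matrix

variable {ι : Type} [Fintype ι] [DecidableEq ι] {F : Type*} [Field F] [Fintype F]
  (Q : QuadraticForm F (ι → F))

/-- the linear map of an isometry matrix -/
noncomputable def toL : ↥(Cfsg.isometryGroup F ⇑Q) →* Module.End F (ι → F) where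
  toFun g := Matrix.toLin' ((g : GL ι F) : Matrix ι ι F)
  map_one' := by
    show Matrix.toLin' ((1 : GL ι F) : Matrix ι ι F) = 1
    rw [Units.val_one, Matrix.toLin'_one]
    rfl
  map_mul' a b := by
    show Matrix.toLin' (((a : GL ι F) * (b : GL ι F) : GL ι F) : Matrix ι ι F) = _
    rw [Units.val_mul, Matrix.toLin'_mul]
    rfl

theorem toL_apply (g : ↥(Cfsg.isometryGroup F ⇑Q)) (v : ι → F) :
    toL Q g v = ((g : GL ι F) : Matrix ι ι F) *ᵥ v := Matrix.toLin'_apply _ _

theorem toL_iso (g : ↥(Cfsg.isometryGroup F ⇑Q)) (v : ι → F) : Q (toL Q g v) = Q v := by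
  have := Cfsg.Agent.Lib.Helper25.CD.toOG_mem_OG Q g v
  rwa [Cfsg.Agent.Lib.Helper25.CD.toOG_apply] at this

theorem toL_injective : Function.Injective (toL Q) := by
  intro a b hab
  apply Subtype.ext
  apply Units.ext
  exact Matrix.toLin'.injective hab

theorem det_toL (g : ↥(Cfsg.isometryGroup F ⇑Q)) :
    LinearMap.det (toL Q g) = ((g : GL ι F) : Matrix ι ι F).det := LinearMap.det_toLin' _

theorem det_of_mem_omega (h2 : (2 : F) ≠ 0) (hQ : (polarBilin Q).Nondegenerate)
    (g : ↥(Cfsg.isometryGroup F ⇑Q)) (hg : g ∈ Cfsg.Omega F ⇑Q) :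
    ((g : GL ι F) : Matrix ι ι F).det = 1 := by
  have h1 := Cfsg.Agent.Lib.Helper25.Spin.omega_le_special Q h2 hQ hg
  unfold Cfsg.specialIsometryGroup at h1
  rw [MonoidHom.mem_ker] at h1
  exact congrArg Units.val h1

theorem center_eq_bot (h2 : (2 : F) ≠ 0) (hQ : (polarBilin Q).Nondegenerate)
    (hn : 4 ≤ Fintype.card ι) (hoddι : Odd (Fintype.card ι)) :
    Subgroup.center ↥(Cfsg.Omega F ⇑Q) = ⊥ := by
  rw [Subgroup.eq_bot_iff_forall]
  intro z hz
  have hex : Fintype.card F ≠ 2 ∨ Fintype.card ι ≠ 4 := by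
    right
    intro h
    rw [h] at hoddι
    exact absurd hoddι (by decide)
  have h1 := Cfsg.Agent.Lib.Helper5.OmegaCenter.center_pm_one Q hQ hex hn
    (Cfsg.Agent.Lib.Helper5.OmegaCenter.coe_mem_CZ Q z hz)
  have hdet := det_of_mem_omega Q h2 hQ z.1 z.2
  rcases h1 with h | h
  · apply Cfsg.Agent.Lib.Helper5.OmegaCenter.eq_of_coe_eq Q
    rw [h]
    rfl
  · exfalso
    rw [h, Matrix.det_neg, Matrix.det_one, mul_one, hoddι.neg_one_pow] at hdet
    apply h2
    linear_combination -hdet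

/-- arithmetic facts about the prime `r` -/
theorem prime_facts {p : ℕ} [Fact p.Prime] [CharP F p] (r : ℕ) [hr : Fact r.Prime] (e : ℕ)
    (he2 : 2 ≤ e) (he : orderOf (Fintype.card F : ZMod r) = e) :
    r ≠ 2 ∧ r ≠ p ∧ (r : F) ≠ 0 ∧ ¬ r ∣ Fintype.card F := by
  obtain ⟨n, -, hn⟩ := FiniteField.card F p
  have hq0 : (Fintype.card F : ZMod r) ≠ 0 := by
    intro h0
    rw [h0] at he
    have h1 : orderOf (0 : ZMod r) = 0 := by
      rw [orderOf_eq_zero_iff']
      intro m hm
      rw [zero_pow hm.ne']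
      exact zero_ne_one
    omega
  have hrq : ¬ r ∣ Fintype.card F := by
    intro h
    exact hq0 ((ZMod.natCast_eq_zero_iff _ _).2 h)
  have hrp : r ≠ p := by
    rintro rfl
    apply hrq
    rw [hn]
    exact dvd_pow_self _ n.pos.ne'
  refine ⟨?_, hrp, ?_, hrq⟩
  · rintro rfl
    have h1 := ZMod.pow_card_sub_one_eq_one hq0
    have h2 := orderOf_dvd_of_pow_eq_one h1
    rw [he] at h2
    have := Nat.le_of_dvd (by norm_num) h2
    omega
  · rw [Ne, CharP.cast_eq_zero_iff F p]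
    intro hd
    exact hrp ((Nat.prime_dvd_prime_iff_eq Fact.out hr.out).1 hd).symm

theorem no_elt_Q {p : ℕ} [Fact p.Prime] [CharP F p] (hoddq : Odd (Fintype.card F))
    (hQ : (polarBilin Q).Nondegenerate) (k : ℕ) (hk : 2 ≤ k) (hcard : Fintype.card ι = 2 * k + 3)
    (r : ℕ) [hr : Fact r.Prime]
    (he : (orderOf (Fintype.card F : ZMod r) = 2 * k ∧ Fintype.card F ^ k % 4 = 1) ∨
      (orderOf (Fintype.card F : ZMod r) = k ∧ Fintype.card F ^ k % 4 = 3))
    (g : Cfsg.POmega F ⇑Q) (hg : orderOf g = 2 * p * r) : False := by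
  have h2 : (2 : F) ≠ 0 := Cfsg.Agent.Lib.Helper25.Spin.two_ne_zero_of_odd_card hoddq
  have hp : p.Prime := Fact.out
  have hkodd : Fintype.card F ^ k % 4 = 3 → Odd k := by
    intro h3
    by_contra hev
    rw [Nat.not_odd_iff_even] at hev
    obtain ⟨j, rfl⟩ := hev
    have h4 : Fintype.card F ^ (j + j) = (Fintype.card F ^ j) ^ 2 := by ring
    rw [h4] at h3
    have h5 : Odd (Fintype.card F ^ j) := hoddq.pow
    obtain ⟨d, hd⟩ := h5
    rw [hd] at h3
    have h6 : (2 * d + 1) ^ 2 = 4 * (d * d + d) + 1 := by ring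
    rw [h6] at h3
    omega
  have he' : orderOf (Fintype.card F : ZMod r) = 2 * k ∨
      (orderOf (Fintype.card F : ZMod r) = k ∧ Odd k) := by
    rcases he with h | h
    · exact Or.inl h.1
    · exact Or.inr ⟨h.1, hkodd h.2⟩
  obtain ⟨hr2, hrp, hr0, hrq⟩ : r ≠ 2 ∧ r ≠ p ∧ (r : F) ≠ 0 ∧ ¬ r ∣ Fintype.card F := by
    rcases he with h | h
    · exact prime_facts r (2 * k) (by omega) h.1
    · exact prime_facts r k hk h.1
  -- the centre is trivial: lift
  have hbot := center_eq_bot Q h2 hQ (by omega) (by rw [hcard]; exact ⟨k + 1, by ring⟩)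
  obtain ⟨gh, rfl⟩ := QuotientGroup.mk_surjective g
  have hinj : Function.Injective
      (QuotientGroup.mk' (Subgroup.center ↥(Cfsg.Omega F ⇑Q))) := by
    rw [← MonoidHom.ker_eq_bot_iff, QuotientGroup.ker_mk', hbot]
  have hord : orderOf gh = 2 * p * r := by
    rw [← hg]
    exact (orderOf_injective _ hinj gh).symm
  -- the linear map
  have hGord : orderOf (toL Q (gh : ↥(Cfsg.isometryGroup F ⇑Q))) = 2 * p * r := by
    rw [← hord]
    exact orderOf_injective ((toL Q).comp (Cfsg.Omega F ⇑Q).subtype)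
      ((toL_injective Q).comp Subtype.val_injective) gh
  obtain ⟨G, hG⟩ : ∃ G, G = toL Q (gh : ↥(Cfsg.isometryGroup F ⇑Q)) := ⟨_, rfl⟩
  rw [← hG] at hGord
  have hGpow : ∀ j, G ^ j = toL Q ((gh : ↥(Cfsg.isometryGroup F ⇑Q)) ^ j) := by
    intro j
    rw [hG, map_pow]
  have hGiso : ∀ j v, Q ((G ^ j) v) = Q v := by
    intro j v
    rw [hGpow]
    exact toL_iso Q _ v
  have hGcomm : ∀ i j v, (G ^ i) ((G ^ j) v) = (G ^ j) ((G ^ i) v) := by
    intro i j v
    rw [← Module.End.mul_apply, ← Module.End.mul_apply, (Commute.pow_pow_self G i j).eq]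
  have hGone : G ^ (2 * p * r) = 1 := by
    rw [← hGord]
    exact pow_orderOf_eq_one G
  have hGne : ∀ j, 0 < j → j < 2 * p * r → G ^ j ≠ 1 := by
    intro j hj0 hj h1
    have := orderOf_dvd_of_pow_eq_one h1
    rw [hGord] at this
    have := Nat.le_of_dvd hj0 this
    omega
  have hrpos : 0 < r := hr.out.pos
  have hr1 : 1 < r := hr.out.one_lt
  have hp1 : 1 < p := hp.one_lt
  obtain ⟨x, hxdef⟩ : ∃ x, x = G ^ (2 * p) := ⟨_, rfl⟩
  obtain ⟨u, hudef⟩ : ∃ u, u = G ^ (2 * r) := ⟨_, rfl⟩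
  obtain ⟨t, htdef⟩ : ∃ t, t = G ^ (p * r) := ⟨_, rfl⟩
  have hxr : x ^ r = 1 := by rw [hxdef, ← pow_mul, hGone]
  have hx1 : x ≠ 1 := by
    rw [hxdef]
    apply hGne _ (by positivity)
    nlinarith
  have hup : u ^ p = 1 := by
    rw [hudef, ← pow_mul, ← hGone]
    congr 1
    ring
  have hu1 : u ≠ 1 := by
    rw [hudef]
    apply hGne _ (by positivity)
    nlinarith
  have htt : ∀ v, t (t v) = v := by
    intro v
    rw [← Module.End.mul_apply, htdef, ← pow_add, ← two_mul, ← mul_assoc, hGone,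
      Module.End.one_apply]
  have ht1 : t ≠ 1 := by
    rw [htdef]
    apply hGne _ (by positivity)
    nlinarith
  have hx : ∀ v, Q (x v) = Q v := by rw [hxdef]; exact hGiso _
  have hu : ∀ v, Q (u v) = Q v := by rw [hudef]; exact hGiso _
  have ht : ∀ v, Q (t v) = Q v := by rw [htdef]; exact hGiso _
  have hxu : ∀ v, x (u v) = u (x v) := by rw [hxdef, hudef]; exact hGcomm _ _
  have hxt : ∀ v, x (t v) = t (x v) := by rw [hxdef, htdef]; exact hGcomm _ _
  have hut : ∀ v, u (t v) = t (u v) := by rw [hudef, htdef]; exact hGcomm _ _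
  have hgt : (gh : ↥(Cfsg.isometryGroup F ⇑Q)) ^ (p * r) ∈ Cfsg.Omega F ⇑Q :=
    Subgroup.pow_mem _ gh.2 _
  have hdet : LinearMap.det t = 1 := by
    rw [htdef, hGpow, det_toL]
    exact det_of_mem_omega Q h2 hQ _ hgt
  have hnd : NdOn Q ⊤ := ndOn_top Q hQ
  have hdimV : finrank F (ι → F) = 2 * k + 3 := by
    rw [Module.finrank_fintype_fun_eq_card, hcard]
  -- the dimension of the commutator space
  have hWnd : NdOn Q (movR x) := ndOn_mov Q hnd x hx r hxr hr0
  have hdim : finrank F (movR x) = 2 * k := by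
    have h1 := orderOf_dvd_finrank_of_le_movR x r hxr hr0 (movR x) (movR_invariant x) le_rfl
    have h3 := even_finrank_of_fpf Q x hx r hr2 hxr hr0 (movR x) (movR_invariant x) le_rfl hWnd
    have h4 : finrank F (movR x) ≤ 2 * k + 3 := by
      rw [← hdimV]
      exact Submodule.finrank_le _
    have h5 : finrank F (movR x) ≠ 0 := by
      intro h0
      apply hx1
      have hb : movR x = ⊥ := Submodule.finrank_eq_zero.1 h0
      refine LinearMap.ext fun v => ?_
      have hv : (x - 1) v ∈ movR x := ⟨v, rfl⟩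
      rw [hb, Submodule.mem_bot, LinearMap.sub_apply, sub_eq_zero] at hv
      exact hv
    obtain ⟨c, hc⟩ := h3
    rcases he' with h | ⟨h, hko⟩
    · rw [h] at h1
      obtain ⟨d, hd⟩ := h1
      have hd1 : d = 1 := by
        rcases Nat.lt_or_ge d 2 with hlt | hge
        · interval_cases d
          · omega
          · rfl
        · have : 2 * k * 2 ≤ 2 * k * d := Nat.mul_le_mul_left _ hge
          omega
      rw [hd, hd1, mul_one]
    · rw [h] at h1
      obtain ⟨d, hd⟩ := h1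
      obtain ⟨j, hj⟩ := hko
      have hd2 : d = 2 := by
        rcases Nat.lt_or_ge d 3 with hlt | hge
        · interval_cases d
          · omega
          · exfalso
            omega
          · rfl
        · have : k * 3 ≤ k * d := Nat.mul_le_mul_left _ hge
          omega
      rw [hd, hd2]
      ring
  have huW := eq_self_on_mov Q h2 hnd x u hxu hx hu r hxr hr0 hup k hdim he'
  have hstr := invol_structure Q h2 hnd x u t hxu hxt hut hx hu ht r hr2 hxr hr0 hup hu1 htt hdet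
    k (by omega) hdimV hdim he' huW
  rcases hstr with hall | ⟨htW, htA⟩
  · apply ht1
    exact LinearMap.ext fun v => hall v
  -- the spinor norm
  obtain ⟨m, b, hb0, hiff⟩ := neg_on_mem_omega_iff Q h2 hQ (movR x) (fixE x) hWnd k (by omega) hdim
    (fix_sup_mov x r hxr hr0)
    (fun a ha w hw => by
      obtain ⟨w', rfl⟩ := hw
      exact fix_perp_mov Q x hx a ((mem_fixE x a).1 ha) w')
    ((((gh : ↥(Cfsg.isometryGroup F ⇑Q)) ^ (p * r) : ↥(Cfsg.isometryGroup F ⇑Q)) : GL ι F) :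
      Matrix ι ι F)
    (fun w hw => by
      rw [← toL_apply, ← hGpow, ← htdef]
      exact htW w hw)
    (fun a ha => by
      rw [← toL_apply, ← hGpow, ← htdef]
      exact htA a ha)
  have hsq := hiff.1 ⟨_, hgt, rfl⟩
  have hS : LinearMap.BilinForm.IsSymm (polarBilin (resQ Q (movR x))) := by
    constructor
    intro a c
    simp [polar_comm]
  have hN := nondegenerate_resQ Q (movR x) hWnd
  have hWx : ∀ w ∈ movR x, x w ∈ movR x := movR_invariant x
  rcases he with ⟨he1, hq1⟩ | ⟨he1, hq3⟩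
  · -- plus discriminant but minus type
    have h5 : IsSquare ((-1 : F) ^ k) :=
      (Cfsg.Agent.Lib.Helper25.Spin.isSquare_neg_one_pow_iff rfl hoddq k).2 hq1
    have h6 : IsSquare ((-1 : F) ^ k *
        (LinearMap.BilinForm.toMatrix b (polarBilin (resQ Q (movR x)))).det) := h5.mul hsq
    obtain ⟨X, hX, hti⟩ := Cfsg.Agent.Lib.Helper25.DiscType.exists_isotropic_of_isSquare h2 b
      (polarBilin (resQ Q (movR x))) hS hN k hdim h6
    refine no_isotropic Q h2 (movR x) hWnd k hdim x hx hWx r hr.out hxr ?_ hrq ?_ X hX hti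
    · intro w hw hxw
      have h1 : w ∈ fixE x ⊓ movR x := ⟨(mem_fixE x w).2 hxw, hw⟩
      rw [fix_inf_mov x r hxr hr0] at h1
      exact (Submodule.mem_bot F).1 h1
    · intro hdvd
      have h7 := orderOf_dvd_of_dvd_pow_sub_one r _ k Fintype.card_pos hdvd
      rw [he1] at h7
      have := Nat.le_of_dvd (by omega) h7
      omega
  · -- minus discriminant but plus type
    have hko := hkodd hq3
    obtain ⟨X, hX, hti⟩ := exists_isotropic Q x hx r hr2 hrp hxr k hko he1 hdim
    have h5 := Cfsg.Agent.Lib.Helper25.DiscType.isSquare_of_isotropic b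
      (polarBilin (resQ Q (movR x))) hS k hdim X hX hti
    have h6 : ¬ IsSquare ((-1 : F) ^ k) :=
      (Cfsg.Agent.Lib.Helper25.Spin.not_isSquare_neg_one_pow_iff rfl hoddq k).2 hq3
    have h7 : ((-1 : F) ^ k) ≠ 0 := pow_ne_zero _ (neg_ne_zero.2 one_ne_zero)
    rw [Cfsg.Agent.Lib.Helper25.Spin.isSquare_mul_iff h7 hb0] at h5
    exact h6 (h5.2 hsq)

end N

section E

open Module Matrix Cfsg.Agent.Lib.Helper12.Elus Cfsg.Agent.Lib.Helper12.Sp
  Cfsg.Agent.Lib.Helper15 Cfsg.Agent.Lib.Helper5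
open scoped Matrix

section grp

/-- order of the image of a product of three commuting elements -/
theorem orderOf_mk_three {G : Type*} [Group G] (Z : Subgroup G) [Z.Normal] (x z y : G) (p r : ℕ)
    (hp : p.Prime) (hr : r.Prime) (hp2 : p ≠ 2) (hr2 : r ≠ 2)
    (hxz : Commute x z) (hxy : Commute x y) (hzy : Commute z y)
    (hxr : x ^ r = 1) (hz2 : z ^ 2 = 1) (hyp : y ^ p = 1)
    (hxZ : x ^ (2 * p) ∉ Z) (hzZ : z ∉ Z) (hyZ : y ^ (2 * r) ∉ Z) :
    orderOf (QuotientGroup.mk (x * z * y) : G ⧸ Z) = 2 * p * r := by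
  have hpow : ∀ m, (x * z * y) ^ m = x ^ m * z ^ m * y ^ m := by
    intro m
    rw [(hxy.mul_left hzy).mul_pow, hxz.mul_pow]
  have hppos := hp.pos
  have hrpos := hr.pos
  apply orderOf_eq_of_pow_and_pow_div_prime (by positivity)
  · rw [← QuotientGroup.mk_pow, hpow]
    have h1 : x ^ (2 * p * r) = 1 := by rw [pow_mul, ← pow_mul, mul_comm, pow_mul, hxr, one_pow]
    have h2 : z ^ (2 * p * r) = 1 := by rw [mul_assoc, pow_mul, hz2, one_pow]
    have h3 : y ^ (2 * p * r) = 1 := by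
      rw [mul_comm 2 p, mul_assoc, pow_mul, hyp, one_pow]
    rw [h1, h2, h3, one_mul, one_mul]
    rfl
  · intro l hl hdvd
    have hcases : l = 2 ∨ l = p ∨ l = r := by
      rcases (Nat.Prime.dvd_mul hl).1 hdvd with h | h
      · rcases (Nat.Prime.dvd_mul hl).1 h with h | h
        · left; exact (Nat.prime_dvd_prime_iff_eq hl Nat.prime_two).1 h
        · right; left; exact (Nat.prime_dvd_prime_iff_eq hl hp).1 h
      · right; right; exact (Nat.prime_dvd_prime_iff_eq hl hr).1 h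
    rcases hcases with rfl | rfl | rfl
    · have e : 2 * p * r / 2 = p * r := by
        rw [mul_assoc, Nat.mul_div_cancel_left _ (by norm_num)]
      rw [e, ← QuotientGroup.mk_pow, hpow, Ne, QuotientGroup.eq_one_iff]
      have h1 : x ^ (p * r) = 1 := by rw [mul_comm, pow_mul, hxr, one_pow]
      have h3 : y ^ (p * r) = 1 := by rw [pow_mul, hyp, one_pow]
      have h2 : z ^ (p * r) = z := by
        have hodd : Odd (p * r) := (hp.odd_of_ne_two hp2).mul (hr.odd_of_ne_two hr2)
        obtain ⟨j, hj⟩ := hodd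
        rw [hj, pow_succ, pow_mul, hz2, one_pow, one_mul]
      rw [h1, h2, h3, one_mul, mul_one]
      exact hzZ
    · have e : 2 * l * r / l = 2 * r := by
        rw [mul_comm 2 l, mul_assoc, Nat.mul_div_cancel_left _ hppos]
      rw [e, ← QuotientGroup.mk_pow, hpow, Ne, QuotientGroup.eq_one_iff]
      have h1 : x ^ (2 * r) = 1 := by rw [mul_comm, pow_mul, hxr, one_pow]
      have h2 : z ^ (2 * r) = 1 := by rw [pow_mul, hz2, one_pow]
      rw [h1, h2, one_mul, one_mul]
      exact hyZ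
    · have e : 2 * p * l / l = 2 * p := Nat.mul_div_cancel _ hrpos
      rw [e, ← QuotientGroup.mk_pow, hpow, Ne, QuotientGroup.eq_one_iff]
      have h3 : y ^ (2 * p) = 1 := by rw [mul_comm, pow_mul, hyp, one_pow]
      have h2 : z ^ (2 * p) = 1 := by rw [pow_mul, hz2, one_pow]
      rw [h3, h2, mul_one, mul_one]
      exact hxZ

end grp

section invol

variable {F : Type*} [Field F]

/-- the involution `-1` on `[V, A]`, `1` on `C_V(A)`, for a semisimple symplectic matrix `A` -/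
theorem exists_invol (n : ℕ) (A : Matrix (Fin n ⊕ Fin n) (Fin n ⊕ Fin n) F)
    (hA : A ∈ Matrix.symplecticGroup (Fin n) F) (r : ℕ) (hAr : A ^ r = 1) (hr0 : (r : F) ≠ 0) :
    ∃ Z : Matrix (Fin n ⊕ Fin n) (Fin n ⊕ Fin n) F, Z ∈ Matrix.symplecticGroup (Fin n) F ∧
      Z * Z = 1 ∧ (∀ B, A * B = B * A → Z * B = B * Z) ∧ (∀ v, A *ᵥ v = v → Z *ᵥ v = v) ∧
      (∀ w, Z *ᵥ (A *ᵥ w - w) = -(A *ᵥ w - w)) := by
  obtain ⟨S, hS⟩ : ∃ S, S = ∑ i ∈ Finset.range r, A ^ i := ⟨_, rfl⟩
  have hAS : A * S = S := by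
    have := mul_geom_sum A r
    rw [hAr, sub_self, ← hS, sub_mul, one_mul, sub_eq_zero] at this
    exact this
  have hSA : S * A = S := by
    have := geom_sum_mul A r
    rw [hAr, sub_self, ← hS, mul_sub, mul_one, sub_eq_zero] at this
    exact this
  have hAiS : ∀ i, A ^ i * S = S := by
    intro i
    induction i with
    | zero => rw [pow_zero, one_mul]
    | succ i ih => rw [pow_succ, mul_assoc, hAS, ih]
  have hSS : S * S = (r : F) • S := by
    have h1 : (∑ i ∈ Finset.range r, A ^ i) * S = ∑ i ∈ Finset.range r, A ^ i * S :=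
      Finset.sum_mul _ _ _
    rw [← hS] at h1
    rw [h1, Finset.sum_congr rfl (fun i _ => hAiS i), Finset.sum_const, Finset.card_range,
      Nat.cast_smul_eq_nsmul]
  obtain ⟨J, hJdef⟩ : ∃ J, J = Matrix.J (Fin n) F := ⟨_, rfl⟩
  have hJ : ∀ i, (A ^ i)ᵀ * J * A ^ i = J := by
    intro i
    rw [hJdef]
    exact SymplecticGroup.mem_iff'.1 (pow_mem hA i)
  have hT1 : Sᵀ * J * S = (r : F) • (J * S) := by
    have h1 : (∑ i ∈ Finset.range r, A ^ i)ᵀ * J * S
        = ∑ i ∈ Finset.range r, (A ^ i)ᵀ * J * S := by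
      rw [Matrix.transpose_sum, Finset.sum_mul, Finset.sum_mul]
    rw [← hS] at h1
    rw [h1]
    have h2 : ∀ i ∈ Finset.range r, (A ^ i)ᵀ * J * S = J * S := by
      intro i _
      conv_lhs => rw [← hAiS i, ← mul_assoc, hJ i]
    rw [Finset.sum_congr rfl h2, Finset.sum_const, Finset.card_range, Nat.cast_smul_eq_nsmul]
  have hT2 : Sᵀ * J * S = (r : F) • (Sᵀ * J) := by
    have h1 : Sᵀ * J * (∑ i ∈ Finset.range r, A ^ i)
        = ∑ i ∈ Finset.range r, Sᵀ * J * A ^ i := Finset.mul_sum _ _ _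
    rw [← hS] at h1
    rw [h1]
    have h2 : ∀ i ∈ Finset.range r, Sᵀ * J * A ^ i = Sᵀ * J := by
      intro i _
      have h3 : Sᵀ = Sᵀ * (A ^ i)ᵀ := by
        rw [← Matrix.transpose_mul, hAiS i]
      conv_lhs => rw [h3, mul_assoc, mul_assoc, ← mul_assoc _ J, hJ i]
    rw [Finset.sum_congr rfl h2, Finset.sum_const, Finset.card_range, Nat.cast_smul_eq_nsmul]
  obtain ⟨P, hP⟩ : ∃ P, P = (r : F)⁻¹ • S := ⟨_, rfl⟩
  have hPP : P * P = P := by
    rw [hP, Matrix.smul_mul, Matrix.mul_smul, hSS, smul_smul, smul_smul, mul_assoc,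
      inv_mul_cancel₀ hr0, mul_one]
  have hK1 : Pᵀ * J * P = J * P := by
    rw [hP, Matrix.transpose_smul, Matrix.smul_mul, Matrix.smul_mul, Matrix.mul_smul, hT1,
      Matrix.mul_smul, smul_smul, smul_smul, mul_assoc, inv_mul_cancel₀ hr0, mul_one]
  have hK2 : Pᵀ * J = J * P := by
    rw [← hK1]
    rw [hP, Matrix.transpose_smul, Matrix.smul_mul, Matrix.smul_mul,
      Matrix.mul_smul, hT2, smul_smul, smul_smul, mul_assoc, inv_mul_cancel₀ hr0, mul_one]
  refine ⟨P + P - 1, ?_, ?_, ?_, ?_, ?_⟩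
  · rw [SymplecticGroup.mem_iff', ← hJdef, Matrix.transpose_sub, Matrix.transpose_add,
      Matrix.transpose_one]
    simp only [add_mul, mul_add, sub_mul, mul_sub, one_mul, mul_one, hK1]
    simp only [hK2]
    abel
  · simp only [add_mul, mul_add, sub_mul, mul_sub, one_mul, mul_one, hPP]
    abel
  · intro B hB
    have h1 : ∀ i, A ^ i * B = B * A ^ i := by
      intro i
      exact ((Commute.pow_left (show Commute A B from hB) i)).eq
    have h2 : S * B = B * S := by
      rw [hS, Finset.sum_mul, Finset.mul_sum]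
      exact Finset.sum_congr rfl (fun i _ => h1 i)
    have h3 : P * B = B * P := by
      rw [hP, Matrix.smul_mul, Matrix.mul_smul, h2]
    simp only [add_mul, mul_add, sub_mul, mul_sub, one_mul, mul_one, h3]
  · intro v hv
    have h1 : ∀ i, A ^ i *ᵥ v = v := by
      intro i
      induction i with
      | zero => rw [pow_zero, Matrix.one_mulVec]
      | succ i ih => rw [pow_succ, ← Matrix.mulVec_mulVec, hv, ih]
    have h2 : S *ᵥ v = (r : F) • v := by
      rw [hS, Matrix.sum_mulVec, Finset.sum_congr rfl (fun i _ => h1 i), Finset.sum_const,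
        Finset.card_range, Nat.cast_smul_eq_nsmul]
    have h3 : P *ᵥ v = v := by
      rw [hP, Matrix.smul_mulVec, h2, smul_smul, inv_mul_cancel₀ hr0, one_smul]
    rw [Matrix.sub_mulVec, Matrix.add_mulVec, h3, Matrix.one_mulVec, add_sub_cancel_right]
  · intro w
    have h2 : S *ᵥ (A *ᵥ w - w) = 0 := by
      rw [Matrix.mulVec_sub, Matrix.mulVec_mulVec, hSA, sub_self]
    have h3 : P *ᵥ (A *ᵥ w - w) = 0 := by
      rw [hP, Matrix.smul_mulVec, h2, smul_zero]
    rw [Matrix.sub_mulVec, Matrix.add_mulVec, h3, Matrix.one_mulVec, add_zero, zero_sub]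

end invol

section sp

variable {F : Type*} [Field F] [Fintype F]

open Cfsg.Agent.S2472 in
/-- existence of elements of order `2 p r` in `PSp` -/
theorem exists_elt (p : ℕ) [hp : Fact p.Prime] [CharP F p] (hp2 : p ≠ 2) (n : ℕ) (hn : 2 ≤ n)
    (r : ℕ) [hr : Fact r.Prime] (hr2 : r ≠ 2) (hrp : r ≠ p)
    (hb : 2 * n = 2 + blockDim (Fintype.card F) r * 1) :
    2 * p * r ∈ Set.range (orderOf : Cfsg.PSp n F → ℕ) := by
  classical
  obtain ⟨A₀, hA₀mem, hA₀r, hfix, -⟩ := exists_sp_model (F := F) r hr2 hrp n 2 1 hb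
  have hr0 : (r : F) ≠ 0 := by
    rw [Ne, CharP.cast_eq_zero_iff F p]
    intro hd
    exact hrp ((Nat.prime_dvd_prime_iff_eq hp.out hr.out).1 hd).symm
  have h20 : (2 : F) ≠ 0 := by
    have h1 : ((2 : ℕ) : F) ≠ 0 := by
      rw [Ne, CharP.cast_eq_zero_iff F p]
      intro hd
      exact hp2 ((Nat.prime_dvd_prime_iff_eq hp.out Nat.prime_two).1 hd)
    exact_mod_cast h1
  obtain ⟨Z, hZmem, hZZ, hZcomm, hZfix, hZmov⟩ := exists_invol n A₀ hA₀mem r hA₀r hr0
  -- a nonzero fixed vector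
  have hfixpos : 0 < finrank F (fixE (Matrix.toLin' A₀)) := by rw [hfix]; omega
  obtain ⟨⟨v, hvfix⟩, hv0'⟩ := finrank_pos_iff_exists_ne_zero.1 hfixpos
  have hv0 : v ≠ 0 := fun h => hv0' (Subtype.ext h)
  have hA₀v : A₀ *ᵥ v = v := by
    rw [mem_fixE, Matrix.toLin'_apply] at hvfix
    exact hvfix
  have hA₀1 : A₀ ≠ 1 := by
    intro h1
    have h2 : fixE (Matrix.toLin' A₀) = ⊤ := by
      rw [eq_top_iff]
      intro w _
      rw [mem_fixE, h1, Matrix.toLin'_one]
      rfl
    rw [h2, finrank_top, std_finrank] at hfix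
    omega
  -- the transvection
  obtain ⟨t, ht⟩ : ∃ t, t = Cfsg.sympTransvection n v (1 : F) := ⟨_, rfl⟩
  have htmem : t ∈ Matrix.symplecticGroup (Fin n) F := by
    rw [ht]
    exact sympTransvection_mem n v 1
  have htp : t ^ p = 1 := by
    rw [ht, transv_pow, CharP.cast_eq_zero F p, zero_mul]
    unfold Cfsg.sympTransvection
    rw [zero_smul, add_zero]
  have htv : ∀ x, t *ᵥ x = x + Cfsg.sympForm n F x v • v := by
    intro x
    rw [ht, sympTransvection_mulVec, one_mul]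
  have ht1 : t ≠ 1 := by
    intro h1
    obtain ⟨a, ha⟩ := sympForm_nondeg v hv0
    have h2 := htv a
    rw [h1, Matrix.one_mulVec] at h2
    have h3 : Cfsg.sympForm n F a v • v = 0 := by
      have := h2.symm
      rwa [add_eq_left] at this
    rcases smul_eq_zero.1 h3 with h4 | h4
    · apply ha
      rw [sympForm_swap, h4, neg_zero]
    · exact hv0 h4
  have hcomm : A₀ * t = t * A₀ := by
    apply SpMax.mat_eq_of_mulVec
    intro x
    rw [← Matrix.mulVec_mulVec, ← Matrix.mulVec_mulVec, htv, htv, Matrix.mulVec_add,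
      Matrix.mulVec_smul, hA₀v]
    congr 2
    conv_lhs => rw [← sympForm_mulVec_of_mem hA₀mem x v, hA₀v]
  -- the involution is not a scalar
  have hZ1 : Z ≠ 1 := by
    intro h1
    apply hA₀1
    apply SpMax.mat_eq_of_mulVec
    intro w
    have h3 := hZmov w
    rw [h1, Matrix.one_mulVec, eq_neg_iff_add_eq_zero, ← two_smul F] at h3
    rcases smul_eq_zero.1 h3 with h4 | h4
    · exact absurd h4 h20
    · rw [Matrix.one_mulVec]
      exact sub_eq_zero.1 h4
  have hZm1 : Z ≠ -1 := by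
    intro h1
    have h3 := hZfix v hA₀v
    rw [h1, Matrix.neg_mulVec, Matrix.one_mulVec, neg_eq_iff_add_eq_zero, ← two_smul F] at h3
    rcases smul_eq_zero.1 h3 with h4 | h4
    · exact h20 h4
    · exact hv0 h4
  obtain ⟨x, hx⟩ : ∃ x : Matrix.symplecticGroup (Fin n) F, x = ⟨A₀, hA₀mem⟩ := ⟨_, rfl⟩
  obtain ⟨y, hy⟩ : ∃ y : Matrix.symplecticGroup (Fin n) F, y = ⟨t, htmem⟩ := ⟨_, rfl⟩
  obtain ⟨z, hz⟩ : ∃ z : Matrix.symplecticGroup (Fin n) F, z = ⟨Z, hZmem⟩ := ⟨_, rfl⟩
  have hxr : x ^ r = 1 := by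
    apply Subtype.ext
    rw [SubmonoidClass.coe_pow, hx]
    exact hA₀r
  have hyp : y ^ p = 1 := by
    apply Subtype.ext
    rw [SubmonoidClass.coe_pow, hy]
    exact htp
  have hz2 : z ^ 2 = 1 := by
    apply Subtype.ext
    rw [SubmonoidClass.coe_pow, hz, pow_two]
    exact hZZ
  have hx1 : x ≠ 1 := by
    intro h
    apply hA₀1
    have := congrArg Subtype.val h
    rw [hx] at this
    exact this
  have hy1 : y ≠ 1 := by
    intro h
    apply ht1
    have := congrArg Subtype.val h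
    rw [hy] at this
    exact this
  have hxy : Commute x y := by
    show x * y = y * x
    apply Subtype.ext
    rw [hx, hy]
    exact hcomm
  have hxz : Commute x z := by
    show x * z = z * x
    apply Subtype.ext
    rw [hx, hz]
    exact (hZcomm A₀ rfl).symm
  have hzy : Commute z y := by
    show z * y = y * z
    apply Subtype.ext
    rw [hz, hy]
    exact hZcomm t hcomm
  have hzZ : z ∉ Subgroup.center (Matrix.symplecticGroup (Fin n) F) := by
    intro hzc
    rcases Cfsg.Agent.S0246.center_scalar n (by omega) z hzc with h | h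
    · apply hZ1
      rw [hz] at h
      exact h
    · apply hZm1
      rw [hz] at h
      exact h
  have hordx : orderOf x = r := orderOf_eq_prime hxr hx1
  have hordy : orderOf y = p := orderOf_eq_prime hyp hy1
  have hx2p : x ^ (2 * p) ≠ 1 := by
    intro h
    have h1 := orderOf_dvd_of_pow_eq_one h
    rw [hordx] at h1
    rcases (Nat.Prime.dvd_mul hr.out).1 h1 with h2 | h2
    · exact hr2 ((Nat.prime_dvd_prime_iff_eq hr.out Nat.prime_two).1 h2)
    · exact hrp ((Nat.prime_dvd_prime_iff_eq hr.out hp.out).1 h2)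
  have hy2r : y ^ (2 * r) ≠ 1 := by
    intro h
    have h1 := orderOf_dvd_of_pow_eq_one h
    rw [hordy] at h1
    rcases (Nat.Prime.dvd_mul hp.out).1 h1 with h2 | h2
    · exact hp2 ((Nat.prime_dvd_prime_iff_eq hp.out Nat.prime_two).1 h2)
    · exact hrp ((Nat.prime_dvd_prime_iff_eq hp.out hr.out).1 h2).symm
  refine ⟨QuotientGroup.mk (x * z * y), ?_⟩
  apply orderOf_mk_three (Subgroup.center (Matrix.symplecticGroup (Fin n) F)) x z y p r hp.out hr.out
    hp2 hr2 hxz hxy hzy hxr hz2 hyp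
  · apply not_mem_center_of r (center_coprime_odd n (by omega) r hr.out hr2) _ _ hx2p
    rw [← pow_mul, mul_comm, pow_mul, hxr, one_pow]
  · exact hzZ
  · apply not_mem_center_of p (center_coprime_char p n (by omega)) _ _ hy2r
    rw [← pow_mul, mul_comm, pow_mul, hyp, one_pow]

end sp

section arith

open Cfsg.Agent.Lib.Helper19.Zsigmondy

theorem orderOf_of_isPrim {a n r : ℕ} (ha : 0 < a) (hn : 0 < n) (h : IsPrim a n r) :
    orderOf (a : ZMod r) = n := by
  obtain ⟨hr, hd, hmin⟩ := h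
  have h1 : orderOf (a : ZMod r) ∣ n :=
    orderOf_dvd_of_pow_eq_one ((dvd_pow_sub_one_iff ha).1 hd)
  have h2 : 0 < orderOf (a : ZMod r) := Nat.pos_of_dvd_of_pos h1 hn
  by_contra hne
  have h3 : orderOf (a : ZMod r) < n := lt_of_le_of_ne (Nat.le_of_dvd hn h1) hne
  exact hmin _ h2 h3 ((dvd_pow_sub_one_iff ha).2 (pow_orderOf_eq_one _))

theorem exists_prime (q : ℕ) (hq : Odd q) (hq1 : 1 < q) (k : ℕ) (hk : 2 ≤ k) :
    ∃ r, r.Prime ∧ ((orderOf (q : ZMod r) = 2 * k ∧ q ^ k % 4 = 1) ∨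
      (orderOf (q : ZMod r) = k ∧ q ^ k % 4 = 3)) := by
  have hq2 : q ≠ 2 := by
    rintro rfl
    exact absurd hq (by decide)
  have hoddk : Odd (q ^ k) := hq.pow
  have hcases : q ^ k % 4 = 1 ∨ q ^ k % 4 = 3 := by
    obtain ⟨j, hj⟩ := hoddk
    omega
  rcases hcases with h1 | h3
  · obtain ⟨r, hr⟩ := zsigmondy q (2 * k) hq1 (by omega) (fun h => hq2 h.1) (fun h => by omega)
    exact ⟨r, hr.1, Or.inl ⟨orderOf_of_isPrim (by omega) (by omega) hr, h1⟩⟩
  · have hk3 : 3 ≤ k := by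
      by_contra hlt
      have hk2 : k = 2 := by omega
      rw [hk2] at h3
      obtain ⟨j, hj⟩ := hq
      rw [hj] at h3
      have h6 : (2 * j + 1) ^ 2 = 4 * (j * j + j) + 1 := by ring
      rw [h6] at h3
      omega
    obtain ⟨r, hr⟩ := zsigmondy q k hq1 (by omega) (fun h => hq2 h.1) (fun h => by omega)
    exact ⟨r, hr.1, Or.inr ⟨orderOf_of_isPrim (by omega) (by omega) hr, h3⟩⟩

end arith

end E

section final

open Cfsg.Agent.Lib.Helper15.OrthReal Cfsg.Agent.Lib.Helper12.Sp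

variable {F : Type*} [Field F] [Fintype F]

theorem no_elt {p : ℕ} [Fact p.Prime] [CharP F p] (hodd : Odd (Fintype.card F)) (n : ℕ)
    (hn : 3 ≤ n) (r : ℕ) [hr : Fact r.Prime]
    (he : (orderOf (Fintype.card F : ZMod r) = 2 * (n - 1) ∧ Fintype.card F ^ (n - 1) % 4 = 1) ∨
      (orderOf (Fintype.card F : ZMod r) = n - 1 ∧ Fintype.card F ^ (n - 1) % 4 = 3)) :
    ∀ g : Cfsg.POmega F (Cfsg.quadFormOdd n F), orderOf g ≠ 2 * p * r := by
  have h2 : (2 : F) ≠ 0 := Cfsg.Agent.Lib.Helper25.Spin.two_ne_zero_of_odd_card hodd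
  have hQeq : Cfsg.quadFormOdd n F = ⇑(oddQF n (F := F)) :=
    funext (fun v => (oddQF_apply n v).symm)
  rw [hQeq]
  intro g hg
  refine no_elt_Q (oddQF n (F := F)) hodd (oddQF_nondegenerate h2 n) (n - 1) (by omega) ?_ r he g hg
  rw [Fintype.card_sum, Fintype.card_sum, Fintype.card_unit, Fintype.card_fin]
  omega

theorem main (hodd : Odd (Fintype.card F)) (n : ℕ) (hn : 3 ≤ n) :
    Set.range (orderOf : Cfsg.POmega F (Cfsg.quadFormOdd n F) → ℕ) ≠
      Set.range (orderOf : Cfsg.PSp n F → ℕ) := by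
  obtain ⟨p, hpc⟩ := CharP.exists F
  have := hpc
  have : Fact p.Prime := ⟨CharP.char_is_prime F p⟩
  have hq1 : 1 < Fintype.card F := Fintype.one_lt_card
  obtain ⟨r, hr, he⟩ := exists_prime (Fintype.card F) hodd hq1 (n - 1) (by omega)
  have : Fact r.Prime := ⟨hr⟩
  have h2 : (2 : F) ≠ 0 := Cfsg.Agent.Lib.Helper25.Spin.two_ne_zero_of_odd_card hodd
  have hp2 : p ≠ 2 := by
    rintro rfl
    apply h2
    have := CharP.cast_eq_zero F 2
    exact_mod_cast this
  have hkodd : Fintype.card F ^ (n - 1) % 4 = 3 → Odd (n - 1) := by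
    intro h3
    by_contra hev
    rw [Nat.not_odd_iff_even] at hev
    obtain ⟨j, hj⟩ := hev
    rw [hj] at h3
    have h4 : Fintype.card F ^ (j + j) = (Fintype.card F ^ j) ^ 2 := by ring
    rw [h4] at h3
    have h5 : Odd (Fintype.card F ^ j) := hodd.pow
    obtain ⟨d, hd⟩ := h5
    rw [hd] at h3
    have h6 : (2 * d + 1) ^ 2 = 4 * (d * d + d) + 1 := by ring
    rw [h6] at h3
    omega
  obtain ⟨hr2, hrp, -, -⟩ : r ≠ 2 ∧ r ≠ p ∧ (r : F) ≠ 0 ∧ ¬ r ∣ Fintype.card F := by
    rcases he with h | h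
    · exact prime_facts r (2 * (n - 1)) (by omega) h.1
    · exact prime_facts r (n - 1) (by omega) h.1
  have hb : blockDim (Fintype.card F) r = 2 * (n - 1) := by
    unfold blockDim
    rcases he with h | h
    · rw [h.1, if_pos ⟨n - 1, by ring⟩]
    · rw [h.1, if_neg (Nat.not_even_iff_odd.2 (hkodd h.2))]
  intro heq
  have h1 : 2 * p * r ∈ Set.range (orderOf : Cfsg.PSp n F → ℕ) :=
    exists_elt p hp2 n (by omega) r hr2 hrp (by rw [hb]; omega)
  rw [← heq] at h1
  obtain ⟨g, hg⟩ := h1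
  exact no_elt hodd n hn r he g hg

end final

/-- Let F be a finite field of odd order and n ≥ 3. The simple orthogonal group PΩ(2n+1, F) (type B_n) and the projective symplectic group PSp(2n, F) (type C_n), which have the same order, do not have the same set of element orders. -/
theorem result {F : Type*} [Field F] [Fintype F] (hodd : Odd (Fintype.card F)) (n : ℕ) (hn : 3 ≤ n) :
    Set.range (orderOf : Cfsg.POmega F (Cfsg.quadFormOdd n F) → ℕ) ≠ Set.range (orderOf : Cfsg.PSp n F → ℕ) := by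
  exact main hodd n hn

end Cfsg.Agent.S2362
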