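import Cfsg.Statements.S2472
-- import your own Cfsg.Agent.* helpers here
import Cfsg.Agent.Lib.Helper15.SpCentral
import Cfsg.Agent.Lib.Helper15.PrimeGraphSL
import Cfsg.Agent.Lib.Helper12.SpE
import Cfsg.Agent.Lib.Helper5.SpMax
import Cfsg.Agent.S0246

set_option autoImplicit false
open Cfsg

namespace Cfsg.Agent.S2472

open Module Polynomial Matrix Cfsg.Agent.Lib.Helper12.Elus Cfsg.Agent.Lib.Helper12.Sp
  Cfsg.Agent.Lib.Helper15 Cfsg.Agent.Lib.Helper15.SpCentral Cfsg.Agent.Lib.Helper15.PrimeGraphSL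
  Cfsg.Agent.Lib.Helper5
open scoped Matrix

section grp

/-- a noncentral criterion: an element killed by a number prime to the order of the centre -/
theorem not_mem_center_of {G : Type*} [Group G] [Finite (Subgroup.center G)] (m : ℕ)
    (hcop : Nat.Coprime (Nat.card (Subgroup.center G)) m) (x : G) (hx : x ^ m = 1) (hx1 : x ≠ 1) :
    x ∉ Subgroup.center G := by
  intro hxZ
  apply hx1
  have h1 : orderOf (⟨x, hxZ⟩ : Subgroup.center G) ∣ Nat.card (Subgroup.center G) :=
    orderOf_dvd_natCard _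
  have h2 : orderOf (⟨x, hxZ⟩ : Subgroup.center G) ∣ m := by
    apply orderOf_dvd_of_pow_eq_one
    apply Subtype.ext
    rw [Subgroup.coe_pow]
    exact hx
  have h3 : orderOf (⟨x, hxZ⟩ : Subgroup.center G) = 1 := Nat.eq_one_of_dvd_coprimes hcop h1 h2
  have h4 := orderOf_eq_one_iff.1 h3
  exact congrArg Subtype.val h4

end grp

section sp

variable {F : Type*} [Field F] [Fintype F]

/-- the centre of the symplectic group is a `2`-group -/
theorem center_card (n : ℕ) (hn : 1 ≤ n) :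
    ∃ j, Nat.card (Subgroup.center (Matrix.symplecticGroup (Fin n) F)) = 2 ^ j := by
  have : Fact (Nat.Prime 2) := ⟨Nat.prime_two⟩
  have h : IsPGroup 2 (Subgroup.center (Matrix.symplecticGroup (Fin n) F)) := by
    intro z
    refine ⟨1, ?_⟩
    apply Subtype.ext
    apply Subtype.ext
    rw [pow_one, Subgroup.coe_pow, Subgroup.coe_one]
    show ((z : Matrix.symplecticGroup (Fin n) F) ^ 2 : Matrix.symplecticGroup (Fin n) F).1 = 1
    rw [SubmonoidClass.coe_pow]
    rcases Cfsg.Agent.S0246.center_scalar n hn z.1 z.2 with h | h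
    · rw [h, one_pow]
    · rw [h]
      simp
  exact h.exists_card_eq

theorem center_coprime_odd (n : ℕ) (hn : 1 ≤ n) (r : ℕ) (hr : r.Prime) (hr2 : r ≠ 2) :
    Nat.Coprime (Nat.card (Subgroup.center (Matrix.symplecticGroup (Fin n) F))) r := by
  obtain ⟨j, hj⟩ := center_card (F := F) n hn
  rw [hj]
  exact ((Nat.coprime_primes Nat.prime_two hr).2 (Ne.symm hr2)).pow_left j

theorem center_coprime_char (p : ℕ) [hp : Fact p.Prime] [CharP F p] (n : ℕ) (hn : 1 ≤ n) :
    Nat.Coprime (Nat.card (Subgroup.center (Matrix.symplecticGroup (Fin n) F))) p := by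
  by_cases hp2 : p = 2
  · subst hp2
    have h1 : Subgroup.center (Matrix.symplecticGroup (Fin n) F) = ⊥ := by
      rw [eq_bot_iff]
      intro z hz
      rw [Subgroup.mem_bot]
      apply Subtype.ext
      rcases Cfsg.Agent.S0246.center_scalar n hn z hz with h | h
      · exact h
      · rw [h]
        show (-1 : Matrix (Fin n ⊕ Fin n) (Fin n ⊕ Fin n) F) = 1
        rw [neg_eq_iff_add_eq_zero, ← two_smul F (1 : Matrix (Fin n ⊕ Fin n) (Fin n ⊕ Fin n) F),
          CharTwo.two_eq_zero, zero_smul]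
    rw [h1, Subgroup.card_bot]
    exact Nat.coprime_one_left 2
  · exact center_coprime_odd n hn p hp.out hp2

/-- the endomorphism of a symplectic matrix -/
noncomputable def toEnd {n : ℕ} (g : Matrix.symplecticGroup (Fin n) F) :
    Module.End F (Fin n ⊕ Fin n → F) :=
  Matrix.toLinAlgEquiv' (g : Matrix (Fin n ⊕ Fin n) (Fin n ⊕ Fin n) F)

lemma toEnd_apply {n : ℕ} (g : Matrix.symplecticGroup (Fin n) F) (v : Fin n ⊕ Fin n → F) :
    toEnd g v = (g : Matrix (Fin n ⊕ Fin n) (Fin n ⊕ Fin n) F) *ᵥ v := by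
  unfold toEnd
  rw [Matrix.toLinAlgEquiv'_apply]

lemma toEnd_pow {n : ℕ} (g : Matrix.symplecticGroup (Fin n) F) (m : ℕ) (h : g ^ m = 1) :
    toEnd g ^ m = 1 := by
  have h1 : (g : Matrix (Fin n ⊕ Fin n) (Fin n ⊕ Fin n) F) ^ m = 1 := by
    have := congrArg (fun x : Matrix.symplecticGroup (Fin n) F =>
      (x : Matrix (Fin n ⊕ Fin n) (Fin n ⊕ Fin n) F)) h
    simpa using this
  unfold toEnd
  rw [← map_pow, h1, map_one]

lemma toEnd_commute {n : ℕ} (g h : Matrix.symplecticGroup (Fin n) F) (hc : Commute g h) :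
    Commute (toEnd g) (toEnd h) := by
  show toEnd g * toEnd h = toEnd h * toEnd g
  have h1 : (g : Matrix (Fin n ⊕ Fin n) (Fin n ⊕ Fin n) F) *
      (h : Matrix (Fin n ⊕ Fin n) (Fin n ⊕ Fin n) F) =
      (h : Matrix (Fin n ⊕ Fin n) (Fin n ⊕ Fin n) F) *
      (g : Matrix (Fin n ⊕ Fin n) (Fin n ⊕ Fin n) F) := by
    have := congrArg (fun x : Matrix.symplecticGroup (Fin n) F =>
      (x : Matrix (Fin n ⊕ Fin n) (Fin n ⊕ Fin n) F)) hc.eq
    simpa using this
  unfold toEnd
  rw [← map_mul, ← map_mul, h1]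

lemma toEnd_eq_one {n : ℕ} (g : Matrix.symplecticGroup (Fin n) F) (h : toEnd g = 1) : g = 1 := by
  have h1 : (g : Matrix (Fin n ⊕ Fin n) (Fin n ⊕ Fin n) F) = 1 := by
    apply Matrix.toLinAlgEquiv'.injective
    rw [map_one]; exact h
  exact Subtype.ext h1

lemma toEnd_iso {n : ℕ} (g : Matrix.symplecticGroup (Fin n) F) (u v : Fin n ⊕ Fin n → F) :
    sympBilin n (F := F) (toEnd g u) (toEnd g v) = sympBilin n u v := by
  rw [toEnd_apply, toEnd_apply, sympBilin_apply, sympBilin_apply]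
  exact sympForm_invariant n g u v

/-- non-existence of elements of order `r p` -/
theorem no_elt (p : ℕ) [hp : Fact p.Prime] [CharP F p] (n : ℕ) (hn : 2 ≤ n)
    (r : ℕ) [hr : Fact r.Prime] (hr2 : r ≠ 2) (hrp : r ≠ p)
    (hbig : 2 * n ≤ blockDim (Fintype.card F) r)
    (g : Cfsg.PSp n F) (hg : orderOf g = r * p) : False := by
  classical
  have hba : orderOf (g ^ r) = p := by
    rw [orderOf_pow_of_dvd hr.out.ne_zero (by rw [hg]; exact dvd_mul_right r p), hg,
      Nat.mul_div_cancel_left _ hr.out.pos]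
  have hbb : orderOf (g ^ p) = r := by
    rw [orderOf_pow_of_dvd hp.out.ne_zero (by rw [hg]; exact dvd_mul_left p r), hg,
      Nat.mul_div_cancel _ hp.out.pos]
  obtain ⟨A', B', hA', hB', hA'p, hB'r, hcomm⟩ :=
    lift_pair (G := Matrix.symplecticGroup (Fin n) F) p r hp.out.one_lt hr.out.one_lt
      ((Nat.coprime_primes hp.out hr.out).mpr (Ne.symm hrp))
      (center_coprime_char p n (by omega)) (center_coprime_odd n (by omega) r hr.out hr2)
      (g ^ r) (g ^ p) ((Commute.refl g).pow_pow r p)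
      (by rw [← hba]; exact pow_orderOf_eq_one _) (by rw [← hbb]; exact pow_orderOf_eq_one _)
  have hB1 : B' ≠ 1 := by
    rintro rfl
    have : g ^ p = 1 := by rw [← hB']; rfl
    rw [this, orderOf_one] at hbb
    exact hr.out.one_lt.ne hbb
  have hA1 : A' ≠ 1 := by
    rintro rfl
    have : g ^ r = 1 := by rw [← hA']; rfl
    rw [this, orderOf_one] at hba
    exact hp.out.one_lt.ne hba
  have := centralizer_p_trivial (sympBilin n (F := F)) (stdB_alt n) (stdB_nd n) r hr2 hrp
    (toEnd A') (toEnd B') (toEnd_commute A' B' hcomm) (toEnd_pow A' p hA'p) (toEnd_pow B' r hB'r)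
    (fun h => hB1 (toEnd_eq_one B' h)) (toEnd_iso B') n (std_finrank n) hn hbig
  exact hA1 (toEnd_eq_one A' this)

/-- powers of a symplectic transvection -/
theorem transv_pow (n : ℕ) (v : Fin n ⊕ Fin n → F) (c : F) (j : ℕ) :
    Cfsg.sympTransvection n v c ^ j = Cfsg.sympTransvection n v ((j : F) * c) := by
  induction j with
  | zero =>
    rw [pow_zero, Nat.cast_zero, zero_mul]
    unfold Cfsg.sympTransvection
    rw [zero_smul, add_zero]
  | succ j ih =>
    rw [pow_succ, ih, sympTransvection_mul]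
    congr 1
    push_cast
    ring

/-- existence of elements of order `r p` -/
theorem exists_elt (p : ℕ) [hp : Fact p.Prime] [CharP F p] (n : ℕ) (hn : 2 ≤ n)
    (r : ℕ) [hr : Fact r.Prime] (hr2 : r ≠ 2) (hrp : r ≠ p)
    (hsmall : blockDim (Fintype.card F) r + 2 ≤ 2 * n) :
    r * p ∈ Set.range (orderOf : Cfsg.PSp n F → ℕ) := by
  classical
  have hbpos := blockDim_pos (F := F) r hrp
  obtain ⟨A₀, hA₀mem, hA₀r, hfix, -⟩ := exists_sp_model (F := F) r hr2 hrp n
    (2 * n - blockDim (Fintype.card F) r) 1 (by omega)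
  -- a nonzero fixed vector
  have hfixpos : 0 < finrank F (fixE (Matrix.toLin' A₀)) := by rw [hfix]; omega
  obtain ⟨⟨v, hvfix⟩, hv0'⟩ := finrank_pos_iff_exists_ne_zero.1 hfixpos
  have hv0 : v ≠ 0 := fun h => hv0' (Subtype.ext h)
  have hA₀v : A₀ *ᵥ v = v := by
    rw [mem_fixE, Matrix.toLin'_apply] at hvfix
    exact hvfix
  have hA₀1 : A₀ ≠ 1 := by
    intro h1
    have h2 : fixE (Matrix.toLin' A₀) = ⊤ := by
      rw [eq_top_iff]
      intro w _
      rw [mem_fixE, h1, Matrix.toLin'_one]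
      rfl
    rw [h2, finrank_top, std_finrank] at hfix
    omega
  -- the transvection
  obtain ⟨t, ht⟩ : ∃ t, t = Cfsg.sympTransvection n v (1 : F) := ⟨_, rfl⟩
  have htmem : t ∈ Matrix.symplecticGroup (Fin n) F := by
    rw [ht]
    exact sympTransvection_mem n v 1
  have htp : t ^ p = 1 := by
    rw [ht, transv_pow, CharP.cast_eq_zero F p, zero_mul]
    unfold Cfsg.sympTransvection
    rw [zero_smul, add_zero]
  have htv : ∀ x, t *ᵥ x = x + Cfsg.sympForm n F x v • v := by
    intro x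
    rw [ht, sympTransvection_mulVec, one_mul]
  have ht1 : t ≠ 1 := by
    intro h1
    obtain ⟨a, ha⟩ := sympForm_nondeg v hv0
    have h2 := htv a
    rw [h1, Matrix.one_mulVec] at h2
    have h3 : Cfsg.sympForm n F a v • v = 0 := by
      have := h2.symm
      rwa [add_eq_left] at this
    rcases smul_eq_zero.1 h3 with h4 | h4
    · apply ha
      rw [sympForm_swap, h4, neg_zero]
    · exact hv0 h4
  have hcomm : A₀ * t = t * A₀ := by
    apply SpMax.mat_eq_of_mulVec
    intro x
    rw [← Matrix.mulVec_mulVec, ← Matrix.mulVec_mulVec, htv, htv, Matrix.mulVec_add,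
      Matrix.mulVec_smul, hA₀v]
    congr 2
    conv_lhs => rw [← sympForm_mulVec_of_mem hA₀mem x v, hA₀v]
  obtain ⟨x, hx⟩ : ∃ x : Matrix.symplecticGroup (Fin n) F, x = ⟨A₀, hA₀mem⟩ := ⟨_, rfl⟩
  obtain ⟨y, hy⟩ : ∃ y : Matrix.symplecticGroup (Fin n) F, y = ⟨t, htmem⟩ := ⟨_, rfl⟩
  have hxr : x ^ r = 1 := by
    apply Subtype.ext
    rw [SubmonoidClass.coe_pow, hx]
    exact hA₀r
  have hyp : y ^ p = 1 := by
    apply Subtype.ext
    rw [SubmonoidClass.coe_pow, hy]
    exact htp
  have hx1 : x ≠ 1 := by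
    intro h
    apply hA₀1
    have := congrArg Subtype.val h
    rw [hx] at this
    exact this
  have hy1 : y ≠ 1 := by
    intro h
    apply ht1
    have := congrArg Subtype.val h
    rw [hy] at this
    exact this
  have hc : Commute x y := by
    show x * y = y * x
    apply Subtype.ext
    rw [hx, hy]
    exact hcomm
  exact exists_orderOf_mul (Subgroup.center (Matrix.symplecticGroup (Fin n) F)) x y r p hrp hc
    hxr hyp
    (not_mem_center_of r (center_coprime_odd n (by omega) r hr.out hr2) x hxr hx1)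
    (not_mem_center_of p (center_coprime_char p n (by omega)) y hyp hy1)

theorem main (p : ℕ) [Fact p.Prime] [CharP F p] (n : ℕ) (hn : 2 ≤ n)
    (r : ℕ) (hr : r.Prime) (hr2 : r ≠ 2) (hrp : r ≠ p)
    (k ηk : ℕ) (hk : k = orderOf ((Fintype.card F : ℕ) : ZMod r))
    (hηk : (Odd k ∧ ηk = k) ∨ (Even k ∧ 2 * ηk = k)) :
    (r * p ∉ Set.range (orderOf : Cfsg.PSp n F → ℕ)) ↔ n - 1 < ηk := by
  have : Fact r.Prime := ⟨hr⟩
  have hb : blockDim (Fintype.card F) r = 2 * ηk := by
    rw [blockDim, ← hk]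
    rcases hηk with ⟨hodd, rfl⟩ | ⟨hev, h2⟩
    · rw [if_neg (Nat.not_even_iff_odd.2 hodd)]
    · rw [if_pos hev, h2]
  constructor
  · intro h
    by_contra hcon
    apply h
    apply exists_elt p n hn r hr2 hrp
    omega
  · rintro h ⟨g, hg⟩
    exact no_elt p n hn r hr2 hrp (by omega) g hg

end sp

/-- Adjacency of a prime and the characteristic in the prime graph of PSp(2n,q): let F be a finite field of characteristic p with q elements, n ≥ 2 with PSp(2n,F) simple, and let r ≠ p be an odd prime dividing the order of PSp(2n,F), with k the multiplicative order of q modulo r and η(k) = k for odd k, k/2 for even k. Then PSp(2n,F) has NO element of order r·p if and only if η(k) > n − 1. -/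
theorem result {F : Type*} [Field F] [Fintype F] (p : ℕ) [Fact p.Prime] [CharP F p] (n : ℕ) (hn : 2 ≤ n) (hsmall : n = 2 → 3 ≤ Fintype.card F)
    (r : ℕ) (hr : r.Prime) (hr2 : r ≠ 2) (hrp : r ≠ p) (hrG : r ∣ Nat.card (Cfsg.PSp n F))
    (k ηk : ℕ) (hk : k = orderOf ((Fintype.card F : ℕ) : ZMod r)) (hηk : (Odd k ∧ ηk = k) ∨ (Even k ∧ 2 * ηk = k)) :
    (r * p ∉ Set.range (orderOf : Cfsg.PSp n F → ℕ)) ↔ n - 1 < ηk := by
  exact main p n hn r hr hr2 hrp k ηk hk hηk

end Cfsg.Agent.S2472
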