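import Cfsg.Statements.S2469
-- import your own Cfsg.Agent.* helpers here
import Cfsg.Agent.S2472
import Cfsg.Agent.Lib.Helper15.QuadReal
import Cfsg.Agent.Lib.Helper15.QuadType
import Cfsg.Agent.Lib.Helper15.QuadClasses
import Cfsg.Agent.Lib.Helper15.SpPairs
import Cfsg.Agent.Lib.Helper14.SympCount

set_option autoImplicit false
open Cfsg

namespace Cfsg.Agent.S2469

open Module Polynomial Matrix Cfsg.Agent.Lib.Helper12.Elus Cfsg.Agent.Lib.Helper12.Sp
  Cfsg.Agent.Lib.Helper15 Cfsg.Agent.Lib.Helper15.SpCentral Cfsg.Agent.Lib.Helper15.PrimeGraphSL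
  Cfsg.Agent.Lib.Helper5 QuadraticMap
open scoped Matrix

section fpf

variable {F V : Type*} [Field F] [Fintype F] [AddCommGroup V] [Module F V] [FiniteDimensional F V]

omit [Fintype F] [FiniteDimensional F V] in
/-- an element of odd order fixing `v` under its square fixes `v` -/
theorem fix_of_sq_fix (S : V →ₗ[F] V) (s : ℕ) (hs : Odd s) (hS : S ^ s = 1) (v : V)
    (h : S (S v) = v) : S v = v := by
  obtain ⟨j, hj⟩ := hs
  have h1 : ∀ i : ℕ, (S ^ (2 * i)) v = v := by
    intro i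
    induction i with
    | zero => simp
    | succ i ih =>
      rw [Nat.mul_succ, pow_add, Module.End.mul_apply, pow_two, Module.End.mul_apply, h, ih]
  have h2 : (S ^ s) (S v) = S v := by rw [hS, Module.End.one_apply]
  have h3 : (S ^ s) (S v) = (S ^ (2 * (j + 1))) v := by
    rw [← Module.End.mul_apply, ← pow_succ, hj]
    congr 2
  rw [← h2, h3, h1]

/-- two commuting fixed-point-free isometries of odd prime orders have a common type -/
theorem fpf_pair (B : LinearMap.BilinForm F V) (halt : ∀ v, B v v = 0)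
    (hnd : ∀ x, (∀ y, B x y = 0) → x = 0) (r s : ℕ) [hr : Fact r.Prime] [hs : Fact s.Prime]
    (hs2 : s ≠ 2)
    (hrq : ¬ r ∣ Fintype.card F) (hsq : ¬ s ∣ Fintype.card F)
    (R S : V →ₗ[F] V) (hRS : Commute R S) (hR : R ^ r = 1) (hS : S ^ s = 1)
    (hRiso : ∀ u v, B (R u) (R v) = B u v) (hSiso : ∀ u v, B (S u) (S v) = B u v)
    (hRfix : ∀ v, R v = v → v = 0) (hSfix : ∀ v, S v = v → v = 0) (m : ℕ)
    (hdim : finrank F V = 2 * m) :
    ∃ ε : ℤ, (ε = 1 ∨ ε = -1) ∧ ((Fintype.card F : ℕ) : ZMod r) ^ m = (ε : ZMod r) ∧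
      ((Fintype.card F : ℕ) : ZMod s) ^ m = (ε : ZMod s) := by
  classical
  have : Finite V := Module.finite_of_finite F
  have hsodd : Odd s := hs.out.odd_of_ne_two hs2
  obtain ⟨Q, hQ⟩ : ∃ Q : QuadraticForm F V, ∀ v, Q v = B v (S v) :=
    ⟨LinearMap.BilinMap.toQuadraticMap (B.compl₂ S), fun v => by
      rw [LinearMap.BilinMap.toQuadraticMap_apply, LinearMap.compl₂_apply]⟩
  have hpol : ∀ u v, QuadraticMap.polar Q u v = B u (S v) + B v (S u) := by
    intro u v
    unfold QuadraticMap.polar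
    rw [hQ, hQ, hQ, map_add, map_add, LinearMap.add_apply, map_add, map_add]
    ring
  have hRSv : ∀ v, R (S v) = S (R v) := fun v => by
    have := congrArg (fun f : Module.End F V => f v) hRS.eq
    exact this
  -- `S ^ 2 - 1` is injective, hence surjective
  have hinj : Function.Injective (S * S - 1 : V →ₗ[F] V) := by
    rw [← LinearMap.ker_eq_bot, LinearMap.ker_eq_bot']
    intro v hv
    apply hSfix
    apply fix_of_sq_fix S s hsodd hS
    rw [LinearMap.sub_apply, Module.End.mul_apply, Module.End.one_apply, sub_eq_zero] at hv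
    exact hv
  have hsurj : Function.Surjective (S * S - 1 : V →ₗ[F] V) :=
    LinearMap.surjective_of_injective hinj
  have hsep : ∀ u, (∀ v, QuadraticMap.polar Q u v = 0) → u = 0 := by
    intro u hu
    apply hnd
    intro y
    obtain ⟨v, rfl⟩ := hsurj y
    have h1 := hu (S v)
    rw [hpol, hSiso, alt_swap B halt v u] at h1
    rw [LinearMap.sub_apply, Module.End.mul_apply, Module.End.one_apply, map_sub]
    linear_combination h1
  have hndQ : (polarBilin Q).Nondegenerate := by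
    constructor
    · intro u hu
      apply hsep
      intro v
      exact hu v
    · intro u hu
      apply hsep
      intro v
      rw [QuadraticMap.polar_comm]
      exact hu v
  have hQR : ∀ u, Q (R u) = Q u := by
    intro u
    rw [hQ, hQ, ← hRSv, hRiso]
  have hQS : ∀ u, Q (S u) = Q u := by
    intro u
    rw [hQ, hQ, hSiso]
  obtain ⟨ε, hε, ht⟩ := QuadType.hasType_of_nondeg Q hndQ m hdim
  have h1 := QuadReal.dvd_card_level Q R r hr.out hR hQR hRfix 1 one_ne_zero
  have h2 := QuadReal.dvd_card_level Q S s hs.out hS hQS hSfix 1 one_ne_zero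
  exact ⟨ε, hε, ht.zmod r h1 hrq, ht.zmod s h2 hsq⟩

/-- the same on an invariant nondegenerate subspace -/
theorem fpf_pair_sub (B : LinearMap.BilinForm F V) (halt : ∀ v, B v v = 0)
    (W : Submodule F V) (hWnd : NdOn B W) (r s : ℕ) [hr : Fact r.Prime] [hs : Fact s.Prime]
    (hs2 : s ≠ 2)
    (hrq : ¬ r ∣ Fintype.card F) (hsq : ¬ s ∣ Fintype.card F)
    (R S : V →ₗ[F] V) (hRS : Commute R S) (hR : R ^ r = 1) (hS : S ^ s = 1)
    (hRiso : ∀ u v, B (R u) (R v) = B u v) (hSiso : ∀ u v, B (S u) (S v) = B u v)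
    (hRW : ∀ w ∈ W, R w ∈ W) (hSW : ∀ w ∈ W, S w ∈ W)
    (hRfix : ∀ v ∈ W, R v = v → v = 0) (hSfix : ∀ v ∈ W, S v = v → v = 0) (m : ℕ)
    (hdim : finrank F W = 2 * m) :
    ∃ ε : ℤ, (ε = 1 ∨ ε = -1) ∧ ((Fintype.card F : ℕ) : ZMod r) ^ m = (ε : ZMod r) ∧
      ((Fintype.card F : ℕ) : ZMod s) ^ m = (ε : ZMod s) := by
  have hRSv : ∀ v, R (S v) = S (R v) := fun v => by
    have := congrArg (fun f : Module.End F V => f v) hRS.eq
    exact this
  refine fpf_pair (B.restrict W) (fun v => halt v) ?_ r s hs2 hrq hsq (R.restrict hRW)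
    (S.restrict hSW) ?_ ?_ ?_ (fun u v => hRiso u v) (fun u v => hSiso u v) ?_ ?_ m hdim
  · intro x hx
    by_contra hx0
    obtain ⟨v, hv, hxv⟩ := hWnd x.1 x.2 (fun h => hx0 (Subtype.ext h))
    exact hxv (hx ⟨v, hv⟩)
  · show R.restrict hRW * S.restrict hSW = S.restrict hSW * R.restrict hRW
    apply LinearMap.ext
    intro w
    apply Subtype.ext
    exact hRSv w.1
  · rw [Module.End.pow_restrict]
    apply LinearMap.ext
    intro w
    apply Subtype.ext
    rw [LinearMap.coe_restrict_apply, hR]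
    rfl
  · rw [Module.End.pow_restrict]
    apply LinearMap.ext
    intro w
    apply Subtype.ext
    rw [LinearMap.coe_restrict_apply, hS]
    rfl
  · intro v hv
    apply Subtype.ext
    exact hRfix v.1 v.2 (congrArg Subtype.val hv)
  · intro v hv
    apply Subtype.ext
    exact hSfix v.1 v.2 (congrArg Subtype.val hv)

end fpf

section nopair

variable {F V : Type*} [Field F] [Fintype F] [AddCommGroup V] [Module F V] [FiniteDimensional F V]
  {p : ℕ} [Fact p.Prime] [CharP F p]

omit [Fintype F] [FiniteDimensional F V] [Fact p.Prime] [CharP F p] in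
theorem movR_invariant_of_commute (R S : V →ₗ[F] V) (hRS : Commute R S) :
    ∀ u ∈ movR R, S u ∈ movR R := by
  have hRSv : ∀ v, R (S v) = S (R v) := fun v => by
    have := congrArg (fun f : Module.End F V => f v) hRS.eq
    exact this
  rintro _ ⟨u, rfl⟩
  refine ⟨S u, ?_⟩
  simp only [LinearMap.sub_apply, Module.End.one_apply, map_sub, hRSv]

omit [Fintype F] [FiniteDimensional F V] [Fact p.Prime] [CharP F p] in
theorem fixE_invariant_of_commute (R S : V →ₗ[F] V) (hRS : Commute R S) :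
    ∀ u ∈ fixE R, S u ∈ fixE R := by
  have hRSv : ∀ v, R (S v) = S (R v) := fun v => by
    have := congrArg (fun f : Module.End F V => f v) hRS.eq
    exact this
  intro u hu
  rw [mem_fixE] at hu ⊢
  rw [hRSv, hu]

/-- the moved space is contained in the other one -/
theorem movR_le_movR (B : LinearMap.BilinForm F V) (halt : ∀ v, B v v = 0)
    (hnd : ∀ x, (∀ y, B x y = 0) → x = 0) (r s : ℕ) [hr : Fact r.Prime] [hs : Fact s.Prime]
    (hr2 : r ≠ 2) (hrp : r ≠ p) (hsp : s ≠ p)
    (R S : V →ₗ[F] V) (hRS : Commute R S) (hR : R ^ r = 1) (hS : S ^ s = 1) (hS1 : S ≠ 1)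
    (hRiso : ∀ u v, B (R u) (R v) = B u v) (hSiso : ∀ u v, B (S u) (S v) = B u v)
    (hs2 : s ≠ 2) (n : ℕ) (hdim : finrank F V = 2 * n)
    (hlt : 2 * n < blockDim (Fintype.card F) r + blockDim (Fintype.card F) s) :
    movR R ≤ movR S := by
  have hr0 : (r : F) ≠ 0 := by
    rw [Ne, CharP.cast_eq_zero_iff F p]
    intro hd
    exact hrp ((Nat.prime_dvd_prime_iff_eq Fact.out hr.out).1 hd).symm
  have hs0 : (s : F) ≠ 0 := by
    rw [Ne, CharP.cast_eq_zero_iff F p]
    intro hd
    exact hsp ((Nat.prime_dvd_prime_iff_eq Fact.out hs.out).1 hd).symm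
  have hndtop : NdOn B ⊤ := by
    intro u _ hu0
    by_contra hcon
    push Not at hcon
    exact hu0 (hnd u (fun y => hcon y Submodule.mem_top))
  have hmovnd : ∀ (t : ℕ) [Fact t.Prime] (T : V →ₗ[F] V), T ^ t = 1 → (t : F) ≠ 0 →
      (∀ u v, B (T u) (T v) = B u v) → NdOn B (movR T) := by
    intro t _ T hT ht0 hTiso
    have := ndOn_inf_mov B T halt hTiso t hT ht0 ⊤ (fun v _ => Submodule.mem_top) hndtop
    rwa [top_inf_eq] at this
  have hmovinv : ∀ T : V →ₗ[F] V, ∀ u ∈ movR T, T u ∈ movR T := fun T =>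
    movR_invariant_of_commute T T (Commute.refl T)
  -- the block dimension divides the moved space of `S`
  have hS0 : movR S ≠ ⊥ := by
    intro h0
    apply hS1
    have h1 : LinearMap.range (S - 1) = ⊥ := h0
    rw [LinearMap.range_eq_bot] at h1
    exact sub_eq_zero.1 h1
  have hSchain := (exists_nd_chain B S s halt hSiso hsp hs2 hS (finrank F (movR S)) (movR S) rfl
    (hmovinv S) le_rfl (hmovnd s S hS hs0 hSiso)).1
  have hSpos : 0 < finrank F (movR S) := by
    rw [Nat.pos_iff_ne_zero]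
    intro h
    exact hS0 (Submodule.finrank_eq_zero.1 h)
  have hSle := Nat.le_of_dvd hSpos hSchain
  have hrk : finrank F (movR S) + finrank F (fixE S) = 2 * n := by
    rw [← hdim]
    exact LinearMap.finrank_range_add_finrank_ker (S - 1)
  -- the intersection
  have hN1nd : NdOn B (movR R ⊓ fixE S) :=
    ndOn_inf_fix B S hSiso s hS hs0 (movR R) (movR_invariant_of_commute R S hRS)
      (hmovnd r R hR hr0 hRiso)
  have hN1inv : ∀ u ∈ movR R ⊓ fixE S, R u ∈ movR R ⊓ fixE S := fun u hu =>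
    ⟨hmovinv R u hu.1, fixE_invariant_of_commute S R hRS.symm u hu.2⟩
  have hN1chain := (exists_nd_chain B R r halt hRiso hrp hr2 hR (finrank F ↥(movR R ⊓ fixE S))
    (movR R ⊓ fixE S) rfl hN1inv inf_le_left hN1nd).1
  have hN1le : finrank F ↥(movR R ⊓ fixE S) ≤ finrank F (fixE S) :=
    Submodule.finrank_mono inf_le_right
  have hN10 : finrank F ↥(movR R ⊓ fixE S) = 0 := by
    by_contra hne
    have := Nat.le_of_dvd (Nat.pos_of_ne_zero hne) hN1chain
    omega
  have hN1bot : movR R ⊓ fixE S = ⊥ := Submodule.finrank_eq_zero.1 hN10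
  have hsplit := inv_split S s hS hs0 (movR R) (movR_invariant_of_commute R S hRS)
  rw [hN1bot, bot_sup_eq] at hsplit
  rw [← hsplit]
  exact inf_le_right

/-- commuting nontrivial isometries of orders `r`, `s` in small dimension: a common type -/
theorem no_pair (B : LinearMap.BilinForm F V) (halt : ∀ v, B v v = 0)
    (hnd : ∀ x, (∀ y, B x y = 0) → x = 0) (r s : ℕ) [hr : Fact r.Prime] [hs : Fact s.Prime]
    (hr2 : r ≠ 2) (hs2 : s ≠ 2) (hrp : r ≠ p) (hsp : s ≠ p)
    (R S : V →ₗ[F] V) (hRS : Commute R S) (hR : R ^ r = 1) (hS : S ^ s = 1) (hR1 : R ≠ 1)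
    (hS1 : S ≠ 1)
    (hRiso : ∀ u v, B (R u) (R v) = B u v) (hSiso : ∀ u v, B (S u) (S v) = B u v)
    (n : ℕ) (hdim : finrank F V = 2 * n)
    (hlt : 2 * n < blockDim (Fintype.card F) r + blockDim (Fintype.card F) s)
    (hle : blockDim (Fintype.card F) r ≤ blockDim (Fintype.card F) s) :
    ∃ (m : ℕ) (ε : ℤ), 2 * m = blockDim (Fintype.card F) s ∧ (ε = 1 ∨ ε = -1) ∧
      ((Fintype.card F : ℕ) : ZMod r) ^ m = (ε : ZMod r) ∧
      ((Fintype.card F : ℕ) : ZMod s) ^ m = (ε : ZMod s) := by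
  have hr0 : (r : F) ≠ 0 := by
    rw [Ne, CharP.cast_eq_zero_iff F p]
    intro hd
    exact hrp ((Nat.prime_dvd_prime_iff_eq Fact.out hr.out).1 hd).symm
  have hs0 : (s : F) ≠ 0 := by
    rw [Ne, CharP.cast_eq_zero_iff F p]
    intro hd
    exact hsp ((Nat.prime_dvd_prime_iff_eq Fact.out hs.out).1 hd).symm
  have h1 := movR_le_movR B halt hnd r s hr2 hrp hsp R S hRS hR hS hS1 hRiso hSiso hs2 n hdim hlt
  have h2 := movR_le_movR B halt hnd s r hs2 hsp hrp S R hRS.symm hS hR hR1 hSiso hRiso hr2 n hdim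
    (by omega)
  have heq : movR R = movR S := le_antisymm h1 h2
  have hndtop : NdOn B ⊤ := by
    intro u _ hu0
    by_contra hcon
    push Not at hcon
    exact hu0 (hnd u (fun y => hcon y Submodule.mem_top))
  have hWnd : NdOn B (movR S) := by
    have := ndOn_inf_mov B S halt hSiso s hS hs0 ⊤ (fun v _ => Submodule.mem_top) hndtop
    rwa [top_inf_eq] at this
  have hS0 : movR S ≠ ⊥ := by
    intro h0
    apply hS1
    have h1 : LinearMap.range (S - 1) = ⊥ := h0
    rw [LinearMap.range_eq_bot] at h1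
    exact sub_eq_zero.1 h1
  have hSinv := movR_invariant_of_commute S S (Commute.refl S)
  have hRinv : ∀ u ∈ movR S, R u ∈ movR S := by
    rw [← heq]
    exact movR_invariant_of_commute R R (Commute.refl R)
  have hSchain := (exists_nd_chain B S s halt hSiso hsp hs2 hS (finrank F (movR S)) (movR S) rfl
    hSinv le_rfl hWnd).1
  have hRchain := (exists_nd_chain B R r halt hRiso hrp hr2 hR (finrank F (movR S)) (movR S) rfl
    hRinv (by rw [heq]) hWnd).1
  have hSpos : 0 < finrank F (movR S) := by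
    rw [Nat.pos_iff_ne_zero]
    intro h
    exact hS0 (Submodule.finrank_eq_zero.1 h)
  have hle2 : finrank F (movR S) ≤ 2 * n := hdim ▸ Submodule.finrank_le _
  have hWdim : finrank F (movR S) = blockDim (Fintype.card F) s := by
    obtain ⟨c, hc⟩ := hSchain
    have hc1 : c = 1 := by
      rcases Nat.lt_or_ge c 2 with h | h
      · rcases Nat.eq_zero_or_pos c with h0 | h0
        · subst h0; omega
        · omega
      · have : blockDim (Fintype.card F) s * 2 ≤ blockDim (Fintype.card F) s * c :=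
          Nat.mul_le_mul_left _ h
        omega
    rw [hc, hc1, mul_one]
  obtain ⟨m, hm⟩ := even_blockDim s (Fintype.card F)
  have hrq : ¬ r ∣ Fintype.card F := fun h => card_not_dvd (F := F) r hr.out hrp h
  have hsq : ¬ s ∣ Fintype.card F := fun h => card_not_dvd (F := F) s hs.out hsp h
  obtain ⟨ε, hε, he1, he2⟩ := fpf_pair_sub B halt (movR S) hWnd r s hs2 hrq hsq R S hRS hR hS
    hRiso hSiso hRinv hSinv
    (fun v hv hfix => by
      have h3 : v ∈ fixE R ⊓ movR R := ⟨(mem_fixE R v).2 hfix, by rw [heq]; exact hv⟩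
      rw [fix_inf_mov R r hR hr0] at h3
      exact (Submodule.mem_bot F).1 h3)
    (fun v hv hfix => by
      have h3 : v ∈ fixE S ⊓ movR S := ⟨(mem_fixE S v).2 hfix, hv⟩
      rw [fix_inf_mov S s hS hs0] at h3
      exact (Submodule.mem_bot F).1 h3) m (by rw [hWdim, hm]; ring)
  exact ⟨m, ε, by rw [hm]; ring, hε, he1, he2⟩

end nopair

section arith

/-- the arithmetic of a common type -/
theorem arith_no (q r s : ℕ) [hr : Fact r.Prime] [hs : Fact s.Prime] (hr2 : r ≠ 2) (hs2 : s ≠ 2)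
    (k l ηl : ℕ) (hk : k = orderOf (q : ZMod r)) (hl : l = orderOf (q : ZMod s)) (hlpos : 0 < l)
    (hηl : (Odd l ∧ ηl = l) ∨ (Even l ∧ 2 * ηl = l))
    (ε : ℤ) (hε : ε = 1 ∨ ε = -1) (h1 : (q : ZMod r) ^ ηl = (ε : ZMod r))
    (h2 : (q : ZMod s) ^ ηl = (ε : ZMod s)) : ∃ t, Odd t ∧ l = k * t := by
  rcases hηl with ⟨hodd, rfl⟩ | ⟨hev, h2l⟩
  · -- `l` odd
    have h3 : (q : ZMod s) ^ ηl = 1 := by rw [hl]; exact pow_orderOf_eq_one _
    have h4 : ε = 1 := by
      apply QuadClasses.eps_eq_of_zmod s hs.out hs2 hε (Or.inl rfl)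
      rw [← h2, h3]
      simp
    rw [h4] at h1
    have h5 : (q : ZMod r) ^ ηl = 1 := by rw [h1]; simp
    have h6 : k ∣ ηl := by rw [hk]; exact orderOf_dvd_of_pow_eq_one h5
    obtain ⟨t, ht⟩ := h6
    refine ⟨t, ?_, ht⟩
    rw [ht] at hodd
    exact (Nat.odd_mul.1 hodd).2
  · -- `l` even
    have hηpos : 0 < ηl := by omega
    have h3 : (q : ZMod s) ^ ηl = -1 :=
      QuadClasses.pow_half_order _ ηl hηpos (by rw [← hl, h2l])
    have h4 : ε = -1 := by
      apply QuadClasses.eps_eq_of_zmod s hs.out hs2 hε (Or.inr rfl)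
      rw [← h2, h3]
      simp
    rw [h4] at h1
    have h5 : (q : ZMod r) ^ ηl = -1 := by rw [h1]; simp
    have h6 : (q : ZMod r) ^ l = 1 := by
      rw [← h2l, pow_mul']
      rw [h5]
      ring
    have h7 : k ∣ l := by rw [hk]; exact orderOf_dvd_of_pow_eq_one h6
    obtain ⟨t, ht⟩ := h7
    refine ⟨t, ?_, ht⟩
    by_contra hne
    rw [Nat.not_odd_iff_even] at hne
    obtain ⟨t', ht'⟩ := hne
    have h8 : ηl = k * t' := by
      have : 2 * ηl = 2 * (k * t') := by rw [h2l, ht, ht']; ring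
      omega
    have h9 : (q : ZMod r) ^ ηl = 1 := by
      rw [h8, pow_mul, hk, pow_orderOf_eq_one, one_pow]
    rw [h5] at h9
    have h10 : ((2 : ℕ) : ZMod r) = 0 := by
      push_cast
      linear_combination -h9
    rw [ZMod.natCast_eq_zero_iff] at h10
    exact hr2 ((Nat.prime_dvd_prime_iff_eq hr.out Nat.prime_two).1 h10)

end arith

section sp

open Cfsg.Agent.S2472 Cfsg.Agent.Lib.Helper15.SpPairs

variable {F : Type*} [Field F] [Fintype F]

/-- an element of order `r s` forces a common type -/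
theorem no_elt2 (p : ℕ) [hp : Fact p.Prime] [CharP F p] (n : ℕ) (hn : 2 ≤ n)
    (r s : ℕ) [hr : Fact r.Prime] [hs : Fact s.Prime] (hr2 : r ≠ 2) (hs2 : s ≠ 2) (hrp : r ≠ p)
    (hsp : s ≠ p) (hrs : r ≠ s)
    (hlt : 2 * n < blockDim (Fintype.card F) r + blockDim (Fintype.card F) s)
    (hle : blockDim (Fintype.card F) r ≤ blockDim (Fintype.card F) s)
    (g : Cfsg.PSp n F) (hg : orderOf g = r * s) :
    ∃ (m : ℕ) (ε : ℤ), 2 * m = blockDim (Fintype.card F) s ∧ (ε = 1 ∨ ε = -1) ∧
      ((Fintype.card F : ℕ) : ZMod r) ^ m = (ε : ZMod r) ∧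
      ((Fintype.card F : ℕ) : ZMod s) ^ m = (ε : ZMod s) := by
  classical
  have hba : orderOf (g ^ s) = r := by
    rw [orderOf_pow_of_dvd hs.out.ne_zero (by rw [hg]; exact dvd_mul_left s r), hg,
      Nat.mul_div_cancel _ hs.out.pos]
  have hbb : orderOf (g ^ r) = s := by
    rw [orderOf_pow_of_dvd hr.out.ne_zero (by rw [hg]; exact dvd_mul_right r s), hg,
      Nat.mul_div_cancel_left _ hr.out.pos]
  obtain ⟨A', B', hA', hB', hA'r, hB's, hcomm⟩ :=
    lift_pair (G := Matrix.symplecticGroup (Fin n) F) r s hr.out.one_lt hs.out.one_lt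
      ((Nat.coprime_primes hr.out hs.out).mpr hrs)
      (center_coprime_odd n (by omega) r hr.out hr2) (center_coprime_odd n (by omega) s hs.out hs2)
      (g ^ s) (g ^ r) ((Commute.refl g).pow_pow s r)
      (by rw [← hba]; exact pow_orderOf_eq_one _) (by rw [← hbb]; exact pow_orderOf_eq_one _)
  have hA1 : A' ≠ 1 := by
    rintro rfl
    have : g ^ s = 1 := by rw [← hA']; rfl
    rw [this, orderOf_one] at hba
    exact hr.out.one_lt.ne hba
  have hB1 : B' ≠ 1 := by
    rintro rfl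
    have : g ^ r = 1 := by rw [← hB']; rfl
    rw [this, orderOf_one] at hbb
    exact hs.out.one_lt.ne hbb
  exact no_pair (sympBilin n (F := F)) (stdB_alt n) (stdB_nd n) r s hr2 hs2 hrp hsp
    (toEnd A') (toEnd B') (toEnd_commute A' B' hcomm) (toEnd_pow A' r hA'r) (toEnd_pow B' s hB's)
    (fun h => hA1 (toEnd_eq_one A' h)) (fun h => hB1 (toEnd_eq_one B' h)) (toEnd_iso A')
    (toEnd_iso B') n (std_finrank n) hlt hle

/-- from a pair realisation to an element of order `r s` -/
theorem exists_of_pairReal {F : Type*} [Field F] [Fintype F] (n : ℕ) (hn : 2 ≤ n) (r s : ℕ)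
    [hr : Fact r.Prime] [hs : Fact s.Prime]
    (hr2 : r ≠ 2) (hs2 : s ≠ 2) (hrs : r ≠ s) (h : PairReal F r s (2 * n)) :
    r * s ∈ Set.range (orderOf : Cfsg.PSp n F → ℕ) := by
  obtain ⟨x, y, hc, hxr, hys, hx1, hy1⟩ := h.exists_sp
  exact exists_orderOf_mul (Subgroup.center (Matrix.symplecticGroup (Fin n) F)) x y r s hrs hc
    hxr hys
    (not_mem_center_of r (center_coprime_odd n (by omega) r hr.out hr2) x hxr hx1)
    (not_mem_center_of s (center_coprime_odd n (by omega) s hs.out hs2) y hys hy1)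

/-- the block dimension of a prime divisor of the order is at most the dimension -/
theorem blockDim_le (p : ℕ) [hp : Fact p.Prime] [CharP F p] (n : ℕ) (s : ℕ) [hs : Fact s.Prime]
    (hsp : s ≠ p) (hsG : s ∣ Nat.card (Cfsg.PSp n F)) :
    blockDim (Fintype.card F) s ≤ 2 * n := by
  have hG : s ∣ Nat.card (Matrix.symplecticGroup (Fin n) F) :=
    hsG.trans (Subgroup.card_quotient_dvd_card _)
  rw [Cfsg.Agent.Lib.Helper14.card_symplectic] at hG
  have hndvd : ¬ s ∣ Fintype.card F ^ (n ^ 2) := fun h =>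
    card_not_dvd (F := F) s hs.out hsp (hs.out.dvd_of_dvd_pow h)
  have hd2 := (hs.out.dvd_mul.1 hG).resolve_left hndvd
  obtain ⟨i, hi, hdvd⟩ := (Prime.dvd_finsetProd_iff (Nat.Prime.prime hs.out) _).1 hd2
  have hq : 0 < Fintype.card F := Fintype.card_pos
  have h3 := orderOf_dvd_of_dvd_pow_sub_one s _ _ hq hdvd
  have h4 := blockDim_le_of_dvd_two_mul (Fintype.card F) s (i + 1) (by omega) h3
  have := Finset.mem_range.1 hi
  omega

theorem main (p : ℕ) [Fact p.Prime] [CharP F p] (n : ℕ) (hn : 2 ≤ n)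
    (r s : ℕ) (hr : r.Prime) (hs : s.Prime) (hr2 : r ≠ 2) (hs2 : s ≠ 2) (hrp : r ≠ p)
    (hsp : s ≠ p) (hrs : r ≠ s) (hsG : s ∣ Nat.card (Cfsg.PSp n F))
    (k l ηk ηl : ℕ) (hk : k = orderOf ((Fintype.card F : ℕ) : ZMod r))
    (hl : l = orderOf ((Fintype.card F : ℕ) : ZMod s))
    (hηk : (Odd k ∧ ηk = k) ∨ (Even k ∧ 2 * ηk = k))
    (hηl : (Odd l ∧ ηl = l) ∨ (Even l ∧ 2 * ηl = l)) (hkl : ηk ≤ ηl) :
    (r * s ∉ Set.range (orderOf : Cfsg.PSp n F → ℕ)) ↔
      (n < ηk + ηl ∧ ¬ ∃ t : ℕ, Odd t ∧ l = k * t) := by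
  have : Fact r.Prime := ⟨hr⟩
  have : Fact s.Prime := ⟨hs⟩
  have hbr : blockDim (Fintype.card F) r = 2 * ηk := by
    rw [blockDim, ← hk]
    rcases hηk with ⟨hodd, rfl⟩ | ⟨hev, h2⟩
    · rw [if_neg (Nat.not_even_iff_odd.2 hodd)]
    · rw [if_pos hev, h2]
  have hbs : blockDim (Fintype.card F) s = 2 * ηl := by
    rw [blockDim, ← hl]
    rcases hηl with ⟨hodd, rfl⟩ | ⟨hev, h2⟩
    · rw [if_neg (Nat.not_even_iff_odd.2 hodd)]
    · rw [if_pos hev, h2]
  have hlpos : 0 < l := by rw [hl]; exact orderOf_card_pos s hsp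
  have hkpos : 0 < k := by rw [hk]; exact orderOf_card_pos r hrp
  have hbsle : 2 * ηl ≤ 2 * n := by
    rw [← hbs]
    exact blockDim_le p n s hsp hsG
  constructor
  · intro h
    by_contra hcon
    apply h
    by_cases hA : ηk + ηl ≤ n
    · have h1 := pairReal_of_blocks (F := F) r s hr2 hs2 hrp hsp
      rw [hbr, hbs] at h1
      have h2 := h1.add_id (n - ηk - ηl)
      have h3 : 2 * ηk + 2 * ηl + 2 * (n - ηk - ηl) = 2 * n := by omega
      rw [h3] at h2
      exact exists_of_pairReal n hn r s hr2 hs2 hrs h2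
    · have hex : ∃ t, Odd t ∧ l = k * t := by
        by_contra hne
        exact hcon ⟨by omega, hne⟩
      obtain ⟨t, htodd, hlt⟩ := hex
      have hkl' : orderOf ((Fintype.card F : ℕ) : ZMod r) ∣
          orderOf ((Fintype.card F : ℕ) : ZMod s) := by
        rw [← hk, ← hl, hlt]
        exact dvd_mul_right k t
      rcases hηl with ⟨hodd, hηl'⟩ | ⟨hev, h2l⟩
      · have h1 := pairReal_hyperbolic (F := F) r s hr hs hrs hrp hsp hkl'
        rw [← hl] at h1
        have h2 := h1.add_id (n - l)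
        have h3 : 2 * l + 2 * (n - l) = 2 * n := by omega
        rw [h3] at h2
        exact exists_of_pairReal n hn r s hr2 hs2 hrs h2
      · have hkev : Even k := by
          rw [hlt, Nat.even_mul] at hev
          rcases hev with h' | h'
          · exact h'
          · exact absurd h' (Nat.not_even_iff_odd.2 htodd)
        have h2k : 2 * ηk = k := by
          rcases hηk with ⟨hodd, -⟩ | ⟨-, h2⟩
          · exact absurd hkev (Nat.not_even_iff_odd.2 hodd)
          · exact h2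
        have hηkpos : 0 < ηk := by omega
        have hηlpos : 0 < ηl := by omega
        have hηlt : ηl = ηk * t := by
          have : 2 * ηl = 2 * (ηk * t) := by rw [h2l, hlt, ← h2k]; ring
          omega
        have hs1 : ((Fintype.card F : ℕ) : ZMod s) ^ ηl = -1 :=
          QuadClasses.pow_half_order _ ηl hηlpos (by rw [← hl, h2l])
        have hr1 : ((Fintype.card F : ℕ) : ZMod r) ^ ηl = -1 := by
          rw [hηlt, pow_mul, QuadClasses.pow_half_order _ ηk hηkpos (by rw [← hk, h2k]),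
            htodd.neg_one_pow]
        have hds : s ∣ 1 + Fintype.card F ^ ηl := by
          rw [← ZMod.natCast_eq_zero_iff]
          push_cast
          rw [hs1]
          ring
        have hdr : r ∣ 1 + Fintype.card F ^ ηl := by
          rw [← ZMod.natCast_eq_zero_iff]
          push_cast
          rw [hr1]
          ring
        have hdvd : r * s ∣ 1 + Fintype.card F ^ ηl :=
          Nat.Coprime.mul_dvd_of_dvd_of_dvd ((Nat.coprime_primes hr hs).2 hrs) hdr hds
        have h1 := pairReal_selfdual (F := F) r s hr hs hr2 hs2 hrs hrp hsp ηl hdvd hkl'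
        rw [← hl] at h1
        have h2 := h1.add_id (n - ηl)
        have h3 : l + 2 * (n - ηl) = 2 * n := by omega
        rw [h3] at h2
        exact exists_of_pairReal n hn r s hr2 hs2 hrs h2
  · rintro ⟨h1, h2⟩ ⟨g, hg⟩
    obtain ⟨m, ε, hm, hε, he1, he2⟩ := no_elt2 p n hn r s hr2 hs2 hrp hsp hrs
      (by rw [hbr, hbs]; omega) (by rw [hbr, hbs]; omega) g hg
    have hmη : m = ηl := by rw [hbs] at hm; omega
    rw [hmη] at he1 he2
    exact h2 (arith_no (Fintype.card F) r s hr2 hs2 k l ηl hk hl hlpos hηl ε hε he1 he2)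

end sp

/-- Adjacency of two odd primes in the prime graph of PSp(2n,q): let F be a finite field of characteristic p with q elements, n ≥ 2 with PSp(2n,F) simple, and let r ≠ s be odd primes different from p dividing the order of PSp(2n,F). Let k, l be the multiplicative orders of q modulo r and s, put η(m) = m for odd m and η(m) = m/2 for even m, and suppose η(k) ≤ η(l). Then PSp(2n,F) has NO element of order r·s if and only if η(k) + η(l) > n and l/k is not an odd integer. -/
theorem result {F : Type*} [Field F] [Fintype F] (p : ℕ) [Fact p.Prime] [CharP F p] (n : ℕ) (hn : 2 ≤ n) (hsmall : n = 2 → 3 ≤ Fintype.card F)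
    (r s : ℕ) (hr : r.Prime) (hs : s.Prime) (hr2 : r ≠ 2) (hs2 : s ≠ 2) (hrp : r ≠ p) (hsp : s ≠ p) (hrs : r ≠ s)
    (hrG : r ∣ Nat.card (Cfsg.PSp n F)) (hsG : s ∣ Nat.card (Cfsg.PSp n F))
    (k l ηk ηl : ℕ) (hk : k = orderOf ((Fintype.card F : ℕ) : ZMod r)) (hl : l = orderOf ((Fintype.card F : ℕ) : ZMod s))
    (hηk : (Odd k ∧ ηk = k) ∨ (Even k ∧ 2 * ηk = k)) (hηl : (Odd l ∧ ηl = l) ∨ (Even l ∧ 2 * ηl = l)) (hkl : ηk ≤ ηl) :
    (r * s ∉ Set.range (orderOf : Cfsg.PSp n F → ℕ)) ↔ (n < ηk + ηl ∧ ¬ ∃ t : ℕ, Odd t ∧ l = k * t) := by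
  exact main p n hn r s hr hs hr2 hs2 hrp hsp hrs hsG k l ηk ηl hk hl hηk hηl hkl

end Cfsg.Agent.S2469
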