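import Cfsg.Statements.S1691
-- import your own Cfsg.Agent.* helpers here

set_option autoImplicit false
open Cfsg

namespace Cfsg.Agent.S1691

open Cfsg.Spor

/-- the sign map on generators -/
def signGen : Fi24.Gen → Multiplicative (ZMod 2) := fun _ => Multiplicative.ofAdd 1

theorem sq_eq_one_zmod2 (s : Multiplicative (ZMod 2)) : s * s = 1 := by
  revert s; decide

theorem sign_rel : ∀ r ∈ coxRelators Fi24.edges ∪ {r | r ∈ Fi24.extra},
    FreeGroup.lift signGen r = 1 := by
  intro r hr
  rcases hr with hr | hr
  · obtain ⟨x, _, y, _, rfl⟩ := hr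
    rw [map_pow, map_mul, FreeGroup.lift_apply_of, FreeGroup.lift_apply_of]
    have : signGen x * signGen y = 1 := sq_eq_one_zmod2 _
    rw [this, one_pow]
  · have hr' : r ∈ Fi24.extra := hr
    simp only [Fi24.extra, List.mem_cons, List.not_mem_nil, or_false] at hr'
    rcases hr' with rfl | rfl
    · simp only [map_mul, map_inv, map_pow, FreeGroup.lift_apply_of, signGen]
      decide
    · simp only [map_mul, map_pow, FreeGroup.lift_apply_of, signGen]
      decide

/-- the sign homomorphism -/
noncomputable def signHom : Fi24 →* Multiplicative (ZMod 2) :=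
  PresentedGroup.toGroup sign_rel

theorem signHom_of (x : Fi24.Gen) : signHom (PresentedGroup.of x) = Multiplicative.ofAdd 1 :=
  PresentedGroup.toGroup.of sign_rel

theorem signHom_surjective : Function.Surjective signHom := by
  intro s
  have : s = 1 ∨ s = Multiplicative.ofAdd 1 := by revert s; decide
  rcases this with rfl | rfl
  · exact ⟨1, map_one _⟩
  · exact ⟨PresentedGroup.of Fi24.Gen.d, signHom_of _⟩

theorem node_mem (x : Fi24.Gen) : x ∈ coxNodes Fi24.edges := by
  cases x <;> decide

theorem cox_rel (x y : Fi24.Gen) :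
    ((PresentedGroup.of x : Fi24) * PresentedGroup.of y) ^ coxLabel Fi24.edges x y = 1 := by
  have hmem : (FreeGroup.of x * FreeGroup.of y) ^ coxLabel Fi24.edges x y ∈
      coxRelators Fi24.edges ∪ {r | r ∈ Fi24.extra} :=
    Or.inl ⟨x, node_mem x, y, node_mem y, rfl⟩
  have := PresentedGroup.one_of_mem hmem
  rw [map_pow, map_mul] at this
  exact this

theorem gen_sq (x : Fi24.Gen) : (PresentedGroup.of x : Fi24) * PresentedGroup.of x = 1 := by
  have := cox_rel x x
  have hl : coxLabel Fi24.edges x x = 1 := by simp [coxLabel]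
  rw [hl, pow_one] at this
  exact this

/-- adjacent nodes (label 3) have the same image in the abelianization -/
theorem adj (x y : Fi24.Gen) (h : coxLabel Fi24.edges x y = 3) :
    (Abelianization.of (PresentedGroup.of x : Fi24)) = Abelianization.of (PresentedGroup.of y : Fi24) := by
  have h3 := cox_rel x y
  rw [h] at h3
  have hx := gen_sq x
  have hy := gen_sq y
  set X := Abelianization.of (PresentedGroup.of x : Fi24) with hX
  set Y := Abelianization.of (PresentedGroup.of y : Fi24) with hY
  have hx' : X * X = 1 := by rw [hX, ← map_mul, hx, map_one]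
  have hy' : Y * Y = 1 := by rw [hY, ← map_mul, hy, map_one]
  have h3' : (X * Y) ^ 3 = 1 := by rw [hX, hY, ← map_mul, ← map_pow, h3, map_one]
  have e : (X * Y) ^ 3 = (X * X) * (Y * Y) * (X * Y) := by
    simp only [pow_succ, pow_zero, one_mul]
    simp only [mul_comm, mul_left_comm, mul_assoc]
  rw [e, hx', hy', one_mul, one_mul] at h3'
  -- X * Y = 1 and Y * Y = 1 gives X = Y
  calc X = X * (Y * Y) := by rw [hy', mul_one]
    _ = (X * Y) * Y := by rw [mul_assoc]
    _ = Y := by rw [h3', one_mul]

theorem all_eq (x : Fi24.Gen) :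
    (Abelianization.of (PresentedGroup.of x : Fi24)) = Abelianization.of (PresentedGroup.of Fi24.Gen.d : Fi24) := by
  have hlk := adj .l .k (by decide)
  have hka := adj .k .a (by decide)
  have hab := adj .a .b (by decide)
  have hbc := adj .b .c (by decide)
  have hcd := adj .c .d (by decide)
  have hde := adj .d .e (by decide)
  have hdh := adj .d .h (by decide)
  have hef := adj .e .f (by decide)
  have hfg := adj .f .g (by decide)
  have hgj := adj .g .j (by decide)
  have hhi := adj .h .i (by decide)
  cases x
  · rw [hlk, hka, hab, hbc, hcd]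
  · rw [hka, hab, hbc, hcd]
  · rw [hab, hbc, hcd]
  · rw [hbc, hcd]
  · rw [hcd]
  · rfl
  · rw [← hde]
  · rw [← hef, ← hde]
  · rw [← hfg, ← hef, ← hde]
  · rw [← hgj, ← hfg, ← hef, ← hde]
  · rw [← hdh]
  · rw [← hhi, ← hdh]

theorem abel_eq_zpowers :
    (⊤ : Subgroup (Abelianization Fi24)) =
      Subgroup.zpowers (Abelianization.of (PresentedGroup.of Fi24.Gen.d : Fi24)) := by
  symm
  rw [eq_top_iff]
  intro z _
  obtain ⟨w, rfl⟩ := QuotientGroup.mk_surjective z
  have hw : w ∈ (Subgroup.zpowers (Abelianization.of (PresentedGroup.of Fi24.Gen.d : Fi24))).comap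
      (Abelianization.of : Fi24 →* Abelianization Fi24) := by
    apply PresentedGroup.generated_by
    intro j
    rw [Subgroup.mem_comap, all_eq j]
    exact Subgroup.mem_zpowers _
  exact hw

theorem card_abel_le : Nat.card (Abelianization Fi24) ∣ 2 := by
  have h1 : Nat.card (Abelianization Fi24) = Nat.card (⊤ : Subgroup (Abelianization Fi24)) :=
    (Subgroup.card_top).symm
  rw [h1, abel_eq_zpowers, Nat.card_zpowers]
  apply orderOf_dvd_of_pow_eq_one
  rw [pow_two, ← map_mul, gen_sq, map_one]

/-- The commutator subgroup of the presented group Fi₂₄ has index 2 (the presented group is Fi₂₄′:2 with Fi₂₄′ its derived subgroup). -/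
theorem result : (commutator Cfsg.Spor.Fi24).index = 2 := by
  have hdvd : (commutator Fi24).index ∣ 2 := by
    have : (commutator Fi24).index = Nat.card (Abelianization Fi24) := rfl
    rw [this]; exact card_abel_le
  have hker : commutator Fi24 ≤ signHom.ker := Abelianization.commutator_subset_ker signHom
  have hkeridx : signHom.ker.index = 2 := by
    rw [Subgroup.index_ker, MonoidHom.range_eq_top.mpr signHom_surjective, Subgroup.card_top]
    simp
  have h2 : 2 ∣ (commutator Fi24).index := by
    rw [← hkeridx]
    exact Subgroup.index_dvd_of_le hker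
  exact Nat.dvd_antisymm hdvd h2

end Cfsg.Agent.S1691
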