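import Cfsg.Statements.S0292
import Mathlib
import Cfsg.Agent.Lib.Helper5.OmegaCenter
import Cfsg.Agent.Lib.Helper25.SpinForms
import Cfsg.Agent.Lib.Helper25.SpinSO
import Cfsg.Agent.Lib.Helper14.OrthOdd

set_option autoImplicit false
open Cfsg

namespace Cfsg.Agent.S0292

section Aux
set_option linter.unusedSectionVars false
set_option linter.unusedVariables false
set_option linter.unusedSimpArgs false
namespace S0292aux
open Module QuadraticMap Matrix Cfsg.Agent.Lib.Helper25.CD Cfsg.Agent.Lib.Helper25.Spin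
  Cfsg.Agent.Lib.Helper14 Cfsg.Agent.Lib.Helper5.OmegaCenter

theorem main {F : Type*} [Field F] [Fintype F] {q : ℕ} (hF : Fintype.card F = q) (hodd : Odd q)
    (m : ℕ) (hm : 3 ≤ m) :
    2 * Nat.card (Cfsg.POmega F (Cfsg.quadFormOdd m F)) =
      q ^ (m ^ 2) * ∏ i ∈ Finset.range m, (q ^ (2 * (i + 1)) - 1) := by
  have hoddF : Odd (Fintype.card F) := by rw [hF]; exact hodd
  have h2 := two_ne_zero_of_odd_card hoddF
  obtain ⟨Q, hQdef⟩ : ∃ Q : QuadraticForm F (Unit ⊕ (Fin m ⊕ Fin m) → F),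
      Q = qfOf (isQF_odd (m := m) h2) := ⟨_, rfl⟩
  have hcoe : ⇑Q = Cfsg.quadFormOdd m F := by rw [hQdef]; rfl
  have hQ : (polarBilin Q).Nondegenerate := by rw [hQdef]; exact qfOf_nondeg _
  have hcardι : Fintype.card (Unit ⊕ (Fin m ⊕ Fin m)) = 1 + (m + m) := by
    simp only [Fintype.card_sum, Fintype.card_fin, Fintype.card_unit]
  have hex : Fintype.card F ≠ 2 ∨ Fintype.card (Unit ⊕ (Fin m ⊕ Fin m)) ≠ 4 := by
    right; rw [hcardι]; omega
  have hn : 4 ≤ Fintype.card (Unit ⊕ (Fin m ⊕ Fin m)) := by rw [hcardι]; omega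
  -- `-1 ∉ Ω`
  have hneg : (2 : F) = 0 ∨ ¬ ∃ g : ↥(Cfsg.isometryGroup F ⇑Q), g ∈ Cfsg.Omega F ⇑Q ∧
      ((g : GL (Unit ⊕ (Fin m ⊕ Fin m)) F) : Matrix (Unit ⊕ (Fin m ⊕ Fin m)) (Unit ⊕ (Fin m ⊕ Fin m)) F) = -1 := by
    right
    rintro ⟨g, hg, hM⟩
    have h3 := (mem_special_iff_det Q g).mp (omega_le_special Q h2 hQ hg)
    rw [hM, Matrix.det_neg, Matrix.det_one, mul_one, hcardι] at h3
    have h4 : ((-1 : F)) ^ (1 + (m + m)) = -1 := by
      rw [pow_add, pow_one, ← two_mul, pow_mul]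
      simp
    rw [h4] at h3
    apply h2
    linear_combination -h3
  have h5 := card_POmega_of_not Q hQ hex hn hneg
  have h6 := omega_index_four Q h2 hQ (by omega : 2 ≤ Fintype.card (Unit ⊕ (Fin m ⊕ Fin m)))
  have h7 := Subgroup.card_mul_index (Cfsg.Omega F ⇑Q)
  rw [h6] at h7
  have h8 := card_isometry_odd (F := F) h2 m
  rw [hF] at h8
  rw [hcoe] at h5 h7
  rw [h8] at h7
  rw [h5]
  have h9 : 2 * q ^ (m ^ 2) * ∏ i ∈ Finset.range m, (q ^ (2 * (i + 1)) - 1)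
      = 2 * (q ^ (m ^ 2) * ∏ i ∈ Finset.range m, (q ^ (2 * (i + 1)) - 1)) := by ring
  rw [h9] at h7
  omega

end S0292aux
end Aux

/-- 2 |PΩ_{2m+1}(q)| = q^(m^2) prod_{i=1}^{m} (q^(2i) - 1), for q odd and m at least 3 (type B_m). -/
theorem result {F : Type*} [Field F] [Fintype F] {q : ℕ} (hF : Fintype.card F = q) (hodd : Odd q) (m : ℕ) (hm : 3 ≤ m) : 2 * Nat.card (Cfsg.POmega F (Cfsg.quadFormOdd m F)) = q ^ (m ^ 2) * ∏ i ∈ Finset.range m, (q ^ (2 * (i + 1)) - 1) := by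
  exact S0292aux.main hF hodd m hm

end Cfsg.Agent.S0292
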