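import Cfsg.Statements.S0294
import Mathlib
import Cfsg.Agent.Lib.Helper5.OmegaCenter
import Cfsg.Agent.Lib.Helper25.SpinForms
import Cfsg.Agent.Lib.Helper25.CDClifford
import Cfsg.Agent.Lib.Helper14.OrthMinus
import Cfsg.Agent.Lib.Helper25.SpinMinus

set_option autoImplicit false
open Cfsg

namespace Cfsg.Agent.S0294

section Aux
set_option linter.unusedSectionVars false
set_option linter.unusedVariables false
set_option linter.unusedSimpArgs false
namespace S0294aux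
open Module QuadraticMap Matrix Cfsg.Agent.Lib.Helper25.CD Cfsg.Agent.Lib.Helper25.Spin
  Cfsg.Agent.Lib.Helper14 Cfsg.Agent.Lib.Helper14.OrthMinus Cfsg.Agent.Lib.Helper14.QuadExt
  Cfsg.Agent.Lib.Helper5.OmegaCenter

lemma gcd_four_of_mod {t : ℕ} (r : ℕ) (h : t % 4 = r) : Nat.gcd 4 t = Nat.gcd r 4 := by
  rw [Nat.gcd_rec, h]

theorem main {F : Type*} [Field F] [Fintype F] {q : ℕ} (hF : Fintype.card F = q) (m : ℕ)
    (hm : 4 ≤ m) (a b : F)
    (hab : ∀ z₁ z₂ : F, z₁ ^ 2 + a * z₁ * z₂ + b * z₂ ^ 2 = 0 → z₁ = 0 ∧ z₂ = 0) :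
    Nat.gcd 4 (q ^ m + 1) * Nat.card (Cfsg.POmega F (Cfsg.quadFormMinus (m - 1) F a b)) =
      q ^ (m * (m - 1)) * (q ^ m + 1) * ∏ i ∈ Finset.range (m - 1), (q ^ (2 * (i + 1)) - 1) := by
  obtain ⟨n, rfl⟩ : ∃ n, m = n + 1 := ⟨m - 1, by omega⟩
  rw [Nat.add_sub_cancel]
  obtain ⟨Q, hQdef⟩ : ∃ Q : QuadraticForm F ((Fin n ⊕ Fin n) ⊕ Fin 2 → F),
      Q = qfOf (isQF_minus (n := n) (disc_ne_zero hab)) := ⟨_, rfl⟩
  have hcoe : ⇑Q = Cfsg.quadFormMinus n F a b := by rw [hQdef]; rfl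
  have hQ : (polarBilin Q).Nondegenerate := by rw [hQdef]; exact qfOf_nondeg _
  have hcardι : Fintype.card ((Fin n ⊕ Fin n) ⊕ Fin 2) = (n + n) + 2 := by
    simp only [Fintype.card_sum, Fintype.card_fin]
  have hex : Fintype.card F ≠ 2 ∨ Fintype.card ((Fin n ⊕ Fin n) ⊕ Fin 2) ≠ 4 := by
    right; rw [hcardι]; omega
  have hn : 4 ≤ Fintype.card ((Fin n ⊕ Fin n) ⊕ Fin 2) := by rw [hcardι]; omega
  have hne : Nonempty ((Fin n ⊕ Fin n) ⊕ Fin 2) := ⟨Sum.inr 0⟩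
  have h7 := Subgroup.card_mul_index (Cfsg.Omega F ⇑Q)
  have h8 := card_isometry_minus (F := F) hab n
  rw [hF] at h8
  have hq1 : 1 ≤ q ^ (n + 1) := by
    apply Nat.one_le_pow
    rw [← hF]; exact Fintype.card_pos
  obtain ⟨X, hXdef⟩ : ∃ X, X = q ^ ((n + 1) * n) * (q ^ (n + 1) + 1) *
      ∏ i ∈ Finset.range n, (q ^ (2 * (i + 1)) - 1) := ⟨_, rfl⟩
  have h8' : Nat.card ↥(Cfsg.isometryGroup F (Cfsg.quadFormMinus n F a b)) = 2 * X := by
    rw [h8, hXdef]; ring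
  rw [← hXdef]
  rw [hcoe] at h7
  rw [h8'] at h7
  by_cases h2 : (2 : F) = 0
  · -- even characteristic
    have hchar : CharP F 2 := CharTwo.of_one_ne_zero_of_two_eq_zero one_ne_zero h2
    have h6 := omega_index_two Q hQ hex
    rw [hcoe] at h6
    rw [h6] at h7
    have h5 := card_POmega_of_not Q hQ hex hn (Or.inl h2)
    rw [hcoe] at h5
    have hqe : Even q := by
      rw [← hF, Nat.even_iff]
      exact FiniteField.even_card_of_char_two (F := F) (ringChar.eq_iff.mpr hchar)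
    have hqe' : q ^ (n + 1) % 2 = 0 := by
      rw [← Nat.even_iff]
      exact hqe.pow_of_ne_zero (by omega)
    have hg : Nat.gcd 4 (q ^ (n + 1) + 1) = 1 := by
      have h9 : (q ^ (n + 1) + 1) % 4 = 1 ∨ (q ^ (n + 1) + 1) % 4 = 3 := by omega
      rcases h9 with h9 | h9
      · rw [gcd_four_of_mod _ h9]; rfl
      · rw [gcd_four_of_mod _ h9]; rfl
    rw [hg, one_mul, h5]
    omega
  · -- odd characteristic
    have hoddF : Odd (Fintype.card F) := by
      rw [Nat.odd_iff]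
      exact FiniteField.odd_card_of_char_ne_two (F := F) (by
        intro h
        apply h2
        have : CharP F 2 := by rw [← h]; exact ringChar.charP F
        exact CharTwo.two_eq_zero)
    have hodd : Odd q := by rw [← hF]; exact hoddF
    have h6 := omega_index_four Q h2 hQ (by omega : 2 ≤ Fintype.card ((Fin n ⊕ Fin n) ⊕ Fin 2))
    rw [hcoe] at h6
    rw [h6] at h7
    have hkey := neg_one_mem_omega_minus hF hodd n a b hab
    have hqo : q ^ (n + 1) % 2 = 1 := by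
      rw [← Nat.odd_iff]
      exact hodd.pow
    by_cases hmod : q ^ (n + 1) % 4 = 3
    · have hneg := hkey.mpr hmod
      have h5 := card_POmega_of_mem Q hQ hex hn h2 (by rw [hcoe]; exact hneg)
      rw [hcoe] at h5
      have hg : Nat.gcd 4 (q ^ (n + 1) + 1) = 4 := by
        have h9 : (q ^ (n + 1) + 1) % 4 = 0 := by omega
        rw [gcd_four_of_mod _ h9]; rfl
      rw [hg]
      omega
    · have hneg : ¬ ∃ g : ↥(Cfsg.isometryGroup F ⇑Q), g ∈ Cfsg.Omega F ⇑Q ∧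
          ((g : GL ((Fin n ⊕ Fin n) ⊕ Fin 2) F) :
            Matrix ((Fin n ⊕ Fin n) ⊕ Fin 2) ((Fin n ⊕ Fin n) ⊕ Fin 2) F) = -1 := by
        rw [hcoe]
        intro h
        exact hmod (hkey.mp h)
      have h5 := card_POmega_of_not Q hQ hex hn (Or.inr hneg)
      rw [hcoe] at h5
      have hg : Nat.gcd 4 (q ^ (n + 1) + 1) = 2 := by
        have h9 : (q ^ (n + 1) + 1) % 4 = 2 := by omega
        rw [gcd_four_of_mod _ h9]; rfl
      rw [hg, h5]
      omega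

end S0294aux
end Aux

/-- gcd(4, q^m + 1) |PΩ^-_{2m}(q)| = q^(m(m-1)) (q^m + 1) prod_{i=1}^{m-1} (q^(2i) - 1), m at least 4 (type ²D_m). -/
theorem result {F : Type*} [Field F] [Fintype F] {q : ℕ} (hF : Fintype.card F = q) (m : ℕ) (hm : 4 ≤ m) (a b : F) (hab : ∀ z₁ z₂ : F, z₁ ^ 2 + a * z₁ * z₂ + b * z₂ ^ 2 = 0 → z₁ = 0 ∧ z₂ = 0) : Nat.gcd 4 (q ^ m + 1) * Nat.card (Cfsg.POmega F (Cfsg.quadFormMinus (m - 1) F a b)) = q ^ (m * (m - 1)) * (q ^ m + 1) * ∏ i ∈ Finset.range (m - 1), (q ^ (2 * (i + 1)) - 1) := by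
  exact S0294aux.main hF m hm a b hab

end Cfsg.Agent.S0294
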