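import Cfsg.Statements.S0326
-- import your own Cfsg.Agent.* helpers here

set_option autoImplicit false
open Cfsg

namespace Cfsg.Agent.S0326

/-- the affine ovoid vector -/
def ovVec {F : Type*} [Field F] (m : ℕ) (p : F × F) : Fin 4 → F :=
  ![p.1 * p.2 + p.1 ^ (2 ^ (m + 1) + 2) + p.2 ^ (2 ^ (m + 1)), p.2, p.1, 1]

theorem ovVec_ne {F : Type*} [Field F] (m : ℕ) (p : F × F) : ovVec m p ≠ 0 := by
  intro h
  have := congrFun h 3
  simp [ovVec] at this

theorem inf_ne {F : Type*} [Field F] : (![1, 0, 0, 0] : Fin 4 → F) ≠ 0 := by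
  intro h
  have := congrFun h 0
  simp at this

/-- parametrisation of the ovoid -/
noncomputable def ovMap {F : Type*} [Field F] (m : ℕ) :
    Option (F × F) → Projectivization F (Fin 4 → F)
  | none => Projectivization.mk F ![1, 0, 0, 0] inf_ne
  | some p => Projectivization.mk F (ovVec m p) (ovVec_ne m p)

theorem ovMap_injective {F : Type*} [Field F] (m : ℕ) : Function.Injective (ovMap (F := F) m) := by
  intro s t h
  rcases s with _ | p <;> rcases t with _ | p'
  · rfl
  · exfalso
    simp only [ovMap] at h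
    rw [Projectivization.mk_eq_mk_iff] at h
    obtain ⟨c, hc⟩ := h
    have := congrFun hc 3
    simp [ovVec, Units.smul_def] at this
  · exfalso
    simp only [ovMap] at h
    rw [Projectivization.mk_eq_mk_iff] at h
    obtain ⟨c, hc⟩ := h
    have := congrFun hc 3
    simp [ovVec, Units.smul_def] at this
  · simp only [ovMap] at h
    rw [Projectivization.mk_eq_mk_iff] at h
    obtain ⟨c, hc⟩ := h
    have h3 := congrFun hc 3
    have h2 := congrFun hc 2
    have h1 := congrFun hc 1
    simp [ovVec, Units.smul_def] at h3 h2 h1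
    subst h3
    simp only [Units.val_one, one_mul] at h2 h1
    congr 1
    exact Prod.ext h2.symm h1.symm

theorem range_ovMap {F : Type*} [Field F] (m : ℕ) :
    Set.range (ovMap (F := F) m) = Cfsg.suzukiOvoid F m := by
  ext P
  constructor
  · rintro ⟨s, rfl⟩
    rcases s with _ | p
    · exact ⟨![1, 0, 0, 0], inf_ne, rfl, Or.inl rfl⟩
    · exact ⟨ovVec m p, ovVec_ne m p, rfl, Or.inr ⟨p.1, p.2, rfl⟩⟩
  · rintro ⟨v, hv, rfl, hv' | ⟨x, y, hxy⟩⟩
    · subst hv'
      exact ⟨none, rfl⟩
    · subst hxy
      exact ⟨some (x, y), rfl⟩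

/-- The Suzuki–Tits ovoid over a finite field with `q` elements has `q² + 1` points. -/
theorem result {F : Type*} [Field F] [Fintype F] (m : ℕ) :
    Nat.card (Cfsg.suzukiOvoid F m) = Fintype.card F ^ 2 + 1 := by
  classical
  rw [← range_ovMap, Nat.card_congr (Equiv.ofInjective _ (ovMap_injective m)).symm,
    Nat.card_eq_fintype_card, Fintype.card_option, Fintype.card_prod, sq]

end Cfsg.Agent.S0326
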