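import Cfsg.Statements.S1699
import Cfsg.Agent.Lib.Helper28.TCONTower
import Cfsg.Agent.Lib.Helper28.TCONBMain
import Cfsg.Agent.Lib.Helper28.TCONWCMain
import Cfsg.Agent.Lib.Helper28.TCONFinalChk

set_option autoImplicit false
set_option maxRecDepth 100000
open Cfsg

namespace Cfsg.Agent.S1699
open Cfsg.Agent.Lib.Helper28.TC2Upper Cfsg.Agent.Lib.Helper28.TC2Lower Cfsg.Agent.Lib.Helper28.TC2Orbit Cfsg.Agent.Lib.Helper28.TC2Glue Cfsg.Agent.Lib.Helper28.TC2GlueOrb Cfsg.Agent.Lib.Helper28.TC2Simple Cfsg.Agent.Lib.Helper28.TC2Simple2 Cfsg.Agent.Lib.Helper28.TC2Bsgs Cfsg.Agent.Lib.Helper28.TC2Tower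
open Cfsg.Agent.Lib.Helper28.TCONTable Cfsg.Agent.Lib.Helper28.TCONLink Cfsg.Agent.Lib.Helper28.TCONMain Cfsg.Agent.Lib.Helper28.TCONOrb Cfsg.Agent.Lib.Helper28.TCONFinalChk Cfsg.Agent.Lib.Helper28.TCONFinalW

/-- adding the relator `t` gives the trivial group -/
theorem collapse_subsingleton : Subsingleton (PresentedGroup Cfsg.Agent.Lib.Helper28.TCONWCLink.rels) := by
  have h : ((Subgroup.closure Cfsg.Agent.Lib.Helper28.TCONWCLink.S).map (PresentedGroup.mk Cfsg.Agent.Lib.Helper28.TCONWCLink.rels)).index = 1 := Cfsg.Agent.Lib.Helper28.TCONWCMain.main.1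
  have e : (Subgroup.closure Cfsg.Agent.Lib.Helper28.TCONWCLink.S).map (PresentedGroup.mk Cfsg.Agent.Lib.Helper28.TCONWCLink.rels) = ⊥ := by
    show (Subgroup.closure {1}).map _ = ⊥
    rw [Subgroup.closure_singleton_one, Subgroup.map_bot]
  rw [e] at h
  obtain ⟨_, hc⟩ := card_of_index_bot (by norm_num) h
  exact (Nat.card_eq_one_iff_unique.mp hc).1

theorem hcl : Subgroup.normalClosure {PresentedGroup.mk rels (FreeGroup.mk tWord)} = ⊤ := by
  haveI := collapse_subsingleton
  apply normalClosure_eq_top_of_subsingleton rels Cfsg.Agent.Lib.Helper28.TCONWCLink.rels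
  intro r hr
  rcases hr with hr | hr
  · exact Or.inl (Or.inl hr)
  · have h1 : r ∈ Cfsg.Spor.ON.extra ++ [FreeGroup.mk tWord] := hr
    rw [List.mem_append, List.mem_singleton] at h1
    rcases h1 with h1 | h1
    · exact Or.inl (Or.inr h1)
    · exact Or.inr h1


/-- The presented O'Nan group is simple of the expected order (that is, it is a simple group of the order of the O'Nan group). -/
theorem result : Cfsg.IsON Cfsg.Spor.ON := by
  obtain ⟨hidx, φ, hφ, f, hbij, hequiv, h0⟩ := Cfsg.Agent.Lib.Helper28.TCONMain.main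
  obtain ⟨hfin, hle⟩ := Cfsg.Agent.Lib.Helper28.TCONTower.card0
  haveI : Finite (PresentedGroup rels) := hfin
  have hlow : 460815505920 ≤ Nat.card φ.range :=
    le_trans Cfsg.Agent.Lib.Helper28.TCONBMain.card_base (card_baseGroup_le hT Cfsg.Agent.Lib.Helper28.TCONBMain.hTB rfl (by decide)
      Cfsg.Agent.Lib.Helper28.TCONBMain.hagree φ.range (sigma_mem_range link hT φ hφ))
  obtain ⟨hinj, hcard⟩ := injective_of_card_le φ hle hlow
  refine ⟨?_, hcard⟩
  have hidx' : ((Subgroup.closure S).map (PresentedGroup.mk rels)).index = 122760 := hidx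
  have hcardH : Nat.card ((Subgroup.closure S).map (PresentedGroup.mk rels)) = 3753792 := by
    have := ((Subgroup.closure S).map (PresentedGroup.mk rels)).index_mul_card
    rw [hidx', hcard] at this
    omega
  have hcore := normalCore_eq_bot _ φ f hbij.2 hequiv hinj
  have hne : (Subgroup.closure S).map (PresentedGroup.mk rels) ≠ ⊤ := by
    intro e
    rw [e, Subgroup.index_top] at hidx'
    norm_num at hidx'
  have hgens := BT.All_of_all (fun _ h => of_decide_eq_true h) _ Cfsg.Agent.Lib.Helper28.TCONMain.hgens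
  have hfm := f_mk link hT hn φ hφ f hequiv h0
  have hSgl : ∀ x ∈ ([.a, .b, .c, .d, .e, .f] : List Cfsg.Spor.ON.Gen), FreeGroup.of x ∈ S := by
    intro x hx
    simp only [List.mem_cons, List.not_mem_nil, or_false] at hx
    rcases hx with rfl | rfl | rfl | rfl | rfl | rfl <;> simp [S]
  have hmax : ∀ K : Subgroup (PresentedGroup rels), (Subgroup.closure S).map (PresentedGroup.mk rels) ≤ K →
      K = (Subgroup.closure S).map (PresentedGroup.mk rels) ∨ K = ⊤ := by
    apply max_of_steps _ φ f hbij.1 hequiv (fun q => orbData.oid q.val)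
      (fun p q hpq => exists_perm_of_oid_eq link hT φ hφ orbData subPaths hsubmem hsubmem' hclosed hgens hconn p q hpq)
      (PresentedGroup.mk rels (FreeGroup.mk [(.g, true)])) 1 5 ?_ ?_ ?_ ?_
    · intro x hx
      exact cls_of_not_mem' _ hn f hbij.1 h0 orbData 5 hclsAll h00 cntc0 x hx
    · show orbData.oid (f _).val = 1
      rw [hfm]; exact hg0
    · intro c hc0 hcm hc1
      have hcm' : c < 5 := hcm
      interval_cases c
      · exact absurd rfl hc0
      · exact absurd rfl hc1
      · refine ⟨PresentedGroup.mk rels (FreeGroup.mk yWord2), PresentedGroup.mk rels (FreeGroup.mk hWord2), ?_, ?_, ?_⟩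
        · exact Subgroup.mem_map_of_mem _ (mk_mem_closure S _ hSgl hWord2 (by decide))
        · show orbData.oid (f _).val = 2
          rw [hfm]; exact hy2
        · show orbData.oid (f _).val = 1
          have e : PresentedGroup.mk rels (FreeGroup.mk yWord2) * PresentedGroup.mk rels (FreeGroup.mk hWord2) *
              PresentedGroup.mk rels (FreeGroup.mk yWord2) = PresentedGroup.mk rels (FreeGroup.mk (yWord2 ++ hWord2 ++ yWord2)) := by
            rw [← map_mul, ← map_mul, FreeGroup.mul_mk, FreeGroup.mul_mk]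
          rw [e, hfm]; exact hz2
      · refine ⟨PresentedGroup.mk rels (FreeGroup.mk yWord3), PresentedGroup.mk rels (FreeGroup.mk hWord3), ?_, ?_, ?_⟩
        · exact Subgroup.mem_map_of_mem _ (mk_mem_closure S _ hSgl hWord3 (by decide))
        · show orbData.oid (f _).val = 3
          rw [hfm]; exact hy3
        · show orbData.oid (f _).val = 1
          have e : PresentedGroup.mk rels (FreeGroup.mk yWord3) * PresentedGroup.mk rels (FreeGroup.mk hWord3) *
              PresentedGroup.mk rels (FreeGroup.mk yWord3) = PresentedGroup.mk rels (FreeGroup.mk (yWord3 ++ hWord3 ++ yWord3)) := by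
            rw [← map_mul, ← map_mul, FreeGroup.mul_mk, FreeGroup.mul_mk]
          rw [e, hfm]; exact hz3
      · refine ⟨PresentedGroup.mk rels (FreeGroup.mk yWord4), PresentedGroup.mk rels (FreeGroup.mk hWord4), ?_, ?_, ?_⟩
        · exact Subgroup.mem_map_of_mem _ (mk_mem_closure S _ hSgl hWord4 (by decide))
        · show orbData.oid (f _).val = 4
          rw [hfm]; exact hy4
        · show orbData.oid (f _).val = 1
          have e : PresentedGroup.mk rels (FreeGroup.mk yWord4) * PresentedGroup.mk rels (FreeGroup.mk hWord4) *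
              PresentedGroup.mk rels (FreeGroup.mk yWord4) = PresentedGroup.mk rels (FreeGroup.mk (yWord4 ++ hWord4 ++ yWord4)) := by
            rw [← map_mul, ← map_mul, FreeGroup.mul_mk, FreeGroup.mul_mk]
          rw [e, hfm]; exact hz4
    · intro K hHK hg
      rw [eq_top_iff, ← PresentedGroup.closure_range_of, Subgroup.closure_le]
      rintro _ ⟨x, rfl⟩
      cases x
      · exact hg
      · exact hHK (Subgroup.mem_map_of_mem _ (Subgroup.subset_closure (by simp [S])))
      · exact hHK (Subgroup.mem_map_of_mem _ (Subgroup.subset_closure (by simp [S])))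
      · exact hHK (Subgroup.mem_map_of_mem _ (Subgroup.subset_closure (by simp [S])))
      · exact hHK (Subgroup.mem_map_of_mem _ (Subgroup.subset_closure (by simp [S])))
      · exact hHK (Subgroup.mem_map_of_mem _ (Subgroup.subset_closure (by simp [S])))
      · exact hHK (Subgroup.mem_map_of_mem _ (Subgroup.subset_closure (by simp [S])))
  have ht : (PresentedGroup.mk rels (FreeGroup.mk tWord)) ^ 5 = 1 := by
    apply hinj
    rw [map_one, ← map_pow, mk_pow]
    apply phi_mk_eq_one link hT φ hφ
    rw [tPath_eq]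
    exact htfix
  exact isSimpleGroup_of_max _ hcore hne hmax 5 (by norm_num) (by rw [hcardH]; norm_num) _ ht hcl

end Cfsg.Agent.S1699
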