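import Cfsg.Statements.S2172
import Mathlib
import Cfsg.Agent.Lib.Helper25.OrthReflRk
import Cfsg.Agent.Lib.Helper5.OmegaInvSplit

set_option autoImplicit false
open Cfsg

namespace Cfsg.Agent.S2172

section Aux
set_option linter.unusedSectionVars false
set_option linter.unusedVariables false
set_option linter.unusedSimpArgs false
namespace S2172aux
open Module QuadraticMap Matrix Cfsg.Agent.Lib.Helper25.CD Cfsg.Agent.Lib.Helper25.Spin
  Cfsg.Agent.Lib.Helper25.MaxTS Cfsg.Agent.Lib.Helper25.OrthDet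
  Cfsg.Agent.Lib.Helper5.DicksonRank Cfsg.Agent.Lib.Helper5.OmegaInvSplit

variable {F : Type*} [Field F] {m : ℕ}

local notation "QP" => (plusQ m (F := F))

/-- the image of `g - 1` -/
noncomputable def imS (g : ↥(Cfsg.isometryGroup F ⇑(plusQ m (F := F)))) :
    Submodule F (Fin m ⊕ Fin m → F) :=
  LinearMap.range (((g : GL (Fin m ⊕ Fin m) F) : Matrix (Fin m ⊕ Fin m) (Fin m ⊕ Fin m) F) - 1).mulVecLin

lemma isIso (g : ↥(Cfsg.isometryGroup F ⇑(plusQ m (F := F)))) :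
    IsIsoM m ((g : GL (Fin m ⊕ Fin m) F) : Matrix (Fin m ⊕ Fin m) (Fin m ⊕ Fin m) F) :=
  fun v => g.2 v v

/-- the exceptional condition: `t - 1` has rank `m` and its image is totally singular -/
def Cond (g : ↥(Cfsg.isometryGroup F ⇑(plusQ m (F := F)))) : Prop :=
  (((g : GL (Fin m ⊕ Fin m) F) : Matrix (Fin m ⊕ Fin m) (Fin m ⊕ Fin m) F) - 1).rank = m ∧
  ∀ v : Fin m ⊕ Fin m → F, plusQ m (F := F)
    (v + ((g : GL (Fin m ⊕ Fin m) F) : Matrix (Fin m ⊕ Fin m) (Fin m ⊕ Fin m) F) *ᵥ v) = 0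

lemma sub_one_mulVec [CharP F 2] (A : Matrix (Fin m ⊕ Fin m) (Fin m ⊕ Fin m) F)
    (v : Fin m ⊕ Fin m → F) : (A - 1) *ᵥ v = v + A *ᵥ v := by
  rw [Matrix.sub_mulVec, Matrix.one_mulVec]
  ext i
  simp only [Pi.sub_apply, Pi.add_apply]
  rw [sub_eq_add_neg, CharTwo.neg_eq, add_comm]

lemma exists_fix_or_cond [CharP F 2] (t : ↥(Cfsg.isometryGroup F ⇑(plusQ m (F := F))))
    (htt : t * t = 1) :
    (∃ u, plusQ m (F := F) u ≠ 0 ∧
      ((t : GL (Fin m ⊕ Fin m) F) : Matrix (Fin m ⊕ Fin m) (Fin m ⊕ Fin m) F) *ᵥ u = u) ∨ Cond t := by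
  by_cases h : ∃ u, plusQ m (F := F) u ≠ 0 ∧
      ((t : GL (Fin m ⊕ Fin m) F) : Matrix (Fin m ⊕ Fin m) (Fin m ⊕ Fin m) F) *ᵥ u = u
  · exact Or.inl h
  · right
    push Not at h
    have h1 : TS (plusQ m (F := F)) (fixS (toOG (plusQ m (F := F)) t)) := by
      intro u hu
      by_contra hne
      rw [mem_fixS, toOG_apply] at hu
      exact h u hne hu
    have h2 := TS.finrank_le (plusQ_nondegenerate m (F := F)) (finrank_plus m) h1
    have h3 := card_le_two_fix (plusQ m (F := F)) htt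
    have h4 := rank_add_fix (plusQ m (F := F)) t
    simp only [Fintype.card_sum, Fintype.card_fin] at h3 h4
    refine ⟨by omega, fun v => ?_⟩
    apply h1
    apply range_le_fix (plusQ m (F := F)) htt
    exact ⟨v, by rw [Matrix.mulVecLin_apply, sub_one_mulVec]⟩

lemma imS_ts [CharP F 2] {t : ↥(Cfsg.isometryGroup F ⇑(plusQ m (F := F)))} (hc : Cond t) :
    TS (plusQ m (F := F)) (imS t) := by
  rintro _ ⟨v, rfl⟩
  rw [Matrix.mulVecLin_apply, sub_one_mulVec]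
  exact hc.2 v

lemma imS_finrank {t : ↥(Cfsg.isometryGroup F ⇑(plusQ m (F := F)))} (hc : Cond t) :
    finrank F (imS t) = m := hc.1

lemma imS_conj {c t s : ↥(Cfsg.isometryGroup F ⇑(plusQ m (F := F)))} (hc : c * t * c⁻¹ = s) :
    imS s = (imS t).map
      ((c : GL (Fin m ⊕ Fin m) F) : Matrix (Fin m ⊕ Fin m) (Fin m ⊕ Fin m) F).mulVecLin := by
  have h1 : s * c = c * t := by rw [← hc]; group
  have h2 : ((s : GL (Fin m ⊕ Fin m) F) : Matrix (Fin m ⊕ Fin m) (Fin m ⊕ Fin m) F) *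
      ((c : GL (Fin m ⊕ Fin m) F) : Matrix (Fin m ⊕ Fin m) (Fin m ⊕ Fin m) F) =
      ((c : GL (Fin m ⊕ Fin m) F) : Matrix (Fin m ⊕ Fin m) (Fin m ⊕ Fin m) F) *
      ((t : GL (Fin m ⊕ Fin m) F) : Matrix (Fin m ⊕ Fin m) (Fin m ⊕ Fin m) F) := by
    have := congrArg (fun x : ↥(Cfsg.isometryGroup F ⇑(plusQ m (F := F))) =>
      ((x : GL (Fin m ⊕ Fin m) F) : Matrix (Fin m ⊕ Fin m) (Fin m ⊕ Fin m) F)) h1
    simpa using this
  have h3 : (((s : GL (Fin m ⊕ Fin m) F) : Matrix (Fin m ⊕ Fin m) (Fin m ⊕ Fin m) F) - 1) *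
      ((c : GL (Fin m ⊕ Fin m) F) : Matrix (Fin m ⊕ Fin m) (Fin m ⊕ Fin m) F) =
      ((c : GL (Fin m ⊕ Fin m) F) : Matrix (Fin m ⊕ Fin m) (Fin m ⊕ Fin m) F) *
      (((t : GL (Fin m ⊕ Fin m) F) : Matrix (Fin m ⊕ Fin m) (Fin m ⊕ Fin m) F) - 1) := by
    rw [sub_mul, mul_sub, h2, one_mul, mul_one]
  have hsurj : LinearMap.range
      ((c : GL (Fin m ⊕ Fin m) F) : Matrix (Fin m ⊕ Fin m) (Fin m ⊕ Fin m) F).mulVecLin = ⊤ :=
    LinearMap.range_eq_top.mpr (LinearMap.surjective_of_injective (isIso c).injective)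
  have h4 := congrArg (fun M : Matrix (Fin m ⊕ Fin m) (Fin m ⊕ Fin m) F =>
    LinearMap.range M.mulVecLin) h3
  simp only [Matrix.mulVecLin_mul] at h4
  rw [LinearMap.range_comp_of_range_eq_top _ hsurj, LinearMap.range_comp] at h4
  exact h4

/-- the family parity can be computed from any maximal totally singular subspace -/
lemma rk_parity {M : Matrix (Fin m ⊕ Fin m) (Fin m ⊕ Fin m) F} (hM : IsIsoM m M)
    {E : Submodule F (Fin m ⊕ Fin m → F)} (hE : TS (plusQ m (F := F)) E) (hEm : finrank F E = m) :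
    Even (rk M + (m - finrank F (E ⊓ E.map M.mulVecLin : Submodule F (Fin m ⊕ Fin m → F)))) := by
  have hQ := plusQ_nondegenerate m (F := F)
  have hdim := finrank_plus m (F := F)
  have hS := stdE_ts m (F := F)
  have hSm := stdE_finrank m (F := F)
  have hgE : TS (plusQ m (F := F)) (E.map M.mulVecLin) := by
    rintro _ ⟨e, he, rfl⟩
    rw [Matrix.mulVecLin_apply, hM]
    exact hE e he
  have hgEm : finrank F (E.map M.mulVecLin) = m := by rw [hM.map_finrank, hEm]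
  have hgSm : finrank F ((stdE m (F := F)).map M.mulVecLin) = m := by rw [hM.map_finrank, hSm]
  have ha := parity hQ hdim hS hSm hE hEm hgE hgEm
  have hb := parity hQ hdim hS hSm hM.map_ts hgSm hgE hgEm
  have hc : ((stdE m (F := F)).map M.mulVecLin ⊓ E.map M.mulVecLin) =
      (stdE m ⊓ E).map M.mulVecLin := (Submodule.map_inf _ hM.injective).symm
  rw [hc, hM.map_finrank] at hb
  unfold rk
  rw [Nat.even_iff] at ha hb ⊢
  omega

theorem mem_omega_of_even_rk' [Fintype F] [CharP F 2] (hm : 1 ≤ m)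
    (hex : Fintype.card F ≠ 2 ∨ m ≠ 2) (q : (Fin m ⊕ Fin m → F) → F)
    (hq : Cfsg.quadFormPlus m F = q) (g : ↥(Cfsg.isometryGroup F q))
    (hev : Even (rk ((g : Matrix.GeneralLinearGroup (Fin m ⊕ Fin m) F) :
      Matrix (Fin m ⊕ Fin m) (Fin m ⊕ Fin m) F))) : g ∈ Cfsg.Omega F q := by
  subst hq
  exact mem_omega_of_even_rk hm hex g hev

theorem main_aux [Fintype F] [CharP F 2] (hm : 4 ≤ m) (q : (Fin m ⊕ Fin m → F) → F)
    (hq : ⇑(plusQ m (F := F)) = q)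
    (t s : ↥(Cfsg.isometryGroup F q)) (ht : orderOf t = 2)
    (htO : t ∈ Cfsg.Omega F q) (hconj : IsConj t s) :
    (¬ (((((t : ↥(Cfsg.isometryGroup F q)) : GL (Fin m ⊕ Fin m) F) : Matrix (Fin m ⊕ Fin m) (Fin m ⊕ Fin m) F) - 1).rank = m ∧ ∀ v : Fin m ⊕ Fin m → F, q (v + Matrix.mulVec (((t : ↥(Cfsg.isometryGroup F q)) : GL (Fin m ⊕ Fin m) F) : Matrix (Fin m ⊕ Fin m) (Fin m ⊕ Fin m) F) v) = 0) →
      ∃ g ∈ Cfsg.Omega F q, g * t * g⁻¹ = s) ∧
    ((((((t : ↥(Cfsg.isometryGroup F q)) : GL (Fin m ⊕ Fin m) F) : Matrix (Fin m ⊕ Fin m) (Fin m ⊕ Fin m) F) - 1).rank = m ∧ ∀ v : Fin m ⊕ Fin m → F, q (v + Matrix.mulVec (((t : ↥(Cfsg.isometryGroup F q)) : GL (Fin m ⊕ Fin m) F) : Matrix (Fin m ⊕ Fin m) (Fin m ⊕ Fin m) F) v) = 0) →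
      ((∃ g ∈ Cfsg.Omega F q, g * t * g⁻¹ = s) ↔
        Even (Module.finrank F ↥(LinearMap.range (Matrix.toLin' ((((t : ↥(Cfsg.isometryGroup F q)) : GL (Fin m ⊕ Fin m) F) : Matrix (Fin m ⊕ Fin m) (Fin m ⊕ Fin m) F) - 1)) ⊓ LinearMap.range (Matrix.toLin' ((((s : ↥(Cfsg.isometryGroup F q)) : GL (Fin m ⊕ Fin m) F) : Matrix (Fin m ⊕ Fin m) (Fin m ⊕ Fin m) F) - 1)))))) := by
  subst hq
  have hQ := plusQ_nondegenerate m (F := F)
  have hex : Fintype.card F ≠ 2 ∨ Fintype.card (Fin m ⊕ Fin m) ≠ 4 :=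
    Or.inr (by rw [Fintype.card_sum, Fintype.card_fin]; omega)
  have htt : t * t = 1 := by
    have := pow_orderOf_eq_one t
    rwa [ht, _root_.sq] at this
  refine ⟨fun hn => ?_, fun hc => ?_⟩
  · rcases exists_fix_or_cond t htt with h | h
    · exact conj_in_omega_of_fix_nonsing (plusQ m (F := F)) hQ hex t s hconj h
    · exact absurd h hn
  · have hc' : Cond t := hc
    have hE := imS_ts hc'
    have hEm := imS_finrank hc'
    have hmeven : Even m := by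
      have := (mem_omega_iff_even_rank (plusQ m (F := F)) hQ hex _ rfl t).mp htO
      rwa [hc.1] at this
    have hle : finrank F (imS t ⊓ imS s : Submodule F (Fin m ⊕ Fin m → F)) ≤ m :=
      le_trans (Submodule.finrank_mono inf_le_left) hEm.le
    show (∃ g ∈ Cfsg.Omega F ⇑(plusQ m (F := F)), g * t * g⁻¹ = s) ↔
      Even (finrank F (imS t ⊓ imS s : Submodule F (Fin m ⊕ Fin m → F)))
    constructor
    · rintro ⟨g, hgO, hg⟩
      have h1 := even_rk_of_mem_omega' _ coe_plusQ.symm g hgO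
      have h2 := rk_parity (isIso g) hE hEm
      rw [← imS_conj hg] at h2
      rw [Nat.even_iff] at h1 h2 hmeven ⊢
      omega
    · intro hev
      obtain ⟨c, hcs⟩ := isConj_iff.mp hconj
      have h2 := rk_parity (isIso c) hE hEm
      rw [← imS_conj hcs] at h2
      refine ⟨c, ?_, hcs⟩
      apply mem_omega_of_even_rk' (by omega) (Or.inr (by omega)) _ coe_plusQ.symm c
      rw [Nat.even_iff] at h2 hmeven hev ⊢
      omega

end S2172aux
end Aux

/-- Splitting of involution classes from O to Ω for the hyperbolic quadratic form Q = Σ x_i y_i in dimension 2m over a finite field F of characteristic two, m ≥ 4. Let t, s be involutions of the commutator subgroup Ω that are conjugate in the full isometry group O. If it is not the case that t − 1 has rank m and Q(v + t v) = 0 for every vector v, then t and s are conjugate by an element of Ω. If t − 1 has rank m and Q(v + t v) = 0 for all v, then t and s are conjugate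 by an element of Ω exactly when the intersection of the images of t − 1 and s − 1 has even dimension (so the class of t in O meets at most two classes of Ω). -/
theorem result {F : Type*} [Field F] [Fintype F] [CharP F 2] {m : ℕ} (hm : 4 ≤ m) (t s : ↥(Cfsg.isometryGroup F (Cfsg.quadFormPlus m F))) (ht : orderOf t = 2) (hs : orderOf s = 2) (htO : t ∈ Cfsg.Omega F (Cfsg.quadFormPlus m F)) (hsO : s ∈ Cfsg.Omega F (Cfsg.quadFormPlus m F)) (hconj : IsConj t s) :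
    (¬ (((((t : ↥(Cfsg.isometryGroup F (Cfsg.quadFormPlus m F))) : GL (Fin m ⊕ Fin m) F) : Matrix (Fin m ⊕ Fin m) (Fin m ⊕ Fin m) F) - 1).rank = m ∧ ∀ v : Fin m ⊕ Fin m → F, Cfsg.quadFormPlus m F (v + Matrix.mulVec (((t : ↥(Cfsg.isometryGroup F (Cfsg.quadFormPlus m F))) : GL (Fin m ⊕ Fin m) F) : Matrix (Fin m ⊕ Fin m) (Fin m ⊕ Fin m) F) v) = 0) →
      ∃ g ∈ Cfsg.Omega F (Cfsg.quadFormPlus m F), g * t * g⁻¹ = s) ∧
    ((((((t : ↥(Cfsg.isometryGroup F (Cfsg.quadFormPlus m F))) : GL (Fin m ⊕ Fin m) F) : Matrix (Fin m ⊕ Fin m) (Fin m ⊕ Fin m) F) - 1).rank = m ∧ ∀ v : Fin m ⊕ Fin m → F, Cfsg.quadFormPlus m F (v + Matrix.mulVec (((t : ↥(Cfsg.isometryGroup F (Cfsg.quadFormPlus m F))) : GL (Fin m ⊕ Fin m) F) : Matrix (Fin m ⊕ Fin m) (Fin m ⊕ Fin m) F) v) = 0) →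
      ((∃ g ∈ Cfsg.Omega F (Cfsg.quadFormPlus m F), g * t * g⁻¹ = s) ↔
        Even (Module.finrank F ↥(LinearMap.range (Matrix.toLin' ((((t : ↥(Cfsg.isometryGroup F (Cfsg.quadFormPlus m F))) : GL (Fin m ⊕ Fin m) F) : Matrix (Fin m ⊕ Fin m) (Fin m ⊕ Fin m) F) - 1)) ⊓ LinearMap.range (Matrix.toLin' ((((s : ↥(Cfsg.isometryGroup F (Cfsg.quadFormPlus m F))) : GL (Fin m ⊕ Fin m) F) : Matrix (Fin m ⊕ Fin m) (Fin m ⊕ Fin m) F) - 1)))))) := by
  exact S2172aux.main_aux hm _ Cfsg.Agent.Lib.Helper25.OrthDet.coe_plusQ t s ht htO hconj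

end Cfsg.Agent.S2172
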