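import Cfsg.Statements.S2597
import Mathlib
import Cfsg.Agent.S2172
import Cfsg.Agent.Lib.Helper5.OrthBridge
import Cfsg.Agent.Lib.Helper5.OrthStd

set_option autoImplicit false
open Cfsg

namespace Cfsg.Agent.S2597

section Aux
set_option linter.unusedSectionVars false
set_option linter.unusedVariables false
set_option linter.unusedSimpArgs false
namespace S2597aux
open Module QuadraticMap Matrix Cfsg.Agent.Lib.Helper25 Cfsg.Agent.Lib.Helper25.CD
  Cfsg.Agent.Lib.Helper25.Spin Cfsg.Agent.Lib.Helper25.MaxTS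
  Cfsg.Agent.Lib.Helper5 Cfsg.Agent.Lib.Helper5.DicksonRank Cfsg.Agent.Lib.Helper5.OmegaInvSplit
  Cfsg.Agent.Lib.Helper5.OrthInv Cfsg.Agent.Lib.Helper5.OrthStd
  Cfsg.Agent.S2172.S2172aux

variable {F : Type*} [Field F] {m : ℕ}

local notation "QP" => (plusQ m (F := F))

abbrev OO (F : Type*) [Field F] (m : ℕ) := ↥(Cfsg.isometryGroup F ⇑(plusQ m (F := F)))

abbrev mat (g : OO F m) : Matrix (Fin m ⊕ Fin m) (Fin m ⊕ Fin m) F :=
  ((g : GL (Fin m ⊕ Fin m) F) : Matrix (Fin m ⊕ Fin m) (Fin m ⊕ Fin m) F)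

lemma plusQ_eq : Cfsg.Agent.S0832.S0832aux.plusQ F m = plusQ m (F := F) := by
  ext x
  rw [Cfsg.Agent.S0832.S0832aux.plusQ_apply, plusQ_apply]

lemma hex_of [Fintype F] (hex : Fintype.card F ≠ 2 ∨ m ≠ 2) :
    Fintype.card F ≠ 2 ∨ Fintype.card (Fin m ⊕ Fin m) ≠ 4 := by
  rcases hex with h | h
  · exact Or.inl h
  · right; rw [Fintype.card_sum, Fintype.card_fin]; omega

lemma tl_sub_id (t : OO F m) :
    (OrthBridge.tl QP t - LinearMap.id : (Fin m ⊕ Fin m → F) →ₗ[F] (Fin m ⊕ Fin m → F)) =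
      (mat t - 1).mulVecLin := by
  apply LinearMap.ext
  intro x
  rw [LinearMap.sub_apply, LinearMap.id_apply, OrthBridge.tl_apply, Matrix.mulVecLin_apply,
    Matrix.sub_mulVec, Matrix.one_mulVec]

lemma rk_eq (t : OO F m) : OrthBridge.rk QP t = (mat t - 1).rank := by
  unfold OrthBridge.rk
  rw [tl_sub_id]
  rfl

lemma al_iff [CharP F 2] (t : OO F m) (ht : orderOf t = 2) :
    OrthBridge.al QP t ↔ ∀ v : Fin m ⊕ Fin m → F, QP (v + mat t *ᵥ v) = 0 := by
  have hGood := good_of_isom QP (OrthBridge.tl QP t) (OrthBridge.tl_isom QP t)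
    (OrthBridge.tl_sq QP t ht)
  unfold OrthBridge.al
  constructor
  · intro h v
    have h1 := hGood.2.2 v
    rw [h v, sub_id_apply, OrthBridge.tl_apply, add_comm] at h1
    exact h1
  · intro h x
    rw [← hGood.2.2 x, sub_id_apply, OrthBridge.tl_apply, add_comm]
    exact h x

lemma cond_iff [CharP F 2] (t : OO F m) (ht : orderOf t = 2) :
    Cond t ↔ OrthBridge.rk QP t = m ∧ OrthBridge.al QP t := by
  unfold Cond
  rw [rk_eq, al_iff t ht]

/-- the family of the maximal totally singular subspace `im (t - 1)` -/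
def fam (g : OO F m) : Prop :=
  Even (m - finrank F (stdE m ⊓ imS g : Submodule F (Fin m ⊕ Fin m → F)))

lemma orderOf_conj' {G : Type*} [Group G] (r t : G) : orderOf (r * t * r⁻¹) = orderOf t := by
  have h := orderOf_injective ((MulAut.conj r).toMonoidHom) (MulAut.conj r).injective t
  simpa [MulAut.conj_apply] using h

section Fin
variable [Fintype F] [CharP F 2]

lemma inv_facts (t : OO F m) (ht : orderOf t = 2) :
    1 ≤ OrthBridge.rk QP t ∧ OrthBridge.rk QP t ≤ m := by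
  obtain ⟨h1, h2, -, -⟩ := OrthBridge.bounds QP (plusQ_nondegenerate m) t ht
  rw [Fintype.card_sum, Fintype.card_fin] at h2
  exact ⟨h1, by omega⟩

lemma mem_omega_iff_rk (hex : Fintype.card F ≠ 2 ∨ m ≠ 2) (t : OO F m) :
    t ∈ Cfsg.Omega F ⇑QP ↔ Even (OrthBridge.rk QP t) := by
  rw [rk_eq]
  exact mem_omega_iff_even_rank QP (plusQ_nondegenerate m) (hex_of hex) _ rfl t

lemma exists_nonal (s : ℕ) (hs1 : 1 ≤ s) (hsm : s ≤ m) :
    ∃ t : OO F m, orderOf t = 2 ∧ OrthBridge.rk QP t = s ∧ ¬ OrthBridge.al QP t := by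
  have hQ := plusQ_nondegenerate m (F := F)
  have hEo : ∀ i j, polar QP (plusE F m i) (plusE F m j) = 0 := fun i j => by
    rw [← plusQ_eq]; exact plusE_orth m i j
  have hEQ : ∀ i, QP (plusE F m i) = 1 := fun i => by rw [← plusQ_eq]; exact plusE_Q m i
  obtain ⟨T, hT, hTT, hTr, hTa⟩ := exists_nonalt QP hQ
      (fun i : Fin s => plusE F m (Fin.castLE hsm i))
      ((plusE_li m).comp _ (Fin.castLE_injective hsm)) (fun i j => hEo _ _) (fun i => hEQ _)
  obtain ⟨t, ht⟩ := OrthBridge.exists_elt QP T hT hTT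
  have hne : OrthBridge.tl QP t ≠ LinearMap.id := by
    intro h0
    rw [ht] at h0
    rw [h0, sub_self, LinearMap.range_zero, finrank_bot] at hTr
    omega
  refine ⟨t, OrthBridge.order_two_of QP t (by rw [ht]; exact hTT) hne, ?_, ?_⟩
  · unfold OrthBridge.rk
    rw [ht]
    exact hTr
  · unfold OrthBridge.al
    rw [ht]
    exact hTa (by omega)

lemma exists_al (k : ℕ) (hk1 : 1 ≤ k) (hkm : 2 * k ≤ m) :
    ∃ t : OO F m, orderOf t = 2 ∧ OrthBridge.rk QP t = 2 * k ∧ OrthBridge.al QP t := by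
  have hQ := plusQ_nondegenerate m (F := F)
  have hPo : ∀ i j, polar QP (plusP F m i) (plusP F m j) = 0 := fun i j => by
    rw [← plusQ_eq]; exact plusP_orth m i j
  have hPQ : ∀ i, QP (plusP F m i) = 0 := fun i => by rw [← plusQ_eq]; exact plusP_Q m i
  have hkk : k + k ≤ m := by omega
  obtain ⟨T, hT, hTT, hTr, hTa⟩ := exists_alt QP hQ
      (fun i : Fin (k + k) => plusP F m (Fin.castLE hkk i))
      ((plusP_li m).comp _ (Fin.castLE_injective hkk)) (fun i j => hPo _ _) (fun i => hPQ _)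
  obtain ⟨t, ht⟩ := OrthBridge.exists_elt QP T hT hTT
  have hne : OrthBridge.tl QP t ≠ LinearMap.id := by
    intro h0
    rw [ht] at h0
    rw [h0, sub_self, LinearMap.range_zero, finrank_bot] at hTr
    omega
  refine ⟨t, OrthBridge.order_two_of QP t (by rw [ht]; exact hTT) hne, ?_, ?_⟩
  · unfold OrthBridge.rk
    rw [ht, hTr]
    omega
  · unfold OrthBridge.al
    rw [ht]
    exact hTa

lemma conj_omega_of_not_cond (hex : Fintype.card F ≠ 2 ∨ m ≠ 2) (t s : OO F m)
    (ht : orderOf t = 2) (hn : ¬ Cond t) (hconj : IsConj t s) :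
    ∃ g ∈ Cfsg.Omega F ⇑QP, g * t * g⁻¹ = s := by
  have htt : t * t = 1 := by
    have := pow_orderOf_eq_one t
    rwa [ht, _root_.sq] at this
  rcases exists_fix_or_cond t htt with h | h
  · exact conj_in_omega_of_fix_nonsing QP (plusQ_nondegenerate m) (hex_of hex) t s hconj h
  · exact absurd h hn

/-- for `c` conjugating `t` to `s` (both exceptional): `c ∈ Ω` iff the families agree -/
lemma mem_omega_iff_fam (hm : 1 ≤ m) (hex : Fintype.card F ≠ 2 ∨ m ≠ 2) (t s c : OO F m)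
    (hct : Cond t) (hcs : Cond s) (hc : c * t * c⁻¹ = s) :
    c ∈ Cfsg.Omega F ⇑QP ↔ (fam t ↔ fam s) := by
  have hQ := plusQ_nondegenerate m (F := F)
  have hdim := finrank_plus m (F := F)
  have hS := stdE_ts m (F := F)
  have hSm := stdE_finrank m (F := F)
  have hE := imS_ts hct
  have hEm := imS_finrank hct
  have hEs := imS_ts hcs
  have hEsm := imS_finrank hcs
  have h2 := rk_parity (isIso c) hE hEm
  rw [← imS_conj hc] at h2
  have ha := parity hQ hdim hS hSm hE hEm hEs hEsm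
  have h3 : c ∈ Cfsg.Omega F ⇑QP ↔ Even (OrthDet.rk
      ((c : GL (Fin m ⊕ Fin m) F) : Matrix (Fin m ⊕ Fin m) (Fin m ⊕ Fin m) F)) :=
    ⟨fun h => OrthDet.even_rk_of_mem_omega' _ OrthDet.coe_plusQ.symm c h,
     fun h => mem_omega_of_even_rk' hm hex _ OrthDet.coe_plusQ.symm c h⟩
  rw [h3]
  unfold fam
  rw [Nat.even_iff] at h2 ha
  simp only [Nat.even_iff]
  omega

lemma conj_omega_iff_fam (hm : 1 ≤ m) (hex : Fintype.card F ≠ 2 ∨ m ≠ 2) (t s : OO F m)
    (hct : Cond t) (hcs : Cond s) (hconj : IsConj t s) :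
    (∃ g ∈ Cfsg.Omega F ⇑QP, g * t * g⁻¹ = s) ↔ (fam t ↔ fam s) := by
  constructor
  · rintro ⟨g, hgO, hg⟩
    exact (mem_omega_iff_fam hm hex t s g hct hcs hg).mp hgO
  · intro h
    obtain ⟨c, hc⟩ := isConj_iff.mp hconj
    exact ⟨c, (mem_omega_iff_fam hm hex t s c hct hcs hc).mpr h, hc⟩

lemma cond_conj (t c : OO F m) (ht : orderOf t = 2) (hct : Cond t) : Cond (c * t * c⁻¹) := by
  have ht' : orderOf (c * t * c⁻¹) = 2 := by rw [orderOf_conj', ht]
  have h := (OrthBridge.group_conj_iff QP (plusQ_nondegenerate m) t (c * t * c⁻¹) ht ht').mp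
    (isConj_iff.mpr ⟨c, rfl⟩)
  rw [cond_iff _ ht] at hct
  rw [cond_iff _ ht']
  exact ⟨h.1 ▸ hct.1, h.2.mp hct.2⟩

/-- conjugating by a reflection changes the family -/
lemma fam_conj_refl (hm : 1 ≤ m) (hex : Fintype.card F ≠ 2 ∨ m ≠ 2) (t : OO F m)
    (ht : orderOf t = 2) (hct : Cond t) {u : Fin m ⊕ Fin m → F} (hu : QP u ≠ 0) :
    fam (reflM QP u * t * (reflM QP u)⁻¹) ↔ ¬ fam t := by
  have hcs := cond_conj t (reflM QP u) ht hct
  have h1 := mem_omega_iff_fam hm hex t _ (reflM QP u) hct hcs rfl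
  have h2 : reflM QP u ∉ Cfsg.Omega F ⇑QP :=
    reflM_not_mem_omega QP (plusQ_nondegenerate m) (hex_of hex) hu
  rw [h1] at h2
  tauto

end Fin

section Code
variable [Fintype F] [CharP F 2]

open Classical in
/-- a complete invariant of the `Ω`-classes of involutions of `Ω` -/
noncomputable def code (a : ↥(Cfsg.Omega F ⇑(plusQ m (F := F)))) : ℕ :=
  if OrthBridge.al QP (a : OO F m) then
    (if OrthBridge.rk QP (a : OO F m) = m ∧ ¬ fam (a : OO F m) then m + 1
      else OrthBridge.rk QP (a : OO F m))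
  else OrthBridge.rk QP (a : OO F m) - 1

lemma isConj_omega_iff (a b : ↥(Cfsg.Omega F ⇑(plusQ m (F := F)))) :
    IsConj a b ↔ ∃ g ∈ Cfsg.Omega F ⇑QP, g * (a : OO F m) * g⁻¹ = (b : OO F m) := by
  rw [isConj_iff]
  constructor
  · rintro ⟨c, hc⟩
    refine ⟨c.1, c.2, ?_⟩
    have := congrArg Subtype.val hc
    simpa using this
  · rintro ⟨g, hg, h⟩
    refine ⟨⟨g, hg⟩, ?_⟩
    apply Subtype.ext
    simpa using h

lemma inv_omega_facts (hex : Fintype.card F ≠ 2 ∨ m ≠ 2)
    (a : ↥(Cfsg.Omega F ⇑(plusQ m (F := F)))) (ha : orderOf a = 2) :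
    orderOf (a : OO F m) = 2 ∧ Even (OrthBridge.rk QP (a : OO F m)) ∧
      2 ≤ OrthBridge.rk QP (a : OO F m) ∧ OrthBridge.rk QP (a : OO F m) ≤ m := by
  have h1 : orderOf (a : OO F m) = 2 := by rw [Subgroup.orderOf_coe]; exact ha
  have h2 := (mem_omega_iff_rk hex (a : OO F m)).mp a.2
  obtain ⟨h3, h4⟩ := inv_facts (a : OO F m) h1
  refine ⟨h1, h2, ?_, h4⟩
  rw [Nat.even_iff] at h2
  omega

lemma code_eq_of_conj (hm : 1 ≤ m) (hex : Fintype.card F ≠ 2 ∨ m ≠ 2)
    (a b : ↥(Cfsg.Omega F ⇑(plusQ m (F := F)))) (ha : orderOf a = 2) (hb : orderOf b = 2)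
    (hab : IsConj a b) : code a = code b := by
  obtain ⟨ha2, -, -, -⟩ := inv_omega_facts hex a ha
  obtain ⟨hb2, -, -, -⟩ := inv_omega_facts hex b hb
  obtain ⟨g, hgO, hg⟩ := (isConj_omega_iff a b).mp hab
  have hO : IsConj (a : OO F m) (b : OO F m) := isConj_iff.mpr ⟨g, hg⟩
  obtain ⟨hrk, hal⟩ := (OrthBridge.group_conj_iff QP (plusQ_nondegenerate m) _ _ ha2 hb2).mp hO
  have hfam : OrthBridge.al QP (a : OO F m) → OrthBridge.rk QP (a : OO F m) = m →
      (fam (a : OO F m) ↔ fam (b : OO F m)) := by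
    intro h1 h2
    have hca : Cond (a : OO F m) := (cond_iff _ ha2).mpr ⟨h2, h1⟩
    have hcb : Cond (b : OO F m) := (cond_iff _ hb2).mpr ⟨hrk ▸ h2, hal.mp h1⟩
    exact (mem_omega_iff_fam hm hex _ _ g hca hcb hg).mp hgO
  unfold code
  by_cases h1 : OrthBridge.al QP (a : OO F m)
  · have h1b := hal.mp h1
    rw [if_pos h1, if_pos h1b, ← hrk]
    by_cases h2 : OrthBridge.rk QP (a : OO F m) = m
    · have hf := hfam h1 h2
      by_cases hfa : fam (a : OO F m)
      · rw [if_neg (by tauto), if_neg (by tauto)]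
      · rw [if_pos ⟨h2, hfa⟩, if_pos ⟨h2, by tauto⟩]
    · rw [if_neg (by tauto), if_neg (by tauto)]
  · have h1b : ¬ OrthBridge.al QP (b : OO F m) := fun h => h1 (hal.mpr h)
    rw [if_neg h1, if_neg h1b, hrk]

lemma conj_of_code_eq (hm : 1 ≤ m) (hex : Fintype.card F ≠ 2 ∨ m ≠ 2)
    (a b : ↥(Cfsg.Omega F ⇑(plusQ m (F := F)))) (ha : orderOf a = 2) (hb : orderOf b = 2)
    (hab : code a = code b) : IsConj a b := by
  obtain ⟨ha2, hae, ha3, ha4⟩ := inv_omega_facts hex a ha
  obtain ⟨hb2, hbe, hb3, hb4⟩ := inv_omega_facts hex b hb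
  rw [isConj_omega_iff]
  have hgc := OrthBridge.group_conj_iff QP (plusQ_nondegenerate m) (a : OO F m) (b : OO F m) ha2 hb2
  rw [Nat.even_iff] at hae hbe
  unfold code at hab
  by_cases h1 : OrthBridge.al QP (a : OO F m) <;> by_cases h1b : OrthBridge.al QP (b : OO F m)
  · rw [if_pos h1, if_pos h1b] at hab
    by_cases h2 : OrthBridge.rk QP (a : OO F m) = m ∧ ¬ fam (a : OO F m) <;>
      by_cases h2b : OrthBridge.rk QP (b : OO F m) = m ∧ ¬ fam (b : OO F m)
    · -- both exceptional of the second family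
      have hca : Cond (a : OO F m) := (cond_iff _ ha2).mpr ⟨h2.1, h1⟩
      have hcb : Cond (b : OO F m) := (cond_iff _ hb2).mpr ⟨h2b.1, h1b⟩
      have hO : IsConj (a : OO F m) (b : OO F m) :=
        hgc.mpr ⟨h2.1.trans h2b.1.symm, iff_of_true h1 h1b⟩
      exact (conj_omega_iff_fam hm hex _ _ hca hcb hO).mpr (iff_of_false h2.2 h2b.2)
    · rw [if_pos h2, if_neg h2b] at hab
      omega
    · rw [if_neg h2, if_pos h2b] at hab
      omega
    · rw [if_neg h2, if_neg h2b] at hab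
      have hO : IsConj (a : OO F m) (b : OO F m) := hgc.mpr ⟨hab, iff_of_true h1 h1b⟩
      by_cases h3 : OrthBridge.rk QP (a : OO F m) = m
      · have hca : Cond (a : OO F m) := (cond_iff _ ha2).mpr ⟨h3, h1⟩
        have hcb : Cond (b : OO F m) := (cond_iff _ hb2).mpr ⟨hab ▸ h3, h1b⟩
        have hfa : fam (a : OO F m) := by
          by_contra hf
          exact h2 ⟨h3, hf⟩
        have hfb : fam (b : OO F m) := by
          by_contra hf
          exact h2b ⟨hab ▸ h3, hf⟩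
        exact (conj_omega_iff_fam hm hex _ _ hca hcb hO).mpr (iff_of_true hfa hfb)
      · have hn : ¬ Cond (a : OO F m) := fun hc => h3 ((cond_iff _ ha2).mp hc).1
        exact conj_omega_of_not_cond hex _ _ ha2 hn hO
  · rw [if_pos h1, if_neg h1b] at hab
    by_cases h2 : OrthBridge.rk QP (a : OO F m) = m ∧ ¬ fam (a : OO F m)
    · rw [if_pos h2] at hab
      omega
    · rw [if_neg h2] at hab
      omega
  · rw [if_neg h1, if_pos h1b] at hab
    by_cases h2b : OrthBridge.rk QP (b : OO F m) = m ∧ ¬ fam (b : OO F m)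
    · rw [if_pos h2b] at hab
      omega
    · rw [if_neg h2b] at hab
      omega
  · rw [if_neg h1, if_neg h1b] at hab
    have hO : IsConj (a : OO F m) (b : OO F m) :=
      hgc.mpr ⟨by omega, iff_of_false h1 h1b⟩
    have hn : ¬ Cond (a : OO F m) := fun hc => h1 ((cond_iff _ ha2).mp hc).2
    exact conj_omega_of_not_cond hex _ _ ha2 hn hO

lemma code_bounds (hex : Fintype.card F ≠ 2 ∨ m ≠ 2)
    (a : ↥(Cfsg.Omega F ⇑(plusQ m (F := F)))) (ha : orderOf a = 2) :
    1 ≤ code a ∧ code a ≤ 2 * (m / 2) + (if Even m then 1 else 0) := by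
  obtain ⟨ha2, hae, ha3, ha4⟩ := inv_omega_facts hex a ha
  unfold code
  by_cases h1 : OrthBridge.al QP (a : OO F m)
  · rw [if_pos h1]
    by_cases h2 : OrthBridge.rk QP (a : OO F m) = m ∧ ¬ fam (a : OO F m)
    · rw [if_pos h2]
      have hme : Even m := h2.1 ▸ hae
      rw [if_pos hme]
      rw [Nat.even_iff] at hme
      omega
    · rw [if_neg h2]
      rw [Nat.even_iff] at hae
      constructor
      · omega
      · split_ifs <;> omega
  · rw [if_neg h1]
    rw [Nat.even_iff] at hae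
    constructor
    · omega
    · split_ifs <;> omega

/-- an exceptional involution of each family (when `m` is even) -/
lemma exists_exceptional (hm : 1 ≤ m) (hex : Fintype.card F ≠ 2 ∨ m ≠ 2) (hme : Even m)
    (p : Prop) : ∃ t : OO F m, orderOf t = 2 ∧ OrthBridge.rk QP t = m ∧ OrthBridge.al QP t ∧
      (fam t ↔ p) := by
  obtain ⟨k, hk⟩ := hme
  obtain ⟨t, ht, hrk, hal⟩ := exists_al (F := F) (m := m) k (by omega) (by omega)
  have hrk' : OrthBridge.rk QP t = m := by omega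
  have hct : Cond t := (cond_iff t ht).mpr ⟨hrk', hal⟩
  by_cases h : fam t ↔ p
  · exact ⟨t, ht, hrk', hal, h⟩
  · have hu : QP (plusE F m ⟨0, hm⟩) ≠ 0 := by
      rw [← plusQ_eq, plusE_Q]; exact one_ne_zero
    have ht' : orderOf (reflM QP (plusE F m ⟨0, hm⟩) * t * (reflM QP (plusE F m ⟨0, hm⟩))⁻¹) = 2 := by
      rw [orderOf_conj', ht]
    have hc' := cond_conj t (reflM QP (plusE F m ⟨0, hm⟩)) ht hct
    have hf := fam_conj_refl hm hex t ht hct hu
    obtain ⟨h1, h2⟩ := (cond_iff _ ht').mp hc'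
    exact ⟨_, ht', h1, h2, by tauto⟩

lemma exists_code (hm : 1 ≤ m) (hex : Fintype.card F ≠ 2 ∨ m ≠ 2) (v : ℕ) (hv1 : 1 ≤ v)
    (hv : v ≤ 2 * (m / 2) + (if Even m then 1 else 0)) :
    ∃ a : ↥(Cfsg.Omega F ⇑(plusQ m (F := F))), orderOf a = 2 ∧ code a = v := by
  have key : ∀ t : OO F m, orderOf t = 2 → Even (OrthBridge.rk QP t) →
      ∃ a : ↥(Cfsg.Omega F ⇑(plusQ m (F := F))), orderOf a = 2 ∧ (a : OO F m) = t := by
    intro t ht he
    refine ⟨⟨t, (mem_omega_iff_rk hex t).mpr he⟩, ?_, rfl⟩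
    rw [← Subgroup.orderOf_coe]
    exact ht
  by_cases hbig : v ≤ 2 * (m / 2)
  · rcases Nat.even_or_odd v with ⟨k, hk⟩ | ⟨k, hk⟩
    · -- v = 2k: alternating type of rank 2k
      by_cases hkm : 2 * k = m
      · obtain ⟨t, ht, hrk, hal, hf⟩ := exists_exceptional hm hex ⟨k, by omega⟩ True
        obtain ⟨a, ha, rfl⟩ := key t ht (by rw [hrk]; exact ⟨k, by omega⟩)
        refine ⟨a, ha, ?_⟩
        unfold code
        rw [if_pos hal, if_neg (by tauto), hrk]
        omega
      · obtain ⟨t, ht, hrk, hal⟩ := exists_al (F := F) (m := m) k (by omega) (by omega)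
        obtain ⟨a, ha, rfl⟩ := key t ht (by rw [hrk]; exact ⟨k, by omega⟩)
        refine ⟨a, ha, ?_⟩
        unfold code
        rw [if_pos hal, if_neg (by omega), hrk]
        omega
    · -- v = 2k+1: non-alternating type of rank 2k+2
      obtain ⟨t, ht, hrk, hal⟩ := exists_nonal (F := F) (m := m) (2 * k + 2) (by omega) (by omega)
      obtain ⟨a, ha, rfl⟩ := key t ht (by rw [hrk]; exact ⟨k + 1, by omega⟩)
      refine ⟨a, ha, ?_⟩
      unfold code
      rw [if_neg hal, hrk]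
      omega
  · have hme : Even m := by
      by_contra hne
      rw [if_neg hne] at hv
      omega
    rw [if_pos hme] at hv
    obtain ⟨t, ht, hrk, hal, hf⟩ := exists_exceptional hm hex hme False
    obtain ⟨a, ha, rfl⟩ := key t ht (by rw [hrk]; exact hme)
    refine ⟨a, ha, ?_⟩
    unfold code
    rw [if_pos hal, if_pos ⟨hrk, by tauto⟩]
    rw [Nat.even_iff] at hme
    omega

theorem main_aux (hm : 1 ≤ m) (hex : Fintype.card F ≠ 2 ∨ m ≠ 2)
    (q : (Fin m ⊕ Fin m → F) → F) (hq : ⇑(plusQ m (F := F)) = q) :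
    Nat.card {C : ConjClasses ↥(Cfsg.Omega F q) //
      ∃ g : ↥(Cfsg.Omega F q), ConjClasses.mk g = C ∧ orderOf g = 2} =
      2 * (m / 2) + (if Even m then 1 else 0) := by
  subst hq
  have h := OrthBridge.count_classes (G := ↥(Cfsg.Omega F ⇑(plusQ m (F := F)))) code
    (fun _ => False) (2 * (m / 2) + (if Even m then 1 else 0)) 0
    (fun t s ht hs => ⟨fun hc => ⟨code_eq_of_conj hm hex t s ht hs hc, Iff.rfl⟩,
      fun hc => conj_of_code_eq hm hex t s ht hs hc.1⟩)
    (fun t ht => ⟨(code_bounds hex t ht).1, (code_bounds hex t ht).2, fun hf => hf.elim⟩)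
    (fun s hs1 hs2 => by
      obtain ⟨a, ha, hc⟩ := exists_code hm hex s hs1 hs2
      exact ⟨a, ha, hc, not_false⟩)
    (fun k hk1 hk2 => by omega)
  rw [h]
  omega

end Code

end S2597aux
end Aux

/-- Number of conjugacy classes of involutions in Ω⁺_2m(F) (the commutator subgroup of the orthogonal group of Σ x_i y_i) over a finite field F of characteristic two, m ≥ 1, excluding the case m = 2 over the field of two elements: the involutions of Ω are those with s = rank(t − 1) even, giving two O-classes for each even s with 2 ≤ s ≤ m, each of which is a single Ω-class except that for m even the class with s = m and v ↦ f(v, tv) identically zero splits in two; in all 2⌊m/2⌋ + 1 classes if m is even and 2⌊m/2⌋ if m is odd. -/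
theorem result {F : Type*} [Field F] [Fintype F] [CharP F 2] {m : ℕ} (hm : 1 ≤ m) (h : Fintype.card F ≠ 2 ∨ m ≠ 2) : Nat.card {C : ConjClasses ↥(Cfsg.Omega F (Cfsg.quadFormPlus m F)) // ∃ g : ↥(Cfsg.Omega F (Cfsg.quadFormPlus m F)), ConjClasses.mk g = C ∧ orderOf g = 2} = 2 * (m / 2) + (if Even m then 1 else 0) := by
  exact S2597aux.main_aux hm h _ Cfsg.Agent.Lib.Helper25.OrthDet.coe_plusQ

end Cfsg.Agent.S2597
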