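import Cfsg.Statements.S5652
import Mathlib
import Cfsg.Agent.Lib.Helper5.SpMax

set_option autoImplicit false
open Cfsg

namespace Cfsg.Agent.S5652

section Aux
set_option linter.unusedSectionVars false
set_option linter.unusedVariables false
set_option linter.unusedSimpArgs false
namespace S5652aux
open Cfsg Matrix Cfsg.Agent.Lib.Helper5 Cfsg.Agent.Lib.Helper5.SpMax

section Basic
variable {F : Type*} [Field F] {m : ℕ}

lemma sympForm_zero_right (z : Fin m ⊕ Fin m → F) : sympForm m F z 0 = 0 := by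
  rw [sympForm_swap, sympForm_zero_left, neg_zero]

lemma Bform_nondeg : LinearMap.BilinForm.Nondegenerate (Bform m F) := by
  refine ⟨?_, ?_⟩
  · intro x hx
    by_contra h
    obtain ⟨a, ha⟩ := sympForm_nondeg x h
    exact ha (hx a)
  · intro y hy
    by_contra h
    obtain ⟨a, ha⟩ := sympForm_nondeg y h
    apply ha
    have := hy a
    rw [Bform_apply] at this
    rw [sympForm_swap, this, neg_zero]

lemma perp_eq_orthogonal (W : Submodule F (Fin m ⊕ Fin m → F)) :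
    perp W = LinearMap.BilinForm.orthogonal (Bform m F) W := by
  ext v
  rw [mem_perp, LinearMap.BilinForm.mem_orthogonal_iff]
  constructor
  · intro h w hw
    rw [Bform_apply, sympForm_swap, h w hw, neg_zero]
  · intro h w hw
    have := h w hw
    rw [Bform_apply] at this
    rw [sympForm_swap, this, neg_zero]

lemma finrank_V : Module.finrank F (Fin m ⊕ Fin m → F) = 2 * m := by
  rw [Module.finrank_fintype_fun_eq_card, Fintype.card_sum, Fintype.card_fin]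
  ring

lemma finrank_perp (W : Submodule F (Fin m ⊕ Fin m → F)) :
    Module.finrank F (perp W) = 2 * m - Module.finrank F W := by
  rw [perp_eq_orthogonal, LinearMap.BilinForm.finrank_orthogonal Bform_nondeg, finrank_V]

lemma zero_mem_Sset (M : Subgroup (GL (Fin m ⊕ Fin m) F)) :
    (0 : Fin m ⊕ Fin m → F) ∈ Sset M := by
  intro c
  have : tvc (0 : Fin m ⊕ Fin m → F) c = 1 := by
    apply Units.ext
    apply mat_eq_of_mulVec
    intro x
    rw [tvc_mulVec, smul_zero, add_zero, Units.val_one, Matrix.one_mulVec]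
  rw [this]
  exact M.one_mem

lemma tvc_zero_coeff (a : Fin m ⊕ Fin m → F) : tvc a (0 : F) = 1 := by
  apply Units.ext
  apply mat_eq_of_mulVec
  intro x
  rw [tvc_mulVec, zero_mul, zero_smul, add_zero, Units.val_one, Matrix.one_mulVec]

lemma mem_qsim {Q : (Fin m ⊕ Fin m → F) → F} {g : GL (Fin m ⊕ Fin m) F} :
    g ∈ Geo.quadSimilarityGroup Q ↔ ∃ c : Fˣ, ∀ v,
      Q ((g : Matrix (Fin m ⊕ Fin m) (Fin m ⊕ Fin m) F) *ᵥ v) = (c : F) * Q v := Iff.rfl

/-- quadratic function with polar form the standard symplectic form -/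
structure QF (Q : (Fin m ⊕ Fin m → F) → F) : Prop where
  smul : ∀ (c : F) (v : Fin m ⊕ Fin m → F), Q (c • v) = c ^ 2 * Q v
  pol : ∀ u v : Fin m ⊕ Fin m → F, Q (u + v) = Q u + Q v + sympForm m F u v

variable {Q : (Fin m ⊕ Fin m → F) → F}

lemma QF.zero (hQ : QF Q) : Q 0 = 0 := by
  have := hQ.smul 0 0
  simpa using this

lemma QF.tvc (hQ : QF Q) (a x : Fin m ⊕ Fin m → F) (c : F) :
    Q (((tvc a c : GL (Fin m ⊕ Fin m) F) : Matrix (Fin m ⊕ Fin m) (Fin m ⊕ Fin m) F) *ᵥ x) =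
      Q x + c * (sympForm m F x a) ^ 2 * (c * Q a + 1) := by
  rw [tvc_mulVec, hQ.pol, hQ.smul, sympForm_smul_right]
  ring

section Char2
variable (h2 : (2 : F) = 0)
include h2

lemma add_self2 (x : F) : x + x = 0 := by rw [← two_mul, h2, zero_mul]

lemma neg_eq2 (x : F) : -x = x := by
  rw [neg_eq_iff_add_eq_zero]; exact add_self2 h2 x

lemma vadd_self2 (v : Fin m ⊕ Fin m → F) : v + v = 0 := by
  rw [← two_smul F v, h2, zero_smul]

lemma sq_inj2 {x y : F} (h : x ^ 2 = y ^ 2) : x = y := by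
  have h1 : (x - y) ^ 2 = (x ^ 2 - y ^ 2) + 2 * (y ^ 2 - x * y) := by ring
  rw [h, sub_self, h2, zero_mul, add_zero] at h1
  exact sub_eq_zero.mp ((pow_eq_zero_iff (two_ne_zero)).mp h1)

lemma refl_mem (hQ : QF Q) {a : Fin m ⊕ Fin m → F} (ha : Q a ≠ 0) :
    tvc a (1 / Q a) ∈ Geo.quadSimilarityGroup Q ⊓ spGL m F := by
  refine ⟨mem_qsim.mpr ⟨1, fun v => ?_⟩, tvc_mem _ _⟩
  rw [hQ.tvc, Units.val_one, one_mul, one_div, inv_mul_cancel₀ ha]
  have : (1 : F) + 1 = 0 := by rw [one_add_one_eq_two, h2]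
  rw [this, mul_zero, add_zero]

lemma refl_map (hQ : QF Q) {a b : Fin m ⊕ Fin m → F} (hab : Q a = Q b)
    (hf : sympForm m F a b ≠ 0) :
    tvc (a + b) (1 / sympForm m F a b) ∈ Geo.quadSimilarityGroup Q ⊓ spGL m F ∧
    ((tvc (a + b) (1 / sympForm m F a b) : GL (Fin m ⊕ Fin m) F) :
      Matrix (Fin m ⊕ Fin m) (Fin m ⊕ Fin m) F) *ᵥ b = a := by
  have hQab : Q (a + b) = sympForm m F a b := by
    rw [hQ.pol, hab, add_self2 h2 (Q b), zero_add]
  constructor
  · have := refl_mem h2 hQ (a := a + b) (by rw [hQab]; exact hf)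
    rwa [hQab] at this
  · rw [tvc_mulVec, sympForm_add_right, sympForm_self, add_zero, sympForm_swap (u := b) (v := a), neg_eq2 h2,
      one_div, inv_mul_cancel₀ hf, one_smul, add_comm a b, ← add_assoc, vadd_self2 h2, zero_add]

end Char2

/-- representing values on the orthogonal complement of three vectors -/
lemma rep (hQ : QF Q) (hsq : ∀ x : F, ∃ y, y ^ 2 = x) (hm : 4 ≤ m)
    (x₁ x₂ x₃ : Fin m ⊕ Fin m → F) (r : F) :
    ∃ w, sympForm m F w x₁ = 0 ∧ sympForm m F w x₂ = 0 ∧ sympForm m F w x₃ = 0 ∧ Q w = r := by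
  classical
  obtain ⟨S, hS⟩ : ∃ S : Submodule F (Fin m ⊕ Fin m → F),
      S = Submodule.span F ((({x₁, x₂, x₃} : Finset (Fin m ⊕ Fin m → F))) :
        Set (Fin m ⊕ Fin m → F)) := ⟨_, rfl⟩
  have hS3 : Module.finrank F S ≤ 3 := by
    rw [hS]
    exact le_trans (finrank_span_finset_le_card _) Finset.card_le_three
  have hx₁ : x₁ ∈ S := by rw [hS]; exact Submodule.subset_span (by simp)
  have hx₂ : x₂ ∈ S := by rw [hS]; exact Submodule.subset_span (by simp)
  have hx₃ : x₃ ∈ S := by rw [hS]; exact Submodule.subset_span (by simp)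
  have hex : ∃ w₀ ∈ perp S, Q w₀ ≠ 0 := by
    by_contra hcon
    push Not at hcon
    have hti : perp S ≤ perp (perp S) := by
      intro w hw w' hw'
      have h1 := hQ.pol w w'
      rw [hcon w hw, hcon w' hw', hcon (w + w') ((perp S).add_mem hw hw'), zero_add,
        zero_add] at h1
      exact h1.symm
    have h1 := Submodule.finrank_mono hti
    rw [finrank_perp (perp S), finrank_perp S] at h1
    omega
  obtain ⟨w₀, hw₀, hQw₀⟩ := hex
  obtain ⟨l, hl⟩ := hsq (r / Q w₀)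
  have hw : l • w₀ ∈ perp S := (perp S).smul_mem l hw₀
  refine ⟨l • w₀, hw x₁ hx₁, hw x₂ hx₂, hw x₃ hx₃, ?_⟩
  rw [hQ.smul, hl, div_mul_cancel₀ _ hQw₀]

end Basic

section Main
variable {F : Type*} [Field F] {m : ℕ} {Q Q' : (Fin m ⊕ Fin m → F) → F}

lemma sim_eq_one (hQ : QF Q) {g : GL (Fin m ⊕ Fin m) F} (hg : g ∈ spGL m F) {c : F}
    (hc : ∀ v, Q ((g : Matrix (Fin m ⊕ Fin m) (Fin m ⊕ Fin m) F) *ᵥ v) = c * Q v)
    {u v : Fin m ⊕ Fin m → F} (huv : sympForm m F u v ≠ 0) : c = 1 := by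
  have h1 := hc (u + v)
  rw [Matrix.mulVec_add, hQ.pol, hQ.pol, hc u, hc v, mem_spGL.mp hg] at h1
  have : (c - 1) * sympForm m F u v = 0 := by linear_combination -h1
  rcases mul_eq_zero.mp this with h | h
  · exact sub_eq_zero.mp h
  · exact absurd h huv

lemma exists_b (h2 : (2 : F) = 0) (hsq : ∀ x : F, ∃ y, y ^ 2 = x) (hm : 4 ≤ m) (hQ : QF Q)
    {d : Fin m ⊕ Fin m → F} (hd0 : d ≠ 0) (hd : ∀ v, Q' v = Q v + (sympForm m F v d) ^ 2)
    {a : Fin m ⊕ Fin m → F} (ha : a ≠ 0) {δ : F} (hδ : δ ≠ 0) :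
    ∃ b, Q b = Q a ∧ Q' b = Q a + δ ∧ sympForm m F a b ≠ 0 := by
  obtain ⟨v₁, hv₁⟩ := sympForm_nondeg d hd0
  obtain ⟨v₂, hv₂⟩ := sympForm_nondeg a ha
  have hv : ∃ v, sympForm m F d v ≠ 0 ∧ sympForm m F a v ≠ 0 := by
    by_cases h1 : sympForm m F a v₁ = 0
    · by_cases h3 : sympForm m F d v₂ = 0
      · refine ⟨v₁ + v₂, ?_, ?_⟩
        · rw [sympForm_add_right, h3, add_zero]; exact hv₁
        · rw [sympForm_add_right, h1, zero_add]; exact hv₂
      · exact ⟨v₂, h3, hv₂⟩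
    · exact ⟨v₁, hv₁, h1⟩
  obtain ⟨v, hvd, hva⟩ := hv
  obtain ⟨u, hu⟩ := hsq δ
  have hu0 : u ≠ 0 := by
    rintro rfl
    apply hδ
    rw [← hu]; ring
  have hvd' : sympForm m F v d ≠ 0 := by rw [sympForm_swap]; exact neg_ne_zero.mpr hvd
  obtain ⟨b₀, hb₀⟩ : ∃ b₀, b₀ = (u / sympForm m F v d) • v := ⟨_, rfl⟩
  have hb₀d : sympForm m F b₀ d = u := by
    rw [hb₀, sympForm_smul_left, div_mul_cancel₀ _ hvd']
  have hb₀a : sympForm m F a b₀ ≠ 0 := by
    rw [hb₀, sympForm_smul_right]; exact mul_ne_zero (div_ne_zero hu0 hvd') hva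
  obtain ⟨w, hw1, hw2, hw3, hw4⟩ := rep hQ hsq hm d a b₀ (Q a - Q b₀)
  have hb₀w : sympForm m F b₀ w = 0 := by rw [sympForm_swap, hw3, neg_zero]
  have hQb : Q (b₀ + w) = Q a := by
    rw [hQ.pol, hw4, hb₀w]; ring
  refine ⟨b₀ + w, hQb, ?_, ?_⟩
  · rw [hd, hQb, sympForm_add_left, hb₀d, hw1, add_zero, hu]
  · rw [sympForm_add_right, sympForm_swap (u := a) (v := w), hw2, neg_zero, add_zero]
    exact hb₀a

lemma exists_d (h2 : (2 : F) = 0) (hsq : ∀ x : F, ∃ y, y ^ 2 = x) (hQ : QF Q) (hQ' : QF Q') :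
    ∃ d, ∀ v, Q' v = Q v + (sympForm m F v d) ^ 2 := by
  choose sq hsq' using hsq
  have hadd : ∀ u v, Q' (u + v) - Q (u + v) = (Q' u - Q u) + (Q' v - Q v) := by
    intro u v; rw [hQ'.pol, hQ.pol]; ring
  have hsm : ∀ (c : F) v, Q' (c • v) - Q (c • v) = c ^ 2 * (Q' v - Q v) := by
    intro c v; rw [hQ'.smul, hQ.smul]; ring
  let φ : (Fin m ⊕ Fin m → F) →ₗ[F] F :=
    { toFun := fun v => sq (Q' v - Q v)
      map_add' := fun u v => by
        apply sq_inj2 h2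
        have : (sq (Q' u - Q u) + sq (Q' v - Q v)) ^ 2 = sq (Q' u - Q u) ^ 2 +
            sq (Q' v - Q v) ^ 2 + 2 * (sq (Q' u - Q u) * sq (Q' v - Q v)) := by ring
        rw [this, hsq', hsq', hsq', h2, zero_mul, add_zero, hadd]
      map_smul' := fun c v => by
        apply sq_inj2 h2
        rw [RingHom.id_apply, smul_eq_mul, mul_pow, hsq', hsq', hsm] }
  have hφ : ∀ v, φ v = sq (Q' v - Q v) := fun v => rfl
  refine ⟨(LinearMap.BilinForm.toDual (Bform m F) Bform_nondeg).symm φ, fun v => ?_⟩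
  have h1 : sympForm m F ((LinearMap.BilinForm.toDual (Bform m F) Bform_nondeg).symm φ) v =
      sq (Q' v - Q v) := by
    have := LinearMap.BilinForm.apply_toDual_symm_apply (B := Bform m F) (hB := Bform_nondeg) φ v
    rw [Bform_apply, hφ] at this
    exact this
  rw [sympForm_swap, neg_sq, h1, hsq']
  ring

lemma all_mem (h2 : (2 : F) = 0) (hsq : ∀ x : F, ∃ y, y ^ 2 = x) (hm : 4 ≤ m) (hQ : QF Q)
    {M : Subgroup (GL (Fin m ⊕ Fin m) F)} (hMS : M ≤ spGL m F)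
    (hHM : Geo.quadSimilarityGroup Q ⊓ spGL m F ≤ M) {g : GL (Fin m ⊕ Fin m) F} (hgM : g ∈ M)
    (hg : g ∉ Geo.quadSimilarityGroup Q) : ∀ a, a ∈ Sset M := by
  have hgS := hMS hgM
  have hgiS : g⁻¹ ∈ spGL m F := (spGL m F).inv_mem hgS
  obtain ⟨Q', hQ'def⟩ : ∃ Q' : (Fin m ⊕ Fin m → F) → F, Q' = fun v =>
      Q (((g⁻¹ : GL (Fin m ⊕ Fin m) F) : Matrix (Fin m ⊕ Fin m) (Fin m ⊕ Fin m) F) *ᵥ v) :=
    ⟨_, rfl⟩
  have hQ'eq : ∀ v, Q' v =
      Q (((g⁻¹ : GL (Fin m ⊕ Fin m) F) : Matrix (Fin m ⊕ Fin m) (Fin m ⊕ Fin m) F) *ᵥ v) :=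
    fun v => by rw [hQ'def]
  have hQ' : QF Q' := by
    constructor
    · intro c v; rw [hQ'eq, hQ'eq, Matrix.mulVec_smul, hQ.smul]
    · intro u v; rw [hQ'eq, hQ'eq, hQ'eq, Matrix.mulVec_add, hQ.pol, mem_spGL.mp hgiS]
  obtain ⟨d, hd⟩ := exists_d h2 hsq hQ hQ'
  have hd0 : d ≠ 0 := by
    rintro rfl
    apply hg
    have h3 : g⁻¹ ∈ Geo.quadSimilarityGroup Q := mem_qsim.mpr ⟨1, fun v => by
      rw [Units.val_one, one_mul, ← hQ'eq, hd, sympForm_zero_right]; ring⟩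
    have h4 := (Geo.quadSimilarityGroup Q).inv_mem h3
    rwa [inv_inv] at h4
  intro a
  by_cases ha : a = 0
  · rw [ha]; exact zero_mem_Sset M
  intro c
  by_cases hc : c = 0
  · rw [hc, tvc_zero_coeff]; exact M.one_mem
  by_cases hcs : 1 / c = Q a
  · have hQa : Q a ≠ 0 := by rw [← hcs]; exact one_div_ne_zero hc
    have := hHM (refl_mem h2 hQ hQa)
    rwa [← hcs, one_div_one_div] at this
  · obtain ⟨b, hb1, hb2, hb3⟩ := exists_b h2 hsq hm hQ hd0 hd ha (δ := 1 / c - Q a)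
      (sub_ne_zero.mpr hcs)
    have hb2' : Q' b = 1 / c := by rw [hb2]; ring
    have hbM : tvc b c ∈ M := by
      have hne : Q (((g⁻¹ : GL (Fin m ⊕ Fin m) F) :
          Matrix (Fin m ⊕ Fin m) (Fin m ⊕ Fin m) F) *ᵥ b) ≠ 0 := by
        rw [← hQ'eq, hb2']; exact one_div_ne_zero hc
      have h3 := hHM (refl_mem h2 hQ hne)
      rw [← hQ'eq, hb2', one_div_one_div] at h3
      have h4 := M.mul_mem (M.mul_mem hgM h3) (M.inv_mem hgM)
      rwa [conj_tvc hgS, mul_inv_mulVec] at h4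
    obtain ⟨hr, hrb⟩ := refl_map h2 hQ hb1.symm hb3
    have h5 := M.mul_mem (M.mul_mem (hHM hr) hbM) (M.inv_mem (hHM hr))
    rwa [conj_tvc hr.2, hrb] at h5

theorem main {F : Type*} [Field F] [Fintype F] (m : ℕ) (hm : 7 ≤ m)
    (heven : ¬ Odd (Fintype.card F)) (Q : (Fin m ⊕ Fin m → F) → F)
    (hQ : Geo.IsNondegenerateQuadraticForm Q)
    (hpol : ∀ u v, QuadraticMap.polar Q u v = sympForm m F u v) :
    Geo.IsMaximalIn (spGL m F) (Geo.quadSimilarityGroup Q ⊓ spGL m F) := by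
  have hchar : ringChar F = 2 :=
    FiniteField.even_card_iff_char_two.mpr (Nat.even_iff.mp (Nat.not_odd_iff_even.mp heven))
  have h2 : (2 : F) = 0 := by
    haveI := ringChar.of_eq hchar
    have := CharP.cast_eq_zero F 2
    exact_mod_cast this
  have hsq : ∀ x : F, ∃ y, y ^ 2 = x := fun x => by
    obtain ⟨r, hr⟩ := FiniteField.isSquare_of_char_two hchar x
    exact ⟨r, by rw [pow_two]; exact hr.symm⟩
  have hQF : QF Q := ⟨hQ.smul, fun u v => by
    have := hpol u v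
    rw [QuadraticMap.polar] at this
    rw [← this]; ring⟩
  have hm4 : 4 ≤ m := by omega
  refine ⟨lt_of_le_of_ne inf_le_right ?_, ?_⟩
  · intro hEq
    obtain ⟨a₁, -, -, -, ha₁⟩ := rep hQF hsq hm4 0 0 0 1
    have ha₁0 : a₁ ≠ 0 := by
      rintro rfl
      rw [hQF.zero] at ha₁
      exact zero_ne_one ha₁
    obtain ⟨b₀, hb₀⟩ := sympForm_nondeg a₁ ha₁0
    obtain ⟨w, hw1, hw2, -, hw4⟩ := rep hQF hsq hm4 a₁ b₀ 0 1
    have hz : Q (a₁ + w) = 0 := by
      rw [hQF.pol, ha₁, hw4, sympForm_swap, hw1, neg_zero, add_zero, one_add_one_eq_two, h2]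
    have hzb : sympForm m F (a₁ + w) b₀ ≠ 0 := by
      rw [sympForm_add_left, hw2, add_zero]; exact hb₀
    have hT : tvc (a₁ + w) 1 ∈ Geo.quadSimilarityGroup Q ⊓ spGL m F := by
      rw [hEq]; exact tvc_mem _ _
    obtain ⟨c, hc⟩ := mem_qsim.mp hT.1
    have hc1 : (c : F) = 1 := sim_eq_one hQF hT.2 hc hzb
    have h3 := hc b₀
    rw [hQF.tvc, hz, hc1, one_mul] at h3
    have h4 : sympForm m F b₀ (a₁ + w) ^ 2 = 0 := by linear_combination h3
    have h5 : sympForm m F b₀ (a₁ + w) = 0 := (pow_eq_zero_iff (two_ne_zero)).mp h4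
    apply hzb
    rw [sympForm_swap, h5, neg_zero]
  · intro M hHM hMS
    by_cases hMH : M = Geo.quadSimilarityGroup Q ⊓ spGL m F
    · left; exact hMH
    right
    apply le_antisymm hMS
    obtain ⟨g, hgM, hgH⟩ := SetLike.exists_of_lt (lt_of_le_of_ne hHM (Ne.symm hMH))
    have hg : g ∉ Geo.quadSimilarityGroup Q := fun h => hgH ⟨h, hMS hgM⟩
    exact le_of_forall_mem_Sset M (all_mem h2 hsq hm4 hQF hMS hHM hgM hg)

end Main

end S5652aux
end Aux

/-- For a finite field F of characteristic two and m ≥ 7, let Q be a non-degenerate quadratic form on F^(2m) whose polar form is the standard alternating form. Then the elements of Sp_2m(F) that are similarities of Q (they are exactly the isometries of Q) form a maximal subgroup of Sp_2m(F). -/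
theorem result {F : Type*} [Field F] [Fintype F] (m : ℕ) (hm : 7 ≤ m) (heven : ¬ Odd (Fintype.card F)) (Q : (Fin m ⊕ Fin m → F) → F) (hQ : Cfsg.Geo.IsNondegenerateQuadraticForm Q) (hpol : ∀ u v, QuadraticMap.polar Q u v = Cfsg.sympForm m F u v) : Cfsg.Geo.IsMaximalIn (Cfsg.spGL m F) (Cfsg.Geo.quadSimilarityGroup Q ⊓ Cfsg.spGL m F) := by
  exact S5652aux.main m hm heven Q hQ hpol

end Cfsg.Agent.S5652
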