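import Cfsg.Statements.S2570
-- import your own Cfsg.Agent.* helpers here
import Cfsg.Agent.Lib.Helper15.NilpotentConj

set_option autoImplicit false
open Cfsg

namespace Cfsg.Agent.S2570

open Cfsg.Agent.Lib.Helper15.NilpotentConj

/-- the partition into ones -/
def ones (n : ℕ) : Nat.Partition n :=
  ⟨Multiset.replicate n 1, fun {i} hi => by rw [Multiset.eq_of_mem_replicate hi]; exact one_pos,
    by simp⟩

lemma card_parts_eq_iff (n : ℕ) (μ : Nat.Partition n) :
    Multiset.card μ.parts = n ↔ μ = ones n := by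
  constructor
  · intro h
    apply Nat.Partition.ext
    have h1 := eq_replicate_of_card_eq_sum μ.parts (fun a ha => μ.parts_pos ha)
      (by rw [h, μ.parts_sum])
    rw [h1, h]
    rfl
  · intro h
    rw [h]
    simp [ones]

theorem main {F : Type*} [Field F] {p : ℕ} [Fact p.Prime] [CharP F p] (n : ℕ) :
    Nat.card {C : ConjClasses (GL (Fin n) F) // ∃ g : GL (Fin n) F, ConjClasses.mk g = C ∧
      orderOf g = p} =
      (Finset.univ.filter (fun μ : Nat.Partition n => ∀ a ∈ μ.parts, a ≤ p)).card - 1 := by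
  classical
  have hp : 1 ≤ p := (Fact.out : p.Prime).one_lt.le
  have h := card_classes (F := F) (n := n) (fun g => orderOf g = p)
    (fun μ => (∀ a ∈ μ.parts, a ≤ p) ∧ μ ≠ ones n) (by
      intro g μ hnil hk
      rw [order_p_iff p g]
      have e1 : ((g : Matrix (Fin n) (Fin n) F) - 1) ^ p = 0 ↔ ∀ a ∈ μ.parts, a ≤ p := by
        rw [pow_eq_zero_iff_mkap, hk, ← kapm_eq_sum_iff, μ.parts_sum]
      have e2 : (g : Matrix (Fin n) (Fin n) F) - 1 ≠ 0 ↔ μ ≠ ones n := by
        rw [Ne, Ne, ← card_parts_eq_iff, ← kapm_one μ.parts (fun a ha => μ.parts_pos ha), ← hk,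
          ← pow_eq_zero_iff_mkap, pow_one]
      rw [e1, e2, and_comm])
  have h2 : Nat.card {μ : Nat.Partition n // (∀ a ∈ μ.parts, a ≤ p) ∧ μ ≠ ones n} =
      (Finset.univ.filter (fun μ : Nat.Partition n => ∀ a ∈ μ.parts, a ≤ p)).card - 1 := by
    rw [Nat.card_eq_fintype_card, Fintype.card_subtype]
    have h3 : Finset.univ.filter (fun μ : Nat.Partition n => (∀ a ∈ μ.parts, a ≤ p) ∧ μ ≠ ones n) =
        (Finset.univ.filter (fun μ : Nat.Partition n => ∀ a ∈ μ.parts, a ≤ p)).erase (ones n) := by
      ext μ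
      simp only [Finset.mem_filter, Finset.mem_univ, true_and, Finset.mem_erase]
      tauto
    rw [h3, Finset.card_erase_of_mem]
    simp only [Finset.mem_filter, Finset.mem_univ, true_and]
    intro a ha
    rw [Multiset.eq_of_mem_replicate ha]
    exact hp
  rw [← h2, ← h]
  apply Nat.card_congr
  apply Equiv.subtypeEquivRight
  intro C
  constructor
  · rintro ⟨g, rfl, hg⟩
    exact ⟨g, ⟨(unip_iff p g).1 ⟨1, by rw [pow_one]; exact hg⟩, hg⟩, rfl⟩
  · rintro ⟨g, ⟨_, hg⟩, rfl⟩
    exact ⟨g, rfl, hg⟩

/-- Number of conjugacy classes of elements of order p in GL_n over a finite field of characteristic p: they correspond to the Jordan types, that is, to the partitions of n with all parts at most p other than the partition into ones, so there are (number of partitions of n with parts ≤ p) − 1 of them. -/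
theorem result {F : Type*} [Field F] [Fintype F] {p : ℕ} [Fact p.Prime] [CharP F p] (n : ℕ) : Nat.card {C : ConjClasses (GL (Fin n) F) // ∃ g : GL (Fin n) F, ConjClasses.mk g = C ∧ orderOf g = p} = (Finset.univ.filter (fun μ : Nat.Partition n => ∀ a ∈ μ.parts, a ≤ p)).card - 1 := by
  exact main n

end Cfsg.Agent.S2570
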