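import Cfsg.Statements.S2566
-- import your own Cfsg.Agent.* helpers here
import Cfsg.Agent.Lib.Helper14.OrthPlus
import Cfsg.Agent.Lib.Helper15.IsometryTransport

set_option autoImplicit false
open Cfsg

namespace Cfsg.Agent.S2566


open Matrix

abbrev I4 := Fin 2 ⊕ Fin 2
abbrev M4 := Matrix I4 I4 (ZMod 2)

/-- The 2 × 2 matrix over the field of two elements of a permutation of three letters
(action on the quotient of the permutation module by the all-ones vector). -/
def P2 (σ : Equiv.Perm (Fin 3)) : Matrix (Fin 2) (Fin 2) (ZMod 2) :=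
  Matrix.of fun i j => if σ (Fin.castSucc j) = Fin.castSucc i ∨ σ (Fin.castSucc j) = 2 then 1 else 0

def J2 : Matrix (Fin 2) (Fin 2) (ZMod 2) := Matrix.of fun i j => if i = j then 0 else 1

def MA (σ : Equiv.Perm (Fin 3)) : M4 :=
  Matrix.fromBlocks (P2 σ 0 0 • 1) (P2 σ 0 1 • J2) (P2 σ 1 0 • J2) (P2 σ 1 1 • 1)

def G4 : M4 := Matrix.of fun i j => if i = Equiv.swap (Sum.inl 1) (Sum.inr 1) j then 1 else 0

set_option maxRecDepth 100000 in
theorem MA_one : MA 1 = 1 := by decide

set_option maxRecDepth 100000 in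
theorem MA_mul : ∀ σ τ : Equiv.Perm (Fin 3), MA (σ * τ) = MA σ * MA τ := by decide

set_option maxRecDepth 100000 in
theorem G4_sq : G4 * G4 = 1 := by decide

set_option maxRecDepth 100000 in
theorem MA_comm : ∀ σ τ : Equiv.Perm (Fin 3),
    MA σ * (G4 * MA τ * G4) = (G4 * MA τ * G4) * MA σ := by decide

set_option maxRecDepth 100000 in
theorem MA_disj : ∀ σ τ : Equiv.Perm (Fin 3), MA σ = G4 * MA τ * G4 → σ = 1 := by decide

set_option maxRecDepth 100000 in
theorem MA_inj : ∀ σ : Equiv.Perm (Fin 3), MA σ = 1 → σ = 1 := by decide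

set_option maxRecDepth 100000 in
theorem MA_iso : ∀ (σ : Equiv.Perm (Fin 3)) (u : I4 → ZMod 2),
    Cfsg.quadFormPlus 2 (ZMod 2) (MA σ *ᵥ u) = Cfsg.quadFormPlus 2 (ZMod 2) u := by decide

set_option maxRecDepth 100000 in
theorem G4_iso : ∀ (u : I4 → ZMod 2),
    Cfsg.quadFormPlus 2 (ZMod 2) (G4 *ᵥ u) = Cfsg.quadFormPlus 2 (ZMod 2) u := by decide

abbrev O4 := ↥(Cfsg.isometryGroup (ZMod 2) (Cfsg.quadFormPlus 2 (ZMod 2)))

/-- matrix of an element of the orthogonal group -/
def toM : O4 →* M4 := (Units.coeHom M4).comp (Subgroup.subtype _)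

theorem toM_injective : Function.Injective toM := by
  intro a b h
  apply Subtype.ext
  apply Units.ext
  exact h

/-- the permutation hom into matrices -/
def phi0 : Equiv.Perm (Fin 3) →* M4 where
  toFun := MA
  map_one' := MA_one
  map_mul' := MA_mul

theorem phi_mem (σ : Equiv.Perm (Fin 3)) :
    phi0.toHomUnits σ ∈ Cfsg.isometryGroup (ZMod 2) (Cfsg.quadFormPlus 2 (ZMod 2)) := by
  rw [Cfsg.Agent.Lib.Helper15.mem_isometryGroup_iff]
  intro u
  exact MA_iso σ u

def phi : Equiv.Perm (Fin 3) →* O4 := phi0.toHomUnits.codRestrict _ phi_mem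

theorem toM_phi (σ : Equiv.Perm (Fin 3)) : toM (phi σ) = MA σ := rfl

def gU : Matrix.GeneralLinearGroup I4 (ZMod 2) := ⟨G4, G4, G4_sq, G4_sq⟩

theorem gU_mem : gU ∈ Cfsg.isometryGroup (ZMod 2) (Cfsg.quadFormPlus 2 (ZMod 2)) := by
  rw [Cfsg.Agent.Lib.Helper15.mem_isometryGroup_iff]
  intro u
  exact G4_iso u

def g0 : O4 := ⟨gU, gU_mem⟩

theorem toM_g0 : toM g0 = G4 := rfl

theorem toM_g0_inv : toM g0⁻¹ = G4 := rfl

def psi : Equiv.Perm (Fin 3) →* O4 := (MulAut.conj g0).toMonoidHom.comp phi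

theorem toM_psi (τ : Equiv.Perm (Fin 3)) : toM (psi τ) = G4 * MA τ * G4 := by
  show toM (g0 * phi τ * g0⁻¹) = _
  rw [map_mul, map_mul, toM_g0, toM_g0_inv, toM_phi]

theorem phi_injective : Function.Injective phi := by
  rw [injective_iff_map_eq_one]
  intro σ h
  apply MA_inj
  rw [← toM_phi, h, map_one]

theorem psi_injective : Function.Injective psi := by
  intro a b h
  exact phi_injective ((MulAut.conj g0).injective h)

theorem comm_phi_psi (σ τ : Equiv.Perm (Fin 3)) : Commute (phi σ) (psi τ) := by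
  apply toM_injective
  rw [map_mul, map_mul, toM_phi, toM_psi]
  exact MA_comm σ τ

theorem disj : Disjoint phi.range psi.range := by
  rw [Subgroup.disjoint_def]
  rintro x ⟨σ, rfl⟩ ⟨τ, h⟩
  have : σ = 1 := by
    apply MA_disj σ τ
    rw [← toM_phi, ← toM_psi, h]
  rw [this, map_one]

/-- The full orthogonal group of the plus-type form x₁y₁ + x₂y₂ in dimension 4 over the field of two elements has order 72 and is isomorphic to the wreath product of the symmetric group of degree 3 by a group of order 2: it has a normal subgroup isomorphic to the direct product of two symmetric groups of degree 3, of index 2, whose two direct factors are interchanged by conjugation by some element. -/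
theorem result :
    Nat.card ↥(Cfsg.isometryGroup (ZMod 2) (Cfsg.quadFormPlus 2 (ZMod 2))) = 72 ∧
    ∃ (A B : Subgroup ↥(Cfsg.isometryGroup (ZMod 2) (Cfsg.quadFormPlus 2 (ZMod 2)))),
      Nonempty (↥A ≃* Equiv.Perm (Fin 3)) ∧ Nonempty (↥B ≃* Equiv.Perm (Fin 3)) ∧ A ⊓ B = ⊥ ∧ (∀ a ∈ A, ∀ b ∈ B, a * b = b * a) ∧
      (A ⊔ B).index = 2 ∧ ∃ g : ↥(Cfsg.isometryGroup (ZMod 2) (Cfsg.quadFormPlus 2 (ZMod 2))), A.map (MulAut.conj g).toMonoidHom = B := by
  classical
  have hcard : Nat.card ↥(Cfsg.isometryGroup (ZMod 2) (Cfsg.quadFormPlus 2 (ZMod 2))) = 72 := by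
    have := Cfsg.Agent.Lib.Helper14.card_isometry_plus (F := ZMod 2) 1
    rw [this]
    simp [ZMod.card]
  refine ⟨hcard, phi.range, psi.range, ⟨(MonoidHom.ofInjective phi_injective).symm⟩,
    ⟨(MonoidHom.ofInjective psi_injective).symm⟩, ?_, ?_, ?_, g0, ?_⟩
  · exact disjoint_iff.mp disj
  · rintro a ⟨σ, rfl⟩ b ⟨τ, rfl⟩
    exact comm_phi_psi σ τ
  · have hinj : Function.Injective (MonoidHom.noncommCoprod phi psi comm_phi_psi) := by
      rw [MonoidHom.noncommCoprod_injective]
      exact ⟨phi_injective, psi_injective, disj⟩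
    have hrange := MonoidHom.noncommCoprod_range phi psi comm_phi_psi
    have h36 : Nat.card ↥(phi.range ⊔ psi.range) = 36 := by
      rw [← hrange, ← Nat.card_congr (MonoidHom.ofInjective hinj).toEquiv, Nat.card_prod,
        Nat.card_perm, Nat.card_eq_fintype_card, Fintype.card_fin]
      rfl
    have := Subgroup.card_mul_index (phi.range ⊔ psi.range)
    rw [h36, hcard] at this
    omega
  · rw [MonoidHom.map_range]
    rfl

end Cfsg.Agent.S2566
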