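import Cfsg.Statements.S0029
-- import your own Cfsg.Agent.* helpers here
import Cfsg.Agent.Lib.Helper1.Coprime
import Cfsg.Agent.Lib.Helper1.Commutator

set_option autoImplicit false
open Cfsg

namespace Cfsg.Agent.S0029

open Pointwise
open Cfsg.Agent.Lib.Helper1

/-- An action that is trivial on the Frattini quotient and coprime on the Frattini subgroup is trivial: if A normalises K, the orders of A and of the Frattini subgroup of K are coprime, and every commutator of an element of A with an element of K lies in the Frattini subgroup of K, then A centralises K. -/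
theorem result {G : Type*} [Group G] [Finite G] (A K : Subgroup G)
    (hAK : A ≤ Subgroup.normalizer (K : Set G))
    (hcop : (Nat.card A).Coprime (Nat.card (frattini K)))
    (htriv : ∀ a ∈ A, ∀ k ∈ K, a * k * a⁻¹ * k⁻¹ ∈ (frattini K).map K.subtype) :
    A ≤ Subgroup.centralizer (K : Set G) := by
  classical
  set Φ : Subgroup G := (frattini K).map K.subtype with hΦ
  have hΦK : Φ ≤ K := Subgroup.map_subtype_le _
  have hcardΦ : Nat.card Φ = Nat.card (frattini K) :=
    Subgroup.card_map_of_injective K.subtype_injective
  have hcopΦ : Nat.Coprime (Nat.card A) (Nat.card Φ) := by rw [hcardΦ]; exact hcop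
  have hNΦ : Subgroup.normalizer (K : Set G) ≤ Subgroup.normalizer (Φ : Set G) :=
    normalizer_le_normalizer_map_subtype_of_characteristic K (frattini K)
  have hAΦ : A ≤ Subgroup.normalizer (Φ : Set G) := hAK.trans hNΦ
  have hKΦ : K ≤ Subgroup.normalizer (Φ : Set G) := Subgroup.le_normalizer.trans hNΦ
  have hsolvΦ : Group.IsSolvable A ∨ Group.IsSolvable Φ := by
    right
    have : Group.IsNilpotent (frattini K) := frattini_nilpotent
    have e : frattini K ≃* Φ := (frattini K).equivMapOfInjective K.subtype K.subtype_injective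
    exact Group.isSolvable_of_isSolvable_injective (f := e.symm.toMonoidHom) e.symm.injective
  -- every element of K is a product of an element of C_K(A) and an element of Φ
  have hdec : ∀ k ∈ K, ∃ n ∈ Φ, k * n ∈ Subgroup.centralizer (A : Set G) := by
    intro k hk
    apply exists_mul_mem_centralizer hAΦ hcopΦ hsolvΦ k
    intro a ha
    have h1 := htriv a ha k hk
    have h2 : k⁻¹ ∈ Subgroup.normalizer (Φ : Set G) := hKΦ (K.inv_mem hk)
    have h3 := (Subgroup.mem_normalizer_iff.mp h2 _).mp h1
    have e : k⁻¹ * (a * k * a⁻¹ * k⁻¹) * k⁻¹⁻¹ = k⁻¹ * a * k * a⁻¹ := by group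
    rwa [e] at h3
  -- so C_K(A) together with the Frattini subgroup generates K
  set C : Subgroup K := (Subgroup.centralizer (A : Set G)).subgroupOf K with hC
  have hgen : C ⊔ frattini K = ⊤ := by
    rw [eq_top_iff]
    intro k _
    obtain ⟨n, hn, hkn⟩ := hdec k k.2
    obtain ⟨n', hn', rfl⟩ := hn
    have e : k = (k * n') * n'⁻¹ := by group
    rw [e]
    refine Subgroup.mul_mem_sup ?_ (Subgroup.inv_mem _ hn')
    rw [hC, Subgroup.mem_subgroupOf]
    exact hkn
  have hCtop : C = ⊤ := frattini_nongenerating hgen
  have hKC : K ≤ Subgroup.centralizer (A : Set G) := by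
    intro k hk
    have : (⟨k, hk⟩ : K) ∈ C := by rw [hCtop]; exact Subgroup.mem_top _
    exact Subgroup.mem_subgroupOf.mp this
  exact Subgroup.le_centralizer_iff.mp hKC

end Cfsg.Agent.S0029
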