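import Cfsg.Statements.S1217
import Cfsg.Agent.Lib.Helper13.GL2SylowTwo

set_option autoImplicit false
open scoped MatrixGroups
open Cfsg

namespace Cfsg.Agent.S1217

/-- Let F be a finite field with q elements, q odd, and P a Sylow 2-subgroup of GL(2,F). If q ≡ 3 (mod 4) then P is quasi-dihedral; if q ≡ 1 (mod 4) then P is wreathed. -/
theorem result {F : Type*} [Field F] [Fintype F] (P : Sylow 2 (GL (Fin 2) F)) : (Fintype.card F % 4 = 3 → Cfsg.IsQuasiDihedral (P : Subgroup (GL (Fin 2) F))) ∧ (Fintype.card F % 4 = 1 → Cfsg.IsWreathed (P : Subgroup (GL (Fin 2) F))) := by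
  classical
  have hq : 2 ≤ Fintype.card F := Fintype.one_lt_card
  constructor
  · intro hq3
    have hodd : Odd (Fintype.card F) := by rw [Nat.odd_iff]; omega
    have hcard := Cfsg.Agent.Lib.Helper13.card_sylow_two_GL2 hodd P
    rw [Cfsg.Agent.Lib.Helper13.fact_two_of_mod_four_eq_two (Fintype.card F - 1) (by omega)] at hcard
    obtain ⟨x, y, hox, hoy, hrel⟩ := Cfsg.Agent.Lib.Helper13.exists_qd_data (F := F) hq3
    set m := (Fintype.card F + 1).factorization 2 with hm
    have hm2 : 2 ≤ m :=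
      Cfsg.Agent.Lib.Helper13.two_le_fact_two_of_four_dvd (Fintype.card F + 1) (by omega) (by omega)
    apply Cfsg.Agent.Lib.Helper13.isQuasiDihedral_sylow P (m + 1) (by omega) _ x y hox hoy
    · rw [Nat.add_sub_cancel]
      exact hrel
    · rw [hcard]
      congr 1
      ring
  · intro hq1
    have hodd : Odd (Fintype.card F) := by rw [Nat.odd_iff]; omega
    have hcard := Cfsg.Agent.Lib.Helper13.card_sylow_two_GL2 hodd P
    rw [Cfsg.Agent.Lib.Helper13.fact_two_of_mod_four_eq_two (Fintype.card F + 1) (by omega)] at hcard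
    set n := (Fintype.card F - 1).factorization 2 with hn
    have hn2 : 2 ≤ n :=
      Cfsg.Agent.Lib.Helper13.two_le_fact_two_of_four_dvd (Fintype.card F - 1) (by omega) (by omega)
    -- an element of order `2^n` in `Fˣ`
    obtain ⟨g, hg⟩ := IsCyclic.exists_generator (α := Fˣ)
    have hgo : orderOf g = Fintype.card F - 1 := by
      rw [orderOf_eq_card_of_forall_mem_zpowers hg, Nat.card_eq_fintype_card, Fintype.card_units]
    obtain ⟨a, ha⟩ := Cfsg.Agent.Lib.Helper13.exists_orderOf_eq_of_dvd g (2 ^ n)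
      (by rw [hgo]; exact Nat.ordProj_dvd _ 2) (by rw [hgo]; omega)
    obtain ⟨h1, h2, h3⟩ := Cfsg.Agent.Lib.Helper13.wreathed_data (F := F) n a ha
    exact Cfsg.Agent.Lib.Helper13.isWreathed_sylow P n hn2 hcard _ Cfsg.Agent.Lib.Helper13.swapGL h1
      Cfsg.Agent.Lib.Helper13.orderOf_swapGL h2 h3

end Cfsg.Agent.S1217
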