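import Cfsg.Statements.S3116
-- import your own Cfsg.Agent.* helpers here
import Mathlib
import Cfsg.Agent.Lib.Helper18.OddAut

set_option autoImplicit false
open Cfsg

namespace Cfsg.Agent.S3116

/-- The automorphism group of a dihedral 2-group of order at least 8, or of a quasi-dihedral (semidihedral) 2-group of order at least 16, is a 2-group. -/
theorem result {X : Type*} [Group X] [Finite X] (h2 : IsPGroup 2 X)
    (h : (∃ n : ℕ, 4 ≤ n ∧ Nonempty (X ≃* DihedralGroup n)) ∨ Cfsg.IsQuasiDihedral X) : IsPGroup 2 (MulAut X) := by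
  apply Cfsg.Agent.Lib.Helper18.isPGroup_two_mulAut_of_odd_trivial
  rcases h with ⟨n, hn, ⟨e⟩⟩ | ⟨n, hn3, hcard, x, y, hx, hy, hrel⟩
  · -- dihedral case
    haveI : NeZero n := ⟨by omega⟩
    obtain ⟨r, hrdef⟩ : ∃ r : X, r = e.symm (DihedralGroup.r 1) := ⟨_, rfl⟩
    obtain ⟨s, hsdef⟩ : ∃ s : X, s = e.symm (DihedralGroup.sr 0) := ⟨_, rfl⟩
    have hrn : orderOf r = n := by
      rw [hrdef, MulEquiv.orderOf_eq, DihedralGroup.orderOf_r_one]
    obtain ⟨k, hk⟩ := IsPGroup.iff_orderOf.mp h2 r
    have her : e r = DihedralGroup.r 1 := by rw [hrdef]; simp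
    have hes : e s = DihedralGroup.sr 0 := by rw [hsdef]; simp
    have hs : s ∉ Subgroup.zpowers r := by
      intro hmem
      obtain ⟨i, hi⟩ := (mem_powers_iff_mem_zpowers.mpr hmem)
      have h1 : e s = e (r ^ i) := by rw [← hi]
      rw [map_pow, her, hes, DihedralGroup.r_one_pow] at h1
      exact absurd h1 (by simp)
    have hcov : ∀ g : X, g ∈ Subgroup.zpowers r ∨ ∃ i : ℤ, g = s * r ^ i := by
      intro g
      rcases hg : e g with i | i
      · left
        have : g = r ^ i.val := by
          apply e.injective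
          rw [hg, map_pow, her, DihedralGroup.r_one_pow, ZMod.natCast_zmod_val]
        rw [this]; exact Subgroup.npow_mem_zpowers r _
      · right
        refine ⟨(i.val : ℤ), ?_⟩
        apply e.injective
        rw [hg, map_mul, zpow_natCast, map_pow, her, hes, DihedralGroup.r_one_pow,
          ZMod.natCast_zmod_val, DihedralGroup.sr_mul_r, zero_add]
    have hout : ∀ g : X, g ∉ Subgroup.zpowers r → orderOf g < 2 ^ k := by
      intro g hg
      rcases hcov g with h | ⟨i, hi⟩
      · exact absurd h hg
      · have h1 : orderOf g = 2 := by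
          rw [← MulEquiv.orderOf_eq e g]
          rcases hg' : e g with j | j
          · exfalso
            apply hg
            have : g = r ^ j.val := by
              apply e.injective
              rw [hg', map_pow, her, DihedralGroup.r_one_pow, ZMod.natCast_zmod_val]
            rw [this]; exact Subgroup.npow_mem_zpowers r _
          · exact DihedralGroup.orderOf_sr j
        rw [h1, ← hk, hrn]; omega
    intro φ m hm hφ
    exact Cfsg.Agent.Lib.Helper18.aut_eq_one_of_odd r s k hk hs hcov hout φ m hm hφ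
  · -- quasi-dihedral case
    have hyy : y * y = 1 := by rw [← sq, ← hy]; exact pow_orderOf_eq_one y
    have hyi : y⁻¹ = y := inv_eq_of_mul_eq_one_left hyy
    have hxpow : x ^ (2 ^ n) = 1 := by rw [← hx]; exact pow_orderOf_eq_one x
    have hlt1 : 2 ^ (n - 1) < 2 ^ n := Nat.pow_lt_pow_right (by norm_num) (by omega)
    have h4le : 4 ≤ 2 ^ (n - 1) := by
      calc 4 = 2 ^ 2 := by norm_num
        _ ≤ 2 ^ (n - 1) := Nat.pow_le_pow_right (by norm_num) (by omega)
    have hs : y ∉ Subgroup.zpowers x := by
      intro hmem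
      obtain ⟨i, hi⟩ := Subgroup.mem_zpowers_iff.mp hmem
      have hc : y * x * y⁻¹ = x := by
        rw [← hi]
        have := zpow_mul_comm x i 1
        rw [zpow_one] at this
        rw [this, mul_inv_cancel_right]
      rw [hrel] at hc
      have h1 : x ^ (2 ^ (n - 1) - 1) = x ^ 1 := by rw [hc, pow_one]
      rw [pow_eq_pow_iff_modEq, hx] at h1
      have := Nat.ModEq.eq_of_lt_of_lt h1 (by omega) (by omega)
      omega
    have hidx : (Subgroup.zpowers x).index = 2 := by
      have := Subgroup.index_mul_card (Subgroup.zpowers x)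
      rw [Nat.card_zpowers, hx, hcard, pow_succ] at this
      have hpos : 0 < 2 ^ n := by positivity
      nlinarith
    have hcov : ∀ g : X, g ∈ Subgroup.zpowers x ∨ ∃ i : ℤ, g = y * x ^ i := by
      intro g
      by_cases hg : g ∈ Subgroup.zpowers x
      · exact Or.inl hg
      · right
        have h1 : y⁻¹ * g ∈ Subgroup.zpowers x := by
          rw [Subgroup.mul_mem_iff_of_index_two hidx]
          constructor
          · intro h; exact absurd ((Subgroup.inv_mem_iff _).mp h) hs
          · intro h; exact absurd h hg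
        obtain ⟨i, hi⟩ := Subgroup.mem_zpowers_iff.mp h1
        exact ⟨i, by rw [hi]; group⟩
    have hout : ∀ g : X, g ∉ Subgroup.zpowers x → orderOf g < 2 ^ n := by
      intro g hg
      rcases hcov g with h | ⟨i, rfl⟩
      · exact absurd h hg
      · have hconj : y * x ^ i * y⁻¹ = (x ^ (2 ^ (n - 1) - 1)) ^ i := by
          rw [← hrel, conj_zpow]
        have hsq : (y * x ^ i) ^ 2 = (x ^ (2 ^ (n - 1))) ^ i := by
          have e1 : (y * x ^ i) ^ 2 = (y * x ^ i * y⁻¹) * x ^ i := by
            rw [sq, hyi]; group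
          rw [e1, hconj, ← zpow_natCast x (2 ^ (n - 1) - 1), ← zpow_mul, ← zpow_add,
            ← zpow_natCast x (2 ^ (n - 1)), ← zpow_mul]
          congr 1
          have : ((2 ^ (n - 1) - 1 : ℕ) : ℤ) = (2 ^ (n - 1) : ℕ) - 1 := by
            rw [Nat.cast_sub (by omega)]; simp
          rw [this]; ring
        have h4 : (y * x ^ i) ^ 4 = 1 := by
          have : (y * x ^ i) ^ 4 = ((y * x ^ i) ^ 2) ^ 2 := by rw [← pow_mul]
          rw [this, hsq, ← zpow_natCast, ← zpow_mul, mul_comm, zpow_mul, zpow_natCast, ← pow_mul]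
          have : 2 ^ (n - 1) * 2 = 2 ^ n := by rw [← pow_succ]; congr 1; omega
          rw [this, hxpow, one_zpow]
        have h5 : orderOf (y * x ^ i) ≤ 4 := Nat.le_of_dvd (by norm_num) (orderOf_dvd_of_pow_eq_one h4)
        omega
    intro φ m hm hφ
    exact Cfsg.Agent.Lib.Helper18.aut_eq_one_of_odd x y n hx hs hcov hout φ m hm hφ

end Cfsg.Agent.S3116
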