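import Cfsg.Statements.S1201
-- import your own Cfsg.Agent.* helpers here
import Mathlib
import Cfsg.Agent.Lib.Helper18.Wreathed
import Cfsg.Agent.Lib.Helper18.Basic

set_option autoImplicit false
open Cfsg Cfsg.Agent.Lib.Helper18 Subgroup

namespace Cfsg.Agent.S1201

/-- If X is a non-commutative subgroup of a wreathed 2-group S, then Z(X) ≤ Z(S). -/
theorem result {S : Type*} [Group S] [Finite S] (hS : Cfsg.IsWreathed S) (X : Subgroup S) (hX : ¬ IsMulCommutative X) : (Subgroup.center X).map X.subtype ≤ Subgroup.center S := by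
  obtain ⟨m, x, y, z, h⟩ := exists_isWr hS
  intro c hc
  rw [mem_map_center_iff] at hc
  obtain ⟨hcX, hcc⟩ := hc
  by_cases hcb : c ∈ h.base
  · -- some element of X lies outside the base
    obtain ⟨g, hgX, hgb⟩ : ∃ g ∈ X, g ∉ h.base := by
      by_contra hcon
      push Not at hcon
      apply hX
      exact ⟨⟨fun a b => Subtype.ext (h.base_comm _ _ (hcon _ a.2) (hcon _ b.2))⟩⟩
    have hzc : z * c = c * z := by
      obtain ⟨i, j, hg | hg⟩ := h.cover g
      · exact absurd (hg ▸ h.xy_mem_base i j) hgb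
      · have h1 := hcc g hgX
        rw [hg] at h1
        have hs : z * c * z⁻¹ ∈ h.base := h.conj_z_mem_base c hcb
        have h2 : x ^ i * y ^ j * (z * c * z⁻¹) = x ^ i * y ^ j * c := by
          calc x ^ i * y ^ j * (z * c * z⁻¹) = (x ^ i * y ^ j * z * c) * z⁻¹ := by group
            _ = (c * (x ^ i * y ^ j * z)) * z⁻¹ := by rw [h1]
            _ = c * (x ^ i * y ^ j) := by group
            _ = _ := h.base_comm _ _ hcb (h.xy_mem_base i j)
        have h3 := mul_left_cancel h2
        calc z * c = (z * c * z⁻¹) * z := by group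
          _ = c * z := by rw [h3]
    rw [mem_center_iff]
    intro s
    obtain ⟨i, j, rfl | rfl⟩ := h.cover s
    · exact h.base_comm _ _ (h.xy_mem_base i j) hcb
    · rw [mul_assoc, hzc, ← mul_assoc, h.base_comm _ _ (h.xy_mem_base i j) hcb, mul_assoc]
  · exfalso
    apply hX
    -- every element of X is `b` or `b * c` with `b ∈ X ∩ base`
    have hform : ∀ g ∈ X, g ∉ h.base → g * c⁻¹ ∈ h.base ∧ g * c⁻¹ ∈ X := by
      intro g hg hgb
      refine ⟨?_, X.mul_mem hg (X.inv_mem hcX)⟩
      rw [mul_mem_iff_of_index_two h.index_base]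
      exact ⟨fun a => absurd a hgb, fun a => absurd (by simpa using h.base.inv_mem a) hcb⟩
    have hcomm1 : ∀ b ∈ X, b ∈ h.base → ∀ g ∈ X, b * g = g * b := by
      intro b hbX hbb g hgX
      by_cases hgb : g ∈ h.base
      · exact h.base_comm _ _ hbb hgb
      · obtain ⟨h1, h2⟩ := hform g hgX hgb
        have e : g = (g * c⁻¹) * c := by group
        rw [e]
        calc b * (g * c⁻¹ * c) = (b * (g * c⁻¹)) * c := by group
          _ = ((g * c⁻¹) * b) * c := by rw [h.base_comm _ _ hbb h1]
          _ = (g * c⁻¹) * (b * c) := by group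
          _ = (g * c⁻¹) * (c * b) := by rw [hcc b hbX]
          _ = _ := by group
    refine ⟨⟨fun a b => Subtype.ext ?_⟩⟩
    show (a : S) * b = b * a
    by_cases hab : (a : S) ∈ h.base
    · exact hcomm1 _ a.2 hab _ b.2
    · obtain ⟨h1, h2⟩ := hform _ a.2 hab
      have e : (a : S) = ((a : S) * c⁻¹) * c := by group
      rw [e]
      calc (a : S) * c⁻¹ * c * b = ((a : S) * c⁻¹) * (c * b) := by group
        _ = ((a : S) * c⁻¹) * (b * c) := by rw [hcc b b.2]
        _ = (((a : S) * c⁻¹) * b) * c := by group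
        _ = (b * ((a : S) * c⁻¹)) * c := by rw [hcomm1 _ h2 h1 _ b.2]
        _ = _ := by group

end Cfsg.Agent.S1201
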