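import Cfsg.Statements.S1202
-- import your own Cfsg.Agent.* helpers here
import Mathlib
import Cfsg.Agent.Lib.Helper18.WrSelfCent

set_option autoImplicit false
open Cfsg Cfsg.Agent.Lib.Helper18 Subgroup

namespace Cfsg.Agent.S1202

/-- Let S be a wreathed 2-group of order 2^(2n+1) and X a subgroup with C_S(X) ≤ X such that Aut(X) is not a 2-group. Then |N_S(X) : X| = 2, and either X is the commutative subgroup of order 2^(2n), or X = Q·Z(S) for some subgroup Q ≅ Q₈; in the latter case any two such subgroups are conjugate in S. -/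
theorem result {S : Type*} [Group S] [Finite S] (hS : Cfsg.IsWreathed S) (n : ℕ) (hn : Nat.card S = 2 ^ (2 * n + 1)) (X : Subgroup S) (hC : Subgroup.centralizer (X : Set S) ≤ X) (hA : ¬ IsPGroup 2 (MulAut X)) : X.relIndex (Subgroup.normalizer (X : Set S)) = 2 ∧ ((IsMulCommutative X ∧ Nat.card X = 2 ^ (2 * n)) ∨ ∃ Q : Subgroup S, Nonempty (Q ≃* QuaternionGroup 2) ∧ X = Q ⊔ Subgroup.center S) ∧ ∀ X' : Subgroup S, Subgroup.centralizer (X' : Set S) ≤ X' → ¬ IsPGroup 2 (MulAut X') → ¬ IsMulCommutative X → ¬ IsMulCommutative X' → ∃ s : S, X.map (MulAut.conj s).toMonoidHom = X' := by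
  obtain ⟨m, x, y, z, h⟩ := exists_isWr hS
  have hnm : n = m + 2 := by
    have h1 := h.card
    rw [hn] at h1
    have := Nat.pow_right_injective (le_refl 2) h1
    omega
  subst hnm
  have hcls := h.selfCentralizing_cases X hC hA
  refine ⟨?_, ?_, ?_⟩
  · rcases hcls with e | ⟨z', h', e⟩
    · rw [e]
      have := h.normal_base
      rw [Subgroup.normalizer_eq_top, relIndex_top_right]
      exact h.index_base
    · rw [e]; exact h'.relIndex_normalizer_V
  · rcases hcls with e | ⟨z', h', e⟩
    · left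
      rw [e]
      exact ⟨h.base_isMulCommutative, by rw [h.card_base]; ring⟩
    · right
      obtain ⟨Q, hQ, hQV⟩ := h'.exists_quaternion
      exact ⟨Q, hQ, by rw [e, hQV]⟩
  · intro X' hC' hA' hX hX'
    have hcls' := h.selfCentralizing_cases X' hC' hA'
    rcases hcls with e | ⟨z', h', e⟩
    · exact absurd (e ▸ h.base_isMulCommutative) hX
    rcases hcls' with e' | ⟨z'', h'', e'⟩
    · exact absurd (e' ▸ h.base_isMulCommutative) hX'
    obtain ⟨s, hs⟩ := h'.exists_conj_V z'' h''
    exact ⟨s, by rw [e, e', hs]⟩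

end Cfsg.Agent.S1202
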