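import Cfsg.Statements.S1218
import Cfsg.Agent.Lib.Helper13.GU2SylowTwo

set_option autoImplicit false
open scoped MatrixGroups
open Cfsg

namespace Cfsg.Agent.S1218

/-- Let F be a finite field with q² elements, q odd, let GU be the subgroup of GL(2,F) preserving the Hermitian form u₁v₁^q + u₂v₂^q, and P a Sylow 2-subgroup of GU. If q ≡ 1 (mod 4) then P is quasi-dihedral; if q ≡ 3 (mod 4) then P is wreathed. -/
theorem result {F : Type*} [Field F] [Fintype F] (q : ℕ) (hF : Fintype.card F = q ^ 2) (hq : Odd q) (P : Sylow 2 ↥(Cfsg.preserving (Units.coeHom (Matrix (Fin 2) (Fin 2) F)) (Cfsg.hermForm 2 F q))) : (q % 4 = 1 → Cfsg.IsQuasiDihedral (P : Subgroup ↥(Cfsg.preserving (Units.coeHom (Matrix (Fin 2) (Fin 2) F)) (Cfsg.hermForm 2 F q)))) ∧ (q % 4 = 3 → Cfsg.IsWreathed (P : Subgroup ↥(Cfsg.preserving (Units.coeHom (Matrix (Fin 2) (Fin 2) F)) (Cfsg.hermForm 2 F q)))) := by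
  classical
  have hq2 : 2 ≤ q := Cfsg.Agent.Lib.Helper14.herm_two_le hF
  have hcard := Cfsg.Agent.Lib.Helper13.card_sylow_two_GU2 hF hq P
  constructor
  · intro hq1
    rw [Cfsg.Agent.Lib.Helper13.fact_two_of_mod_four_eq_two (q + 1) (by omega)] at hcard
    obtain ⟨x, y, hox, hoy, hrel⟩ := Cfsg.Agent.Lib.Helper13.exists_qd_data_GU2 hF hq1
    set m := (q - 1).factorization 2 with hm
    have hm2 : 2 ≤ m :=
      Cfsg.Agent.Lib.Helper13.two_le_fact_two_of_four_dvd (q - 1) (by omega) (by omega)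
    apply Cfsg.Agent.Lib.Helper13.isQuasiDihedral_sylow P (m + 1) (by omega) _ x y hox hoy
    · rw [Nat.add_sub_cancel]
      exact hrel
    · refine hcard.trans ?_
      congr 1
      ring
  · intro hq3
    rw [Cfsg.Agent.Lib.Helper13.fact_two_of_mod_four_eq_two (q - 1) (by omega)] at hcard
    obtain ⟨x, z, hox, hoz, hcomm, hdisj⟩ := Cfsg.Agent.Lib.Helper13.exists_wreathed_data_GU2 hF hq3
    set n := (q + 1).factorization 2 with hn
    have hn2 : 2 ≤ n :=
      Cfsg.Agent.Lib.Helper13.two_le_fact_two_of_four_dvd (q + 1) (by omega) (by omega)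
    exact Cfsg.Agent.Lib.Helper13.isWreathed_sylow P n hn2 hcard x z hox hoz hcomm hdisj

end Cfsg.Agent.S1218
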