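import Cfsg.Statements.S2940
import Mathlib.Tactic

set_option autoImplicit false
open Cfsg

namespace Cfsg.Agent.S2940

theorem mem_conjRight {G : Type*} [Group G] (g x : G) (X : Subgroup G) :
    x ∈ Cfsg.subgroupConjRight g X ↔ g * x * g⁻¹ ∈ X := by
  unfold Cfsg.subgroupConjRight
  constructor
  · rintro ⟨y, hy, rfl⟩
    simp only [MulEquiv.toMonoidHom_eq_coe, MonoidHom.coe_coe, MulAut.conj_apply, inv_inv]
    have : g * (g⁻¹ * y * g) * g⁻¹ = y := by group
    rw [this]; exact hy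
  · intro h
    refine ⟨g * x * g⁻¹, h, ?_⟩
    simp only [MulEquiv.toMonoidHom_eq_coe, MonoidHom.coe_coe, MulAut.conj_apply, inv_inv]
    group

/-- A Sylow `p`-subgroup of a subgroup `H` containing a Sylow `p`-subgroup of `G`, pushed to `G`, is Sylow. -/
theorem exists_sylow_between {G : Type*} [Group G] [Finite G] {p : ℕ} [Fact p.Prime]
    (P : Sylow p G) (H : Subgroup G) (hPH : (P : Subgroup G) ≤ H) (R : Subgroup G) (hR : IsPGroup p R)
    (hRH : R ≤ H) : ∃ U : Sylow p G, R ≤ (U : Subgroup G) ∧ (U : Subgroup G) ≤ H := by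
  have hR' : IsPGroup p (R.subgroupOf H) := by
    apply hR.comap_of_injective _ (Subgroup.subtype_injective H)
  obtain ⟨Q, hQ⟩ := hR'.exists_le_sylow
  have hp : p.Prime := Fact.out
  have hcardQ : Nat.card (Q : Subgroup H) = p ^ (Nat.card H).factorization p := Q.card_eq_multiplicity
  have hcardP : Nat.card (P : Subgroup G) = p ^ (Nat.card G).factorization p := P.card_eq_multiplicity
  have hle : (Nat.card G).factorization p ≤ (Nat.card H).factorization p := by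
    rw [← hp.pow_dvd_iff_le_factorization Nat.card_pos.ne', ← hcardP]
    exact Subgroup.card_dvd_of_le hPH
  have hge : (Nat.card H).factorization p ≤ (Nat.card G).factorization p := by
    rw [← hp.pow_dvd_iff_le_factorization Nat.card_pos.ne']
    exact dvd_trans (Nat.ordProj_dvd _ p) (Subgroup.card_subgroup_dvd_card H)
  have hcard : Nat.card ((Q : Subgroup H).map H.subtype) = p ^ (Nat.card G).factorization p := by
    rw [le_antisymm hle hge, ← hcardQ]
    exact (Nat.card_congr (Subgroup.equivMapOfInjective (Q : Subgroup H) H.subtype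
      (Subgroup.subtype_injective H)).toEquiv).symm
  refine ⟨Sylow.ofCard _ hcard, ?_, ?_⟩
  · intro x hx
    rw [Sylow.coe_ofCard]
    refine ⟨⟨x, hRH hx⟩, hQ ?_, rfl⟩
    rw [Subgroup.mem_subgroupOf]
    exact hx
  · rw [Sylow.coe_ofCard]
    exact Subgroup.map_subtype_le _

/-- Let S be a Sylow p-subgroup of the finite group G and G₁, G₂ subgroups containing S with G = G₁G₂. Then for every g ∈ G there is a Sylow p-subgroup U of G with S ∩ S^g ≤ U ≤ G₁ ∩ G₂^g (conjugates taken as X^g = g⁻¹Xg). -/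
theorem result {G : Type*} [Group G] [Finite G] {p : ℕ} [Fact p.Prime] (S : Sylow p G) (G₁ G₂ : Subgroup G) (h1 : (S : Subgroup G) ≤ G₁) (h2 : (S : Subgroup G) ≤ G₂) (hfact : ∀ g : G, ∃ g₁ ∈ G₁, ∃ g₂ ∈ G₂, g = g₁ * g₂) (g : G) : ∃ U : Sylow p G, (S : Subgroup G) ⊓ Cfsg.subgroupConjRight g (S : Subgroup G) ≤ (U : Subgroup G) ∧ (U : Subgroup G) ≤ G₁ ⊓ Cfsg.subgroupConjRight g G₂ := by
  obtain ⟨a, ha, b, hb, hab⟩ := hfact g⁻¹
  -- g = b⁻¹ * a⁻¹
  have hg : g = b⁻¹ * a⁻¹ := by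
    have : g = (g⁻¹)⁻¹ := (inv_inv g).symm
    rw [this, hab, mul_inv_rev]
  -- the Sylow subgroup a • S = a S a⁻¹ = S^{a⁻¹}
  let P : Sylow p G := a • S
  have hP : ∀ x, x ∈ (P : Subgroup G) ↔ a⁻¹ * x * a ∈ (S : Subgroup G) := by
    intro x
    show x ∈ ((a • S : Sylow p G) : Subgroup G) ↔ _
    rw [Sylow.coe_subgroup_smul, Subgroup.mem_pointwise_smul_iff_inv_smul_mem]
    simp only [MulAut.smul_def, MulAut.inv_apply, MulAut.conj_symm_apply]
  have hPH : (P : Subgroup G) ≤ G₁ ⊓ Cfsg.subgroupConjRight g G₂ := by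
    intro x hx
    rw [hP] at hx
    refine ⟨?_, ?_⟩
    · have h3 : a * (a⁻¹ * x * a) * a⁻¹ ∈ G₁ := G₁.mul_mem (G₁.mul_mem ha (h1 hx)) (G₁.inv_mem ha)
      have h4 : a * (a⁻¹ * x * a) * a⁻¹ = x := by group
      rwa [h4] at h3
    · show x ∈ Cfsg.subgroupConjRight g G₂
      rw [mem_conjRight, hg]
      have h3 : b⁻¹ * (a⁻¹ * x * a) * b ∈ G₂ := G₂.mul_mem (G₂.mul_mem (G₂.inv_mem hb) (h2 hx)) hb
      have h4 : b⁻¹ * a⁻¹ * x * (b⁻¹ * a⁻¹)⁻¹ = b⁻¹ * (a⁻¹ * x * a) * b := by group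
      rwa [h4]
  have hR : IsPGroup p ↥((S : Subgroup G) ⊓ Cfsg.subgroupConjRight g (S : Subgroup G)) :=
    S.isPGroup'.to_le inf_le_left
  have hRH : (S : Subgroup G) ⊓ Cfsg.subgroupConjRight g (S : Subgroup G) ≤
      G₁ ⊓ Cfsg.subgroupConjRight g G₂ := by
    intro x hx
    refine ⟨h1 hx.1, ?_⟩
    have h5 : x ∈ Cfsg.subgroupConjRight g (S : Subgroup G) := hx.2
    show x ∈ Cfsg.subgroupConjRight g G₂
    rw [mem_conjRight] at h5 ⊢
    exact h2 h5
  exact exists_sylow_between P _ hPH _ hR hRH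

end Cfsg.Agent.S2940
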