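import Cfsg.Statements.S1432

import Cfsg.Agent.Lib.Helper2.BGCorF
import Cfsg.Agent.S1403
import Cfsg.Agent.S1350
import Cfsg.Agent.S1417
import Cfsg.Agent.S1418
import Cfsg.Agent.S1420
import Cfsg.Agent.S1430
import Cfsg.Agent.S1431

set_option autoImplicit false
open Cfsg

namespace Cfsg.Agent.S1432

/-- Let G be a minimal simple group of odd order, M a maximal subgroup, x a non-identity element of M_σ and x' a non-identity element of C_M(x) no prime divisor of whose order lies in σ(M). Then either all prime divisors of the order of x' lie in κ(M) and C_G(x) ≤ M; or all of them lie in τ₂(M), they all lie in σ(L) for a single maximal subgroup L, and C_G(x') ≤ M with M the unique maximal subgroup containing C_G(x'). -/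
theorem result {G : Type*} [Group G] [Finite G] (hG : Cfsg.IsMinSimpleOddOrder G)
    (M : Subgroup G) (hM : IsCoatom M) (x : G) (hx : x ∈ Cfsg.sigmaCore M) (hx1 : x ≠ 1) (x' : G) (hx' : x' ∈ M ⊓ Subgroup.centralizer ({x} : Set G)) (hx'1 : x' ≠ 1)
    (hσ : ∀ p : ℕ, p.Prime → p ∣ orderOf x' → p ∉ Cfsg.sigma M) :
    ((∀ p : ℕ, p.Prime → p ∣ orderOf x' → p ∈ Cfsg.kappa M) ∧ Subgroup.centralizer ({x} : Set G) ≤ M) ∨
      ((∀ p : ℕ, p.Prime → p ∣ orderOf x' → p ∈ Cfsg.tau2 M) ∧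
        (∃ L : Subgroup G, IsCoatom L ∧ ∀ p : ℕ, p.Prime → p ∣ orderOf x' → p ∈ Cfsg.sigma L) ∧
        (Subgroup.centralizer ({x'} : Set G) ≤ M ∧ ∀ L : Subgroup G, IsCoatom L → Subgroup.centralizer ({x'} : Set G) ≤ L → L = M)) := by
  have hU : Cfsg.Agent.Lib.Helper1.BGX.UT G :=
    fun K hK h2 h3 => Cfsg.Agent.S1403.result hG K hK h2 h3
  have HHall : ∀ L : Subgroup G, IsCoatom L →
      Cfsg.IsPiHallOf (Cfsg.sigma L) (Cfsg.sigmaCore L) L :=
    fun L hL => (Cfsg.Agent.S1350.result hG L hL).1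
  have H125 : ∀ L : Subgroup G, IsCoatom L → Cfsg.Agent.Lib.Helper2.BGCor.T125 L :=
    fun L hL p _ hp A hA => Cfsg.Agent.S1417.result hG L hL p hp A hA
  have H126 : ∀ L : Subgroup G, IsCoatom L → Cfsg.Agent.Lib.Helper2.BGCor.T126 L := by
    intro L hL E hE p _ hp A hA
    have h := Cfsg.Agent.S1418.result hG L hL E hE p hp A hA
    exact ⟨h.1.1, h.2.1.2.2⟩
  obtain ⟨E, hE⟩ := Cfsg.Agent.Lib.Helper2.BGCor.exists_compl_sigmaCore (HHall M hM)
  have h1210d := (Cfsg.Agent.S1420.result hG M hM E hE).2.2.2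
  exact Cfsg.Agent.Lib.Helper2.BGCor.s1432_core hG hU hM HHall H125 H126 h1210d
    (fun K hK hK1 => Cfsg.Agent.S1430.result hG M hM K hK hK1)
    (fun K hK hK1 => (Cfsg.Agent.S1431.result hG M hM K hK hK1).1) hx hx1 hx' hx'1 hσ

end Cfsg.Agent.S1432
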