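import Cfsg.Statements.S1367
-- import your own Cfsg.Agent.* helpers here
import Cfsg.Agent.Lib.Helper1.BGEmb1
import Cfsg.Agent.S1403
import Cfsg.Agent.S1417
import Cfsg.Agent.S1419
import Cfsg.Agent.S1430
import Cfsg.Agent.S1431

set_option autoImplicit false
open Cfsg

namespace Cfsg.Agent.S1367

/-- Let G be a minimal simple group of odd order, M a maximal subgroup with standard factorisation M = K U M_σ, K ≠ 1, K* = M_σ ∩ C_G(K), and M* a maximal subgroup with K = M*_σ ∩ C_G(K*) and K* a Hall κ(M*)-subgroup of M*. Then for subgroups X ≤ K* and Y ≤ K of prime order, M is the only maximal subgroup containing C_G(X) and M* the only one containing C_G(Y). -/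
theorem result {G : Type*} [Group G] [Finite G] (hG : Cfsg.IsMinSimpleOddOrder G)
    (M : Subgroup G) (hM : IsCoatom M) (K U : Subgroup G) (hKU : Cfsg.IsSigmaDecomposition M K U) (hK1 : K ≠ ⊥) (Mstar : Subgroup G) (hMstar : IsCoatom Mstar)
    (hKst : K = Cfsg.sigmaCore Mstar ⊓ Subgroup.centralizer ((Cfsg.sigmaCore M ⊓ Subgroup.centralizer (K : Set G)) : Set G))
    (hKstH : Cfsg.IsPiHallOf (Cfsg.kappa Mstar) (Cfsg.sigmaCore M ⊓ Subgroup.centralizer (K : Set G)) Mstar) :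
    (∀ X : Subgroup G, X ≤ (Cfsg.sigmaCore M ⊓ Subgroup.centralizer (K : Set G)) → (Nat.card X).Prime →
        Subgroup.centralizer (X : Set G) ≤ M ∧ ∀ L : Subgroup G, IsCoatom L → Subgroup.centralizer (X : Set G) ≤ L → L = M) ∧
      (∀ Y : Subgroup G, Y ≤ K → (Nat.card Y).Prime →
        Subgroup.centralizer (Y : Set G) ≤ Mstar ∧ ∀ L : Subgroup G, IsCoatom L → Subgroup.centralizer (Y : Set G) ≤ L → L = Mstar) := by
  have hU : Cfsg.Agent.Lib.Helper1.BGX.UT G := fun K hK hK2 hK3 => Cfsg.Agent.S1403.result hG K hK hK2 hK3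
  have h125 : ∀ L : Subgroup G, IsCoatom L → Cfsg.Agent.Lib.Helper2.BGCor.T125 L :=
    fun L hL p _ hp A hA => Cfsg.Agent.S1417.result hG L hL p hp A hA
  have h127 : ∀ L : Subgroup G, IsCoatom L → Cfsg.Agent.Lib.Helper1.BGEmb.T127 L :=
    fun L hL E hE p _ hp hS A hA => (Cfsg.Agent.S1419.result hG L hL E hE p hp hS A hA).2.2
  have h142 : Cfsg.Agent.Lib.Helper2.BGCor.T142 M K := Cfsg.Agent.S1430.result hG M hM K hKU.hall hK1
  have h143M : Cfsg.Agent.Lib.Helper1.BGEmb.T143 M K := Cfsg.Agent.S1431.result hG M hM K hKU.hall hK1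
  have hKst1 := Cfsg.Agent.Lib.Helper1.BGEmb.kstar_ne_bot hG hM hKU.hall hK1 h142
  have h143S : Cfsg.Agent.Lib.Helper1.BGEmb.T143 Mstar (Cfsg.sigmaCore M ⊓ Subgroup.centralizer (K : Set G)) :=
    Cfsg.Agent.S1431.result hG Mstar hMstar _ hKstH hKst1
  exact Cfsg.Agent.Lib.Helper1.BGEmb.s1367_core hG hU hM hMstar h143M h143S h125 h127 hKst

end Cfsg.Agent.S1367
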