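import Cfsg.Statements.S1434
-- import your own Cfsg.Agent.* helpers here
import Cfsg.Agent.Lib.Helper21.BG147C
import Cfsg.Agent.S1351
import Cfsg.Agent.S1354
import Cfsg.Agent.S1365
import Cfsg.Agent.S1368
import Cfsg.Agent.S1431

set_option autoImplicit false
open Cfsg

namespace Cfsg.Agent.S1434

open Cfsg.Agent.Lib.Helper21.BG147 in
/-- Let G be a minimal simple group of odd order, M a maximal subgroup with standard factorisation M = K U M_σ, K ≠ 1, K* = M_σ ∩ C_G(K), and M* a maximal subgroup with K = M*_σ ∩ C_G(K*) and K* a Hall κ(M*)-subgroup of M*. Then κ(M) = τ₁(M); K* is a Hall σ(M)-subgroup of M*; for non-identity x ∈ K and y ∈ K*, C_M(x), C_{M*}(y) and C_G(xy) all equal K K*; the set Ẑ of elements of K K* outside K ∪ K* meets no gMg⁻¹ with g ∉ M; and with k = #K, k* = #K*, the union of the conjugates of Ẑ has k·k*·(number of elements) = (k k* − k − k* + 1)·#G and more than #G / 2 elements. -/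
theorem result {G : Type*} [Group G] [Finite G] (hG : Cfsg.IsMinSimpleOddOrder G)
    (M : Subgroup G) (hM : IsCoatom M) (K U : Subgroup G) (hKU : Cfsg.IsSigmaDecomposition M K U) (hK1 : K ≠ ⊥) (Mstar : Subgroup G) (hMstar : IsCoatom Mstar)
    (hKst : K = Cfsg.sigmaCore Mstar ⊓ Subgroup.centralizer ((Cfsg.sigmaCore M ⊓ Subgroup.centralizer (K : Set G)) : Set G))
    (hKstH : Cfsg.IsPiHallOf (Cfsg.kappa Mstar) (Cfsg.sigmaCore M ⊓ Subgroup.centralizer (K : Set G)) Mstar) :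
    Cfsg.kappa M = Cfsg.tau1 M ∧ Cfsg.IsPiHallOf (Cfsg.sigma M) (Cfsg.sigmaCore M ⊓ Subgroup.centralizer (K : Set G)) Mstar ∧
      (∀ x ∈ K, x ≠ 1 → ∀ y ∈ (Cfsg.sigmaCore M ⊓ Subgroup.centralizer (K : Set G)), y ≠ 1 →
        M ⊓ Subgroup.centralizer ({x} : Set G) = K ⊔ (Cfsg.sigmaCore M ⊓ Subgroup.centralizer (K : Set G)) ∧ Mstar ⊓ Subgroup.centralizer ({y} : Set G) = K ⊔ (Cfsg.sigmaCore M ⊓ Subgroup.centralizer (K : Set G)) ∧
        Subgroup.centralizer ({x * y} : Set G) = K ⊔ (Cfsg.sigmaCore M ⊓ Subgroup.centralizer (K : Set G))) ∧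
      (∀ g : G, g ∉ M → ∀ z ∈ ((↑(K ⊔ (Cfsg.sigmaCore M ⊓ Subgroup.centralizer (K : Set G))) : Set G) \ ((K : Set G) ∪ ↑(Cfsg.sigmaCore M ⊓ Subgroup.centralizer (K : Set G)))), z ∉ M.map (MulAut.conj g).toMonoidHom) ∧
      Nat.card K * Nat.card ↥(Cfsg.sigmaCore M ⊓ Subgroup.centralizer (K : Set G)) * Set.ncard {a : G | ∃ g : G, ∃ z ∈ ((↑(K ⊔ (Cfsg.sigmaCore M ⊓ Subgroup.centralizer (K : Set G))) : Set G) \ ((K : Set G) ∪ ↑(Cfsg.sigmaCore M ⊓ Subgroup.centralizer (K : Set G)))), a = g * z * g⁻¹} =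
        (Nat.card K * Nat.card ↥(Cfsg.sigmaCore M ⊓ Subgroup.centralizer (K : Set G)) - Nat.card K - Nat.card ↥(Cfsg.sigmaCore M ⊓ Subgroup.centralizer (K : Set G)) + 1) * Nat.card G ∧
      Nat.card G < 2 * Set.ncard {a : G | ∃ g : G, ∃ z ∈ ((↑(K ⊔ (Cfsg.sigmaCore M ⊓ Subgroup.centralizer (K : Set G))) : Set G) \ ((K : Set G) ∪ ↑(Cfsg.sigmaCore M ⊓ Subgroup.centralizer (K : Set G)))), a = g * z * g⁻¹} := by
  classical
  have hKc : IsCyclic K := hKU.cyclic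
  have hKhall := hKU.hall
  have hKM : K ≤ M := hKhall.1
  obtain ⟨hKs1, hcentM⟩ := Cfsg.Agent.S1354.result hG M hM K hKc hKhall
  have hcentM' := hcentM hK1
  have hKsc : IsCyclic ↥(Cfsg.sigmaCore M ⊓ Subgroup.centralizer (K : Set G)) :=
    (Cfsg.Agent.S1351.result hG Mstar hMstar).2 _ hKstH
  obtain ⟨-, hcentMs⟩ := Cfsg.Agent.S1354.result hG Mstar hMstar _ hKsc hKstH
  have hcentMs' := hcentMs hKs1
  have hKst' : K = Cfsg.sigmaCore Mstar ⊓ Subgroup.centralizer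
      (((Cfsg.sigmaCore M ⊓ Subgroup.centralizer (K : Set G) : Subgroup G)) : Set G) := by
    rw [Subgroup.coe_inf]; exact hKst
  rw [← hKst'] at hcentMs'
  obtain ⟨hder, -⟩ := Cfsg.Agent.S1365.result hG M hM K U hKU hK1
  obtain ⟨hMMs, -⟩ := Cfsg.Agent.S1368.result hG M hM K U hKU hK1 Mstar hMstar hKst hKstH
  obtain ⟨hTI, hKK, -, hY⟩ := Cfsg.Agent.S1431.result hG M hM K hKhall hK1
  set Ks : Subgroup G := Cfsg.sigmaCore M ⊓ Subgroup.centralizer (K : Set G) with hKsdef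
  have hKsσ : Ks ≤ Cfsg.sigmaCore M := inf_le_left
  have hKsM : Ks ≤ M := hKsσ.trans (Cfsg.Agent.Lib.Helper2.BGCor.sigmaCore_le M)
  have hcomm : Ks ≤ Subgroup.centralizer (K : Set G) := inf_le_right
  have hcop : (Nat.card K).Coprime (Nat.card Ks) := coprime_kappa_sigma hKhall.2.1 hKsσ
  have hKab := comm_of_isCyclic hKc
  have hKsab := comm_of_isCyclic hKsc
  obtain ⟨hC, hD, hN, hCz⟩ := zhat_facts M K Ks hKM hKsM hcomm hKab hKsab hcop hcentM' hTI hKK
  have hinf : K ⊓ Ks = ⊥ := (Subgroup.disjoint_of_coprime_natCard hcop).eq_bot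
  have hnorm : K ≤ Subgroup.normalizer (Ks : Set G) := by
    intro k hk
    rw [Subgroup.mem_normalizer_iff]
    intro y
    have key : ∀ w ∈ Ks, k * w * k⁻¹ = w := by
      intro w hw
      have := (Subgroup.mem_centralizer_iff.mp (hcomm hw)) k hk
      calc k * w * k⁻¹ = w * k * k⁻¹ := by rw [this]
        _ = w := by group
    constructor
    · intro hy; rw [key y hy]; exact hy
    · intro hy
      have h2 := (Subgroup.mem_centralizer_iff.mp (hcomm hy)) k hk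
      have e : y = k * y * k⁻¹ := by
        calc y = k⁻¹ * ((k * y * k⁻¹) * k) := by group
          _ = k⁻¹ * (k * (k * y * k⁻¹)) := by rw [h2]
          _ = k * y * k⁻¹ := by group
      rw [e]; exact hy
  have hcardZ : Nat.card ↥(K ⊔ Ks) = Nat.card K * Nat.card Ks := card_sup_of_inf_eq_bot K Ks hnorm hinf
  have hcount := ti_count (K ⊔ Ks) _ hCz hN
  have hzhat := ncard_zhat K Ks hinf
  rw [hcardZ] at hcount hzhat
  have hk1 : 1 < Nat.card K := (Subgroup.one_lt_card_iff_ne_bot K).mpr hK1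
  have hks1 : 1 < Nat.card Ks := (Subgroup.one_lt_card_iff_ne_bot Ks).mpr hKs1
  have hko : Odd (Nat.card K) := Odd.of_dvd_nat hG.1 (Subgroup.card_subgroup_dvd_card K)
  have hkso : Odd (Nat.card Ks) := Odd.of_dvd_nat hG.1 (Subgroup.card_subgroup_dvd_card Ks)
  have hprod : Nat.card K + Nat.card Ks ≤ Nat.card K * Nat.card Ks := by nlinarith
  have hT : Set.ncard (((K ⊔ Ks : Subgroup G) : Set G) \ ((K : Set G) ∪ (Ks : Set G)))
      = Nat.card K * Nat.card Ks + 1 - Nat.card K - Nat.card Ks := by omega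
  rw [hT] at hcount
  obtain ⟨hfin1, hfin2⟩ := arith (Nat.card K) (Nat.card Ks) (Nat.card G) _ hk1 hks1 hko hkso hcop
    Nat.card_pos hcount
  refine ⟨kappa_eq_tau1 hKU hder, ?_, ?_, hD, hfin1, hfin2⟩
  · exact hall_sigma_star hG hMstar hKhall.2.1 hKsσ hKs1 hKstH.1 hcomm hMMs hY
  · intro x hx hx1 y hy hy1
    refine ⟨hcentM' x hx hx1, ?_, hC x hx hx1 y hy hy1⟩
    rw [hcentMs' y hy hy1, sup_comm]

end Cfsg.Agent.S1434
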