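import Cfsg.Statements.S1369
-- import your own Cfsg.Agent.* helpers here
import Cfsg.Agent.Lib.Helper20.BGPairC
import Cfsg.Agent.S1351
import Cfsg.Agent.S1352
import Cfsg.Agent.S1354
import Cfsg.Agent.S1366
import Cfsg.Agent.S1367
import Cfsg.Agent.S1368
import Cfsg.Agent.S1431
import Cfsg.Agent.S1434

set_option autoImplicit false
open Cfsg

namespace Cfsg.Agent.S1369

/-- Let G be a minimal simple group of odd order, M a maximal subgroup with standard factorisation M = K U M_σ, K ≠ 1, K* = M_σ ∩ C_G(K), and M* a maximal subgroup with K = M*_σ ∩ C_G(K*) and K* a Hall κ(M*)-subgroup of M*. Then either U ≠ 1 or every K*-invariant complement of K* M*_σ in M* is nontrivial; and every maximal subgroup H of G with κ(H) nonempty is conjugate to M or to M*. -/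
theorem result {G : Type*} [Group G] [Finite G] (hG : Cfsg.IsMinSimpleOddOrder G)
    (M : Subgroup G) (hM : IsCoatom M) (K U : Subgroup G) (hKU : Cfsg.IsSigmaDecomposition M K U) (hK1 : K ≠ ⊥) (Mstar : Subgroup G) (hMstar : IsCoatom Mstar)
    (hKst : K = Cfsg.sigmaCore Mstar ⊓ Subgroup.centralizer ((Cfsg.sigmaCore M ⊓ Subgroup.centralizer (K : Set G)) : Set G))
    (hKstH : Cfsg.IsPiHallOf (Cfsg.kappa Mstar) (Cfsg.sigmaCore M ⊓ Subgroup.centralizer (K : Set G)) Mstar) :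
    (U ≠ ⊥ ∨ ∀ Ustar : Subgroup G, Cfsg.IsSigmaDecomposition Mstar (Cfsg.sigmaCore M ⊓ Subgroup.centralizer (K : Set G)) Ustar → Ustar ≠ ⊥) ∧
      ∀ H : Subgroup G, IsCoatom H → (Cfsg.kappa H).Nonempty →
        ∃ g : G, H = M.map (MulAut.conj g).toMonoidHom ∨ H = Mstar.map (MulAut.conj g).toMonoidHom := by
  have h67 := Cfsg.Agent.S1367.result hG M hM K U hKU hK1 Mstar hMstar hKst hKstH
  have h68 := Cfsg.Agent.S1368.result hG M hM K U hKU hK1 Mstar hMstar hKst hKstH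
  have h31 := Cfsg.Agent.S1431.result hG M hM K hKU.hall hK1
  have hKs1 := (Cfsg.Agent.S1354.result hG M hM K hKU.cyclic hKU.hall).1
  have h31' := Cfsg.Agent.S1431.result hG Mstar hMstar _ hKstH hKs1
  have h34 := Cfsg.Agent.S1434.result hG M hM K U hKU hK1 Mstar hMstar hKst hKstH
  constructor
  · by_contra hcon
    push Not at hcon
    obtain ⟨hU, Ustar, hKU', hU'⟩ := hcon
    exact Cfsg.Agent.Lib.Helper20.BGPair.pair_false_of_decomp hG hM hKU hK1 hMstar hKst hKU' hKs1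
      (fun X hX hXp => (h67.1 X hX hXp).1) (fun Y hY hYp => (h67.2 Y hY hYp).1) h68.1.le h31 h31'
      hU hU'
  · intro H hH hκ
    obtain ⟨⟨KH, hKH⟩, hcyc⟩ := Cfsg.Agent.S1351.result hG H hH
    have hKHc := hcyc KH hKH
    have hKH1 : KH ≠ ⊥ := Cfsg.Agent.Lib.Helper20.BGPair.hall_ne_bot_of_kappa_nonempty hKH hκ
    obtain ⟨⟨UH, hKUH⟩, -⟩ := Cfsg.Agent.S1352.result hG H hH KH hKHc hKH
    obtain ⟨Hstar, ⟨hHstar, hKHst, hKHstH⟩, -⟩ :=
      Cfsg.Agent.S1366.result hG H hH KH UH hKUH hKH1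
    have h34H := Cfsg.Agent.S1434.result hG H hH KH UH hKUH hKH1 Hstar hHstar hKHst hKHstH
    exact Cfsg.Agent.Lib.Helper20.BGPair.conj_of_zhat_classes hG hM hMstar hH inf_le_left
      (hKst.le.trans inf_le_left) inf_le_right inf_le_left inf_le_right
      (Cfsg.Agent.Lib.Helper21.BG147.coprime_kappa_sigma hKH.2.1 inf_le_left)
      h34.2.2.2.2.2 h34H.2.2.2.2.2

end Cfsg.Agent.S1369
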