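import Cfsg.Statements.S1449
import Cfsg.Agent.Lib.Helper17.OddAutRank2

set_option autoImplicit false
open Cfsg

namespace Cfsg.Agent.S1449

/-- Let G be a finite group, p an odd prime, R a p-subgroup with no elementary abelian subgroup of order p ^ 3, and A a solvable subgroup of odd order normalizing R with A ∩ C_G(R) = 1. Then the derived subgroup [A, A] is a p-group. -/
theorem result {G : Type*} [Group G] [Finite G] (p : ℕ) [Fact p.Prime] (hp : p ≠ 2) (R A : Subgroup G) (hR : IsPGroup p R) (hr : Cfsg.PRankLE p 2 R)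
    (hA : (A ≤ Subgroup.normalizer (R : Set G))) (hAs : Group.IsSolvable A) (hAodd : Odd (Nat.card A)) (hfaith : A ⊓ Subgroup.centralizer (R : Set G) = ⊥) :
    IsPGroup p ↥⁅A, A⁆ := by
  classical
  obtain ⟨N, hN⟩ : ∃ N : Subgroup G, N = Subgroup.normalizer (R : Set G) := ⟨_, rfl⟩
  have hAN : A ≤ N := by rw [hN]; exact hA
  obtain ⟨g, hg⟩ : ∃ g : N →* MulAut R, ∀ (n : N) (r : R), ((g n r : R) : G) = n * r * (n : G)⁻¹ := by
    subst hN
    exact ⟨R.normalizerMonoidHom, fun n r => rfl⟩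
  have hker : ∀ n : N, g n = 1 → (n : G) ∈ Subgroup.centralizer (R : Set G) := by
    intro n hn
    rw [Subgroup.mem_centralizer_iff]
    intro r hr
    have h1 := hg n ⟨r, hr⟩
    rw [hn, MulAut.one_apply] at h1
    change r = n * r * (n : G)⁻¹ at h1
    calc r * n = n * r * (n : G)⁻¹ * n := by rw [← h1]
      _ = n * r := by group
  obtain ⟨A', hA'⟩ : ∃ A' : Subgroup N, A' = A.subgroupOf N := ⟨_, rfl⟩
  obtain ⟨B, hB⟩ : ∃ B : Subgroup (MulAut R), B = A'.map g := ⟨_, rfl⟩
  have hcardA' : Nat.card A' = Nat.card A := by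
    rw [hA']
    exact Nat.card_congr (Subgroup.subgroupOfEquivOfLe hAN).toEquiv
  have hBodd : Odd (Nat.card B) := by
    rw [hB]
    exact Odd.of_dvd_nat (hcardA' ▸ hAodd) (Subgroup.card_map_dvd A' g)
  have hRfin : Finite R := inferInstance
  have key := (Cfsg.Agent.Lib.Helper17.odd_aut_rank_two p hp hR hr B hBodd).1
  have hmapA' : A'.map N.subtype = A := by
    rw [hA']
    exact Subgroup.map_subgroupOf_eq_of_le hAN
  have hcomm : ⁅A, A⁆ = (⁅A', A'⁆).map N.subtype := by
    rw [Subgroup.map_commutator, hmapA']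
  intro y
  have hy : (y : G) ∈ (⁅A', A'⁆).map N.subtype := by
    rw [← hcomm]; exact y.2
  obtain ⟨y', hy', hyy'⟩ := hy
  have h1 : g y' ∈ ⁅B, B⁆ := by
    rw [hB, ← Subgroup.map_commutator]
    exact Subgroup.mem_map_of_mem _ hy'
  obtain ⟨k, hk⟩ := key _ h1
  refine ⟨k, ?_⟩
  rw [← map_pow] at hk
  have h2 := hker _ hk
  have h3 : ((y' ^ (p ^ k) : N) : G) ∈ A := by
    have h4 : y' ∈ A' := by
      have hle : ⁅A', A'⁆ ≤ A' := by
        rw [Subgroup.commutator_le]
        intro a ha b hb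
        rw [commutatorElement_def]
        exact A'.mul_mem (A'.mul_mem (A'.mul_mem ha hb) (A'.inv_mem ha)) (A'.inv_mem hb)
      exact hle hy'
    rw [hA', Subgroup.mem_subgroupOf] at h4
    push_cast
    exact A.pow_mem h4 _
  have h5 : ((y' ^ (p ^ k) : N) : G) ∈ A ⊓ Subgroup.centralizer (R : Set G) := ⟨h3, h2⟩
  rw [hfaith, Subgroup.mem_bot] at h5
  apply Subtype.ext
  push_cast at h5 ⊢
  rw [← hyy']
  exact h5

end Cfsg.Agent.S1449
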