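import Cfsg.Statements.S0040
-- import your own Cfsg.Agent.* helpers here
import Mathlib
import Cfsg.Agent.Lib.Helper18.UniqueInvolution
import Cfsg.Agent.S0068

set_option autoImplicit false
open Cfsg

namespace Cfsg.Agent.S0040

/-- Sylow subgroups of Frobenius complements: if H complements a nontrivial normal subgroup K and every nonidentity element of H has trivial centraliser in K, then each Sylow subgroup of H is cyclic or isomorphic to a generalized quaternion group. -/
theorem result {G : Type*} [Group G] [Finite G] (K H : Subgroup G) [K.Normal]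
    (hc : Subgroup.IsComplement' K H) (hK : K ≠ ⊥) (hfpf : ∀ h ∈ H, h ≠ 1 → K ⊓ Subgroup.centralizer {h} = ⊥)
    (p : ℕ) [Fact p.Prime] (P : Sylow p H) :
    IsCyclic P ∨ ∃ n : ℕ, Nonempty (P ≃* QuaternionGroup (2 ^ n)) := by
  by_cases hp2 : p = 2
  · subst hp2
    have huniq : ∀ s t : (P : Subgroup H), orderOf s = 2 → orderOf t = 2 → s = t := by
      intro s t hs ht
      have hsG : orderOf (((s : H) : G)) = 2 := by rw [Subgroup.orderOf_coe, Subgroup.orderOf_coe, hs]
      have htG : orderOf (((t : H) : G)) = 2 := by rw [Subgroup.orderOf_coe, Subgroup.orderOf_coe, ht]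
      have heven : 2 ∣ Nat.card H := by
        have : orderOf (s : H) ∣ Nat.card H := orderOf_dvd_natCard _
        rwa [Subgroup.orderOf_coe, hs] at this
      obtain ⟨⟨u, -, -, hu, -⟩, -⟩ := Cfsg.Agent.S0068.result K H hc hK hfpf heven
      have h1 := hu _ (s : H).2 hsG
      have h2 := hu _ (t : H).2 htG
      apply Subtype.ext; apply Subtype.ext
      rw [h1, h2]
    rcases Cfsg.Agent.Lib.Helper18.isCyclic_or_quaternion_of_unique_involution P.isPGroup' huniq
      with h | ⟨n, -, hn⟩
    · exact Or.inl h
    · exact Or.inr ⟨n, hn⟩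
  · exact Or.inl (Cfsg.Agent.Lib.Helper18.isCyclic_sylow_of_fpf K H hK hfpf p hp2 P)

end Cfsg.Agent.S0040
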