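import Cfsg.Statements.S0606
import Mathlib
import Cfsg.Agent.Lib.Helper4.ElemAb
import Cfsg.Agent.Lib.Helper4.Basic

set_option autoImplicit false
open Cfsg

namespace Cfsg.Agent.S0606

open Cfsg.Agent.Lib.Helper4

/-- Elementary abelian p-subgroups of maximal order are best offenders on any normal elementary abelian p-subgroup. -/
theorem result {G : Type*} [Group G] [Finite G] {p : ℕ} [Fact p.Prime] (V : Subgroup G) [V.Normal] (hV : Cfsg.IsElementaryAbelian p V) (A : Subgroup G) (hA : A ∈ Cfsg.maxElementaryAbelianSubgroups p G) : Cfsg.IsBestOffenderOn p V A := by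
  obtain ⟨hAel, hAmax⟩ := hA
  refine ⟨?_, ?_, ?_⟩
  · intro B hBA
    set W : Subgroup G := V ⊓ Subgroup.centralizer (B : Set G) with hW
    have hWel : Cfsg.IsElementaryAbelian p W := elemAb_mono inf_le_left hV
    have hBel : Cfsg.IsElementaryAbelian p B := elemAb_mono hBA hAel
    have hcomm : ∀ b ∈ B, ∀ w ∈ W, b * w = w * b := by
      intro b hb w hw
      have : w ∈ Subgroup.centralizer (B : Set G) := hw.2
      rw [Subgroup.mem_centralizer_iff] at this
      exact this b hb
    have hsup := elemAb_sup hBel hWel hcomm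
    have hcard := hAmax _ hsup
    have hBW : B ≤ Subgroup.centralizer (W : Set G) :=
      Subgroup.le_centralizer_iff.mp inf_le_right
    have hBN : B ≤ Subgroup.normalizer (W : Set G) :=
      hBW.trans (Subgroup.centralizer_le_normalizer _)
    have hprod := card_sup_mul_card_inf B W hBN
    have hinf : B ⊓ W ≤ V ⊓ Subgroup.centralizer (A : Set G) := by
      intro x hx
      refine ⟨hx.2.1, ?_⟩
      change x ∈ Subgroup.centralizer (A : Set G)
      rw [Subgroup.mem_centralizer_iff]
      intro a ha
      exact elemAb_comm hAel a ha x (hBA hx.1)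
    rw [← hprod]
    exact Nat.mul_le_mul hcard (Subgroup.card_le_of_le hinf)
  · have : ⁅A, A⁆ = ⊥ := Subgroup.commutator_self_eq_bot_iff.mpr hAel.1
    rw [this]; exact bot_le
  · intro a ha
    rw [hAel.2 a ha]; exact Subgroup.one_mem _

end Cfsg.Agent.S0606
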