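import Cfsg.Statements.S2941
import Cfsg.Agent.Lib.Helper1.Commutator
import Cfsg.Agent.Lib.Helper19.Index

set_option autoImplicit false
open Cfsg

namespace Cfsg.Agent.S2941

open scoped commutatorElement

theorem jcomp_normalizes {G : Type*} [Group G] [Finite G] (K J Q : Subgroup G)
    (ha : Subgroup.closure {g : G | g ∈ K ∧ Odd (orderOf g)} = K) (hb : ⁅K, J⁆ = K)
    (hc : IsPGroup 2 J) (hd : K ⊔ J ≤ Subgroup.normalizer (Q : Set G))
    (he : Q ≤ Subgroup.normalizer (J : Set G)) : Q ≤ Subgroup.normalizer (K : Set G) := by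
  have hJK : J ≤ Subgroup.normalizer (K : Set G) := by
    have := Cfsg.Agent.Lib.Helper1.le_normalizer_commutator_right K J
    rwa [hb] at this
  -- step 1: odd order elements of X lie in K
  have hidx : ∃ e : ℕ, K.relIndex (J ⊔ K) = 2 ^ e := by
    rw [Cfsg.Agent.Lib.Helper19.relIndex_sup_of_le_normalizer J K hJK]
    obtain ⟨e, he'⟩ := IsPGroup.iff_card.mp hc
    have h1 : K.relIndex J ∣ Nat.card J := Subgroup.index_dvd_card _
    rw [he'] at h1
    obtain ⟨k, -, hk⟩ := (Nat.dvd_prime_pow Nat.prime_two).mp h1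
    exact ⟨k, hk⟩
  obtain ⟨e, hidx⟩ := hidx
  have hpow : ∀ g : G, g ∈ J ⊔ K → g ^ (2 ^ e) ∈ K := by
    intro g hg
    haveI := Subgroup.normal_subgroupOf_sup_of_le_normalizer hJK
    have h1 := Subgroup.pow_index_mem (K.subgroupOf (J ⊔ K)) (⟨g, hg⟩ : ↥(J ⊔ K))
    have h2 : (K.subgroupOf (J ⊔ K)).index = 2 ^ e := hidx
    rw [h2, Subgroup.mem_subgroupOf] at h1
    exact h1
  have hodd : ∀ g : G, g ∈ J ⊔ K → Odd (orderOf g) → g ∈ K := by
    intro g hg hgo
    by_cases h1 : orderOf g = 1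
    · rw [orderOf_eq_one_iff] at h1
      rw [h1]
      exact K.one_mem
    have hpos : 0 < orderOf g := orderOf_pos g
    have hcop : Nat.Coprime (2 ^ e) (orderOf g) :=
      Nat.Coprime.pow_left e (Nat.coprime_two_left.mpr hgo)
    obtain ⟨k, -, hk⟩ := Nat.exists_mul_mod_eq_one_of_coprime hcop (by omega)
    have h2 : g = (g ^ (2 ^ e)) ^ k := by
      rw [← pow_mul, ← pow_mod_orderOf, hk, pow_one]
    rw [h2]
    exact K.pow_mem (hpow g hg) k
  -- step 2: Q normalizes X = J ⊔ K
  have hX : J ⊔ K = Subgroup.closure {y : G | ∃ x ∈ J ⊔ K, ∃ a ∈ J, y = x * a * x⁻¹} := by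
    apply le_antisymm
    · rw [sup_le_iff]
      constructor
      · intro a haJ
        apply Subgroup.subset_closure
        exact ⟨1, Subgroup.one_mem _, a, haJ, by group⟩
      · refine le_trans (le_of_eq hb.symm) ?_
        rw [Subgroup.commutator_le]
        intro k hk a haJ
        have e1 : ⁅k, a⁆ = (k * a * k⁻¹) * a⁻¹ := by rw [commutatorElement_def]
        rw [e1]
        apply Subgroup.mul_mem
        · apply Subgroup.subset_closure
          exact ⟨k, Subgroup.mem_sup_right hk, a, haJ, rfl⟩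
        · apply Subgroup.inv_mem
          apply Subgroup.subset_closure
          exact ⟨1, Subgroup.one_mem _, a, haJ, by group⟩
    · rw [Subgroup.closure_le]
      rintro _ ⟨x, hx, a, haJ, rfl⟩
      exact Subgroup.mul_mem _ (Subgroup.mul_mem _ hx (Subgroup.mem_sup_left haJ))
        (Subgroup.inv_mem _ hx)
  have hd' : J ⊔ K ≤ Subgroup.normalizer (Q : Set G) := by rwa [sup_comm]
  have hQX : Q ≤ Subgroup.normalizer ((J ⊔ K : Subgroup G) : Set G) := by
    rw [hX, Subgroup.le_normalizer_closure_iff]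
    rintro q hq _ ⟨x, hx, a, haJ, rfl⟩
    apply Subgroup.subset_closure
    have hq1 : x⁻¹ * q * x ∈ Q := by
      have := (Subgroup.mem_normalizer_iff.mp (hd' (Subgroup.inv_mem _ hx)) q).mp hq
      rwa [inv_inv] at this
    have ha1 : (x⁻¹ * q * x) * a * (x⁻¹ * q * x)⁻¹ ∈ J :=
      (Subgroup.mem_normalizer_iff.mp (he hq1) a).mp haJ
    exact ⟨x, hx, _, ha1, by group⟩
  -- step 3
  rw [← ha, Subgroup.le_normalizer_closure_iff]
  rintro q hq g ⟨hgK, hgo⟩
  apply Subgroup.subset_closure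
  have hgo' : Odd (orderOf (q * g * q⁻¹)) := by
    have := MulEquiv.orderOf_eq (MulAut.conj q) g
    rw [MulAut.conj_apply] at this
    rw [this]
    exact hgo
  refine ⟨hodd _ ?_ hgo', hgo'⟩
  exact (Subgroup.mem_normalizer_iff.mp (hQX hq) g).mp (Subgroup.mem_sup_right hgK)

/-- Let G be a finite group of characteristic 2 type in which every 2-local subgroup is solvable and the centralizer of Ω₁(Z(S)) lies in N_G(S) for every Sylow 2-subgroup S, and let T be a nontrivial 2-subgroup and K a J(T)-component (J the Thompson subgroup generated by the elementary abelian 2-subgroups of largest order). If a subgroup Q is normalized by ⟨K, J(T)⟩ and normalizes J(T), then Q normalizes K. -/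
theorem result {G : Type*} [Group G] [Finite G] (hL : Cfsg.IsCharacteristicTwoType G) (hN : ∀ N : Subgroup G, Cfsg.IsTwoLocal N → Group.IsSolvable ↥N)
    (hZ : ∀ S : Sylow 2 G, Subgroup.centralizer (Cfsg.omegaCenterOf (S : Subgroup G) : Set G) ≤ Subgroup.normalizer ((S : Subgroup G) : Set G)) (T : Subgroup G) (hT : IsPGroup 2 ↥T) (hT1 : T ≠ ⊥) (K : Subgroup G) (hK : Cfsg.IsJComponent T K)
    (Q : Subgroup G) (hQ1 : K ⊔ Cfsg.thompsonSubgroupOf 2 T ≤ Subgroup.normalizer (Q : Set G)) (hQ2 : Q ≤ Subgroup.normalizer (Cfsg.thompsonSubgroupOf 2 T : Set G)) :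
    Q ≤ Subgroup.normalizer (K : Set G) := by
  have hJT : Cfsg.thompsonSubgroupOf 2 T ≤ T := by
    unfold Cfsg.thompsonSubgroupOf
    exact Subgroup.map_subtype_le _
  exact jcomp_normalizes K _ Q hK.1 hK.2.1 (hT.to_le hJT) hQ1 hQ2

end Cfsg.Agent.S2941
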