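import Cfsg.Statements.S0688
-- import your own Cfsg.Agent.* helpers here
import Cfsg.Agent.Lib.Helper17.RegLinField
import Cfsg.Agent.Lib.Helper17.RegLinArith
import Cfsg.Agent.Lib.Helper17.RegLinNine
import Cfsg.Agent.Lib.Helper17.RegLinSylow
import Cfsg.Agent.Lib.Helper19.FrobSolvA

set_option autoImplicit false
set_option linter.style.haveILetI false
open Cfsg
open Cfsg.Agent.Lib.Helper29.RegLin

namespace Cfsg.Agent.S0688

/-- Degrees of the soluble exceptional sharply doubly transitive groups: if a solvable linear group over the prime field is regular on the non-zero vectors of `V` and has no irreducible cyclic normal subgroup, then `V` has 25, 49, 121 or 529 elements. -/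
theorem result {p : ℕ} [Fact p.Prime] {V : Type*} [AddCommGroup V] [Module (ZMod p) V] [Finite V] (H : Subgroup (V ≃ₗ[ZMod p] V)) (hreg : ∀ v w : V, v ≠ 0 → w ≠ 0 → ∃! h : H, (h : V ≃ₗ[ZMod p] V) v = w) (hI : ∀ A : Subgroup H, A.Normal → IsCyclic A → ∃ W : Submodule (ZMod p) V, W ≠ ⊥ ∧ W ≠ ⊤ ∧ ∀ a ∈ A, ∀ v ∈ W, ((a : H) : V ≃ₗ[ZMod p] V) v ∈ W) (hsolv : Group.IsSolvable H) : Nat.card V = 25 ∨ Nat.card V = 49 ∨ Nat.card V = 121 ∨ Nat.card V = 529 := by
  haveI : Finite (V ≃ₗ[ZMod p] V) := Finite.of_injective (fun f => (f : V → V)) DFunLike.coe_injective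
  have hreg' : ∀ v w : V, v ≠ 0 → w ≠ 0 → ∃! h : H, h • v = w := hreg
  obtain ⟨W₁, hW₁, -, -⟩ := hI ⊥ inferInstance inferInstance
  obtain ⟨v₀, -, hv₀⟩ := Submodule.exists_mem_ne_zero_of_ne_bot hW₁
  have hpp : p.Prime := Fact.out
  have hcardV : Nat.card V = p ^ Module.finrank (ZMod p) V := by
    rw [Module.natCard_eq_pow_finrank (K := ZMod p), Nat.card_zmod]
  have hH : Nat.card H + 1 = Nat.card V := card_H_add_one hreg' hv₀
  have hHpos : 0 < Nat.card H := Nat.card_pos
  have hodd : ∀ (q : ℕ) [Fact q.Prime], q ≠ 2 → ∀ P : Sylow q H, IsCyclic P :=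
    fun q _ hq2 P => Cfsg.Agent.Lib.Helper17.RegLinSylow.isCyclic_sylow_of_regular hreg' hv₀ q hq2 P
  have huniq : ∀ s t : H, orderOf s = 2 → orderOf t = 2 → s = t :=
    Cfsg.Agent.Lib.Helper17.RegLinSylow.involution_unique hreg' hv₀
  by_cases hp2 : p = 2
  · exfalso
    -- `H` has odd order, so it is a Z-group
    have hoddH : ¬ 2 ∣ Nat.card H := by
      intro h2
      have hn0 : Module.finrank (ZMod p) V ≠ 0 := by
        intro h0
        rw [h0, pow_zero] at hcardV
        omega
      have h2p : 2 ∣ p := by rw [hp2]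
      have h3 : 2 ∣ Nat.card V := by
        rw [hcardV]
        exact dvd_pow h2p hn0
      omega
    haveI hZ : IsZGroup H := by
      rw [isZGroup_iff]
      intro q hq P
      haveI : Fact q.Prime := ⟨hq⟩
      by_cases hq2 : q = 2
      · subst hq2
        obtain ⟨k, hk⟩ := IsPGroup.iff_card.mp P.isPGroup'
        have hdvd : Nat.card (P : Subgroup H) ∣ Nat.card H := Subgroup.card_subgroup_dvd_card _
        have hk0 : k = 0 := by
          by_contra hk0
          apply hoddH
          exact dvd_trans (hk ▸ dvd_pow_self 2 hk0) hdvd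
        rw [hk0, pow_zero] at hk
        haveI : Subsingleton (P : Subgroup H) := (Nat.card_eq_one_iff_unique.mp hk).1
        exact isCyclic_of_subsingleton
      · exact hodd q hq2 P
    obtain ⟨d, g, a, hd, hg1, hg, ha, hN, hsq⟩ :=
      Cfsg.Agent.Lib.Helper17.RegLinField.card_zgroup_bound hreg' hI (⊤ : Subgroup H)
    rw [Subgroup.card_top] at hN
    exact Cfsg.Agent.Lib.Helper17.RegLinArith.arith_zgroup (p := p) (P := Nat.card V) hpp.two_le hd hg ha hsq
      (by omega)
  · obtain ⟨f, hZ⟩ := Cfsg.Agent.Lib.Helper19.FrobSolv.main hodd huniq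
    haveI := hZ
    obtain ⟨d, g, a, hd, hg1, hg, ha, hN, hsq⟩ :=
      Cfsg.Agent.Lib.Helper17.RegLinField.card_zgroup_bound hreg' hI f.ker
    have hidx : f.ker.index ∣ 24 := by
      rw [Subgroup.index_ker]
      have h24 : Nat.card (Equiv.Perm (Fin 4)) = 24 := by
        rw [Nat.card_perm, Nat.card_eq_fintype_card, Fintype.card_fin]
        rfl
      rw [← h24]
      exact Subgroup.card_subgroup_dvd_card _
    have hcard : Nat.card H = f.ker.index * (g * a) := by
      rw [← hN, mul_comm, Subgroup.card_mul_index]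
    have harith := Cfsg.Agent.Lib.Helper17.RegLinArith.arith_odd hpp hp2 hd hidx hg1 hg ha (hcardV ▸ hsq)
      (by rw [← hcardV, ← hcard]; omega)
    rw [← hcardV] at harith
    rcases harith with h | h | h | h | h
    · exact (Cfsg.Agent.Lib.Helper17.RegLinNine.not_card_nine hreg' hI h).elim
    · exact Or.inl h
    · exact Or.inr (Or.inl h)
    · exact Or.inr (Or.inr (Or.inl h))
    · exact Or.inr (Or.inr (Or.inr h))

end Cfsg.Agent.S0688
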