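import Cfsg.Statements.S0728
import Mathlib

set_option autoImplicit false
open Cfsg

namespace Cfsg.Agent.S0728

section Aux

open MulAction


variable {α : Type*} [Fintype α] [DecidableEq α] (G : Subgroup (Equiv.Perm α))

lemma sharp3 (hsharp : ∀ x : Fin 3 ↪ α, MulAction.stabilizer G x = ⊥) (g : G) (u v w : α)
    (huv : u ≠ v) (huw : u ≠ w) (hvw : v ≠ w) (hu : g • u = u) (hv : g • v = v) (hw : g • w = w) :
    g = 1 := by
  have hinj : Function.Injective ![u, v, w] := by
    intro i j hij
    fin_cases i <;> fin_cases j <;> simp_all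
  let x : Fin 3 ↪ α := ⟨![u, v, w], hinj⟩
  have hg : g ∈ MulAction.stabilizer G x := by
    rw [MulAction.mem_stabilizer_iff]
    ext i
    change g • (x i) = x i
    fin_cases i
    · exact hu
    · exact hv
    · exact hw
  rw [hsharp x] at hg
  exact Subgroup.mem_bot.1 hg

/-- a non-identity element fixes at most two points -/
lemma card_fixed_le_two (hsharp : ∀ x : Fin 3 ↪ α, MulAction.stabilizer G x = ⊥) (g : G)
    (hg : g ≠ 1) : (Finset.univ.filter (fun u : α => g • u = u)).card ≤ 2 := by
  by_contra hcon
  push Not at hcon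
  obtain ⟨u, v, w, hu, hv, hw, huv, huw, hvw⟩ := Finset.two_lt_card_iff.mp hcon
  simp only [Finset.mem_filter, Finset.mem_univ, true_and] at hu hv hw
  exact hg (sharp3 G hsharp g u v w huv huw hvw hu hv hw)

/-- an element of order three moving `u` -/
lemma cube_facts (g : G) (hg3 : g ^ 3 = 1) (u : α) (hu : g • u ≠ u) :
    g • g • u ≠ g • u ∧ g • g • u ≠ u ∧ g • g • g • u = u := by
  have h3 : g • g • g • u = u := by
    rw [← mul_smul, ← mul_smul, show g * g * g = g ^ 3 by rw [pow_succ, pow_two], hg3, one_smul]
  refine ⟨fun h => hu (smul_left_cancel g h), fun h => hu ?_, h3⟩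
  rw [h] at h3
  exact h3


/-- the count: if four distinct elements of order three fix `a` and `b` we get a contradiction -/
lemma no_four (h6 : 6 ≤ Fintype.card α)
    (h3 : MulAction.IsMultiplyPretransitive G α 3)
    (hsharp : ∀ x : Fin 3 ↪ α, MulAction.stabilizer G x = ⊥) {a b : α} (hab : a ≠ b)
    (E : Finset G) (hE : 4 ≤ E.card) (he1 : ∀ i ∈ E, i ≠ 1) (he3 : ∀ i ∈ E, i ^ 3 = 1)
    (hea : ∀ i ∈ E, i • a = a) (heb : ∀ i ∈ E, i • b = b) : False := by
  classical
  have : Fintype G := Fintype.ofFinite G
  have h2 : MulAction.IsMultiplyPretransitive G α 2 := by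
    apply MulAction.isMultiplyPretransitive_of_le (n := 3) (by norm_num)
    rw [Nat.card_eq_fintype_card]
    omega
  set T : Finset G := Finset.univ.filter (fun g : G => g ≠ 1 ∧ g ^ 3 = 1) with hT
  set P : Finset (α × α) := Finset.univ.filter (fun p : α × α => p.1 ≠ p.2) with hP
  set n := Fintype.card α with hn
  -- first count
  have c1 : T.card * (n - 2) ≤ P.card * (n - 2) := by
    apply Finset.card_mul_le_card_mul (fun (g : G) (p : α × α) => g • p.1 = p.2)
    · intro g hg
      simp only [hT, Finset.mem_filter, Finset.mem_univ, true_and] at hg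
      have hfix := card_fixed_le_two G hsharp g hg.1
      have hmove : n - 2 ≤ (Finset.univ.filter (fun u : α => ¬ g • u = u)).card := by
        have := Finset.card_filter_add_card_filter_not (s := (Finset.univ : Finset α))
          (fun u : α => g • u = u)
        rw [Finset.card_univ] at this
        omega
      refine hmove.trans ?_
      apply Finset.card_le_card_of_injOn (fun u => (u, g • u))
      · intro u hu
        simp only [Finset.coe_filter, Finset.mem_univ, true_and, Set.mem_setOf_eq] at hu
        simp only [Finset.bipartiteAbove, hP, Finset.coe_filter, Finset.mem_filter,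
          Finset.mem_univ, true_and, Set.mem_setOf_eq, and_true]
        exact fun h => hu h.symm
      · intro u _ v _ huv
        exact (Prod.mk.inj huv).1
    · intro p hp
      simp only [hP, Finset.mem_filter, Finset.mem_univ, true_and] at hp
      obtain ⟨u, v⟩ := p
      simp only at hp
      have hcard : ((Finset.univ.erase u).erase v).card = n - 2 := by
        rw [Finset.card_erase_of_mem, Finset.card_erase_of_mem (Finset.mem_univ u),
          Finset.card_univ]
        · omega
        · exact Finset.mem_erase.mpr ⟨hp.symm, Finset.mem_univ v⟩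
      rw [← hcard]
      apply Finset.card_le_card_of_injOn (fun g : G => g • v)
      · intro g hg
        simp only [Finset.bipartiteBelow, hT, Finset.coe_filter, Finset.mem_filter,
          Finset.mem_univ, true_and, Set.mem_setOf_eq] at hg
        obtain ⟨⟨hg1, hg3⟩, hguv⟩ := hg
        have hgu : g • u ≠ u := by rw [hguv]; exact hp.symm
        obtain ⟨f1, f2, f3⟩ := cube_facts G g hg3 u hgu
        rw [hguv] at f1 f2
        simp only [Finset.coe_erase, Finset.coe_univ, Set.mem_diff, Set.mem_univ,
          Set.mem_singleton_iff, true_and]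
        exact ⟨f2, f1⟩
      · intro g hg g' hg' hgg'
        simp only [Finset.bipartiteBelow, hT, Finset.coe_filter, Finset.mem_filter,
          Finset.mem_univ, true_and, Set.mem_setOf_eq] at hg hg'
        obtain ⟨⟨hg1, hg3⟩, hguv⟩ := hg
        obtain ⟨⟨hg1', hg3'⟩, hguv'⟩ := hg'
        simp only at hgg'
        have hgu : g • u ≠ u := by rw [hguv]; exact hp.symm
        have hgu' : g' • u ≠ u := by rw [hguv']; exact hp.symm
        obtain ⟨f1, f2, f3⟩ := cube_facts G g hg3 u hgu
        obtain ⟨f1', f2', f3'⟩ := cube_facts G g' hg3' u hgu'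
        rw [hguv] at f1 f2 f3
        rw [hguv'] at f1' f2' f3'
        have : g'⁻¹ * g = 1 := by
          apply sharp3 G hsharp _ u v (g • v) hp f2.symm f1.symm
          · rw [mul_smul, hguv, inv_smul_eq_iff, hguv']
          · rw [mul_smul, hgg', inv_smul_smul]
          · rw [mul_smul, f3, inv_smul_eq_iff, hgg', f3']
        exact (inv_mul_eq_one.mp this).symm
  -- second count
  have c2 : P.card * 4 ≤ T.card * 2 := by
    apply Finset.card_mul_le_card_mul (fun (p : α × α) (g : G) => g • p.1 = p.1 ∧ g • p.2 = p.2)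
    · intro p hp
      simp only [hP, Finset.mem_filter, Finset.mem_univ, true_and] at hp
      obtain ⟨u, v⟩ := p
      simp only at hp
      obtain ⟨h, hha, hhb⟩ : ∃ h : G, h • a = u ∧ h • b = v :=
        MulAction.is_two_pretransitive_iff.mp h2 hab hp
      refine hE.trans ?_
      apply Finset.card_le_card_of_injOn (fun i => h * i * h⁻¹)
      · intro i hi
        simp only [Finset.bipartiteAbove, hT, Finset.coe_filter, Finset.mem_filter,
          Finset.mem_univ, true_and, Set.mem_setOf_eq]
        refine ⟨⟨?_, ?_⟩, ?_, ?_⟩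
        · intro h1
          apply he1 i hi
          have : i = h⁻¹ * (h * i * h⁻¹) * h := by group
          rw [this, h1]; group
        · rw [conj_pow, he3 i hi]; group
        · rw [mul_smul, mul_smul, ← hha, inv_smul_smul, hea i hi]
        · rw [mul_smul, mul_smul, ← hhb, inv_smul_smul, heb i hi]
      · intro i _ j _ hij
        simp only at hij
        exact mul_left_cancel (mul_right_cancel hij)
    · intro g hg
      simp only [hT, Finset.mem_filter, Finset.mem_univ, true_and] at hg
      have hfix := card_fixed_le_two G hsharp g hg.1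
      set F := Finset.univ.filter (fun u : α => g • u = u) with hF
      have hsub : Finset.bipartiteBelow (fun (p : α × α) (g : G) => g • p.1 = p.1 ∧ g • p.2 = p.2)
          P g ⊆ F.offDiag := by
        intro p hp
        simp only [Finset.bipartiteBelow, hP, Finset.mem_filter, Finset.mem_univ, true_and] at hp
        simp only [Finset.mem_offDiag, hF, Finset.mem_filter, Finset.mem_univ, true_and]
        exact ⟨hp.2.1, hp.2.2, hp.1⟩
      refine (Finset.card_le_card hsub).trans ?_
      rw [Finset.offDiag_card]
      have : F.card = 0 ∨ F.card = 1 ∨ F.card = 2 := by omega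
      rcases this with h | h | h <;> rw [h] <;> norm_num
  have hn2 : 0 < n - 2 := by omega
  have c3 : T.card ≤ P.card := Nat.le_of_mul_le_mul_right c1 hn2
  have hPpos : 0 < P.card := by
    apply Finset.card_pos.mpr
    exact ⟨(a, b), by simp only [hP, Finset.mem_filter, Finset.mem_univ, true_and]; exact hab⟩
  omega


theorem main (heven : Even (Fintype.card α)) (h6 : 6 ≤ Fintype.card α)
    (h3 : MulAction.IsMultiplyPretransitive G α 3)
    (hsharp : ∀ x : Fin 3 ↪ α, MulAction.stabilizer G x = ⊥) {a b : α} (hab : a ≠ b)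
    (A B : Subgroup G) (hA : A ≤ MulAction.stabilizer G a ⊓ MulAction.stabilizer G b)
    (hB : B ≤ MulAction.stabilizer G a ⊓ MulAction.stabilizer G b) (hA3 : Nat.card A = 3)
    (hB3 : Nat.card B = 3) : A = B := by
  classical
  by_contra hne
  have hAB : ¬ A ≤ B := fun h => hne (Subgroup.eq_of_le_of_card_ge h (by rw [hA3, hB3]))
  have hBA : ¬ B ≤ A := fun h => hne (Subgroup.eq_of_le_of_card_ge h (by rw [hA3, hB3])).symm
  obtain ⟨x, hxA, hxB⟩ := SetLike.not_le_iff_exists.mp hAB
  obtain ⟨y, hyB, hyA⟩ := SetLike.not_le_iff_exists.mp hBA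
  have hx3 : x ^ 3 = 1 := by
    have := pow_card_eq_one' (G := A) (x := ⟨x, hxA⟩)
    rw [hA3] at this
    exact congrArg Subtype.val this
  have hy3 : y ^ 3 = 1 := by
    have := pow_card_eq_one' (G := B) (x := ⟨y, hyB⟩)
    rw [hB3] at this
    exact congrArg Subtype.val this
  have hx1 : x ≠ 1 := fun h => hxB (h ▸ B.one_mem)
  have hy1 : y ≠ 1 := fun h => hyA (h ▸ A.one_mem)
  have hxx : x ≠ x⁻¹ := by
    intro h
    apply hx1
    have h2 : x ^ 2 = 1 := by rw [pow_two]; nth_rewrite 1 [h]; group
    calc x = x ^ 3 * (x ^ 2)⁻¹ := by group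
      _ = 1 := by rw [hx3, h2]; group
  have hyy : y ≠ y⁻¹ := by
    intro h
    apply hy1
    have h2 : y ^ 2 = 1 := by rw [pow_two]; nth_rewrite 1 [h]; group
    calc y = y ^ 3 * (y ^ 2)⁻¹ := by group
      _ = 1 := by rw [hy3, h2]; group
  have hxiB : x⁻¹ ∉ B := fun h => hxB (by simpa using B.inv_mem h)
  have hyiA : y⁻¹ ∉ A := fun h => hyA (by simpa using A.inv_mem h)
  have hxiA : x⁻¹ ∈ A := A.inv_mem hxA
  have hyiB : y⁻¹ ∈ B := B.inv_mem hyB
  have hxy : x ≠ y := fun h => hxB (h ▸ hyB)
  have hxyi : x ≠ y⁻¹ := fun h => hxB (h ▸ hyiB)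
  have hxiy : x⁻¹ ≠ y := fun h => hxiB (h ▸ hyB)
  have hxiyi : x⁻¹ ≠ y⁻¹ := fun h => hxiB (h ▸ hyiB)
  have hxa := Subgroup.mem_inf.mp (hA hxA)
  have hxia := Subgroup.mem_inf.mp (hA hxiA)
  have hya := Subgroup.mem_inf.mp (hB hyB)
  have hyia := Subgroup.mem_inf.mp (hB hyiB)
  apply no_four G h6 h3 hsharp hab {x, x⁻¹, y, y⁻¹}
  · rw [Finset.card_insert_of_notMem, Finset.card_insert_of_notMem, Finset.card_insert_of_notMem,
      Finset.card_singleton]
    · simpa using hyy
    · simp only [Finset.mem_insert, Finset.mem_singleton, not_or]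
      exact ⟨hxiy, hxiyi⟩
    · simp only [Finset.mem_insert, Finset.mem_singleton, not_or]
      exact ⟨hxx, hxy, hxyi⟩
  · intro i hi
    simp only [Finset.mem_insert, Finset.mem_singleton] at hi
    rcases hi with rfl | rfl | rfl | rfl
    · exact hx1
    · simpa using hx1
    · exact hy1
    · simpa using hy1
  · intro i hi
    simp only [Finset.mem_insert, Finset.mem_singleton] at hi
    rcases hi with rfl | rfl | rfl | rfl
    · exact hx3
    · rw [inv_pow, hx3, inv_one]
    · exact hy3
    · rw [inv_pow, hy3, inv_one]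
  · intro i hi
    simp only [Finset.mem_insert, Finset.mem_singleton] at hi
    rcases hi with rfl | rfl | rfl | rfl
    · exact hxa.1
    · exact hxia.1
    · exact hya.1
    · exact hyia.1
  · intro i hi
    simp only [Finset.mem_insert, Finset.mem_singleton] at hi
    rcases hi with rfl | rfl | rfl | rfl
    · exact hxa.2
    · exact hxia.2
    · exact hya.2
    · exact hyia.2


end Aux

/-- In a sharply triply transitive group of even degree at least 6 (degree `q + 1`, `q` odd), a two-point stabiliser has at most one subgroup of order 3. -/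
theorem result {α : Type*} [Fintype α] [DecidableEq α] (heven : Even (Fintype.card α)) (h6 : 6 ≤ Fintype.card α) (G : Subgroup (Equiv.Perm α)) (h3 : MulAction.IsMultiplyPretransitive G α 3) (hsharp : ∀ x : Fin 3 ↪ α, MulAction.stabilizer G x = ⊥) {a b : α} (hab : a ≠ b) (A B : Subgroup G) (hA : A ≤ MulAction.stabilizer G a ⊓ MulAction.stabilizer G b) (hB : B ≤ MulAction.stabilizer G a ⊓ MulAction.stabilizer G b) (hA3 : Nat.card A = 3) (hB3 : Nat.card B = 3) : A = B := by
  exact main G heven h6 h3 hsharp hab A B hA hB hA3 hB3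

end Cfsg.Agent.S0728
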