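import Cfsg.Statements.S0729
import Cfsg.Agent.Lib.Helper17.Sh3F

set_option autoImplicit false
open Cfsg

namespace Cfsg.Agent.S0729

/-- In a sharply triply transitive group of even degree at least 6, the two-point stabiliser `H = G_{a,b}` has a normal subgroup of index 2 that is normalised by the element `s` interchanging `a, b` and fixing a third point `c`. -/
theorem result {α : Type*} [Fintype α] [DecidableEq α] (heven : Even (Fintype.card α)) (h6 : 6 ≤ Fintype.card α) (G : Subgroup (Equiv.Perm α)) (h3 : MulAction.IsMultiplyPretransitive G α 3) (hsharp : ∀ x : Fin 3 ↪ α, MulAction.stabilizer G x = ⊥) {a b c : α} (hab : a ≠ b) (hac : a ≠ c) (hbc : b ≠ c) (s : G) (hsa : s • a = b) (hsb : s • b = a) (hsc : s • c = c) : ∃ N : Subgroup G, N ≤ MulAction.stabilizer G a ⊓ MulAction.stabilizer G b ∧ (N.subgroupOf (MulAction.stabilizer G a ⊓ MulAction.stabilizer G b)).Normal ∧ N.relIndex (MulAction.stabilizer G a ⊓ MulAction.stabilizer G b) = 2 ∧ ∀ n ∈ N, s * n * s⁻¹ ∈ N := by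
  have hS3 : Cfsg.Agent.Lib.Helper9.Sharp3 G α :=
    Cfsg.Agent.Lib.Helper9.sharp3_of_isMultiplyPretransitive h3 hsharp
  -- `s` is an involution
  have hss : s * s = 1 := by
    apply hS3.uniq hab hac hbc
    · rw [mul_smul, hsa, hsb]
    · rw [mul_smul, hsb, hsa]
    · rw [mul_smul, hsc, hsc]
  have hsinv : s⁻¹ = s := inv_eq_of_mul_eq_one_right hss
  -- `s` normalizes the two-point stabilizer
  have hnorm : ∀ h ∈ MulAction.stabilizer G a ⊓ MulAction.stabilizer G b,
      s * h * s⁻¹ ∈ MulAction.stabilizer G a ⊓ MulAction.stabilizer G b := by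
    intro h hh
    obtain ⟨ha, hb⟩ := Subgroup.mem_inf.mp hh
    rw [MulAction.mem_stabilizer_iff] at ha hb
    rw [hsinv]
    refine Subgroup.mem_inf.mpr ⟨?_, ?_⟩
    · rw [MulAction.mem_stabilizer_iff, mul_smul, mul_smul, hsa, hb, hsb]
    · rw [MulAction.mem_stabilizer_iff, mul_smul, mul_smul, hsb, ha, hsa]
  let σ : ↥(MulAction.stabilizer G a ⊓ MulAction.stabilizer G b) ≃*
      ↥(MulAction.stabilizer G a ⊓ MulAction.stabilizer G b) :=
    { toFun := fun h => ⟨s * h * s⁻¹, hnorm h h.2⟩
      invFun := fun h => ⟨s * h * s⁻¹, hnorm h h.2⟩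
      left_inv := by
        intro h
        apply Subtype.ext
        show s * (s * (h : G) * s⁻¹) * s⁻¹ = h
        rw [hsinv]
        calc s * (s * (h : G) * s) * s = (s * s) * (h : G) * (s * s) := by group
          _ = h := by rw [hss, one_mul, mul_one]
      right_inv := by
        intro h
        apply Subtype.ext
        show s * (s * (h : G) * s⁻¹) * s⁻¹ = h
        rw [hsinv]
        calc s * (s * (h : G) * s) * s = (s * s) * (h : G) * (s * s) := by group
          _ = h := by rw [hss, one_mul, mul_one]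
      map_mul' := by
        intro h k
        apply Subtype.ext
        show s * ((h : G) * (k : G)) * s⁻¹ = (s * (h : G) * s⁻¹) * (s * (k : G) * s⁻¹)
        group }
  have hσ : ∀ x, σ (σ x) = x := by
    intro h
    apply Subtype.ext
    show s * (s * (h : G) * s⁻¹) * s⁻¹ = h
    rw [hsinv]
    calc s * (s * (h : G) * s) * s = (s * s) * (h : G) * (s * s) := by group
      _ = h := by rw [hss, one_mul, mul_one]
  obtain ⟨N₀, hN₀, hN₀σ⟩ := Cfsg.Agent.Lib.Helper17.Sh3.exists_invariant_index_two σ hσ
    (Cfsg.Agent.Lib.Helper17.Sh3.exists_index_two_stab heven h6 G h3 hsharp hab)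
  have hsub : (N₀.map (MulAction.stabilizer G a ⊓ MulAction.stabilizer G b).subtype).subgroupOf
      (MulAction.stabilizer G a ⊓ MulAction.stabilizer G b) = N₀ :=
    Subgroup.comap_map_eq_self_of_injective (Subgroup.subtype_injective _) N₀
  refine ⟨N₀.map (MulAction.stabilizer G a ⊓ MulAction.stabilizer G b).subtype,
    Subgroup.map_subtype_le _, ?_, ?_, ?_⟩
  · rw [hsub]
    exact Subgroup.normal_of_index_eq_two hN₀
  · unfold Subgroup.relIndex
    rw [hsub]
    exact hN₀
  · rintro _ ⟨n, hn, rfl⟩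
    exact ⟨σ n, hN₀σ n hn, rfl⟩

end Cfsg.Agent.S0729
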