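import Cfsg.Statements.S3012
-- import your own Cfsg.Agent.* helpers here

set_option autoImplicit false
open Cfsg

namespace Cfsg.Agent.S3012

/-- Let G be a finite group, V a nontrivial elementary abelian 2-subgroup of G satisfying the Sidki pair condition (every odd-order element inverted by an element of V commutes with a nontrivial element of V), and K a normal subgroup of G with V ∩ K = 1. Then the image of V in G/K satisfies the Sidki pair condition in G/K. -/
theorem result {G : Type*} [Group G] [Finite G] (V K : Subgroup G) [K.Normal] (hV : Cfsg.IsElementaryAbelian 2 V) (hV1 : V ≠ ⊥) (hS : Cfsg.IsSidkiPair V) (hVK : V ⊓ K = ⊥) : Cfsg.IsSidkiPair (V.map (QuotientGroup.mk' K)) := by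
  intro hbar vbar hvbar hodd hinv
  obtain ⟨v, hvV, rfl⟩ := hvbar
  obtain ⟨h, rfl⟩ := QuotientGroup.mk'_surjective K hbar
  have hv2 : v * v = 1 := by
    have := hV.2 v hvV
    rwa [pow_two] at this
  have hvinv : v⁻¹ = v := inv_eq_of_mul_eq_one_right hv2
  -- a = [h, v] is inverted by v
  set a : G := h * v * h⁻¹ * v⁻¹ with ha
  have hainv : v * a * v⁻¹ = a⁻¹ := by
    rw [ha, hvinv]
    have : (h * v * h⁻¹ * v)⁻¹ = v * h * v * h⁻¹ := by
      rw [mul_inv_rev, mul_inv_rev, mul_inv_rev, inv_inv, hvinv]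
      simp [mul_assoc]
    rw [this]
    calc v * (h * v * h⁻¹ * v) * v = v * h * v * h⁻¹ * (v * v) := by simp [mul_assoc]
      _ = v * h * v * h⁻¹ := by rw [hv2, mul_one]
  -- image of a is hbar ^ 2
  have hamk : (QuotientGroup.mk' K a) = (QuotientGroup.mk' K h) ^ 2 := by
    have h1 : QuotientGroup.mk' K a =
        QuotientGroup.mk' K h * (QuotientGroup.mk' K v * QuotientGroup.mk' K h * (QuotientGroup.mk' K v)⁻¹)⁻¹ := by
      rw [ha]
      simp only [map_mul, map_inv, mul_inv_rev, inv_inv, mul_assoc]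
    rw [h1, hinv, inv_inv, pow_two]
  -- pass to the odd part of a
  have hapos : orderOf a ≠ 0 := (orderOf_pos a).ne'
  obtain ⟨k, m, hm, hkm⟩ := Nat.exists_eq_two_pow_mul_odd hapos
  have hordk : orderOf (a ^ (2 ^ k)) = m := by
    rw [orderOf_pow_of_dvd (pow_ne_zero _ (by norm_num)) (by rw [hkm]; exact dvd_mul_right _ _), hkm,
      Nat.mul_div_cancel_left _ (pow_pos (by norm_num) _)]
  have hinvk : v * (a ^ (2 ^ k)) * v⁻¹ = (a ^ (2 ^ k))⁻¹ := by
    rw [← inv_pow, ← hainv, conj_pow]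
  obtain ⟨w, hwV, hw1, hwc⟩ := hS (a ^ (2 ^ k)) v hvV (by rw [hordk]; exact hm) hinvk
  refine ⟨QuotientGroup.mk' K w, ⟨w, hwV, rfl⟩, ?_, ?_⟩
  · intro hw
    apply hw1
    have hwK : w ∈ K := by
      rw [← QuotientGroup.ker_mk' K]
      exact hw
    have : w ∈ V ⊓ K := ⟨hwV, hwK⟩
    rw [hVK] at this
    exact (Subgroup.mem_bot.1 this)
  · -- mk w commutes with hbar^(2^(k+1)), hence with hbar
    have hc1 : Commute (QuotientGroup.mk' K w) ((QuotientGroup.mk' K h) ^ (2 ^ (k + 1))) := by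
      have : (QuotientGroup.mk' K h) ^ (2 ^ (k + 1)) = QuotientGroup.mk' K (a ^ (2 ^ k)) := by
        rw [map_pow, hamk, ← pow_mul, pow_succ, mul_comm]
      rw [this]
      show QuotientGroup.mk' K w * QuotientGroup.mk' K (a ^ (2 ^ k)) = QuotientGroup.mk' K (a ^ (2 ^ k)) * QuotientGroup.mk' K w
      rw [← map_mul, ← map_mul, hwc]
    have hcop : (2 ^ (k + 1)).Coprime (orderOf (QuotientGroup.mk' K h)) := by
      apply Nat.Coprime.pow_left
      exact Nat.coprime_two_left.2 hodd
    obtain ⟨j, hj⟩ := exists_pow_eq_self_of_coprime hcop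
    have hc2 := hc1.pow_right j
    rw [hj] at hc2
    exact hc2

end Cfsg.Agent.S3012
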