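import Cfsg.Statements.S4062
-- import your own Cfsg.Agent.* helpers here
import Mathlib
import Cfsg.Agent.Lib.Helper1.MinNormal

set_option autoImplicit false
open Cfsg

namespace Cfsg.Agent.S4062


open Cfsg.Agent.Lib.Helper1

/-- elements of the same order are conjugate -/
def SOC (G : Type*) [Group G] : Prop := ∀ x y : G, orderOf x = orderOf y → IsConj x y

section basics
variable {G : Type*} [Group G]

theorem index_centralizer_eq (x : G) :
    (Subgroup.centralizer ({x} : Set G)).index = {y : G | IsConj y x}.ncard := by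
  have h1 := Subgroup.index_comap_of_surjective (MulAction.stabilizer (ConjAct G) x)
    (f := (ConjAct.toConjAct (G := G)).toMonoidHom) (ConjAct.toConjAct (G := G)).surjective
  have h0 : (Subgroup.centralizer ({x} : Set G)).index =
      (MulAction.stabilizer (ConjAct G) x).index := by
    rw [Subgroup.centralizer_eq_comap_stabilizer]
    exact h1
  rw [h0, MulAction.index_stabilizer]
  congr 1
  ext h
  exact ConjAct.mem_orbit_conjAct

/-- extended centralizer: elements conjugating `x` to `x` or `x⁻¹` -/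
def extCent (x : G) : Subgroup G where
  carrier := {h | h * x * h⁻¹ = x ∨ h * x * h⁻¹ = x⁻¹}
  one_mem' := Or.inl (by group)
  mul_mem' := by
    rintro h k (hh | hh) (hk | hk)
    · left
      calc h * k * x * (h * k)⁻¹ = h * (k * x * k⁻¹) * h⁻¹ := by group
        _ = x := by rw [hk, hh]
    · right
      calc h * k * x * (h * k)⁻¹ = h * (k * x * k⁻¹) * h⁻¹ := by group
        _ = (h * x * h⁻¹)⁻¹ := by rw [hk]; group
        _ = x⁻¹ := by rw [hh]
    · right
      calc h * k * x * (h * k)⁻¹ = h * (k * x * k⁻¹) * h⁻¹ := by group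
        _ = x⁻¹ := by rw [hk, hh]
    · left
      calc h * k * x * (h * k)⁻¹ = h * (k * x * k⁻¹) * h⁻¹ := by group
        _ = (h * x * h⁻¹)⁻¹ := by rw [hk]; group
        _ = x := by rw [hh, inv_inv]
  inv_mem' := by
    rintro h (hh | hh)
    · left
      calc h⁻¹ * x * h⁻¹⁻¹ = h⁻¹ * (h * x * h⁻¹) * h⁻¹⁻¹ := by rw [hh]
        _ = x := by group
    · right
      have h1 : (h * x * h⁻¹)⁻¹ = x⁻¹⁻¹ := by rw [hh]
      rw [inv_inv] at h1
      have h2 : h * x⁻¹ * h⁻¹ = x := by
        have h3 : (h * x * h⁻¹)⁻¹ = h * x⁻¹ * h⁻¹ := by group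
        rw [← h3]; exact h1
      calc h⁻¹ * x * h⁻¹⁻¹ = h⁻¹ * (h * x⁻¹ * h⁻¹) * h⁻¹⁻¹ := by rw [h2]
        _ = x⁻¹ := by group

/-- if `x` is conjugate to `x⁻¹ ≠ x` then its class has even size -/
theorem two_dvd_index_centralizer (x : G) (hx : x ≠ x⁻¹) (hc : IsConj x x⁻¹) :
    2 ∣ (Subgroup.centralizer ({x} : Set G)).index := by
  obtain ⟨g, hg⟩ := isConj_iff.1 hc
  have hle : Subgroup.centralizer ({x} : Set G) ≤ extCent x := by
    intro h hh
    left
    have := Subgroup.mem_centralizer_iff.1 hh x rfl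
    rw [← this]; group
  have hmem : ∀ h : G, h ∈ Subgroup.centralizer ({x} : Set G) ↔ h * x * h⁻¹ = x := by
    intro h
    rw [Subgroup.mem_centralizer_iff]
    constructor
    · intro hh
      rw [← hh x rfl]; group
    · intro hh y hy
      rw [Set.mem_singleton_iff.1 hy]
      calc x * h = (h * x * h⁻¹) * h := by rw [hh]
        _ = h * x := by group
  have h2 : (Subgroup.centralizer ({x} : Set G)).relIndex (extCent x) = 2 := by
    rw [Subgroup.relIndex_eq_two_iff]
    refine ⟨g, Or.inr hg, ?_⟩
    intro b hb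
    have hbg : b * g * x * (b * g)⁻¹ = (b * x * b⁻¹)⁻¹ := by
      calc b * g * x * (b * g)⁻¹ = b * (g * x * g⁻¹) * b⁻¹ := by group
        _ = (b * x * b⁻¹)⁻¹ := by rw [hg]; group
    rcases hb with hb | hb
    · refine Or.inr ⟨(hmem b).2 hb, ?_⟩
      rw [hmem, hbg, hb]
      exact fun h => hx h.symm
    · refine Or.inl ⟨?_, ?_⟩
      · rw [hmem, hbg, hb, inv_inv]
      · rw [hmem, hb]
        exact fun h => hx h.symm
  rw [← Subgroup.relIndex_mul_index hle, h2]
  exact dvd_mul_right _ _

/-- a commutative group with `SOC` has order at most 2 -/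
theorem card_le_two_of_comm [Finite G] (hS : SOC G) (hc : ∀ a b : G, a * b = b * a) :
    Nat.card G ≤ 2 := by
  classical
  have heq : ∀ x y : G, orderOf x = orderOf y → x = y := by
    intro x y h
    obtain ⟨c, hc'⟩ := isConj_iff.1 (hS x y h)
    rw [← hc', hc c x]; group
  have hinv : ∀ x : G, x⁻¹ = x := fun x => heq _ _ (orderOf_inv x)
  have hsq : ∀ x : G, x ^ 2 = 1 := by
    intro x
    rw [pow_two]
    nth_rewrite 1 [← hinv x]
    exact inv_mul_cancel x
  have hne : ∀ x y : G, x ≠ 1 → y ≠ 1 → x = y := by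
    intro x y hx hy
    apply heq
    rw [orderOf_eq_prime (hsq x) hx, orderOf_eq_prime (hsq y) hy]
  by_contra hlt
  push Not at hlt
  haveI : Fintype G := Fintype.ofFinite G
  rw [Nat.card_eq_fintype_card] at hlt
  obtain ⟨a, b, c, hab, hac, hbc⟩ := Fintype.two_lt_card_iff.1 hlt
  by_cases ha : a = 1
  · apply hbc
    exact hne b c (fun h => hab (ha.trans h.symm)) (fun h => hac (ha.trans h.symm))
  · by_cases hb : b = 1
    · exact hac (hne a c ha (fun h => hbc (hb.trans h.symm)))
    · exact hab (hne a b ha hb)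

end basics

section quot
variable {G : Type*} [Group G] [Finite G]

theorem exists_lift (N : Subgroup G) [N.Normal] (r : ℕ) (hr : r.Prime)
    (hN : ∀ g : G, g ∈ N ↔ g ^ r = 1) (z : G) :
    ∃ z' : G, (z' : G ⧸ N) = (z : G ⧸ N) ∧
      orderOf z' = if r ∣ orderOf (z : G ⧸ N) then orderOf (z : G ⧸ N) * r
        else orderOf (z : G ⧸ N) := by
  set m := orderOf (z : G ⧸ N) with hm
  have hmpos : 0 < m := orderOf_pos _
  have h1 : z ^ m ∈ N := by
    rw [← QuotientGroup.eq_one_iff, QuotientGroup.mk_pow, hm, pow_orderOf_eq_one]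
  have h2 : z ^ (m * r) = 1 := by rw [pow_mul]; exact (hN _).1 h1
  have h3 : ∀ w : G, orderOf (w : G ⧸ N) ∣ orderOf w := by
    intro w
    apply orderOf_dvd_of_pow_eq_one
    rw [← QuotientGroup.mk_pow, pow_orderOf_eq_one, QuotientGroup.mk_one]
  by_cases hrm : r ∣ m
  · refine ⟨z, rfl, ?_⟩
    rw [if_pos hrm]
    have h4 : orderOf z ∣ m * r := orderOf_dvd_of_pow_eq_one h2
    obtain ⟨d, hd⟩ := h3 z
    rw [← hm] at hd
    have h5 : d ∣ r := by
      rw [hd] at h4
      exact (Nat.mul_dvd_mul_iff_left hmpos).1 h4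
    rcases (Nat.dvd_prime hr).1 h5 with h6 | h6
    · exfalso
      rw [h6, mul_one] at hd
      obtain ⟨m', hm'⟩ := hrm
      have h7 : (z ^ m') ^ r = 1 := by
        rw [← pow_mul, mul_comm, ← hm', ← hd, pow_orderOf_eq_one]
      have h8 : z ^ m' ∈ N := (hN _).2 h7
      have h9 : (z : G ⧸ N) ^ m' = 1 := by
        rw [← QuotientGroup.mk_pow]; exact (QuotientGroup.eq_one_iff _).2 h8
      have h10 : m ∣ m' := orderOf_dvd_of_pow_eq_one h9
      have h11 : 0 < m' := by
        rcases Nat.eq_zero_or_pos m' with h | h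
        · rw [h, mul_zero] at hm'; omega
        · exact h
      have h12 := Nat.le_of_dvd h11 h10
      have h13 : 2 ≤ r := hr.two_le
      nlinarith
    · rw [hd, h6]
  · rw [if_neg hrm]
    by_cases hm1 : m = 1
    · refine ⟨1, ?_, ?_⟩
      · have : (z : G ⧸ N) = 1 := orderOf_eq_one_iff.1 (hm.symm.trans hm1)
        rw [this, QuotientGroup.mk_one]
      · rw [orderOf_one, hm1]
    · have hm2 : 1 < m := by omega
      have hcop : Nat.Coprime r m := (Nat.Prime.coprime_iff_not_dvd hr).2 hrm
      obtain ⟨s, -, hs⟩ := Nat.exists_mul_mod_eq_one_of_coprime hcop hm2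
      have h4 : ((z ^ (r * s) : G) : G ⧸ N) = (z : G ⧸ N) := by
        rw [QuotientGroup.mk_pow, ← pow_mod_orderOf, ← hm, hs, pow_one]
      refine ⟨z ^ (r * s), h4, ?_⟩
      apply Nat.dvd_antisymm
      · apply orderOf_dvd_of_pow_eq_one
        rw [← pow_mul, mul_comm (r * s) m, ← mul_assoc, pow_mul, h2, one_pow]
      · have := h3 (z ^ (r * s))
        rwa [h4, ← hm] at this

theorem soc_quotient (hS : SOC G) (N : Subgroup G) [N.Normal] (r : ℕ) (hr : r.Prime)
    (hN : ∀ g : G, g ∈ N ↔ g ^ r = 1) : SOC (G ⧸ N) := by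
  intro X Y hXY
  obtain ⟨x, rfl⟩ := QuotientGroup.mk_surjective X
  obtain ⟨y, rfl⟩ := QuotientGroup.mk_surjective Y
  obtain ⟨x', hx1, hx2⟩ := exists_lift N r hr hN x
  obtain ⟨y', hy1, hy2⟩ := exists_lift N r hr hN y
  have h1 : orderOf x' = orderOf y' := by
    rw [hx2, hy2]
    have : orderOf (QuotientGroup.mk x : G ⧸ N) = orderOf (QuotientGroup.mk y : G ⧸ N) := hXY
    rw [this]
  have h2 := hS x' y' h1
  have h3 := (QuotientGroup.mk' N).map_isConj h2
  have e1 : (QuotientGroup.mk' N) x' = (x : G ⧸ N) := hx1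
  have e2 : (QuotientGroup.mk' N) y' = (y : G ⧸ N) := hy1
  rw [e1, e2] at h3
  exact h3

end quot

section six
variable {G : Type*} [Group G] [Finite G]

/-- a non-commutative group of order 6 is isomorphic to `S₃` -/
theorem equiv_perm_three (hcard : Nat.card G = 6) (a b : G) (hab : a * b ≠ b * a) :
    Nonempty (G ≃* Equiv.Perm (Fin 3)) := by
  classical
  haveI : Fact (Nat.Prime 2) := ⟨Nat.prime_two⟩
  obtain ⟨t, ht⟩ := exists_prime_orderOf_dvd_card' (G := G) 2 (by rw [hcard]; norm_num)
  set H := Subgroup.zpowers t with hH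
  have hHc : Nat.card H = 2 := by rw [hH, Nat.card_zpowers, ht]
  have hidx : H.index = 3 := by
    have := H.card_mul_index
    rw [hHc, hcard] at this
    omega
  have ht1 : t ≠ 1 := by
    intro h
    rw [h, orderOf_one] at ht
    omega
  have htH : t ∈ H := Subgroup.mem_zpowers t
  -- elements of `H`
  have hHelts : ∀ g ∈ H, g ≠ 1 → g = t := by
    intro g hg hg1
    obtain ⟨u, hu1, hu2⟩ := (Nat.card_eq_two_iff' (1 : H)).1 hHc
    have e1 := hu2 ⟨g, hg⟩ (fun h => hg1 (congrArg Subtype.val h))
    have e2 := hu2 ⟨t, htH⟩ (fun h => ht1 (congrArg Subtype.val h))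
    exact congrArg Subtype.val (e1.trans e2.symm)
  -- the core is trivial
  have hcore : H.normalCore = ⊥ := by
    by_contra hne
    have h1 : Nat.card H.normalCore ∣ 2 := by
      rw [← hHc]; exact Subgroup.card_dvd_of_le H.normalCore_le
    have h2 : Nat.card H.normalCore ≠ 1 := fun h => hne (Subgroup.card_eq_one.1 h)
    have h3 : Nat.card H.normalCore = 2 := by
      rcases (Nat.dvd_prime Nat.prime_two).1 h1 with h | h
      · exact absurd h h2
      · exact h
    have h4 : H.normalCore = H :=
      Subgroup.eq_of_le_of_card_ge H.normalCore_le (by rw [h3, hHc])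
    have hHn : H.Normal := h4 ▸ Subgroup.normalCore_normal H
    -- `t` is central
    have htc : H ≤ Subgroup.center G := by
      intro g hg
      rw [Subgroup.mem_center_iff]
      intro c
      by_cases hg1 : g = 1
      · rw [hg1, mul_one, one_mul]
      · have h5 : c * g * c⁻¹ ∈ H := hHn.conj_mem g hg c
        have h6 : c * g * c⁻¹ ≠ 1 := by
          intro h
          apply hg1
          have : g = c⁻¹ * (c * g * c⁻¹) * c := by group
          rw [this, h]; group
        have h7 : c * g * c⁻¹ = g := (hHelts _ h5 h6).trans (hHelts g hg hg1).symm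
        calc c * g = (c * g * c⁻¹) * c := by group
          _ = g * c := by rw [h7]
    haveI : Fact (Nat.Prime 3) := ⟨Nat.prime_three⟩
    haveI : IsCyclic (G ⧸ H) := isCyclic_of_prime_card (p := 3) (by
      rw [← hidx]; rfl)
    apply hab
    have hcm : IsMulCommutative G :=
      MonoidHom.isMulCommutative_of_isCyclic_of_ker_le_center (QuotientGroup.mk' H)
        (by rw [QuotientGroup.ker_mk']; exact htc)
    exact hcm.is_comm.comm a b
  set φ := MulAction.toPermHom G (G ⧸ H) with hφ
  have hker : φ.ker = ⊥ := by rw [hφ, ← Subgroup.normalCore_eq_ker, hcore]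
  have hinj : Function.Injective φ := (MonoidHom.ker_eq_bot_iff φ).1 hker
  haveI : Fintype (G ⧸ H) := Fintype.ofFinite _
  have hc3 : Fintype.card (G ⧸ H) = 3 := by
    rw [← Nat.card_eq_fintype_card]; exact hidx
  have hcp : Nat.card (Equiv.Perm (G ⧸ H)) = 6 := by
    rw [Nat.card_eq_fintype_card, Fintype.card_perm, hc3]; rfl
  have hbij : Function.Bijective φ :=
    hinj.bijective_of_nat_card_le (by rw [hcp, hcard])
  have e : G ⧸ H ≃ Fin 3 := Finite.equivFinOfCardEq hidx
  exact ⟨(MulEquiv.ofBijective φ hbij).trans e.permCongrHom⟩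

end six

section main

/-- the three bad cases for the prime `2` and `3` -/
theorem case_three {G : Type*} [Group G] [Finite G] (hS : SOC G) (hcard : Nat.card G = 18)
    (t : G) (ht : orderOf t = 9) : False := by
  classical
  have h1 : Subgroup.zpowers t ≤ Subgroup.centralizer ({t} : Set G) := by
    rw [Subgroup.zpowers_le, Subgroup.mem_centralizer_iff]
    intro h hh
    rw [Set.mem_singleton_iff.1 hh]
  have h2 : (Subgroup.centralizer ({t} : Set G)).index ∣ (Subgroup.zpowers t).index :=
    Subgroup.index_dvd_of_le h1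
  have h3 : (Subgroup.zpowers t).index = 2 := by
    have := (Subgroup.zpowers t).card_mul_index
    rw [Nat.card_zpowers, ht, hcard] at this
    omega
  rw [h3] at h2
  have h4 : (Subgroup.centralizer ({t} : Set G)).index ≤ 2 := Nat.le_of_dvd (by norm_num) h2
  rw [index_centralizer_eq] at h4
  have ho2 : orderOf (t ^ 2) = 9 := by
    rw [Nat.Coprime.orderOf_pow (by rw [ht]; decide), ht]
  have ho4 : orderOf (t ^ 4) = 9 := by
    rw [Nat.Coprime.orderOf_pow (by rw [ht]; decide), ht]
  have hsub : ((({t, t ^ 2, t ^ 4} : Finset G)) : Set G) ⊆ {y : G | IsConj y t} := by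
    intro y hy
    rw [Finset.mem_coe] at hy
    show IsConj y t
    simp only [Finset.mem_insert, Finset.mem_singleton] at hy
    rcases hy with rfl | rfl | rfl
    · exact IsConj.refl _
    · exact hS _ _ (ho2.trans ht.symm)
    · exact hS _ _ (ho4.trans ht.symm)
  have hinj : ∀ i j : ℕ, i < 9 → j < 9 → t ^ i = t ^ j → i = j := by
    intro i j hi hj h
    have := (pow_inj_mod (x := t)).1 h
    rw [ht, Nat.mod_eq_of_lt hi, Nat.mod_eq_of_lt hj] at this
    exact this
  have hcard3 : ({t, t ^ 2, t ^ 4} : Finset G).card = 3 := by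
    rw [Finset.card_insert_of_notMem, Finset.card_insert_of_notMem, Finset.card_singleton]
    · intro h
      have := hinj 2 4 (by norm_num) (by norm_num) (Finset.mem_singleton.1 h)
      omega
    · intro h
      simp only [Finset.mem_insert, Finset.mem_singleton] at h
      rcases h with h | h
      · have := hinj 1 2 (by norm_num) (by norm_num) (by rw [pow_one]; exact h)
        omega
      · have := hinj 1 4 (by norm_num) (by norm_num) (by rw [pow_one]; exact h)
        omega
  have h5 := Set.ncard_le_ncard hsub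
  rw [Set.ncard_coe_finset, hcard3] at h5
  omega

theorem case_two_small {G : Type*} [Group G] [Finite G] (hS : SOC G) (hcard : Nat.card G = 12)
    (t : G) (ht : orderOf t = 4) : False := by
  have htinv : t ≠ t⁻¹ := by
    intro h
    have h1 : t ^ 2 = 1 := by
      rw [pow_two]
      nth_rewrite 2 [h]
      exact mul_inv_cancel t
    have := orderOf_dvd_of_pow_eq_one h1
    rw [ht] at this
    omega
  have h0 := two_dvd_index_centralizer t htinv (hS _ _ (orderOf_inv t).symm)
  have h1 : Subgroup.zpowers t ≤ Subgroup.centralizer ({t} : Set G) := by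
    rw [Subgroup.zpowers_le, Subgroup.mem_centralizer_iff]
    intro h hh
    rw [Set.mem_singleton_iff.1 hh]
  have h2 : (Subgroup.centralizer ({t} : Set G)).index ∣ (Subgroup.zpowers t).index :=
    Subgroup.index_dvd_of_le h1
  have h3 : (Subgroup.zpowers t).index = 3 := by
    have := (Subgroup.zpowers t).card_mul_index
    rw [Nat.card_zpowers, ht, hcard] at this
    omega
  rw [h3] at h2
  have := h0.trans h2
  omega

end main

section cases
variable {G : Type*} [Group G] [Finite G]

theorem case_two_big (hS : SOC G) (hcard : Nat.card G = 24) (N : Subgroup G) [hNn : N.Normal]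
    (hN : ∀ g : G, g ∈ N ↔ g ^ 2 = 1) (hNcard : Nat.card N = 4)
    (hNc : ∀ a ∈ N, ∀ b ∈ N, a * b = b * a) (t : G) (htN : t ∉ N) (ht2 : t ^ 2 ∈ N) : False := by
  classical
  have hz1 : t ^ 2 ≠ 1 := fun h => htN ((hN t).2 h)
  have ht4 : t ^ 4 = 1 := by
    have := (hN _).1 ht2
    rw [← pow_mul] at this
    exact this
  have hot : orderOf t = 4 := by
    have := orderOf_eq_prime_pow (p := 2) (n := 1) (x := t) (by simpa using hz1) (by simpa using ht4)
    simpa using this
  have hinvN : ∀ a ∈ N, a⁻¹ = a := by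
    intro a ha
    have h1 := (hN a).1 ha
    rw [pow_two] at h1
    exact inv_eq_of_mul_eq_one_left h1
  -- `t` centralizes `N`
  have hcent : ∀ n ∈ N, t * n = n * t := by
    by_contra hcon
    push Not at hcon
    obtain ⟨n, hn, hne⟩ := hcon
    set n' := t * n * t⁻¹ with hn'
    have hn'N : n' ∈ N := hNn.conj_mem n hn t
    have hnn' : n' ≠ n := by
      intro h
      apply hne
      calc t * n = (t * n * t⁻¹) * t := by group
        _ = n * t := by rw [← hn', h]
    set z := t ^ 2 with hz
    have hzt : t * z = z * t := by rw [hz, ← pow_succ', ← pow_succ]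
    set c := n * n' with hc
    have hcN : c ∈ N := N.mul_mem hn hn'N
    have hc1 : c ≠ 1 := by
      intro h
      apply hnn'
      have : n' = n⁻¹ := by
        rw [hc] at h
        exact (inv_eq_of_mul_eq_one_right h).symm
      rw [this, hinvN n hn]
    have hct : t * c = c * t := by
      have h1 : t * n' * t⁻¹ = z * n * z⁻¹ := by rw [hn', hz, pow_two]; group
      have h2 : z * n * z⁻¹ = n := by rw [hNc z ht2 n hn]; group
      have h3 : t * c * t⁻¹ = c := by
        calc t * c * t⁻¹ = (t * n * t⁻¹) * (t * n' * t⁻¹) := by rw [hc]; group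
          _ = n' * n := by rw [h1, h2]
          _ = c := by rw [hc, hNc n' hn'N n hn]
      calc t * c = (t * c * t⁻¹) * t := by group
        _ = c * t := by rw [h3]
    set D := N ⊓ Subgroup.centralizer ({t} : Set G) with hD
    have hmemD : ∀ g : G, g ∈ D ↔ g ∈ N ∧ t * g = g * t := by
      intro g
      rw [hD, Subgroup.mem_inf, Subgroup.mem_centralizer_iff]
      constructor
      · rintro ⟨h1, h2⟩
        exact ⟨h1, h2 t rfl⟩
      · rintro ⟨h1, h2⟩
        refine ⟨h1, fun h hh => ?_⟩
        rw [Set.mem_singleton_iff.1 hh]; exact h2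
    have hzD : z ∈ D := (hmemD z).2 ⟨ht2, hzt⟩
    have hcD : c ∈ D := (hmemD c).2 ⟨hcN, hct⟩
    have hnD : n ∉ D := fun h => hne ((hmemD n).1 h).2
    have hDN : D ≤ N := inf_le_left
    have hDcard : Nat.card D = 2 := by
      have h1 : Nat.card D ∣ 2 ^ 2 := by
        have := Subgroup.card_dvd_of_le hDN
        rw [hNcard] at this
        exact this
      obtain ⟨j, hj, hj2⟩ := (Nat.dvd_prime_pow Nat.prime_two).1 h1
      interval_cases j
      · exfalso
        rw [pow_zero] at hj2
        have := Subgroup.card_eq_one.1 hj2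
        rw [this] at hzD
        exact hz1 (Subgroup.mem_bot.1 hzD)
      · simpa using hj2
      · exfalso
        have h2 : D = N := Subgroup.eq_of_le_of_card_ge hDN (by rw [hj2, hNcard]; norm_num)
        rw [h2] at hnD
        exact hnD hn
    have hcz : c = z := by
      obtain ⟨u, -, hu2⟩ := (Nat.card_eq_two_iff' (1 : D)).1 hDcard
      have e1 := hu2 ⟨c, hcD⟩ (fun h => hc1 (congrArg Subtype.val h))
      have e2 := hu2 ⟨z, hzD⟩ (fun h => hz1 (congrArg Subtype.val h))
      exact congrArg Subtype.val (e1.trans e2.symm)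
    have hsq : (t * n) ^ 2 = 1 := by
      have h1 : z * n = n * z := hNc z ht2 n hn
      have h2 : n' * n = c := by rw [hc, hNc n' hn'N n hn]
      calc (t * n) ^ 2 = (t * n * t⁻¹) * (t ^ 2 * n) := by rw [pow_two]; group
        _ = n' * (n * z) := by rw [← hn', ← hz, h1]
        _ = (n' * n) * z := by group
        _ = z * z := by rw [h2, hcz]
        _ = t ^ 4 := by rw [hz, ← pow_add]
        _ = 1 := ht4
    have htnN : t * n ∈ N := (hN _).2 hsq
    apply htN
    have : t = (t * n) * n⁻¹ := by group
    rw [this]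
    exact N.mul_mem htnN (N.inv_mem hn)
  -- a subgroup of order 8 in the centralizer
  have hP1 : IsPGroup 2 (Subgroup.zpowers t) := by
    apply IsPGroup.of_card (n := 2)
    rw [Nat.card_zpowers, hot]; norm_num
  have hP2 : IsPGroup 2 N := by
    apply IsPGroup.of_card (n := 2)
    rw [hNcard]; norm_num
  have hPK : IsPGroup 2 (Subgroup.zpowers t ⊔ N : Subgroup G) := hP1.to_sup_of_normal_right hP2
  set K := Subgroup.zpowers t ⊔ N with hK
  obtain ⟨j, hj⟩ := IsPGroup.iff_card.1 hPK
  have hKdvd : Nat.card K ∣ 24 := hcard ▸ Subgroup.card_subgroup_dvd_card K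
  have hNK : N ≤ K := le_sup_right
  have htK : t ∈ K := (le_sup_left : Subgroup.zpowers t ≤ K) (Subgroup.mem_zpowers t)
  have hK4 : 4 < Nat.card K := by
    by_contra hle
    push Not at hle
    have : N = K := Subgroup.eq_of_le_of_card_ge hNK (by rw [hNcard]; exact hle)
    apply htN
    rw [this]; exact htK
  have hK8 : Nat.card K = 8 := by
    rw [hj] at hKdvd hK4 ⊢
    have hj3 : j ≤ 3 := by
      by_contra h
      push Not at h
      have h16 : 2 ^ 4 ∣ 2 ^ j := Nat.pow_dvd_pow 2 h
      have := h16.trans hKdvd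
      norm_num at this
    interval_cases j <;> simp_all
  have hKidx : K.index = 3 := by
    have := K.card_mul_index
    rw [hK8, hcard] at this
    omega
  have hKC : K ≤ Subgroup.centralizer ({t} : Set G) := by
    rw [hK, sup_le_iff]
    constructor
    · rw [Subgroup.zpowers_le, Subgroup.mem_centralizer_iff]
      intro h hh
      rw [Set.mem_singleton_iff.1 hh]
    · intro n hn
      rw [Subgroup.mem_centralizer_iff]
      intro h hh
      rw [Set.mem_singleton_iff.1 hh]
      exact hcent n hn
  have h2 : (Subgroup.centralizer ({t} : Set G)).index ∣ 3 := hKidx ▸ Subgroup.index_dvd_of_le hKC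
  have htinv : t ≠ t⁻¹ := by
    intro h
    apply hz1
    rw [pow_two]
    nth_rewrite 2 [h]
    exact mul_inv_cancel t
  have h0 := two_dvd_index_centralizer t htinv (hS _ _ (orderOf_inv t).symm)
  have := h0.trans h2
  omega

omit [Finite G] in
theorem case_seven (N : Subgroup G) [hNn : N.Normal] (hNcard : Nat.card N = 7) (x : G) (hxN : x ∈ N)
    (hC : Subgroup.centralizer ({x} : Set G) ≤ N) (a b : G ⧸ N) : a * b = b * a := by
  classical
  obtain ⟨g, rfl⟩ := QuotientGroup.mk_surjective a
  obtain ⟨h, rfl⟩ := QuotientGroup.mk_surjective b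
  haveI : Fact (Nat.Prime 7) := ⟨by norm_num⟩
  haveI : IsCyclic N := isCyclic_of_prime_card (p := 7) hNcard
  have hcomm : ∀ σ τ : MulAut N, σ * τ = τ * σ := by
    intro σ τ
    apply (IsCyclic.mulAutMulEquiv N).injective
    rw [map_mul, map_mul, mul_comm]
  have h1 := hcomm (MulAut.conjNormal g) (MulAut.conjNormal h)
  have h2 := congrArg (fun σ : MulAut N => ((σ ⟨x, hxN⟩ : N) : G)) h1
  simp only [MulAut.mul_apply, MulAut.conjNormal_apply] at h2
  rw [← QuotientGroup.mk_mul, ← QuotientGroup.mk_mul, QuotientGroup.eq]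
  apply hC
  rw [Subgroup.mem_centralizer_iff]
  intro y hy
  rw [Set.mem_singleton_iff.1 hy]
  -- h2 : g * (h * x * h⁻¹) * g⁻¹ = h * (g * x * g⁻¹) * h⁻¹
  have h3 : x = (g * h)⁻¹ * (h * g) * x * ((g * h)⁻¹ * (h * g))⁻¹ := by
    have : (g * h)⁻¹ * (h * g) * x * ((g * h)⁻¹ * (h * g))⁻¹
        = (g * h)⁻¹ * (h * (g * x * g⁻¹) * h⁻¹) * (g * h) := by group
    rw [this, ← h2]; group
  calc x * ((g * h)⁻¹ * (h * g))
      = ((g * h)⁻¹ * (h * g) * x * ((g * h)⁻¹ * (h * g))⁻¹) * ((g * h)⁻¹ * (h * g)) := by rw [← h3]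
    _ = (g * h)⁻¹ * (h * g) * x := by group

end cases

section induction

universe u

theorem main_aux : ∀ (n : ℕ) (G : Type u) [Group G] [Finite G] [Group.IsSolvable G],
    Nat.card G = n → SOC G → (n = 1 ∨ n = 2 ∨ (n = 6 ∧ ∃ a b : G, a * b ≠ b * a)) := by
  intro n
  induction n using Nat.strong_induction_on with
  | _ n ih =>
  intro G _ _ _ hcard hS
  classical
  by_cases hn1 : n = 1
  · exact Or.inl hn1
  have hnpos : 0 < n := hcard ▸ Nat.card_pos
  haveI : Nontrivial G := by
    rw [← Finite.one_lt_card_iff_nontrivial, hcard]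
    omega
  obtain ⟨N, hNmin⟩ := exists_isMinNormal (G := G)
  obtain ⟨r, hr, hNr⟩ := hNmin.exists_prime_pow_eq_one
  haveI hrF : Fact r.Prime := ⟨hr⟩
  have hNab := hNmin.isMulCommutative
  obtain ⟨hNn, hN1, -⟩ := hNmin
  haveI := hNn
  have hNc : ∀ a ∈ N, ∀ b ∈ N, a * b = b * a := fun a ha b hb =>
    congrArg Subtype.val (hNab.is_comm.comm (⟨a, ha⟩ : N) ⟨b, hb⟩)
  obtain ⟨x, hx1⟩ := (Subgroup.ne_bot_iff_exists_ne_one).1 hN1
  have hx1' : (x : G) ≠ 1 := fun h => hx1 (Subtype.ext h)
  have hxN' : (x : G) ∈ N := x.2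
  have hox : orderOf (x : G) = r := orderOf_eq_prime (hNr x hxN') hx1'
  have hNall : ∀ g : G, g ∈ N ↔ g ^ r = 1 := by
    intro g
    refine ⟨hNr g, fun hg => ?_⟩
    by_cases hg1 : g = 1
    · rw [hg1]; exact N.one_mem
    · have hog : orderOf g = r := orderOf_eq_prime hg hg1
      obtain ⟨c, hc⟩ := isConj_iff.1 (hS x g (hox.trans hog.symm))
      rw [← hc]; exact hNn.conj_mem x hxN' c
  have hSQ := soc_quotient hS N r hr hNall
  obtain ⟨m, hm⟩ : ∃ m, Nat.card (G ⧸ N) = m := ⟨_, rfl⟩
  have hnm : n = m * Nat.card N := by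
    rw [← hcard, ← hm]; exact Subgroup.card_eq_card_quotient_mul_card_subgroup N
  have hN2 : 2 ≤ Nat.card N := by
    have := (Subgroup.one_lt_card_iff_ne_bot N).2 hN1
    omega
  have hmpos : 0 < m := hm ▸ Nat.card_pos
  have hmn : m < n := by nlinarith
  have hQ := ih m hmn (G ⧸ N) hm hSQ
  -- class of x
  have hcls : (Subgroup.centralizer ({(x : G)} : Set G)).index = Nat.card N - 1 := by
    rw [index_centralizer_eq]
    have h1 : {y : G | IsConj y (x : G)} = (N : Set G) \ {1} := by
      ext y
      constructor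
      · intro hy
        obtain ⟨c, hc⟩ := isConj_iff.1 (show IsConj y (x : G) from hy)
        have hyx : y = c⁻¹ * (x : G) * c⁻¹⁻¹ := by rw [← hc]; group
        refine ⟨?_, ?_⟩
        · rw [hyx]; exact hNn.conj_mem x hxN' c⁻¹
        · intro h
          rw [Set.mem_singleton_iff] at h
          apply hx1'
          rw [← hc, h]; group
      · rintro ⟨hyN, hy1⟩
        exact hS y x ((orderOf_eq_prime (hNr y hyN) hy1).trans hox.symm)
    rw [h1, Set.ncard_sdiff_singleton_of_mem (show (1 : G) ∈ (N : Set G) from N.one_mem)]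
    congr 1
  have hNle : N ≤ Subgroup.centralizer ({(x : G)} : Set G) := by
    intro a ha
    rw [Subgroup.mem_centralizer_iff]
    intro h hh
    rw [Set.mem_singleton_iff.1 hh]
    exact hNc x hxN' a ha
  have hdvd : Nat.card N - 1 ∣ m := by
    rw [← hcls, ← hm, ← Subgroup.index_eq_card]
    exact Subgroup.index_dvd_of_le hNle
  have hrN : r ∣ Nat.card N := by
    have := orderOf_dvd_natCard (⟨x, hxN'⟩ : N)
    rwa [← Subgroup.orderOf_coe, hox] at this
  have hdle : Nat.card N - 1 ≤ m := Nat.le_of_dvd hmpos hdvd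
  -- lifting an element of order `r` of the quotient
  have hlift : r ∣ m → ∃ t : G, t ∉ N ∧ t ^ r ∈ N := by
    intro hrm
    obtain ⟨q, hq⟩ := exists_prime_orderOf_dvd_card' (G := G ⧸ N) r (hm ▸ hrm)
    obtain ⟨t, rfl⟩ := QuotientGroup.mk_surjective q
    refine ⟨t, ?_, ?_⟩
    · intro h
      have : (t : G ⧸ N) = 1 := (QuotientGroup.eq_one_iff t).2 h
      rw [this, orderOf_one] at hq
      exact hr.one_lt.ne hq
    · rw [← QuotientGroup.eq_one_iff, QuotientGroup.mk_pow, ← hq, pow_orderOf_eq_one]
  rcases hQ with hQ | hQ | ⟨hQ, a, b, hab⟩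
  · -- m = 1
    right; left
    rw [hQ] at hdle hnm
    omega
  · -- m = 2
    rw [hQ] at hdle hnm hdvd
    have hN3 : Nat.card N = 2 ∨ Nat.card N = 3 := by omega
    rcases hN3 with hN3 | hN3
    · exfalso
      -- `G` is commutative of order 4
      rw [hN3] at hcls
      have hxc : ∀ g : G, g * (x : G) = (x : G) * g := by
        intro g
        have h1 : Subgroup.centralizer ({(x : G)} : Set G) = ⊤ := Subgroup.index_eq_one.1 hcls
        have h2 : g ∈ Subgroup.centralizer ({(x : G)} : Set G) := h1 ▸ Subgroup.mem_top g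
        exact (Subgroup.mem_centralizer_iff.1 h2 x rfl).symm
      have hNZ : N ≤ Subgroup.center G := by
        intro y hy
        rw [Subgroup.mem_center_iff]
        intro g
        by_cases hy1 : y = 1
        · rw [hy1, mul_one, one_mul]
        · obtain ⟨u, -, hu2⟩ := (Nat.card_eq_two_iff' (1 : N)).1 hN3
          have e1 := hu2 ⟨y, hy⟩ (fun h => hy1 (congrArg Subtype.val h))
          have e2 := hu2 ⟨x, hxN'⟩ (fun h => hx1' (congrArg Subtype.val h))
          have : y = (x : G) := congrArg Subtype.val (e1.trans e2.symm)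
          rw [this]; exact hxc g
      haveI : Fact (Nat.Prime 2) := ⟨Nat.prime_two⟩
      haveI : IsCyclic (G ⧸ N) := isCyclic_of_prime_card (p := 2) (hm.trans hQ)
      have hcm : IsMulCommutative G :=
        MonoidHom.isMulCommutative_of_isCyclic_of_ker_le_center (QuotientGroup.mk' N)
          (by rw [QuotientGroup.ker_mk']; exact hNZ)
      have := card_le_two_of_comm hS (fun a b => hcm.is_comm.comm a b)
      rw [hcard, hnm, hN3] at this
      omega
    · right; right
      refine ⟨by rw [hnm, hN3], ?_⟩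
      by_contra hno
      push Not at hno
      have := card_le_two_of_comm hS hno
      rw [hcard, hnm, hN3] at this
      omega
  · -- m = 6, quotient non-commutative
    exfalso
    rw [hQ] at hdle hnm hdvd hlift
    have hN7 : Nat.card N = 2 ∨ Nat.card N = 3 ∨ Nat.card N = 4 ∨ Nat.card N = 7 := by
      have h1 : Nat.card N ≤ 7 := by omega
      have h2 := hN2
      interval_cases h : Nat.card N <;> simp_all
    rcases hN7 with hN7 | hN7 | hN7 | hN7
    · -- |N| = 2
      have hr2 : r = 2 := by
        rw [hN7] at hrN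
        exact (Nat.prime_dvd_prime_iff_eq hr Nat.prime_two).1 hrN
      subst hr2
      obtain ⟨t, htN, ht2⟩ := hlift (by norm_num)
      have hz1 : t ^ 2 ≠ 1 := fun h => htN ((hNall t).2 h)
      have ht4 : t ^ 4 = 1 := by
        have := (hNall _).1 ht2
        rw [← pow_mul] at this
        exact this
      have hot : orderOf t = 4 := by
        have := orderOf_eq_prime_pow (p := 2) (n := 1) (x := t) (by simpa using hz1)
          (by simpa using ht4)
        simpa using this
      exact case_two_small hS (by rw [hcard, hnm, hN7]) t hot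
    · -- |N| = 3
      have hr3 : r = 3 := by
        rw [hN7] at hrN
        exact (Nat.prime_dvd_prime_iff_eq hr Nat.prime_three).1 hrN
      subst hr3
      obtain ⟨t, htN, ht3⟩ := hlift (by norm_num)
      have hz1 : t ^ 3 ≠ 1 := fun h => htN ((hNall t).2 h)
      have ht9 : t ^ 9 = 1 := by
        have := (hNall _).1 ht3
        rw [← pow_mul] at this
        exact this
      have hot : orderOf t = 9 := by
        have := orderOf_eq_prime_pow (p := 3) (n := 1) (x := t) (by simpa using hz1)
          (by simpa using ht9)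
        simpa using this
      exact case_three hS (by rw [hcard, hnm, hN7]) t hot
    · -- |N| = 4
      have hr2 : r = 2 := by
        rw [hN7] at hrN
        have : r ∣ 2 ^ 2 := by simpa using hrN
        exact (Nat.prime_dvd_prime_iff_eq hr Nat.prime_two).1 (hr.dvd_of_dvd_pow this)
      subst hr2
      obtain ⟨t, htN, ht2⟩ := hlift (by norm_num)
      exact case_two_big hS (by rw [hcard, hnm, hN7]) N hNall hN7 hNc t htN ht2
    · -- |N| = 7
      rw [hN7] at hcls
      have hCN : Subgroup.centralizer ({(x : G)} : Set G) ≤ N := by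
        have h1 := (Subgroup.centralizer ({(x : G)} : Set G)).card_mul_index
        rw [hcls, hcard, hnm, hN7] at h1
        have h2 : Nat.card (Subgroup.centralizer ({(x : G)} : Set G)) = 7 := by omega
        have h3 : N = Subgroup.centralizer ({(x : G)} : Set G) :=
          Subgroup.eq_of_le_of_card_ge hNle (by rw [h2, hN7])
        rw [← h3]
      exact hab (case_seven N hN7 x hxN' hCN a b)

end induction

/-- A finite solvable group in which any two elements of the same order are conjugate has order 1 or 2 or is isomorphic to the symmetric group of degree 3. -/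
theorem result {G : Type*} [Group G] [Finite G] [Group.IsSolvable G]
    (h : ∀ x y : G, orderOf x = orderOf y → IsConj x y) :
    Nat.card G = 1 ∨ Nat.card G = 2 ∨ Nonempty (G ≃* Equiv.Perm (Fin 3)) := by
  obtain h1 | h1 | ⟨h1, a, b, hab⟩ := main_aux (Nat.card G) G rfl h
  · exact Or.inl h1
  · exact Or.inr (Or.inl h1)
  · exact Or.inr (Or.inr (equiv_perm_three h1 a b hab))

end Cfsg.Agent.S4062
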