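import Cfsg.Statements.S0247
-- import your own Cfsg.Agent.* helpers here
import Cfsg.Agent.Lib.Helper14.SympCount

set_option autoImplicit false
open Cfsg

namespace Cfsg.Agent.S0247


open Matrix

abbrev I4 := Fin 2 ⊕ Fin 2
abbrev V6 := Fin 6 → ZMod 2

def XX : Fin 2 → Fin 6 → ZMod 2 :=
  ![![1,1,0,0,0,0], ![0,0,0,1,1,0]]
def YY : Fin 2 → Fin 6 → ZMod 2 :=
  ![![0,1,1,0,0,0], ![0,0,0,0,1,1]]

def PiM : Matrix I4 (Fin 6) (ZMod 2) :=
  Matrix.of fun r j => Sum.elim (fun i => YY i j) (fun i => XX i j) r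
def SM : Matrix (Fin 6) I4 (ZMod 2) :=
  Matrix.of fun j r => Sum.elim (fun i => XX i j) (fun i => YY i j) r

set_option maxRecDepth 100000 in
theorem PiM_SM : PiM * SM = 1 := by decide

set_option maxRecDepth 100000 in
theorem PiM_one : PiM *ᵥ (1 : V6) = 0 := by decide

set_option maxRecDepth 100000 in
theorem SM_even : ∀ u : I4 → ZMod 2, ∑ i, (SM *ᵥ u) i = 0 := by decide

set_option maxRecDepth 1000000 in
theorem SM_PiM : ∀ w : V6, ∑ i, w i = 0 →
    (SM *ᵥ (PiM *ᵥ w) = w ∨ SM *ᵥ (PiM *ᵥ w) = w + 1) := by decide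

set_option maxRecDepth 100000 in
theorem PiMT_J : PiMᵀ * Matrix.J (Fin 2) (ZMod 2) = SM := by decide

set_option maxRecDepth 100000 in
theorem SMT_SM : SMᵀ * SM = Matrix.J (Fin 2) (ZMod 2) := by decide

theorem add_self_z2 : ∀ a : ZMod 2, a + a = 0 := by decide

theorem add_self_v6 (w : V6) : w + w = 0 := by
  funext i
  exact add_self_z2 (w i)

set_option maxRecDepth 100000 in
theorem exists_other : ∀ a b c d : Fin 6, ∃ l, l ≠ a ∧ l ≠ b ∧ l ≠ c ∧ l ≠ d := by decide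

def PM (σ : Equiv.Perm (Fin 6)) : Matrix (Fin 6) (Fin 6) (ZMod 2) := (σ⁻¹).permMatrix (ZMod 2)

theorem PM_mulVec (σ : Equiv.Perm (Fin 6)) (w : V6) : PM σ *ᵥ w = w ∘ ⇑σ⁻¹ := by
  show (σ⁻¹).permMatrix (ZMod 2) *ᵥ w = _
  exact Matrix.permMatrix_mulVec _

theorem PM_mul (σ τ : Equiv.Perm (Fin 6)) : PM (σ * τ) = PM σ * PM τ := by
  unfold PM
  rw [_root_.mul_inv_rev, Matrix.permMatrix_mul]

theorem PM_one : PM 1 = 1 := by
  unfold PM
  rw [inv_one, Matrix.permMatrix_one]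

theorem ev_PM (σ : Equiv.Perm (Fin 6)) (w : V6) (h : ∑ i, w i = 0) :
    ∑ i, (PM σ *ᵥ w) i = 0 := by
  rw [PM_mulVec]
  simp only [Function.comp]
  rw [Equiv.sum_comp (σ⁻¹) w]
  exact h

theorem PM_one_vec (σ : Equiv.Perm (Fin 6)) : PM σ *ᵥ (1 : V6) = 1 := by
  rw [PM_mulVec]
  rfl

theorem dot_PM (σ : Equiv.Perm (Fin 6)) (u w : V6) :
    (PM σ *ᵥ u) ⬝ᵥ (PM σ *ᵥ w) = u ⬝ᵥ w := by
  rw [PM_mulVec, PM_mulVec]
  simp only [dotProduct, Function.comp]
  exact Equiv.sum_comp (σ⁻¹) (fun i => u i * w i)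

def MM (σ : Equiv.Perm (Fin 6)) : Matrix I4 I4 (ZMod 2) := PiM * PM σ * SM

theorem MM_mulVec (σ : Equiv.Perm (Fin 6)) (u : I4 → ZMod 2) :
    MM σ *ᵥ u = PiM *ᵥ (PM σ *ᵥ (SM *ᵥ u)) := by
  simp only [MM, Matrix.mulVec_mulVec, Matrix.mul_assoc]

theorem key (σ : Equiv.Perm (Fin 6)) (w : V6) (h : ∑ i, w i = 0) :
    PiM *ᵥ (PM σ *ᵥ (SM *ᵥ (PiM *ᵥ w))) = PiM *ᵥ (PM σ *ᵥ w) := by
  rcases SM_PiM w h with h1 | h1
  · rw [h1]
  · rw [h1, Matrix.mulVec_add, Matrix.mulVec_add, PM_one_vec, PiM_one, add_zero]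

theorem mat_ext {A B : Matrix I4 I4 (ZMod 2)} (h : ∀ v, A *ᵥ v = B *ᵥ v) : A = B := by
  apply Matrix.toLin'.injective
  apply LinearMap.ext
  intro v
  rw [Matrix.toLin'_apply, Matrix.toLin'_apply, h]

theorem MM_one : MM 1 = 1 := by
  unfold MM
  rw [PM_one, Matrix.mul_one, PiM_SM]

theorem MM_mul (σ τ : Equiv.Perm (Fin 6)) : MM (σ * τ) = MM σ * MM τ := by
  apply mat_ext
  intro u
  rw [← Matrix.mulVec_mulVec, MM_mulVec, MM_mulVec, MM_mulVec,
    key σ _ (ev_PM τ _ (SM_even u)), PM_mul, Matrix.mulVec_mulVec (SM *ᵥ u) (PM σ) (PM τ)]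

theorem dot_tr {m n : Type} [Fintype m] [Fintype n] (A : Matrix m n (ZMod 2)) (x : n → ZMod 2)
    (y : m → ZMod 2) : (A *ᵥ x) ⬝ᵥ y = x ⬝ᵥ (Aᵀ *ᵥ y) := by
  rw [Matrix.dotProduct_mulVec, Matrix.vecMul_transpose]

theorem L1 (x x' : V6) (hx : ∑ i, x i = 0) (hx' : ∑ i, x' i = 0) :
    x ⬝ᵥ (SM *ᵥ (PiM *ᵥ x')) = x ⬝ᵥ x' := by
  rcases SM_PiM _ hx' with h1 | h1
  · rw [h1]
  · rw [h1, dotProduct_add]
    have : x ⬝ᵥ (1 : V6) = 0 := by
      simp only [dotProduct, Pi.one_apply, mul_one]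
      exact hx
    rw [this, add_zero]

theorem L2 (σ : Equiv.Perm (Fin 6)) (u u' : I4 → ZMod 2) :
    (MM σ *ᵥ u) ⬝ᵥ (Matrix.J (Fin 2) (ZMod 2) *ᵥ (MM σ *ᵥ u')) =
      u ⬝ᵥ (Matrix.J (Fin 2) (ZMod 2) *ᵥ u') := by
  rw [MM_mulVec, MM_mulVec, dot_tr, Matrix.mulVec_mulVec _ PiMᵀ (Matrix.J (Fin 2) (ZMod 2)), PiMT_J,
    L1 _ _ (ev_PM σ _ (SM_even u)) (ev_PM σ _ (SM_even u')), dot_PM, dot_tr,
    Matrix.mulVec_mulVec _ SMᵀ SM, SMT_SM]

theorem vec_ext_dot {v w : I4 → ZMod 2} (h : ∀ u : I4 → ZMod 2, u ⬝ᵥ v = u ⬝ᵥ w) : v = w := by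
  funext i
  have := h (Pi.single i 1)
  simpa using this

/-- the symplectic condition -/
theorem MM_symp (σ : Equiv.Perm (Fin 6)) :
    (MM σ)ᵀ * Matrix.J (Fin 2) (ZMod 2) * MM σ = Matrix.J (Fin 2) (ZMod 2) := by
  apply mat_ext
  intro u'
  apply vec_ext_dot
  intro u
  rw [← Matrix.mulVec_mulVec, ← Matrix.mulVec_mulVec, ← dot_tr]
  exact L2 σ u u'

theorem MM_inj (σ : Equiv.Perm (Fin 6)) (h : MM σ = 1) : σ = 1 := by
  have h1 : ∀ w : V6, ∑ i, w i = 0 → PiM *ᵥ (PM σ *ᵥ w) = PiM *ᵥ w := by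
    intro w hw
    rw [← key σ w hw, ← MM_mulVec, h, Matrix.one_mulVec]
  have h2 : ∀ w : V6, ∑ i, w i = 0 → PM σ *ᵥ w = w ∨ PM σ *ᵥ w = w + 1 := by
    intro w hw
    obtain ⟨d, hd⟩ : ∃ d : V6, d = PM σ *ᵥ w + w := ⟨_, rfl⟩
    have hdw : PM σ *ᵥ w = d + w := by
      rw [hd, add_assoc, add_self_v6, add_zero]
    have hev : ∑ i, d i = 0 := by
      rw [hd]
      simp only [Pi.add_apply]
      rw [Finset.sum_add_distrib, ev_PM σ w hw, hw, add_zero]
    have hpd : PiM *ᵥ d = 0 := by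
      rw [hd, Matrix.mulVec_add, h1 w hw]
      funext i
      exact add_self_z2 _
    rcases SM_PiM d hev with h3 | h3
    · left
      rw [hpd, Matrix.mulVec_zero] at h3
      rw [hdw, ← h3, zero_add]
    · right
      rw [hpd, Matrix.mulVec_zero] at h3
      have : d = 1 := by
        have := congrArg (fun x => x + (1 : V6)) h3
        simp only [zero_add, add_assoc, add_self_v6, add_zero] at this
        exact this.symm
      rw [hdw, this, add_comm]
  have h3 : ∀ i j : Fin 6, i ≠ j → σ i = i ∨ σ i = j := by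
    intro i j hij
    obtain ⟨w, hw⟩ : ∃ w : V6, w = Pi.single i 1 + Pi.single j 1 := ⟨_, rfl⟩
    have hwv : ∀ l, w l = if l = i ∨ l = j then 1 else 0 := by
      intro l
      rw [hw, Pi.add_apply, Pi.single_apply, Pi.single_apply]
      by_cases h1 : l = i
      · have : l ≠ j := fun h => hij (h1.symm.trans h)
        simp [h1, hij]
      · by_cases h2 : l = j
        · simp [h2, hij.symm]
        · simp [h1, h2]
    have hev : ∑ l, w l = 0 := by
      rw [hw]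
      simp only [Pi.add_apply]
      rw [Finset.sum_add_distrib, Finset.sum_pi_single', Finset.sum_pi_single']
      simp only [Finset.mem_univ, if_true]
      exact add_self_z2 1
    rcases h2 w hev with h4 | h4
    · have := congrFun h4 (σ i)
      rw [PM_mulVec, Function.comp_apply, Equiv.Perm.inv_def, Equiv.symm_apply_apply, hwv i,
        hwv (σ i)] at this
      simp only [true_or, if_true] at this
      by_contra hcon
      push Not at hcon
      rw [if_neg (by rw [not_or]; exact hcon)] at this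
      exact one_ne_zero this
    · exfalso
      obtain ⟨l, hl1, hl2, hl3, hl4⟩ := exists_other i j (σ i) (σ j)
      have hn : ¬ (σ⁻¹ l = i ∨ σ⁻¹ l = j) := by
        rw [not_or]
        constructor
        · intro h
          apply hl3
          rw [← h, Equiv.Perm.inv_def, Equiv.apply_symm_apply]
        · intro h
          apply hl4
          rw [← h, Equiv.Perm.inv_def, Equiv.apply_symm_apply]
      have e1 : w (σ⁻¹ l) = 0 := by rw [hwv, if_neg hn]
      have e2 : w l = 0 := by rw [hwv, if_neg (not_or.mpr ⟨hl1, hl2⟩)]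
      have := congrFun h4 l
      rw [PM_mulVec, Function.comp_apply, Pi.add_apply, e1, e2, Pi.one_apply, zero_add] at this
      exact zero_ne_one this
  ext i
  obtain ⟨j, hj1, hj2, -, -⟩ := exists_other i i i i
  obtain ⟨j', hj'1, hj'2, -, -⟩ := exists_other i j i i
  rcases h3 i j hj1.symm with h | h
  · rw [h]; rfl
  · rcases h3 i j' hj'1.symm with h' | h'
    · rw [h']; rfl
    · exfalso
      apply hj'2
      rw [← h, ← h']


/-- the permutation hom into matrices over `ZMod 2` -/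
def phi0 : Equiv.Perm (Fin 6) →* Matrix I4 I4 (ZMod 2) where
  toFun := MM
  map_one' := MM_one
  map_mul' := MM_mul

/-- Sp_4(2) is isomorphic to the symmetric group S_6. -/
theorem result {F : Type*} [Field F] [Fintype F] (hF : Fintype.card F = 2) : Nonempty (Matrix.symplecticGroup (Fin 2) F ≃* Equiv.Perm (Fin 6)) := by
  classical
  have : Fact (Nat.Prime 2) := ⟨Nat.prime_two⟩
  have : CharP F 2 := charP_of_card_eq_prime hF
  obtain ⟨f, -⟩ : ∃ f : ZMod 2 →+* F, True := ⟨ZMod.castHom (dvd_refl 2) F, trivial⟩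
  obtain ⟨ψ₀, hψ₀⟩ : ∃ ψ₀ : Equiv.Perm (Fin 6) →* Matrix I4 I4 F, ∀ σ, ψ₀ σ = (MM σ).map f :=
    ⟨(f.mapMatrix : Matrix I4 I4 (ZMod 2) →+* Matrix I4 I4 F).toMonoidHom.comp phi0, fun σ => rfl⟩
  have hmem : ∀ σ, ψ₀ σ ∈ Matrix.symplecticGroup (Fin 2) F := by
    intro σ
    rw [SymplecticGroup.mem_iff', hψ₀]
    have := congrArg (fun M : Matrix I4 I4 (ZMod 2) => M.map f) (MM_symp σ)
    simp only [Matrix.map_mul, Matrix.transpose_map] at this
    have hJ : (Matrix.J (Fin 2) (ZMod 2)).map f = Matrix.J (Fin 2) F := by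
      have hneg : ((-1 : Matrix (Fin 2) (Fin 2) (ZMod 2))).map f = -1 := by
        ext i j
        simp [Matrix.map_apply, Matrix.neg_apply, Matrix.one_apply]
        rw [CharTwo.neg_eq]
      simp [Matrix.J, Matrix.fromBlocks_map, hneg]
    rw [hJ] at this
    exact this
  obtain ⟨ψ, hψ⟩ : ∃ ψ : Equiv.Perm (Fin 6) →* Matrix.symplecticGroup (Fin 2) F,
      ∀ σ, ((ψ σ : Matrix.symplecticGroup (Fin 2) F) : Matrix I4 I4 F) = (MM σ).map f :=
    ⟨ψ₀.codRestrict _ hmem, fun σ => hψ₀ σ⟩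
  have hinj : Function.Injective ψ := by
    rw [injective_iff_map_eq_one]
    intro σ h
    apply MM_inj
    have h1 := hψ σ
    rw [h] at h1
    apply Matrix.map_injective f.injective
    show (MM σ).map f = (1 : Matrix I4 I4 (ZMod 2)).map f
    rw [← h1, Matrix.map_one _ (map_zero f) (map_one f)]
    rfl
  have hcard : Nat.card (Matrix.symplecticGroup (Fin 2) F) = 720 := by
    rw [Cfsg.Agent.Lib.Helper14.card_symplectic 2, hF]
    simp [Finset.prod_range_succ]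
  have hfin : Finite (Matrix.symplecticGroup (Fin 2) F) :=
    Nat.finite_of_card_ne_zero (by rw [hcard]; norm_num)
  have hbij : Function.Bijective ψ := by
    rw [Nat.bijective_iff_injective_and_card]
    refine ⟨hinj, ?_⟩
    rw [hcard, Nat.card_perm, Nat.card_eq_fintype_card, Fintype.card_fin]
    rfl
  exact ⟨(MulEquiv.ofBijective ψ hbij).symm⟩

end Cfsg.Agent.S0247
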