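import Cfsg.Statements.S0250
import Mathlib
import Cfsg.Agent.Lib.Helper2.PSL2Small

set_option autoImplicit false
open Cfsg

namespace Cfsg.Agent.S0250

/-- SL_2(2) is isomorphic to S_3. -/
theorem result {F : Type*} [Field F] [Fintype F] (hF : Fintype.card F = 2) : Nonempty (Matrix.SpecialLinearGroup (Fin 2) F ≃* Equiv.Perm (Fin 3)) := by
  classical
  have : Fintype (Projectivization F (Fin 2 → F)) := Fintype.ofFinite _
  have hXc : Fintype.card (Projectivization F (Fin 2 → F)) = 3 := by
    rw [← Nat.card_eq_fintype_card, Cfsg.Agent.Lib.Helper2.card_projLine, hF]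
  have hSL := Cfsg.Agent.Lib.Helper2.card_SL_field (F := F) 2 (by norm_num)
  obtain ⟨N, hN⟩ : ∃ N, N = Nat.card (Matrix.SpecialLinearGroup (Fin 2) F) := ⟨_, rfl⟩
  rw [hF, Fin.prod_univ_two, ← hN] at hSL
  norm_num at hSL
  have hcen := Cfsg.Agent.Lib.Helper2.card_center_SL_field (F := F) 2 (by norm_num)
  obtain ⟨M, hM⟩ : ∃ M, M = Nat.card (Subgroup.center (Matrix.SpecialLinearGroup (Fin 2) F)) :=
    ⟨_, rfl⟩
  rw [hF, ← hM] at hcen
  norm_num at hcen
  set φ := MulAction.toPermHom (Matrix.SpecialLinearGroup (Fin 2) F)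
    (Projectivization F (Fin 2 → F)) with hφ
  have hker : φ.ker = ⊥ := by
    rw [hφ, Projectivization.SL_mulAction_ker]
    exact Subgroup.card_eq_one.mp (by rw [← hM, hcen])
  have hinj : Function.Injective φ := (MonoidHom.ker_eq_bot_iff φ).mp hker
  have hbij : Function.Bijective φ := by
    have : Fintype (Matrix.SpecialLinearGroup (Fin 2) F) := Fintype.ofFinite _
    rw [Fintype.bijective_iff_injective_and_card]
    refine ⟨hinj, ?_⟩
    rw [Fintype.card_perm, hXc, ← Nat.card_eq_fintype_card, ← hN, hSL]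
    rfl
  exact ⟨(MulEquiv.ofBijective φ hbij).trans (Fintype.equivFinOfCardEq hXc).permCongrHom⟩

end Cfsg.Agent.S0250
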