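import Cfsg.Statements.S0282
-- import your own Cfsg.Agent.* helpers here
import Mathlib
import Cfsg.Agent.Lib.Helper14.Unitary3
import Cfsg.Agent.Lib.Lead.CharBurnside

set_option autoImplicit false
open Cfsg

namespace Cfsg.Agent.S0282

/-- PSU_3(2) is a solvable group of order 72. -/
theorem result {F : Type*} [Field F] [Fintype F] (hF : Fintype.card F = 4) : Nat.card (Cfsg.PSU 3 F 2) = 72 ∧ Group.IsSolvable (Cfsg.PSU 3 F 2) := by
  classical
  have hF' : Fintype.card F = 2 ^ 2 := by rw [hF]; norm_num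
  have hcard : Nat.card (Cfsg.PSU 3 F 2) = 72 := by
    have h1 := Cfsg.Agent.Lib.Helper14.card_GU hF' 3
    have h2 := Cfsg.Agent.Lib.Helper14.card_SU_mul hF' 3 (by omega)
    have h3 := Cfsg.Agent.Lib.Helper14.card_center_SU hF' 3 (by omega)
    have h4 := Subgroup.card_eq_card_quotient_mul_card_subgroup (Subgroup.center (Cfsg.SU 3 F 2))
    rw [h3] at h4
    rw [h1] at h2
    have h6 : (∏ i ∈ Finset.range 3, if Even i then 2 ^ (i + 1) + 1 else 2 ^ (i + 1) - 1) = 81 := by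
      decide
    rw [h6] at h2
    have h7 : 2 ^ (3 * (3 - 1) / 2) = 8 := by norm_num
    rw [h7] at h2
    have h5 : Nat.gcd 3 (2 + 1) = 3 := by norm_num
    rw [h5] at h4
    show Nat.card (Cfsg.SU 3 F 2 ⧸ Subgroup.center (Cfsg.SU 3 F 2)) = 72
    omega
  refine ⟨hcard, ?_⟩
  have hc2 : Nat.card (Cfsg.PSU 3 F 2) = 2 ^ 3 * 3 ^ 2 := by rw [hcard]; norm_num
  have hfin : Finite (Cfsg.PSU 3 F 2) := Nat.finite_of_card_ne_zero (by rw [hcard]; norm_num)
  exact Cfsg.Agent.CharLib.isSolvable_of_card_pq 2 3 3 2 Nat.prime_two Nat.prime_three hc2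

end Cfsg.Agent.S0282
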