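import Cfsg.Statements.S5645
import Mathlib
import Cfsg.Agent.Lib.Helper5.SpMax

set_option autoImplicit false
open Cfsg

namespace Cfsg.Agent.S5645

section Aux
set_option linter.unusedSectionVars false
set_option linter.unusedVariables false
set_option linter.unusedSimpArgs false

namespace S5645aux
open Cfsg Matrix Cfsg.Agent.Lib.Helper5 Cfsg.Agent.Lib.Helper5.SpMax

section PerpPerp
variable {F : Type*} [Field F] {m : ℕ}

lemma Bform_nondeg : LinearMap.BilinForm.Nondegenerate (Bform m F) := by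
  refine ⟨?_, ?_⟩
  · intro x hx
    by_contra h
    obtain ⟨a, ha⟩ := sympForm_nondeg x h
    exact ha (hx a)
  · intro y hy
    by_contra h
    obtain ⟨a, ha⟩ := sympForm_nondeg y h
    apply ha
    have := hy a
    rw [Bform_apply] at this
    rw [sympForm_swap, this, neg_zero]

lemma Bform_refl : LinearMap.BilinForm.IsRefl (Bform m F) := by
  intro x y h
  rw [Bform_apply] at *
  rw [sympForm_swap, h, neg_zero]

lemma perp_eq_orthogonal (W : Submodule F (Fin m ⊕ Fin m → F)) :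
    perp W = LinearMap.BilinForm.orthogonal (Bform m F) W := by
  ext v
  rw [mem_perp, LinearMap.BilinForm.mem_orthogonal_iff]
  constructor
  · intro h w hw
    rw [Bform_apply, sympForm_swap, h w hw, neg_zero]
  · intro h w hw
    have := h w hw
    rw [Bform_apply] at this
    rw [sympForm_swap, this, neg_zero]

lemma perp_perp (W : Submodule F (Fin m ⊕ Fin m → F)) : perp (perp W) = W := by
  rw [perp_eq_orthogonal, perp_eq_orthogonal]
  exact LinearMap.BilinForm.orthogonal_orthogonal (B := Bform m F) Bform_nondeg Bform_refl W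

lemma exists_perp_moved {W : Submodule F (Fin m ⊕ Fin m → F)} {g : GL (Fin m ⊕ Fin m) F}
    (hgS : g ∈ spGL m F) (hg : g ∉ Cfsg.Geo.subspaceStabilizer W) :
    ∃ a ∈ perp W, (g : Matrix (Fin m ⊕ Fin m) (Fin m ⊕ Fin m) F) *ᵥ a ∉ perp W := by
  by_contra hcon
  push Not at hcon
  have hst : g ∈ Cfsg.Geo.subspaceStabilizer (perp W) := mem_stab_of_maps_le hcon
  apply hg
  apply mem_stab_of_maps_le
  intro w hw
  have key : (g : Matrix (Fin m ⊕ Fin m) (Fin m ⊕ Fin m) F) *ᵥ w ∈ perp (perp W) := by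
    intro a ha
    have h1 : ((g⁻¹ : GL (Fin m ⊕ Fin m) F) : Matrix (Fin m ⊕ Fin m) (Fin m ⊕ Fin m) F) *ᵥ a
        ∈ perp W := (mem_stab.mp hst _).mpr (by rw [mul_inv_mulVec]; exact ha)
    have h2 : sympForm m F ((g : Matrix (Fin m ⊕ Fin m) (Fin m ⊕ Fin m) F) *ᵥ w) a =
        sympForm m F w (((g⁻¹ : GL (Fin m ⊕ Fin m) F) :
          Matrix (Fin m ⊕ Fin m) (Fin m ⊕ Fin m) F) *ᵥ a) := by
      rw [← mem_spGL.mp hgS w _, mul_inv_mulVec]
    rw [h2, sympForm_swap, h1 w hw, neg_zero]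
  rwa [perp_perp] at key

end PerpPerp

section Closure
variable {F : Type*} [Field F] {m : ℕ}

lemma hyp_closure {M : Subgroup (GL (Fin m ⊕ Fin m) F)} (hMS : M ≤ spGL m F)
    {a b : Fin m ⊕ Fin m → F} (ha : a ∈ Sset M) (hb : b ∈ Sset M)
    (hab : sympForm m F a b ≠ 0) (l : F) : a + l • b ∈ Sset M := by
  have := Sset_mulVec_mem hMS (hb (l / sympForm m F a b)) ha
  rw [tvc_mulVec, div_mul_cancel₀ _ hab] at this
  exact this

lemma tvc_smul (l : F) (s : Fin m ⊕ Fin m → F) (c : F) : tvc (l • s) c = tvc s (l ^ 2 * c) := by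
  apply Units.ext
  apply mat_eq_of_mulVec
  intro x
  rw [tvc_mulVec, tvc_mulVec, sympForm_smul_right, smul_smul]
  congr 2
  ring

lemma Sset_smul {M : Subgroup (GL (Fin m ⊕ Fin m) F)} {s : Fin m ⊕ Fin m → F}
    (hs : s ∈ Sset M) (l : F) : l • s ∈ Sset M := fun c => by
  rw [tvc_smul]; exact hs _

lemma Sset_add_perp {M : Subgroup (GL (Fin m ⊕ Fin m) F)} (hMS : M ≤ spGL m F)
    {W : Submodule F (Fin m ⊕ Fin m → F)}
    (hW : Cfsg.Geo.IsTotallySingularFor (sympForm m F) W)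
    (hperp : ∀ b ∈ perp W, b ∈ Sset M) {s : Fin m ⊕ Fin m → F} (hs : s ∈ Sset M)
    (hsW : s ∉ perp W) {b : Fin m ⊕ Fin m → F} (hb : b ∈ perp W) : s + b ∈ Sset M := by
  have hWp : ∀ w ∈ W, w ∈ perp W := fun w hw x hx => hW w hw x hx
  obtain ⟨w, hwW, hw⟩ : ∃ w ∈ W, sympForm m F s w ≠ 0 := by
    by_contra h
    push Not at h
    exact hsW h
  by_cases hsb : sympForm m F s b = 0
  · have h1 : s + w ∈ Sset M := by
      have := hyp_closure hMS hs (hperp w (hWp w hwW)) hw 1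
      rwa [one_smul] at this
    have hwb : sympForm m F w b = 0 := by rw [sympForm_swap, hb w hwW, neg_zero]
    have h2 : sympForm m F (s + w) (b - w) ≠ 0 := by
      rw [sympForm_add_left, sympForm_sub_right, sympForm_sub_right, hsb, sympForm_self, hwb,
        sub_zero, zero_sub, add_zero]
      exact neg_ne_zero.mpr hw
    have h3 := hyp_closure hMS h1 (hperp _ ((perp W).sub_mem hb (hWp w hwW))) h2 1
    rw [one_smul] at h3
    have : s + w + (b - w) = s + b := by abel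
    rwa [this] at h3
  · have := hyp_closure hMS hs (hperp b hb) hsb 1
    rwa [one_smul] at this

/-- the Siegel-type element `x ↦ x + f(x,w) u + f(x,u) w` for `f(u,w) = 0` -/
noncomputable def sieg (w u : Fin m ⊕ Fin m → F) : GL (Fin m ⊕ Fin m) F :=
  tvc (w + u) 1 * tvc w (-1) * tvc u (-1)

lemma sieg_mem (w u : Fin m ⊕ Fin m → F) : sieg w u ∈ spGL m F :=
  mul_mem (mul_mem (tvc_mem _ _) (tvc_mem _ _)) (tvc_mem _ _)

lemma sieg_mulVec (w u : Fin m ⊕ Fin m → F) (huw : sympForm m F u w = 0)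
    (x : Fin m ⊕ Fin m → F) :
    ((sieg w u : GL (Fin m ⊕ Fin m) F) : Matrix (Fin m ⊕ Fin m) (Fin m ⊕ Fin m) F) *ᵥ x =
      x + sympForm m F x w • u + sympForm m F x u • w := by
  have hwu : sympForm m F w u = 0 := by rw [sympForm_swap, huw, neg_zero]
  unfold sieg
  rw [Units.val_mul, Units.val_mul, ← Matrix.mulVec_mulVec, ← Matrix.mulVec_mulVec,
    tvc_mulVec u x, tvc_mulVec w, tvc_mulVec (w + u)]
  simp only [sympForm_add_left, sympForm_add_right, sympForm_smul_left, huw, hwu,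
    sympForm_self, mul_zero, add_zero, one_mul]
  funext i
  simp only [Pi.add_apply, Pi.smul_apply, smul_eq_mul]
  ring

lemma exists_prop {W : Submodule F (Fin m ⊕ Fin m → F)} {x y : Fin m ⊕ Fin m → F}
    (hx : x ∉ perp W) (h : ∀ w ∈ W, sympForm m F x w = 0 → sympForm m F y w = 0) :
    ∃ c : F, y - c • x ∈ perp W := by
  obtain ⟨w₀, hw₀W, hw₀⟩ : ∃ w ∈ W, sympForm m F x w ≠ 0 := by
    by_contra h'
    push Not at h'
    exact hx h'
  refine ⟨sympForm m F y w₀ / sympForm m F x w₀, fun w hw => ?_⟩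
  have h1 := h (w - (sympForm m F x w / sympForm m F x w₀) • w₀)
    (W.sub_mem hw (W.smul_mem _ hw₀W))
    (by rw [sympForm_sub_right, sympForm_smul_right, div_mul_cancel₀ _ hw₀, sub_self])
  rw [sympForm_sub_right, sympForm_smul_right] at h1
  rw [sympForm_sub_left, sympForm_smul_left]
  linear_combination h1

end Closure

section Main
variable {F : Type*} [Field F] {m : ℕ} (W : Submodule F (Fin m ⊕ Fin m → F))
  (hW : Cfsg.Geo.IsTotallySingularFor (sympForm m F) W)
include hW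

lemma all_mem_Sset {M : Subgroup (GL (Fin m ⊕ Fin m) F)} (hMS : M ≤ spGL m F)
    (hHM : Cfsg.Geo.subspaceStabilizer W ⊓ spGL m F ≤ M)
    {s₀ : Fin m ⊕ Fin m → F} (hs₀ : s₀ ∈ Sset M) (hs₀W : s₀ ∉ perp W)
    (v : Fin m ⊕ Fin m → F) : v ∈ Sset M := by
  have hWp : ∀ w ∈ W, w ∈ perp W := fun w hw x hx => hW w hw x hx
  have hperp : ∀ b ∈ perp W, b ∈ Sset M := fun b hb c =>
    hHM ⟨tvc_mem_stab_of_perp hb c, tvc_mem b c⟩
  by_cases hvW : v ∈ perp W
  · exact hperp v hvW
  by_cases hA : (∃ w₂ ∈ W, sympForm m F s₀ w₂ = 0 ∧ sympForm m F v w₂ ≠ 0) ∧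
      (∃ w₃ ∈ W, sympForm m F v w₃ = 0 ∧ sympForm m F s₀ w₃ ≠ 0)
  · obtain ⟨⟨w₂, hw₂W, hw₂s, hw₂v⟩, ⟨w₃, hw₃W, hw₃v, hw₃s⟩⟩ := hA
    obtain ⟨w₁, hw₁⟩ : ∃ w₁, w₁ = (sympForm m F s₀ w₃)⁻¹ • w₃ + (sympForm m F v w₂)⁻¹ • w₂ :=
      ⟨_, rfl⟩
    have hw₁W : w₁ ∈ W := by
      rw [hw₁]; exact W.add_mem (W.smul_mem _ hw₃W) (W.smul_mem _ hw₂W)
    have h1 : sympForm m F s₀ w₁ = 1 := by
      rw [hw₁, sympForm_add_right, sympForm_smul_right, sympForm_smul_right, hw₂s, mul_zero,
        add_zero, inv_mul_cancel₀ hw₃s]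
    have h2 : sympForm m F v w₁ = 1 := by
      rw [hw₁, sympForm_add_right, sympForm_smul_right, sympForm_smul_right, hw₃v, mul_zero,
        zero_add, inv_mul_cancel₀ hw₂v]
    have huw : sympForm m F (v - s₀) w₁ = 0 := by
      rw [sympForm_sub_left, h1, h2, sub_self]
    have hE : sieg w₁ (v - s₀) ∈ Cfsg.Geo.subspaceStabilizer W ⊓ spGL m F := by
      refine ⟨mem_stab_of_maps_le ?_, sieg_mem _ _⟩
      intro w hw
      rw [sieg_mulVec _ _ huw, hW w hw w₁ hw₁W, zero_smul, add_zero]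
      exact W.add_mem hw (W.smul_mem _ hw₁W)
    have hEs : ((sieg w₁ (v - s₀) : GL (Fin m ⊕ Fin m) F) :
        Matrix (Fin m ⊕ Fin m) (Fin m ⊕ Fin m) F) *ᵥ s₀ =
        v + sympForm m F s₀ (v - s₀) • w₁ := by
      rw [sieg_mulVec _ _ huw, h1, one_smul, add_sub_cancel]
    have hES : v + sympForm m F s₀ (v - s₀) • w₁ ∈ Sset M := by
      rw [← hEs]; exact Sset_mulVec_mem hMS (hHM hE) hs₀
    have hEW : v + sympForm m F s₀ (v - s₀) • w₁ ∉ perp W := by
      intro h
      apply hvW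
      have := (perp W).sub_mem h ((perp W).smul_mem (sympForm m F s₀ (v - s₀)) (hWp w₁ hw₁W))
      rwa [add_sub_cancel_right] at this
    have := Sset_add_perp hMS hW hperp hES hEW
      ((perp W).smul_mem (-(sympForm m F s₀ (v - s₀))) (hWp w₁ hw₁W))
    rwa [neg_smul, add_neg_cancel_right] at this
  · rw [not_and_or] at hA
    rcases hA with hA | hA
    · -- every w with f(s₀,w)=0 has f(v,w)=0
      have h' : ∀ w ∈ W, sympForm m F s₀ w = 0 → sympForm m F v w = 0 := by
        intro w hw h0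
        by_contra h1
        exact hA ⟨w, hw, h0, h1⟩
      obtain ⟨c, hc⟩ := exists_prop hs₀W h'
      have hcs : c • s₀ ∉ perp W := by
        intro h
        apply hvW
        have := (perp W).add_mem hc h
        rwa [sub_add_cancel] at this
      have := Sset_add_perp hMS hW hperp (Sset_smul hs₀ c) hcs hc
      rwa [add_sub_cancel] at this
    · have h' : ∀ w ∈ W, sympForm m F v w = 0 → sympForm m F s₀ w = 0 := by
        intro w hw h0
        by_contra h1
        exact hA ⟨w, hw, h0, h1⟩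
      obtain ⟨c, hc⟩ := exists_prop hvW h'
      -- s₀ - c v ∈ perp W
      have hc0 : c ≠ 0 := by
        rintro rfl
        rw [zero_smul, sub_zero] at hc
        exact hs₀W hc
      have hcs : c⁻¹ • s₀ ∉ perp W := by
        intro h
        apply hs₀W
        have := (perp W).smul_mem c h
        rwa [smul_smul, mul_inv_cancel₀ hc0, one_smul] at this
      have hb : -(c⁻¹ • (s₀ - c • v)) ∈ perp W := (perp W).neg_mem ((perp W).smul_mem _ hc)
      have := Sset_add_perp hMS hW hperp (Sset_smul hs₀ c⁻¹) hcs hb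
      have h3 : c⁻¹ • s₀ + -(c⁻¹ • (s₀ - c • v)) = v := by
        rw [smul_sub, smul_smul, inv_mul_cancel₀ hc0, one_smul]
        abel
      rwa [h3] at this

theorem main (hW0 : W ≠ ⊥) :
    Cfsg.Geo.IsMaximalIn (spGL m F) (Cfsg.Geo.subspaceStabilizer W ⊓ spGL m F) := by
  refine ⟨?_, ?_⟩
  · rw [lt_iff_le_and_ne]
    refine ⟨inf_le_right, fun h => ?_⟩
    obtain ⟨w, hwW, hw0⟩ := (Submodule.ne_bot_iff W).mp hW0
    obtain ⟨z, hz⟩ := sympForm_nondeg w hw0
    have hT : tvc z 1 ∈ Cfsg.Geo.subspaceStabilizer W ⊓ spGL m F := by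
      rw [h]; exact tvc_mem _ _
    have h1 := (mem_stab.mp hT.1 w).mp hwW
    rw [tvc_mulVec, one_mul, W.add_mem_iff_right hwW] at h1
    have h3 : z ∈ W := by
      have := W.smul_mem (sympForm m F w z)⁻¹ h1
      rwa [smul_smul, inv_mul_cancel₀ hz, one_smul] at this
    exact hz (hW w hwW z h3)
  · intro M hHM hMS
    by_cases hMH : M = Cfsg.Geo.subspaceStabilizer W ⊓ spGL m F
    · left; exact hMH
    right
    apply le_antisymm hMS
    obtain ⟨g, hgM, hgH⟩ : ∃ g ∈ M, g ∉ Cfsg.Geo.subspaceStabilizer W ⊓ spGL m F := by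
      by_contra hcon
      push Not at hcon
      exact hMH (le_antisymm hcon hHM)
    have hgS : g ∉ Cfsg.Geo.subspaceStabilizer W := fun h => hgH ⟨h, hMS hgM⟩
    obtain ⟨a, ha, hga⟩ := exists_perp_moved (hMS hgM) hgS
    have haS : a ∈ Sset M := fun c => hHM ⟨tvc_mem_stab_of_perp ha c, tvc_mem a c⟩
    have hgaS := Sset_mulVec_mem hMS hgM haS
    apply le_of_forall_mem_Sset
    intro v
    exact all_mem_Sset W hW hMS hHM hgaS hga v

end Main

end S5645aux

end Aux

/-- For a finite field F and m ≥ 7, in the symplectic group Sp_2m(F) of the standard alternating form on F^(2m) (as a subgroup of GL_2m(F)), the stabiliser of any non-zero subspace on which the form vanishes identically is a maximal subgroup. -/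
theorem result {F : Type*} [Field F] [Fintype F] (m : ℕ) (hm : 7 ≤ m) (W : Submodule F (Fin m ⊕ Fin m → F)) (hW0 : W ≠ ⊥) (hW : Cfsg.Geo.IsTotallySingularFor (Cfsg.sympForm m F) W) : Cfsg.Geo.IsMaximalIn (Cfsg.spGL m F) (Cfsg.Geo.subspaceStabilizer W ⊓ Cfsg.spGL m F) := by
  exact S5645aux.main W hW hW0

end Cfsg.Agent.S5645
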