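import Cfsg.Statements.S5647
import Mathlib
import Cfsg.Agent.Lib.Helper5.SpMax
import Cfsg.Agent.Lib.Helper5.SpWitt

set_option autoImplicit false
open Cfsg

namespace Cfsg.Agent.S5647

section Aux
set_option linter.unusedSectionVars false
set_option linter.unusedVariables false
set_option linter.unusedSimpArgs false
namespace S5647aux
open Cfsg Matrix Cfsg.Agent.Lib.Helper5 Cfsg.Agent.Lib.Helper5.SpMax Cfsg.Agent.Lib.Helper5.SpWitt

section Decomp
variable {F V : Type*} [Field F] [AddCommGroup V] [Module F V] {ι : Type*} [Fintype ι] [DecidableEq ι]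
  (D : ι → Submodule F V) (hInt : DirectSum.IsInternal D)

/-- the decomposition isomorphism -/
noncomputable def Φ : (DirectSum ι fun i => D i) ≃ₗ[F] V :=
  LinearEquiv.ofBijective (DirectSum.coeLinearMap D) hInt

/-- components -/
noncomputable def comp (v : V) (i : ι) : V := (((Φ D hInt).symm v) i : V)

lemma comp_mem (v : V) (i : ι) : comp D hInt v i ∈ D i := Subtype.property _

lemma sum_comp (v : V) : ∑ i, comp D hInt v i = v := by
  have h1 : (Φ D hInt) ((Φ D hInt).symm v) = v := LinearEquiv.apply_symm_apply _ _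
  conv_rhs => rw [← h1]
  conv_rhs => rw [← DirectSum.sum_univ_of ((Φ D hInt).symm v)]
  rw [map_sum]
  apply Finset.sum_congr rfl
  intro i _
  change _ = DirectSum.coeLinearMap D _
  rw [DirectSum.coeLinearMap_of]
  rfl

lemma comp_add (u v : V) (i : ι) : comp D hInt (u + v) i = comp D hInt u i + comp D hInt v i := by
  unfold comp
  rw [map_add, DirectSum.add_apply, Submodule.coe_add]

lemma comp_zero (i : ι) : comp D hInt 0 i = 0 := by
  unfold comp
  rw [map_zero, DirectSum.zero_apply, Submodule.coe_zero]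

lemma comp_sum {κ : Type*} (s : Finset κ) (g : κ → V) (i : ι) :
    comp D hInt (∑ k ∈ s, g k) i = ∑ k ∈ s, comp D hInt (g k) i := by
  classical
  induction s using Finset.induction_on with
  | empty => simp [comp_zero]
  | insert a s ha ih => rw [Finset.sum_insert ha, Finset.sum_insert ha, comp_add, ih]

lemma comp_of_mem {x : V} {j : ι} (hx : x ∈ D j) (i : ι) :
    comp D hInt x i = if i = j then x else 0 := by
  have h1 : (Φ D hInt).symm x = DirectSum.of (fun i => D i) j ⟨x, hx⟩ := by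
    rw [LinearEquiv.symm_apply_eq]
    change x = DirectSum.coeLinearMap D _
    rw [DirectSum.coeLinearMap_of]
  unfold comp
  rw [h1]
  by_cases hij : i = j
  · subst hij
    rw [DirectSum.of_eq_same, if_pos rfl]
  · rw [DirectSum.of_eq_of_ne _ _ _ hij, if_neg hij, Submodule.coe_zero]

/-- uniqueness of components -/
lemma comp_eq_of_sum (a : ι → V) (ha : ∀ i, a i ∈ D i) (i : ι) :
    comp D hInt (∑ j, a j) i = a i := by
  rw [comp_sum]
  have : ∀ j ∈ Finset.univ, comp D hInt (a j) i = if i = j then a j else 0 :=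
    fun j _ => comp_of_mem D hInt (ha j) i
  rw [Finset.sum_congr rfl this, Finset.sum_ite_eq Finset.univ i a]
  simp

end Decomp

section Form
variable {F : Type*} [Field F] {m : ℕ}

lemma sympForm_zero_right (z : Fin m ⊕ Fin m → F) : sympForm m F z 0 = 0 := by
  rw [sympForm_swap, sympForm_zero_left, neg_zero]

lemma sympForm_sum_left {κ : Type*} (s : Finset κ) (g : κ → Fin m ⊕ Fin m → F)
    (z : Fin m ⊕ Fin m → F) :
    sympForm m F (∑ k ∈ s, g k) z = ∑ k ∈ s, sympForm m F (g k) z := by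
  classical
  induction s using Finset.induction_on with
  | empty => simp [sympForm_zero_left]
  | insert a s ha ih => rw [Finset.sum_insert ha, Finset.sum_insert ha, sympForm_add_left, ih]

lemma sympForm_sum_right {κ : Type*} (s : Finset κ) (g : κ → Fin m ⊕ Fin m → F)
    (z : Fin m ⊕ Fin m → F) :
    sympForm m F z (∑ k ∈ s, g k) = ∑ k ∈ s, sympForm m F z (g k) := by
  classical
  induction s using Finset.induction_on with
  | empty => simp [sympForm_zero_right]
  | insert a s ha ih => rw [Finset.sum_insert ha, Finset.sum_insert ha, sympForm_add_right, ih]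

end Form

section GLx
variable {F : Type*} [Field F] {ι : Type} [Fintype ι] [DecidableEq ι]

lemma map_eq_self_of_iff {W : Submodule F (ι → F)} {g : GL ι F}
    (h : ∀ x, x ∈ W ↔ (g : Matrix ι ι F) *ᵥ x ∈ W) :
    W.map (Matrix.toLin' (g : Matrix ι ι F)) = W := by
  ext z
  rw [Submodule.mem_map]
  constructor
  · rintro ⟨x, hx, rfl⟩
    rw [Matrix.toLin'_apply]
    exact (h x).mp hx
  · intro hz
    refine ⟨((g⁻¹ : GL ι F) : Matrix ι ι F) *ᵥ z, (h _).mpr ?_, ?_⟩
    · rw [mul_inv_mulVec]; exact hz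
    · rw [Matrix.toLin'_apply, mul_inv_mulVec]

lemma finrank_map_gl (g : GL ι F) (W : Submodule F (ι → F)) :
    Module.finrank F (W.map (Matrix.toLin' (g : Matrix ι ι F))) = Module.finrank F W := by
  have h1 : (g : Matrix ι ι F) * ((g⁻¹ : GL ι F) : Matrix ι ι F) = 1 := by
    rw [← Units.val_mul, mul_inv_cancel, Units.val_one]
  have h2 : ((g⁻¹ : GL ι F) : Matrix ι ι F) * (g : Matrix ι ι F) = 1 := by
    rw [← Units.val_mul, inv_mul_cancel, Units.val_one]
  exact LinearEquiv.finrank_map_eq (Matrix.toLin'OfInv h2 h1) W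

/-- mapping into a subspace of the same dimension is mapping onto -/
lemma map_eq_of_maps {W W' : Submodule F (ι → F)} {g : GL ι F}
    (h : ∀ x ∈ W, (g : Matrix ι ι F) *ᵥ x ∈ W')
    (hfr : Module.finrank F W = Module.finrank F W') :
    W.map (Matrix.toLin' (g : Matrix ι ι F)) = W' := by
  apply Submodule.eq_of_le_of_finrank_eq
  · rintro z ⟨x, hx, rfl⟩
    rw [Matrix.toLin'_apply]
    exact h x hx
  · rw [finrank_map_gl, hfr]

end GLx

section SpS
variable {F : Type*} [Field F] {m : ℕ}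

lemma hyp_closure {M : Subgroup (GL (Fin m ⊕ Fin m) F)} (hMS : M ≤ spGL m F)
    {a b : Fin m ⊕ Fin m → F} (ha : a ∈ Sset M) (hb : b ∈ Sset M)
    (hab : sympForm m F a b ≠ 0) : a + b ∈ Sset M := by
  have := Sset_mulVec_mem hMS (hb (1 / sympForm m F a b)) ha
  rw [tvc_mulVec, div_mul_cancel₀ _ hab, one_smul] at this
  exact this

lemma zero_mem_Sset (M : Subgroup (GL (Fin m ⊕ Fin m) F)) :
    (0 : Fin m ⊕ Fin m → F) ∈ Sset M := by
  intro c
  have : tvc (0 : Fin m ⊕ Fin m → F) c = 1 := by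
    apply Units.ext
    apply mat_eq_of_mulVec
    intro x
    rw [tvc_mulVec, smul_zero, add_zero, Units.val_one, Matrix.one_mulVec]
  rw [this]
  exact M.one_mem

end SpS

section Dec
variable {F : Type*} [Field F] {m : ℕ} {t : ℕ} {k : ℕ}
  (D : Fin t → Submodule F (Fin m ⊕ Fin m → F))
  (hD : Geo.IsNondegenerateMDecomposition (sympForm m F) k D)
  (hI : DirectSum.IsInternal D)

omit hI in
lemma mem_dstab {g : GL (Fin m ⊕ Fin m) F} : g ∈ Geo.decompositionStabilizer D ↔
    ∃ σ : Equiv.Perm (Fin t), ∀ i,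
      (D i).map (Matrix.toLin' (g : Matrix (Fin m ⊕ Fin m) (Fin m ⊕ Fin m) F)) = D (σ i) :=
  Iff.rfl

include hD in
lemma form_decomp (u v : Fin m ⊕ Fin m → F) :
    sympForm m F u v = ∑ i, sympForm m F (comp D hI u i) (comp D hI v i) := by
  conv_lhs => rw [← sum_comp D hI u, ← sum_comp D hI v]
  rw [sympForm_sum_left]
  apply Finset.sum_congr rfl
  intro i _
  rw [sympForm_sum_right, Finset.sum_eq_single i]
  · intro j _ hji
    exact hD.orthogonal i j (Ne.symm hji) _ (comp_mem D hI u i) _ (comp_mem D hI v j)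
  · intro h; exact absurd (Finset.mem_univ i) h

include hD in
omit hI in
lemma ND_block (i : Fin t) : ND (D i) := fun x hx hx0 => (hD.nondegenerate i x hx hx0).2

include hD in
omit hI in
lemma orth {i j : Fin t} (hij : i ≠ j) {x y : Fin m ⊕ Fin m → F} (hx : x ∈ D i) (hy : y ∈ D j) :
    sympForm m F x y = 0 := hD.orthogonal i j hij x hx y hy

include hD in
lemma form_block (v : Fin m ⊕ Fin m → F) {i : Fin t} {w : Fin m ⊕ Fin m → F} (hw : w ∈ D i) :
    sympForm m F v w = sympForm m F (comp D hI v i) w := by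
  rw [form_decomp D hD hI v w, Finset.sum_eq_single i]
  · rw [comp_of_mem D hI hw, if_pos rfl]
  · intro j _ hji
    rw [comp_of_mem D hI hw, if_neg hji, sympForm_zero_right]
  · intro h; exact absurd (Finset.mem_univ i) h

include hD in
omit hI in
lemma lift_block (i : Fin t) (A : Matrix.symplecticGroup (Fin m) F)
    (hA : A ∈ transvGroupIn m F (D i)) :
    ∃ y ∈ Geo.decompositionStabilizer D ⊓ spGL m F,
      (y : Matrix (Fin m ⊕ Fin m) (Fin m ⊕ Fin m) F) =
        (A : Matrix (Fin m ⊕ Fin m) (Fin m ⊕ Fin m) F) := by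
  obtain ⟨y, hy, hyA⟩ := closure_lift (spGL m F) (D i) (fun a _ c => tvc_mem a c) A hA
  have hst : y ∈ Geo.decompositionStabilizer D := by
    rw [mem_dstab]
    refine ⟨1, fun l => ?_⟩
    rw [Equiv.Perm.one_apply]
    apply map_eq_self_of_iff
    by_cases hl : l = i
    · subst hl
      intro x
      rw [hyA]
      exact transvGroupIn_preserves (D l) A hA x
    · have hfix : ∀ x ∈ D l, (y : Matrix (Fin m ⊕ Fin m) (Fin m ⊕ Fin m) F) *ᵥ x = x := by
        intro x hx
        rw [hyA]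
        exact transvGroupIn_fixes (D i) A hA x (fun w hw => orth D hD hl hx hw)
      exact mem_stab.mp (mem_stab_of_fix hfix)
  exact ⟨y, ⟨hst, hy⟩, hyA⟩

include hD in
lemma repl_mem {M : Subgroup (GL (Fin m ⊕ Fin m) F)} (hMS : M ≤ spGL m F)
    (hHM : Geo.decompositionStabilizer D ⊓ spGL m F ≤ M) {v : Fin m ⊕ Fin m → F}
    (hv : v ∈ Sset M) {i : Fin t} (hvi : comp D hI v i ≠ 0) {x : Fin m ⊕ Fin m → F}
    (hx : x ∈ D i) (hx0 : x ≠ 0) : v - comp D hI v i + x ∈ Sset M := by
  obtain ⟨A, hA, hAx⟩ := transvIn_trans1 (D i) (ND_block D hD i) (comp D hI v i) x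
    (comp_mem D hI v i) hx hvi hx0
  obtain ⟨y, hyH, hyA⟩ := lift_block D hD i A hA
  have h1 : (A : Matrix (Fin m ⊕ Fin m) (Fin m ⊕ Fin m) F) *ᵥ (v - comp D hI v i) =
      v - comp D hI v i :=
    transvGroupIn_fixes (D i) A hA _ (fun w hw => by
      rw [sympForm_sub_left, form_block D hD hI v hw, sub_self])
  obtain ⟨c, hc⟩ : ∃ c, c = comp D hI v i := ⟨_, rfl⟩
  rw [← hc] at h1 hAx ⊢
  have h2 : (y : Matrix (Fin m ⊕ Fin m) (Fin m ⊕ Fin m) F) *ᵥ v = v - c + x := by
    calc (y : Matrix (Fin m ⊕ Fin m) (Fin m ⊕ Fin m) F) *ᵥ v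
        = (y : Matrix (Fin m ⊕ Fin m) (Fin m ⊕ Fin m) F) *ᵥ ((v - c) + c) := by
          rw [sub_add_cancel]
      _ = v - c + x := by rw [hyA, Matrix.mulVec_add, h1, hAx]
  rw [← h2]
  exact Sset_mulVec_mem hMS (hHM hyH) hv

include hD in
lemma orbit_mem {M : Subgroup (GL (Fin m ⊕ Fin m) F)} (hMS : M ≤ spGL m F)
    (hHM : Geo.decompositionStabilizer D ⊓ spGL m F ≤ M) {v w : Fin m ⊕ Fin m → F}
    (hv : v ∈ Sset M) (hsupp : ∀ i, comp D hI v i ≠ 0 ↔ comp D hI w i ≠ 0) : w ∈ Sset M := by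
  classical
  have key : ∀ T : Finset (Fin t),
      (∑ i, if i ∈ T then comp D hI w i else comp D hI v i) ∈ Sset M := by
    intro T
    induction T using Finset.induction_on with
    | empty =>
      simp only [Finset.notMem_empty, if_false]
      rw [sum_comp]
      exact hv
    | insert a T ha ih =>
      obtain ⟨u, hu⟩ : ∃ u, u = ∑ i, if i ∈ T then comp D hI w i else comp D hI v i := ⟨_, rfl⟩
      rw [← hu] at ih
      have hua : comp D hI u a = comp D hI v a := by
        rw [hu, comp_eq_of_sum D hI _ (fun i => by split_ifs <;> exact comp_mem D hI _ i),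
          if_neg ha]
      have hdiff : (∑ i, if i ∈ insert a T then comp D hI w i else comp D hI v i) - u =
          comp D hI w a - comp D hI v a := by
        rw [hu, ← Finset.sum_sub_distrib, Finset.sum_eq_single a]
        · rw [if_pos (Finset.mem_insert_self a T), if_neg ha]
        · intro b _ hba
          by_cases hb : b ∈ T
          · rw [if_pos (Finset.mem_insert_of_mem hb), if_pos hb, sub_self]
          · rw [if_neg (by rw [Finset.mem_insert]; push Not; exact ⟨hba, hb⟩), if_neg hb,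
              sub_self]
        · intro h; exact absurd (Finset.mem_univ a) h
      have hnew : (∑ i, if i ∈ insert a T then comp D hI w i else comp D hI v i) =
          u - comp D hI u a + comp D hI w a := by
        rw [hua]
        rw [sub_eq_iff_eq_add] at hdiff
        rw [hdiff]
        abel
      by_cases hwa : comp D hI w a = 0
      · have hva : comp D hI v a = 0 := by
          by_contra h
          exact (hsupp a).mp h hwa
        rw [hnew, hua, hva, hwa, sub_zero, add_zero]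
        exact ih
      · rw [hnew]
        exact repl_mem D hD hI hMS hHM ih (by rw [hua]; exact (hsupp a).mpr hwa)
          (comp_mem D hI w a) hwa
  have := key Finset.univ
  simp only [Finset.mem_univ, if_true] at this
  rwa [sum_comp] at this

include hD in
omit hI in
lemma ND_sup (i j : Fin t) (hij : i ≠ j) : ND (D i ⊔ D j) := by
  intro x hx hx0
  obtain ⟨xi, hxi, xj, hxj, rfl⟩ := Submodule.mem_sup.mp hx
  by_cases h0 : xi = 0
  · subst h0
    rw [zero_add] at hx0 ⊢
    obtain ⟨a, ha, hxa⟩ := ND_block D hD j xj hxj hx0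
    exact ⟨a, Submodule.mem_sup_right ha, hxa⟩
  · obtain ⟨a, ha, hxa⟩ := ND_block D hD i xi hxi h0
    refine ⟨a, Submodule.mem_sup_left ha, ?_⟩
    rw [sympForm_add_left, orth D hD (Ne.symm hij) hxj ha, add_zero]
    exact hxa

include hD in
omit hI in
lemma exists_swap (i j : Fin t) (hij : i ≠ j) :
    ∃ y ∈ Geo.decompositionStabilizer D ⊓ spGL m F, ∀ l,
      (D l).map (Matrix.toLin' (y : Matrix (Fin m ⊕ Fin m) (Fin m ⊕ Fin m) F)) =
        D (Equiv.swap i j l) := by
  obtain ⟨A, hA, hAmap⟩ := witt_nd k (D i ⊔ D j) (D i) (D j) (ND_sup D hD i j hij) le_sup_left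
    le_sup_right (ND_block D hD i) (ND_block D hD j) (hD.decomp.finrank_eq i)
    (hD.decomp.finrank_eq j)
  obtain ⟨y, hy, hyA⟩ := closure_lift (spGL m F) (D i ⊔ D j) (fun a _ c => tvc_mem a c) A hA
  have hyi : (D i).map (Matrix.toLin' (y : Matrix (Fin m ⊕ Fin m) (Fin m ⊕ Fin m) F)) = D j :=
    map_eq_of_maps (fun x hx => by rw [hyA]; exact hAmap x hx)
      (by rw [hD.decomp.finrank_eq, hD.decomp.finrank_eq])
  have hyj : (D j).map (Matrix.toLin' (y : Matrix (Fin m ⊕ Fin m) (Fin m ⊕ Fin m) F)) = D i := by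
    apply map_eq_of_maps _ (by rw [hD.decomp.finrank_eq, hD.decomp.finrank_eq])
    intro x hx
    have h1 : (y : Matrix (Fin m ⊕ Fin m) (Fin m ⊕ Fin m) F) *ᵥ x ∈ D i ⊔ D j := by
      rw [hyA]
      exact (transvGroupIn_preserves _ A hA x).mp (Submodule.mem_sup_right hx)
    obtain ⟨zi, hzi, zj, hzj, hz⟩ := Submodule.mem_sup.mp h1
    have hzj0 : zj = 0 := by
      by_contra hne
      obtain ⟨a, ha, hzja⟩ := ND_block D hD j zj hzj hne
      have hamem : a ∈ (D i).map
          (Matrix.toLin' (y : Matrix (Fin m ⊕ Fin m) (Fin m ⊕ Fin m) F)) := by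
        rw [hyi]; exact ha
      obtain ⟨d, hd, hda⟩ := hamem
      rw [Matrix.toLin'_apply] at hda
      apply hzja
      have e1 : sympForm m F (zi + zj) a = 0 := by
        rw [hz, ← hda, mem_spGL.mp hy x d]
        exact orth D hD (Ne.symm hij) hx hd
      rw [sympForm_add_left, orth D hD hij hzi ha, zero_add] at e1
      exact e1
    rw [← hz, hzj0, add_zero]
    exact hzi
  have hyl : ∀ l, l ≠ i → l ≠ j → ∀ x ∈ D l,
      (y : Matrix (Fin m ⊕ Fin m) (Fin m ⊕ Fin m) F) *ᵥ x = x := by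
    intro l hli hlj x hx
    rw [hyA]
    apply transvGroupIn_fixes _ A hA x
    intro w hw
    obtain ⟨wi, hwi, wj, hwj, rfl⟩ := Submodule.mem_sup.mp hw
    rw [sympForm_add_right, orth D hD hli hx hwi, orth D hD hlj hx hwj, add_zero]
  have hall : ∀ l, (D l).map (Matrix.toLin' (y : Matrix (Fin m ⊕ Fin m) (Fin m ⊕ Fin m) F)) =
      D (Equiv.swap i j l) := by
    intro l
    by_cases hli : l = i
    · subst hli; rw [Equiv.swap_apply_left]; exact hyi
    by_cases hlj : l = j
    · subst hlj; rw [Equiv.swap_apply_right]; exact hyj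
    rw [Equiv.swap_apply_of_ne_of_ne hli hlj]
    exact map_eq_self_of_iff (mem_stab.mp (mem_stab_of_fix (hyl l hli hlj)))
  have hst : y ∈ Geo.decompositionStabilizer D := by
    rw [mem_dstab]
    exact ⟨Equiv.swap i j, hall⟩
  exact ⟨y, ⟨hst, hy⟩, hall⟩

lemma comp_perm {y : GL (Fin m ⊕ Fin m) F} {σ : Equiv.Perm (Fin t)}
    (hy : ∀ l, (D l).map (Matrix.toLin' (y : Matrix (Fin m ⊕ Fin m) (Fin m ⊕ Fin m) F)) =
      D (σ l)) (v : Fin m ⊕ Fin m → F) (l : Fin t) :
    comp D hI ((y : Matrix (Fin m ⊕ Fin m) (Fin m ⊕ Fin m) F) *ᵥ v) (σ l) =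
      (y : Matrix (Fin m ⊕ Fin m) (Fin m ⊕ Fin m) F) *ᵥ comp D hI v l := by
  have h1 : (y : Matrix (Fin m ⊕ Fin m) (Fin m ⊕ Fin m) F) *ᵥ v =
      ∑ l', (y : Matrix (Fin m ⊕ Fin m) (Fin m ⊕ Fin m) F) *ᵥ comp D hI v (σ.symm l') := by
    rw [Equiv.sum_comp σ.symm
      (fun l => (y : Matrix (Fin m ⊕ Fin m) (Fin m ⊕ Fin m) F) *ᵥ comp D hI v l)]
    conv_lhs => rw [← sum_comp D hI v]
    rw [← Matrix.toLin'_apply, map_sum]
    simp only [Matrix.toLin'_apply]
  rw [h1, comp_eq_of_sum D hI _ (fun l' => ?_), Equiv.symm_apply_apply]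
  have : (y : Matrix (Fin m ⊕ Fin m) (Fin m ⊕ Fin m) F) *ᵥ comp D hI v (σ.symm l') ∈
      (D (σ.symm l')).map
        (Matrix.toLin' (y : Matrix (Fin m ⊕ Fin m) (Fin m ⊕ Fin m) F)) :=
    ⟨_, comp_mem D hI v _, by rw [Matrix.toLin'_apply]⟩
  rw [hy, Equiv.apply_symm_apply] at this
  exact this

end Dec

section Supp
variable {F : Type*} [Field F] {m : ℕ} {t : ℕ} {k : ℕ}
  (D : Fin t → Submodule F (Fin m ⊕ Fin m → F))
  (hD : Geo.IsNondegenerateMDecomposition (sympForm m F) k D)
  (hI : DirectSum.IsInternal D)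

/-- all vectors with support exactly `J` are centres of transvection groups of `M` -/
def Psupp (M : Subgroup (GL (Fin m ⊕ Fin m) F)) (J : Finset (Fin t)) : Prop :=
  ∀ v, (∀ i, comp D hI v i ≠ 0 ↔ i ∈ J) → v ∈ Sset M

include hD in
omit hI in
lemma exists_ne_zero_block (i : Fin t) : ∃ d ∈ D i, d ≠ 0 := by
  have h1 : D i ≠ ⊥ := by
    intro h
    have h2 := hD.decomp.finrank_eq i
    rw [h, finrank_bot] at h2
    have := hD.decomp.pos
    omega
  exact (Submodule.ne_bot_iff (D i)).mp h1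

include hD in
omit hI in
lemma tvc_mem_H {i : Fin t} {a : Fin m ⊕ Fin m → F} (ha : a ∈ D i) (c : F) :
    tvc a c ∈ Geo.decompositionStabilizer D ⊓ spGL m F := by
  obtain ⟨y, hy, hyA⟩ := lift_block D hD i ⟨sympTransvection m a c, sympTransvection_mem m a c⟩
    (Subgroup.subset_closure ⟨a, c, ha, rfl⟩)
  have : y = tvc a c := Units.ext hyA
  rw [← this]
  exact hy

include hD in
lemma Psupp_of_mem {M : Subgroup (GL (Fin m ⊕ Fin m) F)} (hMS : M ≤ spGL m F)
    (hHM : Geo.decompositionStabilizer D ⊓ spGL m F ≤ M) {v : Fin m ⊕ Fin m → F}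
    (hv : v ∈ Sset M) {J : Finset (Fin t)} (hJ : ∀ i, comp D hI v i ≠ 0 ↔ i ∈ J) :
    Psupp D hI M J := by
  intro w hw
  exact orbit_mem D hD hI hMS hHM hv (fun i => (hJ i).trans (hw i).symm)

include hD in
lemma Psupp_image {M : Subgroup (GL (Fin m ⊕ Fin m) F)} (hMS : M ≤ spGL m F)
    {y : GL (Fin m ⊕ Fin m) F} (hyM : y ∈ M) {σ : Equiv.Perm (Fin t)}
    (hy : ∀ l, (D l).map (Matrix.toLin' (y : Matrix (Fin m ⊕ Fin m) (Fin m ⊕ Fin m) F)) =
      D (σ l)) {J : Finset (Fin t)} (hJ : Psupp D hI M J) : Psupp D hI M (J.image σ) := by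
  intro w hw
  obtain ⟨v, hv⟩ : ∃ v, v = ((y⁻¹ : GL (Fin m ⊕ Fin m) F) :
      Matrix (Fin m ⊕ Fin m) (Fin m ⊕ Fin m) F) *ᵥ w := ⟨_, rfl⟩
  have hyv : (y : Matrix (Fin m ⊕ Fin m) (Fin m ⊕ Fin m) F) *ᵥ v = w := by
    rw [hv, mul_inv_mulVec]
  have hvS : v ∈ Sset M := by
    apply hJ
    intro l
    have h1 := comp_perm D hI hy v l
    rw [hyv] at h1
    have h2 : comp D hI v l ≠ 0 ↔ comp D hI w (σ l) ≠ 0 := by
      rw [h1]
      constructor
      · intro h h0
        apply h
        apply mulVec_inj y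
        rw [h0, Matrix.mulVec_zero]
      · intro h h0
        apply h
        rw [h0, Matrix.mulVec_zero]
    rw [h2, hw (σ l)]
    exact σ.injective.mem_finset_image
  rw [← hyv]
  exact Sset_mulVec_mem hMS hyM hvS

include hD in
lemma Psupp_swap {M : Subgroup (GL (Fin m ⊕ Fin m) F)} (hMS : M ≤ spGL m F)
    (hHM : Geo.decompositionStabilizer D ⊓ spGL m F ≤ M) (a b : Fin t) {J : Finset (Fin t)}
    (hJ : Psupp D hI M J) : Psupp D hI M (J.image (Equiv.swap a b)) := by
  by_cases hab : a = b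
  · subst hab
    rw [Equiv.swap_self]
    simpa using hJ
  · obtain ⟨y, hyH, hy⟩ := exists_swap D hD a b hab
    exact Psupp_image D hD hI hMS (hHM hyH) hy hJ

include hD in
lemma Psupp_pair {M : Subgroup (GL (Fin m ⊕ Fin m) F)} (hMS : M ≤ spGL m F)
    (hHM : Geo.decompositionStabilizer D ⊓ spGL m F ≤ M) {i j : Fin t} (hij : i ≠ j)
    (hJ : Psupp D hI M {i, j}) (i' j' : Fin t) (hij' : i' ≠ j') : Psupp D hI M {i', j'} := by
  have h1 := Psupp_swap D hD hI hMS hHM i i' hJ
  rw [Finset.image_insert, Finset.image_singleton, Equiv.swap_apply_left] at h1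
  obtain ⟨j₁, hj₁⟩ : ∃ j₁, j₁ = Equiv.swap i i' j := ⟨_, rfl⟩
  rw [← hj₁] at h1
  have hj₁ne : i' ≠ j₁ := by
    intro h
    have h3 : Equiv.swap i i' i = Equiv.swap i i' j := by
      rw [Equiv.swap_apply_left, ← hj₁]; exact h
    exact hij ((Equiv.swap i i').injective h3)
  have h2 := Psupp_swap D hD hI hMS hHM j₁ j' h1
  rw [Finset.image_insert, Finset.image_singleton, Equiv.swap_apply_left,
    Equiv.swap_apply_of_ne_of_ne hj₁ne hij'] at h2
  exact h2

include hD in
omit hI in
lemma exists_Z [Fintype F] (hex : ¬ (k = 2 ∧ Fintype.card F = 2)) (l : Fin t)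
    {w : Fin m ⊕ Fin m → F} (hw : w ∈ D l) (hw0 : w ≠ 0) :
    ∃ z ∈ D l, z ≠ 0 ∧ z ≠ w ∧ sympForm m F z w = 0 := by
  classical
  by_cases hq : Fintype.card F = 2
  · have hk : k ≠ 2 := fun h => hex ⟨h, hq⟩
    obtain ⟨a, ha, hwa⟩ := ND_block D hD l w hw hw0
    obtain ⟨u, hu⟩ : ∃ u, u = (sympForm m F w a)⁻¹ • a := ⟨_, rfl⟩
    have huD : u ∈ D l := by rw [hu]; exact (D l).smul_mem _ ha
    have hwu : sympForm m F w u = 1 := by
      rw [hu, sympForm_smul_right, inv_mul_cancel₀ hwa]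
    have hfr := finrank_cut hw huD hwu
    rw [hD.decomp.finrank_eq l] at hfr
    have hne : cut (D l) w u ≠ ⊥ := by
      intro h
      rw [h, finrank_bot] at hfr
      omega
    obtain ⟨z, hz, hz0⟩ := (Submodule.ne_bot_iff _).mp hne
    refine ⟨z, hz.1, hz0, ?_, hz.2.1⟩
    intro hzw
    have := hz.2.2
    rw [hzw, hwu] at this
    exact one_ne_zero this
  · have hcard : 2 < Fintype.card F := by
      have := Fintype.one_lt_card (α := F)
      omega
    have hlt : ({0, 1} : Finset F).card < (Finset.univ : Finset F).card := by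
      rw [Finset.card_univ]
      calc ({0, 1} : Finset F).card ≤ 2 := Finset.card_le_two
        _ < Fintype.card F := hcard
    obtain ⟨μ, -, hμ⟩ := Finset.exists_mem_notMem_of_card_lt_card hlt
    rw [Finset.mem_insert, Finset.mem_singleton] at hμ
    push Not at hμ
    refine ⟨μ • w, (D l).smul_mem _ hw, smul_ne_zero hμ.1 hw0, ?_, ?_⟩
    · intro h
      have h2 : (μ - 1) • w = 0 := by rw [sub_smul, one_smul, h, sub_self]
      rcases smul_eq_zero.mp h2 with h3 | h3
      · exact hμ.2 (sub_eq_zero.mp h3)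
      · exact hw0 h3
    · rw [sympForm_smul_left, sympForm_self, mul_zero]

include hD in
lemma grow {M : Subgroup (GL (Fin m ⊕ Fin m) F)} (hMS : M ≤ spGL m F) {J : Finset (Fin t)}
    {l j : Fin t} (hJ : Psupp D hI M J) (hlj : Psupp D hI M {l, j}) (hl : l ∈ J) (hj : j ∉ J) :
    Psupp D hI M (insert j J) := by
  classical
  intro w hw
  have hlne : l ≠ j := fun h => hj (h ▸ hl)
  have hwl : comp D hI w l ≠ 0 := (hw l).mpr (Finset.mem_insert_of_mem hl)
  obtain ⟨x, hxD, hx⟩ := ND_block D hD l _ (comp_mem D hI w l) hwl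
  have hx0 : x ≠ 0 := by
    rintro rfl
    exact hx (sympForm_zero_right _)
  obtain ⟨a, ha⟩ : ∃ a : Fin t → (Fin m ⊕ Fin m → F),
      a = fun i => if i = l then x else if i ∈ J then comp D hI w i else 0 := ⟨_, rfl⟩
  have ha_eq : ∀ i, a i = if i = l then x else if i ∈ J then comp D hI w i else 0 :=
    fun i => by rw [ha]
  obtain ⟨b, hb⟩ : ∃ b : Fin t → (Fin m ⊕ Fin m → F),
      b = fun i => if i = l then comp D hI w l - x else if i = j then comp D hI w j else 0 :=
    ⟨_, rfl⟩
  have hb_eq : ∀ i, b i = if i = l then comp D hI w l - x else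
      if i = j then comp D hI w j else 0 := fun i => by rw [hb]
  have haD : ∀ i, a i ∈ D i := by
    intro i
    rw [ha_eq]
    by_cases h1 : i = l
    · rw [if_pos h1, h1]; exact hxD
    · rw [if_neg h1]
      by_cases h3 : i ∈ J
      · rw [if_pos h3]; exact comp_mem D hI w i
      · rw [if_neg h3]; exact (D i).zero_mem
  have hbD : ∀ i, b i ∈ D i := by
    intro i
    rw [hb_eq]
    by_cases h1 : i = l
    · rw [if_pos h1, h1]; exact (D l).sub_mem (comp_mem D hI w l) hxD
    · rw [if_neg h1]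
      by_cases h2 : i = j
      · rw [if_pos h2, h2]; exact comp_mem D hI w j
      · rw [if_neg h2]; exact (D i).zero_mem
  have hsum : (∑ i, a i) + (∑ i, b i) = w := by
    rw [← Finset.sum_add_distrib]
    conv_rhs => rw [← sum_comp D hI w]
    apply Finset.sum_congr rfl
    intro i _
    rw [ha_eq, hb_eq]
    by_cases h1 : i = l
    · rw [if_pos h1, if_pos h1, h1]; abel
    · rw [if_neg h1, if_neg h1]
      by_cases h2 : i = j
      · rw [if_pos h2, h2, if_neg hj, zero_add]
      · rw [if_neg h2, add_zero]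
        by_cases h3 : i ∈ J
        · rw [if_pos h3]
        · rw [if_neg h3]
          by_contra h
          have := (hw i).mp (Ne.symm h)
          rw [Finset.mem_insert] at this
          rcases this with h' | h'
          · exact h2 h'
          · exact h3 h'
  have haS : (∑ i, a i) ∈ Sset M := by
    apply hJ
    intro i
    rw [comp_eq_of_sum D hI a haD, ha_eq]
    by_cases h1 : i = l
    · rw [if_pos h1, h1]
      exact ⟨fun _ => hl, fun _ => hx0⟩
    · rw [if_neg h1]
      by_cases h3 : i ∈ J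
      · rw [if_pos h3]
        exact ⟨fun _ => h3, fun _ => (hw i).mpr (Finset.mem_insert_of_mem h3)⟩
      · rw [if_neg h3]
        exact ⟨fun h => absurd rfl h, fun h => absurd h h3⟩
  have hbS : (∑ i, b i) ∈ Sset M := by
    apply hlj
    intro i
    rw [comp_eq_of_sum D hI b hbD, hb_eq]
    by_cases h1 : i = l
    · rw [if_pos h1, h1]
      refine ⟨fun _ => Finset.mem_insert_self _ _, fun _ h0 => ?_⟩
      apply hx
      rw [sub_eq_zero.mp h0, sympForm_self]
    · rw [if_neg h1]
      by_cases h2 : i = j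
      · rw [if_pos h2, h2]
        refine ⟨fun _ => ?_, fun _ => (hw j).mpr (Finset.mem_insert_self _ _)⟩
        rw [Finset.mem_insert, Finset.mem_singleton]
        right; rfl
      · rw [if_neg h2]
        refine ⟨fun h => absurd rfl h, fun h => ?_⟩
        rw [Finset.mem_insert, Finset.mem_singleton] at h
        rcases h with h | h
        · exact absurd h h1
        · exact absurd h h2
  have hform : sympForm m F (∑ i, a i) (∑ i, b i) ≠ 0 := by
    rw [form_decomp D hD hI, Finset.sum_eq_single l]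
    · rw [comp_eq_of_sum D hI a haD, comp_eq_of_sum D hI b hbD, ha_eq, hb_eq, if_pos rfl,
        if_pos rfl, sympForm_sub_right, sympForm_self, sub_zero, sympForm_swap]
      exact neg_ne_zero.mpr hx
    · intro i _ hil
      rw [comp_eq_of_sum D hI a haD, comp_eq_of_sum D hI b hbD, ha_eq, hb_eq, if_neg hil,
        if_neg hil]
      by_cases h2 : i = j
      · rw [h2, if_neg hj, sympForm_zero_left]
      · rw [if_neg h2, sympForm_zero_right]
    · intro h; exact absurd (Finset.mem_univ l) h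
  rw [← hsum]
  exact hyp_closure hMS haS hbS hform

end Supp

section Fin
variable {F : Type*} [Field F] {m : ℕ} {t : ℕ} {k : ℕ}
  (D : Fin t → Submodule F (Fin m ⊕ Fin m → F))
  (hD : Geo.IsNondegenerateMDecomposition (sympForm m F) k D)
  (hI : DirectSum.IsInternal D)

include hD in
lemma shrink [Fintype F] (hex : ¬ (k = 2 ∧ Fintype.card F = 2))
    {M : Subgroup (GL (Fin m ⊕ Fin m) F)} (hMS : M ≤ spGL m F) {J : Finset (Fin t)}
    {i l₀ : Fin t} (hJ : Psupp D hI M J) (hi : i ∈ J) (hl₀ : l₀ ∈ J) (hne : l₀ ≠ i) :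
    Psupp D hI M (J.erase i) := by
  classical
  intro w hw
  have hwi : comp D hI w i = 0 := by
    by_contra h
    exact (Finset.notMem_erase i J) ((hw i).mp h)
  have hwl₀ : comp D hI w l₀ ≠ 0 := (hw l₀).mpr (Finset.mem_erase.mpr ⟨hne, hl₀⟩)
  obtain ⟨y, hyD, hy⟩ := ND_block D hD l₀ _ (comp_mem D hI w l₀) hwl₀
  have hy0 : y ≠ 0 := by
    rintro rfl
    exact hy (sympForm_zero_right _)
  obtain ⟨x, hxD, hx0⟩ := exists_ne_zero_block D hD i
  have hZ : ∀ j, ∃ z, z ∈ D j ∧ (comp D hI w j ≠ 0 →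
      z ≠ 0 ∧ z ≠ comp D hI w j ∧ sympForm m F z (comp D hI w j) = 0) := by
    intro j
    by_cases h : comp D hI w j = 0
    · exact ⟨0, (D j).zero_mem, fun h' => absurd h h'⟩
    · obtain ⟨z, hz, h1, h2, h3⟩ := exists_Z D hD hex j (comp_mem D hI w j) h
      exact ⟨z, hz, fun _ => ⟨h1, h2, h3⟩⟩
  choose Z hZD hZp using hZ
  obtain ⟨a, ha⟩ : ∃ a : Fin t → (Fin m ⊕ Fin m → F),
      a = fun j => if j = i then x else if j = l₀ then y else if j ∈ J then Z j else 0 :=
    ⟨_, rfl⟩
  have ha_eq : ∀ j, a j = if j = i then x else if j = l₀ then y else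
      if j ∈ J then Z j else 0 := fun j => by rw [ha]
  obtain ⟨b, hb⟩ : ∃ b : Fin t → (Fin m ⊕ Fin m → F), b = fun j => comp D hI w j - a j :=
    ⟨_, rfl⟩
  have hb_eq : ∀ j, b j = comp D hI w j - a j := fun j => by rw [hb]
  have haD : ∀ j, a j ∈ D j := by
    intro j
    rw [ha_eq]
    by_cases h1 : j = i
    · rw [if_pos h1, h1]; exact hxD
    · rw [if_neg h1]
      by_cases h2 : j = l₀
      · rw [if_pos h2, h2]; exact hyD
      · rw [if_neg h2]
        by_cases h3 : j ∈ J
        · rw [if_pos h3]; exact hZD j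
        · rw [if_neg h3]; exact (D j).zero_mem
  have hbD : ∀ j, b j ∈ D j := fun j => by
    rw [hb_eq]; exact (D j).sub_mem (comp_mem D hI w j) (haD j)
  have hsum : (∑ j, a j) + (∑ j, b j) = w := by
    rw [← Finset.sum_add_distrib]
    conv_rhs => rw [← sum_comp D hI w]
    apply Finset.sum_congr rfl
    intro j _
    rw [hb_eq, add_sub_cancel]
  -- membership in J.erase i for j ≠ i
  have hmemJ : ∀ j, j ≠ i → (comp D hI w j ≠ 0 ↔ j ∈ J) := by
    intro j hji
    rw [hw j, Finset.mem_erase]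
    exact ⟨fun h => h.2, fun h => ⟨hji, h⟩⟩
  have haS : (∑ j, a j) ∈ Sset M := by
    apply hJ
    intro j
    rw [comp_eq_of_sum D hI a haD, ha_eq]
    by_cases h1 : j = i
    · rw [if_pos h1, h1]
      exact ⟨fun _ => hi, fun _ => hx0⟩
    · rw [if_neg h1]
      by_cases h2 : j = l₀
      · rw [if_pos h2, h2]
        exact ⟨fun _ => hl₀, fun _ => hy0⟩
      · rw [if_neg h2]
        by_cases h3 : j ∈ J
        · rw [if_pos h3]
          exact ⟨fun _ => h3, fun _ => (hZp j ((hmemJ j h1).mpr h3)).1⟩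
        · rw [if_neg h3]
          exact ⟨fun h => absurd rfl h, fun h => absurd h h3⟩
  have hbS : (∑ j, b j) ∈ Sset M := by
    apply hJ
    intro j
    rw [comp_eq_of_sum D hI b hbD, hb_eq, ha_eq]
    by_cases h1 : j = i
    · rw [if_pos h1, h1, hwi, zero_sub]
      exact ⟨fun _ => hi, fun _ => neg_ne_zero.mpr hx0⟩
    · rw [if_neg h1]
      by_cases h2 : j = l₀
      · rw [if_pos h2, h2]
        refine ⟨fun _ => hl₀, fun _ h0 => ?_⟩
        apply hy
        rw [sub_eq_zero.mp h0, sympForm_self]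
      · rw [if_neg h2]
        by_cases h3 : j ∈ J
        · rw [if_pos h3]
          refine ⟨fun _ => h3, fun _ h0 => ?_⟩
          exact (hZp j ((hmemJ j h1).mpr h3)).2.1 (sub_eq_zero.mp h0).symm
        · rw [if_neg h3, sub_zero]
          exact hmemJ j h1
  have hform : sympForm m F (∑ j, a j) (∑ j, b j) ≠ 0 := by
    rw [form_decomp D hD hI, Finset.sum_eq_single l₀]
    · rw [comp_eq_of_sum D hI a haD, comp_eq_of_sum D hI b hbD, hb_eq, ha_eq, if_neg hne,
        if_pos rfl, sympForm_sub_right, sympForm_self, sub_zero, sympForm_swap]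
      exact neg_ne_zero.mpr hy
    · intro j _ hjl
      rw [comp_eq_of_sum D hI a haD, comp_eq_of_sum D hI b hbD, hb_eq, sympForm_sub_right,
        sympForm_self, sub_zero, ha_eq]
      by_cases h1 : j = i
      · rw [if_pos h1, h1, hwi, sympForm_zero_right]
      · rw [if_neg h1, if_neg hjl]
        by_cases h3 : j ∈ J
        · rw [if_pos h3]
          exact (hZp j ((hmemJ j h1).mpr h3)).2.2
        · rw [if_neg h3, sympForm_zero_left]
    · intro h; exact absurd (Finset.mem_univ l₀) h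
  rw [← hsum]
  exact hyp_closure hMS haS hbS hform

include hD in
lemma exists_mixed {g : GL (Fin m ⊕ Fin m) F} (hg : g ∉ Geo.decompositionStabilizer D) :
    ∃ i, ∃ d ∈ D i, ∃ l₁ l₂, l₁ ≠ l₂ ∧
      comp D hI ((g : Matrix (Fin m ⊕ Fin m) (Fin m ⊕ Fin m) F) *ᵥ d) l₁ ≠ 0 ∧
      comp D hI ((g : Matrix (Fin m ⊕ Fin m) (Fin m ⊕ Fin m) F) *ᵥ d) l₂ ≠ 0 := by
  classical
  by_contra hcon
  push Not at hcon
  apply hg
  have hsingle : ∀ i, ∀ d ∈ D i, ∀ l,
      comp D hI ((g : Matrix (Fin m ⊕ Fin m) (Fin m ⊕ Fin m) F) *ᵥ d) l ≠ 0 →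
      (g : Matrix (Fin m ⊕ Fin m) (Fin m ⊕ Fin m) F) *ᵥ d ∈ D l := by
    intro i d hd l hl
    have h1 : (g : Matrix (Fin m ⊕ Fin m) (Fin m ⊕ Fin m) F) *ᵥ d =
        comp D hI ((g : Matrix (Fin m ⊕ Fin m) (Fin m ⊕ Fin m) F) *ᵥ d) l := by
      conv_lhs => rw [← sum_comp D hI ((g : Matrix (Fin m ⊕ Fin m) (Fin m ⊕ Fin m) F) *ᵥ d)]
      rw [Finset.sum_eq_single l]
      · intro l' _ hl'
        exact hcon i d hd l l' (Ne.symm hl') hl
      · intro h; exact absurd (Finset.mem_univ l) h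
    rw [h1]
    exact comp_mem D hI _ l
  have hnz : ∀ v : Fin m ⊕ Fin m → F, v ≠ 0 → ∃ l, comp D hI v l ≠ 0 := by
    intro v hv
    by_contra h
    push Not at h
    apply hv
    rw [← sum_comp D hI v]
    exact Finset.sum_eq_zero (fun l _ => h l)
  have hτ : ∀ i, ∃ l, ∀ d ∈ D i, (g : Matrix (Fin m ⊕ Fin m) (Fin m ⊕ Fin m) F) *ᵥ d ∈ D l := by
    intro i
    obtain ⟨d₀, hd₀, hd₀0⟩ := exists_ne_zero_block D hD i
    have hgd₀ : (g : Matrix (Fin m ⊕ Fin m) (Fin m ⊕ Fin m) F) *ᵥ d₀ ≠ 0 := by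
      intro h
      apply hd₀0
      apply mulVec_inj g
      rw [h, Matrix.mulVec_zero]
    obtain ⟨l₀, hl₀⟩ := hnz _ hgd₀
    refine ⟨l₀, fun d hd => ?_⟩
    by_cases hgd : (g : Matrix (Fin m ⊕ Fin m) (Fin m ⊕ Fin m) F) *ᵥ d = 0
    · rw [hgd]; exact (D l₀).zero_mem
    obtain ⟨l, hl⟩ := hnz _ hgd
    by_cases hll : l = l₀
    · rw [← hll]; exact hsingle i d hd l hl
    exfalso
    have h1 := hcon i (d + d₀) ((D i).add_mem hd hd₀) l l₀ hll
    rw [Matrix.mulVec_add, comp_add, comp_add] at h1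
    have e1 : comp D hI ((g : Matrix (Fin m ⊕ Fin m) (Fin m ⊕ Fin m) F) *ᵥ d₀) l = 0 :=
      hcon i d₀ hd₀ l₀ l (Ne.symm hll) hl₀
    have e2 : comp D hI ((g : Matrix (Fin m ⊕ Fin m) (Fin m ⊕ Fin m) F) *ᵥ d) l₀ = 0 :=
      hcon i d hd l l₀ hll hl
    rw [e1, e2, add_zero, zero_add] at h1
    exact hl₀ (h1 hl)
  choose τ hτ using hτ
  have hmap : ∀ i, (D i).map
      (Matrix.toLin' (g : Matrix (Fin m ⊕ Fin m) (Fin m ⊕ Fin m) F)) = D (τ i) := fun i =>
    map_eq_of_maps (hτ i) (by rw [hD.decomp.finrank_eq, hD.decomp.finrank_eq])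
  have hinj : Function.Injective τ := by
    intro i i' h
    by_contra hne
    have h2 : (D i).map (Matrix.toLin' (g : Matrix (Fin m ⊕ Fin m) (Fin m ⊕ Fin m) F)) =
        (D i').map (Matrix.toLin' (g : Matrix (Fin m ⊕ Fin m) (Fin m ⊕ Fin m) F)) := by
      rw [hmap, hmap, h]
    obtain ⟨d, hd, hd0⟩ := exists_ne_zero_block D hD i
    have h3 : (g : Matrix (Fin m ⊕ Fin m) (Fin m ⊕ Fin m) F) *ᵥ d ∈ (D i').map
        (Matrix.toLin' (g : Matrix (Fin m ⊕ Fin m) (Fin m ⊕ Fin m) F)) := by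
      rw [← h2]
      exact ⟨d, hd, by rw [Matrix.toLin'_apply]⟩
    obtain ⟨d', hd', hdd⟩ := h3
    rw [Matrix.toLin'_apply] at hdd
    have hdd' : d' = d := mulVec_inj g hdd
    rw [hdd'] at hd'
    have e1 := comp_of_mem D hI hd i
    rw [if_pos rfl] at e1
    have e2 := comp_of_mem D hI hd' i
    rw [if_neg hne] at e2
    exact hd0 (e1.symm.trans e2)
  rw [mem_dstab]
  have hbij : Function.Bijective τ := Finite.injective_iff_bijective.mp hinj
  refine ⟨Equiv.ofBijective τ hbij, fun i => ?_⟩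
  exact hmap i

include hD in
lemma shrink_all [Fintype F] (hex : ¬ (k = 2 ∧ Fintype.card F = 2))
    {M : Subgroup (GL (Fin m ⊕ Fin m) F)} (hMS : M ≤ spGL m F) {l₁ l₂ : Fin t} :
    ∀ (n : ℕ) (J : Finset (Fin t)), J.card = n → l₁ ∈ J → l₂ ∈ J → Psupp D hI M J →
      Psupp D hI M {l₁, l₂} := by
  classical
  intro n
  induction n with
  | zero =>
    intro J hc h1
    rw [Finset.card_eq_zero] at hc
    rw [hc] at h1
    exact absurd h1 (Finset.notMem_empty _)
  | succ n ih =>
    intro J hc h1 h2 hJ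
    by_cases hsub : J ⊆ {l₁, l₂}
    · have hJe : J = {l₁, l₂} := by
        apply Finset.Subset.antisymm hsub
        intro x hx
        rw [Finset.mem_insert, Finset.mem_singleton] at hx
        rcases hx with rfl | rfl
        · exact h1
        · exact h2
      rw [← hJe]; exact hJ
    · obtain ⟨i, hiJ, hi⟩ := Finset.not_subset.mp hsub
      rw [Finset.mem_insert, Finset.mem_singleton, not_or] at hi
      have hne1 : l₁ ≠ i := fun h => hi.1 h.symm
      have hne2 : l₂ ≠ i := fun h => hi.2 h.symm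
      have h3 := shrink D hD hI hex hMS hJ hiJ h1 hne1
      exact ih (J.erase i) (by rw [Finset.card_erase_of_mem hiJ, hc]; rfl)
        (Finset.mem_erase.mpr ⟨hne1, h1⟩) (Finset.mem_erase.mpr ⟨hne2, h2⟩) h3

include hD in
lemma Psupp_all {M : Subgroup (GL (Fin m ⊕ Fin m) F)} (hMS : M ≤ spGL m F)
    (hHM : Geo.decompositionStabilizer D ⊓ spGL m F ≤ M)
    (hpair : ∀ i' j' : Fin t, i' ≠ j' → Psupp D hI M {i', j'}) (J : Finset (Fin t)) :
    Psupp D hI M J := by
  classical
  induction J using Finset.induction_on with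
  | empty =>
    intro v hv
    have : v = 0 := by
      rw [← sum_comp D hI v]
      apply Finset.sum_eq_zero
      intro i _
      by_contra h
      exact absurd ((hv i).mp h) (Finset.notMem_empty _)
    rw [this]
    exact zero_mem_Sset M
  | insert j J hj ih =>
    by_cases hJe : J = ∅
    · subst hJe
      intro v hv
      have hvj : v = comp D hI v j := by
        conv_lhs => rw [← sum_comp D hI v]
        rw [Finset.sum_eq_single j]
        · intro i _ hij
          by_contra h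
          have := (hv i).mp h
          rw [Finset.mem_insert] at this
          rcases this with h1 | h1
          · exact hij h1
          · exact absurd h1 (Finset.notMem_empty _)
        · intro h; exact absurd (Finset.mem_univ j) h
      have hvD : v ∈ D j := by rw [hvj]; exact comp_mem D hI v j
      intro c
      exact hHM (tvc_mem_H D hD hvD c)
    · obtain ⟨l, hl⟩ := Finset.nonempty_iff_ne_empty.mpr hJe
      have hlj : l ≠ j := fun h => hj (h ▸ hl)
      exact grow D hD hI hMS ih (hpair l j hlj) hl hj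

end Fin

section Main

theorem main {F : Type*} [Field F] [Fintype F] (m : ℕ) {t : ℕ} (k : ℕ)
    (D : Fin t → Submodule F (Fin m ⊕ Fin m → F))
    (hD : Geo.IsNondegenerateMDecomposition (sympForm m F) k D)
    (hex : ¬ (k = 2 ∧ Fintype.card F = 2)) :
    Geo.IsMaximalIn (spGL m F) (Geo.decompositionStabilizer D ⊓ spGL m F) := by
  classical
  have hI : DirectSum.IsInternal D :=
    DirectSum.isInternal_submodule_of_iSupIndep_of_iSup_eq_top hD.decomp.indep
      hD.decomp.iSup_eq_top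
  refine ⟨lt_of_le_of_ne inf_le_right ?_, ?_⟩
  · -- strictness
    intro hEq
    have ht := hD.decomp.two_le
    obtain ⟨i₀, hi₀⟩ : ∃ i₀ : Fin t, i₀ = ⟨0, by omega⟩ := ⟨_, rfl⟩
    obtain ⟨i₁, hi₁⟩ : ∃ i₁ : Fin t, i₁ = ⟨1, by omega⟩ := ⟨_, rfl⟩
    have h01 : i₀ ≠ i₁ := by
      rw [hi₀, hi₁]
      intro h
      have := congrArg Fin.val h
      simp at this
    obtain ⟨a, haD, ha0⟩ := exists_ne_zero_block D hD i₀
    obtain ⟨b, hbD, hb0⟩ := exists_ne_zero_block D hD i₁
    obtain ⟨x, hxD, hax⟩ := ND_block D hD i₀ a haD ha0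
    have hT : tvc (a + b) 1 ∈ Geo.decompositionStabilizer D ⊓ spGL m F := by
      rw [hEq]; exact tvc_mem _ _
    obtain ⟨σ, hσ⟩ := (mem_dstab D).mp hT.1
    obtain ⟨c, hc⟩ : ∃ c, c = sympForm m F x a := ⟨_, rfl⟩
    have hc0 : c ≠ 0 := by
      rw [hc, sympForm_swap]
      exact neg_ne_zero.mpr hax
    have hTx : ((tvc (a + b) 1 : GL (Fin m ⊕ Fin m) F) :
        Matrix (Fin m ⊕ Fin m) (Fin m ⊕ Fin m) F) *ᵥ x = (x + c • a) + c • b := by
      rw [tvc_mulVec, one_mul, sympForm_add_right, orth D hD h01 hxD hbD, add_zero, ← hc,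
        smul_add, add_assoc]
    have hs : (x + c • a) + c • b ∈ D (σ i₀) := by
      rw [← hTx, ← hσ i₀]
      exact ⟨x, hxD, by rw [Matrix.toLin'_apply]⟩
    have hxa : x + c • a ∈ D i₀ := (D i₀).add_mem hxD ((D i₀).smul_mem _ haD)
    have hcb : c • b ∈ D i₁ := (D i₁).smul_mem _ hbD
    have e1 : comp D hI ((x + c • a) + c • b) i₁ = c • b := by
      rw [comp_add, comp_of_mem D hI hxa, comp_of_mem D hI hcb, if_neg (Ne.symm h01),
        if_pos rfl, zero_add]
    have e0 : comp D hI ((x + c • a) + c • b) i₀ = x + c • a := by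
      rw [comp_add, comp_of_mem D hI hxa, comp_of_mem D hI hcb, if_neg h01,
        if_pos rfl, add_zero]
    have hl1 : i₁ = σ i₀ := by
      by_contra h
      have := comp_of_mem D hI hs i₁
      rw [if_neg h, e1] at this
      exact smul_ne_zero hc0 hb0 this
    have hz : x + c • a = 0 := by
      have := comp_of_mem D hI hs i₀
      rw [if_neg (by rw [← hl1]; exact h01), e0] at this
      exact this
    have : sympForm m F (x + c • a) a = c := by
      rw [sympForm_add_left, sympForm_smul_left, sympForm_self, mul_zero, add_zero, hc]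
    rw [hz, sympForm_zero_left] at this
    exact hc0 this.symm
  · intro M hHM hMS
    by_cases hMH : M = Geo.decompositionStabilizer D ⊓ spGL m F
    · left; exact hMH
    right
    apply le_antisymm hMS
    obtain ⟨g, hgM, hgH⟩ := SetLike.exists_of_lt (lt_of_le_of_ne hHM (Ne.symm hMH))
    have hg : g ∉ Geo.decompositionStabilizer D := fun h => hgH ⟨h, hMS hgM⟩
    obtain ⟨i, d, hd, l₁, l₂, hl12, hc1, hc2⟩ := exists_mixed D hD hI hg
    have hdS : d ∈ Sset M := fun c => hHM (tvc_mem_H D hD hd c)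
    have hsS := Sset_mulVec_mem hMS hgM hdS
    obtain ⟨s₀, hs₀⟩ : ∃ s₀, s₀ = (g : Matrix (Fin m ⊕ Fin m) (Fin m ⊕ Fin m) F) *ᵥ d :=
      ⟨_, rfl⟩
    rw [← hs₀] at hsS hc1 hc2
    have hJ₀ : Psupp D hI M (Finset.univ.filter (fun l => comp D hI s₀ l ≠ 0)) :=
      Psupp_of_mem D hD hI hMS hHM hsS (fun i => by
        rw [Finset.mem_filter]
        exact ⟨fun h => ⟨Finset.mem_univ _, h⟩, fun h => h.2⟩)
    have h12 : Psupp D hI M {l₁, l₂} :=
      shrink_all D hD hI hex hMS _ _ rfl
        (Finset.mem_filter.mpr ⟨Finset.mem_univ _, hc1⟩)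
        (Finset.mem_filter.mpr ⟨Finset.mem_univ _, hc2⟩) hJ₀
    have hpair := Psupp_pair D hD hI hMS hHM hl12 h12
    apply le_of_forall_mem_Sset
    intro v
    apply Psupp_all D hD hI hMS hHM hpair (Finset.univ.filter (fun l => comp D hI v l ≠ 0))
    intro i
    rw [Finset.mem_filter]
    exact ⟨fun h => ⟨Finset.mem_univ _, h⟩, fun h => h.2⟩

end Main

end S5647aux
end Aux

/-- For a finite field F with q elements and m ≥ 7, let D be a decomposition of F^(2m) into t ≥ 2 pairwise orthogonal subspaces of equal dimension k on each of which the standard alternating form is non-degenerate, spanning F^(2m). Unless k = 2 and q = 2, the elements of Sp_2m(F) permuting the members of D form a maximal subgroup of Sp_2m(F). -/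
theorem result {F : Type*} [Field F] [Fintype F] (m : ℕ) (hm : 7 ≤ m) {t : ℕ} (k : ℕ) (D : Fin t → Submodule F (Fin m ⊕ Fin m → F)) (hD : Cfsg.Geo.IsNondegenerateMDecomposition (Cfsg.sympForm m F) k D) (hex : ¬ (k = 2 ∧ Fintype.card F = 2)) : Cfsg.Geo.IsMaximalIn (Cfsg.spGL m F) (Cfsg.Geo.decompositionStabilizer D ⊓ Cfsg.spGL m F) := by
  exact S5647aux.main m k D hD hex

end Cfsg.Agent.S5647
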