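import Cfsg.Statements.S5649
import Mathlib
import Cfsg.Agent.Lib.Helper5.SpMax
import Cfsg.Agent.S5645
import Cfsg.Agent.S5647

set_option autoImplicit false
open Cfsg

namespace Cfsg.Agent.S5649

section Aux
set_option linter.unusedSectionVars false
set_option linter.unusedVariables false
set_option linter.unusedSimpArgs false
namespace S5649aux
open Cfsg Matrix Cfsg.Agent.Lib.Helper5 Cfsg.Agent.Lib.Helper5.SpMax
open Cfsg.Agent.S5645.S5645aux (sieg sieg_mem sieg_mulVec tvc_smul Sset_smul)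
open Cfsg.Agent.S5647.S5647aux (map_eq_of_maps finrank_map_gl zero_mem_Sset)

section Basics
variable {F : Type*} [Field F] {m : ℕ}

/-- `x ↦ f x v` as a linear functional -/
noncomputable def sL (v : Fin m ⊕ Fin m → F) : (Fin m ⊕ Fin m → F) →ₗ[F] F where
  toFun x := sympForm m F x v
  map_add' x y := sympForm_add_left x y v
  map_smul' c x := by
    simp only [RingHom.id_apply, smul_eq_mul]
    exact sympForm_smul_left c x v

lemma sL_apply (v x : Fin m ⊕ Fin m → F) : sL v x = sympForm m F x v := rfl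

/-- the hyperplane orthogonal to `v` -/
noncomputable def spp (v : Fin m ⊕ Fin m → F) : Submodule F (Fin m ⊕ Fin m → F) :=
  LinearMap.ker (sL v)

lemma mem_spp {v x : Fin m ⊕ Fin m → F} : x ∈ spp v ↔ sympForm m F x v = 0 := LinearMap.mem_ker

lemma finrank_inf_spp (U : Submodule F (Fin m ⊕ Fin m → F)) (v : Fin m ⊕ Fin m → F) :
    Module.finrank F U ≤ Module.finrank F ↥(U ⊓ spp v) + 1 := by
  have h1 := Submodule.finrank_sup_add_finrank_inf_eq U (spp v)
  have h2 : Module.finrank F ↥(U ⊔ spp v) ≤ Module.finrank F (Fin m ⊕ Fin m → F) :=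
    Submodule.finrank_le _
  have h3 := LinearMap.finrank_range_add_finrank_ker (sL (m := m) (F := F) v)
  have h4 : Module.finrank F ↥(LinearMap.range (sL (m := m) (F := F) v)) ≤ 1 := by
    have := Submodule.finrank_le (LinearMap.range (sL (m := m) (F := F) v))
    rwa [Module.finrank_self] at this
  have h5 : Module.finrank F ↥(spp v) = Module.finrank F ↥(LinearMap.ker (sL (m := m) (F := F) v)) :=
    rfl
  omega

lemma sympForm_zero_right (z : Fin m ⊕ Fin m → F) : sympForm m F z 0 = 0 := by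
  rw [sympForm_swap, sympForm_zero_left, neg_zero]

lemma symm_zero {x y : Fin m ⊕ Fin m → F} (h : sympForm m F x y = 0) : sympForm m F y x = 0 := by
  rw [sympForm_swap, h, neg_zero]

/-- a pair of complementary totally isotropic subspaces -/
structure LP (A B : Submodule F (Fin m ⊕ Fin m → F)) : Prop where
  hA : ∀ x ∈ A, ∀ y ∈ A, sympForm m F x y = 0
  hB : ∀ x ∈ B, ∀ y ∈ B, sympForm m F x y = 0
  hc : IsCompl A B

lemma LP.symm {A B : Submodule F (Fin m ⊕ Fin m → F)} (h : LP A B) : LP B A :=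
  ⟨h.hB, h.hA, h.hc.symm⟩

variable {A B : Submodule F (Fin m ⊕ Fin m → F)} (h : LP A B)
include h

lemma LP.inf_eq {x : Fin m ⊕ Fin m → F} (hxA : x ∈ A) (hxB : x ∈ B) : x = 0 := by
  have := h.hc.inf_eq_bot
  have hx : x ∈ A ⊓ B := Submodule.mem_inf.mpr ⟨hxA, hxB⟩
  rw [this, Submodule.mem_bot] at hx
  exact hx

lemma LP.nd {a : Fin m ⊕ Fin m → F} (ha : a ∈ A) (ha0 : a ≠ 0) :
    ∃ b ∈ B, sympForm m F a b ≠ 0 := by
  obtain ⟨v, hv⟩ := sympForm_nondeg a ha0
  have hdec := Submodule.projection_add_projection_eq_self h.hc v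
  refine ⟨B.projection A h.hc.symm v, Submodule.projection_apply_mem _ _, ?_⟩
  intro h0
  apply hv
  rw [← hdec, sympForm_add_right, h0, add_zero]
  exact h.hA a ha _ (Submodule.projection_apply_mem _ _)

lemma LP.sep {a₁ a₂ : Fin m ⊕ Fin m → F} (ha₁ : a₁ ∈ A) (ha₂ : a₂ ∈ A) (ha₁0 : a₁ ≠ 0)
    (hind : a₂ ∉ Submodule.span F {a₁}) :
    ∃ b ∈ B, sympForm m F a₁ b = 0 ∧ sympForm m F a₂ b ≠ 0 := by
  obtain ⟨b₁, hb₁, hab₁⟩ := h.nd ha₁ ha₁0
  obtain ⟨a₂', ha₂'def⟩ : ∃ a₂', a₂' = a₂ - (sympForm m F a₂ b₁ / sympForm m F a₁ b₁) • a₁ :=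
    ⟨_, rfl⟩
  have ha₂'A : a₂' ∈ A := by rw [ha₂'def]; exact A.sub_mem ha₂ (A.smul_mem _ ha₁)
  have ha₂'0 : a₂' ≠ 0 := by
    intro h0
    apply hind
    rw [ha₂'def, sub_eq_zero] at h0
    rw [h0]
    exact Submodule.smul_mem _ _ (Submodule.mem_span_singleton_self a₁)
  obtain ⟨b₂, hb₂, hab₂⟩ := h.nd ha₂'A ha₂'0
  refine ⟨b₂ - (sympForm m F a₁ b₂ / sympForm m F a₁ b₁) • b₁,
    B.sub_mem hb₂ (B.smul_mem _ hb₁), ?_, ?_⟩
  · rw [sympForm_sub_right, sympForm_smul_right, div_mul_cancel₀ _ hab₁, sub_self]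
  · rw [ha₂'def, sympForm_sub_left, sympForm_smul_left] at hab₂
    rw [sympForm_sub_right, sympForm_smul_right]
    intro h0
    apply hab₂
    rw [← h0]
    field_simp

end Basics

section Sieg
variable {F : Type*} [Field F] {m : ℕ}

lemma conj_sieg {g : GL (Fin m ⊕ Fin m) F} (hg : g ∈ spGL m F) (w u : Fin m ⊕ Fin m → F) :
    g * sieg w u * g⁻¹ = sieg ((g : Matrix (Fin m ⊕ Fin m) (Fin m ⊕ Fin m) F) *ᵥ w)
      ((g : Matrix (Fin m ⊕ Fin m) (Fin m ⊕ Fin m) F) *ᵥ u) := by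
  unfold sieg
  rw [← Matrix.mulVec_add, ← conj_tvc hg, ← conj_tvc hg, ← conj_tvc hg]
  group

lemma sieg_comm (u w w' : Fin m ⊕ Fin m → F) (hw : sympForm m F w u = 0)
    (hw' : sympForm m F w' u = 0) :
    sieg u w * sieg u w' =
      tvc u (sympForm m F w' w - sympForm m F w w') * (sieg u w' * sieg u w) := by
  have huw : sympForm m F u w = 0 := symm_zero hw
  have huw' : sympForm m F u w' = 0 := symm_zero hw'
  apply Units.ext
  apply mat_eq_of_mulVec
  intro x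
  rw [Units.val_mul, Units.val_mul, Units.val_mul, ← Matrix.mulVec_mulVec, ← Matrix.mulVec_mulVec,
    ← Matrix.mulVec_mulVec, sieg_mulVec u w' hw', sieg_mulVec u w hw, sieg_mulVec u w hw,
    sieg_mulVec u w' hw', tvc_mulVec]
  simp only [sympForm_add_left, sympForm_smul_left, hw, hw', huw, huw', sympForm_self, mul_zero,
    add_zero]
  module

/-- the local step: two non-orthogonal Siegel elements with the same centre give its transvections -/
lemma local_step (h2 : (2 : F) ≠ 0) {M : Subgroup (GL (Fin m ⊕ Fin m) F)} (hMS : M ≤ spGL m F)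
    {B : Submodule F (Fin m ⊕ Fin m → F)} {a : Fin m ⊕ Fin m → F}
    (hE : ∀ b ∈ B, sympForm m F b a = 0 → sieg a b ∈ M)
    {m₀ : GL (Fin m ⊕ Fin m) F} (hm₀ : m₀ ∈ M)
    (hfix : (m₀ : Matrix (Fin m ⊕ Fin m) (Fin m ⊕ Fin m) F) *ᵥ a = a)
    {b₂ w : Fin m ⊕ Fin m → F} (hb₂ : b₂ ∈ B) (hb₂a : sympForm m F b₂ a = 0) (hw : w ∈ B)
    (hwa : sympForm m F w a = 0)
    (hne : sympForm m F ((m₀ : Matrix (Fin m ⊕ Fin m) (Fin m ⊕ Fin m) F) *ᵥ b₂) w ≠ 0) :
    a ∈ Sset M := by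
  intro c
  obtain ⟨w', hw'def⟩ : ∃ w', w' = (m₀ : Matrix (Fin m ⊕ Fin m) (Fin m ⊕ Fin m) F) *ᵥ b₂ :=
    ⟨_, rfl⟩
  rw [← hw'def] at hne
  have hw'a : sympForm m F w' a = 0 := by
    have h1 := mem_spGL.mp (hMS hm₀) b₂ a
    rw [hfix, ← hw'def] at h1
    rw [h1]
    exact hb₂a
  have hsw' : sieg a w' ∈ M := by
    have h1 : sieg a w' = m₀ * sieg a b₂ * m₀⁻¹ := by rw [conj_sieg (hMS hm₀), hfix, hw'def]
    rw [h1]
    exact M.mul_mem (M.mul_mem hm₀ (hE b₂ hb₂ hb₂a)) (M.inv_mem hm₀)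
  obtain ⟨d, hddef⟩ : ∃ d, d = sympForm m F w' w - sympForm m F w w' := ⟨_, rfl⟩
  have hd0 : d ≠ 0 := by
    rw [hddef, sympForm_swap m w w']
    intro h0
    apply hne
    have h3 : (2 : F) * sympForm m F w' w = 0 := by linear_combination h0
    exact (mul_eq_zero.mp h3).resolve_left h2
  have hlw : sympForm m F ((c / d) • w) a = 0 := by rw [sympForm_smul_left, hwa, mul_zero]
  have hslw : sieg a ((c / d) • w) ∈ M := hE _ (B.smul_mem _ hw) hlw
  have h4 := sieg_comm a ((c / d) • w) w' hlw hw'a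
  have h5 : sympForm m F w' ((c / d) • w) - sympForm m F ((c / d) • w) w' = c := by
    rw [sympForm_smul_right, sympForm_smul_left, ← mul_sub, ← hddef, div_mul_cancel₀ _ hd0]
  rw [h5] at h4
  have h6 : tvc a c = sieg a ((c / d) • w) * sieg a w' * (sieg a w' * sieg a ((c / d) • w))⁻¹ := by
    rw [h4]
    group
  rw [h6]
  exact M.mul_mem (M.mul_mem hslw hsw') (M.inv_mem (M.mul_mem hsw' hslw))

/-- membership in the Lagrangian `⟨a⟩ + (B ∩ a^⊥)` -/
def InC (B : Submodule F (Fin m ⊕ Fin m → F)) (a x : Fin m ⊕ Fin m → F) : Prop :=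
  ∃ κ : F, ∃ b ∈ B, sympForm m F b a = 0 ∧ x = κ • a + b

lemma local_of_moved (h2 : (2 : F) ≠ 0) {M : Subgroup (GL (Fin m ⊕ Fin m) F)}
    (hMS : M ≤ spGL m F) {A B : Submodule F (Fin m ⊕ Fin m → F)} (h : LP A B)
    {a : Fin m ⊕ Fin m → F} (ha : a ∈ A) (ha0 : a ≠ 0)
    (hE : ∀ b ∈ B, sympForm m F b a = 0 → sieg a b ∈ M)
    {m₀ : GL (Fin m ⊕ Fin m) F} (hm₀ : m₀ ∈ M)
    (hfix : (m₀ : Matrix (Fin m ⊕ Fin m) (Fin m ⊕ Fin m) F) *ᵥ a = a)
    {x : Fin m ⊕ Fin m → F} (hx : InC B a x)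
    (hmx : ¬ InC B a ((m₀ : Matrix (Fin m ⊕ Fin m) (Fin m ⊕ Fin m) F) *ᵥ x)) : a ∈ Sset M := by
  obtain ⟨κ, b₂, hb₂, hb₂a, rfl⟩ := hx
  by_contra hcon
  obtain ⟨y, hydef⟩ : ∃ y, y = (m₀ : Matrix (Fin m ⊕ Fin m) (Fin m ⊕ Fin m) F) *ᵥ b₂ := ⟨_, rfl⟩
  have hya : sympForm m F y a = 0 := by
    have h1 := mem_spGL.mp (hMS hm₀) b₂ a
    rw [hfix, ← hydef] at h1
    rw [h1]
    exact hb₂a
  have hyw : ∀ w ∈ B, sympForm m F w a = 0 → sympForm m F y w = 0 := by
    intro w hw hwa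
    by_contra hne
    rw [hydef] at hne
    exact hcon (local_step h2 hMS hE hm₀ hfix hb₂ hb₂a hw hwa hne)
  have hdec := Submodule.projection_add_projection_eq_self h.hc y
  obtain ⟨yA, hyAdef⟩ : ∃ yA, yA = A.projection B h.hc y := ⟨_, rfl⟩
  obtain ⟨yB, hyBdef⟩ : ∃ yB, yB = B.projection A h.hc.symm y := ⟨_, rfl⟩
  rw [← hyAdef, ← hyBdef] at hdec
  have hyA : yA ∈ A := by rw [hyAdef]; exact Submodule.projection_apply_mem _ _
  have hyB : yB ∈ B := by rw [hyBdef]; exact Submodule.projection_apply_mem _ _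
  have hyBa : sympForm m F yB a = 0 := by
    have h1 : yB = y - yA := by rw [← hdec]; abel
    rw [h1, sympForm_sub_left, hya, h.hA yA hyA a ha, sub_zero]
  have hyAw : ∀ w ∈ B, sympForm m F w a = 0 → sympForm m F yA w = 0 := by
    intro w hw hwa
    have h1 : yA = y - yB := by rw [← hdec]; abel
    rw [h1, sympForm_sub_left, hyw w hw hwa, h.hB yB hyB w hw, sub_zero]
  have hspan : yA ∈ Submodule.span F {a} := by
    by_contra hind
    obtain ⟨b, hb, hab, hyAb⟩ := h.sep ha hyA ha0 hind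
    exact hyAb (hyAw b hb (symm_zero hab))
  obtain ⟨κ', hκ'⟩ := Submodule.mem_span_singleton.mp hspan
  apply hmx
  refine ⟨κ + κ', yB, hyB, hyBa, ?_⟩
  rw [Matrix.mulVec_add, Matrix.mulVec_smul, hfix, ← hydef, ← hdec, ← hκ']
  module

end Sieg

section Global
variable {F : Type*} [Field F] {m : ℕ}

/-- linear dependence of two vectors -/
def Dep (x y : Fin m ⊕ Fin m → F) : Prop :=
  ∃ c₁ c₂ : F, (c₁ ≠ 0 ∨ c₂ ≠ 0) ∧ c₁ • x + c₂ • y = 0

lemma finrank_span_pair_le (x y : Fin m ⊕ Fin m → F) :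
    Module.finrank F ↥(Submodule.span F ({x, y} : Set (Fin m ⊕ Fin m → F))) ≤ 2 := by
  classical
  have h1 := finrank_span_finset_le_card (R := F) ({x, y} : Finset (Fin m ⊕ Fin m → F))
  have h2 : ((({x, y} : Finset (Fin m ⊕ Fin m → F)) : Set (Fin m ⊕ Fin m → F))) = {x, y} := by
    simp
  rw [h2] at h1
  exact h1.trans Finset.card_le_two

lemma dep_of_star (hm : 5 ≤ m) {M : Subgroup (GL (Fin m ⊕ Fin m) F)} (hMS : M ≤ spGL m F)
    {A B : Submodule F (Fin m ⊕ Fin m → F)} (h : LP A B) (hfrA : Module.finrank F A = m)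
    (hE : ∀ a ∈ A, ∀ b ∈ B, sympForm m F b a = 0 → sieg a b ∈ M)
    (hstar : ∀ a ∈ A, a ≠ 0 → ∀ m₀ ∈ M,
      (m₀ : Matrix (Fin m ⊕ Fin m) (Fin m ⊕ Fin m) F) *ᵥ a = a → ∀ x, InC B a x →
      InC B a ((m₀ : Matrix (Fin m ⊕ Fin m) (Fin m ⊕ Fin m) F) *ᵥ x))
    {g : GL (Fin m ⊕ Fin m) F} (hg : g ∈ M) {a' b' : Fin m ⊕ Fin m → F} (ha' : a' ∈ A)
    (hb' : b' ∈ B) (hab : sympForm m F b' a' = 0) :
    Dep (A.projection B h.hc ((g : Matrix (Fin m ⊕ Fin m) (Fin m ⊕ Fin m) F) *ᵥ b'))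
      (A.projection B h.hc ((g : Matrix (Fin m ⊕ Fin m) (Fin m ⊕ Fin m) F) *ᵥ a')) := by
  by_contra hnd
  obtain ⟨u, hudef⟩ : ∃ u, u = (g : Matrix (Fin m ⊕ Fin m) (Fin m ⊕ Fin m) F) *ᵥ a' := ⟨_, rfl⟩
  obtain ⟨w, hwdef⟩ : ∃ w, w = (g : Matrix (Fin m ⊕ Fin m) (Fin m ⊕ Fin m) F) *ᵥ b' := ⟨_, rfl⟩
  rw [← hudef, ← hwdef] at hnd
  have hwu : sympForm m F w u = 0 := by
    rw [hudef, hwdef, mem_spGL.mp (hMS hg)]
    exact hab
  have hm₀ : sieg u w ∈ M := by
    have h1 : sieg u w = g * sieg a' b' * g⁻¹ := by rw [conj_sieg (hMS hg), hudef, hwdef]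
    rw [h1]
    exact M.mul_mem (M.mul_mem hg (hE a' ha' b' hb' hab)) (M.inv_mem hg)
  obtain ⟨uA, huAdef⟩ : ∃ uA, uA = A.projection B h.hc u := ⟨_, rfl⟩
  obtain ⟨wA, hwAdef⟩ : ∃ wA, wA = A.projection B h.hc w := ⟨_, rfl⟩
  rw [← huAdef, ← hwAdef] at hnd
  have huA : uA ∈ A := by rw [huAdef]; exact Submodule.projection_apply_mem _ _
  have hwA : wA ∈ A := by rw [hwAdef]; exact Submodule.projection_apply_mem _ _
  -- a vector of A orthogonal to u and w outside the span of uA, wA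
  obtain ⟨a, haS, haT⟩ : ∃ a ∈ A ⊓ spp u ⊓ spp w,
      a ∉ Submodule.span F ({uA, wA} : Set (Fin m ⊕ Fin m → F)) := by
    apply SetLike.not_le_iff_exists.mp
    intro hle
    have h1 := Submodule.finrank_mono hle
    have h2 := finrank_span_pair_le uA wA
    have h3 := finrank_inf_spp A u
    have h4 := finrank_inf_spp (A ⊓ spp u) w
    omega
  obtain ⟨haS1, haw⟩ := Submodule.mem_inf.mp haS
  obtain ⟨ha, hau⟩ := Submodule.mem_inf.mp haS1
  rw [mem_spp] at hau haw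
  have ha0 : a ≠ 0 := by
    rintro rfl
    exact haT (Submodule.zero_mem _)
  have hfix : (sieg u w : Matrix (Fin m ⊕ Fin m) (Fin m ⊕ Fin m) F) *ᵥ a = a := by
    rw [sieg_mulVec u w hwu, hau, haw, zero_smul, zero_smul, add_zero, add_zero]
  have huAa : uA ∉ Submodule.span F {a} := by
    intro hmem
    obtain ⟨κ, hκ⟩ := Submodule.mem_span_singleton.mp hmem
    by_cases hκ0 : κ = 0
    · apply hnd
      refine ⟨0, 1, Or.inr one_ne_zero, ?_⟩
      rw [← hκ, hκ0]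
      simp
    · apply haT
      have h1 : a = κ⁻¹ • uA := by rw [← hκ, smul_smul, inv_mul_cancel₀ hκ0, one_smul]
      rw [h1]
      exact Submodule.smul_mem _ _ (Submodule.subset_span (by simp))
  obtain ⟨x, hxB, hax, huAx⟩ := h.sep ha huA ha0 huAa
  have hxC : InC B a x := ⟨0, x, hxB, symm_zero hax, by simp⟩
  obtain ⟨κ, b'', hb'', hb''a, hmx⟩ := hstar a ha ha0 _ hm₀ hfix x hxC
  rw [sieg_mulVec u w hwu] at hmx
  have hpx : A.projection B h.hc x = 0 := (Submodule.projection_apply_eq_zero_iff h.hc).mpr hxB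
  have hpb : A.projection B h.hc b'' = 0 := (Submodule.projection_apply_eq_zero_iff h.hc).mpr hb''
  have hpa : A.projection B h.hc a = a := Submodule.projection_apply_of_mem_left h.hc ha
  have h5 := congrArg (A.projection B h.hc) hmx
  rw [map_add, map_add, map_smul, map_smul, map_add, map_smul, hpx, hpb, hpa, ← huAdef, ← hwAdef,
    zero_add, add_zero] at h5
  have hxu : sympForm m F x u = sympForm m F x uA := by
    have hdec := Submodule.projection_add_projection_eq_self h.hc u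
    rw [← huAdef] at hdec
    conv_lhs => rw [← hdec]
    rw [sympForm_add_right, h.hB x hxB _ (Submodule.projection_apply_mem _ _), add_zero]
  have hxu0 : sympForm m F x u ≠ 0 := by
    rw [hxu]
    intro h0
    exact huAx (symm_zero h0)
  by_cases hκ0 : κ = 0
  · apply hnd
    refine ⟨sympForm m F x u, sympForm m F x w, Or.inl hxu0, ?_⟩
    rw [h5, hκ0, zero_smul]
  · apply haT
    have h6 : a = κ⁻¹ • (sympForm m F x u • wA + sympForm m F x w • uA) := by
      rw [h5, smul_smul, inv_mul_cancel₀ hκ0, one_smul]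
    rw [h6]
    refine Submodule.smul_mem _ _ (Submodule.add_mem _ (Submodule.smul_mem _ _ ?_)
      (Submodule.smul_mem _ _ ?_))
    · exact Submodule.subset_span (by simp)
    · exact Submodule.subset_span (by simp)

lemma all_or_all (hm : 5 ≤ m) {A B : Submodule F (Fin m ⊕ Fin m → F)} (h : LP A B)
    (hfrA : Module.finrank F A = m) (hfrB : Module.finrank F B = m) (g : GL (Fin m ⊕ Fin m) F)
    (hdep : ∀ a' ∈ A, ∀ b' ∈ B, sympForm m F b' a' = 0 →
      Dep (A.projection B h.hc ((g : Matrix (Fin m ⊕ Fin m) (Fin m ⊕ Fin m) F) *ᵥ b'))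
        (A.projection B h.hc ((g : Matrix (Fin m ⊕ Fin m) (Fin m ⊕ Fin m) F) *ᵥ a'))) :
    (∀ a' ∈ A, (g : Matrix (Fin m ⊕ Fin m) (Fin m ⊕ Fin m) F) *ᵥ a' ∈ B) ∨
      (∀ b' ∈ B, (g : Matrix (Fin m ⊕ Fin m) (Fin m ⊕ Fin m) F) *ᵥ b' ∈ B) := by
  by_contra hcon
  push Not at hcon
  obtain ⟨⟨a₀, ha₀, hp⟩, ⟨b₀, hb₀, hr⟩⟩ := hcon
  rw [← Submodule.projection_apply_eq_zero_iff h.hc] at hp hr
  obtain ⟨p, hpdef⟩ : ∃ p, p = A.projection B h.hc
    ((g : Matrix (Fin m ⊕ Fin m) (Fin m ⊕ Fin m) F) *ᵥ a₀) := ⟨_, rfl⟩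
  obtain ⟨r, hrdef⟩ : ∃ r, r = A.projection B h.hc
    ((g : Matrix (Fin m ⊕ Fin m) (Fin m ⊕ Fin m) F) *ᵥ b₀) := ⟨_, rfl⟩
  rw [← hpdef] at hp
  rw [← hrdef] at hr
  have h1 : ∀ b' ∈ B ⊓ spp a₀, A.projection B h.hc
      ((g : Matrix (Fin m ⊕ Fin m) (Fin m ⊕ Fin m) F) *ᵥ b') ∈ Submodule.span F {p} := by
    intro b' hb'
    obtain ⟨hb'B, hb'a⟩ := Submodule.mem_inf.mp hb'
    rw [mem_spp] at hb'a
    obtain ⟨c₁, c₂, hc, hrel⟩ := hdep a₀ ha₀ b' hb'B hb'a
    rw [← hpdef] at hrel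
    have hc₁ : c₁ ≠ 0 := by
      intro h0
      rw [h0, zero_smul, zero_add] at hrel
      rcases smul_eq_zero.mp hrel with h3 | h3
      · rcases hc with h4 | h4
        · exact h4 h0
        · exact h4 h3
      · exact hp h3
    have h5 : A.projection B h.hc ((g : Matrix (Fin m ⊕ Fin m) (Fin m ⊕ Fin m) F) *ᵥ b') =
        (-(c₂ / c₁)) • p := by
      have h6 : c₁ • A.projection B h.hc
          ((g : Matrix (Fin m ⊕ Fin m) (Fin m ⊕ Fin m) F) *ᵥ b') = -(c₂ • p) :=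
        eq_neg_of_add_eq_zero_left hrel
      have h7 : A.projection B h.hc ((g : Matrix (Fin m ⊕ Fin m) (Fin m ⊕ Fin m) F) *ᵥ b') =
          c₁⁻¹ • (c₁ • A.projection B h.hc
            ((g : Matrix (Fin m ⊕ Fin m) (Fin m ⊕ Fin m) F) *ᵥ b')) := by
        rw [smul_smul, inv_mul_cancel₀ hc₁, one_smul]
      rw [h7, h6, smul_neg, smul_smul, neg_smul]
      congr 2
      field_simp
    rw [h5]
    exact Submodule.smul_mem _ _ (Submodule.mem_span_singleton_self p)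
  have h2 : ∀ a' ∈ A ⊓ spp b₀, A.projection B h.hc
      ((g : Matrix (Fin m ⊕ Fin m) (Fin m ⊕ Fin m) F) *ᵥ a') ∈ Submodule.span F {r} := by
    intro a' ha'
    obtain ⟨ha'A, ha'b⟩ := Submodule.mem_inf.mp ha'
    rw [mem_spp] at ha'b
    obtain ⟨c₁, c₂, hc, hrel⟩ := hdep a' ha'A b₀ hb₀ (symm_zero ha'b)
    rw [← hrdef] at hrel
    have hc₂ : c₂ ≠ 0 := by
      intro h0
      rw [h0, zero_smul, add_zero] at hrel
      rcases smul_eq_zero.mp hrel with h3 | h3
      · rcases hc with h4 | h4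
        · exact h4 h3
        · exact h4 h0
      · exact hr h3
    have h5 : A.projection B h.hc ((g : Matrix (Fin m ⊕ Fin m) (Fin m ⊕ Fin m) F) *ᵥ a') =
        (-(c₁ / c₂)) • r := by
      have h6 : c₂ • A.projection B h.hc
          ((g : Matrix (Fin m ⊕ Fin m) (Fin m ⊕ Fin m) F) *ᵥ a') = -(c₁ • r) :=
        eq_neg_of_add_eq_zero_right hrel
      have h7 : A.projection B h.hc ((g : Matrix (Fin m ⊕ Fin m) (Fin m ⊕ Fin m) F) *ᵥ a') =
          c₂⁻¹ • (c₂ • A.projection B h.hc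
            ((g : Matrix (Fin m ⊕ Fin m) (Fin m ⊕ Fin m) F) *ᵥ a')) := by
        rw [smul_smul, inv_mul_cancel₀ hc₂, one_smul]
      rw [h7, h6, smul_neg, smul_smul, neg_smul]
      congr 2
      field_simp
    rw [h5]
    exact Submodule.smul_mem _ _ (Submodule.mem_span_singleton_self r)
  -- dimension count
  have hmaps : ∀ y ∈ (A ⊓ spp b₀) ⊔ (B ⊓ spp a₀),
      (g : Matrix (Fin m ⊕ Fin m) (Fin m ⊕ Fin m) F) *ᵥ y ∈
        Submodule.span F {p} ⊔ Submodule.span F {r} ⊔ B := by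
    intro y hy
    obtain ⟨a', ha', b', hb', rfl⟩ := Submodule.mem_sup.mp hy
    rw [Matrix.mulVec_add]
    refine Submodule.add_mem _ ?_ ?_
    · rw [← Submodule.projection_add_projection_eq_self h.hc
        ((g : Matrix (Fin m ⊕ Fin m) (Fin m ⊕ Fin m) F) *ᵥ a')]
      exact Submodule.add_mem _
        (Submodule.mem_sup_left (Submodule.mem_sup_right (h2 a' ha')))
        (Submodule.mem_sup_right (Submodule.projection_apply_mem _ _))
    · rw [← Submodule.projection_add_projection_eq_self h.hc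
        ((g : Matrix (Fin m ⊕ Fin m) (Fin m ⊕ Fin m) F) *ᵥ b')]
      exact Submodule.add_mem _
        (Submodule.mem_sup_left (Submodule.mem_sup_left (h1 b' hb')))
        (Submodule.mem_sup_right (Submodule.projection_apply_mem _ _))
  have h3 := finrank_le_of_maps hmaps
  have h4 := Submodule.finrank_sup_add_finrank_inf_eq (A ⊓ spp b₀) (B ⊓ spp a₀)
  have h5 : Module.finrank F ↥((A ⊓ spp b₀) ⊓ (B ⊓ spp a₀)) = 0 := by
    rw [Submodule.finrank_eq_zero, eq_bot_iff]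
    intro x hx
    obtain ⟨hx1, hx2⟩ := Submodule.mem_inf.mp hx
    rw [Submodule.mem_bot]
    exact h.inf_eq (Submodule.mem_inf.mp hx1).1 (Submodule.mem_inf.mp hx2).1
  have h6 := finrank_inf_spp A b₀
  have h7 := finrank_inf_spp B a₀
  have h8 := Submodule.finrank_add_le_finrank_add_finrank
    (Submodule.span F {p} ⊔ Submodule.span F {r}) B
  have h9 := Submodule.finrank_add_le_finrank_add_finrank
    (Submodule.span F {p}) (Submodule.span F {r})
  have h10 : Module.finrank F ↥(Submodule.span F {p}) ≤ 1 := by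
    rw [finrank_span_singleton hp]
  have h11 : Module.finrank F ↥(Submodule.span F {r}) ≤ 1 := by
    rw [finrank_span_singleton hr]
  omega

end Global

section Finish
variable {F : Type*} [Field F] {m : ℕ}

lemma spread {M : Subgroup (GL (Fin m ⊕ Fin m) F)} (hMS : M ≤ spGL m F)
    {A B : Submodule F (Fin m ⊕ Fin m → F)} (h : LP A B)
    (hE : ∀ a ∈ A, ∀ b ∈ B, sympForm m F b a = 0 → sieg a b ∈ M)
    {a₀ : Fin m ⊕ Fin m → F} (ha₀ : a₀ ∈ A) (ha₀0 : a₀ ≠ 0) (ha₀S : a₀ ∈ Sset M) :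
    ∀ a ∈ A, a ∈ Sset M := by
  intro a ha
  by_cases hspan : a ∈ Submodule.span F {a₀}
  · obtain ⟨κ, rfl⟩ := Submodule.mem_span_singleton.mp hspan
    exact Sset_smul ha₀S κ
  have ha0 : a ≠ 0 := by
    rintro rfl
    exact hspan (Submodule.zero_mem _)
  have hspan' : a₀ ∉ Submodule.span F {a} := by
    intro hmem
    obtain ⟨κ, hκ⟩ := Submodule.mem_span_singleton.mp hmem
    have hκ0 : κ ≠ 0 := by
      rintro rfl
      rw [zero_smul] at hκ
      exact ha₀0 hκ.symm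
    apply hspan
    have h1 : a = κ⁻¹ • a₀ := by rw [← hκ, smul_smul, inv_mul_cancel₀ hκ0, one_smul]
    rw [h1]
    exact Submodule.smul_mem _ _ (Submodule.mem_span_singleton_self a₀)
  obtain ⟨b₁, hb₁, h1, h2⟩ := h.sep ha₀ ha ha₀0 hspan
  obtain ⟨b₂, hb₂, h3, h4⟩ := h.sep ha ha₀ ha0 hspan'
  obtain ⟨b, hbdef⟩ : ∃ b, b = (sympForm m F a b₁)⁻¹ • b₁ + (sympForm m F a₀ b₂)⁻¹ • b₂ :=
    ⟨_, rfl⟩
  have hb : b ∈ B := by rw [hbdef]; exact B.add_mem (B.smul_mem _ hb₁) (B.smul_mem _ hb₂)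
  have ha₀b : sympForm m F a₀ b = 1 := by
    rw [hbdef, sympForm_add_right, sympForm_smul_right, sympForm_smul_right, h1, mul_zero,
      zero_add, inv_mul_cancel₀ h4]
  have hab : sympForm m F a b = 1 := by
    rw [hbdef, sympForm_add_right, sympForm_smul_right, sympForm_smul_right, h3, mul_zero,
      add_zero, inv_mul_cancel₀ h2]
  have hbu : sympForm m F b (a - a₀) = 0 := by
    rw [sympForm_sub_right, sympForm_swap m b a, sympForm_swap m b a₀, hab, ha₀b, sub_self]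
  have hsM : sieg (a - a₀) b ∈ M := hE _ (A.sub_mem ha ha₀) b hb hbu
  have h5 := Sset_mulVec_mem hMS hsM ha₀S
  rw [sieg_mulVec _ _ hbu, ha₀b, one_smul, sympForm_sub_right, h.hA a₀ ha₀ a ha,
    h.hA a₀ ha₀ a₀ ha₀, sub_self, zero_smul, add_zero, add_sub_cancel] at h5
  exact h5

lemma all_of_AB {M : Subgroup (GL (Fin m ⊕ Fin m) F)} (hMS : M ≤ spGL m F)
    {A B : Submodule F (Fin m ⊕ Fin m → F)} (h : LP A B) (hAS : ∀ a ∈ A, a ∈ Sset M)
    (hBS : ∀ b ∈ B, b ∈ Sset M) : ∀ v, v ∈ Sset M := by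
  intro v
  have hdec := Submodule.projection_add_projection_eq_self h.hc v
  obtain ⟨a, hadef⟩ : ∃ a, a = A.projection B h.hc v := ⟨_, rfl⟩
  obtain ⟨b, hbdef⟩ : ∃ b, b = B.projection A h.hc.symm v := ⟨_, rfl⟩
  rw [← hadef, ← hbdef] at hdec
  have ha : a ∈ A := by rw [hadef]; exact Submodule.projection_apply_mem _ _
  have hb : b ∈ B := by rw [hbdef]; exact Submodule.projection_apply_mem _ _
  rw [← hdec]
  by_cases hab : sympForm m F a b = 0
  swap
  · exact Cfsg.Agent.S5647.S5647aux.hyp_closure hMS (hAS a ha) (hBS b hb) hab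
  by_cases hb0 : b = 0
  · rw [hb0, add_zero]
    exact hAS a ha
  obtain ⟨a', ha', hba'⟩ := h.symm.nd hb hb0
  have h1 : sympForm m F (a + a') b ≠ 0 := by
    rw [sympForm_add_left, hab, zero_add, sympForm_swap]
    exact neg_ne_zero.mpr hba'
  have hs := Cfsg.Agent.S5647.S5647aux.hyp_closure hMS (hAS _ (A.add_mem ha ha')) (hBS b hb) h1
  have h2 := Sset_mulVec_mem hMS (hAS a' ha' (-(sympForm m F b a')⁻¹)) hs
  rw [tvc_mulVec, sympForm_add_left, sympForm_add_left, h.hA a ha a' ha', h.hA a' ha' a' ha',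
    zero_add, zero_add, neg_mul, inv_mul_cancel₀ hba'] at h2
  have h3 : a + a' + b + (-1 : F) • a' = a + b := by module
  rw [h3] at h2
  exact h2

/-- an isometry interchanging two totally isotropic subspaces in perfect duality -/
lemma exists_swap : ∀ k : ℕ, ∀ A' B' : Submodule F (Fin m ⊕ Fin m → F),
    (∀ x ∈ A', ∀ y ∈ A', sympForm m F x y = 0) → (∀ x ∈ B', ∀ y ∈ B', sympForm m F x y = 0) →
    (∀ a ∈ A', a ≠ 0 → ∃ b ∈ B', sympForm m F a b ≠ 0) →
    (∀ b ∈ B', b ≠ 0 → ∃ a ∈ A', sympForm m F a b ≠ 0) → Module.finrank F A' = k →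
    ∃ J : GL (Fin m ⊕ Fin m) F, J ∈ spGL m F ∧
      (∀ a ∈ A', (J : Matrix (Fin m ⊕ Fin m) (Fin m ⊕ Fin m) F) *ᵥ a ∈ B') ∧
      (∀ b ∈ B', (J : Matrix (Fin m ⊕ Fin m) (Fin m ⊕ Fin m) F) *ᵥ b ∈ A') ∧
      (∀ x, (∀ a ∈ A', sympForm m F x a = 0) → (∀ b ∈ B', sympForm m F x b = 0) →
        (J : Matrix (Fin m ⊕ Fin m) (Fin m ⊕ Fin m) F) *ᵥ x = x) := by
  intro k
  induction k using Nat.strong_induction_on with
  | _ k ih =>
    intro A' B' hA hB hp1 hp2 hk
    by_cases hbot : A' = ⊥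
    · refine ⟨1, Subgroup.one_mem _, ?_, ?_, ?_⟩
      · intro a ha
        rw [hbot, Submodule.mem_bot] at ha
        rw [ha, Matrix.mulVec_zero]
        exact B'.zero_mem
      · intro b hb
        by_cases hb0 : b = 0
        · rw [hb0, Matrix.mulVec_zero]
          exact A'.zero_mem
        · obtain ⟨a, ha, hab⟩ := hp2 b hb hb0
          rw [hbot, Submodule.mem_bot] at ha
          rw [ha, sympForm_zero_left] at hab
          exact absurd rfl hab
      · intro x _ _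
        rw [Units.val_one, Matrix.one_mulVec]
    obtain ⟨a₁, ha₁, ha₁0⟩ := (Submodule.ne_bot_iff A').mp hbot
    obtain ⟨b₀, hb₀, hab₀⟩ := hp1 a₁ ha₁ ha₁0
    obtain ⟨b₁, hb₁def⟩ : ∃ b₁, b₁ = (sympForm m F a₁ b₀)⁻¹ • b₀ := ⟨_, rfl⟩
    have hb₁ : b₁ ∈ B' := by rw [hb₁def]; exact B'.smul_mem _ hb₀
    have h11 : sympForm m F a₁ b₁ = 1 := by
      rw [hb₁def, sympForm_smul_right, inv_mul_cancel₀ hab₀]
    have h11' : sympForm m F b₁ a₁ = -1 := by rw [sympForm_swap, h11]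
    have ha₁a₁ : sympForm m F a₁ a₁ = 0 := sympForm_self m a₁
    have hb₁b₁ : sympForm m F b₁ b₁ = 0 := sympForm_self m b₁
    -- the smaller pair
    have hA'' : ∀ x ∈ A' ⊓ spp b₁, ∀ y ∈ A' ⊓ spp b₁, sympForm m F x y = 0 :=
      fun x hx y hy => hA x (Submodule.mem_inf.mp hx).1 y (Submodule.mem_inf.mp hy).1
    have hB'' : ∀ x ∈ B' ⊓ spp a₁, ∀ y ∈ B' ⊓ spp a₁, sympForm m F x y = 0 :=
      fun x hx y hy => hB x (Submodule.mem_inf.mp hx).1 y (Submodule.mem_inf.mp hy).1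
    have hp1'' : ∀ a ∈ A' ⊓ spp b₁, a ≠ 0 → ∃ b ∈ B' ⊓ spp a₁, sympForm m F a b ≠ 0 := by
      intro a ha ha0
      obtain ⟨haA, hab₁⟩ := Submodule.mem_inf.mp ha
      rw [mem_spp] at hab₁
      obtain ⟨b, hb, hab⟩ := hp1 a haA ha0
      refine ⟨b - sympForm m F a₁ b • b₁, Submodule.mem_inf.mpr
        ⟨B'.sub_mem hb (B'.smul_mem _ hb₁), ?_⟩, ?_⟩
      · rw [mem_spp, sympForm_sub_left, sympForm_smul_left, h11', sympForm_swap m b a₁]
        ring
      · rw [sympForm_sub_right, sympForm_smul_right, hab₁, mul_zero, sub_zero]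
        exact hab
    have hp2'' : ∀ b ∈ B' ⊓ spp a₁, b ≠ 0 → ∃ a ∈ A' ⊓ spp b₁, sympForm m F a b ≠ 0 := by
      intro b hb hb0
      obtain ⟨hbB, hba₁⟩ := Submodule.mem_inf.mp hb
      rw [mem_spp] at hba₁
      obtain ⟨a, ha, hab⟩ := hp2 b hbB hb0
      refine ⟨a - sympForm m F a b₁ • a₁, Submodule.mem_inf.mpr
        ⟨A'.sub_mem ha (A'.smul_mem _ ha₁), ?_⟩, ?_⟩
      · rw [mem_spp, sympForm_sub_left, sympForm_smul_left, h11]
        ring
      · rw [sympForm_sub_left, sympForm_smul_left, symm_zero hba₁, mul_zero, sub_zero]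
        exact hab
    have hlt : Module.finrank F ↥(A' ⊓ spp b₁) < Module.finrank F A' := by
      apply Submodule.finrank_lt_finrank_of_lt
      refine lt_of_le_of_ne inf_le_left (fun heq => ?_)
      have h1 : a₁ ∈ A' ⊓ spp b₁ := by rw [heq]; exact ha₁
      have h2 := (Submodule.mem_inf.mp h1).2
      rw [mem_spp, h11] at h2
      exact one_ne_zero h2
    obtain ⟨J'', hJ''S, hJ''A, hJ''B, hJ''fix⟩ := ih _ (by rw [← hk]; exact hlt) _ _ hA'' hB''
      hp1'' hp2'' rfl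
    -- the Weyl element of the hyperbolic pair
    obtain ⟨w₁, hw₁def⟩ : ∃ w₁ : GL (Fin m ⊕ Fin m) F,
        w₁ = tvc a₁ (-1) * tvc b₁ (-1) * tvc a₁ (-1) := ⟨_, rfl⟩
    have hw₁S : w₁ ∈ spGL m F := by
      rw [hw₁def]
      exact mul_mem (mul_mem (tvc_mem _ _) (tvc_mem _ _)) (tvc_mem _ _)
    have hw₁x : ∀ x, (w₁ : Matrix (Fin m ⊕ Fin m) (Fin m ⊕ Fin m) F) *ᵥ x =
        x - (sympForm m F x a₁ + sympForm m F x b₁) • a₁
          + (sympForm m F x a₁ - sympForm m F x b₁) • b₁ := by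
      intro x
      rw [hw₁def, Units.val_mul, Units.val_mul, ← Matrix.mulVec_mulVec, ← Matrix.mulVec_mulVec,
        tvc_mulVec, tvc_mulVec, tvc_mulVec]
      simp only [sympForm_add_left, sympForm_smul_left, h11, h11', ha₁a₁, hb₁b₁]
      module
    have hw₁fix : ∀ x, sympForm m F x a₁ = 0 → sympForm m F x b₁ = 0 →
        (w₁ : Matrix (Fin m ⊕ Fin m) (Fin m ⊕ Fin m) F) *ᵥ x = x := by
      intro x h1 h2
      rw [hw₁x, h1, h2]
      simp
    have hw₁a : (w₁ : Matrix (Fin m ⊕ Fin m) (Fin m ⊕ Fin m) F) *ᵥ a₁ = -b₁ := by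
      rw [hw₁x, ha₁a₁, h11]
      module
    have hw₁b : (w₁ : Matrix (Fin m ⊕ Fin m) (Fin m ⊕ Fin m) F) *ᵥ b₁ = a₁ := by
      rw [hw₁x, hb₁b₁, h11']
      module
    have hJa₁ : (J'' : Matrix (Fin m ⊕ Fin m) (Fin m ⊕ Fin m) F) *ᵥ a₁ = a₁ :=
      hJ''fix a₁ (fun a ha => hA a₁ ha₁ a (Submodule.mem_inf.mp ha).1)
        (fun b hb => symm_zero (mem_spp.mp (Submodule.mem_inf.mp hb).2))
    have hJb₁ : (J'' : Matrix (Fin m ⊕ Fin m) (Fin m ⊕ Fin m) F) *ᵥ b₁ = b₁ :=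
      hJ''fix b₁ (fun a ha => symm_zero (mem_spp.mp (Submodule.mem_inf.mp ha).2))
        (fun b hb => hB b₁ hb₁ b (Submodule.mem_inf.mp hb).1)
    refine ⟨w₁ * J'', mul_mem hw₁S hJ''S, ?_, ?_, ?_⟩
    · intro a ha
      have h1 : a - sympForm m F a b₁ • a₁ ∈ A' ⊓ spp b₁ := by
        refine Submodule.mem_inf.mpr ⟨A'.sub_mem ha (A'.smul_mem _ ha₁), ?_⟩
        rw [mem_spp, sympForm_sub_left, sympForm_smul_left, h11]
        ring
      have h2 := hJ''A _ h1
      obtain ⟨h2B, h2a⟩ := Submodule.mem_inf.mp h2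
      rw [mem_spp] at h2a
      have h3 : a = (a - sympForm m F a b₁ • a₁) + sympForm m F a b₁ • a₁ := by abel
      rw [h3, Units.val_mul, ← Matrix.mulVec_mulVec, Matrix.mulVec_add, Matrix.mulVec_smul, hJa₁,
        Matrix.mulVec_add, Matrix.mulVec_smul, hw₁a,
        hw₁fix _ h2a (hB _ h2B b₁ hb₁)]
      exact B'.add_mem h2B (B'.smul_mem _ (B'.neg_mem hb₁))
    · intro b hb
      have h1 : b - sympForm m F a₁ b • b₁ ∈ B' ⊓ spp a₁ := by
        refine Submodule.mem_inf.mpr ⟨B'.sub_mem hb (B'.smul_mem _ hb₁), ?_⟩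
        rw [mem_spp, sympForm_sub_left, sympForm_smul_left, h11', sympForm_swap m b a₁]
        ring
      have h2 := hJ''B _ h1
      obtain ⟨h2A, h2b⟩ := Submodule.mem_inf.mp h2
      rw [mem_spp] at h2b
      have h3 : b = (b - sympForm m F a₁ b • b₁) + sympForm m F a₁ b • b₁ := by abel
      rw [h3, Units.val_mul, ← Matrix.mulVec_mulVec, Matrix.mulVec_add, Matrix.mulVec_smul, hJb₁,
        Matrix.mulVec_add, Matrix.mulVec_smul, hw₁b,
        hw₁fix _ (hA _ h2A a₁ ha₁) h2b]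
      exact A'.add_mem h2A (A'.smul_mem _ ha₁)
    · intro x hxA hxB
      rw [Units.val_mul, ← Matrix.mulVec_mulVec,
        hJ''fix x (fun a ha => hxA a (Submodule.mem_inf.mp ha).1)
          (fun b hb => hxB b (Submodule.mem_inf.mp hb).1),
        hw₁fix x (hxA a₁ ha₁) (hxB b₁ hb₁)]

end Finish

section Main
variable {F : Type*} [Field F] [Fintype F] {m : ℕ}

theorem main (hm : 7 ≤ m) (hodd : Odd (Fintype.card F))
    (D : Fin 2 → Submodule F (Fin m ⊕ Fin m → F)) (hD : Cfsg.Geo.IsMDecomposition m D)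
    (hts : ∀ i, Cfsg.Geo.IsTotallySingularFor (Cfsg.sympForm m F) (D i)) :
    Cfsg.Geo.IsMaximalIn (Cfsg.spGL m F)
      (Cfsg.Geo.decompositionStabilizer D ⊓ Cfsg.spGL m F) := by
  have h2 : (2 : F) ≠ 0 := by
    have hchar : ringChar F ≠ 2 := by
      intro hch
      have h1 := FiniteField.even_card_of_char_two hch
      obtain ⟨k, hk⟩ := hodd
      omega
    exact Ring.two_ne_zero hchar
  have hc : IsCompl (D 0) (D 1) := by
    refine ⟨hD.indep.pairwiseDisjoint (by decide), ?_⟩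
    rw [codisjoint_iff, eq_top_iff, ← hD.iSup_eq_top]
    apply iSup_le
    intro i
    fin_cases i
    · exact le_sup_left
    · exact le_sup_right
  have h : LP (D 0) (D 1) := ⟨hts 0, hts 1, hc⟩
  have hfrA := hD.finrank_eq 0
  have hfrB := hD.finrank_eq 1
  have hmem_of : ∀ g : GL (Fin m ⊕ Fin m) F,
      ((∀ a ∈ D 0, (g : Matrix (Fin m ⊕ Fin m) (Fin m ⊕ Fin m) F) *ᵥ a ∈ D 0) ∧
        (∀ b ∈ D 1, (g : Matrix (Fin m ⊕ Fin m) (Fin m ⊕ Fin m) F) *ᵥ b ∈ D 1)) ∨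
      ((∀ a ∈ D 0, (g : Matrix (Fin m ⊕ Fin m) (Fin m ⊕ Fin m) F) *ᵥ a ∈ D 1) ∧
        (∀ b ∈ D 1, (g : Matrix (Fin m ⊕ Fin m) (Fin m ⊕ Fin m) F) *ᵥ b ∈ D 0)) →
      g ∈ Cfsg.Geo.decompositionStabilizer D := by
    rintro g (⟨h1, h2⟩ | ⟨h1, h2⟩)
    · refine ⟨1, fun i => ?_⟩
      fin_cases i
      · exact map_eq_of_maps h1 rfl
      · exact map_eq_of_maps h2 rfl
    · refine ⟨Equiv.swap 0 1, fun i => ?_⟩
      fin_cases i
      · change (D 0).map _ = D (Equiv.swap 0 1 0)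
        rw [Equiv.swap_apply_left]
        exact map_eq_of_maps h1 (by rw [hfrA, hfrB])
      · change (D 1).map _ = D (Equiv.swap 0 1 1)
        rw [Equiv.swap_apply_right]
        exact map_eq_of_maps h2 (by rw [hfrA, hfrB])
  have hne0 : ∃ a ∈ D 0, a ≠ 0 := by
    apply (Submodule.ne_bot_iff _).mp
    intro hbot
    rw [hbot, finrank_bot] at hfrA
    omega
  have hne1 : ∃ b ∈ D 1, b ≠ 0 := by
    apply (Submodule.ne_bot_iff _).mp
    intro hbot
    rw [hbot, finrank_bot] at hfrB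
    omega
  have hE0 : ∀ a ∈ D 0, ∀ b ∈ D 1, sympForm m F b a = 0 →
      sieg a b ∈ Cfsg.Geo.decompositionStabilizer D ⊓ Cfsg.spGL m F := by
    intro a ha b hb hba
    refine ⟨hmem_of _ (Or.inl ⟨?_, ?_⟩), sieg_mem _ _⟩
    · intro x hx
      rw [sieg_mulVec a b hba, h.hA x hx a ha, zero_smul, add_zero]
      exact (D 0).add_mem hx ((D 0).smul_mem _ ha)
    · intro x hx
      rw [sieg_mulVec a b hba, h.hB x hx b hb, zero_smul, add_zero]
      exact (D 1).add_mem hx ((D 1).smul_mem _ hb)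
  have hE1 : ∀ b ∈ D 1, ∀ a ∈ D 0, sympForm m F a b = 0 →
      sieg b a ∈ Cfsg.Geo.decompositionStabilizer D ⊓ Cfsg.spGL m F := by
    intro b hb a ha hab
    refine ⟨hmem_of _ (Or.inl ⟨?_, ?_⟩), sieg_mem _ _⟩
    · intro x hx
      rw [sieg_mulVec b a hab, h.hA x hx a ha, zero_smul, add_zero]
      exact (D 0).add_mem hx ((D 0).smul_mem _ ha)
    · intro x hx
      rw [sieg_mulVec b a hab, h.hB x hx b hb, zero_smul, add_zero]
      exact (D 1).add_mem hx ((D 1).smul_mem _ hb)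
  refine ⟨?_, ?_⟩
  · rw [lt_iff_le_and_ne]
    refine ⟨inf_le_right, fun heq => ?_⟩
    obtain ⟨a, ha, ha0⟩ := hne0
    obtain ⟨b, hb, hab⟩ := h.nd ha ha0
    have hT : tvc a 1 ∈ Cfsg.Geo.decompositionStabilizer D ⊓ Cfsg.spGL m F := by
      rw [heq]; exact tvc_mem _ _
    obtain ⟨σ, hσ⟩ := hT.1
    have hTa : (tvc a (1 : F) : Matrix (Fin m ⊕ Fin m) (Fin m ⊕ Fin m) F) *ᵥ a = a := by
      rw [tvc_mulVec, sympForm_self, mul_zero, zero_smul, add_zero]
    have h0 : σ 0 = 0 := by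
      by_contra hne
      have h1 : σ 0 = 1 := by
        obtain ⟨v, hv⟩ : ∃ v, σ 0 = v := ⟨_, rfl⟩
        fin_cases v
        · exact absurd hv hne
        · exact hv
      have h3 : a ∈ D (σ 0) := by
        rw [← hσ 0]
        exact ⟨a, ha, by rw [Matrix.toLin'_apply]; exact hTa⟩
      rw [h1] at h3
      exact ha0 (h.inf_eq ha h3)
    have h1 : σ 1 = 1 := by
      obtain ⟨v, hv⟩ : ∃ v, σ 1 = v := ⟨_, rfl⟩
      fin_cases v
      · exfalso
        have := σ.injective (hv.trans h0.symm)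
        exact absurd this (by decide)
      · exact hv
    have h3 : (tvc a (1 : F) : Matrix (Fin m ⊕ Fin m) (Fin m ⊕ Fin m) F) *ᵥ b ∈ D 1 := by
      have h4 : (tvc a (1 : F) : Matrix (Fin m ⊕ Fin m) (Fin m ⊕ Fin m) F) *ᵥ b ∈ D (σ 1) := by
        rw [← hσ 1]
        exact ⟨b, hb, by rw [Matrix.toLin'_apply]⟩
      rwa [h1] at h4
    rw [tvc_mulVec, one_mul, (D 1).add_mem_iff_right hb] at h3
    have hba : sympForm m F b a ≠ 0 := by
      rw [sympForm_swap]
      exact neg_ne_zero.mpr hab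
    have h5 : a ∈ D 1 := by
      have := (D 1).smul_mem (sympForm m F b a)⁻¹ h3
      rwa [smul_smul, inv_mul_cancel₀ hba, one_smul] at this
    exact ha0 (h.inf_eq ha h5)
  · intro M hHM hMS
    by_cases hMH : M = Cfsg.Geo.decompositionStabilizer D ⊓ Cfsg.spGL m F
    · left; exact hMH
    right
    apply le_antisymm hMS
    obtain ⟨g, hgM, hgH⟩ : ∃ g ∈ M, g ∉ Cfsg.Geo.decompositionStabilizer D ⊓ Cfsg.spGL m F := by
      by_contra hcon
      push Not at hcon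
      exact hMH (le_antisymm hcon hHM)
    have hgS : g ∉ Cfsg.Geo.decompositionStabilizer D := fun hh => hgH ⟨hh, hMS hgM⟩
    -- the swap
    obtain ⟨J, hJS, hJA, hJB, -⟩ := exists_swap m (D 0) (D 1) (hts 0) (hts 1)
      (fun a ha ha0 => h.nd ha ha0)
      (fun b hb hb0 => by
        obtain ⟨a, ha, hba⟩ := h.symm.nd hb hb0
        exact ⟨a, ha, by rw [sympForm_swap]; exact neg_ne_zero.mpr hba⟩) hfrA
    have hJM : J ∈ M := hHM ⟨hmem_of J (Or.inr ⟨hJA, hJB⟩), hJS⟩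
    have hall : ∀ v, v ∈ Sset M := by
      by_cases hstarA : ∀ a ∈ D 0, a ≠ 0 → ∀ m₀ ∈ M,
          (m₀ : Matrix (Fin m ⊕ Fin m) (Fin m ⊕ Fin m) F) *ᵥ a = a → ∀ x, InC (D 1) a x →
          InC (D 1) a ((m₀ : Matrix (Fin m ⊕ Fin m) (Fin m ⊕ Fin m) F) *ᵥ x)
      · by_cases hstarB : ∀ b ∈ D 1, b ≠ 0 → ∀ m₀ ∈ M,
            (m₀ : Matrix (Fin m ⊕ Fin m) (Fin m ⊕ Fin m) F) *ᵥ b = b → ∀ x, InC (D 0) b x →
            InC (D 0) b ((m₀ : Matrix (Fin m ⊕ Fin m) (Fin m ⊕ Fin m) F) *ᵥ x)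
        · exfalso
          apply hgS
          have d1 := all_or_all (by omega) h hfrA hfrB g (fun a' ha' b' hb' hab =>
            dep_of_star (by omega) hMS h hfrA (fun a ha b hb hba => hHM (hE0 a ha b hb hba))
              hstarA hgM ha' hb' hab)
          have d2 := all_or_all (by omega) h.symm hfrB hfrA g (fun a' ha' b' hb' hab =>
            dep_of_star (by omega) hMS h.symm hfrB (fun b hb a ha hab => hHM (hE1 b hb a ha hab))
              hstarB hgM ha' hb' hab)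
          apply hmem_of
          rcases d1 with d1 | d1
          · rcases d2 with d2 | d2
            · exact Or.inr ⟨d1, d2⟩
            · exfalso
              obtain ⟨a, ha, ha0⟩ := hne0
              have h3 := h.inf_eq (d2 a ha) (d1 a ha)
              apply ha0
              have h4 := inv_mul_mulVec g a
              rw [h3, Matrix.mulVec_zero] at h4
              exact h4.symm
          · rcases d2 with d2 | d2
            · exfalso
              obtain ⟨b, hb, hb0⟩ := hne1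
              have h3 := h.inf_eq (d2 b hb) (d1 b hb)
              apply hb0
              have h4 := inv_mul_mulVec g b
              rw [h3, Matrix.mulVec_zero] at h4
              exact h4.symm
            · exact Or.inl ⟨d2, d1⟩
        · push Not at hstarB
          obtain ⟨b, hb, hb0, m₀, hm₀, hfix, x, hx, hmx⟩ := hstarB
          have hbS : b ∈ Sset M := local_of_moved h2 hMS h.symm hb hb0
            (fun a ha hab => hHM (hE1 b hb a ha hab)) hm₀ hfix hx hmx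
          have hBS := spread hMS h.symm (fun b hb a ha hab => hHM (hE1 b hb a ha hab)) hb hb0 hbS
          have hAS : ∀ a ∈ D 0, a ∈ Sset M := by
            intro a ha
            have h3 := Sset_mulVec_mem hMS (M.inv_mem hJM) (hBS _ (hJA a ha))
            rwa [inv_mul_mulVec] at h3
          exact all_of_AB hMS h hAS hBS
      · push Not at hstarA
        obtain ⟨a, ha, ha0, m₀, hm₀, hfix, x, hx, hmx⟩ := hstarA
        have haS : a ∈ Sset M := local_of_moved h2 hMS h ha ha0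
          (fun b hb hba => hHM (hE0 a ha b hb hba)) hm₀ hfix hx hmx
        have hAS := spread hMS h (fun a ha b hb hba => hHM (hE0 a ha b hb hba)) ha ha0 haS
        have hBS : ∀ b ∈ D 1, b ∈ Sset M := by
          intro b hb
          have h3 := Sset_mulVec_mem hMS (M.inv_mem hJM) (hAS _ (hJB b hb))
          rwa [inv_mul_mulVec] at h3
        exact all_of_AB hMS h hAS hBS
    exact le_of_forall_mem_Sset M hall

end Main

end S5649aux
end Aux

/-- For a finite field F of odd order and m ≥ 7, let D be a decomposition of F^(2m) into two complementary subspaces of dimension m on each of which the standard alternating form vanishes identically. Then the elements of Sp_2m(F) preserving or interchanging the two subspaces form a maximal subgroup of Sp_2m(F). -/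
theorem result {F : Type*} [Field F] [Fintype F] (m : ℕ) (hm : 7 ≤ m) (hodd : Odd (Fintype.card F)) (D : Fin 2 → Submodule F (Fin m ⊕ Fin m → F)) (hD : Cfsg.Geo.IsMDecomposition m D) (hts : ∀ i, Cfsg.Geo.IsTotallySingularFor (Cfsg.sympForm m F) (D i)) : Cfsg.Geo.IsMaximalIn (Cfsg.spGL m F) (Cfsg.Geo.decompositionStabilizer D ⊓ Cfsg.spGL m F) := by
  exact S5649aux.main hm hodd D hD hts

end Cfsg.Agent.S5649
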