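import Cfsg.Statements.S2505
import Mathlib
-- import your own Cfsg.Agent.* helpers here

set_option autoImplicit false
open Cfsg

namespace Cfsg.Agent.S2505

/-- the largest product of a partition of `n` -/
def g : ℕ → ℕ
  | 0 => 1
  | 1 => 1
  | 2 => 2
  | 3 => 3
  | 4 => 4
  | (n + 5) => 3 * g (n + 2)

theorem g_add_five (n : ℕ) : g (n + 5) = 3 * g (n + 2) := by
  rw [g]

theorem g_add_three {n : ℕ} (hn : 2 ≤ n) : g (n + 3) = 3 * g n := by
  obtain ⟨m, rfl⟩ := Nat.exists_eq_add_of_le hn
  have : 2 + m + 3 = m + 5 := by ring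
  rw [this, g_add_five, add_comm 2 m]

theorem g_pos (n : ℕ) : 0 < g n := by
  induction n using Nat.strong_induction_on with
  | _ n ih =>
    match n with
    | 0 => simp [g]
    | 1 => simp [g]
    | 2 => simp [g]
    | 3 => simp [g]
    | 4 => simp [g]
    | (m + 5) =>
      rw [g_add_five]
      have := ih (m + 2) (by omega)
      omega

theorem g_mono_succ (n : ℕ) : g n ≤ g (n + 1) := by
  induction n using Nat.strong_induction_on with
  | _ n ih =>
    match n with
    | 0 => simp [g]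
    | 1 => simp [g]
    | 2 => simp [g]
    | 3 => simp [g]
    | 4 => simp [g]
    | (m + 5) =>
      have h1 : m + 5 + 1 = (m + 1) + 5 := by ring
      rw [h1, g_add_five, g_add_five]
      have := ih (m + 2) (by omega)
      have h2 : m + 2 + 1 = m + 1 + 2 := by ring
      rw [h2] at this
      omega

theorem two_mul_g (n : ℕ) : 2 * g n ≤ g (n + 2) := by
  induction n using Nat.strong_induction_on with
  | _ n ih =>
    match n with
    | 0 => simp [g]
    | 1 => simp [g]
    | 2 => simp [g]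
    | 3 => simp [g]
    | 4 => simp [g]
    | (m + 5) =>
      have h1 : m + 5 + 2 = (m + 2) + 5 := by ring
      rw [h1, g_add_five, g_add_five]
      have := ih (m + 2) (by omega)
      omega

theorem three_mul_g (n : ℕ) : 3 * g n ≤ g (n + 3) := by
  match n with
  | 0 => simp [g]
  | 1 => simp [g]
  | (m + 2) => rw [g_add_three (by omega)]

theorem key : ∀ (m : ℕ), 1 ≤ m → ∀ r : ℕ, m * g r ≤ g (r + m) := by
  intro m
  induction m using Nat.strong_induction_on with
  | _ m ih =>
    intro hm r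
    match m, hm with
    | 1, _ => simpa using g_mono_succ r
    | 2, _ => exact two_mul_g r
    | 3, _ => exact three_mul_g r
    | 4, _ =>
      have h1 := two_mul_g r
      have h2 := two_mul_g (r + 2)
      have h3 : r + 2 + 2 = r + 4 := by ring
      rw [h3] at h2
      omega
    | (k + 5), _ =>
      have h1 := ih (k + 2) (by omega) (by omega) r
      have h2 := three_mul_g (r + (k + 2))
      have h3 : r + (k + 2) + 3 = r + (k + 5) := by ring
      rw [h3] at h2
      have h4 : (k + 5) * g r ≤ 3 * ((k + 2) * g r) := by nlinarith [g_pos r]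
      omega

theorem g_three_mul (k : ℕ) : g (3 * k) = 3 ^ k := by
  induction k with
  | zero => simp [g]
  | succ k ih =>
    match k with
    | 0 => simp [g]
    | (j + 1) =>
      have h1 : 3 * (j + 1 + 1) = 3 * (j + 1) + 3 := by ring
      rw [h1, g_add_three (by omega), ih, pow_succ]; ring

theorem g_three_mul_add_two (k : ℕ) : g (3 * k + 2) = 2 * 3 ^ k := by
  induction k with
  | zero => simp [g]
  | succ k ih =>
    have h1 : 3 * (k + 1) + 2 = (3 * k + 2) + 3 := by ring
    rw [h1, g_add_three (by omega), ih, pow_succ]; ring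

theorem g_three_mul_add_one (k : ℕ) (hk : 1 ≤ k) : g (3 * k + 1) = 4 * 3 ^ (k - 1) := by
  induction k with
  | zero => omega
  | succ k ih =>
    match k with
    | 0 => simp [g]
    | (j + 1) =>
      have h1 : 3 * (j + 1 + 1) + 1 = (3 * (j + 1) + 1) + 3 := by ring
      rw [h1, g_add_three (by omega), ih (by omega)]
      have h2 : j + 1 + 1 - 1 = (j + 1 - 1) + 1 := by omega
      rw [h2, pow_succ]; ring

/-- `α` has an abelian group of permutations of order `c` -/
def HasAb (α : Type) (c : ℕ) : Prop :=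
  ∃ A : Subgroup (Equiv.Perm α), IsMulCommutative A ∧ Nat.card A = c

theorem hasAb_congr {α β : Type} (e : α ≃ β) {c : ℕ} (h : HasAb α c) : HasAb β c := by
  obtain ⟨A, hA, hc⟩ := h
  refine ⟨A.map e.permCongrHom.toMonoidHom, ?_, ?_⟩
  · rw [isMulCommutative_iff] at hA ⊢
    rintro ⟨_, a, ha, rfl⟩ ⟨_, b, hb, rfl⟩
    apply Subtype.ext
    have h2 : a * b = b * a := congrArg Subtype.val (hA ⟨a, ha⟩ ⟨b, hb⟩)
    show e.permCongrHom a * e.permCongrHom b = e.permCongrHom b * e.permCongrHom a
    rw [← map_mul, ← map_mul, h2]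
  · rw [Subgroup.card_map_of_injective e.permCongrHom.injective, hc]

theorem hasAb_sum {α β : Type} {a b : ℕ} (ha : HasAb α a) (hb : HasAb β b) :
    HasAb (α ⊕ β) (a * b) := by
  obtain ⟨A, hA, hca⟩ := ha
  obtain ⟨B, hB, hcb⟩ := hb
  refine ⟨(A.prod B).map (Equiv.Perm.sumCongrHom α β), ?_, ?_⟩
  · rw [isMulCommutative_iff] at hA hB ⊢
    rintro ⟨_, x, hx, rfl⟩ ⟨_, y, hy, rfl⟩
    apply Subtype.ext
    have h1 : x.1 * y.1 = y.1 * x.1 := congrArg Subtype.val (hA ⟨x.1, hx.1⟩ ⟨y.1, hy.1⟩)
    have h2 : x.2 * y.2 = y.2 * x.2 := congrArg Subtype.val (hB ⟨x.2, hx.2⟩ ⟨y.2, hy.2⟩)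
    have h3 : x * y = y * x := Prod.ext h1 h2
    show Equiv.Perm.sumCongrHom α β x * Equiv.Perm.sumCongrHom α β y =
      Equiv.Perm.sumCongrHom α β y * Equiv.Perm.sumCongrHom α β x
    rw [← map_mul, ← map_mul, h3]
  · rw [Subgroup.card_map_of_injective Equiv.Perm.sumCongrHom_injective,
      Nat.card_congr (Subgroup.prodEquiv A B).toEquiv, Nat.card_prod, hca, hcb]

theorem hasAb_zero : HasAb (Fin 0) 1 :=
  ⟨⊥, isMulCommutative_iff.mpr (fun _ _ => Subsingleton.elim _ _), Subgroup.card_bot⟩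

theorem hasAb_rot (n : ℕ) : HasAb (Fin (n + 2)) (n + 2) := by
  refine ⟨Subgroup.zpowers (finRotate (n + 2)), inferInstance, ?_⟩
  rw [Nat.card_zpowers, Equiv.Perm.IsCycle.orderOf isCycle_finRotate, support_finRotate,
    Finset.card_univ, Fintype.card_fin]

theorem hasAb_three_mul (k : ℕ) : HasAb (Fin (3 * k)) (3 ^ k) := by
  induction k with
  | zero => exact hasAb_zero
  | succ k ih =>
    have h1 := hasAb_sum ih (hasAb_rot 1)
    have h2 : 3 * k + (1 + 2) = 3 * (k + 1) := by ring
    have := hasAb_congr (finSumFinEquiv.trans (finCongr h2)) h1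
    rwa [pow_succ]

theorem hasAb_three_mul_add_two (k : ℕ) : HasAb (Fin (3 * k + 2)) (2 * 3 ^ k) := by
  have h1 := hasAb_sum (hasAb_three_mul k) (hasAb_rot 0)
  have := hasAb_congr (finSumFinEquiv (m := 3 * k) (n := 0 + 2)) h1
  have h3 : 3 ^ k * (0 + 2) = 2 * 3 ^ k := by ring
  rw [h3] at this
  exact this

theorem hasAb_three_mul_add_one (k : ℕ) (hk : 1 ≤ k) :
    HasAb (Fin (3 * k + 1)) (4 * 3 ^ (k - 1)) := by
  have h1 := hasAb_sum (hasAb_three_mul (k - 1)) (hasAb_rot 2)
  have h2 : 3 * (k - 1) + (2 + 2) = 3 * k + 1 := by omega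
  have := hasAb_congr (finSumFinEquiv.trans (finCongr h2)) h1
  have h3 : 3 ^ (k - 1) * (2 + 2) = 4 * 3 ^ (k - 1) := by ring
  rw [h3] at this
  exact this

theorem card_le_g : ∀ (n : ℕ) (α : Type) [Finite α], Nat.card α = n →
    ∀ A : Subgroup (Equiv.Perm α), (∀ a ∈ A, ∀ b ∈ A, a * b = b * a) → Nat.card A ≤ g n := by
  intro n
  induction n using Nat.strong_induction_on with
  | _ n ih =>
    intro α _ hcard A hA
    classical
    rcases isEmpty_or_nonempty α with hemp | ⟨⟨x⟩⟩
    · have h1 : Nat.card A ≤ 1 := Finite.card_le_one_iff_subsingleton.mpr inferInstance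
      exact h1.trans (g_pos n)
    · obtain ⟨O, hO⟩ : ∃ O : Set α, O = {y | ∃ a ∈ A, a x = y} := ⟨_, rfl⟩
      have hxO : x ∈ O := by rw [hO]; exact ⟨1, A.one_mem, rfl⟩
      have hOinv : ∀ a ∈ A, ∀ y, a y ∈ O ↔ y ∈ O := by
        intro a ha y
        rw [hO]
        constructor
        · rintro ⟨b, hb, hby⟩
          refine ⟨a⁻¹ * b, A.mul_mem (A.inv_mem ha) hb, ?_⟩
          rw [Equiv.Perm.mul_apply, hby]; simp
        · rintro ⟨b, hb, rfl⟩
          exact ⟨a * b, A.mul_mem ha hb, rfl⟩
      obtain ⟨St, hSt⟩ : ∃ St : Subgroup (Equiv.Perm α),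
        St = A ⊓ MulAction.stabilizer (Equiv.Perm α) x := ⟨_, rfl⟩
      have hStA : St ≤ A := hSt ▸ inf_le_left
      have hfix : ∀ s ∈ St, ∀ y ∈ O, s y = y := by
        intro s hs y hy
        rw [hSt] at hs
        obtain ⟨hsA, hsx⟩ := Subgroup.mem_inf.mp hs
        rw [hO] at hy
        obtain ⟨a, ha, rfl⟩ := hy
        have h1 : s * a = a * s := hA s hsA a ha
        have h2 : s x = x := hsx
        calc s (a x) = (s * a) x := rfl
          _ = (a * s) x := by rw [h1]
          _ = a (s x) := rfl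
          _ = a x := by rw [h2]
      have horb : MulAction.orbit ↥A x = O := by
        ext y; rw [hO]; constructor
        · rintro ⟨a, rfl⟩; exact ⟨a.1, a.2, rfl⟩
        · rintro ⟨a, ha, rfl⟩; exact ⟨⟨a, ha⟩, rfl⟩
      have hstab : MulAction.stabilizer ↥A x = St.subgroupOf A := by
        ext a
        rw [MulAction.mem_stabilizer_iff, Subgroup.mem_subgroupOf, hSt, Subgroup.mem_inf,
          MulAction.mem_stabilizer_iff]
        constructor
        · intro h; exact ⟨a.2, h⟩
        · intro h; exact h.2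
      have hcardA : Nat.card A = O.ncard * Nat.card St := by
        have h1 := (MulAction.stabilizer ↥A x).card_mul_index
        rw [MulAction.index_stabilizer, horb, hstab,
          Nat.card_congr (Subgroup.subgroupOfEquivOfLe hStA).toEquiv] at h1
        rw [← h1, mul_comm]
      -- the complement
      obtain ⟨φ, hφ⟩ : ∃ φ : Equiv.Perm {y // y ∉ O} →* Equiv.Perm α, φ = Equiv.Perm.ofSubtype :=
        ⟨_, rfl⟩
      have hφinj : Function.Injective φ := hφ ▸ Equiv.Perm.ofSubtype_injective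
      have hrange : St ≤ φ.range := by
        intro s hs
        have h₁ : ∀ y, (s y ∉ O) ↔ (y ∉ O) := fun y => not_congr (hOinv s (hStA hs) y)
        have h₂ : ∀ y, s y ≠ y → y ∉ O := fun y hy hyO => hy (hfix s hs y hyO)
        refine ⟨s.subtypePerm h₁, ?_⟩
        rw [hφ]
        exact Equiv.Perm.ofSubtype_subtypePerm h₁ h₂
      have hcardB : Nat.card (St.comap φ) = Nat.card St := by
        rw [← Subgroup.card_map_of_injective hφinj, Subgroup.map_comap_eq, inf_eq_right.mpr hrange]
      have hBab : ∀ u ∈ St.comap φ, ∀ v ∈ St.comap φ, u * v = v * u := by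
        intro u hu v hv
        apply hφinj
        rw [map_mul, map_mul]
        exact hA _ (hStA hu) _ (hStA hv)
      have hm1 : 1 ≤ O.ncard := (Set.ncard_pos (Set.toFinite O)).mpr ⟨x, hxO⟩
      have hmn : O.ncard ≤ n := by
        rw [← hcard]; exact Set.ncard_le_card O
      have hcardβ : Nat.card {y // y ∉ O} = n - O.ncard := by
        have h1 : Nat.card {y // y ∉ O} = (Oᶜ).ncard := (_root_.Nat.card_coe_set_eq (Oᶜ))
        rw [h1, Set.ncard_compl, hcard]
      have hIH := ih (n - O.ncard) (by omega) {y // y ∉ O} hcardβ (St.comap φ) hBab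
      rw [hcardA, ← hcardB]
      have hk := key O.ncard hm1 (n - O.ncard)
      rw [Nat.sub_add_cancel hmn] at hk
      calc O.ncard * Nat.card (St.comap φ) ≤ O.ncard * g (n - O.ncard) :=
            Nat.mul_le_mul_left _ hIH
        _ ≤ g n := hk


/-- The largest order of an abelian subgroup of the symmetric group of degree n is 3^k when n = 3k, 4·3^(k−1) when n = 3k + 1, and 2·3^k when n = 3k + 2, for every k ≥ 1. -/
theorem result (k : ℕ) (hk : 1 ≤ k) :
    IsGreatest {c : ℕ | ∃ A : Subgroup (Equiv.Perm (Fin (3 * k))), IsMulCommutative A ∧ Nat.card A = c} (3 ^ k) ∧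
    IsGreatest {c : ℕ | ∃ A : Subgroup (Equiv.Perm (Fin (3 * k + 1))), IsMulCommutative A ∧ Nat.card A = c}
      (4 * 3 ^ (k - 1)) ∧
    IsGreatest {c : ℕ | ∃ A : Subgroup (Equiv.Perm (Fin (3 * k + 2))), IsMulCommutative A ∧ Nat.card A = c}
      (2 * 3 ^ k) := by
  have hub : ∀ (n : ℕ) (A : Subgroup (Equiv.Perm (Fin n))), IsMulCommutative A →
      Nat.card A ≤ g n := by
    intro n A hA
    apply card_le_g n (Fin n) (by simp) A
    intro a ha b hb
    have := (isMulCommutative_iff.mp hA) ⟨a, ha⟩ ⟨b, hb⟩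
    exact congrArg Subtype.val this
  refine ⟨⟨hasAb_three_mul k, ?_⟩, ⟨hasAb_three_mul_add_one k hk, ?_⟩,
    ⟨hasAb_three_mul_add_two k, ?_⟩⟩
  · rintro c ⟨A, hA, rfl⟩
    rw [← g_three_mul]; exact hub _ A hA
  · rintro c ⟨A, hA, rfl⟩
    rw [← g_three_mul_add_one k hk]; exact hub _ A hA
  · rintro c ⟨A, hA, rfl⟩
    rw [← g_three_mul_add_two]; exact hub _ A hA

end Cfsg.Agent.S2505
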