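import Cfsg.Statements.S1445
import Cfsg.Agent.Lib.Helper17.PrimeAct4

set_option autoImplicit false
open Cfsg

namespace Cfsg.Agent.S1445

open scoped commutatorElement
open Cfsg.Agent.Lib.Helper17 Cfsg.Agent.Lib.Helper17.PrimeAct

/-- Let G be a solvable group of odd order, K a normal subgroup and R a subgroup with G = KR and the orders of K and R coprime. Suppose K ∩ C_G(x) = K ∩ C_G(R) for every non-identity x ∈ R, and F(K) ∩ C_G(R) = 1. Then [K, R] is contained in the Fitting subgroup of K. -/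
theorem result {G : Type*} [Group G] [Finite G] [Group.IsSolvable G] (hodd : Odd (Nat.card G)) (K R : Subgroup G) [K.Normal] (hKR : K ⊔ R = ⊤) (hcop : (Nat.card K).Coprime (Nat.card R))
    (hprime : ∀ x ∈ R, x ≠ 1 → K ⊓ Subgroup.centralizer ({x} : Set G) = (K ⊓ Subgroup.centralizer (R : Set G)))
    (hF : Cfsg.fittingOf K ⊓ Subgroup.centralizer (R : Set G) = ⊥) :
    ⁅K, R⁆ ≤ Cfsg.fittingOf K := by
  classical
  by_cases hRbot : R = ⊥
  · rw [hRbot, Subgroup.commutator_bot_right]; exact bot_le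
  -- an element of prime order in `R`
  have hRnt : Nontrivial ↥R := (Subgroup.nontrivial_iff_ne_bot R).mpr hRbot
  have hRcard : Nat.card ↥R ≠ 1 := by
    intro h
    have := Finite.one_lt_card_iff_nontrivial.mpr hRnt
    omega
  obtain ⟨r, hr, hrR⟩ := Nat.exists_prime_and_dvd hRcard
  haveI : Fact r.Prime := ⟨hr⟩
  obtain ⟨x', hx'⟩ := exists_prime_orderOf_dvd_card' (G := ↥R) r hrR
  obtain ⟨x, hxdef⟩ : ∃ x : G, x = (x' : G) := ⟨_, rfl⟩
  have hxR : x ∈ R := by rw [hxdef]; exact x'.2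
  have hxo : orderOf x = r := by rw [hxdef, Subgroup.orderOf_coe]; exact hx'
  have hx1 : x ≠ 1 := by
    intro h
    rw [h, orderOf_one] at hxo
    exact hr.one_lt.ne hxo
  have hxr : x ^ r = 1 := by rw [← hxo]; exact pow_orderOf_eq_one x
  have hrK : ¬ r ∣ Nat.card ↥K := by
    intro h
    have := Nat.eq_one_of_dvd_coprimes hcop h hrR
    exact hr.one_lt.ne' this
  have hNK : Subgroup.normalizer (K : Set G) = ⊤ := Subgroup.normalizer_eq_top_iff.mpr inferInstance
  have hxK : x ∈ Subgroup.normalizer (K : Set G) := by rw [hNK]; exact Subgroup.mem_top _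
  have hFn : ∀ g : G, g ∈ Subgroup.normalizer ((Cfsg.fittingOf K : Subgroup G) : Set G) := by
    intro g
    apply normalizer_le_normalizer_fittingOf K
    rw [hNK]; exact Subgroup.mem_top _
  have hKodd : Odd (Nat.card ↥K) := Odd.of_dvd_nat hodd (Subgroup.card_subgroup_dvd_card K)
  have hcx : K ⊓ Subgroup.centralizer ({x} : Set G) = K ⊓ Subgroup.centralizer (R : Set G) :=
    hprime x hxR hx1
  have hfix : ∀ f ∈ Cfsg.fittingOf K, x * f = f * x → f = 1 := by
    intro f hf hxf
    have h1 : f ∈ K ⊓ Subgroup.centralizer ({x} : Set G) := by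
      refine ⟨fittingOf_le K hf, ?_⟩
      show f ∈ Subgroup.centralizer ({x} : Set G)
      rw [Subgroup.mem_centralizer_singleton_iff]
      exact hxf.symm
    rw [hcx] at h1
    have h2 : f ∈ Cfsg.fittingOf K ⊓ Subgroup.centralizer (R : Set G) := ⟨hf, h1.2⟩
    rw [hF, Subgroup.mem_bot] at h2
    exact h2
  have hmain := comm_mem_fittingOf x hr hxr (Nat.card ↥K) K rfl hxK inferInstance hKodd hrK hfix
  -- decomposition `K = C_K(x) [K, x]`
  obtain ⟨A, hA⟩ : ∃ A : Subgroup G, A = Subgroup.zpowers x := ⟨_, rfl⟩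
  have hxA : x ∈ A := hA ▸ Subgroup.mem_zpowers x
  have hAK : A ≤ Subgroup.normalizer (K : Set G) := by rw [hNK]; exact le_top
  have hcardA : Nat.card A = r := by rw [hA, Nat.card_zpowers, hxo]
  have hcopA : (Nat.card A).Coprime (Nat.card K) := by
    rw [hcardA]; exact (Nat.Prime.coprime_iff_not_dvd hr).mpr hrK
  have hAsolv : Group.IsSolvable A := inferInstance
  have hdec := le_centralizer_sup_commutator A K hAK hcopA (Or.inl hAsolv)
  have hLF : ⁅K, A⁆ ≤ Cfsg.fittingOf K := by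
    rw [hA]
    exact commutator_zpowers_le (hFn x) hmain
  have hKL : K ≤ Subgroup.normalizer ((⁅K, A⁆ : Subgroup G) : Set G) :=
    Cfsg.Agent.Lib.Helper1.le_normalizer_commutator_left K A
  rw [Subgroup.commutator_le]
  intro k hk y hy
  have hk2 : k ∈ ((K ⊓ Subgroup.centralizer (A : Set G)) ⊔ ⁅K, A⁆ : Subgroup G) := hdec hk
  have hcoe := Subgroup.coe_mul_of_left_le_normalizer_right (K ⊓ Subgroup.centralizer (A : Set G)) ⁅K, A⁆
    (inf_le_left.trans hKL)
  rw [← SetLike.mem_coe, hcoe] at hk2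
  obtain ⟨c, hc, l, hl, rfl⟩ := hk2
  rw [SetLike.mem_coe] at hc hl
  have hc2 : c ∈ K ⊓ Subgroup.centralizer (R : Set G) := by
    rw [← hcx]
    refine ⟨hc.1, ?_⟩
    show c ∈ Subgroup.centralizer ({x} : Set G)
    rw [Subgroup.mem_centralizer_singleton_iff]
    have hcc : c ∈ Subgroup.centralizer (A : Set G) := hc.2
    rw [Subgroup.mem_centralizer_iff] at hcc
    exact (hcc x hxA).symm
  have hcy : ⁅c, y⁆ = 1 := by
    rw [commutatorElement_eq_one_iff_mul_comm]
    have hcc : c ∈ Subgroup.centralizer (R : Set G) := hc2.2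
    rw [Subgroup.mem_centralizer_iff] at hcc
    exact (hcc y hy).symm
  rw [comm_mul_left_eq, hcy, mul_one]
  have hlF : l ∈ Cfsg.fittingOf K := hLF hl
  have h1 : ⁅l, y⁆ ∈ Cfsg.fittingOf K := comm_mem_of_normalizer _ l y hlF (hFn y)
  exact (Subgroup.mem_normalizer_iff.mp (hFn c) _).mp h1
end Cfsg.Agent.S1445
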