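import Cfsg.Statements.S1373
-- import your own Cfsg.Agent.* helpers here
import Cfsg.Agent.Lib.Helper20.BGAlpha
import Cfsg.Agent.S1351
import Cfsg.Agent.S1352
import Cfsg.Agent.S1354
import Cfsg.Agent.S1366
import Cfsg.Agent.S1367
import Cfsg.Agent.S1368
import Cfsg.Agent.S1431

set_option autoImplicit false
open Cfsg

namespace Cfsg.Agent.S1373

/-- Let G be a minimal simple group of odd order and M a maximal subgroup with standard factorisation M = K U M_σ, K ≠ 1 and U = 1. Then M_σ ∩ C_G(K) has prime order. -/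
theorem result {G : Type*} [Group G] [Finite G] (hG : Cfsg.IsMinSimpleOddOrder G)
    (M : Subgroup G) (hM : IsCoatom M) (K U : Subgroup G) (hKU : Cfsg.IsSigmaDecomposition M K U) (hK1 : K ≠ ⊥) (hU : U = ⊥) :
    (Nat.card ↥(Cfsg.sigmaCore M ⊓ Subgroup.centralizer (K : Set G))).Prime := by
  obtain ⟨Mstar, ⟨hMstar, hKst, hKstH⟩, -⟩ := Cfsg.Agent.S1366.result hG M hM K U hKU hK1
  have hcyc := (Cfsg.Agent.S1351.result hG Mstar hMstar).2 _ hKstH
  obtain ⟨⟨Ustar, hKU'⟩, -⟩ := Cfsg.Agent.S1352.result hG Mstar hMstar _ hcyc hKstH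
  have hKs1 := (Cfsg.Agent.S1354.result hG M hM K hKU.cyclic hKU.hall).1
  by_cases hU' : Ustar = ⊥
  · exfalso
    have h67 := Cfsg.Agent.S1367.result hG M hM K U hKU hK1 Mstar hMstar hKst hKstH
    have h68 := Cfsg.Agent.S1368.result hG M hM K U hKU hK1 Mstar hMstar hKst hKstH
    have h31 := Cfsg.Agent.S1431.result hG M hM K hKU.hall hK1
    have h31' := Cfsg.Agent.S1431.result hG Mstar hMstar _ hKstH hKs1
    exact Cfsg.Agent.Lib.Helper20.BGPair.pair_false_of_decomp hG hM hKU hK1 hMstar hKst hKU' hKs1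
      (fun X hX hXp => (h67.1 X hX hXp).1) (fun Y hY hYp => (h67.2 Y hY hYp).1) h68.1.le h31 h31'
      hU hU'
  · exact Cfsg.Agent.Lib.Helper20.BGAlpha.card_prime_of_U_ne_bot hG hMstar hKU' hKs1 hU'

end Cfsg.Agent.S1373
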