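import Cfsg.Statements.S3703
import Mathlib
import Cfsg.Agent.Lib.Lead.FrobQuot
import Cfsg.Agent.Lib.Helper2.FrobeniusClass
import Cfsg.Agent.Lib.Helper1.Coprime
import Cfsg.Agent.Lib.Helper1.CoprimeAbelian
import Cfsg.Agent.Lib.Helper1.PGroup
import Cfsg.Agent.Lib.Helper1.Hall
import Cfsg.Agent.S0042
import Cfsg.Agent.S0023
import Cfsg.Agent.S0029
-- import your own Cfsg.Agent.* helpers here

set_option autoImplicit false
open Cfsg

namespace Cfsg.Agent.S3703

universe u v

open Subgroup Pointwise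
open Cfsg.Agent.Lib.Helper1

/-- Norm-product lemma (after Lead/FrobFixed): a Frobenius group `X = K ⋊ H` acting on an abelian
group `V` of order prime to `|K|`, with `C_V(K) = 1` and all `H`-norms trivial, forces `V = 1`. -/
theorem norm_lemma {X : Type u} {V : Type v} [Group X] [Finite X] [CommGroup V] [Finite V]
    (φ : X →* MulAut V) (K H : Subgroup X) [K.Normal] [Fintype H]
    (hKH : K ⊓ H = ⊥) (hKH' : K ⊔ H = ⊤)
    (hfpf : ∀ h ∈ H, h ≠ 1 → ∀ k ∈ K, h * k = k * h → k = 1)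
    (hcop : (Nat.card V).Coprime (Nat.card K))
    (hCK : ∀ v : V, (∀ k ∈ K, φ k v = v) → v = 1)
    (hPH : ∀ v : V, ∏ x : H, φ x v = 1) : ∀ v : V, v = 1 := by
  classical
  have : Fintype X := Fintype.ofFinite X
  have hfixL : ∀ (L : Subgroup X) [Fintype L] (v : V) (y : X), y ∈ L →
      φ y (∏ x : L, φ x v) = ∏ x : L, φ x v := by
    intro L _ v y hy
    rw [map_prod]
    have : ∀ x : L, φ y (φ x v) = φ ((⟨y, hy⟩ * x : L) : X) v := by
      intro x; rw [Subgroup.coe_mul, map_mul, MulAut.mul_apply]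
    simp_rw [this]
    exact Fintype.prod_equiv (Equiv.mulLeft ⟨y, hy⟩) _ _ (fun x => rfl)
  have hPK : ∀ v : V, ∏ x : K, φ x v = 1 := fun v => hCK _ (fun k hk => hfixL K v k hk)
  have hPF : ∀ v : V, ∏ x : X, φ x v = 1 := by
    intro v
    apply hCK
    intro k _
    rw [map_prod]
    simp_rw [← MulAut.mul_apply, ← map_mul]
    exact Fintype.prod_equiv (Equiv.mulLeft k) _ _ (fun x => rfl)
  have hbij := Cfsg.Agent.Lib.Helper2.frobMap_bijective K H hKH hKH' hfpf
  have hpow : ∀ v : V, v⁻¹ ^ (Fintype.card K) = 1 := by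
    intro v
    have h1 := hPF v
    rw [← Fintype.prod_subtype_mul_prod_subtype (fun x : X => x ∈ K) (fun x => φ x v)] at h1
    have h2 : ∏ x : {x : X // x ∈ K}, φ x v = 1 := hPK v
    rw [h2, one_mul] at h1
    rw [← hbij.prod_comp (fun x : {x : X // x ∉ K} => φ x v), Fintype.prod_prod_type] at h1
    have h3 : ∀ k : K, ∏ h : {h : H // h ≠ 1},
        φ ((Cfsg.Agent.Lib.Helper2.frobMap K H hKH (k, h) : {x : X // x ∉ K}) : X) v = v⁻¹ := by
      intro k
      have e1 : ∀ h : H, φ ((k : X) * (h : X) * (k : X)⁻¹) v = φ k (φ h (φ (k : X)⁻¹ v)) := by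
        intro h; rw [map_mul, map_mul, MulAut.mul_apply, MulAut.mul_apply]
      have e2 : ∏ h : H, φ ((k : X) * (h : X) * (k : X)⁻¹) v = 1 := by
        simp_rw [e1]
        rw [← map_prod, hPH]
        exact map_one _
      rw [Fintype.prod_eq_mul_prod_compl (1 : H)] at e2
      simp only [Subgroup.coe_one, mul_one, mul_inv_cancel, map_one, MulAut.one_apply] at e2
      have e4 : ∏ h ∈ ({1}ᶜ : Finset H), φ ((k : X) * (h : X) * (k : X)⁻¹) v =
          ∏ h : {h : H // h ≠ 1}, φ ((k : X) * ((h : H) : X) * (k : X)⁻¹) v :=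
        Finset.prod_subtype _ (by simp) _
      rw [e4] at e2
      exact eq_inv_of_mul_eq_one_right e2
    simp_rw [h3] at h1
    rw [Finset.prod_const, Finset.card_univ] at h1
    exact h1
  intro v
  have h1 : v ^ (Fintype.card K) = 1 := by
    have := hpow v
    rwa [inv_pow, inv_eq_one] at this
  have h2 : v ^ (Nat.card V) = 1 := pow_card_eq_one'
  have h3 : orderOf v ∣ Nat.gcd (Nat.card V) (Nat.card K) :=
    Nat.dvd_gcd (orderOf_dvd_of_pow_eq_one h2)
      (by rw [Nat.card_eq_fintype_card]; exact orderOf_dvd_of_pow_eq_one h1)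
  rw [hcop.gcd_eq_one, Nat.dvd_one, orderOf_eq_one_iff] at h3
  exact h3


/-- an element of every order dividing `orderOf g` -/
theorem exists_orderOf_eq_of_dvd {G : Type*} [Group G] [Finite G] (g : G) (d : ℕ)
    (hd : d ∣ orderOf g) : ∃ g' : G, orderOf g' = d := by
  have hpos : 0 < orderOf g := orderOf_pos g
  obtain ⟨m, hm⟩ := hd
  have hm0 : m ≠ 0 := by
    rintro rfl
    rw [mul_zero] at hm
    omega
  have hd0 : 0 < d := by
    rcases Nat.eq_zero_or_pos d with h | h
    · rw [h, zero_mul] at hm; omega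
    · exact h
  refine ⟨g ^ m, ?_⟩
  rw [orderOf_pow_of_dvd hm0 ⟨d, by rw [hm, mul_comm]⟩, hm]
  exact Nat.mul_div_cancel d (Nat.pos_of_ne_zero hm0)

/-- lifting element orders through a surjection -/
theorem exists_orderOf_eq_of_surjective {G G' : Type*} [Group G] [Finite G] [Group G']
    (π : G →* G') (hπ : Function.Surjective π) (g' : G') : ∃ g : G, orderOf g = orderOf g' := by
  obtain ⟨g₀, rfl⟩ := hπ g'
  exact exists_orderOf_eq_of_dvd g₀ _ (orderOf_map_dvd π g₀)

/-- the key order argument: a lift `g` of an element of order `n` with `g ^ n ≠ 1` produces an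
element of order `p * n` with `p ∣ |ker f|`. -/
theorem order_step {G Q : Type*} [Group G] [Finite G] [Group Q] (f : G →* Q) (g : G) (n : ℕ)
    (hn : orderOf (f g) = n) (hg : g ^ n ≠ 1) :
    ∃ p : ℕ, p.Prime ∧ p ∣ Nat.card f.ker ∧ ∃ g' : G, orderOf g' = p * n := by
  have hn0 : 0 < n := by
    rw [← hn]
    exact (orderOf_pos_iff.mpr (MonoidHom.isOfFinOrder f (isOfFinOrder_of_finite g)))
  have hmem : g ^ n ∈ f.ker := by
    rw [MonoidHom.mem_ker, map_pow, ← hn, pow_orderOf_eq_one]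
  have hndvd : n ∣ orderOf g := hn ▸ orderOf_map_dvd f g
  obtain ⟨t, ht⟩ := hndvd
  have hot : orderOf (g ^ n) = t := by
    rw [orderOf_pow_of_dvd hn0.ne' ⟨t, ht⟩, ht]
    exact Nat.mul_div_cancel_left t hn0
  have ht1 : t ≠ 1 := by
    intro h
    rw [h, orderOf_eq_one_iff] at hot
    exact hg hot
  obtain ⟨p, hp, hpt⟩ := Nat.exists_prime_and_dvd ht1
  refine ⟨p, hp, ?_, ?_⟩
  · have h1 : orderOf (⟨g ^ n, hmem⟩ : f.ker) ∣ Nat.card f.ker := orderOf_dvd_natCard _
    rw [Subgroup.orderOf_mk, hot] at h1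
    exact dvd_trans hpt h1
  · apply exists_orderOf_eq_of_dvd g
    rw [ht, mul_comm]
    exact Nat.mul_dvd_mul_left n hpt


/-- coprime action: if `K` does not centralize `N`, it does not centralize some `K`-invariant Sylow
subgroup of `N`. -/
theorem exists_sylow_not_centralized {G : Type*} [Group G] [Finite G] (K N : Subgroup G)
    [N.Normal] (hcop : (Nat.card K).Coprime (Nat.card N))
    (hsolv : Group.IsSolvable K ∨ Group.IsSolvable N)
    (hnc : ¬ K ≤ centralizer (N : Set G)) :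
    ∃ (p : ℕ) (_ : Fact p.Prime) (P : Sylow p N),
      K ≤ normalizer (((P : Subgroup N).map N.subtype : Subgroup G) : Set G) ∧
      ¬ K ≤ centralizer (((P : Subgroup N).map N.subtype : Subgroup G) : Set G) := by
  by_contra hcon
  push Not at hcon
  apply hnc
  have hKN : K ≤ normalizer (N : Set G) := by
    rw [normalizer_eq_top]; exact le_top
  obtain ⟨C, hC⟩ : ∃ C : Subgroup G, C = N ⊓ centralizer (K : Set G) := ⟨_, rfl⟩
  have hdvd : Nat.card N ∣ Nat.card C := by
    rw [← Nat.factorization_le_iff_dvd Nat.card_pos.ne' Nat.card_pos.ne']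
    intro p
    by_cases hp : p.Prime
    · haveI : Fact p.Prime := ⟨hp⟩
      obtain ⟨P, hP⟩ := Cfsg.Agent.S0023.result K N hKN hcop hsolv p
      have hcen := hcon p ⟨hp⟩ P hP
      have hle : (P : Subgroup N).map N.subtype ≤ C := by
        intro x hx
        rw [hC]
        refine mem_inf.2 ⟨map_subtype_le _ hx, ?_⟩
        rw [mem_centralizer_iff]
        intro k hk
        exact ((mem_centralizer_iff.1 (hcen hk)) x hx).symm
      have hcard : Nat.card ((P : Subgroup N).map N.subtype : Subgroup G)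
          = p ^ (Nat.card N).factorization p := by
        rw [Nat.card_congr ((P : Subgroup N).equivMapOfInjective N.subtype
          (subtype_injective N)).symm.toEquiv]
        exact P.card_eq_multiplicity
      have h1 := Subgroup.card_dvd_of_le hle
      rw [hcard] at h1
      exact (hp.pow_dvd_iff_le_factorization Nat.card_pos.ne').1 h1
    · rw [Nat.factorization_eq_zero_of_not_prime _ hp]
      exact Nat.zero_le _
  have hCN : C = N := by
    apply Subgroup.eq_of_le_of_card_ge (hC ▸ inf_le_left)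
    exact Nat.le_of_dvd Nat.card_pos hdvd
  intro k hk
  rw [mem_centralizer_iff]
  intro x hx
  have hxC : x ∈ C := hCN ▸ hx
  rw [hC] at hxC
  exact (mem_centralizer_iff.1 (mem_inf.1 hxC).2 k hk).symm


/-- `K ≅ Fb` nilpotent is solvable -/
theorem solvable_of_map {G Q : Type*} [Group G] [Group Q] (f : G →* Q) (K : Subgroup G)
    (Fb : Subgroup Q) (hnil : Group.IsNilpotent Fb) (hK : K ⊓ f.ker = ⊥) (hKF : K.map f = Fb) :
    Group.IsSolvable K := by
  have hmem : ∀ x : K, f x ∈ Fb := fun x => hKF ▸ Subgroup.mem_map_of_mem f x.2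
  let ψ : K →* Fb := (f.comp K.subtype).codRestrict Fb hmem
  have hψ : Function.Injective ψ := by
    rw [injective_iff_map_eq_one]
    intro x hx
    have h1 : f x = 1 := congrArg Subtype.val hx
    have h2 : (x : G) ∈ K ⊓ f.ker := mem_inf.2 ⟨x.2, h1⟩
    rw [hK, mem_bot] at h2
    exact Subtype.ext h2
  have : Group.IsSolvable Fb := inferInstance
  exact Group.isSolvable_of_isSolvable_injective hψ

/-- Frattini argument via Schur–Zassenhaus: a lift of `f g₀` normalizing `K` -/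
theorem exists_normalizing_lift {G Q : Type*} [Group G] [Finite G] [Group Q] (Fb : Subgroup Q)
    [Fb.Normal] (f : G →* Q) (K : Subgroup G) (hK : K ⊓ f.ker = ⊥) (hKF : K.map f = Fb)
    (hcop : (Nat.card K).Coprime (Nat.card f.ker)) (hsolv : Group.IsSolvable K) (g₀ : G) :
    ∃ c : G, c ∈ normalizer (K : Set G) ∧ f c = f g₀ := by
  obtain ⟨N, hN⟩ : ∃ N : Subgroup G, N = f.ker := ⟨_, rfl⟩
  have hNn : N.Normal := hN ▸ inferInstance
  obtain ⟨F, hF⟩ : ∃ F : Subgroup G, F = Fb.comap f := ⟨_, rfl⟩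
  have hFn : F.Normal := hF ▸ inferInstance
  have memF : ∀ x, x ∈ F ↔ f x ∈ Fb := fun x => by rw [hF, mem_comap]
  have memN : ∀ x, x ∈ N ↔ f x = 1 := fun x => by rw [hN, MonoidHom.mem_ker]
  have hfK : ∀ k ∈ K, f k ∈ Fb := fun k hk => hKF ▸ Subgroup.mem_map_of_mem f hk
  have hKN1 : ∀ x ∈ N, x ∈ K → x = 1 := by
    intro x hxN hxK
    have : x ∈ K ⊓ f.ker := mem_inf.2 ⟨hxK, hN ▸ hxN⟩
    rwa [hK, mem_bot] at this
  -- K is a complement of N in F
  have hc1 : Cfsg.Agent.Lib.Helper1.IsComplIn N K F := by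
    refine ⟨fun x hx => ?_, fun x hx => ?_, ?_, ?_⟩
    · rw [memF, (memN x).1 hx]; exact one_mem _
    · rw [memF]; exact hfK x hx
    · rw [Subgroup.disjoint_def]
      exact fun hxN hxK => hKN1 _ hxN hxK
    · intro γ hγ
      rw [memF, ← hKF] at hγ
      obtain ⟨k, hk, hkγ⟩ := hγ
      refine ⟨γ * k⁻¹, ?_, k, hk, by group⟩
      rw [memN, map_mul, map_inv, hkγ, mul_inv_cancel]
  -- so is its conjugate
  have hc2 : Cfsg.Agent.Lib.Helper1.IsComplIn N (MulAut.conj g₀ • K) F := by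
    refine ⟨hc1.1, fun x hx => ?_, ?_, ?_⟩
    · rw [mem_conj_smul_iff] at hx
      have h1 := hc1.2.1 hx
      have h2 := hFn.conj_mem _ h1 g₀
      have : g₀ * (g₀⁻¹ * x * g₀) * g₀⁻¹ = x := by group
      rwa [this] at h2
    · rw [Subgroup.disjoint_def]
      intro x hxN hxK
      rw [mem_conj_smul_iff] at hxK
      have h1 : g₀⁻¹ * x * g₀ ∈ N := by
        have := hNn.conj_mem _ hxN g₀⁻¹
        rwa [inv_inv] at this
      have h2 := hKN1 _ h1 hxK
      have : x = g₀ * (g₀⁻¹ * x * g₀) * g₀⁻¹ := by group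
      rw [this, h2]; group
    · intro γ hγ
      have h1 : g₀⁻¹ * γ * g₀ ∈ F := by
        have := hFn.conj_mem _ hγ g₀⁻¹
        rwa [inv_inv] at this
      obtain ⟨n, hn, k, hk, hnk⟩ := hc1.2.2.2 _ h1
      refine ⟨g₀ * n * g₀⁻¹, hNn.conj_mem _ hn g₀, g₀ * k * g₀⁻¹, ?_, ?_⟩
      · rw [mem_conj_smul_iff]
        have : g₀⁻¹ * (g₀ * k * g₀⁻¹) * g₀ = k := by group
        rwa [this]
      · have : g₀ * n * g₀⁻¹ * (g₀ * k * g₀⁻¹) = g₀ * (n * k) * g₀⁻¹ := by group
        rw [this, hnk]; group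
  have hnorm : F ≤ normalizer (N : Set G) := by
    rw [normalizer_eq_top]; exact le_top
  have hcop' : (Nat.card N).Coprime (Nat.card K) := by rw [hN]; exact hcop.symm
  obtain ⟨u, hu, huK⟩ := internal_sz_conj hnorm hc1 hc2 hcop' (Or.inr hsolv)
  refine ⟨u * g₀, ?_, ?_⟩
  · rw [mem_normalizer_iff_map_conj_eq]
    have h1 : MulAut.conj (u * g₀) • K = K := by
      rw [map_mul, mul_smul, huK]
    exact h1
  · rw [map_mul, (memN u).1 hu, one_mul]


/-- normalizing both factors normalizes the commutator -/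
theorem mem_normalizer_commutator {G : Type*} [Group G] (A B : Subgroup G) (x : G)
    (hA : x ∈ normalizer (A : Set G)) (hB : x ∈ normalizer (B : Set G)) :
    x ∈ normalizer ((⁅A, B⁆ : Subgroup G) : Set G) := by
  rw [mem_normalizer_iff_map_conj_eq] at hA hB ⊢
  have h := Subgroup.map_commutator A B (MulAut.conj x).toMonoidHom
  have hA' : A.map (MulAut.conj x).toMonoidHom = A := hA
  have hB' : B.map (MulAut.conj x).toMonoidHom = B := hB
  rw [hA', hB'] at h
  exact h

/-- the base case: `K` acts nontrivially on an abelian normal subgroup `A ≤ ker f` -/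
theorem base_case {G Q : Type u} [Group G] [Finite G] [Group Q] [Finite Q]
    (Fb Hb : Subgroup Q) [Fb.Normal]
    (hdisjQ : ∀ x ∈ Fb, x ∈ Hb → x = 1)
    (hfpfQ : ∀ h ∈ Hb, h ≠ 1 → ∀ k ∈ Fb, h * k = k * h → k = 1)
    (hb : Q) (hhb : Hb = zpowers hb)
    (f : G →* Q) (hf : Function.Surjective f) (K : Subgroup G) (hK : K ⊓ f.ker = ⊥)
    (hKF : K.map f = Fb) (hcop : (Nat.card K).Coprime (Nat.card f.ker))
    (hsolv : Group.IsSolvable K)
    (A : Subgroup G) [hAn : A.Normal] (hAN : A ≤ f.ker) (hAab : ∀ a ∈ A, ∀ b ∈ A, a * b = b * a)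
    (hnc : ¬ K ≤ centralizer (A : Set G)) :
    ∃ p : ℕ, p.Prime ∧ p ∣ Nat.card f.ker ∧ ∃ g : G, orderOf g = p * Nat.card Hb := by
  classical
  have hn : Nat.card Hb = orderOf hb := by rw [hhb, Nat.card_zpowers]
  obtain ⟨n, hn'⟩ : ∃ n, n = orderOf hb := ⟨_, rfl⟩
  have hn0 : 0 < n := hn' ▸ orderOf_pos hb
  obtain ⟨g₀, hg₀⟩ := hf hb
  obtain ⟨c, hcK, hfc⟩ := exists_normalizing_lift Fb f K hK hKF hcop hsolv g₀
  rw [hg₀] at hfc
  by_cases hall : ∀ u ∈ f.ker, (c * u) ^ n = 1
  swap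
  · push Not at hall
    obtain ⟨u, hu, hne⟩ := hall
    have h1 : orderOf (f (c * u)) = n := by
      rw [map_mul, hfc, MonoidHom.mem_ker.1 hu, mul_one, hn']
    obtain ⟨p, hp, hpd, g', hg'⟩ := order_step f (c * u) _ h1 hne
    exact ⟨p, hp, hpd, g', by rw [hg', hn, hn']⟩
  exfalso
  -- basic facts
  have hcn : c ^ n = 1 := by
    have := hall 1 (one_mem _)
    rwa [mul_one] at this
  have hfK : ∀ k ∈ K, f k ∈ Fb := fun k hk => hKF ▸ Subgroup.mem_map_of_mem f hk
  have hKker : ∀ x ∈ K, f x = 1 → x = 1 := by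
    intro x hxK hx1
    have : x ∈ K ⊓ f.ker := mem_inf.2 ⟨hxK, hx1⟩
    rwa [hK, mem_bot] at this
  have hczpow : ∀ i : ℤ, f (c ^ i) = hb ^ i := fun i => by rw [map_zpow, hfc]
  have hczpow1 : ∀ i : ℤ, hb ^ i = 1 → c ^ i = 1 := by
    intro i hi
    have h1 : (n : ℤ) ∣ i := by
      rw [hn']; exact orderOf_dvd_iff_zpow_eq_one.2 hi
    obtain ⟨j, rfl⟩ := h1
    rw [zpow_mul, zpow_natCast, hcn, one_zpow]
  -- V
  obtain ⟨V, hV⟩ : ∃ V : Subgroup G, V = ⁅A, K⁆ := ⟨_, rfl⟩
  have hVA : V ≤ A := hV ▸ Subgroup.commutator_le_left A K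
  have hVne : V ≠ ⊥ := by
    intro h
    apply hnc
    rw [hV, Subgroup.commutator_eq_bot_iff_le_centralizer] at h
    exact Subgroup.le_centralizer_iff.1 h
  have hKA : K ≤ normalizer (A : Set G) := by rw [normalizer_eq_top]; exact le_top
  have hKK : K ≤ normalizer (K : Set G) := le_normalizer
  have hKV : K ≤ normalizer (V : Set G) := fun k hk =>
    hV ▸ mem_normalizer_commutator A K k (hKA hk) (hKK hk)
  have hcV : c ∈ normalizer (V : Set G) :=
    hV ▸ mem_normalizer_commutator A K c (by rw [normalizer_eq_top]; trivial) hcK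
  have hVab : ∀ a ∈ V, ∀ b ∈ V, a * b = b * a := fun a ha b hb' => hAab a (hVA ha) b (hVA hb')
  have hAcomm : IsMulCommutative A := ⟨⟨fun a b => Subtype.ext (hAab a a.2 b b.2)⟩⟩
  have hcopA : (Nat.card K).Coprime (Nat.card A) :=
    Nat.Coprime.coprime_dvd_right (Subgroup.card_dvd_of_le hAN) hcop
  have hcopV : (Nat.card V).Coprime (Nat.card K) :=
    (Nat.Coprime.coprime_dvd_right (Subgroup.card_dvd_of_le hVA) hcopA).symm
  have hCV : ∀ v ∈ V, v ∈ centralizer (K : Set G) → v = 1 := by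
    intro v hv hvK
    have h1 := centralizer_inf_commutator_eq_bot K A hKA hcopA
    have h2 : v ∈ (A ⊓ centralizer (K : Set G)) ⊓ ⁅A, K⁆ :=
      mem_inf.2 ⟨mem_inf.2 ⟨hVA hv, hvK⟩, hV ▸ hv⟩
    rwa [h1, mem_bot] at h2
  -- the group X = K ⋊ ⟨c⟩
  obtain ⟨X, hX⟩ : ∃ X : Subgroup G, X = K ⊔ zpowers c := ⟨_, rfl⟩
  have hKX : K ≤ X := hX ▸ le_sup_left
  have hcX : c ∈ X := hX ▸ (le_sup_right : zpowers c ≤ K ⊔ zpowers c) (mem_zpowers c)
  have hXK : X ≤ normalizer (K : Set G) :=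
    hX ▸ sup_le hKK ((zpowers_le).2 hcK)
  have hXV : X ≤ normalizer (V : Set G) :=
    hX ▸ sup_le hKV ((zpowers_le).2 hcV)
  obtain ⟨cX, hcXdef⟩ : ∃ cX : X, cX = ⟨c, hcX⟩ := ⟨_, rfl⟩
  have hcXval : (cX : G) = c := by rw [hcXdef]
  obtain ⟨KX, hKXdef⟩ : ∃ KX : Subgroup X, KX = K.subgroupOf X := ⟨_, rfl⟩
  obtain ⟨HX, hHXdef⟩ : ∃ HX : Subgroup X, HX = zpowers cX := ⟨_, rfl⟩
  have hKXn : KX.Normal := hKXdef ▸ (normal_subgroupOf_iff_le_normalizer hKX).mpr hXK
  have memKX : ∀ x : X, x ∈ KX ↔ (x : G) ∈ K := fun x => by rw [hKXdef, mem_subgroupOf]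
  have memHX : ∀ x : X, x ∈ HX ↔ ∃ i : ℤ, c ^ i = (x : G) := by
    intro x
    rw [hHXdef, mem_zpowers_iff]
    constructor
    · rintro ⟨i, rfl⟩
      exact ⟨i, by rw [Subgroup.coe_zpow, hcXval]⟩
    · rintro ⟨i, hi⟩
      exact ⟨i, Subtype.ext (by rw [Subgroup.coe_zpow, hcXval, hi])⟩
  have hKH : KX ⊓ HX = ⊥ := by
    rw [eq_bot_iff]
    intro x hx
    obtain ⟨h1, h2⟩ := mem_inf.1 hx
    rw [memKX] at h1
    obtain ⟨i, hi⟩ := (memHX x).1 h2
    rw [mem_bot]
    apply Subtype.ext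
    rw [Subgroup.coe_one]
    apply hKker _ h1
    have h3 : f (x : G) ∈ Fb := hfK _ h1
    have h4 : f (x : G) ∈ Hb := by
      rw [← hi, hczpow, hhb]; exact zpow_mem (mem_zpowers hb) i
    exact hdisjQ _ h3 h4
  have hKH' : KX ⊔ HX = ⊤ := by
    apply Subgroup.map_injective X.subtype_injective
    rw [Subgroup.map_sup, hKXdef, Subgroup.subgroupOf_map_subtype, hHXdef, MonoidHom.map_zpowers,
      inf_eq_left.2 hKX, ← MonoidHom.range_eq_map, Subgroup.range_subtype, Subgroup.subtype_apply,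
      hcXval]
    exact hX.symm
  have hfpf : ∀ h ∈ HX, h ≠ 1 → ∀ k ∈ KX, h * k = k * h → k = 1 := by
    intro h hh h1 k hk hcomm
    obtain ⟨i, hi⟩ := (memHX h).1 hh
    rw [memKX] at hk
    apply Subtype.ext
    rw [Subgroup.coe_one]
    apply hKker _ hk
    have hfh : f (h : G) ∈ Hb := by
      rw [← hi, hczpow, hhb]; exact zpow_mem (mem_zpowers hb) i
    have hfh1 : f (h : G) ≠ 1 := by
      intro h0
      apply h1
      apply Subtype.ext
      rw [Subgroup.coe_one, ← hi]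
      apply hczpow1
      rw [← hczpow, hi, h0]
    apply hfpfQ _ hfh hfh1 _ (hfK _ hk)
    have := congrArg (fun y : X => f (y : G)) hcomm
    simpa only [Subgroup.coe_mul, map_mul] using this
  -- the action on V
  letI : CommGroup V :=
    { (inferInstance : Group V) with
      mul_comm := fun a b => Subtype.ext (hVab a a.2 b b.2) }
  let φ : X →* MulAut V := V.normalizerMonoidHom.comp (Subgroup.inclusion hXV)
  have hφ : ∀ (x : X) (v : V), ((φ x v : V) : G) = (x : G) * (v : G) * (x : G)⁻¹ :=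
    fun x v => rfl
  have : Fintype HX := Fintype.ofFinite HX
  have hcopV' : (Nat.card V).Coprime (Nat.card KX) := by
    rw [hKXdef, card_subgroupOf_of_le hKX]; exact hcopV
  have hCK : ∀ v : V, (∀ k ∈ KX, φ k v = v) → v = 1 := by
    intro v hv
    apply Subtype.ext
    rw [Subgroup.coe_one]
    apply hCV _ v.2
    rw [mem_centralizer_iff]
    intro k hk
    have h1 := hv ⟨k, hKX hk⟩ ((memKX _).2 hk)
    have h2 := congrArg Subtype.val h1
    rw [hφ] at h2
    calc k * (v : G) = (k * (v : G) * k⁻¹) * k := by group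
      _ = (v : G) * k := by rw [h2]
  -- the norms vanish
  have hPH : ∀ v : V, ∏ x : HX, φ x v = 1 := by
    intro v
    have hprod : ∀ m : ℕ, ((∏ i ∈ Finset.range m, φ (cX ^ (i + 1)) v : V) : G) * c ^ m
        = (c * (v : G)) ^ m := by
      intro m
      induction m with
      | zero => simp
      | succ m ih =>
        rw [Finset.prod_range_succ, Subgroup.coe_mul, hφ, Subgroup.coe_pow, hcXval,
          pow_succ (c * (v : G)), ← ih]
        group
    have h1 := hprod n
    rw [hall _ (hAN (hVA v.2)), hcn, mul_one] at h1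
    have h2 : ∏ i ∈ Finset.range n, φ (cX ^ (i + 1)) v = 1 := Subtype.ext h1
    have hcXord : orderOf cX = n := by
      have e1 : orderOf cX = orderOf c := by rw [← hcXval, Subgroup.orderOf_coe]
      rw [e1]
      apply Nat.dvd_antisymm (orderOf_dvd_of_pow_eq_one hcn)
      rw [hn', ← hfc]
      exact orderOf_map_dvd f c
    have hfin : IsOfFinOrder cX := isOfFinOrder_of_finite cX
    have hcXH : cX ∈ HX := hHXdef ▸ mem_zpowers cX
    rw [← h2]
    rw [← Equiv.prod_comp (Equiv.mulLeft (⟨cX, hcXH⟩ : HX)) (fun x : HX => φ x v)]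
    subst hHXdef
    rw [← Equiv.prod_comp (finEquivZPowers hfin) ]
    rw [← hcXord, ← Fin.prod_univ_eq_prod_range (fun i => φ (cX ^ (i + 1)) v)]
    apply Finset.prod_congr rfl
    intro i _
    simp only [Equiv.coe_mulLeft, finEquivZPowers_apply, Subgroup.coe_mul, pow_succ']
  have hall1 := norm_lemma φ KX HX hKH hKH' hfpf hcopV' hCK hPH
  apply hVne
  rw [eq_bot_iff]
  intro v hv
  rw [mem_bot]
  exact congrArg Subtype.val (hall1 ⟨v, hv⟩)


/-- the main induction -/
theorem main {Q : Type u} [Group Q] [Finite Q] (Fb Hb : Subgroup Q) [Fb.Normal]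
    (hnil : Group.IsNilpotent Fb)
    (hdisjQ : ∀ x ∈ Fb, x ∈ Hb → x = 1)
    (hfpfQ : ∀ h ∈ Hb, h ≠ 1 → ∀ k ∈ Fb, h * k = k * h → k = 1)
    (hb : Q) (hhb : Hb = zpowers hb) :
    ∀ (n : ℕ) (G : Type u) [Group G] [Finite G], Nat.card G = n →
    ∀ (f : G →* Q), Function.Surjective f → ∀ K : Subgroup G, K ⊓ f.ker = ⊥ → K.map f = Fb →
      (Nat.card K).Coprime (Nat.card f.ker) → ¬ K ≤ centralizer (f.ker : Set G) →
      ∃ p : ℕ, p.Prime ∧ p ∣ Nat.card f.ker ∧ ∃ g : G, orderOf g = p * Nat.card Hb := by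
  intro n
  induction n using Nat.strong_induction_on with
  | _ n ih =>
  intro G _ _ hcard f hf K hK hKF hcop hnc
  have hsolv := solvable_of_map f K Fb hnil hK hKF
  obtain ⟨p, hp, P, hPK, hPnc⟩ := exists_sylow_not_centralized K f.ker hcop (Or.inl hsolv) hnc
  obtain ⟨PG, hPG⟩ : ∃ PG : Subgroup G, PG = (P : Subgroup f.ker).map f.ker.subtype := ⟨_, rfl⟩
  rw [← hPG] at hPK hPnc
  have hPGN : PG ≤ f.ker := hPG ▸ map_subtype_le _
  have hPGp : IsPGroup p PG := hPG ▸ P.2.map _
  have hKker : ∀ x ∈ K, f x = 1 → x = 1 := by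
    intro x hxK hx1
    have : x ∈ K ⊓ f.ker := mem_inf.2 ⟨hxK, hx1⟩
    rwa [hK, mem_bot] at this
  by_cases hnorm : normalizer (PG : Set G) = ⊤
  · -- `PG` is normal
    have hPGn : PG.Normal := normalizer_eq_top_iff.mp hnorm
    obtain ⟨Φ, hΦ⟩ : ∃ Φ : Subgroup G, Φ = (frattini PG).map PG.subtype := ⟨_, rfl⟩
    by_cases hΦbot : Φ = ⊥
    · -- base case: `PG` is abelian
      have hfr : frattini PG = ⊥ := by
        rw [hΦ] at hΦbot
        exact (Subgroup.map_eq_bot_iff_of_injective _ PG.subtype_injective).1 hΦbot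
      have hab : ∀ a ∈ PG, ∀ b ∈ PG, a * b = b * a := by
        intro a ha b hb'
        have h1 := Cfsg.Agent.Lib.Helper1.IsPGroup.commutator_le_frattini hPGp
        rw [hfr, le_bot_iff] at h1
        rw [commutator_eq_bot_iff_center_eq_top] at h1
        have h2 : (⟨a, ha⟩ : ↥PG) ∈ Subgroup.center ↥PG := by rw [h1]; trivial
        have h3 := Subgroup.mem_center_iff.1 h2 ⟨b, hb'⟩
        exact (congrArg Subtype.val h3).symm
      exact base_case Fb Hb hdisjQ hfpfQ hb hhb f hf K hK hKF hcop hsolv PG hPGN hab hPnc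
    · -- pass to the quotient by the Frattini subgroup of `PG`
      have hΦn : Φ.Normal := hΦ ▸ inferInstance
      have hΦPG : Φ ≤ PG := hΦ ▸ map_subtype_le _
      have hΦN : Φ ≤ f.ker := le_trans hΦPG hPGN
      have hlt : Nat.card (G ⧸ Φ) < n := hcard ▸ card_quotient_lt_of_ne_bot hΦbot
      have hf' : Function.Surjective (QuotientGroup.lift Φ f hΦN) :=
        QuotientGroup.lift_surjective_of_surjective Φ f hf hΦN
      have hker' : (QuotientGroup.lift Φ f hΦN).ker = f.ker.map (QuotientGroup.mk' Φ) :=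
        QuotientGroup.ker_lift Φ f hΦN
      have hK' : K.map (QuotientGroup.mk' Φ) ⊓ (QuotientGroup.lift Φ f hΦN).ker = ⊥ := by
        rw [eq_bot_iff]
        intro x hx
        obtain ⟨h1, h2⟩ := mem_inf.1 hx
        obtain ⟨k, hk, rfl⟩ := h1
        rw [MonoidHom.mem_ker, QuotientGroup.mk'_apply, QuotientGroup.lift_mk] at h2
        rw [hKker k hk h2, map_one]
        exact one_mem _
      have hKF' : (K.map (QuotientGroup.mk' Φ)).map (QuotientGroup.lift Φ f hΦN) = Fb := by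
        rw [Subgroup.map_map, QuotientGroup.lift_comp_mk', hKF]
      have hcop' : (Nat.card (K.map (QuotientGroup.mk' Φ))).Coprime
          (Nat.card (QuotientGroup.lift Φ f hΦN).ker) := by
        rw [hker']
        exact Nat.Coprime.coprime_dvd_left (Subgroup.card_map_dvd _ _)
          (Nat.Coprime.coprime_dvd_right (Subgroup.card_map_dvd _ _) hcop)
      have hnc' : ¬ K.map (QuotientGroup.mk' Φ) ≤
          centralizer ((QuotientGroup.lift Φ f hΦN).ker : Set (G ⧸ Φ)) := by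
        intro hcen
        apply hPnc
        apply Cfsg.Agent.S0029.result K PG hPK
        · have h1 : Nat.card (frattini PG) ∣ Nat.card f.ker :=
            dvd_trans (Subgroup.card_subgroup_dvd_card _) (Subgroup.card_dvd_of_le hPGN)
          exact Nat.Coprime.coprime_dvd_right h1 hcop
        · intro a ha k hk
          rw [← hΦ, ← QuotientGroup.eq_one_iff]
          have h1 : (QuotientGroup.mk' Φ a) ∈ K.map (QuotientGroup.mk' Φ) :=
            Subgroup.mem_map_of_mem _ ha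
          have h2 : (QuotientGroup.mk' Φ k) ∈ (QuotientGroup.lift Φ f hΦN).ker := by
            rw [hker']; exact Subgroup.mem_map_of_mem _ (hPGN hk)
          have h3 := (mem_centralizer_iff.1 (hcen h1)) _ h2
          have h4 : (QuotientGroup.mk' Φ) (a * k * a⁻¹ * k⁻¹) = 1 := by
            rw [map_mul, map_mul, map_mul, map_inv, map_inv, ← h3]
            group
          exact h4
      obtain ⟨p', hp', hpd', g', hg'⟩ := ih _ hlt (G ⧸ Φ) rfl _ hf' _ hK' hKF' hcop' hnc'
      obtain ⟨g, hg⟩ := exists_orderOf_eq_of_surjective (QuotientGroup.mk' Φ)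
        (QuotientGroup.mk'_surjective Φ) g'
      refine ⟨p', hp', ?_, g, hg.trans hg'⟩
      rw [hker'] at hpd'
      exact dvd_trans hpd' (Subgroup.card_map_dvd _ _)
  · -- `PG` is not normal: pass to its normalizer
    obtain ⟨G₁, hG₁⟩ : ∃ G₁ : Subgroup G, G₁ = normalizer (PG : Set G) := ⟨_, rfl⟩
    have hG₁top : G₁ ≠ ⊤ := hG₁ ▸ hnorm
    have hlt : Nat.card G₁ < n := hcard ▸ card_lt_of_ne_top hG₁top
    have hKG₁ : K ≤ G₁ := hG₁ ▸ hPK
    have hPG₁ : PG ≤ G₁ := hG₁ ▸ le_normalizer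
    have hsup : G₁ ⊔ f.ker = ⊤ := by
      rw [hG₁, hPG]
      exact Sylow.normalizer_sup_eq_top P
    have hf₁ : Function.Surjective (f.comp G₁.subtype) := by
      intro q
      obtain ⟨g, rfl⟩ := hf q
      have hg : g ∈ ((G₁ ⊔ f.ker : Subgroup G) : Set G) := by rw [hsup]; trivial
      rw [Subgroup.mul_normal] at hg
      obtain ⟨g₁, hg₁, u, hu, rfl⟩ := Set.mem_mul.1 hg
      refine ⟨⟨g₁, hg₁⟩, ?_⟩
      rw [MonoidHom.comp_apply, Subgroup.subtype_apply, map_mul, MonoidHom.mem_ker.1 hu, mul_one]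
    have hker₁ : (f.comp G₁.subtype).ker = f.ker.subgroupOf G₁ := rfl
    have hK₁ : K.subgroupOf G₁ ⊓ (f.comp G₁.subtype).ker = ⊥ := by
      rw [eq_bot_iff]
      intro x hx
      obtain ⟨h1, h2⟩ := mem_inf.1 hx
      rw [mem_subgroupOf] at h1
      rw [MonoidHom.mem_ker, MonoidHom.comp_apply, Subgroup.subtype_apply] at h2
      rw [mem_bot]
      exact Subtype.ext (hKker _ h1 h2)
    have hKF₁ : (K.subgroupOf G₁).map (f.comp G₁.subtype) = Fb := by
      rw [← Subgroup.map_map, Subgroup.subgroupOf_map_subtype, inf_eq_left.2 hKG₁, hKF]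
    have hcardker : Nat.card (f.comp G₁.subtype).ker ∣ Nat.card f.ker := by
      rw [hker₁, Nat.card_congr ((f.ker.subgroupOf G₁).equivMapOfInjective G₁.subtype
        G₁.subtype_injective).toEquiv, Subgroup.subgroupOf_map_subtype]
      exact Subgroup.card_dvd_of_le inf_le_left
    have hcop₁ : (Nat.card (K.subgroupOf G₁)).Coprime (Nat.card (f.comp G₁.subtype).ker) := by
      rw [card_subgroupOf_of_le hKG₁]
      exact Nat.Coprime.coprime_dvd_right hcardker hcop
    have hnc₁ : ¬ K.subgroupOf G₁ ≤ centralizer ((f.comp G₁.subtype).ker : Set G₁) := by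
      intro hcen
      apply hPnc
      intro k hk
      rw [mem_centralizer_iff]
      intro x hx
      have h1 : (⟨k, hKG₁ hk⟩ : G₁) ∈ K.subgroupOf G₁ := by rw [mem_subgroupOf]; exact hk
      have h2 : (⟨x, hPG₁ hx⟩ : G₁) ∈ (f.comp G₁.subtype).ker := by
        rw [hker₁, mem_subgroupOf]; exact hPGN hx
      have h3 := (mem_centralizer_iff.1 (hcen h1)) _ h2
      exact congrArg Subtype.val h3
    obtain ⟨p', hp', hpd', g', hg'⟩ := ih _ hlt G₁ rfl _ hf₁ _ hK₁ hKF₁ hcop₁ hnc₁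
    refine ⟨p', hp', dvd_trans hpd' hcardker, (g' : G), ?_⟩
    rw [Subgroup.orderOf_coe, hg']



/-- Let N be a normal subgroup of the finite group G such that G/N is a Frobenius group with kernel F and cyclic complement H, where the order of F is coprime to that of N and F is not contained in the image of C_G(N) in G/N. Then G has an element of order p·#H for some prime p dividing the order of N. (A standard tool in recognising groups by their element orders.) -/
theorem result {G : Type*} [Group G] [Finite G] (N : Subgroup G) [N.Normal]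
    (Fb Hb : Subgroup (G ⧸ N)) [Fb.Normal] (hHb : Cfsg.IsFrobeniusComplement Hb) (hker : Cfsg.frobeniusKernel Hb = (Fb : Set (G ⧸ N)))
    (hcyc : IsCyclic Hb) (hcop : (Nat.card Fb).Coprime (Nat.card N))
    (hnot : ¬ Fb ≤ (Subgroup.centralizer (N : Set G)).map (QuotientGroup.mk' N)) :
    ∃ p : ℕ, p.Prime ∧ p ∣ Nat.card N ∧ ∃ g : G, orderOf g = p * Nat.card Hb := by
  -- Frobenius facts
  obtain ⟨K₀, hK₀, -, hcompl, -, hfpf₀⟩ := Cfsg.Agent.CharLib.frob_setup Hb hHb
  have hK₀F : K₀ = Fb := SetLike.coe_injective (hK₀.trans hker)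
  subst hK₀F
  obtain ⟨N₀, hN₀, -, hnil₀⟩ := Cfsg.Agent.S0042.result Hb hHb
  have hN₀F : N₀ = K₀ := SetLike.coe_injective (hN₀.trans hker)
  subst hN₀F
  have hdisjQ : ∀ x ∈ N₀, x ∈ Hb → x = 1 := by
    intro x h1 h2
    have : x ∈ N₀ ⊓ Hb := mem_inf.2 ⟨h1, h2⟩
    rwa [hcompl.disjoint.eq_bot, mem_bot] at this
  have hfpfQ : ∀ h ∈ Hb, h ≠ 1 → ∀ k ∈ N₀, h * k = k * h → k = 1 := by
    intro h hh h1 k hk hc
    have : k ∈ N₀ ⊓ centralizer {h} := by
      refine mem_inf.2 ⟨hk, ?_⟩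
      rw [mem_centralizer_singleton_iff]
      exact hc.symm
    rwa [hfpf₀ h hh h1, mem_bot] at this
  -- generator of Hb
  obtain ⟨gen, hgen⟩ := hcyc.exists_generator
  have hhb : Hb = zpowers (gen : G ⧸ N) := by
    ext x
    constructor
    · intro hx
      obtain ⟨i, hi⟩ := mem_zpowers_iff.1 (hgen ⟨x, hx⟩)
      rw [mem_zpowers_iff]
      refine ⟨i, ?_⟩
      have := congrArg Subtype.val hi
      rwa [Subgroup.coe_zpow] at this
    · intro hx
      obtain ⟨i, rfl⟩ := mem_zpowers_iff.1 hx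
      exact zpow_mem gen.2 i
  -- the complement K
  obtain ⟨F, hF⟩ : ∃ F : Subgroup G, F = N₀.comap (QuotientGroup.mk' N) := ⟨_, rfl⟩
  have hNF : N ≤ F := by
    intro x hx
    rw [hF, mem_comap, QuotientGroup.mk'_apply, (QuotientGroup.eq_one_iff x).2 hx]
    exact one_mem _
  have hFcard : Nat.card F = Nat.card N₀ * Nat.card N := by
    rw [hF]; exact card_comap_mk' N N₀
  have hrel : N.relIndex F = Nat.card N₀ := by
    have h1 := Subgroup.relIndex_mul_relIndex (⊥ : Subgroup G) N F bot_le hNF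
    rw [Subgroup.relIndex_bot_left, Subgroup.relIndex_bot_left, hFcard, mul_comm] at h1
    exact Nat.eq_of_mul_eq_mul_right Nat.card_pos h1
  have hFnorm : F ≤ normalizer (N : Set G) := by rw [normalizer_eq_top]; exact le_top
  obtain ⟨K, hKc⟩ := internal_sz_exists hNF hFnorm (by rw [hrel]; exact hcop.symm)
  obtain ⟨-, hKF', hdisj, hdecomp⟩ := hKc
  have hkerf : (QuotientGroup.mk' N).ker = N := QuotientGroup.ker_mk' N
  have hK : K ⊓ (QuotientGroup.mk' N).ker = ⊥ := by
    rw [hkerf, inf_comm]; exact hdisj.eq_bot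
  have hKF : K.map (QuotientGroup.mk' N) = N₀ := by
    apply le_antisymm
    · rintro _ ⟨k, hk, rfl⟩
      have := hKF' hk
      rwa [hF, mem_comap] at this
    · intro q hq
      obtain ⟨γ, rfl⟩ := QuotientGroup.mk'_surjective N q
      have hγ : γ ∈ F := by rw [hF, mem_comap]; exact hq
      obtain ⟨n, hn, a, ha, rfl⟩ := hdecomp γ hγ
      refine ⟨a, ha, ?_⟩
      rw [map_mul, QuotientGroup.mk'_apply, QuotientGroup.mk'_apply,
        (QuotientGroup.eq_one_iff n).2 hn, one_mul]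
  have hKcard : Nat.card K = Nat.card N₀ := by
    have h1 := IsComplIn.card_mul_card ⟨hNF, hKF', hdisj, hdecomp⟩
    rw [hFcard, mul_comm] at h1
    exact Nat.eq_of_mul_eq_mul_right Nat.card_pos h1
  have hcopK : (Nat.card K).Coprime (Nat.card (QuotientGroup.mk' N).ker) := by
    rw [hkerf, hKcard]; exact hcop
  have hnc : ¬ K ≤ centralizer ((QuotientGroup.mk' N).ker : Set G) := by
    rw [hkerf]
    intro hcen
    apply hnot
    rw [← hKF]
    exact Subgroup.map_mono hcen
  obtain ⟨p, hp, hpd, g, hg⟩ := main N₀ Hb hnil₀ hdisjQ hfpfQ (gen : G ⧸ N) hhb _ G rfl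
    (QuotientGroup.mk' N) (QuotientGroup.mk'_surjective N) K hK hKF hcopK hnc
  rw [hkerf] at hpd
  exact ⟨p, hp, hpd, g, hg⟩

end Cfsg.Agent.S3703
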