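import Cfsg.Statements.S3495
import Cfsg.Agent.Lib.Helper19.ExtPrim

set_option autoImplicit false
open Cfsg

namespace Cfsg.Agent.S3495

/-- Let a finite group G act faithfully and primitively on a finite set Ω with non-trivial point stabilizers, each acting primitively on every one of its orbits (an extremely primitive group), and suppose G has an elementary abelian normal p-subgroup N acting regularly on Ω (affine type). Then every non-trivial subgroup M of a point stabilizer G_α that is normal in G_α has the same orbits on Ω as G_α, and normalizes no subgroup of N other than 1 and N. -/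
theorem result {G : Type*} [Group G] [Finite G] {Ω : Type*} [Fintype Ω] [MulAction G Ω] [FaithfulSMul G Ω] (hprim : MulAction.IsPreprimitive G Ω) (hH : ∀ α : Ω, MulAction.stabilizer G α ≠ ⊥) (hep : ∀ (α : Ω) (ω : Ω), MulAction.IsPreprimitive (MulAction.stabilizer G α) (MulAction.orbit (MulAction.stabilizer G α) ω))
    (N : Subgroup G) [N.Normal] (hNc : IsMulCommutative N) (p : ℕ) (hp : p.Prime) (hNp : ∀ n ∈ N, n ^ p = 1)
    (hNtr : MulAction.IsPretransitive N Ω) (hNreg : ∀ ω : Ω, MulAction.stabilizer N ω = ⊥) (α : Ω) (M : Subgroup G) (hM : M ≠ ⊥) (hMle : M ≤ MulAction.stabilizer G α)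
    (hMn : MulAction.stabilizer G α ≤ Subgroup.normalizer (M : Set G)) :
    (∀ ω : Ω, MulAction.orbit M ω = MulAction.orbit (MulAction.stabilizer G α) ω) ∧
    (∀ L : Subgroup G, L ≤ N → M ≤ Subgroup.normalizer (L : Set G) → L = ⊥ ∨ L = N) := by
  classical
  have htr := hprim.toIsPretransitive
  have hMn' : ∀ g : G, g • α = α → ∀ k ∈ M, g * k * g⁻¹ ∈ M := fun g hg k hk =>
    (Subgroup.mem_normalizer_iff.1 (hMn hg) k).1 hk
  have hT := fun ω hω => Cfsg.Agent.Lib.Helper19.ExtPrim.normal_transitive_on_suborbit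
    hprim hH hep M hM hMle hMn' ω hω
  -- regularity of N
  have hreg : ∀ n₁ ∈ N, ∀ n₂ ∈ N, n₁ • α = n₂ • α → n₁ = n₂ := by
    intro n₁ h₁ n₂ h₂ h
    have h3 : (⟨n₂⁻¹ * n₁, N.mul_mem (N.inv_mem h₂) h₁⟩ : N) ∈ MulAction.stabilizer N α := by
      rw [MulAction.mem_stabilizer_iff]
      show (n₂⁻¹ * n₁) • α = α
      rw [mul_smul, h, inv_smul_smul]
    rw [hNreg α, Subgroup.mem_bot] at h3
    have h4 : n₂⁻¹ * n₁ = 1 := congrArg Subtype.val h3
    exact (inv_mul_eq_one.1 h4).symm
  have hNcomm : ∀ a ∈ N, ∀ b ∈ N, a * b = b * a := by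
    intro a ha b hb
    have := hNc.is_comm.comm (⟨a, ha⟩ : N) ⟨b, hb⟩
    exact congrArg Subtype.val this
  refine ⟨fun ω => ?_, fun L hLN hML => ?_⟩
  · by_cases hω : ω = α
    · subst hω
      ext x
      constructor
      · rintro ⟨m, rfl⟩
        exact ⟨⟨m.1, hMle m.2⟩, rfl⟩
      · rintro ⟨g, rfl⟩
        refine ⟨1, ?_⟩
        show (1 : M) • ω = g • ω
        rw [one_smul]
        exact g.2.symm
    · ext x
      constructor
      · rintro ⟨m, rfl⟩
        exact ⟨⟨m.1, hMle m.2⟩, rfl⟩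
      · intro hx
        obtain ⟨m, hm, rfl⟩ := hT ω hω x hx
        exact ⟨⟨m, hm⟩, rfl⟩
  · by_cases hL : L = ⊥
    · exact Or.inl hL
    right
    obtain ⟨l, hl, hl1⟩ : ∃ l ∈ L, l ≠ 1 := by
      by_contra hcon
      push Not at hcon
      exact hL ((Subgroup.eq_bot_iff_forall L).2 hcon)
    -- G_α normalizes L
    have hconj : ∀ g : G, g • α = α → ∀ x ∈ L, g * x * g⁻¹ ∈ L := by
      intro g hg x hx
      by_cases hx1 : x = 1
      · rw [hx1]; simp
      have hxα : x • α ≠ α := by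
        intro h
        exact hx1 (hreg x (hLN hx) 1 N.one_mem (by rw [h, one_smul]))
      have hgx : g • x • α ∈ MulAction.orbit (MulAction.stabilizer G α) (x • α) := ⟨⟨g, hg⟩, rfl⟩
      obtain ⟨m, hm, hmx⟩ := hT (x • α) hxα _ hgx
      have hmα : m • α = α := hMle hm
      have hmi : m⁻¹ • α = α := by rw [inv_smul_eq_iff, hmα]
      have hgi : g⁻¹ • α = α := by rw [inv_smul_eq_iff, hg]
      have h1 : m * x * m⁻¹ ∈ L := (Subgroup.mem_normalizer_iff.1 (hML hm) x).1 hx
      have h2 : (m * x * m⁻¹) • α = (g * x * g⁻¹) • α := by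
        rw [mul_smul, mul_smul, hmi, mul_smul, mul_smul, hgi, hmx]
      have h3 : m * x * m⁻¹ = g * x * g⁻¹ :=
        hreg _ (hLN h1) _ (Subgroup.Normal.conj_mem inferInstance x (hLN hx) g) h2
      rw [← h3]; exact h1
    have hnorm : ∀ g : G, ∀ x ∈ L, g * x * g⁻¹ ∈ L := by
      intro g x hx
      obtain ⟨n, hn⟩ := MulAction.exists_smul_eq N α (g • α)
      have hh : (n.1⁻¹ * g) • α = α := by
        rw [mul_smul, inv_smul_eq_iff]; exact hn.symm
      have h1 := hconj _ hh x hx
      have h2 : g * x * g⁻¹ = n.1 * ((n.1⁻¹ * g) * x * (n.1⁻¹ * g)⁻¹) * n.1⁻¹ := by group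
      have h3 : n.1 * ((n.1⁻¹ * g) * x * (n.1⁻¹ * g)⁻¹) = ((n.1⁻¹ * g) * x * (n.1⁻¹ * g)⁻¹) * n.1 :=
        hNcomm _ n.2 _ (hLN h1)
      rw [h2, h3, mul_inv_cancel_right]
      exact h1
    haveI : L.Normal := ⟨fun x hx g => hnorm g x hx⟩
    have hLtr : MulAction.IsPretransitive L Ω := by
      apply MulAction.IsQuasiPreprimitive.isPretransitive_of_normal (G := G)
      intro htop
      apply hl1
      apply FaithfulSMul.eq_of_smul_eq_smul (α := Ω)
      intro x
      have hx : x ∈ MulAction.fixedPoints L Ω := by rw [htop]; trivial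
      rw [one_smul]
      exact hx ⟨l, hl⟩
    apply le_antisymm hLN
    intro n hn
    obtain ⟨l', hl'⟩ := MulAction.exists_smul_eq L α (n • α)
    have := hreg l'.1 (hLN l'.2) n hn hl'
    rw [← this]; exact l'.2

end Cfsg.Agent.S3495
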