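import Cfsg.Statements.S1690
import Cfsg.Agent.Lib.Helper28.TC2GlueOrb
import Cfsg.Agent.Lib.Helper28.TC2Range
import Cfsg.Agent.Lib.Helper28.TCFi24Link
import Cfsg.Agent.Lib.Helper28.TCFi24M
import Cfsg.Agent.Lib.Helper28.TCFi24M0
import Cfsg.Agent.Lib.Helper28.TCFi24M1
import Cfsg.Agent.Lib.Helper28.TCFi24M2
import Cfsg.Agent.Lib.Helper28.TCFi24M3
import Cfsg.Agent.Lib.Helper28.TCFi24M4
import Cfsg.Agent.Lib.Helper28.TCFi24M5
import Cfsg.Agent.Lib.Helper28.TCFi24M6
import Cfsg.Agent.Lib.Helper28.TCFi24M7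
import Cfsg.Agent.Lib.Helper28.TCFi24M8
import Cfsg.Agent.Lib.Helper28.TCFi24U0
import Cfsg.Agent.Lib.Helper28.TCFi24U1
import Cfsg.Agent.Lib.Helper28.TCFi24U2
import Cfsg.Agent.Lib.Helper28.TCFi24U3
import Cfsg.Agent.Lib.Helper28.TCFi24U4
import Cfsg.Agent.Lib.Helper28.TCFi24U5
import Cfsg.Agent.Lib.Helper28.TCFi24U6
import Cfsg.Agent.Lib.Helper28.TCFi24U7
import Cfsg.Agent.Lib.Helper28.TCFi24U8
import Cfsg.Agent.Lib.Helper28.TCFi24U9
import Cfsg.Agent.Lib.Helper28.TCFi24U10
import Cfsg.Agent.Lib.Helper28.TCFi24U11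
import Cfsg.Agent.Lib.Helper28.TCFi24U12
import Cfsg.Agent.Lib.Helper28.TCFi24U13
import Cfsg.Agent.Lib.Helper28.TCFi24U14
import Cfsg.Agent.Lib.Helper28.TCFi24U15
import Cfsg.Agent.Lib.Helper28.TCFi24U16
import Cfsg.Agent.Lib.Helper28.TCFi24U17
import Cfsg.Agent.Lib.Helper28.TCFi24U18
import Cfsg.Agent.Lib.Helper28.TCFi24U19
import Cfsg.Agent.Lib.Helper28.TCFi24U20
import Cfsg.Agent.Lib.Helper28.TCFi24U21
import Cfsg.Agent.Lib.Helper28.TCFi24U22
import Cfsg.Agent.Lib.Helper28.TCFi24U23
import Cfsg.Agent.Lib.Helper28.TCFi24U24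
import Cfsg.Agent.Lib.Helper28.TCFi24U25
import Cfsg.Agent.Lib.Helper28.TCFi24U26
import Cfsg.Agent.Lib.Helper28.TCFi24U27
import Cfsg.Agent.Lib.Helper28.TCFi24U28
import Cfsg.Agent.Lib.Helper28.TCFi24U29
import Cfsg.Agent.Lib.Helper28.TCFi24U30
import Cfsg.Agent.Lib.Helper28.TCFi24U31
import Cfsg.Agent.Lib.Helper28.TCFi24U32
import Cfsg.Agent.Lib.Helper28.TCFi24U33
import Cfsg.Agent.Lib.Helper28.TCFi24U34
import Cfsg.Agent.Lib.Helper28.TCFi24U35
import Cfsg.Agent.Lib.Helper28.TCFi24U36
import Cfsg.Agent.Lib.Helper28.TCFi24U37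
import Cfsg.Agent.Lib.Helper28.TCFi24U38
import Cfsg.Agent.Lib.Helper28.TCFi24U39
import Cfsg.Agent.Lib.Helper28.TCFi24U40
import Cfsg.Agent.Lib.Helper28.TCFi24U41
import Cfsg.Agent.Lib.Helper28.TCFi24U42
import Cfsg.Agent.Lib.Helper28.TCFi24U43
import Cfsg.Agent.Lib.Helper28.TCFi24U44
import Cfsg.Agent.Lib.Helper28.TCFi24U45
import Cfsg.Agent.Lib.Helper28.TCFi24U46
import Cfsg.Agent.Lib.Helper28.TCFi24U47
import Cfsg.Agent.Lib.Helper28.TCFi24U48
import Cfsg.Agent.Lib.Helper28.TCFi24U49
import Cfsg.Agent.Lib.Helper28.TCFi24U50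
import Cfsg.Agent.Lib.Helper28.TCFi24U51
import Cfsg.Agent.Lib.Helper28.TCFi24U52
import Cfsg.Agent.Lib.Helper28.TCFi24U53
import Cfsg.Agent.Lib.Helper28.TCFi24L0
import Cfsg.Agent.Lib.Helper28.TCFi24L1
import Cfsg.Agent.Lib.Helper28.TCFi24L2
import Cfsg.Agent.Lib.Helper28.TCFi24L3
import Cfsg.Agent.Lib.Helper28.TCFi24L4
import Cfsg.Agent.Lib.Helper28.TCFi24L5
import Cfsg.Agent.Lib.Helper28.TCFi24L6
import Cfsg.Agent.Lib.Helper28.TCFi24L7
import Cfsg.Agent.Lib.Helper28.TCFi24L8
import Cfsg.Agent.Lib.Helper28.TCFi24L9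
import Cfsg.Agent.Lib.Helper28.TCFi24L10
import Cfsg.Agent.Lib.Helper28.TCFi24L11
import Cfsg.Agent.Lib.Helper28.TCFi24L12
import Cfsg.Agent.Lib.Helper28.TCFi24L13
import Cfsg.Agent.Lib.Helper28.TCFi24L14
import Cfsg.Agent.Lib.Helper28.TCFi24L15
import Cfsg.Agent.Lib.Helper28.TCFi24L16
import Cfsg.Agent.Lib.Helper28.TCFi24L17
import Cfsg.Agent.Lib.Helper28.TCFi24L18
import Cfsg.Agent.Lib.Helper28.TCFi24L19
import Cfsg.Agent.Lib.Helper28.TCFi24L20
import Cfsg.Agent.Lib.Helper28.TCFi24L21
import Cfsg.Agent.Lib.Helper28.TCFi24L22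
import Cfsg.Agent.Lib.Helper28.TCFi24L23
import Cfsg.Agent.Lib.Helper28.TCFi24L24
import Cfsg.Agent.Lib.Helper28.TCFi24L25
import Cfsg.Agent.Lib.Helper28.TCFi24L26
import Cfsg.Agent.Lib.Helper28.TCFi24L27
import Cfsg.Agent.Lib.Helper28.TCFi24L28
import Cfsg.Agent.Lib.Helper28.TCFi24L29
import Cfsg.Agent.Lib.Helper28.TCFi24L30
import Cfsg.Agent.Lib.Helper28.TCFi24L31
import Cfsg.Agent.Lib.Helper28.TCFi24L32
import Cfsg.Agent.Lib.Helper28.TCFi24L33
import Cfsg.Agent.Lib.Helper28.TCFi24L34
import Cfsg.Agent.Lib.Helper28.TCFi24L35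
import Cfsg.Agent.Lib.Helper28.TCFi24L36
import Cfsg.Agent.Lib.Helper28.TCFi24L37
import Cfsg.Agent.Lib.Helper28.TCFi24L38
import Cfsg.Agent.Lib.Helper28.TCFi24L39
import Cfsg.Agent.Lib.Helper28.TCFi24L40
import Cfsg.Agent.Lib.Helper28.TCFi24L41
import Cfsg.Agent.Lib.Helper28.TCFi24L42
import Cfsg.Agent.Lib.Helper28.TCFi24L43
import Cfsg.Agent.Lib.Helper28.TCFi24L44
import Cfsg.Agent.Lib.Helper28.TCFi24L45
import Cfsg.Agent.Lib.Helper28.TCFi24L46
import Cfsg.Agent.Lib.Helper28.TCFi24L47
import Cfsg.Agent.Lib.Helper28.TCFi24L48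
import Cfsg.Agent.Lib.Helper28.TCFi24L49
import Cfsg.Agent.Lib.Helper28.TCFi24L50
import Cfsg.Agent.Lib.Helper28.TCFi24L51
import Cfsg.Agent.Lib.Helper28.TCFi24L52
import Cfsg.Agent.Lib.Helper28.TCFi24L53
import Cfsg.Agent.Lib.Helper28.TCFi24L54

set_option autoImplicit false
set_option maxRecDepth 100000
open Cfsg

namespace Cfsg.Agent.S1690
open Cfsg.Agent.Lib.Helper28.TC2Upper Cfsg.Agent.Lib.Helper28.TC2Lower Cfsg.Agent.Lib.Helper28.TC2Glue Cfsg.Agent.Lib.Helper28.TC2GlueOrb Cfsg.Agent.Lib.Helper28.TC2Orbit Cfsg.Agent.Lib.Helper28.TC2Range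
open Cfsg.Agent.Lib.Helper28.TCFi24Data Cfsg.Agent.Lib.Helper28.TCFi24Table Cfsg.Agent.Lib.Helper28.TCFi24Link Cfsg.Agent.Lib.Helper28.TCFi24M

theorem hchk : ∀ v, v < data.N → data.checkNode v = true := by
  intro v hv
  have hv' : v < 394454 := hv
  rcases Nat.lt_or_ge v 677 with h0 | h0
  · exact (data.checkRange_iff 0 677).mp Cfsg.Agent.Lib.Helper28.TCFi24U0.chk0 v (by omega) (by omega)
  rcases Nat.lt_or_ge v 1330 with h1 | h1
  · exact (data.checkRange_iff 677 653).mp Cfsg.Agent.Lib.Helper28.TCFi24U0.chk1 v (by omega) (by omega)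
  rcases Nat.lt_or_ge v 2031 with h2 | h2
  · exact (data.checkRange_iff 1330 701).mp Cfsg.Agent.Lib.Helper28.TCFi24U0.chk2 v (by omega) (by omega)
  rcases Nat.lt_or_ge v 2726 with h3 | h3
  · exact (data.checkRange_iff 2031 695).mp Cfsg.Agent.Lib.Helper28.TCFi24U0.chk3 v (by omega) (by omega)
  rcases Nat.lt_or_ge v 3435 with h4 | h4
  · exact (data.checkRange_iff 2726 709).mp Cfsg.Agent.Lib.Helper28.TCFi24U0.chk4 v (by omega) (by omega)
  rcases Nat.lt_or_ge v 4180 with h5 | h5
  · exact (data.checkRange_iff 3435 745).mp Cfsg.Agent.Lib.Helper28.TCFi24U0.chk5 v (by omega) (by omega)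
  rcases Nat.lt_or_ge v 4904 with h6 | h6
  · exact (data.checkRange_iff 4180 724).mp Cfsg.Agent.Lib.Helper28.TCFi24U0.chk6 v (by omega) (by omega)
  rcases Nat.lt_or_ge v 5733 with h7 | h7
  · exact (data.checkRange_iff 4904 829).mp Cfsg.Agent.Lib.Helper28.TCFi24U0.chk7 v (by omega) (by omega)
  rcases Nat.lt_or_ge v 6501 with h8 | h8
  · exact (data.checkRange_iff 5733 768).mp Cfsg.Agent.Lib.Helper28.TCFi24U0.chk8 v (by omega) (by omega)
  rcases Nat.lt_or_ge v 7270 with h9 | h9
  · exact (data.checkRange_iff 6501 769).mp Cfsg.Agent.Lib.Helper28.TCFi24U0.chk9 v (by omega) (by omega)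
  rcases Nat.lt_or_ge v 8186 with h10 | h10
  · exact (data.checkRange_iff 7270 916).mp Cfsg.Agent.Lib.Helper28.TCFi24U1.chk10 v (by omega) (by omega)
  rcases Nat.lt_or_ge v 8977 with h11 | h11
  · exact (data.checkRange_iff 8186 791).mp Cfsg.Agent.Lib.Helper28.TCFi24U1.chk11 v (by omega) (by omega)
  rcases Nat.lt_or_ge v 9869 with h12 | h12
  · exact (data.checkRange_iff 8977 892).mp Cfsg.Agent.Lib.Helper28.TCFi24U1.chk12 v (by omega) (by omega)
  rcases Nat.lt_or_ge v 11093 with h13 | h13
  · exact (data.checkRange_iff 9869 1224).mp Cfsg.Agent.Lib.Helper28.TCFi24U1.chk13 v (by omega) (by omega)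
  rcases Nat.lt_or_ge v 11869 with h14 | h14
  · exact (data.checkRange_iff 11093 776).mp Cfsg.Agent.Lib.Helper28.TCFi24U1.chk14 v (by omega) (by omega)
  rcases Nat.lt_or_ge v 12527 with h15 | h15
  · exact (data.checkRange_iff 11869 658).mp Cfsg.Agent.Lib.Helper28.TCFi24U1.chk15 v (by omega) (by omega)
  rcases Nat.lt_or_ge v 13167 with h16 | h16
  · exact (data.checkRange_iff 12527 640).mp Cfsg.Agent.Lib.Helper28.TCFi24U1.chk16 v (by omega) (by omega)
  rcases Nat.lt_or_ge v 13806 with h17 | h17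
  · exact (data.checkRange_iff 13167 639).mp Cfsg.Agent.Lib.Helper28.TCFi24U1.chk17 v (by omega) (by omega)
  rcases Nat.lt_or_ge v 14561 with h18 | h18
  · exact (data.checkRange_iff 13806 755).mp Cfsg.Agent.Lib.Helper28.TCFi24U1.chk18 v (by omega) (by omega)
  rcases Nat.lt_or_ge v 15235 with h19 | h19
  · exact (data.checkRange_iff 14561 674).mp Cfsg.Agent.Lib.Helper28.TCFi24U1.chk19 v (by omega) (by omega)
  rcases Nat.lt_or_ge v 15887 with h20 | h20
  · exact (data.checkRange_iff 15235 652).mp Cfsg.Agent.Lib.Helper28.TCFi24U2.chk20 v (by omega) (by omega)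
  rcases Nat.lt_or_ge v 16568 with h21 | h21
  · exact (data.checkRange_iff 15887 681).mp Cfsg.Agent.Lib.Helper28.TCFi24U2.chk21 v (by omega) (by omega)
  rcases Nat.lt_or_ge v 17244 with h22 | h22
  · exact (data.checkRange_iff 16568 676).mp Cfsg.Agent.Lib.Helper28.TCFi24U2.chk22 v (by omega) (by omega)
  rcases Nat.lt_or_ge v 18012 with h23 | h23
  · exact (data.checkRange_iff 17244 768).mp Cfsg.Agent.Lib.Helper28.TCFi24U2.chk23 v (by omega) (by omega)
  rcases Nat.lt_or_ge v 18804 with h24 | h24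
  · exact (data.checkRange_iff 18012 792).mp Cfsg.Agent.Lib.Helper28.TCFi24U2.chk24 v (by omega) (by omega)
  rcases Nat.lt_or_ge v 19506 with h25 | h25
  · exact (data.checkRange_iff 18804 702).mp Cfsg.Agent.Lib.Helper28.TCFi24U2.chk25 v (by omega) (by omega)
  rcases Nat.lt_or_ge v 20209 with h26 | h26
  · exact (data.checkRange_iff 19506 703).mp Cfsg.Agent.Lib.Helper28.TCFi24U2.chk26 v (by omega) (by omega)
  rcases Nat.lt_or_ge v 20946 with h27 | h27
  · exact (data.checkRange_iff 20209 737).mp Cfsg.Agent.Lib.Helper28.TCFi24U2.chk27 v (by omega) (by omega)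
  rcases Nat.lt_or_ge v 21573 with h28 | h28
  · exact (data.checkRange_iff 20946 627).mp Cfsg.Agent.Lib.Helper28.TCFi24U2.chk28 v (by omega) (by omega)
  rcases Nat.lt_or_ge v 22331 with h29 | h29
  · exact (data.checkRange_iff 21573 758).mp Cfsg.Agent.Lib.Helper28.TCFi24U2.chk29 v (by omega) (by omega)
  rcases Nat.lt_or_ge v 23081 with h30 | h30
  · exact (data.checkRange_iff 22331 750).mp Cfsg.Agent.Lib.Helper28.TCFi24U3.chk30 v (by omega) (by omega)
  rcases Nat.lt_or_ge v 24017 with h31 | h31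
  · exact (data.checkRange_iff 23081 936).mp Cfsg.Agent.Lib.Helper28.TCFi24U3.chk31 v (by omega) (by omega)
  rcases Nat.lt_or_ge v 24882 with h32 | h32
  · exact (data.checkRange_iff 24017 865).mp Cfsg.Agent.Lib.Helper28.TCFi24U3.chk32 v (by omega) (by omega)
  rcases Nat.lt_or_ge v 25543 with h33 | h33
  · exact (data.checkRange_iff 24882 661).mp Cfsg.Agent.Lib.Helper28.TCFi24U3.chk33 v (by omega) (by omega)
  rcases Nat.lt_or_ge v 26345 with h34 | h34
  · exact (data.checkRange_iff 25543 802).mp Cfsg.Agent.Lib.Helper28.TCFi24U3.chk34 v (by omega) (by omega)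
  rcases Nat.lt_or_ge v 27148 with h35 | h35
  · exact (data.checkRange_iff 26345 803).mp Cfsg.Agent.Lib.Helper28.TCFi24U3.chk35 v (by omega) (by omega)
  rcases Nat.lt_or_ge v 27795 with h36 | h36
  · exact (data.checkRange_iff 27148 647).mp Cfsg.Agent.Lib.Helper28.TCFi24U3.chk36 v (by omega) (by omega)
  rcases Nat.lt_or_ge v 28452 with h37 | h37
  · exact (data.checkRange_iff 27795 657).mp Cfsg.Agent.Lib.Helper28.TCFi24U3.chk37 v (by omega) (by omega)
  rcases Nat.lt_or_ge v 29258 with h38 | h38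
  · exact (data.checkRange_iff 28452 806).mp Cfsg.Agent.Lib.Helper28.TCFi24U3.chk38 v (by omega) (by omega)
  rcases Nat.lt_or_ge v 29972 with h39 | h39
  · exact (data.checkRange_iff 29258 714).mp Cfsg.Agent.Lib.Helper28.TCFi24U3.chk39 v (by omega) (by omega)
  rcases Nat.lt_or_ge v 31094 with h40 | h40
  · exact (data.checkRange_iff 29972 1122).mp Cfsg.Agent.Lib.Helper28.TCFi24U4.chk40 v (by omega) (by omega)
  rcases Nat.lt_or_ge v 31966 with h41 | h41
  · exact (data.checkRange_iff 31094 872).mp Cfsg.Agent.Lib.Helper28.TCFi24U4.chk41 v (by omega) (by omega)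
  rcases Nat.lt_or_ge v 32930 with h42 | h42
  · exact (data.checkRange_iff 31966 964).mp Cfsg.Agent.Lib.Helper28.TCFi24U4.chk42 v (by omega) (by omega)
  rcases Nat.lt_or_ge v 33679 with h43 | h43
  · exact (data.checkRange_iff 32930 749).mp Cfsg.Agent.Lib.Helper28.TCFi24U4.chk43 v (by omega) (by omega)
  rcases Nat.lt_or_ge v 34387 with h44 | h44
  · exact (data.checkRange_iff 33679 708).mp Cfsg.Agent.Lib.Helper28.TCFi24U4.chk44 v (by omega) (by omega)
  rcases Nat.lt_or_ge v 35282 with h45 | h45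
  · exact (data.checkRange_iff 34387 895).mp Cfsg.Agent.Lib.Helper28.TCFi24U4.chk45 v (by omega) (by omega)
  rcases Nat.lt_or_ge v 36118 with h46 | h46
  · exact (data.checkRange_iff 35282 836).mp Cfsg.Agent.Lib.Helper28.TCFi24U4.chk46 v (by omega) (by omega)
  rcases Nat.lt_or_ge v 36860 with h47 | h47
  · exact (data.checkRange_iff 36118 742).mp Cfsg.Agent.Lib.Helper28.TCFi24U4.chk47 v (by omega) (by omega)
  rcases Nat.lt_or_ge v 37509 with h48 | h48
  · exact (data.checkRange_iff 36860 649).mp Cfsg.Agent.Lib.Helper28.TCFi24U4.chk48 v (by omega) (by omega)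
  rcases Nat.lt_or_ge v 38201 with h49 | h49
  · exact (data.checkRange_iff 37509 692).mp Cfsg.Agent.Lib.Helper28.TCFi24U4.chk49 v (by omega) (by omega)
  rcases Nat.lt_or_ge v 39114 with h50 | h50
  · exact (data.checkRange_iff 38201 913).mp Cfsg.Agent.Lib.Helper28.TCFi24U5.chk50 v (by omega) (by omega)
  rcases Nat.lt_or_ge v 39964 with h51 | h51
  · exact (data.checkRange_iff 39114 850).mp Cfsg.Agent.Lib.Helper28.TCFi24U5.chk51 v (by omega) (by omega)
  rcases Nat.lt_or_ge v 40756 with h52 | h52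
  · exact (data.checkRange_iff 39964 792).mp Cfsg.Agent.Lib.Helper28.TCFi24U5.chk52 v (by omega) (by omega)
  rcases Nat.lt_or_ge v 42293 with h53 | h53
  · exact (data.checkRange_iff 40756 1537).mp Cfsg.Agent.Lib.Helper28.TCFi24U5.chk53 v (by omega) (by omega)
  rcases Nat.lt_or_ge v 43000 with h54 | h54
  · exact (data.checkRange_iff 42293 707).mp Cfsg.Agent.Lib.Helper28.TCFi24U5.chk54 v (by omega) (by omega)
  rcases Nat.lt_or_ge v 44140 with h55 | h55
  · exact (data.checkRange_iff 43000 1140).mp Cfsg.Agent.Lib.Helper28.TCFi24U5.chk55 v (by omega) (by omega)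
  rcases Nat.lt_or_ge v 45077 with h56 | h56
  · exact (data.checkRange_iff 44140 937).mp Cfsg.Agent.Lib.Helper28.TCFi24U5.chk56 v (by omega) (by omega)
  rcases Nat.lt_or_ge v 45762 with h57 | h57
  · exact (data.checkRange_iff 45077 685).mp Cfsg.Agent.Lib.Helper28.TCFi24U5.chk57 v (by omega) (by omega)
  rcases Nat.lt_or_ge v 46469 with h58 | h58
  · exact (data.checkRange_iff 45762 707).mp Cfsg.Agent.Lib.Helper28.TCFi24U5.chk58 v (by omega) (by omega)
  rcases Nat.lt_or_ge v 47500 with h59 | h59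
  · exact (data.checkRange_iff 46469 1031).mp Cfsg.Agent.Lib.Helper28.TCFi24U5.chk59 v (by omega) (by omega)
  rcases Nat.lt_or_ge v 48343 with h60 | h60
  · exact (data.checkRange_iff 47500 843).mp Cfsg.Agent.Lib.Helper28.TCFi24U6.chk60 v (by omega) (by omega)
  rcases Nat.lt_or_ge v 49416 with h61 | h61
  · exact (data.checkRange_iff 48343 1073).mp Cfsg.Agent.Lib.Helper28.TCFi24U6.chk61 v (by omega) (by omega)
  rcases Nat.lt_or_ge v 50099 with h62 | h62
  · exact (data.checkRange_iff 49416 683).mp Cfsg.Agent.Lib.Helper28.TCFi24U6.chk62 v (by omega) (by omega)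
  rcases Nat.lt_or_ge v 50779 with h63 | h63
  · exact (data.checkRange_iff 50099 680).mp Cfsg.Agent.Lib.Helper28.TCFi24U6.chk63 v (by omega) (by omega)
  rcases Nat.lt_or_ge v 51424 with h64 | h64
  · exact (data.checkRange_iff 50779 645).mp Cfsg.Agent.Lib.Helper28.TCFi24U6.chk64 v (by omega) (by omega)
  rcases Nat.lt_or_ge v 52223 with h65 | h65
  · exact (data.checkRange_iff 51424 799).mp Cfsg.Agent.Lib.Helper28.TCFi24U6.chk65 v (by omega) (by omega)
  rcases Nat.lt_or_ge v 53264 with h66 | h66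
  · exact (data.checkRange_iff 52223 1041).mp Cfsg.Agent.Lib.Helper28.TCFi24U6.chk66 v (by omega) (by omega)
  rcases Nat.lt_or_ge v 54333 with h67 | h67
  · exact (data.checkRange_iff 53264 1069).mp Cfsg.Agent.Lib.Helper28.TCFi24U6.chk67 v (by omega) (by omega)
  rcases Nat.lt_or_ge v 55055 with h68 | h68
  · exact (data.checkRange_iff 54333 722).mp Cfsg.Agent.Lib.Helper28.TCFi24U6.chk68 v (by omega) (by omega)
  rcases Nat.lt_or_ge v 56072 with h69 | h69
  · exact (data.checkRange_iff 55055 1017).mp Cfsg.Agent.Lib.Helper28.TCFi24U6.chk69 v (by omega) (by omega)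
  rcases Nat.lt_or_ge v 57921 with h70 | h70
  · exact (data.checkRange_iff 56072 1849).mp Cfsg.Agent.Lib.Helper28.TCFi24U7.chk70 v (by omega) (by omega)
  rcases Nat.lt_or_ge v 58673 with h71 | h71
  · exact (data.checkRange_iff 57921 752).mp Cfsg.Agent.Lib.Helper28.TCFi24U7.chk71 v (by omega) (by omega)
  rcases Nat.lt_or_ge v 59916 with h72 | h72
  · exact (data.checkRange_iff 58673 1243).mp Cfsg.Agent.Lib.Helper28.TCFi24U7.chk72 v (by omega) (by omega)
  rcases Nat.lt_or_ge v 61263 with h73 | h73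
  · exact (data.checkRange_iff 59916 1347).mp Cfsg.Agent.Lib.Helper28.TCFi24U7.chk73 v (by omega) (by omega)
  rcases Nat.lt_or_ge v 62027 with h74 | h74
  · exact (data.checkRange_iff 61263 764).mp Cfsg.Agent.Lib.Helper28.TCFi24U7.chk74 v (by omega) (by omega)
  rcases Nat.lt_or_ge v 62761 with h75 | h75
  · exact (data.checkRange_iff 62027 734).mp Cfsg.Agent.Lib.Helper28.TCFi24U7.chk75 v (by omega) (by omega)
  rcases Nat.lt_or_ge v 63414 with h76 | h76
  · exact (data.checkRange_iff 62761 653).mp Cfsg.Agent.Lib.Helper28.TCFi24U7.chk76 v (by omega) (by omega)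
  rcases Nat.lt_or_ge v 64586 with h77 | h77
  · exact (data.checkRange_iff 63414 1172).mp Cfsg.Agent.Lib.Helper28.TCFi24U7.chk77 v (by omega) (by omega)
  rcases Nat.lt_or_ge v 65802 with h78 | h78
  · exact (data.checkRange_iff 64586 1216).mp Cfsg.Agent.Lib.Helper28.TCFi24U7.chk78 v (by omega) (by omega)
  rcases Nat.lt_or_ge v 66558 with h79 | h79
  · exact (data.checkRange_iff 65802 756).mp Cfsg.Agent.Lib.Helper28.TCFi24U7.chk79 v (by omega) (by omega)
  rcases Nat.lt_or_ge v 67792 with h80 | h80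
  · exact (data.checkRange_iff 66558 1234).mp Cfsg.Agent.Lib.Helper28.TCFi24U8.chk80 v (by omega) (by omega)
  rcases Nat.lt_or_ge v 68572 with h81 | h81
  · exact (data.checkRange_iff 67792 780).mp Cfsg.Agent.Lib.Helper28.TCFi24U8.chk81 v (by omega) (by omega)
  rcases Nat.lt_or_ge v 69323 with h82 | h82
  · exact (data.checkRange_iff 68572 751).mp Cfsg.Agent.Lib.Helper28.TCFi24U8.chk82 v (by omega) (by omega)
  rcases Nat.lt_or_ge v 70031 with h83 | h83
  · exact (data.checkRange_iff 69323 708).mp Cfsg.Agent.Lib.Helper28.TCFi24U8.chk83 v (by omega) (by omega)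
  rcases Nat.lt_or_ge v 70708 with h84 | h84
  · exact (data.checkRange_iff 70031 677).mp Cfsg.Agent.Lib.Helper28.TCFi24U8.chk84 v (by omega) (by omega)
  rcases Nat.lt_or_ge v 71364 with h85 | h85
  · exact (data.checkRange_iff 70708 656).mp Cfsg.Agent.Lib.Helper28.TCFi24U8.chk85 v (by omega) (by omega)
  rcases Nat.lt_or_ge v 72490 with h86 | h86
  · exact (data.checkRange_iff 71364 1126).mp Cfsg.Agent.Lib.Helper28.TCFi24U8.chk86 v (by omega) (by omega)
  rcases Nat.lt_or_ge v 73635 with h87 | h87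
  · exact (data.checkRange_iff 72490 1145).mp Cfsg.Agent.Lib.Helper28.TCFi24U8.chk87 v (by omega) (by omega)
  rcases Nat.lt_or_ge v 75005 with h88 | h88
  · exact (data.checkRange_iff 73635 1370).mp Cfsg.Agent.Lib.Helper28.TCFi24U8.chk88 v (by omega) (by omega)
  rcases Nat.lt_or_ge v 75799 with h89 | h89
  · exact (data.checkRange_iff 75005 794).mp Cfsg.Agent.Lib.Helper28.TCFi24U8.chk89 v (by omega) (by omega)
  rcases Nat.lt_or_ge v 76535 with h90 | h90
  · exact (data.checkRange_iff 75799 736).mp Cfsg.Agent.Lib.Helper28.TCFi24U9.chk90 v (by omega) (by omega)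
  rcases Nat.lt_or_ge v 78001 with h91 | h91
  · exact (data.checkRange_iff 76535 1466).mp Cfsg.Agent.Lib.Helper28.TCFi24U9.chk91 v (by omega) (by omega)
  rcases Nat.lt_or_ge v 80148 with h92 | h92
  · exact (data.checkRange_iff 78001 2147).mp Cfsg.Agent.Lib.Helper28.TCFi24U9.chk92 v (by omega) (by omega)
  rcases Nat.lt_or_ge v 81036 with h93 | h93
  · exact (data.checkRange_iff 80148 888).mp Cfsg.Agent.Lib.Helper28.TCFi24U9.chk93 v (by omega) (by omega)
  rcases Nat.lt_or_ge v 82466 with h94 | h94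
  · exact (data.checkRange_iff 81036 1430).mp Cfsg.Agent.Lib.Helper28.TCFi24U9.chk94 v (by omega) (by omega)
  rcases Nat.lt_or_ge v 84023 with h95 | h95
  · exact (data.checkRange_iff 82466 1557).mp Cfsg.Agent.Lib.Helper28.TCFi24U9.chk95 v (by omega) (by omega)
  rcases Nat.lt_or_ge v 85216 with h96 | h96
  · exact (data.checkRange_iff 84023 1193).mp Cfsg.Agent.Lib.Helper28.TCFi24U9.chk96 v (by omega) (by omega)
  rcases Nat.lt_or_ge v 85927 with h97 | h97
  · exact (data.checkRange_iff 85216 711).mp Cfsg.Agent.Lib.Helper28.TCFi24U9.chk97 v (by omega) (by omega)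
  rcases Nat.lt_or_ge v 86770 with h98 | h98
  · exact (data.checkRange_iff 85927 843).mp Cfsg.Agent.Lib.Helper28.TCFi24U9.chk98 v (by omega) (by omega)
  rcases Nat.lt_or_ge v 87457 with h99 | h99
  · exact (data.checkRange_iff 86770 687).mp Cfsg.Agent.Lib.Helper28.TCFi24U9.chk99 v (by omega) (by omega)
  rcases Nat.lt_or_ge v 88210 with h100 | h100
  · exact (data.checkRange_iff 87457 753).mp Cfsg.Agent.Lib.Helper28.TCFi24U10.chk100 v (by omega) (by omega)
  rcases Nat.lt_or_ge v 89855 with h101 | h101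
  · exact (data.checkRange_iff 88210 1645).mp Cfsg.Agent.Lib.Helper28.TCFi24U10.chk101 v (by omega) (by omega)
  rcases Nat.lt_or_ge v 91304 with h102 | h102
  · exact (data.checkRange_iff 89855 1449).mp Cfsg.Agent.Lib.Helper28.TCFi24U10.chk102 v (by omega) (by omega)
  rcases Nat.lt_or_ge v 92166 with h103 | h103
  · exact (data.checkRange_iff 91304 862).mp Cfsg.Agent.Lib.Helper28.TCFi24U10.chk103 v (by omega) (by omega)
  rcases Nat.lt_or_ge v 93526 with h104 | h104
  · exact (data.checkRange_iff 92166 1360).mp Cfsg.Agent.Lib.Helper28.TCFi24U10.chk104 v (by omega) (by omega)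
  rcases Nat.lt_or_ge v 94555 with h105 | h105
  · exact (data.checkRange_iff 93526 1029).mp Cfsg.Agent.Lib.Helper28.TCFi24U10.chk105 v (by omega) (by omega)
  rcases Nat.lt_or_ge v 95260 with h106 | h106
  · exact (data.checkRange_iff 94555 705).mp Cfsg.Agent.Lib.Helper28.TCFi24U10.chk106 v (by omega) (by omega)
  rcases Nat.lt_or_ge v 96125 with h107 | h107
  · exact (data.checkRange_iff 95260 865).mp Cfsg.Agent.Lib.Helper28.TCFi24U10.chk107 v (by omega) (by omega)
  rcases Nat.lt_or_ge v 96927 with h108 | h108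
  · exact (data.checkRange_iff 96125 802).mp Cfsg.Agent.Lib.Helper28.TCFi24U10.chk108 v (by omega) (by omega)
  rcases Nat.lt_or_ge v 97660 with h109 | h109
  · exact (data.checkRange_iff 96927 733).mp Cfsg.Agent.Lib.Helper28.TCFi24U10.chk109 v (by omega) (by omega)
  rcases Nat.lt_or_ge v 98297 with h110 | h110
  · exact (data.checkRange_iff 97660 637).mp Cfsg.Agent.Lib.Helper28.TCFi24U11.chk110 v (by omega) (by omega)
  rcases Nat.lt_or_ge v 99009 with h111 | h111
  · exact (data.checkRange_iff 98297 712).mp Cfsg.Agent.Lib.Helper28.TCFi24U11.chk111 v (by omega) (by omega)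
  rcases Nat.lt_or_ge v 100089 with h112 | h112
  · exact (data.checkRange_iff 99009 1080).mp Cfsg.Agent.Lib.Helper28.TCFi24U11.chk112 v (by omega) (by omega)
  rcases Nat.lt_or_ge v 101774 with h113 | h113
  · exact (data.checkRange_iff 100089 1685).mp Cfsg.Agent.Lib.Helper28.TCFi24U11.chk113 v (by omega) (by omega)
  rcases Nat.lt_or_ge v 102877 with h114 | h114
  · exact (data.checkRange_iff 101774 1103).mp Cfsg.Agent.Lib.Helper28.TCFi24U11.chk114 v (by omega) (by omega)
  rcases Nat.lt_or_ge v 104536 with h115 | h115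
  · exact (data.checkRange_iff 102877 1659).mp Cfsg.Agent.Lib.Helper28.TCFi24U11.chk115 v (by omega) (by omega)
  rcases Nat.lt_or_ge v 105447 with h116 | h116
  · exact (data.checkRange_iff 104536 911).mp Cfsg.Agent.Lib.Helper28.TCFi24U11.chk116 v (by omega) (by omega)
  rcases Nat.lt_or_ge v 106245 with h117 | h117
  · exact (data.checkRange_iff 105447 798).mp Cfsg.Agent.Lib.Helper28.TCFi24U11.chk117 v (by omega) (by omega)
  rcases Nat.lt_or_ge v 108108 with h118 | h118
  · exact (data.checkRange_iff 106245 1863).mp Cfsg.Agent.Lib.Helper28.TCFi24U11.chk118 v (by omega) (by omega)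
  rcases Nat.lt_or_ge v 110863 with h119 | h119
  · exact (data.checkRange_iff 108108 2755).mp Cfsg.Agent.Lib.Helper28.TCFi24U11.chk119 v (by omega) (by omega)
  rcases Nat.lt_or_ge v 111889 with h120 | h120
  · exact (data.checkRange_iff 110863 1026).mp Cfsg.Agent.Lib.Helper28.TCFi24U12.chk120 v (by omega) (by omega)
  rcases Nat.lt_or_ge v 112892 with h121 | h121
  · exact (data.checkRange_iff 111889 1003).mp Cfsg.Agent.Lib.Helper28.TCFi24U12.chk121 v (by omega) (by omega)
  rcases Nat.lt_or_ge v 115432 with h122 | h122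
  · exact (data.checkRange_iff 112892 2540).mp Cfsg.Agent.Lib.Helper28.TCFi24U12.chk122 v (by omega) (by omega)
  rcases Nat.lt_or_ge v 117324 with h123 | h123
  · exact (data.checkRange_iff 115432 1892).mp Cfsg.Agent.Lib.Helper28.TCFi24U12.chk123 v (by omega) (by omega)
  rcases Nat.lt_or_ge v 118115 with h124 | h124
  · exact (data.checkRange_iff 117324 791).mp Cfsg.Agent.Lib.Helper28.TCFi24U12.chk124 v (by omega) (by omega)
  rcases Nat.lt_or_ge v 118939 with h125 | h125
  · exact (data.checkRange_iff 118115 824).mp Cfsg.Agent.Lib.Helper28.TCFi24U12.chk125 v (by omega) (by omega)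
  rcases Nat.lt_or_ge v 119820 with h126 | h126
  · exact (data.checkRange_iff 118939 881).mp Cfsg.Agent.Lib.Helper28.TCFi24U12.chk126 v (by omega) (by omega)
  rcases Nat.lt_or_ge v 120692 with h127 | h127
  · exact (data.checkRange_iff 119820 872).mp Cfsg.Agent.Lib.Helper28.TCFi24U12.chk127 v (by omega) (by omega)
  rcases Nat.lt_or_ge v 121456 with h128 | h128
  · exact (data.checkRange_iff 120692 764).mp Cfsg.Agent.Lib.Helper28.TCFi24U12.chk128 v (by omega) (by omega)
  rcases Nat.lt_or_ge v 122339 with h129 | h129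
  · exact (data.checkRange_iff 121456 883).mp Cfsg.Agent.Lib.Helper28.TCFi24U12.chk129 v (by omega) (by omega)
  rcases Nat.lt_or_ge v 124590 with h130 | h130
  · exact (data.checkRange_iff 122339 2251).mp Cfsg.Agent.Lib.Helper28.TCFi24U13.chk130 v (by omega) (by omega)
  rcases Nat.lt_or_ge v 126724 with h131 | h131
  · exact (data.checkRange_iff 124590 2134).mp Cfsg.Agent.Lib.Helper28.TCFi24U13.chk131 v (by omega) (by omega)
  rcases Nat.lt_or_ge v 127702 with h132 | h132
  · exact (data.checkRange_iff 126724 978).mp Cfsg.Agent.Lib.Helper28.TCFi24U13.chk132 v (by omega) (by omega)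
  rcases Nat.lt_or_ge v 129364 with h133 | h133
  · exact (data.checkRange_iff 127702 1662).mp Cfsg.Agent.Lib.Helper28.TCFi24U13.chk133 v (by omega) (by omega)
  rcases Nat.lt_or_ge v 130836 with h134 | h134
  · exact (data.checkRange_iff 129364 1472).mp Cfsg.Agent.Lib.Helper28.TCFi24U13.chk134 v (by omega) (by omega)
  rcases Nat.lt_or_ge v 131670 with h135 | h135
  · exact (data.checkRange_iff 130836 834).mp Cfsg.Agent.Lib.Helper28.TCFi24U13.chk135 v (by omega) (by omega)
  rcases Nat.lt_or_ge v 132658 with h136 | h136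
  · exact (data.checkRange_iff 131670 988).mp Cfsg.Agent.Lib.Helper28.TCFi24U13.chk136 v (by omega) (by omega)
  rcases Nat.lt_or_ge v 133414 with h137 | h137
  · exact (data.checkRange_iff 132658 756).mp Cfsg.Agent.Lib.Helper28.TCFi24U13.chk137 v (by omega) (by omega)
  rcases Nat.lt_or_ge v 134346 with h138 | h138
  · exact (data.checkRange_iff 133414 932).mp Cfsg.Agent.Lib.Helper28.TCFi24U13.chk138 v (by omega) (by omega)
  rcases Nat.lt_or_ge v 135249 with h139 | h139
  · exact (data.checkRange_iff 134346 903).mp Cfsg.Agent.Lib.Helper28.TCFi24U13.chk139 v (by omega) (by omega)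
  rcases Nat.lt_or_ge v 135908 with h140 | h140
  · exact (data.checkRange_iff 135249 659).mp Cfsg.Agent.Lib.Helper28.TCFi24U14.chk140 v (by omega) (by omega)
  rcases Nat.lt_or_ge v 136588 with h141 | h141
  · exact (data.checkRange_iff 135908 680).mp Cfsg.Agent.Lib.Helper28.TCFi24U14.chk141 v (by omega) (by omega)
  rcases Nat.lt_or_ge v 137326 with h142 | h142
  · exact (data.checkRange_iff 136588 738).mp Cfsg.Agent.Lib.Helper28.TCFi24U14.chk142 v (by omega) (by omega)
  rcases Nat.lt_or_ge v 138306 with h143 | h143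
  · exact (data.checkRange_iff 137326 980).mp Cfsg.Agent.Lib.Helper28.TCFi24U14.chk143 v (by omega) (by omega)
  rcases Nat.lt_or_ge v 140892 with h144 | h144
  · exact (data.checkRange_iff 138306 2586).mp Cfsg.Agent.Lib.Helper28.TCFi24U14.chk144 v (by omega) (by omega)
  rcases Nat.lt_or_ge v 142348 with h145 | h145
  · exact (data.checkRange_iff 140892 1456).mp Cfsg.Agent.Lib.Helper28.TCFi24U14.chk145 v (by omega) (by omega)
  rcases Nat.lt_or_ge v 144881 with h146 | h146
  · exact (data.checkRange_iff 142348 2533).mp Cfsg.Agent.Lib.Helper28.TCFi24U14.chk146 v (by omega) (by omega)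
  rcases Nat.lt_or_ge v 145907 with h147 | h147
  · exact (data.checkRange_iff 144881 1026).mp Cfsg.Agent.Lib.Helper28.TCFi24U14.chk147 v (by omega) (by omega)
  rcases Nat.lt_or_ge v 147087 with h148 | h148
  · exact (data.checkRange_iff 145907 1180).mp Cfsg.Agent.Lib.Helper28.TCFi24U14.chk148 v (by omega) (by omega)
  rcases Nat.lt_or_ge v 149763 with h149 | h149
  · exact (data.checkRange_iff 147087 2676).mp Cfsg.Agent.Lib.Helper28.TCFi24U14.chk149 v (by omega) (by omega)
  rcases Nat.lt_or_ge v 153121 with h150 | h150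
  · exact (data.checkRange_iff 149763 3358).mp Cfsg.Agent.Lib.Helper28.TCFi24U15.chk150 v (by omega) (by omega)
  rcases Nat.lt_or_ge v 154394 with h151 | h151
  · exact (data.checkRange_iff 153121 1273).mp Cfsg.Agent.Lib.Helper28.TCFi24U15.chk151 v (by omega) (by omega)
  rcases Nat.lt_or_ge v 155454 with h152 | h152
  · exact (data.checkRange_iff 154394 1060).mp Cfsg.Agent.Lib.Helper28.TCFi24U15.chk152 v (by omega) (by omega)
  rcases Nat.lt_or_ge v 158062 with h153 | h153
  · exact (data.checkRange_iff 155454 2608).mp Cfsg.Agent.Lib.Helper28.TCFi24U15.chk153 v (by omega) (by omega)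
  rcases Nat.lt_or_ge v 161292 with h154 | h154
  · exact (data.checkRange_iff 158062 3230).mp Cfsg.Agent.Lib.Helper28.TCFi24U15.chk154 v (by omega) (by omega)
  rcases Nat.lt_or_ge v 162243 with h155 | h155
  · exact (data.checkRange_iff 161292 951).mp Cfsg.Agent.Lib.Helper28.TCFi24U15.chk155 v (by omega) (by omega)
  rcases Nat.lt_or_ge v 162859 with h156 | h156
  · exact (data.checkRange_iff 162243 616).mp Cfsg.Agent.Lib.Helper28.TCFi24U15.chk156 v (by omega) (by omega)
  rcases Nat.lt_or_ge v 163475 with h157 | h157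
  · exact (data.checkRange_iff 162859 616).mp Cfsg.Agent.Lib.Helper28.TCFi24U15.chk157 v (by omega) (by omega)
  rcases Nat.lt_or_ge v 164091 with h158 | h158
  · exact (data.checkRange_iff 163475 616).mp Cfsg.Agent.Lib.Helper28.TCFi24U15.chk158 v (by omega) (by omega)
  rcases Nat.lt_or_ge v 164707 with h159 | h159
  · exact (data.checkRange_iff 164091 616).mp Cfsg.Agent.Lib.Helper28.TCFi24U15.chk159 v (by omega) (by omega)
  rcases Nat.lt_or_ge v 165323 with h160 | h160
  · exact (data.checkRange_iff 164707 616).mp Cfsg.Agent.Lib.Helper28.TCFi24U16.chk160 v (by omega) (by omega)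
  rcases Nat.lt_or_ge v 165939 with h161 | h161
  · exact (data.checkRange_iff 165323 616).mp Cfsg.Agent.Lib.Helper28.TCFi24U16.chk161 v (by omega) (by omega)
  rcases Nat.lt_or_ge v 166555 with h162 | h162
  · exact (data.checkRange_iff 165939 616).mp Cfsg.Agent.Lib.Helper28.TCFi24U16.chk162 v (by omega) (by omega)
  rcases Nat.lt_or_ge v 167171 with h163 | h163
  · exact (data.checkRange_iff 166555 616).mp Cfsg.Agent.Lib.Helper28.TCFi24U16.chk163 v (by omega) (by omega)
  rcases Nat.lt_or_ge v 167793 with h164 | h164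
  · exact (data.checkRange_iff 167171 622).mp Cfsg.Agent.Lib.Helper28.TCFi24U16.chk164 v (by omega) (by omega)
  rcases Nat.lt_or_ge v 168409 with h165 | h165
  · exact (data.checkRange_iff 167793 616).mp Cfsg.Agent.Lib.Helper28.TCFi24U16.chk165 v (by omega) (by omega)
  rcases Nat.lt_or_ge v 169027 with h166 | h166
  · exact (data.checkRange_iff 168409 618).mp Cfsg.Agent.Lib.Helper28.TCFi24U16.chk166 v (by omega) (by omega)
  rcases Nat.lt_or_ge v 169643 with h167 | h167
  · exact (data.checkRange_iff 169027 616).mp Cfsg.Agent.Lib.Helper28.TCFi24U16.chk167 v (by omega) (by omega)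
  rcases Nat.lt_or_ge v 170259 with h168 | h168
  · exact (data.checkRange_iff 169643 616).mp Cfsg.Agent.Lib.Helper28.TCFi24U16.chk168 v (by omega) (by omega)
  rcases Nat.lt_or_ge v 170875 with h169 | h169
  · exact (data.checkRange_iff 170259 616).mp Cfsg.Agent.Lib.Helper28.TCFi24U16.chk169 v (by omega) (by omega)
  rcases Nat.lt_or_ge v 171491 with h170 | h170
  · exact (data.checkRange_iff 170875 616).mp Cfsg.Agent.Lib.Helper28.TCFi24U17.chk170 v (by omega) (by omega)
  rcases Nat.lt_or_ge v 172107 with h171 | h171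
  · exact (data.checkRange_iff 171491 616).mp Cfsg.Agent.Lib.Helper28.TCFi24U17.chk171 v (by omega) (by omega)
  rcases Nat.lt_or_ge v 172723 with h172 | h172
  · exact (data.checkRange_iff 172107 616).mp Cfsg.Agent.Lib.Helper28.TCFi24U17.chk172 v (by omega) (by omega)
  rcases Nat.lt_or_ge v 173339 with h173 | h173
  · exact (data.checkRange_iff 172723 616).mp Cfsg.Agent.Lib.Helper28.TCFi24U17.chk173 v (by omega) (by omega)
  rcases Nat.lt_or_ge v 173955 with h174 | h174
  · exact (data.checkRange_iff 173339 616).mp Cfsg.Agent.Lib.Helper28.TCFi24U17.chk174 v (by omega) (by omega)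
  rcases Nat.lt_or_ge v 174571 with h175 | h175
  · exact (data.checkRange_iff 173955 616).mp Cfsg.Agent.Lib.Helper28.TCFi24U17.chk175 v (by omega) (by omega)
  rcases Nat.lt_or_ge v 175187 with h176 | h176
  · exact (data.checkRange_iff 174571 616).mp Cfsg.Agent.Lib.Helper28.TCFi24U17.chk176 v (by omega) (by omega)
  rcases Nat.lt_or_ge v 175803 with h177 | h177
  · exact (data.checkRange_iff 175187 616).mp Cfsg.Agent.Lib.Helper28.TCFi24U17.chk177 v (by omega) (by omega)
  rcases Nat.lt_or_ge v 176420 with h178 | h178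
  · exact (data.checkRange_iff 175803 617).mp Cfsg.Agent.Lib.Helper28.TCFi24U17.chk178 v (by omega) (by omega)
  rcases Nat.lt_or_ge v 177036 with h179 | h179
  · exact (data.checkRange_iff 176420 616).mp Cfsg.Agent.Lib.Helper28.TCFi24U17.chk179 v (by omega) (by omega)
  rcases Nat.lt_or_ge v 177652 with h180 | h180
  · exact (data.checkRange_iff 177036 616).mp Cfsg.Agent.Lib.Helper28.TCFi24U18.chk180 v (by omega) (by omega)
  rcases Nat.lt_or_ge v 178268 with h181 | h181
  · exact (data.checkRange_iff 177652 616).mp Cfsg.Agent.Lib.Helper28.TCFi24U18.chk181 v (by omega) (by omega)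
  rcases Nat.lt_or_ge v 178884 with h182 | h182
  · exact (data.checkRange_iff 178268 616).mp Cfsg.Agent.Lib.Helper28.TCFi24U18.chk182 v (by omega) (by omega)
  rcases Nat.lt_or_ge v 179500 with h183 | h183
  · exact (data.checkRange_iff 178884 616).mp Cfsg.Agent.Lib.Helper28.TCFi24U18.chk183 v (by omega) (by omega)
  rcases Nat.lt_or_ge v 180116 with h184 | h184
  · exact (data.checkRange_iff 179500 616).mp Cfsg.Agent.Lib.Helper28.TCFi24U18.chk184 v (by omega) (by omega)
  rcases Nat.lt_or_ge v 180732 with h185 | h185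
  · exact (data.checkRange_iff 180116 616).mp Cfsg.Agent.Lib.Helper28.TCFi24U18.chk185 v (by omega) (by omega)
  rcases Nat.lt_or_ge v 181348 with h186 | h186
  · exact (data.checkRange_iff 180732 616).mp Cfsg.Agent.Lib.Helper28.TCFi24U18.chk186 v (by omega) (by omega)
  rcases Nat.lt_or_ge v 181964 with h187 | h187
  · exact (data.checkRange_iff 181348 616).mp Cfsg.Agent.Lib.Helper28.TCFi24U18.chk187 v (by omega) (by omega)
  rcases Nat.lt_or_ge v 182580 with h188 | h188
  · exact (data.checkRange_iff 181964 616).mp Cfsg.Agent.Lib.Helper28.TCFi24U18.chk188 v (by omega) (by omega)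
  rcases Nat.lt_or_ge v 183196 with h189 | h189
  · exact (data.checkRange_iff 182580 616).mp Cfsg.Agent.Lib.Helper28.TCFi24U18.chk189 v (by omega) (by omega)
  rcases Nat.lt_or_ge v 183812 with h190 | h190
  · exact (data.checkRange_iff 183196 616).mp Cfsg.Agent.Lib.Helper28.TCFi24U19.chk190 v (by omega) (by omega)
  rcases Nat.lt_or_ge v 184428 with h191 | h191
  · exact (data.checkRange_iff 183812 616).mp Cfsg.Agent.Lib.Helper28.TCFi24U19.chk191 v (by omega) (by omega)
  rcases Nat.lt_or_ge v 185044 with h192 | h192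
  · exact (data.checkRange_iff 184428 616).mp Cfsg.Agent.Lib.Helper28.TCFi24U19.chk192 v (by omega) (by omega)
  rcases Nat.lt_or_ge v 185660 with h193 | h193
  · exact (data.checkRange_iff 185044 616).mp Cfsg.Agent.Lib.Helper28.TCFi24U19.chk193 v (by omega) (by omega)
  rcases Nat.lt_or_ge v 186276 with h194 | h194
  · exact (data.checkRange_iff 185660 616).mp Cfsg.Agent.Lib.Helper28.TCFi24U19.chk194 v (by omega) (by omega)
  rcases Nat.lt_or_ge v 186892 with h195 | h195
  · exact (data.checkRange_iff 186276 616).mp Cfsg.Agent.Lib.Helper28.TCFi24U19.chk195 v (by omega) (by omega)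
  rcases Nat.lt_or_ge v 187508 with h196 | h196
  · exact (data.checkRange_iff 186892 616).mp Cfsg.Agent.Lib.Helper28.TCFi24U19.chk196 v (by omega) (by omega)
  rcases Nat.lt_or_ge v 188124 with h197 | h197
  · exact (data.checkRange_iff 187508 616).mp Cfsg.Agent.Lib.Helper28.TCFi24U19.chk197 v (by omega) (by omega)
  rcases Nat.lt_or_ge v 188740 with h198 | h198
  · exact (data.checkRange_iff 188124 616).mp Cfsg.Agent.Lib.Helper28.TCFi24U19.chk198 v (by omega) (by omega)
  rcases Nat.lt_or_ge v 189356 with h199 | h199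
  · exact (data.checkRange_iff 188740 616).mp Cfsg.Agent.Lib.Helper28.TCFi24U19.chk199 v (by omega) (by omega)
  rcases Nat.lt_or_ge v 189972 with h200 | h200
  · exact (data.checkRange_iff 189356 616).mp Cfsg.Agent.Lib.Helper28.TCFi24U20.chk200 v (by omega) (by omega)
  rcases Nat.lt_or_ge v 190588 with h201 | h201
  · exact (data.checkRange_iff 189972 616).mp Cfsg.Agent.Lib.Helper28.TCFi24U20.chk201 v (by omega) (by omega)
  rcases Nat.lt_or_ge v 191204 with h202 | h202
  · exact (data.checkRange_iff 190588 616).mp Cfsg.Agent.Lib.Helper28.TCFi24U20.chk202 v (by omega) (by omega)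
  rcases Nat.lt_or_ge v 191820 with h203 | h203
  · exact (data.checkRange_iff 191204 616).mp Cfsg.Agent.Lib.Helper28.TCFi24U20.chk203 v (by omega) (by omega)
  rcases Nat.lt_or_ge v 192436 with h204 | h204
  · exact (data.checkRange_iff 191820 616).mp Cfsg.Agent.Lib.Helper28.TCFi24U20.chk204 v (by omega) (by omega)
  rcases Nat.lt_or_ge v 193052 with h205 | h205
  · exact (data.checkRange_iff 192436 616).mp Cfsg.Agent.Lib.Helper28.TCFi24U20.chk205 v (by omega) (by omega)
  rcases Nat.lt_or_ge v 193668 with h206 | h206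
  · exact (data.checkRange_iff 193052 616).mp Cfsg.Agent.Lib.Helper28.TCFi24U20.chk206 v (by omega) (by omega)
  rcases Nat.lt_or_ge v 194284 with h207 | h207
  · exact (data.checkRange_iff 193668 616).mp Cfsg.Agent.Lib.Helper28.TCFi24U20.chk207 v (by omega) (by omega)
  rcases Nat.lt_or_ge v 194900 with h208 | h208
  · exact (data.checkRange_iff 194284 616).mp Cfsg.Agent.Lib.Helper28.TCFi24U20.chk208 v (by omega) (by omega)
  rcases Nat.lt_or_ge v 195516 with h209 | h209
  · exact (data.checkRange_iff 194900 616).mp Cfsg.Agent.Lib.Helper28.TCFi24U20.chk209 v (by omega) (by omega)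
  rcases Nat.lt_or_ge v 196132 with h210 | h210
  · exact (data.checkRange_iff 195516 616).mp Cfsg.Agent.Lib.Helper28.TCFi24U21.chk210 v (by omega) (by omega)
  rcases Nat.lt_or_ge v 196748 with h211 | h211
  · exact (data.checkRange_iff 196132 616).mp Cfsg.Agent.Lib.Helper28.TCFi24U21.chk211 v (by omega) (by omega)
  rcases Nat.lt_or_ge v 197364 with h212 | h212
  · exact (data.checkRange_iff 196748 616).mp Cfsg.Agent.Lib.Helper28.TCFi24U21.chk212 v (by omega) (by omega)
  rcases Nat.lt_or_ge v 197980 with h213 | h213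
  · exact (data.checkRange_iff 197364 616).mp Cfsg.Agent.Lib.Helper28.TCFi24U21.chk213 v (by omega) (by omega)
  rcases Nat.lt_or_ge v 198596 with h214 | h214
  · exact (data.checkRange_iff 197980 616).mp Cfsg.Agent.Lib.Helper28.TCFi24U21.chk214 v (by omega) (by omega)
  rcases Nat.lt_or_ge v 199212 with h215 | h215
  · exact (data.checkRange_iff 198596 616).mp Cfsg.Agent.Lib.Helper28.TCFi24U21.chk215 v (by omega) (by omega)
  rcases Nat.lt_or_ge v 199828 with h216 | h216
  · exact (data.checkRange_iff 199212 616).mp Cfsg.Agent.Lib.Helper28.TCFi24U21.chk216 v (by omega) (by omega)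
  rcases Nat.lt_or_ge v 200444 with h217 | h217
  · exact (data.checkRange_iff 199828 616).mp Cfsg.Agent.Lib.Helper28.TCFi24U21.chk217 v (by omega) (by omega)
  rcases Nat.lt_or_ge v 201060 with h218 | h218
  · exact (data.checkRange_iff 200444 616).mp Cfsg.Agent.Lib.Helper28.TCFi24U21.chk218 v (by omega) (by omega)
  rcases Nat.lt_or_ge v 201676 with h219 | h219
  · exact (data.checkRange_iff 201060 616).mp Cfsg.Agent.Lib.Helper28.TCFi24U21.chk219 v (by omega) (by omega)
  rcases Nat.lt_or_ge v 202292 with h220 | h220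
  · exact (data.checkRange_iff 201676 616).mp Cfsg.Agent.Lib.Helper28.TCFi24U22.chk220 v (by omega) (by omega)
  rcases Nat.lt_or_ge v 202908 with h221 | h221
  · exact (data.checkRange_iff 202292 616).mp Cfsg.Agent.Lib.Helper28.TCFi24U22.chk221 v (by omega) (by omega)
  rcases Nat.lt_or_ge v 203524 with h222 | h222
  · exact (data.checkRange_iff 202908 616).mp Cfsg.Agent.Lib.Helper28.TCFi24U22.chk222 v (by omega) (by omega)
  rcases Nat.lt_or_ge v 204140 with h223 | h223
  · exact (data.checkRange_iff 203524 616).mp Cfsg.Agent.Lib.Helper28.TCFi24U22.chk223 v (by omega) (by omega)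
  rcases Nat.lt_or_ge v 204756 with h224 | h224
  · exact (data.checkRange_iff 204140 616).mp Cfsg.Agent.Lib.Helper28.TCFi24U22.chk224 v (by omega) (by omega)
  rcases Nat.lt_or_ge v 205372 with h225 | h225
  · exact (data.checkRange_iff 204756 616).mp Cfsg.Agent.Lib.Helper28.TCFi24U22.chk225 v (by omega) (by omega)
  rcases Nat.lt_or_ge v 205988 with h226 | h226
  · exact (data.checkRange_iff 205372 616).mp Cfsg.Agent.Lib.Helper28.TCFi24U22.chk226 v (by omega) (by omega)
  rcases Nat.lt_or_ge v 206604 with h227 | h227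
  · exact (data.checkRange_iff 205988 616).mp Cfsg.Agent.Lib.Helper28.TCFi24U22.chk227 v (by omega) (by omega)
  rcases Nat.lt_or_ge v 207220 with h228 | h228
  · exact (data.checkRange_iff 206604 616).mp Cfsg.Agent.Lib.Helper28.TCFi24U22.chk228 v (by omega) (by omega)
  rcases Nat.lt_or_ge v 207836 with h229 | h229
  · exact (data.checkRange_iff 207220 616).mp Cfsg.Agent.Lib.Helper28.TCFi24U22.chk229 v (by omega) (by omega)
  rcases Nat.lt_or_ge v 208452 with h230 | h230
  · exact (data.checkRange_iff 207836 616).mp Cfsg.Agent.Lib.Helper28.TCFi24U23.chk230 v (by omega) (by omega)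
  rcases Nat.lt_or_ge v 209068 with h231 | h231
  · exact (data.checkRange_iff 208452 616).mp Cfsg.Agent.Lib.Helper28.TCFi24U23.chk231 v (by omega) (by omega)
  rcases Nat.lt_or_ge v 209684 with h232 | h232
  · exact (data.checkRange_iff 209068 616).mp Cfsg.Agent.Lib.Helper28.TCFi24U23.chk232 v (by omega) (by omega)
  rcases Nat.lt_or_ge v 210300 with h233 | h233
  · exact (data.checkRange_iff 209684 616).mp Cfsg.Agent.Lib.Helper28.TCFi24U23.chk233 v (by omega) (by omega)
  rcases Nat.lt_or_ge v 210916 with h234 | h234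
  · exact (data.checkRange_iff 210300 616).mp Cfsg.Agent.Lib.Helper28.TCFi24U23.chk234 v (by omega) (by omega)
  rcases Nat.lt_or_ge v 211532 with h235 | h235
  · exact (data.checkRange_iff 210916 616).mp Cfsg.Agent.Lib.Helper28.TCFi24U23.chk235 v (by omega) (by omega)
  rcases Nat.lt_or_ge v 212148 with h236 | h236
  · exact (data.checkRange_iff 211532 616).mp Cfsg.Agent.Lib.Helper28.TCFi24U23.chk236 v (by omega) (by omega)
  rcases Nat.lt_or_ge v 212764 with h237 | h237
  · exact (data.checkRange_iff 212148 616).mp Cfsg.Agent.Lib.Helper28.TCFi24U23.chk237 v (by omega) (by omega)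
  rcases Nat.lt_or_ge v 213380 with h238 | h238
  · exact (data.checkRange_iff 212764 616).mp Cfsg.Agent.Lib.Helper28.TCFi24U23.chk238 v (by omega) (by omega)
  rcases Nat.lt_or_ge v 213996 with h239 | h239
  · exact (data.checkRange_iff 213380 616).mp Cfsg.Agent.Lib.Helper28.TCFi24U23.chk239 v (by omega) (by omega)
  rcases Nat.lt_or_ge v 214612 with h240 | h240
  · exact (data.checkRange_iff 213996 616).mp Cfsg.Agent.Lib.Helper28.TCFi24U24.chk240 v (by omega) (by omega)
  rcases Nat.lt_or_ge v 215228 with h241 | h241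
  · exact (data.checkRange_iff 214612 616).mp Cfsg.Agent.Lib.Helper28.TCFi24U24.chk241 v (by omega) (by omega)
  rcases Nat.lt_or_ge v 215844 with h242 | h242
  · exact (data.checkRange_iff 215228 616).mp Cfsg.Agent.Lib.Helper28.TCFi24U24.chk242 v (by omega) (by omega)
  rcases Nat.lt_or_ge v 216460 with h243 | h243
  · exact (data.checkRange_iff 215844 616).mp Cfsg.Agent.Lib.Helper28.TCFi24U24.chk243 v (by omega) (by omega)
  rcases Nat.lt_or_ge v 217076 with h244 | h244
  · exact (data.checkRange_iff 216460 616).mp Cfsg.Agent.Lib.Helper28.TCFi24U24.chk244 v (by omega) (by omega)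
  rcases Nat.lt_or_ge v 217692 with h245 | h245
  · exact (data.checkRange_iff 217076 616).mp Cfsg.Agent.Lib.Helper28.TCFi24U24.chk245 v (by omega) (by omega)
  rcases Nat.lt_or_ge v 218308 with h246 | h246
  · exact (data.checkRange_iff 217692 616).mp Cfsg.Agent.Lib.Helper28.TCFi24U24.chk246 v (by omega) (by omega)
  rcases Nat.lt_or_ge v 218924 with h247 | h247
  · exact (data.checkRange_iff 218308 616).mp Cfsg.Agent.Lib.Helper28.TCFi24U24.chk247 v (by omega) (by omega)
  rcases Nat.lt_or_ge v 219540 with h248 | h248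
  · exact (data.checkRange_iff 218924 616).mp Cfsg.Agent.Lib.Helper28.TCFi24U24.chk248 v (by omega) (by omega)
  rcases Nat.lt_or_ge v 220156 with h249 | h249
  · exact (data.checkRange_iff 219540 616).mp Cfsg.Agent.Lib.Helper28.TCFi24U24.chk249 v (by omega) (by omega)
  rcases Nat.lt_or_ge v 220772 with h250 | h250
  · exact (data.checkRange_iff 220156 616).mp Cfsg.Agent.Lib.Helper28.TCFi24U25.chk250 v (by omega) (by omega)
  rcases Nat.lt_or_ge v 221388 with h251 | h251
  · exact (data.checkRange_iff 220772 616).mp Cfsg.Agent.Lib.Helper28.TCFi24U25.chk251 v (by omega) (by omega)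
  rcases Nat.lt_or_ge v 222004 with h252 | h252
  · exact (data.checkRange_iff 221388 616).mp Cfsg.Agent.Lib.Helper28.TCFi24U25.chk252 v (by omega) (by omega)
  rcases Nat.lt_or_ge v 222620 with h253 | h253
  · exact (data.checkRange_iff 222004 616).mp Cfsg.Agent.Lib.Helper28.TCFi24U25.chk253 v (by omega) (by omega)
  rcases Nat.lt_or_ge v 223236 with h254 | h254
  · exact (data.checkRange_iff 222620 616).mp Cfsg.Agent.Lib.Helper28.TCFi24U25.chk254 v (by omega) (by omega)
  rcases Nat.lt_or_ge v 223852 with h255 | h255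
  · exact (data.checkRange_iff 223236 616).mp Cfsg.Agent.Lib.Helper28.TCFi24U25.chk255 v (by omega) (by omega)
  rcases Nat.lt_or_ge v 224468 with h256 | h256
  · exact (data.checkRange_iff 223852 616).mp Cfsg.Agent.Lib.Helper28.TCFi24U25.chk256 v (by omega) (by omega)
  rcases Nat.lt_or_ge v 225084 with h257 | h257
  · exact (data.checkRange_iff 224468 616).mp Cfsg.Agent.Lib.Helper28.TCFi24U25.chk257 v (by omega) (by omega)
  rcases Nat.lt_or_ge v 225700 with h258 | h258
  · exact (data.checkRange_iff 225084 616).mp Cfsg.Agent.Lib.Helper28.TCFi24U25.chk258 v (by omega) (by omega)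
  rcases Nat.lt_or_ge v 226316 with h259 | h259
  · exact (data.checkRange_iff 225700 616).mp Cfsg.Agent.Lib.Helper28.TCFi24U25.chk259 v (by omega) (by omega)
  rcases Nat.lt_or_ge v 226932 with h260 | h260
  · exact (data.checkRange_iff 226316 616).mp Cfsg.Agent.Lib.Helper28.TCFi24U26.chk260 v (by omega) (by omega)
  rcases Nat.lt_or_ge v 227548 with h261 | h261
  · exact (data.checkRange_iff 226932 616).mp Cfsg.Agent.Lib.Helper28.TCFi24U26.chk261 v (by omega) (by omega)
  rcases Nat.lt_or_ge v 228164 with h262 | h262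
  · exact (data.checkRange_iff 227548 616).mp Cfsg.Agent.Lib.Helper28.TCFi24U26.chk262 v (by omega) (by omega)
  rcases Nat.lt_or_ge v 228780 with h263 | h263
  · exact (data.checkRange_iff 228164 616).mp Cfsg.Agent.Lib.Helper28.TCFi24U26.chk263 v (by omega) (by omega)
  rcases Nat.lt_or_ge v 229396 with h264 | h264
  · exact (data.checkRange_iff 228780 616).mp Cfsg.Agent.Lib.Helper28.TCFi24U26.chk264 v (by omega) (by omega)
  rcases Nat.lt_or_ge v 230012 with h265 | h265
  · exact (data.checkRange_iff 229396 616).mp Cfsg.Agent.Lib.Helper28.TCFi24U26.chk265 v (by omega) (by omega)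
  rcases Nat.lt_or_ge v 230628 with h266 | h266
  · exact (data.checkRange_iff 230012 616).mp Cfsg.Agent.Lib.Helper28.TCFi24U26.chk266 v (by omega) (by omega)
  rcases Nat.lt_or_ge v 231244 with h267 | h267
  · exact (data.checkRange_iff 230628 616).mp Cfsg.Agent.Lib.Helper28.TCFi24U26.chk267 v (by omega) (by omega)
  rcases Nat.lt_or_ge v 231860 with h268 | h268
  · exact (data.checkRange_iff 231244 616).mp Cfsg.Agent.Lib.Helper28.TCFi24U26.chk268 v (by omega) (by omega)
  rcases Nat.lt_or_ge v 232476 with h269 | h269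
  · exact (data.checkRange_iff 231860 616).mp Cfsg.Agent.Lib.Helper28.TCFi24U26.chk269 v (by omega) (by omega)
  rcases Nat.lt_or_ge v 233096 with h270 | h270
  · exact (data.checkRange_iff 232476 620).mp Cfsg.Agent.Lib.Helper28.TCFi24U27.chk270 v (by omega) (by omega)
  rcases Nat.lt_or_ge v 233714 with h271 | h271
  · exact (data.checkRange_iff 233096 618).mp Cfsg.Agent.Lib.Helper28.TCFi24U27.chk271 v (by omega) (by omega)
  rcases Nat.lt_or_ge v 234330 with h272 | h272
  · exact (data.checkRange_iff 233714 616).mp Cfsg.Agent.Lib.Helper28.TCFi24U27.chk272 v (by omega) (by omega)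
  rcases Nat.lt_or_ge v 234946 with h273 | h273
  · exact (data.checkRange_iff 234330 616).mp Cfsg.Agent.Lib.Helper28.TCFi24U27.chk273 v (by omega) (by omega)
  rcases Nat.lt_or_ge v 235563 with h274 | h274
  · exact (data.checkRange_iff 234946 617).mp Cfsg.Agent.Lib.Helper28.TCFi24U27.chk274 v (by omega) (by omega)
  rcases Nat.lt_or_ge v 236179 with h275 | h275
  · exact (data.checkRange_iff 235563 616).mp Cfsg.Agent.Lib.Helper28.TCFi24U27.chk275 v (by omega) (by omega)
  rcases Nat.lt_or_ge v 236795 with h276 | h276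
  · exact (data.checkRange_iff 236179 616).mp Cfsg.Agent.Lib.Helper28.TCFi24U27.chk276 v (by omega) (by omega)
  rcases Nat.lt_or_ge v 237411 with h277 | h277
  · exact (data.checkRange_iff 236795 616).mp Cfsg.Agent.Lib.Helper28.TCFi24U27.chk277 v (by omega) (by omega)
  rcases Nat.lt_or_ge v 238027 with h278 | h278
  · exact (data.checkRange_iff 237411 616).mp Cfsg.Agent.Lib.Helper28.TCFi24U27.chk278 v (by omega) (by omega)
  rcases Nat.lt_or_ge v 238643 with h279 | h279
  · exact (data.checkRange_iff 238027 616).mp Cfsg.Agent.Lib.Helper28.TCFi24U27.chk279 v (by omega) (by omega)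
  rcases Nat.lt_or_ge v 239259 with h280 | h280
  · exact (data.checkRange_iff 238643 616).mp Cfsg.Agent.Lib.Helper28.TCFi24U28.chk280 v (by omega) (by omega)
  rcases Nat.lt_or_ge v 239875 with h281 | h281
  · exact (data.checkRange_iff 239259 616).mp Cfsg.Agent.Lib.Helper28.TCFi24U28.chk281 v (by omega) (by omega)
  rcases Nat.lt_or_ge v 240491 with h282 | h282
  · exact (data.checkRange_iff 239875 616).mp Cfsg.Agent.Lib.Helper28.TCFi24U28.chk282 v (by omega) (by omega)
  rcases Nat.lt_or_ge v 241107 with h283 | h283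
  · exact (data.checkRange_iff 240491 616).mp Cfsg.Agent.Lib.Helper28.TCFi24U28.chk283 v (by omega) (by omega)
  rcases Nat.lt_or_ge v 241723 with h284 | h284
  · exact (data.checkRange_iff 241107 616).mp Cfsg.Agent.Lib.Helper28.TCFi24U28.chk284 v (by omega) (by omega)
  rcases Nat.lt_or_ge v 242339 with h285 | h285
  · exact (data.checkRange_iff 241723 616).mp Cfsg.Agent.Lib.Helper28.TCFi24U28.chk285 v (by omega) (by omega)
  rcases Nat.lt_or_ge v 242955 with h286 | h286
  · exact (data.checkRange_iff 242339 616).mp Cfsg.Agent.Lib.Helper28.TCFi24U28.chk286 v (by omega) (by omega)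
  rcases Nat.lt_or_ge v 243571 with h287 | h287
  · exact (data.checkRange_iff 242955 616).mp Cfsg.Agent.Lib.Helper28.TCFi24U28.chk287 v (by omega) (by omega)
  rcases Nat.lt_or_ge v 244192 with h288 | h288
  · exact (data.checkRange_iff 243571 621).mp Cfsg.Agent.Lib.Helper28.TCFi24U28.chk288 v (by omega) (by omega)
  rcases Nat.lt_or_ge v 244809 with h289 | h289
  · exact (data.checkRange_iff 244192 617).mp Cfsg.Agent.Lib.Helper28.TCFi24U28.chk289 v (by omega) (by omega)
  rcases Nat.lt_or_ge v 245425 with h290 | h290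
  · exact (data.checkRange_iff 244809 616).mp Cfsg.Agent.Lib.Helper28.TCFi24U29.chk290 v (by omega) (by omega)
  rcases Nat.lt_or_ge v 246041 with h291 | h291
  · exact (data.checkRange_iff 245425 616).mp Cfsg.Agent.Lib.Helper28.TCFi24U29.chk291 v (by omega) (by omega)
  rcases Nat.lt_or_ge v 246657 with h292 | h292
  · exact (data.checkRange_iff 246041 616).mp Cfsg.Agent.Lib.Helper28.TCFi24U29.chk292 v (by omega) (by omega)
  rcases Nat.lt_or_ge v 247273 with h293 | h293
  · exact (data.checkRange_iff 246657 616).mp Cfsg.Agent.Lib.Helper28.TCFi24U29.chk293 v (by omega) (by omega)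
  rcases Nat.lt_or_ge v 247896 with h294 | h294
  · exact (data.checkRange_iff 247273 623).mp Cfsg.Agent.Lib.Helper28.TCFi24U29.chk294 v (by omega) (by omega)
  rcases Nat.lt_or_ge v 248512 with h295 | h295
  · exact (data.checkRange_iff 247896 616).mp Cfsg.Agent.Lib.Helper28.TCFi24U29.chk295 v (by omega) (by omega)
  rcases Nat.lt_or_ge v 249128 with h296 | h296
  · exact (data.checkRange_iff 248512 616).mp Cfsg.Agent.Lib.Helper28.TCFi24U29.chk296 v (by omega) (by omega)
  rcases Nat.lt_or_ge v 249744 with h297 | h297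
  · exact (data.checkRange_iff 249128 616).mp Cfsg.Agent.Lib.Helper28.TCFi24U29.chk297 v (by omega) (by omega)
  rcases Nat.lt_or_ge v 250360 with h298 | h298
  · exact (data.checkRange_iff 249744 616).mp Cfsg.Agent.Lib.Helper28.TCFi24U29.chk298 v (by omega) (by omega)
  rcases Nat.lt_or_ge v 250976 with h299 | h299
  · exact (data.checkRange_iff 250360 616).mp Cfsg.Agent.Lib.Helper28.TCFi24U29.chk299 v (by omega) (by omega)
  rcases Nat.lt_or_ge v 251592 with h300 | h300
  · exact (data.checkRange_iff 250976 616).mp Cfsg.Agent.Lib.Helper28.TCFi24U30.chk300 v (by omega) (by omega)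
  rcases Nat.lt_or_ge v 252208 with h301 | h301
  · exact (data.checkRange_iff 251592 616).mp Cfsg.Agent.Lib.Helper28.TCFi24U30.chk301 v (by omega) (by omega)
  rcases Nat.lt_or_ge v 252824 with h302 | h302
  · exact (data.checkRange_iff 252208 616).mp Cfsg.Agent.Lib.Helper28.TCFi24U30.chk302 v (by omega) (by omega)
  rcases Nat.lt_or_ge v 253440 with h303 | h303
  · exact (data.checkRange_iff 252824 616).mp Cfsg.Agent.Lib.Helper28.TCFi24U30.chk303 v (by omega) (by omega)
  rcases Nat.lt_or_ge v 254056 with h304 | h304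
  · exact (data.checkRange_iff 253440 616).mp Cfsg.Agent.Lib.Helper28.TCFi24U30.chk304 v (by omega) (by omega)
  rcases Nat.lt_or_ge v 254672 with h305 | h305
  · exact (data.checkRange_iff 254056 616).mp Cfsg.Agent.Lib.Helper28.TCFi24U30.chk305 v (by omega) (by omega)
  rcases Nat.lt_or_ge v 255288 with h306 | h306
  · exact (data.checkRange_iff 254672 616).mp Cfsg.Agent.Lib.Helper28.TCFi24U30.chk306 v (by omega) (by omega)
  rcases Nat.lt_or_ge v 255904 with h307 | h307
  · exact (data.checkRange_iff 255288 616).mp Cfsg.Agent.Lib.Helper28.TCFi24U30.chk307 v (by omega) (by omega)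
  rcases Nat.lt_or_ge v 256520 with h308 | h308
  · exact (data.checkRange_iff 255904 616).mp Cfsg.Agent.Lib.Helper28.TCFi24U30.chk308 v (by omega) (by omega)
  rcases Nat.lt_or_ge v 257136 with h309 | h309
  · exact (data.checkRange_iff 256520 616).mp Cfsg.Agent.Lib.Helper28.TCFi24U30.chk309 v (by omega) (by omega)
  rcases Nat.lt_or_ge v 257752 with h310 | h310
  · exact (data.checkRange_iff 257136 616).mp Cfsg.Agent.Lib.Helper28.TCFi24U31.chk310 v (by omega) (by omega)
  rcases Nat.lt_or_ge v 258368 with h311 | h311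
  · exact (data.checkRange_iff 257752 616).mp Cfsg.Agent.Lib.Helper28.TCFi24U31.chk311 v (by omega) (by omega)
  rcases Nat.lt_or_ge v 258984 with h312 | h312
  · exact (data.checkRange_iff 258368 616).mp Cfsg.Agent.Lib.Helper28.TCFi24U31.chk312 v (by omega) (by omega)
  rcases Nat.lt_or_ge v 259600 with h313 | h313
  · exact (data.checkRange_iff 258984 616).mp Cfsg.Agent.Lib.Helper28.TCFi24U31.chk313 v (by omega) (by omega)
  rcases Nat.lt_or_ge v 260216 with h314 | h314
  · exact (data.checkRange_iff 259600 616).mp Cfsg.Agent.Lib.Helper28.TCFi24U31.chk314 v (by omega) (by omega)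
  rcases Nat.lt_or_ge v 260832 with h315 | h315
  · exact (data.checkRange_iff 260216 616).mp Cfsg.Agent.Lib.Helper28.TCFi24U31.chk315 v (by omega) (by omega)
  rcases Nat.lt_or_ge v 261448 with h316 | h316
  · exact (data.checkRange_iff 260832 616).mp Cfsg.Agent.Lib.Helper28.TCFi24U31.chk316 v (by omega) (by omega)
  rcases Nat.lt_or_ge v 262064 with h317 | h317
  · exact (data.checkRange_iff 261448 616).mp Cfsg.Agent.Lib.Helper28.TCFi24U31.chk317 v (by omega) (by omega)
  rcases Nat.lt_or_ge v 262680 with h318 | h318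
  · exact (data.checkRange_iff 262064 616).mp Cfsg.Agent.Lib.Helper28.TCFi24U31.chk318 v (by omega) (by omega)
  rcases Nat.lt_or_ge v 263296 with h319 | h319
  · exact (data.checkRange_iff 262680 616).mp Cfsg.Agent.Lib.Helper28.TCFi24U31.chk319 v (by omega) (by omega)
  rcases Nat.lt_or_ge v 263912 with h320 | h320
  · exact (data.checkRange_iff 263296 616).mp Cfsg.Agent.Lib.Helper28.TCFi24U32.chk320 v (by omega) (by omega)
  rcases Nat.lt_or_ge v 264528 with h321 | h321
  · exact (data.checkRange_iff 263912 616).mp Cfsg.Agent.Lib.Helper28.TCFi24U32.chk321 v (by omega) (by omega)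
  rcases Nat.lt_or_ge v 265144 with h322 | h322
  · exact (data.checkRange_iff 264528 616).mp Cfsg.Agent.Lib.Helper28.TCFi24U32.chk322 v (by omega) (by omega)
  rcases Nat.lt_or_ge v 265760 with h323 | h323
  · exact (data.checkRange_iff 265144 616).mp Cfsg.Agent.Lib.Helper28.TCFi24U32.chk323 v (by omega) (by omega)
  rcases Nat.lt_or_ge v 266376 with h324 | h324
  · exact (data.checkRange_iff 265760 616).mp Cfsg.Agent.Lib.Helper28.TCFi24U32.chk324 v (by omega) (by omega)
  rcases Nat.lt_or_ge v 266992 with h325 | h325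
  · exact (data.checkRange_iff 266376 616).mp Cfsg.Agent.Lib.Helper28.TCFi24U32.chk325 v (by omega) (by omega)
  rcases Nat.lt_or_ge v 267608 with h326 | h326
  · exact (data.checkRange_iff 266992 616).mp Cfsg.Agent.Lib.Helper28.TCFi24U32.chk326 v (by omega) (by omega)
  rcases Nat.lt_or_ge v 268224 with h327 | h327
  · exact (data.checkRange_iff 267608 616).mp Cfsg.Agent.Lib.Helper28.TCFi24U32.chk327 v (by omega) (by omega)
  rcases Nat.lt_or_ge v 268840 with h328 | h328
  · exact (data.checkRange_iff 268224 616).mp Cfsg.Agent.Lib.Helper28.TCFi24U32.chk328 v (by omega) (by omega)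
  rcases Nat.lt_or_ge v 269456 with h329 | h329
  · exact (data.checkRange_iff 268840 616).mp Cfsg.Agent.Lib.Helper28.TCFi24U32.chk329 v (by omega) (by omega)
  rcases Nat.lt_or_ge v 270072 with h330 | h330
  · exact (data.checkRange_iff 269456 616).mp Cfsg.Agent.Lib.Helper28.TCFi24U33.chk330 v (by omega) (by omega)
  rcases Nat.lt_or_ge v 270688 with h331 | h331
  · exact (data.checkRange_iff 270072 616).mp Cfsg.Agent.Lib.Helper28.TCFi24U33.chk331 v (by omega) (by omega)
  rcases Nat.lt_or_ge v 271304 with h332 | h332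
  · exact (data.checkRange_iff 270688 616).mp Cfsg.Agent.Lib.Helper28.TCFi24U33.chk332 v (by omega) (by omega)
  rcases Nat.lt_or_ge v 271920 with h333 | h333
  · exact (data.checkRange_iff 271304 616).mp Cfsg.Agent.Lib.Helper28.TCFi24U33.chk333 v (by omega) (by omega)
  rcases Nat.lt_or_ge v 272536 with h334 | h334
  · exact (data.checkRange_iff 271920 616).mp Cfsg.Agent.Lib.Helper28.TCFi24U33.chk334 v (by omega) (by omega)
  rcases Nat.lt_or_ge v 273152 with h335 | h335
  · exact (data.checkRange_iff 272536 616).mp Cfsg.Agent.Lib.Helper28.TCFi24U33.chk335 v (by omega) (by omega)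
  rcases Nat.lt_or_ge v 273768 with h336 | h336
  · exact (data.checkRange_iff 273152 616).mp Cfsg.Agent.Lib.Helper28.TCFi24U33.chk336 v (by omega) (by omega)
  rcases Nat.lt_or_ge v 274384 with h337 | h337
  · exact (data.checkRange_iff 273768 616).mp Cfsg.Agent.Lib.Helper28.TCFi24U33.chk337 v (by omega) (by omega)
  rcases Nat.lt_or_ge v 275000 with h338 | h338
  · exact (data.checkRange_iff 274384 616).mp Cfsg.Agent.Lib.Helper28.TCFi24U33.chk338 v (by omega) (by omega)
  rcases Nat.lt_or_ge v 275616 with h339 | h339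
  · exact (data.checkRange_iff 275000 616).mp Cfsg.Agent.Lib.Helper28.TCFi24U33.chk339 v (by omega) (by omega)
  rcases Nat.lt_or_ge v 276232 with h340 | h340
  · exact (data.checkRange_iff 275616 616).mp Cfsg.Agent.Lib.Helper28.TCFi24U34.chk340 v (by omega) (by omega)
  rcases Nat.lt_or_ge v 276848 with h341 | h341
  · exact (data.checkRange_iff 276232 616).mp Cfsg.Agent.Lib.Helper28.TCFi24U34.chk341 v (by omega) (by omega)
  rcases Nat.lt_or_ge v 277464 with h342 | h342
  · exact (data.checkRange_iff 276848 616).mp Cfsg.Agent.Lib.Helper28.TCFi24U34.chk342 v (by omega) (by omega)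
  rcases Nat.lt_or_ge v 278080 with h343 | h343
  · exact (data.checkRange_iff 277464 616).mp Cfsg.Agent.Lib.Helper28.TCFi24U34.chk343 v (by omega) (by omega)
  rcases Nat.lt_or_ge v 278696 with h344 | h344
  · exact (data.checkRange_iff 278080 616).mp Cfsg.Agent.Lib.Helper28.TCFi24U34.chk344 v (by omega) (by omega)
  rcases Nat.lt_or_ge v 279312 with h345 | h345
  · exact (data.checkRange_iff 278696 616).mp Cfsg.Agent.Lib.Helper28.TCFi24U34.chk345 v (by omega) (by omega)
  rcases Nat.lt_or_ge v 279928 with h346 | h346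
  · exact (data.checkRange_iff 279312 616).mp Cfsg.Agent.Lib.Helper28.TCFi24U34.chk346 v (by omega) (by omega)
  rcases Nat.lt_or_ge v 280544 with h347 | h347
  · exact (data.checkRange_iff 279928 616).mp Cfsg.Agent.Lib.Helper28.TCFi24U34.chk347 v (by omega) (by omega)
  rcases Nat.lt_or_ge v 281160 with h348 | h348
  · exact (data.checkRange_iff 280544 616).mp Cfsg.Agent.Lib.Helper28.TCFi24U34.chk348 v (by omega) (by omega)
  rcases Nat.lt_or_ge v 281776 with h349 | h349
  · exact (data.checkRange_iff 281160 616).mp Cfsg.Agent.Lib.Helper28.TCFi24U34.chk349 v (by omega) (by omega)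
  rcases Nat.lt_or_ge v 282392 with h350 | h350
  · exact (data.checkRange_iff 281776 616).mp Cfsg.Agent.Lib.Helper28.TCFi24U35.chk350 v (by omega) (by omega)
  rcases Nat.lt_or_ge v 283008 with h351 | h351
  · exact (data.checkRange_iff 282392 616).mp Cfsg.Agent.Lib.Helper28.TCFi24U35.chk351 v (by omega) (by omega)
  rcases Nat.lt_or_ge v 283624 with h352 | h352
  · exact (data.checkRange_iff 283008 616).mp Cfsg.Agent.Lib.Helper28.TCFi24U35.chk352 v (by omega) (by omega)
  rcases Nat.lt_or_ge v 284240 with h353 | h353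
  · exact (data.checkRange_iff 283624 616).mp Cfsg.Agent.Lib.Helper28.TCFi24U35.chk353 v (by omega) (by omega)
  rcases Nat.lt_or_ge v 284856 with h354 | h354
  · exact (data.checkRange_iff 284240 616).mp Cfsg.Agent.Lib.Helper28.TCFi24U35.chk354 v (by omega) (by omega)
  rcases Nat.lt_or_ge v 285472 with h355 | h355
  · exact (data.checkRange_iff 284856 616).mp Cfsg.Agent.Lib.Helper28.TCFi24U35.chk355 v (by omega) (by omega)
  rcases Nat.lt_or_ge v 286088 with h356 | h356
  · exact (data.checkRange_iff 285472 616).mp Cfsg.Agent.Lib.Helper28.TCFi24U35.chk356 v (by omega) (by omega)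
  rcases Nat.lt_or_ge v 286704 with h357 | h357
  · exact (data.checkRange_iff 286088 616).mp Cfsg.Agent.Lib.Helper28.TCFi24U35.chk357 v (by omega) (by omega)
  rcases Nat.lt_or_ge v 287320 with h358 | h358
  · exact (data.checkRange_iff 286704 616).mp Cfsg.Agent.Lib.Helper28.TCFi24U35.chk358 v (by omega) (by omega)
  rcases Nat.lt_or_ge v 287936 with h359 | h359
  · exact (data.checkRange_iff 287320 616).mp Cfsg.Agent.Lib.Helper28.TCFi24U35.chk359 v (by omega) (by omega)
  rcases Nat.lt_or_ge v 288552 with h360 | h360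
  · exact (data.checkRange_iff 287936 616).mp Cfsg.Agent.Lib.Helper28.TCFi24U36.chk360 v (by omega) (by omega)
  rcases Nat.lt_or_ge v 289168 with h361 | h361
  · exact (data.checkRange_iff 288552 616).mp Cfsg.Agent.Lib.Helper28.TCFi24U36.chk361 v (by omega) (by omega)
  rcases Nat.lt_or_ge v 289784 with h362 | h362
  · exact (data.checkRange_iff 289168 616).mp Cfsg.Agent.Lib.Helper28.TCFi24U36.chk362 v (by omega) (by omega)
  rcases Nat.lt_or_ge v 290400 with h363 | h363
  · exact (data.checkRange_iff 289784 616).mp Cfsg.Agent.Lib.Helper28.TCFi24U36.chk363 v (by omega) (by omega)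
  rcases Nat.lt_or_ge v 291016 with h364 | h364
  · exact (data.checkRange_iff 290400 616).mp Cfsg.Agent.Lib.Helper28.TCFi24U36.chk364 v (by omega) (by omega)
  rcases Nat.lt_or_ge v 291632 with h365 | h365
  · exact (data.checkRange_iff 291016 616).mp Cfsg.Agent.Lib.Helper28.TCFi24U36.chk365 v (by omega) (by omega)
  rcases Nat.lt_or_ge v 292248 with h366 | h366
  · exact (data.checkRange_iff 291632 616).mp Cfsg.Agent.Lib.Helper28.TCFi24U36.chk366 v (by omega) (by omega)
  rcases Nat.lt_or_ge v 292864 with h367 | h367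
  · exact (data.checkRange_iff 292248 616).mp Cfsg.Agent.Lib.Helper28.TCFi24U36.chk367 v (by omega) (by omega)
  rcases Nat.lt_or_ge v 293480 with h368 | h368
  · exact (data.checkRange_iff 292864 616).mp Cfsg.Agent.Lib.Helper28.TCFi24U36.chk368 v (by omega) (by omega)
  rcases Nat.lt_or_ge v 294096 with h369 | h369
  · exact (data.checkRange_iff 293480 616).mp Cfsg.Agent.Lib.Helper28.TCFi24U36.chk369 v (by omega) (by omega)
  rcases Nat.lt_or_ge v 294712 with h370 | h370
  · exact (data.checkRange_iff 294096 616).mp Cfsg.Agent.Lib.Helper28.TCFi24U37.chk370 v (by omega) (by omega)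
  rcases Nat.lt_or_ge v 295328 with h371 | h371
  · exact (data.checkRange_iff 294712 616).mp Cfsg.Agent.Lib.Helper28.TCFi24U37.chk371 v (by omega) (by omega)
  rcases Nat.lt_or_ge v 295944 with h372 | h372
  · exact (data.checkRange_iff 295328 616).mp Cfsg.Agent.Lib.Helper28.TCFi24U37.chk372 v (by omega) (by omega)
  rcases Nat.lt_or_ge v 296560 with h373 | h373
  · exact (data.checkRange_iff 295944 616).mp Cfsg.Agent.Lib.Helper28.TCFi24U37.chk373 v (by omega) (by omega)
  rcases Nat.lt_or_ge v 297176 with h374 | h374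
  · exact (data.checkRange_iff 296560 616).mp Cfsg.Agent.Lib.Helper28.TCFi24U37.chk374 v (by omega) (by omega)
  rcases Nat.lt_or_ge v 297792 with h375 | h375
  · exact (data.checkRange_iff 297176 616).mp Cfsg.Agent.Lib.Helper28.TCFi24U37.chk375 v (by omega) (by omega)
  rcases Nat.lt_or_ge v 298408 with h376 | h376
  · exact (data.checkRange_iff 297792 616).mp Cfsg.Agent.Lib.Helper28.TCFi24U37.chk376 v (by omega) (by omega)
  rcases Nat.lt_or_ge v 299024 with h377 | h377
  · exact (data.checkRange_iff 298408 616).mp Cfsg.Agent.Lib.Helper28.TCFi24U37.chk377 v (by omega) (by omega)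
  rcases Nat.lt_or_ge v 299640 with h378 | h378
  · exact (data.checkRange_iff 299024 616).mp Cfsg.Agent.Lib.Helper28.TCFi24U37.chk378 v (by omega) (by omega)
  rcases Nat.lt_or_ge v 300256 with h379 | h379
  · exact (data.checkRange_iff 299640 616).mp Cfsg.Agent.Lib.Helper28.TCFi24U37.chk379 v (by omega) (by omega)
  rcases Nat.lt_or_ge v 300872 with h380 | h380
  · exact (data.checkRange_iff 300256 616).mp Cfsg.Agent.Lib.Helper28.TCFi24U38.chk380 v (by omega) (by omega)
  rcases Nat.lt_or_ge v 301488 with h381 | h381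
  · exact (data.checkRange_iff 300872 616).mp Cfsg.Agent.Lib.Helper28.TCFi24U38.chk381 v (by omega) (by omega)
  rcases Nat.lt_or_ge v 302104 with h382 | h382
  · exact (data.checkRange_iff 301488 616).mp Cfsg.Agent.Lib.Helper28.TCFi24U38.chk382 v (by omega) (by omega)
  rcases Nat.lt_or_ge v 302720 with h383 | h383
  · exact (data.checkRange_iff 302104 616).mp Cfsg.Agent.Lib.Helper28.TCFi24U38.chk383 v (by omega) (by omega)
  rcases Nat.lt_or_ge v 303336 with h384 | h384
  · exact (data.checkRange_iff 302720 616).mp Cfsg.Agent.Lib.Helper28.TCFi24U38.chk384 v (by omega) (by omega)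
  rcases Nat.lt_or_ge v 303952 with h385 | h385
  · exact (data.checkRange_iff 303336 616).mp Cfsg.Agent.Lib.Helper28.TCFi24U38.chk385 v (by omega) (by omega)
  rcases Nat.lt_or_ge v 304568 with h386 | h386
  · exact (data.checkRange_iff 303952 616).mp Cfsg.Agent.Lib.Helper28.TCFi24U38.chk386 v (by omega) (by omega)
  rcases Nat.lt_or_ge v 305184 with h387 | h387
  · exact (data.checkRange_iff 304568 616).mp Cfsg.Agent.Lib.Helper28.TCFi24U38.chk387 v (by omega) (by omega)
  rcases Nat.lt_or_ge v 305800 with h388 | h388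
  · exact (data.checkRange_iff 305184 616).mp Cfsg.Agent.Lib.Helper28.TCFi24U38.chk388 v (by omega) (by omega)
  rcases Nat.lt_or_ge v 306416 with h389 | h389
  · exact (data.checkRange_iff 305800 616).mp Cfsg.Agent.Lib.Helper28.TCFi24U38.chk389 v (by omega) (by omega)
  rcases Nat.lt_or_ge v 307032 with h390 | h390
  · exact (data.checkRange_iff 306416 616).mp Cfsg.Agent.Lib.Helper28.TCFi24U39.chk390 v (by omega) (by omega)
  rcases Nat.lt_or_ge v 307648 with h391 | h391
  · exact (data.checkRange_iff 307032 616).mp Cfsg.Agent.Lib.Helper28.TCFi24U39.chk391 v (by omega) (by omega)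
  rcases Nat.lt_or_ge v 308264 with h392 | h392
  · exact (data.checkRange_iff 307648 616).mp Cfsg.Agent.Lib.Helper28.TCFi24U39.chk392 v (by omega) (by omega)
  rcases Nat.lt_or_ge v 308880 with h393 | h393
  · exact (data.checkRange_iff 308264 616).mp Cfsg.Agent.Lib.Helper28.TCFi24U39.chk393 v (by omega) (by omega)
  rcases Nat.lt_or_ge v 309496 with h394 | h394
  · exact (data.checkRange_iff 308880 616).mp Cfsg.Agent.Lib.Helper28.TCFi24U39.chk394 v (by omega) (by omega)
  rcases Nat.lt_or_ge v 310112 with h395 | h395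
  · exact (data.checkRange_iff 309496 616).mp Cfsg.Agent.Lib.Helper28.TCFi24U39.chk395 v (by omega) (by omega)
  rcases Nat.lt_or_ge v 310728 with h396 | h396
  · exact (data.checkRange_iff 310112 616).mp Cfsg.Agent.Lib.Helper28.TCFi24U39.chk396 v (by omega) (by omega)
  rcases Nat.lt_or_ge v 311344 with h397 | h397
  · exact (data.checkRange_iff 310728 616).mp Cfsg.Agent.Lib.Helper28.TCFi24U39.chk397 v (by omega) (by omega)
  rcases Nat.lt_or_ge v 311960 with h398 | h398
  · exact (data.checkRange_iff 311344 616).mp Cfsg.Agent.Lib.Helper28.TCFi24U39.chk398 v (by omega) (by omega)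
  rcases Nat.lt_or_ge v 312576 with h399 | h399
  · exact (data.checkRange_iff 311960 616).mp Cfsg.Agent.Lib.Helper28.TCFi24U39.chk399 v (by omega) (by omega)
  rcases Nat.lt_or_ge v 313192 with h400 | h400
  · exact (data.checkRange_iff 312576 616).mp Cfsg.Agent.Lib.Helper28.TCFi24U40.chk400 v (by omega) (by omega)
  rcases Nat.lt_or_ge v 313808 with h401 | h401
  · exact (data.checkRange_iff 313192 616).mp Cfsg.Agent.Lib.Helper28.TCFi24U40.chk401 v (by omega) (by omega)
  rcases Nat.lt_or_ge v 314424 with h402 | h402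
  · exact (data.checkRange_iff 313808 616).mp Cfsg.Agent.Lib.Helper28.TCFi24U40.chk402 v (by omega) (by omega)
  rcases Nat.lt_or_ge v 315040 with h403 | h403
  · exact (data.checkRange_iff 314424 616).mp Cfsg.Agent.Lib.Helper28.TCFi24U40.chk403 v (by omega) (by omega)
  rcases Nat.lt_or_ge v 315656 with h404 | h404
  · exact (data.checkRange_iff 315040 616).mp Cfsg.Agent.Lib.Helper28.TCFi24U40.chk404 v (by omega) (by omega)
  rcases Nat.lt_or_ge v 316272 with h405 | h405
  · exact (data.checkRange_iff 315656 616).mp Cfsg.Agent.Lib.Helper28.TCFi24U40.chk405 v (by omega) (by omega)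
  rcases Nat.lt_or_ge v 316888 with h406 | h406
  · exact (data.checkRange_iff 316272 616).mp Cfsg.Agent.Lib.Helper28.TCFi24U40.chk406 v (by omega) (by omega)
  rcases Nat.lt_or_ge v 317504 with h407 | h407
  · exact (data.checkRange_iff 316888 616).mp Cfsg.Agent.Lib.Helper28.TCFi24U40.chk407 v (by omega) (by omega)
  rcases Nat.lt_or_ge v 318120 with h408 | h408
  · exact (data.checkRange_iff 317504 616).mp Cfsg.Agent.Lib.Helper28.TCFi24U40.chk408 v (by omega) (by omega)
  rcases Nat.lt_or_ge v 318736 with h409 | h409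
  · exact (data.checkRange_iff 318120 616).mp Cfsg.Agent.Lib.Helper28.TCFi24U40.chk409 v (by omega) (by omega)
  rcases Nat.lt_or_ge v 319352 with h410 | h410
  · exact (data.checkRange_iff 318736 616).mp Cfsg.Agent.Lib.Helper28.TCFi24U41.chk410 v (by omega) (by omega)
  rcases Nat.lt_or_ge v 319968 with h411 | h411
  · exact (data.checkRange_iff 319352 616).mp Cfsg.Agent.Lib.Helper28.TCFi24U41.chk411 v (by omega) (by omega)
  rcases Nat.lt_or_ge v 320584 with h412 | h412
  · exact (data.checkRange_iff 319968 616).mp Cfsg.Agent.Lib.Helper28.TCFi24U41.chk412 v (by omega) (by omega)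
  rcases Nat.lt_or_ge v 321200 with h413 | h413
  · exact (data.checkRange_iff 320584 616).mp Cfsg.Agent.Lib.Helper28.TCFi24U41.chk413 v (by omega) (by omega)
  rcases Nat.lt_or_ge v 321816 with h414 | h414
  · exact (data.checkRange_iff 321200 616).mp Cfsg.Agent.Lib.Helper28.TCFi24U41.chk414 v (by omega) (by omega)
  rcases Nat.lt_or_ge v 322432 with h415 | h415
  · exact (data.checkRange_iff 321816 616).mp Cfsg.Agent.Lib.Helper28.TCFi24U41.chk415 v (by omega) (by omega)
  rcases Nat.lt_or_ge v 323048 with h416 | h416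
  · exact (data.checkRange_iff 322432 616).mp Cfsg.Agent.Lib.Helper28.TCFi24U41.chk416 v (by omega) (by omega)
  rcases Nat.lt_or_ge v 323664 with h417 | h417
  · exact (data.checkRange_iff 323048 616).mp Cfsg.Agent.Lib.Helper28.TCFi24U41.chk417 v (by omega) (by omega)
  rcases Nat.lt_or_ge v 324280 with h418 | h418
  · exact (data.checkRange_iff 323664 616).mp Cfsg.Agent.Lib.Helper28.TCFi24U41.chk418 v (by omega) (by omega)
  rcases Nat.lt_or_ge v 324896 with h419 | h419
  · exact (data.checkRange_iff 324280 616).mp Cfsg.Agent.Lib.Helper28.TCFi24U41.chk419 v (by omega) (by omega)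
  rcases Nat.lt_or_ge v 325512 with h420 | h420
  · exact (data.checkRange_iff 324896 616).mp Cfsg.Agent.Lib.Helper28.TCFi24U42.chk420 v (by omega) (by omega)
  rcases Nat.lt_or_ge v 326128 with h421 | h421
  · exact (data.checkRange_iff 325512 616).mp Cfsg.Agent.Lib.Helper28.TCFi24U42.chk421 v (by omega) (by omega)
  rcases Nat.lt_or_ge v 326744 with h422 | h422
  · exact (data.checkRange_iff 326128 616).mp Cfsg.Agent.Lib.Helper28.TCFi24U42.chk422 v (by omega) (by omega)
  rcases Nat.lt_or_ge v 327360 with h423 | h423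
  · exact (data.checkRange_iff 326744 616).mp Cfsg.Agent.Lib.Helper28.TCFi24U42.chk423 v (by omega) (by omega)
  rcases Nat.lt_or_ge v 327976 with h424 | h424
  · exact (data.checkRange_iff 327360 616).mp Cfsg.Agent.Lib.Helper28.TCFi24U42.chk424 v (by omega) (by omega)
  rcases Nat.lt_or_ge v 328592 with h425 | h425
  · exact (data.checkRange_iff 327976 616).mp Cfsg.Agent.Lib.Helper28.TCFi24U42.chk425 v (by omega) (by omega)
  rcases Nat.lt_or_ge v 329208 with h426 | h426
  · exact (data.checkRange_iff 328592 616).mp Cfsg.Agent.Lib.Helper28.TCFi24U42.chk426 v (by omega) (by omega)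
  rcases Nat.lt_or_ge v 329824 with h427 | h427
  · exact (data.checkRange_iff 329208 616).mp Cfsg.Agent.Lib.Helper28.TCFi24U42.chk427 v (by omega) (by omega)
  rcases Nat.lt_or_ge v 330440 with h428 | h428
  · exact (data.checkRange_iff 329824 616).mp Cfsg.Agent.Lib.Helper28.TCFi24U42.chk428 v (by omega) (by omega)
  rcases Nat.lt_or_ge v 331056 with h429 | h429
  · exact (data.checkRange_iff 330440 616).mp Cfsg.Agent.Lib.Helper28.TCFi24U42.chk429 v (by omega) (by omega)
  rcases Nat.lt_or_ge v 331672 with h430 | h430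
  · exact (data.checkRange_iff 331056 616).mp Cfsg.Agent.Lib.Helper28.TCFi24U43.chk430 v (by omega) (by omega)
  rcases Nat.lt_or_ge v 332288 with h431 | h431
  · exact (data.checkRange_iff 331672 616).mp Cfsg.Agent.Lib.Helper28.TCFi24U43.chk431 v (by omega) (by omega)
  rcases Nat.lt_or_ge v 332904 with h432 | h432
  · exact (data.checkRange_iff 332288 616).mp Cfsg.Agent.Lib.Helper28.TCFi24U43.chk432 v (by omega) (by omega)
  rcases Nat.lt_or_ge v 333520 with h433 | h433
  · exact (data.checkRange_iff 332904 616).mp Cfsg.Agent.Lib.Helper28.TCFi24U43.chk433 v (by omega) (by omega)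
  rcases Nat.lt_or_ge v 334136 with h434 | h434
  · exact (data.checkRange_iff 333520 616).mp Cfsg.Agent.Lib.Helper28.TCFi24U43.chk434 v (by omega) (by omega)
  rcases Nat.lt_or_ge v 334752 with h435 | h435
  · exact (data.checkRange_iff 334136 616).mp Cfsg.Agent.Lib.Helper28.TCFi24U43.chk435 v (by omega) (by omega)
  rcases Nat.lt_or_ge v 335368 with h436 | h436
  · exact (data.checkRange_iff 334752 616).mp Cfsg.Agent.Lib.Helper28.TCFi24U43.chk436 v (by omega) (by omega)
  rcases Nat.lt_or_ge v 335984 with h437 | h437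
  · exact (data.checkRange_iff 335368 616).mp Cfsg.Agent.Lib.Helper28.TCFi24U43.chk437 v (by omega) (by omega)
  rcases Nat.lt_or_ge v 336600 with h438 | h438
  · exact (data.checkRange_iff 335984 616).mp Cfsg.Agent.Lib.Helper28.TCFi24U43.chk438 v (by omega) (by omega)
  rcases Nat.lt_or_ge v 337216 with h439 | h439
  · exact (data.checkRange_iff 336600 616).mp Cfsg.Agent.Lib.Helper28.TCFi24U43.chk439 v (by omega) (by omega)
  rcases Nat.lt_or_ge v 337832 with h440 | h440
  · exact (data.checkRange_iff 337216 616).mp Cfsg.Agent.Lib.Helper28.TCFi24U44.chk440 v (by omega) (by omega)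
  rcases Nat.lt_or_ge v 338448 with h441 | h441
  · exact (data.checkRange_iff 337832 616).mp Cfsg.Agent.Lib.Helper28.TCFi24U44.chk441 v (by omega) (by omega)
  rcases Nat.lt_or_ge v 339064 with h442 | h442
  · exact (data.checkRange_iff 338448 616).mp Cfsg.Agent.Lib.Helper28.TCFi24U44.chk442 v (by omega) (by omega)
  rcases Nat.lt_or_ge v 339680 with h443 | h443
  · exact (data.checkRange_iff 339064 616).mp Cfsg.Agent.Lib.Helper28.TCFi24U44.chk443 v (by omega) (by omega)
  rcases Nat.lt_or_ge v 340296 with h444 | h444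
  · exact (data.checkRange_iff 339680 616).mp Cfsg.Agent.Lib.Helper28.TCFi24U44.chk444 v (by omega) (by omega)
  rcases Nat.lt_or_ge v 340912 with h445 | h445
  · exact (data.checkRange_iff 340296 616).mp Cfsg.Agent.Lib.Helper28.TCFi24U44.chk445 v (by omega) (by omega)
  rcases Nat.lt_or_ge v 341528 with h446 | h446
  · exact (data.checkRange_iff 340912 616).mp Cfsg.Agent.Lib.Helper28.TCFi24U44.chk446 v (by omega) (by omega)
  rcases Nat.lt_or_ge v 342144 with h447 | h447
  · exact (data.checkRange_iff 341528 616).mp Cfsg.Agent.Lib.Helper28.TCFi24U44.chk447 v (by omega) (by omega)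
  rcases Nat.lt_or_ge v 342760 with h448 | h448
  · exact (data.checkRange_iff 342144 616).mp Cfsg.Agent.Lib.Helper28.TCFi24U44.chk448 v (by omega) (by omega)
  rcases Nat.lt_or_ge v 343376 with h449 | h449
  · exact (data.checkRange_iff 342760 616).mp Cfsg.Agent.Lib.Helper28.TCFi24U44.chk449 v (by omega) (by omega)
  rcases Nat.lt_or_ge v 343992 with h450 | h450
  · exact (data.checkRange_iff 343376 616).mp Cfsg.Agent.Lib.Helper28.TCFi24U45.chk450 v (by omega) (by omega)
  rcases Nat.lt_or_ge v 344608 with h451 | h451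
  · exact (data.checkRange_iff 343992 616).mp Cfsg.Agent.Lib.Helper28.TCFi24U45.chk451 v (by omega) (by omega)
  rcases Nat.lt_or_ge v 345224 with h452 | h452
  · exact (data.checkRange_iff 344608 616).mp Cfsg.Agent.Lib.Helper28.TCFi24U45.chk452 v (by omega) (by omega)
  rcases Nat.lt_or_ge v 345840 with h453 | h453
  · exact (data.checkRange_iff 345224 616).mp Cfsg.Agent.Lib.Helper28.TCFi24U45.chk453 v (by omega) (by omega)
  rcases Nat.lt_or_ge v 346456 with h454 | h454
  · exact (data.checkRange_iff 345840 616).mp Cfsg.Agent.Lib.Helper28.TCFi24U45.chk454 v (by omega) (by omega)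
  rcases Nat.lt_or_ge v 347072 with h455 | h455
  · exact (data.checkRange_iff 346456 616).mp Cfsg.Agent.Lib.Helper28.TCFi24U45.chk455 v (by omega) (by omega)
  rcases Nat.lt_or_ge v 347688 with h456 | h456
  · exact (data.checkRange_iff 347072 616).mp Cfsg.Agent.Lib.Helper28.TCFi24U45.chk456 v (by omega) (by omega)
  rcases Nat.lt_or_ge v 348304 with h457 | h457
  · exact (data.checkRange_iff 347688 616).mp Cfsg.Agent.Lib.Helper28.TCFi24U45.chk457 v (by omega) (by omega)
  rcases Nat.lt_or_ge v 348920 with h458 | h458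
  · exact (data.checkRange_iff 348304 616).mp Cfsg.Agent.Lib.Helper28.TCFi24U45.chk458 v (by omega) (by omega)
  rcases Nat.lt_or_ge v 349536 with h459 | h459
  · exact (data.checkRange_iff 348920 616).mp Cfsg.Agent.Lib.Helper28.TCFi24U45.chk459 v (by omega) (by omega)
  rcases Nat.lt_or_ge v 350152 with h460 | h460
  · exact (data.checkRange_iff 349536 616).mp Cfsg.Agent.Lib.Helper28.TCFi24U46.chk460 v (by omega) (by omega)
  rcases Nat.lt_or_ge v 350768 with h461 | h461
  · exact (data.checkRange_iff 350152 616).mp Cfsg.Agent.Lib.Helper28.TCFi24U46.chk461 v (by omega) (by omega)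
  rcases Nat.lt_or_ge v 351384 with h462 | h462
  · exact (data.checkRange_iff 350768 616).mp Cfsg.Agent.Lib.Helper28.TCFi24U46.chk462 v (by omega) (by omega)
  rcases Nat.lt_or_ge v 352000 with h463 | h463
  · exact (data.checkRange_iff 351384 616).mp Cfsg.Agent.Lib.Helper28.TCFi24U46.chk463 v (by omega) (by omega)
  rcases Nat.lt_or_ge v 352616 with h464 | h464
  · exact (data.checkRange_iff 352000 616).mp Cfsg.Agent.Lib.Helper28.TCFi24U46.chk464 v (by omega) (by omega)
  rcases Nat.lt_or_ge v 353232 with h465 | h465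
  · exact (data.checkRange_iff 352616 616).mp Cfsg.Agent.Lib.Helper28.TCFi24U46.chk465 v (by omega) (by omega)
  rcases Nat.lt_or_ge v 353848 with h466 | h466
  · exact (data.checkRange_iff 353232 616).mp Cfsg.Agent.Lib.Helper28.TCFi24U46.chk466 v (by omega) (by omega)
  rcases Nat.lt_or_ge v 354464 with h467 | h467
  · exact (data.checkRange_iff 353848 616).mp Cfsg.Agent.Lib.Helper28.TCFi24U46.chk467 v (by omega) (by omega)
  rcases Nat.lt_or_ge v 355080 with h468 | h468
  · exact (data.checkRange_iff 354464 616).mp Cfsg.Agent.Lib.Helper28.TCFi24U46.chk468 v (by omega) (by omega)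
  rcases Nat.lt_or_ge v 355696 with h469 | h469
  · exact (data.checkRange_iff 355080 616).mp Cfsg.Agent.Lib.Helper28.TCFi24U46.chk469 v (by omega) (by omega)
  rcases Nat.lt_or_ge v 356312 with h470 | h470
  · exact (data.checkRange_iff 355696 616).mp Cfsg.Agent.Lib.Helper28.TCFi24U47.chk470 v (by omega) (by omega)
  rcases Nat.lt_or_ge v 356928 with h471 | h471
  · exact (data.checkRange_iff 356312 616).mp Cfsg.Agent.Lib.Helper28.TCFi24U47.chk471 v (by omega) (by omega)
  rcases Nat.lt_or_ge v 357544 with h472 | h472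
  · exact (data.checkRange_iff 356928 616).mp Cfsg.Agent.Lib.Helper28.TCFi24U47.chk472 v (by omega) (by omega)
  rcases Nat.lt_or_ge v 358160 with h473 | h473
  · exact (data.checkRange_iff 357544 616).mp Cfsg.Agent.Lib.Helper28.TCFi24U47.chk473 v (by omega) (by omega)
  rcases Nat.lt_or_ge v 358776 with h474 | h474
  · exact (data.checkRange_iff 358160 616).mp Cfsg.Agent.Lib.Helper28.TCFi24U47.chk474 v (by omega) (by omega)
  rcases Nat.lt_or_ge v 359392 with h475 | h475
  · exact (data.checkRange_iff 358776 616).mp Cfsg.Agent.Lib.Helper28.TCFi24U47.chk475 v (by omega) (by omega)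
  rcases Nat.lt_or_ge v 360008 with h476 | h476
  · exact (data.checkRange_iff 359392 616).mp Cfsg.Agent.Lib.Helper28.TCFi24U47.chk476 v (by omega) (by omega)
  rcases Nat.lt_or_ge v 360624 with h477 | h477
  · exact (data.checkRange_iff 360008 616).mp Cfsg.Agent.Lib.Helper28.TCFi24U47.chk477 v (by omega) (by omega)
  rcases Nat.lt_or_ge v 361240 with h478 | h478
  · exact (data.checkRange_iff 360624 616).mp Cfsg.Agent.Lib.Helper28.TCFi24U47.chk478 v (by omega) (by omega)
  rcases Nat.lt_or_ge v 361856 with h479 | h479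
  · exact (data.checkRange_iff 361240 616).mp Cfsg.Agent.Lib.Helper28.TCFi24U47.chk479 v (by omega) (by omega)
  rcases Nat.lt_or_ge v 362472 with h480 | h480
  · exact (data.checkRange_iff 361856 616).mp Cfsg.Agent.Lib.Helper28.TCFi24U48.chk480 v (by omega) (by omega)
  rcases Nat.lt_or_ge v 363088 with h481 | h481
  · exact (data.checkRange_iff 362472 616).mp Cfsg.Agent.Lib.Helper28.TCFi24U48.chk481 v (by omega) (by omega)
  rcases Nat.lt_or_ge v 363704 with h482 | h482
  · exact (data.checkRange_iff 363088 616).mp Cfsg.Agent.Lib.Helper28.TCFi24U48.chk482 v (by omega) (by omega)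
  rcases Nat.lt_or_ge v 364320 with h483 | h483
  · exact (data.checkRange_iff 363704 616).mp Cfsg.Agent.Lib.Helper28.TCFi24U48.chk483 v (by omega) (by omega)
  rcases Nat.lt_or_ge v 364936 with h484 | h484
  · exact (data.checkRange_iff 364320 616).mp Cfsg.Agent.Lib.Helper28.TCFi24U48.chk484 v (by omega) (by omega)
  rcases Nat.lt_or_ge v 365552 with h485 | h485
  · exact (data.checkRange_iff 364936 616).mp Cfsg.Agent.Lib.Helper28.TCFi24U48.chk485 v (by omega) (by omega)
  rcases Nat.lt_or_ge v 366168 with h486 | h486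
  · exact (data.checkRange_iff 365552 616).mp Cfsg.Agent.Lib.Helper28.TCFi24U48.chk486 v (by omega) (by omega)
  rcases Nat.lt_or_ge v 366784 with h487 | h487
  · exact (data.checkRange_iff 366168 616).mp Cfsg.Agent.Lib.Helper28.TCFi24U48.chk487 v (by omega) (by omega)
  rcases Nat.lt_or_ge v 367400 with h488 | h488
  · exact (data.checkRange_iff 366784 616).mp Cfsg.Agent.Lib.Helper28.TCFi24U48.chk488 v (by omega) (by omega)
  rcases Nat.lt_or_ge v 368016 with h489 | h489
  · exact (data.checkRange_iff 367400 616).mp Cfsg.Agent.Lib.Helper28.TCFi24U48.chk489 v (by omega) (by omega)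
  rcases Nat.lt_or_ge v 368632 with h490 | h490
  · exact (data.checkRange_iff 368016 616).mp Cfsg.Agent.Lib.Helper28.TCFi24U49.chk490 v (by omega) (by omega)
  rcases Nat.lt_or_ge v 369248 with h491 | h491
  · exact (data.checkRange_iff 368632 616).mp Cfsg.Agent.Lib.Helper28.TCFi24U49.chk491 v (by omega) (by omega)
  rcases Nat.lt_or_ge v 369864 with h492 | h492
  · exact (data.checkRange_iff 369248 616).mp Cfsg.Agent.Lib.Helper28.TCFi24U49.chk492 v (by omega) (by omega)
  rcases Nat.lt_or_ge v 370480 with h493 | h493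
  · exact (data.checkRange_iff 369864 616).mp Cfsg.Agent.Lib.Helper28.TCFi24U49.chk493 v (by omega) (by omega)
  rcases Nat.lt_or_ge v 371096 with h494 | h494
  · exact (data.checkRange_iff 370480 616).mp Cfsg.Agent.Lib.Helper28.TCFi24U49.chk494 v (by omega) (by omega)
  rcases Nat.lt_or_ge v 371712 with h495 | h495
  · exact (data.checkRange_iff 371096 616).mp Cfsg.Agent.Lib.Helper28.TCFi24U49.chk495 v (by omega) (by omega)
  rcases Nat.lt_or_ge v 372328 with h496 | h496
  · exact (data.checkRange_iff 371712 616).mp Cfsg.Agent.Lib.Helper28.TCFi24U49.chk496 v (by omega) (by omega)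
  rcases Nat.lt_or_ge v 372944 with h497 | h497
  · exact (data.checkRange_iff 372328 616).mp Cfsg.Agent.Lib.Helper28.TCFi24U49.chk497 v (by omega) (by omega)
  rcases Nat.lt_or_ge v 373560 with h498 | h498
  · exact (data.checkRange_iff 372944 616).mp Cfsg.Agent.Lib.Helper28.TCFi24U49.chk498 v (by omega) (by omega)
  rcases Nat.lt_or_ge v 374176 with h499 | h499
  · exact (data.checkRange_iff 373560 616).mp Cfsg.Agent.Lib.Helper28.TCFi24U49.chk499 v (by omega) (by omega)
  rcases Nat.lt_or_ge v 374792 with h500 | h500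
  · exact (data.checkRange_iff 374176 616).mp Cfsg.Agent.Lib.Helper28.TCFi24U50.chk500 v (by omega) (by omega)
  rcases Nat.lt_or_ge v 375408 with h501 | h501
  · exact (data.checkRange_iff 374792 616).mp Cfsg.Agent.Lib.Helper28.TCFi24U50.chk501 v (by omega) (by omega)
  rcases Nat.lt_or_ge v 376024 with h502 | h502
  · exact (data.checkRange_iff 375408 616).mp Cfsg.Agent.Lib.Helper28.TCFi24U50.chk502 v (by omega) (by omega)
  rcases Nat.lt_or_ge v 376640 with h503 | h503
  · exact (data.checkRange_iff 376024 616).mp Cfsg.Agent.Lib.Helper28.TCFi24U50.chk503 v (by omega) (by omega)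
  rcases Nat.lt_or_ge v 377256 with h504 | h504
  · exact (data.checkRange_iff 376640 616).mp Cfsg.Agent.Lib.Helper28.TCFi24U50.chk504 v (by omega) (by omega)
  rcases Nat.lt_or_ge v 377872 with h505 | h505
  · exact (data.checkRange_iff 377256 616).mp Cfsg.Agent.Lib.Helper28.TCFi24U50.chk505 v (by omega) (by omega)
  rcases Nat.lt_or_ge v 378488 with h506 | h506
  · exact (data.checkRange_iff 377872 616).mp Cfsg.Agent.Lib.Helper28.TCFi24U50.chk506 v (by omega) (by omega)
  rcases Nat.lt_or_ge v 379104 with h507 | h507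
  · exact (data.checkRange_iff 378488 616).mp Cfsg.Agent.Lib.Helper28.TCFi24U50.chk507 v (by omega) (by omega)
  rcases Nat.lt_or_ge v 379720 with h508 | h508
  · exact (data.checkRange_iff 379104 616).mp Cfsg.Agent.Lib.Helper28.TCFi24U50.chk508 v (by omega) (by omega)
  rcases Nat.lt_or_ge v 380336 with h509 | h509
  · exact (data.checkRange_iff 379720 616).mp Cfsg.Agent.Lib.Helper28.TCFi24U50.chk509 v (by omega) (by omega)
  rcases Nat.lt_or_ge v 380952 with h510 | h510
  · exact (data.checkRange_iff 380336 616).mp Cfsg.Agent.Lib.Helper28.TCFi24U51.chk510 v (by omega) (by omega)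
  rcases Nat.lt_or_ge v 381568 with h511 | h511
  · exact (data.checkRange_iff 380952 616).mp Cfsg.Agent.Lib.Helper28.TCFi24U51.chk511 v (by omega) (by omega)
  rcases Nat.lt_or_ge v 382184 with h512 | h512
  · exact (data.checkRange_iff 381568 616).mp Cfsg.Agent.Lib.Helper28.TCFi24U51.chk512 v (by omega) (by omega)
  rcases Nat.lt_or_ge v 382800 with h513 | h513
  · exact (data.checkRange_iff 382184 616).mp Cfsg.Agent.Lib.Helper28.TCFi24U51.chk513 v (by omega) (by omega)
  rcases Nat.lt_or_ge v 383416 with h514 | h514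
  · exact (data.checkRange_iff 382800 616).mp Cfsg.Agent.Lib.Helper28.TCFi24U51.chk514 v (by omega) (by omega)
  rcases Nat.lt_or_ge v 384032 with h515 | h515
  · exact (data.checkRange_iff 383416 616).mp Cfsg.Agent.Lib.Helper28.TCFi24U51.chk515 v (by omega) (by omega)
  rcases Nat.lt_or_ge v 384648 with h516 | h516
  · exact (data.checkRange_iff 384032 616).mp Cfsg.Agent.Lib.Helper28.TCFi24U51.chk516 v (by omega) (by omega)
  rcases Nat.lt_or_ge v 385264 with h517 | h517
  · exact (data.checkRange_iff 384648 616).mp Cfsg.Agent.Lib.Helper28.TCFi24U51.chk517 v (by omega) (by omega)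
  rcases Nat.lt_or_ge v 385880 with h518 | h518
  · exact (data.checkRange_iff 385264 616).mp Cfsg.Agent.Lib.Helper28.TCFi24U51.chk518 v (by omega) (by omega)
  rcases Nat.lt_or_ge v 386496 with h519 | h519
  · exact (data.checkRange_iff 385880 616).mp Cfsg.Agent.Lib.Helper28.TCFi24U51.chk519 v (by omega) (by omega)
  rcases Nat.lt_or_ge v 387112 with h520 | h520
  · exact (data.checkRange_iff 386496 616).mp Cfsg.Agent.Lib.Helper28.TCFi24U52.chk520 v (by omega) (by omega)
  rcases Nat.lt_or_ge v 387728 with h521 | h521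
  · exact (data.checkRange_iff 387112 616).mp Cfsg.Agent.Lib.Helper28.TCFi24U52.chk521 v (by omega) (by omega)
  rcases Nat.lt_or_ge v 388344 with h522 | h522
  · exact (data.checkRange_iff 387728 616).mp Cfsg.Agent.Lib.Helper28.TCFi24U52.chk522 v (by omega) (by omega)
  rcases Nat.lt_or_ge v 388960 with h523 | h523
  · exact (data.checkRange_iff 388344 616).mp Cfsg.Agent.Lib.Helper28.TCFi24U52.chk523 v (by omega) (by omega)
  rcases Nat.lt_or_ge v 389576 with h524 | h524
  · exact (data.checkRange_iff 388960 616).mp Cfsg.Agent.Lib.Helper28.TCFi24U52.chk524 v (by omega) (by omega)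
  rcases Nat.lt_or_ge v 390192 with h525 | h525
  · exact (data.checkRange_iff 389576 616).mp Cfsg.Agent.Lib.Helper28.TCFi24U52.chk525 v (by omega) (by omega)
  rcases Nat.lt_or_ge v 390808 with h526 | h526
  · exact (data.checkRange_iff 390192 616).mp Cfsg.Agent.Lib.Helper28.TCFi24U52.chk526 v (by omega) (by omega)
  rcases Nat.lt_or_ge v 391424 with h527 | h527
  · exact (data.checkRange_iff 390808 616).mp Cfsg.Agent.Lib.Helper28.TCFi24U52.chk527 v (by omega) (by omega)
  rcases Nat.lt_or_ge v 392040 with h528 | h528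
  · exact (data.checkRange_iff 391424 616).mp Cfsg.Agent.Lib.Helper28.TCFi24U52.chk528 v (by omega) (by omega)
  rcases Nat.lt_or_ge v 392656 with h529 | h529
  · exact (data.checkRange_iff 392040 616).mp Cfsg.Agent.Lib.Helper28.TCFi24U52.chk529 v (by omega) (by omega)
  rcases Nat.lt_or_ge v 393272 with h530 | h530
  · exact (data.checkRange_iff 392656 616).mp Cfsg.Agent.Lib.Helper28.TCFi24U53.chk530 v (by omega) (by omega)
  rcases Nat.lt_or_ge v 393888 with h531 | h531
  · exact (data.checkRange_iff 393272 616).mp Cfsg.Agent.Lib.Helper28.TCFi24U53.chk531 v (by omega) (by omega)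
  exact (data.checkRange_iff 393888 566).mp Cfsg.Agent.Lib.Helper28.TCFi24U53.chk532 v (by omega) (by omega)

theorem hrows : ∀ v, v < data.N → Data.rowOK data v = true := by
  intro v hv
  have hv' : v < 394454 := hv
  rcases Nat.lt_or_ge v 8333 with h0 | h0
  · exact (Data.finalRange_iff data 0 8333).mp Cfsg.Agent.Lib.Helper28.TCFi24M0.fin0 v (by omega) (by omega)
  rcases Nat.lt_or_ge v 16666 with h1 | h1
  · exact (Data.finalRange_iff data 8333 8333).mp Cfsg.Agent.Lib.Helper28.TCFi24M0.fin1 v (by omega) (by omega)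
  rcases Nat.lt_or_ge v 24999 with h2 | h2
  · exact (Data.finalRange_iff data 16666 8333).mp Cfsg.Agent.Lib.Helper28.TCFi24M0.fin2 v (by omega) (by omega)
  rcases Nat.lt_or_ge v 33332 with h3 | h3
  · exact (Data.finalRange_iff data 24999 8333).mp Cfsg.Agent.Lib.Helper28.TCFi24M0.fin3 v (by omega) (by omega)
  rcases Nat.lt_or_ge v 41665 with h4 | h4
  · exact (Data.finalRange_iff data 33332 8333).mp Cfsg.Agent.Lib.Helper28.TCFi24M0.fin4 v (by omega) (by omega)
  rcases Nat.lt_or_ge v 49998 with h5 | h5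
  · exact (Data.finalRange_iff data 41665 8333).mp Cfsg.Agent.Lib.Helper28.TCFi24M0.fin5 v (by omega) (by omega)
  rcases Nat.lt_or_ge v 58331 with h6 | h6
  · exact (Data.finalRange_iff data 49998 8333).mp Cfsg.Agent.Lib.Helper28.TCFi24M0.fin6 v (by omega) (by omega)
  rcases Nat.lt_or_ge v 66664 with h7 | h7
  · exact (Data.finalRange_iff data 58331 8333).mp Cfsg.Agent.Lib.Helper28.TCFi24M0.fin7 v (by omega) (by omega)
  rcases Nat.lt_or_ge v 74997 with h8 | h8
  · exact (Data.finalRange_iff data 66664 8333).mp Cfsg.Agent.Lib.Helper28.TCFi24M0.fin8 v (by omega) (by omega)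
  rcases Nat.lt_or_ge v 83330 with h9 | h9
  · exact (Data.finalRange_iff data 74997 8333).mp Cfsg.Agent.Lib.Helper28.TCFi24M0.fin9 v (by omega) (by omega)
  rcases Nat.lt_or_ge v 91663 with h10 | h10
  · exact (Data.finalRange_iff data 83330 8333).mp Cfsg.Agent.Lib.Helper28.TCFi24M1.fin10 v (by omega) (by omega)
  rcases Nat.lt_or_ge v 99996 with h11 | h11
  · exact (Data.finalRange_iff data 91663 8333).mp Cfsg.Agent.Lib.Helper28.TCFi24M1.fin11 v (by omega) (by omega)
  rcases Nat.lt_or_ge v 108329 with h12 | h12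
  · exact (Data.finalRange_iff data 99996 8333).mp Cfsg.Agent.Lib.Helper28.TCFi24M1.fin12 v (by omega) (by omega)
  rcases Nat.lt_or_ge v 116662 with h13 | h13
  · exact (Data.finalRange_iff data 108329 8333).mp Cfsg.Agent.Lib.Helper28.TCFi24M1.fin13 v (by omega) (by omega)
  rcases Nat.lt_or_ge v 124995 with h14 | h14
  · exact (Data.finalRange_iff data 116662 8333).mp Cfsg.Agent.Lib.Helper28.TCFi24M1.fin14 v (by omega) (by omega)
  rcases Nat.lt_or_ge v 133328 with h15 | h15
  · exact (Data.finalRange_iff data 124995 8333).mp Cfsg.Agent.Lib.Helper28.TCFi24M1.fin15 v (by omega) (by omega)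
  rcases Nat.lt_or_ge v 141661 with h16 | h16
  · exact (Data.finalRange_iff data 133328 8333).mp Cfsg.Agent.Lib.Helper28.TCFi24M1.fin16 v (by omega) (by omega)
  rcases Nat.lt_or_ge v 149994 with h17 | h17
  · exact (Data.finalRange_iff data 141661 8333).mp Cfsg.Agent.Lib.Helper28.TCFi24M1.fin17 v (by omega) (by omega)
  rcases Nat.lt_or_ge v 158327 with h18 | h18
  · exact (Data.finalRange_iff data 149994 8333).mp Cfsg.Agent.Lib.Helper28.TCFi24M1.fin18 v (by omega) (by omega)
  rcases Nat.lt_or_ge v 166660 with h19 | h19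
  · exact (Data.finalRange_iff data 158327 8333).mp Cfsg.Agent.Lib.Helper28.TCFi24M1.fin19 v (by omega) (by omega)
  rcases Nat.lt_or_ge v 174993 with h20 | h20
  · exact (Data.finalRange_iff data 166660 8333).mp Cfsg.Agent.Lib.Helper28.TCFi24M2.fin20 v (by omega) (by omega)
  rcases Nat.lt_or_ge v 183326 with h21 | h21
  · exact (Data.finalRange_iff data 174993 8333).mp Cfsg.Agent.Lib.Helper28.TCFi24M2.fin21 v (by omega) (by omega)
  rcases Nat.lt_or_ge v 191659 with h22 | h22
  · exact (Data.finalRange_iff data 183326 8333).mp Cfsg.Agent.Lib.Helper28.TCFi24M2.fin22 v (by omega) (by omega)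
  rcases Nat.lt_or_ge v 199992 with h23 | h23
  · exact (Data.finalRange_iff data 191659 8333).mp Cfsg.Agent.Lib.Helper28.TCFi24M2.fin23 v (by omega) (by omega)
  rcases Nat.lt_or_ge v 208325 with h24 | h24
  · exact (Data.finalRange_iff data 199992 8333).mp Cfsg.Agent.Lib.Helper28.TCFi24M2.fin24 v (by omega) (by omega)
  rcases Nat.lt_or_ge v 216658 with h25 | h25
  · exact (Data.finalRange_iff data 208325 8333).mp Cfsg.Agent.Lib.Helper28.TCFi24M2.fin25 v (by omega) (by omega)
  rcases Nat.lt_or_ge v 224991 with h26 | h26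
  · exact (Data.finalRange_iff data 216658 8333).mp Cfsg.Agent.Lib.Helper28.TCFi24M2.fin26 v (by omega) (by omega)
  rcases Nat.lt_or_ge v 233324 with h27 | h27
  · exact (Data.finalRange_iff data 224991 8333).mp Cfsg.Agent.Lib.Helper28.TCFi24M2.fin27 v (by omega) (by omega)
  rcases Nat.lt_or_ge v 241657 with h28 | h28
  · exact (Data.finalRange_iff data 233324 8333).mp Cfsg.Agent.Lib.Helper28.TCFi24M2.fin28 v (by omega) (by omega)
  rcases Nat.lt_or_ge v 249990 with h29 | h29
  · exact (Data.finalRange_iff data 241657 8333).mp Cfsg.Agent.Lib.Helper28.TCFi24M2.fin29 v (by omega) (by omega)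
  rcases Nat.lt_or_ge v 258323 with h30 | h30
  · exact (Data.finalRange_iff data 249990 8333).mp Cfsg.Agent.Lib.Helper28.TCFi24M3.fin30 v (by omega) (by omega)
  rcases Nat.lt_or_ge v 266656 with h31 | h31
  · exact (Data.finalRange_iff data 258323 8333).mp Cfsg.Agent.Lib.Helper28.TCFi24M3.fin31 v (by omega) (by omega)
  rcases Nat.lt_or_ge v 274989 with h32 | h32
  · exact (Data.finalRange_iff data 266656 8333).mp Cfsg.Agent.Lib.Helper28.TCFi24M3.fin32 v (by omega) (by omega)
  rcases Nat.lt_or_ge v 283322 with h33 | h33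
  · exact (Data.finalRange_iff data 274989 8333).mp Cfsg.Agent.Lib.Helper28.TCFi24M3.fin33 v (by omega) (by omega)
  rcases Nat.lt_or_ge v 291655 with h34 | h34
  · exact (Data.finalRange_iff data 283322 8333).mp Cfsg.Agent.Lib.Helper28.TCFi24M3.fin34 v (by omega) (by omega)
  rcases Nat.lt_or_ge v 299988 with h35 | h35
  · exact (Data.finalRange_iff data 291655 8333).mp Cfsg.Agent.Lib.Helper28.TCFi24M3.fin35 v (by omega) (by omega)
  rcases Nat.lt_or_ge v 308321 with h36 | h36
  · exact (Data.finalRange_iff data 299988 8333).mp Cfsg.Agent.Lib.Helper28.TCFi24M3.fin36 v (by omega) (by omega)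
  rcases Nat.lt_or_ge v 316654 with h37 | h37
  · exact (Data.finalRange_iff data 308321 8333).mp Cfsg.Agent.Lib.Helper28.TCFi24M3.fin37 v (by omega) (by omega)
  rcases Nat.lt_or_ge v 324987 with h38 | h38
  · exact (Data.finalRange_iff data 316654 8333).mp Cfsg.Agent.Lib.Helper28.TCFi24M3.fin38 v (by omega) (by omega)
  rcases Nat.lt_or_ge v 333320 with h39 | h39
  · exact (Data.finalRange_iff data 324987 8333).mp Cfsg.Agent.Lib.Helper28.TCFi24M3.fin39 v (by omega) (by omega)
  rcases Nat.lt_or_ge v 341653 with h40 | h40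
  · exact (Data.finalRange_iff data 333320 8333).mp Cfsg.Agent.Lib.Helper28.TCFi24M4.fin40 v (by omega) (by omega)
  rcases Nat.lt_or_ge v 349986 with h41 | h41
  · exact (Data.finalRange_iff data 341653 8333).mp Cfsg.Agent.Lib.Helper28.TCFi24M4.fin41 v (by omega) (by omega)
  rcases Nat.lt_or_ge v 358319 with h42 | h42
  · exact (Data.finalRange_iff data 349986 8333).mp Cfsg.Agent.Lib.Helper28.TCFi24M4.fin42 v (by omega) (by omega)
  rcases Nat.lt_or_ge v 366652 with h43 | h43
  · exact (Data.finalRange_iff data 358319 8333).mp Cfsg.Agent.Lib.Helper28.TCFi24M4.fin43 v (by omega) (by omega)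
  rcases Nat.lt_or_ge v 374985 with h44 | h44
  · exact (Data.finalRange_iff data 366652 8333).mp Cfsg.Agent.Lib.Helper28.TCFi24M4.fin44 v (by omega) (by omega)
  rcases Nat.lt_or_ge v 383318 with h45 | h45
  · exact (Data.finalRange_iff data 374985 8333).mp Cfsg.Agent.Lib.Helper28.TCFi24M4.fin45 v (by omega) (by omega)
  rcases Nat.lt_or_ge v 391651 with h46 | h46
  · exact (Data.finalRange_iff data 383318 8333).mp Cfsg.Agent.Lib.Helper28.TCFi24M4.fin46 v (by omega) (by omega)
  exact (Data.finalRange_iff data 391651 2803).mp Cfsg.Agent.Lib.Helper28.TCFi24M4.fin47 v (by omega) (by omega)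

theorem hfin : data.finalOK = true := Data.finalOK_of_rows data hlive0 (by decide) hrows

theorem pc0 : Data.countFrom data 0 40000 = 28214 := Cfsg.Agent.Lib.Helper28.TCFi24M4.cnt0
theorem pc1 : Data.countFrom data 0 80000 = 46767 := Data.countFrom_step data pc0 Cfsg.Agent.Lib.Helper28.TCFi24M4.cnt1 (by norm_num) (by norm_num)
theorem pc2 : Data.countFrom data 0 120000 = 61818 := Data.countFrom_step data pc1 Cfsg.Agent.Lib.Helper28.TCFi24M5.cnt2 (by norm_num) (by norm_num)
theorem pc3 : Data.countFrom data 0 160000 = 74126 := Data.countFrom_step data pc2 Cfsg.Agent.Lib.Helper28.TCFi24M5.cnt3 (by norm_num) (by norm_num)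
theorem pc4 : Data.countFrom data 0 200000 = 112511 := Data.countFrom_step data pc3 Cfsg.Agent.Lib.Helper28.TCFi24M5.cnt4 (by norm_num) (by norm_num)
theorem pc5 : Data.countFrom data 0 240000 = 152501 := Data.countFrom_step data pc4 Cfsg.Agent.Lib.Helper28.TCFi24M5.cnt5 (by norm_num) (by norm_num)
theorem pc6 : Data.countFrom data 0 280000 = 192482 := Data.countFrom_step data pc5 Cfsg.Agent.Lib.Helper28.TCFi24M5.cnt6 (by norm_num) (by norm_num)
theorem pc7 : Data.countFrom data 0 320000 = 232482 := Data.countFrom_step data pc6 Cfsg.Agent.Lib.Helper28.TCFi24M5.cnt7 (by norm_num) (by norm_num)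
theorem pc8 : Data.countFrom data 0 360000 = 272482 := Data.countFrom_step data pc7 Cfsg.Agent.Lib.Helper28.TCFi24M5.cnt8 (by norm_num) (by norm_num)
theorem pc9 : Data.countFrom data 0 394454 = 306936 := Data.countFrom_step data pc8 Cfsg.Agent.Lib.Helper28.TCFi24M5.cnt9 (by norm_num) (by norm_num)

theorem hcount : data.countLive = table.n := by
  rw [Data.countLive_eq]
  exact pc9

theorem hpermAll : ∀ p, p < table.n → Table.permRow table p = true := by
  intro p hp
  have hp' : p < 306936 := hp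
  rcases Nat.lt_or_ge p 12500 with h0 | h0
  · exact (Table.permRange_iff table 0 12500).mp Cfsg.Agent.Lib.Helper28.TCFi24M5.prm0 p (by omega) (by omega)
  rcases Nat.lt_or_ge p 25000 with h1 | h1
  · exact (Table.permRange_iff table 12500 12500).mp Cfsg.Agent.Lib.Helper28.TCFi24M5.prm1 p (by omega) (by omega)
  rcases Nat.lt_or_ge p 37500 with h2 | h2
  · exact (Table.permRange_iff table 25000 12500).mp Cfsg.Agent.Lib.Helper28.TCFi24M6.prm2 p (by omega) (by omega)
  rcases Nat.lt_or_ge p 50000 with h3 | h3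
  · exact (Table.permRange_iff table 37500 12500).mp Cfsg.Agent.Lib.Helper28.TCFi24M6.prm3 p (by omega) (by omega)
  rcases Nat.lt_or_ge p 62500 with h4 | h4
  · exact (Table.permRange_iff table 50000 12500).mp Cfsg.Agent.Lib.Helper28.TCFi24M6.prm4 p (by omega) (by omega)
  rcases Nat.lt_or_ge p 75000 with h5 | h5
  · exact (Table.permRange_iff table 62500 12500).mp Cfsg.Agent.Lib.Helper28.TCFi24M6.prm5 p (by omega) (by omega)
  rcases Nat.lt_or_ge p 87500 with h6 | h6
  · exact (Table.permRange_iff table 75000 12500).mp Cfsg.Agent.Lib.Helper28.TCFi24M6.prm6 p (by omega) (by omega)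
  rcases Nat.lt_or_ge p 100000 with h7 | h7
  · exact (Table.permRange_iff table 87500 12500).mp Cfsg.Agent.Lib.Helper28.TCFi24M6.prm7 p (by omega) (by omega)
  rcases Nat.lt_or_ge p 112500 with h8 | h8
  · exact (Table.permRange_iff table 100000 12500).mp Cfsg.Agent.Lib.Helper28.TCFi24M6.prm8 p (by omega) (by omega)
  rcases Nat.lt_or_ge p 125000 with h9 | h9
  · exact (Table.permRange_iff table 112500 12500).mp Cfsg.Agent.Lib.Helper28.TCFi24M6.prm9 p (by omega) (by omega)
  rcases Nat.lt_or_ge p 137500 with h10 | h10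
  · exact (Table.permRange_iff table 125000 12500).mp Cfsg.Agent.Lib.Helper28.TCFi24M6.prm10 p (by omega) (by omega)
  rcases Nat.lt_or_ge p 150000 with h11 | h11
  · exact (Table.permRange_iff table 137500 12500).mp Cfsg.Agent.Lib.Helper28.TCFi24M6.prm11 p (by omega) (by omega)
  rcases Nat.lt_or_ge p 162500 with h12 | h12
  · exact (Table.permRange_iff table 150000 12500).mp Cfsg.Agent.Lib.Helper28.TCFi24M7.prm12 p (by omega) (by omega)
  rcases Nat.lt_or_ge p 175000 with h13 | h13
  · exact (Table.permRange_iff table 162500 12500).mp Cfsg.Agent.Lib.Helper28.TCFi24M7.prm13 p (by omega) (by omega)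
  rcases Nat.lt_or_ge p 187500 with h14 | h14
  · exact (Table.permRange_iff table 175000 12500).mp Cfsg.Agent.Lib.Helper28.TCFi24M7.prm14 p (by omega) (by omega)
  rcases Nat.lt_or_ge p 200000 with h15 | h15
  · exact (Table.permRange_iff table 187500 12500).mp Cfsg.Agent.Lib.Helper28.TCFi24M7.prm15 p (by omega) (by omega)
  rcases Nat.lt_or_ge p 212500 with h16 | h16
  · exact (Table.permRange_iff table 200000 12500).mp Cfsg.Agent.Lib.Helper28.TCFi24M7.prm16 p (by omega) (by omega)
  rcases Nat.lt_or_ge p 225000 with h17 | h17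
  · exact (Table.permRange_iff table 212500 12500).mp Cfsg.Agent.Lib.Helper28.TCFi24M7.prm17 p (by omega) (by omega)
  rcases Nat.lt_or_ge p 237500 with h18 | h18
  · exact (Table.permRange_iff table 225000 12500).mp Cfsg.Agent.Lib.Helper28.TCFi24M7.prm18 p (by omega) (by omega)
  rcases Nat.lt_or_ge p 250000 with h19 | h19
  · exact (Table.permRange_iff table 237500 12500).mp Cfsg.Agent.Lib.Helper28.TCFi24M7.prm19 p (by omega) (by omega)
  rcases Nat.lt_or_ge p 262500 with h20 | h20
  · exact (Table.permRange_iff table 250000 12500).mp Cfsg.Agent.Lib.Helper28.TCFi24M7.prm20 p (by omega) (by omega)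
  rcases Nat.lt_or_ge p 275000 with h21 | h21
  · exact (Table.permRange_iff table 262500 12500).mp Cfsg.Agent.Lib.Helper28.TCFi24M7.prm21 p (by omega) (by omega)
  rcases Nat.lt_or_ge p 287500 with h22 | h22
  · exact (Table.permRange_iff table 275000 12500).mp Cfsg.Agent.Lib.Helper28.TCFi24M8.prm22 p (by omega) (by omega)
  rcases Nat.lt_or_ge p 300000 with h23 | h23
  · exact (Table.permRange_iff table 287500 12500).mp Cfsg.Agent.Lib.Helper28.TCFi24M8.prm23 p (by omega) (by omega)
  exact (Table.permRange_iff table 300000 6936).mp Cfsg.Agent.Lib.Helper28.TCFi24M8.prm24 p (by omega) (by omega)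

theorem hT : table.OK := Table.ok_of_rows table hinvOK hpermAll

theorem htreeAll : ∀ i, i < Nat.pred table.n → Table.treeRow table i = true := by
  intro p hp
  have hp' : p < 306935 := hp
  rcases Nat.lt_or_ge p 100000 with h0 | h0
  · exact (Table.treeRange_iff table 0 100000).mp Cfsg.Agent.Lib.Helper28.TCFi24M8.tre0 p (by omega) (by omega)
  rcases Nat.lt_or_ge p 200000 with h1 | h1
  · exact (Table.treeRange_iff table 100000 100000).mp Cfsg.Agent.Lib.Helper28.TCFi24M8.tre1 p (by omega) (by omega)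
  rcases Nat.lt_or_ge p 300000 with h2 | h2
  · exact (Table.treeRange_iff table 200000 100000).mp Cfsg.Agent.Lib.Helper28.TCFi24M8.tre2 p (by omega) (by omega)
  exact (Table.treeRange_iff table 300000 6935).mp Cfsg.Agent.Lib.Helper28.TCFi24M8.tre3 p (by omega) (by omega)

theorem htree : table.treeOK = true := Table.treeOK_of_rows table htreeAll

theorem hchkT : ∀ P ∈ chkPaths, ∀ p, p < table.n → table.walkT P p = p := by
  intro P hm p hp
  have hp' : p < 306936 := hp
  rcases Nat.lt_or_ge p 510 with h0 | h0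
  · exact (Table.relOK_iff chkPaths 0 510).mp Cfsg.Agent.Lib.Helper28.TCFi24L0.rel0 p (by omega) (by omega) _ hm
  rcases Nat.lt_or_ge p 1020 with h1 | h1
  · exact (Table.relOK_iff chkPaths 510 510).mp Cfsg.Agent.Lib.Helper28.TCFi24L0.rel1 p (by omega) (by omega) _ hm
  rcases Nat.lt_or_ge p 1530 with h2 | h2
  · exact (Table.relOK_iff chkPaths 1020 510).mp Cfsg.Agent.Lib.Helper28.TCFi24L0.rel2 p (by omega) (by omega) _ hm
  rcases Nat.lt_or_ge p 2040 with h3 | h3
  · exact (Table.relOK_iff chkPaths 1530 510).mp Cfsg.Agent.Lib.Helper28.TCFi24L0.rel3 p (by omega) (by omega) _ hm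
  rcases Nat.lt_or_ge p 2550 with h4 | h4
  · exact (Table.relOK_iff chkPaths 2040 510).mp Cfsg.Agent.Lib.Helper28.TCFi24L0.rel4 p (by omega) (by omega) _ hm
  rcases Nat.lt_or_ge p 3060 with h5 | h5
  · exact (Table.relOK_iff chkPaths 2550 510).mp Cfsg.Agent.Lib.Helper28.TCFi24L0.rel5 p (by omega) (by omega) _ hm
  rcases Nat.lt_or_ge p 3570 with h6 | h6
  · exact (Table.relOK_iff chkPaths 3060 510).mp Cfsg.Agent.Lib.Helper28.TCFi24L0.rel6 p (by omega) (by omega) _ hm
  rcases Nat.lt_or_ge p 4080 with h7 | h7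
  · exact (Table.relOK_iff chkPaths 3570 510).mp Cfsg.Agent.Lib.Helper28.TCFi24L0.rel7 p (by omega) (by omega) _ hm
  rcases Nat.lt_or_ge p 4590 with h8 | h8
  · exact (Table.relOK_iff chkPaths 4080 510).mp Cfsg.Agent.Lib.Helper28.TCFi24L0.rel8 p (by omega) (by omega) _ hm
  rcases Nat.lt_or_ge p 5100 with h9 | h9
  · exact (Table.relOK_iff chkPaths 4590 510).mp Cfsg.Agent.Lib.Helper28.TCFi24L0.rel9 p (by omega) (by omega) _ hm
  rcases Nat.lt_or_ge p 5610 with h10 | h10
  · exact (Table.relOK_iff chkPaths 5100 510).mp Cfsg.Agent.Lib.Helper28.TCFi24L0.rel10 p (by omega) (by omega) _ hm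
  rcases Nat.lt_or_ge p 6120 with h11 | h11
  · exact (Table.relOK_iff chkPaths 5610 510).mp Cfsg.Agent.Lib.Helper28.TCFi24L1.rel11 p (by omega) (by omega) _ hm
  rcases Nat.lt_or_ge p 6630 with h12 | h12
  · exact (Table.relOK_iff chkPaths 6120 510).mp Cfsg.Agent.Lib.Helper28.TCFi24L1.rel12 p (by omega) (by omega) _ hm
  rcases Nat.lt_or_ge p 7140 with h13 | h13
  · exact (Table.relOK_iff chkPaths 6630 510).mp Cfsg.Agent.Lib.Helper28.TCFi24L1.rel13 p (by omega) (by omega) _ hm
  rcases Nat.lt_or_ge p 7650 with h14 | h14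
  · exact (Table.relOK_iff chkPaths 7140 510).mp Cfsg.Agent.Lib.Helper28.TCFi24L1.rel14 p (by omega) (by omega) _ hm
  rcases Nat.lt_or_ge p 8160 with h15 | h15
  · exact (Table.relOK_iff chkPaths 7650 510).mp Cfsg.Agent.Lib.Helper28.TCFi24L1.rel15 p (by omega) (by omega) _ hm
  rcases Nat.lt_or_ge p 8670 with h16 | h16
  · exact (Table.relOK_iff chkPaths 8160 510).mp Cfsg.Agent.Lib.Helper28.TCFi24L1.rel16 p (by omega) (by omega) _ hm
  rcases Nat.lt_or_ge p 9180 with h17 | h17
  · exact (Table.relOK_iff chkPaths 8670 510).mp Cfsg.Agent.Lib.Helper28.TCFi24L1.rel17 p (by omega) (by omega) _ hm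
  rcases Nat.lt_or_ge p 9690 with h18 | h18
  · exact (Table.relOK_iff chkPaths 9180 510).mp Cfsg.Agent.Lib.Helper28.TCFi24L1.rel18 p (by omega) (by omega) _ hm
  rcases Nat.lt_or_ge p 10200 with h19 | h19
  · exact (Table.relOK_iff chkPaths 9690 510).mp Cfsg.Agent.Lib.Helper28.TCFi24L1.rel19 p (by omega) (by omega) _ hm
  rcases Nat.lt_or_ge p 10710 with h20 | h20
  · exact (Table.relOK_iff chkPaths 10200 510).mp Cfsg.Agent.Lib.Helper28.TCFi24L1.rel20 p (by omega) (by omega) _ hm
  rcases Nat.lt_or_ge p 11220 with h21 | h21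
  · exact (Table.relOK_iff chkPaths 10710 510).mp Cfsg.Agent.Lib.Helper28.TCFi24L1.rel21 p (by omega) (by omega) _ hm
  rcases Nat.lt_or_ge p 11730 with h22 | h22
  · exact (Table.relOK_iff chkPaths 11220 510).mp Cfsg.Agent.Lib.Helper28.TCFi24L2.rel22 p (by omega) (by omega) _ hm
  rcases Nat.lt_or_ge p 12240 with h23 | h23
  · exact (Table.relOK_iff chkPaths 11730 510).mp Cfsg.Agent.Lib.Helper28.TCFi24L2.rel23 p (by omega) (by omega) _ hm
  rcases Nat.lt_or_ge p 12750 with h24 | h24
  · exact (Table.relOK_iff chkPaths 12240 510).mp Cfsg.Agent.Lib.Helper28.TCFi24L2.rel24 p (by omega) (by omega) _ hm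
  rcases Nat.lt_or_ge p 13260 with h25 | h25
  · exact (Table.relOK_iff chkPaths 12750 510).mp Cfsg.Agent.Lib.Helper28.TCFi24L2.rel25 p (by omega) (by omega) _ hm
  rcases Nat.lt_or_ge p 13770 with h26 | h26
  · exact (Table.relOK_iff chkPaths 13260 510).mp Cfsg.Agent.Lib.Helper28.TCFi24L2.rel26 p (by omega) (by omega) _ hm
  rcases Nat.lt_or_ge p 14280 with h27 | h27
  · exact (Table.relOK_iff chkPaths 13770 510).mp Cfsg.Agent.Lib.Helper28.TCFi24L2.rel27 p (by omega) (by omega) _ hm
  rcases Nat.lt_or_ge p 14790 with h28 | h28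
  · exact (Table.relOK_iff chkPaths 14280 510).mp Cfsg.Agent.Lib.Helper28.TCFi24L2.rel28 p (by omega) (by omega) _ hm
  rcases Nat.lt_or_ge p 15300 with h29 | h29
  · exact (Table.relOK_iff chkPaths 14790 510).mp Cfsg.Agent.Lib.Helper28.TCFi24L2.rel29 p (by omega) (by omega) _ hm
  rcases Nat.lt_or_ge p 15810 with h30 | h30
  · exact (Table.relOK_iff chkPaths 15300 510).mp Cfsg.Agent.Lib.Helper28.TCFi24L2.rel30 p (by omega) (by omega) _ hm
  rcases Nat.lt_or_ge p 16320 with h31 | h31
  · exact (Table.relOK_iff chkPaths 15810 510).mp Cfsg.Agent.Lib.Helper28.TCFi24L2.rel31 p (by omega) (by omega) _ hm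
  rcases Nat.lt_or_ge p 16830 with h32 | h32
  · exact (Table.relOK_iff chkPaths 16320 510).mp Cfsg.Agent.Lib.Helper28.TCFi24L2.rel32 p (by omega) (by omega) _ hm
  rcases Nat.lt_or_ge p 17340 with h33 | h33
  · exact (Table.relOK_iff chkPaths 16830 510).mp Cfsg.Agent.Lib.Helper28.TCFi24L3.rel33 p (by omega) (by omega) _ hm
  rcases Nat.lt_or_ge p 17850 with h34 | h34
  · exact (Table.relOK_iff chkPaths 17340 510).mp Cfsg.Agent.Lib.Helper28.TCFi24L3.rel34 p (by omega) (by omega) _ hm
  rcases Nat.lt_or_ge p 18360 with h35 | h35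
  · exact (Table.relOK_iff chkPaths 17850 510).mp Cfsg.Agent.Lib.Helper28.TCFi24L3.rel35 p (by omega) (by omega) _ hm
  rcases Nat.lt_or_ge p 18870 with h36 | h36
  · exact (Table.relOK_iff chkPaths 18360 510).mp Cfsg.Agent.Lib.Helper28.TCFi24L3.rel36 p (by omega) (by omega) _ hm
  rcases Nat.lt_or_ge p 19380 with h37 | h37
  · exact (Table.relOK_iff chkPaths 18870 510).mp Cfsg.Agent.Lib.Helper28.TCFi24L3.rel37 p (by omega) (by omega) _ hm
  rcases Nat.lt_or_ge p 19890 with h38 | h38
  · exact (Table.relOK_iff chkPaths 19380 510).mp Cfsg.Agent.Lib.Helper28.TCFi24L3.rel38 p (by omega) (by omega) _ hm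
  rcases Nat.lt_or_ge p 20400 with h39 | h39
  · exact (Table.relOK_iff chkPaths 19890 510).mp Cfsg.Agent.Lib.Helper28.TCFi24L3.rel39 p (by omega) (by omega) _ hm
  rcases Nat.lt_or_ge p 20910 with h40 | h40
  · exact (Table.relOK_iff chkPaths 20400 510).mp Cfsg.Agent.Lib.Helper28.TCFi24L3.rel40 p (by omega) (by omega) _ hm
  rcases Nat.lt_or_ge p 21420 with h41 | h41
  · exact (Table.relOK_iff chkPaths 20910 510).mp Cfsg.Agent.Lib.Helper28.TCFi24L3.rel41 p (by omega) (by omega) _ hm
  rcases Nat.lt_or_ge p 21930 with h42 | h42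
  · exact (Table.relOK_iff chkPaths 21420 510).mp Cfsg.Agent.Lib.Helper28.TCFi24L3.rel42 p (by omega) (by omega) _ hm
  rcases Nat.lt_or_ge p 22440 with h43 | h43
  · exact (Table.relOK_iff chkPaths 21930 510).mp Cfsg.Agent.Lib.Helper28.TCFi24L3.rel43 p (by omega) (by omega) _ hm
  rcases Nat.lt_or_ge p 22950 with h44 | h44
  · exact (Table.relOK_iff chkPaths 22440 510).mp Cfsg.Agent.Lib.Helper28.TCFi24L4.rel44 p (by omega) (by omega) _ hm
  rcases Nat.lt_or_ge p 23460 with h45 | h45
  · exact (Table.relOK_iff chkPaths 22950 510).mp Cfsg.Agent.Lib.Helper28.TCFi24L4.rel45 p (by omega) (by omega) _ hm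
  rcases Nat.lt_or_ge p 23970 with h46 | h46
  · exact (Table.relOK_iff chkPaths 23460 510).mp Cfsg.Agent.Lib.Helper28.TCFi24L4.rel46 p (by omega) (by omega) _ hm
  rcases Nat.lt_or_ge p 24480 with h47 | h47
  · exact (Table.relOK_iff chkPaths 23970 510).mp Cfsg.Agent.Lib.Helper28.TCFi24L4.rel47 p (by omega) (by omega) _ hm
  rcases Nat.lt_or_ge p 24990 with h48 | h48
  · exact (Table.relOK_iff chkPaths 24480 510).mp Cfsg.Agent.Lib.Helper28.TCFi24L4.rel48 p (by omega) (by omega) _ hm
  rcases Nat.lt_or_ge p 25500 with h49 | h49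
  · exact (Table.relOK_iff chkPaths 24990 510).mp Cfsg.Agent.Lib.Helper28.TCFi24L4.rel49 p (by omega) (by omega) _ hm
  rcases Nat.lt_or_ge p 26010 with h50 | h50
  · exact (Table.relOK_iff chkPaths 25500 510).mp Cfsg.Agent.Lib.Helper28.TCFi24L4.rel50 p (by omega) (by omega) _ hm
  rcases Nat.lt_or_ge p 26520 with h51 | h51
  · exact (Table.relOK_iff chkPaths 26010 510).mp Cfsg.Agent.Lib.Helper28.TCFi24L4.rel51 p (by omega) (by omega) _ hm
  rcases Nat.lt_or_ge p 27030 with h52 | h52
  · exact (Table.relOK_iff chkPaths 26520 510).mp Cfsg.Agent.Lib.Helper28.TCFi24L4.rel52 p (by omega) (by omega) _ hm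
  rcases Nat.lt_or_ge p 27540 with h53 | h53
  · exact (Table.relOK_iff chkPaths 27030 510).mp Cfsg.Agent.Lib.Helper28.TCFi24L4.rel53 p (by omega) (by omega) _ hm
  rcases Nat.lt_or_ge p 28050 with h54 | h54
  · exact (Table.relOK_iff chkPaths 27540 510).mp Cfsg.Agent.Lib.Helper28.TCFi24L4.rel54 p (by omega) (by omega) _ hm
  rcases Nat.lt_or_ge p 28560 with h55 | h55
  · exact (Table.relOK_iff chkPaths 28050 510).mp Cfsg.Agent.Lib.Helper28.TCFi24L5.rel55 p (by omega) (by omega) _ hm
  rcases Nat.lt_or_ge p 29070 with h56 | h56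
  · exact (Table.relOK_iff chkPaths 28560 510).mp Cfsg.Agent.Lib.Helper28.TCFi24L5.rel56 p (by omega) (by omega) _ hm
  rcases Nat.lt_or_ge p 29580 with h57 | h57
  · exact (Table.relOK_iff chkPaths 29070 510).mp Cfsg.Agent.Lib.Helper28.TCFi24L5.rel57 p (by omega) (by omega) _ hm
  rcases Nat.lt_or_ge p 30090 with h58 | h58
  · exact (Table.relOK_iff chkPaths 29580 510).mp Cfsg.Agent.Lib.Helper28.TCFi24L5.rel58 p (by omega) (by omega) _ hm
  rcases Nat.lt_or_ge p 30600 with h59 | h59
  · exact (Table.relOK_iff chkPaths 30090 510).mp Cfsg.Agent.Lib.Helper28.TCFi24L5.rel59 p (by omega) (by omega) _ hm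
  rcases Nat.lt_or_ge p 31110 with h60 | h60
  · exact (Table.relOK_iff chkPaths 30600 510).mp Cfsg.Agent.Lib.Helper28.TCFi24L5.rel60 p (by omega) (by omega) _ hm
  rcases Nat.lt_or_ge p 31620 with h61 | h61
  · exact (Table.relOK_iff chkPaths 31110 510).mp Cfsg.Agent.Lib.Helper28.TCFi24L5.rel61 p (by omega) (by omega) _ hm
  rcases Nat.lt_or_ge p 32130 with h62 | h62
  · exact (Table.relOK_iff chkPaths 31620 510).mp Cfsg.Agent.Lib.Helper28.TCFi24L5.rel62 p (by omega) (by omega) _ hm
  rcases Nat.lt_or_ge p 32640 with h63 | h63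
  · exact (Table.relOK_iff chkPaths 32130 510).mp Cfsg.Agent.Lib.Helper28.TCFi24L5.rel63 p (by omega) (by omega) _ hm
  rcases Nat.lt_or_ge p 33150 with h64 | h64
  · exact (Table.relOK_iff chkPaths 32640 510).mp Cfsg.Agent.Lib.Helper28.TCFi24L5.rel64 p (by omega) (by omega) _ hm
  rcases Nat.lt_or_ge p 33660 with h65 | h65
  · exact (Table.relOK_iff chkPaths 33150 510).mp Cfsg.Agent.Lib.Helper28.TCFi24L5.rel65 p (by omega) (by omega) _ hm
  rcases Nat.lt_or_ge p 34170 with h66 | h66
  · exact (Table.relOK_iff chkPaths 33660 510).mp Cfsg.Agent.Lib.Helper28.TCFi24L6.rel66 p (by omega) (by omega) _ hm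
  rcases Nat.lt_or_ge p 34680 with h67 | h67
  · exact (Table.relOK_iff chkPaths 34170 510).mp Cfsg.Agent.Lib.Helper28.TCFi24L6.rel67 p (by omega) (by omega) _ hm
  rcases Nat.lt_or_ge p 35190 with h68 | h68
  · exact (Table.relOK_iff chkPaths 34680 510).mp Cfsg.Agent.Lib.Helper28.TCFi24L6.rel68 p (by omega) (by omega) _ hm
  rcases Nat.lt_or_ge p 35700 with h69 | h69
  · exact (Table.relOK_iff chkPaths 35190 510).mp Cfsg.Agent.Lib.Helper28.TCFi24L6.rel69 p (by omega) (by omega) _ hm
  rcases Nat.lt_or_ge p 36210 with h70 | h70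
  · exact (Table.relOK_iff chkPaths 35700 510).mp Cfsg.Agent.Lib.Helper28.TCFi24L6.rel70 p (by omega) (by omega) _ hm
  rcases Nat.lt_or_ge p 36720 with h71 | h71
  · exact (Table.relOK_iff chkPaths 36210 510).mp Cfsg.Agent.Lib.Helper28.TCFi24L6.rel71 p (by omega) (by omega) _ hm
  rcases Nat.lt_or_ge p 37230 with h72 | h72
  · exact (Table.relOK_iff chkPaths 36720 510).mp Cfsg.Agent.Lib.Helper28.TCFi24L6.rel72 p (by omega) (by omega) _ hm
  rcases Nat.lt_or_ge p 37740 with h73 | h73
  · exact (Table.relOK_iff chkPaths 37230 510).mp Cfsg.Agent.Lib.Helper28.TCFi24L6.rel73 p (by omega) (by omega) _ hm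
  rcases Nat.lt_or_ge p 38250 with h74 | h74
  · exact (Table.relOK_iff chkPaths 37740 510).mp Cfsg.Agent.Lib.Helper28.TCFi24L6.rel74 p (by omega) (by omega) _ hm
  rcases Nat.lt_or_ge p 38760 with h75 | h75
  · exact (Table.relOK_iff chkPaths 38250 510).mp Cfsg.Agent.Lib.Helper28.TCFi24L6.rel75 p (by omega) (by omega) _ hm
  rcases Nat.lt_or_ge p 39270 with h76 | h76
  · exact (Table.relOK_iff chkPaths 38760 510).mp Cfsg.Agent.Lib.Helper28.TCFi24L6.rel76 p (by omega) (by omega) _ hm
  rcases Nat.lt_or_ge p 39780 with h77 | h77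
  · exact (Table.relOK_iff chkPaths 39270 510).mp Cfsg.Agent.Lib.Helper28.TCFi24L7.rel77 p (by omega) (by omega) _ hm
  rcases Nat.lt_or_ge p 40290 with h78 | h78
  · exact (Table.relOK_iff chkPaths 39780 510).mp Cfsg.Agent.Lib.Helper28.TCFi24L7.rel78 p (by omega) (by omega) _ hm
  rcases Nat.lt_or_ge p 40800 with h79 | h79
  · exact (Table.relOK_iff chkPaths 40290 510).mp Cfsg.Agent.Lib.Helper28.TCFi24L7.rel79 p (by omega) (by omega) _ hm
  rcases Nat.lt_or_ge p 41310 with h80 | h80
  · exact (Table.relOK_iff chkPaths 40800 510).mp Cfsg.Agent.Lib.Helper28.TCFi24L7.rel80 p (by omega) (by omega) _ hm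
  rcases Nat.lt_or_ge p 41820 with h81 | h81
  · exact (Table.relOK_iff chkPaths 41310 510).mp Cfsg.Agent.Lib.Helper28.TCFi24L7.rel81 p (by omega) (by omega) _ hm
  rcases Nat.lt_or_ge p 42330 with h82 | h82
  · exact (Table.relOK_iff chkPaths 41820 510).mp Cfsg.Agent.Lib.Helper28.TCFi24L7.rel82 p (by omega) (by omega) _ hm
  rcases Nat.lt_or_ge p 42840 with h83 | h83
  · exact (Table.relOK_iff chkPaths 42330 510).mp Cfsg.Agent.Lib.Helper28.TCFi24L7.rel83 p (by omega) (by omega) _ hm
  rcases Nat.lt_or_ge p 43350 with h84 | h84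
  · exact (Table.relOK_iff chkPaths 42840 510).mp Cfsg.Agent.Lib.Helper28.TCFi24L7.rel84 p (by omega) (by omega) _ hm
  rcases Nat.lt_or_ge p 43860 with h85 | h85
  · exact (Table.relOK_iff chkPaths 43350 510).mp Cfsg.Agent.Lib.Helper28.TCFi24L7.rel85 p (by omega) (by omega) _ hm
  rcases Nat.lt_or_ge p 44370 with h86 | h86
  · exact (Table.relOK_iff chkPaths 43860 510).mp Cfsg.Agent.Lib.Helper28.TCFi24L7.rel86 p (by omega) (by omega) _ hm
  rcases Nat.lt_or_ge p 44880 with h87 | h87
  · exact (Table.relOK_iff chkPaths 44370 510).mp Cfsg.Agent.Lib.Helper28.TCFi24L7.rel87 p (by omega) (by omega) _ hm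
  rcases Nat.lt_or_ge p 45390 with h88 | h88
  · exact (Table.relOK_iff chkPaths 44880 510).mp Cfsg.Agent.Lib.Helper28.TCFi24L8.rel88 p (by omega) (by omega) _ hm
  rcases Nat.lt_or_ge p 45900 with h89 | h89
  · exact (Table.relOK_iff chkPaths 45390 510).mp Cfsg.Agent.Lib.Helper28.TCFi24L8.rel89 p (by omega) (by omega) _ hm
  rcases Nat.lt_or_ge p 46410 with h90 | h90
  · exact (Table.relOK_iff chkPaths 45900 510).mp Cfsg.Agent.Lib.Helper28.TCFi24L8.rel90 p (by omega) (by omega) _ hm
  rcases Nat.lt_or_ge p 46920 with h91 | h91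
  · exact (Table.relOK_iff chkPaths 46410 510).mp Cfsg.Agent.Lib.Helper28.TCFi24L8.rel91 p (by omega) (by omega) _ hm
  rcases Nat.lt_or_ge p 47430 with h92 | h92
  · exact (Table.relOK_iff chkPaths 46920 510).mp Cfsg.Agent.Lib.Helper28.TCFi24L8.rel92 p (by omega) (by omega) _ hm
  rcases Nat.lt_or_ge p 47940 with h93 | h93
  · exact (Table.relOK_iff chkPaths 47430 510).mp Cfsg.Agent.Lib.Helper28.TCFi24L8.rel93 p (by omega) (by omega) _ hm
  rcases Nat.lt_or_ge p 48450 with h94 | h94
  · exact (Table.relOK_iff chkPaths 47940 510).mp Cfsg.Agent.Lib.Helper28.TCFi24L8.rel94 p (by omega) (by omega) _ hm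
  rcases Nat.lt_or_ge p 48960 with h95 | h95
  · exact (Table.relOK_iff chkPaths 48450 510).mp Cfsg.Agent.Lib.Helper28.TCFi24L8.rel95 p (by omega) (by omega) _ hm
  rcases Nat.lt_or_ge p 49470 with h96 | h96
  · exact (Table.relOK_iff chkPaths 48960 510).mp Cfsg.Agent.Lib.Helper28.TCFi24L8.rel96 p (by omega) (by omega) _ hm
  rcases Nat.lt_or_ge p 49980 with h97 | h97
  · exact (Table.relOK_iff chkPaths 49470 510).mp Cfsg.Agent.Lib.Helper28.TCFi24L8.rel97 p (by omega) (by omega) _ hm
  rcases Nat.lt_or_ge p 50490 with h98 | h98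
  · exact (Table.relOK_iff chkPaths 49980 510).mp Cfsg.Agent.Lib.Helper28.TCFi24L8.rel98 p (by omega) (by omega) _ hm
  rcases Nat.lt_or_ge p 51000 with h99 | h99
  · exact (Table.relOK_iff chkPaths 50490 510).mp Cfsg.Agent.Lib.Helper28.TCFi24L9.rel99 p (by omega) (by omega) _ hm
  rcases Nat.lt_or_ge p 51510 with h100 | h100
  · exact (Table.relOK_iff chkPaths 51000 510).mp Cfsg.Agent.Lib.Helper28.TCFi24L9.rel100 p (by omega) (by omega) _ hm
  rcases Nat.lt_or_ge p 52020 with h101 | h101
  · exact (Table.relOK_iff chkPaths 51510 510).mp Cfsg.Agent.Lib.Helper28.TCFi24L9.rel101 p (by omega) (by omega) _ hm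
  rcases Nat.lt_or_ge p 52530 with h102 | h102
  · exact (Table.relOK_iff chkPaths 52020 510).mp Cfsg.Agent.Lib.Helper28.TCFi24L9.rel102 p (by omega) (by omega) _ hm
  rcases Nat.lt_or_ge p 53040 with h103 | h103
  · exact (Table.relOK_iff chkPaths 52530 510).mp Cfsg.Agent.Lib.Helper28.TCFi24L9.rel103 p (by omega) (by omega) _ hm
  rcases Nat.lt_or_ge p 53550 with h104 | h104
  · exact (Table.relOK_iff chkPaths 53040 510).mp Cfsg.Agent.Lib.Helper28.TCFi24L9.rel104 p (by omega) (by omega) _ hm
  rcases Nat.lt_or_ge p 54060 with h105 | h105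
  · exact (Table.relOK_iff chkPaths 53550 510).mp Cfsg.Agent.Lib.Helper28.TCFi24L9.rel105 p (by omega) (by omega) _ hm
  rcases Nat.lt_or_ge p 54570 with h106 | h106
  · exact (Table.relOK_iff chkPaths 54060 510).mp Cfsg.Agent.Lib.Helper28.TCFi24L9.rel106 p (by omega) (by omega) _ hm
  rcases Nat.lt_or_ge p 55080 with h107 | h107
  · exact (Table.relOK_iff chkPaths 54570 510).mp Cfsg.Agent.Lib.Helper28.TCFi24L9.rel107 p (by omega) (by omega) _ hm
  rcases Nat.lt_or_ge p 55590 with h108 | h108
  · exact (Table.relOK_iff chkPaths 55080 510).mp Cfsg.Agent.Lib.Helper28.TCFi24L9.rel108 p (by omega) (by omega) _ hm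
  rcases Nat.lt_or_ge p 56100 with h109 | h109
  · exact (Table.relOK_iff chkPaths 55590 510).mp Cfsg.Agent.Lib.Helper28.TCFi24L9.rel109 p (by omega) (by omega) _ hm
  rcases Nat.lt_or_ge p 56610 with h110 | h110
  · exact (Table.relOK_iff chkPaths 56100 510).mp Cfsg.Agent.Lib.Helper28.TCFi24L10.rel110 p (by omega) (by omega) _ hm
  rcases Nat.lt_or_ge p 57120 with h111 | h111
  · exact (Table.relOK_iff chkPaths 56610 510).mp Cfsg.Agent.Lib.Helper28.TCFi24L10.rel111 p (by omega) (by omega) _ hm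
  rcases Nat.lt_or_ge p 57630 with h112 | h112
  · exact (Table.relOK_iff chkPaths 57120 510).mp Cfsg.Agent.Lib.Helper28.TCFi24L10.rel112 p (by omega) (by omega) _ hm
  rcases Nat.lt_or_ge p 58140 with h113 | h113
  · exact (Table.relOK_iff chkPaths 57630 510).mp Cfsg.Agent.Lib.Helper28.TCFi24L10.rel113 p (by omega) (by omega) _ hm
  rcases Nat.lt_or_ge p 58650 with h114 | h114
  · exact (Table.relOK_iff chkPaths 58140 510).mp Cfsg.Agent.Lib.Helper28.TCFi24L10.rel114 p (by omega) (by omega) _ hm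
  rcases Nat.lt_or_ge p 59160 with h115 | h115
  · exact (Table.relOK_iff chkPaths 58650 510).mp Cfsg.Agent.Lib.Helper28.TCFi24L10.rel115 p (by omega) (by omega) _ hm
  rcases Nat.lt_or_ge p 59670 with h116 | h116
  · exact (Table.relOK_iff chkPaths 59160 510).mp Cfsg.Agent.Lib.Helper28.TCFi24L10.rel116 p (by omega) (by omega) _ hm
  rcases Nat.lt_or_ge p 60180 with h117 | h117
  · exact (Table.relOK_iff chkPaths 59670 510).mp Cfsg.Agent.Lib.Helper28.TCFi24L10.rel117 p (by omega) (by omega) _ hm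
  rcases Nat.lt_or_ge p 60690 with h118 | h118
  · exact (Table.relOK_iff chkPaths 60180 510).mp Cfsg.Agent.Lib.Helper28.TCFi24L10.rel118 p (by omega) (by omega) _ hm
  rcases Nat.lt_or_ge p 61200 with h119 | h119
  · exact (Table.relOK_iff chkPaths 60690 510).mp Cfsg.Agent.Lib.Helper28.TCFi24L10.rel119 p (by omega) (by omega) _ hm
  rcases Nat.lt_or_ge p 61710 with h120 | h120
  · exact (Table.relOK_iff chkPaths 61200 510).mp Cfsg.Agent.Lib.Helper28.TCFi24L10.rel120 p (by omega) (by omega) _ hm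
  rcases Nat.lt_or_ge p 62220 with h121 | h121
  · exact (Table.relOK_iff chkPaths 61710 510).mp Cfsg.Agent.Lib.Helper28.TCFi24L11.rel121 p (by omega) (by omega) _ hm
  rcases Nat.lt_or_ge p 62730 with h122 | h122
  · exact (Table.relOK_iff chkPaths 62220 510).mp Cfsg.Agent.Lib.Helper28.TCFi24L11.rel122 p (by omega) (by omega) _ hm
  rcases Nat.lt_or_ge p 63240 with h123 | h123
  · exact (Table.relOK_iff chkPaths 62730 510).mp Cfsg.Agent.Lib.Helper28.TCFi24L11.rel123 p (by omega) (by omega) _ hm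
  rcases Nat.lt_or_ge p 63750 with h124 | h124
  · exact (Table.relOK_iff chkPaths 63240 510).mp Cfsg.Agent.Lib.Helper28.TCFi24L11.rel124 p (by omega) (by omega) _ hm
  rcases Nat.lt_or_ge p 64260 with h125 | h125
  · exact (Table.relOK_iff chkPaths 63750 510).mp Cfsg.Agent.Lib.Helper28.TCFi24L11.rel125 p (by omega) (by omega) _ hm
  rcases Nat.lt_or_ge p 64770 with h126 | h126
  · exact (Table.relOK_iff chkPaths 64260 510).mp Cfsg.Agent.Lib.Helper28.TCFi24L11.rel126 p (by omega) (by omega) _ hm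
  rcases Nat.lt_or_ge p 65280 with h127 | h127
  · exact (Table.relOK_iff chkPaths 64770 510).mp Cfsg.Agent.Lib.Helper28.TCFi24L11.rel127 p (by omega) (by omega) _ hm
  rcases Nat.lt_or_ge p 65790 with h128 | h128
  · exact (Table.relOK_iff chkPaths 65280 510).mp Cfsg.Agent.Lib.Helper28.TCFi24L11.rel128 p (by omega) (by omega) _ hm
  rcases Nat.lt_or_ge p 66300 with h129 | h129
  · exact (Table.relOK_iff chkPaths 65790 510).mp Cfsg.Agent.Lib.Helper28.TCFi24L11.rel129 p (by omega) (by omega) _ hm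
  rcases Nat.lt_or_ge p 66810 with h130 | h130
  · exact (Table.relOK_iff chkPaths 66300 510).mp Cfsg.Agent.Lib.Helper28.TCFi24L11.rel130 p (by omega) (by omega) _ hm
  rcases Nat.lt_or_ge p 67320 with h131 | h131
  · exact (Table.relOK_iff chkPaths 66810 510).mp Cfsg.Agent.Lib.Helper28.TCFi24L11.rel131 p (by omega) (by omega) _ hm
  rcases Nat.lt_or_ge p 67830 with h132 | h132
  · exact (Table.relOK_iff chkPaths 67320 510).mp Cfsg.Agent.Lib.Helper28.TCFi24L12.rel132 p (by omega) (by omega) _ hm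
  rcases Nat.lt_or_ge p 68340 with h133 | h133
  · exact (Table.relOK_iff chkPaths 67830 510).mp Cfsg.Agent.Lib.Helper28.TCFi24L12.rel133 p (by omega) (by omega) _ hm
  rcases Nat.lt_or_ge p 68850 with h134 | h134
  · exact (Table.relOK_iff chkPaths 68340 510).mp Cfsg.Agent.Lib.Helper28.TCFi24L12.rel134 p (by omega) (by omega) _ hm
  rcases Nat.lt_or_ge p 69360 with h135 | h135
  · exact (Table.relOK_iff chkPaths 68850 510).mp Cfsg.Agent.Lib.Helper28.TCFi24L12.rel135 p (by omega) (by omega) _ hm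
  rcases Nat.lt_or_ge p 69870 with h136 | h136
  · exact (Table.relOK_iff chkPaths 69360 510).mp Cfsg.Agent.Lib.Helper28.TCFi24L12.rel136 p (by omega) (by omega) _ hm
  rcases Nat.lt_or_ge p 70380 with h137 | h137
  · exact (Table.relOK_iff chkPaths 69870 510).mp Cfsg.Agent.Lib.Helper28.TCFi24L12.rel137 p (by omega) (by omega) _ hm
  rcases Nat.lt_or_ge p 70890 with h138 | h138
  · exact (Table.relOK_iff chkPaths 70380 510).mp Cfsg.Agent.Lib.Helper28.TCFi24L12.rel138 p (by omega) (by omega) _ hm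
  rcases Nat.lt_or_ge p 71400 with h139 | h139
  · exact (Table.relOK_iff chkPaths 70890 510).mp Cfsg.Agent.Lib.Helper28.TCFi24L12.rel139 p (by omega) (by omega) _ hm
  rcases Nat.lt_or_ge p 71910 with h140 | h140
  · exact (Table.relOK_iff chkPaths 71400 510).mp Cfsg.Agent.Lib.Helper28.TCFi24L12.rel140 p (by omega) (by omega) _ hm
  rcases Nat.lt_or_ge p 72420 with h141 | h141
  · exact (Table.relOK_iff chkPaths 71910 510).mp Cfsg.Agent.Lib.Helper28.TCFi24L12.rel141 p (by omega) (by omega) _ hm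
  rcases Nat.lt_or_ge p 72930 with h142 | h142
  · exact (Table.relOK_iff chkPaths 72420 510).mp Cfsg.Agent.Lib.Helper28.TCFi24L12.rel142 p (by omega) (by omega) _ hm
  rcases Nat.lt_or_ge p 73440 with h143 | h143
  · exact (Table.relOK_iff chkPaths 72930 510).mp Cfsg.Agent.Lib.Helper28.TCFi24L13.rel143 p (by omega) (by omega) _ hm
  rcases Nat.lt_or_ge p 73950 with h144 | h144
  · exact (Table.relOK_iff chkPaths 73440 510).mp Cfsg.Agent.Lib.Helper28.TCFi24L13.rel144 p (by omega) (by omega) _ hm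
  rcases Nat.lt_or_ge p 74460 with h145 | h145
  · exact (Table.relOK_iff chkPaths 73950 510).mp Cfsg.Agent.Lib.Helper28.TCFi24L13.rel145 p (by omega) (by omega) _ hm
  rcases Nat.lt_or_ge p 74970 with h146 | h146
  · exact (Table.relOK_iff chkPaths 74460 510).mp Cfsg.Agent.Lib.Helper28.TCFi24L13.rel146 p (by omega) (by omega) _ hm
  rcases Nat.lt_or_ge p 75480 with h147 | h147
  · exact (Table.relOK_iff chkPaths 74970 510).mp Cfsg.Agent.Lib.Helper28.TCFi24L13.rel147 p (by omega) (by omega) _ hm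
  rcases Nat.lt_or_ge p 75990 with h148 | h148
  · exact (Table.relOK_iff chkPaths 75480 510).mp Cfsg.Agent.Lib.Helper28.TCFi24L13.rel148 p (by omega) (by omega) _ hm
  rcases Nat.lt_or_ge p 76500 with h149 | h149
  · exact (Table.relOK_iff chkPaths 75990 510).mp Cfsg.Agent.Lib.Helper28.TCFi24L13.rel149 p (by omega) (by omega) _ hm
  rcases Nat.lt_or_ge p 77010 with h150 | h150
  · exact (Table.relOK_iff chkPaths 76500 510).mp Cfsg.Agent.Lib.Helper28.TCFi24L13.rel150 p (by omega) (by omega) _ hm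
  rcases Nat.lt_or_ge p 77520 with h151 | h151
  · exact (Table.relOK_iff chkPaths 77010 510).mp Cfsg.Agent.Lib.Helper28.TCFi24L13.rel151 p (by omega) (by omega) _ hm
  rcases Nat.lt_or_ge p 78030 with h152 | h152
  · exact (Table.relOK_iff chkPaths 77520 510).mp Cfsg.Agent.Lib.Helper28.TCFi24L13.rel152 p (by omega) (by omega) _ hm
  rcases Nat.lt_or_ge p 78540 with h153 | h153
  · exact (Table.relOK_iff chkPaths 78030 510).mp Cfsg.Agent.Lib.Helper28.TCFi24L13.rel153 p (by omega) (by omega) _ hm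
  rcases Nat.lt_or_ge p 79050 with h154 | h154
  · exact (Table.relOK_iff chkPaths 78540 510).mp Cfsg.Agent.Lib.Helper28.TCFi24L14.rel154 p (by omega) (by omega) _ hm
  rcases Nat.lt_or_ge p 79560 with h155 | h155
  · exact (Table.relOK_iff chkPaths 79050 510).mp Cfsg.Agent.Lib.Helper28.TCFi24L14.rel155 p (by omega) (by omega) _ hm
  rcases Nat.lt_or_ge p 80070 with h156 | h156
  · exact (Table.relOK_iff chkPaths 79560 510).mp Cfsg.Agent.Lib.Helper28.TCFi24L14.rel156 p (by omega) (by omega) _ hm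
  rcases Nat.lt_or_ge p 80580 with h157 | h157
  · exact (Table.relOK_iff chkPaths 80070 510).mp Cfsg.Agent.Lib.Helper28.TCFi24L14.rel157 p (by omega) (by omega) _ hm
  rcases Nat.lt_or_ge p 81090 with h158 | h158
  · exact (Table.relOK_iff chkPaths 80580 510).mp Cfsg.Agent.Lib.Helper28.TCFi24L14.rel158 p (by omega) (by omega) _ hm
  rcases Nat.lt_or_ge p 81600 with h159 | h159
  · exact (Table.relOK_iff chkPaths 81090 510).mp Cfsg.Agent.Lib.Helper28.TCFi24L14.rel159 p (by omega) (by omega) _ hm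
  rcases Nat.lt_or_ge p 82110 with h160 | h160
  · exact (Table.relOK_iff chkPaths 81600 510).mp Cfsg.Agent.Lib.Helper28.TCFi24L14.rel160 p (by omega) (by omega) _ hm
  rcases Nat.lt_or_ge p 82620 with h161 | h161
  · exact (Table.relOK_iff chkPaths 82110 510).mp Cfsg.Agent.Lib.Helper28.TCFi24L14.rel161 p (by omega) (by omega) _ hm
  rcases Nat.lt_or_ge p 83130 with h162 | h162
  · exact (Table.relOK_iff chkPaths 82620 510).mp Cfsg.Agent.Lib.Helper28.TCFi24L14.rel162 p (by omega) (by omega) _ hm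
  rcases Nat.lt_or_ge p 83640 with h163 | h163
  · exact (Table.relOK_iff chkPaths 83130 510).mp Cfsg.Agent.Lib.Helper28.TCFi24L14.rel163 p (by omega) (by omega) _ hm
  rcases Nat.lt_or_ge p 84150 with h164 | h164
  · exact (Table.relOK_iff chkPaths 83640 510).mp Cfsg.Agent.Lib.Helper28.TCFi24L14.rel164 p (by omega) (by omega) _ hm
  rcases Nat.lt_or_ge p 84660 with h165 | h165
  · exact (Table.relOK_iff chkPaths 84150 510).mp Cfsg.Agent.Lib.Helper28.TCFi24L15.rel165 p (by omega) (by omega) _ hm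
  rcases Nat.lt_or_ge p 85170 with h166 | h166
  · exact (Table.relOK_iff chkPaths 84660 510).mp Cfsg.Agent.Lib.Helper28.TCFi24L15.rel166 p (by omega) (by omega) _ hm
  rcases Nat.lt_or_ge p 85680 with h167 | h167
  · exact (Table.relOK_iff chkPaths 85170 510).mp Cfsg.Agent.Lib.Helper28.TCFi24L15.rel167 p (by omega) (by omega) _ hm
  rcases Nat.lt_or_ge p 86190 with h168 | h168
  · exact (Table.relOK_iff chkPaths 85680 510).mp Cfsg.Agent.Lib.Helper28.TCFi24L15.rel168 p (by omega) (by omega) _ hm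
  rcases Nat.lt_or_ge p 86700 with h169 | h169
  · exact (Table.relOK_iff chkPaths 86190 510).mp Cfsg.Agent.Lib.Helper28.TCFi24L15.rel169 p (by omega) (by omega) _ hm
  rcases Nat.lt_or_ge p 87210 with h170 | h170
  · exact (Table.relOK_iff chkPaths 86700 510).mp Cfsg.Agent.Lib.Helper28.TCFi24L15.rel170 p (by omega) (by omega) _ hm
  rcases Nat.lt_or_ge p 87720 with h171 | h171
  · exact (Table.relOK_iff chkPaths 87210 510).mp Cfsg.Agent.Lib.Helper28.TCFi24L15.rel171 p (by omega) (by omega) _ hm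
  rcases Nat.lt_or_ge p 88230 with h172 | h172
  · exact (Table.relOK_iff chkPaths 87720 510).mp Cfsg.Agent.Lib.Helper28.TCFi24L15.rel172 p (by omega) (by omega) _ hm
  rcases Nat.lt_or_ge p 88740 with h173 | h173
  · exact (Table.relOK_iff chkPaths 88230 510).mp Cfsg.Agent.Lib.Helper28.TCFi24L15.rel173 p (by omega) (by omega) _ hm
  rcases Nat.lt_or_ge p 89250 with h174 | h174
  · exact (Table.relOK_iff chkPaths 88740 510).mp Cfsg.Agent.Lib.Helper28.TCFi24L15.rel174 p (by omega) (by omega) _ hm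
  rcases Nat.lt_or_ge p 89760 with h175 | h175
  · exact (Table.relOK_iff chkPaths 89250 510).mp Cfsg.Agent.Lib.Helper28.TCFi24L15.rel175 p (by omega) (by omega) _ hm
  rcases Nat.lt_or_ge p 90270 with h176 | h176
  · exact (Table.relOK_iff chkPaths 89760 510).mp Cfsg.Agent.Lib.Helper28.TCFi24L16.rel176 p (by omega) (by omega) _ hm
  rcases Nat.lt_or_ge p 90780 with h177 | h177
  · exact (Table.relOK_iff chkPaths 90270 510).mp Cfsg.Agent.Lib.Helper28.TCFi24L16.rel177 p (by omega) (by omega) _ hm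
  rcases Nat.lt_or_ge p 91290 with h178 | h178
  · exact (Table.relOK_iff chkPaths 90780 510).mp Cfsg.Agent.Lib.Helper28.TCFi24L16.rel178 p (by omega) (by omega) _ hm
  rcases Nat.lt_or_ge p 91800 with h179 | h179
  · exact (Table.relOK_iff chkPaths 91290 510).mp Cfsg.Agent.Lib.Helper28.TCFi24L16.rel179 p (by omega) (by omega) _ hm
  rcases Nat.lt_or_ge p 92310 with h180 | h180
  · exact (Table.relOK_iff chkPaths 91800 510).mp Cfsg.Agent.Lib.Helper28.TCFi24L16.rel180 p (by omega) (by omega) _ hm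
  rcases Nat.lt_or_ge p 92820 with h181 | h181
  · exact (Table.relOK_iff chkPaths 92310 510).mp Cfsg.Agent.Lib.Helper28.TCFi24L16.rel181 p (by omega) (by omega) _ hm
  rcases Nat.lt_or_ge p 93330 with h182 | h182
  · exact (Table.relOK_iff chkPaths 92820 510).mp Cfsg.Agent.Lib.Helper28.TCFi24L16.rel182 p (by omega) (by omega) _ hm
  rcases Nat.lt_or_ge p 93840 with h183 | h183
  · exact (Table.relOK_iff chkPaths 93330 510).mp Cfsg.Agent.Lib.Helper28.TCFi24L16.rel183 p (by omega) (by omega) _ hm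
  rcases Nat.lt_or_ge p 94350 with h184 | h184
  · exact (Table.relOK_iff chkPaths 93840 510).mp Cfsg.Agent.Lib.Helper28.TCFi24L16.rel184 p (by omega) (by omega) _ hm
  rcases Nat.lt_or_ge p 94860 with h185 | h185
  · exact (Table.relOK_iff chkPaths 94350 510).mp Cfsg.Agent.Lib.Helper28.TCFi24L16.rel185 p (by omega) (by omega) _ hm
  rcases Nat.lt_or_ge p 95370 with h186 | h186
  · exact (Table.relOK_iff chkPaths 94860 510).mp Cfsg.Agent.Lib.Helper28.TCFi24L16.rel186 p (by omega) (by omega) _ hm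
  rcases Nat.lt_or_ge p 95880 with h187 | h187
  · exact (Table.relOK_iff chkPaths 95370 510).mp Cfsg.Agent.Lib.Helper28.TCFi24L17.rel187 p (by omega) (by omega) _ hm
  rcases Nat.lt_or_ge p 96390 with h188 | h188
  · exact (Table.relOK_iff chkPaths 95880 510).mp Cfsg.Agent.Lib.Helper28.TCFi24L17.rel188 p (by omega) (by omega) _ hm
  rcases Nat.lt_or_ge p 96900 with h189 | h189
  · exact (Table.relOK_iff chkPaths 96390 510).mp Cfsg.Agent.Lib.Helper28.TCFi24L17.rel189 p (by omega) (by omega) _ hm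
  rcases Nat.lt_or_ge p 97410 with h190 | h190
  · exact (Table.relOK_iff chkPaths 96900 510).mp Cfsg.Agent.Lib.Helper28.TCFi24L17.rel190 p (by omega) (by omega) _ hm
  rcases Nat.lt_or_ge p 97920 with h191 | h191
  · exact (Table.relOK_iff chkPaths 97410 510).mp Cfsg.Agent.Lib.Helper28.TCFi24L17.rel191 p (by omega) (by omega) _ hm
  rcases Nat.lt_or_ge p 98430 with h192 | h192
  · exact (Table.relOK_iff chkPaths 97920 510).mp Cfsg.Agent.Lib.Helper28.TCFi24L17.rel192 p (by omega) (by omega) _ hm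
  rcases Nat.lt_or_ge p 98940 with h193 | h193
  · exact (Table.relOK_iff chkPaths 98430 510).mp Cfsg.Agent.Lib.Helper28.TCFi24L17.rel193 p (by omega) (by omega) _ hm
  rcases Nat.lt_or_ge p 99450 with h194 | h194
  · exact (Table.relOK_iff chkPaths 98940 510).mp Cfsg.Agent.Lib.Helper28.TCFi24L17.rel194 p (by omega) (by omega) _ hm
  rcases Nat.lt_or_ge p 99960 with h195 | h195
  · exact (Table.relOK_iff chkPaths 99450 510).mp Cfsg.Agent.Lib.Helper28.TCFi24L17.rel195 p (by omega) (by omega) _ hm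
  rcases Nat.lt_or_ge p 100470 with h196 | h196
  · exact (Table.relOK_iff chkPaths 99960 510).mp Cfsg.Agent.Lib.Helper28.TCFi24L17.rel196 p (by omega) (by omega) _ hm
  rcases Nat.lt_or_ge p 100980 with h197 | h197
  · exact (Table.relOK_iff chkPaths 100470 510).mp Cfsg.Agent.Lib.Helper28.TCFi24L17.rel197 p (by omega) (by omega) _ hm
  rcases Nat.lt_or_ge p 101490 with h198 | h198
  · exact (Table.relOK_iff chkPaths 100980 510).mp Cfsg.Agent.Lib.Helper28.TCFi24L18.rel198 p (by omega) (by omega) _ hm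
  rcases Nat.lt_or_ge p 102000 with h199 | h199
  · exact (Table.relOK_iff chkPaths 101490 510).mp Cfsg.Agent.Lib.Helper28.TCFi24L18.rel199 p (by omega) (by omega) _ hm
  rcases Nat.lt_or_ge p 102510 with h200 | h200
  · exact (Table.relOK_iff chkPaths 102000 510).mp Cfsg.Agent.Lib.Helper28.TCFi24L18.rel200 p (by omega) (by omega) _ hm
  rcases Nat.lt_or_ge p 103020 with h201 | h201
  · exact (Table.relOK_iff chkPaths 102510 510).mp Cfsg.Agent.Lib.Helper28.TCFi24L18.rel201 p (by omega) (by omega) _ hm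
  rcases Nat.lt_or_ge p 103530 with h202 | h202
  · exact (Table.relOK_iff chkPaths 103020 510).mp Cfsg.Agent.Lib.Helper28.TCFi24L18.rel202 p (by omega) (by omega) _ hm
  rcases Nat.lt_or_ge p 104040 with h203 | h203
  · exact (Table.relOK_iff chkPaths 103530 510).mp Cfsg.Agent.Lib.Helper28.TCFi24L18.rel203 p (by omega) (by omega) _ hm
  rcases Nat.lt_or_ge p 104550 with h204 | h204
  · exact (Table.relOK_iff chkPaths 104040 510).mp Cfsg.Agent.Lib.Helper28.TCFi24L18.rel204 p (by omega) (by omega) _ hm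
  rcases Nat.lt_or_ge p 105060 with h205 | h205
  · exact (Table.relOK_iff chkPaths 104550 510).mp Cfsg.Agent.Lib.Helper28.TCFi24L18.rel205 p (by omega) (by omega) _ hm
  rcases Nat.lt_or_ge p 105570 with h206 | h206
  · exact (Table.relOK_iff chkPaths 105060 510).mp Cfsg.Agent.Lib.Helper28.TCFi24L18.rel206 p (by omega) (by omega) _ hm
  rcases Nat.lt_or_ge p 106080 with h207 | h207
  · exact (Table.relOK_iff chkPaths 105570 510).mp Cfsg.Agent.Lib.Helper28.TCFi24L18.rel207 p (by omega) (by omega) _ hm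
  rcases Nat.lt_or_ge p 106590 with h208 | h208
  · exact (Table.relOK_iff chkPaths 106080 510).mp Cfsg.Agent.Lib.Helper28.TCFi24L18.rel208 p (by omega) (by omega) _ hm
  rcases Nat.lt_or_ge p 107100 with h209 | h209
  · exact (Table.relOK_iff chkPaths 106590 510).mp Cfsg.Agent.Lib.Helper28.TCFi24L19.rel209 p (by omega) (by omega) _ hm
  rcases Nat.lt_or_ge p 107610 with h210 | h210
  · exact (Table.relOK_iff chkPaths 107100 510).mp Cfsg.Agent.Lib.Helper28.TCFi24L19.rel210 p (by omega) (by omega) _ hm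
  rcases Nat.lt_or_ge p 108120 with h211 | h211
  · exact (Table.relOK_iff chkPaths 107610 510).mp Cfsg.Agent.Lib.Helper28.TCFi24L19.rel211 p (by omega) (by omega) _ hm
  rcases Nat.lt_or_ge p 108630 with h212 | h212
  · exact (Table.relOK_iff chkPaths 108120 510).mp Cfsg.Agent.Lib.Helper28.TCFi24L19.rel212 p (by omega) (by omega) _ hm
  rcases Nat.lt_or_ge p 109140 with h213 | h213
  · exact (Table.relOK_iff chkPaths 108630 510).mp Cfsg.Agent.Lib.Helper28.TCFi24L19.rel213 p (by omega) (by omega) _ hm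
  rcases Nat.lt_or_ge p 109650 with h214 | h214
  · exact (Table.relOK_iff chkPaths 109140 510).mp Cfsg.Agent.Lib.Helper28.TCFi24L19.rel214 p (by omega) (by omega) _ hm
  rcases Nat.lt_or_ge p 110160 with h215 | h215
  · exact (Table.relOK_iff chkPaths 109650 510).mp Cfsg.Agent.Lib.Helper28.TCFi24L19.rel215 p (by omega) (by omega) _ hm
  rcases Nat.lt_or_ge p 110670 with h216 | h216
  · exact (Table.relOK_iff chkPaths 110160 510).mp Cfsg.Agent.Lib.Helper28.TCFi24L19.rel216 p (by omega) (by omega) _ hm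
  rcases Nat.lt_or_ge p 111180 with h217 | h217
  · exact (Table.relOK_iff chkPaths 110670 510).mp Cfsg.Agent.Lib.Helper28.TCFi24L19.rel217 p (by omega) (by omega) _ hm
  rcases Nat.lt_or_ge p 111690 with h218 | h218
  · exact (Table.relOK_iff chkPaths 111180 510).mp Cfsg.Agent.Lib.Helper28.TCFi24L19.rel218 p (by omega) (by omega) _ hm
  rcases Nat.lt_or_ge p 112200 with h219 | h219
  · exact (Table.relOK_iff chkPaths 111690 510).mp Cfsg.Agent.Lib.Helper28.TCFi24L19.rel219 p (by omega) (by omega) _ hm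
  rcases Nat.lt_or_ge p 112710 with h220 | h220
  · exact (Table.relOK_iff chkPaths 112200 510).mp Cfsg.Agent.Lib.Helper28.TCFi24L20.rel220 p (by omega) (by omega) _ hm
  rcases Nat.lt_or_ge p 113220 with h221 | h221
  · exact (Table.relOK_iff chkPaths 112710 510).mp Cfsg.Agent.Lib.Helper28.TCFi24L20.rel221 p (by omega) (by omega) _ hm
  rcases Nat.lt_or_ge p 113730 with h222 | h222
  · exact (Table.relOK_iff chkPaths 113220 510).mp Cfsg.Agent.Lib.Helper28.TCFi24L20.rel222 p (by omega) (by omega) _ hm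
  rcases Nat.lt_or_ge p 114240 with h223 | h223
  · exact (Table.relOK_iff chkPaths 113730 510).mp Cfsg.Agent.Lib.Helper28.TCFi24L20.rel223 p (by omega) (by omega) _ hm
  rcases Nat.lt_or_ge p 114750 with h224 | h224
  · exact (Table.relOK_iff chkPaths 114240 510).mp Cfsg.Agent.Lib.Helper28.TCFi24L20.rel224 p (by omega) (by omega) _ hm
  rcases Nat.lt_or_ge p 115260 with h225 | h225
  · exact (Table.relOK_iff chkPaths 114750 510).mp Cfsg.Agent.Lib.Helper28.TCFi24L20.rel225 p (by omega) (by omega) _ hm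
  rcases Nat.lt_or_ge p 115770 with h226 | h226
  · exact (Table.relOK_iff chkPaths 115260 510).mp Cfsg.Agent.Lib.Helper28.TCFi24L20.rel226 p (by omega) (by omega) _ hm
  rcases Nat.lt_or_ge p 116280 with h227 | h227
  · exact (Table.relOK_iff chkPaths 115770 510).mp Cfsg.Agent.Lib.Helper28.TCFi24L20.rel227 p (by omega) (by omega) _ hm
  rcases Nat.lt_or_ge p 116790 with h228 | h228
  · exact (Table.relOK_iff chkPaths 116280 510).mp Cfsg.Agent.Lib.Helper28.TCFi24L20.rel228 p (by omega) (by omega) _ hm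
  rcases Nat.lt_or_ge p 117300 with h229 | h229
  · exact (Table.relOK_iff chkPaths 116790 510).mp Cfsg.Agent.Lib.Helper28.TCFi24L20.rel229 p (by omega) (by omega) _ hm
  rcases Nat.lt_or_ge p 117810 with h230 | h230
  · exact (Table.relOK_iff chkPaths 117300 510).mp Cfsg.Agent.Lib.Helper28.TCFi24L20.rel230 p (by omega) (by omega) _ hm
  rcases Nat.lt_or_ge p 118320 with h231 | h231
  · exact (Table.relOK_iff chkPaths 117810 510).mp Cfsg.Agent.Lib.Helper28.TCFi24L21.rel231 p (by omega) (by omega) _ hm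
  rcases Nat.lt_or_ge p 118830 with h232 | h232
  · exact (Table.relOK_iff chkPaths 118320 510).mp Cfsg.Agent.Lib.Helper28.TCFi24L21.rel232 p (by omega) (by omega) _ hm
  rcases Nat.lt_or_ge p 119340 with h233 | h233
  · exact (Table.relOK_iff chkPaths 118830 510).mp Cfsg.Agent.Lib.Helper28.TCFi24L21.rel233 p (by omega) (by omega) _ hm
  rcases Nat.lt_or_ge p 119850 with h234 | h234
  · exact (Table.relOK_iff chkPaths 119340 510).mp Cfsg.Agent.Lib.Helper28.TCFi24L21.rel234 p (by omega) (by omega) _ hm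
  rcases Nat.lt_or_ge p 120360 with h235 | h235
  · exact (Table.relOK_iff chkPaths 119850 510).mp Cfsg.Agent.Lib.Helper28.TCFi24L21.rel235 p (by omega) (by omega) _ hm
  rcases Nat.lt_or_ge p 120870 with h236 | h236
  · exact (Table.relOK_iff chkPaths 120360 510).mp Cfsg.Agent.Lib.Helper28.TCFi24L21.rel236 p (by omega) (by omega) _ hm
  rcases Nat.lt_or_ge p 121380 with h237 | h237
  · exact (Table.relOK_iff chkPaths 120870 510).mp Cfsg.Agent.Lib.Helper28.TCFi24L21.rel237 p (by omega) (by omega) _ hm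
  rcases Nat.lt_or_ge p 121890 with h238 | h238
  · exact (Table.relOK_iff chkPaths 121380 510).mp Cfsg.Agent.Lib.Helper28.TCFi24L21.rel238 p (by omega) (by omega) _ hm
  rcases Nat.lt_or_ge p 122400 with h239 | h239
  · exact (Table.relOK_iff chkPaths 121890 510).mp Cfsg.Agent.Lib.Helper28.TCFi24L21.rel239 p (by omega) (by omega) _ hm
  rcases Nat.lt_or_ge p 122910 with h240 | h240
  · exact (Table.relOK_iff chkPaths 122400 510).mp Cfsg.Agent.Lib.Helper28.TCFi24L21.rel240 p (by omega) (by omega) _ hm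
  rcases Nat.lt_or_ge p 123420 with h241 | h241
  · exact (Table.relOK_iff chkPaths 122910 510).mp Cfsg.Agent.Lib.Helper28.TCFi24L21.rel241 p (by omega) (by omega) _ hm
  rcases Nat.lt_or_ge p 123930 with h242 | h242
  · exact (Table.relOK_iff chkPaths 123420 510).mp Cfsg.Agent.Lib.Helper28.TCFi24L22.rel242 p (by omega) (by omega) _ hm
  rcases Nat.lt_or_ge p 124440 with h243 | h243
  · exact (Table.relOK_iff chkPaths 123930 510).mp Cfsg.Agent.Lib.Helper28.TCFi24L22.rel243 p (by omega) (by omega) _ hm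
  rcases Nat.lt_or_ge p 124950 with h244 | h244
  · exact (Table.relOK_iff chkPaths 124440 510).mp Cfsg.Agent.Lib.Helper28.TCFi24L22.rel244 p (by omega) (by omega) _ hm
  rcases Nat.lt_or_ge p 125460 with h245 | h245
  · exact (Table.relOK_iff chkPaths 124950 510).mp Cfsg.Agent.Lib.Helper28.TCFi24L22.rel245 p (by omega) (by omega) _ hm
  rcases Nat.lt_or_ge p 125970 with h246 | h246
  · exact (Table.relOK_iff chkPaths 125460 510).mp Cfsg.Agent.Lib.Helper28.TCFi24L22.rel246 p (by omega) (by omega) _ hm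
  rcases Nat.lt_or_ge p 126480 with h247 | h247
  · exact (Table.relOK_iff chkPaths 125970 510).mp Cfsg.Agent.Lib.Helper28.TCFi24L22.rel247 p (by omega) (by omega) _ hm
  rcases Nat.lt_or_ge p 126990 with h248 | h248
  · exact (Table.relOK_iff chkPaths 126480 510).mp Cfsg.Agent.Lib.Helper28.TCFi24L22.rel248 p (by omega) (by omega) _ hm
  rcases Nat.lt_or_ge p 127500 with h249 | h249
  · exact (Table.relOK_iff chkPaths 126990 510).mp Cfsg.Agent.Lib.Helper28.TCFi24L22.rel249 p (by omega) (by omega) _ hm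
  rcases Nat.lt_or_ge p 128010 with h250 | h250
  · exact (Table.relOK_iff chkPaths 127500 510).mp Cfsg.Agent.Lib.Helper28.TCFi24L22.rel250 p (by omega) (by omega) _ hm
  rcases Nat.lt_or_ge p 128520 with h251 | h251
  · exact (Table.relOK_iff chkPaths 128010 510).mp Cfsg.Agent.Lib.Helper28.TCFi24L22.rel251 p (by omega) (by omega) _ hm
  rcases Nat.lt_or_ge p 129030 with h252 | h252
  · exact (Table.relOK_iff chkPaths 128520 510).mp Cfsg.Agent.Lib.Helper28.TCFi24L22.rel252 p (by omega) (by omega) _ hm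
  rcases Nat.lt_or_ge p 129540 with h253 | h253
  · exact (Table.relOK_iff chkPaths 129030 510).mp Cfsg.Agent.Lib.Helper28.TCFi24L23.rel253 p (by omega) (by omega) _ hm
  rcases Nat.lt_or_ge p 130050 with h254 | h254
  · exact (Table.relOK_iff chkPaths 129540 510).mp Cfsg.Agent.Lib.Helper28.TCFi24L23.rel254 p (by omega) (by omega) _ hm
  rcases Nat.lt_or_ge p 130560 with h255 | h255
  · exact (Table.relOK_iff chkPaths 130050 510).mp Cfsg.Agent.Lib.Helper28.TCFi24L23.rel255 p (by omega) (by omega) _ hm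
  rcases Nat.lt_or_ge p 131070 with h256 | h256
  · exact (Table.relOK_iff chkPaths 130560 510).mp Cfsg.Agent.Lib.Helper28.TCFi24L23.rel256 p (by omega) (by omega) _ hm
  rcases Nat.lt_or_ge p 131580 with h257 | h257
  · exact (Table.relOK_iff chkPaths 131070 510).mp Cfsg.Agent.Lib.Helper28.TCFi24L23.rel257 p (by omega) (by omega) _ hm
  rcases Nat.lt_or_ge p 132090 with h258 | h258
  · exact (Table.relOK_iff chkPaths 131580 510).mp Cfsg.Agent.Lib.Helper28.TCFi24L23.rel258 p (by omega) (by omega) _ hm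
  rcases Nat.lt_or_ge p 132600 with h259 | h259
  · exact (Table.relOK_iff chkPaths 132090 510).mp Cfsg.Agent.Lib.Helper28.TCFi24L23.rel259 p (by omega) (by omega) _ hm
  rcases Nat.lt_or_ge p 133110 with h260 | h260
  · exact (Table.relOK_iff chkPaths 132600 510).mp Cfsg.Agent.Lib.Helper28.TCFi24L23.rel260 p (by omega) (by omega) _ hm
  rcases Nat.lt_or_ge p 133620 with h261 | h261
  · exact (Table.relOK_iff chkPaths 133110 510).mp Cfsg.Agent.Lib.Helper28.TCFi24L23.rel261 p (by omega) (by omega) _ hm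
  rcases Nat.lt_or_ge p 134130 with h262 | h262
  · exact (Table.relOK_iff chkPaths 133620 510).mp Cfsg.Agent.Lib.Helper28.TCFi24L23.rel262 p (by omega) (by omega) _ hm
  rcases Nat.lt_or_ge p 134640 with h263 | h263
  · exact (Table.relOK_iff chkPaths 134130 510).mp Cfsg.Agent.Lib.Helper28.TCFi24L23.rel263 p (by omega) (by omega) _ hm
  rcases Nat.lt_or_ge p 135150 with h264 | h264
  · exact (Table.relOK_iff chkPaths 134640 510).mp Cfsg.Agent.Lib.Helper28.TCFi24L24.rel264 p (by omega) (by omega) _ hm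
  rcases Nat.lt_or_ge p 135660 with h265 | h265
  · exact (Table.relOK_iff chkPaths 135150 510).mp Cfsg.Agent.Lib.Helper28.TCFi24L24.rel265 p (by omega) (by omega) _ hm
  rcases Nat.lt_or_ge p 136170 with h266 | h266
  · exact (Table.relOK_iff chkPaths 135660 510).mp Cfsg.Agent.Lib.Helper28.TCFi24L24.rel266 p (by omega) (by omega) _ hm
  rcases Nat.lt_or_ge p 136680 with h267 | h267
  · exact (Table.relOK_iff chkPaths 136170 510).mp Cfsg.Agent.Lib.Helper28.TCFi24L24.rel267 p (by omega) (by omega) _ hm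
  rcases Nat.lt_or_ge p 137190 with h268 | h268
  · exact (Table.relOK_iff chkPaths 136680 510).mp Cfsg.Agent.Lib.Helper28.TCFi24L24.rel268 p (by omega) (by omega) _ hm
  rcases Nat.lt_or_ge p 137700 with h269 | h269
  · exact (Table.relOK_iff chkPaths 137190 510).mp Cfsg.Agent.Lib.Helper28.TCFi24L24.rel269 p (by omega) (by omega) _ hm
  rcases Nat.lt_or_ge p 138210 with h270 | h270
  · exact (Table.relOK_iff chkPaths 137700 510).mp Cfsg.Agent.Lib.Helper28.TCFi24L24.rel270 p (by omega) (by omega) _ hm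
  rcases Nat.lt_or_ge p 138720 with h271 | h271
  · exact (Table.relOK_iff chkPaths 138210 510).mp Cfsg.Agent.Lib.Helper28.TCFi24L24.rel271 p (by omega) (by omega) _ hm
  rcases Nat.lt_or_ge p 139230 with h272 | h272
  · exact (Table.relOK_iff chkPaths 138720 510).mp Cfsg.Agent.Lib.Helper28.TCFi24L24.rel272 p (by omega) (by omega) _ hm
  rcases Nat.lt_or_ge p 139740 with h273 | h273
  · exact (Table.relOK_iff chkPaths 139230 510).mp Cfsg.Agent.Lib.Helper28.TCFi24L24.rel273 p (by omega) (by omega) _ hm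
  rcases Nat.lt_or_ge p 140250 with h274 | h274
  · exact (Table.relOK_iff chkPaths 139740 510).mp Cfsg.Agent.Lib.Helper28.TCFi24L24.rel274 p (by omega) (by omega) _ hm
  rcases Nat.lt_or_ge p 140760 with h275 | h275
  · exact (Table.relOK_iff chkPaths 140250 510).mp Cfsg.Agent.Lib.Helper28.TCFi24L25.rel275 p (by omega) (by omega) _ hm
  rcases Nat.lt_or_ge p 141270 with h276 | h276
  · exact (Table.relOK_iff chkPaths 140760 510).mp Cfsg.Agent.Lib.Helper28.TCFi24L25.rel276 p (by omega) (by omega) _ hm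
  rcases Nat.lt_or_ge p 141780 with h277 | h277
  · exact (Table.relOK_iff chkPaths 141270 510).mp Cfsg.Agent.Lib.Helper28.TCFi24L25.rel277 p (by omega) (by omega) _ hm
  rcases Nat.lt_or_ge p 142290 with h278 | h278
  · exact (Table.relOK_iff chkPaths 141780 510).mp Cfsg.Agent.Lib.Helper28.TCFi24L25.rel278 p (by omega) (by omega) _ hm
  rcases Nat.lt_or_ge p 142800 with h279 | h279
  · exact (Table.relOK_iff chkPaths 142290 510).mp Cfsg.Agent.Lib.Helper28.TCFi24L25.rel279 p (by omega) (by omega) _ hm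
  rcases Nat.lt_or_ge p 143310 with h280 | h280
  · exact (Table.relOK_iff chkPaths 142800 510).mp Cfsg.Agent.Lib.Helper28.TCFi24L25.rel280 p (by omega) (by omega) _ hm
  rcases Nat.lt_or_ge p 143820 with h281 | h281
  · exact (Table.relOK_iff chkPaths 143310 510).mp Cfsg.Agent.Lib.Helper28.TCFi24L25.rel281 p (by omega) (by omega) _ hm
  rcases Nat.lt_or_ge p 144330 with h282 | h282
  · exact (Table.relOK_iff chkPaths 143820 510).mp Cfsg.Agent.Lib.Helper28.TCFi24L25.rel282 p (by omega) (by omega) _ hm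
  rcases Nat.lt_or_ge p 144840 with h283 | h283
  · exact (Table.relOK_iff chkPaths 144330 510).mp Cfsg.Agent.Lib.Helper28.TCFi24L25.rel283 p (by omega) (by omega) _ hm
  rcases Nat.lt_or_ge p 145350 with h284 | h284
  · exact (Table.relOK_iff chkPaths 144840 510).mp Cfsg.Agent.Lib.Helper28.TCFi24L25.rel284 p (by omega) (by omega) _ hm
  rcases Nat.lt_or_ge p 145860 with h285 | h285
  · exact (Table.relOK_iff chkPaths 145350 510).mp Cfsg.Agent.Lib.Helper28.TCFi24L25.rel285 p (by omega) (by omega) _ hm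
  rcases Nat.lt_or_ge p 146370 with h286 | h286
  · exact (Table.relOK_iff chkPaths 145860 510).mp Cfsg.Agent.Lib.Helper28.TCFi24L26.rel286 p (by omega) (by omega) _ hm
  rcases Nat.lt_or_ge p 146880 with h287 | h287
  · exact (Table.relOK_iff chkPaths 146370 510).mp Cfsg.Agent.Lib.Helper28.TCFi24L26.rel287 p (by omega) (by omega) _ hm
  rcases Nat.lt_or_ge p 147390 with h288 | h288
  · exact (Table.relOK_iff chkPaths 146880 510).mp Cfsg.Agent.Lib.Helper28.TCFi24L26.rel288 p (by omega) (by omega) _ hm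
  rcases Nat.lt_or_ge p 147900 with h289 | h289
  · exact (Table.relOK_iff chkPaths 147390 510).mp Cfsg.Agent.Lib.Helper28.TCFi24L26.rel289 p (by omega) (by omega) _ hm
  rcases Nat.lt_or_ge p 148410 with h290 | h290
  · exact (Table.relOK_iff chkPaths 147900 510).mp Cfsg.Agent.Lib.Helper28.TCFi24L26.rel290 p (by omega) (by omega) _ hm
  rcases Nat.lt_or_ge p 148920 with h291 | h291
  · exact (Table.relOK_iff chkPaths 148410 510).mp Cfsg.Agent.Lib.Helper28.TCFi24L26.rel291 p (by omega) (by omega) _ hm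
  rcases Nat.lt_or_ge p 149430 with h292 | h292
  · exact (Table.relOK_iff chkPaths 148920 510).mp Cfsg.Agent.Lib.Helper28.TCFi24L26.rel292 p (by omega) (by omega) _ hm
  rcases Nat.lt_or_ge p 149940 with h293 | h293
  · exact (Table.relOK_iff chkPaths 149430 510).mp Cfsg.Agent.Lib.Helper28.TCFi24L26.rel293 p (by omega) (by omega) _ hm
  rcases Nat.lt_or_ge p 150450 with h294 | h294
  · exact (Table.relOK_iff chkPaths 149940 510).mp Cfsg.Agent.Lib.Helper28.TCFi24L26.rel294 p (by omega) (by omega) _ hm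
  rcases Nat.lt_or_ge p 150960 with h295 | h295
  · exact (Table.relOK_iff chkPaths 150450 510).mp Cfsg.Agent.Lib.Helper28.TCFi24L26.rel295 p (by omega) (by omega) _ hm
  rcases Nat.lt_or_ge p 151470 with h296 | h296
  · exact (Table.relOK_iff chkPaths 150960 510).mp Cfsg.Agent.Lib.Helper28.TCFi24L26.rel296 p (by omega) (by omega) _ hm
  rcases Nat.lt_or_ge p 151980 with h297 | h297
  · exact (Table.relOK_iff chkPaths 151470 510).mp Cfsg.Agent.Lib.Helper28.TCFi24L27.rel297 p (by omega) (by omega) _ hm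
  rcases Nat.lt_or_ge p 152490 with h298 | h298
  · exact (Table.relOK_iff chkPaths 151980 510).mp Cfsg.Agent.Lib.Helper28.TCFi24L27.rel298 p (by omega) (by omega) _ hm
  rcases Nat.lt_or_ge p 153000 with h299 | h299
  · exact (Table.relOK_iff chkPaths 152490 510).mp Cfsg.Agent.Lib.Helper28.TCFi24L27.rel299 p (by omega) (by omega) _ hm
  rcases Nat.lt_or_ge p 153510 with h300 | h300
  · exact (Table.relOK_iff chkPaths 153000 510).mp Cfsg.Agent.Lib.Helper28.TCFi24L27.rel300 p (by omega) (by omega) _ hm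
  rcases Nat.lt_or_ge p 154020 with h301 | h301
  · exact (Table.relOK_iff chkPaths 153510 510).mp Cfsg.Agent.Lib.Helper28.TCFi24L27.rel301 p (by omega) (by omega) _ hm
  rcases Nat.lt_or_ge p 154530 with h302 | h302
  · exact (Table.relOK_iff chkPaths 154020 510).mp Cfsg.Agent.Lib.Helper28.TCFi24L27.rel302 p (by omega) (by omega) _ hm
  rcases Nat.lt_or_ge p 155040 with h303 | h303
  · exact (Table.relOK_iff chkPaths 154530 510).mp Cfsg.Agent.Lib.Helper28.TCFi24L27.rel303 p (by omega) (by omega) _ hm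
  rcases Nat.lt_or_ge p 155550 with h304 | h304
  · exact (Table.relOK_iff chkPaths 155040 510).mp Cfsg.Agent.Lib.Helper28.TCFi24L27.rel304 p (by omega) (by omega) _ hm
  rcases Nat.lt_or_ge p 156060 with h305 | h305
  · exact (Table.relOK_iff chkPaths 155550 510).mp Cfsg.Agent.Lib.Helper28.TCFi24L27.rel305 p (by omega) (by omega) _ hm
  rcases Nat.lt_or_ge p 156570 with h306 | h306
  · exact (Table.relOK_iff chkPaths 156060 510).mp Cfsg.Agent.Lib.Helper28.TCFi24L27.rel306 p (by omega) (by omega) _ hm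
  rcases Nat.lt_or_ge p 157080 with h307 | h307
  · exact (Table.relOK_iff chkPaths 156570 510).mp Cfsg.Agent.Lib.Helper28.TCFi24L27.rel307 p (by omega) (by omega) _ hm
  rcases Nat.lt_or_ge p 157590 with h308 | h308
  · exact (Table.relOK_iff chkPaths 157080 510).mp Cfsg.Agent.Lib.Helper28.TCFi24L28.rel308 p (by omega) (by omega) _ hm
  rcases Nat.lt_or_ge p 158100 with h309 | h309
  · exact (Table.relOK_iff chkPaths 157590 510).mp Cfsg.Agent.Lib.Helper28.TCFi24L28.rel309 p (by omega) (by omega) _ hm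
  rcases Nat.lt_or_ge p 158610 with h310 | h310
  · exact (Table.relOK_iff chkPaths 158100 510).mp Cfsg.Agent.Lib.Helper28.TCFi24L28.rel310 p (by omega) (by omega) _ hm
  rcases Nat.lt_or_ge p 159120 with h311 | h311
  · exact (Table.relOK_iff chkPaths 158610 510).mp Cfsg.Agent.Lib.Helper28.TCFi24L28.rel311 p (by omega) (by omega) _ hm
  rcases Nat.lt_or_ge p 159630 with h312 | h312
  · exact (Table.relOK_iff chkPaths 159120 510).mp Cfsg.Agent.Lib.Helper28.TCFi24L28.rel312 p (by omega) (by omega) _ hm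
  rcases Nat.lt_or_ge p 160140 with h313 | h313
  · exact (Table.relOK_iff chkPaths 159630 510).mp Cfsg.Agent.Lib.Helper28.TCFi24L28.rel313 p (by omega) (by omega) _ hm
  rcases Nat.lt_or_ge p 160650 with h314 | h314
  · exact (Table.relOK_iff chkPaths 160140 510).mp Cfsg.Agent.Lib.Helper28.TCFi24L28.rel314 p (by omega) (by omega) _ hm
  rcases Nat.lt_or_ge p 161160 with h315 | h315
  · exact (Table.relOK_iff chkPaths 160650 510).mp Cfsg.Agent.Lib.Helper28.TCFi24L28.rel315 p (by omega) (by omega) _ hm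
  rcases Nat.lt_or_ge p 161670 with h316 | h316
  · exact (Table.relOK_iff chkPaths 161160 510).mp Cfsg.Agent.Lib.Helper28.TCFi24L28.rel316 p (by omega) (by omega) _ hm
  rcases Nat.lt_or_ge p 162180 with h317 | h317
  · exact (Table.relOK_iff chkPaths 161670 510).mp Cfsg.Agent.Lib.Helper28.TCFi24L28.rel317 p (by omega) (by omega) _ hm
  rcases Nat.lt_or_ge p 162690 with h318 | h318
  · exact (Table.relOK_iff chkPaths 162180 510).mp Cfsg.Agent.Lib.Helper28.TCFi24L28.rel318 p (by omega) (by omega) _ hm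
  rcases Nat.lt_or_ge p 163200 with h319 | h319
  · exact (Table.relOK_iff chkPaths 162690 510).mp Cfsg.Agent.Lib.Helper28.TCFi24L29.rel319 p (by omega) (by omega) _ hm
  rcases Nat.lt_or_ge p 163710 with h320 | h320
  · exact (Table.relOK_iff chkPaths 163200 510).mp Cfsg.Agent.Lib.Helper28.TCFi24L29.rel320 p (by omega) (by omega) _ hm
  rcases Nat.lt_or_ge p 164220 with h321 | h321
  · exact (Table.relOK_iff chkPaths 163710 510).mp Cfsg.Agent.Lib.Helper28.TCFi24L29.rel321 p (by omega) (by omega) _ hm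
  rcases Nat.lt_or_ge p 164730 with h322 | h322
  · exact (Table.relOK_iff chkPaths 164220 510).mp Cfsg.Agent.Lib.Helper28.TCFi24L29.rel322 p (by omega) (by omega) _ hm
  rcases Nat.lt_or_ge p 165240 with h323 | h323
  · exact (Table.relOK_iff chkPaths 164730 510).mp Cfsg.Agent.Lib.Helper28.TCFi24L29.rel323 p (by omega) (by omega) _ hm
  rcases Nat.lt_or_ge p 165750 with h324 | h324
  · exact (Table.relOK_iff chkPaths 165240 510).mp Cfsg.Agent.Lib.Helper28.TCFi24L29.rel324 p (by omega) (by omega) _ hm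
  rcases Nat.lt_or_ge p 166260 with h325 | h325
  · exact (Table.relOK_iff chkPaths 165750 510).mp Cfsg.Agent.Lib.Helper28.TCFi24L29.rel325 p (by omega) (by omega) _ hm
  rcases Nat.lt_or_ge p 166770 with h326 | h326
  · exact (Table.relOK_iff chkPaths 166260 510).mp Cfsg.Agent.Lib.Helper28.TCFi24L29.rel326 p (by omega) (by omega) _ hm
  rcases Nat.lt_or_ge p 167280 with h327 | h327
  · exact (Table.relOK_iff chkPaths 166770 510).mp Cfsg.Agent.Lib.Helper28.TCFi24L29.rel327 p (by omega) (by omega) _ hm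
  rcases Nat.lt_or_ge p 167790 with h328 | h328
  · exact (Table.relOK_iff chkPaths 167280 510).mp Cfsg.Agent.Lib.Helper28.TCFi24L29.rel328 p (by omega) (by omega) _ hm
  rcases Nat.lt_or_ge p 168300 with h329 | h329
  · exact (Table.relOK_iff chkPaths 167790 510).mp Cfsg.Agent.Lib.Helper28.TCFi24L29.rel329 p (by omega) (by omega) _ hm
  rcases Nat.lt_or_ge p 168810 with h330 | h330
  · exact (Table.relOK_iff chkPaths 168300 510).mp Cfsg.Agent.Lib.Helper28.TCFi24L30.rel330 p (by omega) (by omega) _ hm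
  rcases Nat.lt_or_ge p 169320 with h331 | h331
  · exact (Table.relOK_iff chkPaths 168810 510).mp Cfsg.Agent.Lib.Helper28.TCFi24L30.rel331 p (by omega) (by omega) _ hm
  rcases Nat.lt_or_ge p 169830 with h332 | h332
  · exact (Table.relOK_iff chkPaths 169320 510).mp Cfsg.Agent.Lib.Helper28.TCFi24L30.rel332 p (by omega) (by omega) _ hm
  rcases Nat.lt_or_ge p 170340 with h333 | h333
  · exact (Table.relOK_iff chkPaths 169830 510).mp Cfsg.Agent.Lib.Helper28.TCFi24L30.rel333 p (by omega) (by omega) _ hm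
  rcases Nat.lt_or_ge p 170850 with h334 | h334
  · exact (Table.relOK_iff chkPaths 170340 510).mp Cfsg.Agent.Lib.Helper28.TCFi24L30.rel334 p (by omega) (by omega) _ hm
  rcases Nat.lt_or_ge p 171360 with h335 | h335
  · exact (Table.relOK_iff chkPaths 170850 510).mp Cfsg.Agent.Lib.Helper28.TCFi24L30.rel335 p (by omega) (by omega) _ hm
  rcases Nat.lt_or_ge p 171870 with h336 | h336
  · exact (Table.relOK_iff chkPaths 171360 510).mp Cfsg.Agent.Lib.Helper28.TCFi24L30.rel336 p (by omega) (by omega) _ hm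
  rcases Nat.lt_or_ge p 172380 with h337 | h337
  · exact (Table.relOK_iff chkPaths 171870 510).mp Cfsg.Agent.Lib.Helper28.TCFi24L30.rel337 p (by omega) (by omega) _ hm
  rcases Nat.lt_or_ge p 172890 with h338 | h338
  · exact (Table.relOK_iff chkPaths 172380 510).mp Cfsg.Agent.Lib.Helper28.TCFi24L30.rel338 p (by omega) (by omega) _ hm
  rcases Nat.lt_or_ge p 173400 with h339 | h339
  · exact (Table.relOK_iff chkPaths 172890 510).mp Cfsg.Agent.Lib.Helper28.TCFi24L30.rel339 p (by omega) (by omega) _ hm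
  rcases Nat.lt_or_ge p 173910 with h340 | h340
  · exact (Table.relOK_iff chkPaths 173400 510).mp Cfsg.Agent.Lib.Helper28.TCFi24L30.rel340 p (by omega) (by omega) _ hm
  rcases Nat.lt_or_ge p 174420 with h341 | h341
  · exact (Table.relOK_iff chkPaths 173910 510).mp Cfsg.Agent.Lib.Helper28.TCFi24L31.rel341 p (by omega) (by omega) _ hm
  rcases Nat.lt_or_ge p 174930 with h342 | h342
  · exact (Table.relOK_iff chkPaths 174420 510).mp Cfsg.Agent.Lib.Helper28.TCFi24L31.rel342 p (by omega) (by omega) _ hm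
  rcases Nat.lt_or_ge p 175440 with h343 | h343
  · exact (Table.relOK_iff chkPaths 174930 510).mp Cfsg.Agent.Lib.Helper28.TCFi24L31.rel343 p (by omega) (by omega) _ hm
  rcases Nat.lt_or_ge p 175950 with h344 | h344
  · exact (Table.relOK_iff chkPaths 175440 510).mp Cfsg.Agent.Lib.Helper28.TCFi24L31.rel344 p (by omega) (by omega) _ hm
  rcases Nat.lt_or_ge p 176460 with h345 | h345
  · exact (Table.relOK_iff chkPaths 175950 510).mp Cfsg.Agent.Lib.Helper28.TCFi24L31.rel345 p (by omega) (by omega) _ hm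
  rcases Nat.lt_or_ge p 176970 with h346 | h346
  · exact (Table.relOK_iff chkPaths 176460 510).mp Cfsg.Agent.Lib.Helper28.TCFi24L31.rel346 p (by omega) (by omega) _ hm
  rcases Nat.lt_or_ge p 177480 with h347 | h347
  · exact (Table.relOK_iff chkPaths 176970 510).mp Cfsg.Agent.Lib.Helper28.TCFi24L31.rel347 p (by omega) (by omega) _ hm
  rcases Nat.lt_or_ge p 177990 with h348 | h348
  · exact (Table.relOK_iff chkPaths 177480 510).mp Cfsg.Agent.Lib.Helper28.TCFi24L31.rel348 p (by omega) (by omega) _ hm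
  rcases Nat.lt_or_ge p 178500 with h349 | h349
  · exact (Table.relOK_iff chkPaths 177990 510).mp Cfsg.Agent.Lib.Helper28.TCFi24L31.rel349 p (by omega) (by omega) _ hm
  rcases Nat.lt_or_ge p 179010 with h350 | h350
  · exact (Table.relOK_iff chkPaths 178500 510).mp Cfsg.Agent.Lib.Helper28.TCFi24L31.rel350 p (by omega) (by omega) _ hm
  rcases Nat.lt_or_ge p 179520 with h351 | h351
  · exact (Table.relOK_iff chkPaths 179010 510).mp Cfsg.Agent.Lib.Helper28.TCFi24L31.rel351 p (by omega) (by omega) _ hm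
  rcases Nat.lt_or_ge p 180030 with h352 | h352
  · exact (Table.relOK_iff chkPaths 179520 510).mp Cfsg.Agent.Lib.Helper28.TCFi24L32.rel352 p (by omega) (by omega) _ hm
  rcases Nat.lt_or_ge p 180540 with h353 | h353
  · exact (Table.relOK_iff chkPaths 180030 510).mp Cfsg.Agent.Lib.Helper28.TCFi24L32.rel353 p (by omega) (by omega) _ hm
  rcases Nat.lt_or_ge p 181050 with h354 | h354
  · exact (Table.relOK_iff chkPaths 180540 510).mp Cfsg.Agent.Lib.Helper28.TCFi24L32.rel354 p (by omega) (by omega) _ hm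
  rcases Nat.lt_or_ge p 181560 with h355 | h355
  · exact (Table.relOK_iff chkPaths 181050 510).mp Cfsg.Agent.Lib.Helper28.TCFi24L32.rel355 p (by omega) (by omega) _ hm
  rcases Nat.lt_or_ge p 182070 with h356 | h356
  · exact (Table.relOK_iff chkPaths 181560 510).mp Cfsg.Agent.Lib.Helper28.TCFi24L32.rel356 p (by omega) (by omega) _ hm
  rcases Nat.lt_or_ge p 182580 with h357 | h357
  · exact (Table.relOK_iff chkPaths 182070 510).mp Cfsg.Agent.Lib.Helper28.TCFi24L32.rel357 p (by omega) (by omega) _ hm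
  rcases Nat.lt_or_ge p 183090 with h358 | h358
  · exact (Table.relOK_iff chkPaths 182580 510).mp Cfsg.Agent.Lib.Helper28.TCFi24L32.rel358 p (by omega) (by omega) _ hm
  rcases Nat.lt_or_ge p 183600 with h359 | h359
  · exact (Table.relOK_iff chkPaths 183090 510).mp Cfsg.Agent.Lib.Helper28.TCFi24L32.rel359 p (by omega) (by omega) _ hm
  rcases Nat.lt_or_ge p 184110 with h360 | h360
  · exact (Table.relOK_iff chkPaths 183600 510).mp Cfsg.Agent.Lib.Helper28.TCFi24L32.rel360 p (by omega) (by omega) _ hm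
  rcases Nat.lt_or_ge p 184620 with h361 | h361
  · exact (Table.relOK_iff chkPaths 184110 510).mp Cfsg.Agent.Lib.Helper28.TCFi24L32.rel361 p (by omega) (by omega) _ hm
  rcases Nat.lt_or_ge p 185130 with h362 | h362
  · exact (Table.relOK_iff chkPaths 184620 510).mp Cfsg.Agent.Lib.Helper28.TCFi24L32.rel362 p (by omega) (by omega) _ hm
  rcases Nat.lt_or_ge p 185640 with h363 | h363
  · exact (Table.relOK_iff chkPaths 185130 510).mp Cfsg.Agent.Lib.Helper28.TCFi24L33.rel363 p (by omega) (by omega) _ hm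
  rcases Nat.lt_or_ge p 186150 with h364 | h364
  · exact (Table.relOK_iff chkPaths 185640 510).mp Cfsg.Agent.Lib.Helper28.TCFi24L33.rel364 p (by omega) (by omega) _ hm
  rcases Nat.lt_or_ge p 186660 with h365 | h365
  · exact (Table.relOK_iff chkPaths 186150 510).mp Cfsg.Agent.Lib.Helper28.TCFi24L33.rel365 p (by omega) (by omega) _ hm
  rcases Nat.lt_or_ge p 187170 with h366 | h366
  · exact (Table.relOK_iff chkPaths 186660 510).mp Cfsg.Agent.Lib.Helper28.TCFi24L33.rel366 p (by omega) (by omega) _ hm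
  rcases Nat.lt_or_ge p 187680 with h367 | h367
  · exact (Table.relOK_iff chkPaths 187170 510).mp Cfsg.Agent.Lib.Helper28.TCFi24L33.rel367 p (by omega) (by omega) _ hm
  rcases Nat.lt_or_ge p 188190 with h368 | h368
  · exact (Table.relOK_iff chkPaths 187680 510).mp Cfsg.Agent.Lib.Helper28.TCFi24L33.rel368 p (by omega) (by omega) _ hm
  rcases Nat.lt_or_ge p 188700 with h369 | h369
  · exact (Table.relOK_iff chkPaths 188190 510).mp Cfsg.Agent.Lib.Helper28.TCFi24L33.rel369 p (by omega) (by omega) _ hm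
  rcases Nat.lt_or_ge p 189210 with h370 | h370
  · exact (Table.relOK_iff chkPaths 188700 510).mp Cfsg.Agent.Lib.Helper28.TCFi24L33.rel370 p (by omega) (by omega) _ hm
  rcases Nat.lt_or_ge p 189720 with h371 | h371
  · exact (Table.relOK_iff chkPaths 189210 510).mp Cfsg.Agent.Lib.Helper28.TCFi24L33.rel371 p (by omega) (by omega) _ hm
  rcases Nat.lt_or_ge p 190230 with h372 | h372
  · exact (Table.relOK_iff chkPaths 189720 510).mp Cfsg.Agent.Lib.Helper28.TCFi24L33.rel372 p (by omega) (by omega) _ hm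
  rcases Nat.lt_or_ge p 190740 with h373 | h373
  · exact (Table.relOK_iff chkPaths 190230 510).mp Cfsg.Agent.Lib.Helper28.TCFi24L33.rel373 p (by omega) (by omega) _ hm
  rcases Nat.lt_or_ge p 191250 with h374 | h374
  · exact (Table.relOK_iff chkPaths 190740 510).mp Cfsg.Agent.Lib.Helper28.TCFi24L34.rel374 p (by omega) (by omega) _ hm
  rcases Nat.lt_or_ge p 191760 with h375 | h375
  · exact (Table.relOK_iff chkPaths 191250 510).mp Cfsg.Agent.Lib.Helper28.TCFi24L34.rel375 p (by omega) (by omega) _ hm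
  rcases Nat.lt_or_ge p 192270 with h376 | h376
  · exact (Table.relOK_iff chkPaths 191760 510).mp Cfsg.Agent.Lib.Helper28.TCFi24L34.rel376 p (by omega) (by omega) _ hm
  rcases Nat.lt_or_ge p 192780 with h377 | h377
  · exact (Table.relOK_iff chkPaths 192270 510).mp Cfsg.Agent.Lib.Helper28.TCFi24L34.rel377 p (by omega) (by omega) _ hm
  rcases Nat.lt_or_ge p 193290 with h378 | h378
  · exact (Table.relOK_iff chkPaths 192780 510).mp Cfsg.Agent.Lib.Helper28.TCFi24L34.rel378 p (by omega) (by omega) _ hm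
  rcases Nat.lt_or_ge p 193800 with h379 | h379
  · exact (Table.relOK_iff chkPaths 193290 510).mp Cfsg.Agent.Lib.Helper28.TCFi24L34.rel379 p (by omega) (by omega) _ hm
  rcases Nat.lt_or_ge p 194310 with h380 | h380
  · exact (Table.relOK_iff chkPaths 193800 510).mp Cfsg.Agent.Lib.Helper28.TCFi24L34.rel380 p (by omega) (by omega) _ hm
  rcases Nat.lt_or_ge p 194820 with h381 | h381
  · exact (Table.relOK_iff chkPaths 194310 510).mp Cfsg.Agent.Lib.Helper28.TCFi24L34.rel381 p (by omega) (by omega) _ hm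
  rcases Nat.lt_or_ge p 195330 with h382 | h382
  · exact (Table.relOK_iff chkPaths 194820 510).mp Cfsg.Agent.Lib.Helper28.TCFi24L34.rel382 p (by omega) (by omega) _ hm
  rcases Nat.lt_or_ge p 195840 with h383 | h383
  · exact (Table.relOK_iff chkPaths 195330 510).mp Cfsg.Agent.Lib.Helper28.TCFi24L34.rel383 p (by omega) (by omega) _ hm
  rcases Nat.lt_or_ge p 196350 with h384 | h384
  · exact (Table.relOK_iff chkPaths 195840 510).mp Cfsg.Agent.Lib.Helper28.TCFi24L34.rel384 p (by omega) (by omega) _ hm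
  rcases Nat.lt_or_ge p 196860 with h385 | h385
  · exact (Table.relOK_iff chkPaths 196350 510).mp Cfsg.Agent.Lib.Helper28.TCFi24L35.rel385 p (by omega) (by omega) _ hm
  rcases Nat.lt_or_ge p 197370 with h386 | h386
  · exact (Table.relOK_iff chkPaths 196860 510).mp Cfsg.Agent.Lib.Helper28.TCFi24L35.rel386 p (by omega) (by omega) _ hm
  rcases Nat.lt_or_ge p 197880 with h387 | h387
  · exact (Table.relOK_iff chkPaths 197370 510).mp Cfsg.Agent.Lib.Helper28.TCFi24L35.rel387 p (by omega) (by omega) _ hm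
  rcases Nat.lt_or_ge p 198390 with h388 | h388
  · exact (Table.relOK_iff chkPaths 197880 510).mp Cfsg.Agent.Lib.Helper28.TCFi24L35.rel388 p (by omega) (by omega) _ hm
  rcases Nat.lt_or_ge p 198900 with h389 | h389
  · exact (Table.relOK_iff chkPaths 198390 510).mp Cfsg.Agent.Lib.Helper28.TCFi24L35.rel389 p (by omega) (by omega) _ hm
  rcases Nat.lt_or_ge p 199410 with h390 | h390
  · exact (Table.relOK_iff chkPaths 198900 510).mp Cfsg.Agent.Lib.Helper28.TCFi24L35.rel390 p (by omega) (by omega) _ hm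
  rcases Nat.lt_or_ge p 199920 with h391 | h391
  · exact (Table.relOK_iff chkPaths 199410 510).mp Cfsg.Agent.Lib.Helper28.TCFi24L35.rel391 p (by omega) (by omega) _ hm
  rcases Nat.lt_or_ge p 200430 with h392 | h392
  · exact (Table.relOK_iff chkPaths 199920 510).mp Cfsg.Agent.Lib.Helper28.TCFi24L35.rel392 p (by omega) (by omega) _ hm
  rcases Nat.lt_or_ge p 200940 with h393 | h393
  · exact (Table.relOK_iff chkPaths 200430 510).mp Cfsg.Agent.Lib.Helper28.TCFi24L35.rel393 p (by omega) (by omega) _ hm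
  rcases Nat.lt_or_ge p 201450 with h394 | h394
  · exact (Table.relOK_iff chkPaths 200940 510).mp Cfsg.Agent.Lib.Helper28.TCFi24L35.rel394 p (by omega) (by omega) _ hm
  rcases Nat.lt_or_ge p 201960 with h395 | h395
  · exact (Table.relOK_iff chkPaths 201450 510).mp Cfsg.Agent.Lib.Helper28.TCFi24L35.rel395 p (by omega) (by omega) _ hm
  rcases Nat.lt_or_ge p 202470 with h396 | h396
  · exact (Table.relOK_iff chkPaths 201960 510).mp Cfsg.Agent.Lib.Helper28.TCFi24L36.rel396 p (by omega) (by omega) _ hm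
  rcases Nat.lt_or_ge p 202980 with h397 | h397
  · exact (Table.relOK_iff chkPaths 202470 510).mp Cfsg.Agent.Lib.Helper28.TCFi24L36.rel397 p (by omega) (by omega) _ hm
  rcases Nat.lt_or_ge p 203490 with h398 | h398
  · exact (Table.relOK_iff chkPaths 202980 510).mp Cfsg.Agent.Lib.Helper28.TCFi24L36.rel398 p (by omega) (by omega) _ hm
  rcases Nat.lt_or_ge p 204000 with h399 | h399
  · exact (Table.relOK_iff chkPaths 203490 510).mp Cfsg.Agent.Lib.Helper28.TCFi24L36.rel399 p (by omega) (by omega) _ hm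
  rcases Nat.lt_or_ge p 204510 with h400 | h400
  · exact (Table.relOK_iff chkPaths 204000 510).mp Cfsg.Agent.Lib.Helper28.TCFi24L36.rel400 p (by omega) (by omega) _ hm
  rcases Nat.lt_or_ge p 205020 with h401 | h401
  · exact (Table.relOK_iff chkPaths 204510 510).mp Cfsg.Agent.Lib.Helper28.TCFi24L36.rel401 p (by omega) (by omega) _ hm
  rcases Nat.lt_or_ge p 205530 with h402 | h402
  · exact (Table.relOK_iff chkPaths 205020 510).mp Cfsg.Agent.Lib.Helper28.TCFi24L36.rel402 p (by omega) (by omega) _ hm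
  rcases Nat.lt_or_ge p 206040 with h403 | h403
  · exact (Table.relOK_iff chkPaths 205530 510).mp Cfsg.Agent.Lib.Helper28.TCFi24L36.rel403 p (by omega) (by omega) _ hm
  rcases Nat.lt_or_ge p 206550 with h404 | h404
  · exact (Table.relOK_iff chkPaths 206040 510).mp Cfsg.Agent.Lib.Helper28.TCFi24L36.rel404 p (by omega) (by omega) _ hm
  rcases Nat.lt_or_ge p 207060 with h405 | h405
  · exact (Table.relOK_iff chkPaths 206550 510).mp Cfsg.Agent.Lib.Helper28.TCFi24L36.rel405 p (by omega) (by omega) _ hm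
  rcases Nat.lt_or_ge p 207570 with h406 | h406
  · exact (Table.relOK_iff chkPaths 207060 510).mp Cfsg.Agent.Lib.Helper28.TCFi24L36.rel406 p (by omega) (by omega) _ hm
  rcases Nat.lt_or_ge p 208080 with h407 | h407
  · exact (Table.relOK_iff chkPaths 207570 510).mp Cfsg.Agent.Lib.Helper28.TCFi24L37.rel407 p (by omega) (by omega) _ hm
  rcases Nat.lt_or_ge p 208590 with h408 | h408
  · exact (Table.relOK_iff chkPaths 208080 510).mp Cfsg.Agent.Lib.Helper28.TCFi24L37.rel408 p (by omega) (by omega) _ hm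
  rcases Nat.lt_or_ge p 209100 with h409 | h409
  · exact (Table.relOK_iff chkPaths 208590 510).mp Cfsg.Agent.Lib.Helper28.TCFi24L37.rel409 p (by omega) (by omega) _ hm
  rcases Nat.lt_or_ge p 209610 with h410 | h410
  · exact (Table.relOK_iff chkPaths 209100 510).mp Cfsg.Agent.Lib.Helper28.TCFi24L37.rel410 p (by omega) (by omega) _ hm
  rcases Nat.lt_or_ge p 210120 with h411 | h411
  · exact (Table.relOK_iff chkPaths 209610 510).mp Cfsg.Agent.Lib.Helper28.TCFi24L37.rel411 p (by omega) (by omega) _ hm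
  rcases Nat.lt_or_ge p 210630 with h412 | h412
  · exact (Table.relOK_iff chkPaths 210120 510).mp Cfsg.Agent.Lib.Helper28.TCFi24L37.rel412 p (by omega) (by omega) _ hm
  rcases Nat.lt_or_ge p 211140 with h413 | h413
  · exact (Table.relOK_iff chkPaths 210630 510).mp Cfsg.Agent.Lib.Helper28.TCFi24L37.rel413 p (by omega) (by omega) _ hm
  rcases Nat.lt_or_ge p 211650 with h414 | h414
  · exact (Table.relOK_iff chkPaths 211140 510).mp Cfsg.Agent.Lib.Helper28.TCFi24L37.rel414 p (by omega) (by omega) _ hm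
  rcases Nat.lt_or_ge p 212160 with h415 | h415
  · exact (Table.relOK_iff chkPaths 211650 510).mp Cfsg.Agent.Lib.Helper28.TCFi24L37.rel415 p (by omega) (by omega) _ hm
  rcases Nat.lt_or_ge p 212670 with h416 | h416
  · exact (Table.relOK_iff chkPaths 212160 510).mp Cfsg.Agent.Lib.Helper28.TCFi24L37.rel416 p (by omega) (by omega) _ hm
  rcases Nat.lt_or_ge p 213180 with h417 | h417
  · exact (Table.relOK_iff chkPaths 212670 510).mp Cfsg.Agent.Lib.Helper28.TCFi24L37.rel417 p (by omega) (by omega) _ hm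
  rcases Nat.lt_or_ge p 213690 with h418 | h418
  · exact (Table.relOK_iff chkPaths 213180 510).mp Cfsg.Agent.Lib.Helper28.TCFi24L38.rel418 p (by omega) (by omega) _ hm
  rcases Nat.lt_or_ge p 214200 with h419 | h419
  · exact (Table.relOK_iff chkPaths 213690 510).mp Cfsg.Agent.Lib.Helper28.TCFi24L38.rel419 p (by omega) (by omega) _ hm
  rcases Nat.lt_or_ge p 214710 with h420 | h420
  · exact (Table.relOK_iff chkPaths 214200 510).mp Cfsg.Agent.Lib.Helper28.TCFi24L38.rel420 p (by omega) (by omega) _ hm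
  rcases Nat.lt_or_ge p 215220 with h421 | h421
  · exact (Table.relOK_iff chkPaths 214710 510).mp Cfsg.Agent.Lib.Helper28.TCFi24L38.rel421 p (by omega) (by omega) _ hm
  rcases Nat.lt_or_ge p 215730 with h422 | h422
  · exact (Table.relOK_iff chkPaths 215220 510).mp Cfsg.Agent.Lib.Helper28.TCFi24L38.rel422 p (by omega) (by omega) _ hm
  rcases Nat.lt_or_ge p 216240 with h423 | h423
  · exact (Table.relOK_iff chkPaths 215730 510).mp Cfsg.Agent.Lib.Helper28.TCFi24L38.rel423 p (by omega) (by omega) _ hm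
  rcases Nat.lt_or_ge p 216750 with h424 | h424
  · exact (Table.relOK_iff chkPaths 216240 510).mp Cfsg.Agent.Lib.Helper28.TCFi24L38.rel424 p (by omega) (by omega) _ hm
  rcases Nat.lt_or_ge p 217260 with h425 | h425
  · exact (Table.relOK_iff chkPaths 216750 510).mp Cfsg.Agent.Lib.Helper28.TCFi24L38.rel425 p (by omega) (by omega) _ hm
  rcases Nat.lt_or_ge p 217770 with h426 | h426
  · exact (Table.relOK_iff chkPaths 217260 510).mp Cfsg.Agent.Lib.Helper28.TCFi24L38.rel426 p (by omega) (by omega) _ hm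
  rcases Nat.lt_or_ge p 218280 with h427 | h427
  · exact (Table.relOK_iff chkPaths 217770 510).mp Cfsg.Agent.Lib.Helper28.TCFi24L38.rel427 p (by omega) (by omega) _ hm
  rcases Nat.lt_or_ge p 218790 with h428 | h428
  · exact (Table.relOK_iff chkPaths 218280 510).mp Cfsg.Agent.Lib.Helper28.TCFi24L38.rel428 p (by omega) (by omega) _ hm
  rcases Nat.lt_or_ge p 219300 with h429 | h429
  · exact (Table.relOK_iff chkPaths 218790 510).mp Cfsg.Agent.Lib.Helper28.TCFi24L39.rel429 p (by omega) (by omega) _ hm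
  rcases Nat.lt_or_ge p 219810 with h430 | h430
  · exact (Table.relOK_iff chkPaths 219300 510).mp Cfsg.Agent.Lib.Helper28.TCFi24L39.rel430 p (by omega) (by omega) _ hm
  rcases Nat.lt_or_ge p 220320 with h431 | h431
  · exact (Table.relOK_iff chkPaths 219810 510).mp Cfsg.Agent.Lib.Helper28.TCFi24L39.rel431 p (by omega) (by omega) _ hm
  rcases Nat.lt_or_ge p 220830 with h432 | h432
  · exact (Table.relOK_iff chkPaths 220320 510).mp Cfsg.Agent.Lib.Helper28.TCFi24L39.rel432 p (by omega) (by omega) _ hm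
  rcases Nat.lt_or_ge p 221340 with h433 | h433
  · exact (Table.relOK_iff chkPaths 220830 510).mp Cfsg.Agent.Lib.Helper28.TCFi24L39.rel433 p (by omega) (by omega) _ hm
  rcases Nat.lt_or_ge p 221850 with h434 | h434
  · exact (Table.relOK_iff chkPaths 221340 510).mp Cfsg.Agent.Lib.Helper28.TCFi24L39.rel434 p (by omega) (by omega) _ hm
  rcases Nat.lt_or_ge p 222360 with h435 | h435
  · exact (Table.relOK_iff chkPaths 221850 510).mp Cfsg.Agent.Lib.Helper28.TCFi24L39.rel435 p (by omega) (by omega) _ hm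
  rcases Nat.lt_or_ge p 222870 with h436 | h436
  · exact (Table.relOK_iff chkPaths 222360 510).mp Cfsg.Agent.Lib.Helper28.TCFi24L39.rel436 p (by omega) (by omega) _ hm
  rcases Nat.lt_or_ge p 223380 with h437 | h437
  · exact (Table.relOK_iff chkPaths 222870 510).mp Cfsg.Agent.Lib.Helper28.TCFi24L39.rel437 p (by omega) (by omega) _ hm
  rcases Nat.lt_or_ge p 223890 with h438 | h438
  · exact (Table.relOK_iff chkPaths 223380 510).mp Cfsg.Agent.Lib.Helper28.TCFi24L39.rel438 p (by omega) (by omega) _ hm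
  rcases Nat.lt_or_ge p 224400 with h439 | h439
  · exact (Table.relOK_iff chkPaths 223890 510).mp Cfsg.Agent.Lib.Helper28.TCFi24L39.rel439 p (by omega) (by omega) _ hm
  rcases Nat.lt_or_ge p 224910 with h440 | h440
  · exact (Table.relOK_iff chkPaths 224400 510).mp Cfsg.Agent.Lib.Helper28.TCFi24L40.rel440 p (by omega) (by omega) _ hm
  rcases Nat.lt_or_ge p 225420 with h441 | h441
  · exact (Table.relOK_iff chkPaths 224910 510).mp Cfsg.Agent.Lib.Helper28.TCFi24L40.rel441 p (by omega) (by omega) _ hm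
  rcases Nat.lt_or_ge p 225930 with h442 | h442
  · exact (Table.relOK_iff chkPaths 225420 510).mp Cfsg.Agent.Lib.Helper28.TCFi24L40.rel442 p (by omega) (by omega) _ hm
  rcases Nat.lt_or_ge p 226440 with h443 | h443
  · exact (Table.relOK_iff chkPaths 225930 510).mp Cfsg.Agent.Lib.Helper28.TCFi24L40.rel443 p (by omega) (by omega) _ hm
  rcases Nat.lt_or_ge p 226950 with h444 | h444
  · exact (Table.relOK_iff chkPaths 226440 510).mp Cfsg.Agent.Lib.Helper28.TCFi24L40.rel444 p (by omega) (by omega) _ hm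
  rcases Nat.lt_or_ge p 227460 with h445 | h445
  · exact (Table.relOK_iff chkPaths 226950 510).mp Cfsg.Agent.Lib.Helper28.TCFi24L40.rel445 p (by omega) (by omega) _ hm
  rcases Nat.lt_or_ge p 227970 with h446 | h446
  · exact (Table.relOK_iff chkPaths 227460 510).mp Cfsg.Agent.Lib.Helper28.TCFi24L40.rel446 p (by omega) (by omega) _ hm
  rcases Nat.lt_or_ge p 228480 with h447 | h447
  · exact (Table.relOK_iff chkPaths 227970 510).mp Cfsg.Agent.Lib.Helper28.TCFi24L40.rel447 p (by omega) (by omega) _ hm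
  rcases Nat.lt_or_ge p 228990 with h448 | h448
  · exact (Table.relOK_iff chkPaths 228480 510).mp Cfsg.Agent.Lib.Helper28.TCFi24L40.rel448 p (by omega) (by omega) _ hm
  rcases Nat.lt_or_ge p 229500 with h449 | h449
  · exact (Table.relOK_iff chkPaths 228990 510).mp Cfsg.Agent.Lib.Helper28.TCFi24L40.rel449 p (by omega) (by omega) _ hm
  rcases Nat.lt_or_ge p 230010 with h450 | h450
  · exact (Table.relOK_iff chkPaths 229500 510).mp Cfsg.Agent.Lib.Helper28.TCFi24L40.rel450 p (by omega) (by omega) _ hm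
  rcases Nat.lt_or_ge p 230520 with h451 | h451
  · exact (Table.relOK_iff chkPaths 230010 510).mp Cfsg.Agent.Lib.Helper28.TCFi24L41.rel451 p (by omega) (by omega) _ hm
  rcases Nat.lt_or_ge p 231030 with h452 | h452
  · exact (Table.relOK_iff chkPaths 230520 510).mp Cfsg.Agent.Lib.Helper28.TCFi24L41.rel452 p (by omega) (by omega) _ hm
  rcases Nat.lt_or_ge p 231540 with h453 | h453
  · exact (Table.relOK_iff chkPaths 231030 510).mp Cfsg.Agent.Lib.Helper28.TCFi24L41.rel453 p (by omega) (by omega) _ hm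
  rcases Nat.lt_or_ge p 232050 with h454 | h454
  · exact (Table.relOK_iff chkPaths 231540 510).mp Cfsg.Agent.Lib.Helper28.TCFi24L41.rel454 p (by omega) (by omega) _ hm
  rcases Nat.lt_or_ge p 232560 with h455 | h455
  · exact (Table.relOK_iff chkPaths 232050 510).mp Cfsg.Agent.Lib.Helper28.TCFi24L41.rel455 p (by omega) (by omega) _ hm
  rcases Nat.lt_or_ge p 233070 with h456 | h456
  · exact (Table.relOK_iff chkPaths 232560 510).mp Cfsg.Agent.Lib.Helper28.TCFi24L41.rel456 p (by omega) (by omega) _ hm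
  rcases Nat.lt_or_ge p 233580 with h457 | h457
  · exact (Table.relOK_iff chkPaths 233070 510).mp Cfsg.Agent.Lib.Helper28.TCFi24L41.rel457 p (by omega) (by omega) _ hm
  rcases Nat.lt_or_ge p 234090 with h458 | h458
  · exact (Table.relOK_iff chkPaths 233580 510).mp Cfsg.Agent.Lib.Helper28.TCFi24L41.rel458 p (by omega) (by omega) _ hm
  rcases Nat.lt_or_ge p 234600 with h459 | h459
  · exact (Table.relOK_iff chkPaths 234090 510).mp Cfsg.Agent.Lib.Helper28.TCFi24L41.rel459 p (by omega) (by omega) _ hm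
  rcases Nat.lt_or_ge p 235110 with h460 | h460
  · exact (Table.relOK_iff chkPaths 234600 510).mp Cfsg.Agent.Lib.Helper28.TCFi24L41.rel460 p (by omega) (by omega) _ hm
  rcases Nat.lt_or_ge p 235620 with h461 | h461
  · exact (Table.relOK_iff chkPaths 235110 510).mp Cfsg.Agent.Lib.Helper28.TCFi24L41.rel461 p (by omega) (by omega) _ hm
  rcases Nat.lt_or_ge p 236130 with h462 | h462
  · exact (Table.relOK_iff chkPaths 235620 510).mp Cfsg.Agent.Lib.Helper28.TCFi24L42.rel462 p (by omega) (by omega) _ hm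
  rcases Nat.lt_or_ge p 236640 with h463 | h463
  · exact (Table.relOK_iff chkPaths 236130 510).mp Cfsg.Agent.Lib.Helper28.TCFi24L42.rel463 p (by omega) (by omega) _ hm
  rcases Nat.lt_or_ge p 237150 with h464 | h464
  · exact (Table.relOK_iff chkPaths 236640 510).mp Cfsg.Agent.Lib.Helper28.TCFi24L42.rel464 p (by omega) (by omega) _ hm
  rcases Nat.lt_or_ge p 237660 with h465 | h465
  · exact (Table.relOK_iff chkPaths 237150 510).mp Cfsg.Agent.Lib.Helper28.TCFi24L42.rel465 p (by omega) (by omega) _ hm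
  rcases Nat.lt_or_ge p 238170 with h466 | h466
  · exact (Table.relOK_iff chkPaths 237660 510).mp Cfsg.Agent.Lib.Helper28.TCFi24L42.rel466 p (by omega) (by omega) _ hm
  rcases Nat.lt_or_ge p 238680 with h467 | h467
  · exact (Table.relOK_iff chkPaths 238170 510).mp Cfsg.Agent.Lib.Helper28.TCFi24L42.rel467 p (by omega) (by omega) _ hm
  rcases Nat.lt_or_ge p 239190 with h468 | h468
  · exact (Table.relOK_iff chkPaths 238680 510).mp Cfsg.Agent.Lib.Helper28.TCFi24L42.rel468 p (by omega) (by omega) _ hm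
  rcases Nat.lt_or_ge p 239700 with h469 | h469
  · exact (Table.relOK_iff chkPaths 239190 510).mp Cfsg.Agent.Lib.Helper28.TCFi24L42.rel469 p (by omega) (by omega) _ hm
  rcases Nat.lt_or_ge p 240210 with h470 | h470
  · exact (Table.relOK_iff chkPaths 239700 510).mp Cfsg.Agent.Lib.Helper28.TCFi24L42.rel470 p (by omega) (by omega) _ hm
  rcases Nat.lt_or_ge p 240720 with h471 | h471
  · exact (Table.relOK_iff chkPaths 240210 510).mp Cfsg.Agent.Lib.Helper28.TCFi24L42.rel471 p (by omega) (by omega) _ hm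
  rcases Nat.lt_or_ge p 241230 with h472 | h472
  · exact (Table.relOK_iff chkPaths 240720 510).mp Cfsg.Agent.Lib.Helper28.TCFi24L42.rel472 p (by omega) (by omega) _ hm
  rcases Nat.lt_or_ge p 241740 with h473 | h473
  · exact (Table.relOK_iff chkPaths 241230 510).mp Cfsg.Agent.Lib.Helper28.TCFi24L43.rel473 p (by omega) (by omega) _ hm
  rcases Nat.lt_or_ge p 242250 with h474 | h474
  · exact (Table.relOK_iff chkPaths 241740 510).mp Cfsg.Agent.Lib.Helper28.TCFi24L43.rel474 p (by omega) (by omega) _ hm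
  rcases Nat.lt_or_ge p 242760 with h475 | h475
  · exact (Table.relOK_iff chkPaths 242250 510).mp Cfsg.Agent.Lib.Helper28.TCFi24L43.rel475 p (by omega) (by omega) _ hm
  rcases Nat.lt_or_ge p 243270 with h476 | h476
  · exact (Table.relOK_iff chkPaths 242760 510).mp Cfsg.Agent.Lib.Helper28.TCFi24L43.rel476 p (by omega) (by omega) _ hm
  rcases Nat.lt_or_ge p 243780 with h477 | h477
  · exact (Table.relOK_iff chkPaths 243270 510).mp Cfsg.Agent.Lib.Helper28.TCFi24L43.rel477 p (by omega) (by omega) _ hm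
  rcases Nat.lt_or_ge p 244290 with h478 | h478
  · exact (Table.relOK_iff chkPaths 243780 510).mp Cfsg.Agent.Lib.Helper28.TCFi24L43.rel478 p (by omega) (by omega) _ hm
  rcases Nat.lt_or_ge p 244800 with h479 | h479
  · exact (Table.relOK_iff chkPaths 244290 510).mp Cfsg.Agent.Lib.Helper28.TCFi24L43.rel479 p (by omega) (by omega) _ hm
  rcases Nat.lt_or_ge p 245310 with h480 | h480
  · exact (Table.relOK_iff chkPaths 244800 510).mp Cfsg.Agent.Lib.Helper28.TCFi24L43.rel480 p (by omega) (by omega) _ hm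
  rcases Nat.lt_or_ge p 245820 with h481 | h481
  · exact (Table.relOK_iff chkPaths 245310 510).mp Cfsg.Agent.Lib.Helper28.TCFi24L43.rel481 p (by omega) (by omega) _ hm
  rcases Nat.lt_or_ge p 246330 with h482 | h482
  · exact (Table.relOK_iff chkPaths 245820 510).mp Cfsg.Agent.Lib.Helper28.TCFi24L43.rel482 p (by omega) (by omega) _ hm
  rcases Nat.lt_or_ge p 246840 with h483 | h483
  · exact (Table.relOK_iff chkPaths 246330 510).mp Cfsg.Agent.Lib.Helper28.TCFi24L43.rel483 p (by omega) (by omega) _ hm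
  rcases Nat.lt_or_ge p 247350 with h484 | h484
  · exact (Table.relOK_iff chkPaths 246840 510).mp Cfsg.Agent.Lib.Helper28.TCFi24L44.rel484 p (by omega) (by omega) _ hm
  rcases Nat.lt_or_ge p 247860 with h485 | h485
  · exact (Table.relOK_iff chkPaths 247350 510).mp Cfsg.Agent.Lib.Helper28.TCFi24L44.rel485 p (by omega) (by omega) _ hm
  rcases Nat.lt_or_ge p 248370 with h486 | h486
  · exact (Table.relOK_iff chkPaths 247860 510).mp Cfsg.Agent.Lib.Helper28.TCFi24L44.rel486 p (by omega) (by omega) _ hm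
  rcases Nat.lt_or_ge p 248880 with h487 | h487
  · exact (Table.relOK_iff chkPaths 248370 510).mp Cfsg.Agent.Lib.Helper28.TCFi24L44.rel487 p (by omega) (by omega) _ hm
  rcases Nat.lt_or_ge p 249390 with h488 | h488
  · exact (Table.relOK_iff chkPaths 248880 510).mp Cfsg.Agent.Lib.Helper28.TCFi24L44.rel488 p (by omega) (by omega) _ hm
  rcases Nat.lt_or_ge p 249900 with h489 | h489
  · exact (Table.relOK_iff chkPaths 249390 510).mp Cfsg.Agent.Lib.Helper28.TCFi24L44.rel489 p (by omega) (by omega) _ hm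
  rcases Nat.lt_or_ge p 250410 with h490 | h490
  · exact (Table.relOK_iff chkPaths 249900 510).mp Cfsg.Agent.Lib.Helper28.TCFi24L44.rel490 p (by omega) (by omega) _ hm
  rcases Nat.lt_or_ge p 250920 with h491 | h491
  · exact (Table.relOK_iff chkPaths 250410 510).mp Cfsg.Agent.Lib.Helper28.TCFi24L44.rel491 p (by omega) (by omega) _ hm
  rcases Nat.lt_or_ge p 251430 with h492 | h492
  · exact (Table.relOK_iff chkPaths 250920 510).mp Cfsg.Agent.Lib.Helper28.TCFi24L44.rel492 p (by omega) (by omega) _ hm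
  rcases Nat.lt_or_ge p 251940 with h493 | h493
  · exact (Table.relOK_iff chkPaths 251430 510).mp Cfsg.Agent.Lib.Helper28.TCFi24L44.rel493 p (by omega) (by omega) _ hm
  rcases Nat.lt_or_ge p 252450 with h494 | h494
  · exact (Table.relOK_iff chkPaths 251940 510).mp Cfsg.Agent.Lib.Helper28.TCFi24L44.rel494 p (by omega) (by omega) _ hm
  rcases Nat.lt_or_ge p 252960 with h495 | h495
  · exact (Table.relOK_iff chkPaths 252450 510).mp Cfsg.Agent.Lib.Helper28.TCFi24L45.rel495 p (by omega) (by omega) _ hm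
  rcases Nat.lt_or_ge p 253470 with h496 | h496
  · exact (Table.relOK_iff chkPaths 252960 510).mp Cfsg.Agent.Lib.Helper28.TCFi24L45.rel496 p (by omega) (by omega) _ hm
  rcases Nat.lt_or_ge p 253980 with h497 | h497
  · exact (Table.relOK_iff chkPaths 253470 510).mp Cfsg.Agent.Lib.Helper28.TCFi24L45.rel497 p (by omega) (by omega) _ hm
  rcases Nat.lt_or_ge p 254490 with h498 | h498
  · exact (Table.relOK_iff chkPaths 253980 510).mp Cfsg.Agent.Lib.Helper28.TCFi24L45.rel498 p (by omega) (by omega) _ hm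
  rcases Nat.lt_or_ge p 255000 with h499 | h499
  · exact (Table.relOK_iff chkPaths 254490 510).mp Cfsg.Agent.Lib.Helper28.TCFi24L45.rel499 p (by omega) (by omega) _ hm
  rcases Nat.lt_or_ge p 255510 with h500 | h500
  · exact (Table.relOK_iff chkPaths 255000 510).mp Cfsg.Agent.Lib.Helper28.TCFi24L45.rel500 p (by omega) (by omega) _ hm
  rcases Nat.lt_or_ge p 256020 with h501 | h501
  · exact (Table.relOK_iff chkPaths 255510 510).mp Cfsg.Agent.Lib.Helper28.TCFi24L45.rel501 p (by omega) (by omega) _ hm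
  rcases Nat.lt_or_ge p 256530 with h502 | h502
  · exact (Table.relOK_iff chkPaths 256020 510).mp Cfsg.Agent.Lib.Helper28.TCFi24L45.rel502 p (by omega) (by omega) _ hm
  rcases Nat.lt_or_ge p 257040 with h503 | h503
  · exact (Table.relOK_iff chkPaths 256530 510).mp Cfsg.Agent.Lib.Helper28.TCFi24L45.rel503 p (by omega) (by omega) _ hm
  rcases Nat.lt_or_ge p 257550 with h504 | h504
  · exact (Table.relOK_iff chkPaths 257040 510).mp Cfsg.Agent.Lib.Helper28.TCFi24L45.rel504 p (by omega) (by omega) _ hm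
  rcases Nat.lt_or_ge p 258060 with h505 | h505
  · exact (Table.relOK_iff chkPaths 257550 510).mp Cfsg.Agent.Lib.Helper28.TCFi24L45.rel505 p (by omega) (by omega) _ hm
  rcases Nat.lt_or_ge p 258570 with h506 | h506
  · exact (Table.relOK_iff chkPaths 258060 510).mp Cfsg.Agent.Lib.Helper28.TCFi24L46.rel506 p (by omega) (by omega) _ hm
  rcases Nat.lt_or_ge p 259080 with h507 | h507
  · exact (Table.relOK_iff chkPaths 258570 510).mp Cfsg.Agent.Lib.Helper28.TCFi24L46.rel507 p (by omega) (by omega) _ hm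
  rcases Nat.lt_or_ge p 259590 with h508 | h508
  · exact (Table.relOK_iff chkPaths 259080 510).mp Cfsg.Agent.Lib.Helper28.TCFi24L46.rel508 p (by omega) (by omega) _ hm
  rcases Nat.lt_or_ge p 260100 with h509 | h509
  · exact (Table.relOK_iff chkPaths 259590 510).mp Cfsg.Agent.Lib.Helper28.TCFi24L46.rel509 p (by omega) (by omega) _ hm
  rcases Nat.lt_or_ge p 260610 with h510 | h510
  · exact (Table.relOK_iff chkPaths 260100 510).mp Cfsg.Agent.Lib.Helper28.TCFi24L46.rel510 p (by omega) (by omega) _ hm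
  rcases Nat.lt_or_ge p 261120 with h511 | h511
  · exact (Table.relOK_iff chkPaths 260610 510).mp Cfsg.Agent.Lib.Helper28.TCFi24L46.rel511 p (by omega) (by omega) _ hm
  rcases Nat.lt_or_ge p 261630 with h512 | h512
  · exact (Table.relOK_iff chkPaths 261120 510).mp Cfsg.Agent.Lib.Helper28.TCFi24L46.rel512 p (by omega) (by omega) _ hm
  rcases Nat.lt_or_ge p 262140 with h513 | h513
  · exact (Table.relOK_iff chkPaths 261630 510).mp Cfsg.Agent.Lib.Helper28.TCFi24L46.rel513 p (by omega) (by omega) _ hm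
  rcases Nat.lt_or_ge p 262650 with h514 | h514
  · exact (Table.relOK_iff chkPaths 262140 510).mp Cfsg.Agent.Lib.Helper28.TCFi24L46.rel514 p (by omega) (by omega) _ hm
  rcases Nat.lt_or_ge p 263160 with h515 | h515
  · exact (Table.relOK_iff chkPaths 262650 510).mp Cfsg.Agent.Lib.Helper28.TCFi24L46.rel515 p (by omega) (by omega) _ hm
  rcases Nat.lt_or_ge p 263670 with h516 | h516
  · exact (Table.relOK_iff chkPaths 263160 510).mp Cfsg.Agent.Lib.Helper28.TCFi24L46.rel516 p (by omega) (by omega) _ hm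
  rcases Nat.lt_or_ge p 264180 with h517 | h517
  · exact (Table.relOK_iff chkPaths 263670 510).mp Cfsg.Agent.Lib.Helper28.TCFi24L47.rel517 p (by omega) (by omega) _ hm
  rcases Nat.lt_or_ge p 264690 with h518 | h518
  · exact (Table.relOK_iff chkPaths 264180 510).mp Cfsg.Agent.Lib.Helper28.TCFi24L47.rel518 p (by omega) (by omega) _ hm
  rcases Nat.lt_or_ge p 265200 with h519 | h519
  · exact (Table.relOK_iff chkPaths 264690 510).mp Cfsg.Agent.Lib.Helper28.TCFi24L47.rel519 p (by omega) (by omega) _ hm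
  rcases Nat.lt_or_ge p 265710 with h520 | h520
  · exact (Table.relOK_iff chkPaths 265200 510).mp Cfsg.Agent.Lib.Helper28.TCFi24L47.rel520 p (by omega) (by omega) _ hm
  rcases Nat.lt_or_ge p 266220 with h521 | h521
  · exact (Table.relOK_iff chkPaths 265710 510).mp Cfsg.Agent.Lib.Helper28.TCFi24L47.rel521 p (by omega) (by omega) _ hm
  rcases Nat.lt_or_ge p 266730 with h522 | h522
  · exact (Table.relOK_iff chkPaths 266220 510).mp Cfsg.Agent.Lib.Helper28.TCFi24L47.rel522 p (by omega) (by omega) _ hm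
  rcases Nat.lt_or_ge p 267240 with h523 | h523
  · exact (Table.relOK_iff chkPaths 266730 510).mp Cfsg.Agent.Lib.Helper28.TCFi24L47.rel523 p (by omega) (by omega) _ hm
  rcases Nat.lt_or_ge p 267750 with h524 | h524
  · exact (Table.relOK_iff chkPaths 267240 510).mp Cfsg.Agent.Lib.Helper28.TCFi24L47.rel524 p (by omega) (by omega) _ hm
  rcases Nat.lt_or_ge p 268260 with h525 | h525
  · exact (Table.relOK_iff chkPaths 267750 510).mp Cfsg.Agent.Lib.Helper28.TCFi24L47.rel525 p (by omega) (by omega) _ hm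
  rcases Nat.lt_or_ge p 268770 with h526 | h526
  · exact (Table.relOK_iff chkPaths 268260 510).mp Cfsg.Agent.Lib.Helper28.TCFi24L47.rel526 p (by omega) (by omega) _ hm
  rcases Nat.lt_or_ge p 269280 with h527 | h527
  · exact (Table.relOK_iff chkPaths 268770 510).mp Cfsg.Agent.Lib.Helper28.TCFi24L47.rel527 p (by omega) (by omega) _ hm
  rcases Nat.lt_or_ge p 269790 with h528 | h528
  · exact (Table.relOK_iff chkPaths 269280 510).mp Cfsg.Agent.Lib.Helper28.TCFi24L48.rel528 p (by omega) (by omega) _ hm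
  rcases Nat.lt_or_ge p 270300 with h529 | h529
  · exact (Table.relOK_iff chkPaths 269790 510).mp Cfsg.Agent.Lib.Helper28.TCFi24L48.rel529 p (by omega) (by omega) _ hm
  rcases Nat.lt_or_ge p 270810 with h530 | h530
  · exact (Table.relOK_iff chkPaths 270300 510).mp Cfsg.Agent.Lib.Helper28.TCFi24L48.rel530 p (by omega) (by omega) _ hm
  rcases Nat.lt_or_ge p 271320 with h531 | h531
  · exact (Table.relOK_iff chkPaths 270810 510).mp Cfsg.Agent.Lib.Helper28.TCFi24L48.rel531 p (by omega) (by omega) _ hm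
  rcases Nat.lt_or_ge p 271830 with h532 | h532
  · exact (Table.relOK_iff chkPaths 271320 510).mp Cfsg.Agent.Lib.Helper28.TCFi24L48.rel532 p (by omega) (by omega) _ hm
  rcases Nat.lt_or_ge p 272340 with h533 | h533
  · exact (Table.relOK_iff chkPaths 271830 510).mp Cfsg.Agent.Lib.Helper28.TCFi24L48.rel533 p (by omega) (by omega) _ hm
  rcases Nat.lt_or_ge p 272850 with h534 | h534
  · exact (Table.relOK_iff chkPaths 272340 510).mp Cfsg.Agent.Lib.Helper28.TCFi24L48.rel534 p (by omega) (by omega) _ hm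
  rcases Nat.lt_or_ge p 273360 with h535 | h535
  · exact (Table.relOK_iff chkPaths 272850 510).mp Cfsg.Agent.Lib.Helper28.TCFi24L48.rel535 p (by omega) (by omega) _ hm
  rcases Nat.lt_or_ge p 273870 with h536 | h536
  · exact (Table.relOK_iff chkPaths 273360 510).mp Cfsg.Agent.Lib.Helper28.TCFi24L48.rel536 p (by omega) (by omega) _ hm
  rcases Nat.lt_or_ge p 274380 with h537 | h537
  · exact (Table.relOK_iff chkPaths 273870 510).mp Cfsg.Agent.Lib.Helper28.TCFi24L48.rel537 p (by omega) (by omega) _ hm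
  rcases Nat.lt_or_ge p 274890 with h538 | h538
  · exact (Table.relOK_iff chkPaths 274380 510).mp Cfsg.Agent.Lib.Helper28.TCFi24L48.rel538 p (by omega) (by omega) _ hm
  rcases Nat.lt_or_ge p 275400 with h539 | h539
  · exact (Table.relOK_iff chkPaths 274890 510).mp Cfsg.Agent.Lib.Helper28.TCFi24L49.rel539 p (by omega) (by omega) _ hm
  rcases Nat.lt_or_ge p 275910 with h540 | h540
  · exact (Table.relOK_iff chkPaths 275400 510).mp Cfsg.Agent.Lib.Helper28.TCFi24L49.rel540 p (by omega) (by omega) _ hm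
  rcases Nat.lt_or_ge p 276420 with h541 | h541
  · exact (Table.relOK_iff chkPaths 275910 510).mp Cfsg.Agent.Lib.Helper28.TCFi24L49.rel541 p (by omega) (by omega) _ hm
  rcases Nat.lt_or_ge p 276930 with h542 | h542
  · exact (Table.relOK_iff chkPaths 276420 510).mp Cfsg.Agent.Lib.Helper28.TCFi24L49.rel542 p (by omega) (by omega) _ hm
  rcases Nat.lt_or_ge p 277440 with h543 | h543
  · exact (Table.relOK_iff chkPaths 276930 510).mp Cfsg.Agent.Lib.Helper28.TCFi24L49.rel543 p (by omega) (by omega) _ hm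
  rcases Nat.lt_or_ge p 277950 with h544 | h544
  · exact (Table.relOK_iff chkPaths 277440 510).mp Cfsg.Agent.Lib.Helper28.TCFi24L49.rel544 p (by omega) (by omega) _ hm
  rcases Nat.lt_or_ge p 278460 with h545 | h545
  · exact (Table.relOK_iff chkPaths 277950 510).mp Cfsg.Agent.Lib.Helper28.TCFi24L49.rel545 p (by omega) (by omega) _ hm
  rcases Nat.lt_or_ge p 278970 with h546 | h546
  · exact (Table.relOK_iff chkPaths 278460 510).mp Cfsg.Agent.Lib.Helper28.TCFi24L49.rel546 p (by omega) (by omega) _ hm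
  rcases Nat.lt_or_ge p 279480 with h547 | h547
  · exact (Table.relOK_iff chkPaths 278970 510).mp Cfsg.Agent.Lib.Helper28.TCFi24L49.rel547 p (by omega) (by omega) _ hm
  rcases Nat.lt_or_ge p 279990 with h548 | h548
  · exact (Table.relOK_iff chkPaths 279480 510).mp Cfsg.Agent.Lib.Helper28.TCFi24L49.rel548 p (by omega) (by omega) _ hm
  rcases Nat.lt_or_ge p 280500 with h549 | h549
  · exact (Table.relOK_iff chkPaths 279990 510).mp Cfsg.Agent.Lib.Helper28.TCFi24L49.rel549 p (by omega) (by omega) _ hm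
  rcases Nat.lt_or_ge p 281010 with h550 | h550
  · exact (Table.relOK_iff chkPaths 280500 510).mp Cfsg.Agent.Lib.Helper28.TCFi24L50.rel550 p (by omega) (by omega) _ hm
  rcases Nat.lt_or_ge p 281520 with h551 | h551
  · exact (Table.relOK_iff chkPaths 281010 510).mp Cfsg.Agent.Lib.Helper28.TCFi24L50.rel551 p (by omega) (by omega) _ hm
  rcases Nat.lt_or_ge p 282030 with h552 | h552
  · exact (Table.relOK_iff chkPaths 281520 510).mp Cfsg.Agent.Lib.Helper28.TCFi24L50.rel552 p (by omega) (by omega) _ hm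
  rcases Nat.lt_or_ge p 282540 with h553 | h553
  · exact (Table.relOK_iff chkPaths 282030 510).mp Cfsg.Agent.Lib.Helper28.TCFi24L50.rel553 p (by omega) (by omega) _ hm
  rcases Nat.lt_or_ge p 283050 with h554 | h554
  · exact (Table.relOK_iff chkPaths 282540 510).mp Cfsg.Agent.Lib.Helper28.TCFi24L50.rel554 p (by omega) (by omega) _ hm
  rcases Nat.lt_or_ge p 283560 with h555 | h555
  · exact (Table.relOK_iff chkPaths 283050 510).mp Cfsg.Agent.Lib.Helper28.TCFi24L50.rel555 p (by omega) (by omega) _ hm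
  rcases Nat.lt_or_ge p 284070 with h556 | h556
  · exact (Table.relOK_iff chkPaths 283560 510).mp Cfsg.Agent.Lib.Helper28.TCFi24L50.rel556 p (by omega) (by omega) _ hm
  rcases Nat.lt_or_ge p 284580 with h557 | h557
  · exact (Table.relOK_iff chkPaths 284070 510).mp Cfsg.Agent.Lib.Helper28.TCFi24L50.rel557 p (by omega) (by omega) _ hm
  rcases Nat.lt_or_ge p 285090 with h558 | h558
  · exact (Table.relOK_iff chkPaths 284580 510).mp Cfsg.Agent.Lib.Helper28.TCFi24L50.rel558 p (by omega) (by omega) _ hm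
  rcases Nat.lt_or_ge p 285600 with h559 | h559
  · exact (Table.relOK_iff chkPaths 285090 510).mp Cfsg.Agent.Lib.Helper28.TCFi24L50.rel559 p (by omega) (by omega) _ hm
  rcases Nat.lt_or_ge p 286110 with h560 | h560
  · exact (Table.relOK_iff chkPaths 285600 510).mp Cfsg.Agent.Lib.Helper28.TCFi24L50.rel560 p (by omega) (by omega) _ hm
  rcases Nat.lt_or_ge p 286620 with h561 | h561
  · exact (Table.relOK_iff chkPaths 286110 510).mp Cfsg.Agent.Lib.Helper28.TCFi24L51.rel561 p (by omega) (by omega) _ hm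
  rcases Nat.lt_or_ge p 287130 with h562 | h562
  · exact (Table.relOK_iff chkPaths 286620 510).mp Cfsg.Agent.Lib.Helper28.TCFi24L51.rel562 p (by omega) (by omega) _ hm
  rcases Nat.lt_or_ge p 287640 with h563 | h563
  · exact (Table.relOK_iff chkPaths 287130 510).mp Cfsg.Agent.Lib.Helper28.TCFi24L51.rel563 p (by omega) (by omega) _ hm
  rcases Nat.lt_or_ge p 288150 with h564 | h564
  · exact (Table.relOK_iff chkPaths 287640 510).mp Cfsg.Agent.Lib.Helper28.TCFi24L51.rel564 p (by omega) (by omega) _ hm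
  rcases Nat.lt_or_ge p 288660 with h565 | h565
  · exact (Table.relOK_iff chkPaths 288150 510).mp Cfsg.Agent.Lib.Helper28.TCFi24L51.rel565 p (by omega) (by omega) _ hm
  rcases Nat.lt_or_ge p 289170 with h566 | h566
  · exact (Table.relOK_iff chkPaths 288660 510).mp Cfsg.Agent.Lib.Helper28.TCFi24L51.rel566 p (by omega) (by omega) _ hm
  rcases Nat.lt_or_ge p 289680 with h567 | h567
  · exact (Table.relOK_iff chkPaths 289170 510).mp Cfsg.Agent.Lib.Helper28.TCFi24L51.rel567 p (by omega) (by omega) _ hm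
  rcases Nat.lt_or_ge p 290190 with h568 | h568
  · exact (Table.relOK_iff chkPaths 289680 510).mp Cfsg.Agent.Lib.Helper28.TCFi24L51.rel568 p (by omega) (by omega) _ hm
  rcases Nat.lt_or_ge p 290700 with h569 | h569
  · exact (Table.relOK_iff chkPaths 290190 510).mp Cfsg.Agent.Lib.Helper28.TCFi24L51.rel569 p (by omega) (by omega) _ hm
  rcases Nat.lt_or_ge p 291210 with h570 | h570
  · exact (Table.relOK_iff chkPaths 290700 510).mp Cfsg.Agent.Lib.Helper28.TCFi24L51.rel570 p (by omega) (by omega) _ hm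
  rcases Nat.lt_or_ge p 291720 with h571 | h571
  · exact (Table.relOK_iff chkPaths 291210 510).mp Cfsg.Agent.Lib.Helper28.TCFi24L51.rel571 p (by omega) (by omega) _ hm
  rcases Nat.lt_or_ge p 292230 with h572 | h572
  · exact (Table.relOK_iff chkPaths 291720 510).mp Cfsg.Agent.Lib.Helper28.TCFi24L52.rel572 p (by omega) (by omega) _ hm
  rcases Nat.lt_or_ge p 292740 with h573 | h573
  · exact (Table.relOK_iff chkPaths 292230 510).mp Cfsg.Agent.Lib.Helper28.TCFi24L52.rel573 p (by omega) (by omega) _ hm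
  rcases Nat.lt_or_ge p 293250 with h574 | h574
  · exact (Table.relOK_iff chkPaths 292740 510).mp Cfsg.Agent.Lib.Helper28.TCFi24L52.rel574 p (by omega) (by omega) _ hm
  rcases Nat.lt_or_ge p 293760 with h575 | h575
  · exact (Table.relOK_iff chkPaths 293250 510).mp Cfsg.Agent.Lib.Helper28.TCFi24L52.rel575 p (by omega) (by omega) _ hm
  rcases Nat.lt_or_ge p 294270 with h576 | h576
  · exact (Table.relOK_iff chkPaths 293760 510).mp Cfsg.Agent.Lib.Helper28.TCFi24L52.rel576 p (by omega) (by omega) _ hm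
  rcases Nat.lt_or_ge p 294780 with h577 | h577
  · exact (Table.relOK_iff chkPaths 294270 510).mp Cfsg.Agent.Lib.Helper28.TCFi24L52.rel577 p (by omega) (by omega) _ hm
  rcases Nat.lt_or_ge p 295290 with h578 | h578
  · exact (Table.relOK_iff chkPaths 294780 510).mp Cfsg.Agent.Lib.Helper28.TCFi24L52.rel578 p (by omega) (by omega) _ hm
  rcases Nat.lt_or_ge p 295800 with h579 | h579
  · exact (Table.relOK_iff chkPaths 295290 510).mp Cfsg.Agent.Lib.Helper28.TCFi24L52.rel579 p (by omega) (by omega) _ hm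
  rcases Nat.lt_or_ge p 296310 with h580 | h580
  · exact (Table.relOK_iff chkPaths 295800 510).mp Cfsg.Agent.Lib.Helper28.TCFi24L52.rel580 p (by omega) (by omega) _ hm
  rcases Nat.lt_or_ge p 296820 with h581 | h581
  · exact (Table.relOK_iff chkPaths 296310 510).mp Cfsg.Agent.Lib.Helper28.TCFi24L52.rel581 p (by omega) (by omega) _ hm
  rcases Nat.lt_or_ge p 297330 with h582 | h582
  · exact (Table.relOK_iff chkPaths 296820 510).mp Cfsg.Agent.Lib.Helper28.TCFi24L52.rel582 p (by omega) (by omega) _ hm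
  rcases Nat.lt_or_ge p 297840 with h583 | h583
  · exact (Table.relOK_iff chkPaths 297330 510).mp Cfsg.Agent.Lib.Helper28.TCFi24L53.rel583 p (by omega) (by omega) _ hm
  rcases Nat.lt_or_ge p 298350 with h584 | h584
  · exact (Table.relOK_iff chkPaths 297840 510).mp Cfsg.Agent.Lib.Helper28.TCFi24L53.rel584 p (by omega) (by omega) _ hm
  rcases Nat.lt_or_ge p 298860 with h585 | h585
  · exact (Table.relOK_iff chkPaths 298350 510).mp Cfsg.Agent.Lib.Helper28.TCFi24L53.rel585 p (by omega) (by omega) _ hm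
  rcases Nat.lt_or_ge p 299370 with h586 | h586
  · exact (Table.relOK_iff chkPaths 298860 510).mp Cfsg.Agent.Lib.Helper28.TCFi24L53.rel586 p (by omega) (by omega) _ hm
  rcases Nat.lt_or_ge p 299880 with h587 | h587
  · exact (Table.relOK_iff chkPaths 299370 510).mp Cfsg.Agent.Lib.Helper28.TCFi24L53.rel587 p (by omega) (by omega) _ hm
  rcases Nat.lt_or_ge p 300390 with h588 | h588
  · exact (Table.relOK_iff chkPaths 299880 510).mp Cfsg.Agent.Lib.Helper28.TCFi24L53.rel588 p (by omega) (by omega) _ hm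
  rcases Nat.lt_or_ge p 300900 with h589 | h589
  · exact (Table.relOK_iff chkPaths 300390 510).mp Cfsg.Agent.Lib.Helper28.TCFi24L53.rel589 p (by omega) (by omega) _ hm
  rcases Nat.lt_or_ge p 301410 with h590 | h590
  · exact (Table.relOK_iff chkPaths 300900 510).mp Cfsg.Agent.Lib.Helper28.TCFi24L53.rel590 p (by omega) (by omega) _ hm
  rcases Nat.lt_or_ge p 301920 with h591 | h591
  · exact (Table.relOK_iff chkPaths 301410 510).mp Cfsg.Agent.Lib.Helper28.TCFi24L53.rel591 p (by omega) (by omega) _ hm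
  rcases Nat.lt_or_ge p 302430 with h592 | h592
  · exact (Table.relOK_iff chkPaths 301920 510).mp Cfsg.Agent.Lib.Helper28.TCFi24L53.rel592 p (by omega) (by omega) _ hm
  rcases Nat.lt_or_ge p 302940 with h593 | h593
  · exact (Table.relOK_iff chkPaths 302430 510).mp Cfsg.Agent.Lib.Helper28.TCFi24L53.rel593 p (by omega) (by omega) _ hm
  rcases Nat.lt_or_ge p 303450 with h594 | h594
  · exact (Table.relOK_iff chkPaths 302940 510).mp Cfsg.Agent.Lib.Helper28.TCFi24L54.rel594 p (by omega) (by omega) _ hm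
  rcases Nat.lt_or_ge p 303960 with h595 | h595
  · exact (Table.relOK_iff chkPaths 303450 510).mp Cfsg.Agent.Lib.Helper28.TCFi24L54.rel595 p (by omega) (by omega) _ hm
  rcases Nat.lt_or_ge p 304470 with h596 | h596
  · exact (Table.relOK_iff chkPaths 303960 510).mp Cfsg.Agent.Lib.Helper28.TCFi24L54.rel596 p (by omega) (by omega) _ hm
  rcases Nat.lt_or_ge p 304980 with h597 | h597
  · exact (Table.relOK_iff chkPaths 304470 510).mp Cfsg.Agent.Lib.Helper28.TCFi24L54.rel597 p (by omega) (by omega) _ hm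
  rcases Nat.lt_or_ge p 305490 with h598 | h598
  · exact (Table.relOK_iff chkPaths 304980 510).mp Cfsg.Agent.Lib.Helper28.TCFi24L54.rel598 p (by omega) (by omega) _ hm
  rcases Nat.lt_or_ge p 306000 with h599 | h599
  · exact (Table.relOK_iff chkPaths 305490 510).mp Cfsg.Agent.Lib.Helper28.TCFi24L54.rel599 p (by omega) (by omega) _ hm
  rcases Nat.lt_or_ge p 306510 with h600 | h600
  · exact (Table.relOK_iff chkPaths 306000 510).mp Cfsg.Agent.Lib.Helper28.TCFi24L54.rel600 p (by omega) (by omega) _ hm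
  exact (Table.relOK_iff chkPaths 306510 426).mp Cfsg.Agent.Lib.Helper28.TCFi24L54.rel601 p (by omega) (by omega) _ hm

theorem hrelT : ∀ L ∈ relWords, ∀ p, p < table.n → table.walkT (pathOf lw L) p = p :=
  fun L hL => Table.fix_of_covered hT chkPaths hchkT _ (hcov _ (hrelmem L hL)).1 (hcov _ (hrelmem L hL)).2

theorem hsubT : ∀ L ∈ subWords, table.walkT (pathOf lw L) 0 = 0 :=
  fun L hL => (Table.subOK_iff subPaths).mp hsub0 _ (hsubmem L hL)

/-- In the presented group Fi₂₄ = Fi₂₄′:2, the subgroup generated by the images of a, b, c, d, e, f, g, h, i, j and l (every generator but k) has index 306936. -/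
theorem result : (((Subgroup.closure ({Cfsg.Spor.Fi24.a, Cfsg.Spor.Fi24.b, Cfsg.Spor.Fi24.c, Cfsg.Spor.Fi24.d, Cfsg.Spor.Fi24.e, Cfsg.Spor.Fi24.f, Cfsg.Spor.Fi24.g, Cfsg.Spor.Fi24.h, Cfsg.Spor.Fi24.i, Cfsg.Spor.Fi24.j, Cfsg.Spor.Fi24.l} : Set (FreeGroup Cfsg.Spor.Fi24.Gen))).map (PresentedGroup.mk (Cfsg.Spor.coxRelators Cfsg.Spor.Fi24.edges ∪ {r | r ∈ Cfsg.Spor.Fi24.extra})))).index = 306936 := by
  obtain ⟨hidx, φ, hφ, f, hbij, hequiv, -⟩ := index_eq link hchk hfin hcount hT (by decide) hrelT hsubT htree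
  exact hidx

end Cfsg.Agent.S1690
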