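import Cfsg.Statements.S1698
import Cfsg.Agent.Lib.Helper28.Fi24Upper
import Cfsg.Agent.Lib.Helper28.TCFi24BWMain
import Cfsg.Agent.Lib.Helper28.TCFi24WCMain
import Cfsg.Agent.Lib.Helper28.TCFi24FinalChk

set_option autoImplicit false
set_option maxRecDepth 100000
set_option linter.style.haveILetI false
open Cfsg

namespace Cfsg.Agent.S1698
open Cfsg.Agent.Lib.Helper28.TC2Upper Cfsg.Agent.Lib.Helper28.TC2Lower Cfsg.Agent.Lib.Helper28.TC2Orbit Cfsg.Agent.Lib.Helper28.TC2Glue Cfsg.Agent.Lib.Helper28.TC2GlueOrb Cfsg.Agent.Lib.Helper28.TC2Simple Cfsg.Agent.Lib.Helper28.TC2Bsgs Cfsg.Agent.Lib.Helper28.TC2BsgsW Cfsg.Agent.Lib.Helper28.TC2Tower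
open Cfsg.Agent.Lib.Helper28.TCFi24Table Cfsg.Agent.Lib.Helper28.TCFi24Link Cfsg.Agent.Lib.Helper28.TCFi24Main Cfsg.Agent.Lib.Helper28.TCFi24Orb Cfsg.Agent.Lib.Helper28.TCFi24FinalChk
open Cfsg.Agent.Lib.Helper28.Fi24GlueA

/-- adding the relator `t` gives a group of order at most 2 -/
theorem collapse_card : Finite (PresentedGroup Cfsg.Agent.Lib.Helper28.TCFi24WCLink.rels) ∧
    Nat.card (PresentedGroup Cfsg.Agent.Lib.Helper28.TCFi24WCLink.rels) ≤ 2 := by
  have h : ((Subgroup.closure Cfsg.Agent.Lib.Helper28.TCFi24WCLink.S).map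
      (PresentedGroup.mk Cfsg.Agent.Lib.Helper28.TCFi24WCLink.rels)).index = 1 :=
    Cfsg.Agent.Lib.Helper28.TCFi24WCMain.main.1
  rw [Subgroup.index_eq_one, MonoidHom.map_closure] at h
  have e : (PresentedGroup.mk Cfsg.Agent.Lib.Helper28.TCFi24WCLink.rels) '' Cfsg.Agent.Lib.Helper28.TCFi24WCLink.S =
      {(PresentedGroup.of Cfsg.Spor.Fi24.Gen.a : PresentedGroup Cfsg.Agent.Lib.Helper28.TCFi24WCLink.rels)} := by
    show _ '' {FreeGroup.of Cfsg.Spor.Fi24.Gen.a} = _
    rw [Set.image_singleton]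
    rfl
  rw [e] at h
  refine card_le_two_of_closure _ ?_ h
  have hmem : (FreeGroup.of Cfsg.Spor.Fi24.Gen.a * FreeGroup.of Cfsg.Spor.Fi24.Gen.a) ^
      Cfsg.Spor.coxLabel Cfsg.Agent.Lib.Helper28.TCFi24WCDef.edges Cfsg.Spor.Fi24.Gen.a Cfsg.Spor.Fi24.Gen.a ∈
      Cfsg.Agent.Lib.Helper28.TCFi24WCLink.rels :=
    Or.inl ⟨_, by decide, _, by decide, rfl⟩
  have h1 := PresentedGroup.one_of_mem hmem
  have hl : Cfsg.Spor.coxLabel Cfsg.Agent.Lib.Helper28.TCFi24WCDef.edges Cfsg.Spor.Fi24.Gen.a Cfsg.Spor.Fi24.Gen.a = 1 := by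
    unfold Cfsg.Spor.coxLabel; rw [if_pos rfl]
  rw [hl, pow_one, map_mul] at h1
  rw [pow_two]
  exact h1

theorem hcl : (Subgroup.normalClosure {PresentedGroup.mk rels (FreeGroup.mk tWord)}).index ≤ 2 := by
  obtain ⟨hfin, hle⟩ := collapse_card
  haveI := hfin
  refine le_trans (index_normalClosure_le rels Cfsg.Agent.Lib.Helper28.TCFi24WCLink.rels (FreeGroup.mk tWord) ?_) hle
  intro r hr
  rcases hr with hr | hr
  · exact Or.inl (Or.inl hr)
  · have h1 : r ∈ Cfsg.Spor.Fi24.extra ++ [FreeGroup.mk tWord] := hr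
    rw [List.mem_append, List.mem_singleton] at h1
    rcases h1 with h1 | h1
    · exact Or.inl (Or.inr h1)
    · exact Or.inr h1

theorem not_isSquare_of_prime (n p : ℕ) (hp : p.Prime) (h1 : p ∣ n) (h2 : ¬ p * p ∣ n) : ¬ IsSquare n := by
  rintro ⟨r, rfl⟩
  have : p ∣ r := by rcases (Nat.Prime.dvd_mul hp).mp h1 with h | h <;> exact h
  exact h2 (Nat.mul_dvd_mul this this)

/-- The commutator subgroup of the presented Fi₂₄ (our definition of Fi₂₄′) is simple of the expected order (that is, it is a simple group of the order of the Fischer group Fi₂₄′). -/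
theorem result : Cfsg.IsFi24' Cfsg.Spor.Fi24' := by
  obtain ⟨hidx, φ, hφ, f, hbij, hequiv, h0⟩ := Cfsg.Agent.Lib.Helper28.TCFi24Main.main
  obtain ⟨hfin, hle⟩ := Cfsg.Agent.Lib.Helper28.Fi24Upper.card_G
  haveI : Finite (PresentedGroup rels) := hfin
  have hΓ : ∀ l, l < table.k → Table.sigma hT l ∈ φ.range := sigma_mem_range link hT φ hφ
  have hlow : 2510411418381323442585600 ≤ Nat.card φ.range :=
    Cfsg.Agent.Lib.Helper28.TCFi24BWMain.card_base hT φ.range hΓ
  obtain ⟨hinj, hcard⟩ := injective_of_card_le φ hle hlow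
  have hidx' : ((Subgroup.closure S).map (PresentedGroup.mk rels)).index = 306936 := hidx
  have hcardH : Nat.card ((Subgroup.closure S).map (PresentedGroup.mk rels)) = 8178940946586009600 := by
    have := ((Subgroup.closure S).map (PresentedGroup.mk rels)).index_mul_card
    rw [hidx', hcard] at this
    omega
  have hcore := normalCore_eq_bot _ φ f hbij.2 hequiv hinj
  have hgens := BT.All_of_all (fun _ h => of_decide_eq_true h) _ Cfsg.Agent.Lib.Helper28.TCFi24Main.hgens
  have hfm := f_mk link hT hn φ hφ f hequiv h0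
  have hmax : ∀ K : Subgroup (PresentedGroup rels), (Subgroup.closure S).map (PresentedGroup.mk rels) ≤ K →
      K = (Subgroup.closure S).map (PresentedGroup.mk rels) ∨ K = ⊤ := by
    apply max_of_rank3 _ φ f hbij.1 hequiv (fun q => orbData.oid q.val)
      (fun p q hpq => exists_perm_of_oid_eq link hT φ hφ orbData subPaths hsubmem hsubmem' hclosed hgens hconn p q hpq)
      (PresentedGroup.mk rels (FreeGroup.mk [(.k, true)])) (PresentedGroup.mk rels (FreeGroup.mk yWord))
      (PresentedGroup.mk rels (FreeGroup.mk hWord)) ?_ 1 2 ?_ ?_ ?_ ?_ ?_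
    · -- h ∈ H
      apply Subgroup.mem_map_of_mem
      have e : FreeGroup.mk hWord = FreeGroup.of (Cfsg.Spor.Fi24.Gen.b) := rfl
      rw [e]
      exact Subgroup.subset_closure (by simp [S])
    · intro x hx
      exact cls_of_not_mem _ hn f hbij.1 h0 orbData hclsAll h00 cntc0 x hx
    · show orbData.oid (f _).val = 1
      rw [hfm]; exact hg0
    · show orbData.oid (f _).val = 2
      rw [hfm]; exact hy
    · show orbData.oid (f _).val = 1
      have e : PresentedGroup.mk rels (FreeGroup.mk yWord) * PresentedGroup.mk rels (FreeGroup.mk hWord) *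
          PresentedGroup.mk rels (FreeGroup.mk yWord) = PresentedGroup.mk rels (FreeGroup.mk (yWord ++ hWord ++ yWord)) := by
        rw [← map_mul, ← map_mul, FreeGroup.mul_mk, FreeGroup.mul_mk]
      rw [e, hfm]; exact hz
    · intro K hHK hg
      rw [eq_top_iff, ← PresentedGroup.closure_range_of, Subgroup.closure_le]
      rintro _ ⟨x, rfl⟩
      cases x
      · exact hHK (Subgroup.mem_map_of_mem _ (Subgroup.subset_closure (by simp [S])))
      · exact hg
      · exact hHK (Subgroup.mem_map_of_mem _ (Subgroup.subset_closure (by simp [S])))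
      · exact hHK (Subgroup.mem_map_of_mem _ (Subgroup.subset_closure (by simp [S])))
      · exact hHK (Subgroup.mem_map_of_mem _ (Subgroup.subset_closure (by simp [S])))
      · exact hHK (Subgroup.mem_map_of_mem _ (Subgroup.subset_closure (by simp [S])))
      · exact hHK (Subgroup.mem_map_of_mem _ (Subgroup.subset_closure (by simp [S])))
      · exact hHK (Subgroup.mem_map_of_mem _ (Subgroup.subset_closure (by simp [S])))
      · exact hHK (Subgroup.mem_map_of_mem _ (Subgroup.subset_closure (by simp [S])))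
      · exact hHK (Subgroup.mem_map_of_mem _ (Subgroup.subset_closure (by simp [S])))
      · exact hHK (Subgroup.mem_map_of_mem _ (Subgroup.subset_closure (by simp [S])))
      · exact hHK (Subgroup.mem_map_of_mem _ (Subgroup.subset_closure (by simp [S])))
  have hrange : Nat.card φ.range ≤ 2510411418381323442585600 :=
    le_trans (Nat.card_le_card_of_surjective φ.rangeRestrict φ.rangeRestrict_surjective) hle
  have ht : (PresentedGroup.mk rels (FreeGroup.mk tWord)) ^ 29 = 1 := by
    apply hinj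
    rw [map_one, ← map_pow, mk_pow]
    apply eq_one_of_fix φ.range (toFin table.n base) 2510411418381323442585600 (by norm_num)
      (Cfsg.Agent.Lib.Helper28.TCFi24BWMain.chain hT φ.range hΓ) hrange _ ⟨_, rfl⟩
    intro b hb
    apply Fin.ext
    rw [phi_mk_apply link hT φ hφ, tPath_eq]
    exact tfix b.val (val_mem_of_mem_toFin hb)
  have hD : Nat.card (commutator (PresentedGroup rels)) = 1255205709190661721292800 := by
    have := (commutator (PresentedGroup rels)).index_mul_card
    rw [Cfsg.Agent.S1691.result, hcard] at this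
    omega
  refine ⟨?_, hD⟩
  apply isSimpleGroup_commutator_of_max _ hcore hmax 29 (by norm_num) (by norm_num)
    (by rw [hcardH]; norm_num) _ ht hcl Cfsg.Agent.S1691.result
  rw [hD]
  exact not_isSquare_of_prime _ 29 (by norm_num) (by norm_num) (by norm_num)

end Cfsg.Agent.S1698
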