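import Cfsg.Statements.S1697
import Cfsg.Agent.Lib.Helper28.TCFi23Tower
import Cfsg.Agent.Lib.Helper28.TCFi23BMain
import Cfsg.Agent.Lib.Helper28.TCFi23WCMain
import Cfsg.Agent.Lib.Helper28.TCFi23FinalChk

set_option autoImplicit false
set_option maxRecDepth 100000
open Cfsg

namespace Cfsg.Agent.S1697
open Cfsg.Agent.Lib.Helper28.TC2Upper Cfsg.Agent.Lib.Helper28.TC2Lower Cfsg.Agent.Lib.Helper28.TC2Orbit Cfsg.Agent.Lib.Helper28.TC2Glue Cfsg.Agent.Lib.Helper28.TC2GlueOrb Cfsg.Agent.Lib.Helper28.TC2Simple Cfsg.Agent.Lib.Helper28.TC2Bsgs Cfsg.Agent.Lib.Helper28.TC2Tower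
open Cfsg.Agent.Lib.Helper28.TCFi23W0Table Cfsg.Agent.Lib.Helper28.TCFi23W0Link Cfsg.Agent.Lib.Helper28.TCFi23W0Main Cfsg.Agent.Lib.Helper28.TCFi23W0M Cfsg.Agent.Lib.Helper28.TCFi23FinalChk

/-- adding the relator `t` gives the trivial group -/
theorem collapse_subsingleton : Subsingleton (PresentedGroup Cfsg.Agent.Lib.Helper28.TCFi23WCLink.rels) := by
  have h : ((Subgroup.closure Cfsg.Agent.Lib.Helper28.TCFi23WCLink.S).map (PresentedGroup.mk Cfsg.Agent.Lib.Helper28.TCFi23WCLink.rels)).index = 1 := Cfsg.Agent.Lib.Helper28.TCFi23WCMain.main.1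
  have e : (Subgroup.closure Cfsg.Agent.Lib.Helper28.TCFi23WCLink.S).map (PresentedGroup.mk Cfsg.Agent.Lib.Helper28.TCFi23WCLink.rels) = ⊥ := by
    show (Subgroup.closure {1}).map _ = ⊥
    rw [Subgroup.closure_singleton_one, Subgroup.map_bot]
  rw [e] at h
  obtain ⟨_, hc⟩ := card_of_index_bot (by norm_num) h
  exact (Nat.card_eq_one_iff_unique.mp hc).1

theorem hcl : Subgroup.normalClosure {PresentedGroup.mk rels (FreeGroup.mk tWord)} = ⊤ := by
  haveI := collapse_subsingleton
  apply normalClosure_eq_top_of_subsingleton rels Cfsg.Agent.Lib.Helper28.TCFi23WCLink.rels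
  intro r hr
  rcases hr with hr | hr
  · exact Or.inl (Or.inl hr)
  · have h1 : r ∈ Cfsg.Spor.Fi23.extra ++ [FreeGroup.mk tWord] := hr
    rw [List.mem_append, List.mem_singleton] at h1
    rcases h1 with h1 | h1
    · exact Or.inl (Or.inr h1)
    · exact Or.inr h1


/-- The presented Fischer group Fi23 is simple of the expected order (that is, it is a simple group of the order of the Fischer group Fi₂₃). -/
theorem result : Cfsg.IsFi23 Cfsg.Spor.Fi23 := by
  obtain ⟨hidx, φ, hφ, f, hbij, hequiv, h0⟩ := Cfsg.Agent.Lib.Helper28.TCFi23W0Main.main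
  obtain ⟨hfin, hle⟩ := Cfsg.Agent.Lib.Helper28.TCFi23Tower.card0
  haveI : Finite (PresentedGroup rels) := hfin
  have hlow : 4089470473293004800 ≤ Nat.card φ.range :=
    le_trans Cfsg.Agent.Lib.Helper28.TCFi23BMain.card_base (card_baseGroup_le hT Cfsg.Agent.Lib.Helper28.TCFi23BMain.hTB rfl (by decide)
      Cfsg.Agent.Lib.Helper28.TCFi23BMain.hagree φ.range (sigma_mem_range link hT φ hφ))
  obtain ⟨hinj, hcard⟩ := injective_of_card_le φ hle hlow
  refine ⟨?_, hcard⟩
  have hidx' : ((Subgroup.closure S).map (PresentedGroup.mk rels)).index = 31671 := hidx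
  have hcardH : Nat.card ((Subgroup.closure S).map (PresentedGroup.mk rels)) = 129123503308800 := by
    have := ((Subgroup.closure S).map (PresentedGroup.mk rels)).index_mul_card
    rw [hidx', hcard] at this
    omega
  have hcore := normalCore_eq_bot _ φ f hbij.2 hequiv hinj
  have hne : (Subgroup.closure S).map (PresentedGroup.mk rels) ≠ ⊤ := by
    intro e
    rw [e, Subgroup.index_top] at hidx'
    norm_num at hidx'
  have hgens := BT.All_of_all (fun _ h => of_decide_eq_true h) _ Cfsg.Agent.Lib.Helper28.TCFi23W0M.hgens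
  have hfm := f_mk link hT hn φ hφ f hequiv h0
  have hmax : ∀ K : Subgroup (PresentedGroup rels), (Subgroup.closure S).map (PresentedGroup.mk rels) ≤ K →
      K = (Subgroup.closure S).map (PresentedGroup.mk rels) ∨ K = ⊤ := by
    apply max_of_rank3 _ φ f hbij.1 hequiv (fun q => orbData.oid q.val)
      (fun p q hpq => exists_perm_of_oid_eq link hT φ hφ orbData subPaths hsubmem hsubmem' hclosed hgens hconn p q hpq)
      (PresentedGroup.mk rels (FreeGroup.mk [(.j, true)])) (PresentedGroup.mk rels (FreeGroup.mk yWord))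
      (PresentedGroup.mk rels (FreeGroup.mk hWord)) ?_ 1 2 ?_ ?_ ?_ ?_ ?_
    · -- h ∈ H
      apply Subgroup.mem_map_of_mem
      have e : FreeGroup.mk hWord = FreeGroup.of (Cfsg.Spor.Fi23.Gen.b) := rfl
      rw [e]
      exact Subgroup.subset_closure (by simp [S])
    · intro x hx
      exact cls_of_not_mem _ hn f hbij.1 h0 orbData hclsAll h00 cntc0 x hx
    · show orbData.oid (f _).val = 1
      rw [hfm]; exact hg0
    · show orbData.oid (f _).val = 2
      rw [hfm]; exact hy
    · show orbData.oid (f _).val = 1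
      have e : PresentedGroup.mk rels (FreeGroup.mk yWord) * PresentedGroup.mk rels (FreeGroup.mk hWord) *
          PresentedGroup.mk rels (FreeGroup.mk yWord) = PresentedGroup.mk rels (FreeGroup.mk (yWord ++ hWord ++ yWord)) := by
        rw [← map_mul, ← map_mul, FreeGroup.mul_mk, FreeGroup.mul_mk]
      rw [e, hfm]; exact hz
    · intro K hHK hg
      rw [eq_top_iff, ← PresentedGroup.closure_range_of, Subgroup.closure_le]
      rintro _ ⟨x, rfl⟩
      cases x
      · exact hHK (Subgroup.mem_map_of_mem _ (Subgroup.subset_closure (by simp [S])))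
      · exact hHK (Subgroup.mem_map_of_mem _ (Subgroup.subset_closure (by simp [S])))
      · exact hHK (Subgroup.mem_map_of_mem _ (Subgroup.subset_closure (by simp [S])))
      · exact hHK (Subgroup.mem_map_of_mem _ (Subgroup.subset_closure (by simp [S])))
      · exact hHK (Subgroup.mem_map_of_mem _ (Subgroup.subset_closure (by simp [S])))
      · exact hHK (Subgroup.mem_map_of_mem _ (Subgroup.subset_closure (by simp [S])))
      · exact hHK (Subgroup.mem_map_of_mem _ (Subgroup.subset_closure (by simp [S])))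
      · exact hg
      · exact hHK (Subgroup.mem_map_of_mem _ (Subgroup.subset_closure (by simp [S])))
      · exact hHK (Subgroup.mem_map_of_mem _ (Subgroup.subset_closure (by simp [S])))
  have ht : (PresentedGroup.mk rels (FreeGroup.mk tWord)) ^ 17 = 1 := by
    apply hinj
    rw [map_one, ← map_pow, mk_pow]
    apply phi_mk_eq_one link hT φ hφ
    rw [tPath_eq]
    exact htfix
  exact isSimpleGroup_of_max _ hcore hne hmax 17 (by norm_num) (by rw [hcardH]; norm_num) _ ht hcl

end Cfsg.Agent.S1697
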