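import Cfsg.Statements.S2086
import Cfsg.Agent.Lib.Helper8.CcSLD
import Cfsg.Agent.Lib.Helper13.SchurPSL2
import Cfsg.Agent.Lib.Helper2.GLCard
import Cfsg.Agent.S2117
-- import your own Cfsg.Agent.* helpers here

set_option autoImplicit false
open Cfsg

namespace Cfsg.Agent.S2086

open Cfsg.Agent.Lib.Helper8.StSL in
/-- the special linear groups have trivial Schur multiplier, with the usual exceptions -/
theorem sl_multiplier {F : Type*} [Field F] [Fintype F] {q : ℕ} (hF : Fintype.card F = q) (n : ℕ) (hn : 2 ≤ n)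
    (hexc : (n, q) ∉ ({(2, 4), (2, 9), (3, 2), (3, 4), (4, 2)} : Set (ℕ × ℕ))) :
    Cfsg.HasCyclicSchurMultiplier (Matrix.SpecialLinearGroup (Fin n) F) 1 := by
  simp only [Set.mem_insert_iff, Set.mem_singleton_iff, Prod.mk.injEq, not_or, not_and] at hexc
  by_cases h2 : n = 2
  · subst h2
    exact Cfsg.Agent.S2117.result (by rw [hF]; exact hexc.1 rfl) (by rw [hF]; exact hexc.2.1 rfl)
  · have h3 : 3 ≤ Fintype.card (Fin n) := by rw [Fintype.card_fin]; omega
    apply sl_trivial_multiplier h3
    rw [Fintype.card_fin, hF]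
    simp only [Set.mem_insert_iff, Set.mem_singleton_iff, Prod.mk.injEq, not_or, not_and]
    exact ⟨hexc.2.2.1, hexc.2.2.2.1, hexc.2.2.2.2⟩

open Cfsg.Agent.Lib.Helper8.StSL in
/-- Schur multipliers of the linear groups: for n ≥ 2 and a field F with q elements (q ≥ 4 when n = 2), apart from the five exceptional pairs (n, q) = (2, 4), (2, 9), (3, 2), (3, 4), (4, 2), the Schur multiplier of PSL_n(F) is cyclic of order gcd(n, q − 1); here the Schur multiplier is described through stem extensions, as in the definitions. -/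
theorem result {F : Type*} [Field F] [Fintype F] {q : ℕ} (hF : Fintype.card F = q) (n : ℕ) (hn : 2 ≤ n) (h2 : n = 2 → 4 ≤ q) (hexc : (n, q) ∉ ({(2, 4), (2, 9), (3, 2), (3, 4), (4, 2)} : Set (ℕ × ℕ))) : Cfsg.HasCyclicSchurMultiplier (Matrix.ProjectiveSpecialLinearGroup (Fin n) F) (Nat.gcd n (q - 1)) := by
  classical
  have hSL := sl_multiplier hF n hn hexc
  -- perfectness
  have hperf : commutator (Matrix.SpecialLinearGroup (Fin n) F) = ⊤ := by
    by_cases hn2 : n = 2
    · subst hn2
      have hq := h2 rfl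
      obtain ⟨c, hc0, hc2⟩ := exists_sq_ne_one (K := F) (by omega) (by omega)
      exact Matrix.SL2.commutator_eq_top hc0 hc2
    · exact Cfsg.Agent.Lib.Helper2.sl_commutator_eq_top (by rw [Fintype.card_fin]; omega)
  let σ : Matrix.SpecialLinearGroup (Fin n) F →* Matrix.ProjectiveSpecialLinearGroup (Fin n) F :=
    QuotientGroup.mk' (Subgroup.center (Matrix.SpecialLinearGroup (Fin n) F))
  have hker : σ.ker = Subgroup.center (Matrix.SpecialLinearGroup (Fin n) F) := QuotientGroup.ker_mk' _
  have hσ : Cfsg.IsStemExtension σ := by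
    refine ⟨QuotientGroup.mk'_surjective _, ?_, ?_⟩
    · rw [hker]
    · rw [hperf]; exact le_top
  -- the centre is cyclic of order `gcd (n, q - 1)`
  have hcard : Nat.card (Subgroup.center (Matrix.SpecialLinearGroup (Fin n) F)) = Nat.gcd n (q - 1) := by
    rw [Cfsg.Agent.Lib.Helper2.card_center_SL_field n (by omega), hF]
  haveI : NeZero (max (Fintype.card (Fin n)) 1) := ⟨by positivity⟩
  have hcyc : IsCyclic (Subgroup.center (Matrix.SpecialLinearGroup (Fin n) F)) := by
    let e1 := Matrix.SpecialLinearGroup.center_equiv_rootsOfUnity (n := Fin n) (R := F)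
    exact isCyclic_of_surjective e1.symm e1.symm.surjective
  have e0 := zmodCyclicMulEquiv hcyc
  rw [hcard] at e0
  exact Cfsg.Agent.Lib.Helper13.SchurSL2.hasSchurMultiplier_of_stem_trivial σ hσ hSL
    ((MulEquiv.subgroupCongr hker).trans e0.symm)

end Cfsg.Agent.S2086
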