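import Cfsg.Statements.S1692
import Cfsg.Agent.Lib.Helper28.TC2GlueOrb
import Cfsg.Agent.Lib.Helper28.TCONLink
import Cfsg.Agent.Lib.Helper28.TCONM
import Cfsg.Agent.Lib.Helper28.TCONU0
import Cfsg.Agent.Lib.Helper28.TCONU1
import Cfsg.Agent.Lib.Helper28.TCONU2
import Cfsg.Agent.Lib.Helper28.TCONU3
import Cfsg.Agent.Lib.Helper28.TCONU4
import Cfsg.Agent.Lib.Helper28.TCONU5
import Cfsg.Agent.Lib.Helper28.TCONU6
import Cfsg.Agent.Lib.Helper28.TCONU7
import Cfsg.Agent.Lib.Helper28.TCONU8
import Cfsg.Agent.Lib.Helper28.TCONU9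
import Cfsg.Agent.Lib.Helper28.TCONU10
import Cfsg.Agent.Lib.Helper28.TCONU11
import Cfsg.Agent.Lib.Helper28.TCONU12
import Cfsg.Agent.Lib.Helper28.TCONU13
import Cfsg.Agent.Lib.Helper28.TCONU14
import Cfsg.Agent.Lib.Helper28.TCONU15
import Cfsg.Agent.Lib.Helper28.TCONU16
import Cfsg.Agent.Lib.Helper28.TCONU17
import Cfsg.Agent.Lib.Helper28.TCONU18
import Cfsg.Agent.Lib.Helper28.TCONL0
import Cfsg.Agent.Lib.Helper28.TCONL1
import Cfsg.Agent.Lib.Helper28.TCONL2
import Cfsg.Agent.Lib.Helper28.TCONL3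
import Cfsg.Agent.Lib.Helper28.TCONL4
import Cfsg.Agent.Lib.Helper28.TCONL5
import Cfsg.Agent.Lib.Helper28.TCONL6
import Cfsg.Agent.Lib.Helper28.TCONL7
import Cfsg.Agent.Lib.Helper28.TCONL8
import Cfsg.Agent.Lib.Helper28.TCONL9

set_option autoImplicit false
set_option maxRecDepth 100000
open Cfsg

namespace Cfsg.Agent.S1692
open Cfsg.Agent.Lib.Helper28.TC2Upper Cfsg.Agent.Lib.Helper28.TC2Lower Cfsg.Agent.Lib.Helper28.TC2Glue Cfsg.Agent.Lib.Helper28.TC2GlueOrb Cfsg.Agent.Lib.Helper28.TC2Orbit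
open Cfsg.Agent.Lib.Helper28.TCONData Cfsg.Agent.Lib.Helper28.TCONTable Cfsg.Agent.Lib.Helper28.TCONLink Cfsg.Agent.Lib.Helper28.TCONM

theorem hchk : ∀ v, v < data.N → data.checkNode v = true := by
  intro v hv
  have hv' : v < 229077 := hv
  rcases Nat.lt_or_ge v 1165 with h0 | h0
  · exact (data.checkRange_iff 0 1165).mp Cfsg.Agent.Lib.Helper28.TCONU0.chk0 v (by omega) (by omega)
  rcases Nat.lt_or_ge v 2123 with h1 | h1
  · exact (data.checkRange_iff 1165 958).mp Cfsg.Agent.Lib.Helper28.TCONU0.chk1 v (by omega) (by omega)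
  rcases Nat.lt_or_ge v 3292 with h2 | h2
  · exact (data.checkRange_iff 2123 1169).mp Cfsg.Agent.Lib.Helper28.TCONU0.chk2 v (by omega) (by omega)
  rcases Nat.lt_or_ge v 4355 with h3 | h3
  · exact (data.checkRange_iff 3292 1063).mp Cfsg.Agent.Lib.Helper28.TCONU0.chk3 v (by omega) (by omega)
  rcases Nat.lt_or_ge v 5512 with h4 | h4
  · exact (data.checkRange_iff 4355 1157).mp Cfsg.Agent.Lib.Helper28.TCONU0.chk4 v (by omega) (by omega)
  rcases Nat.lt_or_ge v 6606 with h5 | h5
  · exact (data.checkRange_iff 5512 1094).mp Cfsg.Agent.Lib.Helper28.TCONU0.chk5 v (by omega) (by omega)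
  rcases Nat.lt_or_ge v 7615 with h6 | h6
  · exact (data.checkRange_iff 6606 1009).mp Cfsg.Agent.Lib.Helper28.TCONU0.chk6 v (by omega) (by omega)
  rcases Nat.lt_or_ge v 8687 with h7 | h7
  · exact (data.checkRange_iff 7615 1072).mp Cfsg.Agent.Lib.Helper28.TCONU0.chk7 v (by omega) (by omega)
  rcases Nat.lt_or_ge v 9761 with h8 | h8
  · exact (data.checkRange_iff 8687 1074).mp Cfsg.Agent.Lib.Helper28.TCONU0.chk8 v (by omega) (by omega)
  rcases Nat.lt_or_ge v 11004 with h9 | h9
  · exact (data.checkRange_iff 9761 1243).mp Cfsg.Agent.Lib.Helper28.TCONU0.chk9 v (by omega) (by omega)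
  rcases Nat.lt_or_ge v 11996 with h10 | h10
  · exact (data.checkRange_iff 11004 992).mp Cfsg.Agent.Lib.Helper28.TCONU1.chk10 v (by omega) (by omega)
  rcases Nat.lt_or_ge v 13002 with h11 | h11
  · exact (data.checkRange_iff 11996 1006).mp Cfsg.Agent.Lib.Helper28.TCONU1.chk11 v (by omega) (by omega)
  rcases Nat.lt_or_ge v 13992 with h12 | h12
  · exact (data.checkRange_iff 13002 990).mp Cfsg.Agent.Lib.Helper28.TCONU1.chk12 v (by omega) (by omega)
  rcases Nat.lt_or_ge v 14967 with h13 | h13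
  · exact (data.checkRange_iff 13992 975).mp Cfsg.Agent.Lib.Helper28.TCONU1.chk13 v (by omega) (by omega)
  rcases Nat.lt_or_ge v 16123 with h14 | h14
  · exact (data.checkRange_iff 14967 1156).mp Cfsg.Agent.Lib.Helper28.TCONU1.chk14 v (by omega) (by omega)
  rcases Nat.lt_or_ge v 17295 with h15 | h15
  · exact (data.checkRange_iff 16123 1172).mp Cfsg.Agent.Lib.Helper28.TCONU1.chk15 v (by omega) (by omega)
  rcases Nat.lt_or_ge v 18269 with h16 | h16
  · exact (data.checkRange_iff 17295 974).mp Cfsg.Agent.Lib.Helper28.TCONU1.chk16 v (by omega) (by omega)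
  rcases Nat.lt_or_ge v 19316 with h17 | h17
  · exact (data.checkRange_iff 18269 1047).mp Cfsg.Agent.Lib.Helper28.TCONU1.chk17 v (by omega) (by omega)
  rcases Nat.lt_or_ge v 20361 with h18 | h18
  · exact (data.checkRange_iff 19316 1045).mp Cfsg.Agent.Lib.Helper28.TCONU1.chk18 v (by omega) (by omega)
  rcases Nat.lt_or_ge v 21571 with h19 | h19
  · exact (data.checkRange_iff 20361 1210).mp Cfsg.Agent.Lib.Helper28.TCONU1.chk19 v (by omega) (by omega)
  rcases Nat.lt_or_ge v 22840 with h20 | h20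
  · exact (data.checkRange_iff 21571 1269).mp Cfsg.Agent.Lib.Helper28.TCONU2.chk20 v (by omega) (by omega)
  rcases Nat.lt_or_ge v 24100 with h21 | h21
  · exact (data.checkRange_iff 22840 1260).mp Cfsg.Agent.Lib.Helper28.TCONU2.chk21 v (by omega) (by omega)
  rcases Nat.lt_or_ge v 25095 with h22 | h22
  · exact (data.checkRange_iff 24100 995).mp Cfsg.Agent.Lib.Helper28.TCONU2.chk22 v (by omega) (by omega)
  rcases Nat.lt_or_ge v 26018 with h23 | h23
  · exact (data.checkRange_iff 25095 923).mp Cfsg.Agent.Lib.Helper28.TCONU2.chk23 v (by omega) (by omega)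
  rcases Nat.lt_or_ge v 26986 with h24 | h24
  · exact (data.checkRange_iff 26018 968).mp Cfsg.Agent.Lib.Helper28.TCONU2.chk24 v (by omega) (by omega)
  rcases Nat.lt_or_ge v 27959 with h25 | h25
  · exact (data.checkRange_iff 26986 973).mp Cfsg.Agent.Lib.Helper28.TCONU2.chk25 v (by omega) (by omega)
  rcases Nat.lt_or_ge v 28923 with h26 | h26
  · exact (data.checkRange_iff 27959 964).mp Cfsg.Agent.Lib.Helper28.TCONU2.chk26 v (by omega) (by omega)
  rcases Nat.lt_or_ge v 29929 with h27 | h27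
  · exact (data.checkRange_iff 28923 1006).mp Cfsg.Agent.Lib.Helper28.TCONU2.chk27 v (by omega) (by omega)
  rcases Nat.lt_or_ge v 30869 with h28 | h28
  · exact (data.checkRange_iff 29929 940).mp Cfsg.Agent.Lib.Helper28.TCONU2.chk28 v (by omega) (by omega)
  rcases Nat.lt_or_ge v 31848 with h29 | h29
  · exact (data.checkRange_iff 30869 979).mp Cfsg.Agent.Lib.Helper28.TCONU2.chk29 v (by omega) (by omega)
  rcases Nat.lt_or_ge v 32901 with h30 | h30
  · exact (data.checkRange_iff 31848 1053).mp Cfsg.Agent.Lib.Helper28.TCONU3.chk30 v (by omega) (by omega)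
  rcases Nat.lt_or_ge v 33882 with h31 | h31
  · exact (data.checkRange_iff 32901 981).mp Cfsg.Agent.Lib.Helper28.TCONU3.chk31 v (by omega) (by omega)
  rcases Nat.lt_or_ge v 34897 with h32 | h32
  · exact (data.checkRange_iff 33882 1015).mp Cfsg.Agent.Lib.Helper28.TCONU3.chk32 v (by omega) (by omega)
  rcases Nat.lt_or_ge v 35858 with h33 | h33
  · exact (data.checkRange_iff 34897 961).mp Cfsg.Agent.Lib.Helper28.TCONU3.chk33 v (by omega) (by omega)
  rcases Nat.lt_or_ge v 36858 with h34 | h34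
  · exact (data.checkRange_iff 35858 1000).mp Cfsg.Agent.Lib.Helper28.TCONU3.chk34 v (by omega) (by omega)
  rcases Nat.lt_or_ge v 38098 with h35 | h35
  · exact (data.checkRange_iff 36858 1240).mp Cfsg.Agent.Lib.Helper28.TCONU3.chk35 v (by omega) (by omega)
  rcases Nat.lt_or_ge v 39372 with h36 | h36
  · exact (data.checkRange_iff 38098 1274).mp Cfsg.Agent.Lib.Helper28.TCONU3.chk36 v (by omega) (by omega)
  rcases Nat.lt_or_ge v 40548 with h37 | h37
  · exact (data.checkRange_iff 39372 1176).mp Cfsg.Agent.Lib.Helper28.TCONU3.chk37 v (by omega) (by omega)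
  rcases Nat.lt_or_ge v 41758 with h38 | h38
  · exact (data.checkRange_iff 40548 1210).mp Cfsg.Agent.Lib.Helper28.TCONU3.chk38 v (by omega) (by omega)
  rcases Nat.lt_or_ge v 42871 with h39 | h39
  · exact (data.checkRange_iff 41758 1113).mp Cfsg.Agent.Lib.Helper28.TCONU3.chk39 v (by omega) (by omega)
  rcases Nat.lt_or_ge v 44220 with h40 | h40
  · exact (data.checkRange_iff 42871 1349).mp Cfsg.Agent.Lib.Helper28.TCONU4.chk40 v (by omega) (by omega)
  rcases Nat.lt_or_ge v 45546 with h41 | h41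
  · exact (data.checkRange_iff 44220 1326).mp Cfsg.Agent.Lib.Helper28.TCONU4.chk41 v (by omega) (by omega)
  rcases Nat.lt_or_ge v 46736 with h42 | h42
  · exact (data.checkRange_iff 45546 1190).mp Cfsg.Agent.Lib.Helper28.TCONU4.chk42 v (by omega) (by omega)
  rcases Nat.lt_or_ge v 47882 with h43 | h43
  · exact (data.checkRange_iff 46736 1146).mp Cfsg.Agent.Lib.Helper28.TCONU4.chk43 v (by omega) (by omega)
  rcases Nat.lt_or_ge v 48938 with h44 | h44
  · exact (data.checkRange_iff 47882 1056).mp Cfsg.Agent.Lib.Helper28.TCONU4.chk44 v (by omega) (by omega)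
  rcases Nat.lt_or_ge v 50075 with h45 | h45
  · exact (data.checkRange_iff 48938 1137).mp Cfsg.Agent.Lib.Helper28.TCONU4.chk45 v (by omega) (by omega)
  rcases Nat.lt_or_ge v 51009 with h46 | h46
  · exact (data.checkRange_iff 50075 934).mp Cfsg.Agent.Lib.Helper28.TCONU4.chk46 v (by omega) (by omega)
  rcases Nat.lt_or_ge v 52069 with h47 | h47
  · exact (data.checkRange_iff 51009 1060).mp Cfsg.Agent.Lib.Helper28.TCONU4.chk47 v (by omega) (by omega)
  rcases Nat.lt_or_ge v 53121 with h48 | h48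
  · exact (data.checkRange_iff 52069 1052).mp Cfsg.Agent.Lib.Helper28.TCONU4.chk48 v (by omega) (by omega)
  rcases Nat.lt_or_ge v 54080 with h49 | h49
  · exact (data.checkRange_iff 53121 959).mp Cfsg.Agent.Lib.Helper28.TCONU4.chk49 v (by omega) (by omega)
  rcases Nat.lt_or_ge v 55111 with h50 | h50
  · exact (data.checkRange_iff 54080 1031).mp Cfsg.Agent.Lib.Helper28.TCONU5.chk50 v (by omega) (by omega)
  rcases Nat.lt_or_ge v 56092 with h51 | h51
  · exact (data.checkRange_iff 55111 981).mp Cfsg.Agent.Lib.Helper28.TCONU5.chk51 v (by omega) (by omega)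
  rcases Nat.lt_or_ge v 57277 with h52 | h52
  · exact (data.checkRange_iff 56092 1185).mp Cfsg.Agent.Lib.Helper28.TCONU5.chk52 v (by omega) (by omega)
  rcases Nat.lt_or_ge v 58734 with h53 | h53
  · exact (data.checkRange_iff 57277 1457).mp Cfsg.Agent.Lib.Helper28.TCONU5.chk53 v (by omega) (by omega)
  rcases Nat.lt_or_ge v 59932 with h54 | h54
  · exact (data.checkRange_iff 58734 1198).mp Cfsg.Agent.Lib.Helper28.TCONU5.chk54 v (by omega) (by omega)
  rcases Nat.lt_or_ge v 61036 with h55 | h55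
  · exact (data.checkRange_iff 59932 1104).mp Cfsg.Agent.Lib.Helper28.TCONU5.chk55 v (by omega) (by omega)
  rcases Nat.lt_or_ge v 62054 with h56 | h56
  · exact (data.checkRange_iff 61036 1018).mp Cfsg.Agent.Lib.Helper28.TCONU5.chk56 v (by omega) (by omega)
  rcases Nat.lt_or_ge v 63050 with h57 | h57
  · exact (data.checkRange_iff 62054 996).mp Cfsg.Agent.Lib.Helper28.TCONU5.chk57 v (by omega) (by omega)
  rcases Nat.lt_or_ge v 64086 with h58 | h58
  · exact (data.checkRange_iff 63050 1036).mp Cfsg.Agent.Lib.Helper28.TCONU5.chk58 v (by omega) (by omega)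
  rcases Nat.lt_or_ge v 65123 with h59 | h59
  · exact (data.checkRange_iff 64086 1037).mp Cfsg.Agent.Lib.Helper28.TCONU5.chk59 v (by omega) (by omega)
  rcases Nat.lt_or_ge v 66227 with h60 | h60
  · exact (data.checkRange_iff 65123 1104).mp Cfsg.Agent.Lib.Helper28.TCONU6.chk60 v (by omega) (by omega)
  rcases Nat.lt_or_ge v 67429 with h61 | h61
  · exact (data.checkRange_iff 66227 1202).mp Cfsg.Agent.Lib.Helper28.TCONU6.chk61 v (by omega) (by omega)
  rcases Nat.lt_or_ge v 68778 with h62 | h62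
  · exact (data.checkRange_iff 67429 1349).mp Cfsg.Agent.Lib.Helper28.TCONU6.chk62 v (by omega) (by omega)
  rcases Nat.lt_or_ge v 69906 with h63 | h63
  · exact (data.checkRange_iff 68778 1128).mp Cfsg.Agent.Lib.Helper28.TCONU6.chk63 v (by omega) (by omega)
  rcases Nat.lt_or_ge v 70987 with h64 | h64
  · exact (data.checkRange_iff 69906 1081).mp Cfsg.Agent.Lib.Helper28.TCONU6.chk64 v (by omega) (by omega)
  rcases Nat.lt_or_ge v 72292 with h65 | h65
  · exact (data.checkRange_iff 70987 1305).mp Cfsg.Agent.Lib.Helper28.TCONU6.chk65 v (by omega) (by omega)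
  rcases Nat.lt_or_ge v 73507 with h66 | h66
  · exact (data.checkRange_iff 72292 1215).mp Cfsg.Agent.Lib.Helper28.TCONU6.chk66 v (by omega) (by omega)
  rcases Nat.lt_or_ge v 74852 with h67 | h67
  · exact (data.checkRange_iff 73507 1345).mp Cfsg.Agent.Lib.Helper28.TCONU6.chk67 v (by omega) (by omega)
  rcases Nat.lt_or_ge v 76067 with h68 | h68
  · exact (data.checkRange_iff 74852 1215).mp Cfsg.Agent.Lib.Helper28.TCONU6.chk68 v (by omega) (by omega)
  rcases Nat.lt_or_ge v 77380 with h69 | h69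
  · exact (data.checkRange_iff 76067 1313).mp Cfsg.Agent.Lib.Helper28.TCONU6.chk69 v (by omega) (by omega)
  rcases Nat.lt_or_ge v 78577 with h70 | h70
  · exact (data.checkRange_iff 77380 1197).mp Cfsg.Agent.Lib.Helper28.TCONU7.chk70 v (by omega) (by omega)
  rcases Nat.lt_or_ge v 79909 with h71 | h71
  · exact (data.checkRange_iff 78577 1332).mp Cfsg.Agent.Lib.Helper28.TCONU7.chk71 v (by omega) (by omega)
  rcases Nat.lt_or_ge v 81275 with h72 | h72
  · exact (data.checkRange_iff 79909 1366).mp Cfsg.Agent.Lib.Helper28.TCONU7.chk72 v (by omega) (by omega)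
  rcases Nat.lt_or_ge v 82962 with h73 | h73
  · exact (data.checkRange_iff 81275 1687).mp Cfsg.Agent.Lib.Helper28.TCONU7.chk73 v (by omega) (by omega)
  rcases Nat.lt_or_ge v 84362 with h74 | h74
  · exact (data.checkRange_iff 82962 1400).mp Cfsg.Agent.Lib.Helper28.TCONU7.chk74 v (by omega) (by omega)
  rcases Nat.lt_or_ge v 85492 with h75 | h75
  · exact (data.checkRange_iff 84362 1130).mp Cfsg.Agent.Lib.Helper28.TCONU7.chk75 v (by omega) (by omega)
  rcases Nat.lt_or_ge v 86730 with h76 | h76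
  · exact (data.checkRange_iff 85492 1238).mp Cfsg.Agent.Lib.Helper28.TCONU7.chk76 v (by omega) (by omega)
  rcases Nat.lt_or_ge v 88053 with h77 | h77
  · exact (data.checkRange_iff 86730 1323).mp Cfsg.Agent.Lib.Helper28.TCONU7.chk77 v (by omega) (by omega)
  rcases Nat.lt_or_ge v 89346 with h78 | h78
  · exact (data.checkRange_iff 88053 1293).mp Cfsg.Agent.Lib.Helper28.TCONU7.chk78 v (by omega) (by omega)
  rcases Nat.lt_or_ge v 90519 with h79 | h79
  · exact (data.checkRange_iff 89346 1173).mp Cfsg.Agent.Lib.Helper28.TCONU7.chk79 v (by omega) (by omega)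
  rcases Nat.lt_or_ge v 91825 with h80 | h80
  · exact (data.checkRange_iff 90519 1306).mp Cfsg.Agent.Lib.Helper28.TCONU8.chk80 v (by omega) (by omega)
  rcases Nat.lt_or_ge v 93854 with h81 | h81
  · exact (data.checkRange_iff 91825 2029).mp Cfsg.Agent.Lib.Helper28.TCONU8.chk81 v (by omega) (by omega)
  rcases Nat.lt_or_ge v 95384 with h82 | h82
  · exact (data.checkRange_iff 93854 1530).mp Cfsg.Agent.Lib.Helper28.TCONU8.chk82 v (by omega) (by omega)
  rcases Nat.lt_or_ge v 97237 with h83 | h83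
  · exact (data.checkRange_iff 95384 1853).mp Cfsg.Agent.Lib.Helper28.TCONU8.chk83 v (by omega) (by omega)
  rcases Nat.lt_or_ge v 98589 with h84 | h84
  · exact (data.checkRange_iff 97237 1352).mp Cfsg.Agent.Lib.Helper28.TCONU8.chk84 v (by omega) (by omega)
  rcases Nat.lt_or_ge v 100311 with h85 | h85
  · exact (data.checkRange_iff 98589 1722).mp Cfsg.Agent.Lib.Helper28.TCONU8.chk85 v (by omega) (by omega)
  rcases Nat.lt_or_ge v 101822 with h86 | h86
  · exact (data.checkRange_iff 100311 1511).mp Cfsg.Agent.Lib.Helper28.TCONU8.chk86 v (by omega) (by omega)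
  rcases Nat.lt_or_ge v 103179 with h87 | h87
  · exact (data.checkRange_iff 101822 1357).mp Cfsg.Agent.Lib.Helper28.TCONU8.chk87 v (by omega) (by omega)
  rcases Nat.lt_or_ge v 104633 with h88 | h88
  · exact (data.checkRange_iff 103179 1454).mp Cfsg.Agent.Lib.Helper28.TCONU8.chk88 v (by omega) (by omega)
  rcases Nat.lt_or_ge v 106385 with h89 | h89
  · exact (data.checkRange_iff 104633 1752).mp Cfsg.Agent.Lib.Helper28.TCONU8.chk89 v (by omega) (by omega)
  rcases Nat.lt_or_ge v 107744 with h90 | h90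
  · exact (data.checkRange_iff 106385 1359).mp Cfsg.Agent.Lib.Helper28.TCONU9.chk90 v (by omega) (by omega)
  rcases Nat.lt_or_ge v 108754 with h91 | h91
  · exact (data.checkRange_iff 107744 1010).mp Cfsg.Agent.Lib.Helper28.TCONU9.chk91 v (by omega) (by omega)
  rcases Nat.lt_or_ge v 109935 with h92 | h92
  · exact (data.checkRange_iff 108754 1181).mp Cfsg.Agent.Lib.Helper28.TCONU9.chk92 v (by omega) (by omega)
  rcases Nat.lt_or_ge v 110969 with h93 | h93
  · exact (data.checkRange_iff 109935 1034).mp Cfsg.Agent.Lib.Helper28.TCONU9.chk93 v (by omega) (by omega)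
  rcases Nat.lt_or_ge v 112548 with h94 | h94
  · exact (data.checkRange_iff 110969 1579).mp Cfsg.Agent.Lib.Helper28.TCONU9.chk94 v (by omega) (by omega)
  rcases Nat.lt_or_ge v 113642 with h95 | h95
  · exact (data.checkRange_iff 112548 1094).mp Cfsg.Agent.Lib.Helper28.TCONU9.chk95 v (by omega) (by omega)
  rcases Nat.lt_or_ge v 114969 with h96 | h96
  · exact (data.checkRange_iff 113642 1327).mp Cfsg.Agent.Lib.Helper28.TCONU9.chk96 v (by omega) (by omega)
  rcases Nat.lt_or_ge v 116049 with h97 | h97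
  · exact (data.checkRange_iff 114969 1080).mp Cfsg.Agent.Lib.Helper28.TCONU9.chk97 v (by omega) (by omega)
  rcases Nat.lt_or_ge v 117162 with h98 | h98
  · exact (data.checkRange_iff 116049 1113).mp Cfsg.Agent.Lib.Helper28.TCONU9.chk98 v (by omega) (by omega)
  rcases Nat.lt_or_ge v 118592 with h99 | h99
  · exact (data.checkRange_iff 117162 1430).mp Cfsg.Agent.Lib.Helper28.TCONU9.chk99 v (by omega) (by omega)
  rcases Nat.lt_or_ge v 119907 with h100 | h100
  · exact (data.checkRange_iff 118592 1315).mp Cfsg.Agent.Lib.Helper28.TCONU10.chk100 v (by omega) (by omega)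
  rcases Nat.lt_or_ge v 121273 with h101 | h101
  · exact (data.checkRange_iff 119907 1366).mp Cfsg.Agent.Lib.Helper28.TCONU10.chk101 v (by omega) (by omega)
  rcases Nat.lt_or_ge v 122636 with h102 | h102
  · exact (data.checkRange_iff 121273 1363).mp Cfsg.Agent.Lib.Helper28.TCONU10.chk102 v (by omega) (by omega)
  rcases Nat.lt_or_ge v 124621 with h103 | h103
  · exact (data.checkRange_iff 122636 1985).mp Cfsg.Agent.Lib.Helper28.TCONU10.chk103 v (by omega) (by omega)
  rcases Nat.lt_or_ge v 126166 with h104 | h104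
  · exact (data.checkRange_iff 124621 1545).mp Cfsg.Agent.Lib.Helper28.TCONU10.chk104 v (by omega) (by omega)
  rcases Nat.lt_or_ge v 127493 with h105 | h105
  · exact (data.checkRange_iff 126166 1327).mp Cfsg.Agent.Lib.Helper28.TCONU10.chk105 v (by omega) (by omega)
  rcases Nat.lt_or_ge v 128651 with h106 | h106
  · exact (data.checkRange_iff 127493 1158).mp Cfsg.Agent.Lib.Helper28.TCONU10.chk106 v (by omega) (by omega)
  rcases Nat.lt_or_ge v 129953 with h107 | h107
  · exact (data.checkRange_iff 128651 1302).mp Cfsg.Agent.Lib.Helper28.TCONU10.chk107 v (by omega) (by omega)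
  rcases Nat.lt_or_ge v 131126 with h108 | h108
  · exact (data.checkRange_iff 129953 1173).mp Cfsg.Agent.Lib.Helper28.TCONU10.chk108 v (by omega) (by omega)
  rcases Nat.lt_or_ge v 132473 with h109 | h109
  · exact (data.checkRange_iff 131126 1347).mp Cfsg.Agent.Lib.Helper28.TCONU10.chk109 v (by omega) (by omega)
  rcases Nat.lt_or_ge v 133775 with h110 | h110
  · exact (data.checkRange_iff 132473 1302).mp Cfsg.Agent.Lib.Helper28.TCONU11.chk110 v (by omega) (by omega)
  rcases Nat.lt_or_ge v 135022 with h111 | h111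
  · exact (data.checkRange_iff 133775 1247).mp Cfsg.Agent.Lib.Helper28.TCONU11.chk111 v (by omega) (by omega)
  rcases Nat.lt_or_ge v 136322 with h112 | h112
  · exact (data.checkRange_iff 135022 1300).mp Cfsg.Agent.Lib.Helper28.TCONU11.chk112 v (by omega) (by omega)
  rcases Nat.lt_or_ge v 137520 with h113 | h113
  · exact (data.checkRange_iff 136322 1198).mp Cfsg.Agent.Lib.Helper28.TCONU11.chk113 v (by omega) (by omega)
  rcases Nat.lt_or_ge v 138665 with h114 | h114
  · exact (data.checkRange_iff 137520 1145).mp Cfsg.Agent.Lib.Helper28.TCONU11.chk114 v (by omega) (by omega)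
  rcases Nat.lt_or_ge v 139847 with h115 | h115
  · exact (data.checkRange_iff 138665 1182).mp Cfsg.Agent.Lib.Helper28.TCONU11.chk115 v (by omega) (by omega)
  rcases Nat.lt_or_ge v 141510 with h116 | h116
  · exact (data.checkRange_iff 139847 1663).mp Cfsg.Agent.Lib.Helper28.TCONU11.chk116 v (by omega) (by omega)
  rcases Nat.lt_or_ge v 142959 with h117 | h117
  · exact (data.checkRange_iff 141510 1449).mp Cfsg.Agent.Lib.Helper28.TCONU11.chk117 v (by omega) (by omega)
  rcases Nat.lt_or_ge v 144742 with h118 | h118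
  · exact (data.checkRange_iff 142959 1783).mp Cfsg.Agent.Lib.Helper28.TCONU11.chk118 v (by omega) (by omega)
  rcases Nat.lt_or_ge v 146584 with h119 | h119
  · exact (data.checkRange_iff 144742 1842).mp Cfsg.Agent.Lib.Helper28.TCONU11.chk119 v (by omega) (by omega)
  rcases Nat.lt_or_ge v 148216 with h120 | h120
  · exact (data.checkRange_iff 146584 1632).mp Cfsg.Agent.Lib.Helper28.TCONU12.chk120 v (by omega) (by omega)
  rcases Nat.lt_or_ge v 149646 with h121 | h121
  · exact (data.checkRange_iff 148216 1430).mp Cfsg.Agent.Lib.Helper28.TCONU12.chk121 v (by omega) (by omega)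
  rcases Nat.lt_or_ge v 151213 with h122 | h122
  · exact (data.checkRange_iff 149646 1567).mp Cfsg.Agent.Lib.Helper28.TCONU12.chk122 v (by omega) (by omega)
  rcases Nat.lt_or_ge v 152934 with h123 | h123
  · exact (data.checkRange_iff 151213 1721).mp Cfsg.Agent.Lib.Helper28.TCONU12.chk123 v (by omega) (by omega)
  rcases Nat.lt_or_ge v 154773 with h124 | h124
  · exact (data.checkRange_iff 152934 1839).mp Cfsg.Agent.Lib.Helper28.TCONU12.chk124 v (by omega) (by omega)
  rcases Nat.lt_or_ge v 156330 with h125 | h125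
  · exact (data.checkRange_iff 154773 1557).mp Cfsg.Agent.Lib.Helper28.TCONU12.chk125 v (by omega) (by omega)
  rcases Nat.lt_or_ge v 158012 with h126 | h126
  · exact (data.checkRange_iff 156330 1682).mp Cfsg.Agent.Lib.Helper28.TCONU12.chk126 v (by omega) (by omega)
  rcases Nat.lt_or_ge v 159620 with h127 | h127
  · exact (data.checkRange_iff 158012 1608).mp Cfsg.Agent.Lib.Helper28.TCONU12.chk127 v (by omega) (by omega)
  rcases Nat.lt_or_ge v 161352 with h128 | h128
  · exact (data.checkRange_iff 159620 1732).mp Cfsg.Agent.Lib.Helper28.TCONU12.chk128 v (by omega) (by omega)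
  rcases Nat.lt_or_ge v 162797 with h129 | h129
  · exact (data.checkRange_iff 161352 1445).mp Cfsg.Agent.Lib.Helper28.TCONU12.chk129 v (by omega) (by omega)
  rcases Nat.lt_or_ge v 165109 with h130 | h130
  · exact (data.checkRange_iff 162797 2312).mp Cfsg.Agent.Lib.Helper28.TCONU13.chk130 v (by omega) (by omega)
  rcases Nat.lt_or_ge v 166782 with h131 | h131
  · exact (data.checkRange_iff 165109 1673).mp Cfsg.Agent.Lib.Helper28.TCONU13.chk131 v (by omega) (by omega)
  rcases Nat.lt_or_ge v 169233 with h132 | h132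
  · exact (data.checkRange_iff 166782 2451).mp Cfsg.Agent.Lib.Helper28.TCONU13.chk132 v (by omega) (by omega)
  rcases Nat.lt_or_ge v 172686 with h133 | h133
  · exact (data.checkRange_iff 169233 3453).mp Cfsg.Agent.Lib.Helper28.TCONU13.chk133 v (by omega) (by omega)
  rcases Nat.lt_or_ge v 175353 with h134 | h134
  · exact (data.checkRange_iff 172686 2667).mp Cfsg.Agent.Lib.Helper28.TCONU13.chk134 v (by omega) (by omega)
  rcases Nat.lt_or_ge v 177281 with h135 | h135
  · exact (data.checkRange_iff 175353 1928).mp Cfsg.Agent.Lib.Helper28.TCONU13.chk135 v (by omega) (by omega)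
  rcases Nat.lt_or_ge v 179322 with h136 | h136
  · exact (data.checkRange_iff 177281 2041).mp Cfsg.Agent.Lib.Helper28.TCONU13.chk136 v (by omega) (by omega)
  rcases Nat.lt_or_ge v 181071 with h137 | h137
  · exact (data.checkRange_iff 179322 1749).mp Cfsg.Agent.Lib.Helper28.TCONU13.chk137 v (by omega) (by omega)
  rcases Nat.lt_or_ge v 183140 with h138 | h138
  · exact (data.checkRange_iff 181071 2069).mp Cfsg.Agent.Lib.Helper28.TCONU13.chk138 v (by omega) (by omega)
  rcases Nat.lt_or_ge v 185278 with h139 | h139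
  · exact (data.checkRange_iff 183140 2138).mp Cfsg.Agent.Lib.Helper28.TCONU13.chk139 v (by omega) (by omega)
  rcases Nat.lt_or_ge v 187354 with h140 | h140
  · exact (data.checkRange_iff 185278 2076).mp Cfsg.Agent.Lib.Helper28.TCONU14.chk140 v (by omega) (by omega)
  rcases Nat.lt_or_ge v 189165 with h141 | h141
  · exact (data.checkRange_iff 187354 1811).mp Cfsg.Agent.Lib.Helper28.TCONU14.chk141 v (by omega) (by omega)
  rcases Nat.lt_or_ge v 190188 with h142 | h142
  · exact (data.checkRange_iff 189165 1023).mp Cfsg.Agent.Lib.Helper28.TCONU14.chk142 v (by omega) (by omega)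
  rcases Nat.lt_or_ge v 191100 with h143 | h143
  · exact (data.checkRange_iff 190188 912).mp Cfsg.Agent.Lib.Helper28.TCONU14.chk143 v (by omega) (by omega)
  rcases Nat.lt_or_ge v 192023 with h144 | h144
  · exact (data.checkRange_iff 191100 923).mp Cfsg.Agent.Lib.Helper28.TCONU14.chk144 v (by omega) (by omega)
  rcases Nat.lt_or_ge v 192953 with h145 | h145
  · exact (data.checkRange_iff 192023 930).mp Cfsg.Agent.Lib.Helper28.TCONU14.chk145 v (by omega) (by omega)
  rcases Nat.lt_or_ge v 193865 with h146 | h146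
  · exact (data.checkRange_iff 192953 912).mp Cfsg.Agent.Lib.Helper28.TCONU14.chk146 v (by omega) (by omega)
  rcases Nat.lt_or_ge v 194772 with h147 | h147
  · exact (data.checkRange_iff 193865 907).mp Cfsg.Agent.Lib.Helper28.TCONU14.chk147 v (by omega) (by omega)
  rcases Nat.lt_or_ge v 195680 with h148 | h148
  · exact (data.checkRange_iff 194772 908).mp Cfsg.Agent.Lib.Helper28.TCONU14.chk148 v (by omega) (by omega)
  rcases Nat.lt_or_ge v 196588 with h149 | h149
  · exact (data.checkRange_iff 195680 908).mp Cfsg.Agent.Lib.Helper28.TCONU14.chk149 v (by omega) (by omega)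
  rcases Nat.lt_or_ge v 197501 with h150 | h150
  · exact (data.checkRange_iff 196588 913).mp Cfsg.Agent.Lib.Helper28.TCONU15.chk150 v (by omega) (by omega)
  rcases Nat.lt_or_ge v 198403 with h151 | h151
  · exact (data.checkRange_iff 197501 902).mp Cfsg.Agent.Lib.Helper28.TCONU15.chk151 v (by omega) (by omega)
  rcases Nat.lt_or_ge v 199303 with h152 | h152
  · exact (data.checkRange_iff 198403 900).mp Cfsg.Agent.Lib.Helper28.TCONU15.chk152 v (by omega) (by omega)
  rcases Nat.lt_or_ge v 200211 with h153 | h153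
  · exact (data.checkRange_iff 199303 908).mp Cfsg.Agent.Lib.Helper28.TCONU15.chk153 v (by omega) (by omega)
  rcases Nat.lt_or_ge v 201116 with h154 | h154
  · exact (data.checkRange_iff 200211 905).mp Cfsg.Agent.Lib.Helper28.TCONU15.chk154 v (by omega) (by omega)
  rcases Nat.lt_or_ge v 202028 with h155 | h155
  · exact (data.checkRange_iff 201116 912).mp Cfsg.Agent.Lib.Helper28.TCONU15.chk155 v (by omega) (by omega)
  rcases Nat.lt_or_ge v 202926 with h156 | h156
  · exact (data.checkRange_iff 202028 898).mp Cfsg.Agent.Lib.Helper28.TCONU15.chk156 v (by omega) (by omega)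
  rcases Nat.lt_or_ge v 203823 with h157 | h157
  · exact (data.checkRange_iff 202926 897).mp Cfsg.Agent.Lib.Helper28.TCONU15.chk157 v (by omega) (by omega)
  rcases Nat.lt_or_ge v 204722 with h158 | h158
  · exact (data.checkRange_iff 203823 899).mp Cfsg.Agent.Lib.Helper28.TCONU15.chk158 v (by omega) (by omega)
  rcases Nat.lt_or_ge v 205626 with h159 | h159
  · exact (data.checkRange_iff 204722 904).mp Cfsg.Agent.Lib.Helper28.TCONU15.chk159 v (by omega) (by omega)
  rcases Nat.lt_or_ge v 206520 with h160 | h160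
  · exact (data.checkRange_iff 205626 894).mp Cfsg.Agent.Lib.Helper28.TCONU16.chk160 v (by omega) (by omega)
  rcases Nat.lt_or_ge v 207418 with h161 | h161
  · exact (data.checkRange_iff 206520 898).mp Cfsg.Agent.Lib.Helper28.TCONU16.chk161 v (by omega) (by omega)
  rcases Nat.lt_or_ge v 208325 with h162 | h162
  · exact (data.checkRange_iff 207418 907).mp Cfsg.Agent.Lib.Helper28.TCONU16.chk162 v (by omega) (by omega)
  rcases Nat.lt_or_ge v 209220 with h163 | h163
  · exact (data.checkRange_iff 208325 895).mp Cfsg.Agent.Lib.Helper28.TCONU16.chk163 v (by omega) (by omega)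
  rcases Nat.lt_or_ge v 210113 with h164 | h164
  · exact (data.checkRange_iff 209220 893).mp Cfsg.Agent.Lib.Helper28.TCONU16.chk164 v (by omega) (by omega)
  rcases Nat.lt_or_ge v 211006 with h165 | h165
  · exact (data.checkRange_iff 210113 893).mp Cfsg.Agent.Lib.Helper28.TCONU16.chk165 v (by omega) (by omega)
  rcases Nat.lt_or_ge v 211897 with h166 | h166
  · exact (data.checkRange_iff 211006 891).mp Cfsg.Agent.Lib.Helper28.TCONU16.chk166 v (by omega) (by omega)
  rcases Nat.lt_or_ge v 212789 with h167 | h167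
  · exact (data.checkRange_iff 211897 892).mp Cfsg.Agent.Lib.Helper28.TCONU16.chk167 v (by omega) (by omega)
  rcases Nat.lt_or_ge v 213686 with h168 | h168
  · exact (data.checkRange_iff 212789 897).mp Cfsg.Agent.Lib.Helper28.TCONU16.chk168 v (by omega) (by omega)
  rcases Nat.lt_or_ge v 214581 with h169 | h169
  · exact (data.checkRange_iff 213686 895).mp Cfsg.Agent.Lib.Helper28.TCONU16.chk169 v (by omega) (by omega)
  rcases Nat.lt_or_ge v 215474 with h170 | h170
  · exact (data.checkRange_iff 214581 893).mp Cfsg.Agent.Lib.Helper28.TCONU17.chk170 v (by omega) (by omega)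
  rcases Nat.lt_or_ge v 216368 with h171 | h171
  · exact (data.checkRange_iff 215474 894).mp Cfsg.Agent.Lib.Helper28.TCONU17.chk171 v (by omega) (by omega)
  rcases Nat.lt_or_ge v 217260 with h172 | h172
  · exact (data.checkRange_iff 216368 892).mp Cfsg.Agent.Lib.Helper28.TCONU17.chk172 v (by omega) (by omega)
  rcases Nat.lt_or_ge v 218150 with h173 | h173
  · exact (data.checkRange_iff 217260 890).mp Cfsg.Agent.Lib.Helper28.TCONU17.chk173 v (by omega) (by omega)
  rcases Nat.lt_or_ge v 219044 with h174 | h174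
  · exact (data.checkRange_iff 218150 894).mp Cfsg.Agent.Lib.Helper28.TCONU17.chk174 v (by omega) (by omega)
  rcases Nat.lt_or_ge v 219936 with h175 | h175
  · exact (data.checkRange_iff 219044 892).mp Cfsg.Agent.Lib.Helper28.TCONU17.chk175 v (by omega) (by omega)
  rcases Nat.lt_or_ge v 220827 with h176 | h176
  · exact (data.checkRange_iff 219936 891).mp Cfsg.Agent.Lib.Helper28.TCONU17.chk176 v (by omega) (by omega)
  rcases Nat.lt_or_ge v 221716 with h177 | h177
  · exact (data.checkRange_iff 220827 889).mp Cfsg.Agent.Lib.Helper28.TCONU17.chk177 v (by omega) (by omega)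
  rcases Nat.lt_or_ge v 222607 with h178 | h178
  · exact (data.checkRange_iff 221716 891).mp Cfsg.Agent.Lib.Helper28.TCONU17.chk178 v (by omega) (by omega)
  rcases Nat.lt_or_ge v 223496 with h179 | h179
  · exact (data.checkRange_iff 222607 889).mp Cfsg.Agent.Lib.Helper28.TCONU17.chk179 v (by omega) (by omega)
  rcases Nat.lt_or_ge v 224385 with h180 | h180
  · exact (data.checkRange_iff 223496 889).mp Cfsg.Agent.Lib.Helper28.TCONU18.chk180 v (by omega) (by omega)
  rcases Nat.lt_or_ge v 225274 with h181 | h181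
  · exact (data.checkRange_iff 224385 889).mp Cfsg.Agent.Lib.Helper28.TCONU18.chk181 v (by omega) (by omega)
  rcases Nat.lt_or_ge v 226163 with h182 | h182
  · exact (data.checkRange_iff 225274 889).mp Cfsg.Agent.Lib.Helper28.TCONU18.chk182 v (by omega) (by omega)
  rcases Nat.lt_or_ge v 227052 with h183 | h183
  · exact (data.checkRange_iff 226163 889).mp Cfsg.Agent.Lib.Helper28.TCONU18.chk183 v (by omega) (by omega)
  rcases Nat.lt_or_ge v 227941 with h184 | h184
  · exact (data.checkRange_iff 227052 889).mp Cfsg.Agent.Lib.Helper28.TCONU18.chk184 v (by omega) (by omega)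
  rcases Nat.lt_or_ge v 228830 with h185 | h185
  · exact (data.checkRange_iff 227941 889).mp Cfsg.Agent.Lib.Helper28.TCONU18.chk185 v (by omega) (by omega)
  exact (data.checkRange_iff 228830 247).mp Cfsg.Agent.Lib.Helper28.TCONU18.chk186 v (by omega) (by omega)

theorem hrelT : ∀ L ∈ relWords, ∀ p, p < table.n → table.walkT (pathOf lw L) p = p := by
  intro L hL p hp
  have hp' : p < 122760 := hp
  have hm := hrelmem L hL
  rcases Nat.lt_or_ge p 1209 with h0 | h0
  · exact (Table.relOK_iff relPaths 0 1209).mp Cfsg.Agent.Lib.Helper28.TCONL0.rel0 p (by omega) (by omega) _ hm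
  rcases Nat.lt_or_ge p 2418 with h1 | h1
  · exact (Table.relOK_iff relPaths 1209 1209).mp Cfsg.Agent.Lib.Helper28.TCONL0.rel1 p (by omega) (by omega) _ hm
  rcases Nat.lt_or_ge p 3627 with h2 | h2
  · exact (Table.relOK_iff relPaths 2418 1209).mp Cfsg.Agent.Lib.Helper28.TCONL0.rel2 p (by omega) (by omega) _ hm
  rcases Nat.lt_or_ge p 4836 with h3 | h3
  · exact (Table.relOK_iff relPaths 3627 1209).mp Cfsg.Agent.Lib.Helper28.TCONL0.rel3 p (by omega) (by omega) _ hm
  rcases Nat.lt_or_ge p 6045 with h4 | h4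
  · exact (Table.relOK_iff relPaths 4836 1209).mp Cfsg.Agent.Lib.Helper28.TCONL0.rel4 p (by omega) (by omega) _ hm
  rcases Nat.lt_or_ge p 7254 with h5 | h5
  · exact (Table.relOK_iff relPaths 6045 1209).mp Cfsg.Agent.Lib.Helper28.TCONL0.rel5 p (by omega) (by omega) _ hm
  rcases Nat.lt_or_ge p 8463 with h6 | h6
  · exact (Table.relOK_iff relPaths 7254 1209).mp Cfsg.Agent.Lib.Helper28.TCONL0.rel6 p (by omega) (by omega) _ hm
  rcases Nat.lt_or_ge p 9672 with h7 | h7
  · exact (Table.relOK_iff relPaths 8463 1209).mp Cfsg.Agent.Lib.Helper28.TCONL0.rel7 p (by omega) (by omega) _ hm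
  rcases Nat.lt_or_ge p 10881 with h8 | h8
  · exact (Table.relOK_iff relPaths 9672 1209).mp Cfsg.Agent.Lib.Helper28.TCONL0.rel8 p (by omega) (by omega) _ hm
  rcases Nat.lt_or_ge p 12090 with h9 | h9
  · exact (Table.relOK_iff relPaths 10881 1209).mp Cfsg.Agent.Lib.Helper28.TCONL0.rel9 p (by omega) (by omega) _ hm
  rcases Nat.lt_or_ge p 13299 with h10 | h10
  · exact (Table.relOK_iff relPaths 12090 1209).mp Cfsg.Agent.Lib.Helper28.TCONL0.rel10 p (by omega) (by omega) _ hm
  rcases Nat.lt_or_ge p 14508 with h11 | h11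
  · exact (Table.relOK_iff relPaths 13299 1209).mp Cfsg.Agent.Lib.Helper28.TCONL1.rel11 p (by omega) (by omega) _ hm
  rcases Nat.lt_or_ge p 15717 with h12 | h12
  · exact (Table.relOK_iff relPaths 14508 1209).mp Cfsg.Agent.Lib.Helper28.TCONL1.rel12 p (by omega) (by omega) _ hm
  rcases Nat.lt_or_ge p 16926 with h13 | h13
  · exact (Table.relOK_iff relPaths 15717 1209).mp Cfsg.Agent.Lib.Helper28.TCONL1.rel13 p (by omega) (by omega) _ hm
  rcases Nat.lt_or_ge p 18135 with h14 | h14
  · exact (Table.relOK_iff relPaths 16926 1209).mp Cfsg.Agent.Lib.Helper28.TCONL1.rel14 p (by omega) (by omega) _ hm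
  rcases Nat.lt_or_ge p 19344 with h15 | h15
  · exact (Table.relOK_iff relPaths 18135 1209).mp Cfsg.Agent.Lib.Helper28.TCONL1.rel15 p (by omega) (by omega) _ hm
  rcases Nat.lt_or_ge p 20553 with h16 | h16
  · exact (Table.relOK_iff relPaths 19344 1209).mp Cfsg.Agent.Lib.Helper28.TCONL1.rel16 p (by omega) (by omega) _ hm
  rcases Nat.lt_or_ge p 21762 with h17 | h17
  · exact (Table.relOK_iff relPaths 20553 1209).mp Cfsg.Agent.Lib.Helper28.TCONL1.rel17 p (by omega) (by omega) _ hm
  rcases Nat.lt_or_ge p 22971 with h18 | h18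
  · exact (Table.relOK_iff relPaths 21762 1209).mp Cfsg.Agent.Lib.Helper28.TCONL1.rel18 p (by omega) (by omega) _ hm
  rcases Nat.lt_or_ge p 24180 with h19 | h19
  · exact (Table.relOK_iff relPaths 22971 1209).mp Cfsg.Agent.Lib.Helper28.TCONL1.rel19 p (by omega) (by omega) _ hm
  rcases Nat.lt_or_ge p 25389 with h20 | h20
  · exact (Table.relOK_iff relPaths 24180 1209).mp Cfsg.Agent.Lib.Helper28.TCONL1.rel20 p (by omega) (by omega) _ hm
  rcases Nat.lt_or_ge p 26598 with h21 | h21
  · exact (Table.relOK_iff relPaths 25389 1209).mp Cfsg.Agent.Lib.Helper28.TCONL1.rel21 p (by omega) (by omega) _ hm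
  rcases Nat.lt_or_ge p 27807 with h22 | h22
  · exact (Table.relOK_iff relPaths 26598 1209).mp Cfsg.Agent.Lib.Helper28.TCONL2.rel22 p (by omega) (by omega) _ hm
  rcases Nat.lt_or_ge p 29016 with h23 | h23
  · exact (Table.relOK_iff relPaths 27807 1209).mp Cfsg.Agent.Lib.Helper28.TCONL2.rel23 p (by omega) (by omega) _ hm
  rcases Nat.lt_or_ge p 30225 with h24 | h24
  · exact (Table.relOK_iff relPaths 29016 1209).mp Cfsg.Agent.Lib.Helper28.TCONL2.rel24 p (by omega) (by omega) _ hm
  rcases Nat.lt_or_ge p 31434 with h25 | h25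
  · exact (Table.relOK_iff relPaths 30225 1209).mp Cfsg.Agent.Lib.Helper28.TCONL2.rel25 p (by omega) (by omega) _ hm
  rcases Nat.lt_or_ge p 32643 with h26 | h26
  · exact (Table.relOK_iff relPaths 31434 1209).mp Cfsg.Agent.Lib.Helper28.TCONL2.rel26 p (by omega) (by omega) _ hm
  rcases Nat.lt_or_ge p 33852 with h27 | h27
  · exact (Table.relOK_iff relPaths 32643 1209).mp Cfsg.Agent.Lib.Helper28.TCONL2.rel27 p (by omega) (by omega) _ hm
  rcases Nat.lt_or_ge p 35061 with h28 | h28
  · exact (Table.relOK_iff relPaths 33852 1209).mp Cfsg.Agent.Lib.Helper28.TCONL2.rel28 p (by omega) (by omega) _ hm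
  rcases Nat.lt_or_ge p 36270 with h29 | h29
  · exact (Table.relOK_iff relPaths 35061 1209).mp Cfsg.Agent.Lib.Helper28.TCONL2.rel29 p (by omega) (by omega) _ hm
  rcases Nat.lt_or_ge p 37479 with h30 | h30
  · exact (Table.relOK_iff relPaths 36270 1209).mp Cfsg.Agent.Lib.Helper28.TCONL2.rel30 p (by omega) (by omega) _ hm
  rcases Nat.lt_or_ge p 38688 with h31 | h31
  · exact (Table.relOK_iff relPaths 37479 1209).mp Cfsg.Agent.Lib.Helper28.TCONL2.rel31 p (by omega) (by omega) _ hm
  rcases Nat.lt_or_ge p 39897 with h32 | h32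
  · exact (Table.relOK_iff relPaths 38688 1209).mp Cfsg.Agent.Lib.Helper28.TCONL2.rel32 p (by omega) (by omega) _ hm
  rcases Nat.lt_or_ge p 41106 with h33 | h33
  · exact (Table.relOK_iff relPaths 39897 1209).mp Cfsg.Agent.Lib.Helper28.TCONL3.rel33 p (by omega) (by omega) _ hm
  rcases Nat.lt_or_ge p 42315 with h34 | h34
  · exact (Table.relOK_iff relPaths 41106 1209).mp Cfsg.Agent.Lib.Helper28.TCONL3.rel34 p (by omega) (by omega) _ hm
  rcases Nat.lt_or_ge p 43524 with h35 | h35
  · exact (Table.relOK_iff relPaths 42315 1209).mp Cfsg.Agent.Lib.Helper28.TCONL3.rel35 p (by omega) (by omega) _ hm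
  rcases Nat.lt_or_ge p 44733 with h36 | h36
  · exact (Table.relOK_iff relPaths 43524 1209).mp Cfsg.Agent.Lib.Helper28.TCONL3.rel36 p (by omega) (by omega) _ hm
  rcases Nat.lt_or_ge p 45942 with h37 | h37
  · exact (Table.relOK_iff relPaths 44733 1209).mp Cfsg.Agent.Lib.Helper28.TCONL3.rel37 p (by omega) (by omega) _ hm
  rcases Nat.lt_or_ge p 47151 with h38 | h38
  · exact (Table.relOK_iff relPaths 45942 1209).mp Cfsg.Agent.Lib.Helper28.TCONL3.rel38 p (by omega) (by omega) _ hm
  rcases Nat.lt_or_ge p 48360 with h39 | h39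
  · exact (Table.relOK_iff relPaths 47151 1209).mp Cfsg.Agent.Lib.Helper28.TCONL3.rel39 p (by omega) (by omega) _ hm
  rcases Nat.lt_or_ge p 49569 with h40 | h40
  · exact (Table.relOK_iff relPaths 48360 1209).mp Cfsg.Agent.Lib.Helper28.TCONL3.rel40 p (by omega) (by omega) _ hm
  rcases Nat.lt_or_ge p 50778 with h41 | h41
  · exact (Table.relOK_iff relPaths 49569 1209).mp Cfsg.Agent.Lib.Helper28.TCONL3.rel41 p (by omega) (by omega) _ hm
  rcases Nat.lt_or_ge p 51987 with h42 | h42
  · exact (Table.relOK_iff relPaths 50778 1209).mp Cfsg.Agent.Lib.Helper28.TCONL3.rel42 p (by omega) (by omega) _ hm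
  rcases Nat.lt_or_ge p 53196 with h43 | h43
  · exact (Table.relOK_iff relPaths 51987 1209).mp Cfsg.Agent.Lib.Helper28.TCONL3.rel43 p (by omega) (by omega) _ hm
  rcases Nat.lt_or_ge p 54405 with h44 | h44
  · exact (Table.relOK_iff relPaths 53196 1209).mp Cfsg.Agent.Lib.Helper28.TCONL4.rel44 p (by omega) (by omega) _ hm
  rcases Nat.lt_or_ge p 55614 with h45 | h45
  · exact (Table.relOK_iff relPaths 54405 1209).mp Cfsg.Agent.Lib.Helper28.TCONL4.rel45 p (by omega) (by omega) _ hm
  rcases Nat.lt_or_ge p 56823 with h46 | h46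
  · exact (Table.relOK_iff relPaths 55614 1209).mp Cfsg.Agent.Lib.Helper28.TCONL4.rel46 p (by omega) (by omega) _ hm
  rcases Nat.lt_or_ge p 58032 with h47 | h47
  · exact (Table.relOK_iff relPaths 56823 1209).mp Cfsg.Agent.Lib.Helper28.TCONL4.rel47 p (by omega) (by omega) _ hm
  rcases Nat.lt_or_ge p 59241 with h48 | h48
  · exact (Table.relOK_iff relPaths 58032 1209).mp Cfsg.Agent.Lib.Helper28.TCONL4.rel48 p (by omega) (by omega) _ hm
  rcases Nat.lt_or_ge p 60450 with h49 | h49
  · exact (Table.relOK_iff relPaths 59241 1209).mp Cfsg.Agent.Lib.Helper28.TCONL4.rel49 p (by omega) (by omega) _ hm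
  rcases Nat.lt_or_ge p 61659 with h50 | h50
  · exact (Table.relOK_iff relPaths 60450 1209).mp Cfsg.Agent.Lib.Helper28.TCONL4.rel50 p (by omega) (by omega) _ hm
  rcases Nat.lt_or_ge p 62868 with h51 | h51
  · exact (Table.relOK_iff relPaths 61659 1209).mp Cfsg.Agent.Lib.Helper28.TCONL4.rel51 p (by omega) (by omega) _ hm
  rcases Nat.lt_or_ge p 64077 with h52 | h52
  · exact (Table.relOK_iff relPaths 62868 1209).mp Cfsg.Agent.Lib.Helper28.TCONL4.rel52 p (by omega) (by omega) _ hm
  rcases Nat.lt_or_ge p 65286 with h53 | h53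
  · exact (Table.relOK_iff relPaths 64077 1209).mp Cfsg.Agent.Lib.Helper28.TCONL4.rel53 p (by omega) (by omega) _ hm
  rcases Nat.lt_or_ge p 66495 with h54 | h54
  · exact (Table.relOK_iff relPaths 65286 1209).mp Cfsg.Agent.Lib.Helper28.TCONL4.rel54 p (by omega) (by omega) _ hm
  rcases Nat.lt_or_ge p 67704 with h55 | h55
  · exact (Table.relOK_iff relPaths 66495 1209).mp Cfsg.Agent.Lib.Helper28.TCONL5.rel55 p (by omega) (by omega) _ hm
  rcases Nat.lt_or_ge p 68913 with h56 | h56
  · exact (Table.relOK_iff relPaths 67704 1209).mp Cfsg.Agent.Lib.Helper28.TCONL5.rel56 p (by omega) (by omega) _ hm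
  rcases Nat.lt_or_ge p 70122 with h57 | h57
  · exact (Table.relOK_iff relPaths 68913 1209).mp Cfsg.Agent.Lib.Helper28.TCONL5.rel57 p (by omega) (by omega) _ hm
  rcases Nat.lt_or_ge p 71331 with h58 | h58
  · exact (Table.relOK_iff relPaths 70122 1209).mp Cfsg.Agent.Lib.Helper28.TCONL5.rel58 p (by omega) (by omega) _ hm
  rcases Nat.lt_or_ge p 72540 with h59 | h59
  · exact (Table.relOK_iff relPaths 71331 1209).mp Cfsg.Agent.Lib.Helper28.TCONL5.rel59 p (by omega) (by omega) _ hm
  rcases Nat.lt_or_ge p 73749 with h60 | h60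
  · exact (Table.relOK_iff relPaths 72540 1209).mp Cfsg.Agent.Lib.Helper28.TCONL5.rel60 p (by omega) (by omega) _ hm
  rcases Nat.lt_or_ge p 74958 with h61 | h61
  · exact (Table.relOK_iff relPaths 73749 1209).mp Cfsg.Agent.Lib.Helper28.TCONL5.rel61 p (by omega) (by omega) _ hm
  rcases Nat.lt_or_ge p 76167 with h62 | h62
  · exact (Table.relOK_iff relPaths 74958 1209).mp Cfsg.Agent.Lib.Helper28.TCONL5.rel62 p (by omega) (by omega) _ hm
  rcases Nat.lt_or_ge p 77376 with h63 | h63
  · exact (Table.relOK_iff relPaths 76167 1209).mp Cfsg.Agent.Lib.Helper28.TCONL5.rel63 p (by omega) (by omega) _ hm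
  rcases Nat.lt_or_ge p 78585 with h64 | h64
  · exact (Table.relOK_iff relPaths 77376 1209).mp Cfsg.Agent.Lib.Helper28.TCONL5.rel64 p (by omega) (by omega) _ hm
  rcases Nat.lt_or_ge p 79794 with h65 | h65
  · exact (Table.relOK_iff relPaths 78585 1209).mp Cfsg.Agent.Lib.Helper28.TCONL5.rel65 p (by omega) (by omega) _ hm
  rcases Nat.lt_or_ge p 81003 with h66 | h66
  · exact (Table.relOK_iff relPaths 79794 1209).mp Cfsg.Agent.Lib.Helper28.TCONL6.rel66 p (by omega) (by omega) _ hm
  rcases Nat.lt_or_ge p 82212 with h67 | h67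
  · exact (Table.relOK_iff relPaths 81003 1209).mp Cfsg.Agent.Lib.Helper28.TCONL6.rel67 p (by omega) (by omega) _ hm
  rcases Nat.lt_or_ge p 83421 with h68 | h68
  · exact (Table.relOK_iff relPaths 82212 1209).mp Cfsg.Agent.Lib.Helper28.TCONL6.rel68 p (by omega) (by omega) _ hm
  rcases Nat.lt_or_ge p 84630 with h69 | h69
  · exact (Table.relOK_iff relPaths 83421 1209).mp Cfsg.Agent.Lib.Helper28.TCONL6.rel69 p (by omega) (by omega) _ hm
  rcases Nat.lt_or_ge p 85839 with h70 | h70
  · exact (Table.relOK_iff relPaths 84630 1209).mp Cfsg.Agent.Lib.Helper28.TCONL6.rel70 p (by omega) (by omega) _ hm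
  rcases Nat.lt_or_ge p 87048 with h71 | h71
  · exact (Table.relOK_iff relPaths 85839 1209).mp Cfsg.Agent.Lib.Helper28.TCONL6.rel71 p (by omega) (by omega) _ hm
  rcases Nat.lt_or_ge p 88257 with h72 | h72
  · exact (Table.relOK_iff relPaths 87048 1209).mp Cfsg.Agent.Lib.Helper28.TCONL6.rel72 p (by omega) (by omega) _ hm
  rcases Nat.lt_or_ge p 89466 with h73 | h73
  · exact (Table.relOK_iff relPaths 88257 1209).mp Cfsg.Agent.Lib.Helper28.TCONL6.rel73 p (by omega) (by omega) _ hm
  rcases Nat.lt_or_ge p 90675 with h74 | h74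
  · exact (Table.relOK_iff relPaths 89466 1209).mp Cfsg.Agent.Lib.Helper28.TCONL6.rel74 p (by omega) (by omega) _ hm
  rcases Nat.lt_or_ge p 91884 with h75 | h75
  · exact (Table.relOK_iff relPaths 90675 1209).mp Cfsg.Agent.Lib.Helper28.TCONL6.rel75 p (by omega) (by omega) _ hm
  rcases Nat.lt_or_ge p 93093 with h76 | h76
  · exact (Table.relOK_iff relPaths 91884 1209).mp Cfsg.Agent.Lib.Helper28.TCONL6.rel76 p (by omega) (by omega) _ hm
  rcases Nat.lt_or_ge p 94302 with h77 | h77
  · exact (Table.relOK_iff relPaths 93093 1209).mp Cfsg.Agent.Lib.Helper28.TCONL7.rel77 p (by omega) (by omega) _ hm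
  rcases Nat.lt_or_ge p 95511 with h78 | h78
  · exact (Table.relOK_iff relPaths 94302 1209).mp Cfsg.Agent.Lib.Helper28.TCONL7.rel78 p (by omega) (by omega) _ hm
  rcases Nat.lt_or_ge p 96720 with h79 | h79
  · exact (Table.relOK_iff relPaths 95511 1209).mp Cfsg.Agent.Lib.Helper28.TCONL7.rel79 p (by omega) (by omega) _ hm
  rcases Nat.lt_or_ge p 97929 with h80 | h80
  · exact (Table.relOK_iff relPaths 96720 1209).mp Cfsg.Agent.Lib.Helper28.TCONL7.rel80 p (by omega) (by omega) _ hm
  rcases Nat.lt_or_ge p 99138 with h81 | h81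
  · exact (Table.relOK_iff relPaths 97929 1209).mp Cfsg.Agent.Lib.Helper28.TCONL7.rel81 p (by omega) (by omega) _ hm
  rcases Nat.lt_or_ge p 100347 with h82 | h82
  · exact (Table.relOK_iff relPaths 99138 1209).mp Cfsg.Agent.Lib.Helper28.TCONL7.rel82 p (by omega) (by omega) _ hm
  rcases Nat.lt_or_ge p 101556 with h83 | h83
  · exact (Table.relOK_iff relPaths 100347 1209).mp Cfsg.Agent.Lib.Helper28.TCONL7.rel83 p (by omega) (by omega) _ hm
  rcases Nat.lt_or_ge p 102765 with h84 | h84
  · exact (Table.relOK_iff relPaths 101556 1209).mp Cfsg.Agent.Lib.Helper28.TCONL7.rel84 p (by omega) (by omega) _ hm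
  rcases Nat.lt_or_ge p 103974 with h85 | h85
  · exact (Table.relOK_iff relPaths 102765 1209).mp Cfsg.Agent.Lib.Helper28.TCONL7.rel85 p (by omega) (by omega) _ hm
  rcases Nat.lt_or_ge p 105183 with h86 | h86
  · exact (Table.relOK_iff relPaths 103974 1209).mp Cfsg.Agent.Lib.Helper28.TCONL7.rel86 p (by omega) (by omega) _ hm
  rcases Nat.lt_or_ge p 106392 with h87 | h87
  · exact (Table.relOK_iff relPaths 105183 1209).mp Cfsg.Agent.Lib.Helper28.TCONL7.rel87 p (by omega) (by omega) _ hm
  rcases Nat.lt_or_ge p 107601 with h88 | h88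
  · exact (Table.relOK_iff relPaths 106392 1209).mp Cfsg.Agent.Lib.Helper28.TCONL8.rel88 p (by omega) (by omega) _ hm
  rcases Nat.lt_or_ge p 108810 with h89 | h89
  · exact (Table.relOK_iff relPaths 107601 1209).mp Cfsg.Agent.Lib.Helper28.TCONL8.rel89 p (by omega) (by omega) _ hm
  rcases Nat.lt_or_ge p 110019 with h90 | h90
  · exact (Table.relOK_iff relPaths 108810 1209).mp Cfsg.Agent.Lib.Helper28.TCONL8.rel90 p (by omega) (by omega) _ hm
  rcases Nat.lt_or_ge p 111228 with h91 | h91
  · exact (Table.relOK_iff relPaths 110019 1209).mp Cfsg.Agent.Lib.Helper28.TCONL8.rel91 p (by omega) (by omega) _ hm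
  rcases Nat.lt_or_ge p 112437 with h92 | h92
  · exact (Table.relOK_iff relPaths 111228 1209).mp Cfsg.Agent.Lib.Helper28.TCONL8.rel92 p (by omega) (by omega) _ hm
  rcases Nat.lt_or_ge p 113646 with h93 | h93
  · exact (Table.relOK_iff relPaths 112437 1209).mp Cfsg.Agent.Lib.Helper28.TCONL8.rel93 p (by omega) (by omega) _ hm
  rcases Nat.lt_or_ge p 114855 with h94 | h94
  · exact (Table.relOK_iff relPaths 113646 1209).mp Cfsg.Agent.Lib.Helper28.TCONL8.rel94 p (by omega) (by omega) _ hm
  rcases Nat.lt_or_ge p 116064 with h95 | h95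
  · exact (Table.relOK_iff relPaths 114855 1209).mp Cfsg.Agent.Lib.Helper28.TCONL8.rel95 p (by omega) (by omega) _ hm
  rcases Nat.lt_or_ge p 117273 with h96 | h96
  · exact (Table.relOK_iff relPaths 116064 1209).mp Cfsg.Agent.Lib.Helper28.TCONL8.rel96 p (by omega) (by omega) _ hm
  rcases Nat.lt_or_ge p 118482 with h97 | h97
  · exact (Table.relOK_iff relPaths 117273 1209).mp Cfsg.Agent.Lib.Helper28.TCONL8.rel97 p (by omega) (by omega) _ hm
  rcases Nat.lt_or_ge p 119691 with h98 | h98
  · exact (Table.relOK_iff relPaths 118482 1209).mp Cfsg.Agent.Lib.Helper28.TCONL8.rel98 p (by omega) (by omega) _ hm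
  rcases Nat.lt_or_ge p 120900 with h99 | h99
  · exact (Table.relOK_iff relPaths 119691 1209).mp Cfsg.Agent.Lib.Helper28.TCONL9.rel99 p (by omega) (by omega) _ hm
  rcases Nat.lt_or_ge p 122109 with h100 | h100
  · exact (Table.relOK_iff relPaths 120900 1209).mp Cfsg.Agent.Lib.Helper28.TCONL9.rel100 p (by omega) (by omega) _ hm
  exact (Table.relOK_iff relPaths 122109 651).mp Cfsg.Agent.Lib.Helper28.TCONL9.rel101 p (by omega) (by omega) _ hm

theorem hsubT : ∀ L ∈ subWords, table.walkT (pathOf lw L) 0 = 0 :=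
  fun L hL => (Table.subOK_iff subPaths).mp hsub0 _ (hsubmem L hL)

/-- In the presented O'Nan group (generators g, a, b, c, d, e, f), the subgroup generated by the images of a, …, f has index 122760. -/
theorem result : (((Subgroup.closure ({Cfsg.Spor.ON.a, Cfsg.Spor.ON.b, Cfsg.Spor.ON.c, Cfsg.Spor.ON.d, Cfsg.Spor.ON.e, Cfsg.Spor.ON.f} : Set (FreeGroup Cfsg.Spor.ON.Gen))).map (PresentedGroup.mk (Cfsg.Spor.coxRelators Cfsg.Spor.ON.edges ∪ {r | r ∈ Cfsg.Spor.ON.extra})))).index = 122760 := by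
  have hT := Table.ok_of_checks table hinvOK hperm
  obtain ⟨hidx, φ, hφ, f, hbij, hequiv, -⟩ := index_eq link hchk hfin hcount hT (by decide) hrelT hsubT htree
  exact hidx

end Cfsg.Agent.S1692
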