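import Cfsg.Statements.S1693
import Cfsg.Agent.S1692
import Cfsg.Agent.S1699
import Cfsg.Agent.Lib.Helper28.TCONTower
import Cfsg.Agent.Lib.Helper13.ONL37D
import Cfsg.Agent.Lib.Helper13.ONL37E

set_option autoImplicit false
open Cfsg

namespace Cfsg.Agent.S1693

open Cfsg.Agent.Lib.Helper13.ONL Cfsg.Agent.Lib.Helper28

/-- In the presented O'Nan group, the subgroup H generated by the images of a, …, f has a normal subgroup of index 2 isomorphic to PSL(3, 7). -/
theorem result : ∃ N : Subgroup (((Subgroup.closure ({Cfsg.Spor.ON.a, Cfsg.Spor.ON.b, Cfsg.Spor.ON.c, Cfsg.Spor.ON.d, Cfsg.Spor.ON.e, Cfsg.Spor.ON.f} : Set (FreeGroup Cfsg.Spor.ON.Gen))).map (PresentedGroup.mk (Cfsg.Spor.coxRelators Cfsg.Spor.ON.edges ∪ {r | r ∈ Cfsg.Spor.ON.extra})))), N.Normal ∧ N.index = 2 ∧ Nonempty (N ≃* Matrix.ProjectiveSpecialLinearGroup (Fin 3) (ZMod 7)) := by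
  -- the order of the subgroup
  have hON : Nat.card Cfsg.Spor.ON = 460815505920 := Cfsg.Agent.S1699.result.2
  have hidx := Cfsg.Agent.S1692.result
  have hfinON : Finite Cfsg.Spor.ON := Nat.finite_of_card_ne_zero (by rw [hON]; norm_num)
  have hcardH : Nat.card ((Subgroup.closure TCONLink.S).map (PresentedGroup.mk TCONLink.rels)) =
      3753792 := by
    have h := ((Subgroup.closure TCONLink.S).map (PresentedGroup.mk TCONLink.rels)).index_mul_card
    have hidx' : ((Subgroup.closure TCONLink.S).map (PresentedGroup.mk TCONLink.rels)).index =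
        122760 := hidx
    have hON' : Nat.card (PresentedGroup TCONLink.rels) = 460815505920 := hON
    rw [hidx', hON'] at h
    omega
  -- the sub-presentation
  obtain ⟨hfin, hle⟩ := TCONTower.card1
  have hfin' : Finite (PresentedGroup relsW1) := hfin
  have hle' : Nat.card (PresentedGroup relsW1) ≤ 3753792 := hle
  obtain ⟨N, hN, hNidx, ⟨e⟩, hc⟩ := main_hat hle'
  have hrel := TC2Tower.hrel_of_words TCONLink.rels TCONW1Link.rels TCONW1Def.up
    TCONLink.relWords TCONW1Link.relWords TCONLink.link.hrels TCONW1Link.link.hrels TCONTower.up0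
  have hS : ∀ s ∈ TCONLink.S, ∃ b, s = FreeGroup.of (TCONW1Def.up b) := by
    intro s hs
    simp only [TCONLink.S, Set.mem_insert_iff, Set.mem_singleton_iff] at hs
    rcases hs with rfl | rfl | rfl | rfl | rfl | rfl
    exacts [⟨.a, rfl⟩, ⟨.b, rfl⟩, ⟨.c, rfl⟩, ⟨.d, rfl⟩, ⟨.e, rfl⟩, ⟨.f, rfl⟩]
  obtain ⟨ψ, hψ⟩ := exists_hom_subpres TCONLink.rels TCONW1Link.rels TCONW1Def.up hrel
    TCONLink.S hS
  have hfinH : Finite ((Subgroup.closure TCONLink.S).map (PresentedGroup.mk TCONLink.rels)) :=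
    Nat.finite_of_card_ne_zero (by rw [hcardH]; norm_num)
  exact transfer_index_two (K := PresentedGroup relsW1) ψ _ hψ (by rw [hcardH]; exact hle') N hN
    hNidx e

end Cfsg.Agent.S1693
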