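import Cfsg.Statements.S1364
-- import your own Cfsg.Agent.* helpers here
import Cfsg.Agent.Lib.Helper1.BG152C
import Cfsg.Agent.S1350
import Cfsg.Agent.S1366
import Cfsg.Agent.S1368
import Cfsg.Agent.S1373
import Cfsg.Agent.S1426
import Cfsg.Agent.S1429
import Cfsg.Agent.S1430
import Cfsg.Agent.S1431

set_option autoImplicit false
open Cfsg

namespace Cfsg.Agent.S1364

/-- Let G be a minimal simple group of odd order, M a maximal subgroup with standard factorisation M = K U M_σ and K ≠ 1, and put K* = M_σ ∩ C_G(K). Then K* is cyclic, nontrivial and contained in M_F, while M_F itself is not cyclic. -/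
theorem result {G : Type*} [Group G] [Finite G] (hG : Cfsg.IsMinSimpleOddOrder G)
    (M : Subgroup G) (hM : IsCoatom M) (K U : Subgroup G) (hKU : Cfsg.IsSigmaDecomposition M K U) (hK1 : K ≠ ⊥) :
    IsCyclic ↥(Cfsg.sigmaCore M ⊓ Subgroup.centralizer (K : Set G)) ∧ (Cfsg.sigmaCore M ⊓ Subgroup.centralizer (K : Set G)) ≠ ⊥ ∧ (Cfsg.sigmaCore M ⊓ Subgroup.centralizer (K : Set G)) ≤ Cfsg.fittingHallOf M ∧ ¬ IsCyclic (Cfsg.fittingHallOf M) := by
  have hHall := (Cfsg.Agent.S1350.result hG M hM).1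
  have h142 : Cfsg.Agent.Lib.Helper2.BGCor.T142 M K := Cfsg.Agent.S1430.result hG M hM K hKU.hall hK1
  have h143 : Cfsg.Agent.Lib.Helper1.BGEmb.T143 M K := Cfsg.Agent.S1431.result hG M hM K hKU.hall hK1
  obtain ⟨Mstar, ⟨hMs, hKst, hKstH⟩, -⟩ := Cfsg.Agent.S1366.result hG M hM K U hKU hK1
  have hZ := (Cfsg.Agent.S1368.result hG M hM K U hKU hK1 Mstar hMs hKst hKstH).2
  have h26 : ∀ E : Subgroup G, Cfsg.IsComplIn E (Cfsg.sigmaCore M) M →
      ⁅Cfsg.sigmaCore M, E⁆ = Cfsg.sigmaCore M :=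
    fun E hE => (Cfsg.Agent.S1426.result hG M hM E hE).2.1
  have h29 : (¬ ∀ q : ℕ, q.Prime → q ∣ Nat.card M → q ∉ Cfsg.sigma M → q ∈ Cfsg.kappa M) →
      Group.IsNilpotent (Cfsg.sigmaCore M) := by
    intro hP1
    have hP1' := hP1
    push_neg at hP1'
    obtain ⟨q, hq, hqM, hqσ, hqκ⟩ := hP1'
    haveI : Fact q.Prime := ⟨hq⟩
    obtain ⟨S⟩ : Nonempty (Sylow q M) := inferInstance
    exact (Cfsg.Agent.S1429.result hG M hM hP1 q hqM
      (by rintro (h | h); exact hqσ h; exact hqκ h) S).2.2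
  have h73 : U = ⊥ → (Nat.card ↥(Cfsg.sigmaCore M ⊓ Subgroup.centralizer (K : Set G))).Prime :=
    fun hU => Cfsg.Agent.S1373.result hG M hM K U hKU hK1 hU
  exact Cfsg.Agent.Lib.Helper1.BG152.s1364_core hG hM hHall hKU hK1 h142 h143 hZ h26 h29 h73

end Cfsg.Agent.S1364
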