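import Cfsg.Statements.S4303
import Mathlib
import Cfsg.Agent.Lib.Helper8.SylIn
import Cfsg.Agent.Lib.Helper23.SylowProd
import Cfsg.Agent.S4341
-- import your own Cfsg.Agent.* helpers here

set_option autoImplicit false
universe u
open Cfsg

namespace Cfsg.Agent.S4303

open Cfsg.Agent.Lib.Helper8 in
/-- For an `A`-invariant Sylow subgroup `S` of `L` (coprime action), `C_S(A)` is Sylow in `C_L(A)`. -/
theorem isSylIn_inf_centralizer {G : Type*} [Group G] [Finite G] {A L : Subgroup G}
    (hsolv : Group.IsSolvable A ∨ Group.IsSolvable L)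
    (hAL : A ≤ Subgroup.normalizer (L : Set G)) (hcop : (Nat.card A).Coprime (Nat.card L))
    (q : ℕ) [Fact q.Prime] {S : Subgroup G} (hS : IsSylIn q S L)
    (hSA : A ≤ Subgroup.normalizer (S : Set G)) :
    IsSylIn q (S ⊓ Subgroup.centralizer (A : Set G)) (L ⊓ Subgroup.centralizer (A : Set G)) := by
  obtain ⟨C, hC⟩ : ∃ C, C = L ⊓ Subgroup.centralizer (A : Set G) := ⟨_, rfl⟩
  rw [← hC]
  obtain ⟨T0⟩ : Nonempty (Sylow q C) := inferInstance
  have hT := sylow_map_subtype_isSylIn T0
  obtain ⟨T, hTdef⟩ : ∃ T, T = (T0 : Subgroup C).map C.subtype := ⟨_, rfl⟩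
  rw [← hTdef] at hT
  have hTcent : T ≤ Subgroup.centralizer (A : Set G) := by
    intro x hx
    have := hT.1 hx
    rw [hC] at this
    exact (Subgroup.mem_inf.mp this).2
  have hTL : T ≤ L := by
    intro x hx
    have := hT.1 hx
    rw [hC] at this
    exact (Subgroup.mem_inf.mp this).1
  have hTA : A ≤ Subgroup.normalizer (T : Set G) := by
    apply le_normalizer_of_conj_mem
    intro b hb u hu
    have := (Subgroup.mem_centralizer_iff.mp (hTcent hu)) b hb
    rw [this, mul_inv_cancel_right]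
    exact hu
  obtain ⟨S', hS', hTS', hS'A⟩ := exists_invariant_isSylIn_ge hAL hcop hsolv q T hTL hT.isPGroup hTA
  obtain ⟨c, hc, hcS⟩ := exists_conj_of_invariant_isSylIn hAL hcop hsolv q hS' hS hS'A hSA
  have hcA : c ∈ Subgroup.centralizer (A : Set G) := (Subgroup.mem_inf.mp hc).2
  have hT'le : T.map (MulAut.conj c).toMonoidHom ≤ S ⊓ Subgroup.centralizer (A : Set G) := by
    rintro _ ⟨x, hx, rfl⟩
    refine Subgroup.mem_inf.mpr ⟨?_, ?_⟩
    · rw [← hcS]; exact ⟨x, hTS' hx, rfl⟩
    · show c * x * c⁻¹ ∈ Subgroup.centralizer (A : Set G)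
      exact Subgroup.mul_mem _ (Subgroup.mul_mem _ hcA (hTcent hx)) (Subgroup.inv_mem _ hcA)
  have hpg : IsPGroup q ↥(S ⊓ Subgroup.centralizer (A : Set G)) := hS.isPGroup.to_le inf_le_left
  have hle : S ⊓ Subgroup.centralizer (A : Set G) ≤ C := by
    rw [hC]; exact inf_le_inf_right _ hS.1
  apply isSylIn_of_card_le hpg hle
  rw [← hT.2, ← card_map_conj T c]
  exact Subgroup.card_le_of_le hT'le

/-- `G = PK`, `K` normal, `P ∩ K = 1`: `n_p(G) * |C_K(P)| = |K|`. -/
theorem card_sylow_mul_card_centralizer {G : Type*} [Group G] [Finite G] (p : ℕ) [Fact p.Prime]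
    (P : Sylow p G) (K : Subgroup G) [hK : K.Normal] (hsup : (P : Subgroup G) ⊔ K = ⊤)
    (hinf : (P : Subgroup G) ⊓ K = ⊥) :
    Nat.card (Sylow p G) * Nat.card ↥(K ⊓ Subgroup.centralizer ((P : Subgroup G) : Set G)) =
      Nat.card K := by
  obtain ⟨N, hN⟩ : ∃ N, N = Subgroup.normalizer ((P : Subgroup G) : Set G) := ⟨_, rfl⟩
  have hNK : N ⊔ K = ⊤ := by
    rw [eq_top_iff, ← hsup]
    exact sup_le_sup_right (by rw [hN]; exact Subgroup.le_normalizer) K
  have h1 : Nat.card (Sylow p G) = N.relIndex K := by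
    rw [Sylow.card_eq_index_normalizer P]
    have hN' : Subgroup.normalizer ((P : Subgroup G) : Set G) = N := hN.symm
    have : (Subgroup.normalizer ((P : Subgroup G) : Set G)).index = N.index := by rw [hN']
    refine this.trans ?_
    rw [← Subgroup.relIndex_top_right, ← hNK]
    exact Cfsg.Agent.Lib.Helper23.relIndex_sup_eq_relIndex N K
  have h2 : N ⊓ K = K ⊓ Subgroup.centralizer ((P : Subgroup G) : Set G) := by
    apply le_antisymm
    · intro k hk
      obtain ⟨hkN, hkK⟩ := Subgroup.mem_inf.mp hk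
      refine Subgroup.mem_inf.mpr ⟨hkK, ?_⟩
      rw [Subgroup.mem_centralizer_iff]
      intro x hx
      rw [hN] at hkN
      have hc1 : k * x * k⁻¹ * x⁻¹ ∈ (P : Subgroup G) :=
        Subgroup.mul_mem _ ((Subgroup.mem_normalizer_iff.mp hkN x).mp hx) (Subgroup.inv_mem _ hx)
      have hc2 : k * x * k⁻¹ * x⁻¹ ∈ K := by
        have : k * x * k⁻¹ * x⁻¹ = k * (x * k⁻¹ * x⁻¹) := by group
        rw [this]
        exact K.mul_mem hkK (hK.conj_mem _ (K.inv_mem hkK) x)
      have hc3 : k * x * k⁻¹ * x⁻¹ ∈ (P : Subgroup G) ⊓ K := Subgroup.mem_inf.mpr ⟨hc1, hc2⟩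
      rw [hinf, Subgroup.mem_bot] at hc3
      have : k * x = x * k := by
        have h : k * x = (k * x * k⁻¹ * x⁻¹) * (x * k) := by group
        rw [h, hc3, one_mul]
      exact this.symm
    · intro k hk
      obtain ⟨hkK, hkC⟩ := Subgroup.mem_inf.mp hk
      refine Subgroup.mem_inf.mpr ⟨?_, hkK⟩
      rw [hN]
      exact (Subgroup.centralizer_le_normalizer (s := ((P : Subgroup G) : Set G))) hkC
  rw [h1, ← Subgroup.inf_relIndex_right N K, mul_comm, ← h2]
  exact Cfsg.Agent.Lib.Helper23.card_mul_relIndex inf_le_right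

/-- `|S| ≡ |C_S(P)| mod p` for a `p`-group `P` normalizing `S`. -/
theorem card_modEq_card_inf_centralizer {G : Type*} [Group G] [Finite G] (p : ℕ) [Fact p.Prime]
    (P S : Subgroup G) (hP : IsPGroup p P) (hSP : P ≤ Subgroup.normalizer (S : Set G)) :
    Nat.card S ≡ Nat.card ↥(S ⊓ Subgroup.centralizer (P : Set G)) [MOD p] := by
  let act : MulAction ↥P ↥S :=
    { smul := fun g s => ⟨g.1 * s.1 * g.1⁻¹, (Subgroup.mem_normalizer_iff.mp (hSP g.2) s.1).mp s.2⟩
      one_smul := fun s => by
        apply Subtype.ext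
        show (1 : G) * s.1 * (1 : G)⁻¹ = s.1
        group
      mul_smul := fun g h s => by
        apply Subtype.ext
        show (g.1 * h.1) * s.1 * (g.1 * h.1)⁻¹ = g.1 * (h.1 * s.1 * h.1⁻¹) * g.1⁻¹
        group }
  have hsmul : ∀ (g : ↥P) (s : ↥S), ((g • s : ↥S) : G) = g.1 * s.1 * g.1⁻¹ := fun _ _ => rfl
  have h1 := hP.card_modEq_card_fixedPoints ↥S
  refine h1.trans ?_
  have : Nat.card ↥(MulAction.fixedPoints ↥P ↥S) =
      Nat.card ↥(S ⊓ Subgroup.centralizer (P : Set G)) := by
    apply Nat.card_congr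
    refine
      { toFun := fun s => ⟨s.1.1, Subgroup.mem_inf.mpr ⟨s.1.2, ?_⟩⟩
        invFun := fun s => ⟨⟨s.1, (Subgroup.mem_inf.mp s.2).1⟩, ?_⟩
        left_inv := fun s => rfl
        right_inv := fun s => rfl }
    · rw [Subgroup.mem_centralizer_iff]
      intro g hg
      have := s.2 ⟨g, hg⟩
      have h2 := congrArg (fun t : ↥S => (t : G)) this
      simp only [hsmul] at h2
      -- g * s * g⁻¹ = s
      have : g * s.1.1 = (g * s.1.1 * g⁻¹) * g := by group
      rw [this, h2]
    · intro g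
      apply Subtype.ext
      rw [hsmul]
      have hc := (Subgroup.mem_centralizer_iff.mp (Subgroup.mem_inf.mp s.2).2) g.1 g.2
      show g.1 * s.1 * g.1⁻¹ = s.1
      rw [hc, mul_inv_cancel_right]
  rw [this]

open Cfsg.Agent.Lib.Helper8 in
/-- Coprime case: the `q`-part of `n_p` is `≡ 1 mod p`. -/
theorem qpart_modEq_one {G : Type*} [Group G] [Finite G] (p : ℕ) [Fact p.Prime]
    (P : Sylow p G) (K : Subgroup G) [hK : K.Normal] (hsup : (P : Subgroup G) ⊔ K = ⊤)
    (hinf : (P : Subgroup G) ⊓ K = ⊥) (q : ℕ) (hq : q.Prime) :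
    q ^ (Nat.card (Sylow p G)).factorization q ≡ 1 [MOD p] := by
  have hp : p.Prime := Fact.out
  have hpK : ¬ p ∣ Nat.card K := by
    have := Cfsg.Agent.Lib.Helper23.not_dvd_index_inf_subgroupOf p K P
    rw [hinf, Subgroup.bot_subgroupOf, Subgroup.index_bot] at this
    exact this
  have hmain := card_sylow_mul_card_centralizer p P K hsup hinf
  obtain ⟨n, hn⟩ : ∃ n, n = Nat.card (Sylow p G) := ⟨_, rfl⟩
  rw [← hn] at hmain ⊢
  have hn0 : n ≠ 0 := by rw [hn]; exact Nat.card_pos.ne'
  have hC0 : Nat.card ↥(K ⊓ Subgroup.centralizer ((P : Subgroup G) : Set G)) ≠ 0 :=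
    Nat.card_pos.ne'
  by_cases hqp : q = p
  · have : ¬ p ∣ n := fun h => hpK (hmain ▸ Dvd.dvd.mul_right h _)
    rw [hqp, Nat.factorization_eq_zero_of_not_dvd this, pow_zero]
  · have : Fact q.Prime := ⟨hq⟩
    have hcop : (Nat.card (P : Subgroup G)).Coprime (Nat.card K) := by
      obtain ⟨k, hk⟩ := IsPGroup.iff_card.mp P.2
      rw [hk]
      exact Nat.Coprime.pow_left _ ((Nat.Prime.coprime_iff_not_dvd hp).mpr hpK)
    have hAL : (P : Subgroup G) ≤ Subgroup.normalizer (K : Set G) := by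
      rw [Subgroup.normalizer_eq_top]; exact le_top
    have : Group.IsNilpotent ↥(P : Subgroup G) := P.2.isNilpotent
    have hsolv : Group.IsSolvable ↥(P : Subgroup G) := IsNilpotent.to_isSolvable
    obtain ⟨S, hS, -, hSP⟩ := exists_invariant_isSylIn_ge hAL hcop (Or.inl hsolv) q ⊥ bot_le
      IsPGroup.of_bot (le_normalizer_of_conj_mem (fun b _ u hu => by
        rw [Subgroup.mem_bot] at hu ⊢; rw [hu]; group))
    have hD := isSylIn_inf_centralizer (Or.inl hsolv) hAL hcop q hS hSP
    have hmod := card_modEq_card_inf_centralizer p (P : Subgroup G) S P.2 hSP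
    rw [hS.2, hD.2, ← hmain, Nat.factorization_mul hn0 hC0] at hmod
    simp only [Finsupp.coe_add, Pi.add_apply] at hmod
    rw [pow_add] at hmod
    have hcopq : p.gcd (q ^ (Nat.card ↥(K ⊓ Subgroup.centralizer ((P : Subgroup G) : Set G))).factorization q) = 1 := by
      apply Nat.Coprime.pow_right
      rw [Nat.coprime_primes hp hq]
      exact fun h => hqp h.symm
    apply Nat.ModEq.cancel_right_of_coprime hcopq
    rw [one_mul]
    exact hmod

/-- The number `n` is a product of allowed factors. -/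
def HasFact (p n : ℕ) : Prop :=
  ∃ l : List ℕ, l.prod = n ∧ ∀ m ∈ l, (IsPrimePow m ∧ m % p = 1) ∨
    ∃ (S : Type u) (_ : Group S) (_ : Finite S), IsSimpleGroup S ∧ m = Nat.card (Sylow p S)

theorem hasFact_one (p : ℕ) : HasFact.{u} p 1 :=
  ⟨[], by simp, fun m hm => by simp at hm⟩

theorem HasFact.mul {p a b : ℕ} (ha : HasFact.{u} p a) (hb : HasFact.{u} p b) :
    HasFact.{u} p (a * b) := by
  obtain ⟨l₁, h1, h1'⟩ := ha
  obtain ⟨l₂, h2, h2'⟩ := hb
  refine ⟨l₁ ++ l₂, by rw [List.prod_append, h1, h2], fun m hm => ?_⟩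
  rcases List.mem_append.mp hm with h | h
  · exact h1' m h
  · exact h2' m h

theorem hasFact_coprime {G : Type*} [Group G] [Finite G] (p : ℕ) [Fact p.Prime]
    (P : Sylow p G) (K : Subgroup G) [hK : K.Normal] (hsup : (P : Subgroup G) ⊔ K = ⊤)
    (hinf : (P : Subgroup G) ⊓ K = ⊥) : HasFact.{u} p (Nat.card (Sylow p G)) := by
  have hp : p.Prime := Fact.out
  have hq1 := qpart_modEq_one p P K hsup hinf
  obtain ⟨n, hn⟩ : ∃ n, n = Nat.card (Sylow p G) := ⟨_, rfl⟩
  rw [← hn] at hq1 ⊢
  have hn0 : n ≠ 0 := by rw [hn]; exact Nat.card_pos.ne'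
  refine ⟨n.primeFactors.toList.map (fun q => q ^ n.factorization q), ?_, ?_⟩
  · rw [Finset.prod_map_toList]
    have := Nat.prod_factorization_pow_eq_self hn0
    rw [Finsupp.prod, Nat.support_factorization] at this
    exact this
  · intro m hm
    rw [List.mem_map] at hm
    obtain ⟨q, hq, rfl⟩ := hm
    rw [Finset.mem_toList] at hq
    have hqp := Nat.prime_of_mem_primeFactors hq
    left
    refine ⟨?_, ?_⟩
    · apply hqp.isPrimePow.pow
      exact (hqp.factorization_pos_of_dvd hn0 (Nat.dvd_of_mem_primeFactors hq)).ne'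
    · have := hq1 q hqp
      unfold Nat.ModEq at this
      rw [this]
      exact Nat.one_mod_eq_one.mpr hp.one_lt.ne'

theorem main (p : ℕ) [Fact p.Prime] : ∀ (n : ℕ) (G : Type u) [Group G] [Finite G],
    Nat.card G = n → HasFact.{u} p (Nat.card (Sylow p G)) := by
  intro n
  induction n using Nat.strong_induction_on with
  | _ n ih =>
    intro G _ _ hcard
    by_cases hsimple : IsSimpleGroup G
    · exact ⟨[Nat.card (Sylow p G)], by simp, fun m hm => by
        rw [List.mem_singleton] at hm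
        exact Or.inr ⟨G, inferInstance, inferInstance, hsimple, hm⟩⟩
    by_cases htriv : Subsingleton G
    · have : Nat.card (Sylow p G) = 1 := by
        have h1 : Nat.card G = 1 := Nat.card_eq_one_iff_unique.mpr ⟨htriv, ⟨1⟩⟩
        have h2 := Sylow.card_dvd_index (default : Sylow p G)
        have h3 : ((default : Sylow p G) : Subgroup G).index ∣ Nat.card G :=
          Subgroup.index_dvd_card _
        rw [h1] at h3
        exact Nat.eq_one_of_dvd_one (h2.trans h3)
      rw [this]; exact hasFact_one p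
    have hK : ∃ K : Subgroup G, K.Normal ∧ K ≠ ⊥ ∧ K ≠ ⊤ := by
      by_contra hcon
      push Not at hcon
      apply hsimple
      haveI : Nontrivial G := not_subsingleton_iff_nontrivial.mp htriv
      exact ⟨fun K hK => by
        by_cases h : K = ⊥
        · exact Or.inl h
        · exact Or.inr (hcon K hK h)⟩
    obtain ⟨K, hKn, hKbot, hKtop⟩ := hK
    obtain ⟨P⟩ : Nonempty (Sylow p G) := inferInstance
    by_cases hcase : (P : Subgroup G) ⊔ K = ⊤ ∧ (P : Subgroup G) ⊓ K = ⊥
    · exact hasFact_coprime p P K hcase.1 hcase.2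
    obtain ⟨N, hN⟩ : ∃ N, N = ((P : Subgroup G) ⊔ K) ⊓
        Subgroup.normalizer (((P : Subgroup G) ⊓ K : Subgroup G) : Set G) := ⟨_, rfl⟩
    haveI hn : (((P : Subgroup G) ⊓ K).subgroupOf N).Normal := by
      apply Subgroup.normal_subgroupOf_of_le_normalizer
      rw [hN]; exact inf_le_right
    rw [Cfsg.Agent.S4341.result p K P N hN]
    have hquot : ∀ {H : Type u} [Group H] [Finite H] (M : Subgroup H), M ≠ ⊥ →
        Nat.card (H ⧸ M) < Nat.card H := by
      intro H _ _ M h
      rw [Subgroup.card_eq_card_quotient_mul_card_subgroup M]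
      have h1 : 1 < Nat.card M := (Subgroup.one_lt_card_iff_ne_bot M).mpr h
      have h2 : 0 < Nat.card (H ⧸ M) := Nat.card_pos
      nlinarith
    have hsub : ∀ (M : Subgroup G), M ≠ ⊤ → Nat.card M < Nat.card G := by
      intro M h
      apply lt_of_le_of_ne (Subgroup.card_le_card_group M)
      intro h'
      exact h (Subgroup.eq_top_of_card_eq M h')
    refine HasFact.mul (HasFact.mul ?_ ?_) ?_
    · exact ih _ (hcard ▸ hquot K hKbot) (G ⧸ K) rfl
    · exact ih _ (hcard ▸ hsub K hKtop) ↥K rfl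
    · refine ih _ ?_ (↥N ⧸ ((P : Subgroup G) ⊓ K).subgroupOf N) rfl
      rw [← hcard]
      have hle1 : Nat.card (↥N ⧸ ((P : Subgroup G) ⊓ K).subgroupOf N) ≤ Nat.card N :=
        Nat.le_of_dvd Nat.card_pos (Subgroup.card_quotient_dvd_card _)
      have hle2 : Nat.card N ≤ Nat.card G := Subgroup.card_le_card_group N
      by_cases hsup : (P : Subgroup G) ⊔ K = ⊤
      · have hinf : (P : Subgroup G) ⊓ K ≠ ⊥ := fun h => hcase ⟨hsup, h⟩
        have hDN : (P : Subgroup G) ⊓ K ≤ N := by
          rw [hN]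
          exact le_inf (inf_le_left.trans le_sup_left) Subgroup.le_normalizer
        have hD : ((P : Subgroup G) ⊓ K).subgroupOf N ≠ ⊥ := by
          intro h
          rw [Subgroup.subgroupOf_eq_bot, disjoint_iff, inf_eq_left.mpr hDN] at h
          exact hinf h
        exact lt_of_lt_of_le (hquot _ hD) hle2
      · have : N ≠ ⊤ := by
          intro h
          apply hsup
          rw [eq_top_iff, ← h, hN]
          exact inf_le_left
        exact lt_of_le_of_lt hle1 (hsub N this)


/-- For a finite group `G` and a prime `p`, the number of Sylow `p`-subgroups of `G` is a product of natural numbers each of which is either a prime power congruent to 1 modulo `p` or the number of Sylow `p`-subgroups of some finite simple group. -/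
theorem result {G : Type u} [Group G] [Finite G]
    (p : ℕ) [Fact p.Prime] :
    ∃ l : List ℕ, l.prod = Nat.card (Sylow p G) ∧
      ∀ m ∈ l, (IsPrimePow m ∧ m % p = 1) ∨
        ∃ (S : Type u) (_ : Group S) (_ : Finite S), IsSimpleGroup S ∧ m = Nat.card (Sylow p S) := by
  exact main p _ G rfl

end Cfsg.Agent.S4303
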