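import Cfsg.Statements.S1641
-- import your own Cfsg.Agent.* helpers here
import Cfsg.Agent.Lib.Helper14.LeechCo3R5b
import Cfsg.Agent.S1640

set_option autoImplicit false
open Cfsg

namespace Cfsg.Agent.S1641

open Cfsg.Agent.Lib.Helper14.Golay Cfsg.Agent.Lib.Helper14.Leech
  Cfsg.Agent.Lib.Helper14.LeechOrbit Cfsg.Agent.Lib.Helper14.LeechHS
  Cfsg.Agent.Lib.Helper14.LeechMcL Cfsg.Agent.Lib.Helper14.LeechCo2
  Cfsg.Agent.Lib.Helper14.LeechCo3R5 Cfsg.Agent.Lib.Helper14.Co0Center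
  Cfsg.Agent.Lib.Helper14.LeechPairs
open Cfsg.Agent.S1578 (u0 u0_mem u0_norm dot_u0)
open Cfsg.Agent.S1584 (U0 WS V0)
open Cfsg.Agent.S0403 (smul_sub' coe_sub')
open MulAction

local notation "HG" => Cfsg.Agent.S0405.G0

theorem smul_neg' (g : ↥Co0) (a : ↥leechLattice) : g • (-a) = -(g • a) :=
  co0_map_neg g.1 g.2 a

theorem coe_neg' (a : ↥leechLattice) :
    ((-a : ↥leechLattice) : GolayPt → ℤ) = -(a : GolayPt → ℤ) := rfl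

theorem nrm_neg (a : ↥leechLattice) : nrm (-a) = nrm a := by
  unfold nrm; rw [coe_neg', sqNorm_neg]

theorem ip_neg_right (a b : ↥leechLattice) : ip a (-b) = -ip a b := by
  unfold ip; rw [coe_neg', dotInt_neg_right]

theorem ip_neg_left (a b : ↥leechLattice) : ip (-a) b = -ip a b := by
  rw [ip_comm, ip_neg_right, ip_comm]

/-- the set of the 11178 points -/
def X (u : ↥leechLattice) : Set ↥leechLattice := {x | nrm x = 32 ∧ ip u x = -16}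

theorem negT0_mem : -T0 ∈ X U0 := by
  refine ⟨?_, ?_⟩
  · rw [nrm_neg]; exact t0_norm
  · rw [ip_neg_right, ip_comm]
    show -dotInt t0 u0 = -16
    rw [dot_t0_u0]

theorem exists_std (u x : ↥leechLattice) (hu : nrm u = 48) (hx : x ∈ X u) :
    ∃ k : ↥Co0, k • u = U0 ∧ k • x = -T0 := by
  obtain ⟨k1, hk1⟩ := co0_trans48 u U0 hu u0_norm
  have hx1 : k1 • x ∈ X U0 :=
    ⟨by rw [nrm_smul]; exact hx.1, by rw [← hk1, ip_smul]; exact hx.2⟩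
  obtain ⟨k2, hk2u, hk2x⟩ :=
    (Cfsg.Agent.S1640.result U0 u0_norm).2 (k1 • x) hx1 (-T0) negT0_mem
  exact ⟨k2 * k1, by rw [mul_smul, hk1, hk2u], by rw [mul_smul, hk2x]⟩

theorem WS_eq : WS = T0 - U0 := by
  rw [T0_eq, add_sub_cancel_left]

theorem orbit_transport (u x : ↥leechLattice) (k : ↥Co0) (hku : k • u = U0)
    (hkx : k • x = -T0) (Z : ↥leechLattice) :
    (orbit ↥(stabilizer ↥Co0 u ⊓ stabilizer ↥Co0 x) (k⁻¹ • (-Z))).ncard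
      = (orbit ↥HG Z).ncard := by
  have hinj : Function.Injective (fun y : ↥leechLattice => -(k • y)) := by
    intro a b h
    have h' : k • a = k • b := neg_injective h
    exact MulAction.injective k h'
  rw [← Set.ncard_image_of_injective _ hinj]
  congr 1
  have hku' : k⁻¹ • U0 = u := by rw [inv_smul_eq_iff, hku]
  have hkT : k • (-x) = T0 := by rw [smul_neg', hkx, neg_neg]
  have hkT' : k⁻¹ • T0 = -x := by rw [inv_smul_eq_iff, hkT]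
  have hkx' : k⁻¹ • (-T0) = x := by rw [inv_smul_eq_iff, hkx]
  ext z
  constructor
  · rintro ⟨y, ⟨⟨h, hh⟩, rfl⟩, rfl⟩
    have hhu : h • u = u := hh.1
    have hhx : h • x = x := hh.2
    have hU : (k * h * k⁻¹) • U0 = U0 := by
      rw [mul_smul, mul_smul, hku', hhu, hku]
    have hT : (k * h * k⁻¹) • T0 = T0 := by
      rw [mul_smul, mul_smul, hkT', smul_neg', hhx, hkT]
    have hW : (k * h * k⁻¹) • WS = WS := by
      rw [WS_eq, smul_sub', hU, hT]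
    refine ⟨⟨k * h * k⁻¹, ⟨hU, hW⟩⟩, ?_⟩
    show (k * h * k⁻¹) • Z = -(k • (h • (k⁻¹ • (-Z))))
    rw [smul_neg', smul_neg', smul_neg', neg_neg, mul_smul, mul_smul]
  · rintro ⟨⟨g, hg⟩, rfl⟩
    have hgU : g • U0 = U0 := hg.1
    have hgW : g • WS = WS := hg.2
    have hgT : g • T0 = T0 := by rw [T0_eq, Cfsg.Agent.S1634.smul_add', hgU, hgW]
    have hu' : (k⁻¹ * g * k) • u = u := by
      rw [mul_smul, mul_smul, hku, hgU, hku']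
    have hx' : (k⁻¹ * g * k) • x = x := by
      rw [mul_smul, mul_smul, hkx, smul_neg', hgT, hkx']
    refine ⟨(k⁻¹ * g * k) • (k⁻¹ • (-Z)), ⟨⟨k⁻¹ * g * k, ⟨hu', hx'⟩⟩, rfl⟩, ?_⟩
    show -(k • ((k⁻¹ * g * k) • (k⁻¹ • (-Z)))) = g • Z
    rw [mul_smul, mul_smul, smul_inv_smul, smul_inv_smul, smul_neg', neg_neg]

theorem eq_union5 {α : Type*} (f : α → ℤ) (S A0 A1 A2 A3 A4 : Set α) (hS : S.Finite)
    (h0 : A0 ⊆ S) (h1 : A1 ⊆ S) (h2 : A2 ⊆ S) (h3 : A3 ⊆ S) (h4 : A4 ⊆ S)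
    (c0 c1 c2 c3 c4 : ℤ)
    (f0 : ∀ a ∈ A0, f a = c0) (f1 : ∀ a ∈ A1, f a = c1) (f2 : ∀ a ∈ A2, f a = c2)
    (f3 : ∀ a ∈ A3, f a = c3) (f4 : ∀ a ∈ A4, f a = c4)
    (hc : c0 ≠ c1 ∧ c0 ≠ c2 ∧ c0 ≠ c3 ∧ c0 ≠ c4 ∧ c1 ≠ c2 ∧ c1 ≠ c3 ∧ c1 ≠ c4 ∧
      c2 ≠ c3 ∧ c2 ≠ c4 ∧ c3 ≠ c4)
    (hcard : S.ncard ≤ A0.ncard + A1.ncard + A2.ncard + A3.ncard + A4.ncard) :
    S = A0 ∪ A1 ∪ A2 ∪ A3 ∪ A4 := by
  obtain ⟨c01, c02, c03, c04, c12, c13, c14, c23, c24, c34⟩ := hc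
  have e0 := hS.subset h0
  have e1 := hS.subset h1
  have e2 := hS.subset h2
  have e3 := hS.subset h3
  have e4 := hS.subset h4
  have d1 : Disjoint A0 A1 := Set.disjoint_left.mpr fun a ha hb => c01 ((f0 a ha).symm.trans (f1 a hb))
  have d2 : Disjoint (A0 ∪ A1) A2 := Set.disjoint_left.mpr fun a ha hb => by
    rcases ha with ha | ha
    · exact c02 ((f0 a ha).symm.trans (f2 a hb))
    · exact c12 ((f1 a ha).symm.trans (f2 a hb))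
  have d3 : Disjoint (A0 ∪ A1 ∪ A2) A3 := Set.disjoint_left.mpr fun a ha hb => by
    rcases ha with (ha | ha) | ha
    · exact c03 ((f0 a ha).symm.trans (f3 a hb))
    · exact c13 ((f1 a ha).symm.trans (f3 a hb))
    · exact c23 ((f2 a ha).symm.trans (f3 a hb))
  have d4 : Disjoint (A0 ∪ A1 ∪ A2 ∪ A3) A4 := Set.disjoint_left.mpr fun a ha hb => by
    rcases ha with ((ha | ha) | ha) | ha
    · exact c04 ((f0 a ha).symm.trans (f4 a hb))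
    · exact c14 ((f1 a ha).symm.trans (f4 a hb))
    · exact c24 ((f2 a ha).symm.trans (f4 a hb))
    · exact c34 ((f3 a ha).symm.trans (f4 a hb))
  have n1 := Set.ncard_union_eq d1 e0 e1
  have n2 := Set.ncard_union_eq d2 (e0.union e1) e2
  have n3 := Set.ncard_union_eq d3 ((e0.union e1).union e2) e3
  have n4 := Set.ncard_union_eq d4 (((e0.union e1).union e2).union e3) e4
  symm
  refine Set.eq_of_subset_of_ncard_le ?_ ?_ hS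
  · exact Set.union_subset (Set.union_subset (Set.union_subset (Set.union_subset h0 h1) h2) h3) h4
  · rw [n4, n3, n2, n1]
    exact hcard

theorem main (u x : ↥leechLattice) (hu : nrm u = 48) (hx : x ∈ X u) (hX : (X u).ncard = 11178) :
    ∃ y₁ ∈ X u, ∃ y₂ ∈ X u, ∃ y₃ ∈ X u, ∃ y₄ ∈ X u,
      (orbit ↥(stabilizer ↥Co0 u ⊓ stabilizer ↥Co0 x) y₁).ncard = 352 ∧
      (orbit ↥(stabilizer ↥Co0 u ⊓ stabilizer ↥Co0 x) y₂).ncard = 1100 ∧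
      (orbit ↥(stabilizer ↥Co0 u ⊓ stabilizer ↥Co0 x) y₃).ncard = 4125 ∧
      (orbit ↥(stabilizer ↥Co0 u ⊓ stabilizer ↥Co0 x) y₄).ncard = 5600 ∧
      X u = {x} ∪ orbit ↥(stabilizer ↥Co0 u ⊓ stabilizer ↥Co0 x) y₁ ∪
        orbit ↥(stabilizer ↥Co0 u ⊓ stabilizer ↥Co0 x) y₂ ∪
        orbit ↥(stabilizer ↥Co0 u ⊓ stabilizer ↥Co0 x) y₃ ∪
        orbit ↥(stabilizer ↥Co0 u ⊓ stabilizer ↥Co0 x) y₄ := by
  obtain ⟨k, hku, hkx⟩ := exists_std u x hu hx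
  have hmem : ∀ Z : ↥leechLattice, nrm Z = 32 → ip U0 Z = 16 → k⁻¹ • (-Z) ∈ X u := by
    intro Z h1 h2
    refine ⟨by rw [nrm_smul, nrm_neg, h1], ?_⟩
    rw [ip_comm, ip_inv_smul, hku, ip_neg_left, ip_comm, h2]
  have hval : ∀ Z : ↥leechLattice, ip x (k⁻¹ • (-Z)) = ip T0 Z := by
    intro Z
    rw [ip_comm, ip_inv_smul, hkx, ip_neg_left, ip_neg_right, neg_neg, ip_comm]
  have hsub : ∀ y ∈ X u, ∀ c : ℤ, ip x y = c →
      orbit ↥(stabilizer ↥Co0 u ⊓ stabilizer ↥Co0 x) y ⊆ X u ∧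
      ∀ a ∈ orbit ↥(stabilizer ↥Co0 u ⊓ stabilizer ↥Co0 x) y, ip x a = c := by
    intro y hy c hc
    refine ⟨?_, ?_⟩
    · rintro _ ⟨⟨h, hh⟩, rfl⟩
      have hhu : h • u = u := hh.1
      show nrm (h • y) = 32 ∧ ip u (h • y) = -16
      exact ⟨by rw [nrm_smul]; exact hy.1, by rw [ip_fix h u y hhu]; exact hy.2⟩
    · rintro _ ⟨⟨h, hh⟩, rfl⟩
      have hhx : h • x = x := hh.2
      show ip x (h • y) = c
      rw [ip_fix h x y hhx, hc]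
  have m1 := hmem Zm8 Zm8_rel.1 Zm8_rel.2.1
  have m2 := hmem Z16 Z16_rel.1 Z16_rel.2.1
  have m3 := hmem Z0 Z0_rel.1 Z0_rel.2.1
  have m4 := hmem Z8 Z8_rel.1 Z8_rel.2.1
  have o1 := orbit_transport u x k hku hkx Zm8
  have o2 := orbit_transport u x k hku hkx Z16
  have o3 := orbit_transport u x k hku hkx Z0
  have o4 := orbit_transport u x k hku hkx Z8
  rw [orbitm8] at o1
  rw [orbit16] at o2
  rw [orbit0] at o3
  rw [orbit8] at o4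
  have v1 : ip x (k⁻¹ • (-Zm8)) = -8 := by rw [hval, Zm8_rel.2.2.1]; norm_num
  have v2 : ip x (k⁻¹ • (-Z16)) = 16 := by rw [hval, Z16_rel.2.2.1]; norm_num
  have v3 : ip x (k⁻¹ • (-Z0)) = 0 := by rw [hval, Z0_rel.2.2.1]; norm_num
  have v4 : ip x (k⁻¹ • (-Z8)) = 8 := by rw [hval, Z8_rel.2.2.1]; norm_num
  obtain ⟨s1, t1⟩ := hsub _ m1 _ v1
  obtain ⟨s2, t2⟩ := hsub _ m2 _ v2
  obtain ⟨s3, t3⟩ := hsub _ m3 _ v3
  obtain ⟨s4, t4⟩ := hsub _ m4 _ v4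
  refine ⟨_, m1, _, m2, _, m3, _, m4, o1, o2, o3, o4, ?_⟩
  have hfin : (X u).Finite := Set.finite_of_ncard_ne_zero (by rw [hX]; norm_num)
  refine eq_union5 (fun a => ip x a) (X u) {x} _ _ _ _ hfin ?_ s1 s2 s3 s4 32 (-8) 16 0 8 ?_ t1 t2 t3 t4
    (by norm_num) ?_
  · intro a ha
    rw [Set.mem_singleton_iff] at ha
    rw [ha]; exact hx
  · intro a ha
    rw [Set.mem_singleton_iff] at ha
    rw [ha]
    show ip x x = 32
    rw [ip_self]; exact hx.1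
  · rw [Set.ncard_singleton, o1, o2, o3, o4, hX]

/-- The third Conway group acts on the 11178 cosets of the Higman–Sims group with rank 5 and subdegrees 1, 352, 1100, 4125, 5600. -/
theorem result (u x : ↥Cfsg.leechLattice) (hu : Cfsg.sqNorm (u : Cfsg.GolayPt → ℤ) = 48) (hx : x ∈ {x : ↥Cfsg.leechLattice | Cfsg.sqNorm (x : Cfsg.GolayPt → ℤ) = 32 ∧ Cfsg.dotInt (u : Cfsg.GolayPt → ℤ) (x : Cfsg.GolayPt → ℤ) = -16}) : ∃ y₁ ∈ {x : ↥Cfsg.leechLattice | Cfsg.sqNorm (x : Cfsg.GolayPt → ℤ) = 32 ∧ Cfsg.dotInt (u : Cfsg.GolayPt → ℤ) (x : Cfsg.GolayPt → ℤ) = -16}, ∃ y₂ ∈ {x : ↥Cfsg.leechLattice | Cfsg.sqNorm (x : Cfsg.GolayPt → ℤ) = 32 ∧ Cfsg.dotInt (u : Cfsg.GolayPt → ℤ) (x : Cfsg.GolayPt → ℤ) = -16}, ∃ y₃ ∈ {x : ↥Cfsg.leechLattice | Cfsg.sqNorm (x : Cfsg.GolayPt → ℤ) = 32 ∧ Cfsg.dotInt (u : Cfsg.GolayPt → ℤ) (x : Cfsg.GolayPt → ℤ) = -16}, ∃ y₄ ∈ {x :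 ↥Cfsg.leechLattice | Cfsg.sqNorm (x : Cfsg.GolayPt → ℤ) = 32 ∧ Cfsg.dotInt (u : Cfsg.GolayPt → ℤ) (x : Cfsg.GolayPt → ℤ) = -16}, (MulAction.orbit ↥(MulAction.stabilizer ↥Cfsg.Co0 u ⊓ MulAction.stabilizer ↥Cfsg.Co0 x) y₁).ncard = 352 ∧ (MulAction.orbit ↥(MulAction.stabilizer ↥Cfsg.Co0 u ⊓ MulAction.stabilizer ↥Cfsg.Co0 x) y₂).ncard = 1100 ∧ (MulAction.orbit ↥(MulAction.stabilizer ↥Cfsg.Co0 u ⊓ MulAction.stabilizer ↥Cfsg.Co0 x) y₃).ncard = 4125 ∧ (MulAction.orbit ↥(MulAction.stabilizer ↥Cfsg.Co0 u ⊓ MulAction.stabilizer ↥Cfsg.Co0 x) y₄).ncard = 5600 ∧ {x : ↥Cfsg.leechLattice | Cfsg.sqNorm (x : Cfsg.GolayPt → ℤ) = 32 ∧ Cfsg.dotInt (u : Cfsg.GolayPt → ℤ) (x : Cfsg.GolayPt → ℤ) = -16} = {x} ∪ MulAction.orbit ↥(MulAction.stabilizer ↥Cfsg.Co0 u ⊓ MulAction.stabilizer ↥Cfsg.Co0 x) y₁ ∪ MulAction.orbit ↥(MulAction.stabilizer ↥Cfsg.Co0 u ⊓ MulAction.stabilizer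 ↥Cfsg.Co0 x) y₂ ∪ MulAction.orbit ↥(MulAction.stabilizer ↥Cfsg.Co0 u ⊓ MulAction.stabilizer ↥Cfsg.Co0 x) y₃ ∪ MulAction.orbit ↥(MulAction.stabilizer ↥Cfsg.Co0 u ⊓ MulAction.stabilizer ↥Cfsg.Co0 x) y₄ := by
  exact main u x hu hx (Cfsg.Agent.S1640.result u hu).1

end Cfsg.Agent.S1641
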