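import Cfsg.Statements.S0076
-- import your own Cfsg.Agent.* helpers here
import Mathlib

set_option autoImplicit false
open Cfsg

namespace Cfsg.Agent.S0076

open Pointwise

/-- Two P-invariant subsets of a Sylow p-subgroup P that are conjugate in G are conjugate under the normalizer of P. -/
theorem result {G : Type*} [Group G] [Finite G] {p : ℕ} [Fact p.Prime] (P : Sylow p G) (X Y : Set G) (hXP : X ⊆ P) (hYP : Y ⊆ P) (hX : ∀ x ∈ P, (fun y => x * y * x⁻¹) '' X = X) (hY : ∀ x ∈ P, (fun y => x * y * x⁻¹) '' Y = Y) (g : G) (hg : (fun y => g * y * g⁻¹) '' X = Y) : ∃ n ∈ Subgroup.normalizer (P : Set G), (fun y => n * y * n⁻¹) '' X = Y := by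
  classical
  have conj_eq : ∀ (a : G) (S : Set G), (fun y => a * y * a⁻¹) '' S = MulAut.conj a • S := by
    intro a S
    rw [← Set.image_smul]
    rfl
  have conj_eq' : ∀ (a : G) (S : Set G), ⇑(MulAut.conj a) '' S = MulAut.conj a • S := by
    intro a S
    rw [← Set.image_smul]
    rfl
  simp only [conj_eq] at hX hY hg ⊢
  -- P and g • P both lie in the normalizer (stabilizer) of Y
  have h1 : (P : Subgroup G) ≤ Subgroup.normalizer Y := by
    intro x hx
    rw [Subgroup.mem_normalizer_iff_conj_image_eq, conj_eq']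
    exact hY x hx
  have h2 : ((g • P : Sylow p G) : Subgroup G) ≤ Subgroup.normalizer Y := by
    intro z hz
    rw [Sylow.coe_subgroup_smul, Subgroup.mem_pointwise_smul_iff_inv_smul_mem] at hz
    have hx : g⁻¹ * z * g ∈ (P : Subgroup G) := by simpa [MulAut.smul_def, MulAut.conj_apply] using hz
    rw [Subgroup.mem_normalizer_iff_conj_image_eq, conj_eq']
    have hxx : MulAut.conj (g⁻¹ * z * g) • X = X := hX _ hx
    have e : z = g * (g⁻¹ * z * g) * g⁻¹ := by group
    rw [e, map_mul, map_mul, mul_smul, mul_smul, ← hg, map_inv, inv_smul_smul, hxx]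
  obtain ⟨h, hh⟩ :=
    MulAction.exists_smul_eq (Subgroup.normalizer Y) ((g • P).subtype h2) (P.subtype h1)
  simp_rw [Sylow.smul_subtype, Subgroup.smul_def, smul_smul] at hh
  refine ⟨h * g, Sylow.smul_eq_iff_mem_normalizer.mp (Sylow.subtype_injective hh), ?_⟩
  rw [map_mul, mul_smul, hg]
  have := h.2
  rw [Subgroup.mem_normalizer_iff_conj_image_eq, conj_eq'] at this
  exact this

end Cfsg.Agent.S0076
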