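import Cfsg.Statements.S0678
import Mathlib
import Cfsg.Agent.S0675
import Cfsg.Agent.Lib.Lead.CharBurnside
import Cfsg.Agent.Lib.Helper19.Derangement

set_option autoImplicit false
open Cfsg
set_option linter.style.haveILetI false
set_option linter.unusedSectionVars false

open Equiv MulAction

namespace Cfsg.Agent.S0678


variable {α : Type*} [Fintype α] [DecidableEq α]

theorem support_card_le_five (hα : Fintype.card α = 7) {g : Perm α} {a b : α} (hab : a ≠ b)
    (ha : g a = a) (hb : g b = b) : g.support.card ≤ 5 := by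
  have hsub : g.support ⊆ (Finset.univ.erase a).erase b := by
    intro x hx
    rw [Perm.mem_support] at hx
    simp only [Finset.mem_erase, Finset.mem_univ, and_true]
    exact ⟨fun h => hx (h ▸ hb), fun h => hx (h ▸ ha)⟩
  calc g.support.card ≤ ((Finset.univ.erase a).erase b).card := Finset.card_le_card hsub
    _ = 5 := by
      rw [Finset.card_erase_of_mem, Finset.card_erase_of_mem (Finset.mem_univ a),
        Finset.card_univ, hα]
      simp [hab.symm]

theorem isThreeCycle_of_order_three (hα : Fintype.card α = 7) {g : Perm α} (ho : orderOf g = 3)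
    {a b : α} (hab : a ≠ b) (ha : g a = a) (hb : g b = b) : g.IsThreeCycle := by
  have hp : (orderOf g).Prime := by rw [ho]; norm_num
  obtain ⟨n, hn⟩ := Perm.cycleType_prime_order hp
  rw [ho] at hn
  have hsum : g.cycleType.sum = g.support.card := Perm.sum_cycleType g
  have hle := support_card_le_five hα hab ha hb
  rw [hn, Multiset.sum_replicate, smul_eq_mul] at hsum
  have hn0 : n = 0 := by omega
  subst hn0
  rw [Perm.IsThreeCycle, hn]; rfl

theorem support_card_of_two_power (hα : Fintype.card α = 7) {g : Perm α} {k : ℕ}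
    (ho : orderOf g ∣ 2 ^ k) (h1 : g ≠ 1) (hsw : ¬ g.IsSwap) {a b : α} (hab : a ≠ b)
    (ha : g a = a) (hb : g b = b) : g.support.card = 4 := by
  have hsum := Perm.sum_cycleType g
  have h2 : 2 ∣ g.cycleType.sum := by
    apply Multiset.dvd_sum
    intro x hx
    have h1 : x ∣ orderOf g := Perm.dvd_of_mem_cycleType hx
    have h2 : 2 ≤ x := Perm.two_le_of_mem_cycleType hx
    obtain ⟨j, -, rfl⟩ := (Nat.dvd_prime_pow Nat.prime_two).1 (h1.trans ho)
    cases j with
    | zero => simp at h2
    | succ j => exact Dvd.intro_left _ (pow_succ 2 j).symm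
  have hle := support_card_le_five hα hab ha hb
  have hne2 : g.support.card ≠ 2 := fun h => hsw (Perm.card_support_eq_two.1 h)
  have hne0 : g.support.card ≠ 0 := by
    rw [Ne, Finset.card_eq_zero, Perm.support_eq_empty_iff]; exact h1
  omega

theorem mem_zpowers_of_commute (hα : Fintype.card α = 7) {c g : Perm α} (ho : orderOf c = 7)
    (hcomm : Commute g c) : g ∈ Subgroup.zpowers c := by
  have hp : (orderOf c).Prime := by rw [ho]; norm_num
  obtain ⟨n, hn⟩ := Perm.cycleType_prime_order hp
  rw [ho] at hn
  have hsum := Perm.sum_cycleType c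
  have hle : c.support.card ≤ 7 := by rw [← hα]; exact Finset.card_le_univ _
  rw [hn, Multiset.sum_replicate, smul_eq_mul] at hsum
  have hn0 : n = 0 := by omega
  subst hn0
  have hcyc : c.IsCycle := by rw [← Perm.card_cycleType_eq_one, hn]; rfl
  have hsupp : c.support = Finset.univ := by
    apply Finset.eq_univ_of_card; rw [← hsum, hα]
  have hmove : ∀ x, c x ≠ x := fun x => Perm.mem_support.1 (hsupp ▸ Finset.mem_univ x)
  obtain ⟨a⟩ : Nonempty α := by rw [← Fintype.card_pos_iff, hα]; norm_num
  obtain ⟨i, hi⟩ := hcyc.exists_zpow_eq (hmove a) (hmove (g a))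
  refine ⟨i, ?_⟩
  ext b
  obtain ⟨j, hj⟩ := hcyc.exists_zpow_eq (hmove a) (hmove b)
  rw [← hj]
  have h1 : g ((c ^ j) a) = (c ^ j) (g a) := by
    have := (hcomm.zpow_right j)
    exact congrArg (· a) this.eq
  show (c ^ i) ((c ^ j) a) = g ((c ^ j) a)
  rw [h1, ← hi, ← Perm.mul_apply, ← Perm.mul_apply, ← zpow_add, ← zpow_add, add_comm]

theorem card_fixed (g : Perm α) :
    Nat.card {a : α // g a = a} = Fintype.card α - g.support.card := by
  rw [Nat.card_eq_fintype_card, Fintype.card_subtype, ← Finset.card_compl]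
  congr 1
  ext a; simp [Perm.mem_support]

theorem card_eq_mul_stab (hα : Fintype.card α = 7) (G : Subgroup (Perm α))
    (h2t : IsMultiplyPretransitive G α 2) (x : Fin 2 ↪ α) :
    Nat.card G = 42 * Nat.card (stabilizer G x) := by
  have h1 : (stabilizer G x).index = Nat.card (Fin 2 ↪ α) :=
    @index_stabilizer_of_transitive G (Fin 2 ↪ α) _ _ x h2t
  have h2 : Nat.card (Fin 2 ↪ α) = 42 := by
    rw [Nat.card_eq_fintype_card, Fintype.card_embedding_eq, Fintype.card_fin, hα]
    rfl
  rw [← Subgroup.index_mul_card (stabilizer G x), h1, h2]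

theorem relIndex_dvd_six (G : Type*) [Group G] [Finite G] (P : Subgroup G) (hP : Nat.card P = 7) :
    (Subgroup.centralizer (P : Set G)).relIndex (Subgroup.normalizer (P : Set G)) ∣ 6 := by
  haveI : Fact (Nat.Prime 7) := ⟨by norm_num⟩
  have key := Subgroup.card_dvd_of_injective _
    (QuotientGroup.kerLift_injective P.normalizerMonoidHom)
  rw [Subgroup.normalizerMonoidHom_ker, ← Subgroup.index, ← Subgroup.relIndex] at key
  haveI : IsCyclic P := isCyclic_of_prime_card hP
  rw [IsCyclic.card_mulAut, hP, Nat.totient_prime (by norm_num)] at key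
  exact key

/-- a two-group of order 8 fixing two points and containing no swap cannot exist -/
theorem no_order_eight (hα : Fintype.card α = 7) (T : Subgroup (Perm α)) (hT : Nat.card T = 8)
    {a b : α} (hab : a ≠ b) (ha : ∀ t ∈ T, t a = a) (hb : ∀ t ∈ T, t b = b)
    (hsw : ∀ t ∈ T, ¬ Perm.IsSwap t) : False := by
  haveI : Fintype T := Fintype.ofFinite T
  have hB := Cfsg.Agent.Lib.Helper19.burnside_natCard (G := T) (Ω := α)
  have hfix : ∀ t : T, Nat.card (fixedBy α t) = 3 + if t = 1 then 4 else 0 := by
    intro t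
    have h0 : Nat.card (fixedBy α t) = Fintype.card α - (t : Perm α).support.card :=
      card_fixed (t : Perm α)
    rw [h0, hα]
    by_cases h1 : t = 1
    · subst h1
      simp
    · have h1' : (t : Perm α) ≠ 1 := fun h => h1 (Subtype.ext h)
      have ho : orderOf (t : Perm α) ∣ 2 ^ 3 := by
        rw [Subgroup.orderOf_coe]
        have := orderOf_dvd_natCard t
        rw [hT] at this
        exact this
      have := support_card_of_two_power hα ho h1' (hsw _ t.2) hab (ha _ t.2) (hb _ t.2)
      rw [this, if_neg h1]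
  rw [Finset.sum_congr rfl (fun t _ => hfix t), Finset.sum_add_distrib, Finset.sum_const,
    Finset.sum_ite_eq' Finset.univ (1 : T), if_pos (Finset.mem_univ _), Finset.card_univ,
    ← Nat.card_eq_fintype_card, hT] at hB
  simp only [smul_eq_mul] at hB
  omega

theorem sqf42 : Squarefree (42:ℕ) := by
  rw [Nat.squarefree_iff_prime_squarefree]
  intro p hp hdvd
  have hle : p * p ≤ 42 := Nat.le_of_dvd (by norm_num) hdvd
  have hp7 : p < 7 := by nlinarith
  have hp2 := hp.two_le
  interval_cases p <;> norm_num at hdvd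

theorem sqf210 : Squarefree (210:ℕ) := by
  rw [Nat.squarefree_iff_prime_squarefree]
  intro p hp hdvd
  have hle : p * p ≤ 210 := Nat.le_of_dvd (by norm_num) hdvd
  have hp7 : p < 15 := by nlinarith
  have hp2 := hp.two_le
  interval_cases p <;> norm_num at hdvd

theorem seven_dvd_of_normal (hα : Fintype.card α = 7) (G : Subgroup (Perm α))
    (hprim : IsPreprimitive G α) (N : Subgroup G) [N.Normal] (hN : N ≠ ⊥) :
    IsPretransitive N α ∧ 7 ∣ Nat.card N := by
  have hfix : fixedPoints N α ≠ Set.univ := by
    intro h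
    apply hN
    rw [Subgroup.eq_bot_iff_forall]
    intro n hn
    apply Subtype.ext
    ext a
    have : a ∈ fixedPoints N α := by rw [h]; trivial
    exact this ⟨n, hn⟩
  haveI := hprim
  have htr : IsPretransitive N α :=
    IsQuasiPreprimitive.isPretransitive_of_normal (G := G) (X := α) hfix
  refine ⟨htr, ?_⟩
  obtain ⟨a⟩ : Nonempty α := by rw [← Fintype.card_pos_iff, hα]; norm_num
  have h1 : (stabilizer N a).index = Nat.card α := index_stabilizer_of_transitive ..
  rw [Nat.card_eq_fintype_card, hα] at h1
  rw [← h1]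
  exact Subgroup.index_dvd_card _

theorem card_eq (hα : Fintype.card α = 7) (G : Subgroup (Perm α)) [IsPretransitive G α]
    (hG : ¬ Group.IsSolvable G) (hA : ¬ alternatingGroup α ≤ G) : Nat.card G = 168 := by
  have h2t : IsMultiplyPretransitive G α 2 :=
    (Cfsg.Agent.S0675.result (by rw [hα]; norm_num) G).resolve_left hG
  have hprim : IsPreprimitive G α := isPreprimitive_of_is_two_pretransitive h2t
  have no3 : ∀ g ∈ G, ¬ Perm.IsThreeCycle g := fun g hg h =>
    hA (Perm.alternatingGroup_le_of_isPreprimitive_of_isThreeCycle_mem hprim h hg)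
  have nosw : ∀ g ∈ G, ¬ Perm.IsSwap g := fun g hg h =>
    hA (by rw [Perm.subgroup_eq_top_of_isPreprimitive_of_isSwap_mem hprim g h hg]; exact le_top)
  obtain ⟨x⟩ : Nonempty (Fin 2 ↪ α) :=
    Function.Embedding.nonempty_of_card_le (by rw [Fintype.card_fin, hα]; norm_num)
  have hx01 : x 0 ≠ x 1 := fun h => by simpa using x.injective h
  set K := stabilizer G x with hK
  have hGK : Nat.card G = 42 * Nat.card K := card_eq_mul_stab hα G h2t x
  have hfix : ∀ k : G, k ∈ K → ∀ i, (k : Perm α) (x i) = x i := by
    intro k hk i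
    have : k • x = x := hk
    exact congrArg (fun e : Fin 2 ↪ α => e i) this
  set m := Nat.card K with hm
  have hdvd : Nat.card G ∣ 5040 := by
    have := Subgroup.card_subgroup_dvd_card G
    rw [Nat.card_eq_fintype_card (α := Perm α), Fintype.card_perm, hα] at this
    exact this
  have hm120 : m ∣ 120 := by
    rw [hGK] at hdvd
    exact (Nat.mul_dvd_mul_iff_left (by norm_num : 0 < 42)).1 (by simpa using hdvd)
  have h3 : ¬ 3 ∣ m := by
    intro h
    haveI : Fact (Nat.Prime 3) := ⟨by norm_num⟩
    obtain ⟨k, hk⟩ := exists_prime_orderOf_dvd_card' 3 h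
    have ho : orderOf ((k : G) : Perm α) = 3 := by
      rw [Subgroup.orderOf_coe, Subgroup.orderOf_coe, hk]
    exact no3 _ (k : G).2 (isThreeCycle_of_order_three hα ho hx01 (hfix _ k.2 0) (hfix _ k.2 1))
  have h8 : ¬ 8 ∣ m := by
    intro h
    haveI : Fact (Nat.Prime 2) := ⟨by norm_num⟩
    obtain ⟨T, hT⟩ := Sylow.exists_subgroup_card_pow_prime 2 (show 2 ^ 3 ∣ Nat.card K from h)
    set T' : Subgroup (Perm α) := (T.map K.subtype).map G.subtype with hT'
    have hT'c : Nat.card T' = 8 := by
      rw [hT', Subgroup.card_map_of_injective G.subtype_injective,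
        Subgroup.card_map_of_injective K.subtype_injective, hT]
      norm_num
    have hmem : ∀ t ∈ T', ∃ k : G, k ∈ K ∧ (k : Perm α) = t := by
      intro t ht
      rw [hT', Subgroup.mem_map] at ht
      obtain ⟨g, hg, rfl⟩ := ht
      rw [Subgroup.mem_map] at hg
      obtain ⟨k, -, rfl⟩ := hg
      exact ⟨(k : G), k.2, rfl⟩
    refine no_order_eight hα T' hT'c hx01 ?_ ?_ ?_
    · intro t ht
      obtain ⟨k, hk, rfl⟩ := hmem t ht
      exact hfix k hk 0
    · intro t ht
      obtain ⟨k, hk, rfl⟩ := hmem t ht
      exact hfix k hk 1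
    · intro t ht
      obtain ⟨k, hk, rfl⟩ := hmem t ht
      exact nosw _ k.2
  have hm20 : m = 1 ∨ m = 2 ∨ m = 4 ∨ m = 5 ∨ m = 10 ∨ m = 20 := by
    have hle : m ≤ 120 := Nat.le_of_dvd (by norm_num) hm120
    have hpos : 0 < m := Nat.pos_of_dvd_of_pos hm120 (by norm_num)
    clear_value m
    interval_cases m <;> omega
  -- Sylow 7
  haveI : Fact (Nat.Prime 7) := ⟨by norm_num⟩
  have h7G : 7 ∣ Nat.card G := by rw [hGK]; exact Dvd.dvd.mul_right (by norm_num) _
  obtain ⟨P⟩ : Nonempty (Sylow 7 G) := inferInstance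
  have hP7 : Nat.card P = 7 := by
    obtain ⟨k, hk⟩ := P.2.exists_card_eq
    have h1 : 7 ∣ Nat.card P := P.dvd_card_of_dvd_card h7G
    have h2 : Nat.card P ∣ 5040 := (Subgroup.card_subgroup_dvd_card _).trans hdvd
    rw [hk] at h1 h2 ⊢
    have hk1 : k ≠ 0 := by
      rintro rfl
      norm_num at h1
    have hk2 : k < 2 := by
      by_contra hcon
      push Not at hcon
      have : 7 ^ 2 ∣ 5040 := (pow_dvd_pow 7 hcon).trans h2
      norm_num at this
    have : k = 1 := by omega
    rw [this, pow_one]
  -- generator of P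
  obtain ⟨c, hc⟩ := exists_prime_orderOf_dvd_card' (G := P) 7 (by rw [hP7])
  have hcP : (c : G) ∈ (P : Subgroup G) := c.2
  have hoc : orderOf (((c : G)) : Perm α) = 7 := by
    rw [Subgroup.orderOf_coe, Subgroup.orderOf_coe, hc]
  haveI : IsCyclic P := isCyclic_of_prime_card hP7
  have hcentEq : Subgroup.centralizer ((P : Subgroup G) : Set G) = (P : Subgroup G) := by
    apply le_antisymm
    · intro g hg
      have hcomm : Commute (g : Perm α) ((c : G) : Perm α) := by
        have h := hg (c : G) hcP
        have h' := congrArg (fun z : G => (z : Perm α)) h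
        simp only [Subgroup.coe_mul] at h'
        exact h'.symm
      obtain ⟨i, hi⟩ := mem_zpowers_of_commute hα hoc hcomm
      have hgi : g = (c : G) ^ i := Subtype.ext (by simpa using hi.symm)
      rw [hgi]
      exact (P : Subgroup G).zpow_mem hcP i
    · exact Subgroup.le_centralizer _
  set N := Subgroup.normalizer ((P : Subgroup G) : Set G) with hN
  have hrel := relIndex_dvd_six G (P : Subgroup G) hP7
  rw [hcentEq, ← hN] at hrel
  set d := (P : Subgroup G).relIndex N with hd
  have hNcard : Nat.card N = 7 * d := by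
    have h1 := Subgroup.relIndex_mul_relIndex ⊥ (P : Subgroup G) N bot_le Subgroup.le_normalizer
    rw [Subgroup.relIndex_bot_left, Subgroup.relIndex_bot_left, hP7] at h1
    exact h1.symm
  have hn1 : Nat.card (Sylow 7 G) ≡ 1 [MOD 7] := card_sylow_modEq_one 7 G
  have hn2 : Nat.card (Sylow 7 G) = N.index := Sylow.card_eq_index_normalizer P
  set n := Nat.card (Sylow 7 G) with hn
  have hnN : n * (7 * d) = 42 * m := by
    rw [← hNcard, hn2, ← hGK]
    exact Subgroup.index_mul_card N
  have hd6 : d = 1 ∨ d = 2 ∨ d = 3 ∨ d = 6 := by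
    have hle : d ≤ 6 := Nat.le_of_dvd (by norm_num) hrel
    have hpos : 0 < d := Nat.pos_of_dvd_of_pos hrel (by norm_num)
    clear_value d
    interval_cases d <;> omega
  have hn7 : n % 7 = 1 := hn1
  have hcases : (m = 4) ∨ (m = 1) ∨ (m = 5) ∨ (m = 20 ∧ d = 1) := by
    rcases hm20 with h | h | h | h | h | h <;> rcases hd6 with h' | h' | h' | h' <;>
      (rw [h, h'] at hnN; omega)
  rcases hcases with h | h | h | ⟨h, h'⟩
  · rw [hGK, h]
  · exfalso
    apply hG
    have hc : Nat.card G = 42 := by rw [hGK, h]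
    haveI : IsZGroup G := IsZGroup.of_squarefree (by rw [hc]; exact sqf42)
    infer_instance
  · exfalso
    apply hG
    have hc : Nat.card G = 210 := by rw [hGK, h]
    haveI : IsZGroup G := IsZGroup.of_squarefree (by rw [hc]; exact sqf210)
    infer_instance
  · exfalso
    have hNP : (P : Subgroup G) = N := by
      apply Subgroup.eq_of_le_of_card_ge Subgroup.le_normalizer
      rw [hNcard, h', hP7]
    have hle : Subgroup.normalizer ((P : Subgroup G) : Set G) ≤
        Subgroup.centralizer ((P : Subgroup G) : Set G) := by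
      rw [hcentEq, ← hN, hNP]
    have hcompl := MonoidHom.ker_transferSylow_isComplement' P hle
    set Kc := (MonoidHom.transferSylow P hle).ker with hKc
    have hKcard : Nat.card Kc * Nat.card P = Nat.card G := hcompl.card_mul_card
    have hKc120 : Nat.card Kc = 120 := by rw [hP7, hGK, h] at hKcard; omega
    have hKne : Kc ≠ ⊥ := by
      intro hb
      rw [hb, Subgroup.card_bot] at hKc120
      omega
    have := (seven_dvd_of_normal hα G hprim Kc hKne).2
    rw [hKc120] at this
    omega

theorem solvable_of_index_dvd (G : Type*) [Group G] [Finite G] (N : Subgroup G) [N.Normal]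
    (h24 : N.index ∣ 24) : Group.IsSolvable (G ⧸ N) := by
  have hcq : Nat.card (G ⧸ N) = N.index := rfl
  have : ∃ a b, N.index = 2 ^ a * 3 ^ b := by
    have hle : N.index ≤ 24 := Nat.le_of_dvd (by norm_num) h24
    have hpos : 0 < N.index := Nat.pos_of_dvd_of_pos h24 (by norm_num)
    generalize N.index = i at *
    interval_cases i <;> first
      | (exfalso; omega)
      | exact ⟨0, 0, rfl⟩
      | exact ⟨1, 0, rfl⟩
      | exact ⟨2, 0, rfl⟩
      | exact ⟨3, 0, rfl⟩
      | exact ⟨0, 1, rfl⟩
      | exact ⟨1, 1, rfl⟩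
      | exact ⟨2, 1, rfl⟩
      | exact ⟨3, 1, rfl⟩
  obtain ⟨a, b, hab⟩ := this
  exact Cfsg.Agent.CharLib.isSolvable_of_card_pq 2 3 a b Nat.prime_two Nat.prime_three
    (hcq.trans hab)

theorem simple (hα : Fintype.card α = 7) (G : Subgroup (Perm α)) [IsPretransitive G α]
    (hG : ¬ Group.IsSolvable G) (hA : ¬ alternatingGroup α ≤ G) : IsSimpleGroup G := by
  have hcard := card_eq hα G hG hA
  have h2t : IsMultiplyPretransitive G α 2 :=
    (Cfsg.Agent.S0675.result (by rw [hα]; norm_num) G).resolve_left hG
  have hprim : IsPreprimitive G α := isPreprimitive_of_is_two_pretransitive h2t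
  haveI : Nontrivial G := by
    rw [← Finite.one_lt_card_iff_nontrivial, hcard]; norm_num
  refine ⟨fun N hN => ?_⟩
  by_contra hcon
  push Not at hcon
  obtain ⟨hbot, htop⟩ := hcon
  haveI := hN
  obtain ⟨htr, h7⟩ := seven_dvd_of_normal hα G hprim N hbot
  by_cases hsol : Group.IsSolvable N
  · apply hG
    have hq : Group.IsSolvable (G ⧸ N) := by
      have hidx : N.index * Nat.card N = 168 := by rw [← hcard]; exact Subgroup.index_mul_card N
      obtain ⟨k, hk⟩ := h7
      have h24 : N.index ∣ 24 := by
        rw [hk] at hidx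
        exact ⟨k, by nlinarith⟩
      exact solvable_of_index_dvd G N h24
    exact Group.isSolvable_of_ker_le_range N.subtype (QuotientGroup.mk' N)
      (by rw [QuotientGroup.ker_mk', Subgroup.range_subtype])
  · set N' : Subgroup (Perm α) := N.map G.subtype with hN'
    have hN'card : Nat.card N' = Nat.card N :=
      Subgroup.card_map_of_injective G.subtype_injective
    haveI : IsPretransitive N' α := by
      constructor
      intro a b
      obtain ⟨n, hn⟩ := htr.exists_smul_eq a b
      exact ⟨⟨(n : G), Subgroup.mem_map_of_mem _ n.2⟩, hn⟩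
    have hN'ns : ¬ Group.IsSolvable N' := by
      intro h
      apply hsol
      exact Group.isSolvable_of_isSolvable_injective
        (f := (N.equivMapOfInjective G.subtype G.subtype_injective).toMonoidHom)
        (MulEquiv.injective _)
    have hN'A : ¬ alternatingGroup α ≤ N' := fun h =>
      hA (h.trans (by rintro _ ⟨g, -, rfl⟩; exact g.2))
    have h168 := card_eq hα N' hN'ns hN'A
    apply htop
    apply Subgroup.eq_top_of_card_eq
    rw [← hN'card, h168, hcard]


/-- A non-solvable transitive permutation group on 7 points that does not contain the alternating group is a simple group of order 168. -/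
theorem result {α : Type*} [Fintype α] [DecidableEq α] (hα : Fintype.card α = 7) (G : Subgroup (Equiv.Perm α)) [MulAction.IsPretransitive G α] (hG : ¬ Group.IsSolvable G) (hA : ¬ alternatingGroup α ≤ G) : Nat.card G = 168 ∧ IsSimpleGroup G := by
  exact ⟨card_eq hα G hG hA, simple hα G hG hA⟩

end Cfsg.Agent.S0678
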