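import Cfsg.Statements.S0600
import Mathlib

set_option autoImplicit false
open Cfsg

namespace Cfsg.Agent.S0600


/-- A normal elementary abelian p-subgroup generated by the fixed points of the Sylow p-subgroups admits no nontrivial normal p-subgroup of G modulo its centralizer. -/
theorem result {G : Type*} [Group G] [Finite G] {p : ℕ} [Fact p.Prime] (V : Subgroup G) [V.Normal] (hV : Cfsg.IsElementaryAbelian p V) (hgen : V = ⨆ S : Sylow p G, V ⊓ Subgroup.centralizer ((S : Subgroup G) : Set G)) : Cfsg.pCore p (G ⧸ Subgroup.centralizer (V : Set G)) = ⊥ := by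
  set C : Subgroup G := Subgroup.centralizer (V : Set G) with hC
  unfold Cfsg.pCore
  rw [eq_bot_iff]
  apply sSup_le
  rintro N ⟨hNn, hNp⟩
  have hπ : Function.Surjective (QuotientGroup.mk' C) := QuotientGroup.mk'_surjective C
  -- every Sylow p-subgroup of G ⧸ C contains N
  have hNS : ∀ S : Sylow p G, N ≤ (S : Subgroup G).map (QuotientGroup.mk' C) := by
    intro S
    have := hNp.le_sylow_of_normal (S.mapSurjective hπ)
    simpa using this
  -- V centralizes the preimage of N
  have hVD : V ≤ Subgroup.centralizer ((N.comap (QuotientGroup.mk' C) : Subgroup G) : Set G) := by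
    refine hgen.le.trans (iSup_le ?_)
    intro S v hv
    rw [Subgroup.mem_centralizer_iff]
    intro d hd
    have hd' : QuotientGroup.mk' C d ∈ N := hd
    obtain ⟨s, hs, hse⟩ := hNS S hd'
    have hc : s⁻¹ * d ∈ C := by
      rw [← QuotientGroup.eq_one_iff, ← QuotientGroup.mk'_apply, map_mul, map_inv, hse]
      exact inv_mul_cancel _
    have hvS : v ∈ Subgroup.centralizer ((S : Subgroup G) : Set G) := hv.2
    rw [Subgroup.mem_centralizer_iff] at hvS
    have h1 : s * v = v * s := hvS s hs
    have h2 : v * (s⁻¹ * d) = (s⁻¹ * d) * v := by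
      rw [hC, Subgroup.mem_centralizer_iff] at hc
      exact hc v hv.1
    have : d = s * (s⁻¹ * d) := by group
    rw [this, mul_assoc, ← h2, ← mul_assoc, h1, mul_assoc]
  have hDC : N.comap (QuotientGroup.mk' C) ≤ C := Subgroup.le_centralizer_iff.mp hVD
  intro x hx
  obtain ⟨d, rfl⟩ := hπ x
  rw [Subgroup.mem_bot]
  exact (QuotientGroup.eq_one_iff d).mpr (hDC hx)

end Cfsg.Agent.S0600
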