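import Cfsg.Statements.S0618
import Cfsg.Agent.Lib.Helper8.BridgeFF
import Cfsg.Agent.S0617
import Cfsg.Agent.S0608
import Cfsg.Agent.S0600
import Cfsg.Agent.S0601
import Cfsg.Agent.Lib.Helper12.HallHigman

set_option autoImplicit false
open Cfsg

namespace Cfsg.Agent.S0618

open Cfsg.Agent.Lib.Helper8.Bridge in
/-- general form: `V` normal elementary abelian with `O_p(G/C_G(V)) = 1` and `J(G) ≰ C_G(V)`. -/
theorem core {G : Type*} [Group G] [Finite G] {p : ℕ} [Fact p.Prime] (hsep : Cfsg.IsPSolvable p G)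
    (V : Subgroup G) [V.Normal] (hVe : Cfsg.IsElementaryAbelian p V)
    (hOp : Cfsg.pCore p (G ⧸ Subgroup.centralizer (V : Set G)) = ⊥)
    (hJ : ¬ Cfsg.thompsonSubgroup p G ≤ Subgroup.centralizer (V : Set G)) :
    (p = 2 ∨ p = 3) ∧ ∃ E : Subgroup G, Subgroup.centralizer (V : Set G) ≤ E ∧
      E ≤ Cfsg.thompsonSubgroup p G ⊔ Subgroup.centralizer (V : Set G) ∧
      Cfsg.thompsonSubgroup p G ⊔ Subgroup.centralizer (V : Set G) ≤ Subgroup.normalizer (E : Set G) ∧
      ∃ hn : ((Subgroup.centralizer (V : Set G)).subgroupOf E).Normal,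
        Nonempty ((↥E ⧸ (Subgroup.centralizer (V : Set G)).subgroupOf E) ≃*
          Matrix.SpecialLinearGroup (Fin 2) (ZMod p)) := by
  classical
  have hmain := Cfsg.Agent.S0617.result (V' V) ((Cfsg.thompsonSubgroup p G).map (pi V))
    (isElementaryAbelian_V' V hVe) (thompson_map_pi_le_normalizer V) (map_pi_inf_centralizer V _)
    (hS1_map_pi V hsep hOp _) (thompson_map_pi_eq_iSup V hVe) (thompson_map_pi_ne_bot V hJ)
  obtain ⟨hp23, hE, -, hsup, -, -⟩ := hmain
  refine ⟨hp23, ?_⟩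
  have hne : Nonempty {E : Subgroup (Gam V) // ∃ A : Subgroup (Gam V),
      A ≤ (Cfsg.thompsonSubgroup p G).map (pi V) ∧ Cfsg.IsBestOffenderOn p (V' V) A ∧ ⁅V' V, A⁆ ≠ ⊥ ∧
      (∀ B : Subgroup (Gam V), B ≤ A → Cfsg.IsBestOffenderOn p (V' V) B → ⁅V' V, B⁆ ≠ ⊥ → B = A) ∧
      E = ⁅((Cfsg.pPrimeCore p ↥((Cfsg.thompsonSubgroup p G).map (pi V))).map
        ((Cfsg.thompsonSubgroup p G).map (pi V)).subtype), A⁆ ⊔ A} := by
    by_contra hemp
    rw [not_nonempty_iff] at hemp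
    rw [iSup_of_empty] at hsup
    exact thompson_map_pi_ne_bot V hJ hsup.symm
  obtain ⟨E'⟩ := hne
  obtain ⟨hnorm, ⟨e⟩, -⟩ := hE E'
  have hE'H : (E' : Subgroup (Gam V)) ≤ (Cfsg.thompsonSubgroup p G).map (pi V) := by
    refine le_trans ?_ (le_of_eq hsup)
    exact le_iSup (fun E : {E : Subgroup (Gam V) // ∃ A : Subgroup (Gam V),
      A ≤ (Cfsg.thompsonSubgroup p G).map (pi V) ∧ Cfsg.IsBestOffenderOn p (V' V) A ∧ ⁅V' V, A⁆ ≠ ⊥ ∧
      (∀ B : Subgroup (Gam V), B ≤ A → Cfsg.IsBestOffenderOn p (V' V) B → ⁅V' V, B⁆ ≠ ⊥ → B = A) ∧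
      E = ⁅((Cfsg.pPrimeCore p ↥((Cfsg.thompsonSubgroup p G).map (pi V))).map
        ((Cfsg.thompsonSubgroup p G).map (pi V)).subtype), A⁆ ⊔ A} => (E : Subgroup (Gam V))) E'
  have hE'r : (E' : Subgroup (Gam V)) ≤ (pi V).range := hE'H.trans (Subgroup.map_le_range _ _)
  refine ⟨(E' : Subgroup (Gam V)).comap (pi V), centralizer_le_comap_pi V _, ?_, ?_, ?_⟩
  · intro x hx
    have hx' : pi V x ∈ (Cfsg.thompsonSubgroup p G).map (pi V) := hE'H hx
    obtain ⟨j, hj, hjx⟩ := hx'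
    have hk : j⁻¹ * x ∈ Subgroup.centralizer (V : Set G) := by
      rw [← ker_pi, MonoidHom.mem_ker, map_mul, map_inv, hjx, inv_mul_cancel]
    have hxe : x = j * (j⁻¹ * x) := by group
    rw [hxe]
    exact mul_mem (Subgroup.mem_sup_left hj) (Subgroup.mem_sup_right hk)
  · refine le_trans ?_ (Subgroup.le_normalizer_comap (pi V))
    rw [← Subgroup.map_le_iff_le_comap, Subgroup.map_sup]
    apply sup_le hnorm
    have : (Subgroup.centralizer (V : Set G)).map (pi V) = ⊥ := by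
      rw [Subgroup.map_eq_bot_iff, ker_pi]
    rw [this]
    exact bot_le
  · obtain ⟨hn, ⟨e2⟩⟩ := nonempty_quotient_comap_equiv V (E' : Subgroup (Gam V)) hE'r
    exact ⟨hn, ⟨e2.trans e⟩⟩

theorem centralizer_iUnion_coe {G : Type*} [Group G] {ι : Sort*} (K : ι → Subgroup G) :
    Subgroup.centralizer (⨆ i, ((K i : Subgroup G) : Set G)) =
      Subgroup.centralizer (((⨆ i, K i : Subgroup G)) : Set G) := by
  apply le_antisymm
  · intro g hg
    have h1 : Subgroup.zpowers g ≤ Subgroup.centralizer (((⨆ i, K i : Subgroup G)) : Set G) := by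
      rw [Subgroup.le_centralizer_iff]
      apply iSup_le
      intro i
      rw [← Subgroup.le_centralizer_iff, Subgroup.zpowers_le]
      refine Subgroup.centralizer_le ?_ hg
      intro x hx
      simp only [Set.iSup_eq_iUnion, Set.mem_iUnion]
      exact ⟨i, hx⟩
    exact h1 (Subgroup.mem_zpowers g)
  · apply Subgroup.centralizer_le
    intro x hx
    simp only [Set.iSup_eq_iUnion, Set.mem_iUnion] at hx
    obtain ⟨i, hi⟩ := hx
    exact (le_iSup K i) hi

/-- A p-separable group with trivial p'-core in which the Thompson factorization fails has p = 2 or 3, and J(G) induces on the normal closure of Ω₁(Z(S)) a group containing a normal SL(2, p). -/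
theorem result {G : Type*} [Group G] [Finite G] {p : ℕ} [Fact p.Prime] (hsep : Cfsg.IsPSolvable p G) (hO : Cfsg.pPrimeCore p G = ⊥) (hnf : ¬ Cfsg.IsThompsonFactorizable p G) : (p = 2 ∨ p = 3) ∧ ∃ E : Subgroup G, Subgroup.centralizer ((⨆ S : Sylow p G, Cfsg.omegaOne p ((S : Subgroup G) ⊓ Subgroup.centralizer ((S : Subgroup G) : Set G))) : Set G) ≤ E ∧ E ≤ Cfsg.thompsonSubgroup p G ⊔ Subgroup.centralizer ((⨆ S : Sylow p G, Cfsg.omegaOne p ((S : Subgroup G) ⊓ Subgroup.centralizer ((S : Subgroup G) : Set G))) : Set G) ∧ Cfsg.thompsonSubgroup p G ⊔ Subgroup.centralizer ((⨆ S : Sylow p G, Cfsg.omegaOne p ((S : Subgroup G) ⊓ Subgroup.centralizer ((S : Subgroup G) : Set G))) : Set G) ≤ Subgroup.normalizer (E : Set G) ∧ ∃ hn : ((Subgroup.centralizer ((⨆ S : Sylow p G, Cfsg.omegaOne p ((S : Subgroup G) ⊓ Subgroup.centralizer ((S : Subgroup G) : Set G))) : Set G)).subgroupOf E).Normal, Nonempty ((↥E ⧸ (Subgroup.centralizer ((⨆ S : Sylow p G, Cfsg.omegaOne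 p ((S : Subgroup G) ⊓ Subgroup.centralizer ((S : Subgroup G) : Set G))) : Set G)).subgroupOf E) ≃* Matrix.SpecialLinearGroup (Fin 2) (ZMod p)) := by
  classical
  have hc : Subgroup.centralizer (Cfsg.pCore p G : Set G) ≤ Cfsg.pCore p G :=
    Cfsg.Agent.Lib.Helper12.centralizer_pCore_le_pCore p hsep hO
  obtain ⟨hVn, hVe, -⟩ := Cfsg.Agent.S0601.result (p := p) hc
  have hJ0 := (Cfsg.Agent.S0608.result (G := G) (p := p) hO).not.mp hnf
  rw [centralizer_iUnion_coe (fun S : Sylow p G => Cfsg.omegaOne p ((S : Subgroup G) ⊓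
    Subgroup.centralizer ((S : Subgroup G) : Set G)))]
  generalize hVdef : (⨆ S : Sylow p G, Cfsg.omegaOne p ((S : Subgroup G) ⊓
    Subgroup.centralizer ((S : Subgroup G) : Set G))) = V at hVn hVe hJ0 ⊢
  have := hVn
  have hle : ∀ S : Sylow p G, Cfsg.omegaOne p ((S : Subgroup G) ⊓
      Subgroup.centralizer ((S : Subgroup G) : Set G)) ≤ V := by
    intro S
    rw [← hVdef]
    exact le_iSup (fun S : Sylow p G => Cfsg.omegaOne p ((S : Subgroup G) ⊓
      Subgroup.centralizer ((S : Subgroup G) : Set G))) S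
  have hgen : V = ⨆ S : Sylow p G, V ⊓ Subgroup.centralizer ((S : Subgroup G) : Set G) := by
    apply le_antisymm
    · refine le_trans (le_of_eq hVdef.symm) ?_
      apply iSup_le
      intro S
      refine le_trans ?_ (le_iSup (fun S : Sylow p G => V ⊓
        Subgroup.centralizer ((S : Subgroup G) : Set G)) S)
      refine le_inf (hle S) ?_
      unfold Cfsg.omegaOne
      rw [Subgroup.closure_le]
      rintro x ⟨hx, -⟩
      exact hx.2
    · exact iSup_le (fun S => inf_le_left)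
  have hOp : Cfsg.pCore p (G ⧸ Subgroup.centralizer (V : Set G)) = ⊥ :=
    Cfsg.Agent.S0600.result V hVe hgen
  exact core hsep V hVe hOp hJ0

end Cfsg.Agent.S0618
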