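import Cfsg.Statements.S1140
import Mathlib

set_option autoImplicit false
open Cfsg

namespace Cfsg.Agent.S1140

open Module in
theorem li_fun {F : Type*} [Field F] :
    LinearIndependent F (fun σ : F ≃+* F => ((σ : F →+* F) : F → F)) := by
  have h := linearIndependent_monoidHom F F
  have hinj : Function.Injective (fun σ : F ≃+* F => ((σ : F →+* F) : F →* F)) := by
    intro σ τ hστ
    ext x
    exact DFunLike.congr_fun hστ x
  exact h.comp _ hinj

section
variable {F : Type*} [Field F] [Fintype F] [CharP F 2]

noncomputable local instance algZ : Algebra (ZMod 2) F := ZMod.algebra F 2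

/-- the automorphisms as `ZMod 2`-linear maps -/
noncomputable def autLin (σ : F ≃+* F) : F →ₗ[ZMod 2] F :=
  ((σ : F →+* F) : F →+ F).toZModLinearMap 2

theorem autLin_apply (σ : F ≃+* F) (x : F) : autLin σ x = σ x := rfl

theorem li_autLin : LinearIndependent F (fun σ : F ≃+* F => autLin σ) := by
  have h := li_fun (F := F)
  refine LinearIndependent.of_comp (LinearMap.ltoFun (ZMod 2) F F F) ?_
  exact h

theorem span_autLin : Submodule.span F (Set.range (fun σ : F ≃+* F => autLin σ)) = ⊤ := by
  classical
  have : Finite (F ≃+* F) := Finite.of_injective (fun σ : F ≃+* F => (σ : F → F)) DFunLike.coe_injective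
  let _ : Fintype (F ≃+* F) := Fintype.ofFinite _
  apply li_autLin.span_eq_top_of_card_eq_finrank'
  apply le_antisymm
  · exact li_autLin.fintype_card_le_finrank
  · rw [Module.finrank_linearMap_self, ← IsGalois.card_aut_eq_finrank, Nat.card_eq_fintype_card]
    refine Fintype.card_le_of_injective (fun a : F ≃ₐ[ZMod 2] F => (a : F ≃+* F)) ?_
    intro a b hab
    ext x
    exact DFunLike.congr_fun hab x

theorem finite_aut : Finite (F ≃+* F) :=
  Finite.of_injective (fun σ : F ≃+* F => (σ : F → F)) DFunLike.coe_injective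

theorem add_repr (f : F →+ F) : ∃ (s : Finset (F ≃+* F)) (c : (F ≃+* F) → F), ∀ x : F,
    f x = ∑ σ ∈ s, c σ * σ x := by
  classical
  have : Finite (F ≃+* F) := finite_aut
  let _ : Fintype (F ≃+* F) := Fintype.ofFinite _
  have hmem : f.toZModLinearMap 2 ∈
      Submodule.span F (Set.range (fun σ : F ≃+* F => autLin σ)) := by
    rw [span_autLin]; trivial
  obtain ⟨c, hc⟩ := (Submodule.mem_span_range_iff_exists_fun F).mp hmem
  refine ⟨Finset.univ, c, fun x => ?_⟩
  have h2 := LinearMap.congr_fun hc x
  simp only [LinearMap.sum_apply, LinearMap.smul_apply, autLin_apply, smul_eq_mul] at h2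
  exact h2.symm

/-- the basis of automorphisms -/
noncomputable def autBasis [Fintype (F ≃+* F)] : Module.Basis (F ≃+* F) F (F →ₗ[ZMod 2] F) :=
  Module.Basis.mk li_autLin (le_of_eq span_autLin.symm)

theorem biadd_repr (B : F →+ F →+ F) :
    ∃ (s : Finset ((F ≃+* F) × (F ≃+* F))) (c : (F ≃+* F) × (F ≃+* F) → F),
      ∀ x y : F, B x y = ∑ p ∈ s, c p * (p.1 x * p.2 y) := by
  classical
  have : Finite (F ≃+* F) := finite_aut
  let _ : Fintype (F ≃+* F) := Fintype.ofFinite _
  -- coefficient maps
  let b := autBasis (F := F)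
  let cf : (F ≃+* F) → F →+ F := fun τ =>
    { toFun := fun x => b.repr ((B x).toZModLinearMap 2) τ
      map_zero' := by
        have : (B 0).toZModLinearMap 2 = 0 := by
          ext z; simp
        rw [this]; simp
      map_add' := by
        intro x y
        have : (B (x + y)).toZModLinearMap 2 = (B x).toZModLinearMap 2 + (B y).toZModLinearMap 2 := by
          ext z; simp
        rw [this]; simp }
  have hB : ∀ x y, B x y = ∑ τ, cf τ x * τ y := by
    intro x y
    have h1 := b.sum_repr ((B x).toZModLinearMap 2)
    have h2 := LinearMap.congr_fun h1 y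
    simp only [LinearMap.sum_apply, LinearMap.smul_apply, smul_eq_mul] at h2
    rw [show B x y = (B x).toZModLinearMap 2 y from rfl, ← h2]
    refine Finset.sum_congr rfl (fun τ _ => ?_)
    have : b τ = autLin τ := by simp [b, autBasis]
    rw [this, autLin_apply]
    rfl
  choose s d hd using fun τ => add_repr (cf τ)
  refine ⟨Finset.univ, fun p => if p.1 ∈ s p.2 then d p.2 p.1 else 0, fun x y => ?_⟩
  rw [hB, ← Finset.univ_product_univ, Finset.sum_product_right]
  refine Finset.sum_congr rfl (fun τ _ => ?_)
  rw [hd τ x, Finset.sum_mul]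
  rw [← Finset.sum_subset (Finset.subset_univ (s τ))]
  · refine Finset.sum_congr rfl (fun σ hσ => ?_)
    simp only [hσ, if_true]
    ring
  · intro σ _ hσ
    simp only [hσ, if_false, zero_mul]
end

/-- For a finite field `F` of characteristic 2, the automorphisms of `F`, viewed as additive maps `F → F`, are linearly independent over `F` (acting on values) every additive endomorphism of `F` is an `F`-linear combination of them, and every biadditive map `F → F → F` is an `F`-combination of the maps `(x, y) ↦ σ(x) τ(y)`. -/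
theorem result {F : Type*} [Field F] [Fintype F] [CharP F 2] :
    LinearIndependent F (fun σ : F ≃+* F => ((σ : F →+* F) : F → F)) ∧
      (∀ f : F →+ F, ∃ (s : Finset (F ≃+* F)) (c : (F ≃+* F) → F), ∀ x : F, f x = ∑ σ ∈ s, c σ * σ x) ∧
      ∀ B : F →+ F →+ F, ∃ (s : Finset ((F ≃+* F) × (F ≃+* F))) (c : (F ≃+* F) × (F ≃+* F) → F),
        ∀ x y : F, B x y = ∑ p ∈ s, c p * (p.1 x * p.2 y) := by
  exact ⟨li_fun, add_repr, biadd_repr⟩

end Cfsg.Agent.S1140
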