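import Cfsg.Statements.S0276
import Cfsg.Agent.Lib.Helper13.PSL2

set_option autoImplicit false
open Cfsg

namespace Cfsg.Agent.S0276

open Matrix Cfsg.Agent.Lib.Helper13

/-- `q (q² - 1) = 8 * odd` for `q ≡ 3, 5 (mod 8)`. -/
theorem arith (q : ℕ) (hq : q % 8 = 3 ∨ q % 8 = 5) : ∃ u : ℕ, Odd u ∧ q * (q ^ 2 - 1) = 8 * u := by
  rcases hq with h | h
  · obtain ⟨m, rfl⟩ : ∃ m, q = 8 * m + 3 := ⟨q / 8, by omega⟩
    refine ⟨(8 * m + 3) * ((4 * m + 1) * (2 * m + 1)), ?_, ?_⟩
    · apply Odd.mul
      · exact ⟨4 * m + 1, by ring⟩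
      · apply Odd.mul
        · exact ⟨2 * m, by ring⟩
        · exact ⟨m, by ring⟩
    · have : (8 * m + 3) ^ 2 - 1 = (8 * m + 2) * (8 * m + 4) := by
        have : (8 * m + 3) ^ 2 = (8 * m + 2) * (8 * m + 4) + 1 := by ring
        omega
      rw [this]; ring
  · obtain ⟨m, rfl⟩ : ∃ m, q = 8 * m + 5 := ⟨q / 8, by omega⟩
    refine ⟨(8 * m + 5) * ((2 * m + 1) * (4 * m + 3)), ?_, ?_⟩
    · apply Odd.mul
      · exact ⟨4 * m + 2, by ring⟩
      · apply Odd.mul
        · exact ⟨m, by ring⟩
        · exact ⟨2 * m + 1, by ring⟩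
    · have : (8 * m + 5) ^ 2 - 1 = (8 * m + 4) * (8 * m + 6) := by
        have : (8 * m + 5) ^ 2 = (8 * m + 4) * (8 * m + 6) + 1 := by ring
        omega
      rw [this]; ring

/-- For q = 3 or 5 mod 8 the Sylow 2-subgroups of PSL_2(q) are elementary abelian of order 4. -/
theorem result {F : Type*} [Field F] [Fintype F] {q : ℕ} (hF : Fintype.card F = q) (hq : q % 8 = 3 ∨ q % 8 = 5) (P : Sylow 2 (Matrix.ProjectiveSpecialLinearGroup (Fin 2) F)) : IsKleinFour (P : Subgroup (Matrix.ProjectiveSpecialLinearGroup (Fin 2) F)) := by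
  subst hF
  have hqodd : Fintype.card F % 2 = 1 := by omega
  have hchar : ringChar F ≠ 2 := by
    intro h
    have := FiniteField.even_card_iff_char_two.mp h
    omega
  have h2 : (2 : F) ≠ 0 := Ring.two_ne_zero hchar
  have h2sq : ¬ IsSquare (2 : F) := by
    rw [FiniteField.isSquare_two_iff]
    omega
  have : Finite (ProjectiveSpecialLinearGroup (Fin 2) F) := by
    unfold ProjectiveSpecialLinearGroup
    infer_instance
  -- the order of P
  obtain ⟨u, hu, hN⟩ := arith (Fintype.card F) hq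
  have hcardG : Nat.card (ProjectiveSpecialLinearGroup (Fin 2) F) = 4 * u := by
    have := card_PSL2_mul_two (F := F) h2
    rw [hN] at this
    omega
  have hcardP : Nat.card (P : Subgroup (ProjectiveSpecialLinearGroup (Fin 2) F)) = 4 := by
    rw [Sylow.card_eq_multiplicity, hcardG]
    have hu0 : u ≠ 0 := by
      rintro rfl
      simp at hu
    have h4 : (4 : ℕ) = 2 ^ 2 := by norm_num
    rw [Nat.factorization_mul (by norm_num) hu0, h4, Nat.Prime.factorization_pow Nat.prime_two]
    have : u.factorization 2 = 0 := by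
      apply Nat.factorization_eq_zero_of_not_dvd
      rw [Nat.two_dvd_ne_zero]
      exact Nat.odd_iff.mp hu
    simp [this]
  have hsq : ∀ x : (P : Subgroup (ProjectiveSpecialLinearGroup (Fin 2) F)), x ^ 2 = 1 := by
    intro x
    have h4 : x ^ 4 = 1 := by
      rw [← hcardP]
      exact pow_card_eq_one'
    have h4' : (x : ProjectiveSpecialLinearGroup (Fin 2) F) ^ 4 = 1 := by
      have := congrArg Subtype.val h4
      simpa using this
    have := PSL2_sq_eq_one_of_pow_four h2sq _ h4'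
    apply Subtype.ext
    simpa using this
  refine ⟨hcardP, ?_⟩
  have hdvd : Monoid.exponent (P : Subgroup (ProjectiveSpecialLinearGroup (Fin 2) F)) ∣ 2 :=
    Monoid.exponent_dvd_of_forall_pow_eq_one hsq
  have hne1 : Monoid.exponent (P : Subgroup (ProjectiveSpecialLinearGroup (Fin 2) F)) ≠ 1 := by
    intro h1
    have hsub : Subsingleton (P : Subgroup (ProjectiveSpecialLinearGroup (Fin 2) F)) :=
      Monoid.exp_eq_one_iff.mp h1
    have : Nat.card (P : Subgroup (ProjectiveSpecialLinearGroup (Fin 2) F)) ≤ 1 :=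
      Finite.card_le_one_iff_subsingleton.mpr hsub
    omega
  rcases (Nat.dvd_prime Nat.prime_two).mp hdvd with h | h
  · exact absurd h hne1
  · exact h

end Cfsg.Agent.S0276
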