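import Cfsg.Statements.S0281
import Cfsg.Agent.Lib.Helper14.Unitary3
import Cfsg.Agent.Lib.Helper15.HermLines
import Cfsg.Agent.Lib.Helper15.FieldExt

set_option autoImplicit false
open Cfsg

namespace Cfsg.Agent.S0281

open Cfsg.Agent.Lib.Helper14 Cfsg.Agent.Lib.Helper15 Cfsg.Agent.Lib.Helper15.HermLines Matrix Finset

section setup

variable {F K : Type*} [Field F] [Fintype F] [Field K] [Fintype K] {q : ℕ}

/-- explicit formula for the Hermitian form on images under `2 × 2` matrices -/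
lemma herm_mulVec (hF : Fintype.card F = q ^ 2) (M N : Matrix (Fin 2) (Fin 2) F) (u v : Fin 2 → F) :
    Cfsg.hermForm 2 F q (M *ᵥ u) (N *ᵥ v) =
      (M 0 0 * u 0 + M 0 1 * u 1) * (N 0 0 ^ q * v 0 ^ q + N 0 1 ^ q * v 1 ^ q) +
      (M 1 0 * u 0 + M 1 1 * u 1) * (N 1 0 ^ q * v 0 ^ q + N 1 1 ^ q * v 1 ^ q) := by
  classical
  unfold Cfsg.hermForm
  simp only [Fin.sum_univ_two, Matrix.mulVec, dotProduct, herm_add_pow hF, mul_pow]

lemma herm_two (u v : Fin 2 → F) :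
    Cfsg.hermForm 2 F q u v = u 0 * v 0 ^ q + u 1 * v 1 ^ q := by
  unfold Cfsg.hermForm
  simp only [Fin.sum_univ_two]

/-- the image of the small field is the set of Frobenius-fixed elements -/
lemma fixed_mem_range (hF : Fintype.card F = q ^ 2) (hK : Fintype.card K = q) (ι : K →+* F)
    (x : F) (hx : x ^ q = x) : ∃ c : K, ι c = x := by
  classical
  have hsub : Finset.univ.image ι ⊆ univ.filter (fun c : F => c ^ q = c) := by
    intro y hy
    obtain ⟨c, -, rfl⟩ := Finset.mem_image.mp hy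
    simp only [mem_filter, mem_univ, true_and]
    rw [← map_pow, ← hK, FiniteField.pow_card]
  have hcard : (univ.filter (fun c : F => c ^ q = c)).card ≤ (Finset.univ.image ι).card := by
    rw [Finset.card_image_of_injective _ ι.injective, Finset.card_univ, hK]
    have := card_fixed hF
    convert this.le
  have heq := Finset.eq_of_subset_of_card_le hsub hcard
  have hx' : x ∈ univ.filter (fun c : F => c ^ q = c) := by simp [hx]
  rw [← heq] at hx'
  obtain ⟨c, -, hc⟩ := Finset.mem_image.mp hx'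
  exact ⟨c, hc⟩

/-- an isotropic basis with Gram matrix `ε J` -/
lemma exists_basis (hF : Fintype.card F = q ^ 2) :
    ∃ (P : Matrix (Fin 2) (Fin 2) F) (ε : F), ε ≠ 0 ∧ P.det ≠ 0 ∧
      P 0 0 * P 0 0 ^ q + P 1 0 * P 1 0 ^ q = 0 ∧
      P 0 0 * P 0 1 ^ q + P 1 0 * P 1 1 ^ q = ε ∧
      P 0 1 * P 0 0 ^ q + P 1 1 * P 1 0 ^ q = -ε ∧
      P 0 1 * P 0 1 ^ q + P 1 1 * P 1 1 ^ q = 0 := by
  classical
  have hq := herm_two_le hF
  have hq0 : q ≠ 0 := by omega
  -- ε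
  have h1 := traceFiber_eq hF (0 : F) (zero_pow hq0)
  obtain ⟨ε, hε, hε0⟩ := Finset.exists_mem_ne (s := univ.filter (fun b : F => b + b ^ q = 0))
    (by rw [h1]; omega) 0
  simp only [mem_filter, mem_univ, true_and] at hε
  -- λ₁ ≠ λ₂
  have hm1 : (-1 : F) ∈ fixStar F q := by
    rw [mem_fixStar]
    refine ⟨by simp, ?_⟩
    rw [herm_neg_pow hF, one_pow]
  have h2 := normFiber_of_mem hF (-1) hm1
  unfold normFiber at h2
  obtain ⟨l₁, hl₁, l₂, hl₂, hne⟩ := Finset.one_lt_card.mp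
    (show 1 < (univ.filter (fun w : F => w * w ^ q = -1)).card by rw [h2]; omega)
  simp only [mem_filter, mem_univ, true_and] at hl₁ hl₂
  set c : F := 1 + l₁ * l₂ ^ q with hc
  have hl₂0 : l₂ ^ q ≠ 0 := by
    intro h
    rw [h, mul_zero] at hl₂
    exact absurd hl₂ (by simp)
  have hc0 : c ≠ 0 := by
    intro h
    apply hne
    have : l₁ * l₂ ^ q = l₂ * l₂ ^ q := by
      rw [hl₂]
      linear_combination h
    exact mul_right_cancel₀ hl₂0 this
  have hcq : c ^ q = 1 + l₁ ^ q * l₂ := by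
    rw [hc, herm_add_pow hF, one_pow, mul_pow, ← pow_mul, ← pow_two, herm_pow_card hF]
  set s : F := (ε / c) ^ q with hs
  have hsq : s ^ q = ε / c := by
    rw [hs, ← pow_mul, ← pow_two, herm_pow_card hF]
  have hεq : ε ^ q = -ε := by linear_combination hε
  have hsc : s * c ^ q = -ε := by
    rw [hs, ← mul_pow, div_mul_cancel₀ _ hc0, hεq]
  have hs0 : s ≠ 0 := by
    intro h
    rw [h, zero_mul] at hsc
    exact hε0 (by linear_combination hsc)
  refine ⟨Matrix.of ![![1, s], ![l₁, s * l₂]], ε, hε0, ?_, ?_, ?_, ?_, ?_⟩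
  · rw [Matrix.det_fin_two]
    simp only [Matrix.of_apply, Matrix.cons_val_zero, Matrix.cons_val_one, Matrix.cons_val',
      Matrix.cons_val_fin_one]
    intro h
    have : s * (l₂ - l₁) = 0 := by linear_combination h
    rcases mul_eq_zero.mp this with h | h
    · exact hs0 h
    · exact hne (sub_eq_zero.mp h).symm
  · simp only [Matrix.of_apply, Matrix.cons_val_zero, Matrix.cons_val_one, Matrix.cons_val',
      Matrix.cons_val_fin_one]
    rw [one_pow]
    linear_combination hl₁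
  · simp only [Matrix.of_apply, Matrix.cons_val_zero, Matrix.cons_val_one, Matrix.cons_val',
      Matrix.cons_val_fin_one]
    rw [mul_pow, hsq]
    field_simp
    rw [hc]
  · simp only [Matrix.of_apply, Matrix.cons_val_zero, Matrix.cons_val_one, Matrix.cons_val',
      Matrix.cons_val_fin_one]
    rw [one_pow]
    rw [hcq] at hsc
    linear_combination hsc
  · simp only [Matrix.of_apply, Matrix.cons_val_zero, Matrix.cons_val_one, Matrix.cons_val',
      Matrix.cons_val_fin_one]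
    rw [mul_pow]
    linear_combination (s * s ^ q) * hl₂

end setup

section main

variable {F K : Type*} [Field F] [Fintype F] [Field K] [Fintype K] {q : ℕ}

/-- the twisted alternating form -/
def GG (q : ℕ) (x y : Fin 2 → F) : F := x 0 * y 1 ^ q - x 1 * y 0 ^ q

lemma herm_P (hF : Fintype.card F = q ^ 2) (P : Matrix (Fin 2) (Fin 2) F) (ε : F)
    (h00 : P 0 0 * P 0 0 ^ q + P 1 0 * P 1 0 ^ q = 0)
    (h01 : P 0 0 * P 0 1 ^ q + P 1 0 * P 1 1 ^ q = ε)
    (h10 : P 0 1 * P 0 0 ^ q + P 1 1 * P 1 0 ^ q = -ε)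
    (h11 : P 0 1 * P 0 1 ^ q + P 1 1 * P 1 1 ^ q = 0) (x y : Fin 2 → F) :
    Cfsg.hermForm 2 F q (P *ᵥ x) (P *ᵥ y) = ε * GG q x y := by
  rw [herm_mulVec hF]
  unfold GG
  linear_combination (x 0 * y 0 ^ q) * h00 + (x 0 * y 1 ^ q) * h01 + (x 1 * y 0 ^ q) * h10 +
    (x 1 * y 1 ^ q) * h11

lemma GG_mulVec (hF : Fintype.card F = q ^ 2) (A : Matrix (Fin 2) (Fin 2) F)
    (hfix : ∀ i j, A i j ^ q = A i j) (hdet : A.det = 1) (x y : Fin 2 → F) :
    GG q (A *ᵥ x) (A *ᵥ y) = GG q x y := by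
  classical
  rw [Matrix.det_fin_two] at hdet
  unfold GG
  simp only [Matrix.mulVec, dotProduct, Fin.sum_univ_two, herm_add_pow hF, mul_pow, hfix]
  linear_combination (x 0 * y 1 ^ q - x 1 * y 0 ^ q) * hdet

/-- conjugation by `P` of the base change -/
noncomputable def Phi (ι : K →+* F) (P : Matrix (Fin 2) (Fin 2) F) (hP : IsUnit P.det) :
    Matrix.SpecialLinearGroup (Fin 2) K →* Matrix.SpecialLinearGroup (Fin 2) F where
  toFun h := ⟨P * (ι.mapMatrix h.1) * P⁻¹, by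
    rw [Matrix.det_conj ((Matrix.isUnit_iff_isUnit_det P).mpr hP), ← RingHom.map_det, h.2, map_one]⟩
  map_one' := by
    apply Subtype.ext
    simp [Matrix.mul_nonsing_inv _ hP]
  map_mul' a b := by
    apply Subtype.ext
    show P * (ι.mapMatrix (a.1 * b.1)) * P⁻¹ =
      (P * ι.mapMatrix a.1 * P⁻¹) * (P * ι.mapMatrix b.1 * P⁻¹)
    rw [map_mul]
    calc P * (ι.mapMatrix a.1 * ι.mapMatrix b.1) * P⁻¹
        = P * ι.mapMatrix a.1 * (1 * (ι.mapMatrix b.1 * P⁻¹)) := by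
          rw [Matrix.one_mul]; simp only [Matrix.mul_assoc]
      _ = P * ι.mapMatrix a.1 * (P⁻¹ * P * (ι.mapMatrix b.1 * P⁻¹)) := by
          rw [Matrix.nonsing_inv_mul _ hP]
      _ = (P * ι.mapMatrix a.1 * P⁻¹) * (P * ι.mapMatrix b.1 * P⁻¹) := by
          simp only [Matrix.mul_assoc]

lemma Phi_coe (ι : K →+* F) (P : Matrix (Fin 2) (Fin 2) F) (hP : IsUnit P.det)
    (h : Matrix.SpecialLinearGroup (Fin 2) K) :
    ((Phi ι P hP h : Matrix.SpecialLinearGroup (Fin 2) F) : Matrix (Fin 2) (Fin 2) F) =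
      P * (ι.mapMatrix h.1) * P⁻¹ := rfl

lemma slToMat_coe (g : Matrix.SpecialLinearGroup (Fin 2) F) :
    Cfsg.slToMat 2 F g = (g : Matrix (Fin 2) (Fin 2) F) := rfl

lemma Phi_mem (hF : Fintype.card F = q ^ 2) (hK : Fintype.card K = q) (ι : K →+* F)
    (P : Matrix (Fin 2) (Fin 2) F) (hP : IsUnit P.det) (ε : F)
    (h00 : P 0 0 * P 0 0 ^ q + P 1 0 * P 1 0 ^ q = 0)
    (h01 : P 0 0 * P 0 1 ^ q + P 1 0 * P 1 1 ^ q = ε)
    (h10 : P 0 1 * P 0 0 ^ q + P 1 1 * P 1 0 ^ q = -ε)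
    (h11 : P 0 1 * P 0 1 ^ q + P 1 1 * P 1 1 ^ q = 0)
    (h : Matrix.SpecialLinearGroup (Fin 2) K) : Phi ι P hP h ∈ Cfsg.SU 2 F q := by
  intro u v
  rw [slToMat_coe, Phi_coe]
  have hu : u = P *ᵥ (P⁻¹ *ᵥ u) := by
    rw [Matrix.mulVec_mulVec, Matrix.mul_nonsing_inv _ hP, Matrix.one_mulVec]
  have hv : v = P *ᵥ (P⁻¹ *ᵥ v) := by
    rw [Matrix.mulVec_mulVec, Matrix.mul_nonsing_inv _ hP, Matrix.one_mulVec]
  have key : ∀ w : Fin 2 → F, (P * (ι.mapMatrix h.1) * P⁻¹) *ᵥ w =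
      P *ᵥ ((ι.mapMatrix h.1) *ᵥ (P⁻¹ *ᵥ w)) := by
    intro w
    simp only [Matrix.mulVec_mulVec, Matrix.mul_assoc]
  rw [key u, key v, herm_P hF P ε h00 h01 h10 h11, GG_mulVec hF, ← herm_P hF P ε h00 h01 h10 h11,
    ← hu, ← hv]
  · intro i j
    rw [RingHom.mapMatrix_apply, Matrix.map_apply, ← map_pow, ← hK, FiniteField.pow_card]
  · rw [← RingHom.map_det, h.2, map_one]

lemma conj_cancel (P A : Matrix (Fin 2) (Fin 2) F) (hP : IsUnit P.det) :
    P⁻¹ * (P * A * P⁻¹) * P = A := by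
  calc P⁻¹ * (P * A * P⁻¹) * P = (P⁻¹ * P) * A * (P⁻¹ * P) := by simp only [Matrix.mul_assoc]
    _ = A := by rw [Matrix.nonsing_inv_mul _ hP, Matrix.one_mul, Matrix.mul_one]

lemma conj_cancel' (P A : Matrix (Fin 2) (Fin 2) F) (hP : IsUnit P.det) :
    P * (P⁻¹ * A * P) * P⁻¹ = A := by
  calc P * (P⁻¹ * A * P) * P⁻¹ = (P * P⁻¹) * A * (P * P⁻¹) := by simp only [Matrix.mul_assoc]
    _ = A := by rw [Matrix.mul_nonsing_inv _ hP, Matrix.one_mul, Matrix.mul_one]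

lemma Phi_injective (ι : K →+* F) (P : Matrix (Fin 2) (Fin 2) F) (hP : IsUnit P.det) :
    Function.Injective (Phi ι P hP) := by
  intro a b hab
  have h1 : P * ι.mapMatrix a.1 * P⁻¹ = P * ι.mapMatrix b.1 * P⁻¹ := congrArg Subtype.val hab
  have h2 : ι.mapMatrix a.1 = ι.mapMatrix b.1 := by
    rw [← conj_cancel P (ι.mapMatrix a.1) hP, h1, conj_cancel P _ hP]
  apply Subtype.ext
  ext i j
  have := congrFun (congrFun h2 i) j
  simp only [RingHom.mapMatrix_apply, Matrix.map_apply] at this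
  exact ι.injective this

lemma Phi_surj (hF : Fintype.card F = q ^ 2) (hK : Fintype.card K = q) (ι : K →+* F)
    (P : Matrix (Fin 2) (Fin 2) F) (hP : IsUnit P.det) (ε : F) (hε0 : ε ≠ 0)
    (h00 : P 0 0 * P 0 0 ^ q + P 1 0 * P 1 0 ^ q = 0)
    (h01 : P 0 0 * P 0 1 ^ q + P 1 0 * P 1 1 ^ q = ε)
    (h10 : P 0 1 * P 0 0 ^ q + P 1 1 * P 1 0 ^ q = -ε)
    (h11 : P 0 1 * P 0 1 ^ q + P 1 1 * P 1 1 ^ q = 0)
    (g : Matrix.SpecialLinearGroup (Fin 2) F) (hg : g ∈ Cfsg.SU 2 F q) :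
    ∃ h, Phi ι P hP h = g := by
  classical
  set m : Matrix (Fin 2) (Fin 2) F := P⁻¹ * g.1 * P with hm
  have hdetm : m.det = 1 := by
    rw [hm, Matrix.det_conj' ((Matrix.isUnit_iff_isUnit_det P).mpr hP), g.2]
  have hGG : ∀ x y, GG q (m *ᵥ x) (m *ᵥ y) = GG q x y := by
    intro x y
    apply mul_left_cancel₀ hε0
    rw [← herm_P hF P ε h00 h01 h10 h11, ← herm_P hF P ε h00 h01 h10 h11]
    have key : ∀ w, P *ᵥ (m *ᵥ w) = g.1 *ᵥ (P *ᵥ w) := by
      intro w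
      rw [Matrix.mulVec_mulVec, Matrix.mulVec_mulVec, hm]
      congr 1
      rw [← Matrix.mul_assoc, ← Matrix.mul_assoc, Matrix.mul_nonsing_inv _ hP, Matrix.one_mul]
    rw [key, key]
    exact hg (P *ᵥ x) (P *ᵥ y)
  have E1 := hGG ![1, 0] ![1, 0]
  have E2 := hGG ![1, 0] ![0, 1]
  have E3 := hGG ![0, 1] ![1, 0]
  have E4 := hGG ![0, 1] ![0, 1]
  have hq0 : q ≠ 0 := by have := herm_two_le hF; omega
  simp only [GG, Matrix.mulVec, dotProduct, Fin.sum_univ_two, Matrix.cons_val_zero,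
    Matrix.cons_val_one, mul_one, mul_zero, add_zero, zero_add, one_pow, zero_pow hq0,
    sub_zero, zero_sub] at E1 E2 E3 E4
  have D := hdetm
  rw [Matrix.det_fin_two] at D
  have ha : m 0 0 ^ q = m 0 0 := by linear_combination (-(m 0 0 ^ q)) * D - m 0 0 * E3 + m 0 1 * E1
  have hc : m 1 0 ^ q = m 1 0 := by linear_combination (-(m 1 0 ^ q)) * D + m 1 1 * E1 - m 1 0 * E3
  have hd : m 1 1 ^ q = m 1 1 := by linear_combination (-(m 1 1 ^ q)) * D + m 1 1 * E2 - m 1 0 * E4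
  have hb : m 0 1 ^ q = m 0 1 := by linear_combination (-(m 0 1 ^ q)) * D - m 0 0 * E4 + m 0 1 * E2
  obtain ⟨a', ha'⟩ := fixed_mem_range hF hK ι _ ha
  obtain ⟨b', hb'⟩ := fixed_mem_range hF hK ι _ hb
  obtain ⟨c', hc'⟩ := fixed_mem_range hF hK ι _ hc
  obtain ⟨d', hd'⟩ := fixed_mem_range hF hK ι _ hd
  have hmap : ι.mapMatrix (Matrix.of ![![a', b'], ![c', d']]) = m := by
    ext i j
    rw [RingHom.mapMatrix_apply, Matrix.map_apply]
    fin_cases i <;> fin_cases j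
    · exact ha'
    · exact hb'
    · exact hc'
    · exact hd'
  have hdet' : (Matrix.of ![![a', b'], ![c', d']]).det = 1 := by
    apply ι.injective
    rw [RingHom.map_det, hmap, hdetm, map_one]
  refine ⟨⟨Matrix.of ![![a', b'], ![c', d']], hdet'⟩, ?_⟩
  apply Subtype.ext
  show P * ι.mapMatrix (Matrix.of ![![a', b'], ![c', d']]) * P⁻¹ = g.1
  rw [hmap, hm, conj_cancel' P _ hP]

end main

/-- SU_2(q) is isomorphic to SL_2(q). -/
theorem result {F K : Type*} [Field F] [Fintype F] [Field K] [Fintype K] {q : ℕ} (hF : Fintype.card F = q ^ 2) (hK : Fintype.card K = q) : Nonempty (Cfsg.SU 2 F q ≃* Matrix.SpecialLinearGroup (Fin 2) K) := by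
  obtain ⟨ι⟩ := exists_ringHom_of_card_sq (F := K) (K := F) (by rw [hF, hK])
  obtain ⟨P, ε, hε0, hdet, h00, h01, h10, h11⟩ := exists_basis hF
  have hP : IsUnit P.det := isUnit_iff_ne_zero.mpr hdet
  let Φ : Matrix.SpecialLinearGroup (Fin 2) K →* Cfsg.SU 2 F q :=
    (Phi ι P hP).codRestrict (Cfsg.SU 2 F q) (Phi_mem hF hK ι P hP ε h00 h01 h10 h11)
  have hinj : Function.Injective Φ := by
    intro a b hab
    apply Phi_injective ι P hP
    exact congrArg Subtype.val hab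
  have hsurj : Function.Surjective Φ := by
    rintro ⟨g, hg⟩
    obtain ⟨h, hh⟩ := Phi_surj hF hK ι P hP ε hε0 h00 h01 h10 h11 g hg
    exact ⟨h, Subtype.ext hh⟩
  exact ⟨(MulEquiv.ofBijective Φ ⟨hinj, hsurj⟩).symm⟩

end Cfsg.Agent.S0281
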