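import Cfsg.Statements.S0519
import Mathlib
import Cfsg.Agent.Lib.Helper20.CyclicSelfCent
import Cfsg.Agent.Lib.Helper1.MaxNormalAbelian

set_option autoImplicit false
open Cfsg

namespace Cfsg.Agent.S0519

/-- Let P be a finite p-group in which every abelian normal subgroup is cyclic, but which has a non-cyclic abelian
subgroup. Then p = 2 and P is generalized quaternion, dihedral of order at least 16, or quasi-dihedral. -/
theorem result {P : Type*} [Group P] [Finite P] (p : ℕ) [Fact p.Prime]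
    (hP : IsPGroup p P) (hn : ∀ A : Subgroup P, A.Normal → IsMulCommutative A → IsCyclic A)
    (hm : ∃ B : Subgroup P, IsMulCommutative B ∧ ¬ IsCyclic B) :
    p = 2 ∧ ((∃ n : ℕ, Nonempty (P ≃* QuaternionGroup n)) ∨ (∃ n : ℕ, 8 ≤ n ∧ Nonempty (P ≃* DihedralGroup n)) ∨
      Cfsg.IsQuasiDihedral P) := by
  classical
  obtain ⟨B, hBab, hBnc⟩ := hm
  have hpp : p.Prime := Fact.out
  -- P is not abelian
  have hna : ¬ IsMulCommutative P := by
    intro hab
    have htop : IsMulCommutative (⊤ : Subgroup P) :=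
      ⟨⟨fun a b => Subtype.ext (mul_comm' (a : P) b)⟩⟩
    haveI := hn ⊤ inferInstance htop
    exact hBnc (Subgroup.isCyclic_of_le (le_top : B ≤ ⊤))
  -- a maximal normal abelian subgroup
  obtain ⟨U, hUmax⟩ := (Set.toFinite {A : Subgroup P | A.Normal ∧ IsMulCommutative A}).exists_maximal
    ⟨⊥, inferInstance, inferInstance⟩
  haveI hUn : U.Normal := hUmax.prop.1
  have hUab : IsMulCommutative U := hUmax.prop.2
  have hCU : Subgroup.centralizer (U : Set P) = U :=
    Cfsg.Agent.Lib.Helper1.centralizer_eq_of_max_normal_abelian hP U hUab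
      (fun A hAn hAc hle => le_antisymm (hUmax.le_of_ge ⟨hAn, hAc⟩ hle) hle)
  have hUcyc : IsCyclic U := hn U hUn hUab
  obtain ⟨k, hk⟩ := IsPGroup.iff_card.mp (hP.to_subgroup U)
  rcases Cfsg.Agent.Lib.Helper20.CSC.main hP hna U hUcyc k hk hCU with
    ⟨hp2, hcard, hD | hQ | hQD⟩ | ⟨-, ⟨hEc, hEexp⟩, hEcard, hEchar⟩
  · -- dihedral
    refine ⟨hp2, Or.inr (Or.inl ?_)⟩
    obtain ⟨m, ⟨e⟩⟩ := hD
    refine ⟨m, ?_, ⟨e⟩⟩
    have hm2 : Nat.card P = 2 * m := by
      rw [Nat.card_congr e.toEquiv, DihedralGroup.nat_card]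
    -- |P| ≥ 16
    by_contra hlt
    have hk2 : k ≤ 2 := by
      by_contra hk3
      have : 2 ^ 4 ≤ 2 ^ (k + 1) := Nat.pow_le_pow_right (by norm_num) (by omega)
      omega
    -- B has index 2 hence is normal
    have hP8 : Nat.card P ≤ 8 := by
      rw [hcard]
      calc 2 ^ (k + 1) ≤ 2 ^ 3 := Nat.pow_le_pow_right (by norm_num) (by omega)
        _ = 8 := by norm_num
    subst hp2
    obtain ⟨j, hj⟩ := IsPGroup.iff_card.mp (hP.to_subgroup B)
    have hBdvd : Nat.card B ∣ Nat.card P := Subgroup.card_subgroup_dvd_card B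
    have hBne : B ≠ ⊤ := by
      rintro rfl
      apply hna
      exact ⟨⟨fun a b => congrArg Subtype.val
        (mul_comm' (⟨a, Subgroup.mem_top a⟩ : (⊤ : Subgroup P)) ⟨b, Subgroup.mem_top b⟩)⟩⟩
    have hj2 : 2 ≤ j := by
      by_contra hlt2
      apply hBnc
      have hj01 : j = 0 ∨ j = 1 := by omega
      rcases hj01 with rfl | rfl
      · rw [pow_zero] at hj
        haveI : Subsingleton B := (Nat.card_eq_one_iff_unique.mp hj).1
        exact isCyclic_of_subsingleton
      · rw [pow_one] at hj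
        exact isCyclic_of_prime_card hj
    have hBidx : B.index = 2 := by
      have h1 := Subgroup.card_mul_index B
      have hidx1 : B.index ≠ 1 := fun h => hBne (Subgroup.index_eq_one.mp h)
      have hidx0 : B.index ≠ 0 := Subgroup.index_ne_zero_of_finite
      have h4 : 2 ^ 2 ≤ Nat.card B := by rw [hj]; exact Nat.pow_le_pow_right (by norm_num) hj2
      have h5 : Nat.card B * B.index ≤ 8 := by rw [h1]; exact hP8
      by_contra hne2
      have h6 : 3 ≤ B.index := by omega
      nlinarith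
    haveI := Subgroup.normal_of_index_eq_two hBidx
    exact hBnc (hn B inferInstance hBab)
  · exact ⟨hp2, Or.inl hQ⟩
  · exact ⟨hp2, Or.inr (Or.inr hQD)⟩
  · exfalso
    -- E is a characteristic noncyclic abelian subgroup
    set E := Cfsg.omegaOne p (Subgroup.centralizer (Cfsg.powerClosure p 1 U : Set P)) with hE
    have hEn : E.Normal := inferInstance
    have hEcyc := hn E hEn hEc
    obtain ⟨g, hg⟩ := Cfsg.Agent.Lib.Helper20.CSC.exists_generator_of_isCyclic E hEcyc
    have h1 : Nat.card E = orderOf g := by rw [hg, Nat.card_zpowers]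
    have hgE : g ∈ E := by rw [hg]; exact Subgroup.mem_zpowers g
    have h2 := orderOf_le_of_pow_eq_one hpp.pos (hEexp g hgE)
    rw [hEcard] at h1
    have h3 : p < p ^ 2 := by
      calc p = p ^ 1 := (pow_one p).symm
        _ < p ^ 2 := Nat.pow_lt_pow_right hpp.one_lt (by norm_num)
    omega

end Cfsg.Agent.S0519
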