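import Cfsg.Statements.S3707
import Cfsg.Agent.Lib.Helper19.Marggraf

set_option autoImplicit false
open Cfsg

namespace Cfsg.Agent.S3707

/-- Let G be a finite primitive permutation group on Ω of degree n and Γ ⊂ Ω a subset with 1 < #Γ ≤ n/2 such that the pointwise stabilizer of Ω ∖ Γ is transitive on Γ. Then G is 3-transitive on Ω. -/
theorem result {G Ω : Type*} [Group G] [Finite G] [MulAction G Ω] [FaithfulSMul G Ω] [Finite Ω] (hprim : MulAction.IsPreprimitive G Ω) (Γ : Set Ω) (h1 : 1 < Γ.ncard) (h2 : 2 * Γ.ncard ≤ Nat.card Ω) (htr : ∀ x ∈ Γ, ∀ y ∈ Γ, ∃ g : G, (∀ z ∉ Γ, g • z = z) ∧ g • x = y) : MulAction.IsMultiplyPretransitive G Ω 3 := by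
  classical
  have hpt := hprim.toIsPretransitive
  have hN := Set.ncard_add_ncard_compl Γ
  -- the complement of Γ is J-closed
  have hJC : Cfsg.Agent.Lib.Helper19.Marggraf.JC G Γᶜ := by
    intro x hx y hy
    have hx' : x ∈ Γ := by simpa using hx
    have hy' : y ∈ Γ := by simpa using hy
    obtain ⟨g, hg, hgx⟩ := htr x hx' y hy'
    exact ⟨g, fun z hz => hg z hz, hgx⟩
  -- 2-transitivity (Jordan)
  have hJtr : MulAction.IsPretransitive (fixingSubgroup G Γᶜ)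
      (SubMulAction.ofFixingSubgroup G Γᶜ) := by
    refine ⟨fun x y => ?_⟩
    have hx : (x : Ω) ∉ Γᶜ := x.2
    have hy : (y : Ω) ∉ Γᶜ := y.2
    obtain ⟨g, hg, hgx⟩ := hJC x hx y hy
    exact ⟨⟨g, (mem_fixingSubgroup_iff G).2 hg⟩, Subtype.ext hgx⟩
  have h2t : MulAction.IsMultiplyPretransitive G Ω 2 := by
    apply hprim.is_two_pretransitive (s := Γᶜ) (n := Γᶜ.ncard - 1) _ _ hJtr
    · omega
    · omega
  have h2' : ∀ a b c d : Ω, a ≠ b → c ≠ d → ∃ g : G, g • a = c ∧ g • b = d :=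
    fun a b c d hab hcd => MulAction.is_two_pretransitive_iff.1 h2t hab hcd
  obtain ⟨a₀, b₀, hab₀, hJ₀⟩ := Cfsg.Agent.Lib.Helper19.Marggraf.exists_pair_JC hprim h2' Γᶜ hJC
    (by rw [compl_compl]; exact h1) (by rw [compl_compl]; exact h2)
  have hpair : ∀ a b : Ω, a ≠ b → Cfsg.Agent.Lib.Helper19.Marggraf.JC G ({a, b} : Set Ω) := by
    intro a b hab
    obtain ⟨g, hga, hgb⟩ := h2' a₀ b₀ a b hab₀ hab
    have := hJ₀.smul g
    rwa [Set.smul_set_insert, Set.smul_set_singleton, hga, hgb] at this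
  obtain ⟨a, -⟩ : ∃ a, a ∈ Γ := by
    have : Γ.Nonempty := by
      rw [← Set.ncard_pos (Set.toFinite Γ)]; omega
    exact this
  rw [SubMulAction.ofStabilizer.isMultiplyPretransitive (a := a)]
  rw [MulAction.is_two_pretransitive_iff]
  intro b c d e hbc hde
  have hb : (b : Ω) ≠ a := b.2
  have hc : (c : Ω) ≠ a := c.2
  have hd : (d : Ω) ≠ a := d.2
  have he : (e : Ω) ≠ a := e.2
  have hbc' : (b : Ω) ≠ c := fun h => hbc (Subtype.ext h)
  have hde' : (d : Ω) ≠ e := fun h => hde (Subtype.ext h)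
  obtain ⟨g₁, hg₁a, hg₁b⟩ := h2' a b a d hb.symm hd.symm
  have hc'a : g₁ • (c : Ω) ≠ a := by
    intro h
    exact hc (smul_left_cancel g₁ (h.trans hg₁a.symm))
  have hc'd : g₁ • (c : Ω) ≠ d := by
    intro h
    exact hbc' (smul_left_cancel g₁ (h.trans hg₁b.symm)).symm
  obtain ⟨g₂, hg₂, hg₂c⟩ := hpair a d hd.symm (g₁ • (c : Ω))
    (by simp [hc'a, hc'd]) (e : Ω) (by simp [he, hde'.symm])
  have hg₂a : g₂ • a = a := hg₂ a (by simp)
  have hg₂d : g₂ • (d : Ω) = d := hg₂ d (by simp)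
  refine ⟨⟨g₂ * g₁, ?_⟩, ?_, ?_⟩
  · rw [MulAction.mem_stabilizer_iff, mul_smul, hg₁a, hg₂a]
  · apply Subtype.ext
    show (g₂ * g₁) • (b : Ω) = d
    rw [mul_smul, hg₁b, hg₂d]
  · apply Subtype.ext
    show (g₂ * g₁) • (c : Ω) = e
    rw [mul_smul, hg₂c]

end Cfsg.Agent.S3707
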