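import Cfsg.Statements.S2565
-- import your own Cfsg.Agent.* helpers here
import Cfsg.Agent.Lib.Helper14.OrthPlus
import Cfsg.Agent.Lib.Helper15.IsometryTransport

set_option autoImplicit false
open Cfsg

namespace Cfsg.Agent.S2565


open Matrix

abbrev I6 := Fin 3 ⊕ Fin 3
abbrev V8 := Fin 8 → ZMod 2

def XX : Fin 3 → Fin 8 → ZMod 2 :=
  ![![1,1,1,1,0,0,0,0], ![1,0,0,1,1,1,0,0], ![0,0,1,1,1,0,1,0]]
def YY : Fin 3 → Fin 8 → ZMod 2 :=
  ![![1,1,1,0,1,0,0,0], ![0,1,0,1,1,1,0,0], ![1,1,0,0,0,1,1,0]]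

def PiM : Matrix I6 (Fin 8) (ZMod 2) :=
  Matrix.of fun r j => Sum.elim (fun i => YY i j) (fun i => XX i j) r
def SM : Matrix (Fin 8) I6 (ZMod 2) :=
  Matrix.of fun j r => Sum.elim (fun i => XX i j) (fun i => YY i j) r

set_option maxRecDepth 100000 in
theorem PiM_SM : PiM * SM = 1 := by decide

set_option maxRecDepth 100000 in
theorem PiM_one : PiM *ᵥ (1 : V8) = 0 := by decide

set_option maxRecDepth 100000 in
theorem SM_even : ∀ u : I6 → ZMod 2, ∑ i, (SM *ᵥ u) i = 0 := by decide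

set_option maxRecDepth 1000000 in
theorem SM_PiM : ∀ w : V8, ∑ i, w i = 0 →
    (SM *ᵥ (PiM *ᵥ w) = w ∨ SM *ᵥ (PiM *ᵥ w) = w + 1) := by decide

set_option maxRecDepth 1000000 in
theorem Q_PiM : ∀ w : V8, ∑ i, w i = 0 →
    Cfsg.quadFormPlus 3 (ZMod 2) (PiM *ᵥ w) =
      (((Finset.univ.filter (fun i => w i = 1)).card / 2 : ℕ) : ZMod 2) := by decide

theorem add_self_z2 : ∀ a : ZMod 2, a + a = 0 := by decide

theorem add_self_v8 (w : V8) : w + w = 0 := by
  funext i
  exact add_self_z2 (w i)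

set_option maxRecDepth 100000 in
theorem exists_other : ∀ a b c d : Fin 8, ∃ l, l ≠ a ∧ l ≠ b ∧ l ≠ c ∧ l ≠ d := by decide

def PM (σ : Equiv.Perm (Fin 8)) : Matrix (Fin 8) (Fin 8) (ZMod 2) := (σ⁻¹).permMatrix (ZMod 2)

theorem PM_mulVec (σ : Equiv.Perm (Fin 8)) (w : V8) : PM σ *ᵥ w = w ∘ ⇑σ⁻¹ := by
  show (σ⁻¹).permMatrix (ZMod 2) *ᵥ w = _
  exact Matrix.permMatrix_mulVec _

theorem PM_mul (σ τ : Equiv.Perm (Fin 8)) : PM (σ * τ) = PM σ * PM τ := by
  unfold PM
  rw [_root_.mul_inv_rev, Matrix.permMatrix_mul]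

theorem PM_one : PM 1 = 1 := by
  unfold PM
  rw [inv_one, Matrix.permMatrix_one]

theorem ev_PM (σ : Equiv.Perm (Fin 8)) (w : V8) (h : ∑ i, w i = 0) :
    ∑ i, (PM σ *ᵥ w) i = 0 := by
  rw [PM_mulVec]
  simp only [Function.comp]
  rw [Equiv.sum_comp (σ⁻¹) w]
  exact h

theorem PM_one_vec (σ : Equiv.Perm (Fin 8)) : PM σ *ᵥ (1 : V8) = 1 := by
  rw [PM_mulVec]
  rfl

theorem wt_PM (σ : Equiv.Perm (Fin 8)) (w : V8) :
    (Finset.univ.filter (fun i => (PM σ *ᵥ w) i = 1)).card =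
      (Finset.univ.filter (fun i => w i = 1)).card := by
  rw [PM_mulVec]
  apply Finset.card_bij (fun i _ => σ⁻¹ i)
  · intro i hi
    simpa using hi
  · intro i _ j _ h
    exact (σ⁻¹).injective h
  · intro j hj
    refine ⟨σ j, ?_, by simp⟩
    simpa using hj

def MM (σ : Equiv.Perm (Fin 8)) : Matrix I6 I6 (ZMod 2) := PiM * PM σ * SM

theorem MM_mulVec (σ : Equiv.Perm (Fin 8)) (u : I6 → ZMod 2) :
    MM σ *ᵥ u = PiM *ᵥ (PM σ *ᵥ (SM *ᵥ u)) := by
  simp only [MM, Matrix.mulVec_mulVec, Matrix.mul_assoc]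

theorem key (σ : Equiv.Perm (Fin 8)) (w : V8) (h : ∑ i, w i = 0) :
    PiM *ᵥ (PM σ *ᵥ (SM *ᵥ (PiM *ᵥ w))) = PiM *ᵥ (PM σ *ᵥ w) := by
  rcases SM_PiM w h with h1 | h1
  · rw [h1]
  · rw [h1, Matrix.mulVec_add, Matrix.mulVec_add, PM_one_vec, PiM_one, add_zero]

theorem mat_ext {A B : Matrix I6 I6 (ZMod 2)} (h : ∀ v, A *ᵥ v = B *ᵥ v) : A = B := by
  apply Matrix.toLin'.injective
  apply LinearMap.ext
  intro v
  rw [Matrix.toLin'_apply, Matrix.toLin'_apply, h]

theorem MM_one : MM 1 = 1 := by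
  unfold MM
  rw [PM_one, Matrix.mul_one, PiM_SM]

theorem MM_mul (σ τ : Equiv.Perm (Fin 8)) : MM (σ * τ) = MM σ * MM τ := by
  apply mat_ext
  intro u
  rw [← Matrix.mulVec_mulVec, MM_mulVec, MM_mulVec, MM_mulVec,
    key σ _ (ev_PM τ _ (SM_even u)), PM_mul, Matrix.mulVec_mulVec (SM *ᵥ u) (PM σ) (PM τ)]

theorem MM_iso (σ : Equiv.Perm (Fin 8)) (u : I6 → ZMod 2) :
    Cfsg.quadFormPlus 3 (ZMod 2) (MM σ *ᵥ u) = Cfsg.quadFormPlus 3 (ZMod 2) u := by
  rw [MM_mulVec, Q_PiM _ (ev_PM σ _ (SM_even u)), wt_PM, ← Q_PiM _ (SM_even u),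
    Matrix.mulVec_mulVec, PiM_SM, Matrix.one_mulVec]

theorem MM_inj (σ : Equiv.Perm (Fin 8)) (h : MM σ = 1) : σ = 1 := by
  have h1 : ∀ w : V8, ∑ i, w i = 0 → PiM *ᵥ (PM σ *ᵥ w) = PiM *ᵥ w := by
    intro w hw
    rw [← key σ w hw, ← MM_mulVec, h, Matrix.one_mulVec]
  have h2 : ∀ w : V8, ∑ i, w i = 0 → PM σ *ᵥ w = w ∨ PM σ *ᵥ w = w + 1 := by
    intro w hw
    obtain ⟨d, hd⟩ : ∃ d : V8, d = PM σ *ᵥ w + w := ⟨_, rfl⟩
    have hdw : PM σ *ᵥ w = d + w := by
      rw [hd, add_assoc, add_self_v8, add_zero]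
    have hev : ∑ i, d i = 0 := by
      rw [hd]
      simp only [Pi.add_apply]
      rw [Finset.sum_add_distrib, ev_PM σ w hw, hw, add_zero]
    have hpd : PiM *ᵥ d = 0 := by
      rw [hd, Matrix.mulVec_add, h1 w hw]
      funext i
      exact add_self_z2 _
    rcases SM_PiM d hev with h3 | h3
    · left
      rw [hpd, Matrix.mulVec_zero] at h3
      rw [hdw, ← h3, zero_add]
    · right
      rw [hpd, Matrix.mulVec_zero] at h3
      have : d = 1 := by
        have := congrArg (fun x => x + (1 : V8)) h3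
        simp only [zero_add, add_assoc, add_self_v8, add_zero] at this
        exact this.symm
      rw [hdw, this, add_comm]
  have h3 : ∀ i j : Fin 8, i ≠ j → σ i = i ∨ σ i = j := by
    intro i j hij
    obtain ⟨w, hw⟩ : ∃ w : V8, w = Pi.single i 1 + Pi.single j 1 := ⟨_, rfl⟩
    have hwv : ∀ l, w l = if l = i ∨ l = j then 1 else 0 := by
      intro l
      rw [hw, Pi.add_apply, Pi.single_apply, Pi.single_apply]
      by_cases h1 : l = i
      · have : l ≠ j := fun h => hij (h1.symm.trans h)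
        simp [h1, hij]
      · by_cases h2 : l = j
        · simp [h2, hij.symm]
        · simp [h1, h2]
    have hev : ∑ l, w l = 0 := by
      rw [hw]
      simp only [Pi.add_apply]
      rw [Finset.sum_add_distrib, Finset.sum_pi_single', Finset.sum_pi_single']
      simp only [Finset.mem_univ, if_true]
      exact add_self_z2 1
    rcases h2 w hev with h4 | h4
    · have := congrFun h4 (σ i)
      rw [PM_mulVec, Function.comp_apply, Equiv.Perm.inv_def, Equiv.symm_apply_apply, hwv i,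
        hwv (σ i)] at this
      simp only [true_or, if_true] at this
      by_contra hcon
      push Not at hcon
      rw [if_neg (by rw [not_or]; exact hcon)] at this
      exact one_ne_zero this
    · exfalso
      obtain ⟨l, hl1, hl2, hl3, hl4⟩ := exists_other i j (σ i) (σ j)
      have hn : ¬ (σ⁻¹ l = i ∨ σ⁻¹ l = j) := by
        rw [not_or]
        constructor
        · intro h
          apply hl3
          rw [← h, Equiv.Perm.inv_def, Equiv.apply_symm_apply]
        · intro h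
          apply hl4
          rw [← h, Equiv.Perm.inv_def, Equiv.apply_symm_apply]
      have e1 : w (σ⁻¹ l) = 0 := by rw [hwv, if_neg hn]
      have e2 : w l = 0 := by rw [hwv, if_neg (not_or.mpr ⟨hl1, hl2⟩)]
      have := congrFun h4 l
      rw [PM_mulVec, Function.comp_apply, Pi.add_apply, e1, e2, Pi.one_apply, zero_add] at this
      exact zero_ne_one this
  ext i
  obtain ⟨j, hj1, hj2, -, -⟩ := exists_other i i i i
  obtain ⟨j', hj'1, hj'2, -, -⟩ := exists_other i j i i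
  rcases h3 i j hj1.symm with h | h
  · rw [h]; rfl
  · rcases h3 i j' hj'1.symm with h' | h'
    · rw [h']; rfl
    · exfalso
      apply hj'2
      rw [← h, ← h']

abbrev O6 := ↥(Cfsg.isometryGroup (ZMod 2) (Cfsg.quadFormPlus 3 (ZMod 2)))

/-- the permutation hom into matrices -/
def phi0 : Equiv.Perm (Fin 8) →* Matrix I6 I6 (ZMod 2) where
  toFun := MM
  map_one' := MM_one
  map_mul' := MM_mul

theorem phi_mem (σ : Equiv.Perm (Fin 8)) :
    phi0.toHomUnits σ ∈ Cfsg.isometryGroup (ZMod 2) (Cfsg.quadFormPlus 3 (ZMod 2)) := by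
  rw [Cfsg.Agent.Lib.Helper15.mem_isometryGroup_iff]
  intro u
  exact MM_iso σ u

def phi : Equiv.Perm (Fin 8) →* O6 := phi0.toHomUnits.codRestrict _ phi_mem

theorem phi_injective : Function.Injective phi := by
  rw [injective_iff_map_eq_one]
  intro σ h
  apply MM_inj
  have := congrArg (fun x : O6 => ((x : Matrix.GeneralLinearGroup I6 (ZMod 2)) : Matrix I6 I6 (ZMod 2))) h
  exact this

theorem card_O6 : Nat.card O6 = 40320 := by
  have := Cfsg.Agent.Lib.Helper14.card_isometry_plus (F := ZMod 2) 2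
  rw [this]
  simp [ZMod.card, Finset.prod_range_succ]

theorem phi_bijective : Function.Bijective phi := by
  have : Finite O6 := Nat.finite_of_card_ne_zero (by rw [card_O6]; norm_num)
  rw [Nat.bijective_iff_injective_and_card]
  refine ⟨phi_injective, ?_⟩
  rw [card_O6, Nat.card_perm, Nat.card_eq_fintype_card, Fintype.card_fin]
  rfl

/-- The commutator subgroup of the full orthogonal group of the plus-type form Σ xᵢyᵢ in dimension 6 over the field of two elements (the group Ω⁺₆(2), of index 2) is isomorphic to the alternating group of degree 8. -/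
theorem result :
    (Cfsg.Omega (ZMod 2) (Cfsg.quadFormPlus 3 (ZMod 2))).index = 2 ∧
    Nonempty (↥(Cfsg.Omega (ZMod 2) (Cfsg.quadFormPlus 3 (ZMod 2))) ≃* alternatingGroup (Fin 8)) := by
  classical
  obtain ⟨e, he⟩ : ∃ e : Equiv.Perm (Fin 8) ≃* O6, (e : Equiv.Perm (Fin 8) →* O6) = phi :=
    ⟨MulEquiv.ofBijective phi phi_bijective, rfl⟩
  have hcomm : Cfsg.Omega (ZMod 2) (Cfsg.quadFormPlus 3 (ZMod 2)) =
      (alternatingGroup (Fin 8)).map (e : Equiv.Perm (Fin 8) →* O6) := by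
    rw [← alternatingGroup.commutator_perm_eq (by simp)]
    show commutator O6 = _
    rw [commutator_def, commutator_def, Subgroup.map_commutator, ← MonoidHom.range_eq_map,
      MonoidHom.range_eq_top.mpr e.surjective]
  constructor
  · rw [hcomm, Subgroup.index_map_equiv]
    exact alternatingGroup.index_eq_two
  · rw [hcomm]
    exact ⟨(MulEquiv.subgroupMap e (alternatingGroup (Fin 8))).symm⟩

end Cfsg.Agent.S2565
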