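import Cfsg.Statements.S0825
-- import your own Cfsg.Agent.* helpers here
import Cfsg.Agent.S2565

set_option autoImplicit false
open Cfsg

namespace Cfsg.Agent.S0825

open Matrix Cfsg.Agent.S2565

/-- O⁺_6(2) ≅ S_8: the isometry group of the hyperbolic form x_1y_1 + x_2y_2 + x_3y_3 over the field with 2 elements is isomorphic to the symmetric group on 8 letters. -/
theorem result {F : Type*} [Field F] [Fintype F] (hF : Fintype.card F = 2) : Nonempty (↥(Cfsg.isometryGroup F (Cfsg.quadFormPlus 3 F)) ≃* Equiv.Perm (Fin 8)) := by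
  classical
  have : Fact (Nat.Prime 2) := ⟨Nat.prime_two⟩
  have : CharP F 2 := charP_of_card_eq_prime hF
  obtain ⟨f, -⟩ : ∃ f : ZMod 2 →+* F, True := ⟨ZMod.castHom (dvd_refl 2) F, trivial⟩
  have hfbij : Function.Bijective f := by
    rw [Fintype.bijective_iff_injective_and_card]
    exact ⟨f.injective, by rw [hF, ZMod.card]⟩
  obtain ⟨ψ₀, hψ₀⟩ : ∃ ψ₀ : Equiv.Perm (Fin 8) →* Matrix I6 I6 F, ∀ σ, ψ₀ σ = (MM σ).map f :=
    ⟨(f.mapMatrix : Matrix I6 I6 (ZMod 2) →+* Matrix I6 I6 F).toMonoidHom.comp phi0, fun σ => rfl⟩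
  have hQ : ∀ w : I6 → ZMod 2, Cfsg.quadFormPlus 3 F (f ∘ w) = f (Cfsg.quadFormPlus 3 (ZMod 2) w) := by
    intro w
    simp only [Cfsg.quadFormPlus, map_sum, map_mul, Function.comp_apply]
  have hmem : ∀ σ, ψ₀.toHomUnits σ ∈ Cfsg.isometryGroup F (Cfsg.quadFormPlus 3 F) := by
    intro σ
    rw [Cfsg.Agent.Lib.Helper15.mem_isometryGroup_iff]
    intro u
    obtain ⟨u₀, rfl⟩ : ∃ u₀ : I6 → ZMod 2, f ∘ u₀ = u :=
      ⟨fun i => (Equiv.ofBijective f hfbij).symm (u i), by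
        funext i
        exact (Equiv.ofBijective f hfbij).apply_symm_apply (u i)⟩
    have h1 : ((ψ₀.toHomUnits σ : Matrix.GeneralLinearGroup I6 F) : Matrix I6 I6 F) = (MM σ).map f :=
      hψ₀ σ
    rw [h1]
    have h2 : (MM σ).map f *ᵥ (f ∘ u₀) = f ∘ (MM σ *ᵥ u₀) := by
      funext i
      exact (RingHom.map_mulVec f (MM σ) u₀ i).symm
    rw [h2, hQ, hQ, MM_iso]
  obtain ⟨ψ, hψ⟩ : ∃ ψ : Equiv.Perm (Fin 8) →* ↥(Cfsg.isometryGroup F (Cfsg.quadFormPlus 3 F)),
      ∀ σ, (((ψ σ : ↥(Cfsg.isometryGroup F (Cfsg.quadFormPlus 3 F))) :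
        Matrix.GeneralLinearGroup I6 F) : Matrix I6 I6 F) = (MM σ).map f :=
    ⟨ψ₀.toHomUnits.codRestrict _ hmem, fun σ => hψ₀ σ⟩
  have hinj : Function.Injective ψ := by
    rw [injective_iff_map_eq_one]
    intro σ h
    apply MM_inj
    have h1 := hψ σ
    rw [h] at h1
    apply Matrix.map_injective f.injective
    show (MM σ).map f = (1 : Matrix I6 I6 (ZMod 2)).map f
    rw [← h1, Matrix.map_one _ (map_zero f) (map_one f)]
    rfl
  have hcard : Nat.card ↥(Cfsg.isometryGroup F (Cfsg.quadFormPlus 3 F)) = 40320 := by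
    rw [Cfsg.Agent.Lib.Helper14.card_isometry_plus 2, hF]
    simp [Finset.prod_range_succ]
  have hfin : Finite ↥(Cfsg.isometryGroup F (Cfsg.quadFormPlus 3 F)) :=
    Nat.finite_of_card_ne_zero (by rw [hcard]; norm_num)
  have hbij : Function.Bijective ψ := by
    rw [Nat.bijective_iff_injective_and_card]
    refine ⟨hinj, ?_⟩
    rw [hcard, Nat.card_perm, Nat.card_eq_fintype_card, Fintype.card_fin]
    rfl
  exact ⟨(MulEquiv.ofBijective ψ hbij).symm⟩

end Cfsg.Agent.S0825
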