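import Cfsg.Statements.S2739
-- import your own Cfsg.Agent.* helpers here

set_option autoImplicit false
open scoped Pointwise
open Cfsg

namespace Cfsg.Agent.S2739


open Matrix Polynomial

section F4
variable {F : Type*} [Field F] [Fintype F]

theorem two_eq_zero (hF : Fintype.card F = 4) : (2 : F) = 0 := by
  have h4 : (4 : F) = 0 := by
    have := card_nsmul_eq_zero (G := F) (x := (1 : F))
    rw [hF] at this
    simpa using this
  have : (2 : F) * 2 = 0 := by rw [← h4]; norm_num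
  exact mul_self_eq_zero.mp this

theorem cube_eq_one (hF : Fintype.card F = 4) (a : F) (ha : a ≠ 0) : a ^ 3 = 1 := by
  have := FiniteField.pow_card_sub_one_eq_one a ha
  rwa [hF] at this

theorem exists_omega (hF : Fintype.card F = 4) : ∃ ω : F, ω ^ 2 + ω + 1 = 0 := by
  classical
  obtain ⟨a, ha⟩ : ∃ a : F, a ∉ ({0, 1} : Finset F) := by
    by_contra hcon
    push Not at hcon
    have : (Finset.univ : Finset F) ⊆ {0, 1} := fun a _ => hcon a
    have h1 := Finset.card_le_card this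
    rw [Finset.card_univ, hF] at h1
    have h2 : ({0, 1} : Finset F).card ≤ 2 := Finset.card_insert_le _ _
    omega
  rw [Finset.mem_insert, Finset.mem_singleton, not_or] at ha
  refine ⟨a, ?_⟩
  have h3 := cube_eq_one hF a ha.1
  have h4 : (a - 1) * (a ^ 2 + a + 1) = 0 := by linear_combination h3
  rcases mul_eq_zero.mp h4 with h | h
  · exact absurd (sub_eq_zero.mp h) ha.2
  · exact h

theorem smul_one_eq_zero {a : F} (h : a • (1 : Matrix (Fin 3) (Fin 3) F) = 0) : a = 0 := by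
  have := congrFun (congrFun h 0) 0
  simpa using this

theorem indep_one (M : Matrix (Fin 3) (Fin 3) F)
    (hns : ∀ a : F, M ≠ a • (1 : Matrix (Fin 3) (Fin 3) F)) (a b : F)
    (h : a • M = b • (1 : Matrix (Fin 3) (Fin 3) F)) : a = 0 ∧ b = 0 := by
  by_cases ha : a = 0
  · refine ⟨ha, ?_⟩
    rw [ha, zero_smul] at h
    exact smul_one_eq_zero h.symm
  · exfalso
    apply hns (a⁻¹ * b)
    have := congrArg (fun X => a⁻¹ • X) h
    simp only [smul_smul, inv_mul_cancel₀ ha, one_smul] at this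
    exact this

theorem charpoly_eq (hF : Fintype.card F = 4) (M : Matrix (Fin 3) (Fin 3) F) (hdet : M.det = 1)
    (lam : F) (hlam0 : lam ≠ 0) (hM : M ^ 3 = lam • (1 : Matrix (Fin 3) (Fin 3) F))
    (hns : ∀ a : F, M ≠ a • (1 : Matrix (Fin 3) (Fin 3) F)) :
    lam = 1 ∧ M.charpoly = X ^ 3 + 1 := by
  have h2 := two_eq_zero hF
  have hneg : ∀ x : F, -x = x := by intro x; linear_combination (-x) * h2
  have hmonic : M.charpoly.Monic := Matrix.charpoly_monic M
  have hdeg : M.charpoly.natDegree = 3 := by rw [Matrix.charpoly_natDegree_eq_dim]; simp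
  have hc0 : M.charpoly.coeff 0 = 1 := by
    have := Matrix.det_eq_sign_charpoly_coeff M
    rw [hdet] at this
    simp only [Fintype.card_fin] at this
    have h3 : ((-1 : F)) ^ 3 = 1 := by rw [hneg 1, one_pow]
    rw [h3, one_mul] at this
    exact this.symm
  have hc3 : M.charpoly.coeff 3 = 1 := by
    have := hmonic.coeff_natDegree
    rwa [hdeg] at this
  obtain ⟨c₂, hc₂⟩ : ∃ c₂, c₂ = M.charpoly.coeff 2 := ⟨_, rfl⟩
  obtain ⟨c₁, hc₁⟩ : ∃ c₁, c₁ = M.charpoly.coeff 1 := ⟨_, rfl⟩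
  have hsum : M.charpoly = X ^ 3 + C c₂ * X ^ 2 + C c₁ * X + 1 := by
    rw [M.charpoly.as_sum_range' 4 (by omega)]
    simp only [Finset.sum_range_succ, Finset.range_zero, Finset.sum_empty, zero_add, hc0, hc3,
      ← hc₂, ← hc₁, monomial_zero_left, ← C_mul_X_pow_eq_monomial, pow_one, pow_zero, mul_one, C_1,
      one_mul]
    ring
  have hCH := Matrix.aeval_self_charpoly M
  rw [hsum] at hCH
  simp only [map_add, map_mul, map_pow, aeval_X, aeval_C, map_one, Algebra.algebraMap_eq_smul_one,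
    smul_mul_assoc, one_mul] at hCH
  rw [hM] at hCH
  -- hCH : lam • 1 + c₂ • M ^ 2 + c₁ • M + 1 = 0
  by_cases hc2z : c₂ = 0
  · rw [hc2z, zero_smul, add_zero] at hCH
    have h1 : c₁ • M = (lam + 1) • (1 : Matrix (Fin 3) (Fin 3) F) := by
      have : c₁ • M = -((lam + 1) • (1 : Matrix (Fin 3) (Fin 3) F)) := by
        rw [eq_neg_iff_add_eq_zero, ← hCH, add_smul, one_smul]; abel
      rw [this, ← neg_smul, hneg]
    obtain ⟨h3, h4⟩ := indep_one M hns _ _ h1
    have hlam : lam = 1 := by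
      have : lam = -1 := eq_neg_of_add_eq_zero_left h4
      rw [this, hneg]
    refine ⟨hlam, ?_⟩
    rw [hsum, hc2z, h3]; simp
  · exfalso
    obtain ⟨α, hα⟩ : ∃ α, α = c₂⁻¹ * c₁ := ⟨_, rfl⟩
    obtain ⟨β, hβ⟩ : ∃ β, β = c₂⁻¹ * (lam + 1) := ⟨_, rfl⟩
    have hsq : M ^ 2 = α • M + β • (1 : Matrix (Fin 3) (Fin 3) F) := by
      have h1 : c₂ • M ^ 2 = c₁ • M + (lam + 1) • (1 : Matrix (Fin 3) (Fin 3) F) := by
        have : c₂ • M ^ 2 = -(c₁ • M + (lam + 1) • (1 : Matrix (Fin 3) (Fin 3) F)) := by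
          rw [eq_neg_iff_add_eq_zero, ← hCH, add_smul, one_smul]; abel
        rw [this, neg_add, ← neg_smul, ← neg_smul, hneg, hneg]
      have := congrArg (fun X => c₂⁻¹ • X) h1
      simp only [smul_smul, inv_mul_cancel₀ hc2z, one_smul, smul_add] at this
      rw [hα, hβ]; exact this
    have hcube : M ^ 3 = (α ^ 2 + β) • M + (α * β) • (1 : Matrix (Fin 3) (Fin 3) F) := by
      have : M ^ 3 = M * M ^ 2 := by rw [pow_succ']
      rw [this, hsq, mul_add, mul_smul_comm, mul_smul_comm, mul_one, ← sq, hsq]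
      module
    rw [hM] at hcube
    have h5 : (α ^ 2 + β) • M = (lam - α * β) • (1 : Matrix (Fin 3) (Fin 3) F) := by
      rw [sub_smul, hcube]; abel
    obtain ⟨h6, h7⟩ := indep_one M hns _ _ h5
    have hβ' : β = α ^ 2 := by
      have : β = -(α ^ 2) := eq_neg_of_add_eq_zero_right h6
      rw [this, hneg]
    have hlam : lam = α ^ 3 := by
      have := sub_eq_zero.mp h7
      rw [this, hβ']; ring
    have hα0 : α ≠ 0 := by
      intro h0; rw [h0] at hlam; simp at hlam; exact hlam0 hlam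
    have hlam1 : lam = 1 := by rw [hlam]; exact cube_eq_one hF α hα0
    have hβ0 : β = 0 := by
      rw [hβ, hlam1]
      have : (1 : F) + 1 = 0 := by linear_combination h2
      rw [this, mul_zero]
    rw [hβ0] at hβ'
    exact hα0 (pow_eq_zero_iff (by norm_num) |>.mp hβ'.symm)

theorem exists_eigvec (hF : Fintype.card F = 4) (M : Matrix (Fin 3) (Fin 3) F)
    (hcp : M.charpoly = X ^ 3 + 1) (μ : F) (hμ : μ ^ 3 = 1) :
    ∃ v : Fin 3 → F, v ≠ 0 ∧ M *ᵥ v = μ • v := by
  have h2 := two_eq_zero hF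
  have hev : M.charpoly.eval μ = 0 := by
    rw [hcp]
    simp only [eval_add, eval_pow, eval_X, eval_one, hμ]
    linear_combination h2
  rw [Matrix.eval_charpoly] at hev
  obtain ⟨v, hv0, hv⟩ := Matrix.exists_mulVec_eq_zero_iff.mpr hev
  refine ⟨v, hv0, ?_⟩
  rw [Matrix.sub_mulVec, sub_eq_zero] at hv
  rw [← hv]
  ext i
  simp [Matrix.scalar_apply, Matrix.mulVec_diagonal]

theorem omega_facts (hF : Fintype.card F = 4) (ω : F) (hω : ω ^ 2 + ω + 1 = 0) :
    ω ^ 3 = 1 ∧ ω ≠ 1 ∧ ω ^ 2 ≠ 1 ∧ ω ^ 2 ≠ ω := by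
  have h2 := two_eq_zero hF
  have h3 : ω ^ 3 = 1 := by linear_combination (ω - 1) * hω
  have h1 : ω ≠ 1 := by
    intro h
    rw [h] at hω
    have : (1 : F) = 0 := by linear_combination hω - h2
    exact one_ne_zero this
  have h0 : ω ≠ 0 := by
    intro h
    rw [h] at h3
    simp at h3
  refine ⟨h3, h1, ?_, ?_⟩
  · intro h
    apply h1
    have : ω * ω ^ 2 = 1 := by linear_combination h3
    rw [h, mul_one] at this
    exact this
  · intro h
    apply h1
    have : ω * (ω - 1) = 0 := by linear_combination h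
    rcases mul_eq_zero.mp this with h' | h'
    · exact absurd h' h0
    · exact sub_eq_zero.mp h'

theorem eig_inj (hF : Fintype.card F = 4) (ω : F) (hω : ω ^ 2 + ω + 1 = 0) :
    Function.Injective (![1, ω, ω ^ 2] : Fin 3 → F) := by
  obtain ⟨h3, h1, h21, h2ω⟩ := omega_facts hF ω hω
  intro i j hij
  fin_cases i <;> fin_cases j
  · rfl
  · exact absurd (show (1 : F) = ω from hij).symm h1
  · exact absurd (show (1 : F) = ω ^ 2 from hij).symm h21
  · exact absurd (show ω = 1 from hij) h1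
  · rfl
  · exact absurd (show ω = ω ^ 2 from hij).symm h2ω
  · exact absurd (show ω ^ 2 = 1 from hij) h21
  · exact absurd (show ω ^ 2 = ω from hij) h2ω
  · rfl

theorem exists_diag (hF : Fintype.card F = 4) (ω : F) (hω : ω ^ 2 + ω + 1 = 0)
    (M : Matrix (Fin 3) (Fin 3) F) (hcp : M.charpoly = X ^ 3 + 1) :
    ∃ P : Matrix (Fin 3) (Fin 3) F, P.det = 1 ∧ M * P = P * Matrix.diagonal ![1, ω, ω ^ 2] := by
  obtain ⟨h3, h1, h21, h2ω⟩ := omega_facts hF ω hω
  have hμ3 : ∀ i : Fin 3, (![1, ω, ω ^ 2] : Fin 3 → F) i ^ 3 = 1 := by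
    intro i
    fin_cases i
    · simp
    · simpa using h3
    · simp only [Fin.reduceFinMk, Matrix.cons_val]
      rw [← pow_mul]
      have : 2 * 3 = 3 * 2 := by norm_num
      rw [this, pow_mul, h3, one_pow]
  choose v hv0 hv using fun i : Fin 3 => exists_eigvec hF M hcp _ (hμ3 i)
  have hli : LinearIndependent F v := by
    apply Module.End.eigenvectors_linearIndependent' (Matrix.toLin' M) _ (eig_inj hF ω hω) v
    intro i
    rw [Module.End.hasEigenvector_iff, Module.End.mem_eigenspace_iff]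
    exact ⟨by rw [Matrix.toLin'_apply]; exact hv i, hv0 i⟩
  obtain ⟨P, hP⟩ : ∃ P : Matrix (Fin 3) (Fin 3) F, P = Matrix.of (fun i j => v j i) := ⟨_, rfl⟩
  have hcol : P.col = v := by
    ext j i
    rw [hP]; rfl
  have hPu : IsUnit P := by
    rw [← Matrix.linearIndependent_cols_iff_isUnit, hcol]
    exact hli
  have hdet : IsUnit P.det := (Matrix.isUnit_iff_isUnit_det P).mp hPu
  have hdet0 : P.det ≠ 0 := hdet.ne_zero
  have hMP : M * P = P * Matrix.diagonal ![1, ω, ω ^ 2] := by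
    ext i j
    rw [Matrix.mul_diagonal, Matrix.mul_apply]
    have := congrFun (hv j) i
    rw [Matrix.mulVec, dotProduct] at this
    rw [hP]
    simp only [Matrix.of_apply]
    rw [this, Pi.smul_apply, smul_eq_mul, mul_comm]
  refine ⟨P * Matrix.diagonal ![(P.det)⁻¹, 1, 1], ?_, ?_⟩
  · rw [Matrix.det_mul, Matrix.det_diagonal, Fin.prod_univ_three]
    simp [mul_inv_cancel₀ hdet0]
  · rw [← mul_assoc, hMP, mul_assoc, mul_assoc, Matrix.diagonal_mul_diagonal,
      Matrix.diagonal_mul_diagonal]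
    congr 2
    ext i
    rw [mul_comm]

theorem conj_to_diag (hF : Fintype.card F = 4) (ω : F) (hω : ω ^ 2 + ω + 1 = 0)
    (d₀ : Matrix.SpecialLinearGroup (Fin 3) F)
    (hd₀ : (d₀ : Matrix (Fin 3) (Fin 3) F) = Matrix.diagonal ![1, ω, ω ^ 2])
    (s : Matrix.SpecialLinearGroup (Fin 3) F)
    (hs3 : s ^ 3 ∈ Subgroup.center (Matrix.SpecialLinearGroup (Fin 3) F))
    (hsc : s ∉ Subgroup.center (Matrix.SpecialLinearGroup (Fin 3) F)) :
    ∃ g : Matrix.SpecialLinearGroup (Fin 3) F, s = g * d₀ * g⁻¹ := by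
  classical
  rw [Matrix.SpecialLinearGroup.mem_center_iff] at hs3
  obtain ⟨r, hr3, hr⟩ := hs3
  have hr0 : r ≠ 0 := by
    intro h
    rw [h] at hr3
    simp at hr3
  have hM3 : (s : Matrix (Fin 3) (Fin 3) F) ^ 3 = r • (1 : Matrix (Fin 3) (Fin 3) F) := by
    rw [← Matrix.SpecialLinearGroup.coe_pow, ← hr, Matrix.smul_one_eq_diagonal]
    rfl
  have hns : ∀ a : F, (s : Matrix (Fin 3) (Fin 3) F) ≠ a • (1 : Matrix (Fin 3) (Fin 3) F) := by
    intro a ha
    apply hsc
    rw [Matrix.SpecialLinearGroup.mem_center_iff]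
    refine ⟨a, ?_, ?_⟩
    · have := s.det_coe
      rw [ha, Matrix.det_smul, Matrix.det_one, mul_one] at this
      exact this
    · rw [ha, Matrix.smul_one_eq_diagonal]
      rfl
  obtain ⟨_, hcp⟩ := charpoly_eq hF _ s.det_coe r hr0 hM3 hns
  obtain ⟨P, hPdet, hMP⟩ := exists_diag hF ω hω _ hcp
  obtain ⟨g, hgP⟩ : ∃ g : Matrix.SpecialLinearGroup (Fin 3) F,
      (g : Matrix (Fin 3) (Fin 3) F) = P := ⟨⟨P, hPdet⟩, rfl⟩
  refine ⟨g, ?_⟩
  have : s * g = g * d₀ := by
    apply Subtype.ext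
    rw [Matrix.SpecialLinearGroup.coe_mul, Matrix.SpecialLinearGroup.coe_mul, hd₀, hgP]
    exact hMP
  rw [← this]
  group

end F4

/-- In the projective special linear group PSL(3, 4) all subgroups of order 3 are conjugate. -/
theorem result (F : Type*) [Field F] [Fintype F] (hF : Fintype.card F = 4) (X Y : Subgroup (Matrix.ProjectiveSpecialLinearGroup (Fin 3) F)) (hX : Nat.card ↥X = 3) (hY : Nat.card ↥Y = 3) : ∃ g : Matrix.ProjectiveSpecialLinearGroup (Fin 3) F, MulAut.conj g • X = Y := by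
  classical
  obtain ⟨ω, hω⟩ := exists_omega hF
  obtain ⟨h3, -⟩ := omega_facts hF ω hω
  have hdet : (Matrix.diagonal ![1, ω, ω ^ 2] : Matrix (Fin 3) (Fin 3) F).det = 1 := by
    rw [Matrix.det_diagonal, Fin.prod_univ_three]
    simp only [Matrix.cons_val_zero, Matrix.cons_val_one, Matrix.cons_val]
    linear_combination h3
  obtain ⟨d₀, hd₀⟩ : ∃ d₀ : Matrix.SpecialLinearGroup (Fin 3) F,
      (d₀ : Matrix (Fin 3) (Fin 3) F) = Matrix.diagonal ![1, ω, ω ^ 2] := ⟨⟨_, hdet⟩, rfl⟩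
  have key : ∀ Z : Subgroup (Matrix.ProjectiveSpecialLinearGroup (Fin 3) F), Nat.card Z = 3 →
      ∃ k : Matrix.ProjectiveSpecialLinearGroup (Fin 3) F,
        Z = Subgroup.zpowers (k * (QuotientGroup.mk d₀ : Matrix.ProjectiveSpecialLinearGroup (Fin 3) F) * k⁻¹) := by
    intro Z hZ
    have : Fact (Nat.Prime 3) := ⟨by norm_num⟩
    have : Finite Z := Nat.finite_of_card_ne_zero (by omega)
    obtain ⟨z, hz1⟩ : ∃ z : Z, z ≠ 1 := by
      by_contra hcon
      push Not at hcon
      have : Nat.card Z ≤ 1 := by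
        rw [Finite.card_le_one_iff_subsingleton]
        exact ⟨fun a b => by rw [hcon a, hcon b]⟩
      omega
    have htop := zpowers_eq_top_of_prime_card hZ hz1
    have hZeq : Z = Subgroup.zpowers (z : Matrix.ProjectiveSpecialLinearGroup (Fin 3) F) := by
      have := congrArg (Subgroup.map Z.subtype) htop
      rw [MonoidHom.map_zpowers, ← MonoidHom.range_eq_map, Subgroup.range_subtype] at this
      exact this.symm
    have hz3 : (z : Matrix.ProjectiveSpecialLinearGroup (Fin 3) F) ^ 3 = 1 := by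
      have : z ^ 3 = 1 := by
        have h := pow_card_eq_one' (G := Z) (x := z)
        rwa [hZ] at h
      have := congrArg Subtype.val this
      simpa using this
    obtain ⟨s, hs⟩ := QuotientGroup.mk_surjective (z : Matrix.ProjectiveSpecialLinearGroup (Fin 3) F)
    have hs3 : s ^ 3 ∈ Subgroup.center (Matrix.SpecialLinearGroup (Fin 3) F) := by
      rw [← QuotientGroup.eq_one_iff, QuotientGroup.mk_pow, hs]
      exact hz3
    have hsc : s ∉ Subgroup.center (Matrix.SpecialLinearGroup (Fin 3) F) := by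
      intro h
      rw [← QuotientGroup.eq_one_iff, hs] at h
      exact hz1 (Subtype.ext h)
    obtain ⟨g, hg⟩ := conj_to_diag hF ω hω d₀ hd₀ s hs3 hsc
    refine ⟨QuotientGroup.mk g, ?_⟩
    rw [hZeq, ← hs, hg]
    rfl
  obtain ⟨k₁, hX'⟩ := key X hX
  obtain ⟨k₂, hY'⟩ := key Y hY
  refine ⟨k₂ * k₁⁻¹, ?_⟩
  have hsm : ∀ (k : Matrix.ProjectiveSpecialLinearGroup (Fin 3) F)
      (S : Subgroup (Matrix.ProjectiveSpecialLinearGroup (Fin 3) F)),
      MulAut.conj k • S = Subgroup.map (MulAut.conj k).toMonoidHom S := fun k S => rfl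
  rw [hX', hY', hsm, MonoidHom.map_zpowers]
  congr 1
  simp only [MulEquiv.coe_toMonoidHom, MulAut.conj_apply]
  group

end Cfsg.Agent.S2739
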