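import Cfsg.Statements.S0819
-- import your own Cfsg.Agent.* helpers here
import Cfsg.Agent.S2739

set_option autoImplicit false
open Cfsg

namespace Cfsg.Agent.S0819

open Matrix

section F4
variable {F : Type*} [Field F] [Fintype F]

omit [Fintype F] in
theorem diag_of_commute (A : Matrix (Fin 3) (Fin 3) F) (d : Fin 3 → F) (hd : Function.Injective d)
    (h : A * Matrix.diagonal d = Matrix.diagonal d * A) :
    A = Matrix.diagonal (fun i => A i i) := by
  ext i j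
  by_cases hij : i = j
  · subst hij
    simp
  · rw [Matrix.diagonal_apply_ne _ hij]
    have h1 := congrFun (congrFun h i) j
    rw [Matrix.mul_diagonal, Matrix.diagonal_mul] at h1
    have h2 : A i j * (d j - d i) = 0 := by linear_combination h1
    rcases mul_eq_zero.mp h2 with h3 | h3
    · exact h3
    · exact absurd (hd (sub_eq_zero.mp h3)).symm hij

theorem cube_of_commute (hF : Fintype.card F = 4) (ω : F) (hω : ω ^ 2 + ω + 1 = 0)
    (d₀ a : Matrix.SpecialLinearGroup (Fin 3) F)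
    (hd₀ : (d₀ : Matrix (Fin 3) (Fin 3) F) = Matrix.diagonal ![1, ω, ω ^ 2])
    (h : a * d₀ = d₀ * a) : a ^ 3 = 1 := by
  have h1 : (a : Matrix (Fin 3) (Fin 3) F) * Matrix.diagonal ![1, ω, ω ^ 2]
      = Matrix.diagonal ![1, ω, ω ^ 2] * (a : Matrix (Fin 3) (Fin 3) F) := by
    rw [← hd₀, ← Matrix.SpecialLinearGroup.coe_mul, ← Matrix.SpecialLinearGroup.coe_mul, h]
  have h2 := diag_of_commute _ _ (Cfsg.Agent.S2739.eig_inj hF ω hω) h1
  have hdet := a.det_coe
  rw [h2, Matrix.det_diagonal] at hdet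
  have hne : ∀ i, (a : Matrix (Fin 3) (Fin 3) F) i i ≠ 0 := by
    intro i hi
    rw [Finset.prod_eq_zero (f := fun i => (a : Matrix (Fin 3) (Fin 3) F) i i) (Finset.mem_univ i) hi] at hdet
    exact zero_ne_one hdet
  apply Subtype.ext
  rw [Matrix.SpecialLinearGroup.coe_pow, h2, Matrix.diagonal_pow, Matrix.SpecialLinearGroup.coe_one,
    ← Matrix.diagonal_one]
  congr 1
  ext i
  simp only [Pi.pow_apply]
  exact Cfsg.Agent.S2739.cube_eq_one hF _ (hne i)

end F4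

/-- No element of PSL_3(4) has order 15. -/
theorem result {F : Type*} [Field F] [Fintype F] (hF : Fintype.card F = 4) (g : Matrix.ProjectiveSpecialLinearGroup (Fin 3) F) : orderOf g ≠ 15 := by
  classical
  intro hg
  obtain ⟨ω, hω⟩ := Cfsg.Agent.S2739.exists_omega hF
  obtain ⟨h3, -⟩ := Cfsg.Agent.S2739.omega_facts hF ω hω
  have hdet : (Matrix.diagonal ![1, ω, ω ^ 2] : Matrix (Fin 3) (Fin 3) F).det = 1 := by
    rw [Matrix.det_diagonal, Fin.prod_univ_three]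
    simp only [Matrix.cons_val_zero, Matrix.cons_val_one, Matrix.cons_val]
    linear_combination h3
  obtain ⟨d₀, hd₀⟩ : ∃ d₀ : Matrix.SpecialLinearGroup (Fin 3) F,
      (d₀ : Matrix (Fin 3) (Fin 3) F) = Matrix.diagonal ![1, ω, ω ^ 2] := ⟨⟨_, hdet⟩, rfl⟩
  obtain ⟨s, hs⟩ := QuotientGroup.mk_surjective g
  have hg15 : g ^ 15 = 1 := by rw [← hg]; exact pow_orderOf_eq_one g
  have hs3 : (s ^ 5) ^ 3 ∈ Subgroup.center (Matrix.SpecialLinearGroup (Fin 3) F) := by
    rw [← QuotientGroup.eq_one_iff, QuotientGroup.mk_pow, QuotientGroup.mk_pow, hs, ← pow_mul]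
    exact hg15
  have hsc : s ^ 5 ∉ Subgroup.center (Matrix.SpecialLinearGroup (Fin 3) F) := by
    intro h
    rw [← QuotientGroup.eq_one_iff, QuotientGroup.mk_pow, hs] at h
    have := orderOf_dvd_of_pow_eq_one h
    rw [hg] at this
    omega
  obtain ⟨k, hk⟩ := Cfsg.Agent.S2739.conj_to_diag hF ω hω d₀ hd₀ (s ^ 5) hs3 hsc
  have hcomm : s ^ 3 * s ^ 5 = s ^ 5 * s ^ 3 := ((Commute.refl s).pow_pow 3 5).eq
  have hd : d₀ = k⁻¹ * s ^ 5 * k := by rw [hk]; group
  have hac : (k⁻¹ * s ^ 3 * k) * d₀ = d₀ * (k⁻¹ * s ^ 3 * k) := by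
    rw [hd]
    have e1 : k⁻¹ * s ^ 3 * k * (k⁻¹ * s ^ 5 * k) = k⁻¹ * (s ^ 3 * s ^ 5) * k := by group
    have e2 : k⁻¹ * s ^ 5 * k * (k⁻¹ * s ^ 3 * k) = k⁻¹ * (s ^ 5 * s ^ 3) * k := by group
    rw [e1, e2, hcomm]
  have ha3 := cube_of_commute hF ω hω d₀ _ hd₀ hac
  have hs9 : s ^ 9 = 1 := by
    have e : (k⁻¹ * s ^ 3 * k) ^ 3 = k⁻¹ * s ^ 9 * k := by
      have := conj_pow (a := k⁻¹) (b := s ^ 3) (i := 3)
      rw [inv_inv, ← pow_mul] at this
      exact this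
    rw [e] at ha3
    have : s ^ 9 = k * (k⁻¹ * s ^ 9 * k) * k⁻¹ := by group
    rw [this, ha3]; group
  have hg9 : g ^ 9 = 1 := by
    rw [← hs, ← QuotientGroup.mk_pow, hs9]; rfl
  have := orderOf_dvd_of_pow_eq_one hg9
  rw [hg] at this
  omega

end Cfsg.Agent.S0819
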