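import Cfsg.Statements.S2550
-- import your own Cfsg.Agent.* helpers here
import Cfsg.Agent.S0819
import Cfsg.Agent.Lib.Helper13.SL2

set_option autoImplicit false
open Cfsg

namespace Cfsg.Agent.S2550

open Matrix

/-- companion matrix of `X^4 + X + 1` over the field with two elements -/
def CC : Matrix (Fin 4) (Fin 4) (ZMod 2) := !![0,0,0,1;1,0,0,1;0,1,0,0;0,0,1,0]

set_option maxRecDepth 100000 in
theorem CC_pow15 : CC ^ 15 = 1 := by decide

set_option maxRecDepth 100000 in
theorem CC_pow5 : CC ^ 5 ≠ 1 := by decide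

set_option maxRecDepth 100000 in
theorem CC_pow3 : CC ^ 3 ≠ 1 := by decide

set_option maxRecDepth 100000 in
theorem CC_det : CC.det = 1 := by decide

theorem orderOf_CC : orderOf CC = 15 := by
  apply orderOf_eq_of_pow_and_pow_div_prime (by norm_num) CC_pow15
  intro p hp hdvd
  have h15 : (15 : ℕ) = 3 * 5 := by norm_num
  rw [h15] at hdvd
  rcases (Nat.Prime.dvd_mul hp).mp hdvd with h | h
  · have : p = 3 := (Nat.prime_dvd_prime_iff_eq hp (by norm_num)).mp h
    subst this
    exact CC_pow5
  · have : p = 5 := (Nat.prime_dvd_prime_iff_eq hp (by norm_num)).mp h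
    subst this
    exact CC_pow3


section two
variable {F : Type*} [Field F] [Fintype F]

theorem center_eq_bot (hF : Fintype.card F = 2) :
    Subgroup.center (Matrix.SpecialLinearGroup (Fin 4) F) = ⊥ := by
  rw [Subgroup.eq_bot_iff_forall]
  intro A hA
  rw [Matrix.SpecialLinearGroup.mem_center_iff] at hA
  obtain ⟨r, hr4, hr⟩ := hA
  have hr0 : r ≠ 0 := by
    intro h
    rw [h] at hr4
    simp at hr4
  have hr1 : r = 1 := by
    have := FiniteField.pow_card_sub_one_eq_one r hr0
    rw [hF] at this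
    simpa using this
  apply Subtype.ext
  rw [← hr, hr1]
  simp

theorem card_PSL4 (hF : Fintype.card F = 2) :
    Nat.card (Matrix.ProjectiveSpecialLinearGroup (Fin 4) F) = 20160 := by
  have h1 := Cfsg.Agent.Lib.Helper13.card_SL_mul (F := F) 4 (by norm_num)
  rw [Matrix.card_GL_field, hF] at h1
  simp only [Fin.prod_univ_four] at h1
  norm_num at h1
  have h2 := Subgroup.card_eq_card_quotient_mul_card_subgroup
    (Subgroup.center (Matrix.SpecialLinearGroup (Fin 4) F))
  rw [center_eq_bot hF, Subgroup.card_bot, mul_one, ← center_eq_bot hF] at h2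
  rw [← h1]
  exact h2.symm

theorem exists_order15 (hF : Fintype.card F = 2) :
    ∃ x : Matrix.ProjectiveSpecialLinearGroup (Fin 4) F, orderOf x = 15 := by
  have : Fact (Nat.Prime 2) := ⟨Nat.prime_two⟩
  have : CharP F 2 := charP_of_card_eq_prime hF
  obtain ⟨f, hf⟩ : ∃ f : ZMod 2 →+* F, f = ZMod.castHom (dvd_refl 2) F := ⟨_, rfl⟩
  obtain ⟨φ, hφ⟩ : ∃ φ : Matrix (Fin 4) (Fin 4) (ZMod 2) →* Matrix (Fin 4) (Fin 4) F,
      ∀ A, φ A = f.mapMatrix A := ⟨f.mapMatrix.toMonoidHom, fun _ => rfl⟩
  have hinj : Function.Injective φ := by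
    intro A B h
    rw [hφ, hφ] at h
    exact Matrix.map_injective f.injective h
  have hord : orderOf (f.mapMatrix CC : Matrix (Fin 4) (Fin 4) F) = 15 := by
    rw [← orderOf_CC, ← hφ]
    exact orderOf_injective φ hinj CC
  have hdet : (f.mapMatrix CC : Matrix (Fin 4) (Fin 4) F).det = 1 := by
    rw [← RingHom.map_det, CC_det, map_one]
  obtain ⟨s, hs⟩ : ∃ s : Matrix.SpecialLinearGroup (Fin 4) F,
      (s : Matrix (Fin 4) (Fin 4) F) = f.mapMatrix CC := ⟨⟨_, hdet⟩, rfl⟩
  have hs15 : orderOf s = 15 := by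
    rw [← hord, orderOf_eq_orderOf_iff]
    intro n
    rw [← hs, ← Matrix.SpecialLinearGroup.coe_pow]
    constructor
    · intro h; rw [h]; rfl
    · intro h; exact Subtype.ext h
  refine ⟨QuotientGroup.mk s, ?_⟩
  rw [← hs15]
  apply orderOf_injective (QuotientGroup.mk' (Subgroup.center (Matrix.SpecialLinearGroup (Fin 4) F)))
  rw [injective_iff_map_eq_one]
  intro a ha
  rw [QuotientGroup.mk'_apply, QuotientGroup.eq_one_iff, center_eq_bot hF, Subgroup.mem_bot] at ha
  exact ha

end two

section four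
variable {K : Type*} [Field K] [Fintype K]

theorem card_center3 (hK : Fintype.card K = 4) :
    Nat.card (Subgroup.center (Matrix.SpecialLinearGroup (Fin 3) K)) = 3 := by
  classical
  rw [Nat.card_congr (Matrix.SpecialLinearGroup.center_equiv_rootsOfUnity' (0 : Fin 3)).toEquiv]
  have htop : rootsOfUnity (Fintype.card (Fin 3)) K = ⊤ := by
    rw [eq_top_iff]
    intro x _
    rw [mem_rootsOfUnity]
    have := pow_card_eq_one (G := Kˣ) (x := x)
    rw [Fintype.card_units, hK] at this
    simpa using this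
  rw [htop, Subgroup.card_top, Nat.card_units, Nat.card_eq_fintype_card, hK]

theorem card_PSL3 (hK : Fintype.card K = 4) :
    Nat.card (Matrix.ProjectiveSpecialLinearGroup (Fin 3) K) = 20160 := by
  have h1 := Cfsg.Agent.Lib.Helper13.card_SL_mul (F := K) 3 (by norm_num)
  rw [Matrix.card_GL_field, hK] at h1
  simp only [Fin.prod_univ_three] at h1
  norm_num at h1
  have h2 := Subgroup.card_eq_card_quotient_mul_card_subgroup
    (Subgroup.center (Matrix.SpecialLinearGroup (Fin 3) K))
  rw [card_center3 hK] at h2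
  have h3 : Nat.card (Matrix.ProjectiveSpecialLinearGroup (Fin 3) K) =
      Nat.card (Matrix.SpecialLinearGroup (Fin 3) K ⧸ Subgroup.center (Matrix.SpecialLinearGroup (Fin 3) K)) := rfl
  omega

end four

/-- Let F be a field with 2 elements and K a field with 4 elements. PSL_4(F) and PSL_3(K) have the same order (20160) but are not isomorphic. -/
theorem result {F K : Type*} [Field F] [Fintype F] [Field K] [Fintype K] (hF : Fintype.card F = 2) (hK : Fintype.card K = 4) : Nat.card (Matrix.ProjectiveSpecialLinearGroup (Fin 4) F) = Nat.card (Matrix.ProjectiveSpecialLinearGroup (Fin 3) K) ∧ ¬ Nonempty (Matrix.ProjectiveSpecialLinearGroup (Fin 4) F ≃* Matrix.ProjectiveSpecialLinearGroup (Fin 3) K) := by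
  refine ⟨by rw [card_PSL4 hF, card_PSL3 hK], ?_⟩
  rintro ⟨e⟩
  obtain ⟨x, hx⟩ := exists_order15 hF
  apply Cfsg.Agent.S0819.result hK (e x)
  rw [MulEquiv.orderOf_eq, hx]

end Cfsg.Agent.S2550
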