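import Cfsg.Statements.S0256
-- import your own Cfsg.Agent.* helpers here
import Cfsg.Agent.S0825
import Cfsg.Agent.S2550

set_option autoImplicit false
open Cfsg

namespace Cfsg.Agent.S0256

open Matrix

section klein
variable {R : Type*} [CommRing R]

/-- 2x2 minor with rows i j and columns k l -/
def mn (A : Matrix (Fin 4) (Fin 4) R) (i j k l : Fin 4) : R := A i k * A j l - A i l * A j k

/-- the six oriented index pairs -/
def pr : Fin 3 ⊕ Fin 3 → Fin 4 × Fin 4
  | Sum.inl 0 => (0, 1)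
  | Sum.inl 1 => (0, 2)
  | Sum.inl 2 => (0, 3)
  | Sum.inr 0 => (2, 3)
  | Sum.inr 1 => (3, 1)
  | Sum.inr 2 => (1, 2)

def KK (A : Matrix (Fin 4) (Fin 4) R) : Matrix (Fin 3 ⊕ Fin 3) (Fin 3 ⊕ Fin 3) R :=
  Matrix.of fun I J => mn A (pr I).1 (pr I).2 (pr J).1 (pr J).2

theorem mn_mul (A B : Matrix (Fin 4) (Fin 4) R) (i j k l : Fin 4) :
    mn (A * B) i j k l = ∑ J : Fin 3 ⊕ Fin 3, mn A i j (pr J).1 (pr J).2 * mn B (pr J).1 (pr J).2 k l := by
  simp only [Fintype.sum_sum_type, Fin.sum_univ_three, mn, Matrix.mul_apply, Fin.sum_univ_four, pr]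
  ring

theorem KK_mul (A B : Matrix (Fin 4) (Fin 4) R) : KK (A * B) = KK A * KK B := by
  ext I J
  rw [Matrix.mul_apply]
  simp only [KK, Matrix.of_apply]
  exact mn_mul A B _ _ _ _


theorem pr_eq_iff : ∀ I J : Fin 3 ⊕ Fin 3, ((pr I).1 = (pr J).1 ∧ (pr I).2 = (pr J).2) ↔ I = J := by
  decide

theorem pr_ne_swap : ∀ I J : Fin 3 ⊕ Fin 3, ¬ ((pr I).1 = (pr J).2 ∧ (pr I).2 = (pr J).1) := by
  decide

theorem mn_one (i j k l : Fin 4) :
    mn (1 : Matrix (Fin 4) (Fin 4) R) i j k l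
      = (if i = k ∧ j = l then 1 else 0) - (if i = l ∧ j = k then 1 else 0) := by
  simp only [mn, Matrix.one_apply]
  split_ifs <;> simp_all

theorem KK_one : KK (1 : Matrix (Fin 4) (Fin 4) R) = 1 := by
  ext I J
  simp only [KK, Matrix.of_apply, mn_one, pr_eq_iff, pr_ne_swap, if_false, sub_zero, Matrix.one_apply]

theorem det4 (A : Matrix (Fin 4) (Fin 4) R) :
    A.det = mn A 0 1 0 1 * mn A 2 3 2 3 - mn A 0 1 0 2 * mn A 2 3 1 3 + mn A 0 1 0 3 * mn A 2 3 1 2
      + mn A 0 1 1 2 * mn A 2 3 0 3 - mn A 0 1 1 3 * mn A 2 3 0 2 + mn A 0 1 2 3 * mn A 2 3 0 1 := by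
  rw [Matrix.det_succ_row_zero]
  simp only [Fin.sum_univ_four, Matrix.det_fin_three, Matrix.submatrix_apply, mn]
  simp [Fin.succAbove]
  ring

theorem KK_quad (A : Matrix (Fin 4) (Fin 4) R) (p : Fin 3 ⊕ Fin 3 → R) :
    ∑ i : Fin 3, (KK A *ᵥ p) (Sum.inl i) * (KK A *ᵥ p) (Sum.inr i)
      = A.det * ∑ i : Fin 3, p (Sum.inl i) * p (Sum.inr i) := by
  rw [det4]
  simp only [Matrix.mulVec, dotProduct, Fintype.sum_sum_type, Fin.sum_univ_three, KK, Matrix.of_apply, pr, mn]
  ring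


theorem cover : ∀ i j : Fin 4, i ≠ j → ∃ I, (pr I = (i, j) ∨ pr I = (j, i)) := by decide

theorem third : ∀ i k : Fin 4, ∃ l, l ≠ i ∧ l ≠ k := by decide

theorem mn_swap_rows (A : Matrix (Fin 4) (Fin 4) R) (i j k l : Fin 4) :
    mn A j i k l = - mn A i j k l := by unfold mn; ring

theorem mn_swap_cols (A : Matrix (Fin 4) (Fin 4) R) (i j k l : Fin 4) :
    mn A i j l k = - mn A i j k l := by unfold mn; ring

theorem KK_entry (A : Matrix (Fin 4) (Fin 4) R) (hK : KK A = 1) (I J : Fin 3 ⊕ Fin 3) :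
    mn A (pr I).1 (pr I).2 (pr J).1 (pr J).2 = if I = J then 1 else 0 := by
  have := congrFun (congrFun hK I) J
  rw [Matrix.one_apply] at this
  exact this

theorem mn_diag (A : Matrix (Fin 4) (Fin 4) R) (hK : KK A = 1) (k l : Fin 4) (hkl : k ≠ l) :
    mn A k l k l = 1 := by
  obtain ⟨I, hI⟩ := cover k l hkl
  have h := KK_entry A hK I I
  rw [if_pos rfl] at h
  rcases hI with hI | hI
  · rw [hI] at h
    exact h
  · rw [hI] at h
    rw [mn_swap_rows, mn_swap_cols, neg_neg]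
    exact h

theorem mn_off (A : Matrix (Fin 4) (Fin 4) R) (hK : KK A = 1) (i j k l : Fin 4) (hij : i ≠ j)
    (hkl : k ≠ l) (h1 : ¬ (i = k ∧ j = l)) (h2 : ¬ (i = l ∧ j = k)) : mn A i j k l = 0 := by
  obtain ⟨I, hI⟩ := cover i j hij
  obtain ⟨J, hJ⟩ := cover k l hkl
  have hIJ : I ≠ J := by
    rintro rfl
    rcases hI with hI | hI <;> rcases hJ with hJ | hJ <;> rw [hI] at hJ <;>
      simp only [Prod.mk.injEq] at hJ
    · exact h1 hJ
    · exact h2 hJ
    · exact h2 ⟨hJ.2, hJ.1⟩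
    · exact h1 ⟨hJ.2, hJ.1⟩
  have h := KK_entry A hK I J
  rw [if_neg hIJ] at h
  rcases hI with hI | hI <;> rcases hJ with hJ | hJ <;> rw [hI, hJ] at h
  · exact h
  · rw [mn_swap_cols, h, neg_zero]
  · rw [mn_swap_rows, h, neg_zero]
  · rw [mn_swap_rows, mn_swap_cols, h, neg_zero, neg_zero]

theorem offdiag_zero (A : Matrix (Fin 4) (Fin 4) R) (hK : KK A = 1) (i k : Fin 4) (hik : i ≠ k) :
    A i k = 0 := by
  obtain ⟨l, hli, hlk⟩ := third i k
  have hid : A i k * mn A k l k l - A k k * mn A i l k l + A l k * mn A i k k l = 0 := by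
    unfold mn; ring
  rw [mn_diag A hK k l hlk.symm, mn_off A hK i l k l hli.symm hlk.symm (fun h => hik h.1)
    (fun h => hli h.1.symm), mn_off A hK i k k l hik hlk.symm (fun h => hik h.1) (fun h => hli h.1.symm)] at hid
  simpa using hid

theorem diag_mul (A : Matrix (Fin 4) (Fin 4) R) (hK : KK A = 1) (i j : Fin 4) (hij : i ≠ j) :
    A i i * A j j = 1 := by
  have h := mn_diag A hK i j hij
  unfold mn at h
  rw [offdiag_zero A hK i j hij, zero_mul, sub_zero] at h
  exact h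


end klein

section grp
variable {F : Type*} [Field F] [Fintype F]

/-- the Klein correspondence as a monoid hom on matrices -/
def Khom (F : Type*) [Field F] : Matrix (Fin 4) (Fin 4) F →* Matrix (Fin 3 ⊕ Fin 3) (Fin 3 ⊕ Fin 3) F where
  toFun := KK
  map_one' := KK_one
  map_mul' := KK_mul

/-- `SL₄ → GL₆` -/
def psi0 (F : Type*) [Field F] : Matrix.SpecialLinearGroup (Fin 4) F →* Matrix.GeneralLinearGroup (Fin 3 ⊕ Fin 3) F :=
  (Units.map (Khom F)).comp Matrix.SpecialLinearGroup.toGL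

omit [Fintype F] in
theorem psi0_val (s : Matrix.SpecialLinearGroup (Fin 4) F) :
    ((psi0 F s : Matrix.GeneralLinearGroup (Fin 3 ⊕ Fin 3) F) : Matrix (Fin 3 ⊕ Fin 3) (Fin 3 ⊕ Fin 3) F)
      = KK (s : Matrix (Fin 4) (Fin 4) F) := rfl

omit [Fintype F] in
theorem psi0_mem (s : Matrix.SpecialLinearGroup (Fin 4) F) :
    psi0 F s ∈ Cfsg.isometryGroup F (Cfsg.quadFormPlus 3 F) := by
  rw [Cfsg.Agent.Lib.Helper15.mem_isometryGroup_iff]
  intro u
  rw [psi0_val]
  unfold Cfsg.quadFormPlus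
  rw [KK_quad, s.det_coe, one_mul]

/-- `SL₄ → O⁺₆` -/
def psi (F : Type*) [Field F] : Matrix.SpecialLinearGroup (Fin 4) F →* ↥(Cfsg.isometryGroup F (Cfsg.quadFormPlus 3 F)) :=
  (psi0 F).codRestrict _ psi0_mem

theorem psi_injective (hF : Fintype.card F = 2) : Function.Injective (psi F) := by
  rw [injective_iff_map_eq_one]
  intro s hs
  have hK : KK (s : Matrix (Fin 4) (Fin 4) F) = 1 := by
    have h1 : psi0 F s = 1 := by
      have := congrArg Subtype.val hs
      exact this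
    rw [← psi0_val, h1]
    rfl
  have hone : ∀ x : F, x ≠ 0 → x = 1 := by
    intro x hx
    have := FiniteField.pow_card_sub_one_eq_one x hx
    rw [hF] at this
    simpa using this
  apply Subtype.ext
  ext i k
  by_cases hik : i = k
  · subst hik
    obtain ⟨j, hj, -⟩ := third i i
    have h := diag_mul _ hK i j hj.symm
    have hne : (s : Matrix (Fin 4) (Fin 4) F) i i ≠ 0 := by
      intro h0
      rw [h0, zero_mul] at h
      exact zero_ne_one h
    rw [hone _ hne]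
    simp
  · rw [offdiag_zero _ hK i k hik]
    simp [hik]

end grp

/-- PSL_4(2) is isomorphic to A_8. -/
theorem result {F : Type*} [Field F] [Fintype F] (hF : Fintype.card F = 2) : Nonempty (Matrix.ProjectiveSpecialLinearGroup (Fin 4) F ≃* alternatingGroup (Fin 8)) := by
  classical
  obtain ⟨e⟩ := Cfsg.Agent.S0825.result hF
  have e1 : Matrix.ProjectiveSpecialLinearGroup (Fin 4) F ≃* Matrix.SpecialLinearGroup (Fin 4) F :=
    (QuotientGroup.quotientMulEquivOfEq (Cfsg.Agent.S2550.center_eq_bot hF)).trans QuotientGroup.quotientBot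
  have hcardSL : Nat.card (Matrix.SpecialLinearGroup (Fin 4) F) = 20160 := by
    rw [← Nat.card_congr e1.toEquiv]
    exact Cfsg.Agent.S2550.card_PSL4 hF
  obtain ⟨ψ', hψ'⟩ : ∃ ψ' : Matrix.SpecialLinearGroup (Fin 4) F →* Equiv.Perm (Fin 8),
      ψ' = e.toMonoidHom.comp (psi F) := ⟨_, rfl⟩
  have hinj : Function.Injective ψ' := by
    rw [hψ']
    exact e.injective.comp (psi_injective hF)
  have hrange : Nat.card ψ'.range = 20160 := by
    rw [← hcardSL]
    exact (Nat.card_congr (MonoidHom.ofInjective hinj).toEquiv).symm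
  have hidx : ψ'.range.index = 2 := by
    have h := Subgroup.card_mul_index ψ'.range
    rw [hrange, Nat.card_perm, Nat.card_eq_fintype_card, Fintype.card_fin] at h
    have : Nat.factorial 8 = 40320 := by decide
    omega
  have hA := Equiv.Perm.eq_alternatingGroup_of_index_eq_two hidx
  have e2 : Matrix.SpecialLinearGroup (Fin 4) F ≃* ψ'.range := MonoidHom.ofInjective hinj
  have e3 : ψ'.range ≃* alternatingGroup (Fin 8) := MulEquiv.subgroupCongr hA
  exact ⟨e1.trans (e2.trans e3)⟩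

end Cfsg.Agent.S0256
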