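import Cfsg.Statements.S1326
import Cfsg.Agent.Lib.Helper9.FStar2

set_option autoImplicit false
open Cfsg

namespace Cfsg.Agent.S1326

/-- For a finite group X: the Fitting subgroup contains its centralizer if and only if the layer of X is trivial. -/
theorem result {X : Type*} [Group X] [Finite X] : Subgroup.centralizer (Cfsg.fittingSubgroup X : Set X) ≤ Cfsg.fittingSubgroup X ↔ Cfsg.layer X = ⊥ := by
  constructor
  · intro h
    apply Cfsg.Agent.Lib.Helper9.layer_eq_bot_of_le_isSolvable
      Cfsg.Agent.Lib.Helper9.fittingSubgroup_isSolvable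
    exact Cfsg.Agent.Lib.Helper9.layer_le_centralizer_fittingSubgroup.trans h
  · intro h
    have h1 : Cfsg.generalizedFittingSubgroup X = Cfsg.fittingSubgroup X := by
      unfold Cfsg.generalizedFittingSubgroup
      rw [h, bot_sup_eq]
    have h2 := Cfsg.Agent.Lib.Helper9.centralizer_generalizedFittingSubgroup_le (G := X)
    rw [h1] at h2
    exact h2

end Cfsg.Agent.S1326
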