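import Cfsg.Statements.S4573
import Mathlib
import Cfsg.Agent.Lib.Helper24.WrM3
import Cfsg.Agent.Lib.Helper6.PrimeIndex
import Cfsg.Agent.Lib.Lead.CharMore

set_option autoImplicit false
universe u
open Cfsg

namespace Cfsg.Agent.S4573

open Cfsg.Agent.CharLib Cfsg.Agent.Lib.Helper6 Cfsg.Agent.Lib.Helper24 Cfsg.Agent.Lib.Helper24.WrM
open RegularWreathProduct
open scoped ComplexConjugate

section embed
variable {G : Type u} [Group G]

theorem kk_mem (N : Subgroup G) [N.Normal] (g : G) (q : G ⧸ N) :
    (q.out)⁻¹ * g * (((g : G ⧸ N))⁻¹ * q).out ∈ N := by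
  rw [← QuotientGroup.eq_one_iff, QuotientGroup.mk_mul, QuotientGroup.mk_mul, QuotientGroup.mk_inv,
    QuotientGroup.out_eq', QuotientGroup.out_eq']
  group

/-- the Krasner–Kaloujnine embedding of `G` into `N ≀ G/N` -/
noncomputable def kkHom (N : Subgroup G) [N.Normal] : G →* (N ≀ᵣ (G ⧸ N)) :=
  MonoidHom.mk' (fun g => ⟨fun q => ⟨(q.out)⁻¹ * g * (((g : G ⧸ N))⁻¹ * q).out, kk_mem N g q⟩,
    (g : G ⧸ N)⟩) (by
    intro g h
    apply RegularWreathProduct.ext
    · funext q
      apply Subtype.ext
      simp only [RegularWreathProduct.mul_left, Pi.mul_apply, Subgroup.coe_mul, QuotientGroup.mk_mul,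
        mul_inv_rev, mul_assoc]
      group
    · rfl)

theorem kkHom_injective (N : Subgroup G) [N.Normal] : Function.Injective (kkHom N) := by
  rw [injective_iff_map_eq_one]
  intro g hg
  have h1 : ((g : G ⧸ N)) = 1 := congrArg RegularWreathProduct.right hg
  have h2 := congrFun (congrArg RegularWreathProduct.left hg) 1
  have h3 : ((1 : G ⧸ N).out)⁻¹ * g * (((g : G ⧸ N))⁻¹ * 1).out = 1 := congrArg Subtype.val h2
  rw [h1, inv_one, one_mul] at h3
  calc g = (1 : G ⧸ N).out * (((1 : G ⧸ N).out)⁻¹ * g * ((1 : G ⧸ N)).out) * ((1 : G ⧸ N).out)⁻¹ := by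
        group
    _ = 1 := by rw [h3]; group

/-- functoriality of the wreath product in the base -/
def wrMap {A B : Type u} [Group A] [Group B] (Q : Type u) [Group Q] (j : A →* B) :
    (A ≀ᵣ Q) →* (B ≀ᵣ Q) where
  toFun w := ⟨fun q => j (w.left q), w.right⟩
  map_one' := by
    apply RegularWreathProduct.ext
    · funext q
      simp
    · rfl
  map_mul' a b := by
    apply RegularWreathProduct.ext
    · funext q
      simp
    · rfl

theorem wrMap_injective {A B : Type u} [Group A] [Group B] (Q : Type u) [Group Q] (j : A →* B)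
    (hj : Function.Injective j) : Function.Injective (wrMap Q j) := by
  intro a b hab
  apply RegularWreathProduct.ext
  · funext q
    apply hj
    have h1 := congrFun (congrArg RegularWreathProduct.left hab) q
    exact h1
  · have h2 := congrArg RegularWreathProduct.right hab
    exact h2

end embed

/-- abelian groups are M-groups -/
theorem mgroup_of_comm {M : Type u} [Group M] [Fintype M] (hc : ∀ a b : M, a * b = b * a)
    (χ : M → ℂ) (hχ : IsIrrCharacter M χ) :
    ∃ (H : Subgroup M) (lam : ↥H →* ℂˣ), χ = indFun H (fun h => ((lam h : ℂˣ) : ℂ)) := by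
  classical
  have h1 : χ 1 = 1 := (comm_iff_forall_irr_apply_one (G := M)).mp hc ⟨χ, hχ⟩
  have hχc := IsIrrCharacter.isCharacter hχ
  letI : Fintype (⊤ : Subgroup M) := Fintype.ofFinite _
  refine ⟨⊤, (linCharUnitsHom hχc h1).comp (⊤ : Subgroup M).subtype, ?_⟩
  exact (Cfsg.Agent.Lib.Helper2.indFun_top (IsCharacter.isClassFunction hχc)).symm

theorem main_aux (n : ℕ) : ∀ (G : Type u) [Group G] [Finite G], Nat.card G = n →
    Group.IsSolvable G →
    ∃ (M : Type u) (_ : Group M) (_ : Fintype M), (∀ χ : M → ℂ, Cfsg.IsIrrCharacter M χ →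
      (∃ (H : Subgroup M) (lam : ↥H →* ℂˣ), χ = Cfsg.indFun H (fun h => (lam h : ℂ)))) ∧
      ∃ f : G →* M, Function.Injective f := by
  induction n using Nat.strong_induction_on with
  | _ n IH =>
  intro G _ _ hn hsolv
  classical
  by_cases hc : ∀ a b : G, a * b = b * a
  · exact ⟨G, inferInstance, Fintype.ofFinite G,
      fun χ hχ => by
        letI := Fintype.ofFinite G
        exact mgroup_of_comm hc χ hχ,
      MonoidHom.id G, Function.injective_id⟩
  · have hnt : (⊥ : Subgroup G) ≠ ⊤ := by
      intro h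
      apply hc
      intro a b
      have ha : a ∈ (⊥ : Subgroup G) := by rw [h]; exact Subgroup.mem_top a
      have hb : b ∈ (⊥ : Subgroup G) := by rw [h]; exact Subgroup.mem_top b
      rw [Subgroup.mem_bot] at ha hb
      rw [ha, hb]
    haveI := hsolv
    obtain ⟨N, hNn, -, hNp⟩ := exists_normal_prime_index (⊥ : Subgroup G) hnt inferInstance
    haveI := hNn
    have hlt : Nat.card N < Nat.card G := by
      have h1 := Subgroup.card_mul_index N
      have h2 : 1 < N.index := hNp.one_lt
      have h3 : 0 < Nat.card N := Nat.card_pos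
      nlinarith
    obtain ⟨M₀, hM₀g, hM₀f, hM₀, j, hj⟩ := IH (Nat.card N) (hn ▸ hlt) N rfl inferInstance
    letI := hM₀g
    letI := hM₀f
    letI : Fintype (G ⧸ N) := Fintype.ofFinite _
    letI : Fintype (M₀ ≀ᵣ (G ⧸ N)) := Fintype.ofFinite _
    have hQ : Nat.card (G ⧸ N) = N.index := (Subgroup.index_eq_card N).symm
    refine ⟨M₀ ≀ᵣ (G ⧸ N), inferInstance, inferInstance, ?_, (wrMap (G ⧸ N) j).comp (kkHom N),
      (wrMap_injective (G ⧸ N) j hj).comp (kkHom_injective N)⟩
    intro χ hχ
    exact mgroup_wreath N.index hNp hQ hM₀ χ hχ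

theorem result' {G : Type u} [Group G] [Finite G] (hsolv : Group.IsSolvable G) :
    ∃ (M : Type u) (_ : Group M) (_ : Fintype M), (∀ χ : M → ℂ, Cfsg.IsIrrCharacter M χ →
      (∃ (H : Subgroup M) (lam : ↥H →* ℂˣ), χ = Cfsg.indFun H (fun h => (lam h : ℂ)))) ∧
      ∃ f : G →* M, Function.Injective f :=
  main_aux (Nat.card G) G rfl hsolv

/-- Every finite solvable group is isomorphic to a subgroup of a finite M-group, a group each of whose irreducible characters is induced from a homomorphism of some subgroup into ℂˣ. -/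
theorem result {G : Type u} [Group G] [Finite G] (hsolv : Group.IsSolvable G) : ∃ (M : Type u) (_ : Group M) (_ : Fintype M), (∀ χ : M → ℂ, Cfsg.IsIrrCharacter M χ → (∃ (H : Subgroup M) (lam : ↥H →* ℂˣ), χ = Cfsg.indFun H (fun h => (lam h : ℂ)))) ∧ ∃ f : G →* M, Function.Injective f := by
  exact result' hsolv

end Cfsg.Agent.S4573
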