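import Cfsg.Statements.S1473
import Mathlib
import Cfsg.Agent.Lib.Helper1.Coprime
import Cfsg.Agent.Lib.Helper1.MinNormal
import Cfsg.Agent.Lib.Helper29.PrimePowerElement
import Cfsg.Agent.Lib.Helper10.PGroupBasic
import Cfsg.Agent.Lib.Helper4.CoprimeIndex
-- import your own Cfsg.Agent.* helpers here

set_option autoImplicit false
open Cfsg

namespace Cfsg.Agent.S1473

universe u

theorem isNilpotent_of_le {G : Type*} [Group G] {K K' : Subgroup G} (h : K ≤ K')
    (hK' : Group.IsNilpotent K') : Group.IsNilpotent K := by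
  haveI := hK'
  have h1 : Group.IsNilpotent (K.subgroupOf K') := Subgroup.isNilpotent _
  exact Group.nilpotent_of_mulEquiv (Subgroup.subgroupOfEquivOfLe h)

theorem isNilpotent_map {G G' : Type*} [Group G] [Group G'] (f : G →* G') (D : Subgroup G)
    (hD : Group.IsNilpotent D) : Group.IsNilpotent (D.map f) := by
  haveI := hD
  exact Group.nilpotent_of_surjective (f.subgroupMap D) (f.subgroupMap_surjective D)

theorem isCNGroup_of_mulEquiv {G G' : Type*} [Group G] [Group G'] (e : G ≃* G')
    (h : Cfsg.IsCNGroup G) : Cfsg.IsCNGroup G' := by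
  intro g hg
  have hg' : e.symm g ≠ 1 := by
    intro h1
    apply hg
    have := congrArg e h1
    simpa using this
  have h1 := h (e.symm g) hg'
  have h2 := isNilpotent_map e.toMonoidHom _ h1
  refine isNilpotent_of_le ?_ h2
  intro x hx
  rw [Subgroup.mem_centralizer_singleton_iff] at hx
  have hmem : e.symm x ∈ Subgroup.centralizer ({e.symm g} : Set G) := by
    rw [Subgroup.mem_centralizer_singleton_iff]
    apply e.injective
    simp [hx]
  exact ⟨e.symm x, hmem, by simp⟩


/-- a nontrivial solvable normal subgroup contains a nontrivial abelian normal `p`-subgroup. -/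
theorem exists_normal_abelian_pgroup_le {G : Type*} [Group G] [Finite G] (H : Subgroup G)
    [hHn : H.Normal] (hH : Group.IsSolvable H) (hH1 : H ≠ ⊥) :
    ∃ (p : ℕ) (A : Subgroup G), p.Prime ∧ A.Normal ∧ A ≤ H ∧ A ≠ ⊥ ∧ IsMulCommutative A ∧
      IsPGroup p A := by
  classical
  obtain ⟨N, ⟨hNn, hN1, hmin⟩, hNH⟩ := Cfsg.Agent.Lib.Helper1.exists_isMinNormal_le H hHn hH1
  haveI := hNn
  -- `N` is abelian
  have hsolvN : Group.IsSolvable N :=
    Group.isSolvable_of_isSolvable_injective (Subgroup.inclusion_injective hNH)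
  have hcomm : IsMulCommutative N := by
    have h2 : (⁅N, N⁆ : Subgroup G).Normal := inferInstance
    have hle : ⁅N, N⁆ ≤ N := Subgroup.commutator_le_left N N
    rcases hmin _ h2 hle with h | h
    · exact Subgroup.commutator_self_eq_bot_iff.mp h
    · exfalso
      haveI : Nontrivial N := (Subgroup.nontrivial_iff_ne_bot N).mpr hN1
      have hlt := Group.IsSolvable.commutator_lt_top_of_nontrivial N
      have h3 : (commutator N).map N.subtype = (⊤ : Subgroup N).map N.subtype := by
        rw [Subgroup.map_subtype_commutator, h, ← MonoidHom.range_eq_map, Subgroup.range_subtype]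
      have h4 := Subgroup.map_injective (Subgroup.subtype_injective N) h3
      exact hlt.ne h4
  have hcard : Nat.card N ≠ 1 := fun h => hN1 (Subgroup.card_eq_one.mp h)
  obtain ⟨p, hp, hpdvd⟩ := Nat.exists_prime_and_dvd hcard
  have : Fact p.Prime := ⟨hp⟩
  let Ω : Subgroup G :=
    { carrier := {x | x ∈ N ∧ x ^ p = 1}
      one_mem' := ⟨N.one_mem, one_pow p⟩
      mul_mem' := by
        rintro a b ⟨ha, hap⟩ ⟨hb, hbp⟩
        refine ⟨N.mul_mem ha hb, ?_⟩
        have hab : Commute a b := by
          have := mul_comm' (⟨a, ha⟩ : N) ⟨b, hb⟩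
          exact congrArg Subtype.val this
        rw [hab.mul_pow, hap, hbp, one_mul]
      inv_mem' := by
        rintro a ⟨ha, hap⟩
        exact ⟨N.inv_mem ha, by rw [inv_pow, hap, inv_one]⟩ }
  have hΩN : Ω ≤ N := fun x hx => hx.1
  have hΩn : Ω.Normal := by
    constructor
    rintro x ⟨hx, hxp⟩ g
    refine ⟨hNn.conj_mem x hx g, ?_⟩
    rw [conj_pow, hxp, mul_one, mul_inv_cancel]
  have hΩ1 : Ω ≠ ⊥ := by
    obtain ⟨x, hx⟩ := exists_prime_orderOf_dvd_card' (G := N) p hpdvd
    intro h
    have hxΩ : (x : G) ∈ Ω := by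
      refine ⟨x.2, ?_⟩
      have : x ^ p = 1 := by rw [← hx]; exact pow_orderOf_eq_one x
      exact_mod_cast congrArg Subtype.val this
    rw [h, Subgroup.mem_bot] at hxΩ
    have hx1 : x = 1 := Subtype.ext hxΩ
    rw [hx1, orderOf_one] at hx
    exact hp.one_lt.ne hx
  have hexp : ∀ x ∈ N, x ^ p = 1 := by
    rcases hmin Ω hΩn hΩN with h | h
    · exact absurd h hΩ1
    · intro x hx
      rw [← h] at hx
      exact hx.2
  refine ⟨p, N, hp, hNn, hNH, hN1, hcomm, fun x => ⟨1, ?_⟩⟩
  rw [pow_one]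
  exact Subtype.ext (by simpa using hexp x x.2)


theorem comm_mem_of_commute_mk {G : Type*} [Group G] (A : Subgroup G) [A.Normal] (g a : G)
    (h : (g : G ⧸ A) * (a : G ⧸ A) = (a : G ⧸ A) * (g : G ⧸ A)) : g⁻¹ * a * g * a⁻¹ ∈ A := by
  rw [← QuotientGroup.eq_one_iff]
  have h1 : ((g⁻¹ * a * g * a⁻¹ : G) : G ⧸ A) =
      (g : G ⧸ A)⁻¹ * ((a : G ⧸ A) * (g : G ⧸ A)) * (a : G ⧸ A)⁻¹ := by
    simp only [QuotientGroup.mk_mul, QuotientGroup.mk_inv, mul_assoc]
  rw [h1, ← h]
  group

theorem isCNGroup_quotient_abelian {G : Type u} [Group G] [Finite G] (hCN : Cfsg.IsCNGroup G)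
    (p : ℕ) [Fact p.Prime] (A : Subgroup G) [hAn : A.Normal] (hA1 : A ≠ ⊥)
    (hAc : IsMulCommutative A) (hAp : IsPGroup p A) : Cfsg.IsCNGroup (G ⧸ A) := by
  classical
  have hp : p.Prime := Fact.out
  obtain ⟨k, hk⟩ := IsPGroup.iff_card.mp hAp
  have hApow : ∀ a ∈ A, a ^ (p ^ k) = 1 := by
    intro a ha
    have h1 := pow_card_eq_one' (G := A) (x := ⟨a, ha⟩)
    rw [hk] at h1
    have h2 := congrArg Subtype.val h1
    simpa using h2
  have hAcomm : ∀ a ∈ A, ∀ b ∈ A, a * b = b * a := by
    intro a ha b hb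
    have := mul_comm' (⟨a, ha⟩ : A) ⟨b, hb⟩
    exact congrArg Subtype.val this
  have hAsolv : Group.IsSolvable A := Group.isSolvable_of_comm (fun a b => mul_comm' a b)
  have hnormtop : ∀ W : Subgroup G, W ≤ Subgroup.normalizer (A : Set G) := by
    intro W
    rw [Subgroup.normalizer_eq_top_iff.mpr hAn]
    exact le_top
  intro ybar hy
  suffices hkey : ∃ D : Subgroup G, Group.IsNilpotent D ∧
      Subgroup.centralizer ({ybar} : Set (G ⧸ A)) ≤ D.map (QuotientGroup.mk' A) by
    obtain ⟨D, hD, hle⟩ := hkey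
    exact isNilpotent_of_le hle (isNilpotent_map _ D hD)
  have hn1 : orderOf ybar ≠ 1 := fun h => hy (orderOf_eq_one_iff.mp h)
  have hn0 : orderOf ybar ≠ 0 := (orderOf_pos ybar).ne'
  obtain ⟨q, hq, hqn⟩ := Nat.exists_prime_and_dvd hn1
  haveI : Fact q.Prime := ⟨hq⟩
  obtain ⟨y1, hy1def⟩ : ∃ y1, y1 = ybar ^ (orderOf ybar / q) := ⟨_, rfl⟩
  have hy1ord : orderOf y1 = q := by rw [hy1def]; exact orderOf_pow_orderOf_div hn0 hqn
  have hcent1 : Subgroup.centralizer ({ybar} : Set (G ⧸ A)) ≤
      Subgroup.centralizer ({y1} : Set (G ⧸ A)) := by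
    intro g hg
    rw [Subgroup.mem_centralizer_singleton_iff] at hg ⊢
    rw [hy1def]
    have hc : Commute g ybar := hg
    exact hc.pow_right _
  obtain ⟨x, hx⟩ := QuotientGroup.mk'_surjective A y1
  have hx' : (x : G ⧸ A) = y1 := hx
  have hxq : x ^ q ∈ A := by
    rw [← QuotientGroup.eq_one_iff, QuotientGroup.mk_pow, hx', ← hy1ord]
    exact pow_orderOf_eq_one y1
  have hxA : x ∉ A := by
    intro h
    have h1 : y1 = 1 := by rw [← hx']; exact (QuotientGroup.eq_one_iff x).mpr h
    rw [h1, orderOf_one] at hy1ord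
    exact hq.one_lt.ne hy1ord
  by_cases hqp : q = p
  · -- the case `q = p`
    rw [hqp] at hy1ord hxq
    have hxpow : x ^ (p ^ (k + 1)) = 1 := by
      rw [pow_succ', pow_mul]
      exact hApow _ hxq
    obtain ⟨C, hCdef⟩ : ∃ C : Subgroup G,
        C = (Subgroup.centralizer ({y1} : Set (G ⧸ A))).comap (QuotientGroup.mk' A) := ⟨_, rfl⟩
    have hmemC : ∀ g : G, g ∈ C ↔ (g : G ⧸ A) * y1 = y1 * (g : G ⧸ A) := by
      intro g
      rw [hCdef, Subgroup.mem_comap, Subgroup.mem_centralizer_singleton_iff]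
      rfl
    have hAC : A ≤ C := by
      intro a ha
      rw [hmemC, (QuotientGroup.eq_one_iff a).mpr ha, one_mul, mul_one]
    -- `p'`-elements of `C` centralize `A`
    have hstar : ∀ w ∈ C, (orderOf w).Coprime p → ∀ a ∈ A, w * a = a * w := by
      intro w hwC hwcop
      have hcop : Nat.Coprime (Nat.card (Subgroup.zpowers w)) (Nat.card A) := by
        rw [Nat.card_zpowers, hk]
        exact Nat.Coprime.pow_right k hwcop
      have hcomm : ∀ a ∈ Subgroup.zpowers w, x⁻¹ * a * x * a⁻¹ ∈ A := by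
        intro a ha
        apply comm_mem_of_commute_mk
        obtain ⟨i, rfl⟩ := Subgroup.mem_zpowers_iff.mp ha
        have hc : Commute (w : G ⧸ A) (x : G ⧸ A) := by
          rw [hx']; exact (hmemC w).mp hwC
        rw [QuotientGroup.mk_zpow]
        exact (hc.symm.zpow_right i)
      obtain ⟨n, hnA, hyn⟩ := Cfsg.Agent.Lib.Helper1.exists_mul_mem_centralizer
        (hnormtop _) hcop (Or.inr hAsolv) x hcomm
      obtain ⟨y, hydef⟩ : ∃ y, y = x * n := ⟨_, rfl⟩
      have hyA : y ∉ A := by
        intro h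
        apply hxA
        have := A.mul_mem h (A.inv_mem hnA)
        rwa [hydef, mul_inv_cancel_right] at this
      have hy1 : y ≠ 1 := fun h => hyA (h ▸ A.one_mem)
      have hyw : w * y = y * w := by
        have := (Subgroup.mem_centralizer_iff.mp hyn) w (Subgroup.mem_zpowers w)
        rw [hydef]; exact this
      obtain ⟨P1, hP1def⟩ : ∃ P1 : Subgroup G, P1 = A ⊔ Subgroup.zpowers x := ⟨_, rfl⟩
      have hzx : IsPGroup p (Subgroup.zpowers x) := by
        obtain ⟨j, -, hj⟩ := (Nat.dvd_prime_pow hp).mp (orderOf_dvd_of_pow_eq_one hxpow)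
        exact IsPGroup.of_card (n := j) (by rw [Nat.card_zpowers, hj])
      have hP1 : IsPGroup p P1 := by
        rw [hP1def]
        exact IsPGroup.to_sup_of_normal_left hAp hzx
      have hAP1 : A ≤ P1 := by rw [hP1def]; exact le_sup_left
      have hyP1 : y ∈ P1 := by
        rw [hydef, hP1def]
        exact Subgroup.mul_mem _ ((le_sup_right : Subgroup.zpowers x ≤ _) (Subgroup.mem_zpowers x))
          ((le_sup_left : A ≤ _) hnA)
      have hne : A.subgroupOf P1 ≠ ⊥ := by
        intro h
        apply hA1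
        rw [Subgroup.subgroupOf_eq_bot, disjoint_iff, inf_eq_left.mpr hAP1] at h
        exact h
      obtain ⟨z0, hz0A, hz0Z, hz01⟩ :=
        Cfsg.Agent.Lib.Helper10.exists_mem_center_of_normal_ne_bot p hP1 (A.subgroupOf P1) hne
      have hzA : (z0 : G) ∈ A := Subgroup.mem_subgroupOf.mp hz0A
      have hz1 : (z0 : G) ≠ 1 := fun h => hz01 (Subtype.ext h)
      have hzy : (z0 : G) * y = y * (z0 : G) := by
        have := (Subgroup.mem_center_iff.mp hz0Z) ⟨y, hyP1⟩
        exact (congrArg Subtype.val this).symm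
      have hzw : (z0 : G) * w = w * (z0 : G) := by
        have hnil := hCN y hy1
        have hzmem : (z0 : G) ∈ Subgroup.centralizer ({y} : Set G) :=
          Subgroup.mem_centralizer_singleton_iff.mpr hzy
        have hwmem : w ∈ Subgroup.centralizer ({y} : Set G) :=
          Subgroup.mem_centralizer_singleton_iff.mpr hyw
        have := Cfsg.Agent.Lib.Helper29.commute_of_isNilpotent_of_coprime hnil (q := p)
          ⟨(z0 : G), hzmem⟩ ⟨w, hwmem⟩ k (Subtype.ext (by simpa using hApow _ hzA))
          (by rwa [Subgroup.orderOf_mk])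
        exact congrArg Subtype.val this
      intro a ha
      have hnil := hCN (z0 : G) hz1
      have hamem : a ∈ Subgroup.centralizer ({(z0 : G)} : Set G) :=
        Subgroup.mem_centralizer_singleton_iff.mpr (hAcomm a ha _ hzA)
      have hwmem : w ∈ Subgroup.centralizer ({(z0 : G)} : Set G) :=
        Subgroup.mem_centralizer_singleton_iff.mpr hzw.symm
      have := Cfsg.Agent.Lib.Helper29.commute_of_isNilpotent_of_coprime hnil (q := p)
        ⟨a, hamem⟩ ⟨w, hwmem⟩ k (Subtype.ext (by simpa using hApow _ ha))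
        (by rwa [Subgroup.orderOf_mk])
      exact (congrArg Subtype.val this).symm
    -- a Sylow `p`-subgroup of `C` and the centralizer of `A` in `C`
    obtain ⟨T0⟩ : Nonempty (Sylow p C) := inferInstance
    obtain ⟨K, hKdef⟩ : ∃ K : Subgroup C,
        K = (Subgroup.centralizer (A : Set G)).subgroupOf C := ⟨_, rfl⟩
    haveI hKn : K.Normal := by
      rw [hKdef]
      haveI : (Subgroup.centralizer (A : Set G)).Normal := Subgroup.normal_centralizer
      exact Subgroup.normal_subgroupOf
    have hquot : IsPGroup p (C ⧸ K) := by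
      intro c
      induction c using QuotientGroup.induction_on with
      | H g =>
        obtain ⟨a, m, hm, hgm⟩ :=
          Nat.exists_eq_pow_mul_and_not_dvd (orderOf_pos (g : G)).ne' p hp.ne_one
        refine ⟨a, ?_⟩
        rw [← QuotientGroup.mk_pow, QuotientGroup.eq_one_iff, hKdef, Subgroup.mem_subgroupOf,
          Subgroup.mem_centralizer_iff]
        intro b hb
        have hcop : (orderOf ((g : G) ^ (p ^ a))).Coprime p := by
          have : orderOf ((g : G) ^ (p ^ a)) = m := by
            rw [orderOf_pow' (g : G) (pow_ne_zero a hp.ne_zero), hgm,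
              Nat.gcd_eq_right (dvd_mul_right _ _)]
            exact Nat.mul_div_cancel_left m (pow_pos hp.pos a)
          rw [this]
          exact ((Nat.Prime.coprime_iff_not_dvd hp).mpr hm).symm
        have h1 := hstar _ (C.pow_mem g.2 (p ^ a)) hcop b hb
        rw [Subgroup.coe_pow]
        exact h1.symm
    have hcopidx : Nat.Coprime (T0 : Subgroup C).index K.index := by
      obtain ⟨j, hj⟩ := IsPGroup.iff_card.mp hquot
      rw [Subgroup.index_eq_card K, hj]
      apply Nat.Coprime.pow_right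
      exact ((Nat.Prime.coprime_iff_not_dvd hp).mpr T0.not_dvd_index).symm
    have hprod := Cfsg.Agent.Lib.Helper4.forall_mul_of_coprime_index (T0 : Subgroup C) K hcopidx
    obtain ⟨T, hTdef⟩ : ∃ T : Subgroup G, T = (T0 : Subgroup C).map C.subtype := ⟨_, rfl⟩
    have hTp : IsPGroup p T := by rw [hTdef]; exact T0.isPGroup'.map _
    have hAT : A ≤ T := by
      have h1 : A.subgroupOf C ≤ T0 :=
        IsPGroup.le_sylow_of_normal (hAp.comap_subtype) T0
      intro a ha
      rw [hTdef]
      exact ⟨⟨a, hAC ha⟩, h1 (Subgroup.mem_subgroupOf.mpr ha), rfl⟩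
    have hne : A.subgroupOf T ≠ ⊥ := by
      intro h
      apply hA1
      rw [Subgroup.subgroupOf_eq_bot, disjoint_iff, inf_eq_left.mpr hAT] at h
      exact h
    obtain ⟨z0, hz0A, hz0Z, hz01⟩ :=
      Cfsg.Agent.Lib.Helper10.exists_mem_center_of_normal_ne_bot p hTp (A.subgroupOf T) hne
    have hzA : (z0 : G) ∈ A := Subgroup.mem_subgroupOf.mp hz0A
    have hz1 : (z0 : G) ≠ 1 := fun h => hz01 (Subtype.ext h)
    refine ⟨Subgroup.centralizer {(z0 : G)}, hCN _ hz1, ?_⟩
    intro gbar hg
    have hg1 := hcent1 hg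
    obtain ⟨g, rfl⟩ := QuotientGroup.mk'_surjective A gbar
    have hgC : g ∈ C := (hmemC g).mpr (Subgroup.mem_centralizer_singleton_iff.mp hg1)
    refine ⟨g, ?_, rfl⟩
    obtain ⟨t, ht, d, hd, hgtd⟩ := hprod ⟨g, hgC⟩
    have hg_eq : g = (t : G) * (d : G) := congrArg Subtype.val hgtd
    have htT : (t : G) ∈ T := by rw [hTdef]; exact ⟨t, ht, rfl⟩
    have htz : (t : G) * (z0 : G) = (z0 : G) * (t : G) := by
      have := (Subgroup.mem_center_iff.mp hz0Z) ⟨(t : G), htT⟩
      exact congrArg Subtype.val this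
    have hdz : (d : G) * (z0 : G) = (z0 : G) * (d : G) := by
      rw [hKdef, Subgroup.mem_subgroupOf, Subgroup.mem_centralizer_iff] at hd
      exact (hd _ hzA).symm
    rw [SetLike.mem_coe, Subgroup.mem_centralizer_singleton_iff, hg_eq, mul_assoc, hdz,
      ← mul_assoc, htz, mul_assoc]
  · -- the case `q ≠ p`
    obtain ⟨x1, hx1def⟩ : ∃ x1, x1 = x ^ (p ^ k) := ⟨_, rfl⟩
    have hx1q : x1 ^ q = 1 := by
      rw [hx1def, ← pow_mul, mul_comm, pow_mul]
      exact hApow _ hxq
    have hx1mk : (x1 : G ⧸ A) = y1 ^ (p ^ k) := by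
      rw [hx1def, QuotientGroup.mk_pow, hx']
    have hx1ne : x1 ≠ 1 := by
      intro h
      have h2 : y1 ^ (p ^ k) = 1 := by
        rw [← hx1mk, h]; rfl
      have h3 : q ∣ p ^ k := by rw [← hy1ord]; exact orderOf_dvd_of_pow_eq_one h2
      exact hqp ((Nat.prime_dvd_prime_iff_eq hq hp).mp (hq.dvd_of_dvd_pow h3))
    have hordx1 : orderOf x1 = q := orderOf_eq_prime hx1q hx1ne
    refine ⟨Subgroup.centralizer {x1}, hCN x1 hx1ne, ?_⟩
    intro gbar hg
    have hg1 := hcent1 hg
    obtain ⟨g, rfl⟩ := QuotientGroup.mk'_surjective A gbar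
    have hcop : Nat.Coprime (Nat.card (Subgroup.zpowers x1)) (Nat.card A) := by
      rw [Nat.card_zpowers, hordx1, hk]
      exact Nat.Coprime.pow_right k ((Nat.coprime_primes hq hp).mpr hqp)
    have hcomm : ∀ a ∈ Subgroup.zpowers x1, g⁻¹ * a * g * a⁻¹ ∈ A := by
      intro a ha
      apply comm_mem_of_commute_mk
      obtain ⟨i, rfl⟩ := Subgroup.mem_zpowers_iff.mp ha
      rw [Subgroup.mem_centralizer_singleton_iff] at hg1
      have hc : Commute ((QuotientGroup.mk' A) g) y1 := hg1
      have hc2 : Commute ((QuotientGroup.mk' A) g) ((x1 : G ⧸ A) ^ i) := by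
        rw [hx1mk]
        exact (hc.pow_right _).zpow_right _
      rw [QuotientGroup.mk_zpow]
      exact hc2
    obtain ⟨n, hnA, hgn⟩ := Cfsg.Agent.Lib.Helper1.exists_mul_mem_centralizer
      (hnormtop _) hcop (Or.inr hAsolv) g hcomm
    refine ⟨g * n, ?_, ?_⟩
    · rw [SetLike.mem_coe, Subgroup.mem_centralizer_singleton_iff]
      exact ((Subgroup.mem_centralizer_iff.mp hgn) x1 (Subgroup.mem_zpowers x1)).symm
    · rw [map_mul]
      have : (QuotientGroup.mk' A) n = 1 := (QuotientGroup.eq_one_iff n).mpr hnA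
      rw [this, mul_one]


theorem main : ∀ (n : ℕ) (G : Type u) [Group G] [Finite G], Nat.card G = n → Cfsg.IsCNGroup G →
    ∀ (H : Subgroup G) [H.Normal], Group.IsSolvable H → Cfsg.IsCNGroup (G ⧸ H) := by
  intro n
  induction n using Nat.strong_induction_on with
  | _ n ih =>
    intro G _ _ hn hCN H _ hH
    by_cases hH1 : H = ⊥
    · subst hH1
      exact isCNGroup_of_mulEquiv (QuotientGroup.quotientBot (G := G)).symm hCN
    · obtain ⟨p, A, hp, hAn, hAH, hA1, hAc, hAp⟩ := exists_normal_abelian_pgroup_le H hH hH1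
      haveI := hAn
      haveI : Fact p.Prime := ⟨hp⟩
      have hCN1 := isCNGroup_quotient_abelian hCN p A hA1 hAc hAp
      have hcard : Nat.card (G ⧸ A) < n := by
        have h1 := Subgroup.card_eq_card_quotient_mul_card_subgroup A
        have h2 : Nat.card A ≠ 1 := fun h => hA1 (Subgroup.card_eq_one.mp h)
        have h3 : 0 < Nat.card A := Nat.card_pos
        have h4 : 0 < Nat.card (G ⧸ A) := Nat.card_pos
        rw [← hn, h1]
        have h5 : 2 ≤ Nat.card A := by omega
        calc Nat.card (G ⧸ A) < Nat.card (G ⧸ A) * 2 := by omega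
          _ ≤ Nat.card (G ⧸ A) * Nat.card A := Nat.mul_le_mul_left _ h5
      haveI : (H.map (QuotientGroup.mk' A)).Normal :=
        Subgroup.Normal.map inferInstance _ (QuotientGroup.mk'_surjective A)
      have hsolv : Group.IsSolvable (H.map (QuotientGroup.mk' A)) := by
        haveI := hH
        exact Group.isSolvable_of_surjective ((QuotientGroup.mk' A).subgroupMap_surjective H)
      have h5 := ih _ hcard (G ⧸ A) rfl hCN1 (H.map (QuotientGroup.mk' A)) hsolv
      exact isCNGroup_of_mulEquiv (QuotientGroup.quotientQuotientEquivQuotient A H hAH) h5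


/-- Let G be a finite group in which the centralizer of every non-identity element is nilpotent, and H a solvable normal subgroup of G. Then in G/H the centralizer of every non-identity element is nilpotent. -/
theorem result {G : Type*} [Group G] [Finite G] (hCN : Cfsg.IsCNGroup G) (H : Subgroup G) [H.Normal] (hH : Group.IsSolvable H) :
    Cfsg.IsCNGroup (G ⧸ H) := by
  exact main _ G rfl hCN H hH

end Cfsg.Agent.S1473
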