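import Cfsg.Statements.S1526
import Cfsg.Agent.S1524
import Cfsg.Agent.Lib.Lead.CNExc11
import Cfsg.Agent.Lib.Lead.CNEnd8
import Cfsg.Agent.Lib.Helper8.FrobKernel

set_option autoImplicit false
open Cfsg

namespace Cfsg.Agent.S1526

/-- Let G be a finite group of odd order and (L i, H i), i in a finite index type with at least two elements, pairs of subgroups with H i a nontrivial proper normal subgroup of L i such that every non-identity element of H i has its centraliser within L i contained in H i (L i is a Frobenius group with kernel H i), the orders of the H i pairwise coprime, and the underlying set of each H i a TI-subset of G with normaliser L i. If every non-identity element of G is conjugate to an element of some H i, we reach a contradiction. -/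
theorem result {G : Type*} [Group G] [Finite G] (hodd : Odd (Nat.card G)) {ι : Type*} [Fintype ι] (hι : 2 ≤ Fintype.card ι) (L H : ι → Subgroup G) (hHL : ∀ i, H i < L i) (hH1 : ∀ i, H i ≠ ⊥) (hHn : ∀ i, ∀ x ∈ L i, ∀ h ∈ H i, x * h * x⁻¹ ∈ H i) (hfrob : ∀ i, ∀ h ∈ H i, h ≠ 1 → L i ⊓ Subgroup.centralizer ({h} : Set G) ≤ H i) (hcop : ∀ i j, i ≠ j → Nat.Coprime (Nat.card (H i)) (Nat.card (H j))) (hTI : ∀ i, Cfsg.IsTISubset (H i : Set G) ∧ Subgroup.normalizer (H i : Set G) = L i) (hcover : ∀ g : G, g ≠ 1 → ∃ i, ∃ x : G, x * g * x⁻¹ ∈ H i) : False := by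
  classical
  letI : Fintype G := Fintype.ofFinite G
  have key : ∀ i, ∃ e w : ℕ, 3 ≤ e ∧ 2 ≤ w ∧ Nat.card (H i) = e * w + 1 ∧
      Nat.card (Subgroup.normalizer (H i : Set G)) = e * Nat.card (H i) ∧
      Nonempty (Cfsg.Agent.Lib.Lead.CNEnd.ExcData G (H i) e w) := by
    intro i
    obtain ⟨hTIi, hNi⟩ := hTI i
    obtain ⟨-, hnil, W₁, hW₁L, hW1, hinf, hsup, hfpf⟩ :=
      Cfsg.Agent.Lib.Helper8.FrobKernel.frob_kernel_structure (L i) (H i) (hHL i) (hHn i) (hfrob i)
    letI : Fintype (L i) := Fintype.ofFinite _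
    have hoddL : Odd (Nat.card (L i)) := Odd.of_dvd_nat hodd (Subgroup.card_subgroup_dvd_card _)
    have hcoh := Cfsg.Agent.S1524.result (H i) (L i) W₁ hoddL (hHL i).le hW₁L (hH1 i) hW1 hnil
      (hHn i) hinf hsup hfpf hTIi hNi
    haveI : Group.IsNilpotent (H i) := hnil
    exact Cfsg.Agent.Lib.Lead.CNExc.excData_of_coherent (H i) (L i) hodd hTIi hNi (hfrob i)
      inferInstance (hH1 i) (hHL i) hcoh
  choose e w he hw hcH hcN hD using key
  let F : Cfsg.Agent.Lib.Lead.CNEnd.Fam G ι :=
    { H := H, e := e, w := w, hTI := fun i => (hTI i).1, hcardH := hcH, hcardN := hcN,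
      he := he, hw2 := hw, hcop := hcop, hcover := hcover, D := fun i => (hD i).some }
  exact F.false_of hodd hι

end Cfsg.Agent.S1526
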