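import Cfsg.Statements.S0119
-- import your own Cfsg.Agent.* helpers here
import Cfsg.Agent.Lib.Helper1.SpecialCoprime

set_option autoImplicit false
open Cfsg

namespace Cfsg.Agent.S0119

/-- If a p'-group A of automorphisms of a p-group G satisfies G = [G, A] and acts trivially on every characteristic abelian subgroup, then G is special with centre equal to the fixed points of A. -/
theorem result {G : Type*} [Group G] [Finite G] {p : ℕ} [Fact p.Prime] (hG : IsPGroup p G) (A : Subgroup (MulAut G)) (hA : Nat.Coprime (Nat.card A) p) (hGA : Subgroup.closure {x : G | ∃ g : G, ∃ a ∈ A, x = g⁻¹ * a g} = ⊤) (hchar : ∀ H : Subgroup G, H.Characteristic → IsMulCommutative H → ∀ a ∈ A, ∀ h ∈ H, a h = h) : Cfsg.IsSpecial p G ∧ (∀ g : G, (g ∈ Subgroup.center G ↔ ∀ a ∈ A, a g = g)) := by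
  have hcent : ∀ H : Subgroup G, H.Characteristic → IsMulCommutative H →
      H ≤ Subgroup.center G := by
    intro H hHc hHab
    have : H.Normal := inferInstance
    exact Cfsg.Agent.Lib.Helper1.le_center_of_fixed_of_normal A hGA H (hchar H hHc hHab)
  have hcl : commutator G ≤ Subgroup.center G :=
    Cfsg.Agent.Lib.Helper1.commutator_le_center_of_char_abelian_central hG hcent
  have hZfix : ∀ g ∈ Subgroup.center G, ∀ a ∈ A, a g = g := fun g hg a ha =>
    hchar (Subgroup.center G) inferInstance inferInstance a ha g hg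
  have hfixZ : ∀ g : G, (∀ a ∈ A, a g = g) → g ∈ Subgroup.center G := fun g hg =>
    hcl (Cfsg.Agent.Lib.Helper1.fixed_mem_commutator hG A hA hGA g hg)
  have hcomm : commutator G = Subgroup.center G :=
    le_antisymm hcl (fun g hg =>
      Cfsg.Agent.Lib.Helper1.fixed_mem_commutator hG A hA hGA g (hZfix g hg))
  refine ⟨⟨hG, ?_, hcomm⟩, fun g => ⟨hZfix g, hfixZ g⟩⟩
  apply le_antisymm
  · have hker : (QuotientGroup.mk' (Subgroup.center G)).ker = Subgroup.center G :=
      QuotientGroup.ker_mk' _
    rw [← hker]
    apply Cfsg.Agent.Lib.Helper16.frattini_le_ker' (p := p)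
    · intro a b
      obtain ⟨x, rfl⟩ := QuotientGroup.mk_surjective a
      obtain ⟨y, rfl⟩ := QuotientGroup.mk_surjective b
      rw [← QuotientGroup.mk_mul, ← QuotientGroup.mk_mul, QuotientGroup.eq]
      apply hcl
      have : (x * y)⁻¹ * (y * x) = commutatorElement.bracket y⁻¹ x⁻¹ := by
        rw [commutatorElement_def]; group
      rw [this]
      exact Subgroup.commutator_mem_commutator (Subgroup.mem_top _) (Subgroup.mem_top _)
    · intro e
      obtain ⟨x, rfl⟩ := QuotientGroup.mk_surjective e
      rw [← QuotientGroup.mk_pow, QuotientGroup.eq_one_iff]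
      exact Cfsg.Agent.Lib.Helper1.pow_mem_center_of_char_abelian_central hG hcl hcent x
  · rw [← hcomm]
    exact Cfsg.Agent.Lib.Helper1.IsPGroup.commutator_le_frattini hG

end Cfsg.Agent.S0119
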