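import Cfsg.Statements.S3736
import Mathlib
import Cfsg.Agent.Lib.Helper17.CoprimeGen
import Cfsg.Agent.Lib.Helper17.Basic
import Cfsg.Agent.Lib.Helper1.CoprimeAbelian
import Cfsg.Agent.Lib.Helper1.SpecialCoprime
import Cfsg.Agent.Lib.Helper23.Class2
import Cfsg.Agent.S0119

set_option autoImplicit false
set_option linter.unusedSectionVars false
open Cfsg
open scoped commutatorElement

namespace Cfsg.Agent.S3736

open Cfsg.Agent.Lib.Helper1 Cfsg.Agent.Lib.Helper17 Subgroup

theorem le_normalizer_commutator'' {X : Type*} [Group X] {H U V : Subgroup X}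
    (hU : H ≤ normalizer (U : Set X)) (hV : H ≤ normalizer (V : Set X)) :
    H ≤ normalizer ((⁅U, V⁆ : Subgroup X) : Set X) := by
  intro g hg
  rw [mem_normalizer_iff_map_conj_eq, Subgroup.map_commutator,
    mem_normalizer_iff_map_conj_eq.mp (hU hg), mem_normalizer_iff_map_conj_eq.mp (hV hg)]

section
variable {X : Type*} [Group X] [Finite X] {p : ℕ} [Fact p.Prime] (B A P : Subgroup X)

theorem coprime_card (hP : IsPGroup p P) (hAp : (Nat.card A).Coprime p) :
    (Nat.card A).Coprime (Nat.card P) := by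
  obtain ⟨k, hk⟩ := IsPGroup.iff_card.mp hP
  rw [hk]
  exact Nat.Coprime.pow_right k hAp

/-- (1) `[P, A] = P`. -/
theorem commutator_eq_self (hP : IsPGroup p P) (hBP : B ≤ Subgroup.normalizer (P : Set X))
    (hAB : A ≤ B) (hAn : B ≤ Subgroup.normalizer (A : Set X)) (hAp : (Nat.card A).Coprime p)
    (hnt : ⁅P, A⁆ ≠ ⊥)
    (hmin : ∀ U : Subgroup X, U < P → B ≤ Subgroup.normalizer (U : Set X) → ⁅U, A⁆ = ⊥) :
    ⁅P, A⁆ = P := by
  have hAP : A ≤ normalizer (P : Set X) := hAB.trans hBP
  have hle : ⁅P, A⁆ ≤ P := commutator_le_of_le_normalizer hAP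
  by_contra hne
  have hlt : ⁅P, A⁆ < P := lt_of_le_of_ne hle hne
  have hBN : B ≤ normalizer ((⁅P, A⁆ : Subgroup X) : Set X) := le_normalizer_commutator'' hBP hAn
  have h1 := hmin _ hlt hBN
  have h2 : ⁅P, A⁆ ≤ centralizer (A : Set X) := Subgroup.commutator_eq_bot_iff_le_centralizer.mp h1
  have hcop := coprime_card A P hP hAp
  have hsolv : Group.IsSolvable ↥P := by
    have : Group.IsNilpotent ↥P := hP.isNilpotent
    infer_instance
  have h3 := le_centralizer_sup_commutator A P hAP hcop (Or.inr hsolv)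
  have h4 : P ≤ centralizer (A : Set X) := h3.trans (sup_le inf_le_right h2)
  exact hnt (Subgroup.commutator_eq_bot_iff_le_centralizer.mpr h4)

/-- A proper `B`-invariant subgroup of `P` is centralized by `A`, elementwise. -/
theorem comm_of_lt (hmin : ∀ U : Subgroup X, U < P → B ≤ Subgroup.normalizer (U : Set X) → ⁅U, A⁆ = ⊥)
    (U : Subgroup X) (hU : U < P) (hBU : B ≤ Subgroup.normalizer (U : Set X)) :
    ∀ u ∈ U, ∀ a ∈ A, a * u = u * a := by
  intro u hu a ha
  have h1 : U ≤ centralizer (A : Set X) :=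
    Subgroup.commutator_eq_bot_iff_le_centralizer.mp (hmin U hU hBU)
  exact (Subgroup.mem_centralizer_iff.mp (h1 hu)) a ha

/-- the elements of order dividing `p` in an abelian subgroup -/
def omegaSub (P : Subgroup X) [IsMulCommutative ↥P] (p : ℕ) : Subgroup X where
  carrier := {x | x ∈ P ∧ x ^ p = 1}
  one_mem' := ⟨P.one_mem, one_pow p⟩
  mul_mem' := by
    rintro x y ⟨hx, hxp⟩ ⟨hy, hyp⟩
    refine ⟨P.mul_mem hx hy, ?_⟩
    have hc : Commute x y := setLike_mul_comm hx hy
    rw [hc.mul_pow, hxp, hyp, one_mul]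
  inv_mem' := by
    rintro x ⟨hx, hxp⟩
    exact ⟨P.inv_mem hx, by rw [inv_pow, hxp, inv_one]⟩

/-- The abelian case. -/
theorem abelian_case (hP : IsPGroup p P) (hBP : B ≤ Subgroup.normalizer (P : Set X))
    (hAB : A ≤ B) (hAp : (Nat.card A).Coprime p)
    (hnt : ⁅P, A⁆ ≠ ⊥)
    (hmin : ∀ U : Subgroup X, U < P → B ≤ Subgroup.normalizer (U : Set X) → ⁅U, A⁆ = ⊥)
    (hPA : ⁅P, A⁆ = P) [hab : IsMulCommutative ↥P] :
    P ⊓ centralizer (A : Set X) = ⊥ ∧ ∀ x ∈ P, x ^ p = 1 := by
  have hp : p.Prime := Fact.out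
  have hAP : A ≤ normalizer (P : Set X) := hAB.trans hBP
  have hcop := coprime_card A P hP hAp
  have h0 := centralizer_inf_commutator_eq_bot A P hAP hcop
  rw [hPA, inf_eq_left.mpr (inf_le_left : P ⊓ centralizer (A : Set X) ≤ P)] at h0
  refine ⟨h0, ?_⟩
  have hΩP : omegaSub P p ≤ P := fun x hx => hx.1
  have hBΩ : B ≤ normalizer ((omegaSub P p : Subgroup X) : Set X) := by
    intro b hb
    apply Lib.Helper17.mem_normalizer_of_forall_conj_mem
    rintro x ⟨hx, hxp⟩
    refine ⟨Lib.Helper17.conj_mem_of_mem_normalizer (hBP hb) hx, ?_⟩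
    rw [conj_pow, hxp, mul_one, mul_inv_cancel]
  by_cases hΩ : omegaSub P p = P
  · intro x hx
    have : x ∈ omegaSub P p := by rw [hΩ]; exact hx
    exact this.2
  · exfalso
    have hlt : omegaSub P p < P := lt_of_le_of_ne hΩP hΩ
    have hc := comm_of_lt B A P hmin _ hlt hBΩ
    have hΩbot : omegaSub P p ≤ ⊥ := by
      rw [← h0]
      intro x hx
      refine ⟨hx.1, ?_⟩
      show x ∈ centralizer (A : Set X)
      rw [Subgroup.mem_centralizer_iff]
      intro a ha
      exact hc x hx a ha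
    -- but `P` has an element of order `p`
    have hPne : P ≠ ⊥ := by
      intro h
      apply hnt
      rw [h, Subgroup.commutator_bot_left]
    have hpd : p ∣ Nat.card ↥P := by
      obtain ⟨k, hk⟩ := IsPGroup.iff_card.mp hP
      rcases Nat.eq_zero_or_pos k with h0' | hpos
      · exfalso
        apply hPne
        apply Subgroup.eq_bot_of_card_eq
        rw [hk, h0', pow_zero]
      · rw [hk]; exact dvd_pow_self p hpos.ne'
    obtain ⟨x, hx⟩ := exists_prime_orderOf_dvd_card' p hpd
    have hx1 : (x : X) ∈ omegaSub P p := by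
      refine ⟨x.2, ?_⟩
      have h1 : x ^ p = 1 := by rw [← hx]; exact pow_orderOf_eq_one x
      have h2 := congrArg Subtype.val h1
      simpa using h2
    have hx2 : (x : X) = 1 := Subgroup.mem_bot.mp (hΩbot hx1)
    have hx3 : x = 1 := Subtype.ext hx2
    rw [hx3, orderOf_one] at hx
    exact hp.one_lt.ne hx

/-- the action of `A` on `P` by conjugation -/
noncomputable def actHom (hAP : A ≤ normalizer (P : Set X)) : ↥A →* MulAut ↥P :=
  (P.normalizerMonoidHom).comp (Subgroup.inclusion hAP)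

theorem actHom_apply (hAP : A ≤ normalizer (P : Set X)) (a : ↥A) (x : ↥P) :
    ((actHom A P hAP a x : ↥P) : X) = (a : X) * (x : X) * (a : X)⁻¹ := rfl

/-- `P = [P, A]` in the form required by S0119. -/
theorem closure_eq_top (hAP : A ≤ normalizer (P : Set X)) (hPA : ⁅P, A⁆ = P) :
    Subgroup.closure {x : ↥P | ∃ g : ↥P, ∃ a ∈ (actHom A P hAP).range, x = g⁻¹ * a g} = ⊤ := by
  have hle : ⁅P, A⁆ ≤ (Subgroup.closure {x : ↥P | ∃ g : ↥P, ∃ a ∈ (actHom A P hAP).range,
      x = g⁻¹ * a g}).map P.subtype := by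
    rw [Subgroup.commutator_le]
    intro g hg a ha
    have hmem : ⁅g, a⁆ ∈ P := by
      rw [← hPA]; exact Subgroup.commutator_mem_commutator hg ha
    refine ⟨⟨⁅g, a⁆, hmem⟩, Subgroup.subset_closure ?_, rfl⟩
    refine ⟨⟨g⁻¹, P.inv_mem hg⟩, actHom A P hAP ⟨a, ha⟩, ⟨_, rfl⟩, ?_⟩
    apply Subtype.ext
    simp only [Subgroup.coe_mul, Subgroup.coe_inv, actHom_apply, commutatorElement_def]
    group
  rw [eq_top_iff]
  intro x _
  have hx : (x : X) ∈ ⁅P, A⁆ := by rw [hPA]; exact x.2
  obtain ⟨y, hy, hyx⟩ := hle hx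
  have : y = x := Subtype.ext hyx
  rw [← this]; exact hy

/-- The non-abelian case. -/
theorem nonabelian_case (hP : IsPGroup p P) (hBP : B ≤ Subgroup.normalizer (P : Set X))
    (hAB : A ≤ B) (hAp : (Nat.card A).Coprime p)
    (hmin : ∀ U : Subgroup X, U < P → B ≤ Subgroup.normalizer (U : Set X) → ⁅U, A⁆ = ⊥)
    (hPA : ⁅P, A⁆ = P) (hnab : ¬ IsMulCommutative ↥P) :
    Cfsg.IsSpecial p ↥P ∧ (∀ g : ↥P, g ∈ Subgroup.center ↥P ↔ ∀ a ∈ A, a * (g : X) = (g : X) * a) ∧
      (p ≠ 2 → ∀ x ∈ P, x ^ p = 1) := by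
  have hp : p.Prime := Fact.out
  have hAP : A ≤ normalizer (P : Set X) := hAB.trans hBP
  have hĀ : (Nat.card ↥(actHom A P hAP).range).Coprime p :=
    Nat.Coprime.coprime_dvd_left (Subgroup.card_range_dvd _) hAp
  have hGA := closure_eq_top A P hAP hPA
  have hfix : ∀ x : ↥P, (∀ a ∈ (actHom A P hAP).range, a x = x) ↔
      ∀ a ∈ A, a * (x : X) = (x : X) * a := by
    intro x
    constructor
    · intro h a ha
      have h1 := h (actHom A P hAP ⟨a, ha⟩) ⟨_, rfl⟩
      have h2 := congrArg Subtype.val h1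
      rw [actHom_apply] at h2
      exact mul_inv_eq_iff_eq_mul.mp h2
    · rintro h _ ⟨a, rfl⟩
      apply Subtype.ext
      rw [actHom_apply]
      exact mul_inv_eq_iff_eq_mul.mpr (h a a.2)
  have hchar : ∀ H : Subgroup ↥P, H.Characteristic → IsMulCommutative H →
      ∀ a ∈ (actHom A P hAP).range, ∀ h ∈ H, a h = h := by
    intro H hHc hHab
    have hHtop : H ≠ ⊤ := by
      intro h
      apply hnab
      constructor
      constructor
      intro x y
      have hx : x ∈ H := by rw [h]; exact Subgroup.mem_top x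
      have hy : y ∈ H := by rw [h]; exact Subgroup.mem_top y
      exact setLike_mul_comm hx hy
    have hlt : H.map P.subtype < P := by
      refine lt_of_le_of_ne (Subgroup.map_subtype_le H) ?_
      intro h
      apply hHtop
      rw [eq_top_iff]
      intro x _
      have hx : (x : X) ∈ H.map P.subtype := by rw [h]; exact x.2
      obtain ⟨y, hy, hyx⟩ := hx
      have : y = x := Subtype.ext hyx
      rw [← this]; exact hy
    have hBH : B ≤ normalizer ((H.map P.subtype : Subgroup X) : Set X) :=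
      hBP.trans (normalizer_le_normalizer_map_subtype_of_characteristic P H)
    have hc := comm_of_lt B A P hmin _ hlt hBH
    intro a ha h hh
    exact (hfix h).mpr (fun a' ha' => hc (h : X) ⟨h, hh, rfl⟩ a' ha') a ha
  obtain ⟨hsp, hcen⟩ := Cfsg.Agent.S0119.result hP (actHom A P hAP).range hĀ hGA hchar
  refine ⟨hsp, fun g => (hcen g).trans (hfix g), ?_⟩
  intro hp2
  have hcl : commutator ↥P ≤ center ↥P := hsp.2.2.le
  have hcent : ∀ H : Subgroup ↥P, H.Characteristic → IsMulCommutative H → H ≤ center ↥P := by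
    intro H hc hab h hh
    rw [hcen]
    intro a ha
    exact hchar H hc hab a ha h hh
  have hpow : ∀ y : ↥P, y ^ p ∈ center ↥P :=
    pow_mem_center_of_char_abelian_central hP hcl hcent
  have hmulpow : ∀ a b : ↥P, (a * b) ^ p = a ^ p * b ^ p := by
    intro a b
    have hc : ⁅b, a⁆ ∈ center ↥P := by
      apply hcl
      rw [commutator_def]
      exact Subgroup.commutator_mem_commutator (Subgroup.mem_top b) (Subgroup.mem_top a)
    rw [Lib.Helper23.mul_pow_of_central_commutator a b hc p]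
    have h1 : ⁅b, a⁆ ^ p = 1 := by
      rw [← Lib.Helper23.commutatorElement_pow_left_of_central b a hc p,
        commutatorElement_eq_one_iff_mul_comm]
      exact (Subgroup.mem_center_iff.mp (hpow b) a).symm
    have h2 : p ∣ p.choose 2 := by
      apply Nat.Prime.dvd_choose_self hp (by norm_num)
      have := hp.two_le
      omega
    obtain ⟨m, hm⟩ := h2
    rw [hm, pow_mul, h1, one_pow, mul_one]
  let φ : ↥P →* ↥P :=
    { toFun := fun x => x ^ p
      map_one' := one_pow p
      map_mul' := hmulpow }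
  have hker : (⊤ : Subgroup ↥P) ≤ φ.ker := by
    rw [← hGA, Subgroup.closure_le]
    rintro _ ⟨g, a, ha, rfl⟩
    show φ (g⁻¹ * a g) = 1
    show (g⁻¹ * a g) ^ p = 1
    rw [hmulpow, inv_pow, ← map_pow, (hcen _).mp (hpow g) a ha, inv_mul_cancel]
  intro x hx
  have h1 : φ ⟨x, hx⟩ = 1 := hker (Subgroup.mem_top _)
  have h2 : (⟨x, hx⟩ : ↥P) ^ p = 1 := h1
  have h3 := congrArg Subtype.val h2
  simpa using h3

end

/-- The Hall–Higman reduction for a minimal non-trivial action. Let B, A and P be subgroups of a finite group with P a p-group, B normalizing P, and A a normal subgroup of B of order prime to p. Suppose A does not centralize P but centralizes every proper B-invariant subgroup of P. Then [P, A] = P; P is elementary abelian or special; B acts irreducibly on P/Φ(P), that is, the only B-invariant subgroups of P containing Φ(P) are Φ(P) and P; and if p is odd then every element of P has order dividing p. -/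
theorem result {X : Type*} [Group X] [Finite X] {p : ℕ} [Fact p.Prime] (B A P : Subgroup X) (hP : IsPGroup p P) (hBP : B ≤ Subgroup.normalizer (P : Set X)) (hAB : A ≤ B) (hAn : B ≤ Subgroup.normalizer (A : Set X)) (hAp : (Nat.card A).Coprime p) (hnt : ⁅P, A⁆ ≠ ⊥) (hmin : ∀ U : Subgroup X, U < P → B ≤ Subgroup.normalizer (U : Set X) → ⁅U, A⁆ = ⊥) : ⁅P, A⁆ = P ∧ (Cfsg.IsElementaryAbelian p P ∨ Cfsg.IsSpecial p ↥P) ∧ (∀ U : Subgroup X, (frattini ↥P).map P.subtype ≤ U → U ≤ P → B ≤ Subgroup.normalizer (U : Set X) → U = (frattini ↥P).map P.subtype ∨ U = P) ∧ (p ≠ 2 → ∀ x ∈ P, x ^ p = 1) := by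
  have hPA := commutator_eq_self B A P hP hBP hAB hAn hAp hnt hmin
  refine ⟨hPA, ?_⟩
  by_cases hab : IsMulCommutative ↥P
  · obtain ⟨h0, hexp⟩ := abelian_case B A P hP hBP hAB hAp hnt hmin hPA
    refine ⟨Or.inl ⟨hab, hexp⟩, ?_, fun _ => hexp⟩
    intro U hΦU hUP hBU
    by_cases hU : U = P
    · exact Or.inr hU
    · left
      have hlt : U < P := lt_of_le_of_ne hUP hU
      have hc := comm_of_lt B A P hmin U hlt hBU
      have hUbot : U ≤ ⊥ := by
        rw [← h0]
        intro u hu
        refine ⟨hUP hu, ?_⟩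
        show u ∈ Subgroup.centralizer (A : Set X)
        rw [Subgroup.mem_centralizer_iff]
        exact fun a ha => hc u hu a ha
      exact le_antisymm (hUbot.trans bot_le) hΦU
  · obtain ⟨hsp, hcen, hexp⟩ := nonabelian_case B A P hP hBP hAB hAp hmin hPA hab
    refine ⟨Or.inr hsp, ?_, hexp⟩
    intro U hΦU hUP hBU
    by_cases hU : U = P
    · exact Or.inr hU
    · left
      have hlt : U < P := lt_of_le_of_ne hUP hU
      have hc := comm_of_lt B A P hmin U hlt hBU
      refine le_antisymm ?_ hΦU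
      intro u hu
      have h1 : (⟨u, hUP hu⟩ : ↥P) ∈ Subgroup.center ↥P := (hcen _).mpr (fun a ha => hc u hu a ha)
      rw [← hsp.2.1] at h1
      exact ⟨_, h1, rfl⟩

end Cfsg.Agent.S3736

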