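import Cfsg.Statements.S4116
import Cfsg.Agent.Lib.Helper29.TIHall
import Cfsg.Agent.Lib.Helper29.Frobenius

set_option autoImplicit false
open Cfsg

namespace Cfsg.Agent.S4116

open Subgroup Cfsg.Agent.Lib.Helper29

section

variable {G : Type*} [Group G] [Finite G] (H : Subgroup G)
  (hHall : (Nat.card H).Coprime H.index) (hTI : Cfsg.IsTISubset (H : Set G))

include hTI in
omit [Finite G] in
/-- two conjugates of `H` sharing a nonidentity element coincide -/
theorem conj_eq_of_common (a b y : G) (hy1 : y ≠ 1) (ha : a⁻¹ * y * a ∈ H) (hb : b⁻¹ * y * b ∈ H) :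
    ∀ w : G, a⁻¹ * w * a ∈ H ↔ b⁻¹ * w * b ∈ H := by
  have hx1 : a⁻¹ * y * a ≠ 1 := by
    intro h
    apply hy1
    have := congrArg (fun t => a * t * a⁻¹) h
    simpa [mul_assoc] using this
  have hg : b⁻¹ * a ∈ normalizer (H : Set G) := by
    by_contra hg
    apply hx1
    apply hTI (b⁻¹ * a) hg _ ha
    have e : b⁻¹ * a * (a⁻¹ * y * a) * (b⁻¹ * a)⁻¹ = b⁻¹ * y * b := by group
    rw [e]; exact hb
  intro w
  have := Subgroup.mem_normalizer_iff.mp hg (a⁻¹ * w * a)
  have e : b⁻¹ * a * (a⁻¹ * w * a) * (b⁻¹ * a)⁻¹ = b⁻¹ * w * b := by group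
  rw [e] at this
  exact this

include hHall hTI in
/-- every `π(H)`-element lies in a conjugate of `H` -/
theorem exists_conj_mem (y : G) (hpi : ∀ q : ℕ, q.Prime → q ∣ orderOf y → q ∣ Nat.card H) :
    ∃ g : G, g⁻¹ * y * g ∈ H := by
  by_cases hy1 : orderOf y = 1
  · refine ⟨1, ?_⟩
    rw [orderOf_eq_one_iff.mp hy1]; simp
  obtain ⟨q, hq, hqd⟩ := Nat.exists_prime_and_dvd hy1
  have : Fact q.Prime := ⟨hq⟩
  have hqH := hpi q hq hqd
  set z := y ^ (orderOf y / q) with hz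
  have hzo : orderOf z = q := orderOf_pow_orderOf_div (orderOf_pos y).ne' hqd
  have hz1 : z ≠ 1 := by
    intro h
    rw [h, orderOf_one] at hzo
    exact hq.ne_one hzo.symm
  have hyz : y * z * y⁻¹ = z := by
    rw [hz, ← pow_succ', pow_succ, mul_inv_cancel_right]
  obtain ⟨SH⟩ : Nonempty (Sylow q H) := inferInstance
  have hidx := not_dvd_index_map_sylow_of_hall H hHall hqH SH
  have hpg : IsPGroup q ((SH : Subgroup H).map H.subtype) := SH.2.map _
  have hzp : IsPGroup q (zpowers z) := by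
    apply IsPGroup.of_card (n := 1)
    rw [Nat.card_zpowers, hzo, pow_one]
  obtain ⟨S', hS'⟩ := hzp.exists_le_sylow
  obtain ⟨g, hg⟩ := MulAction.exists_smul_eq G (hpg.toSylow hidx) S'
  have hzS : z ∈ (g • (hpg.toSylow hidx) : Sylow q G) := by
    rw [hg]; exact hS' (Subgroup.mem_zpowers z)
  have hzH : g⁻¹ * z * g ∈ H :=
    Subgroup.map_subtype_le _ ((mem_smul_sylow_iff g z _).mp hzS)
  have hh1 : g⁻¹ * z * g ≠ 1 := by
    intro h
    apply hz1
    have := congrArg (fun t => g * t * g⁻¹) h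
    simpa [mul_assoc] using this
  refine ⟨g, ?_⟩
  have hN : g⁻¹ * y * g ∈ normalizer (H : Set G) := by
    by_contra hN
    apply hh1
    apply hTI _ hN _ hzH
    have e : g⁻¹ * y * g * (g⁻¹ * z * g) * (g⁻¹ * y * g)⁻¹ = g⁻¹ * (y * z * y⁻¹) * g := by group
    rw [e, hyz]; exact hzH
  apply mem_of_mem_normalizer_of_primes H hHall _ hN
  have hord : orderOf (g⁻¹ * y * g) = orderOf y := by
    have := (MulAut.conj g⁻¹).orderOf_eq y
    rwa [MulAut.conj_apply, inv_inv] at this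
  rw [hord]; exact hpi

end

theorem result {G : Type*} [Group G] [Finite G] (H : Subgroup G)
    (hHall : (Nat.card H).Coprime H.index) (hTI : Cfsg.IsTISubset (H : Set G))
    (K : Subgroup G) (hK : ∀ q : ℕ, q.Prime → q ∣ Nat.card K → q ∣ Nat.card H) :
    ∃ g : G, K ≤ H.map (MulAut.conj g).toMonoidHom := by
  classical
  by_contra hcon
  push Not at hcon
  -- elements of `K` are `π(H)`-elements
  have hKpi : ∀ k : K, ∀ q : ℕ, q.Prime → q ∣ orderOf (k : G) → q ∣ Nat.card H := by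
    intro k q hq hqd
    exact hK q hq (hqd.trans (Subgroup.orderOf_dvd_natCard K k.2))
  -- the components
  let Aa : G → Subgroup K := fun a => H.comap ((MulAut.conj a⁻¹).toMonoidHom.comp K.subtype)
  have hmem : ∀ (a : G) (k : K), k ∈ Aa a ↔ a⁻¹ * (k : G) * a ∈ H := by
    intro a k
    show (MulAut.conj a⁻¹) (k : G) ∈ H ↔ _
    rw [MulAut.conj_apply, inv_inv]
  have hAtop : ∀ a, Aa a ≠ ⊤ := by
    intro a h
    apply hcon a
    intro k hk
    have h1 : (⟨k, hk⟩ : K) ∈ Aa a := by rw [h]; exact Subgroup.mem_top _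
    rw [hmem] at h1
    refine Subgroup.mem_map.mpr ⟨_, h1, ?_⟩
    simp [MulAut.conj_apply, mul_assoc]
  -- the TI property of the components
  have hAti : ∀ a : G, ∀ k : K, (∃ w ∈ Aa a, w ≠ 1 ∧ k * w * k⁻¹ ∈ Aa a) → k ∈ Aa a := by
    rintro a k ⟨w, hw, hw1, hkw⟩
    rw [hmem] at hw hkw ⊢
    have hx1 : a⁻¹ * (w : G) * a ≠ 1 := by
      intro h
      apply hw1
      have := congrArg (fun t => a * t * a⁻¹) h
      have h2 : (w : G) = 1 := by simpa [mul_assoc] using this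
      exact Subtype.ext h2
    have hN : a⁻¹ * (k : G) * a ∈ normalizer (H : Set G) := by
      by_contra hN
      apply hx1
      apply hTI _ hN _ hw
      have e : a⁻¹ * (k : G) * a * (a⁻¹ * (w : G) * a) * (a⁻¹ * (k : G) * a)⁻¹
          = a⁻¹ * ((k * w * k⁻¹ : K) : G) * a := by
        simp only [Subgroup.coe_mul, Subgroup.coe_inv]; group
      rw [e]; exact hkw
    apply mem_of_mem_normalizer_of_primes H hHall _ hN
    have hord : orderOf (a⁻¹ * (k : G) * a) = orderOf (k : G) := by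
      have := (MulAut.conj a⁻¹).orderOf_eq (k : G)
      rwa [MulAut.conj_apply, inv_inv] at this
    rw [hord]; exact hKpi k
  -- `K` is not trivial
  obtain ⟨y₀, hy₀⟩ : ∃ y₀ : K, y₀ ≠ 1 := by
    by_contra hno
    push Not at hno
    apply hcon 1
    intro k hk
    have : (⟨k, hk⟩ : K) = 1 := hno _
    have hk1 : k = 1 := congrArg Subtype.val this
    rw [hk1]; exact Subgroup.one_mem _
  set n := Nat.card K with hn
  -- counting facts for a component
  have hcount : ∀ a : G, Aa a ≠ ⊥ →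
      ({y : K | ∃ k : K, ∃ w ∈ Aa a, w ≠ 1 ∧ y = k * w * k⁻¹} : Set K).ncard = n - (Aa a).index ∧
        2 * (Aa a).index ≤ n ∧ 2 ≤ (Aa a).index := by
    intro a hbot
    have h1 := card_conj_union_of_ti (Aa a) (hAti a)
    have h2 : 2 ≤ Nat.card (Aa a) := (Subgroup.one_lt_card_iff_ne_bot (Aa a)).mpr hbot
    have h3 : (Aa a).index * Nat.card (Aa a) = n := Subgroup.index_mul_card (Aa a)
    have h4 : (Aa a).index ≠ 1 := fun h => hAtop a (Subgroup.index_eq_one.mp h)
    have h5 : (Aa a).index ≠ 0 := Subgroup.index_ne_zero_of_finite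
    refine ⟨?_, ?_, by omega⟩
    · rw [← Nat.card_coe_set_eq]
      rw [Set.coe_ofPred, h1, Nat.mul_sub_one, h3]
    · calc 2 * (Aa a).index = (Aa a).index * 2 := by ring
        _ ≤ (Aa a).index * Nat.card (Aa a) := Nat.mul_le_mul_left _ h2
        _ = n := h3
  have hsub : ∀ a : G,
      ({y : K | ∃ k : K, ∃ w ∈ Aa a, w ≠ 1 ∧ y = k * w * k⁻¹} : Set K) ⊆ ({1}ᶜ : Set K) := by
    rintro a y ⟨k, w, _, hw1, rfl⟩
    rw [Set.mem_compl_iff, Set.mem_singleton_iff]
    intro h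
    apply hw1
    have := congrArg (fun t => k⁻¹ * t * k) h
    simpa [mul_assoc] using this
  have hcompl : ({1}ᶜ : Set K).ncard = n - 1 := by
    rw [Set.ncard_compl, Set.ncard_singleton]
  -- first component
  obtain ⟨a, ha⟩ := exists_conj_mem H hHall hTI (y₀ : G) (hKpi y₀)
  have hAbot : Aa a ≠ ⊥ := by
    intro h
    have h1 : y₀ ∈ Aa a := (hmem a y₀).mpr ha
    rw [h, Subgroup.mem_bot] at h1
    exact hy₀ h1
  obtain ⟨hA1, hA2, hA3⟩ := hcount a hAbot
  -- an element outside the conjugates of the first component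
  obtain ⟨y₁, hy₁1, hy₁U⟩ : ∃ y₁ : K, y₁ ≠ 1 ∧
      y₁ ∉ ({y : K | ∃ k : K, ∃ w ∈ Aa a, w ≠ 1 ∧ y = k * w * k⁻¹} : Set K) := by
    by_contra hno
    push Not at hno
    have hsup : ({1}ᶜ : Set K) ⊆
        ({y : K | ∃ k : K, ∃ w ∈ Aa a, w ≠ 1 ∧ y = k * w * k⁻¹} : Set K) := by
      intro y hy
      exact hno y hy
    have := Set.ncard_le_ncard hsup (Set.toFinite _)
    rw [hcompl, hA1] at this
    omega
  obtain ⟨b, hb⟩ := exists_conj_mem H hHall hTI (y₁ : G) (hKpi y₁)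
  have hy₁B : y₁ ∈ Aa b := (hmem b y₁).mpr hb
  have hBbot : Aa b ≠ ⊥ := by
    intro h
    rw [h, Subgroup.mem_bot] at hy₁B
    exact hy₁1 hy₁B
  obtain ⟨hB1, hB2, hB3⟩ := hcount b hBbot
  -- the two families are disjoint
  have hdisj : Disjoint
      ({y : K | ∃ k : K, ∃ w ∈ Aa a, w ≠ 1 ∧ y = k * w * k⁻¹} : Set K)
      ({y : K | ∃ k : K, ∃ w ∈ Aa b, w ≠ 1 ∧ y = k * w * k⁻¹} : Set K) := by
    rw [Set.disjoint_left]
    rintro y ⟨k, w, hw, hw1, hyk⟩ ⟨k', w', hw', hw'1, hyk'⟩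
    apply hy₁U
    have hyne : (y : G) ≠ 1 := by
      intro h
      apply hw1
      have h2 : y = 1 := Subtype.ext h
      rw [h2] at hyk
      have := congrArg (fun t => k⁻¹ * t * k) hyk
      simpa [mul_assoc] using this.symm
    have h1 : ((k : G) * a)⁻¹ * (y : G) * ((k : G) * a) ∈ H := by
      have e : ((k : G) * a)⁻¹ * (y : G) * ((k : G) * a) = a⁻¹ * (w : G) * a := by
        rw [hyk]; simp only [Subgroup.coe_mul, Subgroup.coe_inv]; group
      rw [e]; exact (hmem a w).mp hw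
    have h2 : ((k' : G) * b)⁻¹ * (y : G) * ((k' : G) * b) ∈ H := by
      have e : ((k' : G) * b)⁻¹ * (y : G) * ((k' : G) * b) = b⁻¹ * (w' : G) * b := by
        rw [hyk']; simp only [Subgroup.coe_mul, Subgroup.coe_inv]; group
      rw [e]; exact (hmem b w').mp hw'
    have h3 := conj_eq_of_common H hTI _ _ (y : G) hyne h1 h2
    have h4 : ((k' : G) * b)⁻¹ * ((k' : G) * (y₁ : G) * (k' : G)⁻¹) * ((k' : G) * b) ∈ H := by
      have e : ((k' : G) * b)⁻¹ * ((k' : G) * (y₁ : G) * (k' : G)⁻¹) * ((k' : G) * b)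
          = b⁻¹ * (y₁ : G) * b := by group
      rw [e]; exact hb
    have h5 := (h3 _).mpr h4
    refine ⟨k'⁻¹ * k, k⁻¹ * k' * y₁ * k'⁻¹ * k, ?_, ?_, ?_⟩
    · rw [hmem]
      have e : a⁻¹ * ((k⁻¹ * k' * y₁ * k'⁻¹ * k : K) : G) * a
          = ((k : G) * a)⁻¹ * ((k' : G) * (y₁ : G) * (k' : G)⁻¹) * ((k : G) * a) := by
        simp only [Subgroup.coe_mul, Subgroup.coe_inv]; group
      rw [e]; exact h5
    · intro h
      apply hy₁1
      have := congrArg (fun t => k'⁻¹ * k * t * k⁻¹ * k') h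
      simpa [mul_assoc] using this
    · group
  have hunion := Set.ncard_union_eq hdisj (Set.toFinite _) (Set.toFinite _)
  have hle := Set.ncard_le_ncard (Set.union_subset (hsub a) (hsub b)) (Set.toFinite _)
  rw [hunion, hcompl, hA1, hB1] at hle
  omega

end Cfsg.Agent.S4116
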