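import Cfsg.Statements.S3909
import Mathlib

set_option autoImplicit false
open Cfsg

namespace Cfsg.Agent.S3909

/-- Let G be a finite group in which any two abelian subgroups of the same order are conjugate. Let M be a normal subgroup of G. If M contains an element of the same order as a ∈ G, then a ∈ M; and if M is elementary abelian of order p^t with p prime and t ≥ 2, then M is the unique Sylow p-subgroup of G. -/
theorem result {G : Type*} [Group G] [Finite G] (hB : ∀ A B : Subgroup G, IsMulCommutative ↥A → IsMulCommutative ↥B → Nat.card ↥A = Nat.card ↥B → ∃ g : G, B = A.map (MulAut.conj g).toMonoidHom) (M : Subgroup G) [M.Normal] :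
    (∀ a : G, (∃ m ∈ M, orderOf m = orderOf a) → a ∈ M) ∧
    ∀ (p t : ℕ) [Fact p.Prime], 2 ≤ t → Nat.card ↥M = p ^ t → Cfsg.IsElementaryAbelian p M → ∀ P : Sylow p G, (P : Subgroup G) = M := by
  classical
  have partA : ∀ a : G, (∃ m ∈ M, orderOf m = orderOf a) → a ∈ M := by
    rintro a ⟨m, hm, hma⟩
    obtain ⟨g, hg⟩ := hB (Subgroup.zpowers m) (Subgroup.zpowers a) inferInstance inferInstance
      (by rw [Nat.card_zpowers, Nat.card_zpowers, hma])
    have ha : a ∈ Subgroup.zpowers a := Subgroup.mem_zpowers a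
    rw [hg] at ha
    obtain ⟨u, hu, rfl⟩ := ha
    have huM : u ∈ M := (Subgroup.zpowers_le.mpr hm) hu
    simp only [MulEquiv.coe_toMonoidHom, MulAut.conj_apply]
    exact ‹M.Normal›.conj_mem u huM g
  refine ⟨partA, ?_⟩
  intro p t _ ht hcard hM P
  have hp : p.Prime := Fact.out
  have hMp : IsPGroup p M := IsPGroup.of_card hcard
  have hMP : M ≤ (P : Subgroup G) := hMp.le_sylow_of_normal P
  by_contra hne
  have hlt : M < (P : Subgroup G) := lt_of_le_of_ne hMP (Ne.symm hne)
  obtain ⟨x, hxP, hxM⟩ := SetLike.exists_of_lt hlt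
  -- order of x
  obtain ⟨k, hk⟩ := (IsPGroup.iff_orderOf.mp P.2) ⟨x, hxP⟩
  rw [Subgroup.orderOf_mk] at hk
  -- a nonidentity element of M, of order p
  have hMcard1 : 1 < Nat.card M := by
    rw [hcard]
    exact Nat.one_lt_pow (by omega) hp.one_lt
  haveI : Nontrivial M := Finite.one_lt_card_iff_nontrivial.mp hMcard1
  obtain ⟨m₀, hm₀⟩ := exists_ne (1 : M)
  have hm₀' : (m₀ : G) ≠ 1 := fun h => hm₀ (Subtype.ext h)
  have hord₀ : orderOf (m₀ : G) = p := orderOf_eq_prime (hM.2 _ m₀.2) hm₀'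
  have hk2 : 2 ≤ k := by
    by_contra hk2
    push Not at hk2
    interval_cases k
    · rw [pow_zero, orderOf_eq_one_iff] at hk
      exact hxM (hk ▸ M.one_mem)
    · rw [pow_one] at hk
      exact hxM (partA x ⟨m₀, m₀.2, hord₀.trans hk.symm⟩)
  set z := x ^ (p ^ (k - 2)) with hz
  have hzord : orderOf z = p ^ 2 := by
    rw [hz, orderOf_pow' x (pow_ne_zero _ hp.ne_zero), hk,
      Nat.gcd_eq_right (pow_dvd_pow p (Nat.sub_le k 2)), Nat.pow_div (Nat.sub_le k 2) hp.pos]
    congr 1
    omega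
  -- a subgroup of M of order p ^ 2
  have hdvd : p ^ 2 ∣ Nat.card M := by
    rw [hcard]; exact pow_dvd_pow p ht
  obtain ⟨H, hH⟩ := Sylow.exists_subgroup_card_pow_prime p hdvd
  haveI : IsMulCommutative M := hM.1
  have hH' : Nat.card (H.map M.subtype) = p ^ 2 := by
    rw [Subgroup.card_subtype, hH]
  obtain ⟨g, hg⟩ := hB (Subgroup.zpowers z) (H.map M.subtype) inferInstance inferInstance
    (by rw [Nat.card_zpowers, hzord, hH'])
  have hgz : g * z * g⁻¹ ∈ H.map M.subtype := by
    rw [hg]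
    exact ⟨z, Subgroup.mem_zpowers z, rfl⟩
  have hgzM : g * z * g⁻¹ ∈ M := by
    obtain ⟨u, _, hu⟩ := hgz
    rw [← hu]
    exact u.2
  have h1 : (g * z * g⁻¹) ^ p = 1 := hM.2 _ hgzM
  have h2 : z ^ p = 1 := by
    have : (g * z * g⁻¹) ^ p = g * z ^ p * g⁻¹ := conj_pow
    rw [this] at h1
    have := congrArg (fun w => g⁻¹ * w * g) h1
    simpa [mul_assoc] using this
  have h3 : p ^ 2 ∣ p := by
    rw [← hzord]
    exact orderOf_dvd_of_pow_eq_one h2
  have := Nat.le_of_dvd hp.pos h3
  have := hp.one_lt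
  nlinarith

end Cfsg.Agent.S3909
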