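import Cfsg.Statements.S3908
-- import your own Cfsg.Agent.* helpers here
import Mathlib
import Cfsg.Agent.S0016

set_option autoImplicit false
open Cfsg

namespace Cfsg.Agent.S3908

theorem exists_noncyclic_abelian_of_two_subgroups {L : Type*} [Group L] [Finite L] (p : ℕ)
    [hp : Fact p.Prime] (hL : IsPGroup p L) (H K : Subgroup L) (hH : Nat.card H = p)
    (hK : Nat.card K = p) (hHK : H ≠ K) :
    ∃ E : Subgroup L, IsMulCommutative E ∧ Nat.card E = p ^ 2 ∧ ∀ e ∈ E, e ^ p = 1 := by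
  haveI : Nontrivial L := by
    have h1 : 1 < Nat.card H := by rw [hH]; exact hp.out.one_lt
    have h2 : Nat.card H ≤ Nat.card L := Subgroup.card_le_card_group H
    exact Finite.one_lt_card_iff_nontrivial.mp (lt_of_lt_of_le h1 h2)
  haveI := hL.center_nontrivial
  have hcp : p ∣ Nat.card (Subgroup.center L) := by
    have hc : IsPGroup p (Subgroup.center L) := hL.to_subgroup _
    rcases hc.card_eq_or_dvd with h | h
    · exfalso
      have := Finite.one_lt_card_iff_nontrivial.mpr (inferInstance : Nontrivial (Subgroup.center L))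
      omega
    · exact h
  obtain ⟨z, hz⟩ := exists_prime_orderOf_dvd_card' p hcp
  have hzc : ∀ g : L, g * (z : L) = (z : L) * g := fun g => (Subgroup.mem_center_iff.mp z.2 g)
  have hzord : orderOf (z : L) = p := by rw [Subgroup.orderOf_coe, hz]
  obtain ⟨Z, hZ⟩ : ∃ Z : Subgroup L, Z = Subgroup.zpowers (z : L) := ⟨_, rfl⟩
  have hZcent : ∀ n ∈ Z, ∀ g : L, g * n = n * g := by
    intro n hn g
    rw [hZ] at hn
    obtain ⟨k, rfl⟩ := Subgroup.mem_zpowers_iff.mp hn
    exact ((show Commute g (z : L) from hzc g).zpow_right k).eq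
  haveI hZn : Z.Normal := by
    refine ⟨fun n hn g => ?_⟩
    have : g * n * g⁻¹ = n := by rw [hZcent n hn g]; group
    rw [this]; exact hn
  have hZcard : Nat.card Z = p := by rw [hZ, Nat.card_zpowers, hzord]
  -- choose X ≠ Z
  obtain ⟨X, hXcard, hXZ⟩ : ∃ X : Subgroup L, Nat.card X = p ∧ X ≠ Z := by
    by_cases h : H = Z
    · exact ⟨K, hK, fun h' => hHK (h.trans h'.symm)⟩
    · exact ⟨H, hH, h⟩
  have hXZbot : X ⊓ Z = ⊥ := by
    have h1 : Nat.card ↥(X ⊓ Z) ∣ p := by rw [← hXcard]; exact Subgroup.card_dvd_of_le inf_le_left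
    rcases (Nat.dvd_prime hp.out).mp h1 with h | h
    · exact Subgroup.eq_bot_of_card_eq _ h
    · exfalso
      apply hXZ
      have h2 : X ⊓ Z = X := Subgroup.eq_of_le_of_card_ge inf_le_left (by rw [h, hXcard])
      have h3 : X ≤ Z := by rw [← h2]; exact inf_le_right
      exact Subgroup.eq_of_le_of_card_ge h3 (by rw [hZcard, hXcard])
  have hcard : Nat.card ↥(X ⊔ Z) = p ^ 2 := by
    have h := Subgroup.relIndex_mul_relIndex ⊥ Z (X ⊔ Z) bot_le le_sup_right
    rw [Subgroup.relIndex_bot_left, Subgroup.relIndex_bot_left, Subgroup.relIndex_sup_right,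
      ← Subgroup.inf_relIndex_right, inf_comm, hXZbot, Subgroup.relIndex_bot_left, hZcard, hXcard] at h
    rw [← h, pow_two]
  have hXpow : ∀ y ∈ X, y ^ p = 1 := by
    intro y hy
    have : (⟨y, hy⟩ : X) ^ Nat.card X = 1 := pow_card_eq_one'
    rw [hXcard] at this
    have := congrArg Subtype.val this
    simpa using this
  have hZpow : ∀ n ∈ Z, n ^ p = 1 := by
    intro n hn
    have : (⟨n, hn⟩ : Z) ^ Nat.card Z = 1 := pow_card_eq_one'
    rw [hZcard] at this
    have := congrArg Subtype.val this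
    simpa using this
  haveI : IsCyclic X := isCyclic_of_prime_card hXcard
  have hXcomm : ∀ y₁ ∈ X, ∀ y₂ ∈ X, y₁ * y₂ = y₂ * y₁ := by
    intro y₁ h₁ y₂ h₂
    have := mul_comm' (⟨y₁, h₁⟩ : X) ⟨y₂, h₂⟩
    exact congrArg Subtype.val this
  refine ⟨X ⊔ Z, ⟨⟨?_⟩⟩, hcard, ?_⟩
  · rintro ⟨e₁, he₁⟩ ⟨e₂, he₂⟩
    apply Subtype.ext
    show e₁ * e₂ = e₂ * e₁
    obtain ⟨y₁, hy₁, n₁, hn₁, rfl⟩ := Subgroup.mem_sup_of_normal_right.mp he₁
    obtain ⟨y₂, hy₂, n₂, hn₂, rfl⟩ := Subgroup.mem_sup_of_normal_right.mp he₂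
    calc y₁ * n₁ * (y₂ * n₂) = y₁ * (n₁ * y₂) * n₂ := by group
      _ = y₁ * (y₂ * n₁) * n₂ := by rw [hZcent n₁ hn₁ y₂]
      _ = (y₁ * y₂) * (n₁ * n₂) := by group
      _ = (y₂ * y₁) * (n₂ * n₁) := by rw [hXcomm y₁ hy₁ y₂ hy₂, hZcent n₁ hn₁ n₂]
      _ = y₂ * (y₁ * n₂) * n₁ := by group
      _ = y₂ * (n₂ * y₁) * n₁ := by rw [hZcent n₂ hn₂ y₁]
      _ = y₂ * n₂ * (y₁ * n₁) := by group
  · intro e he
    obtain ⟨y, hy, n, hn, rfl⟩ := Subgroup.mem_sup_of_normal_right.mp he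
    have hc : Commute y n := hZcent n hn y
    rw [hc.mul_pow, hXpow y hy, hZpow n hn, one_mul]

theorem sylow_trichotomy {G : Type*} [Group G] [Finite G]
    (hB : ∀ A B : Subgroup G, IsMulCommutative ↥A → IsMulCommutative ↥B → Nat.card ↥A = Nat.card ↥B →
      ∃ g : G, B = A.map (MulAut.conj g).toMonoidHom) (p : ℕ) [hp : Fact p.Prime] (P : Sylow p G) :
    (IsCyclic ↥(P : Subgroup G) ∨
      (p = 2 ∧ ∃ n : ℕ, Nonempty (↥(P : Subgroup G) ≃* QuaternionGroup (2 ^ n)))) ∨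
    ∀ x ∈ (P : Subgroup G), x ^ p = 1 := by
  by_cases huniq : ∀ H K : Subgroup ↥(P : Subgroup G), Nat.card H = p → Nat.card K = p → H = K
  · left
    exact Cfsg.Agent.S0016.result p P.isPGroup' huniq
  right
  push Not at huniq
  obtain ⟨H, K, hH, hK, hHK⟩ := huniq
  obtain ⟨E, hEc, hEcard, hEpow⟩ := exists_noncyclic_abelian_of_two_subgroups p P.isPGroup' H K hH hK hHK
  intro x hx
  by_contra hxp
  obtain ⟨k, hk⟩ := (IsPGroup.iff_orderOf.mp P.isPGroup') ⟨x, hx⟩
  rw [Subgroup.orderOf_mk] at hk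
  have hk2 : 2 ≤ k := by
    by_contra hlt
    apply hxp
    have : orderOf x ∣ p := by
      rw [hk]
      have : k ≤ 1 := by omega
      calc p ^ k ∣ p ^ 1 := pow_dvd_pow p this
        _ = p := pow_one p
    exact orderOf_dvd_iff_pow_eq_one.mp this
  obtain ⟨y, hy⟩ : ∃ y, y = x ^ (p ^ (k - 2)) := ⟨_, rfl⟩
  have hyord : orderOf y = p ^ 2 := by
    rw [hy, orderOf_pow_of_dvd (pow_ne_zero _ hp.out.ne_zero) (by rw [hk]; exact pow_dvd_pow p (by omega)), hk]
    rw [Nat.pow_div (by omega) hp.out.pos]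
    congr 1; omega
  obtain ⟨E', hE'⟩ : ∃ E' : Subgroup G, E' = E.map (P : Subgroup G).subtype := ⟨_, rfl⟩
  have hE'card : Nat.card E' = p ^ 2 := by
    rw [hE', Subgroup.card_map_of_injective (Subgroup.subtype_injective _), hEcard]
  have hE'c : IsMulCommutative E' := by
    refine ⟨⟨?_⟩⟩
    rintro ⟨e₁, he₁⟩ ⟨e₂, he₂⟩
    apply Subtype.ext
    show e₁ * e₂ = e₂ * e₁
    rw [hE'] at he₁ he₂
    obtain ⟨f₁, hf₁, rfl⟩ := he₁
    obtain ⟨f₂, hf₂, rfl⟩ := he₂
    have := mul_comm' (⟨f₁, hf₁⟩ : E) ⟨f₂, hf₂⟩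
    have h2 := congrArg (fun t : E => ((t : (P : Subgroup G)) : G)) this
    simpa using h2
  have hE'pow : ∀ e ∈ E', e ^ p = 1 := by
    intro e he
    rw [hE'] at he
    obtain ⟨f, hf, rfl⟩ := he
    have := hEpow f hf
    have h2 := congrArg Subtype.val this
    simpa using h2
  obtain ⟨g, hg⟩ := hB E' (Subgroup.zpowers y) hE'c inferInstance
    (by rw [hE'card, Nat.card_zpowers, hyord])
  have hymem : y ∈ E'.map (MulAut.conj g).toMonoidHom := by rw [← hg]; exact Subgroup.mem_zpowers y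
  obtain ⟨e, he, hey⟩ := hymem
  have h1 : y ^ p = 1 := by
    rw [← hey, ← map_pow, hE'pow e he, map_one]
  have h2 : orderOf y ∣ p := orderOf_dvd_of_pow_eq_one h1
  rw [hyord] at h2
  have h3 := Nat.le_of_dvd hp.out.pos h2
  have h4 : p < p ^ 2 := by
    rw [pow_two]; exact lt_mul_self hp.out.one_lt
  omega


/-- Let G be a finite group in which any two abelian subgroups of the same order are conjugate. Then a Sylow 2-subgroup of G is cyclic, elementary abelian or generalized quaternion, and for an odd prime p a Sylow p-subgroup of G is cyclic or has exponent dividing p. -/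
theorem result {G : Type*} [Group G] [Finite G] (hB : ∀ A B : Subgroup G, IsMulCommutative ↥A → IsMulCommutative ↥B → Nat.card ↥A = Nat.card ↥B → ∃ g : G, B = A.map (MulAut.conj g).toMonoidHom) :
    (∀ P : Sylow 2 G, IsCyclic ↥(P : Subgroup G) ∨ Cfsg.IsElementaryAbelian 2 (P : Subgroup G) ∨ ∃ k : ℕ, Nonempty (↥(P : Subgroup G) ≃* QuaternionGroup (2 ^ k))) ∧
    ∀ (p : ℕ) [Fact p.Prime], p ≠ 2 → ∀ P : Sylow p G, IsCyclic ↥(P : Subgroup G) ∨ ∀ x ∈ (P : Subgroup G), x ^ p = 1 := by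
  refine ⟨?_, ?_⟩
  · intro P
    haveI : Fact (Nat.Prime 2) := ⟨Nat.prime_two⟩
    rcases sylow_trichotomy hB 2 P with (h | ⟨-, n, hn⟩) | h
    · exact Or.inl h
    · exact Or.inr (Or.inr ⟨n, hn⟩)
    · right; left
      refine ⟨⟨⟨?_⟩⟩, h⟩
      rintro ⟨a, ha⟩ ⟨b, hb⟩
      apply Subtype.ext
      show a * b = b * a
      have ha2 : a * a = 1 := by rw [← pow_two]; exact h a ha
      have hb2 : b * b = 1 := by rw [← pow_two]; exact h b hb
      have hab2 : (a * b) * (a * b) = 1 := by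
        rw [← pow_two]; exact h _ (Subgroup.mul_mem _ ha hb)
      calc a * b = a * ((a * b) * (a * b)) * b := by rw [hab2, mul_one]
        _ = (a * a) * (b * a) * (b * b) := by group
        _ = b * a := by rw [ha2, hb2, one_mul, mul_one]
  · intro p _ hp2 P
    rcases sylow_trichotomy hB p P with (h | ⟨h2, -⟩) | h
    · exact Or.inl h
    · exact absurd h2 hp2
    · exact Or.inr h

end Cfsg.Agent.S3908
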