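import Cfsg.Statements.S1279
import Cfsg.Agent.Lib.Helper8.PPrimeCent

set_option autoImplicit false
open Cfsg

namespace Cfsg.Agent.S1279

/-- Let A be a noncyclic elementary abelian p-subgroup of the finite group G such that C_G(a) is solvable for every non-identity a ∈ A. Then a ↦ O_{p'}(C_G(a)) is a solvable A-signalizer functor on G. -/
theorem result {G : Type*} [Group G] [Finite G] (p : ℕ) [Fact p.Prime] (A : Subgroup G) (hA : Cfsg.IsElementaryAbelian p A) (hA2 : p ^ 2 ≤ Nat.card ↥A) (hsolv : ∀ a ∈ A, a ≠ 1 → Group.IsSolvable ↥(Subgroup.centralizer ({a} : Set G))) : Cfsg.IsSolvableSignalizerFunctor p A (fun a => Cfsg.centralizerPPrimeCore p a) := by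
  classical
  obtain ⟨hAcomm, hAexp⟩ := hA
  have hp : p.Prime := Fact.out
  -- commutation inside A
  have hcomm : ∀ a ∈ A, ∀ b ∈ A, a * b = b * a := by
    intro a ha b hb
    have := hAcomm.is_comm.comm (⟨a, ha⟩ : A) ⟨b, hb⟩
    exact congrArg Subtype.val this
  -- θ a is normalized by C(a)
  have hθnorm : ∀ a c x : G, c ∈ Subgroup.centralizer ({a} : Set G) →
      x ∈ Cfsg.centralizerPPrimeCore p a → c * x * c⁻¹ ∈ Cfsg.centralizerPPrimeCore p a := by
    intro a c x hc hx
    obtain ⟨x', hx', rfl⟩ := hx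
    have hn : (Cfsg.pPrimeCore p ↥(Subgroup.centralizer ({a} : Set G))).Normal :=
      Cfsg.Agent.Lib.Helper1.pPrimeCore_normal p _
    exact ⟨(⟨c, hc⟩ : ↥(Subgroup.centralizer ({a} : Set G))) * x' * (⟨c, hc⟩)⁻¹,
      hn.conj_mem x' hx' ⟨c, hc⟩, rfl⟩
  have hθle : ∀ a : G, Cfsg.centralizerPPrimeCore p a ≤ Subgroup.centralizer ({a} : Set G) := by
    intro a
    exact Subgroup.map_subtype_le _
  have hθcop : ∀ a : G, (Nat.card (Cfsg.centralizerPPrimeCore p a)).Coprime p := by
    intro a
    unfold Cfsg.centralizerPPrimeCore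
    rw [Subgroup.card_subtype]
    exact Cfsg.Agent.Lib.Helper12.pPrimeCore_coprime p
  refine ⟨⟨fun a _ _ => hθle a, ?_, ?_, ?_⟩, ?_⟩
  · intro a _ _ hdvd
    have := (hθcop a)
    exact (Nat.Prime.coprime_iff_not_dvd hp).mp this.symm hdvd
  · intro a ha _ b hb x hx
    refine hθnorm a b x ?_ hx
    rw [Subgroup.mem_centralizer_singleton_iff]
    exact hcomm b hb a ha
  · intro a ha ha1 b hb hb1 g hg
    obtain ⟨hgθ, hgb⟩ := hg
    have : Group.IsSolvable ↥(Subgroup.centralizer ({b} : Set G)) := hsolv b hb hb1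
    have hab : a ∈ Subgroup.centralizer ({b} : Set G) := by
      rw [Subgroup.mem_centralizer_singleton_iff]
      exact hcomm a ha b hb
    let a' : ↥(Subgroup.centralizer ({b} : Set G)) := ⟨a, hab⟩
    have hPp : IsPGroup p (Subgroup.zpowers a') := by
      rintro ⟨g', hg'⟩
      refine ⟨1, ?_⟩
      obtain ⟨n, rfl⟩ := Subgroup.mem_zpowers_iff.mp hg'
      have ha'p : a' ^ p = 1 := Subtype.ext (by simpa using hAexp a ha)
      apply Subtype.ext
      show (a' ^ n) ^ (p ^ 1) = 1
      rw [pow_one, ← zpow_natCast, ← zpow_mul, mul_comm, zpow_mul, zpow_natCast, ha'p, one_zpow]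
    have key := Cfsg.Agent.Lib.Helper8.le_pPrimeCore_of_centralizer_le_normalizer p
      (Subgroup.zpowers a')
      ((Cfsg.centralizerPPrimeCore p a).subgroupOf (Subgroup.centralizer ({b} : Set G))) hPp ?_ ?_ ?_
    · exact ⟨⟨g, hgb⟩, key (Subgroup.mem_subgroupOf.mpr hgθ), rfl⟩
    · -- coprime
      refine Nat.Coprime.coprime_dvd_left ?_ (hθcop a)
      let f : ↥((Cfsg.centralizerPPrimeCore p a).subgroupOf (Subgroup.centralizer ({b} : Set G))) →*
          ↥(Cfsg.centralizerPPrimeCore p a) :=
        { toFun := fun x => ⟨x.1.1, Subgroup.mem_subgroupOf.mp x.2⟩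
          map_one' := rfl
          map_mul' := fun _ _ => rfl }
      have hf : Function.Injective f := by
        intro x y hxy
        apply Subtype.ext; apply Subtype.ext
        exact congrArg (fun z : ↥(Cfsg.centralizerPPrimeCore p a) => (z : G)) hxy
      exact Subgroup.card_dvd_of_injective f hf
    · -- Y ≤ centralizer P
      intro y hy
      rw [Subgroup.mem_subgroupOf] at hy
      have hya : (y : G) * a = a * y := Subgroup.mem_centralizer_singleton_iff.mp (hθle a hy)
      have hya' : Commute y a' := Subtype.ext hya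
      rw [Subgroup.mem_centralizer_iff]
      intro h hh
      obtain ⟨n, rfl⟩ := Subgroup.mem_zpowers_iff.mp hh
      exact (hya'.zpow_right n).eq.symm
    · intro h hh
      apply Cfsg.Agent.Lib.Helper1.mem_normalizer_of_forall_conj_mem
      intro y hy
      rw [Subgroup.mem_subgroupOf] at hy ⊢
      have hha : a' * h = h * a' :=
        (Subgroup.mem_centralizer_iff.mp hh) a' (Subgroup.mem_zpowers a')
      have hha' : (h : G) ∈ Subgroup.centralizer ({a} : Set G) := by
        rw [Subgroup.mem_centralizer_singleton_iff]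
        exact (congrArg Subtype.val hha).symm
      exact hθnorm a h y hha' hy
  · intro a ha ha1
    have : Group.IsSolvable ↥(Subgroup.centralizer ({a} : Set G)) := hsolv a ha ha1
    exact Group.isSolvable_of_isSolvable_injective
      (f := Subgroup.inclusion (hθle a)) (Subgroup.inclusion_injective _)

end Cfsg.Agent.S1279
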