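import Cfsg.Statements.S1285
import Cfsg.Agent.Lib.Helper8.Transitivity

set_option autoImplicit false
open Cfsg

namespace Cfsg.Agent.S1285

/-- Let θ be a solvable A-signalizer functor on the finite group G with A elementary abelian of rank at least 3, and suppose that for some prime q every θ a (a ∈ A non-identity) is a q-group. Then θ is complete. -/
theorem result {G : Type*} [Group G] [Finite G] (p : ℕ) [Fact p.Prime] (A : Subgroup G) (hA : Cfsg.IsElementaryAbelian p A) (hA3 : p ^ 3 ≤ Nat.card ↥A) (θ : G → Subgroup G) (hθ : Cfsg.IsSolvableSignalizerFunctor p A θ) (q : ℕ) [Fact q.Prime] (hq : ∀ a ∈ A, a ≠ 1 → IsPGroup q ↥(θ a)) : Cfsg.IsCompleteSignalizerFunctor p A θ := by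
  open Cfsg.Agent.Lib.Helper8 in
  classical
  have hp : p.Prime := Fact.out
  have hbotq : IsPGroup q ↥(⊥ : Subgroup G) := IsPGroup.of_bot
  obtain ⟨Q, hQ, _⟩ := exists_isMaxQ_ge (p := p) (A := A) (θ := θ) (bot_mem_family hp) hbotq
  refine ⟨hθ.1, Q, hQ.1.2.2.1, hQ.1.2.1, ?_⟩
  intro a ha ha1
  apply le_antisymm (hQ.1.2.2.2 a ha ha1)
  have hzA : Subgroup.zpowers a ≤ A := Subgroup.zpowers_le.mpr ha
  have hzne : Subgroup.zpowers a ≠ ⊥ := by
    intro h
    apply ha1
    have : a ∈ (⊥ : Subgroup G) := h ▸ Subgroup.mem_zpowers a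
    exact Subgroup.mem_bot.mp this
  obtain ⟨S, hS⟩ := centralizer_inf_sylow p A hA hA3 θ hθ q Q hQ (Subgroup.zpowers a) hzA hzne
  have hHle : Cfsg.signalizerInf (Subgroup.zpowers a) θ ≤ θ a := fun x hx =>
    mem_signalizerInf_iff.mp hx a (Subgroup.mem_zpowers a) ha1
  have hHq : IsPGroup q ↥(Cfsg.signalizerInf (Subgroup.zpowers a) θ) := (hq a ha ha1).to_le hHle
  have hStop : (S : Subgroup ↥(Cfsg.signalizerInf (Subgroup.zpowers a) θ)) = ⊤ :=
    (S.is_maximal' (hHq.to_subgroup ⊤) le_top).symm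
  rw [hStop, ← MonoidHom.range_eq_map, Subgroup.range_subtype] at hS
  -- θ a ≤ H
  have hθH : θ a ≤ Cfsg.signalizerInf (Subgroup.zpowers a) θ := by
    intro x hx
    rw [mem_signalizerInf_iff]
    intro b hb hb1
    apply hθ.1.2.2.2 a ha ha1 b (hzA hb) hb1
    refine ⟨hx, ?_⟩
    show x ∈ Subgroup.centralizer ({b} : Set G)
    rw [Subgroup.mem_centralizer_singleton_iff]
    have hxa : Commute x a := Subgroup.mem_centralizer_singleton_iff.mp (hθ.1.1 a ha ha1 hx)
    obtain ⟨n, rfl⟩ := Subgroup.mem_zpowers_iff.mp hb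
    exact (hxa.zpow_right n).eq
  intro x hx
  have hx' : x ∈ Q ⊓ Subgroup.centralizer ((Subgroup.zpowers a : Subgroup G) : Set G) := by
    rw [← hS]; exact hθH hx
  refine ⟨hx'.1, ?_⟩
  show x ∈ Subgroup.centralizer ({a} : Set G)
  exact hθ.1.1 a ha ha1 hx

end Cfsg.Agent.S1285
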