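import Cfsg.Statements.S1359
-- import your own Cfsg.Agent.* helpers here
import Cfsg.Agent.Lib.Helper1.BGKap3
import Cfsg.Agent.Lib.Helper19.BGTypeF5
import Cfsg.Agent.S1350
import Cfsg.Agent.S1430

set_option autoImplicit false
open Cfsg

namespace Cfsg.Agent.S1359

/-- Let G be a minimal simple group of odd order and M a maximal subgroup with standard factorisation M = K U M_σ. Then the subgroup generated by those elements of U which centralize some non-identity element of M_σ is abelian. -/
theorem result {G : Type*} [Group G] [Finite G] (hG : Cfsg.IsMinSimpleOddOrder G)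
    (M : Subgroup G) (hM : IsCoatom M) (K U : Subgroup G) (hKU : Cfsg.IsSigmaDecomposition M K U) :
    IsMulCommutative (Subgroup.closure ((U : Set G) ∩ Cfsg.sigmaHat M)) := by
  have hHall := (Cfsg.Agent.S1350.result hG M hM).1
  refine Cfsg.Agent.Lib.Helper1.BGKap.s1359_core hG hM hHall hKU ?_ ?_
  · intro hK
    subst hK
    exact Cfsg.Agent.Lib.Helper19.BGTypeF.s1359_of_bot hG hM hKU
  · intro hK1
    exact Cfsg.Agent.S1430.result hG M hM K hKU.hall hK1

end Cfsg.Agent.S1359
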