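import Cfsg.Statements.S4145
-- import your own Cfsg.Agent.* helpers here
import Mathlib
import Cfsg.Agent.Lib.Helper21.Primary
import Cfsg.Agent.Lib.Helper12.Basic
import Cfsg.Agent.Lib.Helper22.Basic

set_option autoImplicit false
open Cfsg

namespace Cfsg.Agent.S4145

theorem conj_pow_eq {X : Type*} [Group X] (y u : X) (k : ℕ) (h : y * u * y⁻¹ = u ^ k) (j : ℕ) :
    y ^ j * u * (y ^ j)⁻¹ = u ^ (k ^ j) := by
  induction j with
  | zero => simp
  | succ j ih =>
    have h1 : y ^ (j + 1) * u * (y ^ (j + 1))⁻¹ = y ^ j * (y * u * y⁻¹) * (y ^ j)⁻¹ := by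
      rw [pow_succ]; group
    have h2 : y ^ j * u ^ k * (y ^ j)⁻¹ = (y ^ j * u * (y ^ j)⁻¹) ^ k := by
      rw [conj_pow]
    rw [h1, h, h2, ih, ← pow_mul, pow_succ]

/-- Lemma A: an element normalizing a cyclic Sylow `p`-subgroup `⟨u⟩` and acting on it as
`u ↦ u^k` with `k ≡ 1 mod p` centralizes it. -/
theorem conj_eq_self_of_modEq_one {X : Type*} [Group X] [Finite X] {p : ℕ} [Fact p.Prime]
    (P : Sylow p X) (u : X) (hu : (P : Subgroup X) = Subgroup.zpowers u) (y : X)
    (hy : y ∈ Subgroup.normalizer ((P : Subgroup X) : Set X)) (k : ℕ) (hk : y * u * y⁻¹ = u ^ k)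
    (hk1 : k ≡ 1 [MOD p]) : y * u * y⁻¹ = u := by
  have hp : p.Prime := Fact.out
  have hou : orderOf u = Nat.card (P : Subgroup X) := by rw [← Nat.card_zpowers, ← hu]
  obtain ⟨a, ha⟩ : ∃ a, Nat.card (P : Subgroup X) = p ^ a := (IsPGroup.iff_card.1 P.2)
  have hm : ¬ p ∣ ((P : Subgroup X).subgroupOf
      (Subgroup.normalizer ((P : Subgroup X) : Set X))).index := by
    intro h
    exact P.not_dvd_index (h.trans (Subgroup.relIndex_dvd_index_of_le Subgroup.le_normalizer))
  have hym : y ^ ((P : Subgroup X).subgroupOf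
      (Subgroup.normalizer ((P : Subgroup X) : Set X))).index ∈ (P : Subgroup X) := by
    have h := Subgroup.pow_index_mem ((P : Subgroup X).subgroupOf
      (Subgroup.normalizer ((P : Subgroup X) : Set X)))
      (⟨y, hy⟩ : Subgroup.normalizer ((P : Subgroup X) : Set X))
    exact Subgroup.mem_subgroupOf.1 h
  set m := ((P : Subgroup X).subgroupOf
      (Subgroup.normalizer ((P : Subgroup X) : Set X))).index with hmdef
  have h1 := conj_pow_eq y u k hk m
  have h2 : y ^ m * u * (y ^ m)⁻¹ = u := by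
    rw [hu] at hym
    obtain ⟨z, hz⟩ := Subgroup.mem_zpowers_iff.1 hym
    rw [← hz]; group
  have h3 : k ^ m ≡ 1 [MOD p ^ a] := by
    have : u ^ (k ^ m) = u ^ 1 := by rw [← h1, h2, pow_one]
    rwa [pow_eq_pow_iff_modEq, hou, ha] at this
  rcases a with _ | a
  · have : orderOf u = 1 := by rw [hou, ha, pow_zero]
    rw [orderOf_eq_one_iff] at this
    subst this; simp
  have h4 : k ^ (p ^ a) ≡ 1 [MOD p ^ (a + 1)] := by
    have hd : (p : ℤ) ∣ (k : ℤ) - 1 := by
      have := (Nat.modEq_iff_dvd.1 hk1.symm)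
      simpa using this
    have h := dvd_sub_pow_of_dvd_sub hd a
    rw [one_pow] at h
    apply Nat.ModEq.symm
    rw [Nat.modEq_iff_dvd]
    push_cast
    exact h
  have h5 : (k : ZMod (p ^ (a + 1))) ^ m = 1 := by
    have := (ZMod.natCast_eq_natCast_iff _ _ _).2 h3
    push_cast at this; exact this
  have h6 : (k : ZMod (p ^ (a + 1))) ^ (p ^ a) = 1 := by
    have := (ZMod.natCast_eq_natCast_iff _ _ _).2 h4
    push_cast at this; exact this
  have hg : Nat.Coprime m (p ^ a) :=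
    Nat.Coprime.pow_right a ((Nat.Prime.coprime_iff_not_dvd hp).2 hm).symm
  have h7 : (k : ZMod (p ^ (a + 1))) = 1 := (pow_eq_one_iff_of_coprime hg).1 ⟨h5, h6⟩
  have h8 : k ≡ 1 [MOD p ^ (a + 1)] :=
    (ZMod.natCast_eq_natCast_iff _ _ _).1 (by push_cast; exact h7)
  have h9 : u ^ k = u ^ 1 := by rw [pow_eq_pow_iff_modEq, hou, ha]; exact h8
  rw [hk, h9, pow_one]

/-- Lemma D: relative normal `p`-complement in a subgroup `M` containing the cyclic Sylow `P`. -/
theorem exists_rel_pcomplement {G : Type*} [Group G] [Finite G] {p : ℕ} [Fact p.Prime]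
    (P : Sylow p G) (u : G) (hu : (P : Subgroup G) = Subgroup.zpowers u)
    (M : Subgroup G) (hPM : (P : Subgroup G) ≤ M)
    (hM : ∀ y ∈ M, y ∈ Subgroup.normalizer ((P : Subgroup G) : Set G) → ∀ k : ℕ,
      y * u * y⁻¹ = u ^ k → k ≡ 1 [MOD p]) :
    ∃ K : Subgroup G, K ≤ M ∧ (∀ m ∈ M, ∀ x ∈ K, m * x * m⁻¹ ∈ K) ∧
      (Nat.card K).Coprime p ∧ Nat.card K * Nat.card (P : Subgroup G) = Nat.card M ∧
      (∀ m ∈ M, ∃ k ∈ K, ∃ x ∈ (P : Subgroup G), k * x = m) := by
  classical
  have hp : p.Prime := Fact.out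
  have hP' : ((P.subtype hPM : Sylow p M) : Subgroup M) = (P : Subgroup G).subgroupOf M :=
    Sylow.coe_subtype ..
  have huP : u ∈ (P : Subgroup G) := by rw [hu]; exact Subgroup.mem_zpowers u
  have huM : u ∈ M := hPM huP
  have hu' : ((P.subtype hPM : Sylow p M) : Subgroup M) = Subgroup.zpowers (⟨u, huM⟩ : M) := by
    ext x
    rw [hP', Subgroup.mem_subgroupOf, hu, Subgroup.mem_zpowers_iff, Subgroup.mem_zpowers_iff]
    constructor
    · rintro ⟨i, hi⟩
      exact ⟨i, Subtype.ext (by rw [← hi]; simp)⟩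
    · rintro ⟨i, hi⟩
      exact ⟨i, by rw [← hi]; simp⟩
  have hNC : Subgroup.normalizer (((P.subtype hPM : Sylow p M) : Subgroup M) : Set M) ≤
      Subgroup.centralizer (((P.subtype hPM : Sylow p M) : Subgroup M) : Set M) := by
    intro y hy
    have hu'mem : (⟨u, huM⟩ : M) ∈ ((P.subtype hPM : Sylow p M) : Subgroup M) := by
      rw [hu']; exact Subgroup.mem_zpowers _
    have h1 : y * (⟨u, huM⟩ : M) * y⁻¹ ∈ ((P.subtype hPM : Sylow p M) : Subgroup M) :=
      (Subgroup.mem_normalizer_iff.1 hy _).1 hu'mem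
    rw [hu'] at h1
    obtain ⟨k, hk⟩ := (Submonoid.mem_powers_iff _ _).1 (mem_powers_iff_mem_zpowers.2 h1)
    have hyG : (y : G) ∈ Subgroup.normalizer ((P : Subgroup G) : Set G) := by
      apply Subgroup.mem_normalizer_fintype
      intro x hx
      have hxM : x ∈ M := hPM hx
      have h2 : (⟨x, hxM⟩ : M) ∈ ((P.subtype hPM : Sylow p M) : Subgroup M) := by
        rw [hP', Subgroup.mem_subgroupOf]; exact hx
      have h3 := (Subgroup.mem_normalizer_iff.1 hy _).1 h2
      rw [hP', Subgroup.mem_subgroupOf] at h3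
      exact h3
    have hkG : (y : G) * u * (y : G)⁻¹ = u ^ k := by
      have := congrArg (Subtype.val) hk
      simpa using this.symm
    have hk1 := hM y y.2 hyG k hkG
    have h2 := conj_eq_self_of_modEq_one (P.subtype hPM) (⟨u, huM⟩ : M) hu' y hy k hk.symm hk1
    rw [Subgroup.mem_centralizer_iff]
    intro z hz
    rw [SetLike.mem_coe, hu'] at hz
    obtain ⟨i, rfl⟩ := Subgroup.mem_zpowers_iff.1 hz
    have hc : Commute y (⟨u, huM⟩ : M) := by
      show y * _ = _ * y
      have : y * (⟨u, huM⟩ : M) = (y * (⟨u, huM⟩ : M) * y⁻¹) * y := by group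
      rw [this, h2]
    exact ((hc.zpow_right i).eq).symm
  have hcompl := MonoidHom.ker_transferSylow_isComplement' (P.subtype hPM) hNC
  set K' : Subgroup M := (MonoidHom.transferSylow (P.subtype hPM) hNC).ker with hK'
  have hcardP' : Nat.card ((P.subtype hPM : Sylow p M) : Subgroup M) = Nat.card (P : Subgroup G) := by
    rw [hP']
    exact Nat.card_congr (Subgroup.subgroupOfEquivOfLe hPM).toEquiv
  have hcardK : Nat.card (K'.map M.subtype) = Nat.card K' :=
    Subgroup.card_map_of_injective M.subtype_injective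
  refine ⟨K'.map M.subtype, Subgroup.map_subtype_le _, ?_, ?_, ?_, ?_⟩
  · intro m hm x hx
    obtain ⟨x', hx', rfl⟩ := Subgroup.mem_map.1 hx
    refine Subgroup.mem_map.2 ⟨(⟨m, hm⟩ : M) * x' * (⟨m, hm⟩ : M)⁻¹, ?_, by simp⟩
    exact (inferInstance : K'.Normal).conj_mem x' hx' _
  · rw [hcardK, ← hcompl.index_eq_card]
    exact ((Nat.Prime.coprime_iff_not_dvd hp).2 (P.subtype hPM).not_dvd_index).symm
  · rw [hcardK, ← hcardP']
    exact hcompl.card_mul_card
  · intro m hm
    obtain ⟨⟨⟨k', hk'⟩, ⟨x', hx'⟩⟩, hkx, _⟩ := Subgroup.IsComplement.existsUnique hcompl (⟨m, hm⟩ : M)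
    refine ⟨(k' : G), Subgroup.mem_map.2 ⟨k', hk', rfl⟩, (x' : G), ?_, ?_⟩
    · have : x' ∈ ((P.subtype hPM : Sylow p M) : Subgroup M) := hx'
      rw [hP', Subgroup.mem_subgroupOf] at this
      exact this
    · have := congrArg Subtype.val hkx
      simpa using this

/-- Lemma F: `N ≤ M` normalized by `M` with `|M : N|` a power of `p`: every `p'`-element of `M`
lies in `N`. -/
theorem mem_of_pow_index_of_coprime {G : Type*} [Group G] [Finite G] {p : ℕ} [Fact p.Prime]
    (N M : Subgroup G) (hNM : N ≤ M) (hnorm : ∀ m ∈ M, ∀ x ∈ N, m * x * m⁻¹ ∈ N) (e : ℕ)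
    (hcard : Nat.card N * p ^ e = Nat.card M) (z : G) (hz : z ∈ M) (c : ℕ) (hc : c.Coprime p)
    (hzc : z ^ c = 1) : z ∈ N := by
  have hp : p.Prime := Fact.out
  have hN' : (N.subgroupOf M).Normal := by
    refine ⟨fun n hn g => ?_⟩
    rw [Subgroup.mem_subgroupOf] at hn ⊢
    have := hnorm g g.2 n hn
    simpa using this
  have hidx : (N.subgroupOf M).index = p ^ e := by
    have h1 := Cfsg.Agent.Lib.Helper22.card_mul_relIndex_of_le hNM
    rw [← hcard] at h1
    exact Nat.eq_of_mul_eq_mul_left Nat.card_pos h1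
  have h2 := Subgroup.pow_index_mem (N.subgroupOf M) (⟨z, hz⟩ : M)
  rw [hidx, Subgroup.mem_subgroupOf] at h2
  have h3 : z ^ (p ^ e) ∈ N := by simpa using h2
  have h4 : z ^ c ∈ N := by rw [hzc]; exact N.one_mem
  exact Cfsg.Agent.Lib.Helper21.mem_of_pow_mem_of_coprime N z c (p ^ e)
    (Nat.Coprime.pow_right e hc) h4 h3

/-- Let G be a finite group with a cyclic Sylow p-subgroup and H a normal subgroup such that p divides both the order of H and the index of H. Then H has a normal p-complement and G is p-solvable. -/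
theorem result {G : Type*} [Group G] [Finite G] (p : ℕ) [Fact p.Prime]
    (P : Sylow p G) (hP : IsCyclic (P : Subgroup G)) (H : Subgroup G) [H.Normal] (h1 : p ∣ Nat.card H) (h2 : p ∣ H.index) :
    Cfsg.HasNormalPComplement p H ∧ Cfsg.IsPSolvable p G := by
  classical
  have hp : p.Prime := Fact.out
  -- a generator of P
  obtain ⟨⟨u, huP⟩, hgen⟩ := hP.exists_generator
  have hu : (P : Subgroup G) = Subgroup.zpowers u := by
    apply le_antisymm
    · intro x hx
      obtain ⟨i, hi⟩ := Subgroup.mem_zpowers_iff.1 (hgen ⟨x, hx⟩)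
      exact Subgroup.mem_zpowers_iff.2 ⟨i, by simpa using congrArg Subtype.val hi⟩
    · rw [Subgroup.zpowers_le]; exact huP
  obtain ⟨a, ha⟩ := IsPGroup.iff_card.1 P.2
  have hou : orderOf u = p ^ a := by rw [← Nat.card_zpowers, ← hu, ha]
  have hPcomm : ∀ x ∈ (P : Subgroup G), ∀ y ∈ (P : Subgroup G), x * y = y * x := by
    intro x hx y hy
    rw [hu] at hx hy
    obtain ⟨i, rfl⟩ := Subgroup.mem_zpowers_iff.1 hx
    obtain ⟨j, rfl⟩ := Subgroup.mem_zpowers_iff.1 hy
    rw [← zpow_add, ← zpow_add, add_comm]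
  -- P is not contained in H
  have hPH : ¬ (P : Subgroup G) ≤ H := by
    intro hle
    exact P.not_dvd_index (h2.trans (Subgroup.index_dvd_of_le hle))
  -- a nontrivial element of P ⊓ H
  have hQ : ∃ q₀, q₀ ∈ (P : Subgroup G) ∧ q₀ ∈ H ∧ q₀ ≠ 1 := by
    obtain ⟨h, hh⟩ := exists_prime_orderOf_dvd_card' (G := H) p h1
    have hpg : IsPGroup p (Subgroup.zpowers (h : G)) := by
      rw [IsPGroup.iff_card, Nat.card_zpowers, Subgroup.orderOf_coe, hh]
      exact ⟨1, (pow_one p).symm⟩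
    obtain ⟨g, -, hg⟩ := Cfsg.Agent.Lib.Helper12.exists_conj_mem_sylow P ⊤
      (Subgroup.zpowers (h : G)) le_top le_top hpg
    refine ⟨g * h * g⁻¹, hg _ (Subgroup.mem_zpowers _), (inferInstance : H.Normal).conj_mem _ h.2 g, ?_⟩
    intro h0
    have : (h : G) = 1 := by
      have := congrArg (fun z => g⁻¹ * z * g) h0
      simpa [mul_assoc] using this
    have h3 : orderOf (h : G) = 1 := by rw [this, orderOf_one]
    rw [Subgroup.orderOf_coe, hh] at h3
    exact hp.one_lt.ne' h3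
  obtain ⟨q₀, hq₀P, hq₀H, hq₀1⟩ := hQ
  ------------------------------------------------------------------
  -- Part 1: the group P ⊔ H
  have hM₁ : ∀ y ∈ (P : Subgroup G) ⊔ H, y ∈ Subgroup.normalizer ((P : Subgroup G) : Set G) →
      ∀ k : ℕ, y * u * y⁻¹ = u ^ k → k ≡ 1 [MOD p] := by
    intro y hy _ k hk
    obtain ⟨x, hx, h, hh, rfl⟩ := Subgroup.mem_sup_of_normal_right.1 hy
    -- u^k * u⁻¹ ∈ H
    have h3 : u ^ k * u⁻¹ ∈ H := by
      rw [← hk]
      have h4 : x * h * u * (x * h)⁻¹ * u⁻¹ = x * (h * (u * h⁻¹ * u⁻¹)) * x⁻¹ * (x * u * x⁻¹ * u⁻¹) := by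
        group
      rw [h4, hPcomm x hx u huP]
      have h5 : u * x * x⁻¹ * u⁻¹ = 1 := by group
      rw [h5, mul_one]
      refine (inferInstance : H.Normal).conj_mem _ (H.mul_mem hh ?_) x
      exact (inferInstance : H.Normal).conj_mem _ (H.inv_mem hh) u
    by_contra hk1
    have hnd : ¬ (p : ℤ) ∣ (k : ℤ) - 1 := by
      intro hd
      apply hk1
      apply Nat.ModEq.symm
      rw [Nat.modEq_iff_dvd]
      simpa using hd
    have hcop : IsCoprime ((k : ℤ) - 1) ((p : ℤ) ^ a) :=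
      (IsCoprime.pow_left ((Prime.coprime_iff_not_dvd (Nat.prime_iff_prime_int.mp hp)).2 hnd)).symm
    obtain ⟨s, t, hst⟩ := hcop
    have h6 : u ^ ((k : ℤ) - 1) ∈ H := by
      rw [zpow_sub_one, zpow_natCast]; exact h3
    have h7 : u ^ ((p : ℤ) ^ a) = 1 := by
      have : ((p : ℤ) ^ a) = ((p ^ a : ℕ) : ℤ) := by push_cast; rfl
      rw [this, zpow_natCast, ← hou, pow_orderOf_eq_one]
    have h8 : u ∈ H := by
      have : u = (u ^ ((k : ℤ) - 1)) ^ s * (u ^ ((p : ℤ) ^ a)) ^ t := by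
        rw [← zpow_mul, ← zpow_mul, ← zpow_add, mul_comm _ s, mul_comm _ t, hst, zpow_one]
      rw [this, h7, one_zpow, mul_one]
      exact H.zpow_mem h6 s
    apply hPH
    rw [hu, Subgroup.zpowers_le]
    exact h8
  obtain ⟨T, hTM, hTnorm, hTcop, hTcard, hTdec⟩ :=
    exists_rel_pcomplement P u hu ((P : Subgroup G) ⊔ H) le_sup_left hM₁
  have hHM : H ≤ (P : Subgroup G) ⊔ H := le_sup_right
  obtain ⟨e, he⟩ : ∃ e, Nat.card H * p ^ e = Nat.card ((P : Subgroup G) ⊔ H : Subgroup G) := by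
    have h3 := Cfsg.Agent.Lib.Helper22.card_mul_relIndex_of_le hHM
    have h4 : H.relIndex ((P : Subgroup G) ⊔ H) ∣ p ^ a := by
      rw [Subgroup.relIndex_sup_right, ← ha]; exact Subgroup.relIndex_dvd_card ..
    obtain ⟨e, -, he⟩ := (Nat.dvd_prime_pow hp).1 h4
    exact ⟨e, by rw [← he]; exact h3⟩
  have hpowT : ∀ x ∈ T, x ^ Nat.card T = 1 := by
    intro x hx
    have h := congrArg Subtype.val (pow_card_eq_one' (G := T) (x := ⟨x, hx⟩))
    rw [SubgroupClass.coe_pow, OneMemClass.coe_one] at h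
    exact h
  -- T ≤ H
  have hTH : T ≤ H := by
    intro x hx
    exact mem_of_pow_index_of_coprime H ((P : Subgroup G) ⊔ H) hHM
      (fun m _ x hx => (inferInstance : H.Normal).conj_mem x hx m) e he x (hTM hx) (Nat.card T) hTcop
      (hpowT x hx)
  obtain ⟨e', he'⟩ : ∃ e', Nat.card T * p ^ e' = Nat.card H := by
    have h3 := Cfsg.Agent.Lib.Helper22.card_mul_relIndex_of_le hTH
    have h4 : T.relIndex H ∣ p ^ a := by
      have h5 := Subgroup.relIndex_mul_relIndex T H ((P : Subgroup G) ⊔ H) hTH hHM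
      have h6 : T.relIndex ((P : Subgroup G) ⊔ H) = p ^ a := by
        have h7 := Cfsg.Agent.Lib.Helper22.card_mul_relIndex_of_le hTM
        rw [← hTcard, ha] at h7
        exact Nat.eq_of_mul_eq_mul_left Nat.card_pos h7
      rw [← h6, ← h5]; exact Dvd.intro _ rfl
    obtain ⟨e', -, he'⟩ := (Nat.dvd_prime_pow hp).1 h4
    exact ⟨e', by rw [← he']; exact h3⟩
  have hTnormH : ∀ m ∈ H, ∀ x ∈ T, m * x * m⁻¹ ∈ T := fun m hm x hx => hTnorm m (hHM hm) x hx
  -- T is normal in G
  have hTn : T.Normal := by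
    refine ⟨fun x hx g => ?_⟩
    refine mem_of_pow_index_of_coprime T H hTH hTnormH e' he' (g * x * g⁻¹)
      ((inferInstance : H.Normal).conj_mem x (hTH hx) g) (Nat.card T) hTcop ?_
    rw [conj_pow, hpowT x hx]; group
  have part1 : Cfsg.HasNormalPComplement p H := by
    have hN' : (T.subgroupOf H).Normal := by
      refine ⟨fun n hn g => ?_⟩
      rw [Subgroup.mem_subgroupOf] at hn ⊢
      simpa using hTnormH g g.2 n hn
    refine ⟨default, T.subgroupOf H, hN', ?_⟩
    have hcT : Nat.card (T.subgroupOf H) = Nat.card T :=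
      Nat.card_congr (Subgroup.subgroupOfEquivOfLe hTH).toEquiv
    have hcQ : Nat.card ((default : Sylow p H) : Subgroup H) = p ^ e' := by
      rw [Sylow.card_eq_multiplicity, ← he',
        Nat.factorization_mul (Nat.card_pos.ne') (pow_pos hp.pos e').ne',
        Finsupp.add_apply,
        Nat.factorization_eq_zero_of_not_dvd ((Nat.Prime.coprime_iff_not_dvd hp).1 hTcop.symm),
        hp.factorization_pow, Finsupp.single_eq_same, zero_add]
    apply Subgroup.isComplement'_of_coprime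
    · rw [hcT, hcQ, he']
    · rw [hcT, hcQ]; exact Nat.Coprime.pow_right e' hTcop
  refine ⟨part1, ?_⟩
  ------------------------------------------------------------------
  -- Part 2
  have hHπ : (H.map (QuotientGroup.mk' T)).Normal :=
    Subgroup.Normal.map inferInstance _ (QuotientGroup.mk'_surjective T)
  have hmemC : ∀ g, g ∈ (Subgroup.centralizer ((H.map (QuotientGroup.mk' T) : Subgroup (G ⧸ T)) :
      Set (G ⧸ T))).comap (QuotientGroup.mk' T) ↔
      ∀ h ∈ H, (QuotientGroup.mk' T h) * (QuotientGroup.mk' T g) =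
        (QuotientGroup.mk' T g) * (QuotientGroup.mk' T h) := by
    intro g
    rw [Subgroup.mem_comap, Subgroup.mem_centralizer_iff]
    constructor
    · intro hg h hh; exact hg _ (Subgroup.mem_map_of_mem _ hh)
    · rintro hg _ ⟨h, hh, rfl⟩; exact hg h hh
  have hCn : ((Subgroup.centralizer ((H.map (QuotientGroup.mk' T) : Subgroup (G ⧸ T)) :
      Set (G ⧸ T))).comap (QuotientGroup.mk' T)).Normal := inferInstance
  set C : Subgroup G := (Subgroup.centralizer ((H.map (QuotientGroup.mk' T) : Subgroup (G ⧸ T)) :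
      Set (G ⧸ T))).comap (QuotientGroup.mk' T) with hC
  have hπP : ∀ g ∈ (P : Subgroup G) ⊔ H, ∃ x ∈ (P : Subgroup G),
      QuotientGroup.mk' T g = QuotientGroup.mk' T x := by
    intro g hg
    obtain ⟨k, hk, x, hx, rfl⟩ := hTdec g hg
    refine ⟨x, hx, ?_⟩
    rw [map_mul]
    have : QuotientGroup.mk' T k = 1 := (QuotientGroup.eq_one_iff k).2 hk
    rw [this, one_mul]
  have hPC : (P : Subgroup G) ≤ C := by
    intro x hx
    rw [hmemC]
    intro h hh
    obtain ⟨x', hx', hπ⟩ := hπP h (hHM hh)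
    rw [hπ, ← map_mul, ← map_mul, hPcomm x' hx' x hx]
  have hMC : ∀ y ∈ C, y ∈ Subgroup.normalizer ((P : Subgroup G) : Set G) →
      ∀ k : ℕ, y * u * y⁻¹ = u ^ k → k ≡ 1 [MOD p] := by
    intro y hy _ k hk
    rw [hu] at hq₀P
    obtain ⟨s, hs⟩ := (Submonoid.mem_powers_iff _ _).1 (mem_powers_iff_mem_zpowers.2 hq₀P)
    have h3 : y * q₀ * y⁻¹ * q₀⁻¹ ∈ T := by
      have h4 := (hmemC y).1 hy q₀ hq₀H
      rw [← map_mul, ← map_mul] at h4
      have h5 : (q₀ * y)⁻¹ * (y * q₀) ∈ T := (QuotientGroup.eq (s := T)).1 h4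
      have h6 : y * q₀ * y⁻¹ * q₀⁻¹ = (q₀ * y) * ((q₀ * y)⁻¹ * (y * q₀)) * (q₀ * y)⁻¹ := by group
      rw [h6]; exact hTn.conj_mem _ h5 _
    have h7 : y * q₀ * y⁻¹ = u ^ (k * s) := by
      rw [← hs, ← conj_pow, hk, ← pow_mul]
    have h8 : u ^ (k * s) * (u ^ s)⁻¹ ∈ T := by rw [← h7, hs]; exact h3
    have h9 : u ^ (k * s) * (u ^ s)⁻¹ ∈ (P : Subgroup G) := by
      rw [hu]
      exact Subgroup.mul_mem _ (Subgroup.pow_mem _ (Subgroup.mem_zpowers u) _)
        (Subgroup.inv_mem _ (Subgroup.pow_mem _ (Subgroup.mem_zpowers u) _))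
    have h10 : u ^ (k * s) * (u ^ s)⁻¹ = 1 := by
      have hz1 := hpowT _ h8
      have hz2 : (u ^ (k * s) * (u ^ s)⁻¹) ^ (p ^ a) = 1 := by
        have := pow_card_eq_one' (G := (P : Subgroup G)) (x := ⟨_, h9⟩)
        rw [ha] at this
        simpa using congrArg Subtype.val this
      exact (pow_eq_one_iff_of_coprime (Nat.Coprime.pow_right a hTcop)).1 ⟨hz1, hz2⟩
    have h11 : u ^ (k * s) = u ^ s := by rw [mul_inv_eq_one] at h10; exact h10
    have h12 : k * s ≡ s [MOD p ^ a] := by rw [← hou]; exact pow_eq_pow_iff_modEq.1 h11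
    have h13 : ¬ (p ^ a) ∣ s := by
      intro hd
      apply hq₀1
      rw [← hs]
      rw [← hou] at hd
      exact orderOf_dvd_iff_pow_eq_one.1 hd
    by_contra hk1
    have hnd : ¬ (p : ℤ) ∣ (k : ℤ) - 1 := by
      intro hd
      apply hk1
      apply Nat.ModEq.symm
      rw [Nat.modEq_iff_dvd]
      simpa using hd
    have hcop : IsCoprime ((p : ℤ) ^ a) ((k : ℤ) - 1) :=
      IsCoprime.pow_left ((Prime.coprime_iff_not_dvd (Nat.prime_iff_prime_int.mp hp)).2 hnd)
    have h14 : ((p : ℤ) ^ a) ∣ ((k : ℤ) - 1) * s := by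
      have h15 := (Nat.modEq_iff_dvd.1 h12.symm)
      have h16 : (((k * s : ℕ) : ℤ) - (s : ℤ)) = ((k : ℤ) - 1) * s := by push_cast; ring
      rw [h16] at h15
      simpa using h15
    have h17 := hcop.dvd_of_dvd_mul_left h14
    apply h13
    exact_mod_cast h17
  obtain ⟨K, hKC, hKnorm, hKcop, hKcard, -⟩ := exists_rel_pcomplement P u hu C hPC hMC
  rw [ha] at hKcard
  have hKn : K.Normal := by
    refine ⟨fun x hx g => ?_⟩
    refine mem_of_pow_index_of_coprime K C hKC hKnorm a hKcard (g * x * g⁻¹)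
      (hCn.conj_mem x (hKC hx) g) (Nat.card K) hKcop ?_
    have : x ^ Nat.card K = 1 := by
      have h := congrArg Subtype.val (pow_card_eq_one' (G := K) (x := ⟨x, hx⟩))
      rw [SubgroupClass.coe_pow, OneMemClass.coe_one] at h
      exact h
    rw [conj_pow, this]; group
  refine ⟨3, ![⊥, K, C, ⊤], rfl, rfl, ?_, ?_, ?_⟩
  · apply Fin.monotone_iff_le_succ.2
    intro i
    fin_cases i
    · exact bot_le
    · exact hKC
    · exact le_top
  · intro i
    fin_cases i
    · exact (inferInstance : (⊥ : Subgroup G).Normal)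
    · exact hKn
    · exact hCn
    · exact (inferInstance : (⊤ : Subgroup G).Normal)
  · intro i
    fin_cases i
    · right
      show ((⊥ : Subgroup G).relIndex K).Coprime p
      rw [Subgroup.relIndex_bot_left]; exact hKcop
    · left
      refine ⟨a, ?_⟩
      show K.relIndex C = p ^ a
      have h3 := Cfsg.Agent.Lib.Helper22.card_mul_relIndex_of_le hKC
      rw [← hKcard] at h3
      exact Nat.eq_of_mul_eq_mul_left Nat.card_pos h3
    · right
      show (C.relIndex ⊤).Coprime p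
      rw [Subgroup.relIndex_top_right]
      exact ((Nat.Prime.coprime_iff_not_dvd hp).2
        (fun h => P.not_dvd_index (h.trans (Subgroup.index_dvd_of_le hPC)))).symm

end Cfsg.Agent.S4145
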