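import Cfsg.Statements.S4517
import Cfsg.Agent.Lib.Lead.RealBlockFull

set_option autoImplicit false
open Cfsg

namespace Cfsg.Agent.S4517

/-- Let G be a finite group, M a maximal ideal of the algebraic integers containing 2, and k a natural number coprime to the order of G with g ^ k = g⁻¹ for every element g of odd order (so that g ↦ g ^ k induces a field automorphism of the character values inverting the roots of unity of odd order). If B is a 2-block of full defect (its defect equals the exponent of 2 in the order of G) that is stable under χ ↦ χ ∘ (· ^ k), then B is the principal 2-block. -/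
theorem result {G : Type*} [Group G] [Finite G] (M : Ideal Cfsg.AlgInt) (hM : Cfsg.IsPModular 2 M) (k : ℕ) (hk : Nat.Coprime k (Nat.card G)) (hk₂ : ∀ g : G, Odd (orderOf g) → g ^ k = g⁻¹) (B : Set (Cfsg.IrrCharacter G)) (hB : Cfsg.IsPBlock M B) (hdef : Cfsg.blockDefect 2 B = (Nat.card G).factorization 2) (hstab : ∀ χ ∈ B, ∃ ψ ∈ B, ∀ g : G, (ψ : G → ℂ) g = (χ : G → ℂ) (g ^ k)) : B = Cfsg.principalBlock M G := by
  classical
  obtain ⟨χ₁, rfl⟩ := hB
  have hp : M.IsPrime := Cfsg.Agent.Lib.Helper24.isPrime_of_isPModular hM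
  have hM1 := Cfsg.Agent.Lib.Helper24.one_not_mem_of_isPModular hM
  have hχ₁ : χ₁ ∈ blockOf M (χ₁ : G → ℂ) := fun g => by
    rw [sub_self]; exact Cfsg.Agent.Lib.Helper24.memLocalIdeal_zero hM1
  have hTne : ((fun χ : IrrCharacter G => (charDegree (χ : G → ℂ)).factorization 2) ''
      blockOf M (χ₁ : G → ℂ)).Nonempty := ⟨_, ⟨χ₁, hχ₁, rfl⟩⟩
  obtain ⟨χ₀, hχ₀, hχ₀m⟩ := Nat.sInf_mem hTne
  obtain ⟨d, hd1, hd2⟩ := Cfsg.Agent.CharLib.IsIrrCharacter.exists_degree χ₀.2
  have hcd : charDegree (χ₀ : G → ℂ) = d := Cfsg.Agent.CharLib.charDegree_eq_of_apply_one hd1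
  have hdpos : d ≠ 0 := by
    rintro rfl
    have := Nat.eq_zero_of_zero_dvd hd2
    exact Nat.card_pos.ne' this
  have hle : d.factorization 2 ≤ (Nat.card G).factorization 2 :=
    (Nat.factorization_le_iff_dvd hdpos Nat.card_pos.ne').mpr hd2 2
  unfold blockDefect at hdef
  rw [← hχ₀m] at hdef
  simp only [hcd] at hdef
  have hm0 : d.factorization 2 = 0 := by omega
  have hdodd : Odd d := by
    rcases (Nat.factorization_eq_zero_iff d 2).mp hm0 with h | h | h
    · exact absurd Nat.prime_two h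
    · exact Nat.odd_iff.mpr (Nat.two_dvd_ne_zero.mp h)
    · exact absurd h hdpos
  have h1B := Cfsg.Agent.CharLib.trivIrr_mem_of_full_defect_stable hM k hk hk₂ χ₁ χ₀ hχ₀ d hd1
    hdodd hstab
  have h1B' : ∀ g : G, MemLocalIdeal M (centralChar (χ₁ : G → ℂ) g -
      centralChar (fun _ : G => (1 : ℂ)) g) := h1B
  ext ψ
  change SameBlock M (χ₁ : G → ℂ) (ψ : G → ℂ) ↔ SameBlock M (fun _ : G => (1 : ℂ)) (ψ : G → ℂ)
  constructor
  · intro h g
    have h3 := Cfsg.Agent.Lib.Helper24.memLocalIdeal_sub (h g) (h1B' g)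
    have h4 : centralChar (χ₁ : G → ℂ) g - centralChar (ψ : G → ℂ) g -
        (centralChar (χ₁ : G → ℂ) g - centralChar (fun _ : G => (1 : ℂ)) g) =
        centralChar (fun _ : G => (1 : ℂ)) g - centralChar (ψ : G → ℂ) g := by ring
    rw [h4] at h3
    exact h3
  · intro h g
    have h3 := Cfsg.Agent.Lib.Helper24.memLocalIdeal_add (h1B' g) (h g)
    have h4 : centralChar (χ₁ : G → ℂ) g - centralChar (fun _ : G => (1 : ℂ)) g +
        (centralChar (fun _ : G => (1 : ℂ)) g - centralChar (ψ : G → ℂ) g) =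
        centralChar (χ₁ : G → ℂ) g - centralChar (ψ : G → ℂ) g := by ring
    rw [h4] at h3
    exact h3

end Cfsg.Agent.S4517
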