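import Cfsg.Statements.S1363
-- import your own Cfsg.Agent.* helpers here
import Cfsg.Agent.S1435
import Cfsg.Agent.S1366

set_option autoImplicit false
open Cfsg

namespace Cfsg.Agent.S1363

/-- Let G be a minimal simple group of odd order and M a maximal subgroup with standard factorisation M = K U M_σ and K ≠ 1. Then U is abelian and the normalizer of U in G is not contained in M. -/
theorem result {G : Type*} [Group G] [Finite G] (hG : Cfsg.IsMinSimpleOddOrder G)
    (M : Subgroup G) (hM : IsCoatom M) (K U : Subgroup G) (hKU : Cfsg.IsSigmaDecomposition M K U) (hK1 : K ≠ ⊥) :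
    IsMulCommutative U ∧ ¬ Subgroup.normalizer (U : Set G) ≤ M := by
  have hHall := (Cfsg.Agent.S1350.result hG M hM).1
  have h142 : Cfsg.Agent.Lib.Helper2.BGCor.T142 M K :=
    Cfsg.Agent.S1430.result hG M hM K hKU.hall hK1
  refine ⟨Cfsg.Agent.Lib.Helper1.BGKap.U_abelian hG hM hHall hKU h142, ?_⟩
  intro hle
  by_cases hU1 : U = ⊥
  · -- `N_G(1) = G`
    apply hM.1
    rw [eq_top_iff]
    intro x _
    apply hle
    rw [hU1, Subgroup.mem_normalizer_iff]
    intro h
    simp only [Subgroup.mem_bot]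
    constructor
    · rintro rfl; group
    · intro h1
      have : h = x⁻¹ * (x * h * x⁻¹) * x := by group
      rw [this, h1]; group
  · -- a prime `r` dividing `|U|`, a Sylow `r`-subgroup `R` of `U`, `H` maximal over `N_G(R)`
    obtain ⟨r, hr, hrU⟩ : ∃ r : ℕ, r.Prime ∧ r ∣ Nat.card U :=
      Nat.exists_prime_and_dvd (fun h => hU1 (Subgroup.card_eq_one.mp h))
    haveI : Fact r.Prime := ⟨hr⟩
    obtain ⟨R⟩ : Nonempty (Sylow r ↥U) := inferInstance
    haveI := hG.2.1
    have hR1 : (R : Subgroup U).map U.subtype ≠ ⊥ := by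
      intro h
      have h1 : (R : Subgroup U) = ⊥ :=
        (Subgroup.map_eq_bot_iff_of_injective _ U.subtype_injective).mp h
      have h2 : r ∣ Nat.card (R : Subgroup U) := by
        rw [R.card_eq_multiplicity]
        exact dvd_pow_self r ((Nat.Prime.factorization_pos_of_dvd hr Nat.card_pos.ne' hrU).ne')
      rw [h1, Subgroup.card_bot] at h2
      exact hr.one_lt.ne' (Nat.dvd_one.mp h2)
    have hRtop : (R : Subgroup U).map U.subtype ≠ ⊤ := fun h =>
      hM.1 (top_le_iff.mp (h ▸ (Subgroup.map_subtype_le _).trans hKU.compl.1))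
    obtain ⟨H, hH, hNH⟩ := Cfsg.Agent.Lib.Helper17.BGU.exists_coatom_ge
      (Cfsg.Agent.Lib.Helper17.BGU.normalizer_ne_top hR1 hRtop)
    obtain ⟨Mstar, ⟨hMstar, hKst, hKstH⟩, -⟩ := Cfsg.Agent.S1366.result hG M hM K U hKU hK1
    have h := (Cfsg.Agent.S1435.result hG M hM K U hKU hK1 hU1 Mstar hMstar hKst hKstH r hrU R H hH
      hNH).2.2.2.1
    exact h (inf_le_right.trans hle)

end Cfsg.Agent.S1363
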