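import Cfsg.Statements.S1013
import Mathlib
import Cfsg.Agent.Lib.Helper23.SylowCount

set_option autoImplicit false
open Cfsg

namespace Cfsg.Agent.S1013
open MulAction

theorem card_dvd_of_pretransitive {H X : Type*} [Group H] [Finite H] [MulAction H X] [IsPretransitive H X]
    [Nonempty X] : Nat.card X ∣ Nat.card H := by
  obtain ⟨x⟩ := (inferInstance : Nonempty X)
  rw [← index_stabilizer_of_transitive H x]
  exact Subgroup.index_dvd_card _

theorem abstract_simple {G X : Type*} [Group G] [Finite G] [MulAction G X] [Finite X] {p : ℕ} [Fact p.Prime]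
    (hX : Nat.card X = p) [IsPretransitive G X] (hfaith : ∀ g : G, (∀ x : X, g • x = x) → g = 1)
    (hp2 : ¬ p ^ 2 ∣ Nat.card G) (P : Sylow p G) (hn : 1 < Nat.card (Sylow p G))
    (ht : (((P : Subgroup G).subgroupOf (Subgroup.normalizer ((P : Subgroup G) : Set G))).index).Prime) :
    IsSimpleGroup G := by
  classical
  have hp : p.Prime := Fact.out
  have hXne : Nonempty X := by
    rw [← Nat.card_pos_iff.trans ⟨fun h => h.1, fun h => ⟨h, inferInstance⟩⟩]
    rw [hX]; exact hp.pos
  have hpG : p ∣ Nat.card G := by rw [← hX]; exact card_dvd_of_pretransitive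
  have hcardpos : Nat.card G ≠ 0 := Nat.card_pos.ne'
  have hfac : (Nat.card G).factorization p = 1 := by
    have h1 : 1 ≤ (Nat.card G).factorization p :=
      (hp.pow_dvd_iff_le_factorization hcardpos).mp (by simpa using hpG)
    have h2 : ¬ 2 ≤ (Nat.card G).factorization p := fun h =>
      hp2 ((hp.pow_dvd_iff_le_factorization hcardpos).mpr h)
    omega
  have hPcard : Nat.card ↥(P : Subgroup G) = p := by
    rw [P.card_eq_multiplicity, hfac, pow_one]
  have hnontriv : Nontrivial G := by
    rw [← Finite.one_lt_card_iff_nontrivial]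
    exact lt_of_lt_of_le hp.one_lt (Nat.le_of_dvd Nat.card_pos hpG)
  have hprim : IsPreprimitive G X := IsPreprimitive.of_prime_card (by rw [hX]; exact hp)
  refine ⟨fun K hK => ?_⟩
  by_cases hKbot : K = ⊥
  · exact Or.inl hKbot
  right
  -- K is transitive
  have hKfix : fixedPoints K X ≠ Set.univ := by
    intro h
    apply hKbot
    rw [Subgroup.eq_bot_iff_forall]
    intro k hk
    apply hfaith
    intro x
    have hx : x ∈ fixedPoints K X := by rw [h]; trivial
    exact hx ⟨k, hk⟩
  have hKtrans : IsPretransitive K X := IsQuasiPreprimitive.isPretransitive_of_normal hKfix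
  have hpK : p ∣ Nat.card K := by rw [← hX]; exact card_dvd_of_pretransitive
  have hKidx : ¬ p ∣ K.index := by
    intro h
    apply hp2
    rw [← K.card_mul_index, pow_two]
    exact mul_dvd_mul hpK h
  have hPK : (P : Subgroup G) ≤ K :=
    Cfsg.Agent.Lib.Helper23.sylow_le_of_normal_of_not_dvd_index p K hKidx P
  have hfrat : Subgroup.normalizer ((P : Subgroup G) : Set G) ⊔ K = ⊤ := Sylow.normalizer_sup_eq_top' P hPK
  set N := Subgroup.normalizer ((P : Subgroup G) : Set G) with hN
  have hPN : (P : Subgroup G) ≤ N := Subgroup.le_normalizer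
  have hPNK : (P : Subgroup G) ≤ N ⊓ K := le_inf hPN hPK
  have hmul : (P : Subgroup G).relIndex (N ⊓ K) * (N ⊓ K).relIndex N = (P : Subgroup G).relIndex N :=
    Subgroup.relIndex_mul_relIndex _ _ _ hPNK inf_le_left
  have hr : ((P : Subgroup G).relIndex N).Prime := ht
  rcases (Nat.Prime.eq_one_or_self_of_dvd hr _ (Dvd.intro_left _ hmul)) with h1 | h1
  · -- N ≤ K
    have hNK : N ≤ N ⊓ K := Subgroup.relIndex_eq_one.mp h1
    have : N ≤ K := le_trans hNK inf_le_right
    rw [← hfrat]
    exact (sup_eq_right.mpr this).symm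
  · -- N ⊓ K = P
    exfalso
    have h2 : (P : Subgroup G).relIndex (N ⊓ K) = 1 := by
      rw [h1] at hmul
      have hpos : 0 < (P : Subgroup G).relIndex N := hr.pos
      exact Nat.eq_of_mul_eq_mul_right hpos (by rw [hmul, one_mul])
    have hNKP : N ⊓ K ≤ (P : Subgroup G) := Subgroup.relIndex_eq_one.mp h2
    -- Burnside inside K
    let PK : Sylow p K := P.subtype hPK
    have hPKmem : ∀ k : K, k ∈ (PK : Subgroup K) ↔ (k : G) ∈ (P : Subgroup G) := by
      intro k
      rw [Sylow.coe_subtype, Subgroup.mem_subgroupOf]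
    have hcycP : IsCyclic ↥(P : Subgroup G) := isCyclic_of_prime_card hPcard
    have hcommP : ∀ a ∈ (P : Subgroup G), ∀ b ∈ (P : Subgroup G), a * b = b * a := by
      intro a ha b hb
      have hmc : IsMulCommutative ↥(P : Subgroup G) := IsCyclic.isMulCommutative
      exact congrArg Subtype.val (hmc.is_comm.comm ⟨a, ha⟩ ⟨b, hb⟩)
    have hNC : Subgroup.normalizer ((PK : Subgroup K) : Set K) ≤ Subgroup.centralizer ((PK : Subgroup K) : Set K) := by
      intro k hk
      rw [Subgroup.mem_normalizer_iff] at hk
      have hkN : (k : G) ∈ N := by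
        rw [hN, Subgroup.mem_normalizer_iff]
        intro g
        constructor
        · intro hg
          have := (hk ⟨g, hPK hg⟩).mp ((hPKmem _).mpr hg)
          exact (hPKmem _).mp this
        · intro hg
          have hgK : g ∈ K := by
            have h3 : (k : G)⁻¹ * ((k : G) * g * (k : G)⁻¹) * (k : G) ∈ K :=
              K.mul_mem (K.mul_mem (K.inv_mem k.2) (hPK hg)) k.2
            have h4 : (k : G)⁻¹ * ((k : G) * g * (k : G)⁻¹) * (k : G) = g := by group
            rwa [h4] at h3
          have := (hk ⟨g, hgK⟩).mpr ((hPKmem _).mpr hg)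
          exact (hPKmem _).mp this
      have hkP : (k : G) ∈ (P : Subgroup G) := hNKP ⟨hkN, k.2⟩
      rw [Subgroup.mem_centralizer_iff]
      intro x hx
      apply Subtype.ext
      exact hcommP _ ((hPKmem x).mp hx) _ hkP
    have hcompl := MonoidHom.ker_transferSylow_isComplement' PK hNC
    set M := (MonoidHom.transferSylow PK hNC).ker with hM
    have hMp : ¬ p ∣ Nat.card M := MonoidHom.not_dvd_card_ker_transferSylow PK hNC
    have hKprim : IsPreprimitive K X := IsPreprimitive.of_prime_card (by rw [hX]; exact hp)
    have hMfix : fixedPoints M X = Set.univ := by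
      by_contra hne
      have hMtrans : IsPretransitive M X := IsQuasiPreprimitive.isPretransitive_of_normal hne
      apply hMp
      rw [← hX]; exact card_dvd_of_pretransitive
    have hMbot : M = ⊥ := by
      rw [Subgroup.eq_bot_iff_forall]
      intro m hm
      apply Subtype.ext
      apply hfaith
      intro x
      have hx : x ∈ fixedPoints M X := by rw [hMfix]; trivial
      exact hx ⟨m, hm⟩
    have hcard := hcompl.card_mul_card
    rw [hMbot, Subgroup.card_bot, one_mul] at hcard
    -- so K = P
    have hKP : K = (P : Subgroup G) := by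
      have hPKcard : Nat.card ↥(PK : Subgroup K) = p := by
        rw [Sylow.coe_subtype]
        exact (Nat.card_congr (Subgroup.subgroupOfEquivOfLe hPK).toEquiv).trans hPcard
      symm
      apply Subgroup.eq_of_le_of_card_ge hPK
      rw [hPcard, ← hcard, hPKcard]
    have hPnormal : (P : Subgroup G).Normal := hKP ▸ hK
    have := Sylow.unique_of_normal P hPnormal
    have h1 : Nat.card (Sylow p G) = 1 := Nat.card_unique
    omega


theorem main {α : Type*} [Fintype α] [DecidableEq α] {p : ℕ} [Fact p.Prime] (hα : Fintype.card α = p)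
    (G : Subgroup (Equiv.Perm α)) [MulAction.IsPretransitive ↥G α] (P : Sylow p ↥G)
    (hn : 1 < Nat.card (Sylow p ↥G))
    (ht : (((P : Subgroup ↥G).subgroupOf (Subgroup.normalizer ((P : Subgroup ↥G) : Set ↥G))).index).Prime) :
    IsSimpleGroup ↥G := by
  have hp : p.Prime := Fact.out
  have hX : Nat.card α = p := by rw [Nat.card_eq_fintype_card, hα]
  apply abstract_simple hX _ _ P hn ht
  · intro g hg
    apply Subtype.ext
    ext x
    exact hg x
  · intro h
    have h1 : Nat.card ↥G ∣ Nat.card (Equiv.Perm α) := Subgroup.card_subgroup_dvd_card G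
    rw [Nat.card_eq_fintype_card (α := Equiv.Perm α), Fintype.card_perm, hα] at h1
    have h2 : p ^ 2 ∣ p.factorial := dvd_trans h h1
    have h3 : p.factorial = p * (p - 1).factorial := by
      have : p = (p - 1) + 1 := by have := hp.pos; omega
      conv_lhs => rw [this, Nat.factorial_succ, ← this]
    rw [h3, pow_two] at h2
    have h4 : p ∣ (p - 1).factorial := Nat.dvd_of_mul_dvd_mul_left hp.pos h2
    have := (hp.dvd_factorial).mp h4
    have := hp.pos
    omega



/-- Let G be a transitive permutation group of prime degree p having more than one Sylow p-subgroup, and suppose a Sylow p-subgroup P has prime index in its normalizer. Then G is simple. -/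
theorem result {α : Type*} [Fintype α] [DecidableEq α] {p : ℕ} [Fact p.Prime] (hα : Fintype.card α = p) (G : Subgroup (Equiv.Perm α)) [MulAction.IsPretransitive ↥G α] (P : Sylow p ↥G) (hn : 1 < Nat.card (Sylow p ↥G)) (ht : (((P : Subgroup ↥G).subgroupOf (Subgroup.normalizer ((P : Subgroup ↥G) : Set ↥G))).index).Prime) : IsSimpleGroup ↥G := by
  exact main hα G P hn ht

end Cfsg.Agent.S1013
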