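import Cfsg.Statements.S4702
import Cfsg.Agent.Lib.Helper19.Sharp2Even
import Cfsg.Agent.S0727
import Cfsg.Agent.Lib.Helper9.Sharp3PSL

set_option autoImplicit false
open Cfsg

namespace Cfsg.Agent.S4702

/-- Let G be a triply transitive permutation group on a finite set of odd size m ≥ 3 in which only the identity fixes three or more points. Then m = 2^a + 1 for some a ≥ 1 and G is isomorphic to SL(2, 2^a). -/
theorem result {α : Type*} [Fintype α] [DecidableEq α] (hm : 3 ≤ Fintype.card α) (hodd : Odd (Fintype.card α)) (G : Subgroup (Equiv.Perm α)) (h3 : MulAction.IsMultiplyPretransitive G α 3) (hfix : ∀ g : G, 3 ≤ Nat.card (MulAction.fixedBy α g) → g = 1) : ∃ a : ℕ, 1 ≤ a ∧ Fintype.card α = 2 ^ a + 1 ∧ ∃ (F : Type) (_ : Field F) (_ : Fintype F), Fintype.card F = 2 ^ a ∧ Nonempty (G ≃* Matrix.SpecialLinearGroup (Fin 2) F) := by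
  classical
  have hsharp : ∀ x : Fin 3 ↪ α, MulAction.stabilizer G x = ⊥ := by
    intro x
    rw [eq_bot_iff]
    intro g hg
    rw [Subgroup.mem_bot]
    apply hfix
    have hgx : ∀ i, g • x i = x i := fun i => by
      have := MulAction.mem_stabilizer_iff.1 hg
      exact congrFun (congrArg DFunLike.coe this) i
    have hle : Nat.card (Fin 3) ≤ Nat.card (MulAction.fixedBy α g) :=
      Nat.card_le_card_of_injective (fun i => (⟨x i, hgx i⟩ : MulAction.fixedBy α g))
        (fun i j h => x.injective (congrArg Subtype.val h))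
    simpa using hle
  have hS3 := Cfsg.Agent.Lib.Helper9.sharp3_of_isMultiplyPretransitive h3 hsharp
  obtain ⟨x₀⟩ : Nonempty α := Fintype.card_pos_iff.1 (by omega)
  have hS2 := hS3.sharp2_stabilizer x₀
  have hcard : Nat.card (SubMulAction.ofStabilizer G x₀) + 1 = Nat.card α :=
    SubMulAction.nat_card_ofStabilizer_add_one_eq G x₀
  rw [Nat.card_eq_fintype_card (α := α)] at hcard
  have heven : Even (Nat.card (SubMulAction.ofStabilizer G x₀)) := by
    obtain ⟨j, hj⟩ := hodd
    exact ⟨j, by omega⟩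
  obtain ⟨a, ha1, ha⟩ := Cfsg.Agent.Lib.Helper19.Sharp2Even.card_eq_two_pow hS2 heven (by omega)
  have hα : Fintype.card α = 2 ^ a + 1 := by omega
  obtain ⟨F, fF, ftF, hF, ⟨iso⟩⟩ := Cfsg.Agent.S0727.result ha1 hα G h3 hsharp
  refine ⟨a, ha1, hα, F, fF, ftF, hF, ?_⟩
  haveI : CharP F 2 := Cfsg.Agent.Lib.Helper19.Sharp2Even.charP_two_of_card hF
  exact ⟨iso.trans (Cfsg.Agent.Lib.Helper9.pglEquivPsl.trans
    Cfsg.Agent.Lib.Helper19.Sharp2Even.pslEquivSl)⟩

end Cfsg.Agent.S4702
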