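import Cfsg.Statements.S4706
import Cfsg.Agent.Lib.Helper19.PDegF
import Cfsg.Agent.S0675
import Cfsg.Agent.S0676
import Cfsg.Agent.S1013
import Cfsg.Agent.S4702
import Cfsg.Agent.S4337

set_option autoImplicit false
open Cfsg

namespace Cfsg.Agent.S4706

open Cfsg.Agent.Lib.Helper19.PDeg Cfsg.Agent.CharLib MulAction

/-- Let p > 2 be a prime and G a permutation group on p letters whose Sylow p-subgroup P has normalizer of order 2p. Then either P is normal in G, or p − 1 = 2^a for some a and G is isomorphic to SL(2, 2^a). -/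
theorem result {α : Type*} [Fintype α] [DecidableEq α] {p : ℕ} [Fact p.Prime] (hp : 2 < p) (hα : Fintype.card α = p) (G : Subgroup (Equiv.Perm α)) (P : Sylow p G) (hN : Nat.card (Subgroup.normalizer ((P : Subgroup G) : Set G)) = 2 * p) : (P : Subgroup G).Normal ∨ ∃ (a : ℕ) (F : Type) (_ : Field F) (_ : Fintype F), p = 2 ^ a + 1 ∧ Fintype.card F = 2 ^ a ∧ Nonempty (G ≃* Matrix.SpecialLinearGroup (Fin 2) F) := by
  classical
  have hpp : p.Prime := Fact.out
  by_cases hPn : (P : Subgroup G).Normal
  · exact Or.inl hPn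
  right
  -- the order of `P`
  have hNG : 2 * p ∣ Nat.card G := by
    rw [← hN]
    exact Subgroup.card_subgroup_dvd_card _
  have hpG : p ∣ Nat.card G := dvd_trans (dvd_mul_left p 2) hNG
  have hPN : Nat.card (P : Subgroup G) ∣ 2 * p := by
    rw [← hN]
    exact Subgroup.card_dvd_of_le Subgroup.le_normalizer
  have hP : Nat.card (P : Subgroup G) = p := by
    have h1 := P.card_eq_multiplicity
    have hpos : Nat.card G ≠ 0 := Nat.card_pos.ne'
    have hk1 : 1 ≤ (Nat.card G).factorization p :=
      (hpp.dvd_iff_one_le_factorization hpos).mp hpG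
    have hk2 : ¬ 2 ≤ (Nat.card G).factorization p := by
      intro h2
      have h3 : p ^ 2 ∣ Nat.card (P : Subgroup G) := by
        rw [h1]
        exact pow_dvd_pow p h2
      have h4 : p * p ∣ 2 * p := by
        rw [← pow_two]
        exact dvd_trans h3 hPN
      have h5 : p ∣ 2 := Nat.dvd_of_mul_dvd_mul_right hpp.pos h4
      have := Nat.le_of_dvd (by norm_num) h5
      omega
    have hk : (Nat.card G).factorization p = 1 := by omega
    rw [h1, hk, pow_one]
  -- an element of order `p`, transitivity
  obtain ⟨x', hx'⟩ := exists_prime_orderOf_dvd_card' (G := ↥(P : Subgroup G)) p (by rw [hP])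
  set x : G := (x' : G) with hxdef
  have hxP : x ∈ (P : Subgroup G) := x'.2
  have hx : orderOf x = p := by rw [hxdef, Subgroup.orderOf_coe, hx']
  have hxfix := smul_ne_of_orderOf_eq hα x hx
  haveI htrans : IsPretransitive G α := ⟨fun u v => by
    obtain ⟨i, hi⟩ := Cfsg.Agent.S0677.exists_zpow_smul_eq hα x hx hxfix u v
    exact ⟨x ^ i, hi⟩⟩
  -- `G` is simple and not solvable
  have hn : 1 < Nat.card (Sylow p G) := by
    by_contra hcon
    have h1 : Nat.card (Sylow p G) = 1 := by
      have : 0 < Nat.card (Sylow p G) := Nat.card_pos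
      omega
    rw [Sylow.card_eq_index_normalizer P, Subgroup.index_eq_one] at h1
    exact hPn (Subgroup.normalizer_eq_top_iff.mp h1)
  have ht : (((P : Subgroup G).subgroupOf
      (Subgroup.normalizer ((P : Subgroup G) : Set G))).index).Prime := by
    have h1 := Subgroup.relIndex_mul_relIndex (⊥ : Subgroup G) (P : Subgroup G)
      (Subgroup.normalizer ((P : Subgroup G) : Set G)) bot_le Subgroup.le_normalizer
    rw [Subgroup.relIndex_bot_left, Subgroup.relIndex_bot_left, hN, hP, mul_comm 2 p] at h1
    have h2 : (P : Subgroup G).relIndex (Subgroup.normalizer ((P : Subgroup G) : Set G)) = 2 :=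
      Nat.eq_of_mul_eq_mul_left hpp.pos h1
    have h3 : ((P : Subgroup G).subgroupOf
        (Subgroup.normalizer ((P : Subgroup G) : Set G))).index = 2 := h2
    rw [h3]
    exact Nat.prime_two
  haveI hsimple : IsSimpleGroup G := Cfsg.Agent.S1013.result hα G P hn ht
  have hnsolv : ¬ Group.IsSolvable G := by
    intro hs
    have hcomm := IsSimpleGroup.comm_iff_isSolvable.mpr hs
    apply hPn
    refine ⟨fun n hn g => ?_⟩
    rw [hcomm g n, mul_inv_cancel_right]
    exact hn
  have hp5 : 5 ≤ p := by
    by_contra hcon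
    apply hnsolv
    have : Group.IsSolvable (Equiv.Perm α) :=
      ⟨⟨3, Cfsg.Agent.S4337.derivedSeries_perm_small (by omega)⟩⟩
    infer_instance
  -- transitivity properties
  have h2t : IsMultiplyPretransitive G α 2 :=
    (Cfsg.Agent.S0675.result (by rw [hα]; exact hpp) G).resolve_left hnsolv
  have h3t : IsMultiplyPretransitive G α 3 :=
    Cfsg.Agent.S0676.result hα G hnsolv P (by rw [hN]; exact even_two_mul p)
  -- the permutation character
  have hirr : IsIrrCharacter G (fun g : G => (Nat.card (fixedBy α g) : ℂ) - 1) :=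
    (isIrrCharacter_card_fixedBy_sub_one_iff (G := G) (X := α)
      (by rw [Nat.card_eq_fintype_card, hα]; omega)).mpr h2t
  set χ : IrrCharacter G := ⟨fun g : G => (Nat.card (fixedBy α g) : ℂ) - 1, hirr⟩ with hχdef
  have hχ : ∀ g : G, (χ : G → ℂ) g = (Nat.card (fixedBy α g) : ℂ) - 1 := fun g => rfl
  have hχ1 : (χ : G → ℂ) 1 = (p : ℂ) - 1 := by
    rw [hχ]
    have : fixedBy α (1 : G) = Set.univ := by
      ext u
      simp
    rw [this, Nat.card_coe_set_eq, Set.ncard_univ, Nat.card_eq_fintype_card, hα]
  have hχs : ∀ g : G, p ∣ orderOf g → (χ : G → ℂ) g = -1 := by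
    intro g hg
    rw [hχ]
    have : Nat.card (fixedBy α g) = 0 := by
      rw [Nat.card_eq_zero]
      left
      refine ⟨fun u => ?_⟩
      exact not_dvd_orderOf_of_smul_eq hα g u.1 u.2 hg
    rw [this]
    norm_num
  -- the centralizers
  have hcyc0 : IsCyclic ↥(P : Subgroup G) := isCyclic_of_prime_card hP
  have hab : IsMulCommutative P := IsCyclic.isMulCommutative
  have hcent : ∀ y : G, y ∈ (P : Subgroup G) → y ≠ 1 →
      Subgroup.centralizer ({y} : Set G) = (P : Subgroup G) := by
    intro y hy hy1
    have hyo := Cfsg.Agent.Lib.Helper12.BSF.orderOf_eq_of_card_prime p (P : Subgroup G) hP y hy hy1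
    apply le_antisymm
    · intro g hg
      rw [Subgroup.mem_centralizer_singleton_iff] at hg
      have hcomm : Commute g y := hg
      have := mem_zpowers_of_commute hα y hyo g hcomm
      have hle : Subgroup.zpowers y ≤ (P : Subgroup G) := by
        rw [Subgroup.zpowers_le]; exact hy
      exact hle this
    · exact sylow_le_centralizer_of_comm P hab y hy
  obtain ⟨χ₁, Y, hBD⟩ := exists_blockData hp5 P hP hcent hN χ hχ1 hχs
  have hfix : ∀ g : G, 3 ≤ Nat.card (fixedBy α g) → g = 1 :=
    fun g hg => hBD.eq_one_of_three_fixed hp5 hα hχ h3t x hxP hx g hg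
  have hodd : Odd (Fintype.card α) := by
    rw [hα]
    exact hpp.odd_of_ne_two (by omega)
  obtain ⟨a, -, hcard, F, fF, ftF, hF, hiso⟩ :=
    Cfsg.Agent.S4702.result (by rw [hα]; omega) hodd G h3t hfix
  exact ⟨a, F, fF, ftF, by rw [← hα, hcard], hF, hiso⟩

end Cfsg.Agent.S4706
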