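import Cfsg.Statements.S4713
import Cfsg.Agent.Lib.Helper24.NormalDegrees
import Cfsg.Agent.Lib.Helper24.SylowNormalize
import Cfsg.Agent.Lib.Helper24.PSolvable
import Cfsg.Agent.Lib.Helper22.Frobenius
import Cfsg.Agent.Lib.Helper4.Basic
import Cfsg.Agent.Lib.Helper1.SZConj
import Cfsg.Agent.S0169

set_option autoImplicit false
open Cfsg

namespace Cfsg.Agent.S4713

open Cfsg Cfsg.Agent.CharLib Cfsg.Agent.Lib.Helper6 Cfsg.Agent.Lib.Helper24 Module

universe u

/-- an automorphism of a finite group fixing all irreducible characters fixes all classes -/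
theorem isConj_of_fixes_irr {N : Type u} [Group N] [Finite N] (α : N ≃* N)
    (h : ∀ χ : IrrCharacter N, (χ : N → ℂ) ∘ α = (χ : N → ℂ)) (n : N) : IsConj (α n) n := by
  classical
  have : Fintype (ConjClasses N) := Fintype.ofFinite _
  have h1 := card_fixed_classes_eq_card_fixed_irr α
  have h2 : Nat.card {χ : IrrCharacter N // (χ : N → ℂ) ∘ α = (χ : N → ℂ)} = Nat.card (IrrCharacter N) :=
    Nat.card_congr (Equiv.subtypeUnivEquiv h)
  rw [h2, card_irrCharacter] at h1
  have h3 : ∀ C : ConjClasses N, ConjClasses.map α.toMonoidHom C = C := by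
    intro C
    by_contra hC
    have h4 := Fintype.card_subtype_lt (p := fun C : ConjClasses N => ConjClasses.map α.toMonoidHom C = C) hC
    rw [← Nat.card_eq_fintype_card, ← Nat.card_eq_fintype_card, h1] at h4
    exact lt_irrefl _ h4
  have h5 := h3 (ConjClasses.mk n)
  exact ConjClasses.mk_eq_mk_iff_isConj.mp h5

theorem sylow_normal_of_split {K : Type u} [Group K] [Finite K] (p : ℕ) [Fact p.Prime] (N : Subgroup K) [hNn : N.Normal]
    (hN : ¬ p ∣ Nat.card N) (P : Sylow p K) (hsup : N ⊔ (P : Subgroup K) = ⊤)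
    (hdeg : ∀ χ : IrrCharacter K, ¬ p ∣ charDegree (χ : K → ℂ)) : (P : Subgroup K).Normal := by
  classical
  have : Fintype K := Fintype.ofFinite K
  have : Fintype N := Fintype.ofFinite N
  have hp : p.Prime := Fact.out
  -- the index of N is a power of p
  have hidx : ∃ j, N.index = p ^ j := by
    have h1 : N.relIndex (P : Subgroup K) ∣ Nat.card (P : Subgroup K) := Subgroup.relIndex_dvd_card _ _
    have h2 : N.relIndex ((P : Subgroup K) ⊔ N) = N.relIndex (P : Subgroup K) := Subgroup.relIndex_sup_right _ _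
    rw [sup_comm, hsup, Subgroup.relIndex_top_right] at h2
    obtain ⟨k, hk⟩ := P.isPGroup'.exists_card_eq
    rw [← h2, hk] at h1
    obtain ⟨j, _, hj⟩ := (Nat.dvd_prime_pow hp).mp h1
    exact ⟨j, hj⟩
  -- every irreducible character of N is invariant
  have hinv : ∀ (θ : IrrCharacter N) (g : K), conjFun N g (θ : N → ℂ) = (θ : N → ℂ) := by
    intro θ g
    have hcls : IsClassFunction N (θ : N → ℂ) := IsCharacter.isClassFunction (IsIrrCharacter.isCharacter θ.2)
    have h1 := (not_dvd_degree_normal N p hdeg θ).2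
    have h2 := card_conjOrbit_dvd_index N hcls
    obtain ⟨j, hj⟩ := hidx
    rw [hj] at h2
    obtain ⟨i, _, hi⟩ := (Nat.dvd_prime_pow hp).mp h2
    have hi0 : i = 0 := by
      by_contra h
      apply h1
      rw [hi]
      exact dvd_pow_self p h
    rw [hi0, pow_zero] at hi
    have h3 : conjFun N g (θ : N → ℂ) ∈ conjOrbit N (θ : N → ℂ) := (mem_conjOrbit N).mpr ⟨g, rfl⟩
    have h4 : (θ : N → ℂ) ∈ conjOrbit N (θ : N → ℂ) := self_mem_conjOrbit N _
    exact Finset.card_le_one.mp hi.le _ h3 _ h4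
  -- conjugation by any element of K fixes every class of N
  have hconj : ∀ (x : K) (n : N), ∃ m : N, (m : K) * (x * (n : K) * x⁻¹) * (m : K)⁻¹ = (n : K) := by
    intro x n
    have h1 := isConj_of_fixes_irr (MulAut.conjNormal x : N ≃* N) (fun θ => by
      have h0 : (θ : N → ℂ) ∘ (MulAut.conjNormal x : N ≃* N) = conjFun N x (θ : N → ℂ) := by
        funext h
        rw [Function.comp_apply, conjFun_apply]
        congr 1
      rw [h0]
      exact hinv θ x) n
    obtain ⟨m, hm⟩ := isConj_iff.mp h1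
    refine ⟨m, ?_⟩
    have h2 := congrArg (Subtype.val) hm
    rw [Subgroup.coe_mul, Subgroup.coe_mul, Subgroup.coe_inv, MulAut.conjNormal_apply] at h2
    exact h2
  -- every element of N is conjugate under N to an element centralized by P
  have hcent : ∀ n : N, ∃ m : N, (m : K)⁻¹ * (n : K) * (m : K) ∈ Subgroup.centralizer ((P : Subgroup K) : Set K) := by
    intro n
    set C := Subgroup.centralizer ({(n : K)} : Set K) with hC
    have hCN : C ⊔ N = ⊤ := by
      rw [eq_top_iff]
      intro x _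
      obtain ⟨m, hm⟩ := hconj x n
      have h1 : (m : K) * x ∈ C := by
        rw [hC, Subgroup.mem_centralizer_singleton_iff]
        calc (m : K) * x * (n : K) = ((m : K) * (x * (n : K) * x⁻¹) * (m : K)⁻¹) * ((m : K) * x) := by group
          _ = (n : K) * ((m : K) * x) := by rw [hm]
      have h2 : x = (m : K)⁻¹ * ((m : K) * x) := by group
      rw [h2]
      exact Subgroup.mul_mem _ (Subgroup.mem_sup_right (N.inv_mem m.2)) (Subgroup.mem_sup_left h1)
    have hidxC : ¬ p ∣ C.index := by
      have h1 := Cfsg.Agent.Lib.Helper4.card_sup_mul_card_inf C N (by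
        rw [Subgroup.normalizer_eq_top_iff.mpr hNn]; exact le_top)
      rw [hCN, Subgroup.card_top] at h1
      have h2 := C.card_mul_index
      have h3 : C.index * Nat.card (C ⊓ N : Subgroup K) = Nat.card N := by
        have hpos : 0 < Nat.card C := Nat.card_pos
        apply Nat.eq_of_mul_eq_mul_left hpos
        rw [← mul_assoc, h2, h1]
      intro hd
      apply hN
      rw [← h3]
      exact dvd_mul_of_dvd_left hd _
    obtain ⟨Q, hQ⟩ := exists_sylow_le_of_not_dvd_index C hidxC
    obtain ⟨m, hm, hQm⟩ := exists_mem_smul_eq_of_le_sup P Q N (by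
      rw [sup_comm, hsup]; exact le_top)
    refine ⟨⟨m, hm⟩, ?_⟩
    rw [Subgroup.mem_centralizer_iff]
    intro y hy
    have h1 : m * y * m⁻¹ ∈ (Q : Subgroup K) := by
      rw [hQm, mem_smul_sylow_iff]
      have : m⁻¹ * (m * y * m⁻¹) * m = y := by group
      rw [this]
      exact hy
    have h2 := hQ h1
    rw [hC, Subgroup.mem_centralizer_singleton_iff] at h2
    show y * (m⁻¹ * (n : K) * m) = (m⁻¹ * (n : K) * m) * y
    calc y * (m⁻¹ * (n : K) * m) = m⁻¹ * ((m * y * m⁻¹) * (n : K)) * m := by group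
      _ = m⁻¹ * ((n : K) * (m * y * m⁻¹)) * m := by rw [h2]
      _ = (m⁻¹ * (n : K) * m) * y := by group
  -- hence P centralizes N
  have hNle : N ≤ Subgroup.centralizer ((P : Subgroup K) : Set K) := by
    rw [← Subgroup.subgroupOf_eq_top]
    by_contra hne
    obtain ⟨x, hx1, hx⟩ := Cfsg.Agent.Lib.Helper22.exists_ne_one_forall_conj_not_mem _ hne
    obtain ⟨m, hm⟩ := hcent x
    apply hx m
    rw [Subgroup.mem_subgroupOf]
    exact hm
  rw [← Subgroup.normalizer_eq_top_iff, eq_top_iff, ← hsup]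
  exact sup_le (hNle.trans (Subgroup.centralizer_le_normalizer _)) Subgroup.le_normalizer


/-- a normal Sylow subgroup contains all `p`-elements -/
theorem mem_of_normal_sylow {K : Type*} [Group K] [Finite K] {p : ℕ} [Fact p.Prime] (P : Sylow p K)
    (hP : (P : Subgroup K).Normal) (y : K) (hy : ∃ k : ℕ, orderOf y = p ^ k) : y ∈ (P : Subgroup K) := by
  obtain ⟨k, hk⟩ := hy
  have hpg : IsPGroup p (Subgroup.zpowers y) := IsPGroup.of_card (n := k) (by rw [Nat.card_zpowers, hk])
  obtain ⟨Q, hQ⟩ := hpg.exists_le_sylow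
  obtain ⟨g, rfl⟩ := MulAction.exists_smul_eq K P Q
  haveI := hP
  rw [Sylow.smul_eq_of_normal] at hQ
  exact hQ (Subgroup.mem_zpowers y)

/-- the main induction: all degrees prime to `p` in a `p`-solvable group forces a normal Sylow `p`-subgroup -/
theorem sylow_normal_of_degrees (p : ℕ) [Fact p.Prime] :
    ∀ (n : ℕ) (G : Type u) [Group G] [Finite G], Nat.card G = n → Cfsg.IsPSolvable p G →
      (∀ χ : IrrCharacter G, ¬ p ∣ charDegree (χ : G → ℂ)) → ∀ P : Sylow p G, (P : Subgroup G).Normal := by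
  intro n
  induction n using Nat.strong_induction_on with
  | _ n ih =>
    intro G _ _ hcard hsolv hdeg P
    classical
    by_cases hnt : Nontrivial G
    swap
    · rw [not_nontrivial_iff_subsingleton] at hnt
      exact ⟨fun a ha g => by rw [Subsingleton.elim (g * a * g⁻¹) a]; exact ha⟩
    obtain ⟨N, hNn, hN1, hN2⟩ := exists_normal_of_isPSolvable p hsolv
    haveI := hNn
    have hlt : Nat.card (G ⧸ N) < n := by
      rw [← hcard]; exact Cfsg.Agent.Lib.Helper1.card_quotient_lt_of_ne_bot hN1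
    have hQsolv : IsPSolvable p (G ⧸ N) :=
      isPSolvable_of_surjective p (QuotientGroup.mk' N) (QuotientGroup.mk'_surjective N) hsolv
    have hQdeg := not_dvd_degree_quotient p N hdeg
    have hQ := ih _ hlt (G ⧸ N) rfl hQsolv hQdeg (P.mapSurjective (QuotientGroup.mk'_surjective N))
    rw [Sylow.coe_mapSurjective] at hQ
    have hH : ((P : Subgroup G) ⊔ N).Normal := by
      have h1 := hQ.comap (QuotientGroup.mk' N)
      rw [Subgroup.comap_map_eq, QuotientGroup.ker_mk'] at h1
      exact h1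
    rcases hN2 with hpg | hcop
    · have hle := normal_pgroup_le_sylow N hpg P
      rw [sup_eq_left.mpr hle] at hH
      exact hH
    · haveI := hH
      haveI : Fintype G := Fintype.ofFinite G
      haveI : Fintype ↥((P : Subgroup G) ⊔ N) := Fintype.ofFinite _
      have hHdeg : ∀ θ : IrrCharacter ↥((P : Subgroup G) ⊔ N), ¬ p ∣ charDegree (θ : ↥((P : Subgroup G) ⊔ N) → ℂ) :=
        fun θ => (not_dvd_degree_normal ((P : Subgroup G) ⊔ N) p hdeg θ).1
      have hPH : (P : Subgroup G) ≤ (P : Subgroup G) ⊔ N := le_sup_left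
      have hNH : N ≤ (P : Subgroup G) ⊔ N := le_sup_right
      have hNcard : ¬ p ∣ Nat.card (N.subgroupOf ((P : Subgroup G) ⊔ N)) := by
        rw [Nat.card_congr (Subgroup.subgroupOfEquivOfLe hNH).toEquiv]
        intro hd
        have h1 : p ∣ Nat.gcd (Nat.card N) p := Nat.dvd_gcd hd dvd_rfl
        rw [hcop] at h1
        exact (Fact.out : p.Prime).one_lt.ne' (Nat.dvd_one.mp h1)
      have hsup : N.subgroupOf ((P : Subgroup G) ⊔ N) ⊔ ((P.subtype hPH : Sylow p ↥((P : Subgroup G) ⊔ N)) :
          Subgroup ↥((P : Subgroup G) ⊔ N)) = ⊤ := by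
        rw [Sylow.coe_subtype, ← Subgroup.subgroupOf_sup hNH hPH, sup_comm, Subgroup.subgroupOf_self]
      have hB := sylow_normal_of_split p (N.subgroupOf ((P : Subgroup G) ⊔ N)) hNcard (P.subtype hPH) hsup hHdeg
      refine ⟨fun x hx g => ?_⟩
      have hyH : g * x * g⁻¹ ∈ (P : Subgroup G) ⊔ N := hH.conj_mem x (hPH hx) g
      have hord : ∃ k : ℕ, orderOf (⟨g * x * g⁻¹, hyH⟩ : ↥((P : Subgroup G) ⊔ N)) = p ^ k := by
        obtain ⟨k, hk⟩ := (IsPGroup.iff_orderOf.mp P.isPGroup') ⟨x, hx⟩
        refine ⟨k, ?_⟩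
        rw [← hk, ← Subgroup.orderOf_coe, ← Subgroup.orderOf_coe]
        show orderOf (g * x * g⁻¹) = orderOf x
        have := (MulAut.conj g).orderOf_eq x
        rwa [MulAut.conj_apply] at this
      have hmem := mem_of_normal_sylow (P.subtype hPH) hB _ hord
      rw [Sylow.coe_subtype, Subgroup.mem_subgroupOf] at hmem
      exact hmem

/-- Let p be a prime and G a finite p-solvable group. Then G has a normal abelian Sylow p-subgroup if and only if the degree of every irreducible character of G is prime to p. -/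
theorem result {G : Type*} [Group G] [Finite G] (p : ℕ) [Fact p.Prime] (hsolv : Cfsg.IsPSolvable p G) (P : Sylow p G) : ((P : Subgroup G).Normal ∧ IsMulCommutative P) ↔ ∀ χ : Cfsg.IrrCharacter G, ¬ p ∣ Cfsg.charDegree (χ : G → ℂ) := by
  classical
  constructor
  · rintro ⟨hPn, hPab⟩ χ
    haveI := hPn
    have hdeg := irr_apply_one χ
    obtain ⟨χf, n, ρ, hirr, rfl⟩ := χ
    haveI := hirr
    have hcomm : ∀ a ∈ (P : Subgroup G), ∀ b ∈ (P : Subgroup G), a * b = b * a := by
      intro a ha b hb
      have := hPab.is_comm.comm (⟨a, ha⟩ : ↥(P : Subgroup G)) ⟨b, hb⟩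
      exact congrArg Subtype.val this
    have h1 := Cfsg.Agent.S0169.result ρ (P : Subgroup G) hcomm
    have hone : ρ.character 1 = (finrank ℂ (Fin n → ℂ) : ℂ) := by simp
    have h2 : Cfsg.charDegree ρ.character = finrank ℂ (Fin n → ℂ) := by
      have h3 : ((Cfsg.charDegree ρ.character : ℕ) : ℂ) = (finrank ℂ (Fin n → ℂ) : ℂ) := by
        rw [← hone]; exact hdeg.symm
      exact_mod_cast h3
    intro hd
    apply P.not_dvd_index
    exact dvd_trans (h2 ▸ hd) h1
  · intro hdeg
    have hPn := sylow_normal_of_degrees p _ G rfl hsolv hdeg P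
    refine ⟨hPn, ?_⟩
    haveI := hPn
    haveI : Fintype G := Fintype.ofFinite G
    haveI : Fintype ↥(P : Subgroup G) := Fintype.ofFinite _
    have hlin : ∀ θ : IrrCharacter ↥(P : Subgroup G), (θ : ↥(P : Subgroup G) → ℂ) 1 = 1 := by
      intro θ
      have h1 := (not_dvd_degree_normal (P : Subgroup G) p hdeg θ).1
      have h2 := irr_charDegree_dvd_card θ
      obtain ⟨k, hk⟩ := P.isPGroup'.exists_card_eq
      rw [hk] at h2
      obtain ⟨i, _, hi⟩ := (Nat.dvd_prime_pow (Fact.out : p.Prime)).mp h2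
      have hi0 : i = 0 := by
        by_contra h
        apply h1
        rw [hi]
        exact dvd_pow_self p h
      rw [hi0, pow_zero] at hi
      rw [irr_apply_one θ, hi, Nat.cast_one]
    have hc := (comm_iff_forall_irr_apply_one (G := ↥(P : Subgroup G))).mpr hlin
    exact ⟨⟨hc⟩⟩

end Cfsg.Agent.S4713
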