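import Cfsg.Statements.S0857
import Cfsg.Agent.Lib.Helper6.CliffordCorr
import Cfsg.Agent.Lib.Lead.CharMore
import Cfsg.Agent.Lib.Helper24.IrrFacts
import Cfsg.Agent.Lib.Helper24.PerfectLemmas
import Cfsg.Agent.Lib.Helper23.LinTwist
import Cfsg.Agent.Lib.Helper24.NormalDegrees

set_option autoImplicit false
open Cfsg

namespace Cfsg.Agent.S0857

open Cfsg Cfsg.Agent.CharLib Cfsg.Agent.Lib.Helper6 Cfsg.Agent.Lib.Helper24 Cfsg.Agent.Lib.Helper23
open scoped ComplexConjugate commutatorElement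
open Cfsg.Agent.Lib

universe u

/-- orthogonality for a commutative finite group -/
theorem sum_irr_apply_of_comm {Q : Type u} [Group Q] [Fintype Q] [Fintype (IrrCharacter Q)] [DecidableEq Q]
    (hcomm : ∀ a b : Q, a * b = b * a) (q : Q) :
    ∑ χ : IrrCharacter Q, (χ : Q → ℂ) q = if q = 1 then (Fintype.card Q : ℂ) else 0 := by
  have h := sum_irr_degree_mul q
  have h1 := comm_iff_forall_irr_apply_one.mp hcomm
  rw [← h]
  apply Finset.sum_congr rfl
  intro χ _
  rw [h1 χ, one_mul]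

/-- the twisting sum -/
theorem twist_sum {K : Type u} [Group K] [Fintype K] (N : Subgroup K) [N.Normal] [Fintype ↥N]
    (hab : ∀ a b : K ⧸ N, a * b = b * a) (ϑ : IrrCharacter K)
    (hΛ : ∀ μ : (K ⧸ N) →* ℂˣ, twist (μ.comp (QuotientGroup.mk' N)) ϑ = ϑ → μ = 1) :
    ∑ n : N, (ϑ : K → ℂ) n * conj ((ϑ : K → ℂ) n) = (Nat.card N : ℂ) := by
  classical
  let _ : Fintype (K ⧸ N) := Fintype.ofFinite _
  let _ := fintypeIrr (K ⧸ N)
  let π := QuotientGroup.mk' N
  have hdeg := comm_iff_forall_irr_apply_one.mp hab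
  let μ : IrrCharacter (K ⧸ N) → ((K ⧸ N) →* ℂˣ) := fun χ =>
    linCharUnitsHom (IsIrrCharacter.isCharacter χ.2) (hdeg χ)
  have hμ : ∀ (χ : IrrCharacter (K ⧸ N)) (q : K ⧸ N), ((μ χ q : ℂˣ) : ℂ) = (χ : K ⧸ N → ℂ) q :=
    fun χ q => rfl
  -- each inner product
  have hinner : ∀ χ : IrrCharacter (K ⧸ N),
      classInner (ϑ : K → ℂ) (twist ((μ χ).comp π) ϑ : K → ℂ) =
        if χ = trivIrr (K ⧸ N) then 1 else 0 := by
    intro χ
    rw [classInner_irr' ϑ (twist ((μ χ).comp π) ϑ)]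
    by_cases hχ : χ = trivIrr (K ⧸ N)
    · rw [if_pos hχ, if_pos]
      subst hχ
      apply Subtype.ext
      funext k
      rw [twist_apply, MonoidHom.comp_apply, hμ]
      change _ = (1 : ℂ) * _
      rw [one_mul]
    · rw [if_neg hχ, if_neg]
      intro h
      apply hχ
      have h1 := hΛ (μ χ) h.symm
      apply Subtype.ext
      funext q
      rw [← hμ χ q, h1]
      rfl
  have hsum : ∑ χ : IrrCharacter (K ⧸ N), classInner (ϑ : K → ℂ) (twist ((μ χ).comp π) ϑ : K → ℂ) = 1 := by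
    rw [Finset.sum_congr rfl (fun χ _ => hinner χ), Finset.sum_ite_eq' Finset.univ (trivIrr (K ⧸ N))]
    simp
  -- expand
  unfold classInner at hsum
  rw [← Finset.mul_sum, Finset.sum_comm] at hsum
  have hk : ∀ k : K, ∑ χ : IrrCharacter (K ⧸ N), (ϑ : K → ℂ) k * conj ((twist ((μ χ).comp π) ϑ : K → ℂ) k) =
      if (k : K) ∈ N then (Nat.card (K ⧸ N) : ℂ) * ((ϑ : K → ℂ) k * conj ((ϑ : K → ℂ) k)) else 0 := by
    intro k
    have h1 : ∀ χ : IrrCharacter (K ⧸ N), (ϑ : K → ℂ) k * conj ((twist ((μ χ).comp π) ϑ : K → ℂ) k) =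
        conj ((χ : K ⧸ N → ℂ) (π k)) * ((ϑ : K → ℂ) k * conj ((ϑ : K → ℂ) k)) := by
      intro χ
      rw [twist_apply, MonoidHom.comp_apply, hμ, map_mul]
      ring
    rw [Finset.sum_congr rfl (fun χ _ => h1 χ), ← Finset.sum_mul, ← map_sum,
      sum_irr_apply_of_comm hab (π k)]
    by_cases hkN : k ∈ N
    · have : π k = 1 := (QuotientGroup.eq_one_iff k).mpr hkN
      rw [if_pos this, if_pos hkN, Complex.conj_natCast, Nat.card_eq_fintype_card]
    · have : π k ≠ 1 := fun h => hkN ((QuotientGroup.eq_one_iff k).mp h)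
      rw [if_neg this, if_neg hkN, map_zero, zero_mul]
  rw [Finset.sum_congr rfl (fun k _ => hk k)] at hsum
  rw [← Finset.sum_filter, ← Finset.mul_sum] at hsum
  have hfilter : ∑ k ∈ Finset.univ.filter (fun k : K => k ∈ N), (ϑ : K → ℂ) k * conj ((ϑ : K → ℂ) k) =
      ∑ n : N, (ϑ : K → ℂ) n * conj ((ϑ : K → ℂ) n) := by
    rw [Finset.sum_subtype (Finset.univ.filter (fun k : K => k ∈ N)) (p := fun k => k ∈ N)
      (fun k => by simp)]
  rw [hfilter] at hsum
  have hcard : (Nat.card K : ℂ) = (Nat.card (K ⧸ N) : ℂ) * (Nat.card N : ℂ) := by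
    have := Subgroup.card_eq_card_quotient_mul_card_subgroup N
    rw [this]; push_cast; rfl
  have hK0 : (Nat.card K : ℂ) ≠ 0 := Nat.cast_ne_zero.mpr Nat.card_pos.ne'
  have hQ0 : (Nat.card (K ⧸ N) : ℂ) ≠ 0 := Nat.cast_ne_zero.mpr Nat.card_pos.ne'
  rw [hcard] at hsum hK0
  have hN0 : (Nat.card N : ℂ) ≠ 0 := fun h => hK0 (by rw [h, mul_zero])
  field_simp at hsum
  linear_combination hsum

theorem result' {G : Type u} [Group G] [Fintype G] (K L : Subgroup G) [hK : K.Normal] [hL : L.Normal] (hLK : L < K) (hchief : ∀ M : Subgroup G, M.Normal → L ≤ M → M ≤ K → M = L ∨ M = K) (hab : ⁅K, K⁆ ≤ L) (ϑ : K → ℂ) (hϑ : Cfsg.IsIrrCharacter K ϑ) (hinv : ∀ (g : G) (n : K), ϑ ⟨g * n * g⁻¹, hK.conj_mem (n : G) n.2 g⟩ = ϑ n) : Cfsg.IsIrrCharacter L (fun x : L => ϑ ⟨(x : G), hLK.le x.2⟩) ∨ (∃ (φ : L → ℂ) (e : ℕ), Cfsg.IsIrrCharacter L φ ∧ (fun x : L => ϑ ⟨(x : G), hLK.le x.2⟩) = (e : ℂ) • φ ∧ e ^ 2 = L.relIndex K) ∨ (∃ F : Finset (L → ℂ), (∀ φ ∈ F, Cfsg.IsIrrCharacter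 L φ) ∧ F.card = L.relIndex K ∧ (fun x : L => ϑ ⟨(x : G), hLK.le x.2⟩) = ∑ φ ∈ F, φ) := by
  classical
  let _ : Fintype ↥K := Fintype.ofFinite _
  let _ : Fintype ↥L := Fintype.ofFinite _
  set LK : Subgroup ↥K := L.subgroupOf K with hLKdef
  have hLKn : LK.Normal := Subgroup.normal_subgroupOf
  let _ : Fintype ↥LK := Fintype.ofFinite _
  let e₀ : ↥LK ≃* ↥L := Subgroup.subgroupOfEquivOfLe hLK.le
  have hϑc : IsCharacter ↥K ϑ := IsIrrCharacter.isCharacter hϑ
  set ϑL : ↥L → ℂ := resLE hLK.le ϑ with hϑL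
  show IsIrrCharacter L ϑL ∨ (∃ (φ : L → ℂ) (e : ℕ), IsIrrCharacter L φ ∧ ϑL = (e : ℂ) • φ ∧
    e ^ 2 = L.relIndex K) ∨ (∃ F : Finset (L → ℂ), (∀ φ ∈ F, IsIrrCharacter L φ) ∧
    F.card = L.relIndex K ∧ ϑL = ∑ φ ∈ F, φ)
  -- Step A: a constituent and Clifford's theorem
  have hres : resFun LK ϑ = ϑL ∘ e₀ := resFun_subgroupOf hLK.le ϑ
  have hresne : resFun LK ϑ ≠ 0 := by
    intro h
    have h1 := congrFun h 1
    rw [resFun_apply] at h1
    exact irr_apply_one_ne_zero ⟨ϑ, hϑ⟩ h1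
  obtain ⟨φ₀, hφ₀, hc0⟩ := IsCharacter.exists_constituent (isCharacter_resFun LK hϑc) hresne
  set φ : ↥L → ℂ := φ₀ ∘ e₀.symm with hφdef
  have hφ : IsIrrCharacter L φ := isIrrCharacter_comp_mulEquiv' e₀.symm hφ₀
  have hφ₀eq : φ₀ = φ ∘ e₀ := by funext x; simp [hφdef]
  have hcl := clifford LK hϑ hφ₀ hc0
  obtain ⟨m, hm⟩ := IsCharacter.classInner_nat (isCharacter_resFun LK hϑc)
    (IsIrrCharacter.isCharacter hφ₀)
  have hm0 : m ≠ 0 := by
    intro h; apply hc0; rw [hm, h]; simp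
  rw [hm] at hcl
  have hinj : Function.Injective (fun ψ : ↥LK → ℂ => ψ ∘ e₀.symm) := by
    intro a b hab'
    funext x
    have := congrFun hab' (e₀ x)
    simpa using this
  set F : Finset (↥L → ℂ) := (conjOrbit LK φ₀).image (fun ψ => ψ ∘ e₀.symm) with hF
  have hFcard : F.card = (conjOrbit LK φ₀).card := Finset.card_image_of_injective _ hinj
  have hϑLsum : ϑL = (m : ℂ) • ∑ ψ ∈ F, ψ := by
    have h1 : ϑL = (resFun LK ϑ) ∘ e₀.symm := by rw [hres]; funext x; simp
    rw [h1, hcl, hF, Finset.sum_image (fun a _ b _ h => hinj h)]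
    funext x
    simp [Finset.sum_apply]
  have hFirr : ∀ ψ ∈ F, IsIrrCharacter L ψ := by
    intro ψ hψ
    obtain ⟨ψ₀, hψ₀, rfl⟩ := Finset.mem_image.mp hψ
    obtain ⟨k, rfl⟩ := (mem_conjOrbit LK).mp hψ₀
    exact isIrrCharacter_comp_mulEquiv' e₀.symm (isIrrCharacter_conjFun LK hφ₀ k)
  have hφF : φ ∈ F := Finset.mem_image.mpr ⟨φ₀, self_mem_conjOrbit LK φ₀, rfl⟩
  -- the norm
  have hnorm : classInner ϑL ϑL = (m : ℂ) ^ 2 * (F.card : ℂ) := by
    rw [hϑLsum, classInner_smul_left, classInner_smul_right, classInner_sum_left]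
    have h1 : ∀ ψ ∈ F, classInner ψ (∑ ψ' ∈ F, ψ') = 1 := by
      intro ψ hψ
      rw [classInner_sum_right, Finset.sum_eq_single ψ]
      · rw [classInner_irr (hFirr ψ hψ) (hFirr ψ hψ), if_pos rfl]
      · intro ψ' hψ' hne
        rw [classInner_irr (hFirr ψ hψ) (hFirr ψ' hψ'), if_neg (Ne.symm hne)]
      · intro h; exact absurd hψ h
    rw [Finset.sum_congr rfl h1, Finset.sum_const, Complex.conj_natCast]
    simp
    ring
  -- sums of squares
  have hsumK : ∑ k : ↥K, ϑ k * conj (ϑ k) = (Nat.card ↥K : ℂ) := by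
    have h1 := classInner_irr hϑ hϑ
    rw [if_pos rfl] at h1
    unfold classInner at h1
    have hK0 : (Nat.card ↥K : ℂ) ≠ 0 := Nat.cast_ne_zero.mpr Nat.card_pos.ne'
    field_simp at h1
    exact h1
  have hsumL : ∑ x : ↥L, ϑL x * conj (ϑL x) = (m : ℂ) ^ 2 * (F.card : ℂ) * (Nat.card ↥L : ℂ) := by
    have h1 := hnorm
    unfold classInner at h1
    have hL0 : (Nat.card ↥L : ℂ) ≠ 0 := Nat.cast_ne_zero.mpr Nat.card_pos.ne'
    field_simp at h1
    linear_combination h1
  have hsumLK : ∑ x : ↥L, ϑL x * conj (ϑL x) =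
      ∑ k ∈ Finset.univ.filter (fun k : ↥K => k ∈ LK), ϑ k * conj (ϑ k) := by
    rw [Finset.sum_subtype (Finset.univ.filter (fun k : ↥K => k ∈ LK)) (p := fun k => k ∈ LK)
      (fun k => by simp)]
    exact (Fintype.sum_equiv e₀.toEquiv _ _ (fun n => rfl)).symm
  have hr : ∀ k : ↥K, ϑ k * conj (ϑ k) = ((Complex.normSq (ϑ k) : ℝ) : ℂ) :=
    fun k => Complex.mul_conj (ϑ k)
  have hRK : ∑ k : ↥K, Complex.normSq (ϑ k) = (Nat.card ↥K : ℝ) := by
    have h1 := hsumK
    rw [Finset.sum_congr rfl (fun k _ => hr k), ← Complex.ofReal_sum] at h1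
    exact_mod_cast h1
  have hRL : ∑ k ∈ Finset.univ.filter (fun k : ↥K => k ∈ LK), Complex.normSq (ϑ k) =
      (m : ℝ) ^ 2 * F.card * Nat.card ↥L := by
    have h1 := hsumL
    rw [hsumLK, Finset.sum_congr rfl (fun k _ => hr k), ← Complex.ofReal_sum] at h1
    exact_mod_cast h1
  have hle : (m : ℝ) ^ 2 * F.card * Nat.card ↥L ≤ Nat.card ↥K := by
    rw [← hRL, ← hRK]
    exact Finset.sum_le_sum_of_subset_of_nonneg (Finset.filter_subset _ _)
      (fun k _ _ => Complex.normSq_nonneg _)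
  have hleN : m ^ 2 * F.card * Nat.card ↥L ≤ Nat.card ↥K := by exact_mod_cast hle
  -- Step B: the inertia group
  have hφcls : IsClassFunction ↥L φ := IsCharacter.isClassFunction (IsIrrCharacter.isCharacter hφ)
  have hlevel : ∀ (k : ↥K) (ψ : ↥L → ℂ),
      Helper6.conjFun LK k (ψ ∘ e₀) = (Helper6.conjFun L (k : G) ψ) ∘ e₀ :=
    fun k ψ => conjFun_subgroupOf hLK.le k ψ
  have hϑLinv : ∀ g : G, Helper6.conjFun L g ϑL = ϑL := by
    intro g
    funext x
    exact hinv g ⟨x, hLK.le x.2⟩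
  have hc0' : classInner ϑL φ ≠ 0 := by
    have h1 : classInner (resFun LK ϑ) φ₀ = classInner ϑL φ := by
      rw [hres, hφ₀eq, classInner_comp_mulEquiv]
    rwa [h1] at hc0
  have hcomp_inj : ∀ a b : ↥L → ℂ, a ∘ e₀ = b ∘ e₀ → a = b := by
    intro a b h
    funext x
    have := congrFun h (e₀.symm x)
    simpa using this
  have hGK : ∀ g : G, ∃ k : ↥K, Helper6.conjFun L g φ = Helper6.conjFun L (k : G) φ := by
    intro g
    have h1 : classInner ϑL (Helper6.conjFun L g φ) ≠ 0 := by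
      have h2 := Helper6.classInner_conjFun L g ϑL φ
      rw [hϑLinv g] at h2
      rw [h2]; exact hc0'
    have h2 : IsIrrCharacter ↥LK ((Helper6.conjFun L g φ) ∘ e₀) :=
      isIrrCharacter_comp_mulEquiv' e₀ (isIrrCharacter_conjFun L hφ g)
    have h3 : classInner (resFun LK ϑ) ((Helper6.conjFun L g φ) ∘ e₀) ≠ 0 := by
      rw [hres, classInner_comp_mulEquiv]; exact h1
    obtain ⟨k, hk⟩ := exists_conjFun_eq_of_constituent LK hϑ hφ₀ h2 hc0 h3
    refine ⟨k, ?_⟩
    rw [hφ₀eq, hlevel] at hk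
    exact (hcomp_inj _ _ hk).symm
  set T : Subgroup G := inertia L hφcls ⊓ K with hTdef
  have hLT : L ≤ T := le_inf (le_inertia L hφcls) hLK.le
  have hTK : T ≤ K := inf_le_right
  have hTn : T.Normal := by
    constructor
    intro x hx g
    have hxK : x ∈ K := hx.2
    have hxI : Helper6.conjFun L x φ = φ := hx.1
    refine ⟨?_, hK.conj_mem x hxK g⟩
    show Helper6.conjFun L (g * x * g⁻¹) φ = φ
    obtain ⟨k, hk⟩ := hGK g
    have h1 : Helper6.conjFun L x (Helper6.conjFun L g φ) = Helper6.conjFun L g φ := by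
      rw [hk, ← Helper6.conjFun_mul]
      obtain ⟨l, hl, h6⟩ : ∃ l ∈ L, (k : G) * x = (x * (k : G)) * l := by
        refine ⟨(x * (k : G))⁻¹ * ((k : G) * x), ?_, by group⟩
        apply hab
        have h5 : (x * (k : G))⁻¹ * ((k : G) * x) = ⁅(k : G)⁻¹, x⁻¹⁆ := by
          rw [commutatorElement_def]; group
        rw [h5]
        exact Subgroup.commutator_mem_commutator (K.inv_mem k.2) (K.inv_mem hxK)
      have hcls2 : IsClassFunction ↥L (Helper6.conjFun L (k : G) φ) :=
        IsCharacter.isClassFunction (IsIrrCharacter.isCharacter (isIrrCharacter_conjFun L hφ k))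
      rw [h6, Helper6.conjFun_mul, Helper6.conjFun_mul, hxI]
      exact Helper6.conjFun_of_mem L hcls2 hl
    rw [Helper6.conjFun_mul, Helper6.conjFun_mul, h1, Helper6.conjFun_inv_conjFun]
  -- stabilizer
  have hstab_iff : ∀ k : ↥K, Helper6.conjFun LK k φ₀ = φ₀ ↔ (k : G) ∈ T := by
    intro k
    rw [hφ₀eq, hlevel]
    constructor
    · intro h
      exact ⟨hcomp_inj _ _ h, k.2⟩
    · intro h
      have h1 : Helper6.conjFun L (k : G) φ = φ := h.1
      rw [h1]
  have hstab : Nat.card {k : ↥K // Helper6.conjFun LK k φ₀ = φ₀} = Nat.card ↥T := by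
    apply Nat.card_congr
    exact
      { toFun := fun k => ⟨(k.1 : G), (hstab_iff k.1).mp k.2⟩
        invFun := fun t => ⟨⟨t.1, hTK t.2⟩, (hstab_iff _).mpr t.2⟩
        left_inv := fun k => rfl
        right_inv := fun t => rfl }
  have horb := card_conjOrbit_mul LK φ₀
  rw [hstab, ← hFcard] at horb
  have hrel : L.relIndex K * Nat.card ↥L = Nat.card ↥K := by
    have h1 := Subgroup.card_mul_index LK
    rw [Nat.card_congr e₀.toEquiv, mul_comm] at h1
    exact h1
  have hLpos : 0 < Nat.card ↥L := Nat.card_pos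
  have hFpos : 0 < F.card := Finset.card_pos.mpr ⟨φ, hφF⟩
  rcases hchief T hTn hLT hTK with hT | hT
  · -- T = L
    right; right
    rw [hT] at horb
    have hFrel : F.card = L.relIndex K := by
      have : F.card * Nat.card ↥L = L.relIndex K * Nat.card ↥L := by rw [horb, hrel]
      exact Nat.eq_of_mul_eq_mul_right hLpos this
    have hm1 : m = 1 := by
      rw [← horb] at hleN
      have h1 : m ^ 2 * (F.card * Nat.card ↥L) ≤ 1 * (F.card * Nat.card ↥L) := by
        rw [one_mul, ← mul_assoc]; exact hleN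
      have h2 : m ^ 2 ≤ 1 := Nat.le_of_mul_le_mul_right h1 (Nat.mul_pos hFpos hLpos)
      have h3 : m ≤ 1 := by nlinarith
      omega
    refine ⟨F, hFirr, hFrel, ?_⟩
    rw [hϑLsum, hm1, Nat.cast_one, one_smul]
  · -- T = K
    rw [hT] at horb
    have hF1 : F.card = 1 := by
      have hKpos : 0 < Nat.card ↥K := Nat.card_pos
      have : F.card * Nat.card ↥K = 1 * Nat.card ↥K := by rw [horb, one_mul]
      exact Nat.eq_of_mul_eq_mul_right hKpos this
    have hFeq : F = {φ} := by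
      obtain ⟨a, ha⟩ := Finset.card_eq_one.mp hF1
      rw [ha] at hφF ⊢
      rw [Finset.mem_singleton.mp hφF]
    have hϑLφ : ϑL = (m : ℂ) • φ := by rw [hϑLsum, hFeq, Finset.sum_singleton]
    rw [hF1] at hRL hsumL
    -- the subgroup generated by the non-vanishing elements
    let S : Set G := {x : G | ∃ h : x ∈ K, ϑ ⟨x, h⟩ ≠ 0}
    have hSK : S ⊆ (K : Set G) := fun x hx => hx.1
    have hSconj : ∀ x ∈ S, ∀ g : G, g * x * g⁻¹ ∈ S := by
      rintro x ⟨hxK, hx0⟩ g
      refine ⟨hK.conj_mem x hxK g, ?_⟩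
      rw [hinv g ⟨x, hxK⟩]
      exact hx0
    set V : Subgroup G := Subgroup.normalClosure S ⊔ L with hVdef
    have hVn : V.Normal := inferInstance
    have hLV : L ≤ V := le_sup_right
    have hVK : V ≤ K := sup_le (Subgroup.normalClosure_le_normal hSK) hLK.le
    have hSV : S ⊆ (V : Set G) := fun x hx =>
      (le_sup_left : Subgroup.normalClosure S ≤ V) (Subgroup.subset_normalClosure hx)
    rcases hchief V hVn hLV hVK with hV | hV
    · -- V = L : fully ramified
      right; left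
      refine ⟨φ, m, hφ, hϑLφ, ?_⟩
      have hvan : ∀ k : ↥K, k ∉ LK → Complex.normSq (ϑ k) = 0 := by
        intro k hk
        by_contra h0
        apply hk
        have hkS : (k : G) ∈ S := by
          refine ⟨k.2, fun h => h0 ?_⟩
          have : ϑ k = 0 := h
          rw [this, map_zero]
        have hkV := hSV hkS
        rw [hV] at hkV
        exact Subgroup.mem_subgroupOf.mpr hkV
      have hfull : ∑ k ∈ Finset.univ.filter (fun k : ↥K => k ∈ LK), Complex.normSq (ϑ k) =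
          ∑ k : ↥K, Complex.normSq (ϑ k) := by
        apply Finset.sum_subset (Finset.filter_subset _ _)
        intro k _ hk
        apply hvan
        simpa using hk
      rw [hfull, hRK] at hRL
      have h1 : m ^ 2 * Nat.card ↥L = L.relIndex K * Nat.card ↥L := by
        rw [hrel]
        have h2 : (Nat.card ↥K : ℝ) = ((m ^ 2 * Nat.card ↥L : ℕ) : ℝ) := by
          rw [hRL]; push_cast; ring
        exact_mod_cast h2.symm
      exact Nat.eq_of_mul_eq_mul_right hLpos h1
    · -- V = K : irreducible restriction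
      left
      have hab' : ∀ a b : ↥K ⧸ LK, a * b = b * a := by
        intro a b
        obtain ⟨x, rfl⟩ := QuotientGroup.mk_surjective a
        obtain ⟨y, rfl⟩ := QuotientGroup.mk_surjective b
        rw [← QuotientGroup.mk_mul, ← QuotientGroup.mk_mul, QuotientGroup.eq]
        rw [hLKdef, Subgroup.mem_subgroupOf]
        apply hab
        have h5 : (((x * y)⁻¹ * (y * x) : ↥K) : G) = ⁅((y : G))⁻¹, ((x : G))⁻¹⁆ := by
          rw [commutatorElement_def]; push_cast; group
        rw [h5]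
        exact Subgroup.commutator_mem_commutator (K.inv_mem y.2) (K.inv_mem x.2)
      have hΛ : ∀ μ : (↥K ⧸ LK) →* ℂˣ,
          twist (μ.comp (QuotientGroup.mk' LK)) (⟨ϑ, hϑ⟩ : IrrCharacter ↥K) = ⟨ϑ, hϑ⟩ → μ = 1 := by
        intro μ hμ
        set lam : ↥K →* ℂˣ := μ.comp (QuotientGroup.mk' LK) with hlam
        have hval : ∀ k : ↥K, ϑ k ≠ 0 → lam k = 1 := by
          intro k hk
          have h1 := congrFun (congrArg Subtype.val hμ) k
          rw [twist_apply] at h1
          have h2 : ((lam k : ℂˣ) : ℂ) * ϑ k = 1 * ϑ k := by rw [one_mul]; exact h1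
          have h3 := mul_right_cancel₀ hk h2
          exact Units.ext h3
        let M : Subgroup G := (lam.ker).map K.subtype
        have hSM : S ⊆ (M : Set G) := by
          rintro x ⟨hxK, hx0⟩
          exact ⟨⟨x, hxK⟩, hval _ hx0, rfl⟩
        have hLM : L ≤ M := by
          intro x hx
          refine ⟨⟨x, hLK.le hx⟩, ?_, rfl⟩
          show lam ⟨x, hLK.le hx⟩ = 1
          rw [hlam, MonoidHom.comp_apply]
          have : QuotientGroup.mk' LK ⟨x, hLK.le hx⟩ = 1 :=
            (QuotientGroup.eq_one_iff _).mpr (Subgroup.mem_subgroupOf.mpr hx)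
          rw [this, map_one]
        have hNM : Subgroup.normalClosure S ≤ M := by
          unfold Subgroup.normalClosure
          rw [Subgroup.closure_le]
          intro a ha
          obtain ⟨b, hb, hba⟩ := Group.mem_conjugatesOfSet_iff.mp ha
          obtain ⟨c, rfl⟩ := isConj_iff.mp hba
          exact hSM (hSconj b hb c)
        have hVM : V ≤ M := sup_le hNM hLM
        apply MonoidHom.ext
        intro q
        obtain ⟨k, rfl⟩ := QuotientGroup.mk_surjective q
        have hkV : (k : G) ∈ V := by rw [hV]; exact k.2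
        have hkM : (k : G) ∈ M := hVM hkV
        obtain ⟨k', hk', hkk⟩ := hkM
        have : k' = k := Subtype.ext hkk
        rw [this] at hk'
        have h1 : lam k = 1 := hk'
        rw [hlam, MonoidHom.comp_apply] at h1
        exact h1
      have hts := twist_sum LK hab' (⟨ϑ, hϑ⟩ : IrrCharacter ↥K) hΛ
      have h2 : ∑ x : ↥L, ϑL x * conj (ϑL x) = (Nat.card ↥L : ℂ) := by
        rw [← Nat.card_congr e₀.toEquiv, ← hts]
        exact (Fintype.sum_equiv e₀.toEquiv _ _ (fun n => rfl)).symm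
      rw [h2] at hsumL
      have hL0 : (Nat.card ↥L : ℂ) ≠ 0 := Nat.cast_ne_zero.mpr Nat.card_pos.ne'
      have hm2 : (m : ℂ) ^ 2 = 1 := by
        have h3 : (m : ℂ) ^ 2 * (Nat.card ↥L : ℂ) = 1 * (Nat.card ↥L : ℂ) := by
          have h9 := hsumL
          push_cast at h9
          linear_combination -h9
        exact mul_right_cancel₀ hL0 h3
      have hm1 : m = 1 := by
        have h4 : m ^ 2 = 1 := by exact_mod_cast hm2
        have h5 : m ≤ 1 := by nlinarith
        omega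
      rw [hϑLφ, hm1, Nat.cast_one, one_smul]
      exact hφ

/-- Let L < K be normal subgroups of the finite group G with no normal subgroup of G strictly between them and with K / L abelian (the commutator subgroup of K lies in L). Let ϑ be an irreducible character of K invariant under conjugation by G. Then the restriction of ϑ to L is irreducible; or it equals e times an irreducible character of L with e ^ 2 equal to the index of L in K; or it is the sum of a family of pairwise distinct irreducible characters of L indexed by a set whose size is the index of L in K. -/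
theorem result {G : Type*} [Group G] [Fintype G] (K L : Subgroup G) [hK : K.Normal] [L.Normal] (hLK : L < K) (hchief : ∀ M : Subgroup G, M.Normal → L ≤ M → M ≤ K → M = L ∨ M = K) (hab : ⁅K, K⁆ ≤ L) (ϑ : K → ℂ) (hϑ : Cfsg.IsIrrCharacter K ϑ) (hinv : ∀ (g : G) (n : K), ϑ ⟨g * n * g⁻¹, hK.conj_mem (n : G) n.2 g⟩ = ϑ n) : Cfsg.IsIrrCharacter L (fun x : L => ϑ ⟨(x : G), hLK.le x.2⟩) ∨ (∃ (φ : L → ℂ) (e : ℕ), Cfsg.IsIrrCharacter L φ ∧ (fun x : L => ϑ ⟨(x : G), hLK.le x.2⟩) = (e : ℂ) • φ ∧ e ^ 2 = L.relIndex K) ∨ (∃ F : Finset (L → ℂ), (∀ φ ∈ F, Cfsg.IsIrrCharacter L φ) ∧ F.card = L.relIndex K ∧ (fun x : L => ϑ ⟨(x : G), hLK.le x.2⟩) = ∑ φ ∈ F, φ) := by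
  exact result' K L hLK hchief hab ϑ hϑ hinv

end Cfsg.Agent.S0857
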