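import Cfsg.Statements.S0858
import Mathlib
import Cfsg.Agent.S0857
import Cfsg.Agent.Lib.Helper2.MGroup
import Cfsg.Agent.Lib.Helper6.Clifford
import Cfsg.Agent.Lib.Helper6.CliffordCorr
import Cfsg.Agent.Lib.Helper24.NormalDegrees
import Cfsg.Agent.Lib.Helper24.IrrFacts
import Cfsg.Agent.Lib.Lead.CharOrtho

set_option autoImplicit false
open Cfsg

namespace Cfsg.Agent.S0858

open Cfsg.Agent.CharLib Cfsg.Agent.Lib.Helper6 Cfsg.Agent.Lib.Helper24
open Cfsg.Agent.Lib
open scoped commutatorElement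

universe u

/-- the non-square chief factor hypothesis. -/
def Hyp (G : Type u) [Group G] (N : Subgroup G) : Prop :=
  ∀ (H K L : Subgroup G), N ≤ L → L < K → K ≤ H → (∀ h ∈ H, ∀ k ∈ K, h * k * h⁻¹ ∈ K) →
    (∀ h ∈ H, ∀ l ∈ L, h * l * h⁻¹ ∈ L) →
    (∀ M : Subgroup G, L ≤ M → M ≤ K → (∀ h ∈ H, ∀ m ∈ M, h * m * h⁻¹ ∈ M) → M = L ∨ M = K) →
    ¬ IsSquare (L.relIndex K)

/-- the conclusion. -/
def Concl (G : Type u) [Group G] [Fintype G] (N : Subgroup G) (χ : G → ℂ) : Prop :=
  ∃ (H : Subgroup G) (hNH : N ≤ H) (ψ : H → ℂ), IsIrrCharacter H ψ ∧ indFun H ψ = χ ∧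
    IsIrrCharacter N (fun n : N => ψ ⟨(n : G), hNH n.2⟩)

theorem hyp_subgroup {G : Type u} [Group G] (N : Subgroup G) (h : Hyp G N) (T : Subgroup G)
    (hNT : N ≤ T) : Hyp ↥T (N.subgroupOf T) := by
  intro H' K' L' hNL hLK hKH hHK hHL hmax
  have hinj : Function.Injective T.subtype := T.subtype_injective
  have key := h (H'.map T.subtype) (K'.map T.subtype) (L'.map T.subtype) ?_ ?_ ?_ ?_ ?_ ?_
  · rwa [Subgroup.relIndex_map_map_of_injective _ _ hinj] at key
  · intro n hn
    exact ⟨⟨n, hNT hn⟩, hNL (Subgroup.mem_subgroupOf.mpr hn), rfl⟩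
  · exact (Subgroup.map_lt_map_iff_of_injective hinj).mpr hLK
  · exact Subgroup.map_mono hKH
  · rintro _ ⟨h', hh', rfl⟩ _ ⟨k', hk', rfl⟩
    exact ⟨h' * k' * h'⁻¹, hHK h' hh' k' hk', by simp⟩
  · rintro _ ⟨h', hh', rfl⟩ _ ⟨l', hl', rfl⟩
    exact ⟨h' * l' * h'⁻¹, hHL h' hh' l' hl', by simp⟩
  · intro M hLM hMK hMinv
    have hMT : M ≤ T := hMK.trans (Subgroup.map_subtype_le K')
    have hM' : (M.subgroupOf T).map T.subtype = M := Subgroup.map_subgroupOf_eq_of_le hMT
    have h1 : L' ≤ M.subgroupOf T := by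
      intro x hx
      rw [Subgroup.mem_subgroupOf]
      exact hLM ⟨x, hx, rfl⟩
    have h2 : M.subgroupOf T ≤ K' := by
      intro x hx
      rw [Subgroup.mem_subgroupOf] at hx
      obtain ⟨y, hy, hxy⟩ := hMK hx
      have : y = x := hinj hxy
      rwa [← this]
    have h3 : ∀ h ∈ H', ∀ m ∈ M.subgroupOf T, h * m * h⁻¹ ∈ M.subgroupOf T := by
      intro h' hh' m hm
      rw [Subgroup.mem_subgroupOf] at hm ⊢
      have := hMinv (h' : G) ⟨h', hh', rfl⟩ (m : G) hm
      simpa using this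
    rcases hmax (M.subgroupOf T) h1 h2 h3 with h4 | h4
    · left; rw [← hM', h4]
    · right; rw [← hM', h4]

theorem derived_subgroup {G : Type u} [Group G] (N : Subgroup G) (T : Subgroup G)
    (h : ∃ m, derivedSeries G m ≤ N) : ∃ m, derivedSeries ↥T m ≤ N.subgroupOf T := by
  obtain ⟨m, hm⟩ := h
  refine ⟨m, ?_⟩
  intro x hx
  rw [Subgroup.mem_subgroupOf]
  apply hm
  exact map_derivedSeries_le_derivedSeries T.subtype m ⟨x, hx, rfl⟩

/-- transport of the conclusion from a subgroup. -/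
theorem concl_of_subgroup {G : Type u} [Group G] [Fintype G] (N : Subgroup G) (T : Subgroup G)
    [Fintype T] (hNT : N ≤ T) (ψ : T → ℂ) (χ : G → ℂ) (hψχ : indFun T ψ = χ)
    (h : Concl ↥T (N.subgroupOf T) ψ) : Concl G N χ := by
  classical
  obtain ⟨H', hNH', ξ, hξ, hξind, hξN⟩ := h
  let e := H'.equivMapOfInjective T.subtype T.subtype_injective
  have hNH : N ≤ H'.map T.subtype := by
    intro n hn
    exact ⟨⟨n, hNT hn⟩, hNH' (Subgroup.mem_subgroupOf.mpr hn), rfl⟩
  have hFH' : Fintype H' := Fintype.ofFinite _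
  have hFH : Fintype (H'.map T.subtype) := Fintype.ofFinite _
  refine ⟨H'.map T.subtype, hNH, ξ ∘ e.symm, isIrrCharacter_comp_mulEquiv' e.symm hξ, ?_, ?_⟩
  · rw [← hψχ, ← hξind, Cfsg.Agent.Lib.Helper2.indFun_trans T H' ξ]
  · let e₂ : ↥N ≃* ↥(N.subgroupOf T) := (Subgroup.subgroupOfEquivOfLe hNT).symm
    have := isIrrCharacter_comp_mulEquiv' e₂ hξN
    convert this using 1
    funext n
    simp only [Function.comp_apply]
    congr 1
    apply e.injective
    rw [MulEquiv.apply_symm_apply]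
    apply Subtype.ext
    rw [Subgroup.coe_equivMapOfInjective_apply]
    rfl

/-- a reducible restriction yields a proper inertia subgroup from which `χ` is induced. -/
theorem exists_proper_induced {G : Type u} [Group G] [Fintype G] (N : Subgroup G) [hNn : N.Normal]
    (hD : ∃ m, derivedSeries G m ≤ N) (hH : Hyp G N) (χ : G → ℂ) (hχ : IsIrrCharacter G χ)
    (hred : ¬ IsIrrCharacter N (resFun N χ)) :
    ∃ (T : Subgroup G) (_ : Fintype T) (ψ : T → ℂ), T ≠ ⊤ ∧ N ≤ T ∧ IsIrrCharacter T ψ ∧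
      indFun T ψ = χ := by
  classical
  have hχc : IsCharacter G χ := IsIrrCharacter.isCharacter hχ
  have hχcf : IsClassFunction G χ := IsCharacter.isClassFunction hχc
  -- Step 1: a minimal normal subgroup K ≥ N with irreducible restriction
  let p : Subgroup G → Prop := fun K => K.Normal ∧ N ≤ K ∧ IsIrrCharacter K (resFun K χ)
  have hp_top : p ⊤ := by
    refine ⟨inferInstance, le_top, ?_⟩
    exact isIrrCharacter_comp_mulEquiv' (Subgroup.topEquiv : (⊤ : Subgroup G) ≃* G) hχ
  obtain ⟨K, -, ⟨hKn, hNK, hKirr⟩, hKmin⟩ := Finite.exists_le_minimal hp_top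
  have hNltK : N < K := lt_of_le_of_ne hNK (by rintro rfl; exact hred hKirr)
  -- Step 2: the derived subgroup of K together with N is proper in K
  have hKKn : (⁅K, K⁆).Normal := Subgroup.commutator_normal K K
  have hKK_le : ⁅K, K⁆ ≤ K := Subgroup.commutator_le_left K K
  have hDltK : ⁅K, K⁆ ⊔ N < K := by
    apply lt_of_le_of_ne (sup_le hKK_le hNK)
    intro hDK
    let π := QuotientGroup.mk' N
    have hKbar : K.map π = ⁅K.map π, K.map π⁆ := by
      conv_lhs => rw [← hDK]
      rw [Subgroup.map_sup, Subgroup.map_commutator, QuotientGroup.map_mk'_self, sup_bot_eq]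
    have hall : ∀ m, K.map π ≤ (derivedSeries G m).map π := by
      intro m
      induction m with
      | zero => exact Subgroup.map_mono le_top
      | succ m ih =>
        rw [derivedSeries_succ, Subgroup.map_commutator, hKbar]
        exact Subgroup.commutator_mono ih ih
    obtain ⟨m, hm⟩ := hD
    have h1 : K.map π ≤ ⊥ := by
      calc K.map π ≤ (derivedSeries G m).map π := hall m
        _ ≤ N.map π := Subgroup.map_mono hm
        _ = ⊥ := QuotientGroup.map_mk'_self N
    have h2 : K ≤ π.ker := (Subgroup.map_eq_bot_iff K).mp (le_bot_iff.mp h1)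
    rw [QuotientGroup.ker_mk'] at h2
    exact absurd h2 (not_le_of_gt hNltK)
  -- Step 3: a maximal normal L below K containing N and the derived subgroup
  let q : Subgroup G → Prop := fun L => L.Normal ∧ N ≤ L ∧ L < K ∧ ⁅K, K⁆ ≤ L
  have hqD : q (⁅K, K⁆ ⊔ N) := ⟨Subgroup.sup_normal _ _, le_sup_right, hDltK, le_sup_left⟩
  obtain ⟨L, -, ⟨hLn, hNL, hLK, hab⟩, hLmax⟩ := Finite.exists_le_maximal hqD
  have hchief : ∀ M : Subgroup G, M.Normal → L ≤ M → M ≤ K → M = L ∨ M = K := by
    intro M hMn hLM hMK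
    by_cases hMK' : M = K
    · right; exact hMK'
    · left
      have hqM : q M := ⟨hMn, hNL.trans hLM, lt_of_le_of_ne hMK hMK', hab.trans hLM⟩
      exact le_antisymm (hLmax hqM hLM) hLM
  -- Step 4: Isaacs 6.18
  have hinv : ∀ (g : G) (n : K), resFun K χ ⟨g * n * g⁻¹, hKn.conj_mem (n : G) n.2 g⟩ =
      resFun K χ n := by
    intro g n
    exact hχcf (n : G) g
  have h618 := Cfsg.Agent.S0857.result' K L (hK := hKn) (hL := hLn) hLK hchief hab (resFun K χ)
    hKirr hinv
  have hresL : (fun x : L => resFun K χ ⟨(x : G), hLK.le x.2⟩) = resFun L χ := rfl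
  rw [hresL] at h618
  rcases h618 with hirr | ⟨φ, e, -, -, he⟩ | ⟨F, hF, hFcard, hsum⟩
  · -- L contradicts the minimality of K
    have hpL : p L := ⟨hLn, hNL, hirr⟩
    exact absurd (hKmin hpL hLK.le) (not_le_of_gt hLK)
  · -- square index contradicts the hypothesis
    exfalso
    apply hH ⊤ K L hNL hLK le_top
    · intro h _ k hk; exact hKn.conj_mem k hk h
    · intro h _ l hl; exact hLn.conj_mem l hl h
    · intro M hLM hMK hMinv
      exact hchief M ⟨fun m hm h => hMinv h (Subgroup.mem_top h) m hm⟩ hLM hMK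
    · exact ⟨e, by rw [← he, pow_two]⟩
  · -- the interesting case
    have hFL : Fintype L := Fintype.ofFinite _
    have hrel2 : 1 < L.relIndex K := by
      have h0 : L.relIndex K ≠ 0 := Subgroup.index_ne_zero_of_finite
      have h1 : L.relIndex K ≠ 1 := by
        intro h
        exact absurd (Subgroup.relIndex_eq_one.mp h) (not_le_of_gt hLK)
      omega
    rw [← hFcard] at hrel2
    obtain ⟨φ₁, hφ₁F, φ₂, hφ₂F, hne⟩ := Finset.one_lt_card.mp hrel2
    have hφ₁ := hF φ₁ hφ₁F
    have hφ₂ := hF φ₂ hφ₂F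
    have hinner : ∀ φ' ∈ F, classInner (resFun L χ) φ' = 1 := by
      intro φ' hφ'
      rw [hsum, classInner_sum_left]
      have : ∀ φ ∈ F, classInner φ φ' = if φ = φ' then (1 : ℂ) else 0 := by
        intro φ hφ
        exact classInner_irr (hF φ hφ) (hF φ' hφ')
      rw [Finset.sum_congr rfl this, Finset.sum_ite_eq' F φ', if_pos hφ']
    have hφ₁cf : IsClassFunction L φ₁ :=
      IsCharacter.isClassFunction (IsIrrCharacter.isCharacter hφ₁)
    have h1ne : classInner (resFun L χ) φ₁ ≠ 0 := by rw [hinner φ₁ hφ₁F]; exact one_ne_zero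
    let T : Subgroup G := inertia L hφ₁cf
    have hFT : Fintype T := Fintype.ofFinite _
    have hLT : L ≤ T := le_inertia L hφ₁cf
    have hTne : T ≠ ⊤ := by
      intro hT
      have hinvφ : ∀ g : G, Helper6.conjFun L g φ₁ = φ₁ := by
        intro g
        have : g ∈ T := by rw [hT]; exact Subgroup.mem_top g
        exact (mem_inertia L hφ₁cf g).mp this
      have hcl := clifford_of_invariant L hχ hφ₁ h1ne hinvφ
      have h2 := hinner φ₂ hφ₂F
      rw [hcl, classInner_smul_left, classInner_irr hφ₁ hφ₂, if_neg hne, mul_zero] at h2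
      exact zero_ne_one h2
    obtain ⟨ψ, hψ, hψind, -⟩ := exists_indFun_inertia_eq hLT hφ₁
      (fun g => mem_inertia L hφ₁cf g) hχ h1ne
    exact ⟨T, hFT, ψ, hTne, hNL.trans hLT, hψ, hψind⟩

theorem aux (n : ℕ) : ∀ (G : Type u) [Group G] [Fintype G] (N : Subgroup G) [N.Normal],
    Fintype.card G = n → (∃ m, derivedSeries G m ≤ N) → Hyp G N →
    ∀ χ : G → ℂ, IsIrrCharacter G χ → Concl G N χ := by
  induction n using Nat.strong_induction_on with
  | _ n ih =>
    intro G _ _ N hNn hcard hD hH χ hχ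
    classical
    by_cases hred : IsIrrCharacter N (resFun N χ)
    · -- induced from the whole group
      have hFtop : Fintype (⊤ : Subgroup G) := Fintype.ofFinite _
      refine ⟨⊤, le_top, fun h => χ h, ?_, ?_, hred⟩
      · exact isIrrCharacter_comp_mulEquiv' (Subgroup.topEquiv : (⊤ : Subgroup G) ≃* G) hχ
      · exact Cfsg.Agent.Lib.Helper2.indFun_top
          (IsCharacter.isClassFunction (IsIrrCharacter.isCharacter hχ))
    · obtain ⟨T, hFT, ψ, hTne, hNT, hψ, hψind⟩ := exists_proper_induced N hD hH χ hχ hred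
      have hlt : Fintype.card T < n := by
        rw [← hcard]
        have h1 : Nat.card T < Nat.card G := by
          apply lt_of_le_of_ne (Subgroup.card_le_card_group T)
          intro h
          exact hTne (Subgroup.card_eq_iff_eq_top T |>.mp h)
        rwa [Nat.card_eq_fintype_card, Nat.card_eq_fintype_card] at h1
      have hNT' : (N.subgroupOf T).Normal := Subgroup.normal_subgroupOf
      have hc := ih (Fintype.card T) hlt T (N.subgroupOf T) rfl (derived_subgroup N T hD)
        (hyp_subgroup N hH T hNT) ψ hψ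
      exact concl_of_subgroup N T hNT ψ χ hψind hc

theorem result' {G : Type u} [Group G] [Fintype G] (N : Subgroup G) [N.Normal]
    (hsolv : Group.IsSolvable (G ⧸ N))
    (hchief : ∀ (H K L : Subgroup G), N ≤ L → L < K → K ≤ H → (∀ h ∈ H, ∀ k ∈ K, h * k * h⁻¹ ∈ K) →
      (∀ h ∈ H, ∀ l ∈ L, h * l * h⁻¹ ∈ L) →
      (∀ M : Subgroup G, L ≤ M → M ≤ K → (∀ h ∈ H, ∀ m ∈ M, h * m * h⁻¹ ∈ M) → M = L ∨ M = K) →
      ¬ IsSquare (L.relIndex K)) (χ : G → ℂ) (hχ : Cfsg.IsIrrCharacter G χ) :
    ∃ (H : Subgroup G) (hNH : N ≤ H) (ψ : H → ℂ), Cfsg.IsIrrCharacter H ψ ∧ Cfsg.indFun H ψ = χ ∧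
      Cfsg.IsIrrCharacter N (fun n : N => ψ ⟨(n : G), hNH n.2⟩) := by
  have hD : ∃ m, derivedSeries G m ≤ N := by
    obtain ⟨m, hm⟩ := hsolv.solvable
    refine ⟨m, ?_⟩
    have h1 := map_derivedSeries_le_derivedSeries (QuotientGroup.mk' N) m
    rw [hm] at h1
    have h2 : derivedSeries G m ≤ (QuotientGroup.mk' N).ker :=
      (Subgroup.map_eq_bot_iff _).mp (le_bot_iff.mp h1)
    rwa [QuotientGroup.ker_mk'] at h2
  exact aux (Fintype.card G) G N rfl hD hchief χ hχ

/-- Let N be a normal subgroup of the finite group G with G / N solvable, and suppose that for every subgroup H containing N and all subgroups L < K between N and H that are normal in H with no subgroup normal in H strictly between them, the index of L in K is not a perfect square. Then every irreducible character χ of G is induced from an irreducible character ψ of some subgroup H containing N such that the restriction of ψ to N is irreducible. -/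
theorem result {G : Type*} [Group G] [Fintype G] (N : Subgroup G) [N.Normal] (hsolv : Group.IsSolvable (G ⧸ N)) (hchief : ∀ (H K L : Subgroup G), N ≤ L → L < K → K ≤ H → (∀ h ∈ H, ∀ k ∈ K, h * k * h⁻¹ ∈ K) → (∀ h ∈ H, ∀ l ∈ L, h * l * h⁻¹ ∈ L) → (∀ M : Subgroup G, L ≤ M → M ≤ K → (∀ h ∈ H, ∀ m ∈ M, h * m * h⁻¹ ∈ M) → M = L ∨ M = K) → ¬ IsSquare (L.relIndex K)) (χ : G → ℂ) (hχ : Cfsg.IsIrrCharacter G χ) : ∃ (H : Subgroup G) (hNH : N ≤ H) (ψ : H → ℂ), Cfsg.IsIrrCharacter H ψ ∧ Cfsg.indFun H ψ = χ ∧ Cfsg.IsIrrCharacter N (fun n : N => ψ ⟨(n : G), hNH n.2⟩) := by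
  exact result' N hsolv hchief χ hχ

end Cfsg.Agent.S0858
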