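import Cfsg.Statements.S0014
-- import your own Cfsg.Agent.* helpers here
import Mathlib
import Cfsg.Agent.S0012
import Cfsg.Agent.Lib.Helper20.PGroupCard
import Cfsg.Agent.Lib.Helper20.NormalRankTwo

set_option autoImplicit false
open Cfsg

namespace Cfsg.Agent.S0014

open Subgroup
open scoped commutatorElement

theorem normal_of_commutator_le' {G : Type*} [Group G] (N : Subgroup G) (h : commutator G ≤ N) :
    N.Normal := by
  refine ⟨fun n hn g => ?_⟩
  have h1 : g * n * g⁻¹ = ⁅g, n⁆ * n := by simp [commutatorElement_def]
  rw [h1]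
  apply N.mul_mem _ hn
  apply h
  rw [_root_.commutator_def]
  exact Subgroup.commutator_mem_commutator (mem_top g) (mem_top n)

/-- adjoining one element to a normal subgroup `N` with `t ^ p ∈ N` multiplies the order by at most `p` -/
theorem card_sup_zpowers_le_of_pow_mem {G : Type*} [Group G] [Finite G] {p : ℕ} (hp : p.Prime)
    (N : Subgroup G) [N.Normal] (t : G) (ht : t ^ p ∈ N) :
    Nat.card (N ⊔ zpowers t : Subgroup G) ≤ p * Nat.card N := by
  have hle : N ≤ N ⊔ zpowers t := le_sup_left
  have hker : (QuotientGroup.mk' N).ker ≤ N ⊔ zpowers t := by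
    rw [QuotientGroup.ker_mk']; exact hle
  have h1 : (N ⊔ zpowers t) = ((N ⊔ zpowers t).map (QuotientGroup.mk' N)).comap
      (QuotientGroup.mk' N) := by
    rw [Subgroup.comap_map_eq_self hker]
  have h2 : (N ⊔ zpowers t).map (QuotientGroup.mk' N) = zpowers (QuotientGroup.mk' N t) := by
    rw [Subgroup.map_sup, MonoidHom.map_zpowers]
    have : N.map (QuotientGroup.mk' N) = ⊥ := by
      rw [Subgroup.map_eq_bot_iff, QuotientGroup.ker_mk']
    rw [this, bot_sup_eq]
  rw [h1, Cfsg.Agent.Lib.Helper20.card_comap_mk'_eq, h2, Nat.card_zpowers]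
  apply Nat.mul_le_mul_right
  apply Nat.le_of_dvd hp.pos
  apply orderOf_dvd_of_pow_eq_one
  rw [← map_pow]
  exact (QuotientGroup.eq_one_iff _).mpr ht

/-- Burnside's basis Theorem: in a finite p-group whose Frattini quotient has order p ^ n, every generating set contains n elements that already generate, and no set with fewer than n elements generates. -/
theorem result {G : Type*} [Group G] [Finite G] (p n : ℕ) [Fact p.Prime]
    (hG : IsPGroup p G) (hn : (frattini G).index = p ^ n) :
    (∀ S : Finset G, Subgroup.closure (S : Set G) = ⊤ → ∃ T : Finset G, T ⊆ S ∧ T.card = n ∧ Subgroup.closure (T : Set G) = ⊤) ∧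
    (∀ T : Finset G, Subgroup.closure (T : Set G) = ⊤ → n ≤ T.card) := by
  classical
  have hp : p.Prime := Fact.out
  obtain ⟨hcomm, hpow⟩ := Cfsg.Agent.S0012.result p hG
  obtain ⟨Φ, hΦ⟩ : ∃ Φ : Subgroup G, Φ = frattini G := ⟨_, rfl⟩
  rw [← hΦ] at hcomm hpow hn
  let W : Finset G → Subgroup G := fun T => closure (T : Set G) ⊔ Φ
  have hWn : ∀ T, (W T).Normal := fun T =>
    normal_of_commutator_le' _ (hcomm.trans le_sup_right)
  have hWins : ∀ (t : G) (T : Finset G), W (insert t T) = W T ⊔ zpowers t := by
    intro t T
    simp only [W, Finset.coe_insert]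
    rw [Set.insert_eq, Subgroup.closure_union, ← zpowers_eq_closure]
    ac_rfl
  have hU : ∀ T : Finset G, Nat.card (W T) ≤ p ^ T.card * Nat.card Φ := by
    intro T
    induction T using Finset.induction_on with
    | empty => simp [W]
    | insert t T ht ih =>
      rw [hWins, Finset.card_insert_of_notMem ht, pow_succ]
      haveI := hWn T
      have h1 := card_sup_zpowers_le_of_pow_mem hp (W T) t
        (le_sup_right (a := closure (T : Set G)) (hpow t))
      calc _ ≤ p * Nat.card (W T) := h1
        _ ≤ p * (p ^ T.card * Nat.card Φ) := Nat.mul_le_mul_left _ ih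
        _ = p ^ T.card * p * Nat.card Φ := by ring
  have hL : ∀ T : Finset G, (∀ t ∈ T, t ∉ W (T.erase t)) →
      p ^ T.card * Nat.card Φ ≤ Nat.card (W T) := by
    intro T
    induction T using Finset.induction_on with
    | empty =>
      intro _
      simp [W]
    | insert t T ht ih =>
      intro hind
      have hT : ∀ s ∈ T, s ∉ W (T.erase s) := by
        intro s hs hmem
        apply hind s (Finset.mem_insert_of_mem hs)
        have hsub : (T.erase s : Finset G) ⊆ (insert t T).erase s :=
          Finset.erase_subset_erase _ (Finset.subset_insert t T)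
        exact (sup_le_sup_right (closure_mono (Finset.coe_subset.mpr hsub)) Φ) hmem
      have ht' : t ∉ W T := by
        have := hind t (Finset.mem_insert_self t T)
        rwa [Finset.erase_insert ht] at this
      have h1 := ih hT
      have hlt : ¬ W (insert t T) ≤ W T := by
        intro hle
        apply ht'
        apply hle
        rw [hWins]
        exact mem_sup_right (mem_zpowers t)
      have hle : W T ≤ W (insert t T) := by
        rw [hWins]
        exact le_sup_left
      have h2 := Cfsg.Agent.Lib.Helper20.card_mul_le_card_of_lt hp hG hle hlt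
      rw [Finset.card_insert_of_notMem ht, pow_succ]
      calc p ^ T.card * p * Nat.card Φ = p * (p ^ T.card * Nat.card Φ) := by ring
        _ ≤ p * Nat.card (W T) := Nat.mul_le_mul_left _ h1
        _ ≤ _ := h2
  have hcardG : Nat.card G = p ^ n * Nat.card Φ := by
    rw [← hn, mul_comm]
    exact (Subgroup.card_mul_index Φ).symm
  have hΦpos : 0 < Nat.card Φ := Nat.card_pos
  have hgen : ∀ T : Finset G, closure (T : Set G) = ⊤ → W T = ⊤ := by
    intro T hT
    simp only [W]
    rw [hT, top_sup_eq]
  have hpart2 : ∀ T : Finset G, closure (T : Set G) = ⊤ → n ≤ T.card := by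
    intro T hT
    have h1 := hU T
    rw [hgen T hT, Subgroup.card_top, hcardG] at h1
    have h2 : p ^ n ≤ p ^ T.card := Nat.le_of_mul_le_mul_right h1 hΦpos
    exact (Nat.pow_le_pow_iff_right hp.one_lt).mp h2
  refine ⟨?_, hpart2⟩
  intro S hS
  let F := S.powerset.filter (fun T : Finset G => Subgroup.closure (T : Set G) = ⊤)
  have hFne : F.Nonempty := ⟨S, by simp [F, hS]⟩
  obtain ⟨T, hTF, hTmin⟩ := Finset.exists_min_image F Finset.card hFne
  have hTS : T ⊆ S := Finset.mem_powerset.mp (Finset.mem_filter.mp hTF).1
  have hTgen : closure (T : Set G) = ⊤ := (Finset.mem_filter.mp hTF).2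
  refine ⟨T, hTS, ?_, hTgen⟩
  apply le_antisymm _ (hpart2 T hTgen)
  have hind : ∀ t ∈ T, t ∉ W (T.erase t) := by
    intro t ht hmem
    have hW : W (T.erase t) = ⊤ := by
      rw [eq_top_iff, ← hgen T hTgen]
      apply sup_le _ le_sup_right
      rw [closure_le]
      intro s hs
      by_cases hst : s = t
      · rw [hst]
        exact hmem
      · exact le_sup_left (a := closure ((T.erase t : Finset G) : Set G))
          (subset_closure (Finset.mem_erase.mpr ⟨hst, hs⟩))
    have hgen' : closure ((T.erase t : Finset G) : Set G) = ⊤ := by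
      apply frattini_nongenerating
      rw [← hΦ]
      exact hW
    have hmem' : T.erase t ∈ F := by
      simp only [F, Finset.mem_filter, Finset.mem_powerset]
      exact ⟨(Finset.erase_subset t T).trans hTS, hgen'⟩
    have := hTmin _ hmem'
    rw [Finset.card_erase_of_mem ht] at this
    have hpos : 0 < T.card := Finset.card_pos.mpr ⟨t, ht⟩
    omega
  have h1 := hL T hind
  rw [hgen T hTgen, Subgroup.card_top, hcardG] at h1
  have h2 : p ^ T.card ≤ p ^ n := Nat.le_of_mul_le_mul_right h1 hΦpos
  exact (Nat.pow_le_pow_iff_right hp.one_lt).mp h2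

end Cfsg.Agent.S0014
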