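import Cfsg.Statements.S0740
-- import your own Cfsg.Agent.* helpers here

set_option autoImplicit false
open Cfsg

namespace Cfsg.Agent.S0740

/-- In a finite Zassenhaus group any two points `a ≠ b` are swapped by an involution; every such involution has exactly one fixed point when the degree is odd and 0 or 2 fixed points when the degree is even; and if the two-point stabiliser has even order, some such involution has exactly 2 fixed points. -/
theorem result {G Ω : Type*} [Group G] [Finite G] [MulAction G Ω] [Fintype Ω] (hZ : Cfsg.IsZassenhausGroup G Ω) {a b : Ω} (hab : a ≠ b) : (∃ s : G, orderOf s = 2 ∧ s • a = b ∧ s • b = a) ∧ (∀ s : G, orderOf s = 2 → s • a = b → s • b = a → (Odd (Fintype.card Ω) → Nat.card (MulAction.fixedBy Ω s) = 1) ∧ (Even (Fintype.card Ω) → Nat.card (MulAction.fixedBy Ω s) = 0 ∨ Nat.card (MulAction.fixedBy Ω s) = 2)) ∧ (Even (Fintype.card Ω) → Even (Nat.card ↥(MulAction.stabilizer G a ⊓ MulAction.stabilizer G b)) → ∃ s : G, orderOf s = 2 ∧ s • a = b ∧ s • b = a ∧ Nat.card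 (MulAction.fixedBy Ω s) = 2) := by
  classical
  obtain ⟨hfaith, h2, h3pt, -, -⟩ := hZ
  have : Fact (Nat.Prime 2) := ⟨Nat.prime_two⟩
  have hinv : ∀ s : G, orderOf s = 2 → s * s = 1 ∧ s ≠ 1 := by
    intro s hs
    have := (orderOf_eq_prime_iff (p := 2)).1 hs
    exact ⟨by rw [← pow_two]; exact this.1, this.2⟩
  have hmoves : ∀ s : G, s ≠ 1 → ∃ c : Ω, s • c ≠ c := by
    intro s hs
    by_contra hcon
    push Not at hcon
    apply hs
    apply hfaith.eq_of_smul_eq_smul
    intro c
    rw [hcon c, one_smul]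
  -- conjugation lemma
  have hconj : ∀ s : G, orderOf s = 2 → ∀ c : Ω, s • c ≠ c →
      ∃ t : G, orderOf t = 2 ∧ t • a = b ∧ t • b = a ∧
        Nat.card (MulAction.fixedBy Ω t) = Nat.card (MulAction.fixedBy Ω s) := by
    intro s hs c hc
    obtain ⟨hss, hs1⟩ := hinv s hs
    have hsd : s • (s • c) = c := by rw [← mul_smul, hss, one_smul]
    obtain ⟨g, hgc, hgd⟩ := MulAction.is_two_pretransitive_iff.1 h2 (Ne.symm hc) hab
    refine ⟨g * s * g⁻¹, ?_, ?_, ?_, ?_⟩
    · rw [orderOf_eq_prime_iff]
      constructor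
      · rw [conj_pow, pow_two, hss, mul_one, mul_inv_cancel]
      · intro h
        apply hs1
        have h' := congrArg (fun x => g⁻¹ * x * g) h
        simp only [mul_one, inv_mul_cancel] at h'
        rw [← h']
        group
    · rw [mul_smul, mul_smul, ← hgc, inv_smul_smul, hgd]
    · rw [mul_smul, mul_smul, ← hgd, inv_smul_smul, hsd, hgc]
    · rw [← MulAction.smul_fixedBy]
      exact Set.natCard_smul_set g _
  -- fixed point bounds
  have hle2 : ∀ s : G, orderOf s = 2 → Nat.card (MulAction.fixedBy Ω s) ≤ 2 := by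
    intro s hs
    by_contra hcon
    push Not at hcon
    rw [Nat.card_coe_set_eq, Set.two_lt_ncard (Set.toFinite _)] at hcon
    obtain ⟨x, hx, y, hy, z, hz, hxy, hxz, hyz⟩ := hcon
    exact (hinv s hs).2 (h3pt s x y z hxy hyz hxz hx hy hz)
  have hmod : ∀ s : G, orderOf s = 2 →
      Nat.card Ω ≡ Nat.card (MulAction.fixedBy Ω s) [MOD 2] := by
    intro s hs
    have hP : IsPGroup 2 (Subgroup.zpowers s) := by
      apply IsPGroup.of_card (n := 1)
      rw [Nat.card_zpowers, hs, pow_one]
    have h1 := hP.card_modEq_card_fixedPoints Ω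
    have h2 : MulAction.fixedPoints (Subgroup.zpowers s) Ω = MulAction.fixedBy Ω s := by
      ext x
      constructor
      · intro hx
        exact hx ⟨s, Subgroup.mem_zpowers s⟩
      · rintro hx ⟨_, k, rfl⟩
        exact MulAction.fixedBy_subset_fixedBy_zpow Ω s k hx
    rw [h2] at h1
    exact h1
  have hcardΩ : Nat.card Ω = Fintype.card Ω := Nat.card_eq_fintype_card
  refine ⟨?_, ?_, ?_⟩
  · -- existence of an involution swapping a and b
    obtain ⟨g, hga, hgb⟩ := MulAction.is_two_pretransitive_iff.1 h2 hab (Ne.symm hab)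
    have hg2 : ∀ k : ℕ, g ^ (2 * k) • a = a := by
      intro k
      induction k with
      | zero => simp
      | succ k ih =>
        rw [Nat.mul_succ, pow_add, mul_smul, pow_two, mul_smul, hga, hgb, ih]
    have heven : 2 ∣ orderOf g := by
      rcases Nat.even_or_odd' (orderOf g) with ⟨k, hk | hk⟩
      · exact ⟨k, hk⟩
      · exfalso
        have h1 : g ^ (orderOf g) • a = a := by rw [pow_orderOf_eq_one, one_smul]
        rw [hk, pow_succ, mul_smul, hga] at h1
        -- g^(2k) • b = a, so b = g^(2k)⁻¹ a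
        have h2' : g ^ (2 * k) • a = a := hg2 k
        have : g ^ (2 * k) • b = g ^ (2 * k) • a := by rw [h1, h2']
        exact hab (smul_left_cancel _ this).symm
    have hdvd : 2 ∣ Nat.card G := heven.trans (orderOf_dvd_natCard g)
    obtain ⟨s₀, hs₀⟩ := exists_prime_orderOf_dvd_card' 2 hdvd
    obtain ⟨c, hc⟩ := hmoves s₀ (hinv s₀ hs₀).2
    obtain ⟨t, ht, hta, htb, -⟩ := hconj s₀ hs₀ c hc
    exact ⟨t, ht, hta, htb⟩
  · intro s hs _ _
    have h1 := hle2 s hs
    have h2' := hmod s hs
    rw [hcardΩ] at h2'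
    unfold Nat.ModEq at h2'
    constructor
    · intro hodd
      rw [Nat.odd_iff] at hodd
      omega
    · intro hev
      rw [Nat.even_iff] at hev
      omega
  · intro hev hHev
    obtain ⟨h, hh⟩ := exists_prime_orderOf_dvd_card' 2 hHev.two_dvd
    have hh' : orderOf (h : G) = 2 := by rw [Subgroup.orderOf_coe]; exact hh
    have hha : (h : G) • a = a := (Subgroup.mem_inf.1 h.2).1
    have hfix2 : Nat.card (MulAction.fixedBy Ω (h : G)) = 2 := by
      have h1 := hle2 _ hh'
      have h2' := hmod _ hh'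
      rw [hcardΩ] at h2'
      unfold Nat.ModEq at h2'
      rw [Nat.even_iff] at hev
      have hpos : 0 < Nat.card (MulAction.fixedBy Ω (h : G)) := by
        have : Nonempty (MulAction.fixedBy Ω (h : G)) := ⟨⟨a, hha⟩⟩
        exact Nat.card_pos
      omega
    obtain ⟨c, hc⟩ := hmoves _ (hinv _ hh').2
    obtain ⟨t, ht, hta, htb, hcard⟩ := hconj _ hh' c hc
    exact ⟨t, ht, hta, htb, hcard.trans hfix2⟩

end Cfsg.Agent.S0740
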