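import Cfsg.Statements.S0345
import Cfsg.Agent.Lib.Helper17.Sh3P
import Cfsg.Agent.Lib.Helper17.Sh3Q
import Cfsg.Agent.Lib.Helper5.ZPslA
import Cfsg.Agent.Lib.Helper5.ZassOdd3
import Cfsg.Agent.S0739
import Cfsg.Agent.S0740

set_option autoImplicit false
open Cfsg

namespace Cfsg.Agent.S0345

/-- In a finite simple Zassenhaus group the stabiliser `H` of two points `a ≠ b` is cyclic, and some involution
interchanging `a` and `b` inverts every element of `H`. -/
theorem result {G Ω : Type*} [Group G] [Finite G] [MulAction G Ω] [Finite Ω]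
    (hZ : Cfsg.IsZassenhausGroup G Ω) [IsSimpleGroup G]
    {a b : Ω} (hab : a ≠ b) :
    IsCyclic ↥(MulAction.stabilizer G a ⊓ MulAction.stabilizer G b) ∧
      ∃ v : G, orderOf v = 2 ∧ v • a = b ∧ v • b = a ∧ ∀ h ∈ MulAction.stabilizer G a ⊓ MulAction.stabilizer G b, v * h * v⁻¹ = h⁻¹ := by
  classical
  have : Fintype Ω := Fintype.ofFinite Ω
  obtain ⟨⟨v, hv2, hva, hvb⟩, -, -⟩ := Cfsg.Agent.S0740.result hZ hab
  rcases Nat.even_or_odd
      (Nat.card ↥(MulAction.stabilizer G a ⊓ MulAction.stabilizer G b)) with heven | hodd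
  · have hcard := Cfsg.Agent.Lib.Helper17.Sh3.card_eq_of_simple_even hZ hab heven
    have hinv : ∀ h ∈ MulAction.stabilizer G a ⊓ MulAction.stabilizer G b,
        v * h * v⁻¹ = h⁻¹ := by
      intro h hh
      obtain ⟨h1, h2⟩ := Subgroup.mem_inf.mp hh
      exact Cfsg.Agent.Lib.Helper5.ZPsl.swap_inverts hZ hab heven (by omega) a b hab v hva hvb h
        (MulAction.mem_stabilizer_iff.mp h1) (MulAction.mem_stabilizer_iff.mp h2)
    refine ⟨?_, v, hv2, hva, hvb, hinv⟩
    have hcomm : ∀ x y : ↥(MulAction.stabilizer G a ⊓ MulAction.stabilizer G b),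
        x * y = y * x := by
      intro x y
      apply Subtype.ext
      have h1 := hinv _ (x * y).2
      have h2 := hinv _ x.2
      have h3 := hinv _ y.2
      have h4 : v * ((x : G) * (y : G)) * v⁻¹ = (v * (x : G) * v⁻¹) * (v * (y : G) * v⁻¹) := by
        group
      rw [Subgroup.coe_mul, h4, h2, h3, mul_inv_rev] at h1
      have h5 := congrArg (fun z => z⁻¹) h1
      simp only [mul_inv_rev, inv_inv] at h5
      rw [Subgroup.coe_mul, Subgroup.coe_mul]
      exact h5.symm
    have hnt : Nontrivial ↥(MulAction.stabilizer G a ⊓ MulAction.stabilizer G b) := by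
      rw [← Finite.one_lt_card_iff_nontrivial]
      have hpos : 0 < Nat.card ↥(MulAction.stabilizer G a ⊓ MulAction.stabilizer G b) :=
        Nat.card_pos
      obtain ⟨k, hk⟩ := heven
      omega
    exact (Cfsg.Agent.Lib.Helper17.Sh3.hasFree_two_point hZ hab hnt).isCyclic_of_comm hcomm
  · have hnil := Cfsg.Agent.Lib.Helper5.ZassOdd.no_normal_complement_of_simple hZ hab
    obtain ⟨hcyc, -, hinv⟩ := Cfsg.Agent.S0739.result hZ hab hodd hnil
    exact ⟨hcyc, v, hv2, hva, hvb, hinv v hva hvb⟩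

end Cfsg.Agent.S0345
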