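import Cfsg.Statements.S5114
import Cfsg.Agent.Lib.Helper27.FSPrimeToP

set_option autoImplicit false
open Cfsg

namespace Cfsg.Agent.S5114

open Cfsg.FusionSystem Cfsg.Agent.Lib.Helper26 Cfsg.Agent.Lib.Helper27

/-- Let F be a saturated fusion system over a finite p-group S and E a fusion system over S contained in F. If Aut_E(P) contains the subgroup of Aut_F(P) generated by its elements of p-power order for every subgroup P that is centric in F, then the same holds for every subgroup of S (E has index prime to p in F), every map of F with source a subgroup P of S is an element of Aut_F(S) composed with a map of E, and a subgroup is centric in E exactly when it is centric in F. -/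
theorem result {Ω : Type*} [Group Ω] {S : Subgroup Ω} [Finite S] (p : ℕ) [Fact p.Prime] (hS : IsPGroup p S) (F : Cfsg.FusionSystem S) (hF : F.IsSaturated p) (E : Cfsg.FusionSystem S) (hEF : E.IsSubsystemOf F) (h : ∀ P : Subgroup Ω, F.IsCentric P → (Subgroup.closure {α : ↥(F.autGroup P) | ∃ k : ℕ, orderOf α = p ^ k}).map (F.autGroup P).subtype ≤ E.autGroup P) : E.HasPrimeToPIndexIn F p ∧ (∀ (P : Subgroup Ω) (φ : P →* Ω), φ ∈ F.Hom P → ∃ α ∈ F.autGroup S, ∃ φ₀ ∈ E.Hom P, ∀ (x : P) (hx : φ₀ x ∈ S), φ x = ((α ⟨φ₀ x, hx⟩ : S) : Ω)) ∧ ∀ P : Subgroup Ω, E.IsCentric P ↔ F.IsCentric P := by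
  have hpg : ∀ P : Subgroup Ω, F.IsCentric P → pgenAut F p P ≤ E.autGroup P := h
  have hE₀E := twistSystem_le F E
  have hE₀F := twistSystem_le' F E
  have hinv := twistSystem_autInv F E
  have hK : ∀ P : Subgroup Ω, F.IsCentric P → pgenAut F p P ≤ (twistSystem F E).autGroup P :=
    fun P hP => pgenAut_le_twistSystem F E p hpg hP
  have hdec := hom_subset_decSystem hS F hF (twistSystem F E) hE₀F hinv hK
  have hfrat : ∀ P : Subgroup Ω, P ≤ S → ∀ φ ∈ F.Hom P, Dec (twistSystem F E) F P φ :=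
    fun P _ φ hφ => (hdec P hφ).2
  have hSI : StrongInv (twistSystem F E) F := strongInv_of_invariant hinv hfrat
  refine ⟨⟨hEF, fun P hP => ?_⟩, ?_, ?_⟩
  · exact (pgenAut_le_of_strongInv hS F hF (twistSystem F E) hSI hP).trans
      (Subgroup.closure_mono (fun α hα => hE₀E P hα))
  · intro P φ hφ
    obtain ⟨α, hα, φ₀, hφ₀, hφα⟩ := (hdec P hφ).2
    exact ⟨α, hα, φ₀, hE₀E P hφ₀, hφα⟩
  · intro P
    constructor
    · intro hPc
      refine ⟨hPc.1, fun Q hPQ => ?_⟩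
      obtain ⟨φ, hφ, rfl⟩ := hPQ
      obtain ⟨α, hα, φ₀, hφ₀, hφα⟩ := (hdec P hφ).2
      have hφ₀E : φ₀ ∈ E.Hom P := hE₀E P hφ₀
      have hφ₀S : ∀ x : P, φ₀ x ∈ S := hom_apply_mem E hφ₀E
      have hQ₀ : centralizerIn S φ₀.range ≤ φ₀.range := hPc.2 _ ⟨φ₀, hφ₀E, rfl⟩
      intro c hc
      rw [mem_centralizerIn_iff] at hc
      obtain ⟨hcS, hcc⟩ := hc
      have h1 : ((α⁻¹ ⟨c, hcS⟩ : S) : Ω) ∈ centralizerIn S φ₀.range := by
        rw [mem_centralizerIn_iff]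
        refine ⟨(α⁻¹ ⟨c, hcS⟩).2, ?_⟩
        rintro _ ⟨x, rfl⟩
        have h2 := hcc (φ x) ⟨x, rfl⟩
        rw [hφα x (hφ₀S x)] at h2
        have h3 : α ⟨φ₀ x, hφ₀S x⟩ * ⟨c, hcS⟩ = ⟨c, hcS⟩ * α ⟨φ₀ x, hφ₀S x⟩ := Subtype.ext h2
        have h4 := congrArg (fun w => ((α⁻¹ w : S) : Ω)) h3
        simp only [map_mul, MulAut.inv_apply_self, Subgroup.coe_mul] at h4
        exact h4
      obtain ⟨x, hx⟩ := hQ₀ h1
      refine ⟨x, ?_⟩
      rw [hφα x (hφ₀S x)]
      have e : (⟨φ₀ x, hφ₀S x⟩ : S) = α⁻¹ ⟨c, hcS⟩ := Subtype.ext hx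
      rw [e]
      simp
    · intro hPc
      refine ⟨hPc.1, fun Q hPQ => hPc.2 Q ?_⟩
      obtain ⟨φ, hφ, hr⟩ := hPQ
      exact ⟨φ, hEF P hφ, hr⟩

end Cfsg.Agent.S5114
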