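import Cfsg.Statements.S3224
-- import your own Cfsg.Agent.* helpers here
import Mathlib
import Cfsg.Agent.Lib.Helper18.CentralizerFour
import Cfsg.Agent.Lib.Helper3.Dihedral

set_option autoImplicit false
open Cfsg

namespace Cfsg.Agent.S3224

/-- A finite 2-group containing an involution whose centralizer has order 4 is dihedral, quasi-dihedral (semidihedral), or of order 4. -/
theorem result {S : Type*} [Group S] [Finite S] (hS : IsPGroup 2 S)
    (x : S) (hx : orderOf x = 2) (hC : Nat.card ↥(Subgroup.centralizer ({x} : Set S)) = 4) :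
    (∃ n : ℕ, Nonempty (S ≃* DihedralGroup n)) ∨ Cfsg.IsQuasiDihedral S ∨ Nat.card S = 4 := by
  haveI : Fact (Nat.Prime 2) := ⟨Nat.prime_two⟩
  by_cases h8 : 8 ≤ Nat.card S
  · obtain ⟨a, n, hn2, horda, hcard, hxa, hrel⟩ :=
      Cfsg.Agent.Lib.Helper18.dihedral_or_quasidihedral_data hS x hx hC h8
    have hxx : x * x = 1 := by rw [← sq, ← hx]; exact pow_orderOf_eq_one x
    have hxi : x⁻¹ = x := inv_eq_of_mul_eq_one_left hxx
    rcases hrel with hinv | ⟨hn3, hq⟩
    · left
      refine ⟨2 ^ n, ?_⟩
      have ha : a ^ (2 ^ n) = 1 := by rw [← horda]; exact pow_orderOf_eq_one a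
      have hsx : x * a * x = a⁻¹ := by
        have := hinv
        rw [hxi] at this
        exact this
      have hinj := Cfsg.Agent.Lib.Helper3.dihLift_injective a x ha hxx hsx horda hxa
      have hbij : Function.Bijective (Cfsg.Agent.Lib.Helper3.dihLift a x ha hxx hsx) := by
        apply hinj.bijective_of_nat_card_le
        rw [DihedralGroup.nat_card, hcard, pow_succ, mul_comm]
      exact ⟨(MulEquiv.ofBijective _ hbij).symm⟩
    · right; left
      exact ⟨n, hn3, hcard, a, x, horda, hx, hq⟩
  · right; right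
    obtain ⟨m, hm⟩ := (IsPGroup.iff_card (p := 2)).mp hS
    have hle : 4 ≤ Nat.card S := by
      rw [← hC]; exact Subgroup.card_le_card_group _
    have hm2 : m = 2 := by
      by_contra hne
      rcases Nat.lt_or_gt_of_ne hne with h | h
      · have : 2 ^ m ≤ 2 ^ 1 := Nat.pow_le_pow_right (by norm_num) (by omega)
        omega
      · have : 2 ^ 3 ≤ 2 ^ m := Nat.pow_le_pow_right (by norm_num) (by omega)
        omega
    rw [hm, hm2]; norm_num

end Cfsg.Agent.S3224
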