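import Cfsg.Statements.S3381
-- import your own Cfsg.Agent.* helpers here
import Mathlib

set_option autoImplicit false
open Cfsg

namespace Cfsg.Agent.S3381

/-- Let G be a finite group acting faithfully and linearly on a non-trivial finite vector space V over the field with q elements (q prime) so that every non-zero vector has a stabilizer of order 2, and suppose G has a central involution. Then V has q^(2r) elements for some r and G contains exactly q^r + 1 non-central involutions. -/
theorem result
    (q : ℕ) [Fact q.Prime] {V : Type*} [AddCommGroup V] [Module (ZMod q) V] [Finite V] [Nontrivial V]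
    {G : Type*} [Group G] [Finite G] (ρ : G →* (V ≃ₗ[ZMod q] V)) (hρ : Function.Injective ρ)
    (hstab : ∀ v : V, v ≠ 0 → Nat.card {g : G // ρ g v = v} = 2)
    (z : G) (hz : orderOf z = 2) (hzc : z ∈ Subgroup.center G) :
    ∃ r : ℕ, Nat.card V = q ^ (2 * r) ∧
      Nat.card {g : G // orderOf g = 2 ∧ g ∉ Subgroup.center G} = q ^ r + 1 := by
  classical
  have hqp : q.Prime := Fact.out
  have hmul : ∀ (g h : G) (v : V), ρ (g * h) v = ρ g (ρ h v) := fun g h v => by
    rw [map_mul]; rfl
  have hone : ∀ v : V, ρ 1 v = v := fun v => by rw [map_one]; rfl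
  -- structure of stabilizers
  have hst : ∀ v : V, v ≠ 0 → ∃ t : G, t ≠ 1 ∧ ρ t v = v ∧ ∀ g : G, ρ g v = v → g = 1 ∨ g = t := by
    intro v hv
    obtain ⟨x, y, hxy, huniv⟩ := Nat.card_eq_two_iff.mp (hstab v hv)
    have h1 : (⟨1, hone v⟩ : {g : G // ρ g v = v}) ∈ ({x, y} : Set _) := by rw [huniv]; trivial
    simp only [Set.mem_insert_iff, Set.mem_singleton_iff] at h1
    have hall : ∀ g : G, ∀ hg : ρ g v = v,
        (⟨g, hg⟩ : {g : G // ρ g v = v}) = x ∨ (⟨g, hg⟩ : {g : G // ρ g v = v}) = y := by
      intro g hg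
      have : (⟨g, hg⟩ : {g : G // ρ g v = v}) ∈ ({x, y} : Set _) := by rw [huniv]; trivial
      simpa only [Set.mem_insert_iff, Set.mem_singleton_iff] using this
    rcases h1 with h1 | h1
    · refine ⟨y.1, ?_, y.2, ?_⟩
      · intro h
        apply hxy
        rw [← h1]
        exact Subtype.ext h.symm
      · intro g hg
        rcases hall g hg with h | h
        · left
          rw [← h1] at h
          exact congrArg Subtype.val h
        · right
          exact congrArg Subtype.val h
    · refine ⟨x.1, ?_, x.2, ?_⟩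
      · intro h
        apply hxy
        rw [← h1]
        exact Subtype.ext h
      · intro g hg
        rcases hall g hg with h | h
        · right
          exact congrArg Subtype.val h
        · left
          rw [← h1] at h
          exact congrArg Subtype.val h
  have hthree : ∀ v : V, v ≠ 0 → ∀ a b : G, a ≠ 1 → b ≠ 1 → a ≠ b → ρ a v = v → ρ b v = v →
      False := by
    intro v hv a b ha hb hab hav hbv
    obtain ⟨t, -, -, ht⟩ := hst v hv
    rcases ht a hav with h | h
    · exact ha h
    rcases ht b hbv with h' | h'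
    · exact hb h'
    exact hab (h.trans h'.symm)
  -- central involutions act as -1
  have hcentral : ∀ c : G, c ∈ Subgroup.center G → orderOf c = 2 → ∀ v : V, ρ c v = -v := by
    intro c hc hco
    have hc1 : c ≠ 1 := by
      intro h; rw [h, orderOf_one] at hco; norm_num at hco
    have hcc : c * c = 1 := by
      have := pow_orderOf_eq_one c
      rwa [hco, pow_two] at this
    have hcomm : ∀ g : G, g * c = c * g := fun g => (Subgroup.mem_center_iff.mp hc g)
    have hcv : ∀ v : V, ρ c (ρ c v) = v := fun v => by rw [← hmul, hcc, hone]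
    have hfpf : ∀ w : V, w ≠ 0 → ρ c w ≠ w := by
      intro w hw hcw
      obtain ⟨u, hu⟩ : ∃ u : V, ρ c u ≠ u := by
        by_contra hcon
        push Not at hcon
        apply hc1
        apply hρ
        ext v
        rw [hcon v, hone]
      have hu0 : u ≠ 0 := by
        intro h; apply hu; rw [h, map_zero]
      obtain ⟨t, ht1, htu, -⟩ := hst u hu0
      have htc : t ≠ c := by
        intro h; apply hu; rw [← h]; exact htu
      by_cases hx : u + ρ c u = 0
      · -- ρ c u = -u
        have hcu : ρ c u = -u := by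
          rw [add_comm] at hx
          exact eq_neg_of_add_eq_zero_left hx
        have hy0 : u + w ≠ 0 := by
          intro h
          have h1 : u = -w := eq_neg_of_add_eq_zero_left h
          apply hu
          rw [h1, map_neg, hcw]
        obtain ⟨s, hs1, hsy, -⟩ := hst (u + w) hy0
        have h1 : ρ s u + ρ s w = u + w := by rw [← map_add]; exact hsy
        have h2 : -ρ s u + ρ s w = -u + w := by
          have h3 : ρ s (ρ c (u + w)) = ρ c (u + w) := by
            rw [← hmul, hcomm s, hmul, hsy]
          rw [map_add, hcu, hcw, map_add, map_neg] at h3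
          exact h3
        have h2u : (2 : ZMod q) • (ρ s u - u) = 0 := by
          have : (2 : ZMod q) • (ρ s u - u) = (ρ s u + ρ s w) - (-ρ s u + ρ s w) - ((u + w) - (-u + w)) := by
            rw [two_smul]; abel
          rw [this, h1, h2]; abel
        have h2w : (2 : ZMod q) • (ρ s w - w) = 0 := by
          have : (2 : ZMod q) • (ρ s w - w) = (ρ s u + ρ s w) + (-ρ s u + ρ s w) - ((u + w) + (-u + w)) := by
            rw [two_smul]; abel
          rw [this, h1, h2]; abel
        have h20 : (2 : ZMod q) ≠ 0 := by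
          intro h
          apply hu
          rw [hcu]
          have : (2 : ZMod q) • u = 0 := by rw [h, zero_smul]
          rw [two_smul] at this
          exact (eq_neg_of_add_eq_zero_left this).symm
        have hsu : ρ s u = u := by
          rcases smul_eq_zero.mp h2u with h | h
          · exact absurd h h20
          · exact sub_eq_zero.mp h
        have hsw : ρ s w = w := by
          rcases smul_eq_zero.mp h2w with h | h
          · exact absurd h h20
          · exact sub_eq_zero.mp h
        -- s fixes u and w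
        by_cases hst' : s = t
        · rw [hst'] at hsw
          exact hthree w hw t c ht1 hc1 htc hsw hcw
        · exact hthree u hu0 s t hs1 ht1 hst' hsu htu
      · -- x = u + c u is nonzero, fixed by c and t
        have hcx : ρ c (u + ρ c u) = u + ρ c u := by
          rw [map_add, hcv, add_comm]
        have htx : ρ t (u + ρ c u) = u + ρ c u := by
          rw [map_add, htu, ← hmul, hcomm t, hmul, htu]
        exact hthree _ hx t c ht1 hc1 htc htx hcx
    intro v
    have hx : v + ρ c v = 0 := by
      by_contra hx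
      apply hfpf _ hx
      rw [map_add, hcv, add_comm]
    rw [add_comm] at hx
    exact eq_neg_of_add_eq_zero_left hx
  have hz1 : z ≠ 1 := by
    intro h; rw [h, orderOf_one] at hz; norm_num at hz
  have hzz : z * z = 1 := by
    have := pow_orderOf_eq_one z
    rwa [hz, pow_two] at this
  have hzv : ∀ v : V, ρ z v = -v := hcentral z hzc hz
  have hzcomm : ∀ g : G, g * z = z * g := fun g => (Subgroup.mem_center_iff.mp hzc g)
  have h20 : (2 : ZMod q) ≠ 0 := by
    intro h
    apply hz1
    apply hρ
    ext v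
    rw [hzv, hone]
    have : (2 : ZMod q) • v = 0 := by rw [h, zero_smul]
    rw [two_smul] at this
    exact (eq_neg_of_add_eq_zero_left this).symm
  have h2cancel : ∀ w : V, w + w = 0 → w = 0 := by
    intro w hw
    rw [← two_smul (ZMod q)] at hw
    rcases smul_eq_zero.mp hw with h | h
    · exact absurd h h20
    · exact h
  have hinv : ∀ t : G, orderOf t = 2 → t ≠ 1 ∧ t * t = 1 := by
    intro t ht
    refine ⟨?_, ?_⟩
    · intro h; rw [h, orderOf_one] at ht; norm_num at ht
    · have := pow_orderOf_eq_one t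
      rwa [ht, pow_two] at this
  -- fixed spaces
  set Fs : G → Submodule (ZMod q) V :=
    fun g => LinearMap.eqLocus ((ρ g : V ≃ₗ[ZMod q] V) : V →ₗ[ZMod q] V) LinearMap.id with hFs
  have hmemF : ∀ (g : G) (v : V), v ∈ Fs g ↔ ρ g v = v := by
    intro g v
    rw [hFs]
    simp [LinearMap.mem_eqLocus]
  set N := Nat.card V with hN
  have hNpos : 0 < N := Nat.card_pos
  -- decomposition for an involution t
  have hprod : ∀ t : G, t * t = 1 → Nat.card (Fs t) * Nat.card (Fs (t * z)) = N := by
    intro t htt
    rw [← Nat.card_prod]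
    have htv : ∀ v : V, ρ t (ρ t v) = v := fun v => by rw [← hmul, htt, hone]
    apply Nat.card_congr
    refine Equiv.ofBijective (fun p => (p.1 : V) + (p.2 : V)) ⟨?_, ?_⟩
    · rintro ⟨⟨x, hx⟩, ⟨y, hy⟩⟩ ⟨⟨x', hx'⟩, ⟨y', hy'⟩⟩ h
      simp only at h
      rw [hmemF] at hx hx' hy hy'
      have hw1 : ρ t (x - x') = x - x' := by rw [map_sub, hx, hx']
      have hw2 : ρ (t * z) (x - x') = x - x' := by
        have : x - x' = y' - y := by
          have := h
          rw [← sub_eq_zero] at this ⊢
          rw [← this]; abel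
        rw [this, map_sub, hy, hy']
      rw [hmul, hzv, map_neg, hw1] at hw2
      have hw0 : x - x' = 0 := by
        apply h2cancel
        nth_rewrite 1 [← hw2]
        abel
      have hxx : x = x' := sub_eq_zero.mp hw0
      subst hxx
      have hyy : y = y' := add_left_cancel h
      subst hyy
      rfl
    · intro v
      have h1 : (2 : ZMod q)⁻¹ • (v + ρ t v) ∈ Fs t := by
        rw [hmemF, map_smul, map_add, htv, add_comm]
      have h2 : (2 : ZMod q)⁻¹ • (v - ρ t v) ∈ Fs (t * z) := by
        rw [hmemF, hmul, hzv, map_neg, map_smul, map_sub, htv, ← smul_neg]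
        congr 1
        abel
      refine ⟨⟨⟨_, h1⟩, ⟨_, h2⟩⟩, ?_⟩
      simp only
      rw [← smul_add]
      have : v + ρ t v + (v - ρ t v) = (2 : ZMod q) • v := by rw [two_smul]; abel
      rw [this, smul_smul, inv_mul_cancel₀ h20, one_smul]
  have hle : ∀ s t : G, s ≠ 1 → t ≠ 1 → s ≠ t → Nat.card (Fs s) * Nat.card (Fs t) ≤ N := by
    intro s t hs1 ht1 hst'
    rw [← Nat.card_prod]
    apply Nat.card_le_card_of_injective (fun p : Fs s × Fs t => (p.1 : V) + (p.2 : V))
    rintro ⟨⟨x, hx⟩, ⟨y, hy⟩⟩ ⟨⟨x', hx'⟩, ⟨y', hy'⟩⟩ h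
    simp only at h
    rw [hmemF] at hx hx' hy hy'
    have hw1 : ρ s (x - x') = x - x' := by rw [map_sub, hx, hx']
    have hw2 : ρ t (x - x') = x - x' := by
      have : x - x' = y' - y := by
        have := h
        rw [← sub_eq_zero] at this ⊢
        rw [← this]; abel
      rw [this, map_sub, hy, hy']
    have hw0 : x - x' = 0 := by
      by_contra hne
      exact hthree _ hne s t hs1 ht1 hst' hw1 hw2
    have hxx : x = x' := sub_eq_zero.mp hw0
    subst hxx
    have hyy : y = y' := add_left_cancel h
    subst hyy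
    rfl
  have htwo : ∀ t : G, t * t = 1 → t ≠ z → ∃ x : V, x ≠ 0 ∧ ρ t x = x := by
    intro t htt htz
    obtain ⟨v, hv⟩ : ∃ v : V, ρ t v ≠ -v := by
      by_contra hcon
      push Not at hcon
      apply htz
      apply hρ
      ext v
      rw [hcon v, hzv]
    refine ⟨v + ρ t v, ?_, ?_⟩
    · intro h
      apply hv
      rw [add_comm] at h
      exact eq_neg_of_add_eq_zero_left h
    · rw [map_add, ← hmul, htt, hone, add_comm]
  have htwo' : ∀ t : G, t * t = 1 → t ≠ z → 2 ≤ Nat.card (Fs t) := by
    intro t htt htz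
    obtain ⟨x, hx0, hx⟩ := htwo t htt htz
    haveI : Nontrivial (Fs t) :=
      ⟨⟨⟨x, (hmemF t x).mpr hx⟩, 0, fun h => hx0 (congrArg Subtype.val h)⟩⟩
    exact Finite.one_lt_card_iff_nontrivial.mpr inferInstance
  -- the index type of non-central involutions
  have hIz : ∀ t : G, orderOf t = 2 → t ≠ z → orderOf (t * z) = 2 ∧ t * z ≠ z ∧ t * z ≠ t := by
    intro t ht htz
    obtain ⟨ht1, htt⟩ := hinv t ht
    refine ⟨?_, ?_, ?_⟩
    · apply orderOf_eq_prime
      · rw [pow_two, mul_assoc, ← mul_assoc z t z, ← hzcomm t, mul_assoc t z z, hzz, mul_one, htt]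
      · intro h
        apply htz
        calc t = t * (z * z) := by rw [hzz, mul_one]
          _ = (t * z) * z := by rw [mul_assoc]
          _ = z := by rw [h, one_mul]
    · intro h
      apply ht1
      calc t = (t * z) * z := by rw [mul_assoc, hzz, mul_one]
        _ = z * z := by rw [h]
        _ = 1 := hzz
    · intro h
      apply hz1
      calc z = t * (t * z) := by rw [← mul_assoc, htt, one_mul]
        _ = t * t := by rw [h]
        _ = 1 := htt
  -- every involution other than z has a fixed space of size sqrt N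
  have hthird : ∀ t : G, orderOf t = 2 → t ≠ z →
      ∃ s : G, orderOf s = 2 ∧ s ≠ z ∧ s ≠ t ∧ s ≠ t * z := by
    intro t ht htz
    obtain ⟨ht1, htt⟩ := hinv t ht
    obtain ⟨htz2, htzz, htzt⟩ := hIz t ht htz
    obtain ⟨htz1, htztz⟩ := hinv (t * z) htz2
    obtain ⟨x, hx0, hx⟩ := htwo t htt htz
    obtain ⟨y, hy0, hy⟩ := htwo (t * z) htztz htzz
    have hxy0 : x + y ≠ 0 := by
      intro h
      have h1 : x = -y := eq_neg_of_add_eq_zero_left h
      have h2 : ρ (t * z) x = x := by rw [h1, map_neg, hy]
      exact hthree x hx0 t (t * z) ht1 htz1 (Ne.symm htzt) hx h2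
    obtain ⟨s, hs1, hsv, hsall⟩ := hst (x + y) hxy0
    have hss : s * s = 1 := by
      have h1 : ρ (s * s) (x + y) = x + y := by rw [hmul, hsv, hsv]
      rcases hsall (s * s) h1 with h | h
      · exact h
      · exfalso
        apply hs1
        calc s = s⁻¹ * (s * s) := by group
          _ = s⁻¹ * s := by rw [h]
          _ = 1 := by group
    have hso : orderOf s = 2 := orderOf_eq_prime (by rw [pow_two]; exact hss) hs1
    refine ⟨s, hso, ?_, ?_, ?_⟩
    · intro h
      rw [h, hzv] at hsv
      exact hxy0 (h2cancel _ (by nth_rewrite 1 [← hsv]; abel))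
    · intro h
      rw [h, map_add, hx] at hsv
      have h3 : ρ t y = y := add_left_cancel hsv
      exact hthree y hy0 t (t * z) ht1 htz1 (Ne.symm htzt) h3 hy
    · intro h
      rw [h, map_add, hy] at hsv
      have h3 : ρ (t * z) x = x := add_right_cancel hsv
      exact hthree x hx0 t (t * z) ht1 htz1 (Ne.symm htzt) hx h3
  have hsq : ∀ t : G, orderOf t = 2 → t ≠ z → Nat.card (Fs t) * Nat.card (Fs t) = N := by
    have hle2 : ∀ t : G, orderOf t = 2 → t ≠ z → Nat.card (Fs t) * Nat.card (Fs t) ≤ N := by
      intro t ht htz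
      obtain ⟨ht1, htt⟩ := hinv t ht
      obtain ⟨s, hs, hsz, hst', hstz⟩ := hthird t ht htz
      obtain ⟨hs1, hss⟩ := hinv s hs
      obtain ⟨hsz2, hszz, hszs⟩ := hIz s hs hsz
      obtain ⟨hsz1, -⟩ := hinv (s * z) hsz2
      have h1 := hle s t hs1 ht1 hst'
      have hszt : s * z ≠ t := by
        intro h
        apply hstz
        calc s = (s * z) * z := by rw [mul_assoc, hzz, mul_one]
          _ = t * z := by rw [h]
      have h2 := hle (s * z) t hsz1 ht1 hszt
      have h3 := hprod s hss
      -- a_s * a_sz = N, a_s * a_t ≤ N, a_sz * a_t ≤ N  ⇒ a_t^2 ≤ N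
      have h4 : (Nat.card (Fs s) * Nat.card (Fs t)) * (Nat.card (Fs (s * z)) * Nat.card (Fs t))
          ≤ N * N := Nat.mul_le_mul h1 h2
      have h5 : (Nat.card (Fs s) * Nat.card (Fs t)) * (Nat.card (Fs (s * z)) * Nat.card (Fs t))
          = N * (Nat.card (Fs t) * Nat.card (Fs t)) := by
        rw [← h3]; ring
      rw [h5] at h4
      exact Nat.le_of_mul_le_mul_left h4 hNpos
    intro t ht htz
    obtain ⟨ht1, htt⟩ := hinv t ht
    obtain ⟨htz2, htzz, htzt⟩ := hIz t ht htz
    have h1 := hle2 t ht htz
    have h2 := hle2 (t * z) htz2 htzz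
    have h3 := hprod t htt
    by_contra hne
    have hlt : Nat.card (Fs t) * Nat.card (Fs t) < N := lt_of_le_of_ne h1 hne
    have h4 : (Nat.card (Fs t) * Nat.card (Fs t)) * (Nat.card (Fs (t * z)) * Nat.card (Fs (t * z)))
        < N * N := by
      apply Nat.mul_lt_mul_of_lt_of_le hlt h2 hNpos
    have h5 : (Nat.card (Fs t) * Nat.card (Fs t)) * (Nat.card (Fs (t * z)) * Nat.card (Fs (t * z)))
        = N * N := by
      rw [← h3]; ring
    rw [h5] at h4
    exact lt_irrefl _ h4
  -- non-central involutions are exactly the involutions other than z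
  have hnc : ∀ g : G, (orderOf g = 2 ∧ g ∉ Subgroup.center G) ↔ (orderOf g = 2 ∧ g ≠ z) := by
    intro g
    constructor
    · rintro ⟨h1, h2⟩
      exact ⟨h1, fun h => h2 (h ▸ hzc)⟩
    · rintro ⟨h1, h2⟩
      refine ⟨h1, fun hc => h2 ?_⟩
      apply hρ
      ext v
      rw [hcentral g hc h1, hzv]
  rw [Nat.card_congr (Equiv.subtypeEquivRight hnc)]
  -- the partition of the non-zero vectors
  haveI : Fintype {t : G // orderOf t = 2 ∧ t ≠ z} := Fintype.ofFinite _
  have hsum : N - 1 = ∑ t : {t : G // orderOf t = 2 ∧ t ≠ z}, (Nat.card (Fs t.1) - 1) := by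
    have h1 : Nat.card {v : V // v ≠ 0} = N - 1 := by
      have := Nat.card_congr (Equiv.optionSubtypeNe (0 : V))
      rw [Finite.card_option] at this
      rw [hN, ← this]; simp
    have h2 : ∀ t : G, Nat.card {v : V // ρ t v = v ∧ v ≠ 0} = Nat.card (Fs t) - 1 := by
      intro t
      have e : {v : V // ρ t v = v ∧ v ≠ 0} ≃ {x : Fs t // x ≠ 0} :=
        { toFun := fun v => ⟨⟨v.1, (hmemF t v.1).mpr v.2.1⟩, fun h => v.2.2 (congrArg Subtype.val h)⟩
          invFun := fun x => ⟨x.1.1, (hmemF t x.1.1).mp x.1.2, fun h => x.2 (Subtype.ext h)⟩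
          left_inv := fun v => rfl
          right_inv := fun x => rfl }
      rw [Nat.card_congr e]
      have := Nat.card_congr (Equiv.optionSubtypeNe (0 : Fs t))
      rw [Finite.card_option] at this
      rw [← this]; simp
    rw [← h1]
    simp_rw [← h2]
    rw [← Nat.card_sigma]
    apply Nat.card_congr
    symm
    refine Equiv.ofBijective
      (fun p : (Σ t : {t : G // orderOf t = 2 ∧ t ≠ z}, {v : V // ρ t.1 v = v ∧ v ≠ 0}) =>
        (⟨p.2.1, p.2.2.2⟩ : {v : V // v ≠ 0})) ⟨?_, ?_⟩
    · rintro ⟨⟨t, ht, htz⟩, ⟨v, hv, hv0⟩⟩ ⟨⟨t', ht', htz'⟩, ⟨v', hv', hv0'⟩⟩ h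
      simp only [Subtype.mk.injEq] at h
      subst h
      have htt' : t = t' := by
        by_contra hne
        exact hthree v hv0 t t' (hinv t ht).1 (hinv t' ht').1 hne hv hv'
      subst htt'
      rfl
    · rintro ⟨v, hv0⟩
      obtain ⟨t, ht1, htv, htall⟩ := hst v hv0
      have htt : t * t = 1 := by
        have h1 : ρ (t * t) v = v := by rw [hmul, htv, htv]
        rcases htall (t * t) h1 with h | h
        · exact h
        · exfalso
          apply ht1
          calc t = t⁻¹ * (t * t) := by group
            _ = t⁻¹ * t := by rw [h]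
            _ = 1 := by group
      have hto : orderOf t = 2 := orderOf_eq_prime (by rw [pow_two]; exact htt) ht1
      have htz : t ≠ z := by
        intro h
        rw [h, hzv] at htv
        exact hv0 (h2cancel _ (by nth_rewrite 1 [← htv]; abel))
      exact ⟨⟨⟨t, hto, htz⟩, ⟨v, htv, hv0⟩⟩, rfl⟩
  -- pick one involution
  obtain ⟨v₀, hv₀⟩ := exists_ne (0 : V)
  obtain ⟨t₀, ht₀1, ht₀v, ht₀all⟩ := hst v₀ hv₀
  have ht₀t : t₀ * t₀ = 1 := by
    have h1 : ρ (t₀ * t₀) v₀ = v₀ := by rw [hmul, ht₀v, ht₀v]
    rcases ht₀all (t₀ * t₀) h1 with h | h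
    · exact h
    · exfalso
      apply ht₀1
      calc t₀ = t₀⁻¹ * (t₀ * t₀) := by group
        _ = t₀⁻¹ * t₀ := by rw [h]
        _ = 1 := by group
  have ht₀o : orderOf t₀ = 2 := orderOf_eq_prime (by rw [pow_two]; exact ht₀t) ht₀1
  have ht₀z : t₀ ≠ z := by
    intro h
    rw [h, hzv] at ht₀v
    exact hv₀ (h2cancel _ (by nth_rewrite 1 [← ht₀v]; abel))
  have hcardF : Nat.card (Fs t₀) = q ^ Module.finrank (ZMod q) (Fs t₀) := by
    rw [Module.natCard_eq_pow_finrank (K := ZMod q) (V := Fs t₀), Nat.card_zmod]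
  set r := Module.finrank (ZMod q) (Fs t₀) with hr
  have hNr : N = q ^ (2 * r) := by
    rw [← hsq t₀ ht₀o ht₀z, hcardF, ← pow_add, two_mul]
  refine ⟨r, hNr, ?_⟩
  have hall : ∀ t : {t : G // orderOf t = 2 ∧ t ≠ z}, Nat.card (Fs t.1) = q ^ r := by
    intro t
    have h1 := hsq t.1 t.2.1 t.2.2
    have h2 : q ^ r * q ^ r = N := by rw [hNr, ← pow_add, two_mul]
    rw [← h2] at h1
    exact Nat.mul_self_inj.mp h1
  simp_rw [hall] at hsum
  rw [Finset.sum_const, Finset.card_univ, smul_eq_mul, ← Nat.card_eq_fintype_card] at hsum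
  have hqr2 : 2 ≤ q ^ r := by
    rw [← hcardF]; exact htwo' t₀ ht₀t ht₀z
  have h3 : N - 1 = (q ^ r + 1) * (q ^ r - 1) := by
    rw [hNr, two_mul, pow_add]
    have : q ^ r * q ^ r - 1 = (q ^ r + 1) * (q ^ r - 1) := by
      have h4 : q ^ r = (q ^ r - 1) + 1 := by omega
      set m := q ^ r - 1 with hm
      rw [h4]
      have : (m + 1) * (m + 1) - 1 = (m + 1 + 1) * m := by
        have : (m + 1) * (m + 1) = (m + 1 + 1) * m + 1 := by ring
        omega
      rw [this]
    exact this
  rw [h3] at hsum
  have h5 : 0 < q ^ r - 1 := by omega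
  exact (Nat.eq_of_mul_eq_mul_right h5 hsum).symm

end Cfsg.Agent.S3381
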