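import Cfsg.Statements.S1896
-- import your own Cfsg.Agent.* helpers here
import Cfsg.Agent.Lib.Helper1.MetacyclicTwoEnd

set_option autoImplicit false
open Cfsg

namespace Cfsg.Agent.S1896

/-- A finite metacyclic 2-group whose automorphism group is not a 2-group is isomorphic to the quaternion group of order 8 or to a homocyclic abelian group Z_{2^n} × Z_{2^n}. -/
theorem result {X : Type*} [Group X] [Finite X] (hX : IsPGroup 2 X)
    (hm : Cfsg.IsMetacyclic X) (hA : ¬ IsPGroup 2 (MulAut X)) :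
    Nonempty (X ≃* QuaternionGroup 2) ∨
      ∃ n : ℕ, Nonempty (X ≃* Multiplicative (ZMod (2 ^ n)) × Multiplicative (ZMod (2 ^ n))) := by
  have hfin : Finite (MulAut X) := inferInstance
  obtain ⟨g, hg⟩ : ∃ g : MulAut X, ∀ k : ℕ, g ^ 2 ^ k ≠ 1 := by
    by_contra h
    push Not at h
    exact hA h
  have ho : orderOf g ≠ 0 := (orderOf_pos g).ne'
  obtain ⟨q, hqp, hqd, hq2⟩ : ∃ q, q.Prime ∧ q ∣ orderOf g ∧ q ≠ 2 := by
    by_contra h
    push Not at h
    have h1 := Nat.eq_prime_pow_of_unique_prime_dvd ho (p := 2) (fun {d} hd hdvd => h d hd hdvd)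
    apply hg (orderOf g).primeFactorsList.length
    rw [← h1]
    exact pow_orderOf_eq_one g
  have : Fact q.Prime := ⟨hqp⟩
  have hαo : orderOf (g ^ (orderOf g / q)) = q := orderOf_pow_orderOf_div ho hqd
  have hα : (g ^ (orderOf g / q)) ^ q = 1 := by
    have := pow_orderOf_eq_one (g ^ (orderOf g / q))
    rwa [hαo] at this
  have hα1 : g ^ (orderOf g / q) ≠ 1 := by
    intro h
    rw [h, orderOf_one] at hαo
    exact hqp.one_lt.ne hαo
  exact Cfsg.Agent.Lib.Helper1.metacyclic_two_of_aut hX hm _ hq2 hα hα1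

end Cfsg.Agent.S1896
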