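import Cfsg.Statements.S1241
import Cfsg.Agent.Lib.Helper8.TransferMod

set_option autoImplicit false
open Cfsg

namespace Cfsg.Agent.S1241

/-- Let G be a finite group, p a prime, H a subgroup of index prime to p, K a subgroup of H normal in H with H/K commutative, and g ∈ H ∖ K an element of p-power order such that for all integers m and all a ∈ G with a g^m a⁻¹ ∈ H one has a g^m a⁻¹ ∈ g^m K. Then g ∉ G'. -/
theorem result {G : Type*} [Group G] [Finite G] {p : ℕ} [Fact p.Prime] (H K : Subgroup G) (hHK : K ≤ H) (hKn : (K.subgroupOf H).Normal) (hab : ∀ x ∈ H, ∀ y ∈ H, x * y * x⁻¹ * y⁻¹ ∈ K) (hidx : Nat.Coprime p H.index) (g : G) (hgH : g ∈ H) (hgK : g ∉ K) (hgp : ∃ k : ℕ, orderOf g = p ^ k) (hctrl : ∀ (m : ℤ) (a : G), a * g ^ m * a⁻¹ ∈ H → (a * g ^ m * a⁻¹) * (g ^ m)⁻¹ ∈ K) : g ∉ commutator G := by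
  open Cfsg.Agent.Lib.Helper8 in
  intro hgG
  haveI := hKn
  -- the commutative quotient H / K
  letI instA : CommGroup (↥H ⧸ K.subgroupOf H) :=
    { (inferInstance : Group (↥H ⧸ K.subgroupOf H)) with
      mul_comm := by
        intro a b
        obtain ⟨x, rfl⟩ := QuotientGroup.mk_surjective a
        obtain ⟨y, rfl⟩ := QuotientGroup.mk_surjective b
        rw [← QuotientGroup.mk_mul, ← QuotientGroup.mk_mul, QuotientGroup.eq]
        rw [Subgroup.mem_subgroupOf]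
        have := hab y⁻¹ (H.inv_mem y.2) x⁻¹ (H.inv_mem x.2)
        have e : ((x * y)⁻¹ * (y * x) : H) = ((y : H)⁻¹ * (x : H)⁻¹ * ((y : H)⁻¹)⁻¹ * ((x : H)⁻¹)⁻¹) := by
          group
        rw [e]
        simpa using this }
  let ϕ : ↥H →* (↥H ⧸ K.subgroupOf H) := QuotientGroup.mk' (K.subgroupOf H)
  have hfi : H.FiniteIndex := inferInstance
  have key : ∀ (k : ℕ) (g₀ : G) (hk : g₀⁻¹ * g ^ k * g₀ ∈ H),
      ϕ ⟨g₀⁻¹ * g ^ k * g₀, hk⟩ = ϕ ⟨g, hgH⟩ ^ k := by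
    intro k g₀ hk
    rw [← map_pow]
    show (QuotientGroup.mk _ : ↥H ⧸ K.subgroupOf H) = QuotientGroup.mk _
    rw [QuotientGroup.eq, Subgroup.mem_subgroupOf]
    have h1 := hctrl (k : ℤ) g₀⁻¹ (by simpa using hk)
    simp only [zpow_natCast, inv_inv] at h1
    -- h1 : g₀⁻¹ * g^k * g₀ * (g^k)⁻¹ ∈ K ; want (g₀⁻¹ g^k g₀)⁻¹ * g^k ∈ K
    have h2 := K.inv_mem h1
    -- conj by g^k ∈ H
    have hgk : (⟨g ^ k, H.pow_mem hgH k⟩ : H) ∈ (⊤ : Subgroup H) := Subgroup.mem_top _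
    have h3 : (⟨(g₀⁻¹ * g ^ k * g₀ * (g ^ k)⁻¹)⁻¹, H.inv_mem (H.mul_mem hk (H.inv_mem (H.pow_mem hgH k)))⟩ : H)
        ∈ K.subgroupOf H := by
      rw [Subgroup.mem_subgroupOf]; exact h2
    have h4 := hKn.conj_mem _ h3 (⟨g ^ k, H.pow_mem hgH k⟩ : H)⁻¹
    rw [Subgroup.mem_subgroupOf] at h4
    have e : ((⟨g₀⁻¹ * g ^ k * g₀, hk⟩ : H)⁻¹ * (⟨g, hgH⟩ : H) ^ k : H) =
        (⟨g ^ k, H.pow_mem hgH k⟩ : H)⁻¹ *
          (⟨(g₀⁻¹ * g ^ k * g₀ * (g ^ k)⁻¹)⁻¹, H.inv_mem (H.mul_mem hk (H.inv_mem (H.pow_mem hgH k)))⟩ : H) *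
          ((⟨g ^ k, H.pow_mem hgH k⟩ : H)⁻¹)⁻¹ := by
      apply Subtype.ext
      simp only [Subgroup.coe_mul, Subgroup.coe_inv, Subgroup.coe_pow]
      group
    rw [e]; exact h4
  have h5 := transfer_eq_pow_mod ϕ g hgH key
  have h6 : MonoidHom.transfer ϕ g = 1 :=
    MonoidHom.mem_ker.mp (Abelianization.commutator_subset_ker (MonoidHom.transfer ϕ) hgG)
  rw [h6] at h5
  -- so g ^ index ∈ K
  have h7 : g ^ H.index ∈ K := by
    have : ϕ (⟨g, hgH⟩ ^ H.index) = 1 := by rw [map_pow]; exact h5.symm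
    have h8 := (QuotientGroup.eq_one_iff _).mp this
    rw [Subgroup.mem_subgroupOf] at h8
    simpa using h8
  obtain ⟨k, hk⟩ := hgp
  have hcop : Nat.Coprime H.index (orderOf g) := by
    rw [hk]
    exact (Nat.Coprime.pow_left k hidx).symm
  obtain ⟨m, hm⟩ := exists_pow_eq_self_of_coprime hcop
  apply hgK
  rw [← hm]
  exact K.pow_mem h7 m

end Cfsg.Agent.S1241
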