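import Cfsg.Statements.S1978
import Cfsg.Agent.Lib.Helper12.KInfMax
import Cfsg.Agent.Lib.Helper12.KInf
import Cfsg.Agent.S1976
-- import your own Cfsg.Agent.* helpers here

set_option autoImplicit false
open Cfsg

namespace Cfsg.Agent.S1978

theorem centralizer_sSup_le {P : Type*} [Group P] [Finite P] (F : Set (Subgroup P)) (hne : F.Nonempty)
    (hF : ∀ B ∈ F, (∀ C ∈ F, B ≤ C → C = B) → Subgroup.centralizer (B : Set P) ≤ B) :
    Subgroup.centralizer ((sSup F : Subgroup P) : Set P) ≤ sSup F := by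
  obtain ⟨B, hB⟩ := (Set.toFinite F).exists_maximal hne
  have hBF : B ∈ F := hB.prop
  have hmax : ∀ C ∈ F, B ≤ C → C = B := fun C hC hBC => le_antisymm (hB.le_of_ge hC hBC) hBC
  have h1 := hF B hBF hmax
  have h2 : B ≤ sSup F := le_sSup hBF
  exact le_trans (Subgroup.centralizer_le h2) (le_trans h1 h2)

/-- Let P be a finite p-group. Each of the two K-infinity subgroups of P contains its own centralizer in P, which in turn contains Z(P); in particular both are nontrivial when P is. -/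
theorem result {P : Type*} [Group P] [Finite P] {p : ℕ} [Fact p.Prime] (hP : IsPGroup p P) : Subgroup.centralizer (Cfsg.kInfLower P : Set P) ≤ Cfsg.kInfLower P ∧ Subgroup.center P ≤ Subgroup.centralizer (Cfsg.kInfLower P : Set P) ∧ Subgroup.centralizer (Cfsg.kInfUpper P : Set P) ≤ Cfsg.kInfUpper P ∧ Subgroup.center P ≤ Subgroup.centralizer (Cfsg.kInfUpper P : Set P) := by
  have hbot : ∀ Q : Subgroup P, (⊥ : Subgroup P) ∈ Cfsg.kLowerStarFamily Q ∧
      (⊥ : Subgroup P) ∈ Cfsg.kUpperStarFamily Q := by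
    intro Q
    have hcomm : IsMulCommutative ↥(⊥ : Subgroup P) := ⟨⟨fun a b => Subsingleton.elim _ _⟩⟩
    have := Cfsg.Agent.Lib.Helper12.normal_abelian_mem_families (⊥ : Subgroup P) hcomm
    exact ⟨this.2.1 Q, this.2.2 Q⟩
  refine ⟨?_, Subgroup.center_le_centralizer _, ?_, Subgroup.center_le_centralizer _⟩
  · have h0 : Subgroup.centralizer ((Cfsg.kSeqEven P 0 : Subgroup P) : Set P) ≤ Cfsg.kSeqEven P 0 := by
      apply centralizer_sSup_le _ ⟨⊥, (hbot _).1⟩
      intro B hB hmax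
      exact Cfsg.Agent.Lib.Helper12.centralizer_le_of_max_lowerStar hP _ B hB hmax
    have h1 : Cfsg.kSeqEven P 0 ≤ Cfsg.kInfLower P := le_iSup (Cfsg.kSeqEven P) 0
    exact le_trans (Subgroup.centralizer_le h1) (le_trans h0 h1)
  · obtain ⟨n, hn⟩ := Cfsg.Agent.S1976.result hP
    have h1 : Cfsg.kInfUpper P = Cfsg.kSeqOdd P (n + 1) := ((hn (n + 1) (Nat.le_succ n)).2).symm
    rw [h1]
    show Subgroup.centralizer ((sSup (Cfsg.kUpperStarFamily (sSup (Cfsg.kLowerStarFamily (Cfsg.kSeqOdd P n)))) : Subgroup P) : Set P) ≤ _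
    apply centralizer_sSup_le _ ⟨⊥, (hbot _).2⟩
    intro B hB hmax
    exact Cfsg.Agent.Lib.Helper12.centralizer_le_of_max_upperStar hP _ B hB hmax

end Cfsg.Agent.S1978
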