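import Cfsg.Statements.S1979
import Cfsg.Agent.Lib.Helper12.KInfSub
-- import your own Cfsg.Agent.* helpers here

set_option autoImplicit false
open Cfsg

namespace Cfsg.Agent.S1979

/-- Let P be a finite p-group and Q a subgroup of P containing every term of the K-sequence of P of nonnegative index (every even-indexed term and every odd-indexed term after the initial term P). Then the K-infinity subgroups of Q, computed in Q and viewed in P, equal those of P. -/
theorem result {P : Type*} [Group P] [Finite P] {p : ℕ} [Fact p.Prime] (hP : IsPGroup p P) (Q : Subgroup P) (hQ : ∀ n : ℕ, Cfsg.kSeqEven P n ≤ Q ∧ Cfsg.kSeqOdd P (n + 1) ≤ Q) : (Cfsg.kInfLower ↥Q).map Q.subtype = Cfsg.kInfLower P ∧ (Cfsg.kInfUpper ↥Q).map Q.subtype = Cfsg.kInfUpper P := by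
  have hI := Cfsg.Agent.Lib.Helper12.kSeq_interleave Q hQ
  constructor
  · unfold Cfsg.kInfLower
    rw [Subgroup.map_iSup]
    apply le_antisymm
    · apply iSup_le
      intro n
      exact le_trans (hI n).2.2 (le_iSup (Cfsg.kSeqEven P) (n + 1))
    · apply iSup_le
      intro n
      exact le_trans (hI n).2.1 (le_iSup (fun n => (Cfsg.kSeqEven ↥Q n).map Q.subtype) n)
  · unfold Cfsg.kInfUpper
    rw [Subgroup.map_iInf _ Q.subtype_injective]
    apply le_antisymm
    · apply le_iInf
      intro n
      exact le_trans (iInf_le (fun n => (Cfsg.kSeqOdd ↥Q n).map Q.subtype) n) (hI n).1.2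
    · apply le_iInf
      intro n
      exact le_trans (iInf_le (Cfsg.kSeqOdd P) (n + 1)) (hI n).1.1

end Cfsg.Agent.S1979
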