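import Cfsg.Statements.S0948
import Cfsg.Agent.Lib.Lead.KleinBlock3

set_option autoImplicit false
open Cfsg

namespace Cfsg.Agent.S0948

/-- Let the finite group G have a Sylow 2-subgroup P that is a Klein four-group, suppose all involutions of G are conjugate, and fix a maximal ideal M of the algebraic integers containing 2. Then the principal block consists of exactly four irreducible characters, the principal character and ζ₂, ζ₃, ζ₄, and there is a sign ε such that for every involution z: ζ₂ z = 1, ζ₃ z = ε, ζ₄ z = -1; moreover ζ₂ 1 ≡ 1, ζ₃ 1 ≡ ε, ζ₄ 1 ≡ -1 (mod 4), and 1 + ζ₂ y + ε ζ₃ y - ζ₄ y = 0 for every y of odd order. -/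
theorem result {G : Type*} [Group G] [Finite G] (M : Ideal Cfsg.AlgInt) (hM : Cfsg.IsPModular 2 M) (P : Sylow 2 G) (hP : IsKleinFour (P : Subgroup G)) (hone : ∀ s t : G, orderOf s = 2 → orderOf t = 2 → IsConj s t) : ∃ ζ₂ ζ₃ ζ₄ : Cfsg.IrrCharacter G, ∃ ε : ℤ, (ε = 1 ∨ ε = -1) ∧ (ζ₂ : G → ℂ) ≠ (fun _ => 1) ∧ (ζ₃ : G → ℂ) ≠ (fun _ => 1) ∧ ζ₂ ≠ ζ₃ ∧ ζ₂ ≠ ζ₄ ∧ ζ₃ ≠ ζ₄ ∧ Cfsg.principalBlock M G = {χ : Cfsg.IrrCharacter G | (χ : G → ℂ) = (fun _ => 1) ∨ χ = ζ₂ ∨ χ = ζ₃ ∨ χ = ζ₄} ∧ (∀ z : G, orderOf z = 2 → (ζ₂ : G → ℂ) z = 1 ∧ (ζ₃ : G → ℂ) z = (ε : ℂ) ∧ (ζ₄ : G → ℂ) z = -1) ∧ (4 : ℤ) ∣ (Cfsg.charDegree (ζ₂ : G → ℂ) : ℤ) - 1 ∧ (4 : ℤ) ∣ (Cfsg.charDegree (ζ₃ : G → ℂ) : ℤ) - ε ∧ (4 : ℤ) ∣ (Cfsg.charDegree (ζ₄ : G → ℂ) : ℤ) + 1 ∧ ∀ y : G, Odd (orderOf y) → 1 + (ζ₂ : G → ℂ) y + (ε : ℂ) * (ζ₃ : G → ℂ) y - (ζ₄ : G → ℂ) y = 0 := by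
  obtain ⟨z₀, -, hz₀P, -, hz₀1, -, -, -⟩ := Cfsg.Agent.Lib.Helper2.klein_exists_gens P hP
  have hz₀2 : orderOf z₀ = 2 := Cfsg.Agent.Lib.Helper2.klein_orderOf P hP hz₀P hz₀1
  obtain ⟨a, b, c, ε, hε, ha1, hb1, hc1, hab, hac, hbc, hmem, haz, hbz, hcz, h4a, h4b, h4c, hy⟩ :=
    Cfsg.Agent.CharLib.klein_principal_block_aux hM P hP hone z₀ hz₀P hz₀1
  have htriv : ∀ χ : Cfsg.IrrCharacter G, (χ : G → ℂ) = (fun _ => 1) ↔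
      χ = Cfsg.Agent.CharLib.trivIrr G := by
    intro χ
    constructor
    · intro h
      exact Subtype.ext h
    · intro h
      rw [h]
      rfl
  have hcl : ∀ (χ : Cfsg.IrrCharacter G) (z : G), orderOf z = 2 →
      (χ : G → ℂ) z = (χ : G → ℂ) z₀ := by
    intro χ z hz
    exact Cfsg.Agent.CharLib.apply_eq_of_isConj
      (Cfsg.Agent.CharLib.IsCharacter.isClassFunction
        (Cfsg.Agent.CharLib.IsIrrCharacter.isCharacter χ.2)) (hone z z₀ hz hz₀2)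
  refine ⟨a, b, c, ε, hε, fun h => ha1 ((htriv a).mp h), fun h => hb1 ((htriv b).mp h), hab, hac,
    hbc, ?_, ?_, h4a, h4b, h4c, hy⟩
  · ext χ
    rw [hmem χ, Set.mem_setOf_eq, htriv χ]
  · intro z hz
    rw [hcl a z hz, hcl b z hz, hcl c z hz]
    exact ⟨haz, hbz, hcz⟩

end Cfsg.Agent.S0948
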