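import Cfsg.Statements.S1969
-- import your own Cfsg.Agent.* helpers here
import Cfsg.Agent.Lib.Helper12.FusionConvert

set_option autoImplicit false
universe u
open Cfsg

namespace Cfsg.Agent.S1969

/-- Let p be a prime, G a finite group and W an isomorphism-invariant p-group functor (W assigns to every group Q a subgroup W(Q), nontrivial whenever Q is a nontrivial finite p-group, and every isomorphism from a finite p-group Q onto a group R carries W(Q) onto W(R)). Suppose that W(S*) is normal in G* whenever G* = K/R is a section of G with C_{G*}(O_p(G*)) ≤ O_p(G*) and S* is a Sylow p-subgroup of G*. Then W controls strong fusion in every section of G: for every section K/R and every Sylow p-subgroup T of K/R, the subgroup W(T) controls strong fusion in K/R. -/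
theorem result {G : Type u} [Group G] [Finite G] {p : ℕ} [Fact p.Prime] (W : ∀ (Q : Type u) [Group Q], Subgroup Q) (hW : Cfsg.IsCharPFunctor.{u} p W) (hloc : ∀ (K R : Subgroup G) [hR : (R.subgroupOf K).Normal], Subgroup.centralizer ((Cfsg.pCore p (↥K ⧸ R.subgroupOf K) : Subgroup (↥K ⧸ R.subgroupOf K)) : Set (↥K ⧸ R.subgroupOf K)) ≤ Cfsg.pCore p (↥K ⧸ R.subgroupOf K) → ∀ T : Sylow p (↥K ⧸ R.subgroupOf K), (Cfsg.inducedFunctor (G := (↥K ⧸ R.subgroupOf K)) W ((T : Subgroup (↥K ⧸ R.subgroupOf K)))).Normal) : ∀ (K R : Subgroup G) [hR : (R.subgroupOf K).Normal], ∀ T : Sylow p (↥K ⧸ R.subgroupOf K), Cfsg.ControlsStrongFusion p (Cfsg.inducedFunctor (G := (↥K ⧸ R.subgroupOf K)) W ((T : Subgroup (↥K ⧸ R.subgroupOf K)))) := by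
  classical
  set 𝓦 : Set (∀ (Q : Type u) [Group Q], Subgroup Q) := {W} with h𝓦def
  have h𝓦 : ∀ W' ∈ 𝓦, Cfsg.IsCharPFunctor.{u} p W' := by
    intro W' hW'
    have : W' = W := hW'
    rw [this]
    exact hW
  have hΦ : ∀ (Q Q' : Type u) [Group Q] [Group Q'], (Q ≃* Q') →
      (Finite Q → Cfsg.Agent.Lib.Helper12.FamFusHyp p 𝓦 Q) →
      (Finite Q' → Cfsg.Agent.Lib.Helper12.FamFusHyp p 𝓦 Q') := by
    intro Q Q' _ _ e h hfin
    haveI : Finite Q := Finite.of_equiv Q' e.symm.toEquiv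
    exact Cfsg.Agent.Lib.Helper12.famFusHyp_of_equiv 𝓦 h𝓦 e (h inferInstance)
  have hgood : Cfsg.Agent.Lib.Helper12.AllSections
      (fun Q _ => Finite Q → Cfsg.Agent.Lib.Helper12.FamFusHyp p 𝓦 Q) G := by
    intro K' R' _ _ hC
    obtain ⟨T'⟩ : Nonempty (Sylow p (↥K' ⧸ R'.subgroupOf K')) := inferInstance
    apply Cfsg.Agent.Lib.Helper12.familyControlsStrongFusionIn_top_of_fctl _ T'
    intro A x hA hAx
    have hn := hloc K' R' hC T'
    refine Cfsg.Agent.Lib.Helper12.FCtl.single (Cfsg.inducedFunctor W) ⟨W, rfl, rfl⟩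
      (Subgroup.mem_inf.mpr ⟨Subgroup.mem_top _, ?_⟩) hA hAx
    rw [Subgroup.normalizer_eq_top_iff.mpr hn]
    trivial
  intro K R hR T
  have hgoodQ := Cfsg.Agent.Lib.Helper12.AllSections.section _ hΦ hgood K R
  have hmain := Cfsg.Agent.Lib.Helper12.familyControlsStrongFusionIn_top_of_famFusHyp 𝓦 h𝓦 _
    (↥K ⧸ R.subgroupOf K) rfl hgoodQ
  have hfam := Cfsg.Agent.Lib.Helper12.isConjugacyFunctor_inducedFamily 𝓦 h𝓦 (↥K ⧸ R.subgroupOf K)
  have hidx : ¬ p ∣ (T : Subgroup (↥K ⧸ R.subgroupOf K)).relIndex ⊤ := by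
    rw [Subgroup.relIndex_top_right]; exact T.not_dvd_index
  refine ⟨T, (Cfsg.Agent.Lib.Helper12.isConjugacyFunctor_induced W hW (↥K ⧸ R.subgroupOf K)
    (T : Subgroup (↥K ⧸ R.subgroupOf K)) T.2).1,
    fun A hA => ⟨hA, fun g hg => ?_⟩⟩
  obtain ⟨c, hc, hag⟩ := Cfsg.Agent.Lib.Helper12.familyControlsStrongFusionIn_sylow _ hfam hmain
    le_top T.2 hidx A g (Subgroup.mem_top _) hA hg
  refine ⟨c, hc.mem_of_normalizer_le _ ?_, fun a ha => (hag a ha).symm⟩
  intro W'' hW''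
  obtain ⟨W', hW', hWW⟩ := hW''
  have e : W' = W := hW'
  rw [← hWW, e]
  exact inf_le_right


end Cfsg.Agent.S1969
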