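/-
S2544 (helper6): the Steinberg character of `PSL_n(F)`.  The Steinberg function of the (B,N)-pair
of `GL_n(F)` (alternating sum of parabolic permutation characters) restricts irreducibly to
`SL_n(F)` because `GL_n = SL_n · T`; its centre acts trivially, so it deflates to `PSL_n(F)`;
it vanishes at the non-identity unitriangular matrices and has degree `|U|`.
-/
import Mathlib
import Cfsg.Statements.S2544
import Cfsg.Agent.Lib.Helper6.GLStB
import Cfsg.Agent.Lib.Helper13.SLSteinberg

set_option autoImplicit false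
open Cfsg

namespace Cfsg.Agent.S2544

open Matrix Equiv Cfsg.Agent.Lib.Helper3.BN Cfsg.Agent.Lib.Helper6.BNSt
  Cfsg.Agent.Lib.Helper6.GLBN Cfsg.Agent.Lib.Helper6.GLSt Cfsg.Agent.Lib.Helper18.PSLnAut

section aux

variable {n : ℕ} {F : Type*} [Field F]

theorem toGL_conj (g : GL (Fin n) F) (s : SpecialLinearGroup (Fin n) F) :
    ∃ s' : SpecialLinearGroup (Fin n) F,
      SpecialLinearGroup.toGL s' = g * SpecialLinearGroup.toGL s * g⁻¹ := by
  have hdet : ((g * SpecialLinearGroup.toGL s * g⁻¹ : GL (Fin n) F) :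
      Matrix (Fin n) (Fin n) F).det = 1 := by
    rw [← Matrix.GeneralLinearGroup.val_det_apply, map_mul, map_mul, map_inv, mul_comm,
      ← mul_assoc, inv_mul_cancel, one_mul, Matrix.GeneralLinearGroup.val_det_apply,
      SpecialLinearGroup.coe_GL_coe_matrix]
    exact s.2
  exact ⟨⟨_, hdet⟩, Units.ext rfl⟩

theorem GL_eq_SL_mul_diag (hn : 1 ≤ n) (g : GL (Fin n) F) :
    ∃ s : SpecialLinearGroup (Fin n) F, ∃ t ∈ (glBN n F).B ⊓ (glBN n F).N,
      g = SpecialLinearGroup.toGL s * t := by
  let i₀ : Fin n := ⟨0, by omega⟩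
  let c : Fin n → Fˣ := Function.update (fun _ => 1) i₀ (Matrix.GeneralLinearGroup.det g)
  have htdet : Matrix.GeneralLinearGroup.det (monoGL 1 c : GL (Fin n) F) =
      Matrix.GeneralLinearGroup.det g := by
    apply Units.ext
    rw [Matrix.GeneralLinearGroup.val_det_apply, coe_monoGL, ← diagonal_eq_mono, Matrix.det_diagonal]
    have : ∏ i, ((c i : Fˣ) : F) = ((∏ i, c i : Fˣ) : F) := by
      rw [Units.coe_prod]
    rw [this]
    congr 1
    show ∏ i, Function.update (fun _ => (1 : Fˣ)) i₀ (Matrix.GeneralLinearGroup.det g) i = _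
    rw [Finset.prod_update_of_mem (Finset.mem_univ i₀)]
    simp
  have hdet : ((g * (monoGL 1 c)⁻¹ : GL (Fin n) F) : Matrix (Fin n) (Fin n) F).det = 1 := by
    rw [← Matrix.GeneralLinearGroup.val_det_apply, map_mul, map_inv, htdet, mul_inv_cancel,
      Units.val_one]
  refine ⟨⟨_, hdet⟩, monoGL 1 c, ?_, ?_⟩
  · show monoGL 1 c ∈ Bup n F ⊓ monoSubgroup n F
    rw [Bup_inf_mono]
    exact ⟨c, rfl⟩
  · have : SpecialLinearGroup.toGL (⟨_, hdet⟩ : SpecialLinearGroup (Fin n) F) =
        g * (monoGL 1 c)⁻¹ := Units.ext rfl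
    rw [this]
    group

theorem toGL_center {z : SpecialLinearGroup (Fin n) F}
    (hz : z ∈ Subgroup.center (SpecialLinearGroup (Fin n) F)) :
    SpecialLinearGroup.toGL z ∈ Subgroup.center (GL (Fin n) F) ∧
      SpecialLinearGroup.toGL z ∈ (glBN n F).B := by
  obtain ⟨r, -, hr⟩ := Matrix.SpecialLinearGroup.mem_center_iff.mp hz
  constructor
  · rw [Subgroup.mem_center_iff]
    intro g
    apply Units.ext
    rw [Units.val_mul, Units.val_mul, SpecialLinearGroup.coe_GL_coe_matrix, ← hr]
    exact ((Matrix.scalar_commute r (fun r' => Commute.all r r')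
      (g : Matrix (Fin n) (Fin n) F))).symm.eq
  · show SpecialLinearGroup.toGL z ∈ Bup n F
    rw [mem_Bup]
    intro i j hji
    rw [SpecialLinearGroup.coe_GL_coe_matrix, ← hr, Matrix.scalar_apply,
      Matrix.diagonal_apply_ne _ (ne_of_gt hji)]

theorem unitri_inf_center [Finite F] (hn : 1 ≤ n) {u : SpecialLinearGroup (Fin n) F}
    (hu : u ∈ unitri n F) (hz : u ∈ Subgroup.center (SpecialLinearGroup (Fin n) F)) : u = 1 := by
  obtain ⟨r, -, hr⟩ := Matrix.SpecialLinearGroup.mem_center_iff.mp hz
  let i₀ : Fin n := ⟨0, by omega⟩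
  have h1 : r = 1 := by
    have := hu.2 i₀
    rw [← hr, Matrix.scalar_apply, Matrix.diagonal_apply_eq] at this
    exact this
  apply Matrix.SpecialLinearGroup.ext
  intro i j
  rw [← hr, h1, map_one]
  rfl

end aux

/-- Let F be a finite field of characteristic p and consider the projective special linear group PSL_n(F) with n ≥ 2. This group has an irreducible complex character χ whose degree equals the order of a Sylow p-subgroup (namely q^(n(n−1)/2) when #F = q) and whose restriction to any Sylow p-subgroup P is the regular character of P: χ vanishes on the non-identity elements of P. (This is the Steinberg character.) -/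
theorem result {F : Type*} [Field F] [Fintype F] (p : ℕ) [Fact p.Prime] [CharP F p] (n : ℕ) (hn : 2 ≤ n) : ∃ χ : Matrix.ProjectiveSpecialLinearGroup (Fin n) F → ℂ, Cfsg.IsIrrCharacter (Matrix.ProjectiveSpecialLinearGroup (Fin n) F) χ ∧ ∀ P : Sylow p (Matrix.ProjectiveSpecialLinearGroup (Fin n) F), χ 1 = Nat.card P ∧ ∀ x : Matrix.ProjectiveSpecialLinearGroup (Fin n) F, x ∈ P → x ≠ 1 → χ x = 0 := by
  classical
  have hn1 : 1 ≤ n := by omega
  -- the restriction of the Steinberg function to `SL_n`
  have hirr : IsIrrCharacter (SpecialLinearGroup (Fin n) F)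
      (fun s => stGL n F (SpecialLinearGroup.toGL s)) :=
    isIrrCharacter_stFun_hom (glBN n F) SpecialLinearGroup.toGL toGL_conj
      (GL_eq_SL_mul_diag hn1) (SfinGL n F) coe_SfinGL
  have hcen : ∀ z ∈ Subgroup.center (SpecialLinearGroup (Fin n) F),
      stGL n F (SpecialLinearGroup.toGL z) = stGL n F (SpecialLinearGroup.toGL 1) := by
    intro z hz
    obtain ⟨h1, h2⟩ := toGL_center hz
    rw [map_one]
    exact stFun_central (glBN n F) (SfinGL n F) h1 h2
  obtain ⟨χ, hχ, hχθ⟩ := Cfsg.Agent.Lib.Helper13.exists_deflate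
    (Subgroup.center (SpecialLinearGroup (Fin n) F)) hirr hcen
  refine ⟨χ, hχ, ?_⟩
  intro P
  have hcl : IsClassFunction _ χ :=
    Cfsg.Agent.CharLib.IsCharacter.isClassFunction (Cfsg.Agent.CharLib.IsIrrCharacter.isCharacter hχ)
  obtain ⟨y, hy⟩ := MulAction.exists_smul_eq (ProjectiveSpecialLinearGroup (Fin n) F)
    (sylowUb (F := F) p hn1) P
  -- `pi` is injective on the unitriangular group
  have hcardU : Nat.card (Ub n F) = Nat.card (unitri n F) := by
    show Nat.card ((unitri n F).map pi) = Nat.card (unitri n F)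
    symm
    apply Nat.card_congr
    refine Equiv.ofBijective ((pi (n := n) (F := F)).subgroupMap (unitri n F)) ⟨?_, ?_⟩
    · rw [← MonoidHom.ker_eq_bot_iff, eq_bot_iff]
      intro u hu
      rw [MonoidHom.mem_ker] at hu
      have h1 : pi (u : SpecialLinearGroup (Fin n) F) = 1 := congrArg Subtype.val hu
      rw [pi_eq_one_iff] at h1
      have := unitri_inf_center hn1 u.2 h1
      rw [Subgroup.mem_bot]
      exact Subtype.ext this
    · exact MonoidHom.subgroupMap_surjective _ _
  constructor
  · have h1 : χ 1 = stGL n F 1 := by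
      have := hχθ 1
      rw [map_one] at this
      exact this
    rw [h1, stGL_one, ← hcardU, ← coe_sylowUb p hn1]
    congr 1
    have e1 := Sylow.card_eq_multiplicity (sylowUb (F := F) p hn1)
    have e2 := Sylow.card_eq_multiplicity P
    exact e1.trans e2.symm
  · intro x hx hx1
    have hxP : x ∈ ((y • sylowUb (F := F) p hn1 : Sylow p _) : Subgroup _) := by rw [hy]; exact hx
    rw [Sylow.coe_subgroup_smul, Subgroup.mem_pointwise_smul_iff_inv_smul_mem, coe_sylowUb] at hxP
    obtain ⟨u, hu, hux⟩ := hxP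
    have hconj : (MulAut.conj y)⁻¹ • x = y⁻¹ * x * y := by
      rw [MulAut.smul_def, MulAut.conj_inv_apply]
    rw [hconj] at hux
    have hxu : x = y * pi u * y⁻¹ := by rw [hux]; group
    rw [hxu, hcl (pi u) y]
    have h2 : χ (pi u) = stGL n F (SpecialLinearGroup.toGL u) := hχθ u
    rw [h2]
    apply stGL_unipotent (toGL_mem_Bup hu)
    · intro i
      exact hu.2 i
    · intro h
      apply hx1
      have hu1 : u = 1 := by
        apply SpecialLinearGroup.toGL_injective
        rw [h, map_one]
      rw [hxu, hu1, map_one]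
      group

end Cfsg.Agent.S2544
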