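import Cfsg.Statements.S5648
import Mathlib
import Cfsg.Agent.Lib.Helper5.Symp

set_option autoImplicit false
open Cfsg

namespace Cfsg.Agent.S5648

section Aux
set_option linter.unusedSectionVars false
set_option linter.style.haveILetI false
namespace S5648aux
open Cfsg Matrix Cfsg.Agent.Lib.Helper5

section Decomp
variable {F V : Type*} [Field F] [AddCommGroup V] [Module F V] {ι : Type*} [Fintype ι] [DecidableEq ι]
  (D : ι → Submodule F V) (hInt : DirectSum.IsInternal D)

/-- the decomposition isomorphism -/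
noncomputable def Φ : (DirectSum ι fun i => D i) ≃ₗ[F] V :=
  LinearEquiv.ofBijective (DirectSum.coeLinearMap D) hInt

/-- components -/
noncomputable def comp (v : V) (i : ι) : V := (((Φ D hInt).symm v) i : V)

lemma comp_mem (v : V) (i : ι) : comp D hInt v i ∈ D i := Subtype.property _

lemma sum_comp (v : V) : ∑ i, comp D hInt v i = v := by
  have h1 : (Φ D hInt) ((Φ D hInt).symm v) = v := LinearEquiv.apply_symm_apply _ _
  conv_rhs => rw [← h1]
  conv_rhs => rw [← DirectSum.sum_univ_of ((Φ D hInt).symm v)]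
  rw [map_sum]
  apply Finset.sum_congr rfl
  intro i _
  change _ = DirectSum.coeLinearMap D _
  rw [DirectSum.coeLinearMap_of]
  rfl

lemma comp_add (u v : V) (i : ι) : comp D hInt (u + v) i = comp D hInt u i + comp D hInt v i := by
  unfold comp
  rw [map_add, DirectSum.add_apply, Submodule.coe_add]

lemma comp_zero (i : ι) : comp D hInt 0 i = 0 := by
  unfold comp
  rw [map_zero, DirectSum.zero_apply, Submodule.coe_zero]

lemma comp_sum {κ : Type*} (s : Finset κ) (g : κ → V) (i : ι) :
    comp D hInt (∑ k ∈ s, g k) i = ∑ k ∈ s, comp D hInt (g k) i := by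
  classical
  induction s using Finset.induction_on with
  | empty => simp [comp_zero]
  | insert a s ha ih => rw [Finset.sum_insert ha, Finset.sum_insert ha, comp_add, ih]

lemma comp_of_mem {x : V} {j : ι} (hx : x ∈ D j) (i : ι) :
    comp D hInt x i = if i = j then x else 0 := by
  have h1 : (Φ D hInt).symm x = DirectSum.of (fun i => D i) j ⟨x, hx⟩ := by
    rw [LinearEquiv.symm_apply_eq]
    change x = DirectSum.coeLinearMap D _
    rw [DirectSum.coeLinearMap_of]
  unfold comp
  rw [h1]
  by_cases hij : i = j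
  · subst hij
    rw [DirectSum.of_eq_same, if_pos rfl]
  · rw [DirectSum.of_eq_of_ne _ _ _ hij, if_neg hij, Submodule.coe_zero]

/-- uniqueness of components -/
lemma comp_eq_of_sum (a : ι → V) (ha : ∀ i, a i ∈ D i) (i : ι) :
    comp D hInt (∑ j, a j) i = a i := by
  rw [comp_sum]
  have : ∀ j ∈ Finset.univ, comp D hInt (a j) i = if i = j then a j else 0 :=
    fun j _ => comp_of_mem D hInt (ha j) i
  rw [Finset.sum_congr rfl this, Finset.sum_ite_eq Finset.univ i a]
  simp

end Decomp


section Two
variable {F : Type*} [Field F] [Fintype F] (hq : Fintype.card F = 2)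

include hq in
lemma eq_zero_or_one (c : F) : c = 0 ∨ c = 1 := by
  classical
  by_contra h
  push Not at h
  have h3 : ({0, 1, c} : Finset F).card ≤ Fintype.card F := Finset.card_le_univ _
  rw [hq, Finset.card_insert_of_notMem, Finset.card_insert_of_notMem, Finset.card_singleton] at h3
  · omega
  · simp [Ne.symm h.2]
  · simp [Ne.symm h.1]

include hq in
lemma one_add_one : (1 : F) + 1 = 0 := by
  rcases eq_zero_or_one hq ((1 : F) + 1) with h | h
  · exact h
  · exfalso
    have : (1 : F) = 0 := by linear_combination h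
    exact one_ne_zero this

include hq in
lemma neg_eq_self (c : F) : -c = c := by
  have := one_add_one hq
  linear_combination (-c) * this

include hq in
lemma add_self_vec {V : Type*} [AddCommGroup V] [Module F V] (x : V) : x + x = 0 := by
  rw [← two_smul F x]
  have : (2 : F) = 0 := by rw [← one_add_one_eq_two]; exact one_add_one hq
  rw [this, zero_smul]

end Two

section Form
variable {F : Type*} [Field F] {m : ℕ}

lemma sympForm_zero_right (z : Fin m ⊕ Fin m → F) : sympForm m F z 0 = 0 := by
  rw [sympForm_swap, sympForm_zero_left, neg_zero]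

lemma sympForm_sum_left {κ : Type*} (s : Finset κ) (g : κ → Fin m ⊕ Fin m → F)
    (z : Fin m ⊕ Fin m → F) :
    sympForm m F (∑ k ∈ s, g k) z = ∑ k ∈ s, sympForm m F (g k) z := by
  classical
  induction s using Finset.induction_on with
  | empty => simp [sympForm_zero_left]
  | insert a s ha ih => rw [Finset.sum_insert ha, Finset.sum_insert ha, sympForm_add_left, ih]

lemma sympForm_sum_right {κ : Type*} (s : Finset κ) (g : κ → Fin m ⊕ Fin m → F)
    (z : Fin m ⊕ Fin m → F) :
    sympForm m F z (∑ k ∈ s, g k) = ∑ k ∈ s, sympForm m F z (g k) := by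
  classical
  induction s using Finset.induction_on with
  | empty => simp [sympForm_zero_right]
  | insert a s ha ih => rw [Finset.sum_insert ha, Finset.sum_insert ha, sympForm_add_right, ih]

end Form

section Q
variable {F : Type*} [Field F] [Fintype F] {m : ℕ} (hq : Fintype.card F = 2)

open Classical in
/-- indicator of being non-zero -/
noncomputable def N (z : Fin m ⊕ Fin m → F) : F := if z = 0 then 0 else 1

lemma N_zero : N (0 : Fin m ⊕ Fin m → F) = 0 := by simp [N]

lemma N_of_ne {z : Fin m ⊕ Fin m → F} (hz : z ≠ 0) : N z = 1 := by simp [N, hz]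

include hq in
lemma N_add (W : Submodule F (Fin m ⊕ Fin m → F)) (hdim : Module.finrank F W = 2)
    (hnd : Geo.IsNondegenerateOn (sympForm m F) W) (x y : Fin m ⊕ Fin m → F) (hx : x ∈ W)
    (hy : y ∈ W) : N (x + y) = N x + N y + sympForm m F x y := by
  classical
  by_cases hx0 : x = 0
  · subst hx0; rw [zero_add, N_zero, sympForm_zero_left, zero_add, add_zero]
  by_cases hy0 : y = 0
  · subst hy0; rw [add_zero, N_zero, sympForm_zero_right, add_zero, add_zero]
  by_cases hxy : x = y
  · subst hxy
    rw [add_self_vec hq, N_zero, sympForm_self, N_of_ne hx0, one_add_one hq, add_zero]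
  have hxy0 : x + y ≠ 0 := by
    intro h
    apply hxy
    have : x = -y := eq_neg_of_add_eq_zero_left h
    rw [this]
    have h2 := add_self_vec hq y
    exact neg_eq_of_add_eq_zero_left h2
  rw [N_of_ne hxy0, N_of_ne hx0, N_of_ne hy0, one_add_one hq, zero_add]
  -- the four elements of W
  haveI : Fintype W := Fintype.ofFinite W
  have hcard : Fintype.card W = 4 := by
    rw [← Nat.card_eq_fintype_card, Module.natCard_eq_pow_finrank (K := F), hdim,
      Nat.card_eq_fintype_card, hq]
    norm_num
  set S : Finset W := {0, ⟨x, hx⟩, ⟨y, hy⟩, ⟨x + y, W.add_mem hx hy⟩} with hS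
  have hScard : S.card = 4 := by
    rw [hS, Finset.card_insert_of_notMem, Finset.card_insert_of_notMem,
      Finset.card_insert_of_notMem, Finset.card_singleton]
    · simp only [Finset.mem_singleton, Subtype.mk.injEq]
      intro h
      apply hx0
      have := congrArg (fun z => z - y) h
      simpa using this.symm
    · simp only [Finset.mem_insert, Finset.mem_singleton, Subtype.mk.injEq, not_or]
      refine ⟨hxy, fun h => hy0 ?_⟩
      have := congrArg (fun z => z - x) h
      simpa using this.symm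
    · simp only [Finset.mem_insert, Finset.mem_singleton, not_or]
      refine ⟨?_, ?_, ?_⟩
      · intro h; exact hx0 (congrArg Subtype.val h).symm
      · intro h; exact hy0 (congrArg Subtype.val h).symm
      · intro h; exact hxy0 (congrArg Subtype.val h).symm
  have hSuniv : S = Finset.univ := Finset.eq_univ_of_card S (by rw [hScard, hcard])
  obtain ⟨z, hz, hfz⟩ := (hnd x hx hx0).1
  have hzS : (⟨z, hz⟩ : W) ∈ S := by rw [hSuniv]; exact Finset.mem_univ _
  have hyx : sympForm m F y x ≠ 0 := by
    rw [hS] at hzS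
    simp only [Finset.mem_insert, Finset.mem_singleton] at hzS
    rcases hzS with h | h | h | h
    · have : z = 0 := congrArg Subtype.val h
      rw [this, sympForm_zero_left] at hfz; exact absurd rfl hfz
    · have : z = x := congrArg Subtype.val h
      rw [this, sympForm_self] at hfz; exact absurd rfl hfz
    · have : z = y := congrArg Subtype.val h
      rw [this] at hfz; exact hfz
    · have : z = x + y := congrArg Subtype.val h
      rw [this, sympForm_add_left, sympForm_self, zero_add] at hfz; exact hfz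
  rw [sympForm_swap, neg_eq_self hq]
  rcases eq_zero_or_one hq (sympForm m F y x) with h | h
  · exact absurd h hyx
  · exact h.symm

end Q


section Main
variable {F : Type*} [Field F] [Fintype F] {m : ℕ} (hq : Fintype.card F = 2) {t : ℕ}
  (D : Fin t → Submodule F (Fin m ⊕ Fin m → F))
  (hD : Geo.IsNondegenerateMDecomposition (sympForm m F) 2 D)
  (hI : DirectSum.IsInternal D)

/-- the quadratic form: parity of the number of non-zero components -/
noncomputable def Q (v : Fin m ⊕ Fin m → F) : F := ∑ i, N (comp D hI v i)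

include hq hD in
lemma Q_add (u v : Fin m ⊕ Fin m → F) :
    Q D hI (u + v) = Q D hI u + Q D hI v + sympForm m F u v := by
  have hform : sympForm m F u v = ∑ i, sympForm m F (comp D hI u i) (comp D hI v i) := by
    conv_lhs => rw [← sum_comp D hI u, ← sum_comp D hI v]
    rw [sympForm_sum_left]
    apply Finset.sum_congr rfl
    intro i _
    rw [sympForm_sum_right, Finset.sum_eq_single i]
    · intro j _ hji
      exact hD.orthogonal i j (Ne.symm hji) _ (comp_mem D hI u i) _ (comp_mem D hI v j)
    · intro h; exact absurd (Finset.mem_univ i) h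
  unfold Q
  rw [hform, ← Finset.sum_add_distrib, ← Finset.sum_add_distrib]
  apply Finset.sum_congr rfl
  intro i _
  rw [comp_add]
  exact N_add hq (D i) (hD.decomp.finrank_eq i) (hD.nondegenerate i) _ _ (comp_mem D hI u i)
    (comp_mem D hI v i)

lemma Q_of_mem {x : Fin m ⊕ Fin m → F} {j : Fin t} (hx : x ∈ D j) : Q D hI x = N x := by
  unfold Q
  rw [Finset.sum_eq_single j]
  · rw [comp_of_mem D hI hx, if_pos rfl]
  · intro i _ hij
    rw [comp_of_mem D hI hx, if_neg hij, N_zero]
  · intro h; exact absurd (Finset.mem_univ j) h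

lemma Q_zero : Q D hI 0 = 0 := by
  unfold Q
  apply Finset.sum_eq_zero
  intro i _
  rw [comp_zero, N_zero]

/-- the isometries of `Q` -/
noncomputable def Kq : Subgroup (GL (Fin m ⊕ Fin m) F) where
  carrier := {g | ∀ v, Q D hI ((g : Matrix (Fin m ⊕ Fin m) (Fin m ⊕ Fin m) F) *ᵥ v) = Q D hI v}
  mul_mem' := fun {a b} ha hb v => by rw [Units.val_mul, ← Matrix.mulVec_mulVec, ha, hb]
  one_mem' := fun v => by simp
  inv_mem' := fun {a} ha v => by
    have := ha (((a⁻¹ : GL (Fin m ⊕ Fin m) F) : Matrix (Fin m ⊕ Fin m) (Fin m ⊕ Fin m) F) *ᵥ v)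
    rw [Matrix.mulVec_mulVec, ← Units.val_mul, mul_inv_cancel, Units.val_one,
      Matrix.one_mulVec] at this
    exact this.symm

lemma mem_Kq {g : GL (Fin m ⊕ Fin m) F} : g ∈ Kq D hI ↔
    ∀ v, Q D hI ((g : Matrix (Fin m ⊕ Fin m) (Fin m ⊕ Fin m) F) *ᵥ v) = Q D hI v := Iff.rfl

lemma gl_mulVec_eq_zero (g : GL (Fin m ⊕ Fin m) F) (x : Fin m ⊕ Fin m → F) :
    (g : Matrix (Fin m ⊕ Fin m) (Fin m ⊕ Fin m) F) *ᵥ x = 0 ↔ x = 0 := by
  constructor
  · intro h
    have := congrArg (fun y => ((g⁻¹ : GL (Fin m ⊕ Fin m) F) :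
      Matrix (Fin m ⊕ Fin m) (Fin m ⊕ Fin m) F) *ᵥ y) h
    simp only [Matrix.mulVec_mulVec, ← Units.val_mul, inv_mul_cancel, Units.val_one,
      Matrix.one_mulVec, Matrix.mulVec_zero] at this
    exact this
  · rintro rfl; exact Matrix.mulVec_zero _

lemma N_gl (g : GL (Fin m ⊕ Fin m) F) (x : Fin m ⊕ Fin m → F) :
    N ((g : Matrix (Fin m ⊕ Fin m) (Fin m ⊕ Fin m) F) *ᵥ x) = N x := by
  classical
  unfold N
  by_cases hx : x = 0
  · rw [if_pos hx, if_pos ((gl_mulVec_eq_zero g x).mpr hx)]
  · rw [if_neg hx, if_neg (fun h => hx ((gl_mulVec_eq_zero g x).mp h))]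

lemma stab_le_Kq : Geo.decompositionStabilizer D ≤ Kq D hI := by
  rintro g ⟨σ, hσ⟩
  rw [mem_Kq]
  intro v
  set M := (g : Matrix (Fin m ⊕ Fin m) (Fin m ⊕ Fin m) F) with hM
  set a : Fin t → (Fin m ⊕ Fin m → F) := fun j => M *ᵥ comp D hI v (σ.symm j) with ha
  have haD : ∀ j, a j ∈ D j := by
    intro j
    have h1 := hσ (σ.symm j)
    rw [Equiv.apply_symm_apply] at h1
    rw [← h1]
    refine ⟨comp D hI v (σ.symm j), comp_mem D hI v _, ?_⟩
    rw [Matrix.toLin'_apply]
  have hsum : M *ᵥ v = ∑ j, a j := by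
    conv_lhs => rw [← sum_comp D hI v]
    rw [← Matrix.toLin'_apply M, map_sum]
    rw [← Equiv.sum_comp σ a]
    apply Finset.sum_congr rfl
    intro i _
    rw [ha]
    simp only [Equiv.symm_apply_apply, Matrix.toLin'_apply]
  unfold Q
  rw [hsum]
  have h2 : ∀ j ∈ Finset.univ, N (comp D hI (∑ j, a j) j) = N (comp D hI v (σ.symm j)) := by
    intro j _
    rw [comp_eq_of_sum D hI a haD j, ha]
    exact N_gl g _
  rw [Finset.sum_congr rfl h2]
  exact Equiv.sum_comp σ.symm (fun i => N (comp D hI v i))

end Main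


section Elements
variable {F : Type*} [Field F] {m : ℕ}

/-- the symplectic transvection with parameter 1 as an element of GL -/
noncomputable def tv (a : Fin m ⊕ Fin m → F) : GL (Fin m ⊕ Fin m) F :=
  ⟨sympTransvection m a 1, sympTransvection m a (-1),
    by rw [sympTransvection_mul, add_neg_cancel]; simp [sympTransvection],
    by rw [sympTransvection_mul, neg_add_cancel]; simp [sympTransvection]⟩

lemma tv_mem (a : Fin m ⊕ Fin m → F) : tv a ∈ spGL m F :=
  fun u v => sympForm_mulVec_of_mem (sympTransvection_mem m a 1) u v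

lemma tv_mulVec (a x : Fin m ⊕ Fin m → F) :
    ((tv a : GL (Fin m ⊕ Fin m) F) : Matrix (Fin m ⊕ Fin m) (Fin m ⊕ Fin m) F) *ᵥ x
      = x + (sympForm m F x a) • a := by
  change sympTransvection m a 1 *ᵥ x = _
  rw [sympTransvection_mulVec, one_mul]

end Elements

section Final
variable {F : Type*} [Field F] [Fintype F] {m : ℕ} (hq : Fintype.card F = 2) {t : ℕ}
  (D : Fin t → Submodule F (Fin m ⊕ Fin m → F))
  (hD : Geo.IsNondegenerateMDecomposition (sympForm m F) 2 D)

include hD in
lemma t_eq_m (hI : DirectSum.IsInternal D) : t = m := by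
  have h1 := (Φ D hI).finrank_eq
  rw [Module.finrank_directSum] at h1
  simp only [hD.decomp.finrank_eq, Finset.sum_const, Finset.card_univ, Fintype.card_fin,
    smul_eq_mul, Module.finrank_fintype_fun_eq_card, Fintype.card_sum] at h1
  omega

include hq hD in
theorem main (hm : 7 ≤ m) :
    ∃ K : Subgroup (Matrix.GeneralLinearGroup (Fin m ⊕ Fin m) F),
      Geo.decompositionStabilizer D ⊓ spGL m F < K ∧ K < spGL m F := by
  have hI : DirectSum.IsInternal D :=
    DirectSum.isInternal_submodule_of_iSupIndep_of_iSup_eq_top hD.decomp.indep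
      hD.decomp.iSup_eq_top
  have htm := t_eq_m D hD hI
  have ht : 7 ≤ t := by omega
  set i1 : Fin t := ⟨0, by omega⟩ with hi1
  set i2 : Fin t := ⟨1, by omega⟩ with hi2
  set i3 : Fin t := ⟨2, by omega⟩ with hi3
  have h12 : i1 ≠ i2 := by rw [hi1, hi2]; intro h; simp [Fin.ext_iff] at h
  have h13 : i1 ≠ i3 := by rw [hi1, hi3]; intro h; simp [Fin.ext_iff] at h
  have h23 : i2 ≠ i3 := by rw [hi2, hi3]; intro h; simp [Fin.ext_iff] at h
  have hex : ∀ i, ∃ e ∈ D i, e ≠ 0 := by
    intro i
    apply Submodule.exists_mem_ne_zero_of_ne_bot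
    intro h
    have := hD.decomp.finrank_eq i
    rw [h, finrank_bot] at this
    omega
  obtain ⟨e1, he1, he10⟩ := hex i1
  obtain ⟨e2, he2, he20⟩ := hex i2
  obtain ⟨e3, he3, he30⟩ := hex i3
  obtain ⟨x1, hx1, hx1e⟩ := (hD.nondegenerate i1 e1 he1 he10).1
  have hx1e1 : sympForm m F x1 e1 = 1 := by
    rcases eq_zero_or_one hq (sympForm m F x1 e1) with h | h
    · exact absurd h hx1e
    · exact h
  have hx1e2 : sympForm m F x1 e2 = 0 := hD.orthogonal i1 i2 h12 _ hx1 _ he2
  have hx1e3 : sympForm m F x1 e3 = 0 := hD.orthogonal i1 i3 h13 _ hx1 _ he3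
  have he1e2 : sympForm m F e1 e2 = 0 := hD.orthogonal i1 i2 h12 _ he1 _ he2
  have he1e3 : sympForm m F e1 e3 = 0 := hD.orthogonal i1 i3 h13 _ he1 _ he3
  have he2e3 : sympForm m F e2 e3 = 0 := hD.orthogonal i2 i3 h23 _ he2 _ he3
  have hQe1 : Q D hI e1 = 1 := by rw [Q_of_mem D hI he1, N_of_ne he10]
  have hQe2 : Q D hI e2 = 1 := by rw [Q_of_mem D hI he2, N_of_ne he20]
  have hQe3 : Q D hI e3 = 1 := by rw [Q_of_mem D hI he3, N_of_ne he30]
  have h11 := one_add_one hq
  set b := e1 + e2 with hb
  set a := e1 + e2 + e3 with ha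
  have hQb : Q D hI b = 0 := by
    rw [hb, Q_add hq D hD hI, hQe1, hQe2, he1e2, add_zero, h11]
  have hQa : Q D hI a = 1 := by
    rw [ha, Q_add hq D hD hI, hQb, hQe3, sympForm_add_left, he1e3, he2e3, add_zero, add_zero,
      zero_add]
  have hx1b : sympForm m F x1 b = 1 := by
    rw [hb, sympForm_add_right, hx1e1, hx1e2, add_zero]
  have hx1a : sympForm m F x1 a = 1 := by
    rw [ha, sympForm_add_right, hx1b, hx1e3, add_zero]
  refine ⟨Kq D hI ⊓ spGL m F, ?_, ?_⟩
  · rw [lt_iff_le_and_ne]
    refine ⟨fun g hg => ⟨stab_le_Kq D hI hg.1, hg.2⟩, fun h => ?_⟩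
    -- the element `tv a`
    have hmem : tv a ∈ Kq D hI ⊓ spGL m F := by
      refine ⟨(mem_Kq D hI).mpr ?_, tv_mem a⟩
      intro v
      rw [tv_mulVec]
      rcases eq_zero_or_one hq (sympForm m F v a) with hc | hc
      · rw [hc, zero_smul, add_zero]
      · rw [hc, one_smul, Q_add hq D hD hI, hQa, hc, add_assoc, h11, add_zero]
    rw [← h] at hmem
    obtain ⟨σ, hσ⟩ := hmem.1
    have hy : ((tv a : GL (Fin m ⊕ Fin m) F) : Matrix (Fin m ⊕ Fin m) (Fin m ⊕ Fin m) F) *ᵥ x1
        ∈ D (σ i1) := by
      rw [← hσ i1]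
      exact ⟨x1, hx1, by rw [Matrix.toLin'_apply]⟩
    rw [tv_mulVec, hx1a, one_smul] at hy
    -- components of y = x1 + a
    have hc2 : comp D hI (x1 + a) i2 = e2 := by
      rw [ha, comp_add, comp_add, comp_add, comp_of_mem D hI hx1, comp_of_mem D hI he1,
        comp_of_mem D hI he2, comp_of_mem D hI he3, if_neg (Ne.symm h12), if_neg (Ne.symm h12),
        if_pos rfl, if_neg h23]
      simp
    have hc3 : comp D hI (x1 + a) i3 = e3 := by
      rw [ha, comp_add, comp_add, comp_add, comp_of_mem D hI hx1, comp_of_mem D hI he1,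
        comp_of_mem D hI he2, comp_of_mem D hI he3, if_neg (Ne.symm h13), if_neg (Ne.symm h13),
        if_neg (Ne.symm h23), if_pos rfl]
      simp
    rw [comp_of_mem D hI hy] at hc2 hc3
    by_cases hj : i2 = σ i1
    · have : i3 ≠ σ i1 := fun h3 => h23 (hj.trans h3.symm)
      rw [if_neg this] at hc3
      exact he30 hc3.symm
    · rw [if_neg hj] at hc2
      exact he20 hc2.symm
  · rw [lt_iff_le_and_ne]
    refine ⟨inf_le_right, fun h => ?_⟩
    have hmem : tv b ∈ spGL m F := tv_mem b
    rw [← h] at hmem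
    have h1 := (mem_Kq D hI).mp hmem.1 x1
    rw [tv_mulVec, hx1b, one_smul, Q_add hq D hD hI, hQb, hx1b, add_zero] at h1
    have : (1 : F) = 0 := by
      have := congrArg (fun z => z - Q D hI x1) h1
      simpa using this
    exact one_ne_zero this

end Final

end S5648aux

end Aux

/-- Over the field with 2 elements and for m ≥ 7, let D be a decomposition of F^(2m) into t pairwise orthogonal non-degenerate 2-dimensional subspaces for the standard alternating form (t = m ≥ 2). Then the elements of Sp_2m(2) permuting the members of D form a subgroup that is not maximal: some subgroup lies strictly between it and Sp_2m(2). -/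
theorem result {F : Type*} [Field F] [Fintype F] (m : ℕ) (hm : 7 ≤ m) (hq : Fintype.card F = 2) {t : ℕ} (D : Fin t → Submodule F (Fin m ⊕ Fin m → F)) (hD : Cfsg.Geo.IsNondegenerateMDecomposition (Cfsg.sympForm m F) 2 D) : ∃ K : Subgroup (Matrix.GeneralLinearGroup (Fin m ⊕ Fin m) F), Cfsg.Geo.decompositionStabilizer D ⊓ Cfsg.spGL m F < K ∧ K < Cfsg.spGL m F := by
  exact S5648aux.main hq D hD hm

end Cfsg.Agent.S5648
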