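import Cfsg.Statements.S0331
-- import your own Cfsg.Agent.* helpers here
import Cfsg.Agent.Lib.Helper15.SuzukiBorel
import Cfsg.Agent.S2410
import Cfsg.Agent.Lib.Helper9.FpfAction
import Cfsg.Agent.Lib.Helper18.PowerMap

set_option autoImplicit false
open Cfsg

namespace Cfsg.Agent.S0331

open Cfsg.Agent.Lib.Helper15.SuzukiAlg Cfsg.Agent.Lib.Helper15.SuzukiOvoid
  Cfsg.Agent.Lib.Helper15.SuzukiForm Cfsg.Agent.Lib.Helper15.SuzukiMat
  Cfsg.Agent.Lib.Helper15.SuzukiGroup Cfsg.Agent.Lib.Helper15.SuzukiOrder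
  Cfsg.Agent.Lib.Helper15.SuzukiSylow Cfsg.Agent.Lib.Helper15.SuzukiZassenhaus
  Cfsg.Agent.Lib.Helper15.SuzukiBorel Matrix

/-- a distributive action on an additive group as an action on its multiplicative version -/
@[reducible] def mdma (B V : Type*) [Monoid B] [AddCommGroup V] [DistribMulAction B V] :
    MulDistribMulAction B (Multiplicative V) where
  smul b v := Multiplicative.ofAdd (b • Multiplicative.toAdd v)
  one_smul v := by
    show Multiplicative.ofAdd ((1 : B) • Multiplicative.toAdd v) = v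
    rw [one_smul]; rfl
  mul_smul a b v := by
    show Multiplicative.ofAdd ((a * b) • Multiplicative.toAdd v) =
      Multiplicative.ofAdd (a • (b • Multiplicative.toAdd v))
    rw [mul_smul]
  smul_mul b v w := by
    show Multiplicative.ofAdd (b • (Multiplicative.toAdd v + Multiplicative.toAdd w)) =
      Multiplicative.ofAdd (b • Multiplicative.toAdd v + b • Multiplicative.toAdd w)
    rw [smul_add]
  smul_one b := by
    show Multiplicative.ofAdd (b • (0 : V)) = 1
    rw [smul_zero]; rfl

/-! ### number theory -/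

theorem not_dvd_two_pow {p : ℕ} (hp : p.Prime) (hp2 : p ≠ 2) (k : ℕ) : ¬ p ∣ 2 ^ k := by
  intro h
  have := hp.dvd_of_dvd_pow h
  exact hp2 ((Nat.prime_dvd_prime_iff_eq hp Nat.prime_two).mp this)

theorem not_both {p q : ℕ} (hp : p.Prime) (hp2 : p ≠ 2) (hq : 1 ≤ q) (h1 : p ∣ q - 1)
    (h2 : p ∣ q ^ 2 + 1) : False := by
  have h3 : q ^ 2 + 1 = (q - 1) * (q + 1) + 2 := by
    obtain ⟨j, rfl⟩ : ∃ j, q = j + 1 := ⟨q - 1, by omega⟩
    simp only [Nat.add_sub_cancel]
    ring
  rw [h3] at h2
  have h4 : p ∣ 2 := (Nat.dvd_add_right (Dvd.dvd.mul_right h1 _)).mp h2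
  exact hp2 ((Nat.prime_dvd_prime_iff_eq hp Nat.prime_two).mp h4)

/-- `q` has order exactly four modulo a prime divisor of `q² + 1` -/
theorem pow_ne_of_dvd {p q : ℕ} [hp : Fact p.Prime] (hp2 : p ≠ 2) (h2 : p ∣ q ^ 2 + 1) {d : ℕ}
    (hd : d = 1 ∨ d = 2 ∨ d = 3) : ¬ q ^ 4 ≡ q ^ d [MOD p] := by
  intro h
  have hx : ((q : ZMod p)) ^ 2 + 1 = 0 := by
    have := (ZMod.natCast_eq_zero_iff (q ^ 2 + 1) p).mpr h2
    push_cast at this
    exact this
  have h4 : ((q : ZMod p)) ^ 4 = (q : ZMod p) ^ d := by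
    have := (ZMod.natCast_eq_natCast_iff (q ^ 4) (q ^ d) p).mpr h
    push_cast at this
    exact this
  have h20 : (2 : ZMod p) ≠ 0 := by
    intro h
    have : ((2 : ℕ) : ZMod p) = 0 := by exact_mod_cast h
    rw [ZMod.natCast_eq_zero_iff] at this
    exact hp2 ((Nat.prime_dvd_prime_iff_eq hp.out Nat.prime_two).mp this)
  have hx0 : (q : ZMod p) ≠ 0 := by
    intro h0
    rw [h0] at hx
    simp at hx
  set x := (q : ZMod p) with hxdef
  have hx4 : x ^ 4 = 1 := by
    have : x ^ 2 = -1 := eq_neg_of_add_eq_zero_left hx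
    calc x ^ 4 = (x ^ 2) ^ 2 := by ring
      _ = 1 := by rw [this]; ring
  have hx2 : x ^ 2 = -1 := eq_neg_of_add_eq_zero_left hx
  apply h20
  rcases hd with rfl | rfl | rfl
  · -- x^4 = x
    have h5 : x = 1 := by rw [← hx4, h4, pow_one]
    rw [h5] at hx2
    have : (2 : ZMod p) = 1 ^ 2 - (-1) := by ring
    rw [this, hx2]; ring
  · have h5 : x ^ 2 = 1 := by rw [← hx4, h4]
    rw [h5] at hx2
    have : (2 : ZMod p) = 1 - (-1) := by ring
    rw [this, ← hx2]; ring
  · have h5 : x = 1 := by
      have : x ^ 3 * x = x ^ 3 * 1 := by rw [mul_one, ← pow_succ]; exact h4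
      exact mul_left_cancel₀ (pow_ne_zero 3 hx0) this
    rw [h5] at hx2
    have : (2 : ZMod p) = 1 ^ 2 - (-1) := by ring
    rw [this, hx2]; ring

variable {F : Type*} [Field F] [Fintype F] {m : ℕ}

/-- elements of order `p ∣ q² + 1` fix no non-zero vector -/
theorem fpf_of_order (hF : Fintype.card F = 2 ^ (2 * m + 1)) {p : ℕ} [hp : Fact p.Prime]
    (hp2 : p ≠ 2) (hdvd : p ∣ (2 ^ (2 * m + 1)) ^ 2 + 1)
    (y : Matrix.SpecialLinearGroup (Fin 4) F) (hy : orderOf y = p) (v : Fin 4 → F)
    (hv : (y : Matrix (Fin 4) (Fin 4) F) *ᵥ v = v) : v = 0 := by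
  classical
  set K : Subgroup (Matrix.SpecialLinearGroup (Fin 4) F) := Subgroup.zpowers y with hK
  have hKp : IsPGroup p K := by
    apply IsPGroup.of_card (n := 1)
    rw [Nat.card_zpowers, hy, pow_one]
  have hmod := hKp.card_modEq_card_fixedPoints (Fin 4 → F)
  set W : Submodule F (Fin 4 → F) :=
    LinearMap.ker (Matrix.mulVecLin (y : Matrix (Fin 4) (Fin 4) F) - LinearMap.id) with hW
  have hmemW : ∀ w : Fin 4 → F, w ∈ W ↔ (y : Matrix (Fin 4) (Fin 4) F) *ᵥ w = w := by
    intro w
    rw [hW, LinearMap.mem_ker, LinearMap.sub_apply, Matrix.mulVecLin_apply, LinearMap.id_apply,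
      sub_eq_zero]
  have hset : (MulAction.fixedPoints K (Fin 4 → F) : Set (Fin 4 → F)) = (W : Set (Fin 4 → F)) := by
    ext w
    rw [MulAction.mem_fixedPoints, SetLike.mem_coe, hmemW]
    constructor
    · intro h
      exact h ⟨y, Subgroup.mem_zpowers y⟩
    · intro h k
      have : K ≤ MulAction.stabilizer (Matrix.SpecialLinearGroup (Fin 4) F) w := by
        rw [hK, Subgroup.zpowers_le]
        exact MulAction.mem_stabilizer_iff.mpr h
      exact MulAction.mem_stabilizer_iff.mp (this k.2)
  have hcardfix : Nat.card (MulAction.fixedPoints K (Fin 4 → F)) =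
      (2 ^ (2 * m + 1)) ^ Module.finrank F W := by
    have : Nat.card (MulAction.fixedPoints K (Fin 4 → F)) = Nat.card W := by
      rw [hset]; rfl
    rw [this, Module.natCard_eq_pow_finrank (K := F), Nat.card_eq_fintype_card, hF]
  have hcardV : Nat.card (Fin 4 → F) = (2 ^ (2 * m + 1)) ^ 4 := by
    rw [Nat.card_eq_fintype_card, Fintype.card_fun, Fintype.card_fin, hF]
  rw [hcardfix, hcardV] at hmod
  have hle : Module.finrank F W ≤ 4 := by
    have := Submodule.finrank_le W
    simpa using this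
  have hd : Module.finrank F W = 0 ∨ Module.finrank F W = 4 := by
    by_contra hcon
    push Not at hcon
    have : Module.finrank F W = 1 ∨ Module.finrank F W = 2 ∨ Module.finrank F W = 3 := by omega
    exact pow_ne_of_dvd hp2 hdvd this hmod
  rcases hd with hd | hd
  · have hWbot : W = ⊥ := Submodule.finrank_eq_zero.mp hd
    have : v ∈ W := (hmemW v).mpr hv
    rw [hWbot] at this
    exact (Submodule.mem_bot F).mp this
  · exfalso
    have hWtop : W = ⊤ := by
      apply Submodule.eq_top_of_finrank_eq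
      rw [hd]; simp
    have hy1 : y = 1 := by
      apply Subtype.ext
      apply Matrix.toLin'.injective
      apply LinearMap.ext
      intro w
      have : w ∈ W := by rw [hWtop]; exact Submodule.mem_top
      rw [Matrix.toLin'_apply, (hmemW w).mp this]
      simp
    rw [hy1, orderOf_one] at hy
    exact hp.out.one_lt.ne' hy.symm

theorem main (hm : 1 ≤ m) (hF : Fintype.card F = 2 ^ (2 * m + 1)) {p : ℕ} [hp : Fact p.Prime]
    (hp2 : p ≠ 2) (P : Sylow p (Cfsg.Sz F m)) : IsCyclic P := by
  classical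
  have hq1 : 1 ≤ 2 ^ (2 * m + 1) := Nat.one_le_two_pow
  have hcardG := card_Sz hF hm
  by_cases h1 : p ∣ 2 ^ (2 * m + 1) - 1
  · -- Sylow inside the torus
    set Hz : Subgroup (Cfsg.Sz F m) := (Cfsg.Agent.S2410.HsHom hF).range with hHz
    have hinj : Function.Injective (Cfsg.Agent.S2410.HsHom hF) := by
      intro μ ν h
      exact H_injective _ m (congrArg Subtype.val h)
    have hHzcyc : IsCyclic Hz :=
      isCyclic_of_surjective (Cfsg.Agent.S2410.HsHom hF).rangeRestrict
        (Cfsg.Agent.S2410.HsHom hF).rangeRestrict_surjective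
    have hHzcard : Nat.card Hz = 2 ^ (2 * m + 1) - 1 := by
      rw [hHz, Nat.card_congr (MonoidHom.ofInjective hinj).symm.toEquiv, Nat.card_eq_fintype_card,
        Fintype.card_units, hF]
    obtain ⟨S₀⟩ : Nonempty (Sylow p Hz) := inferInstance
    have hS₀ : Nat.card S₀ = p ^ (2 ^ (2 * m + 1) - 1).factorization p := by
      rw [S₀.card_eq_multiplicity, hHzcard]
    set S : Subgroup (Cfsg.Sz F m) := (S₀ : Subgroup Hz).map Hz.subtype with hS
    have eS : (S₀ : Subgroup Hz) ≃* S :=
      Subgroup.equivMapOfInjective _ _ Hz.subtype_injective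
    have hScyc : IsCyclic S := isCyclic_of_surjective eS eS.surjective
    have hfac : (Nat.card (Cfsg.Sz F m)).factorization p =
        (2 ^ (2 * m + 1) - 1).factorization p := by
      rw [hcardG]
      have hnd : ¬ p ∣ (2 ^ (2 * m + 1)) ^ 2 * ((2 ^ (2 * m + 1)) ^ 2 + 1) := by
        intro h
        rcases (Nat.Prime.dvd_mul hp.out).mp h with h3 | h3
        · rw [← pow_mul] at h3
          exact not_dvd_two_pow hp.out hp2 _ h3
        · exact not_both hp.out hp2 hq1 h1 h3
      have hne1 : (2 ^ (2 * m + 1)) ^ 2 * ((2 ^ (2 * m + 1)) ^ 2 + 1) ≠ 0 := by positivity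
      have hne2 : 2 ^ (2 * m + 1) - 1 ≠ 0 := by
        intro h
        have : 2 ^ 3 ≤ 2 ^ (2 * m + 1) := Nat.pow_le_pow_right (by norm_num) (by omega)
        omega
      rw [Nat.factorization_mul hne1 hne2]
      simp only [Finsupp.coe_add, Pi.add_apply]
      rw [Nat.factorization_eq_zero_of_not_dvd hnd, zero_add]
    have hScard : Nat.card S = p ^ (Nat.card (Cfsg.Sz F m)).factorization p := by
      rw [← Nat.card_congr eS.toEquiv, hS₀, hfac]
    let SS : Sylow p (Cfsg.Sz F m) := Sylow.ofCard S hScard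
    have e : P ≃* S := Sylow.equiv P SS
    exact isCyclic_of_surjective e.symm e.symm.surjective
  · by_cases h2 : p ∣ (2 ^ (2 * m + 1)) ^ 2 + 1
    · -- fixed-point-free action on the natural module
      by_contra hnc
      have hPp : IsPGroup p P := P.isPGroup'
      obtain ⟨a, b, hab, ha, hb, hb1, hdisj⟩ :=
        Cfsg.Agent.Lib.Helper18.exists_rank_two_of_not_cyclic p hp2 (Nat.card P) P hPp le_rfl hnc
      have ha1 : a ≠ 1 := by
        rintro rfl
        exact hdisj (Subgroup.one_mem _)
      have hoa : orderOf a = p := orderOf_eq_prime ha ha1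
      have hob : orderOf b = p := orderOf_eq_prime hb hb1
      let _ : MulDistribMulAction P (Multiplicative (Fin 4 → F)) := mdma P (Fin 4 → F)
      have hfpf : Cfsg.Agent.Lib.Helper9.IsFpfAction P (Multiplicative (Fin 4 → F)) := by
        intro x hx v hxv
        -- a power of `x` has order `p`
        obtain ⟨k, hk⟩ := hPp x
        have hox : orderOf x ∣ p ^ k := orderOf_dvd_of_pow_eq_one hk
        obtain ⟨j, hj, hoj⟩ := (Nat.dvd_prime_pow hp.out).mp hox
        have hj0 : j ≠ 0 := by
          rintro rfl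
          rw [pow_zero, orderOf_eq_one_iff] at hoj
          exact hx hoj
        obtain ⟨i, rfl⟩ : ∃ i, j = i + 1 := ⟨j - 1, by omega⟩
        set y := x ^ (p ^ i) with hy
        have hoy : orderOf y = p := by
          rw [hy, orderOf_pow' x (pow_ne_zero i hp.out.ne_zero), hoj, pow_succ,
            Nat.gcd_eq_right (Dvd.intro _ rfl), Nat.mul_div_cancel_left _ (pow_pos hp.out.pos i)]
        have hyv : y • v = v := by
          have hxs : x ∈ MulAction.stabilizer P v := MulAction.mem_stabilizer_iff.mpr hxv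
          exact MulAction.mem_stabilizer_iff.mp (Subgroup.pow_mem _ hxs _)
        have hY : orderOf (((y : P) : Cfsg.Sz F m) : Matrix.SpecialLinearGroup (Fin 4) F) = p := by
          rw [Subgroup.orderOf_coe, Subgroup.orderOf_coe, hoy]
        have hyv' : ((((y : P) : Cfsg.Sz F m) : Matrix.SpecialLinearGroup (Fin 4) F) :
            Matrix (Fin 4) (Fin 4) F) *ᵥ (Multiplicative.toAdd v) = Multiplicative.toAdd v := by
          have := congrArg Multiplicative.toAdd hyv
          exact this
        have h0 := fpf_of_order hF hp2 h2 _ hY _ hyv'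
        exact Multiplicative.toAdd.injective h0
      exact hfpf.false_of_pow_prime hp.out hoa
        (fun v => hfpf.pow_prime_eq_one_of_commute hp.out hoa hob hab hdisj v)
    · -- trivial Sylow subgroup
      have hnd : ¬ p ∣ Nat.card (Cfsg.Sz F m) := by
        rw [hcardG]
        intro h
        rcases (Nat.Prime.dvd_mul hp.out).mp h with h3 | h3
        · rcases (Nat.Prime.dvd_mul hp.out).mp h3 with h4 | h4
          · rw [← pow_mul] at h4
            exact not_dvd_two_pow hp.out hp2 _ h4
          · exact h2 h4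
        · exact h1 h3
      have hcard : Nat.card P = 1 := by
        rw [P.card_eq_multiplicity, Nat.factorization_eq_zero_of_not_dvd hnd, pow_zero]
      have : Subsingleton P := (Nat.card_eq_one_iff_unique.mp hcard).1
      exact isCyclic_of_subsingleton

/-- For every odd prime `p` the Sylow `p`-subgroups of the Suzuki group are cyclic. -/
theorem result {F : Type*} [Field F] [Fintype F] {m : ℕ} (hm : 1 ≤ m)
    (hF : Fintype.card F = 2 ^ (2 * m + 1)) {p : ℕ} [Fact p.Prime] (hp : p ≠ 2)
    (P : Sylow p (Cfsg.Sz F m)) : IsCyclic P := by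
  exact main hm hF hp P

end Cfsg.Agent.S0331
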