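import Cfsg.Statements.S2154
import Cfsg.Agent.Lib.Helper25.BTf

set_option autoImplicit false
open Cfsg

namespace Cfsg.Agent.S2154

open Cfsg.Agent.Lib.Helper25.BT in
/-- The Borel–Tits property of the finite Chevalley groups of types G₂, B₂, D₄, F₄, E₆, E₇, E₈ over a finite field of characteristic p: for every non-trivial p-subgroup U of the group G there are an element g of G and a proper set J of fundamental roots such that the normaliser of U in G lies in the conjugate by g of the standard parabolic subgroup P_J and U lies in the conjugate by g of its unipotent radical U_J. -/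
theorem result {F : Type*} [Field F] [Fintype F] (p : ℕ) [Fact p.Prime] [CharP F p] (D : Cfsg.Lie.ChevalleyDatum) (hD : D ∈ [Cfsg.Lie.chevG2, Cfsg.Lie.chevB2, Cfsg.Lie.chevD4, Cfsg.Lie.chevF4, Cfsg.Lie.chevE6, Cfsg.Lie.chevE7, Cfsg.Lie.chevE8]) (U : Subgroup (GL D.Idx F)) (hUG : U ≤ D.group F) (hU : IsPGroup p ↥U) (hne : U ≠ ⊥) : ∃ g ∈ D.group F, ∃ J : Set ℕ, (∃ i, i < D.rank ∧ i ∉ J) ∧ Subgroup.normalizer (U : Set (GL D.Idx F)) ⊓ D.group F ≤ (D.parabolicSubgroup F J).map (MulAut.conj g).toMonoidHom ∧ U ≤ (D.unipotentRadical F J).map (MulAut.conj g).toMonoidHom := by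
  obtain ⟨g, hg, lam, hdom, hfe, hmin⟩ := exists_dominant_minimiser D hD F p U hUG hU
  refine ⟨g, hg, zeroSet D lam, zeroSet_proper D hD F U hne g lam hfe, ?_, ?_⟩
  · intro x hx
    rw [Subgroup.mem_inf] at hx
    have h1 := normalizer_conj_mem_rf D hD F U g hg lam hdom hfe hmin x hx.1 hx.2
    have h2 : g⁻¹ * x * g ∈ D.group F :=
      Subgroup.mul_mem _ (Subgroup.mul_mem _ (Subgroup.inv_mem _ hg) hx.2) hg
    have h3 := rf_inf_group_le_parabolic D hD F lam hdom (Subgroup.mem_inf.mpr ⟨h1, h2⟩)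
    rw [Subgroup.mem_map]
    refine ⟨g⁻¹ * x * g, h3, ?_⟩
    show g * (g⁻¹ * x * g) * g⁻¹ = x
    group
  · intro v hv
    have h2 : g⁻¹ * v * g ∈ D.group F :=
      Subgroup.mul_mem _ (Subgroup.mul_mem _ (Subgroup.inv_mem _ hg) (hUG hv)) hg
    have h3 := mem_uJ_of_UF D hD F lam hdom _ h2 (hfe v hv)
    rw [Subgroup.mem_map]
    refine ⟨g⁻¹ * v * g, h3, ?_⟩
    show g * (g⁻¹ * v * g) * g⁻¹ = v
    group

end Cfsg.Agent.S2154
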