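import Cfsg.Statements.S2318
import Cfsg.Agent.Lib.Helper27.GGAsm
import Cfsg.Agent.Lib.Helper6.ChevStX1
import Cfsg.Agent.Lib.Helper7.ChevCell
import Cfsg.Agent.Lib.Helper7.ChevRank1
import Cfsg.Agent.Lib.Helper23.DefectZeroIrr

set_option autoImplicit false
open Cfsg

namespace Cfsg.Agent.S2318

open Cfsg.Lie Cfsg.Agent.Lib.Helper7 Cfsg.Agent.Lib.Helper6.ChevSt Cfsg.Agent.Lib.Helper6.ChevStX1
open Cfsg.Agent.Lib.Helper3.BN Cfsg.Agent.Lib.Helper3.WordLen Cfsg.Agent.Lib.Helper6.BNSt
open Cfsg.Agent.Lib.Helper27.GG Cfsg.Agent.Lib.Helper27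

section
variable (D : ChevalleyDatum) (hD : D ∈ [chevG2, chevB2, chevD4, chevF4, chevE6, chevE7, chevE8])
variable (F : Type*) [Field F] [Fintype F]

/-- the split (B,N)-pair structure of a finite Chevalley group -/
noncomputable def chevSplit :
    @SplitBN _ _ (finite_group D F) (chevBNPair D hD F) (Uc D F) (Fintype.card F) :=
  letI := finite_group D F
  { hq := Fintype.one_lt_card
    hUB := hUB D hD F
    hUn := hUn D hD F
    hBUH := hBUH D hD F
    hUH := hUH D hD F
    hHcomm := GGHub.chev_hHcomm D hD F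
    ι := Fin D.rank
    sOf := fun i => sEl D hD F i
    hS := by
      ext s
      constructor
      · rintro ⟨i, hi, hs⟩
        refine ⟨⟨i, hi⟩, ?_⟩
        apply Subtype.ext
        apply Units.ext
        rw [sEl_coe D hD F i hi, coe_nFund', hs]
      · rintro ⟨i, rfl⟩
        exact sEl_mem_S D hD F i i.2
    X := fun i => Xc D F i
    Us := fun i => Usc D F i
    hX := by
      intro i x hx
      rw [Subgroup.mem_subgroupOf] at hx ⊢
      obtain ⟨t, ht⟩ := (mem_rootSubgroup_iff D hD F _ _).mp hx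
      rw [ht]
      exact xGL_pos_mem D hD F _ ((parFacts_of_mem D hD).simplePos i i.2) t
    hUs := by
      intro i x hx
      rw [Subgroup.mem_subgroupOf] at hx ⊢
      exact up_le_posUnipotent D hD F i hx
    hXU := GGHub.chev_hXU D hD F
    hXUs := GGHub.chev_hXUs D hD F
    hcardX := GGHub.chev_hcardX D hD F
    hsUs := GGHub.chev_hsUs D hD F
    hrank1 := GGHub.chev_hrank1 D hD F
    hrank1_one := GGHub.chev_hrank1_one D hD F
    hHgen := GGHub.chev_hHgen D hD F
    hpos := GGHub.chev_hpos D hD F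
    hcardC := fun i hs => card_C_fund D hD F _ hs
    hcardU := GGHub.chev_hcardU D hD F }

end

/-- In a Chevalley group of type G₂, B₂, D₄, F₄, E₆, E₇ or E₈ over a finite field of characteristic p (for types G₂ and B₂ the field is assumed to have at least 3 elements, so that the group is perfect), the Steinberg character is the only irreducible complex character whose degree is divisible by the full power of p dividing the group order (the only irreducible character of p-defect zero). -/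
theorem result {F : Type*} [Field F] [Fintype F] (p : ℕ) [Fact p.Prime] [CharP F p] (D : Cfsg.Lie.ChevalleyDatum) (hD : D ∈ [Cfsg.Lie.chevG2, Cfsg.Lie.chevB2, Cfsg.Lie.chevD4, Cfsg.Lie.chevF4, Cfsg.Lie.chevE6, Cfsg.Lie.chevE7, Cfsg.Lie.chevE8]) (hq : (D = Cfsg.Lie.chevG2 ∨ D = Cfsg.Lie.chevB2) → 3 ≤ Fintype.card F)
    (χ : ↥(D.group F) → ℂ) (hχ : Cfsg.IsIrrCharacter ↥(D.group F) χ)
    (hdeg : ∃ d : ℕ, χ 1 = (d : ℂ) ∧ p ^ (Nat.card ↥(D.group F)).factorization p ∣ d) :
    χ = D.steinbergCharacter F := by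
  classical
  have hfinG := finite_group D F
  have : Fintype ↥(D.group F) := Fintype.ofFinite _
  obtain ⟨ψ, hψ⟩ := GGHub.chev_psi D hD F
  rw [steinbergCharacter_eq_stFun D hD F]
  refine Cfsg.Agent.Lib.Helper27.GGAsm.eq_stFun (chevSplit D hD F) ψ hψ _ (coe_SfinChev D hD F) χ hχ ?_
  intro u hu hu1
  obtain ⟨d, hd1, hd2⟩ := hdeg
  have hcd : charDegree χ = d := by
    unfold charDegree
    rw [hd1]
    simp
  have hpu : p ∣ orderOf u := by
    have hUp := hUp D hD F p
    obtain ⟨k, hk⟩ := hUp ⟨u, hu⟩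
    have h2 : orderOf (⟨u, hu⟩ : Uc D F) ∣ p ^ k := orderOf_dvd_of_pow_eq_one hk
    rw [Subgroup.orderOf_mk] at h2
    obtain ⟨j, hj, hoj⟩ := (Nat.dvd_prime_pow (Fact.out : p.Prime)).mp h2
    rcases Nat.eq_zero_or_pos j with rfl | hjpos
    · rw [pow_zero, orderOf_eq_one_iff] at hoj
      exact absurd hoj hu1
    · rw [hoj]
      exact dvd_pow_self p hjpos.ne'
  exact Cfsg.Agent.Lib.Helper23.irr_eq_zero_of_defect_zero ⟨χ, hχ⟩ p Fact.out (by rw [hcd]; exact hd2) u hpu

end Cfsg.Agent.S2318
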