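import Cfsg.Statements.S1683
import Cfsg.Agent.Lib.Helper28.TCGlueOrb
import Cfsg.Agent.Lib.Helper28.TCHeLink
import Cfsg.Agent.Lib.Helper28.TCHeM
import Cfsg.Agent.Lib.Helper28.TCHeU0
import Cfsg.Agent.Lib.Helper28.TCHeU1
import Cfsg.Agent.Lib.Helper28.TCHeL0

set_option autoImplicit false
set_option maxRecDepth 100000
open Cfsg

namespace Cfsg.Agent.S1683
open Cfsg.Agent.Lib.Helper28.TCUpper Cfsg.Agent.Lib.Helper28.TCLower Cfsg.Agent.Lib.Helper28.TCGlue Cfsg.Agent.Lib.Helper28.TCGlueOrb Cfsg.Agent.Lib.Helper28.TCOrbit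
open Cfsg.Agent.Lib.Helper28.TCHeData Cfsg.Agent.Lib.Helper28.TCHeTable Cfsg.Agent.Lib.Helper28.TCHeLink Cfsg.Agent.Lib.Helper28.TCHeM

theorem hchk : ∀ v, v < data.N → data.checkNode v = true := by
  intro v hv
  have hv' : v < 7611 := hv
  rcases Nat.lt_or_ge v 884 with h0 | h0
  · exact (data.checkRange_iff 0 884).mp Cfsg.Agent.Lib.Helper28.TCHeU0.chk0 v (by omega) (by omega)
  rcases Nat.lt_or_ge v 2073 with h1 | h1
  · exact (data.checkRange_iff 884 1189).mp Cfsg.Agent.Lib.Helper28.TCHeU0.chk1 v (by omega) (by omega)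
  rcases Nat.lt_or_ge v 3337 with h2 | h2
  · exact (data.checkRange_iff 2073 1264).mp Cfsg.Agent.Lib.Helper28.TCHeU0.chk2 v (by omega) (by omega)
  rcases Nat.lt_or_ge v 5621 with h3 | h3
  · exact (data.checkRange_iff 3337 2284).mp Cfsg.Agent.Lib.Helper28.TCHeU0.chk3 v (by omega) (by omega)
  rcases Nat.lt_or_ge v 7213 with h4 | h4
  · exact (data.checkRange_iff 5621 1592).mp Cfsg.Agent.Lib.Helper28.TCHeU0.chk4 v (by omega) (by omega)
  exact (data.checkRange_iff 7213 398).mp Cfsg.Agent.Lib.Helper28.TCHeU1.chk5 v (by omega) (by omega)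

theorem hrelT : ∀ L ∈ relWords, ∀ p, p < table.n → table.walkT (pathOf lw L) p = p := by
  intro L hL p hp
  have hp' : p < 2058 := hp
  have hm := hrelmem L hL
  rcases Nat.lt_or_ge p 868 with h0 | h0
  · exact (Table.relOK_iff relPaths 0 868).mp Cfsg.Agent.Lib.Helper28.TCHeL0.rel0 p (by omega) (by omega) _ hm
  rcases Nat.lt_or_ge p 1736 with h1 | h1
  · exact (Table.relOK_iff relPaths 868 868).mp Cfsg.Agent.Lib.Helper28.TCHeL0.rel1 p (by omega) (by omega) _ hm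
  exact (Table.relOK_iff relPaths 1736 322).mp Cfsg.Agent.Lib.Helper28.TCHeL0.rel2 p (by omega) (by omega) _ hm

theorem hsubT : ∀ L ∈ subWords, table.walkT (pathOf lw L) 0 = 0 :=
  fun L hL => (Table.subOK_iff subPaths).mp hsub0 _ (hsubmem L hL)

theorem hclosed : ∀ p, p < table.n → ∀ s ∈ subPaths, orbData.oid (table.walkT s p) = orbData.oid p := by
  intro p hp
  have hp' : p < 2058 := hp
  exact (orbData.closedOK_iff table subPaths 0 2058).mp clo0 p (by omega) (by omega)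

theorem hconn : ∀ p, p < table.n →
    (orbData.depth p = 0 ∧ orbData.roots.look (orbData.oid p) = p) ∨
    (orbData.depth p ≠ 0 ∧ orbData.parent p < table.n ∧ orbData.oid (orbData.parent p) = orbData.oid p ∧
      orbData.depth (orbData.parent p) + 1 = orbData.depth p ∧
      table.walkT (orbData.gens.look (orbData.gen p)) (orbData.parent p) = p) :=
  fun p hp => (orbData.connOK_iff table 0 2058).mp conn0 p (Nat.zero_le _) (by have : p < 2058 := hp; omega)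

theorem cnt0 : orbData.count table.n (orbData.oid 46) = 136 := by decide +kernel
theorem cnt1 : orbData.count table.n (orbData.oid 65) = 136 := by decide +kernel
theorem cnt2 : orbData.count table.n (orbData.oid 2) = 425 := by decide +kernel
theorem cnt3 : orbData.count table.n (orbData.oid 1) = 1360 := by decide +kernel
theorem dist0_1 : orbData.oid 46 ≠ orbData.oid 65 := by decide +kernel

/-- In the presented Held group, let H be the subgroup generated by the images of a, c, d, e, f, (ab)^2 and (bcde)^7. Then H has index 2058, there are four distinct H-orbits on the cosets of H other than H itself, of sizes 136, 136, 425 and 1360. -/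
theorem result : (((Subgroup.closure ({Cfsg.Spor.He.a, Cfsg.Spor.He.c, Cfsg.Spor.He.d, Cfsg.Spor.He.e, Cfsg.Spor.He.f, (Cfsg.Spor.He.a * Cfsg.Spor.He.b) ^ 2, (Cfsg.Spor.He.b * Cfsg.Spor.He.c * Cfsg.Spor.He.d * Cfsg.Spor.He.e) ^ 7} : Set (FreeGroup Cfsg.Spor.He.Gen))).map (PresentedGroup.mk (Cfsg.Spor.coxRelators Cfsg.Spor.He.edges ∪ {r | r ∈ Cfsg.Spor.He.extra})))).index = 2058 ∧ ∃ q₁ q₂ q₃ q₄ : Cfsg.Spor.He ⧸ (((Subgroup.closure ({Cfsg.Spor.He.a, Cfsg.Spor.He.c, Cfsg.Spor.He.d, Cfsg.Spor.He.e, Cfsg.Spor.He.f, (Cfsg.Spor.He.a * Cfsg.Spor.He.b) ^ 2, (Cfsg.Spor.He.b * Cfsg.Spor.He.c * Cfsg.Spor.He.d * Cfsg.Spor.He.e) ^ 7} : Set (FreeGroup Cfsg.Spor.He.Gen))).map (PresentedGroup.mk (Cfsg.Spor.coxRelators Cfsg.Spor.He.edges ∪ {r | r ∈ Cfsg.Spor.He.extra})))), MulAction.orbit (((Subgroup.closure ({Cfsg.Spor.He.a, Cfsg.Spor.He.c, Cfsg.Spor.He.d, Cfsg.Spor.He.e, Cfsg.Spor.He.f, (Cfsg.Spor.He.a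 * Cfsg.Spor.He.b) ^ 2, (Cfsg.Spor.He.b * Cfsg.Spor.He.c * Cfsg.Spor.He.d * Cfsg.Spor.He.e) ^ 7} : Set (FreeGroup Cfsg.Spor.He.Gen))).map (PresentedGroup.mk (Cfsg.Spor.coxRelators Cfsg.Spor.He.edges ∪ {r | r ∈ Cfsg.Spor.He.extra})))) q₁ ≠ MulAction.orbit (((Subgroup.closure ({Cfsg.Spor.He.a, Cfsg.Spor.He.c, Cfsg.Spor.He.d, Cfsg.Spor.He.e, Cfsg.Spor.He.f, (Cfsg.Spor.He.a * Cfsg.Spor.He.b) ^ 2, (Cfsg.Spor.He.b * Cfsg.Spor.He.c * Cfsg.Spor.He.d * Cfsg.Spor.He.e) ^ 7} : Set (FreeGroup Cfsg.Spor.He.Gen))).map (PresentedGroup.mk (Cfsg.Spor.coxRelators Cfsg.Spor.He.edges ∪ {r | r ∈ Cfsg.Spor.He.extra})))) q₂ ∧ (MulAction.orbit (((Subgroup.closure ({Cfsg.Spor.He.a, Cfsg.Spor.He.c, Cfsg.Spor.He.d, Cfsg.Spor.He.e, Cfsg.Spor.He.f, (Cfsg.Spor.He.a * Cfsg.Spor.He.b) ^ 2, (Cfsg.Spor.He.b * Cfsg.Spor.He.c * Cfsg.Spor.He.d * Cfsg.Spor.He.e) ^ 7} : Set (FreeGroup Cfsg.Spor.He.Gen))).map (PresentedGroup.mk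 (Cfsg.Spor.coxRelators Cfsg.Spor.He.edges ∪ {r | r ∈ Cfsg.Spor.He.extra})))) q₁).ncard = 136 ∧ (MulAction.orbit (((Subgroup.closure ({Cfsg.Spor.He.a, Cfsg.Spor.He.c, Cfsg.Spor.He.d, Cfsg.Spor.He.e, Cfsg.Spor.He.f, (Cfsg.Spor.He.a * Cfsg.Spor.He.b) ^ 2, (Cfsg.Spor.He.b * Cfsg.Spor.He.c * Cfsg.Spor.He.d * Cfsg.Spor.He.e) ^ 7} : Set (FreeGroup Cfsg.Spor.He.Gen))).map (PresentedGroup.mk (Cfsg.Spor.coxRelators Cfsg.Spor.He.edges ∪ {r | r ∈ Cfsg.Spor.He.extra})))) q₂).ncard = 136 ∧ (MulAction.orbit (((Subgroup.closure ({Cfsg.Spor.He.a, Cfsg.Spor.He.c, Cfsg.Spor.He.d, Cfsg.Spor.He.e, Cfsg.Spor.He.f, (Cfsg.Spor.He.a * Cfsg.Spor.He.b) ^ 2, (Cfsg.Spor.He.b * Cfsg.Spor.He.c * Cfsg.Spor.He.d * Cfsg.Spor.He.e) ^ 7} : Set (FreeGroup Cfsg.Spor.He.Gen))).map (PresentedGroup.mk (Cfsg.Spor.coxRelators Cfsg.Spor.He.edges ∪ {r | r ∈ Cfsg.Spor.He.extra})))) q₃).ncard = 425 ∧ (MulAction.orbit (((Subgroup.closure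 ({Cfsg.Spor.He.a, Cfsg.Spor.He.c, Cfsg.Spor.He.d, Cfsg.Spor.He.e, Cfsg.Spor.He.f, (Cfsg.Spor.He.a * Cfsg.Spor.He.b) ^ 2, (Cfsg.Spor.He.b * Cfsg.Spor.He.c * Cfsg.Spor.He.d * Cfsg.Spor.He.e) ^ 7} : Set (FreeGroup Cfsg.Spor.He.Gen))).map (PresentedGroup.mk (Cfsg.Spor.coxRelators Cfsg.Spor.He.edges ∪ {r | r ∈ Cfsg.Spor.He.extra})))) q₄).ncard = 1360 := by
  have hT := Table.ok_of_checks table hinvOK hperm
  obtain ⟨hidx, φ, hφ, f, hbij, hequiv, -⟩ := index_eq link hchk hb hfin hcount hT (by decide) hrelT hsubT htree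
  refine ⟨hidx, ?_⟩
  have horb := fun q => suborbits link hT φ hφ f hbij hequiv orbData subPaths hsubmem hsubmem' hclosed
    (BT.All_of_all (fun _ h => of_decide_eq_true h) _ hgens) hconn q
  obtain ⟨q0, hq0⟩ := hbij.2 (⟨46, by decide⟩ : Fin table.n)
  obtain ⟨q1, hq1⟩ := hbij.2 (⟨65, by decide⟩ : Fin table.n)
  obtain ⟨q2, hq2⟩ := hbij.2 (⟨2, by decide⟩ : Fin table.n)
  obtain ⟨q3, hq3⟩ := hbij.2 (⟨1, by decide⟩ : Fin table.n)
  exact ⟨q0, q1, q2, q3, fun h => dist0_1 (by have := (horb q1).2 q0 h; rw [hq0, hq1] at this; exact this), (horb q0).1.trans (by rw [hq0]; exact cnt0), (horb q1).1.trans (by rw [hq1]; exact cnt1), (horb q2).1.trans (by rw [hq2]; exact cnt2), (horb q3).1.trans (by rw [hq3]; exact cnt3)⟩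

end Cfsg.Agent.S1683
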