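import Cfsg.Statements.S1695
-- import your own Cfsg.Agent.* helpers here
import Cfsg.Agent.S1683
import Cfsg.Agent.Lib.Helper28.TC2Bsgs
import Cfsg.Agent.Lib.Helper3.TCX.HeTower
import Cfsg.Agent.Lib.Helper3.TCX.HeBMain
import Cfsg.Agent.Lib.Helper3.TCX.HeBSMain
import Cfsg.Agent.Lib.Helper3.TCX.HeBOrbChk
import Cfsg.Agent.Lib.Helper3.TCX.HeFinalChk
import Cfsg.Agent.Lib.Helper3.TCX.HeCollapse
import Cfsg.Agent.Lib.Helper3.TCX.Max

set_option autoImplicit false
open Cfsg

namespace Cfsg.Agent.S1695

open Cfsg.Agent.Lib.Helper28.TC2Upper Cfsg.Agent.Lib.Helper28.TC2Lower Cfsg.Agent.Lib.Helper28.TC2Orbit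
open Cfsg.Agent.Lib.Helper28.TC2Glue Cfsg.Agent.Lib.Helper28.TC2GlueOrb Cfsg.Agent.Lib.Helper28.TC2Simple
open Cfsg.Agent.Lib.Helper28.TC2Bsgs Cfsg.Agent.Lib.Helper28.TC2Tower
open Cfsg.Agent.Lib.Helper3.TCX Cfsg.Agent.Lib.Helper3.TCX.HeBTable Cfsg.Agent.Lib.Helper3.TCX.HeBLink
open Cfsg.Agent.Lib.Helper3.TCX.HeBOrb Cfsg.Agent.Lib.Helper3.TCX.HeBOrbChk Cfsg.Agent.Lib.Helper3.TCX.HeFinalChk

set_option maxRecDepth 100000

theorem hcnt : ∀ c, c < 5 → (Finset.univ.filter fun p : Fin table.n => orbData.oid p.val = c).card = cnt c := by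
  intro c hc
  have h := ncard_class orbData table.n c
  have e : {q : Fin table.n | orbData.oid q.val = c} =
      ↑(Finset.univ.filter fun p : Fin table.n => orbData.oid p.val = c) := by
    ext q; simp
  rw [e, Set.ncard_coe_finset] at h
  rw [h]
  interval_cases c
  · exact cntc0
  · exact cntc1
  · exact cntc2
  · exact cntc3
  · exact cntc4

/-- The presented Held group is simple of the expected order (that is, it is a simple group of the order of the Held group). -/
theorem result : Cfsg.IsHe Cfsg.Spor.He := by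
  obtain ⟨φ, hφ, f, hsurj, hequiv, h0⟩ := HeBMain.main
  obtain ⟨hfin, hle⟩ := HeTower.card0
  haveI : Finite (PresentedGroup rels) := hfin
  have hlow : 4030387200 ≤ Nat.card φ.range :=
    le_trans HeBSMain.card_base (card_baseGroup_le HeBMain.hT HeBSMain.hTB rfl (by decide)
      HeBSMain.hagree φ.range (sigma_mem_range link HeBMain.hT φ hφ))
  obtain ⟨hinj, hcard⟩ := injective_of_card_le φ hle hlow
  refine ⟨?_, hcard⟩
  have hidx : ((Subgroup.closure S).map (PresentedGroup.mk rels)).index = 2058 := Cfsg.Agent.S1683.result.1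
  have hbij : Function.Bijective f := by
    apply hsurj.bijective_of_nat_card_le
    rw [Nat.card_fin]
    exact le_of_eq hidx
  have hcardH : Nat.card ((Subgroup.closure S).map (PresentedGroup.mk rels)) = 1958400 := by
    have := ((Subgroup.closure S).map (PresentedGroup.mk rels)).index_mul_card
    rw [hidx, hcard] at this
    omega
  have hcore := normalCore_eq_bot _ φ f hsurj hequiv hinj
  have hne : (Subgroup.closure S).map (PresentedGroup.mk rels) ≠ ⊤ := by
    intro e
    rw [e, Subgroup.index_top] at hidx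
    norm_num at hidx
  have hgens' := BT.All_of_all (fun _ h => of_decide_eq_true h) _ hgens
  have hmax : ∀ K : Subgroup (PresentedGroup rels), (Subgroup.closure S).map (PresentedGroup.mk rels) ≤ K →
      K = (Subgroup.closure S).map (PresentedGroup.mk rels) ∨ K = ⊤ :=
    max_of_suborbits _ HeBMain.hn φ f hbij hequiv (fun q => orbData.oid q.val) 5
      (fun p => hclsAll p.val p.2)
      (fun p q hpq => exists_perm_of_oid_eq link HeBMain.hT φ hφ orbData subPaths hsubmem hsubmem' hclosed
        hgens' hconn p q hpq)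
      cnt hcnt harith
  have ht : (PresentedGroup.mk rels (FreeGroup.mk tWord)) ^ 7 = 1 := by
    apply hinj
    rw [map_one, ← map_pow, mk_pow]
    apply phi_mk_eq_one link HeBMain.hT φ hφ
    rw [tPath_eq]
    exact htfix
  have hcl : Subgroup.normalClosure {PresentedGroup.mk rels (FreeGroup.mk tWord)} = ⊤ :=
    HeCollapse.normalClosure_t
  exact isSimpleGroup_of_max _ hcore hne hmax 7 (by norm_num) (by rw [hcardH]; norm_num) _ ht hcl

end Cfsg.Agent.S1695
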