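-- Statement S4539 (a major subsection (z, b) with l(b) ≤ 2 forces k(B) ≤ p^d).
-- helper27 (planner/assembler) with leaves by helpers 4, 6, 7, 8, 9, 16, 19, 22, 23, 24, 29 on helper23's
-- subsection/contribution library.  Route (Brauer, Olsson, Robinson, Sambale): basic set from the range
-- of the integer matrix N = p^d ⟨ζ°, ζ'°⟩ of b; generalized decomposition numbers over the cyclotomic
-- field with Gram matrix C (2 × 2, reduced) and contributions p^d μ = D C' D*; Galois AM-GM gives
-- k ≤ α + γ - β ≤ p^d unless C = diag(p^r, p^d), r < d, and that case is settled with Brauer's (5H)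
-- (contributions of a height zero character have valuation exactly the height).
import Cfsg.Statements.S4539
import Cfsg.Agent.Lib.Helper27.MajSubMain

set_option autoImplicit false
open Cfsg

namespace Cfsg.Agent.S4539

/-- Let B be a p-block of the finite group G (relative to a maximal ideal M of the algebraic integers containing p) of defect d with defect group D. Let z be an element of D commuting with every element of D, and let b be a block of the centralizer C of z with defect group D that induces B (a major subsection (z, b)). If b has p-regular rank at most two, then B contains at most p ^ d irreducible characters. -/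
theorem result {G : Type*} [Group G] [Finite G] (p : ℕ) [Fact p.Prime] (M : Ideal Cfsg.AlgInt) (hM : Cfsg.IsPModular p M) (B : Set (Cfsg.IrrCharacter G)) (hB : Cfsg.IsPBlock M B) (D : Subgroup G) (hD : Cfsg.IsDefectGroup p M B D) (z : G) (hzD : z ∈ D) (hzc : ∀ d ∈ D, d * z = z * d) (b : Set (Cfsg.IrrCharacter ↥(Subgroup.centralizer ({z} : Set G)))) (hb : Cfsg.IsInducedBlock M (Subgroup.centralizer ({z} : Set G)) b B) (hbD : Cfsg.IsDefectGroup p M b (D.subgroupOf (Subgroup.centralizer ({z} : Set G)))) (hl : Cfsg.blockRank p b ≤ 2) : Nat.card B ≤ p ^ Cfsg.blockDefect p B :=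
  Cfsg.Agent.Lib.Helper27.MajSubMain.result_S4539 p M hM B hB D hD z hzD hzc b hb hbD hl

end Cfsg.Agent.S4539
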