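import Cfsg.Statements.S2003
import Cfsg.Agent.Lib.Helper12.KInfDegB
import Cfsg.Agent.Lib.Helper1.Commutator

set_option autoImplicit false
open Cfsg
open Cfsg.Agent.Lib.Helper12.KInfDeg
open scoped commutatorElement Pointwise

namespace Cfsg.Agent.S2003

/-- Let p be a prime, G a finite group, P a normal p-subgroup of G and Q a critical subgroup of P: a characteristic subgroup with Q/Z(Q) elementary abelian, [P, Q] ≤ Z(Q), C_P(Q) = Z(Q), and such that every automorphism of P of order prime to p fixing Q elementwise is trivial. Let g ∈ G and i, j ≥ 1, and suppose that [X, g, …, g] ≤ Y with i entries g for every chief factor X/Y of G with X ≤ Q, and with j entries g for every chief factor X/Y of G with X ≤ Z(Q). Then [X, g, …, g] ≤ Y with i + j − 1 entries g for every chief factor X/Y of G with X ≤ P. -/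
theorem result {G : Type*} [Group G] [Finite G] {p : ℕ} [Fact p.Prime] (P : Subgroup G) [P.Normal] (hP : IsPGroup p ↥P) (Q : Subgroup G) (hQP : Q ≤ P) (hQchar : (Q.subgroupOf P).Characteristic) (hQ1 : ∀ a ∈ Q, a ^ p ∈ Q ⊓ Subgroup.centralizer ((Q : Subgroup G) : Set G)) (hQ2 : ⁅Q, Q⁆ ≤ Subgroup.centralizer ((Q : Subgroup G) : Set G)) (hQ3 : ⁅P, Q⁆ ≤ Q ⊓ Subgroup.centralizer ((Q : Subgroup G) : Set G)) (hQ4 : P ⊓ Subgroup.centralizer ((Q : Subgroup G) : Set G) = Q ⊓ Subgroup.centralizer ((Q : Subgroup G) : Set G)) (hQ5 : ∀ φ : MulAut ↥P, (orderOf φ).Coprime p → (∀ a : ↥P, (a : G) ∈ Q → φ a = a) → φ = 1) (g : G) (i j : ℕ) (hi : 1 ≤ i) (hj : 1 ≤ j) (hQi : ∀ U V : Subgroup G, Cfsg.IsChiefFactor U V → U ≤ Q → Cfsg.iterCommutator U (Subgroup.zpowers g) i ≤ V) (hZj : ∀ U V : Subgroup G, Cfsg.IsChiefFactor U V → U ≤ Q ⊓ Subgroup.centralizer ((Q : Subgroup G) : Set G) → Cfsg.iterCommutator U (Subgroup.zpowers g) j ≤ V) : ∀ U V : Subgroup G, Cfsg.IsChiefFactor U V → U ≤ P → Cfsg.iterCommutator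 U (Subgroup.zpowers g) (i + j - 1) ≤ V := by
  classical
  intro U V hch hUP
  obtain ⟨hVU, hUn, hVn, hmin⟩ := hch
  haveI := hUn
  haveI := hVn
  set C := Subgroup.zpowers g with hC
  set Z := Q ⊓ Subgroup.centralizer ((Q : Subgroup G) : Set G) with hZ
  -- normality of `Q` and `Z`
  haveI hQn : Q.Normal := by
    have h1 := Cfsg.Agent.Lib.Helper1.normalizer_le_normalizer_map_subtype_of_characteristic P
      (Q.subgroupOf P)
    rw [Subgroup.subgroupOf_map_subtype, inf_eq_left.mpr hQP, Subgroup.normalizer_eq_top] at h1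
    exact Subgroup.normalizer_eq_top_iff.mp (top_le_iff.mp h1)
  haveI hZn : Z.Normal := by rw [hZ]; infer_instance
  have hZQ : Z ≤ Q := inf_le_left
  have hCU : C ≤ Subgroup.normalizer (U : Set G) := by
    rw [Subgroup.normalizer_eq_top]; exact le_top
  by_cases hcase : U ⊓ Z ≤ V
  · -- main case
    -- choice of `A`
    let SA : Set (Subgroup G) := {A | A.Normal ∧ A ≤ Q ∧ U ⊓ Subgroup.centralizer (A : Set G) ≤ V}
    have hQSA : Q ∈ SA := by
      refine ⟨hQn, le_rfl, ?_⟩
      intro x hx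
      apply hcase
      refine ⟨hx.1, ?_⟩
      have : x ∈ P ⊓ Subgroup.centralizer ((Q : Subgroup G) : Set G) := ⟨hUP hx.1, hx.2⟩
      rw [hQ4] at this
      exact this
    obtain ⟨A, hA, hAmin⟩ := wellFounded_lt.has_min SA ⟨Q, hQSA⟩
    obtain ⟨hAn, hAQ, hAV⟩ := hA
    haveI := hAn
    have hAne : A ≠ ⊥ := by
      rintro rfl
      apply lt_irrefl V
      refine lt_of_lt_of_le hVU ?_
      intro x hx
      apply hAV
      refine ⟨hx, ?_⟩
      show x ∈ Subgroup.centralizer _
      rw [Subgroup.mem_centralizer_iff]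
      intro y hy
      have : y = 1 := hy
      rw [this, one_mul, mul_one]
    let SA' : Set (Subgroup G) := {N | N.Normal ∧ N < A}
    obtain ⟨A', hA', hA'max⟩ := wellFounded_gt.has_min SA' ⟨⊥, inferInstance, bot_lt_iff_ne_bot.mpr hAne⟩
    obtain ⟨hA'n, hA'A⟩ := hA'
    haveI := hA'n
    have chiefA : IsChiefFactor A A' := by
      refine ⟨hA'A, hAn, hA'n, ?_⟩
      intro N hN h1 h2
      by_cases hNA : N = A
      · exact Or.inr hNA
      · left
        have hlt : N < A := lt_of_le_of_ne h2 hNA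
        by_contra hne
        exact hA'max N ⟨hN, hlt⟩ (lt_of_le_of_ne h1 (Ne.symm hne))
    have hA'nv : ¬ U ⊓ Subgroup.centralizer (A' : Set G) ≤ V := by
      intro h
      exact hAmin A' ⟨hA'n, le_trans hA'A.le hAQ, h⟩ hA'A
    set U₁ := U ⊓ Subgroup.centralizer (A' : Set G) with hU₁
    haveI hU₁n : U₁.Normal := by rw [hU₁]; infer_instance
    -- choice of `B`
    let SB : Set (Subgroup G) := {B | B.Normal ∧ B ≤ Z ∧
      ∃ X : Subgroup G, X.Normal ∧ X ≤ U₁ ∧ ¬ X ≤ V ∧ ⁅A, X⁆ ≤ B}
    have hZSB : Z ∈ SB := by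
      refine ⟨hZn, le_rfl, U₁, hU₁n, le_rfl, hA'nv, ?_⟩
      rw [Subgroup.commutator_comm]
      exact le_trans (Subgroup.commutator_mono (le_trans inf_le_left hUP) hAQ) hQ3
    obtain ⟨B, hB, hBmin⟩ := wellFounded_lt.has_min SB ⟨Z, hZSB⟩
    obtain ⟨hBn, hBZ, U₂, hU₂n, hU₂U₁, hU₂V, hAU₂⟩ := hB
    haveI := hBn
    haveI := hU₂n
    have hBne : B ≠ ⊥ := by
      rintro rfl
      apply hU₂V
      refine le_trans ?_ hAV
      refine le_inf (le_trans hU₂U₁ inf_le_left) ?_
      rw [← Subgroup.commutator_eq_bot_iff_le_centralizer, Subgroup.commutator_comm]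
      exact le_bot_iff.mp hAU₂
    let SB' : Set (Subgroup G) := {N | N.Normal ∧ N < B}
    obtain ⟨B', hB', hB'max⟩ := wellFounded_gt.has_min SB' ⟨⊥, inferInstance, bot_lt_iff_ne_bot.mpr hBne⟩
    obtain ⟨hB'n, hB'B⟩ := hB'
    haveI := hB'n
    have chiefB : IsChiefFactor B B' := by
      refine ⟨hB'B, hBn, hB'n, ?_⟩
      intro N hN h1 h2
      by_cases hNB : N = B
      · exact Or.inr hNB
      · left
        have hlt : N < B := lt_of_le_of_ne h2 hNB
        by_contra hne
        exact hB'max N ⟨hN, hlt⟩ (lt_of_le_of_ne h1 (Ne.symm hne))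
    have hBP : B ≤ P := le_trans hBZ (le_trans hZQ hQP)
    have hAi := hQi A A' chiefA hAQ
    have hBj := hZj B B' chiefB hBZ
    have hBPc : ⁅B, P⁆ ≤ B' := commutator_le_of_chief_of_normal_pGroup chiefB hP hBP
    have hA'U : ⁅A', U₂⁆ = ⊥ := by
      rw [Subgroup.commutator_comm, Subgroup.commutator_eq_bot_iff_le_centralizer]
      exact le_trans hU₂U₁ inf_le_right
    have hU₂P : U₂ ≤ P := le_trans hU₂U₁ (le_trans inf_le_left hUP)
    have hcore := core P g A A' B B' U₂ (le_trans hAQ hQP) hU₂P hBP hB'B.le i j hi hAi hBj hA'U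
      hAU₂ hBPc
    -- the left kernel
    let π := QuotientGroup.mk' B'
    set L := U₁ ⊓ (Subgroup.centralizer ((A.map π : Subgroup (G ⧸ B')) : Set (G ⧸ B'))).comap π
      with hL
    haveI : (A.map π).Normal := Subgroup.Normal.map hAn π (QuotientGroup.mk'_surjective B')
    haveI hLn : L.Normal := by rw [hL]; infer_instance
    have hmemL : ∀ u : G, u ∈ L ↔ u ∈ U₁ ∧ ∀ a ∈ A, ⁅a, u⁆ ∈ B' := by
      intro u
      rw [hL, Subgroup.mem_inf, Subgroup.mem_comap, Subgroup.mem_centralizer_iff]
      constructor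
      · rintro ⟨h1, h2⟩
        refine ⟨h1, fun a ha => ?_⟩
        have h3 := h2 _ (Subgroup.mem_map_of_mem π ha)
        rw [← commutatorElement_eq_one_iff_mul_comm, ← map_commutatorElement] at h3
        exact (QuotientGroup.eq_one_iff _).mp h3
      · rintro ⟨h1, h2⟩
        refine ⟨h1, ?_⟩
        rintro _ ⟨a, ha, rfl⟩
        rw [← commutatorElement_eq_one_iff_mul_comm, ← map_commutatorElement]
        exact (QuotientGroup.eq_one_iff _).mpr (h2 a ha)
    have hLV : L ≤ V := by
      by_contra hLV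
      apply hBmin B' ⟨hB'n, le_trans hB'B.le hBZ, L, hLn, inf_le_left, hLV, ?_⟩ hB'B
      rw [Subgroup.commutator_le]
      intro a ha u hu
      exact ((hmemL u).mp hu).2 a ha
    have hCU₂ : C ≤ Subgroup.normalizer (U₂ : Set G) := by
      rw [Subgroup.normalizer_eq_top]; exact le_top
    have hiterL : iterCommutator U₂ C (i + j - 1) ≤ L := by
      intro u hu
      rw [hmemL]
      refine ⟨hU₂U₁ (iter_le_self U₂ C hCU₂ _ hu), fun a ha => ?_⟩
      exact hcore (Subgroup.commutator_mem_commutator ha hu)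
    have hsup : U₂ ⊔ V = U := by
      have hle : U₂ ⊔ V ≤ U := sup_le (le_trans hU₂U₁ inf_le_left) hVU.le
      rcases hmin (U₂ ⊔ V) inferInstance le_sup_right hle with h | h
      · exact absurd (h ▸ le_sup_left) hU₂V
      · exact h
    exact iter_le_of_sup_eq hsup _ (le_trans hiterL hLV)
  · -- the chief factor is covered by `Z`
    set U' := U ⊓ Z with hU'
    set V' := V ⊓ Z with hV'
    haveI hU'n : U'.Normal := by rw [hU']; infer_instance
    haveI hV'n : V'.Normal := by rw [hV']; infer_instance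
    have hsup : U' ⊔ V = U := by
      have hle : U' ⊔ V ≤ U := sup_le inf_le_left hVU.le
      rcases hmin (U' ⊔ V) inferInstance le_sup_right hle with h | h
      · exact absurd (h ▸ le_sup_left) hcase
      · exact h
    have hV'U' : V' ≤ U' := inf_le_inf_right Z hVU.le
    have chief' : IsChiefFactor U' V' := by
      refine ⟨lt_of_le_of_ne hV'U' ?_, hU'n, hV'n, ?_⟩
      · intro h
        apply hcase
        rw [← h, hV']
        exact inf_le_left
      · intro N hN h1 h2
        haveI := hN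
        have hle : N ⊔ V ≤ U := sup_le (le_trans h2 inf_le_left) hVU.le
        rcases hmin (N ⊔ V) inferInstance le_sup_right hle with h | h
        · left
          apply le_antisymm _ h1
          exact le_inf (h ▸ le_sup_left) (le_trans h2 inf_le_right)
        · right
          apply le_antisymm h2
          intro x hx
          have hxU : x ∈ N ⊔ V := by rw [h]; exact hx.1
          have hmul : x ∈ ((N : Set G) * (V : Set G)) := by
            rw [← Subgroup.mul_normal]; exact hxU
          obtain ⟨n, hn, v, hv, rfl⟩ := Set.mem_mul.mp hmul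
          have hnZ : n ∈ Z := (le_trans h2 inf_le_right) hn
          have hvZ : v ∈ Z := by
            have : v = n⁻¹ * (n * v) := by group
            rw [this]
            exact Z.mul_mem (Z.inv_mem hnZ) hx.2
          exact N.mul_mem hn (h1 ⟨hv, hvZ⟩)
    have h1 := hZj U' V' chief' inf_le_right
    have h2 : iterCommutator U C j ≤ V :=
      iter_le_of_sup_eq hsup j (le_trans h1 inf_le_left)
    exact le_trans (iter_antitone U C hCU (by omega)) h2

end Cfsg.Agent.S2003
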