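import Cfsg.Statements.S2572
-- import your own Cfsg.Agent.* helpers here

set_option autoImplicit false
open Cfsg

namespace Cfsg.Agent.S2572

open Matrix Module

variable {F : Type*} [Field F] {k : ℕ}

/-- The shape of matrices commuting with `single 1 0 1`. -/
def mk (a c : F) (b d : Fin k → F) (H : Matrix (Fin k) (Fin k) F) :
    Matrix (Fin (k+2)) (Fin (k+2)) F :=
  Matrix.of (Fin.cons (Fin.cons a (Fin.cons 0 0))
    (Fin.cons (Fin.cons c (Fin.cons a b)) (fun r => Fin.cons (d r) (Fin.cons 0 (H r)))))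

@[simp] theorem mk_00 (a c : F) (b d : Fin k → F) (H) : mk a c b d H 0 0 = a := rfl
@[simp] theorem mk_01 (a c : F) (b d : Fin k → F) (H) : mk a c b d H 0 1 = 0 := rfl
@[simp] theorem mk_0s (a c : F) (b d : Fin k → F) (H) (j : Fin k) :
    mk a c b d H 0 j.succ.succ = 0 := rfl
@[simp] theorem mk_10 (a c : F) (b d : Fin k → F) (H) : mk a c b d H 1 0 = c := rfl
@[simp] theorem mk_11 (a c : F) (b d : Fin k → F) (H) : mk a c b d H 1 1 = a := rfl
@[simp] theorem mk_1s (a c : F) (b d : Fin k → F) (H) (j : Fin k) :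
    mk a c b d H 1 j.succ.succ = b j := rfl
@[simp] theorem mk_s0 (a c : F) (b d : Fin k → F) (H) (r : Fin k) :
    mk a c b d H r.succ.succ 0 = d r := rfl
@[simp] theorem mk_s1 (a c : F) (b d : Fin k → F) (H) (r : Fin k) :
    mk a c b d H r.succ.succ 1 = 0 := rfl
@[simp] theorem mk_ss (a c : F) (b d : Fin k → F) (H) (r j : Fin k) :
    mk a c b d H r.succ.succ j.succ.succ = H r j := rfl

theorem fin_cases2 {P : Fin (k+2) → Prop} (h0 : P 0) (h1 : P 1) (hs : ∀ j : Fin k, P j.succ.succ) :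
    ∀ i, P i := by
  intro i
  refine Fin.cases h0 (fun i' => ?_) i
  refine Fin.cases h1 (fun j => hs j) i'

theorem comm_iff (g : Matrix (Fin (k+2)) (Fin (k+2)) F) :
    g * Matrix.single 1 0 1 = Matrix.single 1 0 1 * g ↔
      g 1 1 = g 0 0 ∧ g 0 1 = 0 ∧ (∀ j : Fin k, g 0 j.succ.succ = 0) ∧
        (∀ r : Fin k, g r.succ.succ 1 = 0) := by
  have h10 : (1 : Fin (k+2)) ≠ 0 := by
    intro h; exact absurd (congrArg Fin.val h) (by simp)
  have hs0 : ∀ j : Fin k, (j.succ.succ : Fin (k+2)) ≠ 0 := fun j => Fin.succ_ne_zero _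
  have hs1 : ∀ j : Fin k, (j.succ.succ : Fin (k+2)) ≠ 1 := by
    intro j h
    have := congrArg Fin.val h
    simp at this
  have h01 : (0 : Fin (k+2)) ≠ 1 := fun h => h10 h.symm
  constructor
  · intro h
    have e := fun r j => congrFun (congrFun h r) j
    refine ⟨?_, ?_, ?_, ?_⟩
    · have := e 1 0
      rw [Matrix.mul_single_apply_same, Matrix.single_mul_apply_same] at this
      simpa using this
    · have := e 0 0
      rw [Matrix.mul_single_apply_same, Matrix.single_mul_apply_of_ne (h := h01)] at this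
      simpa using this
    · intro j
      have := e 1 j.succ.succ
      rw [Matrix.mul_single_apply_of_ne (hbj := hs0 j), Matrix.single_mul_apply_same] at this
      simpa using this.symm
    · intro r
      have := e r.succ.succ 0
      rw [Matrix.mul_single_apply_same, Matrix.single_mul_apply_of_ne (h := hs1 r)] at this
      simpa using this
  · rintro ⟨h11, h01', h0s, hs1'⟩
    ext r j
    revert j
    apply fin_cases2
    · rw [Matrix.mul_single_apply_same]
      revert r
      apply fin_cases2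
      · rw [Matrix.single_mul_apply_of_ne (h := h01)]; simp [h01']
      · rw [Matrix.single_mul_apply_same]; simp [h11]
      · intro r; rw [Matrix.single_mul_apply_of_ne (h := hs1 r)]; simp [hs1']
    · rw [Matrix.mul_single_apply_of_ne (hbj := h10)]
      revert r
      apply fin_cases2
      · rw [Matrix.single_mul_apply_of_ne (h := h01)]
      · rw [Matrix.single_mul_apply_same]; simp [h01']
      · intro r; rw [Matrix.single_mul_apply_of_ne (h := hs1 r)]
    · intro j
      rw [Matrix.mul_single_apply_of_ne (hbj := hs0 j)]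
      revert r
      apply fin_cases2
      · rw [Matrix.single_mul_apply_of_ne (h := h01)]
      · rw [Matrix.single_mul_apply_same]; simp [h0s]
      · intro r; rw [Matrix.single_mul_apply_of_ne (h := hs1 r)]


theorem eq_mk (g : Matrix (Fin (k+2)) (Fin (k+2)) F)
    (h : g 1 1 = g 0 0 ∧ g 0 1 = 0 ∧ (∀ j : Fin k, g 0 j.succ.succ = 0) ∧
        (∀ r : Fin k, g r.succ.succ 1 = 0)) :
    g = mk (g 0 0) (g 1 0) (fun j => g 1 j.succ.succ) (fun r => g r.succ.succ 0)
      (g.submatrix (fun r => r.succ.succ) (fun j => j.succ.succ)) := by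
  obtain ⟨h11, h01, h0s, hs1⟩ := h
  ext r j
  revert j
  revert r
  apply fin_cases2
  · apply fin_cases2
    · simp
    · simp [h01]
    · intro j; simp [h0s]
  · apply fin_cases2
    · simp
    · simp [h11]
    · intro j; simp
  · intro r
    apply fin_cases2
    · simp
    · simp [hs1]
    · intro j; simp

theorem mk_comm (a c : F) (b d : Fin k → F) (H : Matrix (Fin k) (Fin k) F) :
    mk a c b d H * Matrix.single 1 0 1 = Matrix.single 1 0 1 * mk a c b d H := by
  rw [comm_iff]
  simp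

theorem det_mk (a c : F) (b d : Fin k → F) (H : Matrix (Fin k) (Fin k) F) :
    (mk a c b d H).det = a * a * H.det := by
  rw [Matrix.det_succ_row_zero, Fin.sum_univ_succ]
  have hrest : ∑ i : Fin (k+1), (-1 : F) ^ ((i.succ : Fin (k+2)) : ℕ) * mk a c b d H 0 i.succ *
      ((mk a c b d H).submatrix Fin.succ (Fin.succAbove i.succ)).det = 0 := by
    apply Finset.sum_eq_zero
    intro i _
    have : mk a c b d H 0 i.succ = 0 := by
      refine Fin.cases ?_ (fun j => ?_) i
      · rfl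
      · rfl
    rw [this]; ring
  rw [hrest, add_zero]
  simp only [Fin.val_zero, pow_zero, one_mul, mk_00, Fin.succAbove_zero]
  rw [Matrix.det_succ_column_zero, Fin.sum_univ_succ]
  have hrest2 : ∑ i : Fin k, (-1 : F) ^ ((i.succ : Fin (k+1)) : ℕ) *
      ((mk a c b d H).submatrix Fin.succ Fin.succ) i.succ 0 *
      (((mk a c b d H).submatrix Fin.succ Fin.succ).submatrix (Fin.succAbove i.succ) Fin.succ).det = 0 := by
    apply Finset.sum_eq_zero
    intro i _
    have : ((mk a c b d H).submatrix Fin.succ Fin.succ) i.succ 0 = 0 := rfl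
    rw [this]; ring
  rw [hrest2, add_zero]
  simp only [Fin.val_zero, pow_zero, one_mul, Fin.succAbove_zero]
  have h1 : ((mk a c b d H).submatrix Fin.succ Fin.succ) 0 0 = a := rfl
  have h2 : (((mk a c b d H).submatrix Fin.succ Fin.succ).submatrix Fin.succ Fin.succ) = H := by
    ext r j; rfl
  rw [h1, h2]
  ring


theorem ne_zero_of_comm (g : GL (Fin (k+2)) F)
    (h : (g : Matrix (Fin (k+2)) (Fin (k+2)) F) * Matrix.single 1 0 1 =
      Matrix.single 1 0 1 * (g : Matrix (Fin (k+2)) (Fin (k+2)) F)) :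
    (g : Matrix (Fin (k+2)) (Fin (k+2)) F) 0 0 ≠ 0 ∧
      ((g : Matrix (Fin (k+2)) (Fin (k+2)) F).submatrix (fun r : Fin k => r.succ.succ)
        (fun j : Fin k => j.succ.succ)).det ≠ 0 := by
  have h1 := eq_mk _ ((comm_iff _).mp h)
  have h2 : (g : Matrix (Fin (k+2)) (Fin (k+2)) F).det ≠ 0 := (Matrix.isUnits_det_units g).ne_zero
  rw [h1, det_mk] at h2
  constructor
  · intro h0; apply h2; rw [h0]; ring
  · intro h0; apply h2; rw [h0]; ring

noncomputable def commEquiv :
    {g : GL (Fin (k+2)) F // (g : Matrix (Fin (k+2)) (Fin (k+2)) F) * Matrix.single 1 0 1 =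
      Matrix.single 1 0 1 * (g : Matrix (Fin (k+2)) (Fin (k+2)) F)} ≃
    Fˣ × F × (Fin k → F) × (Fin k → F) × GL (Fin k) F where
  toFun g := (Units.mk0 _ (ne_zero_of_comm g.1 g.2).1, (g.1 : Matrix (Fin (k+2)) (Fin (k+2)) F) 1 0,
    (fun j => (g.1 : Matrix (Fin (k+2)) (Fin (k+2)) F) 1 j.succ.succ),
    (fun r => (g.1 : Matrix (Fin (k+2)) (Fin (k+2)) F) r.succ.succ 0),
    Matrix.GeneralLinearGroup.mkOfDetNeZero _ (ne_zero_of_comm g.1 g.2).2)
  invFun p := ⟨Matrix.GeneralLinearGroup.mkOfDetNeZero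
      (mk (p.1 : F) p.2.1 p.2.2.1 p.2.2.2.1 (p.2.2.2.2 : Matrix (Fin k) (Fin k) F)) (by
        rw [det_mk]
        exact mul_ne_zero (mul_ne_zero p.1.ne_zero p.1.ne_zero)
          (Matrix.isUnits_det_units p.2.2.2.2).ne_zero),
    mk_comm _ _ _ _ _⟩
  left_inv g := by
    apply Subtype.ext
    apply Units.ext
    exact (eq_mk _ ((comm_iff _).mp g.2)).symm
  right_inv p := by
    obtain ⟨a, c, b, d, H⟩ := p
    refine Prod.ext (Units.ext rfl) (Prod.ext rfl (Prod.ext rfl (Prod.ext rfl (Units.ext ?_))))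
    ext r j
    rfl

theorem card_comm [Fintype F] :
    Nat.card {g : GL (Fin (k+2)) F // (g : Matrix (Fin (k+2)) (Fin (k+2)) F) * Matrix.single 1 0 1 =
      Matrix.single 1 0 1 * (g : Matrix (Fin (k+2)) (Fin (k+2)) F)} =
    Fintype.card F ^ (2 * k + 1) * (Fintype.card F - 1) *
      ∏ i : Fin k, (Fintype.card F ^ k - Fintype.card F ^ (i : ℕ)) := by
  rw [Nat.card_congr commEquiv, Nat.card_prod, Nat.card_prod, Nat.card_prod, Nat.card_prod,
    Nat.card_units, Matrix.card_GL_field, Nat.card_eq_fintype_card, Nat.card_eq_fintype_card]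
  simp only [Fintype.card_pi, Finset.prod_const, Finset.card_univ, Fintype.card_fin]
  ring


theorem exists_basis {V : Type*} [AddCommGroup V] [Module F V] [FiniteDimensional F V] {k : ℕ}
    (f : V →ₗ[F] V) (hfin : finrank F V = k + 2) (hrange : finrank F (LinearMap.range f) = 1)
    (hff : ∀ x, f (f x) = 0) :
    ∃ b : Basis (Fin (k+2)) F V, f (b 0) = b 1 ∧ ∀ i, i ≠ 0 → f (b i) = 0 := by
  classical
  have hkerdim : finrank F (LinearMap.ker f) = k + 1 := by
    have := LinearMap.finrank_range_add_finrank_ker f; omega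
  obtain ⟨w, hw⟩ : ∃ w, f w ≠ 0 := by
    by_contra h; push Not at h
    have : LinearMap.range f = ⊥ := by
      rw [LinearMap.range_eq_bot]; exact LinearMap.ext h
    rw [this, finrank_bot] at hrange; omega
  obtain ⟨v, hv⟩ : ∃ v, v = f w := ⟨_, rfl⟩
  rw [← hv] at hw
  have hspan : ∀ z, ∃ μ : F, f z = μ • v := by
    have h1 := (finrank_eq_one_iff_of_nonzero' (⟨v, hv ▸ LinearMap.mem_range_self f w⟩ : LinearMap.range f)
      (by simpa [Subtype.ext_iff] using hw)).mp hrange
    intro z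
    obtain ⟨μ, hμ⟩ := h1 ⟨f z, LinearMap.mem_range_self f z⟩
    exact ⟨μ, by simpa [Subtype.ext_iff] using hμ.symm⟩
  have hvK : v ∈ LinearMap.ker f := by rw [LinearMap.mem_ker, hv]; exact hff w
  have hv' : (⟨v, hvK⟩ : LinearMap.ker f) ≠ 0 := by
    intro h; exact hw (congrArg Subtype.val h)
  obtain ⟨ψ, hψ⟩ := Module.Projective.exists_dual_eq_one F hv'
  have hkψ : finrank F (LinearMap.ker ψ) = k := by
    have h1 := LinearMap.finrank_range_add_finrank_ker ψ
    have h2 : LinearMap.range ψ = ⊤ := by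
      rw [LinearMap.range_eq_top]; intro c
      exact ⟨c • ⟨v, hvK⟩, by rw [map_smul, hψ, smul_eq_mul, mul_one]⟩
    rw [h2, finrank_top, finrank_self] at h1
    omega
  let b0 : Basis (Fin k) F (LinearMap.ker ψ) := Module.finBasisOfFinrankEq F _ hkψ
  let b1 : Basis (Fin (k+1)) F (LinearMap.ker f) := Module.Basis.mkFinCons ⟨v, hvK⟩ b0 (by
      intro c x hx h
      have := congrArg ψ h
      rw [map_add, map_smul, hψ, LinearMap.mem_ker.mp hx, map_zero, add_zero, smul_eq_mul, mul_one] at this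
      exact this)
    (by
      intro z
      exact ⟨-ψ z, by rw [LinearMap.mem_ker, map_add, map_smul, hψ]; simp⟩)
  let b2 : Basis (Fin (k+2)) F V := Module.Basis.mkFinCons w b1 (by
      intro c x hx h
      have := congrArg f h
      rw [map_add, map_smul, LinearMap.mem_ker.mp hx, add_zero, map_zero, ← hv] at this
      exact (smul_eq_zero.mp this).resolve_right hw)
    (by
      intro z; obtain ⟨μ, hμ⟩ := hspan z
      exact ⟨-μ, by rw [LinearMap.mem_ker, map_add, map_smul, hμ, ← hv]; simp⟩)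
  have hb2_0 : b2 0 = w := by simp [b2]
  have hb2_1 : b2 1 = v := by
    have : (1 : Fin (k+2)) = Fin.succ 0 := rfl
    rw [this]
    simp [b2, b1]
  have hb2_s : ∀ i : Fin (k+2), i ≠ 0 → f (b2 i) = 0 := by
    intro i hi
    obtain ⟨j, rfl⟩ := Fin.exists_succ_eq.mpr hi
    have : b2 j.succ = (b1 j : V) := by simp [b2]
    rw [this]
    exact (b1 j).2
  exact ⟨b2, by rw [hb2_0, hb2_1, hv], hb2_s⟩

theorem exists_normal_form {k : ℕ} (A : Matrix (Fin (k+2)) (Fin (k+2)) F) (hr : A.rank = 1)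
    (hsq : A * A = 0) :
    ∃ P Q : Matrix (Fin (k+2)) (Fin (k+2)) F, P * Q = 1 ∧ Q * P = 1 ∧
      A * P = P * Matrix.single 1 0 1 := by
  classical
  obtain ⟨b2, h0, hs⟩ := exists_basis (k := k) (Matrix.toLin' A) (by simp) hr (by
    intro x
    rw [Matrix.toLin'_apply, Matrix.toLin'_apply, Matrix.mulVec_mulVec, hsq, Matrix.zero_mulVec])
  refine ⟨(Pi.basisFun F (Fin (k+2))).toMatrix b2, b2.toMatrix (Pi.basisFun F (Fin (k+2))),
    Basis.toMatrix_mul_toMatrix_flip _ _, Basis.toMatrix_mul_toMatrix_flip _ _, ?_⟩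
  ext r i
  have hL : (A * (Pi.basisFun F (Fin (k+2))).toMatrix b2) r i = Matrix.toLin' A (b2 i) r := by
    rw [Matrix.toLin'_apply]
    simp [Matrix.mul_apply, Matrix.mulVec, dotProduct, Basis.toMatrix_apply]
  rw [hL]
  by_cases hi : i = 0
  · subst hi
    rw [Matrix.mul_single_apply_same, h0, mul_one, Basis.toMatrix_apply]
    simp
  · rw [Matrix.mul_single_apply_of_ne (hbj := hi), hs i hi]
    rfl

/-- Centraliser of a transvection in GL_n(q), n ≥ 2: if t − 1 has rank one and square zero, the centraliser of t in GL_n(q) has order q^(2n−3) (q − 1) |GL_(n−2)(q)| (a group of order q^(2n−3) extended by GL_1(q) × GL_(n−2)(q)). -/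
theorem result {F : Type*} [Field F] [Fintype F] {q n : ℕ} (hF : Fintype.card F = q) (hn : 2 ≤ n) (t : GL (Fin n) F) (ht : Cfsg.IsTransvection (t : Matrix (Fin n) (Fin n) F)) : Nat.card ↥(Subgroup.centralizer ({t} : Set (GL (Fin n) F))) = q ^ (2 * n - 3) * (q - 1) * ∏ i : Fin (n - 2), (q ^ (n - 2) - q ^ (i : ℕ)) := by
  classical
  obtain ⟨k, rfl⟩ : ∃ k, n = k + 2 := ⟨n - 2, by omega⟩
  obtain ⟨A, hA⟩ : ∃ A : Matrix (Fin (k+2)) (Fin (k+2)) F,
      A = (t : Matrix (Fin (k+2)) (Fin (k+2)) F) - 1 := ⟨_, rfl⟩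
  obtain ⟨P, Q, hPQ, hQP, hAP⟩ := exists_normal_form A (hA ▸ ht.1) (hA ▸ ht.2)
  obtain ⟨E, hE⟩ : ∃ E : Matrix (Fin (k+2)) (Fin (k+2)) F, E = Matrix.single 1 0 1 := ⟨_, rfl⟩
  rw [← hE] at hAP
  have hQA : Q * A = E * Q := by
    calc Q * A = Q * A * (P * Q) := by rw [hPQ, mul_one]
      _ = Q * (A * P) * Q := by simp only [mul_assoc]
      _ = Q * (P * E) * Q := by rw [hAP]
      _ = (Q * P) * E * Q := by simp only [mul_assoc]
      _ = E * Q := by rw [hQP, one_mul]
  have ht1 : (t : Matrix (Fin (k+2)) (Fin (k+2)) F) = A + 1 := by rw [hA]; abel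
  let Pu : GL (Fin (k+2)) F := ⟨P, Q, hPQ, hQP⟩
  have hPu : (Pu : Matrix (Fin (k+2)) (Fin (k+2)) F) = P := rfl
  have hPui : ((Pu⁻¹ : GL (Fin (k+2)) F) : Matrix (Fin (k+2)) (Fin (k+2)) F) = Q := rfl
  have key : ∀ c : GL (Fin (k+2)) F, c ∈ Subgroup.centralizer ({t} : Set (GL (Fin (k+2)) F)) ↔
      ((Pu⁻¹ * c * Pu : GL (Fin (k+2)) F) : Matrix (Fin (k+2)) (Fin (k+2)) F) * E =
        E * ((Pu⁻¹ * c * Pu : GL (Fin (k+2)) F) : Matrix (Fin (k+2)) (Fin (k+2)) F) := by
    intro c
    rw [Subgroup.mem_centralizer_iff]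
    simp only [Units.val_mul, hPu, hPui]
    have h1 : Q * (c : Matrix (Fin (k+2)) (Fin (k+2)) F) * P * E
        = Q * ((c : Matrix (Fin (k+2)) (Fin (k+2)) F) * A) * P := by
      rw [mul_assoc (Q * _), ← hAP]; simp only [mul_assoc]
    have h2 : E * (Q * (c : Matrix (Fin (k+2)) (Fin (k+2)) F) * P)
        = Q * (A * (c : Matrix (Fin (k+2)) (Fin (k+2)) F)) * P := by
      rw [← mul_assoc, ← mul_assoc, ← hQA]; simp only [mul_assoc]
    rw [h1, h2]
    constructor
    · intro h
      have h3 := h t rfl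
      have h4 : (t : Matrix (Fin (k+2)) (Fin (k+2)) F) * (c : Matrix (Fin (k+2)) (Fin (k+2)) F)
          = (c : Matrix (Fin (k+2)) (Fin (k+2)) F) * (t : Matrix (Fin (k+2)) (Fin (k+2)) F) := by
        have := congrArg (fun x : GL (Fin (k+2)) F => (x : Matrix (Fin (k+2)) (Fin (k+2)) F)) h3
        simpa using this
      rw [ht1, add_mul, mul_add, one_mul, mul_one] at h4
      rw [add_right_cancel h4]
    · intro h x hx
      rw [Set.mem_singleton_iff.mp hx]
      have h5 : (c : Matrix (Fin (k+2)) (Fin (k+2)) F) * A = A * (c : Matrix (Fin (k+2)) (Fin (k+2)) F) := by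
        have h6 := congrArg (fun M => P * M * Q) h
        have e1 : ∀ M : Matrix (Fin (k+2)) (Fin (k+2)) F, P * (Q * M * P) * Q = M := by
          intro M
          calc P * (Q * M * P) * Q = (P * Q) * M * (P * Q) := by simp only [mul_assoc]
            _ = M := by rw [hPQ, one_mul, mul_one]
        rw [e1, e1] at h6
        exact h6
      apply Units.ext
      simp only [Units.val_mul]
      rw [ht1, add_mul, mul_add, one_mul, mul_one, h5]
  let e : ↥(Subgroup.centralizer ({t} : Set (GL (Fin (k+2)) F))) ≃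
      {g : GL (Fin (k+2)) F // (g : Matrix (Fin (k+2)) (Fin (k+2)) F) * E =
        E * (g : Matrix (Fin (k+2)) (Fin (k+2)) F)} :=
    { toFun := fun c => ⟨Pu⁻¹ * c.1 * Pu, (key c.1).mp c.2⟩
      invFun := fun g => ⟨Pu * g.1 * Pu⁻¹, (key _).mpr (by
        have : Pu⁻¹ * (Pu * g.1 * Pu⁻¹) * Pu = g.1 := by group
        rw [this]; exact g.2)⟩
      left_inv := fun c => by
        apply Subtype.ext
        show Pu * (Pu⁻¹ * c.1 * Pu) * Pu⁻¹ = c.1
        group
      right_inv := fun g => by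
        apply Subtype.ext
        show Pu⁻¹ * (Pu * g.1 * Pu⁻¹) * Pu = g.1
        group }
  rw [Nat.card_congr e]
  subst hE
  rw [card_comm, hF]
  have h3 : 2 * (k + 2) - 3 = 2 * k + 1 := by omega
  rw [h3]
  rfl

end Cfsg.Agent.S2572
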