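import Cfsg.Statements.S2579
-- import your own Cfsg.Agent.* helpers here

set_option autoImplicit false
open Cfsg

namespace Cfsg.Agent.S2579

open Matrix Module

variable {F : Type*} [Field F]

theorem exists_basis {V : Type*} [AddCommGroup V] [Module F V] [FiniteDimensional F V] {k : ℕ}
    (f : V →ₗ[F] V) (hfin : finrank F V = k + 3) (hrange : finrank F (LinearMap.range f) = 1)
    (hff : ∀ x, f (f x) = 0) :
    ∃ b : Basis (Fin (k+3)) F V, f (b 0) = b 1 ∧ ∀ i, i ≠ 0 → f (b i) = 0 := by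
  classical
  have hkerdim : finrank F (LinearMap.ker f) = k + 2 := by
    have := LinearMap.finrank_range_add_finrank_ker f; omega
  obtain ⟨w, hw⟩ : ∃ w, f w ≠ 0 := by
    by_contra h; push Not at h
    have : LinearMap.range f = ⊥ := by
      rw [LinearMap.range_eq_bot]; exact LinearMap.ext h
    rw [this, finrank_bot] at hrange; omega
  obtain ⟨v, hv⟩ : ∃ v, v = f w := ⟨_, rfl⟩
  rw [← hv] at hw
  have hspan : ∀ z, ∃ μ : F, f z = μ • v := by
    have h1 := (finrank_eq_one_iff_of_nonzero' (⟨v, hv ▸ LinearMap.mem_range_self f w⟩ : LinearMap.range f)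
      (by simpa [Subtype.ext_iff] using hw)).mp hrange
    intro z
    obtain ⟨μ, hμ⟩ := h1 ⟨f z, LinearMap.mem_range_self f z⟩
    exact ⟨μ, by simpa [Subtype.ext_iff] using hμ.symm⟩
  have hvK : v ∈ LinearMap.ker f := by rw [LinearMap.mem_ker, hv]; exact hff w
  have hv' : (⟨v, hvK⟩ : LinearMap.ker f) ≠ 0 := by
    intro h; exact hw (congrArg Subtype.val h)
  obtain ⟨ψ, hψ⟩ := Module.Projective.exists_dual_eq_one F hv'
  have hkψ : finrank F (LinearMap.ker ψ) = k + 1 := by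
    have h1 := LinearMap.finrank_range_add_finrank_ker ψ
    have h2 : LinearMap.range ψ = ⊤ := by
      rw [LinearMap.range_eq_top]; intro c
      exact ⟨c • ⟨v, hvK⟩, by rw [map_smul, hψ, smul_eq_mul, mul_one]⟩
    rw [h2, finrank_top, finrank_self] at h1
    omega
  let b0 : Basis (Fin (k+1)) F (LinearMap.ker ψ) := Module.finBasisOfFinrankEq F _ hkψ
  let b1 : Basis (Fin (k+2)) F (LinearMap.ker f) := Module.Basis.mkFinCons ⟨v, hvK⟩ b0 (by
      intro c x hx h
      have := congrArg ψ h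
      rw [map_add, map_smul, hψ, LinearMap.mem_ker.mp hx, map_zero, add_zero, smul_eq_mul, mul_one] at this
      exact this)
    (by
      intro z
      exact ⟨-ψ z, by rw [LinearMap.mem_ker, map_add, map_smul, hψ]; simp⟩)
  let b2 : Basis (Fin (k+3)) F V := Module.Basis.mkFinCons w b1 (by
      intro c x hx h
      have := congrArg f h
      rw [map_add, map_smul, LinearMap.mem_ker.mp hx, add_zero, map_zero, ← hv] at this
      exact (smul_eq_zero.mp this).resolve_right hw)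
    (by
      intro z; obtain ⟨μ, hμ⟩ := hspan z
      exact ⟨-μ, by rw [LinearMap.mem_ker, map_add, map_smul, hμ, ← hv]; simp⟩)
  have hb2_0 : b2 0 = w := by simp [b2]
  have hb2_1 : b2 1 = v := by
    have : (1 : Fin (k+3)) = Fin.succ 0 := rfl
    rw [this]
    simp [b2, b1]
  have hb2_s : ∀ i : Fin (k+3), i ≠ 0 → f (b2 i) = 0 := by
    intro i hi
    obtain ⟨j, rfl⟩ := Fin.exists_succ_eq.mpr hi
    have : b2 j.succ = (b1 j : V) := by simp [b2]
    rw [this]
    exact (b1 j).2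
  exact ⟨b2, by rw [hb2_0, hb2_1, hv], hb2_s⟩

theorem exists_normal_form {k : ℕ} (A : Matrix (Fin (k+3)) (Fin (k+3)) F) (hr : A.rank = 1)
    (hsq : A * A = 0) :
    ∃ P Q : Matrix (Fin (k+3)) (Fin (k+3)) F, P * Q = 1 ∧ Q * P = 1 ∧
      A * P = P * Matrix.single 1 0 1 := by
  classical
  obtain ⟨b2, h0, hs⟩ := exists_basis (k := k) (Matrix.toLin' A) (by simp) hr (by
    intro x
    rw [Matrix.toLin'_apply, Matrix.toLin'_apply, Matrix.mulVec_mulVec, hsq, Matrix.zero_mulVec])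
  refine ⟨(Pi.basisFun F (Fin (k+3))).toMatrix b2, b2.toMatrix (Pi.basisFun F (Fin (k+3))),
    Basis.toMatrix_mul_toMatrix_flip _ _, Basis.toMatrix_mul_toMatrix_flip _ _, ?_⟩
  ext r i
  have hL : (A * (Pi.basisFun F (Fin (k+3))).toMatrix b2) r i = Matrix.toLin' A (b2 i) r := by
    rw [Matrix.toLin'_apply]
    simp [Matrix.mul_apply, Matrix.mulVec, dotProduct, Basis.toMatrix_apply]
  rw [hL]
  by_cases hi : i = 0
  · subst hi
    rw [Matrix.mul_single_apply_same, h0, mul_one, Basis.toMatrix_apply]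
    simp
  · rw [Matrix.mul_single_apply_of_ne (hbj := hi), hs i hi]
    rfl

/-- In SL_n(F) with n ≥ 3, over a finite field F, any two transvections (matrices t with t − 1 of rank one and square zero) are conjugate by an element of SL_n(F). -/
theorem result {F : Type*} [Field F] [Finite F] {n : ℕ} (hn : 3 ≤ n) (s t : Matrix.SpecialLinearGroup (Fin n) F) (hs : Cfsg.IsTransvection (s : Matrix (Fin n) (Fin n) F)) (ht : Cfsg.IsTransvection (t : Matrix (Fin n) (Fin n) F)) : IsConj s t := by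
  classical
  obtain ⟨k, rfl⟩ : ∃ k, n = k + 3 := ⟨n - 3, by omega⟩
  obtain ⟨A, hA⟩ : ∃ A : Matrix (Fin (k+3)) (Fin (k+3)) F, A = (s : Matrix (Fin (k+3)) (Fin (k+3)) F) - 1 := ⟨_, rfl⟩
  obtain ⟨A', hA'⟩ : ∃ A' : Matrix (Fin (k+3)) (Fin (k+3)) F, A' = (t : Matrix (Fin (k+3)) (Fin (k+3)) F) - 1 := ⟨_, rfl⟩
  obtain ⟨P, Q, hPQ, hQP, hAP⟩ := exists_normal_form A (hA ▸ hs.1) (hA ▸ hs.2)
  obtain ⟨P', Q', hPQ', hQP', hAP'⟩ := exists_normal_form A' (hA' ▸ ht.1) (hA' ▸ ht.2)
  obtain ⟨E, hE⟩ : ∃ E : Matrix (Fin (k+3)) (Fin (k+3)) F, E = Matrix.single 1 0 1 := ⟨_, rfl⟩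
  rw [← hE] at hAP hAP'
  have hdP' : P'.det * Q'.det = 1 := by rw [← Matrix.det_mul, hPQ', Matrix.det_one]
  have hdQ : Q.det * P.det = 1 := by rw [← Matrix.det_mul, hQP, Matrix.det_one]
  obtain ⟨lam, hlam⟩ : ∃ lam : F, lam = Q'.det * P.det := ⟨_, rfl⟩
  obtain ⟨d, hd⟩ : ∃ d : Fin (k+3) → F, d = Function.update (fun _ => 1) 2 lam := ⟨_, rfl⟩
  have h02 : (0 : Fin (k+3)) ≠ 2 := by
    intro h; have := congrArg Fin.val h
    rw [Fin.val_zero, Fin.val_two] at this; omega
  have h12 : (1 : Fin (k+3)) ≠ 2 := by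
    intro h; have := congrArg Fin.val h
    rw [Fin.val_one, Fin.val_two] at this; omega
  have hd0 : d 0 = 1 := by rw [hd, Function.update_of_ne h02]
  have hd1 : d 1 = 1 := by rw [hd, Function.update_of_ne h12]
  have hdetD : (Matrix.diagonal d).det = lam := by
    rw [Matrix.det_diagonal, hd, Finset.prod_update_of_mem (Finset.mem_univ _)]; simp
  have hDE : Matrix.diagonal d * E = E * Matrix.diagonal d := by
    ext i j
    rw [Matrix.diagonal_mul, Matrix.mul_diagonal, hE]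
    by_cases h : (1 : Fin (k+3)) = i ∧ (0 : Fin (k+3)) = j
    · obtain ⟨rfl, rfl⟩ := h
      simp [hd0, hd1]
    · rw [Matrix.single_apply_of_ne _ _ _ _ _ h]
      simp
  obtain ⟨g, hg⟩ : ∃ g : Matrix (Fin (k+3)) (Fin (k+3)) F, g = P' * Matrix.diagonal d * Q := ⟨_, rfl⟩
  have hgdet : g.det = 1 := by
    rw [hg, Matrix.det_mul, Matrix.det_mul, hdetD, hlam]
    calc P'.det * (Q'.det * P.det) * Q.det = (P'.det * Q'.det) * (Q.det * P.det) := by ring
      _ = 1 := by rw [hdP', hdQ, one_mul]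
  have hQA : Q * A = E * Q := by
    calc Q * A = Q * A * (P * Q) := by rw [hPQ, mul_one]
      _ = Q * (A * P) * Q := by simp only [mul_assoc]
      _ = Q * (P * E) * Q := by rw [hAP]
      _ = (Q * P) * E * Q := by simp only [mul_assoc]
      _ = E * Q := by rw [hQP, one_mul]
  have hgA : g * A = A' * g := by
    calc g * A = P' * Matrix.diagonal d * (Q * A) := by rw [hg]; simp only [mul_assoc]
      _ = P' * (Matrix.diagonal d * E) * Q := by rw [hQA]; simp only [mul_assoc]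
      _ = (P' * E) * Matrix.diagonal d * Q := by rw [hDE]; simp only [mul_assoc]
      _ = A' * P' * Matrix.diagonal d * Q := by rw [← hAP']
      _ = A' * g := by rw [hg]; simp only [mul_assoc]
  rw [isConj_iff]
  obtain ⟨c, hc⟩ : ∃ c : Matrix.SpecialLinearGroup (Fin (k+3)) F,
      (c : Matrix (Fin (k+3)) (Fin (k+3)) F) = g := ⟨⟨g, hgdet⟩, rfl⟩
  refine ⟨c, ?_⟩
  rw [mul_inv_eq_iff_eq_mul]
  apply Subtype.ext
  simp only [Matrix.SpecialLinearGroup.coe_mul, hc]
  have h1 : (s : Matrix (Fin (k+3)) (Fin (k+3)) F) = A + 1 := by rw [hA]; abel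
  have h2 : (t : Matrix (Fin (k+3)) (Fin (k+3)) F) = A' + 1 := by rw [hA']; abel
  rw [h1, h2, mul_add, add_mul, hgA, mul_one, one_mul]

end Cfsg.Agent.S2579
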