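import Cfsg.Statements.S0713
import Mathlib

set_option autoImplicit false
set_option linter.unusedSectionVars false
set_option linter.unusedSimpArgs false
open Cfsg

namespace Cfsg.Agent.S0713

section Aux

open MulAction SubMulAction Equiv

variable {α : Type*} [Fintype α] [DecidableEq α]

/-- Step 1: multiple transitivity -/
theorem step1 (G : Subgroup (Equiv.Perm α)) (hG : MulAction.IsPreprimitive G α) {p : ℕ} (hp : p.Prime)
    (k : ℕ) (hk : 1 ≤ k) (hpn : p + k = Fintype.card α) {g : Equiv.Perm α} (hgc : g.IsCycle)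
    (hgp : g.support.card = p) (hg : g ∈ G) : IsMultiplyPretransitive G α (k + 1) := by
  set Γ : Set α := (g.support : Set α)ᶜ with hΓ
  have hΓc : Γ.ncard = k := by
    rw [hΓ, Set.ncard_compl, Set.ncard_coe_finset, hgp, Nat.card_eq_fintype_card]
    omega
  have htr := Equiv.Perm.isPretransitive_of_isCycle_mem (G := G) hgc hg
  have hcard : Nat.card (ofFixingSubgroup G Γ) = p := by
    have : (ofFixingSubgroup G Γ).carrier = (g.support : Set α) := by
      ext x
      simp [hΓ, SubMulAction.mem_ofFixingSubgroup_iff]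
    have h2 : Nat.card (ofFixingSubgroup G Γ) = (g.support : Set α).ncard := by
      rw [← this]
      rfl
    rw [h2, Set.ncard_coe_finset, hgp]
  have hprim : IsPreprimitive (fixingSubgroup G Γ) (ofFixingSubgroup G Γ) :=
    IsPreprimitive.of_prime_card (hcard ▸ hp)
  obtain ⟨n, rfl⟩ : ∃ n, k = n + 1 := ⟨k - 1, by omega⟩
  have h := hG.isMultiplyPreprimitive (s := Γ) (n := n) hΓc
    (by rw [Nat.card_eq_fintype_card]; have := hp.two_le; omega) hprim
  exact IsMultiplyPreprimitive.isMultiplyPretransitive G α (n + 1 + 1)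

/-- Step 2: realise any permutation on a `k`-set by an element of a `k`-transitive group -/
theorem step2 (G : Subgroup (Equiv.Perm α)) (S : Finset α) (k : ℕ) (hS : S.card = k)
    [IsMultiplyPretransitive G α k] (σ : Equiv.Perm α) :
    ∃ h ∈ G, ∀ x ∈ S, h x = σ x := by
  subst hS
  let e := S.equivFin
  let x : Fin S.card ↪ α := ⟨fun i => (e.symm i).1, fun i j hij => by
    have := Subtype.ext hij
    exact e.symm.injective this⟩
  let y : Fin S.card ↪ α := x.trans σ.toEmbedding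
  obtain ⟨h, hh⟩ := MulAction.exists_smul_eq (↥G) x y
  refine ⟨h.1, h.2, fun z hz => ?_⟩
  have h1 := DFunLike.congr_fun hh (e ⟨z, hz⟩)
  have hx : x (e ⟨z, hz⟩) = z := by
    show ((e.symm (e ⟨z, hz⟩) : S) : α) = z
    rw [Equiv.symm_apply_apply]
  have h2 : (h • x) (e ⟨z, hz⟩) = h.1 (x (e ⟨z, hz⟩)) := rfl
  rw [h2, hx] at h1
  rw [h1]
  simp [y, hx]

/-- Sylow conjugacy inside a subgroup -/
theorem sylow_conj {Γ : Type*} [Group Γ] (H : Subgroup Γ) [Finite H] {p : ℕ} [Fact p.Prime]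
    (P Q : Subgroup Γ) (hP : P ≤ H) (hQ : Q ≤ H)
    (hPc : Nat.card P = p ^ (Nat.card H).factorization p)
    (hQc : Nat.card Q = p ^ (Nat.card H).factorization p) :
    ∃ u ∈ H, ∀ x, x ∈ Q → u * x * u⁻¹ ∈ P := by
  have hPc' : Nat.card (P.subgroupOf H) = p ^ (Nat.card H).factorization p := by
    rw [← hPc]; exact Nat.card_congr (Subgroup.subgroupOfEquivOfLe hP).toEquiv
  have hQc' : Nat.card (Q.subgroupOf H) = p ^ (Nat.card H).factorization p := by
    rw [← hQc]; exact Nat.card_congr (Subgroup.subgroupOfEquivOfLe hQ).toEquiv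
  let SP : Sylow p H := Sylow.ofCard (P.subgroupOf H) hPc'
  let SQ : Sylow p H := Sylow.ofCard (Q.subgroupOf H) hQc'
  obtain ⟨u, hu⟩ := MulAction.exists_smul_eq (↥H) SQ SP
  refine ⟨u.1, u.2, fun x hx => ?_⟩
  have hxQ : (⟨x, hQ hx⟩ : H) ∈ (SQ : Subgroup H) := by
    show (⟨x, hQ hx⟩ : H) ∈ Q.subgroupOf H
    rw [Subgroup.mem_subgroupOf]
    exact hx
  have h1 : u * ⟨x, hQ hx⟩ * u⁻¹ ∈ ((u • SQ : Sylow p H) : Subgroup H) := by
    rw [Sylow.coe_subgroup_smul]
    rw [Subgroup.mem_pointwise_smul_iff_inv_smul_mem]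
    simp only [MulAut.smul_def, MulAut.conj_inv_apply]
    convert hxQ using 1
    group
  rw [hu] at h1
  have h2 : u * ⟨x, hQ hx⟩ * u⁻¹ ∈ P.subgroupOf H := h1
  rw [Subgroup.mem_subgroupOf] at h2
  exact h2

/-- elements of `G` fixing every point outside `S` -/
def fixOut (G : Subgroup (Equiv.Perm α)) (S : Finset α) : Subgroup (Equiv.Perm α) where
  carrier := {h | h ∈ G ∧ ∀ x, x ∉ S → h x = x}
  one_mem' := ⟨G.one_mem, fun _ _ => rfl⟩
  mul_mem' := by
    rintro a b ⟨ha, ha'⟩ ⟨hb, hb'⟩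
    exact ⟨G.mul_mem ha hb, fun x hx => by rw [Perm.mul_apply, hb' x hx, ha' x hx]⟩
  inv_mem' := by
    rintro a ⟨ha, ha'⟩
    exact ⟨G.inv_mem ha, fun x hx => by rw [Perm.inv_eq_iff_eq]; exact (ha' x hx).symm⟩

lemma mem_fixOut {G : Subgroup (Equiv.Perm α)} {S : Finset α} {h : Equiv.Perm α} :
    h ∈ fixOut G S ↔ h ∈ G ∧ ∀ x, x ∉ S → h x = x := Iff.rfl

theorem card_fixOut_dvd (G : Subgroup (Equiv.Perm α)) (S : Finset α) :
    Nat.card (fixOut G S) ∣ (S.card).factorial := by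
  have hle : fixOut G S ≤ (Perm.ofSubtype : Perm {x // x ∈ S} →* Perm α).range := by
    intro h hh
    rw [Perm.mem_range_ofSubtype_iff]
    intro x hx
    by_contra hxS
    exact (Perm.mem_support.mp hx) (hh.2 x hxS)
  have h1 := Subgroup.card_dvd_of_le hle
  have h2 : Nat.card (Perm.ofSubtype : Perm {x // x ∈ S} →* Perm α).range =
      Nat.card (Perm {x // x ∈ S}) :=
    (Nat.card_congr (MonoidHom.ofInjective Perm.ofSubtype_injective).toEquiv).symm
  have h3 : Nat.card (Perm {x // x ∈ S}) = (S.card).factorial := by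
    rw [Nat.card_eq_fintype_card, Fintype.card_perm, Fintype.card_coe]
  rw [h2, h3] at h1
  exact h1

theorem factorization_eq_one {p m : ℕ} (hp : p.Prime) (h1 : p ∣ m) (h2 : m ∣ p.factorial) :
    m.factorization p = 1 := by
  have hm0 : m ≠ 0 := by
    rintro rfl
    exact (Nat.factorial_pos p).ne' (Nat.eq_zero_of_zero_dvd h2)
  have hpos := hp.factorization_pos_of_dvd hm0 h1
  by_contra hne
  have h2le : 2 ≤ m.factorization p := by omega
  have hdvd : p ^ 2 ∣ p.factorial :=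
    (pow_dvd_pow p h2le).trans ((Nat.ordProj_dvd m p).trans h2)
  obtain ⟨q, rfl⟩ : ∃ q, p = q + 1 := ⟨p - 1, by have := hp.pos; omega⟩
  rw [Nat.factorial_succ, pow_two] at hdvd
  have := Nat.dvd_of_mul_dvd_mul_left (by omega) hdvd
  have := (hp.dvd_factorial).mp this
  omega

/-- Witt-type lemma: the normaliser of `⟨g⟩` induces every permutation on the fixed points of `g`. -/
theorem witt_norm (G : Subgroup (Equiv.Perm α)) {p : ℕ} (hp : p.Prime) {g : Equiv.Perm α}
    (hgc : g.IsCycle) (hgp : g.support.card = p) (hg : g ∈ G)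
    [IsMultiplyPretransitive G α (g.supportᶜ).card]
    (σ : Equiv.Perm α) (hσ : ∀ x ∈ g.supportᶜ, σ x ∈ g.supportᶜ) :
    ∃ n ∈ G, (∀ y ∈ Subgroup.zpowers g, n * y * n⁻¹ ∈ Subgroup.zpowers g) ∧
      ∀ x ∈ g.supportᶜ, n x = σ x := by
  have : Fact p.Prime := ⟨hp⟩
  set S := g.supportᶜ with hS
  obtain ⟨h, hhG, hhS⟩ := step2 G S S.card rfl σ
  -- h preserves S and its complement
  have hmaps : Set.MapsTo h (S : Set α) (S : Set α) := fun x hx => by
    rw [Finset.mem_coe] at hx ⊢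
    rw [hhS x hx]; exact hσ x hx
  have hmaps' : Set.MapsTo (h⁻¹ : Equiv.Perm α) (S : Set α) (S : Set α) :=
    Equiv.Perm.perm_symm_mapsTo_of_mapsTo h hmaps
  have hinvS : ∀ x, x ∉ g.support → h⁻¹ x ∉ g.support := by
    intro x hx
    have : x ∈ S := by rw [hS, Finset.mem_compl]; exact hx
    have := hmaps' (Finset.mem_coe.mpr this)
    rw [Finset.mem_coe, hS, Finset.mem_compl] at this
    exact this
  set H := fixOut G g.support with hH
  set P := Subgroup.zpowers g with hP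
  have hPH : P ≤ H := by
    rw [hP, Subgroup.zpowers_le]
    exact ⟨hg, fun x hx => Equiv.Perm.notMem_support.mp hx⟩
  have hcardP : Nat.card P = p := by
    rw [hP, Nat.card_zpowers, hgc.orderOf, hgp]
  have hfac : (Nat.card H).factorization p = 1 := by
    apply factorization_eq_one hp
    · rw [← hcardP]; exact Subgroup.card_dvd_of_le hPH
    · rw [← hgp]; exact card_fixOut_dvd G g.support
  set Q := P.map (MulAut.conj h).toMonoidHom with hQ
  have hQH : Q ≤ H := by
    rintro _ ⟨y, hy, rfl⟩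
    have hyH := hPH hy
    refine ⟨?_, fun x hx => ?_⟩
    · show h * y * h⁻¹ ∈ G
      exact G.mul_mem (G.mul_mem hhG hyH.1) (G.inv_mem hhG)
    · show (h * y * h⁻¹) x = x
      rw [Perm.mul_apply, Perm.mul_apply, hyH.2 _ (hinvS x hx)]
      exact h.apply_symm_apply x
  have hcardQ : Nat.card Q = p := by
    rw [← hcardP, hQ]
    exact Nat.card_congr (P.equivMapOfInjective _ (MulAut.conj h).injective).toEquiv.symm
  obtain ⟨u, huH, hu⟩ := sylow_conj H P Q hPH hQH (by rw [hcardP, hfac, pow_one])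
    (by rw [hcardQ, hfac, pow_one])
  refine ⟨u * h, G.mul_mem huH.1 hhG, ?_, ?_⟩
  · intro y hy
    have : h * y * h⁻¹ ∈ Q := ⟨y, hy, rfl⟩
    have := hu _ this
    convert this using 1
    group
  · intro x hx
    rw [Perm.mul_apply, ← hhS x hx]
    apply huH.2
    have := hmaps (Finset.mem_coe.mpr hx)
    rw [Finset.mem_coe, hS, Finset.mem_compl] at this
    exact this

theorem main (G : Subgroup (Equiv.Perm α)) (hG : MulAction.IsPreprimitive G α) {p : ℕ} (hp : p.Prime)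
    (hpn : p + 3 ≤ Fintype.card α) {g : Equiv.Perm α} (hgc : g.IsCycle)
    (hgp : g.support.card = p) (hg : g ∈ G) : alternatingGroup α ≤ G := by
  have hp2 := hp.two_le
  have hScard : (g.supportᶜ).card = Fintype.card α - p := by rw [Finset.card_compl, hgp]
  have hk3 : 3 ≤ (g.supportᶜ).card := by omega
  have hpk : p + (g.supportᶜ).card = Fintype.card α := by omega
  have h1 := step1 G hG hp (g.supportᶜ).card (by omega) hpk hgc hgp hg
  have h2 : IsMultiplyPretransitive G α (g.supportᶜ).card :=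
    isMultiplyPretransitive_of_le (n := (g.supportᶜ).card + 1) (by omega)
      (by rw [Nat.card_eq_fintype_card]; omega)
  obtain ⟨a, ha, b, hb, c, hc, hab, hac, hbc⟩ := Finset.two_lt_card.mp (by omega : 2 < (g.supportᶜ).card)
  have hswap : ∀ u v : α, u ∈ g.supportᶜ → v ∈ g.supportᶜ → ∀ x ∈ g.supportᶜ,
      Equiv.swap u v x ∈ g.supportᶜ := by
    intro u v hu hv x hx
    rw [Equiv.swap_apply_def]
    split_ifs
    · exact hv
    · exact hu
    · exact hx
  obtain ⟨n₁, hn₁G, hn₁P, hn₁S⟩ := witt_norm G hp hgc hgp hg (Equiv.swap a b) (hswap a b ha hb)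
  obtain ⟨n₂, hn₂G, hn₂P, hn₂S⟩ := witt_norm G hp hgc hgp hg (Equiv.swap a c) (hswap a c ha hc)
  obtain ⟨e₁, he₁⟩ := Subgroup.mem_zpowers_iff.mp (hn₁P g (Subgroup.mem_zpowers g))
  obtain ⟨e₂, he₂⟩ := Subgroup.mem_zpowers_iff.mp (hn₂P g (Subgroup.mem_zpowers g))
  -- inverse actions on S
  have hinv : ∀ (n : Equiv.Perm α) (u v : α), u ∈ g.supportᶜ → v ∈ g.supportᶜ →
      (∀ x ∈ g.supportᶜ, n x = Equiv.swap u v x) → ∀ x ∈ g.supportᶜ, n⁻¹ x = Equiv.swap u v x := by
    intro n u v hu hv hn x hx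
    rw [Equiv.Perm.inv_eq_iff_eq, hn _ (hswap u v hu hv x hx), Equiv.swap_apply_self]
  obtain ⟨t, ht⟩ : ∃ t, t = n₁⁻¹ * n₂⁻¹ * n₁ * n₂ := ⟨_, rfl⟩
  have htG : t ∈ G := ht ▸
    G.mul_mem (G.mul_mem (G.mul_mem (G.inv_mem hn₁G) (G.inv_mem hn₂G)) hn₁G) hn₂G
  have hcomm : t * g = g * t := by
    have hA : (n₁ * n₂) * g * (n₁ * n₂)⁻¹ = g ^ (e₁ * e₂) := by
      have : (n₁ * n₂) * g * (n₁ * n₂)⁻¹ = n₁ * (n₂ * g * n₂⁻¹) * n₁⁻¹ := by group
      rw [this, ← he₂, ← conj_zpow, ← he₁, ← zpow_mul]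
    have hB : (n₂ * n₁) * g * (n₂ * n₁)⁻¹ = g ^ (e₁ * e₂) := by
      have : (n₂ * n₁) * g * (n₂ * n₁)⁻¹ = n₂ * (n₁ * g * n₁⁻¹) * n₂⁻¹ := by group
      rw [this, ← he₁, ← conj_zpow, ← he₂, ← zpow_mul, mul_comm]
    have hAB := hA.trans hB.symm
    have h3 : t = (n₂ * n₁)⁻¹ * (n₁ * n₂) := by rw [ht]; group
    rw [h3]
    have h4 : (n₂ * n₁)⁻¹ * (n₁ * n₂) * g = (n₂ * n₁)⁻¹ * ((n₁ * n₂) * g * (n₁ * n₂)⁻¹) * (n₁ * n₂) := by
      group
    rw [h4, hAB]
    group
  have hcommz : ∀ j : ℤ, ∀ x, t ((g ^ j) x) = (g ^ j) (t x) := by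
    intro j x
    have : Commute t (g ^ j) := (show Commute t g from hcomm).zpow_right j
    have := congrArg (fun f : Equiv.Perm α => f x) this.eq
    simpa [Perm.mul_apply] using this
  -- action of t on S
  have htS : ∀ x ∈ g.supportᶜ, t x = Equiv.swap a b (Equiv.swap a c (Equiv.swap a b (Equiv.swap a c x))) := by
    intro x hx
    have h1 := hswap a c ha hc x hx
    have h2 := hswap a b ha hb _ h1
    have h3 := hswap a c ha hc _ h2
    rw [ht, Perm.mul_apply, Perm.mul_apply, Perm.mul_apply, hn₂S x hx, hn₁S _ h1,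
      hinv n₂ a c ha hc hn₂S _ h2, hinv n₁ a b ha hb hn₁S _ h3]
  -- t preserves the support
  have htsupp : ∀ x, x ∈ g.support → t x ∈ g.support := by
    intro x hx
    rw [Perm.mem_support] at hx ⊢
    have := hcommz 1 x
    rw [zpow_one] at this
    rw [← this]
    exact fun h => hx (t.injective h)
  obtain ⟨d, hd⟩ : g.support.Nonempty := by
    rw [← Finset.card_pos, hgp]; omega
  obtain ⟨i, hi⟩ := hgc.exists_zpow_eq (Perm.mem_support.mp hd) (Perm.mem_support.mp (htsupp d hd))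
  obtain ⟨t', ht'⟩ : ∃ t', t' = (g ^ i)⁻¹ * t := ⟨_, rfl⟩
  have ht'G : t' ∈ G := ht' ▸ G.mul_mem (G.inv_mem (G.zpow_mem hg i)) htG
  have hfixz : ∀ x, x ∉ g.support → (g ^ i)⁻¹ x = x := by
    intro x hx
    rw [Equiv.Perm.inv_eq_iff_eq]
    exact (Equiv.Perm.zpow_apply_eq_self_of_apply_eq_self (Perm.notMem_support.mp hx) i).symm
  have hnotmem : ∀ x, x ∈ g.support → x ≠ a ∧ x ≠ b ∧ x ≠ c := by
    intro x hx
    refine ⟨?_, ?_, ?_⟩ <;> rintro rfl
    · exact (Finset.mem_compl.mp ha) hx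
    · exact (Finset.mem_compl.mp hb) hx
    · exact (Finset.mem_compl.mp hc) hx
  have hpt : ∀ x, t' x = Equiv.swap a b (Equiv.swap a c (Equiv.swap a b (Equiv.swap a c x))) := by
    intro x
    by_cases hx : x ∈ g.support
    · obtain ⟨hxa, hxb, hxc⟩ := hnotmem x hx
      rw [Equiv.swap_apply_of_ne_of_ne hxa hxc, Equiv.swap_apply_of_ne_of_ne hxa hxb,
        Equiv.swap_apply_of_ne_of_ne hxa hxc, Equiv.swap_apply_of_ne_of_ne hxa hxb]
      obtain ⟨j, hj⟩ := hgc.exists_zpow_eq (Perm.mem_support.mp hd) (Perm.mem_support.mp hx)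
      rw [ht', Perm.mul_apply, ← hj, hcommz j d, ← hi, Equiv.Perm.inv_eq_iff_eq,
        ← Perm.mul_apply, ← Perm.mul_apply, ← zpow_add, ← zpow_add, add_comm]
    · have hxS : x ∈ g.supportᶜ := Finset.mem_compl.mpr hx
      have h1 := hswap a c ha hc x hxS
      have h2 := hswap a b ha hb _ h1
      have h3 := hswap a c ha hc _ h2
      have h4 := hswap a b ha hb _ h3
      rw [ht', Perm.mul_apply, htS x hxS, hfixz _ (Finset.mem_compl.mp h4)]
  have hfinal : t' = (Equiv.swap a b * Equiv.swap a c) ^ 2 := by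
    ext x
    rw [hpt x, pow_two, Perm.mul_apply, Perm.mul_apply, Perm.mul_apply]
  have h3c : Equiv.Perm.IsThreeCycle t' := by
    rw [hfinal]
    exact (Equiv.Perm.isThreeCycle_swap_mul_swap_same hab hac hbc).isThreeCycle_sq
  exact Equiv.Perm.alternatingGroup_le_of_isPreprimitive_of_isThreeCycle_mem hG h3c ht'G

end Aux

/-- Jordan's Theorem: a primitive permutation group of degree `n ≥ 5` containing a `p`-cycle for a prime `p ≤ n - 3` contains the alternating group. -/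
theorem result {α : Type*} [Fintype α] [DecidableEq α] (G : Subgroup (Equiv.Perm α)) (hG : MulAction.IsPreprimitive G α) {p : ℕ} (hp : p.Prime) (hn : 5 ≤ Fintype.card α) (hpn : p + 3 ≤ Fintype.card α) {g : Equiv.Perm α} (hgc : g.IsCycle) (hgp : g.support.card = p) (hg : g ∈ G) : alternatingGroup α ≤ G := by
  exact main G hG hp hpn hgc hgp hg

end Cfsg.Agent.S0713
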