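import Cfsg.Statements.S0107
import Cfsg.Agent.Lib.Helper11.Extremal
import Cfsg.Agent.Lib.Helper29.Frobenius

set_option autoImplicit false
open Cfsg

namespace Cfsg.Agent.S0107

open Subgroup

/-- in a finite cyclic group, two elements of order 2 coincide -/
theorem eq_of_orderOf_two_of_isCyclic {M : Type*} [Group M] [Finite M] [IsCyclic M] (a b : M)
    (ha : orderOf a = 2) (hb : orderOf b = 2) : a = b := by
  classical
  have := Fintype.ofFinite M
  by_contra hab
  have h := IsCyclic.card_pow_eq_one_le (α := M) (n := 2) (by norm_num)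
  have ha1 : a ≠ 1 := by
    rintro rfl; rw [orderOf_one] at ha; omega
  have hb1 : b ≠ 1 := by
    rintro rfl; rw [orderOf_one] at hb; omega
  have hsub : ({1, a, b} : Finset M) ⊆ Finset.univ.filter (fun x : M => x ^ 2 = 1) := by
    intro x hx
    simp only [Finset.mem_insert, Finset.mem_singleton] at hx
    simp only [Finset.mem_filter, Finset.mem_univ, true_and]
    rcases hx with rfl | rfl | rfl
    · simp
    · rw [← ha]; exact pow_orderOf_eq_one _
    · rw [← hb]; exact pow_orderOf_eq_one _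
  have hcard : ({1, a, b} : Finset M).card = 3 := by
    rw [Finset.card_insert_of_notMem, Finset.card_insert_of_notMem, Finset.card_singleton]
    · simpa using hab
    · simp only [Finset.mem_insert, Finset.mem_singleton, not_or]
      exact ⟨ha1.symm, hb1.symm⟩
  have := Finset.card_le_card hsub
  omega

theorem orderOf_conj' {G : Type*} [Group G] (a u : G) : orderOf (a * u * a⁻¹) = orderOf u :=
  orderOf_injective (MulAut.conj a).toMonoidHom (MulAut.conj a).injective u

theorem isCoatom_of_index_two {P : Type*} [Group P] (M : Subgroup P) (hM : M.index = 2) :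
    IsCoatom M := by
  constructor
  · intro h
    rw [h, Subgroup.index_top] at hM
    omega
  · intro K hK
    have h1 := Subgroup.relIndex_mul_index hK.le
    rw [hM] at h1
    have h2 : K.index ∣ 2 := Dvd.intro_left _ h1
    rcases (Nat.dvd_prime Nat.prime_two).mp h2 with h3 | h3
    · exact Subgroup.index_eq_one.mp h3
    · exfalso
      rw [h3] at h1
      have h4 : M.relIndex K = 1 := by omega
      have h5 : K ≤ M := Subgroup.relIndex_eq_one.mp h4
      exact (not_le_of_gt hK) h5

/-- A finite group with no nontrivial 2-group quotient and dihedral Sylow 2-subgroups of order at least 8 has a single class of involutions. -/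
theorem result {G : Type*} [Group G] [Finite G] (T : Sylow 2 G) (n : ℕ) (hn : 2 ≤ n) (hT : Nonempty ((T : Subgroup G) ≃* DihedralGroup (2 ^ n))) (hO : Cfsg.pResidual 2 G = ⊤) (x y : G) (hx : orderOf x = 2) (hy : orderOf y = 2) : ∃ g : G, g * x * g⁻¹ = y := by
  have : Fact (Nat.Prime 2) := ⟨Nat.prime_two⟩
  obtain ⟨e⟩ := hT
  have : NeZero (2 ^ n) := ⟨by positivity⟩
  set R : Subgroup (DihedralGroup (2 ^ n)) := zpowers (DihedralGroup.r 1) with hR
  set M : Subgroup ↥(T : Subgroup G) := R.comap e.toMonoidHom with hM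
  have hRidx : R.index = 2 := by
    have h1 := Subgroup.card_mul_index R
    rw [hR, Nat.card_zpowers, DihedralGroup.orderOf_r_one, DihedralGroup.nat_card] at h1
    have hpos : 0 < 2 ^ n := by positivity
    nlinarith
  have hMidx : M.index = 2 := by
    rw [hM, Subgroup.index_comap_of_surjective _ e.surjective, hRidx]
  have hMco : IsCoatom M := isCoatom_of_index_two M hMidx
  have hMc : IsCyclic M := by
    let f : M →* R := (e.toMonoidHom.comp M.subtype).codRestrict R (fun m => m.2)
    apply isCyclic_of_injective f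
    intro a b hab
    have := congrArg Subtype.val hab
    have h2 : e (a : ↥(T : Subgroup G)) = e (b : ↥(T : Subgroup G)) := this
    exact Subtype.ext (e.injective h2)
  -- every involution of `T` in `M` is the same element; any involution is conjugate to it
  have key : ∀ u v : G, orderOf u = 2 → orderOf v = 2 →
      (∃ h : u ∈ (T : Subgroup G), (⟨u, h⟩ : ↥(T : Subgroup G)) ∈ M) →
      (∃ h : v ∈ (T : Subgroup G), (⟨v, h⟩ : ↥(T : Subgroup G)) ∈ M) → u = v := by
    rintro u v hu hv ⟨hu1, hu2⟩ ⟨hv1, hv2⟩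
    have h1 : orderOf (⟨⟨u, hu1⟩, hu2⟩ : M) = 2 :=
      ((Subgroup.orderOf_coe (⟨⟨u, hu1⟩, hu2⟩ : M)).symm.trans
        (Subgroup.orderOf_coe (⟨u, hu1⟩ : ↥(T : Subgroup G))).symm).trans hu
    have h2 : orderOf (⟨⟨v, hv1⟩, hv2⟩ : M) = 2 :=
      ((Subgroup.orderOf_coe (⟨⟨v, hv1⟩, hv2⟩ : M)).symm.trans
        (Subgroup.orderOf_coe (⟨v, hv1⟩ : ↥(T : Subgroup G))).symm).trans hv
    have := eq_of_orderOf_two_of_isCyclic _ _ h1 h2
    have := congrArg (fun m : M => ((m : ↥(T : Subgroup G)) : G)) this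
    exact this
  -- every involution is conjugate to an involution in `M`
  have conjM : ∀ u : G, orderOf u = 2 → ∃ g : G, ∃ h : g * u * g⁻¹ ∈ (T : Subgroup G),
      (⟨g * u * g⁻¹, h⟩ : ↥(T : Subgroup G)) ∈ M := by
    intro u hu
    -- first conjugate into T
    have hup : IsPGroup 2 (zpowers u) := IsPGroup.of_card (n := 1) (by rw [Nat.card_zpowers, hu, pow_one])
    obtain ⟨T', hT'⟩ := hup.exists_le_sylow
    obtain ⟨a, ha⟩ := MulAction.exists_smul_eq G T' T
    have huT' : u ∈ T' := hT' (mem_zpowers u)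
    have hauT : a * u * a⁻¹ ∈ (T : Subgroup G) := by
      have h3 : a * u * a⁻¹ ∈ (a • T' : Sylow 2 G) := by
        rw [Cfsg.Agent.Lib.Helper29.mem_smul_sylow_iff]
        have e3 : a⁻¹ * (a * u * a⁻¹) * a = u := by group
        rw [e3]; exact huT'
      rw [ha] at h3
      exact h3
    have hau : orderOf (a * u * a⁻¹) = 2 := by rw [orderOf_conj']; exact hu
    by_cases hin : (⟨a * u * a⁻¹, hauT⟩ : ↥(T : Subgroup G)) ∈ M
    · exact ⟨a, hauT, hin⟩
    · obtain ⟨g, ⟨h1, h2⟩, _⟩ := Cfsg.Agent.Lib.Helper11.exists_extremal_conj_coatom T M hMco hO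
        (a * u * a⁻¹) hau hauT hin
      refine ⟨g * a, ?_⟩
      have e1 : g * a * u * (g * a)⁻¹ = g * (a * u * a⁻¹) * g⁻¹ := by group
      rw [e1]
      exact ⟨h1, h2⟩
  obtain ⟨g1, h1, h1M⟩ := conjM x hx
  obtain ⟨g2, h2, h2M⟩ := conjM y hy
  have heq := key (g1 * x * g1⁻¹) (g2 * y * g2⁻¹) (by rw [orderOf_conj']; exact hx)
    (by rw [orderOf_conj']; exact hy) ⟨h1, h1M⟩ ⟨h2, h2M⟩
  refine ⟨g2⁻¹ * g1, ?_⟩
  have : g2⁻¹ * g1 * x * (g2⁻¹ * g1)⁻¹ = g2⁻¹ * (g1 * x * g1⁻¹) * g2 := by group
  rw [this, heq]; group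

end Cfsg.Agent.S0107
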