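import Cfsg.Statements.S0731
import Cfsg.Agent.Lib.Helper5.ZPslF
import Cfsg.Agent.Lib.Helper5.ZPslG
import Cfsg.Agent.S0742
import Cfsg.Agent.S0739

set_option autoImplicit false
open Cfsg
open MulAction Cfsg.Agent.Lib.Helper5.ZPsl Cfsg.Agent.Lib.Helper5.Zass Cfsg.Agent.Lib.Helper5.ZassOdd

namespace Cfsg.Agent.S0731

/-- A finite Zassenhaus group whose point stabiliser has an abelian regular normal subgroup on the remaining points is sharply triply transitive or isomorphic to `PSL(2, F)` for a finite field `F` of odd characteristic. -/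
theorem result {G Ω : Type*} [Group G] [Finite G] [MulAction G Ω] [Finite Ω] (hZ : Cfsg.IsZassenhausGroup G Ω) (x : Ω) (F : Subgroup G) (hFle : F ≤ MulAction.stabilizer G x) (hFn : (F.subgroupOf (MulAction.stabilizer G x)).Normal) (hFab : IsMulCommutative F) (hreg : ∀ y z : Ω, y ≠ x → z ≠ x → ∃! u : F, (u : G) • y = z) : (MulAction.IsMultiplyPretransitive G Ω 3 ∧ ∀ t : Fin 3 ↪ Ω, MulAction.stabilizer G t = ⊥) ∨ ∃ (K : Type) (_ : Field K) (_ : Fintype K), ringChar K ≠ 2 ∧ Nonempty (G ≃* Matrix.ProjectiveSpecialLinearGroup (Fin 2) K) := by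
  classical
  haveI : Fintype Ω := Fintype.ofFinite Ω
  obtain ⟨y, -, hy, -, -⟩ := zass_two_more hZ x
  have hxy : x ≠ y := hy.symm
  have hcomm := kernel_comm_of_regular hZ x F hFle hFab hreg
  have hineq := ineq_of_comm_kernel hZ hxy hcomm
  have h4c := zass_four hZ
  obtain ⟨d, hddef⟩ : ∃ d : ℕ, d = Nat.card ↥(stabilizer G x ⊓ stabilizer G y) := ⟨_, rfl⟩
  have hdpos : 0 < d := by rw [hddef]; exact Nat.card_pos
  rcases Nat.lt_or_ge (Fintype.card Ω - 2) (2 * d) with hlt | hge
  · left
    rw [hddef] at hlt
    exact sharp_three_of_large hZ hxy hlt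
  · right
    have h2d : 2 * Nat.card ↥(stabilizer G x ⊓ stabilizer G y) + 2 = Fintype.card Ω := by
      rw [← hddef] at hineq ⊢
      omega
    rcases Nat.even_or_odd (Nat.card ↥(stabilizer G x ⊓ stabilizer G y)) with he | ho
    · obtain ⟨p, f, K, iK, fK, hp, hp2, hKc, -, hiso⟩ :=
        Cfsg.Agent.S0742.result hZ hxy he (by omega)
      refine ⟨K, iK, fK, ?_, hiso⟩
      intro h2
      have h3 := FiniteField.even_card_of_char_two h2
      rw [hKc] at h3
      have hodd : Odd (p ^ f) := Odd.pow (hp.odd_of_ne_two hp2)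
      rw [Nat.odd_iff] at hodd
      omega
    · -- simplicity
      have hnil : ∀ q : ℕ, q.Prime →
          q ∣ Nat.card ↥(stabilizer G x ⊓ stabilizer G y) →
          ¬ ∃ N : Subgroup G, N.Normal ∧ N.index = q ^ (Nat.card G).factorization q := by
        rintro q hq hqd ⟨N, hNn, hidx⟩
        have hcG := two_trans_card (G := G) hZ.2.1 hxy
        have hGpos : 0 < Nat.card G := Nat.card_pos
        have hqG : q ∣ Nat.card G := by
          rw [hcG]; exact Dvd.dvd.mul_left hqd _
        have hk' : 0 < (Nat.card G).factorization q :=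
          hq.factorization_pos_of_dvd hGpos.ne' hqG
        obtain ⟨k, hkdef⟩ : ∃ k : ℕ, k = (Nat.card G).factorization q := ⟨_, rfl⟩
        rw [← hkdef] at hidx hk'
        have hk : 0 < k := hk'
        by_cases hN : N = ⊥
        · rw [hN, Subgroup.index_bot, hcG, ← h2d, ← hddef] at hidx
          -- (2d+2)(2d+1)d is not a prime power
          have h1 : (2 * d + 1) ∣ q ^ k := by
            rw [← hidx]
            have : 2 * d + 2 - 1 = 2 * d + 1 := by omega
            rw [this]
            exact Dvd.dvd.mul_right (Dvd.intro_left _ rfl) _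
          have h2 : (2 * d + 2) ∣ q ^ k := by
            rw [← hidx]
            exact Dvd.dvd.mul_right (Dvd.intro _ rfl) _
          obtain ⟨i, -, hi⟩ := (Nat.dvd_prime_pow hq).mp h1
          obtain ⟨j, -, hj⟩ := (Nat.dvd_prime_pow hq).mp h2
          have hi0 : i ≠ 0 := by
            rintro rfl
            rw [pow_zero] at hi
            omega
          have hj0 : j ≠ 0 := by
            rintro rfl
            rw [pow_zero] at hj
            omega
          have hq1 : q ∣ 2 * d + 1 := by rw [hi]; exact dvd_pow_self q hi0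
          have hq2 : q ∣ 2 * d + 2 := by rw [hj]; exact dvd_pow_self q hj0
          have hq3 : q ∣ 1 := by
            have := Nat.dvd_sub hq2 hq1
            have e : 2 * d + 2 - (2 * d + 1) = 1 := by omega
            rwa [e] at this
          exact hq.one_lt.ne' (Nat.dvd_one.mp hq3)
        · haveI := hNn
          have htop := normal_eq_top_of_half hZ hxy h2d hcomm N hN
          rw [htop, Subgroup.index_top] at hidx
          have : 1 < q ^ k := Nat.one_lt_pow hk.ne' hq.one_lt
          omega
      have h739 := Cfsg.Agent.S0739.result hZ hxy ho hnil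
      exact psl_of_half_odd hZ hxy ho h2d
        (fun g hga hgb h hha hhb => h739.2.2 g hga hgb h
          (Subgroup.mem_inf.mpr ⟨mem_stabilizer_iff.mpr hha, mem_stabilizer_iff.mpr hhb⟩))

end Cfsg.Agent.S0731
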