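import Cfsg.Statements.S0560
import Mathlib
import Cfsg.Agent.Lib.Helper4.Factorization
import Cfsg.Agent.Lib.Helper17.Card

set_option autoImplicit false
open Pointwise
open Cfsg

namespace Cfsg.Agent.S0560


/-- Let the finite group G be the product HK of two subgroups and p a prime. Then there are Sylow p-subgroups P of H and Q of K and a Sylow p-subgroup R of G whose underlying set is the product set of P and Q. -/
theorem result {G : Type*} [Group G] [Finite G] (H K : Subgroup G) (hHK : ∀ g : G, ∃ h ∈ H, ∃ k ∈ K, g = h * k) (p : ℕ) [Fact p.Prime] : ∃ (P : Sylow p H) (Q : Sylow p K) (R : Sylow p G), ((R : Subgroup G) : Set G) = (((P : Subgroup H).map H.subtype : Subgroup G) : Set G) * (((Q : Subgroup K).map K.subtype : Subgroup G) : Set G) := by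
  have hp : p.Prime := Fact.out
  let P0 : Sylow p H := default
  let Q0 : Sylow p K := default
  have hP0 : IsPGroup p ((P0 : Subgroup H).map H.subtype) := P0.isPGroup'.map _
  have hQ0 : IsPGroup p ((Q0 : Subgroup K).map K.subtype) := Q0.isPGroup'.map _
  obtain ⟨R1, hR1⟩ := hP0.exists_le_sylow
  obtain ⟨R2, hR2⟩ := hQ0.exists_le_sylow
  obtain ⟨g, hg⟩ := MulAction.exists_smul_eq G R1 R2
  obtain ⟨h, hh, k, hk, hgk⟩ := hHK g⁻¹
  -- R := h⁻¹ • R1 = k • R2
  have hRR : h⁻¹ • R1 = k • R2 := by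
    rw [← hg, smul_smul, eq_comm, ← inv_smul_eq_iff, smul_smul]
    have : h⁻¹⁻¹ * (k * g) = 1 := by rw [inv_inv, ← mul_assoc, ← hgk, inv_mul_cancel]
    rw [this, one_smul]
  let P : Sylow p H := (⟨h⁻¹, H.inv_mem hh⟩ : H) • P0
  let Q : Sylow p K := (⟨k, hk⟩ : K) • Q0
  let R : Sylow p G := h⁻¹ • R1
  set P' : Subgroup G := (P : Subgroup H).map H.subtype with hP'
  set Q' : Subgroup G := (Q : Subgroup K).map K.subtype with hQ'
  have hPR : P' ≤ R := by
    rintro x ⟨y, hy, rfl⟩
    have hy' : y ∈ (((⟨h⁻¹, H.inv_mem hh⟩ : H) • P0 : Sylow p H) : Subgroup H) := hy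
    rw [Sylow.coe_subgroup_smul, Subgroup.mem_pointwise_smul_iff_inv_smul_mem] at hy'
    change H.subtype y ∈ ((h⁻¹ • R1 : Sylow p G) : Subgroup G)
    rw [Sylow.coe_subgroup_smul, Subgroup.mem_pointwise_smul_iff_inv_smul_mem]
    have := hR1 (Subgroup.mem_map_of_mem H.subtype hy')
    simpa [MulAut.smul_def] using this
  have hQR : Q' ≤ R := by
    rintro x ⟨y, hy, rfl⟩
    have hy' : y ∈ (((⟨k, hk⟩ : K) • Q0 : Sylow p K) : Subgroup K) := hy
    rw [Sylow.coe_subgroup_smul, Subgroup.mem_pointwise_smul_iff_inv_smul_mem] at hy'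
    change K.subtype y ∈ ((h⁻¹ • R1 : Sylow p G) : Subgroup G)
    rw [hRR, Sylow.coe_subgroup_smul, Subgroup.mem_pointwise_smul_iff_inv_smul_mem]
    have := hR2 (Subgroup.mem_map_of_mem K.subtype hy')
    simpa [MulAut.smul_def] using this
  refine ⟨P, Q, R, ?_⟩
  -- cardinalities
  have cP : Nat.card P' = p ^ (Nat.card H).factorization p := by
    rw [hP', Subgroup.card_map_of_injective H.subtype_injective]
    exact P.card_eq_multiplicity
  have cQ : Nat.card Q' = p ^ (Nat.card K).factorization p := by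
    rw [hQ', Subgroup.card_map_of_injective K.subtype_injective]
    exact Q.card_eq_multiplicity
  have cR : Nat.card (R : Subgroup G) = p ^ (Nat.card G).factorization p := R.card_eq_multiplicity
  have hsup : P' ⊔ Q' ≤ R := sup_le hPR hQR
  -- P' ⊓ Q' is a p-subgroup of H ⊓ K
  have hPH : P' ≤ H := by
    rintro x ⟨y, _, rfl⟩; exact y.2
  have hQK : Q' ≤ K := by
    rintro x ⟨y, _, rfl⟩; exact y.2
  have hinfp : IsPGroup p ↥(P' ⊓ Q') := R.isPGroup'.to_le (inf_le_left.trans hPR)
  obtain ⟨e, he⟩ := IsPGroup.iff_card.mp hinfp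
  have hed : p ^ e ∣ Nat.card ↥(H ⊓ K) := by
    rw [← he]; exact Subgroup.card_dvd_of_le (inf_le_inf hPH hQK)
  have hposI : Nat.card ↥(H ⊓ K) ≠ 0 := Nat.card_pos.ne'
  have he' : e ≤ (Nat.card ↥(H ⊓ K)).factorization p :=
    (hp.pow_dvd_iff_le_factorization hposI).mp hed
  obtain ⟨f, hf, hfc⟩ := (Nat.dvd_prime_pow hp).mp (cR ▸ Subgroup.card_dvd_of_le hsup)
  have hfact : (Nat.card G).factorization p + (Nat.card ↥(H ⊓ K)).factorization p
      = (Nat.card H).factorization p + (Nat.card K).factorization p := by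
    have := congrArg (fun n => n.factorization p) (Cfsg.Agent.Lib.Helper4.card_mul_card_inf_of_forall_mul H K hHK)
    rw [Nat.factorization_mul Nat.card_pos.ne' hposI,
      Nat.factorization_mul Nat.card_pos.ne' Nat.card_pos.ne'] at this
    simpa using this
  have hle := Cfsg.Agent.Lib.Helper17.card_mul_card_le_card_sup_mul_card_inf P' Q'
  rw [cP, cQ, hfc, he, ← pow_add, ← pow_add] at hle
  have hle' := (Nat.pow_le_pow_iff_right hp.one_lt).mp hle
  have hfeq : f = (Nat.card G).factorization p := by omega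
  have heeq : e = (Nat.card ↥(H ⊓ K)).factorization p := by omega
  have hcard : Nat.card P' * Nat.card Q' = Nat.card ↥(P' ⊔ Q') * Nat.card ↥(P' ⊓ Q') := by
    rw [cP, cQ, hfc, he, ← pow_add, ← pow_add, hfeq, heeq, hfact]
  have hset := Cfsg.Agent.Lib.Helper17.coe_sup_eq_mul_of_card_mul_card_eq P' Q' hcard
  have hRe : P' ⊔ Q' = R := by
    apply Subgroup.eq_of_le_of_card_ge hsup
    rw [cR, hfc, hfeq]
  rw [← hRe]
  exact hset

end Cfsg.Agent.S0560
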