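import Cfsg.Statements.S0572
import Mathlib

set_option autoImplicit false
open Cfsg

namespace Cfsg.Agent.S0572

open scoped commutatorElement

theorem comm_mul_left_of_commute {G : Type*} [Group G] (x y b : G) (h : y * b = b * y) :
    ⁅x * y, b⁆ = ⁅x, b⁆ := by
  rw [commutatorElement_def, commutatorElement_def]
  have : y * b * y⁻¹ = b := by rw [h]; group
  calc x * y * b * (x * y)⁻¹ * b⁻¹ = x * (y * b * y⁻¹) * x⁻¹ * b⁻¹ := by group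
    _ = x * b * x⁻¹ * b⁻¹ := by rw [this]

theorem comm_mul_right_of_commute {G : Type*} [Group G] (a x y : G) (h : y * a = a * y) :
    ⁅a, x * y⁆ = ⁅a, x⁆ := by
  rw [commutatorElement_def, commutatorElement_def]
  have : y * a⁻¹ * y⁻¹ = a⁻¹ := by
    have : a⁻¹ * y = y * a⁻¹ := by
      calc a⁻¹ * y = a⁻¹ * (y * a) * a⁻¹ := by group
        _ = a⁻¹ * (a * y) * a⁻¹ := by rw [h]
        _ = y * a⁻¹ := by group
    rw [← this]; group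
  calc a * (x * y) * a⁻¹ * (x * y)⁻¹ = a * x * (y * a⁻¹ * y⁻¹) * x⁻¹ := by group
    _ = a * x * a⁻¹ * x⁻¹ := by rw [this]


/-- Itô's Theorem: if a group G is the product AB of two abelian subgroups, then the commutator subgroup of G is abelian, i.e. the second term of the derived series is trivial. -/
theorem result {G : Type*} [Group G] (A B : Subgroup G) [IsMulCommutative A] [IsMulCommutative B] (hAB : ∀ g : G, ∃ a ∈ A, ∃ b ∈ B, g = a * b) : derivedSeries G 2 = ⊥ := by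
  have hAc : ∀ x ∈ A, ∀ y ∈ A, x * y = y * x := fun x hx y hy =>
    congrArg Subtype.val (mul_comm' (⟨x, hx⟩ : A) ⟨y, hy⟩)
  have hBc : ∀ x ∈ B, ∀ y ∈ B, x * y = y * x := fun x hx y hy =>
    congrArg Subtype.val (mul_comm' (⟨x, hx⟩ : B) ⟨y, hy⟩)
  -- G = BA as well
  have hBA : ∀ g : G, ∃ b ∈ B, ∃ a ∈ A, g = b * a := by
    intro g
    obtain ⟨a, ha, b, hb, e⟩ := hAB g⁻¹
    refine ⟨b⁻¹, B.inv_mem hb, a⁻¹, A.inv_mem ha, ?_⟩
    rw [← mul_inv_rev, ← e, inv_inv]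
  -- conjugation formula
  have hconj : ∀ a ∈ A, ∀ b ∈ B, ∀ a1 ∈ A, ∀ b1 ∈ B,
      ∃ a3 ∈ A, ∃ b2 ∈ B, (a1 * b1) * ⁅a, b⁆ * (a1 * b1)⁻¹ = ⁅a3, b2⁆ ∧
        (b1 * a1) * ⁅a, b⁆ * (b1 * a1)⁻¹ = ⁅a3, b2⁆ := by
    intro a ha b hb a1 ha1 b1 hb1
    obtain ⟨a3, ha3, b3, hb3, e3⟩ := hAB (b1 * a * b1⁻¹)
    obtain ⟨b2, hb2, a2, ha2, e2⟩ := hBA (a1 * b * a1⁻¹)
    refine ⟨a3, ha3, b2, hb2, ?_, ?_⟩
    · have h1 : (a1 * b1) * ⁅a, b⁆ * (a1 * b1)⁻¹ = a1 * (b1 * ⁅a, b⁆ * b1⁻¹) * a1⁻¹ := by group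
      rw [h1, conjugate_commutatorElement, e3]
      have hb1b : b1 * b * b1⁻¹ = b := by rw [hBc b1 hb1 b hb]; group
      rw [hb1b, comm_mul_left_of_commute a3 b3 b (hBc b3 hb3 b hb), conjugate_commutatorElement, e2]
      have ha1a3 : a1 * a3 * a1⁻¹ = a3 := by rw [hAc a1 ha1 a3 ha3]; group
      rw [ha1a3, comm_mul_right_of_commute a3 b2 a2 (hAc a2 ha2 a3 ha3)]
    · have h1 : (b1 * a1) * ⁅a, b⁆ * (b1 * a1)⁻¹ = b1 * (a1 * ⁅a, b⁆ * a1⁻¹) * b1⁻¹ := by group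
      rw [h1, conjugate_commutatorElement, e2]
      have ha1a : a1 * a * a1⁻¹ = a := by rw [hAc a1 ha1 a ha]; group
      rw [ha1a, comm_mul_right_of_commute a b2 a2 (hAc a2 ha2 a ha), conjugate_commutatorElement, e3]
      have hb1b2 : b1 * b2 * b1⁻¹ = b2 := by rw [hBc b1 hb1 b2 hb2]; group
      rw [hb1b2, comm_mul_left_of_commute a3 b3 b2 (hBc b3 hb3 b2 hb2)]
  set S : Set G := {x | ∃ a ∈ A, ∃ b ∈ B, ⁅a, b⁆ = x} with hS
  -- generators commute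
  have hScomm : ∀ x ∈ S, ∀ y ∈ S, x * y = y * x := by
    rintro _ ⟨a, ha, b, hb, rfl⟩ _ ⟨a1, ha1, b1, hb1, rfl⟩
    obtain ⟨a3, ha3, b2, hb2, e1, e2⟩ := hconj a ha b hb a1⁻¹ (A.inv_mem ha1) b1⁻¹ (B.inv_mem hb1)
    have e := e1.trans e2.symm
    -- ⁅a1, b1⁆ = (b1⁻¹ * a1⁻¹)⁻¹ * (a1⁻¹ * b1⁻¹)
    have hk : ⁅a1, b1⁆ = (b1⁻¹ * a1⁻¹)⁻¹ * (a1⁻¹ * b1⁻¹) := by
      rw [commutatorElement_def]; group
    rw [hk]
    calc ⁅a, b⁆ * ((b1⁻¹ * a1⁻¹)⁻¹ * (a1⁻¹ * b1⁻¹))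
        = (b1⁻¹ * a1⁻¹)⁻¹ * ((b1⁻¹ * a1⁻¹) * ⁅a, b⁆ * (b1⁻¹ * a1⁻¹)⁻¹) * (a1⁻¹ * b1⁻¹) := by group
      _ = (b1⁻¹ * a1⁻¹)⁻¹ * ((a1⁻¹ * b1⁻¹) * ⁅a, b⁆ * (a1⁻¹ * b1⁻¹)⁻¹) * (a1⁻¹ * b1⁻¹) := by rw [e]
      _ = (b1⁻¹ * a1⁻¹)⁻¹ * (a1⁻¹ * b1⁻¹) * ⁅a, b⁆ := by group
  set N : Subgroup G := Subgroup.closure S with hN
  have hNcomm : IsMulCommutative N := Subgroup.isMulCommutative_closure hScomm
  have hNn : N.Normal := by
    rw [← Subgroup.normalizer_eq_top_iff, eq_top_iff, hN, Subgroup.le_normalizer_closure_iff]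
    rintro g - _ ⟨a, ha, b, hb, rfl⟩
    obtain ⟨a1, ha1, b1, hb1, rfl⟩ := hAB g
    obtain ⟨a3, ha3, b2, hb2, e1, -⟩ := hconj a ha b hb a1 ha1 b1 hb1
    rw [e1]
    exact Subgroup.subset_closure ⟨a3, ha3, b2, hb2, rfl⟩
  -- G / N is abelian
  have hcomm : commutator G ≤ N := by
    rw [commutator_def, Subgroup.commutator_le]
    rintro g - g' -
    obtain ⟨a, ha, b, hb, rfl⟩ := hAB g
    obtain ⟨a', ha', b', hb', rfl⟩ := hAB g'
    rw [← QuotientGroup.eq_one_iff, ← QuotientGroup.mk'_apply, map_commutatorElement,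
      commutatorElement_eq_one_iff_commute, map_mul, map_mul]
    have hab : ∀ x ∈ A, ∀ y ∈ B, Commute (QuotientGroup.mk' N x) (QuotientGroup.mk' N y) := by
      intro x hx y hy
      rw [← commutatorElement_eq_one_iff_commute, ← map_commutatorElement, QuotientGroup.mk'_apply,
        QuotientGroup.eq_one_iff]
      exact Subgroup.subset_closure ⟨x, hx, y, hy, rfl⟩
    have c1 : Commute (QuotientGroup.mk' N a) (QuotientGroup.mk' N a') := by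
      rw [Commute, SemiconjBy, ← map_mul, ← map_mul, hAc a ha a' ha']
    have c4 : Commute (QuotientGroup.mk' N b) (QuotientGroup.mk' N b') := by
      rw [Commute, SemiconjBy, ← map_mul, ← map_mul, hBc b hb b' hb']
    exact (c1.mul_right (hab a ha b' hb')).mul_left ((hab a' ha' b hb).symm.mul_right c4)
  have h2 : derivedSeries G 2 = ⁅commutator G, commutator G⁆ := by
    rw [derivedSeries_succ, derivedSeries_one]
  rw [h2, eq_bot_iff]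
  calc ⁅commutator G, commutator G⁆ ≤ ⁅N, N⁆ := Subgroup.commutator_mono hcomm hcomm
    _ = ⊥ := Subgroup.commutator_self_eq_bot_iff.mpr hNcomm

end Cfsg.Agent.S0572
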