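import Cfsg.Statements.S0019
-- import your own Cfsg.Agent.* helpers here
import Mathlib
import Cfsg.Agent.Lib.Helper1.MinNormal
import Cfsg.Agent.Lib.Helper1.SZConj

set_option autoImplicit false
open Cfsg

namespace Cfsg.Agent.S0019

open Cfsg.Agent.Lib.Helper1 Subgroup
open Pointwise

/-- an `r`-subgroup is conjugate into any subgroup of index prime to `r` -/
theorem exists_conj_mem_of_not_dvd_index {G : Type*} [Group G] [Finite G] {r : ℕ} [Fact r.Prime]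
    {Q H : Subgroup G} (hQ : IsPGroup r Q) (h : ¬ r ∣ H.index) :
    ∃ g : G, ∀ q ∈ Q, g * q * g⁻¹ ∈ H := by
  have hr : r.Prime := Fact.out
  obtain ⟨S⟩ : Nonempty (Sylow r H) := inferInstance
  have hS' : IsPGroup r ((S : Subgroup H).map H.subtype) := S.2.map _
  have hidx : ¬ r ∣ ((S : Subgroup H).map H.subtype).index := by
    rw [Subgroup.index_map_subtype]
    exact Nat.Prime.not_dvd_mul hr S.not_dvd_index h
  let S'' : Sylow r G := hS'.toSylow hidx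
  obtain ⟨T, hT⟩ := hQ.exists_le_sylow
  obtain ⟨g, hg⟩ := MulAction.exists_smul_eq G T S''
  refine ⟨g, fun q hq => ?_⟩
  have h1 : g * q * g⁻¹ ∈ ((g • T : Sylow r G) : Subgroup G) := by
    rw [Sylow.coe_subgroup_smul, mem_conj_smul_iff]
    have e : g⁻¹ * (g * q * g⁻¹) * g = q := by group
    rw [e]; exact hT hq
  rw [hg] at h1
  have h2 : g * q * g⁻¹ ∈ (S : Subgroup H).map H.subtype := h1
  exact Subgroup.map_subtype_le _ h2

/-- key step: a nontrivial normal subgroup of `G` inside `H₂` -/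
theorem step {G : Type*} [Group G] [Finite G] (H₁ H₂ : Subgroup G)
    (h12 : ∀ g : G, ∃ x ∈ H₁, ∃ y ∈ H₂, g = x * y) (N : Subgroup H₁) (hN : N.Normal) (hN1 : N ≠ ⊥)
    (r : ℕ) [Fact r.Prime] (hNr : IsPGroup r N) (hr : ¬ r ∣ H₂.index) :
    ∃ M : Subgroup G, M.Normal ∧ M ≠ ⊥ ∧ M ≤ H₂ := by
  set N' : Subgroup G := N.map H₁.subtype with hN'
  have hN'r : IsPGroup r N' := hNr.map _
  have hN'H₁ : N' ≤ H₁ := Subgroup.map_subtype_le _
  -- `N'` is normalized by `H₁`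
  have hnorm : ∀ x ∈ H₁, ∀ n ∈ N', x * n * x⁻¹ ∈ N' := by
    rintro x hx _ ⟨n, hn, rfl⟩
    exact ⟨⟨x, hx⟩ * n * ⟨x, hx⟩⁻¹, hN.conj_mem n hn ⟨x, hx⟩, rfl⟩
  have hN'H₂ : N' ≤ H₂ := by
    obtain ⟨g, hg⟩ := exists_conj_mem_of_not_dvd_index hN'r hr
    -- write `g⁻¹ = x * y`
    obtain ⟨x, hx, y, hy, hxy⟩ := h12 g⁻¹
    have hgxy : g = y⁻¹ * x⁻¹ := by rw [← mul_inv_rev, ← hxy, inv_inv]
    intro n hn
    have h1 : x * n * x⁻¹ ∈ N' := hnorm x hx n hn
    have h2 := hg _ h1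
    rw [hgxy] at h2
    have e : y⁻¹ * x⁻¹ * (x * n * x⁻¹) * (y⁻¹ * x⁻¹)⁻¹ = y⁻¹ * n * y := by group
    rw [e] at h2
    have e2 : n = y * (y⁻¹ * n * y) * y⁻¹ := by group
    rw [e2]
    exact H₂.mul_mem (H₂.mul_mem hy h2) (H₂.inv_mem hy)
  refine ⟨Subgroup.normalClosure (N' : Set G), Subgroup.normalClosure_normal, ?_, ?_⟩
  · intro h
    apply hN1
    have h1 : N' ≤ ⊥ := h ▸ Subgroup.le_normalClosure
    rw [le_bot_iff, hN', Subgroup.map_eq_bot_iff_of_injective _ H₁.subtype_injective] at h1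
    exact h1
  · rw [Subgroup.normalClosure, Subgroup.closure_le]
    intro z hz
    obtain ⟨n, hn, hconj⟩ := Group.mem_conjugatesOfSet_iff.mp hz
    obtain ⟨g, rfl⟩ := isConj_iff.mp hconj
    -- `g = y * x`
    obtain ⟨x, hx, y, hy, hxy⟩ := h12 g⁻¹
    have hgxy : g = y⁻¹ * x⁻¹ := by rw [← mul_inv_rev, ← hxy, inv_inv]
    have h1 : x⁻¹ * n * x⁻¹⁻¹ ∈ N' := hnorm x⁻¹ (H₁.inv_mem hx) n hn
    have e : g * n * g⁻¹ = y⁻¹ * (x⁻¹ * n * x⁻¹⁻¹) * y⁻¹⁻¹ := by rw [hgxy]; group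
    rw [SetLike.mem_coe, e]
    exact H₂.mul_mem (H₂.mul_mem (H₂.inv_mem hy) (hN'H₂ h1)) (H₂.inv_mem (H₂.inv_mem hy))

theorem aux.{u} : ∀ (n : ℕ) (G : Type u) [Group G] [Finite G], Nat.card G = n →
    ∀ (H₁ H₂ H₃ : Subgroup G), Group.IsSolvable H₁ → Group.IsSolvable H₂ → Group.IsSolvable H₃ →
    (∀ g : G, ∃ x ∈ H₁, ∃ y ∈ H₂, g = x * y) → (∀ g : G, ∃ x ∈ H₁, ∃ y ∈ H₃, g = x * y) →
    H₂.index.Coprime H₃.index → Group.IsSolvable G := by
  intro n
  induction n using Nat.strong_induction_on with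
  | _ n ih =>
  intro G _ _ hn H₁ H₂ H₃ h₁ h₂ h₃ h12 h13 hcop
  by_cases hH₁ : H₁ = ⊥
  · have htop : H₂ = ⊤ := by
      rw [eq_top_iff]
      intro g _
      obtain ⟨x, hx, y, hy, rfl⟩ := h12 g
      rw [hH₁, Subgroup.mem_bot] at hx
      rw [hx, one_mul]; exact hy
    rw [htop] at h₂
    exact Group.isSolvable_of_surjective (f := (⊤ : Subgroup G).subtype)
      (fun g => ⟨⟨g, Subgroup.mem_top g⟩, rfl⟩)
  · have hnt : Nontrivial H₁ := (Subgroup.nontrivial_iff_ne_bot H₁).mpr hH₁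
    obtain ⟨N, hN⟩ := exists_isMinNormal (G := H₁)
    obtain ⟨r, hr, hNr⟩ := hN.exists_prime_isPGroup
    have : Fact r.Prime := ⟨hr⟩
    -- find a nontrivial normal subgroup of `G` which is solvable
    have hex : ∃ M : Subgroup G, M.Normal ∧ M ≠ ⊥ ∧ Group.IsSolvable M := by
      by_cases hr2 : r ∣ H₂.index
      · have hr3 : ¬ r ∣ H₃.index := by
          intro hr3
          have := Nat.dvd_gcd hr2 hr3
          rw [hcop] at this
          exact hr.one_lt.ne' (Nat.dvd_one.mp this)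
        obtain ⟨M, hMn, hM1, hM3⟩ := step H₁ H₃ h13 N hN.1 hN.2.1 r hNr hr3
        exact ⟨M, hMn, hM1, Group.isSolvable_of_isSolvable_injective
          (f := Subgroup.inclusion hM3) (Subgroup.inclusion_injective _)⟩
      · obtain ⟨M, hMn, hM1, hM2⟩ := step H₁ H₂ h12 N hN.1 hN.2.1 r hNr hr2
        exact ⟨M, hMn, hM1, Group.isSolvable_of_isSolvable_injective
          (f := Subgroup.inclusion hM2) (Subgroup.inclusion_injective _)⟩
    obtain ⟨M, hMn, hM1, hMs⟩ := hex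
    set π := QuotientGroup.mk' M with hπ
    have hπs : Function.Surjective π := QuotientGroup.mk'_surjective M
    have hcard : Nat.card (G ⧸ M) < n := hn ▸ card_quotient_lt_of_ne_bot hM1
    have hsolvmap : ∀ H : Subgroup G, Group.IsSolvable H → Group.IsSolvable (H.map π) := by
      intro H hH
      exact Group.isSolvable_of_surjective (f := π.subgroupMap H) (π.subgroupMap_surjective H)
    have hprod : ∀ H K : Subgroup G, (∀ g : G, ∃ x ∈ H, ∃ y ∈ K, g = x * y) →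
        ∀ g : G ⧸ M, ∃ x ∈ H.map π, ∃ y ∈ K.map π, g = x * y := by
      intro H K hHK g
      obtain ⟨g', rfl⟩ := hπs g
      obtain ⟨x, hx, y, hy, rfl⟩ := hHK g'
      exact ⟨π x, Subgroup.mem_map_of_mem _ hx, π y, Subgroup.mem_map_of_mem _ hy, map_mul _ _ _⟩
    have hcop' : (H₂.map π).index.Coprime (H₃.map π).index :=
      Nat.Coprime.coprime_dvd_left (Subgroup.index_map_dvd H₂ hπs)
        (Nat.Coprime.coprime_dvd_right (Subgroup.index_map_dvd H₃ hπs) hcop)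
    have hq : Group.IsSolvable (G ⧸ M) :=
      ih _ hcard (G ⧸ M) rfl (H₁.map π) (H₂.map π) (H₃.map π) (hsolvmap _ h₁) (hsolvmap _ h₂)
        (hsolvmap _ h₃) (hprod _ _ h12) (hprod _ _ h13) hcop'
    exact solvable_of_ker_le_range M.subtype π (by rw [QuotientGroup.ker_mk', Subgroup.range_subtype])

/-- A finite group that factorises as H₁H₂ and as H₁H₃ with all three subgroups solvable and the indices of H₂ and H₃ coprime is solvable. -/
theorem result {G : Type*} [Group G] [Finite G] (H₁ H₂ H₃ : Subgroup G)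
    (h₁ : Group.IsSolvable H₁) (h₂ : Group.IsSolvable H₂) (h₃ : Group.IsSolvable H₃)
    (h12 : ∀ g : G, ∃ x ∈ H₁, ∃ y ∈ H₂, g = x * y) (h13 : ∀ g : G, ∃ x ∈ H₁, ∃ y ∈ H₃, g = x * y)
    (hcop : H₂.index.Coprime H₃.index) : Group.IsSolvable G := by
  exact aux _ G rfl H₁ H₂ H₃ h₁ h₂ h₃ h12 h13 hcop

end Cfsg.Agent.S0019
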