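import Cfsg.Statements.S0006
-- import your own Cfsg.Agent.* helpers here
import Mathlib
import Cfsg.Agent.S0019
import Cfsg.Agent.S0144

set_option autoImplicit false
open Cfsg

namespace Cfsg.Agent.S0006

open Subgroup

/-- subgroups of coprime index: relative index equals index -/
theorem relIndex_eq_index_of_coprime {G : Type*} [Group G] [Finite G] {H K : Subgroup G}
    (h : H.index.Coprime K.index) : K.relIndex H = K.index := by
  have e1 : K.relIndex H * H.index = (H ⊓ K).index := by
    rw [← Subgroup.inf_relIndex_left]; exact Subgroup.relIndex_mul_index inf_le_left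
  have e2 : H.relIndex K * K.index = (H ⊓ K).index := by
    rw [← Subgroup.inf_relIndex_right]; exact Subgroup.relIndex_mul_index inf_le_right
  have hdvd : K.index ∣ K.relIndex H := by
    have : K.index ∣ K.relIndex H * H.index := by rw [e1, ← e2]; exact dvd_mul_left _ _
    exact (Nat.Coprime.dvd_mul_right h.symm).mp this
  have hle : K.relIndex H ≤ K.index := by
    have h1 : K.relIndex H * H.index ≤ H.index * K.index := e1 ▸ Subgroup.index_inf_le
    have hpos : 0 < H.index := Nat.pos_of_ne_zero Subgroup.index_ne_zero_of_finite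
    rw [mul_comm] at h1
    exact Nat.le_of_mul_le_mul_left h1 hpos
  have hpos : 0 < K.relIndex H :=
    Nat.pos_of_ne_zero (Subgroup.index_ne_zero_of_finite (H := K.subgroupOf H))
  exact Nat.le_antisymm hle (Nat.le_of_dvd hpos hdvd)

/-- subgroups of coprime index: `G = H K` -/
theorem exists_mul_of_coprime_index {G : Type*} [Group G] [Finite G] {H K : Subgroup G}
    (h : H.index.Coprime K.index) : ∀ g : G, ∃ x ∈ H, ∃ y ∈ K, g = x * y := by
  let e := Subgroup.quotientSubgroupOfEmbeddingOfLE K (le_top : H ≤ ⊤)
  have hcard : Nat.card ((⊤ : Subgroup G) ⧸ K.subgroupOf ⊤) ≤ Nat.card (H ⧸ K.subgroupOf H) := by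
    have h1 : Nat.card (H ⧸ K.subgroupOf H) = K.relIndex H := rfl
    have h2 : Nat.card ((⊤ : Subgroup G) ⧸ K.subgroupOf ⊤) = K.relIndex ⊤ := rfl
    rw [h1, h2, Subgroup.relIndex_top_right, relIndex_eq_index_of_coprime h]
  have hbij : Function.Bijective e := e.injective.bijective_of_nat_card_le hcard
  intro g
  obtain ⟨q, hq⟩ := hbij.2 (QuotientGroup.mk ⟨g, Subgroup.mem_top g⟩)
  obtain ⟨x, rfl⟩ := QuotientGroup.mk_surjective q
  rw [Subgroup.quotientSubgroupOfEmbeddingOfLE_apply_mk, QuotientGroup.eq,
    Subgroup.mem_subgroupOf] at hq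
  refine ⟨x, x.2, _, hq, ?_⟩
  simp

theorem factorization_of_eq_mul_pow {N m p a : ℕ} (hp : p.Prime) (hN : N ≠ 0)
    (h : N = m * p ^ a) (ha : a = N.factorization p) :
    m.factorization p = 0 ∧ ∀ q, q ≠ p → m.factorization q = N.factorization q := by
  have hm : m ≠ 0 := by rintro rfl; simp at h; exact hN h
  have hpa : p ^ a ≠ 0 := pow_ne_zero _ hp.ne_zero
  have hf : N.factorization = m.factorization + (p ^ a).factorization := by
    rw [h]; exact Nat.factorization_mul hm hpa
  rw [hp.factorization_pow] at hf
  constructor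
  · have := congrArg (fun f => f p) hf
    simp only [Finsupp.coe_add, Pi.add_apply, Finsupp.single_eq_same] at this
    omega
  · intro q hq
    have := congrArg (fun f => f q) hf
    simp only [Finsupp.coe_add, Pi.add_apply] at this
    rw [Finsupp.single_eq_of_ne hq] at this
    omega

theorem aux.{u} : ∀ (n : ℕ) (G : Type u) [Group G] [Finite G], Nat.card G = n →
    (∀ p : ℕ, p.Prime → ∃ H : Subgroup G, H.index = p ^ (Nat.card G).factorization p) →
    Group.IsSolvable G := by
  intro n
  induction n using Nat.strong_induction_on with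
  | _ n ih =>
  intro G _ _ hn h
  have hN0 : Nat.card G ≠ 0 := Nat.card_pos.ne'
  by_cases h3 : 2 < (Nat.card G).primeFactors.card
  · obtain ⟨p₁, p₂, p₃, hp₁, hp₂, hp₃, h12, h13, h23⟩ := Finset.two_lt_card_iff.mp h3
    have hpr₁ := Nat.prime_of_mem_primeFactors hp₁
    have hpr₂ := Nat.prime_of_mem_primeFactors hp₂
    have hpr₃ := Nat.prime_of_mem_primeFactors hp₃
    -- the hypotheses pass to a `p`-complement
    have key : ∀ p : ℕ, p ∈ (Nat.card G).primeFactors → ∀ H : Subgroup G,
        H.index = p ^ (Nat.card G).factorization p → Group.IsSolvable H := by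
      intro p hp H hH
      have hpr := Nat.prime_of_mem_primeFactors hp
      have hpd : p ∣ Nat.card G := Nat.dvd_of_mem_primeFactors hp
      have hcardeq : Nat.card G = Nat.card H * p ^ (Nat.card G).factorization p := by
        rw [← hH]; exact (Subgroup.card_mul_index H).symm
      obtain ⟨hfp, hfq⟩ := factorization_of_eq_mul_pow hpr hN0 hcardeq rfl
      have hapos : 0 < (Nat.card G).factorization p :=
        hpr.factorization_pos_of_dvd hN0 hpd
      have hlt : Nat.card H < n := by
        rw [← hn, hcardeq]
        have h1 : 1 < p ^ (Nat.card G).factorization p :=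
          Nat.one_lt_pow hapos.ne' hpr.one_lt
        have h2 : 0 < Nat.card H := Nat.card_pos
        nlinarith
      apply ih _ hlt H rfl
      intro q hq
      by_cases hqp : q = p
      · subst hqp
        exact ⟨⊤, by rw [hfp, pow_zero, Subgroup.index_top]⟩
      · obtain ⟨K, hK⟩ := h q hq
        refine ⟨K.subgroupOf H, ?_⟩
        have hcop : H.index.Coprime K.index := by
          rw [hH, hK]
          exact Nat.Coprime.pow _ _ ((Nat.coprime_primes hpr hq).mpr (Ne.symm hqp))
        rw [hfq q hqp, ← hK, ← relIndex_eq_index_of_coprime hcop]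
        rfl
    obtain ⟨H₁, hH₁⟩ := h p₁ hpr₁
    obtain ⟨H₂, hH₂⟩ := h p₂ hpr₂
    obtain ⟨H₃, hH₃⟩ := h p₃ hpr₃
    have hc12 : H₁.index.Coprime H₂.index := by
      rw [hH₁, hH₂]; exact Nat.Coprime.pow _ _ ((Nat.coprime_primes hpr₁ hpr₂).mpr h12)
    have hc13 : H₁.index.Coprime H₃.index := by
      rw [hH₁, hH₃]; exact Nat.Coprime.pow _ _ ((Nat.coprime_primes hpr₁ hpr₃).mpr h13)
    have hc23 : H₂.index.Coprime H₃.index := by
      rw [hH₂, hH₃]; exact Nat.Coprime.pow _ _ ((Nat.coprime_primes hpr₂ hpr₃).mpr h23)
    exact Cfsg.Agent.S0019.result H₁ H₂ H₃ (key p₁ hp₁ H₁ hH₁) (key p₂ hp₂ H₂ hH₂)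
      (key p₃ hp₃ H₃ hH₃) (exists_mul_of_coprime_index hc12) (exists_mul_of_coprime_index hc13) hc23
  · -- at most two primes: Burnside
    have hprod := Nat.factorization_prod_pow_eq_self hN0
    rw [Finsupp.prod, Nat.support_factorization] at hprod
    have hc : (Nat.card G).primeFactors.card ≤ 2 := by omega
    rcases Nat.lt_or_ge (Nat.card G).primeFactors.card 2 with hc2 | hc2
    · rcases Nat.lt_or_ge (Nat.card G).primeFactors.card 1 with hc1 | hc1
      · have h0 : (Nat.card G).primeFactors = ∅ := Finset.card_eq_zero.mp (by omega)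
        rw [h0, Finset.prod_empty] at hprod
        exact Cfsg.Agent.S0144.result 2 2 0 0 Nat.prime_two Nat.prime_two (by rw [← hprod]; norm_num)
      · obtain ⟨p, hp⟩ := Finset.card_eq_one.mp (by omega : (Nat.card G).primeFactors.card = 1)
        have hpr : p.Prime := Nat.prime_of_mem_primeFactors (hp ▸ Finset.mem_singleton_self p)
        rw [hp, Finset.prod_singleton] at hprod
        exact Cfsg.Agent.S0144.result p p ((Nat.card G).factorization p) 0 hpr hpr
          (by rw [pow_zero, mul_one]; exact hprod.symm)
    · obtain ⟨p, q, hpq, hs⟩ := Finset.card_eq_two.mp (by omega : (Nat.card G).primeFactors.card = 2)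
      have hpr : p.Prime := Nat.prime_of_mem_primeFactors (hs ▸ Finset.mem_insert_self p _)
      have hqr : q.Prime := Nat.prime_of_mem_primeFactors
        (hs ▸ Finset.mem_insert_of_mem (Finset.mem_singleton_self q))
      rw [hs, Finset.prod_pair hpq] at hprod
      exact Cfsg.Agent.S0144.result p q _ _ hpr hqr hprod.symm

/-- Converse of Hall's Theorem: if for every prime p a finite group has a subgroup of index equal to the p-part of the group order (a Hall p-complement), then the group is solvable. -/
theorem result {G : Type*} [Group G] [Finite G]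
    (h : ∀ p : ℕ, p.Prime → ∃ H : Subgroup G, H.index = p ^ (Nat.card G).factorization p) :
    Group.IsSolvable G := by
  exact aux _ G rfl h

end Cfsg.Agent.S0006
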