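import Cfsg.Statements.S5657
import Mathlib
import Cfsg.Agent.Lib.Helper5.SUMax
import Cfsg.Agent.S5647

set_option autoImplicit false
open Cfsg

namespace Cfsg.Agent.S5657

section Aux
set_option linter.unusedSectionVars false
set_option linter.unusedVariables false
set_option linter.unusedSimpArgs false
namespace S5657aux
open Cfsg Matrix Cfsg.Agent.Lib.Helper14 Cfsg.Agent.Lib.Helper5.SpMax
  Cfsg.Agent.Lib.Helper5.UForm Cfsg.Agent.Lib.Helper5.UEichler Cfsg.Agent.Lib.Helper5.HermBridge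
  Cfsg.Agent.Lib.Helper5.SUGen
open Cfsg.Agent.S5647.S5647aux (map_eq_of_maps)
open Cfsg.Agent.Lib.Helper5.SUMax (mem_GU emb emb_mulVec emb_mem exists_tvg tv_mem_G
  Sset_smul Sset_tv)

section Abs
variable {F : Type*} [Field F] {n : ℕ} {σ : F ≃+* F}
  {f : (Fin n → F) → (Fin n → F) → F} (hf : Cfsg.Geo.IsUnitaryForm σ f)

/-- a pair of complementary totally isotropic subspaces -/
structure LP (f : (Fin n → F) → (Fin n → F) → F) (A B : Submodule F (Fin n → F)) : Prop where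
  hA : ∀ x ∈ A, ∀ y ∈ A, f x y = 0
  hB : ∀ x ∈ B, ∀ y ∈ B, f x y = 0
  hc : IsCompl A B

lemma LP.symm {A B : Submodule F (Fin n → F)} (h : LP f A B) : LP f B A :=
  ⟨h.hB, h.hA, h.hc.symm⟩

lemma LP.inf_eq {A B : Submodule F (Fin n → F)} (h : LP f A B) {x : Fin n → F} (hxA : x ∈ A)
    (hxB : x ∈ B) : x = 0 := by
  have := h.hc.inf_eq_bot
  have hx : x ∈ A ⊓ B := Submodule.mem_inf.mpr ⟨hxA, hxB⟩
  rw [this, Submodule.mem_bot] at hx
  exact hx

include hf

lemma LP.nd {A B : Submodule F (Fin n → F)} (h : LP f A B) {a : Fin n → F} (ha : a ∈ A)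
    (ha0 : a ≠ 0) : ∃ b ∈ B, f a b ≠ 0 := by
  obtain ⟨v, hv⟩ := (hf.nondegenerate a ha0).2
  have hdec := Submodule.projection_add_projection_eq_self h.hc v
  refine ⟨B.projection A h.hc.symm v, Submodule.projection_apply_mem _ _, ?_⟩
  intro h0
  apply hv
  rw [← hdec, u_add_right hf, h0, add_zero]
  exact h.hA a ha _ (Submodule.projection_apply_mem _ _)

lemma LP.sep {A B : Submodule F (Fin n → F)} (h : LP f A B) {a₁ a₂ : Fin n → F} (ha₁ : a₁ ∈ A)
    (ha₂ : a₂ ∈ A) (ha₁0 : a₁ ≠ 0) (hind : a₂ ∉ Submodule.span F {a₁}) :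
    ∃ b ∈ B, f a₁ b = 0 ∧ f a₂ b ≠ 0 := by
  obtain ⟨p, hp1, hp2⟩ := exists_sep hf ha₁0 hind
  have hdec := Submodule.projection_add_projection_eq_self h.hc p
  have hpA : A.projection B h.hc p ∈ A := Submodule.projection_apply_mem _ _
  refine ⟨B.projection A h.hc.symm p, Submodule.projection_apply_mem _ _, ?_, ?_⟩
  · have h1 := hp1
    rw [← hdec, u_add_right hf, h.hA a₁ ha₁ _ hpA, zero_add] at h1
    exact h1
  · have h1 := hp2
    rw [← hdec, u_add_right hf, h.hA a₂ ha₂ _ hpA, zero_add] at h1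
    exact h1

/-- membership in `⟨a⟩ + (B ∩ a^⊥)` -/
def InC (f : (Fin n → F) → (Fin n → F) → F) (B : Submodule F (Fin n → F)) (a x : Fin n → F) :
    Prop :=
  ∃ κ : F, ∃ b ∈ B, f b a = 0 ∧ x = κ • a + b

/-- linear dependence of two vectors -/
def Dep (x y : Fin n → F) : Prop :=
  ∃ c₁ c₂ : F, (c₁ ≠ 0 ∨ c₂ ≠ 0) ∧ c₁ • x + c₂ • y = 0

omit hf in
lemma finrank_span_pair_le (x y : Fin n → F) :
    Module.finrank F ↥(Submodule.span F ({x, y} : Set (Fin n → F))) ≤ 2 := by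
  classical
  have h1 := finrank_span_finset_le_card (R := F) ({x, y} : Finset (Fin n → F))
  have h2 : ((({x, y} : Finset (Fin n → F)) : Set (Fin n → F))) = {x, y} := by
    simp
  rw [h2] at h1
  exact h1.trans Finset.card_le_two

lemma all_or_all {k : ℕ} (hk : 5 ≤ k) {A B : Submodule F (Fin n → F)} (h : LP f A B)
    (hfrA : Module.finrank F A = k) (hfrB : Module.finrank F B = k) (g : GL (Fin n) F)
    (hdep : ∀ a' ∈ A, ∀ b' ∈ B, f b' a' = 0 →
      Dep (A.projection B h.hc ((g : Matrix (Fin n) (Fin n) F) *ᵥ b'))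
        (A.projection B h.hc ((g : Matrix (Fin n) (Fin n) F) *ᵥ a'))) :
    (∀ a' ∈ A, (g : Matrix (Fin n) (Fin n) F) *ᵥ a' ∈ B) ∨
      (∀ b' ∈ B, (g : Matrix (Fin n) (Fin n) F) *ᵥ b' ∈ B) := by
  by_contra hcon
  push Not at hcon
  obtain ⟨⟨a₀, ha₀, hp⟩, ⟨b₀, hb₀, hr⟩⟩ := hcon
  rw [← Submodule.projection_apply_eq_zero_iff h.hc] at hp hr
  obtain ⟨p, hpdef⟩ : ∃ p, p = A.projection B h.hc
    ((g : Matrix (Fin n) (Fin n) F) *ᵥ a₀) := ⟨_, rfl⟩
  obtain ⟨r, hrdef⟩ : ∃ r, r = A.projection B h.hc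
    ((g : Matrix (Fin n) (Fin n) F) *ᵥ b₀) := ⟨_, rfl⟩
  rw [← hpdef] at hp
  rw [← hrdef] at hr
  have h1 : ∀ b' ∈ B ⊓ pp hf a₀, A.projection B h.hc
      ((g : Matrix (Fin n) (Fin n) F) *ᵥ b') ∈ Submodule.span F {p} := by
    intro b' hb'
    obtain ⟨hb'B, hb'a⟩ := Submodule.mem_inf.mp hb'
    rw [mem_pp] at hb'a
    obtain ⟨c₁, c₂, hc, hrel⟩ := hdep a₀ ha₀ b' hb'B hb'a
    rw [← hpdef] at hrel
    have hc₁ : c₁ ≠ 0 := by
      intro h0
      rw [h0, zero_smul, zero_add] at hrel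
      rcases smul_eq_zero.mp hrel with h3 | h3
      · rcases hc with h4 | h4
        · exact h4 h0
        · exact h4 h3
      · exact hp h3
    have h5 : A.projection B h.hc ((g : Matrix (Fin n) (Fin n) F) *ᵥ b') =
        (-(c₂ / c₁)) • p := by
      have h6 : c₁ • A.projection B h.hc
          ((g : Matrix (Fin n) (Fin n) F) *ᵥ b') = -(c₂ • p) :=
        eq_neg_of_add_eq_zero_left hrel
      have h7 : A.projection B h.hc ((g : Matrix (Fin n) (Fin n) F) *ᵥ b') =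
          c₁⁻¹ • (c₁ • A.projection B h.hc
            ((g : Matrix (Fin n) (Fin n) F) *ᵥ b')) := by
        rw [smul_smul, inv_mul_cancel₀ hc₁, one_smul]
      rw [h7, h6, smul_neg, smul_smul, neg_smul]
      congr 2
      field_simp
    rw [h5]
    exact Submodule.smul_mem _ _ (Submodule.mem_span_singleton_self p)
  have h2 : ∀ a' ∈ A ⊓ pp hf b₀, A.projection B h.hc
      ((g : Matrix (Fin n) (Fin n) F) *ᵥ a') ∈ Submodule.span F {r} := by
    intro a' ha'
    obtain ⟨ha'A, ha'b⟩ := Submodule.mem_inf.mp ha'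
    rw [mem_pp] at ha'b
    obtain ⟨c₁, c₂, hc, hrel⟩ := hdep a' ha'A b₀ hb₀ (u_symm_zero hf ha'b)
    rw [← hrdef] at hrel
    have hc₂ : c₂ ≠ 0 := by
      intro h0
      rw [h0, zero_smul, add_zero] at hrel
      rcases smul_eq_zero.mp hrel with h3 | h3
      · rcases hc with h4 | h4
        · exact h4 h3
        · exact h4 h0
      · exact hr h3
    have h5 : A.projection B h.hc ((g : Matrix (Fin n) (Fin n) F) *ᵥ a') =
        (-(c₁ / c₂)) • r := by
      have h6 : c₂ • A.projection B h.hc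
          ((g : Matrix (Fin n) (Fin n) F) *ᵥ a') = -(c₁ • r) :=
        eq_neg_of_add_eq_zero_right hrel
      have h7 : A.projection B h.hc ((g : Matrix (Fin n) (Fin n) F) *ᵥ a') =
          c₂⁻¹ • (c₂ • A.projection B h.hc
            ((g : Matrix (Fin n) (Fin n) F) *ᵥ a')) := by
        rw [smul_smul, inv_mul_cancel₀ hc₂, one_smul]
      rw [h7, h6, smul_neg, smul_smul, neg_smul]
      congr 2
      field_simp
    rw [h5]
    exact Submodule.smul_mem _ _ (Submodule.mem_span_singleton_self r)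
  have hmaps : ∀ y ∈ (A ⊓ pp hf b₀) ⊔ (B ⊓ pp hf a₀),
      (g : Matrix (Fin n) (Fin n) F) *ᵥ y ∈
        Submodule.span F {p} ⊔ Submodule.span F {r} ⊔ B := by
    intro y hy
    obtain ⟨a', ha', b', hb', rfl⟩ := Submodule.mem_sup.mp hy
    rw [Matrix.mulVec_add]
    refine Submodule.add_mem _ ?_ ?_
    · rw [← Submodule.projection_add_projection_eq_self h.hc
        ((g : Matrix (Fin n) (Fin n) F) *ᵥ a')]
      exact Submodule.add_mem _
        (Submodule.mem_sup_left (Submodule.mem_sup_right (h2 a' ha')))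
        (Submodule.mem_sup_right (Submodule.projection_apply_mem _ _))
    · rw [← Submodule.projection_add_projection_eq_self h.hc
        ((g : Matrix (Fin n) (Fin n) F) *ᵥ b')]
      exact Submodule.add_mem _
        (Submodule.mem_sup_left (Submodule.mem_sup_left (h1 b' hb')))
        (Submodule.mem_sup_right (Submodule.projection_apply_mem _ _))
  have h3 := finrank_le_of_maps hmaps
  have h4 := Submodule.finrank_sup_add_finrank_inf_eq (A ⊓ pp hf b₀) (B ⊓ pp hf a₀)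
  have h5 : Module.finrank F ↥((A ⊓ pp hf b₀) ⊓ (B ⊓ pp hf a₀)) = 0 := by
    rw [Submodule.finrank_eq_zero, eq_bot_iff]
    intro x hx
    obtain ⟨hx1, hx2⟩ := Submodule.mem_inf.mp hx
    rw [Submodule.mem_bot]
    exact h.inf_eq (Submodule.mem_inf.mp hx1).1 (Submodule.mem_inf.mp hx2).1
  have h6 := finrank_inf_pp hf A b₀
  have h7 := finrank_inf_pp hf B a₀
  have h8 := Submodule.finrank_add_le_finrank_add_finrank
    (Submodule.span F {p} ⊔ Submodule.span F {r}) B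
  have h9 := Submodule.finrank_add_le_finrank_add_finrank
    (Submodule.span F {p}) (Submodule.span F {r})
  have h10 : Module.finrank F ↥(Submodule.span F {p}) ≤ 1 := by
    rw [finrank_span_singleton hp]
  have h11 : Module.finrank F ↥(Submodule.span F {r}) ≤ 1 := by
    rw [finrank_span_singleton hr]
  omega

end Abs

section Grp
variable {F : Type*} [Field F] [Fintype F] {q n : ℕ}

/-- `g` acts as the Siegel element `x ↦ x + h(x,w) v - h(x,v) w` -/
def IsE (q : ℕ) (g : GL (Fin n) F) (v w : Fin n → F) : Prop :=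
  ∀ x, (g : Matrix (Fin n) (Fin n) F) *ᵥ x =
    x + Cfsg.hermForm n F q x w • v - Cfsg.hermForm n F q x v • w

lemma exists_IsE (hF : Fintype.card F = q ^ 2) {v w : Fin n → F}
    (hvv : Cfsg.hermForm n F q v v = 0) (hwv : Cfsg.hermForm n F q w v = 0) :
    ∃ g : GL (Fin n) F, g ∈ Cfsg.Geo.specialLinear (Fin n) F ∧ IsE q g v w := by
  have hf := herm_unitary (n := n) hF
  obtain ⟨g, hgS, hg⟩ := exists_E hf hvv hwv 0
  refine ⟨g, hgS, fun x => ?_⟩
  rw [hg x, zero_mul, zero_smul, sub_zero]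

lemma IsE_mem_GU (hF : Fintype.card F = q ^ 2) {v w : Fin n → F}
    (hvv : Cfsg.hermForm n F q v v = 0) (hww : Cfsg.hermForm n F q w w = 0)
    (hwv : Cfsg.hermForm n F q w v = 0) {g : GL (Fin n) F} (hg : IsE q g v w) :
    g ∈ Cfsg.GU n F q := by
  have hf := herm_unitary (n := n) hF
  apply mem_GU.mpr
  refine E_isometry hf hvv hwv (κ := 0) (by rw [map_zero, add_zero, hww]) (fun x => ?_)
  rw [hg x, zero_mul, zero_smul, sub_zero]

omit [Fintype F] in
lemma IsE_conj {y : GL (Fin n) F} (hy : y ∈ Cfsg.GU n F q) {g : GL (Fin n) F}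
    {v w : Fin n → F} (hg : IsE q g v w) :
    IsE q (y * g * y⁻¹) ((y : Matrix (Fin n) (Fin n) F) *ᵥ v)
      ((y : Matrix (Fin n) (Fin n) F) *ᵥ w) := by
  intro x
  have h1 : ∀ z, Cfsg.hermForm n F q (((y⁻¹ : GL (Fin n) F) : Matrix (Fin n) (Fin n) F) *ᵥ x) z =
      Cfsg.hermForm n F q x ((y : Matrix (Fin n) (Fin n) F) *ᵥ z) := by
    intro z
    rw [← mem_GU.mp hy, mul_inv_mulVec]
  rw [Units.val_mul, Units.val_mul, ← Matrix.mulVec_mulVec, ← Matrix.mulVec_mulVec, hg,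
    Matrix.mulVec_sub, Matrix.mulVec_add, Matrix.mulVec_smul, Matrix.mulVec_smul, mul_inv_mulVec,
    h1, h1]

lemma IsE_comm (hF : Fintype.card F = q ^ 2) {v w w' : Fin n → F}
    (hvv : Cfsg.hermForm n F q v v = 0) (hwv : Cfsg.hermForm n F q w v = 0)
    (hw'v : Cfsg.hermForm n F q w' v = 0) {g g' t : GL (Fin n) F} (hg : IsE q g v w)
    (hg' : IsE q g' v w')
    (ht : ∀ x, (t : Matrix (Fin n) (Fin n) F) *ᵥ x = x +
      ((Cfsg.hermForm n F q w w' - Cfsg.hermForm n F q w' w) * Cfsg.hermForm n F q x v) • v) :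
    g * g' = t * g' * g := by
  have hf := herm_unitary (n := n) hF
  exact E_comm hf hvv hwv hw'v (κ := 0) (κ' := 0)
    (fun x => by rw [hg x, zero_mul, zero_smul, sub_zero])
    (fun x => by rw [hg' x, zero_mul, zero_smul, sub_zero]) ht

/-- the local step -/
lemma local_step (hF : Fintype.card F = q ^ 2) {M : Subgroup (GL (Fin n) F)}
    {B : Submodule F (Fin n → F)} {a : Fin n → F} (haa : Cfsg.hermForm n F q a a = 0)
    (hE : ∀ b ∈ B, Cfsg.hermForm n F q b a = 0 → ∀ g : GL (Fin n) F, IsE q g a b → g ∈ M)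
    {m₀ : GL (Fin n) F} (hm₀ : m₀ ∈ M) (hm₀U : m₀ ∈ Cfsg.GU n F q)
    (hfix : (m₀ : Matrix (Fin n) (Fin n) F) *ᵥ a = a)
    {b₂ w : Fin n → F} (hb₂ : b₂ ∈ B) (hb₂a : Cfsg.hermForm n F q b₂ a = 0) (hw : w ∈ B)
    (hwa : Cfsg.hermForm n F q w a = 0)
    (hne : Cfsg.hermForm n F q w ((m₀ : Matrix (Fin n) (Fin n) F) *ᵥ b₂) ≠ 0) :
    a ∈ Cfsg.Agent.Lib.Helper5.SUMax.Sset hF M := by
  have hf := herm_unitary (n := n) hF
  intro c hc t ht
  obtain ⟨w', hw'def⟩ : ∃ w', w' = (m₀ : Matrix (Fin n) (Fin n) F) *ᵥ b₂ := ⟨_, rfl⟩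
  rw [← hw'def] at hne
  have hw'a : Cfsg.hermForm n F q w' a = 0 := by
    have h1 := mem_GU.mp hm₀U b₂ a
    rw [hfix, ← hw'def] at h1
    rw [h1]
    exact hb₂a
  obtain ⟨ζ, hζdef⟩ : ∃ ζ, ζ = Cfsg.hermForm n F q w w' := ⟨_, rfl⟩
  rw [← hζdef] at hne
  have hζ' : Cfsg.hermForm n F q w' w = frobQ hF ζ := by rw [hζdef]; exact hf.herm w' w
  obtain ⟨d, hd0, hd⟩ := exists_skew hf.involutive hf.ne_refl
  obtain ⟨z, hz⟩ := tr_surj hf.involutive hf.ne_refl (c / d)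
    (by rw [map_div₀, hc, hd, neg_div_neg_eq])
  obtain ⟨l, hldef⟩ : ∃ l, l = z * d / ζ := ⟨_, rfl⟩
  have hlζ : l * ζ = z * d := by rw [hldef, div_mul_cancel₀ _ hne]
  have hlwa : Cfsg.hermForm n F q (l • w) a = 0 := by rw [hf.smul_left, hwa, mul_zero]
  obtain ⟨g₁, -, hg₁⟩ := exists_IsE hF haa hlwa
  obtain ⟨e₂, -, he₂⟩ := exists_IsE hF haa hb₂a
  have hg₁M : g₁ ∈ M := hE _ (B.smul_mem _ hw) hlwa g₁ hg₁
  have he₂M : e₂ ∈ M := hE b₂ hb₂ hb₂a e₂ he₂
  have hg₂ : IsE q (m₀ * e₂ * m₀⁻¹) a w' := by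
    have h1 := IsE_conj hm₀U he₂
    rwa [hfix, ← hw'def] at h1
  have hg₂M : m₀ * e₂ * m₀⁻¹ ∈ M := M.mul_mem (M.mul_mem hm₀ he₂M) (M.inv_mem hm₀)
  have hcoef : Cfsg.hermForm n F q (l • w) w' - Cfsg.hermForm n F q w' (l • w) = c := by
    rw [hf.smul_left, u_smul_right hf, hζ', ← hζdef, ← map_mul, hlζ, map_mul, hd]
    have h3 : z * d - frobQ hF z * -d = (z + frobQ hF z) * d := by ring
    rw [h3, hz, div_mul_cancel₀ _ hd0]
  have hcomm := IsE_comm hF haa hlwa hw'a hg₁ hg₂ (t := t) (fun x => by rw [ht x, hcoef])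
  have h4 : t = g₁ * (m₀ * e₂ * m₀⁻¹) * g₁⁻¹ * (m₀ * e₂ * m₀⁻¹)⁻¹ := by
    rw [hcomm]
    group
  rw [h4]
  exact M.mul_mem (M.mul_mem (M.mul_mem hg₁M hg₂M) (M.inv_mem hg₁M)) (M.inv_mem hg₂M)

lemma local_of_moved (hF : Fintype.card F = q ^ 2) {M : Subgroup (GL (Fin n) F)}
    {A B : Submodule F (Fin n → F)} (h : LP (Cfsg.hermForm n F q) A B)
    {a : Fin n → F} (ha : a ∈ A) (ha0 : a ≠ 0)
    (hE : ∀ b ∈ B, Cfsg.hermForm n F q b a = 0 → ∀ g : GL (Fin n) F, IsE q g a b → g ∈ M)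
    {m₀ : GL (Fin n) F} (hm₀ : m₀ ∈ M) (hm₀U : m₀ ∈ Cfsg.GU n F q)
    (hfix : (m₀ : Matrix (Fin n) (Fin n) F) *ᵥ a = a)
    {x : Fin n → F} (hx : InC (Cfsg.hermForm n F q) B a x)
    (hmx : ¬ InC (Cfsg.hermForm n F q) B a ((m₀ : Matrix (Fin n) (Fin n) F) *ᵥ x)) :
    a ∈ Cfsg.Agent.Lib.Helper5.SUMax.Sset hF M := by
  have hf := herm_unitary (n := n) hF
  obtain ⟨κ, b₂, hb₂, hb₂a, rfl⟩ := hx
  by_contra hcon
  obtain ⟨y, hydef⟩ : ∃ y, y = (m₀ : Matrix (Fin n) (Fin n) F) *ᵥ b₂ := ⟨_, rfl⟩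
  have hya : Cfsg.hermForm n F q y a = 0 := by
    have h1 := mem_GU.mp hm₀U b₂ a
    rw [hfix, ← hydef] at h1
    rw [h1]
    exact hb₂a
  have hyw : ∀ w ∈ B, Cfsg.hermForm n F q w a = 0 → Cfsg.hermForm n F q w y = 0 := by
    intro w hw hwa
    by_contra hne
    rw [hydef] at hne
    exact hcon (local_step hF (h.hA a ha a ha) hE hm₀ hm₀U hfix hb₂ hb₂a hw hwa hne)
  have hdec := Submodule.projection_add_projection_eq_self h.hc y
  obtain ⟨yA, hyAdef⟩ : ∃ yA, yA = A.projection B h.hc y := ⟨_, rfl⟩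
  obtain ⟨yB, hyBdef⟩ : ∃ yB, yB = B.projection A h.hc.symm y := ⟨_, rfl⟩
  rw [← hyAdef, ← hyBdef] at hdec
  have hyA : yA ∈ A := by rw [hyAdef]; exact Submodule.projection_apply_mem _ _
  have hyB : yB ∈ B := by rw [hyBdef]; exact Submodule.projection_apply_mem _ _
  have hyBa : Cfsg.hermForm n F q yB a = 0 := by
    have h1 : yB = y - yA := by rw [← hdec]; abel
    rw [h1, u_sub_left hf, hya, h.hA yA hyA a ha, sub_zero]
  have hyAw : ∀ w ∈ B, Cfsg.hermForm n F q w a = 0 → Cfsg.hermForm n F q w yA = 0 := by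
    intro w hw hwa
    have h1 : yA = y - yB := by rw [← hdec]; abel
    rw [h1, u_sub_right hf, hyw w hw hwa, h.hB w hw yB hyB, sub_zero]
  have hspan : yA ∈ Submodule.span F {a} := by
    by_contra hind
    obtain ⟨b, hb, hab, hyAb⟩ := h.sep hf ha hyA ha0 hind
    exact hyAb (u_symm_zero hf (hyAw b hb (u_symm_zero hf hab)))
  obtain ⟨κ', hκ'⟩ := Submodule.mem_span_singleton.mp hspan
  apply hmx
  refine ⟨κ + κ', yB, hyB, hyBa, ?_⟩
  rw [Matrix.mulVec_add, Matrix.mulVec_smul, hfix, ← hydef, ← hdec, ← hκ']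
  module

lemma dep_of_star (hF : Fintype.card F = q ^ 2) {k : ℕ} (hk : 5 ≤ k)
    {M : Subgroup (GL (Fin n) F)} (hMU : M ≤ Cfsg.GU n F q)
    {A B : Submodule F (Fin n → F)} (h : LP (Cfsg.hermForm n F q) A B)
    (hfrA : Module.finrank F A = k)
    (hE : ∀ a ∈ A, ∀ b ∈ B, Cfsg.hermForm n F q b a = 0 → ∀ g : GL (Fin n) F,
      IsE q g a b → g ∈ M)
    (hstar : ∀ a ∈ A, a ≠ 0 → ∀ m₀ ∈ M,
      (m₀ : Matrix (Fin n) (Fin n) F) *ᵥ a = a → ∀ x, InC (Cfsg.hermForm n F q) B a x →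
      InC (Cfsg.hermForm n F q) B a ((m₀ : Matrix (Fin n) (Fin n) F) *ᵥ x))
    {g : GL (Fin n) F} (hg : g ∈ M) {a' b' : Fin n → F} (ha' : a' ∈ A)
    (hb' : b' ∈ B) (hab : Cfsg.hermForm n F q b' a' = 0) :
    Dep (A.projection B h.hc ((g : Matrix (Fin n) (Fin n) F) *ᵥ b'))
      (A.projection B h.hc ((g : Matrix (Fin n) (Fin n) F) *ᵥ a')) := by
  have hf := herm_unitary (n := n) hF
  by_contra hnd
  obtain ⟨u, hudef⟩ : ∃ u, u = (g : Matrix (Fin n) (Fin n) F) *ᵥ a' := ⟨_, rfl⟩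
  obtain ⟨w, hwdef⟩ : ∃ w, w = (g : Matrix (Fin n) (Fin n) F) *ᵥ b' := ⟨_, rfl⟩
  rw [← hudef, ← hwdef] at hnd
  obtain ⟨e, -, he⟩ := exists_IsE hF (h.hA a' ha' a' ha') hab
  have hm₀E : IsE q (g * e * g⁻¹) u w := by
    have h1 := IsE_conj (hMU hg) he
    rwa [← hudef, ← hwdef] at h1
  have hm₀ : g * e * g⁻¹ ∈ M :=
    M.mul_mem (M.mul_mem hg (hE a' ha' b' hb' hab e he)) (M.inv_mem hg)
  obtain ⟨uA, huAdef⟩ : ∃ uA, uA = A.projection B h.hc u := ⟨_, rfl⟩
  obtain ⟨wA, hwAdef⟩ : ∃ wA, wA = A.projection B h.hc w := ⟨_, rfl⟩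
  rw [← huAdef, ← hwAdef] at hnd
  have huA : uA ∈ A := by rw [huAdef]; exact Submodule.projection_apply_mem _ _
  have hwA : wA ∈ A := by rw [hwAdef]; exact Submodule.projection_apply_mem _ _
  obtain ⟨a, haS, haT⟩ : ∃ a ∈ A ⊓ pp hf u ⊓ pp hf w,
      a ∉ Submodule.span F ({uA, wA} : Set (Fin n → F)) := by
    apply SetLike.not_le_iff_exists.mp
    intro hle
    have h1 := Submodule.finrank_mono hle
    have h2 := finrank_span_pair_le uA wA
    have h3 := finrank_inf_pp hf A u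
    have h4 := finrank_inf_pp hf (A ⊓ pp hf u) w
    omega
  obtain ⟨haS1, haw⟩ := Submodule.mem_inf.mp haS
  obtain ⟨ha, hau⟩ := Submodule.mem_inf.mp haS1
  rw [mem_pp] at hau haw
  have ha0 : a ≠ 0 := by
    rintro rfl
    exact haT (Submodule.zero_mem _)
  have hfix : ((g * e * g⁻¹ : GL (Fin n) F) : Matrix (Fin n) (Fin n) F) *ᵥ a = a := by
    rw [hm₀E a, hau, haw, zero_smul, zero_smul, add_zero, sub_zero]
  have huAa : uA ∉ Submodule.span F {a} := by
    intro hmem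
    obtain ⟨κ, hκ⟩ := Submodule.mem_span_singleton.mp hmem
    by_cases hκ0 : κ = 0
    · apply hnd
      refine ⟨0, 1, Or.inr one_ne_zero, ?_⟩
      rw [← hκ, hκ0]
      simp
    · apply haT
      have h1 : a = κ⁻¹ • uA := by rw [← hκ, smul_smul, inv_mul_cancel₀ hκ0, one_smul]
      rw [h1]
      exact Submodule.smul_mem _ _ (Submodule.subset_span (by simp))
  obtain ⟨x, hxB, hax, huAx⟩ := h.sep hf ha huA ha0 huAa
  have hxC : InC (Cfsg.hermForm n F q) B a x := ⟨0, x, hxB, u_symm_zero hf hax, by simp⟩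
  obtain ⟨κ, b'', hb'', hb''a, hmx⟩ := hstar a ha ha0 _ hm₀ hfix x hxC
  rw [hm₀E x] at hmx
  have hpx : A.projection B h.hc x = 0 := (Submodule.projection_apply_eq_zero_iff h.hc).mpr hxB
  have hpb : A.projection B h.hc b'' = 0 := (Submodule.projection_apply_eq_zero_iff h.hc).mpr hb''
  have hpa : A.projection B h.hc a = a := Submodule.projection_apply_of_mem_left h.hc ha
  have h5 := congrArg (A.projection B h.hc) hmx
  rw [map_sub, map_add, map_smul, map_smul, map_add, map_smul, hpx, hpb, hpa, ← huAdef, ← hwAdef,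
    zero_add, add_zero] at h5
  have hxu : Cfsg.hermForm n F q x u = Cfsg.hermForm n F q x uA := by
    have hdec := Submodule.projection_add_projection_eq_self h.hc u
    rw [← huAdef] at hdec
    conv_lhs => rw [← hdec]
    rw [u_add_right hf, h.hB x hxB _ (Submodule.projection_apply_mem _ _), add_zero]
  have hxu0 : Cfsg.hermForm n F q x u ≠ 0 := by
    rw [hxu]
    exact u_symm_ne hf huAx
  by_cases hκ0 : κ = 0
  · apply hnd
    refine ⟨-Cfsg.hermForm n F q x u, Cfsg.hermForm n F q x w,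
      Or.inl (neg_ne_zero.mpr hxu0), ?_⟩
    rw [hκ0, zero_smul] at h5
    rw [← h5]
    module
  · apply haT
    have h6 : a = κ⁻¹ • (Cfsg.hermForm n F q x w • uA - Cfsg.hermForm n F q x u • wA) := by
      rw [h5, smul_smul, inv_mul_cancel₀ hκ0, one_smul]
    rw [h6]
    refine Submodule.smul_mem _ _ (Submodule.sub_mem _ (Submodule.smul_mem _ _ ?_)
      (Submodule.smul_mem _ _ ?_))
    · exact Submodule.subset_span (by simp)
    · exact Submodule.subset_span (by simp)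

end Grp

section Finish
variable {F : Type*} [Field F] [Fintype F] {q n : ℕ}

lemma spread (hF : Fintype.card F = q ^ 2) {M : Subgroup (GL (Fin n) F)}
    {A B : Submodule F (Fin n → F)} (h : LP (Cfsg.hermForm n F q) A B)
    (hE : ∀ a ∈ A, ∀ b ∈ B, Cfsg.hermForm n F q b a = 0 → ∀ g : GL (Fin n) F,
      IsE q g a b → g ∈ M)
    {a₀ : Fin n → F} (ha₀ : a₀ ∈ A) (ha₀0 : a₀ ≠ 0)
    (ha₀S : a₀ ∈ Cfsg.Agent.Lib.Helper5.SUMax.Sset hF M) :
    ∀ a ∈ A, a ∈ Cfsg.Agent.Lib.Helper5.SUMax.Sset hF M := by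
  have hf := herm_unitary (n := n) hF
  intro a ha
  by_cases hspan : a ∈ Submodule.span F {a₀}
  · obtain ⟨κ, rfl⟩ := Submodule.mem_span_singleton.mp hspan
    exact Sset_smul hF ha₀S κ
  have ha0 : a ≠ 0 := by
    rintro rfl
    exact hspan (Submodule.zero_mem _)
  have hspan' : a₀ ∉ Submodule.span F {a} := by
    intro hmem
    obtain ⟨κ, hκ⟩ := Submodule.mem_span_singleton.mp hmem
    have hκ0 : κ ≠ 0 := by
      rintro rfl
      rw [zero_smul] at hκ
      exact ha₀0 hκ.symm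
    apply hspan
    have h1 : a = κ⁻¹ • a₀ := by rw [← hκ, smul_smul, inv_mul_cancel₀ hκ0, one_smul]
    rw [h1]
    exact Submodule.smul_mem _ _ (Submodule.mem_span_singleton_self a₀)
  obtain ⟨b₁, hb₁, h1, h2⟩ := h.sep hf ha₀ ha ha₀0 hspan
  obtain ⟨b₂, hb₂, h3, h4⟩ := h.sep hf ha ha₀ ha0 hspan'
  obtain ⟨b, hbdef⟩ : ∃ b, b = frobQ hF (Cfsg.hermForm n F q a b₁)⁻¹ • b₁ +
      frobQ hF (Cfsg.hermForm n F q a₀ b₂)⁻¹ • b₂ := ⟨_, rfl⟩
  have hb : b ∈ B := by rw [hbdef]; exact B.add_mem (B.smul_mem _ hb₁) (B.smul_mem _ hb₂)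
  have ha₀b : Cfsg.hermForm n F q a₀ b = 1 := by
    rw [hbdef, u_add_right hf, u_smul_right hf, u_smul_right hf, h1, mul_zero, zero_add,
      hf.involutive, inv_mul_cancel₀ h4]
  have hab : Cfsg.hermForm n F q a b = 1 := by
    rw [hbdef, u_add_right hf, u_smul_right hf, u_smul_right hf, h3, mul_zero, add_zero,
      hf.involutive, inv_mul_cancel₀ h2]
  have hbu : Cfsg.hermForm n F q b (a - a₀) = 0 := by
    rw [u_sub_right hf, hf.herm b a, hf.herm b a₀, hab, ha₀b, sub_self]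
  have huu : Cfsg.hermForm n F q (a - a₀) (a - a₀) = 0 :=
    h.hA _ (A.sub_mem ha ha₀) _ (A.sub_mem ha ha₀)
  obtain ⟨e, -, he⟩ := exists_IsE hF huu hbu
  have heM : e ∈ M := hE _ (A.sub_mem ha ha₀) b hb hbu e he
  have heU : e ∈ Cfsg.GU n F q := IsE_mem_GU hF huu (h.hB b hb b hb) hbu he
  have h5 := Cfsg.Agent.Lib.Helper5.SUMax.Sset_mulVec_mem hF heM heU ha₀S
  rw [he a₀, ha₀b, one_smul, h.hA a₀ ha₀ _ (A.sub_mem ha ha₀), zero_smul, sub_zero,
    add_sub_cancel] at h5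
  exact h5

lemma all_of_AB (hF : Fintype.card F = q ^ 2) {M : Subgroup (GL (Fin n) F)}
    {A B : Submodule F (Fin n → F)} (h : LP (Cfsg.hermForm n F q) A B)
    (hAS : ∀ a ∈ A, a ∈ Cfsg.Agent.Lib.Helper5.SUMax.Sset hF M)
    (hBS : ∀ b ∈ B, b ∈ Cfsg.Agent.Lib.Helper5.SUMax.Sset hF M) :
    ∀ v, Cfsg.hermForm n F q v v = 0 → v ∈ Cfsg.Agent.Lib.Helper5.SUMax.Sset hF M := by
  have hf := herm_unitary (n := n) hF
  intro v hvv
  have hdec := Submodule.projection_add_projection_eq_self h.hc v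
  obtain ⟨a, hadef⟩ : ∃ a, a = A.projection B h.hc v := ⟨_, rfl⟩
  obtain ⟨b, hbdef⟩ : ∃ b, b = B.projection A h.hc.symm v := ⟨_, rfl⟩
  rw [← hadef, ← hbdef] at hdec
  have ha : a ∈ A := by rw [hadef]; exact Submodule.projection_apply_mem _ _
  have hb : b ∈ B := by rw [hbdef]; exact Submodule.projection_apply_mem _ _
  rw [← hdec] at hvv ⊢
  have hbb := h.hB b hb b hb
  have hζ : frobQ hF (Cfsg.hermForm n F q a b) = -Cfsg.hermForm n F q a b := by
    rw [hf.add_left, u_add_right hf, u_add_right hf, h.hA a ha a ha, hbb, hf.herm b a] at hvv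
    linear_combination hvv
  by_cases hab : Cfsg.hermForm n F q a b = 0
  swap
  · have h1 := Sset_tv hF (hAS a ha) (hBS b hb) hbb (c := (Cfsg.hermForm n F q a b)⁻¹)
      (by rw [map_inv₀, hζ, inv_neg])
    rwa [inv_mul_cancel₀ hab, one_smul] at h1
  by_cases hb0 : b = 0
  · rw [hb0, add_zero]
    exact hAS a ha
  obtain ⟨a₁, ha₁, hba₁⟩ := h.symm.nd hf hb hb0
  have ha₁b : Cfsg.hermForm n F q a₁ b ≠ 0 := u_symm_ne hf hba₁
  obtain ⟨d, hd0, hd⟩ := exists_skew hf.involutive hf.ne_refl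
  obtain ⟨a', ha'def⟩ : ∃ a', a' = (d / Cfsg.hermForm n F q a₁ b) • a₁ := ⟨_, rfl⟩
  have ha' : a' ∈ A := by rw [ha'def]; exact A.smul_mem _ ha₁
  have ha'b : Cfsg.hermForm n F q a' b = d := by
    rw [ha'def, hf.smul_left, div_mul_cancel₀ _ ha₁b]
  have hdinv : frobQ hF d⁻¹ = -d⁻¹ := by rw [map_inv₀, hd, inv_neg]
  have hs := Sset_tv hF (hAS _ (A.add_mem ha ha')) (hBS b hb) hbb hdinv
  rw [hf.add_left, hab, zero_add, ha'b, inv_mul_cancel₀ hd0, one_smul] at hs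
  have h2 := Sset_tv hF hs (hAS a' ha') (h.hA a' ha' a' ha') hdinv
  have h3 : Cfsg.hermForm n F q (a + a' + b) a' = -d := by
    rw [hf.add_left, hf.add_left, h.hA a ha a' ha', h.hA a' ha' a' ha', hf.herm b a', ha'b, hd]
    ring
  rw [h3] at h2
  have h4 : d⁻¹ * -d = -1 := by
    field_simp
  rw [h4] at h2
  have h5 : a + a' + b + (-1 : F) • a' = a + b := by module
  rw [h5] at h2
  exact h2

/-- an element of `GU ⊓ SL` interchanging two totally isotropic subspaces in perfect duality -/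
lemma exists_swap (hF : Fintype.card F = q ^ 2) : ∀ k : ℕ, ∀ A' B' : Submodule F (Fin n → F),
    (∀ x ∈ A', ∀ y ∈ A', Cfsg.hermForm n F q x y = 0) →
    (∀ x ∈ B', ∀ y ∈ B', Cfsg.hermForm n F q x y = 0) →
    (∀ a ∈ A', a ≠ 0 → ∃ b ∈ B', Cfsg.hermForm n F q a b ≠ 0) →
    (∀ b ∈ B', b ≠ 0 → ∃ a ∈ A', Cfsg.hermForm n F q a b ≠ 0) → Module.finrank F A' = k →
    ∃ J : GL (Fin n) F, J ∈ Cfsg.GU n F q ⊓ Cfsg.Geo.specialLinear (Fin n) F ∧
      (∀ a ∈ A', (J : Matrix (Fin n) (Fin n) F) *ᵥ a ∈ B') ∧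
      (∀ b ∈ B', (J : Matrix (Fin n) (Fin n) F) *ᵥ b ∈ A') ∧
      (∀ x, (∀ a ∈ A', Cfsg.hermForm n F q x a = 0) → (∀ b ∈ B', Cfsg.hermForm n F q x b = 0) →
        (J : Matrix (Fin n) (Fin n) F) *ᵥ x = x) := by
  have hf := herm_unitary (n := n) hF
  intro k
  induction k using Nat.strong_induction_on with
  | _ k ih =>
    intro A' B' hA hB hp1 hp2 hk
    by_cases hbot : A' = ⊥
    · refine ⟨1, Subgroup.one_mem _, ?_, ?_, ?_⟩
      · intro a ha
        rw [hbot, Submodule.mem_bot] at ha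
        rw [ha, Matrix.mulVec_zero]
        exact B'.zero_mem
      · intro b hb
        by_cases hb0 : b = 0
        · rw [hb0, Matrix.mulVec_zero]
          exact A'.zero_mem
        · obtain ⟨a, ha, hab⟩ := hp2 b hb hb0
          rw [hbot, Submodule.mem_bot] at ha
          rw [ha, u_zero_left hf] at hab
          exact absurd rfl hab
      · intro x _ _
        rw [Units.val_one, Matrix.one_mulVec]
    obtain ⟨a₁, ha₁, ha₁0⟩ := (Submodule.ne_bot_iff A').mp hbot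
    obtain ⟨b₀, hb₀, hab₀⟩ := hp1 a₁ ha₁ ha₁0
    obtain ⟨b₁, hb₁def⟩ : ∃ b₁, b₁ = frobQ hF (Cfsg.hermForm n F q a₁ b₀)⁻¹ • b₀ := ⟨_, rfl⟩
    have hb₁ : b₁ ∈ B' := by rw [hb₁def]; exact B'.smul_mem _ hb₀
    have h11 : Cfsg.hermForm n F q a₁ b₁ = 1 := by
      rw [hb₁def, u_smul_right hf, hf.involutive, inv_mul_cancel₀ hab₀]
    have h11' : Cfsg.hermForm n F q b₁ a₁ = 1 := by rw [hf.herm, h11, map_one]
    have ha₁a₁ : Cfsg.hermForm n F q a₁ a₁ = 0 := hA a₁ ha₁ a₁ ha₁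
    have hb₁b₁ : Cfsg.hermForm n F q b₁ b₁ = 0 := hB b₁ hb₁ b₁ hb₁
    have hA'' : ∀ x ∈ A' ⊓ pp hf b₁, ∀ y ∈ A' ⊓ pp hf b₁, Cfsg.hermForm n F q x y = 0 :=
      fun x hx y hy => hA x (Submodule.mem_inf.mp hx).1 y (Submodule.mem_inf.mp hy).1
    have hB'' : ∀ x ∈ B' ⊓ pp hf a₁, ∀ y ∈ B' ⊓ pp hf a₁, Cfsg.hermForm n F q x y = 0 :=
      fun x hx y hy => hB x (Submodule.mem_inf.mp hx).1 y (Submodule.mem_inf.mp hy).1
    have hp1'' : ∀ a ∈ A' ⊓ pp hf b₁, a ≠ 0 →
        ∃ b ∈ B' ⊓ pp hf a₁, Cfsg.hermForm n F q a b ≠ 0 := by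
      intro a ha ha0
      obtain ⟨haA, hab₁⟩ := Submodule.mem_inf.mp ha
      rw [mem_pp] at hab₁
      obtain ⟨b, hb, hab⟩ := hp1 a haA ha0
      refine ⟨b - Cfsg.hermForm n F q b a₁ • b₁, Submodule.mem_inf.mpr
        ⟨B'.sub_mem hb (B'.smul_mem _ hb₁), ?_⟩, ?_⟩
      · rw [mem_pp, u_sub_left hf, hf.smul_left, h11']
        ring
      · rw [u_sub_right hf, u_smul_right hf, hab₁, mul_zero, sub_zero]
        exact hab
    have hp2'' : ∀ b ∈ B' ⊓ pp hf a₁, b ≠ 0 →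
        ∃ a ∈ A' ⊓ pp hf b₁, Cfsg.hermForm n F q a b ≠ 0 := by
      intro b hb hb0
      obtain ⟨hbB, hba₁⟩ := Submodule.mem_inf.mp hb
      rw [mem_pp] at hba₁
      obtain ⟨a, ha, hab⟩ := hp2 b hbB hb0
      refine ⟨a - Cfsg.hermForm n F q a b₁ • a₁, Submodule.mem_inf.mpr
        ⟨A'.sub_mem ha (A'.smul_mem _ ha₁), ?_⟩, ?_⟩
      · rw [mem_pp, u_sub_left hf, hf.smul_left, h11]
        ring
      · rw [u_sub_left hf, hf.smul_left, u_symm_zero hf hba₁, mul_zero, sub_zero]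
        exact hab
    have hlt : Module.finrank F ↥(A' ⊓ pp hf b₁) < Module.finrank F A' := by
      apply Submodule.finrank_lt_finrank_of_lt
      refine lt_of_le_of_ne inf_le_left (fun heq => ?_)
      have h1 : a₁ ∈ A' ⊓ pp hf b₁ := by rw [heq]; exact ha₁
      have h2 := (Submodule.mem_inf.mp h1).2
      rw [mem_pp, h11] at h2
      exact one_ne_zero h2
    obtain ⟨J'', hJ''S, hJ''A, hJ''B, hJ''fix⟩ := ih _ (by rw [← hk]; exact hlt) _ _ hA'' hB''
      hp1'' hp2'' rfl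
    -- the Weyl element of the hyperbolic pair
    obtain ⟨c, hc0, hc⟩ := exists_skew hf.involutive hf.ne_refl
    obtain ⟨w, hwT, hwa, hwb⟩ := w_spec hF
      (U := Submodule.span F ({a₁, b₁} : Set (Fin n → F)))
      (Submodule.subset_span (by simp)) (Submodule.subset_span (by simp)) ha₁a₁ hb₁b₁ h11 hc0 hc
    have hw₁fix : ∀ x, Cfsg.hermForm n F q x a₁ = 0 → Cfsg.hermForm n F q x b₁ = 0 →
        ((emb n F q w : GL (Fin n) F) : Matrix (Fin n) (Fin n) F) *ᵥ x = x := by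
      intro x h1 h2
      rw [emb_mulVec]
      apply TU_fix hwT
      intro u hu
      obtain ⟨α, β, rfl⟩ := Submodule.mem_span_pair.mp hu
      rw [u_add_right hf, u_smul_right hf, u_smul_right hf, h1, h2]
      ring
    have hJa₁ : (J'' : Matrix (Fin n) (Fin n) F) *ᵥ a₁ = a₁ :=
      hJ''fix a₁ (fun a ha => hA a₁ ha₁ a (Submodule.mem_inf.mp ha).1)
        (fun b hb => u_symm_zero hf ((mem_pp hf).mp (Submodule.mem_inf.mp hb).2))
    have hJb₁ : (J'' : Matrix (Fin n) (Fin n) F) *ᵥ b₁ = b₁ :=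
      hJ''fix b₁ (fun a ha => u_symm_zero hf ((mem_pp hf).mp (Submodule.mem_inf.mp ha).2))
        (fun b hb => hB b₁ hb₁ b (Submodule.mem_inf.mp hb).1)
    refine ⟨emb n F q w * J'', mul_mem (emb_mem w) hJ''S, ?_, ?_, ?_⟩
    · intro a ha
      have h1 : a - Cfsg.hermForm n F q a b₁ • a₁ ∈ A' ⊓ pp hf b₁ := by
        refine Submodule.mem_inf.mpr ⟨A'.sub_mem ha (A'.smul_mem _ ha₁), ?_⟩
        rw [mem_pp, u_sub_left hf, hf.smul_left, h11]
        ring
      have h2 := hJ''A _ h1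
      obtain ⟨h2B, h2a⟩ := Submodule.mem_inf.mp h2
      rw [mem_pp] at h2a
      have h3 : a = (a - Cfsg.hermForm n F q a b₁ • a₁) + Cfsg.hermForm n F q a b₁ • a₁ := by
        abel
      rw [h3, Units.val_mul, ← Matrix.mulVec_mulVec, Matrix.mulVec_add, Matrix.mulVec_smul, hJa₁,
        Matrix.mulVec_add, Matrix.mulVec_smul, hw₁fix _ h2a (hB _ h2B b₁ hb₁), emb_mulVec, hwa]
      exact B'.add_mem h2B (B'.smul_mem _ (B'.smul_mem _ hb₁))
    · intro b hb
      have h1 : b - Cfsg.hermForm n F q b a₁ • b₁ ∈ B' ⊓ pp hf a₁ := by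
        refine Submodule.mem_inf.mpr ⟨B'.sub_mem hb (B'.smul_mem _ hb₁), ?_⟩
        rw [mem_pp, u_sub_left hf, hf.smul_left, h11']
        ring
      have h2 := hJ''B _ h1
      obtain ⟨h2A, h2b⟩ := Submodule.mem_inf.mp h2
      rw [mem_pp] at h2b
      have h3 : b = (b - Cfsg.hermForm n F q b a₁ • b₁) + Cfsg.hermForm n F q b a₁ • b₁ := by
        abel
      rw [h3, Units.val_mul, ← Matrix.mulVec_mulVec, Matrix.mulVec_add, Matrix.mulVec_smul, hJb₁,
        Matrix.mulVec_add, Matrix.mulVec_smul, hw₁fix _ (hA _ h2A a₁ ha₁) h2b, emb_mulVec, hwb]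
      exact A'.add_mem h2A (A'.smul_mem _ (A'.smul_mem _ ha₁))
    · intro x hxA hxB
      rw [Units.val_mul, ← Matrix.mulVec_mulVec,
        hJ''fix x (fun a ha => hxA a (Submodule.mem_inf.mp ha).1)
          (fun b hb => hxB b (Submodule.mem_inf.mp hb).1),
        hw₁fix x (hxA a₁ ha₁) (hxB b₁ hb₁)]

end Finish

section Main
variable {F : Type*} [Field F] [Fintype F] {q n : ℕ}

lemma IsE_mem_SL (hF : Fintype.card F = q ^ 2) {v w : Fin n → F}
    (hvv : Cfsg.hermForm n F q v v = 0) (hwv : Cfsg.hermForm n F q w v = 0)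
    {g : GL (Fin n) F} (hg : IsE q g v w) : g ∈ Cfsg.Geo.specialLinear (Fin n) F := by
  obtain ⟨g', hS, hg'⟩ := exists_IsE hF hvv hwv
  have h1 : g = g' := Units.ext (mat_eq_of_mulVec fun x => by rw [hg, hg'])
  rw [h1]
  exact hS

theorem main (hF : Fintype.card F = q ^ 2) (hn : 13 ≤ n) (k : ℕ) (hk : 2 * k = n)
    (D : Fin 2 → Submodule F (Fin n → F)) (hD : Cfsg.Geo.IsMDecomposition k D)
    (hts : ∀ i, Cfsg.Geo.IsTotallySingularFor (Cfsg.hermForm n F q) (D i)) :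
    Cfsg.Geo.IsMaximalIn (Cfsg.GU n F q ⊓ Cfsg.Geo.specialLinear (Fin n) F)
      (Cfsg.Geo.decompositionStabilizer D ⊓
        (Cfsg.GU n F q ⊓ Cfsg.Geo.specialLinear (Fin n) F)) := by
  have hf := herm_unitary (n := n) hF
  have hk7 : 7 ≤ k := by omega
  have hc : IsCompl (D 0) (D 1) := by
    refine ⟨hD.indep.pairwiseDisjoint (by decide), ?_⟩
    rw [codisjoint_iff, eq_top_iff, ← hD.iSup_eq_top]
    apply iSup_le
    intro i
    fin_cases i
    · exact le_sup_left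
    · exact le_sup_right
  have h : LP (Cfsg.hermForm n F q) (D 0) (D 1) := ⟨hts 0, hts 1, hc⟩
  have hfrA := hD.finrank_eq 0
  have hfrB := hD.finrank_eq 1
  have hmem_of : ∀ g : GL (Fin n) F,
      ((∀ a ∈ D 0, (g : Matrix (Fin n) (Fin n) F) *ᵥ a ∈ D 0) ∧
        (∀ b ∈ D 1, (g : Matrix (Fin n) (Fin n) F) *ᵥ b ∈ D 1)) ∨
      ((∀ a ∈ D 0, (g : Matrix (Fin n) (Fin n) F) *ᵥ a ∈ D 1) ∧
        (∀ b ∈ D 1, (g : Matrix (Fin n) (Fin n) F) *ᵥ b ∈ D 0)) →
      g ∈ Cfsg.Geo.decompositionStabilizer D := by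
    rintro g (⟨h1, h2⟩ | ⟨h1, h2⟩)
    · refine ⟨1, fun i => ?_⟩
      fin_cases i
      · exact map_eq_of_maps h1 rfl
      · exact map_eq_of_maps h2 rfl
    · refine ⟨Equiv.swap 0 1, fun i => ?_⟩
      fin_cases i
      · change (D 0).map _ = D (Equiv.swap 0 1 0)
        rw [Equiv.swap_apply_left]
        exact map_eq_of_maps h1 (by rw [hfrA, hfrB])
      · change (D 1).map _ = D (Equiv.swap 0 1 1)
        rw [Equiv.swap_apply_right]
        exact map_eq_of_maps h2 (by rw [hfrA, hfrB])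
  have hne0 : ∃ a ∈ D 0, a ≠ 0 := by
    apply (Submodule.ne_bot_iff _).mp
    intro hbot
    rw [hbot, finrank_bot] at hfrA
    omega
  have hne1 : ∃ b ∈ D 1, b ≠ 0 := by
    apply (Submodule.ne_bot_iff _).mp
    intro hbot
    rw [hbot, finrank_bot] at hfrB
    omega
  have hE0 : ∀ a ∈ D 0, ∀ b ∈ D 1, Cfsg.hermForm n F q b a = 0 → ∀ g : GL (Fin n) F,
      IsE q g a b → g ∈ Cfsg.Geo.decompositionStabilizer D ⊓
        (Cfsg.GU n F q ⊓ Cfsg.Geo.specialLinear (Fin n) F) := by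
    intro a ha b hb hba g hg
    refine ⟨hmem_of _ (Or.inl ⟨?_, ?_⟩),
      IsE_mem_GU hF (h.hA a ha a ha) (h.hB b hb b hb) hba hg,
      IsE_mem_SL hF (h.hA a ha a ha) hba hg⟩
    · intro x hx
      rw [hg x, h.hA x hx a ha, zero_smul, sub_zero]
      exact (D 0).add_mem hx ((D 0).smul_mem _ ha)
    · intro x hx
      rw [hg x, h.hB x hx b hb, zero_smul, add_zero]
      exact (D 1).sub_mem hx ((D 1).smul_mem _ hb)
  have hE1 : ∀ b ∈ D 1, ∀ a ∈ D 0, Cfsg.hermForm n F q a b = 0 → ∀ g : GL (Fin n) F,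
      IsE q g b a → g ∈ Cfsg.Geo.decompositionStabilizer D ⊓
        (Cfsg.GU n F q ⊓ Cfsg.Geo.specialLinear (Fin n) F) := by
    intro b hb a ha hab g hg
    refine ⟨hmem_of _ (Or.inl ⟨?_, ?_⟩),
      IsE_mem_GU hF (h.hB b hb b hb) (h.hA a ha a ha) hab hg,
      IsE_mem_SL hF (h.hB b hb b hb) hab hg⟩
    · intro x hx
      rw [hg x, h.hA x hx a ha, zero_smul, add_zero]
      exact (D 0).sub_mem hx ((D 0).smul_mem _ ha)
    · intro x hx
      rw [hg x, h.hB x hx b hb, zero_smul, sub_zero]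
      exact (D 1).add_mem hx ((D 1).smul_mem _ hb)
  refine ⟨?_, ?_⟩
  · rw [lt_iff_le_and_ne]
    refine ⟨inf_le_right, fun heq => ?_⟩
    obtain ⟨a, ha, ha0⟩ := hne0
    obtain ⟨b, hb, hab⟩ := h.nd hf ha ha0
    obtain ⟨c, hc0, hcs⟩ := exists_skew hf.involutive hf.ne_refl
    obtain ⟨t, htG, ht⟩ := exists_tvg hF (h.hA a ha a ha) hcs
    have hT : t ∈ Cfsg.Geo.decompositionStabilizer D ⊓
        (Cfsg.GU n F q ⊓ Cfsg.Geo.specialLinear (Fin n) F) := by
      rw [heq]; exact htG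
    obtain ⟨σ, hσ⟩ := hT.1
    have hTa : (t : Matrix (Fin n) (Fin n) F) *ᵥ a = a := by
      rw [ht, h.hA a ha a ha, mul_zero, zero_smul, add_zero]
    have h0 : σ 0 = 0 := by
      by_contra hne
      have h1 : σ 0 = 1 := by
        obtain ⟨v, hv⟩ : ∃ v, σ 0 = v := ⟨_, rfl⟩
        fin_cases v
        · exact absurd hv hne
        · exact hv
      have h3 : a ∈ D (σ 0) := by
        rw [← hσ 0]
        exact ⟨a, ha, by rw [Matrix.toLin'_apply]; exact hTa⟩
      rw [h1] at h3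
      exact ha0 (h.inf_eq ha h3)
    have h1 : σ 1 = 1 := by
      obtain ⟨v, hv⟩ : ∃ v, σ 1 = v := ⟨_, rfl⟩
      fin_cases v
      · exfalso
        have := σ.injective (hv.trans h0.symm)
        exact absurd this (by decide)
      · exact hv
    have h3 : (t : Matrix (Fin n) (Fin n) F) *ᵥ b ∈ D 1 := by
      have h4 : (t : Matrix (Fin n) (Fin n) F) *ᵥ b ∈ D (σ 1) := by
        rw [← hσ 1]
        exact ⟨b, hb, by rw [Matrix.toLin'_apply]⟩
      rwa [h1] at h4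
    rw [ht, (D 1).add_mem_iff_right hb] at h3
    have hba : Cfsg.hermForm n F q b a ≠ 0 := u_symm_ne hf hab
    have h5 : a ∈ D 1 := by
      have := (D 1).smul_mem (c * Cfsg.hermForm n F q b a)⁻¹ h3
      rwa [smul_smul, inv_mul_cancel₀ (mul_ne_zero hc0 hba), one_smul] at this
    exact ha0 (h.inf_eq ha h5)
  · intro M hHM hMG
    have hMU : M ≤ Cfsg.GU n F q := fun x hx => (hMG hx).1
    by_cases hMH : M = Cfsg.Geo.decompositionStabilizer D ⊓
        (Cfsg.GU n F q ⊓ Cfsg.Geo.specialLinear (Fin n) F)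
    · left; exact hMH
    right
    apply le_antisymm hMG
    obtain ⟨g, hgM, hgH⟩ : ∃ g ∈ M, g ∉ Cfsg.Geo.decompositionStabilizer D ⊓
        (Cfsg.GU n F q ⊓ Cfsg.Geo.specialLinear (Fin n) F) := by
      by_contra hcon
      push Not at hcon
      exact hMH (le_antisymm hcon hHM)
    have hgS : g ∉ Cfsg.Geo.decompositionStabilizer D := fun hh => hgH ⟨hh, hMG hgM⟩
    obtain ⟨J, hJG, hJA, hJB, -⟩ := exists_swap hF k (D 0) (D 1) (hts 0) (hts 1)
      (fun a ha ha0 => h.nd hf ha ha0)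
      (fun b hb hb0 => by
        obtain ⟨a, ha, hba⟩ := h.symm.nd hf hb hb0
        exact ⟨a, ha, u_symm_ne hf hba⟩) hfrA
    have hJM : J ∈ M := hHM ⟨hmem_of J (Or.inr ⟨hJA, hJB⟩), hJG⟩
    have hJU' : J⁻¹ ∈ Cfsg.GU n F q := inv_mem hJG.1
    have hall : ∀ v, Cfsg.hermForm n F q v v = 0 →
        v ∈ Cfsg.Agent.Lib.Helper5.SUMax.Sset hF M := by
      by_cases hstarA : ∀ a ∈ D 0, a ≠ 0 → ∀ m₀ ∈ M,
          (m₀ : Matrix (Fin n) (Fin n) F) *ᵥ a = a → ∀ x,
          InC (Cfsg.hermForm n F q) (D 1) a x →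
          InC (Cfsg.hermForm n F q) (D 1) a ((m₀ : Matrix (Fin n) (Fin n) F) *ᵥ x)
      · by_cases hstarB : ∀ b ∈ D 1, b ≠ 0 → ∀ m₀ ∈ M,
            (m₀ : Matrix (Fin n) (Fin n) F) *ᵥ b = b → ∀ x,
            InC (Cfsg.hermForm n F q) (D 0) b x →
            InC (Cfsg.hermForm n F q) (D 0) b ((m₀ : Matrix (Fin n) (Fin n) F) *ᵥ x)
        · exfalso
          apply hgS
          have d1 := all_or_all hf (by omega : 5 ≤ k) h hfrA hfrB g
            (fun a' ha' b' hb' hab =>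
              dep_of_star hF (by omega : 5 ≤ k) hMU h hfrA
                (fun a ha b hb hba e he => hHM (hE0 a ha b hb hba e he))
                hstarA hgM ha' hb' hab)
          have d2 := all_or_all hf (by omega : 5 ≤ k) h.symm hfrB hfrA g
            (fun a' ha' b' hb' hab =>
              dep_of_star hF (by omega : 5 ≤ k) hMU h.symm hfrB
                (fun b hb a ha hab e he => hHM (hE1 b hb a ha hab e he))
                hstarB hgM ha' hb' hab)
          apply hmem_of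
          rcases d1 with d1 | d1
          · rcases d2 with d2 | d2
            · exact Or.inr ⟨d1, d2⟩
            · exfalso
              obtain ⟨a, ha, ha0⟩ := hne0
              have h3 := h.inf_eq (d2 a ha) (d1 a ha)
              apply ha0
              have h4 := inv_mul_mulVec g a
              rw [h3, Matrix.mulVec_zero] at h4
              exact h4.symm
          · rcases d2 with d2 | d2
            · exfalso
              obtain ⟨b, hb, hb0⟩ := hne1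
              have h3 := h.inf_eq (d2 b hb) (d1 b hb)
              apply hb0
              have h4 := inv_mul_mulVec g b
              rw [h3, Matrix.mulVec_zero] at h4
              exact h4.symm
            · exact Or.inl ⟨d2, d1⟩
        · push Not at hstarB
          obtain ⟨b, hb, hb0, m₀, hm₀, hfix, x, hx, hmx⟩ := hstarB
          have hbS := local_of_moved hF h.symm hb hb0
            (fun a ha hab e he => hHM (hE1 b hb a ha hab e he)) hm₀ (hMU hm₀) hfix hx hmx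
          have hBS := spread hF h.symm
            (fun b hb a ha hab e he => hHM (hE1 b hb a ha hab e he)) hb hb0 hbS
          have hAS : ∀ a ∈ D 0, a ∈ Cfsg.Agent.Lib.Helper5.SUMax.Sset hF M := by
            intro a ha
            have h3 := Cfsg.Agent.Lib.Helper5.SUMax.Sset_mulVec_mem hF (M.inv_mem hJM) hJU'
              (hBS _ (hJA a ha))
            rwa [inv_mul_mulVec] at h3
          exact all_of_AB hF h hAS hBS
      · push Not at hstarA
        obtain ⟨a, ha, ha0, m₀, hm₀, hfix, x, hx, hmx⟩ := hstarA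
        have haS := local_of_moved hF h ha ha0
          (fun b hb hba e he => hHM (hE0 a ha b hb hba e he)) hm₀ (hMU hm₀) hfix hx hmx
        have hAS := spread hF h
          (fun a ha b hb hba e he => hHM (hE0 a ha b hb hba e he)) ha ha0 haS
        have hBS : ∀ b ∈ D 1, b ∈ Cfsg.Agent.Lib.Helper5.SUMax.Sset hF M := by
          intro b hb
          have h3 := Cfsg.Agent.Lib.Helper5.SUMax.Sset_mulVec_mem hF (M.inv_mem hJM) hJU'
            (hAS _ (hJB b hb))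
          rwa [inv_mul_mulVec] at h3
        exact all_of_AB hF h hAS hBS
    exact Cfsg.Agent.Lib.Helper5.SUMax.le_of_forall_mem_Sset hF (by omega) (by omega) M hall

end Main

end S5657aux
end Aux

/-- Let F be the field with q² elements and n = 2k ≥ 13. Let D be a decomposition of F^n into two complementary subspaces of dimension k on each of which the standard unitary form vanishes identically. Then the elements of SU_n(q) preserving or interchanging the two subspaces form a maximal subgroup of SU_n(q). -/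
theorem result {F : Type*} [Field F] [Fintype F] (n q : ℕ) (hF : Fintype.card F = q ^ 2) (hn : 13 ≤ n) (k : ℕ) (hk : 2 * k = n) (D : Fin 2 → Submodule F (Fin n → F)) (hD : Cfsg.Geo.IsMDecomposition k D) (hts : ∀ i, Cfsg.Geo.IsTotallySingularFor (Cfsg.hermForm n F q) (D i)) : Cfsg.Geo.IsMaximalIn (Cfsg.GU n F q ⊓ Cfsg.Geo.specialLinear (Fin n) F) (Cfsg.Geo.decompositionStabilizer D ⊓ (Cfsg.GU n F q ⊓ Cfsg.Geo.specialLinear (Fin n) F)) := by
  exact S5657aux.main hF hn k hk D hD hts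

end Cfsg.Agent.S5657
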