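import Cfsg.Statements.S4448
import Cfsg.Agent.Lib.Helper1.Coprime
import Cfsg.Agent.Lib.Helper6.Clifford
import Cfsg.Agent.Lib.Helper6.CliffordCorr
import Cfsg.Agent.Lib.Helper6.AbelianQuot
import Cfsg.Agent.Lib.Helper6.LinChar
import Cfsg.Agent.Lib.Lead.CharEquiv
import Cfsg.Agent.Lib.Helper24.IrrFacts

set_option autoImplicit false
open Cfsg

namespace Cfsg.Agent.S4448

open Cfsg.Agent.Lib Cfsg.Agent.CharLib Cfsg.Agent.Lib.Helper6
open scoped ComplexConjugate commutatorElement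
open Pointwise

universe u

section generic
variable {H : Type u} [Group H] [Fintype H]

/-- Two characters with a common irreducible constituent have nonzero inner product. -/
theorem classInner_ne_zero_of_common {Φ Ψ θ : H → ℂ} (hΦ : IsCharacter H Φ) (hΨ : IsCharacter H Ψ)
    (hθ : IsIrrCharacter H θ) (h1 : classInner Φ θ ≠ 0) (h2 : classInner Ψ θ ≠ 0) :
    classInner Φ Ψ ≠ 0 := by
  have hα := IsCharacter.sub_constituent hΦ hθ h1
  have hβ := IsCharacter.sub_constituent hΨ hθ h2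
  have hθc := IsIrrCharacter.isCharacter hθ
  obtain ⟨a, ha⟩ := IsCharacter.classInner_nat hθc hβ
  obtain ⟨b, hb⟩ := IsCharacter.classInner_nat hα hθc
  obtain ⟨c, hc⟩ := IsCharacter.classInner_nat hα hβ
  have e1 : Φ = θ + (Φ - θ) := by abel
  have e2 : Ψ = θ + (Ψ - θ) := by abel
  rw [e1, e2, classInner_add_left, classInner_add_right, classInner_add_right, ha, hb, hc,
    classInner_irr hθ hθ, if_pos rfl]
  have : ((1 : ℂ) + a + (b + c)) = ((1 + a + b + c : ℕ) : ℂ) := by push_cast; ring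
  rw [this]
  exact_mod_cast (by omega : 1 + a + b + c ≠ 0)

/-- Every irreducible character of a subgroup lies under some irreducible character. -/
theorem exists_over (N : Subgroup H) [Fintype N] {θ : N → ℂ} (hθ : IsIrrCharacter N θ) :
    ∃ χ : H → ℂ, IsIrrCharacter H χ ∧ classInner (resFun N χ) θ ≠ 0 := by
  classical
  have hθc : IsCharacter N θ := IsIrrCharacter.isCharacter hθ
  have hind : IsCharacter H (indFun N θ) := IsCharacter.indFun N hθc
  have hθ1 : θ 1 ≠ 0 := Helper24.irr_apply_one_ne_zero ⟨θ, hθ⟩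
  have hne : indFun N θ ≠ 0 := by
    intro h0
    have h1 := congrFun h0 1
    rw [Helper6.indFun_apply_one] at h1
    have hH : (Nat.card N : ℂ) ≠ 0 := by
      have : 0 < Nat.card N := Nat.card_pos
      exact_mod_cast this.ne'
    have hG : (Nat.card H : ℂ) ≠ 0 := by
      have : 0 < Nat.card H := Nat.card_pos
      exact_mod_cast this.ne'
    have : (Nat.card N : ℂ)⁻¹ * (Nat.card H : ℂ) * θ 1 ≠ 0 :=
      mul_ne_zero (mul_ne_zero (inv_ne_zero hH) hG) hθ1
    exact this h1
  obtain ⟨χ, hχ, hχne⟩ := IsCharacter.exists_constituent hind hne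
  have hχc : IsCharacter H χ := IsIrrCharacter.isCharacter hχ
  have hcls : IsClassFunction H χ := IsCharacter.isClassFunction hχc
  rw [frobenius_reciprocity N θ hcls] at hχne
  refine ⟨χ, hχ, ?_⟩
  intro h0
  apply hχne
  rw [Cfsg.Agent.Lib.Helper10.classInner_conj_symm]
  have : classInner (fun h : N => χ h) θ = 0 := h0
  rw [this, map_zero]

/-- With abelian quotient, any two irreducible characters of `H` over the character `θ`
of `N` differ by a linear character of `H/N` (no invariance assumption). -/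
theorem exists_linear_mul_eq (N : Subgroup H) [hN : N.Normal] [Fintype N]
    (hab : ∀ x y : H, ⁅x, y⁆ ∈ N) {θ : N → ℂ} (hθ : IsIrrCharacter N θ)
    {ψ ψ' : H → ℂ} (hψ : IsIrrCharacter H ψ)
    (hψ' : IsIrrCharacter H ψ') (h : classInner (resFun N ψ) θ ≠ 0)
    (h' : classInner (resFun N ψ') θ ≠ 0) :
    ∃ lam : H → ℂ, IsIrrCharacter H lam ∧ lam 1 = 1 ∧
      (∀ (n : N) (g : H), lam ((n : H) * g) = lam g) ∧ ψ' = lam * ψ := by
  classical
  let _ := fintypeIrr H
  have hψcf : IsClassFunction H ψ := IsCharacter.isClassFunction (IsIrrCharacter.isCharacter hψ)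
  have hψ'cf : IsClassFunction H ψ' := IsCharacter.isClassFunction (IsIrrCharacter.isCharacter hψ')
  have h1 : indFun N (resFun N ψ) = indFun N (1 : N → ℂ) * ψ := by
    rw [← indFun_mul_resFun N (1 : N → ℂ) hψcf, one_mul]
  have h2 : classInner (indFun N (resFun N ψ)) ψ' ≠ 0 := by
    rw [frobenius_reciprocity N _ hψ'cf]
    change classInner (resFun N ψ) (resFun N ψ') ≠ 0
    exact classInner_ne_zero_of_common (isCharacter_resFun N (IsIrrCharacter.isCharacter hψ))
      (isCharacter_resFun N (IsIrrCharacter.isCharacter hψ')) hθ h h'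
  rw [h1, classFunction_eq_sum (indFun_isClassFunction N (1 : N → ℂ)), Finset.sum_mul,
    classInner_sum_left] at h2
  obtain ⟨lam, -, hlam⟩ := Finset.exists_ne_zero_of_sum_ne_zero h2
  rw [smul_mul_assoc, classInner_smul_left] at hlam
  have hlamB : classInner (indFun N (1 : N → ℂ)) (lam : H → ℂ) ≠ 0 := left_ne_zero_of_mul hlam
  have hlam2 : classInner ((lam : H → ℂ) * ψ) ψ' ≠ 0 := right_ne_zero_of_mul hlam
  have hlam1 : (lam : H → ℂ) 1 = 1 := apply_one_eq_one_of_indFun_one_ne_zero N hab lam.2 hlamB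
  have hirr := isIrrCharacter_linear_mul (IsIrrCharacter.isCharacter lam.2) hlam1 hψ
  rw [classInner_irr hirr hψ'] at hlam2
  have heq : (lam : H → ℂ) * ψ = ψ' := by
    by_contra hne
    rw [if_neg hne] at hlam2
    exact hlam2 rfl
  exact ⟨lam, lam.2, hlam1, (apply_mul_of_indFun_one_ne_zero N lam.2 hlamB).2, heq.symm⟩

end generic


section actions

/-- Multiplication by linear characters, as an action on the irreducible characters. -/
noncomputable def actL (H : Type u) [Group H] [Fintype H] : MulAction (H →* ℂˣ) (IrrCharacter H) where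
  smul φ χ := ⟨(fun g => ((φ g : ℂˣ) : ℂ)) * (χ : H → ℂ),
    isIrrCharacter_linear_mul (isCharacter_of_hom φ) (by simp) χ.2⟩
  one_smul χ := by
    apply Subtype.ext
    funext g
    change (((1 : H →* ℂˣ) g : ℂˣ) : ℂ) * (χ : H → ℂ) g = (χ : H → ℂ) g
    simp
  mul_smul φ₁ φ₂ χ := by
    apply Subtype.ext
    funext g
    change (((φ₁ * φ₂) g : ℂˣ) : ℂ) * (χ : H → ℂ) g =
      ((φ₁ g : ℂˣ) : ℂ) * (((φ₂ g : ℂˣ) : ℂ) * (χ : H → ℂ) g)
    rw [MonoidHom.mul_apply, Units.val_mul, mul_assoc]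

variable {Γ : Type u} [Group Γ]

/-- Conjugation by an element of `S` on a subgroup normalized by `S`. -/
def cj (H S : Subgroup Γ) (hn : ∀ s ∈ S, ∀ h ∈ H, s * h * s⁻¹ ∈ H) (s : S) : H ≃* H where
  toFun h := ⟨s * h * (s : Γ)⁻¹, hn s s.2 h h.2⟩
  invFun h := ⟨(s : Γ)⁻¹ * h * s, by
    have := hn (s : Γ)⁻¹ (S.inv_mem s.2) h h.2
    simpa using this⟩
  left_inv h := by apply Subtype.ext; simp [mul_assoc]
  right_inv h := by apply Subtype.ext; simp [mul_assoc]
  map_mul' a b := by apply Subtype.ext; simp [mul_assoc]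

theorem cj_coe (H S : Subgroup Γ) (hn : ∀ s ∈ S, ∀ h ∈ H, s * h * s⁻¹ ∈ H) (s : S) (h : H) :
    ((cj H S hn s h : H) : Γ) = s * h * (s : Γ)⁻¹ := rfl

theorem cj_one (H S : Subgroup Γ) (hn : ∀ s ∈ S, ∀ h ∈ H, s * h * s⁻¹ ∈ H) (h : H) :
    cj H S hn 1 h = h := by
  apply Subtype.ext; rw [cj_coe]; simp

theorem cj_mul (H S : Subgroup Γ) (hn : ∀ s ∈ S, ∀ h ∈ H, s * h * s⁻¹ ∈ H) (s t : S) (h : H) :
    cj H S hn (s * t) h = cj H S hn s (cj H S hn t h) := by
  apply Subtype.ext; rw [cj_coe, cj_coe, cj_coe]; simp [mul_assoc]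

theorem cj_inv_cj (H S : Subgroup Γ) (hn : ∀ s ∈ S, ∀ h ∈ H, s * h * s⁻¹ ∈ H) (s : S) (h : H) :
    cj H S hn s⁻¹ (cj H S hn s h) = h := by
  rw [← cj_mul, inv_mul_cancel, cj_one]

theorem cj_cj_inv (H S : Subgroup Γ) (hn : ∀ s ∈ S, ∀ h ∈ H, s * h * s⁻¹ ∈ H) (s : S) (h : H) :
    cj H S hn s (cj H S hn s⁻¹ h) = h := by
  rw [← cj_mul, mul_inv_cancel, cj_one]

/-- The action of `S` on the irreducible characters of a subgroup it normalizes. -/
noncomputable def actS (G S : Subgroup Γ) (hn : ∀ s ∈ S, ∀ h ∈ G, s * h * s⁻¹ ∈ G) :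
    MulAction S (IrrCharacter G) where
  smul s χ := ⟨(χ : G → ℂ) ∘ cj G S hn s⁻¹, isIrrCharacter_comp_mulEquiv' _ χ.2⟩
  one_smul χ := by
    apply Subtype.ext
    funext g
    change (χ : G → ℂ) (cj G S hn 1⁻¹ g) = (χ : G → ℂ) g
    rw [inv_one, cj_one]
  mul_smul s t χ := by
    apply Subtype.ext
    funext g
    change (χ : G → ℂ) (cj G S hn (s * t)⁻¹ g) = (χ : G → ℂ) (cj G S hn t⁻¹ (cj G S hn s⁻¹ g))
    rw [mul_inv_rev, cj_mul]

/-- Homomorphisms to `ℂˣ` trivial on a subgroup. -/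
def lamSub {H : Type u} [Group H] (N : Subgroup H) : Subgroup (H →* ℂˣ) where
  carrier := {φ | ∀ n ∈ N, φ n = 1}
  one_mem' := fun n _ => rfl
  mul_mem' := by
    intro a b ha hb n hn
    rw [MonoidHom.mul_apply, ha n hn, hb n hn, one_mul]
  inv_mem' := by
    intro a ha n hn
    rw [MonoidHom.inv_apply, ha n hn, inv_one]

theorem mem_lamSub {H : Type u} [Group H] (N : Subgroup H) (φ : H →* ℂˣ) :
    φ ∈ lamSub N ↔ ∀ n ∈ N, φ n = 1 := Iff.rfl

theorem lamSub_pow_index {H : Type u} [Group H] (N : Subgroup H) [N.Normal] (φ : H →* ℂˣ)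
    (hφ : φ ∈ lamSub N) : φ ^ N.index = 1 := by
  apply MonoidHom.ext
  intro g
  rw [MonoidHom.pow_apply, ← map_pow, MonoidHom.one_apply]
  exact hφ _ (Subgroup.pow_index_mem N g)

end actions


section base
variable {Γ : Type u} [Group Γ] [Fintype Γ]

theorem base (G S N : Subgroup Γ) [Fintype G] [Fintype N]
    (hnorm : ∀ s ∈ S, ∀ g ∈ G, s * g * s⁻¹ ∈ G) (hNG : N ≤ G) [hNn : (N.subgroupOf G).Normal]
    (hNS : ∀ s ∈ S, ∀ n ∈ N, s * n * s⁻¹ ∈ N) (hcop : (N.relIndex G).Coprime (Nat.card S))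
    (hab : ∀ x y : G, ⁅x, y⁆ ∈ N.subgroupOf G)
    (θ : N → ℂ) (hθ : IsIrrCharacter N θ)
    (hinv : ∀ s ∈ S, ∀ g g' : N, (g' : Γ) = s * g * s⁻¹ → θ g' = θ g) :
    ∃ χ : IrrCharacter G, classInner (resLE hNG (χ : G → ℂ)) θ ≠ 0 ∧
      ∀ s ∈ S, ∀ g g' : G, (g' : Γ) = s * g * s⁻¹ → (χ : G → ℂ) g' = (χ : G → ℂ) g := by
  classical
  letI := fintypeIrr G
  let e := Subgroup.subgroupOfEquivOfLe hNG
  letI : Fintype (N.subgroupOf G) := Fintype.ofFinite _
  have hθ' : IsIrrCharacter (N.subgroupOf G) (θ ∘ e) := isIrrCharacter_comp_mulEquiv' e hθ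
  have hinner : ∀ χ : G → ℂ, classInner (resFun (N.subgroupOf G) χ) (θ ∘ e) =
      classInner (resLE hNG χ) θ := by
    intro χ
    rw [resFun_subgroupOf hNG χ, classInner_comp_mulEquiv]
  let Ω : Set (IrrCharacter G) := {χ | classInner (resLE hNG (χ : G → ℂ)) θ ≠ 0}
  have hΩ : ∀ χ : IrrCharacter G, χ ∈ Ω ↔ classInner (resLE hNG (χ : G → ℂ)) θ ≠ 0 :=
    fun χ => Iff.rfl
  obtain ⟨χ₀f, hχ₀irr, hχ₀over⟩ := exists_over (N.subgroupOf G) hθ'
  let χ₀ : IrrCharacter G := ⟨χ₀f, hχ₀irr⟩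
  have hχ₀ : χ₀ ∈ Ω := by
    rw [hΩ, ← hinner]; exact hχ₀over
  letI aL := actL G
  letI aS := actS G S hnorm
  have hL_apply : ∀ (φ : G →* ℂˣ) (χ : IrrCharacter G) (g : G),
      ((φ • χ : IrrCharacter G) : G → ℂ) g = ((φ g : ℂˣ) : ℂ) * (χ : G → ℂ) g := fun _ _ _ => rfl
  have hS_apply : ∀ (s : S) (χ : IrrCharacter G) (g : G),
      ((s • χ : IrrCharacter G) : G → ℂ) g = (χ : G → ℂ) (cj G S hnorm s⁻¹ g) := fun _ _ _ => rfl
  let mL : (G →* ℂˣ) →* Equiv.Perm (IrrCharacter G) := MulAction.toPermHom (G →* ℂˣ) (IrrCharacter G)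
  let mS : S →* Equiv.Perm (IrrCharacter G) := MulAction.toPermHom S (IrrCharacter G)
  have hmL : ∀ φ χ, mL φ χ = φ • χ := fun _ _ => rfl
  have hmS : ∀ s χ, mS s χ = s • χ := fun _ _ => rfl
  let Λ : Subgroup (G →* ℂˣ) := lamSub (N.subgroupOf G)
  let K : Subgroup (Equiv.Perm (IrrCharacter G)) := Λ.map mL
  let A : Subgroup (Equiv.Perm (IrrCharacter G)) := mS.range
  -- (i) K preserves Ω
  have hK_res : ∀ φ ∈ Λ, ∀ χ : IrrCharacter G,
      resLE hNG ((φ • χ : IrrCharacter G) : G → ℂ) = resLE hNG (χ : G → ℂ) := by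
    intro φ hφ χ
    funext n
    rw [resLE_apply, resLE_apply, hL_apply]
    have : φ ⟨n, hNG n.2⟩ = 1 := hφ _ (by rw [Subgroup.mem_subgroupOf]; exact n.2)
    rw [this, Units.val_one, one_mul]
  have hθcj : ∀ s : S, θ ∘ cj N S hNS s = θ := by
    intro s
    funext n
    exact hinv s s.2 n _ rfl
  -- (ii) S preserves Ω
  have hS_inner : ∀ (s : S) (χ : IrrCharacter G),
      classInner (resLE hNG ((s • χ : IrrCharacter G) : G → ℂ)) θ =
        classInner (resLE hNG (χ : G → ℂ)) θ := by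
    intro s χ
    have h1 : resLE hNG ((s • χ : IrrCharacter G) : G → ℂ) =
        resLE hNG (χ : G → ℂ) ∘ cj N S hNS s⁻¹ := by
      funext n
      rfl
    rw [h1]
    conv_lhs => rw [← hθcj s⁻¹]
    rw [classInner_comp_mulEquiv]
  -- (iii) the subgroup preserving Ω
  let B : Subgroup (Equiv.Perm (IrrCharacter G)) :=
    { carrier := {σ | ∀ χ, σ χ ∈ Ω ↔ χ ∈ Ω}
      one_mem' := fun χ => Iff.rfl
      mul_mem' := by
        intro a b ha hb χ
        rw [Equiv.Perm.mul_apply, ha, hb]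
      inv_mem' := by
        intro a ha χ
        have := ha (a⁻¹ χ)
        have h2 : a (a⁻¹ χ) = χ := by simp
        rw [h2] at this
        exact this.symm }
  have hKB : K ≤ B := by
    rintro _ ⟨φ, hφ, rfl⟩ χ
    rw [hmL, hΩ, hΩ, hK_res φ hφ χ]
  have hAB : A ≤ B := by
    rintro _ ⟨s, rfl⟩ χ
    rw [hmS, hΩ, hΩ, hS_inner s χ]
  have hKAB : K ⊔ A ≤ B := sup_le hKB hAB
  -- (iv) transitivity of K on Ω
  have htrans : ∀ χ χ' : IrrCharacter G, χ ∈ Ω → χ' ∈ Ω → ∃ k ∈ K, k χ = χ' := by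
    intro χ χ' hχ hχ'
    rw [hΩ, ← hinner] at hχ hχ'
    obtain ⟨lam, hlam, hlam1, hlamN, heq⟩ :=
      exists_linear_mul_eq (N.subgroupOf G) hab hθ' χ.2 χ'.2 hχ hχ'
    let φ := linCharUnitsHom (IsIrrCharacter.isCharacter hlam) hlam1
    have hφ : φ ∈ Λ := by
      intro n hn
      apply Units.ext
      rw [linCharUnitsHom_apply, Units.val_one]
      have := hlamN ⟨n, hn⟩ 1
      rw [mul_one] at this
      rw [this, hlam1]
    refine ⟨mL φ, Subgroup.mem_map_of_mem mL hφ, ?_⟩
    rw [hmL]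
    apply Subtype.ext
    funext g
    rw [hL_apply, heq, Pi.mul_apply, linCharUnitsHom_apply]
  -- (v) A normalizes K
  have hAK : A ≤ Subgroup.normalizer (K : Set (Equiv.Perm (IrrCharacter G))) := by
    rintro _ ⟨s, rfl⟩
    apply Helper1.mem_normalizer_of_forall_conj_mem
    rintro _ ⟨φ, hφ, rfl⟩
    let φ' : G →* ℂˣ := φ.comp (cj G S hnorm s⁻¹).toMonoidHom
    have hφ' : φ' ∈ Λ := by
      intro n hn
      change φ (cj G S hnorm s⁻¹ n) = 1
      apply hφ
      rw [Subgroup.mem_subgroupOf, cj_coe]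
      exact hNS _ (S.inv_mem s.2) _ hn
    refine ⟨φ', hφ', ?_⟩
    apply Equiv.ext
    intro χ
    rw [Equiv.Perm.mul_apply, Equiv.Perm.mul_apply, hmL, hmL, ← map_inv, hmS, hmS]
    apply Subtype.ext
    funext g
    rw [hL_apply, hS_apply, hL_apply, hS_apply, inv_inv, cj_cj_inv]
    rfl
  -- (vi) coprimality
  have hKpow : ∀ k ∈ K, k ^ (N.relIndex G) = 1 := by
    rintro _ ⟨φ, hφ, rfl⟩
    rw [← map_pow]
    have : φ ^ (N.subgroupOf G).index = 1 := lamSub_pow_index (N.subgroupOf G) φ hφ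
    change mL (φ ^ (N.subgroupOf G).index) = 1
    rw [this, map_one]
  have hcop' : Nat.Coprime (Nat.card A) (Nat.card K) := by
    apply Nat.Coprime.symm
    apply Nat.coprime_of_dvd
    intro q hq hqK hqA
    haveI : Fact q.Prime := ⟨hq⟩
    obtain ⟨k, hk⟩ := exists_prime_orderOf_dvd_card' q hqK
    have h1 : (k : Equiv.Perm (IrrCharacter G)) ^ (N.relIndex G) = 1 := hKpow k k.2
    have h2 : q ∣ N.relIndex G := by
      rw [← hk, ← Subgroup.orderOf_coe]
      exact orderOf_dvd_of_pow_eq_one h1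
    have h3 : q ∣ Nat.card S := hqA.trans (Subgroup.card_range_dvd mS)
    have := Nat.Coprime.eq_one_of_dvd (Nat.Coprime.coprime_dvd_left h2 hcop) h3
    exact hq.one_lt.ne' this
  have hsolv' : Group.IsSolvable A ∨ Group.IsSolvable K := by
    right
    haveI : Group.IsSolvable Λ := inferInstance
    exact solvable_of_surjective (MonoidHom.subgroupMap_surjective mL Λ)
  -- the stabilizer
  let U : Subgroup (Equiv.Perm (IrrCharacter G)) :=
    (K ⊔ A) ⊓ MulAction.stabilizer (Equiv.Perm (IrrCharacter G)) χ₀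
  have hKU : ∀ γ ∈ K ⊔ A, ∃ k ∈ K, ∃ u ∈ U, γ = k * u := by
    intro γ hγ
    have h1 : γ χ₀ ∈ Ω := ((hKAB hγ) χ₀).2 hχ₀
    obtain ⟨k, hk, hke⟩ := htrans χ₀ (γ χ₀) hχ₀ h1
    refine ⟨k, hk, k⁻¹ * γ, ⟨?_, ?_⟩, by group⟩
    · exact (K ⊔ A).mul_mem ((K ⊔ A).inv_mem (Subgroup.mem_sup_left hk)) hγ
    · change (k⁻¹ * γ) χ₀ = χ₀
      rw [Equiv.Perm.mul_apply, ← hke]
      simp
  obtain ⟨k, hk, hle⟩ := Helper1.exists_le_conj_smul_of_coprime hAK hcop' hsolv' inf_le_left hKU
  have hkΩ : k χ₀ ∈ Ω := ((hKB hk) χ₀).2 hχ₀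
  refine ⟨k χ₀, hkΩ, ?_⟩
  intro s hs g g' hg
  have h1 : mS ⟨s, hs⟩⁻¹ ∈ MulAut.conj k • U := hle ⟨_, rfl⟩
  rw [Helper1.mem_conj_smul_iff] at h1
  have h2 : (k⁻¹ * mS ⟨s, hs⟩⁻¹ * k) χ₀ = χ₀ := h1.2
  rw [Equiv.Perm.mul_apply, Equiv.Perm.mul_apply] at h2
  have h3 : mS ⟨s, hs⟩⁻¹ (k χ₀) = k χ₀ := by
    have := congrArg k h2
    simpa using this
  rw [hmS] at h3
  have h4 := congrArg (fun χ : IrrCharacter G => (χ : G → ℂ) g) h3
  simp only [hS_apply, inv_inv] at h4
  rw [← h4]
  have h5 : g' = cj G S hnorm ⟨s, hs⟩ g := by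
    apply Subtype.ext
    rw [cj_coe]
    exact hg
  rw [h5]

end base


section induction
variable {Γ : Type u} [Group Γ] [Fintype Γ]

theorem lying_over_trans {N M G : Subgroup Γ} [Fintype N] [Fintype M] [Fintype G] (hNM : N ≤ M)
    (hMG : M ≤ G) {χ : G → ℂ} (hχ : IsCharacter G χ) {φ : M → ℂ} (hφ : IsIrrCharacter M φ)
    {θ : N → ℂ} (hθ : IsIrrCharacter N θ) (h1 : classInner (resLE hMG χ) φ ≠ 0)
    (h2 : classInner (resLE hNM φ) θ ≠ 0) : classInner (resLE (hNM.trans hMG) χ) θ ≠ 0 := by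
  have hα := IsCharacter.sub_constituent (isCharacter_resLE hMG hχ) hφ h1
  have hθc := IsIrrCharacter.isCharacter hθ
  obtain ⟨a, ha⟩ := IsCharacter.classInner_nat (isCharacter_resLE hNM (IsIrrCharacter.isCharacter hφ)) hθc
  obtain ⟨b, hb⟩ := IsCharacter.classInner_nat (isCharacter_resLE hNM hα) hθc
  have e1 : resLE (hNM.trans hMG) χ = resLE hNM φ + resLE hNM (resLE hMG χ - φ) := by
    rw [← map_add]
    have : φ + (resLE hMG χ - φ) = resLE hMG χ := by abel
    rw [this]
    rfl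
  rw [e1, classInner_add_left, ha, hb]
  rw [ha] at h2
  have ha0 : a ≠ 0 := by
    rintro rfl
    exact h2 (by simp)
  have : ((a : ℂ) + b) = ((a + b : ℕ) : ℂ) := by push_cast; ring
  rw [this]
  exact_mod_cast (by omega : a + b ≠ 0)


theorem main (S : Subgroup Γ) : ∀ (k : ℕ) (G N : Subgroup Γ) [Fintype G] [Fintype N]
    (_hnorm : ∀ s ∈ S, ∀ g ∈ G, s * g * s⁻¹ ∈ G) (hNG : N ≤ G) [hNn : (N.subgroupOf G).Normal]
    (_hNS : ∀ s ∈ S, ∀ n ∈ N, s * n * s⁻¹ ∈ N) (_hcop : (N.relIndex G).Coprime (Nat.card S))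
    (_hsolv : Group.IsSolvable (G ⧸ N.subgroupOf G)) (_hk : N.relIndex G = k)
    (θ : N → ℂ) (_hθ : IsIrrCharacter N θ)
    (_hinv : ∀ s ∈ S, ∀ g g' : N, (g' : Γ) = s * g * s⁻¹ → θ g' = θ g),
    ∃ χ : IrrCharacter G, classInner (resLE hNG (χ : G → ℂ)) θ ≠ 0 ∧
      ∀ s ∈ S, ∀ g g' : G, (g' : Γ) = s * g * s⁻¹ → (χ : G → ℂ) g' = (χ : G → ℂ) g := by
  classical
  intro k
  induction k using Nat.strong_induction_on with
  | _ k ih =>
    intro G N _ _ hnorm hNG hNn hNS hcop hsolv hk θ hθ hinv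
    by_cases hcomm : commutator G ≤ N.subgroupOf G
    · -- abelian quotient
      apply base G S N hnorm hNG hNS hcop _ θ hθ hinv
      intro x y
      apply hcomm
      rw [commutator_def]
      exact Subgroup.commutator_mem_commutator (Subgroup.mem_top x) (Subgroup.mem_top y)
    · -- the intermediate subgroup
      let MG : Subgroup G := N.subgroupOf G ⊔ commutator G
      let M : Subgroup Γ := MG.map G.subtype
      have hMG : M ≤ G := by
        rintro _ ⟨x, _, rfl⟩
        exact x.2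
      have hmemM : ∀ x : G, (x : Γ) ∈ M ↔ x ∈ MG := by
        intro x
        constructor
        · rintro ⟨y, hy, hyx⟩
          have : y = x := Subtype.ext hyx
          rwa [← this]
        · intro hx
          exact ⟨x, hx, rfl⟩
      have hMsub : M.subgroupOf G = MG := by
        ext x
        rw [Subgroup.mem_subgroupOf]
        exact hmemM x
      have hNM : N ≤ M := by
        intro n hn
        have : (⟨n, hNG hn⟩ : G) ∈ MG := Subgroup.mem_sup_left (by
          rw [Subgroup.mem_subgroupOf]; exact hn)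
        exact (hmemM ⟨n, hNG hn⟩).2 this
      -- S normalizes M
      have hMS : ∀ s ∈ S, ∀ m ∈ M, s * m * s⁻¹ ∈ M := by
        intro s hs m hm
        obtain ⟨x, hx, rfl⟩ := hm
        have hle : MG ≤ MG.comap (cj G S hnorm ⟨s, hs⟩).toMonoidHom := by
          apply sup_le
          · intro n hn
            rw [Subgroup.mem_comap]
            apply Subgroup.mem_sup_left
            rw [Subgroup.mem_subgroupOf]
            exact hNS s hs _ hn
          · rw [commutator_def, Subgroup.commutator_le]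
            intro g₁ _ g₂ _
            rw [Subgroup.mem_comap, map_commutatorElement]
            apply Subgroup.mem_sup_right
            rw [commutator_def]
            exact Subgroup.commutator_mem_commutator (Subgroup.mem_top _) (Subgroup.mem_top _)
        have := hle hx
        rw [Subgroup.mem_comap] at this
        exact (hmemM _).2 this
      -- normality
      haveI hMn : (M.subgroupOf G).Normal := by
        rw [hMsub]; infer_instance
      have hGnN : G ≤ Subgroup.normalizer (N : Set Γ) :=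
        (Subgroup.normal_subgroupOf_iff_le_normalizer hNG).1 hNn
      haveI hNMn : (N.subgroupOf M).Normal :=
        (Subgroup.normal_subgroupOf_iff_le_normalizer hNM).2 (hMG.trans hGnN)
      -- indices
      have hmul : N.relIndex M * M.relIndex G = k := by
        rw [Subgroup.relIndex_mul_relIndex N M G hNM hMG, hk]
      have hk0 : k ≠ 0 := by
        rw [← hk]
        exact Subgroup.index_ne_zero_of_finite
      have ha1 : N.relIndex M ≠ 1 := by
        intro h1
        rw [Subgroup.relIndex_eq_one] at h1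
        apply hcomm
        intro x hx
        have : x ∈ MG := Subgroup.mem_sup_right hx
        rw [Subgroup.mem_subgroupOf]
        exact h1 ((hmemM x).2 this)
      have hb1 : M.relIndex G ≠ 1 := by
        intro h1
        rw [Subgroup.relIndex_eq_one] at h1
        have hMGtop : MG = ⊤ := by
          rw [eq_top_iff]
          intro x _
          exact (hmemM x).1 (h1 x.2)
        -- the quotient is perfect
        by_cases hnt : Nontrivial (G ⧸ N.subgroupOf G)
        · have hlt := IsSolvable.commutator_lt_top_of_nontrivial (G ⧸ N.subgroupOf G)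
          apply hlt.ne
          rw [eq_top_iff]
          intro q _
          obtain ⟨x, rfl⟩ := QuotientGroup.mk'_surjective (N.subgroupOf G) q
          have hx : x ∈ MG := by rw [hMGtop]; exact Subgroup.mem_top x
          have h2 : Subgroup.map (QuotientGroup.mk' (N.subgroupOf G)) MG ≤
              commutator (G ⧸ N.subgroupOf G) := by
            rw [Subgroup.map_sup]
            apply sup_le
            · rw [(Subgroup.map_eq_bot_iff _).2 (by rw [QuotientGroup.ker_mk'])]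
              exact bot_le
            · rw [commutator_def, commutator_def, Subgroup.map_commutator]
              exact Subgroup.commutator_mono le_top le_top
          exact h2 (Subgroup.mem_map_of_mem _ hx)
        · rw [not_nontrivial_iff_subsingleton] at hnt
          have := QuotientGroup.subgroup_eq_top_of_subsingleton (N.subgroupOf G) hnt
          apply hcomm
          rw [this]
          exact le_top
      have ha0 : N.relIndex M ≠ 0 := fun h => hk0 (by rw [← hmul, h, zero_mul])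
      have hb0 : M.relIndex G ≠ 0 := fun h => hk0 (by rw [← hmul, h, mul_zero])
      have hak : N.relIndex M < k := by
        rw [← hmul]
        have : 2 ≤ M.relIndex G := by omega
        nlinarith [Nat.pos_of_ne_zero ha0]
      have hbk : M.relIndex G < k := by
        rw [← hmul]
        have : 2 ≤ N.relIndex M := by omega
        nlinarith [Nat.pos_of_ne_zero hb0]
      have hcopa : (N.relIndex M).Coprime (Nat.card S) :=
        Nat.Coprime.coprime_dvd_left (Dvd.intro _ (hmul.trans hk.symm)) hcop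
      have hcopb : (M.relIndex G).Coprime (Nat.card S) :=
        Nat.Coprime.coprime_dvd_left (Dvd.intro_left _ (hmul.trans hk.symm)) hcop
      -- solvability
      have hsolva : Group.IsSolvable (M ⧸ N.subgroupOf M) := by
        let f : M ⧸ N.subgroupOf M →* G ⧸ N.subgroupOf G :=
          QuotientGroup.map (N.subgroupOf M) (N.subgroupOf G) (Subgroup.inclusion hMG)
            (fun x hx => hx)
        have hf : Function.Injective f := by
          rw [injective_iff_map_eq_one]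
          intro q hq
          obtain ⟨x, rfl⟩ := QuotientGroup.mk'_surjective (N.subgroupOf M) q
          change ((Subgroup.inclusion hMG x : G) : G ⧸ N.subgroupOf G) = 1 at hq
          rw [QuotientGroup.eq_one_iff] at hq
          change ((x : M) : M ⧸ N.subgroupOf M) = 1
          rw [QuotientGroup.eq_one_iff]
          exact hq
        exact solvable_of_solvable_injective hf
      have hsolvb : Group.IsSolvable (G ⧸ M.subgroupOf G) := by
        let f : G ⧸ N.subgroupOf G →* G ⧸ M.subgroupOf G :=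
          QuotientGroup.map (N.subgroupOf G) (M.subgroupOf G) (MonoidHom.id G)
            (fun x hx => hNM hx)
        have hf : Function.Surjective f := by
          intro q
          obtain ⟨x, rfl⟩ := QuotientGroup.mk'_surjective (M.subgroupOf G) q
          exact ⟨(x : G ⧸ N.subgroupOf G), rfl⟩
        exact solvable_of_surjective hf
      -- induction
      obtain ⟨φ, hφover, hφinv⟩ := ih _ hak M N hMS hNM hNS hcopa hsolva rfl θ hθ hinv
      obtain ⟨χ, hχover, hχinv⟩ := ih _ hbk G M hnorm hMG hMS hcopb hsolvb rfl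
        (φ : M → ℂ) φ.2 hφinv
      refine ⟨χ, ?_, hχinv⟩
      exact lying_over_trans hNM hMG (IsIrrCharacter.isCharacter χ.2) φ.2 hθ hχover hφover

end induction


theorem result' {Γ : Type*} [Group Γ] [Fintype Γ] (G S N : Subgroup Γ) [Fintype G] [Fintype N] (hnorm : ∀ s ∈ S, ∀ g ∈ G, s * g * s⁻¹ ∈ G) (hNG : N ≤ G) [hNn : (N.subgroupOf G).Normal] (hNS : ∀ s ∈ S, ∀ n ∈ N, s * n * s⁻¹ ∈ N) (hcop : (N.relIndex G).Coprime (Nat.card S)) (hsolv : Group.IsSolvable (G ⧸ N.subgroupOf G)) (θ : Cfsg.IrrCharacter N) (hinv : (∀ s ∈ S, ∀ g g' : N, (g' : Γ) = s * g * s⁻¹ → (θ : N → ℂ) g' = (θ : N → ℂ) g)) : ∃ χ : Cfsg.IrrCharacter G, Cfsg.classInner (fun n : N => (χ : G → ℂ) ⟨n, hNG n.2⟩) (θ : N → ℂ) ≠ 0 ∧ (∀ s ∈ S, ∀ g g' : G, (g' : Γ) = s * g * s⁻¹ → (χ : G → ℂ) g' = (χ : G → ℂ) g) :=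
  main S _ G N hnorm hNG hNS hcop hsolv rfl (θ : N → ℂ) θ.2 hinv

/-- Inside a finite group Γ let S normalise G and also normalise a normal subgroup N of G, with the order of S coprime to the index of N in G and G/N solvable. Then for every S-invariant irreducible character ϑ of N, the induced character ϑ^G has an S-invariant irreducible constituent. -/
theorem result {Γ : Type*} [Group Γ] [Fintype Γ] (G S N : Subgroup Γ) [Fintype G] [Fintype N] (hnorm : ∀ s ∈ S, ∀ g ∈ G, s * g * s⁻¹ ∈ G) (hNG : N ≤ G) [hNn : (N.subgroupOf G).Normal] (hNS : ∀ s ∈ S, ∀ n ∈ N, s * n * s⁻¹ ∈ N) (hcop : (N.relIndex G).Coprime (Nat.card S)) (hsolv : Group.IsSolvable (G ⧸ N.subgroupOf G)) (θ : Cfsg.IrrCharacter N) (hinv : (∀ s ∈ S, ∀ g g' : N, (g' : Γ) = s * g * s⁻¹ → (θ : N → ℂ) g' = (θ : N → ℂ) g)) : ∃ χ : Cfsg.IrrCharacter G, Cfsg.classInner (fun n : N => (χ : G → ℂ) ⟨n, hNG n.2⟩) (θ : N → ℂ) ≠ 0 ∧ (∀ s ∈ S, ∀ g g' : G, (g' : Γ) = s * g * s⁻¹ → (χ : G → ℂ) g' = (χ : G → ℂ)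 g) := by
  exact result' G S N hnorm hNG hNS hcop hsolv θ hinv

end Cfsg.Agent.S4448
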