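import Cfsg.Statements.S3864
import Cfsg.Agent.Lib.Helper29.DihedralFacts
import Cfsg.Agent.Lib.Helper29.DihedralLike
import Cfsg.Agent.Lib.Helper29.Frobenius
import Cfsg.Agent.Lib.Helper29.MinNonPNilpotent
import Cfsg.Agent.Lib.Helper11.ThompsonTransfer

set_option autoImplicit false
set_option linter.unusedSectionVars false
open Cfsg

namespace Cfsg.Agent.S3864

open Subgroup DihedralGroup Cfsg.Agent.Lib.Helper29

theorem orderOf_eq_of_isConj {G : Type*} [Group G] {a b : G} (h : IsConj a b) :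
    orderOf a = orderOf b := by
  obtain ⟨c, hc⟩ := h
  exact SemiconjBy.orderOf_eq _ hc

theorem mem_of_isConj {G : Type*} [Group G] (N : Subgroup G) [hN : N.Normal] {a b : G}
    (h : IsConj a b) (ha : a ∈ N) : b ∈ N := by
  obtain ⟨c, rfl⟩ := isConj_iff.mp h
  exact hN.conj_mem a ha c

theorem commutator_le_of_index {G : Type*} [Group G] (N : Subgroup G) [N.Normal]
    (h : N.index = 2 ∨ N.index = 4) : commutator G ≤ N := by
  apply Subgroup.Normal.quotient_commutative_iff_commutator_le.mp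
  have : Fact (Nat.Prime 2) := ⟨Nat.prime_two⟩
  rcases h with h | h
  · have hcard : Nat.card (G ⧸ N) = 2 := by rw [← Subgroup.index_eq_card]; exact h
    haveI : IsCyclic (G ⧸ N) := isCyclic_of_prime_card (p := 2) hcard
    exact ⟨⟨fun a b => (IsCyclic.commGroup (α := G ⧸ N)).mul_comm a b⟩⟩
  · have hcard : Nat.card (G ⧸ N) = 2 ^ 2 := by rw [← Subgroup.index_eq_card]; exact h
    exact ⟨⟨IsPGroup.commutative_of_card_eq_prime_sq hcard⟩⟩

theorem zmod2_uniq : ∀ a b : Multiplicative (ZMod 2), a ^ 2 = 1 → b ^ 2 = 1 → a ≠ 1 → b ≠ 1 →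
    a = b := by
  intro a b _ _ ha hb
  have h : ∀ x : ZMod 2, x ≠ 0 → x = 1 := by decide
  have ha' : Multiplicative.toAdd a = 1 := h _ (fun h0 => ha (by
    rw [← ofAdd_toAdd a, h0]; rfl))
  have hb' : Multiplicative.toAdd b = 1 := h _ (fun h0 => hb (by
    rw [← ofAdd_toAdd b, h0]; rfl))
  rw [← ofAdd_toAdd a, ← ofAdd_toAdd b, ha', hb']

section
variable {G : Type*} [Group G] [Finite G] {P : Sylow 2 G} {m : ℕ}

/-- the embedding of the dihedral group onto the Sylow subgroup -/
def emb (e : ↥(P : Subgroup G) ≃* DihedralGroup m) : DihedralGroup m →* G :=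
  (P : Subgroup G).subtype.comp e.symm.toMonoidHom

theorem emb_mem (e : ↥(P : Subgroup G) ≃* DihedralGroup m) (d : DihedralGroup m) :
    emb e d ∈ (P : Subgroup G) := (e.symm d).2

theorem emb_injective (e : ↥(P : Subgroup G) ≃* DihedralGroup m) : Function.Injective (emb e) :=
  (P : Subgroup G).subtype_injective.comp e.symm.injective

theorem emb_apply (e : ↥(P : Subgroup G) ≃* DihedralGroup m) (x : ↥(P : Subgroup G)) :
    emb e (e x) = x := by
  simp [emb]

theorem emb_apply' (e : ↥(P : Subgroup G) ≃* DihedralGroup m) (x : G) (hx : x ∈ (P : Subgroup G)) :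
    emb e (e ⟨x, hx⟩) = x := emb_apply e ⟨x, hx⟩

theorem apply_emb (e : ↥(P : Subgroup G) ≃* DihedralGroup m) (d : DihedralGroup m) :
    e ⟨emb e d, emb_mem e d⟩ = d := by
  have : (⟨emb e d, emb_mem e d⟩ : ↥(P : Subgroup G)) = e.symm d := rfl
  rw [this, MulEquiv.apply_symm_apply]

theorem emb_trans (e : ↥(P : Subgroup G) ≃* DihedralGroup m)
    (σ : DihedralGroup m ≃* DihedralGroup m) (d : DihedralGroup m) :
    emb (e.trans σ) d = emb e (σ.symm d) := rfl

theorem orderOf_emb (e : ↥(P : Subgroup G) ≃* DihedralGroup m) (d : DihedralGroup m) :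
    orderOf (emb e d) = orderOf d := orderOf_injective _ (emb_injective e) d

theorem isConj_emb (e : ↥(P : Subgroup G) ≃* DihedralGroup m) (x d d' : DihedralGroup m)
    (h : x * d * x⁻¹ = d') : IsConj (emb e d) (emb e d') := by
  rw [isConj_iff]
  exact ⟨emb e x, by rw [← map_inv, ← map_mul, ← map_mul, h]⟩

theorem emb_mem_commutator (e : ↥(P : Subgroup G) ≃* DihedralGroup m) (d : DihedralGroup m)
    (hd : d ∈ commutator (DihedralGroup m)) : emb e d ∈ commutator G := by
  have h1 : emb e d ∈ (commutator (DihedralGroup m)).map (emb e) := Subgroup.mem_map_of_mem _ hd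
  rw [commutator_def, Subgroup.map_commutator] at h1
  exact Subgroup.commutator_mono le_top le_top h1

theorem mul_self_of_orderOf_two {M : Type*} [Monoid M] (d : M) (h : orderOf d = 2) : d * d = 1 := by
  rw [← pow_two, ← h]; exact pow_orderOf_eq_one d

theorem ne_one_of_orderOf_two {M : Type*} [Monoid M] (d : M) (h : orderOf d = 2) : d ≠ 1 := by
  rintro rfl
  rw [orderOf_one] at h
  norm_num at h

/-- an involution of `P` other than `z` is `P`-conjugate to `s` or `t` -/
theorem invol_conj_of_mem [NeZero m] (hm : 2 ∣ m) (e : ↥(P : Subgroup G) ≃* DihedralGroup m)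
    (w : G) (hw : orderOf w = 2) (hwP : w ∈ (P : Subgroup G)) (hwz : w ≠ emb e (dihZ m)) :
    IsConj w (emb e (sr 0)) ∨ IsConj w (emb e (sr 1)) := by
  set d := e ⟨w, hwP⟩ with hd
  have hed : emb e d = w := emb_apply' e w hwP
  have hod : orderOf d = 2 := by rw [← orderOf_emb e, hed]; exact hw
  have hdz : d ≠ dihZ m := by
    intro h
    apply hwz
    rw [← hed, h]
  obtain ⟨x, hx | hx⟩ := dih_involution_conj hm d (mul_self_of_orderOf_two d hod)
    (ne_one_of_orderOf_two d hod) hdz
  · left; rw [← hed]; exact isConj_emb e x d _ hx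
  · right; rw [← hed]; exact isConj_emb e x d _ hx

theorem exists_conj_mem_sylow (g : G) (hg : orderOf g = 2) :
    ∃ a : G, a * g * a⁻¹ ∈ (P : Subgroup G) := by
  have : Fact (Nat.Prime 2) := ⟨Nat.prime_two⟩
  have hup : IsPGroup 2 (zpowers g) :=
    IsPGroup.of_card (n := 1) (by rw [Nat.card_zpowers, hg, pow_one])
  obtain ⟨T', hT'⟩ := hup.exists_le_sylow
  obtain ⟨a, ha⟩ := MulAction.exists_smul_eq G T' P
  have huT' : g ∈ T' := hT' (mem_zpowers g)
  refine ⟨a, ?_⟩
  have h3 : a * g * a⁻¹ ∈ (a • T' : Sylow 2 G) := by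
    rw [Cfsg.Agent.Lib.Helper29.mem_smul_sylow_iff]
    have e3 : a⁻¹ * (a * g * a⁻¹) * a = g := by group
    rw [e3]; exact huT'
  rw [ha] at h3
  exact h3

/-- every involution is conjugate to `z`, `s` or `t` -/
theorem invol_conj [NeZero m] (hm : 2 ∣ m) (e : ↥(P : Subgroup G) ≃* DihedralGroup m)
    (g : G) (hg : orderOf g = 2) :
    IsConj g (emb e (dihZ m)) ∨ IsConj g (emb e (sr 0)) ∨ IsConj g (emb e (sr 1)) := by
  obtain ⟨a, haP⟩ := exists_conj_mem_sylow (P := P) g hg
  have hga : IsConj g (a * g * a⁻¹) := isConj_iff.mpr ⟨a, rfl⟩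
  have hoa : orderOf (a * g * a⁻¹) = 2 := by rw [← orderOf_eq_of_isConj hga]; exact hg
  by_cases hz : a * g * a⁻¹ = emb e (dihZ m)
  · left; rw [← hz]; exact hga
  · rcases invol_conj_of_mem hm e _ hoa haP hz with h | h
    · right; left; exact hga.trans h
    · right; right; exact hga.trans h

theorem card_classes [NeZero m] (hm : 2 ∣ m) (e : ↥(P : Subgroup G) ≃* DihedralGroup m) :
    Nat.card {C : ConjClasses G // ∃ g : G, ConjClasses.mk g = C ∧ orderOf g = 2} =
      ({ConjClasses.mk (emb e (dihZ m)), ConjClasses.mk (emb e (sr 0)),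
        ConjClasses.mk (emb e (sr 1))} : Set (ConjClasses G)).ncard := by
  have hset : {C : ConjClasses G | ∃ g : G, ConjClasses.mk g = C ∧ orderOf g = 2} =
      {ConjClasses.mk (emb e (dihZ m)), ConjClasses.mk (emb e (sr 0)),
        ConjClasses.mk (emb e (sr 1))} := by
    ext C
    simp only [Set.mem_setOf_eq, Set.mem_insert_iff, Set.mem_singleton_iff]
    constructor
    · rintro ⟨g, rfl, hg⟩
      rcases invol_conj hm e g hg with h | h | h
      · left; exact ConjClasses.mk_eq_mk_iff_isConj.mpr h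
      · right; left; exact ConjClasses.mk_eq_mk_iff_isConj.mpr h
      · right; right; exact ConjClasses.mk_eq_mk_iff_isConj.mpr h
    · rintro (rfl | rfl | rfl)
      · exact ⟨_, rfl, by rw [orderOf_emb, orderOf_dihZ hm]⟩
      · exact ⟨_, rfl, by rw [orderOf_emb, orderOf_sr]⟩
      · exact ⟨_, rfl, by rw [orderOf_emb, orderOf_sr]⟩
  rw [← hset]
  exact Nat.card_coe_set_eq _

/-- if `N` contains `s` and `t` then it contains `P` -/
theorem le_of_mem_sr [NeZero m] (e : ↥(P : Subgroup G) ≃* DihedralGroup m) (N : Subgroup G)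
    (hs : emb e (sr 0) ∈ N) (ht : emb e (sr 1) ∈ N) : (P : Subgroup G) ≤ N := by
  have hK : N.comap (emb e) = ⊤ := dih_eq_top_of_sr _ hs ht
  intro x hx
  have h1 : e ⟨x, hx⟩ ∈ N.comap (emb e) := by rw [hK]; exact Subgroup.mem_top _
  rw [Subgroup.mem_comap, emb_apply'] at h1
  exact h1

theorem not_two_dvd_index (P : Sylow 2 G) : ¬ 2 ∣ (P : Subgroup G).index := by
  have : Fact (Nat.Prime 2) := ⟨Nat.prime_two⟩
  exact P.not_dvd_index

/-- Case I: no normal subgroup of index 2 -/
theorem caseI [NeZero m] (hm : 4 ∣ m) (e : ↥(P : Subgroup G) ≃* DihedralGroup m)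
    (hzs : IsConj (emb e (dihZ m)) (emb e (sr 0))) (hzt : IsConj (emb e (dihZ m)) (emb e (sr 1)))
    (N : Subgroup G) (hN : N.Normal) : N.index ≠ 2 := by
  intro h2
  have hcomm : commutator G ≤ N := commutator_le_of_index N (Or.inl h2)
  have hz : emb e (dihZ m) ∈ N := hcomm (emb_mem_commutator e _ (dihZ_mem_commutator hm))
  have hPN : (P : Subgroup G) ≤ N :=
    le_of_mem_sr e N (mem_of_isConj N hzs hz) (mem_of_isConj N hzt hz)
  have := Subgroup.index_dvd_of_le hPN
  rw [h2] at this
  exact not_two_dvd_index P this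

/-- the homomorphism of `P` onto a group of order 2 killing `z` and `s` -/
noncomputable def phi (hm : 2 ∣ m) (e : ↥(P : Subgroup G) ≃* DihedralGroup m) :
    ↥(P : Subgroup G) →* Multiplicative (ZMod 2) :=
  (dihHom hm 1 0).comp e.toMonoidHom

theorem phi_apply (hm : 2 ∣ m) (e : ↥(P : Subgroup G) ≃* DihedralGroup m) (x : ↥(P : Subgroup G)) :
    phi hm e x = dihHom hm 1 0 (e x) := rfl

theorem dihHom_sr_one_ne (hm : 2 ∣ m) : dihHom hm 1 0 (sr 1) ≠ 1 := by
  rw [dihHom_sr, map_one]
  intro h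
  have h5 : (1 : ZMod 2) * 1 + 0 = 0 := Multiplicative.ofAdd.injective h
  revert h5
  decide

theorem dihHom_conj (hm : 2 ∣ m) (x d : DihedralGroup m) :
    dihHom hm 1 0 (x * d * x⁻¹) = dihHom hm 1 0 d := by
  rw [map_mul, map_mul, map_inv, mul_comm, inv_mul_cancel_left]

theorem card_range_dvd_two {H : Type*} [Group H] (f : H →* Multiplicative (ZMod 2)) :
    Nat.card f.range ∣ 2 := by
  have h := Subgroup.card_subgroup_dvd_card f.range
  have h2 : Nat.card (Multiplicative (ZMod 2)) = 2 := by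
    rw [Nat.card_eq_fintype_card]; rfl
  rwa [h2] at h

/-- Case II: `z ~ s`, `z ≁ t` -/
theorem caseII [NeZero m] (hm : 4 ∣ m) (e : ↥(P : Subgroup G) ≃* DihedralGroup m)
    (hzs : IsConj (emb e (dihZ m)) (emb e (sr 0)))
    (hzt : ¬ IsConj (emb e (dihZ m)) (emb e (sr 1))) :
    (∃ N : Subgroup G, N.Normal ∧ N.index = 2) ∧ ∀ N : Subgroup G, N.Normal → N.index ≠ 4 := by
  have hm2 : 2 ∣ m := dvd_trans (by norm_num) hm
  constructor
  · -- Thompson transfer
    set t := emb e (sr 1) with ht
    have htP : t ∈ (P : Subgroup G) := emb_mem e _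
    have ht2 : orderOf t = 2 := by rw [ht, orderOf_emb, orderOf_sr]
    have hphit : phi hm2 e ⟨t, htP⟩ ≠ 1 := by
      rw [phi_apply]
      have : e ⟨t, htP⟩ = sr 1 := apply_emb e (sr 1)
      rw [this]
      exact dihHom_sr_one_ne hm2
    have htr : MonoidHom.transfer (phi hm2 e) t ≠ 1 := by
      intro htr
      have hodd := Cfsg.Agent.Lib.Helper11.odd_card_fixed_in_ker (P : Subgroup G)
        (not_two_dvd_index P) (phi hm2 e) zmod2_uniq t ht2 htP hphit htr
      have hne : Nat.card {c : G ⧸ (P : Subgroup G) // t • c = c ∧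
          ∃ h : (Quotient.out c)⁻¹ * t * Quotient.out c ∈ (P : Subgroup G),
            phi hm2 e ⟨_, h⟩ = 1} ≠ 0 := by
        intro h0
        rw [h0] at hodd
        simp at hodd
      obtain ⟨⟨c, -, hu, hphiu⟩⟩ := (Nat.card_ne_zero.mp hne).1
      set u := (Quotient.out c)⁻¹ * t * Quotient.out c with hu_def
      have htu : IsConj t u := isConj_iff.mpr ⟨(Quotient.out c)⁻¹, by rw [inv_inv]⟩
      have hou : orderOf u = 2 := by rw [← orderOf_eq_of_isConj htu]; exact ht2
      apply hzt
      by_cases huz : u = emb e (dihZ m)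
      · rw [← huz]; exact htu.symm
      · -- `u` is conjugate to `s` (not to `t` since it lies in the kernel)
        set d := e ⟨u, hu⟩ with hd
        have hed : emb e d = u := emb_apply' e u hu
        have hod : orderOf d = 2 := by rw [← orderOf_emb e, hed]; exact hou
        have hdz : d ≠ dihZ m := by
          intro h
          apply huz
          rw [← hed, h]
        have hdk : dihHom hm2 1 0 d = 1 := hphiu
        obtain ⟨x, hx | hx⟩ := dih_involution_conj hm2 d (mul_self_of_orderOf_two d hod)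
          (ne_one_of_orderOf_two d hod) hdz
        · have hus : IsConj u (emb e (sr 0)) := by rw [← hed]; exact isConj_emb e x d _ hx
          exact hzs.trans (hus.symm.trans htu.symm)
        · exfalso
          have := dihHom_conj hm2 x d
          rw [hx, hdk] at this
          exact dihHom_sr_one_ne hm2 this
    refine ⟨(MonoidHom.transfer (phi hm2 e)).ker, inferInstance, ?_⟩
    rw [Subgroup.index_ker]
    rcases (Nat.dvd_prime Nat.prime_two).mp
      (card_range_dvd_two (MonoidHom.transfer (phi hm2 e))) with h | h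
    · exfalso
      apply htr
      have hbot := Subgroup.eq_bot_of_card_eq _ h
      have hmem : MonoidHom.transfer (phi hm2 e) t ∈ (MonoidHom.transfer (phi hm2 e)).range :=
        ⟨t, rfl⟩
      rw [hbot, Subgroup.mem_bot] at hmem
      exact hmem
    · exact h
  · intro L hL h4
    have hcomm : commutator G ≤ L := commutator_le_of_index L (Or.inr h4)
    have hz : emb e (dihZ m) ∈ L := hcomm (emb_mem_commutator e _ (dihZ_mem_commutator hm))
    have hs : emb e (sr 0) ∈ L := mem_of_isConj L hzs hz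
    have hr2 : emb e (r 2) ∈ L := hcomm (emb_mem_commutator e _ (by
      rw [r_two_eq_commutator]
      exact Subgroup.commutator_mem_commutator (Subgroup.mem_top _) (Subgroup.mem_top _)))
    have hker : (phi hm2 e).ker ≤ L.subgroupOf (P : Subgroup G) := by
      intro x hx
      have h1 : e x ∈ (dihHom hm2 1 0).ker := hx
      have h2 := ker_dihHom_one_zero_le hm2 (L.comap (emb e)) hr2 hs h1
      rw [Subgroup.mem_comap, emb_apply] at h2
      exact Subgroup.mem_subgroupOf.mpr h2
    have hdvd : L.relIndex (P : Subgroup G) ∣ 2 := by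
      have h1 := Subgroup.index_dvd_of_le hker
      rw [Subgroup.index_ker] at h1
      exact h1.trans (card_range_dvd_two _)
    have h5 : L.relIndex ((P : Subgroup G) ⊔ L) * ((P : Subgroup G) ⊔ L).index = L.index :=
      Subgroup.relIndex_mul_index le_sup_right
    rw [Subgroup.relIndex_sup_right, h4] at h5
    have h6 : ((P : Subgroup G) ⊔ L).index ∣ (P : Subgroup G).index :=
      Subgroup.index_dvd_of_le le_sup_left
    apply not_two_dvd_index P
    refine dvd_trans ?_ h6
    rcases (Nat.dvd_prime Nat.prime_two).mp hdvd with h | h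
    · rw [h, one_mul] at h5
      rw [h5]; norm_num
    · rw [h] at h5
      have : ((P : Subgroup G) ⊔ L).index = 2 := by omega
      rw [this]

/-- a Klein four-group has exponent 2 and two independent involutions -/
theorem exists_of_isKleinFour {H : Type*} [Group H] (U : Subgroup H) (hU : IsKleinFour U) :
    (∀ x ∈ U, x * x = 1) ∧ ∃ a b, a ∈ U ∧ b ∈ U ∧ a ≠ 1 ∧ b ≠ 1 ∧ a * b ≠ 1 := by
  have hexp : ∀ x ∈ U, x * x = 1 := by
    intro x hx
    have h1 : (⟨x, hx⟩ : U) ^ 2 = 1 := by
      rw [← hU.exponent_two]; exact Monoid.pow_exponent_eq_one _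
    have h2 := congrArg Subtype.val h1
    simpa [pow_two] using h2
  refine ⟨hexp, ?_⟩
  have hcard : Nat.card U = 4 := hU.card_four
  have : Finite U := Nat.finite_of_card_ne_zero (by rw [hcard]; norm_num)
  have : Nontrivial U := by
    rw [← Finite.one_lt_card_iff_nontrivial, hcard]; norm_num
  obtain ⟨⟨a, ha⟩, ha1⟩ := exists_ne (1 : U)
  have ha1' : a ≠ 1 := fun h => ha1 (Subtype.ext h)
  have hoa : orderOf a = 2 := orderOf_eq_prime (by rw [pow_two]; exact hexp a ha) ha1'
  have hlt : Subgroup.zpowers a < U := by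
    refine lt_of_le_of_ne (Subgroup.zpowers_le_of_mem ha) (fun h => ?_)
    have := Nat.card_zpowers a
    rw [h, hcard, hoa] at this
    norm_num at this
  obtain ⟨b, hb, hbn⟩ := SetLike.exists_of_lt hlt
  have hb1 : b ≠ 1 := by
    rintro rfl
    exact hbn (Subgroup.one_mem _)
  have hab : a * b ≠ 1 := by
    intro h
    apply hbn
    have : b = a⁻¹ := (inv_eq_of_mul_eq_one_right h).symm
    rw [this]
    exact Subgroup.inv_mem _ (Subgroup.mem_zpowers a)
  exact ⟨a, b, ha, hb, ha1', hb1, hab⟩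

/-- Case III: `z ≁ s`, `z ≁ t` -/
theorem caseIII [NeZero m] (hm : 4 ∣ m) (e : ↥(P : Subgroup G) ≃* DihedralGroup m)
    (hzs : ¬ IsConj (emb e (dihZ m)) (emb e (sr 0)))
    (hzt : ¬ IsConj (emb e (dihZ m)) (emb e (sr 1))) :
    HasNormalPComplement 2 G ∧ ¬ IsConj (emb e (sr 0)) (emb e (sr 1)) := by
  have : Fact (Nat.Prime 2) := ⟨Nat.prime_two⟩
  have hm2 : 2 ∣ m := dvd_trans (by norm_num) hm
  have hF : FrobCond 2 G := by
    apply frobCond_of_sylow P
    intro Q hQP g hg hodd
    have hQ2 : IsPGroup 2 Q := P.2.to_le hQP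
    have hQd : DihLike Q := (dihLike_of_mulEquiv_dihedralGroup (P : Subgroup G) m e).of_le hQP
    rcases mem_centralizer_or_isKleinFour Q hQ2 hQd g hg hodd with h | hK
    · exact h
    obtain ⟨hexp, a, b, ha, hb, ha1, hb1, hab⟩ := exists_of_isKleinFour Q hK
    have hzQ : emb e (dihZ m) ∈ Q := by
      have := dihZ_mem_of_forall_mul_self hm2 (Q.comap (emb e)) ?_ (e ⟨a, hQP ha⟩)
        (e ⟨b, hQP hb⟩) ?_ ?_ ?_ ?_ ?_
      · exact this
      · intro x hx
        apply emb_injective e
        rw [map_mul, map_one]; exact hexp _ hx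
      · rw [Subgroup.mem_comap, emb_apply']; exact ha
      · rw [Subgroup.mem_comap, emb_apply']; exact hb
      · intro h; apply ha1; rw [← emb_apply' e a (hQP ha), h, map_one]
      · intro h; apply hb1; rw [← emb_apply' e b (hQP hb), h, map_one]
      · intro h; apply hab
        rw [← emb_apply' e a (hQP ha), ← emb_apply' e b (hQP hb), ← map_mul, h, map_one]
    have hz1 : emb e (dihZ m) ≠ 1 :=
      ne_one_of_orderOf_two _ (by rw [orderOf_emb, orderOf_dihZ hm2])
    have hgz : g * emb e (dihZ m) * g⁻¹ = emb e (dihZ m) := by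
      by_contra hne
      set w := g * emb e (dihZ m) * g⁻¹ with hw
      have hwQ : w ∈ Q := (Subgroup.mem_normalizer_iff.mp hg _).mp hzQ
      have hzw : IsConj (emb e (dihZ m)) w := isConj_iff.mpr ⟨g, rfl⟩
      have how : orderOf w = 2 := by
        rw [← orderOf_eq_of_isConj hzw, orderOf_emb, orderOf_dihZ hm2]
      rcases invol_conj_of_mem hm2 e w how (hQP hwQ) hne with h | h
      · exact hzs (hzw.trans h)
      · exact hzt (hzw.trans h)
    exact mem_centralizer_of_card_four_of_fixed Q hK.card_four g hg hodd _ hzQ hz1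
      (mul_inv_eq_iff_eq_mul.mp hgz)
  refine ⟨frobCond_iff.mp hF, ?_⟩
  intro hst
  obtain ⟨c, hc⟩ := isConj_iff.mp hst
  obtain ⟨h, hhP, hh⟩ := hF.control_fusion P (emb e (sr 0)) (emb_mem e _) c⁻¹
    (by rw [inv_inv, hc]; exact emb_mem e _)
  rw [inv_inv, hc] at hh
  set x := e ⟨h, hhP⟩ with hx_def
  have hx : emb e x = h := emb_apply' e h hhP
  have h1 : x⁻¹ * sr 0 * x = sr 1 := by
    apply emb_injective e
    rw [map_mul, map_mul, map_inv, hx]; exact hh
  have h2 := dihHom_conj hm2 x⁻¹ (sr 0)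
  rw [inv_inv, h1] at h2
  apply dihHom_sr_one_ne hm2
  rw [h2, dihHom_sr, map_zero, mul_zero, add_zero]; rfl

end

/-- Let G be a finite group whose Sylow 2-subgroups are dihedral of order 2 ^ n with n ≥ 3, and count the conjugacy classes of involutions of G. Then exactly one of the following holds: there is one class of involutions and no normal subgroup of index 2; there are two classes of involutions, a normal subgroup of index 2 and none of index 4; there are three classes of involutions and G has a normal 2-complement. -/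
theorem result {G : Type*} [Group G] [Finite G] (P : Sylow 2 G) (n : ℕ) (hn : 3 ≤ n) (hdih : Nonempty (↥(P : Subgroup G) ≃* DihedralGroup (2 ^ (n - 1)))) : (Nat.card {C : ConjClasses G // ∃ g : G, ConjClasses.mk g = C ∧ orderOf g = 2} = 1 ∧ ∀ N : Subgroup G, N.Normal → N.index ≠ 2) ∨ (Nat.card {C : ConjClasses G // ∃ g : G, ConjClasses.mk g = C ∧ orderOf g = 2} = 2 ∧ (∃ N : Subgroup G, N.Normal ∧ N.index = 2) ∧ ∀ N : Subgroup G, N.Normal → N.index ≠ 4) ∨ (Nat.card {C : ConjClasses G // ∃ g : G, ConjClasses.mk g = C ∧ orderOf g = 2} = 3 ∧ Cfsg.HasNormalPComplement 2 G) := by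
  obtain ⟨e⟩ := hdih
  obtain ⟨k, hk⟩ : ∃ k, n - 1 = k + 2 := ⟨n - 3, by omega⟩
  rw [hk] at e
  have hm : 4 ∣ 2 ^ (k + 2) := by
    rw [pow_add]; exact Dvd.intro_left _ rfl
  have hm2 : 2 ∣ 2 ^ (k + 2) := dvd_trans (by norm_num) hm
  haveI : NeZero (2 ^ (k + 2)) := ⟨by positivity⟩
  have hcard := card_classes hm2 e
  by_cases hzs : IsConj (emb e (dihZ (2 ^ (k + 2)))) (emb e (sr 0))
  · by_cases hzt : IsConj (emb e (dihZ (2 ^ (k + 2)))) (emb e (sr 1))
    · left
      refine ⟨?_, caseI hm e hzs hzt⟩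
      rw [hcard, ← ConjClasses.mk_eq_mk_iff_isConj.mpr hzs, ← ConjClasses.mk_eq_mk_iff_isConj.mpr hzt]
      simp
    · right; left
      refine ⟨?_, caseII hm e hzs hzt⟩
      rw [hcard, ← ConjClasses.mk_eq_mk_iff_isConj.mpr hzs]
      have hne : ConjClasses.mk (emb e (dihZ (2 ^ (k + 2)))) ≠ ConjClasses.mk (emb e (sr 1)) :=
        fun h => hzt (ConjClasses.mk_eq_mk_iff_isConj.mp h)
      rw [Set.insert_eq_of_mem (Set.mem_insert _ _)]
      exact Set.ncard_pair hne
  · by_cases hzt : IsConj (emb e (dihZ (2 ^ (k + 2)))) (emb e (sr 1))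
    · right; left
      -- exchange the roles of `s` and `t`
      set e' := e.trans (dihSwap (2 ^ (k + 2))) with he'
      have h0 : emb e' (sr 0) = emb e (sr 1) := by
        rw [he', emb_trans, dihSwap_symm_sr, sub_zero]
      have h1 : emb e' (sr 1) = emb e (sr 0) := by
        rw [he', emb_trans, dihSwap_symm_sr, sub_self]
      have hz : emb e' (dihZ (2 ^ (k + 2))) = emb e (dihZ (2 ^ (k + 2))) := by
        rw [he', emb_trans, dihSwap_symm_dihZ hm2]
      refine ⟨?_, caseII hm e' (by rw [hz, h0]; exact hzt) (by rw [hz, h1]; exact hzs)⟩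
      rw [hcard, ← ConjClasses.mk_eq_mk_iff_isConj.mpr hzt]
      have hne : ConjClasses.mk (emb e (dihZ (2 ^ (k + 2)))) ≠ ConjClasses.mk (emb e (sr 0)) :=
        fun h => hzs (ConjClasses.mk_eq_mk_iff_isConj.mp h)
      rw [Set.pair_comm (ConjClasses.mk (emb e (sr 0))), Set.insert_eq_of_mem (Set.mem_insert _ _)]
      exact Set.ncard_pair hne
    · right; right
      obtain ⟨hcomp, hst⟩ := caseIII hm e hzs hzt
      refine ⟨?_, hcomp⟩
      rw [hcard]
      rw [Set.ncard_eq_three]
      exact ⟨_, _, _, fun h => hzs (ConjClasses.mk_eq_mk_iff_isConj.mp h),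
        fun h => hzt (ConjClasses.mk_eq_mk_iff_isConj.mp h),
        fun h => hst (ConjClasses.mk_eq_mk_iff_isConj.mp h), rfl⟩

end Cfsg.Agent.S3864
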