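import Cfsg.Statements.S3276
-- import your own Cfsg.Agent.* helpers here
import Mathlib
import Cfsg.Agent.Lib.Helper18.Basic

set_option autoImplicit false
open Cfsg

namespace Cfsg.Agent.S3276

/-- Let x and y be commuting, non-conjugate involutions of a finite group G, and suppose that for every involution u commuting with x, each conjugate of y that commutes with u also commutes with y. Then the normal closure of y is a proper, normal, elementary abelian 2-subgroup of G; and if y is the only involution of that normal closure commuting with x, it has order at most 4. -/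
theorem result {G : Type*} [Group G] [Finite G] (x y : G) (hx : orderOf x = 2) (hy : orderOf y = 2)
    (hxy : Commute x y) (hnc : ¬ IsConj x y)
    (hstar : ∀ u : G, orderOf u = 2 → Commute u x → ∀ g : G, Commute (g * y * g⁻¹) u → Commute (g * y * g⁻¹) y) :
    Subgroup.normalClosure ({y} : Set G) ≠ ⊤ ∧ Cfsg.IsElementaryAbelian 2 (Subgroup.normalClosure ({y} : Set G)) ∧
      ((∀ u ∈ Subgroup.normalClosure ({y} : Set G), orderOf u = 2 → Commute u x → u = y) →
        Nat.card ↥(Subgroup.normalClosure ({y} : Set G)) ≤ 4) := by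
  classical
  have hx2 : x * x = 1 := by rw [← pow_two, ← hx, pow_orderOf_eq_one]
  have hy2 : y * y = 1 := by rw [← pow_two, ← hy, pow_orderOf_eq_one]
  have hxinv : x⁻¹ = x := inv_eq_of_mul_eq_one_left hx2
  -- every conjugate of y commutes with y
  have hcy : ∀ g : G, Commute (g * y * g⁻¹) y := by
    intro g
    have ht : orderOf (g * y * g⁻¹) = 2 := by
      have : g * y * g⁻¹ = MulAut.conj g y := rfl
      rw [this, MulEquiv.orderOf_eq, hy]
    have hnc' : ¬ IsConj x (g * y * g⁻¹) := by
      intro h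
      apply hnc
      refine h.trans ?_
      rw [isConj_comm, isConj_iff]
      exact ⟨g, rfl⟩
    obtain ⟨u, hu2, hux, hut⟩ :=
      Cfsg.Agent.Lib.Helper18.exists_involution_commute_of_not_isConj x (g * y * g⁻¹) hx ht hnc'
    exact hstar u hu2 hux g hut.symm
  -- any two conjugates commute
  have hcc : ∀ g h : G, Commute (g * y * g⁻¹) (h * y * h⁻¹) := by
    intro g h
    have := hcy (h⁻¹ * g)
    have e1 : g * y * g⁻¹ = h * ((h⁻¹ * g) * y * (h⁻¹ * g)⁻¹) * h⁻¹ := by group
    have e2 : h * y * h⁻¹ = h * y * h⁻¹ := rfl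
    rw [e1]
    show h * ((h⁻¹ * g) * y * (h⁻¹ * g)⁻¹) * h⁻¹ * (h * y * h⁻¹) =
      (h * y * h⁻¹) * (h * ((h⁻¹ * g) * y * (h⁻¹ * g)⁻¹) * h⁻¹)
    have h3 : (h⁻¹ * g) * y * (h⁻¹ * g)⁻¹ * y = y * ((h⁻¹ * g) * y * (h⁻¹ * g)⁻¹) := this
    calc h * ((h⁻¹ * g) * y * (h⁻¹ * g)⁻¹) * h⁻¹ * (h * y * h⁻¹)
        = h * ((h⁻¹ * g) * y * (h⁻¹ * g)⁻¹ * y) * h⁻¹ := by group
      _ = h * (y * ((h⁻¹ * g) * y * (h⁻¹ * g)⁻¹)) * h⁻¹ := by rw [h3]
      _ = (h * y * h⁻¹) * (h * ((h⁻¹ * g) * y * (h⁻¹ * g)⁻¹) * h⁻¹) := by group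
  set N := Subgroup.normalClosure ({y} : Set G) with hN
  have hgen : ∀ a ∈ Group.conjugatesOfSet ({y} : Set G), ∃ g : G, a = g * y * g⁻¹ := by
    intro a ha
    rw [Group.mem_conjugatesOfSet_iff] at ha
    obtain ⟨b, hb, hba⟩ := ha
    rw [Set.mem_singleton_iff] at hb
    subst hb
    rw [isConj_iff] at hba
    obtain ⟨c, hc⟩ := hba
    exact ⟨c, hc.symm⟩
  have hNcomm : IsMulCommutative N := by
    apply Subgroup.isMulCommutative_closure
    intro a ha b hb
    obtain ⟨g, rfl⟩ := hgen a ha
    obtain ⟨h, rfl⟩ := hgen b hb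
    exact hcc g h
  have hNc : ∀ a ∈ N, ∀ b ∈ N, a * b = b * a := fun a ha b hb => setLike_mul_comm ha hb
  have hNsq : ∀ a ∈ N, a ^ 2 = 1 := by
    intro a ha
    induction ha using Subgroup.closure_induction with
    | mem a ha =>
      obtain ⟨g, rfl⟩ := hgen a ha
      rw [pow_two]
      calc g * y * g⁻¹ * (g * y * g⁻¹) = g * (y * y) * g⁻¹ := by group
        _ = 1 := by rw [hy2]; group
    | one => exact one_pow 2
    | mul a b ha hb iha ihb =>
      have hc : Commute a b := hNc a ha b hb
      rw [hc.mul_pow, iha, ihb, one_mul]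
    | inv a ha iha => rw [inv_pow, iha, inv_one]
  have hyN : y ∈ N := Subgroup.subset_normalClosure (Set.mem_singleton y)
  have hNnormal : N.Normal := Subgroup.normalClosure_normal
  refine ⟨?_, ⟨hNcomm, hNsq⟩, ?_⟩
  · -- N ≠ ⊤
    intro htop
    have hall : ∀ a b : G, a * b = b * a := by
      intro a b
      exact hNc a (by rw [htop]; trivial) b (by rw [htop]; trivial)
    have hle : N ≤ Subgroup.zpowers y := by
      rw [hN, Subgroup.normalClosure]
      rw [Subgroup.closure_le]
      intro a ha
      obtain ⟨g, rfl⟩ := hgen a ha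
      have : g * y * g⁻¹ = y := by rw [hall g y]; group
      rw [this]
      exact Subgroup.mem_zpowers y
    have hxz : x ∈ Subgroup.zpowers y := hle (by rw [htop]; trivial)
    rw [Subgroup.mem_zpowers_iff] at hxz
    obtain ⟨k, hk⟩ := hxz
    rcases Int.even_or_odd' k with ⟨j, hj | hj⟩
    · have : x = 1 := by
        rw [← hk, hj, zpow_mul, zpow_two, hy2, one_zpow]
      rw [this, orderOf_one] at hx
      omega
    · have : x = y := by
        rw [← hk, hj, zpow_add, zpow_mul, zpow_two, hy2, one_zpow, one_mul, zpow_one]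
      apply hnc
      rw [this]
  · -- the bound
    intro huniq
    -- elements of N commuting with x are 1 or y
    have hfix : ∀ a ∈ N, a * x = x * a → a = 1 ∨ a = y := by
      intro a ha hax
      by_cases ha1 : a = 1
      · left; exact ha1
      · right
        apply huniq a ha _ hax
        apply orderOf_eq_prime (hNsq a ha) ha1
    let φ : N →* N := MonoidHom.mk' (fun n => ⟨n.1 * (x * n.1 * x⁻¹),
        N.mul_mem n.2 (hNnormal.conj_mem n.1 n.2 x)⟩) (by
      intro a b
      apply Subtype.ext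
      show (a.1 * b.1) * (x * (a.1 * b.1) * x⁻¹) = a.1 * (x * a.1 * x⁻¹) * (b.1 * (x * b.1 * x⁻¹))
      have hc : b.1 * (x * a.1 * x⁻¹) = (x * a.1 * x⁻¹) * b.1 :=
        hNc _ b.2 _ (hNnormal.conj_mem a.1 a.2 x)
      calc (a.1 * b.1) * (x * (a.1 * b.1) * x⁻¹)
          = a.1 * (b.1 * (x * a.1 * x⁻¹)) * (x * b.1 * x⁻¹) := by group
        _ = a.1 * ((x * a.1 * x⁻¹) * b.1) * (x * b.1 * x⁻¹) := by rw [hc]
        _ = a.1 * (x * a.1 * x⁻¹) * (b.1 * (x * b.1 * x⁻¹)) := by group)
    have hφval : ∀ n : N, (φ n).1 = n.1 * (x * n.1 * x⁻¹) := fun n => rfl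
    -- a subgroup of N consisting of elements commuting with x has at most two elements
    have hsmall : ∀ K : Subgroup N, (∀ k ∈ K, k.1 * x = x * k.1) → Nat.card K ≤ 2 := by
      intro K hK
      let f : K → Fin 2 := fun k => if k.1.1 = 1 then 0 else 1
      have hf : Function.Injective f := by
        intro k k' hkk
        apply Subtype.ext
        apply Subtype.ext
        by_cases h1 : k.1.1 = 1 <;> by_cases h2 : k'.1.1 = 1
        · rw [h1, h2]
        · exfalso
          have e1 : f k = 0 := if_pos h1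
          have e2 : f k' = 1 := if_neg h2
          rw [e1, e2] at hkk
          exact absurd hkk (by decide)
        · exfalso
          have e1 : f k = 1 := if_neg h1
          have e2 : f k' = 0 := if_pos h2
          rw [e1, e2] at hkk
          exact absurd hkk (by decide)
        · rcases hfix k.1.1 k.1.2 (hK k.1 k.2) with h | h
          · exact absurd h h1
          · rcases hfix k'.1.1 k'.1.2 (hK k'.1 k'.2) with h' | h'
            · exact absurd h' h2
            · rw [h, h']
      have := Nat.card_le_card_of_injective f hf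
      simpa using this
    have hker : Nat.card φ.ker ≤ 2 := by
      apply hsmall
      intro k hk
      rw [MonoidHom.mem_ker] at hk
      have h1 : k.1 * (x * k.1 * x⁻¹) = 1 := by
        rw [← hφval, hk]; rfl
      have hk2 : k.1 * k.1 = 1 := by rw [← pow_two]; exact hNsq k.1 k.2
      have h2 : x * k.1 * x⁻¹ = k.1 := by
        have : k.1 * (x * k.1 * x⁻¹) = k.1 * k.1 := by rw [h1, hk2]
        exact mul_left_cancel this
      calc k.1 * x = (x * k.1 * x⁻¹) * x := by rw [h2]
        _ = x * k.1 := by group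
    have hrange : Nat.card φ.range ≤ 2 := by
      apply hsmall
      rintro _ ⟨n, rfl⟩
      rw [hφval]
      have hc : n.1 * (x * n.1 * x⁻¹) = (x * n.1 * x⁻¹) * n.1 :=
        hNc _ n.2 _ (hNnormal.conj_mem n.1 n.2 x)
      calc n.1 * (x * n.1 * x⁻¹) * x = (x * n.1 * x⁻¹) * n.1 * x := by rw [hc]
        _ = x * n.1 * (x⁻¹ * n.1 * x) := by group
        _ = x * n.1 * (x * n.1 * x⁻¹) := by rw [hxinv]
        _ = x * (n.1 * (x * n.1 * x⁻¹)) := by group
    have hcard : Nat.card φ.ker * Nat.card φ.range = Nat.card N := by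
      rw [← Subgroup.index_ker, Subgroup.card_mul_index]
    calc Nat.card N = Nat.card φ.ker * Nat.card φ.range := hcard.symm
      _ ≤ 2 * 2 := Nat.mul_le_mul hker hrange
      _ = 4 := by norm_num

end Cfsg.Agent.S3276
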