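import Cfsg.Statements.S4492


import Mathlib
import Cfsg.Agent.Lib.Helper6.FongD
import Cfsg.Agent.Lib.Helper6.Fong
import Cfsg.Agent.Lib.Helper6.DefectOrder
import Cfsg.Agent.Lib.Helper6.NormalBlock
import Cfsg.Agent.Lib.Helper12.HallHigman
import Cfsg.Agent.Lib.Helper23.Covering2
import Cfsg.Agent.Lib.Helper23.QuotDefectAux
import Cfsg.Agent.Lib.Helper23.BrauerInduced

set_option autoImplicit false
open Cfsg

namespace Cfsg.Agent.S4492

open Cfsg.Agent.CharLib Cfsg.Agent.Lib.Helper24 Cfsg.Agent.Lib.Helper6 Cfsg.Agent.Lib.Helper23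
  Cfsg.Agent.Lib.Helper12 Cfsg.Agent.Lib.Helper6.FongBlock

theorem aux {G : Type*} [Group G] [Fintype G] (p : ℕ) [Fact p.Prime] (M : Ideal Cfsg.AlgInt) (hM : Cfsg.IsPModular p M) (hsolv : Cfsg.IsPSolvable p G) (N : Subgroup G) [hN : N.Normal] [Fintype N] (hNp : ¬ p ∣ Nat.card N) (hO : Cfsg.pPrimeCore p (G ⧸ N) = ⊥) (θ : Cfsg.IrrCharacter N) (hinv : ∀ (g : G) (n : N), (θ : N → ℂ) ⟨g * n * g⁻¹, hN.conj_mem n n.2 g⟩ = (θ : N → ℂ) n) : ∃ B : Set (Cfsg.IrrCharacter G), Cfsg.IsPBlock M B ∧ (∀ χ : Cfsg.IrrCharacter G, χ ∈ B ↔ Cfsg.classInner (fun n : N => (χ : G → ℂ) n) (θ : N → ℂ) ≠ 0) ∧ (∀ P : Sylow p G, Cfsg.IsDefectGroup p M B (P : Subgroup G)) ∧ ∀ D : Subgroup G, Cfsg.IsDefectGroup p M B D → ∃ P : Sylow p G, D = (P : Subgroup G) := by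
  classical
  have hprime : M.IsPrime := isPrime_of_isPModular hM
  have hpr : p.Prime := Fact.out
  -- Hall–Higman
  set Q : Subgroup (G ⧸ N) := Cfsg.pCore p (G ⧸ N) with hQdef
  haveI hQn : Q.Normal := pCore_normal' p
  have hQ : IsPGroup p Q := pCore_isPGroup' p
  have hC : Subgroup.centralizer (Q : Set (G ⧸ N)) ≤ Q :=
    centralizer_pCore_le_pCore p
      (isPSolvable_of_surjective p (QuotientGroup.mk' N) (QuotientGroup.mk'_surjective N) hsolv)
      hO
  obtain ⟨χ₀, hχ₀⟩ := exists_irr_over_constituent N θ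
  set B := blockOf M (χ₀ : G → ℂ) with hBdef
  have hB : IsPBlock M B := ⟨χ₀, rfl⟩
  have hmem : ∀ χ : Cfsg.IrrCharacter G, χ ∈ B ↔
      Cfsg.classInner (fun n : N => (χ : G → ℂ) n) (θ : N → ℂ) ≠ 0 := by
    intro χ
    constructor
    · intro hχ
      have h1 : SameBlock M (χ₀ : G → ℂ) (χ : G → ℂ) := hχ
      exact (constituent_iff_of_sameBlock hM N hNp χ₀ χ h1 θ.2).mp hχ₀
    · intro hχ
      exact sameBlock_of_over_invariant hM N hNp θ hinv Q hQ hC χ₀ χ hχ₀ hχ
  -- the block of `θ`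
  set b := blockOf M (θ : N → ℂ) with hbdef
  have hb : IsPBlock M b := ⟨θ, rfl⟩
  have hbsing : ∀ θ₁ ∈ b, θ₁ = θ := by
    intro θ₁ hθ₁
    exact (eq_of_sameBlock_of_not_dvd_card hM hNp θ θ₁ hθ₁).symm
  have hθb : θ ∈ b := mem_blockOf_self θ
  have hinvb : ∀ g : G, ∀ θ₁ ∈ b, ∀ θ' : IrrCharacter N,
      (∀ n : N, (θ' : N → ℂ) n = (θ₁ : N → ℂ) ⟨g * n * g⁻¹, hN.conj_mem n n.2 g⟩) → θ' ∈ b := by
    intro g θ₁ hθ₁ θ' hθ'
    rw [hbsing θ₁ hθ₁] at hθ'
    have : θ' = θ := by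
      apply Subtype.ext
      funext n
      rw [hθ' n, hinv g n]
    rw [this]
    exact hθb
  obtain ⟨D₀, hD₀⟩ := exists_isDefectGroup hM B hB
  have hfong := Fong.fong N hM b hb hinvb B hB ⟨χ₀, mem_blockOf_self χ₀, θ, hθb, hχ₀⟩
    (by
      intro B' hB' hcov
      obtain ⟨χ, hχB', θ₁, hθ₁, hov⟩ := hcov
      rw [hbsing θ₁ hθ₁] at hov
      have hχB : χ ∈ B := (hmem χ).mpr hov
      rw [isPBlock_eq_of_mem hB' hB hχB' hχB]) D₀ hD₀
  obtain ⟨-, -, hdef⟩ := hfong
  have hbdef0 : blockDefect p b = 0 := by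
    unfold blockDefect
    rw [Nat.factorization_eq_zero_of_not_dvd hNp, Nat.zero_sub]
  have hidx : N.index.factorization p = (Nat.card G).factorization p := by
    have h1 := N.card_mul_index
    have h2 : (Nat.card G).factorization p =
        (Nat.card N).factorization p + N.index.factorization p := by
      rw [← h1, Nat.factorization_mul Nat.card_pos.ne' Subgroup.index_ne_zero_of_finite]
      rfl
    rw [h2, Nat.factorization_eq_zero_of_not_dvd hNp, zero_add]
  have hdefB : blockDefect p B = (Nat.card G).factorization p := by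
    rw [hdef, hbdef0, zero_add, hidx]
  have hcard : ∀ D : Subgroup G, IsDefectGroup p M B D →
      Nat.card D = p ^ (Nat.card G).factorization p := by
    intro D hD
    rw [card_defectGroup_eq hM B hB D hD, hdefB]
  refine ⟨B, hB, hmem, ?_, ?_⟩
  · intro P
    let P₀ : Sylow p G := Sylow.ofCard D₀ (hcard D₀ hD₀)
    obtain ⟨g, hg⟩ := MulAction.exists_smul_eq G P₀ P
    have h1 := isDefectGroup_conj hM hB hD₀ g
    have h2 : (P : Subgroup G) = D₀.map (MulAut.conj g).toMonoidHom := by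
      rw [← hg]
      rfl
    rw [h2]
    exact h1
  · intro D hD
    exact ⟨Sylow.ofCard D (hcard D hD), rfl⟩


/-- Let G be a finite p-solvable group, N = O_{p'}(G) its largest normal subgroup of order prime to p, and θ an irreducible character of N invariant under conjugation by G; fix a maximal ideal M of the algebraic integers containing p. Then the irreducible characters of G lying over θ (those whose restriction to N contains θ) form a single p-block of G, and the defect groups of that block are exactly the Sylow p-subgroups of G. -/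
theorem result {G : Type*} [Group G] [Fintype G] (p : ℕ) [Fact p.Prime] (M : Ideal Cfsg.AlgInt) (hM : Cfsg.IsPModular p M) (hsolv : Cfsg.IsPSolvable p G) (N : Subgroup G) [hN : N.Normal] [Fintype N] (hNdef : N = Cfsg.pPrimeCore p G) (θ : Cfsg.IrrCharacter N) (hinv : ∀ (g : G) (n : N), (θ : N → ℂ) ⟨g * n * g⁻¹, hN.conj_mem n n.2 g⟩ = (θ : N → ℂ) n) : ∃ B : Set (Cfsg.IrrCharacter G), Cfsg.IsPBlock M B ∧ (∀ χ : Cfsg.IrrCharacter G, χ ∈ B ↔ Cfsg.classInner (fun n : N => (χ : G → ℂ) n) (θ : N → ℂ) ≠ 0) ∧ (∀ P : Sylow p G, Cfsg.IsDefectGroup p M B (P : Subgroup G)) ∧ ∀ D : Subgroup G, Cfsg.IsDefectGroup p M B D → ∃ P : Sylow p G, D = (P : Subgroup G) := by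
  subst hNdef
  have hpr : p.Prime := Fact.out
  have hNp : ¬ p ∣ Nat.card (Cfsg.pPrimeCore p G) := by
    have h1 : (Nat.card (Cfsg.pPrimeCore p G)).Coprime p := pPrimeCore_coprime p
    exact (Nat.Prime.coprime_iff_not_dvd hpr).mp h1.symm
  exact aux p M hM hsolv (Cfsg.pPrimeCore p G) hNp (pPrimeCore_quotient_eq_bot' p) θ hinv

end Cfsg.Agent.S4492
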