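import Cfsg.Statements.S2420
-- import your own Cfsg.Agent.* helpers here
import Cfsg.Agent.Lib.Helper15.ParaCount

set_option autoImplicit false
open scoped MatrixGroups
open Cfsg

namespace Cfsg.Agent.S2420

open Matrix Cfsg.Agent.Lib.Helper15.ParaCount

section lab

variable {n : ℕ} (μ : Fin n → ℕ)

/-- partial sums of the composition -/
def ps (t : ℕ) : ℕ := ∑ k ∈ Finset.univ.filter (fun k : Fin n => k.val < t), μ k

theorem ps_zero : ps μ 0 = 0 := by
  unfold ps
  simp

theorem ps_succ (t : ℕ) (ht : t < n) : ps μ (t + 1) = ps μ t + μ ⟨t, ht⟩ := by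
  unfold ps
  have : Finset.univ.filter (fun k : Fin n => k.val < t + 1) =
      insert (⟨t, ht⟩ : Fin n) (Finset.univ.filter (fun k : Fin n => k.val < t)) := by
    ext k
    simp only [Finset.mem_filter, Finset.mem_univ, true_and, Finset.mem_insert, Fin.ext_iff]
    omega
  rw [this, Finset.sum_insert (by simp), add_comm]

theorem ps_mono : Monotone (ps μ) := by
  intro s t hst
  unfold ps
  apply Finset.sum_le_sum_of_subset
  intro k hk
  simp only [Finset.mem_filter, Finset.mem_univ, true_and] at hk ⊢
  omega

theorem ps_top (hμ : ∑ i, μ i = n) : ps μ n = n := by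
  unfold ps
  rw [Finset.filter_true_of_mem (fun k _ => k.isLt)]
  exact hμ

theorem compLabel_eq (i : Fin n) :
    Cfsg.compLabel μ i = (Finset.univ.filter (fun j : Fin n => ps μ (j.val + 1) ≤ i.val)).card := by
  unfold Cfsg.compLabel ps
  congr 1
  apply Finset.filter_congr
  intro j _
  have : Finset.univ.filter (fun k : Fin n => k ≤ j) =
      Finset.univ.filter (fun k : Fin n => k.val < j.val + 1) := by
    ext k
    simp only [Finset.mem_filter, Finset.mem_univ, true_and, Fin.le_def]
    omega
  rw [this]

theorem card_filter_lt (a : ℕ) (ha : a ≤ n) :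
    (Finset.univ.filter (fun j : Fin n => j.val < a)).card = a := by
  have : (Finset.univ.filter (fun j : Fin n => j.val < a)).map Fin.valEmbedding =
      Finset.range a := by
    ext x
    simp only [Finset.mem_map, Finset.mem_filter, Finset.mem_univ, true_and, Fin.valEmbedding_apply,
      Finset.mem_range]
    constructor
    · rintro ⟨j, hj, rfl⟩; exact hj
    · intro hx; exact ⟨⟨x, by omega⟩, hx, rfl⟩
  rw [← Finset.card_map, this, Finset.card_range]

theorem label_eq (i : Fin n) (a : ℕ) (ha : a < n) (h1 : ps μ a ≤ i.val) (h2 : i.val < ps μ (a + 1)) :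
    Cfsg.compLabel μ i = a := by
  rw [compLabel_eq, ← card_filter_lt (n := n) a ha.le]
  congr 1
  apply Finset.filter_congr
  intro j _
  constructor
  · intro h
    by_contra hja
    have : a + 1 ≤ j.val + 1 := by omega
    have := ps_mono μ this
    omega
  · intro h
    have : j.val + 1 ≤ a := by omega
    have := ps_mono μ this
    omega

theorem exists_label (hμ : ∑ i, μ i = n) (i : Fin n) :
    ∃ a, a < n ∧ ps μ a ≤ i.val ∧ i.val < ps μ (a + 1) := by
  classical
  have hex : ∃ t, i.val < ps μ (t + 1) := by
    refine ⟨n - 1, ?_⟩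
    have : n - 1 + 1 = n := by have := i.isLt; omega
    rw [this, ps_top μ hμ]
    exact i.isLt
  refine ⟨Nat.find hex, ?_, ?_, Nat.find_spec hex⟩
  · by_contra hlt
    have h1 : n - 1 < Nat.find hex := by have := i.isLt; omega
    have := Nat.find_min hex h1
    apply this
    have : n - 1 + 1 = n := by have := i.isLt; omega
    rw [this, ps_top μ hμ]
    exact i.isLt
  · rcases Nat.eq_zero_or_pos (Nat.find hex) with h0 | hpos
    · rw [h0, ps_zero]; exact Nat.zero_le _
    · have h1 : Nat.find hex - 1 < Nat.find hex := by omega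
      have := Nat.find_min hex h1
      have e : Nat.find hex - 1 + 1 = Nat.find hex := by omega
      rw [e] at this
      omega

theorem label_lt (hμ : ∑ i, μ i = n) (i : Fin n) : Cfsg.compLabel μ i < n := by
  obtain ⟨a, ha, h1, h2⟩ := exists_label μ hμ i
  rw [label_eq μ i a ha h1 h2]
  exact ha

theorem fiber_card (hμ : ∑ i, μ i = n) (a : Fin n) :
    Fintype.card {i : Fin n // Cfsg.compLabel μ i = a.val} = μ a := by
  classical
  rw [Fintype.card_subtype]
  have hset : Finset.univ.filter (fun i : Fin n => Cfsg.compLabel μ i = a.val) =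
      Finset.univ.filter (fun i : Fin n => ps μ a.val ≤ i.val ∧ i.val < ps μ (a.val + 1)) := by
    apply Finset.filter_congr
    intro i _
    constructor
    · intro h
      obtain ⟨a', ha', h1, h2⟩ := exists_label μ hμ i
      have := label_eq μ i a' ha' h1 h2
      rw [h] at this
      rw [this]
      exact ⟨h1, h2⟩
    · rintro ⟨h1, h2⟩
      exact label_eq μ i a.val a.isLt h1 h2
  rw [hset]
  have hle : ps μ (a.val + 1) ≤ n := by
    have := ps_mono μ (show a.val + 1 ≤ n from a.isLt)
    rwa [ps_top μ hμ] at this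
  have : (Finset.univ.filter (fun i : Fin n => ps μ a.val ≤ i.val ∧ i.val < ps μ (a.val + 1))).map
      Fin.valEmbedding = Finset.Ico (ps μ a.val) (ps μ (a.val + 1)) := by
    ext x
    simp only [Finset.mem_map, Finset.mem_filter, Finset.mem_univ, true_and, Fin.valEmbedding_apply,
      Finset.mem_Ico]
    constructor
    · rintro ⟨j, hj, rfl⟩; exact hj
    · intro hx; exact ⟨⟨x, by omega⟩, hx, rfl⟩
  rw [← Finset.card_map, this, Nat.card_Ico, ps_succ μ a.val a.isLt]
  simp

end lab

theorem main {F : Type*} [Field F] [Fintype F] {q : ℕ} (hq : Fintype.card F = q) {n : ℕ}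
    (μ : Fin n → ℕ) (hμ : ∑ i, μ i = n) :
    Nat.card (GL (Fin n) F ⧸ Cfsg.parabolicGL n F μ) *
        ∏ i : Fin n, ∏ j ∈ Finset.range (μ i), ∑ l ∈ Finset.range (j + 1), q ^ l =
      ∏ j ∈ Finset.range n, ∑ l ∈ Finset.range (j + 1), q ^ l := by
  classical
  have hq2 : 2 ≤ q := by rw [← hq]; exact Fintype.one_lt_card
  -- the labelling with values in `Fin n`
  let b : Fin n → Fin n := fun i => ⟨Cfsg.compLabel μ i, label_lt μ hμ i⟩
  have hP : Nat.card (Cfsg.parabolicGL n F μ) =
      Nat.card {g : GL (Fin n) F // (g : Matrix (Fin n) (Fin n) F).BlockTriangular b} := by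
    apply Nat.card_congr
    apply Equiv.subtypeEquivRight
    intro g
    constructor
    · intro h i j hij
      exact h hij
    · intro h i j hij
      exact h hij
  have hc : ∀ a : Fin n, Fintype.card {i : Fin n // b i = a} = μ a := by
    intro a
    rw [← fiber_card μ hμ a]
    apply Fintype.card_congr
    apply Equiv.subtypeEquivRight
    intro i
    exact Fin.ext_iff
  have hcount := card_blockTriangular (F := F) b
  rw [← hP] at hcount
  have hidx : (Cfsg.parabolicGL n F μ).index * Nat.card (Cfsg.parabolicGL n F μ) =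
      Nat.card (GL (Fin n) F) := Subgroup.index_mul_card _
  have hGL : Nat.card (GL (Fin n) F) = gam q n := by
    rw [card_GL_of_card, hq, Fintype.card_fin]
  have hpair := pair_count b
  have hsum := sum_card_fiber b
  rw [Fintype.card_fin] at hpair hsum
  simp only [hc] at hpair hsum
  have hfin := arith_main q hq2 μ n (Nat.card {p : Fin n × Fin n // b p.1 < b p.2})
    (Cfsg.parabolicGL n F μ).index hsum hpair (by
      rw [← hGL, ← hidx, hcount]
      congr 2
      · apply Finset.prod_congr rfl
        intro a _
        rw [card_GL_of_card, hq, hc]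
      · rw [hq])
  have hq' : Nat.card (GL (Fin n) F ⧸ Cfsg.parabolicGL n F μ) = (Cfsg.parabolicGL n F μ).index := rfl
  rw [hq']
  exact hfin

/-- The number of partial flags of a given type: for a composition `μ` of `n` (with `n` parts, zeros allowed) and a field with `q` elements, the index of the standard parabolic subgroup `P_μ` in `GL_n(q)` times `∏_i {μ_i}` equals `{n}`, where `{r}` denotes the product over `k = 1, …, r` of the q-integers `1 + q + ⋯ + q^(k−1)`. -/
theorem result {F : Type*} [Field F] [Fintype F] {q : ℕ} (hq : Fintype.card F = q) {n : ℕ} (μ : Fin n → ℕ) (hμ : ∑ i, μ i = n) :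
    Nat.card (GL (Fin n) F ⧸ Cfsg.parabolicGL n F μ) * ∏ i : Fin n, ∏ j ∈ Finset.range (μ i), ∑ l ∈ Finset.range (j + 1), q ^ l =
      ∏ j ∈ Finset.range n, ∑ l ∈ Finset.range (j + 1), q ^ l := by
  exact main hq μ hμ

end Cfsg.Agent.S2420
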