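-- S2423 (helper6): the inner products of the flag permutation characters of `GL_n(q)` agree with those
-- of the Young permutation characters of `Sym(n)`: both count the `(J,K)`-reduced elements of the Weyl
-- group of the (B,N)-pair of `GL_n(q)` (Lib/Helper6/GLBN*), by Burnside's lemma and the Bruhat decomposition.
import Mathlib
import Cfsg.Statements.S2423
import Cfsg.Agent.Lib.Helper6.GLBNE
import Cfsg.Agent.Lib.Helper6.BNRedD

set_option autoImplicit false
open scoped MatrixGroups
open Cfsg

namespace Cfsg.Agent.S2423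

open Cfsg.Agent.Lib.Helper6.GLBN Cfsg.Agent.Lib.Helper6.BNSt Cfsg.Agent.Lib.Helper3.BN

/-- the inner product of two flag characters of `GL_n(q)` counts reduced elements -/
theorem inner_GL {F : Type*} [Field F] [Fintype F] [DecidableEq F] {n : ℕ} (ν μ : Fin n → ℕ) :
    (Nat.card (GL (Fin n) F) : ℂ)⁻¹ * ∑ g : GL (Fin n) F,
        Cfsg.fixedPointCharacter (Cfsg.parabolicGL n F ν) g * Cfsg.fixedPointCharacter (Cfsg.parabolicGL n F μ) g =
      (Nat.card (Red (glBN n F) (Jset F ν) (Jset F μ)) : ℂ) := by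
  classical
  have : Fintype (Red (glBN n F) (Jset F ν) (Jset F μ)) := Fintype.ofFinite _
  have h := sum_card_fixedBy_mul (glBN n F) (Jset_sub (F := F) ν) (Jset_sub (F := F) μ)
  rw [parabolicGL_eq ν, parabolicGL_eq μ]
  have h2 : ∑ g : GL (Fin n) F,
      Cfsg.fixedPointCharacter ((glBN n F).parabolic (Jset F ν)) g *
        Cfsg.fixedPointCharacter ((glBN n F).parabolic (Jset F μ)) g =
      ((Fintype.card (Red (glBN n F) (Jset F ν) (Jset F μ)) * Fintype.card (GL (Fin n) F) : ℕ) : ℂ) := by
    rw [← h]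
    push_cast
    rfl
  rw [h2, Nat.card_eq_fintype_card, Nat.card_eq_fintype_card]
  have hne : (Fintype.card (GL (Fin n) F) : ℂ) ≠ 0 := by
    exact_mod_cast Fintype.card_ne_zero
  push_cast
  field_simp

/-- the inner product of two Young characters of `Sym(n)` counts the same reduced elements -/
theorem inner_Sym (F : Type*) [Field F] [Finite F] {n : ℕ} (ν μ : Fin n → ℕ) :
    (Nat.card (Equiv.Perm (Fin n)) : ℂ)⁻¹ * ∑ σ : Equiv.Perm (Fin n),
        Cfsg.fixedPointCharacter (Cfsg.youngSubgroup ν) σ * Cfsg.fixedPointCharacter (Cfsg.youngSubgroup μ) σ =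
      (Nat.card (Red (glBN n F) (Jset F ν) (Jset F μ)) : ℂ) := by
  classical
  have : Fintype F := Fintype.ofFinite F
  have : Fintype (Red (glBN n F) (Jset F ν) (Jset F μ)) := Fintype.ofFinite _
  have h := sum_card_fixedBy_weyl (glBN n F) (weylEquiv n F) (Jset F ν) (Jset F μ)
    (Cfsg.youngSubgroup ν) (Cfsg.youngSubgroup μ) (weylEquiv_mem_WJ_iff ν) (weylEquiv_mem_WJ_iff μ)
  have h2 : ∑ σ : Equiv.Perm (Fin n),
      Cfsg.fixedPointCharacter (Cfsg.youngSubgroup ν) σ * Cfsg.fixedPointCharacter (Cfsg.youngSubgroup μ) σ =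
      ((Fintype.card (Red (glBN n F) (Jset F ν) (Jset F μ)) * Fintype.card (Equiv.Perm (Fin n)) : ℕ) : ℂ) := by
    rw [← h]
    push_cast
    rfl
  rw [h2, Nat.card_eq_fintype_card, Nat.card_eq_fintype_card]
  have hne : (Fintype.card (Equiv.Perm (Fin n)) : ℂ) ≠ 0 := by
    exact_mod_cast Fintype.card_ne_zero
  push_cast
  field_simp

/-- The comparison of `GL_n(q)` with the symmetric group on flags: for partitions `ν`, `μ` of `n` (each with `n` non-decreasing parts, zeros allowed), the inner product of the permutation characters of `GL_n(q)` on partial flags of types `ν` and `μ` equals the inner product of the permutation characters of `Sym(n)` on the cosets of the Young subgroups of types `ν` and `μ` (both count the orbits on pairs). -/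
theorem result {F : Type*} [Field F] [Fintype F] [DecidableEq F] {n : ℕ} (ν μ : Fin n → ℕ) (hν : Monotone ν) (hνs : ∑ i, ν i = n)
    (hμ : Monotone μ) (hμs : ∑ i, μ i = n) :
    (Nat.card (GL (Fin n) F) : ℂ)⁻¹ * ∑ g : GL (Fin n) F,
        Cfsg.fixedPointCharacter (Cfsg.parabolicGL n F ν) g * Cfsg.fixedPointCharacter (Cfsg.parabolicGL n F μ) g =
      (Nat.card (Equiv.Perm (Fin n)) : ℂ)⁻¹ * ∑ σ : Equiv.Perm (Fin n),
        Cfsg.fixedPointCharacter (Cfsg.youngSubgroup ν) σ * Cfsg.fixedPointCharacter (Cfsg.youngSubgroup μ) σ := by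
  rw [inner_GL ν μ, inner_Sym F ν μ]

end Cfsg.Agent.S2423
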