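import Cfsg.Statements.S2424
-- import your own Cfsg.Agent.* helpers here
import Cfsg.Agent.S2420

set_option autoImplicit false
open scoped MatrixGroups
open Cfsg

namespace Cfsg.Agent.S2424

open Matrix Polynomial Cfsg.Agent.Lib.Helper15.ParaCount

/-- the `q`-integer -/
def qint (q m : ℕ) : ℕ := ∑ l ∈ Finset.range m, q ^ l

/-- falling `q`-factorial -/
def qfall (q lam j : ℕ) : ℕ := ∏ s ∈ Finset.range j, qint q (lam - s)

theorem qfac_eq (q m : ℕ) : qfac q m = ∏ t ∈ Finset.range m, qint q (t + 1) := rfl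

theorem qint_zero (q : ℕ) : qint q 0 = 0 := by simp [qint]

theorem qfac_split (q lam j : ℕ) (hj : j ≤ lam) :
    qfac q lam = qfac q (lam - j) * qfall q lam j := by
  induction j with
  | zero => simp [qfall]
  | succ j ih =>
    have hj' : j ≤ lam := by omega
    rw [ih hj']
    unfold qfall
    rw [Finset.prod_range_succ]
    have e : lam - j = (lam - (j + 1)) + 1 := by omega
    rw [qfac_eq q (lam - j), e, Finset.prod_range_succ, ← qfac_eq]
    have e2 : lam - (j + 1) + 1 = lam - j := by omega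
    rw [e2]
    ring

theorem qfall_eq_zero (q lam j : ℕ) (hj : lam < j) : qfall q lam j = 0 := by
  unfold qfall
  apply Finset.prod_eq_zero (Finset.mem_range.mpr hj)
  rw [Nat.sub_self, qint_zero]

theorem qint_split (q lam s : ℕ) (hs : s ≤ lam) :
    q ^ s * qint q (lam - s) + qint q s = qint q lam := by
  unfold qint
  obtain ⟨d, rfl⟩ : ∃ d, lam = s + d := ⟨lam - s, by omega⟩
  rw [Nat.add_sub_cancel_left, Finset.sum_range_add, Finset.mul_sum, add_comm]
  congr 1
  apply Finset.sum_congr rfl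
  intro x _
  rw [pow_add]

theorem sum_tri (n : ℕ) : n * (n - 1) * (n - 2) / 6 = ∑ j ∈ Finset.range n, tri j := by
  have key : ∀ m : ℕ, 6 * ∑ j ∈ Finset.range (m + 2), tri j = (m + 2) * (m + 1) * m := by
    intro m
    induction m with
    | zero => simp [tri, Finset.sum_range_succ]
    | succ m ih =>
      rw [Finset.sum_range_succ, mul_add, ih]
      have := tri_two (m + 2)
      nlinarith
  rcases n with _ | _ | m
  · simp
  · simp [tri]
  · have := key m
    have e : (m + 1 + 1) * (m + 1 + 1 - 1) * (m + 1 + 1 - 2) = (m + 2) * (m + 1) * m := by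
      have h1 : m + 1 + 1 - 1 = m + 1 := by omega
      have h2 : m + 1 + 1 - 2 = m := by omega
      rw [h1, h2]
    rw [e, ← this]
    exact Nat.mul_div_cancel_left _ (by norm_num)

/-- the key entry relation, over `ℂ` -/
theorem entry_rel (q lam j : ℕ) :
    (q : ℂ) ^ tri j * (qfall q lam j : ℂ) =
      ∏ s ∈ Finset.range j, ((qint q lam : ℂ) - (qint q s : ℂ)) := by
  by_cases hj : lam < j
  · rw [qfall_eq_zero q lam j hj, Nat.cast_zero, mul_zero]
    symm
    apply Finset.prod_eq_zero (Finset.mem_range.mpr hj)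
    rw [sub_self]
  · push Not at hj
    unfold tri qfall
    rw [← Finset.prod_pow_eq_pow_sum, Nat.cast_prod, ← Finset.prod_mul_distrib]
    apply Finset.prod_congr rfl
    intro s hs
    rw [Finset.mem_range] at hs
    have := qint_split q lam s (by omega)
    rw [← this]
    push_cast
    ring

/-- the monic polynomials -/
noncomputable def pol (q : ℕ) (j : ℕ) : ℂ[X] :=
  ∏ s ∈ Finset.range j, (X - C (qint q s : ℂ))

theorem pol_monic (q j : ℕ) : (pol q j).Monic :=
  monic_prod_of_monic _ _ (fun _ _ => monic_X_sub_C _)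

theorem pol_natDegree (q j : ℕ) : (pol q j).natDegree = j := by
  unfold pol
  rw [natDegree_prod_of_monic _ _ (fun _ _ => monic_X_sub_C _),
    Finset.sum_congr rfl (fun s _ => natDegree_X_sub_C (qint q s : ℂ))]
  simp

theorem pol_eval (q j : ℕ) (x : ℂ) :
    (pol q j).eval x = ∏ s ∈ Finset.range j, (x - (qint q s : ℂ)) := by
  unfold pol
  rw [eval_prod]
  simp

/-- the determinant evaluation -/
theorem det_eval (q n : ℕ) (lam : Fin n → ℕ) :
    (q : ℂ) ^ (n * (n - 1) * (n - 2) / 6) *
      (Matrix.of fun i j : Fin n => (qfall q (lam i) j.val : ℂ)).det =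
      ∏ i : Fin n, ∏ j ∈ Finset.univ.filter (fun j : Fin n => i < j),
        ((qint q (lam j) : ℂ) - (qint q (lam i) : ℂ)) := by
  have h1 := Matrix.det_eval_matrixOfPolynomials_eq_det_vandermonde
    (fun i : Fin n => (qint q (lam i) : ℂ)) (fun j : Fin n => pol q j.val)
    (fun j => pol_natDegree q j.val) (fun j => pol_monic q j.val)
  rw [Matrix.det_vandermonde] at h1
  have h2 : (Matrix.of fun i j : Fin n => (pol q j.val).eval ((qint q (lam i) : ℂ))) =
      Matrix.of fun i j : Fin n => (q : ℂ) ^ tri j.val *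
        (Matrix.of fun i j : Fin n => (qfall q (lam i) j.val : ℂ)) i j := by
    ext i j
    simp only [Matrix.of_apply]
    rw [pol_eval, entry_rel]
  rw [h2, Matrix.det_mul_row, Finset.prod_pow_eq_pow_sum,
    Fin.sum_univ_eq_sum_range (fun j => tri j) n, ← sum_tri] at h1
  rw [← h1]
  apply Finset.prod_congr rfl
  intro i _
  apply Finset.prod_congr
  · ext j
    simp
  · intro j _
    rfl

theorem fpc_one {G : Type*} [Group G] (H : Subgroup G) :
    Cfsg.fixedPointCharacter H 1 = (H.index : ℂ) := by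
  unfold Cfsg.fixedPointCharacter
  congr 1
  have : MulAction.fixedBy (G ⧸ H) (1 : G) = Set.univ := by
    ext x
    simp
  rw [this]
  exact Nat.card_congr (Equiv.Set.univ _)

theorem main {F : Type*} [Field F] [Fintype F] {q : ℕ} (hq : Fintype.card F = q) {n : ℕ}
    (ν : Fin n → ℕ) (hsum : ∑ i, ν i = n) :
    Cfsg.unipotentCharacterGL n F ν 1 * (q : ℂ) ^ (n * (n - 1) * (n - 2) / 6) *
        ∏ i : Fin n, ∏ j ∈ Finset.range (ν i + i.val), ((∑ l ∈ Finset.range (j + 1), q ^ l : ℕ) : ℂ) =
      (∏ j ∈ Finset.range n, ((∑ l ∈ Finset.range (j + 1), q ^ l : ℕ) : ℂ)) *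
        ∏ i : Fin n, ∏ j ∈ Finset.univ.filter (fun j : Fin n => i < j),
          (((∑ l ∈ Finset.range (ν j + j.val), q ^ l : ℕ) : ℂ) -
            ((∑ l ∈ Finset.range (ν i + i.val), q ^ l : ℕ) : ℂ)) := by
  classical
  obtain ⟨lam, hlam⟩ : ∃ lam : Fin n → ℕ, lam = fun i => ν i + i.val := ⟨_, rfl⟩
  have hlam' : ∀ i, ν i + i.val = lam i := fun i => by rw [hlam]
  -- rewrite the goal in terms of our functions
  have hL : ∏ i : Fin n, ∏ j ∈ Finset.range (ν i + i.val),
      ((∑ l ∈ Finset.range (j + 1), q ^ l : ℕ) : ℂ) = ∏ i : Fin n, (qfac q (lam i) : ℂ) := by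
    apply Finset.prod_congr rfl
    intro i _
    rw [hlam' i]
    unfold qfac
    rw [Nat.cast_prod]
  have hR1 : ∏ j ∈ Finset.range n, ((∑ l ∈ Finset.range (j + 1), q ^ l : ℕ) : ℂ) =
      (qfac q n : ℂ) := by
    unfold qfac
    rw [Nat.cast_prod]
  have hR2 : ∏ i : Fin n, ∏ j ∈ Finset.univ.filter (fun j : Fin n => i < j),
      (((∑ l ∈ Finset.range (ν j + j.val), q ^ l : ℕ) : ℂ) -
        ((∑ l ∈ Finset.range (ν i + i.val), q ^ l : ℕ) : ℂ)) =
      ∏ i : Fin n, ∏ j ∈ Finset.univ.filter (fun j : Fin n => i < j),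
        ((qint q (lam j) : ℂ) - (qint q (lam i) : ℂ)) := by
    apply Finset.prod_congr rfl
    intro i _
    apply Finset.prod_congr rfl
    intro j _
    rw [hlam' i, hlam' j]
    rfl
  rw [hL, hR1, hR2, ← det_eval]
  -- the terms
  have hterm : ∀ κ : Equiv.Perm (Fin n),
      (if ∀ i : Fin n, (κ i).val ≤ ν i + i.val then
        ((Equiv.Perm.sign κ : ℤ) : ℂ) *
          Cfsg.fixedPointCharacter (Cfsg.parabolicGL n F fun i => ν i + i.val - (κ i).val) 1
      else 0) * ∏ i : Fin n, (qfac q (lam i) : ℂ) =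
      (qfac q n : ℂ) * (((Equiv.Perm.sign κ : ℤ) : ℂ) *
        ∏ i : Fin n, (qfall q (lam i) (κ i).val : ℂ)) := by
    intro κ
    split_ifs with hok
    · have hμ : ∑ i : Fin n, (ν i + i.val - (κ i).val) = n := by
        have h1 : ∑ i : Fin n, (ν i + i.val - (κ i).val) + ∑ i : Fin n, (κ i).val =
            ∑ i : Fin n, (ν i + i.val) := by
          rw [← Finset.sum_add_distrib]
          apply Finset.sum_congr rfl
          intro i _
          exact Nat.sub_add_cancel (hok i)
        have h2 : ∑ i : Fin n, (κ i).val = ∑ i : Fin n, i.val :=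
          Equiv.sum_comp κ (fun i : Fin n => i.val)
        rw [Finset.sum_add_distrib, hsum] at h1
        omega
      have hidx := Cfsg.Agent.S2420.main hq (fun i => ν i + i.val - (κ i).val) hμ
      rw [fpc_one]
      have hnat : (Cfsg.parabolicGL n F fun i => ν i + i.val - (κ i).val).index *
          ∏ i : Fin n, qfac q (lam i) = qfac q n * ∏ i : Fin n, qfall q (lam i) (κ i).val := by
        have : ∀ i : Fin n, qfac q (lam i) =
            qfac q (ν i + i.val - (κ i).val) * qfall q (lam i) (κ i).val := by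
          intro i
          rw [← hlam' i]
          exact qfac_split q _ _ (hok i)
        rw [Finset.prod_congr rfl (fun i _ => this i), Finset.prod_mul_distrib, ← mul_assoc]
        congr 1
      have hc := congrArg (Nat.cast : ℕ → ℂ) hnat
      push_cast at hc
      rw [mul_assoc, hc]
      ring
    · push Not at hok
      obtain ⟨i, hi⟩ := hok
      rw [zero_mul]
      have : ∏ i : Fin n, (qfall q (lam i) (κ i).val : ℂ) = 0 := by
        apply Finset.prod_eq_zero (Finset.mem_univ i)
        rw [qfall_eq_zero q (lam i) (κ i).val (by rw [← hlam' i]; exact hi), Nat.cast_zero]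
      rw [this, mul_zero, mul_zero]
  unfold Cfsg.unipotentCharacterGL
  rw [mul_right_comm, Finset.sum_mul, Finset.sum_congr rfl (fun κ _ => hterm κ), ← Finset.mul_sum,
    mul_assoc]
  congr 1
  rw [mul_comm]
  congr 1
  rw [← Matrix.det_transpose, Matrix.det_apply']
  rfl

/-- Degrees of the partition-indexed irreducible characters of `GL_n(q)`: for `ν` a partition of `n` with `n` non-decreasing parts `ν_0 ≤ ⋯ ≤ ν_{n−1}` (zeros allowed; positions counted from 0) and `λ_i = ν_i + i`, write `Q(r)` for the q-integer `1 + q + ⋯ + q^(r−1)` and `Q!(r)` for `Q(1)Q(2)⋯Q(r)`; then the degree `γ(ν)` of the character satisfies `γ(ν) · q^(n(n−1)(n−2)/6) · ∏_i Q!(λ_i) = Q!(n) · ∏_{i<j} (Q(λ_j) − Q(λ_i))`. For `ν = (1,…,1)` this gives the Steinberg degree `q^(n(n−1)/2)`, for `ν = (0,…,0,n)` degree 1. -/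
theorem result {F : Type*} [Field F] [Fintype F] {q : ℕ} (hq : Fintype.card F = q) {n : ℕ} (ν : Fin n → ℕ) (hmono : Monotone ν) (hsum : ∑ i, ν i = n) :
    Cfsg.unipotentCharacterGL n F ν 1 * (q : ℂ) ^ (n * (n - 1) * (n - 2) / 6) *
        ∏ i : Fin n, ∏ j ∈ Finset.range (ν i + i.val), ((∑ l ∈ Finset.range (j + 1), q ^ l : ℕ) : ℂ) =
      (∏ j ∈ Finset.range n, ((∑ l ∈ Finset.range (j + 1), q ^ l : ℕ) : ℂ)) *
        ∏ i : Fin n, ∏ j ∈ Finset.univ.filter (fun j : Fin n => i < j),
          (((∑ l ∈ Finset.range (ν j + j.val), q ^ l : ℕ) : ℂ) - ((∑ l ∈ Finset.range (ν i + i.val), q ^ l : ℕ) : ℂ)) := by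
  exact main hq ν hsum

end Cfsg.Agent.S2424
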