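-- S2421 (helper6): the alternating sums of flag characters of `GL_n(q)` indexed by partitions are
-- irreducible characters: they are generalized characters of norm one (Lib/Helper6/GLUniA: Bruhat double
-- cosets = contingency tables, Jacobi–Trudi identity) and have positive degree (S2424).
import Mathlib
import Cfsg.Statements.S2421
import Cfsg.Agent.S2424
import Cfsg.Agent.Lib.Helper6.GLUniA

set_option autoImplicit false
open scoped MatrixGroups
open Cfsg

namespace Cfsg.Agent.S2421

open Cfsg.Agent.Lib.Helper6.GLUni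

/-- the q-integer -/
def Q (q m : ℕ) : ℕ := ∑ l ∈ Finset.range m, q ^ l

theorem Q_pos {q : ℕ} (hq : 1 ≤ q) (m : ℕ) : 0 < Q q (m + 1) := by
  unfold Q
  rw [Finset.sum_range_succ]
  have : 0 < q ^ m := Nat.pow_pos hq
  omega

theorem Q_strictMono {q : ℕ} (hq : 1 ≤ q) : StrictMono (Q q) := by
  apply strictMono_nat_of_lt_succ
  intro m
  unfold Q
  rw [Finset.sum_range_succ]
  have : 0 < q ^ m := Nat.pow_pos hq
  omega

/-- the degree of the alternating sum is not the negative of a natural number -/
theorem degree_ne_neg {F : Type*} [Field F] [Fintype F] {n : ℕ} (ν : Fin n → ℕ) (hmono : Monotone ν)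
    (hsum : ∑ i, ν i = n) (d : ℕ) (hd : Cfsg.unipotentCharacterGL n F ν 1 = -(d : ℂ)) : False := by
  classical
  set q := Fintype.card F with hq
  have hq1 : 1 ≤ q := Fintype.card_pos
  have h := Cfsg.Agent.S2424.result (F := F) (q := q) rfl ν hmono hsum
  -- the left factor
  have hA : (q : ℂ) ^ (n * (n - 1) * (n - 2) / 6) *
        ∏ i : Fin n, ∏ j ∈ Finset.range (ν i + i.val), ((∑ l ∈ Finset.range (j + 1), q ^ l : ℕ) : ℂ) =
      ((q ^ (n * (n - 1) * (n - 2) / 6) *
        ∏ i : Fin n, ∏ j ∈ Finset.range (ν i + i.val), Q q (j + 1) : ℕ) : ℂ) := by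
    rw [Nat.cast_mul, Nat.cast_pow, Nat.cast_prod]
    congr 1
    apply Finset.prod_congr rfl
    intro i _
    rw [Nat.cast_prod]
    rfl
  have hApos : 0 < q ^ (n * (n - 1) * (n - 2) / 6) *
        ∏ i : Fin n, ∏ j ∈ Finset.range (ν i + i.val), Q q (j + 1) := by
    apply Nat.mul_pos (Nat.pow_pos hq1)
    apply Finset.prod_pos
    intro i _
    apply Finset.prod_pos
    intro j _
    exact Q_pos hq1 j
  -- the right hand side
  have hB : (∏ j ∈ Finset.range n, ((∑ l ∈ Finset.range (j + 1), q ^ l : ℕ) : ℂ)) *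
        ∏ i : Fin n, ∏ j ∈ Finset.univ.filter (fun j : Fin n => i < j),
          (((∑ l ∈ Finset.range (ν j + j.val), q ^ l : ℕ) : ℂ) -
            ((∑ l ∈ Finset.range (ν i + i.val), q ^ l : ℕ) : ℂ)) =
      (((∏ j ∈ Finset.range n, Q q (j + 1)) *
        ∏ i : Fin n, ∏ j ∈ Finset.univ.filter (fun j : Fin n => i < j),
          (Q q (ν j + j.val) - Q q (ν i + i.val)) : ℕ) : ℂ) := by
    rw [Nat.cast_mul, Nat.cast_prod, Nat.cast_prod]
    congr 1
    apply Finset.prod_congr rfl
    intro i _
    rw [Nat.cast_prod]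
    apply Finset.prod_congr rfl
    intro j hj
    rw [Finset.mem_filter] at hj
    have hlt : ν i + i.val < ν j + j.val := shift_strictMono hmono hj.2
    rw [Nat.cast_sub ((Q_strictMono hq1).monotone hlt.le)]
    rfl
  have hBpos : 0 < (∏ j ∈ Finset.range n, Q q (j + 1)) *
        ∏ i : Fin n, ∏ j ∈ Finset.univ.filter (fun j : Fin n => i < j),
          (Q q (ν j + j.val) - Q q (ν i + i.val)) := by
    apply Nat.mul_pos
    · apply Finset.prod_pos
      intro j _
      exact Q_pos hq1 j
    · apply Finset.prod_pos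
      intro i _
      apply Finset.prod_pos
      intro j hj
      rw [Finset.mem_filter] at hj
      have hlt : ν i + i.val < ν j + j.val := shift_strictMono hmono hj.2
      have := Q_strictMono hq1 hlt
      omega
  rw [mul_assoc, hA, hB, hd] at h
  set a := q ^ (n * (n - 1) * (n - 2) / 6) *
        ∏ i : Fin n, ∏ j ∈ Finset.range (ν i + i.val), Q q (j + 1) with ha
  set b := (∏ j ∈ Finset.range n, Q q (j + 1)) *
        ∏ i : Fin n, ∏ j ∈ Finset.univ.filter (fun j : Fin n => i < j),
          (Q q (ν j + j.val) - Q q (ν i + i.val)) with hb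
  have h' : ((d * a + b : ℕ) : ℂ) = 0 := by
    push_cast
    rw [← h]
    ring
  have h'' : d * a + b = 0 := by exact_mod_cast h'
  omega

/-- Irreducible characters of `GL_n(q)` indexed by partitions: for `ν` a partition of `n` written with `n` non-decreasing parts `ν_0 ≤ ⋯ ≤ ν_{n−1}` (zeros allowed; positions counted from 0) and `λ_i = ν_i + i`, the alternating sum over permutations `κ` of `{0, …, n−1}` of `sign κ` times the permutation character on partial flags of type `λ − κ` (terms with a negative entry omitted) is an irreducible complex character of `GL_n(q)`. For `ν = (1, …, 1)` this is the Steinberg character. -/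
theorem result {F : Type*} [Field F] [Fintype F] {n : ℕ} (ν : Fin n → ℕ) (hmono : Monotone ν) (hsum : ∑ i, ν i = n) :
    Cfsg.IsIrrCharacter (GL (Fin n) F) (Cfsg.unipotentCharacterGL n F ν) := by
  classical
  obtain ⟨ε, hε, hirr⟩ := Cfsg.Agent.Lib.Helper10.genChar_norm_one
    (isGeneralizedCharacter_unipotent (F := F) ν)
    (by rw [classInner_unipotent (F := F) hmono hsum hmono hsum, if_pos rfl])
  rcases hε with rfl | rfl
  · rwa [one_smul] at hirr
  · exfalso
    obtain ⟨d, _, h1⟩ := Cfsg.Agent.CharLib.IsIrrCharacter.apply_one_pos hirr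
    have h3 : ((-1 : ℂ) • Cfsg.unipotentCharacterGL n F ν) 1 = -Cfsg.unipotentCharacterGL n F ν 1 := by
      simp
    rw [h3] at h1
    exact degree_ne_neg ν hmono hsum d (by rw [← h1, neg_neg])

end Cfsg.Agent.S2421
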