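import Cfsg.Statements.S1563
-- import your own Cfsg.Agent.* helpers here
import Cfsg.Agent.Lib.Helper3.Golay.M24List
import Cfsg.Agent.Lib.Helper3.Golay.Maximal

set_option autoImplicit false
open scoped Pointwise
open Cfsg

namespace Cfsg.Agent.S1563

open scoped Pointwise
open Cfsg.Agent.Lib.Helper3.Golay

/-- the base duad -/
def s0 : Finset GolayPt := {pt 0, pt 1}

/-- class of a duad relative to a duad `s` -/
def cls63 (s y : Finset GolayPt) : ℕ := if y = s then 0 else 2 - (s ∩ y).card

theorem cnt63 : ∀ i ≤ 2, (((Finset.univ : Finset GolayPt).powersetCard 2).filter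
    (fun y => cls63 s0 y = i)).card = [1, 44, 231].getD i 0 := by
  decide +kernel

theorem arith63 : ∀ I ⊆ Finset.range (2 + 1), 0 ∈ I → (∀ i ∈ I, [1, 44, 231].getD i 0 ≠ 0) →
    (∑ i ∈ I, [1, 44, 231].getD i 0) ∣ 276 →
    I = {0} ∨ ∀ i ≤ 2, [1, 44, 231].getD i 0 ≠ 0 → i ∈ I := by
  decide

theorem card_filter_smul (g : Equiv.Perm GolayPt) (k : ℕ) (P : Finset GolayPt → Prop) [DecidablePred P] :
    (((Finset.univ : Finset GolayPt).powersetCard k).filter (fun y => P (g⁻¹ • y))).card =
      (((Finset.univ : Finset GolayPt).powersetCard k).filter P).card := by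
  apply Finset.card_bij (fun y _ => g⁻¹ • y)
  · intro y hy
    rw [Finset.mem_filter, Finset.mem_powersetCard] at hy ⊢
    exact ⟨⟨Finset.subset_univ _, by rw [Finset.card_smul_finset]; exact hy.1.2⟩, hy.2⟩
  · intro y _ y' _ h
    exact smul_left_cancel _ h
  · intro z hz
    rw [Finset.mem_filter, Finset.mem_powersetCard] at hz
    refine ⟨g • z, ?_, inv_smul_smul g z⟩
    rw [Finset.mem_filter, Finset.mem_powersetCard]
    exact ⟨⟨Finset.subset_univ _, by rw [Finset.card_smul_finset]; exact hz.1.2⟩,
      by rw [inv_smul_smul]; exact hz.2⟩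

theorem cls63_smul (g : Equiv.Perm GolayPt) (s y : Finset GolayPt) :
    cls63 (g • s) y = cls63 s (g⁻¹ • y) := by
  unfold cls63
  have h1 : (y = g • s) ↔ (g⁻¹ • y = s) := by
    constructor
    · rintro rfl; exact inv_smul_smul g s
    · rintro rfl; exact (smul_inv_smul g y).symm
  have h2 : (g • s ∩ y).card = (s ∩ g⁻¹ • y).card := by
    rw [← Finset.card_smul_finset g⁻¹ (g • s ∩ y), Finset.smul_finset_inter, inv_smul_smul]
  simp only [h1, h2]

theorem cls63_zero {s y : Finset GolayPt} (hs : s.card = 2) (hy : y.card = 2) :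
    cls63 s y = 0 ↔ y = s := by
  unfold cls63
  constructor
  · intro h
    by_contra hne
    rw [if_neg hne] at h
    have h1 : 2 ≤ (s ∩ y).card := by omega
    have h2 : s ∩ y = s := Finset.eq_of_subset_of_card_le Finset.inter_subset_left (by omega)
    have h3 : s ∩ y = y := Finset.eq_of_subset_of_card_le Finset.inter_subset_right (by omega)
    exact hne (h3.symm.trans h2)
  · intro h
    rw [if_pos h]

/-- The stabiliser of a pair of points (setwise) is a maximal proper subgroup of the group of the length-24 code. -/
theorem result (s : Finset Cfsg.GolayPt) (hs : s.card = 2) : IsCoatom (MulAction.stabilizer Cfsg.M24 s) := by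
  classical
  obtain ⟨g, hg, rfl⟩ := exists_map_finset s0 s (by rw [hs]; rfl) (by decide)
  have hcardΩ : ((Finset.univ : Finset GolayPt).powersetCard 2).card = 276 := by
    rw [Finset.card_powersetCard, Finset.card_univ, card_pts]; rfl
  apply isCoatom_stabilizer_of_suborbits (G := ↥M24) (g • s0) ((Finset.univ : Finset GolayPt).powersetCard 2)
    (fun y => by
      rw [Finset.mem_powersetCard]
      constructor
      · rintro ⟨-, hy⟩
        obtain ⟨h, hh, hhy⟩ := exists_map_finset (g • s0) y (by rw [hs, hy]) (by rw [hs]; norm_num)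
        exact ⟨⟨h, hh⟩, hhy⟩
      · rintro ⟨h, rfl⟩
        refine ⟨Finset.subset_univ _, ?_⟩
        show (h.1 • g • s0).card = 2
        rw [Finset.card_smul_finset]
        exact hs)
    (cls63 (g • s0)) 2 (fun i => [1, 44, 231].getD i 0)
  · intro y hy
    rw [Finset.mem_powersetCard] at hy
    exact cls63_zero hs hy.2
  · intro y _
    unfold cls63
    split_ifs <;> omega
  · intro i hi
    have : (((Finset.univ : Finset GolayPt).powersetCard 2).filter (fun y => cls63 (g • s0) y = i)) =
        (((Finset.univ : Finset GolayPt).powersetCard 2).filter (fun y => cls63 s0 (g⁻¹ • y) = i)) := by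
      apply Finset.filter_congr
      intro y _
      rw [cls63_smul]
    rw [this, card_filter_smul g 2 (fun z => cls63 s0 z = i)]
    exact cnt63 i hi
  · intro y hy y' hy' hc
    rw [Finset.mem_powersetCard] at hy hy'
    by_cases h : y = g • s0
    · have h' : y' = g • s0 := by
        rw [← cls63_zero hs hy'.2, ← hc, cls63_zero hs hy.2]; exact h
      exact ⟨1, Subgroup.one_mem _, by rw [one_smul, h, h']⟩
    · have h' : y' ≠ g • s0 := by
        intro h'
        apply h
        rw [← cls63_zero hs hy.2, hc, cls63_zero hs hy'.2]; exact h'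
      have e1 : (g • s0 ∩ y).card ≤ 1 := by
        by_contra hcon
        apply h
        rw [← cls63_zero hs hy.2]
        unfold cls63
        rw [if_neg h]; omega
      have e1' : (g • s0 ∩ y').card ≤ 1 := by
        by_contra hcon
        apply h'
        rw [← cls63_zero hs hy'.2]
        unfold cls63
        rw [if_neg h']; omega
      have e2 : (g • s0 ∩ y).card = (g • s0 ∩ y').card := by
        unfold cls63 at hc
        rw [if_neg h, if_neg h'] at hc
        omega
      have a1 := Finset.card_sdiff_add_card_inter (g • s0) y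
      have a2 := Finset.card_sdiff_add_card_inter (g • s0) y'
      have a3 := Finset.card_sdiff_add_card_inter y (g • s0)
      have a4 := Finset.card_sdiff_add_card_inter y' (g • s0)
      rw [Finset.inter_comm y] at a3
      rw [Finset.inter_comm y'] at a4
      obtain ⟨k, hk, hks, hky⟩ := exists_map_rel (g • s0) y y' e2 (by omega) (by omega) (by omega)
      exact ⟨⟨k, hk⟩, hks, hky⟩
  · rw [hcardΩ]; exact arith63
  · rw [hcardΩ]; norm_num

end Cfsg.Agent.S1563
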