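import Cfsg.Statements.S1564
-- import your own Cfsg.Agent.* helpers here
import Cfsg.Agent.S1562
import Cfsg.Agent.S1563
import Cfsg.Agent.Lib.Helper3.Golay.M24List
import Cfsg.Agent.Lib.Helper3.Golay.Maximal

set_option autoImplicit false
open scoped Pointwise
open Cfsg

namespace Cfsg.Agent.S1564

open scoped Pointwise
open Cfsg.Agent.Lib.Helper3.Golay

/-- the base triad -/
def t0 : Finset GolayPt := {pt 0, pt 1, pt 2}

/-- combinatorial class of a triad relative to a triad `s` -/
def cmb (s y : Finset GolayPt) : ℕ := if y = s then 0 else 3 - (s ∩ y).card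

theorem cnt64 : ∀ i ≤ 2, (((Finset.univ : Finset GolayPt).powersetCard 3).filter
    (fun y => cmb t0 y = i)).card = [1, 63, 630].getD i 0 := by
  decide +kernel

theorem arith64 : ∀ I ⊆ Finset.range (4 + 1), 0 ∈ I → (∀ i ∈ I, [1, 63, 630, 210, 1120].getD i 0 ≠ 0) →
    (∑ i ∈ I, [1, 63, 630, 210, 1120].getD i 0) ∣ 2024 →
    I = {0} ∨ ∀ i ≤ 4, [1, 63, 630, 210, 1120].getD i 0 ≠ 0 → i ∈ I := by
  decide

theorem cmb_smul (g : Equiv.Perm GolayPt) (s y : Finset GolayPt) :
    cmb (g • s) y = cmb s (g⁻¹ • y) := by
  unfold cmb
  have h1 : (y = g • s) ↔ (g⁻¹ • y = s) := by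
    constructor
    · rintro rfl; exact inv_smul_smul g s
    · rintro rfl; exact (smul_inv_smul g y).symm
  have h2 : (g • s ∩ y).card = (s ∩ g⁻¹ • y).card := by
    rw [← Finset.card_smul_finset g⁻¹ (g • s ∩ y), Finset.smul_finset_inter, inv_smul_smul]
  simp only [h1, h2]

theorem cmb_zero {s y : Finset GolayPt} (hs : s.card = 3) (hy : y.card = 3) :
    cmb s y = 0 ↔ y = s := by
  unfold cmb
  constructor
  · intro h
    by_contra hne
    rw [if_neg hne] at h
    have h1 : 3 ≤ (s ∩ y).card := by omega
    have h2 : s ∩ y = s := Finset.eq_of_subset_of_card_le Finset.inter_subset_left (by omega)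
    have h3 : s ∩ y = y := Finset.eq_of_subset_of_card_le Finset.inter_subset_right (by omega)
    exact hne (h3.symm.trans h2)
  · intro h
    rw [if_pos h]

theorem cmb_three {s y : Finset GolayPt} (hs : s.card = 3) :
    cmb s y = 3 ↔ Disjoint s y := by
  unfold cmb
  constructor
  · intro h
    by_cases hys : y = s
    · rw [if_pos hys] at h; omega
    · rw [if_neg hys] at h
      have : (s ∩ y).card = 0 := by omega
      rw [Finset.card_eq_zero] at this
      exact Finset.disjoint_iff_inter_eq_empty.mpr this
  · intro h
    have hne : y ≠ s := by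
      rintro rfl
      rw [disjoint_self, Finset.bot_eq_empty] at h
      rw [h] at hs; simp at hs
    rw [if_neg hne, Finset.disjoint_iff_inter_eq_empty.mp h]
    rfl

theorem cmb_le (s y : Finset GolayPt) : cmb s y ≤ 3 := by
  unfold cmb; split_ifs <;> omega

open Classical in
/-- class of a triad relative to a triad `s` -/
noncomputable def cls64 (s y : Finset GolayPt) : ℕ :=
  if cmb s y = 3 then (if ∃ o ∈ octads, s ∪ y ⊆ o then 3 else 4) else cmb s y

theorem cls64_lt {s y : Finset GolayPt} {i : ℕ} (hi : i ≤ 2) : cls64 s y = i ↔ cmb s y = i := by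
  unfold cls64
  have := cmb_le s y
  split_ifs <;> omega

theorem cls64_three {s y : Finset GolayPt} (hs : s.card = 3) :
    cls64 s y = 3 ↔ Disjoint s y ∧ ∃ o ∈ octads, s ∪ y ⊆ o := by
  unfold cls64
  rw [← cmb_three hs]
  have := cmb_le s y
  split_ifs with h1 h2
  · simp [h1, h2]
  · simp [h1, h2]
  · constructor
    · intro h; exact absurd h h1
    · intro h; exact absurd h.1 h1

theorem cls64_four {s y : Finset GolayPt} (hs : s.card = 3) :
    cls64 s y = 4 ↔ Disjoint s y ∧ ¬ ∃ o ∈ octads, s ∪ y ⊆ o := by
  unfold cls64
  rw [← cmb_three hs]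
  have := cmb_le s y
  split_ifs with h1 h2
  · simp [h1, h2]
  · simp [h1, h2]
  · constructor
    · intro h; omega
    · intro h; exact absurd h.1 h1

/-- The stabiliser of a set of three points (setwise) is a maximal proper subgroup of the group of the length-24 code. -/
theorem result (s : Finset Cfsg.GolayPt) (hs : s.card = 3) : IsCoatom (MulAction.stabilizer Cfsg.M24 s) := by
  classical
  obtain ⟨h210, h1120, htr⟩ := Cfsg.Agent.S1562.result s hs
  have hcardΩ : ((Finset.univ : Finset GolayPt).powersetCard 3).card = 2024 := by
    rw [Finset.card_powersetCard, Finset.card_univ, card_pts]; rfl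
  apply isCoatom_stabilizer_of_suborbits (G := ↥M24) s ((Finset.univ : Finset GolayPt).powersetCard 3)
    (fun y => by
      rw [Finset.mem_powersetCard]
      constructor
      · rintro ⟨-, hy⟩
        obtain ⟨h, hh, hhy⟩ := exists_map_finset s y (by rw [hs, hy]) (by rw [hs]; norm_num)
        exact ⟨⟨h, hh⟩, hhy⟩
      · rintro ⟨h, rfl⟩
        refine ⟨Finset.subset_univ _, ?_⟩
        show (h.1 • s).card = 3
        rw [Finset.card_smul_finset]
        exact hs)
    (cls64 s) 4 (fun i => [1, 63, 630, 210, 1120].getD i 0)
  · intro y hy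
    rw [Finset.mem_powersetCard] at hy
    rw [cls64_lt (by norm_num)]
    exact cmb_zero hs hy.2
  · intro y _
    unfold cls64
    have := cmb_le s y
    split_ifs <;> omega
  · intro i hi
    obtain ⟨g, hg, hgs⟩ := exists_map_finset t0 s (by rw [hs]; rfl) (by decide)
    have hlow : ∀ j ≤ 2, (((Finset.univ : Finset GolayPt).powersetCard 3).filter
        (fun y => cls64 s y = j)).card = [1, 63, 630].getD j 0 := by
      intro j hj
      have : (((Finset.univ : Finset GolayPt).powersetCard 3).filter (fun y => cls64 s y = j)) =
          (((Finset.univ : Finset GolayPt).powersetCard 3).filter (fun y => cmb t0 (g⁻¹ • y) = j)) := by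
        apply Finset.filter_congr
        intro y _
        rw [cls64_lt hj, ← hgs, cmb_smul]
      rw [this, Cfsg.Agent.S1563.card_filter_smul g 3 (fun z => cmb t0 z = j)]
      exact cnt64 j hj
    have h3 : (((Finset.univ : Finset GolayPt).powersetCard 3).filter
        (fun y => cls64 s y = 3)).card = 210 := by
      rw [← h210, ← Set.ncard_coe_finset]
      congr 1
      ext y
      simp only [Finset.coe_filter, Finset.mem_powersetCard, Finset.subset_univ, true_and,
        Set.mem_ofPred_eq]
      rw [cls64_three hs]
    have h4 : (((Finset.univ : Finset GolayPt).powersetCard 3).filter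
        (fun y => cls64 s y = 4)).card = 1120 := by
      rw [← h1120, ← Set.ncard_coe_finset]
      congr 1
      ext y
      simp only [Finset.coe_filter, Finset.mem_powersetCard, Finset.subset_univ, true_and,
        Set.mem_ofPred_eq]
      rw [cls64_four hs]
    interval_cases i
    · exact hlow 0 (by norm_num)
    · exact hlow 1 (by norm_num)
    · exact hlow 2 (by norm_num)
    · exact h3
    · exact h4
  · intro y hy y' hy' hc
    rw [Finset.mem_powersetCard] at hy hy'
    by_cases hlt : cls64 s y ≤ 2
    · -- combinatorial classes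
      have e1 : cmb s y = cls64 s y := ((cls64_lt hlt).mp rfl)
      have e2 : cmb s y' = cls64 s y := ((cls64_lt hlt).mp hc.symm)
      by_cases h : y = s
      · have h' : y' = s := by
          rw [← cmb_zero hs hy'.2, e2, ← e1, cmb_zero hs hy.2]; exact h
        exact ⟨1, Subgroup.one_mem _, by rw [one_smul, h, h']⟩
      · have h' : y' ≠ s := by
          intro h'
          apply h
          rw [← cmb_zero hs hy.2, e1, ← e2, cmb_zero hs hy'.2]; exact h'
        have e3 : (s ∩ y).card = (s ∩ y').card := by
          have := e1.trans e2.symm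
          unfold cmb at this e1
          rw [if_neg h, if_neg h'] at this
          rw [if_neg h] at e1
          have b1 : (s ∩ y).card ≤ 3 := hs ▸ Finset.card_le_card Finset.inter_subset_left
          have b2 : (s ∩ y').card ≤ 3 := hs ▸ Finset.card_le_card Finset.inter_subset_left
          omega
        have e4 : 1 ≤ (s ∩ y).card := by
          unfold cmb at e1
          rw [if_neg h] at e1
          omega
        have a1 := Finset.card_sdiff_add_card_inter s y
        have a2 := Finset.card_sdiff_add_card_inter s y'
        have a3 := Finset.card_sdiff_add_card_inter y s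
        have a4 := Finset.card_sdiff_add_card_inter y' s
        rw [Finset.inter_comm y] at a3
        rw [Finset.inter_comm y'] at a4
        obtain ⟨k, hk, hks, hky⟩ := exists_map_rel s y y' e3 (by omega) (by omega) (by omega)
        exact ⟨⟨k, hk⟩, hks, hky⟩
    · -- disjoint triads
      have hcl : cls64 s y = 3 ∨ cls64 s y = 4 := by
        have : cls64 s y ≤ 4 := by
          unfold cls64
          have := cmb_le s y
          split_ifs <;> omega
        omega
      have hdy : Disjoint s y := by
        rcases hcl with h | h
        · exact ((cls64_three hs).mp h).1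
        · exact ((cls64_four hs).mp h).1
      have hdy' : Disjoint s y' := by
        rcases hcl with h | h
        · exact ((cls64_three hs).mp (hc ▸ h)).1
        · exact ((cls64_four hs).mp (hc ▸ h)).1
      have hiff : (∃ o ∈ octads, s ∪ y ⊆ o) ↔ (∃ o ∈ octads, s ∪ y' ⊆ o) := by
        rcases hcl with h | h
        · have h' : cls64 s y' = 3 := hc ▸ h
          exact iff_of_true ((cls64_three hs).mp h).2 ((cls64_three hs).mp h').2
        · have h' : cls64 s y' = 4 := hc ▸ h
          exact iff_of_false ((cls64_four hs).mp h).2 ((cls64_four hs).mp h').2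
      obtain ⟨k, hk, hks, hky⟩ := htr y y' hy.2 hy'.2 hdy hdy' hiff
      exact ⟨⟨k, hk⟩, hks, hky⟩
  · rw [hcardΩ]; exact arith64
  · rw [hcardΩ]; norm_num

end Cfsg.Agent.S1564
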