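import Cfsg.Statements.S5646
import Mathlib
import Cfsg.Agent.Lib.Helper5.SpMax

set_option autoImplicit false
open Cfsg

namespace Cfsg.Agent.S5646

section Aux
set_option linter.unusedSectionVars false
set_option linter.unusedVariables false
set_option linter.unusedSimpArgs false

namespace S5646aux
open Cfsg Matrix Cfsg.Agent.Lib.Helper5 Cfsg.Agent.Lib.Helper5.SpMax

section Nondeg
variable {F : Type*} [Field F] {m : ℕ} (W : Submodule F (Fin m ⊕ Fin m → F))
  (hW : Cfsg.Geo.IsNondegenerateOn (sympForm m F) W)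
include hW

lemma nd : ∀ x ∈ W, x ≠ 0 → ∃ a ∈ W, sympForm m F x a ≠ 0 :=
  fun x hx hx0 => (hW x hx hx0).2

lemma inf_perp {a : Fin m ⊕ Fin m → F} (ha : a ∈ W) (ha' : a ∈ perp W) : a = 0 := by
  by_contra h
  obtain ⟨x, hxW, hx⟩ := (hW a ha h).2
  exact hx (ha' x hxW)

lemma perp_nd : ∀ b ∈ perp W, b ≠ 0 → ∃ b' ∈ perp W, sympForm m F b b' ≠ 0 := by
  intro b hb hb0
  obtain ⟨z, hz⟩ := sympForm_nondeg b hb0
  obtain ⟨a, haW, hza⟩ := exists_decomp W (nd W hW) z
  refine ⟨z - a, hza, ?_⟩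
  rw [sympForm_sub_right, hb a haW, sub_zero]
  exact hz

lemma exists_move {a a' b b' : Fin m ⊕ Fin m → F} (ha : a ∈ W) (ha0 : a ≠ 0) (ha' : a' ∈ W)
    (ha'0 : a' ≠ 0) (hb : b ∈ perp W) (hb0 : b ≠ 0) (hb' : b' ∈ perp W) (hb'0 : b' ≠ 0) :
    ∃ h ∈ Cfsg.Geo.subspaceStabilizer W ⊓ spGL m F,
      (h : Matrix (Fin m ⊕ Fin m) (Fin m ⊕ Fin m) F) *ᵥ (a' + b') = a + b := by
  obtain ⟨A, hA, hAa⟩ := transvIn_trans1 W (nd W hW) a' a ha' ha ha'0 ha0
  have hAb : (A : Matrix (Fin m ⊕ Fin m) (Fin m ⊕ Fin m) F) *ᵥ b' = b' :=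
    transvGroupIn_fixes W A hA b' hb'
  obtain ⟨B, hB, hBb⟩ := transvIn_trans1 (perp W) (perp_nd W hW) b' b hb' hb hb'0 hb0
  have hBa : (B : Matrix (Fin m ⊕ Fin m) (Fin m ⊕ Fin m) F) *ᵥ a = a :=
    transvGroupIn_fixes (perp W) B hB a (fun w hw => by rw [sympForm_swap, hw a ha, neg_zero])
  obtain ⟨y, hy, hyA⟩ := closure_lift (Cfsg.Geo.subspaceStabilizer W ⊓ spGL m F) W
    (fun a ha c => ⟨tvc_mem_stab_of_mem ha c, tvc_mem a c⟩) A hA
  obtain ⟨z, hz, hzB⟩ := closure_lift (Cfsg.Geo.subspaceStabilizer W ⊓ spGL m F) (perp W)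
    (fun a ha c => ⟨tvc_mem_stab_of_perp ha c, tvc_mem a c⟩) B hB
  refine ⟨z * y, mul_mem hz hy, ?_⟩
  rw [Units.val_mul, ← Matrix.mulVec_mulVec, hyA, hzB, Matrix.mulVec_add, hAa, hAb,
    Matrix.mulVec_add, hBa, hBb]

lemma finrank_add_perp : Module.finrank F W + Module.finrank F (perp W) = 2 * m := by
  have hc : IsCompl W (perp W) := by
    refine IsCompl.of_eq ?_ ?_
    · rw [eq_bot_iff]
      intro x hx
      rw [Submodule.mem_inf] at hx
      rw [Submodule.mem_bot]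
      exact inf_perp W hW hx.1 hx.2
    · rw [eq_top_iff]
      intro v _
      obtain ⟨a, ha, hva⟩ := exists_decomp W (nd W hW) v
      have : v = a + (v - a) := by abel
      rw [this]
      exact Submodule.add_mem_sup ha hva
  have := Submodule.finrank_add_eq_of_isCompl hc
  rw [this, Module.finrank_fintype_fun_eq_card, Fintype.card_sum, Fintype.card_fin]
  ring

lemma exists_mixed (hW0 : W ≠ ⊥) (hdim : Module.finrank F W < m) {g : GL (Fin m ⊕ Fin m) F}
    (hg : g ∉ Cfsg.Geo.subspaceStabilizer W) :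
    ∃ s, (s ∈ W ∨ s ∈ perp W) ∧ (g : Matrix (Fin m ⊕ Fin m) (Fin m ⊕ Fin m) F) *ᵥ s ∉ W ∧
      (g : Matrix (Fin m ⊕ Fin m) (Fin m ⊕ Fin m) F) *ᵥ s ∉ perp W := by
  by_contra hcon
  have hU : ∀ s, (s ∈ W ∨ s ∈ perp W) →
      ((g : Matrix (Fin m ⊕ Fin m) (Fin m ⊕ Fin m) F) *ᵥ s ∈ W ∨
        (g : Matrix (Fin m ⊕ Fin m) (Fin m ⊕ Fin m) F) *ᵥ s ∈ perp W) := by
    intro s hs
    by_contra h
    push Not at h
    exact hcon ⟨s, hs, h.1, h.2⟩
  rcases sub_union W (perp W) W (g : Matrix (Fin m ⊕ Fin m) (Fin m ⊕ Fin m) F)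
    (fun z hz => hU z (Or.inl hz)) with hA | hA
  · exact hg (mem_stab_of_maps_le hA)
  · rcases sub_union W (perp W) (perp W) (g : Matrix (Fin m ⊕ Fin m) (Fin m ⊕ Fin m) F)
      (fun z hz => hU z (Or.inr hz)) with hB | hB
    · have h1 := finrank_le_of_maps hA
      have h2 := finrank_le_of_maps hB
      have h3 := finrank_add_perp W hW
      omega
    · have hall : ∀ v, (g : Matrix (Fin m ⊕ Fin m) (Fin m ⊕ Fin m) F) *ᵥ v ∈ perp W := by
        intro v
        obtain ⟨a, ha, hva⟩ := exists_decomp W (nd W hW) v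
        have : v = a + (v - a) := by abel
        rw [this, Matrix.mulVec_add]
        exact (perp W).add_mem (hA a ha) (hB _ hva)
      obtain ⟨w, hw, hw0⟩ := (Submodule.ne_bot_iff W).mp hW0
      have : w ∈ perp W := by
        have := hall (((g⁻¹ : GL (Fin m ⊕ Fin m) F) : Matrix (Fin m ⊕ Fin m) (Fin m ⊕ Fin m) F) *ᵥ w)
        rwa [mul_inv_mulVec] at this
      exact hw0 (inf_perp W hW hw this)

theorem main (hW0 : W ≠ ⊥) (hdim : Module.finrank F W < m) :
    Cfsg.Geo.IsMaximalIn (spGL m F) (Cfsg.Geo.subspaceStabilizer W ⊓ spGL m F) := by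
  refine ⟨?_, ?_⟩
  · -- strictness
    rw [lt_iff_le_and_ne]
    refine ⟨inf_le_right, fun h => ?_⟩
    obtain ⟨a, haW, ha0⟩ := (Submodule.ne_bot_iff W).mp hW0
    obtain ⟨v, hv⟩ : ∃ v, v ∉ W := by
      by_contra hcon
      push Not at hcon
      have htop : W = ⊤ := eq_top_iff.mpr fun x _ => hcon x
      have h3 := finrank_add_perp W hW
      rw [htop, finrank_top, Module.finrank_fintype_fun_eq_card, Fintype.card_sum,
        Fintype.card_fin] at hdim
      omega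
    obtain ⟨a₁, ha₁, hb⟩ := exists_decomp W (nd W hW) v
    have hb0 : v - a₁ ≠ 0 := by
      intro h
      apply hv
      rw [sub_eq_zero.mp h]
      exact ha₁
    obtain ⟨w, hwW, hw⟩ := (hW a haW ha0).1
    have hT : tvc (a + (v - a₁)) 1 ∈ Cfsg.Geo.subspaceStabilizer W ⊓ spGL m F := by
      rw [h]; exact tvc_mem _ _
    have h1 := (mem_stab.mp hT.1 w).mp hwW
    rw [tvc_mulVec, one_mul, sympForm_add_right] at h1
    have h2 : sympForm m F w (v - a₁) = 0 := by rw [sympForm_swap, hb w hwW, neg_zero]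
    rw [h2, add_zero, W.add_mem_iff_right hwW] at h1
    have h3 : a + (v - a₁) ∈ W := by
      have := W.smul_mem (sympForm m F w a)⁻¹ h1
      rwa [smul_smul, inv_mul_cancel₀ hw, one_smul] at this
    have h4 : v - a₁ ∈ W := (W.add_mem_iff_right haW).mp h3
    exact hb0 (inf_perp W hW h4 hb)
  · intro M hHM hMS
    by_cases hMH : M = Cfsg.Geo.subspaceStabilizer W ⊓ spGL m F
    · left; exact hMH
    right
    apply le_antisymm hMS
    obtain ⟨g, hgM, hgH⟩ : ∃ g ∈ M, g ∉ Cfsg.Geo.subspaceStabilizer W ⊓ spGL m F := by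
      by_contra hcon
      push Not at hcon
      exact hMH (le_antisymm hcon hHM)
    have hgS : g ∉ Cfsg.Geo.subspaceStabilizer W := fun h => hgH ⟨h, hMS hgM⟩
    obtain ⟨s, hs, hs1, hs2⟩ := exists_mixed W hW hW0 hdim hgS
    have hsS : s ∈ Sset M := by
      intro c
      rcases hs with hs | hs
      · exact hHM ⟨tvc_mem_stab_of_mem hs c, tvc_mem s c⟩
      · exact hHM ⟨tvc_mem_stab_of_perp hs c, tvc_mem s c⟩
    have hgsS := Sset_mulVec_mem hMS hgM hsS
    obtain ⟨a', ha', hb'⟩ := exists_decomp W (nd W hW)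
      ((g : Matrix (Fin m ⊕ Fin m) (Fin m ⊕ Fin m) F) *ᵥ s)
    have ha'0 : a' ≠ 0 := by
      rintro rfl
      apply hs2
      simpa using hb'
    have hb'0 : (g : Matrix (Fin m ⊕ Fin m) (Fin m ⊕ Fin m) F) *ᵥ s - a' ≠ 0 := by
      intro h
      apply hs1
      rw [sub_eq_zero.mp h]
      exact ha'
    apply le_of_forall_mem_Sset
    intro v
    obtain ⟨a, ha, hb⟩ := exists_decomp W (nd W hW) v
    by_cases ha0 : a = 0
    · subst ha0
      rw [sub_zero] at hb
      intro c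
      exact hHM ⟨tvc_mem_stab_of_perp hb c, tvc_mem v c⟩
    by_cases hb0 : v - a = 0
    · rw [sub_eq_zero.mp hb0]
      intro c
      exact hHM ⟨tvc_mem_stab_of_mem ha c, tvc_mem a c⟩
    obtain ⟨h, hh, hmove⟩ := exists_move W hW ha ha0 ha' ha'0 hb hb0 hb' hb'0
    have : (h : Matrix (Fin m ⊕ Fin m) (Fin m ⊕ Fin m) F) *ᵥ
        ((g : Matrix (Fin m ⊕ Fin m) (Fin m ⊕ Fin m) F) *ᵥ s) = v := by
      rw [add_sub_cancel, add_sub_cancel] at hmove
      exact hmove
    rw [← this]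
    exact Sset_mulVec_mem hMS (hHM hh) hgsS

end Nondeg

end S5646aux

end Aux

/-- For a finite field F and m ≥ 7, in the symplectic group Sp_2m(F) of the standard alternating form on F^(2m), the stabiliser of any non-zero subspace W on which the form is non-degenerate and with dim W < m is a maximal subgroup. -/
theorem result {F : Type*} [Field F] [Fintype F] (m : ℕ) (hm : 7 ≤ m) (W : Submodule F (Fin m ⊕ Fin m → F)) (hW0 : W ≠ ⊥) (hW : Cfsg.Geo.IsNondegenerateOn (Cfsg.sympForm m F) W) (hdim : Module.finrank F W < m) : Cfsg.Geo.IsMaximalIn (Cfsg.spGL m F) (Cfsg.Geo.subspaceStabilizer W ⊓ Cfsg.spGL m F) := by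
  exact S5646aux.main W hW hW0 hdim

end Cfsg.Agent.S5646
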