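import Cfsg.Statements.S1224
import Cfsg.Agent.Lib.Helper8.StrongEmb

set_option autoImplicit false
open Cfsg

namespace Cfsg.Agent.S1224

/-- Let H be a strongly embedded subgroup of the finite group G and x ≠ y two cosets in G/H. Then the number of involutions i of G with i • x = y equals the number of involutions lying in H. -/
theorem result {G : Type*} [Group G] [Finite G] (H : Subgroup G) (hH : Cfsg.IsStronglyEmbedded H) (x y : G ⧸ H) (hxy : x ≠ y) : Nat.card {i : G // orderOf i = 2 ∧ i • x = y} = Nat.card {t : G // orderOf t = 2 ∧ t ∈ H} := by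
  open Cfsg.Agent.Lib.Helper8 Cfsg.Agent.Lib.Helper2 in
  induction x using QuotientGroup.induction_on with | _ a
  induction y using QuotientGroup.induction_on with | _ b
  obtain ⟨t0, ht0H, ht02⟩ := se_exists_invol hH
  have ht2 : orderOf (a * t0 * a⁻¹) = 2 := orderOf_conj_two a ht02
  have htx : (a * t0 * a⁻¹) • (QuotientGroup.mk a : G ⧸ H) = QuotientGroup.mk a := by
    rw [smul_mk_eq_iff]
    have : a⁻¹ * (a * t0 * a⁻¹) * a = t0 := by group
    rw [this]; exact ht0H
  set t := a * t0 * a⁻¹ with ht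
  have htt := invol_mul_self ht2
  -- the map
  have hmem : ∀ i : {i : G // orderOf i = 2 ∧ i • (QuotientGroup.mk a : G ⧸ H) = QuotientGroup.mk b},
      orderOf (b⁻¹ * (i.1 * t * i.1⁻¹) * b) = 2 ∧ b⁻¹ * (i.1 * t * i.1⁻¹) * b ∈ H := by
    rintro ⟨i, hi2, hix⟩
    refine ⟨?_, ?_⟩
    · have := orderOf_conj_two b⁻¹ (orderOf_conj_two i ht2)
      rwa [inv_inv] at this
    · rw [← smul_mk_eq_iff]
      show (i * t * i⁻¹) • (QuotientGroup.mk b : G ⧸ H) = QuotientGroup.mk b
      rw [← hix, ← mul_smul]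
      have : i * t * i⁻¹ * i = i * t := by group
      rw [this, mul_smul, htx]
  have hoddi : ∀ i : {i : G // orderOf i = 2 ∧ i • (QuotientGroup.mk a : G ⧸ H) = QuotientGroup.mk b},
      Odd (orderOf (i.1 * t)) := by
    rintro ⟨i, hi2, hix⟩
    obtain ⟨p, hp⟩ := se_fix_exists hH hi2
    apply se_odd_mul hH hi2 ht2 hp htx
    intro hpx
    rw [hpx, hix] at hp
    exact hxy hp.symm
  apply Nat.card_eq_of_bijective (fun i => ⟨b⁻¹ * (i.1 * t * i.1⁻¹) * b, hmem i⟩)
  constructor
  · intro i i' h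
    have h1 : b⁻¹ * (i.1 * t * i.1⁻¹) * b = b⁻¹ * (i'.1 * t * i'.1⁻¹) * b := congrArg Subtype.val h
    have h2 : i.1 * t * i.1⁻¹ = i'.1 * t * i'.1⁻¹ := mul_left_cancel (mul_right_cancel h1)
    apply Subtype.ext
    exact invol_midpoint_unique (invol_mul_self i.2.1) (invol_mul_self i'.2.1) h2 (hoddi i) (hoddi i')
  · rintro ⟨s, hs2, hsH⟩
    have hs'2 : orderOf (b * s * b⁻¹) = 2 := orderOf_conj_two b hs2
    have hsy : (b * s * b⁻¹) • (QuotientGroup.mk b : G ⧸ H) = QuotientGroup.mk b := by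
      rw [smul_mk_eq_iff]
      have : b⁻¹ * (b * s * b⁻¹) * b = s := by group
      rw [this]; exact hsH
    have hodd := se_odd_mul hH ht2 hs'2 htx hsy hxy
    obtain ⟨w, hww, hw⟩ := invol_midpoint htt (invol_mul_self hs'2) hodd
    have hwx : w • (QuotientGroup.mk a : G ⧸ H) = QuotientGroup.mk b :=
      se_conj_smul hH hs'2 htx hsy hw
    have hw1 : w ≠ 1 := by
      intro h1
      rw [h1, one_smul] at hwx
      exact hxy hwx
    have hw2 : orderOf w = 2 := orderOf_two_of hw1 hww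
    refine ⟨⟨w, hw2, hwx⟩, ?_⟩
    apply Subtype.ext
    show b⁻¹ * (w * t * w⁻¹) * b = s
    rw [hw]; group

end Cfsg.Agent.S1224
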