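import Cfsg.Statements.S1225
import Cfsg.Agent.Lib.Helper8.StrongEmb

set_option autoImplicit false
open Cfsg

namespace Cfsg.Agent.S1225

/-- Let H be a strongly embedded subgroup of the finite group G, u an involution outside H and D = H ∩ uHu⁻¹. Then any two involutions of H are conjugate by an element of D, and any two involutions of G are conjugate in G. -/
theorem result {G : Type*} [Group G] [Finite G] (H : Subgroup G) (hH : Cfsg.IsStronglyEmbedded H) (u : G) (hu : orderOf u = 2) (huH : u ∉ H) (s t : G) (hs : orderOf s = 2) (hsH : s ∈ H) (ht : orderOf t = 2) (htH : t ∈ H) : (∃ d ∈ (H ⊓ H.map (MulAut.conj u).toMonoidHom), d * s * d⁻¹ = t) ∧ ∀ a b : G, orderOf a = 2 → orderOf b = 2 → IsConj a b := by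
  open Cfsg.Agent.Lib.Helper8 Cfsg.Agent.Lib.Helper2 in
  refine ⟨se_conj_in_inter hH hu huH hs hsH ht htH, ?_⟩
  intro a b ha hb
  rw [isConj_iff]
  obtain ⟨p, hp⟩ := se_fix_exists hH ha
  obtain ⟨q, hq⟩ := se_fix_exists hH hb
  by_cases hpq : p = q
  · subst hpq
    induction p using QuotientGroup.induction_on with | _ g
    rw [smul_mk_eq_iff] at hp hq
    have ha' : orderOf (g⁻¹ * a * g) = 2 := by
      have := orderOf_conj_two g⁻¹ ha
      rwa [inv_inv] at this
    have hb' : orderOf (g⁻¹ * b * g) = 2 := by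
      have := orderOf_conj_two g⁻¹ hb
      rwa [inv_inv] at this
    obtain ⟨d, _, hd⟩ := se_conj_in_inter hH hu huH ha' hp hb' hq
    refine ⟨g * d * g⁻¹, ?_⟩
    calc g * d * g⁻¹ * a * (g * d * g⁻¹)⁻¹ = g * (d * (g⁻¹ * a * g) * d⁻¹) * g⁻¹ := by group
      _ = g * (g⁻¹ * b * g) * g⁻¹ := by rw [hd]
      _ = b := by group
  · have hodd := se_odd_mul hH ha hb hp hq hpq
    obtain ⟨w, _, hw⟩ := invol_midpoint (invol_mul_self ha) (invol_mul_self hb) hodd
    exact ⟨w, hw⟩

end Cfsg.Agent.S1225
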