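import Cfsg.Statements.S0007
-- import your own Cfsg.Agent.* helpers here

set_option autoImplicit false
open Pointwise
open Cfsg

namespace Cfsg.Agent.S0007

/-- Subgroups of coprime index: the intersection has index equal to the product of the indices, and every element is a product of an element of the first subgroup and an element of the second. -/
theorem result {G : Type*} [Group G] [Finite G] (H K : Subgroup G)
    (h : H.index.Coprime K.index) :
    (H ⊓ K).index = H.index * K.index ∧ ∀ g : G, ∃ x ∈ H, ∃ y ∈ K, g = x * y := by
  have hidx : (H ⊓ K).index = H.index * K.index := by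
    apply Nat.le_antisymm Subgroup.index_inf_le
    apply Nat.le_of_dvd (Nat.pos_of_ne_zero (Subgroup.index_ne_zero_of_finite))
    exact Nat.Coprime.mul_dvd_of_dvd_of_dvd h (Subgroup.index_dvd_of_le inf_le_left)
      (Subgroup.index_dvd_of_le inf_le_right)
  refine ⟨hidx, ?_⟩
  -- K.relIndex H = K.index
  have h1 : (H ⊓ K).relIndex H * H.index = (H ⊓ K).index :=
    Subgroup.relIndex_mul_index inf_le_left
  have h2 : K.relIndex H = K.index := by
    have : (H ⊓ K).relIndex H = K.relIndex H := Subgroup.inf_relIndex_left H K
    rw [this, hidx, mul_comm] at h1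
    exact Nat.eq_of_mul_eq_mul_left (Nat.pos_of_ne_zero (Subgroup.index_ne_zero_of_finite)) h1
  -- the embedding H ⧸ K.subgroupOf H ↪ G ⧸ K is a bijection
  let φ : H ⧸ K.subgroupOf H → G ⧸ K := fun q =>
    Quotient.liftOn' q (fun x => (QuotientGroup.mk (x : G) : G ⧸ K)) (by
      intro a b hab
      rw [QuotientGroup.leftRel_apply] at hab
      apply QuotientGroup.eq.mpr
      simpa [Subgroup.mem_subgroupOf] using hab)
  have hφinj : Function.Injective φ := by
    intro a b
    refine Quotient.inductionOn₂' a b ?_
    intro x y hxy
    have : (QuotientGroup.mk (x : G) : G ⧸ K) = QuotientGroup.mk (y : G) := hxy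
    rw [QuotientGroup.eq] at this
    apply Quotient.sound'
    rw [QuotientGroup.leftRel_apply]
    simpa [Subgroup.mem_subgroupOf] using this
  have hcard : Nat.card (H ⧸ K.subgroupOf H) = Nat.card (G ⧸ K) := h2
  have hφsurj : Function.Surjective φ := by
    have hbij : Function.Bijective φ := by
      rw [Nat.bijective_iff_injective_and_card]
      exact ⟨hφinj, hcard⟩
    exact hbij.2
  intro g
  obtain ⟨q, hq⟩ := hφsurj (QuotientGroup.mk g)
  induction q using Quotient.inductionOn' with
  | _ x =>
    have : (QuotientGroup.mk (x : G) : G ⧸ K) = QuotientGroup.mk g := hq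
    rw [QuotientGroup.eq] at this
    exact ⟨x, x.2, _, this, (mul_inv_cancel_left _ _).symm⟩

end Cfsg.Agent.S0007
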