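import Cfsg.Statements.S0011
-- import your own Cfsg.Agent.* helpers here
import Mathlib

set_option autoImplicit false
open Cfsg

namespace Cfsg.Agent.S0011

/-- If the Frattini quotient of a finite group is nilpotent then the group is nilpotent. -/
theorem result {G : Type*} [Group G] [Finite G]
    (h : Group.IsNilpotent (G ⧸ frattini G)) : Group.IsNilpotent G := by
  classical
  have hNC : NormalizerCondition (G ⧸ frattini G) := Group.normalizerCondition_of_isNilpotent
  apply (Group.isNilpotent_of_finite_tfae (G := G)).out 2 0 rfl rfl |>.mp
  intro M hM
  have hΦM : frattini G ≤ M := frattini_le_coatom hM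
  set π := QuotientGroup.mk' (frattini G) with hπ
  have hsur : Function.Surjective π := QuotientGroup.mk'_surjective _
  have hker : π.ker ≤ M := by rw [QuotientGroup.ker_mk']; exact hΦM
  have hcomap : (M.map π).comap π = M := Subgroup.comap_map_eq_self hker
  have hlt : M.map π < ⊤ := by
    rw [lt_top_iff_ne_top]; intro h
    have := congrArg (Subgroup.comap π) h
    rw [hcomap, Subgroup.comap_top] at this
    exact hM.1 this
  have h2 := hNC _ hlt
  have h3 : M < Subgroup.normalizer (M : Set G) := by
    have := (Subgroup.comap_lt_comap_of_surjective hsur).mpr h2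
    rwa [hcomap, Subgroup.comap_normalizer_eq_of_surjective _ hsur, hcomap] at this
  have h4 := hM.2 _ h3
  exact Subgroup.normalizer_eq_top_iff.mp h4

end Cfsg.Agent.S0011
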