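import Cfsg.Statements.S0065
-- import your own Cfsg.Agent.* helpers here
import Mathlib

set_option autoImplicit false
open Cfsg

namespace Cfsg.Agent.S0065

open scoped commutatorElement

/-- A nontrivial normal subgroup of a nilpotent group intersects the centre nontrivially. -/
theorem result {G : Type*} [Group G] [Finite G] [Group.IsNilpotent G]
    (N : Subgroup G) [N.Normal] (hN : N ≠ ⊥) : N ⊓ Subgroup.center G ≠ ⊥ := by
  classical
  obtain ⟨n, hn⟩ := (inferInstance : Group.IsNilpotent G).nilpotent'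
  have hex : ∃ i, N ⊓ Subgroup.upperCentralSeries G i ≠ ⊥ := ⟨n, by rw [hn, inf_top_eq]; exact hN⟩
  have hi1 : N ⊓ Subgroup.upperCentralSeries G (Nat.find hex) ≠ ⊥ := Nat.find_spec hex
  have hi0 : Nat.find hex ≠ 0 := by
    intro h0
    rw [h0, Subgroup.upperCentralSeries_zero, inf_bot_eq] at hi1
    exact hi1 rfl
  obtain ⟨j, hj⟩ := Nat.exists_eq_succ_of_ne_zero hi0
  have hjbot : N ⊓ Subgroup.upperCentralSeries G j = ⊥ := by
    by_contra h
    have := Nat.find_min' hex h
    omega
  rw [hj] at hi1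
  obtain ⟨⟨x, hx⟩, hx1⟩ := (Subgroup.ne_bot_iff_exists_ne_one).mp hi1
  have hx1' : x ≠ 1 := fun h => hx1 (Subtype.ext h)
  intro hbot
  apply hx1'
  have hxc : x ∈ Subgroup.center G := by
    rw [Subgroup.mem_center_iff]
    intro y
    have h1 : ⁅x, y⁆ ∈ Subgroup.upperCentralSeries G j := (Subgroup.mem_upperCentralSeries_succ_iff.mp hx.2) y
    have h2 : ⁅x, y⁆ ∈ N := by
      rw [commutatorElement_def]
      have : y * x⁻¹ * y⁻¹ ∈ N := Subgroup.Normal.conj_mem inferInstance _ (N.inv_mem hx.1) y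
      have := N.mul_mem hx.1 this
      simpa [mul_assoc] using this
    have h3 : ⁅x, y⁆ ∈ N ⊓ Subgroup.upperCentralSeries G j := ⟨h2, h1⟩
    rw [hjbot, Subgroup.mem_bot, commutatorElement_eq_one_iff_mul_comm] at h3
    exact h3.symm
  have : x ∈ N ⊓ Subgroup.center G := ⟨hx.1, hxc⟩
  rw [hbot, Subgroup.mem_bot] at this
  exact this

end Cfsg.Agent.S0065
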