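import Cfsg.Statements.S0015
-- import your own Cfsg.Agent.* helpers here
import Mathlib
import Cfsg.Agent.S0065

set_option autoImplicit false
open Cfsg

namespace Cfsg.Agent.S0015

/-- In a finite nilpotent group, an abelian normal subgroup that is maximal among abelian normal subgroups equals its own centralizer. -/
theorem result {G : Type*} [Group G] [Finite G] [Group.IsNilpotent G]
    (N : Subgroup G) [N.Normal] [IsMulCommutative N]
    (hmax : ∀ M : Subgroup G, M.Normal → IsMulCommutative M → N ≤ M → M = N) :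
    Subgroup.centralizer (N : Set G) = N := by
  classical
  have hNC : N ≤ Subgroup.centralizer (N : Set G) :=
    Subgroup.le_centralizer_iff_isMulCommutative.mpr inferInstance
  apply le_antisymm _ hNC
  by_contra hCN
  set C := Subgroup.centralizer (N : Set G) with hC
  have hCn : C.Normal := Subgroup.normal_centralizer
  set π := QuotientGroup.mk' N with hπ
  have hsur : Function.Surjective π := QuotientGroup.mk'_surjective _
  -- `C.map π` is a nontrivial normal subgroup of the nilpotent group `G ⧸ N`
  have hCπn : (C.map π).Normal := hCn.map π hsur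
  have hCπ1 : C.map π ≠ ⊥ := by
    intro h
    apply hCN
    rw [Subgroup.map_eq_bot_iff, hπ, QuotientGroup.ker_mk'] at h
    exact h
  have hmeet := Cfsg.Agent.S0065.result (C.map π) hCπ1
  obtain ⟨⟨q, hq⟩, hq1⟩ := (Subgroup.ne_bot_iff_exists_ne_one).mp hmeet
  have hq1' : q ≠ 1 := fun h => hq1 (Subtype.ext h)
  obtain ⟨c, hcC, rfl⟩ := hq.1
  have hcZ : π c ∈ Subgroup.center (G ⧸ N) := hq.2
  have hcN : c ∉ N := fun h => hq1' ((QuotientGroup.eq_one_iff c).mpr h)
  -- the subgroup `M = ⟨N, c⟩`
  set M : Subgroup G := (Subgroup.zpowers (π c)).comap π with hM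
  have hNM : N ≤ M := by
    intro n hn
    rw [hM, Subgroup.mem_comap]
    have : π n = 1 := (QuotientGroup.eq_one_iff n).mpr hn
    rw [this]; exact Subgroup.one_mem _
  have hcM : c ∈ M := by
    rw [hM, Subgroup.mem_comap]; exact Subgroup.mem_zpowers _
  have hMn : M.Normal := by
    have : (Subgroup.zpowers (π c)).Normal := by
      constructor
      intro x hx g
      have hxZ : x ∈ Subgroup.center (G ⧸ N) := by
        obtain ⟨k, rfl⟩ := Subgroup.mem_zpowers_iff.mp hx
        exact Subgroup.zpow_mem _ hcZ k
      have : g * x * g⁻¹ = x := by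
        rw [Subgroup.mem_center_iff] at hxZ
        rw [hxZ g, mul_inv_cancel_right]
      rw [this]; exact hx
    exact this.comap π
  have hMc : IsMulCommutative M := by
    rw [← Subgroup.le_centralizer_iff_isMulCommutative]
    -- every element of M is of the form n * c^k
    have hform : ∀ x ∈ M, ∃ n ∈ N, ∃ k : ℤ, x = n * c ^ k := by
      intro x hx
      rw [hM, Subgroup.mem_comap] at hx
      obtain ⟨k, hk⟩ := Subgroup.mem_zpowers_iff.mp hx
      refine ⟨x * (c ^ k)⁻¹, ?_, k, by group⟩
      have : π (x * (c ^ k)⁻¹) = 1 := by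
        rw [map_mul, map_inv, map_zpow, hk, mul_inv_cancel]
      exact (QuotientGroup.eq_one_iff _).mp this
    have hcn : ∀ n ∈ N, ∀ k : ℤ, c ^ k * n = n * c ^ k := by
      intro n hn k
      have h1 : Commute c n := (hcC n hn).symm
      exact (h1.zpow_left k).eq
    have hnn : ∀ n ∈ N, ∀ n' ∈ N, n * n' = n' * n := by
      intro n hn n' hn'
      exact (hNC hn n' hn').symm
    intro x hx y hy
    obtain ⟨n, hn, k, rfl⟩ := hform x hx
    obtain ⟨n', hn', l, rfl⟩ := hform y hy
    have hkl : c ^ k * c ^ l = c ^ l * c ^ k := by rw [← zpow_add, ← zpow_add, add_comm]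
    calc n' * c ^ l * (n * c ^ k) = n' * (c ^ l * n) * c ^ k := by group
      _ = n' * (n * c ^ l) * c ^ k := by rw [hcn n hn l]
      _ = (n' * n) * (c ^ l * c ^ k) := by group
      _ = (n * n') * (c ^ k * c ^ l) := by rw [hnn n hn n' hn', hkl]
      _ = n * (n' * c ^ k) * c ^ l := by group
      _ = n * (c ^ k * n') * c ^ l := by rw [hcn n' hn' k]
      _ = n * c ^ k * (n' * c ^ l) := by group
  have := hmax M hMn hMc hNM
  exact hcN (this ▸ hcM)

end Cfsg.Agent.S0015
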