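import Cfsg.Statements.S0018
-- import your own Cfsg.Agent.* helpers here
import Mathlib
import Cfsg.Agent.Lib.Helper1.Fitting
import Cfsg.Agent.Lib.Helper12.Cores
import Cfsg.Agent.S0017

set_option autoImplicit false
open Cfsg

namespace Cfsg.Agent.S0018

open Cfsg.Agent.Lib.Helper1 Subgroup

/-- A finite solvable group whose Sylow p-subgroups are abelian has p-length one: a Sylow p-subgroup together with the largest normal subgroup of order prime to p generates a normal subgroup. -/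
theorem result {G : Type*} [Group G] [Finite G] [Group.IsSolvable G]
    (p : ℕ) [Fact p.Prime] (P : Sylow p G) (hP : IsMulCommutative P) :
    ((P : Subgroup G) ⊔ Cfsg.pPrimeCore p G).Normal := by
  set O : Subgroup G := Cfsg.pPrimeCore p G with hO
  have hOn : O.Normal := pPrimeCore_normal p G
  set π := QuotientGroup.mk' O with hπ
  have hπs : Function.Surjective π := QuotientGroup.mk'_surjective O
  -- `O_{p'}(G/O_{p'}(G)) = 1`
  have hbot : Cfsg.pPrimeCore p (G ⧸ O) = ⊥ := by
    set Nb := Cfsg.pPrimeCore p (G ⧸ O) with hNb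
    have hNbn : Nb.Normal := pPrimeCore_normal p (G ⧸ O)
    have hcard : Nat.card (Nb.comap π) = Nat.card O * Nat.card Nb :=
      Cfsg.Agent.Lib.Helper12.card_comap_mk' O Nb
    have hcop : (Nat.card (Nb.comap π)).Coprime p := by
      rw [hcard]
      exact Nat.Coprime.mul_left (Cfsg.Agent.Lib.Helper12.pPrimeCore_coprime p)
        (Cfsg.Agent.Lib.Helper12.pPrimeCore_coprime p)
    have hle : Nb.comap π ≤ O :=
      Cfsg.Agent.Lib.Helper12.le_pPrimeCore p _ (hNbn.comap π) hcop
    rw [← Subgroup.map_comap_eq_self_of_surjective hπs Nb, Subgroup.map_eq_bot_iff,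
      QuotientGroup.ker_mk']
    exact hle
  have hsol : Group.IsSolvable (G ⧸ O) := inferInstance
  have hcent := Cfsg.Agent.S0017.result (G := G ⧸ O) p hbot
  set Pb : Sylow p (G ⧸ O) := P.mapSurjective hπs with hPb
  have hcore_le : Cfsg.pCore p (G ⧸ O) ≤ (Pb : Subgroup (G ⧸ O)) := pCore_le_sylow Pb
  have hPbcomm : ∀ x ∈ (Pb : Subgroup (G ⧸ O)), ∀ y ∈ (Pb : Subgroup (G ⧸ O)), x * y = y * x := by
    intro x hx y hy
    rw [hPb, Sylow.coe_mapSurjective] at hx hy
    obtain ⟨x', hx', rfl⟩ := hx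
    obtain ⟨y', hy', rfl⟩ := hy
    have h := mul_comm' (⟨x', hx'⟩ : P) ⟨y', hy'⟩
    have h' : x' * y' = y' * x' := congrArg Subtype.val h
    rw [← map_mul, ← map_mul, h']
  have hPb_le : (Pb : Subgroup (G ⧸ O)) ≤ Cfsg.pCore p (G ⧸ O) := by
    refine le_trans ?_ hcent
    intro x hx y hy
    exact hPbcomm y (hcore_le hy) x hx
  have hPb_eq : (Pb : Subgroup (G ⧸ O)) = Cfsg.pCore p (G ⧸ O) := le_antisymm hPb_le hcore_le
  have hPbn : (Pb : Subgroup (G ⧸ O)).Normal := hPb_eq ▸ pCore_normal p (G ⧸ O)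
  have hcomap : ((Pb : Subgroup (G ⧸ O))).comap π = (P : Subgroup G) ⊔ O := by
    rw [hPb, Sylow.coe_mapSurjective, Subgroup.comap_map_eq, QuotientGroup.ker_mk']
  rw [← hcomap]
  exact hPbn.comap π

end Cfsg.Agent.S0018
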