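import Cfsg.Statements.S0020
-- import your own Cfsg.Agent.* helpers here
import Cfsg.Agent.Lib.Helper1.Hall

set_option autoImplicit false
open Pointwise
open Cfsg

namespace Cfsg.Agent.S0020

open Cfsg.Agent.Lib.Helper1

theorem index_inf_of_coprime {G : Type*} [Group G] [Finite G] (H K : Subgroup G)
    (h : H.index.Coprime K.index) : (H ⊓ K).index = H.index * K.index := by
  apply Nat.le_antisymm Subgroup.index_inf_le
  apply Nat.le_of_dvd (Nat.pos_of_ne_zero (Subgroup.index_ne_zero_of_finite))
  exact Nat.Coprime.mul_dvd_of_dvd_of_dvd h (Subgroup.index_dvd_of_le inf_le_left)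
    (Subgroup.index_dvd_of_le inf_le_right)

theorem index_biInf_of_coprime {G : Type*} [Group G] [Finite G] (C : ℕ → Subgroup G) :
    ∀ T : Finset ℕ, (∀ r ∈ T, ∀ s ∈ T, r ≠ s → (C r).index.Coprime (C s).index) →
    (⨅ r ∈ T, C r).index = ∏ r ∈ T, (C r).index := by
  classical
  intro T
  induction T using Finset.induction_on with
  | empty => intro _; simp
  | insert a T ha ih =>
    intro hT
    rw [Finset.iInf_insert, Finset.prod_insert ha]
    have ih' := ih (fun r hr s hs hrs => hT r (Finset.mem_insert_of_mem hr) s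
      (Finset.mem_insert_of_mem hs) hrs)
    rw [index_inf_of_coprime, ih']
    rw [ih']
    apply Nat.Coprime.prod_right
    intro s hs
    exact hT a (Finset.mem_insert_self a T) s (Finset.mem_insert_of_mem hs)
      (fun h => ha (h ▸ hs))

/-- Hall `p`-complements exist in finite solvable groups. -/
theorem exists_pComplement {G : Type*} [Group G] [Finite G] [Group.IsSolvable G] (r : ℕ)
    (hr : r.Prime) : ∃ C : Subgroup G, C.index = r ^ (Nat.card G).factorization r := by
  have hN : Nat.card G ≠ 0 := Nat.card_pos.ne'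
  have h1 : Nat.card G = (Nat.card G / r ^ (Nat.card G).factorization r) *
      r ^ (Nat.card G).factorization r := by
    rw [mul_comm]; exact (Nat.ordProj_mul_ordCompl_eq_self _ r).symm
  have h2 : (Nat.card G / r ^ (Nat.card G).factorization r).Coprime
      (r ^ (Nat.card G).factorization r) :=
    (Nat.Coprime.pow_left _ (Nat.coprime_ordCompl hr hN)).symm
  obtain ⟨C, hC⟩ := hall_exists _ G rfl _ _ h1 h2
  refine ⟨C, ?_⟩
  have h3 := C.card_mul_index
  rw [hC] at h3
  have hpos : 0 < Nat.card G / r ^ (Nat.card G).factorization r := Nat.ordCompl_pos r hN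
  exact Nat.eq_of_mul_eq_mul_left hpos (h3.trans h1)

/-- A finite solvable group admits a Sylow system: Sylow subgroups, one for each prime, that pairwise permute as sets. -/
theorem result {G : Type*} [Group G] [Finite G] [Group.IsSolvable G] :
    ∃ S : (p : Nat.Primes) → Sylow (p : ℕ) G,
      ∀ p q : Nat.Primes, (S p : Set G) * (S q : Set G) = (S q : Set G) * (S p : Set G) := by
  classical
  have hN : Nat.card G ≠ 0 := Nat.card_pos.ne'
  set N := Nat.card G with hNdef
  have key : ∀ r : ℕ, r.Prime → ∃ C : Subgroup G, C.index = r ^ N.factorization r :=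
    fun r hr => exists_pComplement r hr
  choose! C hC using key
  set π := N.primeFactors with hπ
  have hprime : ∀ r ∈ π, r.Prime := fun r hr => Nat.prime_of_mem_primeFactors hr
  have hcop : ∀ T : Finset ℕ, T ⊆ π →
      ∀ r ∈ T, ∀ s ∈ T, r ≠ s → (C r).index.Coprime (C s).index := by
    intro T hT r hr s hs hrs
    rw [hC r (hprime r (hT hr)), hC s (hprime s (hT hs))]
    exact Nat.Coprime.pow _ _ ((Nat.coprime_primes (hprime r (hT hr)) (hprime s (hT hs))).mpr hrs)
  have hidx : ∀ T : Finset ℕ, T ⊆ π → (⨅ r ∈ T, C r).index = ∏ r ∈ T, r ^ N.factorization r := by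
    intro T hT
    rw [index_biInf_of_coprime C T (hcop T hT)]
    exact Finset.prod_congr rfl (fun r hr => hC r (hprime r (hT hr)))
  have hprod : ∏ r ∈ π, r ^ N.factorization r = N := Nat.prod_factorization_pow_eq_self hN
  -- erasing a prime
  have herase : ∀ (T : Finset ℕ) (p : ℕ), T ⊆ π → p.Prime →
      p ^ N.factorization p * ∏ r ∈ T.erase p, r ^ N.factorization r =
      if p ∈ T then ∏ r ∈ T, r ^ N.factorization r
      else p ^ N.factorization p * ∏ r ∈ T, r ^ N.factorization r := by
    intro T p hT hp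
    split_ifs with h
    · exact Finset.mul_prod_erase T (fun r => r ^ N.factorization r) h
    · rw [Finset.erase_eq_of_notMem h]
  -- the Sylow subgroups
  let Sg : ℕ → Subgroup G := fun p => ⨅ r ∈ π.erase p, C r
  have hSgidx : ∀ p : ℕ, p.Prime → p ^ N.factorization p * (Sg p).index = N := by
    intro p hp
    rw [hidx _ (Finset.erase_subset p π), herase π p subset_rfl hp]
    split_ifs with h
    · exact hprod
    · have : N.factorization p = 0 := by
        rw [← Finsupp.notMem_support_iff, Nat.support_factorization]; exact h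
      rw [this, pow_zero, one_mul, hprod]
  have hSgcard : ∀ p : ℕ, p.Prime → Nat.card (Sg p) = p ^ N.factorization p := by
    intro p hp
    have h1 := (Sg p).card_mul_index
    have h2 := hSgidx p hp
    have hpos : 0 < (Sg p).index := Nat.pos_of_ne_zero Subgroup.index_ne_zero_of_finite
    exact Nat.eq_of_mul_eq_mul_right hpos (h1.trans h2.symm)
  refine ⟨fun p => haveI : Fact (p : ℕ).Prime := ⟨p.2⟩; Sylow.ofCard (Sg p) (hSgcard p p.2), ?_⟩
  intro p q
  show (Sg p : Set G) * (Sg q : Set G) = (Sg q : Set G) * (Sg p : Set G)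
  by_cases hpq : (p : ℕ) = q
  · rw [hpq]
  -- the subgroup D = ⨅ over π \ {p, q}
  set D : Subgroup G := ⨅ r ∈ (π.erase p).erase q, C r with hD
  have hSpD : Sg p ≤ D := by
    apply le_iInf₂
    intro r hr
    exact iInf₂_le r (Finset.mem_of_mem_erase hr)
  have hSqD : Sg q ≤ D := by
    apply le_iInf₂
    intro r hr
    apply iInf₂_le r
    rw [Finset.mem_erase] at hr ⊢
    exact ⟨hr.1, Finset.mem_of_mem_erase hr.2⟩
  have hDidx : (p : ℕ) ^ N.factorization p * ((q : ℕ) ^ N.factorization q * D.index) = N := by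
    rw [hidx _ ((Finset.erase_subset _ _).trans (Finset.erase_subset _ _)),
      herase (π.erase p) q (Finset.erase_subset _ _) q.2]
    split_ifs with h
    · rw [← hidx _ (Finset.erase_subset (p : ℕ) π)]
      exact hSgidx p p.2
    · have hq : (q : ℕ) ∉ π := fun hq => h (Finset.mem_erase.mpr ⟨fun h' => hpq h'.symm, hq⟩)
      have : N.factorization q = 0 := by
        rw [← Finsupp.notMem_support_iff, Nat.support_factorization]; exact hq
      rw [this, pow_zero, one_mul, ← hidx _ (Finset.erase_subset (p : ℕ) π)]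
      exact hSgidx p p.2
  have hDcard : Nat.card D = (p : ℕ) ^ N.factorization p * (q : ℕ) ^ N.factorization q := by
    have h1 := D.card_mul_index
    have hpos : 0 < D.index := Nat.pos_of_ne_zero Subgroup.index_ne_zero_of_finite
    apply Nat.eq_of_mul_eq_mul_right hpos
    rw [h1, mul_assoc, hDidx]
  have hcopq : Nat.Coprime (Nat.card (Sg p)) (Nat.card (Sg q)) := by
    rw [hSgcard p p.2, hSgcard q q.2]
    exact Nat.Coprime.pow _ _ ((Nat.coprime_primes p.2 q.2).mpr hpq)
  have hcp : Nat.card ((Sg p).subgroupOf D) = Nat.card (Sg p) :=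
    Nat.card_congr (Subgroup.subgroupOfEquivOfLe hSpD).toEquiv
  have hcq : Nat.card ((Sg q).subgroupOf D) = Nat.card (Sg q) :=
    Nat.card_congr (Subgroup.subgroupOfEquivOfLe hSqD).toEquiv
  have hcompl : Subgroup.IsComplement' ((Sg p).subgroupOf D) ((Sg q).subgroupOf D) := by
    apply Subgroup.isComplement'_of_coprime
    · rw [hcp, hcq, hSgcard p p.2, hSgcard q q.2, hDcard]
    · rw [hcp, hcq]; exact hcopq
  -- both products equal D
  have h1 : (Sg p : Set G) * (Sg q : Set G) = D := by
    apply Set.Subset.antisymm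
    · rintro _ ⟨a, ha, b, hb, rfl⟩
      exact D.mul_mem (hSpD ha) (hSqD hb)
    · intro d hd
      obtain ⟨a, ha, b, hb, hab⟩ := IsComplement'.exists_mul_eq hcompl ⟨d, hd⟩
      exact ⟨a, Subgroup.mem_subgroupOf.mp ha, b, Subgroup.mem_subgroupOf.mp hb,
        congrArg Subtype.val hab⟩
  have h2 : (Sg q : Set G) * (Sg p : Set G) = D := by
    apply Set.Subset.antisymm
    · rintro _ ⟨a, ha, b, hb, rfl⟩
      exact D.mul_mem (hSqD ha) (hSpD hb)
    · intro d hd
      obtain ⟨a, ha, b, hb, hab⟩ := IsComplement'.exists_mul_eq hcompl.symm ⟨d, hd⟩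
      exact ⟨a, Subgroup.mem_subgroupOf.mp ha, b, Subgroup.mem_subgroupOf.mp hb,
        congrArg Subtype.val hab⟩
  rw [h1, h2]

end Cfsg.Agent.S0020
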