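import Cfsg.Statements.S0021
-- import your own Cfsg.Agent.* helpers here
import Mathlib
import Cfsg.Agent.Lib.Helper1.Fitting
import Cfsg.Agent.S0006

set_option autoImplicit false
open Pointwise
open Cfsg

namespace Cfsg.Agent.S0021

open Cfsg.Agent.Lib.Helper1 Subgroup
open Pointwise

/-- permutable subgroups: the join is the product set -/
theorem coe_sup_of_perm {G : Type*} [Group G] (A B : Subgroup G)
    (h : (A : Set G) * (B : Set G) = (B : Set G) * (A : Set G)) :
    ((A ⊔ B : Subgroup G) : Set G) = (A : Set G) * (B : Set G) := by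
  -- the product set as a subgroup
  let P : Subgroup G :=
    { carrier := (A : Set G) * (B : Set G)
      one_mem' := ⟨1, A.one_mem, 1, B.one_mem, one_mul 1⟩
      mul_mem' := by
        rintro _ _ ⟨a, ha, b, hb, rfl⟩ ⟨a', ha', b', hb', rfl⟩
        have h1 : b * a' ∈ (B : Set G) * (A : Set G) := ⟨b, hb, a', ha', rfl⟩
        rw [← h] at h1
        obtain ⟨a'', ha'', b'', hb'', e⟩ := h1
        have e : a'' * b'' = b * a' := e
        refine ⟨a * a'', A.mul_mem ha ha'', b'' * b', B.mul_mem hb'' hb', ?_⟩
        calc a * a'' * (b'' * b') = a * (a'' * b'') * b' := by group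
          _ = a * (b * a') * b' := by rw [e]
          _ = a * b * (a' * b') := by group
      inv_mem' := by
        rintro _ ⟨a, ha, b, hb, rfl⟩
        have h1 : b⁻¹ * a⁻¹ ∈ (B : Set G) * (A : Set G) :=
          ⟨b⁻¹, B.inv_mem hb, a⁻¹, A.inv_mem ha, rfl⟩
        rw [← h] at h1
        rw [mul_inv_rev]
        exact h1 }
  apply le_antisymm
  · have hle : A ⊔ B ≤ P := by
      apply sup_le
      · intro a ha; exact ⟨a, ha, 1, B.one_mem, mul_one a⟩
      · intro b hb; exact ⟨1, A.one_mem, b, hb, one_mul b⟩
    exact hle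
  · rintro _ ⟨a, ha, b, hb, rfl⟩
    exact Subgroup.mul_mem _ (Subgroup.mem_sup_left ha) (Subgroup.mem_sup_right hb)

theorem perm_sup {G : Type*} [Group G] (A B C : Subgroup G)
    (hAB : (A : Set G) * (B : Set G) = (B : Set G) * (A : Set G))
    (hAC : (A : Set G) * (C : Set G) = (C : Set G) * (A : Set G))
    (hBC : (B : Set G) * (C : Set G) = (C : Set G) * (B : Set G)) :
    (A : Set G) * ((B ⊔ C : Subgroup G) : Set G) = ((B ⊔ C : Subgroup G) : Set G) * (A : Set G) := by
  rw [coe_sup_of_perm B C hBC, ← mul_assoc, hAB, mul_assoc, hAC, ← mul_assoc]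

theorem sup_family {G : Type*} [Group G] [Finite G] (S' : ℕ → Subgroup G)
    (hperm : ∀ q r, (S' q : Set G) * (S' r : Set G) = (S' r : Set G) * (S' q : Set G))
    (T : Finset ℕ) :
    (∀ r, (S' r : Set G) * ((T.sup S' : Subgroup G) : Set G) =
      ((T.sup S' : Subgroup G) : Set G) * (S' r : Set G)) ∧
    Nat.card (T.sup S' : Subgroup G) ≤ ∏ q ∈ T, Nat.card (S' q) := by
  classical
  induction T using Finset.induction_on with
  | empty =>
    constructor
    · intro r
      rw [Finset.sup_empty]
      ext x
      simp [Set.mem_mul]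
    · simp
  | insert a T ha ih =>
    obtain ⟨ih1, ih2⟩ := ih
    rw [Finset.sup_insert, Finset.prod_insert ha]
    constructor
    · intro r
      exact perm_sup (S' r) (S' a) (T.sup S') (hperm r a) (ih1 r) (ih1 a)
    · have h1 : Nat.card (S' a ⊔ T.sup S' : Subgroup G) =
          Nat.card ((S' a : Set G) * ((T.sup S' : Subgroup G) : Set G) : Set G) := by
        rw [← coe_sup_of_perm (S' a) (T.sup S') (ih1 a)]; rfl
      rw [h1]
      calc Nat.card ((S' a : Set G) * ((T.sup S' : Subgroup G) : Set G) : Set G)
          ≤ Nat.card (S' a : Set G) * Nat.card ((T.sup S' : Subgroup G) : Set G) :=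
            Set.natCard_mul_le
        _ ≤ Nat.card (S' a) * ∏ q ∈ T, Nat.card (S' q) := Nat.mul_le_mul_left _ ih2

/-- A finite group with a family of pairwise permuting Sylow subgroups, one for each prime, is solvable (this direction rests on Burnside's two-prime Theorem). -/
theorem result {G : Type*} [Group G] [Finite G]
    (S : (p : Nat.Primes) → Sylow (p : ℕ) G)
    (hS : ∀ p q : Nat.Primes, (S p : Set G) * (S q : Set G) = (S q : Set G) * (S p : Set G)) :
    Group.IsSolvable G := by
  classical
  apply Cfsg.Agent.S0006.result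
  intro p hp
  have : Fact p.Prime := ⟨hp⟩
  set N := Nat.card G with hN
  have hN0 : N ≠ 0 := Nat.card_pos.ne'
  let S' : ℕ → Subgroup G := fun q => if h : q.Prime then (S ⟨q, h⟩ : Subgroup G) else ⊥
  have hS'prime : ∀ q (h : q.Prime), S' q = (S ⟨q, h⟩ : Subgroup G) := fun q h => dif_pos h
  have hS'not : ∀ q, ¬ q.Prime → S' q = ⊥ := fun q h => dif_neg h
  have hperm : ∀ q r, (S' q : Set G) * (S' r : Set G) = (S' r : Set G) * (S' q : Set G) := by
    intro q r
    by_cases hq : q.Prime
    · by_cases hr : r.Prime
      · rw [hS'prime q hq, hS'prime r hr]; exact hS ⟨q, hq⟩ ⟨r, hr⟩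
      · rw [hS'not r hr]; ext x; simp [Set.mem_mul]
    · rw [hS'not q hq]; ext x; simp [Set.mem_mul]
  have hcardS' : ∀ q, q.Prime → Nat.card (S' q) = q ^ N.factorization q := by
    intro q hq
    have : Fact q.Prime := ⟨hq⟩
    rw [hS'prime q hq]
    exact (S ⟨q, hq⟩).card_eq_multiplicity
  set T : Finset ℕ := N.primeFactors.erase p with hT
  set H : Subgroup G := T.sup S' with hH
  obtain ⟨hpermH, hcardH⟩ := sup_family S' hperm T
  refine ⟨H, ?_⟩
  -- `M * p ^ v_p = N`
  have hprod := Nat.factorization_prod_pow_eq_self hN0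
  rw [Finsupp.prod, Nat.support_factorization] at hprod
  have hM : (∏ q ∈ T, q ^ N.factorization q) * p ^ N.factorization p = N := by
    by_cases hpN : p ∈ N.primeFactors
    · rw [mul_comm, hT, Finset.mul_prod_erase N.primeFactors (fun q => q ^ N.factorization q) hpN]
      exact hprod
    · rw [hT, Finset.erase_eq_of_notMem hpN]
      have : N.factorization p = 0 := by
        rw [← Finsupp.notMem_support_iff, Nat.support_factorization]; exact hpN
      rw [this, pow_zero, mul_one]; exact hprod
  have hcardH' : Nat.card H ≤ ∏ q ∈ T, q ^ N.factorization q := by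
    refine hcardH.trans (le_of_eq ?_)
    apply Finset.prod_congr rfl
    intro q hq
    exact hcardS' q (Nat.prime_of_mem_primeFactors (Finset.mem_of_mem_erase hq))
  -- `S' p ⊔ H = ⊤`
  have htop : S' p ⊔ H = ⊤ := by
    apply eq_top_of_forall_sylow_le
    intro q hq
    have hqp : q.Prime := hq.out
    refine ⟨S ⟨q, hqp⟩, ?_⟩
    by_cases hqeq : q = p
    · subst hqeq
      rw [← hS'prime q hqp]; exact le_sup_left
    · by_cases hqN : q ∈ N.primeFactors
      · have hqT : q ∈ T := Finset.mem_erase.mpr ⟨hqeq, hqN⟩
        rw [← hS'prime q hqp]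
        exact le_trans (Finset.le_sup (f := S') hqT) le_sup_right
      · have h0 : N.factorization q = 0 := by
          rw [← Finsupp.notMem_support_iff, Nat.support_factorization]; exact hqN
        have hc : Nat.card (S ⟨q, hqp⟩ : Subgroup G) = 1 := by
          have := (S ⟨q, hqp⟩).card_eq_multiplicity
          rw [← hN, h0, pow_zero] at this
          exact this
        rw [Subgroup.card_eq_one.mp hc]
        exact bot_le
  have hNle : N ≤ p ^ N.factorization p * Nat.card H := by
    have h1 : Nat.card (S' p ⊔ H : Subgroup G) =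
        Nat.card ((S' p : Set G) * (H : Set G) : Set G) := by
      rw [← coe_sup_of_perm (S' p) H (hpermH p)]; rfl
    have h2 : Nat.card (S' p ⊔ H : Subgroup G) = N := by
      rw [htop, Subgroup.card_top]
    calc N = Nat.card ((S' p : Set G) * (H : Set G) : Set G) := by rw [← h2, h1]
      _ ≤ Nat.card (S' p : Set G) * Nat.card (H : Set G) := Set.natCard_mul_le
      _ = p ^ N.factorization p * Nat.card H := by rw [← hcardS' p hp]; rfl
  have hidx : Nat.card H * H.index = N := Subgroup.card_mul_index H
  have hppos : 0 < p ^ N.factorization p := pow_pos hp.pos _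
  have hcardeq : Nat.card H = ∏ q ∈ T, q ^ N.factorization q := by
    apply le_antisymm hcardH'
    have : (∏ q ∈ T, q ^ N.factorization q) * p ^ N.factorization p ≤
        Nat.card H * p ^ N.factorization p := by
      rw [hM, mul_comm]; exact hNle
    exact Nat.le_of_mul_le_mul_right this hppos
  have hHpos : 0 < Nat.card H := Nat.card_pos
  have : Nat.card H * H.index = Nat.card H * p ^ N.factorization p := by
    rw [hidx, hcardeq, hM]
  exact Nat.eq_of_mul_eq_mul_left hHpos this

end Cfsg.Agent.S0021
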