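import Cfsg.Statements.S0030
-- import your own Cfsg.Agent.* helpers here
import Cfsg.Agent.Lib.Helper1.Coprime

set_option autoImplicit false
open Cfsg

namespace Cfsg.Agent.S0030

open Pointwise
open Cfsg.Agent.Lib.Helper1

/-- Under coprime action fixed points of a product of two invariant subgroups factor: if K = X Y with X and Y normalised by A then every A-fixed element of K is a product of an A-fixed element of X and an A-fixed element of Y. -/
theorem result {G : Type*} [Group G] [Finite G] (A K : Subgroup G) (hAK : A ≤ Subgroup.normalizer (K : Set G))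
    (hcop : (Nat.card A).Coprime (Nat.card K)) (hsolv : Group.IsSolvable A ∨ Group.IsSolvable K)
    (X Y : Subgroup G) (hX : X ≤ K) (hY : Y ≤ K) (hXA : A ≤ Subgroup.normalizer (X : Set G)) (hYA : A ≤ Subgroup.normalizer (Y : Set G))
    (hXY : ∀ k ∈ K, ∃ x ∈ X, ∃ y ∈ Y, k = x * y) (k : G) (hk : k ∈ K ⊓ Subgroup.centralizer (A : Set G)) :
    ∃ x ∈ X ⊓ Subgroup.centralizer (A : Set G), ∃ y ∈ Y ⊓ Subgroup.centralizer (A : Set G), k = x * y := by
  classical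
  obtain ⟨hkK, hkC⟩ := hk
  obtain ⟨x₀, hx₀, y₀, hy₀, hk0⟩ := hXY k hkK
  set D : Subgroup G := X ⊓ Y with hD
  have hDK : D ≤ K := inf_le_left.trans hX
  have hDA : A ≤ Subgroup.normalizer (D : Set G) :=
    (le_inf hXA hYA).trans Subgroup.inf_normalizer_le_normalizer_inf
  have hcopD : Nat.Coprime (Nat.card A) (Nat.card D) :=
    Nat.Coprime.coprime_dvd_right (Subgroup.card_dvd_of_le hDK) hcop
  have hsolvD : Group.IsSolvable A ∨ Group.IsSolvable D := by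
    rcases hsolv with h | h
    · exact Or.inl h
    · right
      exact Group.isSolvable_of_isSolvable_injective (f := Subgroup.inclusion hDK)
        (Subgroup.inclusion_injective hDK)
  have hx : ∀ a ∈ A, x₀⁻¹ * a * x₀ * a⁻¹ ∈ D := by
    intro a ha
    have hak : a * k = k * a := (Subgroup.mem_centralizer_iff.mp hkC) a ha
    have haX : a * x₀ * a⁻¹ ∈ X := (Subgroup.mem_normalizer_iff.mp (hXA ha) x₀).mp hx₀
    have haY : a * y₀ * a⁻¹ ∈ Y := (Subgroup.mem_normalizer_iff.mp (hYA ha) y₀).mp hy₀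
    refine ⟨?_, ?_⟩
    · have e : x₀⁻¹ * a * x₀ * a⁻¹ = x₀⁻¹ * (a * x₀ * a⁻¹) := by group
      rw [e]; exact X.mul_mem (X.inv_mem hx₀) haX
    · -- x₀⁻¹ a x₀ a⁻¹ = y₀ (a y₀ a⁻¹)⁻¹
      have e : x₀⁻¹ * a * x₀ * a⁻¹ = y₀ * (a * y₀ * a⁻¹)⁻¹ := by
        have h1 : a * (x₀ * y₀) = (x₀ * y₀) * a := by rw [← hk0]; exact hak
        have h2 : a * x₀ = x₀ * y₀ * a * y₀⁻¹ := by
          calc a * x₀ = a * (x₀ * y₀) * y₀⁻¹ := by group
            _ = x₀ * y₀ * a * y₀⁻¹ := by rw [h1]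
        calc x₀⁻¹ * a * x₀ * a⁻¹ = x₀⁻¹ * (a * x₀) * a⁻¹ := by group
          _ = x₀⁻¹ * (x₀ * y₀ * a * y₀⁻¹) * a⁻¹ := by rw [h2]
          _ = y₀ * (a * y₀ * a⁻¹)⁻¹ := by group
      rw [e]; exact Y.mul_mem hy₀ (Y.inv_mem haY)
  obtain ⟨d, hd, hc⟩ := exists_mul_mem_centralizer hDA hcopD hsolvD x₀ hx
  refine ⟨x₀ * d, ⟨X.mul_mem hx₀ hd.1, hc⟩, d⁻¹ * y₀, ⟨Y.mul_mem (Y.inv_mem hd.2) hy₀, ?_⟩, ?_⟩
  · have e : d⁻¹ * y₀ = (x₀ * d)⁻¹ * k := by rw [hk0]; group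
    rw [e]
    exact Subgroup.mul_mem _ (Subgroup.inv_mem _ hc) hkC
  · rw [hk0]; group

end Cfsg.Agent.S0030
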