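import Cfsg.Statements.S0031
-- import your own Cfsg.Agent.* helpers here

set_option autoImplicit false
open Cfsg

namespace Cfsg.Agent.S0031

/-- A fixed-point-free automorphism of a finite group maps some Sylow p-subgroup to itself. -/
theorem result {G : Type*} [Group G] [Finite G] (φ : G ≃* G)
    (hφ : MonoidHom.FixedPointFree (φ : G →* G)) (p : ℕ) [Fact p.Prime] :
    ∃ P : Sylow p G, (P : Subgroup G).map (φ : G →* G) = P := by
  classical
  obtain ⟨P⟩ : Nonempty (Sylow p G) := inferInstance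
  -- φ • P is a Sylow subgroup, conjugate to P
  obtain ⟨g, hg⟩ := MulAction.exists_smul_eq G P ((φ : MulAut G) • P)
  obtain ⟨y, hy⟩ := hφ.commutatorMap_surjective g⁻¹
  have hy' : y / φ y = g⁻¹ := hy
  have hgy : g = φ y * y⁻¹ := by
    have : g = (y / φ y)⁻¹ := by rw [hy', inv_inv]
    rw [this, div_eq_mul_inv]; group
  refine ⟨y⁻¹ • P, ?_⟩
  have h1 : ((φ : MulAut G) • P : Sylow p G) = g • P := hg.symm
  have h2 : (φ : MulAut G) • (y⁻¹ • P) = y⁻¹ • P := by
    rw [Sylow.smul_def, ← mul_smul]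
    have h3 : (φ : MulAut G) * MulAut.conj y⁻¹ = MulAut.conj (φ y⁻¹) * (φ : MulAut G) := by
      ext z
      simp [MulAut.mul_apply, map_mul]
    rw [h3, mul_smul, h1, Sylow.smul_def, ← mul_smul, ← map_mul, ← Sylow.smul_def]
    congr 1
    rw [map_inv, hgy]; group
  have h4 := congrArg (fun Q : Sylow p G => (Q : Subgroup G)) h2
  simp only [Sylow.pointwise_smul_def] at h4
  rw [Subgroup.pointwise_smul_def] at h4
  exact h4

end Cfsg.Agent.S0031
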