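import Cfsg.Statements.S0032
-- import your own Cfsg.Agent.* helpers here

set_option autoImplicit false
open Cfsg

namespace Cfsg.Agent.S0032

/-- If an automorphism of a finite group fixes only the identity and maps a normal subgroup N into itself, then the only cosets of N it fixes are those in N: a fixed coset xN forces x ∈ N. -/
theorem result {G : Type*} [Group G] [Finite G] (φ : G ≃* G)
    (hφ : MonoidHom.FixedPointFree (φ : G →* G)) (N : Subgroup G) [N.Normal] (hN : ∀ n ∈ N, φ n ∈ N)
    (x : G) (hx : (φ x)⁻¹ * x ∈ N) : x ∈ N := by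
  classical
  -- the map m ↦ (φ m)⁻¹ * m on N is injective, hence surjective
  let f : N → N := fun m => ⟨(φ (m : G))⁻¹ * (m : G), N.mul_mem (N.inv_mem (hN _ m.2)) m.2⟩
  have key : ∀ a b : G, (φ a)⁻¹ * a = (φ b)⁻¹ * b → a = b := by
    intro a b hab
    have h1 : φ (a * b⁻¹) = a * b⁻¹ := by
      rw [map_mul, map_inv]
      have h2 : a = φ a * ((φ b)⁻¹ * b) := by rw [← hab]; group
      calc φ a * (φ b)⁻¹ = (φ a * ((φ b)⁻¹ * b)) * b⁻¹ := by group
        _ = a * b⁻¹ := by rw [← h2]
    have h3 := hφ _ h1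
    exact mul_inv_eq_one.mp h3
  have hinj : Function.Injective f := by
    intro a b hab
    have : (φ (a : G))⁻¹ * (a : G) = (φ (b : G))⁻¹ * (b : G) := congrArg Subtype.val hab
    exact Subtype.ext (key _ _ this)
  have hsurj : Function.Surjective f := Finite.surjective_of_injective hinj
  obtain ⟨m, hm⟩ := hsurj ⟨_, hx⟩
  have hm' : (φ (m : G))⁻¹ * (m : G) = (φ x)⁻¹ * x := congrArg Subtype.val hm
  have := key _ _ hm'
  rw [← this]
  exact m.2

end Cfsg.Agent.S0032
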