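import Cfsg.Statements.S0046
-- import your own Cfsg.Agent.* helpers here
import Mathlib
import Cfsg.Agent.Lib.Helper1.FrobCount

set_option autoImplicit false
open Cfsg

namespace Cfsg.Agent.S0046

open Cfsg.Agent.Lib.Helper1 Subgroup
open scoped Pointwise

universe u

theorem isCoatom_conj_smul {G : Type*} [Group G] {M : Subgroup G} (hM : IsCoatom M) (g : G) :
    IsCoatom (MulAut.conj g • M) := by
  exact (OrderIso.isCoatom_iff ((MulAut.conj g : G ≃* G).mapSubgroup) M).mpr hM

theorem exists_normalizer_not_mem {G : Type*} [Group G] {A D : Subgroup G}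
    (hA : Group.IsNilpotent A) (hDA : D ≤ A) (hne : D ≠ A) :
    ∃ x ∈ A, x ∈ normalizer (D : Set G) ∧ x ∉ D := by
  have hnc := normalizerCondition_of_isNilpotent (G := A)
  have hlt : D.subgroupOf A < ⊤ := by
    rw [lt_top_iff_ne_top]
    intro h
    rw [Subgroup.subgroupOf_eq_top] at h
    exact hne (le_antisymm hDA h)
  have h2 := hnc _ hlt
  obtain ⟨x, hx, hxD⟩ := SetLike.exists_of_lt h2
  refine ⟨x, x.2, ?_, ?_⟩
  · rw [← Subgroup.subgroupOf_normalizer_eq hDA] at hx
    exact Subgroup.mem_subgroupOf.mp hx
  · intro h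
    exact hxD (Subgroup.mem_subgroupOf.mpr h)

theorem simple_case {G : Type*} [Group G] [Finite G] [IsSimpleGroup G]
    (h : ∀ M : Subgroup G, IsCoatom M → Group.IsNilpotent M) : Group.IsSolvable G := by
  classical
  by_contra hns
  have hnc : ¬ ∀ a b : G, a * b = b * a := fun hc => hns (isSolvable_of_comm hc)
  -- no element generates `G`
  have hzp : ∀ x : G, zpowers x ≠ ⊤ := by
    intro x hx
    apply hnc
    intro a b
    have ha : a ∈ zpowers x := hx ▸ mem_top a
    have hb : b ∈ zpowers x := hx ▸ mem_top b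
    obtain ⟨i, rfl⟩ := mem_zpowers_iff.mp ha
    obtain ⟨j, rfl⟩ := mem_zpowers_iff.mp hb
    rw [← zpow_add, ← zpow_add, add_comm]
  -- coatoms are nontrivial
  have hcoat_ne_bot : ∀ M : Subgroup G, IsCoatom M → M ≠ ⊥ := by
    intro M hM hb
    obtain ⟨x, hx⟩ : ∃ x : G, x ≠ 1 := exists_ne 1
    have hlt : (⊥ : Subgroup G) < zpowers x := by
      rw [bot_lt_iff_ne_bot]
      intro h0
      exact hx (zpowers_eq_bot.mp h0)
    exact hzp x (hM.2 _ (hb ▸ hlt))
  -- coatoms are self-normalizing
  have hself : ∀ M : Subgroup G, IsCoatom M → ∀ g : G, MulAut.conj g • M = M → g ∈ M := by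
    intro M hM g hg
    by_contra hgM
    have hle : M ≤ normalizer (M : Set G) := le_normalizer
    have hgN : g ∈ normalizer (M : Set G) := mem_normalizer_iff_map_conj_eq.mpr hg
    have hlt : M < normalizer (M : Set G) :=
      lt_of_le_of_ne hle (fun he => hgM (by rw [he]; exact hgN))
    have htop := hM.2 _ hlt
    have hMn : M.Normal := normalizer_eq_top_iff.mp htop
    rcases hMn.eq_bot_or_eq_top with hb | ht
    · exact hcoat_ne_bot M hM hb
    · exact hM.1 ht
  -- distinct coatoms intersect trivially
  have hTI : ∀ M₁ M₂ : Subgroup G, IsCoatom M₁ → IsCoatom M₂ → M₁ ≠ M₂ → M₁ ⊓ M₂ = ⊥ := by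
    by_contra hcon
    push Not at hcon
    let S := {P : Subgroup G × Subgroup G //
      IsCoatom P.1 ∧ IsCoatom P.2 ∧ P.1 ≠ P.2 ∧ P.1 ⊓ P.2 ≠ ⊥}
    obtain ⟨M₁, M₂, h1, h2, hne, hD⟩ := hcon
    have hSne : Nonempty S := ⟨⟨(M₁, M₂), h1, h2, hne, hD⟩⟩
    obtain ⟨⟨⟨A, B⟩, hA, hB, hAB, hD⟩, hmax⟩ :=
      Finite.exists_max (fun P : S => Nat.card (P.1.1 ⊓ P.1.2 : Subgroup G))
    simp only at hA hB hAB hD hmax
    set D := A ⊓ B with hDdef
    have hDn : normalizer (D : Set G) ≠ ⊤ := by
      intro ht
      have hDnorm : D.Normal := normalizer_eq_top_iff.mp ht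
      rcases hDnorm.eq_bot_or_eq_top with hb | ht'
      · exact hD hb
      · apply hA.1
        rw [eq_top_iff, ← ht']
        exact inf_le_left
    obtain ⟨M, hM, hNM⟩ := (eq_top_or_exists_le_coatom (normalizer (D : Set G))).resolve_left hDn
    -- `M = A`
    have key : ∀ C : Subgroup G, IsCoatom C → D ≤ C → D ≠ C → M = C := by
      intro C hC hDC hDneC
      by_contra hMC
      obtain ⟨x, hxC, hxN, hxD⟩ := exists_normalizer_not_mem (h C hC) hDC hDneC
      have hle : D ≤ M ⊓ C := le_inf (le_normalizer.trans hNM) hDC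
      have hxMC : x ∈ M ⊓ C := ⟨hNM hxN, hxC⟩
      have hne' : M ⊓ C ≠ ⊥ := by
        intro hb
        apply hD
        rw [eq_bot_iff, ← hb]
        exact hle
      have := hmax ⟨(M, C), hM, hC, hMC, hne'⟩
      simp only at this
      have heq := Subgroup.eq_of_le_of_card_ge hle this
      exact hxD (heq ▸ hxMC)
    have hDA : D ≠ A := by
      intro he
      have hAB' : A ≤ B := by rw [← he]; exact inf_le_right
      rcases eq_or_lt_of_le hAB' with he' | hlt
      · exact hAB he'
      · exact hB.1 (hA.2 _ hlt)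
    have hDB : D ≠ B := by
      intro he
      have hBA : B ≤ A := by rw [← he]; exact inf_le_left
      rcases eq_or_lt_of_le hBA with he' | hlt
      · exact hAB he'.symm
      · exact hA.1 (hB.2 _ hlt)
    have e1 := key A hA inf_le_left hDA
    have e2 := key B hB inf_le_right hDB
    exact hAB (e1.symm.trans e2)
  -- every coatom is TI and self-normalizing
  have hcoatTI : ∀ M : Subgroup G, IsCoatom M → IsTISelf M := by
    intro M hM g hg
    apply hTI M _ hM (isCoatom_conj_smul hM g)
    intro he
    exact hg (hself M hM g he.symm)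
  -- pick a coatom
  obtain ⟨M, hM, -⟩ := (eq_top_or_exists_le_coatom (⊥ : Subgroup G)).resolve_left bot_ne_top
  have hMTI := hcoatTI M hM
  have hMne := hcoat_ne_bot M hM
  -- an element outside all conjugates of `M`
  have hex : ∃ x : G, x ≠ 1 ∧ ∀ g : G, x ∉ MulAut.conj g • M := by
    by_contra hcon
    push Not at hcon
    have hsub : ({1} : Set G)ᶜ ⊆ conjUnion M := by
      intro x hx
      exact ⟨hx, hcon x hx⟩
    have h1 := Set.ncard_le_ncard hsub (Set.toFinite _)
    rw [Set.ncard_compl, Set.ncard_singleton, ← Nat.card_coe_set_eq] at h1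
    have h2 := card_conjUnion_add_index hMTI
    have h3 : M.index ≠ 1 := fun h1 => hM.1 (Subgroup.index_eq_one.mp h1)
    have h4 : M.index ≠ 0 := Subgroup.index_ne_zero_of_finite
    omega
  obtain ⟨x, hx1, hx⟩ := hex
  obtain ⟨M', hM', hxM'⟩ := (eq_top_or_exists_le_coatom (zpowers x)).resolve_left (hzp x)
  obtain ⟨g, hg⟩ := exists_conj_inf_ne_bot hMTI (hcoatTI M' hM') hMne (hcoat_ne_bot M' hM')
  have heq : M = MulAut.conj g • M' := by
    by_contra hne
    exact hg (hTI M _ hM (isCoatom_conj_smul hM' g) hne)
  have hxM : x ∈ M' := hxM' (mem_zpowers x)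
  apply hx g⁻¹
  rw [heq, mem_conj_smul_iff, mem_conj_smul_iff]
  convert hxM using 1
  group

theorem schmidt_aux : ∀ (n : ℕ) (G : Type u) [Group G] [Finite G], Nat.card G = n →
    (∀ M : Subgroup G, IsCoatom M → Group.IsNilpotent M) → Group.IsSolvable G := by
  intro n
  induction n using Nat.strong_induction_on with
  | _ n ih =>
    intro G _ _ hn h
    by_cases hex : ∃ N : Subgroup G, N.Normal ∧ N ≠ ⊥ ∧ N ≠ ⊤
    · obtain ⟨N, hNn, hNb, hNt⟩ := hex
      -- the quotient
      have hq : Group.IsSolvable (G ⧸ N) := by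
        apply ih (Nat.card (G ⧸ N)) _ (G ⧸ N) rfl
        · intro Mb hMb
          have hcoat := Subgroup.isCoatom_comap_of_surjective (QuotientGroup.mk'_surjective N) hMb
          have hnil := h _ hcoat
          have hmap : (Mb.comap (QuotientGroup.mk' N)).map (QuotientGroup.mk' N) = Mb :=
            Subgroup.map_comap_eq_self_of_surjective (QuotientGroup.mk'_surjective N) Mb
          have hs := (QuotientGroup.mk' N).subgroupMap_surjective (Mb.comap (QuotientGroup.mk' N))
          have := nilpotent_of_surjective _ hs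
          rw [hmap] at this
          exact this
        · rw [← hn, ← Subgroup.index_eq_card, ← N.index_mul_card]
          have h1 : 1 < Nat.card N := by
            have h1 : 1 ≤ Nat.card N := Nat.card_pos
            have : Nat.card N ≠ 1 := fun h => hNb (Subgroup.card_eq_one.mp h)
            omega
          have h2 : 0 < N.index := Nat.pos_of_ne_zero Subgroup.index_ne_zero_of_finite
          nlinarith
      -- `N` is solvable
      obtain ⟨M, hM, hNM⟩ := (eq_top_or_exists_le_coatom N).resolve_left hNt
      have hMn : Group.IsNilpotent M := h M hM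
      have hMs : Group.IsSolvable M := inferInstance
      have hNs : Group.IsSolvable N :=
        solvable_of_solvable_injective (Subgroup.inclusion_injective hNM)
      exact solvable_of_ker_le_range N.subtype (QuotientGroup.mk' N) (by
        rw [QuotientGroup.ker_mk', Subgroup.range_subtype])
    · push Not at hex
      by_cases hsub : Subsingleton G
      · exact isSolvable_of_comm (fun a b => Subsingleton.elim _ _)
      · rw [not_subsingleton_iff_nontrivial] at hsub
        have : IsSimpleGroup G := by
          refine ⟨fun N hN => ?_⟩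
          by_contra hcon
          push Not at hcon
          exact hcon.2 (hex N hN hcon.1)
        exact simple_case h

/-- Schmidt's Theorem on minimal non-nilpotent groups: a finite group in which every maximal subgroup is nilpotent is solvable. -/
theorem result {G : Type*} [Group G] [Finite G]
    (h : ∀ M : Subgroup G, IsCoatom M → Group.IsNilpotent M) : Group.IsSolvable G := by
  exact schmidt_aux _ G rfl h

end Cfsg.Agent.S0046
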