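import Cfsg.Statements.S0047
-- import your own Cfsg.Agent.* helpers here
import Mathlib
import Cfsg.Agent.Lib.Helper1.Commutator

set_option autoImplicit false
open Cfsg

namespace Cfsg.Agent.S0047

open Cfsg.Agent.Lib.Helper1 Subgroup
open scoped commutatorElement

/-- `y * ⁅x, z⁆ * y⁻¹ = ⁅y x y⁻¹, z⁆` when `y` commutes with `z` -/
theorem conj_comm_left {G : Type*} [Group G] (x y z : G) (h : y * z = z * y) :
    y * ⁅x, z⁆ * y⁻¹ = ⁅y * x * y⁻¹, z⁆ := by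
  have hz : y * z * y⁻¹ = z := by rw [h, mul_inv_cancel_right]
  calc y * ⁅x, z⁆ * y⁻¹ = ⁅y * x * y⁻¹, y * z * y⁻¹⁆ := by
        simp only [commutatorElement_def]; group
    _ = ⁅y * x * y⁻¹, z⁆ := by rw [hz]

/-- `y * ⁅x, z⁆ * y⁻¹ = ⁅x, y z y⁻¹⁆` when `y` commutes with `x` -/
theorem conj_comm_right {G : Type*} [Group G] (x y z : G) (h : y * x = x * y) :
    y * ⁅x, z⁆ * y⁻¹ = ⁅x, y * z * y⁻¹⁆ := by
  have hx : y * x * y⁻¹ = x := by rw [h, mul_inv_cancel_right]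
  calc y * ⁅x, z⁆ * y⁻¹ = ⁅y * x * y⁻¹, y * z * y⁻¹⁆ := by
        simp only [commutatorElement_def]; group
    _ = ⁅x, y * z * y⁻¹⁆ := by rw [hx]

/-- `⁅x * w, z⁆ = ⁅x, z⁆` when `w` commutes with `z` -/
theorem comm_mul_left {G : Type*} [Group G] (x w z : G) (h : w * z = z * w) :
    ⁅x * w, z⁆ = ⁅x, z⁆ := by
  have hz : w * z * w⁻¹ = z := by rw [h, mul_inv_cancel_right]
  calc ⁅x * w, z⁆ = x * (w * z * w⁻¹) * x⁻¹ * z⁻¹ := by
        simp only [commutatorElement_def]; group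
    _ = ⁅x, z⁆ := by rw [hz, commutatorElement_def]

/-- `⁅x, z * w⁆ = ⁅x, z⁆` when `w` commutes with `x` -/
theorem comm_mul_right {G : Type*} [Group G] (x z w : G) (h : w * x = x * w) :
    ⁅x, z * w⁆ = ⁅x, z⁆ := by
  have hx : w * x⁻¹ * w⁻¹ = x⁻¹ := by
    have : w * x⁻¹ = x⁻¹ * w := by
      have := congrArg (fun t => x⁻¹ * t * x⁻¹) h
      simp only [mul_assoc, inv_mul_cancel_left, mul_inv_cancel, mul_one] at this
      exact this.symm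
    rw [this, mul_inv_cancel_right]
  calc ⁅x, z * w⁆ = x * z * (w * x⁻¹ * w⁻¹) * z⁻¹ := by
        simp only [commutatorElement_def]; group
    _ = ⁅x, z⁆ := by rw [hx, commutatorElement_def]

/-- A finite group which is the product AB of two abelian subgroups A and B is solvable. -/
theorem result {G : Type*} [Group G] [Finite G] (A B : Subgroup G)
    [IsMulCommutative A] [IsMulCommutative B] (hAB : ∀ g : G, ∃ a ∈ A, ∃ b ∈ B, g = a * b) :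
    Group.IsSolvable G := by
  have hA : ∀ x ∈ A, ∀ y ∈ A, x * y = y * x := fun x hx y hy =>
    congrArg Subtype.val (mul_comm' (⟨x, hx⟩ : A) ⟨y, hy⟩)
  have hB : ∀ x ∈ B, ∀ y ∈ B, x * y = y * x := fun x hx y hy =>
    congrArg Subtype.val (mul_comm' (⟨x, hx⟩ : B) ⟨y, hy⟩)
  have hBA : ∀ g : G, ∃ b ∈ B, ∃ a ∈ A, g = b * a := by
    intro g
    obtain ⟨a, ha, b, hb, h⟩ := hAB g⁻¹
    refine ⟨b⁻¹, B.inv_mem hb, a⁻¹, A.inv_mem ha, ?_⟩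
    rw [← mul_inv_rev, ← h, inv_inv]
  -- Itô's computation
  have key : ∀ a ∈ A, ∀ b ∈ B, ∀ a₁ ∈ A, ∀ b₁ ∈ B,
      (a₁ * b₁) * ⁅a, b⁆ * (a₁ * b₁)⁻¹ = (b₁ * a₁) * ⁅a, b⁆ * (b₁ * a₁)⁻¹ := by
    intro a ha b hb a₁ ha₁ b₁ hb₁
    obtain ⟨a₃, ha₃, b₃, hb₃, h3⟩ := hAB (b₁ * a * b₁⁻¹)
    obtain ⟨b₂, hb₂, a₂, ha₂, h2⟩ := hBA (a₁ * b * a₁⁻¹)
    have hL : (a₁ * b₁) * ⁅a, b⁆ * (a₁ * b₁)⁻¹ = ⁅a₃, b₂⁆ := by
      calc (a₁ * b₁) * ⁅a, b⁆ * (a₁ * b₁)⁻¹ = a₁ * (b₁ * ⁅a, b⁆ * b₁⁻¹) * a₁⁻¹ := by group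
        _ = a₁ * ⁅a₃ * b₃, b⁆ * a₁⁻¹ := by rw [conj_comm_left a b₁ b (hB _ hb₁ _ hb), h3]
        _ = a₁ * ⁅a₃, b⁆ * a₁⁻¹ := by rw [comm_mul_left a₃ b₃ b (hB _ hb₃ _ hb)]
        _ = ⁅a₃, b₂ * a₂⁆ := by rw [conj_comm_right a₃ a₁ b (hA _ ha₁ _ ha₃), h2]
        _ = ⁅a₃, b₂⁆ := comm_mul_right a₃ b₂ a₂ (hA _ ha₂ _ ha₃)
    have hR : (b₁ * a₁) * ⁅a, b⁆ * (b₁ * a₁)⁻¹ = ⁅a₃, b₂⁆ := by
      calc (b₁ * a₁) * ⁅a, b⁆ * (b₁ * a₁)⁻¹ = b₁ * (a₁ * ⁅a, b⁆ * a₁⁻¹) * b₁⁻¹ := by group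
        _ = b₁ * ⁅a, b₂ * a₂⁆ * b₁⁻¹ := by rw [conj_comm_right a a₁ b (hA _ ha₁ _ ha), h2]
        _ = b₁ * ⁅a, b₂⁆ * b₁⁻¹ := by rw [comm_mul_right a b₂ a₂ (hA _ ha₂ _ ha)]
        _ = ⁅a₃ * b₃, b₂⁆ := by rw [conj_comm_left a b₁ b₂ (hB _ hb₁ _ hb₂), h3]
        _ = ⁅a₃, b₂⁆ := comm_mul_left a₃ b₃ b₂ (hB _ hb₃ _ hb₂)
    rw [hL, hR]
  -- generators of `⁅A, B⁆` commute
  have hcomm : ∀ a ∈ A, ∀ b ∈ B, ∀ a₁ ∈ A, ∀ b₁ ∈ B, ⁅a₁, b₁⁆ * ⁅a, b⁆ = ⁅a, b⁆ * ⁅a₁, b₁⁆ := by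
    intro a ha b hb a₁ ha₁ b₁ hb₁
    have h := key a ha b hb a₁⁻¹ (A.inv_mem ha₁) b₁⁻¹ (B.inv_mem hb₁)
    have h' := congrArg (fun t => (b₁⁻¹ * a₁⁻¹)⁻¹ * t * (a₁⁻¹ * b₁⁻¹)) h
    simp only [commutatorElement_def] at h' ⊢
    have e1 : (b₁⁻¹ * a₁⁻¹)⁻¹ * (a₁⁻¹ * b₁⁻¹ * (a * b * a⁻¹ * b⁻¹) * (a₁⁻¹ * b₁⁻¹)⁻¹) * (a₁⁻¹ * b₁⁻¹)
        = a₁ * b₁ * a₁⁻¹ * b₁⁻¹ * (a * b * a⁻¹ * b⁻¹) := by group
    have e2 : (b₁⁻¹ * a₁⁻¹)⁻¹ * (b₁⁻¹ * a₁⁻¹ * (a * b * a⁻¹ * b⁻¹) * (b₁⁻¹ * a₁⁻¹)⁻¹) * (a₁⁻¹ * b₁⁻¹)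
        = a * b * a⁻¹ * b⁻¹ * (a₁ * b₁ * a₁⁻¹ * b₁⁻¹) := by group
    rw [e1, e2] at h'
    exact h'
  set C : Subgroup G := ⁅A, B⁆ with hC
  have hCC : ⁅C, C⁆ = ⊥ := by
    rw [Subgroup.commutator_eq_bot_iff_le_centralizer]
    rw [hC, Subgroup.commutator_def, Subgroup.closure_le]
    rintro _ ⟨a₁, ha₁, b₁, hb₁, rfl⟩
    rw [SetLike.mem_coe, ← Subgroup.commutator_def, Subgroup.mem_centralizer_iff]
    intro y hy
    have hy' : y ∈ Subgroup.closure {g | ∃ g₁ ∈ A, ∃ g₂ ∈ B, ⁅g₁, g₂⁆ = g} := hy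
    have : Subgroup.closure {g | ∃ g₁ ∈ A, ∃ g₂ ∈ B, ⁅g₁, g₂⁆ = g} ≤
        centralizer {⁅a₁, b₁⁆} := by
      rw [Subgroup.closure_le]
      rintro _ ⟨a, ha, b, hb, rfl⟩
      rw [SetLike.mem_coe, Subgroup.mem_centralizer_iff]
      intro z hz
      rw [Set.mem_singleton_iff.mp hz]
      exact hcomm a ha b hb a₁ ha₁ b₁ hb₁
    have h2 := this hy'
    rw [Subgroup.mem_centralizer_iff] at h2
    exact (h2 _ rfl).symm
  -- `C` is normal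
  have htop : A ⊔ B = ⊤ := by
    rw [eq_top_iff]
    intro g _
    obtain ⟨a, ha, b, hb, rfl⟩ := hAB g
    exact Subgroup.mul_mem _ (Subgroup.mem_sup_left ha) (Subgroup.mem_sup_right hb)
  have hCn : C.Normal := by
    rw [← Subgroup.normalizer_eq_top_iff, ← top_le_iff, ← htop]
    exact sup_le (le_normalizer_commutator_left A B) (le_normalizer_commutator_right A B)
  -- `G ⧸ C` is commutative
  have hquot : ∀ x y : G ⧸ C, x * y = y * x := by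
    have hab : ∀ a ∈ A, ∀ b ∈ B, (QuotientGroup.mk' C a) * (QuotientGroup.mk' C b) =
        (QuotientGroup.mk' C b) * (QuotientGroup.mk' C a) := by
      intro a ha b hb
      have h1 : ⁅a, b⁆ ∈ C := Subgroup.commutator_mem_commutator ha hb
      have h2 : QuotientGroup.mk' C ⁅a, b⁆ = 1 := (QuotientGroup.eq_one_iff _).mpr h1
      rw [map_commutatorElement, commutatorElement_eq_one_iff_mul_comm] at h2
      exact h2
    intro x y
    obtain ⟨g, rfl⟩ := QuotientGroup.mk'_surjective C x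
    obtain ⟨g', rfl⟩ := QuotientGroup.mk'_surjective C y
    obtain ⟨a, ha, b, hb, rfl⟩ := hAB g
    obtain ⟨a', ha', b', hb', rfl⟩ := hAB g'
    have haa : QuotientGroup.mk' C a * QuotientGroup.mk' C a' =
        QuotientGroup.mk' C a' * QuotientGroup.mk' C a := by
      rw [← map_mul, ← map_mul, hA a ha a' ha']
    have hbb : QuotientGroup.mk' C b * QuotientGroup.mk' C b' =
        QuotientGroup.mk' C b' * QuotientGroup.mk' C b := by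
      rw [← map_mul, ← map_mul, hB b hb b' hb']
    rw [map_mul, map_mul]
    calc QuotientGroup.mk' C a * QuotientGroup.mk' C b * (QuotientGroup.mk' C a' * QuotientGroup.mk' C b')
        = QuotientGroup.mk' C a * (QuotientGroup.mk' C b * QuotientGroup.mk' C a') * QuotientGroup.mk' C b' := by
          simp only [mul_assoc]
      _ = QuotientGroup.mk' C a * (QuotientGroup.mk' C a' * QuotientGroup.mk' C b) * QuotientGroup.mk' C b' := by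
          rw [hab a' ha' b hb]
      _ = (QuotientGroup.mk' C a * QuotientGroup.mk' C a') * (QuotientGroup.mk' C b * QuotientGroup.mk' C b') := by
          simp only [mul_assoc]
      _ = (QuotientGroup.mk' C a' * QuotientGroup.mk' C a) * (QuotientGroup.mk' C b' * QuotientGroup.mk' C b) := by
          rw [haa, hbb]
      _ = QuotientGroup.mk' C a' * (QuotientGroup.mk' C a * QuotientGroup.mk' C b') * QuotientGroup.mk' C b := by
          simp only [mul_assoc]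
      _ = QuotientGroup.mk' C a' * (QuotientGroup.mk' C b' * QuotientGroup.mk' C a) * QuotientGroup.mk' C b := by
          rw [hab a ha b' hb']
      _ = QuotientGroup.mk' C a' * QuotientGroup.mk' C b' * (QuotientGroup.mk' C a * QuotientGroup.mk' C b) := by
          simp only [mul_assoc]
  have hder : commutator G ≤ C := by
    rw [commutator_def, Subgroup.commutator_le]
    intro g _ g' _
    rw [← QuotientGroup.eq_one_iff, ← QuotientGroup.mk'_apply, map_commutatorElement,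
      commutatorElement_eq_one_iff_mul_comm]
    exact hquot _ _
  rw [isSolvable_def]
  refine ⟨2, ?_⟩
  rw [derivedSeries_succ, derivedSeries_one, eq_bot_iff, ← hCC]
  exact Subgroup.commutator_mono hder hder

end Cfsg.Agent.S0047
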