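import Cfsg.Statements.S0048
-- import your own Cfsg.Agent.* helpers here
import Mathlib
import Cfsg.Agent.Lib.Helper1.MinNormal
import Cfsg.Agent.Lib.Helper1.SZConj
import Cfsg.Agent.Lib.Helper4.Basic

set_option autoImplicit false
open Cfsg

namespace Cfsg.Agent.S0048

open Cfsg.Agent.Lib.Helper1 Subgroup

theorem aux.{u} : ∀ (n : ℕ) (G : Type u) [Group G] [Finite G] [Group.IsSolvable G],
    Nat.card G = n → ∀ M : Subgroup G, IsCoatom M → IsPrimePow M.index := by
  intro n
  induction n using Nat.strong_induction_on with
  | _ n ih =>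
  intro G _ _ _ hn M hM
  have hnt : Nontrivial G := by
    by_contra h
    rw [not_nontrivial_iff_subsingleton] at h
    exact hM.1 (Subsingleton.elim _ _)
  obtain ⟨N, hN⟩ := exists_isMinNormal (G := G)
  have hNn : N.Normal := hN.1
  obtain ⟨p, hp, hNp⟩ := hN.exists_prime_isPGroup
  have : Fact p.Prime := ⟨hp⟩
  by_cases hNM : N ≤ M
  · -- pass to the quotient
    set π := QuotientGroup.mk' N with hπ
    have hπs : Function.Surjective π := QuotientGroup.mk'_surjective N
    have hker : π.ker ≤ M := by rw [QuotientGroup.ker_mk']; exact hNM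
    have hidx : (M.map π).index = M.index := Subgroup.index_map_eq M hπs hker
    have hcomap : (M.map π).comap π = M := by
      rw [Subgroup.comap_map_eq, sup_eq_left.mpr hker]
    have hcoatom : IsCoatom (M.map π) := by
      constructor
      · intro h
        have : M = ⊤ := by rw [← hcomap, h, Subgroup.comap_top]
        exact hM.1 this
      · intro L hL
        have h1 : M < L.comap π := by
          rw [← hcomap]
          refine lt_of_le_of_ne (Subgroup.comap_mono hL.le) (fun h => hL.ne ?_)
          exact Subgroup.comap_injective hπs h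
        have h2 := hM.2 _ h1
        rw [← Subgroup.map_comap_eq_self_of_surjective hπs L, h2]
        exact Subgroup.map_top_of_surjective π hπs
    have hcard : Nat.card (G ⧸ N) < n := hn ▸ card_quotient_lt_of_ne_bot hN.2.1
    rw [← hidx]
    exact ih _ hcard (G ⧸ N) rfl _ hcoatom
  · have hsup : M ⊔ N = ⊤ :=
      hM.2 _ (lt_of_le_of_ne le_sup_left (fun h => hNM (h ▸ le_sup_right)))
    have h1 : M.relIndex (M ⊔ N) = M.relIndex N :=
      Cfsg.Agent.Lib.Helper4.relIndex_sup_left_of_le_normalizer M N
        (by rw [Subgroup.normalizer_eq_top]; exact le_top)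
    rw [hsup, Subgroup.relIndex_top_right] at h1
    have h2 : M.index ∣ Nat.card N := h1 ▸ Subgroup.relIndex_dvd_card M N
    obtain ⟨k, hk⟩ := IsPGroup.iff_card.mp hNp
    rw [hk] at h2
    obtain ⟨j, -, hj⟩ := (Nat.dvd_prime_pow hp).mp h2
    refine ⟨p, j, hp.prime, ?_, hj.symm⟩
    rcases Nat.eq_zero_or_pos j with h0 | hpos
    · exfalso
      rw [h0, pow_zero] at hj
      exact hM.1 (Subgroup.index_eq_one.mp hj)
    · exact hpos

/-- In a finite solvable group every maximal subgroup has index a prime power. -/
theorem result {G : Type*} [Group G] [Finite G] [Group.IsSolvable G]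
    (M : Subgroup G) (hM : IsCoatom M) : IsPrimePow M.index := by
  exact aux _ G rfl M hM

end Cfsg.Agent.S0048
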