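import Cfsg.Statements.S0049
-- import your own Cfsg.Agent.* helpers here
import Mathlib

set_option autoImplicit false
open Cfsg

namespace Cfsg.Agent.S0049

/-- A prime divisor of the order of a finite group also divides the index of the Frattini subgroup. -/
theorem result {G : Type*} [Group G] [Finite G] (p : ℕ) (hp : p.Prime) (hdvd : p ∣ Nat.card G) :
    p ∣ (frattini G).index := by
  classical
  have : Fact p.Prime := ⟨hp⟩
  by_contra hnd
  set Φ := frattini G with hΦ
  have : Group.IsNilpotent Φ := frattini_nilpotent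
  obtain ⟨P₀⟩ : Nonempty (Sylow p Φ) := inferInstance
  have : (P₀ : Subgroup Φ).Characteristic := Sylow.characteristic_of_normal P₀ inferInstance
  set P : Subgroup G := (P₀ : Subgroup Φ).map Φ.subtype with hP
  have hPn : P.Normal := inferInstance
  have hPΦ : P ≤ Φ := Subgroup.map_subtype_le _
  have hPidx : P.index = (P₀ : Subgroup Φ).index * Φ.index := Subgroup.index_map_subtype _
  have hPp : IsPGroup p P := P₀.isPGroup'.map _
  obtain ⟨k, hk⟩ := IsPGroup.iff_card.mp hPp
  have hnd' : ¬ p ∣ P.index := by
    rw [hPidx]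
    intro h
    rcases (Nat.Prime.dvd_mul hp).mp h with h | h
    · exact P₀.not_dvd_index h
    · exact hnd h
  have hcop : Nat.Coprime (Nat.card P) P.index := by
    rw [hk]
    exact Nat.Coprime.pow_left _ ((Nat.Prime.coprime_iff_not_dvd hp).mpr hnd')
  obtain ⟨H, hH⟩ := Subgroup.exists_right_complement'_of_coprime hcop
  have hsup : P ⊔ H = ⊤ := hH.sup_eq_top
  have hH' : H ⊔ frattini G = ⊤ := by
    apply top_le_iff.mp
    rw [← hsup, sup_comm]
    exact sup_le_sup_left hPΦ H
  have hHtop : H = ⊤ := frattini_nongenerating hH'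
  have hmul := hH.card_mul_card
  rw [hHtop, Subgroup.card_top] at hmul
  have hP1 : Nat.card P = 1 := by
    have hpos : 0 < Nat.card G := Nat.card_pos
    exact Nat.eq_of_mul_eq_mul_right hpos (by rw [hmul, one_mul])
  have : P.index = Nat.card G := by
    rw [← P.card_mul_index, hP1, one_mul]
  rw [this] at hnd'
  exact hnd' hdvd

end Cfsg.Agent.S0049
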