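import Cfsg.Statements.S0050
-- import your own Cfsg.Agent.* helpers here
import Cfsg.Agent.Lib.Helper1.Hall

set_option autoImplicit false
open Cfsg

namespace Cfsg.Agent.S0050

open Pointwise
open Cfsg.Agent.Lib.Helper1

/-- Frattini argument for Hall subgroups: if L is a solvable normal subgroup and H a subgroup of L of order coprime to its index in L, then L together with the normaliser of H generates the whole group. -/
theorem result {G : Type*} [Group G] [Finite G] (L : Subgroup G) [L.Normal] (hL : Group.IsSolvable L)
    (H : Subgroup G) (hHL : H ≤ L) (hHall : (Nat.card H).Coprime (H.relIndex L)) :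
    L ⊔ Subgroup.normalizer (H : Set G) = ⊤ := by
  classical
  have := hL
  rw [eq_top_iff]
  intro g _
  set H' : Subgroup G := MulAut.conj g • H with hH'
  have hH'L : H' ≤ L := by
    intro x hx
    rw [hH', mem_conj_smul_iff] at hx
    have := (inferInstance : L.Normal).conj_mem _ (hHL hx) g
    simpa [mul_assoc] using this
  have hc1 : Nat.card (H.subgroupOf L) = Nat.card H :=
    Nat.card_congr (Subgroup.subgroupOfEquivOfLe hHL).toEquiv
  have hc2 : Nat.card (H'.subgroupOf L) = Nat.card H := by
    rw [Nat.card_congr (Subgroup.subgroupOfEquivOfLe hH'L).toEquiv, hH', card_conj_smul]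
  have hcardL : Nat.card L = Nat.card H * H.relIndex L := by
    have := (H.subgroupOf L).card_mul_index
    rw [hc1] at this
    exact this.symm
  obtain ⟨l, hl⟩ := hall_conj (G := L) (Nat.card H) (H.relIndex L) hcardL hHall
    (H.subgroupOf L) (H'.subgroupOf L) hc1 hc2
  have h1 : MulAut.conj (l : G) • H = MulAut.conj g • H :=
    conj_eq_of_subgroupOf_conj_eq hHL hH'L l hl
  have h2 : MulAut.conj ((l : G)⁻¹ * g) • H = H := by
    rw [map_mul, mul_smul, ← h1, ← mul_smul, ← map_mul, inv_mul_cancel, map_one, one_smul]
  have h3 : (l : G)⁻¹ * g ∈ Subgroup.normalizer (H : Set G) := by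
    rw [Subgroup.mem_normalizer_iff_map_conj_eq]
    exact h2
  have h4 : g = (l : G) * ((l : G)⁻¹ * g) := by group
  rw [h4]
  exact Subgroup.mul_mem_sup l.2 h3

end Cfsg.Agent.S0050
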