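import Cfsg.Statements.S0052
-- import your own Cfsg.Agent.* helpers here
import Mathlib
import Cfsg.Agent.Lib.Helper1.Basic
import Cfsg.Agent.Lib.Helper1.ComplProj

set_option autoImplicit false
open Pointwise
open Cfsg

namespace Cfsg.Agent.S0052

open Cfsg.Agent.Lib.Helper1 Subgroup
open scoped Pointwise IsMulCommutative

/-- Gaschütz's Theorem, conjugacy: for an abelian normal subgroup K ≤ U with the order of K coprime to the index of U, two complements of K in G having the same intersection with U are conjugate. -/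
theorem result {G : Type*} [Group G] [Finite G] (K U : Subgroup G) [K.Normal] [IsMulCommutative K]
    (hKU : K ≤ U) (hcop : (Nat.card K).Coprime U.index)
    (H₀ H₁ : Subgroup G) (h₀ : Subgroup.IsComplement' K H₀) (h₁ : Subgroup.IsComplement' K H₁) (hU : H₀ ⊓ U = H₁ ⊓ U) :
    ∃ g : G, MulAut.conj g • H₀ = H₁ := by
  classical
  letI : Fintype (G ⧸ U) := Fintype.ofFinite _
  set π₀ := complProj h₀ with hπ₀
  set π₁ := complProj h₁ with hπ₁
  have hKn : K.Normal := inferInstance
  -- the difference cocycle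
  have hδmem : ∀ g : G, ((π₁ g : H₁) : G) * ((π₀ g : H₀) : G)⁻¹ ∈ K := by
    intro g
    have a := complProj_mul_inv_mem h₀ g
    have b := complProj_mul_inv_mem h₁ g
    have e : ((π₁ g : H₁) : G) * ((π₀ g : H₀) : G)⁻¹ =
        (g * ((π₁ g : H₁) : G)⁻¹)⁻¹ * (g * ((π₀ g : H₀) : G)⁻¹) := by group
    rw [e]
    exact K.mul_mem (K.inv_mem b) a
  let δ : G → K := fun g => ⟨_, hδmem g⟩
  have hδval : ∀ g, ((δ g : K) : G) = ((π₁ g : H₁) : G) * ((π₀ g : H₀) : G)⁻¹ := fun g => rfl
  -- conjugation by `π₀ g` and by `g` agree on `K`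
  have hconj : ∀ (g : G) (x : K),
      ((π₀ g : H₀) : G) * x * ((π₀ g : H₀) : G)⁻¹ = g * x * g⁻¹ := by
    intro g x
    have hc := complProj_inv_mul_mem h₀ g
    set c : K := ⟨_, hc⟩ with hcdef
    have hcx : (c : G) * x = x * c := congrArg Subtype.val (mul_comm c x)
    have hg : g = ((π₀ g : H₀) : G) * c := by
      rw [hcdef]
      show g = ((π₀ g : H₀) : G) * (((π₀ g : H₀) : G)⁻¹ * g)
      group
    calc ((π₀ g : H₀) : G) * x * ((π₀ g : H₀) : G)⁻¹
        = ((π₀ g : H₀) : G) * (x * c) * (c : G)⁻¹ * ((π₀ g : H₀) : G)⁻¹ := by group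
      _ = ((π₀ g : H₀) : G) * (c * x) * (c : G)⁻¹ * ((π₀ g : H₀) : G)⁻¹ := by rw [hcx]
      _ = (((π₀ g : H₀) : G) * c) * x * (((π₀ g : H₀) : G) * c)⁻¹ := by group
      _ = g * x * g⁻¹ := by rw [← hg]
  have hcocycle : ∀ g g' : G, δ (g * g') = δ g * MulAut.conjNormal g (δ g') := by
    intro g g'
    apply Subtype.ext
    rw [Subgroup.coe_mul, MulAut.conjNormal_apply, ← hconj g (δ g'), hδval, hδval, hδval,
      map_mul, map_mul, Subgroup.coe_mul, Subgroup.coe_mul]
    group
  have hδU : ∀ u ∈ U, δ u = 1 := by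
    intro u hu
    apply Subtype.ext
    rw [hδval, Subgroup.coe_one]
    have hB : ((π₀ u : H₀) : G) ∈ H₀ ⊓ U := by
      refine Subgroup.mem_inf.mpr ⟨(π₀ u).2, ?_⟩
      have h2 := hKU (complProj_mul_inv_mem h₀ u)
      have e : ((π₀ u : H₀) : G) = (u * ((π₀ u : H₀) : G)⁻¹)⁻¹ * u := by group
      rw [e]
      exact U.mul_mem (U.inv_mem h2) hu
    rw [hU] at hB
    have := complProj_unique h₁ (Subgroup.mem_inf.mp hB).1 (complProj_inv_mul_mem h₀ u)
    rw [this]
    group
  have hδcoset : ∀ g u, u ∈ U → δ (g * u) = δ g := by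
    intro g u hu
    rw [hcocycle, hδU u hu, map_one, mul_one]
  set k : K := ∏ c : G ⧸ U, δ c.out with hk
  have hkey : ∀ g : G, δ g ^ U.index * MulAut.conjNormal g k = k := by
    intro g
    have h1 : ∏ c : G ⧸ U, δ (g * c.out) = δ g ^ U.index * MulAut.conjNormal g k := by
      simp_rw [hcocycle]
      rw [Finset.prod_mul_distrib, Finset.prod_const, Finset.card_univ, ← map_prod]
      congr 2
      rw [Subgroup.index_eq_card, Nat.card_eq_fintype_card]
    have h2 : ∏ c : G ⧸ U, δ (g * c.out) = ∏ c : G ⧸ U, δ ((g • c).out) := by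
      apply Finset.prod_congr rfl
      intro c _
      have e : g • c = QuotientGroup.mk (g * c.out) := by
        conv_lhs => rw [← QuotientGroup.out_eq' c]
        rfl
      obtain ⟨u, hu⟩ := QuotientGroup.mk_out_eq_mul U (g * c.out)
      rw [e, hu, hδcoset _ _ u.2]
    have h3 : ∏ c : G ⧸ U, δ ((g • c).out) = k :=
      Equiv.prod_comp (MulAction.toPerm g) (fun c : G ⧸ U => δ c.out)
    rw [← h1, h2, h3]
  obtain ⟨z, hz⟩ : ∃ z : ℤ, ∀ x : K, (x ^ U.index) ^ z = x :=
    ⟨(Nat.card K).gcdB U.index, fun x => (powCoprime hcop).left_inv x⟩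
  set k' : K := k ^ z with hk'
  have hδeq : ∀ g : G, δ g = k' * (MulAut.conjNormal g k')⁻¹ := by
    intro g
    have h1 : δ g ^ U.index = k * (MulAut.conjNormal g k)⁻¹ := by
      rw [eq_mul_inv_iff_mul_eq]
      exact hkey g
    rw [← hz (δ g), h1, mul_zpow, inv_zpow, ← map_zpow]
  have hfinal : ∀ h ∈ H₀, ((π₁ h : H₁) : G) = k' * h * (k' : G)⁻¹ := by
    intro h hh
    have h1 := congrArg Subtype.val (hδeq h)
    rw [hδval, complProj_of_mem h₀ hh, Subgroup.coe_mul, Subgroup.coe_inv,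
      MulAut.conjNormal_apply] at h1
    have e : ((π₁ h : H₁) : G) = (((π₁ h : H₁) : G) * h⁻¹) * h := by group
    rw [e, h1]
    group
  refine ⟨k', le_antisymm ?_ ?_⟩
  · intro y hy
    rw [mem_conj_smul_iff] at hy
    have h1 := hfinal _ hy
    have e : y = k' * ((k' : G)⁻¹ * y * k') * (k' : G)⁻¹ := by group
    rw [e, ← h1]
    exact (π₁ _).2
  · intro y hy
    rw [mem_conj_smul_iff]
    have h1 : ((π₁ ((π₀ y : H₀) : G) : H₁) : G) = y := by
      apply complProj_unique h₁ hy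
      have h3 := complProj_inv_mul_mem h₀ y
      have e : y⁻¹ * ((π₀ y : H₀) : G) = (((π₀ y : H₀) : G)⁻¹ * y)⁻¹ := by group
      rw [e]
      exact K.inv_mem h3
    have h2 := hfinal _ (π₀ y).2
    rw [h1] at h2
    rw [h2]
    convert (π₀ y).2 using 1
    group

end Cfsg.Agent.S0052
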