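import Cfsg.Statements.S0053
-- import your own Cfsg.Agent.* helpers here
import Mathlib

set_option autoImplicit false
open Cfsg

namespace Cfsg.Agent.S0053

open Subgroup
open Pointwise

/-- An abelian minimal normal subgroup N of a finite group is complemented exactly when N is not inside the Frattini subgroup. -/
theorem result {G : Type*} [Group G] [Finite G]
    (N : Subgroup G) [N.Normal] [IsMulCommutative N] (hN : N ≠ ⊥)
    (hmin : ∀ M : Subgroup G, M.Normal → M ≤ N → M = ⊥ ∨ M = N) :
    (∃ H : Subgroup G, Subgroup.IsComplement' N H) ↔ ¬ N ≤ frattini G := by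
  constructor
  · rintro ⟨H, hc⟩ hNF
    have hHtop : H ≠ ⊤ := by
      intro h
      apply hN
      have := hc.disjoint
      rw [h, disjoint_top] at this
      exact this
    obtain ⟨M, hM, hHM⟩ := (eq_top_or_exists_le_coatom H).resolve_left hHtop
    have h1 : N ≤ M := hNF.trans (frattini_le_coatom hM)
    have h2 : N ⊔ H ≤ M := sup_le h1 hHM
    rw [hc.sup_eq_top] at h2
    exact hM.1 (top_le_iff.mp h2)
  · intro hNF
    have hex : ∃ M : Subgroup G, IsCoatom M ∧ ¬ N ≤ M := by
      by_contra hcon
      apply hNF
      unfold frattini Order.radical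
      apply le_iInf₂
      intro M hM
      by_contra hNM
      exact hcon ⟨M, hM, hNM⟩
    obtain ⟨M, hM, hNM⟩ := hex
    have hsup : N ⊔ M = ⊤ := by
      apply hM.2
      exact lt_of_le_of_ne le_sup_right (fun h => hNM (h ▸ le_sup_left))
    have hDn : (N ⊓ M).Normal := by
      rw [← Subgroup.normalizer_eq_top_iff, ← top_le_iff, ← hsup]
      apply sup_le
      · intro n hn
        rw [Subgroup.mem_normalizer_iff]
        intro x
        have key : ∀ y ∈ N ⊓ M, n * y * n⁻¹ = y := by
          intro y hy
          have h := mul_comm' (⟨n, hn⟩ : N) ⟨y, hy.1⟩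
          have h' : n * y = y * n := congrArg Subtype.val h
          rw [h', mul_inv_cancel_right]
        constructor
        · intro hx
          rw [key x hx]; exact hx
        · intro hx
          have h2 := key _ hx
          have h3 : n * x * n⁻¹ = x := by
            have := congrArg (fun z => n⁻¹ * z * n) h2
            simp only [mul_assoc, inv_mul_cancel_left, inv_mul_cancel, mul_one] at this
            rw [← mul_assoc] at this
            exact this
          rw [← h3]; exact hx
      · exact (le_inf (Subgroup.le_normalizer_of_normal) Subgroup.le_normalizer).trans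
          Subgroup.inf_normalizer_le_normalizer_inf
    have hD : N ⊓ M = ⊥ := by
      rcases hmin (N ⊓ M) hDn inf_le_left with h | h
      · exact h
      · exact absurd (h ▸ inf_le_right) hNM
    refine ⟨M, isComplement'_of_disjoint_and_mul_eq_univ (disjoint_iff.mpr hD) ?_⟩
    rw [← Subgroup.normal_mul, hsup, Subgroup.coe_top]

end Cfsg.Agent.S0053
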