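import Cfsg.Statements.S0056
-- import your own Cfsg.Agent.* helpers here
import Mathlib
import Cfsg.Agent.Lib.Helper1.CoprimeAbelian
import Cfsg.Agent.Lib.Helper1.Commutator

set_option autoImplicit false
open Cfsg

namespace Cfsg.Agent.S0056

open Cfsg.Agent.Lib.Helper1 Subgroup

/-- A coprime action on an abelian group that fixes all elements of prime order is trivial. -/
theorem result {G : Type*} [Group G] [Finite G] (A V : Subgroup G) [IsMulCommutative V]
    (hAV : A ≤ Subgroup.normalizer (V : Set G)) (hcop : (Nat.card A).Coprime (Nat.card V))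
    (hΩ : ∀ v ∈ V, (orderOf v).Prime → ∀ a ∈ A, a * v = v * a) : A ≤ Subgroup.centralizer (V : Set G) := by
  rw [Subgroup.le_centralizer_iff, ← Subgroup.commutator_eq_bot_iff_le_centralizer]
  by_contra hne
  have hWV : ⁅V, A⁆ ≤ V := commutator_le_of_le_normalizer hAV
  have hcard : 1 < Nat.card (⁅V, A⁆ : Subgroup G) := (Subgroup.one_lt_card_iff_ne_bot _).mpr hne
  obtain ⟨q, hq, hqd⟩ := Nat.exists_prime_and_dvd (ne_of_gt hcard)
  have : Fact q.Prime := ⟨hq⟩
  obtain ⟨w, hw⟩ := exists_prime_orderOf_dvd_card' q hqd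
  have hwo : orderOf (w : G) = q := by rw [Subgroup.orderOf_coe]; exact hw
  have hwV : (w : G) ∈ V := hWV w.2
  have hwC : (w : G) ∈ centralizer (A : Set G) := by
    intro a ha
    exact hΩ w hwV (hwo ▸ hq) a ha
  have hmem : (w : G) ∈ (V ⊓ centralizer (A : Set G)) ⊓ ⁅V, A⁆ := ⟨⟨hwV, hwC⟩, w.2⟩
  rw [centralizer_inf_commutator_eq_bot A V hAV hcop, Subgroup.mem_bot] at hmem
  rw [hmem, orderOf_one] at hwo
  exact hq.ne_one hwo.symm

end Cfsg.Agent.S0056
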