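import Cfsg.Statements.S0057
-- import your own Cfsg.Agent.* helpers here
import Mathlib
import Cfsg.Agent.S0023
import Cfsg.Agent.Lib.Helper1.PrimeIndexCent

set_option autoImplicit false
open Cfsg

namespace Cfsg.Agent.S0057

open Cfsg.Agent.Lib.Helper1 Subgroup
open scoped commutatorElement

/-- Under coprime action, if the centraliser of A in K has prime index p in K then the commutator subgroup [K, A] has order exactly p. -/
theorem result {G : Type*} [Group G] [Finite G] (A K : Subgroup G) (hAK : A ≤ Subgroup.normalizer (K : Set G))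
    (hcop : (Nat.card A).Coprime (Nat.card K)) (hsolv : Group.IsSolvable A ∨ Group.IsSolvable K)
    (p : ℕ) (hp : p.Prime) (hidx : (K ⊓ Subgroup.centralizer (A : Set G)).relIndex K = p) :
    Nat.card (⁅K, A⁆ : Subgroup G) = p := by
  haveI : Fact p.Prime := ⟨hp⟩
  obtain ⟨P₀, hP₀⟩ := Cfsg.Agent.S0023.result A K hAK hcop hsolv p
  obtain ⟨P, hP⟩ : ∃ P : Subgroup G, P = (P₀ : Subgroup K).map K.subtype := ⟨_, rfl⟩
  rw [← hP] at hP₀
  have hPK : P ≤ K := hP ▸ map_subtype_le _
  have hPp : IsPGroup p P := hP ▸ P₀.2.map _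
  have hcopP : (Nat.card A).Coprime (Nat.card P) :=
    Nat.Coprime.coprime_dvd_right (Subgroup.card_dvd_of_le hPK) hcop
  obtain ⟨C', hC'⟩ : ∃ C' : Subgroup K, C' = (K ⊓ centralizer (A : Set G)).subgroupOf K := ⟨_, rfl⟩
  have hC'idx : C'.index = p := by rw [hC']; exact hidx
  have hcopidx : Nat.Coprime (P₀ : Subgroup K).index C'.index := by
    rw [hC'idx]
    exact ((Nat.Prime.coprime_iff_not_dvd hp).mpr P₀.not_dvd_index).symm
  -- `K = P C`
  have hmul : ∀ k ∈ K, ∃ x ∈ P, ∃ c ∈ K ⊓ centralizer (A : Set G), k = x * c := by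
    intro k hk
    obtain ⟨x, hx, c, hc, hkxc⟩ :=
      Cfsg.Agent.Lib.Helper4.forall_mul_of_coprime_index (P₀ : Subgroup K) C' hcopidx ⟨k, hk⟩
    rw [hC', mem_subgroupOf] at hc
    refine ⟨x, hP ▸ ⟨x, hx, rfl⟩, c, hc, ?_⟩
    exact congrArg Subtype.val hkxc
  -- `[K, A] = [P, A]`
  have hcomm : ⁅K, A⁆ = ⁅P, A⁆ := by
    apply le_antisymm
    · rw [Subgroup.commutator_le]
      intro k hk a ha
      obtain ⟨x, hx, c, hc, rfl⟩ := hmul k hk
      have hca : a * c = c * a := (mem_centralizer_iff.mp (Subgroup.mem_inf.mp hc).2) a ha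
      have h1 : c * a * c⁻¹ = a := by rw [← hca]; group
      have e : ⁅x * c, a⁆ = ⁅x, a⁆ := by
        calc ⁅x * c, a⁆ = x * (c * a * c⁻¹) * x⁻¹ * a⁻¹ := by
              simp only [commutatorElement_def]; group
          _ = ⁅x, a⁆ := by rw [h1, commutatorElement_def]
      rw [e]
      exact Subgroup.commutator_mem_commutator hx ha
    · exact Subgroup.commutator_mono hPK le_rfl
  rw [hcomm]
  apply card_commutator_eq_prime_of_isPGroup A P hPp hP₀ hcopP
  -- the index of `C_P(A)` in `P`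
  obtain ⟨D', hD'⟩ : ∃ D' : Subgroup K, D' = (P₀ : Subgroup K) ⊓ C' := ⟨_, rfl⟩
  have h1 : D'.index = (P₀ : Subgroup K).index * p := by
    rw [hD', Cfsg.Agent.Lib.Helper4.index_inf_of_coprime _ _ hcopidx, hC'idx]
  have hD'le : D' ≤ (P₀ : Subgroup K) := hD' ▸ inf_le_left
  have h2 : D'.relIndex (P₀ : Subgroup K) * (P₀ : Subgroup K).index = D'.index :=
    Subgroup.relIndex_mul_index hD'le
  have h3 : D'.relIndex (P₀ : Subgroup K) = p := by
    have hpos : 0 < (P₀ : Subgroup K).index := Nat.pos_of_ne_zero Subgroup.index_ne_zero_of_finite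
    rw [h1, mul_comm] at h2
    exact Nat.eq_of_mul_eq_mul_left hpos h2
  have h4 : Nat.card D' * p = Nat.card (P₀ : Subgroup K) := by
    have h4' := Cfsg.Agent.Lib.Helper4.card_mul_relIndex hD'le
    rw [h3] at h4'
    exact h4'
  have hDmap : P ⊓ centralizer (A : Set G) = D'.map K.subtype := by
    ext y
    rw [hD', hC', hP]
    constructor
    · intro hy
      obtain ⟨hyP, hyA⟩ := Subgroup.mem_inf.mp hy
      obtain ⟨k, hk, rfl⟩ := hyP
      refine ⟨k, Subgroup.mem_inf.mpr ⟨hk, ?_⟩, rfl⟩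
      rw [mem_subgroupOf]
      exact Subgroup.mem_inf.mpr ⟨k.2, hyA⟩
    · rintro ⟨k, hk, rfl⟩
      obtain ⟨hk1, hk2⟩ := Subgroup.mem_inf.mp hk
      rw [mem_subgroupOf] at hk2
      exact Subgroup.mem_inf.mpr ⟨⟨k, hk1, rfl⟩, (Subgroup.mem_inf.mp hk2).2⟩
  have hcardD : Nat.card (P ⊓ centralizer (A : Set G) : Subgroup G) = Nat.card D' := by
    rw [hDmap, Subgroup.card_map_of_injective K.subtype_injective]
  have hcardP : Nat.card P = Nat.card (P₀ : Subgroup K) := by
    rw [hP, Subgroup.card_map_of_injective K.subtype_injective]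
  have h5 := Cfsg.Agent.Lib.Helper4.card_mul_relIndex
    (inf_le_left : P ⊓ centralizer (A : Set G) ≤ P)
  rw [hcardD, hcardP, ← h4] at h5
  have hpos : 0 < Nat.card D' := Nat.card_pos
  exact Nat.eq_of_mul_eq_mul_left hpos h5

end Cfsg.Agent.S0057
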