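import Cfsg.Statements.S0059
-- import your own Cfsg.Agent.* helpers here
import Mathlib
import Cfsg.Agent.Lib.Helper1.Coprime

set_option autoImplicit false
open Cfsg

namespace Cfsg.Agent.S0059

open Cfsg.Agent.Lib.Helper1 Subgroup
open Pointwise

/-- Let a finite group act on a set on which a normal subgroup K of coprime order and index is transitive, with K or the quotient solvable. Then any complement H of K has a fixed point, and any two H-fixed points are interchanged by an element of K centralising H. -/
theorem result {G : Type*} [Group G] [Finite G] {X : Type*} [Nonempty X] [MulAction G X]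
    (K H : Subgroup G) [K.Normal] (hc : Subgroup.IsComplement' K H) (hcop : (Nat.card K).Coprime K.index)
    (hsolv : Group.IsSolvable K ∨ Group.IsSolvable (G ⧸ K)) (htrans : MulAction.IsPretransitive K X) :
    (∃ x : X, ∀ h ∈ H, h • x = x) ∧
    ∀ x y : X, (∀ h ∈ H, h • x = x) → (∀ h ∈ H, h • y = y) → ∃ k ∈ K ⊓ Subgroup.centralizer (H : Set G), k • x = y := by
  have hHK : H ≤ normalizer (K : Set G) := by
    rw [Subgroup.normalizer_eq_top]; exact le_top
  have hcardH : Nat.card H = K.index := hc.symm.index_eq_card.symm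
  have hcop' : (Nat.card H).Coprime (Nat.card K) := by rw [hcardH]; exact hcop.symm
  have hsolv' : Group.IsSolvable H ∨ Group.IsSolvable K := by
    rcases hsolv with h | h
    · exact Or.inr h
    · left
      have e : G ⧸ K ≃* H := hc.symm.QuotientMulEquiv
      exact Group.isSolvable_of_isSolvable_injective (f := e.symm.toMonoidHom) e.symm.injective
  have htop : K ⊔ H = ⊤ := hc.sup_eq_top
  constructor
  · obtain ⟨x₀⟩ : Nonempty X := inferInstance
    have hKU : ∀ γ ∈ K ⊔ H, ∃ k ∈ K, ∃ u ∈ MulAction.stabilizer G x₀, γ = k * u := by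
      intro γ _
      obtain ⟨k, hk⟩ := MulAction.exists_smul_eq K x₀ (γ • x₀)
      refine ⟨k, k.2, (k : G)⁻¹ * γ, ?_, by group⟩
      rw [MulAction.mem_stabilizer_iff, mul_smul, ← hk, Subgroup.smul_def, inv_smul_smul]
    obtain ⟨k, hk, hHk⟩ := exists_le_conj_smul_of_coprime hHK hcop' hsolv'
      (by rw [htop]; exact le_top) hKU
    refine ⟨k • x₀, fun h hh => ?_⟩
    have := hHk hh
    rw [mem_conj_smul_iff, MulAction.mem_stabilizer_iff] at this
    calc h • k • x₀ = k • ((k⁻¹ * h * k) • x₀) := by simp [mul_smul]
      _ = k • x₀ := by rw [this]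
  · intro x y hx hy
    obtain ⟨k, hk⟩ := MulAction.exists_smul_eq K x y
    have hHU : H ≤ MulAction.stabilizer G x := fun h hh => hx h hh
    have hHkU : H ≤ MulAut.conj (k : G) • MulAction.stabilizer G x := by
      intro h hh
      rw [mem_conj_smul_iff, MulAction.mem_stabilizer_iff]
      have h1 : h • y = y := hy h hh
      rw [← hk, Subgroup.smul_def] at h1
      rw [mul_smul, mul_smul, h1, inv_smul_smul]
    obtain ⟨c, hc', hcU⟩ := exists_mem_centralizer_of_le_conj_smul hHK hcop' hsolv' hHU (k : G) k.2 hHkU
    refine ⟨c, hc', ?_⟩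
    rw [MulAction.mem_stabilizer_iff, mul_smul] at hcU
    have h2 : c • x = (k : G) • x := inv_smul_eq_iff.mp hcU
    rw [h2, ← hk, Subgroup.smul_def]

end Cfsg.Agent.S0059
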