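import Cfsg.Statements.S0063
-- import your own Cfsg.Agent.* helpers here
import Mathlib

set_option autoImplicit false
open Cfsg

namespace Cfsg.Agent.S0063

universe u

theorem aux (p : ℕ) [Fact p.Prime] : ∀ (m : ℕ) (G : Type u) [Group G] [Finite G],
    Nat.card G = p ^ m → 1 < m → Group.nilpotencyClass G ≤ m - 1 := by
  intro m
  induction m using Nat.strong_induction_on with
  | _ m ih =>
    intro G _ _ hG hm
    have hp : p.Prime := Fact.out
    have hpG : IsPGroup p G := IsPGroup.of_card hG
    have hnil : Group.IsNilpotent G := hpG.isNilpotent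
    have hnt : Nontrivial G := by
      rw [← Finite.one_lt_card_iff_nontrivial, hG]
      exact Nat.one_lt_pow (by omega) hp.one_lt
    rw [Group.nilpotencyClass_eq_quotient_center_plus_one]
    -- order of the center
    obtain ⟨k, hk⟩ := IsPGroup.iff_card.mp (hpG.to_subgroup (Subgroup.center G))
    have hk1 : k ≠ 0 := by
      rintro rfl
      rw [pow_zero, Subgroup.card_eq_one] at hk
      exact (hpG.bot_lt_center).ne' hk
    have hmul := Subgroup.card_eq_card_quotient_mul_card_subgroup (Subgroup.center G)
    rw [hG, hk] at hmul
    have hkm : k ≤ m := by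
      have : p ^ k ∣ p ^ m := ⟨_, by rw [hmul, mul_comm]⟩
      exact (Nat.pow_dvd_pow_iff_le_right hp.one_lt).mp this
    have hq : Nat.card (G ⧸ Subgroup.center G) = p ^ (m - k) := by
      have h1 : p ^ m = p ^ (m - k) * p ^ k := by rw [← pow_add]; congr 1; omega
      rw [h1] at hmul
      exact (Nat.eq_of_mul_eq_mul_right (pow_pos hp.pos k) hmul).symm
    rcases Nat.lt_or_ge 1 (m - k) with hj | hj
    · have := ih (m - k) (by omega) (G ⧸ Subgroup.center G) hq hj
      omega
    · rcases Nat.eq_zero_or_pos (m - k) with h0 | hpos
      · rw [h0, pow_zero] at hq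
        have hss : Subsingleton (G ⧸ Subgroup.center G) := (Nat.card_eq_one_iff_unique.mp hq).1
        have := (Group.nilpotencyClass_zero_iff_subsingleton (G := G ⧸ Subgroup.center G)).mpr hss
        omega
      · have h1 : m - k = 1 := by omega
        rw [h1, pow_one] at hq
        exfalso
        have hcyc : IsCyclic (G ⧸ Subgroup.center G) := isCyclic_of_prime_card hq
        have hcomm : IsMulCommutative G := isMulCommutative_of_isCyclic_quotient_center_self G
        have hZ : Subgroup.center G = ⊤ := Subgroup.center_eq_top_iff.mpr hcomm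
        rw [hZ] at hq
        have : Nat.card (G ⧸ (⊤ : Subgroup G)) = 1 := by
          rw [← Subgroup.index_eq_card, Subgroup.index_top]
        rw [this] at hq
        exact hp.one_lt.ne hq

/-- A finite group of prime-power order p ^ m with m > 1 is nilpotent of class at most m - 1. -/
theorem result {G : Type*} [Group G] [Finite G] (p m : ℕ) [Fact p.Prime]
    (hG : Nat.card G = p ^ m) (hm : 1 < m) : Group.nilpotencyClass G ≤ m - 1 := by
  exact aux p m G hG hm

end Cfsg.Agent.S0063
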