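import Cfsg.Statements.S0067
import Mathlib
import Cfsg.Agent.Lib.Helper1.Fitting
import Cfsg.Agent.Lib.Helper25.BaerSuzuki

set_option autoImplicit false
open Pointwise
open Cfsg

namespace Cfsg.Agent.S0067

open scoped Pointwise

/-- In a finite nilpotent group every subgroup is subnormal. -/
theorem isSubnormal_of_isNilpotent {N : Type*} [Group N] [Finite N] [Group.IsNilpotent N] :
    ∀ (n : ℕ) (B : Subgroup N), Nat.card N - Nat.card B = n → B.IsSubnormal := by
  have hnc : NormalizerCondition N := Group.normalizerCondition_of_isNilpotent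
  intro n
  induction n using Nat.strong_induction_on with
  | _ n ih =>
  intro B hn
  by_cases hB : B = ⊤
  · rw [hB]; exact Subgroup.IsSubnormal.top
  · have hlt : B < Subgroup.normalizer (B : Set N) := hnc B (lt_top_iff_ne_top.mpr hB)
    have hcard : Nat.card B < Nat.card (Subgroup.normalizer (B : Set N)) := by
      by_contra hge
      rw [not_lt] at hge
      exact hlt.ne (Subgroup.eq_of_le_of_card_ge hlt.le hge)
    have hle : Nat.card (Subgroup.normalizer (B : Set N)) ≤ Nat.card N := Subgroup.card_le_card_group _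
    have h1 := ih (Nat.card N - Nat.card (Subgroup.normalizer (B : Set N))) (by omega) _ rfl
    exact Subgroup.IsSubnormal.step B _ hlt.le h1 Subgroup.normal_in_normalizer

/-- In a finite nilpotent group two `p`-subgroups generate a `p`-group. -/
theorem isPGroup_sup_of_isNilpotent {N : Type*} [Group N] [Finite N] [hN : Group.IsNilpotent N]
    {p : ℕ} [Fact p.Prime] (Y Z : Subgroup N) (hY : IsPGroup p Y) (hZ : IsPGroup p Z) :
    IsPGroup p ↥(Y ⊔ Z) := by
  have hsyl : ∀ (q : ℕ) (_ : Fact q.Prime) (Q : Sylow q N), (Q : Subgroup N).Normal :=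
    ((Group.isNilpotent_of_finite_tfae (G := N)).out 0 3 rfl rfl).mp hN
  obtain ⟨S, hYS⟩ := hY.exists_le_sylow
  obtain ⟨T, hZT⟩ := hZ.exists_le_sylow
  haveI := Sylow.unique_of_normal S (hsyl p inferInstance S)
  have hTS : T = S := Subsingleton.elim _ _
  rw [hTS] at hZT
  exact S.isPGroup'.to_le (sup_le hYS hZT)

/-- If the join of a subgroup A with each of its conjugates is nilpotent, then A is subnormal in the finite group and contained in the Fitting subgroup. -/
theorem result {G : Type*} [Group G] [Finite G] (A : Subgroup G)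
    (h : ∀ g : G, Group.IsNilpotent (A ⊔ MulAut.conj g • A : Subgroup G)) : A.IsSubnormal ∧ A ≤ Cfsg.fittingSubgroup G := by
  classical
  have hAF : A ≤ Cfsg.fittingSubgroup G := by
    have key : (Cfsg.fittingSubgroup G).subgroupOf A = ⊤ := by
      apply Cfsg.Agent.Lib.Helper1.eq_top_of_forall_sylow_le
      intro p hp
      obtain ⟨P⟩ : Nonempty (Sylow p A) := inferInstance
      refine ⟨P, ?_⟩
      set X : Subgroup G := (P : Subgroup A).map A.subtype with hXdef
      have hXA : X ≤ A := Subgroup.map_subtype_le _
      have hX : IsPGroup p X := P.isPGroup'.map _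
      have hBS : ∀ g : G, IsPGroup p ↥(X ⊔ Cfsg.conjBy X g) := by
        intro g
        haveI hN := h g
        set N' : Subgroup G := A ⊔ MulAut.conj g • A with hN'
        have hXN : X ≤ N' := hXA.trans le_sup_left
        have hCN : Cfsg.conjBy X g ≤ N' := by
          intro y hy
          obtain ⟨x, hx, rfl⟩ := Subgroup.mem_map.mp hy
          apply (le_sup_right : MulAut.conj g • A ≤ N')
          have := Subgroup.smul_mem_pointwise_smul x (MulAut.conj g) A (hXA hx)
          exact this
        have h1 := isPGroup_sup_of_isNilpotent (X.subgroupOf N') ((Cfsg.conjBy X g).subgroupOf N')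
          (hX.comap_subtype) ((hX.map _).comap_subtype)
        have h2 := h1.map N'.subtype
        rw [Subgroup.map_sup, Subgroup.map_subgroupOf_eq_of_le hXN,
          Subgroup.map_subgroupOf_eq_of_le hCN] at h2
        exact h2
      obtain ⟨M, hMn, hMp, hXM⟩ := Cfsg.Agent.Lib.Helper25.baer_suzuki X hX hBS
      have hMF : M ≤ Cfsg.fittingSubgroup G :=
        Cfsg.Agent.Lib.Helper1.le_fittingSubgroup hMn hMp.isNilpotent
      intro x hx
      rw [Subgroup.mem_subgroupOf]
      exact hMF (hXM (Subgroup.mem_map_of_mem _ hx))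
    intro a ha
    have h1 : (⟨a, ha⟩ : A) ∈ (Cfsg.fittingSubgroup G).subgroupOf A := key ▸ Subgroup.mem_top _
    exact h1
  refine ⟨?_, hAF⟩
  haveI hFn := Cfsg.Agent.Lib.Helper1.fittingSubgroup_isNilpotent G
  have h1 : (A.subgroupOf (Cfsg.fittingSubgroup G)).IsSubnormal :=
    isSubnormal_of_isNilpotent _ _ rfl
  exact Subgroup.IsSubnormal.trans hAF h1
    (Cfsg.Agent.Lib.Helper1.fittingSubgroup_normal G).isSubnormal

end Cfsg.Agent.S0067
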