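import Cfsg.Statements.S0070
-- import your own Cfsg.Agent.* helpers here
import Mathlib
import Cfsg.Agent.Lib.Helper1.Fitting
import Cfsg.Agent.Lib.Helper4.FrattiniArg

set_option autoImplicit false
open Cfsg

namespace Cfsg.Agent.S0070

open Cfsg.Agent.Lib.Helper1 Subgroup

/-- The Fitting subgroup commutes with passing to the Frattini quotient: the Fitting subgroup of G modulo its Frattini subgroup is the image of the Fitting subgroup of G. -/
theorem result {G : Type*} [Group G] [Finite G] :
    Cfsg.fittingSubgroup (G ⧸ frattini G) = (Cfsg.fittingSubgroup G).map (QuotientGroup.mk' (frattini G)) := by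
  set Φ : Subgroup G := frattini G with hΦ
  have hΦn : Φ.Normal := inferInstance
  set π := QuotientGroup.mk' Φ with hπ
  have hπs : Function.Surjective π := QuotientGroup.mk'_surjective Φ
  apply le_antisymm
  · set Fb : Subgroup (G ⧸ Φ) := Cfsg.fittingSubgroup (G ⧸ Φ) with hFb
    have hFbn : Fb.Normal := fittingSubgroup_normal _
    have hFbnil : Group.IsNilpotent Fb := fittingSubgroup_isNilpotent _
    set N : Subgroup G := Fb.comap π with hN
    have hNn : N.Normal := hFbn.comap π
    have hΦN : Φ ≤ N := by
      intro x hx
      show π x ∈ Fb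
      have : π x = 1 := (QuotientGroup.eq_one_iff x).mpr hx
      rw [this]
      exact Fb.one_mem
    -- `N / Φ ≅ Fb` is nilpotent
    let f : N →* Fb := π.subgroupComap Fb
    have hf : Function.Surjective f := π.subgroupComap_surjective_of_surjective Fb hπs
    have hker : f.ker = Φ.subgroupOf N := by
      ext x
      rw [MonoidHom.mem_ker, Subgroup.mem_subgroupOf, Subtype.ext_iff]
      show π (x : G) = 1 ↔ _
      exact QuotientGroup.eq_one_iff _
    have hnilq : Group.IsNilpotent (N ⧸ Φ.subgroupOf N) := by
      have e1 : N ⧸ f.ker ≃* Fb := QuotientGroup.quotientKerEquivOfSurjective f hf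
      have e2 : N ⧸ f.ker ≃* N ⧸ Φ.subgroupOf N := QuotientGroup.quotientMulEquivOfEq hker
      exact (Group.isNilpotent_congr (e2.symm.trans e1)).mpr hFbnil
    -- all Sylow subgroups of `N` are normal
    have hNnil : Group.IsNilpotent N := by
      have q := (Group.isNilpotent_of_finite_tfae (G := N)).out 0 3
      rw [q]
      intro p hp P
      have h1 := Cfsg.Agent.Lib.Helper4.normalizer_sup_eq_top_of_nilpotent_quotient N Φ hΦN hnilq P
      have h2 := frattini_nongenerating h1
      have h3 : (map N.subtype (P : Subgroup N)).Normal := normalizer_eq_top_iff.mp h2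
      exact h3.of_map_subtype
    have hNF : N ≤ Cfsg.fittingSubgroup G := le_fittingSubgroup hNn hNnil
    calc Fb = N.map π := (Subgroup.map_comap_eq_self_of_surjective hπs Fb).symm
      _ ≤ (Cfsg.fittingSubgroup G).map π := Subgroup.map_mono hNF
  · have hFn : (Cfsg.fittingSubgroup G).Normal := fittingSubgroup_normal G
    have hFnil : Group.IsNilpotent (Cfsg.fittingSubgroup G) := fittingSubgroup_isNilpotent G
    apply le_fittingSubgroup (hFn.map π hπs)
    exact nilpotent_of_surjective (π.subgroupMap (Cfsg.fittingSubgroup G))
      (π.subgroupMap_surjective _)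

end Cfsg.Agent.S0070
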