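import Cfsg.Statements.S0072
import Cfsg.Agent.Lib.Helper29.Frobenius

set_option autoImplicit false
open Cfsg

namespace Cfsg.Agent.S0072

open Subgroup Cfsg.Agent.Lib.Helper29

/-- The Frobenius condition passes to subgroups. -/
theorem frobCond_subgroup {G : Type*} [Group G] [Finite G] {p : ℕ}
    (hF : FrobCond p G) (H : Subgroup G) : FrobCond p H := by
  intro Q hQ g hg hcop
  have hgn : (g : G) ∈ normalizer ((Q.map H.subtype : Subgroup G) : Set G) := by
    apply Subgroup.mem_normalizer_fintype
    intro n hn
    obtain ⟨q, hq, rfl⟩ := Subgroup.mem_map.mp hn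
    have h1 : g * q * g⁻¹ ∈ Q := (Subgroup.mem_normalizer_iff.mp hg q).mp hq
    exact Subgroup.mem_map.mpr ⟨g * q * g⁻¹, h1, by simp⟩
  have hcen := hF (Q.map H.subtype) (hQ.map _) (g : G) hgn (by
    rw [Subgroup.orderOf_coe]; exact hcop)
  rw [Subgroup.mem_centralizer_iff] at hcen ⊢
  intro q hq
  have := hcen (q : G) (Subgroup.mem_map_of_mem H.subtype hq)
  exact Subtype.ext (by simpa using this)

/-- A finite group has a normal p-complement if and only if every p-local subgroup (normalizer of a nontrivial p-subgroup) has one. -/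
theorem result {G : Type*} [Group G] [Finite G] (p : ℕ) [Fact p.Prime] : Cfsg.HasNormalPComplement p G ↔ ∀ Q : Subgroup G, IsPGroup p Q → Q ≠ ⊥ → Cfsg.HasNormalPComplement p (Subgroup.normalizer (Q : Set G)) := by
  constructor
  · rintro ⟨P, N, hNn, hN⟩ Q hQ hQne
    have hF : FrobCond p G := frobCond_of_normal_complement P N hN
    have hF' := frobCond_subgroup hF (Subgroup.normalizer (Q : Set G))
    obtain ⟨M, hMn, hM⟩ := hF'.exists_normal_complement (default : Sylow p _)
    exact ⟨default, M, hMn, hM⟩
  · intro h
    have hF : FrobCond p G := by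
      intro Q hQ g hg hcop
      by_cases hQne : Q = ⊥
      · rw [hQne, Subgroup.mem_centralizer_iff]
        intro x hx
        have : x = 1 := hx
        rw [this, one_mul, mul_one]
      · obtain ⟨PL, K, hKn, hK⟩ := h Q hQ hQne
        have hFL : FrobCond p (Subgroup.normalizer (Q : Set G)) :=
          frobCond_of_normal_complement PL K hK
        have hgn : (⟨g, hg⟩ : Subgroup.normalizer (Q : Set G)) ∈
            Subgroup.normalizer ((Q.subgroupOf (Subgroup.normalizer (Q : Set G)) : Subgroup _) :
              Set (Subgroup.normalizer (Q : Set G))) := by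
          rw [Subgroup.mem_normalizer_iff]
          intro y
          rw [Subgroup.mem_subgroupOf, Subgroup.mem_subgroupOf]
          exact Subgroup.mem_normalizer_iff.mp hg y
        have hcen := hFL (Q.subgroupOf (Subgroup.normalizer (Q : Set G))) hQ.comap_subtype
          ⟨g, hg⟩ hgn (by rw [← Subgroup.orderOf_coe]; exact hcop)
        rw [Subgroup.mem_centralizer_iff] at hcen ⊢
        intro x hx
        have := hcen ⟨x, Subgroup.le_normalizer hx⟩ (by
          rw [SetLike.mem_coe, Subgroup.mem_subgroupOf]; exact hx)
        exact congrArg Subtype.val this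
    obtain ⟨N, hNn, hN⟩ := hF.exists_normal_complement (default : Sylow p G)
    exact ⟨default, N, hNn, hN⟩

end Cfsg.Agent.S0072
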