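import Cfsg.Statements.S0073
-- import your own Cfsg.Agent.* helpers here
import Mathlib
import Cfsg.Agent.Lib.Helper1.NormalPComplement

set_option autoImplicit false
open Cfsg

namespace Cfsg.Agent.S0073

open Cfsg.Agent.Lib.Helper1 Subgroup

/-- For a finite non-abelian simple group, either the cube of the least prime divisor of the order divides the order, or 12 does. -/
theorem result {G : Type*} [Group G] [Finite G] [IsSimpleGroup G] (hG : ∃ x y : G, x * y ≠ y * x) : (Nat.card G).minFac ^ 3 ∣ Nat.card G ∨ 12 ∣ Nat.card G := by
  classical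
  obtain ⟨x₀, y₀, hxy⟩ := hG
  have hnt : Nontrivial G := inferInstance
  have hcard1 : Nat.card G ≠ 1 := by
    intro h
    have := (Nat.card_eq_one_iff_unique.mp h).1
    exact hxy (Subsingleton.elim _ _)
  set p := (Nat.card G).minFac with hp
  have hpp : p.Prime := Nat.minFac_prime hcard1
  have : Fact p.Prime := ⟨hpp⟩
  have hpd : p ∣ Nat.card G := Nat.minFac_dvd _
  have hN0 : Nat.card G ≠ 0 := Nat.card_pos.ne'
  by_contra hcon
  rw [not_or] at hcon
  obtain ⟨h3, h12⟩ := hcon
  obtain ⟨P⟩ : Nonempty (Sylow p G) := inferInstance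
  have hPcard : Nat.card P = p ^ (Nat.card G).factorization p := P.card_eq_multiplicity
  set k := (Nat.card G).factorization p with hk
  have hk1 : 1 ≤ k := hpp.factorization_pos_of_dvd hN0 hpd
  have hk3 : k < 3 := by
    by_contra hk3
    apply h3
    exact (pow_dvd_pow p (not_lt.mp hk3)).trans (Nat.ordProj_dvd _ _)
  -- `P` is abelian
  have hcomm : IsMulCommutative P := by
    have hk12 : k = 1 ∨ k = 2 := by omega
    rcases hk12 with h1 | h2
    · have hc : Nat.card P = p := by rw [hPcard, h1, pow_one]
      have : IsCyclic P := isCyclic_of_prime_card hc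
      exact IsCyclic.isMulCommutative
    · have hc : Nat.card P = p ^ 2 := by rw [hPcard, h2]
      exact IsMulCommutative.of_comm (IsPGroup.commutative_of_card_eq_prime_sq hc)
  -- `N(P) ≤ C(P)`
  have hNC : normalizer ((P : Subgroup G) : Set G) ≤ centralizer ((P : Subgroup G) : Set G) := by
    apply normalizer_le_centralizer_of_not_dvd P
    intro q hq hqp hqG d hd hlt hqd
    have hpq : p ≤ q := Nat.minFac_le_of_dvd hq.two_le hqG
    have hpq' : p < q := lt_of_le_of_ne hpq (Ne.symm hqp)
    have hcP : Nat.card (P : Subgroup G) = p ^ k := hPcard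
    rw [hcP] at hd hlt hqd
    obtain ⟨j, hjk, rfl⟩ := (Nat.dvd_prime_pow hpp).mp hd
    have hjlt : j < k := by
      by_contra h
      have : k ≤ j := not_lt.mp h
      have : p ^ k ≤ p ^ j := Nat.pow_le_pow_right hpp.pos this
      omega
    -- `p ^ k - p ^ j = p ^ j * (p ^ (k - j) - 1)`
    have hfac : p ^ k - p ^ j = p ^ j * (p ^ (k - j) - 1) := by
      have : p ^ k = p ^ j * p ^ (k - j) := by rw [← pow_add]; congr 1; omega
      rw [this, Nat.mul_sub, mul_one]
    rw [hfac] at hqd
    have hq1 : q ∣ p ^ (k - j) - 1 := by
      rcases (Nat.Prime.dvd_mul hq).mp hqd with h | h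
      · exfalso
        have := (Nat.prime_dvd_prime_iff_eq hq hpp).mp (hq.dvd_of_dvd_pow h)
        exact hqp this
      · exact h
    have hkj : k - j = 1 ∨ k - j = 2 := by omega
    rcases hkj with h1 | h2
    · rw [h1, pow_one] at hq1
      have hle : q ≤ p - 1 := Nat.le_of_dvd (by have := hpp.two_le; omega) hq1
      omega
    · rw [h2] at hq1
      have hfac2 : p ^ 2 - 1 = (p - 1) * (p + 1) := by
        have := hpp.two_le
        obtain ⟨m, hm⟩ : ∃ m, p = m + 1 := ⟨p - 1, by omega⟩
        rw [hm]
        have e : (m + 1) ^ 2 = (m + 1 - 1) * (m + 1 + 1) + 1 := by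
          simp; ring
        rw [e]; simp
      rw [hfac2] at hq1
      rcases (Nat.Prime.dvd_mul hq).mp hq1 with h | h
      · have hle : q ≤ p - 1 := Nat.le_of_dvd (by have := hpp.two_le; omega) h
        omega
      · have hle : q ≤ p + 1 := Nat.le_of_dvd (by omega) h
        have hq_eq : q = p + 1 := by omega
        -- then `p = 2`, `q = 3`
        have hp2 : p = 2 := by
          rcases hpp.eq_two_or_odd with h2 | hodd
          · exact h2
          · exfalso
            have : q % 2 = 0 := by omega
            have hq2 : q = 2 := (Nat.prime_dvd_prime_iff_eq Nat.prime_two hq).mp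
              (Nat.dvd_of_mod_eq_zero this) |>.symm
            have := hpp.two_le
            omega
        have hq3 : q = 3 := by omega
        apply h12
        have h4 : 4 ∣ Nat.card G := by
          have hk2 : k = 2 := by omega
          have : p ^ k ∣ Nat.card G := Nat.ordProj_dvd _ _
          rw [hp2, hk2] at this
          exact this
        have h3' : 3 ∣ Nat.card G := hq3 ▸ hqG
        exact Nat.Coprime.mul_dvd_of_dvd_of_dvd (by norm_num) h4 h3'
  -- Burnside: a normal `p`-complement, contradicting simplicity
  have hc := MonoidHom.ker_transferSylow_isComplement' P hNC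
  set N := (MonoidHom.transferSylow P hNC).ker with hN
  have hNn : N.Normal := inferInstance
  rcases hNn.eq_bot_or_eq_top with hb | ht
  · -- `G = P` is a `p`-group, hence has nontrivial center, hence is abelian
    have hPtop : (P : Subgroup G) = ⊤ := by
      have := hc.sup_eq_top
      rwa [hb, bot_sup_eq] at this
    have hGp : IsPGroup p G := by
      have := P.2
      rw [hPtop] at this
      exact IsPGroup.of_equiv this Subgroup.topEquiv
    have hcen : Nontrivial (Subgroup.center G) := hGp.center_nontrivial
    have hcn : (Subgroup.center G).Normal := inferInstance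
    rcases hcn.eq_bot_or_eq_top with hb' | ht'
    · exact (Subgroup.nontrivial_iff_ne_bot _).mp hcen hb'
    · have : x₀ ∈ Subgroup.center G := ht' ▸ Subgroup.mem_top x₀
      exact hxy (Subgroup.mem_center_iff.mp this y₀).symm
  · have hPbot : (P : Subgroup G) = ⊥ := by
      have := hc.disjoint
      rw [ht, top_disjoint] at this
      exact this
    have : Nat.card (P : Subgroup G) = 1 := by rw [hPbot]; exact Subgroup.card_bot
    have hcP : Nat.card (P : Subgroup G) = p ^ k := hPcard
    rw [hcP] at this
    have : 1 < p ^ k := Nat.one_lt_pow (by omega) hpp.one_lt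
    omega

end Cfsg.Agent.S0073
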