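import Cfsg.Statements.S0075
import Cfsg.Agent.Lib.Helper12.Residual

set_option autoImplicit false
open Cfsg

namespace Cfsg.Agent.S0075

open scoped commutatorElement
open scoped IsMulCommutative


/-- For an abelian Sylow p-subgroup T, its intersection with the subgroup generated by the elements of order prime to p is the commutator of T with its normalizer. -/
theorem result {G : Type*} [Group G] [Finite G] {p : ℕ} [Fact p.Prime] (T : Sylow p G) (hT : IsMulCommutative T) : (T : Subgroup G) ⊓ Cfsg.pResidual p G = ⁅(T : Subgroup G), Subgroup.normalizer (T : Set G)⁆ := by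
  classical
  haveI := hT
  haveI hRn : (Cfsg.pResidual p G).Normal := Cfsg.Agent.Lib.Helper12.pResidual_normal' p G
  set R := Cfsg.pResidual p G with hR
  set N := Subgroup.normalizer ((T : Subgroup G) : Set G) with hN
  have hsup : (T : Subgroup G) ⊔ R = ⊤ :=
    Cfsg.Agent.Lib.Helper12.sup_pResidual_eq_top (T : Subgroup G) T.not_dvd_index
  -- G' ≤ O^p(G)
  have hG'R : commutator G ≤ R := by
    rw [commutator_def, Subgroup.commutator_le]
    intro g₁ _ g₂ _
    have h1 : g₁ ∈ (T : Subgroup G) ⊔ R := by rw [hsup]; trivial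
    have h2 : g₂ ∈ (T : Subgroup G) ⊔ R := by rw [hsup]; trivial
    rw [Subgroup.mem_sup_of_normal_right] at h1 h2
    obtain ⟨t₁, ht₁, r₁, hr₁, rfl⟩ := h1
    obtain ⟨t₂, ht₂, r₂, hr₂, rfl⟩ := h2
    have hπ1 : (QuotientGroup.mk' R) r₁ = 1 := (QuotientGroup.eq_one_iff r₁).mpr hr₁
    have hπ2 : (QuotientGroup.mk' R) r₂ = 1 := (QuotientGroup.eq_one_iff r₂).mpr hr₂
    have hcomm : ⁅t₁, t₂⁆ = 1 := by
      rw [commutatorElement_eq_one_iff_mul_comm]
      have := mul_comm (⟨t₁, ht₁⟩ : (T : Subgroup G)) ⟨t₂, ht₂⟩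
      exact congrArg Subtype.val this
    have key : (QuotientGroup.mk' R) ⁅t₁ * r₁, t₂ * r₂⁆ = 1 := by
      rw [map_commutatorElement, map_mul, map_mul, hπ1, hπ2, mul_one, mul_one,
        ← map_commutatorElement, hcomm, map_one]
    exact (QuotientGroup.eq_one_iff _).mp key
  -- O^p(G) ≤ ker of the focal transfer
  have hRker : R ≤ (T : Subgroup G).transferFocal.ker := by
    rw [hR, Cfsg.pResidual, Subgroup.closure_le]
    intro g hg
    have hg' : Nat.Coprime (orderOf g) p := hg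
    rw [SetLike.mem_coe, MonoidHom.mem_ker]
    have hQ : IsPGroup p ((T : Subgroup G) ⧸ (T : Subgroup G).focalSubgroupOf) :=
      T.2.to_quotient _
    obtain ⟨k, hk⟩ := IsPGroup.iff_orderOf.mp hQ ((T : Subgroup G).transferFocal g)
    have hdvd : orderOf ((T : Subgroup G).transferFocal g) ∣ orderOf g := orderOf_map_dvd _ g
    rw [hk] at hdvd
    rcases Nat.eq_zero_or_pos k with rfl | hkpos
    · rw [pow_zero, orderOf_eq_one_iff] at hk
      exact hk
    · exfalso
      have hp : p ∣ orderOf g := (dvd_pow_self p hkpos.ne').trans hdvd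
      have := Nat.Coprime.eq_one_of_dvd hg'.symm hp
      exact (Fact.out : p.Prime).one_lt.ne' this
  apply le_antisymm
  · -- T ∩ O^p(G) ≤ focal ≤ [T,N]
    have h1 : (T : Subgroup G) ⊓ R ≤ (T : Subgroup G).focalSubgroup := by
      rw [← Subgroup.ker_transferFocal_inf_eq_focalSubgroup T, inf_comm]
      exact inf_le_inf_right _ hRker
    refine h1.trans ?_
    rw [Subgroup.focalSubgroup_def, Subgroup.closure_le]
    rintro g ⟨hgP, x, hxP, u, rfl⟩
    have h1 : (u⁻¹)⁻¹ * x⁻¹ * u⁻¹ ∈ (T : Subgroup G) := by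
      have e : (u⁻¹)⁻¹ * x⁻¹ * u⁻¹ = x⁻¹ * ⁅x, u⁆ := by rw [commutatorElement_def]; group
      rw [e]; exact Subgroup.mul_mem _ (Subgroup.inv_mem _ hxP) hgP
    obtain ⟨n, hn, hconj⟩ := T.conj_eq_normalizer_conj_of_mem x⁻¹ u⁻¹ (Subgroup.inv_mem _ hxP) h1
    have e2 : ⁅x, u⁆ = ⁅x, n⁻¹⁆ := by
      rw [commutatorElement_def, commutatorElement_def]
      calc x * u * x⁻¹ * u⁻¹ = x * ((u⁻¹)⁻¹ * x⁻¹ * u⁻¹) := by group
        _ = x * (n⁻¹ * x⁻¹ * n) := by rw [hconj]
        _ = x * n⁻¹ * x⁻¹ * (n⁻¹)⁻¹ := by group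
    rw [e2]
    exact Subgroup.commutator_mem_commutator hxP (Subgroup.inv_mem _ hn)
  · apply le_inf
    · rw [Subgroup.commutator_le]
      intro t ht n hn
      rw [commutatorElement_def]
      have h3 : n * t⁻¹ * n⁻¹ ∈ (T : Subgroup G) :=
        (Subgroup.mem_normalizer_iff.mp hn t⁻¹).mp (Subgroup.inv_mem _ ht)
      have : t * n * t⁻¹ * n⁻¹ = t * (n * t⁻¹ * n⁻¹) := by group
      rw [this]
      exact Subgroup.mul_mem _ ht h3
    · refine le_trans ?_ hG'R
      rw [commutator_def]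
      exact Subgroup.commutator_mono le_top le_top

end Cfsg.Agent.S0075
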