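import Cfsg.Statements.S0077
import Cfsg.Agent.Lib.Helper8.Conj
import Cfsg.Agent.Lib.Helper8.Fusion

set_option autoImplicit false
open Cfsg

namespace Cfsg.Agent.S0077

open scoped commutatorElement


/-- If a subgroup Z of the centre of a Sylow p-subgroup P is weakly closed in P, then P meets the derived subgroup of G exactly where it meets the derived subgroup of the normalizer of Z. -/
theorem result {G : Type*} [Group G] [Finite G] {p : ℕ} [Fact p.Prime] (P : Sylow p G) (Z : Subgroup G) (hZ : Z ≤ Subgroup.centralizer (P : Set G)) (hW : Cfsg.IsWeaklyClosed Z P) : commutator G ⊓ (P : Subgroup G) = ⁅Subgroup.normalizer (Z : Set G), Subgroup.normalizer (Z : Set G)⁆ ⊓ (P : Subgroup G) := by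
  classical
  obtain ⟨hZP, hWC⟩ := hW
  set N := Subgroup.normalizer (Z : Set G) with hN
  have hZp : IsPGroup p Z := P.2.to_le hZP
  -- P ≤ N
  have hPN : (P : Subgroup G) ≤ N := by
    intro x hx
    rw [hN, Subgroup.mem_normalizer_iff]
    intro z
    have hcomm : ∀ z ∈ Z, x * z * x⁻¹ = z := by
      intro z hz
      have := (Subgroup.mem_centralizer_iff.mp (hZ hz)) x hx
      rw [this, mul_inv_cancel_right]
    constructor
    · intro hz; rw [hcomm z hz]; exact hz
    · intro hz
      have h1 := hcomm _ hz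
      have h2 : x⁻¹ * (x * z * x⁻¹) * x = z := by group
      have h3 : x * z * x⁻¹ = z := by
        have h4 : x⁻¹ * (x * (x * z * x⁻¹) * x⁻¹) * x = x⁻¹ * (x * z * x⁻¹) * x := by rw [h1]
        have h5 : x⁻¹ * (x * (x * z * x⁻¹) * x⁻¹) * x = x * z * x⁻¹ := by group
        rw [h5, h2] at h4
        exact h4
      rw [← h3]; exact hz
  -- fusion control
  have hfus : ∀ a ∈ (P : Subgroup G), ∀ u : G, u * a * u⁻¹ ∈ (P : Subgroup G) →
      ∃ n ∈ N, n * a * n⁻¹ = u * a * u⁻¹ := by
    intro a ha u hb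
    set b := u * a * u⁻¹ with hbdef
    set C := Subgroup.centralizer ({b} : Set G) with hCdef
    have hZC : Z ≤ C := by
      intro z hz
      rw [hCdef, Subgroup.mem_centralizer_iff]
      intro y hy
      rw [Set.mem_singleton_iff] at hy
      rw [hy]
      exact (Subgroup.mem_centralizer_iff.mp (hZ hz)) b hb
    have hZuC : Z.map (MulAut.conj u).toMonoidHom ≤ C := by
      rintro _ ⟨z, hz, rfl⟩
      rw [hCdef, Subgroup.mem_centralizer_iff]
      intro y hy
      rw [Set.mem_singleton_iff] at hy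
      rw [hy, hbdef]
      have hza : a * z = z * a := (Subgroup.mem_centralizer_iff.mp (hZ hz)) a ha
      change u * a * u⁻¹ * (u * z * u⁻¹) = u * z * u⁻¹ * (u * a * u⁻¹)
      calc u * a * u⁻¹ * (u * z * u⁻¹) = u * (a * z) * u⁻¹ := by group
        _ = u * (z * a) * u⁻¹ := by rw [hza]
        _ = u * z * u⁻¹ * (u * a * u⁻¹) := by group
    have hZup : IsPGroup p (Z.map (MulAut.conj u).toMonoidHom) := hZp.map _
    obtain ⟨c, hcC, hR⟩ := Cfsg.Agent.Lib.Helper8.exists_conj_sup_isPGroup C hZp hZup hZC hZuC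
    rw [Cfsg.Agent.Lib.Helper8.map_conj_map_conj] at hR
    obtain ⟨v, hv⟩ := Cfsg.Agent.Lib.Helper8.exists_conj_le_sylow P hR
    rw [Subgroup.map_sup, Cfsg.Agent.Lib.Helper8.map_conj_map_conj, sup_le_iff] at hv
    obtain ⟨hv1, hv2⟩ := hv
    have hvN : v ∈ N := by
      rw [hN, Cfsg.Agent.Lib.Helper8.mem_normalizer_iff_map_conj]
      exact hWC v hv1
    have hvcuN : v * (c * u) ∈ N := by
      rw [hN, Cfsg.Agent.Lib.Helper8.mem_normalizer_iff_map_conj]
      exact hWC _ hv2
    have hcuN : c * u ∈ N := by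
      have : c * u = v⁻¹ * (v * (c * u)) := by group
      rw [this]
      exact N.mul_mem (N.inv_mem hvN) hvcuN
    refine ⟨c * u, hcuN, ?_⟩
    have hcb : b * c = c * b := (Subgroup.mem_centralizer_iff.mp hcC) b (Set.mem_singleton b)
    calc c * u * a * (c * u)⁻¹ = c * (u * a * u⁻¹) * c⁻¹ := by group
      _ = c * b * c⁻¹ := by rw [hbdef]
      _ = b := by rw [← hcb, mul_inv_cancel_right]
  apply le_antisymm
  · rw [Subgroup.commutator_inf_eq_focalSubgroup P]
    rw [Subgroup.focalSubgroup_def, Subgroup.closure_le]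
    rintro g ⟨hgP, x, hxP, u, rfl⟩
    refine ⟨?_, hgP⟩
    have h1 : u * x⁻¹ * u⁻¹ ∈ (P : Subgroup G) := by
      have e : u * x⁻¹ * u⁻¹ = x⁻¹ * ⁅x, u⁆ := by rw [commutatorElement_def]; group
      rw [e]; exact Subgroup.mul_mem _ (Subgroup.inv_mem _ hxP) hgP
    obtain ⟨n, hn, hconj⟩ := hfus x⁻¹ (Subgroup.inv_mem _ hxP) u h1
    have e2 : ⁅x, u⁆ = ⁅x, n⁆ := by
      rw [commutatorElement_def, commutatorElement_def]
      calc x * u * x⁻¹ * u⁻¹ = x * (u * x⁻¹ * u⁻¹) := by group
        _ = x * (n * x⁻¹ * n⁻¹) := by rw [hconj]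
        _ = x * n * x⁻¹ * n⁻¹ := by group
    rw [e2]
    exact Subgroup.commutator_mem_commutator (hPN hxP) hn
  · apply inf_le_inf_right
    rw [commutator_def]
    exact Subgroup.commutator_mono le_top le_top

end Cfsg.Agent.S0077
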