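import Cfsg.Statements.S0078
-- import your own Cfsg.Agent.* helpers here
import Mathlib
import Cfsg.Agent.S0077
import Cfsg.Agent.Lib.Helper22.Tate

set_option autoImplicit false
open Cfsg

namespace Cfsg.Agent.S0078

open Cfsg.Agent.Lib.Helper22

/-- In a p-normal group, a Sylow p-subgroup P meets O^p(G) exactly where it meets O^p(V), for any subgroup V containing the normalizer of the centre of P. -/
theorem result {G : Type*} [Group G] [Finite G] {p : ℕ} [Fact p.Prime] (P : Sylow p G) (hn : ∀ Q : Sylow p G, (P : Subgroup G) ⊓ Subgroup.centralizer (P : Set G) ≤ (Q : Subgroup G) → (Q : Subgroup G) ⊓ Subgroup.centralizer (Q : Set G) = (P : Subgroup G) ⊓ Subgroup.centralizer (P : Set G)) (V : Subgroup G) (hV : Subgroup.normalizer (((P : Subgroup G) ⊓ Subgroup.centralizer (P : Set G) : Subgroup G) : Set G) ≤ V) : (P : Subgroup G) ⊓ Cfsg.pResidual p G = (P : Subgroup G) ⊓ (Cfsg.pResidual p V).map V.subtype := by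
  classical
  set Z : Subgroup G := (P : Subgroup G) ⊓ Subgroup.centralizer (P : Set G) with hZ
  have hZP : Z ≤ (P : Subgroup G) := inf_le_left
  have hZC : Z ≤ Subgroup.centralizer (P : Set G) := inf_le_right
  -- elements of `Z` commute with elements of `P`
  have hcomm : ∀ z ∈ Z, ∀ x ∈ (P : Subgroup G), x * z = z * x := fun z hz x hx =>
    Subgroup.mem_centralizer_iff.mp (hZC hz) x hx
  -- P ≤ N_G(Z)
  have hPN : (P : Subgroup G) ≤ Subgroup.normalizer (Z : Set G) := by
    intro x hx
    rw [Subgroup.mem_set_normalizer_iff]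
    intro h
    constructor
    · intro hh
      have : x * h * x⁻¹ = h := by rw [hcomm h hh x hx]; group
      rw [this]; exact hh
    · intro hh
      have h1 := hcomm _ hh x⁻¹ ((P : Subgroup G).inv_mem hx)
      have : h = x * h * x⁻¹ := by
        calc h = x⁻¹ * (x * h * x⁻¹) * x := by group
          _ = (x * h * x⁻¹) * x⁻¹ * x := by rw [h1]
          _ = x * h * x⁻¹ := by group
      rw [SetLike.mem_coe, this]; exact hh
  have hPV : (P : Subgroup G) ≤ V := hPN.trans hV
  -- weak closure
  have hW : Cfsg.IsWeaklyClosed Z P := by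
    refine ⟨hZP, ?_⟩
    intro g hg
    set Q : Sylow p G := g⁻¹ • P with hQ
    have hQmem : ∀ w : G, w ∈ (Q : Subgroup G) ↔ g * w * g⁻¹ ∈ (P : Subgroup G) := by
      intro w
      rw [hQ, Sylow.coe_subgroup_smul, Subgroup.mem_pointwise_smul_iff_inv_smul_mem, ← map_inv, inv_inv,
        MulAut.smul_def, MulAut.conj_apply]
    have hZQ : Z ≤ (Q : Subgroup G) := by
      intro z hz
      rw [hQmem]
      exact hg ⟨z, hz, rfl⟩
    have hQZ := hn Q hZQ
    -- transport: `w ∈ Z ↔ g⁻¹ w g ∈ Z(Q)`
    have htr : ∀ w : G, w ∈ Z ↔ g⁻¹ * w * g ∈ (Q : Subgroup G) ⊓ Subgroup.centralizer (Q : Set G) := by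
      intro w
      rw [hZ, Subgroup.mem_inf, Subgroup.mem_inf, hQmem, Subgroup.mem_centralizer_iff,
        Subgroup.mem_centralizer_iff]
      have e1 : g * (g⁻¹ * w * g) * g⁻¹ = w := by group
      rw [e1]
      constructor
      · rintro ⟨h1, h2⟩
        refine ⟨h1, fun q hq => ?_⟩
        have hq' : g * q * g⁻¹ ∈ (P : Subgroup G) := (hQmem q).mp hq
        have := h2 _ hq'
        calc q * (g⁻¹ * w * g) = g⁻¹ * ((g * q * g⁻¹) * w) * g := by group
          _ = g⁻¹ * (w * (g * q * g⁻¹)) * g := by rw [this]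
          _ = g⁻¹ * w * g * q := by group
      · rintro ⟨h1, h2⟩
        refine ⟨h1, fun x hx => ?_⟩
        have hx' : g⁻¹ * x * g ∈ (Q : Subgroup G) := by
          rw [hQmem]
          have : g * (g⁻¹ * x * g) * g⁻¹ = x := by group
          rw [this]; exact hx
        have := h2 _ hx'
        calc x * w = g * ((g⁻¹ * x * g) * (g⁻¹ * w * g)) * g⁻¹ := by group
          _ = g * ((g⁻¹ * w * g) * (g⁻¹ * x * g)) * g⁻¹ := by rw [this]
          _ = w * x := by group
    ext w
    rw [htr w, hQZ, Subgroup.mem_map]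
    constructor
    · rintro ⟨z, hz, rfl⟩
      have : g⁻¹ * (MulAut.conj g).toMonoidHom z * g = z := by
        change g⁻¹ * (MulAut.conj g z) * g = z
        rw [MulAut.conj_apply]; group
      rw [this]; exact hz
    · intro hw
      refine ⟨g⁻¹ * w * g, hw, ?_⟩
      change MulAut.conj g (g⁻¹ * w * g) = w
      rw [MulAut.conj_apply]; group
  have hgrun := Cfsg.Agent.S0077.result P Z hZC hW
  have hfoc : (P : Subgroup G) ⊓ commutator G ≤ (commutator V).map V.subtype := by
    rw [inf_comm, hgrun]
    have h1 : ⁅Subgroup.normalizer (Z : Set G), Subgroup.normalizer (Z : Set G)⁆ ≤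
        (commutator V).map V.subtype := by
      rw [commutator_def, Subgroup.map_commutator, ← MonoidHom.range_eq_map, Subgroup.range_subtype]
      exact Subgroup.commutator_mono hV hV
    exact inf_le_left.trans h1
  apply le_antisymm
  · exact le_inf inf_le_left (tate_general P V hPV hfoc)
  · apply le_inf inf_le_left
    refine inf_le_right.trans ?_
    rw [Subgroup.map_le_iff_le_comap]
    unfold Cfsg.pResidual
    rw [Subgroup.closure_le]
    intro v hv
    have hv' : (orderOf v).Coprime p := hv
    rw [SetLike.mem_coe, Subgroup.mem_comap]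
    apply Subgroup.subset_closure
    change (orderOf (v : G)).Coprime p
    rw [Subgroup.orderOf_coe]; exact hv'

end Cfsg.Agent.S0078
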