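import Cfsg.Statements.S0079
import Cfsg.Agent.Lib.Helper29.HallTransfer

set_option autoImplicit false
open Cfsg

namespace Cfsg.Agent.S0079

/-- A nilpotent Hall subgroup has a normal complement exactly when elements of it that are conjugate in the whole group are already conjugate inside it. -/
theorem result {G : Type*} [Group G] [Finite G] (H : Subgroup G) (hH : Group.IsNilpotent H) (hHall : Nat.Coprime (Nat.card H) H.index) : (∃ N : Subgroup G, N.Normal ∧ N.IsComplement' H) ↔ ∀ x ∈ H, ∀ y ∈ H, (∃ g : G, g * x * g⁻¹ = y) → ∃ h ∈ H, h * x * h⁻¹ = y := by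
  constructor
  · rintro ⟨N, hNn, hNc⟩ x hx y hy ⟨g, hg⟩
    obtain ⟨⟨⟨n, hn⟩, ⟨h, hh⟩⟩, hnh⟩ := hNc.2 g
    have hnh' : n * h = g := hnh
    refine ⟨h, hh, ?_⟩
    have hx' : h * x * h⁻¹ ∈ H := H.mul_mem (H.mul_mem hh hx) (H.inv_mem hh)
    have h1 : y * (h * x * h⁻¹)⁻¹ ∈ H := H.mul_mem hy (H.inv_mem hx')
    have h2 : y * (h * x * h⁻¹)⁻¹ ∈ N := by
      have e : y * (h * x * h⁻¹)⁻¹ = n * ((h * x * h⁻¹) * n⁻¹ * (h * x * h⁻¹)⁻¹) := by
        rw [← hg, ← hnh']; group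
      rw [e]
      exact N.mul_mem hn (hNn.conj_mem _ (N.inv_mem hn) _)
    have h3 : y * (h * x * h⁻¹)⁻¹ = 1 := Subgroup.disjoint_def.mp hNc.disjoint h2 h1
    exact (mul_inv_eq_one.mp h3).symm
  · intro hfus
    apply Cfsg.Agent.Lib.Helper29.exists_normal_complement_of_control_fusion H hH hHall
    intro x hx g hxg
    obtain ⟨h, hh, hhx⟩ := hfus x hx (g⁻¹ * x * g) hxg ⟨g⁻¹, by rw [inv_inv]⟩
    exact ⟨h⁻¹, H.inv_mem hh, by rw [inv_inv]; exact hhx⟩

end Cfsg.Agent.S0079
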