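import Cfsg.Statements.S0080
-- import your own Cfsg.Agent.* helpers here

set_option autoImplicit false
open Cfsg

namespace Cfsg.Agent.S0080

open scoped commutatorElement
open scoped IsMulCommutative


/-- When the index of H is prime to the order of H/H', the focal subgroup of H is G' ∩ H, and H/(G' ∩ H) has a normal complement. -/
theorem result {G : Type*} [Group G] [Finite G] (H : Subgroup G) (h : Nat.Coprime H.index (⁅H, H⁆.relIndex H)) : Subgroup.focalSubgroup H = commutator G ⊓ H ∧ ∃ N : Subgroup G, N.Normal ∧ N ⊓ H = commutator G ⊓ H ∧ N ⊔ H = ⊤ := by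
  classical
  set n := H.index with hn
  -- the order of H/H* is prime to n
  have hcomm : (⁅H, H⁆).subgroupOf H = commutator H := by
    rw [← Subgroup.map_subtype_commutator]
    exact Subgroup.comap_map_eq_self_of_injective (Subgroup.subtype_injective H) _
  have hcop : (Nat.card (H ⧸ H.focalSubgroupOf)).Coprime n := by
    have h1 : H.focalSubgroupOf.index ∣ (commutator H).index :=
      Subgroup.index_dvd_of_le H.commutator_le_focalSubgroupOf
    have h2 : (commutator H).index = ⁅H, H⁆.relIndex H := by
      rw [Subgroup.relIndex, hcomm]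
    rw [h2] at h1
    have h3 : Nat.card (H ⧸ H.focalSubgroupOf) = H.focalSubgroupOf.index := rfl
    rw [h3]
    exact (Nat.Coprime.coprime_dvd_right h1 h).symm
  have hbij : Function.Bijective (fun y : H ⧸ H.focalSubgroupOf => y ^ n) :=
    (powCoprime hcop).bijective
  have hsurj : ∀ x : H ⧸ H.focalSubgroupOf, ∃ y : H, H.transferFocal (y : G) = x := by
    intro x
    obtain ⟨y, hy⟩ := hbij.2 x
    obtain ⟨y, rfl⟩ := QuotientGroup.mk'_surjective _ y
    exact ⟨y, (H.transferFocal_eq_pow y).trans hy⟩
  have hker : ∀ y : H, H.transferFocal (y : G) = 1 → (y : G) ∈ H.focalSubgroup := by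
    intro y hy
    rw [H.transferFocal_eq_pow y] at hy
    have h1 : (fun z : H ⧸ H.focalSubgroupOf => z ^ n) (y : H ⧸ H.focalSubgroupOf) =
        (fun z : H ⧸ H.focalSubgroupOf => z ^ n) 1 := by
      simp only [one_pow]; exact hy
    have h2 := hbij.1 h1
    rw [QuotientGroup.eq_one_iff, Subgroup.focalSubgroupOf_def, Subgroup.mem_subgroupOf] at h2
    exact h2
  have hG'ker : commutator G ≤ H.transferFocal.ker :=
    Abelianization.commutator_subset_ker H.transferFocal
  have hfoc : Subgroup.focalSubgroup H = commutator G ⊓ H := by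
    apply le_antisymm
    · exact le_inf H.focalSubgroup_le_commutator H.focalSubgroup_le
    · rintro x ⟨hxG', hxH⟩
      exact hker ⟨x, hxH⟩ (hG'ker hxG')
  refine ⟨hfoc, H.transferFocal.ker, inferInstance, ?_, ?_⟩
  · apply le_antisymm
    · rintro x ⟨hxN, hxH⟩
      rw [← hfoc]
      exact hker ⟨x, hxH⟩ hxN
    · exact inf_le_inf_right _ hG'ker
  · rw [eq_top_iff]
    intro g _
    obtain ⟨y, hy⟩ := hsurj (H.transferFocal g)
    have hk : g * (y : G)⁻¹ ∈ H.transferFocal.ker := by
      rw [MonoidHom.mem_ker, map_mul, map_inv, hy, mul_inv_cancel]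
    have : g = (g * (y : G)⁻¹) * (y : G) := by group
    rw [this]
    exact Subgroup.mul_mem_sup hk y.2

end Cfsg.Agent.S0080
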