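import Cfsg.Statements.S0082
import Cfsg.Agent.Lib.Helper23.AbelianSylow
import Cfsg.Agent.Lib.Helper8.PResidual
import Cfsg.Agent.Lib.Helper12.Residual
import Cfsg.Agent.Lib.Helper9.Cyclic

set_option autoImplicit false
open Cfsg

namespace Cfsg.Agent.S0082

open scoped commutatorElement
open scoped IsMulCommutative


/-- With a cyclic Sylow p-subgroup, either there is a normal p-complement or the elements of order prime to p generate the whole group. -/
theorem result {G : Type*} [Group G] [Finite G] {p : ℕ} [Fact p.Prime] (P : Sylow p G) (hP : IsCyclic P) : Cfsg.HasNormalPComplement p G ∨ Cfsg.pResidual p G = ⊤ := by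
  classical
  haveI := hP
  haveI hPc : IsMulCommutative P := inferInstance
  set N := Subgroup.normalizer ((P : Subgroup G) : Set G) with hN
  set Z := (P : Subgroup G) ⊓ Subgroup.centralizer ((N : Subgroup G) : Set G) with hZ
  set K := ⁅(P : Subgroup G), N⁆ with hK
  have hdec : (P : Subgroup G) ≤ Z ⊔ K := Cfsg.Agent.Lib.Helper23.sylow_le_centralizer_sup_commutator P
  have hZP : Z ≤ (P : Subgroup G) := inf_le_left
  have hKP : K ≤ (P : Subgroup G) := by
    rw [hK, Subgroup.commutator_le]
    intro t ht n hn
    rw [commutatorElement_def]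
    have h3 : n * t⁻¹ * n⁻¹ ∈ (P : Subgroup G) :=
      (Subgroup.mem_normalizer_iff.mp hn t⁻¹).mp (Subgroup.inv_mem _ ht)
    have : t * n * t⁻¹ * n⁻¹ = t * (n * t⁻¹ * n⁻¹) := by group
    rw [this]
    exact Subgroup.mul_mem _ ht h3
  have htop : Z.subgroupOf (P : Subgroup G) ⊔ K.subgroupOf (P : Subgroup G) = ⊤ := by
    rw [← Subgroup.subgroupOf_sup hZP hKP, Subgroup.subgroupOf_eq_top]
    exact hdec
  -- chain property in the cyclic p-group P
  have hchain : (P : Subgroup G) ≤ Z ∨ (P : Subgroup G) ≤ K := by
    set Z' := Z.subgroupOf (P : Subgroup G) with hZ'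
    set K' := K.subgroupOf (P : Subgroup G) with hK'
    have hpP : IsPGroup p (P : Subgroup G) := P.2
    obtain ⟨a, ha⟩ := IsPGroup.iff_card.mp (hpP.to_subgroup Z')
    obtain ⟨b, hb⟩ := IsPGroup.iff_card.mp (hpP.to_subgroup K')
    rcases le_total a b with hab | hab
    · right
      rw [← Subgroup.subgroupOf_eq_top]
      have hle : Z' ≤ K' := by
        intro x hx
        rw [Cfsg.Agent.Lib.Helper9.mem_iff_pow_card_eq_one_of_isCyclic] at hx ⊢
        rw [hb]
        rw [ha] at hx
        obtain ⟨c, rfl⟩ := Nat.exists_eq_add_of_le hab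
        rw [pow_add, pow_mul, hx, one_pow]
      rw [← htop]
      exact (sup_eq_right.mpr hle).symm
    · left
      rw [← Subgroup.subgroupOf_eq_top]
      have hle : K' ≤ Z' := by
        intro x hx
        rw [Cfsg.Agent.Lib.Helper9.mem_iff_pow_card_eq_one_of_isCyclic] at hx ⊢
        rw [ha]
        rw [hb] at hx
        obtain ⟨c, rfl⟩ := Nat.exists_eq_add_of_le hab
        rw [pow_add, pow_mul, hx, one_pow]
      rw [← htop]
      exact (sup_eq_left.mpr hle).symm
  rcases hchain with h | h
  · left
    have h1 : (P : Subgroup G) ≤ Subgroup.centralizer ((N : Subgroup G) : Set G) := h.trans inf_le_right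
    have hNC : Subgroup.normalizer ((P : Subgroup G) : Set G) ≤ Subgroup.centralizer ((P : Subgroup G) : Set G) :=
      Subgroup.le_centralizer_iff.mp h1
    exact ⟨P, (MonoidHom.transferSylow P hNC).ker, inferInstance,
      MonoidHom.ker_transferSylow_isComplement' P hNC⟩
  · right
    apply Cfsg.Agent.Lib.Helper8.pResidual_eq_top_of_sup_commutator
    have h1 : (P : Subgroup G) ≤ commutator G := by
      refine h.trans ?_
      rw [hK, commutator_def]
      exact Subgroup.commutator_mono le_top le_top
    have h2 := Cfsg.Agent.Lib.Helper12.sup_pResidual_eq_top (P : Subgroup G) P.not_dvd_index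
    rw [eq_top_iff, ← h2, sup_comm]
    exact sup_le_sup_left h1 _

end Cfsg.Agent.S0082
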