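import Cfsg.Statements.S0083
-- import your own Cfsg.Agent.* helpers here

set_option autoImplicit false
open Cfsg

namespace Cfsg.Agent.S0083

open scoped IsMulCommutative


/-- For an abelian Sylow p-subgroup P, a normal p-complement exists exactly when the normalizer of P is an internal direct product of P with some subgroup. -/
theorem result {G : Type*} [Group G] [Finite G] {p : ℕ} [Fact p.Prime] (P : Sylow p G) (hP : IsMulCommutative P) : Cfsg.HasNormalPComplement p G ↔ ∃ Q : Subgroup G, Q ≤ Subgroup.centralizer (P : Set G) ∧ Q ⊓ (P : Subgroup G) = ⊥ ∧ Q ⊔ (P : Subgroup G) = Subgroup.normalizer (P : Set G) := by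
  classical
  constructor
  · rintro ⟨P', K, hKn, hK⟩
    haveI := hKn
    -- K is also a complement of P
    have hcard' : Nat.card K * Nat.card (P' : Subgroup G) = Nat.card G := hK.card_mul_card
    have hPP' : Nat.card (P : Subgroup G) = Nat.card (P' : Subgroup G) := by
      rw [Sylow.card_eq_multiplicity, Sylow.card_eq_multiplicity]
    have hKidx : Nat.card K = (P' : Subgroup G).index := hK.index_eq_card.symm
    have hcop : Nat.Coprime (Nat.card K) (Nat.card (P : Subgroup G)) := by
      rw [hPP', hKidx]
      exact P'.card_coprime_index.symm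
    have hKP : K.IsComplement' (P : Subgroup G) :=
      Subgroup.isComplement'_of_coprime (by rw [hPP']; exact hcard') hcop
    have hdisj : K ⊓ (P : Subgroup G) = ⊥ := hKP.disjoint.eq_bot
    have hsup : K ⊔ (P : Subgroup G) = ⊤ := hKP.sup_eq_top
    refine ⟨K ⊓ Subgroup.normalizer ((P : Subgroup G) : Set G), ?_, ?_, ?_⟩
    · rintro q ⟨hqK, hqN⟩
      rw [Subgroup.mem_centralizer_iff]
      intro x hx
      have hxP : x ∈ (P : Subgroup G) := hx
      have h1 : q * x * q⁻¹ * x⁻¹ ∈ K := by
        have : q * x * q⁻¹ * x⁻¹ = q * (x * q⁻¹ * x⁻¹) := by group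
        rw [this]
        exact K.mul_mem hqK (hKn.conj_mem _ (K.inv_mem hqK) x)
      have h2 : q * x * q⁻¹ * x⁻¹ ∈ (P : Subgroup G) := by
        have h3 : q * x * q⁻¹ ∈ (P : Subgroup G) := (Subgroup.mem_normalizer_iff.mp hqN x).mp hxP
        exact Subgroup.mul_mem _ h3 (Subgroup.inv_mem _ hxP)
      have h4 : q * x * q⁻¹ * x⁻¹ ∈ K ⊓ (P : Subgroup G) := ⟨h1, h2⟩
      rw [hdisj, Subgroup.mem_bot] at h4
      have h5 : q * x * q⁻¹ = x := by
        have := mul_inv_eq_one.mp h4
        exact this
      calc x * q = (q * x * q⁻¹) * q := by rw [h5]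
        _ = q * x := by group
    · rw [eq_bot_iff, ← hdisj]
      exact inf_le_inf_right _ inf_le_left
    · apply le_antisymm
      · exact sup_le inf_le_right Subgroup.le_normalizer
      · intro n hn
        have hn' : n ∈ K ⊔ (P : Subgroup G) := by rw [hsup]; trivial
        rw [Subgroup.mem_sup_of_normal_left] at hn'
        obtain ⟨k, hk, x, hx, rfl⟩ := hn'
        have hkN : k ∈ Subgroup.normalizer ((P : Subgroup G) : Set G) := by
          have : k = (k * x) * x⁻¹ := by group
          rw [this]
          exact Subgroup.mul_mem _ hn (Subgroup.inv_mem _ (Subgroup.le_normalizer hx))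
        exact Subgroup.mul_mem_sup ⟨hk, hkN⟩ hx
  · rintro ⟨Q, hQC, _, hQP⟩
    have hPC : (P : Subgroup G) ≤ Subgroup.centralizer ((P : Subgroup G) : Set G) := by
      intro x hx
      rw [Subgroup.mem_centralizer_iff]
      intro y hy
      have := mul_comm (⟨y, hy⟩ : (P : Subgroup G)) ⟨x, hx⟩
      exact congrArg Subtype.val this
    have hNC : Subgroup.normalizer ((P : Subgroup G) : Set G) ≤ Subgroup.centralizer ((P : Subgroup G) : Set G) := by
      have hQP' : Q ⊔ (P : Subgroup G) = Subgroup.normalizer ((P : Subgroup G) : Set G) := hQP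
      have hQC' : Q ≤ Subgroup.centralizer ((P : Subgroup G) : Set G) := hQC
      rw [← hQP']
      exact sup_le hQC' hPC
    exact ⟨P, (MonoidHom.transferSylow P hNC).ker, inferInstance,
      MonoidHom.ker_transferSylow_isComplement' P hNC⟩

end Cfsg.Agent.S0083
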