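import Cfsg.Statements.S0084
-- import your own Cfsg.Agent.* helpers here
import Mathlib
import Cfsg.Agent.Lib.Helper1.NormalPComplement

set_option autoImplicit false
open Cfsg

namespace Cfsg.Agent.S0084

open Cfsg.Agent.Lib.Helper1 Subgroup

/-- A group whose Sylow 2-subgroups are Klein four-groups and whose order is prime to 3 has a normal 2-complement. -/
theorem result {G : Type*} [Group G] [Finite G] (T : Sylow 2 G) (hT : IsKleinFour T) (h3 : ¬ 3 ∣ Nat.card G) : Cfsg.HasNormalPComplement 2 G := by
  have hcard : Nat.card T = 4 := hT.card_four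
  have hcomm : IsMulCommutative T := by
    apply IsMulCommutative.of_comm
    exact mul_comm_of_exponent_two hT.exponent_two
  apply hasNormalPComplement_of_normalizer_le_centralizer T
  apply normalizer_le_centralizer_of_not_dvd T
  intro q hq hq2 hqG d hd hlt hqd
  have hcard' : Nat.card (T : Subgroup G) = 4 := hcard
  rw [hcard'] at hd hlt hqd
  have hd0 : d ≠ 0 := by rintro rfl; simp at hd
  interval_cases d
  · exact hd0 rfl
  · have : q = 3 := (Nat.prime_dvd_prime_iff_eq hq Nat.prime_three).mp hqd
    exact h3 (this ▸ hqG)
  · have : q = 2 := (Nat.prime_dvd_prime_iff_eq hq Nat.prime_two).mp hqd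
    exact hq2 this
  · omega

end Cfsg.Agent.S0084
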