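import Cfsg.Statements.S0085
-- import your own Cfsg.Agent.* helpers here
import Mathlib
import Cfsg.Agent.Lib.Helper1.NormalPComplement

set_option autoImplicit false
open Cfsg

namespace Cfsg.Agent.S0085

open Cfsg.Agent.Lib.Helper1 Subgroup

/-- A group whose Sylow 2-subgroups are elementary abelian of order 8 and whose order is prime to 3 and to 7 has a normal 2-complement. -/
theorem result {G : Type*} [Group G] [Finite G] (T : Sylow 2 G) (h8 : Nat.card T = 8) (he : ∀ x : T, x * x = 1) (h3 : ¬ 3 ∣ Nat.card G) (h7 : ¬ 7 ∣ Nat.card G) : Cfsg.HasNormalPComplement 2 G := by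
  have hcomm : IsMulCommutative T := by
    apply IsMulCommutative.of_comm
    intro a b
    have ha : a⁻¹ = a := inv_eq_of_mul_eq_one_left (he a)
    have hb : b⁻¹ = b := inv_eq_of_mul_eq_one_left (he b)
    have hab : (a * b)⁻¹ = a * b := inv_eq_of_mul_eq_one_left (he (a * b))
    rw [mul_inv_rev, ha, hb] at hab
    exact hab.symm
  apply hasNormalPComplement_of_normalizer_le_centralizer T
  apply normalizer_le_centralizer_of_not_dvd T
  intro q hq hq2 hqG d hd hlt hqd
  have hcard' : Nat.card (T : Subgroup G) = 8 := h8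
  rw [hcard'] at hd hlt hqd
  have hd0 : d ≠ 0 := by rintro rfl; simp at hd
  have h7p : Nat.Prime 7 := by norm_num
  interval_cases d
  · exact hd0 rfl
  · have : q = 7 := (Nat.prime_dvd_prime_iff_eq hq h7p).mp hqd
    exact h7 (this ▸ hqG)
  · have h6 : q ∣ 2 * 3 := hqd
    rcases (Nat.Prime.dvd_mul hq).mp h6 with h | h
    · exact hq2 ((Nat.prime_dvd_prime_iff_eq hq Nat.prime_two).mp h)
    · have : q = 3 := (Nat.prime_dvd_prime_iff_eq hq Nat.prime_three).mp h
      exact h3 (this ▸ hqG)
  · omega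
  · have h4 : q ∣ 2 * 2 := hqd
    rcases (Nat.Prime.dvd_mul hq).mp h4 with h | h
    · exact hq2 ((Nat.prime_dvd_prime_iff_eq hq Nat.prime_two).mp h)
    · exact hq2 ((Nat.prime_dvd_prime_iff_eq hq Nat.prime_two).mp h)
  · omega
  · omega
  · omega

end Cfsg.Agent.S0085
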