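import Cfsg.Statements.S0087
import Cfsg.Agent.Lib.Helper1.SZConj

set_option autoImplicit false
open Cfsg
open Pointwise

namespace Cfsg.Agent.S0087

open Cfsg.Agent.Lib.Helper1

universe u

/-- The inductive hypothesis used below. -/
def IH (n : ℕ) : Prop :=
  ∀ m < n, ∀ (G : Type u) [Group G] [Finite G], Nat.card G = m →
    ∀ H : Subgroup G, Nat.Coprime (Nat.card H) H.index →
    Subgroup.normalizer (H : Set G) ≤ Subgroup.centralizer (H : Set G) →
    ∃ N : Subgroup G, N.Normal ∧ N.IsComplement' H

theorem fusion {G : Type u} [Group G] [Finite G] (ih : IH.{u} (Nat.card G)) (H : Subgroup G)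
    (hHall : Nat.Coprime (Nat.card H) H.index)
    (hNC : Subgroup.normalizer (H : Set G) ≤ Subgroup.centralizer (H : Set G))
    (x : G) (hx : x ∈ H) (g : G) (hxg : g⁻¹ * x * g ∈ H) : g⁻¹ * x * g = x := by
  have hcomm : ∀ a ∈ H, ∀ b ∈ H, a * b = b * a := by
    intro a ha b hb
    have : a ∈ Subgroup.centralizer (H : Set G) := hNC (Subgroup.le_normalizer ha)
    exact ((Subgroup.mem_centralizer_iff.mp this) b hb).symm
  by_cases hC : Subgroup.centralizer ({x} : Set G) = ⊤
  · have hg : g ∈ Subgroup.centralizer ({x} : Set G) := by rw [hC]; exact Subgroup.mem_top g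
    have := (Subgroup.mem_centralizer_iff.mp hg) x rfl
    rw [mul_assoc, this, ← mul_assoc, inv_mul_cancel, one_mul]
  · obtain ⟨C, hCdef⟩ : ∃ C : Subgroup G, C = Subgroup.centralizer ({x} : Set G) := ⟨_, rfl⟩
    have hCtop : C ≠ ⊤ := by rw [hCdef]; exact hC
    have hmemC : ∀ y : G, y ∈ C ↔ x * y = y * x := by
      intro y
      rw [hCdef, Subgroup.mem_centralizer_iff]
      constructor
      · intro h; exact h x rfl
      · intro h z hz
        rw [Set.mem_singleton_iff] at hz
        rw [hz]; exact h
    have hlt : Nat.card C < Nat.card G := card_lt_of_ne_top hCtop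
    have hHC : H ≤ C := by
      intro y hy
      rw [hmemC]
      exact hcomm x hx y hy
    -- Hall in C
    have hcardH' : Nat.card (H.subgroupOf C) = Nat.card H :=
      Nat.card_congr (Subgroup.subgroupOfEquivOfLe hHC).toEquiv
    have hall' : Nat.Coprime (Nat.card (H.subgroupOf C)) (H.subgroupOf C).index := by
      rw [hcardH']
      exact Nat.Coprime.coprime_dvd_right (Subgroup.relIndex_dvd_index_of_le hHC) hHall
    have hNC' : Subgroup.normalizer ((H.subgroupOf C : Subgroup C) : Set C) ≤
        Subgroup.centralizer ((H.subgroupOf C : Subgroup C) : Set C) := by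
      intro c hc
      rw [Subgroup.mem_normalizer_iff] at hc
      have hcN : (c : G) ∈ Subgroup.normalizer (H : Set G) := by
        rw [Subgroup.mem_normalizer_iff]
        intro y
        constructor
        · intro hy
          have := (hc ⟨y, hHC hy⟩).mp (Subgroup.mem_subgroupOf.mpr hy)
          rw [Subgroup.mem_subgroupOf] at this
          simpa using this
        · intro hy
          have hyC : y ∈ C := by
            have e : y = (c : G)⁻¹ * ((c : G) * y * (c : G)⁻¹) * (c : G) := by group
            rw [e]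
            exact C.mul_mem (C.mul_mem (C.inv_mem c.2) (hHC hy)) c.2
          have := (hc ⟨y, hyC⟩).mpr (by
            rw [Subgroup.mem_subgroupOf]
            simpa using hy)
          exact Subgroup.mem_subgroupOf.mp this
      have hcC := hNC hcN
      rw [Subgroup.mem_centralizer_iff] at hcC ⊢
      intro y hy
      apply Subtype.ext
      have := hcC (y : G) (Subgroup.mem_subgroupOf.mp hy)
      simpa using this
    obtain ⟨M', hM'n, hM'c⟩ := ih _ hlt C rfl (H.subgroupOf C) hall' hNC'
    -- the conjugate
    set K : Subgroup G := MulAut.conj g • H with hK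
    have hxK : x ∈ K := by rw [hK, mem_conj_smul_iff]; exact hxg
    have hKcomm : ∀ a ∈ K, ∀ b ∈ K, a * b = b * a := by
      intro a ha b hb
      rw [hK, mem_conj_smul_iff] at ha hb
      have := hcomm _ ha _ hb
      have e1 : a * b = g * ((g⁻¹ * a * g) * (g⁻¹ * b * g)) * g⁻¹ := by group
      have e2 : b * a = g * ((g⁻¹ * b * g) * (g⁻¹ * a * g)) * g⁻¹ := by group
      rw [e1, e2, this]
    have hKC : K ≤ C := by
      intro y hy
      rw [hmemC]
      exact hKcomm x hxK y hy
    have hcardK' : Nat.card (K.subgroupOf C) = Nat.card H := by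
      rw [Nat.card_congr (Subgroup.subgroupOfEquivOfLe hKC).toEquiv, hK, card_conj_smul]
    have hidx : (H.subgroupOf C).index = Nat.card M' := hM'c.index_eq_card
    have hcop : Nat.Coprime (Nat.card M') (Nat.card H) := by
      rw [← hidx, ← hcardH']; exact hall'.symm
    have hmul : Nat.card M' * Nat.card H = Nat.card C := by
      rw [← hcardH']; exact hM'c.card_mul_card
    have hK'c : Subgroup.IsComplement' M' (K.subgroupOf C) := by
      apply Subgroup.isComplement'_of_coprime
      · rw [hcardK']; exact hmul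
      · rw [hcardK']; exact hcop
    have hM'idx : M'.index = Nat.card H := by
      rw [← hcardH']; exact hM'c.symm.index_eq_card
    have hsolv : Group.IsSolvable (C ⧸ M') := by
      have hH'comm : ∀ a b : H.subgroupOf C, a * b = b * a := by
        intro a b
        apply Subtype.ext
        apply Subtype.ext
        exact hcomm _ (Subgroup.mem_subgroupOf.mp a.2) _ (Subgroup.mem_subgroupOf.mp b.2)
      have : Group.IsSolvable (H.subgroupOf C) := Group.isSolvable_of_comm hH'comm
      let f : (H.subgroupOf C) →* (C ⧸ M') := (QuotientGroup.mk' M').comp (H.subgroupOf C).subtype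
      have hf : Function.Surjective f := by
        intro q
        induction q using QuotientGroup.induction_on with | _ c => ?_
        obtain ⟨m, hm, k, hk, hmk⟩ := IsComplement'.exists_mul_eq hM'c c
        refine ⟨⟨k, hk⟩, ?_⟩
        change (QuotientGroup.mk k : C ⧸ M') = QuotientGroup.mk c
        rw [QuotientGroup.eq, ← hmk]
        have e : k⁻¹ * (m * k) = k⁻¹ * m * k := by group
        rw [e]
        have := hM'n.conj_mem m hm k⁻¹
        simpa using this
      exact Group.isSolvable_of_surjective hf
    obtain ⟨c, hc⟩ := sz_conj M' (by rw [hM'idx]; exact hcop) (Or.inr hsolv) _ _ hM'c hK'c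
    have hcG : MulAut.conj (c : G) • H = K := conj_eq_of_subgroupOf_conj_eq hHC hKC c hc
    -- `n = c⁻¹ g` normalizes `H`
    have hn : (c : G)⁻¹ * g ∈ Subgroup.normalizer (H : Set G) := by
      rw [Subgroup.mem_normalizer_iff]
      intro y
      constructor
      · intro hy
        have h1 : g * y * g⁻¹ ∈ K := by
          rw [hK, mem_conj_smul_iff]
          have e : g⁻¹ * (g * y * g⁻¹) * g = y := by group
          rw [e]; exact hy
        rw [← hcG, mem_conj_smul_iff] at h1
        have e : (c : G)⁻¹ * g * y * ((c : G)⁻¹ * g)⁻¹ = (c : G)⁻¹ * (g * y * g⁻¹) * (c : G) := by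
          group
        rw [e]; exact h1
      · intro hy
        have e : (c : G)⁻¹ * g * y * ((c : G)⁻¹ * g)⁻¹ = (c : G)⁻¹ * (g * y * g⁻¹) * (c : G) := by
          group
        rw [e, ← mem_conj_smul_iff, hcG, hK, mem_conj_smul_iff] at hy
        have e2 : g⁻¹ * (g * y * g⁻¹) * g = y := by group
        rwa [e2] at hy
    have hnC := hNC hn
    have h1 : x * ((c : G)⁻¹ * g) = ((c : G)⁻¹ * g) * x :=
      ((Subgroup.mem_centralizer_iff.mp hnC) x hx)
    have h2 : x * (c : G) = (c : G) * x := (hmemC c).mp c.2
    have h3 : x * (c : G)⁻¹ = (c : G)⁻¹ * x := by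
      have : (c : G)⁻¹ * (x * (c : G)) * (c : G)⁻¹ = (c : G)⁻¹ * ((c : G) * x) * (c : G)⁻¹ := by
        rw [h2]
      have e1 : (c : G)⁻¹ * (x * (c : G)) * (c : G)⁻¹ = (c : G)⁻¹ * x := by group
      have e2 : (c : G)⁻¹ * ((c : G) * x) * (c : G)⁻¹ = x * (c : G)⁻¹ := by group
      rw [e1, e2] at this
      exact this.symm
    -- x g = g x
    have h4 : x * g = g * x := by
      have : x * g = (c : G) * (x * ((c : G)⁻¹ * g)) := by
        rw [← mul_assoc x, h3]; group
      rw [this, h1]; 
      rw [← mul_assoc, ← mul_assoc, mul_inv_cancel, one_mul]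
    rw [mul_assoc, h4, ← mul_assoc, inv_mul_cancel, one_mul]

theorem complement_of_fusion {G : Type u} [Group G] [Finite G] (H : Subgroup G)
    (hHall : Nat.Coprime (Nat.card H) H.index)
    (hcomm : ∀ a ∈ H, ∀ b ∈ H, a * b = b * a)
    (hfus : ∀ x ∈ H, ∀ g : G, g⁻¹ * x * g ∈ H → g⁻¹ * x * g = x) :
    ∃ N : Subgroup G, N.Normal ∧ N.IsComplement' H := by
  let _ : CommGroup H :=
    { (inferInstance : Group H) with mul_comm := fun a b => Subtype.ext (hcomm a a.2 b b.2) }
  have hV : ∀ h : H, MonoidHom.transfer (MonoidHom.id H) (h : G) = h ^ H.index := by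
    intro h
    have key : ∀ (k : ℕ) (g₀ : G), g₀⁻¹ * (h : G) ^ k * g₀ ∈ H →
        g₀⁻¹ * (h : G) ^ k * g₀ = (h : G) ^ k :=
      fun k g₀ hk => hfus _ (H.pow_mem h.2 k) g₀ hk
    rw [MonoidHom.transfer_eq_pow (MonoidHom.id H) (h : G) key]
    apply Subtype.ext
    simp
  have hpowbij : Function.Bijective (fun h : H => h ^ H.index) := by
    have := (powCoprime hHall).bijective
    have e : (fun h : H => h ^ H.index) = ⇑(powCoprime hHall) := by
      funext h
      rw [powCoprime_apply]
    rw [e]; exact this
  refine ⟨(MonoidHom.transfer (MonoidHom.id H)).ker, inferInstance, ?_⟩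
  apply Subgroup.isComplement'_of_card_mul_and_disjoint
  · have hrange : (MonoidHom.transfer (MonoidHom.id H)).range = ⊤ := by
      rw [eq_top_iff]
      intro y _
      obtain ⟨h, hh⟩ := hpowbij.2 y
      exact ⟨(h : G), by rw [hV]; exact hh⟩
    have h1 := Subgroup.card_mul_index (MonoidHom.transfer (MonoidHom.id H)).ker
    rw [Subgroup.index_ker, hrange, Subgroup.card_top] at h1
    exact h1
  · rw [Subgroup.disjoint_def]
    intro x hxk hxH
    have h1 : MonoidHom.transfer (MonoidHom.id H) x = 1 := MonoidHom.mem_ker.mp hxk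
    have h2 := hV ⟨x, hxH⟩
    rw [Subtype.coe_mk, h1] at h2
    have h3 : (fun h : H => h ^ H.index) ⟨x, hxH⟩ = (fun h : H => h ^ H.index) 1 := by
      change (⟨x, hxH⟩ : H) ^ H.index = 1 ^ H.index
      rw [← h2, one_pow]
    have := hpowbij.1 h3
    exact congrArg Subtype.val this

theorem main : ∀ (n : ℕ) (G : Type u) [Group G] [Finite G], Nat.card G = n →
    ∀ H : Subgroup G, Nat.Coprime (Nat.card H) H.index →
    Subgroup.normalizer (H : Set G) ≤ Subgroup.centralizer (H : Set G) →
    ∃ N : Subgroup G, N.Normal ∧ N.IsComplement' H := by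
  intro n
  induction n using Nat.strong_induction_on with
  | _ n ih =>
  intro G _ _ hn H hHall hNC
  have ih' : IH.{u} (Nat.card G) := by
    intro m hm G' _ _ hG' H' h1 h2
    exact ih m (hn ▸ hm) G' hG' H' h1 h2
  have hcomm : ∀ a ∈ H, ∀ b ∈ H, a * b = b * a := by
    intro a ha b hb
    have : a ∈ Subgroup.centralizer (H : Set G) := hNC (Subgroup.le_normalizer ha)
    exact ((Subgroup.mem_centralizer_iff.mp this) b hb).symm
  exact complement_of_fusion H hHall hcomm (fun x hx g hxg => fusion ih' H hHall hNC x hx g hxg)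


/-- A Hall subgroup that is central in its normalizer has a normal complement. -/
theorem result {G : Type*} [Group G] [Finite G] (H : Subgroup G) (hHall : Nat.Coprime (Nat.card H) H.index) (h : Subgroup.normalizer (H : Set G) ≤ Subgroup.centralizer (H : Set G)) : ∃ N : Subgroup G, N.Normal ∧ N.IsComplement' H := by
  exact main (Nat.card G) G rfl H hHall h

end Cfsg.Agent.S0087
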