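import Cfsg.Statements.S0090
import Cfsg.Agent.Lib.Helper23.AbelianAvg
import Cfsg.Agent.S0088

set_option autoImplicit false
open Cfsg

namespace Cfsg.Agent.S0090

open scoped commutatorElement
open scoped IsMulCommutative


/-- An abelian normal Hall subgroup A splits as the internal direct product of G' ∩ A and Z(G) ∩ A, and [A, G] = G' ∩ A. -/
theorem result {G : Type*} [Group G] [Finite G] (A : Subgroup G) [A.Normal] (hc : IsMulCommutative A) (hHall : Nat.Coprime (Nat.card A) A.index) : ⁅A, (⊤ : Subgroup G)⁆ = commutator G ⊓ A ∧ (commutator G ⊓ A) ⊓ (Subgroup.center G ⊓ A) = ⊥ ∧ (commutator G ⊓ A) ⊔ (Subgroup.center G ⊓ A) = A := by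
  classical
  haveI := hc
  have hnorm : Subgroup.normalizer (A : Set G) = ⊤ := Subgroup.normalizer_eq_top A
  have hdec0 := Cfsg.Agent.Lib.Helper23.le_centralizer_sup_commutator_of_coprime A
    (by rw [hnorm, Subgroup.relIndex_top_right]; exact hHall)
  rw [hnorm, Subgroup.coe_top, Subgroup.centralizer_univ] at hdec0
  have hAG : ⁅A, (⊤ : Subgroup G)⁆ ≤ commutator G ⊓ A := by
    apply le_inf
    · rw [commutator_def]
      exact Subgroup.commutator_mono le_top le_rfl
    · exact Subgroup.commutator_le_left A ⊤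
  have h88 := Cfsg.Agent.S0088.result A hc hHall
  have hii : (commutator G ⊓ A) ⊓ (Subgroup.center G ⊓ A) = ⊥ := by
    rw [eq_bot_iff, ← h88]
    rintro x ⟨⟨h1, h2⟩, ⟨h3, _⟩⟩
    exact ⟨⟨h2, h1⟩, h3⟩
  refine ⟨?_, hii, ?_⟩
  · apply le_antisymm hAG
    rintro a ⟨haG', haA⟩
    have ha := hdec0 haA
    rw [Subgroup.mem_sup_of_normal_right] at ha
    obtain ⟨z, hz, c, hc', rfl⟩ := ha
    have hcG' : c ∈ commutator G := (hAG hc').1
    have hzG' : z ∈ commutator G := by
      have : z = (z * c) * c⁻¹ := by group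
      rw [this]
      exact Subgroup.mul_mem _ haG' (Subgroup.inv_mem _ hcG')
    have hz1 : z ∈ A ⊓ commutator G ⊓ Subgroup.center G := ⟨⟨hz.1, hzG'⟩, hz.2⟩
    rw [h88, Subgroup.mem_bot] at hz1
    rw [hz1, one_mul]
    exact hc'
  · apply le_antisymm
    · exact sup_le inf_le_right inf_le_right
    · refine hdec0.trans ?_
      rw [sup_comm]
      apply sup_le_sup hAG
      rw [inf_comm]

end Cfsg.Agent.S0090
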