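import Cfsg.Statements.S0091
-- import your own Cfsg.Agent.* helpers here

set_option autoImplicit false
open Cfsg

namespace Cfsg.Agent.S0091

open scoped commutatorElement


/-- If a nontrivial Sylow p-subgroup controls its own fusion then it is not contained in the derived subgroup. -/
theorem result {G : Type*} [Group G] [Finite G] {p : ℕ} [Fact p.Prime] (P : Sylow p G) (hp : p ∣ Nat.card G) (h : ∀ x ∈ P, ∀ y ∈ P, (∃ g : G, g * x * g⁻¹ = y) → ∃ z ∈ P, z * x * z⁻¹ = y) : ¬ (P : Subgroup G) ≤ commutator G := by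
  classical
  intro hle
  -- P is nontrivial
  haveI hnt : Nontrivial (P : Subgroup G) := by
    by_contra hcon
    rw [not_nontrivial_iff_subsingleton] at hcon
    have hbot : (P : Subgroup G) = ⊥ := Subgroup.eq_bot_of_subsingleton _
    have hidx := P.not_dvd_index
    rw [hbot, Subgroup.index_bot] at hidx
    exact hidx hp
  -- the focal subgroup is contained in P'
  have hfoc : (P : Subgroup G).focalSubgroup ≤ ⁅(P : Subgroup G), (P : Subgroup G)⁆ := by
    rw [Subgroup.focalSubgroup_def, Subgroup.closure_le]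
    rintro g ⟨hgP, x, hxP, u, rfl⟩
    have h1 : u * x⁻¹ * u⁻¹ ∈ (P : Subgroup G) := by
      have e : u * x⁻¹ * u⁻¹ = x⁻¹ * ⁅x, u⁆ := by rw [commutatorElement_def]; group
      rw [e]; exact Subgroup.mul_mem _ (Subgroup.inv_mem _ hxP) hgP
    obtain ⟨z, hz, hzx⟩ := h x⁻¹ (Subgroup.inv_mem _ hxP) _ h1 ⟨u, rfl⟩
    have e2 : ⁅x, u⁆ = ⁅x, z⁆ := by
      rw [commutatorElement_def, commutatorElement_def]
      calc x * u * x⁻¹ * u⁻¹ = x * (u * x⁻¹ * u⁻¹) := by group
        _ = x * (z * x⁻¹ * z⁻¹) := by rw [hzx]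
        _ = x * z * x⁻¹ * z⁻¹ := by group
    rw [e2]
    exact Subgroup.commutator_mem_commutator hxP hz
  have h2 : (P : Subgroup G) ≤ ⁅(P : Subgroup G), (P : Subgroup G)⁆ := by
    calc (P : Subgroup G) = commutator G ⊓ (P : Subgroup G) := (inf_eq_right.mpr hle).symm
      _ = (P : Subgroup G).focalSubgroup := Subgroup.commutator_inf_eq_focalSubgroup P
      _ ≤ _ := hfoc
  have h3 : commutator (P : Subgroup G) = ⊤ := by
    rw [eq_top_iff]
    intro y _
    have hy := h2 y.2
    rw [← Subgroup.map_subtype_commutator] at hy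
    obtain ⟨y', hy', hyy⟩ := hy
    have : y' = y := Subtype.ext hyy
    rw [← this]; exact hy'
  haveI : Group.IsNilpotent (P : Subgroup G) := P.2.isNilpotent
  have h4 := Group.IsSolvable.commutator_lt_top_of_nontrivial (P : Subgroup G)
  rw [h3] at h4
  exact lt_irrefl _ h4

end Cfsg.Agent.S0091
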