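import Cfsg.Statements.S0092
-- import your own Cfsg.Agent.* helpers here
import Cfsg.Agent.Lib.Helper1.SplitResidual

set_option autoImplicit false
open Cfsg

namespace Cfsg.Agent.S0092

/-- If the Sylow p-subgroups of O^p(G) are abelian then G splits over O^p(G). -/
theorem result {G : Type*} [Group G] [Finite G] {p : ℕ} [Fact p.Prime] (h : ∀ Q : Sylow p (Cfsg.pResidual p G), IsMulCommutative Q) : ∃ K : Subgroup G, K.IsComplement' (Cfsg.pResidual p G) := by
  haveI hNn : (Cfsg.pResidual p G).Normal := Cfsg.Agent.Lib.Helper8.pResidual_normal p G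
  have hGN : IsPGroup p (G ⧸ Cfsg.pResidual p G) :=
    Cfsg.Agent.Lib.Helper8.isPGroup_quotient_pResidual p _ le_rfl
  let Q0 : Sylow p (Cfsg.pResidual p G) := default
  haveI : IsMulCommutative Q0 := h Q0
  exact Cfsg.Agent.Lib.Helper1.exists_complement_of_abelian_sylow_le_commutator
    (Cfsg.pResidual p G) hGN Q0
    (Cfsg.Agent.Lib.Helper1.le_commutator_of_pResidual_eq_top
      (Cfsg.Agent.Lib.Helper1.pResidual_pResidual_eq_top p) Q0.2)

end Cfsg.Agent.S0092
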