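import Cfsg.Statements.S0094
import Cfsg.Agent.Lib.Helper1.PGroup

set_option autoImplicit false
open Cfsg

namespace Cfsg.Agent.S0094

open scoped commutatorElement


/-- In a special p-group every central element has order dividing p. -/
theorem result {P : Type*} [Group P] [Finite P] {p : ℕ} [Fact p.Prime] (h : Cfsg.IsSpecial p P) (z : P) (hz : z ∈ Subgroup.center P) : z ^ p = 1 := by
  classical
  obtain ⟨hP, hfr, hcomm⟩ := h
  -- commutator identity for central commutators
  have hid : ∀ (x y : P), ⁅x, y⁆ ∈ Subgroup.center P → ∀ n : ℕ, ⁅x ^ n, y⁆ = ⁅x, y⁆ ^ n := by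
    intro x y hc n
    induction n with
    | zero => simp [commutatorElement_def]
    | succ n ih =>
      have e : ⁅x ^ (n + 1), y⁆ = x * ⁅x ^ n, y⁆ * x⁻¹ * ⁅x, y⁆ := by
        rw [pow_succ', commutatorElement_def, commutatorElement_def, commutatorElement_def]
        group
      rw [e, ih]
      have hcn : ⁅x, y⁆ ^ n ∈ Subgroup.center P := Subgroup.pow_mem _ hc n
      have hcomm' : x * ⁅x, y⁆ ^ n = ⁅x, y⁆ ^ n * x := (Subgroup.mem_center_iff.mp hcn) x
      rw [hcomm', mul_inv_cancel_right, ← pow_succ]
  have hgen : ∀ g ∈ commutator P, g ^ p = 1 := by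
    intro g hg
    rw [commutator_def, Subgroup.commutator_def] at hg
    induction hg using Subgroup.closure_induction with
    | mem g hg =>
      obtain ⟨x, _, y, _, rfl⟩ := hg
      have hc : ⁅x, y⁆ ∈ Subgroup.center P := by
        rw [← hcomm, commutator_def]
        exact Subgroup.commutator_mem_commutator (Subgroup.mem_top x) (Subgroup.mem_top y)
      rw [← hid x y hc p]
      have hxp : x ^ p ∈ Subgroup.center P := by
        rw [← hfr]
        exact Cfsg.Agent.Lib.Helper1.IsPGroup.pow_mem_frattini hP x
      rw [commutatorElement_eq_one_iff_mul_comm]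
      exact ((Subgroup.mem_center_iff.mp hxp) y).symm
    | one => exact one_pow p
    | mul a b ha hb iha ihb =>
      have hac : a ∈ Subgroup.center P := by
        rw [← hcomm, commutator_def, Subgroup.commutator_def]; exact ha
      have hcm : Commute a b := ((Subgroup.mem_center_iff.mp hac) b).symm
      rw [hcm.mul_pow, iha, ihb, one_mul]
    | inv a _ iha => rw [inv_pow, iha, inv_one]
  apply hgen
  rw [hcomm]
  exact hz

end Cfsg.Agent.S0094
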