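import Cfsg.Statements.S0096
import Cfsg.Agent.Lib.Helper23.Class2

set_option autoImplicit false
open Cfsg

namespace Cfsg.Agent.S0096

open scoped commutatorElement


/-- For odd p, in a p-group of class at most two the elements of order dividing p generate a subgroup of exponent dividing p. -/
theorem result {P : Type*} [Group P] [Finite P] {p : ℕ} [Fact p.Prime] (hp : p ≠ 2) (hP : IsPGroup p P) (h2 : ⁅commutator P, (⊤ : Subgroup P)⁆ = ⊥) (g : P) (hg : g ∈ Subgroup.closure {x : P | x ^ p = 1}) : g ^ p = 1 := by
  classical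
  have hodd : 2 < p := lt_of_le_of_ne (Fact.out : p.Prime).two_le (Ne.symm hp)
  -- commutators are central
  have hcen : ∀ x y : P, ⁅x, y⁆ ∈ Subgroup.center P := by
    intro x y
    rw [Subgroup.mem_center_iff]
    intro g
    have h1 : ⁅⁅x, y⁆, g⁆ ∈ ⁅commutator P, (⊤ : Subgroup P)⁆ := by
      apply Subgroup.commutator_mem_commutator _ (Subgroup.mem_top g)
      rw [commutator_def]
      exact Subgroup.commutator_mem_commutator (Subgroup.mem_top x) (Subgroup.mem_top y)
    rw [h2, Subgroup.mem_bot, commutatorElement_eq_one_iff_mul_comm] at h1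
    exact h1.symm
  induction hg using Subgroup.closure_induction with
  | mem g hg => exact hg
  | one => exact one_pow p
  | mul a b _ _ iha ihb =>
    rw [Cfsg.Agent.Lib.Helper23.mul_pow_of_central_commutator a b (hcen b a) p, iha, ihb, one_mul, one_mul]
    have hdvd : p ∣ p.choose 2 := (Fact.out : p.Prime).dvd_choose_self (by norm_num) hodd
    obtain ⟨k, hk⟩ := hdvd
    rw [hk, pow_mul, ← Cfsg.Agent.Lib.Helper23.commutatorElement_pow_left_of_central b a (hcen b a) p, ihb]
    simp [commutatorElement_def]
  | inv a _ iha => rw [inv_pow, iha, inv_one]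

end Cfsg.Agent.S0096
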