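import Cfsg.Statements.S0097
import Mathlib
import Cfsg.Agent.Lib.Helper1.PGroup

set_option autoImplicit false
open Cfsg

namespace Cfsg.Agent.S0097

open scoped commutatorElement

/-- `y ^ n * x = c ^ n * x * y ^ n` where `c = ⁅y, x⁆` is central. -/
theorem pow_mul_comm_class2 {E : Type*} [Group E] (x y : E)
    (hc : ∀ g : E, g * ⁅y, x⁆ = ⁅y, x⁆ * g) (n : ℕ) :
    y ^ n * x = ⁅y, x⁆ ^ n * x * y ^ n := by
  induction n with
  | zero => simp
  | succ n ih =>
    have hyx : y * x = ⁅y, x⁆ * x * y := by simp [commutatorElement_def]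
    have hcn : ∀ g : E, g * ⁅y, x⁆ ^ n = ⁅y, x⁆ ^ n * g := fun g =>
      ((Commute.pow_right (hc g) n)).eq
    calc y ^ (n + 1) * x = y * (y ^ n * x) := by rw [pow_succ', mul_assoc]
      _ = y * (⁅y, x⁆ ^ n * x * y ^ n) := by rw [ih]
      _ = (y * ⁅y, x⁆ ^ n) * x * y ^ n := by simp only [mul_assoc]
      _ = ⁅y, x⁆ ^ n * (y * x) * y ^ n := by rw [hcn y]; simp only [mul_assoc]
      _ = ⁅y, x⁆ ^ n * (⁅y, x⁆ * x * y) * y ^ n := by rw [hyx]
      _ = ⁅y, x⁆ ^ (n + 1) * x * y ^ (n + 1) := by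
          rw [pow_succ, pow_succ']; simp only [mul_assoc]

theorem class2_step {E : Type*} [Group E] (x y a C : E) (n : ℕ)
    (ha : ∀ g : E, g * a = a * g) (hC : ∀ g : E, g * C = C * g)
    (hyx : y ^ n * x = a * x * y ^ n) :
    x ^ n * y ^ n * C * (x * y) = x ^ (n + 1) * y ^ (n + 1) * (a * C) := by
  calc x ^ n * y ^ n * C * (x * y)
      = x ^ n * y ^ n * ((x * y) * C) := by rw [mul_assoc (x ^ n * y ^ n), ← hC (x * y)]
    _ = x ^ n * (y ^ n * x) * y * C := by simp only [mul_assoc]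
    _ = x ^ n * (a * x * y ^ n) * y * C := by rw [hyx]
    _ = (x ^ n * a) * x * y ^ n * y * C := by simp only [mul_assoc]
    _ = a * x ^ n * x * y ^ n * y * C := by rw [ha (x ^ n)]
    _ = a * (x ^ (n + 1) * y ^ (n + 1)) * C := by rw [pow_succ, pow_succ]; simp only [mul_assoc]
    _ = (x ^ (n + 1) * y ^ (n + 1)) * a * C := by rw [← ha]
    _ = x ^ (n + 1) * y ^ (n + 1) * (a * C) := by simp only [mul_assoc]

/-- `(x * y) ^ n = x ^ n * y ^ n * c ^ (0 + 1 + ... + (n-1))` where `c = ⁅y, x⁆` is central. -/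
theorem mul_pow_class2 {E : Type*} [Group E] (x y : E)
    (hc : ∀ g : E, g * ⁅y, x⁆ = ⁅y, x⁆ * g) (n : ℕ) :
    (x * y) ^ n = x ^ n * y ^ n * ⁅y, x⁆ ^ (∑ i ∈ Finset.range n, i) := by
  induction n with
  | zero => simp
  | succ n ih =>
    have hck : ∀ (k : ℕ) (g : E), g * ⁅y, x⁆ ^ k = ⁅y, x⁆ ^ k * g := fun k g =>
      ((Commute.pow_right (hc g) k)).eq
    rw [pow_succ, ih, Finset.sum_range_succ,
      class2_step x y (⁅y, x⁆ ^ n) (⁅y, x⁆ ^ (∑ i ∈ Finset.range n, i)) n (hck n) (hck _)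
        (pow_mul_comm_class2 x y hc n), ← pow_add, add_comm n (∑ i ∈ Finset.range n, i)]

/-- For odd p and E extraspecial, the subgroup generated by the elements of order dividing p has exponent dividing p and index at most p. -/
theorem result {E : Type*} [Group E] [Finite E] {p : ℕ} [Fact p.Prime] (hp : p ≠ 2) (h : Cfsg.IsExtraspecial p E) : (Subgroup.closure {x : E | x ^ p = 1}).index ≤ p ∧ ∀ g ∈ Subgroup.closure {x : E | x ^ p = 1}, g ^ p = 1 := by
  classical
  have hpp : p.Prime := Fact.out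
  obtain ⟨⟨hEp, hfrat, hcz⟩, hZcard⟩ := h
  have hcen : ∀ x y g : E, g * ⁅y, x⁆ = ⁅y, x⁆ * g := by
    intro x y g
    have hm : ⁅y, x⁆ ∈ Subgroup.center E := by
      rw [← hcz]
      exact Subgroup.commutator_mem_commutator (Subgroup.mem_top y) (Subgroup.mem_top x)
    exact Subgroup.mem_center_iff.mp hm g
  have hZpow : ∀ z ∈ Subgroup.center E, z ^ p = 1 := by
    intro z hz
    have h1 : (⟨z, hz⟩ : Subgroup.center E) ^ p = 1 := by
      rw [← hZcard]; exact pow_card_eq_one'
    have := congrArg Subtype.val h1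
    simpa using this
  have hpowZ : ∀ x : E, x ^ p ∈ Subgroup.center E := by
    intro x
    rw [← hfrat]
    exact Cfsg.Agent.Lib.Helper1.IsPGroup.pow_mem_frattini hEp x
  -- p odd: sum = p * m
  have hodd : Odd p := hpp.odd_of_ne_two hp
  obtain ⟨m, hm⟩ := hodd
  have hsum : ∑ i ∈ Finset.range p, i = p * m := by
    have h1 := Finset.sum_range_id_mul_two p
    have h2 : p - 1 = 2 * m := by omega
    rw [h2] at h1
    have h3 : (∑ i ∈ Finset.range p, i) * 2 = (p * m) * 2 := by rw [h1]; ring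
    exact Nat.eq_of_mul_eq_mul_right (by norm_num) h3
  have hmulpow : ∀ x y : E, (x * y) ^ p = x ^ p * y ^ p := by
    intro x y
    rw [mul_pow_class2 x y (hcen x y) p, hsum, pow_mul]
    have hm' : ⁅y, x⁆ ∈ Subgroup.center E := by
      rw [← hcz]
      exact Subgroup.commutator_mem_commutator (Subgroup.mem_top y) (Subgroup.mem_top x)
    rw [hZpow _ hm', one_pow, mul_one]
  let φ : E →* Subgroup.center E :=
    { toFun := fun x => ⟨x ^ p, hpowZ x⟩
      map_one' := by
        apply Subtype.ext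
        simp
      map_mul' := fun x y => by
        apply Subtype.ext
        simp only [Subgroup.coe_mul]
        exact hmulpow x y }
  have hker : ∀ x : E, x ∈ φ.ker ↔ x ^ p = 1 := by
    intro x
    rw [MonoidHom.mem_ker]
    constructor
    · intro h1
      exact congrArg Subtype.val h1
    · intro h1
      exact Subtype.ext h1
  have hclos : Subgroup.closure {x : E | x ^ p = 1} = φ.ker := by
    have : {x : E | x ^ p = 1} = (φ.ker : Set E) := by
      ext x
      change x ^ p = 1 ↔ x ∈ φ.ker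
      exact (hker x).symm
    rw [this, Subgroup.closure_eq]
  rw [hclos]
  constructor
  · rw [Subgroup.index_ker]
    rw [← hZcard]
    exact Subgroup.card_le_card_group φ.range
  · intro g hg
    exact (hker g).mp hg

end Cfsg.Agent.S0097
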