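import Cfsg.Statements.S0099
import Mathlib
import Cfsg.Agent.Lib.Helper20.ESTwoClass

set_option autoImplicit false
open Cfsg

namespace Cfsg.Agent.S0099

/-- Among three extraspecial 2-groups of equal order, some two are isomorphic. -/
theorem result {E₁ : Type*} {E₂ : Type*} {E₃ : Type*} [Group E₁] [Group E₂] [Group E₃] [Finite E₁] [Finite E₂] [Finite E₃] (h₁ : Cfsg.IsExtraspecial 2 E₁) (h₂ : Cfsg.IsExtraspecial 2 E₂) (h₃ : Cfsg.IsExtraspecial 2 E₃) (h12 : Nat.card E₁ = Nat.card E₂) (h23 : Nat.card E₂ = Nat.card E₃) : Nonempty (E₁ ≃* E₂) ∨ Nonempty (E₂ ≃* E₃) ∨ Nonempty (E₁ ≃* E₃) := by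
  haveI : Fact (Nat.Prime 2) := ⟨Nat.prime_two⟩
  obtain ⟨z₁, hz₁⟩ := Cfsg.Agent.Lib.Helper20.ES.exists_esData h₁
  obtain ⟨z₂, hz₂⟩ := Cfsg.Agent.Lib.Helper20.ES.exists_esData h₂
  obtain ⟨z₃, hz₃⟩ := Cfsg.Agent.Lib.Helper20.ES.exists_esData h₃
  have hna₁ := Cfsg.Agent.Lib.Helper20.ES.exists_comm_ne_one h₁
  have hna₂ := Cfsg.Agent.Lib.Helper20.ES.exists_comm_ne_one h₂
  have hna₃ := Cfsg.Agent.Lib.Helper20.ES.exists_comm_ne_one h₃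
  obtain ⟨m₁, -, hc₁, hN₁⟩ :=
    Cfsg.Agent.Lib.Helper20.ES.card_and_count (Nat.card E₁) z₁ hz₁ hna₁ rfl
  obtain ⟨m₂, -, hc₂, hN₂⟩ :=
    Cfsg.Agent.Lib.Helper20.ES.card_and_count (Nat.card E₂) z₂ hz₂ hna₂ rfl
  obtain ⟨m₃, -, hc₃, hN₃⟩ :=
    Cfsg.Agent.Lib.Helper20.ES.card_and_count (Nat.card E₃) z₃ hz₃ hna₃ rfl
  have hm12 : m₁ = m₂ := by
    have : (2 : ℕ) ^ (2 * m₁ + 1) = 2 ^ (2 * m₂ + 1) := by rw [← hc₁, ← hc₂, h12]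
    have := Nat.pow_right_injective (le_refl 2) this
    omega
  have hm23 : m₂ = m₃ := by
    have : (2 : ℕ) ^ (2 * m₂ + 1) = 2 ^ (2 * m₃ + 1) := by rw [← hc₂, ← hc₃, h23]
    have := Nat.pow_right_injective (le_refl 2) this
    omega
  subst hm12
  subst hm23
  have iso12 : Nat.card {e : E₁ // e ^ 2 = 1} = Nat.card {e : E₂ // e ^ 2 = 1} →
      Nonempty (E₁ ≃* E₂) := fun hN => by
    obtain ⟨φ, -⟩ := Cfsg.Agent.Lib.Helper20.ES.equiv_of_count (Nat.card E₁) z₁ z₂ hz₁ hz₂ hna₁ hna₂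
      rfl h12.symm hN
    exact ⟨φ⟩
  have iso23 : Nat.card {e : E₂ // e ^ 2 = 1} = Nat.card {e : E₃ // e ^ 2 = 1} →
      Nonempty (E₂ ≃* E₃) := fun hN => by
    obtain ⟨φ, -⟩ := Cfsg.Agent.Lib.Helper20.ES.equiv_of_count (Nat.card E₂) z₂ z₃ hz₂ hz₃ hna₂ hna₃
      rfl h23.symm hN
    exact ⟨φ⟩
  have iso13 : Nat.card {e : E₁ // e ^ 2 = 1} = Nat.card {e : E₃ // e ^ 2 = 1} →
      Nonempty (E₁ ≃* E₃) := fun hN => by
    obtain ⟨φ, -⟩ := Cfsg.Agent.Lib.Helper20.ES.equiv_of_count (Nat.card E₁) z₁ z₃ hz₁ hz₃ hna₁ hna₃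
      rfl (h12.trans h23).symm hN
    exact ⟨φ⟩
  rcases hN₁ with a₁ | a₁ <;> rcases hN₂ with a₂ | a₂ <;> rcases hN₃ with a₃ | a₃
  · exact Or.inl (iso12 (a₁.trans a₂.symm))
  · exact Or.inl (iso12 (a₁.trans a₂.symm))
  · exact Or.inr (Or.inr (iso13 (a₁.trans a₃.symm)))
  · exact Or.inr (Or.inl (iso23 (a₂.trans a₃.symm)))
  · exact Or.inr (Or.inl (iso23 (a₂.trans a₃.symm)))
  · exact Or.inr (Or.inr (iso13 (a₁.trans a₃.symm)))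
  · exact Or.inl (iso12 (a₁.trans a₂.symm))
  · exact Or.inl (iso12 (a₁.trans a₂.symm))

end Cfsg.Agent.S0099
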