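import Cfsg.Statements.S0101
import Cfsg.Agent.Lib.Helper1.PGroup

set_option autoImplicit false
open Cfsg

namespace Cfsg.Agent.S0101

open scoped IsMulCommutative


/-- In a perfect central extension, the kernel meets each Sylow p-subgroup P inside the Frattini subgroup of P. -/
theorem result {H : Type*} {G : Type*} [Group H] [Group G] [Finite H] (σ : H →* G) (hσ : Function.Surjective σ) (hc : σ.ker ≤ Subgroup.center H) (hH : commutator H = ⊤) {p : ℕ} [Fact p.Prime] (P : Sylow p H) : σ.ker ⊓ (P : Subgroup H) ≤ (frattini P).map (P : Subgroup H).subtype := by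
  classical
  rintro z ⟨hzk, hzP⟩
  refine ⟨⟨z, hzP⟩, ?_, rfl⟩
  have hzc : z ∈ Subgroup.center H := hc hzk
  change (⟨z, hzP⟩ : (P : Subgroup H)) ∈ frattini (P : Subgroup H)
  unfold frattini Order.radical
  simp only [Subgroup.mem_iInf]
  intro M hM
  by_contra hzM
  haveI hMn : M.Normal := Cfsg.Agent.Lib.Helper1.IsPGroup.coatom_normal P.2 M hM
  have hidx : M.index = p := Cfsg.Agent.Lib.Helper1.IsPGroup.coatom_index P.2 M hM
  have hcard : Nat.card ((P : Subgroup H) ⧸ M) = p := by rw [← Subgroup.index_eq_card, hidx]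
  haveI hcyc : IsCyclic ((P : Subgroup H) ⧸ M) := isCyclic_of_prime_card hcard
  haveI : IsMulCommutative ((P : Subgroup H) ⧸ M) := IsCyclic.isMulCommutative
  let ϕ : (P : Subgroup H) →* (P : Subgroup H) ⧸ M := QuotientGroup.mk' M
  have key : ∀ (k : ℕ) (g₀ : H), g₀⁻¹ * z ^ k * g₀ ∈ (P : Subgroup H) → g₀⁻¹ * z ^ k * g₀ = z ^ k := by
    intro k g₀ _
    have hzk' : z ^ k ∈ Subgroup.center H := Subgroup.pow_mem _ hzc k
    have := (Subgroup.mem_center_iff.mp hzk') g₀
    rw [mul_assoc, ← this, inv_mul_cancel_left]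
  have hV := MonoidHom.transfer_eq_pow ϕ z key
  have hV1 : MonoidHom.transfer ϕ z = 1 := by
    have hker := Abelianization.commutator_subset_ker (MonoidHom.transfer ϕ)
    rw [hH] at hker
    exact hker (Subgroup.mem_top z)
  rw [hV1] at hV
  -- the image of z in P/M has order dividing both the index of P and p
  set zb : (P : Subgroup H) ⧸ M := ϕ ⟨z, hzP⟩ with hzb
  have h1 : zb ^ (P : Subgroup H).index = 1 := by
    rw [hzb, ← map_pow]
    rw [hV]
    rfl
  have h2 : orderOf zb ∣ (P : Subgroup H).index := orderOf_dvd_of_pow_eq_one h1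
  have h3 : orderOf zb ∣ p := by
    have := orderOf_dvd_natCard zb
    rwa [hcard] at this
  have hcop : Nat.Coprime (P : Subgroup H).index p := by
    rw [Nat.coprime_comm]
    exact (Nat.Prime.coprime_iff_not_dvd Fact.out).mpr P.not_dvd_index
  have h4 : orderOf zb = 1 := Nat.eq_one_of_dvd_coprimes hcop h2 h3
  rw [orderOf_eq_one_iff] at h4
  apply hzM
  exact (QuotientGroup.eq_one_iff _).mp h4

end Cfsg.Agent.S0101
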