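import Cfsg.Statements.S0102
import Cfsg.Agent.S0101
import Cfsg.Agent.S0088

set_option autoImplicit false
open Cfsg

namespace Cfsg.Agent.S0102

open scoped IsMulCommutative


/-- A finite perfect group with cyclic Sylow p-subgroups has no perfect central extension whose kernel has order divisible by p. -/
theorem result {G : Type*} {H : Type*} [Group G] [Group H] [Finite G] [Finite H] (hG : commutator G = ⊤) {p : ℕ} [Fact p.Prime] (hcyc : ∀ P : Sylow p G, IsCyclic P) (σ : H →* G) (hσ : Function.Surjective σ) (hz : σ.ker ≤ Subgroup.center H) (hH : commutator H = ⊤) : ¬ p ∣ Nat.card σ.ker := by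
  classical
  intro hdvd
  -- a central element of order p in the kernel
  obtain ⟨z0, hz0⟩ := exists_prime_orderOf_dvd_card' p hdvd
  set z : H := (z0 : H) with hzdef
  have hzo : orderOf z = p := by rw [hzdef, Subgroup.orderOf_coe]; exact hz0
  have hzker : z ∈ σ.ker := z0.2
  have hzc : z ∈ Subgroup.center H := hz hzker
  -- a Sylow p-subgroup of H containing z
  have hpg : IsPGroup p (Subgroup.zpowers z) := by
    apply IsPGroup.of_card (n := 1)
    rw [Nat.card_zpowers, hzo, pow_one]
  obtain ⟨P, hP⟩ := hpg.exists_le_sylow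
  have hzP : z ∈ (P : Subgroup H) := hP (Subgroup.mem_zpowers z)
  -- its image in G is a (cyclic) Sylow subgroup
  haveI hQc : IsCyclic (P.mapSurjective hσ) := hcyc (P.mapSurjective hσ)
  obtain ⟨y, hy⟩ := hQc.exists_generator
  have hyQ : (y : G) ∈ (P : Subgroup H).map σ := y.2
  obtain ⟨x, hxP, hxy⟩ := hyQ
  -- P is generated by x modulo the Frattini subgroup
  have h101 := Cfsg.Agent.S0101.result σ hσ hz hH P
  have hgen : Subgroup.zpowers (⟨x, hxP⟩ : (P : Subgroup H)) ⊔ frattini (P : Subgroup H) = ⊤ := by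
    rw [eq_top_iff]
    intro w _
    have hwQ : σ (w : H) ∈ (P : Subgroup H).map σ := ⟨w, w.2, rfl⟩
    have hmem := hy ⟨σ (w : H), hwQ⟩
    rw [Subgroup.mem_zpowers_iff] at hmem
    obtain ⟨k, hk⟩ := hmem
    have hk' : (y : G) ^ k = σ (w : H) := by
      have := congrArg Subtype.val hk
      rw [Subgroup.coe_zpow] at this
      exact this
    rw [← hxy, ← map_zpow] at hk'
    have hker : (x ^ k)⁻¹ * (w : H) ∈ σ.ker := by
      rw [MonoidHom.mem_ker, map_mul, map_inv, hk', inv_mul_cancel]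
    have hinP : (x ^ k)⁻¹ * (w : H) ∈ (P : Subgroup H) :=
      Subgroup.mul_mem _ (Subgroup.inv_mem _ (Subgroup.zpow_mem _ hxP k)) w.2
    obtain ⟨f, hf, hfeq⟩ := h101 ⟨hker, hinP⟩
    have hw : w = (⟨x, hxP⟩ : (P : Subgroup H)) ^ k * f := by
      apply Subtype.ext
      have : (f : H) = (x ^ k)⁻¹ * (w : H) := hfeq
      simp [this]
    rw [hw]
    exact Subgroup.mul_mem_sup (Subgroup.zpow_mem_zpowers _ k) hf
  have htop := frattini_nongenerating hgen
  haveI hPc : IsCyclic (P : Subgroup H) :=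
    ⟨⟨⟨x, hxP⟩, fun w => by rw [← Subgroup.mem_zpowers_iff.symm.symm]; exact htop ▸ Subgroup.mem_top w⟩⟩
  have hPcomm : IsMulCommutative (P : Subgroup H) := IsCyclic.isMulCommutative
  have h88 := Cfsg.Agent.S0088.result (P : Subgroup H) hPcomm P.card_coprime_index
  have hz1 : z ∈ (P : Subgroup H) ⊓ commutator H ⊓ Subgroup.center H :=
    ⟨⟨hzP, by rw [hH]; trivial⟩, hzc⟩
  rw [h88, Subgroup.mem_bot] at hz1
  rw [hz1, orderOf_one] at hzo
  exact (Fact.out : p.Prime).one_lt.ne hzo

end Cfsg.Agent.S0102
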