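import Cfsg.Statements.S0104
-- import your own Cfsg.Agent.* helpers here
import Mathlib
import Cfsg.Agent.Lib.Helper1.Basic

set_option autoImplicit false
open Cfsg

namespace Cfsg.Agent.S0104

open Pointwise
open Cfsg.Agent.Lib.Helper1

/-- A subgroup Z of a Sylow p-subgroup P that is normalized by N_G(P) is weakly closed in P exactly when it is normal in every Sylow p-subgroup containing it. -/
theorem result {G : Type*} [Group G] [Finite G] {p : ℕ} [Fact p.Prime] (P : Sylow p G) (Z : Subgroup G) (hZP : Z ≤ (P : Subgroup G)) (hZN : Subgroup.normalizer (P : Set G) ≤ Subgroup.normalizer (Z : Set G)) : Cfsg.IsWeaklyClosed Z P ↔ ∀ R : Sylow p G, Z ≤ (R : Subgroup G) → (R : Subgroup G) ≤ Subgroup.normalizer (Z : Set G) := by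
  classical
  have hPN : (P : Subgroup G) ≤ Subgroup.normalizer (Z : Set G) :=
    le_trans Subgroup.le_normalizer hZN
  constructor
  · rintro ⟨-, hW⟩ R hZR
    obtain ⟨g, rfl⟩ := MulAction.exists_smul_eq G P R
    -- g⁻¹ Z g ≤ P
    have h1 : Z.map (MulAut.conj g⁻¹).toMonoidHom ≤ (P : Subgroup G) := by
      intro x hx
      rw [mem_map_conj_iff, inv_inv] at hx
      have := hZR hx
      rw [mem_sylow_smul_iff] at this
      simpa [mul_assoc] using this
    have h2 := hW g⁻¹ h1
    -- so g⁻¹ normalizes Z, hence so does g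
    have h3 : g⁻¹ ∈ Subgroup.normalizer (Z : Set G) := by
      rw [Subgroup.mem_normalizer_iff_map_conj_eq]; exact h2
    have h4 : g ∈ Subgroup.normalizer (Z : Set G) := by simpa using Subgroup.inv_mem _ h3
    intro x hx
    rw [mem_sylow_smul_iff] at hx
    have h5 := hPN hx
    have := Subgroup.mul_mem _ (Subgroup.mul_mem _ h4 h5) h3
    simpa [mul_assoc] using this
  · intro h
    refine ⟨hZP, fun g hg => ?_⟩
    -- Z ≤ g⁻¹ • P
    have h1 : Z ≤ ((g⁻¹ • P : Sylow p G) : Subgroup G) := by
      intro z hz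
      rw [mem_sylow_smul_iff, inv_inv]
      apply hg
      rw [mem_map_conj_iff]
      simpa [mul_assoc] using hz
    have h2 := h _ h1
    obtain ⟨c, hc, hcg⟩ := exists_mem_mul_mem_normalizer P (Subgroup.normalizer (Z : Set G)) g⁻¹ hPN h2
    have h3 : c * g⁻¹ ∈ Subgroup.normalizer (Z : Set G) := hZN hcg
    have h4 : g⁻¹ ∈ Subgroup.normalizer (Z : Set G) := by
      have := Subgroup.mul_mem _ (Subgroup.inv_mem _ hc) h3
      simpa using this
    have h5 : g ∈ Subgroup.normalizer (Z : Set G) := by simpa using Subgroup.inv_mem _ h4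
    rw [Subgroup.mem_normalizer_iff_map_conj_eq] at h5
    exact h5

end Cfsg.Agent.S0104
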