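import Cfsg.Statements.S0105
-- import your own Cfsg.Agent.* helpers here

set_option autoImplicit false
open Cfsg

namespace Cfsg.Agent.S0105

open scoped IsMulCommutative


/-- With an abelian Sylow p-subgroup P, some quotient of G is isomorphic to the part of P central in N_G(P). -/
theorem result {G : Type*} [Group G] [Finite G] {p : ℕ} [Fact p.Prime] (P : Sylow p G) (hP : IsMulCommutative P) : ∃ (N : Subgroup G) (hN : N.Normal), Nonempty (G ⧸ N ≃* ((P : Subgroup G) ⊓ Subgroup.centralizer (Subgroup.normalizer (P : Set G) : Set G) : Subgroup G)) := by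
  classical
  set Nm : Subgroup G := Subgroup.normalizer ((P : Subgroup G) : Set G) with hNm
  set PN : Subgroup Nm := (P : Subgroup G).subgroupOf Nm with hPN
  haveI : Fintype (Nm ⧸ PN) := Fintype.ofFinite _
  -- elements of P act trivially on P
  have htriv : ∀ (h : Nm), h ∈ PN → ∀ y : (P : Subgroup G), h • y = y := by
    intro h hh y
    apply Subtype.ext
    change (h : G) * (y : G) * (h : G)⁻¹ = y
    have hhP : (h : G) ∈ (P : Subgroup G) := hh
    have := mul_comm (⟨h, hhP⟩ : (P : Subgroup G)) y
    have h2 : (h : G) * (y : G) = (y : G) * (h : G) := congrArg Subtype.val this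
    rw [h2, mul_inv_cancel_right]
  -- the averaging endomorphism
  let θ : (P : Subgroup G) →* (P : Subgroup G) :=
    { toFun := fun y => ∏ t : Nm ⧸ PN, (t.out • y)
      map_one' := by simp
      map_mul' := by
        intro a b
        simp only [smul_mul']
        exact Finset.prod_mul_distrib }
  have hθ : ∀ y, θ y = ∏ t : Nm ⧸ PN, (t.out • y) := fun y => rfl
  have factA : ∀ (n : Nm) (y : (P : Subgroup G)), n • θ y = θ y := by
    intro n y
    rw [hθ, Finset.smul_prod']
    have h1 : ∀ t : Nm ⧸ PN, n • (t.out • y) = (n • t).out • y := by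
      intro t
      have hcoset : ((n • t).out)⁻¹ * (n * t.out) ∈ PN := by
        rw [← QuotientGroup.eq, QuotientGroup.out_eq']
        have : ((n * t.out : Nm) : Nm ⧸ PN) = n • ((t.out : Nm) : Nm ⧸ PN) := rfl
        rw [this, QuotientGroup.out_eq']
      have e : n * t.out = (n • t).out * (((n • t).out)⁻¹ * (n * t.out)) := by group
      rw [← mul_smul, e, mul_smul, htriv _ hcoset]
    rw [Finset.prod_congr rfl (fun t _ => h1 t)]
    exact Equiv.prod_comp (MulAction.toPerm n) (fun t : Nm ⧸ PN => t.out • y)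
  set C : Subgroup G := Subgroup.centralizer (Nm : Set G) with hCdef
  -- Fact B
  have factB0 : ∀ z : (P : Subgroup G), (z : G) ∈ C → ∀ n : Nm, n • z = z := by
    intro z hz n
    apply Subtype.ext
    change (n : G) * (z : G) * (n : G)⁻¹ = z
    have := (Subgroup.mem_centralizer_iff.mp hz) n n.2
    rw [this, mul_inv_cancel_right]
  have factB : ∀ z : (P : Subgroup G), (z : G) ∈ C → θ z = z ^ Fintype.card (Nm ⧸ PN) := by
    intro z hz
    rw [hθ, Finset.prod_congr rfl (fun t _ => factB0 z hz t.out), Finset.prod_const, Finset.card_univ]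
  -- Fact C
  have factC : ∀ z : (P : Subgroup G), (z : G) ∈ C →
      MonoidHom.transfer (MonoidHom.id (P : Subgroup G)) (z : G) = z ^ (P : Subgroup G).index := by
    intro z hz
    have key : ∀ (k : ℕ) (g₀ : G), g₀⁻¹ * (z : G) ^ k * g₀ ∈ (P : Subgroup G) →
        g₀⁻¹ * (z : G) ^ k * g₀ = (z : G) ^ k := by
      intro k g₀ hmem
      have hzk : (z : G) ^ k ∈ (P : Subgroup G) := Subgroup.pow_mem _ z.2 k
      obtain ⟨n, hn, hconj⟩ := P.conj_eq_normalizer_conj_of_mem ((z : G) ^ k) g₀ hzk hmem
      rw [hconj]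
      have hzkC : (z : G) ^ k ∈ C := Subgroup.pow_mem _ hz k
      have := (Subgroup.mem_centralizer_iff.mp hzkC) n hn
      rw [mul_assoc, ← this, inv_mul_cancel_left]
    rw [MonoidHom.transfer_eq_pow _ _ key]
    apply Subtype.ext
    simp
  let V : G →* (P : Subgroup G) := MonoidHom.transfer (MonoidHom.id (P : Subgroup G))
  let f : G →* (P : Subgroup G) := θ.comp V
  set m := Fintype.card (Nm ⧸ PN) with hm
  have factE : ∀ z : (P : Subgroup G), (z : G) ∈ C → f (z : G) = z ^ ((P : Subgroup G).index * m) := by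
    intro z hz
    change θ (V (z : G)) = _
    have h1 : V (z : G) = z ^ (P : Subgroup G).index := factC z hz
    rw [h1]
    have h2 : ((z ^ (P : Subgroup G).index : (P : Subgroup G)) : G) ∈ C := by
      rw [Subgroup.coe_pow]; exact Subgroup.pow_mem _ hz _
    rw [factB _ h2, ← pow_mul]
  have factD : ∀ g : G, ((f g : (P : Subgroup G)) : G) ∈ C := by
    intro g
    rw [hCdef, Subgroup.mem_centralizer_iff]
    intro n hn
    have := factA ⟨n, hn⟩ (V g)
    have h2 : n * ((θ (V g) : (P : Subgroup G)) : G) * n⁻¹ = ((θ (V g) : (P : Subgroup G)) : G) :=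
      congrArg Subtype.val this
    change n * ((θ (V g) : (P : Subgroup G)) : G) = ((θ (V g) : (P : Subgroup G)) : G) * n
    calc n * ((θ (V g) : (P : Subgroup G)) : G)
        = (n * ((θ (V g) : (P : Subgroup G)) : G) * n⁻¹) * n := by group
      _ = ((θ (V g) : (P : Subgroup G)) : G) * n := by rw [h2]
  -- exponent is prime to p
  have hpm : ¬ p ∣ (P : Subgroup G).index * m := by
    have h1 : ¬ p ∣ (P : Subgroup G).index := P.not_dvd_index
    have h2 : m = (P : Subgroup G).relIndex Nm := by
      rw [hm, ← Nat.card_eq_fintype_card]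
      rfl
    have h3 : ¬ p ∣ m := by
      rw [h2]
      intro hdvd
      exact h1 (hdvd.trans (Subgroup.relIndex_dvd_index_of_le Subgroup.le_normalizer))
    intro hdvd
    rcases (Nat.Prime.dvd_mul Fact.out).mp hdvd with h | h
    · exact h1 h
    · exact h3 h
  set Zs : Subgroup G := (P : Subgroup G) ⊓ C with hZs
  have hZp : IsPGroup p Zs := P.2.to_le inf_le_left
  let f' : G →* Zs := (((P : Subgroup G).subtype).comp f).codRestrict Zs
    (fun g => ⟨(f g).2, factD g⟩)
  have hsurj : Function.Surjective f' := by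
    intro z
    obtain ⟨w, hw⟩ := (hZp.powEquiv' hpm).surjective z
    have hw' : w ^ ((P : Subgroup G).index * m) = z := hw
    refine ⟨(w : G), ?_⟩
    apply Subtype.ext
    change ((f (w : G) : (P : Subgroup G)) : G) = (z : G)
    have h1 := factE ⟨(w : G), w.2.1⟩ w.2.2
    have h1' : f (w : G) = (⟨(w : G), w.2.1⟩ : (P : Subgroup G)) ^ ((P : Subgroup G).index * m) := h1
    rw [h1', ← hw']
    simp
  exact ⟨f'.ker, inferInstance, ⟨QuotientGroup.quotientKerEquivOfSurjective f' hsurj⟩⟩

end Cfsg.Agent.S0105
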