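import Cfsg.Statements.S0106
import Mathlib
import Cfsg.Agent.Lib.Helper20.SL23
import Cfsg.Agent.Lib.Helper18.UniqueInvolution
import Cfsg.Agent.Lib.Helper18.WreathedQuat

set_option autoImplicit false
open Cfsg

namespace Cfsg.Agent.S0106

/-- A finite group with generalized quaternion Sylow 2-subgroups either has a normal 2-complement or has a section isomorphic to SL(2,3). -/
theorem result {G : Type*} [Group G] [Finite G] (T : Sylow 2 G) (n : ℕ) (hn : 1 ≤ n) (hT : Nonempty ((T : Subgroup G) ≃* QuaternionGroup (2 ^ n))) : Cfsg.HasNormalPComplement 2 G ∨ ∃ (H K : Subgroup G) (hK : (K.subgroupOf H).Normal), Nonempty ((H ⧸ K.subgroupOf H) ≃* Matrix.SpecialLinearGroup (Fin 2) (ZMod 3)) := by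
  classical
  haveI : Fact (Nat.Prime 2) := ⟨Nat.prime_two⟩
  by_cases hF : Cfsg.Agent.Lib.Helper29.FrobCond 2 G
  · left; exact Cfsg.Agent.Lib.Helper29.frobCond_iff.mp hF
  right
  obtain ⟨e⟩ := hT
  obtain ⟨Q, hQT, g, hgN, hodd, hgC⟩ :=
    Cfsg.Agent.Lib.Helper20.Q8.exists_odd_normalizing_of_not_frobCond T hF
  have hQ2 : IsPGroup 2 Q := T.2.to_le hQT
  haveI : NeZero (2 ^ n) := ⟨by positivity⟩
  have huniq : ∀ s t : Q, orderOf s = 2 → orderOf t = 2 → s = t := by
    intro s t hs ht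
    obtain ⟨f, hf⟩ : ∃ f : Q →* QuaternionGroup (2 ^ n), Function.Injective f :=
      ⟨e.toMonoidHom.comp (Subgroup.inclusion hQT),
        e.injective.comp (Subgroup.inclusion_injective hQT)⟩
    have h1 : orderOf (f s) = 2 := by rw [orderOf_injective f hf, hs]
    have h2 : orderOf (f t) = 2 := by rw [orderOf_injective f hf, ht]
    exact hf ((Cfsg.Agent.Lib.Helper18.quaternionGroup_involution _ _ h1).trans
      (Cfsg.Agent.Lib.Helper18.quaternionGroup_involution _ _ h2).symm)
  rcases Cfsg.Agent.Lib.Helper18.cyclic_or_quaternion_data hQ2 huniq with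
    hcyc | ⟨a, x, m, hm2, hao, hxa, hconj, hx2, hcov⟩
  · haveI := hcyc
    exact absurd (Cfsg.Agent.Lib.Helper20.Q8.mem_centralizer_of_isCyclic Q hQ2 g hgN hodd) hgC
  · have hm : m = 2 := by
      by_contra hne
      have hm3 : 3 ≤ m := by omega
      apply hgC
      rw [← Cfsg.Agent.Lib.Helper20.Q8.conjAut_eq_one_iff Q g hgN]
      apply Cfsg.Agent.Lib.Helper18.aut_eq_one_of_odd a x m hao hxa ?_ ?_
        (Cfsg.Agent.Lib.Helper20.Q8.conjAut Q g hgN) (orderOf g) hodd
        (Cfsg.Agent.Lib.Helper20.Q8.conjAut_pow_orderOf Q g hgN)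
      · intro y
        rcases hcov y with h | ⟨h, hh, rfl⟩
        · left; exact h
        · right
          obtain ⟨i, rfl⟩ := Subgroup.mem_zpowers_iff.mp hh
          exact ⟨i, rfl⟩
      · intro y hy
        rcases hcov y with h | ⟨h, hh, rfl⟩
        · exact absurd h hy
        · obtain ⟨i, rfl⟩ := Subgroup.mem_zpowers_iff.mp hh
          have hinv : x * a ^ i * x⁻¹ = (a ^ i)⁻¹ := by
            rw [← conj_zpow, hconj, inv_zpow]
          have hcomm : a ^ (2 ^ (m - 1)) * a ^ i = a ^ i * a ^ (2 ^ (m - 1)) := by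
            rw [← zpow_natCast, ← zpow_add, ← zpow_add, add_comm]
          have hsq : (x * a ^ i) * (x * a ^ i) = a ^ (2 ^ (m - 1)) := by
            have h1 : (x * a ^ i) * (x * a ^ i) = (x * a ^ i * x⁻¹) * (x ^ 2 * a ^ i) := by group
            rw [h1, hinv, hx2, hcomm, inv_mul_cancel_left]
          have h4 : (x * a ^ i) ^ 4 = 1 := by
            have h2 : (x * a ^ i) ^ 4 = ((x * a ^ i) * (x * a ^ i)) * ((x * a ^ i) * (x * a ^ i)) := by
              rw [show (4 : ℕ) = 2 + 2 from rfl, pow_add, pow_two]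
            rw [h2, hsq, ← pow_add, ← two_mul, ← pow_succ', Nat.sub_add_cancel (by omega), ← hao]
            exact pow_orderOf_eq_one a
          have h5 : orderOf (x * a ^ i) ≤ 4 :=
            Nat.le_of_dvd (by norm_num) (orderOf_dvd_of_pow_eq_one h4)
          have h6 : 2 ^ 3 ≤ 2 ^ m := Nat.pow_le_pow_right (by norm_num) hm3
          omega
    subst hm
    obtain ⟨ψ⟩ := Cfsg.Agent.Lib.Helper18.nonempty_mulEquiv_quaternionGroup a x 2
      (by rw [hao]; norm_num) (by rw [hx2]; norm_num) hconj hxa hcov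
    exact Cfsg.Agent.Lib.Helper20.SL23.exists_section Q hQ2 ψ g hgN hodd hgC

end Cfsg.Agent.S0106
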