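import Cfsg.Statements.S0607
import Cfsg.Agent.Lib.Helper17.Timmesfeld
import Cfsg.Agent.Lib.Helper4.ElemAb
import Cfsg.Agent.Lib.Helper4.Basic

set_option autoImplicit false
open Cfsg

namespace Cfsg.Agent.S0607

open scoped Pointwise commutatorElement in
/-- The replacement Theorem for the Thompson subgroup: from A of maximal order among elementary abelian p-subgroups one obtains A₀ = [V, A] C_A([V, A]) of the same kind, quadratic on V and nontrivial on V when A is. -/
theorem result {G : Type*} [Group G] [Finite G] {p : ℕ} [Fact p.Prime] (V : Subgroup G) [V.Normal] (hV : Cfsg.IsElementaryAbelian p V) (A : Subgroup G) (hA : A ∈ Cfsg.maxElementaryAbelianSubgroups p G) : (⁅V, A⁆ ⊔ (A ⊓ Subgroup.centralizer ((⁅V, A⁆ : Subgroup G) : Set G))) ∈ Cfsg.maxElementaryAbelianSubgroups p G ∧ ⁅⁅V, ⁅V, A⁆ ⊔ (A ⊓ Subgroup.centralizer ((⁅V, A⁆ : Subgroup G) : Set G))⁆, ⁅V, A⁆ ⊔ (A ⊓ Subgroup.centralizer ((⁅V, A⁆ : Subgroup G) : Set G))⁆ = ⊥ ∧ (⁅V, A⁆ ≠ ⊥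 → ⁅V, ⁅V, A⁆ ⊔ (A ⊓ Subgroup.centralizer ((⁅V, A⁆ : Subgroup G) : Set G))⁆ ≠ ⊥) := by
  classical
  obtain ⟨hAe, hAmax⟩ := hA
  have hVc := Cfsg.Agent.Lib.Helper4.elemAb_comm hV
  have hAc := Cfsg.Agent.Lib.Helper4.elemAb_comm hAe
  have hnorm : A ≤ Subgroup.normalizer (V : Set G) := by
    rw [Subgroup.normalizer_eq_top]; exact le_top
  have hab : ⁅A, A⁆ ≤ Subgroup.centralizer (V : Set G) := by
    have h0 : ⁅A, A⁆ = ⊥ := by
      rw [Subgroup.commutator_eq_bot_iff_le_centralizer]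
      intro a ha
      rw [Subgroup.mem_centralizer_iff]
      intro b hb
      exact hAc b hb a ha
    rw [h0]; exact bot_le
  have hact : Cfsg.Agent.Lib.Helper17.AbAct V A := ⟨hVc, hnorm, hab⟩
  obtain ⟨X, hXdef⟩ : ∃ X, X = ⁅V, A⁆ := ⟨_, rfl⟩
  obtain ⟨As, hAsdef⟩ : ∃ As, As = A ⊓ Subgroup.centralizer (X : Set G) := ⟨_, rfl⟩
  obtain ⟨CA, hCAdef⟩ : ∃ CA, CA = V ⊓ Subgroup.centralizer (A : Set G) := ⟨_, rfl⟩
  rw [← hXdef, ← hAsdef]
  have hXV : X ≤ V := by rw [hXdef]; exact Subgroup.commutator_le_left V A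
  have hAsA : As ≤ A := by rw [hAsdef]; exact inf_le_left
  have hAsX : As ≤ Subgroup.centralizer (X : Set G) := by rw [hAsdef]; exact inf_le_right
  have hCAV : CA ≤ V := by rw [hCAdef]; exact inf_le_left
  have hCAcA : CA ≤ Subgroup.centralizer (A : Set G) := by rw [hCAdef]; exact inf_le_right
  have hAVCA : A ⊓ V ≤ CA := by
    intro x hx
    rw [hCAdef]
    refine Subgroup.mem_inf.mpr ⟨hx.2, ?_⟩
    rw [Subgroup.mem_centralizer_iff]
    intro a ha
    exact hAc a ha x hx.1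
  -- `A` is a best offender among its subgroups
  have hbest : ∀ B : Subgroup G, B ≤ A →
      Cfsg.Agent.Lib.Helper17.tm V B ≤ Cfsg.Agent.Lib.Helper17.tm V A := by
    intro B hB
    obtain ⟨CB, hCB⟩ : ∃ CB, CB = V ⊓ Subgroup.centralizer (B : Set G) := ⟨_, rfl⟩
    have hcomm : ∀ b ∈ B, ∀ c ∈ CB, b * c = c * b := by
      intro b hb c hc
      rw [hCB] at hc
      exact Subgroup.mem_centralizer_iff.mp hc.2 b hb
    have hE : Cfsg.IsElementaryAbelian p (B ⊔ CB) :=
      Cfsg.Agent.Lib.Helper4.elemAb_sup (Cfsg.Agent.Lib.Helper4.elemAb_mono hB hAe)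
        (Cfsg.Agent.Lib.Helper4.elemAb_mono (by rw [hCB]; exact inf_le_left) hV) hcomm
    have h1 := hAmax _ hE
    have hBN : B ≤ Subgroup.normalizer (CB : Set G) := by
      refine le_trans ?_ (Subgroup.centralizer_le_normalizer _)
      rw [Subgroup.le_centralizer_iff, hCB]
      exact inf_le_right
    have h2 := Cfsg.Agent.Lib.Helper4.card_sup_mul_card_inf B CB hBN
    have h3 : Nat.card ↥(B ⊓ CB : Subgroup G) ≤ Nat.card CA := by
      apply Subgroup.card_le_of_le
      refine le_trans ?_ hAVCA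
      exact inf_le_inf hB (by rw [hCB]; exact inf_le_left)
    unfold Cfsg.Agent.Lib.Helper17.tm
    rw [← hCB, ← hCAdef, ← h2]
    exact Nat.mul_le_mul h1 h3
  obtain ⟨ht1, ht2⟩ := Cfsg.Agent.Lib.Helper17.timmesfeld_replacement hact hbest V le_rfl
  rw [← hXdef, ← hAsdef, ← hCAdef] at ht2
  rw [← hXdef, ← hAsdef] at ht1
  -- `C_V(A) ≤ A` by maximality of `A`
  have hCAA : CA ≤ A := by
    have hE : Cfsg.IsElementaryAbelian p (A ⊔ CA) :=
      Cfsg.Agent.Lib.Helper4.elemAb_sup hAe (Cfsg.Agent.Lib.Helper4.elemAb_mono hCAV hV)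
        (fun a ha c hc => Subgroup.mem_centralizer_iff.mp (hCAcA hc) a ha)
    have h1 := hAmax _ hE
    have h2 : A = A ⊔ CA := Subgroup.eq_of_le_of_card_ge le_sup_left h1
    rw [h2]; exact le_sup_right
  have hVcX : V ≤ Subgroup.centralizer (X : Set G) := by
    intro v hv
    rw [Subgroup.mem_centralizer_iff]
    intro x hx
    exact hVc x (hXV hx) v hv
  have hCAAs : CA ≤ As := by
    rw [hAsdef]
    exact le_inf hCAA (hCAV.trans hVcX)
  obtain ⟨A₀, hA₀def⟩ : ∃ A₀, A₀ = X ⊔ As := ⟨_, rfl⟩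
  rw [← hA₀def]
  have hA₀e : Cfsg.IsElementaryAbelian p A₀ := by
    rw [hA₀def]
    exact Cfsg.Agent.Lib.Helper4.elemAb_sup (Cfsg.Agent.Lib.Helper4.elemAb_mono hXV hV)
      (Cfsg.Agent.Lib.Helper4.elemAb_mono hAsA hAe)
      (fun x hx d hd => Subgroup.mem_centralizer_iff.mp (hAsX hd) x hx)
  have hcard : Nat.card A ≤ Nat.card A₀ := by
    have hE' : As ⊔ (V ⊓ Subgroup.centralizer (As : Set G)) = A₀ := by
      rw [ht2, hA₀def]
      apply le_antisymm
      · exact sup_le le_sup_right (sup_le le_sup_left (hCAAs.trans le_sup_right))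
      · exact sup_le (le_sup_left.trans le_sup_right) le_sup_left
    have hN : As ≤ Subgroup.normalizer ((V ⊓ Subgroup.centralizer (As : Set G) : Subgroup G) : Set G) := by
      refine le_trans ?_ (Subgroup.centralizer_le_normalizer _)
      rw [Subgroup.le_centralizer_iff]
      exact inf_le_right
    have h2 := Cfsg.Agent.Lib.Helper4.card_sup_mul_card_inf As _ hN
    rw [hE'] at h2
    have h3 : Nat.card ↥(As ⊓ (V ⊓ Subgroup.centralizer (As : Set G)) : Subgroup G) ≤ Nat.card CA := by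
      apply Subgroup.card_le_of_le
      refine le_trans ?_ hAVCA
      exact inf_le_inf hAsA inf_le_left
    have hipos : 0 < Nat.card ↥(As ⊓ (V ⊓ Subgroup.centralizer (As : Set G)) : Subgroup G) :=
      Nat.card_pos
    unfold Cfsg.Agent.Lib.Helper17.tm at ht1
    rw [← hCAdef] at ht1
    have h4 : Nat.card A * Nat.card ↥(As ⊓ (V ⊓ Subgroup.centralizer (As : Set G)) : Subgroup G) ≤
        Nat.card A₀ * Nat.card ↥(As ⊓ (V ⊓ Subgroup.centralizer (As : Set G)) : Subgroup G) := by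
      rw [h2, ht1]
      exact Nat.mul_le_mul_left _ h3
    exact Nat.le_of_mul_le_mul_right h4 hipos
  -- elements of `A₀` are products
  have hXNAs : X ≤ Subgroup.normalizer (As : Set G) := by
    refine le_trans ?_ (Subgroup.centralizer_le_normalizer _)
    rw [Subgroup.le_centralizer_iff]; exact hAsX
  have hA₀mem : ∀ k ∈ A₀, ∃ x ∈ X, ∃ d ∈ As, k = x * d := by
    intro k hk
    rw [hA₀def] at hk
    have hk' : k ∈ ((X : Set G) * (As : Set G)) := by
      rw [← Subgroup.coe_mul_of_left_le_normalizer_right _ _ hXNAs]; exact hk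
    obtain ⟨x, hx, d, hd, rfl⟩ := hk'
    exact ⟨x, hx, d, hd, rfl⟩
  have hquad : ∀ v ∈ V, ∀ k ∈ A₀, ⁅v, k⁆ ∈ CA := by
    intro v hv k hk
    obtain ⟨x, hx, d, hd, rfl⟩ := hA₀mem k hk
    have hvd : ⁅v, d⁆ ∈ CA := by
      rw [hCAdef]
      apply hact.comm_mem_of_conj_comm_eq (hAsA hd) hv
      intro a ha
      have h1 : ⁅v, a⁆ ∈ X := by rw [hXdef]; exact Subgroup.commutator_mem_commutator hv ha
      have h2 := Subgroup.mem_centralizer_iff.mp (hAsX hd) _ h1
      rw [← h2]; group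
    have hxV := hXV hx
    have h1 : v * x = x * v := hVc v hv x hxV
    have h2 : x * ⁅v, d⁆ = ⁅v, d⁆ * x := hVc x hxV _ (hCAV hvd)
    have h3 : ⁅v, x * d⁆ = ⁅v, d⁆ := by
      calc ⁅v, x * d⁆ = (v * x) * d * v⁻¹ * d⁻¹ * x⁻¹ := by
            simp only [commutatorElement_def]; group
        _ = (x * v) * d * v⁻¹ * d⁻¹ * x⁻¹ := by rw [h1]
        _ = (x * ⁅v, d⁆) * x⁻¹ := by simp only [commutatorElement_def]; group
        _ = ⁅v, d⁆ * x * x⁻¹ := by rw [h2]
        _ = ⁅v, d⁆ := by group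
    rw [h3]; exact hvd
  have hCAcA₀ : CA ≤ Subgroup.centralizer (A₀ : Set G) := by
    rw [hA₀def, Cfsg.Agent.Lib.Helper17.centralizer_sup_eq]
    apply le_inf (hCAV.trans hVcX)
    exact hCAcA.trans (Subgroup.centralizer_le (fun x hx => hAsA hx))
  refine ⟨⟨hA₀e, fun B hB => (hAmax B hB).trans hcard⟩, ?_, ?_⟩
  · rw [Subgroup.commutator_eq_bot_iff_le_centralizer]
    refine le_trans ?_ hCAcA₀
    rw [Subgroup.commutator_le]
    exact hquad
  · intro hXne hbot
    apply hXne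
    have h1 : ⁅V, As⁆ = ⊥ := by
      rw [eq_bot_iff, ← hbot]
      exact Subgroup.commutator_mono le_rfl (by rw [hA₀def]; exact le_sup_right)
    rw [Subgroup.commutator_eq_bot_iff_le_centralizer] at h1
    have h2 : V = X ⊔ CA := by
      rw [← ht2]; exact (inf_eq_left.mpr h1).symm
    have hXNCA : X ≤ Subgroup.normalizer (CA : Set G) := by
      refine le_trans ?_ (Subgroup.centralizer_le_normalizer _)
      rw [Subgroup.le_centralizer_iff]
      exact hCAV.trans hVcX
    have h3 : X ≤ ⁅X, A⁆ := by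
      conv_lhs => rw [hXdef]
      rw [Subgroup.commutator_le]
      intro v hv a ha
      have hv' : v ∈ ((X : Set G) * (CA : Set G)) := by
        rw [← Subgroup.coe_mul_of_left_le_normalizer_right _ _ hXNCA, ← h2]; exact hv
      obtain ⟨x, hx, c, hc, rfl⟩ := hv'
      have hca : ⁅c, a⁆ = 1 := by
        have h4 := Subgroup.mem_centralizer_iff.mp (hCAcA hc) a ha
        rw [commutatorElement_def]
        calc c * a * c⁻¹ * a⁻¹ = (c * a) * c⁻¹ * a⁻¹ := by group
          _ = (a * c) * c⁻¹ * a⁻¹ := by rw [h4]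
          _ = 1 := by group
      rw [hact.comm_mul ha (hXV hx) (hCAV hc), hca, mul_one]
      exact Subgroup.commutator_mem_commutator hx ha
    have hXp : IsPGroup p X := (Cfsg.Agent.Lib.Helper4.elemAb_isPGroup hV).to_le hXV
    have hAp : IsPGroup p A := Cfsg.Agent.Lib.Helper4.elemAb_isPGroup hAe
    have hAX : A ≤ Subgroup.normalizer (X : Set G) := by
      intro a ha
      apply Cfsg.Agent.Lib.Helper17.mem_normalizer_of_map_conj_le
      rw [hXdef, Subgroup.map_commutator]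
      apply Subgroup.commutator_mono
      · rintro _ ⟨v, hv, rfl⟩
        exact ‹V.Normal›.conj_mem v hv a
      · rintro _ ⟨b, hb, rfl⟩
        exact A.mul_mem (A.mul_mem ha hb) (A.inv_mem ha)
    exact Cfsg.Agent.Lib.Helper17.eq_bot_of_le_commutator X A hXp hAp hAX h3

end Cfsg.Agent.S0607
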