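import Cfsg.Statements.S0109
import Cfsg.Agent.S0608
import Cfsg.Agent.S0600
import Cfsg.Agent.S0601
import Cfsg.Agent.S0607
import Cfsg.Agent.S0625
import Cfsg.Agent.S0626
import Cfsg.Agent.S0017
import Cfsg.Agent.Lib.Helper25.PSolvableOfSolvable

set_option autoImplicit false
open Cfsg

namespace Cfsg.Agent.S0109

/-- The Thompson factorization Theorem for solvable groups states that, with p odd (and abelian Sylow 2-subgroups when p = 3) and no nontrivial normal subgroup of order prime to p, every element of G is a product of an element normalizing J(P) and an element centralizing the elements of order dividing p in the centre of P. -/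
theorem result {G : Type*} [Group G] [Finite G] {p : ℕ} [Fact p.Prime] (hp : p ≠ 2) (hs : Group.IsSolvable G) (h3 : p = 3 → ∀ T : Sylow 2 G, IsMulCommutative T) (hF : ∀ N : Subgroup G, N.Normal → Nat.Coprime (Nat.card N) p → N = ⊥) (P : Sylow p G) (g : G) : ∃ a ∈ Subgroup.normalizer (Cfsg.thompsonSubgroupOf p (P : Subgroup G) : Set G), ∃ c ∈ Subgroup.centralizer {x : G | x ∈ (P : Subgroup G) ∧ (∀ y ∈ (P : Subgroup G), x * y = y * x) ∧ x ^ p = 1}, g = a * c := by
  classical
  have hpp : p.Prime := Fact.out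
  have hO : Cfsg.pPrimeCore p G = ⊥ := by
    unfold Cfsg.pPrimeCore
    rw [sSup_eq_bot]
    rintro N ⟨hN, hc⟩
    exact hF N hN hc
  have : Group.IsSolvable G := hs
  have hc : Subgroup.centralizer (Cfsg.pCore p G : Set G) ≤ Cfsg.pCore p G :=
    Cfsg.Agent.S0017.result p hO
  obtain ⟨hVn, hVe, -⟩ := Cfsg.Agent.S0601.result (p := p) hc
  have hst : Cfsg.IsActionPStable p G := by
    by_cases h5 : 5 ≤ p
    · exact Cfsg.Agent.S0625.result h5
        (Cfsg.Agent.Lib.Helper25.isPSolvable_of_isSolvable' p hpp hs)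
    · have hp3 : p = 3 := by
        have h2 := hpp.two_le
        have hlt : p < 5 := by omega
        interval_cases p
        · exact absurd rfl hp
        · rfl
        · exact absurd hpp (by decide)
      exact Cfsg.Agent.S0626.result hp (h3 hp3)
  generalize hVdef : (⨆ S : Sylow p G, Cfsg.omegaOne p ((S : Subgroup G) ⊓
    Subgroup.centralizer ((S : Subgroup G) : Set G))) = V at hVn hVe
  have := hVn
  have hle : ∀ S : Sylow p G, Cfsg.omegaOne p ((S : Subgroup G) ⊓
      Subgroup.centralizer ((S : Subgroup G) : Set G)) ≤ V := by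
    intro S
    rw [← hVdef]
    exact le_iSup (fun S : Sylow p G => Cfsg.omegaOne p ((S : Subgroup G) ⊓
      Subgroup.centralizer ((S : Subgroup G) : Set G))) S
  have hgen : V = ⨆ S : Sylow p G, V ⊓ Subgroup.centralizer ((S : Subgroup G) : Set G) := by
    apply le_antisymm
    · refine le_trans (le_of_eq hVdef.symm) ?_
      apply iSup_le
      intro S
      refine le_trans ?_ (le_iSup (fun S : Sylow p G => V ⊓
        Subgroup.centralizer ((S : Subgroup G) : Set G)) S)
      refine le_inf (hle S) ?_
      unfold Cfsg.omegaOne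
      rw [Subgroup.closure_le]
      rintro x ⟨hx, -⟩
      exact hx.2
    · exact iSup_le (fun S => inf_le_left)
  have hOp : Cfsg.pCore p (G ⧸ Subgroup.centralizer (V : Set G)) = ⊥ :=
    Cfsg.Agent.S0600.result V hVe hgen
  have hstV : Cfsg.IsPStableOn p V := hst.1 V hVe
  have hJ : Cfsg.thompsonSubgroup p G ≤ Subgroup.centralizer (V : Set G) := by
    unfold Cfsg.thompsonSubgroup
    apply sSup_le
    intro A hA
    by_contra hAC
    obtain ⟨-, hquad, hne⟩ := Cfsg.Agent.S0607.result V hVe A hA
    have hVA : ⁅V, A⁆ ≠ ⊥ := by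
      intro h0
      apply hAC
      rw [Subgroup.commutator_comm] at h0
      exact Subgroup.commutator_eq_bot_iff_le_centralizer.mp h0
    have hne' := hne hVA
    apply hne'
    rw [Subgroup.commutator_comm]
    rw [Subgroup.commutator_eq_bot_iff_le_centralizer]
    intro a ha
    have hq : ⁅⁅V, Subgroup.zpowers a⁆, Subgroup.zpowers a⁆ = ⊥ := by
      rw [eq_bot_iff, ← hquad]
      have hz : Subgroup.zpowers a ≤ ⁅V, A⁆ ⊔ (A ⊓ Subgroup.centralizer ((⁅V, A⁆ : Subgroup G) : Set G)) := by
        rw [Subgroup.zpowers_le]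
        exact ha
      exact Subgroup.commutator_mono (Subgroup.commutator_mono le_rfl hz) hz
    have := hstV a hq
    rw [hOp, Subgroup.mem_bot, QuotientGroup.eq_one_iff] at this
    exact this
  have hTF : Cfsg.IsThompsonFactorizable p G := by
    rw [Cfsg.Agent.S0608.result hO, hVdef]
    exact hJ
  obtain ⟨x, hx, c, hc', n, hn, hg⟩ := hTF P g⁻¹
  rw [hO, Subgroup.mem_bot] at hx
  refine ⟨n⁻¹, inv_mem hn, c⁻¹, inv_mem ?_, ?_⟩
  · refine Subgroup.centralizer_le ?_ hc'
    rintro y ⟨hyP, hyc, hyp⟩
    unfold Cfsg.omegaOne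
    apply Subgroup.subset_closure
    refine ⟨⟨hyP, Subgroup.mem_centralizer_iff.mpr ?_⟩, hyp⟩
    intro h hh
    exact (hyc h hh).symm
  · have : g = (x * c * n)⁻¹ := by rw [← hg, inv_inv]
    rw [this, hx]
    group

end Cfsg.Agent.S0109
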