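import Cfsg.Statements.S0110
import Mathlib
import Cfsg.Agent.Lib.Helper20.PGroupBasics

set_option autoImplicit false
open Cfsg

namespace Cfsg.Agent.S0110

open scoped commutatorElement
open Cfsg.Agent.Lib.Helper20

/-- In a p-group G, an extraspecial subgroup E with [G, E] ≤ Z(E) satisfies G = E C_G(E). -/
theorem result {G : Type*} [Group G] [Finite G] {p : ℕ} [Fact p.Prime] (hG : IsPGroup p G) (E : Subgroup G) (hE : Cfsg.IsExtraspecial p E) (h : ⁅(⊤ : Subgroup G), E⁆ ≤ E ⊓ Subgroup.centralizer (E : Set G)) : E ⊔ Subgroup.centralizer (E : Set G) = ⊤ := by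
  classical
  have hp : p.Prime := Fact.out
  obtain ⟨⟨hEp, hfrat, hcz⟩, hZcard⟩ := hE
  have hcomm : ∀ g : G, ∀ e ∈ E, ⁅g, e⁆ ∈ E ⊓ Subgroup.centralizer (E : Set G) := fun g e he =>
    h (Subgroup.commutator_mem_commutator (Subgroup.mem_top g) he)
  haveI hEn : E.Normal := by
    constructor
    intro e he g
    have h1 : ⁅g, e⁆ ∈ E := (Subgroup.mem_inf.mp (hcomm g e he)).1
    have h2 : g * e * g⁻¹ = ⁅g, e⁆ * e := by simp [commutatorElement_def]
    rw [h2]; exact E.mul_mem h1 he
  have hZmap : (Subgroup.center ↥E).map E.subtype = E ⊓ Subgroup.centralizer (E : Set G) :=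
    center_map_subtype_eq E
  have hZc : E ⊓ Subgroup.centralizer (E : Set G) ≤ Subgroup.center G :=
    hZmap ▸ center_map_le_center hG E hZcard
  have hZscard : Nat.card ↥(E ⊓ Subgroup.centralizer (E : Set G)) = p := by
    rw [← hZmap, Subgroup.card_map_of_injective E.subtype_injective]; exact hZcard
  have key : ∀ T : Finset G, (∀ t ∈ T, t ∈ E) →
      Nat.card G * p ≤
        Nat.card (Subgroup.centralizer
          (((E ⊓ Subgroup.centralizer (E : Set G)) ⊔ Subgroup.closure (T : Set G) : Subgroup G) : Set G))
        * Nat.card ↥((E ⊓ Subgroup.centralizer (E : Set G)) ⊔ Subgroup.closure (T : Set G)) := by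
    intro T
    induction T using Finset.induction_on with
    | empty =>
      intro _
      simp only [Finset.coe_empty, Subgroup.closure_empty, sup_bot_eq]
      have : Subgroup.centralizer ((E ⊓ Subgroup.centralizer (E : Set G) : Subgroup G) : Set G) = ⊤ := by
        rw [Subgroup.centralizer_eq_top_iff_subset]; exact hZc
      rw [this, Subgroup.card_top, hZscard]
    | insert e T heT ih =>
      intro hT
      have he : e ∈ E := hT e (Finset.mem_insert_self e T)
      have ih' := ih (fun t ht => hT t (Finset.mem_insert_of_mem ht))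
      have hF2 : (E ⊓ Subgroup.centralizer (E : Set G)) ⊔ Subgroup.closure ((insert e T : Finset G) : Set G)
          = ((E ⊓ Subgroup.centralizer (E : Set G)) ⊔ Subgroup.closure (T : Set G)) ⊔ Subgroup.zpowers e := by
        rw [Finset.coe_insert, Set.insert_eq, Subgroup.closure_union, ← Subgroup.zpowers_eq_closure]
        ac_rfl
      rw [hF2]
      generalize (E ⊓ Subgroup.centralizer (E : Set G)) ⊔ Subgroup.closure (T : Set G) = F at ih' ⊢
      by_cases heF : e ∈ F
      · have : F ⊔ Subgroup.zpowers e = F := sup_eq_left.mpr (Subgroup.zpowers_le.mpr heF)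
        rw [this]; exact ih'
      · have hFlt : ¬ F ⊔ Subgroup.zpowers e ≤ F := fun hle =>
          heF (hle (Subgroup.mem_sup_right (Subgroup.mem_zpowers e)))
        have hcardF : p * Nat.card F ≤ Nat.card ↥(F ⊔ Subgroup.zpowers e) := by
          have h1 := Subgroup.relIndex_mul_relIndex (⊥ : Subgroup G) F (F ⊔ Subgroup.zpowers e)
            bot_le le_sup_left
          rw [Subgroup.relIndex_bot_left, Subgroup.relIndex_bot_left] at h1
          have hpg : IsPGroup p ↥(F ⊔ Subgroup.zpowers e) := hG.to_subgroup _
          obtain ⟨n, hn⟩ := hpg.index (F.subgroupOf (F ⊔ Subgroup.zpowers e))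
          have hn' : F.relIndex (F ⊔ Subgroup.zpowers e) = p ^ n := hn
          have hn0 : n ≠ 0 := by
            rintro rfl
            rw [pow_zero, Subgroup.relIndex_eq_one] at hn'
            exact hFlt hn'
          have hdvd : p ∣ F.relIndex (F ⊔ Subgroup.zpowers e) := hn' ▸ dvd_pow_self p hn0
          have hle : p ≤ F.relIndex (F ⊔ Subgroup.zpowers e) :=
            Nat.le_of_dvd (by rw [hn']; exact pow_pos hp.pos n) hdvd
          rw [← h1, mul_comm]; exact Nat.mul_le_mul_left _ hle
        have hle : Subgroup.centralizer (F : Set G) ⊓ Subgroup.centralizer ({e} : Set G)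
            ≤ Subgroup.centralizer ((F ⊔ Subgroup.zpowers e : Subgroup G) : Set G) := by
          intro g hg
          obtain ⟨hgF, hge⟩ := Subgroup.mem_inf.mp hg
          have h1 : F ⊔ Subgroup.zpowers e ≤ Subgroup.centralizer ({g} : Set G) := by
            apply sup_le
            · intro f hf
              rw [mem_centralizer_singleton_iff']
              exact ((Subgroup.mem_centralizer_iff.mp hgF) f hf).symm
            · rw [Subgroup.zpowers_le, mem_centralizer_singleton_iff']
              exact ((mem_centralizer_singleton_iff' e g).mp hge).symm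
          rw [Subgroup.mem_centralizer_iff]
          intro f hf
          exact ((mem_centralizer_singleton_iff' g f).mp (h1 hf)).symm
        have hcardC : Nat.card (Subgroup.centralizer (F : Set G))
            ≤ Nat.card ↥(Subgroup.centralizer (F : Set G) ⊓ Subgroup.centralizer ({e} : Set G)) * p := by
          have h1 := Subgroup.relIndex_mul_relIndex (⊥ : Subgroup G)
            (Subgroup.centralizer (F : Set G) ⊓ Subgroup.centralizer ({e} : Set G))
            (Subgroup.centralizer (F : Set G)) bot_le inf_le_left
          rw [Subgroup.relIndex_bot_left, Subgroup.relIndex_bot_left, Subgroup.inf_relIndex_left] at h1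
          have hdvd := relIndex_centralizer_dvd_card (E ⊓ Subgroup.centralizer (E : Set G)) hZc e
            (fun g => hcomm g e he) (Subgroup.centralizer (F : Set G))
          rw [hZscard] at hdvd
          have h2 := Nat.le_of_dvd hp.pos hdvd
          rw [← h1]; exact Nat.mul_le_mul_left _ h2
        calc Nat.card G * p
            ≤ Nat.card (Subgroup.centralizer (F : Set G)) * Nat.card F := ih'
          _ ≤ (Nat.card ↥(Subgroup.centralizer (F : Set G) ⊓ Subgroup.centralizer ({e} : Set G)) * p)
                * Nat.card F := Nat.mul_le_mul_right _ hcardC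
          _ = Nat.card ↥(Subgroup.centralizer (F : Set G) ⊓ Subgroup.centralizer ({e} : Set G))
                * (p * Nat.card F) := by ring
          _ ≤ Nat.card (Subgroup.centralizer ((F ⊔ Subgroup.zpowers e : Subgroup G) : Set G))
                * Nat.card ↥(F ⊔ Subgroup.zpowers e) :=
              Nat.mul_le_mul (Subgroup.card_le_of_le hle) hcardF
  have hfin : (E : Set G).Finite := Set.toFinite _
  have hkey := key hfin.toFinset (fun t ht => by simpa using ht)
  have hEsup : (E ⊓ Subgroup.centralizer (E : Set G)) ⊔ Subgroup.closure ((hfin.toFinset : Finset G) : Set G) = E := by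
    rw [Set.Finite.coe_toFinset, Subgroup.closure_eq]
    exact sup_eq_right.mpr inf_le_left
  rw [hEsup] at hkey
  -- final counting
  have h1 := Subgroup.relIndex_mul_relIndex (⊥ : Subgroup G) (E ⊓ Subgroup.centralizer (E : Set G))
    (Subgroup.centralizer (E : Set G)) bot_le inf_le_right
  rw [Subgroup.relIndex_bot_left, Subgroup.relIndex_bot_left, Subgroup.inf_relIndex_right, hZscard] at h1
  have h2 := Subgroup.relIndex_mul_relIndex (⊥ : Subgroup G) E (E ⊔ Subgroup.centralizer (E : Set G))
    bot_le le_sup_left
  rw [Subgroup.relIndex_bot_left, Subgroup.relIndex_bot_left, Subgroup.relIndex_sup_left] at h2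
  apply Subgroup.eq_top_of_le_card
  rw [← h2]
  rw [← h1] at hkey
  have h3 : p * Nat.card G ≤ p * (Nat.card E * E.relIndex (Subgroup.centralizer (E : Set G))) := by
    calc p * Nat.card G = Nat.card G * p := mul_comm _ _
      _ ≤ p * E.relIndex (Subgroup.centralizer (E : Set G)) * Nat.card E := hkey
      _ = p * (Nat.card E * E.relIndex (Subgroup.centralizer (E : Set G))) := by ring
  exact Nat.le_of_mul_le_mul_left h3 hp.pos

end Cfsg.Agent.S0110
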