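import Cfsg.Statements.S0112
-- import your own Cfsg.Agent.* helpers here
import Mathlib
import Cfsg.Agent.Lib.Helper1.NilpotentAction
import Cfsg.Agent.Lib.Helper1.Coprime
import Cfsg.Agent.Lib.Helper4.Basic
import Cfsg.Agent.Lib.Helper20.ChainCount
import Cfsg.Agent.Lib.Helper20.NormalRankTwo

set_option autoImplicit false
open Cfsg

namespace Cfsg.Agent.S0112

open Subgroup Cfsg.Agent.Lib.Helper1
open scoped commutatorElement

universe u

theorem card_eq_prime_of_lt_sq {p k : ℕ} (hp : p.Prime) (h1 : 1 < p ^ k) (h2 : p ^ k < p ^ 2) :
    p ^ k = p := by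
  have hk2 : k < 2 := (Nat.pow_lt_pow_iff_right hp.one_lt).mp h2
  have hk0 : k ≠ 0 := by
    rintro rfl
    simp at h1
  have : k = 1 := by omega
  rw [this, pow_one]

theorem suzuki_aux (p : ℕ) [Fact p.Prime] : ∀ (n : ℕ) (X : Type u) [Group X] [Finite X],
    Nat.card X = p ^ n → ∀ A : Subgroup X, Nat.card A = p ^ 2 → centralizer (A : Set X) = A →
      Group.nilpotencyClass X = n - 1 := by
  intro n
  induction n using Nat.strong_induction_on with
  | _ n ih =>
    intro X _ _ hX A hA hC
    have hp : p.Prime := Fact.out
    have hXp : IsPGroup p X := IsPGroup.of_card hX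
    haveI : Group.IsNilpotent X := hXp.isNilpotent
    have hZA : center X ≤ A := by
      rw [← hC]
      exact center_le_centralizer _
    have hn2 : 2 ≤ n := by
      have h1 := Subgroup.card_subgroup_dvd_card A
      rw [hA, hX] at h1
      exact (Nat.pow_dvd_pow_iff_le_right hp.one_lt).mp h1
    haveI : Nontrivial X := by
      rw [← Finite.one_lt_card_iff_nontrivial, hX]
      exact Nat.one_lt_pow (by omega) hp.one_lt
    have h0 : Group.nilpotencyClass X ≠ 0 := by
      rw [Ne, nilpotencyClass_zero_iff_subsingleton]
      exact not_subsingleton X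
    by_cases hZeq : center X = A
    · have hAtop : A = ⊤ := by
        rw [← hC, ← hZeq, centralizer_eq_top_iff_subset]
      have hn : n = 2 := by
        have h1 : Nat.card A = Nat.card X := by rw [hAtop, Subgroup.card_top]
        rw [hA, hX] at h1
        exact (Nat.pow_right_injective hp.two_le h1).symm
      have hXcomm : IsMulCommutative X := by
        refine ⟨⟨fun a b => ?_⟩⟩
        have hb : b ∈ center X := by rw [hZeq, hAtop]; exact mem_top b
        exact (mem_center_iff.mp hb a)
      have h1 : Group.nilpotencyClass X ≤ 1 :=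
        Group.IsNilpotent.nilpotencyClass_le_one_iff.mpr hXcomm
      omega
    · -- `|Z| = p`
      have hZne : center X ≠ ⊥ := by
        haveI := hXp.center_nontrivial
        exact (Subgroup.nontrivial_iff_ne_bot _).mp inferInstance
      have hZcard : Nat.card (center X) = p := by
        obtain ⟨k, hk⟩ := IsPGroup.iff_card.mp (hXp.to_subgroup (center X))
        rw [hk]
        apply card_eq_prime_of_lt_sq hp
        · rw [← hk]
          exact (Subgroup.one_lt_card_iff_ne_bot _).mpr hZne
        · rw [← hk, ← hA]
          by_contra hcon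
          exact hZeq (Subgroup.eq_of_le_of_card_ge hZA (not_lt.mp hcon))
      -- `A ≠ ⊤`
      have hAtop : A ≠ ⊤ := by
        intro h
        apply hZeq
        rw [← hC, h, coe_top, centralizer_univ]
      obtain ⟨N, hN⟩ : ∃ N : Subgroup X, N = normalizer (A : Set X) := ⟨_, rfl⟩
      have hAN : A ≤ N := hN ▸ le_normalizer
      have hANlt : A < N := by
        rw [hN]
        exact normalizerCondition_of_isNilpotent A (lt_top_iff_ne_top.mpr hAtop)
      -- an element of `A` outside the centre
      obtain ⟨a₀, ha₀A, ha₀Z⟩ := SetLike.exists_of_lt (lt_of_le_of_ne hZA hZeq)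
      have hAgen : A = center X ⊔ zpowers a₀ := by
        symm
        apply Subgroup.eq_of_le_of_card_ge (sup_le hZA (zpowers_le.mpr ha₀A))
        have h1 : ¬ center X ⊔ zpowers a₀ ≤ center X := fun hle =>
          ha₀Z (hle (mem_sup_right (mem_zpowers a₀)))
        have h2 := Cfsg.Agent.Lib.Helper20.card_mul_le_card_of_lt hp hXp
          (le_sup_left : center X ≤ center X ⊔ zpowers a₀) h1
        rw [hZcard] at h2
        rw [hA]
        calc p ^ 2 = p * p := sq p
          _ ≤ _ := h2
      -- the quotient by the centre
      obtain ⟨Ab, hAb⟩ : ∃ Ab : Subgroup (X ⧸ center X), Ab = A.map (QuotientGroup.mk' (center X)) :=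
        ⟨_, rfl⟩
      obtain ⟨Nb, hNb⟩ : ∃ Nb : Subgroup (X ⧸ center X), Nb = N.map (QuotientGroup.mk' (center X)) :=
        ⟨_, rfl⟩
      have hcomapA : Ab.comap (QuotientGroup.mk' (center X)) = A := by
        rw [hAb, Subgroup.comap_map_eq_self]
        rw [QuotientGroup.ker_mk']
        exact hZA
      have hcomapN : Nb.comap (QuotientGroup.mk' (center X)) = N := by
        rw [hNb, Subgroup.comap_map_eq_self]
        rw [QuotientGroup.ker_mk']
        exact hZA.trans hAN
      have hAbcard : Nat.card Ab = p := by
        have h1 := Cfsg.Agent.Lib.Helper20.card_comap_mk'_eq (center X) Ab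
        rw [hcomapA, hA, hZcard, sq] at h1
        exact (Nat.eq_of_mul_eq_mul_right hp.pos h1).symm
      have hXb : IsPGroup p (X ⧸ center X) := hXp.to_quotient _
      have hAbNb : Ab ≤ Nb := by
        rw [hAb, hNb]
        exact Subgroup.map_mono hAN
      have hNbnorm : Nb ≤ normalizer (Ab : Set (X ⧸ center X)) := by
        rw [hNb, hAb, hN]
        exact Subgroup.le_normalizer_map _
      -- `N` acts trivially on `A / Z`
      have hcommbot : ⁅Ab, Nb⁆ = ⊥ := by
        have hAbne : Ab ≠ ⊥ := by
          intro h
          rw [h, Subgroup.card_bot] at hAbcard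
          exact hp.one_lt.ne hAbcard
        have hlt := IsPGroup.commutator_lt (hXb.to_subgroup Ab) (hXb.to_subgroup Nb) hNbnorm hAbne
        have hdvd : Nat.card (⁅Ab, Nb⁆ : Subgroup (X ⧸ center X)) ∣ p := by
          rw [← hAbcard]
          exact Subgroup.card_dvd_of_le hlt.le
        rcases (Nat.dvd_prime hp).mp hdvd with h1 | h1
        · exact Subgroup.card_eq_one.mp h1
        · exfalso
          apply hlt.ne
          apply Subgroup.eq_of_le_of_card_ge hlt.le
          rw [h1, hAbcard]
      have hNA : ∀ x ∈ N, ∀ a ∈ A, ⁅x, a⁆ ∈ center X := by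
        intro x hx a ha
        rw [← QuotientGroup.eq_one_iff]
        show QuotientGroup.mk' (center X) ⁅x, a⁆ = 1
        have h1 : ⁅QuotientGroup.mk' (center X) a, QuotientGroup.mk' (center X) x⁆ ∈ ⁅Ab, Nb⁆ :=
          Subgroup.commutator_mem_commutator (hAb ▸ ⟨a, ha, rfl⟩) (hNb ▸ ⟨x, hx, rfl⟩)
        rw [hcommbot, mem_bot, commutatorElement_eq_one_iff_commute] at h1
        rw [map_commutatorElement, commutatorElement_eq_one_iff_commute]
        exact h1.symm
      -- `|N : A| = p`
      have hcent : centralizer ({a₀} : Set X) ⊓ N = A := by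
        apply le_antisymm
        · intro x hx
          obtain ⟨hx1, hx2⟩ := Subgroup.mem_inf.mp hx
          have hA' : A ≤ centralizer ({x} : Set X) := by
            rw [hAgen]
            apply sup_le (center_le_centralizer _)
            rw [zpowers_le, mem_centralizer_iff]
            intro y hy
            rw [Set.mem_singleton_iff] at hy
            rw [hy]
            exact ((mem_centralizer_iff.mp hx1) a₀ rfl).symm
          rw [← hC, mem_centralizer_iff]
          intro a ha
          exact ((mem_centralizer_iff.mp (hA' ha)) x rfl).symm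
        · intro a ha
          refine Subgroup.mem_inf.mpr ⟨?_, hAN ha⟩
          rw [mem_centralizer_iff]
          intro y hy
          rw [Set.mem_singleton_iff] at hy
          rw [hy]
          have h1 : a ∈ centralizer (A : Set X) := by rw [hC]; exact ha
          exact (mem_centralizer_iff.mp h1) a₀ ha₀A
      have hrel : A.relIndex N = p := by
        have h1 := Cfsg.Agent.Lib.Helper20.relIndex_centralizer_dvd_card_of_mem N (center X) a₀
          (fun g hg => hNA g hg a₀ ha₀A)
          (fun g _ z hz => (mem_center_iff.mp hz g))
          (fun z _ w hw => (mem_center_iff.mp hw z))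
        rw [← Subgroup.inf_relIndex_right, hcent, hZcard] at h1
        rcases (Nat.dvd_prime hp).mp h1 with h2 | h2
        · exfalso
          rw [Subgroup.relIndex_eq_one] at h2
          exact (not_le_of_gt hANlt) h2
        · exact h2
      have hNcard : Nat.card N = p ^ 3 := by
        have h1 := Cfsg.Agent.Lib.Helper4.card_mul_relIndex hAN
        rw [hA, hrel] at h1
        rw [← h1]
        ring
      have hNbcard : Nat.card Nb = p ^ 2 := by
        have h1 := Cfsg.Agent.Lib.Helper20.card_comap_mk'_eq (center X) Nb
        rw [hcomapN, hNcard, hZcard] at h1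
        have h2 : p ^ 2 * p = Nat.card Nb * p := by
          rw [← h1]
          ring
        exact (Nat.eq_of_mul_eq_mul_right hp.pos h2).symm
      have hcentAb : centralizer (Ab : Set (X ⧸ center X)) ≤ Nb := by
        intro y hy
        obtain ⟨x, rfl⟩ := QuotientGroup.mk'_surjective (center X) y
        rw [hNb]
        refine ⟨x, ?_, rfl⟩
        rw [hN]
        apply mem_normalizer_of_forall_conj_mem
        intro a ha
        have h1 : ⁅x, a⁆ ∈ center X := by
          rw [← QuotientGroup.eq_one_iff]
          show QuotientGroup.mk' (center X) ⁅x, a⁆ = 1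
          rw [map_commutatorElement, commutatorElement_eq_one_iff_commute]
          have h2 := (mem_centralizer_iff.mp hy) (QuotientGroup.mk' (center X) a)
            (hAb ▸ ⟨a, ha, rfl⟩)
          exact h2.symm
        have e : x * a * x⁻¹ = ⁅x, a⁆ * a := by simp [commutatorElement_def]
        rw [e]
        exact A.mul_mem (hZA h1) ha
      have hNbcomm : ∀ y ∈ Nb, ∀ z ∈ Nb, y * z = z * y := by
        haveI : IsMulCommutative Nb :=
          IsMulCommutative.of_comm (IsPGroup.commutative_of_card_eq_prime_sq hNbcard)
        intro y hy z hz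
        exact congrArg Subtype.val (mul_comm' (⟨y, hy⟩ : Nb) ⟨z, hz⟩)
      have hCNb : centralizer (Nb : Set (X ⧸ center X)) = Nb := by
        apply le_antisymm
        · exact (centralizer_le hAbNb).trans hcentAb
        · intro y hy
          rw [mem_centralizer_iff]
          intro z hz
          exact hNbcomm z hz y hy
      have hn3 : 3 ≤ n := by
        have h1 := Subgroup.card_subgroup_dvd_card N
        rw [hNcard, hX] at h1
        exact (Nat.pow_dvd_pow_iff_le_right hp.one_lt).mp h1
      have hXbcard : Nat.card (X ⧸ center X) = p ^ (n - 1) := by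
        have h1 := Subgroup.card_eq_card_quotient_mul_card_subgroup (center X)
        rw [hX, hZcard] at h1
        have h2 : p ^ n = p ^ (n - 1) * p := by
          rw [← pow_succ]
          congr 1
          omega
        rw [h2] at h1
        exact (Nat.eq_of_mul_eq_mul_right hp.pos h1).symm
      have hcl := ih (n - 1) (by omega) (X ⧸ center X) hXbcard Nb hNbcard hCNb
      rw [nilpotencyClass_quotient_center] at hcl
      omega

/-- A p-group with a self-centralizing subgroup of order p^2 is of maximal class. -/
theorem result {X : Type*} [Group X] [Finite X] {p : ℕ} [Fact p.Prime] (n : ℕ) (hX : Nat.card X = p ^ n) (A : Subgroup X) (hA : Nat.card A = p ^ 2) (hC : Subgroup.centralizer (A : Set X) = A) : Group.nilpotencyClass X = n - 1 := by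
  exact suzuki_aux p n X hX A hA hC

end Cfsg.Agent.S0112
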