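import Cfsg.Statements.S0125
import Cfsg.Agent.Lib.Helper19.Index

set_option autoImplicit false
open Cfsg

namespace Cfsg.Agent.S0125



/-- The centralizer of a self-centralizing normal subgroup A of a Sylow p-subgroup is the direct product of A with a normal p'-subgroup. -/
theorem result {G : Type*} [Group G] [Finite G] {p : ℕ} [Fact p.Prime] (R : Sylow p G) (A : Subgroup G) (hAR : A ≤ (R : Subgroup G)) (hAn : (R : Subgroup G) ≤ Subgroup.normalizer (A : Set G)) (hC : (R : Subgroup G) ⊓ Subgroup.centralizer (A : Set G) = A) : ∃ H : Subgroup G, H ≤ Subgroup.centralizer (A : Set G) ∧ Nat.Coprime (Nat.card H) p ∧ Subgroup.centralizer (A : Set G) ≤ Subgroup.normalizer (H : Set G) ∧ H ⊓ A = ⊥ ∧ H ⊔ A = Subgroup.centralizer (A : Set G) := by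
  classical
  set C := Subgroup.centralizer (A : Set G) with hCdef
  have hAC : A ≤ C := by
    rw [← hC]; exact inf_le_right
  -- R normalizes C
  have hRC : (R : Subgroup G) ≤ Subgroup.normalizer (C : Set G) := by
    intro r hr
    have hrA := hAn hr
    rw [Subgroup.mem_normalizer_iff]
    have key : ∀ (s : G), s ∈ Subgroup.normalizer (A : Set G) → ∀ c ∈ C, s * c * s⁻¹ ∈ C := by
      intro s hs c hc
      rw [hCdef, Subgroup.mem_centralizer_iff]
      intro a ha
      have ha' : s⁻¹ * a * s ∈ A := by
        have := (Subgroup.mem_normalizer_iff.mp (Subgroup.inv_mem _ hs) a).mp ha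
        simpa using this
      have hcomm := (Subgroup.mem_centralizer_iff.mp hc) _ ha'
      -- (s⁻¹ a s) * c = c * (s⁻¹ a s)
      calc a * (s * c * s⁻¹) = s * ((s⁻¹ * a * s) * c) * s⁻¹ := by group
        _ = s * (c * (s⁻¹ * a * s)) * s⁻¹ := by rw [hcomm]
        _ = s * c * s⁻¹ * a := by group
    intro c
    constructor
    · intro hc; exact key r hrA c hc
    · intro hc
      have := key r⁻¹ (Subgroup.inv_mem _ hrA) _ hc
      simpa [mul_assoc] using this
  -- p does not divide |C : A|
  have hidx : ¬ p ∣ A.relIndex C := by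
    have h1 : A.relIndex C = (R : Subgroup G).relIndex C := by
      rw [← hC, Subgroup.inf_relIndex_right]
    rw [h1, ← Cfsg.Agent.Lib.Helper19.relIndex_sup_self_of_le_normalizer _ _ hRC]
    intro hdvd
    exact R.not_dvd_index (hdvd.trans (Subgroup.relIndex_dvd_index_of_le le_sup_left))
  have hpA : IsPGroup p (A.subgroupOf C) := by
    have : IsPGroup p A := R.2.to_le hAR
    exact this.comap_subtype
  let P : Sylow p C := hpA.toSylow hidx
  have hPcoe : (P : Subgroup C) = A.subgroupOf C := IsPGroup.toSylow_coe hpA hidx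
  have hP : Subgroup.normalizer ((P : Subgroup C) : Set C) ≤ Subgroup.centralizer ((P : Subgroup C) : Set C) := by
    intro c _
    rw [Subgroup.mem_centralizer_iff]
    intro a ha
    have ha' : (a : G) ∈ A := by
      have : a ∈ (P : Subgroup C) := ha
      rw [hPcoe, Subgroup.mem_subgroupOf] at this
      exact this
    have := (Subgroup.mem_centralizer_iff.mp c.2) _ ha'
    exact Subtype.ext this
  have hcompl := MonoidHom.ker_transferSylow_isComplement' P hP
  have hcard := MonoidHom.not_dvd_card_ker_transferSylow P hP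
  set K := (MonoidHom.transferSylow P hP).ker with hK
  refine ⟨K.map C.subtype, ?_, ?_, ?_, ?_, ?_⟩
  · exact Subgroup.map_subtype_le K
  · rw [Nat.card_congr (Subgroup.equivMapOfInjective K C.subtype (Subgroup.subtype_injective C)).symm.toEquiv]
    rw [Nat.coprime_comm]
    exact (Nat.Prime.coprime_iff_not_dvd (Fact.out)).mpr hcard
  · have h1 := Subgroup.le_normalizer_map (H := K) C.subtype
    have h2 : Subgroup.normalizer (K : Set C) = ⊤ := Subgroup.normalizer_eq_top K
    rw [h2] at h1
    have h3 : (⊤ : Subgroup C).map C.subtype = C := by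
      rw [← MonoidHom.range_eq_map, Subgroup.range_subtype]
    rw [h3] at h1
    exact h1
  · have h1 : K ⊓ (P : Subgroup C) = ⊥ := hcompl.disjoint.eq_bot
    have h2 : (K ⊓ (P : Subgroup C)).map C.subtype = K.map C.subtype ⊓ (P : Subgroup C).map C.subtype :=
      Subgroup.map_inf _ _ _ (Subgroup.subtype_injective C)
    rw [h1, Subgroup.map_bot, hPcoe, Subgroup.map_subgroupOf_eq_of_le hAC] at h2
    exact h2.symm
  · have h1 : K ⊔ (P : Subgroup C) = ⊤ := hcompl.sup_eq_top
    have h2 : (K ⊔ (P : Subgroup C)).map C.subtype = K.map C.subtype ⊔ (P : Subgroup C).map C.subtype :=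
      Subgroup.map_sup _ _ _
    rw [h1, hPcoe, Subgroup.map_subgroupOf_eq_of_le hAC, ← MonoidHom.range_eq_map, Subgroup.range_subtype] at h2
    exact h2.symm

end Cfsg.Agent.S0125
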