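import Cfsg.Statements.S0131
-- import your own Cfsg.Agent.* helpers here

set_option autoImplicit false
open Cfsg

namespace Cfsg.Agent.S0131

open scoped commutatorElement


/-- P/P' has a normal complement in G exactly when the focal subgroup G' ∩ P is as small as possible, namely P'. -/
theorem result {G : Type*} [Group G] [Finite G] {p : ℕ} [Fact p.Prime] (P : Sylow p G) : (∃ N : Subgroup G, N.Normal ∧ N ⊓ (P : Subgroup G) = ⁅(P : Subgroup G), (P : Subgroup G)⁆ ∧ N ⊔ (P : Subgroup G) = ⊤) ↔ commutator G ⊓ (P : Subgroup G) = ⁅(P : Subgroup G), (P : Subgroup G)⁆ := by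
  classical
  constructor
  · rintro ⟨N, hN, hNP, hsup⟩
    apply le_antisymm
    · -- G' ≤ N
      have hGN : commutator G ≤ N := by
        rw [commutator_def, Subgroup.commutator_le]
        intro g₁ _ g₂ _
        have h1 : g₁ ∈ N ⊔ (P : Subgroup G) := by rw [hsup]; trivial
        have h2 : g₂ ∈ N ⊔ (P : Subgroup G) := by rw [hsup]; trivial
        rw [Subgroup.mem_sup_of_normal_left] at h1 h2
        obtain ⟨n₁, hn₁, p₁, hp₁, rfl⟩ := h1
        obtain ⟨n₂, hn₂, p₂, hp₂, rfl⟩ := h2
        have hmem : ⁅p₁, p₂⁆ ∈ N := by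
          have : ⁅p₁, p₂⁆ ∈ ⁅(P : Subgroup G), (P : Subgroup G)⁆ :=
            Subgroup.commutator_mem_commutator hp₁ hp₂
          rw [← hNP] at this
          exact this.1
        have hπ1 : (QuotientGroup.mk' N) n₁ = 1 := (QuotientGroup.eq_one_iff n₁).mpr hn₁
        have hπ2 : (QuotientGroup.mk' N) n₂ = 1 := (QuotientGroup.eq_one_iff n₂).mpr hn₂
        have key : (QuotientGroup.mk' N) ⁅n₁ * p₁, n₂ * p₂⁆ = 1 := by
          rw [map_commutatorElement, map_mul, map_mul, hπ1, hπ2, one_mul, one_mul,
            ← map_commutatorElement]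
          exact (QuotientGroup.eq_one_iff _).mpr hmem
        exact (QuotientGroup.eq_one_iff _).mp key
      rw [← hNP]
      exact inf_le_inf_right _ hGN
    · apply le_inf
      · rw [commutator_def]
        exact Subgroup.commutator_mono le_top le_top
      · rw [Subgroup.commutator_le]
        intro a ha b hb
        rw [commutatorElement_def]
        exact Subgroup.mul_mem _ (Subgroup.mul_mem _ (Subgroup.mul_mem _ ha hb) (Subgroup.inv_mem _ ha)) (Subgroup.inv_mem _ hb)
  · intro h
    refine ⟨P.transferFocal.ker, inferInstance, ?_, ?_⟩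
    · rw [Subgroup.ker_transferFocal_inf_eq_focalSubgroup, ← Subgroup.commutator_inf_eq_focalSubgroup, h]
    · rw [eq_top_iff]
      intro g _
      obtain ⟨y, hy⟩ := Subgroup.focalSubgroupOf.pow_index_surjective P (P.transferFocal g)
      obtain ⟨x, rfl⟩ := QuotientGroup.mk'_surjective _ y
      have hx : P.transferFocal (x : G) = P.transferFocal g := by
        rw [Subgroup.transferFocal_eq_pow]
        exact hy
      have hker : g * (x : G)⁻¹ ∈ P.transferFocal.ker := by
        rw [MonoidHom.mem_ker, map_mul, map_inv, hx, mul_inv_cancel]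
      have : g = (g * (x : G)⁻¹) * (x : G) := by group
      rw [this]
      exact Subgroup.mul_mem_sup hker x.2

end Cfsg.Agent.S0131
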