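import Cfsg.Statements.S0132
import Cfsg.Agent.Lib.Helper29.MinNonPNilpotent

set_option autoImplicit false
open Cfsg

namespace Cfsg.Agent.S0132

/-- A minimal non-p-nilpotent finite group is a minimal non-nilpotent group with a normal Sylow p-subgroup. -/
theorem result {G : Type*} [Group G] [Finite G] {p : ℕ} [Fact p.Prime] (h1 : ¬ Cfsg.HasNormalPComplement p G) (h2 : ∀ H : Subgroup G, H ≠ ⊤ → Cfsg.HasNormalPComplement p H) : (∀ H : Subgroup G, H ≠ ⊤ → Group.IsNilpotent H) ∧ ¬ Group.IsNilpotent G ∧ ∀ P : Sylow p G, (P : Subgroup G).Normal := by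
  have e : ∀ (X : Type _) [Group X] [Finite X], Cfsg.HasNormalPComplement p X ↔
      Cfsg.Agent.Lib.Helper29.FrobCond p X := fun X _ _ =>
    Cfsg.Agent.Lib.Helper29.frobCond_iff.symm
  have h1' : ¬ Cfsg.Agent.Lib.Helper29.FrobCond p G := fun h => h1 ((e G).mpr h)
  have h2' : ∀ H : Subgroup G, H ≠ ⊤ → Cfsg.Agent.Lib.Helper29.FrobCond p H :=
    fun H hH => (e H).mp (h2 H hH)
  obtain ⟨Q, g, hQn, hQ, hcop, hsup, hgc⟩ :=
    Cfsg.Agent.Lib.Helper29.exists_normal_pgroup_sup_zpowers_of_minimal h1' h2'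
  have hp : p.Prime := Fact.out
  have hidx : ¬ p ∣ Q.index := by
    intro hd
    have h3 := hd.trans (Cfsg.Agent.Lib.Helper29.index_dvd_orderOf_of_sup_zpowers Q g hsup)
    have h4 := Nat.Coprime.eq_one_of_dvd hcop.symm h3
    exact hp.ne_one h4
  have hab : commutator G ≤ Q :=
    hQn.commutator_le_of_self_sup_commutative_eq_top hsup
      (inferInstance : IsMulCommutative (Subgroup.zpowers g))
  refine ⟨?_, ?_, ?_⟩
  · intro H hH
    exact Cfsg.Agent.Lib.Helper29.isNilpotent_of_frobCond_of_normal_sylow Q hQ hidx hab H (h2' H hH)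
  · intro hnil
    exact h1' (Cfsg.Agent.Lib.Helper29.frobCond_of_isNilpotent hnil)
  · intro P
    obtain ⟨t, ht⟩ := MulAction.exists_smul_eq G (hQ.toSylow hidx : Sylow p G) P
    have hQS : ((hQ.toSylow hidx : Sylow p G) : Subgroup G).Normal := by
      rw [IsPGroup.toSylow_coe]; exact hQn
    rw [Sylow.smul_eq_of_normal] at ht
    rw [← ht]; exact hQS

end Cfsg.Agent.S0132
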