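import Cfsg.Statements.S0136
import Cfsg.Agent.Lib.Lead.CharMain

set_option autoImplicit false
open Cfsg

namespace Cfsg.Agent.S0136

/-- Two elements of a finite group are conjugate if and only if no irreducible complex character separates them. -/
theorem result {G : Type*} [Group G] [Finite G] (g h : G) : IsConj g h ↔ ∀ χ : Cfsg.IrrCharacter G, (χ : G → ℂ) g = (χ : G → ℂ) h := by
  classical
  let _ := Fintype.ofFinite G
  let _ := Cfsg.Agent.CharLib.fintypeIrr G
  constructor
  · intro hc χ
    exact Cfsg.Agent.CharLib.IsClassFunction.of_isConj (Cfsg.Agent.CharLib.IsCharacter.isClassFunction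
        (Cfsg.Agent.CharLib.IsIrrCharacter.isCharacter χ.2)) hc
  · intro hall
    by_contra hc
    have h1 := Cfsg.Agent.CharLib.sum_irr_mul_conj g h
    have h2 := Cfsg.Agent.CharLib.sum_irr_mul_conj h h
    simp only [hall] at h1
    rw [h1] at h2
    simp only [Cfsg.Agent.CharLib.classIndicator, hc, if_false, zero_mul, IsConj.refl, if_true, one_mul] at h2
    have : Nat.card (Subgroup.centralizer ({h} : Set G)) ≠ 0 := Nat.card_pos.ne'
    exact this (by exact_mod_cast h2.symm)

end Cfsg.Agent.S0136
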