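import Cfsg.Statements.S0138
import Cfsg.Agent.Lib.Lead.CharBasic

set_option autoImplicit false
open Cfsg

namespace Cfsg.Agent.S0138

/-- A character value has absolute value equal to the degree exactly when the group element acts by a scalar. -/
theorem result {G : Type*} [Group G] [Finite G] {V : Type*} [AddCommGroup V] [Module ℂ V] [FiniteDimensional ℂ V] (ρ : Representation ℂ G V) (g : G) : ‖ρ.character g‖ = (Module.finrank ℂ V : ℝ) ↔ ∃ ω : ℂ, ρ g = ω • (LinearMap.id : V →ₗ[ℂ] V) := by
  obtain ⟨ι, hι, b, μ, h1, h2, h3, h4⟩ := Cfsg.Agent.CharLib.exists_eigenbasis ρ g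
  constructor
  · intro h
    unfold Representation.character at h
    rw [Cfsg.Agent.CharLib.trace_eq_sum_of_eigenbasis b (ρ g) μ h2, Module.finrank_eq_card_basis b] at h
    obtain ⟨ω, _, hω⟩ := Cfsg.Agent.CharLib.all_eq_of_norm_sum_eq_card μ h4 h
    refine ⟨ω, ?_⟩
    apply b.ext
    intro i
    rw [h2 i, hω i]
    rfl
  · rintro ⟨ω, hω⟩
    unfold Representation.character
    rw [Cfsg.Agent.CharLib.trace_eq_sum_of_eigenbasis b (ρ g) μ h2, Module.finrank_eq_card_basis b]
    have hμω : ∀ i, μ i = ω := by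
      intro i
      have := h2 i
      rw [hω] at this
      have h5 : (ω - μ i) • b i = 0 := by
        rw [sub_smul, ← this]; simp
      rcases smul_eq_zero.mp h5 with h6 | h6
      · exact (sub_eq_zero.mp h6).symm
      · exact absurd h6 (b.ne_zero i)
    rw [Finset.sum_congr rfl (fun i _ => hμω i), Finset.sum_const, Finset.card_univ, nsmul_eq_mul, norm_mul]
    rcases isEmpty_or_nonempty ι with he | ⟨⟨i⟩⟩
    · simp
    · have : ‖ω‖ = 1 := by rw [← hμω i]; exact h4 i
      rw [this, mul_one]; simp

end Cfsg.Agent.S0138
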