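import Cfsg.Statements.S0139
import Cfsg.Agent.Lib.Lead.CharBasic

set_option autoImplicit false
open Cfsg

namespace Cfsg.Agent.S0139

/-- The kernel of a complex representation of a finite group is the set of elements where the character equals the degree. -/
theorem result {G : Type*} [Group G] [Finite G] {V : Type*} [AddCommGroup V] [Module ℂ V] [FiniteDimensional ℂ V] (ρ : Representation ℂ G V) (g : G) : ρ.character g = (Module.finrank ℂ V : ℂ) ↔ ρ g = LinearMap.id := by
  obtain ⟨ι, hι, b, μ, h1, h2, h3, h4⟩ := Cfsg.Agent.CharLib.exists_eigenbasis ρ g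
  constructor
  · intro h
    unfold Representation.character at h
    rw [Cfsg.Agent.CharLib.trace_eq_sum_of_eigenbasis b (ρ g) μ h2, Module.finrank_eq_card_basis b] at h
    have hre : ∑ i, (μ i).re = Fintype.card ι := by
      have := congrArg Complex.re h
      rwa [Complex.re_sum, Complex.natCast_re] at this
    have hle : ∀ i, (μ i).re ≤ 1 := fun i => (Complex.re_le_norm _).trans (h4 i).le
    have heq : ∀ i, (μ i).re = 1 := by
      by_contra hcon
      push Not at hcon
      obtain ⟨j, hj⟩ := hcon
      have hlt : (μ j).re < 1 := lt_of_le_of_ne (hle j) hj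
      have : ∑ i, (μ i).re < ∑ _i : ι, (1:ℝ) :=
        Finset.sum_lt_sum (fun i _ => hle i) ⟨j, Finset.mem_univ j, hlt⟩
      rw [Finset.sum_const, Finset.card_univ, nsmul_eq_mul, mul_one, hre] at this
      exact lt_irrefl _ this
    apply b.ext
    intro i
    rw [h2 i, Cfsg.Agent.CharLib.eq_one_of_norm_eq_one_of_re_eq_one (h4 i) (heq i), one_smul]
    rfl
  · intro h
    unfold Representation.character
    rw [h]
    exact LinearMap.trace_id ℂ V

end Cfsg.Agent.S0139
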