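import Cfsg.Statements.S0147
-- import your own Cfsg.Agent.* helpers here
import Mathlib

set_option autoImplicit false
open Cfsg

namespace Cfsg.Agent.S0147

open Subgroup

theorem ext_mem {G : Type*} [Group G] (H : Subgroup G) (θ : H → ℂ) (h : H) :
    Cfsg.extendByZero H θ (h : G) = θ h :=
  Subtype.val_injective.extend_apply θ 0 h

theorem ext_not_mem {G : Type*} [Group G] (H : Subgroup G) (θ : H → ℂ) (x : G) (hx : x ∉ H) :
    Cfsg.extendByZero H θ x = 0 := by
  unfold Cfsg.extendByZero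
  rw [Function.extend_apply']
  · rfl
  · rintro ⟨a, rfl⟩
    exact hx a.2

/-- Transitivity of induction: inducing from H to K and then from K to G is the same as inducing from H to G. -/
theorem result {G : Type*} [Group G] [Fintype G] (H K : Subgroup G) [Fintype K] (hHK : H ≤ K) (θ : H → ℂ) : Cfsg.indFun K (Cfsg.indFun (H.subgroupOf K) (fun x => θ ⟨(x : K), Subgroup.mem_subgroupOf.mp x.2⟩)) = Cfsg.indFun H θ := by
  classical
  funext g
  set θ' : (H.subgroupOf K) → ℂ := fun x => θ ⟨(x : K), Subgroup.mem_subgroupOf.mp x.2⟩ with hθ'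
  -- the inner extension by zero agrees with the outer one
  have hext : ∀ y : K, Cfsg.extendByZero (H.subgroupOf K) θ' y = Cfsg.extendByZero H θ (y : G) := by
    intro y
    by_cases hy : (y : G) ∈ H
    · have h1 : Cfsg.extendByZero (H.subgroupOf K) θ' ((⟨y, Subgroup.mem_subgroupOf.mpr hy⟩ : H.subgroupOf K) : K) =
          θ' ⟨y, Subgroup.mem_subgroupOf.mpr hy⟩ := ext_mem _ _ _
      have h2 : Cfsg.extendByZero H θ ((⟨(y : G), hy⟩ : H) : G) = θ ⟨(y : G), hy⟩ := ext_mem _ _ _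
      rw [h1, h2]
    · rw [ext_not_mem H θ _ hy, ext_not_mem (H.subgroupOf K) θ' y (fun h => hy (Subgroup.mem_subgroupOf.mp h))]
  have hcardH : Nat.card (H.subgroupOf K) = Nat.card H :=
    Nat.card_congr (Subgroup.subgroupOfEquivOfLe hHK).toEquiv
  -- unfold
  show (Nat.card K : ℂ)⁻¹ * ∑ x : G, Cfsg.extendByZero K
      (Cfsg.indFun (H.subgroupOf K) θ') (x⁻¹ * g * x) =
    (Nat.card H : ℂ)⁻¹ * ∑ x : G, Cfsg.extendByZero H θ (x⁻¹ * g * x)
  have hinner : ∀ x : G, Cfsg.extendByZero K (Cfsg.indFun (H.subgroupOf K) θ') (x⁻¹ * g * x) =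
      (Nat.card H : ℂ)⁻¹ * ∑ k : K, Cfsg.extendByZero H θ ((x * k)⁻¹ * g * (x * k)) := by
    intro x
    by_cases hx : x⁻¹ * g * x ∈ K
    · have h1 : Cfsg.extendByZero K (Cfsg.indFun (H.subgroupOf K) θ') ((⟨_, hx⟩ : K) : G) =
          Cfsg.indFun (H.subgroupOf K) θ' ⟨_, hx⟩ := ext_mem _ _ _
      rw [h1]
      show (Nat.card (H.subgroupOf K) : ℂ)⁻¹ * ∑ k : K, Cfsg.extendByZero (H.subgroupOf K) θ'
        (k⁻¹ * ⟨_, hx⟩ * k) = _
      rw [hcardH]
      congr 1
      apply Finset.sum_congr rfl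
      intro k _
      rw [hext]
      congr 1
      simp only [Subgroup.coe_mul, Subgroup.coe_inv, mul_inv_rev, mul_assoc]
    · rw [ext_not_mem K _ _ hx]
      have : ∀ k : K, Cfsg.extendByZero H θ ((x * k)⁻¹ * g * (x * k)) = 0 := by
        intro k
        apply ext_not_mem
        intro h
        apply hx
        have h2 : (x * k)⁻¹ * g * (x * k) ∈ K := hHK h
        have e : x⁻¹ * g * x = (k : G) * ((x * k)⁻¹ * g * (x * k)) * (k : G)⁻¹ := by group
        rw [e]
        exact K.mul_mem (K.mul_mem k.2 h2) (K.inv_mem k.2)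
      rw [Finset.sum_congr rfl (fun k _ => this k), Finset.sum_const_zero, mul_zero]
  simp_rw [hinner]
  rw [← Finset.mul_sum, Finset.sum_comm]
  have hreindex : ∀ k : K, ∑ x : G, Cfsg.extendByZero H θ ((x * k)⁻¹ * g * (x * k)) =
      ∑ x : G, Cfsg.extendByZero H θ (x⁻¹ * g * x) := by
    intro k
    exact Fintype.sum_equiv (Equiv.mulRight (k : G)) _ _ (fun x => rfl)
  simp_rw [hreindex]
  rw [Finset.sum_const, Finset.card_univ, nsmul_eq_mul, ← Nat.card_eq_fintype_card]
  have hK0 : (Nat.card K : ℂ) ≠ 0 := by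
    exact_mod_cast (Nat.card_pos (α := K)).ne'
  field_simp

end Cfsg.Agent.S0147
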