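import Cfsg.Statements.S0166
import Mathlib
import Cfsg.Agent.Lib.Helper2.SplitFieldD

set_option autoImplicit false
open Cfsg

namespace Cfsg.Agent.S0166

/-- Brauer's splitting field Theorem: a complex representation of a finite group of exponent m is equivalent to a representation by matrices with entries in ℚ adjoined exp(2πi/m). -/
theorem result {G : Type*} [Group G] [Finite G] (n : ℕ) (ρ : Representation ℂ G (Fin n → ℂ)) : ∃ σ : Representation ℂ G (Fin n → ℂ), Nonempty (ρ.Equiv σ) ∧ ∀ g : G, ∀ i j : Fin n, LinearMap.toMatrix' (σ g) i j ∈ Algebra.adjoin ℚ ({Complex.exp (2 * Real.pi * Complex.I / (Monoid.exponent G : ℂ))} : Set ℂ) := by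
  classical
  let _ := Fintype.ofFinite G
  have he0 : Monoid.exponent G ≠ 0 := Monoid.exponent_ne_zero_of_finite
  have hprim : IsPrimitiveRoot (Complex.exp (2 * Real.pi * Complex.I / (Monoid.exponent G : ℂ)))
      (Monoid.exponent G) := Complex.isPrimitiveRoot_exp _ he0
  have hint : IsIntegral ℚ (Complex.exp (2 * Real.pi * Complex.I / (Monoid.exponent G : ℂ))) :=
    (hprim.isIntegral (Nat.pos_of_ne_zero he0)).tower_top
  have hKadj := IntermediateField.adjoin_simple_toSubalgebra_of_isAlgebraic hint.isAlgebraic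
  have hk : ∀ z : ℂ, z ^ Monoid.exponent G = 1 → z ∈ Set.range (algebraMap
      (IntermediateField.adjoin ℚ
        ({Complex.exp (2 * Real.pi * Complex.I / (Monoid.exponent G : ℂ))} : Set ℂ)) ℂ) := by
    intro z hz
    have : NeZero (Monoid.exponent G) := ⟨he0⟩
    obtain ⟨i, -, rfl⟩ := hprim.eq_pow_of_pow_eq_one hz
    exact ⟨⟨_, pow_mem (IntermediateField.mem_adjoin_simple_self ℚ _) i⟩, rfl⟩
  obtain ⟨σ, hσ, hent⟩ := Cfsg.Agent.Lib.Helper2.SplitField.exists_matrix_rep hk n ρ
  refine ⟨σ, hσ, ?_⟩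
  intro g i j
  obtain ⟨x, hx⟩ := hent g i j
  rw [← hx, ← hKadj]
  exact x.2

end Cfsg.Agent.S0166
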