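import Cfsg.Statements.S0168
import Mathlib
import Cfsg.Agent.Lib.Lead.CharOrtho
import Cfsg.Agent.Lib.Helper24.Deflation

set_option autoImplicit false
open Cfsg

namespace Cfsg.Agent.S0168

/-- The Burnside–Brauer Theorem. Let χ be the character of a faithful complex representation of a finite group, taking m distinct values. Then every irreducible character has nonzero inner product with χ ^ i for some i < m. -/
theorem result {G : Type*} [Group G] [Fintype G] {V : Type*} [AddCommGroup V] [Module ℂ V] [FiniteDimensional ℂ V] (ρ : Representation ℂ G V) (hfaithful : Function.Injective ρ) (ψ : G → ℂ) (hψ : Cfsg.IsIrrCharacter G ψ) : ∃ i : ℕ, i < Nat.card (Set.range ρ.character) ∧ Cfsg.classInner (fun g => ρ.character g ^ i) ψ ≠ 0 := by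
  classical
  by_contra hcon
  push Not at hcon
  set χ := ρ.character with hχ
  let s : Finset ℂ := Finset.univ.image χ
  have hcard : Nat.card (Set.range χ) = s.card := by
    have : Set.range χ = (s : Set ℂ) := by
      simp [s]
    rw [this, Nat.card_coe_set_eq, Set.ncard_coe_finset]
  rw [hcard] at hcon
  have h1s : χ 1 ∈ s := Finset.mem_image_of_mem χ (Finset.mem_univ 1)
  let P : Polynomial ℂ := Lagrange.basis s id (χ 1)
  have hinj : Set.InjOn (id : ℂ → ℂ) s := Function.injective_id.injOn
  have hdeg : P.natDegree = s.card - 1 := Lagrange.natDegree_basis hinj h1s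
  have hspos : 0 < s.card := Finset.card_pos.mpr ⟨_, h1s⟩
  -- evaluation of P at character values
  have hPeval : ∀ g : G, P.eval (χ g) = if g = 1 then 1 else 0 := by
    intro g
    by_cases hg : g = 1
    · rw [if_pos hg, hg]
      exact Lagrange.eval_basis_self (v := id) hinj h1s
    · rw [if_neg hg]
      have hne : χ 1 ≠ χ g := by
        intro h
        apply hg
        have h2 : ρ g = 1 := by
          apply Cfsg.Agent.Lib.Helper24.rep_eq_one_of_char_eq_finrank ρ g
          rw [← Representation.char_one ρ]
          exact h.symm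
        apply hfaithful
        rw [h2, map_one]
      exact Lagrange.eval_basis_of_ne (v := id) hne (Finset.mem_image_of_mem χ (Finset.mem_univ g))
  -- the sum computed in two ways
  have hsum1 : ∑ g : G, P.eval (χ g) * (starRingEnd ℂ) (ψ g) = (starRingEnd ℂ) (ψ 1) := by
    simp_rw [hPeval]
    rw [Finset.sum_eq_single 1]
    · rw [if_pos rfl, one_mul]
    · intro b _ hb; rw [if_neg hb, zero_mul]
    · intro h; exact absurd (Finset.mem_univ _) h
  have hsum2 : ∑ g : G, P.eval (χ g) * (starRingEnd ℂ) (ψ g) = 0 := by
    simp_rw [Polynomial.eval_eq_sum_range, Finset.sum_mul]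
    rw [Finset.sum_comm]
    apply Finset.sum_eq_zero
    intro i hi
    have hi' : i < s.card := by
      have := Finset.mem_range.mp hi
      omega
    have h0 := hcon i hi'
    unfold Cfsg.classInner at h0
    have hne : (Nat.card G : ℂ)⁻¹ ≠ 0 := inv_ne_zero Cfsg.Agent.CharLib.card_ne_zero_complex
    have h0' := (mul_eq_zero.mp h0).resolve_left hne
    simp_rw [mul_assoc]
    rw [← Finset.mul_sum, h0', mul_zero]
  rw [hsum1] at hsum2
  have hψ1 : ψ 1 = 0 := by
    have := congrArg (starRingEnd ℂ) hsum2
    rwa [Complex.conj_conj, map_zero] at this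
  obtain ⟨k, hk, hk1⟩ := Cfsg.Agent.CharLib.IsIrrCharacter.apply_one_pos hψ
  rw [hk1] at hψ1
  have : k = 0 := by exact_mod_cast hψ1
  omega

end Cfsg.Agent.S0168
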