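import Cfsg.Statements.S0181
import Mathlib

set_option autoImplicit false
open Cfsg

namespace Cfsg.Agent.S0181

/-- Let H be a normal subgroup of a finite group G and ρ an irreducible complex representation whose kernel does not contain H. If g commutes with no non-identity element of H, then the character of ρ vanishes at g. -/
theorem result {G : Type*} [Group G] [Finite G] {V : Type*} [AddCommGroup V] [Module ℂ V] [FiniteDimensional ℂ V] (ρ : Representation ℂ G V) [ρ.IsIrreducible] (H : Subgroup G) [H.Normal] (hker : ∃ h ∈ H, ρ h ≠ LinearMap.id) (g : G) (hg : ∀ h ∈ H, h * g = g * h → h = 1) : ρ.character g = 0 := by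
  classical
  have : Fintype H := Fintype.ofFinite H
  -- the operator E = ∑_{h ∈ H} ρ h
  let E : V →ₗ[ℂ] V := ∑ h : H, ρ (h : G)
  -- E has image in the H-invariants, which form a subrepresentation
  let S : Subrepresentation ρ :=
    { toSubmodule :=
        { carrier := {v | ∀ h ∈ H, ρ h v = v}
          zero_mem' := by intro h _; simp
          add_mem' := by
            intro a b ha hb h hh
            rw [map_add, ha h hh, hb h hh]
          smul_mem' := by
            intro c a ha h hh
            rw [map_smul, ha h hh] }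
      apply_mem_toSubmodule := by
        intro k v hv h hh
        have hk : k⁻¹ * h * k ∈ H := by
          have := Subgroup.Normal.conj_mem inferInstance h hh k⁻¹
          simpa using this
        have h1 : h * k = k * (k⁻¹ * h * k) := by group
        calc ρ h (ρ k v) = ρ (h * k) v := by rw [map_mul, Module.End.mul_apply]
          _ = ρ (k * (k⁻¹ * h * k)) v := by rw [h1]
          _ = ρ k (ρ (k⁻¹ * h * k) v) := by rw [map_mul, Module.End.mul_apply]
          _ = ρ k v := by rw [hv _ hk] }
  have hSbot : S = ⊥ := by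
    rcases eq_bot_or_eq_top S with h' | h'
    · exact h'
    · exfalso
      obtain ⟨h, hh, hne⟩ := hker
      apply hne
      refine LinearMap.ext fun v => ?_
      have hv : v ∈ S := by rw [h']; trivial
      exact hv h hh
  have hE : E = 0 := by
    refine LinearMap.ext fun v => ?_
    have hmem : E v ∈ S := by
      intro h hh
      show ρ h (E v) = E v
      simp only [E, LinearMap.sum_apply, map_sum]
      rw [← Equiv.sum_comp (Equiv.mulLeft (⟨h, hh⟩ : H)) (fun x : H => ρ (x : G) v)]
      apply Finset.sum_congr rfl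
      intro x _
      simp only [Equiv.coe_mulLeft, Subgroup.coe_mul]
      rw [map_mul, Module.End.mul_apply]
    rw [hSbot] at hmem
    exact hmem
  -- the bijection h ↦ h g h⁻¹ g⁻¹ of H
  have hφmem : ∀ h : H, (h : G) * g * (h : G)⁻¹ * g⁻¹ ∈ H := by
    intro h
    have h1 : g * (h : G)⁻¹ * g⁻¹ ∈ H := Subgroup.Normal.conj_mem inferInstance _ (H.inv_mem h.2) g
    have : (h : G) * g * (h : G)⁻¹ * g⁻¹ = (h : G) * (g * (h : G)⁻¹ * g⁻¹) := by group
    rw [this]
    exact H.mul_mem h.2 h1
  let φ : H → H := fun h => ⟨(h : G) * g * (h : G)⁻¹ * g⁻¹, hφmem h⟩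
  have hφinj : Function.Injective φ := by
    intro h k hhk
    have h1 : (h : G) * g * (h : G)⁻¹ * g⁻¹ = (k : G) * g * (k : G)⁻¹ * g⁻¹ := congrArg Subtype.val hhk
    have h2 : (h : G) * g * (h : G)⁻¹ = (k : G) * g * (k : G)⁻¹ := mul_right_cancel h1
    have h3 : ((k : G)⁻¹ * (h : G)) * g = g * ((k : G)⁻¹ * (h : G)) := by
      have : g = (k : G)⁻¹ * ((k : G) * g * (k : G)⁻¹) * (k : G) := by group
      calc ((k : G)⁻¹ * (h : G)) * g = (k : G)⁻¹ * ((h : G) * g * (h : G)⁻¹) * (h : G) := by group
        _ = (k : G)⁻¹ * ((k : G) * g * (k : G)⁻¹) * (h : G) := by rw [h2]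
        _ = g * ((k : G)⁻¹ * (h : G)) := by group
    have h4 := hg _ (H.mul_mem (H.inv_mem k.2) h.2) h3
    apply Subtype.ext
    have : (h : G) = (k : G) * ((k : G)⁻¹ * (h : G)) := by group
    rw [this, h4, mul_one]
  have hφbij : Function.Bijective φ := Finite.injective_iff_bijective.mp hφinj
  have hsum : ∑ h : H, ρ ((h : G) * g * (h : G)⁻¹) = E * ρ g := by
    have h1 : ∀ h : H, ρ ((h : G) * g * (h : G)⁻¹) = ρ ((φ h : H) : G) * ρ g := by
      intro h
      rw [← map_mul]
      congr 1
      show _ = (h : G) * g * (h : G)⁻¹ * g⁻¹ * g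
      group
    simp_rw [h1]
    rw [← Finset.sum_mul]
    congr 1
    exact Equiv.sum_comp (Equiv.ofBijective φ hφbij) (fun x : H => ρ (x : G))
  rw [hE, zero_mul] at hsum
  have htr := congrArg (LinearMap.trace ℂ V) hsum
  rw [map_sum, map_zero] at htr
  have h2 : ∀ h : H, LinearMap.trace ℂ V (ρ ((h : G) * g * (h : G)⁻¹)) = ρ.character g := by
    intro h
    exact Representation.char_conj ρ g h
  simp_rw [h2] at htr
  rw [Finset.sum_const, Finset.card_univ, nsmul_eq_mul] at htr
  rcases mul_eq_zero.mp htr with h0 | h0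
  · exfalso
    have : (Fintype.card H : ℂ) ≠ 0 := by
      exact_mod_cast Fintype.card_ne_zero
    exact this h0
  · exact h0

end Cfsg.Agent.S0181
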