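import Cfsg.Statements.S0184
import Mathlib
import Cfsg.Agent.Lib.Lead.CharInd
import Cfsg.Agent.Lib.Helper6.CentralHom
import Cfsg.Agent.Lib.Helper6.LinChar
import Cfsg.Agent.Lib.Helper6.CliffordCorr
import Cfsg.Agent.Lib.Helper6.CharExtra
import Cfsg.Agent.Lib.Helper12.Basic
import Cfsg.Agent.Lib.Helper24.Deflation

set_option autoImplicit false
open Cfsg

namespace Cfsg.Agent.S0184

open Cfsg Cfsg.Agent.CharLib Cfsg.Agent.Lib.Helper6 Cfsg.Agent.Lib.Helper24 in
/-- forward direction: faithful irreducible gives cyclic centre -/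
theorem cyclic_center_of_faithful {G : Type*} [Group G] [Finite G] (n : ℕ)
    (ρ : Representation ℂ G (Fin n → ℂ)) (hirr : ρ.IsIrreducible) (hinj : Function.Injective ρ) :
    IsCyclic (Subgroup.center G) := by
  classical
  have hχ : IsIrrCharacter G ρ.character := ⟨n, ρ, hirr, rfl⟩
  obtain ⟨c, hc, hcn⟩ := IsIrrCharacter.exists_central_hom hχ
  apply isCyclic_of_injective_ringHom c
  intro z w hzw
  have h1 : c (z * w⁻¹) = 1 := by
    rw [map_mul, hzw, ← map_mul, mul_inv_cancel, map_one]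
  have h2 : ρ.character ((z * w⁻¹ : Subgroup.center G) : G) = (Module.finrank ℂ (Fin n → ℂ) : ℂ) := by
    have := hc (z * w⁻¹) 1
    rw [mul_one, h1, one_mul, Representation.char_one] at this
    exact this
  have h3 := rep_eq_one_of_char_eq_finrank ρ _ h2
  have h4 : ((z * w⁻¹ : Subgroup.center G) : G) = 1 := by
    apply hinj
    rw [h3, map_one]
  have h5 : z * w⁻¹ = 1 := Subtype.ext h4
  exact mul_inv_eq_one.mp h5

open Cfsg Cfsg.Agent.CharLib Cfsg.Agent.Lib.Helper6 Cfsg.Agent.Lib.Helper24 in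
/-- a finite cyclic group has a faithful linear character -/
theorem exists_faithful_linear {Z : Type*} [Group Z] [Finite Z] [IsCyclic Z] :
    ∃ lam : Z →* ℂˣ, Function.Injective lam := by
  have hpos : 0 < Nat.card Z := Nat.card_pos
  have : NeZero (Nat.card Z) := ⟨hpos.ne'⟩
  have hcard : Nat.card Z = Nat.card (rootsOfUnity (Nat.card Z) ℂ) :=
    (Complex.card_rootsOfUnity (Nat.card Z)).symm
  let e : Z ≃* rootsOfUnity (Nat.card Z) ℂ := mulEquivOfCyclicCardEq hcard
  refine ⟨(rootsOfUnity (Nat.card Z) ℂ).subtype.comp e.toMonoidHom, ?_⟩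
  intro a b hab
  apply e.injective
  exact Subtype.ext hab

open Cfsg Cfsg.Agent.CharLib Cfsg.Agent.Lib.Helper6 Cfsg.Agent.Lib.Helper24 in
/-- backward direction -/
theorem faithful_of_cyclic_center {G : Type*} [Group G] [Finite G] (p : ℕ) [Fact p.Prime]
    (hG : IsPGroup p G) (hcyc : IsCyclic (Subgroup.center G)) :
    ∃ (n : ℕ) (ρ : Representation ℂ G (Fin n → ℂ)), ρ.IsIrreducible ∧ Function.Injective ρ := by
  classical
  have : Fintype G := Fintype.ofFinite G
  have : Fintype (Subgroup.center G) := Fintype.ofFinite _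
  obtain ⟨lam, hlam⟩ := exists_faithful_linear (Z := Subgroup.center G)
  set lamf : Subgroup.center G → ℂ := fun z => ((lam z : ℂˣ) : ℂ) with hlamf
  have hlam_irr : IsIrrCharacter (Subgroup.center G) lamf := isIrrCharacter_of_hom lam
  have hΦ : IsCharacter G (indFun (Subgroup.center G) lamf) :=
    IsCharacter.indFun _ (IsIrrCharacter.isCharacter hlam_irr)
  have hΦ0 : indFun (Subgroup.center G) lamf ≠ 0 := by
    intro h
    have h1 := congrFun h 1
    rw [indFun_apply_one] at h1
    have hl1 : lamf 1 = 1 := by simp [hlamf]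
    rw [hl1, mul_one, Pi.zero_apply] at h1
    have hZ : (Nat.card (Subgroup.center G) : ℂ) ≠ 0 := by
      exact_mod_cast (Nat.card_pos (α := Subgroup.center G)).ne'
    have hGne : (Nat.card G : ℂ) ≠ 0 := by
      exact_mod_cast (Nat.card_pos (α := G)).ne'
    exact (mul_ne_zero (inv_ne_zero hZ) hGne) h1
  obtain ⟨χ, hχ, hne⟩ := IsCharacter.exists_constituent hΦ hΦ0
  rw [frobenius_reciprocity _ _ (IsCharacter.isClassFunction (IsIrrCharacter.isCharacter hχ))] at hne
  obtain ⟨c, hc, hcn⟩ := IsIrrCharacter.exists_central_hom hχ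
  -- χ restricted to the centre is χ(1) • c
  have hres : (fun z : Subgroup.center G => χ z) = (χ 1) • (fun z => c z) := by
    funext z
    have := hc z 1
    rw [mul_one] at this
    rw [this, Pi.smul_apply, smul_eq_mul, mul_comm]
  rw [hres, classInner_smul_right] at hne
  have hne2 : classInner lamf (fun z => c z) ≠ 0 := fun h => hne (by rw [h, mul_zero])
  -- c is an irreducible character of the centre
  have hcu : ∀ z : Subgroup.center G, c z ≠ 0 := by
    intro z h
    have := hcn z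
    rw [h, norm_zero] at this
    exact zero_ne_one this
  have hc_irr : IsIrrCharacter (Subgroup.center G) (fun z => c z) := by
    have := isIrrCharacter_of_hom c.toHomUnits
    convert this using 1
    funext z
    exact (MonoidHom.coe_toHomUnits c z).symm
  rw [classInner_irr hlam_irr hc_irr] at hne2
  have heq : lamf = fun z => c z := by
    by_contra h
    rw [if_neg h] at hne2
    exact hne2 rfl
  -- now take a representation affording χ
  obtain ⟨n, ρ, hirr, hρ⟩ := hχ
  refine ⟨n, ρ, hirr, ?_⟩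
  have hirr' : ρ.IsIrreducible := hirr
  -- the kernel is trivial
  by_contra hninj
  have hker : (MonoidHom.ker (ρ : G →* ((Fin n → ℂ) →ₗ[ℂ] (Fin n → ℂ)))) ≠ ⊥ := by
    intro hk
    apply hninj
    intro x y hxy
    have : x⁻¹ * y ∈ MonoidHom.ker (ρ : G →* ((Fin n → ℂ) →ₗ[ℂ] (Fin n → ℂ))) := by
      rw [MonoidHom.mem_ker, map_mul, ← hxy, ← map_mul, inv_mul_cancel, map_one]
    rw [hk, Subgroup.mem_bot] at this
    exact inv_mul_eq_one.mp this
  obtain ⟨x, hxN, hx1, hxZ⟩ := Cfsg.Agent.Lib.Helper12.exists_ne_one_mem_center_of_normal hG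
    (MonoidHom.ker (ρ : G →* ((Fin n → ℂ) →ₗ[ℂ] (Fin n → ℂ)))) hker
  have hρx : ρ x = 1 := hxN
  have hχx : χ x = χ 1 := by
    rw [← hρ]
    unfold Representation.character
    rw [hρx, ← map_one ρ]
  have hcx := hc ⟨x, hxZ⟩ 1
  rw [mul_one] at hcx
  have hχ1 : χ 1 ≠ 0 := by
    obtain ⟨k, hk, hk1⟩ := IsIrrCharacter.apply_one_pos (⟨n, ρ, hirr, hρ⟩ : IsIrrCharacter G χ)
    rw [hk1]
    exact_mod_cast hk.ne'
  have hc1 : c ⟨x, hxZ⟩ = 1 := by
    have h2 : χ 1 = c ⟨x, hxZ⟩ * χ 1 := by rw [← hcx]; exact hχx.symm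
    have h3 : (1 : ℂ) * χ 1 = c ⟨x, hxZ⟩ * χ 1 := by rw [one_mul]; exact h2
    exact (mul_right_cancel₀ hχ1 h3).symm
  have hl1 : lamf ⟨x, hxZ⟩ = 1 := by rw [heq]; exact hc1
  have hl2 : lam ⟨x, hxZ⟩ = 1 := by
    apply Units.ext
    exact hl1
  have : (⟨x, hxZ⟩ : Subgroup.center G) = 1 := hlam (by rw [hl2, map_one])
  exact hx1 (congrArg Subtype.val this)


/-- A finite p-group admits a faithful irreducible complex representation if and only if its centre is cyclic. -/
theorem result {G : Type*} [Group G] [Finite G] (p : ℕ) [Fact p.Prime] (hG : IsPGroup p G) : (∃ (n : ℕ) (ρ : Representation ℂ G (Fin n → ℂ)), ρ.IsIrreducible ∧ Function.Injective ρ) ↔ IsCyclic (Subgroup.center G) := by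
  constructor
  · rintro ⟨n, ρ, hirr, hinj⟩
    exact cyclic_center_of_faithful n ρ hirr hinj
  · intro hcyc
    exact faithful_of_cyclic_center p hG hcyc

end Cfsg.Agent.S0184
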