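import Cfsg.Statements.S0192
import Mathlib

set_option autoImplicit false
open Cfsg

namespace Cfsg.Agent.S0192

theorem classInner_one_eq_finrank {G : Type*} [Group G] {n : ℕ}
    (ρ : Representation ℂ G (Fin n → ℂ)) (H : Subgroup G) [Fintype H] :
    Cfsg.classInner (fun x : H => ρ.character x) (fun _ => 1) =
      (Module.finrank ℂ (Representation.invariants (ρ.comp H.subtype)) : ℂ) := by
  have hne : (Nat.card H : ℂ) ≠ 0 := by
    have : 0 < Nat.card H := Nat.card_pos
    exact_mod_cast this.ne'
  have : Invertible (Nat.card H : ℂ) := invertibleOfNonzero hne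
  rw [← Representation.card_inv_mul_sum_char_eq_finrank]
  unfold Cfsg.classInner
  simp only [map_one, mul_one]
  rfl

theorem char_eq_one_of_trivial {G : Type*} [Group G] {n : ℕ}
    (ρ : Representation ℂ G (Fin n → ℂ)) [ρ.IsIrreducible] (h : ∀ g, ρ g = 1) :
    ρ.character = fun _ => 1 := by
  classical
  have hnt : Nontrivial (Fin n → ℂ) := by
    by_contra hV
    rw [not_nontrivial_iff_subsingleton] at hV
    have : (⊥ : Subrepresentation ρ) = ⊤ := by
      apply Subrepresentation.toSubmodule_injective
      exact Subsingleton.elim _ _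
    exact bot_ne_top this
  obtain ⟨v, hv⟩ := exists_ne (0 : Fin n → ℂ)
  let S : Subrepresentation ρ :=
    { toSubmodule := Submodule.span ℂ {v}
      apply_mem_toSubmodule := by
        intro g w hw
        rw [h g]
        exact hw }
  have hS : S = ⊤ := by
    rcases eq_bot_or_eq_top S with h' | h'
    · exfalso
      have hvS : v ∈ S := Submodule.mem_span_singleton_self v
      rw [h'] at hvS
      exact hv hvS
    · exact h'
  have hspan : Submodule.span ℂ {v} = ⊤ := congrArg Subrepresentation.toSubmodule hS
  have hfr : Module.finrank ℂ (Fin n → ℂ) = 1 := by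
    rw [← finrank_top ℂ (Fin n → ℂ), ← hspan]
    exact finrank_span_singleton hv
  funext g
  unfold Representation.character
  rw [h g]
  rw [LinearMap.trace_one, hfr]
  simp


/-- Brauer's generation criterion. Let G be a finite simple group, H₁ and H₂ subgroups, and χ a non-principal irreducible character. If the multiplicity of the principal character in χ restricted to H₁ ⊓ H₂ is less than the sum of the corresponding multiplicities for H₁ and H₂, then H₁ and H₂ do not generate G. -/
theorem result {G : Type*} [Group G] [Fintype G] [IsSimpleGroup G] (H₁ H₂ : Subgroup G) [Fintype H₁] [Fintype H₂] [Fintype ↥(H₁ ⊓ H₂)] (χ : G → ℂ) (hχ : Cfsg.IsIrrCharacter G χ) (hχ1 : χ ≠ fun _ => 1) (hlt : (Cfsg.classInner (fun x : ↥(H₁ ⊓ H₂) => χ x) (fun _ => 1)).re < (Cfsg.classInner (fun x : H₁ => χ x) (fun _ => 1)).re + (Cfsg.classInner (fun x : H₂ => χ x) (fun _ => 1)).re) : H₁ ⊔ H₂ ≠ ⊤ := by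
  classical
  obtain ⟨n, ρ, hirr, rfl⟩ := hχ
  intro htop
  rw [classInner_one_eq_finrank ρ H₁, classInner_one_eq_finrank ρ H₂,
    classInner_one_eq_finrank ρ (H₁ ⊓ H₂)] at hlt
  simp only [Complex.natCast_re] at hlt
  -- the three invariant spaces
  set I₁ := Representation.invariants (ρ.comp H₁.subtype) with hI₁
  set I₂ := Representation.invariants (ρ.comp H₂.subtype) with hI₂
  set I₃ := Representation.invariants (ρ.comp (H₁ ⊓ H₂).subtype) with hI₃
  have h13 : I₁ ≤ I₃ := by
    intro v hv
    rw [hI₃, Representation.mem_invariants]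
    intro g
    exact (Representation.mem_invariants _ v).mp hv ⟨g.1, g.2.1⟩
  have h23 : I₂ ≤ I₃ := by
    intro v hv
    rw [hI₃, Representation.mem_invariants]
    intro g
    exact (Representation.mem_invariants _ v).mp hv ⟨g.1, g.2.2⟩
  have hinf : I₁ ⊓ I₂ = ⊥ := by
    rw [eq_bot_iff]
    intro v hv
    obtain ⟨hv1, hv2⟩ := hv
    -- v is fixed by all of G
    have hfix : ∀ g : G, ρ g v = v := by
      let K : Subgroup G :=
        { carrier := {g | ρ g v = v}
          one_mem' := by simp
          mul_mem' := by
            intro a b ha hb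
            show ρ (a * b) v = v
            rw [map_mul, Module.End.mul_apply, hb, ha]
          inv_mem' := by
            intro a ha
            show ρ a⁻¹ v = v
            have : ρ a⁻¹ (ρ a v) = v := by
              rw [← Module.End.mul_apply, ← map_mul, inv_mul_cancel, map_one, Module.End.one_apply]
            rw [ha] at this
            exact this }
      have hK1 : H₁ ≤ K := fun g hg => (Representation.mem_invariants _ v).mp hv1 ⟨g, hg⟩
      have hK2 : H₂ ≤ K := fun g hg => (Representation.mem_invariants _ v).mp hv2 ⟨g, hg⟩
      have : K = ⊤ := top_le_iff.mp (htop ▸ sup_le hK1 hK2)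
      intro g
      have hg : g ∈ K := by rw [this]; trivial
      exact hg
    -- invariants of G form a subrepresentation
    let S : Subrepresentation ρ :=
      { toSubmodule := Representation.invariants ρ
        apply_mem_toSubmodule := by
          intro g w hw
          rw [(Representation.mem_invariants _ w).mp hw g]
          exact hw }
    rcases eq_bot_or_eq_top S with h' | h'
    · have hvS : v ∈ S := (Representation.mem_invariants _ v).mpr hfix
      rw [h'] at hvS
      exact hvS
    · exfalso
      apply hχ1
      apply char_eq_one_of_trivial ρ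
      intro g
      refine LinearMap.ext fun w => ?_
      have hw : w ∈ S := by rw [h']; trivial
      exact (Representation.mem_invariants _ w).mp hw g
  have hdim := Submodule.finrank_sup_add_finrank_inf_eq I₁ I₂
  rw [hinf, finrank_bot, add_zero] at hdim
  have hle : Module.finrank ℂ ↥(I₁ ⊔ I₂) ≤ Module.finrank ℂ ↥I₃ :=
    Submodule.finrank_mono (sup_le h13 h23)
  have : (Module.finrank ℂ ↥I₁ + Module.finrank ℂ ↥I₂ : ℝ) ≤ Module.finrank ℂ ↥I₃ := by
    exact_mod_cast hdim ▸ hle
  linarith

end Cfsg.Agent.S0192
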