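import Cfsg.Statements.S0193
-- import your own Cfsg.Agent.* helpers here

import Mathlib
import Cfsg.Agent.Lib.Helper6.Clifford

set_option autoImplicit false
open Cfsg

namespace Cfsg.Agent.S0193

open Cfsg.Agent.Lib.Helper6 Cfsg.Agent.CharLib
open scoped ComplexConjugate

/-- Let H be a normal subgroup of a finite group G and θ an irreducible character of H. Then |H| times the inner product of the induced function of θ with itself equals the number of g in G with θ(g h g⁻¹) = θ(h) for all h in H; in particular the induced character is irreducible when only elements of H stabilise θ. -/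
theorem result {G : Type*} [Group G] [Fintype G] (H : Subgroup G) [hN : H.Normal] (θ : H → ℂ) (hθ : Cfsg.IsIrrCharacter H θ) : (Nat.card H : ℂ) * Cfsg.classInner (Cfsg.indFun H θ) (Cfsg.indFun H θ) = (Nat.card {g : G // ∀ h : H, θ ⟨g * h * g⁻¹, hN.conj_mem h h.2 g⟩ = θ h} : ℂ) := by
  classical
  let _ : Fintype H := Fintype.ofFinite H
  have hH0 : (Nat.card H : ℂ) ≠ 0 := Nat.cast_ne_zero.mpr Nat.card_pos.ne'
  rw [card_stab_eq, frobenius_reciprocity H θ (indFun_isClassFunction H θ), ← classInner_conj_symm]
  change (Nat.card H : ℂ) * conj (classInner (resFun H (indFun H θ)) θ) = _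
  rw [classInner_resFun_indFun]
  have hterm : ∀ x : G, classInner (conjFun H x θ) θ = if conjFun H x θ = θ then 1 else 0 :=
    fun x => classInner_irr (isIrrCharacter_conjFun H hθ x) hθ
  rw [Finset.sum_congr rfl (fun x _ => hterm x), Finset.sum_boole, map_mul, map_inv₀,
    Complex.conj_natCast, Complex.conj_natCast, ← mul_assoc, mul_inv_cancel₀ hH0, one_mul]
  congr 1
  rw [Nat.card_eq_fintype_card, Fintype.card_subtype]

end Cfsg.Agent.S0193
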