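import Cfsg.Statements.S0194
import Mathlib
import Cfsg.Agent.Lib.Lead.CharInd
import Cfsg.Agent.Lib.Lead.FrobSchur
import Cfsg.Agent.Lib.Lead.CharFS
import Cfsg.Agent.Lib.Helper6.Clifford

set_option autoImplicit false
open scoped ComplexConjugate
open Cfsg

namespace Cfsg.Agent.S0194

open Cfsg Cfsg.Agent.CharLib Cfsg.Agent.Lib.Helper6 in
theorem conjFun_pow_fix {G : Type*} [Group G] (H : Subgroup G) [H.Normal] (θ : H → ℂ) (g : G)
    (hg : conjFun H g θ = θ) (m : ℕ) : conjFun H (g ^ m) θ = θ := by
  induction m with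
  | zero => rw [pow_zero, conjFun_one]
  | succ k ih => rw [pow_succ, conjFun_mul, ih, hg]


/-- Let G have odd order, H be a normal subgroup and θ a non-principal irreducible character of H. Then the function induced from θ is orthogonal to its complex conjugate. -/
theorem result {G : Type*} [Group G] [Fintype G] (hodd : Odd (Nat.card G)) (H : Subgroup G) [H.Normal] (θ : H → ℂ) (hθ : Cfsg.IsIrrCharacter H θ) (hθ1 : θ ≠ fun _ => 1) : Cfsg.classInner (fun g => conj (Cfsg.indFun H θ g)) (Cfsg.indFun H θ) = 0 := by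
  classical
  have hFH : Fintype H := Fintype.ofFinite H
  have hθc_irr : Cfsg.IsIrrCharacter H (fun h => conj (θ h)) :=
    Cfsg.Agent.CharLib.IsIrrCharacter.conj' hθ
  -- conjugate of induced = induced of conjugate
  have hA : (fun g => conj (Cfsg.indFun H θ g)) = Cfsg.indFun H (fun h => conj (θ h)) := by
    funext g
    simp only [Cfsg.indFun]
    rw [map_mul, map_inv₀, Complex.conj_natCast, map_sum]
    congr 1
    apply Finset.sum_congr rfl
    intro x _
    by_cases hx : x⁻¹ * g * x ∈ H
    · have e : x⁻¹ * g * x = ((⟨_, hx⟩ : H) : G) := rfl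
      rw [e, Cfsg.Agent.CharLib.extendByZero_apply_coe, Cfsg.Agent.CharLib.extendByZero_apply_coe]
    · rw [Cfsg.Agent.CharLib.extendByZero_apply_of_not_mem _ _ hx,
        Cfsg.Agent.CharLib.extendByZero_apply_of_not_mem _ _ hx, map_zero]
  rw [hA, Cfsg.Agent.CharLib.frobenius_reciprocity H _
    (Cfsg.Agent.CharLib.indFun_isClassFunction H θ)]
  rw [← Cfsg.Agent.CharLib.classInner_conj_symm]
  have hoddH : Odd (Nat.card H) := by
    have hd : Nat.card H ∣ Nat.card G := Subgroup.card_subgroup_dvd_card H
    exact Odd.of_dvd_nat hodd hd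
  have key : Cfsg.classInner (Cfsg.Agent.Lib.Helper6.resFun H (Cfsg.indFun H θ))
      (fun h => conj (θ h)) = 0 := by
    rw [Cfsg.Agent.Lib.Helper6.classInner_resFun_indFun]
    have hz : ∀ x : G, Cfsg.classInner (Cfsg.Agent.Lib.Helper6.conjFun H x θ)
        (fun h => conj (θ h)) = 0 := by
      intro x
      rw [Cfsg.Agent.CharLib.classInner_irr
        (Cfsg.Agent.Lib.Helper6.isIrrCharacter_conjFun H hθ x) hθc_irr, if_neg]
      intro heq
      -- x² stabilises θ
      have h2 : Cfsg.Agent.Lib.Helper6.conjFun H (x * x) θ = θ := by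
        rw [Cfsg.Agent.Lib.Helper6.conjFun_mul, heq]
        funext h
        rw [Cfsg.Agent.Lib.Helper6.conjFun_apply]
        have h3 := congrFun heq h
        rw [Cfsg.Agent.Lib.Helper6.conjFun_apply] at h3
        rw [h3, Complex.conj_conj]
      -- x is a power of x²
      have hox : Odd (orderOf x) := Odd.of_dvd_nat hodd (orderOf_dvd_natCard x)
      obtain ⟨k, hk⟩ := hox
      have hx : x = (x * x) ^ (k + 1) := by
        rw [← pow_two, ← pow_mul]
        have : 2 * (k + 1) = orderOf x + 1 := by omega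
        rw [this, pow_succ, pow_orderOf_eq_one, one_mul]
      have h4 : Cfsg.Agent.Lib.Helper6.conjFun H x θ = θ := by
        conv_lhs => rw [hx]
        exact conjFun_pow_fix H θ (x * x) h2 (k + 1)
      rw [h4] at heq
      -- θ is real, so principal
      have hreal : ∀ h : H, (θ h).im = 0 := by
        intro h
        exact Complex.conj_eq_iff_im.mp (congrFun heq h).symm
      exact hθ1 (Cfsg.Agent.CharLib.eq_one_of_real_of_odd hoddH ⟨θ, hθ⟩ hreal)
    simp only [hz, Finset.sum_const_zero, mul_zero]
  have e : (fun h : H => Cfsg.indFun H θ h) = Cfsg.Agent.Lib.Helper6.resFun H (Cfsg.indFun H θ) := rfl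
  rw [e, key, map_zero]

end Cfsg.Agent.S0194
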