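import Cfsg.Statements.S0196
import Mathlib
import Cfsg.Agent.Lib.Helper2.Count

set_option autoImplicit false
open Cfsg

namespace Cfsg.Agent.S0196

theorem index_dvd_card_of_stabilizer_eq {N X : Type*} [Group N] [MulAction N X] [Finite X]
    (K : Subgroup N) (h : ∀ x : X, MulAction.stabilizer N x = K) : K.index ∣ Nat.card X := by
  classical
  have : Fintype (Quotient (MulAction.orbitRel N X)) := Fintype.ofFinite _
  have e := MulAction.selfEquivSigmaOrbitsQuotientStabilizer N X
  rw [Nat.card_congr e]
  have hfin : ∀ ω : Quotient (MulAction.orbitRel N X),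
      Finite (N ⧸ MulAction.stabilizer N ω.out) := by
    intro ω
    exact Finite.of_equiv _ (MulAction.orbitEquivQuotientStabilizer N ω.out)
  rw [Nat.card_sigma]
  apply Finset.dvd_sum
  intro ω _
  rw [h ω.out]
  exact dvd_refl _

/-- conjugation action of the normalizer on the non-identity elements -/
noncomputable def conjActNe {G : Type*} [Group G] (A : Subgroup G) :
    MulAction (Subgroup.normalizer (A : Set G)) {a : G // a ∈ A ∧ a ≠ 1} where
  smul n a := ⟨n.1 * a.1 * n.1⁻¹, (Subgroup.mem_normalizer_iff.mp n.2 a.1).mp a.2.1, by
    intro h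
    apply a.2.2
    have : a.1 = n.1⁻¹ * (n.1 * a.1 * n.1⁻¹) * n.1 := by group
    rw [this, h]; group⟩
  one_smul a := by
    ext
    show ((1 : Subgroup.normalizer (A : Set G)) : G) * a.1 * ((1 : Subgroup.normalizer (A : Set G)) : G)⁻¹ = a.1
    simp
  mul_smul m n a := by
    ext
    show ((m * n : Subgroup.normalizer (A : Set G)) : G) * a.1 * ((m * n : Subgroup.normalizer (A : Set G)) : G)⁻¹
      = m.1 * (n.1 * a.1 * n.1⁻¹) * m.1⁻¹
    rw [Subgroup.coe_mul]
    group


/-- Let A be a subgroup of a finite group G that equals the centralizer of each of its non-identity elements, and let N be its normalizer. Then the index of A in N divides |A| − 1 (N/A permutes the non-identity elements of A in orbits of full length). -/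
theorem result {G : Type*} [Group G] [Finite G] (A : Subgroup G) (hA : ∀ x ∈ A, x ≠ 1 → Subgroup.centralizer ({x} : Set G) = A) : (A.subgroupOf (Subgroup.normalizer (A : Set G))).index ∣ Nat.card A - 1 := by
  classical
  letI := conjActNe A
  have hAN : A ≤ Subgroup.normalizer (A : Set G) := Subgroup.le_normalizer
  have hstab : ∀ a : {a : G // a ∈ A ∧ a ≠ 1},
      MulAction.stabilizer (Subgroup.normalizer (A : Set G)) a =
        A.subgroupOf (Subgroup.normalizer (A : Set G)) := by
    intro a
    ext n
    rw [MulAction.mem_stabilizer_iff, Subgroup.mem_subgroupOf]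
    have h1 : n • a = a ↔ n.1 * a.1 * n.1⁻¹ = a.1 := by
      constructor
      · intro h; exact congrArg Subtype.val h
      · intro h; ext; exact h
    rw [h1, ← Cfsg.Agent.Lib.Helper2.mem_centralizer_singleton, hA a.1 a.2.1 a.2.2]
  have hdvd := index_dvd_card_of_stabilizer_eq _ hstab
  have hcard : Nat.card A = Nat.card {a : G // a ∈ A ∧ a ≠ 1} + 1 := by
    rw [← Finite.card_option]
    apply Nat.card_congr
    exact
      { toFun := fun a => if h : a.1 = 1 then none else some ⟨a.1, a.2, h⟩
        invFun := fun o => match o with
          | none => 1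
          | some a => ⟨a.1, a.2.1⟩
        left_inv := by
          intro a
          by_cases h : a.1 = 1
          · simp only [h, dite_true]; ext; simp [h]
          · simp only [h, dite_false]
        right_inv := by
          intro o
          cases o with
          | none => simp
          | some a => simp [a.2.2] }
  rw [hcard, Nat.add_sub_cancel]
  exact hdvd

end Cfsg.Agent.S0196
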