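import Cfsg.Statements.S0210
import Mathlib
import Cfsg.Agent.Lib.Helper2.Dihedral

set_option autoImplicit false
open Cfsg

namespace Cfsg.Agent.S0210

/-- If x, y are involutions whose product has even order, no element of the subgroup generated by x and y conjugates x to y. -/
theorem result {G : Type*} [Group G] [Finite G] (x y : G) (hx : orderOf x = 2) (hy : orderOf y = 2) (heven : Even (orderOf (x * y))) (d : G) (hd : d ∈ Subgroup.closure ({x, y} : Set G)) : d * x * d⁻¹ ≠ y := by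
  have hx2 := Cfsg.Agent.Lib.Helper2.invol_mul_self hx
  have hy2 := Cfsg.Agent.Lib.Helper2.invol_mul_self hy
  obtain ⟨a, ha⟩ := Cfsg.Agent.Lib.Helper2.dih_conj_x hx2 hy2 d hd
  intro h
  rw [ha] at h
  have hy' := Cfsg.Agent.Lib.Helper2.dih_y_eq' hx2 hy2
  have h0 : (x * y) ^ (2 * a) * x = (x * y) ^ (-1 : ℤ) * x := h.trans hy'
  have h1 : (x * y) ^ (2 * a) = (x * y) ^ (-1 : ℤ) := mul_right_cancel h0
  have h2 : (x * y) ^ (2 * a + 1) = 1 := by
    rw [zpow_add, h1, zpow_neg, zpow_one, inv_mul_cancel]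
  have h3 := orderOf_dvd_iff_zpow_eq_one.mpr h2
  obtain ⟨k, hk⟩ := heven
  have h4 : (2 : ℤ) ∣ 2 * a + 1 := by
    refine dvd_trans ?_ h3
    rw [hk]; push_cast; exact ⟨k, by ring⟩
  omega

end Cfsg.Agent.S0210
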