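import Cfsg.Statements.S0211
import Mathlib
import Cfsg.Agent.Lib.Helper2.Dihedral

set_option autoImplicit false
open Cfsg

namespace Cfsg.Agent.S0211

/-- Let x, y be involutions with xy of even order n and z = (xy)^(n/2). Then xz is conjugate to x by an element of the subgroup generated by x, y if and only if 4 divides n. -/
theorem result {G : Type*} [Group G] [Finite G] (x y : G) (hx : orderOf x = 2) (hy : orderOf y = 2) (heven : Even (orderOf (x * y))) : (∃ d ∈ Subgroup.closure ({x, y} : Set G), d * x * d⁻¹ = x * (x * y) ^ (orderOf (x * y) / 2)) ↔ 4 ∣ orderOf (x * y) := by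
  have hx2 := Cfsg.Agent.Lib.Helper2.invol_mul_self hx
  have hy2 := Cfsg.Agent.Lib.Helper2.invol_mul_self hy
  have hxm : x ∈ Subgroup.closure ({x, y} : Set G) := Subgroup.subset_closure (by simp)
  have hym : y ∈ Subgroup.closure ({x, y} : Set G) := Subgroup.subset_closure (by simp)
  obtain ⟨k, hk⟩ := heven
  have hn2 : orderOf (x * y) / 2 = k := by omega
  rw [hn2]
  have hxk : x * (x * y) ^ k = (x * y) ^ (-(k : ℤ)) * x := by
    rw [← zpow_natCast]; exact Cfsg.Agent.Lib.Helper2.dih_x_mul_zpow hx2 hy2 k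
  rw [hxk]
  constructor
  · rintro ⟨d, hd, h⟩
    obtain ⟨a, ha⟩ := Cfsg.Agent.Lib.Helper2.dih_conj_x hx2 hy2 d hd
    rw [ha] at h
    have h1 : (x * y) ^ (2 * a) = (x * y) ^ (-(k : ℤ)) := mul_right_cancel h
    have h2 : (x * y) ^ (2 * a + k) = 1 := by
      rw [zpow_add, h1, zpow_neg, inv_mul_cancel]
    have h3 := orderOf_dvd_iff_zpow_eq_one.mpr h2
    rw [hk] at h3 ⊢
    push_cast at h3
    obtain ⟨c, hc⟩ := h3
    have : (2 : ℤ) ∣ k := ⟨c * k - a, by linarith⟩
    have : 2 ∣ k := by exact_mod_cast this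
    omega
  · intro h4
    obtain ⟨m, hm⟩ := h4
    have hkm : k = 2 * m := by omega
    refine ⟨(x * y) ^ (-(m : ℤ)), Subgroup.zpow_mem _ (Subgroup.mul_mem _ hxm hym) _, ?_⟩
    rw [Cfsg.Agent.Lib.Helper2.dih_rot_conj_x hx2 hy2, hkm]
    congr 2
    push_cast; ring

end Cfsg.Agent.S0211
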