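import Cfsg.Statements.S0214
import Mathlib
import Cfsg.Agent.Lib.Helper2.SylowSub

set_option autoImplicit false
open Cfsg

namespace Cfsg.Agent.S0214

open Cfsg.Agent.Lib.Helper2


/-- Let H be a proper subgroup of the finite group G and P a nontrivial Sylow 2-subgroup of H. Then H is strongly embedded in G if and only if N_G(X) ≤ H for every nontrivial subgroup X of P. -/
theorem result {G : Type*} [Group G] [Finite G] (H : Subgroup G) (hH : H ≠ ⊤) (P : Sylow 2 ↥H) (hP : (P : Subgroup ↥H) ≠ ⊥) : Cfsg.IsStronglyEmbedded H ↔ (∀ X : Subgroup ↥H, X ≤ (P : Subgroup ↥H) → X ≠ ⊥ → Subgroup.normalizer ((X.map H.subtype : Subgroup G) : Set G) ≤ H) := by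
  have hF : Fact (Nat.Prime 2) := ⟨Nat.prime_two⟩
  rw [stronglyEmbedded_iff]
  set P' := (P : Subgroup H).map H.subtype with hP'
  have hP'H : P' ≤ H := Subgroup.map_subtype_le _
  have hP'p : IsPGroup 2 P' := P.isPGroup'.map _
  have hP'ne : P' ≠ ⊥ := by
    intro h
    apply hP
    rw [hP', Subgroup.map_eq_bot_iff_of_injective _ (Subgroup.subtype_injective H)] at h
    exact h
  -- helper: a nontrivial 2-subgroup has an involution
  have hinv : ∀ Q : Subgroup G, IsPGroup 2 Q → Q ≠ ⊥ → ∃ t ∈ Q, orderOf t = 2 := by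
    intro Q hQ hne
    rw [← even_card_iff_exists_invol]
    obtain ⟨k, hk⟩ := IsPGroup.iff_card.mp hQ
    have hk0 : k ≠ 0 := by
      rintro rfl
      rw [pow_zero] at hk
      exact hne (Subgroup.card_eq_one.mp hk)
    rw [hk]; exact Nat.even_pow.mpr ⟨even_two, hk0⟩
  constructor
  · rintro ⟨_, _, h3⟩ X hXP hXne g hg
    have hX'p : IsPGroup 2 (X.map H.subtype) := (P.isPGroup'.to_le hXP).map _
    have hX'ne : X.map H.subtype ≠ ⊥ := by
      intro h
      apply hXne
      rwa [Subgroup.map_eq_bot_iff_of_injective _ (Subgroup.subtype_injective H)] at h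
    obtain ⟨t, htX, ht2⟩ := hinv _ hX'p hX'ne
    have htH : t ∈ H := Subgroup.map_subtype_le _ htX
    have hgt : g * t * g⁻¹ ∈ X.map H.subtype := (Subgroup.mem_normalizer_iff.mp hg t).mp htX
    exact h3 g t htH ht2 (Subgroup.map_subtype_le _ hgt)
  · intro hN
    -- hypothesis for subgroups of G inside P'
    have hN' : ∀ X₀ : Subgroup G, X₀ ≤ P' → X₀ ≠ ⊥ → Subgroup.normalizer (X₀ : Set G) ≤ H := by
      intro X₀ hle hne
      have hX₀H : X₀ ≤ H := hle.trans hP'H
      have h1 : (X₀.subgroupOf H).map H.subtype = X₀ := by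
        rw [Subgroup.subgroupOf_map_subtype, inf_eq_left.mpr hX₀H]
      have h2 := hN (X₀.subgroupOf H) (by
        intro y hy
        rw [Subgroup.mem_subgroupOf] at hy
        obtain ⟨p, hp, hpy⟩ := hle hy
        have : p = y := Subtype.ext hpy
        rw [← this]; exact hp) (by
        intro h
        apply hne
        rw [← h1, h, Subgroup.map_bot])
      rwa [h1] at h2
    -- normalizers of nontrivial 2-subgroups of H lie in H
    have hNQ : ∀ Q : Subgroup G, Q ≤ H → IsPGroup 2 Q → Q ≠ ⊥ →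
        Subgroup.normalizer (Q : Set G) ≤ H := by
      intro Q hQH hQ hQne
      obtain ⟨h, hhH, hle⟩ := sylow_sub_conj H P Q hQH hQ
      have hne : conjSub h Q ≠ ⊥ := by
        intro hb
        apply hQne
        have := card_conjSub h Q
        rw [hb, Subgroup.card_bot] at this
        exact Subgroup.card_eq_one.mp this.symm
      have h3 := hN' _ hle hne
      intro n hn
      have h4 : h * n * h⁻¹ ∈ Subgroup.normalizer (conjSub h Q : Set G) := by
        rw [mem_normalizer_iff_conjSub, conjSub_conjSub]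
        rw [mem_normalizer_iff_conjSub] at hn
        have : h * n * h⁻¹ * h = h * n := by group
        rw [this, ← conjSub_conjSub, hn]
      have h5 := h3 h4
      have : n = h⁻¹ * (h * n * h⁻¹) * h := by group
      rw [this]
      exact H.mul_mem (H.mul_mem (H.inv_mem hhH) h5) hhH
    -- even order
    have heven : Even (Nat.card H) := by
      obtain ⟨t, htP, ht2⟩ := hinv P' hP'p hP'ne
      exact (even_card_iff_exists_invol H).mpr ⟨t, hP'H htP, ht2⟩
    refine ⟨hH, heven, ?_⟩
    intro g t htH ht2 hgt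
    by_contra hgH
    -- D = H ⊓ gHg⁻¹
    have hsD : g * t * g⁻¹ ∈ H ⊓ conjSub g H := Subgroup.mem_inf.mpr ⟨hgt, conj_mem_conjSub htH⟩
    have hs2 := orderOf_conj_two g ht2
    -- Sylow 2-subgroup of D
    obtain ⟨Q₀⟩ : Nonempty (Sylow 2 ↥(H ⊓ conjSub g H)) := inferInstance
    have hQD : (Q₀ : Subgroup ↥(H ⊓ conjSub g H)).map (H ⊓ conjSub g H).subtype ≤ H ⊓ conjSub g H :=
      Subgroup.map_subtype_le _
    have hQp : IsPGroup 2 ((Q₀ : Subgroup ↥(H ⊓ conjSub g H)).map (H ⊓ conjSub g H).subtype) :=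
      Q₀.isPGroup'.map _
    have hQne : (Q₀ : Subgroup ↥(H ⊓ conjSub g H)).map (H ⊓ conjSub g H).subtype ≠ ⊥ := by
      intro hb
      have hcard : Nat.card ((Q₀ : Subgroup ↥(H ⊓ conjSub g H)).map (H ⊓ conjSub g H).subtype) =
          Nat.card (Q₀ : Subgroup ↥(H ⊓ conjSub g H)) :=
        Subgroup.card_map_of_injective (Subgroup.subtype_injective _)
      rw [hb, Subgroup.card_bot, Q₀.card_eq_multiplicity] at hcard
      have hDeven : 2 ∣ Nat.card ↥(H ⊓ conjSub g H) := by
        have := Subgroup.orderOf_dvd_natCard _ hsD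
        rwa [hs2] at this
      have hpos : 0 < (Nat.card ↥(H ⊓ conjSub g H)).factorization 2 :=
        Nat.Prime.factorization_pos_of_dvd Nat.prime_two Nat.card_pos.ne' hDeven
      have : 2 ^ (Nat.card ↥(H ⊓ conjSub g H)).factorization 2 ≥ 2 ^ 1 :=
        Nat.pow_le_pow_right (by norm_num) hpos
      omega
    generalize hQ : (Q₀ : Subgroup ↥(H ⊓ conjSub g H)).map (H ⊓ conjSub g H).subtype = Q
      at hQD hQp hQne
    have hQH : Q ≤ H := hQD.trans inf_le_left
    have hQgH : Q ≤ conjSub g H := hQD.trans inf_le_right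
    -- conjugate Q into P' inside H
    obtain ⟨h, hhH, hhle⟩ := sylow_sub_conj H P Q hQH hQp
    -- conjugate g⁻¹Qg into P' inside H
    have hQg : conjSub g⁻¹ Q ≤ H := by
      intro x hx
      rw [mem_conjSub, inv_inv] at hx
      have := hQgH hx
      rw [mem_conjSub] at this
      have e : g⁻¹ * (g * x * g⁻¹) * g = x := by group
      rwa [e] at this
    obtain ⟨k, hkH, hkle⟩ := sylow_sub_conj H P (conjSub g⁻¹ Q) hQg (isPGroup_conjSub _ hQp)
    rw [conjSub_conjSub] at hkle
    -- P₂ = (g k⁻¹) P' (g k⁻¹)⁻¹ contains Q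
    have hQP₂ : Q ≤ conjSub (g * k⁻¹) P' := by
      have := conjSub_mono (g := g * k⁻¹) hkle
      rw [conjSub_conjSub] at this
      have e : g * k⁻¹ * (k * g⁻¹) = 1 := by group
      rw [e, conjSub_one] at this
      exact this
    have hP₂p : IsPGroup 2 (conjSub (g * k⁻¹) P') := isPGroup_conjSub _ hP'p
    have hP₂gH : conjSub (g * k⁻¹) P' ≤ conjSub g H := by
      rw [← conjSub_conjSub]
      apply conjSub_mono
      calc conjSub k⁻¹ P' ≤ conjSub k⁻¹ H := conjSub_mono hP'H
        _ = H := conjSub_of_mem (H.inv_mem hkH)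
    rcases lt_or_eq_of_le hQP₂ with hlt | heq
    · -- normalizer grows
      generalize hP₂ : conjSub (g * k⁻¹) P' = P₂ at hQP₂ hP₂p hP₂gH hlt
      have hnil : Group.IsNilpotent P₂ := hP₂p.isNilpotent
      have hnc := Group.normalizerCondition_of_isNilpotent (G := P₂)
      have hlt' : Q.subgroupOf P₂ < ⊤ := by
        rw [lt_top_iff_ne_top]
        intro h
        rw [Subgroup.subgroupOf_eq_top] at h
        exact absurd (le_antisymm hQP₂ h) hlt.ne
      obtain ⟨r, hrN, hrQ⟩ := SetLike.exists_of_lt (hnc _ hlt')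
      have hrP₂ : r.1 ∈ P₂ := r.2
      have hrQ' : r.1 ∉ Q := fun h => hrQ (Subgroup.mem_subgroupOf.mpr h)
      have hrNQ : r.1 ∈ Subgroup.normalizer (Q : Set G) := by
        rw [Subgroup.mem_normalizer_iff]
        intro x
        by_cases hx : x ∈ P₂
        · have := (Subgroup.mem_normalizer_iff.mp hrN ⟨x, hx⟩)
          simp only [Subgroup.mem_subgroupOf] at this
          exact this
        · constructor
          · intro hxQ; exact absurd (hQP₂ hxQ) hx
          · intro hxQ
            exfalso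
            apply hx
            have h1 := hQP₂ hxQ
            have : x = r.1⁻¹ * (r.1 * x * r.1⁻¹) * r.1 := by group
            rw [this]
            exact P₂.mul_mem (P₂.mul_mem (P₂.inv_mem hrP₂) h1) hrP₂
      have hRp : IsPGroup 2 ↥(P₂ ⊓ Subgroup.normalizer (Q : Set G)) := hP₂p.to_le inf_le_left
      have hQR : Q ≤ P₂ ⊓ Subgroup.normalizer (Q : Set G) := le_inf hQP₂ Subgroup.le_normalizer
      have hRH : P₂ ⊓ Subgroup.normalizer (Q : Set G) ≤ H :=
        inf_le_right.trans (hNQ Q hQH hQp hQne)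
      have hRD : P₂ ⊓ Subgroup.normalizer (Q : Set G) ≤ H ⊓ conjSub g H :=
        le_inf hRH (inf_le_left.trans hP₂gH)
      have hmax := sylow_sub_maximal (H ⊓ conjSub g H) Q₀ _ hRD hRp (by rw [hQ]; exact hQR)
      rw [hQ] at hmax
      have : r.1 ∈ P₂ ⊓ Subgroup.normalizer (Q : Set G) := Subgroup.mem_inf.mpr ⟨hrP₂, hrNQ⟩
      rw [hmax] at this
      exact hrQ' this
    · -- Q = P₂
      have hc1 : Nat.card Q = Nat.card P' := by rw [heq, card_conjSub]
      have hc2 : conjSub h Q = P' := by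
        apply Subgroup.eq_of_le_of_card_ge hhle
        rw [card_conjSub, hc1]
      rw [heq, conjSub_conjSub] at hc2
      have hn : h * (g * k⁻¹) ∈ Subgroup.normalizer (P' : Set G) :=
        mem_normalizer_iff_conjSub.mpr hc2
      have hnH := hN' P' le_rfl hP'ne hn
      apply hgH
      have : g = h⁻¹ * (h * (g * k⁻¹)) * k := by group
      rw [this]
      exact H.mul_mem (H.mul_mem (H.inv_mem hhH) hnH) hkH

end Cfsg.Agent.S0214
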