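import Cfsg.Statements.S0216
import Mathlib
import Cfsg.Agent.Lib.Helper2.Isolated

set_option autoImplicit false
open Cfsg

namespace Cfsg.Agent.S0216

/-- For an involution u in a Sylow 2-subgroup P of a finite group G, the following are equivalent: no G-conjugate of u other than u lies in P; every commutator of u with an element of G has odd order. -/
theorem result {G : Type*} [Group G] [Finite G] (P : Sylow 2 G) (u : G) (hu : orderOf u = 2) (huP : u ∈ P) : (∀ g : G, g * u * g⁻¹ ∈ P → g * u * g⁻¹ = u) ↔ (∀ g : G, Odd (orderOf (u * g * u⁻¹ * g⁻¹))) := by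
  have hui := Cfsg.Agent.Lib.Helper2.invol_inv hu
  have hcomm : ∀ g : G, u * g * u⁻¹ * g⁻¹ = u * (g * u * g⁻¹) := by
    intro g
    rw [hui]; group
  constructor
  · intro hiso g
    rw [hcomm]
    exact Cfsg.Agent.Lib.Helper2.isolated_odd_order P u hu hiso g
  · intro hodd g hg
    have h1 := hodd g
    rw [hcomm] at h1
    have hmem : u * (g * u * g⁻¹) ∈ (P : Subgroup G) := (P : Subgroup G).mul_mem huP hg
    -- order is a power of 2
    obtain ⟨k, hk⟩ := (IsPGroup.iff_orderOf.mp P.isPGroup') ⟨_, hmem⟩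
    rw [Subgroup.orderOf_mk] at hk
    have hk0 : k = 0 := by
      by_contra hk0
      rw [hk] at h1
      have : Even (2 ^ k) := Nat.even_pow.mpr ⟨even_two, hk0⟩
      exact (Nat.not_odd_iff_even.mpr this) h1
    rw [hk0, pow_zero, orderOf_eq_one_iff] at hk
    -- u * v = 1 so v = u⁻¹ = u
    have : g * u * g⁻¹ = u⁻¹ := by
      rw [eq_inv_iff_mul_eq_one]
      have h2 : (g * u * g⁻¹) * u = u⁻¹ * (u * (g * u * g⁻¹)) * u := by group
      rw [h2, hk]; group
    rw [this, hui]

end Cfsg.Agent.S0216
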