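import Cfsg.Statements.S0218
import Mathlib
import Cfsg.Agent.Lib.Helper2.Dihedral

set_option autoImplicit false
open Cfsg

namespace Cfsg.Agent.S0218

open QuaternionGroup in
theorem invol_iff (m : ℕ) [NeZero m] (x : QuaternionGroup m) :
    orderOf x = 2 ↔ x = a (m : ZMod (2 * m)) := by
  have hm : m ≠ 0 := NeZero.ne m
  rw [Cfsg.Agent.Lib.Helper2.orderOf_two_iff]
  cases x with
  | xa i =>
    constructor
    · rintro ⟨_, h2⟩
      exfalso
      have h4 := orderOf_xa (n := m) i
      have : orderOf (xa i : QuaternionGroup m) ∣ 2 := by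
        apply orderOf_dvd_of_pow_eq_one
        rw [pow_two]; exact h2
      rw [h4] at this
      omega
    · intro h
      exact absurd h (by simp)
  | a i =>
    rw [a_mul_a, one_def]
    constructor
    · rintro ⟨h1, h2⟩
      have h1' : i ≠ 0 := fun h => h1 (by rw [h])
      have h2' : i + i = 0 := by
        injection h2
      congr 1
      -- work with values
      haveI : NeZero (2 * m) := ⟨by omega⟩
      have hv : (i + i).val = 0 := by rw [h2']; exact ZMod.val_zero
      rw [ZMod.val_add] at hv
      have hlt : i.val < 2 * m := ZMod.val_lt i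
      have hpos : 0 < i.val := by
        rcases Nat.eq_zero_or_pos i.val with h | h
        · exact absurd ((ZMod.val_eq_zero i).mp h) h1'
        · exact h
      have hdvd : 2 * m ∣ i.val + i.val := Nat.dvd_of_mod_eq_zero hv
      obtain ⟨c, hc⟩ := hdvd
      have hc1 : c = 1 := by
        rcases c with _ | _ | c
        · omega
        · rfl
        · exfalso
          have : 2 * m * (c + 1 + 1) ≥ 2 * m * 2 := Nat.mul_le_mul_left _ (by omega)
          omega
      rw [hc1, mul_one] at hc
      have hval : i.val = m := by omega
      rw [← ZMod.natCast_zmod_val i, hval]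
    · intro h
      injection h with h
      subst h
      refine ⟨?_, ?_⟩
      · intro h
        injection h with h
        have : (2 * m) ∣ m := (ZMod.natCast_eq_zero_iff m (2 * m)).mp h
        have := Nat.le_of_dvd (Nat.pos_of_ne_zero hm) this
        omega
      · congr 1
        rw [← Nat.cast_add, ← two_mul]
        exact ZMod.natCast_self (2 * m)


/-- The generalized quaternion group of order 2^(n+3) contains exactly one element of order 2. -/
theorem result (n : ℕ) : Nat.card {x : QuaternionGroup (2 ^ (n + 1)) // orderOf x = 2} = 1 := by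
  haveI : NeZero (2 ^ (n + 1)) := ⟨by positivity⟩
  rw [Nat.card_eq_one_iff_unique]
  refine ⟨⟨?_⟩, ⟨⟨_, (invol_iff _ _).mpr rfl⟩⟩⟩
  rintro ⟨x, hx⟩ ⟨y, hy⟩
  ext
  simp only
  rw [(invol_iff _ x).mp hx, (invol_iff _ y).mp hy]

end Cfsg.Agent.S0218
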