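import Cfsg.Statements.S0220
import Mathlib
import Cfsg.Agent.Lib.Helper2.IndexTwo
import Cfsg.Agent.Lib.Helper2.Count

set_option autoImplicit false
open Cfsg

namespace Cfsg.Agent.S0220

open Cfsg.Agent.Lib.Helper2

theorem aux {G : Type*} [Group G] [Finite G] (x : G) (hx : orderOf x = 2) (C : Subgroup G)
    (hmem : ∀ c : G, c ∈ C ↔ c * x * c⁻¹ = x) (S : Sylow 2 C)
    (hS : IsCyclic (S : Subgroup C)) : ∃ H : Subgroup G, H.index = 2 := by
  have hF : Fact (Nat.Prime 2) := ⟨Nat.prime_two⟩
  have hxC : x ∈ C := (hmem x).mpr (by group)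
  -- x, as an element of C, lies in S
  have hxS : (⟨x, hxC⟩ : C) ∈ (S : Subgroup C) := by
    have hpg : IsPGroup 2 (Subgroup.zpowers (⟨x, hxC⟩ : C)) := by
      apply IsPGroup.of_card (n := 1)
      rw [Nat.card_zpowers, Subgroup.orderOf_mk, hx, pow_one]
    have hnorm : (⟨x, hxC⟩ : C) ∈ Subgroup.normalizer ((S : Subgroup C) : Set C) := by
      rw [Subgroup.mem_normalizer_iff]
      intro h
      have : (⟨x, hxC⟩ : C) * h * (⟨x, hxC⟩ : C)⁻¹ = h := by
        ext
        have h1 := (hmem h.1).mp h.2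
        simp only [Subgroup.coe_mul, Subgroup.coe_inv]
        conv_rhs => rw [← mul_inv_cancel_right h.1 x]
        have h2 : h.1 * x = x * h.1 := by
          conv_rhs => rw [← h1]
          group
        rw [h2]
      rw [this]
    have h3 : Subgroup.zpowers (⟨x, hxC⟩ : C) ⊓ Subgroup.normalizer ((S : Subgroup C) : Set C) =
        Subgroup.zpowers (⟨x, hxC⟩ : C) ⊓ (S : Subgroup C) := hpg.inf_normalizer_sylow S
    have h4 := Subgroup.mem_inf.mpr ⟨Subgroup.mem_zpowers (⟨x, hxC⟩ : C), hnorm⟩
    rw [h3] at h4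
    exact (Subgroup.mem_inf.mp h4).2
  -- a Sylow 2-subgroup T of G containing the image of S
  have hS'p : IsPGroup 2 ((S : Subgroup C).map C.subtype) := S.isPGroup'.map _
  obtain ⟨T, hT⟩ := hS'p.exists_le_sylow
  have hxT : x ∈ (T : Subgroup G) := hT ⟨⟨x, hxC⟩, hxS, rfl⟩
  have hTC : (T : Subgroup G).subgroupOf C = S := by
    apply S.is_maximal'
    · exact T.isPGroup'.comap_of_injective C.subtype (Subgroup.subtype_injective C)
    · intro c hc
      rw [Subgroup.mem_subgroupOf]
      exact hT ⟨c, hc, rfl⟩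
  have hTne : (T : Subgroup G) ≠ ⊥ := by
    intro h
    rw [h, Subgroup.mem_bot] at hxT
    exact invol_ne_one hx hxT
  obtain ⟨z, hzT, hz2, hzc⟩ := exists_central_invol_of_pgroup (T : Subgroup G) T.isPGroup' hTne
  have hzC : z ∈ C := by
    rw [hmem]
    have := hzc x hxT
    rw [← this]; group
  have hzS : (⟨z, hzC⟩ : C) ∈ (S : Subgroup C) := by
    rw [← hTC, Subgroup.mem_subgroupOf]; exact hzT
  have huniq : (⟨⟨z, hzC⟩, hzS⟩ : (S : Subgroup C)) = ⟨⟨x, hxC⟩, hxS⟩ := by
    apply invol_unique_of_cyclic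
    · rw [Subgroup.orderOf_mk, Subgroup.orderOf_mk]; exact hz2
    · rw [Subgroup.orderOf_mk, Subgroup.orderOf_mk]; exact hx
  have hzx : z = x := congrArg (fun a => (a.1.1)) huniq
  have hTleC : (T : Subgroup G) ≤ C := by
    intro g hg
    rw [hmem]
    have := hzc g hg
    rw [hzx] at this
    rw [this]; group
  have e1 := Subgroup.subgroupOfEquivOfLe hTleC
  have hc2 : IsCyclic ((T : Subgroup G).subgroupOf C) := by rw [hTC]; exact hS
  have hTcyc : IsCyclic (T : Subgroup G) := (e1.isCyclic).mp hc2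
  have heven : Even (Nat.card G) := by
    rw [even_iff_two_dvd, ← hx]; exact orderOf_dvd_natCard x
  exact exists_index_two_of_cyclic_sylow heven T hTcyc


/-- If x is an involution of a finite group G and a Sylow 2-subgroup of the centralizer of x is cyclic, then G has a subgroup of index 2; in particular G is not simple unless it has order 2. -/
theorem result {G : Type*} [Group G] [Finite G] (x : G) (hx : orderOf x = 2) (S : Sylow 2 ↥(Subgroup.centralizer ({x} : Set G))) (hS : IsCyclic (S : Subgroup ↥(Subgroup.centralizer ({x} : Set G)))) : ∃ H : Subgroup G, H.index = 2 := by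
  exact aux x hx _ (fun c => mem_centralizer_singleton) S hS

end Cfsg.Agent.S0220
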