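import Cfsg.Statements.S0221
import Mathlib
import Cfsg.Agent.Lib.Helper11.TwoGroupE8
import Cfsg.Agent.Lib.Helper11.Extremal
import Cfsg.Agent.Lib.Helper12.Basic
import Cfsg.Agent.Lib.Helper4.ElemAb
-- import your own Cfsg.Agent.* helpers here

set_option autoImplicit false
open Cfsg

namespace Cfsg.Agent.S0221

/-- Let G be a finite group with no subgroup of index 2 whose 2-rank is at least 3 (it contains an elementary abelian subgroup of order 8). Then the centralizer of every involution of G also contains an elementary abelian subgroup of order 8. -/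
theorem result {G : Type*} [Group G] [Finite G] (hno : ∀ H : Subgroup G, H.index ≠ 2) (hrank : ∃ E : Subgroup G, Nat.card E = 8 ∧ ∀ e ∈ E, e ^ 2 = 1) (x : G) (hx : orderOf x = 2) : ∃ E : Subgroup G, E ≤ Subgroup.centralizer ({x} : Set G) ∧ Nat.card E = 8 ∧ ∀ e ∈ E, e ^ 2 = 1 := by
  classical
  haveI : Fact (Nat.Prime 2) := ⟨Nat.prime_two⟩
  have hres := Cfsg.Agent.Lib.Helper11.pResidual_two_eq_top_of_no_index_two hno
  obtain ⟨E, hE8, hE2⟩ := hrank
  have hx2 : x ^ 2 = 1 := by rw [← hx]; exact pow_orderOf_eq_one x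
  have hx1 : x ≠ 1 := by
    intro h; rw [h, orderOf_one] at hx; omega
  -- Sylow 2-subgroup containing x
  have hZp : IsPGroup 2 ↥(Subgroup.zpowers x) :=
    IsPGroup.of_card (n := 1) (by rw [Nat.card_zpowers, hx, pow_one])
  obtain ⟨S, hS⟩ := hZp.exists_le_sylow
  have hxS : x ∈ (S : Subgroup G) := hS (Subgroup.mem_zpowers x)
  -- conjugate E into S
  have hEp : IsPGroup 2 ↥E := IsPGroup.of_card (n := 3) (by rw [hE8]; norm_num)
  obtain ⟨g₁, -, hg₁⟩ := Cfsg.Agent.Lib.Helper12.exists_conj_mem_sylow S ⊤ E le_top le_top hEp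
  set A' : Subgroup G := E.map (MulAut.conj g₁).toMonoidHom with hA'
  have hA'S : A' ≤ (S : Subgroup G) := by
    rintro _ ⟨e, he, rfl⟩
    exact hg₁ e he
  have hA'8 : Nat.card A' = 8 := by
    rw [hA', Subgroup.card_map_of_injective (MulAut.conj g₁).injective, hE8]
  have hA'2 : ∀ a ∈ A', a ^ 2 = 1 := by
    rintro _ ⟨e, he, rfl⟩
    rw [← map_pow, hE2 e he, map_one]
  have hA'inv : ∀ a ∈ A', a⁻¹ = a := by
    intro a ha
    rw [inv_eq_iff_mul_eq_one, ← pow_two]; exact hA'2 a ha
  have hA'comm : ∀ a ∈ A', ∀ b ∈ A', a * b = b * a := by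
    intro a ha b hb
    have h1 := hA'2 (a * b) (A'.mul_mem ha hb)
    have h2 : (a * b)⁻¹ = a * b := by rw [inv_eq_iff_mul_eq_one, ← pow_two]; exact h1
    rw [← h2, mul_inv_rev, hA'inv a ha, hA'inv b hb]
  -- the subgroup of ↥S
  have hA8 : Nat.card ↥(A'.subgroupOf (S : Subgroup G)) = 8 := by
    rw [Nat.card_congr (Subgroup.subgroupOfEquivOfLe hA'S).toEquiv, hA'8]
  have hA2 : ∀ a ∈ A'.subgroupOf (S : Subgroup G), a ^ 2 = 1 := by
    intro a ha
    apply Subtype.ext
    have := hA'2 (a : G) (Subgroup.mem_subgroupOf.mp ha)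
    simpa using this
  obtain ⟨z, u, hz2, hz1, hzc, hu2, hu1, huz, hconj⟩ :=
    Cfsg.Agent.Lib.Helper11.exists_central_and_almost_central_involution S.2
      (A'.subgroupOf (S : Subgroup G)) hA8 hA2
  -- translate to G
  have hzG2 : (z : G) ^ 2 = 1 := by have := congrArg Subtype.val hz2; simpa using this
  have huG2 : (u : G) ^ 2 = 1 := by have := congrArg Subtype.val hu2; simpa using this
  have hzG1 : (z : G) ≠ 1 := fun h => hz1 (Subtype.ext h)
  have huG1 : (u : G) ≠ 1 := fun h => hu1 (Subtype.ext h)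
  have huzG : (u : G) ≠ (z : G) := fun h => huz (Subtype.ext h)
  have hzcomm : ∀ s ∈ (S : Subgroup G), s * (z : G) = (z : G) * s := by
    intro s hs
    have := Subgroup.mem_center_iff.mp hzc ⟨s, hs⟩
    exact congrArg Subtype.val this
  have hconjG : ∀ s ∈ (S : Subgroup G), s * (u : G) * s⁻¹ = (u : G) ∨ s * (u : G) * s⁻¹ = (u : G) * (z : G) := by
    intro s hs
    rcases hconj ⟨s, hs⟩ with h | h
    · left; exact congrArg Subtype.val h
    · right; exact congrArg Subtype.val h
  have hzu : (u : G) * (z : G) = (z : G) * (u : G) := hzcomm _ u.2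
  -- a conjugate of x in S commuting with u
  obtain ⟨g₂, hx'S, hx'u⟩ : ∃ g₂ : G, g₂ * x * g₂⁻¹ ∈ (S : Subgroup G) ∧
      (g₂ * x * g₂⁻¹) * (u : G) = (u : G) * (g₂ * x * g₂⁻¹) := by
    by_cases hxu : x * (u : G) = (u : G) * x
    · refine ⟨1, by simpa using hxS, by simpa using hxu⟩
    · have hxT : (⟨x, hxS⟩ : ↥(S : Subgroup G)) ∉ Subgroup.centralizer ({u} : Set ↥(S : Subgroup G)) := by
        intro h
        rw [Subgroup.mem_centralizer_singleton_iff] at h
        exact hxu (congrArg Subtype.val h)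
      have hTne : Subgroup.centralizer ({u} : Set ↥(S : Subgroup G)) ≠ ⊤ := by
        intro h
        exact hxT (h ▸ Subgroup.mem_top _)
      have hidx := Cfsg.Agent.Lib.Helper11.centralizer_index_eq_two_of_conj u z hconj hTne
      have hco := Cfsg.Agent.Lib.Helper11.isCoatom_of_index_eq_two _ hidx
      obtain ⟨g₂, ⟨hgS, hgM⟩, -, -⟩ :=
        Cfsg.Agent.Lib.Helper11.exists_extremal_conj_coatom S _ hco hres x hx hxS hxT
      refine ⟨g₂, hgS, ?_⟩
      rw [Subgroup.mem_centralizer_singleton_iff] at hgM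
      exact congrArg Subtype.val hgM
  obtain ⟨x', hx'⟩ : ∃ x' : G, x' = g₂ * x * g₂⁻¹ := ⟨_, rfl⟩
  rw [← hx'] at hx'S hx'u
  have hx'2 : x' ^ 2 = 1 := by rw [hx', conj_pow, hx2]; group
  have hx'z : x' * (z : G) = (z : G) * x' := hzcomm x' hx'S
  -- the four-group U
  have hD : Cfsg.IsElementaryAbelian 2 (Subgroup.zpowers (z : G)) :=
    Cfsg.Agent.Lib.Helper4.elemAb_zpowers hzG2
  have hDcard : Nat.card ↥(Subgroup.zpowers (z : G)) = 2 := by
    rw [Nat.card_zpowers]; exact orderOf_eq_prime hzG2 hzG1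
  have huD : (u : G) ∉ Subgroup.zpowers (z : G) := by
    intro h
    rcases Cfsg.Agent.Lib.Helper11.mem_zpowers_of_sq_eq_one hzG2 h with h | h
    · exact huG1 h
    · exact huzG h
  have hucD : ∀ d ∈ Subgroup.zpowers (z : G), (u : G) * d = d * (u : G) := by
    intro d hd
    obtain ⟨k, rfl⟩ := Subgroup.mem_zpowers_iff.mp hd
    have hc : Commute (u : G) (z : G) := hzu
    exact (hc.zpow_right k).eq
  set U : Subgroup G := Subgroup.zpowers (z : G) ⊔ Subgroup.zpowers (u : G) with hU
  have hUel : Cfsg.IsElementaryAbelian 2 U := Cfsg.Agent.Lib.Helper11.elemAb_sup_zpowers hD huG2 hucD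
  have hUcard : Nat.card U = 4 := by
    rw [hU, Cfsg.Agent.Lib.Helper11.card_sup_zpowers huG2 huD hucD, hDcard]
  have hUS : U ≤ (S : Subgroup G) := by
    rw [hU]
    apply sup_le
    · rw [Subgroup.zpowers_le]; exact z.2
    · rw [Subgroup.zpowers_le]; exact u.2
  have hzU : (z : G) ∈ U := Subgroup.mem_sup_left (Subgroup.mem_zpowers _)
  have huU : (u : G) ∈ U := Subgroup.mem_sup_right (Subgroup.mem_zpowers _)
  -- anything commuting with z and u commutes with U
  have hcommU : ∀ w : G, w * (z : G) = (z : G) * w → w * (u : G) = (u : G) * w →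
      ∀ d ∈ U, w * d = d * w := by
    intro w hwz hwu d hd
    have hle : U ≤ Subgroup.centralizer ({w} : Set G) := by
      rw [hU]
      apply sup_le
      · rw [Subgroup.zpowers_le, Subgroup.mem_centralizer_singleton_iff]; exact hwz.symm
      · rw [Subgroup.zpowers_le, Subgroup.mem_centralizer_singleton_iff]; exact hwu.symm
    have := hle hd
    rw [Subgroup.mem_centralizer_singleton_iff] at this
    exact this.symm
  -- the third generator w
  obtain ⟨w, hw2, hwU, hwz, hwu, hx'w⟩ : ∃ w : G, w ^ 2 = 1 ∧ w ∉ U ∧ w * (z : G) = (z : G) * w ∧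
      w * (u : G) = (u : G) * w ∧ x' ∈ U ⊔ Subgroup.zpowers w := by
    by_cases hx'U : x' ∈ U
    · -- need an element of A' commuting with u outside U
      set AT : Subgroup G := A' ⊓ Subgroup.centralizer ({(u : G)} : Set G) with hAT
      have hcardAT : Nat.card A' ≤ 2 * Nat.card AT := by
        apply Cfsg.Agent.Lib.Helper11.card_le_two_mul_of_forall_mem A' AT inf_le_left
        intro a ha b hb haT hbT
        have hmv : ∀ c ∈ A', c ∉ AT → c * (u : G) * c⁻¹ = (u : G) * (z : G) := by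
          intro c hc hcT
          rcases hconjG c (hA'S hc) with h | h
          · exfalso; apply hcT
            refine Subgroup.mem_inf.mpr ⟨hc, ?_⟩
            rw [Subgroup.mem_centralizer_singleton_iff]
            calc c * (u : G) = (c * (u : G) * c⁻¹) * c := by group
              _ = (u : G) * c := by rw [h]
          · exact h
        refine Subgroup.mem_inf.mpr ⟨A'.mul_mem (A'.inv_mem ha) hb, ?_⟩
        rw [Subgroup.mem_centralizer_singleton_iff]
        have h3 : a * (u : G) * a⁻¹ = b * (u : G) * b⁻¹ := by rw [hmv a ha haT, hmv b hb hbT]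
        calc a⁻¹ * b * (u : G) = a⁻¹ * (b * (u : G) * b⁻¹) * b := by group
          _ = a⁻¹ * (a * (u : G) * a⁻¹) * b := by rw [h3]
          _ = (u : G) * (a⁻¹ * b) := by group
      obtain ⟨a, haT, haU⟩ : ∃ a ∈ AT, a ∉ U := by
        by_contra hno'
        push Not at hno'
        have hle : AT ≤ U := hno'
        have heq : AT = U := Subgroup.eq_of_le_of_card_ge hle (by rw [hUcard]; omega)
        have huA' : (u : G) ∈ A' := by
          have : (u : G) ∈ AT := heq ▸ huU
          exact (Subgroup.mem_inf.mp this).1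
        have hA'le : A' ≤ AT := by
          intro c hc
          refine Subgroup.mem_inf.mpr ⟨hc, ?_⟩
          rw [Subgroup.mem_centralizer_singleton_iff]
          exact hA'comm c hc _ huA'
        have := Subgroup.card_le_of_le hA'le
        rw [heq, hUcard, hA'8] at this
        omega
      have haA' : a ∈ A' := (Subgroup.mem_inf.mp haT).1
      have hau : a * (u : G) = (u : G) * a := by
        have := (Subgroup.mem_inf.mp haT).2
        rw [Subgroup.mem_centralizer_singleton_iff] at this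
        exact this
      exact ⟨a, hA'2 a haA', haU, hzcomm a (hA'S haA'), hau, Subgroup.mem_sup_left hx'U⟩
    · exact ⟨x', hx'2, hx'U, hx'z, hx'u, Subgroup.mem_sup_right (Subgroup.mem_zpowers _)⟩
  have hwcU := hcommU w hwz hwu
  haveI : Finite U := inferInstance
  have hE'' : Cfsg.IsElementaryAbelian 2 (U ⊔ Subgroup.zpowers w) :=
    Cfsg.Agent.Lib.Helper11.elemAb_sup_zpowers hUel hw2 hwcU
  have hE''card : Nat.card ↥(U ⊔ Subgroup.zpowers w) = 8 := by
    rw [Cfsg.Agent.Lib.Helper11.card_sup_zpowers hw2 hwU hwcU, hUcard]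
  -- conjugate back
  refine ⟨(U ⊔ Subgroup.zpowers w).map (MulAut.conj g₂⁻¹).toMonoidHom, ?_, ?_, ?_⟩
  · rintro _ ⟨e, he, rfl⟩
    rw [Subgroup.mem_centralizer_singleton_iff]
    have hc : e * x' = x' * e := Cfsg.Agent.Lib.Helper4.elemAb_comm hE'' e he x' hx'w
    show (MulAut.conj g₂⁻¹) e * x = x * (MulAut.conj g₂⁻¹) e
    rw [MulAut.conj_apply, inv_inv]
    rw [hx'] at hc
    calc g₂⁻¹ * e * g₂ * x = g₂⁻¹ * (e * (g₂ * x * g₂⁻¹)) * g₂ := by group
      _ = g₂⁻¹ * ((g₂ * x * g₂⁻¹) * e) * g₂ := by rw [hc]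
      _ = x * (g₂⁻¹ * e * g₂) := by group
  · rw [Subgroup.card_map_of_injective (MulAut.conj g₂⁻¹).injective, hE''card]
  · rintro _ ⟨e, he, rfl⟩
    show ((MulAut.conj g₂⁻¹) e) ^ 2 = 1
    rw [← map_pow, hE''.2 e he, map_one]

end Cfsg.Agent.S0221
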