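import Cfsg.Statements.S0223
import Mathlib
import Cfsg.Agent.Lib.Helper2.StronglyEmbedded
import Cfsg.Agent.Lib.Helper2.Count

set_option autoImplicit false
open Cfsg

namespace Cfsg.Agent.S0223

/-- Let H be a proper subgroup of even order of the finite group G. Then H is strongly embedded if and only if (i) C_G(t) ≤ H for every involution t of H and (ii) H controls fusion of its involutions: involutions of H conjugate in G are conjugate in H. -/
theorem result {G : Type*} [Group G] [Finite G] (H : Subgroup G) (hH : H ≠ ⊤) (heven : Even (Nat.card H)) : Cfsg.IsStronglyEmbedded H ↔ ((∀ t ∈ H, orderOf t = 2 → Subgroup.centralizer ({t} : Set G) ≤ H) ∧ (∀ t ∈ H, ∀ s ∈ H, orderOf t = 2 → orderOf s = 2 → IsConj t s → ∃ h ∈ H, h * t * h⁻¹ = s)) := by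
  rw [Cfsg.Agent.Lib.Helper2.stronglyEmbedded_iff]
  constructor
  · rintro ⟨_, _, h3⟩
    refine ⟨?_, ?_⟩
    · intro t ht ht2 c hc
      rw [Cfsg.Agent.Lib.Helper2.mem_centralizer_singleton] at hc
      exact h3 c t ht ht2 (by rw [hc]; exact ht)
    · intro t ht s hs ht2 _ hconj
      obtain ⟨g, hg⟩ := isConj_iff.mp hconj
      exact ⟨g, h3 g t ht ht2 (by rw [hg]; exact hs), hg⟩
  · rintro ⟨hi, hii⟩
    refine ⟨hH, heven, ?_⟩
    intro g t ht ht2 hgt
    have hs2 := Cfsg.Agent.Lib.Helper2.orderOf_conj_two g ht2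
    obtain ⟨h, hh, hht⟩ := hii t ht _ hgt ht2 hs2 (isConj_iff.mpr ⟨g, rfl⟩)
    have hc : g⁻¹ * h ∈ Subgroup.centralizer ({t} : Set G) := by
      rw [Cfsg.Agent.Lib.Helper2.mem_centralizer_singleton]
      have : g⁻¹ * h * t * (g⁻¹ * h)⁻¹ = g⁻¹ * (h * t * h⁻¹) * g := by group
      rw [this, hht]; group
    have h1 := hi t ht ht2 hc
    have h2 : g⁻¹ = (g⁻¹ * h) * h⁻¹ := by group
    have h3 : g⁻¹ ∈ H := by
      rw [h2]; exact H.mul_mem h1 (H.inv_mem hh)
    exact (Subgroup.inv_mem_iff H).mp h3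

end Cfsg.Agent.S0223
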