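import Cfsg.Statements.S0224
import Mathlib
import Cfsg.Agent.Lib.Helper2.StronglyEmbedded

set_option autoImplicit false
open Cfsg

namespace Cfsg.Agent.S0224

/-- Let H be a proper subgroup of even order of the finite group G. Then H is strongly embedded if and only if each involution of H fixes exactly one point (namely the coset H) in the action of G on the cosets of H. -/
theorem result {G : Type*} [Group G] [Finite G] (H : Subgroup G) (hH : H ≠ ⊤) (heven : Even (Nat.card H)) : Cfsg.IsStronglyEmbedded H ↔ ∀ t ∈ H, orderOf t = 2 → Nat.card {c : G ⧸ H // t • c = c} = 1 := by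
  rw [Cfsg.Agent.Lib.Helper2.stronglyEmbedded_iff]
  constructor
  · rintro ⟨_, _, h3⟩ t ht ht2
    rw [Nat.card_eq_one_iff_unique]
    refine ⟨⟨?_⟩, ⟨⟨((1 : G) : G ⧸ H), ?_⟩⟩⟩
    · rintro ⟨c, hc⟩ ⟨d, hd⟩
      have key : ∀ c : G ⧸ H, t • c = c → c = ((1 : G) : G ⧸ H) := by
        intro c
        induction c using QuotientGroup.induction_on with
        | H g =>
          intro hfix
          rw [MulAction.Quotient.smul_mk, QuotientGroup.eq] at hfix
          -- (t * g)⁻¹ * g ∈ H
          have h4 : g⁻¹ * t * g⁻¹⁻¹ ∈ H := by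
            have : (t • g)⁻¹ * g = g⁻¹ * t⁻¹ * g := by
              simp [smul_eq_mul, mul_assoc]
            rw [this, Cfsg.Agent.Lib.Helper2.invol_inv ht2] at hfix
            rwa [inv_inv]
          have h5 := h3 g⁻¹ t ht ht2 h4
          rw [QuotientGroup.eq]
          simpa using h5
      ext
      simp only
      rw [key c hc, key d hd]
    · rw [MulAction.Quotient.smul_mk, QuotientGroup.eq]
      simp only [smul_eq_mul, mul_one]
      exact H.inv_mem ht
  · intro h
    refine ⟨hH, heven, ?_⟩
    intro g t ht ht2 hgt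
    have hs2 := Cfsg.Agent.Lib.Helper2.orderOf_conj_two g ht2
    have h1 := h _ hgt hs2
    rw [Nat.card_eq_one_iff_unique] at h1
    obtain ⟨hsub, _⟩ := h1
    have fix1 : (g * t * g⁻¹) • ((1 : G) : G ⧸ H) = ((1 : G) : G ⧸ H) := by
      rw [MulAction.Quotient.smul_mk, QuotientGroup.eq]
      simp only [smul_eq_mul, mul_one]
      exact H.inv_mem hgt
    have fixg : (g * t * g⁻¹) • ((g : G) : G ⧸ H) = ((g : G) : G ⧸ H) := by
      rw [MulAction.Quotient.smul_mk, QuotientGroup.eq]
      have : ((g * t * g⁻¹) • g)⁻¹ * g = t⁻¹ := by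
        simp [smul_eq_mul, mul_assoc]
      rw [this]
      exact H.inv_mem ht
    have := hsub.elim (⟨_, fix1⟩ : {c : G ⧸ H // (g * t * g⁻¹) • c = c}) ⟨_, fixg⟩
    have h2 : ((1 : G) : G ⧸ H) = ((g : G) : G ⧸ H) := congrArg Subtype.val this
    rw [QuotientGroup.eq] at h2
    simpa using h2

end Cfsg.Agent.S0224
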