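import Cfsg.Statements.S0226
import Mathlib
-- import your own Cfsg.Agent.* helpers here

set_option autoImplicit false
open Cfsg

namespace Cfsg.Agent.S0226

/-- the set of fixed points of inversion has cardinality congruent to `|G|` mod 2 -/
theorem card_inv_fixed_modEq {G : Type*} [Group G] [Fintype G] [DecidableEq G] :
    Fintype.card G ≡ Fintype.card {g : G // g⁻¹ = g} [MOD 2] := by
  let f : Function.End G := fun g : G => g⁻¹
  have h : f ^ 2 ^ 1 = 1 := by
    have h2 : f ^ 2 ^ 1 = f * f := by rw [pow_one, pow_two]
    rw [h2]
    funext g
    show f (f g) = g
    exact inv_inv g
  have := Equiv.Perm.card_fixedPoints_modEq (p := 2) (n := 1) h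
  refine this.trans ?_
  have e : (Function.fixedPoints f) ≃ {g : G // g⁻¹ = g} :=
    Equiv.subtypeEquivRight (fun g => by simp [Function.fixedPoints, Function.IsFixedPt, f])
  rw [Fintype.card_congr e]

/-- A finite group of even order has an odd number of involutions. -/
theorem result {G : Type*} [Group G] [Finite G] (heven : Even (Nat.card G)) : Odd (Nat.card {t : G // orderOf t = 2}) := by
  classical
  have := Fintype.ofFinite G
  have h1 := card_inv_fixed_modEq (G := G)
  rw [Nat.card_eq_fintype_card] at heven ⊢
  -- fixed points of inversion are 1 together with the involutions
  have h2 : Fintype.card {g : G // g⁻¹ = g} = Fintype.card {t : G // orderOf t = 2} + 1 := by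
    have e : {g : G // g⁻¹ = g} ≃ Option {t : G // orderOf t = 2} :=
      { toFun := fun g => if h : g.1 = 1 then none else some ⟨g.1, by
          have hg : g.1 ^ 2 = 1 := by
            have := g.2
            rw [pow_two]
            nth_rewrite 1 [← this]
            simp
          exact orderOf_eq_prime hg h⟩
        invFun := fun o => match o with
          | none => ⟨1, by simp⟩
          | some t => ⟨t.1, by
              have : t.1 ^ 2 = 1 := by
                have h2 := t.2
                have := pow_orderOf_eq_one t.1
                rwa [h2] at this
              rw [inv_eq_iff_mul_eq_one, ← pow_two]; exact this⟩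
        left_inv := by
          intro g
          by_cases h : g.1 = 1
          · simp [h]; ext; simp [h]
          · simp [h]
        right_inv := by
          intro o
          cases o with
          | none => simp
          | some t =>
            have : t.1 ≠ 1 := by
              intro h
              have := t.2
              rw [h, orderOf_one] at this
              omega
            simp [this] }
    rw [Fintype.card_congr e, Fintype.card_option]
  rw [h2] at h1
  have h3 : Fintype.card G % 2 = 0 := Nat.even_iff.mp heven
  have h4 := h1
  unfold Nat.ModEq at h4
  rw [h3] at h4
  rw [Nat.odd_iff]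
  omega

end Cfsg.Agent.S0226
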