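import Cfsg.Statements.S0230
import Mathlib
import Cfsg.Agent.Lib.Helper2.Count

set_option autoImplicit false
open Cfsg

namespace Cfsg.Agent.S0230

/-- Let G be a finite group with two non-conjugate involutions, and let t be an involution whose centralizer has maximal order among centralizers of involutions. Then |G| < |C_G(t)|^3. -/
theorem result {G : Type*} [Group G] [Finite G] (s t : G) (hs : orderOf s = 2) (ht : orderOf t = 2) (hnc : ¬ IsConj s t) (hmax : ∀ u : G, orderOf u = 2 → Nat.card (Subgroup.centralizer ({u} : Set G)) ≤ Nat.card (Subgroup.centralizer ({t} : Set G))) : Nat.card G < Nat.card (Subgroup.centralizer ({t} : Set G)) ^ 3 := by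
  classical
  set m := Nat.card (Subgroup.centralizer ({t} : Set G)) with hm
  have hX := Cfsg.Agent.Lib.Helper2.card_eq_card_conj_mul_card_centralizer s
  -- choice of the central involution
  have hex : ∀ s' : {s' : G // IsConj s s'}, ∃ z : G, orderOf z = 2 ∧ Commute z s'.1 ∧ Commute z t := by
    intro s'
    obtain ⟨g, hg⟩ := isConj_iff.mp s'.2
    have hs' : orderOf s'.1 = 2 := by
      rw [← hg]; exact Cfsg.Agent.Lib.Helper2.orderOf_conj_two g hs
    have hnc' : ¬ IsConj s'.1 t := fun h => hnc (s'.2.trans h)
    exact Cfsg.Agent.Lib.Helper2.exists_invol_commuting hs' ht hnc'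
  let φ : {s' : G // IsConj s s'} →
      Σ z : {z : G // orderOf z = 2 ∧ Commute z t}, {c : G // Commute c z.1 ∧ c ≠ 1} :=
    fun s' => ⟨⟨Classical.choose (hex s'), (Classical.choose_spec (hex s')).1,
      (Classical.choose_spec (hex s')).2.2⟩,
      ⟨s'.1, (Classical.choose_spec (hex s')).2.1.symm, by
        intro h1
        obtain ⟨g, hg⟩ := isConj_iff.mp s'.2
        rw [h1] at hg
        have : s = 1 := by
          have h2 : s = g⁻¹ * (g * s * g⁻¹) * g := by group
          rw [h2, hg]; group
        exact Cfsg.Agent.Lib.Helper2.invol_ne_one hs this⟩⟩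
  have hφ : Function.Injective φ := by
    intro a b hab
    have h1 : (φ a).2.1 = (φ b).2.1 := by rw [hab]
    ext
    exact h1
  have hIt := Cfsg.Agent.Lib.Helper2.card_invol_commute_add_one_le t
  have : Fintype {z : G // orderOf z = 2 ∧ Commute z t} := Fintype.ofFinite _
  have hcard : Nat.card {s' : G // IsConj s s'} ≤ (m - 1) * (m - 1) := by
    refine le_trans (Nat.card_le_card_of_injective φ hφ) ?_
    rw [Nat.card_sigma]
    have hle : ∀ z : {z : G // orderOf z = 2 ∧ Commute z t},
        Nat.card {c : G // Commute c z.1 ∧ c ≠ 1} ≤ m - 1 := by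
      intro z
      have h1 := Cfsg.Agent.Lib.Helper2.card_commute_ne_one_add_one_le z.1
      have h2 := hmax z.1 z.2.1
      omega
    refine le_trans (Finset.sum_le_card_nsmul _ _ _ (fun z _ => hle z)) ?_
    rw [Finset.card_univ, smul_eq_mul, ← Nat.card_eq_fintype_card]
    apply Nat.mul_le_mul_right
    omega
  have hCs : Nat.card (Subgroup.centralizer ({s} : Set G)) ≤ m := hmax s hs
  have hmpos : 1 ≤ m := by omega
  rw [hX]
  calc Nat.card {s' : G // IsConj s s'} * Nat.card (Subgroup.centralizer ({s} : Set G))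
      ≤ (m - 1) * (m - 1) * m := Nat.mul_le_mul hcard hCs
    _ < m ^ 3 := by
      obtain ⟨k, hk⟩ : ∃ k, m = k + 1 := ⟨m - 1, by omega⟩
      rw [hk, Nat.add_sub_cancel]
      ring_nf
      nlinarith

end Cfsg.Agent.S0230
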