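import Cfsg.Statements.S0231
import Mathlib
import Cfsg.Agent.Lib.Helper2.Count
import Cfsg.Agent.Lib.Helper2.StronglyEmbedded

set_option autoImplicit false
open scoped Pointwise
open Cfsg

namespace Cfsg.Agent.S0231

open Cfsg.Agent.Lib.Helper2

section
variable {G : Type*} [Group G] [Finite G]

theorem mem_smul_sylow {P : Sylow 2 G} {g x : G} : x ∈ (g • P : Sylow 2 G) ↔ g⁻¹ * x * g ∈ P := by
  show x ∈ ((g • P : Sylow 2 G) : Subgroup G) ↔ _
  rw [Sylow.coe_subgroup_smul, Subgroup.mem_pointwise_smul_iff_inv_smul_mem,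
    MulAut.smul_def, ← map_inv, MulAut.conj_apply, inv_inv]
  rfl

/-- distinct Sylow 2-subgroups meet trivially -/
theorem ti_all (T : Sylow 2 G)
    (hTI : ∀ g : G, MulAut.conj g • (T : Subgroup G) ≠ T → MulAut.conj g • (T : Subgroup G) ⊓ T = ⊥)
    (T1 T2 : Sylow 2 G) (x : G) (h1 : x ∈ T1) (h2 : x ∈ T2) (hx : x ≠ 1) : T1 = T2 := by
  have : Fact (Nat.Prime 2) := ⟨Nat.prime_two⟩
  obtain ⟨a, rfl⟩ := MulAction.exists_smul_eq G T T1
  obtain ⟨b, rfl⟩ := MulAction.exists_smul_eq G T T2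
  rw [mem_smul_sylow] at h1 h2
  by_contra hne
  have hne' : MulAut.conj (a⁻¹ * b) • (T : Subgroup G) ≠ T := by
    intro h
    apply hne
    have h3 : (a⁻¹ * b) • T = T := by
      apply Sylow.ext
      rw [Sylow.coe_subgroup_smul]; exact h
    rw [mul_smul] at h3
    have := congrArg (fun Q => a • Q) h3
    simp only [smul_inv_smul] at this
    exact this.symm
  have h3 := hTI _ hne'
  have hmem : a⁻¹ * x * a ∈ MulAut.conj (a⁻¹ * b) • (T : Subgroup G) ⊓ T := by
    refine Subgroup.mem_inf.mpr ⟨?_, h1⟩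
    rw [Subgroup.mem_pointwise_smul_iff_inv_smul_mem, MulAut.smul_def, ← map_inv,
      MulAut.conj_apply]
    have : (a⁻¹ * b)⁻¹ * (a⁻¹ * x * a) * (a⁻¹ * b)⁻¹⁻¹ = b⁻¹ * x * b := by group
    rw [this]; exact h2
  rw [h3, Subgroup.mem_bot] at hmem
  apply hx
  have : x = a * (a⁻¹ * x * a) * a⁻¹ := by group
  rw [this, hmem]; group

/-- a 2-element commuting with a nontrivial element of a TI Sylow 2-subgroup lies in it -/
theorem mem_of_commute (T : Sylow 2 G)
    (hTI : ∀ g : G, MulAut.conj g • (T : Subgroup G) ≠ T → MulAut.conj g • (T : Subgroup G) ⊓ T = ⊥)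
    (T1 : Sylow 2 G) (s z : G) (hs : s ∈ T1) (hs1 : s ≠ 1) (hz : orderOf z = 2)
    (hc : Commute z s) : z ∈ T1 := by
  have : Fact (Nat.Prime 2) := ⟨Nat.prime_two⟩
  have h1 : s ∈ (z • T1 : Sylow 2 G) := by
    rw [mem_smul_sylow]
    have : z⁻¹ * s * z = s := by
      rw [mul_assoc, ← hc.eq]; group
    rw [this]; exact hs
  have h2 : z • T1 = T1 := ti_all T hTI _ _ s h1 hs hs1
  rw [Sylow.smul_eq_iff_mem_normalizer] at h2
  have hpg : IsPGroup 2 (Subgroup.zpowers z) := by
    apply IsPGroup.of_card (n := 1)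
    rw [Nat.card_zpowers, hz, pow_one]
  have h3 := hpg.inf_normalizer_sylow T1
  have h4 := Subgroup.mem_inf.mpr ⟨Subgroup.mem_zpowers z, h2⟩
  rw [h3] at h4
  exact (Subgroup.mem_inf.mp h4).2

omit [Finite G] in
theorem exists_sylow_mem (s : G) (hs : orderOf s = 2) : ∃ T1 : Sylow 2 G, s ∈ T1 := by
  have hpg : IsPGroup 2 (Subgroup.zpowers s) := by
    apply IsPGroup.of_card (n := 1)
    rw [Nat.card_zpowers, hs, pow_one]
  obtain ⟨Q, hQ⟩ := hpg.exists_le_sylow
  exact ⟨Q, hQ (Subgroup.mem_zpowers s)⟩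

/-- non-conjugate involutions lie in the same Sylow 2-subgroup -/
theorem same_sylow (T : Sylow 2 G)
    (hTI : ∀ g : G, MulAut.conj g • (T : Subgroup G) ≠ T → MulAut.conj g • (T : Subgroup G) ⊓ T = ⊥)
    (s t : G) (hs : orderOf s = 2) (ht : orderOf t = 2) (hnc : ¬ IsConj s t)
    (T1 T2 : Sylow 2 G) (h1 : s ∈ T1) (h2 : t ∈ T2) : T1 = T2 := by
  obtain ⟨z, hz, hzs, hzt⟩ := exists_invol_commuting hs ht hnc
  have hz1 := mem_of_commute T hTI T1 s z h1 (invol_ne_one hs) hz hzs
  have hz2 := mem_of_commute T hTI T2 t z h2 (invol_ne_one ht) hz hzt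
  exact ti_all T hTI T1 T2 z hz1 hz2 (invol_ne_one hz)

end


/-- Let T be a Sylow 2-subgroup of the finite group G which is not normal and which intersects every other Sylow 2-subgroup trivially. Then G has a single conjugacy class of involutions. -/
theorem result {G : Type*} [Group G] [Finite G] (T : Sylow 2 G) (hnn : ¬ (T : Subgroup G).Normal) (hTI : ∀ g : G, MulAut.conj g • (T : Subgroup G) ≠ T → MulAut.conj g • (T : Subgroup G) ⊓ T = ⊥) (s t : G) (hs : orderOf s = 2) (ht : orderOf t = 2) : IsConj s t := by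
  have : Fact (Nat.Prime 2) := ⟨Nat.prime_two⟩
  by_contra hnc
  obtain ⟨T1, h1⟩ := exists_sylow_mem s hs
  obtain ⟨T2, h2⟩ := exists_sylow_mem t ht
  have h12 := same_sylow T hTI s t hs ht hnc T1 T2 h1 h2
  subst h12
  -- another Sylow subgroup
  have hex : ∃ T3 : Sylow 2 G, T3 ≠ T1 := by
    by_contra hall
    push Not at hall
    apply hnn
    have hsub : Subsingleton (Sylow 2 G) := ⟨fun a b => (hall a).trans (hall b).symm⟩
    exact Sylow.normal_of_subsingleton T
  obtain ⟨T3, hT3⟩ := hex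
  -- T3 contains an involution
  have hcard : Nat.card (T3 : Subgroup G) = Nat.card (T1 : Subgroup G) := by
    rw [Sylow.card_eq_multiplicity, Sylow.card_eq_multiplicity]
  have heven : Even (Nat.card (T3 : Subgroup G)) := by
    rw [hcard, even_card_iff_exists_invol]
    exact ⟨s, h1, hs⟩
  obtain ⟨u, hu3, hu⟩ := (even_card_iff_exists_invol _).mp heven
  have hsu : IsConj s u := by
    by_contra h
    exact hT3 (same_sylow T hTI s u hs hu h T1 T3 h1 hu3).symm
  have htu : IsConj t u := by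
    by_contra h
    exact hT3 (same_sylow T hTI t u ht hu h T1 T3 h2 hu3).symm
  exact hnc (hsu.trans htu.symm)

end Cfsg.Agent.S0231
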