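import Cfsg.Statements.S0232
import Cfsg.Agent.S0212

set_option autoImplicit false
open Cfsg

namespace Cfsg.Agent.S0232

universe u

/-- A group of order `2 * odd` has a subgroup of index 2 (Burnside transfer for a cyclic Sylow
2-subgroup). -/
theorem exists_index_two {G : Type*} [Group G] [Finite G] (k : ℕ) (hk : Nat.card G = 2 * k)
    (hodd : Odd k) : ∃ K : Subgroup G, K.index = 2 := by
  have hmin : (Nat.card G).minFac = 2 := by
    rw [Nat.minFac_eq_two_iff]; exact ⟨k, hk⟩
  have : Fact (Nat.Prime 2) := ⟨Nat.prime_two⟩
  let P : Sylow 2 G := default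
  have hk0 : k ≠ 0 := (Odd.pos hodd).ne'
  have hPcard : Nat.card P = 2 := by
    rw [Sylow.card_eq_multiplicity, hk, Nat.factorization_mul (by norm_num) hk0,
      Finsupp.add_apply, Nat.Prime.factorization_self Nat.prime_two,
      Nat.factorization_eq_zero_of_not_dvd (fun h => (Nat.not_even_iff_odd.mpr hodd)
        (even_iff_two_dvd.mpr h))]
    norm_num
  have hcyc : IsCyclic P := isCyclic_of_prime_card hPcard
  have hcomp := IsCyclic.isComplement' hmin hcyc
  exact ⟨_, hcomp.symm.index_eq_card.trans hPcard⟩

theorem zpowers_normal_of_mem_center {G : Type*} [Group G] (z : G) (hz : z ∈ Subgroup.center G) :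
    (Subgroup.zpowers z).Normal := by
  constructor
  intro n hn g
  have hn' : n ∈ Subgroup.center G := by
    obtain ⟨i, rfl⟩ := Subgroup.mem_zpowers_iff.mp hn
    exact Subgroup.zpow_mem _ hz i
  have : g * n * g⁻¹ = n := by
    rw [Subgroup.mem_center_iff] at hn'
    rw [hn' g]; group
  rw [this]; exact hn

theorem main (k : ℕ) : ∀ (G : Type u) [Group G] [Finite G], Nat.card G = k → Even k → 2 < k →
    ∃ H : Subgroup G, H ≠ ⊤ ∧ k < Nat.card H ^ 3 := by
  induction k using Nat.strong_induction_on with
  | _ k ih =>
  intro G _ _ hk heven hgt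
  obtain ⟨j, hj⟩ := heven
  have hj2 : k = 2 * j := by omega
  -- case `k / 2` odd
  rcases Nat.even_or_odd j with hjeven | hjodd
  swap
  · obtain ⟨K, hK⟩ := exists_index_two j (hk.trans hj2) hjodd
    refine ⟨K, ?_, ?_⟩
    · intro h; rw [h, Subgroup.index_top] at hK; omega
    · have h1 := Subgroup.card_mul_index K
      rw [hK, hk] at h1
      have h2 : Nat.card K = j := by omega
      rw [h2]
      have hj3 : 2 ≤ j := by omega
      have : j * 4 ≤ j * j ^ 2 := Nat.mul_le_mul_left _ (by nlinarith)
      have e : j ^ 3 = j * j ^ 2 := by ring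
      omega
  have : Fact (Nat.Prime 2) := ⟨Nat.prime_two⟩
  have hdvd : 2 ∣ Nat.card G := by rw [hk, hj2]; exact dvd_mul_right 2 j
  rcases Nat.even_or_odd (Nat.card (Subgroup.center G)) with hZ | hZ
  · -- central involution
    obtain ⟨z, hz⟩ := exists_prime_orderOf_dvd_card' (G := Subgroup.center G) 2
      (even_iff_two_dvd.mp hZ)
    have hzG : orderOf (z : G) = 2 := by rw [Subgroup.orderOf_coe, hz]
    have hN : (Subgroup.zpowers (z : G)).Normal := zpowers_normal_of_mem_center _ z.2
    have hNcard : Nat.card (Subgroup.zpowers (z : G)) = 2 := by rw [Nat.card_zpowers, hzG]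
    have hidx : (Subgroup.zpowers (z : G)).index = j := by
      have := Subgroup.card_mul_index (Subgroup.zpowers (z : G))
      rw [hNcard, hk] at this
      omega
    by_cases hj4 : j = 2
    · refine ⟨Subgroup.zpowers (z : G), ?_, ?_⟩
      · intro h
        rw [h, Subgroup.index_top] at hidx
        omega
      · rw [hNcard]; omega
    · have hQcard : Nat.card (G ⧸ Subgroup.zpowers (z : G)) = j := by
        rw [← Subgroup.index_eq_card, hidx]
      have hjgt : 2 < j := by
        obtain ⟨i, hi⟩ := hjeven
        omega
      obtain ⟨Hbar, hHbar, hlt⟩ := ih j (by omega) (G ⧸ Subgroup.zpowers (z : G)) hQcard hjeven hjgt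
      have hsurj : Function.Surjective (QuotientGroup.mk' (Subgroup.zpowers (z : G))) :=
        QuotientGroup.mk'_surjective _
      have hidx' := Subgroup.index_comap_of_surjective Hbar hsurj
      refine ⟨Hbar.comap (QuotientGroup.mk' (Subgroup.zpowers (z : G))), ?_, ?_⟩
      · intro h
        rw [h, Subgroup.index_top] at hidx'
        exact hHbar (Subgroup.index_eq_one.mp hidx'.symm)
      · have h1 := Subgroup.card_mul_index (Hbar.comap (QuotientGroup.mk' (Subgroup.zpowers (z : G))))
        have h2 := Subgroup.card_mul_index Hbar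
        rw [hidx', hk] at h1
        rw [hQcard] at h2
        have hipos : 0 < Hbar.index := by
          rcases Nat.eq_zero_or_pos Hbar.index with h0 | h0
          · rw [h0, mul_zero] at h2; omega
          · exact h0
        have h3 : Nat.card (Hbar.comap (QuotientGroup.mk' (Subgroup.zpowers (z : G)))) =
            2 * Nat.card Hbar := by
          apply Nat.eq_of_mul_eq_mul_right hipos
          rw [h1, mul_assoc, h2, hj2]
        rw [h3]
        have e : (2 * Nat.card Hbar) ^ 3 = 8 * Nat.card Hbar ^ 3 := by ring
        omega
  · -- no central involution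
    have heven' : Even (Nat.card G) := even_iff_two_dvd.mpr hdvd
    obtain ⟨t, ht⟩ := exists_prime_orderOf_dvd_card' (G := G) 2 hdvd
    obtain ⟨H, hH, h2 | hlt⟩ := Cfsg.Agent.S0233.result heven' hZ
    · refine ⟨H, hH, ?_⟩
      have h1 := Subgroup.card_mul_index H
      rw [h2, hk] at h1
      have h2 : Nat.card H = j := by omega
      rw [h2]
      have hj3 : 2 ≤ j := by omega
      have : j * 4 ≤ j * j ^ 2 := Nat.mul_le_mul_left _ (by nlinarith)
      have e : j ^ 3 = j * j ^ 2 := by ring
      omega
    · set c := Nat.card (Subgroup.centralizer ({t} : Set G)) with hc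
      have hcpos : 0 < c := Nat.card_pos
      by_cases hc3 : k < c ^ 3
      · refine ⟨Subgroup.centralizer ({t} : Set G), ?_, hc3⟩
        intro htop
        have htc : t ∈ Subgroup.center G := by
          rw [Subgroup.mem_center_iff]
          intro g
          have hg : g ∈ Subgroup.centralizer ({t} : Set G) := by rw [htop]; exact Subgroup.mem_top g
          rw [Subgroup.mem_centralizer_iff] at hg
          exact (hg t rfl).symm
        have h2 : orderOf (⟨t, htc⟩ : Subgroup.center G) = 2 := by
          rw [← ht]
          exact Subgroup.orderOf_mk t htc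
        have hdvd' : 2 ∣ Nat.card (Subgroup.center G) := by
          rw [← h2]; exact orderOf_dvd_natCard _
        exact (Nat.not_even_iff_odd.mpr hZ) (even_iff_two_dvd.mpr hdvd')
      · refine ⟨H, hH, ?_⟩
        have hk' := Cfsg.Agent.S0212.card_le_invs_mul_cent t ht
        rw [← hc, hk] at hk'
        rw [hk] at hlt
        set n := Nat.card {s : G // orderOf s = 2} with hn
        have hnpos : 0 < n := by
          rw [hn]
          have : Nonempty {s : G // orderOf s = 2} := ⟨⟨t, ht⟩⟩
          exact Nat.card_pos
        have h4 : k * (k + n) ≤ n ^ 2 * (c * (c + 1)) := by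
          calc k * (k + n) ≤ (n * c) * (n * c + n) :=
                Nat.mul_le_mul hk' (Nat.add_le_add_right hk' n)
            _ = n ^ 2 * (c * (c + 1)) := by ring
        have h5 : n ^ 2 * (2 * H.index) < n ^ 2 * (c * (c + 1)) := by
          calc n ^ 2 * (2 * H.index) = 2 * H.index * n ^ 2 := by ring
            _ < k * (k + n) := hlt
            _ ≤ _ := h4
        have h6 : 2 * H.index < c * (c + 1) := Nat.lt_of_mul_lt_mul_left h5
        have h7 : H.index < c ^ 2 := by nlinarith
        have h8 := Subgroup.card_mul_index H
        rw [hk] at h8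
        set a := Nat.card H with ha
        have hapos : 0 < a := Nat.card_pos
        have hca : c < a := by
          by_contra hle
          have hle : a ≤ c := Nat.le_of_not_lt hle
          have : a * H.index < c * c ^ 2 :=
            lt_of_le_of_lt (Nat.mul_le_mul_right _ hle) (Nat.mul_lt_mul_of_pos_left h7 hcpos)
          have e : c ^ 3 = c * c ^ 2 := by ring
          omega
        have h9 : H.index < a ^ 2 := lt_trans h7 (Nat.pow_lt_pow_left hca (by norm_num))
        calc k = a * H.index := h8.symm
          _ < a * a ^ 2 := Nat.mul_lt_mul_of_pos_left h9 hapos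
          _ = a ^ 3 := by ring


/-- A finite group G of even order greater than 2 has a proper subgroup H with |G| < |H|^3. -/
theorem result {G : Type*} [Group G] [Finite G] (heven : Even (Nat.card G)) (hgt : 2 < Nat.card G) : ∃ H : Subgroup G, H ≠ ⊤ ∧ Nat.card G < (Nat.card H) ^ 3 := by
  exact main (Nat.card G) G rfl heven hgt

end Cfsg.Agent.S0232
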