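import Cfsg.Statements.S0234
import Cfsg.Agent.S0212
import Cfsg.Agent.S4337

set_option autoImplicit false
open Cfsg

namespace Cfsg.Agent.S0234

open Equiv

/-- number of involutions in `A₅` -/
theorem card_invol_A5 :
    Nat.card {t : alternatingGroup (Fin 5) // orderOf t = 2} = 15 := by
  have h1 : (Finset.univ.filter fun t : alternatingGroup (Fin 5) => t ≠ 1 ∧ t * t = 1).card = 15 := by
    decide +kernel
  rw [Nat.card_eq_fintype_card, Fintype.card_subtype, ← h1]
  congr 1
  apply Finset.filter_congr
  intro t _
  have : Fact (Nat.Prime 2) := ⟨Nat.prime_two⟩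
  constructor
  · intro h
    refine ⟨?_, ?_⟩
    · rintro rfl
      rw [orderOf_one] at h; omega
    · rw [← pow_two, ← h]; exact pow_orderOf_eq_one t
  · rintro ⟨h1, h2⟩
    exact orderOf_eq_prime (by rw [pow_two]; exact h2) h1

/-- A simple group of even order `> 2` is not commutative. -/
theorem not_comm {G : Type*} [Group G] [Finite G] [IsSimpleGroup G] (heven : Even (Nat.card G))
    (hgt : 2 < Nat.card G) : ¬ ∀ a b : G, a * b = b * a := by
  intro hcomm
  have : Fact (Nat.Prime 2) := ⟨Nat.prime_two⟩
  obtain ⟨t, ht⟩ := exists_prime_orderOf_dvd_card' (G := G) 2 (even_iff_two_dvd.mp heven)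
  have hN : (Subgroup.zpowers t).Normal := by
    constructor
    intro n hn g
    have : g * n * g⁻¹ = n := by rw [hcomm g n]; group
    rw [this]; exact hn
  have hcard : Nat.card (Subgroup.zpowers t) = 2 := by rw [Nat.card_zpowers, ht]
  rcases hN.eq_bot_or_eq_top with h | h
  · rw [h, Subgroup.card_bot] at hcard; omega
  · rw [h, Subgroup.card_top] at hcard; omega

/-- A non-commutative simple group has no proper subgroup of index `≤ 4`. -/
theorem five_le_index {G : Type*} [Group G] [Finite G] [IsSimpleGroup G]
    (hnc : ¬ ∀ a b : G, a * b = b * a) (H : Subgroup G) (hH : H ≠ ⊤) : 5 ≤ H.index := by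
  by_contra hlt
  apply hnc
  rw [IsSimpleGroup.comm_iff_isSolvable]
  have : Fintype (G ⧸ H) := Fintype.ofFinite _
  have hcard : Fintype.card (G ⧸ H) ≤ 4 := by
    rw [← Nat.card_eq_fintype_card, ← Subgroup.index_eq_card]; omega
  have h3 := Cfsg.Agent.S4337.derivedSeries_perm_small hcard
  exact ⟨⟨3, Cfsg.Agent.S4337.derivedSeries_eq_bot_of_injective _
    (Cfsg.Agent.S0212.toPermHom_injective H hH) 3 h3⟩⟩

/-- A non-commutative simple group with a subgroup of index 5 is isomorphic to `A₅`. -/
theorem mulEquiv_A5 {G : Type*} [Group G] [Finite G] [IsSimpleGroup G]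
    (heven : Even (Nat.card G))
    (hnc : ¬ ∀ a b : G, a * b = b * a) (H : Subgroup G) (hH : H.index = 5) :
    Nonempty (G ≃* alternatingGroup (Fin 5)) := by
  have hHtop : H ≠ ⊤ := by
    intro h; rw [h, Subgroup.index_top] at hH; omega
  have hc5 : Nat.card (G ⧸ H) = 5 := by rw [← Subgroup.index_eq_card, hH]
  let e : (G ⧸ H) ≃ Fin 5 := Finite.equivFinOfCardEq hc5
  let f : G →* Perm (Fin 5) := (e.permCongrHom.toMonoidHom).comp (MulAction.toPermHom G (G ⧸ H))
  have hf : Function.Injective f := by
    intro a b hab
    apply Cfsg.Agent.S0212.toPermHom_injective H hHtop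
    exact e.permCongrHom.injective hab
  -- the sign is trivial
  have hsign : ∀ g : G, Perm.sign (f g) = 1 := by
    let s : G →* ℤˣ := (Perm.sign).comp f
    rcases (inferInstance : s.ker.Normal).eq_bot_or_eq_top with h | h
    · exfalso
      apply hnc
      have hs : Function.Injective s := (MonoidHom.ker_eq_bot_iff s).mp h
      intro a b
      apply hs
      rw [map_mul, map_mul, mul_comm]
    · intro g
      have : g ∈ s.ker := by rw [h]; exact Subgroup.mem_top g
      exact MonoidHom.mem_ker.mp this
  let f' : G →* alternatingGroup (Fin 5) :=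
    f.codRestrict _ (fun g => Perm.mem_alternatingGroup.mpr (hsign g))
  have hf' : Function.Injective f' := by
    intro a b hab
    apply hf
    exact congrArg Subtype.val hab
  have hA : Nat.card (alternatingGroup (Fin 5)) = 60 := by
    rw [nat_card_alternatingGroup, Nat.card_eq_fintype_card, Fintype.card_fin]
    decide
  have hKcard : Nat.card f'.range = Nat.card G :=
    (Nat.card_congr (MonoidHom.ofInjective hf').toEquiv).symm
  have h5 : 5 ∣ Nat.card G := by rw [← hH]; exact Subgroup.index_dvd_card H
  have hKi := Subgroup.card_mul_index f'.range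
  rw [hA, hKcard] at hKi
  have hm60 : Nat.card G = 60 := by
    by_cases htop : f'.range = ⊤
    · rw [htop, Subgroup.index_top] at hKi; omega
    · exfalso
      have hfac := Cfsg.Agent.S0212.card_le_factorial_index f'.range htop
      rw [hA] at hfac
      obtain ⟨a, ha⟩ := h5
      obtain ⟨b, hb⟩ := heven
      -- card G * index = 60
      have hidx : f'.range.index ≤ 6 := by
        by_contra hgt
        have : 7 ≤ f'.range.index := by omega
        have h10 : 10 ≤ Nat.card G := by
          have hpos : 0 < Nat.card G := Nat.card_pos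
          omega
        nlinarith
      have hidx5 : 5 ≤ f'.range.index := by
        by_contra hlt
        have h4 : f'.range.index ≤ 4 := by omega
        have := Nat.factorial_le h4
        have e4 : Nat.factorial 4 = 24 := by decide
        omega
      -- so index = 5 or 6; card G = 12 or 10
      have hcases : Nat.card G = 10 := by
        have h56 : f'.range.index = 5 ∨ f'.range.index = 6 := by omega
        rcases h56 with h | h
        · rw [h] at hKi; omega
        · rw [h] at hKi; omega
      -- order 10: Sylow 5 normal
      have : Fact (Nat.Prime 5) := ⟨by norm_num⟩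
      obtain ⟨y, hy⟩ := exists_prime_orderOf_dvd_card' (G := G) 5 ⟨a, ha⟩
      have hcard : Nat.card (Subgroup.zpowers y) = 5 := by rw [Nat.card_zpowers, hy]
      have hi2 : (Subgroup.zpowers y).index = 2 := by
        have := Subgroup.card_mul_index (Subgroup.zpowers y)
        rw [hcard, hcases] at this
        omega
      have hN := Subgroup.normal_of_index_eq_two hi2
      rcases hN.eq_bot_or_eq_top with h | h
      · rw [h, Subgroup.card_bot] at hcard; omega
      · rw [h, Subgroup.card_top] at hcard; omega
  have hbij : Function.Bijective f' := by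
    rw [Nat.bijective_iff_injective_and_card]
    exact ⟨hf', by rw [hm60, hA]⟩
  exact ⟨MulEquiv.ofBijective f' hbij⟩


/-- In a finite simple group G of even order greater than 2, the number n of involutions satisfies 3n < |G|. -/
theorem result {G : Type*} [Group G] [Finite G] [IsSimpleGroup G] (heven : Even (Nat.card G)) (hgt : 2 < Nat.card G) : 3 * Nat.card {t : G // orderOf t = 2} < Nat.card G := by
  by_contra hle
  have hle : Nat.card G ≤ 3 * Nat.card {t : G // orderOf t = 2} := Nat.le_of_not_lt hle
  have hnc := not_comm heven hgt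
  have hcenter : Subgroup.center G = ⊥ := by
    rcases (inferInstance : (Subgroup.center G).Normal).eq_bot_or_eq_top with h | h
    · exact h
    · exfalso
      apply hnc
      intro a b
      have hb : b ∈ Subgroup.center G := by rw [h]; exact Subgroup.mem_top b
      exact ((Subgroup.mem_center_iff.mp hb) a)
  have hZ : Odd (Nat.card (Subgroup.center G)) := by
    rw [hcenter, Subgroup.card_bot]; exact odd_one
  obtain ⟨H, hH, h2 | hlt⟩ := Cfsg.Agent.S0233.result heven hZ
  · have := five_le_index hnc H hH
    omega
  · have h5 := five_le_index hnc H hH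
    set n := Nat.card {t : G // orderOf t = 2} with hn
    set m := Nat.card G with hm
    have h1 : m * (m + n) ≤ (3 * n) * (3 * n + n) :=
      Nat.mul_le_mul hle (Nat.add_le_add_right hle n)
    have h6 : H.index < 6 := by
      by_contra hge
      have hge : 6 ≤ H.index := Nat.le_of_not_lt hge
      have : 2 * 6 * n ^ 2 ≤ 2 * H.index * n ^ 2 :=
        Nat.mul_le_mul_right _ (Nat.mul_le_mul_left _ hge)
      nlinarith
    have hidx : H.index = 5 := by omega
    obtain ⟨e⟩ := mulEquiv_A5 heven hnc H hidx
    have hm60 : m = 60 := by
      rw [hm, Nat.card_congr e.toEquiv, nat_card_alternatingGroup, Nat.card_eq_fintype_card,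
        Fintype.card_fin]
      decide
    have hn15 : n = 15 := by
      rw [hn, ← card_invol_A5]
      exact Nat.card_congr (e.toEquiv.subtypeEquiv (fun t => by
        rw [MulEquiv.toEquiv_eq_coe, MulEquiv.coe_toEquiv, MulEquiv.orderOf_eq]))
    omega

end Cfsg.Agent.S0234
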