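import Cfsg.Statements.S0238
import Mathlib
import Cfsg.Agent.Lib.Helper2.Count

set_option autoImplicit false
open Cfsg

namespace Cfsg.Agent.S0238

open Cfsg.Agent.Lib.Helper2 in
theorem card_pairs_le {G : Type*} [Group G] [Finite G] (x : G) :
    Nat.card {p : G × G // orderOf p.1 = 2 ∧ orderOf p.2 = 2 ∧ p.1 * p.2 = x} ≤
      Nat.card {g : G // g * x * g⁻¹ = x⁻¹} := by
  rw [Nat.card_congr (pairsEquiv x)]
  refine Nat.card_le_card_of_injective
    (fun u : {u : G // orderOf u = 2 ∧ orderOf (u * x) = 2} =>
      (⟨u.1, inverts_of_pair u.2.1 u.2.2⟩ : {g : G // g * x * g⁻¹ = x⁻¹})) ?_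
  intro a b h
  ext
  simpa using congrArg Subtype.val h


/-- For every x in a finite group G, the number c of ordered pairs (u, v) of involutions with uv = x is at most |C_G(x)|; c = 0 when x is not conjugate to x⁻¹; and c + 2 ≤ |C_G(x)| when x is an involution. -/
theorem result {G : Type*} [Group G] [Finite G] (x : G) : Nat.card {p : G × G // orderOf p.1 = 2 ∧ orderOf p.2 = 2 ∧ p.1 * p.2 = x} ≤ Nat.card (Subgroup.centralizer ({x} : Set G)) ∧ (¬ IsConj x x⁻¹ → Nat.card {p : G × G // orderOf p.1 = 2 ∧ orderOf p.2 = 2 ∧ p.1 * p.2 = x} = 0) ∧ (orderOf x = 2 → Nat.card {p : G × G // orderOf p.1 = 2 ∧ orderOf p.2 = 2 ∧ p.1 * p.2 = x} + 2 ≤ Nat.card (Subgroup.centralizer ({x} : Set G))) := by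
  have hle := card_pairs_le x
  refine ⟨?_, ?_, ?_⟩
  · by_cases hreal : IsConj x x⁻¹
    · rwa [Cfsg.Agent.Lib.Helper2.card_conj_eq_card_centralizer hreal] at hle
    · rw [Cfsg.Agent.Lib.Helper2.card_conj_eq_zero hreal] at hle
      omega
  · intro hreal
    rw [Cfsg.Agent.Lib.Helper2.card_conj_eq_zero hreal] at hle
    omega
  · intro hx
    have h1 := Cfsg.Agent.Lib.Helper2.card_pairs_add_one hx
    have h2 : Nat.card {t : G // orderOf t = 2 ∧ Commute t x} + 1 ≤
        Nat.card (Subgroup.centralizer ({x} : Set G)) := by
      rw [← Finite.card_option]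
      refine Nat.card_le_card_of_injective
        (fun o : Option {t : G // orderOf t = 2 ∧ Commute t x} =>
          match o with
          | none => (1 : Subgroup.centralizer ({x} : Set G))
          | some t => ⟨t.1, by
              rw [Subgroup.mem_centralizer_iff]
              intro y hy
              rw [Set.mem_singleton_iff] at hy
              subst hy
              exact (t.2.2).eq.symm⟩) ?_
      intro a b h
      cases a with
      | none =>
        cases b with
        | none => rfl
        | some t =>
          exfalso
          have := congrArg Subtype.val h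
          simp only [Subgroup.coe_one] at this
          exact Cfsg.Agent.Lib.Helper2.invol_ne_one t.2.1 this.symm
      | some s =>
        cases b with
        | none =>
          exfalso
          have := congrArg Subtype.val h
          simp only [Subgroup.coe_one] at this
          exact Cfsg.Agent.Lib.Helper2.invol_ne_one s.2.1 this
        | some t =>
          have := congrArg Subtype.val h
          simp only at this
          congr 1
          ext
          exact this
    omega

end Cfsg.Agent.S0238
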