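import Cfsg.Statements.S0239
import Mathlib
import Cfsg.Agent.Lib.Helper2.Dihedral

set_option autoImplicit false
open Cfsg

namespace Cfsg.Agent.S0239

/-- If some nontrivial element x of a finite group G is conjugate to x⁻¹, then |G| is even. -/
theorem result {G : Type*} [Group G] [Finite G] (x : G) (hx : x ≠ 1) (hreal : IsConj x x⁻¹) : Even (Nat.card G) := by
  by_contra hne
  have hodd : Odd (Nat.card G) := Nat.not_even_iff_odd.mp hne
  obtain ⟨g, hg⟩ := isConj_iff.mp hreal
  -- g^2 commutes with x
  have h2 : Commute (g ^ 2) x := by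
    have h1 : g * x⁻¹ * g⁻¹ = x := by
      have := congrArg (fun z => z⁻¹) hg
      simp only [mul_inv_rev, inv_inv] at this
      rw [← mul_assoc] at this
      exact this
    have : g ^ 2 * x * (g ^ 2)⁻¹ = x := by
      calc g ^ 2 * x * (g ^ 2)⁻¹ = g * (g * x * g⁻¹) * g⁻¹ := by rw [pow_two]; group
        _ = x := by rw [hg, h1]
    have h3 : g ^ 2 * x = x * g ^ 2 := by
      conv_rhs => rw [← this]
      group
    exact h3
  have hog : Odd (orderOf g) := by
    have hd : orderOf g ∣ Nat.card G := orderOf_dvd_natCard g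
    exact Odd.of_dvd_nat hodd hd
  obtain ⟨k, hk⟩ := hog
  have hgp : g = (g ^ 2) ^ (k + 1) := by
    rw [← pow_mul]
    have : 2 * (k + 1) = orderOf g + 1 := by omega
    rw [this, pow_succ, pow_orderOf_eq_one, one_mul]
  have hc : Commute g x := by
    rw [hgp]; exact h2.pow_left _
  have hx2 : x = x⁻¹ := by
    rw [← hg, hc.eq]; group
  have hxx : x * x = 1 := by
    conv_lhs => arg 1; rw [hx2]
    exact inv_mul_cancel x
  have ho := Cfsg.Agent.Lib.Helper2.orderOf_two_of hx hxx
  have hd : orderOf x ∣ Nat.card G := orderOf_dvd_natCard x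
  rw [ho] at hd
  exact hne (even_iff_two_dvd.mpr hd)

end Cfsg.Agent.S0239
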