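import Cfsg.Statements.S0240
import Mathlib
import Cfsg.Agent.Lib.Helper2.Count

set_option autoImplicit false
open Cfsg

namespace Cfsg.Agent.S0240

/-- Let G be a finite group with n involutions and H a subgroup with |H|·(n+1) > |G|. Then some nontrivial h ∈ H is strongly real in G: an involution t of G satisfies t h t⁻¹ = h⁻¹. -/
theorem result {G : Type*} [Group G] [Finite G] (H : Subgroup G) (hH : Nat.card G < Nat.card H * (Nat.card {t : G // orderOf t = 2} + 1)) : ∃ h : G, h ∈ H ∧ h ≠ 1 ∧ ∃ t : G, orderOf t = 2 ∧ t * h * t⁻¹ = h⁻¹ := by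
  classical
  -- pigeonhole on cosets
  let f : Option {t : G // orderOf t = 2} → G ⧸ H := fun o =>
    match o with
    | none => ((1 : G) : G ⧸ H)
    | some t => ((t.1 : G) : G ⧸ H)
  have hidx : Nat.card (G ⧸ H) < Nat.card (Option {t : G // orderOf t = 2}) := by
    rw [Finite.card_option]
    have h1 : Nat.card H * H.index = Nat.card G := Subgroup.card_mul_index H
    have h2 : Nat.card H * H.index < Nat.card H * (Nat.card {t : G // orderOf t = 2} + 1) := by
      rw [h1]; exact hH
    exact Nat.lt_of_mul_lt_mul_left h2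
  have hninj : ¬ Function.Injective f := fun hinj =>
    absurd (Nat.card_le_card_of_injective f hinj) (not_le.mpr hidx)
  obtain ⟨a, b, hf, hab⟩ := Function.not_injective_iff.mp hninj
  -- a symmetric statement
  have key : ∀ (a b : Option {t : G // orderOf t = 2}), a ≠ b → f a = f b →
      (∃ s : {t : G // orderOf t = 2}, a = some s) →
      ∃ h : G, h ∈ H ∧ h ≠ 1 ∧ ∃ t : G, orderOf t = 2 ∧ t * h * t⁻¹ = h⁻¹ := by
    intro a b hab hf ⟨s, hs⟩
    subst hs
    cases b with
    | none =>
      have h1 : ((s.1 : G) : G ⧸ H) = ((1 : G) : G ⧸ H) := hf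
      rw [QuotientGroup.eq] at h1
      have hsH : s.1 ∈ H := by
        have := H.inv_mem h1
        simpa using this
      refine ⟨s.1, hsH, Cfsg.Agent.Lib.Helper2.invol_ne_one s.2, s.1, s.2, ?_⟩
      rw [mul_inv_cancel_right, Cfsg.Agent.Lib.Helper2.invol_inv s.2]
    | some t =>
      have h1 : ((s.1 : G) : G ⧸ H) = ((t.1 : G) : G ⧸ H) := hf
      rw [QuotientGroup.eq] at h1
      have hst : s.1 ≠ t.1 := by
        intro h
        apply hab
        congr 1
        ext
        exact h
      have hsi := Cfsg.Agent.Lib.Helper2.invol_inv s.2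
      have hti := Cfsg.Agent.Lib.Helper2.invol_inv t.2
      refine ⟨s.1⁻¹ * t.1, h1, ?_, s.1, s.2, ?_⟩
      · intro h
        apply hst
        rw [inv_mul_eq_one] at h
        exact h
      · rw [mul_inv_rev, inv_inv, hsi, hti]
        rw [mul_assoc, mul_assoc, ← mul_assoc s.1 s.1,
          Cfsg.Agent.Lib.Helper2.invol_mul_self s.2, one_mul]
  cases a with
  | some s => exact key (some s) b hab hf ⟨s, rfl⟩
  | none =>
    cases b with
    | none => exact absurd rfl hab
    | some t => exact key (some t) none hab.symm hf.symm ⟨t, rfl⟩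

end Cfsg.Agent.S0240
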