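import Cfsg.Statements.S0241
import Mathlib
import Cfsg.Agent.Lib.Helper2.Count

set_option autoImplicit false
open Cfsg

namespace Cfsg.Agent.S0241

theorem sq_commute_of_inverts {G : Type*} [Group G] {g x : G} (hg : g * x * g⁻¹ = x⁻¹) :
    Commute (g ^ 2) x := by
  have h1 : g * x⁻¹ * g⁻¹ = x := by
    have := congrArg (fun z => z⁻¹) hg
    simp only [mul_inv_rev, inv_inv] at this
    rw [← mul_assoc] at this
    exact this
  have : g ^ 2 * x * (g ^ 2)⁻¹ = x := by
    calc g ^ 2 * x * (g ^ 2)⁻¹ = g * (g * x * g⁻¹) * g⁻¹ := by rw [pow_two]; group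
      _ = x := by rw [hg, h1]
  have h3 : g ^ 2 * x = x * g ^ 2 := by
    conv_rhs => rw [← this]
    group
  exact h3

theorem odd_pow_inverts {G : Type*} [Group G] {g x : G} (hg : g * x * g⁻¹ = x⁻¹) (m : ℕ)
    (hm : Odd m) : g ^ m * x * (g ^ m)⁻¹ = x⁻¹ := by
  obtain ⟨j, rfl⟩ := hm
  have hc : Commute ((g ^ 2) ^ j) x⁻¹ := ((sq_commute_of_inverts hg).pow_left j).inv_right
  have h1 : g ^ (2 * j + 1) = (g ^ 2) ^ j * g := by rw [pow_succ, pow_mul]
  rw [h1]
  calc (g ^ 2) ^ j * g * x * ((g ^ 2) ^ j * g)⁻¹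
      = (g ^ 2) ^ j * (g * x * g⁻¹) * ((g ^ 2) ^ j)⁻¹ := by group
    _ = (g ^ 2) ^ j * x⁻¹ * ((g ^ 2) ^ j)⁻¹ := by rw [hg]
    _ = x⁻¹ := by rw [hc.eq]; group


/-- If x ≠ 1 is conjugate to x⁻¹ in a finite group G and |C_G(x)| is odd, then some involution t satisfies t x t⁻¹ = x⁻¹. -/
theorem result {G : Type*} [Group G] [Finite G] (x : G) (hx : x ≠ 1) (hreal : IsConj x x⁻¹) (hodd : Odd (Nat.card (Subgroup.centralizer ({x} : Set G)))) : ∃ t : G, orderOf t = 2 ∧ t * x * t⁻¹ = x⁻¹ := by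
  obtain ⟨g, hg⟩ := isConj_iff.mp hreal
  have hopos : orderOf g ≠ 0 := (orderOf_pos g).ne'
  obtain ⟨a, m, hm, hom⟩ := Nat.exists_eq_two_pow_mul_odd hopos
  have ht := odd_pow_inverts hg m hm
  set t := g ^ m with htdef
  have hm0 : m ≠ 0 := by
    rintro rfl
    exact (Nat.not_odd_iff_even.mpr (by decide : Even 0)) hm
  have hot : orderOf t = 2 ^ a := by
    rw [htdef, orderOf_pow' _ hm0, hom]
    have : Nat.gcd (2 ^ a * m) m = m := by
      rw [Nat.gcd_comm]; exact Nat.gcd_eq_left (Dvd.intro_left _ rfl)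
    rw [this]
    exact Nat.mul_div_cancel _ (Nat.pos_of_ne_zero hm0)
  -- t^2 centralizes x
  have hc := sq_commute_of_inverts ht
  have hmem : t ^ 2 ∈ Subgroup.centralizer ({x} : Set G) := by
    rw [Subgroup.mem_centralizer_iff]
    intro y hy
    rw [Set.mem_singleton_iff] at hy
    subst hy
    exact hc.eq.symm
  have hd1 : orderOf (t ^ 2) ∣ Nat.card (Subgroup.centralizer ({x} : Set G)) :=
    Subgroup.orderOf_dvd_natCard _ hmem
  have hd2 : orderOf (t ^ 2) ∣ 2 ^ a := by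
    rw [← hot]; exact orderOf_pow_dvd 2
  have hodd2 : Odd (orderOf (t ^ 2)) := Odd.of_dvd_nat hodd hd1
  have h1 : orderOf (t ^ 2) = 1 := by
    obtain ⟨k, _, hk⟩ := (Nat.dvd_prime_pow Nat.prime_two).mp hd2
    rw [hk] at hodd2 ⊢
    rcases Nat.eq_zero_or_pos k with rfl | hkpos
    · rfl
    · exfalso
      have : Even (2 ^ k) := (Nat.even_pow.mpr ⟨even_two, hkpos.ne'⟩)
      exact (Nat.not_odd_iff_even.mpr this) hodd2
  have ht2 : t * t = 1 := by
    rw [← pow_two]; exact orderOf_eq_one_iff.mp h1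
  have htne : t ≠ 1 := by
    intro h
    rw [h] at ht
    simp only [one_mul, inv_one, mul_one] at ht
    -- x = x⁻¹ so x has order 2, dividing odd |C(x)|
    have hxx : x * x = 1 := by
      conv_lhs => arg 1; rw [ht]
      exact inv_mul_cancel x
    have ho := Cfsg.Agent.Lib.Helper2.orderOf_two_of hx hxx
    have hxm : x ∈ Subgroup.centralizer ({x} : Set G) := by
      rw [Subgroup.mem_centralizer_iff]
      intro y hy
      rw [Set.mem_singleton_iff] at hy
      subst hy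
      rfl
    have := Subgroup.orderOf_dvd_natCard _ hxm
    rw [ho] at this
    exact (Nat.not_odd_iff_even.mpr (even_iff_two_dvd.mpr this)) hodd
  exact ⟨t, Cfsg.Agent.Lib.Helper2.orderOf_two_of htne ht2, ht⟩

end Cfsg.Agent.S0241
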