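import Cfsg.Statements.S0255
import Mathlib
import Cfsg.Agent.Lib.Helper4.U168c
import Cfsg.Agent.Lib.Helper2.GLCard
import Cfsg.Agent.Lib.Helper2.SLGen

set_option autoImplicit false
open Cfsg

namespace Cfsg.Agent.S0255


/-- PSL_2(7) is isomorphic to PSL_3(2). -/
theorem result {F K : Type*} [Field F] [Fintype F] [Field K] [Fintype K] (hF : Fintype.card F = 7) (hK : Fintype.card K = 2) : Nonempty (Matrix.ProjectiveSpecialLinearGroup (Fin 2) F ≃* Matrix.ProjectiveSpecialLinearGroup (Fin 3) K) := by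
  have hcard := Cfsg.Agent.Lib.Helper2.card_PSL_field (F := F) 2 (by norm_num)
  rw [hF, Fin.prod_univ_two] at hcard
  norm_num at hcard
  have hsimple : IsSimpleGroup (Matrix.ProjectiveSpecialLinearGroup (Fin 2) F) :=
    Matrix.ProjectiveSpecialLinearGroup.rank_two_simple (by rw [Nat.card_eq_fintype_card, hF]; norm_num)
  have hcard' := Cfsg.Agent.Lib.Helper2.card_PSL_field (F := K) 3 (by norm_num)
  rw [hK, Fin.prod_univ_three] at hcard'
  norm_num at hcard'
  have hsimple' : IsSimpleGroup (Matrix.ProjectiveSpecialLinearGroup (Fin 3) K) :=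
    Cfsg.Agent.Lib.Helper2.psl_isSimpleGroup (by simp)
  exact Cfsg.Agent.Lib.Helper4.s168_mulEquiv (by omega) (by omega)

end Cfsg.Agent.S0255
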