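import Cfsg.Statements.S0257
import Mathlib
import Cfsg.Agent.Lib.Helper2.SL2Quat
import Cfsg.Agent.S0261
import Cfsg.Agent.S0251

set_option autoImplicit false
open Cfsg

namespace Cfsg.Agent.S0257

/-- SL_2(3) has a normal subgroup of index 3 isomorphic to the quaternion group of order 8, and its centre has order 2. -/
theorem result {F : Type*} [Field F] [Fintype F] (hF : Fintype.card F = 3) : (∃ Q : Subgroup (Matrix.SpecialLinearGroup (Fin 2) F), Q.Normal ∧ Q.index = 3 ∧ Nonempty (Q ≃* QuaternionGroup 2)) ∧ Nat.card (Subgroup.center (Matrix.SpecialLinearGroup (Fin 2) F)) = 2 := by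
  classical
  have hF2 : Fact (Nat.Prime 2) := ⟨Nat.prime_two⟩
  have hcard : Nat.card (Matrix.SpecialLinearGroup (Fin 2) F) = 24 := by
    rw [Cfsg.Agent.Lib.Helper2.card_SL2, hF]
  have hfac : (24 : ℕ).factorization 2 = 3 := by
    have := Cfsg.Agent.Lib.Helper2.factorization_two_pow_mul_odd 3 3 (by decide)
    exact this
  refine ⟨?_, ?_⟩
  · obtain ⟨e⟩ := Cfsg.Agent.S0251.result hF
    let φ : Matrix.SpecialLinearGroup (Fin 2) F →* alternatingGroup (Fin 4) :=
      e.toMonoidHom.comp (QuotientGroup.mk' (Subgroup.center (Matrix.SpecialLinearGroup (Fin 2) F)))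
    have hφ : Function.Surjective φ := by
      intro y
      obtain ⟨x, hx⟩ := QuotientGroup.mk'_surjective
        (Subgroup.center (Matrix.SpecialLinearGroup (Fin 2) F)) (e.symm y)
      exact ⟨x, by show e (QuotientGroup.mk' _ x) = y; rw [hx, e.apply_symm_apply]⟩
    have h4 : Nat.card (Fin 4) = 4 := by simp
    have hVn : (alternatingGroup.kleinFour (Fin 4)).Normal := alternatingGroup.normal_kleinFour h4
    have hVc := alternatingGroup.kleinFour_card_of_card_eq_four h4
    have hAc := alternatingGroup.card_of_card_eq_four h4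
    have hVi : (alternatingGroup.kleinFour (Fin 4)).index = 3 := by
      have := Subgroup.card_mul_index (alternatingGroup.kleinFour (Fin 4))
      rw [hVc, hAc] at this
      omega
    set N := (alternatingGroup.kleinFour (Fin 4)).comap φ with hN
    have hNn : N.Normal := hVn.comap φ
    have hNi : N.index = 3 := by
      rw [hN, Subgroup.index_comap_of_surjective _ hφ, hVi]
    have hNc : Nat.card N = 8 := by
      have := Subgroup.card_mul_index N
      rw [hNi, hcard] at this
      omega
    have hNc' : Nat.card N =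
        2 ^ (Nat.card (Matrix.SpecialLinearGroup (Fin 2) F)).factorization 2 := by
      rw [hNc, hcard, hfac]; rfl
    obtain ⟨k, hk, ⟨f⟩⟩ := Cfsg.Agent.S0261.result (by rw [hF]; decide) (Sylow.ofCard N hNc')
    have hk1 : k = 1 := by
      have hq : Nat.card (QuaternionGroup (2 ^ k)) = 4 * 2 ^ k := by
        have : NeZero (2 ^ k) := ⟨by positivity⟩
        rw [Nat.card_eq_fintype_card]
        exact QuaternionGroup.card
      have h1 := Nat.card_congr f.toEquiv
      rw [hq, Sylow.coe_ofCard, hNc] at h1
      have h3 : 2 ^ k = 2 ^ 1 := by omega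
      exact Nat.pow_right_injective (le_refl 2) h3
    subst hk1
    exact ⟨N, hNn, hNi, ⟨f⟩⟩
  · rw [Cfsg.Agent.Lib.Helper2.card_center_SL_field 2 (by norm_num), hF]; rfl

end Cfsg.Agent.S0257
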