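import Cfsg.Statements.S0263
import Mathlib

set_option autoImplicit false
open Cfsg

namespace Cfsg.Agent.S0263

theorem prod_split (q n : ℕ) :
    ∏ i : Fin n, (q ^ n - q ^ (i : ℕ)) = q ^ (n * (n - 1) / 2) * ∏ i : Fin n, (q ^ (n - (i : ℕ)) - 1) := by
  have h1 : ∀ i : Fin n, q ^ n - q ^ (i : ℕ) = q ^ (i : ℕ) * (q ^ (n - (i : ℕ)) - 1) := by
    intro i
    rw [Nat.mul_sub, mul_one, ← pow_add, Nat.add_sub_cancel' (le_of_lt i.2)]
  simp_rw [h1]
  rw [Finset.prod_mul_distrib, Finset.prod_pow_eq_pow_sum]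
  congr 2
  rw [Fin.sum_univ_eq_sum_range (fun i => i) n, Finset.sum_range_id]

theorem not_dvd_prod (p q n : ℕ) (hp : p.Prime) (hpq : p ∣ q) (hq0 : 0 < q) :
    ¬ p ∣ ∏ i : Fin n, (q ^ (n - (i : ℕ)) - 1) := by
  intro h
  rw [Prime.dvd_finsetProd_iff (Nat.prime_iff.mp hp)] at h
  obtain ⟨i, _, hi⟩ := h
  have hk : n - (i : ℕ) ≠ 0 := by have := i.2; omega
  have h1 : p ∣ q ^ (n - (i : ℕ)) := dvd_trans hpq (dvd_pow_self q hk)
  have hpos : 1 ≤ q ^ (n - (i : ℕ)) := Nat.one_le_pow _ _ hq0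
  have h2 : p ∣ q ^ (n - (i : ℕ)) - (q ^ (n - (i : ℕ)) - 1) := Nat.dvd_sub h1 hi
  have h3 : q ^ (n - (i : ℕ)) - (q ^ (n - (i : ℕ)) - 1) = 1 := by omega
  rw [h3] at h2
  exact hp.one_lt.ne' (Nat.dvd_one.mp h2)


/-- A Sylow p-subgroup of GL_n(q), p the characteristic, has order q^(n(n-1)/2). -/
theorem result {F : Type*} [Field F] [Fintype F] {q : ℕ} (hF : Fintype.card F = q) (p : ℕ) [Fact p.Prime] [CharP F p] (n : ℕ) (P : Sylow p (Matrix.GeneralLinearGroup (Fin n) F)) : Nat.card P = q ^ (n * (n - 1) / 2) := by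
  have hp : p.Prime := Fact.out
  obtain ⟨f, _, hf⟩ := FiniteField.card F p
  rw [hF] at hf
  have hcard := Matrix.card_GL_field (𝔽 := F) n
  rw [hF, prod_split] at hcard
  rw [Sylow.card_eq_multiplicity, hcard]
  have hpq : p ∣ q := by rw [hf]; exact dvd_pow_self p f.ne_zero
  have hq0 : q ≠ 0 := by rw [hf]; exact pow_ne_zero _ hp.ne_zero
  have hnd := not_dvd_prod p q n hp hpq (Nat.pos_of_ne_zero hq0)
  have hr0 : ∏ i : Fin n, (q ^ (n - (i : ℕ)) - 1) ≠ 0 := by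
    intro h; apply hnd; rw [h]; exact dvd_zero p
  rw [Nat.factorization_mul (pow_ne_zero _ hq0) hr0]
  simp only [Finsupp.coe_add, Pi.add_apply]
  rw [Nat.factorization_eq_zero_of_not_dvd hnd, add_zero, Nat.factorization_pow]
  simp only [Finsupp.coe_smul, Pi.smul_apply, smul_eq_mul]
  rw [hf, hp.factorization_pow]
  simp only [Finsupp.single_eq_same]
  rw [← pow_mul, mul_comm]

end Cfsg.Agent.S0263
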