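import Cfsg.Statements.S0264
import Mathlib
import Cfsg.Agent.Lib.Helper2.SLGen
import Cfsg.Agent.Lib.Helper2.GLCard

set_option autoImplicit false
open Cfsg

namespace Cfsg.Agent.S0264

open Matrix

section
variable {F : Type*} [Field F] {ι : Type*} [DecidableEq ι] [Fintype ι]

/-- diagonal matrix with `a` in position `i` as an element of `GL` -/
noncomputable def diagGL (i : ι) (a : F) (ha : a ≠ 0) : GL ι F where
  val := diagonal (fun k => if k = i then a else 1)
  inv := diagonal (fun k => if k = i then a⁻¹ else 1)
  val_inv := by
    rw [diagonal_mul_diagonal, ← diagonal_one]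
    congr 1
    funext k
    by_cases h : k = i <;> simp [h, ha]
  inv_val := by
    rw [diagonal_mul_diagonal, ← diagonal_one]
    congr 1
    funext k
    by_cases h : k = i <;> simp [h, ha]

theorem diagGL_mul_transvection {i j : ι} (hij : i ≠ j) (a : F) (ha : a ≠ 0) (b : F) :
    diagGL i a ha * SpecialLinearGroup.toGL (SpecialLinearGroup.transvection hij b) =
      SpecialLinearGroup.toGL (SpecialLinearGroup.transvection hij (a * b)) * diagGL i a ha := by
  apply Units.ext
  show diagonal (fun k => if k = i then a else 1) * (1 + single i j b : Matrix ι ι F) =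
    (1 + single i j (a * b)) * diagonal (fun k => if k = i then a else 1)
  ext k l
  rw [Matrix.diagonal_mul, Matrix.mul_diagonal]
  simp only [Matrix.add_apply, Matrix.one_apply, Matrix.single_apply]
  by_cases hki : i = k <;> by_cases hkj : j = k <;> by_cases hli : i = l <;>
    by_cases hlj : j = l <;> simp_all [eq_comm]

open scoped commutatorElement in
theorem transvection_eq_commutator_GL {i j : ι} (hij : i ≠ j) (a : F) (ha : a ≠ 0) (b : F) :
    SpecialLinearGroup.toGL (SpecialLinearGroup.transvection hij ((a - 1) * b)) =
      ⁅diagGL i a ha, SpecialLinearGroup.toGL (SpecialLinearGroup.transvection hij b)⁆ := by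
  rw [commutatorElement_def, diagGL_mul_transvection hij a ha b, mul_assoc _ (diagGL i a ha),
    mul_inv_cancel, mul_one, ← map_inv, SpecialLinearGroup.transvection_inv, ← map_mul,
    ← SpecialLinearGroup.transvection_add]
  congr 2
  ring

end

theorem toGL_mem_commutator {F : Type*} [Field F] (n : ℕ) (h : n = 2 → ∃ a : F, a ≠ 0 ∧ a ≠ 1)
    (s : SpecialLinearGroup (Fin n) F) :
    SpecialLinearGroup.toGL s ∈ commutator (GL (Fin n) F) := by
  rcases Nat.lt_or_ge n 2 with hn | hn
  · -- SL_n trivial
    have hs : s = 1 := by
      ext i j
      interval_cases n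
      · exact i.elim0
      · have hi : i = 0 := Subsingleton.elim _ _
        have hj : j = 0 := Subsingleton.elim _ _
        subst hi; subst hj
        have := s.det_coe
        rw [Matrix.det_fin_one] at this
        simpa using this
    rw [hs, map_one]
    exact Subgroup.one_mem _
  · have hnt : Nontrivial (Fin n) := Fin.nontrivial_iff_two_le.mpr hn
    refine Cfsg.Agent.Lib.Helper2.sl_transvection_induction
      (fun s => SpecialLinearGroup.toGL s ∈ commutator (GL (Fin n) F)) ?_ ?_ s
    · intro i j hij c
      rcases Nat.lt_or_ge n 3 with h3 | h3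
      · have hn2 : n = 2 := by omega
        obtain ⟨a, ha0, ha1⟩ := h hn2
        have ha1' : a - 1 ≠ 0 := sub_ne_zero.mpr ha1
        have hc : c = (a - 1) * (c / (a - 1)) := by field_simp
        rw [hc, transvection_eq_commutator_GL hij a ha0]
        exact Subgroup.commutator_mem_commutator (Subgroup.mem_top _) (Subgroup.mem_top _)
      · obtain ⟨k, hk⟩ : ∃ k : Fin n, k ≠ i ∧ k ≠ j := by
          by_contra hne
          push Not at hne
          have : Fintype.card (Fin n) ≤ 2 := by
            classical
            have hsub : (Finset.univ : Finset (Fin n)) ⊆ {i, j} := by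
              intro k _
              by_cases hki : k = i
              · simp [hki]
              · simp [hne k hki]
            calc Fintype.card (Fin n) = (Finset.univ : Finset (Fin n)).card := rfl
              _ ≤ ({i, j} : Finset (Fin n)).card := Finset.card_le_card hsub
              _ ≤ 2 := Finset.card_le_two
          rw [Fintype.card_fin] at this
          omega
        rw [Cfsg.Agent.Lib.Helper2.transvection_eq_commutator hij hk.1.symm hk.2 c,
          map_commutatorElement]
        exact Subgroup.commutator_mem_commutator (Subgroup.mem_top _) (Subgroup.mem_top _)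
    · intro A B hA hB
      rw [map_mul]
      exact Subgroup.mul_mem _ hA hB


/-- GL_n(F)' = SL_n(F) (as the kernel of det), for every field F and every n, except n = 2 over the field of two elements. -/
theorem result {F : Type*} [Field F] (n : ℕ) (h : n = 2 → ∃ a : F, a ≠ 0 ∧ a ≠ 1) : commutator (Matrix.GeneralLinearGroup (Fin n) F) = (Matrix.GeneralLinearGroup.det : Matrix.GeneralLinearGroup (Fin n) F →* Fˣ).ker := by
  apply le_antisymm
  · exact Abelianization.commutator_subset_ker _
  · intro g hg
    rw [← Cfsg.Agent.Lib.Helper2.range_toGL_eq_ker_det] at hg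
    obtain ⟨s, rfl⟩ := hg
    exact toGL_mem_commutator n h s

end Cfsg.Agent.S0264
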