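import Cfsg.Statements.S0266
import Cfsg.Agent.Lib.Helper9.Moeb3

set_option autoImplicit false
open scoped MatrixGroups
open Cfsg

namespace Cfsg.Agent.S0266

/-- PGL_2(F) is sharply 3-transitive on the projective line: it is 3-transitive and the stabiliser of three distinct points is trivial. -/
theorem result {F : Type*} [Field F] : MulAction.IsMultiplyPretransitive (Matrix.ProjGenLinGroup (Fin 2) F) (Projectivization F (Fin 2 → F)) 3 ∧ ∀ (g : Matrix.ProjGenLinGroup (Fin 2) F) (a b c : Projectivization F (Fin 2 → F)), a ≠ b → a ≠ c → b ≠ c → g • a = a → g • b = b → g • c = c → g = 1 := by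
  open Cfsg.Agent.Lib.Helper9.Moeb in
  have hsm : ∀ (M : GL (Fin 2) F) (p : Projectivization F (Fin 2 → F)),
      (Matrix.ProjGenLinGroup.mk M : Matrix.ProjGenLinGroup (Fin 2) F) • p = M • p := by
    intro M p
    induction p using Projectivization.ind with
    | h v hv => rfl
  refine ⟨?_, ?_⟩
  · apply isMultiplyPretransitive_three
    intro a b c a' b' c' hab hac hbc hab' hac' hbc'
    obtain ⟨M, h1, h2, h3⟩ := exists_smul_proj hab hac hbc hab' hac' hbc'
    exact ⟨Matrix.ProjGenLinGroup.mk M, by rw [hsm, h1], by rw [hsm, h2], by rw [hsm, h3]⟩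
  · intro g a b c hab hac hbc ha hb hc
    induction g using Matrix.ProjGenLinGroup.induction_on with
    | mk M =>
      rw [hsm] at ha hb hc
      rw [Matrix.ProjGenLinGroup.mk_eq_one]
      exact mem_center_of_fix_proj hab hac hbc M ha hb hc

end Cfsg.Agent.S0266
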