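import Cfsg.Statements.S0267
import Cfsg.Agent.Lib.Helper9.Moeb3
import Cfsg.Agent.Lib.Helper9.Sharp3PSL

set_option autoImplicit false
open Cfsg

namespace Cfsg.Agent.S0267

/-- SL_2(q) is 3-transitive on the q+1 points of the projective line if and only if q is even. -/
theorem result {F : Type*} [Field F] [Fintype F] : MulAction.IsMultiplyPretransitive (Matrix.SpecialLinearGroup (Fin 2) F) (Projectivization F (Fin 2 → F)) 3 ↔ ringChar F = 2 := by
  open Cfsg.Agent.Lib.Helper9 Cfsg.Agent.Lib.Helper9.Moeb in
  have hsm : ∀ (S : Matrix.SpecialLinearGroup (Fin 2) F) (p : Projectivization F (Fin 2 → F)),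
      S • p = (Matrix.SpecialLinearGroup.toGL S : GL (Fin 2) F) • p := by
    intro S p
    induction p using Projectivization.ind with
    | h v hv => rfl
  constructor
  · intro h3
    by_contra hchar
    obtain ⟨d, hd⟩ := FiniteField.exists_nonsquare hchar
    have hd0 : d ≠ 0 := by
      rintro rfl
      exact hd ⟨0, by simp⟩
    have e := (ptEquiv (K := F)).injective
    have n1 : ptEquiv (none : Option F) ≠ ptEquiv (some 0) := fun h => by simpa using e h
    have n2 : ptEquiv (none : Option F) ≠ ptEquiv (some 1) := fun h => by simpa using e h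
    have n3 : ptEquiv (some (0 : F)) ≠ ptEquiv (some 1) := fun h => by simpa using e h
    have n2' : ptEquiv (none : Option F) ≠ ptEquiv (some d) := fun h => by simpa using e h
    have n3' : ptEquiv (some (0 : F)) ≠ ptEquiv (some d) := fun h => by
      have := e h
      simp only [Option.some.injEq] at this
      exact hd0 this.symm
    obtain ⟨S, hS⟩ := h3.exists_smul_eq (embOfD3 n1 n2 n3) (embOfD3 n1 n2' n3')
    have key : ∀ i : Fin 3, S • (embOfD3 n1 n2 n3) i = (embOfD3 n1 n2' n3') i := by
      intro i
      rw [← hS]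
      rfl
    have k0 := key 0
    have k1 := key 1
    have k2 := key 2
    change S • ptEquiv (none : Option F) = ptEquiv none at k0
    change S • ptEquiv (some (0 : F)) = ptEquiv (some 0) at k1
    change S • ptEquiv (some (1 : F)) = ptEquiv (some d) at k2
    rw [hsm, ← ptEquiv_moebHom] at k0 k1 k2
    have k0 := e k0
    have k1 := e k1
    have k2 := e k2
    set N : GL (Fin 2) F := Matrix.SpecialLinearGroup.toGL S with hN
    have h10 := lower_eq_zero_of_fix_none N k0
    have h01 := upper_eq_zero_of_fix N k0 k1
    obtain ⟨h11, hone⟩ := diag_apply_one N k0 k1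
    rw [hone] at k2
    simp only [Option.some.injEq] at k2
    have hdet : N.1 0 0 * N.1 1 1 - N.1 0 1 * N.1 1 0 = 1 := by
      have := S.2
      rw [Matrix.det_fin_two] at this
      exact this
    rw [h10, h01, mul_zero, sub_zero] at hdet
    apply hd
    refine ⟨N.1 0 0, ?_⟩
    rw [← k2, div_eq_iff h11, mul_assoc, hdet, mul_one]
  · intro hchar
    have : CharP F 2 := by
      have := ringChar.charP F
      rwa [hchar] at this
    have hscal : ∀ (u : Fˣ) (p : Projectivization F (Fin 2 → F)),
        (Matrix.GeneralLinearGroup.scalar (Fin 2) u : GL (Fin 2) F) • p = p := by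
      intro u p
      have hc : (Matrix.GeneralLinearGroup.scalar (Fin 2) u : GL (Fin 2) F) ∈
          (moebHom (K := F)).ker := by
        rw [ker_moebHom, Matrix.GeneralLinearGroup.center_eq_range_scalar]
        exact ⟨u, rfl⟩
      rw [smul_eq_ptEquiv, MonoidHom.mem_ker.mp hc]
      simp
    apply isMultiplyPretransitive_three
    intro a b c a' b' c' hab hac hbc hab' hac' hbc'
    obtain ⟨M, h1, h2, h3⟩ := exists_smul_proj hab hac hbc hab' hac' hbc'
    obtain ⟨k, hk⟩ := exists_unit_sq_eq (Matrix.GeneralLinearGroup.det M)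
    set N : GL (Fin 2) F := Matrix.GeneralLinearGroup.scalar (Fin 2) k⁻¹ * M with hN
    have hNdet : N.1.det = 1 := by
      have h1 : Matrix.GeneralLinearGroup.det N = 1 := by
        rw [hN, map_mul, ← hk]
        have : Matrix.GeneralLinearGroup.det (Matrix.GeneralLinearGroup.scalar (Fin 2) k⁻¹) =
            k⁻¹ ^ 2 := by
          apply Units.ext
          simp [Matrix.GeneralLinearGroup.scalar]
        rw [this]
        simp
      have := congrArg Units.val h1
      simpa using this
    have hN_smul : ∀ p : Projectivization F (Fin 2 → F), N • p = M • p := by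
      intro p
      rw [hN, mul_smul, hscal]
    obtain ⟨S, htoGL⟩ : ∃ S : Matrix.SpecialLinearGroup (Fin 2) F,
        Matrix.SpecialLinearGroup.toGL S = N := ⟨⟨N.1, hNdet⟩, Units.ext rfl⟩
    refine ⟨S, ?_, ?_, ?_⟩
    · rw [hsm, htoGL, hN_smul, h1]
    · rw [hsm, htoGL, hN_smul, h2]
    · rw [hsm, htoGL, hN_smul, h3]

end Cfsg.Agent.S0267
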