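import Cfsg.Statements.S0268
import Mathlib

set_option autoImplicit false
open Cfsg

namespace Cfsg.Agent.S0268

/-- For q odd, -1 is the unique involution of SL_2(q). -/
theorem result {F : Type*} [Field F] [Fintype F] (hF : Odd (Fintype.card F)) (g : Matrix.SpecialLinearGroup (Fin 2) F) (h1 : g ≠ 1) (h2 : g * g = 1) : (g : Matrix (Fin 2) (Fin 2) F) = -1 := by
  have h2ne : (2 : F) ≠ 0 := by
    apply Ring.two_ne_zero
    intro hchar
    have := FiniteField.even_card_iff_char_two.mp hchar
    obtain ⟨k, hk⟩ := hF
    omega
  -- entries
  set a := (g : Matrix (Fin 2) (Fin 2) F) 0 0 with ha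
  set b := (g : Matrix (Fin 2) (Fin 2) F) 0 1 with hb
  set c := (g : Matrix (Fin 2) (Fin 2) F) 1 0 with hc
  set d := (g : Matrix (Fin 2) (Fin 2) F) 1 1 with hd
  have hdet : a * d - b * c = 1 := by
    have := g.det_coe
    rw [Matrix.det_fin_two] at this
    exact this
  have hsq : (g : Matrix (Fin 2) (Fin 2) F) * (g : Matrix (Fin 2) (Fin 2) F) = 1 := by
    have := congrArg (fun x : Matrix.SpecialLinearGroup (Fin 2) F => (x : Matrix (Fin 2) (Fin 2) F)) h2
    simpa using this
  have e00 : a * a + b * c = 1 := by
    have := congrFun (congrFun hsq 0) 0
    simpa [Matrix.mul_apply, Fin.sum_univ_two] using this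
  have e01 : a * b + b * d = 0 := by
    have := congrFun (congrFun hsq 0) 1
    simpa [Matrix.mul_apply, Fin.sum_univ_two] using this
  have e10 : c * a + d * c = 0 := by
    have := congrFun (congrFun hsq 1) 0
    simpa [Matrix.mul_apply, Fin.sum_univ_two] using this
  have e11 : c * b + d * d = 1 := by
    have := congrFun (congrFun hsq 1) 1
    simpa [Matrix.mul_apply, Fin.sum_univ_two] using this
  -- a + d ≠ 0
  have had : a + d ≠ 0 := by
    intro h0
    have hd' : d = -a := by linear_combination h0
    rw [hd'] at hdet
    have : (2 : F) = 0 := by linear_combination -(e00 + hdet)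
    exact h2ne this
  have hb0 : b = 0 := by
    have : b * (a + d) = 0 := by linear_combination e01
    rcases mul_eq_zero.mp this with h | h
    · exact h
    · exact absurd h had
  have hc0 : c = 0 := by
    have : c * (a + d) = 0 := by linear_combination e10
    rcases mul_eq_zero.mp this with h | h
    · exact h
    · exact absurd h had
  rw [hb0, hc0] at hdet e00 e11
  simp only [mul_zero, sub_zero, add_zero, zero_add] at hdet e00 e11
  have had' : a = d := by
    have : a * (a - d) = 0 := by linear_combination e00 - hdet
    rcases mul_eq_zero.mp this with h | h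
    · rw [h] at e00; simp at e00
    · linear_combination h
  have ha1 : (a - 1) * (a + 1) = 0 := by linear_combination e00
  have ham : a = -1 := by
    rcases mul_eq_zero.mp ha1 with h | h
    · exfalso
      apply h1
      have ha1' : a = 1 := by linear_combination h
      ext i j
      fin_cases i <;> fin_cases j
      · simpa using ha1'
      · simpa using hb0
      · simpa using hc0
      · show d = _
        rw [← had', ha1']; simp
    · linear_combination h
  ext i j
  fin_cases i <;> fin_cases j
  · simpa using ham
  · simpa using hb0
  · simpa using hc0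
  · show d = _
    rw [← had', ham]; simp

end Cfsg.Agent.S0268
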