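import Cfsg.Statements.S0274
import Cfsg.Agent.Lib.Helper29.Dickson
import Cfsg.Agent.Lib.Helper29.QuadPairBorel

set_option autoImplicit false
open Cfsg

namespace Cfsg.Agent.S0274

open Subgroup Cfsg.Agent.Lib.Helper13 Cfsg.Agent.Lib.Helper29

/-- Dickson's Theorem for SL_2: if p is odd and H is a subgroup of SL_2(q), q a power of p, with more than one Sylow p-subgroup, then H contains a copy of SL_2(p). -/
theorem result {F : Type*} [Field F] [Fintype F] (p : ℕ) [Fact p.Prime] [CharP F p] (hp : p ≠ 2) (H : Subgroup (Matrix.SpecialLinearGroup (Fin 2) F)) (hH : 1 < Nat.card (Sylow p H)) : ∃ K : Subgroup (Matrix.SpecialLinearGroup (Fin 2) F), K ≤ H ∧ Nonempty (K ≃* Matrix.SpecialLinearGroup (Fin 2) (ZMod p)) := by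
  have : Nontrivial (Sylow p H) := Finite.one_lt_card_iff_nontrivial.mp hH
  obtain ⟨P, Q, hPQ⟩ := exists_pair_ne (Sylow p H)
  -- two non-commuting `p`-elements
  have hex : ∃ x ∈ P, ∃ y ∈ Q, x * y ≠ y * x := by
    by_contra hno
    push Not at hno
    apply hPQ
    have hle : (P : Subgroup H) ≤ normalizer ((Q : Subgroup H) : Set H) := by
      intro x hx
      apply Subgroup.centralizer_le_normalizer
      rw [mem_centralizer_iff]
      intro y hy
      exact (hno x hx y hy).symm
    have h1 : IsPGroup p ((P : Subgroup H) ⊔ (Q : Subgroup H) : Subgroup H) :=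
      P.2.to_sup_of_normal_right' Q.2 hle
    have h2 := Q.is_maximal' h1 le_sup_right
    have h3 : (P : Subgroup H) ≤ (Q : Subgroup H) := h2 ▸ le_sup_left
    exact Sylow.ext (P.is_maximal' Q.2 h3).symm
  obtain ⟨x, hx, y, hy, hxy⟩ := hex
  -- `p`-elements of `SL₂(F)` have order `p`
  have hpow : ∀ (R : Sylow p H) (z : H), z ∈ R → (z : Matrix.SpecialLinearGroup (Fin 2) F) ^ p = 1 := by
    intro R z hz
    obtain ⟨j, hj⟩ := R.2 ⟨z, hz⟩
    have hj' : (z : Matrix.SpecialLinearGroup (Fin 2) F) ^ p ^ j = 1 := by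
      have := congrArg (fun w : (R : Subgroup H) => ((w : H) : Matrix.SpecialLinearGroup (Fin 2) F)) hj
      simpa using this
    obtain ⟨v, hv, hzv⟩ := QuadPair.exists_fixed_of_pow (p := p) (z : Matrix.SpecialLinearGroup (Fin 2) F) j hj'
    exact pow_char_eq_one_of_fixed p _ v hv hzv
  exact Dickson.dickson_weak_subgroup hp H x y x.2 y.2 (hpow P x hx) (hpow Q y hy)
    (fun h => hxy (Subtype.ext h))

end Cfsg.Agent.S0274
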