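import Cfsg.Statements.S0275
import Cfsg.Agent.Lib.Helper29.QuadPairSL2
import Cfsg.Agent.Lib.Helper29.QuadPairStable

set_option autoImplicit false
set_option linter.style.haveILetI false
open Cfsg

namespace Cfsg.Agent.S0275

open Subgroup Matrix Cfsg.Agent.Lib.Helper13 Cfsg.Agent.Lib.Helper29.QuadPair

/-- If p is odd and H is a subgroup of SL_2(q), q a power of p, with more than one Sylow p-subgroup, then the Sylow 2-subgroups of H are generalised quaternion. -/
theorem result {F : Type*} [Field F] [Fintype F] (p : ℕ) [Fact p.Prime] [CharP F p] (hp : p ≠ 2) (H : Subgroup (Matrix.SpecialLinearGroup (Fin 2) F)) (hH : 1 < Nat.card (Sylow p H)) (S : Sylow 2 H) : ∃ k : ℕ, 1 ≤ k ∧ Nonempty ((S : Subgroup H) ≃* QuaternionGroup (2 ^ k)) := by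
  classical
  haveI : Fact (Nat.Prime 2) := ⟨Nat.prime_two⟩
  have hpprime : p.Prime := Fact.out
  have h2F : (2 : F) ≠ 0 := by
    intro h
    have h1 : ((2 : ℕ) : F) = 0 := by exact_mod_cast h
    rw [CharP.cast_eq_zero_iff F p] at h1
    exact hp ((Nat.prime_dvd_prime_iff_eq hpprime Nat.prime_two).mp h1)
  -- unique involution in `S`
  have key : ∀ u : S, orderOf u = 2 → ((u : H) : SpecialLinearGroup (Fin 2) F) = zSL F := by
    intro u hu
    have h1 : ((u : H) : SpecialLinearGroup (Fin 2) F) * ((u : H) : SpecialLinearGroup (Fin 2) F)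
        = 1 := by
      have h0 : u ^ 2 = 1 := by
        have := pow_orderOf_eq_one u
        rwa [hu] at this
      have := congrArg (fun v : S => ((v : H) : SpecialLinearGroup (Fin 2) F)) h0
      simpa [pow_two] using this
    rcases sq_eq_one_cases h2F _ h1 with h | h
    · exfalso
      have : u = 1 := Subtype.ext (Subtype.ext h)
      rw [this, orderOf_one] at hu
      omega
    · exact h
  have huniq : ∀ s t : S, orderOf s = 2 → orderOf t = 2 → s = t := by
    intro s t hs ht
    exact Subtype.ext (Subtype.ext ((key s hs).trans (key t ht).symm))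
  rcases Cfsg.Agent.Lib.Helper18.isCyclic_or_quaternion_of_unique_involution S.2 huniq with
    hcyc | hq
  · exfalso
    have hScomm : IsMulCommutative S := IsCyclic.isMulCommutative
    -- two distinct Sylow `p`-subgroups
    haveI : Nontrivial (Sylow p H) := Finite.one_lt_card_iff_nontrivial.mp hH
    obtain ⟨P₁, P₂, hne⟩ := exists_pair_ne (Sylow p H)
    set T : Set (SpecialLinearGroup (Fin 2) F) :=
      H.subtype '' ((P₁ : Set H) ∪ (P₂ : Set H)) with hT
    set X : Subgroup (SpecialLinearGroup (Fin 2) F) := closure T with hX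
    have hXH : X ≤ H := by
      rw [hX, closure_le]
      rintro _ ⟨y, -, rfl⟩
      exact y.2
    have hgen : closure (((↑) : X → SpecialLinearGroup (Fin 2) F) ⁻¹' T) = ⊤ :=
      closure_closure_coe_preimage
    have hSp : ∀ s ∈ (((↑) : X → SpecialLinearGroup (Fin 2) F) ⁻¹' T), ∃ k : ℕ, s ^ p ^ k = 1 := by
      rintro s ⟨y, hy, hys⟩
      have hyp : ∃ k : ℕ, y ^ p ^ k = 1 := by
        rcases hy with hy | hy
        · obtain ⟨k, hk⟩ := P₁.2 ⟨y, hy⟩
          exact ⟨k, congrArg Subtype.val hk⟩
        · obtain ⟨k, hk⟩ := P₂.2 ⟨y, hy⟩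
          exact ⟨k, congrArg Subtype.val hk⟩
      obtain ⟨k, hk⟩ := hyp
      refine ⟨k, Subtype.ext ?_⟩
      have : ((s : SpecialLinearGroup (Fin 2) F)) ^ p ^ k = 1 := by
        rw [← hys]
        have := congrArg Subtype.val hk
        simpa using this
      simpa using this
    have hXnp : ¬ IsPGroup p X := by
      intro hP
      have hP' : IsPGroup p (X.subgroupOf H) :=
        hP.comap_of_injective _ (Subgroup.subtype_injective H)
      have h1 : (P₁ : Subgroup H) ≤ X.subgroupOf H := by
        intro y hy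
        rw [mem_subgroupOf]
        exact subset_closure ⟨y, Or.inl hy, rfl⟩
      have h2 : (P₂ : Subgroup H) ≤ X.subgroupOf H := by
        intro y hy
        rw [mem_subgroupOf]
        exact subset_closure ⟨y, Or.inr hy, rfl⟩
      have e1 := P₁.is_maximal' hP' h1
      have e2 := P₂.is_maximal' hP' h2
      exact hne (Sylow.ext (e1.symm.trans e2))
    obtain ⟨T₂⟩ : Nonempty (Sylow 2 X) := inferInstance
    apply hXnp
    refine isPGroup_of_comm_sylow_two hp X _ hgen hSp T₂ ?_
    -- `T₂` embeds into a Sylow 2-subgroup of `H`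
    have h2 : IsPGroup 2 ((T₂ : Subgroup X).map (Subgroup.inclusion hXH)) := T₂.2.map _
    obtain ⟨Q, hQ⟩ := h2.exists_le_sylow
    have hQc := isMulCommutative_sylow_of_isMulCommutative S Q hScomm
    refine ⟨⟨fun x y => ?_⟩⟩
    have hx : Subgroup.inclusion hXH (x : X) ∈ Q := hQ ⟨x, x.2, rfl⟩
    have hy : Subgroup.inclusion hXH (y : X) ∈ Q := hQ ⟨y, y.2, rfl⟩
    have h3 : Subgroup.inclusion hXH (x : X) * Subgroup.inclusion hXH (y : X) =
        Subgroup.inclusion hXH (y : X) * Subgroup.inclusion hXH (x : X) :=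
      congrArg Subtype.val (mul_comm' (⟨_, hx⟩ : Q) ⟨_, hy⟩)
    rw [← map_mul, ← map_mul] at h3
    exact Subtype.ext (Subgroup.inclusion_injective hXH h3)
  · exact hq

end Cfsg.Agent.S0275
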