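import Cfsg.Statements.S0284
-- import your own Cfsg.Agent.* helpers here
import Mathlib
import Cfsg.Agent.Lib.Helper14.HermCount

set_option autoImplicit false
open Cfsg

namespace Cfsg.Agent.S0284

open Cfsg.Agent.Lib.Helper14 in
theorem aux {F : Type*} [Field F] [Fintype F] {q : ℕ} (hF : Fintype.card F = q ^ 2) (n : ℕ) :
    Nat.card {v : Fin n → F // Cfsg.hermForm n F q v v = 1} = (hermAB q n).2 := by
  classical
  have h1 : Nat.card {v : Fin n → F // Cfsg.hermForm n F q v v = 1} = hermCount F q n 1 := rfl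
  rw [h1, hermCount_eq hF, if_neg one_ne_zero, if_pos (one_pow q)]

/-- The standard Hermitian form on F^n, |F| = q^2, has exactly q^(n-1) (q^n - (-1)^n) vectors of norm 1. -/
theorem result {F : Type*} [Field F] [Fintype F] {q : ℕ} (hF : Fintype.card F = q ^ 2) (n : ℕ) : Nat.card {v : Fin n → F // Cfsg.hermForm n F q v v = 1} = (if Even n then q ^ (n - 1) * (q ^ n - 1) else q ^ (n - 1) * (q ^ n + 1)) := by
  classical
  rw [aux hF]
  have hq := Cfsg.Agent.Lib.Helper14.herm_two_le hF
  obtain ⟨-, hB⟩ := Cfsg.Agent.Lib.Helper14.hermAB_closed hq n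
  have hq0 : (q : ℤ) ≠ 0 := by
    have : (2 : ℤ) ≤ q := by exact_mod_cast hq
    omega
  have hqpos : 0 < q := by omega
  rcases Nat.eq_zero_or_pos n with rfl | hn
  · simp [Cfsg.Agent.Lib.Helper14.hermAB]
  · obtain ⟨k, rfl⟩ : ∃ k, n = k + 1 := ⟨n - 1, by omega⟩
    have ek : k + 1 - 1 = k := by omega
    rw [ek]
    have hp1 : 1 ≤ q ^ (k + 1) := Nat.one_le_pow _ _ hqpos
    apply Nat.cast_injective (R := ℤ)
    apply mul_left_cancel₀ hq0
    rw [hB]
    by_cases he : Even (k + 1)
    · rw [if_pos he, he.neg_one_pow]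
      push_cast [Nat.cast_sub hp1]
      ring
    · rw [if_neg he]
      have ho : Odd (k + 1) := Nat.not_even_iff_odd.mp he
      rw [ho.neg_one_pow]
      push_cast
      ring

end Cfsg.Agent.S0284
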