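import Cfsg.Statements.S0289
-- import your own Cfsg.Agent.* helpers here
import Mathlib
import Cfsg.Agent.Lib.Helper14.FormCount

set_option autoImplicit false
open Cfsg

namespace Cfsg.Agent.S0289

/-- The hyperbolic quadratic form on F^(2m), m at least 1, has q^(2m-1) + q^m - q^(m-1) zeros (that is, (q^m - 1)(q^(m-1) + 1) non-zero isotropic vectors). -/
theorem result {F : Type*} [Field F] [Fintype F] {q : ℕ} (hF : Fintype.card F = q) (m : ℕ) (hm : 1 ≤ m) : Nat.card {v : Fin m ⊕ Fin m → F // Cfsg.quadFormPlus m F v = 0} = q ^ (2 * m - 1) + q ^ m - q ^ (m - 1) := by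
  classical
  have h := Cfsg.Agent.Lib.Helper14.natCard_plus (F := F) m 0
  rw [if_pos rfl, hF] at h
  have h2 : Nat.card {v : Fin m ⊕ Fin m → F // Cfsg.quadFormPlus m F v = 0} =
      Nat.card {v : Fin m ⊕ Fin m → F // ∑ i : Fin m, v (.inl i) * v (.inr i) = 0} := rfl
  rw [h2, h]
  obtain ⟨k, rfl⟩ : ∃ k, m = k + 1 := ⟨m - 1, by omega⟩
  have hq : 0 < q := by
    rw [← hF]; exact Fintype.card_pos
  have e1 : 2 * (k + 1) - 1 = k + 1 + k := by omega
  have e2 : k + 1 - 1 = k := by omega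
  rw [e1, e2]
  have hpos : 1 ≤ q ^ (k + 1) := Nat.one_le_pow _ _ hq
  have hpos' : 1 ≤ q ^ k := Nat.one_le_pow _ _ hq
  have e3 : (q ^ (k + 1) - 1) * q ^ k = q ^ (k + 1 + k) - q ^ k := by
    rw [Nat.sub_mul, one_mul, ← pow_add]
  rw [e3]
  have e4 : q ^ k ≤ q ^ (k + 1 + k) := Nat.pow_le_pow_right hq (by omega)
  omega

end Cfsg.Agent.S0289
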