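import Cfsg.Statements.S0290
-- import your own Cfsg.Agent.* helpers here
import Mathlib
import Cfsg.Agent.Lib.Helper14.FormCount

set_option autoImplicit false
open Cfsg

namespace Cfsg.Agent.S0290

/-- The minus-type quadratic form on F^(2m), m at least 1, has q^(2m-1) + q^(m-1) - q^m zeros (that is, (q^m + 1)(q^(m-1) - 1) non-zero isotropic vectors). -/
theorem result {F : Type*} [Field F] [Fintype F] {q : ℕ} (hF : Fintype.card F = q) (m : ℕ) (hm : 1 ≤ m) (a b : F) (hab : ∀ z₁ z₂ : F, z₁ ^ 2 + a * z₁ * z₂ + b * z₂ ^ 2 = 0 → z₁ = 0 ∧ z₂ = 0) : Nat.card {v : (Fin (m - 1) ⊕ Fin (m - 1)) ⊕ Fin 2 → F // Cfsg.quadFormMinus (m - 1) F a b v = 0} = q ^ (2 * m - 1) + q ^ (m - 1) - q ^ m := by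
  classical
  have hq : 0 < q := by
    rw [← hF]; exact Fintype.card_pos
  obtain ⟨k, rfl⟩ : ∃ k, m = k + 1 := ⟨m - 1, by omega⟩
  have ek : k + 1 - 1 = k := by omega
  rw [ek]
  let f : (Fin 2 → F) → F := fun z => z 0 ^ 2 + a * z 0 * z 1 + b * z 1 ^ 2
  let g : (Fin k ⊕ Fin k → F) → F := fun v => ∑ i : Fin k, v (.inl i) * v (.inr i)
  have e : {v : (Fin k ⊕ Fin k) ⊕ Fin 2 → F // Cfsg.quadFormMinus k F a b v = 0} ≃
      {p : (Fin 2 → F) × (Fin k ⊕ Fin k → F) // f p.1 + g p.2 = 0} :=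
    Equiv.subtypeEquiv ((Equiv.sumArrowEquivProdArrow (Fin k ⊕ Fin k) (Fin 2) F).trans
      (Equiv.prodComm _ _)) (fun v => by
        show g (fun x => v (.inl x)) + f (fun x => v (.inr x)) = 0 ↔
          f (fun x => v (.inr x)) + g (fun x => v (.inl x)) = 0
        rw [add_comm])
  rw [Nat.card_congr e]
  have hg : ∀ c : F, Nat.card {b : Fin k ⊕ Fin k → F // g b = c} =
      if c = 0 then (q ^ k + (q ^ k - 1) * q ^ (k - 1)) else ((q ^ k - 1) * q ^ (k - 1)) := by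
    intro c
    have := Cfsg.Agent.Lib.Helper14.natCard_plus (F := F) k c
    rw [hF] at this
    rw [this]
    split_ifs <;> simp
  rw [Cfsg.Agent.Lib.Helper14.natCard_sum_form f g _ _ hg]
  have hZ : Nat.card {z : Fin 2 → F // f z = 0} = 1 := by
    rw [Nat.card_eq_one_iff_unique]
    refine ⟨⟨?_⟩, ⟨⟨fun _ => 0, by simp [f]⟩⟩⟩
    have key : ∀ z : Fin 2 → F, f z = 0 → z = 0 := by
      intro z hz
      obtain ⟨h0, h1⟩ := hab (z 0) (z 1) hz
      funext i
      fin_cases i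
      · exact h0
      · exact h1
    rintro ⟨z, hz⟩ ⟨w, hw⟩
    apply Subtype.ext
    show z = w
    rw [key z hz, key w hw]
  have hA : Fintype.card (Fin 2 → F) = q ^ 2 := by
    rw [Fintype.card_fun, hF]; simp
  rw [hZ, hA, one_mul]
  rcases Nat.eq_zero_or_pos k with rfl | hk
  · simp
  · obtain ⟨j, rfl⟩ : ∃ j, k = j + 1 := ⟨k - 1, by omega⟩
    have e2 : j + 1 - 1 = j := by omega
    rw [e2]
    have e3 : 2 * (j + 1 + 1) - 1 = j + j + 3 := by omega
    rw [e3]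
    obtain ⟨q', rfl⟩ : ∃ q', q = q' + 1 := ⟨q - 1, by omega⟩
    obtain ⟨A, hA'⟩ : ∃ A, A = (q' + 1) ^ j := ⟨_, rfl⟩
    rw [← hA']
    have hApos : 1 ≤ A := by rw [hA']; exact Nat.one_le_pow _ _ (by omega)
    have p1 : (q' + 1) ^ (j + 1) = (q' + 1) * A := by rw [pow_succ', hA']
    have p2 : (q' + 1) ^ (j + 1 + 1) = (q' + 1) * (q' + 1) * A := by rw [pow_succ', pow_succ', hA']; ring
    have p3 : (q' + 1) ^ (j + j + 3) = (q' + 1) * (q' + 1) * (q' + 1) * A * A := by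
      rw [hA']; ring
    rw [p1, p2, p3]
    have hs1 : (q' + 1) * A - 1 = q' * A + (A - 1) := by
      have : (q' + 1) * A = q' * A + A := by ring
      omega
    have hs2 : (q' + 1) ^ 2 - 1 = q' * q' + 2 * q' := by
      have : (q' + 1) ^ 2 = q' * q' + 2 * q' + 1 := by ring
      omega
    rw [hs1, hs2]
    obtain ⟨A', rfl⟩ : ∃ A', A = A' + 1 := ⟨A - 1, by omega⟩
    simp only [Nat.add_sub_cancel]
    apply Nat.eq_sub_of_add_eq
    ring

end Cfsg.Agent.S0290
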