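import Cfsg.Statements.S0291
-- import your own Cfsg.Agent.* helpers here
import Mathlib
import Cfsg.Agent.Lib.Helper14.FormCount

set_option autoImplicit false
open Cfsg

namespace Cfsg.Agent.S0291

/-- For q odd, the form x_0^2 + sum_{i<m} x_i y_i on F^(2m+1) has exactly q^(2m) zeros. -/
theorem result {F : Type*} [Field F] [Fintype F] {q : ℕ} (hF : Fintype.card F = q) (hodd : Odd q) (m : ℕ) : Nat.card {v : Unit ⊕ (Fin m ⊕ Fin m) → F // Cfsg.quadFormOdd m F v = 0} = q ^ (2 * m) := by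
  classical
  have hq : 0 < q := by
    rw [← hF]; exact Fintype.card_pos
  let f : (Unit → F) → F := fun a => a () ^ 2
  let g : (Fin m ⊕ Fin m → F) → F := fun v => ∑ i : Fin m, v (.inl i) * v (.inr i)
  have e : {v : Unit ⊕ (Fin m ⊕ Fin m) → F // Cfsg.quadFormOdd m F v = 0} ≃
      {p : (Unit → F) × (Fin m ⊕ Fin m → F) // f p.1 + g p.2 = 0} :=
    Equiv.subtypeEquiv (Equiv.sumArrowEquivProdArrow Unit (Fin m ⊕ Fin m) F) (fun v => Iff.rfl)
  rw [Nat.card_congr e]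
  have hg : ∀ c : F, Nat.card {b : Fin m ⊕ Fin m → F // g b = c} =
      if c = 0 then (q ^ m + (q ^ m - 1) * q ^ (m - 1)) else ((q ^ m - 1) * q ^ (m - 1)) := by
    intro c
    have := Cfsg.Agent.Lib.Helper14.natCard_plus (F := F) m c
    rw [hF] at this
    rw [this]
    split_ifs <;> simp
  rw [Cfsg.Agent.Lib.Helper14.natCard_sum_form f g _ _ hg]
  have hZ : Nat.card {a : Unit → F // f a = 0} = 1 := by
    rw [Nat.card_eq_one_iff_unique]
    refine ⟨⟨?_⟩, ⟨⟨fun _ => 0, by simp [f]⟩⟩⟩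
    rintro ⟨a, ha⟩ ⟨b, hb⟩
    apply Subtype.ext
    funext u
    have ha' : a () = 0 := by simpa [f] using ha
    have hb' : b () = 0 := by simpa [f] using hb
    cases u
    exact ha'.trans hb'.symm
  have hA : Fintype.card (Unit → F) = q := by
    rw [Fintype.card_fun, hF]; simp
  rw [hZ, hA, one_mul]
  rcases Nat.eq_zero_or_pos m with rfl | hm
  · simp
  · obtain ⟨k, rfl⟩ : ∃ k, m = k + 1 := ⟨m - 1, by omega⟩
    have e2 : k + 1 - 1 = k := by omega
    rw [e2]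
    have hpos : 1 ≤ q ^ (k + 1) := Nat.one_le_pow _ _ hq
    have : q ^ (2 * (k + 1)) = q ^ (k + 1) * q ^ (k + 1) := by
      rw [← pow_add]; congr 1; omega
    rw [this]
    obtain ⟨Q, hQ⟩ : ∃ Q, q ^ (k + 1) = Q + 1 := ⟨q ^ (k + 1) - 1, by omega⟩
    obtain ⟨q', rfl⟩ : ∃ q', q = q' + 1 := ⟨q - 1, by omega⟩
    have e5 : (q' + 1) * (q' + 1) ^ k = Q + 1 := by rw [← hQ, pow_succ']
    rw [hQ]
    simp only [Nat.add_sub_cancel]
    have : q' * (Q * (q' + 1) ^ k) + Q * (q' + 1) ^ k = Q * ((q' + 1) * (q' + 1) ^ k) := by ring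
    rw [e5] at this
    nlinarith [this]

end Cfsg.Agent.S0291
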