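import Cfsg.Statements.S0298
import Cfsg.Agent.S0264
import Cfsg.Agent.Lib.Helper13.SL2
import Cfsg.Agent.Lib.Helper14.OrthOdd
import Cfsg.Agent.Lib.Helper15.HermAct
import Cfsg.Agent.Lib.Helper15.OmegaIso2
import Cfsg.Agent.Lib.Helper15.FiniteFieldPow

set_option autoImplicit false
open Cfsg

namespace Cfsg.Agent.S0298

open Cfsg.Agent.Lib.Helper15 Cfsg.Agent.Lib.Helper15.HermAct Cfsg.Agent.Lib.Helper15.OmegaIso2
  Cfsg.Agent.Lib.Helper15.PerfectIndex Matrix
open scoped commutatorElement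

section model

variable {F : Type*} [Field F]

/-- the index type of the three-dimensional space -/
abbrev J := Unit ⊕ (Fin 1 ⊕ Fin 1)

/-- the trace-zero matrix of a vector -/
def Xm (v : J → F) : Matrix (Fin 2) (Fin 2) F :=
  Matrix.of ![![v (.inl ()), v (.inr (.inl 0))], ![v (.inr (.inr 0)), -v (.inl ())]]

lemma Xm_00 (v : J → F) : Xm v 0 0 = v (.inl ()) := rfl
lemma Xm_01 (v : J → F) : Xm v 0 1 = v (.inr (.inl 0)) := rfl
lemma Xm_10 (v : J → F) : Xm v 1 0 = v (.inr (.inr 0)) := rfl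
lemma Xm_11 (v : J → F) : Xm v 1 1 = -v (.inl ()) := rfl

/-- coordinates of a matrix -/
def Ym (A : Matrix (Fin 2) (Fin 2) F) : J → F :=
  Sum.elim (fun _ => A 0 0) (Sum.elim (fun _ => A 0 1) (fun _ => A 1 0))

def XL : (J → F) →ₗ[F] Matrix (Fin 2) (Fin 2) F where
  toFun := Xm
  map_add' v w := by
    ext i j
    fin_cases i <;> fin_cases j
    · show Xm (v + w) 0 0 = Xm v 0 0 + Xm w 0 0
      simp only [Xm_00, Pi.add_apply]
    · show Xm (v + w) 0 1 = Xm v 0 1 + Xm w 0 1
      simp only [Xm_01, Pi.add_apply]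
    · show Xm (v + w) 1 0 = Xm v 1 0 + Xm w 1 0
      simp only [Xm_10, Pi.add_apply]
    · show Xm (v + w) 1 1 = Xm v 1 1 + Xm w 1 1
      simp only [Xm_11, Pi.add_apply]
      ring
  map_smul' c v := by
    ext i j
    fin_cases i <;> fin_cases j
    · show Xm (c • v) 0 0 = c • Xm v 0 0
      simp only [Xm_00, Pi.smul_apply]
    · show Xm (c • v) 0 1 = c • Xm v 0 1
      simp only [Xm_01, Pi.smul_apply]
    · show Xm (c • v) 1 0 = c • Xm v 1 0
      simp only [Xm_10, Pi.smul_apply]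
    · show Xm (c • v) 1 1 = c • Xm v 1 1
      simp only [Xm_11, Pi.smul_apply, smul_eq_mul]
      ring

def YL : Matrix (Fin 2) (Fin 2) F →ₗ[F] (J → F) where
  toFun := Ym
  map_add' A B := by
    funext j
    rcases j with _ | _ | _ <;> rfl
  map_smul' c A := by
    funext j
    rcases j with _ | _ | _ <;> rfl

lemma YX (v : J → F) : Ym (Xm v) = v := by
  funext j
  rcases j with u | i | i
  · rfl
  · rw [Subsingleton.elim i 0]; rfl
  · rw [Subsingleton.elim i 0]; rfl

lemma XY (A : Matrix (Fin 2) (Fin 2) F) (hA : A.trace = 0) : Xm (Ym A) = A := by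
  rw [Matrix.trace_fin_two] at hA
  ext i j
  fin_cases i <;> fin_cases j
  · rfl
  · rfl
  · rfl
  · show -(A 0 0) = A 1 1
    linear_combination -hA

lemma trace_Xm (v : J → F) : (Xm v).trace = 0 := by
  rw [Matrix.trace_fin_two, Xm_00, Xm_11, add_neg_cancel]

lemma det_Xm (v : J → F) : (Xm v).det = -Cfsg.quadFormOdd 1 F v := by
  rw [Matrix.det_fin_two, Xm_00, Xm_01, Xm_10, Xm_11]
  unfold Cfsg.quadFormOdd
  simp only [Finset.univ_unique, Fin.default_eq_zero, Fin.isValue, Finset.sum_singleton]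
  ring

/-- conjugation as a linear map -/
def actL (g : GL (Fin 2) F) : Matrix (Fin 2) (Fin 2) F →ₗ[F] Matrix (Fin 2) (Fin 2) F where
  toFun A := (g : Matrix (Fin 2) (Fin 2) F) * A * ((g⁻¹ : GL (Fin 2) F) : Matrix (Fin 2) (Fin 2) F)
  map_add' A B := by rw [Matrix.mul_add, Matrix.add_mul]
  map_smul' c A := by rw [Matrix.mul_smul, Matrix.smul_mul]; rfl

lemma actL_apply (g : GL (Fin 2) F) (A : Matrix (Fin 2) (Fin 2) F) :
    actL g A = (g : Matrix (Fin 2) (Fin 2) F) * A *
      ((g⁻¹ : GL (Fin 2) F) : Matrix (Fin 2) (Fin 2) F) := rfl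

lemma trace_actL (g : GL (Fin 2) F) (A : Matrix (Fin 2) (Fin 2) F) :
    (actL g A).trace = A.trace := by
  rw [actL_apply, Matrix.trace_units_conj]

lemma det_actL (g : GL (Fin 2) F) (A : Matrix (Fin 2) (Fin 2) F) :
    (actL g A).det = A.det := by
  rw [actL_apply, Matrix.det_units_conj]

lemma actL_mul (g h : GL (Fin 2) F) (A : Matrix (Fin 2) (Fin 2) F) :
    actL (g * h) A = actL g (actL h A) := by
  simp only [actL_apply, _root_.mul_inv_rev, Units.val_mul, Matrix.mul_assoc]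

lemma actL_one (A : Matrix (Fin 2) (Fin 2) F) : actL (1 : GL (Fin 2) F) A = A := by
  simp [actL_apply]

/-- the representation of `GL₂(F)` on the three-dimensional space -/
def rho : GL (Fin 2) F →* Module.End F (J → F) where
  toFun g := YL ∘ₗ actL g ∘ₗ XL
  map_one' := by
    refine LinearMap.ext fun v => ?_
    show Ym (actL 1 (Xm v)) = v
    rw [actL_one, YX]
  map_mul' g h := by
    refine LinearMap.ext fun v => ?_
    show Ym (actL (g * h) (Xm v)) = Ym (actL g (Xm (Ym (actL h (Xm v)))))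
    rw [actL_mul, XY _ (by rw [trace_actL, trace_Xm])]

lemma rho_apply (g : GL (Fin 2) F) (v : J → F) : Xm (rho g v) = actL g (Xm v) := by
  show Xm (Ym (actL g (Xm v))) = _
  rw [XY _ (by rw [trace_actL, trace_Xm])]

lemma rho_quad (g : GL (Fin 2) F) (v : J → F) :
    Cfsg.quadFormOdd 1 F (rho g v) = Cfsg.quadFormOdd 1 F v := by
  apply neg_injective
  rw [← det_Xm, ← det_Xm, rho_apply, det_actL]

/-- the vector with given coordinates -/
def mkV (x₀ x₁ y₁ : F) : J → F := Sum.elim (fun _ => x₀) (Sum.elim (fun _ => x₁) (fun _ => y₁))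

/-- kernel elements are scalar -/
lemma rho_ker (g : GL (Fin 2) F) (hg : rho g = 1) :
    ∃ a : F, (g : Matrix (Fin 2) (Fin 2) F) = a • (1 : Matrix (Fin 2) (Fin 2) F) := by
  have hfix : ∀ v : J → F, actL g (Xm v) = Xm v := by
    intro v
    rw [← rho_apply, hg]
    rfl
  have hcomm : ∀ v : J → F, (g : Matrix (Fin 2) (Fin 2) F) * Xm v = Xm v * g := by
    intro v
    have h := hfix v
    rw [actL_apply] at h
    have h2 := congrArg (fun B => B * (g : Matrix (Fin 2) (Fin 2) F)) h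
    simp only [Matrix.mul_assoc] at h2
    rw [show ((g⁻¹ : GL (Fin 2) F) : Matrix (Fin 2) (Fin 2) F) * (g : Matrix (Fin 2) (Fin 2) F) = 1
      from by rw [← Units.val_mul, inv_mul_cancel]; rfl, Matrix.mul_one] at h2
    exact h2
  have e1 := hcomm (mkV 0 1 0)
  have e2 := hcomm (mkV 0 0 1)
  have h10 : (g : Matrix (Fin 2) (Fin 2) F) 1 0 = 0 := by
    have := congrFun (congrFun e1 0) 0
    simp only [Matrix.mul_apply, Fin.sum_univ_two, Xm_00, Xm_10, Xm_01, Xm_11] at this
    simpa [mkV] using this.symm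
  have h00 : (g : Matrix (Fin 2) (Fin 2) F) 0 0 = (g : Matrix (Fin 2) (Fin 2) F) 1 1 := by
    have := congrFun (congrFun e1 0) 1
    simp only [Matrix.mul_apply, Fin.sum_univ_two, Xm_00, Xm_10, Xm_01, Xm_11] at this
    simpa [mkV] using this
  have h01 : (g : Matrix (Fin 2) (Fin 2) F) 0 1 = 0 := by
    have := congrFun (congrFun e2 0) 0
    simp only [Matrix.mul_apply, Fin.sum_univ_two, Xm_00, Xm_10, Xm_01, Xm_11] at this
    simpa [mkV] using this
  refine ⟨(g : Matrix (Fin 2) (Fin 2) F) 1 1, ?_⟩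
  ext i j
  fin_cases i <;> fin_cases j
  · show (g : Matrix (Fin 2) (Fin 2) F) 0 0 = _
    rw [h00]; simp
  · show (g : Matrix (Fin 2) (Fin 2) F) 0 1 = _
    rw [h01]; simp
  · show (g : Matrix (Fin 2) (Fin 2) F) 1 0 = _
    rw [h10]; simp
  · show (g : Matrix (Fin 2) (Fin 2) F) 1 1 = _
    simp

/-- the upper transvection -/
def T₁ : Matrix.SpecialLinearGroup (Fin 2) F :=
  ⟨Matrix.of ![![1, 1], ![0, 1]], by simp [Matrix.det_fin_two]⟩

/-- the lower transvection -/
def T₂ : Matrix.SpecialLinearGroup (Fin 2) F :=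
  ⟨Matrix.of ![![1, 0], ![1, 1]], by simp [Matrix.det_fin_two]⟩

lemma central_of_comm_scalar (h2 : (2 : F) ≠ 0) (s : Matrix.SpecialLinearGroup (Fin 2) F)
    (h : ∀ x : Matrix.SpecialLinearGroup (Fin 2) F, ∃ a : F,
      ((⁅s, x⁆ : Matrix.SpecialLinearGroup (Fin 2) F) : Matrix (Fin 2) (Fin 2) F) =
        a • (1 : Matrix (Fin 2) (Fin 2) F)) :
    s ∈ Subgroup.center (Matrix.SpecialLinearGroup (Fin 2) F) := by
  have key : ∀ x : Matrix.SpecialLinearGroup (Fin 2) F, (x : Matrix (Fin 2) (Fin 2) F).trace ≠ 0 →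
      (s : Matrix (Fin 2) (Fin 2) F) * x = x * s := by
    intro x hx
    obtain ⟨a, ha⟩ := h x
    have h1 : ((s * x * s⁻¹ : Matrix.SpecialLinearGroup (Fin 2) F) : Matrix (Fin 2) (Fin 2) F)
        = a • (x : Matrix (Fin 2) (Fin 2) F) := by
      have : s * x * s⁻¹ = ⁅s, x⁆ * x := by
        rw [commutatorElement_def]; group
      rw [this, Matrix.SpecialLinearGroup.coe_mul, ha, Matrix.smul_mul, Matrix.one_mul]
    have h3 : ((s * x * s⁻¹ : Matrix.SpecialLinearGroup (Fin 2) F) :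
        Matrix (Fin 2) (Fin 2) F).trace = (x : Matrix (Fin 2) (Fin 2) F).trace := by
      rw [Matrix.SpecialLinearGroup.coe_mul, Matrix.SpecialLinearGroup.coe_mul,
        Matrix.trace_mul_cycle, ← Matrix.SpecialLinearGroup.coe_mul, inv_mul_cancel,
        Matrix.SpecialLinearGroup.coe_one, Matrix.one_mul]
    rw [h1, Matrix.trace_smul, smul_eq_mul] at h3
    have ha1 : a = 1 := by
      have : (a - 1) * (x : Matrix (Fin 2) (Fin 2) F).trace = 0 := by linear_combination h3
      rcases mul_eq_zero.mp this with h | h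
      · exact sub_eq_zero.mp h
      · exact absurd h hx
    rw [ha1, one_smul] at h1
    have h4 : s * x * s⁻¹ = x := Subtype.ext h1
    have h5 : s * x = x * s := by
      calc s * x = s * x * s⁻¹ * s := by group
        _ = x * s := by rw [h4]
    have := congrArg (fun y : Matrix.SpecialLinearGroup (Fin 2) F =>
      (y : Matrix (Fin 2) (Fin 2) F)) h5
    simpa using this
  have t1 : (T₁ (F := F) : Matrix (Fin 2) (Fin 2) F).trace ≠ 0 := by
    rw [Matrix.trace_fin_two]
    show (1 : F) + 1 ≠ 0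
    rw [one_add_one_eq_two]; exact h2
  have t2 : (T₂ (F := F) : Matrix (Fin 2) (Fin 2) F).trace ≠ 0 := by
    rw [Matrix.trace_fin_two]
    show (1 : F) + 1 ≠ 0
    rw [one_add_one_eq_two]; exact h2
  have e1 := key T₁ t1
  have e2 := key T₂ t2
  have a00 : (T₁ (F := F) : Matrix (Fin 2) (Fin 2) F) 0 0 = 1 := rfl
  have a01 : (T₁ (F := F) : Matrix (Fin 2) (Fin 2) F) 0 1 = 1 := rfl
  have a10 : (T₁ (F := F) : Matrix (Fin 2) (Fin 2) F) 1 0 = 0 := rfl
  have a11 : (T₁ (F := F) : Matrix (Fin 2) (Fin 2) F) 1 1 = 1 := rfl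
  have b00 : (T₂ (F := F) : Matrix (Fin 2) (Fin 2) F) 0 0 = 1 := rfl
  have b01 : (T₂ (F := F) : Matrix (Fin 2) (Fin 2) F) 0 1 = 0 := rfl
  have b10 : (T₂ (F := F) : Matrix (Fin 2) (Fin 2) F) 1 0 = 1 := rfl
  have b11 : (T₂ (F := F) : Matrix (Fin 2) (Fin 2) F) 1 1 = 1 := rfl
  have h10 : (s : Matrix (Fin 2) (Fin 2) F) 1 0 = 0 := by
    have := congrFun (congrFun e1 0) 0
    simp only [Matrix.mul_apply, Fin.sum_univ_two, a00, a01, a10, a11] at this
    linear_combination -this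
  have h00 : (s : Matrix (Fin 2) (Fin 2) F) 0 0 = (s : Matrix (Fin 2) (Fin 2) F) 1 1 := by
    have := congrFun (congrFun e1 0) 1
    simp only [Matrix.mul_apply, Fin.sum_univ_two, a00, a01, a10, a11] at this
    linear_combination this
  have h01 : (s : Matrix (Fin 2) (Fin 2) F) 0 1 = 0 := by
    have := congrFun (congrFun e2 0) 0
    simp only [Matrix.mul_apply, Fin.sum_univ_two, b00, b01, b10, b11] at this
    linear_combination this
  rw [Matrix.SpecialLinearGroup.mem_center_iff]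
  refine ⟨(s : Matrix (Fin 2) (Fin 2) F) 1 1, ?_, ?_⟩
  · have hdet := s.2
    rw [Matrix.det_fin_two, h10, h01, h00] at hdet
    simp only [Fintype.card_fin]
    linear_combination hdet
  · ext i j
    fin_cases i <;> fin_cases j
    · show _ = (s : Matrix (Fin 2) (Fin 2) F) 0 0
      rw [h00]; simp
    · show _ = (s : Matrix (Fin 2) (Fin 2) F) 0 1
      rw [h01]; simp
    · show _ = (s : Matrix (Fin 2) (Fin 2) F) 1 0
      rw [h10]; simp
    · show _ = (s : Matrix (Fin 2) (Fin 2) F) 1 1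
      simp

end model

section final

variable {F : Type*} [Field F] [Fintype F]

lemma card_sl2 {Q : ℕ} (hK : Fintype.card F = Q) (hQ : 2 ≤ Q) :
    Nat.card (Matrix.SpecialLinearGroup (Fin 2) F) = Q * (Q ^ 2 - 1) := by
  have hSL := Cfsg.Agent.Lib.Helper13.card_SL_mul (F := F) 2 (by norm_num)
  rw [Matrix.card_GL_field] at hSL
  simp only [Fin.prod_univ_two, Fin.val_zero, Fin.val_one, pow_zero, pow_one, hK] at hSL
  have e2 : Q ^ 2 - Q = Q * (Q - 1) := by
    rw [Nat.mul_sub, mul_one, pow_two]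
  rw [e2] at hSL
  have hD : 0 < Q - 1 := by omega
  apply Nat.eq_of_mul_eq_mul_right hD
  rw [hSL]
  ring

lemma card_gl2 {Q : ℕ} (hK : Fintype.card F = Q) :
    Nat.card (GL (Fin 2) F) = (Q ^ 2 - 1) * (Q * (Q - 1)) := by
  rw [Matrix.card_GL_field]
  simp only [Fin.prod_univ_two, Fin.val_zero, Fin.val_one, pow_zero, pow_one, hK]
  have e2 : Q ^ 2 - Q = Q * (Q - 1) := by
    rw [Nat.mul_sub, mul_one, pow_two]
  rw [e2]

lemma ker_det_eq_range :
    (Matrix.GeneralLinearGroup.det : GL (Fin 2) F →* Fˣ).ker =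
      (Matrix.SpecialLinearGroup.toGL : Matrix.SpecialLinearGroup (Fin 2) F →* GL (Fin 2) F).range := by
  ext g
  rw [MonoidHom.mem_ker, MonoidHom.mem_range]
  constructor
  · intro hg
    have hdet : (g : Matrix (Fin 2) (Fin 2) F).det = 1 := by
      have := congrArg Units.val hg
      exact this
    exact ⟨⟨(g : Matrix (Fin 2) (Fin 2) F), hdet⟩, Units.ext rfl⟩
  · rintro ⟨s, rfl⟩
    exact Matrix.SpecialLinearGroup.coeToGL_det s

theorem main (hodd : Odd (Fintype.card F)) :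
    Nonempty (Cfsg.POmega F (Cfsg.quadFormOdd 1 F) ≃*
      Matrix.ProjectiveSpecialLinearGroup (Fin 2) F) := by
  classical
  have h2 : (2 : F) ≠ 0 := two_ne_zero_of_odd_card hodd
  obtain ⟨q, hq⟩ : ∃ q, Fintype.card F = q := ⟨_, rfl⟩
  have hq3 : 3 ≤ q := by
    have h1 : 1 < Fintype.card F := Fintype.one_lt_card
    rw [hq] at h1 hodd
    rcases hodd with ⟨k, hk⟩
    omega
  obtain ⟨ψ, hψ⟩ := hom_of_rep (Cfsg.quadFormOdd 1 F) (rho (F := F)) rho_quad
  -- the kernel of ψ
  have hscal : ∀ g : ψ.ker, ∃ a : Fˣ,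
      ((g : GL (Fin 2) F) : Matrix (Fin 2) (Fin 2) F) = (a : F) • (1 : Matrix (Fin 2) (Fin 2) F) := by
    intro g
    obtain ⟨a, ha⟩ := rho_ker g.1 ((hψ g.1).mp g.2)
    have ha0 : a ≠ 0 := by
      intro h0
      have hdet : ((g : GL (Fin 2) F) : Matrix (Fin 2) (Fin 2) F).det ≠ 0 :=
        (Matrix.GeneralLinearGroup.det (g : GL (Fin 2) F)).ne_zero
      rw [ha, h0, zero_smul, Matrix.det_zero] at hdet
      exact hdet rfl
    exact ⟨Units.mk0 a ha0, ha⟩
  have hkerψ : Nat.card ψ.ker ≤ q - 1 := by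
    have h1 : Nat.card ψ.ker ≤ Nat.card Fˣ := by
      apply Nat.card_le_card_of_injective (fun g => (hscal g).choose)
      intro g g' hgg
      apply Subtype.ext
      apply Units.ext
      rw [(hscal g).choose_spec, (hscal g').choose_spec]
      simp only at hgg
      rw [hgg]
    rw [Nat.card_units, Nat.card_eq_fintype_card (α := F), hq] at h1
    exact h1
  -- cardinalities
  have hO : Nat.card ↥(Cfsg.isometryGroup F (Cfsg.quadFormOdd 1 F)) = 2 * q * (q ^ 2 - 1) := by
    rw [Cfsg.Agent.Lib.Helper14.card_isometry_odd h2 1, hq]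
    simp
  have hGL := card_gl2 (F := F) hq
  have hSL := card_sl2 (F := F) hq (by omega)
  have hq1 : 0 < q - 1 := by omega
  have hq2 : 0 < q ^ 2 - 1 := by
    have : 1 < q ^ 2 := by nlinarith
    omega
  -- M = range ψ has index at most two
  have hMcard : q * (q ^ 2 - 1) ≤ Nat.card ↥ψ.range := by
    have h1 := Subgroup.card_eq_card_quotient_mul_card_subgroup ψ.ker
    rw [Nat.card_congr (QuotientGroup.quotientKerEquivRange ψ).toEquiv, hGL] at h1
    have h3 : (q ^ 2 - 1) * (q * (q - 1)) ≤ Nat.card ↥ψ.range * (q - 1) := by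
      rw [h1]
      exact Nat.mul_le_mul_left _ hkerψ
    have h4 : q * (q ^ 2 - 1) * (q - 1) ≤ Nat.card ↥ψ.range * (q - 1) := by
      calc q * (q ^ 2 - 1) * (q - 1) = (q ^ 2 - 1) * (q * (q - 1)) := by ring
        _ ≤ _ := h3
    exact Nat.le_of_mul_le_mul_right h4 hq1
  have hMidx : ψ.range.index ≤ 2 := by
    have h2' := Subgroup.card_mul_index ψ.range
    rw [hO] at h2'
    have hR : 0 < Nat.card ↥ψ.range := Nat.card_pos
    have h4 : Nat.card ↥ψ.range * ψ.range.index ≤ Nat.card ↥ψ.range * 2 := by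
      rw [h2']
      calc 2 * q * (q ^ 2 - 1) = (q * (q ^ 2 - 1)) * 2 := by ring
        _ ≤ Nat.card ↥ψ.range * 2 := Nat.mul_le_mul_right _ hMcard
    exact Nat.le_of_mul_le_mul_left h4 hR
  have hMn : ψ.range.Normal :=
    normal_of_index_le_two _ Subgroup.index_ne_zero_of_finite hMidx
  -- N = [M, M] = range θ
  let θ : Matrix.SpecialLinearGroup (Fin 2) F →* ↥(Cfsg.isometryGroup F (Cfsg.quadFormOdd 1 F)) :=
    ψ.comp Matrix.SpecialLinearGroup.toGL
  have hN : ⁅ψ.range, ψ.range⁆ = θ.range := by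
    rw [MonoidHom.range_eq_map, ← Subgroup.map_commutator, ← commutator_def,
      Cfsg.Agent.S0264.result 2 (fun _ => ?_), ker_det_eq_range, MonoidHom.range_comp]
    -- an element different from 0 and 1
    refine ⟨2, h2, ?_⟩
    intro h
    have : (1 : F) = 0 := by linear_combination h
    exact one_ne_zero this
  have hNn : θ.range.Normal := by
    rw [← hN]
    infer_instance
  have hle : θ.range ≤ commutator ↥(Cfsg.isometryGroup F (Cfsg.quadFormOdd 1 F)) := by
    rw [← hN, commutator_def]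
    exact Subgroup.commutator_mono le_top le_top
  -- the kernel of θ
  have hkerscal : ∀ s ∈ θ.ker, ∃ a : F, a * a = 1 ∧
      (s : Matrix (Fin 2) (Fin 2) F) = a • (1 : Matrix (Fin 2) (Fin 2) F) := by
    intro s hs
    have h1 : ψ (Matrix.SpecialLinearGroup.toGL s) = 1 := hs
    obtain ⟨a, ha⟩ := rho_ker _ ((hψ _).mp h1)
    have ha' : (s : Matrix (Fin 2) (Fin 2) F) = a • (1 : Matrix (Fin 2) (Fin 2) F) := ha
    refine ⟨a, ?_, ha'⟩
    have hdet := s.2
    rw [ha', Matrix.det_smul, Matrix.det_one, mul_one, Fintype.card_fin] at hdet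
    linear_combination hdet
  have hkerθ : Nat.card θ.ker ≤ 2 := card_le_two_of_scalar 0 θ.ker hkerscal
  have hNidx : θ.range.index ≤ 4 := by
    have h1 := Subgroup.card_eq_card_quotient_mul_card_subgroup θ.ker
    rw [Nat.card_congr (QuotientGroup.quotientKerEquivRange θ).toEquiv, hSL] at h1
    have h2' := Subgroup.card_mul_index θ.range
    rw [hO] at h2'
    have hR : 0 < Nat.card ↥θ.range := Nat.card_pos
    have h4 : Nat.card ↥θ.range * θ.range.index ≤ Nat.card ↥θ.range * 4 := by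
      rw [h2']
      calc 2 * q * (q ^ 2 - 1) = 2 * (q * (q ^ 2 - 1)) := by ring
        _ = 2 * (Nat.card ↥θ.range * Nat.card ↥θ.ker) := by rw [h1]
        _ = Nat.card ↥θ.range * (2 * Nat.card ↥θ.ker) := by ring
        _ ≤ Nat.card ↥θ.range * (2 * 2) := by gcongr
        _ = Nat.card ↥θ.range * 4 := by norm_num
    exact Nat.le_of_mul_le_mul_left h4 hR
  have hΩ : commutator ↥(Cfsg.isometryGroup F (Cfsg.quadFormOdd 1 F)) = θ.range :=
    commutator_eq_of_normal_of_index_le_four θ.range Subgroup.index_ne_zero_of_finite hNidx hle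
  obtain ⟨φ, hφ⟩ : ∃ φ : Matrix.SpecialLinearGroup (Fin 2) F →*
      ↥(Cfsg.Omega F (Cfsg.quadFormOdd 1 F)),
      ∀ s, (φ s : ↥(Cfsg.isometryGroup F (Cfsg.quadFormOdd 1 F))) = θ s :=
    ⟨θ.codRestrict _ (fun s => by
      show θ s ∈ commutator ↥(Cfsg.isometryGroup F (Cfsg.quadFormOdd 1 F))
      rw [hΩ]; exact ⟨s, rfl⟩), fun _ => rfl⟩
  have hsurj : Function.Surjective φ := by
    rintro ⟨y, hy⟩
    have hy' : y ∈ commutator ↥(Cfsg.isometryGroup F (Cfsg.quadFormOdd 1 F)) := hy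
    rw [hΩ] at hy'
    obtain ⟨s, rfl⟩ := hy'
    exact ⟨s, Subtype.ext (hφ s)⟩
  have hZ : ∀ s : Matrix.SpecialLinearGroup (Fin 2) F, (∀ x, ⁅s, x⁆ ∈ φ.ker) →
      s ∈ Subgroup.center (Matrix.SpecialLinearGroup (Fin 2) F) := by
    intro s hs
    apply central_of_comm_scalar h2
    intro x
    have h1 : ⁅s, x⁆ ∈ θ.ker := by
      have := hs x
      rw [MonoidHom.mem_ker] at this ⊢
      rw [← hφ, this]
      rfl
    obtain ⟨a, -, ha⟩ := hkerscal _ h1
    exact ⟨a, ha⟩
  exact ⟨(centerQuotientEquiv' φ hsurj hZ).symm⟩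

end final

/-- PΩ_3(q) is isomorphic to PSL_2(q) for q odd. -/
theorem result {F : Type*} [Field F] [Fintype F] (hodd : Odd (Fintype.card F)) : Nonempty (Cfsg.POmega F (Cfsg.quadFormOdd 1 F) ≃* Matrix.ProjectiveSpecialLinearGroup (Fin 2) F) := by
  exact main hodd

end Cfsg.Agent.S0298
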