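import Cfsg.Statements.S0299
import Cfsg.Agent.S0298
import Cfsg.Agent.Lib.Helper14.OrthPlus

set_option autoImplicit false
open Cfsg

namespace Cfsg.Agent.S0299

open Cfsg.Agent.Lib.Helper15 Cfsg.Agent.Lib.Helper15.HermAct Cfsg.Agent.Lib.Helper15.OmegaIso2
  Cfsg.Agent.Lib.Helper15.PerfectIndex Matrix
open scoped commutatorElement

section model

variable {F : Type*} [Field F]

/-- the index type of the four-dimensional space -/
abbrev J := Fin 2 ⊕ Fin 2

/-- the matrix of a vector -/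
def Xm (v : J → F) : Matrix (Fin 2) (Fin 2) F :=
  Matrix.of ![![v (.inl 0), v (.inl 1)], ![-v (.inr 1), v (.inr 0)]]

lemma Xm_00 (v : J → F) : Xm v 0 0 = v (.inl 0) := rfl
lemma Xm_01 (v : J → F) : Xm v 0 1 = v (.inl 1) := rfl
lemma Xm_10 (v : J → F) : Xm v 1 0 = -v (.inr 1) := rfl
lemma Xm_11 (v : J → F) : Xm v 1 1 = v (.inr 0) := rfl

/-- coordinates of a matrix -/
def Ym (A : Matrix (Fin 2) (Fin 2) F) : J → F :=
  Sum.elim ![A 0 0, A 0 1] ![A 1 1, -A 1 0]

def XL : (J → F) →ₗ[F] Matrix (Fin 2) (Fin 2) F where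
  toFun := Xm
  map_add' v w := by
    ext i j
    fin_cases i <;> fin_cases j
    · show Xm (v + w) 0 0 = Xm v 0 0 + Xm w 0 0
      simp only [Xm_00, Pi.add_apply]
    · show Xm (v + w) 0 1 = Xm v 0 1 + Xm w 0 1
      simp only [Xm_01, Pi.add_apply]
    · show Xm (v + w) 1 0 = Xm v 1 0 + Xm w 1 0
      simp only [Xm_10, Pi.add_apply]
      ring
    · show Xm (v + w) 1 1 = Xm v 1 1 + Xm w 1 1
      simp only [Xm_11, Pi.add_apply]
  map_smul' c v := by
    ext i j
    fin_cases i <;> fin_cases j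
    · show Xm (c • v) 0 0 = c • Xm v 0 0
      simp only [Xm_00, Pi.smul_apply]
    · show Xm (c • v) 0 1 = c • Xm v 0 1
      simp only [Xm_01, Pi.smul_apply]
    · show Xm (c • v) 1 0 = c • Xm v 1 0
      simp only [Xm_10, Pi.smul_apply, smul_eq_mul]
      ring
    · show Xm (c • v) 1 1 = c • Xm v 1 1
      simp only [Xm_11, Pi.smul_apply]

def YL : Matrix (Fin 2) (Fin 2) F →ₗ[F] (J → F) where
  toFun := Ym
  map_add' A B := by
    funext j
    rcases j with i | i <;> fin_cases i <;> (simp [Ym]; try ring)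
  map_smul' c A := by
    funext j
    rcases j with i | i <;> fin_cases i <;> simp [Ym]

lemma YX (v : J → F) : Ym (Xm v) = v := by
  funext j
  rcases j with i | i <;> fin_cases i <;> simp [Ym, Xm]

lemma XY (A : Matrix (Fin 2) (Fin 2) F) : Xm (Ym A) = A := by
  ext i j
  fin_cases i <;> fin_cases j <;> simp [Ym, Xm]

lemma det_Xm (v : J → F) : (Xm v).det = Cfsg.quadFormPlus 2 F v := by
  rw [Matrix.det_fin_two, Xm_00, Xm_01, Xm_10, Xm_11]
  unfold Cfsg.quadFormPlus
  rw [Fin.sum_univ_two]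
  ring

/-- the two-sided action as a linear map -/
def actL (p : GL (Fin 2) F × GL (Fin 2) F) :
    Matrix (Fin 2) (Fin 2) F →ₗ[F] Matrix (Fin 2) (Fin 2) F where
  toFun A := (p.1 : Matrix (Fin 2) (Fin 2) F) * A *
    ((p.2⁻¹ : GL (Fin 2) F) : Matrix (Fin 2) (Fin 2) F)
  map_add' A B := by rw [Matrix.mul_add, Matrix.add_mul]
  map_smul' c A := by rw [Matrix.mul_smul, Matrix.smul_mul]; rfl

lemma actL_apply (p : GL (Fin 2) F × GL (Fin 2) F) (A : Matrix (Fin 2) (Fin 2) F) :
    actL p A = (p.1 : Matrix (Fin 2) (Fin 2) F) * A *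
      ((p.2⁻¹ : GL (Fin 2) F) : Matrix (Fin 2) (Fin 2) F) := rfl

lemma det_actL (p : GL (Fin 2) F × GL (Fin 2) F)
    (hp : Matrix.GeneralLinearGroup.det p.1 = Matrix.GeneralLinearGroup.det p.2)
    (A : Matrix (Fin 2) (Fin 2) F) : (actL p A).det = A.det := by
  rw [actL_apply, Matrix.det_mul, Matrix.det_mul]
  have h1 : (p.1 : Matrix (Fin 2) (Fin 2) F).det = (p.2 : Matrix (Fin 2) (Fin 2) F).det := by
    have := congrArg Units.val hp
    exact this
  have h2 : (p.2 : Matrix (Fin 2) (Fin 2) F).det *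
      ((p.2⁻¹ : GL (Fin 2) F) : Matrix (Fin 2) (Fin 2) F).det = 1 := by
    rw [← Matrix.det_mul, ← Units.val_mul, mul_inv_cancel]
    simp
  rw [h1]
  linear_combination A.det * h2

lemma actL_mul (p r : GL (Fin 2) F × GL (Fin 2) F) (A : Matrix (Fin 2) (Fin 2) F) :
    actL (p * r) A = actL p (actL r A) := by
  simp only [actL_apply, Prod.fst_mul, Prod.snd_mul, _root_.mul_inv_rev, Units.val_mul,
    Matrix.mul_assoc]

lemma actL_one (A : Matrix (Fin 2) (Fin 2) F) :
    actL (1 : GL (Fin 2) F × GL (Fin 2) F) A = A := by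
  simp [actL_apply]

/-- the representation of `GL₂(F) × GL₂(F)` on the four-dimensional space -/
def rho : GL (Fin 2) F × GL (Fin 2) F →* Module.End F (J → F) where
  toFun p := YL ∘ₗ actL p ∘ₗ XL
  map_one' := by
    refine LinearMap.ext fun v => ?_
    show Ym (actL 1 (Xm v)) = v
    rw [actL_one, YX]
  map_mul' g h := by
    refine LinearMap.ext fun v => ?_
    show Ym (actL (g * h) (Xm v)) = Ym (actL g (Xm (Ym (actL h (Xm v)))))
    rw [actL_mul, XY]

lemma rho_apply (p : GL (Fin 2) F × GL (Fin 2) F) (v : J → F) : Xm (rho p v) = actL p (Xm v) := by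
  show Xm (Ym (actL p (Xm v))) = _
  rw [XY]

lemma rho_quad (p : GL (Fin 2) F × GL (Fin 2) F)
    (hp : Matrix.GeneralLinearGroup.det p.1 = Matrix.GeneralLinearGroup.det p.2) (v : J → F) :
    Cfsg.quadFormPlus 2 F (rho p v) = Cfsg.quadFormPlus 2 F v := by
  rw [← det_Xm, ← det_Xm, rho_apply, det_actL p hp]

/-- kernel elements are pairs of equal scalars -/
lemma rho_ker (p : GL (Fin 2) F × GL (Fin 2) F) (hp : rho p = 1) :
    p.1 = p.2 ∧ ∃ a : F, (p.1 : Matrix (Fin 2) (Fin 2) F) = a • (1 : Matrix (Fin 2) (Fin 2) F) := by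
  have hfix : ∀ A : Matrix (Fin 2) (Fin 2) F, actL p A = A := by
    intro A
    have := rho_apply p (Ym A)
    rw [hp] at this
    have h1 : (1 : Module.End F (J → F)) (Ym A) = Ym A := rfl
    rw [h1, XY] at this
    exact this.symm
  have h12 : p.1 = p.2 := by
    have h := hfix 1
    rw [actL_apply, Matrix.mul_one] at h
    have h' : p.1 * p.2⁻¹ = 1 := Units.ext h
    exact mul_inv_eq_one.mp h'
  refine ⟨h12, ?_⟩
  have hcomm : ∀ A : Matrix (Fin 2) (Fin 2) F,
      (p.1 : Matrix (Fin 2) (Fin 2) F) * A = A * (p.1 : Matrix (Fin 2) (Fin 2) F) := by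
    intro A
    have h := hfix A
    rw [actL_apply, ← h12] at h
    have h2 := congrArg (fun B => B * (p.1 : Matrix (Fin 2) (Fin 2) F)) h
    simp only [Matrix.mul_assoc] at h2
    rw [show ((p.1⁻¹ : GL (Fin 2) F) : Matrix (Fin 2) (Fin 2) F) *
      (p.1 : Matrix (Fin 2) (Fin 2) F) = 1
      from by rw [← Units.val_mul, inv_mul_cancel]; rfl, Matrix.mul_one] at h2
    exact h2
  set g := (p.1 : Matrix (Fin 2) (Fin 2) F) with hg
  have e1 := hcomm (Matrix.of ![![0, 1], ![0, 0]])
  have e2 := hcomm (Matrix.of ![![0, 0], ![1, 0]])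
  have h10 : g 1 0 = 0 := by
    have := congrFun (congrFun e1 0) 0
    simp [Matrix.mul_apply, Fin.sum_univ_two] at this
    exact this.symm
  have h00 : g 0 0 = g 1 1 := by
    have := congrFun (congrFun e1 0) 1
    simp [Matrix.mul_apply, Fin.sum_univ_two] at this
    exact this
  have h01 : g 0 1 = 0 := by
    have := congrFun (congrFun e2 0) 0
    simp [Matrix.mul_apply, Fin.sum_univ_two] at this
    exact this
  refine ⟨g 1 1, ?_⟩
  ext i j
  fin_cases i <;> fin_cases j
  · show g 0 0 = _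
    rw [h00]; simp
  · show g 0 1 = _
    rw [h01]; simp
  · show g 1 0 = _
    rw [h10]; simp
  · show g 1 1 = _
    simp

lemma central_of_comm_pm (s : Matrix.SpecialLinearGroup (Fin 2) F)
    (h : ∀ x : Matrix.SpecialLinearGroup (Fin 2) F, ∃ a : F, a * a = 1 ∧
      ((⁅s, x⁆ : Matrix.SpecialLinearGroup (Fin 2) F) : Matrix (Fin 2) (Fin 2) F) =
        a • (1 : Matrix (Fin 2) (Fin 2) F)) :
    s ∈ Subgroup.center (Matrix.SpecialLinearGroup (Fin 2) F) := by
  by_cases h2 : (2 : F) = 0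
  · rw [Subgroup.mem_center_iff]
    intro x
    obtain ⟨a, ha, hax⟩ := h x
    have ha1 : a = 1 := by
      have : (a - 1) * (a - 1) = 0 := by linear_combination ha + (1 - a) * h2
      rcases mul_eq_zero.mp this with h | h <;> exact sub_eq_zero.mp h
    rw [ha1, one_smul] at hax
    have h3 : ⁅s, x⁆ = 1 := Subtype.ext hax
    rw [commutatorElement_eq_one_iff_mul_comm] at h3
    exact h3.symm
  · exact Cfsg.Agent.S0298.central_of_comm_scalar h2 s
      (fun x => by obtain ⟨a, -, ha⟩ := h x; exact ⟨a, ha⟩)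

/-- the diagonal matrix `diag(c, 1)` as a monoid hom -/
def diagHom : F →* Matrix (Fin 2) (Fin 2) F where
  toFun c := Matrix.diagonal ![c, 1]
  map_one' := by
    ext i j
    fin_cases i <;> fin_cases j <;> simp
  map_mul' a b := by
    rw [Matrix.diagonal_mul_diagonal]
    congr 1
    funext i
    fin_cases i <;> simp

/-- `u ↦ diag(u, 1)` into `GL₂` -/
def dG : Fˣ →* GL (Fin 2) F := Units.map diagHom

lemma det_dG (u : Fˣ) : Matrix.GeneralLinearGroup.det (dG u) = u := by
  apply Units.ext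
  show (Matrix.diagonal ![(u : F), 1]).det = u
  rw [Matrix.det_diagonal, Fin.prod_univ_two]
  simp

/-- the quotient of determinants -/
def delta : GL (Fin 2) F × GL (Fin 2) F →* Fˣ :=
  (Matrix.GeneralLinearGroup.det.comp (MonoidHom.fst _ _)) /
    (Matrix.GeneralLinearGroup.det.comp (MonoidHom.snd _ _))

lemma mem_ker_delta (p : GL (Fin 2) F × GL (Fin 2) F) :
    p ∈ (delta (F := F)).ker ↔
      Matrix.GeneralLinearGroup.det p.1 = Matrix.GeneralLinearGroup.det p.2 := by
  rw [MonoidHom.mem_ker]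
  show Matrix.GeneralLinearGroup.det p.1 / Matrix.GeneralLinearGroup.det p.2 = 1 ↔ _
  rw [div_eq_one]

lemma delta_surjective : Function.Surjective (delta (F := F)) := by
  intro u
  refine ⟨(dG u, 1), ?_⟩
  show Matrix.GeneralLinearGroup.det (dG u) / Matrix.GeneralLinearGroup.det (1 : GL (Fin 2) F) = u
  rw [det_dG, map_one, div_one]

/-- `g ↦ (g, diag(det g, 1))` -/
def kappa₁ : GL (Fin 2) F →* (delta (F := F)).ker :=
  (MonoidHom.prod (MonoidHom.id _) (dG.comp Matrix.GeneralLinearGroup.det)).codRestrict _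
    (fun g => by
      rw [mem_ker_delta]
      show Matrix.GeneralLinearGroup.det g = Matrix.GeneralLinearGroup.det (dG _)
      rw [det_dG])

/-- `g ↦ (diag(det g, 1), g)` -/
def kappa₂ : GL (Fin 2) F →* (delta (F := F)).ker :=
  (MonoidHom.prod (dG.comp Matrix.GeneralLinearGroup.det) (MonoidHom.id _)).codRestrict _
    (fun g => by
      rw [mem_ker_delta]
      show Matrix.GeneralLinearGroup.det (dG _) = Matrix.GeneralLinearGroup.det g
      rw [det_dG])

/-- the inclusion of `SL₂ × SL₂` -/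
def incl : Matrix.SpecialLinearGroup (Fin 2) F × Matrix.SpecialLinearGroup (Fin 2) F →*
    (delta (F := F)).ker :=
  (MonoidHom.prodMap Matrix.SpecialLinearGroup.toGL Matrix.SpecialLinearGroup.toGL).codRestrict _
    (fun p => by
      rw [mem_ker_delta]
      show Matrix.GeneralLinearGroup.det (Matrix.SpecialLinearGroup.toGL p.1) =
        Matrix.GeneralLinearGroup.det (Matrix.SpecialLinearGroup.toGL p.2)
      rw [Matrix.SpecialLinearGroup.coeToGL_det, Matrix.SpecialLinearGroup.coeToGL_det])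

lemma incl_eq (s t : Matrix.SpecialLinearGroup (Fin 2) F) :
    incl (s, t) = kappa₁ (Matrix.SpecialLinearGroup.toGL s) *
      kappa₂ (Matrix.SpecialLinearGroup.toGL t) := by
  apply Subtype.ext
  show (Matrix.SpecialLinearGroup.toGL s, Matrix.SpecialLinearGroup.toGL t) =
    (Matrix.SpecialLinearGroup.toGL s,
        dG (Matrix.GeneralLinearGroup.det (Matrix.SpecialLinearGroup.toGL s))) *
      (dG (Matrix.GeneralLinearGroup.det (Matrix.SpecialLinearGroup.toGL t)),
        Matrix.SpecialLinearGroup.toGL t)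
  rw [Matrix.SpecialLinearGroup.coeToGL_det, Matrix.SpecialLinearGroup.coeToGL_det, map_one]
  simp

lemma commutator_ker_delta (hF : ∃ a : F, a ≠ 0 ∧ a ≠ 1) :
    commutator (delta (F := F)).ker = (incl (F := F)).range := by
  apply le_antisymm
  · -- determinants of commutators are one
    let η : (delta (F := F)).ker →* Fˣ :=
      Matrix.GeneralLinearGroup.det.comp ((MonoidHom.fst _ _).comp (delta (F := F)).ker.subtype)
    intro p hp
    have h1 : p ∈ η.ker := Abelianization.commutator_subset_ker η hp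
    have hd1 : Matrix.GeneralLinearGroup.det p.1.1 = 1 := h1
    have hd2 : Matrix.GeneralLinearGroup.det p.1.2 = 1 := by
      rw [← (mem_ker_delta p.1).mp p.2, hd1]
    have e1 : (p.1.1 : Matrix (Fin 2) (Fin 2) F).det = 1 := congrArg Units.val hd1
    have e2 : (p.1.2 : Matrix (Fin 2) (Fin 2) F).det = 1 := congrArg Units.val hd2
    refine ⟨(⟨(p.1.1 : Matrix (Fin 2) (Fin 2) F), e1⟩, ⟨(p.1.2 : Matrix (Fin 2) (Fin 2) F), e2⟩), ?_⟩
    apply Subtype.ext
    apply Prod.ext
    · exact Units.ext rfl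
    · exact Units.ext rfl
  · rintro _ ⟨⟨s, t⟩, rfl⟩
    rw [incl_eq]
    have hs : Matrix.SpecialLinearGroup.toGL s ∈ commutator (GL (Fin 2) F) := by
      rw [Cfsg.Agent.S0264.result 2 (fun _ => hF), MonoidHom.mem_ker]
      exact Matrix.SpecialLinearGroup.coeToGL_det s
    have ht : Matrix.SpecialLinearGroup.toGL t ∈ commutator (GL (Fin 2) F) := by
      rw [Cfsg.Agent.S0264.result 2 (fun _ => hF), MonoidHom.mem_ker]
      exact Matrix.SpecialLinearGroup.coeToGL_det t
    have hmap : ∀ κ : GL (Fin 2) F →* (delta (F := F)).ker,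
        (commutator (GL (Fin 2) F)).map κ ≤ commutator (delta (F := F)).ker := by
      intro κ
      rw [commutator_def, Subgroup.map_commutator, commutator_def]
      exact Subgroup.commutator_mono le_top le_top
    exact Subgroup.mul_mem _ (hmap kappa₁ ⟨_, hs, rfl⟩) (hmap kappa₂ ⟨_, ht, rfl⟩)

end model

section final

variable {F : Type*} [Field F] [Fintype F]

open Cfsg.Agent.S0298 (card_sl2 card_gl2)

theorem main (hF : 3 ≤ Fintype.card F) :
    Nonempty (Cfsg.POmega F (Cfsg.quadFormPlus 2 F) ≃*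
      Matrix.ProjectiveSpecialLinearGroup (Fin 2) F × Matrix.ProjectiveSpecialLinearGroup (Fin 2) F) := by
  classical
  obtain ⟨q, hq⟩ : ∃ q, Fintype.card F = q := ⟨_, rfl⟩
  have hq3 : 3 ≤ q := by rw [← hq]; exact hF
  -- an element different from 0 and 1
  have hex : ∃ a : F, a ≠ 0 ∧ a ≠ 1 := by
    have hlt : ({0, 1} : Finset F).card < (Finset.univ : Finset F).card := by
      rw [Finset.card_univ]
      calc ({0, 1} : Finset F).card ≤ 2 := Finset.card_le_two
        _ < Fintype.card F := by omega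
    obtain ⟨x, -, hx⟩ := Finset.exists_mem_notMem_of_card_lt_card hlt
    simp only [Finset.mem_insert, Finset.mem_singleton, not_or] at hx
    exact ⟨x, hx.1, hx.2⟩
  let G₁ := (delta (F := F)).ker
  let ρ₁ : G₁ →* Module.End F (J → F) := (rho (F := F)).comp G₁.subtype
  obtain ⟨ψ, hψ⟩ := hom_of_rep (Cfsg.quadFormPlus 2 F) ρ₁
    (fun p v => rho_quad p.1 ((mem_ker_delta p.1).mp p.2) v)
  -- the kernel of ψ
  have hscal : ∀ g : ψ.ker, ∃ a : Fˣ,
      (((g : G₁) : GL (Fin 2) F × GL (Fin 2) F).1 : Matrix (Fin 2) (Fin 2) F) =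
        (a : F) • (1 : Matrix (Fin 2) (Fin 2) F) := by
    intro g
    obtain ⟨-, a, ha⟩ := rho_ker (g : G₁).1 ((hψ g.1).mp g.2)
    have ha0 : a ≠ 0 := by
      intro h0
      have hdet : (((g : G₁) : GL (Fin 2) F × GL (Fin 2) F).1 : Matrix (Fin 2) (Fin 2) F).det ≠ 0 :=
        (Matrix.GeneralLinearGroup.det ((g : G₁) : GL (Fin 2) F × GL (Fin 2) F).1).ne_zero
      rw [ha, h0, zero_smul, Matrix.det_zero] at hdet
      exact hdet rfl
    exact ⟨Units.mk0 a ha0, ha⟩
  have hkerψ : Nat.card ψ.ker ≤ q - 1 := by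
    have h1 : Nat.card ψ.ker ≤ Nat.card Fˣ := by
      apply Nat.card_le_card_of_injective (fun g => (hscal g).choose)
      intro g g' hgg
      simp only at hgg
      have e12 : ∀ g : ψ.ker, ((g : G₁) : GL (Fin 2) F × GL (Fin 2) F).1 =
          ((g : G₁) : GL (Fin 2) F × GL (Fin 2) F).2 :=
        fun g => (rho_ker (g : G₁).1 ((hψ g.1).mp g.2)).1
      have e1 : ((g : G₁) : GL (Fin 2) F × GL (Fin 2) F).1 =
          ((g' : G₁) : GL (Fin 2) F × GL (Fin 2) F).1 := by
        apply Units.ext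
        rw [(hscal g).choose_spec, (hscal g').choose_spec, hgg]
      apply Subtype.ext
      apply Subtype.ext
      apply Prod.ext e1
      rw [← e12 g, ← e12 g', e1]
    rw [Nat.card_units, Nat.card_eq_fintype_card (α := F), hq] at h1
    exact h1
  -- cardinalities
  have hO : Nat.card ↥(Cfsg.isometryGroup F (Cfsg.quadFormPlus 2 F)) =
      2 * q ^ 2 * (q ^ 2 - 1) * (q ^ 2 - 1) := by
    have := Cfsg.Agent.Lib.Helper14.card_isometry_plus (F := F) 1
    rw [hq] at this
    simpa using this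
  have hGL := card_gl2 (F := F) hq
  have hSL := card_sl2 (F := F) hq (by omega)
  have hq1 : 0 < q - 1 := by omega
  have hq2 : 0 < q ^ 2 - 1 := by
    have : 1 < q ^ 2 := by nlinarith
    omega
  have hG₁ : Nat.card G₁ * (q - 1) = ((q ^ 2 - 1) * (q * (q - 1))) ^ 2 := by
    have h1 := Subgroup.card_eq_card_quotient_mul_card_subgroup (delta (F := F)).ker
    rw [Nat.card_congr (QuotientGroup.quotientKerEquivOfSurjective _ delta_surjective).toEquiv,
      Nat.card_prod, hGL, Nat.card_units, Nat.card_eq_fintype_card (α := F), hq] at h1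
    rw [mul_comm, ← h1]
    ring
  have hMcard : q ^ 2 * (q ^ 2 - 1) * (q ^ 2 - 1) ≤ Nat.card ↥ψ.range := by
    have h1 := Subgroup.card_eq_card_quotient_mul_card_subgroup ψ.ker
    rw [Nat.card_congr (QuotientGroup.quotientKerEquivRange ψ).toEquiv] at h1
    have h3 : ((q ^ 2 - 1) * (q * (q - 1))) ^ 2 ≤ Nat.card ↥ψ.range * (q - 1) * (q - 1) := by
      rw [← hG₁, h1]
      exact Nat.mul_le_mul_right _ (Nat.mul_le_mul_left _ hkerψ)
    have h4 : q ^ 2 * (q ^ 2 - 1) * (q ^ 2 - 1) * ((q - 1) * (q - 1))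
        ≤ Nat.card ↥ψ.range * ((q - 1) * (q - 1)) := by
      calc q ^ 2 * (q ^ 2 - 1) * (q ^ 2 - 1) * ((q - 1) * (q - 1))
          = ((q ^ 2 - 1) * (q * (q - 1))) ^ 2 := by ring
        _ ≤ Nat.card ↥ψ.range * (q - 1) * (q - 1) := by exact h3
        _ = Nat.card ↥ψ.range * ((q - 1) * (q - 1)) := by ring
    exact Nat.le_of_mul_le_mul_right h4 (Nat.mul_pos hq1 hq1)
  have hMidx : ψ.range.index ≤ 2 := by
    have h2' := Subgroup.card_mul_index ψ.range
    rw [hO] at h2'
    have hR : 0 < Nat.card ↥ψ.range := Nat.card_pos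
    have h4 : Nat.card ↥ψ.range * ψ.range.index ≤ Nat.card ↥ψ.range * 2 := by
      rw [h2']
      calc 2 * q ^ 2 * (q ^ 2 - 1) * (q ^ 2 - 1) = (q ^ 2 * (q ^ 2 - 1) * (q ^ 2 - 1)) * 2 := by ring
        _ ≤ Nat.card ↥ψ.range * 2 := Nat.mul_le_mul_right _ hMcard
    exact Nat.le_of_mul_le_mul_left h4 hR
  have hMn : ψ.range.Normal :=
    normal_of_index_le_two _ Subgroup.index_ne_zero_of_finite hMidx
  -- N = [M, M] = range θ
  let θ : Matrix.SpecialLinearGroup (Fin 2) F × Matrix.SpecialLinearGroup (Fin 2) F →*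
      ↥(Cfsg.isometryGroup F (Cfsg.quadFormPlus 2 F)) := ψ.comp incl
  have hN : ⁅ψ.range, ψ.range⁆ = θ.range := by
    rw [MonoidHom.range_eq_map, ← Subgroup.map_commutator, ← commutator_def,
      commutator_ker_delta hex, MonoidHom.range_comp]
  have hNn : θ.range.Normal := by
    rw [← hN]
    infer_instance
  have hle : θ.range ≤ commutator ↥(Cfsg.isometryGroup F (Cfsg.quadFormPlus 2 F)) := by
    rw [← hN, commutator_def]
    exact Subgroup.commutator_mono le_top le_top
  -- the kernel of θ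
  have hkerscal : ∀ p ∈ θ.ker, p.1 = p.2 ∧ ∃ a : F, a * a = 1 ∧
      (p.1 : Matrix (Fin 2) (Fin 2) F) = a • (1 : Matrix (Fin 2) (Fin 2) F) := by
    intro p hp
    have h1 : ψ (incl p) = 1 := hp
    have h1' : ρ₁ (incl p) = 1 := (hψ (incl p)).mp h1
    have h1'' : rho (F := F) ((incl p : G₁) : GL (Fin 2) F × GL (Fin 2) F) = 1 := h1'
    obtain ⟨h12, a, ha⟩ := rho_ker _ h1''
    have ha' : (p.1 : Matrix (Fin 2) (Fin 2) F) = a • (1 : Matrix (Fin 2) (Fin 2) F) := ha
    have h12' : Matrix.SpecialLinearGroup.toGL p.1 = Matrix.SpecialLinearGroup.toGL p.2 := h12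
    refine ⟨Matrix.SpecialLinearGroup.toGL_injective h12', a, ?_, ha'⟩
    have hdet := p.1.2
    rw [ha', Matrix.det_smul, Matrix.det_one, mul_one, Fintype.card_fin] at hdet
    linear_combination hdet
  have hkerθ : Nat.card θ.ker ≤ 2 := by
    have hS : Nat.card ((θ.ker).map (MonoidHom.fst _ _)) ≤ 2 := by
      apply card_le_two_of_scalar 0
      rintro s ⟨p, hp, rfl⟩
      exact (hkerscal p hp).2
    refine le_trans ?_ hS
    apply Nat.card_le_card_of_injective
      (fun p : θ.ker => (⟨p.1.1, Subgroup.mem_map_of_mem (MonoidHom.fst _ _) p.2⟩ :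
        (θ.ker).map (MonoidHom.fst _ _)))
    intro p p' hpp
    have e1 : p.1.1 = p'.1.1 := congrArg Subtype.val hpp
    apply Subtype.ext
    apply Prod.ext e1
    rw [← (hkerscal p.1 p.2).1, ← (hkerscal p'.1 p'.2).1, e1]
  have hNidx : θ.range.index ≤ 4 := by
    have h1 := Subgroup.card_eq_card_quotient_mul_card_subgroup θ.ker
    rw [Nat.card_congr (QuotientGroup.quotientKerEquivRange θ).toEquiv, Nat.card_prod, hSL] at h1
    have h2' := Subgroup.card_mul_index θ.range
    rw [hO] at h2'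
    have hR : 0 < Nat.card ↥θ.range := Nat.card_pos
    have h4 : Nat.card ↥θ.range * θ.range.index ≤ Nat.card ↥θ.range * 4 := by
      rw [h2']
      calc 2 * q ^ 2 * (q ^ 2 - 1) * (q ^ 2 - 1)
          = 2 * (q * (q ^ 2 - 1) * (q * (q ^ 2 - 1))) := by ring
        _ = 2 * (Nat.card ↥θ.range * Nat.card ↥θ.ker) := by rw [h1]
        _ = Nat.card ↥θ.range * (2 * Nat.card ↥θ.ker) := by ring
        _ ≤ Nat.card ↥θ.range * (2 * 2) := by gcongr
        _ = Nat.card ↥θ.range * 4 := by norm_num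
    exact Nat.le_of_mul_le_mul_left h4 hR
  have hΩ : commutator ↥(Cfsg.isometryGroup F (Cfsg.quadFormPlus 2 F)) = θ.range :=
    commutator_eq_of_normal_of_index_le_four θ.range Subgroup.index_ne_zero_of_finite hNidx hle
  obtain ⟨φ, hφ⟩ : ∃ φ : Matrix.SpecialLinearGroup (Fin 2) F × Matrix.SpecialLinearGroup (Fin 2) F →*
      ↥(Cfsg.Omega F (Cfsg.quadFormPlus 2 F)),
      ∀ s, (φ s : ↥(Cfsg.isometryGroup F (Cfsg.quadFormPlus 2 F))) = θ s :=
    ⟨θ.codRestrict _ (fun s => by
      show θ s ∈ commutator ↥(Cfsg.isometryGroup F (Cfsg.quadFormPlus 2 F))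
      rw [hΩ]; exact ⟨s, rfl⟩), fun _ => rfl⟩
  have hsurj : Function.Surjective φ := by
    rintro ⟨y, hy⟩
    have hy' : y ∈ commutator ↥(Cfsg.isometryGroup F (Cfsg.quadFormPlus 2 F)) := hy
    rw [hΩ] at hy'
    obtain ⟨s, rfl⟩ := hy'
    exact ⟨s, Subtype.ext (hφ s)⟩
  have hZ : ∀ p : Matrix.SpecialLinearGroup (Fin 2) F × Matrix.SpecialLinearGroup (Fin 2) F,
      (∀ x, ⁅p, x⁆ ∈ φ.ker) → p ∈ Subgroup.center
        (Matrix.SpecialLinearGroup (Fin 2) F × Matrix.SpecialLinearGroup (Fin 2) F) := by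
    intro p hp
    have hθ : ∀ x, ⁅p, x⁆ ∈ θ.ker := by
      intro x
      have := hp x
      rw [MonoidHom.mem_ker] at this ⊢
      rw [← hφ, this]
      rfl
    rw [Subgroup.center_prod, Subgroup.mem_prod]
    constructor
    · apply central_of_comm_pm
      intro x
      obtain ⟨-, a, ha, hax⟩ := hkerscal _ (hθ (x, 1))
      exact ⟨a, ha, hax⟩
    · apply central_of_comm_pm
      intro x
      obtain ⟨h12, a, ha, hax⟩ := hkerscal _ (hθ (1, x))
      refine ⟨a, ha, ?_⟩
      rw [← hax]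
      exact congrArg (fun y : Matrix.SpecialLinearGroup (Fin 2) F =>
        (y : Matrix (Fin 2) (Fin 2) F)) h12.symm
  have e1 := (centerQuotientEquiv' φ hsurj hZ).symm
  have e2 : (Matrix.SpecialLinearGroup (Fin 2) F × Matrix.SpecialLinearGroup (Fin 2) F) ⧸
      Subgroup.center (Matrix.SpecialLinearGroup (Fin 2) F × Matrix.SpecialLinearGroup (Fin 2) F) ≃*
      Matrix.ProjectiveSpecialLinearGroup (Fin 2) F × Matrix.ProjectiveSpecialLinearGroup (Fin 2) F :=
    (QuotientGroup.quotientMulEquivOfEq Subgroup.center_prod).trans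
      (QuotientGroup.prodMulEquiv _ _)
  exact ⟨e1.trans e2⟩

end final

/-- PΩ^+_4(q) is isomorphic to PSL_2(q) x PSL_2(q) for q at least 3. -/
theorem result {F : Type*} [Field F] [Fintype F] (hF : 3 ≤ Fintype.card F) : Nonempty (Cfsg.POmega F (Cfsg.quadFormPlus 2 F) ≃* Matrix.ProjectiveSpecialLinearGroup (Fin 2) F × Matrix.ProjectiveSpecialLinearGroup (Fin 2) F) := by
  exact main hF

end Cfsg.Agent.S0299
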