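import Cfsg.Statements.S0302
-- import your own Cfsg.Agent.* helpers here
import Cfsg.Agent.S0256
import Cfsg.Agent.S0248
import Cfsg.Agent.Lib.Helper15.PerfectIndex
import Cfsg.Agent.Lib.Helper14.OrthPlus
import Cfsg.Agent.Lib.Helper13.SL2

set_option autoImplicit false
open Cfsg

namespace Cfsg.Agent.S0302

open Matrix Cfsg.Agent.S0256 Cfsg.Agent.Lib.Helper15.PerfectIndex

section aux
variable {F : Type*} [Field F]

theorem ker_scalar (s : Matrix.SpecialLinearGroup (Fin 4) F) (hs : s ∈ (psi F).ker) :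
    ∃ a : F, a * a = 1 ∧ (s : Matrix (Fin 4) (Fin 4) F) = a • (1 : Matrix (Fin 4) (Fin 4) F) := by
  rw [MonoidHom.mem_ker] at hs
  have hK : KK (s : Matrix (Fin 4) (Fin 4) F) = 1 := by
    have h1 : psi0 F s = 1 := by
      have := congrArg Subtype.val hs
      exact this
    rw [← psi0_val, h1]
    rfl
  have hd : ∀ i : Fin 4, (s : Matrix (Fin 4) (Fin 4) F) i i = (s : Matrix (Fin 4) (Fin 4) F) 0 0 := by
    intro i
    obtain ⟨j, hji, hj0⟩ := third i 0
    have h1 := diag_mul _ hK i j hji.symm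
    have h2 := diag_mul _ hK 0 j hj0.symm
    have hne : (s : Matrix (Fin 4) (Fin 4) F) j j ≠ 0 := by
      intro h0
      rw [h0, mul_zero] at h1
      exact zero_ne_one h1
    exact mul_right_cancel₀ hne (h1.trans h2.symm)
  refine ⟨(s : Matrix (Fin 4) (Fin 4) F) 0 0, ?_, ?_⟩
  · have := diag_mul _ hK 0 1 (by decide)
    rw [hd 1] at this
    exact this
  · ext i k
    by_cases hik : i = k
    · subst hik
      rw [hd i]
      simp
    · rw [offdiag_zero _ hK i k hik]
      simp [hik]

theorem ker_le_center : (psi F).ker ≤ Subgroup.center (Matrix.SpecialLinearGroup (Fin 4) F) := by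
  intro s hs
  obtain ⟨a, ha, hsa⟩ := ker_scalar s hs
  rw [Matrix.SpecialLinearGroup.mem_center_iff]
  refine ⟨a, ?_, ?_⟩
  · simp only [Fintype.card_fin]
    have : a ^ 4 = (a * a) * (a * a) := by ring
    rw [this, ha, one_mul]
  · rw [hsa, Matrix.smul_one_eq_diagonal]
    rfl

theorem card_ker_le [Finite F] : Nat.card (psi F).ker ≤ 2 := by
  classical
  have hfin : Finite (Matrix.SpecialLinearGroup (Fin 4) F) := by
    have : Fintype F := Fintype.ofFinite F
    infer_instance
  have : Nat.card (psi F).ker ≤ Nat.card Bool := by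
    apply Nat.card_le_card_of_injective
      (fun s : (psi F).ker => decide (((s : Matrix.SpecialLinearGroup (Fin 4) F) : Matrix (Fin 4) (Fin 4) F) 0 0 = 1))
    intro s t hst
    obtain ⟨a, ha, hsa⟩ := ker_scalar s.1 s.2
    obtain ⟨b, hb, htb⟩ := ker_scalar t.1 t.2
    have hsq : ∀ x : F, x * x = 1 → x = 1 ∨ x = -1 := by
      intro x hx
      have : (x - 1) * (x + 1) = 0 := by linear_combination hx
      rcases mul_eq_zero.mp this with h | h
      · left; exact sub_eq_zero.mp h
      · right; exact eq_neg_of_add_eq_zero_left h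
    have hs00 : ((s : Matrix.SpecialLinearGroup (Fin 4) F) : Matrix (Fin 4) (Fin 4) F) 0 0 = a := by
      rw [hsa]; simp
    have ht00 : ((t : Matrix.SpecialLinearGroup (Fin 4) F) : Matrix (Fin 4) (Fin 4) F) 0 0 = b := by
      rw [htb]; simp
    simp only [hs00, ht00, decide_eq_decide] at hst
    have hab : a = b := by
      rcases hsq a ha with h1 | h1 <;> rcases hsq b hb with h2 | h2
      · rw [h1, h2]
      · have : b = 1 := hst.mp h1
        rw [h1, this]
      · have : a = 1 := hst.mpr h2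
        rw [this, h2]
      · rw [h1, h2]
    apply Subtype.ext
    apply Subtype.ext
    rw [hsa, htb, hab]
  simpa using this

end aux

section main
variable {F : Type*} [Field F] [Fintype F]

omit [Fintype F] in
theorem range_perfect : ⁅(psi F).range, (psi F).range⁆ = (psi F).range := by
  rw [MonoidHom.range_eq_map, ← Subgroup.map_commutator, ← commutator_def,
    Cfsg.Agent.S0248.result 4 (by norm_num)]

theorem index_le_four : (psi F).range.index ≤ 4 := by
  classical
  obtain ⟨q, hq⟩ : ∃ q, q = Fintype.card F := ⟨_, rfl⟩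
  have hq2 : 2 ≤ q := by rw [hq]; exact Fintype.one_lt_card
  have hO := Cfsg.Agent.Lib.Helper14.card_isometry_plus (F := F) 2
  have hSL := Cfsg.Agent.Lib.Helper13.card_SL_mul (F := F) 4 (by norm_num)
  rw [Matrix.card_GL_field] at hSL
  simp only [Fin.prod_univ_four, Fin.val_zero, Fin.val_one, Fin.val_two, pow_zero] at hSL
  simp only [Finset.prod_range_succ, Finset.prod_range_zero, one_mul] at hO
  rw [← hq] at hO hSL
  have hker := card_ker_le (F := F)
  have h1 := Subgroup.card_eq_card_quotient_mul_card_subgroup (psi F).ker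
  rw [Nat.card_congr (QuotientGroup.quotientKerEquivRange (psi F)).toEquiv] at h1
  have h2 := Subgroup.card_mul_index (psi F).range
  have e1 : q ^ 4 - q ^ 1 = q * (q ^ 3 - 1) := by
    have : q * q ^ 3 = q ^ 4 := by ring
    rw [Nat.mul_sub, mul_one, this, pow_one]
  have e2 : q ^ 4 - q ^ 2 = q ^ 2 * (q ^ 2 - 1) := by
    have : q ^ 2 * q ^ 2 = q ^ 4 := by ring
    rw [Nat.mul_sub, mul_one, this]
  have e3 : q ^ 4 - q ^ ((3 : Fin 4) : ℕ) = q ^ 3 * (q - 1) := by
    have : q ^ 3 * q = q ^ 4 := by ring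
    rw [Nat.mul_sub, mul_one, this]
    rfl
  rw [e1, e2, e3] at hSL
  have hD : 0 < q - 1 := by omega
  have hOS : Nat.card ↥(isometryGroup F (quadFormPlus 3 F)) =
      2 * Nat.card (Matrix.SpecialLinearGroup (Fin 4) F) := by
    apply Nat.eq_of_mul_eq_mul_right hD
    rw [mul_assoc 2, hSL]
    have h3 : Nat.card ↥(isometryGroup F (quadFormPlus 3 F)) =
        Nat.card ↥(isometryGroup F (quadFormPlus (2 + 1) F)) := rfl
    rw [h3, hO]
    ring
  have hR : 0 < Nat.card ↥(psi F).range := Nat.card_pos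
  rw [hOS, h1] at h2
  have h4 : Nat.card ↥(psi F).range * (psi F).range.index ≤ Nat.card ↥(psi F).range * 4 := by
    rw [h2]
    calc 2 * (Nat.card ↥(psi F).range * Nat.card ↥(psi F).ker)
        = Nat.card ↥(psi F).range * (2 * Nat.card ↥(psi F).ker) := by ring
      _ ≤ Nat.card ↥(psi F).range * (2 * 2) := by gcongr
      _ = Nat.card ↥(psi F).range * 4 := by norm_num
  exact Nat.le_of_mul_le_mul_left h4 hR

end main

/-- PΩ^+_6(q) is isomorphic to PSL_4(q). -/
theorem result {F : Type*} [Field F] [Fintype F] : Nonempty (Cfsg.POmega F (Cfsg.quadFormPlus 3 F) ≃* Matrix.ProjectiveSpecialLinearGroup (Fin 4) F) := by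
  classical
  have hΩ : Cfsg.Omega F (Cfsg.quadFormPlus 3 F) = (psi F).range :=
    commutator_eq_of_perfect_of_index_le_four _ range_perfect
      (Subgroup.index_ne_zero_of_finite) index_le_four
  obtain ⟨φ, hφ⟩ : ∃ φ : Matrix.SpecialLinearGroup (Fin 4) F →* ↥(Cfsg.Omega F (Cfsg.quadFormPlus 3 F)),
      ∀ s, (φ s : ↥(Cfsg.isometryGroup F (Cfsg.quadFormPlus 3 F))) = psi F s :=
    ⟨(psi F).codRestrict _ (fun s => by rw [hΩ]; exact ⟨s, rfl⟩), fun _ => rfl⟩
  have hsurj : Function.Surjective φ := by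
    rintro ⟨y, hy⟩
    rw [hΩ] at hy
    obtain ⟨s, rfl⟩ := hy
    exact ⟨s, Subtype.ext (hφ s)⟩
  have hker : φ.ker ≤ Subgroup.center (Matrix.SpecialLinearGroup (Fin 4) F) := by
    intro s hs
    apply ker_le_center
    rw [MonoidHom.mem_ker] at hs ⊢
    rw [← hφ, hs]
    rfl
  exact ⟨(centerQuotientEquiv (Cfsg.Agent.S0248.result 4 (by norm_num)) φ hsurj hker).symm⟩

end Cfsg.Agent.S0302
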