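import Cfsg.Statements.S0301
-- import your own Cfsg.Agent.* helpers here
import Cfsg.Agent.S0302
import Cfsg.Agent.Lib.Helper14.SpPerfect
import Cfsg.Agent.Lib.Helper14.SympCount
import Cfsg.Agent.Lib.Helper14.OrthOdd
import Cfsg.Agent.Lib.Helper15.FiniteFieldPow

set_option autoImplicit false
open Cfsg

namespace Cfsg.Agent.S0301

open Matrix Cfsg.Agent.S0256 Cfsg.Agent.Lib.Helper15.PerfectIndex

section alg
variable {R : Type*} [CommRing R]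

/-- the alternating matrix with given Plücker coordinates -/
def altMat (p : Fin 3 ⊕ Fin 3 → R) : Matrix (Fin 4) (Fin 4) R :=
  !![0, p (Sum.inl 0), p (Sum.inl 1), p (Sum.inl 2);
     -p (Sum.inl 0), 0, p (Sum.inr 2), -p (Sum.inr 1);
     -p (Sum.inl 1), -p (Sum.inr 2), 0, p (Sum.inr 0);
     -p (Sum.inl 2), p (Sum.inr 1), -p (Sum.inr 0), 0]

theorem altMat_injective : Function.Injective (altMat (R := R)) := by
  intro p p' h
  have e := fun i j => congrFun (congrFun h i) j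
  ext I
  rcases I with I | I <;> fin_cases I
  · simpa [altMat] using e 0 1
  · simpa [altMat] using e 0 2
  · simpa [altMat] using e 0 3
  · simpa [altMat] using e 2 3
  · simpa [altMat] using e 3 1
  · simpa [altMat] using e 1 2

theorem alt_apply (A X : Matrix (Fin 4) (Fin 4) R) (i j : Fin 4) :
    (A * X * Aᵀ) i j = ∑ k : Fin 4, ∑ l : Fin 4, A i k * X k l * A j l := by
  rw [Matrix.mul_apply]
  simp only [Matrix.mul_apply, Matrix.transpose_apply, Finset.sum_mul]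
  rw [Finset.sum_comm]

theorem alt_act_entry (A : Matrix (Fin 4) (Fin 4) R) (p : Fin 3 ⊕ Fin 3 → R) (i j : Fin 4) :
    (A * altMat p * Aᵀ) i j = ∑ J : Fin 3 ⊕ Fin 3, mn A i j (pr J).1 (pr J).2 * p J := by
  rw [alt_apply]
  simp only [Fin.sum_univ_four, Fintype.sum_sum_type, Fin.sum_univ_three, pr, mn]
  simp only [altMat, Matrix.of_apply, Matrix.cons_val', Matrix.cons_val_zero, Matrix.cons_val_one,
    Matrix.cons_val, Matrix.cons_val_fin_one]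
  ring

theorem altMat_pr (p : Fin 3 ⊕ Fin 3 → R) (I : Fin 3 ⊕ Fin 3) :
    altMat p (pr I).1 (pr I).2 = p I := by
  rcases I with I | I <;> fin_cases I <;> simp [altMat, pr]

theorem KK_mulVec_apply (A : Matrix (Fin 4) (Fin 4) R) (p : Fin 3 ⊕ Fin 3 → R) (I : Fin 3 ⊕ Fin 3) :
    (KK A *ᵥ p) I = (A * altMat p * Aᵀ) (pr I).1 (pr I).2 := by
  rw [alt_act_entry]
  rfl

theorem fix_of_alt (A : Matrix (Fin 4) (Fin 4) R) (p : Fin 3 ⊕ Fin 3 → R)
    (h : A * altMat p * Aᵀ = altMat p) : KK A *ᵥ p = p := by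
  ext I
  rw [KK_mulVec_apply, h, altMat_pr]

/-- the quadratic form on Plücker coordinates -/
def Q6 (p : Fin 3 ⊕ Fin 3 → R) : R := ∑ i : Fin 3, p (Sum.inl i) * p (Sum.inr i)

/-- its polar form -/
def B6 (p p' : Fin 3 ⊕ Fin 3 → R) : R :=
  ∑ i : Fin 3, (p (Sum.inl i) * p' (Sum.inr i) + p' (Sum.inl i) * p (Sum.inr i))

theorem Q6_add (p p' : Fin 3 ⊕ Fin 3 → R) : Q6 (p + p') = Q6 p + Q6 p' + B6 p p' := by
  simp only [Q6, B6, Pi.add_apply, Fin.sum_univ_three]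
  ring

theorem Q6_KK (A : Matrix (Fin 4) (Fin 4) R) (p : Fin 3 ⊕ Fin 3 → R) :
    Q6 (KK A *ᵥ p) = A.det * Q6 p := KK_quad A p

theorem B6_KK (A : Matrix (Fin 4) (Fin 4) R) (p p' : Fin 3 ⊕ Fin 3 → R) :
    B6 (KK A *ᵥ p) (KK A *ᵥ p') = A.det * B6 p p' := by
  have h1 := Q6_add (KK A *ᵥ p) (KK A *ᵥ p')
  rw [← Matrix.mulVec_add, Q6_KK, Q6_KK, Q6_KK, Q6_add] at h1
  linear_combination -h1

/-- the fixed vector: Plücker coordinates of the symplectic form -/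
def pJ : Fin 3 ⊕ Fin 3 → R := fun I => if I = Sum.inl 1 then -1 else if I = Sum.inr 1 then 1 else 0

theorem Q6_pJ : Q6 (pJ : Fin 3 ⊕ Fin 3 → R) = -1 := by
  simp [Q6, pJ]

theorem B6_pJ (p : Fin 3 ⊕ Fin 3 → R) : B6 p pJ = p (Sum.inl 1) - p (Sum.inr 1) := by
  simp [B6, pJ, Fin.sum_univ_three]
  ring

/-- reindexing `Fin 4 ≃ Fin 2 ⊕ Fin 2` -/
def e4 : Fin 4 ≃ Fin 2 ⊕ Fin 2 where
  toFun := ![Sum.inl 0, Sum.inl 1, Sum.inr 0, Sum.inr 1]
  invFun := Sum.elim ![0, 1] ![2, 3]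
  left_inv := by decide
  right_inv := by decide

theorem altMat_pJ : altMat (pJ : Fin 3 ⊕ Fin 3 → R) = (Matrix.J (Fin 2) R).submatrix e4 e4 := by
  ext i j
  fin_cases i <;> fin_cases j <;> simp [altMat, pJ, e4, Matrix.J]

end alg


section sp
variable {F : Type*} [Field F]

/-- reindexed matrix -/
def reS (A : Matrix (Fin 2 ⊕ Fin 2) (Fin 2 ⊕ Fin 2) F) : Matrix (Fin 4) (Fin 4) F := A.submatrix e4 e4

theorem reS_mul (A B : Matrix (Fin 2 ⊕ Fin 2) (Fin 2 ⊕ Fin 2) F) : reS (A * B) = reS A * reS B :=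
  (Matrix.submatrix_mul_equiv A B e4 e4 e4).symm

theorem reS_one : reS (1 : Matrix (Fin 2 ⊕ Fin 2) (Fin 2 ⊕ Fin 2) F) = 1 :=
  Matrix.submatrix_one_equiv e4

theorem reS_alt (A : Matrix (Fin 2 ⊕ Fin 2) (Fin 2 ⊕ Fin 2) F) (hA : A ∈ Matrix.symplecticGroup (Fin 2) F) :
    reS A * altMat pJ * (reS A)ᵀ = altMat pJ := by
  rw [altMat_pJ]
  unfold reS
  rw [Matrix.transpose_submatrix, Matrix.submatrix_mul_equiv, Matrix.submatrix_mul_equiv,
    SymplecticGroup.mem_iff.mp hA]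

theorem fixJ (A : Matrix (Fin 2 ⊕ Fin 2) (Fin 2 ⊕ Fin 2) F) (hA : A ∈ Matrix.symplecticGroup (Fin 2) F) :
    KK (reS A) *ᵥ pJ = pJ := fix_of_alt _ _ (reS_alt A hA)

theorem det_reS (A : Matrix (Fin 2 ⊕ Fin 2) (Fin 2 ⊕ Fin 2) F) (hA : A ∈ Matrix.symplecticGroup (Fin 2) F) :
    (reS A).det = 1 := by
  have h := Q6_KK (reS A) pJ
  rw [fixJ A hA, Q6_pJ] at h
  linear_combination h

/-- coordinates: Plücker index to index of the 5-space -/
def cI : Fin 3 ⊕ Fin 3 → Unit ⊕ (Fin 2 ⊕ Fin 2)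
  | Sum.inl 0 => Sum.inr (Sum.inl 0)
  | Sum.inl 1 => Sum.inl ()
  | Sum.inl 2 => Sum.inr (Sum.inl 1)
  | Sum.inr 0 => Sum.inr (Sum.inr 0)
  | Sum.inr 1 => Sum.inl ()
  | Sum.inr 2 => Sum.inr (Sum.inr 1)

/-- a section of `cI` -/
def dI : Unit ⊕ (Fin 2 ⊕ Fin 2) → Fin 3 ⊕ Fin 3
  | Sum.inl () => Sum.inl 1
  | Sum.inr (Sum.inl 0) => Sum.inl 0
  | Sum.inr (Sum.inl 1) => Sum.inl 2
  | Sum.inr (Sum.inr 0) => Sum.inr 0
  | Sum.inr (Sum.inr 1) => Sum.inr 2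

theorem cI_dI : ∀ j, cI (dI j) = j := by decide

theorem dI_cI : ∀ I, I ≠ Sum.inr 1 → dI (cI I) = I := by decide

def Emat (F : Type*) [Field F] : Matrix (Fin 3 ⊕ Fin 3) (Unit ⊕ (Fin 2 ⊕ Fin 2)) F :=
  Matrix.of fun I j => if cI I = j then 1 else 0

def Pmat (F : Type*) [Field F] : Matrix (Unit ⊕ (Fin 2 ⊕ Fin 2)) (Fin 3 ⊕ Fin 3) F :=
  Matrix.of fun j I => if dI j = I then 1 else 0

theorem Emat_mulVec (v : Unit ⊕ (Fin 2 ⊕ Fin 2) → F) (I : Fin 3 ⊕ Fin 3) :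
    (Emat F *ᵥ v) I = v (cI I) := by
  simp [Emat, Matrix.mulVec, dotProduct]

theorem Pmat_mulVec (p : Fin 3 ⊕ Fin 3 → F) (j : Unit ⊕ (Fin 2 ⊕ Fin 2)) :
    (Pmat F *ᵥ p) j = p (dI j) := by
  simp [Pmat, Matrix.mulVec, dotProduct]

theorem PE (v : Unit ⊕ (Fin 2 ⊕ Fin 2) → F) : Pmat F *ᵥ (Emat F *ᵥ v) = v := by
  ext j
  rw [Pmat_mulVec, Emat_mulVec, cI_dI]

theorem EP (p : Fin 3 ⊕ Fin 3 → F) (hp : p (Sum.inl 1) = p (Sum.inr 1)) :
    Emat F *ᵥ (Pmat F *ᵥ p) = p := by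
  ext I
  rw [Emat_mulVec, Pmat_mulVec]
  by_cases hI : I = Sum.inr 1
  · subst hI
    exact hp
  · rw [dI_cI I hI]

theorem E_cond (v : Unit ⊕ (Fin 2 ⊕ Fin 2) → F) :
    (Emat F *ᵥ v) (Sum.inl 1) = (Emat F *ᵥ v) (Sum.inr 1) := by
  rw [Emat_mulVec, Emat_mulVec]
  rfl

theorem KK_cond (A : Matrix (Fin 2 ⊕ Fin 2) (Fin 2 ⊕ Fin 2) F) (hA : A ∈ Matrix.symplecticGroup (Fin 2) F)
    (p : Fin 3 ⊕ Fin 3 → F) (hp : p (Sum.inl 1) = p (Sum.inr 1)) :
    (KK (reS A) *ᵥ p) (Sum.inl 1) = (KK (reS A) *ᵥ p) (Sum.inr 1) := by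
  have h := B6_KK (reS A) p pJ
  rw [fixJ A hA, det_reS A hA, one_mul, B6_pJ, B6_pJ, hp, sub_self] at h
  exact sub_eq_zero.mp h

theorem odd_P (p : Fin 3 ⊕ Fin 3 → F) (hp : p (Sum.inl 1) = p (Sum.inr 1)) :
    Cfsg.quadFormOdd 2 F (Pmat F *ᵥ p) = Q6 p := by
  unfold Cfsg.quadFormOdd Q6
  simp only [Pmat_mulVec, Fin.sum_univ_two, Fin.sum_univ_three]
  show p (Sum.inl 1) ^ 2 + (p (Sum.inl 0) * p (Sum.inr 0) + p (Sum.inl 2) * p (Sum.inr 2)) = _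
  rw [← hp]
  ring

theorem Q6_E (v : Unit ⊕ (Fin 2 ⊕ Fin 2) → F) : Q6 (Emat F *ᵥ v) = Cfsg.quadFormOdd 2 F v := by
  rw [← odd_P _ (E_cond v), PE]

/-- the 5-dimensional representation (as a matrix) -/
def rho0 (A : Matrix (Fin 2 ⊕ Fin 2) (Fin 2 ⊕ Fin 2) F) :
    Matrix (Unit ⊕ (Fin 2 ⊕ Fin 2)) (Unit ⊕ (Fin 2 ⊕ Fin 2)) F :=
  Pmat F * KK (reS A) * Emat F

theorem rho0_mulVec (A : Matrix (Fin 2 ⊕ Fin 2) (Fin 2 ⊕ Fin 2) F) (v : Unit ⊕ (Fin 2 ⊕ Fin 2) → F) :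
    rho0 A *ᵥ v = Pmat F *ᵥ (KK (reS A) *ᵥ (Emat F *ᵥ v)) := by
  unfold rho0
  rw [Matrix.mulVec_mulVec, Matrix.mulVec_mulVec, Matrix.mul_assoc]

theorem mat_ext {n m : Type*} [Fintype n] [DecidableEq n] (M N : Matrix m n F)
    (h : ∀ v, M *ᵥ v = N *ᵥ v) : M = N := by
  ext i j
  have := congrFun (h (Pi.single j 1)) i
  simpa using this

theorem rho0_one : rho0 (1 : Matrix (Fin 2 ⊕ Fin 2) (Fin 2 ⊕ Fin 2) F) = 1 := by
  apply mat_ext
  intro v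
  rw [rho0_mulVec, reS_one, KK_one, Matrix.one_mulVec, PE, Matrix.one_mulVec]

theorem rho0_mul (A B : Matrix (Fin 2 ⊕ Fin 2) (Fin 2 ⊕ Fin 2) F)
    (hB : B ∈ Matrix.symplecticGroup (Fin 2) F) : rho0 (A * B) = rho0 A * rho0 B := by
  apply mat_ext
  intro v
  rw [← Matrix.mulVec_mulVec, rho0_mulVec, rho0_mulVec, rho0_mulVec, reS_mul, KK_mul,
    ← Matrix.mulVec_mulVec, EP _ (KK_cond B hB _ (E_cond v))]

theorem rho0_isom (A : Matrix (Fin 2 ⊕ Fin 2) (Fin 2 ⊕ Fin 2) F)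
    (hA : A ∈ Matrix.symplecticGroup (Fin 2) F) (v : Unit ⊕ (Fin 2 ⊕ Fin 2) → F) :
    Cfsg.quadFormOdd 2 F (rho0 A *ᵥ v) = Cfsg.quadFormOdd 2 F v := by
  rw [rho0_mulVec, odd_P _ (KK_cond A hA _ (E_cond v)), Q6_KK, det_reS A hA, one_mul, Q6_E]

theorem KK_eq_one_of_rho0 (h2 : (2 : F) ≠ 0) (A : Matrix (Fin 2 ⊕ Fin 2) (Fin 2 ⊕ Fin 2) F)
    (hA : A ∈ Matrix.symplecticGroup (Fin 2) F) (h : rho0 A = 1) : KK (reS A) = 1 := by
  apply mat_ext
  intro p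
  rw [Matrix.one_mulVec]
  obtain ⟨t, ht⟩ : ∃ t : F, t = (p (Sum.inr 1) - p (Sum.inl 1)) / 2 := ⟨_, rfl⟩
  obtain ⟨p₀, hp₀⟩ : ∃ p₀ : Fin 3 ⊕ Fin 3 → F, p₀ = p - t • pJ := ⟨_, rfl⟩
  have hc : p₀ (Sum.inl 1) = p₀ (Sum.inr 1) := by
    rw [hp₀]
    simp only [Pi.sub_apply, Pi.smul_apply, pJ, smul_eq_mul]
    simp
    rw [ht]
    field_simp
    ring
  have h0 : KK (reS A) *ᵥ p₀ = p₀ := by
    have e1 : KK (reS A) *ᵥ p₀ = Emat F *ᵥ (rho0 A *ᵥ (Pmat F *ᵥ p₀)) := by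
      rw [rho0_mulVec, EP p₀ hc, EP _ (KK_cond A hA p₀ hc)]
    rw [e1, h, Matrix.one_mulVec, EP p₀ hc]
  have hp : p = p₀ + t • pJ := by rw [hp₀]; abel
  rw [hp, Matrix.mulVec_add, Matrix.mulVec_smul, h0, fixJ A hA]

theorem scalar_of_KK (M : Matrix (Fin 4) (Fin 4) F) (hK : KK M = 1) :
    ∃ a : F, a * a = 1 ∧ M = a • (1 : Matrix (Fin 4) (Fin 4) F) := by
  have hd : ∀ i : Fin 4, M i i = M 0 0 := by
    intro i
    obtain ⟨j, hji, hj0⟩ := third i 0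
    have h1 := diag_mul _ hK i j hji.symm
    have h2 := diag_mul _ hK 0 j hj0.symm
    have hne : M j j ≠ 0 := by
      intro h0
      rw [h0, mul_zero] at h1
      exact zero_ne_one h1
    exact mul_right_cancel₀ hne (h1.trans h2.symm)
  refine ⟨M 0 0, ?_, ?_⟩
  · have := diag_mul _ hK 0 1 (by decide)
    rw [hd 1] at this
    exact this
  · ext i k
    by_cases hik : i = k
    · subst hik
      rw [hd i]
      simp
    · rw [offdiag_zero _ hK i k hik]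
      simp [hik]

theorem scalar_of_rho0 (h2 : (2 : F) ≠ 0) (A : Matrix (Fin 2 ⊕ Fin 2) (Fin 2 ⊕ Fin 2) F)
    (hA : A ∈ Matrix.symplecticGroup (Fin 2) F) (h : rho0 A = 1) :
    ∃ a : F, a * a = 1 ∧ A = a • (1 : Matrix (Fin 2 ⊕ Fin 2) (Fin 2 ⊕ Fin 2) F) := by
  obtain ⟨a, ha, hM⟩ := scalar_of_KK _ (KK_eq_one_of_rho0 h2 A hA h)
  refine ⟨a, ha, ?_⟩
  ext i j
  have := congrFun (congrFun hM (e4.symm i)) (e4.symm j)
  simp only [reS, Matrix.submatrix_apply, Equiv.apply_symm_apply] at this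
  rw [this]
  simp [Matrix.one_apply]

end sp

section grp
variable {F : Type*} [Field F]

/-- monoid hom into 5×5 matrices -/
def rhoM (F : Type*) [Field F] : Matrix.symplecticGroup (Fin 2) F →*
    Matrix (Unit ⊕ (Fin 2 ⊕ Fin 2)) (Unit ⊕ (Fin 2 ⊕ Fin 2)) F where
  toFun A := rho0 A.1
  map_one' := rho0_one
  map_mul' A B := rho0_mul A.1 B.1 B.2

/-- into `GL₅` -/
def rhoU (F : Type*) [Field F] : Matrix.symplecticGroup (Fin 2) F →*
    Matrix.GeneralLinearGroup (Unit ⊕ (Fin 2 ⊕ Fin 2)) F := (rhoM F).toHomUnits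

theorem rhoU_val (A : Matrix.symplecticGroup (Fin 2) F) :
    ((rhoU F A : Matrix.GeneralLinearGroup (Unit ⊕ (Fin 2 ⊕ Fin 2)) F) :
      Matrix (Unit ⊕ (Fin 2 ⊕ Fin 2)) (Unit ⊕ (Fin 2 ⊕ Fin 2)) F) = rho0 A.1 := rfl

theorem rhoU_mem (A : Matrix.symplecticGroup (Fin 2) F) :
    rhoU F A ∈ Cfsg.isometryGroup F (Cfsg.quadFormOdd 2 F) := by
  rw [Cfsg.Agent.Lib.Helper15.mem_isometryGroup_iff]
  intro u
  rw [rhoU_val]
  exact rho0_isom A.1 A.2 u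

/-- `Sp₄ → O₅` -/
def rho (F : Type*) [Field F] : Matrix.symplecticGroup (Fin 2) F →*
    ↥(Cfsg.isometryGroup F (Cfsg.quadFormOdd 2 F)) := (rhoU F).codRestrict _ rhoU_mem

theorem ker_scalar (h2 : (2 : F) ≠ 0) (A : Matrix.symplecticGroup (Fin 2) F) (hA : A ∈ (rho F).ker) :
    ∃ a : F, a * a = 1 ∧ A.1 = a • (1 : Matrix (Fin 2 ⊕ Fin 2) (Fin 2 ⊕ Fin 2) F) := by
  rw [MonoidHom.mem_ker] at hA
  have h1 : rhoU F A = 1 := congrArg Subtype.val hA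
  have h3 : rho0 A.1 = 1 := by
    rw [← rhoU_val, h1]
    rfl
  exact scalar_of_rho0 h2 A.1 A.2 h3

theorem ker_le_center (h2 : (2 : F) ≠ 0) :
    (rho F).ker ≤ Subgroup.center (Matrix.symplecticGroup (Fin 2) F) := by
  intro A hA
  obtain ⟨a, -, hAa⟩ := ker_scalar h2 A hA
  rw [Subgroup.mem_center_iff]
  intro B
  apply Subtype.ext
  show B.1 * A.1 = A.1 * B.1
  rw [hAa, Matrix.mul_smul, Matrix.smul_mul, Matrix.mul_one, Matrix.one_mul]

theorem card_ker_le [Finite F] (h2 : (2 : F) ≠ 0) : Nat.card (rho F).ker ≤ 2 := by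
  classical
  have hfin : Finite (Matrix.symplecticGroup (Fin 2) F) := by
    have : Fintype F := Fintype.ofFinite F
    exact Subtype.finite
  have : Nat.card (rho F).ker ≤ Nat.card Bool := by
    apply Nat.card_le_card_of_injective
      (fun s : (rho F).ker => decide ((s : Matrix.symplecticGroup (Fin 2) F).1 (Sum.inl 0) (Sum.inl 0) = 1))
    intro s t hst
    obtain ⟨a, ha, hsa⟩ := ker_scalar h2 s.1 s.2
    obtain ⟨b, hb, htb⟩ := ker_scalar h2 t.1 t.2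
    have hsq : ∀ x : F, x * x = 1 → x = 1 ∨ x = -1 := by
      intro x hx
      have : (x - 1) * (x + 1) = 0 := by linear_combination hx
      rcases mul_eq_zero.mp this with h | h
      · left; exact sub_eq_zero.mp h
      · right; exact eq_neg_of_add_eq_zero_left h
    have hs00 : (s : Matrix.symplecticGroup (Fin 2) F).1 (Sum.inl 0) (Sum.inl 0) = a := by
      rw [hsa]; simp
    have ht00 : (t : Matrix.symplecticGroup (Fin 2) F).1 (Sum.inl 0) (Sum.inl 0) = b := by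
      rw [htb]; simp
    simp only [hs00, ht00, decide_eq_decide] at hst
    have hab : a = b := by
      rcases hsq a ha with h1 | h1 <;> rcases hsq b hb with h2' | h2'
      · rw [h1, h2']
      · have : b = 1 := hst.mp h1
        rw [h1, this]
      · have : a = 1 := hst.mpr h2'
        rw [this, h2']
      · rw [h1, h2']
    apply Subtype.ext
    apply Subtype.ext
    rw [hsa, htb, hab]
  simpa using this

end grp

section main
variable {F : Type*} [Field F] [Fintype F]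

theorem range_perfect (h3 : 3 ≤ Fintype.card F) : ⁅(rho F).range, (rho F).range⁆ = (rho F).range := by
  rw [MonoidHom.range_eq_map, ← Subgroup.map_commutator, ← commutator_def,
    Cfsg.Agent.Lib.Helper14.SpPerfect.commutator_symplecticGroup_eq_top (Or.inr (Or.inl ⟨rfl, h3⟩))]

theorem index_le_four (h2 : (2 : F) ≠ 0) : (rho F).range.index ≤ 4 := by
  classical
  have hO := Cfsg.Agent.Lib.Helper14.card_isometry_odd (F := F) h2 2
  have hS := Cfsg.Agent.Lib.Helper14.card_symplectic (F := F) 2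
  have hOS : Nat.card ↥(Cfsg.isometryGroup F (Cfsg.quadFormOdd 2 F)) =
      2 * Nat.card (Matrix.symplecticGroup (Fin 2) F) := by
    rw [hO, hS]; ring
  have hker := card_ker_le (F := F) h2
  have h1 := Subgroup.card_eq_card_quotient_mul_card_subgroup (rho F).ker
  rw [Nat.card_congr (QuotientGroup.quotientKerEquivRange (rho F)).toEquiv] at h1
  have h4 := Subgroup.card_mul_index (rho F).range
  have hR : 0 < Nat.card ↥(rho F).range := Nat.card_pos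
  rw [hOS, h1] at h4
  have h5 : Nat.card ↥(rho F).range * (rho F).range.index ≤ Nat.card ↥(rho F).range * 4 := by
    rw [h4]
    calc 2 * (Nat.card ↥(rho F).range * Nat.card ↥(rho F).ker)
        = Nat.card ↥(rho F).range * (2 * Nat.card ↥(rho F).ker) := by ring
      _ ≤ Nat.card ↥(rho F).range * (2 * 2) := by gcongr
      _ = Nat.card ↥(rho F).range * 4 := by norm_num
  exact Nat.le_of_mul_le_mul_left h5 hR

end main

/-- PΩ_5(q) is isomorphic to PSp_4(q) for q odd. -/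
theorem result {F : Type*} [Field F] [Fintype F] (hodd : Odd (Fintype.card F)) : Nonempty (Cfsg.POmega F (Cfsg.quadFormOdd 2 F) ≃* Cfsg.PSp 2 F) := by
  classical
  have h2 : (2 : F) ≠ 0 := Cfsg.Agent.Lib.Helper15.two_ne_zero_of_odd_card hodd
  have h3 : 3 ≤ Fintype.card F := by
    have h1 : 1 < Fintype.card F := Fintype.one_lt_card
    obtain ⟨k, hk⟩ := hodd
    omega
  have hperf := Cfsg.Agent.Lib.Helper14.SpPerfect.commutator_symplecticGroup_eq_top (F := F) (m := 2)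
    (Or.inr (Or.inl ⟨rfl, h3⟩))
  have hΩ : Cfsg.Omega F (Cfsg.quadFormOdd 2 F) = (rho F).range :=
    commutator_eq_of_perfect_of_index_le_four _ (range_perfect h3)
      (Subgroup.index_ne_zero_of_finite) (index_le_four h2)
  obtain ⟨φ, hφ⟩ : ∃ φ : Matrix.symplecticGroup (Fin 2) F →* ↥(Cfsg.Omega F (Cfsg.quadFormOdd 2 F)),
      ∀ s, (φ s : ↥(Cfsg.isometryGroup F (Cfsg.quadFormOdd 2 F))) = rho F s :=
    ⟨(rho F).codRestrict _ (fun s => by rw [hΩ]; exact ⟨s, rfl⟩), fun _ => rfl⟩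
  have hsurj : Function.Surjective φ := by
    rintro ⟨y, hy⟩
    rw [hΩ] at hy
    obtain ⟨s, rfl⟩ := hy
    exact ⟨s, Subtype.ext (hφ s)⟩
  have hker : φ.ker ≤ Subgroup.center (Matrix.symplecticGroup (Fin 2) F) := by
    intro s hs
    apply ker_le_center h2
    rw [MonoidHom.mem_ker] at hs ⊢
    rw [← hφ, hs]
    rfl
  exact ⟨(centerQuotientEquiv hperf φ hsurj hker).symm⟩

end Cfsg.Agent.S0301
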