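import Cfsg.Statements.S0303
import Cfsg.Agent.S0278
import Cfsg.Agent.Lib.Helper14.OrthMinus
import Cfsg.Agent.Lib.Helper5.PSUSimple
import Cfsg.Agent.Lib.Helper5.KleinU

set_option autoImplicit false
open Cfsg

namespace Cfsg.Agent.S0303

/-- PΩ^-_6(q) is isomorphic to PSU_4(q). -/
theorem result {F K : Type*} [Field F] [Fintype F] [Field K] [Fintype K] {q : ℕ} (hF : Fintype.card F = q) (hK : Fintype.card K = q ^ 2) (a b : F) (hab : ∀ z₁ z₂ : F, z₁ ^ 2 + a * z₁ * z₂ + b * z₂ ^ 2 = 0 → z₁ = 0 ∧ z₂ = 0) : Nonempty (Cfsg.POmega F (Cfsg.quadFormMinus 2 F a b) ≃* Cfsg.PSU 4 K q) := by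
  classical
  subst hF
  have hK' : Fintype.card K = Fintype.card F ^ 2 := hK
  have hac : ∀ z : F, z ^ 2 + a * z + b ≠ 0 := by
    intro z hz
    have := hab z 1 (by linear_combination hz)
    exact one_ne_zero this.2
  obtain ⟨ι, α, hα, -⟩ := Cfsg.Agent.Lib.Helper15.exists_embedding_root hK' a b hac
  let _ : Algebra F K := ι.toAlgebra
  have hα' : α ^ 2 + algebraMap F K a * α + algebraMap F K b = 0 := hα
  obtain ⟨-, -, hω3⟩ := Cfsg.Agent.Lib.Helper15.conj_root a b hac α hα'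
  have hω : Cfsg.Agent.Lib.Helper5.KleinU.sg F K (-α) ≠ -α := by
    intro h
    obtain ⟨c, hc⟩ := Cfsg.Agent.Lib.Helper15.fix_mem_range (F := F) (-α) h
    exact hω3 c hc
  obtain ⟨ℓ, B, hB⟩ : ∃ (ℓ : K →ₗ[F] F) (B : Module.Basis ((Fin 2 ⊕ Fin 2) ⊕ Fin 2) F (Fin 3 → K)),
      ∀ x, Cfsg.quadFormMinus 2 F a b (B.equivFun x) =
        ℓ (∑ i, x i * Cfsg.Agent.Lib.Helper15.frobK F K (x i)) :=
    Cfsg.Agent.Lib.Helper5.KleinU.exists_minus_basis hK' 1 a b hac α hα'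
  obtain ⟨φ, hφ⟩ := Cfsg.Agent.Lib.Helper15.HermAct.hom_of_rep (Cfsg.quadFormMinus 2 F a b)
    (Cfsg.Agent.Lib.Helper5.KleinU.rho hK' B)
    (Cfsg.Agent.Lib.Helper5.KleinU.rho_quad hK' a b ℓ B hB)
  have hkerscal : ∀ g ∈ φ.ker, ∃ p : K, p * p = 1 ∧
      (g.1.1 : Matrix (Fin 4) (Fin 4) K) = p • (1 : Matrix (Fin 4) (Fin 4) K) := by
    intro g hg
    exact Cfsg.Agent.Lib.Helper5.KleinU.rho_ker hK' B (-α) hω g ((hφ g).mp (MonoidHom.mem_ker.mp hg))
  have hker : φ.ker ≤ Subgroup.center ↥(Cfsg.SU 4 K (Fintype.card F)) := by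
    intro g hg
    obtain ⟨p, hp, hgp⟩ := hkerscal g hg
    rw [Subgroup.mem_center_iff]
    intro h
    apply Subtype.ext
    apply Subtype.ext
    show (h.1.1 : Matrix (Fin 4) (Fin 4) K) * g.1.1 = g.1.1 * h.1.1
    rw [hgp, Matrix.mul_smul, Matrix.smul_mul, Matrix.mul_one, Matrix.one_mul]
  have hkcard : Nat.card φ.ker ≤ 2 := by
    have h1 := Cfsg.Agent.Lib.Helper15.HermAct.card_le_two_of_scalar (0 : Fin 4)
      (φ.ker.map (Cfsg.SU 4 K (Fintype.card F)).subtype) (by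
        rintro _ ⟨g, hg, rfl⟩
        exact hkerscal g hg)
    rwa [← Nat.card_congr (Subgroup.equivMapOfInjective φ.ker (Cfsg.SU 4 K (Fintype.card F)).subtype
      Subtype.val_injective).toEquiv] at h1
  have hperf : commutator ↥(Cfsg.SU 4 K (Fintype.card F)) = ⊤ :=
    Cfsg.Agent.Lib.Helper5.PSUSimple.commutator_SU_eq_top hK (by norm_num) (by omega)
  have hcard : Nat.card ↥(Cfsg.isometryGroup F (Cfsg.quadFormMinus 2 F a b)) =
      2 * Nat.card ↥(Cfsg.SU 4 K (Fintype.card F)) := by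
    have h1 := Cfsg.Agent.Lib.Helper14.OrthMinus.card_isometry_minus hab 2
    have h2 := Cfsg.Agent.S0278.result hK 4 (by norm_num)
    have e0 : Even 0 := by decide
    have e1 : ¬ Even 1 := by decide
    have e2 : Even 2 := by decide
    have e3 : ¬ Even 3 := by decide
    simp only [Finset.prod_range_succ, Finset.prod_range_zero, one_mul, if_pos e0, if_neg e1,
      if_pos e2, if_neg e3] at h1 h2
    obtain ⟨q, hq⟩ : ∃ q, q = Fintype.card F := ⟨_, rfl⟩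
    rw [← hq] at h1 h2 ⊢
    have hS : Nat.card ↥(Cfsg.SU 4 K q) = q ^ 6 * ((q ^ 2 - 1) * (q ^ 3 + 1) * (q ^ 4 - 1)) := by
      apply Nat.eq_of_mul_eq_mul_left (Nat.succ_pos q)
      rw [Nat.succ_eq_add_one, h2]
      norm_num
      ring
    rw [h1, hS]
    norm_num
    ring
  exact Cfsg.Agent.Lib.Helper15.OmegaIso.iso_of_hom φ hperf hker hkcard hcard

end Cfsg.Agent.S0303
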