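import Cfsg.Statements.S0307
import Mathlib

set_option autoImplicit false
open Cfsg

namespace Cfsg.Agent.S0307

/-- a homomorphism from the units of a finite field onto `ZMod (gcd n (q-1))` whose kernel
consists of the `n`-th powers -/
theorem exists_powHom {F : Type*} [Field F] [Fintype F] {q : ℕ} (hF : Fintype.card F = q) (n : ℕ) :
    ∃ φ : Fˣ →* Multiplicative (ZMod (Nat.gcd n (q - 1))), Function.Surjective φ ∧
      (∀ x : Fˣ, φ (x ^ n) = 1) ∧ ∀ x : Fˣ, φ x = 1 → ∃ y : Fˣ, y ^ n = x := by
  classical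
  have hq1 : 1 < q := by rw [← hF]; exact Fintype.one_lt_card
  have hcard : Nat.card Fˣ = q - 1 := by
    rw [Nat.card_eq_fintype_card, Fintype.card_units, hF]
  obtain ⟨ζ, hζ⟩ := IsCyclic.exists_generator (α := Fˣ)
  set d := Nat.gcd n (q - 1) with hd
  have hdq : d ∣ q - 1 := Nat.gcd_dvd_right _ _
  have hdn : d ∣ n := Nat.gcd_dvd_left _ _
  have hdpos : 0 < d := Nat.gcd_pos_of_pos_right _ (by omega)
  have : NeZero d := ⟨by omega⟩
  let e : Multiplicative (ZMod (q - 1)) ≃* Fˣ := zmodMulEquivOfGenerator hζ hcard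
  let c : Multiplicative (ZMod (q - 1)) →* Multiplicative (ZMod d) :=
    AddMonoidHom.toMultiplicative (ZMod.castHom hdq (ZMod d)).toAddMonoidHom
  refine ⟨c.comp e.symm.toMonoidHom, ?_, ?_, ?_⟩
  · intro y
    obtain ⟨z, hz⟩ := ZMod.castHom_surjective hdq (Multiplicative.toAdd y)
    refine ⟨e (Multiplicative.ofAdd z), ?_⟩
    simp only [MonoidHom.coe_comp, MulEquiv.coe_toMonoidHom, Function.comp_apply,
      MulEquiv.symm_apply_apply]
    show Multiplicative.ofAdd ((ZMod.castHom hdq (ZMod d)) z) = y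
    rw [hz]
    rfl
  · intro x
    rw [map_pow]
    have h1 : ∀ y : Multiplicative (ZMod d), y ^ d = 1 := by
      intro y
      have := pow_card_eq_one' (G := Multiplicative (ZMod d)) (x := y)
      rwa [Nat.card_eq_fintype_card, Fintype.card_multiplicative, ZMod.card] at this
    obtain ⟨m, hm⟩ := hdn
    rw [hm, pow_mul, h1, one_pow]
  · intro x hx
    obtain ⟨k, rfl⟩ := Subgroup.mem_zpowers_iff.mp (hζ x)
    have h1 : (c.comp e.symm.toMonoidHom) (ζ ^ k) = Multiplicative.ofAdd ((k : ZMod d)) := by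
      simp only [MonoidHom.coe_comp, MulEquiv.coe_toMonoidHom, Function.comp_apply]
      rw [show e.symm (ζ ^ k) = Multiplicative.ofAdd (k : ZMod (q - 1)) from
        zmodMulEquivOfGenerator_symm_apply_zpow hζ hcard k]
      show Multiplicative.ofAdd ((ZMod.castHom hdq (ZMod d)) (k : ZMod (q - 1))) = _
      rw [map_intCast]
    rw [h1] at hx
    have h2 : ((k : ZMod d)) = 0 := by
      have := congrArg Multiplicative.toAdd hx
      simpa using this
    rw [ZMod.intCast_zmod_eq_zero_iff_dvd] at h2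
    obtain ⟨k', hk'⟩ := h2
    have hbez : (d : ℤ) = n * Nat.gcdA n (q - 1) + (q - 1 : ℕ) * Nat.gcdB n (q - 1) :=
      Nat.gcd_eq_gcd_ab n (q - 1)
    have hζq : ζ ^ ((q - 1 : ℕ) : ℤ) = 1 := by
      rw [zpow_natCast, ← hcard]
      exact pow_card_eq_one'
    refine ⟨ζ ^ (Nat.gcdA n (q - 1) * k'), ?_⟩
    rw [← zpow_natCast, ← zpow_mul, hk', hbez, add_mul, zpow_add, mul_assoc ((q - 1 : ℕ) : ℤ),
      zpow_mul ζ ((q - 1 : ℕ) : ℤ), hζq, one_zpow, mul_one]
    congr 1
    ring


/-- PSL_n(q) is normal in PGL_n(q) with cyclic quotient of order gcd(n, q-1): the image of the natural map PSL_n → PGL_n is the kernel of a surjective homomorphism onto the cyclic group of that order. -/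
theorem result {F : Type*} [Field F] [Fintype F] {q : ℕ} (hF : Fintype.card F = q) (n : ℕ) (hn : 1 ≤ n) : ∃ g : Matrix.ProjGenLinGroup (Fin n) F →* Multiplicative (ZMod (Nat.gcd n (q - 1))), Function.Surjective g ∧ g.ker = (Matrix.ProjectiveSpecialLinearGroup.toPGL : Matrix.ProjectiveSpecialLinearGroup (Fin n) F →* Matrix.ProjGenLinGroup (Fin n) F).range := by
  classical
  obtain ⟨φ, hsurj, hpow, hker⟩ := exists_powHom hF n
  have hle : Subgroup.center (GL (Fin n) F) ≤ (φ.comp Matrix.GeneralLinearGroup.det).ker := by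
    rw [Matrix.GeneralLinearGroup.center_eq_range_scalar]
    rintro _ ⟨u, rfl⟩
    rw [MonoidHom.mem_ker, MonoidHom.comp_apply, Matrix.GeneralLinearGroup.det_scalar,
      Fintype.card_fin]
    exact hpow u
  let g : Matrix.ProjGenLinGroup (Fin n) F →* Multiplicative (ZMod (Nat.gcd n (q - 1))) :=
    QuotientGroup.lift (Subgroup.center (GL (Fin n) F)) (φ.comp Matrix.GeneralLinearGroup.det) hle
  have hg : ∀ A : GL (Fin n) F, g (Matrix.ProjGenLinGroup.mk A) =
      φ (Matrix.GeneralLinearGroup.det A) := fun A => rfl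
  refine ⟨g, ?_, ?_⟩
  · intro y
    obtain ⟨u, hu⟩ := hsurj y
    -- a matrix of determinant u
    have : Nonempty (Fin n) := ⟨⟨0, hn⟩⟩
    obtain ⟨A, hA⟩ : ∃ A : GL (Fin n) F, Matrix.GeneralLinearGroup.det A = u := by
      let i0 : Fin n := ⟨0, hn⟩
      let D : Matrix (Fin n) (Fin n) F :=
        Matrix.diagonal (fun i => if i = i0 then (u : F) else 1)
      have hdet : D.det = (u : F) := by
        rw [Matrix.det_diagonal, Finset.prod_ite_eq' Finset.univ i0 (fun _ => (u : F))]
        simp
      have hunit : IsUnit D.det := by rw [hdet]; exact u.isUnit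
      refine ⟨Matrix.GeneralLinearGroup.mk'' D hunit, ?_⟩
      apply Units.ext
      rw [Matrix.GeneralLinearGroup.val_det_apply]
      exact hdet
    exact ⟨Matrix.ProjGenLinGroup.mk A, by rw [hg, hA, hu]⟩
  · ext x
    rw [MonoidHom.mem_ker, MonoidHom.mem_range]
    induction x using Matrix.ProjGenLinGroup.induction_on with | mk A =>
    rw [hg]
    constructor
    · intro h
      obtain ⟨y, hy⟩ := hker _ h
      set A' : GL (Fin n) F := A * Matrix.GeneralLinearGroup.scalar (Fin n) y⁻¹ with hA'
      have hdet : Matrix.GeneralLinearGroup.det A' = 1 := by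
        rw [hA', map_mul, Matrix.GeneralLinearGroup.det_scalar, Fintype.card_fin, ← hy, inv_pow,
          mul_inv_cancel]
      have hdet' : (A' : Matrix (Fin n) (Fin n) F).det = 1 := by
        have := congrArg Units.val hdet
        rwa [Matrix.GeneralLinearGroup.val_det_apply] at this
      let S : Matrix.SpecialLinearGroup (Fin n) F := ⟨(A' : Matrix (Fin n) (Fin n) F), hdet'⟩
      refine ⟨QuotientGroup.mk S, ?_⟩
      have h1 : Matrix.ProjectiveSpecialLinearGroup.toPGL
          (QuotientGroup.mk S : Matrix.ProjectiveSpecialLinearGroup (Fin n) F) =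
          Matrix.ProjGenLinGroup.mk (Matrix.SpecialLinearGroup.toGL S) := rfl
      rw [h1]
      have h2 : Matrix.SpecialLinearGroup.toGL S = A' := by
        apply Units.ext
        rfl
      rw [h2, hA', map_mul, Matrix.ProjGenLinGroup.mk_scalar, mul_one]
    · rintro ⟨s, hs⟩
      obtain ⟨S, rfl⟩ := QuotientGroup.mk_surjective s
      have h1 : Matrix.ProjectiveSpecialLinearGroup.toPGL
          (QuotientGroup.mk S : Matrix.ProjectiveSpecialLinearGroup (Fin n) F) =
          Matrix.ProjGenLinGroup.mk (Matrix.SpecialLinearGroup.toGL S) := rfl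
      rw [h1] at hs
      have h3 : g (Matrix.ProjGenLinGroup.mk A) = g (Matrix.ProjGenLinGroup.mk
          (Matrix.SpecialLinearGroup.toGL S)) := by rw [hs]
      rw [hg, hg] at h3
      rw [h3]
      have : Matrix.GeneralLinearGroup.det (Matrix.SpecialLinearGroup.toGL S) = 1 := by
        apply Units.ext
        rw [Matrix.GeneralLinearGroup.val_det_apply]
        simp
      rw [this, map_one]

end Cfsg.Agent.S0307
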