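import Cfsg.Statements.S0313
-- import your own Cfsg.Agent.* helpers here
import Cfsg.Agent.Lib.Helper3.BNParabolic

set_option autoImplicit false
open Cfsg

namespace Cfsg.Agent.S0313

/-- Two standard parabolic subgroups of a group with a (B,N)-pair which are conjugate in `G` coincide. -/
theorem result {G : Type*} [Group G] (P : Cfsg.BNPair G) {J K : Set G}
    (hJ : J ⊆ P.S) (hK : K ⊆ P.S) (g : G)
    (h : (P.parabolic J).map (MulAut.conj g).toMonoidHom = P.parabolic K) :
    P.parabolic J = P.parabolic K := by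
  have hBJ : P.B ≤ P.parabolic J := le_sup_left
  have hBK : P.B ≤ P.parabolic K := le_sup_left
  have h1 : ∀ x ∈ P.parabolic J, g * x * g⁻¹ ∈ P.parabolic K := by
    intro x hx
    rw [← h]
    exact ⟨x, hx, by simp [MulAut.conj_apply]⟩
  have h2 : ∀ y ∈ P.parabolic K, g⁻¹ * y * g ∈ P.parabolic J := by
    intro y hy
    rw [← h] at hy
    obtain ⟨x, hx, rfl⟩ := hy
    simp only [MulEquiv.coe_toMonoidHom, MulAut.conj_apply]
    have : g⁻¹ * (g * x * g⁻¹) * g = x := by group
    rw [this]; exact hx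
  have hgK : g ∈ P.parabolic K :=
    Cfsg.Agent.Lib.Helper3.BN.mem_of_conj_B_le P _ hBK (fun b hb => h1 b (hBJ hb))
  have hgJ : g⁻¹ ∈ P.parabolic J :=
    Cfsg.Agent.Lib.Helper3.BN.mem_of_conj_B_le P _ hBJ (fun b hb => by
      have := h2 b (hBK hb)
      rwa [inv_inv])
  apply le_antisymm
  · intro x hx
    have := h1 x hx
    have e : x = g⁻¹ * (g * x * g⁻¹) * g := by group
    rw [e]
    exact Subgroup.mul_mem _ (Subgroup.mul_mem _ (Subgroup.inv_mem _ hgK) this) hgK
  · intro y hy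
    have := h2 y hy
    have e : y = g⁻¹⁻¹ * (g⁻¹ * y * g) * g⁻¹ := by group
    rw [e]
    exact Subgroup.mul_mem _ (Subgroup.mul_mem _ (Subgroup.inv_mem _ hgJ) this) hgJ

end Cfsg.Agent.S0313
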