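import Cfsg.Statements.S0316
-- import your own Cfsg.Agent.* helpers here
import Cfsg.Agent.Lib.Helper3.BNParabolic

set_option autoImplicit false
open Cfsg

namespace Cfsg.Agent.S0316

/-- The map `J ↦ P_J` is a lattice isomorphism from the power set of the set of distinguished generators onto the
subgroups containing `B`. -/
theorem result {G : Type*} [Group G] (P : Cfsg.BNPair G) :
    ∃ e : Set P.S ≃o {M : Subgroup G // P.B ≤ M},
      ∀ J : Set P.S, ((e J : {M : Subgroup G // P.B ≤ M}) : Subgroup G) = P.parabolic (Subtype.val '' J) := by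
  have himg : ∀ J : Set P.S, (Subtype.val '' J : Set G) ⊆ P.S := by
    rintro J _ ⟨s, -, rfl⟩
    exact s.2
  refine ⟨
    { toFun := fun J => ⟨P.parabolic (Subtype.val '' J), (le_sup_left : P.B ≤ P.B ⊔ Subgroup.closure (Subtype.val '' J))⟩
      invFun := fun M => {s : P.S | (s : G) ∈ M.1}
      left_inv := ?_
      right_inv := ?_
      map_rel_iff' := ?_ }, ?_⟩
  · intro J
    ext s
    simp only [Set.mem_ofPred_eq]
    constructor
    · intro h
      have := Cfsg.Agent.Lib.Helper3.BN.mem_of_mem_parabolic P (himg J) s.2 h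
      obtain ⟨s', hs', he⟩ := this
      rw [← Subtype.ext he]; exact hs'
    · intro h
      exact (le_sup_right : Subgroup.closure _ ≤ P.parabolic _) (Subgroup.subset_closure ⟨s, h, rfl⟩)
  · rintro ⟨M, hM⟩
    apply Subtype.ext
    simp only
    rw [Cfsg.Agent.Lib.Helper3.BN.subgroup_eq_parabolic P M hM]
    congr 1
    ext s
    constructor
    · rintro ⟨s', hs', rfl⟩
      simp only [Set.mem_ofPred_eq] at hs'
      rw [← Cfsg.Agent.Lib.Helper3.BN.subgroup_eq_parabolic P M hM] at hs'
      exact ⟨s'.2, hs'⟩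
    · rintro ⟨hs, hsM⟩
      refine ⟨⟨s, hs⟩, ?_, rfl⟩
      simp only [Set.mem_ofPred_eq]
      rw [← Cfsg.Agent.Lib.Helper3.BN.subgroup_eq_parabolic P M hM]
      exact hsM
  · intro J K
    simp only [Equiv.coe_fn_mk]
    show P.parabolic (Subtype.val '' J) ≤ P.parabolic (Subtype.val '' K) ↔ J ⊆ K
    rw [Cfsg.Agent.Lib.Helper3.BN.parabolic_le_iff P (himg J) (himg K)]
    exact Set.image_subset_image_iff Subtype.val_injective
  · intro J
    rfl

end Cfsg.Agent.S0316
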