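import Cfsg.Statements.S0321
-- import your own Cfsg.Agent.* helpers here
import Cfsg.Agent.Lib.Helper3.BNParabolic

set_option autoImplicit false
open Cfsg

namespace Cfsg.Agent.S0321

open Cfsg.Agent.Lib.Helper3.BN in
theorem parabolic_singleton {G : Type*} [Group G] (P : Cfsg.BNPair G) {s : G} (hs : s ∈ P.S) :
    (P.parabolic {s} : Set G) = (P.B : Set G) ∪ DoubleCoset.doubleCoset s (P.B : Set G) P.B := by
  have hJ : ({s} : Set G) ⊆ P.S := Set.singleton_subset_iff.mpr hs
  ext g
  constructor
  · intro hg
    obtain ⟨n, hn, hgn⟩ := (mem_parabolic_iff P hJ g).mp hg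
    rw [Subgroup.mem_closure_singleton] at hn
    obtain ⟨k, rfl⟩ := hn
    -- s^k is in B or in s B
    have key : ∀ k : ℤ, s ^ k ∈ P.B ∨ s⁻¹ * s ^ k ∈ P.B := by
      intro k
      have h2 : s ^ (2 : ℤ) ∈ P.B := by
        have := P.sq_mem s hs
        rwa [← pow_two, ← zpow_natCast] at this
      rcases Int.emod_two_eq_zero_or_one k with h | h
      · left
        have : k = 2 * (k / 2) := by omega
        rw [this, zpow_mul]
        exact P.B.zpow_mem h2 _
      · right
        have : k = 1 + 2 * (k / 2) := by omega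
        rw [this, zpow_add, zpow_one, inv_mul_cancel_left, zpow_mul]
        exact P.B.zpow_mem h2 _
    rcases key k with h | h
    · left
      rw [dc_of_mem_B P h] at hgn
      exact hgn
    · right
      have : s ^ k = s * (s⁻¹ * s ^ k) := by group
      rw [this, dc_eq_of_mul_right P h] at hgn
      exact hgn
  · rintro (hg | hg)
    · exact (le_sup_left : P.B ≤ P.parabolic {s}) hg
    · exact (mem_parabolic_iff P hJ g).mpr ⟨s, Subgroup.subset_closure rfl, hg⟩

open Cfsg.Agent.Lib.Helper3.BN in

/-- For `n ∈ N` not in `B`, the union `B ∪ B n B` is (the underlying set of) a subgroup exactly when `n` agrees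
modulo `B ⊓ N` with one of the distinguished representatives; thus the distinguished involutions are
determined by `B` and `N`. -/
theorem result {G : Type*} [Group G] (P : Cfsg.BNPair G) {n : G}
    (hn : n ∈ P.N) (hnB : n ∉ P.B) :
    (∃ H : Subgroup G, (H : Set G) = (P.B : Set G) ∪ DoubleCoset.doubleCoset n (P.B : Set G) P.B) ↔ ∃ s ∈ P.S, s⁻¹ * n ∈ P.B := by
  constructor
  · rintro ⟨H, hH⟩
    have hBH : P.B ≤ H := by
      intro b hb
      have : b ∈ (H : Set G) := by rw [hH]; exact Or.inl hb
      exact this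
    have hnH : n ∈ H := by
      have : n ∈ (H : Set G) := by rw [hH]; exact Or.inr (self_mem_dc P n)
      exact this
    have hHP := subgroup_eq_parabolic P H hBH
    have hne : ({s | s ∈ P.S ∧ s ∈ H} : Set G).Nonempty := by
      by_contra h
      rw [Set.not_nonempty_iff_eq_empty] at h
      rw [h] at hHP
      unfold BNPair.parabolic at hHP
      rw [Subgroup.closure_empty, sup_bot_eq] at hHP
      rw [hHP] at hnH
      exact hnB hnH
    obtain ⟨s, hs, hsH⟩ := hne
    refine ⟨s, hs, ?_⟩
    have : s ∈ (H : Set G) := hsH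
    rw [hH] at this
    rcases this with h | h
    · exact absurd h (S_not_mem_B P hs)
    · rw [← dc_eq_iff P (P.subset hs) hn]
      exact dc_eq_of_mem P h
  · rintro ⟨s, hs, hsn⟩
    refine ⟨P.parabolic {s}, ?_⟩
    rw [parabolic_singleton P hs]
    have := (dc_eq_iff P (P.subset hs) hn).mpr hsn
    show _ ∪ dc P s = _ ∪ dc P n
    rw [this]

end Cfsg.Agent.S0321
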