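import Cfsg.Statements.S0322
-- import your own Cfsg.Agent.* helpers here
import Cfsg.Agent.Lib.Helper3.BNParabolic

set_option autoImplicit false
open Cfsg

namespace Cfsg.Agent.S0322

open Cfsg.Agent.Lib.Helper3.BN in
theorem parabolic_singleton {G : Type*} [Group G] (P : Cfsg.BNPair G) {s : G} (hs : s ∈ P.S) :
    (P.parabolic {s} : Set G) = (P.B : Set G) ∪ DoubleCoset.doubleCoset s (P.B : Set G) P.B := by
  have hJ : ({s} : Set G) ⊆ P.S := Set.singleton_subset_iff.mpr hs
  ext g
  constructor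
  · intro hg
    obtain ⟨n, hn, hgn⟩ := (mem_parabolic_iff P hJ g).mp hg
    rw [Subgroup.mem_closure_singleton] at hn
    obtain ⟨k, rfl⟩ := hn
    -- s^k is in B or in s B
    have key : ∀ k : ℤ, s ^ k ∈ P.B ∨ s⁻¹ * s ^ k ∈ P.B := by
      intro k
      have h2 : s ^ (2 : ℤ) ∈ P.B := by
        have := P.sq_mem s hs
        rwa [← pow_two, ← zpow_natCast] at this
      rcases Int.emod_two_eq_zero_or_one k with h | h
      · left
        have : k = 2 * (k / 2) := by omega
        rw [this, zpow_mul]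
        exact P.B.zpow_mem h2 _
      · right
        have : k = 1 + 2 * (k / 2) := by omega
        rw [this, zpow_add, zpow_one, inv_mul_cancel_left, zpow_mul]
        exact P.B.zpow_mem h2 _
    rcases key k with h | h
    · left
      rw [dc_of_mem_B P h] at hgn
      exact hgn
    · right
      have : s ^ k = s * (s⁻¹ * s ^ k) := by group
      rw [this, dc_eq_of_mul_right P h] at hgn
      exact hgn
  · rintro (hg | hg)
    · exact (le_sup_left : P.B ≤ P.parabolic {s}) hg
    · exact (mem_parabolic_iff P hJ g).mpr ⟨s, Subgroup.subset_closure rfl, hg⟩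

open Cfsg.Agent.Lib.Helper3.BN in

/-- A group with a (B,N)-pair of rank one acts doubly transitively on the left cosets of `B`. -/
theorem result {G : Type*} [Group G] (P : Cfsg.BNPair G) (h : P.rank = 1) : MulAction.IsMultiplyPretransitive G (G ⧸ P.B) 2 := by
  have hcard : Nat.card P.S = 1 := h
  rw [Nat.card_eq_one_iff_unique] at hcard
  obtain ⟨hsub, ⟨s, hs⟩⟩ := hcard
  have hS : P.S = {s} := by
    ext t
    constructor
    · intro ht
      have := Subsingleton.elim (⟨t, ht⟩ : P.S) ⟨s, hs⟩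
      exact congrArg Subtype.val this
    · rintro rfl; exact hs
  have hall : ∀ g : G, g ∉ P.B → ∃ b₁ ∈ P.B, ∃ b₂ ∈ P.B, g = b₁ * s * b₂ := by
    intro g hg
    have : g ∈ (P.parabolic {s} : Set G) := by
      rw [← hS, parabolic_S]; trivial
    rw [parabolic_singleton P hs] at this
    rcases this with h1 | h1
    · exact absurd h1 hg
    · exact DoubleCoset.mem_doubleCoset.mp h1
  rw [MulAction.is_two_pretransitive_iff]
  intro a b c d hab hcd
  induction a using QuotientGroup.induction_on with | _ x => ?_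
  induction b using QuotientGroup.induction_on with | _ y => ?_
  induction c using QuotientGroup.induction_on with | _ u => ?_
  induction d using QuotientGroup.induction_on with | _ v => ?_
  have hxy : x⁻¹ * y ∉ P.B := fun hh => hab (QuotientGroup.eq.mpr hh)
  have huv : u⁻¹ * v ∉ P.B := fun hh => hcd (QuotientGroup.eq.mpr hh)
  obtain ⟨b₁, hb₁, b₂, hb₂, e1⟩ := hall _ hxy
  obtain ⟨b₃, hb₃, b₄, hb₄, e2⟩ := hall _ huv
  refine ⟨u * b₃ * b₁⁻¹ * x⁻¹, ?_, ?_⟩
  · rw [MulAction.Quotient.smul_mk, QuotientGroup.eq, smul_eq_mul]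
    have : (u * b₃ * b₁⁻¹ * x⁻¹ * x)⁻¹ * u = b₁ * b₃⁻¹ := by group
    rw [this]
    exact P.B.mul_mem hb₁ (P.B.inv_mem hb₃)
  · rw [MulAction.Quotient.smul_mk, QuotientGroup.eq, smul_eq_mul]
    have hy : y = x * (b₁ * s * b₂) := by rw [← e1]; group
    have hv : v = u * (b₃ * s * b₄) := by rw [← e2]; group
    rw [hy, hv]
    have : (u * b₃ * b₁⁻¹ * x⁻¹ * (x * (b₁ * s * b₂)))⁻¹ * (u * (b₃ * s * b₄)) = b₂⁻¹ * b₄ := by group
    rw [this]
    exact P.B.mul_mem (P.B.inv_mem hb₂) hb₄

end Cfsg.Agent.S0322
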