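import Cfsg.Statements.S0323
-- import your own Cfsg.Agent.* helpers here

set_option autoImplicit false
open scoped Pointwise
open Cfsg

namespace Cfsg.Agent.S0323

open scoped Pointwise

theorem mem_pairstab {G Ω : Type*} [Group G] [MulAction G Ω] {x y : Ω} (hxy : x ≠ y) {n : G} :
    n ∈ MulAction.stabilizer G ({x, y} : Set Ω) ↔ (n • x = x ∧ n • y = y) ∨ (n • x = y ∧ n • y = x) := by
  rw [MulAction.mem_stabilizer_iff, Set.smul_set_insert, Set.smul_set_singleton]
  constructor
  · intro h
    have h1 : n • x ∈ ({x, y} : Set Ω) := by rw [← h]; simp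
    have h2 : n • y ∈ ({x, y} : Set Ω) := by rw [← h]; simp
    have hne : n • x ≠ n • y := fun he => hxy (MulAction.injective n he)
    simp only [Set.mem_insert_iff, Set.mem_singleton_iff] at h1 h2
    rcases h1 with h1 | h1 <;> rcases h2 with h2 | h2
    · exact absurd (h1.trans h2.symm) hne
    · exact Or.inl ⟨h1, h2⟩
    · exact Or.inr ⟨h1, h2⟩
    · exact absurd (h1.trans h2.symm) hne
  · rintro (⟨h1, h2⟩ | ⟨h1, h2⟩)
    · rw [h1, h2]
    · rw [h1, h2, Set.pair_comm]

/-- A doubly transitive action on a set with at least three points yields a (B,N)-pair of rank one: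
`B` is the stabiliser of a point `x`, `N` the setwise stabiliser of a pair `{x, y}`. -/
theorem result {G Ω : Type*} [Group G] [MulAction G Ω]
    (h2 : MulAction.IsMultiplyPretransitive G Ω 2) {x y z : Ω} (hxy : x ≠ y) (hyz : y ≠ z) (hxz : x ≠ z) :
    ∃ P : Cfsg.BNPair G, P.B = MulAction.stabilizer G x ∧
      P.N = MulAction.stabilizer G ({x, y} : Set Ω) ∧ P.rank = 1 := by
  rw [MulAction.is_two_pretransitive_iff] at h2
  obtain ⟨s, hsx, hsy⟩ := h2 hxy (Ne.symm hxy)
  have hsix : s⁻¹ • x = y := by rw [← hsy, inv_smul_smul]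
  have hsiy : s⁻¹ • y = x := by rw [← hsx, inv_smul_smul]
  -- every element outside B lies in B s B
  have hBsB : ∀ g : G, g • x ≠ x → ∃ b₁ ∈ MulAction.stabilizer G x, ∃ b₂ ∈ MulAction.stabilizer G x,
      g = b₁ * s * b₂ := by
    intro g hg
    obtain ⟨b₁, hb₁x, hb₁y⟩ := h2 hxy (Ne.symm hg)
    refine ⟨b₁, hb₁x, (b₁ * s)⁻¹ * g, ?_, by group⟩
    rw [MulAction.mem_stabilizer_iff, mul_smul, ← hb₁y, ← hsx, ← mul_smul b₁ s, inv_smul_smul]
  have hsN : s ∈ MulAction.stabilizer G ({x, y} : Set Ω) := (mem_pairstab hxy).mpr (Or.inr ⟨hsx, hsy⟩)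
  refine ⟨{ B := MulAction.stabilizer G x
            N := MulAction.stabilizer G ({x, y} : Set Ω)
            S := {s}
            sup_eq_top := ?_
            conj_mem := ?_
            subset := ?_
            sq_mem := ?_
            inj := ?_
            closure_sup := ?_
            mul_mem_union := ?_
            conj_ne := ?_ }, rfl, rfl, ?_⟩
  · -- sup_eq_top
    rw [eq_top_iff]
    intro g _
    by_cases hg : g • x = x
    · exact (le_sup_left : MulAction.stabilizer G x ≤ _) hg
    · obtain ⟨b₁, hb₁, b₂, hb₂, rfl⟩ := hBsB g hg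
      exact Subgroup.mul_mem _ (Subgroup.mul_mem _ ((le_sup_left : MulAction.stabilizer G x ≤ _) hb₁)
        ((le_sup_right : MulAction.stabilizer G ({x, y} : Set Ω) ≤ _) hsN))
        ((le_sup_left : MulAction.stabilizer G x ≤ _) hb₂)
  · -- conj_mem
    rintro n hn t ⟨htB, htN⟩
    replace htB : t • x = x := htB
    replace htN : t ∈ MulAction.stabilizer G ({x, y} : Set Ω) := htN
    have hty : t • y = y := by
      rcases (mem_pairstab hxy).mp htN with ⟨_, h⟩ | ⟨h, _⟩
      · exact h
      · exact absurd (htB.symm.trans h) hxy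
    rw [MulAction.mem_stabilizer_iff, mul_smul, mul_smul]
    have hn' := Subgroup.inv_mem _ hn
    rcases (mem_pairstab hxy).mp hn' with ⟨h, _⟩ | ⟨h, _⟩
    · have h5 : n • x = x := by
        have := smul_inv_smul n x
        rwa [h] at this
      rw [h, htB, h5]
    · have h5 : n • y = x := by
        have := smul_inv_smul n x
        rwa [h] at this
      rw [h, hty, h5]
  · -- subset
    intro s' hs'
    rw [Set.mem_singleton_iff] at hs'
    subst hs'
    exact hsN
  · -- sq_mem
    intro s' hs'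
    rw [Set.mem_singleton_iff] at hs'
    subst hs'
    rw [MulAction.mem_stabilizer_iff, mul_smul, hsx, hsy]
  · -- inj
    intro s₁ hs₁ s₂ hs₂ _
    rw [Set.mem_singleton_iff] at hs₁ hs₂
    rw [hs₁, hs₂]
  · -- closure_sup
    apply le_antisymm
    · apply sup_le
      · rw [Subgroup.closure_le, Set.singleton_subset_iff]; exact hsN
      · exact inf_le_right
    · intro n hn
      rcases (mem_pairstab hxy).mp hn with ⟨h, _⟩ | ⟨h, _⟩
      · exact (le_sup_right : MulAction.stabilizer G x ⊓ MulAction.stabilizer G ({x, y} : Set Ω) ≤ _)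
          ⟨h, hn⟩
      · have h1 : s⁻¹ * n ∈ MulAction.stabilizer G x ⊓ MulAction.stabilizer G ({x, y} : Set Ω) := by
          refine ⟨?_, Subgroup.mul_mem _ (Subgroup.inv_mem _ hsN) hn⟩
          show (s⁻¹ * n) • x = x
          rw [mul_smul, h, hsiy]
        have : n = s * (s⁻¹ * n) := by group
        rw [this]
        exact Subgroup.mul_mem _
          ((le_sup_left : Subgroup.closure {s} ≤ _) (Subgroup.subset_closure rfl))
          ((le_sup_right : MulAction.stabilizer G x ⊓ MulAction.stabilizer G ({x, y} : Set Ω) ≤ _) h1)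
  · -- mul_mem_union
    intro s' hs' n hn b hb
    rw [Set.mem_singleton_iff] at hs'
    subst hs'
    rw [Set.mem_union, DoubleCoset.mem_doubleCoset, DoubleCoset.mem_doubleCoset]
    rcases (mem_pairstab hxy).mp hn with ⟨hnx, _⟩ | ⟨hnx, _⟩
    · -- n ∈ B
      by_cases hg : (s' * b * n) • x = x
      · right
        refine ⟨s' * b * n * n⁻¹, ?_, 1, Subgroup.one_mem _, by group⟩
        have hni : n⁻¹ ∈ MulAction.stabilizer G x := Subgroup.inv_mem _ hnx
        exact Subgroup.mul_mem _ hg hni
      · left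
        obtain ⟨b₁, hb₁, b₂, hb₂, he⟩ := hBsB _ hg
        refine ⟨b₁, hb₁, n⁻¹ * b₂, ?_, ?_⟩
        · exact Subgroup.mul_mem _ (Subgroup.inv_mem _ hnx) hb₂
        · rw [he]; group
    · -- n • x = y
      by_cases hg : (s' * b * n) • x = x
      · left
        have hsn : s' * n ∈ MulAction.stabilizer G x := by
          rw [MulAction.mem_stabilizer_iff, mul_smul, hnx, hsy]
        refine ⟨s' * b * n * (s' * n)⁻¹, ?_, 1, Subgroup.one_mem _, by group⟩
        exact Subgroup.mul_mem _ hg (Subgroup.inv_mem _ hsn)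
      · right
        obtain ⟨b₁, hb₁, b₂, hb₂, he⟩ := hBsB _ hg
        have hsn : s'⁻¹ * n ∈ MulAction.stabilizer G x := by
          rw [MulAction.mem_stabilizer_iff, mul_smul, hnx, hsiy]
        refine ⟨b₁, hb₁, (s'⁻¹ * n)⁻¹ * b₂, ?_, ?_⟩
        · exact Subgroup.mul_mem _ (Subgroup.inv_mem _ hsn) hb₂
        · rw [he]; group
  · -- conj_ne
    intro s' hs'
    rw [Set.mem_singleton_iff] at hs'
    subst hs'
    obtain ⟨b, hbx, hby⟩ := h2 hxy hxz
    intro himg
    have hmem : s' * b * s' ∈ (fun b : G => s' * b * s') '' (MulAction.stabilizer G x : Set G) :=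
      ⟨b, hbx, rfl⟩
    rw [himg] at hmem
    have h3 : (s' * b * s') • x = x := hmem
    rw [mul_smul, mul_smul, hsx, hby] at h3
    have : z = y := by rw [← hsix, ← h3, inv_smul_smul]
    exact hyz this.symm
  · -- rank
    show Nat.card ({s} : Set G) = 1
    simp

end Cfsg.Agent.S0323
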