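import Cfsg.Statements.S0328
-- import your own Cfsg.Agent.* helpers here
import Cfsg.Agent.Lib.Helper15.SuzukiGroup

set_option autoImplicit false
open Cfsg

namespace Cfsg.Agent.S0328

open Cfsg.Agent.Lib.Helper15.SuzukiAlg Cfsg.Agent.Lib.Helper15.SuzukiOvoid
  Cfsg.Agent.Lib.Helper15.SuzukiForm Cfsg.Agent.Lib.Helper15.SuzukiMat
  Cfsg.Agent.Lib.Helper15.SuzukiGroup Matrix

theorem main {F : Type*} [Field F] [Fintype F] {m : ℕ} (hm : 1 ≤ m)
    (hF : Fintype.card F = 2 ^ (2 * m + 1)) :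
    Nonempty (↥(MulAction.stabilizer (Cfsg.Sz F m) (Cfsg.suzukiPointInfinity F) ⊓
        MulAction.stabilizer (Cfsg.Sz F m) (Cfsg.suzukiPointZero F)) ≃* Fˣ) := by
  have h2 := two_eq_zero hF
  set S := MulAction.stabilizer (Cfsg.Sz F m) (Cfsg.suzukiPointInfinity F) ⊓
        MulAction.stabilizer (Cfsg.Sz F m) (Cfsg.suzukiPointZero F) with hS
  let ψ : Fˣ →* Cfsg.Sz F m := (Hhom h2 m).codRestrict (Cfsg.Sz F m) (H_mem hF)
  have hψ : ∀ μ, ψ μ ∈ S := by
    intro μ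
    rw [hS, Subgroup.mem_inf, MulAction.mem_stabilizer_iff, MulAction.mem_stabilizer_iff]
    constructor
    · show (H h2 m μ) • Cfsg.suzukiPointInfinity F = Cfsg.suzukiPointInfinity F
      rw [pointInfinity_eq, smul_mk_eq_iff]
      exact ⟨_, mul_ne_zero μ.ne_zero (fun h => μ.ne_zero ((map_eq_zero _).mp h)), H_mulVec_e0 hF μ⟩
    · show (H h2 m μ) • Cfsg.suzukiPointZero F = Cfsg.suzukiPointZero F
      rw [pointZero_eq, smul_mk_eq_iff]
      exact ⟨_, inv_ne_zero (mul_ne_zero μ.ne_zero (fun h => μ.ne_zero ((map_eq_zero _).mp h))),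
        H_mulVec_e3 hF μ⟩
  let ψ' : Fˣ →* S := ψ.codRestrict S hψ
  have hinj : Function.Injective ψ' := by
    intro μ ν h
    have h1 : (ψ' μ : Cfsg.Sz F m) = ψ' ν := congrArg Subtype.val h
    have h3 : ((ψ' μ : Cfsg.Sz F m) : Matrix.SpecialLinearGroup (Fin 4) F) = (ψ' ν : Cfsg.Sz F m) :=
      congrArg Subtype.val h1
    exact H_injective h2 m h3
  have hsurj : Function.Surjective ψ' := by
    rintro ⟨⟨g, hg⟩, hs⟩
    rw [hS, Subgroup.mem_inf, MulAction.mem_stabilizer_iff, MulAction.mem_stabilizer_iff] at hs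
    obtain ⟨hs1, hs2⟩ := hs
    have hs1' : g • Cfsg.suzukiPointInfinity F = Cfsg.suzukiPointInfinity F := hs1
    have hs2' : g • Cfsg.suzukiPointZero F = Cfsg.suzukiPointZero F := hs2
    rw [pointInfinity_eq, smul_mk_eq_iff] at hs1'
    rw [pointZero_eq, smul_mk_eq_iff] at hs2'
    obtain ⟨k, hk, h0⟩ := hs1'
    obtain ⟨k', hk', h3⟩ := hs2'
    obtain ⟨μ, hμ⟩ := two_point hF hm hg hk hk' h0 h3
    refine ⟨μ, ?_⟩
    apply Subtype.ext
    apply Subtype.ext
    exact hμ.symm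
  exact ⟨(MulEquiv.ofBijective ψ' ⟨hinj, hsurj⟩).symm⟩

/-- The stabiliser in the Suzuki group of the two ovoid points spanned by `(1,0,0,0)` and `(0,0,0,1)` is
isomorphic to the multiplicative group of the field (cyclic of order `q - 1`). -/
theorem result {F : Type*} [Field F] [Fintype F] {m : ℕ} (hm : 1 ≤ m)
    (hF : Fintype.card F = 2 ^ (2 * m + 1)) :
    Nonempty (↥(MulAction.stabilizer (Cfsg.Sz F m) (Cfsg.suzukiPointInfinity F) ⊓
        MulAction.stabilizer (Cfsg.Sz F m) (Cfsg.suzukiPointZero F)) ≃* Fˣ) := by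
  exact main hm hF

end Cfsg.Agent.S0328
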