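import Cfsg.Statements.S0332
-- import your own Cfsg.Agent.* helpers here
import Cfsg.Agent.Lib.Helper15.SuzukiElements
import Cfsg.Agent.Lib.Helper15.SuzukiIrred

set_option autoImplicit false
open Cfsg

namespace Cfsg.Agent.S0332

open Cfsg.Agent.Lib.Helper15.SuzukiAlg Cfsg.Agent.Lib.Helper15.SuzukiOvoid
  Cfsg.Agent.Lib.Helper15.SuzukiGroup Cfsg.Agent.Lib.Helper15.SuzukiOrder
  Cfsg.Agent.Lib.Helper15.SuzukiZassenhaus Cfsg.Agent.Lib.Helper15.SuzukiBorel
  Cfsg.Agent.Lib.Helper15.SuzukiElements Cfsg.Agent.Lib.Helper15.SuzukiIrred Matrix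
open scoped Pointwise

variable {F : Type*} [Field F] [Fintype F] {m : ℕ}

/-- elements of prime order have good centralisers -/
theorem good_of_prime (hm : 1 ≤ m) (hF : Fintype.card F = 2 ^ (2 * m + 1)) {p : ℕ}
    [hp : Fact p.Prime] {a : Cfsg.Sz F m} (ha : orderOf a = p) : Good a := by
  classical
  have ha1 : a ≠ 1 := by
    rintro rfl
    rw [orderOf_one] at ha
    exact hp.out.one_lt.ne' ha.symm
  by_cases hfix : ∃ P : Cfsg.suzukiOvoid F m, a • P = P
  · obtain ⟨P, hP⟩ := hfix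
    exact good_of_fix hF hm ha1 hP
  · push Not at hfix
    have hdvd : p ∣ (2 ^ (2 * m + 1)) ^ 2 + 1 := by
      by_contra hnd
      set K : Subgroup (Cfsg.Sz F m) := Subgroup.zpowers a with hK
      have hKp : IsPGroup p K := by
        apply IsPGroup.of_card (n := 1)
        rw [Nat.card_zpowers, ha, pow_one]
      have hcard : ¬ p ∣ Nat.card (Cfsg.suzukiOvoid F m) := by
        rw [Cfsg.Agent.S0326.result, hF]; exact hnd
      obtain ⟨P, hP⟩ := hKp.nonempty_fixed_point_of_prime_not_dvd_card (Cfsg.suzukiOvoid F m) hcard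
      rw [MulAction.mem_fixedPoints] at hP
      exact hfix P (hP ⟨a, Subgroup.mem_zpowers a⟩)
    have hp2 : p ≠ 2 := by
      rintro rfl
      have h1 : 2 ∣ (2 ^ (2 * m + 1)) ^ 2 := by
        rw [← pow_mul]
        exact dvd_pow_self 2 (by omega)
      have := (Nat.dvd_add_right h1).mp hdvd
      omega
    right
    intro h₁ h₂ hh₁ hh₂
    have hy : orderOf (a : Matrix.SpecialLinearGroup (Fin 4) F) = p := by
      rw [Subgroup.orderOf_coe]; exact ha
    have c1 : ((h₁ : Matrix.SpecialLinearGroup (Fin 4) F) : Matrix (Fin 4) (Fin 4) F) *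
        ((a : Matrix.SpecialLinearGroup (Fin 4) F) : Matrix (Fin 4) (Fin 4) F) =
        ((a : Matrix.SpecialLinearGroup (Fin 4) F) : Matrix (Fin 4) (Fin 4) F) *
        ((h₁ : Matrix.SpecialLinearGroup (Fin 4) F) : Matrix (Fin 4) (Fin 4) F) :=
      congrArg (fun z : Cfsg.Sz F m => ((z : Matrix.SpecialLinearGroup (Fin 4) F) :
        Matrix (Fin 4) (Fin 4) F)) hh₁
    have c2 : ((h₂ : Matrix.SpecialLinearGroup (Fin 4) F) : Matrix (Fin 4) (Fin 4) F) *
        ((a : Matrix.SpecialLinearGroup (Fin 4) F) : Matrix (Fin 4) (Fin 4) F) =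
        ((a : Matrix.SpecialLinearGroup (Fin 4) F) : Matrix (Fin 4) (Fin 4) F) *
        ((h₂ : Matrix.SpecialLinearGroup (Fin 4) F) : Matrix (Fin 4) (Fin 4) F) :=
      congrArg (fun z : Cfsg.Sz F m => ((z : Matrix.SpecialLinearGroup (Fin 4) F) :
        Matrix (Fin 4) (Fin 4) F)) hh₂
    have := centralizer_comm hF hp2 hdvd (a : Matrix.SpecialLinearGroup (Fin 4) F) hy c1 c2
    apply Subtype.ext
    apply Subtype.ext
    exact this

omit [Fintype F] in
theorem good_of_le {g a : Cfsg.Sz F m} (ha : Good a) (hle : ∀ h : Cfsg.Sz F m, h * g = g * h → h * a = a * h) :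
    Good g := by
  rcases ha with ha | ha
  · left
    apply ha.to_le
    intro h hh
    rw [Subgroup.mem_centralizer_singleton_iff] at hh ⊢
    exact hle h hh
  · right
    intro h₁ h₂ hh₁ hh₂
    exact ha h₁ h₂ (hle h₁ hh₁) (hle h₂ hh₂)

theorem main (hm : 1 ≤ m) (hF : Fintype.card F = 2 ^ (2 * m + 1)) : Cfsg.IsCNGroup (Cfsg.Sz F m) := by
  intro g hg
  have hn : orderOf g ≠ 1 := fun h => hg (orderOf_eq_one_iff.mp h)
  obtain ⟨p, hp, hpd⟩ := Nat.exists_prime_and_dvd hn
  have : Fact p.Prime := ⟨hp⟩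
  have hpos : 0 < orderOf g := orderOf_pos g
  have ha : orderOf (g ^ (orderOf g / p)) = p := by
    rw [orderOf_pow' g (by
      intro h
      have := Nat.div_eq_zero_iff.mp h
      rcases this with h | h
      · exact hp.ne_zero h
      · exact absurd (Nat.le_of_dvd hpos hpd) (not_le.mpr h))]
    rw [Nat.gcd_eq_right (Nat.div_dvd_of_dvd hpd)]
    exact Nat.div_div_self hpd hpos.ne'
  apply nilpotent_of_good
  apply good_of_le (good_of_prime hm hF ha)
  intro h hh
  exact ((Commute.pow_right (show Commute h g from hh) _)).eq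

/-- The Suzuki group is a CN-group: every non-identity element has nilpotent centraliser. -/
theorem result {F : Type*} [Field F] [Fintype F] {m : ℕ} (hm : 1 ≤ m)
    (hF : Fintype.card F = 2 ^ (2 * m + 1)) : Cfsg.IsCNGroup (Cfsg.Sz F m) := by
  exact main hm hF

end Cfsg.Agent.S0332
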