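import Cfsg.Statements.S0333
-- import your own Cfsg.Agent.* helpers here
import Cfsg.Agent.Lib.Helper15.SuzukiTori

set_option autoImplicit false
open Cfsg

namespace Cfsg.Agent.S0333

open Cfsg.Agent.Lib.Helper15.SuzukiFpf Cfsg.Agent.Lib.Helper15.SuzukiField
  Cfsg.Agent.Lib.Helper15.SuzukiTori

variable {F : Type*} [Field F] [Fintype F] {m : ℕ}

theorem main (hm : 1 ≤ m) (hF : Fintype.card F = 2 ^ (2 * m + 1)) :
    ∀ k ∈ ({2 ^ (2 * m + 1) + 2 ^ (m + 1) + 1, 2 ^ (2 * m + 1) - 2 ^ (m + 1) + 1} : Set ℕ),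
      ∃ U : Subgroup (Cfsg.Sz F m), IsCyclic U ∧ Nat.card U = k ∧
        (∀ u ∈ U, u ≠ 1 → Subgroup.centralizer {u} = U) ∧ Nat.card (Subgroup.normalizer (U : Set (Cfsg.Sz F m))) = 4 * k := by
  obtain ⟨x₁, x₂, hx₁, hx₂, hd₁, hd₂, hn₁, hn₂, -⟩ := tori hF hm
  have key : ∀ x : Cfsg.Sz F m, IsFpf x → ∀ k, dd x = k →
      Nat.card (Subgroup.normalizer
        ((Subgroup.centralizer ({x} : Set (Cfsg.Sz F m)) : Subgroup (Cfsg.Sz F m)) :
          Set (Cfsg.Sz F m))) = 4 * dd x →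
      ∃ U : Subgroup (Cfsg.Sz F m), IsCyclic U ∧ Nat.card U = k ∧
        (∀ u ∈ U, u ≠ 1 → Subgroup.centralizer {u} = U) ∧
        Nat.card (Subgroup.normalizer (U : Set (Cfsg.Sz F m))) = 4 * k := by
    intro x hx k hk hn
    refine ⟨Subgroup.centralizer ({x} : Set (Cfsg.Sz F m)), cent_cyclic hF hm hx, hk, ?_, ?_⟩
    · intro u hu hu1
      exact hx.cent_eq hF hm (Subgroup.mem_centralizer_singleton_iff.mp hu) hu1
    · rw [hn, hk]
  intro k hk
  rcases hk with rfl | hk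
  · exact key x₁ hx₁ _ hd₁ hn₁
  · rw [Set.mem_singleton_iff] at hk
    subst hk
    exact key x₂ hx₂ _ hd₂ hn₂

/-- With `q = 2^(2m+1)` and `r = 2^m`, the Suzuki group has cyclic subgroups of orders `q + 2r + 1` and
`q - 2r + 1`; each is the centraliser of each of its non-identity elements and has index `4` in its normaliser. -/
theorem result {F : Type*} [Field F] [Fintype F] {m : ℕ} (hm : 1 ≤ m)
    (hF : Fintype.card F = 2 ^ (2 * m + 1)) :
    ∀ k ∈ ({2 ^ (2 * m + 1) + 2 ^ (m + 1) + 1, 2 ^ (2 * m + 1) - 2 ^ (m + 1) + 1} : Set ℕ),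
      ∃ U : Subgroup (Cfsg.Sz F m), IsCyclic U ∧ Nat.card U = k ∧
        (∀ u ∈ U, u ≠ 1 → Subgroup.centralizer {u} = U) ∧ Nat.card (Subgroup.normalizer (U : Set (Cfsg.Sz F m))) = 4 * k := by
  exact main hm hF

end Cfsg.Agent.S0333
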