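import Cfsg.Statements.S0335
-- import your own Cfsg.Agent.* helpers here
import Cfsg.Agent.Lib.Helper15.SuzukiOvoid

set_option autoImplicit false
open Cfsg

namespace Cfsg.Agent.S0335

open Cfsg.Agent.Lib.Helper15.SuzukiAlg Cfsg.Agent.Lib.Helper15.SuzukiOvoid

theorem main {F : Type*} [Field F] [Fintype F] {m : ℕ} (hm : 1 ≤ m)
    (hF : Fintype.card F = 2 ^ (2 * m + 1)) (p : Fin 3 ↪ Cfsg.suzukiOvoid F m) :
    Projectivization.Independent (fun i => (p i : Projectivization F (Fin 4 → F))) := by
  have h2 := two_eq_zero hF
  have hσ := sig_sig h2 hF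
  choose c hc using fun i => (mem_ovoid_iff h2 m _).mp (p i).2
  have hfun : (fun i => ((p i : Projectivization F (Fin 4 → F)))) =
      fun i => Projectivization.mk F (ov (sig h2 m) (c i)) (ov_ne_zero _ (c i)) := funext hc
  rw [hfun]
  apply Projectivization.Independent.mk
  apply linearIndependent_ov _ hσ h2 c
  intro i j hij
  apply p.injective
  apply Subtype.ext
  rw [hc i, hc j]
  simp only [hij]

/-- The Suzuki–Tits point set is an ovoid: any three distinct points of it are projectively independent
(no line of projective 3-space meets it in more than two points). -/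
theorem result {F : Type*} [Field F] [Fintype F] {m : ℕ} (hm : 1 ≤ m)
    (hF : Fintype.card F = 2 ^ (2 * m + 1)) (p : Fin 3 ↪ Cfsg.suzukiOvoid F m) :
    Projectivization.Independent (fun i => (p i : Projectivization F (Fin 4 → F))) := by
  exact main hm hF p

end Cfsg.Agent.S0335
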