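import Cfsg.Statements.S0346
import Cfsg.Agent.S0885
import Cfsg.Agent.S0738
import Cfsg.Agent.S0741
import Cfsg.Agent.Lib.Helper5.ZassNormal

set_option autoImplicit false
open Cfsg

namespace Cfsg.Agent.S0346

open MulAction Cfsg.Agent.Lib.Helper5.Zass

/-- The number of points of a finite simple Zassenhaus group is `p^k + 1` for some prime power `p^k` (the regular normal
subgroup of a point stabiliser is a `p`-group). -/
theorem result {G Ω : Type*} [Group G] [Finite G] [MulAction G Ω] [Fintype Ω]
    (hZ : Cfsg.IsZassenhausGroup G Ω) [IsSimpleGroup G] :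
    IsPrimePow (Fintype.card Ω - 1) := by
  classical
  obtain ⟨a, b, c, hab, hac, hbc⟩ := zass_three hZ
  obtain ⟨K, hK1, _, hK3, _⟩ := zass_kernel hZ a
  have hKcard := zass_kernel_card hZ a K hK1 hK3
  rw [Nat.card_eq_fintype_card (α := Ω)] at hKcard
  have h3 : 3 ≤ Fintype.card Ω := by
    have hcard : ({a, b, c} : Finset Ω).card = 3 := by
      rw [Finset.card_insert_of_notMem, Finset.card_insert_of_notMem, Finset.card_singleton]
      · simpa using hbc
      · simp only [Finset.mem_insert, Finset.mem_singleton, not_or]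
        exact ⟨hab, hac⟩
    calc 3 = ({a, b, c} : Finset Ω).card := hcard.symm
      _ ≤ Fintype.card Ω := Finset.card_le_univ _
  have hKle : K ≤ stabilizer G a := fun x hx => ((hK1 x).mp hx).1
  have hKfix : ∀ u ∈ K, u ≠ 1 → ∀ d : Ω, u • d = d → d = a := by
    intro u hu hu1 d hd
    rcases ((hK1 u).mp hu).2 with h | h
    · exact absurd h hu1
    · exact h d hd
  have hKcard' : Nat.card K + 1 = Fintype.card Ω := by omega
  -- the case where the inequality holds
  have hbound : Fintype.card Ω - 2 ≤ 2 * Nat.card ↥(stabilizer G a ⊓ stabilizer G b) →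
      IsPrimePow (Fintype.card Ω - 1) := by
    intro hb
    have hnorm : (K.subgroupOf (stabilizer G a)).Normal := by
      refine ⟨fun x hx g => ?_⟩
      rw [Subgroup.mem_subgroupOf] at hx ⊢
      have hga : (g : G) • a = a := g.2
      rw [hK1] at hx ⊢
      simp only [Subgroup.coe_mul, Subgroup.coe_inv]
      refine ⟨?_, ?_⟩
      · rw [mul_smul, mul_smul]
        have : (g : G)⁻¹ • a = a := by
          have h1 : (g : G)⁻¹ • ((g : G) • a) = (g : G)⁻¹ • a := by rw [hga]
          rw [inv_smul_smul] at h1
          exact h1.symm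
        rw [this, hx.1, hga]
      · rcases hx.2 with h | h
        · left
          rw [h]; group
        · right
          intro d hd
          have h1 : (x : G) • ((g : G)⁻¹ • d) = (g : G)⁻¹ • d := by
            have h2 : (g : G)⁻¹ • (((g : G) * (x : G) * (g : G)⁻¹) • d) = (g : G)⁻¹ • d := by rw [hd]
            rw [mul_smul, mul_smul, inv_smul_smul] at h2
            exact h2
          have h2 := h _ h1
          have h3 : (g : G) • ((g : G)⁻¹ • d) = (g : G) • a := by rw [h2]
          rw [smul_inv_smul, hga] at h3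
          exact h3
    have hreg : ∀ y z : Ω, y ≠ a → z ≠ a → ∃! u : K, (u : G) • y = z := by
      intro y z hy hz
      obtain ⟨k, hk, hkz⟩ := hK3 y z hy hz
      refine ⟨⟨k, hk⟩, hkz, ?_⟩
      rintro ⟨k', hk'⟩ hk'z
      apply Subtype.ext
      show k' = k
      have h1 : (k⁻¹ * k') • y = y := by
        rw [mul_smul, hk'z, ← hkz, inv_smul_smul]
      have h2 : k⁻¹ * k' ∈ K := K.mul_mem (K.inv_mem hk) hk'
      by_contra hne
      have h4 : k⁻¹ * k' ≠ 1 := by
        intro h5
        apply hne
        have : k' = k * (k⁻¹ * k') := by group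
        rw [this, h5, mul_one]
      exact hy (hKfix _ h2 h4 y h1)
    obtain ⟨_, p, f, hp, _, hpf⟩ := Cfsg.Agent.S0738.result hZ hab hb K hKle hnorm hreg
    rw [hpf, Nat.add_sub_cancel]
    have hf : f ≠ 0 := by
      rintro rfl
      rw [pow_zero] at hpf
      omega
    exact hp.isPrimePow.pow hf
  rcases Nat.even_or_odd (Nat.card ↥(stabilizer G a ⊓ stabilizer G b)) with heven | hodd
  · exact hbound (Cfsg.Agent.S0741.result hZ hab heven)
  · rcases Cfsg.Agent.S0885.result hZ hab (Fintype.card Ω - 1)
        (Nat.card ↥(stabilizer G a ⊓ stabilizer G b)) (by omega) rfl hodd K hKle hKcard' hKfix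
      with h | ⟨h2, _, _⟩
    · apply hbound
      omega
    · have : Fact (Nat.Prime 2) := ⟨Nat.prime_two⟩
      obtain ⟨k, hk⟩ := (IsPGroup.iff_card (p := 2) (G := K)).mp h2
      rw [← hKcard, hk]
      have hk0 : k ≠ 0 := by
        rintro rfl
        rw [pow_zero] at hk
        omega
      exact Nat.prime_two.isPrimePow.pow hk0

end Cfsg.Agent.S0346
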