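import Cfsg.Statements.S0350
-- import your own Cfsg.Agent.* helpers here

set_option autoImplicit false
open Cfsg

namespace Cfsg.Agent.S0350

/-- Counting pairs (t-subset, block containing it) in two ways: the number of blocks of a Steiner system with parameters (t, k, v), multiplied by C(k, t), equals C(v, t). -/
theorem result {α : Type*} [Fintype α] [DecidableEq α] {t k : ℕ} {B : Set (Finset α)} (hB : Cfsg.IsSteinerSystem t k B) : B.ncard * Nat.choose k t = Nat.choose (Fintype.card α) t := by
  classical
  have hfin : B.Finite := Set.toFinite B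
  rw [Set.ncard_eq_toFinset_card B hfin]
  set Bf := hfin.toFinset with hBf
  have hmem : ∀ b, b ∈ Bf ↔ b ∈ B := fun b => Set.Finite.mem_toFinset hfin
  have hunion : (Finset.univ : Finset α).powersetCard t = Bf.biUnion (fun b => b.powersetCard t) := by
    ext s
    simp only [Finset.mem_powersetCard, Finset.subset_univ, true_and, Finset.mem_biUnion]
    constructor
    · intro hs
      obtain ⟨b, ⟨hb, hsb⟩, -⟩ := hB.2 s hs
      exact ⟨b, (hmem b).mpr hb, hsb, hs⟩
    · rintro ⟨b, -, -, hs⟩
      exact hs
  have hdisj : (Bf : Set (Finset α)).PairwiseDisjoint (fun b => b.powersetCard t) := by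
    intro b hb b' hb' hne
    rw [Function.onFun, Finset.disjoint_left]
    intro s hs hs'
    rw [Finset.mem_powersetCard] at hs hs'
    obtain ⟨c, -, huniq⟩ := hB.2 s hs.2
    apply hne
    rw [huniq b ⟨(hmem b).mp hb, hs.1⟩, huniq b' ⟨(hmem b').mp hb', hs'.1⟩]
  have := congrArg Finset.card hunion
  rw [Finset.card_powersetCard, Finset.card_univ, Finset.card_biUnion hdisj] at this
  rw [this, Finset.sum_congr rfl (fun b hb => by rw [Finset.card_powersetCard, hB.1 b ((hmem b).mp hb)])]
  rw [Finset.sum_const, smul_eq_mul]

end Cfsg.Agent.S0350
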