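import Cfsg.Statements.S0352
import Mathlib
import Cfsg.Agent.Lib.Helper2.SteinerInter

set_option autoImplicit false
open Cfsg

namespace Cfsg.Agent.S0352

open Cfsg.Agent.Lib.Helper2 in
/-- the polynomial `j(j-2)^2(j-4)` in the binomial basis -/
def pol (j : ℕ) : ℤ :=
  24 * (Nat.choose j 4 : ℤ) - 12 * (Nat.choose j 3 : ℤ) + 6 * (Nat.choose j 2 : ℤ)
    - 3 * (Nat.choose j 1 : ℤ)


/-- In a Steiner system S(5, 8, 24), two distinct blocks intersect in 0, 2 or 4 points. -/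
theorem result {α : Type*} [Fintype α] [DecidableEq α] (hα : Fintype.card α = 24) {B : Set (Finset α)} (hB : Cfsg.IsSteinerSystem 5 8 B) {b c : Finset α} (hb : b ∈ B) (hc : c ∈ B) (hbc : b ≠ c) : (b ∩ c).card = 0 ∨ (b ∩ c).card = 2 ∨ (b ∩ c).card = 4 := by
  classical
  open Cfsg.Agent.Lib.Helper2 in
  have hS : ∀ i lam : ℕ, i ≤ 5 →
      lam * Nat.choose (8 - i) (5 - i) = Nat.choose (Fintype.card α - i) (5 - i) →
      0 < Nat.choose (8 - i) (5 - i) →
      ∑ x ∈ allBlocks B, Nat.choose (x ∩ c).card i = Nat.choose 8 i * lam := by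
    intro i lam hi h1 h2
    have := sum_choose_inter_eq 5 8 B hB c i hi lam h1 h2
    rwa [hB.1 c hc] at this
  have h1 := hS 1 253 (by norm_num) (by rw [hα]; decide) (by decide)
  have h2 := hS 2 77 (by norm_num) (by rw [hα]; decide) (by decide)
  have h3 := hS 3 21 (by norm_num) (by rw [hα]; decide) (by decide)
  have h4 := hS 4 5 (by norm_num) (by rw [hα]; decide) (by decide)
  have hsum : ∑ x ∈ Cfsg.Agent.Lib.Helper2.allBlocks B, pol (x ∩ c).card = pol (c ∩ c).card := by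
    unfold pol
    rw [Finset.sum_sub_distrib, Finset.sum_add_distrib, Finset.sum_sub_distrib,
      ← Finset.mul_sum, ← Finset.mul_sum, ← Finset.mul_sum, ← Finset.mul_sum,
      ← Nat.cast_sum, ← Nat.cast_sum, ← Nat.cast_sum, ← Nat.cast_sum, h1, h2, h3, h4,
      Finset.inter_self, hB.1 c hc]
    norm_num [Nat.choose]
  have hle : ∀ x ∈ Cfsg.Agent.Lib.Helper2.allBlocks B, x ≠ c → (x ∩ c).card ≤ 4 := by
    intro x hx hne
    by_contra hcon
    push Not at hcon
    exact hne (Cfsg.Agent.Lib.Helper2.block_eq_of_le_card_inter 5 8 B hB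
      ((Cfsg.Agent.Lib.Helper2.mem_allBlocks B x).mp hx) hc hcon)
  have hpol : ∀ j : ℕ, j ≤ 4 → pol j ≤ 0 ∧ (pol j = 0 → j = 0 ∨ j = 2 ∨ j = 4) := by
    intro j hj
    interval_cases j <;> simp [pol, Nat.choose]
  have hzero := Cfsg.Agent.Lib.Helper2.eq_zero_of_sum_eq_of_nonpos
    (Cfsg.Agent.Lib.Helper2.allBlocks B) (fun x => pol (x ∩ c).card) c
    ((Cfsg.Agent.Lib.Helper2.mem_allBlocks B c).mpr hc) hsum
    (fun x hx hne => (hpol _ (hle x hx hne)).1)
  have hbmem := (Cfsg.Agent.Lib.Helper2.mem_allBlocks B b).mpr hb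
  exact (hpol _ (hle b hbmem hbc)).2 (hzero b hbmem hbc)

end Cfsg.Agent.S0352
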