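import Cfsg.Statements.S0353
import Mathlib
import Cfsg.Agent.Lib.Helper2.SteinerInter
import Cfsg.Agent.S0352

set_option autoImplicit false
open Cfsg

namespace Cfsg.Agent.S0353

/-- the polynomial `j(j-2)(j-4)(j-6)` in the binomial basis -/
def pol6 (j : ℕ) : ℤ :=
  24 * (Nat.choose j 4 : ℤ) - 36 * (Nat.choose j 3 : ℤ) + 30 * (Nat.choose j 2 : ℤ)
    - 15 * (Nat.choose j 1 : ℤ)

theorem card_inter_symmDiff {α : Type*} [DecidableEq α] (z b c : Finset α) :
    (z ∩ symmDiff b c).card + 2 * (z ∩ b ∩ c).card = (z ∩ b).card + (z ∩ c).card := by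
  have h1 : z ∩ symmDiff b c = ((z ∩ b) \ c) ∪ ((z ∩ c) \ b) := by
    ext a
    simp only [Finset.mem_inter, Finset.mem_symmDiff, Finset.mem_union, Finset.mem_sdiff]
    tauto
  have hdisj : Disjoint ((z ∩ b) \ c) ((z ∩ c) \ b) := by
    rw [Finset.disjoint_left]
    intro a ha hb
    simp only [Finset.mem_inter, Finset.mem_sdiff] at ha hb
    exact ha.2 hb.1.2
  rw [h1, Finset.card_union_of_disjoint hdisj]
  have h2 := Finset.card_sdiff_add_card_inter (z ∩ b) c
  have h3 := Finset.card_sdiff_add_card_inter (z ∩ c) b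
  have h4 : z ∩ c ∩ b = z ∩ b ∩ c := by
    ext a; simp only [Finset.mem_inter]; tauto
  rw [h4] at h3
  omega


/-- In an S(5, 8, 24), the symmetric difference of two blocks meeting in four points is a block. -/
theorem result {α : Type*} [Fintype α] [DecidableEq α] (hα : Fintype.card α = 24) {B : Set (Finset α)} (hB : Cfsg.IsSteinerSystem 5 8 B) {b c : Finset α} (hb : b ∈ B) (hc : c ∈ B) (h4 : (b ∩ c).card = 4) : symmDiff b c ∈ B := by
  classical
  obtain ⟨D, hD⟩ : ∃ D, D = symmDiff b c := ⟨_, rfl⟩
  rw [← hD]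
  have hDcard : D.card = 8 := by
    have h := card_inter_symmDiff Finset.univ b c
    rw [← hD] at h
    simp only [Finset.univ_inter] at h
    rw [hB.1 b hb, hB.1 c hc, h4] at h
    omega
  open Cfsg.Agent.Lib.Helper2 in
  have hS : ∀ i lam : ℕ, i ≤ 5 →
      lam * Nat.choose (8 - i) (5 - i) = Nat.choose (Fintype.card α - i) (5 - i) →
      0 < Nat.choose (8 - i) (5 - i) →
      ∑ x ∈ allBlocks B, Nat.choose (x ∩ D).card i = Nat.choose 8 i * lam := by
    intro i lam hi h1 h2
    have := sum_choose_inter_eq 5 8 B hB D i hi lam h1 h2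
    rwa [hDcard] at this
  have h1 := hS 1 253 (by norm_num) (by rw [hα]; decide) (by decide)
  have h2 := hS 2 77 (by norm_num) (by rw [hα]; decide) (by decide)
  have h3 := hS 3 21 (by norm_num) (by rw [hα]; decide) (by decide)
  have h4' := hS 4 5 (by norm_num) (by rw [hα]; decide) (by decide)
  have hsum : ∑ x ∈ Cfsg.Agent.Lib.Helper2.allBlocks B, pol6 (x ∩ D).card = 384 := by
    unfold pol6
    rw [Finset.sum_sub_distrib, Finset.sum_add_distrib, Finset.sum_sub_distrib,
      ← Finset.mul_sum, ← Finset.mul_sum, ← Finset.mul_sum, ← Finset.mul_sum,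
      ← Nat.cast_sum, ← Nat.cast_sum, ← Nat.cast_sum, ← Nat.cast_sum, h1, h2, h3, h4']
    norm_num [Nat.choose]
  -- parity of the intersections
  have heven : ∀ x ∈ B, ∀ y ∈ B, Even (x ∩ y).card := by
    intro x hx y hy
    by_cases hxy : x = y
    · subst hxy
      rw [Finset.inter_self, hB.1 x hx]
      decide
    · rcases Cfsg.Agent.S0352.result hα hB hx hy hxy with h | h | h <;> rw [h] <;> decide
  have hpar : ∀ x ∈ B, Even (x ∩ D).card := by
    intro x hx
    have h := card_inter_symmDiff x b c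
    rw [← hD] at h
    have e1 := heven x hx b hb
    have e2 := heven x hx c hc
    rw [Nat.even_iff] at e1 e2 ⊢
    omega
  -- some block contains D
  obtain ⟨x, hxB, hx8⟩ : ∃ x ∈ B, (x ∩ D).card = 8 := by
    by_contra hcon
    push Not at hcon
    have hterm : ∀ x ∈ Cfsg.Agent.Lib.Helper2.allBlocks B, pol6 (x ∩ D).card = 0 := by
      intro x hx
      have hxB := (Cfsg.Agent.Lib.Helper2.mem_allBlocks B x).mp hx
      have hle : (x ∩ D).card ≤ 8 := by
        rw [← hDcard]; exact Finset.card_le_card Finset.inter_subset_right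
      have hne := hcon x hxB
      have hev := hpar x hxB
      generalize (x ∩ D).card = j at hle hne hev
      interval_cases j <;> simp_all [pol6, Nat.choose] <;> exact absurd hev (by decide)
    rw [Finset.sum_eq_zero hterm] at hsum
    norm_num at hsum
  have hsub : D ⊆ x := by
    have : x ∩ D = D := Finset.eq_of_subset_of_card_le Finset.inter_subset_right (by rw [hx8, hDcard])
    rw [← this]
    exact Finset.inter_subset_left
  have : D = x := Finset.eq_of_subset_of_card_le hsub (by rw [hDcard, hB.1 x hxB])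
  rw [this]
  exact hxB

end Cfsg.Agent.S0353
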