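import Cfsg.Statements.S0354
import Mathlib
import Cfsg.Agent.Lib.Helper2.SteinerInter
import Cfsg.Agent.S0352

set_option autoImplicit false
open Cfsg

namespace Cfsg.Agent.S0354

/-- the polynomial `(j-2)(j-4)` in the binomial basis -/
def pol2 (j : ℕ) : ℤ :=
  2 * (Nat.choose j 2 : ℤ) - 5 * (Nat.choose j 1 : ℤ) + 8 * (Nat.choose j 0 : ℤ)


/-- In an S(5, 8, 24), each block is disjoint from exactly 30 blocks. -/
theorem result {α : Type*} [Fintype α] [DecidableEq α] (hα : Fintype.card α = 24) {B : Set (Finset α)} (hB : Cfsg.IsSteinerSystem 5 8 B) {b : Finset α} (hb : b ∈ B) : {c : Finset α | c ∈ B ∧ Disjoint b c}.ncard = 30 := by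
  classical
  open Cfsg.Agent.Lib.Helper2 in
  have hS : ∀ i lam : ℕ, i ≤ 5 →
      lam * Nat.choose (8 - i) (5 - i) = Nat.choose (Fintype.card α - i) (5 - i) →
      0 < Nat.choose (8 - i) (5 - i) →
      ∑ x ∈ allBlocks B, Nat.choose (x ∩ b).card i = Nat.choose 8 i * lam := by
    intro i lam hi h1 h2
    have := sum_choose_inter_eq 5 8 B hB b i hi lam h1 h2
    rwa [hB.1 b hb] at this
  have h0 := hS 0 759 (by norm_num) (by rw [hα]; decide) (by decide)
  have h1 := hS 1 253 (by norm_num) (by rw [hα]; decide) (by decide)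
  have h2 := hS 2 77 (by norm_num) (by rw [hα]; decide) (by decide)
  have hsum : ∑ x ∈ Cfsg.Agent.Lib.Helper2.allBlocks B, pol2 (x ∩ b).card = 264 := by
    unfold pol2
    rw [Finset.sum_add_distrib, Finset.sum_sub_distrib,
      ← Finset.mul_sum, ← Finset.mul_sum, ← Finset.mul_sum,
      ← Nat.cast_sum, ← Nat.cast_sum, ← Nat.cast_sum, h0, h1, h2]
    norm_num [Nat.choose]
  -- termwise evaluation
  have hterm : ∀ x ∈ Cfsg.Agent.Lib.Helper2.allBlocks B, pol2 (x ∩ b).card =
      (if x = b then (24 : ℤ) else 0) + (if Disjoint b x then (8 : ℤ) else 0) := by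
    intro x hx
    have hxB := (Cfsg.Agent.Lib.Helper2.mem_allBlocks B x).mp hx
    by_cases hxb : x = b
    · subst hxb
      have hne : ¬ Disjoint x x := by
        rw [disjoint_self]
        intro h0
        have := hB.1 x hb
        rw [h0] at this
        simp at this
      rw [if_pos rfl, if_neg hne, Finset.inter_self, hB.1 x hb]
      norm_num [pol2, Nat.choose]
    · rw [if_neg hxb]
      have h3 := Cfsg.Agent.S0352.result hα hB hxB hb hxb
      by_cases hd : Disjoint b x
      · rw [if_pos hd]
        have : (x ∩ b).card = 0 := by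
          rw [Finset.card_eq_zero, Finset.inter_comm]
          exact Finset.disjoint_iff_inter_eq_empty.mp hd
        rw [this]
        norm_num [pol2]
      · rw [if_neg hd]
        have hne0 : (x ∩ b).card ≠ 0 := by
          intro h0
          apply hd
          rw [Finset.disjoint_iff_inter_eq_empty, Finset.inter_comm]
          exact Finset.card_eq_zero.mp h0
        rcases h3 with h | h | h
        · exact absurd h hne0
        · rw [h]; norm_num [pol2, Nat.choose]
        · rw [h]; norm_num [pol2, Nat.choose]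
  rw [Finset.sum_congr rfl hterm, Finset.sum_add_distrib, Finset.sum_ite_eq',
    if_pos ((Cfsg.Agent.Lib.Helper2.mem_allBlocks B b).mpr hb), ← Finset.sum_filter,
    Finset.sum_const, nsmul_eq_mul] at hsum
  have hset : {c : Finset α | c ∈ B ∧ Disjoint b c} =
      ((Cfsg.Agent.Lib.Helper2.allBlocks B).filter (fun x => Disjoint b x) : Finset (Finset α)) := by
    ext x
    simp [Cfsg.Agent.Lib.Helper2.mem_allBlocks]
  rw [hset, Set.ncard_coe_finset]
  omega

end Cfsg.Agent.S0354
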