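import Cfsg.Statements.S0357
import Mathlib
import Cfsg.Agent.Lib.Helper2.SteinerInter

set_option autoImplicit false
open Cfsg

namespace Cfsg.Agent.S0357

/-- the polynomial `(j-1)(j-2)(j-3)(j-4)` in the binomial basis -/
def pol4 (j : ℕ) : ℤ :=
  24 * (Nat.choose j 4 : ℤ) - 24 * (Nat.choose j 3 : ℤ) + 24 * (Nat.choose j 2 : ℤ)
    - 24 * (Nat.choose j 1 : ℤ) + 24 * (Nat.choose j 0 : ℤ)


/-- In a Steiner system S(5, 6, 12), the complement of every block is again a block. -/
theorem result {α : Type*} [Fintype α] [DecidableEq α] (hα : Fintype.card α = 12) {B : Set (Finset α)} (hB : Cfsg.IsSteinerSystem 5 6 B) {b : Finset α} (hb : b ∈ B) : bᶜ ∈ B := by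
  classical
  open Cfsg.Agent.Lib.Helper2 in
  have hS : ∀ i lam : ℕ, i ≤ 5 →
      lam * Nat.choose (6 - i) (5 - i) = Nat.choose (Fintype.card α - i) (5 - i) →
      0 < Nat.choose (6 - i) (5 - i) →
      ∑ x ∈ allBlocks B, Nat.choose (x ∩ b).card i = Nat.choose 6 i * lam := by
    intro i lam hi h1 h2
    have := sum_choose_inter_eq 5 6 B hB b i hi lam h1 h2
    rwa [hB.1 b hb] at this
  have h0 := hS 0 132 (by norm_num) (by rw [hα]; decide) (by decide)
  have h1 := hS 1 66 (by norm_num) (by rw [hα]; decide) (by decide)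
  have h2 := hS 2 30 (by norm_num) (by rw [hα]; decide) (by decide)
  have h3 := hS 3 12 (by norm_num) (by rw [hα]; decide) (by decide)
  have h4 := hS 4 4 (by norm_num) (by rw [hα]; decide) (by decide)
  have hsum : ∑ x ∈ Cfsg.Agent.Lib.Helper2.allBlocks B, pol4 (x ∩ b).card = 144 := by
    unfold pol4
    rw [Finset.sum_add_distrib, Finset.sum_sub_distrib, Finset.sum_add_distrib,
      Finset.sum_sub_distrib,
      ← Finset.mul_sum, ← Finset.mul_sum, ← Finset.mul_sum, ← Finset.mul_sum, ← Finset.mul_sum,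
      ← Nat.cast_sum, ← Nat.cast_sum, ← Nat.cast_sum, ← Nat.cast_sum, ← Nat.cast_sum,
      h0, h1, h2, h3, h4]
    norm_num [Nat.choose]
  -- there is a block disjoint from b
  obtain ⟨x, hxB, hxd⟩ : ∃ x ∈ B, (x ∩ b).card = 0 := by
    by_contra hcon
    push Not at hcon
    have hterm : ∀ x ∈ Cfsg.Agent.Lib.Helper2.allBlocks B, pol4 (x ∩ b).card =
        (if x = b then (120 : ℤ) else 0) := by
      intro x hx
      have hxB := (Cfsg.Agent.Lib.Helper2.mem_allBlocks B x).mp hx
      by_cases hxb : x = b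
      · subst hxb
        rw [if_pos rfl, Finset.inter_self, hB.1 x hb]
        norm_num [pol4, Nat.choose]
      · rw [if_neg hxb]
        have hle : (x ∩ b).card ≤ 4 := by
          by_contra hc5
          push Not at hc5
          exact hxb (Cfsg.Agent.Lib.Helper2.block_eq_of_le_card_inter 5 6 B hB hxB hb hc5)
        have hne := hcon x hxB
        generalize (x ∩ b).card = j at hle hne
        interval_cases j <;> simp_all [pol4, Nat.choose]
    rw [Finset.sum_congr rfl hterm, Finset.sum_ite_eq',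
      if_pos ((Cfsg.Agent.Lib.Helper2.mem_allBlocks B b).mpr hb)] at hsum
    norm_num at hsum
  have hdisj : x ⊆ bᶜ := by
    intro a ha
    rw [Finset.mem_compl]
    intro hab
    have : a ∈ x ∩ b := Finset.mem_inter.mpr ⟨ha, hab⟩
    rw [Finset.card_eq_zero] at hxd
    rw [hxd] at this
    simp at this
  have hcard : bᶜ.card = x.card := by
    rw [Finset.card_compl, hα, hB.1 b hb, hB.1 x hxB]
  have : x = bᶜ := Finset.eq_of_subset_of_card_le hdisj (le_of_eq hcard)
  rw [← this]
  exact hxB

end Cfsg.Agent.S0357
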