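import Cfsg.Statements.S0369
-- import your own Cfsg.Agent.* helpers here
import Cfsg.Agent.Lib.Helper3.Golay.M24Chain

set_option autoImplicit false
open Cfsg

namespace Cfsg.Agent.S0369

open Cfsg.Agent.Lib.Helper3.Golay
open scoped Pointwise

theorem basis_isOct : ∀ j < 12, isOct (basisMask j) = true := by decide +kernel

/-- The group of the length-24 code coincides with the automorphism group of its octad system. -/
theorem result : Cfsg.M24 = Cfsg.setSystemAut Cfsg.octads := by
  apply le_antisymm
  · intro g hg
    show g ∈ MulAction.stabilizer (Equiv.Perm GolayPt) octads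
    rw [MulAction.mem_stabilizer_set_iff_smul_set_subset octads_finite]
    rintro _ ⟨o, ho, rfl⟩
    exact smul_mem_octads hg ho
  · intro g hg
    have hg' : g • octads = octads := hg
    apply mem_M24_of_basis
    intro j
    have ho : bitSet (basisMask j) ∈ octads := isOct_mem (basis_isOct j j.2)
    have h1 : g • bitSet (basisMask j) ∈ octads := by
      rw [← hg']; exact Set.smul_mem_smul_set ho
    obtain ⟨w, hw, hsupp⟩ := h1.1
    have : permWord g (bvec j) = w := by
      apply support₂_injective
      rw [support_permWord, hsupp]
      unfold bvec
      rw [support_wordOf]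
    rw [this]; exact hw

end Cfsg.Agent.S0369
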