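import Cfsg.Statements.S0389
-- import your own Cfsg.Agent.* helpers here
import Cfsg.Agent.Lib.Helper3.Golay.Dodecad3

set_option autoImplicit false
open scoped Pointwise
open Cfsg

namespace Cfsg.Agent.S0389

open scoped Pointwise
open Cfsg.Agent.Lib.Helper3.Golay

/-- The stabiliser of a dodecad and a point on it is 3-transitive on the complementary dodecad. -/
theorem result (d : Finset Cfsg.GolayPt) (hd : d ∈ Cfsg.dodecads) (p : Cfsg.GolayPt) (hp : p ∈ d) (x y : Fin 3 ↪ Cfsg.GolayPt) (hx : ∀ i, x i ∉ d) (hy : ∀ i, y i ∉ d) : ∃ g ∈ MulAction.stabilizer Cfsg.M24 d ⊓ MulAction.stabilizer Cfsg.M24 p, ∀ i, (g : Equiv.Perm Cfsg.GolayPt) (x i) = y i := by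
  set X : ℕ → GolayPt := fun i => if h : i < 3 then x ⟨i, h⟩ else none with hX
  set Y : ℕ → GolayPt := fun i => if h : i < 3 then y ⟨i, h⟩ else none with hY
  have hXd : ∀ i < 3, X i ∉ d := by
    intro i hi; simp only [hX, hi, dif_pos]; exact hx _
  have hYd : ∀ i < 3, Y i ∉ d := by
    intro i hi; simp only [hY, hi, dif_pos]; exact hy _
  have hXinj : ∀ i < 3, ∀ j < 3, X i = X j → i = j := by
    intro i hi j hj h
    simp only [hX, hi, hj, dif_pos] at h
    simpa using x.injective h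
  have hYinj : ∀ i < 3, ∀ j < 3, Y i = Y j → i = j := by
    intro i hi j hj h
    simp only [hY, hi, hj, dif_pos] at h
    simpa using y.injective h
  have hXi : ∀ i : Fin 3, X i.1 = x i := by
    intro i; simp only [hX, i.2, dif_pos, Fin.eta]
  have hYi : ∀ i : Fin 3, Y i.1 = y i := by
    intro i; simp only [hY, i.2, dif_pos, Fin.eta]
  obtain ⟨g, hg, hmap⟩ := stab_dodecad_point_map hd hp X Y 3 le_rfl hXd hYd hXinj hYinj
  refine ⟨⟨g, hg.1.1⟩, Subgroup.mem_inf.mpr ⟨hg.1.2, hg.2⟩, fun i => ?_⟩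
  have := hmap i.1 i.2
  rw [hXi, hYi] at this
  exact this

end Cfsg.Agent.S0389
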