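import Cfsg.Statements.S0412
import Cfsg.Agent.S0407
import Cfsg.Agent.S0363
import Cfsg.Agent.S0364
import Cfsg.Agent.S0365
import Cfsg.Agent.S0366
import Cfsg.Agent.S0369
import Cfsg.Agent.Lib.Helper10.StAut

set_option autoImplicit false
open Cfsg

namespace Cfsg.Agent.S0412
open Cfsg.Agent.Lib.Helper28.SteinerDerived Cfsg.Agent.Lib.Helper10.StCert

theorem card_golayPt : Fintype.card Cfsg.GolayPt = 24 := by decide

theorem transOn_octads : TransOn 5 Cfsg.octads := by
  intro x y
  have h := Cfsg.Agent.S0366.result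
  obtain ⟨g, hg⟩ := h.exists_smul_eq x y
  refine ⟨g.1, ?_, fun i => ?_⟩
  · rw [← Cfsg.Agent.S0369.result]; exact g.2
  · have := DFunLike.congr_fun hg i
    rw [Function.Embedding.smul_apply] at this
    exact this

/-- Aut of an S(5, 8, 24) is simple of order 244823040 and 5-transitive on points. -/
theorem result {α : Type*} [Fintype α] [DecidableEq α] (hα : Fintype.card α = 24) {B : Set (Finset α)} (hB : Cfsg.IsSteinerSystem 5 8 B) : Cfsg.IsM24 (Cfsg.setSystemAut B) ∧ MulAction.IsMultiplyPretransitive (Cfsg.setSystemAut B) α 5 := by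
  obtain ⟨e, he⟩ := Cfsg.Agent.S0407.result hα card_golayPt hB Cfsg.Agent.S0363.result
  have he' : imgSys e B = Cfsg.octads := he
  have hB' : B = imgSys e.symm Cfsg.octads := by rw [← he', imgSys_symm]
  -- the isomorphism of automorphism groups
  have φ : ↥(Cfsg.setSystemAut B) ≃* ↥Cfsg.M24 := by
    have φ1 := autCongr e B
    rw [he', ← Cfsg.Agent.S0369.result] at φ1
    exact φ1
  refine ⟨⟨?_, ?_⟩, ?_⟩
  · have := Cfsg.Agent.S0365.result
    exact MulEquiv.isSimpleGroup φ
  · rw [Nat.card_congr φ.toEquiv]; exact Cfsg.Agent.S0364.result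
  · have ht : TransOn 5 B := by
      rw [hB']; exact transOn_octads.img e.symm
    refine ⟨fun x y => ?_⟩
    obtain ⟨g, hg, hmap⟩ := ht x y
    refine ⟨⟨g, hg⟩, ?_⟩
    ext i : 1
    rw [Function.Embedding.smul_apply]
    exact hmap i

end Cfsg.Agent.S0412
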