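import Cfsg.Statements.S0427
import Mathlib
import Cfsg.Agent.Lib.Helper2.Steiner22

set_option autoImplicit false
open Cfsg

namespace Cfsg.Agent.S0427

theorem card_set_subtype {α : Type*} {B : Set (Finset α)} (S : Set ↥B) [Fintype S]
    (F : Finset (Finset α)) (hS : ∀ x : ↥B, x ∈ S ↔ (x : Finset α) ∈ F) (hF : ∀ x ∈ F, x ∈ B) :
    Fintype.card S = F.card := by
  rw [← Nat.card_eq_fintype_card, Nat.card_coe_set_eq,
    ← Set.ncard_image_of_injective S Subtype.val_injective]
  have : Subtype.val '' S = (F : Set (Finset α)) := by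
    ext x
    constructor
    · rintro ⟨y, hy, rfl⟩
      exact (hS y).mp hy
    · intro hx
      exact ⟨⟨x, hF x hx⟩, (hS _).mpr hx, rfl⟩
  rw [this, Set.ncard_coe_finset]

theorem adj_iff {α : Type*} {B : Set (Finset α)} (hB : Cfsg.IsSteinerSystem 3 6 B) (v w : ↥B) :
    (Cfsg.blockGraph B).Adj v w ↔ Disjoint (v : Finset α) (w : Finset α) := by
  unfold Cfsg.blockGraph
  rw [SimpleGraph.fromRel_adj]
  constructor
  · rintro ⟨_, h | h⟩
    · exact h
    · exact h.symm
  · intro h
    refine ⟨?_, Or.inl h⟩
    intro hvw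
    rw [hvw] at h
    exact Cfsg.Agent.Lib.Helper2.not_disjoint_self22 hB w.2 h


/-- The block graph (adjacent = disjoint) of an S(3, 6, 22) is strongly regular with parameters (77, 16, 0, 4). -/
theorem result {α : Type*} [Fintype α] (hα : Fintype.card α = 22) {B : Set (Finset α)} (hB : Cfsg.IsSteinerSystem 3 6 B) [Fintype B] [DecidableRel (Cfsg.blockGraph B).Adj] : (Cfsg.blockGraph B).IsSRGWith 77 16 0 4 := by
  classical
  open Cfsg.Agent.Lib.Helper2 in
  refine ⟨?_, ?_, ?_, ?_⟩
  · -- number of vertices
    rw [← Nat.card_eq_fintype_card, Nat.card_coe_set_eq]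
    have : B = ((allBlocks B : Finset (Finset α)) : Set (Finset α)) := by
      ext x
      simp [mem_allBlocks]
    rw [this, Set.ncard_coe_finset]
    exact card_allBlocks22 hα hB
  · -- regularity
    intro v
    rw [← SimpleGraph.card_neighborSet_eq_degree]
    rw [card_set_subtype ((Cfsg.blockGraph B).neighborSet v)
      ((allBlocks B).filter (fun x => Disjoint (v : Finset α) x))]
    · exact card_disjoint22 hα hB v.2
    · intro x
      rw [SimpleGraph.mem_neighborSet, adj_iff hB, Finset.mem_filter, mem_allBlocks]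
      exact ⟨fun h => ⟨x.2, h⟩, fun h => h.2⟩
    · intro x hx
      exact (mem_allBlocks B x).mp (Finset.mem_filter.mp hx).1
  · -- adjacent vertices
    intro v w hvw
    rw [adj_iff hB] at hvw
    rw [card_set_subtype ((Cfsg.blockGraph B).commonNeighbors v w)
      (((allBlocks B).filter (fun x => Disjoint (v : Finset α) x)).filter
        (fun x => Disjoint (w : Finset α) x))]
    · rw [card_disjoint_both22 hα hB v.2 w.2 (fun h => by
        rw [h] at hvw; exact not_disjoint_self22 hB w.2 hvw), if_pos hvw]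
    · intro x
      rw [SimpleGraph.mem_commonNeighbors, adj_iff hB, adj_iff hB, Finset.mem_filter,
        Finset.mem_filter, mem_allBlocks]
      exact ⟨fun h => ⟨⟨x.2, h.1⟩, h.2⟩, fun h => ⟨h.1.2, h.2⟩⟩
    · intro x hx
      exact (mem_allBlocks B x).mp (Finset.mem_filter.mp (Finset.mem_filter.mp hx).1).1
  · -- non-adjacent vertices
    intro v w hne hvw
    rw [adj_iff hB] at hvw
    rw [card_set_subtype ((Cfsg.blockGraph B).commonNeighbors v w)
      (((allBlocks B).filter (fun x => Disjoint (v : Finset α) x)).filter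
        (fun x => Disjoint (w : Finset α) x))]
    · rw [card_disjoint_both22 hα hB v.2 w.2 (fun h => hne (Subtype.ext h)), if_neg hvw]
    · intro x
      rw [SimpleGraph.mem_commonNeighbors, adj_iff hB, adj_iff hB, Finset.mem_filter,
        Finset.mem_filter, mem_allBlocks]
      exact ⟨fun h => ⟨⟨x.2, h.1⟩, h.2⟩, fun h => ⟨h.1.2, h.2⟩⟩
    · intro x hx
      exact (mem_allBlocks B x).mp (Finset.mem_filter.mp (Finset.mem_filter.mp hx).1).1

end Cfsg.Agent.S0427
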