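import Cfsg.Statements.S0434
import Cfsg.Agent.Lib.Helper24.M11ThreeC
import Cfsg.Agent.Lib.Helper5.M11H

set_option autoImplicit false
open Cfsg

namespace Cfsg.Agent.S0434

/-- Sylow 3-normalisers in a simple group of order 7920 have order 144 (so there are 55 Sylow 3-subgroups). -/
theorem result {G : Type*} [Group G] [Finite G] (hG : Cfsg.IsM11 G) (P : Sylow 3 G) : Nat.card (Subgroup.normalizer ((P : Subgroup G) : Set G)) = 144 := by
  have : IsSimpleGroup G := hG.1
  have hord : Nat.card G = 7920 := hG.2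
  apply Cfsg.Agent.Lib.Helper24.M11Three.card_normalizer_eq hord P
    (Cfsg.Agent.Lib.Helper5.M11.card_sylow3 hord P)
    (Cfsg.Agent.Lib.Helper5.M11.sylow3_pow_three hord P)
    (Cfsg.Agent.Lib.Helper5.M11.card_normalizer_sylow3 hord P)
  intro z hz
  obtain ⟨s, -, hs⟩ := Cfsg.Agent.Lib.Helper5.M11.exists_invol_inverting_order_three hord z hz
  exact isConj_iff.mpr ⟨s, hs⟩

end Cfsg.Agent.S0434
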