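import Cfsg.Statements.S0436
-- import your own Cfsg.Agent.* helpers here
import Cfsg.Agent.Lib.Helper3.Invol

set_option autoImplicit false
open Cfsg

namespace Cfsg.Agent.S0436

/-- For distinct commuting members a, b of a set of 3-transpositions E, a member e of E centralises the product a * b if and only if it centralises both a and b. -/
theorem result {G : Type*} [Group G] {E : Set G} (hE : Cfsg.IsThreeTranspositionSet E) {a b e : G} (ha : a ∈ E) (hb : b ∈ E) (he : e ∈ E) (hab : a ≠ b) (hcomm : Commute a b) : Commute e (a * b) ↔ (Commute e a ∧ Commute e b) := by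
  constructor
  swap
  · rintro ⟨h1, h2⟩
    exact h1.mul_right h2
  intro h
  have haa := Cfsg.Agent.Lib.Helper3.sq_of_order (hE.1 a ha)
  have hbb := Cfsg.Agent.Lib.Helper3.sq_of_order (hE.1 b hb)
  have hee := Cfsg.Agent.Lib.Helper3.sq_of_order (hE.1 e he)
  by_cases hea : Commute e a
  · refine ⟨hea, ?_⟩
    have : b = a * (a * b) := by rw [← mul_assoc, haa, one_mul]
    rw [this]
    exact hea.mul_right h
  exfalso
  have heb : ¬ Commute e b := by
    intro heb
    apply hea
    have : a = (a * b) * b := by rw [mul_assoc, hbb, mul_one]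
    rw [this]
    exact h.mul_right heb
  have h3a : (e * a) ^ 3 = 1 := by
    rcases hE.2 e he a ha with h2 | h3
    · exact absurd (Cfsg.Agent.Lib.Helper3.comm_of_sq hee haa h2) hea
    · exact h3
  have h3b : (e * b) ^ 3 = 1 := by
    rcases hE.2 e he b hb with h2 | h3
    · exact absurd (Cfsg.Agent.Lib.Helper3.comm_of_sq hee hbb h2) heb
    · exact h3
  have ba := Cfsg.Agent.Lib.Helper3.braid_of_cube hee haa h3a  -- e a e = a e a
  have bb := Cfsg.Agent.Lib.Helper3.braid_of_cube hee hbb h3b  -- e b e = b e b
  -- e commutes with ab : e a b = a b e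
  have hc : e * (a * b) = a * b * e := h
  -- a e a = b e b
  have key : a * e * a = b * e * b := by
    have : a * e * a = a * (e * (a * b)) * b := by
      simp [mul_assoc, hbb]
    rw [this, hc]
    simp [mul_assoc]
    rw [← mul_assoc a a, haa, one_mul]
  apply hab
  have : e * a * e = e * b * e := by rw [ba, bb, key]
  exact mul_left_cancel (mul_right_cancel this)

end Cfsg.Agent.S0436
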