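import Cfsg.Statements.S0437
-- import your own Cfsg.Agent.* helpers here
import Cfsg.Agent.Lib.Helper3.Invol
import Cfsg.Agent.S0436

set_option autoImplicit false
open Cfsg

namespace Cfsg.Agent.S0437

open Cfsg.Agent.Lib.Helper3

/-- For three distinct, pairwise commuting members a, b, c of a set of 3-transpositions E, a member e of E centralises a * b * c if and only if it centralises each of a, b and c. -/
theorem result {G : Type*} [Group G] {E : Set G} (hE : Cfsg.IsThreeTranspositionSet E) {a b c e : G} (ha : a ∈ E) (hb : b ∈ E) (hc : c ∈ E) (he : e ∈ E) (hab : a ≠ b) (hac : a ≠ c) (hbc : b ≠ c) (h₁ : Commute a b) (h₂ : Commute a c) (h₃ : Commute b c) : Commute e (a * b * c) ↔ (Commute e a ∧ Commute e b ∧ Commute e c) := by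
  constructor
  swap
  · rintro ⟨h1, h2, h3⟩
    exact (h1.mul_right h2).mul_right h3
  intro h
  have haa := sq_of_order (hE.1 a ha)
  have hbb := sq_of_order (hE.1 b hb)
  have hcc := sq_of_order (hE.1 c hc)
  have hee := sq_of_order (hE.1 e he)
  have hab' : a * b = b * a := h₁
  have hac' : a * c = c * a := h₂
  have hbc' : b * c = c * b := h₃
  by_cases hea : Commute e a
  · -- e commutes with b*c
    have hbc2 : Commute e (b * c) := by
      have : b * c = a * (a * b * c) := by
        rw [mul_assoc a b c, ← mul_assoc a a, haa, one_mul]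
      rw [this]
      exact hea.mul_right h
    have := (Cfsg.Agent.S0436.result hE hb hc he hbc h₃).mp hbc2
    exact ⟨hea, this.1, this.2⟩
  by_cases heb : Commute e b
  · have hac2 : Commute e (a * c) := by
      have : a * c = b * (a * b * c) := by
        rw [hab', mul_assoc b a c, ← mul_assoc b b, hbb, one_mul]
      rw [this]
      exact heb.mul_right h
    have := (Cfsg.Agent.S0436.result hE ha hc he hac h₂).mp hac2
    exact ⟨this.1, heb, this.2⟩
  by_cases hec : Commute e c
  · have hab2 : Commute e (a * b) := by
      have : a * b = (a * b * c) * c := by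
        rw [mul_assoc (a * b), hcc, mul_one]
      rw [this]
      exact h.mul_right hec
    have := (Cfsg.Agent.S0436.result hE ha hb he hab h₁).mp hab2
    exact ⟨this.1, this.2, hec⟩
  exfalso
  have h3 : ∀ x ∈ E, x * x = 1 → ¬ Commute e x → e * x * e = x * e * x := by
    intro x hx hxx hnc
    rcases hE.2 e he x hx with h2 | h3
    · exact absurd (comm_of_sq hee hxx h2) hnc
    · exact braid_of_cube hee hxx h3
  have ba := h3 a ha haa hea
  have bb := h3 b hb hbb heb
  have bc := h3 c hc hcc hec
  have hz : e * (a * b * c) = a * b * c * e := h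
  have haa' : ∀ x, a * (a * x) = x := fun x => by rw [← mul_assoc, haa, one_mul]
  have hbb' : ∀ x, b * (b * x) = x := fun x => by rw [← mul_assoc, hbb, one_mul]
  have hcc' : ∀ x, c * (c * x) = x := fun x => by rw [← mul_assoc, hcc, one_mul]
  have hee' : ∀ x, e * (e * x) = x := fun x => by rw [← mul_assoc, hee, one_mul]
  have hbc'' : ∀ x, b * (c * x) = c * (b * x) := fun x => by rw [← mul_assoc, hbc', mul_assoc]
  -- a e a = b c e c b
  have k1 : a * e * a = b * (c * e * c) * b := by
    calc a * e * a = a * (e * (a * b * c)) * (c * b) := by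
            simp only [mul_assoc, hcc', hbb', hbb, hcc, mul_one]
      _ = a * (a * b * c * e) * (c * b) := by rw [hz]
      _ = b * (c * e * c) * b := by
            simp only [mul_assoc, haa']
  -- a e a = (e b e) c (e b e)
  have k2 : a * e * a = (e * b * e) * c * (e * b * e) := by
    rw [k1, ← bc, bb]
    -- b * (e * c * e) * b = b e b * c * b e b
    simp only [mul_assoc, hbc'', hbb']
  -- e a e = e b e c e b e  → a = b e c e b
  have k3 : a = b * (e * c * e) * b := by
    have : e * a * e = e * (b * (e * c * e) * b) * e := by
      rw [ba, k2]; simp only [mul_assoc]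
    exact mul_left_cancel (mul_right_cancel this)
  -- a = c (e b e) c
  have k4 : a = c * (e * b * e) * c := by
    rw [k3, bc, bb]
    simp only [mul_assoc, hbc'']
    rw [hbc']
  -- a = c a c = e b e
  have k5 : a = e * b * e := by
    have : c * a * c = a := by rw [← hac', mul_assoc, hcc, mul_one]
    rw [← this]
    conv_lhs => rw [k4]
    simp only [mul_assoc, hcc', hcc, mul_one]
  have k6 : a = e := by
    have : b * a * b = a := by rw [← hab', mul_assoc, hbb, mul_one]
    rw [← this]
    conv_lhs => rw [k5, bb]
    simp only [mul_assoc, hbb', hbb, mul_one]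
  apply hea
  rw [k6]

end Cfsg.Agent.S0437
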