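import Cfsg.Statements.S0438
-- import your own Cfsg.Agent.* helpers here
import Cfsg.Agent.Lib.Helper3.Invol

set_option autoImplicit false
open Cfsg

namespace Cfsg.Agent.S0438

open Cfsg.Agent.Lib.Helper3

/-- Let E be a set of 3-transpositions closed under conjugation, and x an involutory automorphism of the group mapping E to itself. If some a in E fails to commute with its image x a, then x fixes an element of E. -/
theorem result {G : Type*} [Group G] {E : Set G} (hE : Cfsg.IsThreeTranspositionSet E) (hconj : ∀ g : G, ∀ d ∈ E, g * d * g⁻¹ ∈ E) (x : G ≃* G) (hx : ∀ g : G, x (x g) = g) (hxE : ∀ d ∈ E, x d ∈ E) {a : G} (ha : a ∈ E) (h : ¬ Commute a (x a)) : ∃ d ∈ E, x d = d := by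
  have haa := sq_of_order (hE.1 a ha)
  have hxa : x a ∈ E := hxE a ha
  have hxx := sq_of_order (hE.1 (x a) hxa)
  have h3 : (a * x a) ^ 3 = 1 := by
    rcases hE.2 a ha (x a) hxa with h2 | h3
    · exact absurd (comm_of_sq haa hxx h2) h
    · exact h3
  have br := braid_of_cube haa hxx h3
  refine ⟨a * x a * a⁻¹, hconj a (x a) hxa, ?_⟩
  rw [inv_of_sq haa, map_mul, map_mul, hx, br]

end Cfsg.Agent.S0438
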