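import Cfsg.Statements.S0439
-- import your own Cfsg.Agent.* helpers here

set_option autoImplicit false
open Cfsg

namespace Cfsg.Agent.S0439

theorem swap_mul_swap_pow {α : Type*} [Fintype α] [DecidableEq α] {a b c d : α} (hab : a ≠ b) (hcd : c ≠ d) :
    (Equiv.swap a b * Equiv.swap c d) ^ 2 = 1 ∨ (Equiv.swap a b * Equiv.swap c d) ^ 3 = 1 := by
  have three : ∀ {x y z : α}, x ≠ y → x ≠ z → y ≠ z → (Equiv.swap x y * Equiv.swap x z) ^ 3 = 1 := by
    intro x y z h1 h2 h3
    have := (Equiv.Perm.isThreeCycle_swap_mul_swap_same h1 h2 h3).orderOf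
    rw [← this]; exact pow_orderOf_eq_one _
  by_cases hac : a = c
  · subst hac
    by_cases hbd : b = d
    · subst hbd
      left; rw [Equiv.swap_mul_self, one_pow]
    · right; exact three hab hcd hbd
  by_cases had : a = d
  · subst had
    by_cases hbc : b = c
    · subst hbc
      left; rw [Equiv.swap_comm b a, Equiv.swap_mul_self, one_pow]
    · right; rw [Equiv.swap_comm c a]; exact three hab (Ne.symm hcd) hbc
  by_cases hbc : b = c
  · subst hbc
    right; rw [Equiv.swap_comm a b]; exact three (Ne.symm hab) hcd had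
  by_cases hbd : b = d
  · subst hbd
    right; rw [Equiv.swap_comm a b, Equiv.swap_comm c b]; exact three (Ne.symm hab) (Ne.symm hcd) hac
  left
  have hdis : (Equiv.swap a b).Disjoint (Equiv.swap c d) := by
    apply Equiv.Perm.disjoint_swap_swap
    simp [hab, hac, had, hbc, hbd, hcd]
  have hc := hdis.commute
  rw [hc.mul_pow, pow_two, pow_two, Equiv.swap_mul_self, Equiv.swap_mul_self, one_mul]

/-- In the symmetric group of degree n ≥ 2, the set of transpositions is a conjugacy class of 3-transpositions which generates the group. -/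
theorem result (n : ℕ) (hn : 2 ≤ n) : Cfsg.IsThreeTranspositionClass {σ : Equiv.Perm (Fin n) | σ.IsSwap} := by
  refine ⟨⟨?_, ?_⟩, ?_, ?_⟩
  · intro d hd
    exact hd.orderOf
  · rintro d ⟨a, b, hab, rfl⟩ e ⟨c, d', hcd, rfl⟩
    exact swap_mul_swap_pow hab hcd
  · have h01 : (⟨0, by omega⟩ : Fin n) ≠ ⟨1, by omega⟩ := by
      intro h; simp [Fin.ext_iff] at h
    refine ⟨Equiv.swap ⟨0, by omega⟩ ⟨1, by omega⟩, ⟨_, _, h01, rfl⟩, ?_⟩
    ext σ
    show _ ↔ IsConj _ _
    rw [Equiv.Perm.isConj_iff_cycleType_eq, Set.mem_ofPred_eq,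
      Equiv.Perm.isSwap_iff_cycleType]
    have : (Equiv.swap (⟨0, by omega⟩ : Fin n) ⟨1, by omega⟩).cycleType = {2} :=
      Equiv.Perm.isSwap_iff_cycleType.mp ⟨_, _, h01, rfl⟩
    rw [this]
    exact eq_comm
  · exact Equiv.Perm.closure_isSwap

end Cfsg.Agent.S0439
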