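import Cfsg.Statements.S0440
import Mathlib
import Cfsg.Agent.Lib.Helper5.SympGen2

set_option autoImplicit false
open Cfsg
open Cfsg.Agent.Lib.Helper5 Matrix

namespace Cfsg.Agent.S0440

variable {n : ℕ}

local notation "K" => ZMod 2
local notation "V" => (Fin n ⊕ Fin n → ZMod 2)
local notation "Sp" => Matrix.symplecticGroup (Fin n) (ZMod 2)

/-- the symplectic transvection with centre `v` -/
def tv (v : V) : Sp := ⟨Cfsg.sympTransvection n v 1, sympTransvection_mem n v 1⟩

lemma tv_mulVec (v x : V) :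
    ((tv v : Sp) : Matrix (Fin n ⊕ Fin n) (Fin n ⊕ Fin n) K) *ᵥ x
      = x + (Cfsg.sympForm n K x v) • v := by
  change Cfsg.sympTransvection n v 1 *ᵥ x = _
  rw [sympTransvection_mulVec, one_mul]

lemma sp_ext {A B : Sp}
    (h : ∀ x : V, (A : Matrix (Fin n ⊕ Fin n) (Fin n ⊕ Fin n) K) *ᵥ x
      = (B : Matrix (Fin n ⊕ Fin n) (Fin n ⊕ Fin n) K) *ᵥ x) : A = B := by
  apply Subtype.ext
  apply Matrix.toLin'.injective
  apply LinearMap.ext
  intro x
  rw [Matrix.toLin'_apply, Matrix.toLin'_apply]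
  exact h x

lemma coe_mul_mulVec (A B : Sp) (x : V) :
    ((A * B : Sp) : Matrix (Fin n ⊕ Fin n) (Fin n ⊕ Fin n) K) *ᵥ x
      = (A : Matrix (Fin n ⊕ Fin n) (Fin n ⊕ Fin n) K) *ᵥ
        ((B : Matrix (Fin n ⊕ Fin n) (Fin n ⊕ Fin n) K) *ᵥ x) := by
  rw [Matrix.mulVec_mulVec]
  rfl

lemma coe_one_mulVec (x : V) :
    ((1 : Sp) : Matrix (Fin n ⊕ Fin n) (Fin n ⊕ Fin n) K) *ᵥ x = x := by
  change (1 : Matrix (Fin n ⊕ Fin n) (Fin n ⊕ Fin n) K) *ᵥ x = x
  rw [Matrix.one_mulVec]

lemma conj_tv (g : Sp) (v : V) :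
    g * tv v * g⁻¹ = tv ((g : Matrix (Fin n ⊕ Fin n) (Fin n ⊕ Fin n) K) *ᵥ v) := by
  apply sp_ext
  intro x
  rw [coe_mul_mulVec, coe_mul_mulVec, tv_mulVec, tv_mulVec, Matrix.mulVec_add,
    Matrix.mulVec_smul, coe_inv_mulVec_cancel]
  congr 2
  have := sympForm_mulVec_of_mem (m := n) g.2
    (((g⁻¹ : Sp) : Matrix (Fin n ⊕ Fin n) (Fin n ⊕ Fin n) K) *ᵥ x) v
  rw [coe_inv_mulVec_cancel] at this
  exact this.symm

lemma two_cases (c : K) : c = 0 ∨ c = 1 := by
  fin_cases c
  · left; rfl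
  · right; rfl

lemma tv_mul_self (v : V) : tv v * tv v = 1 := by
  apply Subtype.ext
  change Cfsg.sympTransvection n v 1 * Cfsg.sympTransvection n v 1 = 1
  rw [sympTransvection_mul]
  have : (1 : K) + 1 = 0 := by decide
  rw [this]
  unfold Cfsg.sympTransvection
  rw [zero_smul, add_zero]

lemma tv_inv (v : V) : (tv v)⁻¹ = tv v :=
  inv_eq_of_mul_eq_one_right (tv_mul_self v)

lemma tv_zero : tv (0 : V) = 1 := by
  apply sp_ext
  intro x
  rw [tv_mulVec, smul_zero, add_zero, coe_one_mulVec]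

lemma tv_ne_one {v : V} (hv : v ≠ 0) : tv v ≠ 1 := by
  intro h
  obtain ⟨a, ha⟩ := sympForm_nondeg (m := n) v hv
  have h1 := tv_mulVec v a
  rw [h, coe_one_mulVec] at h1
  have h2 : (Cfsg.sympForm n K a v) • v = 0 := by
    have := h1
    nth_rewrite 1 [← add_zero a] at this
    exact (add_left_cancel this).symm
  rw [smul_eq_zero] at h2
  rcases h2 with h2 | h2
  · apply ha
    rw [sympForm_swap, h2, neg_zero]
  · exact hv h2

lemma orderOf_tv {v : V} (hv : v ≠ 0) : orderOf (tv v) = 2 := by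
  apply orderOf_eq_prime
  · rw [pow_two, tv_mul_self]
  · exact tv_ne_one hv

lemma tv_comm {u v : V} (h : Cfsg.sympForm n K v u = 0) : tv u * tv v = tv v * tv u := by
  have h1 := conj_tv (tv u) v
  rw [tv_mulVec, h, zero_smul, add_zero, tv_inv] at h1
  calc tv u * tv v = tv u * tv v * (tv u * tv u) := by rw [tv_mul_self, mul_one]
    _ = (tv u * tv v * tv u) * tv u := by group
    _ = tv v * tv u := by rw [h1]

lemma tv_braid {u v : V} (h : Cfsg.sympForm n K v u = 1) :
    tv u * tv v * tv u = tv (u + v) ∧ tv v * tv u * tv v = tv (u + v) := by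
  have h' : Cfsg.sympForm n K u v = 1 := by
    rw [sympForm_swap, h]; decide
  constructor
  · have h1 := conj_tv (tv u) v
    rw [tv_mulVec, h, one_smul, tv_inv, add_comm] at h1
    exact h1
  · have h1 := conj_tv (tv v) u
    rw [tv_mulVec, h', one_smul, tv_inv] at h1
    exact h1

lemma tv_three (u v : V) : (tv u * tv v) ^ 2 = 1 ∨ (tv u * tv v) ^ 3 = 1 := by
  rcases two_cases (Cfsg.sympForm n K v u) with h | h
  · left
    rw [pow_two]
    calc tv u * tv v * (tv u * tv v) = tv u * (tv v * tv u) * tv v := by group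
      _ = tv u * (tv u * tv v) * tv v := by rw [tv_comm h]
      _ = (tv u * tv u) * (tv v * tv v) := by group
      _ = 1 := by rw [tv_mul_self, tv_mul_self, one_mul]
  · right
    obtain ⟨h1, h2⟩ := tv_braid h
    calc (tv u * tv v) ^ 3 = (tv u * tv v * tv u) * (tv v * tv u * tv v) := by
          simp only [pow_succ, pow_zero, one_mul, mul_assoc]
      _ = 1 := by rw [h1, h2, tv_mul_self]

lemma rank_tv_sub_one {v : V} (hv : v ≠ 0) :
    (((tv v : Sp) : Matrix (Fin n ⊕ Fin n) (Fin n ⊕ Fin n) K) - 1).rank = 1 := by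
  have hmv : ∀ x : V, (((tv v : Sp) : Matrix (Fin n ⊕ Fin n) (Fin n ⊕ Fin n) K) - 1) *ᵥ x
      = (Cfsg.sympForm n K x v) • v := by
    intro x
    rw [Matrix.sub_mulVec, tv_mulVec, Matrix.one_mulVec, add_sub_cancel_left]
  obtain ⟨a, ha⟩ := sympForm_nondeg (m := n) v hv
  have ha' : Cfsg.sympForm n K a v = 1 := by
    rcases two_cases (Cfsg.sympForm n K a v) with h | h
    · exfalso; apply ha; rw [sympForm_swap, h, neg_zero]
    · exact h
  unfold Matrix.rank
  rw [finrank_eq_one_iff']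
  refine ⟨⟨v, ⟨a, ?_⟩⟩, ?_, ?_⟩
  · rw [Matrix.mulVecLin_apply, hmv, ha', one_smul]
  · intro h
    apply hv
    exact congrArg Subtype.val h
  · rintro ⟨w, x, rfl⟩
    refine ⟨Cfsg.sympForm n K x v, ?_⟩
    apply Subtype.ext
    change Cfsg.sympForm n K x v • v = (((tv v : Sp) : Matrix (Fin n ⊕ Fin n) (Fin n ⊕ Fin n) K) - 1).mulVecLin x
    rw [Matrix.mulVecLin_apply, hmv]

lemma exists_tv_of_rank {g : Sp}
    (hg : ((g : Matrix (Fin n ⊕ Fin n) (Fin n ⊕ Fin n) K) - 1).rank = 1) :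
    ∃ v : V, v ≠ 0 ∧ g = tv v := by
  unfold Matrix.rank at hg
  rw [finrank_eq_one_iff'] at hg
  obtain ⟨⟨a, x₀, hx₀⟩, ha0, hspan⟩ := hg
  have ha : a ≠ 0 := by
    intro h
    apply ha0
    apply Subtype.ext
    exact h
  -- every `(g - 1) x` is a multiple of `a`
  have hφ : ∀ x : V, ∃ c : K, (g : Matrix (Fin n ⊕ Fin n) (Fin n ⊕ Fin n) K) *ᵥ x = x + c • a := by
    intro x
    obtain ⟨c, hc⟩ := hspan ⟨_, ⟨x, rfl⟩⟩
    refine ⟨c, ?_⟩
    have := congrArg Subtype.val hc
    simp only [Matrix.mulVecLin_apply, Matrix.sub_mulVec, Matrix.one_mulVec] at this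
    change c • a = _ at this
    rw [this]
    abel
  choose φ hφ using hφ
  have hpres : ∀ x y : V, φ y * Cfsg.sympForm n K x a = φ x * Cfsg.sympForm n K y a := by
    intro x y
    have h := sympForm_mulVec_of_mem (m := n) g.2 x y
    rw [hφ x, hφ y, sympForm_add_left, sympForm_add_right, sympForm_add_right,
      sympForm_smul_left, sympForm_smul_left, sympForm_smul_right, sympForm_smul_right,
      sympForm_self, mul_zero, mul_zero, add_zero, sympForm_swap n a y] at h
    have h2 : φ y * Cfsg.sympForm n K x a + φ x * -Cfsg.sympForm n K y a = 0 := by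
      have := h
      nth_rewrite 2 [← add_zero (Cfsg.sympForm n K x y)] at this
      rw [add_assoc] at this
      exact add_left_cancel this
    rw [mul_neg, ← sub_eq_add_neg, sub_eq_zero] at h2
    exact h2
  -- φ x₀ = 1
  have hx₀' : φ x₀ = 1 := by
    rcases two_cases (φ x₀) with h | h
    · exfalso
      apply ha
      have h1 := hφ x₀
      rw [h, zero_smul, add_zero] at h1
      rw [Matrix.mulVecLin_apply, Matrix.sub_mulVec, Matrix.one_mulVec, h1, sub_self] at hx₀
      exact hx₀.symm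
    · exact h
  obtain ⟨y₀, hy₀⟩ := sympForm_nondeg (m := n) a ha
  have hy₀' : Cfsg.sympForm n K y₀ a ≠ 0 := by
    intro h; apply hy₀; rw [sympForm_swap, h, neg_zero]
  have hfx₀ : Cfsg.sympForm n K x₀ a = 1 := by
    rcases two_cases (Cfsg.sympForm n K x₀ a) with h | h
    · exfalso
      have := hpres x₀ y₀
      rw [h, mul_zero, hx₀', one_mul] at this
      exact hy₀' this.symm
    · exact h
  have hφeq : ∀ y : V, φ y = Cfsg.sympForm n K y a := by
    intro y
    have := hpres x₀ y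
    rw [hfx₀, mul_one, hx₀', one_mul] at this
    exact this
  refine ⟨a, ha, ?_⟩
  apply sp_ext
  intro x
  rw [hφ x, tv_mulVec, hφeq]

/-- In the symplectic group in dimension 2n ≥ 2 over the field with two elements, the elements g for which g - 1 has rank one (the symplectic transvections) form a conjugacy class of 3-transpositions generating the group. -/
theorem result (n : ℕ) (hn : 1 ≤ n) : Cfsg.IsThreeTranspositionClass {g : Matrix.symplecticGroup (Fin n) (ZMod 2) | ((g : Matrix (Fin n ⊕ Fin n) (Fin n ⊕ Fin n) (ZMod 2)) - 1).rank = 1} := by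
  have hD : ∀ g : Matrix.symplecticGroup (Fin n) (ZMod 2),
      g ∈ {g : Matrix.symplecticGroup (Fin n) (ZMod 2) |
        ((g : Matrix (Fin n ⊕ Fin n) (Fin n ⊕ Fin n) (ZMod 2)) - 1).rank = 1} ↔
      ∃ v : Fin n ⊕ Fin n → ZMod 2, v ≠ 0 ∧ g = tv v := by
    intro g
    constructor
    · intro hg
      exact exists_tv_of_rank hg
    · rintro ⟨v, hv, rfl⟩
      exact rank_tv_sub_one hv
  refine ⟨⟨?_, ?_⟩, ?_, ?_⟩
  · intro d hd
    obtain ⟨v, hv, rfl⟩ := (hD d).1 hd
    exact orderOf_tv hv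
  · intro d hd e he
    obtain ⟨u, _, rfl⟩ := (hD d).1 hd
    obtain ⟨v, _, rfl⟩ := (hD e).1 he
    exact tv_three u v
  · let v₀ : Fin n ⊕ Fin n → ZMod 2 := Pi.single (Sum.inl ⟨0, hn⟩) 1
    have hv₀ : v₀ ≠ 0 := by
      intro h
      have := congrFun h (Sum.inl ⟨0, hn⟩)
      simp [v₀] at this
    refine ⟨tv v₀, (hD _).2 ⟨v₀, hv₀, rfl⟩, ?_⟩
    ext g
    rw [hD]
    change _ ↔ IsConj (tv v₀) g
    rw [isConj_iff]
    constructor
    · rintro ⟨v, hv, rfl⟩
      obtain ⟨A, _, hA⟩ := transv_trans1 v₀ v hv₀ hv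
      exact ⟨A, by rw [conj_tv, hA]⟩
    · rintro ⟨c, rfl⟩
      refine ⟨(c : Matrix (Fin n ⊕ Fin n) (Fin n ⊕ Fin n) (ZMod 2)) *ᵥ v₀, ?_, conj_tv c v₀⟩
      intro h
      apply hv₀
      have := congrArg (fun z => ((c⁻¹ : Matrix.symplecticGroup (Fin n) (ZMod 2)) :
        Matrix (Fin n ⊕ Fin n) (Fin n ⊕ Fin n) (ZMod 2)) *ᵥ z) h
      simp only [coe_inv_mulVec_cancel', Matrix.mulVec_zero] at this
      exact this
  · rw [eq_top_iff, ← transvGroup_eq_top]
    unfold transvGroup
    rw [Subgroup.closure_le]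
    rintro A ⟨w, c, hA⟩
    by_cases hw : w = 0
    · have : A = 1 := by
        apply Subtype.ext
        rw [hA, hw]
        unfold Cfsg.sympTransvection
        simp
      rw [this]
      exact Subgroup.one_mem _
    · rcases two_cases c with rfl | rfl
      · have : A = 1 := by
          apply Subtype.ext
          rw [hA]
          unfold Cfsg.sympTransvection
          simp
        rw [this]
        exact Subgroup.one_mem _
      · apply Subgroup.subset_closure
        rw [hD]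
        exact ⟨w, hw, Subtype.ext hA⟩

end Cfsg.Agent.S0440
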