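import Cfsg.Statements.S0442
-- import your own Cfsg.Agent.* helpers here
import Cfsg.Agent.Lib.Helper3.Invol

set_option autoImplicit false
open Cfsg

namespace Cfsg.Agent.S0442

open Cfsg.Agent.Lib.Helper3

theorem semiconj_left {G : Type*} [Group G] {a c : G} (haa : a * a = 1) (hcc : c * c = 1) :
    SemiconjBy a (a * c) (a * c)⁻¹ := by
  unfold SemiconjBy
  rw [mul_inv_rev, inv_of_sq haa, inv_of_sq hcc, ← mul_assoc, haa, one_mul, mul_assoc, haa, mul_one]

theorem semiconj_right {G : Type*} [Group G] {a c : G} (haa : a * a = 1) (hcc : c * c = 1) :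
    SemiconjBy c (a * c) (a * c)⁻¹ := by
  unfold SemiconjBy
  rw [mul_inv_rev, inv_of_sq haa, inv_of_sq hcc, mul_assoc]

theorem even_case {G : Type*} [Group G] {a c : G} (haa : a * a = 1) (hcc : c * c = 1) (m : ℕ)
    (h : (a * c) ^ (2 * m) = 1) : Commute ((a * c) ^ m) a := by
  have h1 := (semiconj_left haa hcc).pow_right m
  have h2 : ((a * c)⁻¹) ^ m = (a * c) ^ m := by
    rw [inv_pow]
    apply inv_eq_of_mul_eq_one_left
    rw [← pow_add, ← two_mul]; exact h
  rw [h2] at h1
  exact h1.symm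

/-- A standard trick for producing elements of an involution centraliser: for an involution a and an element g, let b be the conjugate g⁻¹ * a * g. If a * b has odd order 2m + 1 then g * (a * b) ^ m commutes with a; if a * b has even order 2m then (a * b) ^ m and (a * (g * a * g⁻¹)) ^ m commute with a. -/
theorem result {G : Type*} [Group G] (a g : G) (ha : orderOf a = 2) : (∀ m : ℕ, orderOf (a * (g⁻¹ * a * g)) = 2 * m + 1 → Commute (g * (a * (g⁻¹ * a * g)) ^ m) a) ∧ (∀ m : ℕ, orderOf (a * (g⁻¹ * a * g)) = 2 * m → Commute ((a * (g⁻¹ * a * g)) ^ m) a ∧ Commute ((a * (g * a * g⁻¹)) ^ m) a) := by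
  have haa := sq_of_order ha
  have hbb : (g⁻¹ * a * g) * (g⁻¹ * a * g) = 1 := by
    have : (g⁻¹ * a * g) * (g⁻¹ * a * g) = g⁻¹ * (a * a) * g := by group
    rw [this, haa]; group
  have hcc : (g * a * g⁻¹) * (g * a * g⁻¹) = 1 := by
    have : (g * a * g⁻¹) * (g * a * g⁻¹) = g * (a * a) * g⁻¹ := by group
    rw [this, haa]; group
  constructor
  · intro m hm
    set b := g⁻¹ * a * g with hb
    set u := a * b with hu
    have hpow : u ^ (2 * m + 1) = 1 := by rw [← hm]; exact pow_orderOf_eq_one u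
    have hsc := (semiconj_right haa hbb).pow_right m
    -- b * u^m = (u⁻¹)^m * b
    have hub : u * b = a := by rw [hu, mul_assoc, hbb, mul_one]
    have hu2 : u = (u⁻¹) ^ m * (u⁻¹) ^ m := by
      rw [← pow_add, ← two_mul, inv_pow]
      apply eq_inv_of_mul_eq_one_left
      rw [← pow_succ']; exact hpow
    have e1 : a = (u⁻¹) ^ m * (b * u ^ m) := by
      rw [hsc.eq, ← mul_assoc, ← hu2, hub]
    unfold Commute SemiconjBy
    have e2 : g * u ^ m * a = g * b * u ^ m := by
      conv_lhs => rw [e1]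
      rw [inv_pow]
      simp only [mul_assoc]
      rw [mul_inv_cancel_left]
    rw [e2, hb]
    group
  · intro m hm
    have hpow : (a * (g⁻¹ * a * g)) ^ (2 * m) = 1 := by rw [← hm]; exact pow_orderOf_eq_one _
    refine ⟨even_case haa hbb m hpow, even_case haa hcc m ?_⟩
    have hv : (a * (g * a * g⁻¹))⁻¹ = g * (a * (g⁻¹ * a * g)) * g⁻¹ := by
      rw [mul_inv_rev, inv_of_sq haa, inv_of_sq hcc]; group
    have : ((a * (g * a * g⁻¹))⁻¹) ^ (2 * m) = 1 := by
      rw [hv, conj_pow, hpow]; group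
    rw [inv_pow, inv_eq_one] at this
    exact this

end Cfsg.Agent.S0442
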