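import Cfsg.Statements.S0443
-- import your own Cfsg.Agent.* helpers here

set_option autoImplicit false
open Cfsg

namespace Cfsg.Agent.S0443

/-- Two definitions of a 2-central involution agree: an element t of order 2 of a finite group lies in the centre of some Sylow 2-subgroup if and only if its centraliser contains some Sylow 2-subgroup. -/
theorem result {G : Type*} [Group G] [Finite G] (t : G) (ht : orderOf t = 2) : Cfsg.IsTwoCentralInvolution t ↔ ∃ P : Sylow 2 G, (P : Subgroup G) ≤ Subgroup.centralizer ({t} : Set G) := by
  have : Fact (Nat.Prime 2) := ⟨Nat.prime_two⟩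
  constructor
  · rintro ⟨-, P, htP, hP⟩
    refine ⟨P, fun x hx => ?_⟩
    rw [Subgroup.mem_centralizer_iff]
    intro h hh
    rw [Set.mem_singleton_iff] at hh
    subst hh
    exact (hP x hx).symm
  · rintro ⟨P, hP⟩
    refine ⟨ht, P, ?_, ?_⟩
    · have hz : IsPGroup 2 (Subgroup.zpowers t) := by
        rw [IsPGroup.iff_card]
        refine ⟨1, ?_⟩
        rw [Nat.card_zpowers, ht, pow_one]
      have hnorm : Subgroup.zpowers t ≤ Subgroup.normalizer ((P : Subgroup G) : Set G) := by
        rw [Subgroup.zpowers_le]
        rw [Subgroup.mem_normalizer_iff]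
        intro x
        constructor
        · intro hx
          have := hP hx
          rw [Subgroup.mem_centralizer_iff] at this
          have h2 := this t rfl
          rw [h2, mul_inv_cancel_right]
          exact hx
        · intro hx
          have := hP hx
          rw [Subgroup.mem_centralizer_iff] at this
          have h2 := this t rfl
          have : x = t⁻¹ * (t * x * t⁻¹) * t := by group
          rw [this]
          have h3 : t⁻¹ * (t * x * t⁻¹) * t = t * x * t⁻¹ := by
            have h4 := Subgroup.mem_centralizer_iff.mp (hP hx) t rfl
            calc t⁻¹ * (t * x * t⁻¹) * t = t⁻¹ * ((t * x * t⁻¹) * t) := by group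
              _ = t⁻¹ * (t * (t * x * t⁻¹)) := by rw [h4]
              _ = t * x * t⁻¹ := by group
          rw [h3]; exact hx
      have hsup : IsPGroup 2 (Subgroup.zpowers t ⊔ (P : Subgroup G) : Subgroup G) :=
        IsPGroup.to_sup_of_normal_right' hz P.isPGroup' hnorm
      have := P.is_maximal' hsup le_sup_right
      have h1 : t ∈ (Subgroup.zpowers t ⊔ (P : Subgroup G) : Subgroup G) :=
        (le_sup_left : Subgroup.zpowers t ≤ _) (Subgroup.mem_zpowers t)
      rw [this] at h1
      exact h1
    · intro x hx
      have := hP hx
      rw [Subgroup.mem_centralizer_iff] at this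
      exact (this t rfl).symm

end Cfsg.Agent.S0443
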