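import Cfsg.Statements.S0444
-- import your own Cfsg.Agent.* helpers here
import Cfsg.Agent.Lib.Helper3.Invol
import Cfsg.Agent.Lib.Helper3.Dihedral

set_option autoImplicit false
open Cfsg

namespace Cfsg.Agent.S0444

open Cfsg.Agent.Lib.Helper3 in

/-- Two members of a set of 3-transpositions which do not commute generate a subgroup isomorphic to the symmetric group on three letters. -/
theorem result {G : Type*} [Group G] {E : Set G} (hE : Cfsg.IsThreeTranspositionSet E) {d e : G} (hd : d ∈ E) (he : e ∈ E) (h : ¬ Commute d e) : Nonempty (Subgroup.closure ({d, e} : Set G) ≃* Equiv.Perm (Fin 3)) := by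
  have hdd := sq_of_order (hE.1 d hd)
  have hee := sq_of_order (hE.1 e he)
  have h3 : (d * e) ^ 3 = 1 := by
    rcases hE.2 d hd e he with h2 | h3
    · exact absurd (comm_of_sq hdd hee h2) h
    · exact h3
  have hsx : d * (d * e) * d = (d * e)⁻¹ := by
    rw [mul_inv_rev, inv_of_sq hdd, inv_of_sq hee, ← mul_assoc, hdd, one_mul]
  have hne : d * e ≠ 1 := by
    intro h1
    apply h
    have : d = e⁻¹ := eq_inv_of_mul_eq_one_left h1
    rw [this, inv_of_sq hee]
  have : Fact (Nat.Prime 3) := ⟨Nat.prime_three⟩
  have hord : orderOf (d * e) = 3 := orderOf_eq_prime h3 hne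
  have hnot : d ∉ Subgroup.zpowers (d * e) := by
    rintro ⟨k, hk⟩
    simp only at hk
    apply h
    have hc : Commute d (d * e) := by
      have : Commute ((d * e) ^ k) (d * e) := (Commute.refl _).zpow_left k
      rw [hk] at this
      exact this
    have h1 : d * (d * e) = d * e * d := hc
    rw [← mul_assoc, hdd, one_mul] at h1
    -- e = d e d
    unfold Commute SemiconjBy
    conv_rhs => rw [h1]
    rw [mul_assoc (d * e), hdd, mul_one]
  let f := dihLift (d * e) d h3 hdd hsx
  have hinj : Function.Injective f := dihLift_injective _ _ h3 hdd hsx hord hnot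
  have hrange : f.range = Subgroup.closure {d, e} := by
    rw [dihLift_range]
    apply le_antisymm
    · rw [Subgroup.closure_le]
      rintro y (rfl | rfl)
      · exact Subgroup.mul_mem _ (Subgroup.subset_closure (by simp)) (Subgroup.subset_closure (by simp))
      · exact Subgroup.subset_closure (by simp)
    · rw [Subgroup.closure_le]
      rintro y (rfl | rfl)
      · exact Subgroup.subset_closure (by simp)
      · have hy : y = d * (d * y) := by rw [← mul_assoc, hdd, one_mul]
        have h5 : d * (d * y) ∈ Subgroup.closure ({d * y, d} : Set G) :=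
          Subgroup.mul_mem _ (Subgroup.subset_closure (Set.mem_insert_of_mem _ rfl))
            (Subgroup.subset_closure (Set.mem_insert _ _))
        rw [← hy] at h5
        exact h5
  exact ⟨((MulEquiv.subgroupCongr hrange).symm.trans (MonoidHom.ofInjective hinj).symm).trans d3Equiv⟩

end Cfsg.Agent.S0444
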