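import Cfsg.Statements.S0447
import Mathlib
import Cfsg.Agent.Lib.Helper2.DblCovD
import Cfsg.Agent.Lib.Helper2.DblCovE

set_option autoImplicit false
open Cfsg

namespace Cfsg.Agent.S0447

open Subgroup Cfsg.Agent.Lib.Helper2.DblCov Cfsg.Agent.Lib.Helper2.SpinAlt in
theorem part_one (n : ℕ) (H : Type) [Group H] [Finite H] (hn : n ≤ 7)
    (hH : Cfsg.IsNonsplitDoubleCover H (alternatingGroup (Fin n))) (x : H) (hx : orderOf x = 2) :
    x ∈ Subgroup.center H ∧ x ≠ 1 := by
  obtain ⟨hc2, ⟨e⟩, hns⟩ := hH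
  -- a generator of the centre
  have hnt : Nontrivial (Subgroup.center H) := by
    rw [← Finite.one_lt_card_iff_nontrivial, hc2]; norm_num
  obtain ⟨⟨z, hzc⟩, hz1⟩ := exists_ne (1 : Subgroup.center H)
  have hz1' : z ≠ 1 := fun h => hz1 (Subtype.ext h)
  have hz2 : orderOf z = 2 := by
    have h1 : orderOf (⟨z, hzc⟩ : Subgroup.center H) ∣ 2 := by
      rw [← hc2]; exact orderOf_dvd_natCard _
    have h2 : orderOf (⟨z, hzc⟩ : Subgroup.center H) = orderOf z :=
      Subgroup.orderOf_mk z hzc
    rw [h2] at h1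
    rcases (Nat.dvd_prime Nat.prime_two).mp h1 with h | h
    · exact absurd (orderOf_eq_one_iff.mp h) hz1'
    · exact h
  have hzp : Subgroup.zpowers z = Subgroup.center H := by
    apply Subgroup.eq_of_le_of_card_ge
    · rw [Subgroup.zpowers_le]; exact hzc
    · rw [hc2, Nat.card_zpowers, hz2]
  let π : H →* alternatingGroup (Fin n) :=
    e.toMonoidHom.comp (QuotientGroup.mk' (Subgroup.center H))
  have hπ : Function.Surjective π :=
    e.surjective.comp (QuotientGroup.mk'_surjective _)
  have hker : π.ker = Subgroup.zpowers z := by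
    rw [hzp]
    ext g
    rw [MonoidHom.mem_ker]
    show e (QuotientGroup.mk' (Subgroup.center H) g) = 1 ↔ _
    rw [MulEquiv.map_eq_one_iff, QuotientGroup.mk'_apply, QuotientGroup.eq_one_iff]
  have hns' : ∀ L : Subgroup H, ¬ (Subgroup.zpowers z).IsComplement' L := by
    intro L; rw [hzp]; exact hns L
  have := eq_z_of_involution π hπ z hz2 hker hzc hn hns' x hx
  rw [this]
  exact ⟨hzc, hz1'⟩

/-- Involutions in double covers of alternating groups: for n ≤ 7, a finite non-split double cover of the alternating group of degree n has exactly one element of order 2 (the central one); for degree 8 there is a non-split double cover with two distinct involutions. -/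
theorem result : (∀ (n : ℕ) (H : Type) (_ : Group H) (_ : Finite H), n ≤ 7 → Cfsg.IsNonsplitDoubleCover H (alternatingGroup (Fin n)) → ∀ x y : H, orderOf x = 2 → orderOf y = 2 → x = y) ∧ ∃ (H : Type) (_ : Group H) (_ : Finite H), Cfsg.IsNonsplitDoubleCover H (alternatingGroup (Fin 8)) ∧ ∃ x y : H, x ≠ y ∧ orderOf x = 2 ∧ orderOf y = 2 := by
  constructor
  · intro n H _ _ hn hH x y hx hy
    obtain ⟨hxc, hx1⟩ := part_one n H hn hH x hx
    obtain ⟨hyc, hy1⟩ := part_one n H hn hH y hy
    -- the centre has exactly two elements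
    have hc2 := hH.1
    by_contra hxy
    have h3 : 3 ≤ Nat.card (Subgroup.center H) := by
      have hinj : Function.Injective (fun i : Fin 3 =>
          (![⟨1, Subgroup.one_mem _⟩, ⟨x, hxc⟩, ⟨y, hyc⟩] i : Subgroup.center H)) := by
        intro i j hij
        fin_cases i <;> fin_cases j <;> simp_all [Subtype.ext_iff]
      have := Nat.card_le_card_of_injective _ hinj
      simpa using this
    omega
  · refine ⟨Cfsg.Agent.Lib.Helper2.SpinAlt.Gam 8, inferInstance,
      Cfsg.Agent.Lib.Helper2.SpinAlt.finite_Gam (by norm_num),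
      Cfsg.Agent.Lib.Helper2.DblCov.gam_nonsplit (by norm_num),
      Cfsg.Agent.Lib.Helper2.DblCov.tt, Cfsg.Agent.Lib.Helper2.SpinAlt.zc (by norm_num),
      Cfsg.Agent.Lib.Helper2.DblCov.tt_ne_zc, Cfsg.Agent.Lib.Helper2.DblCov.orderOf_tt,
      Cfsg.Agent.Lib.Helper2.SpinAlt.orderOf_zc _⟩

end Cfsg.Agent.S0447
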