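import Cfsg.Statements.S0459
-- import your own Cfsg.Agent.* helpers here
import Cfsg.Agent.Lib.Helper3.TCX.RuPSimple
import Cfsg.Agent.Lib.Helper28.StabLib

set_option autoImplicit false
open Cfsg

namespace Cfsg.Agent.S0459

open Cfsg.Agent.Lib.Helper3.TCX Cfsg.Agent.Lib.Helper28.TC2Lower

/-- a simple group with a homomorphism that is not trivial is isomorphic to the image -/
theorem exists_simple_subgroup' {P G : Type*} [Group P] [Group G] (hs : IsSimpleGroup P) (n : ℕ)
    (hc : Nat.card P = n) (a : P →* G) (x : P) (hx : a x ≠ 1) :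
    ∃ K : Subgroup G, IsSimpleGroup K ∧ Nat.card K = n := by
  haveI := hs
  have hinj : Function.Injective a := by
    rw [← MonoidHom.ker_eq_bot_iff]
    rcases (MonoidHom.normal_ker a).eq_bot_or_eq_top with h | h
    · exact h
    · exfalso
      apply hx
      have : x ∈ a.ker := by rw [h]; exact Subgroup.mem_top x
      exact this
  let e : P ≃* a.range := MonoidHom.ofInjective hinj
  refine ⟨a.range, ?_, ?_⟩
  · exact MulEquiv.isSimpleGroup e.symm
  · rw [← hc]
    exact (Nat.card_congr e.toEquiv).symm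

theorem tau_move : RuPTable.table.tau 0 2 ≠ 2 := by decide +kernel

/-- The Rudvalis group exists as a transitive permutation group of degree 4060: simple of order 145926144000, with point stabiliser of order 35942400 containing a simple subgroup of order 17971200 (the order of the Tits group). -/
theorem result : ∃ H : Subgroup (Equiv.Perm (Fin 4060)), Cfsg.IsRu H ∧ MulAction.IsPretransitive H (Fin 4060) ∧ Nat.card (MulAction.stabilizer H (0 : Fin 4060)) = 35942400 ∧ ∃ T : Subgroup (MulAction.stabilizer H (0 : Fin 4060)), Cfsg.IsTits T := by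
  obtain ⟨hsP, hcardP, φ, hinj, hφ, f, hbij, hequiv, h0⟩ := RuPSimple.main
  obtain ⟨k, hk⟩ := RuPSimple.exists_titsHom
  have hpt : ∀ g : RuPSimple.P, f (QuotientGroup.mk g) = φ g 0 := by
    intro g
    have e1 : (QuotientGroup.mk g : RuPSimple.P ⧸ (Subgroup.closure RuPLink.S).map
        (PresentedGroup.mk RuPLink.rels)) = g • (QuotientGroup.mk 1 : RuPSimple.P ⧸ _) := by
      show _ = (QuotientGroup.mk (g * 1) : _ ⧸ _)
      rw [mul_one]
    rw [e1, hequiv, h0]
  let ψ : RuPSimple.P →* φ.range := φ.rangeRestrict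
  have hψinj : Function.Injective ψ := by
    intro a b hab
    apply hinj
    exact congrArg Subtype.val hab
  have hcardR : Nat.card φ.range = 145926144000 := by
    rw [← hcardP]
    exact (Nat.card_congr (MonoidHom.ofInjective hinj).toEquiv).symm
  have hfinR : Finite φ.range := Nat.finite_of_card_ne_zero (by rw [hcardR]; norm_num)
  have hsimple : IsSimpleGroup φ.range := by
    haveI : IsSimpleGroup RuPSimple.P := hsP
    have : Nontrivial φ.range := Finite.one_lt_card_iff_nontrivial.mp (by rw [hcardR]; norm_num)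
    exact IsSimpleGroup.isSimpleGroup_of_surjective ψ φ.rangeRestrict_surjective
  have htrans0 : ∀ p : Fin 4060, ∃ g : φ.range, g • (0 : Fin 4060) = p := by
    intro p
    obtain ⟨q, rfl⟩ := hbij.2 p
    induction q using QuotientGroup.induction_on with
    | H g => exact ⟨ψ g, (hpt g).symm⟩
  have hpre : MulAction.IsPretransitive φ.range (Fin 4060) := by
    refine ⟨fun x y => ?_⟩
    obtain ⟨gx, hx⟩ := htrans0 x
    obtain ⟨gy, hy⟩ := htrans0 y
    refine ⟨gy * gx⁻¹, ?_⟩
    rw [← hx, mul_smul, inv_smul_smul, hy]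
  have hcardSt : Nat.card (MulAction.stabilizer φ.range (0 : Fin 4060)) = 35942400 := by
    have h1 := Cfsg.Agent.Lib.Helper28.StabLib.card_orbit_mul_card_stabilizer (G := φ.range) (0 : Fin 4060)
    rw [MulAction.orbit_eq_univ, hcardR, Nat.card_congr (Equiv.Set.univ _), Nat.card_fin] at h1
    omega
  refine ⟨φ.range, ⟨hsimple, hcardR⟩, hpre, hcardSt, ?_⟩
  -- the Tits group in the stabiliser
  have hfix : ∀ g ∈ (Subgroup.closure RuPLink.S).map (PresentedGroup.mk RuPLink.rels), φ g 0 = 0 := by
    intro g hg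
    rw [← hpt g, ← h0]
    congr 1
    rw [QuotientGroup.eq]
    exact Subgroup.mul_mem _ (Subgroup.inv_mem _ hg) (Subgroup.one_mem _)
  have hkmem : ∀ x : RuKSimple.P, k x ∈ (Subgroup.closure RuPLink.S).map (PresentedGroup.mk RuPLink.rels) := by
    intro x
    have hle : k.range ≤ (Subgroup.closure RuPLink.S).map (PresentedGroup.mk RuPLink.rels) := by
      rw [MonoidHom.range_eq_map, ← PresentedGroup.closure_range_of, MonoidHom.map_closure, Subgroup.closure_le]
      rintro _ ⟨_, ⟨y, rfl⟩, rfl⟩
      rw [hk]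
      refine ⟨FreeGroup.of (RuKDef.up y), Subgroup.subset_closure ?_, rfl⟩
      cases y <;> simp [RuPLink.S, RuKDef.up]
    exact hle ⟨x, rfl⟩
  let τ : RuKSimple.P →* MulAction.stabilizer φ.range (0 : Fin 4060) :=
    MonoidHom.codRestrict (ψ.comp k) (MulAction.stabilizer φ.range (0 : Fin 4060)) (by
      intro x
      rw [MulAction.mem_stabilizer_iff]
      exact hfix _ (hkmem x))
  have hx : τ (PresentedGroup.of RuKDef.Gen.a) ≠ 1 := by
    intro h
    have h1 : (τ (PresentedGroup.of RuKDef.Gen.a)).1.1 = 1 := by rw [h]; rfl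
    have h2 : φ (k (PresentedGroup.of RuKDef.Gen.a)) = 1 := h1
    rw [hk, hφ] at h2
    have h3 := Table.sigma_apply RuPMain.hT (l := RuPLink.lw (RuKDef.up RuKDef.Gen.a, true)) (by decide) ⟨2, by decide⟩
    rw [h2] at h3
    exact tau_move h3.symm
  obtain ⟨K, hK1, hK2⟩ := exists_simple_subgroup' RuKSimple.main.1 17971200 RuKSimple.main.2 τ _ hx
  exact ⟨K, hK1, hK2⟩

end Cfsg.Agent.S0459
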