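import Cfsg.Statements.S0460
-- import your own Cfsg.Agent.* helpers here
import Cfsg.Agent.S1699
import Cfsg.Agent.Lib.Helper3.TCX.OnJSimple
import Cfsg.Agent.Lib.Helper3.TCX.OnMSimple
import Cfsg.Agent.Lib.Helper3.TCX.OnJChk
import Cfsg.Agent.Lib.Helper3.TCX.OnMChk

set_option autoImplicit false
open Cfsg

namespace Cfsg.Agent.S0460

open Cfsg.Agent.Lib.Helper3.TCX Cfsg.Agent.Lib.Helper3.TCX.OnHom Cfsg.Agent.Lib.Helper3.TCX.OnHomData

/-- a simple group with a homomorphism that is not trivial is isomorphic to the image -/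
theorem exists_simple_subgroup {P G : Type*} [Group P] [Group G] (hs : IsSimpleGroup P) (n : ℕ)
    (hc : Nat.card P = n) (a : P →* G) (x : P) (hx : a x ≠ 1) :
    ∃ K : Subgroup G, IsSimpleGroup K ∧ Nat.card K = n := by
  haveI := hs
  have hinj : Function.Injective a := by
    rw [← MonoidHom.ker_eq_bot_iff]
    rcases (MonoidHom.normal_ker a).eq_bot_or_eq_top with h | h
    · exact h
    · exfalso
      apply hx
      have : x ∈ a.ker := by rw [h]; exact Subgroup.mem_top x
      exact this
  let e : P ≃* a.range := MonoidHom.ofInjective hinj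
  refine ⟨a.range, ?_, ?_⟩
  · exact MulEquiv.isSimpleGroup e.symm
  · rw [← hc]
    exact (Nat.card_congr e.toEquiv).symm

/-- the facts on the permutation representation of the O'Nan group, on `Fin 122760` -/
theorem on_rep : ∃ φ : OnHom.ON →* Equiv.Perm (Fin 122760), Function.Injective φ ∧
    Nat.card φ.range = 460815505920 ∧
    ∃ f : OnHom.ON ⧸ (Subgroup.closure Cfsg.Agent.Lib.Helper28.TCONLink.S).map
        (PresentedGroup.mk Cfsg.Agent.Lib.Helper28.TCONLink.rels) → Fin 122760,
      Function.Bijective f ∧ (∀ g q, f (g • q) = φ g (f q)) ∧ (f (QuotientGroup.mk 1)).val = 0 := by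
  obtain ⟨f, hbij, hequiv, h0⟩ := OnHom.phi_coset
  exact ⟨OnHom.phi, OnHom.phi_injective.1, OnHom.card_range, f, hbij, hequiv, by rw [h0]⟩

/-- The O'Nan group exists as a transitive permutation group of degree 122760: simple of order 460815505920, point stabiliser of order 3753792, and containing simple subgroups of orders 175560 and 7920. -/
theorem result : ∃ H : Subgroup (Equiv.Perm (Fin 122760)), Cfsg.IsON H ∧ MulAction.IsPretransitive H (Fin 122760) ∧ Nat.card (MulAction.stabilizer H (0 : Fin 122760)) = 3753792 ∧ (∃ K : Subgroup H, Cfsg.IsJ1 K) ∧ (∃ K : Subgroup H, Cfsg.IsM11 K) := by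
  obtain ⟨φ, hinj, hcardR, f, hbij, hequiv, h0⟩ := on_rep
  have hON : Cfsg.IsON Cfsg.Spor.ON := Cfsg.Agent.S1699.result
  have hpt : ∀ g : OnHom.ON, f (QuotientGroup.mk g) = φ g 0 := by
    intro g
    have e1 : (QuotientGroup.mk g : OnHom.ON ⧸ (Subgroup.closure Cfsg.Agent.Lib.Helper28.TCONLink.S).map
        (PresentedGroup.mk Cfsg.Agent.Lib.Helper28.TCONLink.rels)) = g • (QuotientGroup.mk 1 : OnHom.ON ⧸ _) := by
      show _ = (QuotientGroup.mk (g * 1) : _ ⧸ _)
      rw [mul_one]
    have e0 : f (QuotientGroup.mk 1) = 0 := Fin.ext h0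
    rw [e1, hequiv, e0]
  let ψ : OnHom.ON →* φ.range := φ.rangeRestrict
  have hψinj : Function.Injective ψ := by
    intro a b hab
    apply hinj
    exact congrArg Subtype.val hab
  have hfinR : Finite φ.range := Nat.finite_of_card_ne_zero (by rw [hcardR]; norm_num)
  have hsimple : IsSimpleGroup φ.range := by
    haveI : IsSimpleGroup OnHom.ON := hON.1
    have : Nontrivial φ.range := Finite.one_lt_card_iff_nontrivial.mp (by rw [hcardR]; norm_num)
    exact IsSimpleGroup.isSimpleGroup_of_surjective ψ φ.rangeRestrict_surjective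
  have htrans0 : ∀ p : Fin 122760, ∃ g : φ.range, g • (0 : Fin 122760) = p := by
    intro p
    obtain ⟨q, rfl⟩ := hbij.2 p
    induction q using QuotientGroup.induction_on with
    | H g => exact ⟨ψ g, (hpt g).symm⟩
  have hpre : MulAction.IsPretransitive φ.range (Fin 122760) := by
    refine ⟨fun x y => ?_⟩
    obtain ⟨gx, hx⟩ := htrans0 x
    obtain ⟨gy, hy⟩ := htrans0 y
    refine ⟨gy * gx⁻¹, ?_⟩
    rw [← hx, mul_smul, inv_smul_smul, hy]
  have hcardSt : Nat.card (MulAction.stabilizer φ.range (0 : Fin 122760)) = 3753792 := by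
    have h1 := Cfsg.Agent.Lib.Helper28.StabLib.card_orbit_mul_card_stabilizer (G := φ.range) (0 : Fin 122760)
    rw [MulAction.orbit_eq_univ, hcardR, Nat.card_congr (Equiv.Set.univ _), Nat.card_fin] at h1
    omega
  refine ⟨φ.range, ⟨hsimple, hcardR⟩, hpre, hcardSt, ?_, ?_⟩
  · obtain ⟨a, ha⟩ := OnHom.exists_hom OnJLink.rels OnJLink.relWords OnJLink.link.hrels jw OnJChk.chk
    have hx : (ψ.comp a) (PresentedGroup.of OnJDef.Gen.b) ≠ 1 := by
      intro h
      have h1 : ψ (a (PresentedGroup.of OnJDef.Gen.b)) = ψ 1 := by rw [map_one]; exact h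
      have h2 := hψinj h1
      rw [ha] at h2
      refine OnHom.ne_one_of_move (jw .b) 0 (by decide) ?_ h2
      intro h3
      have := OnJChk.move
      rw [h3] at this
      exact absurd this (by decide)
    obtain ⟨K, hK1, hK2⟩ := exists_simple_subgroup OnJSimple.main.1 175560 OnJSimple.main.2 (ψ.comp a) _ hx
    exact ⟨K, hK1, hK2⟩
  · obtain ⟨a, ha⟩ := OnHom.exists_hom OnMLink.rels OnMLink.relWords OnMLink.link.hrels mw OnMChk.chk
    have hx : (ψ.comp a) (PresentedGroup.of OnMDef.Gen.a) ≠ 1 := by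
      intro h
      have h1 : ψ (a (PresentedGroup.of OnMDef.Gen.a)) = ψ 1 := by rw [map_one]; exact h
      have h2 := hψinj h1
      rw [ha] at h2
      refine OnHom.ne_one_of_move (mw .a) 0 (by decide) ?_ h2
      intro h3
      have := OnMChk.move
      rw [h3] at this
      exact absurd this (by decide)
    obtain ⟨K, hK1, hK2⟩ := exists_simple_subgroup OnMSimple.main.1 7920 OnMSimple.main.2 (ψ.comp a) _ hx
    exact ⟨K, hK1, hK2⟩

end Cfsg.Agent.S0460
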