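import Cfsg.Statements.S0462
-- import your own Cfsg.Agent.* helpers here
import Cfsg.Agent.S1695
import Cfsg.Agent.Lib.Helper3.TCX.SpHe

set_option autoImplicit false
open Cfsg

namespace Cfsg.Agent.S0462

open Cfsg.Agent.Lib.Helper3.TCX Cfsg.Agent.Lib.Helper3.TCX.SpHe

/-- The Held group exists as a transitive permutation group of degree 2058: simple of order 4030387200, with point stabiliser containing, with index 2, a copy of the 4-dimensional symplectic group over the field with four elements. -/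
theorem result : ∃ H : Subgroup (Equiv.Perm (Fin 2058)), Cfsg.IsHe H ∧ MulAction.IsPretransitive H (Fin 2058) ∧ ∃ (F : Type) (_ : Field F) (_ : Fintype F), Fintype.card F = 4 ∧ ∃ N : Subgroup (MulAction.stabilizer H (0 : Fin 2058)), N.index = 2 ∧ Nonempty (N ≃* Matrix.symplecticGroup (Fin 2) F) := by
  obtain ⟨φ, hinj, ⟨f, hbij, hequiv, h0⟩, hcard, N', hle, hcN, ⟨e⟩⟩ := SpHe.core
  have hHe : Cfsg.IsHe SpHe.He := Cfsg.Agent.S1695.result
  have hfinHe : Finite SpHe.He := Nat.finite_of_card_ne_zero (by rw [hcard]; norm_num)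
  -- points as images of the base point
  have hpt : ∀ g : SpHe.He, f (QuotientGroup.mk g) = φ g 0 := by
    intro g
    have e1 : (QuotientGroup.mk g : SpHe.He ⧸ SpHe.H) = g • (QuotientGroup.mk 1 : SpHe.He ⧸ SpHe.H) := by
      show _ = (QuotientGroup.mk (g * 1) : _ ⧸ _)
      rw [mul_one]
    rw [e1, hequiv, h0]
  have hmemH : ∀ g : SpHe.He, g ∈ SpHe.H → φ g 0 = 0 := by
    intro g hg
    rw [← hpt, ← h0]
    congr 1
    rw [QuotientGroup.eq, mul_one]
    exact SpHe.H.inv_mem hg
  let ψ : SpHe.He →* φ.range := φ.rangeRestrict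
  have hψinj : Function.Injective ψ := by
    intro a b hab
    apply hinj
    exact congrArg Subtype.val hab
  have hψ : ∀ g : SpHe.He, ((ψ g : φ.range) : Equiv.Perm (Fin 2058)) = φ g := fun g => rfl
  have hsimple : IsSimpleGroup φ.range := by
    haveI := hHe.1
    have : Nontrivial φ.range := by
      have h1 : Nat.card φ.range = 4030387200 := by
        rw [← hcard]
        exact (Nat.card_congr (MonoidHom.ofInjective hinj).toEquiv).symm
      have hfin : Finite φ.range := Nat.finite_of_card_ne_zero (by rw [h1]; norm_num)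
      exact Finite.one_lt_card_iff_nontrivial.mp (by rw [h1]; norm_num)
    exact IsSimpleGroup.isSimpleGroup_of_surjective ψ φ.rangeRestrict_surjective
  have hcardR : Nat.card φ.range = 4030387200 := by
    rw [← hcard]
    exact (Nat.card_congr (MonoidHom.ofInjective hinj).toEquiv).symm
  have htrans0 : ∀ p : Fin 2058, ∃ g : φ.range, g • (0 : Fin 2058) = p := by
    intro p
    obtain ⟨q, rfl⟩ := hbij.2 p
    induction q using QuotientGroup.induction_on with
    | H g => exact ⟨ψ g, (hpt g).symm⟩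
  have hpre : MulAction.IsPretransitive φ.range (Fin 2058) := by
    refine ⟨fun x y => ?_⟩
    obtain ⟨gx, hx⟩ := htrans0 x
    obtain ⟨gy, hy⟩ := htrans0 y
    refine ⟨gy * gx⁻¹, ?_⟩
    rw [← hx, mul_smul, inv_smul_smul, hy]
  refine ⟨φ.range, ⟨hsimple, hcardR⟩, hpre, SpMat.F4, inferInstance, inferInstance, SpMat.card_F4, ?_⟩
  -- the stabiliser
  have hfinR : Finite φ.range := Nat.finite_of_card_ne_zero (by rw [hcardR]; norm_num)
  have hcardSt : Nat.card (MulAction.stabilizer φ.range (0 : Fin 2058)) = 1958400 := by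
    have h1 := Cfsg.Agent.Lib.Helper28.StabLib.card_orbit_mul_card_stabilizer (G := φ.range) (0 : Fin 2058)
    rw [MulAction.orbit_eq_univ, hcardR, Nat.card_congr (Equiv.Set.univ _), Nat.card_fin] at h1
    omega
  have hA : N'.map ψ ≤ MulAction.stabilizer φ.range (0 : Fin 2058) := by
    rintro _ ⟨g, hg, rfl⟩
    rw [MulAction.mem_stabilizer_iff]
    exact hmemH g (hle hg)
  have e1 : ((N'.map ψ).subgroupOf (MulAction.stabilizer φ.range (0 : Fin 2058))) ≃* N'.map ψ :=
    Subgroup.subgroupOfEquivOfLe hA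
  have e2 : N' ≃* N'.map ψ := N'.equivMapOfInjective ψ hψinj
  have hcN2 : Nat.card ((N'.map ψ).subgroupOf (MulAction.stabilizer φ.range (0 : Fin 2058))) = 979200 := by
    rw [Nat.card_congr e1.toEquiv, ← Nat.card_congr e2.toEquiv, hcN]
  refine ⟨(N'.map ψ).subgroupOf (MulAction.stabilizer φ.range (0 : Fin 2058)), ?_, ⟨(e1.trans e2.symm).trans e⟩⟩
  have := ((N'.map ψ).subgroupOf (MulAction.stabilizer φ.range (0 : Fin 2058))).card_mul_index
  rw [hcN2, hcardSt] at this
  omega

end Cfsg.Agent.S0462
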