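import Cfsg.Statements.S1701
import Cfsg.Agent.Lib.Helper3.HN.Stab
import Cfsg.Agent.Lib.Helper3.HNM.Max
import Cfsg.Agent.Lib.Helper21.HNGlue.Final
import Cfsg.Agent.Lib.Helper21.HNTrans
import Cfsg.Agent.Lib.Helper16.HSM.HSMain
import Cfsg.Agent.Lib.Helper16.HNP.Main

set_option autoImplicit false
open Cfsg

namespace Cfsg.Agent.S1701

/-- The presented Harada–Norton group is simple of the expected order (that is, it is a simple group of the order of the Harada–Norton group). -/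
theorem result : Cfsg.IsHN Cfsg.Spor.HN := by
  exact Cfsg.Agent.Lib.Helper21.HNGlue.isHN_of Cfsg.Agent.Lib.Helper16.HSM.HSMain.schur_HS
    Cfsg.Agent.Lib.Helper16.HNP.Main.x_sq_ne_one
    (Cfsg.Agent.Lib.Helper3.HN.Index.index_N Cfsg.Agent.Lib.Helper21.HNTrans.trans)
    Cfsg.Agent.Lib.Helper3.HNM.Max.isCoatom_N Cfsg.Agent.Lib.Helper3.HN.Stab.core_free

end Cfsg.Agent.S1701
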