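-- Statement S0463 (row 463): the Harada–Norton group as a transitive permutation group of degree 1140000 with
-- point stabiliser `A₁₂`.
-- Assembly (helper21): the presented group `Spor.HN` is simple of the right order (S1701); ten explicit words satisfy
-- Moore's relations for `A₁₂` (`Helper21.HNA12.exists_A12`: 55 relators checked with the solution of the word
-- problem in helper16's permutation representation; Moore's presentation of `Aₙ` is helper25's), so `HN` has a
-- subgroup `A ≅ A₁₂`, of index `1140000`; the action on its cosets (`exists_coset_rep`).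
import Cfsg.Statements.S0463
import Cfsg.Agent.S1701
import Cfsg.Agent.Lib.Helper21.HNA12.Moore
import Cfsg.Agent.Lib.Helper21.HNA12.CosetRep

set_option autoImplicit false
set_option linter.style.haveILetI false
open Cfsg

namespace Cfsg.Agent.S0463

/-- The Harada–Norton group exists as a transitive permutation group of degree 1140000: simple of order 273030912000000, with point stabiliser isomorphic to the alternating group of degree 12. -/
theorem result : ∃ H : Subgroup (Equiv.Perm (Fin 1140000)), Cfsg.IsHN H ∧ MulAction.IsPretransitive H (Fin 1140000) ∧ Nonempty (MulAction.stabilizer H (0 : Fin 1140000) ≃* alternatingGroup (Fin 12)) := by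
  have hHN : Cfsg.IsHN Cfsg.Spor.HN := Cfsg.Agent.S1701.result
  haveI hsimple : IsSimpleGroup Cfsg.Spor.HN := hHN.1
  haveI hfin : Finite Cfsg.Spor.HN := Nat.finite_of_card_ne_zero (by rw [hHN.2]; norm_num)
  obtain ⟨A, ⟨eA⟩⟩ := Cfsg.Agent.Lib.Helper21.HNA12.exists_A12 Cfsg.Agent.Lib.Helper16.HSM.HSMain.schur_HS
    Cfsg.Agent.Lib.Helper16.HNP.Main.x_sq_ne_one Cfsg.Agent.Lib.Helper16.HNP.Main.walk_xx
  have hcardA : Nat.card A = 239500800 := by
    rw [Nat.card_congr eA.toEquiv, nat_card_alternatingGroup, Nat.card_fin]
    decide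
  have hidx : A.index = 1140000 := by
    have h := A.index_mul_card
    rw [hcardA, hHN.2] at h
    omega
  obtain ⟨H, ⟨eH⟩, hpre, ⟨eS⟩⟩ := Cfsg.Agent.Lib.Helper21.HNA12.exists_coset_rep A 1140000 hidx (by norm_num)
  have hcardH : Nat.card H = 273030912000000 := by
    rw [← hHN.2]
    exact (Nat.card_congr eH.toEquiv).symm
  haveI : Nontrivial H := by
    haveI : Finite H := Nat.finite_of_card_ne_zero (by rw [hcardH]; norm_num)
    exact Finite.one_lt_card_iff_nontrivial.mp (by rw [hcardH]; norm_num)
  have hsH : IsSimpleGroup H := IsSimpleGroup.isSimpleGroup_of_surjective eH.toMonoidHom eH.surjective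
  exact ⟨H, ⟨hsH, hcardH⟩, hpre, ⟨eS.trans eA⟩⟩

end Cfsg.Agent.S0463
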