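import Cfsg.Statements.S1684
import Cfsg.Agent.S1696
import Cfsg.Agent.Lib.Helper28.TC2Transp
import Cfsg.Agent.Lib.Helper28.TC2Simple
import Cfsg.Agent.Lib.Helper28.TCU6Psi
import Cfsg.Agent.Lib.Helper28.TCU6Tower
import Cfsg.Agent.Lib.Helper28.U6Pi

set_option autoImplicit false
set_option maxRecDepth 100000
open Cfsg

namespace Cfsg.Agent.S1684
open Cfsg.Agent.Lib.Helper28.TC2Upper Cfsg.Agent.Lib.Helper28.TC2Lower Cfsg.Agent.Lib.Helper28.TC2Glue Cfsg.Agent.Lib.Helper28.TC2Simple Cfsg.Agent.Lib.Helper28.TC2Tower Cfsg.Agent.Lib.Helper28.TC2Cover Cfsg.Agent.Lib.Helper28.TC2Transp Cfsg.Agent.Lib.Helper28.TC2Subst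
open Cfsg.Agent.Lib.Helper28.TCFi22AW0Table Cfsg.Agent.Lib.Helper28.TCFi22AW0Link Cfsg.Agent.Lib.Helper28.TCFi22AW0Main
open Cfsg.Agent.Lib.Helper28.U6F4 Cfsg.Agent.Lib.Helper28.U6Vec Cfsg.Agent.Lib.Helper28.U6Card Cfsg.Agent.Lib.Helper28.U6Pi

/-- the presented Fi₂₂ -/
abbrev G0 : Type := PresentedGroup rels
/-- the subgroup generated by a, c, …, i and (abcdeh)^5 -/
abbrev H0 : Subgroup G0 := (Subgroup.closure S).map (PresentedGroup.mk rels)
/-- the generators of the presented double cover -/
abbrev GenU : Type := Cfsg.Agent.Lib.Helper28.TCU6W0Def.Gen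

theorem par_edge {β : Type} (v : β → Bool) (x y : β)
    (h : par v [(x, true), (y, true), (x, true), (y, true), (x, true), (y, true)] = false) : v x = v y := by
  simp only [par] at h
  revert h
  cases v x <;> cases v y <;> simp

theorem hperfP : ∀ L : Subgroup PC, L.index ≠ 2 := by
  apply no_index_two_of_parity Cfsg.Agent.Lib.Helper28.TCU6W0Link.rels Cfsg.Agent.Lib.Helper28.TCU6W0Link.relWords
  · intro L hL
    exact (Cfsg.Agent.Lib.Helper28.TCU6W0Link.link.hrels _).mpr ⟨L, hL, rfl⟩
  · intro v hv
    have hcd : v .c = v .d := par_edge v _ _ (hv [(.c, true), (.d, true), (.c, true), (.d, true), (.c, true), (.d, true)] (by decide +kernel))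
    have hde : v .d = v .e := par_edge v _ _ (hv [(.d, true), (.e, true), (.d, true), (.e, true), (.d, true), (.e, true)] (by decide +kernel))
    have hdh : v .d = v .h := par_edge v _ _ (hv [(.d, true), (.h, true), (.d, true), (.h, true), (.d, true), (.h, true)] (by decide +kernel))
    have hef : v .e = v .f := par_edge v _ _ (hv [(.e, true), (.f, true), (.e, true), (.f, true), (.e, true), (.f, true)] (by decide +kernel))
    have hfg : v .f = v .g := par_edge v _ _ (hv [(.f, true), (.g, true), (.f, true), (.g, true), (.f, true), (.g, true)] (by decide +kernel))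
    have hhi : v .h = v .i := par_edge v _ _ (hv [(.h, true), (.i, true), (.h, true), (.i, true), (.h, true), (.i, true)] (by decide +kernel))
    have huf : v .u = v .f := par_edge v _ _ (hv [(.u, true), (.f, true), (.u, true), (.f, true), (.u, true), (.f, true)] (by decide +kernel))
    have ed : v .d = v .c := hcd.symm
    have ee : v .e = v .c := hde.symm.trans ed
    have eh : v .h = v .c := hdh.symm.trans ed
    have ef : v .f = v .c := hef.symm.trans ee
    have eg : v .g = v .c := hfg.symm.trans ef
    have ei : v .i = v .c := hhi.symm.trans eh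
    have eu : v .u = v .c := huf.trans ef
    have e9 := hv [(.c, true), (.d, true), (.e, true), (.f, true), (.g, true), (.h, true), (.i, true), (.c, true), (.d, true), (.e, true), (.f, true), (.g, true), (.h, true), (.i, true), (.c, true), (.d, true), (.e, true), (.f, true), (.g, true), (.h, true), (.i, true), (.c, true), (.d, true), (.e, true), (.f, true), (.g, true), (.h, true), (.i, true), (.c, true), (.d, true), (.e, true), (.f, true), (.g, true), (.h, true), (.i, true), (.c, true), (.d, true), (.e, true), (.f, true), (.g, true), (.h, true), (.i, true), (.c, true), (.d, true), (.e, true), (.f, true), (.g, true), (.h, true), (.i, true), (.c, true), (.d, true), (.e, true), (.f, true), (.g, true), (.h, true), (.i, true), (.c, true), (.d, true), (.e, true), (.f, true), (.g, true), (.h, true), (.i, true)] (by decide +kernel)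
    simp only [par, ed, ee, ef, eg, eh, ei] at e9
    have hc : v .c = false := by
      cases hvc : v .c with
      | false => rfl
      | true => rw [hvc] at e9; exact absurd e9 (by decide)
    have e2 := hv [(.u, true), (.f, true), (.e, true), (.d, true), (.g, true), (.f, true), (.u, true), (.c, true), (.e, true), (.f, true), (.g, true), (.d, true), (.e, true), (.f, true), (.u, true), (.h, true), (.d, true), (.e, true), (.c, true), (.d, true), (.h, true), (.f, true), (.g, true), (.e, true), (.f, true), (.d, true), (.e, true), (.c, true), (.d, true), (.h, true), (.a, true)] (by decide +kernel)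
    simp only [par, ed, ee, ef, eg, eh, ei, eu, hc] at e2
    have ha : v .a = false := by
      cases hva : v .a with
      | false => rfl
      | true => rw [hva] at e2; exact absurd e2 (by decide)
    intro x
    cases x
    · exact ha
    · exact hc
    · exact ed.trans hc
    · exact ee.trans hc
    · exact ef.trans hc
    · exact eg.trans hc
    · exact eh.trans hc
    · exact ei.trans hc
    · exact eu.trans hc

/-- the generator b does not fix the base point -/
theorem hbne : table.walkT (pathOf lw [(.b, true)]) 0 ≠ 0 := by decide +kernel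

/-- In the presented Fischer group Fi₂₂, the subgroup generated by the images of a, c, d, e, f, g, h, i and (abcdeh)^5 is a non-split double cover of PSU(6, 2) (realised over a field with four elements). -/
theorem result : ∃ (K : Type) (_ : Field K) (_ : Fintype K), Fintype.card K = 4 ∧ Cfsg.IsNonsplitDoubleCover (((Subgroup.closure ({Cfsg.Spor.Fi22.a, Cfsg.Spor.Fi22.c, Cfsg.Spor.Fi22.d, Cfsg.Spor.Fi22.e, Cfsg.Spor.Fi22.f, Cfsg.Spor.Fi22.g, Cfsg.Spor.Fi22.h, Cfsg.Spor.Fi22.i, (Cfsg.Spor.Fi22.a * Cfsg.Spor.Fi22.b * Cfsg.Spor.Fi22.c * Cfsg.Spor.Fi22.d * Cfsg.Spor.Fi22.e * Cfsg.Spor.Fi22.h) ^ 5} : Set (FreeGroup Cfsg.Spor.Fi22.Gen))).map (PresentedGroup.mk (Cfsg.Spor.coxRelators Cfsg.Spor.Fi22.edges ∪ {r | r ∈ Cfsg.Spor.Fi22.extra})))) (Cfsg.PSU 6 K 2) := by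
  obtain ⟨hsimp22, hcard22⟩ := Cfsg.Agent.S1696.result
  have hcardG : Nat.card G0 = 64561751654400 := hcard22
  haveI : IsSimpleGroup G0 := hsimp22
  haveI : Finite G0 := Nat.finite_of_card_ne_zero (by rw [hcardG]; norm_num)
  obtain ⟨hidx, φ, hφ, f, hbij, hequiv, h0⟩ := Cfsg.Agent.Lib.Helper28.TCFi22AW0Main.main
  have hidx' : H0.index = 3510 := hidx
  have hcardH : Nat.card H0 = 18393661440 := by
    have := H0.index_mul_card
    rw [hidx', hcardG] at this
    omega
  -- the permutation representation is faithful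
  have hinj : Function.Injective φ := by
    rw [← MonoidHom.ker_eq_bot_iff]
    rcases (inferInstance : φ.ker.Normal).eq_bot_or_eq_top with h | h
    · exact h
    · exfalso
      have hb : (PresentedGroup.mk rels (FreeGroup.mk [(.b, true)]) : G0) ∈ φ.ker := by rw [h]; exact Subgroup.mem_top _
      rw [MonoidHom.mem_ker] at hb
      have h1 := phi_mk_apply link hT φ hφ [(.b, true)] ⟨0, hn⟩
      rw [hb] at h1
      exact hbne h1.symm
  have triv : ∀ L : List (Cfsg.Spor.Fi22.Gen × Bool),
      (∀ p, p < table.n → table.walkT (pathOf lw L) p = p) →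
      PresentedGroup.mk rels (FreeGroup.mk L) = 1 := by
    intro L h
    apply hinj
    rw [map_one]
    exact phi_mk_eq_one link hT φ hφ L h
  -- the homomorphism from the presented double cover
  obtain ⟨ψ, hψ⟩ := exists_hom_of_subst rels Cfsg.Agent.Lib.Helper28.TCU6W0Link.rels Cfsg.Agent.Lib.Helper28.TCU6Psi.sub Cfsg.Agent.Lib.Helper28.TCU6W0Link.relWords
    (fun r hr => (Cfsg.Agent.Lib.Helper28.TCU6W0Link.link.hrels r).mp hr)
    (fun L hL => triv _ (Cfsg.Agent.Lib.Helper28.TCU6Psi.hrel L hL))
  have hrange : ψ.range = H0 := by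
    apply range_of_subst _ _ _ ψ hψ
    · intro s hs
      simp only [S, Set.mem_insert_iff, Set.mem_singleton_iff] at hs
      rcases hs with rfl | rfl | rfl | rfl | rfl | rfl | rfl | rfl | rfl
      exacts [⟨.a, rfl⟩, ⟨.c, rfl⟩, ⟨.d, rfl⟩, ⟨.e, rfl⟩, ⟨.f, rfl⟩, ⟨.g, rfl⟩, ⟨.h, rfl⟩, ⟨.i, rfl⟩, ⟨.u, rfl⟩]
    · intro b
      cases b
      · exact Or.inl rfl
      · exact Or.inr (Or.inl rfl)
      · exact Or.inr (Or.inr (Or.inl rfl))
      · exact Or.inr (Or.inr (Or.inr (Or.inl rfl)))
      · exact Or.inr (Or.inr (Or.inr (Or.inr (Or.inl rfl))))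
      · exact Or.inr (Or.inr (Or.inr (Or.inr (Or.inr (Or.inl rfl)))))
      · exact Or.inr (Or.inr (Or.inr (Or.inr (Or.inr (Or.inr (Or.inl rfl))))))
      · exact Or.inr (Or.inr (Or.inr (Or.inr (Or.inr (Or.inr (Or.inr (Or.inl rfl)))))))
      · exact Or.inr (Or.inr (Or.inr (Or.inr (Or.inr (Or.inr (Or.inr (Or.inr rfl)))))))
  obtain ⟨hfinP, hleP0⟩ := Cfsg.Agent.Lib.Helper28.TCU6Tower.card0
  have hleP : Nat.card PC ≤ 18393661440 := hleP0
  haveI : Finite PC := hfinP
  have hcardR : Nat.card ψ.range = 18393661440 := by rw [hrange]; exact hcardH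
  have h1 : Nat.card ψ.range ≤ Nat.card PC :=
    Nat.card_le_card_of_surjective ψ.rangeRestrict ψ.rangeRestrict_surjective
  have hcardP : Nat.card PC = 18393661440 :=
    le_antisymm hleP (by rw [← hcardR]; exact h1)
  have hinjψ : Function.Injective ψ := by
    have hbij : Function.Bijective ψ.rangeRestrict := by
      rw [Nat.bijective_iff_surjective_and_card]
      exact ⟨ψ.rangeRestrict_surjective, hcardP.trans hcardR.symm⟩
    intro a b hab
    exact hbij.1 (Subtype.ext hab)
  let e : PC ≃* H0 := (MonoidHom.ofInjective hinjψ).trans (MulEquiv.subgroupCongr hrange)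
  -- the homomorphism onto PSU(6, 2)
  obtain ⟨π, hπ0⟩ := exists_pi
  have hπ : Function.Surjective π := pi_surjective π hπ0
  have hker : Nat.card π.ker = 2 := by
    have h1 := π.ker.index_mul_card
    rw [Subgroup.index_ker, MonoidHom.range_eq_top.mpr hπ, Subgroup.card_top, hcardP, card_PSU6] at h1
    omega
  have hcov : Cfsg.IsNonsplitDoubleCover PC (Cfsg.PSU 6 F4 2) :=
    isNonsplitDoubleCover_of_hom π hπ hker center_PSU6 hperfP
  exact ⟨F4, inferInstance, inferInstance, card_F4, isNonsplitDoubleCover_congr e hcov⟩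

end Cfsg.Agent.S1684
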