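import Cfsg.Statements.S0471
import Cfsg.Agent.S1684
import Cfsg.Agent.Lib.Helper28.TC2Transp2
import Cfsg.Agent.Lib.Helper28.TCFi22ATrDef

set_option autoImplicit false
set_option maxRecDepth 100000
open Cfsg

namespace Cfsg.Agent.S0471
open Cfsg.Agent.Lib.Helper28.TC2Upper Cfsg.Agent.Lib.Helper28.TC2Lower Cfsg.Agent.Lib.Helper28.TC2Orbit Cfsg.Agent.Lib.Helper28.TC2Glue Cfsg.Agent.Lib.Helper28.TC2GlueOrb Cfsg.Agent.Lib.Helper28.TC2Simple Cfsg.Agent.Lib.Helper28.TC2Tower
open Cfsg.Agent.Lib.Helper28.TCFi22AW0Table Cfsg.Agent.Lib.Helper28.TCFi22AW0Link Cfsg.Agent.Lib.Helper28.TCFi22AW0Main Cfsg.Agent.Lib.Helper28.TCFi22AW0M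
open Cfsg.Agent.Lib.Helper28.TC2Transp Cfsg.Agent.Lib.Helper28.TC2Transp2 Cfsg.Agent.Lib.Helper28.TC2Cover Cfsg.Agent.Lib.Helper28.TCFi22ATrDef

/-- the presented Fi₂₂ -/
abbrev G0 : Type := PresentedGroup rels
/-- the subgroup generated by a, c, …, i and (abcdeh)^5 -/
abbrev H0 : Subgroup G0 := (Subgroup.closure S).map (PresentedGroup.mk rels)

/-- the central involution of `H0` -/
noncomputable abbrev z : G0 := PresentedGroup.mk rels (FreeGroup.mk zWord)

/-- a commutator word that is trivial gives commuting elements -/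
theorem comm_of_word (L : List (Cfsg.Spor.Fi22.Gen × Bool))
    (h : PresentedGroup.mk rels (FreeGroup.mk (zWord ++ L ++ FreeGroup.invRev zWord ++ FreeGroup.invRev L)) = 1) :
    z * PresentedGroup.mk rels (FreeGroup.mk L) = PresentedGroup.mk rels (FreeGroup.mk L) * z := by
  have e : FreeGroup.mk (zWord ++ L ++ FreeGroup.invRev zWord ++ FreeGroup.invRev L) =
      FreeGroup.mk zWord * FreeGroup.mk L * (FreeGroup.mk zWord)⁻¹ * (FreeGroup.mk L)⁻¹ := by
    rw [FreeGroup.inv_mk, FreeGroup.inv_mk, FreeGroup.mul_mk, FreeGroup.mul_mk, FreeGroup.mul_mk]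
  rw [e, map_mul, map_mul, map_mul, map_inv, map_inv] at h
  calc z * PresentedGroup.mk rels (FreeGroup.mk L)
      = (z * PresentedGroup.mk rels (FreeGroup.mk L) * z⁻¹ * (PresentedGroup.mk rels (FreeGroup.mk L))⁻¹) *
        (PresentedGroup.mk rels (FreeGroup.mk L) * z) := by group
    _ = PresentedGroup.mk rels (FreeGroup.mk L) * z := by rw [h, one_mul]

/-- the generator b does not fix the base point -/
theorem hbne : table.walkT (pathOf lw [(.b, true)]) 0 ≠ 0 := by decide +kernel

/-- The Fischer group of order 64561751654400 exists as a 3-transposition group: a simple group of that order generated by a conjugacy class of 3510 3-transpositions, the centraliser of each being a non-split double cover of PSU(6, 2). -/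
theorem result : ∃ (G : Type) (_ : Group G) (_ : Finite G), Cfsg.IsFi22 G ∧ ∃ D : Set G, Cfsg.IsThreeTranspositionClass D ∧ Nat.card D = 3510 ∧ ∀ d ∈ D, ∃ (F : Type) (_ : Field F) (_ : Fintype F), Fintype.card F = 4 ∧ Cfsg.IsNonsplitDoubleCover (Subgroup.centralizer ({d} : Set G)) (Cfsg.PSU 6 F 2) := by
  obtain ⟨hsimp22, hcard22⟩ := Cfsg.Agent.S1696.result
  have hcard : Nat.card G0 = 64561751654400 := hcard22
  haveI : IsSimpleGroup G0 := hsimp22
  haveI hfin : Finite G0 := Nat.finite_of_card_ne_zero (by rw [hcard]; norm_num)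
  obtain ⟨hidx, φ, hφ, f, hbij, hequiv, h0⟩ := Cfsg.Agent.Lib.Helper28.TCFi22AW0Main.main
  have hidx' : H0.index = 3510 := hidx
  have hinj : Function.Injective φ := by
    rw [← MonoidHom.ker_eq_bot_iff]
    rcases (inferInstance : φ.ker.Normal).eq_bot_or_eq_top with h | h
    · exact h
    · exfalso
      have hb : (PresentedGroup.mk rels (FreeGroup.mk [(.b, true)]) : G0) ∈ φ.ker := by rw [h]; exact Subgroup.mem_top _
      rw [MonoidHom.mem_ker] at hb
      have h1 := phi_mk_apply link hT φ hφ [(.b, true)] ⟨0, hn⟩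
      rw [hb] at h1
      exact hbne h1.symm
  have hfm := f_mk link hT hn φ hφ f hequiv h0
  have hgens := BT.All_of_all (fun _ h => of_decide_eq_true h) _ Cfsg.Agent.Lib.Helper28.TCFi22AW0M.hgens
  have horb : ∀ p q : Fin table.n, orbData.oid p.val = orbData.oid q.val → ∃ π ∈ H0.map φ, π p = q :=
    fun p q hpq => exists_perm_of_oid_eq link hT φ hφ orbData subPaths hsubmem hsubmem' hclosed hgens hconn p q hpq
  have hcls : ∀ x : G0, x ∉ H0 → orbData.oid (f (QuotientGroup.mk x)).val = 1 ∨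
      orbData.oid (f (QuotientGroup.mk x)).val = 2 :=
    fun x hx => cls_of_not_mem _ hn f hbij.1 h0 orbData hclsAll h00 cntc0 x hx
  have triv : ∀ L : List (Cfsg.Spor.Fi22.Gen × Bool),
      (∀ p, p < table.n → table.walkT (pathOf lw L) p = p) →
      PresentedGroup.mk rels (FreeGroup.mk L) = 1 := by
    intro L h
    apply hinj
    rw [map_one]
    exact phi_mk_eq_one link hT φ hφ L h
  have mem_of_walk : ∀ L : List (Cfsg.Spor.Fi22.Gen × Bool), table.walkT (pathOf lw L) 0 = 0 →
      PresentedGroup.mk rels (FreeGroup.mk L) ∈ H0 := by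
    intro L h
    have e1 := hfm L
    rw [h] at e1
    have e2 : f (QuotientGroup.mk (PresentedGroup.mk rels (FreeGroup.mk L))) = f (QuotientGroup.mk 1) := by
      rw [h0]; exact Fin.ext e1
    have e3 := hbij.1 e2
    rw [QuotientGroup.eq, mul_one] at e3
    simpa using H0.inv_mem e3
  have hz2 : z * z = 1 := by
    have hm : FreeGroup.mk (zWord ++ zWord) ∈ rels := (link.hrels _).mpr ⟨_, by decide +kernel, rfl⟩
    have := PresentedGroup.one_of_mem hm
    rw [← FreeGroup.mul_mk] at this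
    exact this
  have hzi : z⁻¹ = z := inv_eq_of_mul_eq_one_right hz2
  have hle : H0 ≤ Subgroup.centralizer {z} := by
    rw [Subgroup.map_le_iff_le_comap, Subgroup.closure_le]
    intro s hs
    obtain ⟨L, hL, rfl⟩ := (link.hS s).mp hs
    show PresentedGroup.mk rels (FreeGroup.mk L) ∈ Subgroup.centralizer {z}
    rw [Subgroup.mem_centralizer_iff]
    intro y hy
    rw [Set.mem_singleton_iff] at hy
    rw [hy]
    exact comm_of_word L (triv _ (hcomm _ (List.mem_map_of_mem hL)))
  have hzH : ∀ h ∈ H0, h * z = z * h := by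
    intro h hh
    have := hle hh
    rw [Subgroup.mem_centralizer_iff] at this
    exact (this z rfl).symm
  have ne_one : ∀ (L : List (Cfsg.Spor.Fi22.Gen × Bool)) (p : ℕ) (hp : p < table.n),
      table.walkT (pathOf lw L) p ≠ p → PresentedGroup.mk rels (FreeGroup.mk L) ≠ 1 := by
    intro L p hp hne e
    have h1 := phi_mk_apply link hT φ hφ L ⟨p, hp⟩
    rw [e, map_one] at h1
    exact hne h1.symm
  have hz1 : z ≠ 1 := ne_one zWord _ (by decide) hzne
  have conj_ne : ∀ (Y : List (Cfsg.Spor.Fi22.Gen × Bool)),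
      PresentedGroup.mk rels (FreeGroup.mk (Y ++ zWord ++ FreeGroup.invRev Y ++ zWord)) ≠ 1 →
      PresentedGroup.mk rels (FreeGroup.mk Y) * z * (PresentedGroup.mk rels (FreeGroup.mk Y))⁻¹ ≠ z := by
    intro Y hne e
    apply hne
    rw [← FreeGroup.mul_mk, ← FreeGroup.mul_mk, ← FreeGroup.mul_mk, ← FreeGroup.inv_mk,
      map_mul, map_mul, map_mul, map_inv, e]
    exact hz2
  -- the two double coset representatives
  have hyo' : orbData.oid (f (QuotientGroup.mk (PresentedGroup.mk rels (FreeGroup.mk yoWord)))).val = 1 := by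
    rw [hfm]; exact hyo
  have hyc' : orbData.oid (f (QuotientGroup.mk (PresentedGroup.mk rels (FreeGroup.mk ycWord)))).val = 2 := by
    rw [hfm]; exact hyc
  have hC : Subgroup.centralizer {z} = H0 :=
    centralizer_eq_of_rank3 H0 φ f hbij.1 hequiv (fun q => orbData.oid q.val) horb z hzH
      (PresentedGroup.mk rels (FreeGroup.mk yoWord)) (PresentedGroup.mk rels (FreeGroup.mk ycWord)) 1 2 hcls hyo' hyc'
      (conj_ne yoWord (ne_one _ _ (by decide) hone)) (conj_ne ycWord (ne_one _ _ (by decide) hcne))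
  have hmo' : (PresentedGroup.mk rels (FreeGroup.mk yoWord))⁻¹ * z * PresentedGroup.mk rels (FreeGroup.mk yoWord) * z *
      (PresentedGroup.mk rels (FreeGroup.mk yoWord))⁻¹ ∈ H0 := by
    have := mem_of_walk _ hmo
    rw [← FreeGroup.mul_mk, ← FreeGroup.mul_mk, ← FreeGroup.mul_mk, ← FreeGroup.mul_mk, ← FreeGroup.inv_mk,
      map_mul, map_mul, map_mul, map_mul, map_inv] at this
    exact this
  have hmc' : (PresentedGroup.mk rels (FreeGroup.mk ycWord))⁻¹ * z * PresentedGroup.mk rels (FreeGroup.mk ycWord) ∈ H0 := by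
    have := mem_of_walk _ hmc
    rw [← FreeGroup.mul_mk, ← FreeGroup.mul_mk, ← FreeGroup.inv_mk, map_mul, map_mul, map_inv] at this
    exact this
  have hall : ∀ g : G0, (z * (g * z * g⁻¹)) ^ 2 = 1 ∨ (z * (g * z * g⁻¹)) ^ 3 = 1 :=
    transp_of_rank3 H0 φ f hbij.1 hequiv (fun q => orbData.oid q.val) horb z hzH hz2
      (PresentedGroup.mk rels (FreeGroup.mk yoWord)) (PresentedGroup.mk rels (FreeGroup.mk ycWord)) 1 2 hcls hyo' hyc'
      (Or.inr (cube_of_mem H0 z hzH hz2 _ hmo')) (Or.inl (sq_of_mem H0 z hzH hz2 _ hmc'))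
  have hset := isThreeTranspositionSet_conjugatesOf z hz2 hz1 hall
  have hclosure : Subgroup.closure (conjugatesOf z) = ⊤ := by
    have hn : (Subgroup.normalClosure {z}).Normal := Subgroup.normalClosure_normal
    rcases hn.eq_bot_or_eq_top with h | h
    · exfalso
      apply hz1
      have : z ∈ Subgroup.normalClosure {z} := Subgroup.subset_normalClosure rfl
      rw [h] at this
      exact Subgroup.mem_bot.mp this
    · rw [← h]
      show _ = Subgroup.closure (Group.conjugatesOfSet {z})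
      congr 1
      ext x
      rw [Group.mem_conjugatesOfSet_iff]
      constructor
      · intro hx; exact ⟨z, rfl, hx⟩
      · rintro ⟨a, ha, hx⟩
        rw [Set.mem_singleton_iff] at ha
        rw [ha] at hx; exact hx
  have hcardD : Nat.card (conjugatesOf z) = 3510 := by
    rw [card_conjugatesOf, hC, hidx']
  obtain ⟨K, iF, iT, hK, hcovK⟩ := Cfsg.Agent.S1684.result
  have hcov : ∀ L : Subgroup G0, L = H0 → Cfsg.IsNonsplitDoubleCover L (Cfsg.PSU 6 K 2) := by
    rintro _ rfl
    exact hcovK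
  refine ⟨Cfsg.Spor.Fi22, inferInstance, hfin, Cfsg.Agent.S1696.result, conjugatesOf z, ⟨hset, ⟨z, mem_conjugatesOf_self, rfl⟩, hclosure⟩, hcardD, ?_⟩
  intro d hd
  obtain ⟨c, rfl⟩ := isConj_iff.mp hd
  refine ⟨K, iF, iT, hK, ?_⟩
  obtain ⟨e⟩ := nonempty_centralizer_equiv c z
  exact isNonsplitDoubleCover_congr e (hcov _ hC)

end Cfsg.Agent.S0471
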