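import Cfsg.Statements.S1688
import Cfsg.Agent.S1696
import Cfsg.Agent.S1697
import Cfsg.Agent.Lib.Helper28.TC2Cover

set_option autoImplicit false
set_option maxRecDepth 100000
open Cfsg

namespace Cfsg.Agent.S1688
open Cfsg.Agent.Lib.Helper28.TC2Tower Cfsg.Agent.Lib.Helper28.TC2Glue Cfsg.Agent.Lib.Helper28.TC2Cover

/-- the group presented by the relators of Fi₂₃ on a, …, i -/
abbrev P1 : Type := PresentedGroup Cfsg.Agent.Lib.Helper28.TCFi23W1Link.rels
/-- the presented Fi₂₃ -/
abbrev G0 : Type := PresentedGroup Cfsg.Agent.Lib.Helper28.TCFi23W0Link.rels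
/-- the subgroup generated by a, …, i -/
abbrev H0 : Subgroup G0 := (Subgroup.closure Cfsg.Agent.Lib.Helper28.TCFi23W0Link.S).map (PresentedGroup.mk Cfsg.Agent.Lib.Helper28.TCFi23W0Link.rels)

/-- the generators a, …, i as generators of Fi₂₂ -/
def toFi22 : Cfsg.Agent.Lib.Helper28.TCFi23W1Def.Gen → Cfsg.Spor.Fi22.Gen
  | .a => .a
  | .b => .b
  | .c => .c
  | .d => .d
  | .e => .e
  | .f => .f
  | .g => .g
  | .h => .h
  | .i => .i

theorem up22 : ∀ L ∈ Cfsg.Agent.Lib.Helper28.TCFi23W1Link.relWords, upWord toFi22 L ∈ Cfsg.Agent.Lib.Helper28.TCFi22W0Link.relWords := by decide +kernel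

theorem toFi22_surjective : Function.Surjective toFi22 := by
  intro x
  cases x
  · exact ⟨.a, rfl⟩
  · exact ⟨.b, rfl⟩
  · exact ⟨.c, rfl⟩
  · exact ⟨.d, rfl⟩
  · exact ⟨.e, rfl⟩
  · exact ⟨.f, rfl⟩
  · exact ⟨.g, rfl⟩
  · exact ⟨.h, rfl⟩
  · exact ⟨.i, rfl⟩

theorem par_edge {β : Type} (v : β → Bool) (x y : β)
    (h : par v [(x, true), (y, true), (x, true), (y, true), (x, true), (y, true)] = false) : v x = v y := by
  simp only [par] at h
  revert h
  cases v x <;> cases v y <;> simp

theorem hperfP : ∀ L : Subgroup P1, L.index ≠ 2 := by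
  apply no_index_two_of_parity Cfsg.Agent.Lib.Helper28.TCFi23W1Link.rels Cfsg.Agent.Lib.Helper28.TCFi23W1Link.relWords
  · intro L hL
    exact (Cfsg.Agent.Lib.Helper28.TCFi23W1Link.link.hrels _).mpr ⟨L, hL, rfl⟩
  · intro v hv
    have hab : v .a = v .b := par_edge v _ _ (hv [(.a, true), (.b, true), (.a, true), (.b, true), (.a, true), (.b, true)] (by decide +kernel))
    have hbc : v .b = v .c := par_edge v _ _ (hv [(.b, true), (.c, true), (.b, true), (.c, true), (.b, true), (.c, true)] (by decide +kernel))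
    have hcd : v .c = v .d := par_edge v _ _ (hv [(.c, true), (.d, true), (.c, true), (.d, true), (.c, true), (.d, true)] (by decide +kernel))
    have hde : v .d = v .e := par_edge v _ _ (hv [(.d, true), (.e, true), (.d, true), (.e, true), (.d, true), (.e, true)] (by decide +kernel))
    have hdh : v .d = v .h := par_edge v _ _ (hv [(.d, true), (.h, true), (.d, true), (.h, true), (.d, true), (.h, true)] (by decide +kernel))
    have hef : v .e = v .f := par_edge v _ _ (hv [(.e, true), (.f, true), (.e, true), (.f, true), (.e, true), (.f, true)] (by decide +kernel))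
    have hfg : v .f = v .g := par_edge v _ _ (hv [(.f, true), (.g, true), (.f, true), (.g, true), (.f, true), (.g, true)] (by decide +kernel))
    have hhi : v .h = v .i := par_edge v _ _ (hv [(.h, true), (.i, true), (.h, true), (.i, true), (.h, true), (.i, true)] (by decide +kernel))
    have eb : v .b = v .a := hab.symm
    have ec : v .c = v .a := hbc.symm.trans eb
    have ed : v .d = v .a := hcd.symm.trans ec
    have ee : v .e = v .a := hde.symm.trans ed
    have eh : v .h = v .a := hdh.symm.trans ed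
    have ef : v .f = v .a := hef.symm.trans ee
    have eg : v .g = v .a := hfg.symm.trans ef
    have ei : v .i = v .a := hhi.symm.trans eh
    have e9 := hv [(.a, true), (.b, true), (.c, true), (.d, true), (.e, true), (.f, true), (.h, true), (.a, true), (.b, true), (.c, true), (.d, true), (.e, true), (.f, true), (.h, true), (.a, true), (.b, true), (.c, true), (.d, true), (.e, true), (.f, true), (.h, true), (.a, true), (.b, true), (.c, true), (.d, true), (.e, true), (.f, true), (.h, true), (.a, true), (.b, true), (.c, true), (.d, true), (.e, true), (.f, true), (.h, true), (.a, true), (.b, true), (.c, true), (.d, true), (.e, true), (.f, true), (.h, true), (.a, true), (.b, true), (.c, true), (.d, true), (.e, true), (.f, true), (.h, true), (.a, true), (.b, true), (.c, true), (.d, true), (.e, true), (.f, true), (.h, true), (.a, true), (.b, true), (.c, true), (.d, true), (.e, true), (.f, true), (.h, true)] (by decide +kernel)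
    simp only [par, eb, ec, ed, ee, ef, eh] at e9
    have ha : v .a = false := by
      cases hva : v .a with
      | false => rfl
      | true => rw [hva] at e9; exact absurd e9 (by decide)
    have key : v .a = false ∧ v .b = false ∧ v .c = false ∧ v .d = false ∧ v .e = false ∧ v .f = false ∧ v .g = false ∧ v .h = false ∧ v .i = false :=
      ⟨ha, eb.trans ha, ec.trans ha, ed.trans ha, ee.trans ha, ef.trans ha, eg.trans ha, eh.trans ha, ei.trans ha⟩
    obtain ⟨ha, hb, hc, hd, he, hf, hg, hh, hi⟩ := key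
    intro x
    cases x
    · exact ha
    · exact hb
    · exact hc
    · exact hd
    · exact he
    · exact hf
    · exact hg
    · exact hh
    · exact hi


/-- In the presented Fischer group Fi₂₃, the subgroup generated by the images of a, …, i is a non-split double cover of the presented Fischer group Fi₂₂. -/
theorem result : Cfsg.IsNonsplitDoubleCover (((Subgroup.closure ({Cfsg.Spor.Fi23.a, Cfsg.Spor.Fi23.b, Cfsg.Spor.Fi23.c, Cfsg.Spor.Fi23.d, Cfsg.Spor.Fi23.e, Cfsg.Spor.Fi23.f, Cfsg.Spor.Fi23.g, Cfsg.Spor.Fi23.h, Cfsg.Spor.Fi23.i} : Set (FreeGroup Cfsg.Spor.Fi23.Gen))).map (PresentedGroup.mk (Cfsg.Spor.coxRelators Cfsg.Spor.Fi23.edges ∪ {r | r ∈ Cfsg.Spor.Fi23.extra})))) Cfsg.Spor.Fi22 := by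
  obtain ⟨hsimp23, hcard23⟩ := Cfsg.Agent.S1697.result
  obtain ⟨hsimp22, hcard22⟩ := Cfsg.Agent.S1696.result
  have hcardG : Nat.card G0 = 4089470473293004800 := hcard23
  have hidx : H0.index = 31671 := Cfsg.Agent.Lib.Helper28.TCFi23W0Main.main.1
  have hcardH : Nat.card H0 = 129123503308800 := by
    have := H0.index_mul_card
    rw [hidx, hcardG] at this
    omega
  obtain ⟨hfinP, hleP0⟩ := Cfsg.Agent.Lib.Helper28.TCFi23Tower.card1
  have hleP : Nat.card P1 ≤ 129123503308800 := hleP0
  haveI : Finite P1 := hfinP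
  have hrel := hrel_of_words Cfsg.Agent.Lib.Helper28.TCFi23W0Link.rels Cfsg.Agent.Lib.Helper28.TCFi23W1Link.rels Cfsg.Agent.Lib.Helper28.TCFi23W1Def.up Cfsg.Agent.Lib.Helper28.TCFi23W0Link.relWords Cfsg.Agent.Lib.Helper28.TCFi23W1Link.relWords
    Cfsg.Agent.Lib.Helper28.TCFi23W0Link.link.hrels Cfsg.Agent.Lib.Helper28.TCFi23W1Link.link.hrels Cfsg.Agent.Lib.Helper28.TCFi23Tower.up0
  obtain ⟨ψ, hψ⟩ := exists_hom_of_subpres Cfsg.Agent.Lib.Helper28.TCFi23W0Link.rels Cfsg.Agent.Lib.Helper28.TCFi23W1Link.rels Cfsg.Agent.Lib.Helper28.TCFi23W1Def.up hrel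
  have hrange : ψ.range = H0 := by
    apply range_of_subpres _ _ _ ψ hψ
    · intro s hs
      simp only [Cfsg.Agent.Lib.Helper28.TCFi23W0Link.S, Set.mem_insert_iff, Set.mem_singleton_iff] at hs
      rcases hs with rfl | rfl | rfl | rfl | rfl | rfl | rfl | rfl | rfl
      exacts [⟨.a, rfl⟩, ⟨.b, rfl⟩, ⟨.c, rfl⟩, ⟨.d, rfl⟩, ⟨.e, rfl⟩, ⟨.f, rfl⟩, ⟨.g, rfl⟩, ⟨.h, rfl⟩, ⟨.i, rfl⟩]
    · intro b
      cases b <;> simp [Cfsg.Agent.Lib.Helper28.TCFi23W0Link.S, Cfsg.Agent.Lib.Helper28.TCFi23W1Def.up]
  have hcardR : Nat.card ψ.range = 129123503308800 := by rw [hrange]; exact hcardH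
  have h1 : Nat.card ψ.range ≤ Nat.card P1 :=
    Nat.card_le_card_of_surjective ψ.rangeRestrict ψ.rangeRestrict_surjective
  have hcardP : Nat.card P1 = 129123503308800 :=
    le_antisymm hleP (by rw [← hcardR]; exact h1)
  have hinj : Function.Injective ψ := by
    have hbij : Function.Bijective ψ.rangeRestrict := by
      rw [Nat.bijective_iff_surjective_and_card]
      exact ⟨ψ.rangeRestrict_surjective, hcardP.trans hcardR.symm⟩
    intro a b hab
    exact hbij.1 (Subtype.ext hab)
  -- the isomorphism of P1 with the subgroup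
  let e : P1 ≃* H0 := (MonoidHom.ofInjective hinj).trans (MulEquiv.subgroupCongr hrange)
  -- the homomorphism onto Fi22
  have hrel22 := hrel_of_words Cfsg.Agent.Lib.Helper28.TCFi22W0Link.rels Cfsg.Agent.Lib.Helper28.TCFi23W1Link.rels toFi22 Cfsg.Agent.Lib.Helper28.TCFi22W0Link.relWords Cfsg.Agent.Lib.Helper28.TCFi23W1Link.relWords
    Cfsg.Agent.Lib.Helper28.TCFi22W0Link.link.hrels Cfsg.Agent.Lib.Helper28.TCFi23W1Link.link.hrels up22
  obtain ⟨f, hf⟩ := exists_surj_of_subpres Cfsg.Agent.Lib.Helper28.TCFi22W0Link.rels Cfsg.Agent.Lib.Helper28.TCFi23W1Link.rels toFi22 hrel22 toFi22_surjective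
  let π : H0 →* PresentedGroup Cfsg.Agent.Lib.Helper28.TCFi22W0Link.rels := f.comp e.symm.toMonoidHom
  have hπ : Function.Surjective π := hf.comp e.symm.surjective
  haveI : Finite G0 := Nat.finite_of_card_ne_zero (by rw [hcardG]; norm_num)
  haveI : Finite (PresentedGroup Cfsg.Agent.Lib.Helper28.TCFi22W0Link.rels) := Nat.finite_of_card_ne_zero (by
    have : Nat.card (PresentedGroup Cfsg.Agent.Lib.Helper28.TCFi22W0Link.rels) = 64561751654400 := hcard22
    rw [this]; norm_num)
  have hker : Nat.card π.ker = 2 := by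
    have h1 := π.ker.index_mul_card
    rw [Subgroup.index_ker, MonoidHom.range_eq_top.mpr hπ, Subgroup.card_top, hcardH] at h1
    have h2 : Nat.card (PresentedGroup Cfsg.Agent.Lib.Helper28.TCFi22W0Link.rels) = 64561751654400 := hcard22
    rw [h2] at h1
    omega
  haveI : IsSimpleGroup (PresentedGroup Cfsg.Agent.Lib.Helper28.TCFi22W0Link.rels) := hsimp22
  have hK : Subgroup.center (PresentedGroup Cfsg.Agent.Lib.Helper28.TCFi22W0Link.rels) = ⊥ := by
    apply center_eq_bot_of_simple
    have h2 : Nat.card (PresentedGroup Cfsg.Agent.Lib.Helper28.TCFi22W0Link.rels) = 64561751654400 := hcard22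
    rw [h2]; norm_num
  have hperf : ∀ L : Subgroup H0, L.index ≠ 2 := by
    intro L hL
    apply hperfP (L.comap e.toMonoidHom)
    rw [Subgroup.index_comap_of_surjective L e.surjective]
    exact hL
  exact isNonsplitDoubleCover_of_hom π hπ hker hK hperf

end Cfsg.Agent.S1688
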