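import Cfsg.Statements.S0472
import Cfsg.Agent.S1688
import Cfsg.Agent.Lib.Helper28.TC2Transp
import Cfsg.Agent.Lib.Helper28.TCFi23TrZ
import Cfsg.Agent.Lib.Helper28.TCFi23TrCa
import Cfsg.Agent.Lib.Helper28.TCFi23TrCb
import Cfsg.Agent.Lib.Helper28.TCFi23TrCc
import Cfsg.Agent.Lib.Helper28.TCFi23TrCd
import Cfsg.Agent.Lib.Helper28.TCFi23TrCe
import Cfsg.Agent.Lib.Helper28.TCFi23TrCf
import Cfsg.Agent.Lib.Helper28.TCFi23TrCg
import Cfsg.Agent.Lib.Helper28.TCFi23TrCh
import Cfsg.Agent.Lib.Helper28.TCFi23TrCi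

set_option autoImplicit false
set_option maxRecDepth 100000
open Cfsg

namespace Cfsg.Agent.S0472
open Cfsg.Agent.Lib.Helper28.TC2Upper Cfsg.Agent.Lib.Helper28.TC2Lower Cfsg.Agent.Lib.Helper28.TC2Orbit Cfsg.Agent.Lib.Helper28.TC2Glue Cfsg.Agent.Lib.Helper28.TC2GlueOrb Cfsg.Agent.Lib.Helper28.TC2Simple Cfsg.Agent.Lib.Helper28.TC2Bsgs Cfsg.Agent.Lib.Helper28.TC2Tower
open Cfsg.Agent.Lib.Helper28.TCFi23W0Table Cfsg.Agent.Lib.Helper28.TCFi23W0Link Cfsg.Agent.Lib.Helper28.TCFi23W0Main Cfsg.Agent.Lib.Helper28.TCFi23W0M Cfsg.Agent.Lib.Helper28.TCFi23FinalChk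
open Cfsg.Agent.Lib.Helper28.TC2Transp Cfsg.Agent.Lib.Helper28.TC2Cover Cfsg.Agent.Lib.Helper28.TCFi23TrDef

/-- the presented Fi₂₃ -/
abbrev G0 : Type := PresentedGroup rels
/-- the subgroup generated by a, …, i -/
abbrev H0 : Subgroup G0 := (Subgroup.closure S).map (PresentedGroup.mk rels)

/-- the permutation representation of the presented Fi₂₃ on the cosets of `H0` is faithful and of rank 3,
and `H0` is maximal -/
theorem facts : ∃ (φ : G0 →* Equiv.Perm (Fin table.n)) (f : G0 ⧸ H0 → Fin table.n),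
    (∀ x, φ (PresentedGroup.of x) = Table.sigma hT (lw (x, true))) ∧ Function.Bijective f ∧
    (∀ g q, f (g • q) = φ g (f q)) ∧ f (QuotientGroup.mk 1) = ⟨0, hn⟩ ∧ Function.Injective φ ∧
    Nat.card G0 = 4089470473293004800 ∧ H0.index = 31671 ∧
    (∀ K : Subgroup G0, H0 ≤ K → K = H0 ∨ K = ⊤) ∧
    (∀ p q : Fin table.n, orbData.oid p.val = orbData.oid q.val → ∃ π ∈ H0.map φ, π p = q) ∧
    (∀ x : G0, x ∉ H0 → orbData.oid (f (QuotientGroup.mk x)).val = 1 ∨
      orbData.oid (f (QuotientGroup.mk x)).val = 2) := by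
  obtain ⟨hidx, φ, hφ, f, hbij, hequiv, h0⟩ := Cfsg.Agent.Lib.Helper28.TCFi23W0Main.main
  obtain ⟨hfin, hle⟩ := Cfsg.Agent.Lib.Helper28.TCFi23Tower.card0
  haveI : Finite (PresentedGroup rels) := hfin
  have hlow : 4089470473293004800 ≤ Nat.card φ.range :=
    le_trans Cfsg.Agent.Lib.Helper28.TCFi23BMain.card_base (card_baseGroup_le hT Cfsg.Agent.Lib.Helper28.TCFi23BMain.hTB rfl (by decide)
      Cfsg.Agent.Lib.Helper28.TCFi23BMain.hagree φ.range (sigma_mem_range link hT φ hφ))
  obtain ⟨hinj, hcard⟩ := injective_of_card_le φ hle hlow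
  have hgens := BT.All_of_all (fun _ h => of_decide_eq_true h) _ Cfsg.Agent.Lib.Helper28.TCFi23W0M.hgens
  have hfm := f_mk link hT hn φ hφ f hequiv h0
  have horb : ∀ p q : Fin table.n, orbData.oid p.val = orbData.oid q.val → ∃ π ∈ H0.map φ, π p = q :=
    fun p q hpq => exists_perm_of_oid_eq link hT φ hφ orbData subPaths hsubmem hsubmem' hclosed hgens hconn p q hpq
  have hcls : ∀ x : G0, x ∉ H0 → orbData.oid (f (QuotientGroup.mk x)).val = 1 ∨
      orbData.oid (f (QuotientGroup.mk x)).val = 2 :=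
    fun x hx => cls_of_not_mem _ hn f hbij.1 h0 orbData hclsAll h00 cntc0 x hx
  refine ⟨φ, f, hφ, hbij, hequiv, h0, hinj, hcard, hidx, ?_, horb, hcls⟩
  apply max_of_rank3 _ φ f hbij.1 hequiv (fun q => orbData.oid q.val) horb
    (PresentedGroup.mk rels (FreeGroup.mk [(.j, true)])) (PresentedGroup.mk rels (FreeGroup.mk yWord))
    (PresentedGroup.mk rels (FreeGroup.mk hWord)) ?_ 1 2 hcls ?_ ?_ ?_ ?_
  · -- h ∈ H
    apply Subgroup.mem_map_of_mem
    have e : FreeGroup.mk hWord = FreeGroup.of (Cfsg.Spor.Fi23.Gen.b) := rfl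
    rw [e]
    exact Subgroup.subset_closure (by simp [S])
  · show orbData.oid (f _).val = 1
    rw [hfm]; exact hg0
  · show orbData.oid (f _).val = 2
    rw [hfm]; exact hy
  · show orbData.oid (f _).val = 1
    have e : PresentedGroup.mk rels (FreeGroup.mk yWord) * PresentedGroup.mk rels (FreeGroup.mk hWord) *
        PresentedGroup.mk rels (FreeGroup.mk yWord) = PresentedGroup.mk rels (FreeGroup.mk (yWord ++ hWord ++ yWord)) := by
      rw [← map_mul, ← map_mul, FreeGroup.mul_mk, FreeGroup.mul_mk]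
    rw [e, hfm]; exact hz
  · intro K hHK hg
    rw [eq_top_iff, ← PresentedGroup.closure_range_of, Subgroup.closure_le]
    rintro _ ⟨x, rfl⟩
    cases x
    · exact hHK (Subgroup.mem_map_of_mem _ (Subgroup.subset_closure (by simp [S])))
    · exact hHK (Subgroup.mem_map_of_mem _ (Subgroup.subset_closure (by simp [S])))
    · exact hHK (Subgroup.mem_map_of_mem _ (Subgroup.subset_closure (by simp [S])))
    · exact hHK (Subgroup.mem_map_of_mem _ (Subgroup.subset_closure (by simp [S])))
    · exact hHK (Subgroup.mem_map_of_mem _ (Subgroup.subset_closure (by simp [S])))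
    · exact hHK (Subgroup.mem_map_of_mem _ (Subgroup.subset_closure (by simp [S])))
    · exact hHK (Subgroup.mem_map_of_mem _ (Subgroup.subset_closure (by simp [S])))
    · exact hg
    · exact hHK (Subgroup.mem_map_of_mem _ (Subgroup.subset_closure (by simp [S])))
    · exact hHK (Subgroup.mem_map_of_mem _ (Subgroup.subset_closure (by simp [S])))

/-- the central involution of `H0` -/
noncomputable abbrev z : G0 := PresentedGroup.mk rels (FreeGroup.mk zWord)

/-- a commutator word that is trivial gives commuting elements -/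
theorem comm_of_word (x : Cfsg.Spor.Fi23.Gen)
    (h : PresentedGroup.mk rels (FreeGroup.mk (zWord ++ [(x, true)] ++ FreeGroup.invRev zWord ++ [(x, false)])) = 1) :
    z * PresentedGroup.mk rels (FreeGroup.of x) = PresentedGroup.mk rels (FreeGroup.of x) * z := by
  have e : FreeGroup.mk (zWord ++ [(x, true)] ++ FreeGroup.invRev zWord ++ [(x, false)]) =
      FreeGroup.mk zWord * FreeGroup.of x * (FreeGroup.mk zWord)⁻¹ * (FreeGroup.of x)⁻¹ := by
    have e1 : (FreeGroup.of x)⁻¹ = FreeGroup.mk [(x, false)] := by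
      show (FreeGroup.mk [(x, true)])⁻¹ = _
      rw [FreeGroup.inv_mk]; rfl
    have e2 : FreeGroup.of x = FreeGroup.mk [(x, true)] := rfl
    rw [e1, e2, FreeGroup.inv_mk, FreeGroup.mul_mk, FreeGroup.mul_mk, FreeGroup.mul_mk]
  rw [e, map_mul, map_mul, map_mul, map_inv, map_inv] at h
  calc z * PresentedGroup.mk rels (FreeGroup.of x)
      = (z * PresentedGroup.mk rels (FreeGroup.of x) * z⁻¹ * (PresentedGroup.mk rels (FreeGroup.of x))⁻¹) *
        (PresentedGroup.mk rels (FreeGroup.of x) * z) := by group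
    _ = PresentedGroup.mk rels (FreeGroup.of x) * z := by rw [h, one_mul]

/-- The Fischer group of order 4089470473293004800 exists as a 3-transposition group: a simple group of that order generated by a conjugacy class of 31671 3-transpositions, the centraliser of each being a non-split double cover of a simple group of order 64561751654400. -/
theorem result : ∃ (G : Type) (_ : Group G) (_ : Finite G), Cfsg.IsFi23 G ∧ ∃ D : Set G, Cfsg.IsThreeTranspositionClass D ∧ Nat.card D = 31671 ∧ ∀ d ∈ D, ∃ (K : Type) (_ : Group K), Cfsg.IsFi22 K ∧ Cfsg.IsNonsplitDoubleCover (Subgroup.centralizer ({d} : Set G)) K := by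
  obtain ⟨φ, f, hφ, hbij, hequiv, h0, hinj, hcard, hidx, hmax, horb, hcls⟩ := facts
  have hfm := f_mk link hT hn φ hφ f hequiv h0
  have h23 := Cfsg.Agent.S1697.result
  haveI : IsSimpleGroup G0 := h23.1
  haveI hfin : Finite G0 := Nat.finite_of_card_ne_zero (by rw [hcard]; norm_num)
  have triv : ∀ L : List (Cfsg.Spor.Fi23.Gen × Bool),
      (∀ p, p < table.n → table.walkT (pathOf lw L) p = p) →
      PresentedGroup.mk rels (FreeGroup.mk L) = 1 := by
    intro L h
    apply hinj
    rw [map_one]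
    exact phi_mk_eq_one link hT φ hφ L h
  have mem_of_walk : ∀ L : List (Cfsg.Spor.Fi23.Gen × Bool), table.walkT (pathOf lw L) 0 = 0 →
      PresentedGroup.mk rels (FreeGroup.mk L) ∈ H0 := by
    intro L h
    have e1 := hfm L
    rw [h] at e1
    have e2 : f (QuotientGroup.mk (PresentedGroup.mk rels (FreeGroup.mk L))) = f (QuotientGroup.mk 1) := by
      rw [h0]; exact Fin.ext e1
    have e3 := hbij.1 e2
    rw [QuotientGroup.eq, mul_one] at e3
    simpa using H0.inv_mem e3
  have hz2 : z * z = 1 := by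
    have := triv (zWord ++ zWord) (by rw [Cfsg.Agent.Lib.Helper28.TCFi23TrZ.path_eq]; exact Cfsg.Agent.Lib.Helper28.TCFi23TrZ.fix)
    rw [← FreeGroup.mul_mk, map_mul] at this
    exact this
  have hzi : z⁻¹ = z := inv_eq_of_mul_eq_one_right hz2
  have hle : H0 ≤ Subgroup.centralizer {z} := by
    rw [Subgroup.map_le_iff_le_comap, Subgroup.closure_le]
    intro s hs
    have key : ∀ x : Cfsg.Spor.Fi23.Gen, z * PresentedGroup.mk rels (FreeGroup.of x) = PresentedGroup.mk rels (FreeGroup.of x) * z →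
        FreeGroup.of x ∈ ((Subgroup.centralizer {z}).comap (PresentedGroup.mk rels) : Set _) := by
      intro x hx
      show PresentedGroup.mk rels (FreeGroup.of x) ∈ Subgroup.centralizer {z}
      rw [Subgroup.mem_centralizer_iff]
      intro y hy
      rw [Set.mem_singleton_iff] at hy
      rw [hy]; exact hx
    simp only [S, Set.mem_insert_iff, Set.mem_singleton_iff] at hs
    rcases hs with rfl | rfl | rfl | rfl | rfl | rfl | rfl | rfl | rfl
    · exact key _ (comm_of_word _ (triv _ (by rw [Cfsg.Agent.Lib.Helper28.TCFi23TrCa.path_eq]; exact Cfsg.Agent.Lib.Helper28.TCFi23TrCa.fix)))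
    · exact key _ (comm_of_word _ (triv _ (by rw [Cfsg.Agent.Lib.Helper28.TCFi23TrCb.path_eq]; exact Cfsg.Agent.Lib.Helper28.TCFi23TrCb.fix)))
    · exact key _ (comm_of_word _ (triv _ (by rw [Cfsg.Agent.Lib.Helper28.TCFi23TrCc.path_eq]; exact Cfsg.Agent.Lib.Helper28.TCFi23TrCc.fix)))
    · exact key _ (comm_of_word _ (triv _ (by rw [Cfsg.Agent.Lib.Helper28.TCFi23TrCd.path_eq]; exact Cfsg.Agent.Lib.Helper28.TCFi23TrCd.fix)))
    · exact key _ (comm_of_word _ (triv _ (by rw [Cfsg.Agent.Lib.Helper28.TCFi23TrCe.path_eq]; exact Cfsg.Agent.Lib.Helper28.TCFi23TrCe.fix)))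
    · exact key _ (comm_of_word _ (triv _ (by rw [Cfsg.Agent.Lib.Helper28.TCFi23TrCf.path_eq]; exact Cfsg.Agent.Lib.Helper28.TCFi23TrCf.fix)))
    · exact key _ (comm_of_word _ (triv _ (by rw [Cfsg.Agent.Lib.Helper28.TCFi23TrCg.path_eq]; exact Cfsg.Agent.Lib.Helper28.TCFi23TrCg.fix)))
    · exact key _ (comm_of_word _ (triv _ (by rw [Cfsg.Agent.Lib.Helper28.TCFi23TrCh.path_eq]; exact Cfsg.Agent.Lib.Helper28.TCFi23TrCh.fix)))
    · exact key _ (comm_of_word _ (triv _ (by rw [Cfsg.Agent.Lib.Helper28.TCFi23TrCi.path_eq]; exact Cfsg.Agent.Lib.Helper28.TCFi23TrCi.fix)))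
  have hzH : ∀ h ∈ H0, h * z = z * h := by
    intro h hh
    have := hle hh
    rw [Subgroup.mem_centralizer_iff] at this
    exact (this z rfl).symm
  have hz1 : z ≠ 1 := by
    intro e
    have h1 := phi_mk_apply link hT φ hφ zWord ⟨1, by decide⟩
    have e' : PresentedGroup.mk rels (FreeGroup.mk zWord) = 1 := e
    rw [e', map_one] at h1
    exact hzne h1.symm
  have hcent0 : Subgroup.center G0 = ⊥ := by
    apply center_eq_bot_of_simple
    rw [hcard]; norm_num
  have hC : Subgroup.centralizer {z} = H0 := by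
    rcases hmax _ hle with h | h
    · exact h
    · exfalso
      apply hz1
      have hzc : z ∈ Subgroup.center G0 := by
        rw [Subgroup.mem_center_iff]
        intro g
        have hg : g ∈ Subgroup.centralizer {z} := by rw [h]; exact Subgroup.mem_top g
        rw [Subgroup.mem_centralizer_iff] at hg
        exact (hg z rfl).symm
      rw [hcent0] at hzc
      exact Subgroup.mem_bot.mp hzc
  -- the two double coset representatives
  have hyo' : orbData.oid (f (QuotientGroup.mk (PresentedGroup.mk rels (FreeGroup.mk yoWord)))).val = 1 := by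
    rw [hfm]; exact hyo
  have hyc' : orbData.oid (f (QuotientGroup.mk (PresentedGroup.mk rels (FreeGroup.mk ycWord)))).val = 2 := by
    rw [hfm]; exact hyc
  have hmo' : (PresentedGroup.mk rels (FreeGroup.mk yoWord))⁻¹ * z * PresentedGroup.mk rels (FreeGroup.mk yoWord) * z *
      (PresentedGroup.mk rels (FreeGroup.mk yoWord))⁻¹ ∈ H0 := by
    have := mem_of_walk _ hmo
    rw [← FreeGroup.mul_mk, ← FreeGroup.mul_mk, ← FreeGroup.mul_mk, ← FreeGroup.mul_mk, ← FreeGroup.inv_mk,
      map_mul, map_mul, map_mul, map_mul, map_inv] at this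
    exact this
  have hmc' : (PresentedGroup.mk rels (FreeGroup.mk ycWord))⁻¹ * z * PresentedGroup.mk rels (FreeGroup.mk ycWord) ∈ H0 := by
    have := mem_of_walk _ hmc
    rw [← FreeGroup.mul_mk, ← FreeGroup.mul_mk, ← FreeGroup.inv_mk, map_mul, map_mul, map_inv] at this
    exact this
  have hall : ∀ g : G0, (z * (g * z * g⁻¹)) ^ 2 = 1 ∨ (z * (g * z * g⁻¹)) ^ 3 = 1 :=
    transp_of_rank3 H0 φ f hbij.1 hequiv (fun q => orbData.oid q.val) horb z hzH hz2
      (PresentedGroup.mk rels (FreeGroup.mk yoWord)) (PresentedGroup.mk rels (FreeGroup.mk ycWord)) 1 2 hcls hyo' hyc'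
      (Or.inr (cube_of_mem H0 z hzH hz2 _ hmo')) (Or.inl (sq_of_mem H0 z hzH hz2 _ hmc'))
  have hset := isThreeTranspositionSet_conjugatesOf z hz2 hz1 hall
  have hclosure : Subgroup.closure (conjugatesOf z) = ⊤ := by
    have hn : (Subgroup.normalClosure {z}).Normal := Subgroup.normalClosure_normal
    rcases hn.eq_bot_or_eq_top with h | h
    · exfalso
      apply hz1
      have : z ∈ Subgroup.normalClosure {z} := Subgroup.subset_normalClosure rfl
      rw [h] at this
      exact Subgroup.mem_bot.mp this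
    · rw [← h]
      show _ = Subgroup.closure (Group.conjugatesOfSet {z})
      congr 1
      ext x
      rw [Group.mem_conjugatesOfSet_iff]
      constructor
      · intro hx; exact ⟨z, rfl, hx⟩
      · rintro ⟨a, ha, hx⟩
        rw [Set.mem_singleton_iff] at ha
        rw [ha] at hx; exact hx
  have hcardD : Nat.card (conjugatesOf z) = 31671 := by
    rw [card_conjugatesOf, hC, hidx]
  have hcov : ∀ L : Subgroup G0, L = H0 → Cfsg.IsNonsplitDoubleCover L Cfsg.Spor.Fi22 := by
    rintro _ rfl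
    exact Cfsg.Agent.S1688.result
  refine ⟨Cfsg.Spor.Fi23, inferInstance, hfin, h23, conjugatesOf z, ⟨hset, ⟨z, mem_conjugatesOf_self, rfl⟩, hclosure⟩, hcardD, ?_⟩
  intro d hd
  obtain ⟨c, rfl⟩ := isConj_iff.mp hd
  refine ⟨Cfsg.Spor.Fi22, inferInstance, Cfsg.Agent.S1696.result, ?_⟩
  obtain ⟨e⟩ := nonempty_centralizer_equiv c z
  exact isNonsplitDoubleCover_congr e (hcov _ hC)

end Cfsg.Agent.S0472
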