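import Cfsg.Statements.S0481
import Mathlib

set_option autoImplicit false
open Cfsg

namespace Cfsg.Agent.S0481


/-- Large extraspecial subgroups: let z be an involution of a finite group G whose centraliser C contains a normal 2-subgroup Q with centre of order 2 and all squares central, such that every element of G centralising Q lies in Q. Then C contains a Sylow 2-subgroup of G, and any involution of G whose centraliser contains a Sylow 2-subgroup of G is conjugate to z. -/
theorem result {G : Type*} [Group G] [Finite G] (z : G) (hz : orderOf z = 2) (Q : Subgroup G) (hQC : Q ≤ Subgroup.centralizer ({z} : Set G)) (hQn : ∀ g ∈ Subgroup.centralizer ({z} : Set G), ∀ q ∈ Q, g * q * g⁻¹ ∈ Q) (hQ2 : IsPGroup 2 Q) (hZ : Nat.card (Subgroup.center Q) = 2) (hsq : ∀ x : Q, x ^ 2 ∈ Subgroup.center Q) (hlarge : Subgroup.centralizer (Q : Set G) ≤ Q) : (∃ P : Sylow 2 G, (P : Subgroup G) ≤ Subgroup.centralizer ({z} : Set G)) ∧ ∀ u : G, orderOf u = 2 → (∃ P : Sylow 2 G, (P : Subgroup G) ≤ Subgroup.centralizer ({u} : Set G)) → IsConj z u := by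
  classical
  have : Fact (Nat.Prime 2) := ⟨Nat.prime_two⟩
  have hz1 : z ≠ 1 := by
    intro h; rw [h, orderOf_one] at hz; omega
  -- z centralizes Q, so z ∈ Q
  have hzcent : z ∈ Subgroup.centralizer (Q : Set G) := by
    intro q hq
    have := hQC hq
    rw [Subgroup.mem_centralizer_singleton_iff] at this
    exact this
  have hzQ : z ∈ Q := hlarge hzcent
  -- center of Q is {1, z}
  have hcenter : ∀ x ∈ Q, (∀ q ∈ Q, q * x = x * q) → x = 1 ∨ x = z := by
    intro x hx hcomm
    by_contra hcon
    push Not at hcon
    obtain ⟨y, hy1, hy2⟩ := (Nat.card_eq_two_iff' (1 : Subgroup.center Q)).mp hZ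
    have hzc : (⟨z, hzQ⟩ : Q) ∈ Subgroup.center Q := by
      rw [Subgroup.mem_center_iff]
      rintro ⟨q, hq⟩
      apply Subtype.ext
      simpa using hzcent q hq
    have hxc : (⟨x, hx⟩ : Q) ∈ Subgroup.center Q := by
      rw [Subgroup.mem_center_iff]
      rintro ⟨q, hq⟩
      apply Subtype.ext
      simpa using hcomm q hq
    have e1 : (⟨⟨z, hzQ⟩, hzc⟩ : Subgroup.center Q) = y := by
      apply hy2
      intro h
      apply hz1
      have := congrArg (fun t : Subgroup.center Q => ((t : Q) : G)) h
      simpa using this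
    have e2 : (⟨⟨x, hx⟩, hxc⟩ : Subgroup.center Q) = y := by
      apply hy2
      intro h
      apply hcon.1
      have := congrArg (fun t : Subgroup.center Q => ((t : Q) : G)) h
      simpa using this
    have := congrArg (fun t : Subgroup.center Q => ((t : Q) : G)) (e2.trans e1.symm)
    exact hcon.2 (by simpa using this)
  -- any element commuting with all of Q which is nontrivial equals z
  have hkey : ∀ x : G, x ≠ 1 → (∀ q ∈ Q, q * x = x * q) → x = z := by
    intro x hx1 hcomm
    have hxQ : x ∈ Q := hlarge (fun q hq => hcomm q hq)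
    rcases hcenter x hxQ hcomm with h | h
    · exact absurd h hx1
    · exact h
  obtain ⟨P, hQP⟩ := hQ2.exists_le_sylow
  -- z is central in P
  have hzP : ∀ x ∈ (P : Subgroup G), x * z = z * x := by
    have : Nontrivial (P : Subgroup G) := by
      refine ⟨⟨⟨z, hQP hzQ⟩, 1, ?_⟩⟩
      intro h
      apply hz1
      simpa using congrArg (fun t : (P : Subgroup G) => (t : G)) h
    have hnt : Nontrivial (Subgroup.center (P : Subgroup G)) :=
      (P.2 : IsPGroup 2 (P : Subgroup G)).center_nontrivial
    obtain ⟨c, hc1⟩ := exists_ne (1 : Subgroup.center (P : Subgroup G))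
    have hcne : ((c : (P : Subgroup G)) : G) ≠ 1 := by
      intro h
      apply hc1
      apply Subtype.ext; apply Subtype.ext
      simpa using h
    have hccomm : ∀ x ∈ (P : Subgroup G), x * ((c : (P : Subgroup G)) : G) = ((c : (P : Subgroup G)) : G) * x := by
      intro x hx
      have := Subgroup.mem_center_iff.mp c.2 ⟨x, hx⟩
      simpa using congrArg (fun t : (P : Subgroup G) => (t : G)) this
    have hcz : ((c : (P : Subgroup G)) : G) = z := hkey _ hcne (fun q hq => hccomm q (hQP hq))
    intro x hx
    rw [← hcz]; exact hccomm x hx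
  refine ⟨⟨P, ?_⟩, ?_⟩
  · intro x hx
    rw [Subgroup.mem_centralizer_singleton_iff]
    exact hzP x hx
  · rintro u hu ⟨P', hP'⟩
    have hu1 : u ≠ 1 := by
      intro h; rw [h, orderOf_one] at hu; omega
    obtain ⟨g, hg⟩ := MulAction.exists_smul_eq G P' P
    have hmem : ∀ x ∈ (P : Subgroup G), g⁻¹ * x * g ∈ (P' : Subgroup G) := by
      intro x hx
      have hx' : x ∈ ((g • P' : Sylow 2 G) : Subgroup G) := by rw [hg]; exact hx
      rw [Sylow.coe_subgroup_smul, Subgroup.mem_pointwise_smul_iff_inv_smul_mem] at hx'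
      simpa [MulAut.smul_def, MulAut.conj_apply] using hx'
    have hcomm : ∀ q ∈ Q, q * (g * u * g⁻¹) = (g * u * g⁻¹) * q := by
      intro q hq
      have h1 := hP' (hmem q (hQP hq))
      rw [Subgroup.mem_centralizer_singleton_iff] at h1
      have : q * (g * u * g⁻¹) = g * ((g⁻¹ * q * g) * u) * g⁻¹ := by group
      rw [this, h1]; group
    have hne : g * u * g⁻¹ ≠ 1 := by
      intro h
      apply hu1
      have : u = g⁻¹ * (g * u * g⁻¹) * g := by group
      rw [this, h]; group
    have := hkey _ hne hcomm
    rw [isConj_comm, isConj_iff]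
    exact ⟨g, this⟩

end Cfsg.Agent.S0481
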