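import Cfsg.Statements.S0496
import Cfsg.Agent.Lib.Helper8.OrdSieveD
import Cfsg.Agent.Lib.Helper8.Ord840
import Cfsg.Agent.Lib.Helper8.Ord1080
import Cfsg.Agent.Lib.Helper8.Ord1040
import Cfsg.Agent.Lib.Helper8.Ord756
import Cfsg.Agent.Lib.Helper8.Ord720D
import Cfsg.Agent.Lib.Helper19.Ord1008

set_option autoImplicit false
open Cfsg

namespace Cfsg.Agent.S0496

open Cfsg.Agent.Lib.Helper8.OrdSieve in
/-- A non-abelian finite simple group of order at most 1092 has order 60, 168, 360, 504, 660 or 1092. -/
theorem result {G : Type*} [Group G] [Finite G] [IsSimpleGroup G]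
    (hG : ¬ IsMulCommutative G) (h : Nat.card G ≤ 1092) :
    Nat.card G = 60 ∨ Nat.card G = 168 ∨ Nat.card G = 360 ∨ Nat.card G = 504 ∨ Nat.card G = 660 ∨
      Nat.card G = 1092 := by
  have hs := sieve_sound hG
  have hpos : 0 < Nat.card G := Nat.card_pos
  rcases sieve_1092 (Nat.card G) h with h0 | h1 | hres | hok
  · omega
  · exfalso
    -- a group of order 1 is commutative
    apply hG
    have hsub : Subsingleton G := (Nat.card_eq_one_iff_unique.mp h1).1
    exact ⟨⟨fun a b => Subsingleton.elim _ _⟩⟩
  · unfold residual1092 at hres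
    simp only [List.mem_cons, List.mem_nil_iff, or_false] at hres
    rcases hres with h' | h' | h' | h' | h' | h' | h' | h' | h' | h' | h' | h' | h'
    · exact Or.inl h'
    · exact Or.inr (Or.inl h')
    · exact Or.inr (Or.inr (Or.inl h'))
    · exact Or.inr (Or.inr (Or.inr (Or.inl h')))
    · exact Or.inr (Or.inr (Or.inr (Or.inr (Or.inl h'))))
    · exact Or.inr (Or.inr (Or.inr (Or.inr (Or.inr h'))))
    · exact absurd h' no_simple_420
    · exact absurd h' Cfsg.Agent.Lib.Helper8.Ord720.no_simple_720
    · exact absurd h' no_simple_756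
    · exact absurd h' no_simple_840
    · exact absurd h' Cfsg.Agent.Lib.Helper19.Ord1008.no_simple_1008
    · exact absurd h' no_simple_1040
    · exact absurd h' no_simple_1080
  · rw [hs] at hok
    exact absurd hok (by decide)

end Cfsg.Agent.S0496
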