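import Cfsg.Statements.S0505
import Cfsg.Agent.Lib.Helper9.PLocal2
import Cfsg.Agent.Lib.Helper9.PComponent

set_option autoImplicit false
open Cfsg

namespace Cfsg.Agent.S0505

/-- Let G be a finite group of even order in which the centralizer of every involution is solvable and has trivial
core (no nontrivial normal subgroup of odd order). Then G is of characteristic 2 type. -/
theorem result {G : Type*} [Group G] [Finite G]
    (h2 : Even (Nat.card G))
    (hs : ∀ t : G, orderOf t = 2 → Group.IsSolvable (Subgroup.centralizer ({t} : Set G)))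
    (hc : ∀ t : G, orderOf t = 2 → Cfsg.oddCore (Subgroup.centralizer ({t} : Set G)) = ⊥) :
    Cfsg.IsCharacteristicTwoType G := by
  classical
  open Cfsg.Agent.Lib.Helper9 in
  refine ⟨h2, ?_⟩
  intro T hT hT1
  haveI : Fact (Nat.Prime 2) := ⟨Nat.prime_two⟩
  -- an involution in the centre of `T`
  obtain ⟨t, htT, htZ, ht2⟩ : ∃ t ∈ T, T ≤ Subgroup.centralizer ({t} : Set G) ∧ orderOf t = 2 := by
    haveI : Nontrivial ↥T := (Subgroup.nontrivial_iff_ne_bot T).mpr hT1
    have hZnt : Nontrivial ↥(Subgroup.center ↥T) := IsPGroup.center_nontrivial hT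
    have hZp : IsPGroup 2 ↥(Subgroup.center ↥T) := hT.to_subgroup _
    obtain ⟨k, hk⟩ := IsPGroup.iff_card.mp hZp
    have hk0 : k ≠ 0 := by
      rintro rfl
      rw [pow_zero] at hk
      have := (Nat.card_eq_one_iff_unique.mp hk).1
      exact not_subsingleton _ this
    have hdvd : 2 ∣ Nat.card ↥(Subgroup.center ↥T) := by
      rw [hk]; exact dvd_pow_self 2 hk0
    obtain ⟨z, hz⟩ := exists_prime_orderOf_dvd_card' 2 hdvd
    refine ⟨((z : ↥T) : G), (z : ↥T).2, ?_, ?_⟩
    · intro x hx
      rw [Subgroup.mem_centralizer_singleton_iff]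
      have hzc := z.2
      rw [Subgroup.mem_center_iff] at hzc
      have := hzc ⟨x, hx⟩
      have h3 := congrArg Subtype.val this
      simpa using h3
    · rw [Subgroup.orderOf_coe, Subgroup.orderOf_coe]; exact hz
  set C := Subgroup.centralizer ({t} : Set G) with hC
  haveI hsol : Group.IsSolvable ↥C := hs t ht2
  have hF : Cfsg.generalizedFittingSubgroup ↥C = Cfsg.pCore 2 ↥C := by
    have hlay : Cfsg.layer ↥C = ⊥ := by
      apply layer_eq_bot_of_le_isSolvable (Y := ⊤)
      · exact Group.isSolvable_of_isSolvable_injective (Subgroup.subtype_injective _)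
      · exact le_top
    unfold Cfsg.generalizedFittingSubgroup
    rw [hlay, bot_sup_eq]
    exact fittingSubgroup_eq_pCore_of_pPrimeCore_eq_bot 2 (hc t ht2)
  have h := generalizedFittingSubgroup_normalizer_eq_pCore_of_centralizer hT htT htZ hF
  unfold Cfsg.IsOfCharacteristicTwo
  rw [← h]
  exact centralizer_generalizedFittingSubgroup_le

end Cfsg.Agent.S0505
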