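import Cfsg.Statements.S0521
import Mathlib
import Cfsg.Agent.Lib.Helper4.CyclicDerivedSylow

set_option autoImplicit false
open Cfsg

namespace Cfsg.Agent.S0521


/-- Let X be a finite solvable group of odd order, p a prime and S a Sylow p-subgroup of X whose commutator subgroup is
cyclic. Then the product of the largest normal subgroup of X of order prime to p with S is a normal subgroup of X. -/
theorem result {X : Type*} [Group X] [Finite X] [Group.IsSolvable X]
    (hX : Odd (Nat.card X)) (p : ℕ) [Fact p.Prime] (S : Sylow p X) (hS : IsCyclic (commutator (S : Subgroup X))) :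
    (Cfsg.pPrimeCore p X ⊔ (S : Subgroup X)).Normal := by
  classical
  set K := Cfsg.pPrimeCore p X with hK
  haveI hKn : K.Normal := Cfsg.Agent.Lib.Helper1.pPrimeCore_normal p X
  let π : X →* X ⧸ K := QuotientGroup.mk' K
  have hπ : Function.Surjective π := QuotientGroup.mk'_surjective K
  have hodd : Odd (Nat.card (X ⧸ K)) :=
    Odd.of_dvd_nat hX (Subgroup.card_quotient_dvd_card K)
  have hO : Cfsg.pPrimeCore p (X ⧸ K) = ⊥ := Cfsg.Agent.Lib.Helper9.pPrimeCore_quotient_eq_bot p
  let T : Sylow p (X ⧸ K) := S.mapSurjective hπ
  have hTcoe : (T : Subgroup (X ⧸ K)) = (S : Subgroup X).map π := Sylow.coe_mapSurjective hπ S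
  have hcyc : IsCyclic (commutator (T : Subgroup (X ⧸ K))) := by
    let f : (S : Subgroup X) →* ((S : Subgroup X).map π) := π.subgroupMap (S : Subgroup X)
    have hf : Function.Surjective f := MonoidHom.subgroupMap_surjective _ _
    have h1 : (commutator (S : Subgroup X)).map f = commutator ((S : Subgroup X).map π) := by
      rw [_root_.commutator_def, _root_.commutator_def, Subgroup.map_commutator,
        Subgroup.map_top_of_surjective f hf]
    haveI : IsCyclic ((commutator (S : Subgroup X)).map f) :=
      isCyclic_of_surjective (f.subgroupMap (commutator (S : Subgroup X)))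
        (MonoidHom.subgroupMap_surjective _ _)
    have h2 : IsCyclic (commutator ((S : Subgroup X).map π)) := h1 ▸ this
    exact h2
  have hTP := Cfsg.Agent.Lib.Helper4.sylow_eq_pCore_of_cyclic_commutator hodd hO T hcyc
  haveI hTn : (T : Subgroup (X ⧸ K)).Normal := by
    rw [hTP]; exact Cfsg.Agent.Lib.Helper1.pCore_normal p _
  have hcomap : K ⊔ (S : Subgroup X) = (T : Subgroup (X ⧸ K)).comap π := by
    rw [hTcoe, Subgroup.comap_map_eq, QuotientGroup.ker_mk', sup_comm]
  rw [hcomap]
  exact hTn.comap π

end Cfsg.Agent.S0521
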