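import Cfsg.Statements.S0549
import Mathlib

set_option autoImplicit false
open Cfsg

namespace Cfsg.Agent.S0549


/-- Let U be a maximal subgroup of a finite group G whose normal core is trivial, and N a nontrivial normal subgroup with centralizer C. Then C ∩ U = 1, and either C = 1 or C is a minimal normal subgroup of G. -/
theorem result {G : Type*} [Group G] [Finite G] (U : Subgroup G) (hU : IsCoatom U) (hcore : U.normalCore = ⊥) (N : Subgroup G) [N.Normal] (hN : N ≠ ⊥) : Subgroup.centralizer (N : Set G) ⊓ U = ⊥ ∧ (Subgroup.centralizer (N : Set G) = ⊥ ∨ (Subgroup.centralizer (N : Set G) ≠ ⊥ ∧ ∀ K : Subgroup G, K.Normal → K ≤ Subgroup.centralizer (N : Set G) → K = ⊥ ∨ K = Subgroup.centralizer (N : Set G))) := by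
  -- general fact: a nontrivial normal subgroup supplements U
  have hsup : ∀ M : Subgroup G, M.Normal → M ≠ ⊥ → U ⊔ M = ⊤ := by
    intro M hM hM1
    have hnle : ¬ M ≤ U := by
      intro hle
      have : M ≤ U.normalCore := (Subgroup.normal_le_normalCore (hN := hM)).mpr hle
      rw [hcore] at this
      exact hM1 (le_bot_iff.mp this)
    by_contra hne
    have hlt : U < U ⊔ M := lt_of_le_of_ne le_sup_left (fun h => hnle (h ▸ le_sup_right))
    exact hne (hU.2 _ hlt)
  set C : Subgroup G := Subgroup.centralizer (N : Set G) with hC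
  have hCn : C.Normal := Subgroup.normal_centralizer
  -- D = C ⊓ U is normal
  have hD : (C ⊓ U).Normal := by
    rw [← Subgroup.normalizer_eq_top_iff, eq_top_iff, ← hsup N inferInstance hN, sup_le_iff]
    constructor
    · intro u hu
      rw [Subgroup.mem_normalizer_iff]
      intro x
      constructor
      · rintro ⟨hx1, hx2⟩
        exact ⟨hCn.conj_mem x hx1 u, U.mul_mem (U.mul_mem hu hx2) (U.inv_mem hu)⟩
      · rintro ⟨hx1, hx2⟩
        refine ⟨?_, ?_⟩
        · have := hCn.conj_mem _ hx1 u⁻¹
          simpa [mul_assoc] using this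
        · have := U.mul_mem (U.mul_mem (U.inv_mem hu) hx2) hu
          simpa [mul_assoc] using this
    · intro n hn
      rw [Subgroup.mem_normalizer_iff]
      intro x
      have key : ∀ y ∈ C, n * y * n⁻¹ = y := by
        intro y hy
        have := hy n hn
        rw [this]; group
      constructor
      · rintro ⟨hx1, hx2⟩
        rw [key x hx1]; exact ⟨hx1, hx2⟩
      · rintro ⟨hx1, hx2⟩
        have hxC : x ∈ C := by
          have := hCn.conj_mem _ hx1 n⁻¹
          simpa [mul_assoc] using this
        rw [key x hxC] at hx2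
        exact ⟨hxC, hx2⟩
  have hDbot : C ⊓ U = ⊥ := by
    have : C ⊓ U ≤ U.normalCore := (Subgroup.normal_le_normalCore (hN := hD)).mpr inf_le_right
    rw [hcore] at this
    exact le_bot_iff.mp this
  refine ⟨hDbot, ?_⟩
  by_cases hC1 : C = ⊥
  · exact Or.inl hC1
  · refine Or.inr ⟨hC1, ?_⟩
    intro K hK hKC
    by_cases hK1 : K = ⊥
    · exact Or.inl hK1
    · right
      refine le_antisymm hKC ?_
      intro c hc
      have htop := hsup K hK hK1
      have hmem : c ∈ ((U ⊔ K : Subgroup G) : Set G) := by rw [htop]; trivial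
      have := hK
      rw [Subgroup.mul_normal] at hmem
      obtain ⟨u, hu, k, hk, e⟩ := hmem
      have hu' : u ∈ C ⊓ U := by
        refine ⟨?_, hu⟩
        have : u = c * k⁻¹ := by rw [← e]; group
        rw [this]
        exact C.mul_mem hc (C.inv_mem (hKC hk))
      rw [hDbot, Subgroup.mem_bot] at hu'
      simp only [hu', one_mul] at e
      rw [← e]; exact hk

end Cfsg.Agent.S0549
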