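import Cfsg.Statements.S1264
import Cfsg.Agent.Lib.Helper8.FittingSub
import Cfsg.Agent.Lib.Helper8.Layer
import Cfsg.Agent.Lib.Helper8.Conj

set_option autoImplicit false
open Cfsg

namespace Cfsg.Agent.S1264

open Cfsg.Agent.Lib.Helper8 Cfsg.Agent.Lib.Helper1 in
theorem aux {G : Type*} [Group G] [Finite G] (N : Subgroup G)
    (hN : N ≤ Subgroup.centralizer (Cfsg.fittingSubgroup G : Set G))
    (hnorm : Subgroup.centralizer (Cfsg.fittingSubgroup G : Set G) ≤ Subgroup.normalizer (N : Set G))
    (hsolv : Group.IsSolvable ↥N) : N ≤ Cfsg.fittingSubgroup G := by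
  set F := Cfsg.fittingSubgroup G with hF
  set C := Subgroup.centralizer (F : Set G) with hC
  have hFn : F.Normal := fittingSubgroup_normal G
  have hCn : C.Normal := Subgroup.normal_centralizer
  -- the derived series of N, in G
  let D : ℕ → Subgroup G := fun i => (fun A : Subgroup G => ⁅A, A⁆)^[i] N
  have hD0 : D 0 = N := rfl
  have hDs : ∀ i, D (i + 1) = ⁅D i, D i⁆ := fun i => Function.iterate_succ_apply' _ i N
  have hDle : ∀ i, D i ≤ N := by
    intro i
    induction i with
    | zero => exact le_rfl
    | succ i ih => rw [hDs]; exact (Subgroup.commutator_le_self (D i)).trans ih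
  have hDnorm : ∀ i, C ≤ Subgroup.normalizer ((D i : Subgroup G) : Set G) := by
    intro i
    induction i with
    | zero => exact hnorm
    | succ i ih =>
      intro c hc
      have h1 := mem_normalizer_iff_map_conj.mp (ih hc)
      rw [mem_normalizer_iff_map_conj, hDs, Subgroup.map_commutator, h1]
  have hDder : ∀ i, D i = (derivedSeries ↥N i).map N.subtype := by
    intro i
    induction i with
    | zero => rw [hD0, derivedSeries_zero, ← MonoidHom.range_eq_map, Subgroup.range_subtype]
    | succ i ih => rw [hDs, derivedSeries_succ, Subgroup.map_commutator, ← ih]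
  obtain ⟨k, hk⟩ := (Group.isSolvable_def ↥N).mp hsolv
  have hDk : D k = ⊥ := by rw [hDder, hk, Subgroup.map_bot]
  -- subnormality
  have hDsn : ∀ i, (D i).IsSubnormal := by
    intro i
    have hle : D i ≤ C := (hDle i).trans hN
    have hn : ((D i).subgroupOf C).Normal :=
      (Subgroup.normal_subgroupOf_iff_le_normalizer hle).mpr (hDnorm i)
    exact Subgroup.IsSubnormal.trans hle hn.isSubnormal hCn.isSubnormal
  have hCF : ⁅F, C⁆ = ⊥ := by
    rw [Subgroup.commutator_comm, Subgroup.commutator_eq_bot_iff_le_centralizer]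
  have key : ∀ m j, j + m = k → D j ≤ F := by
    intro m
    induction m with
    | zero =>
      intro j hj
      rw [Nat.add_zero] at hj
      rw [hj, hDk]; exact bot_le
    | succ m ih =>
      intro j hj
      have h1 : D (j + 1) ≤ F := ih (j + 1) (by omega)
      have h2 : ⁅⁅D j, D j⁆, D j⁆ = ⊥ := by
        rw [eq_bot_iff, ← hCF]
        apply Subgroup.commutator_mono
        · rw [← hDs]; exact h1
        · exact (hDle j).trans hN
      exact subnormal_nilpotent_le_fitting (D j) (hDsn j)
        (isNilpotent_of_commutator_commutator_eq_bot (D j) h2)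
  exact key k 0 (by omega)

/-- Let G be finite, C = C_G(F(G)) the centralizer of the Fitting subgroup, and N a solvable subgroup of C normalized by C. Then N ≤ Z(F(G)). -/
theorem result {G : Type*} [Group G] [Finite G] (N : Subgroup G) (hN : N ≤ Subgroup.centralizer (Cfsg.fittingSubgroup G : Set G)) (hnorm : Subgroup.centralizer (Cfsg.fittingSubgroup G : Set G) ≤ Subgroup.normalizer (N : Set G)) (hsolv : Group.IsSolvable ↥N) : N ≤ (Subgroup.center ↥(Cfsg.fittingSubgroup G)).map (Cfsg.fittingSubgroup G).subtype := by
  open Cfsg.Agent.Lib.Helper8 in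
  intro x hx
  rw [mem_center_map]
  refine ⟨aux N hN hnorm hsolv hx, ?_⟩
  intro b hb
  have := hN hx
  rw [Subgroup.mem_centralizer_iff] at this
  exact this b hb

end Cfsg.Agent.S1264
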