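import Cfsg.Statements.S0552
import Mathlib
import Cfsg.Agent.S1264
import Cfsg.Agent.Lib.Helper1.Fitting

set_option autoImplicit false
open Cfsg

namespace Cfsg.Agent.S0552


/-- Let σ be an automorphism of a finite solvable group G fixing every element of the Fitting subgroup. If σ is not the identity then the order of σ and the order of G have a common prime factor. -/
theorem result {G : Type*} [Group G] [Finite G] [Group.IsSolvable G] (σ : G ≃* G) (hσ : ∀ x ∈ Cfsg.fittingSubgroup G, σ x = x) (hne : σ ≠ MulEquiv.refl G) : ¬ (orderOf σ).Coprime (Nat.card G) := by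
  intro hcop
  apply hne
  set F := Cfsg.fittingSubgroup G with hFdef
  have hFn : F.Normal := Cfsg.Agent.Lib.Helper1.fittingSubgroup_normal G
  have hCn : (Subgroup.centralizer (F : Set G)).Normal := Subgroup.normal_centralizer
  have hCF : Subgroup.centralizer (F : Set G) ≤ F := by
    have h1 := @Cfsg.Agent.S1264.result G _ _ (Subgroup.centralizer (F : Set G)) le_rfl
      Subgroup.le_normalizer inferInstance
    intro x hx
    obtain ⟨y, _, rfl⟩ := h1 hx
    exact y.2
  -- key: g⁻¹ * σ g centralizes F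
  have hkey : ∀ g : G, g⁻¹ * σ g ∈ Subgroup.centralizer (F : Set G) := by
    intro g
    rw [Subgroup.mem_centralizer_iff]
    intro x hx
    have h1 : g * x * g⁻¹ ∈ F := hFn.conj_mem x hx g
    have h2 := hσ _ h1
    rw [map_mul, map_mul, map_inv, hσ x hx] at h2
    -- σ g * x * (σ g)⁻¹ = g * x * g⁻¹
    calc x * (g⁻¹ * σ g) = g⁻¹ * (g * x * g⁻¹) * σ g := by group
      _ = g⁻¹ * (σ g * x * (σ g)⁻¹) * σ g := by rw [h2]
      _ = g⁻¹ * σ g * x := by group
  have hfix : ∀ g : G, σ (g⁻¹ * σ g) = g⁻¹ * σ g := fun g => hσ _ (hCF (hkey g))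
  have hpow : ∀ (g : G) (n : ℕ), (σ ^ n) g = g * (g⁻¹ * σ g) ^ n := by
    intro g n
    induction n with
    | zero => simp
    | succ n ih =>
      rw [pow_succ', MulAut.mul_apply, ih, map_mul, map_pow, hfix g, pow_succ', ← mul_assoc,
        mul_inv_cancel_left]
  apply MulEquiv.ext
  intro g
  have h1 := hpow g (orderOf σ)
  rw [pow_orderOf_eq_one, MulAut.one_apply] at h1
  have h2 : (g⁻¹ * σ g) ^ orderOf σ = 1 := by
    have : g * (g⁻¹ * σ g) ^ orderOf σ = g * 1 := by rw [mul_one]; exact h1.symm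
    exact mul_left_cancel this
  have h3 : orderOf (g⁻¹ * σ g) ∣ orderOf σ := orderOf_dvd_of_pow_eq_one h2
  have h4 : orderOf (g⁻¹ * σ g) ∣ Nat.card G := orderOf_dvd_natCard _
  have h5 : orderOf (g⁻¹ * σ g) = 1 := Nat.eq_one_of_dvd_coprimes hcop h3 h4
  rw [orderOf_eq_one_iff, inv_mul_eq_one] at h5
  rw [MulEquiv.refl_apply]
  exact h5.symm

end Cfsg.Agent.S0552
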