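import Cfsg.Statements.S0554
import Mathlib
import Cfsg.Agent.Lib.Helper1.MinNormal

set_option autoImplicit false
open Cfsg

namespace Cfsg.Agent.S0554

open scoped Pointwise
open Cfsg.Agent.Lib.Helper1

universe u

theorem set_mul_normal_comm {G : Type*} [Group G] (Y : Set G) (N : Subgroup G) [hN : N.Normal] :
    Y * (N : Set G) = (N : Set G) * Y := by
  ext x
  constructor
  · rintro ⟨y, hy, n, hn, rfl⟩
    exact ⟨y * n * y⁻¹, hN.conj_mem n hn y, y, hy, by group⟩
  · rintro ⟨n, hn, y, hy, rfl⟩
    refine ⟨y, hy, y⁻¹ * n * y, ?_, by group⟩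
    have := hN.conj_mem n hn y⁻¹
    simpa using this

theorem list_prod_mul_normal {G : Type*} [Group G] (N : Subgroup G) [N.Normal] :
    ∀ (L : List (Set G)), (∃ X ∈ L, X * (N : Set G) = X) → L.prod * (N : Set G) = L.prod
  | [], h => by
    obtain ⟨X, hX, -⟩ := h
    simp at hX
  | X :: L', h => by
    rw [List.prod_cons, mul_assoc]
    obtain ⟨X0, hX0, hX0N⟩ := h
    rcases List.mem_cons.mp hX0 with h1 | h1
    · rw [set_mul_normal_comm L'.prod N, ← mul_assoc, ← h1, hX0N]
    · rw [list_prod_mul_normal N L' ⟨X0, h1, hX0N⟩]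

theorem aux : ∀ (n : ℕ) (G : Type u) [Group G] [Finite G] [Group.IsSolvable G],
    Nat.card G = n → ∀ (t : ℕ) (p : Fin t → ℕ) (_hp : ∀ i, (p i).Prime)
    (_hall : ∀ q : ℕ, q.Prime → q ∣ Nat.card G → ∃ i, p i = q) (S : (i : Fin t) → Sylow (p i) G),
    ∀ g : G, g ∈ (List.ofFn (fun i => ((S i : Subgroup G) : Set G))).prod := by
  intro n
  induction n using Nat.strong_induction_on with
  | _ n ih =>
  intro G _ _ _ hn t p hp hall S g
  by_cases h1 : Nat.card G = 1
  · have hsub : Subsingleton G := (Nat.card_eq_one_iff_unique.mp h1).1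
    rw [Set.mem_prod_list_ofFn]
    refine ⟨fun i => ⟨1, Subgroup.one_mem _⟩, ?_⟩
    exact Subsingleton.elim _ _
  · have hnt : Nontrivial G := by
      rw [← Finite.one_lt_card_iff_nontrivial]
      have : 0 < Nat.card G := Nat.card_pos
      omega
    obtain ⟨N, hN⟩ := exists_isMinNormal (G := G)
    obtain ⟨q, hq, hNq⟩ := hN.exists_prime_isPGroup
    have hNn : N.Normal := hN.1
    have hN1 : N ≠ ⊥ := hN.2.1
    have hqdvd : q ∣ Nat.card G := by
      have h2 : q ∣ Nat.card N := by
        have : Fact q.Prime := ⟨hq⟩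
        obtain ⟨k, hk⟩ := IsPGroup.iff_card.mp hNq
        have hk0 : k ≠ 0 := by
          intro h0
          rw [h0, pow_zero] at hk
          exact hN1 (Subgroup.card_eq_one.mp hk)
        rw [hk]
        exact dvd_pow_self q hk0
      exact h2.trans (Subgroup.card_subgroup_dvd_card N)
    obtain ⟨j, hj⟩ := hall q hq hqdvd
    have hNSj : N ≤ (S j : Subgroup G) := by
      have : IsPGroup (p j) N := by rw [hj]; exact hNq
      exact this.le_sylow_of_normal (S j)
    -- quotient
    have hπ : Function.Surjective (QuotientGroup.mk' N) := QuotientGroup.mk'_surjective N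
    have hcardlt : Nat.card (G ⧸ N) < n := by
      rw [← hn, ← Subgroup.index_eq_card]
      have hmul := Subgroup.card_mul_index N
      have hP1 : 1 < Nat.card N := by
        rw [Subgroup.one_lt_card_iff_ne_bot]; exact hN1
      have hidx : 0 < N.index := Nat.pos_of_ne_zero (Subgroup.index_ne_zero_of_finite)
      nlinarith
    have hallQ : ∀ q' : ℕ, q'.Prime → q' ∣ Nat.card (G ⧸ N) → ∃ i, p i = q' := by
      intro q' hq' hd
      apply hall q' hq'
      rw [← Subgroup.index_eq_card] at hd
      exact hd.trans (Subgroup.index_dvd_card N)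
    have : ∀ i, Fact (p i).Prime := fun i => ⟨hp i⟩
    have hQ := ih _ hcardlt (G ⧸ N) rfl t p hp hallQ (fun i => (S i).mapSurjective hπ)
      (QuotientGroup.mk' N g)
    have himg : (List.ofFn (fun i => ((((S i).mapSurjective hπ : Sylow (p i) (G ⧸ N)) : Subgroup (G ⧸ N)) : Set (G ⧸ N)))).prod
        = (QuotientGroup.mk' N) '' (List.ofFn (fun i => ((S i : Subgroup G) : Set G))).prod := by
      rw [Set.image_list_prod, List.map_ofFn]
      rfl
    rw [himg] at hQ
    obtain ⟨g', hg', hgg'⟩ := hQ
    have hmemN : g'⁻¹ * g ∈ N := by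
      rw [← QuotientGroup.eq_one_iff, ← QuotientGroup.mk'_apply, map_mul, map_inv, hgg']
      exact inv_mul_cancel _
    have hprod := list_prod_mul_normal N (List.ofFn (fun i => ((S i : Subgroup G) : Set G)))
      ⟨((S j : Subgroup G) : Set G), by
        rw [List.mem_ofFn]; exact ⟨j, rfl⟩, by
        ext x
        constructor
        · rintro ⟨s, hs, m, hm, rfl⟩
          exact Subgroup.mul_mem _ hs (hNSj hm)
        · intro hx
          exact ⟨x, hx, 1, N.one_mem, mul_one x⟩⟩
    rw [← hprod]
    exact ⟨g', hg', g'⁻¹ * g, hmemN, by group⟩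


/-- Let G be a finite solvable group and let S assign to each of t distinct primes, including every prime divisor of the order of G, a Sylow subgroup of G. Then every element of G is a product s_0 s_1 ⋯ s_(t-1) with s_i in S i, the factors taken in the given order. -/
theorem result {G : Type*} [Group G] [Finite G] [Group.IsSolvable G] (t : ℕ) (p : Fin t → ℕ) (hp : ∀ i, (p i).Prime) (hinj : Function.Injective p) (hall : ∀ q : ℕ, q.Prime → q ∣ Nat.card G → ∃ i, p i = q) (S : (i : Fin t) → Sylow (p i) G) : ∀ g : G, ∃ s : (i : Fin t) → G, (∀ i, s i ∈ (S i : Subgroup G)) ∧ g = (List.ofFn s).prod := by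
  intro g
  have := aux _ G rfl t p hp hall S g
  rw [Set.mem_prod_list_ofFn] at this
  obtain ⟨f, hf⟩ := this
  exact ⟨fun i => (f i : G), fun i => (f i).2, hf.symm⟩

end Cfsg.Agent.S0554
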