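import Cfsg.Statements.S0555
import Mathlib

set_option autoImplicit false
open Cfsg

namespace Cfsg.Agent.S0555

open scoped commutatorElement

/-- Let i ≥ 1. If in the derived series of a group the quotient of the i-th term by the (i+1)-st and the quotient of the (i+1)-st by the (i+2)-nd are both cyclic, then the (i+1)-st and (i+2)-nd terms coincide. -/
theorem result {G : Type*} [Group G] (i : ℕ) (hi : 1 ≤ i) (h₁ : IsCyclic (↥(derivedSeries G i) ⧸ (derivedSeries G (i + 1)).subgroupOf (derivedSeries G i))) (h₂ : IsCyclic (↥(derivedSeries G (i + 1)) ⧸ (derivedSeries G (i + 2)).subgroupOf (derivedSeries G (i + 1)))) : derivedSeries G (i + 1) = derivedSeries G (i + 2) := by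
  classical
  set A := derivedSeries G i with hA
  set B := derivedSeries G (i + 1) with hB
  set C := derivedSeries G (i + 2) with hC
  have hBA : B = ⁅A, A⁆ := derivedSeries_succ G i
  have hCB : C = ⁅B, B⁆ := derivedSeries_succ G (i + 1)
  have hCleB : C ≤ B := derivedSeries_antitone G (by omega)
  have hBleA : B ≤ A := derivedSeries_antitone G (by omega)
  have hAcomm : A ≤ commutator G := by
    rw [← derivedSeries_one]; exact derivedSeries_antitone G hi
  haveI hCn : C.Normal := derivedSeries_normal G (i + 2)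
  haveI hBn : B.Normal := derivedSeries_normal G (i + 1)
  apply le_antisymm _ hCleB
  -- elementwise cyclicity of A/B and B/C
  obtain ⟨qa, hqa⟩ := h₁.exists_generator
  obtain ⟨⟨a, haA⟩, rfl⟩ := QuotientGroup.mk_surjective qa
  have hAgen : ∀ x ∈ A, ∃ n : ℤ, (a ^ n)⁻¹ * x ∈ B := by
    intro x hx
    obtain ⟨n, hn⟩ := Subgroup.mem_zpowers_iff.mp (hqa (QuotientGroup.mk ⟨x, hx⟩))
    refine ⟨n, ?_⟩
    rw [← QuotientGroup.mk_zpow, QuotientGroup.eq, Subgroup.mem_subgroupOf] at hn
    simpa only [Subgroup.coe_mul, Subgroup.coe_inv, Subgroup.coe_zpow] using hn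
  obtain ⟨qb, hqb⟩ := h₂.exists_generator
  obtain ⟨⟨b, hbB⟩, rfl⟩ := QuotientGroup.mk_surjective qb
  have hBgen : ∀ y ∈ B, ∃ n : ℤ, (b ^ n)⁻¹ * y ∈ C := by
    intro y hy
    obtain ⟨n, hn⟩ := Subgroup.mem_zpowers_iff.mp (hqb (QuotientGroup.mk ⟨y, hy⟩))
    refine ⟨n, ?_⟩
    rw [← QuotientGroup.mk_zpow, QuotientGroup.eq, Subgroup.mem_subgroupOf] at hn
    simpa only [Subgroup.coe_mul, Subgroup.coe_inv, Subgroup.coe_zpow] using hn
  -- pass to Q = G ⧸ C
  let π := QuotientGroup.mk' C
  have hπ : Function.Surjective π := QuotientGroup.mk'_surjective C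
  set Bbar : Subgroup (G ⧸ C) := B.map π with hBbar
  haveI hBbarn : Bbar.Normal := hBn.map π hπ
  have hBbarcyc : IsCyclic Bbar := by
    refine ⟨⟨⟨π b, Subgroup.mem_map_of_mem π hbB⟩, ?_⟩⟩
    rintro ⟨_, y, hy, rfl⟩
    obtain ⟨n, hn⟩ := hBgen y hy
    refine ⟨n, Subtype.ext ?_⟩
    simp only [Subgroup.coe_zpow]
    rw [← map_zpow]
    exact (QuotientGroup.eq).mpr hn
  -- commutator of Q centralizes Bbar
  have hcent : commutator (G ⧸ C) ≤ Subgroup.centralizer (Bbar : Set (G ⧸ C)) := by
    let _ := (hBbarcyc.mulAutMulEquiv _).toMonoidHom.commGroupOfInjective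
      (hBbarcyc.mulAutMulEquiv _).injective
    have h := Abelianization.commutator_subset_ker Bbar.normalizerMonoidHom
    rw [Subgroup.normalizerMonoidHom_ker, Subgroup.normalizer_eq_top,
      ← Subgroup.map_subtype_le_map_subtype, Subgroup.map_subgroupOf_eq_of_le le_top] at h
    refine le_trans ?_ h
    rw [commutator_def, commutator_def, Subgroup.map_commutator]
    apply Subgroup.commutator_mono <;>
    · rw [← MonoidHom.range_eq_map, Subgroup.range_subtype]
  -- elements of A commute with elements of B modulo C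
  have hAB : ∀ x ∈ A, ∀ y ∈ B, π y * π x = π x * π y := by
    intro x hx y hy
    have h1 : π x ∈ commutator (G ⧸ C) := by
      have : π x ∈ (commutator G).map π := Subgroup.mem_map_of_mem π (hAcomm hx)
      rw [commutator_def, Subgroup.map_commutator, Subgroup.map_top_of_surjective π hπ] at this
      rwa [commutator_def]
    have h2 := hcent h1
    rw [Subgroup.mem_centralizer_iff] at h2
    exact h2 (π y) (Subgroup.mem_map_of_mem π hy)
  -- now A is abelian modulo C
  rw [hBA, Subgroup.commutator_le]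
  intro x hx x' hx'
  obtain ⟨n, hn⟩ := hAgen x hx
  obtain ⟨m, hm⟩ := hAgen x' hx'
  set y := (a ^ n)⁻¹ * x with hy
  set y' := (a ^ m)⁻¹ * x' with hy'
  have ex : x = a ^ n * y := by rw [hy]; group
  have ex' : x' = a ^ m * y' := by rw [hy']; group
  have han : a ^ n ∈ A := A.zpow_mem haA n
  have ham : a ^ m ∈ A := A.zpow_mem haA m
  rw [← QuotientGroup.eq_one_iff, ← QuotientGroup.mk'_apply]
  change π ⁅x, x'⁆ = 1
  rw [map_commutatorElement, commutatorElement_eq_one_iff_commute, ex, ex', map_mul, map_mul]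
  have c1 : Commute (π (a ^ n)) (π (a ^ m)) := by
    rw [map_zpow, map_zpow]
    exact (Commute.refl (π a)).zpow_zpow n m
  have c2 : Commute (π (a ^ n)) (π y') := (hAB _ han _ hm).symm
  have c3 : Commute (π y) (π (a ^ m)) := hAB _ ham _ hn
  have c4 : Commute (π y) (π y') := (hAB _ (hBleA hn) _ hm).symm
  exact (c1.mul_right c2).mul_left (c3.mul_right c4)

end Cfsg.Agent.S0555
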