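import Cfsg.Statements.S0558
import Cfsg.Agent.Lib.Helper29.HallTransfer
import Cfsg.Agent.Lib.Helper29.PrimeComplements

set_option autoImplicit false
open Cfsg

namespace Cfsg.Agent.S0558

open Subgroup
open scoped commutatorElement

section

variable {G : Type*} [Group G] [Finite G] (H : Subgroup G)

omit [Finite G] in
theorem mem_map_subtype_iff (P : Subgroup H) (h : H) :
    (h : G) ∈ P.map H.subtype ↔ h ∈ P := by
  constructor
  · intro hh
    obtain ⟨y, hy, hyx⟩ := Subgroup.mem_map.mp hh
    have : y = h := Subtype.ext hyx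
    rwa [← this]
  · intro hh
    exact Subgroup.mem_map_of_mem H.subtype hh

omit [Finite G] in
theorem normal_of_normalizer_map_eq (P : Subgroup H)
    (hN : Subgroup.normalizer ((P.map H.subtype : Subgroup G) : Set G) = H) : P.Normal := by
  constructor
  intro n hn h
  have hh : (h : G) ∈ Subgroup.normalizer ((P.map H.subtype : Subgroup G) : Set G) := by
    rw [hN]; exact h.2
  rw [Subgroup.mem_normalizer_iff] at hh
  have := (hh (n : G)).mp ((mem_map_subtype_iff H P n).mpr hn)
  exact (mem_map_subtype_iff H P (h * n * h⁻¹)).mp this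

theorem not_dvd_index_map {p : ℕ} [Fact p.Prime] (P : Sylow p H)
    (hN : Subgroup.normalizer (((P : Subgroup H).map H.subtype : Subgroup G) : Set G) = H) :
    ¬ p ∣ ((P : Subgroup H).map H.subtype).index := by
  set PG : Subgroup G := (P : Subgroup H).map H.subtype with hPG
  have hcard : Nat.card PG = p ^ (Nat.card H).factorization p := by
    rw [hPG, Subgroup.card_map_of_injective H.subtype_injective]
    exact P.card_eq_multiplicity
  have key := Sylow.card_quotient_normalizer_modEq_card_quotient hcard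
  have e1 : Nat.card (normalizer (PG : Set G) ⧸ PG.comap (normalizer (PG : Set G)).subtype)
      = PG.relIndex (normalizer (PG : Set G)) := (Subgroup.index_eq_card _).symm
  have e2 : PG.relIndex H = (P : Subgroup H).index := by
    rw [Subgroup.relIndex, hPG, Subgroup.subgroupOf,
      Subgroup.comap_map_eq_self_of_injective H.subtype_injective]
  rw [e1, hN, e2, ← Subgroup.index_eq_card] at key
  intro hdvd
  have : p ∣ (P : Subgroup H).index := (Nat.modEq_zero_iff_dvd.mp
    (key.trans (Nat.modEq_zero_iff_dvd.mpr hdvd)))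
  exact P.not_dvd_index this


end

theorem result {G : Type*} [Group G] [Finite G] (H : Subgroup G) (hnot : ∀ p : ℕ, p.Prime → ∀ P : Sylow p G, (P : Subgroup G) ≠ H) (hnorm : ∀ p : ℕ, p.Prime → p ∣ Nat.card H → ∀ P : Sylow p H, Subgroup.normalizer (((P : Subgroup H).map H.subtype : Subgroup G) : Set G) = H) : ∃ N : Subgroup G, N.Normal ∧ Subgroup.IsComplement' N H := by
  classical
  -- every Sylow subgroup of `H` is normal in `H`
  have hSylN : ∀ (p : ℕ) (_ : Fact p.Prime) (P : Sylow p H), (P : Subgroup H).Normal := by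
    intro p hp P
    by_cases hd : p ∣ Nat.card H
    · exact normal_of_normalizer_map_eq H _ (hnorm p hp.out hd P)
    · have hc : Nat.card (P : Subgroup H) = 1 := by
        have := P.card_eq_multiplicity
        rw [Nat.factorization_eq_zero_of_not_dvd hd, pow_zero] at this
        exact this
      have : (P : Subgroup H) = ⊥ := Subgroup.card_eq_one.mp hc
      rw [this]; infer_instance
  have hnil : Group.IsNilpotent H := ((Group.isNilpotent_of_finite_tfae (G := H)).out 0 3).mpr hSylN
  obtain ⟨r, hr⟩ := (Subgroup.isNilpotent_iff_lowerCentralSeries H).mp hnil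
  apply Cfsg.Agent.Lib.Helper29.exists_normal_complement_of_prime_complements
  intro p hp hpd
  have : Fact p.Prime := ⟨hp⟩
  obtain ⟨P⟩ : Nonempty (Sylow p H) := inferInstance
  set PG : Subgroup G := (P : Subgroup H).map H.subtype with hPG
  have hPGle : PG ≤ H := Subgroup.map_subtype_le _
  have hPGidx : ¬ p ∣ PG.index := not_dvd_index_map H P (hnorm p hp hpd P)
  have hPGp : IsPGroup p PG := P.isPGroup'.map H.subtype
  have hPGcard : Nat.card PG = p ^ (Nat.card H).factorization p := by
    rw [hPG, Subgroup.card_map_of_injective H.subtype_injective]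
    exact P.card_eq_multiplicity
  -- a second prime
  have hPne : (P : Subgroup H).index ≠ 1 := by
    intro h1
    rw [Subgroup.index_eq_one] at h1
    apply hnot p hp (hPGp.toSylow hPGidx)
    rw [IsPGroup.toSylow_coe, hPG, h1, ← MonoidHom.range_eq_map, Subgroup.range_subtype]
  obtain ⟨q, hq, hqd⟩ := Nat.exists_prime_and_dvd hPne
  have : Fact q.Prime := ⟨hq⟩
  have hqH : q ∣ Nat.card H := hqd.trans (Subgroup.index_dvd_card _)
  have hqp : q ≠ p := by
    rintro rfl
    exact P.not_dvd_index hqd
  obtain ⟨Q⟩ : Nonempty (Sylow q H) := inferInstance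
  set QG : Subgroup G := (Q : Subgroup H).map H.subtype with hQG
  have hQGidx : ¬ q ∣ QG.index := not_dvd_index_map H Q (hnorm q hq hqH Q)
  have hQGp : IsPGroup q QG := Q.isPGroup'.map H.subtype
  have hQGnorm : Subgroup.normalizer (QG : Set G) = H := hnorm q hq hqH Q
  -- `PG` centralizes `QG`
  have hcent : PG ≤ Subgroup.centralizer (QG : Set G) := by
    intro x hx
    rw [Subgroup.mem_centralizer_iff]
    intro y hy
    obtain ⟨x', hx', rfl⟩ := Subgroup.mem_map.mp hx
    obtain ⟨y', hy', rfl⟩ := Subgroup.mem_map.mp hy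
    have hdis : Disjoint (P : Subgroup H) (Q : Subgroup H) :=
      IsPGroup.disjoint_of_ne p q hqp.symm _ _ P.isPGroup' Q.isPGroup'
    have := Subgroup.commute_of_normal_of_disjoint _ _ (hSylN p ⟨hp⟩ P) (hSylN q ⟨hq⟩ Q) hdis x' y' hx' hy'
    have h2 := congrArg (H.subtype) this.eq
    simpa using h2.symm
  -- control of fusion in `PG`
  have hfus : ∀ x ∈ PG, ∀ g : G, g⁻¹ * x * g ∈ PG → ∃ h ∈ H, g⁻¹ * x * g = h⁻¹ * x * h := by
    intro x hx g hxg
    have := Sylow.conj_eq_normalizer_conj_of_mem_centralizer (hQGp.toSylow hQGidx) x g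
      (hcent hx) (hcent hxg)
    obtain ⟨n, hn, hn2⟩ := this
    refine ⟨n, ?_, hn2⟩
    have hn' : n ∈ Subgroup.normalizer (QG : Set G) := hn
    rwa [hQGnorm] at hn'
  -- Hall property
  have hHall : Nat.Coprime (Nat.card PG) PG.index := by
    rw [hPGcard]
    exact Nat.Coprime.pow_left _ ((Nat.Prime.coprime_iff_not_dvd hp).mpr hPGidx)
  have hle : ∀ j, H.lowerCentralSeries j ≤ H := by
    intro j
    have := H.lowerCentralSeries_antitone (Nat.zero_le j)
    rwa [Subgroup.lowerCentralSeries_zero] at this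
  have hD0 : H.lowerCentralSeries 0 ⊓ PG = PG := by
    rw [Subgroup.lowerCentralSeries_zero]; exact inf_eq_right.mpr hPGle
  have key := Cfsg.Agent.Lib.Helper29.hall_series_complement r G
    (fun j => H.lowerCentralSeries j ⊓ PG) (by simp only [hr, bot_inf_eq])
    (by simp only [hD0]; exact hHall) (by
    intro j x hx k hxk
    simp only [Subgroup.mem_inf] at hx hxk ⊢
    obtain ⟨h, hh, hhx⟩ := hfus x hx.2 k hxk.2
    refine ⟨?_, PG.mul_mem (PG.inv_mem hx.2) hxk.2⟩
    rw [hhx, Subgroup.lowerCentralSeries_succ]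
    have e : x⁻¹ * (h⁻¹ * x * h) = ⁅x⁻¹, h⁻¹⁆ := by
      rw [commutatorElement_def]; group
    rw [e]
    exact Subgroup.commutator_mem_commutator (Subgroup.inv_mem _ hx.1) (H.inv_mem hh))
  simp only [hD0] at key
  obtain ⟨M, hMn, hMc⟩ := key
  refine ⟨M, hMn, ?_, ?_⟩
  · rw [← hMc.index_eq_card]; exact hPGidx
  · rw [hMc.symm.index_eq_card, hPGcard]

end Cfsg.Agent.S0558
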