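import Cfsg.Statements.S0562
import Mathlib

set_option autoImplicit false
open Cfsg

namespace Cfsg.Agent.S0562


/-- Let the finite group G be the product HK of subgroups, A normal in H, B normal in K, and L the normalizer of the subgroup generated by A and B. Then every element of L is a product of an element of L ∩ H and an element of L ∩ K. -/
theorem result {G : Type*} [Group G] [Finite G] (H K A B : Subgroup G) (hHK : ∀ g : G, ∃ h ∈ H, ∃ k ∈ K, g = h * k) (hA : A ≤ H) (hAn : (A.subgroupOf H).Normal) (hB : B ≤ K) (hBn : (B.subgroupOf K).Normal) : ∀ g ∈ Subgroup.normalizer ((A ⊔ B : Subgroup G) : Set G), ∃ h ∈ Subgroup.normalizer ((A ⊔ B : Subgroup G) : Set G) ⊓ H, ∃ k ∈ Subgroup.normalizer ((A ⊔ B : Subgroup G) : Set G) ⊓ K, g = h * k := by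
  intro g hg
  set J : Subgroup G := A ⊔ B with hJ
  obtain ⟨h, hh, k, hk, e⟩ := hHK g
  have hAn' := (Subgroup.normal_subgroupOf_iff_le_normalizer hA).mp hAn
  have hBn' := (Subgroup.normal_subgroupOf_iff_le_normalizer hB).mp hBn
  have hginv : g⁻¹ ∈ Subgroup.normalizer (J : Set G) := inv_mem hg
  -- J ≤ J.map (conj k)
  have hle : J ≤ J.map (MulAut.conj k).toMonoidHom := by
    rw [hJ, sup_le_iff]
    constructor
    · intro a ha
      refine ⟨k⁻¹ * a * k, ?_, ?_⟩
      · have h1 : h * a * h⁻¹ ∈ A := ((Subgroup.mem_normalizer_iff.mp (hAn' hh)) a).mp ha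
        have h2 : h * a * h⁻¹ ∈ J := (le_sup_left : A ≤ A ⊔ B) h1
        have h3 := ((Subgroup.mem_normalizer_iff.mp hginv) (h * a * h⁻¹)).mp h2
        have : k⁻¹ * a * k = g⁻¹ * (h * a * h⁻¹) * g⁻¹⁻¹ := by
          rw [e]; group
        rw [this]; exact h3
      · simp [MulAut.conj_apply]; group
    · intro b hb
      refine ⟨k⁻¹ * b * k, ?_, ?_⟩
      · have h1 : k⁻¹ * b * k⁻¹⁻¹ ∈ B :=
          ((Subgroup.mem_normalizer_iff.mp (hBn' (K.inv_mem hk))) b).mp hb
        rw [inv_inv] at h1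
        exact (le_sup_right : B ≤ A ⊔ B) h1
      · simp [MulAut.conj_apply]; group
  have hcard : Nat.card (J.map (MulAut.conj k).toMonoidHom) ≤ Nat.card J := by
    exact Nat.le_of_dvd Nat.card_pos (Subgroup.card_map_dvd _ _)
  have heq : J = J.map (MulAut.conj k).toMonoidHom :=
    Subgroup.eq_of_le_of_card_ge hle hcard
  have hkN : k ∈ Subgroup.normalizer (J : Set G) := by
    rw [Subgroup.mem_normalizer_iff_map_conj_eq]
    exact heq.symm
  have hhN : h ∈ Subgroup.normalizer (J : Set G) := by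
    have : h = g * k⁻¹ := by rw [e]; group
    rw [this]
    exact mul_mem hg (inv_mem hkN)
  exact ⟨h, ⟨hhN, hh⟩, k, ⟨hkN, hk⟩, e⟩

end Cfsg.Agent.S0562
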