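import Cfsg.Statements.S0567
import Mathlib

set_option autoImplicit false
open Cfsg

namespace Cfsg.Agent.S0567

open scoped commutatorElement

/-- A subgroup H of a group G is subnormal exactly when, for some m, the subgroup obtained from G by taking the commutator with H m times in succession is contained in H. -/
theorem result {G : Type*} [Group G] (H : Subgroup G) : H.IsSubnormal ↔ ∃ m : ℕ, (fun K : Subgroup G => ⁅K, H⁆)^[m] ⊤ ≤ H := by
  constructor
  · intro hH
    -- strengthened induction
    have key : ∀ K : Subgroup G, K.IsSubnormal →
        ∃ m : ℕ, ∀ H' : Subgroup G, H' ≤ K → (fun L : Subgroup G => ⁅L, H'⁆)^[m] ⊤ ≤ K := by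
      intro K hK
      induction hK with
      | top => exact ⟨0, fun _ _ => le_top⟩
      | step K L hKL _ hN ih =>
        obtain ⟨m, hm⟩ := ih
        refine ⟨m + 1, fun H' hH' => ?_⟩
        rw [Function.iterate_succ_apply']
        have hLN : L ≤ Subgroup.normalizer (K : Set G) :=
          (Subgroup.normal_subgroupOf_iff_le_normalizer hKL).mp hN
        calc ⁅(fun L : Subgroup G => ⁅L, H'⁆)^[m] ⊤, H'⁆ ≤ ⁅L, K⁆ :=
              Subgroup.commutator_mono (hm H' (hH'.trans hKL)) hH'
          _ ≤ K := Subgroup.le_normalizer_iff_commutator_le_right.mp hLN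
    obtain ⟨m, hm⟩ := key H hH
    exact ⟨m, hm H le_rfl⟩
  · rintro ⟨m, hm⟩
    set C : ℕ → Subgroup G := fun i => (fun K : Subgroup G => ⁅K, H⁆)^[i] ⊤ with hC
    have hCs : ∀ i, C (i + 1) = ⁅C i, H⁆ := fun i => Function.iterate_succ_apply' _ _ _
    have ha : ∀ i, H ≤ Subgroup.normalizer (C i : Set G) := by
      intro i
      cases i with
      | zero =>
        have : C 0 = ⊤ := rfl
        rw [this]
        intro x _
        rw [Subgroup.mem_normalizer_iff]
        intro y; simp
      | succ i => rw [hCs]; exact Subgroup.normalizer_commutator_ge_right _ _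
    have hb : ∀ i, C (i + 1) ≤ C i := by
      intro i
      rw [hCs]
      exact Subgroup.le_normalizer_iff_commutator_le_left.mp (ha i)
    have hsub : ∀ i, (H ⊔ C i).IsSubnormal := by
      intro i
      induction i with
      | zero =>
        have : C 0 = ⊤ := rfl
        rw [this, sup_top_eq]
        exact Subgroup.IsSubnormal.top
      | succ i ih =>
        refine Subgroup.IsSubnormal.step _ (H ⊔ C i) (sup_le_sup_left (hb i) H) ih ?_
        rw [Subgroup.normal_subgroupOf_iff_le_normalizer (sup_le_sup_left (hb i) H)]
        have hcl : H ⊔ C (i + 1) = Subgroup.closure ((H : Set G) ∪ C (i + 1)) := by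
          rw [Subgroup.closure_union, Subgroup.closure_eq, Subgroup.closure_eq]
        rw [sup_le_iff]
        constructor
        · -- H normalizes H ⊔ C (i+1)
          rw [hcl, Subgroup.le_normalizer_closure_iff]
          intro h hh g hg
          apply Subgroup.subset_closure
          rcases hg with hg | hg
          · left; exact H.mul_mem (H.mul_mem hh hg) (H.inv_mem hh)
          · right
            exact (Subgroup.mem_normalizer_iff.mp (ha (i + 1) hh) g).mp hg
        · rw [hcl, Subgroup.le_normalizer_closure_iff]
          intro c hc g hg
          rcases hg with hg | hg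
          · -- c g c⁻¹ = ⁅c, g⁆ * g
            have h1 : ⁅c, g⁆ ∈ C (i + 1) := by
              rw [hCs]; exact Subgroup.commutator_mem_commutator hc hg
            have h2 : c * g * c⁻¹ = ⁅c, g⁆ * g := by
              rw [commutatorElement_def]; group
            rw [h2]
            exact Subgroup.mul_mem _ (Subgroup.subset_closure (Or.inr h1))
              (Subgroup.subset_closure (Or.inl hg))
          · apply Subgroup.subset_closure
            right
            have : C i ≤ Subgroup.normalizer (C (i + 1) : Set G) := by
              rw [hCs]; exact Subgroup.normalizer_commutator_ge_left _ _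
            exact (Subgroup.mem_normalizer_iff.mp (this hc) g).mp hg
    have := hsub m
    rwa [sup_eq_left.mpr hm] at this

end Cfsg.Agent.S0567
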