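import Cfsg.Statements.S0575
import Mathlib

set_option autoImplicit false
open Cfsg

namespace Cfsg.Agent.S0575


/-- If H is a normal subgroup of a finite group G, then the Frattini subgroup of H, viewed in G, lies in the Frattini subgroup of G. -/
theorem result {G : Type*} [Group G] [Finite G] (H : Subgroup G) [H.Normal] : (frattini ↥H).map H.subtype ≤ frattini G := by
  have hFn : ((frattini ↥H).map H.subtype).Normal := ConjAct.normal_of_characteristic_of_normal
  set F : Subgroup G := (frattini ↥H).map H.subtype with hF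
  have hFH : F ≤ H := by
    rw [hF]; exact Subgroup.map_subtype_le _
  unfold frattini Order.radical
  refine le_iInf₂ ?_
  intro M hM
  by_contra hFM
  have htop : M ⊔ F = ⊤ := by
    by_contra hne
    have hlt : M < M ⊔ F := lt_of_le_of_ne le_sup_left (fun h => hFM (h ▸ le_sup_right))
    exact hne (hM.2 _ hlt)
  have hK : M.subgroupOf H ⊔ frattini ↥H = ⊤ := by
    rw [eq_top_iff]
    rintro ⟨h, hh⟩ -
    have hmem : h ∈ ((M ⊔ F : Subgroup G) : Set G) := by rw [htop]; trivial
    rw [Subgroup.mul_normal] at hmem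
    obtain ⟨m, hm, f, hf, e⟩ := hmem
    have hfH : f ∈ H := hFH hf
    have hmH : m ∈ H := by
      have : m = h * f⁻¹ := by rw [← e]; group
      rw [this]; exact H.mul_mem hh (H.inv_mem hfH)
    have hf' : (⟨f, hfH⟩ : H) ∈ frattini ↥H := by
      rw [hF] at hf
      obtain ⟨f', hf'1, hf'2⟩ := hf
      have : f' = ⟨f, hfH⟩ := Subtype.ext hf'2
      rw [← this]; exact hf'1
    have hm' : (⟨m, hmH⟩ : H) ∈ M.subgroupOf H := by
      rw [Subgroup.mem_subgroupOf]; exact hm
    have : (⟨h, hh⟩ : H) = ⟨m, hmH⟩ * ⟨f, hfH⟩ := Subtype.ext e.symm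
    rw [this]
    exact Subgroup.mul_mem _ (Subgroup.mem_sup_left hm') (Subgroup.mem_sup_right hf')
  have hKtop : M.subgroupOf H = ⊤ := frattini_nongenerating hK
  have hHM : H ≤ M := Subgroup.subgroupOf_eq_top.mp hKtop
  exact hFM (hFH.trans hHM)

end Cfsg.Agent.S0575
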