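import Cfsg.Statements.S0578
import Mathlib

set_option autoImplicit false
open Cfsg

namespace Cfsg.Agent.S0578

open scoped commutatorElement

/-- A finite `p`-group in which normalizers of abelian subgroups equal their centralizers is abelian. -/
theorem pgroup_comm {P : Type*} [Group P] [Finite P] {p : ℕ} [Fact p.Prime] (hP : IsPGroup p P)
    (h : ∀ A : Subgroup P, IsMulCommutative A →
      Subgroup.normalizer (A : Set P) ≤ Subgroup.centralizer (A : Set P)) :
    ∀ a b : P, a * b = b * a := by
  by_contra hcon
  have hZ : Subgroup.center P ≠ ⊤ := by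
    intro htop
    apply hcon
    intro a b
    have : b ∈ Subgroup.center P := by rw [htop]; trivial
    exact (Subgroup.mem_center_iff.mp this a)
  have hnt : Nontrivial (P ⧸ Subgroup.center P) := by
    by_contra hnot
    rw [not_nontrivial_iff_subsingleton] at hnot
    apply hZ
    exact QuotientGroup.subgroup_eq_top_of_subsingleton _ hnot
  have hPQ : IsPGroup p (P ⧸ Subgroup.center P) := hP.to_quotient _
  have hcn : Nontrivial (Subgroup.center (P ⧸ Subgroup.center P)) := hPQ.center_nontrivial
  obtain ⟨⟨c, hc⟩, hc1⟩ := exists_ne (1 : Subgroup.center (P ⧸ Subgroup.center P))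
  obtain ⟨x, rfl⟩ := QuotientGroup.mk_surjective c
  have hxZ : x ∉ Subgroup.center P := by
    intro hx
    apply hc1
    apply Subtype.ext
    exact (QuotientGroup.eq_one_iff x).mpr hx
  have hcomm : ∀ g : P, ⁅g, x⁆ ∈ Subgroup.center P := by
    intro g
    rw [← QuotientGroup.eq_one_iff, ← QuotientGroup.mk'_apply, map_commutatorElement,
      commutatorElement_eq_one_iff_commute]
    exact (Subgroup.mem_center_iff.mp hc (QuotientGroup.mk' _ g))
  -- A = Z ⊔ ⟨x⟩
  set S : Set P := (Subgroup.center P : Set P) ∪ {x} with hS
  have hScomm : ∀ a ∈ S, ∀ b ∈ S, a * b = b * a := by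
    rintro a (ha | ha) b hb
    · exact (Subgroup.mem_center_iff.mp ha b).symm
    · rcases hb with hb | hb
      · exact Subgroup.mem_center_iff.mp hb a
      · rw [Set.mem_singleton_iff] at ha hb
        rw [ha, hb]
  have hAcomm : IsMulCommutative (Subgroup.closure S) := Subgroup.isMulCommutative_closure hScomm
  have hAn : Subgroup.normalizer ((Subgroup.closure S : Subgroup P) : Set P) = ⊤ := by
    rw [eq_top_iff, Subgroup.le_normalizer_closure_iff]
    rintro g - y hy
    rcases hy with hy | hy
    · apply Subgroup.subset_closure
      left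
      exact (inferInstance : (Subgroup.center P).Normal).conj_mem y hy g
    · rw [Set.mem_singleton_iff] at hy
      rw [hy]
      have : g * x * g⁻¹ = ⁅g, x⁆ * x := by rw [commutatorElement_def]; group
      rw [this]
      exact Subgroup.mul_mem _ (Subgroup.subset_closure (Or.inl (hcomm g)))
        (Subgroup.subset_closure (Or.inr rfl))
  have hcent := h _ hAcomm
  rw [hAn] at hcent
  apply hxZ
  rw [Subgroup.mem_center_iff]
  intro g
  have hg : g ∈ Subgroup.centralizer ((Subgroup.closure S : Subgroup P) : Set P) := hcent trivial
  rw [Subgroup.mem_centralizer_iff] at hg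
  exact (hg x (Subgroup.subset_closure (Or.inr rfl))).symm


/-- If in a finite group the normalizer of each abelian subgroup coincides with its centralizer, then the group is abelian. -/
theorem result {G : Type*} [Group G] [Finite G] (h : ∀ A : Subgroup G, IsMulCommutative A → Subgroup.normalizer (A : Set G) = Subgroup.centralizer (A : Set G)) : IsMulCommutative G := by
  classical
  rw [← commutator_eq_bot_iff]
  -- the commutator subgroup has order coprime to every prime
  have key : ∀ p : ℕ, p.Prime → ¬ p ∣ Nat.card (commutator G) := by
    intro p hp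
    haveI : Fact p.Prime := ⟨hp⟩
    let P : Sylow p G := default
    -- P is abelian
    have hPcomm : ∀ a b : (P : Subgroup G), a * b = b * a := by
      apply pgroup_comm P.2
      intro A' hA'
      have hA : IsMulCommutative (A'.map (P : Subgroup G).subtype) := inferInstance
      have hA'' := h _ hA
      intro g hg
      rw [Subgroup.mem_centralizer_iff]
      intro a ha
      have hgN : (g : G) ∈ Subgroup.normalizer ((A'.map (P : Subgroup G).subtype : Subgroup G) : Set G) := by
        rw [Subgroup.mem_normalizer_iff] at hg ⊢
        intro y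
        constructor
        · rintro ⟨y', hy', rfl⟩
          exact ⟨g * y' * g⁻¹, (hg y').mp hy', by simp⟩
        · rintro ⟨z, hz, hze⟩
          have hyP : y ∈ (P : Subgroup G) := by
            have : y = (g : G)⁻¹ * (z : G) * g := by
              have : (z : G) = g * y * (g : G)⁻¹ := by simpa using hze
              rw [this]; group
            rw [this]
            exact Subgroup.mul_mem _ (Subgroup.mul_mem _ (Subgroup.inv_mem _ g.2) z.2) g.2
          refine ⟨⟨y, hyP⟩, ?_, rfl⟩
          change (⟨y, hyP⟩ : (P : Subgroup G)) ∈ A'
          rw [hg ⟨y, hyP⟩]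
          have : g * ⟨y, hyP⟩ * g⁻¹ = z := Subtype.ext (by simpa using hze.symm)
          rw [this]; exact hz
      rw [hA''] at hgN
      rw [Subgroup.mem_centralizer_iff] at hgN
      have := hgN (a : G) ⟨a, ha, rfl⟩
      exact Subtype.ext (by simpa using this)
    have hPc : IsMulCommutative (P : Subgroup G) := ⟨⟨hPcomm⟩⟩
    have hNC : Subgroup.normalizer ((P : Subgroup G) : Set G) ≤ Subgroup.centralizer ((P : Subgroup G) : Set G) :=
      (h _ hPc).le
    have hnd := MonoidHom.not_dvd_card_ker_transferSylow P hNC
    have hle : commutator G ≤ (MonoidHom.transferSylow P hNC).ker := by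
      rw [commutator_def, Subgroup.commutator_le]
      rintro g - g' -
      rw [MonoidHom.mem_ker, map_commutatorElement, commutatorElement_eq_one_iff_commute]
      exact hPcomm _ _
    intro hdvd
    exact hnd (hdvd.trans (Subgroup.card_dvd_of_le hle))
  have hcard : Nat.card (commutator G) = 1 := by
    by_contra hne
    obtain ⟨p, hp, hpd⟩ := Nat.exists_prime_and_dvd hne
    exact key p hp hpd
  exact Subgroup.card_eq_one.mp hcard

end Cfsg.Agent.S0578
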