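import Cfsg.Statements.S0582
-- import your own Cfsg.Agent.* helpers here
import Mathlib
import Cfsg.Agent.Lib.Helper29.SupersolvableHall

set_option autoImplicit false
open Pointwise
open Cfsg

namespace Cfsg.Agent.S0582

open scoped Pointwise
open Subgroup
open Cfsg.Agent.Lib.Helper1 Cfsg.Agent.Lib.Helper4 Cfsg.Agent.Lib.Helper29

universe u

theorem aux : ∀ (n : ℕ) (G : Type u) [Group G] [Finite G] (H K : Subgroup G),
    Nat.card H = n → IsSupersolvable H → IsSupersolvable K → Nat.card H = Nat.card K →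
    (Nat.card H).Coprime H.index → ∃ x : G, MulAut.conj x • H = K := by
  intro n
  induction n using Nat.strong_induction_on with
  | _ n ih =>
  intro G _ _ H K hn hH hK hcard hHall
  by_cases h1 : n = 1
  · have hHbot : H = ⊥ := Subgroup.card_eq_one.mp (hn.trans h1)
    have hKbot : K = ⊥ := Subgroup.card_eq_one.mp (by rw [← hcard, hn, h1])
    exact ⟨1, by rw [hHbot, hKbot]; simp⟩
  · have hn0 : n ≠ 0 := by rw [← hn]; exact Nat.card_pos.ne'
    have hne : n.primeFactors.Nonempty := Nat.nonempty_primeFactors.mpr (by omega)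
    obtain ⟨p, hp⟩ : ∃ p, p = n.primeFactors.max' hne := ⟨_, rfl⟩
    have hpmem : p ∈ n.primeFactors := hp ▸ Finset.max'_mem _ _
    have hpp : p.Prime := Nat.prime_of_mem_primeFactors hpmem
    have hpn : p ∣ n := Nat.dvd_of_mem_primeFactors hpmem
    have hmax : ∀ q : ℕ, q.Prime → q ∣ n → q ≤ p := fun q hq hqn =>
      hp ▸ Finset.le_max' _ _ (Nat.mem_primeFactors.mpr ⟨hq, hqn, hn0⟩)
    have : Fact p.Prime := ⟨hpp⟩
    obtain ⟨PH⟩ : Nonempty (Sylow p H) := inferInstance
    obtain ⟨PK⟩ : Nonempty (Sylow p K) := inferInstance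
    have hPHn : (PH : Subgroup H).Normal :=
      sylow_normal_of_isSupersolvable hH (by rwa [hn]) PH
    have hPKn : (PK : Subgroup K).Normal :=
      sylow_normal_of_isSupersolvable hK (by rw [← hcard, hn]; exact hmax) PK
    obtain ⟨P₁, hP₁⟩ : ∃ P₁ : Subgroup G, P₁ = (PH : Subgroup H).map H.subtype := ⟨_, rfl⟩
    obtain ⟨P₂, hP₂⟩ : ∃ P₂ : Subgroup G, P₂ = (PK : Subgroup K).map K.subtype := ⟨_, rfl⟩
    have hpidx : ¬ p ∣ H.index := by
      intro hd
      have := Nat.dvd_gcd (hn ▸ hpn) hd
      rw [hHall] at this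
      exact hpp.one_lt.ne' (Nat.dvd_one.mp this)
    have hfac : (Nat.card G).factorization p = n.factorization p := by
      rw [← H.card_mul_index, Nat.factorization_mul Nat.card_pos.ne' (by
        intro h0; rw [h0] at hpidx; exact hpidx (dvd_zero p)), Finsupp.add_apply,
        Nat.factorization_eq_zero_of_not_dvd hpidx, add_zero, hn]
    have hP₁card : Nat.card P₁ = p ^ (Nat.card G).factorization p := by
      rw [hP₁, Subgroup.card_map_of_injective H.subtype_injective, PH.card_eq_multiplicity, hn, hfac]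
    have hP₂card : Nat.card P₂ = p ^ (Nat.card G).factorization p := by
      rw [hP₂, Subgroup.card_map_of_injective K.subtype_injective, PK.card_eq_multiplicity,
        ← hcard, hn, hfac]
    obtain ⟨g, hg⟩ := MulAction.exists_smul_eq G (Sylow.ofCard P₁ hP₁card) (Sylow.ofCard P₂ hP₂card)
    have hgP : MulAut.conj g • P₁ = P₂ := by
      have := congrArg Sylow.toSubgroup hg
      rwa [Sylow.coe_subgroup_smul] at this
    obtain ⟨H', hH'⟩ : ∃ H' : Subgroup G, H' = MulAut.conj g • H := ⟨_, rfl⟩
    have hP₂H' : P₂ ≤ H' := by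
      rw [← hgP, hH', hP₁]; exact conj_smul_le_conj_smul (Subgroup.map_subtype_le _) g
    have hP₂K : P₂ ≤ K := by rw [hP₂]; exact Subgroup.map_subtype_le _
    have hKN : K ≤ normalizer (P₂ : Set G) := by
      rw [hP₂]; exact le_normalizer_map_subtype_of_normal K _
    have hH'N : H' ≤ normalizer (P₂ : Set G) := by
      rw [← hgP, ← conj_smul_normalizer, hH', hP₁]
      exact conj_smul_le_conj_smul (le_normalizer_map_subtype_of_normal H _) g
    -- the quotient `N(P₂)/P₂`
    obtain ⟨N, hN⟩ : ∃ N : Subgroup G, N = normalizer (P₂ : Set G) := ⟨_, rfl⟩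
    rw [← hN] at hKN hH'N
    have hP₂N : P₂ ≤ N := hP₂K.trans hKN
    have hPnn : (P₂.subgroupOf N).Normal := by
      rw [hN]; exact Subgroup.normal_in_normalizer
    have hPnH' : P₂.subgroupOf N ≤ H'.subgroupOf N := Subgroup.comap_mono hP₂H'
    have hPnK : P₂.subgroupOf N ≤ K.subgroupOf N := Subgroup.comap_mono hP₂K
    obtain ⟨cH, iH⟩ := card_eq_card_map_mk_mul (P₂.subgroupOf N) (H'.subgroupOf N) hPnH'
    obtain ⟨cK, iK⟩ := card_eq_card_map_mk_mul (P₂.subgroupOf N) (K.subgroupOf N) hPnK
    have hcH' : Nat.card H' = n := by rw [hH', card_conj_smul, hn]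
    rw [card_subgroupOf_of_le hH'N, card_subgroupOf_of_le hP₂N, hcH'] at cH
    rw [card_subgroupOf_of_le hKN, card_subgroupOf_of_le hP₂N, ← hcard, hn] at cK
    have hP₂pos : 0 < Nat.card P₂ := Nat.card_pos
    have hP₂gt : 1 < Nat.card P₂ := by
      rw [hP₂card, hfac]
      apply Nat.one_lt_pow _ hpp.one_lt
      have := (hpp.dvd_iff_one_le_factorization hn0).mp hpn
      omega
    have hcardbar : Nat.card ((H'.subgroupOf N).map (QuotientGroup.mk' (P₂.subgroupOf N))) =
        Nat.card ((K.subgroupOf N).map (QuotientGroup.mk' (P₂.subgroupOf N))) := by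
      apply Nat.eq_of_mul_eq_mul_right hP₂pos
      rw [← cH, ← cK]
    have hlt : Nat.card ((H'.subgroupOf N).map (QuotientGroup.mk' (P₂.subgroupOf N))) < n := by
      have hpos : 0 < Nat.card ((H'.subgroupOf N).map (QuotientGroup.mk' (P₂.subgroupOf N))) :=
        Nat.card_pos
      nlinarith
    have hssH' : IsSupersolvable H' := by
      rw [hH']
      exact isSupersolvable_of_surjective hH (Subgroup.equivSMul (MulAut.conj g) H).toMonoidHom
        (Subgroup.equivSMul (MulAut.conj g) H).surjective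
    have hss1 : IsSupersolvable (H'.subgroupOf N) :=
      isSupersolvable_of_surjective hssH' (Subgroup.subgroupOfEquivOfLe hH'N).symm.toMonoidHom
        (Subgroup.subgroupOfEquivOfLe hH'N).symm.surjective
    have hss2 : IsSupersolvable (K.subgroupOf N) :=
      isSupersolvable_of_surjective hK (Subgroup.subgroupOfEquivOfLe hKN).symm.toMonoidHom
        (Subgroup.subgroupOfEquivOfLe hKN).symm.surjective
    have hHallbar : (Nat.card ((H'.subgroupOf N).map (QuotientGroup.mk' (P₂.subgroupOf N)))).Coprime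
        ((H'.subgroupOf N).map (QuotientGroup.mk' (P₂.subgroupOf N))).index := by
      rw [iH]
      have hd1 : Nat.card ((H'.subgroupOf N).map (QuotientGroup.mk' (P₂.subgroupOf N))) ∣ n :=
        ⟨_, cH⟩
      have hd2 : (H'.subgroupOf N).index ∣ H.index := by
        rw [← index_conj_smul H g, ← hH']
        exact Subgroup.relIndex_dvd_index_of_le hH'N
      rw [hn] at hHall
      exact Nat.Coprime.of_dvd hd1 hd2 hHall
    obtain ⟨xb, hxb⟩ := ih _ hlt (↥N ⧸ P₂.subgroupOf N) _ _ rfl
      (isSupersolvable_map _ _ hss1) (isSupersolvable_map _ _ hss2) hcardbar hHallbar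
    obtain ⟨x, hx⟩ := exists_conj_of_quotient (P₂.subgroupOf N) (H'.subgroupOf N) (K.subgroupOf N)
      hPnK (by rw [card_subgroupOf_of_le hH'N, card_subgroupOf_of_le hKN, hcH', ← hcard, hn]) xb hxb
    refine ⟨(x : G) * g, ?_⟩
    have h3 := congrArg (Subgroup.map N.subtype) hx
    rw [map_subtype_conj_smul, Subgroup.map_subgroupOf_eq_of_le hH'N,
      Subgroup.map_subgroupOf_eq_of_le hKN, hH'] at h3
    rw [map_mul, mul_smul]
    exact h3

/-- Let H and K be supersolvable subgroups of a finite group G of the same order, that order being coprime to their index. Then H and K are conjugate in G. -/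
theorem result {G : Type*} [Group G] [Finite G] (H K : Subgroup G) (hH : Cfsg.IsSupersolvable H) (hK : Cfsg.IsSupersolvable K) (hcard : Nat.card H = Nat.card K) (hHall : (Nat.card H).Coprime H.index) : ∃ x : G, MulAut.conj x • H = K :=
  aux _ G H K rfl hH hK hcard hHall

end Cfsg.Agent.S0582
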