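import Cfsg.Statements.S0584
import Mathlib
import Cfsg.Agent.Lib.Helper4.FrattiniArg

set_option autoImplicit false
open Cfsg

namespace Cfsg.Agent.S0584


/-- Let B ≤ A be normal subgroups of a finite group G with B contained in the Frattini subgroup of G. If A modulo B is nilpotent then A is nilpotent. -/
theorem result {G : Type*} [Group G] [Finite G] (A B : Subgroup G) [A.Normal] [B.Normal] (hBA : B ≤ A) (hB : B ≤ frattini G) (h : Group.IsNilpotent (↥A ⧸ B.subgroupOf A)) : Group.IsNilpotent A := by
  have q := (Group.isNilpotent_of_finite_tfae (G := A)).out 0 3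
  rw [q]
  intro p hp P
  have h1 := Cfsg.Agent.Lib.Helper4.normalizer_sup_eq_top_of_nilpotent_quotient A B hBA h P
  have h2 : Subgroup.normalizer (((P : Subgroup A).map A.subtype : Subgroup G) : Set G) ⊔ frattini G = ⊤ := by
    rw [eq_top_iff, ← h1]
    exact sup_le_sup_left hB _
  have h3 := frattini_nongenerating h2
  have h4 : ((P : Subgroup A).map A.subtype).Normal := Subgroup.normalizer_eq_top_iff.mp h3
  exact h4.of_map_subtype

end Cfsg.Agent.S0584
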