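import Cfsg.Statements.S0585
import Mathlib

set_option autoImplicit false
open Cfsg

namespace Cfsg.Agent.S0585


/-- If the Frattini subgroup of a finite group G is trivial, then every abelian normal subgroup of G has a complement in G. -/
theorem result {G : Type*} [Group G] [Finite G] (hΦ : frattini G = ⊥) (A : Subgroup G) [A.Normal] [IsMulCommutative A] : ∃ H : Subgroup G, Subgroup.IsComplement' A H := by
  classical
  have hAc : ∀ x ∈ A, ∀ y ∈ A, x * y = y * x := fun x hx y hy =>
    congrArg Subtype.val (mul_comm' (⟨x, hx⟩ : A) ⟨y, hy⟩)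
  let S : Set (Subgroup G) := {H | A ⊔ H = ⊤}
  have hne : S.Nonempty := ⟨⊤, sup_top_eq A⟩
  obtain ⟨H, hHS, hmin⟩ := (wellFounded_lt (α := Subgroup G)).has_min S hne
  have hAH : A ⊔ H = ⊤ := hHS
  refine ⟨H, ?_⟩
  set D : Subgroup G := A ⊓ H with hD
  -- D is normal in G
  have hDn : D.Normal := by
    rw [← Subgroup.normalizer_eq_top_iff, eq_top_iff, ← hAH, sup_le_iff]
    constructor
    · intro a ha
      rw [Subgroup.mem_normalizer_iff]
      intro x
      have key : ∀ y ∈ A, a * y * a⁻¹ = y := by
        intro y hy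
        rw [hAc a ha y hy]; group
      constructor
      · rintro ⟨hx1, hx2⟩
        rw [key x hx1]; exact ⟨hx1, hx2⟩
      · rintro ⟨hx1, hx2⟩
        have hxA : x ∈ A := by
          have := (inferInstance : A.Normal).conj_mem _ hx1 a⁻¹
          simpa [mul_assoc] using this
        rw [key x hxA] at hx2
        exact ⟨hxA, hx2⟩
    · intro h hh
      rw [Subgroup.mem_normalizer_iff]
      intro x
      constructor
      · rintro ⟨hx1, hx2⟩
        exact ⟨(inferInstance : A.Normal).conj_mem x hx1 h, H.mul_mem (H.mul_mem hh hx2) (H.inv_mem hh)⟩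
      · rintro ⟨hx1, hx2⟩
        refine ⟨?_, ?_⟩
        · have := (inferInstance : A.Normal).conj_mem _ hx1 h⁻¹
          simpa [mul_assoc] using this
        · have := H.mul_mem (H.mul_mem (H.inv_mem hh) hx2) hh
          simpa [mul_assoc] using this
  have hDbot : D = ⊥ := by
    by_contra hD1
    -- some maximal subgroup does not contain D
    have : ∃ M : Subgroup G, IsCoatom M ∧ ¬ D ≤ M := by
      by_contra hcon
      push Not at hcon
      have : D ≤ frattini G := by
        unfold frattini Order.radical
        exact le_iInf₂ hcon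
      rw [hΦ] at this
      exact hD1 (le_bot_iff.mp this)
    obtain ⟨M, hM, hDM⟩ := this
    have htop : M ⊔ D = ⊤ := by
      by_contra hne'
      have hlt : M < M ⊔ D := lt_of_le_of_ne le_sup_left (fun h => hDM (h ▸ le_sup_right))
      exact hne' (hM.2 _ hlt)
    have hH1 : A ⊔ (H ⊓ M) = ⊤ := by
      rw [eq_top_iff, ← hAH, sup_le_iff]
      refine ⟨le_sup_left, ?_⟩
      intro h hh
      have hmem : h ∈ ((M ⊔ D : Subgroup G) : Set G) := by rw [htop]; trivial
      rw [Subgroup.mul_normal] at hmem
      obtain ⟨m, hm, d, hd, e⟩ := hmem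
      have hmH : m ∈ H := by
        have : m = h * d⁻¹ := by rw [← e]; group
        rw [this]; exact H.mul_mem hh (H.inv_mem hd.2)
      rw [← e]
      have h1 : m ∈ A ⊔ (H ⊓ M) := Subgroup.mem_sup_right ⟨hmH, hm⟩
      have h2 : d ∈ A ⊔ (H ⊓ M) := Subgroup.mem_sup_left hd.1
      exact Subgroup.mul_mem _ h1 h2
    have hlt : H ⊓ M < H := by
      refine lt_of_le_of_ne inf_le_left ?_
      intro heq
      apply hDM
      have : H ≤ M := by rw [← heq]; exact inf_le_right
      exact inf_le_right.trans this
    exact hmin (H ⊓ M) hH1 hlt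
  apply Subgroup.isComplement'_of_disjoint_and_mul_eq_univ
  · rw [disjoint_iff]; exact hDbot
  · rw [← Subgroup.normal_mul, hAH]; rfl

end Cfsg.Agent.S0585
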