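import Cfsg.Statements.S0586
import Mathlib
import Cfsg.Agent.S0583
import Cfsg.Agent.S0585
import Cfsg.Agent.Lib.Helper1.Fitting
import Cfsg.Agent.Lib.Helper1.MinNormal
import Cfsg.Agent.Lib.Helper17.Basic

set_option autoImplicit false
open Cfsg

namespace Cfsg.Agent.S0586


/-- If the Frattini subgroup of a finite group G is trivial, then the Fitting subgroup of G equals the join of all abelian minimal normal subgroups of G. -/
theorem result {G : Type*} [Group G] [Finite G] (hΦ : frattini G = ⊥) : Cfsg.fittingSubgroup G = sSup {N : Subgroup G | N.Normal ∧ N ≠ ⊥ ∧ IsMulCommutative N ∧ ∀ K : Subgroup G, K.Normal → K ≤ N → K = ⊥ ∨ K = N} := by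
  classical
  have hFn : (Cfsg.fittingSubgroup G).Normal := Cfsg.Agent.Lib.Helper1.fittingSubgroup_normal G
  set F := Cfsg.fittingSubgroup G with hFdef
  set 𝒩 : Set (Subgroup G) := {N : Subgroup G | N.Normal ∧ N ≠ ⊥ ∧ IsMulCommutative N ∧
    ∀ K : Subgroup G, K.Normal → K ≤ N → K = ⊥ ∨ K = N} with h𝒩
  set S : Subgroup G := sSup 𝒩 with hSdef
  -- (1) S ≤ F
  have hSF : S ≤ F := by
    apply sSup_le
    rintro N ⟨hNn, _, hNc, _⟩
    have : Group.IsNilpotent N := by
      let _ : CommGroup N := { (inferInstance : Group N) with mul_comm := fun a b => mul_comm' a b }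
      infer_instance
    exact Cfsg.Agent.Lib.Helper1.le_fittingSubgroup hNn this
  -- (2) S normal
  have hSn : S.Normal := Subgroup.sSup_normal 𝒩 (fun N hN => hN.1)
  -- (3) S centralizes F
  have hSC : S ≤ Subgroup.centralizer (F : Set G) := by
    apply sSup_le
    rintro N ⟨hNn, hN1, _, hNmin⟩
    have h1 := @Cfsg.Agent.S0583.result G _ _ N hNn hN1 hNmin
    intro x hx
    rw [Subgroup.mem_centralizer_iff]
    intro y hy
    have h2 := h1 hy
    rw [Subgroup.mem_centralizer_iff] at h2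
    exact (h2 x hx).symm
  have hScomm : IsMulCommutative S := by
    refine ⟨⟨fun a b => ?_⟩⟩
    apply Subtype.ext
    have h1 := hSC a.2
    rw [Subgroup.mem_centralizer_iff] at h1
    exact (h1 b (hSF b.2)).symm
  -- (4) complement
  obtain ⟨H, hH⟩ := @Cfsg.Agent.S0585.result G _ _ hΦ S hSn hScomm
  have hsup : S ⊔ H = ⊤ := hH.sup_eq_top
  have hdisj : S ⊓ H = ⊥ := hH.disjoint.eq_bot
  -- (5) D = F ⊓ H normal
  have hDn : (F ⊓ H).Normal := by
    rw [← Subgroup.normalizer_eq_top_iff, eq_top_iff, ← hsup]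
    apply sup_le
    · intro s hs
      apply Cfsg.Agent.Lib.Helper17.mem_normalizer_of_forall_conj_mem
      intro x hx
      have h1 := hSC hs
      rw [Subgroup.mem_centralizer_iff] at h1
      rw [← h1 x hx.1, mul_inv_cancel_right]
      exact hx
    · intro h hh
      apply Cfsg.Agent.Lib.Helper17.mem_normalizer_of_forall_conj_mem
      intro x hx
      exact ⟨hFn.conj_mem x hx.1 h, H.mul_mem (H.mul_mem hh hx.2) (H.inv_mem hh)⟩
  -- (6) D = ⊥
  have hD : F ⊓ H = ⊥ := by
    by_contra hD1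
    obtain ⟨N, ⟨hNn, hN1, hNmin⟩, hND⟩ := Cfsg.Agent.Lib.Helper1.exists_isMinNormal_le (F ⊓ H) hDn hD1
    have h1 := @Cfsg.Agent.S0583.result G _ _ N hNn hN1 hNmin
    have hNc : IsMulCommutative N := by
      refine ⟨⟨fun a b => ?_⟩⟩
      apply Subtype.ext
      have h2 := h1 ((hND b.2).1)
      rw [Subgroup.mem_centralizer_iff] at h2
      exact h2 a a.2
    have hNS : N ≤ S := le_sSup ⟨hNn, hN1, hNc, hNmin⟩
    have : N ≤ S ⊓ H := le_inf hNS (hND.trans inf_le_right)
    rw [hdisj] at this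
    exact hN1 (le_bot_iff.mp this)
  -- (7)
  apply le_antisymm _ hSF
  intro x hx
  have hx' : x ∈ ((S ⊔ H : Subgroup G) : Set G) := by rw [hsup]; trivial
  rw [Subgroup.normal_mul] at hx'
  obtain ⟨s, hs, h, hh, rfl⟩ := hx'
  have hhF : h ∈ F := by
    have : h = s⁻¹ * (s * h) := by group
    rw [this]
    exact F.mul_mem (F.inv_mem (hSF hs)) hx
  have : h ∈ F ⊓ H := ⟨hhF, hh⟩
  rw [hD, Subgroup.mem_bot] at this
  subst this
  change s * 1 ∈ S
  rw [mul_one]
  exact hs

end Cfsg.Agent.S0586
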