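import Cfsg.Statements.S0587
import Mathlib
import Cfsg.Agent.Lib.Helper4.Primitive
import Cfsg.Agent.Lib.Helper1.Fitting

set_option autoImplicit false
open Cfsg

namespace Cfsg.Agent.S0587

open Cfsg.Agent.Lib.Helper4 in

/-- Let G be a finite group whose largest normal p-subgroup L is nontrivial, and M a maximal subgroup of G with trivial normal core. Then L is elementary abelian, M is a complement to L, L is a minimal normal subgroup of G, the centralizer of L is L, and for every prime q such that the largest normal q-subgroup of M is nontrivial, the order of L is congruent to 1 modulo q and q ≠ p. -/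
theorem result {G : Type*} [Group G] [Finite G] (p : ℕ) [Fact p.Prime] (hL : Cfsg.pCore p G ≠ ⊥) (M : Subgroup G) (hM : IsCoatom M) (hcore : M.normalCore = ⊥) : Cfsg.IsElementaryAbelian p (Cfsg.pCore p G) ∧ Subgroup.IsComplement' (Cfsg.pCore p G) M ∧ (∀ K : Subgroup G, K.Normal → K ≤ Cfsg.pCore p G → K = ⊥ ∨ K = Cfsg.pCore p G) ∧ Subgroup.centralizer ((Cfsg.pCore p G : Subgroup G) : Set G) = Cfsg.pCore p G ∧ ∀ (q : ℕ) [Fact q.Prime], Cfsg.pCore q ↥M ≠ ⊥ → Nat.card (Cfsg.pCore p G) % q = 1 % q ∧ q ≠ p := by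
  classical
  have hp : p.Prime := Fact.out
  set L := Cfsg.pCore p G with hLdef
  have hLn : L.Normal := Cfsg.Agent.Lib.Helper1.pCore_normal p G
  have hLp : IsPGroup p L := Cfsg.Agent.Lib.Helper1.pCore_isPGroup p G
  -- Z(L) as a subgroup of G
  obtain ⟨w, hwL, hw1, hwc⟩ := Cfsg.Agent.Lib.Helper18.exists_ne_one_fixed_of_pgroup_normalizes
    L L hLp hLp hL Subgroup.le_normalizer
  set Z : Subgroup G := L ⊓ Subgroup.centralizer (L : Set G) with hZdef
  have hZn : Z.Normal := by
    have := Subgroup.normal_centralizer (H := L)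
    rw [hZdef]; infer_instance
  have hwZ : w ∈ Z := by
    rw [hZdef, Subgroup.mem_inf, Subgroup.mem_centralizer_iff]
    exact ⟨hwL, fun c hc => hwc c hc⟩
  have hZ1 : Z ≠ ⊥ := by
    intro h
    rw [h, Subgroup.mem_bot] at hwZ
    exact hw1 hwZ
  have hZc : ∀ x ∈ Z, ∀ y ∈ Z, x * y = y * x := by
    intro x hx y hy
    have := (Subgroup.mem_inf.mp hy).2
    rw [Subgroup.mem_centralizer_iff] at this
    exact this x (Subgroup.mem_inf.mp hx).1
  have hCZ := coreFree_centralizer_abelian M hM hcore Z hZn hZ1 hZc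
  have hLZ : L ≤ Z := by
    rw [← hCZ]
    intro x hx
    rw [Subgroup.mem_centralizer_iff]
    intro y hy
    have := (Subgroup.mem_inf.mp hy).2
    rw [Subgroup.mem_centralizer_iff] at this
    exact (this x hx).symm
  have hLc : ∀ x ∈ L, ∀ y ∈ L, x * y = y * x := fun x hx y hy => hZc x (hLZ hx) y (hLZ hy)
  have hmin := coreFree_abelian_minimal M hM hcore L hLn hLc
  have hcompl := coreFree_isComplement' M hM hcore L hLn hL hLc
  have hCL := coreFree_centralizer_abelian M hM hcore L hLn hL hLc
  refine ⟨minNormal_pgroup_elemAb L hLn hL hmin hLp, hcompl, hmin, hCL, ?_⟩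
  intro q hq hQ
  have hqp : q.Prime := hq.out
  set Q : Subgroup G := (Cfsg.pCore q ↥M).map M.subtype with hQdef
  have hQM : Q ≤ M := by
    rintro x ⟨y, _, rfl⟩; exact y.2
  have hQ1 : Q ≠ ⊥ := by
    intro h
    apply hQ
    rw [hQdef, Subgroup.map_eq_bot_iff_of_injective _ M.subtype_injective] at h
    exact h
  have hQq : IsPGroup q Q := (Cfsg.Agent.Lib.Helper1.pCore_isPGroup q ↥M).map _
  have hMQ : M ≤ Subgroup.normalizer (Q : Set G) := by
    have hn : (Cfsg.pCore q ↥M).Normal := Cfsg.Agent.Lib.Helper1.pCore_normal q ↥M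
    intro m hm
    apply Cfsg.Agent.Lib.Helper17.mem_normalizer_of_forall_conj_mem
    rintro x ⟨y, hy, rfl⟩
    exact ⟨(⟨m, hm⟩ : M) * y * (⟨m, hm⟩ : M)⁻¹, hn.conj_mem y hy _, rfl⟩
  have hLM : L ⊓ M = ⊥ := hcompl.disjoint.eq_bot
  have hsup : M ⊔ L = ⊤ := coreFree_sup_eq_top M hM hcore L hLn hL
  -- D = C_L(Q)
  set D : Subgroup G := L ⊓ Subgroup.centralizer (Q : Set G) with hDdef
  have hDn : D.Normal := by
    rw [← Subgroup.normalizer_eq_top_iff, eq_top_iff, ← hsup]
    apply sup_le
    · intro m hm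
      apply Cfsg.Agent.Lib.Helper17.mem_normalizer_of_forall_conj_mem
      intro x hx
      rw [hDdef, Subgroup.mem_inf, Subgroup.mem_centralizer_iff]
      refine ⟨hLn.conj_mem x hx.1 m, ?_⟩
      intro y hy
      have hxc := (Subgroup.mem_inf.mp hx).2
      rw [Subgroup.mem_centralizer_iff] at hxc
      have hy' : m⁻¹ * y * m ∈ Q := Cfsg.Agent.Lib.Helper17.conj_inv_mem_of_mem_normalizer (hMQ hm) hy
      have := hxc _ hy'
      calc y * (m * x * m⁻¹) = m * ((m⁻¹ * y * m) * x) * m⁻¹ := by group
        _ = m * (x * (m⁻¹ * y * m)) * m⁻¹ := by rw [this]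
        _ = m * x * m⁻¹ * y := by group
    · intro l hl
      apply Cfsg.Agent.Lib.Helper17.mem_normalizer_of_forall_conj_mem
      intro x hx
      rw [hLc l hl x hx.1, mul_inv_cancel_right]
      exact hx
  have hD : D = ⊥ := by
    rcases hmin D hDn inf_le_left with h | h
    · exact h
    · exfalso
      apply hQ1
      have h1 : Q ≤ Subgroup.centralizer (L : Set G) := by
        intro y hy
        rw [Subgroup.mem_centralizer_iff]
        intro x hx
        have hx' : x ∈ D := by rw [h]; exact hx
        have := (Subgroup.mem_inf.mp hx').2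
        rw [Subgroup.mem_centralizer_iff] at this
        exact (this y hy).symm
      rw [hCL] at h1
      have : Q ≤ L ⊓ M := le_inf h1 hQM
      rwa [hLM, le_bot_iff] at this
  have hqne : q ≠ p := by
    rintro rfl
    obtain ⟨v, hvL, hv1, hvc⟩ := Cfsg.Agent.Lib.Helper18.exists_ne_one_fixed_of_pgroup_normalizes
      L Q hLp hQq hL (by rw [Subgroup.normalizer_eq_top]; exact le_top)
    have : v ∈ D := by
      rw [hDdef, Subgroup.mem_inf, Subgroup.mem_centralizer_iff]
      exact ⟨hvL, fun c hc => hvc c hc⟩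
    rw [hD, Subgroup.mem_bot] at this
    exact hv1 this
  refine ⟨?_, hqne⟩
  -- counting fixed points
  have hnorm : Q ≤ Subgroup.normalizer (L : Set G) := by rw [Subgroup.normalizer_eq_top]; exact le_top
  let _ : MulAction Q L := MulAction.compHom L (Subgroup.inclusion hnorm)
  have hsmul : ∀ (c : Q) (l : L), ((c • l : L) : G) = c * l * c⁻¹ := fun c l => rfl
  have hmod := hQq.card_modEq_card_fixedPoints (α := L)
  have hfix : MulAction.fixedPoints Q L = {1} := by
    ext l
    rw [MulAction.mem_fixedPoints, Set.mem_singleton_iff]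
    constructor
    · intro h
      have : (l : G) ∈ D := by
        rw [hDdef, Subgroup.mem_inf, Subgroup.mem_centralizer_iff]
        refine ⟨l.2, fun c hc => ?_⟩
        have h1 := congrArg Subtype.val (h ⟨c, hc⟩)
        rw [hsmul] at h1
        have h1' : c * (l : G) * c⁻¹ = l := h1
        calc c * (l : G) = (c * l * c⁻¹) * c := by group
          _ = l * c := by rw [h1']
      rw [hD, Subgroup.mem_bot] at this
      exact Subtype.ext this
    · rintro rfl c
      apply Subtype.ext
      rw [hsmul]; simp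
  have hone : Nat.card (MulAction.fixedPoints Q L) = 1 := by
    rw [hfix]; simp
  rw [hone] at hmod
  exact hmod

end Cfsg.Agent.S0587
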