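import Cfsg.Statements.S0588
import Mathlib

set_option autoImplicit false
open Cfsg

namespace Cfsg.Agent.S0588


/-- If a subgroup H of a finite group G contains the centralizer of every non-identity element of H, then the order of H is coprime to its index. -/
theorem result {G : Type*} [Group G] [Finite G] (H : Subgroup G) (h : ∀ x ∈ H, x ≠ 1 → Subgroup.centralizer ({x} : Set G) ≤ H) : (Nat.card H).Coprime H.index := by
  apply Nat.coprime_of_dvd
  intro p hp hpH hpI
  haveI : Fact p.Prime := ⟨hp⟩
  obtain ⟨⟨z, hzH⟩, hz⟩ := exists_prime_orderOf_dvd_card' p hpH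
  have hzo : orderOf z = p := by
    rw [← hz]; exact (Subgroup.orderOf_mk z hzH).symm
  have hz1 : z ≠ 1 := by
    intro h1; rw [h1, orderOf_one] at hzo; exact hp.one_lt.ne hzo
  have hzp : IsPGroup p (Subgroup.zpowers z) := by
    apply IsPGroup.of_card (n := 1)
    rw [Nat.card_zpowers, hzo, pow_one]
  obtain ⟨Q, hQ⟩ := hzp.exists_le_sylow
  have hzQ : z ∈ (Q : Subgroup G) := hQ (Subgroup.mem_zpowers z)
  have : Nontrivial (Q : Subgroup G) := by
    refine ⟨⟨⟨z, hzQ⟩, 1, ?_⟩⟩
    intro h'
    apply hz1
    simpa using congrArg (fun t : (Q : Subgroup G) => (t : G)) h'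
  have hnt : Nontrivial (Subgroup.center (Q : Subgroup G)) :=
    (Q.2 : IsPGroup p (Q : Subgroup G)).center_nontrivial
  obtain ⟨c, hc1⟩ := exists_ne (1 : Subgroup.center (Q : Subgroup G))
  have hcne : ((c : (Q : Subgroup G)) : G) ≠ 1 := by
    intro h'
    apply hc1
    apply Subtype.ext; apply Subtype.ext
    simpa using h'
  have hccomm : ∀ x ∈ (Q : Subgroup G), x * ((c : (Q : Subgroup G)) : G) = ((c : (Q : Subgroup G)) : G) * x := by
    intro x hx
    have := Subgroup.mem_center_iff.mp c.2 ⟨x, hx⟩
    simpa using congrArg (fun t : (Q : Subgroup G) => (t : G)) this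
  have hcH : ((c : (Q : Subgroup G)) : G) ∈ H := by
    apply h z hzH hz1
    rw [Subgroup.mem_centralizer_singleton_iff]
    exact (hccomm z hzQ).symm
  have hQH : (Q : Subgroup G) ≤ H := by
    intro x hx
    apply h _ hcH hcne
    rw [Subgroup.mem_centralizer_singleton_iff]
    exact (hccomm x hx)
  have h1 : H.index ∣ (Q : Subgroup G).index := Subgroup.index_dvd_of_le hQH
  exact Q.not_dvd_index (hpI.trans h1)

end Cfsg.Agent.S0588
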