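import Cfsg.Statements.S0589
-- import your own Cfsg.Agent.* helpers here
import Mathlib
import Cfsg.Agent.Lib.Lead.FrobConj
import Cfsg.Agent.Lib.Helper18.Frobenius

set_option autoImplicit false
open Pointwise
open Cfsg

namespace Cfsg.Agent.S0589

/-- Let H be a Frobenius complement in a finite group G and L a subgroup of G whose order divides the order of H. Then L is contained in some conjugate of H. -/
theorem result {G : Type*} [Group G] [Finite G] (H : Subgroup G) (hH : Cfsg.IsFrobeniusComplement H) (L : Subgroup G) (hL : Nat.card L ∣ Nat.card H) : ∃ x : G, L ≤ MulAut.conj x • H := by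
  classical
  obtain ⟨hHbot, hHtop, hHfrob⟩ := hH
  -- fixed cosets
  have hfix : ∀ (u g : G), u • (g : G ⧸ H) = (g : G ⧸ H) ↔ g⁻¹ * u * g ∈ H := by
    intro u g
    rw [MulAction.Quotient.smul_mk, eq_comm, QuotientGroup.eq, smul_eq_mul, mul_assoc]
  -- uniqueness of fixed cosets
  have huniq : ∀ (u : G), u ≠ 1 → ∀ g g' : G, g⁻¹ * u * g ∈ H → g'⁻¹ * u * g' ∈ H →
      (g : G ⧸ H) = (g' : G ⧸ H) := by
    intro u hu g g' hg hg'
    rw [QuotientGroup.eq]
    by_contra hw
    have h1 := hHfrob (g⁻¹ * g') hw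
    have h2 : g⁻¹ * u * g ∈ H ⊓ MulAut.conj (g⁻¹ * g') • H := by
      refine Subgroup.mem_inf.mpr ⟨hg, ?_⟩
      rw [Cfsg.Agent.Lib.Helper18.mem_conj_smul_iff]
      have : (g⁻¹ * g')⁻¹ * (g⁻¹ * u * g) * (g⁻¹ * g') = g'⁻¹ * u * g' := by group
      rw [this]; exact hg'
    rw [h1, Subgroup.mem_bot] at h2
    apply hu
    have : u = g * (g⁻¹ * u * g) * g⁻¹ := by group
    rw [this, h2]; group
  -- |G/H| ≡ 1 mod p for every prime p dividing |H|
  have hmod : ∀ p : ℕ, p.Prime → p ∣ Nat.card H → Nat.card (G ⧸ H) ≡ 1 [MOD p] := by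
    intro p hp hpH
    haveI : Fact p.Prime := ⟨hp⟩
    obtain ⟨h, hh⟩ := exists_prime_orderOf_dvd_card' (G := H) p hpH
    have hh' : orderOf (h : G) = p := by rw [Subgroup.orderOf_coe]; exact hh
    have hh1 : (h : G) ≠ 1 := by
      intro h1
      rw [h1, orderOf_one] at hh'
      exact hp.one_lt.ne hh'
    have hP : IsPGroup p (Subgroup.zpowers (h : G)) := by
      apply IsPGroup.of_card (n := 1)
      rw [Nat.card_zpowers, hh', pow_one]
    have h1 := hP.card_modEq_card_fixedPoints (G ⧸ H)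
    have h2 : Nat.card (MulAction.fixedPoints (Subgroup.zpowers (h : G)) (G ⧸ H)) = 1 := by
      rw [Nat.card_eq_one_iff_unique]
      refine ⟨⟨?_⟩, ⟨⟨((1 : G) : G ⧸ H), ?_⟩⟩⟩
      · rintro ⟨x, hx⟩ ⟨y, hy⟩
        apply Subtype.ext
        show x = y
        obtain ⟨g, rfl⟩ := QuotientGroup.mk_surjective x
        obtain ⟨g', rfl⟩ := QuotientGroup.mk_surjective y
        have e1 := hx ⟨(h : G), Subgroup.mem_zpowers _⟩
        have e2 := hy ⟨(h : G), Subgroup.mem_zpowers _⟩
        exact huniq (h : G) hh1 g g' ((hfix _ _).mp e1) ((hfix _ _).mp e2)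
      · rintro ⟨u, hu⟩
        obtain ⟨k, rfl⟩ := Subgroup.mem_zpowers_iff.mp hu
        show ((h : G) ^ k) • (((1 : G) : G ⧸ H)) = _
        rw [hfix]
        simp only [inv_one, one_mul, mul_one]
        exact H.zpow_mem h.2 k
    rw [h2] at h1
    exact h1
  by_cases hLtriv : L = ⊥
  · exact ⟨1, by rw [hLtriv]; exact bot_le⟩
  haveI : Nontrivial L := (Subgroup.nontrivial_iff_ne_bot L).mpr hLtriv
  -- every nonidentity element of L has a unique fixed coset
  have hkey : ∀ l : L, l ≠ 1 → ∃! x : G ⧸ H, l • x = x := by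
    intro l hl
    have hl1 : (l : G) ≠ 1 := fun h => hl (Subtype.ext h)
    have hord : orderOf (l : G) ≠ 1 := fun h => hl1 (orderOf_eq_one_iff.mp h)
    obtain ⟨p, hp, hpl⟩ := Nat.exists_prime_and_dvd hord
    haveI : Fact p.Prime := ⟨hp⟩
    have hpL : p ∣ Nat.card L := by
      have := orderOf_dvd_natCard l
      rw [← Subgroup.orderOf_coe] at this
      exact hpl.trans this
    have hpH : p ∣ Nat.card H := hpL.trans hL
    obtain ⟨l', hl'def⟩ : ∃ l' : G, l' = (l : G) ^ (orderOf (l : G) / p) := ⟨_, rfl⟩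
    have hl'ord : orderOf l' = p := by
      rw [hl'def, orderOf_pow_of_dvd ?_ (Nat.div_dvd_of_dvd hpl)]
      · exact Nat.div_div_self hpl (orderOf_pos _).ne'
      · intro h0
        have := Nat.div_mul_cancel hpl
        rw [h0, zero_mul] at this
        exact (orderOf_pos (l : G)).ne this
    have hl'1 : l' ≠ 1 := by
      intro h1
      rw [h1, orderOf_one] at hl'ord
      exact hp.one_lt.ne hl'ord
    have hcomm : (l : G) * l' = l' * (l : G) := by
      rw [hl'def]
      exact (pow_mul_comm' (l : G) _).symm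
    have hP : IsPGroup p (Subgroup.zpowers l') := by
      apply IsPGroup.of_card (n := 1)
      rw [Nat.card_zpowers, hl'ord, pow_one]
    have h1 := hP.card_modEq_card_fixedPoints (G ⧸ H)
    have h2 := hmod p hp hpH
    have h3 : Nat.card (MulAction.fixedPoints (Subgroup.zpowers l') (G ⧸ H)) ≠ 0 := by
      intro h0
      rw [h0] at h1
      have := h2.symm.trans h1
      have h4 : (1 : ℕ) % p = 0 % p := this
      rw [Nat.mod_eq_of_lt hp.one_lt, Nat.zero_mod] at h4
      exact one_ne_zero h4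
    have h4 : Nonempty (MulAction.fixedPoints (Subgroup.zpowers l') (G ⧸ H)) := by
      by_contra hemp
      rw [not_nonempty_iff] at hemp
      exact h3 Nat.card_of_isEmpty
    obtain ⟨ω, hω⟩ := h4
    obtain ⟨g, rfl⟩ := QuotientGroup.mk_surjective ω
    have hω' : g⁻¹ * l' * g ∈ H := (hfix _ _).mp (hω ⟨l', Subgroup.mem_zpowers _⟩)
    -- l • ω is also fixed by l'
    have hlω : ((l : G) * g)⁻¹ * l' * ((l : G) * g) ∈ H := by
      have : ((l : G) * g)⁻¹ * l' * ((l : G) * g) = g⁻¹ * ((l : G)⁻¹ * (l' * (l : G))) * g := by group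
      rw [this, ← hcomm]
      have : g⁻¹ * ((l : G)⁻¹ * ((l : G) * l')) * g = g⁻¹ * l' * g := by group
      rw [this]; exact hω'
    have heq := huniq l' hl'1 ((l : G) * g) g hlω hω'
    refine ⟨(g : G ⧸ H), ?_, ?_⟩
    · show (l : G) • (g : G ⧸ H) = g
      rw [MulAction.Quotient.smul_mk, smul_eq_mul]
      exact heq
    · intro y hy
      obtain ⟨g', rfl⟩ := QuotientGroup.mk_surjective y
      have hy' : (l : G) • (g' : G ⧸ H) = g' := hy
      have e1 : (l : G) • (g : G ⧸ H) = g := by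
        rw [MulAction.Quotient.smul_mk, smul_eq_mul]
        exact heq
      exact huniq (l : G) hl1 g' g ((hfix _ _).mp hy') ((hfix _ _).mp e1)
  obtain ⟨x, hx⟩ := Cfsg.Agent.CharLib.exists_fixed_of_unique_fixed hkey
  obtain ⟨g, rfl⟩ := QuotientGroup.mk_surjective x
  refine ⟨g, ?_⟩
  intro l hl
  rw [Cfsg.Agent.Lib.Helper18.mem_conj_smul_iff]
  have := hx ⟨l, hl⟩
  exact (hfix l g).mp this

end Cfsg.Agent.S0589
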