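import Cfsg.Statements.S0590
import Mathlib

set_option autoImplicit false
open Cfsg

namespace Cfsg.Agent.S0590

open scoped commutatorElement

/-- Quadratic action on an elementary abelian p-group forces the acting group modulo the kernel of the action to be elementary abelian. -/
theorem result {G : Type*} [Group G] [Finite G] {p : ℕ} [Fact p.Prime] (V H : Subgroup G) (hV : Cfsg.IsElementaryAbelian p V) (hHV : H ≤ Subgroup.normalizer (V : Set G)) (hq : ⁅⁅V, H⁆, H⁆ = ⊥) : ⁅H, H⁆ ≤ Subgroup.centralizer (V : Set G) ∧ ∀ a ∈ H, a ^ p ∈ Subgroup.centralizer (V : Set G) := by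
  obtain ⟨hVc, hVp⟩ := hV
  constructor
  · -- three subgroups lemma
    have h1 : ⁅⁅H, V⁆, H⁆ = ⊥ := by rw [Subgroup.commutator_comm H V]; exact hq
    have h3 := Subgroup.commutator_commutator_eq_bot_of_rotate (H₁ := H) (H₂ := H) (H₃ := V) h1 hq
    exact Subgroup.commutator_eq_bot_iff_le_centralizer.mp h3
  · intro a ha
    rw [Subgroup.mem_centralizer_iff]
    intro v hv
    -- w = ⁅v, a⁆
    have hwVH : ⁅v, a⁆ ∈ ⁅V, H⁆ := Subgroup.commutator_mem_commutator hv ha
    have hwV : ⁅v, a⁆ ∈ V := by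
      have : ⁅V, H⁆ ≤ V := Subgroup.le_normalizer_iff_commutator_le_left.mp hHV
      exact this hwVH
    have hwa : Commute ⁅v, a⁆ a := by
      rw [← commutatorElement_eq_one_iff_commute]
      have : ⁅⁅v, a⁆, a⁆ ∈ ⁅⁅V, H⁆, H⁆ := Subgroup.commutator_mem_commutator hwVH ha
      rw [hq] at this
      exact Subgroup.mem_bot.mp this
    have hva : v * a = ⁅v, a⁆ * a * v := by
      rw [commutatorElement_def]; group
    have key : ∀ k : ℕ, v * a ^ k = ⁅v, a⁆ ^ k * a ^ k * v := by
      intro k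
      induction k with
      | zero => simp
      | succ k ih =>
        rw [pow_succ, ← mul_assoc, ih, mul_assoc, hva]
        have h1 : Commute (a ^ k) ⁅v, a⁆ := (hwa.pow_right k).symm
        calc ⁅v, a⁆ ^ k * a ^ k * (⁅v, a⁆ * a * v)
            = ⁅v, a⁆ ^ k * (a ^ k * ⁅v, a⁆) * a * v := by group
          _ = ⁅v, a⁆ ^ k * (⁅v, a⁆ * a ^ k) * a * v := by rw [h1.eq]
          _ = ⁅v, a⁆ ^ (k + 1) * (a ^ k * a) * v := by rw [pow_succ]; group
    rw [key p, hVp _ hwV, one_mul]

end Cfsg.Agent.S0590
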