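import Cfsg.Statements.S0591
import Mathlib

set_option autoImplicit false
open Cfsg

namespace Cfsg.Agent.S0591

open scoped commutatorElement

/-- For a quadratically acting element a on an elementary abelian p-group V, the fixed points C_V(a) have order at least the square root of the order of V. -/
theorem result {G : Type*} [Group G] [Finite G] {p : ℕ} [Fact p.Prime] (V : Subgroup G) (hV : Cfsg.IsElementaryAbelian p V) (a : G) (ha : a ∈ Subgroup.normalizer (V : Set G)) (hq : ⁅⁅V, Subgroup.zpowers a⁆, Subgroup.zpowers a⁆ = ⊥) : Nat.card V ≤ Nat.card ↥(V ⊓ Subgroup.centralizer (Subgroup.zpowers a : Set G)) ^ 2 := by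
  obtain ⟨hVc, hVp⟩ := hV
  have hcomm : ∀ x ∈ V, ∀ y ∈ V, x * y = y * x := fun x hx y hy =>
    congrArg Subtype.val (mul_comm' (⟨x, hx⟩ : V) ⟨y, hy⟩)
  have haz : a ∈ Subgroup.zpowers a := Subgroup.mem_zpowers a
  have hconj : ∀ v ∈ V, a * v * a⁻¹ ∈ V := fun v hv => (Subgroup.mem_normalizer_iff.mp ha v).mp hv
  have hfV : ∀ v ∈ V, ⁅v, a⁆ ∈ V := by
    intro v hv
    have : ⁅v, a⁆ = v * (a * v⁻¹ * a⁻¹) := by rw [commutatorElement_def]; group
    rw [this]
    exact V.mul_mem hv (hconj _ (V.inv_mem hv))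
  -- the homomorphism v ↦ ⁅v, a⁆
  let f : V →* V :=
    { toFun := fun v => ⟨⁅(v : G), a⁆, hfV v v.2⟩
      map_one' := by
        apply Subtype.ext
        simp [commutatorElement_def]
      map_mul' := by
        rintro ⟨u, hu⟩ ⟨v, hv⟩
        apply Subtype.ext
        change ⁅u * v, a⁆ = ⁅u, a⁆ * ⁅v, a⁆
        have h1 : ⁅u * v, a⁆ = u * (⁅v, a⁆ * (a * u⁻¹ * a⁻¹)) := by
          rw [commutatorElement_def, commutatorElement_def]; group
        have h2 : ⁅u, a⁆ * ⁅v, a⁆ = u * ((a * u⁻¹ * a⁻¹) * ⁅v, a⁆) := by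
          rw [commutatorElement_def, commutatorElement_def]; group
        rw [h1, h2, hcomm _ (hfV v hv) _ (hconj _ (V.inv_mem hu))] }
  set C : Subgroup G := V ⊓ Subgroup.centralizer (Subgroup.zpowers a : Set G) with hC
  have hCV : C ≤ V := inf_le_left
  -- kernel of f is C
  have hker : f.ker = C.subgroupOf V := by
    ext ⟨v, hv⟩
    rw [MonoidHom.mem_ker, Subgroup.mem_subgroupOf]
    change (⟨⁅v, a⁆, _⟩ : V) = 1 ↔ v ∈ C
    rw [Subtype.ext_iff]
    change ⁅v, a⁆ = 1 ↔ v ∈ C
    rw [commutatorElement_eq_one_iff_mul_comm, hC, Subgroup.mem_inf]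
    constructor
    · intro h
      refine ⟨hv, ?_⟩
      rw [Subgroup.mem_centralizer_iff]
      intro x hx
      obtain ⟨k, rfl⟩ := Subgroup.mem_zpowers_iff.mp hx
      exact ((Commute.zpow_right (h : Commute v a) k).eq).symm
    · rintro ⟨_, h⟩
      rw [Subgroup.mem_centralizer_iff] at h
      exact (h a haz).symm
  -- range of f is inside C
  have hrange : f.range ≤ C.subgroupOf V := by
    rintro _ ⟨⟨v, hv⟩, rfl⟩
    rw [Subgroup.mem_subgroupOf]
    change ⁅v, a⁆ ∈ C
    refine ⟨hfV v hv, ?_⟩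
    have hwVH : ⁅v, a⁆ ∈ ⁅V, Subgroup.zpowers a⁆ := Subgroup.commutator_mem_commutator hv haz
    have := Subgroup.commutator_eq_bot_iff_le_centralizer.mp hq
    exact this hwVH
  have hcardC : Nat.card (C.subgroupOf V) = Nat.card C :=
    Nat.card_congr (Subgroup.subgroupOfEquivOfLe hCV).toEquiv
  have h1 : Nat.card V = Nat.card f.ker * Nat.card f.range := by
    rw [← Subgroup.index_ker f]
    exact (Subgroup.card_mul_index f.ker).symm
  calc Nat.card V = Nat.card f.ker * Nat.card f.range := h1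
    _ ≤ Nat.card C * Nat.card C := by
        rw [hker, hcardC]
        apply Nat.mul_le_mul_left
        rw [← hcardC]
        exact Subgroup.card_le_of_le hrange
    _ = Nat.card C ^ 2 := (sq _).symm

end Cfsg.Agent.S0591
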