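import Cfsg.Statements.S0592
import Cfsg.Agent.Lib.Helper29.QuadPair

set_option autoImplicit false
open Cfsg

namespace Cfsg.Agent.S0592

open Cfsg.Agent.Lib.Helper29.QuadPair

/-- Two quadratically acting generators of a linear group that is not a p-group, with the p'-part of the order of their product dividing q - 1, give a homomorphism onto a subgroup of SL(2, q) that is not a p-group. -/
theorem result {K : Type*} [Field K] [Fintype K] {p : ℕ} [Fact p.Prime] [CharP K p] {W : Type*} [AddCommGroup W] [Module K W] [FiniteDimensional K W] [Finite W] [Nontrivial W] (H : Subgroup (W ≃ₗ[K] W)) (a b : W ≃ₗ[K] W) (hH : H = Subgroup.closure {a, b}) (ha : ∀ w : W, a (a w - w) = a w - w) (hb : ∀ w : W, b (b w - w) = b w - w) (hnp : ¬ IsPGroup p H) (hk : ∃ e k : ℕ, orderOf (a * b) = p ^ e * k ∧ k ∣ Fintype.card K - 1) : ∃ φ : H →* Matrix.SpecialLinearGroup (Fin 2) K, ¬ IsPGroup p φ.range := by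
  have haH : a ∈ H := hH ▸ Subgroup.subset_closure (by simp)
  have hbH : b ∈ H := hH ▸ Subgroup.subset_closure (by simp)
  let ρ : Representation K H W :=
    (LinearEquiv.automorphismGroup.toLinearMapMonoidHom).comp H.subtype
  have hρ : ∀ (g : H) (w : W), ρ g w = (g : W ≃ₗ[K] W) w := fun g w => rfl
  have hG : Subgroup.closure {(⟨a, haH⟩ : H), ⟨b, hbH⟩} = ⊤ := by
    apply Subgroup.map_injective H.subtype_injective
    rw [MonoidHom.map_closure, ← MonoidHom.range_eq_map, Subgroup.range_subtype]
    have himg : (H.subtype '' {(⟨a, haH⟩ : H), ⟨b, hbH⟩}) = {a, b} := by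
      simp [Set.image_pair]
    rw [himg]
    exact hH.symm
  have hinj : ∀ g : H, ρ g = 1 → g = 1 := by
    intro g hg
    apply Subtype.ext
    apply LinearEquiv.ext
    intro w
    have := congrArg (fun f => f w) hg
    simpa [hρ] using this
  apply main (p := p) (⟨a, haH⟩ : H) ⟨b, hbH⟩ hG ρ
  · intro w; exact ha w
  · intro w; exact hb w
  · obtain ⟨e, k, hord, hkd⟩ := hk
    refine ⟨e, ?_⟩
    have h1 : (a * b) ^ (p ^ e * (Fintype.card K - 1)) = 1 := by
      rw [← orderOf_dvd_iff_pow_eq_one, hord]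
      exact Nat.mul_dvd_mul_left _ hkd
    have h2 : ((⟨a, haH⟩ : H) * ⟨b, hbH⟩) ^ (p ^ e * (Fintype.card K - 1)) = 1 := by
      apply Subtype.ext
      simpa using h1
    rw [h2, map_one]
  · intro hall
    apply hnp
    intro g
    obtain ⟨i, hi⟩ := hall g
    exact ⟨i, hinj _ hi⟩

end Cfsg.Agent.S0592
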