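import Cfsg.Statements.S0599
import Cfsg.Agent.Lib.Helper17.PSupplement
import Cfsg.Agent.Lib.Helper4.ElemAb

set_option autoImplicit false
open Cfsg

namespace Cfsg.Agent.S0599

open scoped Pointwise commutatorElement in
/-- The Timmesfeld replacement Theorem: replacing a best offender A by C_A([U, A]) gives a best offender with fixed points [U, A]C_V(A), still nontrivial on V if A was. -/
theorem result {G : Type*} [Group G] [Finite G] {p : ℕ} [Fact p.Prime] (V A : Subgroup G) (hV : Cfsg.IsElementaryAbelian p V) (hAV : A ≤ Subgroup.normalizer (V : Set G)) (hA : Cfsg.IsBestOffenderOn p V A) (U : Subgroup G) (hU : U ≤ V) : Cfsg.IsBestOffenderOn p V (A ⊓ Subgroup.centralizer ((⁅U, A⁆ : Subgroup G) : Set G)) ∧ V ⊓ Subgroup.centralizer ((A ⊓ Subgroup.centralizer ((⁅U, A⁆ : Subgroup G) : Set G) : Subgroup G) : Set G) = ⁅U, A⁆ ⊔ (V ⊓ Subgroup.centralizer (A : Set G)) ∧ (⁅V, A⁆ ≠ ⊥ → ⁅V, A ⊓ Subgroup.centralizer ((⁅U, A⁆ : Subgroup G) : Set G)⁆ ≠ ⊥) := by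
  obtain ⟨hbest, hab, hpow⟩ := hA
  have hVc := Cfsg.Agent.Lib.Helper4.elemAb_comm hV
  have hact : Cfsg.Agent.Lib.Helper17.AbAct V A := ⟨hVc, hAV, hab⟩
  obtain ⟨h1, h2⟩ := Cfsg.Agent.Lib.Helper17.timmesfeld_replacement hact hbest U hU
  refine ⟨⟨?_, ?_, ?_⟩, h2, ?_⟩
  · intro B hB
    have h3 := hbest B (hB.trans inf_le_left)
    unfold Cfsg.Agent.Lib.Helper17.tm at h1
    rw [h1]; exact h3
  · exact (Subgroup.commutator_mono inf_le_left inf_le_left).trans hab
  · exact fun a ha => hpow a ha.1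
  · intro hne hbot
    apply hne
    rw [Subgroup.commutator_eq_bot_iff_le_centralizer] at hbot
    have hV2 : V = ⁅U, A⁆ ⊔ (V ⊓ Subgroup.centralizer (A : Set G)) := by
      rw [← h2]; exact (inf_eq_left.mpr hbot).symm
    obtain ⟨X, hXdef⟩ : ∃ X, X = ⁅V, A⁆ := ⟨_, rfl⟩
    rw [← hXdef]
    obtain ⟨CA, hCAdef⟩ : ∃ CA, CA = V ⊓ Subgroup.centralizer (A : Set G) := ⟨_, rfl⟩
    rw [← hCAdef] at hV2
    have hXV : X ≤ V := by
      rw [hXdef, Subgroup.commutator_le]
      intro v hv a ha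
      exact hact.comm_mem ha hv
    have hUX : ⁅U, A⁆ ≤ X := by rw [hXdef]; exact Subgroup.commutator_mono hU le_rfl
    have hCAV : CA ≤ V := by rw [hCAdef]; exact inf_le_left
    have hN : ⁅U, A⁆ ≤ Subgroup.normalizer (CA : Set G) := by
      refine le_trans ?_ (Subgroup.centralizer_le_normalizer _)
      intro x hx
      rw [Subgroup.mem_centralizer_iff]
      intro c hc
      exact hVc c (hCAV hc) x (hXV (hUX hx))
    have h3 : X ≤ ⁅X, A⁆ := by
      conv_lhs => rw [hXdef]
      rw [Subgroup.commutator_le]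
      intro v hv a ha
      have hv' : v ∈ (((⁅U, A⁆ : Subgroup G) : Set G) * (CA : Set G)) := by
        rw [← Subgroup.coe_mul_of_left_le_normalizer_right _ _ hN, ← hV2]; exact hv
      obtain ⟨x, hx, c, hc, rfl⟩ := hv'
      have hcA : c ∈ Subgroup.centralizer (A : Set G) := by
        have : c ∈ V ⊓ Subgroup.centralizer (A : Set G) := by rw [← hCAdef]; exact hc
        exact this.2
      have hca : ⁅c, a⁆ = 1 := by
        have h4 := Subgroup.mem_centralizer_iff.mp hcA a ha
        rw [commutatorElement_def]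
        calc c * a * c⁻¹ * a⁻¹ = (c * a) * c⁻¹ * a⁻¹ := by group
          _ = (a * c) * c⁻¹ * a⁻¹ := by rw [h4]
          _ = 1 := by group
      rw [hact.comm_mul ha (hXV (hUX hx)) (hCAV hc), hca, mul_one]
      exact Subgroup.commutator_mem_commutator (hUX hx) ha
    have hXp : IsPGroup p X := (Cfsg.Agent.Lib.Helper4.elemAb_isPGroup hV).to_le hXV
    have hAX : A ≤ Subgroup.normalizer (X : Set G) := by
      intro a ha
      apply Cfsg.Agent.Lib.Helper17.mem_normalizer_of_map_conj_le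
      rw [hXdef, Subgroup.map_commutator]
      apply Subgroup.commutator_mono
      · rintro _ ⟨v, hv, rfl⟩
        exact hact.conj_mem ha hv
      · rintro _ ⟨b, hb, rfl⟩
        exact A.mul_mem (A.mul_mem ha hb) (A.inv_mem ha)
    have hKX : A ⊓ Subgroup.centralizer (V : Set G) ≤ Subgroup.centralizer (X : Set G) :=
      inf_le_right.trans (Subgroup.centralizer_le (fun x hx => hXV hx))
    have hKn : A ≤ Subgroup.normalizer ((A ⊓ Subgroup.centralizer (V : Set G) : Subgroup G) : Set G) := by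
      intro a ha
      apply Cfsg.Agent.Lib.Helper17.mem_normalizer_of_forall_conj_mem
      intro k hk
      refine Subgroup.mem_inf.mpr ⟨A.mul_mem (A.mul_mem ha hk.1) (A.inv_mem ha), ?_⟩
      rw [Subgroup.mem_centralizer_iff]
      intro v hv
      have hv' : a⁻¹ * v * a ∈ V := by
        have := hact.conj_mem (A.inv_mem ha) hv
        simpa using this
      have h5 := Subgroup.mem_centralizer_iff.mp hk.2 _ hv'
      calc v * (a * k * a⁻¹) = a * ((a⁻¹ * v * a) * k) * a⁻¹ := by group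
        _ = a * (k * (a⁻¹ * v * a)) * a⁻¹ := by rw [h5]
        _ = a * k * a⁻¹ * v := by group
    exact Cfsg.Agent.Lib.Helper17.eq_bot_of_le_commutator' X A _ hXp hAX hKX hKn
      (fun a ha => Subgroup.mem_inf.mpr ⟨A.pow_mem ha p, hpow a ha⟩) h3

end Cfsg.Agent.S0599
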