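import Cfsg.Statements.S0603
import Mathlib
import Cfsg.Agent.Lib.Helper4.ElemAb

set_option autoImplicit false
open Cfsg

namespace Cfsg.Agent.S0603

open Cfsg.Agent.Lib.Helper4

/-- The Thompson subgroup of any subgroup containing J(G) is J(G) itself. -/
theorem result {G : Type*} [Group G] [Finite G] {p : ℕ} [Fact p.Prime] (U : Subgroup G) (hU : Cfsg.thompsonSubgroup p G ≤ U) : Cfsg.thompsonSubgroupOf p U = Cfsg.thompsonSubgroup p G := by
  obtain ⟨A0, hA0⟩ := exists_maxElemAb (G := G) p
  have hJ : ∀ A ∈ Cfsg.maxElementaryAbelianSubgroups p G, A ≤ U :=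
    fun A hA => (le_sSup hA : A ≤ Cfsg.thompsonSubgroup p G).trans hU
  have hcardsub : ∀ A : Subgroup G, A ≤ U → Nat.card (A.subgroupOf U) = Nat.card A :=
    fun A hA => Nat.card_congr (Subgroup.subgroupOfEquivOfLe hA).toEquiv
  have hcardmap : ∀ B : Subgroup U, Nat.card (B.map U.subtype) = Nat.card B :=
    fun B => Subgroup.card_map_of_injective U.subtype_injective
  have hsubEl : ∀ A : Subgroup G, Cfsg.IsElementaryAbelian p A → Cfsg.IsElementaryAbelian p (A.subgroupOf U) :=
    fun A hA => elemAb_comap_injective U.subtype U.subtype_injective hA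
  unfold Cfsg.thompsonSubgroupOf Cfsg.thompsonSubgroup
  apply le_antisymm
  · rw [Subgroup.map_le_iff_le_comap]
    apply sSup_le
    intro B hB
    rw [← Subgroup.map_le_iff_le_comap]
    apply le_sSup
    refine ⟨elemAb_map _ hB.1, ?_⟩
    intro C hC
    calc Nat.card C ≤ Nat.card A0 := hA0.2 C hC
      _ = Nat.card (A0.subgroupOf U) := (hcardsub A0 (hJ A0 hA0)).symm
      _ ≤ Nat.card B := hB.2 _ (hsubEl A0 hA0.1)
      _ = Nat.card (B.map U.subtype) := (hcardmap B).symm
  · apply sSup_le
    intro A hA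
    have hAU := hJ A hA
    have : A = (A.subgroupOf U).map U.subtype := by
      rw [Subgroup.map_subgroupOf_eq_of_le hAU]
    rw [this]
    apply Subgroup.map_mono
    apply le_sSup
    refine ⟨hsubEl A hA.1, ?_⟩
    intro B hB
    calc Nat.card B = Nat.card (B.map U.subtype) := (hcardmap B).symm
      _ ≤ Nat.card A := hA.2 _ (elemAb_map _ hB)
      _ = Nat.card (A.subgroupOf U) := (hcardsub A hAU).symm

end Cfsg.Agent.S0603
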