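import Cfsg.Statements.S0604
import Mathlib
import Cfsg.Agent.Lib.Helper4.ElemAb

set_option autoImplicit false
open Cfsg

namespace Cfsg.Agent.S0604

open Cfsg.Agent.Lib.Helper4
open scoped Pointwise

/-- The Thompson subgroup of G is the join of the Thompson subgroups of its Sylow p-subgroups. -/
theorem result {G : Type*} [Group G] [Finite G] {p : ℕ} [Fact p.Prime] : Cfsg.thompsonSubgroup p G = ⨆ S : Sylow p G, Cfsg.thompsonSubgroupOf p (S : Subgroup G) := by
  obtain ⟨A0, hA0⟩ := exists_maxElemAb (G := G) p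
  obtain ⟨S0, hS0⟩ := (elemAb_isPGroup hA0.1).exists_le_sylow
  apply le_antisymm
  · unfold Cfsg.thompsonSubgroup
    apply sSup_le
    intro A hA
    obtain ⟨S, hS⟩ := (elemAb_isPGroup hA.1).exists_le_sylow
    exact (le_thompsonOf (S : Subgroup G) hA hS).trans
      (le_iSup (fun S : Sylow p G => Cfsg.thompsonSubgroupOf p (S : Subgroup G)) S)
  · apply iSup_le
    intro S
    apply thompsonOf_le
    obtain ⟨g, hg⟩ := MulAction.exists_smul_eq G S0 S
    refine ⟨MulAut.conj g • A0, maxElemAb_conj hA0 g, ?_⟩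
    rw [← hg, Sylow.coe_subgroup_smul]
    exact Subgroup.pointwise_smul_le_pointwise_smul_iff.mpr hS0

end Cfsg.Agent.S0604
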