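import Cfsg.Statements.S0615
import Mathlib
import Cfsg.Agent.Lib.Helper2.SubnIrrB
import Cfsg.Agent.Lib.Helper20.Subnormal

set_option autoImplicit false
open Cfsg

namespace Cfsg.Agent.S0615

/-- Two subnormal subgroups acting irreducibly on their incomparable commutator modules, in a faithful group with trivial largest normal p-subgroup, generate their direct product, and the commutator module splits accordingly. -/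
theorem result {G : Type*} [Group G] [Finite G] {p : ℕ} [Fact p.Prime] (V E E₁ E₂ : Subgroup G) (hV : Cfsg.IsElementaryAbelian p V) (hEV : E ≤ Subgroup.normalizer (V : Set G)) (hf : E ⊓ Subgroup.centralizer (V : Set G) = ⊥) (hgen : E = E₁ ⊔ E₂) (hs₁ : (E₁.subgroupOf E).IsSubnormal) (hs₂ : (E₂.subgroupOf E).IsSubnormal) (hOp : Cfsg.pCore p ↥E = ⊥) (hirr₁ : (∀ U : Subgroup G, U ≤ ⁅V, E₁⁆ → E₁ ≤ Subgroup.normalizer (U : Set G) → U = ⊥ ∨ U = ⁅V, E₁⁆)) (hirr₂ : (∀ U : Subgroup G, U ≤ ⁅V, E₂⁆ → E₂ ≤ Subgroup.normalizer (U : Set G) → U = ⊥ ∨ U = ⁅V, E₂⁆)) (h12 : ¬ ⁅V, E₁⁆ ≤ ⁅V, E₂⁆) (h21 : ¬ ⁅V, E₂⁆ ≤ ⁅V, E₁⁆) (hc₁ : 2 < Nat.card E₁) (hc₂ : 2 < Nat.card E₂) : ⁅E₁, E₂⁆ = ⊥ ∧ E₁ ⊓ E₂ = ⊥ ∧ ⁅V, E₁⁆ ⊓ ⁅V, E₂⁆ = ⊥ ∧ ⁅V, E⁆ = ⁅V, E₁⁆ ⊔ ⁅V, E₂⁆ := by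
  classical
  have hE₁ : E₁ ≤ E := hgen ▸ le_sup_left
  have hE₂ : E₂ ≤ E := hgen ▸ le_sup_right
  have hcomm : ∀ a ∈ V, ∀ b ∈ V, a * b = b * a := by
    intro a ha b hb
    have := hV.1
    have := mul_comm' (⟨a, ha⟩ : V) ⟨b, hb⟩
    exact congrArg Subtype.val this
  have hcore : ∀ Y : Subgroup G, Cfsg.Agent.Lib.Helper1.SubIn Y E → (∀ y ∈ Y, y ^ p = 1) → Y = ⊥ := by
    intro Y hY hp
    have hpg : IsPGroup p ↥(Y.subgroupOf E) := by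
      intro x
      refine ⟨1, ?_⟩
      apply Subtype.ext
      apply Subtype.ext
      have := hp _ x.2
      simpa using this
    have hle := Cfsg.Agent.Lib.Helper20.subnormal_pgroup_le_pCore p _ hY.2 hpg
    rw [hOp] at hle
    rw [eq_bot_iff]
    intro y hy
    have h1 : (⟨y, hY.1 hy⟩ : E) ∈ Y.subgroupOf E := by
      rw [Subgroup.mem_subgroupOf]; exact hy
    have h2 := hle h1
    rw [Subgroup.mem_bot] at h2 ⊢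
    exact congrArg Subtype.val h2
  have S : Cfsg.Agent.Lib.Helper2.SubnIrr.Setup p V E := ⟨hcomm, hV.2, hEV, hf, hcore⟩
  have g₁ : Cfsg.Agent.Lib.Helper2.SubnIrr.Good V E E₁ := ⟨⟨hE₁, hs₁⟩, hirr₁, hc₁⟩
  have g₂ : Cfsg.Agent.Lib.Helper2.SubnIrr.Good V E E₂ := ⟨⟨hE₂, hs₂⟩, hirr₂, hc₂⟩
  have hc := Cfsg.Agent.Lib.Helper2.SubnIrr.main p V _ E rfl S E₁ E₂ g₁ g₂ h12 h21
  refine ⟨hc.1, ?_, hc.2, ?_⟩
  · exact Cfsg.Agent.Lib.Helper2.SubnIrr.inf_eq_bot_of_concl S g₁.sub g₂.sub hc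
  · exact Cfsg.Agent.Lib.Helper2.SubnIrr.commutator_sup_eq S hgen
      (Cfsg.Agent.Lib.Helper2.SubnIrr.centralizes_of_concl S hE₁ hE₂ hc)
      (Cfsg.Agent.Lib.Helper2.SubnIrr.centralizes_of_concl S hE₂ hE₁ hc.symm)

end Cfsg.Agent.S0615
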