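import Cfsg.Statements.S0619
import Cfsg.Agent.Lib.Helper8.BridgeFF
import Cfsg.Agent.S0610
import Cfsg.Agent.Lib.Helper4.ElemAb

set_option autoImplicit false
open Cfsg

namespace Cfsg.Agent.S0619

open scoped commutatorElement

open Cfsg.Agent.Lib.Helper8.Bridge Cfsg.Agent.Lib.Helper4 in
/-- For `A ∈ 𝒜(G)`, `V (A ∩ C_G(V))` is again in `𝒜(G)`. -/
theorem replace_mem {G : Type*} [Group G] [Finite G] {p : ℕ} [Fact p.Prime] (hsep : Cfsg.IsPSolvable p G)
    (V : Subgroup G) [V.Normal] (hV : Cfsg.IsElementaryAbelian p V)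
    (hO : Cfsg.pCore p (G ⧸ Subgroup.centralizer (V : Set G)) = ⊥)
    (A : Subgroup G) (hA : A ∈ Cfsg.maxElementaryAbelianSubgroups p G) :
    V ⊔ (A ⊓ Subgroup.centralizer (V : Set G)) ∈ Cfsg.maxElementaryAbelianSubgroups p G := by
  classical
  set C := Subgroup.centralizer (V : Set G) with hC
  set K := A ⊓ C with hK
  have hVC : V ≤ C := by
    intro v hv
    rw [hC, Subgroup.mem_centralizer_iff]
    intro h hh
    exact elemAb_comm hV h hh v hv
  have hel : Cfsg.IsElementaryAbelian p (V ⊔ K) := by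
    apply elemAb_sup hV (elemAb_mono inf_le_left hA.1)
    intro v hv k hk
    exact (Subgroup.mem_centralizer_iff.mp hk.2) v hv
  -- cardinalities
  have hKV : K ⊓ V ≤ V ⊓ Subgroup.centralizer (A : Set G) := by
    intro x hx
    refine ⟨hx.2, Subgroup.mem_centralizer_iff.mpr ?_⟩
    intro a ha
    exact elemAb_comm hA.1 a ha x hx.1.1
  have hc1 : Nat.card ↥(V ⊔ K) * Nat.card ↥(K ⊓ V) = Nat.card V * Nat.card K := by
    have h1 : Nat.card ↥(K ⊔ V) = Nat.card ↥V * V.relIndex K :=
      Cfsg.Agent.Lib.Helper12.card_sup_eq_of_normal K V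
    have h2 := card_subgroupOf_mul_relIndex V K
    rw [sup_comm, h1, ← h2]
    ring
  have hkey : Nat.card A * Nat.card ↥(K ⊓ V) ≤ Nat.card V * Nat.card K := by
    by_cases hAC : A ≤ C
    · have : K = A := inf_eq_left.mpr hAC
      rw [this, mul_comm]
      exact Nat.mul_le_mul_right _ (Subgroup.card_le_of_le inf_le_right)
    · have hJ : ¬ Cfsg.thompsonSubgroup p G ≤ Subgroup.centralizer (V : Set G) := by
        intro h
        exact hAC (le_trans (le_sSup hA) h)
      have hA1 : A.map (pi V) ≠ ⊥ := by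
        intro h
        apply hAC
        rw [hC, ← ker_pi]
        exact (Subgroup.map_eq_bot_iff _).mp h
      have h610 := Cfsg.Agent.S0610.result (V' V) ((Cfsg.thompsonSubgroup p G).map (pi V))
        (isElementaryAbelian_V' V hV) (thompson_map_pi_le_normalizer V) (map_pi_inf_centralizer V _)
        (hS1_map_pi V hsep hO _) (thompson_map_pi_eq_iSup V hV) (thompson_map_pi_ne_bot V hJ)
        (A.map (pi V)) (Subgroup.map_mono (le_sSup hA))
        (isBestOffenderOn_map_pi V A (Cfsg.Agent.S0606.result V hV A hA)) hA1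
      rw [card_V'_inf_centralizer_map, card_V'] at h610
      have h3 := card_map_pi_mul V A
      calc Nat.card A * Nat.card ↥(K ⊓ V)
          ≤ Nat.card A * Nat.card ↥(V ⊓ Subgroup.centralizer (A : Set G)) :=
            Nat.mul_le_mul_left _ (Subgroup.card_le_of_le hKV)
        _ = (Nat.card ↥(A.map (pi V)) * Nat.card ↥K) *
              Nat.card ↥(V ⊓ Subgroup.centralizer (A : Set G)) := by rw [h3]
        _ = (Nat.card ↥(A.map (pi V)) * Nat.card ↥(V ⊓ Subgroup.centralizer (A : Set G))) *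
              Nat.card ↥K := by ring
        _ = Nat.card V * Nat.card K := by rw [h610]
  have hcard : Nat.card A ≤ Nat.card ↥(V ⊔ K) := by
    have hpos : 0 < Nat.card ↥(K ⊓ V) := Nat.card_pos
    apply Nat.le_of_mul_le_mul_right _ hpos
    rw [hc1]
    exact hkey
  exact ⟨hel, fun B hB => le_trans (hA.2 B hB) hcard⟩

/-- For a p-separable group and a normal elementary abelian p-subgroup V with no nontrivial normal p-subgroup modulo its centralizer C, the Thompson subgroup J(G) moves Ω₁(Z(J(C))) only inside V. -/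
theorem result {G : Type*} [Group G] [Finite G] {p : ℕ} [Fact p.Prime] (hsep : Cfsg.IsPSolvable p G) (V : Subgroup G) [V.Normal] (hV : Cfsg.IsElementaryAbelian p V) (hO : Cfsg.pCore p (G ⧸ Subgroup.centralizer (V : Set G)) = ⊥) : ⁅Cfsg.omegaOne p (Cfsg.centerThompsonOf p (Subgroup.centralizer (V : Set G))), Cfsg.thompsonSubgroup p G⁆ ≤ V := by
  classical
  set C := Subgroup.centralizer (V : Set G) with hC
  -- reduce to generators
  have hVC : V ≤ C := by
    intro v hv
    rw [hC, Subgroup.mem_centralizer_iff]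
    intro h hh
    exact Cfsg.Agent.Lib.Helper4.elemAb_comm hV h hh v hv
  -- `W ≤ A₀` for every `A₀ ∈ 𝒜(G)` inside `C`
  have hW : ∀ A₀ : Subgroup G, A₀ ∈ Cfsg.maxElementaryAbelianSubgroups p G → A₀ ≤ C →
      Cfsg.omegaOne p (Cfsg.centerThompsonOf p C) ≤ A₀ := by
    intro A₀ hA₀ hA₀C
    unfold Cfsg.omegaOne
    rw [Subgroup.closure_le]
    rintro x ⟨hx, hxp⟩
    have hAJ : A₀ ≤ Cfsg.thompsonSubgroupOf p C := Cfsg.Agent.Lib.Helper4.le_thompsonOf C hA₀ hA₀C
    have hxc : x ∈ Subgroup.centralizer (Cfsg.thompsonSubgroupOf p C : Set G) := hx.2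
    have hel : Cfsg.IsElementaryAbelian p (Subgroup.zpowers x ⊔ A₀) := by
      apply Cfsg.Agent.Lib.Helper4.elemAb_sup (Cfsg.Agent.Lib.Helper4.elemAb_zpowers hxp) hA₀.1
      intro y hy a ha
      obtain ⟨k, rfl⟩ := Subgroup.mem_zpowers_iff.mp hy
      have hcomm : Commute a x := (Subgroup.mem_centralizer_iff.mp hxc) a (hAJ ha)
      exact ((hcomm.zpow_right k).eq).symm
    have hle : Nat.card ↥(Subgroup.zpowers x ⊔ A₀) ≤ Nat.card A₀ := hA₀.2 _ hel
    have heq : A₀ = Subgroup.zpowers x ⊔ A₀ :=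
      Subgroup.eq_of_le_of_card_ge le_sup_right hle
    show x ∈ A₀
    rw [heq]
    exact Subgroup.mem_sup_left (Subgroup.mem_zpowers x)
  -- `[W, A] ≤ V` for every `A ∈ 𝒜(G)`
  have hWA : ∀ A : Subgroup G, A ∈ Cfsg.maxElementaryAbelianSubgroups p G →
      ⁅Cfsg.omegaOne p (Cfsg.centerThompsonOf p C), A⁆ ≤ V := by
    intro A hA
    have hA₀ := replace_mem hsep V hV hO A hA
    have hA₀C : V ⊔ (A ⊓ C) ≤ C := sup_le hVC inf_le_right
    refine le_trans (Subgroup.commutator_mono (hW _ hA₀ hA₀C) le_rfl) ?_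
    rw [Subgroup.commutator_le]
    intro g hg a ha
    have hg' : g ∈ ((V ⊔ (A ⊓ C) : Subgroup G) : Set G) := hg
    rw [Subgroup.normal_mul] at hg'
    obtain ⟨v, hv, c, hc, rfl⟩ := Set.mem_mul.mp hg'
    have hca : c * a = a * c := Cfsg.Agent.Lib.Helper4.elemAb_comm hA.1 c hc.1 a ha
    have : ⁅v * c, a⁆ = v * (a * v⁻¹ * a⁻¹) := by
      rw [commutatorElement_def]
      calc v * c * a * (v * c)⁻¹ * a⁻¹ = v * (c * a) * c⁻¹ * v⁻¹ * a⁻¹ := by group
        _ = v * (a * c) * c⁻¹ * v⁻¹ * a⁻¹ := by rw [hca]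
        _ = v * (a * v⁻¹ * a⁻¹) := by group
    rw [this]
    exact mul_mem hv (Subgroup.Normal.conj_mem inferInstance v⁻¹ (inv_mem hv) a)
  -- pass to the join
  set W := Cfsg.omegaOne p (Cfsg.centerThompsonOf p C) with hWdef
  let L : Subgroup G := (Subgroup.centralizer
    ((W.map (QuotientGroup.mk' V) : Subgroup (G ⧸ V)) : Set (G ⧸ V))).comap (QuotientGroup.mk' V)
  have hLiff : ∀ g : G, g ∈ L ↔ ∀ w ∈ W, ⁅w, g⁆ ∈ V := by
    intro g
    show QuotientGroup.mk' V g ∈ Subgroup.centralizer _ ↔ _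
    rw [Subgroup.mem_centralizer_iff]
    constructor
    · intro h w hw
      have h1 := h (QuotientGroup.mk' V w) (Subgroup.mem_map_of_mem _ hw)
      rw [← QuotientGroup.eq_one_iff, commutatorElement_def]
      simp only [QuotientGroup.mk_mul, QuotientGroup.mk_inv]
      have h1' : (QuotientGroup.mk w : G ⧸ V) * QuotientGroup.mk g = QuotientGroup.mk g * QuotientGroup.mk w := h1
      rw [h1']
      group
    · rintro h _ ⟨w, hw, rfl⟩
      have h1 := h w hw
      rw [← QuotientGroup.eq_one_iff, commutatorElement_def] at h1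
      simp only [QuotientGroup.mk_mul, QuotientGroup.mk_inv] at h1
      show (QuotientGroup.mk w : G ⧸ V) * QuotientGroup.mk g = QuotientGroup.mk g * QuotientGroup.mk w
      calc (QuotientGroup.mk w : G ⧸ V) * QuotientGroup.mk g
          = ((QuotientGroup.mk w : G ⧸ V) * QuotientGroup.mk g * (QuotientGroup.mk w)⁻¹ *
              (QuotientGroup.mk g)⁻¹) * (QuotientGroup.mk g * QuotientGroup.mk w) := by group
        _ = QuotientGroup.mk g * QuotientGroup.mk w := by rw [h1, one_mul]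
  have hJL : Cfsg.thompsonSubgroup p G ≤ L := by
    unfold Cfsg.thompsonSubgroup
    apply sSup_le
    intro A hA a ha
    rw [hLiff]
    intro w hw
    exact hWA A hA (Subgroup.commutator_mem_commutator hw ha)
  rw [Subgroup.commutator_le]
  intro w hw g hg
  exact (hLiff g).mp (hJL hg) w hw

end Cfsg.Agent.S0619
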