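import Cfsg.Statements.S0620
import Cfsg.Agent.Lib.Helper8.FFCoprimeT
import Cfsg.Agent.Lib.Helper4.ThompsonFact1
import Cfsg.Agent.Lib.Helper16.Minimal
import Cfsg.Agent.Lib.Helper27.Thompson

set_option autoImplicit false
open Cfsg

namespace Cfsg.Agent.S0620

/-- Under coprime action of an elementary abelian q-group X on a p-separable group K with trivial p'-core, K is generated by the normalizer of J(S), the centralizer of Ω₁(Z(S)) and the fixed points of X. -/
theorem result {G : Type*} [Group G] [Finite G] {p : ℕ} [Fact p.Prime] {q : ℕ} [Fact q.Prime] (K X : Subgroup G) (hXK : X ≤ Subgroup.normalizer (K : Set G)) (hX : Cfsg.IsElementaryAbelian q X) (hq : ¬ q ∣ Nat.card K) (hsep : Cfsg.IsPSolvable p ↥K) (hO : Cfsg.pPrimeCore p ↥K = ⊥) (S : Sylow p ↥K) : (Subgroup.normalizer (Cfsg.thompsonSubgroupOf p (S : Subgroup ↥K) : Set ↥K) ⊔ Subgroup.centralizer (Cfsg.omegaOne p ((S : Subgroup ↥K) ⊓ Subgroup.centralizer ((S : Subgroup ↥K) : Set ↥K)) : Set ↥K) ⊔ (Subgroup.centralizer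 (X : Set G)).subgroupOf K) = ⊤ := by
  classical
  by_cases hnf : Cfsg.IsThompsonFactorizable p ↥K
  · rw [eq_top_iff]
    intro g _
    obtain ⟨x, hx, c, hc, n, hn, rfl⟩ := hnf S g
    rw [hO, Subgroup.mem_bot] at hx
    rw [hx, one_mul]
    exact mul_mem (Subgroup.mem_sup_left (Subgroup.mem_sup_right hc))
      (Subgroup.mem_sup_left (Subgroup.mem_sup_left hn))
  · obtain ⟨h9, -⟩ := Cfsg.Agent.Lib.Helper8.Bridge.coprime_operator_main K X hXK hX hq hsep hO hnf
    set T : Subgroup ↥K := Subgroup.normalizer (Cfsg.thompsonSubgroupOf p (S : Subgroup ↥K) : Set ↥K) ⊔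
      Subgroup.centralizer (Cfsg.omegaOne p ((S : Subgroup ↥K) ⊓
        Subgroup.centralizer ((S : Subgroup ↥K) : Set ↥K)) : Set ↥K) ⊔
      (Subgroup.centralizer (X : Set G)).subgroupOf K with hT
    have hc : Subgroup.centralizer (Cfsg.pCore p ↥K : Set ↥K) ≤ Cfsg.pCore p ↥K :=
      Cfsg.Agent.Lib.Helper12.centralizer_pCore_le_pCore p hsep hO
    obtain ⟨hVn, -, -⟩ := Cfsg.Agent.S0601.result (G := ↥K) (p := p) hc
    set VK : Subgroup ↥K := ⨆ S : Sylow p ↥K, Cfsg.omegaOne p ((S : Subgroup ↥K) ⊓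
      Subgroup.centralizer ((S : Subgroup ↥K) : Set ↥K)) with hVK
    have hT1 : Subgroup.centralizer ((VK : Subgroup ↥K) : Set ↥K) ≤ T := by
      refine le_trans ?_ (le_sup_left.trans' le_sup_right)
      apply Subgroup.centralizer_le
      exact le_iSup (fun S : Sylow p ↥K => Cfsg.omegaOne p ((S : Subgroup ↥K) ⊓
        Subgroup.centralizer ((S : Subgroup ↥K) : Set ↥K))) S
    have hNT : Subgroup.normalizer (Cfsg.thompsonSubgroupOf p (S : Subgroup ↥K) : Set ↥K) ≤ T :=
      le_sup_left.trans le_sup_left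
    have hST : (S : Subgroup ↥K) ≤ T :=
      (Subgroup.le_normalizer.trans
        (Cfsg.Agent.Lib.Helper4.normalizer_le_normalizer_thompson (S : Subgroup ↥K))).trans hNT
    have hJT : Cfsg.thompsonSubgroup p ↥K ≤ T := h9 T S hT1 le_sup_right hST
    -- Frattini argument
    set L : Subgroup ↥K := Cfsg.thompsonSubgroup p ↥K ⊔ Subgroup.centralizer ((VK : Subgroup ↥K) : Set ↥K)
      with hL
    have hLT : L ≤ T := sup_le hJT hT1
    haveI hLn : L.Normal := by
      haveI := hVn
      have h1 : (Cfsg.thompsonSubgroup p ↥K).Normal := Cfsg.Agent.Lib.Helper8.Bridge.thompson_normal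
      have h2 : (Subgroup.centralizer ((VK : Subgroup ↥K) : Set ↥K)).Normal := inferInstance
      exact Subgroup.sup_normal _ _
    obtain ⟨P, hP⟩ := Cfsg.Agent.Lib.Helper16.exists_sylow_of_normal_inf S L
    have hfr := Sylow.normalizer_sup_eq_top P
    rw [hP] at hfr
    have hJS : Cfsg.thompsonSubgroupOf p (S : Subgroup ↥K) ≤ (S : Subgroup ↥K) ⊓ L := by
      refine le_inf ?_ ?_
      · unfold Cfsg.thompsonSubgroupOf
        exact Subgroup.map_subtype_le _
      · exact (Cfsg.Agent.Lib.Helper4.thompsonSubgroupOf_sylow_le S).trans le_sup_left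
    have hJeq : Cfsg.thompsonSubgroupOf p ((S : Subgroup ↥K) ⊓ L) =
        Cfsg.thompsonSubgroupOf p (S : Subgroup ↥K) :=
      Cfsg.Agent.Lib.Helper27.thompsonSubgroupOf_eq_of_le p hJS inf_le_left
    have hNN : Subgroup.normalizer (((S : Subgroup ↥K) ⊓ L : Subgroup ↥K) : Set ↥K) ≤ T := by
      refine le_trans ?_ hNT
      rw [← hJeq]
      exact Cfsg.Agent.Lib.Helper4.normalizer_le_normalizer_thompson _
    rw [eq_top_iff, ← hfr]
    exact sup_le hNN hLT

end Cfsg.Agent.S0620
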