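import Cfsg.Statements.S0630
import Cfsg.Agent.Lib.Helper9.PConstrained
import Cfsg.Agent.Lib.Helper9.FStar4

set_option autoImplicit false
open Cfsg

namespace Cfsg.Agent.S0630

/-- p-constraint passes to and from the quotient by the largest normal subgroup of order prime to p. -/
theorem result {G : Type*} [Group G] [Finite G] {p : ℕ} [Fact p.Prime] : Cfsg.IsPConstrained p G ↔ Cfsg.IsPConstrained p (G ⧸ Cfsg.pPrimeCore p G) := by
  rw [Cfsg.Agent.Lib.Helper9.isPConstrained_iff_layer_quotient_eq_bot,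
    Cfsg.Agent.Lib.Helper9.isPConstrained_iff_layer_quotient_eq_bot]
  have hbot : Cfsg.pPrimeCore p (G ⧸ Cfsg.pPrimeCore p G) = ⊥ :=
    Cfsg.Agent.Lib.Helper9.pPrimeCore_quotient_eq_bot p
  have e : ((G ⧸ Cfsg.pPrimeCore p G) ⧸ Cfsg.pPrimeCore p (G ⧸ Cfsg.pPrimeCore p G)) ≃*
      (G ⧸ Cfsg.pPrimeCore p G) :=
    (QuotientGroup.quotientMulEquivOfEq hbot).trans QuotientGroup.quotientBot
  have h1 := Cfsg.Agent.Lib.Helper9.layer_map_equiv e
  constructor
  · intro h
    rw [h] at h1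
    exact (Subgroup.map_eq_bot_iff_of_injective _ e.injective).mp h1
  · intro h
    rw [h, Subgroup.map_bot] at h1
    exact h1.symm

end Cfsg.Agent.S0630
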