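import Cfsg.Statements.S0632
import Mathlib
import Cfsg.Agent.Lib.Helper12.Cores
import Cfsg.Agent.Lib.Helper12.PPrimeP
-- import your own Cfsg.Agent.* helpers here

set_option autoImplicit false
open Cfsg

namespace Cfsg.Agent.S0632

open Subgroup

open Cfsg.Agent.Lib.Helper12

section gen
variable {G H : Type*} [Group G] [Group H]

/-- Frattini: if `K` is a normal `p'`-subgroup, `P` a `p`-subgroup and `KP` is normal then `G = N_G(P) K`. -/
theorem frattini_coprime [Finite G] {p : ℕ} [Fact p.Prime] (K P : Subgroup G) [K.Normal]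
    (hK : (Nat.card K).Coprime p) (hP : IsPGroup p P) (hn : (K ⊔ P).Normal) (g : G) :
    ∃ n ∈ normalizer (P : Set G), ∃ k ∈ K, g = n * k := by
  obtain ⟨N, hN⟩ : ∃ N : Subgroup G, N = K ⊔ P := ⟨_, rfl⟩
  have : N.Normal := hN ▸ hn
  have hPN : P ≤ N := hN ▸ le_sup_right
  -- Sylow of N containing P
  obtain ⟨S, hS⟩ : ∃ S : Sylow p N, P.subgroupOf N ≤ S := IsPGroup.exists_le_sylow
    (hP.comap_of_injective N.subtype N.subtype_injective : IsPGroup p (P.subgroupOf N))
  have hSP : (S : Subgroup N).map N.subtype = P := by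
    apply le_antisymm
    · rintro s ⟨⟨s, hsN⟩, hsS, rfl⟩
      have hs' : s ∈ K ⊔ P := hN ▸ hsN
      rw [← SetLike.mem_coe, Subgroup.normal_mul] at hs'
      obtain ⟨k, hk, x, hx, hkx⟩ := hs'
      replace hkx : k * x = s := hkx
      have hxS : (⟨x, hPN hx⟩ : N) ∈ (S : Subgroup N) := hS (by
        rw [Subgroup.mem_subgroupOf]; exact hx)
      have hkS : (⟨k, hN ▸ (le_sup_left : K ≤ K ⊔ P) hk⟩ : N) ∈ (S : Subgroup N) := by
        have : (⟨k, hN ▸ (le_sup_left : K ≤ K ⊔ P) hk⟩ : N) = ⟨s, hsN⟩ * (⟨x, hPN hx⟩ : N)⁻¹ := by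
          apply Subtype.ext
          simp only [Subgroup.coe_mul, Subgroup.coe_inv]
          rw [← hkx]; group
        rw [this]
        exact mul_mem hsS (inv_mem hxS)
      have hk1 : k = 1 := by
        have h1 : K ⊓ (S : Subgroup N).map N.subtype = ⊥ :=
          inf_eq_bot_of_coprime_of_isPGroup hK (S.isPGroup'.map N.subtype)
        have : k ∈ K ⊓ (S : Subgroup N).map N.subtype := ⟨hk, ⟨_, hkS, rfl⟩⟩
        rw [h1] at this
        exact this
      simp only [Subgroup.coe_subtype]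
      rw [← hkx, hk1, one_mul]
      exact hx
    · intro x hx
      exact ⟨⟨x, hPN hx⟩, hS (by rw [Subgroup.mem_subgroupOf]; exact hx), rfl⟩
  have hF := Sylow.normalizer_sup_eq_top S
  rw [hSP] at hF
  have hg : g ∈ normalizer (P : Set G) ⊔ N := by rw [hF]; trivial
  rw [← SetLike.mem_coe, Subgroup.mul_normal] at hg
  obtain ⟨n, hn', y, hy, hny⟩ := hg
  have hy' : y ∈ K ⊔ P := hN ▸ hy
  rw [← SetLike.mem_coe, Subgroup.normal_mul] at hy'
  obtain ⟨k, hk, x, hx, hkx⟩ := hy'
  replace hkx : k * x = y := hkx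
  replace hny : n * y = g := hny
  -- g = n * (k * x) = (n * x) * (x⁻¹ * k * x)
  refine ⟨n * x, mul_mem hn' (le_normalizer hx), x⁻¹ * k * x, ?_, ?_⟩
  · have := (inferInstance : K.Normal).conj_mem k hk x⁻¹
    simpa using this
  · rw [← hny, ← hkx]; group

/-- the natural map `N_G(P) → N_H(f P)` -/
noncomputable def normHom (f : G →* H) (P : Subgroup G) :
    ↥(normalizer (P : Set G)) →* ↥(normalizer ((P.map f : Subgroup H) : Set H)) :=
  (Subgroup.inclusion (Subgroup.le_normalizer_map f)).comp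
    (f.subgroupMap (normalizer (P : Set G)))

theorem normHom_coe (f : G →* H) (P : Subgroup G) (n : ↥(normalizer (P : Set G))) :
    ((normHom f P n : ↥(normalizer ((P.map f : Subgroup H) : Set H))) : H) = f n := rfl

/-- the natural map `N_G(P) → N_H(f P) / C_H(f P)` -/
noncomputable def psi (f : G →* H) (P : Subgroup G) :
    ↥(normalizer (P : Set G)) →*
      (↥(normalizer ((P.map f : Subgroup H) : Set H)) ⧸
        (centralizer ((P.map f : Subgroup H) : Set H)).subgroupOf
          (normalizer ((P.map f : Subgroup H) : Set H))) :=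
  (QuotientGroup.mk' _).comp (normHom f P)

theorem psi_surjective [Finite G] {p : ℕ} [Fact p.Prime] (f : G →* H)
    (hf : Function.Surjective f) (hK : (Nat.card f.ker).Coprime p) (P : Subgroup G)
    (hP : IsPGroup p P) (hn : (f.ker ⊔ P).Normal) : Function.Surjective (psi f P) := by
  intro y
  obtain ⟨⟨h, hh⟩, rfl⟩ := QuotientGroup.mk'_surjective _ y
  obtain ⟨g, rfl⟩ := hf h
  obtain ⟨n, hn', k, hk, rfl⟩ := frattini_coprime f.ker P hK hP hn g
  refine ⟨⟨n, hn'⟩, ?_⟩
  unfold psi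
  rw [MonoidHom.comp_apply]
  congr 1
  apply Subtype.ext
  rw [normHom_coe]
  simp only [map_mul]
  rw [MonoidHom.mem_ker.mp hk, mul_one]

theorem psi_ker [Finite G] {p : ℕ} [Fact p.Prime] (f : G →* H)
    (hK : (Nat.card f.ker).Coprime p) (P : Subgroup G) (hP : IsPGroup p P) :
    (psi f P).ker = (centralizer (P : Set G)).subgroupOf (normalizer (P : Set G)) := by
  have hKP : f.ker ⊓ P = ⊥ := inf_eq_bot_of_coprime_of_isPGroup hK hP
  ext ⟨n, hn⟩
  rw [MonoidHom.mem_ker, Subgroup.mem_subgroupOf]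
  unfold psi
  rw [MonoidHom.comp_apply, QuotientGroup.mk'_apply, QuotientGroup.eq_one_iff,
    Subgroup.mem_subgroupOf, normHom_coe]
  simp only
  constructor
  · intro h
    rw [Subgroup.mem_centralizer_iff] at h ⊢
    intro x hx
    have h1 := h (f x) ⟨x, hx, rfl⟩
    have h2 : n * x * n⁻¹ * x⁻¹ ∈ f.ker ⊓ P := by
      refine Subgroup.mem_inf.mpr ⟨?_, ?_⟩
      · rw [MonoidHom.mem_ker]
        simp only [map_mul, map_inv]
        rw [← h1]; group
      · exact mul_mem ((Subgroup.mem_normalizer_iff.mp hn x).mp hx) (inv_mem hx)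
    rw [hKP, Subgroup.mem_bot] at h2
    have : n * x = x * n := by
      have := congrArg (fun t => t * x * n) h2
      simpa [mul_assoc] using this
    exact this.symm
  · intro h
    rw [Subgroup.mem_centralizer_iff] at h ⊢
    rintro _ ⟨x, hx, rfl⟩
    rw [← map_mul, ← map_mul, h x hx]

/-- the isomorphism `N_G(P)/C_G(P) ≃ N_H(f P)/C_H(f P)` -/
noncomputable def ncEquiv [Finite G] {p : ℕ} [Fact p.Prime] (f : G →* H)
    (hf : Function.Surjective f) (hK : (Nat.card f.ker).Coprime p) (P : Subgroup G)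
    (hP : IsPGroup p P) (hn : (f.ker ⊔ P).Normal) :
    (↥(normalizer (P : Set G)) ⧸
        (centralizer (P : Set G)).subgroupOf (normalizer (P : Set G))) ≃*
      (↥(normalizer ((P.map f : Subgroup H) : Set H)) ⧸
        (centralizer ((P.map f : Subgroup H) : Set H)).subgroupOf
          (normalizer ((P.map f : Subgroup H) : Set H))) :=
  (QuotientGroup.quotientMulEquivOfEq (psi_ker f hK P hP).symm).trans
    (QuotientGroup.quotientKerEquivOfSurjective (psi f P) (psi_surjective f hf hK P hP hn))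

theorem ncEquiv_mk [Finite G] {p : ℕ} [Fact p.Prime] (f : G →* H)
    (hf : Function.Surjective f) (hK : (Nat.card f.ker).Coprime p) (P : Subgroup G)
    (hP : IsPGroup p P) (hn : (f.ker ⊔ P).Normal) (n : ↥(normalizer (P : Set G))) :
    ncEquiv f hf hK P hP hn (QuotientGroup.mk' _ n) = psi f P n := rfl

theorem transfer [Finite G] {p : ℕ} [Fact p.Prime] (f : G →* H)
    (hf : Function.Surjective f) (hK : (Nat.card f.ker).Coprime p) (P : Subgroup G)
    (hP : IsPGroup p P) (hn : (f.ker ⊔ P).Normal) (A : Subgroup G)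
    (hA : A ≤ normalizer (P : Set G)) :
    ((A.subgroupOf (normalizer (P : Set G))).map
        (QuotientGroup.mk' ((centralizer (P : Set G)).subgroupOf (normalizer (P : Set G))))
      ≤ Cfsg.pCore p _) ↔
    (((A.map f).subgroupOf (normalizer ((P.map f : Subgroup H) : Set H))).map
        (QuotientGroup.mk' ((centralizer ((P.map f : Subgroup H) : Set H)).subgroupOf
          (normalizer ((P.map f : Subgroup H) : Set H))))
      ≤ Cfsg.pCore p _) := by
  have hcore := pCore_map_equiv' p (ncEquiv f hf hK P hP hn)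
  constructor
  · intro h y hy
    obtain ⟨⟨h', hh'⟩, hy1, rfl⟩ := hy
    rw [SetLike.mem_coe, Subgroup.mem_subgroupOf] at hy1
    obtain ⟨a, ha, rfl⟩ := hy1
    rw [← hcore]
    refine ⟨QuotientGroup.mk' _ ⟨a, hA ha⟩, h ⟨⟨a, hA ha⟩, ?_, rfl⟩, ?_⟩
    · rw [SetLike.mem_coe, Subgroup.mem_subgroupOf]; exact ha
    · rfl
  · intro h x hx
    obtain ⟨⟨a, ha'⟩, hx1, rfl⟩ := hx
    rw [SetLike.mem_coe, Subgroup.mem_subgroupOf] at hx1
    have h1 : ncEquiv f hf hK P hP hn (QuotientGroup.mk' _ ⟨a, ha'⟩) ∈ Cfsg.pCore p _ := by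
      apply h
      refine ⟨normHom f P ⟨a, ha'⟩, ?_, rfl⟩
      rw [SetLike.mem_coe, Subgroup.mem_subgroupOf, normHom_coe]
      exact ⟨a, hx1, rfl⟩
    rw [← hcore] at h1
    obtain ⟨z, hz, hz2⟩ := h1
    have := (ncEquiv f hf hK P hP hn).injective hz2
    rw [← this]; exact hz

end gen

section cores
variable {X : Type*} [Group X]

theorem pCore_le_pPrimePCore (p : ℕ) [Fact p.Prime] : Cfsg.pCore p X ≤ Cfsg.pPrimePCore p X := by
  unfold Cfsg.pPrimePCore
  rw [← Subgroup.map_le_iff_le_comap]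
  apply le_pCore'
  · exact Subgroup.Normal.map inferInstance _ (QuotientGroup.mk'_surjective _)
  · exact (pCore_isPGroup' p).map _

theorem pPrimeCore_quot_eq_bot [Finite X] (p : ℕ) [Fact p.Prime] :
    Cfsg.pPrimeCore p (X ⧸ Cfsg.pPrimeCore p X) = ⊥ := by
  have hN : (Cfsg.pPrimeCore p (X ⧸ Cfsg.pPrimeCore p X)).comap
      (QuotientGroup.mk' (Cfsg.pPrimeCore p X)) ≤ Cfsg.pPrimeCore p X := by
    apply le_pPrimeCore
    · infer_instance
    · rw [card_comap_mk']
      exact Nat.Coprime.mul_left (pPrimeCore_coprime p) (pPrimeCore_coprime p)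
  rw [eq_bot_iff]
  intro y hy
  obtain ⟨x, rfl⟩ := QuotientGroup.mk'_surjective _ y
  have : x ∈ Cfsg.pPrimeCore p X := hN hy
  rw [Subgroup.mem_bot]
  exact (QuotientGroup.eq_one_iff x).mpr this

theorem pPrimePCore_le_pCore_of_bot [Finite X] (p : ℕ) [Fact p.Prime]
    (h : Cfsg.pPrimeCore p X = ⊥) : Cfsg.pPrimePCore p X ≤ Cfsg.pCore p X := by
  apply le_pCore'
  · infer_instance
  · obtain ⟨a, ha⟩ := (IsPGroup.iff_card (p := p)).mp
      (pCore_isPGroup' (X := X ⧸ Cfsg.pPrimeCore p X) p)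
    have h1 := card_comap_mk' (Cfsg.pPrimeCore p X) (Cfsg.pCore p (X ⧸ Cfsg.pPrimeCore p X))
    have h3 : Nat.card ↥(Cfsg.pPrimePCore p X) =
      Nat.card ↥(Cfsg.pPrimeCore p X) * Nat.card ↥(Cfsg.pCore p (X ⧸ Cfsg.pPrimeCore p X)) := h1
    have h4 : Nat.card ↥(Cfsg.pPrimeCore p X) = 1 := by rw [h]; exact Subgroup.card_bot
    rw [h4, one_mul, ha] at h3
    exact IsPGroup.of_card h3

theorem le_normalizer_of_conj_mem {A P : Subgroup X}
    (h : ∀ a ∈ A, ∀ x ∈ P, a * x * a⁻¹ ∈ P) : A ≤ normalizer (P : Set X) := by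
  intro a ha
  rw [Subgroup.mem_normalizer_iff]
  intro x
  constructor
  · exact h a ha x
  · intro hx
    have := h a⁻¹ (inv_mem ha) _ hx
    simpa [mul_assoc] using this

end cores


/-- For a group with a nontrivial normal p-subgroup, p-stability passes to and from the quotient by the largest normal subgroup of order prime to p. -/
theorem result {G : Type*} [Group G] [Finite G] {p : ℕ} [Fact p.Prime] (hO : Cfsg.pCore p G ≠ ⊥) : Cfsg.IsPStable p G ↔ Cfsg.IsPStable p (G ⧸ Cfsg.pPrimeCore p G) := by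
  obtain ⟨f, hfdef⟩ : ∃ f : G →* G ⧸ Cfsg.pPrimeCore p G,
      f = QuotientGroup.mk' (Cfsg.pPrimeCore p G) := ⟨_, rfl⟩
  have hfs : Function.Surjective f := by rw [hfdef]; exact QuotientGroup.mk'_surjective _
  have hker : f.ker = Cfsg.pPrimeCore p G := by rw [hfdef]; exact QuotientGroup.ker_mk' _
  have hK : (Nat.card f.ker).Coprime p := by rw [hker]; exact pPrimeCore_coprime p
  have hbar : Cfsg.pPrimeCore p (G ⧸ Cfsg.pPrimeCore p G) = ⊥ := pPrimeCore_quot_eq_bot p
  have hPP : Cfsg.pPrimePCore p G = (Cfsg.pCore p (G ⧸ Cfsg.pPrimeCore p G)).comap f := by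
    rw [hfdef]; rfl
  constructor
  · rintro ⟨hodd, -, hst⟩
    refine ⟨hodd, ?_, ?_⟩
    · intro hbot
      apply hO
      have h1 : (Cfsg.pCore p G).map f ≤ Cfsg.pCore p (G ⧸ Cfsg.pPrimeCore p G) := by
        apply le_pCore'
        · exact Subgroup.Normal.map inferInstance _ hfs
        · exact (pCore_isPGroup' p).map _
      rw [hbot, le_bot_iff, Subgroup.map_eq_bot_iff, hker] at h1
      have h2 : Cfsg.pPrimeCore p G ⊓ Cfsg.pCore p G = ⊥ :=
        inf_eq_bot_of_coprime_of_isPGroup (pPrimeCore_coprime p) (pCore_isPGroup' p)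
      rw [inf_eq_right.mpr h1] at h2
      exact h2
    · intro A' P' hA' hP' hAP' hPle' hnorm' hcomm'
      rw [hbar, bot_sup_eq] at hnorm'
      have hT : IsPGroup p ↥(A' ⊔ P') := IsPGroup.to_sup_of_normal_right hA' hP'
      obtain ⟨T₁, hT₁⟩ := hT.exists_le_sylow
      obtain ⟨S₁, hS₁⟩ := Sylow.mapSurjective_surjective hfs p T₁
      have hS₁' : (S₁ : Subgroup G).map f = T₁ := by
        rw [← hS₁]; rfl
      obtain ⟨A, hAdef⟩ : ∃ A : Subgroup G, A = (S₁ : Subgroup G) ⊓ A'.comap f := ⟨_, rfl⟩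
      obtain ⟨P, hPdef⟩ : ∃ P : Subgroup G, P = (S₁ : Subgroup G) ⊓ P'.comap f := ⟨_, rfl⟩
      have hAmap : A.map f = A' := by
        apply le_antisymm
        · rw [Subgroup.map_le_iff_le_comap, hAdef]; exact inf_le_right
        · intro a ha
          have : a ∈ (S₁ : Subgroup G).map f := by
            rw [hS₁']; exact hT₁ ((le_sup_left : A' ≤ A' ⊔ P') ha)
          obtain ⟨s, hs, rfl⟩ := this
          exact ⟨s, by rw [hAdef]; exact ⟨hs, ha⟩, rfl⟩
      have hPmap : P.map f = P' := by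
        apply le_antisymm
        · rw [Subgroup.map_le_iff_le_comap, hPdef]; exact inf_le_right
        · intro a ha
          have : a ∈ (S₁ : Subgroup G).map f := by
            rw [hS₁']; exact hT₁ ((le_sup_right : P' ≤ A' ⊔ P') ha)
          obtain ⟨s, hs, rfl⟩ := this
          exact ⟨s, by rw [hPdef]; exact ⟨hs, ha⟩, rfl⟩
      have hAS : A ≤ S₁ := by rw [hAdef]; exact inf_le_left
      have hPS : P ≤ S₁ := by rw [hPdef]; exact inf_le_left
      have hA : IsPGroup p A := S₁.isPGroup'.to_le hAS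
      have hP : IsPGroup p P := S₁.isPGroup'.to_le hPS
      have hAP : ∀ a ∈ A, ∀ x ∈ P, a * x * a⁻¹ ∈ P := by
        intro a ha x hx
        rw [hPdef]
        refine Subgroup.mem_inf.mpr
          ⟨mul_mem (mul_mem (hAS ha) (hPS hx)) (inv_mem (hAS ha)), ?_⟩
        rw [hPdef] at hx
        have hx2 : f x ∈ P' := (Subgroup.mem_inf.mp hx).2
        rw [Subgroup.mem_comap]
        rw [map_mul, map_mul, map_inv]
        exact hnorm'.conj_mem _ hx2 _
      have hPle : P ≤ Cfsg.pPrimePCore p G := by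
        rw [hPP, ← Subgroup.map_le_iff_le_comap, hPmap]
        exact hPle'.trans (pPrimePCore_le_pCore_of_bot p hbar)
      have hnorm : (Cfsg.pPrimeCore p G ⊔ P).Normal := by
        have : Cfsg.pPrimeCore p G ⊔ P = P'.comap f := by
          rw [← hPmap, Subgroup.comap_map_eq, hker, sup_comm]
        rw [this]
        exact hnorm'.comap f
      have hcomm : ⁅⁅P, A⁆, A⁆ = ⊥ := by
        have h1 : ⁅⁅P, A⁆, A⁆ ≤ S₁ := by
          have h0 : ∀ H₁ H₂ : Subgroup G, H₁ ≤ S₁ → H₂ ≤ S₁ → ⁅H₁, H₂⁆ ≤ S₁ := by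
            intro H₁ H₂ h₁ h₂
            rw [Subgroup.commutator_le]
            intro g₁ hg₁ g₂ hg₂
            exact mul_mem (mul_mem (mul_mem (h₁ hg₁) (h₂ hg₂)) (inv_mem (h₁ hg₁)))
              (inv_mem (h₂ hg₂))
          exact h0 _ _ (h0 _ _ hPS hAS) hAS
        have h2 : ⁅⁅P, A⁆, A⁆ ≤ f.ker := by
          rw [← Subgroup.map_eq_bot_iff, Subgroup.map_commutator, Subgroup.map_commutator,
            hAmap, hPmap]
          exact hcomm'
        have h3 : f.ker ⊓ (S₁ : Subgroup G) = ⊥ :=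
          inf_eq_bot_of_coprime_of_isPGroup hK S₁.isPGroup'
        rw [eq_bot_iff, ← h3]
        exact le_inf h2 h1
      have hn' : (f.ker ⊔ P).Normal := by rw [hker]; exact hnorm
      have key := (transfer f hfs hK P hP hn' A (le_normalizer_of_conj_mem hAP)).mp
        (hst A P hA hP hAP hPle hnorm hcomm)
      subst hAmap
      subst hPmap
      exact key
  · rintro ⟨hodd, -, hst⟩
    refine ⟨hodd, hO, ?_⟩
    intro A P hA hP hAP hPle hnorm hcomm
    have hAN : A ≤ normalizer (P : Set G) := le_normalizer_of_conj_mem hAP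
    have hn' : (f.ker ⊔ P).Normal := by rw [hker]; exact hnorm
    refine (transfer f hfs hK P hP hn' A hAN).mpr ?_
    apply hst (A.map f) (P.map f) (hA.map f) (hP.map f)
    · rintro _ ⟨a, ha, rfl⟩ _ ⟨x, hx, rfl⟩
      exact ⟨a * x * a⁻¹, hAP a ha x hx, by simp⟩
    · refine le_trans ?_ (pCore_le_pPrimePCore p)
      rw [Subgroup.map_le_iff_le_comap, ← hPP]
      exact hPle
    · rw [hbar, bot_sup_eq]
      have h1 : P.map f = (f.ker ⊔ P).map f := by
        rw [Subgroup.map_sup, (Subgroup.map_eq_bot_iff _).mpr le_rfl, bot_sup_eq]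
      rw [h1]
      exact Subgroup.Normal.map hn' f hfs
    · rw [← Subgroup.map_commutator, ← Subgroup.map_commutator, hcomm, Subgroup.map_bot]

end Cfsg.Agent.S0632
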