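import Cfsg.Statements.S0640
-- import your own Cfsg.Agent.* helpers here
import Mathlib
import Cfsg.Agent.Lib.Helper1.AutRankTwo

set_option autoImplicit false
open Cfsg

namespace Cfsg.Agent.S0640

/-- For odd p, a prime q ≠ p dividing the order of the automorphism group of a p-group of rank at most 2 divides p² - 1 and is less than p. -/
theorem result {R : Type*} [Group R] [Finite R] {p : ℕ} [Fact p.Prime] (hp : p ≠ 2) (hR : IsPGroup p R) (hrk : Cfsg.PRankLE p 2 R) (q : ℕ) (hq : q.Prime) (hqp : q ≠ p) (hdvd : q ∣ Nat.card (MulAut R)) : q ∣ p ^ 2 - 1 ∧ q < p := by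
  have hpp : p.Prime := Fact.out
  have hp3 : 3 ≤ p := by
    have := hpp.two_le
    omega
  haveI : Fact q.Prime := ⟨hq⟩
  have h1 : q ∣ p ^ 2 - 1 := by
    by_contra hnd
    obtain ⟨α, hα⟩ := exists_prime_orderOf_dvd_card' (G := MulAut R) q hdvd
    have h2 : α ^ q = 1 := by rw [← hα]; exact pow_orderOf_eq_one α
    have h3 := Cfsg.Agent.Lib.Helper1.aut_trivial_of_rank_two hp hq hqp hnd (Nat.card R) R rfl hR hrk α h2
    rw [h3, orderOf_one] at hα
    exact hq.one_lt.ne hα
  refine ⟨h1, ?_⟩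
  have h5 : p ^ 2 - 1 = (p + 1) * (p - 1) := by
    obtain ⟨k, rfl⟩ : ∃ k, p = k + 1 := ⟨p - 1, by omega⟩
    have : (k + 1) ^ 2 = (k + 1 + 1) * (k + 1 - 1) + 1 := by
      simp only [Nat.add_sub_cancel]; ring
    omega
  rw [h5] at h1
  rcases hq.dvd_mul.mp h1 with h | h
  · -- q ∣ p + 1
    have hodd : ¬ 2 ∣ p := by
      intro h2
      have := (Nat.prime_dvd_prime_iff_eq Nat.prime_two hpp).mp h2
      exact hp this.symm
    obtain ⟨m, hm⟩ : 2 ∣ p + 1 := by omega
    rw [hm] at h
    rcases hq.dvd_mul.mp h with h' | h'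
    · have := Nat.le_of_dvd (by norm_num) h'
      omega
    · have := Nat.le_of_dvd (by omega) h'
      omega
  · have := Nat.le_of_dvd (by omega) h
    omega

end Cfsg.Agent.S0640
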