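import Cfsg.Statements.S0642
import Mathlib
-- import your own Cfsg.Agent.* helpers here

set_option autoImplicit false
open Cfsg
open scoped commutatorElement

namespace Cfsg.Agent.S0642

/-- Among finite 2-groups the regular ones are exactly the abelian ones. -/
theorem result {G : Type*} [Group G] [Finite G] (hG : IsPGroup 2 G) : Cfsg.IsRegularPGroup 2 G ↔ ∀ a b : G, a * b = b * a := by
  constructor
  · intro hreg a b
    have hcomm : ∀ x y : G, ⁅x, y⁆ ∈ Cfsg.powerClosure 2 1 (commutator G) := by
      intro x y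
      obtain ⟨c, hc, hab⟩ := hreg.2 (x⁻¹ * y⁻¹ * x) x⁻¹ 1
      have hmono : Cfsg.powerClosure 2 1
          ⁅Subgroup.closure ({x⁻¹ * y⁻¹ * x, x⁻¹} : Set G),
            Subgroup.closure ({x⁻¹ * y⁻¹ * x, x⁻¹} : Set G)⁆ ≤
          Cfsg.powerClosure 2 1 (commutator G) := by
        apply Subgroup.closure_mono
        rintro _ ⟨z, hz, rfl⟩
        exact ⟨z, Subgroup.commutator_mono le_top le_top hz, rfl⟩
      have hceq : c = ⁅x, y⁆ := by
        rw [pow_one, pow_two, pow_two, pow_two] at hab
        have h1 : c = ((x⁻¹ * y⁻¹ * x) * (x⁻¹ * y⁻¹ * x) * (x⁻¹ * x⁻¹))⁻¹ *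
            ((x⁻¹ * y⁻¹ * x * x⁻¹) * (x⁻¹ * y⁻¹ * x * x⁻¹)) := by
          rw [hab]; group
        rw [h1, commutatorElement_def]; group
      rw [← hceq]; exact hmono hc
    have hle : commutator G ≤ Cfsg.powerClosure 2 1 (commutator G) := by
      rw [commutator_def, Subgroup.commutator_def, Subgroup.closure_le]
      rintro _ ⟨x, _, y, _, rfl⟩
      exact hcomm x y
    have hbot : commutator G = ⊥ := by
      by_contra hne
      have hP : IsPGroup 2 (commutator G) := hG.to_subgroup (commutator G)
      have : Nontrivial (commutator G) := (Subgroup.nontrivial_iff_ne_bot _).2 hne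
      have : Fact (Nat.Prime 2) := ⟨Nat.prime_two⟩
      obtain ⟨k, hk0, hk⟩ := hP.nontrivial_iff_card.1 inferInstance
      obtain ⟨M, hM⟩ := Sylow.exists_subgroup_card_pow_prime (G := commutator G) 2 (n := k - 1)
        (by rw [hk]; exact pow_dvd_pow 2 (by omega))
      have hidx : M.index = 2 := by
        have := M.card_mul_index
        rw [hM, hk] at this
        have h2 : 2 ^ k = 2 ^ (k - 1) * 2 := by
          rw [← pow_succ]; congr 1; omega
        rw [h2] at this
        exact Nat.eq_of_mul_eq_mul_left (by positivity) this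
      have h1 : Cfsg.powerClosure 2 1 (commutator G) ≤ M.map (commutator G).subtype := by
        unfold Cfsg.powerClosure
        rw [Subgroup.closure_le]
        rintro _ ⟨x, hx, rfl⟩
        refine ⟨(⟨x, hx⟩ : commutator G) ^ 2, ?_, by simp⟩
        exact Subgroup.sq_mem_of_index_two hidx _
      have hMtop : M = ⊤ := by
        rw [eq_top_iff]
        rintro ⟨x, hx⟩ _
        obtain ⟨m, hm, hmx⟩ := (hle.trans h1) hx
        have : m = ⟨x, hx⟩ := Subtype.ext hmx
        rwa [← this]
      rw [hMtop, Subgroup.index_top] at hidx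
      omega
    have h1 : ⁅a, b⁆ ∈ commutator G :=
      Subgroup.commutator_mem_commutator (Subgroup.mem_top a) (Subgroup.mem_top b)
    rw [hbot, Subgroup.mem_bot] at h1
    exact commutatorElement_eq_one_iff_mul_comm.1 h1
  · intro hab
    refine ⟨hG, fun a b n => ⟨1, Subgroup.one_mem _, ?_⟩⟩
    rw [mul_one]
    exact Commute.mul_pow (hab a b) _

end Cfsg.Agent.S0642
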