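import Cfsg.Statements.S0645
import Mathlib
import Cfsg.Agent.Lib.Helper5.CycMax

set_option autoImplicit false
open Cfsg

namespace Cfsg.Agent.S0645

section Aux

open Cfsg.Agent.Lib.Helper5.CycMax

theorem main {G : Type*} [Group G] [Finite G] {p : ℕ} [hpf : Fact p.Prime] (hp : p ≠ 2) (m : ℕ)
    (hG : Nat.card G = p ^ (m + 3)) (C : Subgroup G) (hC : IsCyclic C) (hCi : C.index = p)
    (hna : ∃ x y : G, x * y ≠ y * x) :
    ∃ a b : G, orderOf a = p ^ (m + 2) ∧ orderOf b = p ∧ b ∉ Subgroup.zpowers a ∧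
      b * a * b⁻¹ = a ^ (1 + p ^ (m + 1)) := by
  have hpp := hpf.out
  have hp0 : 0 < p := hpp.pos
  have hp2 : 2 ≤ p := hpp.two_le
  have hodd : Odd p := hpp.odd_of_ne_two hp
  set M := p ^ (m + 2) with hM
  set x := p ^ (m + 1) with hx
  have hMx : M = p * x := by rw [hM, hx, ← pow_succ']
  have hxpos : 0 < x := pow_pos hp0 _
  have hMpos : 0 < M := pow_pos hp0 _
  -- card C
  have hCcard : Nat.card C = M := by
    have h := C.card_mul_index
    rw [hG, hCi, pow_succ] at h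
    exact Nat.eq_of_mul_eq_mul_right hp0 h
  obtain ⟨c', hc'⟩ := hC.exists_generator
  set c : G := (c' : G) with hcdef
  have hoc : orderOf c = M := by
    rw [hcdef, Subgroup.orderOf_coe, orderOf_eq_card_of_forall_mem_zpowers hc', hCcard]
  have hcC : c ∈ C := c'.2
  have hzc : ∀ y : G, y ∈ C → ∃ a : ℕ, y = c ^ a := by
    intro y hy
    have h1 := hc' ⟨y, hy⟩
    have hfin : IsOfFinOrder c' := isOfFinOrder_of_finite c'
    rw [← hfin.mem_powers_iff_mem_zpowers, Submonoid.mem_powers_iff] at h1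
    obtain ⟨a, ha⟩ := h1
    refine ⟨a, ?_⟩
    have := congrArg Subtype.val ha
    simpa using this.symm
  have hzcC : Subgroup.zpowers c = C := by
    apply le_antisymm
    · rw [Subgroup.zpowers_le]; exact hcC
    · intro y hy
      obtain ⟨a, rfl⟩ := hzc y hy
      exact Subgroup.pow_mem _ (Subgroup.mem_zpowers c) a
  have hCn : C.Normal := by
    apply Subgroup.normal_of_index_eq_minFac_card
    rw [hCi, hG, hpp.pow_minFac (by omega)]
  obtain ⟨g, hg⟩ : ∃ g, g ∉ C := by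
    by_contra hcon
    push Not at hcon
    have : C = ⊤ := eq_top_iff.mpr fun y _ => hcon y
    rw [this, Subgroup.index_top] at hCi
    omega
  obtain ⟨r, hr⟩ : ∃ r : ℕ, g * c * g⁻¹ = c ^ r := hzc _ (hCn.conj_mem c hcC g)
  -- g^p ∈ C
  have hqcard : Nat.card (G ⧸ C) = p := by rw [← Subgroup.index_eq_card, hCi]
  have hgpC : g ^ p ∈ C := by
    rw [← QuotientGroup.eq_one_iff, QuotientGroup.mk_pow, ← hqcard]
    exact pow_card_eq_one'
  obtain ⟨t, ht⟩ := hzc _ hgpC
  -- every element is g^i * c^a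
  have hdecomp : ∀ y : G, ∃ (i : ℤ) (a : ℕ), y = g ^ i * c ^ a := by
    intro y
    have hg1 : (QuotientGroup.mk g : G ⧸ C) ≠ 1 := by
      rw [Ne, QuotientGroup.eq_one_iff]; exact hg
    have := mem_zpowers_of_prime_card hqcard hg1 (g' := (QuotientGroup.mk y : G ⧸ C))
    obtain ⟨i, hi⟩ := Subgroup.mem_zpowers_iff.mp this
    rw [← QuotientGroup.mk_zpow, QuotientGroup.eq] at hi
    obtain ⟨a, ha⟩ := hzc _ hi
    exact ⟨i, a, by rw [← ha]; group⟩
  -- r is not 1
  have hr1 : c ^ r ≠ c := by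
    intro h
    rw [h] at hr
    have hcomm : Commute g c := by
      have : g * c = c * g := by
        calc g * c = g * c * g⁻¹ * g := by group
          _ = c * g := by rw [hr]
      exact this
    obtain ⟨y₁, y₂, hy⟩ := hna
    apply hy
    obtain ⟨i₁, a₁, rfl⟩ := hdecomp y₁
    obtain ⟨i₂, a₂, rfl⟩ := hdecomp y₂
    have h1 : Commute (g ^ i₁) (c ^ a₂) := (hcomm.zpow_left i₁).pow_right a₂
    have h2 : Commute (g ^ i₂) (c ^ a₁) := (hcomm.zpow_left i₂).pow_right a₁
    have h3 : Commute (g ^ i₁) (g ^ i₂) := (Commute.refl g).zpow_zpow i₁ i₂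
    have h4 : Commute (c ^ a₁) (c ^ a₂) := (Commute.refl c).pow_pow a₁ a₂
    calc g ^ i₁ * c ^ a₁ * (g ^ i₂ * c ^ a₂) = g ^ i₁ * (c ^ a₁ * g ^ i₂) * c ^ a₂ := by group
      _ = g ^ i₁ * (g ^ i₂ * c ^ a₁) * c ^ a₂ := by rw [h2.eq]
      _ = (g ^ i₁ * g ^ i₂) * (c ^ a₁ * c ^ a₂) := by group
      _ = (g ^ i₂ * g ^ i₁) * (c ^ a₂ * c ^ a₁) := by rw [h3.eq, h4.eq]
      _ = g ^ i₂ * (g ^ i₁ * c ^ a₂) * c ^ a₁ := by group
      _ = g ^ i₂ * (c ^ a₂ * g ^ i₁) * c ^ a₁ := by rw [h1.eq]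
      _ = g ^ i₂ * c ^ a₂ * (g ^ i₁ * c ^ a₁) := by group
  -- r^p ≡ 1
  have hrp : r ^ p ≡ 1 [MOD M] := by
    have h1 := pow_conj_exp hr p
    have h2 : g ^ p * c * (g ^ p)⁻¹ = c := by
      rw [ht]
      have : Commute (c ^ t) c := (Commute.refl c).pow_left t
      calc c ^ t * c * (c ^ t)⁻¹ = c * c ^ t * (c ^ t)⁻¹ := by rw [this.eq]
        _ = c := by group
    rw [h2] at h1
    have h3 : c ^ (r ^ p) = c ^ 1 := by rw [← h1, pow_one]
    rw [pow_eq_pow_iff_modEq, hoc] at h3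
    exact h3
  have hrx : r ≡ 1 [MOD x] := modEq_one_of_pow_modEq_one hp (m + 1) r hrp
  have hr_pos : 1 ≤ r := by
    by_contra h
    have : r = 0 := by omega
    rw [this] at hrx
    have := Nat.modEq_zero_iff_dvd.mp hrx.symm
    have hx2 : 2 ≤ x := by
      calc 2 ≤ p := hp2
        _ = p ^ 1 := (pow_one p).symm
        _ ≤ p ^ (m + 1) := Nat.pow_le_pow_right hp0 (by omega)
    have := Nat.le_of_dvd (by omega) this
    omega
  obtain ⟨k, hk⟩ : ∃ k, r = 1 + k * x := by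
    have := (Nat.modEq_iff_dvd' hr_pos).mp hrx.symm
    obtain ⟨k, hk⟩ := this
    exact ⟨k, by rw [mul_comm]; omega⟩
  have hpk : ¬ p ∣ k := by
    rintro ⟨k', rfl⟩
    apply hr1
    have : r ≡ 1 [MOD M] := by
      rw [hk, hMx]
      have : 1 + p * k' * x = 1 + (p * x) * k' := by ring
      rw [this]
      exact (Nat.modEq_iff_dvd' (by omega)).mpr ⟨k', by omega⟩ |>.symm
    have h3 : c ^ r = c ^ 1 := by rw [pow_eq_pow_iff_modEq, hoc]; exact this
    rw [h3, pow_one]
  -- computations in ZMod M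
  set y : ZMod M := (k : ZMod M) * (x : ZMod M) with hy
  have hMx0 : ((p : ZMod M)) * (x : ZMod M) = 0 := by
    rw [← Nat.cast_mul, ← hMx, ZMod.natCast_self]
  have hxx : (x : ZMod M) * (x : ZMod M) = 0 := by
    rw [← Nat.cast_mul, ZMod.natCast_eq_zero_iff, hM, hx, ← pow_add]
    exact pow_dvd_pow p (by omega)
  have hyy : y * y = 0 := by
    rw [hy]; linear_combination (k : ZMod M) * (k : ZMod M) * hxx
  have hpy : (p : ZMod M) * y = 0 := by
    rw [hy]; linear_combination (k : ZMod M) * hMx0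
  have hry : (r : ZMod M) = 1 + y := by rw [hk, hy]; push_cast; ring
  have hσ : ((∑ i ∈ Finset.range p, r ^ i : ℕ) : ZMod M) = p := by
    push_cast
    rw [hry]
    exact geom_sum_lin y hyy p hodd hpy
  -- p ∣ t
  have hpt : p ∣ t := by
    have h1 := conj_pow_exp hr t
    have h2 : g * c ^ t * g⁻¹ = c ^ t := by
      rw [← ht]; group
    rw [h2] at h1
    rw [pow_eq_pow_iff_modEq, hoc] at h1
    have h3 : ((t : ℕ) : ZMod M) = ((r * t : ℕ) : ZMod M) := (ZMod.natCast_eq_natCast_iff _ _ _).mpr h1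
    push_cast at h3
    rw [hry] at h3
    have h4 : y * (t : ZMod M) = 0 := by linear_combination -h3
    rw [hy, ← Nat.cast_mul, ← Nat.cast_mul, ZMod.natCast_eq_zero_iff, hMx] at h4
    have h5 : p * x ∣ (k * t) * x := by
      have : k * x * t = k * t * x := by ring
      rwa [this] at h4
    have h6 : p ∣ k * t := Nat.dvd_of_mul_dvd_mul_right hxpos h5
    exact (hpp.dvd_mul.mp h6).resolve_left hpk
  obtain ⟨t', rfl⟩ := hpt
  -- the element b₀
  set u := t' * (M - 1) with hu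
  set b₀ := c ^ u * g with hb₀
  have hucast : (u : ZMod M) = -(t' : ZMod M) := by
    rw [hu]
    push_cast
    rw [Nat.cast_sub (by omega), ZMod.natCast_self]
    push_cast
    ring
  have hb₀p : b₀ ^ p = 1 := by
    rw [hb₀, mul_pow_formula hr, ht, ← pow_add, ← orderOf_dvd_iff_pow_eq_one, hoc,
      ← ZMod.natCast_eq_zero_iff]
    push_cast at hσ ⊢
    rw [hσ, hucast]
    ring
  have hb₀C : b₀ ∉ C := by
    intro h
    apply hg
    have : g = (c ^ u)⁻¹ * b₀ := by rw [hb₀]; group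
    rw [this]
    exact C.mul_mem (C.inv_mem (C.pow_mem hcC u)) h
  have hb₀conj : b₀ * c * b₀⁻¹ = c ^ r := by
    have : b₀ * c * b₀⁻¹ = c ^ u * (g * c * g⁻¹) * (c ^ u)⁻¹ := by rw [hb₀]; group
    rw [this, hr]
    have hc1 : Commute (c ^ u) (c ^ r) := (Commute.refl c).pow_pow u r
    calc c ^ u * c ^ r * (c ^ u)⁻¹ = c ^ r * c ^ u * (c ^ u)⁻¹ := by rw [hc1.eq]
      _ = c ^ r := by group
  -- normalise the exponent
  have hcop : Nat.Coprime k p := (Nat.Coprime.symm ((Nat.Prime.coprime_iff_not_dvd hpp).mpr hpk))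
  obtain ⟨j, -, hj⟩ := Nat.exists_mul_mod_eq_one_of_coprime hcop (by omega : 1 < p)
  set b := b₀ ^ j with hb
  have hkj : k * j ≡ 1 [MOD p] := by
    unfold Nat.ModEq
    rw [hj, Nat.mod_eq_of_lt (by omega : 1 < p)]
  have hbk : b ^ k = b₀ := by
    rw [hb, ← pow_mul, mul_comm]
    have h1 : b₀ ^ (k * j) = b₀ ^ 1 := by
      rw [pow_eq_pow_iff_modEq]
      have hob : orderOf b₀ ∣ p := orderOf_dvd_of_pow_eq_one hb₀p
      exact hkj.of_dvd hob
    rw [h1, pow_one]
  have hbC : b ∉ C := by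
    intro h
    apply hb₀C
    rw [← hbk]
    exact C.pow_mem h k
  have hbp : b ^ p = 1 := by
    rw [hb, ← pow_mul, mul_comm, pow_mul, hb₀p, one_pow]
  have hb1 : b ≠ 1 := by
    intro h
    apply hbC
    rw [h]; exact C.one_mem
  have hob : orderOf b = p := orderOf_eq_prime hbp hb1
  have hbconj : b * c * b⁻¹ = c ^ (1 + x) := by
    rw [hb, pow_conj_exp hb₀conj j, pow_eq_pow_iff_modEq, hoc, ← ZMod.natCast_eq_natCast_iff]
    push_cast
    rw [hry, lin_pow y hyy j, hy]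
    have h1 : ((k * j : ℕ) : ZMod M) * (x : ZMod M) = (x : ZMod M) := by
      have hkj1 : 1 ≤ k * j := by
        by_contra hlt
        have h0 : k * j = 0 := by omega
        rw [h0, Nat.zero_mod] at hj
        exact absurd hj (by norm_num)
      obtain ⟨s, hs⟩ := (Nat.modEq_iff_dvd' hkj1).mp hkj.symm
      have h2 : k * j = 1 + p * s := by omega
      rw [h2]
      push_cast
      linear_combination (s : ZMod M) * hMx0
    push_cast at h1
    linear_combination h1
  refine ⟨c, b, hoc, hob, ?_, hbconj⟩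
  rw [hzcC]
  exact hbC

end Aux

/-- Classification of p-groups with a cyclic maximal subgroup, odd p: a non-abelian one of order p^n has generators a of order p^(n-1) and b of order p, b outside the cyclic subgroup generated by a, with b a b⁻¹ = a^(1 + p^(n-2)). -/
theorem result {G : Type*} [Group G] [Finite G] {p : ℕ} [Fact p.Prime] (hp : p ≠ 2) (n : ℕ) (hn : 3 ≤ n) (hG : Nat.card G = p ^ n) (C : Subgroup G) (hC : IsCyclic C) (hCi : C.index = p) (hna : ∃ x y : G, x * y ≠ y * x) : ∃ a b : G, orderOf a = p ^ (n - 1) ∧ orderOf b = p ∧ b ∉ Subgroup.zpowers a ∧ b * a * b⁻¹ = a ^ (1 + p ^ (n - 2)) := by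
  obtain ⟨m, rfl⟩ : ∃ m, n = m + 3 := ⟨n - 3, by omega⟩
  exact main hp m hG C hC hCi hna

end Cfsg.Agent.S0645
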