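import Cfsg.Statements.S0646
import Cfsg.Agent.Lib.Helper5.CycMax2

set_option autoImplicit false
open Cfsg
open Cfsg.Agent.Lib.Helper5.CycMax

namespace Cfsg.Agent.S0646

/-- Classification of non-abelian 2-groups with a cyclic maximal subgroup: dihedral, generalized quaternion, and for order at least 16 the modular group and the semidihedral group, each given by generators a (of index 2) and b with the stated relations. -/
theorem result {G : Type*} [Group G] [Finite G] (n : ℕ) (hn : 3 ≤ n) (hG : Nat.card G = 2 ^ n) (C : Subgroup G) (hC : IsCyclic C) (hCi : C.index = 2) (hna : ∃ x y : G, x * y ≠ y * x) : ∃ a b : G, orderOf a = 2 ^ (n - 1) ∧ b ∉ Subgroup.zpowers a ∧ ((b ^ 2 = 1 ∧ b * a * b⁻¹ = a⁻¹) ∨ (b ^ 2 = a ^ (2 ^ (n - 2)) ∧ b * a * b⁻¹ = a⁻¹) ∨ (4 ≤ n ∧ b ^ 2 = 1 ∧ b * a * b⁻¹ = a ^ (1 + 2 ^ (n - 2))) ∨ (4 ≤ n ∧ b ^ 2 = 1 ∧ b * a * b⁻¹ = a ^ (2 ^ (n - 2) - 1))) := by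
  obtain ⟨m, rfl⟩ : ∃ m, n = m + 3 := ⟨n - 3, by omega⟩
  have : Fact (Nat.Prime 2) := ⟨Nat.prime_two⟩
  obtain ⟨c, g, r, t, hoc, hzc, hg, hr, ht, hr1, hrp⟩ :=
    cyclic_max_setup (p := 2) (m + 2) (by omega) hG C hC hCi hna
  have e1 : m + 3 - 1 = m + 2 := by omega
  have e2 : m + 3 - 2 = m + 1 := by omega
  rw [e1, e2]
  have hM : (2:ℕ) ^ (m + 2) = 2 * 2 ^ (m + 1) := by ring
  have hcM : c ^ (2 ^ (m + 2)) = 1 := by rw [← hoc]; exact pow_orderOf_eq_one c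
  have hdvd : ∀ k, c ^ k = 1 → 2 ^ (m + 2) ∣ k := fun k hk => by
    rw [← hoc]; exact orderOf_dvd_of_pow_eq_one hk
  have hcon := twist_constraint hr ht
  -- key trichotomy
  have htri : c ^ (r + 1) = 1 ∨ (1 ≤ m ∧ c ^ (r + 1) = c ^ (2 ^ (m + 1))) ∨
      (1 ≤ m ∧ c ^ r = c ^ (1 + 2 ^ (m + 1))) := by
    rcases sq_modEq_one_two_pow (m + 1) r hrp with ⟨j, hj⟩ | ⟨hr0, j, hj⟩
    · rcases Nat.even_or_odd' j with ⟨i, rfl | rfl⟩
      · left
        rw [hj, ← mul_assoc, mul_comm _ 2, ← hM, pow_mul, hcM, one_pow]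
      · rcases Nat.eq_zero_or_pos m with rfl | hm
        · exfalso; apply hr1
          have : r = 4 * i + 1 := by norm_num at hj; omega
          rw [this, pow_succ, pow_mul]; norm_num at hcM; rw [hcM, one_pow, one_mul]
        · right; left
          refine ⟨hm, ?_⟩
          rw [hj, mul_add, mul_one, ← mul_assoc, mul_comm _ 2, ← hM, pow_add, pow_mul, hcM,
            one_pow, one_mul]
    · have hr' : r = 2 ^ (m + 1) * j + 1 := by omega
      rcases Nat.even_or_odd' j with ⟨i, rfl | rfl⟩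
      · exfalso; apply hr1
        rw [hr', ← mul_assoc, mul_comm _ 2, ← hM, pow_succ, pow_mul, hcM, one_pow, one_mul]
      · rcases Nat.eq_zero_or_pos m with rfl | hm
        · left
          have : r + 1 = 4 * (i + 1) := by norm_num at hr'; omega
          rw [this, pow_mul]; norm_num at hcM; rw [hcM, one_pow]
        · right; right
          refine ⟨hm, ?_⟩
          rw [hr', mul_add, mul_one, ← mul_assoc, mul_comm _ 2, ← hM, add_assoc, pow_add,
            pow_mul, hcM, one_pow, one_mul, add_comm]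
  -- x ∣ t gives c^t ∈ {1, c^x}
  have hxt : 2 ^ (m + 1) ∣ t → c ^ t = 1 ∨ c ^ t = c ^ (2 ^ (m + 1)) := by
    rintro ⟨k, rfl⟩
    rcases Nat.even_or_odd' k with ⟨l, rfl | rfl⟩
    · left
      rw [← mul_assoc, mul_comm _ 2, ← hM, pow_mul, hcM, one_pow]
    · right
      rw [mul_add, mul_one, ← mul_assoc, mul_comm _ 2, ← hM, pow_add, pow_mul, hcM, one_pow,
        one_mul]
  have hg0 : g ∉ Subgroup.zpowers c := by rw [hzc]; exact hg
  rcases htri with hα | ⟨hm, hβ⟩ | ⟨hm, hγ⟩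
  · -- inverse case
    have hinv : c ^ r = c⁻¹ := eq_inv_of_mul_eq_one_left (by rw [← pow_succ]; exact hα)
    have h2t : c ^ (2 * t) = 1 := by
      rw [pow_mul, hinv, inv_pow] at hcon
      rw [two_mul, pow_add]
      calc c ^ t * c ^ t = (c ^ t)⁻¹ * c ^ t := by rw [hcon]
        _ = 1 := inv_mul_cancel _
    have h3 := hdvd _ h2t
    rw [hM] at h3
    have h4 : 2 ^ (m + 1) ∣ t := Nat.dvd_of_mul_dvd_mul_left (by norm_num) h3
    rcases hxt h4 with h5 | h5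
    · exact ⟨c, g, hoc, hg0, Or.inl ⟨by rw [ht, h5], by rw [hr, hinv]⟩⟩
    · exact ⟨c, g, hoc, hg0, Or.inr (Or.inl ⟨by rw [ht, h5], by rw [hr, hinv]⟩)⟩
  · -- semidihedral case
    obtain ⟨k, rfl⟩ : ∃ k, m = k + 1 := ⟨m - 1, by omega⟩
    have hx1 : 1 ≤ 2 ^ (k + 1 + 1) := Nat.one_le_two_pow
    have hrx : c ^ r = c ^ (2 ^ (k + 1 + 1) - 1) := by
      apply mul_right_cancel (b := c)
      rw [← pow_succ, ← pow_succ, hβ, Nat.sub_add_cancel hx1]
    have h2t : c ^ (2 * t) = c ^ (2 ^ (k + 1 + 1) * t) := by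
      calc c ^ (2 * t) = c ^ t * c ^ t := by rw [two_mul, pow_add]
        _ = c ^ (r * t) * c ^ t := by rw [hcon]
        _ = c ^ ((r + 1) * t) := by rw [add_mul, one_mul, pow_add]
        _ = (c ^ (r + 1)) ^ t := by rw [pow_mul]
        _ = c ^ (2 ^ (k + 1 + 1) * t) := by rw [hβ, ← pow_mul]
    rw [pow_eq_pow_iff_modEq, hoc] at h2t
    have h4 : 2 ^ (k + 1 + 1) ∣ t := semidihedral_dvd k t h2t
    rcases hxt h4 with h5 | h5
    · exact ⟨c, g, hoc, hg0, Or.inr (Or.inr (Or.inr ⟨by omega, by rw [ht, h5], by rw [hr, hrx]⟩))⟩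
    · refine ⟨c, c ^ 1 * g, hoc, twist_not_mem hzc hg 1,
        Or.inr (Or.inr (Or.inr ⟨by omega, ?_, by rw [twist_conj hr, hrx]⟩))⟩
      rw [twist_sq hr ht, one_mul, pow_add, add_comm 1 r, hβ, h5, ← pow_add, ← two_mul, ← hM, hcM]
  · -- modular case
    obtain ⟨k, rfl⟩ : ∃ k, m = k + 1 := ⟨m - 1, by omega⟩
    have hxt1 : c ^ (2 ^ (k + 1 + 1) * t) = 1 := by
      rw [pow_mul, hγ, ← pow_mul, add_mul, one_mul, pow_add] at hcon
      exact mul_eq_left.mp hcon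
    have h3 := hdvd _ hxt1
    rw [hM, mul_comm 2] at h3
    have h4 : 2 ∣ t := Nat.dvd_of_mul_dvd_mul_left (by positivity) h3
    obtain ⟨s, rfl⟩ := h4
    refine ⟨c, c ^ (s * (2 ^ (k + 1) - 1)) * g, hoc, twist_not_mem hzc hg _,
        Or.inr (Or.inr (Or.inl ⟨by omega, ?_, by rw [twist_conj hr, hγ]⟩))⟩
    rw [twist_sq hr ht, pow_add, mul_comm _ (1 + r), pow_mul, pow_add, pow_one, hγ, ← pow_succ',
      ← pow_mul, ← pow_add]
    have e : (1 + 2 ^ (k + 1 + 1) + 1) * (s * (2 ^ (k + 1) - 1)) + 2 * s =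
        (2 + 2 ^ (k + 2)) * (s * (2 ^ (k + 1) - 1)) + 2 * s := by ring
    rw [e]
    obtain ⟨q, hq⟩ := modular_dvd k s
    rw [hq, pow_mul]
    have : c ^ (2 ^ (k + 3)) = 1 := hcM
    rw [this, one_pow]

end Cfsg.Agent.S0646
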