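import Cfsg.Statements.S0647
-- import your own Cfsg.Agent.* helpers here

set_option autoImplicit false
open Cfsg

namespace Cfsg.Agent.S0647

/-- For a nonempty family of maximal abelian subgroups of a finite group, the intersection of the family is the centre of the subgroup it generates, which is also the full centralizer of that subgroup. -/
theorem result {S : Type*} [Group S] [Finite S] (𝒜 : Set (Subgroup S)) (hne : 𝒜.Nonempty) (hab : ∀ A ∈ 𝒜, IsMulCommutative A) (hmax : ∀ A ∈ 𝒜, ∀ B : Subgroup S, IsMulCommutative B → A ≤ B → B = A) : sInf 𝒜 = sSup 𝒜 ⊓ Subgroup.centralizer ((sSup 𝒜 : Subgroup S) : Set S) ∧ sInf 𝒜 = Subgroup.centralizer ((sSup 𝒜 : Subgroup S) : Set S) := by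
  classical
  have hI_le_C : sInf 𝒜 ≤ Subgroup.centralizer ((sSup 𝒜 : Subgroup S) : Set S) := by
    intro x hx
    have hxA : ∀ A ∈ 𝒜, x ∈ A := fun A hA => (Subgroup.mem_sInf.mp hx) A hA
    -- sSup 𝒜 ≤ centralizer {x}
    have hle : sSup 𝒜 ≤ Subgroup.centralizer ({x} : Set S) := by
      apply sSup_le
      intro A hA a ha
      rw [Subgroup.mem_centralizer_iff]
      intro y hy
      rw [Set.mem_singleton_iff] at hy
      subst hy
      haveI := hab A hA
      exact Subgroup.mul_comm_of_mem_isMulCommutative A (hxA A hA) ha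
    rw [Subgroup.mem_centralizer_iff]
    intro y hy
    have := hle hy
    rw [Subgroup.mem_centralizer_iff] at this
    exact (this x rfl).symm
  have hC_le_I : Subgroup.centralizer ((sSup 𝒜 : Subgroup S) : Set S) ≤ sInf 𝒜 := by
    intro x hx
    rw [Subgroup.mem_sInf]
    intro A hA
    haveI := hab A hA
    have hxcomm : ∀ a ∈ A, a * x = x * a := by
      intro a ha
      rw [Subgroup.mem_centralizer_iff] at hx
      exact hx a ((le_sSup hA : A ≤ sSup 𝒜) ha)
    have hBcomm : IsMulCommutative (Subgroup.closure ((A : Set S) ∪ {x})) := by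
      apply Subgroup.isMulCommutative_closure
      rintro y (hy | hy) z (hz | hz)
      · exact Subgroup.mul_comm_of_mem_isMulCommutative A hy hz
      · rw [Set.mem_singleton_iff] at hz; subst hz; exact hxcomm y hy
      · rw [Set.mem_singleton_iff] at hy; subst hy; exact (hxcomm z hz).symm
      · rw [Set.mem_singleton_iff] at hy hz; subst hy; subst hz; rfl
    have hAB : A ≤ Subgroup.closure ((A : Set S) ∪ {x}) := by
      intro a ha
      exact Subgroup.subset_closure (Or.inl ha)
    have hBA := hmax A hA _ hBcomm hAB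
    rw [← hBA]
    exact Subgroup.subset_closure (Or.inr rfl)
  have hI_le_J : sInf 𝒜 ≤ sSup 𝒜 := by
    obtain ⟨A, hA⟩ := hne
    exact (sInf_le hA).trans (le_sSup hA)
  have hIC : sInf 𝒜 = Subgroup.centralizer ((sSup 𝒜 : Subgroup S) : Set S) :=
    le_antisymm hI_le_C hC_le_I
  refine ⟨?_, hIC⟩
  apply le_antisymm
  · exact le_inf hI_le_J hI_le_C
  · exact inf_le_right.trans hC_le_I

end Cfsg.Agent.S0647
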