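import Cfsg.Statements.S0648
import Mathlib

set_option autoImplicit false
open Cfsg

namespace Cfsg.Agent.S0648

section Aux


open scoped commutatorElement

variable {G : Type*} [Group G]

/-- core computation: `φ` an automorphism (conjugation by `d`) -/
lemma core (φ : G ≃* G) (x ua ud w : G)
    (h1 : φ x = x * ud) (h2 : φ ua = ua * w)
    (h3 : φ ⁅x, ua⁆ = ⁅x, ua⁆)
    (h4 : ⁅x, w⁆ * ua = ua * ⁅x, w⁆)
    (h5 : ⁅ud, ua * w⁆ * x = x * ⁅ud, ua * w⁆)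
    (h6 : ⁅ud, ua * w⁆ * ⁅x, ua⁆ = ⁅x, ua⁆ * ⁅ud, ua * w⁆) :
    ⁅ud, ua * w⁆ = ⁅x, w⁆⁻¹ := by
  set ζ := ⁅x, ua⁆ with hζ
  set η := ⁅x, w⁆ with hη
  set z := ⁅ud, ua * w⁆ with hz
  -- apply φ to ζ
  have e1 : ⁅x * ud, ua * w⁆ = ζ := by
    have := h3
    rw [hζ, map_commutatorElement, h1, h2] at this
    exact this
  -- expand
  have e2 : ⁅x * ud, ua * w⁆ = x * z * x⁻¹ * (ζ * (ua * η * ua⁻¹)) := by
    simp only [hz, hζ, hη, commutatorElement_def]
    group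
  rw [e2] at e1
  have e3 : ua * η * ua⁻¹ = η := by rw [← h4]; group
  rw [e3] at e1
  have e4 : x * z * x⁻¹ = z := by rw [← h5]; group
  rw [e4] at e1
  -- z * (ζ * η) = ζ
  have e5 : ζ * z * η = ζ := by
    rw [← h6, mul_assoc]
    exact e1
  have e6 : z * η = 1 := by
    have h := congrArg (fun t => ζ⁻¹ * t) e5
    have h' : ζ⁻¹ * (ζ * z * η) = ζ⁻¹ * ζ := h
    rw [show ζ⁻¹ * (ζ * z * η) = z * η by group, inv_mul_cancel] at h'
    exact h'
  exact eq_inv_of_mul_eq_one_left e6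


/-- second core computation -/
lemma core2 (φ : G ≃* G) (x ue w : G) (h1 : φ x = x * ue) (hw : φ w = w)
    (hη : φ ⁅x, w⁆ = ⁅x, w⁆) : ue * w = w * ue := by
  rw [map_commutatorElement, h1, hw] at hη
  simp only [commutatorElement_def] at hη
  have h2 : ue * w * ue⁻¹ = w := by
    have h3 : x⁻¹ * (x * ue * w * (x * ue)⁻¹ * w⁻¹) * w * x = x⁻¹ * (x * w * x⁻¹ * w⁻¹) * w * x :=
      congrArg (fun t => x⁻¹ * t * w * x) hη
    rw [show x⁻¹ * (x * ue * w * (x * ue)⁻¹ * w⁻¹) * w * x = ue * w * ue⁻¹ by group,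
      show x⁻¹ * (x * w * x⁻¹ * w⁻¹) * w * x = w by group] at h3
    exact h3
  calc ue * w = ue * w * ue⁻¹ * ue := by group
    _ = w * ue := by rw [h2]

lemma comm_mul_of_comm (ud ua w : G) (h : ud * w = w * ud) : ⁅ud, ua * w⁆ = ⁅ud, ua⁆ := by
  simp only [commutatorElement_def]
  have h' : w * ud⁻¹ * w⁻¹ = ud⁻¹ := by
    have : w = ud * w * ud⁻¹ := by rw [h]; group
    calc w * ud⁻¹ * w⁻¹ = ud⁻¹ * (ud * w * ud⁻¹) * w⁻¹ := by group
      _ = ud⁻¹ := by rw [← this]; group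
  calc ud * (ua * w) * ud⁻¹ * (ua * w)⁻¹ = ud * ua * (w * ud⁻¹ * w⁻¹) * ua⁻¹ := by group
    _ = ud * ua * ud⁻¹ * ua⁻¹ := by rw [h']

lemma comm_central_mul (b k w : G) (hkb : k * b = b * k) (hkw : k * w = w * k) :
    ⁅b, k * w⁆ = ⁅b, w⁆ := by
  simp only [commutatorElement_def]
  have h1 : b * k = k * b := hkb.symm
  have hkbi : k * b⁻¹ = b⁻¹ * k := by
    calc k * b⁻¹ = b⁻¹ * (b * k) * b⁻¹ := by group
      _ = b⁻¹ * (k * b) * b⁻¹ := by rw [h1]
      _ = b⁻¹ * k := by group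
  calc b * (k * w) * b⁻¹ * (k * w)⁻¹ = (b * k) * w * b⁻¹ * w⁻¹ * k⁻¹ := by group
    _ = k * b * w * b⁻¹ * w⁻¹ * k⁻¹ := by rw [h1]
    _ = b * w * (k * b⁻¹) * w⁻¹ * k⁻¹ := by
        rw [hkb, mul_assoc b k w, hkw]; group
    _ = b * w * b⁻¹ * (k * w⁻¹) * k⁻¹ := by rw [hkbi]; group
    _ = b * w * b⁻¹ * w⁻¹ := by
        have : k * w⁻¹ = w⁻¹ * k := by
          calc k * w⁻¹ = w⁻¹ * (w * k) * w⁻¹ := by group
            _ = w⁻¹ * (k * w) * w⁻¹ := by rw [hkw]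
            _ = w⁻¹ * k := by group
        rw [this]; group


open Subgroup

section Main

variable (A B : Subgroup G)

lemma D_le_B (hAB : A ≤ Subgroup.normalizer (B : Set G)) : ⁅B, A⁆ ≤ B :=
  Subgroup.le_normalizer_iff_commutator_le_left.mp hAB

/-- `[B,A]` centralises `B'` -/
lemma P1 (hAB : A ≤ Subgroup.normalizer (B : Set G)) (hc : ⁅⁅B, B⁆, A⁆ = ⊥) :
    ⁅⁅B, A⁆, ⁅B, B⁆⁆ = ⊥ := by
  apply Subgroup.commutator_commutator_eq_bot_of_rotate
  · rw [Subgroup.commutator_comm A, hc, Subgroup.commutator_bot_left]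
  · rw [eq_bot_iff, ← hc]
    apply Subgroup.commutator_mono _ le_rfl
    rw [Subgroup.commutator_le]
    intro g hg h hh
    have hgB : g ∈ B := by
      have : ⁅B, B⁆ ≤ B := Subgroup.commutator_le.mpr fun x hx y hy =>
        B.mul_mem (B.mul_mem (B.mul_mem hx hy) (B.inv_mem hx)) (B.inv_mem hy)
      exact this hg
    exact Subgroup.commutator_mem_commutator hgB hh

lemma part1 (hAB : A ≤ Subgroup.normalizer (B : Set G)) (hc : ⁅⁅B, B⁆, A⁆ = ⊥) :
    ⁅⁅B, A⁆, ⁅B, A⁆⁆ ≤ B ⊓ Subgroup.centralizer (B : Set G) := by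
  have hD := D_le_B A B hAB
  have hP1 := P1 A B hAB hc
  refine le_inf ?_ ?_
  · refine le_trans ?_ hD
    exact Subgroup.commutator_le.mpr fun x hx y hy =>
      (⁅B, A⁆).mul_mem ((⁅B, A⁆).mul_mem ((⁅B, A⁆).mul_mem hx hy) ((⁅B, A⁆).inv_mem hx))
        ((⁅B, A⁆).inv_mem hy)
  · rw [← Subgroup.commutator_eq_bot_iff_le_centralizer]
    have h1 : ⁅⁅⁅B, A⁆, B⁆, ⁅B, A⁆⁆ = ⊥ := by
      rw [eq_bot_iff, ← hP1, Subgroup.commutator_comm ⁅B, A⁆ ⁅B, B⁆]
      exact Subgroup.commutator_mono (Subgroup.commutator_mono hD le_rfl) le_rfl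
    apply Subgroup.commutator_commutator_eq_bot_of_rotate
    · exact h1
    · rw [Subgroup.commutator_comm B]; exact h1


/-- the elements of a central-in-`B` subgroup of `B` whose square is trivial form a subgroup -/
def sqOne (Z : Subgroup G) (hZ : ∀ x ∈ Z, ∀ y ∈ Z, x * y = y * x) : Subgroup G where
  carrier := {z | z ∈ Z ∧ z ^ 2 = 1}
  one_mem' := ⟨Z.one_mem, one_pow 2⟩
  mul_mem' := by
    rintro x y ⟨hx, hx2⟩ ⟨hy, hy2⟩
    refine ⟨Z.mul_mem hx hy, ?_⟩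
    have hc : Commute x y := hZ x hx y hy
    rw [hc.mul_pow, hx2, hy2, one_mul]
  inv_mem' := by
    rintro x ⟨hx, hx2⟩
    exact ⟨Z.inv_mem hx, by rw [inv_pow, hx2, inv_one]⟩

lemma part2 (hAB : A ≤ Subgroup.normalizer (B : Set G)) (hc : ⁅⁅B, B⁆, A⁆ = ⊥)
    (hA : IsMulCommutative A) (b : G) (hb : b ∈ B)
    (hM : ⁅⁅(Subgroup.closure {g : G | ∃ a ∈ A, g = b⁻¹ * a * b * a⁻¹}), A⁆, A⁆ = ⊥) :
    ∀ w ∈ ⁅(Subgroup.closure {g : G | ∃ a ∈ A, g = b⁻¹ * a * b * a⁻¹}),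
      (Subgroup.closure {g : G | ∃ a ∈ A, g = b⁻¹ * a * b * a⁻¹})⁆, w ^ 2 = 1 := by
  set M := Subgroup.closure {g : G | ∃ a ∈ A, g = b⁻¹ * a * b * a⁻¹} with hMdef
  set D := ⁅B, A⁆ with hDdef
  have hD : D ≤ B := D_le_B A B hAB
  have hP1 := P1 A B hAB hc
  have hpart1 := part1 A B hAB hc
  -- basic commutation facts
  have hB'A : ∀ z ∈ ⁅B, B⁆, ∀ a ∈ A, a * z * a⁻¹ = z := by
    intro z hz a ha
    have h1 := (Subgroup.commutator_eq_bot_iff_le_centralizer.mp hc) hz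
    have h2 := Subgroup.mem_centralizer_iff.mp h1 a ha
    rw [h2]; group
  have hDB' : ∀ y ∈ D, ∀ z ∈ ⁅B, B⁆, z * y = y * z := by
    intro y hy z hz
    have h1 := (Subgroup.commutator_eq_bot_iff_le_centralizer.mp hP1) hy
    exact Subgroup.mem_centralizer_iff.mp h1 z hz
  have hD'B : ∀ z ∈ ⁅D, D⁆, ∀ y ∈ B, z * y = y * z := by
    intro z hz y hy
    have h1 := (hpart1 hz).2
    exact (Subgroup.mem_centralizer_iff.mp h1 y hy).symm
  have hLA : ∀ w ∈ ⁅M, A⁆, ∀ a ∈ A, a * w * a⁻¹ = w := by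
    intro w hw a ha
    have h1 := (Subgroup.commutator_eq_bot_iff_le_centralizer.mp hM) hw
    have h2 := Subgroup.mem_centralizer_iff.mp h1 a ha
    rw [h2]; group
  -- the generators
  set u : G → G := fun a => b⁻¹ * a * b * a⁻¹ with hu
  have hu_conj : ∀ a : G, a * b * a⁻¹ = b * u a := by
    intro a; simp only [hu]; group
  have huM : ∀ a ∈ A, u a ∈ M := fun a ha => Subgroup.subset_closure ⟨a, ha, rfl⟩
  have huD : ∀ a ∈ A, u a ∈ D := by
    intro a ha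
    have : u a = ⁅b⁻¹, a⁆ := by simp only [hu, commutatorElement_def, inv_inv]
    rw [this]
    exact Subgroup.commutator_mem_commutator (B.inv_mem hb) ha
  have hMD : M ≤ D := by
    rw [hMdef, Subgroup.closure_le]
    rintro g ⟨a, ha, rfl⟩
    exact huD a ha
  have hMB : M ≤ B := hMD.trans hD
  have hLD : ⁅M, A⁆ ≤ D := Subgroup.commutator_mono hMB le_rfl
  have hM'D' : ⁅M, M⁆ ≤ ⁅D, D⁆ := Subgroup.commutator_mono hMD hMD
  -- key identity (E)
  have hE : ∀ a ∈ A, ∀ d ∈ A, ⁅u d, u a⁆ = ⁅b, (u a)⁻¹ * (d * u a * d⁻¹)⁆⁻¹ := by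
    intro a ha d hd
    set w := (u a)⁻¹ * (d * u a * d⁻¹) with hw
    have hwL : w ∈ ⁅M, A⁆ := by
      have : w = ⁅(u a)⁻¹, d⁆ := by simp only [hw, commutatorElement_def, inv_inv]; group
      rw [this]
      exact Subgroup.commutator_mem_commutator (M.inv_mem (huM a ha)) hd
    have hwD : w ∈ D := hLD hwL
    have hwB : w ∈ B := hD hwD
    have hbw : ⁅b, w⁆ ∈ ⁅B, B⁆ := Subgroup.commutator_mem_commutator hb hwB
    have hbu : ⁅b, u a⁆ ∈ ⁅B, B⁆ := Subgroup.commutator_mem_commutator hb (hD (huD a ha))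
    have hz : ⁅u d, u a * w⁆ ∈ ⁅D, D⁆ :=
      Subgroup.commutator_mem_commutator (huD d hd) (D.mul_mem (huD a ha) hwD)
    have hbuB : ⁅b, u a⁆ ∈ B := by
      simp only [commutatorElement_def]
      exact B.mul_mem (B.mul_mem (B.mul_mem hb (hD (huD a ha))) (B.inv_mem hb))
        (B.inv_mem (hD (huD a ha)))
    have h1 : (MulAut.conj d) b = b * u d := by
      rw [MulAut.conj_apply]; exact hu_conj d
    have h2 : (MulAut.conj d) (u a) = u a * w := by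
      rw [MulAut.conj_apply, hw]; group
    have c1 := core (MulAut.conj d) b (u a) (u d) w h1 h2
      (by rw [MulAut.conj_apply]; exact hB'A _ hbu d hd)
      (hDB' _ (huD a ha) _ hbw)
      (hD'B _ hz b hb)
      (hD'B _ hz _ hbuB)
    have c2 := core2 (MulAut.conj d) b (u d) w h1
      (by rw [MulAut.conj_apply]; exact hLA w hwL d hd)
      (by rw [MulAut.conj_apply]; exact hB'A _ hbw d hd)
    rw [comm_mul_of_comm (u d) (u a) w c2] at c1
    exact c1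
  -- the symmetric relation between the second differences
  have hsym : ∀ a ∈ A, ∀ d ∈ A, (u d)⁻¹ * (a * u d * a⁻¹) =
      ((u d)⁻¹ * (u a)⁻¹ * u d * u a) * ((u a)⁻¹ * (d * u a * d⁻¹)) := by
    intro a ha d hd
    have hcomm : d * a = a * d := by
      have := hA.is_comm.comm (⟨d, hd⟩ : A) ⟨a, ha⟩
      exact congrArg Subtype.val this
    have e1 : d * (a * b * a⁻¹) * d⁻¹ = a * (d * b * d⁻¹) * a⁻¹ := by
      calc d * (a * b * a⁻¹) * d⁻¹ = (d * a) * b * (d * a)⁻¹ := by group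
        _ = (a * d) * b * (a * d)⁻¹ := by rw [hcomm]
        _ = a * (d * b * d⁻¹) * a⁻¹ := by group
    rw [hu_conj a, hu_conj d] at e1
    have e2 : d * (b * u a) * d⁻¹ = (d * b * d⁻¹) * (d * u a * d⁻¹) := by group
    have e3 : a * (b * u d) * a⁻¹ = (a * b * a⁻¹) * (a * u d * a⁻¹) := by group
    rw [e2, e3, hu_conj a, hu_conj d] at e1
    -- b * u d * (d * u a * d⁻¹) = b * u a * (a * u d * a⁻¹)
    have e4 : a * u d * a⁻¹ = (u a)⁻¹ * u d * (d * u a * d⁻¹) := by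
      have h5 : (u a)⁻¹ * b⁻¹ * (b * u d * (d * u a * d⁻¹)) =
          (u a)⁻¹ * b⁻¹ * (b * u a * (a * u d * a⁻¹)) :=
        congrArg (fun t => (u a)⁻¹ * b⁻¹ * t) e1
      rw [show (u a)⁻¹ * b⁻¹ * (b * u d * (d * u a * d⁻¹)) = (u a)⁻¹ * u d * (d * u a * d⁻¹) by group,
        show (u a)⁻¹ * b⁻¹ * (b * u a * (a * u d * a⁻¹)) = a * u d * a⁻¹ by group] at h5
      exact h5.symm
    rw [e4]; group
  -- the key claim on generators
  have hkey : ∀ a ∈ A, ∀ d ∈ A, ⁅u d, u a⁆ ^ 2 = 1 := by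
    intro a ha d hd
    have h1 := hE a ha d hd
    have h2 := hE d hd a ha
    rw [hsym a ha d hd] at h2
    have hk : (u d)⁻¹ * (u a)⁻¹ * u d * u a ∈ ⁅D, D⁆ := by
      have : (u d)⁻¹ * (u a)⁻¹ * u d * u a = ⁅(u d)⁻¹, (u a)⁻¹⁆ := by
        simp only [commutatorElement_def, inv_inv]
      rw [this]
      exact Subgroup.commutator_mem_commutator (D.inv_mem (huD d hd)) (D.inv_mem (huD a ha))
    have hwB : (u a)⁻¹ * (d * u a * d⁻¹) ∈ B := by
      apply hD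
      apply hLD
      have : (u a)⁻¹ * (d * u a * d⁻¹) = ⁅(u a)⁻¹, d⁆ := by
        simp only [commutatorElement_def, inv_inv]; group
      rw [this]
      exact Subgroup.commutator_mem_commutator (M.inv_mem (huM a ha)) hd
    rw [comm_central_mul b _ _ (hD'B _ hk b hb) (hD'B _ hk _ hwB)] at h2
    -- now ⁅u a, u d⁆ = ⁅u d, u a⁆
    have h3 : ⁅u a, u d⁆ = ⁅u d, u a⁆ := by rw [h1, h2]
    have h4 : ⁅u a, u d⁆ = ⁅u d, u a⁆⁻¹ := (commutatorElement_inv (u d) (u a)).symm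
    rw [h4] at h3
    rw [pow_two]
    calc ⁅u d, u a⁆ * ⁅u d, u a⁆ = ⁅u d, u a⁆⁻¹ * ⁅u d, u a⁆ := by rw [h3]
      _ = 1 := inv_mul_cancel _
  -- the subgroup of central elements of square one
  have hZcomm : ∀ x ∈ ⁅D, D⁆, ∀ y ∈ ⁅D, D⁆, x * y = y * x :=
    fun x hx y hy => hD'B x hx y (hpart1 hy).1
  set K := sqOne ⁅D, D⁆ hZcomm with hK
  have hKmem : ∀ z, z ∈ K ↔ z ∈ ⁅D, D⁆ ∧ z ^ 2 = 1 := fun z => Iff.rfl
  have hKcentral : ∀ z ∈ K, ∀ y ∈ B, y * z * y⁻¹ = z := by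
    intro z hz y hy
    have := hD'B z ((hKmem z).mp hz).1 y hy
    rw [← this]; group
  -- first variable a generator
  have hgen : ∀ d ∈ A, ∀ h ∈ M, ⁅u d, h⁆ ∈ K := by
    intro d hd h hh
    induction hh using Subgroup.closure_induction with
    | mem x hx =>
      obtain ⟨a, ha, rfl⟩ := hx
      exact (hKmem _).mpr ⟨Subgroup.commutator_mem_commutator (huD d hd) (huD a ha),
        hkey a ha d hd⟩
    | one => rw [commutatorElement_one_right]; exact K.one_mem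
    | mul x y hx hy ihx ihy =>
      have : ⁅u d, x * y⁆ = ⁅u d, x⁆ * (x * ⁅u d, y⁆ * x⁻¹) := by
        simp only [commutatorElement_def]; group
      rw [this, hKcentral _ ihy x (hMB hx)]
      exact K.mul_mem ihx ihy
    | inv x hx ihx =>
      have : ⁅u d, x⁻¹⁆ = x⁻¹ * ⁅u d, x⁆⁻¹ * x⁻¹⁻¹ := by
        simp only [commutatorElement_def]; group
      rw [this, hKcentral _ (K.inv_mem ihx) x⁻¹ (B.inv_mem (hMB hx))]
      exact K.inv_mem ihx
  have hall : ∀ g ∈ M, ∀ h ∈ M, ⁅g, h⁆ ∈ K := by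
    intro g hg
    induction hg using Subgroup.closure_induction with
    | mem x hx =>
      obtain ⟨d, hd, rfl⟩ := hx
      exact hgen d hd
    | one => intro h _; rw [commutatorElement_one_left]; exact K.one_mem
    | mul x y hx hy ihx ihy =>
      intro h hh
      have : ⁅x * y, h⁆ = (x * ⁅y, h⁆ * x⁻¹) * ⁅x, h⁆ := by
        simp only [commutatorElement_def]; group
      rw [this, hKcentral _ (ihy h hh) x (hMB hx)]
      exact K.mul_mem (ihy h hh) (ihx h hh)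
    | inv x hx ihx =>
      intro h hh
      have : ⁅x⁻¹, h⁆ = x⁻¹ * ⁅x, h⁆⁻¹ * x⁻¹⁻¹ := by
        simp only [commutatorElement_def]; group
      rw [this, hKcentral _ (K.inv_mem (ihx h hh)) x⁻¹ (B.inv_mem (hMB hx))]
      exact K.inv_mem (ihx h hh)
  have hfinal : ⁅M, M⁆ ≤ K := Subgroup.commutator_le.mpr hall
  intro w hw
  exact ((hKmem w).mp (hfinal hw)).2

end Main


end Aux

/-- If A acts on B centralizing [B, B], then [B, A] has derived subgroup central in B, and for abelian A and b ∈ B with [[b, A], A, A] = 1 the derived subgroup of the subgroup [b, A] generated by the commutators of b with A has exponent dividing 2. -/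
theorem result {G : Type*} [Group G] [Finite G] (A B : Subgroup G) (hAB : A ≤ Subgroup.normalizer (B : Set G)) (hc : ⁅⁅B, B⁆, A⁆ = ⊥) : ⁅⁅B, A⁆, ⁅B, A⁆⁆ ≤ B ⊓ Subgroup.centralizer (B : Set G) ∧ (IsMulCommutative A → ∀ b ∈ B, ⁅⁅(Subgroup.closure {g : G | ∃ a ∈ A, g = b⁻¹ * a * b * a⁻¹}), A⁆, A⁆ = ⊥ → ∀ w ∈ ⁅(Subgroup.closure {g : G | ∃ a ∈ A, g = b⁻¹ * a * b * a⁻¹}), (Subgroup.closure {g : G | ∃ a ∈ A, g = b⁻¹ * a * b * a⁻¹})⁆, w ^ 2 = 1) := by
  exact ⟨part1 A B hAB hc, fun hA b hb hM => part2 A B hAB hc hA b hb hM⟩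

end Cfsg.Agent.S0648
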