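import Cfsg.Statements.S0649
-- import your own Cfsg.Agent.* helpers here

set_option autoImplicit false
open Cfsg

namespace Cfsg.Agent.S0649

/-- In the Glauberman replacement situation, if B does not normalize A then some element of B normalizes N_S(A) without normalizing A. -/
theorem result {S : Type*} [Group S] [Finite S] {p : ℕ} [Fact p.Prime] (hS : IsPGroup p S) (B : Subgroup S) [B.Normal] (hB2 : p = 2 → IsMulCommutative B) (A : Subgroup S) (hA : IsMulCommutative A) (hBA : ⁅B, B⁆ ≤ A) (hnot : ¬ B ≤ Subgroup.normalizer (A : Set S)) : ∃ b ∈ B, b ∈ Subgroup.normalizer ((Subgroup.normalizer (A : Set S)) : Set S) ∧ b ∉ Subgroup.normalizer (A : Set S) := by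
  classical
  set N := Subgroup.normalizer (A : Set S) with hN
  set K := B ⊔ N with hK
  have hBK : B ≤ K := le_sup_left
  have hNK : N ≤ K := le_sup_right
  have hKp : IsPGroup p K := hS.to_subgroup K
  have hnil : Group.IsNilpotent K := hKp.isNilpotent
  have hlt : N.subgroupOf K < ⊤ := by
    rw [lt_top_iff_ne_top]
    intro h
    rw [Subgroup.subgroupOf_eq_top] at h
    exact hnot (hBK.trans h)
  have hnc := normalizerCondition_of_isNilpotent (G := K) (N.subgroupOf K) hlt
  obtain ⟨k, hk1, hk2⟩ := SetLike.exists_of_lt hnc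
  -- k normalizes N in S
  have hkN : (k : S) ∈ Subgroup.normalizer (N : Set S) := by
    rw [Subgroup.mem_normalizer_iff]
    intro n
    rw [Subgroup.mem_normalizer_iff] at hk1
    constructor
    · intro hn
      have := (hk1 ⟨n, hNK hn⟩).mp (by simpa [Subgroup.mem_subgroupOf] using hn)
      simpa [Subgroup.mem_subgroupOf] using this
    · intro hn
      have hnK : n ∈ K := by
        have h1 : (k : S) * n * (k : S)⁻¹ ∈ K := hNK hn
        have h2 : (k : S)⁻¹ * ((k : S) * n * (k : S)⁻¹) * (k : S) ∈ K :=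
          K.mul_mem (K.mul_mem (K.inv_mem k.2) h1) k.2
        simpa [mul_assoc] using h2
      have := (hk1 ⟨n, hnK⟩).mpr (by simpa [Subgroup.mem_subgroupOf] using hn)
      simpa [Subgroup.mem_subgroupOf] using this
  have hkN' : (k : S) ∉ N := by
    simpa [Subgroup.mem_subgroupOf] using hk2
  -- decompose k = b * n
  have hkmem : (k : S) ∈ ((B ⊔ N : Subgroup S) : Set S) := k.2
  rw [Subgroup.normal_mul, Set.mem_mul] at hkmem
  obtain ⟨b, hb, n, hn, hbn⟩ := hkmem
  refine ⟨b, hb, ?_, ?_⟩
  · have hb_eq : b = (k : S) * n⁻¹ := by rw [← hbn]; group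
    rw [hb_eq]
    exact Subgroup.mul_mem _ hkN (Subgroup.inv_mem _ (Subgroup.le_normalizer hn))
  · intro hbN
    apply hkN'
    rw [← hbn]
    exact N.mul_mem hbN hn

end Cfsg.Agent.S0649
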