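import Cfsg.Statements.S0650
import Cfsg.Agent.Lib.Helper27.GlaubRepl

set_option autoImplicit false
open Cfsg

namespace Cfsg.Agent.S0650

/-- The Glauberman replacement Theorem: from an abelian A ⊇ [B, B] not normalized by the normal subgroup B and a suitable b ∈ B one gets the abelian subgroup A* = (A ∩ b⁻¹Ab)[A, b] of the same order, containing [B, B], meeting B strictly more than A does but not containing B, mutually normalizing with A, with strictly larger normalizer containing b, and (p odd) of no larger exponent. -/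
theorem result {S : Type*} [Group S] [Finite S] {p : ℕ} [Fact p.Prime] (hS : IsPGroup p S) (B : Subgroup S) [B.Normal] (hB2 : p = 2 → IsMulCommutative B) (A : Subgroup S) (hA : IsMulCommutative A) (hBA : ⁅B, B⁆ ≤ A) (hnot : ¬ B ≤ Subgroup.normalizer (A : Set S)) (b : S) (hb : b ∈ B) (hbN : b ∈ Subgroup.normalizer ((Subgroup.normalizer (A : Set S)) : Set S)) (hbA : b ∉ Subgroup.normalizer (A : Set S)) : Nat.card ↥((A ⊓ A.map (MulAut.conj (b⁻¹)).toMonoidHom) ⊔ Subgroup.closure {g : S | ∃ a ∈ A, g = a * b⁻¹ * a⁻¹ * b}) = Nat.card A ∧ IsMulCommutative ↥((A ⊓ A.map (MulAut.conj (b⁻¹)).toMonoidHom) ⊔ Subgroup.closure {g : S | ∃ a ∈ A, g = a * b⁻¹ * a⁻¹ * b}) ∧ ⁅B, B⁆ ≤ ((A ⊓ A.map (MulAut.conj (b⁻¹)).toMonoidHom) ⊔ Subgroup.closure {g : S | ∃ a ∈ A, g = a * b⁻¹ * a⁻¹ * b}) ∧ A ⊓ B < ((A ⊓ A.map (MulAut.conj (b⁻¹)).toMonoidHom) ⊔ Subgroup.closure {g : S | ∃ a ∈ A, g = a * b⁻¹ * a⁻¹ * b}) ⊓ B ∧ ((A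 ⊓ A.map (MulAut.conj (b⁻¹)).toMonoidHom) ⊔ Subgroup.closure {g : S | ∃ a ∈ A, g = a * b⁻¹ * a⁻¹ * b}) ⊓ B < B ∧ A ≤ Subgroup.normalizer (((A ⊓ A.map (MulAut.conj (b⁻¹)).toMonoidHom) ⊔ Subgroup.closure {g : S | ∃ a ∈ A, g = a * b⁻¹ * a⁻¹ * b} : Subgroup S) : Set S) ∧ ((A ⊓ A.map (MulAut.conj (b⁻¹)).toMonoidHom) ⊔ Subgroup.closure {g : S | ∃ a ∈ A, g = a * b⁻¹ * a⁻¹ * b}) ≤ Subgroup.normalizer (A : Set S) ∧ b ∈ Subgroup.normalizer (((A ⊓ A.map (MulAut.conj (b⁻¹)).toMonoidHom) ⊔ Subgroup.closure {g : S | ∃ a ∈ A, g = a * b⁻¹ * a⁻¹ * b} : Subgroup S) : Set S) ∧ Subgroup.normalizer (A : Set S) < Subgroup.normalizer (((A ⊓ A.map (MulAut.conj (b⁻¹)).toMonoidHom) ⊔ Subgroup.closure {g : S | ∃ a ∈ A, g = a * b⁻¹ * a⁻¹ * b} : Subgroup S) : Set S) ∧ (p ≠ 2 → Monoid.exponent ↥((A ⊓ A.map (MulAut.conj (b⁻¹)).toMonoidHom) ⊔ Subgroup.closure {g : S | ∃ a ∈ A, g = a * b⁻¹ * a⁻¹ * b}) ∣ Monoid.exponent A) :=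 by
  classical
  open Cfsg.Agent.Lib.Helper27.GlaubRepl in
  have hcomm : ∀ x ∈ A, ∀ y ∈ A, x * y = y * x := fun x hx y hy =>
    congrArg Subtype.val (hA.is_comm.comm ⟨x, hx⟩ ⟨y, hy⟩)
  have hp := (Fact.out : p.Prime)
  have hodd : (∀ x ∈ B, ∀ y ∈ B, x * y = y * x) ∨ Odd (orderOf b) := by
    by_cases h2 : p = 2
    · left
      have hBc := hB2 h2
      exact fun x hx y hy => congrArg Subtype.val (hBc.is_comm.comm ⟨x, hx⟩ ⟨y, hy⟩)
    · right
      obtain ⟨k, hk⟩ := hS b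
      have hdvd : orderOf b ∣ p ^ k := orderOf_dvd_of_pow_eq_one hk
      obtain ⟨j, -, hj⟩ := (Nat.dvd_prime_pow hp).mp hdvd
      rw [hj]
      exact (hp.odd_of_ne_two h2).pow
  have h : Cfsg.Agent.Lib.Helper27.GlaubRepl.Hyp A B b :=
    ⟨hcomm, inferInstance, hb, hBA, hbN, hodd⟩
  have hEq : (A ⊓ A.map (MulAut.conj (b⁻¹)).toMonoidHom) ⊔
      Subgroup.closure {g : S | ∃ a ∈ A, g = a * b⁻¹ * a⁻¹ * b} = h.aStar := h.aStar_eq.symm
  rw [hEq]
  -- an element of A moved out of A by b⁻¹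
  have hbinv : b⁻¹ ∉ Subgroup.normalizer (A : Set S) := fun hc => hbA (by simpa using inv_mem hc)
  have hex : ∃ a ∈ A, b⁻¹ * a * b ∉ A := by
    by_contra hcon
    push Not at hcon
    apply hbinv
    apply Subgroup.mem_normalizer_fintype
    intro n hn
    have := hcon n hn
    simpa using this
  obtain ⟨a₀, ha₀, ha₀'⟩ := hex
  have hbStar : b ∉ h.aStar := fun hc => hbA (h.aStar_le_N hc)
  refine ⟨h.card_aStar, ?_, h.commutator_le_aStar, ?_, ?_, h.le_normalizer_aStar, h.aStar_le_N,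
    h.b_mem_normalizer_aStar, ?_, ?_⟩
  · exact ⟨⟨fun x y => Subtype.ext (h.aStar_comm x.2 y.2)⟩⟩
  · refine lt_of_le_not_ge h.inf_le_aStar_inf ?_
    intro hle
    have := (hle (h.phi_mem_aStar_inf ha₀)).1
    rw [h.phi_eq] at this
    apply ha₀'
    have h2 := A.mul_mem (A.inv_mem this) ha₀
    have e : (a₀ * (b⁻¹ * a₀ * b)⁻¹)⁻¹ * a₀ = b⁻¹ * a₀ * b := by group
    rwa [e] at h2
  · refine lt_of_le_not_ge inf_le_right ?_
    intro hle
    exact hbStar (hle hb).1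
  · refine lt_of_le_not_ge h.normalizer_le_normalizer_aStar ?_
    intro hle
    exact hbA (hle h.b_mem_normalizer_aStar)
  · intro h2
    apply Monoid.exponent_dvd_of_forall_pow_eq_one
    intro g
    apply Subtype.ext
    rw [Subgroup.coe_pow, Subgroup.coe_one]
    have hAe : ∀ a ∈ A, a ^ Monoid.exponent A = 1 := fun a ha => by
      have := Monoid.pow_exponent_eq_one (⟨a, ha⟩ : A)
      exact congrArg Subtype.val this
    have hoddE : Odd (Monoid.exponent A) := by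
      have hAp : IsPGroup p A := hS.to_subgroup A
      obtain ⟨k, hk⟩ := IsPGroup.iff_card.mp hAp
      have hdvd : Monoid.exponent A ∣ p ^ k := hk ▸ Group.exponent_dvd_nat_card
      obtain ⟨j, -, hj⟩ := (Nat.dvd_prime_pow hp).mp hdvd
      rw [hj]
      exact (hp.odd_of_ne_two h2).pow
    exact h.pow_eq_one_of_mem_aStar hoddE hAe g.2

end Cfsg.Agent.S0650
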