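import Cfsg.Statements.S0652
import Cfsg.Agent.Lib.Helper27.GlaubRepl2
import Cfsg.Agent.Lib.Helper27.Thompson

set_option autoImplicit false
open Cfsg

namespace Cfsg.Agent.S0652

/-- For odd p and D normal in the p-group S, the elementary abelian subgroups of D of largest order satisfy the replacement property for class-2 normal subgroups of S. -/
theorem result {S : Type*} [Group S] [Finite S] {p : ℕ} [Fact p.Prime] (hS : IsPGroup p S) (hp : p ≠ 2) (D : Subgroup S) [D.Normal] : ∀ (B : Subgroup S) [B.Normal], ⁅⁅B, B⁆, B⁆ = ⊥ → (∃ U ∈ (Set.image (fun A : Subgroup ↥D => A.map D.subtype) (Cfsg.maxElementaryAbelianSubgroups p ↥D)), ⁅B, B⁆ ≤ U ∧ ¬ B ≤ U) → ∃ A ∈ (Set.image (fun A : Subgroup ↥D => A.map D.subtype) (Cfsg.maxElementaryAbelianSubgroups p ↥D)), ⁅B, B⁆ ≤ A ∧ ¬ B ≤ A ∧ B ≤ Subgroup.normalizer (A : Set S) := by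
  intro B hBn _ hex
  have hpp := (Fact.out : p.Prime)
  have himg : (Set.image (fun A : Subgroup ↥D => A.map D.subtype)
      (Cfsg.maxElementaryAbelianSubgroups p ↥D)) =
      Cfsg.Agent.Lib.Helper27.maxIn (Cfsg.IsElementaryAbelian p) D :=
    Cfsg.Agent.Lib.Helper27.image_max_eq D (fun A => Cfsg.IsElementaryAbelian p A)
      (Cfsg.IsElementaryAbelian p) (Cfsg.Agent.Lib.Helper27.isElementaryAbelian_map_subtype D)
  rw [himg] at hex ⊢
  refine Cfsg.Agent.Lib.Helper27.replacement_property hS hp _ B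
    (fun A hA => (Cfsg.Agent.Lib.Helper27.abSub_iff A).mpr hA.2.1.1) ?_ hex
  intro A hA A' hcard hab' hexp hD
  refine ⟨hD D inferInstance hA.1, ⟨(Cfsg.Agent.Lib.Helper27.abSub_iff A').mp hab', ?_⟩, ?_⟩
  · exact hexp p (hpp.odd_of_ne_two hp) hA.2.1.2
  · intro B' hB'D hB'
    rw [hcard]
    exact hA.2.2 B' hB'D hB' 

end Cfsg.Agent.S0652
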