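import Cfsg.Statements.S0655
import Mathlib
-- import your own Cfsg.Agent.* helpers here

set_option autoImplicit false
open Cfsg

namespace Cfsg.Agent.S0655

/-- In a p-group the intersection of all elementary abelian subgroups of largest order is the subgroup generated by the elements of order dividing p in the centre (equivalently the centralizer) of the elementary-version Thompson subgroup. -/
theorem result {S : Type*} [Group S] [Finite S] {p : ℕ} [Fact p.Prime] (hS : IsPGroup p S) : sInf (Cfsg.maxElementaryAbelianSubgroups p S) = Cfsg.omegaCenterThompson p S ∧ Cfsg.omegaCenterThompson p S = Cfsg.omegaOne p (Subgroup.centralizer (Cfsg.thompsonSubgroup p S : Set S)) := by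
  classical
  set 𝒜 := Cfsg.maxElementaryAbelianSubgroups p S with h𝒜
  set J := Cfsg.thompsonSubgroup p S with hJ
  have hJdef : J = sSup 𝒜 := rfl
  -- Step (a)
  have ha : sInf 𝒜 ≤ Cfsg.omegaCenterThompson p S := by
    intro x hx
    have hxA : ∀ A ∈ 𝒜, x ∈ A := fun A hA => (Subgroup.mem_sInf.mp hx) A hA
    -- 𝒜 is nonempty
    have hne : 𝒜.Nonempty := by
      -- choose an elementary abelian subgroup of max card
      have hfin : (Set.univ : Set (Subgroup S)).Finite := Set.toFinite _
      obtain ⟨A, hA, hmax⟩ := Set.exists_max_image {A : Subgroup S | Cfsg.IsElementaryAbelian p A}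
        (fun A => Nat.card A) (Set.toFinite _)
        ⟨⊥, ⟨⟨fun a b => by
          have ha := a.2; have hb := b.2
          rw [Subgroup.mem_bot] at ha hb
          apply Subtype.ext
          simp [ha, hb]⟩⟩, fun a ha => by rw [Subgroup.mem_bot] at ha; rw [ha, one_pow]⟩
      exact ⟨A, hA, fun B hB => hmax B hB⟩
    obtain ⟨A₀, hA₀⟩ := hne
    apply Subgroup.subset_closure
    refine ⟨⟨?_, ?_⟩, ?_⟩
    · exact (le_sSup hA₀ : A₀ ≤ sSup 𝒜) (hxA A₀ hA₀)
    · show x ∈ Subgroup.centralizer (Cfsg.thompsonSubgroup p S : Set S)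
      rw [Subgroup.mem_centralizer_iff]
      have hle : sSup 𝒜 ≤ Subgroup.centralizer ({x} : Set S) := by
        apply sSup_le
        intro A hA a ha
        rw [Subgroup.mem_centralizer_iff]
        intro y hy
        rw [Set.mem_singleton_iff] at hy
        subst hy
        have := hA.1.1
        exact setLike_mul_comm (hxA A hA) ha
      intro y hy
      have := hle hy
      rw [Subgroup.mem_centralizer_iff] at this
      exact (this x rfl).symm
    · exact hA₀.1.2 x (hxA A₀ hA₀)
  have hb : Cfsg.omegaCenterThompson p S ≤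
      Cfsg.omegaOne p (Subgroup.centralizer (Cfsg.thompsonSubgroup p S : Set S)) := by
    apply Subgroup.closure_mono
    rintro x ⟨hx, hxp⟩
    exact ⟨hx.2, hxp⟩
  have hc : Cfsg.omegaOne p (Subgroup.centralizer (Cfsg.thompsonSubgroup p S : Set S)) ≤
      sInf 𝒜 := by
    unfold Cfsg.omegaOne
    rw [Subgroup.closure_le]
    rintro x ⟨hxC, hxp⟩
    rw [SetLike.mem_coe, Subgroup.mem_sInf]
    intro A hA
    have := hA.1.1
    have hxcomm : ∀ a ∈ A, a * x = x * a := by
      intro a ha
      rw [Subgroup.mem_centralizer_iff] at hxC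
      exact hxC a ((le_sSup hA : A ≤ sSup 𝒜) ha)
    have hcomm : ∀ y ∈ ((A : Set S) ∪ {x}), ∀ z ∈ ((A : Set S) ∪ {x}), y * z = z * y := by
      rintro y (hy | hy) z (hz | hz)
      · exact setLike_mul_comm hy hz
      · rw [Set.mem_singleton_iff] at hz; subst hz; exact hxcomm y hy
      · rw [Set.mem_singleton_iff] at hy; subst hy; exact (hxcomm z hz).symm
      · rw [Set.mem_singleton_iff] at hy hz; subst hy; subst hz; rfl
    have hBcomm : IsMulCommutative (Subgroup.closure ((A : Set S) ∪ {x})) :=
      Subgroup.isMulCommutative_closure hcomm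
    have hBexp : ∀ y ∈ Subgroup.closure ((A : Set S) ∪ {x}), y ^ p = 1 := by
      intro y hy
      induction hy using Subgroup.closure_induction with
      | mem y hy =>
        rcases hy with hy | hy
        · exact hA.1.2 y hy
        · rw [Set.mem_singleton_iff] at hy; rw [hy]; exact hxp
      | one => exact one_pow _
      | mul y z hy hz ihy ihz =>
        have hyz : Commute y z :=
          setLike_mul_comm hy hz
        rw [hyz.mul_pow, ihy, ihz, one_mul]
      | inv y hy ihy => rw [inv_pow, ihy, inv_one]
    have hAB : A ≤ Subgroup.closure ((A : Set S) ∪ {x}) := by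
      intro a ha
      exact Subgroup.subset_closure (Or.inl ha)
    have hcard := hA.2 _ ⟨hBcomm, hBexp⟩
    have hBA := Subgroup.eq_of_le_of_card_ge hAB hcard
    rw [hBA]
    exact Subgroup.subset_closure (Or.inr rfl)
  exact ⟨le_antisymm ha (hb.trans hc), le_antisymm hb (hc.trans ha)⟩

end Cfsg.Agent.S0655
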