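import Cfsg.Statements.S0660
import Mathlib
import Cfsg.Agent.Lib.Helper1.Coprime
import Cfsg.Agent.Lib.Helper20.MaschkeGroup

set_option autoImplicit false
open Cfsg

namespace Cfsg.Agent.S0660

open Pointwise
open Cfsg.Agent.Lib.Helper20
open scoped IsMulCommutative

/-- Under a coprime action on an abelian group, an invariant subgroup that is complemented admits an invariant complement. -/
theorem result {G : Type*} [Group G] [Finite G] (V A U : Subgroup G) (hVab : IsMulCommutative V) (hAV : A ≤ Subgroup.normalizer (V : Set G)) (hcop : (Nat.card A).Coprime (Nat.card V)) (hUV : U ≤ V) (hAU : A ≤ Subgroup.normalizer (U : Set G)) (W : Subgroup G) (hWV : W ≤ V) (hUW : U ⊓ W = ⊥) (hUWV : U ⊔ W = V) : ∃ W' : Subgroup G, W' ≤ V ∧ A ≤ Subgroup.normalizer (W' : Set G) ∧ U ⊓ W' = ⊥ ∧ U ⊔ W' = V := by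
  classical
  haveI := hVab
  let φ : ↥A → (↥V →* ↥V) := fun a =>
    MulDistribMulAction.toMonoidHom V (⟨a, hAV a.2⟩ : Subgroup.normalizer (V : Set G))
  have hφ : ∀ (a : ↥A) (v : ↥V), ((φ a v : ↥V) : G) = a * v * (a : G)⁻¹ := fun a v => rfl
  have hφ1 : φ 1 = MonoidHom.id ↥V := by
    ext v
    rw [hφ]; simp
  have hφmul : ∀ a b, φ (a * b) = (φ a).comp (φ b) := by
    intro a b
    ext v
    rw [MonoidHom.comp_apply, hφ, hφ, hφ]
    simp [mul_assoc]
  have hU' : ∀ a, ∀ x ∈ U.subgroupOf V, φ a x ∈ U.subgroupOf V := by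
    intro a x hx
    rw [Subgroup.mem_subgroupOf] at hx ⊢
    rw [hφ]
    exact (Subgroup.mem_normalizer_iff.mp (hAU a.2) _).mp hx
  have hinf : U.subgroupOf V ⊓ W.subgroupOf V = ⊥ := by
    rw [eq_bot_iff]
    rintro x ⟨hx1, hx2⟩
    have hx1' : (x : G) ∈ U := Subgroup.mem_subgroupOf.mp hx1
    have hx2' : (x : G) ∈ W := Subgroup.mem_subgroupOf.mp hx2
    have : (x : G) ∈ U ⊓ W := ⟨hx1', hx2'⟩
    rw [hUW, Subgroup.mem_bot] at this
    rw [Subgroup.mem_bot]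
    exact Subtype.ext this
  have hsup : U.subgroupOf V ⊔ W.subgroupOf V = ⊤ := by
    rw [← Subgroup.subgroupOf_sup hUV hWV, hUWV, Subgroup.subgroupOf_self]
  obtain ⟨W₁, hW₁inv, hW₁inf, hW₁sup⟩ :=
    exists_invariant_compl φ hφ1 hφmul hcop (U.subgroupOf V) (W.subgroupOf V) hU' hinf hsup
  refine ⟨W₁.map V.subtype, Subgroup.map_subtype_le _, ?_, ?_, ?_⟩
  · intro a ha
    apply Cfsg.Agent.Lib.Helper1.mem_normalizer_of_forall_conj_mem
    rintro _ ⟨w, hw, rfl⟩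
    exact ⟨φ ⟨a, ha⟩ w, hW₁inv ⟨a, ha⟩ w hw, rfl⟩
  · rw [eq_bot_iff]
    rintro x ⟨hxU, ⟨w, hw, rfl⟩⟩
    have : w ∈ U.subgroupOf V ⊓ W₁ := ⟨Subgroup.mem_subgroupOf.mpr hxU, hw⟩
    rw [hW₁inf, Subgroup.mem_bot] at this
    rw [this]; exact Subgroup.one_mem _
  · have h1 := congrArg (Subgroup.map V.subtype) hW₁sup
    rw [Subgroup.map_sup, Subgroup.map_subgroupOf_eq_of_le hUV, ← MonoidHom.range_eq_map,
      Subgroup.range_subtype] at h1
    exact h1

end Cfsg.Agent.S0660
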