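import Cfsg.Statements.S0661
import Cfsg.Agent.Lib.Helper9.PConstrainedSub

set_option autoImplicit false
open Cfsg

namespace Cfsg.Agent.S0661

/-- If, modulo the largest normal subgroup of order prime to p, the largest normal p-subgroup contains its centralizer, then for every p-subgroup P the p'-core of N_G(P) is just O_p'(G) ∩ N_G(P). -/
theorem result {G : Type*} [Group G] [Finite G] {p : ℕ} [Fact p.Prime] (hc : Subgroup.centralizer (Cfsg.pCore p (G ⧸ Cfsg.pPrimeCore p G) : Set (G ⧸ Cfsg.pPrimeCore p G)) ≤ Cfsg.pCore p (G ⧸ Cfsg.pPrimeCore p G)) (P : Subgroup G) (hP : IsPGroup p P) : (Cfsg.pPrimeCore p ↥(Subgroup.normalizer (P : Set G))).map (Subgroup.normalizer (P : Set G)).subtype = Cfsg.pPrimeCore p G ⊓ Subgroup.normalizer (P : Set G) := by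
  have hF : Cfsg.fittingSubgroup (G ⧸ Cfsg.pPrimeCore p G) =
      Cfsg.pCore p (G ⧸ Cfsg.pPrimeCore p G) :=
    Cfsg.Agent.Lib.Helper9.fittingSubgroup_eq_pCore_of_pPrimeCore_eq_bot p
      (Cfsg.Agent.Lib.Helper9.pPrimeCore_quotient_eq_bot p)
  have hsol : Group.IsSolvable ↥(Cfsg.pCore p (G ⧸ Cfsg.pPrimeCore p G)) := by
    have := (Cfsg.Agent.Lib.Helper1.pCore_isPGroup p (G ⧸ Cfsg.pPrimeCore p G)).isNilpotent
    infer_instance
  have hle : Cfsg.layer (G ⧸ Cfsg.pPrimeCore p G) ≤ Cfsg.pCore p (G ⧸ Cfsg.pPrimeCore p G) := by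
    refine le_trans ?_ hc
    have := Cfsg.Agent.Lib.Helper9.layer_le_centralizer_fittingSubgroup
      (G := G ⧸ Cfsg.pPrimeCore p G)
    rwa [hF] at this
  have hL : Cfsg.pLayer p G = ⊥ :=
    (Cfsg.Agent.Lib.Helper9.pLayer_eq_bot_iff p).mpr
      (Cfsg.Agent.Lib.Helper9.layer_eq_bot_of_le_isSolvable hsol hle)
  rw [Cfsg.Agent.Lib.Helper9.pPrimeCore_normalizer_eq_of_pLayer_eq_bot hL hP,
    Subgroup.subgroupOf_map_subtype]

end Cfsg.Agent.S0661
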