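import Cfsg.Statements.S0662
import Mathlib
import Cfsg.Agent.Lib.Helper1.MaxClassTwo
import Cfsg.Agent.Lib.Helper20.PrimeSubgroups

set_option autoImplicit false
open Cfsg

namespace Cfsg.Agent.S0662

section Aux

open Subgroup
open scoped commutatorElement

variable {G : Type*} [Group G] [Finite G] {p : ℕ} [hp : Fact p.Prime]

lemma gamma_normal (i : ℕ) : ((⊤ : Subgroup G).lowerCentralSeries i).Normal :=
  Subgroup.normal_of_characteristic _

/-- strictness of the lower central series below the class -/
lemma gamma_strict (c : ℕ) (hcl : Group.nilpotencyClass G = c) [Group.IsNilpotent G]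
    (i : ℕ) (hi : i < c) :
    (⊤ : Subgroup G).lowerCentralSeries (i + 1) < (⊤ : Subgroup G).lowerCentralSeries i := by
  refine lt_of_le_of_ne (Subgroup.lowerCentralSeries_antitone _ (Nat.le_succ i)) ?_
  intro heq
  have hconst : ∀ j, i ≤ j → (⊤ : Subgroup G).lowerCentralSeries j =
      (⊤ : Subgroup G).lowerCentralSeries i := by
    intro j hj
    induction j, hj using Nat.le_induction with
    | base => rfl
    | succ j hj ih =>
      rw [Subgroup.lowerCentralSeries_succ, ih, ← Subgroup.lowerCentralSeries_succ, heq]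
  have hbot : (⊤ : Subgroup G).lowerCentralSeries c = ⊥ := by
    rw [← hcl]; exact Subgroup.lowerCentralSeries_nilpotencyClass
  have : (⊤ : Subgroup G).lowerCentralSeries i = ⊥ := by
    rw [← hconst c hi.le, hbot]
  have := Subgroup.lowerCentralSeries_eq_bot_iff_nilpotencyClass_le.mp this
  omega


/-- if `G ⧸ G'` is cyclic then `γ 1 ≤ γ 2` -/
lemma gamma_one_le_two (hcyc : IsCyclic (G ⧸ (⊤ : Subgroup G).lowerCentralSeries 1)) :
    (⊤ : Subgroup G).lowerCentralSeries 1 ≤ (⊤ : Subgroup G).lowerCentralSeries 2 := by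
  have hn1 : ((⊤ : Subgroup G).lowerCentralSeries 1).Normal := gamma_normal 1
  have hn2 : ((⊤ : Subgroup G).lowerCentralSeries 2).Normal := gamma_normal 2
  have hle : (⊤ : Subgroup G).lowerCentralSeries 2 ≤ (⊤ : Subgroup G).lowerCentralSeries 1 :=
    Subgroup.lowerCentralSeries_antitone _ (by norm_num)
  set π := QuotientGroup.mk' ((⊤ : Subgroup G).lowerCentralSeries 2) with hπ
  have hπs : Function.Surjective π := QuotientGroup.mk'_surjective _
  have hπ1 : ∀ x : G, π x = 1 ↔ x ∈ (⊤ : Subgroup G).lowerCentralSeries 2 := fun x =>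
    QuotientGroup.eq_one_iff x
  let f : G ⧸ (⊤ : Subgroup G).lowerCentralSeries 2 →* G ⧸ (⊤ : Subgroup G).lowerCentralSeries 1 :=
    QuotientGroup.map _ _ (MonoidHom.id G) (by simpa using hle)
  have hfπ : ∀ x : G, f (π x) = QuotientGroup.mk' ((⊤ : Subgroup G).lowerCentralSeries 1) x :=
    fun x => rfl
  have hf : f.ker ≤ Subgroup.center (G ⧸ (⊤ : Subgroup G).lowerCentralSeries 2) := by
    intro q hq
    obtain ⟨x, rfl⟩ := hπs q
    rw [MonoidHom.mem_ker, hfπ] at hq
    have hx : x ∈ (⊤ : Subgroup G).lowerCentralSeries 1 := (QuotientGroup.eq_one_iff x).mp hq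
    rw [Subgroup.mem_center_iff]
    intro r
    obtain ⟨g, rfl⟩ := hπs r
    have hc : ⁅x, g⁆ ∈ (⊤ : Subgroup G).lowerCentralSeries 2 := by
      rw [Subgroup.lowerCentralSeries_succ]
      exact Subgroup.commutator_mem_commutator hx (Subgroup.mem_top g)
    have h1 : π ⁅x, g⁆ = 1 := (hπ1 _).mpr hc
    rw [commutatorElement_def, map_mul, map_mul, map_mul, map_inv, map_inv] at h1
    calc π g * π x = (π x * π g * (π x)⁻¹ * (π g)⁻¹)⁻¹ * (π x * π g) := by group
      _ = π x * π g := by rw [h1, inv_one, one_mul]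
  have hcomm := (f.isMulCommutative_of_isCyclic_of_ker_le_center hf).is_comm.comm
  rw [Subgroup.top_lowerCentralSeries_one, _root_.commutator_def, Subgroup.commutator_le]
  intro g _ h _
  rw [← hπ1, commutatorElement_def, map_mul, map_mul, map_mul, map_inv, map_inv, hcomm (π g) (π h)]
  group


/-- the orders of the terms of the lower central series of a `p`-group of maximal class -/
lemma card_gamma (n : ℕ) (hG : Nat.card G = p ^ n) (hcl : Group.nilpotencyClass G = n - 1)
    (hn : 3 ≤ n) : ∀ i, 1 ≤ i → i ≤ n - 1 →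
      Nat.card ((⊤ : Subgroup G).lowerCentralSeries i) = p ^ (n - 1 - i) := by
  have hPG : IsPGroup p G := IsPGroup.of_card hG
  have hnil : Group.IsNilpotent G := hPG.isNilpotent
  have hexp : ∀ i, ∃ k, Nat.card ((⊤ : Subgroup G).lowerCentralSeries i) = p ^ k :=
    fun i => (hPG.to_subgroup _).exists_card_eq
  choose a ha using hexp
  have hp1 : 1 < p := hp.out.one_lt
  have ha0 : a 0 = n := by
    have h1 := ha 0
    rw [Subgroup.lowerCentralSeries_zero, Subgroup.card_top, hG] at h1
    exact (Nat.pow_right_injective hp1 h1).symm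
  have hbot : (⊤ : Subgroup G).lowerCentralSeries (n - 1) = ⊥ := by
    rw [← hcl]; exact Subgroup.lowerCentralSeries_nilpotencyClass
  have halast : a (n - 1) = 0 := by
    have h1 := ha (n - 1)
    rw [hbot, Subgroup.card_bot] at h1
    by_contra h0
    have : 1 < p ^ a (n - 1) := Nat.one_lt_pow h0 hp1
    omega
  have hstrict : ∀ i, i < n - 1 → a (i + 1) < a i := by
    intro i hi
    have hlt := gamma_strict (n - 1) hcl i hi
    by_contra hcon
    push Not at hcon
    have hle : Nat.card ((⊤ : Subgroup G).lowerCentralSeries i) ≤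
        Nat.card ((⊤ : Subgroup G).lowerCentralSeries (i + 1)) := by
      rw [ha i, ha (i + 1)]
      exact Nat.pow_le_pow_right hp.out.pos hcon
    exact hlt.ne (Subgroup.eq_of_le_of_card_ge hlt.le hle)
  have hlower : ∀ k, k ≤ n - 1 → k ≤ a (n - 1 - k) := by
    intro k
    induction k with
    | zero => intro _; exact Nat.zero_le _
    | succ k ih =>
      intro hk
      have h1 := ih (by omega)
      have h2 := hstrict (n - 1 - (k + 1)) (by omega)
      have h3 : n - 1 - (k + 1) + 1 = n - 1 - k := by omega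
      rw [h3] at h2
      omega
  have hupper1 : a 1 ≤ n - 2 := by
    by_contra hcon
    push Not at hcon
    have h1 := hstrict 0 (by omega)
    rw [ha0, zero_add] at h1
    have ha1 : a 1 = n - 1 := by omega
    have hn1 : ((⊤ : Subgroup G).lowerCentralSeries 1).Normal := gamma_normal 1
    have hidx : Nat.card (G ⧸ (⊤ : Subgroup G).lowerCentralSeries 1) = p := by
      have h2 := Subgroup.card_eq_card_quotient_mul_card_subgroup
        ((⊤ : Subgroup G).lowerCentralSeries 1)
      rw [hG, ha 1, ha1] at h2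
      have h3 : p ^ n = p * p ^ (n - 1) := by rw [← pow_succ']; congr 1; omega
      rw [h3] at h2
      exact (Nat.eq_of_mul_eq_mul_right (pow_pos hp.out.pos _) h2).symm
    have hcyc : IsCyclic (G ⧸ (⊤ : Subgroup G).lowerCentralSeries 1) := isCyclic_of_prime_card hidx
    have h4 := gamma_one_le_two hcyc
    have h5 := gamma_strict (n - 1) hcl 1 (by omega)
    exact absurd h4 (not_le_of_gt h5)
  have hupper : ∀ i, 1 ≤ i → i ≤ n - 1 → a i + i ≤ n - 1 := by
    intro i hi
    induction i, hi using Nat.le_induction with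
    | base => intro _; omega
    | succ i hi ih =>
      intro hi'
      have h1 := ih (by omega)
      have h2 := hstrict i (by omega)
      omega
  intro i hi hi'
  have h1 := hupper i hi hi'
  have h2 := hlower (n - 1 - i) (by omega)
  have h3 : n - 1 - (n - 1 - i) = i := by omega
  rw [h3] at h2
  rw [ha i]
  congr 1
  omega


lemma part1 (n : ℕ) (hG : Nat.card G = p ^ n) (hcl : Group.nilpotencyClass G = n - 1)
    (hn : 3 ≤ n) (N : Subgroup G) [hN : N.Normal] (r : ℕ) (hr : 2 ≤ r) (hidx : N.index = p ^ r) :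
    N = (⊤ : Subgroup G).lowerCentralSeries (r - 1) := by
  have hPG : IsPGroup p G := IsPGroup.of_card hG
  have hnil : Group.IsNilpotent G := hPG.isNilpotent
  have hp1 : 1 < p := hp.out.one_lt
  have hmul := N.card_mul_index
  rw [hG, hidx] at hmul
  have hrn : r ≤ n := by
    have : p ^ r ∣ p ^ n := ⟨Nat.card N, by rw [← hmul, mul_comm]⟩
    exact (Nat.pow_dvd_pow_iff_le_right hp1).mp this
  have hNcard : Nat.card N = p ^ (n - r) := by
    have h1 : p ^ n = p ^ (n - r) * p ^ r := by rw [← pow_add]; congr 1; omega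
    rw [h1] at hmul
    exact Nat.eq_of_mul_eq_mul_right (pow_pos hp.out.pos _) hmul
  -- the quotient has class at most r - 1
  have hQcard : Nat.card (G ⧸ N) = p ^ r := by rw [← hidx]; rfl
  have hQcl := Cfsg.Agent.Lib.Helper1.nilpotencyClass_le_of_card_pow (p := p) r (G ⧸ N) hQcard
  rw [max_eq_right (by omega : 1 ≤ r - 1)] at hQcl
  have hQnil : Group.IsNilpotent (G ⧸ N) := (IsPGroup.of_card hQcard).isNilpotent
  have hQbot : (⊤ : Subgroup (G ⧸ N)).lowerCentralSeries (r - 1) = ⊥ :=
    Subgroup.lowerCentralSeries_eq_bot_iff_nilpotencyClass_le.mpr hQcl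
  have hmap : ((⊤ : Subgroup G).lowerCentralSeries (r - 1)).map (QuotientGroup.mk' N) = ⊥ := by
    rw [Subgroup.map_lowerCentralSeries, Subgroup.map_top_of_surjective _
      (QuotientGroup.mk'_surjective N), hQbot]
  have hle : (⊤ : Subgroup G).lowerCentralSeries (r - 1) ≤ N := by
    intro x hx
    have : QuotientGroup.mk' N x ∈
        ((⊤ : Subgroup G).lowerCentralSeries (r - 1)).map (QuotientGroup.mk' N) := ⟨x, hx, rfl⟩
    rw [hmap, Subgroup.mem_bot] at this
    exact (QuotientGroup.eq_one_iff x).mp this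
  have hγ := card_gamma n hG hcl hn (r - 1) (by omega) (by omega)
  symm
  apply Subgroup.eq_of_le_of_card_ge hle
  rw [hNcard, hγ]
  apply Nat.pow_le_pow_right hp.out.pos
  omega


lemma part2 (n : ℕ) (hG : Nat.card G = p ^ n) (hcl : Group.nilpotencyClass G = n - 1)
    (hn : 3 ≤ n) : Nat.card {N : Subgroup G // N.Normal ∧ N.index = p} = p + 1 := by
  have hPG : IsPGroup p G := IsPGroup.of_card hG
  have hnil : Group.IsNilpotent G := hPG.isNilpotent
  have hp1 : 1 < p := hp.out.one_lt
  set C := (⊤ : Subgroup G).lowerCentralSeries 1 with hC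
  have hCn : C.Normal := gamma_normal 1
  have hCcard : Nat.card C = p ^ (n - 2) := by
    have := card_gamma n hG hcl hn 1 le_rfl (by omega)
    rw [this]; congr 1
  set π := QuotientGroup.mk' C with hπ
  have hπs : Function.Surjective π := QuotientGroup.mk'_surjective C
  have hAcard : Nat.card (G ⧸ C) = p ^ 2 := by
    have h2 := Subgroup.card_eq_card_quotient_mul_card_subgroup C
    rw [hG, hCcard] at h2
    have h3 : p ^ n = p ^ 2 * p ^ (n - 2) := by rw [← pow_add]; congr 1; omega
    rw [h3] at h2
    exact (Nat.eq_of_mul_eq_mul_right (pow_pos hp.out.pos _) h2).symm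
  have hncyc : ¬ IsCyclic (G ⧸ C) := by
    intro hcyc
    have h4 := gamma_one_le_two hcyc
    have h5 := gamma_strict (n - 1) hcl 1 (by omega)
    exact absurd h4 (not_le_of_gt h5)
  have hexp : ∀ x : G ⧸ C, x ^ p = 1 := by
    intro x
    have h1 : orderOf x ∣ p ^ 2 := by rw [← hAcard]; exact orderOf_dvd_natCard x
    obtain ⟨j, hj, hjx⟩ := (Nat.dvd_prime_pow hp.out).mp h1
    have hj2 : j ≠ 2 := by
      intro h
      apply hncyc
      apply isCyclic_of_orderOf_eq_card x
      rw [hjx, h, hAcard]
    have hj1 : j ≤ 1 := by omega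
    rw [← orderOf_dvd_iff_pow_eq_one, hjx]
    calc p ^ j ∣ p ^ 1 := pow_dvd_pow p hj1
      _ = p := pow_one p
  have hcount := Cfsg.Agent.Lib.Helper20.card_prime_subgroups_of_card_sq hp.out hAcard hexp
  rw [← hcount]
  -- commutativity of the quotient
  have hAcomm : ∀ x y : G ⧸ C, x * y = y * x := by
    intro x y
    obtain ⟨g, rfl⟩ := hπs x
    obtain ⟨h, rfl⟩ := hπs y
    have hc : ⁅g, h⁆ ∈ C := by
      rw [hC, Subgroup.top_lowerCentralSeries_one, _root_.commutator_def]
      exact Subgroup.commutator_mem_commutator (Subgroup.mem_top g) (Subgroup.mem_top h)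
    have h1 : π ⁅g, h⁆ = 1 := (QuotientGroup.eq_one_iff _).mpr hc
    rw [commutatorElement_def, map_mul, map_mul, map_mul, map_inv, map_inv] at h1
    calc π g * π h = (π g * π h * (π g)⁻¹ * (π h)⁻¹) * (π h * π g) := by group
      _ = π h * π g := by rw [h1, one_mul]
  -- normal subgroups of index p contain C
  have hCle : ∀ N : Subgroup G, N.Normal → N.index = p → C ≤ N := by
    intro N hN hidx
    have hQ : Nat.card (G ⧸ N) = p := by rw [← hidx]; rfl
    have hcyc : IsCyclic (G ⧸ N) := isCyclic_of_prime_card hQ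
    rw [hC, Subgroup.top_lowerCentralSeries_one, _root_.commutator_def, Subgroup.commutator_le]
    intro g _ h _
    rw [← QuotientGroup.eq_one_iff, commutatorElement_def]
    have hcomm := (IsCyclic.commGroup (α := G ⧸ N)).mul_comm
      (QuotientGroup.mk' N g) (QuotientGroup.mk' N h)
    change QuotientGroup.mk' N (g * h * g⁻¹ * h⁻¹) = 1
    rw [map_mul, map_mul, map_mul, map_inv, map_inv, hcomm]
    group
  symm
  let F : {K : Subgroup (G ⧸ C) // Nat.card K = p} → {N : Subgroup G // N.Normal ∧ N.index = p} :=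
    fun K => ⟨K.1.comap π, by
      have hKn : K.1.Normal := ⟨fun x hx y => by
        rw [hAcomm y x, mul_assoc, mul_inv_cancel, mul_one]; exact hx⟩
      refine ⟨hKn.comap π, ?_⟩
      rw [Subgroup.index_comap_of_surjective _ hπs]
      have h1 := K.1.card_mul_index
      rw [K.2, hAcard, pow_two] at h1
      exact Nat.eq_of_mul_eq_mul_left hp.out.pos h1⟩
  apply Nat.card_congr
  apply Equiv.ofBijective F
  constructor
  · intro K K' hKK
    apply Subtype.ext
    have : K.1.comap π = K'.1.comap π := congrArg Subtype.val hKK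
    exact Subgroup.comap_injective hπs this
  · rintro ⟨N, hN, hidx⟩
    have hker : π.ker ≤ N := by rw [hπ, QuotientGroup.ker_mk']; exact hCle N hN hidx
    have hcm : (N.map π).comap π = N := Subgroup.comap_map_eq_self hker
    refine ⟨⟨N.map π, ?_⟩, ?_⟩
    · have h1 : (N.map π).index = p := by
        rw [← Subgroup.index_comap_of_surjective _ hπs, hcm, hidx]
      have h2 := (N.map π).card_mul_index
      rw [h1, hAcard, pow_two] at h2
      exact Nat.eq_of_mul_eq_mul_right hp.out.pos h2
    · apply Subtype.ext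
      exact hcm


end Aux

/-- In a p-group of maximal class of order at least p³ the normal subgroups of index at least p² are exactly the terms of the lower central series, and there are exactly p + 1 normal subgroups of index p. -/
theorem result {G : Type*} [Group G] [Finite G] {p : ℕ} [Fact p.Prime] (n : ℕ) (hG : Nat.card G = p ^ n) (hcl : Group.nilpotencyClass G = n - 1) (hn : 3 ≤ n) : (∀ (N : Subgroup G) [N.Normal] (r : ℕ), 2 ≤ r → N.index = p ^ r → N = (⊤ : Subgroup G).lowerCentralSeries (r - 1)) ∧ Nat.card {N : Subgroup G // N.Normal ∧ N.index = p} = p + 1 := by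
  exact ⟨fun N _ r hr hidx => part1 n hG hcl hn N r hr hidx, part2 n hG hcl hn⟩

end Cfsg.Agent.S0662
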