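import Cfsg.Statements.S0663
import Cfsg.Agent.Lib.Helper1.NilpotentAction
import Cfsg.Agent.Lib.Helper4.Basic
import Cfsg.Agent.Lib.Helper16.Comm
-- import your own Cfsg.Agent.* helpers here

set_option autoImplicit false
open Cfsg

namespace Cfsg.Agent.S0663

variable {L : Type*} [Group L] [Finite L] {p : ℕ} [Fact p.Prime]

theorem card_lt_of_lt {A B : Subgroup L} (h : A < B) : Nat.card A < Nat.card B := by
  rcases lt_or_ge (Nat.card A) (Nat.card B) with h1 | h1
  · exact h1
  · exact absurd (Subgroup.eq_of_le_of_card_ge h.le h1) h.ne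

theorem exp_lt_of_lt {A B : Subgroup L} (h : A < B) {a b : ℕ} (ha : Nat.card A = p ^ a)
    (hb : Nat.card B = p ^ b) : a < b := by
  have := card_lt_of_lt h
  rw [ha, hb] at this
  exact (Nat.pow_lt_pow_iff_right (Fact.out : p.Prime).one_lt).mp this

theorem exp_le_of_le {A B : Subgroup L} (h : A ≤ B) {a b : ℕ} (ha : Nat.card A = p ^ a)
    (hb : Nat.card B = p ^ b) : a ≤ b := by
  have := Subgroup.card_le_of_le h
  rw [ha, hb] at this
  exact (Nat.pow_le_pow_iff_right (Fact.out : p.Prime).one_lt).mp this

theorem eq_bot_of_card_pow_zero {A : Subgroup L} (h : Nat.card A = p ^ 0) : A = ⊥ := by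
  rw [pow_zero] at h
  exact Subgroup.card_eq_one.mp h

/-- basic facts on the chain -/
theorem chain_basic (N G : Subgroup L) (hGN : G ≤ Subgroup.normalizer (N : Set L)) :
    ∀ i, Cfsg.iterCommutator N G i ≤ N ∧
      G ≤ Subgroup.normalizer (Cfsg.iterCommutator N G i : Set L) := by
  intro i
  induction i with
  | zero => exact ⟨le_rfl, hGN⟩
  | succ i ih =>
    refine ⟨?_, ?_⟩
    · exact (Cfsg.Agent.Lib.Helper1.commutator_le_of_le_normalizer ih.2).trans ih.1
    · exact Cfsg.Agent.Lib.Helper1.le_normalizer_commutator_right _ _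

theorem chain_succ_le (N G : Subgroup L) (hGN : G ≤ Subgroup.normalizer (N : Set L)) (i : ℕ) :
    Cfsg.iterCommutator N G (i + 1) ≤ Cfsg.iterCommutator N G i :=
  Cfsg.Agent.Lib.Helper1.commutator_le_of_le_normalizer (chain_basic N G hGN i).2

theorem chain_succ_lt (N G : Subgroup L) (hN : IsPGroup p N) (hG : IsPGroup p G)
    (hGN : G ≤ Subgroup.normalizer (N : Set L)) (i : ℕ)
    (hne : Cfsg.iterCommutator N G i ≠ ⊥) :
    Cfsg.iterCommutator N G (i + 1) < Cfsg.iterCommutator N G i :=
  Cfsg.Agent.Lib.Helper1.IsPGroup.commutator_lt (hN.to_le (chain_basic N G hGN i).1) hG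
    (chain_basic N G hGN i).2 hne


theorem arith_chain (e : ℕ → ℕ) (n : ℕ) (h0 : e 0 = n) (hle : ∀ i, e (i + 1) ≤ e i)
    (hlt : ∀ i, e i ≠ 0 → e (i + 1) < e i) (hlast : e (n - 1) ≠ 0 ∨ n = 0) :
    ∀ i ≤ n, e i = n - i := by
  have up : ∀ i, e i ≤ n - i := by
    intro i
    induction i with
    | zero => omega
    | succ i ih =>
      by_cases h : e i = 0
      · have := hle i; omega
      · have := hlt i h; omega
  rcases hlast with hlast | hlast
  · have down : ∀ k, k ≤ n - 1 → k + 1 ≤ e (n - 1 - k) := by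
      intro k
      induction k with
      | zero => intro _; simp only [Nat.sub_zero]; omega
      | succ k ih =>
        intro hk
        have h1 := ih (by omega)
        have h2 : n - 1 - k = (n - 1 - (k + 1)) + 1 := by omega
        rw [h2] at h1
        have h3 : e (n - 1 - (k + 1)) ≠ 0 := by
          intro h0'
          have := hle (n - 1 - (k + 1)); omega
        have := hlt _ h3; omega
    intro i hi
    rcases Nat.lt_or_ge i n with h | h
    · have h1 := down (n - 1 - i) (by omega)
      have h2 : n - 1 - (n - 1 - i) = i := by omega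
      rw [h2] at h1
      have := up i; omega
    · have := up i; omega
  · subst hlast
    intro i hi
    have := up i; omega

/-- uniserial implies the cardinality condition -/
theorem condC_of_uniserial (N G : Subgroup L)
    (hGN : G ≤ Subgroup.normalizer (N : Set L)) (n : ℕ) (hn : Nat.card N = p ^ n)
    (hUS : ∀ H : Subgroup L, H ≤ N → G ≤ Subgroup.normalizer (H : Set L) → H ≠ ⊥ →
      (⁅H, G⁆).relIndex H = p) :
    ∀ i ≤ n, Nat.card (Cfsg.iterCommutator N G i) = p ^ (n - i) := by
  have hp : p.Prime := Fact.out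
  intro i
  induction i with
  | zero => intro _; exact hn
  | succ i ih =>
    intro hi
    have h1 := ih (by omega)
    have hne : Cfsg.iterCommutator N G i ≠ ⊥ := by
      intro h0
      rw [h0, Subgroup.card_bot] at h1
      have : 1 < p ^ (n - i) := Nat.one_lt_pow (by omega) hp.one_lt
      omega
    have h2 := hUS _ (chain_basic N G hGN i).1 (chain_basic N G hGN i).2 hne
    have h3 := Cfsg.Agent.Lib.Helper4.card_mul_relIndex (chain_succ_le N G hGN i)
    have h4 : (Cfsg.iterCommutator N G (i + 1)).relIndex (Cfsg.iterCommutator N G i) = p := h2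
    rw [h4, h1] at h3
    have h5 : n - i = (n - (i + 1)) + 1 := by omega
    rw [h5, pow_succ] at h3
    exact Nat.eq_of_mul_eq_mul_right hp.pos h3

/-- the last-term condition implies the cardinality condition -/
theorem condC_of_last (N G : Subgroup L) (hN : IsPGroup p N) (hG : IsPGroup p G)
    (hGN : G ≤ Subgroup.normalizer (N : Set L)) (n : ℕ) (hn : Nat.card N = p ^ n)
    (hlast : Cfsg.iterCommutator N G (n - 1) ≠ ⊥ ∨ n = 0) :
    ∀ i ≤ n, Nat.card (Cfsg.iterCommutator N G i) = p ^ (n - i) := by
  have hp : p.Prime := Fact.out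
  have hex : ∀ i, ∃ e, Nat.card (Cfsg.iterCommutator N G i) = p ^ e := fun i =>
    IsPGroup.iff_card.mp (hN.to_le (chain_basic N G hGN i).1)
  choose e he using hex
  have hbot : ∀ i, e i = 0 → Cfsg.iterCommutator N G i = ⊥ := by
    intro i hi
    have := he i
    rw [hi] at this
    exact eq_bot_of_card_pow_zero this
  have h0 : e 0 = n := by
    have h1 := he 0
    have h2 : Nat.card (Cfsg.iterCommutator N G 0) = p ^ n := hn
    rw [h2] at h1
    exact ((Nat.pow_right_injective hp.two_le) h1).symm
  have hle : ∀ i, e (i + 1) ≤ e i := fun i =>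
    exp_le_of_le (chain_succ_le N G hGN i) (he (i + 1)) (he i)
  have hlt : ∀ i, e i ≠ 0 → e (i + 1) < e i := by
    intro i hi
    have hne : Cfsg.iterCommutator N G i ≠ ⊥ := by
      intro h0'
      have := he i
      rw [h0', Subgroup.card_bot] at this
      apply hi
      by_contra hne
      have : 1 < p ^ (e i) := Nat.one_lt_pow hne hp.one_lt
      omega
    exact exp_lt_of_lt (chain_succ_lt N G hN hG hGN i hne) (he (i + 1)) (he i)
  have hlast' : e (n - 1) ≠ 0 ∨ n = 0 := by
    rcases hlast with h | h
    · left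
      intro h0'
      exact h (hbot _ h0')
    · right; exact h
  intro i hi
  rw [he i, arith_chain e n h0 hle hlt hlast' i hi]

/-- under the cardinality condition all terms are normalized by `N` -/
theorem normal_of_condC (N G : Subgroup L) (hN : IsPGroup p N) (hG : IsPGroup p G)
    (hGN : G ≤ Subgroup.normalizer (N : Set L)) (n : ℕ)
    (hC : ∀ i ≤ n, Nat.card (Cfsg.iterCommutator N G i) = p ^ (n - i)) :
    ∀ i ≤ n, N ≤ Subgroup.normalizer (Cfsg.iterCommutator N G i : Set L) := by
  have hp : p.Prime := Fact.out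
  intro i
  induction i with
  | zero => intro _; exact Subgroup.le_normalizer
  | succ i ih =>
    intro hi
    have ih' := ih (by omega)
    have hP : IsPGroup p (N ⊔ G : Subgroup L) := IsPGroup.to_sup_of_normal_left' hN hG hGN
    have hPX : N ⊔ G ≤ Subgroup.normalizer (Cfsg.iterCommutator N G i : Set L) :=
      sup_le ih' (chain_basic N G hGN i).2
    have hX : IsPGroup p (Cfsg.iterCommutator N G i) := hN.to_le (chain_basic N G hGN i).1
    have hcard := hC i (by omega)
    have hne : Cfsg.iterCommutator N G i ≠ ⊥ := by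
      intro h0
      rw [h0, Subgroup.card_bot] at hcard
      have : 1 < p ^ (n - i) := Nat.one_lt_pow (by omega) hp.one_lt
      omega
    have hD := Cfsg.Agent.Lib.Helper1.IsPGroup.commutator_lt hX hP hPX hne
    have hle : Cfsg.iterCommutator N G (i + 1) ≤ ⁅Cfsg.iterCommutator N G i, N ⊔ G⁆ :=
      Subgroup.commutator_mono le_rfl le_sup_right
    obtain ⟨d, hd⟩ := IsPGroup.iff_card.mp (hX.to_le hD.le)
    have h1 := exp_lt_of_lt hD hd hcard
    have h2 := exp_le_of_le hle (hC (i + 1) hi) hd
    have h3 : d = n - (i + 1) := by omega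
    have heq : Cfsg.iterCommutator N G (i + 1) = ⁅Cfsg.iterCommutator N G i, N ⊔ G⁆ := by
      apply Subgroup.eq_of_le_of_card_ge hle
      rw [hd, h3, hC (i + 1) hi]
    rw [heq]
    exact le_sup_left.trans (Cfsg.Agent.Lib.Helper1.le_normalizer_commutator_right _ _)


/-- classification step: an invariant subgroup inside `C_i` but not inside `C_{i+1}` is `C_i` -/
theorem eq_of_condC (N G : Subgroup L) (hN : IsPGroup p N)
    (hGN : G ≤ Subgroup.normalizer (N : Set L)) (n : ℕ)
    (hC : ∀ i ≤ n, Nat.card (Cfsg.iterCommutator N G i) = p ^ (n - i))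
    (hNorm : ∀ i ≤ n, N ≤ Subgroup.normalizer (Cfsg.iterCommutator N G i : Set L)) :
    ∀ k i, i + k = n → ∀ H : Subgroup L, H ≤ N → G ≤ Subgroup.normalizer (H : Set L) →
      H ≤ Cfsg.iterCommutator N G i → ¬ H ≤ Cfsg.iterCommutator N G (i + 1) →
      H = Cfsg.iterCommutator N G i := by
  have hp : p.Prime := Fact.out
  intro k
  induction k with
  | zero =>
    intro i hi H _ _ hHi _
    have h1 := hC i (by omega)
    have h2 : n - i = 0 := by omega
    rw [h2] at h1
    have h3 := eq_bot_of_card_pow_zero h1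
    rw [h3] at hHi ⊢
    exact le_bot_iff.mp hHi
  | succ k ih =>
    intro i hi H hHN hGH hHi hHi1
    have hHG : ⁅H, G⁆ ≤ H := Cfsg.Agent.Lib.Helper1.commutator_le_of_le_normalizer hGH
    have hHG1 : ⁅H, G⁆ ≤ Cfsg.iterCommutator N G (i + 1) := Subgroup.commutator_mono hHi le_rfl
    have hsub : Cfsg.iterCommutator N G (i + 1) ≤ H := by
      by_cases hk : k = 0
      · have h1 := hC (i + 1) (by omega)
        have h2 : n - (i + 1) = 0 := by omega
        rw [h2] at h1
        rw [eq_bot_of_card_pow_zero h1]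
        exact bot_le
      · have hi2 : i + 2 ≤ n := by omega
        have hnot : ¬ ⁅H, G⁆ ≤ Cfsg.iterCommutator N G (i + 1 + 1) := by
          intro hcon
          have hlt : Cfsg.iterCommutator N G (i + 1) < H ⊔ Cfsg.iterCommutator N G (i + 1) := by
            refine lt_of_le_of_ne le_sup_right ?_
            intro heq
            apply hHi1
            rw [heq]
            exact le_sup_left
          have hle : H ⊔ Cfsg.iterCommutator N G (i + 1) ≤ Cfsg.iterCommutator N G i :=
            sup_le hHi (chain_succ_le N G hGN i)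
          obtain ⟨s, hs⟩ := IsPGroup.iff_card.mp (hN.to_le (hle.trans (chain_basic N G hGN i).1))
          have h1 := exp_lt_of_lt hlt (hC (i + 1) (by omega)) hs
          have h2 := exp_le_of_le hle hs (hC i (by omega))
          have h3 : s = n - i := by omega
          have hsup : H ⊔ Cfsg.iterCommutator N G (i + 1) = Cfsg.iterCommutator N G i := by
            apply Subgroup.eq_of_le_of_card_ge hle
            rw [hs, h3, hC i (by omega)]
          have hN2 := hNorm (i + 1 + 1) (by omega)
          have h4 : ⁅G, H ⊔ Cfsg.iterCommutator N G (i + 1)⁆ ≤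
              Cfsg.iterCommutator N G (i + 1 + 1) := by
            apply Cfsg.Agent.Lib.Helper16.commutator_sup_le (hHN.trans hN2)
              (((chain_basic N G hGN (i + 1)).1).trans hN2)
            · rw [Subgroup.commutator_comm]; exact hcon
            · rw [Subgroup.commutator_comm]; exact le_rfl
          rw [hsup, Subgroup.commutator_comm] at h4
          have h5 : Cfsg.iterCommutator N G (i + 1) ≤ Cfsg.iterCommutator N G (i + 1 + 1) := h4
          have h6 := exp_le_of_le h5 (hC (i + 1) (by omega)) (hC (i + 1 + 1) (by omega))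
          omega
        have h7 := ih (i + 1) (by omega) ⁅H, G⁆ (hHG.trans hHN)
          (Cfsg.Agent.Lib.Helper1.le_normalizer_commutator_right _ _) hHG1 hnot
        rw [← h7]
        exact hHG
    have hlt : Cfsg.iterCommutator N G (i + 1) < H := by
      refine lt_of_le_of_ne hsub ?_
      intro heq
      apply hHi1
      rw [heq]
    obtain ⟨s, hs⟩ := IsPGroup.iff_card.mp (hN.to_le hHN)
    have h1 := exp_lt_of_lt hlt (hC (i + 1) (by omega)) hs
    have h2 := exp_le_of_le hHi hs (hC i (by omega))
    have h3 : s = n - i := by omega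
    apply Subgroup.eq_of_le_of_card_ge hHi
    rw [hs, h3, hC i (by omega)]

/-- classification of invariant subgroups -/
theorem classify_of_condC (N G : Subgroup L) (hN : IsPGroup p N)
    (hGN : G ≤ Subgroup.normalizer (N : Set L)) (n : ℕ)
    (hC : ∀ i ≤ n, Nat.card (Cfsg.iterCommutator N G i) = p ^ (n - i))
    (hNorm : ∀ i ≤ n, N ≤ Subgroup.normalizer (Cfsg.iterCommutator N G i : Set L))
    (H : Subgroup L) (hHN : H ≤ N) (hGH : G ≤ Subgroup.normalizer (H : Set L)) :
    ∃ i ≤ n, H = Cfsg.iterCommutator N G i := by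
  have key : ∀ m ≤ n, H ≤ Cfsg.iterCommutator N G m ∨
      ∃ i < m, H ≤ Cfsg.iterCommutator N G i ∧ ¬ H ≤ Cfsg.iterCommutator N G (i + 1) := by
    intro m
    induction m with
    | zero => intro _; left; exact hHN
    | succ m ih =>
      intro hm
      rcases ih (by omega) with h | ⟨i, hi, h1, h2⟩
      · by_cases h' : H ≤ Cfsg.iterCommutator N G (m + 1)
        · left; exact h'
        · right; exact ⟨m, by omega, h, h'⟩
      · right; exact ⟨i, by omega, h1, h2⟩
  rcases key n le_rfl with h | ⟨i, hi, h1, h2⟩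
  · refine ⟨n, le_rfl, ?_⟩
    have h1 := hC n le_rfl
    rw [Nat.sub_self] at h1
    have h3 := eq_bot_of_card_pow_zero h1
    rw [h3] at h ⊢
    exact le_bot_iff.mp h
  · exact ⟨i, by omega, eq_of_condC N G hN hGN n hC hNorm (n - i) i (by omega) H hHN hGH h1 h2⟩


/-- A p-group acts uniserially on a p-group N of order p^n exactly when the iterated commutator chain from N has length n; in that case the chain terms are all the invariant subgroups of N and they are normal in N. -/
theorem result {L : Type*} [Group L] [Finite L] {p : ℕ} [Fact p.Prime] (N G : Subgroup L) (hN : IsPGroup p N) (hG : IsPGroup p G) (hGN : G ≤ Subgroup.normalizer (N : Set L)) (n : ℕ) (hn : Nat.card N = p ^ n) : ((∀ H : Subgroup L, H ≤ N → G ≤ Subgroup.normalizer (H : Set L) → H ≠ ⊥ → (⁅H, G⁆).relIndex H = p) ↔ Cfsg.iterCommutator N G (n - 1) ≠ ⊥ ∨ n = 0) ∧ ((∀ H : Subgroup L, H ≤ N → G ≤ Subgroup.normalizer (H : Set L) → H ≠ ⊥ → (⁅H, G⁆).relIndex H = p) → ∀ H : Subgroup L, H ≤ N → G ≤ Subgroup.normalizer (H : Set L) → (∃ i ≤ n, H = Cfsg.iterCommutator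 N G i) ∧ N ≤ Subgroup.normalizer (H : Set L)) := by
  have hp : p.Prime := Fact.out
  have hfin : (∀ i ≤ n, Nat.card (Cfsg.iterCommutator N G i) = p ^ (n - i)) →
      (∀ H : Subgroup L, H ≤ N → G ≤ Subgroup.normalizer (H : Set L) →
        (∃ i ≤ n, H = Cfsg.iterCommutator N G i) ∧ N ≤ Subgroup.normalizer (H : Set L)) := by
    intro hC H hHN hGH
    have hNorm := normal_of_condC N G hN hG hGN n hC
    obtain ⟨i, hi, rfl⟩ := classify_of_condC N G hN hGN n hC hNorm H hHN hGH
    exact ⟨⟨i, hi, rfl⟩, hNorm i hi⟩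
  refine ⟨⟨?_, ?_⟩, ?_⟩
  · intro hUS
    by_cases hn0 : n = 0
    · right; exact hn0
    · left
      have hC := condC_of_uniserial N G hGN n hn hUS
      have h1 := hC (n - 1) (by omega)
      intro h0
      rw [h0, Subgroup.card_bot] at h1
      have : 1 < p ^ (n - (n - 1)) := Nat.one_lt_pow (by omega) hp.one_lt
      omega
  · intro hlast H hHN hGH hne
    have hC := condC_of_last N G hN hG hGN n hn hlast
    obtain ⟨⟨i, hi, rfl⟩, _⟩ := hfin hC H hHN hGH
    have hin : i ≠ n := by
      intro h
      apply hne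
      have h1 := hC i hi
      rw [h, Nat.sub_self] at h1
      rw [h]
      exact eq_bot_of_card_pow_zero h1
    have h3 := Cfsg.Agent.Lib.Helper4.card_mul_relIndex (chain_succ_le N G hGN i)
    rw [hC i hi, hC (i + 1) (by omega)] at h3
    have h5 : n - i = (n - (i + 1)) + 1 := by omega
    rw [h5, pow_succ] at h3
    exact Nat.eq_of_mul_eq_mul_left (pow_pos hp.pos _) h3
  · intro hUS
    exact hfin (condC_of_uniserial N G hGN n hn hUS)

end Cfsg.Agent.S0663
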