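import Cfsg.Statements.S0668
import Mathlib

set_option autoImplicit false
open Cfsg

namespace Cfsg.Agent.S0668

section Aux


variable {G : Type*} [Group G] {K : Type*} [Field K] {Ω₁ Ω₂ : Type*} [Fintype Ω₁] [Fintype Ω₂]
  [MulAction G Ω₁] [MulAction G Ω₂]

/-- matrix attached to a function on the orbit space -/
noncomputable def Mc : (MulAction.orbitRel.Quotient G (Ω₁ × Ω₂) → K) →ₗ[K] Matrix Ω₂ Ω₁ K where
  toFun c := fun y x => c (Quotient.mk'' (x, y))
  map_add' := fun _ _ => rfl
  map_smul' := fun _ _ => rfl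

lemma Mc_inv (c : MulAction.orbitRel.Quotient G (Ω₁ × Ω₂) → K) (g : G) (x : Ω₁) (y : Ω₂) :
    Mc c (g • y) (g • x) = Mc c y x := by
  change c (Quotient.mk'' (g • x, g • y)) = c (Quotient.mk'' (x, y))
  congr 1
  apply Quotient.sound'
  exact ⟨g, rfl⟩

lemma Mc_injective : Function.Injective (Mc (G := G) (K := K) (Ω₁ := Ω₁) (Ω₂ := Ω₂)) := by
  intro c c' h
  funext q
  induction q using Quotient.inductionOn' with
  | h xy =>
    obtain ⟨x, y⟩ := xy
    exact congrFun (congrFun h y) x

/-- an equivariant matrix comes from a function on the orbit space -/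
lemma exists_Mc (M : Matrix Ω₂ Ω₁ K) (hM : ∀ (g : G) (x : Ω₁) (y : Ω₂), M (g • y) (g • x) = M y x) :
    ∃ c, Mc (G := G) c = M := by
  refine ⟨fun q => Quotient.liftOn' q (fun xy => M xy.2 xy.1) ?_, ?_⟩
  · rintro ⟨x, y⟩ ⟨x', y'⟩ ⟨g, hg⟩
    simp only [Prod.smul_mk, Prod.mk.injEq] at hg
    simp only
    rw [← hg.1, ← hg.2, hM]
  · ext y x
    rfl


open Classical in
lemma invariant_iff (M : Matrix Ω₂ Ω₁ K) :
    Matrix.toLin' M ∈ ((Cfsg.permRep K G Ω₁).linHom (Cfsg.permRep K G Ω₂)).invariants ↔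
      ∀ (g : G) (x : Ω₁) (y : Ω₂), M (g • y) (g • x) = M y x := by
  rw [Representation.mem_invariants]
  constructor
  · intro h g x y
    have h1 := h g⁻¹
    rw [Representation.linHom_apply] at h1
    have h2 := congrFun (LinearMap.congr_fun h1 (Pi.single x 1)) y
    rw [Matrix.toLin'_apply, Matrix.mulVec_single_one] at h2
    change _ = M y x at h2
    rw [← h2]
    simp only [LinearMap.coe_comp, Function.comp_apply, inv_inv]
    change _ = (Matrix.toLin' M ((Cfsg.permRep K G Ω₁) g (Pi.single x 1))) (g⁻¹⁻¹ • y)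
    have h3 : (Cfsg.permRep K G Ω₁) g (Pi.single x 1) = Pi.single (g • x) (1 : K) := by
      funext z
      change (Pi.single x (1 : K) : Ω₁ → K) (g⁻¹ • z) = _
      by_cases hz : z = g • x
      · subst hz
        rw [inv_smul_smul, Pi.single_eq_same, Pi.single_eq_same]
      · rw [Pi.single_eq_of_ne hz, Pi.single_eq_of_ne]
        intro h
        apply hz
        rw [← h, smul_inv_smul]
    rw [h3, Matrix.toLin'_apply, Matrix.mulVec_single_one, inv_inv]
    rfl
  · intro h g
    rw [Representation.linHom_apply]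
    apply LinearMap.ext
    intro f
    funext y
    simp only [LinearMap.coe_comp, Function.comp_apply]
    change (Matrix.toLin' M ((Cfsg.permRep K G Ω₁) g⁻¹ f)) (g⁻¹ • y) = _
    rw [Matrix.toLin'_apply, Matrix.toLin'_apply, Matrix.mulVec, Matrix.mulVec]
    simp only [dotProduct]
    rw [← Equiv.sum_comp (MulAction.toPerm g⁻¹ : Equiv.Perm Ω₁)]
    apply Finset.sum_congr rfl
    intro x _
    rw [MulAction.toPerm_apply, h g⁻¹ x y]
    congr 1
    change f (g⁻¹⁻¹ • g⁻¹ • x) = f x
    rw [inv_inv, smul_inv_smul]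

open Classical in
theorem main : Module.finrank K ((Cfsg.permRep K G Ω₁).linHom (Cfsg.permRep K G Ω₂)).invariants =
    Nat.card (MulAction.orbitRel.Quotient G (Ω₁ × Ω₂)) := by
  set Ψ : (MulAction.orbitRel.Quotient G (Ω₁ × Ω₂) → K) →ₗ[K] ((Ω₁ → K) →ₗ[K] (Ω₂ → K)) :=
    (Matrix.toLin' : Matrix Ω₂ Ω₁ K ≃ₗ[K] _).toLinearMap ∘ₗ Mc with hΨ
  have hinj : Function.Injective Ψ := by
    rw [hΨ, LinearMap.coe_comp]
    exact (LinearEquiv.injective _).comp Mc_injective
  have hrange : LinearMap.range Ψ =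
      ((Cfsg.permRep K G Ω₁).linHom (Cfsg.permRep K G Ω₂)).invariants := by
    ext T
    constructor
    · rintro ⟨c, rfl⟩
      change Matrix.toLin' (Mc c) ∈ _
      rw [invariant_iff]
      exact fun g x y => Mc_inv c g x y
    · intro hT
      have hT' : Matrix.toLin' (LinearMap.toMatrix' T) ∈
          ((Cfsg.permRep K G Ω₁).linHom (Cfsg.permRep K G Ω₂)).invariants := by
        rw [Matrix.toLin'_toMatrix']; exact hT
      rw [invariant_iff] at hT'
      obtain ⟨c, hc⟩ := exists_Mc (G := G) _ hT'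
      refine ⟨c, ?_⟩
      change Matrix.toLin' (Mc c) = T
      rw [hc, Matrix.toLin'_toMatrix']
  rw [← hrange, LinearMap.finrank_range_of_inj hinj]
  have : Finite (MulAction.orbitRel.Quotient G (Ω₁ × Ω₂)) := Quotient.finite _
  have : Fintype (MulAction.orbitRel.Quotient G (Ω₁ × Ω₂)) := Fintype.ofFinite _
  rw [Module.finrank_fintype_fun_eq_card, Nat.card_eq_fintype_card]


end Aux

/-- The equivariant linear maps between the permutation modules of two finite `G`-sets form a space whose dimension is the number of `G`-orbits on the product of the two sets. -/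
theorem result {G : Type*} [Group G] {K : Type*} [Field K] {Ω₁ Ω₂ : Type*} [Fintype Ω₁] [Fintype Ω₂] [MulAction G Ω₁] [MulAction G Ω₂] : Module.finrank K ((Cfsg.permRep K G Ω₁).linHom (Cfsg.permRep K G Ω₂)).invariants = Nat.card (MulAction.orbitRel.Quotient G (Ω₁ × Ω₂)) := by
  exact main

end Cfsg.Agent.S0668
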