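import Cfsg.Statements.S0669
-- import your own Cfsg.Agent.* helpers here

set_option autoImplicit false
open Cfsg

namespace Cfsg.Agent.S0669

/-- The rank of a transitive action: orbits on ordered pairs correspond to orbits of a point stabiliser. -/
theorem result {G : Type*} [Group G] {Ω : Type*} [Finite Ω] [MulAction G Ω] [MulAction.IsPretransitive G Ω] (a : Ω) : Nat.card (MulAction.orbitRel.Quotient G (Ω × Ω)) = Nat.card (MulAction.orbitRel.Quotient (MulAction.stabilizer G a) Ω) := by
  classical
  symm
  let f : MulAction.orbitRel.Quotient (MulAction.stabilizer G a) Ω →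
      MulAction.orbitRel.Quotient G (Ω × Ω) :=
    Quotient.map' (fun b => (a, b)) (by
      intro b b' h
      change b ∈ MulAction.orbit (MulAction.stabilizer G a) b' at h
      obtain ⟨k, hk⟩ := h
      change (a, b) ∈ MulAction.orbit G (a, b')
      refine ⟨(k : G), ?_⟩
      have hka : (k : G) • a = a := k.2
      change ((k : G) • a, (k : G) • b') = (a, b)
      rw [hka]
      congr 1)
  refine Nat.card_congr (Equiv.ofBijective f ⟨?_, ?_⟩)
  · intro x y
    induction x using Quotient.inductionOn' with | _ b => ?_
    induction y using Quotient.inductionOn' with | _ b' => ?_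
    intro h
    have h' : (a, b) ∈ MulAction.orbit G (a, b') := Quotient.exact' h
    obtain ⟨g, hg⟩ := h'
    have hg' : (g • a, g • b') = (a, b) := hg
    have hga : g • a = a := (Prod.mk.inj hg').1
    have hgb : g • b' = b := (Prod.mk.inj hg').2
    apply Quotient.sound'
    change b ∈ MulAction.orbit (MulAction.stabilizer G a) b'
    exact ⟨⟨g, hga⟩, hgb⟩
  · intro z
    induction z using Quotient.inductionOn' with | _ xy => ?_
    obtain ⟨x, y⟩ := xy
    obtain ⟨g, hg⟩ := MulAction.exists_smul_eq G a x
    refine ⟨Quotient.mk'' (g⁻¹ • y), ?_⟩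
    apply Quotient.sound'
    change (a, g⁻¹ • y) ∈ MulAction.orbit G (x, y)
    refine ⟨g⁻¹, ?_⟩
    change (g⁻¹ • x, g⁻¹ • y) = (a, g⁻¹ • y)
    rw [← hg, inv_smul_smul]

end Cfsg.Agent.S0669
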