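import Cfsg.Statements.S0670
import Mathlib
import Cfsg.Agent.Lib.Helper5.PFix

set_option autoImplicit false
open Cfsg

namespace Cfsg.Agent.S0670

/-- In characteristic `p`, the permutation module of a transitive action of degree `p ^ f` has the line of constant functions as its only irreducible submodule: every non-zero subrepresentation contains it. -/
theorem result {G : Type*} [Group G] [Finite G] {K : Type*} [Field K] {p f : ℕ} [Fact p.Prime] [CharP K p] {Ω : Type*} [Fintype Ω] [MulAction G Ω] [MulAction.IsPretransitive G Ω] (hf : 1 ≤ f) (hcard : Fintype.card Ω = p ^ f) (W : Subrepresentation (Cfsg.permRep K G Ω)) (hW : W.toSubmodule ≠ ⊥) : (Cfsg.permConstants K G Ω).toSubmodule ≤ W.toSubmodule := by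
  obtain P : Sylow p G := default
  set ρ : Representation K (P : Subgroup G) (Ω → K) :=
    (Cfsg.permRep K G Ω).comp (P : Subgroup G).subtype with hρ
  obtain ⟨v, hvW, hv0, hvfix⟩ := Cfsg.Agent.Lib.Helper5.PFix.exists_ne_zero_fixed_mem p P.2 ρ
    W.toSubmodule (fun g w hw => W.apply_mem_toSubmodule (g : G) hw) hW
  have hfix : ∀ (g : G), g ∈ (P : Subgroup G) → ∀ x : Ω, v (g⁻¹ • x) = v x := by
    intro g hg x
    have := congrFun (hvfix ⟨g, hg⟩) x
    exact this
  have hconst : ∀ x y : Ω, v x = v y := by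
    intro x y
    obtain ⟨g, hg, hgx⟩ := Cfsg.Agent.Lib.Helper5.PFix.sylow_transitive (p := p) (f := f)
      (by rw [Nat.card_eq_fintype_card]; exact hcard) P y x
    rw [← hfix g hg x, ← hgx, inv_smul_smul]
  obtain ⟨x₀, hx₀⟩ : ∃ x₀, v x₀ ≠ 0 := by
    by_contra hcon
    push Not at hcon
    exact hv0 (funext hcon)
  have hv : v = v x₀ • (fun _ => (1 : K)) := by
    funext y
    rw [Pi.smul_apply, smul_eq_mul, mul_one]
    exact hconst y x₀
  have h1 : (fun _ : Ω => (1 : K)) ∈ W.toSubmodule := by
    have : (fun _ : Ω => (1 : K)) = (v x₀)⁻¹ • v := by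
      nth_rewrite 2 [hv]
      rw [smul_smul, inv_mul_cancel₀ hx₀, one_smul]
    rw [this]
    exact W.toSubmodule.smul_mem _ hvW
  change Submodule.span K {fun _ => (1 : K)} ≤ W.toSubmodule
  rw [Submodule.span_le, Set.singleton_subset_iff]
  exact h1

end Cfsg.Agent.S0670
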