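import Cfsg.Statements.S0671
import Cfsg.Agent.S0670

set_option autoImplicit false
open Cfsg

namespace Cfsg.Agent.S0671

/-- If the heart of the permutation module in characteristic `p` of a transitive action of degree `p ^ f` has no trivial composition factor, the action is doubly transitive. The hypothesis is phrased without composition series: no invariant subspaces `W < W'` between the constants and the sum-zero functions with trivial action on the quotient. -/
theorem result {G : Type*} [Group G] [Finite G] {K : Type*} [Field K] {p f : ℕ} [Fact p.Prime] [CharP K p] {Ω : Type*} [Fintype Ω] [MulAction G Ω] [MulAction.IsPretransitive G Ω] (hf : 1 ≤ f) (hcard : Fintype.card Ω = p ^ f) (h : ∀ W W' : Subrepresentation (Cfsg.permRep K G Ω), (Cfsg.permConstants K G Ω).toSubmodule ≤ W.toSubmodule → W.toSubmodule < W'.toSubmodule → W'.toSubmodule ≤ (Cfsg.permSumZero K G Ω).toSubmodule → ∃ g : G, ∃ v ∈ W'.toSubmodule, Cfsg.permRep K G Ω g v - v ∉ W.toSubmodule) : MulAction.IsMultiplyPretransitive G Ω 2 := by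
  classical
  rw [MulAction.is_two_pretransitive_iff]
  by_contra hcon
  push Not at hcon
  obtain ⟨a, b, c, e, hab, hce, hno⟩ := hcon
  have hρ : ∀ (g : G) (u : Ω → K) (x : Ω), Cfsg.permRep K G Ω g u x = u (g⁻¹ • x) :=
    fun g u x => rfl
  -- the orbital relation
  let R : Ω → Ω → Prop := fun x y => ∃ g : G, g • a = x ∧ g • b = y
  have hRinv' : ∀ (g : G) x y, R x y → R (g • x) (g • y) := by
    rintro g x y ⟨k, rfl, rfl⟩
    exact ⟨g * k, mul_smul _ _ _, mul_smul _ _ _⟩
  have hRinv : ∀ (g : G) x y, R (g • x) (g • y) ↔ R x y := by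
    intro g x y
    refine ⟨fun hR => ?_, hRinv' g x y⟩
    have := hRinv' g⁻¹ _ _ hR
    rwa [inv_smul_smul, inv_smul_smul] at this
  have hRab : R a b := ⟨1, one_smul _ _, one_smul _ _⟩
  have hRirr : ∀ x, ¬ R x x := by
    rintro x ⟨g, h1, h2⟩
    exact hab (smul_left_cancel g (h1.trans h2.symm))
  obtain ⟨g₀, hg₀⟩ := MulAction.exists_smul_eq G c a
  set y' := g₀ • e with hy'
  have hy'a : a ≠ y' := by
    rw [hy', ← hg₀]
    exact fun hh => hce (smul_left_cancel g₀ hh)
  have hRy' : ¬ R a y' := by
    rintro ⟨k, hk1, hk2⟩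
    apply hno (g₀⁻¹ * k)
    · rw [mul_smul, hk1, ← hg₀, inv_smul_smul]
    · rw [mul_smul, hk2, hy', inv_smul_smul]
  -- the valency
  let d : ℕ := (Finset.univ.filter (fun y => R a y)).card
  have hd : ∀ x, (Finset.univ.filter (fun y => R x y)).card = d := by
    intro x
    obtain ⟨g, rfl⟩ := MulAction.exists_smul_eq G a x
    symm
    apply Finset.card_bijective (fun y => g • y) (MulAction.bijective g)
    intro y
    simp only [Finset.mem_filter, Finset.mem_univ, true_and]
    exact (hRinv g a y).symm
  -- the endomorphism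
  let φ : (Ω → K) →ₗ[K] (Ω → K) :=
    { toFun := fun u x => (∑ y, if R x y then u y else 0) - (d : K) * u x
      map_add' := by
        intro u v
        funext x
        simp only [Pi.add_apply]
        have : ∀ y, (if R x y then u y + v y else 0) =
            (if R x y then u y else 0) + (if R x y then v y else 0) := by
          intro y; split_ifs <;> simp
        simp_rw [this, Finset.sum_add_distrib]
        ring
      map_smul' := by
        intro r u
        funext x
        simp only [Pi.smul_apply, smul_eq_mul, RingHom.id_apply]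
        have : ∀ y, (if R x y then r * u y else 0) = r * (if R x y then u y else 0) := by
          intro y; split_ifs <;> simp
        simp_rw [this, ← Finset.mul_sum]
        ring }
  have hφ : ∀ (u : Ω → K) (x : Ω), φ u x = (∑ y, if R x y then u y else 0) - (d : K) * u x :=
    fun u x => rfl
  have hφG : ∀ (g : G) (u : Ω → K), φ (Cfsg.permRep K G Ω g u) = Cfsg.permRep K G Ω g (φ u) := by
    intro g u
    funext x
    rw [hρ, hφ, hφ, hρ]
    congr 1
    rw [← Fintype.sum_equiv (MulAction.toPerm g⁻¹)
      (fun y => if R x y then Cfsg.permRep K G Ω g u y else 0)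
      (fun y => if R (g⁻¹ • x) y then u y else 0)]
    intro y
    simp only [MulAction.toPerm_apply, hρ]
    rw [if_congr (hRinv g⁻¹ x y).symm rfl rfl]
  have hφ1 : φ (fun _ => (1 : K)) = 0 := by
    funext x
    rw [hφ]
    simp only [Pi.zero_apply, mul_one]
    rw [← Finset.sum_filter, Finset.sum_const, hd x]
    simp
  -- the subrepresentations
  let S := Cfsg.permSumZero K G Ω
  let C := Cfsg.permConstants K G Ω
  have hSmem : ∀ u : Ω → K, u ∈ S.toSubmodule ↔ ∑ x, u x = 0 := fun u => Iff.rfl
  have hCfix : ∀ (g : G) (u : Ω → K), u ∈ C.toSubmodule → Cfsg.permRep K G Ω g u = u := by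
    intro g u hu
    change u ∈ Submodule.span K {fun _ => (1 : K)} at hu
    rw [Submodule.mem_span_singleton] at hu
    obtain ⟨r, rfl⟩ := hu
    funext x
    rfl
  have h1C : (fun _ : Ω => (1 : K)) ∈ C.toSubmodule := Submodule.subset_span rfl
  have h1S : (fun _ : Ω => (1 : K)) ∈ S.toSubmodule := by
    rw [hSmem]
    simp only [Finset.sum_const, Finset.card_univ, hcard, nsmul_eq_mul, mul_one]
    rw [Nat.cast_pow, CharP.cast_eq_zero K p, zero_pow (by omega)]
  let W : Subrepresentation (Cfsg.permRep K G Ω) :=
    { toSubmodule := S.toSubmodule ⊓ LinearMap.ker φ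
      apply_mem_toSubmodule := by
        intro g v hv
        refine ⟨S.apply_mem_toSubmodule g hv.1, ?_⟩
        show φ (Cfsg.permRep K G Ω g v) = 0
        rw [hφG, show φ v = 0 from hv.2, map_zero] }
  let W' : Subrepresentation (Cfsg.permRep K G Ω) :=
    { toSubmodule := S.toSubmodule ⊓ C.toSubmodule.comap φ
      apply_mem_toSubmodule := by
        intro g v hv
        refine ⟨S.apply_mem_toSubmodule g hv.1, ?_⟩
        show φ (Cfsg.permRep K G Ω g v) ∈ C.toSubmodule
        rw [hφG]
        exact C.apply_mem_toSubmodule g hv.2 }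
  let I : Subrepresentation (Cfsg.permRep K G Ω) :=
    { toSubmodule := S.toSubmodule.map φ
      apply_mem_toSubmodule := by
        rintro g v ⟨u, hu, rfl⟩
        exact ⟨Cfsg.permRep K G Ω g u, S.apply_mem_toSubmodule g hu, hφG g u⟩ }
  have hI : I.toSubmodule ≠ ⊥ := by
    intro hbot
    let m : Ω → K := Pi.single b 1 - Pi.single y' 1
    have hmS : m ∈ S.toSubmodule := by
      rw [hSmem]
      simp [m, Finset.sum_sub_distrib]
    have hφm : φ m ∈ I.toSubmodule := ⟨m, hmS, rfl⟩
    rw [hbot, Submodule.mem_bot] at hφm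
    have := congrFun hφm a
    rw [hφ] at this
    have hma : m a = 0 := by
      simp [m, Pi.single_apply, hab, hy'a]
    rw [hma, mul_zero, sub_zero] at this
    have hsum : (∑ y, if R a y then m y else 0) = 1 := by
      have : ∀ y, (if R a y then m y else 0) =
          (if y = b then (1 : K) else 0) - (if y = y' then (if R a y then (1:K) else 0) else 0) := by
        intro y
        by_cases hyb : y = b
        · subst hyb
          have : y ≠ y' := fun hh => hRy' (hh ▸ hRab)
          simp [m, Pi.single_apply, hRab, this]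
        · by_cases hyy : y = y'
          · subst hyy
            simp [m, Pi.single_apply, hyb, hRy']
          · simp [m, Pi.single_apply, hyb, hyy]
      simp_rw [this, Finset.sum_sub_distrib]
      simp [hRy']
    rw [hsum] at this
    exact one_ne_zero this
  have hCI : C.toSubmodule ≤ I.toSubmodule :=
    Cfsg.Agent.S0670.result hf hcard I hI
  obtain ⟨m, hmS, hφm⟩ := hCI h1C
  have hCW : C.toSubmodule ≤ W.toSubmodule := by
    change Submodule.span K {fun _ => (1 : K)} ≤ _
    rw [Submodule.span_le, Set.singleton_subset_iff]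
    exact ⟨h1S, LinearMap.mem_ker.2 hφ1⟩
  have hWW' : W.toSubmodule < W'.toSubmodule := by
    refine lt_of_le_of_ne ?_ ?_
    · intro v hv
      refine ⟨hv.1, ?_⟩
      show φ v ∈ C.toSubmodule
      rw [show φ v = 0 from hv.2]
      exact C.toSubmodule.zero_mem
    · intro heq
      have hmW' : m ∈ W'.toSubmodule :=
        ⟨hmS, by show φ m ∈ C.toSubmodule; rw [hφm]; exact h1C⟩
      rw [← heq] at hmW'
      have : φ m = 0 := hmW'.2
      rw [hφm] at this
      have := congrFun this a
      exact one_ne_zero this
  have hW'S : W'.toSubmodule ≤ S.toSubmodule := inf_le_left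
  obtain ⟨g, v, hv, hnot⟩ := h W W' hCW hWW' hW'S
  apply hnot
  refine ⟨S.toSubmodule.sub_mem (S.apply_mem_toSubmodule g hv.1) hv.1, ?_⟩
  show φ (Cfsg.permRep K G Ω g v - v) = 0
  rw [map_sub, hφG, hCfix g _ hv.2, sub_self]

end Cfsg.Agent.S0671
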