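import Cfsg.Statements.S0679
-- import your own Cfsg.Agent.* helpers here
import Cfsg.Agent.Lib.Helper24.Deg11J

set_option autoImplicit false
open Cfsg

namespace Cfsg.Agent.S0679

/-- A non-solvable transitive permutation group on 11 points that does not contain the alternating group is either sharply 4-transitive (of order 7920) or isomorphic to the projective special linear group of degree 2 over the field with 11 elements. -/
theorem result {α : Type*} [Fintype α] [DecidableEq α] (hα : Fintype.card α = 11) (G : Subgroup (Equiv.Perm α)) [MulAction.IsPretransitive G α] (hG : ¬ Group.IsSolvable G) (hA : ¬ alternatingGroup α ≤ G) : (MulAction.IsMultiplyPretransitive G α 4 ∧ ∀ x : Fin 4 ↪ α, MulAction.stabilizer G x = ⊥) ∨ Nonempty (G ≃* Matrix.ProjectiveSpecialLinearGroup (Fin 2) (ZMod 11)) := by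
  haveI : Fact (Nat.Prime 11) := ⟨by norm_num⟩
  haveI : Fact (Nat.Prime 5) := ⟨by norm_num⟩
  obtain ⟨P⟩ : Nonempty (Sylow 11 G) := inferInstance
  obtain ⟨-, -, -, hcases⟩ := Cfsg.Agent.Lib.Helper24.Deg11.classify hα G hG hA P
  rcases hcases with ⟨-, -, h | h⟩ | ⟨h, hnA⟩
  · right
    exact Cfsg.Agent.Lib.Helper24.Deg11.iso_of_card hα G hG hA h
  · left
    exact Cfsg.Agent.Lib.Helper24.Deg11.sharp_of_card hα G hG hA h
  · exact (Cfsg.Agent.Lib.Helper24.Deg11.no_15840 hα G hG hA h hnA).elim

end Cfsg.Agent.S0679
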