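import Cfsg.Statements.S0682
import Mathlib
import Cfsg.Agent.Lib.Helper5.NearField

set_option autoImplicit false
open Cfsg

namespace Cfsg.Agent.S0682

section Aux

open Cfsg.Agent.Lib.Helper5.NF

variable {F : Type*} [Cfsg.NearField F]

/-- right multiplication as an additive hom -/
def rmul (a : F) : F →+ F where
  toFun x := x * a
  map_zero' := zm a
  map_add' x y := rd x y a

@[simp] lemma rmul_apply (a x : F) : rmul a x = x * a := rfl

lemma rmul_inj {a : F} (ha : a ≠ 0) : Function.Injective (rmul a) := by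
  obtain ⟨a', h1, h2⟩ := exi a ha
  intro x y h
  have := congrArg (fun t => t * a') h
  simpa [mul_assoc, h1] using this

lemma rmul_surj {a : F} (ha : a ≠ 0) : Function.Surjective (rmul a) := by
  obtain ⟨a', h1, h2⟩ := exi a ha
  intro y
  exact ⟨y * a', by simp [mul_assoc, h2]⟩

lemma addOrderOf_eq {a : F} (ha : a ≠ 0) : addOrderOf a = addOrderOf (1 : F) := by
  have := addOrderOf_injective (rmul a) (rmul_inj ha) (1 : F)
  simpa using this

theorem main [Finite F] : ∃ p j : ℕ, p.Prime ∧ 1 ≤ j ∧ Nat.card F = p ^ j ∧ (∀ x y : F, x + y = y + x) ∧ ∀ x : F, p • x = 0 := by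
  set n := addOrderOf (1 : F) with hn
  have hnpos : 0 < n := addOrderOf_pos (1 : F)
  have hn1 : n ≠ 1 := by
    intro h
    rw [hn, AddMonoid.addOrderOf_eq_one_iff] at h
    exact z1 h.symm
  obtain ⟨p, hp, hpn⟩ := Nat.exists_prime_and_dvd hn1
  -- y = (n / p) • 1 has order p
  have hnp : n / p ≠ 0 := by
    have := Nat.div_pos (Nat.le_of_dvd hnpos hpn) hp.pos
    omega
  have hdvd : n / p ∣ addOrderOf (1 : F) := Nat.div_dvd_of_dvd hpn
  have hy : addOrderOf ((n / p) • (1 : F)) = p := by
    rw [addOrderOf_nsmul_of_dvd hnp hdvd, ← hn]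
    exact Nat.div_div_self hpn hnpos.ne'
  have hy0 : (n / p) • (1 : F) ≠ 0 := by
    intro h
    rw [h, addOrderOf_zero] at hy
    exact hp.one_lt.ne hy
  have hnp' : n = p := by rw [← hy, addOrderOf_eq hy0]
  have hpx : ∀ x : F, p • x = 0 := by
    intro x
    by_cases hx : x = 0
    · rw [hx, smul_zero]
    · rw [← hnp', hn, ← addOrderOf_eq hx]
      exact addOrderOf_nsmul_eq_zero x
  have hpg : IsPGroup p (Multiplicative F) := by
    intro g
    refine ⟨1, ?_⟩
    rw [pow_one]
    exact congrArg Multiplicative.ofAdd (hpx g.toAdd)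
  have hfact : Fact p.Prime := ⟨hp⟩
  obtain ⟨j, hj⟩ := IsPGroup.iff_card.mp hpg
  have hcard : Nat.card F = p ^ j := by
    rw [← hj]; exact Nat.card_congr Multiplicative.ofAdd
  have hnt : Nontrivial (Multiplicative F) := ⟨⟨Multiplicative.ofAdd 0, Multiplicative.ofAdd 1, fun h => z1 (Multiplicative.ofAdd.injective h)⟩⟩
  have hj1 : 1 ≤ j := by
    rcases Nat.eq_zero_or_pos j with h | h
    · exfalso
      rw [h, pow_zero] at hj
      have : Subsingleton (Multiplicative F) := (Nat.card_eq_one_iff_unique.mp hj).1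
      exact not_subsingleton _ this
    · exact h
  refine ⟨p, j, hp, hj1, hcard, ?_, hpx⟩
  -- commutativity
  have hcen := hpg.center_nontrivial
  obtain ⟨⟨z, hz⟩, hz1⟩ := exists_ne (1 : Subgroup.center (Multiplicative F))
  have hz0 : z.toAdd ≠ 0 := by
    intro h
    apply hz1
    apply Subtype.ext
    exact Multiplicative.toAdd.injective h
  have hzc : ∀ x : F, z.toAdd + x = x + z.toAdd := by
    intro x
    have := Subgroup.mem_center_iff.mp hz (Multiplicative.ofAdd x)
    exact (congrArg Multiplicative.toAdd this).symm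
  obtain ⟨z', hz1', hz2'⟩ := exi _ hz0
  have key : ∀ a : F, a ≠ 0 → ∀ y : F, a + y = y + a := by
    intro a ha y
    have hc : z' * a ≠ 0 := mul_ne (inv_ne hz1') ha
    obtain ⟨x', rfl⟩ := rmul_surj hc y
    have ha' : a = rmul (z' * a) z.toAdd := by
      rw [rmul_apply, ← mul_assoc, hz1', one_mul]
    have e1 : a + rmul (z' * a) x' = rmul (z' * a) (z.toAdd + x') := by rw [map_add, ← ha']
    have e2 : rmul (z' * a) x' + a = rmul (z' * a) (x' + z.toAdd) := by rw [map_add, ← ha']
    rw [e1, e2, hzc]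
  intro x y
  by_cases hx : x = 0
  · rw [hx, zero_add, add_zero]
  · exact key x hx y

end Aux

/-- A finite near-field has prime-power order; its additive group is commutative of prime exponent. -/
theorem result {F : Type*} [Cfsg.NearField F] [Finite F] : ∃ p j : ℕ, p.Prime ∧ 1 ≤ j ∧ Nat.card F = p ^ j ∧ (∀ x y : F, x + y = y + x) ∧ ∀ x : F, p • x = 0 := by
  exact main

end Cfsg.Agent.S0682
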