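import Cfsg.Statements.S0683
import Mathlib
import Cfsg.Agent.S0680
import Cfsg.Agent.Lib.Helper5.NearFieldBuild

set_option autoImplicit false
open Cfsg

namespace Cfsg.Agent.S0683

section Aux

open Cfsg.Agent.Lib.Helper5.NFBuild

theorem main {α : Type*} [Fintype α] [DecidableEq α] (H : Subgroup (Equiv.Perm α)) [hH2 : MulAction.IsMultiplyPretransitive H α 2] (hsharp : ∀ x : Fin 2 ↪ α, MulAction.stabilizer H x = ⊥) (h2 : 2 ≤ Fintype.card α) : ∃ _ : Cfsg.NearField α, ∀ σ : Equiv.Perm α, σ ∈ H ↔ ∃ a b : α, a ≠ 0 ∧ ∀ x : α, σ x = x * a + b := by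
  classical
  obtain ⟨p, j, hp, hj, hcard, hP⟩ := Cfsg.Agent.S0680.result H hsharp h2
  have hfact : Fact p.Prime := ⟨hp⟩
  obtain ⟨hnorm, -, -, htrans, hreg, -⟩ := hP hfact (default : Sylow p H)
  set N : Subgroup H := ((default : Sylow p H) : Subgroup H) with hN
  have hnt : Nontrivial α := Fintype.one_lt_card_iff_nontrivial.mp (by omega)
  obtain ⟨o, e, hoe⟩ := exists_pair_ne α
  -- the section nn
  have hnn : ∀ a : α, ∃ n : H, n ∈ N ∧ n • o = a := by
    intro a
    obtain ⟨n, hn⟩ := MulAction.exists_smul_eq (↥N) o a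
    exact ⟨n.1, n.2, hn⟩
  choose nn nn_mem nn_smul using hnn
  have nn_uniq : ∀ n ∈ N, ∀ a, n • o = a → n = nn a := by
    intro n hn a ha
    have h1 : (⟨(nn a)⁻¹ * n, N.mul_mem (N.inv_mem (nn_mem a)) hn⟩ : ↥N) ∈ MulAction.stabilizer (↥N) o := by
      rw [MulAction.mem_stabilizer_iff]
      change ((nn a)⁻¹ * n) • o = o
      rw [mul_smul, ha, inv_smul_eq_iff, nn_smul]
    rw [hreg o, Subgroup.mem_bot] at h1
    have h2 : (nn a)⁻¹ * n = 1 := congrArg Subtype.val h1
    exact (inv_mul_eq_one.mp h2).symm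
  -- the section hh
  have hhh : ∀ a : α, ∃ h : H, a ≠ o → (h • o = o ∧ h • e = a) := by
    intro a
    by_cases ha : a = o
    · exact ⟨1, fun h => absurd ha h⟩
    · obtain ⟨g, hg1, hg2⟩ := MulAction.is_two_pretransitive_iff.mp hH2 hoe (Ne.symm ha)
      exact ⟨g, fun _ => ⟨hg1, hg2⟩⟩
  choose hh hh_spec using hhh
  have hh_uniq : ∀ h : H, h • o = o → ∀ a, a ≠ o → h • e = a → h = hh a := by
    intro h ho a ha hea
    have h1 : (hh a)⁻¹ * h = 1 := by
      apply Cfsg.Agent.S0680.sharp H hsharp _ o e hoe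
      · rw [mul_smul, ho, inv_smul_eq_iff, (hh_spec a ha).1]
      · rw [mul_smul, hea, inv_smul_eq_iff, (hh_spec a ha).2]
    exact (inv_mul_eq_one.mp h1).symm
  have S : Spec N o e nn hh :=
    { hoe := hoe
      normal := hnorm
      nn_mem := nn_mem
      nn_smul := nn_smul
      nn_uniq := nn_uniq
      hh_fix := fun a ha => (hh_spec a ha).1
      hh_smul := fun a ha => (hh_spec a ha).2
      hh_uniq := hh_uniq }
  refine ⟨S.nearField, fun σ => ?_⟩
  change σ ∈ H ↔ ∃ a b : α, a ≠ o ∧ ∀ x : α, σ x = nfAdd nn (nfMul o hh x a) b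
  constructor
  · intro hσ
    obtain ⟨a, b, ha, hab⟩ := S.repr ⟨σ, hσ⟩
    exact ⟨a, b, ha, hab⟩
  · rintro ⟨a, b, ha, hab⟩
    have : σ = ((nn b * hh a : H) : Equiv.Perm α) := by
      ext x
      rw [hab x, ← S.repr' a b ha x]
      rfl
    rw [this]
    exact (nn b * hh a).2

end Aux

/-- A finite sharply doubly transitive permutation group is the affine group of a near-field: the permuted set carries a near-field structure for which the group consists exactly of the maps `x ↦ x * a + b` with `a ≠ 0`. -/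
theorem result {α : Type*} [Fintype α] [DecidableEq α] (H : Subgroup (Equiv.Perm α)) [MulAction.IsMultiplyPretransitive H α 2] (hsharp : ∀ x : Fin 2 ↪ α, MulAction.stabilizer H x = ⊥) (h2 : 2 ≤ Fintype.card α) : ∃ _ : Cfsg.NearField α, ∀ σ : Equiv.Perm α, σ ∈ H ↔ ∃ a b : α, a ≠ 0 ∧ ∀ x : α, σ x = x * a + b := by
  exact main H hsharp h2

end Cfsg.Agent.S0683
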