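import Cfsg.Statements.S0684
import Cfsg.Agent.Lib.Helper9.FpfAction
import Cfsg.Agent.Lib.Helper5.OrbitCount

set_option autoImplicit false
open Cfsg

namespace Cfsg.Agent.S0684

/-- Point stabiliser of a sharply doubly transitive group not of semilinear type: a maximal normal abelian subgroup `A` of a linear group `H` that is regular on non-zero vectors and has no irreducible cyclic normal subgroup is cyclic and reducible, and the order of `A` divides `p ^ k - 1` for `k` the dimension of a minimal `A`-invariant subspace. -/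
theorem result {p : ℕ} [Fact p.Prime] {V : Type*} [AddCommGroup V] [Module (ZMod p) V] [Finite V] (H : Subgroup (V ≃ₗ[ZMod p] V)) (hreg : ∀ v w : V, v ≠ 0 → w ≠ 0 → ∃! h : H, (h : V ≃ₗ[ZMod p] V) v = w) (hI : ∀ A : Subgroup H, A.Normal → IsCyclic A → ∃ W : Submodule (ZMod p) V, W ≠ ⊥ ∧ W ≠ ⊤ ∧ ∀ a ∈ A, ∀ v ∈ W, ((a : H) : V ≃ₗ[ZMod p] V) v ∈ W) (A : Subgroup H) (hAn : A.Normal) (hAc : IsMulCommutative A) (hAmax : ∀ B : Subgroup H, B.Normal → IsMulCommutative B → A ≤ B → B = A) : IsCyclic A ∧ ∃ W : Submodule (ZMod p) V, W ≠ ⊥ ∧ W ≠ ⊤ ∧ (∀ a ∈ A, ∀ v ∈ W, ((a : H) : V ≃ₗ[ZMod p] V) v ∈ W) ∧ (∀ W' : Submodule (ZMod p) V, W' ≤ W → (∀ a ∈ A, ∀ v ∈ W', ((a : H) : V ≃ₗ[ZMod p] V) v ∈ W') → W' = ⊥ ∨ W' = W) ∧ Nat.card A ∣ p ^ Module.finrank (ZMod p) W - 1 := by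
  classical
  -- semiregularity
  have hsemi : ∀ h : H, ∀ v : V, v ≠ 0 → (h : V ≃ₗ[ZMod p] V) v = v → h = 1 := by
    intro h v hv hfix
    obtain ⟨h0, -, huniq⟩ := hreg v v hv hv
    rw [huniq h hfix, huniq 1 (by simp)]
  haveI : Finite (V ≃ₗ[ZMod p] V) :=
    Finite.of_injective (fun f => (f : V → V)) DFunLike.coe_injective
  -- V is nontrivial
  obtain ⟨W1, hW1, -, -⟩ := hI ⊥ inferInstance inferInstance
  obtain ⟨v0, hv0W, hv0⟩ := (Submodule.ne_bot_iff W1).mp hW1
  -- the action on Multiplicative V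
  letI act : MulDistribMulAction ↥A (Multiplicative V) :=
    { smul := fun a v => Multiplicative.ofAdd (((a : H) : V ≃ₗ[ZMod p] V) (Multiplicative.toAdd v))
      one_smul := fun v => by
        show Multiplicative.ofAdd ((((1 : ↥A) : H) : V ≃ₗ[ZMod p] V) (Multiplicative.toAdd v)) = v
        simp
      mul_smul := fun a b v => by
        show Multiplicative.ofAdd ((((a * b : ↥A) : H) : V ≃ₗ[ZMod p] V) (Multiplicative.toAdd v))
          = Multiplicative.ofAdd (((a : H) : V ≃ₗ[ZMod p] V) (Multiplicative.toAdd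
            (Multiplicative.ofAdd (((b : H) : V ≃ₗ[ZMod p] V) (Multiplicative.toAdd v)))))
        simp [LinearEquiv.mul_apply]
      smul_mul := fun a v w => by
        show Multiplicative.ofAdd (((a : H) : V ≃ₗ[ZMod p] V) (Multiplicative.toAdd (v * w)))
          = Multiplicative.ofAdd (((a : H) : V ≃ₗ[ZMod p] V) (Multiplicative.toAdd v)) *
            Multiplicative.ofAdd (((a : H) : V ≃ₗ[ZMod p] V) (Multiplicative.toAdd w))
        simp [toAdd_mul, ofAdd_add]
      smul_one := fun a => by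
        show Multiplicative.ofAdd (((a : H) : V ≃ₗ[ZMod p] V) (Multiplicative.toAdd 1)) = 1
        simp }
  have hf : Cfsg.Agent.Lib.Helper9.IsFpfAction ↥A (Multiplicative V) := by
    intro b hb v hv
    by_contra hv1
    apply hb
    have h1 : ((b : H) : V ≃ₗ[ZMod p] V) (Multiplicative.toAdd v) = Multiplicative.toAdd v := by
      have : Multiplicative.ofAdd (((b : H) : V ≃ₗ[ZMod p] V) (Multiplicative.toAdd v)) = v := hv
      exact congrArg Multiplicative.toAdd this
    have h2 : Multiplicative.toAdd v ≠ 0 := fun h => hv1 (by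
      have : Multiplicative.ofAdd (Multiplicative.toAdd v) = Multiplicative.ofAdd 0 := by rw [h]
      simpa using this)
    have := hsemi (b : H) _ h2 h1
    exact Subtype.ext this
  haveI : Nontrivial (Multiplicative V) := ⟨⟨Multiplicative.ofAdd v0, 1, fun h => hv0 (by
    have := congrArg Multiplicative.toAdd h
    simpa using this)⟩⟩
  have hcyc : IsCyclic ↥A := hf.isCyclic_of_comm (fun x y => hAc.is_comm.comm x y)
  refine ⟨hcyc, ?_⟩
  obtain ⟨W0, hW0b, hW0t, hW0inv⟩ := hI A hAn hcyc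
  -- minimal nonzero invariant subspace inside W0
  let S : Set (Submodule (ZMod p) V) :=
    {W | W ≠ ⊥ ∧ W ≤ W0 ∧ ∀ a ∈ A, ∀ v ∈ W, ((a : H) : V ≃ₗ[ZMod p] V) v ∈ W}
  have hSne : S.Nonempty := ⟨W0, hW0b, le_rfl, hW0inv⟩
  haveI : Finite (Submodule (ZMod p) V) :=
    Finite.of_injective (fun W => (W : Set V)) SetLike.coe_injective
  obtain ⟨W, hWS, hWmin⟩ := (wellFounded_lt (α := Submodule (ZMod p) V)).has_min S hSne
  obtain ⟨hWb, hWle, hWinv⟩ := hWS
  refine ⟨W, hWb, ?_, hWinv, ?_, ?_⟩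
  · intro h
    apply hW0t
    rw [h] at hWle
    exact top_le_iff.mp hWle
  · intro W' hW'le hW'inv
    by_cases hb : W' = ⊥
    · exact Or.inl hb
    · right
      have hW'S : W' ∈ S := ⟨hb, hW'le.trans hWle, hW'inv⟩
      exact eq_of_le_of_not_lt hW'le (hWmin W' hW'S)
  · -- counting
    have hcardW : Nat.card W = p ^ Module.finrank (ZMod p) W := by
      rw [Module.natCard_eq_pow_finrank (K := ZMod p), Nat.card_zmod]
    let T : Set V := (W : Set V) \ {0}
    have hT : ∀ a : ↥A, ∀ s ∈ T, a • s ∈ T := by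
      intro a s hs
      refine ⟨hWinv a a.2 s hs.1, ?_⟩
      intro h0
      apply hs.2
      have h0' : ((a : H) : V ≃ₗ[ZMod p] V) s = 0 := h0
      have := (LinearEquiv.map_eq_zero_iff _).mp h0'
      exact this
    have horb : ∀ s ∈ T, (MulAction.orbit ↥A s).ncard = Nat.card ↥A := by
      intro s hs
      rw [← MulAction.index_stabilizer]
      have : MulAction.stabilizer ↥A s = ⊥ := by
        rw [eq_bot_iff]
        intro a ha
        rw [MulAction.mem_stabilizer_iff] at ha
        have h1 : ((a : H) : V ≃ₗ[ZMod p] V) s = s := ha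
        have h2 : s ≠ 0 := fun h => hs.2 h
        have := hsemi (a : H) s h2 h1
        rw [Subgroup.mem_bot]
        exact Subtype.ext this
      rw [this, Subgroup.index_bot]
    have hdvd := Cfsg.Agent.Lib.Helper5.dvd_ncard_of_orbit_ncard_eq (H := ↥A) T hT _ horb
    have hTcard : T.ncard = p ^ Module.finrank (ZMod p) W - 1 := by
      rw [Set.ncard_diff (by simpa using W.zero_mem), Set.ncard_singleton, ← hcardW]
      rfl
    rw [← hTcard]
    exact hdvd

end Cfsg.Agent.S0684
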