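import Cfsg.Statements.S0685
-- import your own Cfsg.Agent.* helpers here
import Cfsg.Agent.Lib.Helper29.RegLin


set_option autoImplicit false
set_option linter.style.haveILetI false
open Cfsg
open Cfsg.Agent.Lib.Helper29.RegLin

namespace Cfsg.Agent.S0685

/-- In a linear group over the prime field that is regular on non-zero vectors and has no irreducible cyclic normal subgroup, a maximal normal abelian subgroup is properly contained in its centraliser, which is non-abelian. -/
theorem result {p : ℕ} [Fact p.Prime] {V : Type*} [AddCommGroup V] [Module (ZMod p) V] [Finite V] (H : Subgroup (V ≃ₗ[ZMod p] V)) (hreg : ∀ v w : V, v ≠ 0 → w ≠ 0 → ∃! h : H, (h : V ≃ₗ[ZMod p] V) v = w) (hI : ∀ A : Subgroup H, A.Normal → IsCyclic A → ∃ W : Submodule (ZMod p) V, W ≠ ⊥ ∧ W ≠ ⊤ ∧ ∀ a ∈ A, ∀ v ∈ W, ((a : H) : V ≃ₗ[ZMod p] V) v ∈ W) (A : Subgroup H) (hAn : A.Normal) (hAc : IsMulCommutative A) (hAmax : ∀ B : Subgroup H, B.Normal → IsMulCommutative B → A ≤ B → B = A) : A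 < Subgroup.centralizer (A : Set H) ∧ ¬ IsMulCommutative (Subgroup.centralizer (A : Set H)) := by
  haveI := hAn
  haveI : Finite (V ≃ₗ[ZMod p] V) := Finite.of_injective (fun f => (f : V → V)) DFunLike.coe_injective
  have hreg' : ∀ v w : V, v ≠ 0 → w ≠ 0 → ∃! h : H, h • v = w := hreg
  -- a nonzero vector
  obtain ⟨W₁, hW₁, -, -⟩ := hI ⊥ inferInstance inferInstance
  obtain ⟨v₀, -, hv₀⟩ := Submodule.exists_mem_ne_zero_of_ne_bot hW₁
  have hcomm : ∀ a b : A, a * b = b * a := fun a b => hAc.is_comm.comm a b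
  haveI hcyc : IsCyclic A := isCyclic_of_regular hreg' A hcomm hv₀
  obtain ⟨W₀, hW₀b, hW₀t, hW₀i⟩ := hI A hAn hcyc
  obtain ⟨v, hvW, hv⟩ := Submodule.exists_mem_ne_zero_of_ne_bot hW₀b
  obtain ⟨w, hw⟩ : ∃ w : V, w ∉ W₀ := by
    by_contra hcon
    push Not at hcon
    exact hW₀t (eq_top_iff.mpr fun x _ => hcon x)
  have hle : Wv A v ≤ W₀ := Wv_le A (fun a x hx => hW₀i a a.2 x hx) hvW
  have hw' : w ∉ Wv A v := fun h => hw (hle h)
  have hAle : A ≤ Subgroup.centralizer (A : Set H) := by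
    intro a ha
    rw [Subgroup.mem_centralizer_iff]
    intro b hb
    exact congrArg Subtype.val (hcomm ⟨b, hb⟩ ⟨a, ha⟩)
  have hne : Subgroup.centralizer (A : Set H) ≠ A := by
    intro hC
    have h1 := card_le_of_centralizer_eq A hC
    have h2 := card_H_add_one hreg' hv
    have h3 := card_sq_le hreg' A hv hw'
    have h4 := card_lt_card_Wv hreg' A hv
    have h5 : 0 < Nat.card ↥A := Nat.card_pos
    nlinarith
  have hlt : A < Subgroup.centralizer (A : Set H) := lt_of_le_of_ne hAle (Ne.symm hne)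
  refine ⟨hlt, ?_⟩
  intro hc
  exact hne (hAmax _ inferInstance hc hAle)

end Cfsg.Agent.S0685
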