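import Cfsg.Statements.S0686
import Cfsg.Agent.Lib.Helper17.ZsReg
import Cfsg.Agent.Lib.Helper17.ZsQuat

set_option autoImplicit false
open Cfsg
open Cfsg.Agent.Lib.Helper29.RegLin Cfsg.Agent.Lib.Helper17.RegLinField Cfsg.Agent.Lib.Helper17.Zs
  Cfsg.Agent.Lib.Helper17.ZsReg
open scoped commutatorElement

namespace Cfsg.Agent.S0686

/-- In a linear group over the prime field that is regular on non-zero vectors and has no irreducible cyclic normal subgroup, let `A` be a maximal normal abelian subgroup and `N` a normal subgroup centralising `A` that is minimal among non-abelian normal subgroups centralising `A`. Then `N` is quaternion of order 8 or isomorphic to `SL(2,5)`. -/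
theorem result {p : ℕ} [Fact p.Prime] {V : Type*} [AddCommGroup V] [Module (ZMod p) V] [Finite V] (H : Subgroup (V ≃ₗ[ZMod p] V)) (hreg : ∀ v w : V, v ≠ 0 → w ≠ 0 → ∃! h : H, (h : V ≃ₗ[ZMod p] V) v = w) (hI : ∀ A : Subgroup H, A.Normal → IsCyclic A → ∃ W : Submodule (ZMod p) V, W ≠ ⊥ ∧ W ≠ ⊤ ∧ ∀ a ∈ A, ∀ v ∈ W, ((a : H) : V ≃ₗ[ZMod p] V) v ∈ W) (A : Subgroup H) (hAn : A.Normal) (hAc : IsMulCommutative A) (hAmax : ∀ B : Subgroup H, B.Normal → IsMulCommutative B → A ≤ B → B = A) (N : Subgroup H) (hNn : N.Normal) (hNle : N ≤ Subgroup.centralizer (A : Set H)) (hNna : ¬ IsMulCommutative N) (hNmin : ∀ M : Subgroup H, M.Normal → M ≤ N → ¬ IsMulCommutative M → M = N) : Nonempty (N ≃* QuaternionGroup 2) ∨ Nonempty (N ≃* Matrix.SpecialLinearGroup (Fin 2) (ZMod 5)) := by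
  have _ := hI
  have : Finite (V ≃ₗ[ZMod p] V) :=
    Finite.of_injective (fun f => (f : V → V)) DFunLike.coe_injective
  have hreg' : ∀ v w : V, v ≠ 0 → w ≠ 0 → ∃! h : H, h • v = w := hreg
  have hnaN : ¬ ∀ a b : N, a * b = b * a := fun h => hNna ⟨⟨h⟩⟩
  have hnt : Nontrivial V := by
    by_contra hV
    rw [not_nontrivial_iff_subsingleton] at hV
    apply hnaN
    intro a b
    apply Subtype.ext; apply Subtype.ext
    exact LinearEquiv.ext fun v => Subsingleton.elim _ _
  have hfree := hasFree_of_regular hreg'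
  have hfreeN := hfree.subgroup N
  by_cases hperf : ⁅N, N⁆ = N
  · right
    have hperf' : commutator N = ⊤ := by
      apply Subgroup.map_injective N.subtype_injective
      rw [Subgroup.map_subtype_commutator, hperf, ← MonoidHom.range_eq_map, Subgroup.range_subtype]
    have : Nontrivial N := by
      by_contra hN
      rw [not_nontrivial_iff_subsingleton] at hN
      exact hnaN fun a b => Subsingleton.elim _ _
    exact structure_of_perfect hfreeN hperf'
  · left
    have hN'n : (⁅N, N⁆ : Subgroup H).Normal := inferInstance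
    have hN'le : ⁅N, N⁆ ≤ N := Subgroup.commutator_le_right N N
    have hN'c : IsMulCommutative (⁅N, N⁆ : Subgroup H) := by
      by_contra h
      exact hperf (hNmin _ hN'n hN'le h)
    -- `N' ≤ A`
    have hle : ⁅N, N⁆ ≤ A := by
      have hcomm : ∀ x ∈ ((A : Set H) ∪ (⁅N, N⁆ : Subgroup H)), ∀ y ∈ ((A : Set H) ∪ (⁅N, N⁆ : Subgroup H)),
          x * y = y * x := by
        intro x hx y hy
        rcases hx with hx | hx <;> rcases hy with hy | hy
        · have := mul_comm' (⟨x, hx⟩ : A) ⟨y, hy⟩
          exact congrArg Subtype.val this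
        · have h1 := hNle (hN'le hy)
          rw [Subgroup.mem_centralizer_iff] at h1
          exact h1 x hx
        · have h1 := hNle (hN'le hx)
          rw [Subgroup.mem_centralizer_iff] at h1
          exact (h1 y hy).symm
        · have := mul_comm' (⟨x, hx⟩ : (⁅N, N⁆ : Subgroup H)) ⟨y, hy⟩
          exact congrArg Subtype.val this
      have hsup : A ⊔ ⁅N, N⁆ = Subgroup.closure ((A : Set H) ∪ (⁅N, N⁆ : Subgroup H)) := by
        rw [Subgroup.closure_union, Subgroup.closure_eq, Subgroup.closure_eq]
      have hBc : IsMulCommutative (A ⊔ ⁅N, N⁆ : Subgroup H) := by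
        rw [hsup]
        exact Subgroup.isMulCommutative_closure hcomm
      have hB := hAmax (A ⊔ ⁅N, N⁆) inferInstance hBc le_sup_left
      rw [← hB]
      exact le_sup_right
    -- class two
    have hc2 : ∀ x y w : N, ⁅x, y⁆ * w = w * ⁅x, y⁆ := by
      intro x y w
      apply Subtype.ext
      have hmem : ((⁅x, y⁆ : N) : H) ∈ A := by
        apply hle
        have : ((⁅x, y⁆ : N) : H) = ⁅(x : H), (y : H)⁆ := by
          simp [commutatorElement_def]
        rw [this]
        exact Subgroup.commutator_mem_commutator x.2 y.2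
      have h1 := hNle w.2
      rw [Subgroup.mem_centralizer_iff] at h1
      exact h1 _ hmem
    apply equiv_quaternion_of_class_two hfreeN hnaN hc2
    intro K hK hKna
    have hKn : (K.map N.subtype).Normal := inferInstance
    have hKle : K.map N.subtype ≤ N := Subgroup.map_subtype_le K
    have hKna' : ¬ IsMulCommutative (K.map N.subtype) := by
      intro hc
      apply hKna
      intro a ha b hb
      apply Subtype.ext
      have := mul_comm' (⟨(a : H), ⟨a, ha, rfl⟩⟩ : K.map N.subtype) ⟨(b : H), ⟨b, hb, rfl⟩⟩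
      have h2 := congrArg Subtype.val this
      exact h2
    have hKN := hNmin _ hKn hKle hKna'
    rw [eq_top_iff]
    intro n _
    have hn : (n : H) ∈ K.map N.subtype := by rw [hKN]; exact n.2
    obtain ⟨k, hk, hkn⟩ := hn
    have : k = n := Subtype.ext hkn
    rw [← this]; exact hk

end Cfsg.Agent.S0686
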