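import Cfsg.Statements.S0687
-- import your own Cfsg.Agent.* helpers here
import Cfsg.Agent.Lib.Helper17.RegLinIrr

set_option autoImplicit false
set_option linter.style.haveILetI false
open Cfsg
open Cfsg.Agent.Lib.Helper29.RegLin

namespace Cfsg.Agent.S0687

/-- In a linear group over the prime field that is regular on non-zero vectors and has no irreducible cyclic normal subgroup, a normal subgroup `N` minimal among the non-abelian normal subgroups centralising a maximal normal abelian subgroup `A` is irreducible on `V`, and its centraliser is `A`. -/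
theorem result {p : ℕ} [Fact p.Prime] {V : Type*} [AddCommGroup V] [Module (ZMod p) V] [Finite V] (H : Subgroup (V ≃ₗ[ZMod p] V)) (hreg : ∀ v w : V, v ≠ 0 → w ≠ 0 → ∃! h : H, (h : V ≃ₗ[ZMod p] V) v = w) (hI : ∀ A : Subgroup H, A.Normal → IsCyclic A → ∃ W : Submodule (ZMod p) V, W ≠ ⊥ ∧ W ≠ ⊤ ∧ ∀ a ∈ A, ∀ v ∈ W, ((a : H) : V ≃ₗ[ZMod p] V) v ∈ W) (A : Subgroup H) (hAn : A.Normal) (hAc : IsMulCommutative A) (hAmax : ∀ B : Subgroup H, B.Normal → IsMulCommutative B → A ≤ B → B = A) (N : Subgroup H) (hNn : N.Normal) (hNle : N ≤ Subgroup.centralizer (A : Set H)) (hNna : ¬ IsMulCommutative N) (hNmin : ∀ M : Subgroup H, M.Normal → M ≤ N → ¬ IsMulCommutative M → M = N) : (∀ W : Submodule (ZMod p) V, (∀ n ∈ N, ∀ v ∈ W, ((n : H) : V ≃ₗ[ZMod p] V) v ∈ W) → W = ⊥ ∨ W = ⊤) ∧ Subgroup.centralizer (N : Set H) = A := by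
  haveI := hNn
  haveI := hAn
  haveI : Finite (V ≃ₗ[ZMod p] V) := Finite.of_injective (fun f => (f : V → V)) DFunLike.coe_injective
  have hreg' : ∀ v w : V, v ≠ 0 → w ≠ 0 → ∃! h : H, h • v = w := hreg
  obtain ⟨W₁, hW₁, -, -⟩ := hI ⊥ inferInstance inferInstance
  obtain ⟨v₀, -, hv₀⟩ := Submodule.exists_mem_ne_zero_of_ne_bot hW₁
  have hirr : ∀ W : Submodule (ZMod p) V,
      (∀ n ∈ N, ∀ v ∈ W, ((n : H) : V ≃ₗ[ZMod p] V) v ∈ W) → W = ⊥ ∨ W = ⊤ := by
    intro W hW
    by_contra hcon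
    push Not at hcon
    obtain ⟨hWb, hWt⟩ := hcon
    obtain ⟨v, hvW, hv⟩ := Submodule.exists_mem_ne_zero_of_ne_bot hWb
    obtain ⟨w, hw⟩ : ∃ w : V, w ∉ W := by
      by_contra hcon
      push Not at hcon
      exact hWt (eq_top_iff.mpr fun x _ => hcon x)
    have hle : Wv N v ≤ W := Wv_le N (fun n x hx => hW n n.2 x hx) hvW
    have hw' : w ∉ Wv N v := fun h => hw (hle h)
    apply hNna
    have hcomm := Cfsg.Agent.Lib.Helper17.RegLinIrr.comm_of_reducible hreg' N hv hw'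
    exact ⟨⟨fun a b => Subtype.ext (hcomm a a.2 b b.2)⟩⟩
  refine ⟨hirr, ?_⟩
  have hcomm := Cfsg.Agent.Lib.Helper17.RegLinIrr.comm_centralizer_of_irreducible N hv₀ hirr
  apply hAmax _ inferInstance ⟨⟨fun a b => Subtype.ext (hcomm a a.2 b b.2)⟩⟩
  intro a ha
  rw [Subgroup.mem_centralizer_iff]
  intro n hn
  have := hNle hn
  rw [Subgroup.mem_centralizer_iff] at this
  exact (this a ha).symm

end Cfsg.Agent.S0687
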