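import Cfsg.Statements.S0689
import Cfsg.Agent.Lib.Helper17.ZsReg

set_option autoImplicit false
open Cfsg
open Cfsg.Agent.Lib.Helper29.RegLin Cfsg.Agent.Lib.Helper17.RegLinField Cfsg.Agent.Lib.Helper17.Zs
  Cfsg.Agent.Lib.Helper17.ZsReg

namespace Cfsg.Agent.S0689

theorem zmod_equiv_of_card {M : Type*} [Group M] [IsCyclic M] {n : ℕ} (h : Nat.card M = n) :
    Nonempty (Multiplicative (ZMod n) ≃* M) := by
  subst h
  exact ⟨zmodCyclicMulEquiv inferInstance⟩

/-- The insoluble sharply doubly transitive groups: a non-solvable linear group over the prime field that is regular on the non-zero vectors of `V` occurs only for `|V| = 11², 29², 59²`, and is `SL(2,5) × C_m` with `m = 1, 7, 29` respectively. -/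
theorem result {p : ℕ} [Fact p.Prime] {V : Type*} [AddCommGroup V] [Module (ZMod p) V] [Finite V] (H : Subgroup (V ≃ₗ[ZMod p] V)) (hreg : ∀ v w : V, v ≠ 0 → w ≠ 0 → ∃! h : H, (h : V ≃ₗ[ZMod p] V) v = w) (hsolv : ¬ Group.IsSolvable H) : (Nat.card V = 121 ∧ Nonempty (H ≃* Matrix.SpecialLinearGroup (Fin 2) (ZMod 5))) ∨ (Nat.card V = 841 ∧ Nonempty (H ≃* Matrix.SpecialLinearGroup (Fin 2) (ZMod 5) × Multiplicative (ZMod 7))) ∨ (Nat.card V = 3481 ∧ Nonempty (H ≃* Matrix.SpecialLinearGroup (Fin 2) (ZMod 5) × Multiplicative (ZMod 29))) := by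
  have : Finite (V ≃ₗ[ZMod p] V) :=
    Finite.of_injective (fun f => (f : V → V)) DFunLike.coe_injective
  have hreg' : ∀ v w : V, v ≠ 0 → w ≠ 0 → ∃! h : H, h • v = w := hreg
  have hnt : Nontrivial V := by
    by_contra hV
    rw [not_nontrivial_iff_subsingleton] at hV
    apply hsolv
    have : Subsingleton H :=
      ⟨fun a b => Subtype.ext (LinearEquiv.ext fun v => Subsingleton.elim _ _)⟩
    infer_instance
  obtain ⟨v₀, hv₀⟩ := exists_ne (0 : V)
  have hfreeρ : IsFree (toEnd H) := isFree_toEnd hreg'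
  have hfree := hasFree_of_regular hreg'
  obtain ⟨z, A, hT120, ⟨eS⟩, ⟨i, j, hiT, hjT, hi2, hj2, hij2⟩, M, hMn, hModd, hMcop, hcomm,
    hinf, hidx⟩ := nonsolvable_data hfree hsolv
  have hzneg : toEnd H z = -1 := hfreeρ.neg_one A.z_ne A.z_sq
  have h2 : (2 : ZMod p) ≠ 0 := hfreeρ.two_ne_zero A.z_ne A.z_sq
  have hI : toEnd H i * toEnd H i = -1 := by rw [← map_mul, hi2, hzneg]
  have hJ : toEnd H j * toEnd H j = -1 := by rw [← map_mul, hj2, hzneg]
  have hK : toEnd H i * toEnd H j * (toEnd H i * toEnd H j) = -1 := by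
    rw [← map_mul, ← map_mul, hij2, hzneg]
  obtain ⟨α, β, hαβ⟩ := ZMod.sq_add_sq p (-1)
  obtain ⟨hxx, hxy⟩ := quat_nilpotent hI hJ hK hαβ h2
  obtain ⟨x, hx⟩ : ∃ x : Module.End (ZMod p) V,
    x = α • toEnd H i + β • toEnd H j + toEnd H i * toEnd H j := ⟨_, rfl⟩
  rw [← hx] at hxx hxy
  have hU := card_ker_sq hxx hxy
  -- `M` preserves the kernel of `x`
  have hMU : ∀ a : M, ∀ u ∈ LinearMap.ker x, ((a : H)) • u ∈ LinearMap.ker x := by
    intro a u hu
    have hcI : toEnd H a * toEnd H i = toEnd H i * toEnd H a := by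
      rw [← map_mul, ← map_mul, hcomm i hiT a a.2]
    have hcJ : toEnd H a * toEnd H j = toEnd H j * toEnd H a := by
      rw [← map_mul, ← map_mul, hcomm j hjT a a.2]
    have hcx : x * toEnd H a = toEnd H a * x := by
      rw [hx]
      simp only [add_mul, mul_add, smul_mul_assoc, mul_smul_comm]
      rw [← hcI, ← hcJ, mul_assoc, ← hcJ, ← mul_assoc, ← hcI, mul_assoc]
    rw [LinearMap.mem_ker] at hu ⊢
    have h1 : x (toEnd H a u) = toEnd H a (x u) := by
      have := congrArg (fun f : Module.End (ZMod p) V => f u) hcx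
      exact this
    have h3 : ((a : H)) • u = toEnd H a u := rfl
    rw [h3, h1, hu, map_zero]
  have hdvd := card_dvd_card_sub_one hreg' M (LinearMap.ker x) hMU
  have hH : Nat.card H + 1 = Nat.card V := card_H_add_one hreg' hv₀
  obtain ⟨φ, hφinj, hφrange, -⟩ := card_sup_of_commute (T3 H) M hcomm hinf
  have hcardsup : Nat.card (T3 H ⊔ M : Subgroup H) = 120 * Nat.card M := by
    rw [← hφrange, ← Nat.card_congr (MonoidHom.ofInjective hφinj).toEquiv, Nat.card_prod, hT120]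
  have hHcard : Nat.card H = (T3 H ⊔ M).index * (120 * Nat.card M) := by
    rw [← hcardsup, mul_comm, Subgroup.card_mul_index]
  have hpp : ∃ q k : ℕ, q.Prime ∧ Nat.card (LinearMap.ker x) = q ^ k :=
    ⟨p, Module.finrank (ZMod p) (LinearMap.ker x), Fact.out, by
      rw [Module.natCard_eq_pow_finrank (K := ZMod p), Nat.card_zmod]⟩
  obtain ⟨hi1, hcases⟩ := arith_main (Q := Nat.card (LinearMap.ker x)) (m := Nat.card M)
    (i := (T3 H ⊔ M).index) hidx (by rw [hU, ← hH, hHcard]; ring) hdvd hModd hMcop hpp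
  have htop : T3 H ⊔ M = ⊤ := Subgroup.index_eq_one.mp hi1
  have hφsurj : Function.Surjective φ := by
    rw [← MonoidHom.range_eq_top, hφrange, htop]
  let e : T3 H × M ≃* H := MulEquiv.ofBijective φ ⟨hφinj, hφsurj⟩
  rcases hcases with ⟨hQ, hm⟩ | ⟨hQ, hm⟩ | ⟨hQ, hm⟩
  · left
    refine ⟨by rw [← hU, hQ], ?_⟩
    have : Subsingleton M := (Nat.card_eq_one_iff_unique.mp hm).1
    have : Unique M := ⟨⟨1⟩, fun a => Subsingleton.elim _ _⟩
    exact ⟨(e.symm.trans MulEquiv.prodUnique).trans eS⟩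
  · right; left
    refine ⟨by rw [← hU, hQ], ?_⟩
    have : Fact (Nat.Prime 7) := ⟨by norm_num⟩
    have hcyc : IsCyclic M := isCyclic_of_prime_card hm
    obtain ⟨eM⟩ := zmod_equiv_of_card (M := M) hm
    exact ⟨e.symm.trans (MulEquiv.prodCongr eS eM.symm)⟩
  · right; right
    refine ⟨by rw [← hU, hQ], ?_⟩
    have : Fact (Nat.Prime 29) := ⟨by norm_num⟩
    have hcyc : IsCyclic M := isCyclic_of_prime_card hm
    obtain ⟨eM⟩ := zmod_equiv_of_card (M := M) hm
    exact ⟨e.symm.trans (MulEquiv.prodCongr eS eM.symm)⟩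

end Cfsg.Agent.S0689
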