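import Cfsg.Statements.S0691
import Mathlib
import Cfsg.Agent.Lib.Helper5.MatList

set_option autoImplicit false
open Cfsg
open Cfsg.Agent.Lib.Helper5.MatList

namespace Cfsg.Agent.S0691

def gens : List T := [(2, 0, 0, 3), (0, 4, 1, 0), (1, 2, 1, 3)]

def words : List (List ℕ) := [[], [0], [1], [2], [0, 0], [1, 0], [2, 0], [0, 1], [2, 1], [1, 2], [2, 2], [0, 0, 0], [1, 0, 0], [2, 0, 0], [1, 2, 0], [2, 2, 0], [2, 0, 1], [2, 2, 1], [0, 1, 2], [2, 1, 2], [2, 2, 0, 0], [2, 1, 2, 0], [2, 2, 0, 1], [2, 0, 1, 2]]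

/-- An exceptional sharply doubly transitive group of degree 5^2: the listed matrices generate a subgroup of GL(2,5) of order 24 acting regularly on the non-zero vectors. -/
theorem result (A : Matrix.GeneralLinearGroup (Fin 2) (ZMod 5)) (B : Matrix.GeneralLinearGroup (Fin 2) (ZMod 5)) (C : Matrix.GeneralLinearGroup (Fin 2) (ZMod 5)) (hA : (A : Matrix (Fin 2) (Fin 2) (ZMod 5)) = !![2, 0; 0, -2]) (hB : (B : Matrix (Fin 2) (Fin 2) (ZMod 5)) = !![0, -1; 1, 0]) (hC : (C : Matrix (Fin 2) (Fin 2) (ZMod 5)) = !![1, 2; 1, -2]) : Nat.card (Subgroup.closure ({A, B, C} : Set (Matrix.GeneralLinearGroup (Fin 2) (ZMod 5)))) = 24 ∧ ∀ v w : Fin 2 → ZMod 5, v ≠ 0 → w ≠ 0 → ∃! h : Subgroup.closure ({A, B, C} : Set (Matrix.GeneralLinearGroup (Fin 2) (ZMod 5))), Matrix.mulVec ((h : Matrix.GeneralLinearGroup (Fin 2) (ZMod 5)) : Matrix (Fin 2) (Fin 2) (ZMod 5)) v = w := by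
  have : Fact (Nat.Prime 5) := ⟨by norm_num⟩
  have hS : ∀ g ∈ ({A, B, C} : Set (Matrix.GeneralLinearGroup (Fin 2) (ZMod 5))), ∃ t ∈ gens,
      (g : Matrix (Fin 2) (Fin 2) (ZMod 5)) = toMat 5 t := by
    intro g hg
    simp only [Set.mem_insert_iff, Set.mem_singleton_iff] at hg
    rcases hg with rfl | rfl | rfl
    · refine ⟨(2, 0, 0, 3), by decide, ?_⟩
      rw [hA]; ext i j; fin_cases i <;> fin_cases j <;> simp [toMat] <;> decide
    · refine ⟨(0, 4, 1, 0), by decide, ?_⟩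
      rw [hB]; ext i j; fin_cases i <;> fin_cases j <;> simp [toMat] <;> decide
    · refine ⟨(1, 2, 1, 3), by decide, ?_⟩
      rw [hC]; ext i j; fin_cases i <;> fin_cases j <;> simp [toMat] <;> decide
  have hS' : ∀ t ∈ gens, ∃ g ∈ ({A, B, C} : Set (Matrix.GeneralLinearGroup (Fin 2) (ZMod 5))),
      (g : Matrix (Fin 2) (Fin 2) (ZMod 5)) = toMat 5 t := by
    intro t ht
    simp only [gens, List.mem_cons, List.not_mem_nil, or_false] at ht
    rcases ht with rfl | rfl | rfl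
    · refine ⟨A, by simp, ?_⟩
      rw [hA]; ext i j; fin_cases i <;> fin_cases j <;> simp [toMat] <;> decide
    · refine ⟨B, by simp, ?_⟩
      rw [hB]; ext i j; fin_cases i <;> fin_cases j <;> simp [toMat] <;> decide
    · refine ⟨C, by simp, ?_⟩
      rw [hC]; ext i j; fin_cases i <;> fin_cases j <;> simp [toMat] <;> decide
  have h1 : oneT ∈ words.map (ev 5 gens) := by decide +kernel
  have h2 : ∀ t ∈ gens, ∀ x ∈ words.map (ev 5 gens), mulT 5 t x ∈ words.map (ev 5 gens) := by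
    decide +kernel
  have h3 : ∀ x ∈ words.map (ev 5 gens), red 5 x := by decide +kernel
  have h4 : (words.map (ev 5 gens)).Nodup := by decide +kernel
  have h5 : ∀ x ∈ words.map (ev 5 gens), x = oneT ∨ fpf 5 x := by decide +kernel
  have h6 : words.length = 5 ^ 2 - 1 := by decide +kernel
  have key := final _ gens words hS hS' h1 h2 h3 h4 h5 h6
  rw [h6] at key
  exact key

end Cfsg.Agent.S0691
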