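import Cfsg.Statements.S0693
import Mathlib
import Cfsg.Agent.Lib.Helper5.MatList

set_option autoImplicit false
open Cfsg
open Cfsg.Agent.Lib.Helper5.MatList

namespace Cfsg.Agent.S0693

def gens : List T := [(0, 58, 1, 0), (9, 15, 49, 49)]

def words : List (List ℕ) := [[], [0], [1], [0, 0], [1, 0], [0, 1], [1, 1], [0, 0, 0], [1, 0, 0], [0, 1, 0], [1, 1, 0], [1, 0, 1], [0, 1, 1], [1, 0, 0, 0], [0, 1, 0, 0], [1, 1, 0, 0], [1, 0, 1, 0], [0, 1, 1, 0], [0, 1, 0, 1], [1, 1, 0, 1], [1, 0, 1, 1], [0, 1, 0, 0, 0], [1, 1, 0, 0, 0], [1, 0, 1, 0, 0], [0, 1, 1, 0, 0], [0, 1, 0, 1, 0], [1, 1, 0, 1, 0], [1, 0, 1, 1, 0], [1, 0, 1, 0, 1], [0, 1, 1, 0, 1], [0, 1, 0, 1, 1], [1, 1, 0, 1, 1], [1, 0, 1, 0, 0, 0], [0, 1, 1, 0, 0, 0], [0, 1, 0, 1, 0, 0], [1, 1, 0, 1, 0, 0], [1, 0, 1, 1, 0, 0], [1, 0, 1, 0, 1, 0], [0, 1, 1, 0, 1, 0], [0, 1, 0, 1, 1, 0], [1, 1, 0, 1, 1, 0], [1,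 1, 0, 1, 0, 1], [1, 0, 1, 1, 0, 1], [1, 0, 1, 0, 1, 1], [0, 1, 0, 1, 0, 0, 0], [1, 1, 0, 1, 0, 0, 0], [1, 0, 1, 1, 0, 0, 0], [1, 0, 1, 0, 1, 0, 0], [0, 1, 1, 0, 1, 0, 0], [0, 1, 0, 1, 1, 0, 0], [1, 1, 0, 1, 1, 0, 0], [1, 1, 0, 1, 0, 1, 0], [1, 0, 1, 1, 0, 1, 0], [1, 0, 1, 0, 1, 1, 0], [0, 1, 1, 0, 1, 0, 1], [0, 1, 0, 1, 1, 0, 1], [1, 1, 0, 1, 1, 0, 1], [1, 1, 0, 1, 0, 1, 1], [1, 0, 1, 0, 1, 0, 0, 0], [0, 1, 1, 0, 1, 0, 0, 0], [0, 1, 0, 1, 1, 0, 0, 0], [1, 1, 0, 1, 1, 0, 0, 0], [1, 1, 0, 1, 0, 1, 0, 0], [1, 0, 1, 1, 0, 1, 0, 0], [1, 0, 1, 0, 1, 1, 0, 0], [0, 1, 1, 0, 1, 0, 1, 0], [0, 1, 0, 1, 1, 0, 1, 0], [1, 1, 0, 1, 1, 0, 1, 0], [1, 1, 0, 1, 0, 1, 1, 0], [1, 0, 1, 1, 0, 1, 0, 1], [1, 0, 1, 0, 1, 1, 0, 1], [0, 1, 1, 0, 1, 0, 1, 1], [1, 1, 0, 1, 0, 1, 0, 0, 0], [1, 0, 1, 1, 0, 1, 0, 0, 0], [1, 0, 1, 0, 1, 1, 0, 0, 0], [0, 1, 1, 0, 1, 0, 1, 0, 0], [0, 1,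 0, 1, 1, 0, 1, 0, 0], [1, 1, 0, 1, 1, 0, 1, 0, 0], [1, 1, 0, 1, 0, 1, 1, 0, 0], [1, 0, 1, 1, 0, 1, 0, 1, 0], [1, 0, 1, 0, 1, 1, 0, 1, 0], [0, 1, 1, 0, 1, 0, 1, 1, 0], [0, 1, 0, 1, 1, 0, 1, 0, 1], [1, 1, 0, 1, 1, 0, 1, 0, 1], [1, 1, 0, 1, 0, 1, 1, 0, 1], [1, 0, 1, 1, 0, 1, 0, 1, 1], [0, 1, 1, 0, 1, 0, 1, 0, 0, 0], [0, 1, 0, 1, 1, 0, 1, 0, 0, 0], [1, 1, 0, 1, 1, 0, 1, 0, 0, 0], [1, 1, 0, 1, 0, 1, 1, 0, 0, 0], [1, 0, 1, 1, 0, 1, 0, 1, 0, 0], [1, 0, 1, 0, 1, 1, 0, 1, 0, 0], [0, 1, 1, 0, 1, 0, 1, 1, 0, 0], [0, 1, 0, 1, 1, 0, 1, 0, 1, 0], [1, 1, 0, 1, 1, 0, 1, 0, 1, 0], [1, 1, 0, 1, 0, 1, 1, 0, 1, 0], [1, 0, 1, 1, 0, 1, 0, 1, 1, 0], [1, 0, 1, 0, 1, 1, 0, 1, 0, 1], [0, 1, 1, 0, 1, 0, 1, 1, 0, 1], [0, 1, 0, 1, 1, 0, 1, 0, 1, 1], [1, 0, 1, 1, 0, 1, 0, 1, 0, 0, 0], [1, 0, 1, 0, 1, 1, 0, 1, 0, 0, 0], [0, 1, 0, 1, 1, 0, 1, 0, 1, 0, 0], [1, 1, 0, 1, 1, 0, 1, 0, 1,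 0, 0], [1, 1, 0, 1, 0, 1, 1, 0, 1, 0, 0], [1, 0, 1, 1, 0, 1, 0, 1, 1, 0, 0], [0, 1, 1, 0, 1, 0, 1, 1, 0, 1, 0], [0, 1, 0, 1, 1, 0, 1, 0, 1, 1, 0], [1, 1, 0, 1, 0, 1, 1, 0, 1, 0, 1], [1, 0, 1, 1, 0, 1, 0, 1, 1, 0, 1], [1, 0, 1, 0, 1, 1, 0, 1, 0, 1, 1], [0, 1, 0, 1, 1, 0, 1, 0, 1, 0, 0, 0], [1, 1, 0, 1, 1, 0, 1, 0, 1, 0, 0, 0], [1, 1, 0, 1, 0, 1, 1, 0, 1, 0, 0, 0], [0, 1, 0, 1, 1, 0, 1, 0, 1, 1, 0, 0], [1, 0, 1, 1, 0, 1, 0, 1, 1, 0, 1, 0], [1, 0, 1, 0, 1, 1, 0, 1, 0, 1, 1, 0], [0, 1, 1, 0, 1, 0, 1, 1, 0, 1, 0, 1], [0, 1, 0, 1, 1, 0, 1, 0, 1, 1, 0, 1], [1, 1, 0, 1, 0, 1, 1, 0, 1, 0, 1, 1]]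

lemma toMat_scalar (p s : ℕ) : toMat p (s, 0, 0, s) = (s : ZMod p) • (1 : Matrix (Fin 2) (Fin 2) (ZMod p)) := by
  ext i j
  fin_cases i <;> fin_cases j <;> simp [toMat]

lemma four_pow : (4 : ZMod 59) ^ 29 = 1 := by decide +kernel

lemma four_ne_one : ¬ (4 : ZMod 59) = 1 := by decide +kernel

/-- An exceptional sharply doubly transitive group of degree 59^2: the listed matrices generate a subgroup of GL(2,59) of order 3480 acting regularly on the non-zero vectors. -/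
theorem result (A : Matrix.GeneralLinearGroup (Fin 2) (ZMod 59)) (B : Matrix.GeneralLinearGroup (Fin 2) (ZMod 59)) (C : Matrix.GeneralLinearGroup (Fin 2) (ZMod 59)) (hA : (A : Matrix (Fin 2) (Fin 2) (ZMod 59)) = !![0, -1; 1, 0]) (hB : (B : Matrix (Fin 2) (Fin 2) (ZMod 59)) = !![9, 15; -10, -10]) (hC : (C : Matrix (Fin 2) (Fin 2) (ZMod 59)) = !![4, 0; 0, 4]) : Nat.card (Subgroup.closure ({A, B, C} : Set (Matrix.GeneralLinearGroup (Fin 2) (ZMod 59)))) = 3480 ∧ ∀ v w : Fin 2 → ZMod 59, v ≠ 0 → w ≠ 0 → ∃! h : Subgroup.closure ({A, B, C} : Set (Matrix.GeneralLinearGroup (Fin 2) (ZMod 59))), Matrix.mulVec ((h : Matrix.GeneralLinearGroup (Fin 2) (ZMod 59)) : Matrix (Fin 2) (Fin 2) (ZMod 59)) v = w := by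
  have : Fact (Nat.Prime 59) := ⟨by norm_num⟩
  have : Fact (Nat.Prime 29) := ⟨by norm_num⟩
  have hS : ∀ g ∈ ({A, B} : Set (Matrix.GeneralLinearGroup (Fin 2) (ZMod 59))), ∃ t ∈ gens,
      (g : Matrix (Fin 2) (Fin 2) (ZMod 59)) = toMat 59 t := by
    intro g hg
    simp only [Set.mem_insert_iff, Set.mem_singleton_iff] at hg
    rcases hg with rfl | rfl
    · refine ⟨(0, 58, 1, 0), by decide, ?_⟩
      rw [hA]; ext i j; fin_cases i <;> fin_cases j <;> simp [toMat] <;> decide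
    · refine ⟨(9, 15, 49, 49), by decide, ?_⟩
      rw [hB]; ext i j; fin_cases i <;> fin_cases j <;> simp [toMat] <;> decide
  have hS' : ∀ t ∈ gens, ∃ g ∈ ({A, B} : Set (Matrix.GeneralLinearGroup (Fin 2) (ZMod 59))),
      (g : Matrix (Fin 2) (Fin 2) (ZMod 59)) = toMat 59 t := by
    intro t ht
    simp only [gens, List.mem_cons, List.not_mem_nil, or_false] at ht
    rcases ht with rfl | rfl
    · refine ⟨A, by simp, ?_⟩
      rw [hA]; ext i j; fin_cases i <;> fin_cases j <;> simp [toMat] <;> decide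
    · refine ⟨B, by simp, ?_⟩
      rw [hB]; ext i j; fin_cases i <;> fin_cases j <;> simp [toMat] <;> decide
  have h1 : oneT ∈ words.map (ev 59 gens) := by decide +kernel
  have h2 : ∀ t ∈ gens, ∀ x ∈ words.map (ev 59 gens), mulT 59 t x ∈ words.map (ev 59 gens) := by
    decide +kernel
  have h3 : ∀ x ∈ words.map (ev 59 gens), red 59 x := by decide +kernel
  have h4 : (words.map (ev 59 gens)).Nodup := by decide +kernel
  have h5 : ∀ i ∈ List.range 29, ∀ x ∈ words.map (ev 59 gens), (i = 0 ∧ x = oneT) ∨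
      fpf 59 (mulT 59 (4 ^ i % 59, 0, 0, 4 ^ i % 59) x) := by decide +kernel
  have h6 : words.length = 120 := by decide +kernel
  have hK : Nat.card (Subgroup.closure ({A, B} : Set (Matrix.GeneralLinearGroup (Fin 2) (ZMod 59))))
      = 120 := by
    rw [card_closure _ gens words hS hS' h1 h2 h3 h4, h6]
  -- C is a central scalar of order 29
  have hCv : (C : Matrix (Fin 2) (Fin 2) (ZMod 59)) = (4 : ZMod 59) • (1 : Matrix (Fin 2) (Fin 2) (ZMod 59)) := by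
    rw [hC]; ext i j; fin_cases i <;> fin_cases j <;> simp
  have hCpow : ∀ n : ℕ, ((C ^ n : Matrix.GeneralLinearGroup (Fin 2) (ZMod 59)) :
      Matrix (Fin 2) (Fin 2) (ZMod 59)) = ((4 : ZMod 59) ^ n) • (1 : Matrix (Fin 2) (Fin 2) (ZMod 59)) := by
    intro n
    rw [Units.val_pow_eq_pow_val, hCv, smul_pow, one_pow]
  have hCc : ∀ g : Matrix.GeneralLinearGroup (Fin 2) (ZMod 59), g * C = C * g := by
    intro g
    apply Units.ext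
    rw [Units.val_mul, Units.val_mul, hCv]
    simp
  have hC29 : C ^ 29 = 1 := by
    apply Units.ext
    rw [hCpow 29]
    rw [four_pow, one_smul]; rfl
  have hC1 : C ≠ 1 := by
    intro h
    have := congrArg (fun g : Matrix.GeneralLinearGroup (Fin 2) (ZMod 59) =>
      (g : Matrix (Fin 2) (Fin 2) (ZMod 59)) 0 0) h
    simp only [hC] at this
    revert this
    simp
    exact four_ne_one
  have hCord : orderOf C = 29 := orderOf_eq_prime hC29 hC1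
  -- decomposition of H
  have hset : ({A, B, C} : Set (Matrix.GeneralLinearGroup (Fin 2) (ZMod 59))) = {A, B} ∪ {C} := by
    ext g
    simp only [Set.mem_insert_iff, Set.mem_singleton_iff, Set.mem_union]
    constructor
    · rintro (h | h | h)
      exacts [Or.inl (Or.inl h), Or.inl (Or.inr h), Or.inr h]
    · rintro ((h | h) | h)
      exacts [Or.inl h, Or.inr (Or.inl h), Or.inr (Or.inr h)]
  have hZn : (Subgroup.zpowers C).Normal := by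
    constructor
    intro z hz g
    have : g * z * g⁻¹ = z := by
      obtain ⟨k, rfl⟩ := Subgroup.mem_zpowers_iff.1 hz
      have hcomm : Commute g C := hCc g
      have := (hcomm.zpow_right k).eq
      rw [this, mul_inv_cancel_right]
    rw [this]; exact hz
  have hdecomp : ∀ h ∈ Subgroup.closure ({A, B, C} : Set (Matrix.GeneralLinearGroup (Fin 2) (ZMod 59))),
      ∃ k ∈ Subgroup.closure ({A, B} : Set (Matrix.GeneralLinearGroup (Fin 2) (ZMod 59))),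
      ∃ i < 29, h = k * C ^ i := by
    intro h hh
    rw [hset, Subgroup.closure_union, ← Subgroup.zpowers_eq_closure] at hh
    have hh' : h ∈ ((Subgroup.closure ({A, B} : Set (Matrix.GeneralLinearGroup (Fin 2) (ZMod 59)))
        ⊔ Subgroup.zpowers C : Subgroup _) : Set (Matrix.GeneralLinearGroup (Fin 2) (ZMod 59))) := hh
    rw [Subgroup.mul_normal] at hh'
    obtain ⟨k, hk, z, hz, rfl⟩ := Set.mem_mul.1 hh'
    have hfin : IsOfFinOrder C := isOfFinOrder_iff_pow_eq_one.2 ⟨29, by norm_num, hC29⟩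
    have hz' : z ∈ Subgroup.zpowers C := hz
    rw [hfin.mem_zpowers_iff_mem_range_orderOf, hCord] at hz'
    obtain ⟨i, hi, rfl⟩ := Finset.mem_image.1 hz'
    exact ⟨k, hk, i, Finset.mem_range.1 hi, rfl⟩
  have hfpf : ∀ h ∈ Subgroup.closure ({A, B, C} : Set (Matrix.GeneralLinearGroup (Fin 2) (ZMod 59))),
      h ≠ 1 → ((h : Matrix (Fin 2) (Fin 2) (ZMod 59)) - 1).det ≠ 0 := by
    intro h hh hne
    obtain ⟨k, hk, i, hi, rfl⟩ := hdecomp h hh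
    obtain ⟨x, hx, hxm⟩ := mem_list_of_mem_closure _ gens _ hS h1 h2 k hk
    have hval : ((k * C ^ i : Matrix.GeneralLinearGroup (Fin 2) (ZMod 59)) :
        Matrix (Fin 2) (Fin 2) (ZMod 59)) = toMat 59 (mulT 59 (4 ^ i % 59, 0, 0, 4 ^ i % 59) x) := by
      rw [toMat_mulT, toMat_scalar, Units.val_mul, hCpow, hxm]
      simp [ZMod.natCast_mod]
    rcases h5 i (List.mem_range.2 hi) x hx with ⟨rfl, rfl⟩ | hf
    · exfalso
      apply hne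
      apply Units.ext
      rw [hval, toMat_mulT, toMat_oneT, mul_one]
      exact toMat_oneT 59
    · rw [hval]
      exact det_sub_one_ne_zero (by norm_num) hf
  have hle := card_le_of_fpf _ hfpf
  have hd1 : 120 ∣ Nat.card (Subgroup.closure ({A, B, C} : Set (Matrix.GeneralLinearGroup (Fin 2) (ZMod 59)))) := by
    rw [← hK]
    apply Subgroup.card_dvd_of_le
    apply Subgroup.closure_mono
    intro g hg
    simp only [Set.mem_insert_iff, Set.mem_singleton_iff] at hg ⊢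
    rcases hg with h | h
    exacts [Or.inl h, Or.inr (Or.inl h)]
  have hd2 : 29 ∣ Nat.card (Subgroup.closure ({A, B, C} : Set (Matrix.GeneralLinearGroup (Fin 2) (ZMod 59)))) := by
    rw [← hCord]
    apply Subgroup.orderOf_dvd_natCard
    apply Subgroup.subset_closure
    simp
  have hd : 120 * 29 ∣ Nat.card (Subgroup.closure ({A, B, C} : Set (Matrix.GeneralLinearGroup (Fin 2) (ZMod 59)))) :=
    Nat.Coprime.mul_dvd_of_dvd_of_dvd (by norm_num) hd1 hd2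
  have hpos : 0 < Nat.card (Subgroup.closure ({A, B, C} : Set (Matrix.GeneralLinearGroup (Fin 2) (ZMod 59)))) :=
    Nat.card_pos
  have hcard : Nat.card (Subgroup.closure ({A, B, C} : Set (Matrix.GeneralLinearGroup (Fin 2) (ZMod 59)))) = 3480 := by
    have h7 := Nat.le_of_dvd hpos hd
    have e1 : 59 ^ 2 - 1 = 3480 := by norm_num
    have e2 : 120 * 29 = 3480 := by norm_num
    rw [e1] at hle
    rw [e2] at h7
    exact le_antisymm hle h7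
  refine ⟨hcard, fun v w hv hw => ?_⟩
  exact regular_of_card _ hfpf (by rw [hcard]; norm_num) v w hv hw

end Cfsg.Agent.S0693
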