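import Cfsg.Statements.S0695
import Mathlib

set_option autoImplicit false
open Cfsg
open MulAction SubMulAction
open scoped Pointwise

namespace Cfsg.Agent.S0695

/-- A regular normal subgroup of a doubly primitive group of finite degree at least 2 is an elementary abelian 2-group (and the degree is a power of 2), unless the degree is 3. -/
theorem result {G : Type*} [Group G] {X : Type*} [Fintype X] [MulAction G X] (hX : 2 ≤ Fintype.card X) (h2 : MulAction.IsMultiplyPreprimitive G X 2) (N : Subgroup G) [N.Normal] (htrans : MulAction.IsPretransitive N X) (hreg : ∀ x : X, MulAction.stabilizer N x = ⊥) : Fintype.card X = 3 ∨ (IsMulCommutative N ∧ (∀ n ∈ N, n ^ 2 = 1) ∧ ∃ m : ℕ, Fintype.card X = 2 ^ m) := by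
  classical
  have hNn : N.Normal := inferInstance
  by_cases h3 : Fintype.card X = 3
  · left; exact h3
  right
  have hne : Nonempty X := Fintype.card_pos_iff.mp (by omega)
  obtain ⟨a⟩ := hne
  have hregN : ∀ n ∈ N, ∀ x : X, n • x = x → n = 1 := by
    intro n hn x hx
    have : (⟨n, hn⟩ : N) ∈ stabilizer N x := mem_stabilizer_iff.mpr hx
    rw [hreg x, Subgroup.mem_bot] at this
    exact congrArg Subtype.val this
  have h2t : IsMultiplyPretransitive G X 2 := IsMultiplyPreprimitive.isMultiplyPretransitive G X 2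
  have htr : IsPretransitive G X := isPretransitive_of_is_two_pretransitive
  have hprim : IsPreprimitive (stabilizer G a) (ofStabilizer G a) := by
    have h2' : IsMultiplyPreprimitive G X (Nat.succ 1) := h2
    exact (is_one_preprimitive_iff (stabilizer G a) (ofStabilizer G a)).mp
      (isMultiplyPreprimitive_ofStabilizer (M := G) (α := X) (n := 1) (a := a))
  have key : ∀ n ∈ N, n ^ 2 = 1 := by
    intro n hn
    by_contra hn2
    have hn1 : n ≠ 1 := by
      intro h; apply hn2; rw [h, one_pow]
    have hna : n • a ≠ a := fun h => hn1 (hregN n hn a h)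
    have hnia : n⁻¹ • a ≠ a := by
      intro h
      apply hna
      rw [inv_smul_eq_iff] at h
      exact h.symm
    have hnne : n • a ≠ n⁻¹ • a := by
      intro h
      apply hn2
      apply hregN _ (N.pow_mem hn 2) a
      rw [pow_two, mul_smul, h, smul_inv_smul]
    let B : Set (ofStabilizer G a) := {x | (x : X) = n • a ∨ (x : X) = n⁻¹ • a}
    have hB : IsBlock (stabilizer G a) B := by
      rw [isBlock_iff_smul_eq_or_disjoint]
      intro g
      have hga : (g : G) • a = a := g.2
      have hgia : (g : G)⁻¹ • a = a := by rw [inv_smul_eq_iff, hga]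
      have hconj : ∀ m : G, (g : G) • (m • a) = ((g : G) * m * (g : G)⁻¹) • a := by
        intro m
        rw [mul_smul, mul_smul, hgia]
      have hmem : ∀ x : ofStabilizer G a, x ∈ g • B ↔
          ((x : X) = ((g : G) * n * (g : G)⁻¹) • a ∨ (x : X) = ((g : G) * n⁻¹ * (g : G)⁻¹) • a) := by
        intro x
        rw [Set.mem_smul_set_iff_inv_smul_mem]
        show ((g : G)⁻¹ • (x : X) = n • a ∨ (g : G)⁻¹ • (x : X) = n⁻¹ • a) ↔ _
        rw [inv_smul_eq_iff, inv_smul_eq_iff, hconj, hconj]
      have hn'N : (g : G) * n * (g : G)⁻¹ ∈ N := hNn.conj_mem n hn g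
      have hn'iN : (g : G) * n⁻¹ * (g : G)⁻¹ ∈ N := hNn.conj_mem n⁻¹ (N.inv_mem hn) g
      have hinv : (g : G) * n⁻¹ * (g : G)⁻¹ = ((g : G) * n * (g : G)⁻¹)⁻¹ := by group
      have heq : ∀ m₁ ∈ N, ∀ m₂ ∈ N, m₁ • a = m₂ • a → m₁ = m₂ := by
        intro m₁ h₁ m₂ h₂ h
        have : m₂⁻¹ * m₁ = 1 := by
          apply hregN _ (N.mul_mem (N.inv_mem h₂) h₁) a
          rw [mul_smul, h, inv_smul_smul]
        calc m₁ = m₂ * (m₂⁻¹ * m₁) := by group
          _ = m₂ := by rw [this, mul_one]
      by_cases hc : (g : G) * n * (g : G)⁻¹ = n ∨ (g : G) * n * (g : G)⁻¹ = n⁻¹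
      · left
        ext x
        rw [hmem, hinv]
        rcases hc with hc | hc
        · rw [hc]; rfl
        · rw [hc, inv_inv]
          show _ ↔ ((x : X) = n • a ∨ (x : X) = n⁻¹ • a)
          tauto
      · right
        push Not at hc
        rw [Set.disjoint_left]
        intro x hx hxB
        rw [hmem, hinv] at hx
        have hxB' : (x : X) = n • a ∨ (x : X) = n⁻¹ • a := hxB
        rcases hx with hx | hx <;> rcases hxB' with hxB' | hxB'
        · exact hc.1 (heq _ hn'N _ hn (hx.symm.trans hxB'))
        · exact hc.2 (heq _ hn'N _ (N.inv_mem hn) (hx.symm.trans hxB'))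
        · have := heq _ (N.inv_mem hn'N) _ hn (hx.symm.trans hxB')
          exact hc.2 (inv_eq_iff_eq_inv.mp this)
        · apply hc.1
          have := heq _ (N.inv_mem hn'N) _ (N.inv_mem hn) (hx.symm.trans hxB')
          exact inv_injective this
    have hmem1 : (⟨n • a, (mem_ofStabilizer_iff G a).mpr hna⟩ : ofStabilizer G a) ∈ B := Or.inl rfl
    have hmem2 : (⟨n⁻¹ • a, (mem_ofStabilizer_iff G a).mpr hnia⟩ : ofStabilizer G a) ∈ B :=
      Or.inr rfl
    rcases hprim.isTrivialBlock_of_isBlock hB with hsub | huniv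
    · exact hnne (congrArg Subtype.val (hsub hmem1 hmem2))
    · apply h3
      have hall : ∀ x : X, x = a ∨ x = n • a ∨ x = n⁻¹ • a := by
        intro x
        by_cases hxa : x = a
        · left; exact hxa
        · right
          have : (⟨x, (mem_ofStabilizer_iff G a).mpr hxa⟩ : ofStabilizer G a) ∈ B := by
            rw [huniv]; trivial
          exact this
      have huniv' : (Finset.univ : Finset X) = {a, n • a, n⁻¹ • a} := by
        ext x
        simp only [Finset.mem_univ, Finset.mem_insert, Finset.mem_singleton, true_iff]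
        exact hall x
      rw [← Finset.card_univ, huniv', Finset.card_insert_of_notMem, Finset.card_insert_of_notMem,
        Finset.card_singleton]
      · simpa using hnne
      · simp only [Finset.mem_insert, Finset.mem_singleton, not_or]
        exact ⟨Ne.symm hna, Ne.symm hnia⟩
  have hcomm : ∀ u ∈ N, ∀ v ∈ N, u * v = v * u := by
    intro u hu v hv
    have h1 := key u hu
    have h2 := key v hv
    have h3 := key (u * v) (N.mul_mem hu hv)
    have hui : u⁻¹ = u := by
      rw [inv_eq_iff_mul_eq_one, ← pow_two, h1]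
    have hvi : v⁻¹ = v := by
      rw [inv_eq_iff_mul_eq_one, ← pow_two, h2]
    have huvi : (u * v)⁻¹ = u * v := by
      rw [inv_eq_iff_mul_eq_one, ← pow_two, h3]
    rw [← huvi, mul_inv_rev, hui, hvi]
  refine ⟨⟨⟨fun u v => Subtype.ext (hcomm u u.2 v v.2)⟩⟩, key, ?_⟩
  -- cardinality
  have hcardN : Nat.card N = Fintype.card X := by
    have hbij : Function.Bijective (fun n : N => (n : G) • a) := by
      constructor
      · intro m₁ m₂ h
        have h' : (m₁ : G) • a = (m₂ : G) • a := h
        have : (m₂ : G)⁻¹ * m₁ = 1 := by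
          apply hregN _ (N.mul_mem (N.inv_mem m₂.2) m₁.2) a
          rw [mul_smul, h', inv_smul_smul]
        apply Subtype.ext
        calc (m₁ : G) = m₂ * ((m₂ : G)⁻¹ * m₁) := by group
          _ = m₂ := by rw [this, mul_one]
      · intro x
        obtain ⟨m, hm⟩ := htrans.exists_smul_eq a x
        exact ⟨m, hm⟩
    rw [Nat.card_congr (Equiv.ofBijective _ hbij), Nat.card_eq_fintype_card]
  have hpg : IsPGroup 2 N := by
    intro g
    refine ⟨1, ?_⟩
    rw [pow_one]
    exact Subtype.ext (key g g.2)
  have hfinN : Finite N := Nat.finite_of_card_ne_zero (by rw [hcardN]; omega)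
  obtain ⟨m, hm⟩ := IsPGroup.iff_card.mp hpg
  exact ⟨m, by rw [← hcardN, hm]⟩

end Cfsg.Agent.S0695
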