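import Cfsg.Statements.S0696
import Mathlib
import Cfsg.Agent.S0695

set_option autoImplicit false
open Cfsg
open MulAction SubMulAction
open scoped Pointwise

namespace Cfsg.Agent.S0696

/-- A triply primitive group of degree at least 3 having a regular normal subgroup has degree 3 or 4. -/
theorem result {G : Type*} [Group G] {X : Type*} [Fintype X] [MulAction G X] (hX : 3 ≤ Fintype.card X) (h3 : MulAction.IsMultiplyPreprimitive G X 3) (N : Subgroup G) [N.Normal] (htrans : MulAction.IsPretransitive N X) (hreg : ∀ x : X, MulAction.stabilizer N x = ⊥) : Fintype.card X = 3 ∨ Fintype.card X = 4 := by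
  classical
  have hNn : N.Normal := inferInstance
  by_cases hc3 : Fintype.card X = 3
  · left; exact hc3
  right
  have h2 : IsMultiplyPreprimitive G X 2 := by
    apply isMultiplyPreprimitive_of_le G X h3 (by norm_num)
    rw [ENat.card_eq_coe_fintype_card]
    exact_mod_cast hX
  rcases Cfsg.Agent.S0695.result (by omega) h2 N htrans hreg with h | ⟨-, hexp, -⟩
  · exact absurd h hc3
  by_contra hc4
  have hregN : ∀ n ∈ N, ∀ x : X, n • x = x → n = 1 := by
    intro n hn x hx
    have : (⟨n, hn⟩ : N) ∈ stabilizer N x := mem_stabilizer_iff.mpr hx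
    rw [hreg x, Subgroup.mem_bot] at this
    exact congrArg Subtype.val this
  -- three points
  obtain ⟨a, b, c, hab, hac, hbc⟩ : ∃ a b c : X, a ≠ b ∧ a ≠ c ∧ b ≠ c := by
    have : 2 < (Finset.univ : Finset X).card := by rw [Finset.card_univ]; omega
    obtain ⟨a, -, b, -, c, -, hab, hac, hbc⟩ := Finset.two_lt_card.mp this
    exact ⟨a, b, c, hab, hac, hbc⟩
  have heq : ∀ m₁ ∈ N, ∀ m₂ ∈ N, m₁ • a = m₂ • a → m₁ = m₂ := by
    intro m₁ h₁ m₂ h₂ h
    have : m₂⁻¹ * m₁ = 1 := by
      apply hregN _ (N.mul_mem (N.inv_mem h₂) h₁) a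
      rw [mul_smul, h, inv_smul_smul]
    calc m₁ = m₂ * (m₂⁻¹ * m₁) := by group
      _ = m₂ := by rw [this, mul_one]
  obtain ⟨n₁', hn₁'⟩ := htrans.exists_smul_eq a b
  obtain ⟨n', hn'⟩ := htrans.exists_smul_eq a c
  obtain ⟨n₁, hn₁def⟩ : ∃ n₁ : G, n₁ = (n₁' : G) := ⟨_, rfl⟩
  obtain ⟨n, hndef⟩ : ∃ n : G, n = (n' : G) := ⟨_, rfl⟩
  have hn₁N : n₁ ∈ N := by rw [hn₁def]; exact n₁'.2
  have hnN : n ∈ N := by rw [hndef]; exact n'.2
  have hn₁a : n₁ • a = b := by rw [hn₁def]; exact hn₁'
  have hna : n • a = c := by rw [hndef]; exact hn'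
  have hn₁sq : n₁ * n₁ = 1 := by rw [← pow_two]; exact hexp n₁ hn₁N
  have hn₁1 : n₁ ≠ 1 := by
    intro h; rw [h, one_smul] at hn₁a; exact hab hn₁a
  have hn1 : n ≠ 1 := by
    intro h; rw [h, one_smul] at hna; exact hac hna
  have hnn₁ : n ≠ n₁ := by
    intro h; rw [h, hn₁a] at hna; exact hbc hna
  have hc'a : (n * n₁) • a ≠ a := by
    intro h
    have h1 := hregN _ (N.mul_mem hnN hn₁N) a h
    apply hnn₁
    calc n = n * (n₁ * n₁) := by rw [hn₁sq, mul_one]
      _ = (n * n₁) * n₁ := by group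
      _ = n₁ := by rw [h1, one_mul]
  have hc'b : (n * n₁) • a ≠ b := by
    intro h
    rw [← hn₁a] at h
    have h1 := heq _ (N.mul_mem hnN hn₁N) _ hn₁N h
    apply hn1
    calc n = (n * n₁) * n₁⁻¹ := by group
      _ = 1 := by rw [h1]; group
  have hc'c : c ≠ (n * n₁) • a := by
    intro h
    rw [← hna] at h
    have h1 := heq _ hnN _ (N.mul_mem hnN hn₁N) h
    apply hn₁1
    calc n₁ = n⁻¹ * (n * n₁) := by group
      _ = 1 := by rw [← h1]; group
  have hprim : IsPreprimitive (fixingSubgroup G ({a, b} : Set X))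
      (ofFixingSubgroup G ({a, b} : Set X)) := by
    apply IsMultiplyPreprimitive.isPreprimitive_ofFixingSubgroup G 3
    rw [Set.encard_pair hab]; rfl
  have hcmem : c ∈ ofFixingSubgroup G ({a, b} : Set X) := by
    rw [mem_ofFixingSubgroup_iff]
    simp only [Set.mem_insert_iff, Set.mem_singleton_iff, not_or]
    exact ⟨Ne.symm hac, Ne.symm hbc⟩
  have hc'mem : (n * n₁) • a ∈ ofFixingSubgroup G ({a, b} : Set X) := by
    rw [mem_ofFixingSubgroup_iff]
    simp only [Set.mem_insert_iff, Set.mem_singleton_iff, not_or]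
    exact ⟨hc'a, hc'b⟩
  let B : Set (ofFixingSubgroup G ({a, b} : Set X)) :=
    {x | (x : X) = n • a ∨ (x : X) = (n * n₁) • a}
  have hB : IsBlock (fixingSubgroup G ({a, b} : Set X)) B := by
    rw [isBlock_iff_smul_eq_or_disjoint]
    intro g
    have hga : (g : G) • a = a := (mem_fixingSubgroup_iff G).mp g.2 a (by simp)
    have hgb : (g : G) • b = b := (mem_fixingSubgroup_iff G).mp g.2 b (by simp)
    have hgia : (g : G)⁻¹ • a = a := by rw [inv_smul_eq_iff, hga]
    have hconj : ∀ m : G, (g : G) • (m • a) = ((g : G) * m * (g : G)⁻¹) • a := by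
      intro m
      rw [mul_smul, mul_smul, hgia]
    have hgn₁ : (g : G) * n₁ * (g : G)⁻¹ = n₁ := by
      apply heq _ (hNn.conj_mem n₁ hn₁N g) _ hn₁N
      rw [← hconj, hn₁a, hgb]
    have hn'N : (g : G) * n * (g : G)⁻¹ ∈ N := hNn.conj_mem n hnN g
    have hprod : (g : G) * (n * n₁) * (g : G)⁻¹ = ((g : G) * n * (g : G)⁻¹) * n₁ := by
      calc (g : G) * (n * n₁) * (g : G)⁻¹
          = ((g : G) * n * (g : G)⁻¹) * ((g : G) * n₁ * (g : G)⁻¹) := by group
        _ = ((g : G) * n * (g : G)⁻¹) * n₁ := by rw [hgn₁]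
    have hmem : ∀ x : ofFixingSubgroup G ({a, b} : Set X), x ∈ g • B ↔
        ((x : X) = ((g : G) * n * (g : G)⁻¹) • a ∨
          (x : X) = (((g : G) * n * (g : G)⁻¹) * n₁) • a) := by
      intro x
      rw [Set.mem_smul_set_iff_inv_smul_mem]
      show ((g : G)⁻¹ • (x : X) = n • a ∨ (g : G)⁻¹ • (x : X) = (n * n₁) • a) ↔ _
      rw [inv_smul_eq_iff, inv_smul_eq_iff, hconj, hconj, hprod]
    by_cases hc : (g : G) * n * (g : G)⁻¹ = n ∨ (g : G) * n * (g : G)⁻¹ = n * n₁
    · left
      ext x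
      rw [hmem]
      rcases hc with hc | hc
      · rw [hc]; rfl
      · rw [hc]
        have : n * n₁ * n₁ = n := by rw [mul_assoc, hn₁sq, mul_one]
        rw [this]
        show _ ↔ ((x : X) = n • a ∨ (x : X) = (n * n₁) • a)
        tauto
    · right
      push Not at hc
      rw [Set.disjoint_left]
      intro x hx hxB
      rw [hmem] at hx
      have hxB' : (x : X) = n • a ∨ (x : X) = (n * n₁) • a := hxB
      rcases hx with hx | hx <;> rcases hxB' with hxB' | hxB'
      · exact hc.1 (heq _ hn'N _ hnN (hx.symm.trans hxB'))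
      · exact hc.2 (heq _ hn'N _ (N.mul_mem hnN hn₁N) (hx.symm.trans hxB'))
      · apply hc.2
        have h1 := heq _ (N.mul_mem hn'N hn₁N) _ hnN (hx.symm.trans hxB')
        calc (g : G) * n * (g : G)⁻¹ = ((g : G) * n * (g : G)⁻¹ * n₁) * n₁ := by
              rw [mul_assoc _ n₁ n₁, hn₁sq, mul_one]
          _ = n * n₁ := by rw [h1]
      · apply hc.1
        have h1 := heq _ (N.mul_mem hn'N hn₁N) _ (N.mul_mem hnN hn₁N) (hx.symm.trans hxB')
        exact mul_right_cancel h1
  have hmem1 : (⟨c, hcmem⟩ : ofFixingSubgroup G ({a, b} : Set X)) ∈ B := Or.inl hna.symm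
  have hmem2 : (⟨(n * n₁) • a, hc'mem⟩ : ofFixingSubgroup G ({a, b} : Set X)) ∈ B := Or.inr rfl
  rcases hprim.isTrivialBlock_of_isBlock hB with hsub | huniv
  · exact hc'c (congrArg Subtype.val (hsub hmem1 hmem2))
  · have hall : ∀ x : X, x = a ∨ x = b ∨ x = c ∨ x = (n * n₁) • a := by
      intro x
      by_cases hxa : x = a
      · left; exact hxa
      by_cases hxb : x = b
      · right; left; exact hxb
      right; right
      have hxm : x ∈ ofFixingSubgroup G ({a, b} : Set X) := by
        rw [mem_ofFixingSubgroup_iff]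
        simp only [Set.mem_insert_iff, Set.mem_singleton_iff, not_or]
        exact ⟨hxa, hxb⟩
      have : (⟨x, hxm⟩ : ofFixingSubgroup G ({a, b} : Set X)) ∈ B := by
        rw [huniv]; trivial
      rcases this with h | h
      · left; rw [← hna]; exact h
      · right; exact h
    have hsub : (Finset.univ : Finset X) ⊆ {a, b, c, (n * n₁) • a} := by
      intro x _
      simp only [Finset.mem_insert, Finset.mem_singleton]
      exact hall x
    have hle := Finset.card_le_card hsub
    have h4 : ({a, b, c, (n * n₁) • a} : Finset X).card ≤ 4 := Finset.card_le_four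
    rw [Finset.card_univ] at hle
    omega

end Cfsg.Agent.S0696
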