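import Cfsg.Statements.S0701
-- import your own Cfsg.Agent.* helpers here

set_option autoImplicit false
open Cfsg

namespace Cfsg.Agent.S0701

/-- The centraliser in the full symmetric group of a transitive permutation group `G` is semiregular, and it is transitive if and only if `G` is regular. -/
theorem result {α : Type*} (G : Subgroup (Equiv.Perm α)) [MulAction.IsPretransitive G α] : (∀ c ∈ Subgroup.centralizer (G : Set (Equiv.Perm α)), ∀ a : α, c a = a → c = 1) ∧ (MulAction.IsPretransitive (Subgroup.centralizer (G : Set (Equiv.Perm α))) α ↔ ∀ a : α, MulAction.stabilizer G a = ⊥) := by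
  classical
  constructor
  · intro c hc a hca
    ext b
    obtain ⟨g, hg⟩ := MulAction.exists_smul_eq G a b
    rw [Subgroup.mem_centralizer_iff] at hc
    have h1 := hc (g : Equiv.Perm α) g.2
    have h2 := congrArg (fun σ : Equiv.Perm α => σ a) h1
    simp only [Equiv.Perm.coe_mul, Function.comp_apply] at h2
    have hg' : (g : Equiv.Perm α) a = b := hg
    rw [Equiv.Perm.coe_one, id_eq, ← hg', ← h2, hca]
  · constructor
    · intro htr a
      rw [Subgroup.eq_bot_iff_forall]
      intro g hg
      have hga : (g : Equiv.Perm α) a = a := hg
      apply Subtype.ext
      ext b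
      obtain ⟨c, hc⟩ := htr.exists_smul_eq a b
      have hcb : (c : Equiv.Perm α) a = b := hc
      have hcc := c.2
      rw [Subgroup.mem_centralizer_iff] at hcc
      have h1 := hcc (g : Equiv.Perm α) g.2
      have h2 := congrArg (fun σ : Equiv.Perm α => σ a) h1
      simp only [Equiv.Perm.coe_mul, Function.comp_apply] at h2
      change (g : Equiv.Perm α) b = b
      rw [← hcb, h2, hga]
    · intro hreg
      have huniq : ∀ (a : α) (g g' : G), g • a = g' • a → g = g' := by
        intro a g g' h
        have : g'⁻¹ * g ∈ MulAction.stabilizer G a := by
          rw [MulAction.mem_stabilizer_iff, mul_smul, h, inv_smul_smul]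
        rw [hreg a, Subgroup.mem_bot] at this
        exact (inv_mul_eq_one.mp this).symm
      refine ⟨fun a b => ?_⟩
      -- representative function
      have hex : ∀ (a x : α), ∃ g : G, g • a = x := fun a x => MulAction.exists_smul_eq G a x
      choose φ hφ using hex
      have hφ' : ∀ (a : α) (g : G), φ a (g • a) = g := fun a g => huniq a _ _ (hφ a (g • a))
      let c : Equiv.Perm α :=
        { toFun := fun x => φ a x • b
          invFun := fun x => φ b x • a
          left_inv := by
            intro x
            change φ b (φ a x • b) • a = x
            rw [hφ' b, hφ a x]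
          right_inv := by
            intro x
            change φ a (φ b x • a) • b = x
            rw [hφ' a, hφ b x] }
      have hc : c ∈ Subgroup.centralizer (G : Set (Equiv.Perm α)) := by
        rw [Subgroup.mem_centralizer_iff]
        intro h hh
        ext x
        change h (φ a x • b) = φ a (h x) • b
        have hx : x = φ a x • a := (hφ a x).symm
        have h3 : h x = ((⟨h, hh⟩ : G) * φ a x) • a := by
          rw [mul_smul, hφ a x]; rfl
        rw [h3, hφ' a, mul_smul]
        rfl
      refine ⟨⟨c, hc⟩, ?_⟩
      change φ a a • b = b
      have : φ a a = 1 := by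
        have := hφ' a 1
        rwa [one_smul] at this
      rw [this, one_smul]

end Cfsg.Agent.S0701
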