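import Cfsg.Statements.S0702
import Mathlib
-- import your own Cfsg.Agent.* helpers here

set_option autoImplicit false
open Cfsg

namespace Cfsg.Agent.S0702

/-- For a transitive permutation group `G` on a finite set, the centraliser of `G` in the symmetric group is isomorphic to `N_G(G_ω)/G_ω`, and its orbit of `ω` is the set of fixed points of `G_ω`. -/
theorem result {α : Type*} [Finite α] (G : Subgroup (Equiv.Perm α)) [MulAction.IsPretransitive G α] (a : α) : Nonempty (Subgroup.centralizer (G : Set (Equiv.Perm α)) ≃* Subgroup.normalizer ((MulAction.stabilizer G a : Subgroup G) : Set G) ⧸ (MulAction.stabilizer G a).subgroupOf (Subgroup.normalizer ((MulAction.stabilizer G a : Subgroup G) : Set G))) ∧ MulAction.orbit (Subgroup.centralizer (G : Set (Equiv.Perm α))) a = MulAction.fixedPoints (MulAction.stabilizer G a) α := by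
  classical
  set K := MulAction.stabilizer G a with hKdef
  set N := Subgroup.normalizer (K : Set G) with hNdef
  set C := Subgroup.centralizer (G : Set (Equiv.Perm α)) with hCdef
  -- representatives
  have hex : ∀ x : α, ∃ g : G, g • a = x := fun x => MulAction.exists_smul_eq G a x
  choose φ hφ using hex
  -- well-definedness
  have hwd : ∀ n : G, n ∈ N → ∀ g g' : G, g • a = g' • a →
      g • (n⁻¹ • a) = g' • (n⁻¹ • a) := by
    intro n hn g g' hgg
    have hk : g⁻¹ * g' ∈ K := by
      change (g⁻¹ * g') • a = a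
      rw [mul_smul, ← hgg, inv_smul_smul]
    have hk' : n * (g⁻¹ * g') * n⁻¹ ∈ K := (Subgroup.mem_normalizer_iff.mp hn _).mp hk
    have hk'' : (n * (g⁻¹ * g') * n⁻¹) • a = a := hk'
    have : g' • (n⁻¹ • a) = g • (n⁻¹ • ((n * (g⁻¹ * g') * n⁻¹) • a)) := by
      simp only [← mul_smul]
      congr 1
      group
    rw [this, hk'']
  let Ffun : G → α → α := fun n x => φ x • ((n⁻¹ : G) • a)
  have hF : ∀ n : G, n ∈ N → ∀ g : G, Ffun n (g • a) = g • (n⁻¹ • a) := by
    intro n hn g
    exact hwd n hn _ _ (hφ (g • a))
  have hFmul : ∀ n m : G, n ∈ N → m ∈ N → ∀ x, Ffun n (Ffun m x) = Ffun (n * m) x := by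
    intro n m hn hm x
    change Ffun n (φ x • ((m⁻¹ : G) • a)) = φ x • (((n * m)⁻¹ : G) • a)
    rw [← mul_smul, hF n hn, mul_inv_rev, mul_smul, mul_smul]
  have hFone : ∀ x, Ffun 1 x = x := by
    intro x
    change φ x • (((1 : G)⁻¹ : G) • a) = x
    rw [inv_one, one_smul, hφ]
  -- the hom N → Perm α
  let ψ0 : N →* Equiv.Perm α :=
    { toFun := fun n =>
        { toFun := Ffun (n : G)
          invFun := Ffun ((n : G)⁻¹)
          left_inv := by
            intro x
            rw [hFmul _ _ (N.inv_mem n.2) n.2, inv_mul_cancel, hFone]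
          right_inv := by
            intro x
            rw [hFmul _ _ n.2 (N.inv_mem n.2), mul_inv_cancel, hFone] }
      map_one' := by
        ext x
        exact hFone x
      map_mul' := by
        intro n m
        ext x
        exact (hFmul _ _ n.2 m.2 x).symm }
  have hψ0 : ∀ (n : N) (x : α), ψ0 n x = Ffun (n : G) x := fun n x => rfl
  have hψ0C : ∀ n : N, ψ0 n ∈ C := by
    intro n
    rw [Subgroup.mem_centralizer_iff]
    intro h hh
    ext x
    change h (Ffun (n : G) x) = Ffun (n : G) (h x)
    have hx : x = φ x • a := (hφ x).symm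
    have h1 : h x = ((⟨h, hh⟩ : G) * φ x) • a := by
      rw [mul_smul, hφ x]; rfl
    rw [h1, hF _ n.2, mul_smul]
    rfl
  let ψ : N →* C := ψ0.codRestrict C hψ0C
  have hψ : ∀ (n : N) (x : α), ((ψ n : C) : Equiv.Perm α) x = Ffun (n : G) x := fun n x => rfl
  -- conjugation by an element sending K into K lies in N
  have hNmem : ∀ n : G, (∀ k ∈ K, n * k * n⁻¹ ∈ K) → n ∈ N := by
    intro n hn
    haveI : Finite K := inferInstance
    let f : K → K := fun k => ⟨n * k * n⁻¹, hn k k.2⟩
    have hfinj : Function.Injective f := by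
      intro k k' hkk
      have : n * (k : G) * n⁻¹ = n * (k' : G) * n⁻¹ := congrArg Subtype.val hkk
      exact Subtype.ext (mul_left_cancel (mul_right_cancel this))
    have hfsurj : Function.Surjective f := Finite.injective_iff_surjective.mp hfinj
    rw [Subgroup.mem_normalizer_iff]
    intro k
    constructor
    · exact hn k
    · intro hk
      obtain ⟨k', hk'⟩ := hfsurj ⟨n * k * n⁻¹, hk⟩
      have : n * (k' : G) * n⁻¹ = n * k * n⁻¹ := congrArg Subtype.val hk'
      have hkk : (k' : G) = k := mul_left_cancel (mul_right_cancel this)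
      rw [← hkk]; exact k'.2
  -- if K fixes n⁻¹ • a then n ∈ N
  have hNfix : ∀ n : G, (∀ k ∈ K, k • (n⁻¹ • a) = n⁻¹ • a) → n ∈ N := by
    intro n hn
    apply hNmem
    intro k hk
    change (n * k * n⁻¹) • a = a
    rw [mul_smul, mul_smul, hn k hk, smul_inv_smul]
  -- elements of C commute with the action
  have hCcomm : ∀ c : Equiv.Perm α, c ∈ C → ∀ (g : G) (x : α), c (g • x) = g • c x := by
    intro c hc g x
    rw [Subgroup.mem_centralizer_iff] at hc
    have h1 := hc (g : Equiv.Perm α) g.2
    have h2 := congrArg (fun σ : Equiv.Perm α => σ x) h1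
    simp only [Equiv.Perm.coe_mul, Function.comp_apply] at h2
    exact h2.symm
  have hsurj : Function.Surjective ψ := by
    intro c
    set n : G := (φ ((c : Equiv.Perm α) a))⁻¹ with hn
    have hna : n⁻¹ • a = (c : Equiv.Perm α) a := by
      rw [hn, inv_inv, hφ]
    have hnN : n ∈ N := by
      apply hNfix
      intro k hk
      rw [hna, ← hCcomm c c.2 k a]
      have : k • a = a := hk
      rw [this]
    refine ⟨⟨n, hnN⟩, ?_⟩
    apply Subtype.ext
    ext x
    rw [hψ]
    change Ffun n x = (c : Equiv.Perm α) x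
    have hx : x = φ x • a := (hφ x).symm
    conv_rhs => rw [hx, hCcomm c c.2, ← hna]
  have hker : ψ.ker = K.subgroupOf N := by
    ext n
    rw [MonoidHom.mem_ker, Subgroup.mem_subgroupOf]
    constructor
    · intro h
      have h1 : ((ψ n : C) : Equiv.Perm α) a = a := by rw [h]; rfl
      rw [hψ] at h1
      have h2 : Ffun (n : G) ((1 : G) • a) = (1 : G) • ((n : G)⁻¹ • a) := hF _ n.2 1
      rw [one_smul, one_smul] at h2
      rw [h2] at h1
      change (n : G) • a = a
      rw [← h1, smul_inv_smul, h1]
    · intro h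
      apply Subtype.ext
      ext x
      rw [hψ]
      change Ffun (n : G) x = x
      have hx : x = φ x • a := (hφ x).symm
      have hna : (n : G)⁻¹ • a = a := by
        have : (n : G) • a = a := h
        rw [inv_smul_eq_iff, this]
      conv_lhs => rw [hx, hF _ n.2, hna, ← hx]
  constructor
  · refine ⟨((QuotientGroup.quotientMulEquivOfEq hker).symm.trans
      (QuotientGroup.quotientKerEquivOfSurjective ψ hsurj)).symm⟩
  · ext x
    constructor
    · rintro ⟨c, rfl⟩
      rw [MulAction.mem_fixedPoints]
      intro k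
      change (k : G) • ((c : Equiv.Perm α) a) = (c : Equiv.Perm α) a
      rw [← hCcomm c c.2 (k : G) a]
      have : (k : G) • a = a := k.2
      rw [this]
    · intro hx
      rw [MulAction.mem_fixedPoints] at hx
      set n : G := (φ x)⁻¹ with hn
      have hna : n⁻¹ • a = x := by rw [hn, inv_inv, hφ]
      have hnN : n ∈ N := by
        apply hNfix
        intro k hk
        rw [hna]
        exact hx ⟨k, hk⟩
      refine ⟨ψ ⟨n, hnN⟩, ?_⟩
      change ((ψ ⟨n, hnN⟩ : C) : Equiv.Perm α) a = x
      rw [hψ]
      have h2 : Ffun n ((1 : G) • a) = (1 : G) • (n⁻¹ • a) := hF _ hnN 1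
      rw [one_smul, one_smul] at h2
      rw [h2, hna]

end Cfsg.Agent.S0702
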