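import Cfsg.Statements.S0703
import Mathlib
-- import your own Cfsg.Agent.* helpers here

set_option autoImplicit false
open Cfsg

namespace Cfsg.Agent.S0703

/-- An abelian transitive minimal normal subgroup `M` of a permutation group on a finite set is self-centralising in the symmetric group, regular, elementary abelian, and is the unique minimal normal subgroup. -/
theorem result {α : Type*} [Finite α] (G : Subgroup (Equiv.Perm α)) (M : Subgroup G) [M.Normal] (hM : M ≠ ⊥) (hmin : ∀ L : Subgroup G, L.Normal → L ≤ M → L = ⊥ ∨ L = M) (hab : IsMulCommutative M) (htrans : MulAction.IsPretransitive M α) : Subgroup.centralizer ((M.map G.subtype : Subgroup (Equiv.Perm α)) : Set (Equiv.Perm α)) = M.map G.subtype ∧ (∀ a : α, MulAction.stabilizer M a = ⊥) ∧ (∃ p : ℕ, p.Prime ∧ ∀ m ∈ M, m ^ p = 1) ∧ ∀ L : Subgroup G, L.Normal → L ≠ ⊥ → (∀ L' : Subgroup G, L'.Normal → L' ≤ L → L' = ⊥ ∨ L' = L) → L = M := by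
  classical
  haveI := hab
  have hcomm : ∀ x y : G, x ∈ M → y ∈ M → x * y = y * x := fun x y hx hy => setLike_mul_comm hx hy
  have htr : ∀ x y : α, ∃ m : G, m ∈ M ∧ m • x = y := by
    intro x y
    obtain ⟨m, hm⟩ := htrans.exists_smul_eq x y
    exact ⟨(m : G), m.2, hm⟩
  -- (2) regular
  have hfix1 : ∀ (m : G), m ∈ M → ∀ a : α, m • a = a → m = 1 := by
    intro m hm a hma
    apply Subtype.ext
    ext b
    obtain ⟨m', hm', hb⟩ := htr a b
    change m • b = b
    rw [← hb, ← mul_smul, hcomm m m' hm hm', mul_smul, hma]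
  have hreg : ∀ a : α, MulAction.stabilizer M a = ⊥ := by
    intro a
    rw [Subgroup.eq_bot_iff_forall]
    intro m hm
    apply Subtype.ext
    exact hfix1 (m : G) m.2 a hm
  -- (1) self-centralising
  have hcent : Subgroup.centralizer ((M.map G.subtype : Subgroup (Equiv.Perm α)) :
      Set (Equiv.Perm α)) = M.map G.subtype := by
    apply le_antisymm
    · intro c hc
      rw [Subgroup.mem_centralizer_iff] at hc
      rcases isEmpty_or_nonempty α with hα | hα
      · have : c = 1 := by
          ext x; exact (hα.false x).elim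
        rw [this]; exact Subgroup.one_mem _
      · obtain ⟨a⟩ := hα
        obtain ⟨m, hm, hma⟩ := htr a (c a)
        have hma' : (m : Equiv.Perm α) a = c a := hma
        -- c = m
        have hcm : c = (m : Equiv.Perm α) := by
          ext b
          obtain ⟨m', hm', hb⟩ := htr a b
          have hb' : (m' : Equiv.Perm α) a = b := hb
          have h1 := hc (m' : Equiv.Perm α) ⟨m', hm', rfl⟩
          have h2 := congrArg (fun σ : Equiv.Perm α => σ a) h1
          simp only [Equiv.Perm.coe_mul, Function.comp_apply] at h2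
          have h3 : (m : Equiv.Perm α) ((m' : Equiv.Perm α) a)
              = (m' : Equiv.Perm α) ((m : Equiv.Perm α) a) := by
            have := congrArg (fun g : G => (g : Equiv.Perm α) a) (hcomm m m' hm hm')
            simpa using this
          rw [← hb', ← h2, ← hma', h3]
        rw [hcm]
        exact ⟨m, hm, rfl⟩
    · rintro _ ⟨m, hm, rfl⟩
      rw [Subgroup.mem_centralizer_iff]
      rintro _ ⟨m', hm', rfl⟩
      have := congrArg (fun g : G => (g : Equiv.Perm α)) (hcomm m' m hm' hm)
      simpa using this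
  -- (3) elementary abelian
  have hMfin : Finite M := inferInstance
  have hMnt : Nontrivial M := (Subgroup.nontrivial_iff_ne_bot M).mpr hM
  have hcard : 1 < Nat.card M := Finite.one_lt_card
  obtain ⟨p, hp, hpdvd⟩ := Nat.exists_prime_and_dvd (Nat.ne_of_gt hcard)
  haveI : Fact p.Prime := ⟨hp⟩
  have helem : ∀ m ∈ M, m ^ p = 1 := by
    let Ω : Subgroup G :=
      { carrier := {m | m ∈ M ∧ m ^ p = 1}
        mul_mem' := by
          rintro x y ⟨hx, hx1⟩ ⟨hy, hy1⟩
          refine ⟨M.mul_mem hx hy, ?_⟩
          have hc : Commute x y := hcomm x y hx hy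
          rw [hc.mul_pow, hx1, hy1, one_mul]
        one_mem' := ⟨M.one_mem, one_pow p⟩
        inv_mem' := by
          rintro x ⟨hx, hx1⟩
          exact ⟨M.inv_mem hx, by rw [inv_pow, hx1, inv_one]⟩ }
    have hΩn : Ω.Normal := by
      constructor
      rintro x ⟨hx, hx1⟩ g
      refine ⟨(inferInstance : M.Normal).conj_mem x hx g, ?_⟩
      rw [conj_pow, hx1, mul_one, mul_inv_cancel]
    have hΩle : Ω ≤ M := fun x hx => hx.1
    have hΩne : Ω ≠ ⊥ := by
      obtain ⟨x, hx⟩ := exists_prime_orderOf_dvd_card' (G := M) p hpdvd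
      intro hbot
      have hxΩ : (x : G) ∈ Ω := by
        refine ⟨x.2, ?_⟩
        have : x ^ p = 1 := by rw [← hx]; exact pow_orderOf_eq_one x
        have := congrArg (fun y : M => (y : G)) this
        simpa using this
      rw [hbot, Subgroup.mem_bot] at hxΩ
      have hx1 : x = 1 := Subtype.ext hxΩ
      rw [hx1, orderOf_one] at hx
      exact hp.one_lt.ne hx
    rcases hmin Ω hΩn hΩle with h | h
    · exact absurd h hΩne
    · intro m hm
      have : m ∈ Ω := by rw [h]; exact hm
      exact this.2
  refine ⟨hcent, hreg, ⟨p, hp, helem⟩, ?_⟩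
  -- (4) uniqueness
  intro L hLn hLne hLmin
  haveI := hLn
  have hLMn : (L ⊓ M).Normal := inferInstance
  rcases hmin (L ⊓ M) hLMn inf_le_right with h | h
  · exfalso
    apply hLne
    -- L centralizes M
    have hLM : ∀ x ∈ L, ∀ y ∈ M, x * y = y * x := by
      intro x hx y hy
      have hmem : x * y * x⁻¹ * y⁻¹ ∈ L ⊓ M := by
        constructor
        · have : y * x⁻¹ * y⁻¹ ∈ L := hLn.conj_mem x⁻¹ (L.inv_mem hx) y
          have h2 : x * (y * x⁻¹ * y⁻¹) ∈ L := L.mul_mem hx this
          simpa [mul_assoc] using h2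
        · have : x * y * x⁻¹ ∈ M := (inferInstance : M.Normal).conj_mem y hy x
          exact M.mul_mem this (M.inv_mem hy)
      rw [h, Subgroup.mem_bot] at hmem
      have : x * y = (x * y * x⁻¹ * y⁻¹) * (y * x) := by group
      rw [this, hmem, one_mul]
    have hLle : L ≤ M := by
      intro x hx
      have hxc : (x : Equiv.Perm α) ∈ Subgroup.centralizer
          ((M.map G.subtype : Subgroup (Equiv.Perm α)) : Set (Equiv.Perm α)) := by
        rw [Subgroup.mem_centralizer_iff]
        rintro _ ⟨y, hy, rfl⟩
        have := congrArg (fun g : G => (g : Equiv.Perm α)) (hLM x hx y hy)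
        simpa using this.symm
      rw [hcent] at hxc
      obtain ⟨y, hy, hyx⟩ := hxc
      have : y = x := Subtype.ext hyx
      rw [← this]; exact hy
    rw [← h]
    exact (inf_eq_left.mpr hLle).symm
  · have hML : M ≤ L := by rw [← h]; exact inf_le_left
    rcases hLmin M inferInstance hML with h' | h'
    · exact absurd h' hM
    · exact h'.symm

end Cfsg.Agent.S0703
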