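import Cfsg.Statements.S0704
import Mathlib
-- import your own Cfsg.Agent.* helpers here

set_option autoImplicit false
open Cfsg

namespace Cfsg.Agent.S0704

/-- If `X` is transitive and commutes elementwise with `Y`, then `Y` is semiregular. -/
theorem semireg_of_commute {α : Type*} (G : Subgroup (Equiv.Perm α)) (X Y : Subgroup G)
    (hXt : ∀ a b : α, ∃ x : G, x ∈ X ∧ x • a = b)
    (hXY : ∀ x ∈ X, ∀ y ∈ Y, x * y = y * x) (y : G) (hy : y ∈ Y) (a : α) (hya : y • a = a) :
    y = 1 := by
  apply Subtype.ext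
  ext b
  obtain ⟨x, hx, hb⟩ := hXt a b
  change y • b = b
  rw [← hb, ← mul_smul, ← hXY x hx y hy, mul_smul, hya]

/-- If `X`, `Y` are transitive and commute elementwise then the centraliser of `X` in the
symmetric group is `Y`. -/
theorem cent_eq_of_commute {α : Type*} (G : Subgroup (Equiv.Perm α)) (X Y : Subgroup G)
    (hXt : ∀ a b : α, ∃ x : G, x ∈ X ∧ x • a = b)
    (hYt : ∀ a b : α, ∃ y : G, y ∈ Y ∧ y • a = b)
    (hXY : ∀ x ∈ X, ∀ y ∈ Y, x * y = y * x) :
    Subgroup.centralizer ((X.map G.subtype : Subgroup (Equiv.Perm α)) : Set (Equiv.Perm α))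
      = Y.map G.subtype := by
  apply le_antisymm
  · intro c hc
    rw [Subgroup.mem_centralizer_iff] at hc
    rcases isEmpty_or_nonempty α with hα | hα
    · have : c = 1 := by
        ext x; exact (hα.false x).elim
      rw [this]; exact Subgroup.one_mem _
    · obtain ⟨a⟩ := hα
      obtain ⟨n, hn, hna⟩ := hYt a (c a)
      have hna' : (n : Equiv.Perm α) a = c a := hna
      have hcn : c = (n : Equiv.Perm α) := by
        ext b
        obtain ⟨m, hm, hb⟩ := hXt a b
        have hb' : (m : Equiv.Perm α) a = b := hb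
        have h1 := hc (m : Equiv.Perm α) ⟨m, hm, rfl⟩
        have h2 := congrArg (fun σ : Equiv.Perm α => σ a) h1
        simp only [Equiv.Perm.coe_mul, Function.comp_apply] at h2
        have h3 : (m : Equiv.Perm α) ((n : Equiv.Perm α) a)
            = (n : Equiv.Perm α) ((m : Equiv.Perm α) a) := by
          have := congrArg (fun g : G => (g : Equiv.Perm α) a) (hXY m hm n hn)
          simpa using this
        rw [← hb', ← h2, ← hna', h3]
      rw [hcn]
      exact ⟨n, hn, rfl⟩
  · rintro _ ⟨n, hn, rfl⟩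
    rw [Subgroup.mem_centralizer_iff]
    rintro _ ⟨m, hm, rfl⟩
    have := congrArg (fun g : G => (g : Equiv.Perm α)) (hXY m hm n hn)
    simpa using this

/-- Two distinct transitive minimal normal subgroups `M`, `N` of a permutation group are regular, non-abelian, isomorphic, each other's centraliser in the symmetric group, and the only minimal normal subgroups. -/
theorem result {α : Type*} (G : Subgroup (Equiv.Perm α)) (M N : Subgroup G) [M.Normal] [N.Normal] (hM : M ≠ ⊥) (hN : N ≠ ⊥) (hMmin : ∀ L : Subgroup G, L.Normal → L ≤ M → L = ⊥ ∨ L = M) (hNmin : ∀ L : Subgroup G, L.Normal → L ≤ N → L = ⊥ ∨ L = N) (hMN : M ≠ N) (hMt : MulAction.IsPretransitive M α) (hNt : MulAction.IsPretransitive N α) : (∀ a : α, MulAction.stabilizer M a = ⊥) ∧ (∀ a : α, MulAction.stabilizer N a = ⊥) ∧ ¬ IsMulCommutative M ∧ Nonempty (M ≃* N) ∧ Subgroup.centralizer ((M.map G.subtype : Subgroup (Equiv.Perm α)) : Set (Equiv.Perm α)) = N.map G.subtype ∧ Subgroup.centralizer ((N.map G.subtype : Subgroup (Equiv.Perm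 α)) : Set (Equiv.Perm α)) = M.map G.subtype ∧ ∀ L : Subgroup G, L.Normal → L ≠ ⊥ → (∀ L' : Subgroup G, L'.Normal → L' ≤ L → L' = ⊥ ∨ L' = L) → L = M ∨ L = N := by
  classical
  have hMn : M.Normal := inferInstance
  have hNn : N.Normal := inferInstance
  have hMtr : ∀ a b : α, ∃ x : G, x ∈ M ∧ x • a = b := by
    intro a b
    obtain ⟨m, hm⟩ := hMt.exists_smul_eq a b
    exact ⟨(m : G), m.2, hm⟩
  have hNtr : ∀ a b : α, ∃ x : G, x ∈ N ∧ x • a = b := by
    intro a b
    obtain ⟨m, hm⟩ := hNt.exists_smul_eq a b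
    exact ⟨(m : G), m.2, hm⟩
  -- a general commutation lemma for normal subgroups with trivial intersection
  have hcommute : ∀ (X Y : Subgroup G), X.Normal → Y.Normal → X ⊓ Y = ⊥ →
      ∀ x ∈ X, ∀ y ∈ Y, x * y = y * x := by
    intro X Y hXn hYn hXY x hx y hy
    have hmem : x * y * x⁻¹ * y⁻¹ ∈ X ⊓ Y := by
      constructor
      · have : y * x⁻¹ * y⁻¹ ∈ X := hXn.conj_mem x⁻¹ (X.inv_mem hx) y
        have h2 : x * (y * x⁻¹ * y⁻¹) ∈ X := X.mul_mem hx this
        simpa [mul_assoc] using h2
      · have : x * y * x⁻¹ ∈ Y := hYn.conj_mem y hy x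
        exact Y.mul_mem this (Y.inv_mem hy)
    rw [hXY, Subgroup.mem_bot] at hmem
    have : x * y = (x * y * x⁻¹ * y⁻¹) * (y * x) := by group
    rw [this, hmem, one_mul]
  have hinf : M ⊓ N = ⊥ := by
    rcases hMmin (M ⊓ N) inferInstance inf_le_left with h | h
    · exact h
    · exfalso
      have hle : M ≤ N := by rw [← h]; exact inf_le_right
      rcases hNmin M hMn hle with h' | h'
      · exact hM h'
      · exact hMN h'
  have hMNc : ∀ x ∈ M, ∀ y ∈ N, x * y = y * x := hcommute M N hMn hNn hinf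
  have hNMc : ∀ x ∈ N, ∀ y ∈ M, x * y = y * x := fun x hx y hy => (hMNc y hy x hx).symm
  have hMsr : ∀ (m : G), m ∈ M → ∀ a : α, m • a = a → m = 1 :=
    fun m hm a h => semireg_of_commute G N M hNtr hNMc m hm a h
  have hNsr : ∀ (n : G), n ∈ N → ∀ a : α, n • a = a → n = 1 :=
    fun n hn a h => semireg_of_commute G M N hMtr hMNc n hn a h
  have hMreg : ∀ a : α, MulAction.stabilizer M a = ⊥ := by
    intro a
    rw [Subgroup.eq_bot_iff_forall]
    intro m hm
    exact Subtype.ext (hMsr (m : G) m.2 a hm)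
  have hNreg : ∀ a : α, MulAction.stabilizer N a = ⊥ := by
    intro a
    rw [Subgroup.eq_bot_iff_forall]
    intro m hm
    exact Subtype.ext (hNsr (m : G) m.2 a hm)
  have hCM := cent_eq_of_commute G M N hMtr hNtr hMNc
  have hCN := cent_eq_of_commute G N M hNtr hMtr hNMc
  have hle_of_map : ∀ X Y : Subgroup G, X.map G.subtype ≤ Y.map G.subtype → X ≤ Y := by
    intro X Y h x hx
    obtain ⟨y, hy, hyx⟩ := h ⟨x, hx, rfl⟩
    have : y = x := Subtype.ext hyx
    rw [← this]; exact hy
  have hMnab : ¬ IsMulCommutative M := by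
    intro hab
    have hle : M.map G.subtype ≤ Subgroup.centralizer
        ((M.map G.subtype : Subgroup (Equiv.Perm α)) : Set (Equiv.Perm α)) := by
      rintro _ ⟨m, hm, rfl⟩
      rw [Subgroup.mem_centralizer_iff]
      rintro _ ⟨m', hm', rfl⟩
      have h1 : m' * m = m * m' := setLike_mul_comm hm' hm
      have := congrArg (fun g : G => (g : Equiv.Perm α)) h1
      simpa using this
    rw [hCM] at hle
    have hMN' : M ≤ N := hle_of_map M N hle
    rcases hNmin M hMn hMN' with h' | h'
    · exact hM h'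
    · exact hMN h'
  -- the isomorphism
  have hiso : Nonempty (M ≃* N) := by
    have hne : Nonempty α := by
      by_contra hα
      rw [not_nonempty_iff] at hα
      apply hM
      rw [Subgroup.eq_bot_iff_forall]
      intro m _
      apply Subtype.ext
      ext x
      exact (hα.false x).elim
    obtain ⟨a⟩ := hne
    have hex : ∀ m : M, ∃ n : N, (n : G) • a = ((m : G)⁻¹) • a := by
      intro m
      obtain ⟨n, hn, hna⟩ := hNtr a (((m : G)⁻¹) • a)
      exact ⟨⟨n, hn⟩, hna⟩
    choose θ hθ using hex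
    have huniqN : ∀ n n' : N, (n : G) • a = (n' : G) • a → n = n' := by
      intro n n' h
      have h1 : ((n' : G)⁻¹ * (n : G)) • a = a := by
        rw [mul_smul, h, inv_smul_smul]
      have h2 := hNsr _ (N.mul_mem (N.inv_mem n'.2) n.2) a h1
      exact Subtype.ext (inv_mul_eq_one.mp h2).symm
    have huniqM : ∀ m m' : M, (m : G) • a = (m' : G) • a → m = m' := by
      intro m m' h
      have h1 : ((m' : G)⁻¹ * (m : G)) • a = a := by
        rw [mul_smul, h, inv_smul_smul]
      have h2 := hMsr _ (M.mul_mem (M.inv_mem m'.2) m.2) a h1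
      exact Subtype.ext (inv_mul_eq_one.mp h2).symm
    have hmul : ∀ m1 m2 : M, θ (m1 * m2) = θ m1 * θ m2 := by
      intro m1 m2
      apply huniqN
      rw [hθ]
      change (((m1 : G) * (m2 : G))⁻¹) • a = ((θ m1 : G) * (θ m2 : G)) • a
      rw [mul_smul, hθ m2, ← mul_smul, hNMc _ (θ m1).2 _ (M.inv_mem m2.2), mul_smul, hθ m1,
        ← mul_smul, mul_inv_rev]
    let θhom : M →* N := MonoidHom.mk' θ hmul
    refine ⟨MulEquiv.ofBijective θhom ⟨?_, ?_⟩⟩
    · intro m m' h
      have h' : θ m = θ m' := h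
      have h1 : ((m : G)⁻¹) • a = ((m' : G)⁻¹) • a := by
        rw [← hθ m, ← hθ m', h']
      have h2 := huniqM (m⁻¹) (m'⁻¹) h1
      exact inv_injective h2
    · intro n
      obtain ⟨m', hm', hma⟩ := hMtr a ((n : G) • a)
      refine ⟨⟨m', hm'⟩⁻¹, ?_⟩
      change θ (⟨m', hm'⟩⁻¹) = n
      apply huniqN
      rw [hθ]
      change ((m'⁻¹ : G)⁻¹) • a = (n : G) • a
      rw [inv_inv, hma]
  refine ⟨hMreg, hNreg, hMnab, hiso, hCM, hCN, ?_⟩
  intro L hLn hLne hLmin
  haveI := hLn
  rcases hMmin (L ⊓ M) inferInstance inf_le_right with h | h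
  · right
    have hLMc : ∀ x ∈ L, ∀ y ∈ M, x * y = y * x := hcommute L M hLn hMn h
    have hle : L.map G.subtype ≤ Subgroup.centralizer
        ((M.map G.subtype : Subgroup (Equiv.Perm α)) : Set (Equiv.Perm α)) := by
      rintro _ ⟨x, hx, rfl⟩
      rw [Subgroup.mem_centralizer_iff]
      rintro _ ⟨y, hy, rfl⟩
      have := congrArg (fun g : G => (g : Equiv.Perm α)) (hLMc x hx y hy)
      simpa using this.symm
    rw [hCM] at hle
    have hLN : L ≤ N := hle_of_map L N hle
    rcases hNmin L hLn hLN with h' | h'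
    · exact absurd h' hLne
    · exact h'
  · left
    have hML : M ≤ L := by rw [← h]; exact inf_le_left
    rcases hLmin M hMn hML with h' | h'
    · exact absurd h' hM
    · exact h'.symm

end Cfsg.Agent.S0704
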