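import Cfsg.Statements.S0705
import Mathlib
import Cfsg.Agent.Lib.Helper5.MultTrans
-- import your own Cfsg.Agent.* helpers here

set_option autoImplicit false
open scoped Pointwise
open Cfsg
open MulAction Cfsg.Agent.Lib.Helper5
open scoped Pointwise

namespace Cfsg.Agent.S0705

/-- A generously `k`-transitive permutation group (every `(k+1)`-subset has its full symmetric group induced by the setwise stabiliser) of degree greater than `k` is `k`-transitive, and for a `k`-subset the setwise and pointwise stabilisers have the same orbits outside it. -/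
theorem result {α : Type*} [Fintype α] [DecidableEq α] (G : Subgroup (Equiv.Perm α)) {k : ℕ} (hk : k < Fintype.card α) (hgen : ∀ s : Finset α, s.card = k + 1 → ∀ σ : Equiv.Perm ↥s, ∃ g ∈ G, ∀ x : ↥s, g (x : α) = σ x) : MulAction.IsMultiplyPretransitive G α k ∧ ∀ s : Finset α, s.card = k → ∀ a b : α, a ∉ s → b ∉ s → (∃ g ∈ G, g • s = s ∧ g a = b) → ∃ g ∈ G, (∀ x ∈ s, g x = x) ∧ g a = b := by
  constructor
  · rcases Nat.eq_zero_or_pos k with rfl | hkpos
    · exact MulAction.is_zero_pretransitive
    obtain ⟨j, rfl⟩ : ∃ j, k = j + 1 := ⟨k - 1, by omega⟩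
    apply isMultiplyPretransitive_of_fixing_transitive j
    · rw [Nat.card_eq_fintype_card]; omega
    intro u hu x y hx hy
    by_cases hxy : x = y
    · exact ⟨1, fun z _ => one_smul _ _, by rw [one_smul, hxy]⟩
    have hufin : u.Finite := Set.toFinite u
    have hucard : hufin.toFinset.card = j := by
      rw [← Set.ncard_eq_toFinset_card u hufin, hu]
    have ht : (insert x (insert y hufin.toFinset)).card = j + 1 + 1 := by
      rw [Finset.card_insert_of_notMem (by simpa using ⟨hxy, hx⟩),
        Finset.card_insert_of_notMem (by simpa using hy), hucard]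
    have hxt : x ∈ insert x (insert y hufin.toFinset) := Finset.mem_insert_self _ _
    have hyt : y ∈ insert x (insert y hufin.toFinset) :=
      Finset.mem_insert_of_mem (Finset.mem_insert_self _ _)
    obtain ⟨g, hgG, hg⟩ := hgen _ ht (Equiv.swap ⟨x, hxt⟩ ⟨y, hyt⟩)
    refine ⟨⟨g, hgG⟩, ?_, ?_⟩
    · intro z hz
      have hzt : z ∈ insert x (insert y hufin.toFinset) :=
        Finset.mem_insert_of_mem (Finset.mem_insert_of_mem (by simpa using hz))
      have := hg ⟨z, hzt⟩
      rw [Equiv.swap_apply_of_ne_of_ne] at this
      · exact this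
      · intro h
        apply hx
        have : z = x := congrArg Subtype.val h
        rwa [← this]
      · intro h
        apply hy
        have : z = y := congrArg Subtype.val h
        rwa [← this]
    · have := hg ⟨x, hxt⟩
      rw [Equiv.swap_apply_left] at this
      exact this
  · rintro s hs a b ha hb ⟨g, hgG, hgs, hgab⟩
    have hmem : ∀ x, g⁻¹ x ∈ s ↔ x ∈ s := by
      intro x
      have := Finset.smul_mem_smul_finset_iff (s := s) (b := g⁻¹ x) g
      rw [hgs] at this
      rw [← this]
      simp
    have hτs : ∀ x ∈ s, Equiv.Perm.ofSubtype ((g⁻¹).subtypePerm hmem) x = g⁻¹ x := fun x hx => by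
      rw [Equiv.Perm.ofSubtype_apply_of_mem _ hx]; rfl
    have hτn : ∀ x ∉ s, Equiv.Perm.ofSubtype ((g⁻¹).subtypePerm hmem) x = x := fun x hx =>
      Equiv.Perm.ofSubtype_apply_of_not_mem _ hx
    have ht : (insert b s).card = k + 1 := by rw [Finset.card_insert_of_notMem hb, hs]
    have hτt : ∀ x, Equiv.Perm.ofSubtype ((g⁻¹).subtypePerm hmem) x ∈ insert b s ↔
        x ∈ insert b s := by
      intro x
      by_cases hx : x ∈ s
      · rw [hτs x hx]
        constructor
        · intro _; exact Finset.mem_insert_of_mem hx
        · intro _; exact Finset.mem_insert_of_mem ((hmem x).2 hx)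
      · rw [hτn x hx]
    obtain ⟨h, hhG, hh⟩ := hgen _ ht ((Equiv.Perm.ofSubtype ((g⁻¹).subtypePerm hmem)).subtypePerm hτt)
    refine ⟨h * g, G.mul_mem hhG hgG, ?_, ?_⟩
    · intro x hx
      have hgx : g x ∈ s := by
        have := hmem (g x)
        have e1 : g⁻¹ (g x) = x := g.symm_apply_apply x
        rw [e1] at this
        exact this.1 hx
      have := hh ⟨g x, Finset.mem_insert_of_mem hgx⟩
      simp only [Equiv.Perm.subtypePerm_apply] at this
      rw [Equiv.Perm.mul_apply, this, hτs _ hgx]
      exact g.symm_apply_apply x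
    · have := hh ⟨b, Finset.mem_insert_self b s⟩
      simp only [Equiv.Perm.subtypePerm_apply] at this
      rw [Equiv.Perm.mul_apply, hgab, this, hτn b hb]

end Cfsg.Agent.S0705
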