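import Cfsg.Statements.S0707
import Mathlib
-- import your own Cfsg.Agent.* helpers here

set_option autoImplicit false
open Cfsg

namespace Cfsg.Agent.S0707

/-- In a primitive permutation group, distinct points have distinct stabilisers unless the group is regular of prime degree. -/
theorem result {α : Type*} (G : Subgroup (Equiv.Perm α)) [MulAction.IsPreprimitive G α] (h : ¬ (Nat.card α).Prime ∨ ∃ a : α, MulAction.stabilizer G a ≠ ⊥) {a b : α} (hab : a ≠ b) : MulAction.stabilizer G a ≠ MulAction.stabilizer G b := by
  classical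
  intro hK
  haveI : Nontrivial α := ⟨⟨a, b, hab⟩⟩
  haveI : MulAction.IsPretransitive G α := MulAction.IsPreprimitive.toIsPretransitive
  set K := MulAction.stabilizer G a with hKdef
  have hco : IsCoatom K := MulAction.IsPreprimitive.isCoatom_stabilizer_of_isPreprimitive G a
  -- an element moving a to b normalizes K but is not in K
  obtain ⟨g, hg⟩ := MulAction.exists_smul_eq G a b
  have hgK : g ∉ K := by
    intro h
    have : g • a = a := h
    exact hab (this.symm.trans hg)
  have hconj : ∀ x : G, x ∈ K ↔ g * x * g⁻¹ ∈ K := by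
    intro x
    have h1 : g * x * g⁻¹ ∈ MulAction.stabilizer G b ↔ x ∈ MulAction.stabilizer G a := by
      rw [← hg, MulAction.stabilizer_smul_eq_stabilizer_map_conj]
      constructor
      · rintro ⟨y, hy, hyx⟩
        have : y = x := by
          have h2 : g * y * g⁻¹ = g * x * g⁻¹ := hyx
          exact mul_left_cancel (mul_right_cancel h2)
        rw [← this]; exact hy
      · intro hx
        exact ⟨x, hx, rfl⟩
    rw [← hK] at h1
    exact h1.symm
  have hgN : g ∈ Subgroup.normalizer (K : Set G) := by
    rw [Subgroup.mem_normalizer_iff]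
    exact hconj
  have hKN : K ≤ Subgroup.normalizer (K : Set G) := Subgroup.le_normalizer
  have hNtop : Subgroup.normalizer (K : Set G) = ⊤ := by
    rcases eq_or_lt_of_le hKN with h | h
    · exact absurd (h ▸ hgN) hgK
    · exact hco.2 _ h
  -- K fixes every point
  have hKfix : ∀ (k : G), k ∈ K → ∀ x : α, k • x = x := by
    intro k hk x
    obtain ⟨y, hy⟩ := MulAction.exists_smul_eq G a x
    have hyN : y⁻¹ ∈ Subgroup.normalizer (K : Set G) := by rw [hNtop]; exact Subgroup.mem_top _
    rw [Subgroup.mem_normalizer_iff] at hyN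
    have h1 : y⁻¹ * k * y⁻¹⁻¹ ∈ K := (hyN k).mp hk
    rw [inv_inv] at h1
    have h2 : (y⁻¹ * k * y) • a = a := h1
    rw [← hy]
    rw [mul_smul, mul_smul, inv_smul_eq_iff] at h2
    exact h2
  have hKbot : K = ⊥ := by
    rw [Subgroup.eq_bot_iff_forall]
    intro k hk
    apply Subtype.ext
    ext x
    exact hKfix k hk x
  -- all stabilizers are trivial
  have hall : ∀ x : α, MulAction.stabilizer G x = ⊥ := by
    intro x
    rw [Subgroup.eq_bot_iff_forall]
    intro k hk
    obtain ⟨y, hy⟩ := MulAction.exists_smul_eq G a x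
    have h1 : y⁻¹ * k * y ∈ K := by
      change (y⁻¹ * k * y) • a = a
      rw [mul_smul, mul_smul, hy, hk, ← hy, inv_smul_smul]
    rw [hKbot, Subgroup.mem_bot] at h1
    have : k = y * (y⁻¹ * k * y) * y⁻¹ := by group
    rw [this, h1]; group
  rcases h with h | ⟨x, hx⟩
  · apply h
    rw [hKbot] at hco
    -- G is cyclic and simple
    obtain ⟨z, hz⟩ : ∃ z : G, z ≠ 1 := by
      by_contra hne
      push Not at hne
      exact hgK (by rw [hne g]; exact K.one_mem)
    have hztop : Subgroup.zpowers z = ⊤ := by
      apply hco.2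
      rw [bot_lt_iff_ne_bot]
      exact Subgroup.zpowers_ne_bot.mpr hz
    haveI : IsCyclic G := ⟨⟨z, fun x => by
      have : x ∈ Subgroup.zpowers z := by rw [hztop]; exact Subgroup.mem_top x
      exact this⟩⟩
    haveI : Nontrivial G := ⟨⟨z, 1, hz⟩⟩
    haveI : IsSimpleGroup G := ⟨fun H _ => by
      rcases eq_or_ne H ⊥ with h0 | h0
      · exact Or.inl h0
      · exact Or.inr (hco.2 _ (bot_lt_iff_ne_bot.mpr h0))⟩
    have hprime : (Nat.card G).Prime := Group.is_simple_iff_prime_card.mp inferInstance
    have hcard : Nat.card α = Nat.card G := by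
      symm
      refine Nat.card_congr (Equiv.ofBijective (fun y : G => y • a) ⟨?_, ?_⟩)
      · intro y y' hyy
        have hyy' : y • a = y' • a := hyy
        have : y'⁻¹ * y ∈ K := by
          change (y'⁻¹ * y) • a = a
          rw [mul_smul, hyy', inv_smul_smul]
        rw [hKbot, Subgroup.mem_bot] at this
        exact (inv_mul_eq_one.mp this).symm
      · intro x
        exact MulAction.exists_smul_eq G a x
    rw [hcard]
    exact hprime
  · exact hx (hall x)

end Cfsg.Agent.S0707
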