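import Cfsg.Statements.S0710
import Mathlib

set_option autoImplicit false
open Cfsg

namespace Cfsg.Agent.S0710

section Aux

open MulAction


variable {α : Type*} [Fintype α] [DecidableEq α]

/-- the centraliser of an element of order 13 in the symmetric group of degree 13 has order 13 -/
lemma card_centralizer_13 (hα : Fintype.card α = 13) (σ : Equiv.Perm α) (hσ : orderOf σ = 13) :
    Nat.card (Subgroup.centralizer ({σ} : Set (Equiv.Perm α))) = 13 := by
  have hp : (orderOf σ).Prime := by rw [hσ]; norm_num
  obtain ⟨n, hn⟩ := Equiv.Perm.cycleType_prime_order hp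
  rw [hσ] at hn
  have hsum : σ.cycleType.sum ≤ 13 := by
    rw [Equiv.Perm.sum_cycleType, ← hα]
    exact Finset.card_le_univ _
  rw [hn, Multiset.sum_replicate, smul_eq_mul] at hsum
  have hn0 : n = 0 := by omega
  subst hn0
  rw [Equiv.Perm.nat_card_centralizer, hn, hα]
  simp


theorem main (hα : Fintype.card α = 13) (G : Subgroup (Equiv.Perm α)) :
    Nat.card G ≠ 13 * 12 * 11 * 10 * 9 * 8 := by
  intro hG
  have hprime : Fact (Nat.Prime 13) := ⟨by norm_num⟩
  obtain P : Sylow 13 G := default
  obtain ⟨k, hk⟩ := P.2.exists_card_eq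
  have hdvd : 13 ∣ Nat.card P := P.dvd_card_of_dvd_card (by rw [hG]; norm_num)
  have hPdvd : Nat.card P ∣ Nat.card G := Subgroup.card_subgroup_dvd_card _
  have hk1 : k = 1 := by
    rcases k with _ | _ | k
    · rw [hk] at hdvd; norm_num at hdvd
    · rfl
    · exfalso
      rw [hk, hG] at hPdvd
      have : 13 ^ 2 ∣ 13 * 12 * 11 * 10 * 9 * 8 := (pow_dvd_pow 13 (by omega)).trans hPdvd
      norm_num at this
  rw [hk1, pow_one] at hk
  have hcyc : IsCyclic P := isCyclic_of_prime_card hk
  obtain ⟨g, hg⟩ := hcyc.exists_generator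
  have hog : orderOf g = 13 := by rw [orderOf_eq_card_of_forall_mem_zpowers hg, hk]
  set σ : Equiv.Perm α := ((g : G) : Equiv.Perm α) with hσ
  have hoσ : orderOf σ = 13 := by
    rw [hσ, Subgroup.orderOf_coe, Subgroup.orderOf_coe, hog]
  have hC : Nat.card (Subgroup.centralizer ((P : Subgroup G) : Set G)) = 13 := by
    apply le_antisymm
    · refine le_of_le_of_eq ?_ (card_centralizer_13 hα σ hoσ)
      let f : Subgroup.centralizer ((P : Subgroup G) : Set G) →
          Subgroup.centralizer ({σ} : Set (Equiv.Perm α)) := fun c =>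
        ⟨((c : G) : Equiv.Perm α), by
          rw [Subgroup.mem_centralizer_iff]
          intro h hh
          rw [Set.mem_singleton_iff] at hh
          subst hh
          have := Subgroup.mem_centralizer_iff.mp c.2 (g : G) g.2
          exact congrArg Subtype.val this⟩
      apply Nat.card_le_card_of_injective f
      intro c c' hcc
      have : ((c : G) : Equiv.Perm α) = ((c' : G) : Equiv.Perm α) :=
        congrArg (fun z : Subgroup.centralizer ({σ} : Set (Equiv.Perm α)) => (z : Equiv.Perm α)) hcc
      exact Subtype.ext (Subtype.ext this)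
    · refine le_of_eq_of_le hk.symm ?_
      have : IsMulCommutative (P : Subgroup G) := ⟨⟨hcyc.commGroup.mul_comm⟩⟩
      exact Subgroup.card_le_of_le (Subgroup.le_centralizer (P : Subgroup G))
  -- the normaliser
  set N : Subgroup G := Subgroup.normalizer ((P : Subgroup G) : Set G) with hN
  set φ : N →* MulAut (P : Subgroup G) := (P : Subgroup G).normalizerMonoidHom with hφ
  have hker : Nat.card φ.ker = 13 := by
    rw [hφ, Subgroup.normalizerMonoidHom_ker]
    refine Eq.trans ?_ hC
    exact Nat.card_congr
      (Subgroup.subgroupOfEquivOfLe (Subgroup.centralizer_le_normalizer _)).toEquiv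
  have hrange : Nat.card φ.range ∣ 12 := by
    have h1 : Nat.card φ.range ∣ Nat.card (MulAut (P : Subgroup G)) :=
      Subgroup.card_subgroup_dvd_card _
    rw [hcyc.card_mulAut, hk] at h1
    have : Nat.totient 13 = 12 := by rw [Nat.totient_prime (by norm_num)]
    rwa [this] at h1
  have hNcard : Nat.card N = 13 * Nat.card φ.range := by
    rw [← φ.ker.card_mul_index, Subgroup.index_ker, hker]
  have hsyl : Nat.card (Sylow 13 G) ≡ 1 [MOD 13] := card_sylow_modEq_one 13 G
  have hidx : Nat.card (Sylow 13 G) = N.index := Sylow.card_eq_index_normalizer P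
  have htot : Nat.card N * N.index = Nat.card G := N.card_mul_index
  rw [hNcard, ← hidx, hG] at htot
  set d := Nat.card φ.range with hd
  set m := Nat.card (Sylow 13 G) with hm
  have hd12 : d ≤ 12 := Nat.le_of_dvd (by norm_num) hrange
  have hd0 : 0 < d := Nat.pos_of_dvd_of_pos hrange (by norm_num)
  unfold Nat.ModEq at hsyl
  have hdm : d * m = 95040 := by
    have : 13 * (d * m) = 13 * 95040 := by rw [← mul_assoc, htot]
    omega
  interval_cases d <;> omega


end Aux

/-- No transitive permutation group on 13 points has order `13 * 12 * 11 * 10 * 9 * 8`. -/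
theorem result {α : Type*} [Fintype α] [DecidableEq α] (hα : Fintype.card α = 13) (G : Subgroup (Equiv.Perm α)) [MulAction.IsPretransitive G α] : Nat.card G ≠ 13 * 12 * 11 * 10 * 9 * 8 := by
  exact main hα G

end Cfsg.Agent.S0710
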