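import Cfsg.Statements.S0711
import Mathlib
import Cfsg.Agent.Lib.Helper5.MinDeg

set_option autoImplicit false
open Cfsg
open Equiv MulAction Cfsg.Agent.Lib.Helper5.MinDeg

namespace Cfsg.Agent.S0711

/-- A `k`-transitive permutation group (`k ≥ 3`) with a non-identity element of support smaller than `2k - 2` contains a non-identity element of support at most 3, and therefore contains the alternating group. -/
theorem result {α : Type*} [Fintype α] [DecidableEq α] (G : Subgroup (Equiv.Perm α)) {k : ℕ} (hk : 3 ≤ k) (hkn : k ≤ Fintype.card α) (hG : MulAction.IsMultiplyPretransitive G α k) (g : Equiv.Perm α) (hg : g ∈ G) (hg1 : g ≠ 1) (hsupp : g.support.card < 2 * k - 2) : (∃ h : Equiv.Perm α, h ∈ G ∧ h ≠ 1 ∧ h.support.card ≤ 3) ∧ alternatingGroup α ≤ G := by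
  have hkN : k ≤ Nat.card α := by rw [Nat.card_eq_fintype_card]; exact hkn
  -- part 1
  have part1 : ∃ h : Equiv.Perm α, h ∈ G ∧ h ≠ 1 ∧ h.support.card ≤ 3 := by
    by_cases hsmall : Fintype.card α ≤ k + 1
    · -- G = ⊤
      have hGtop : G = ⊤ := by
        apply Equiv.Perm.eq_top_of_isMultiplyPretransitive
        exact isMultiplyPretransitive_of_le (n := k) (by rw [Nat.card_eq_fintype_card]; omega) hkN
      obtain ⟨a, b, hab⟩ : ∃ a b : α, a ≠ b := by
        have : 1 < Fintype.card α := by omega
        obtain ⟨a, b, hab⟩ := Fintype.exists_pair_of_one_lt_card this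
        exact ⟨a, b, hab⟩
      refine ⟨swap a b, by rw [hGtop]; trivial, ?_, ?_⟩
      · intro h
        have := Perm.card_support_swap hab
        rw [h, Perm.support_one, Finset.card_empty] at this
        omega
      · rw [Perm.card_support_swap hab]; omega
    · push Not at hsmall
      have key : ∀ m : ℕ, ∀ g : Perm α, g ∈ G → g ≠ 1 → g.support.card = m → m < 2 * k - 2 →
          ∃ f : Perm α, f ∈ G ∧ f ≠ 1 ∧ f.support.card ≤ 3 := by
        intro m
        induction m using Nat.strong_induction_on with
        | _ m ih =>
          intro g hg hg1 hm hmk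
          by_cases hmn : g.support.card < Fintype.card α
          · obtain ⟨f, hfG, hf1, hf⟩ := descent G (by omega) hkn hG g hg hg1 hmn
            rcases hf with hf | ⟨hf2, hf3⟩
            · exact ⟨f, hfG, hf1, hf⟩
            · exact ih f.support.card (by omega) f hfG hf1 rfl (by omega)
          · -- g has no fixed points
            have hmn' : g.support.card = Fintype.card α :=
              le_antisymm (by rw [← Finset.card_univ]; exact Finset.card_le_card (Finset.subset_univ _))
                (not_lt.mp hmn)
            obtain ⟨Φ, -, hΦc⟩ := Finset.exists_subset_card_eq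
              (s := (Finset.univ : Finset α)) (n := k - 1) (by rw [Finset.card_univ]; omega)
            have hcompl : 1 < Φᶜ.card := by
              rw [Finset.card_compl, hΦc]; omega
            obtain ⟨y, hy, z, hz, hyz⟩ := Finset.one_lt_card.mp hcompl
            rw [Finset.mem_compl] at hy hz
            obtain ⟨h, hhG, hhΦ, hhy⟩ := exists_fixing G hkn hG Φ (by rw [hΦc]; omega) y z hy hz
            have hh1 : h ≠ 1 := by
              intro h1
              rw [h1] at hhy
              exact hyz hhy
            have hsup : h.support ⊆ Φᶜ := by
              intro x hx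
              rw [Finset.mem_compl]
              intro hxΦ
              exact (Perm.mem_support.mp hx) (hhΦ x hxΦ)
            have hsc := Finset.card_le_card hsup
            rw [Finset.card_compl, hΦc] at hsc
            exact ih h.support.card (by omega) h hhG hh1 rfl (by omega)
      exact key g.support.card g hg hg1 rfl hsupp
  refine ⟨part1, ?_⟩
  obtain ⟨f, hfG, hf1, hf3⟩ := part1
  have h2 : IsMultiplyPretransitive G α 2 :=
    isMultiplyPretransitive_of_le (n := k) (by omega) hkN
  have hprim : IsPreprimitive G α := isPreprimitive_of_is_two_pretransitive h2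
  have hc0 : f.support.card ≠ 0 := by
    rw [Ne, Finset.card_eq_zero, Perm.support_eq_empty_iff]
    exact hf1
  have hc1 := Perm.card_support_ne_one f
  have hcases : f.support.card = 2 ∨ f.support.card = 3 := by omega
  rcases hcases with h | h
  · have hsw : f.IsSwap := Perm.card_support_eq_two.mp h
    have := Perm.subgroup_eq_top_of_isPreprimitive_of_isSwap_mem hprim f hsw hfG
    rw [this]; exact le_top
  · have h3c : f.IsThreeCycle := card_support_eq_three_iff.mp h
    exact Perm.alternatingGroup_le_of_isPreprimitive_of_isThreeCycle_mem hprim h3c hfG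

end Cfsg.Agent.S0711
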