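import Cfsg.Statements.S0712
-- import your own Cfsg.Agent.* helpers here

set_option autoImplicit false
open Cfsg

namespace Cfsg.Agent.S0712

open MulAction SubMulAction in
theorem aux {G α : Type*} [Group G] [MulAction G α] [Finite α] (m : ℕ) (s : Set α)
    (hs : s.ncard = m) (hGm : IsMultiplyPretransitive G α m)
    (h2 : IsMultiplyPretransitive (fixingSubgroup G s) (ofFixingSubgroup G s) 2) :
    IsMultiplyPretransitive G α (m + 2) := by
  induction m generalizing G α with
  | zero =>
    have hs' : s = ∅ := by
      rwa [Set.ncard_eq_zero s.toFinite] at hs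
    subst hs'
    exact (IsPretransitive.of_embedding_congr
      (of_fixingSubgroupEmpty_mapScalars_surjective (M := G) (α := α))
      (ofFixingSubgroupEmpty_equivariantMap_bijective (M := G) (α := α))).mp h2
  | succ m ih =>
    have hne : s.Nonempty := by
      rw [← Set.ncard_pos s.toFinite, hs]; exact Nat.succ_pos m
    obtain ⟨a, t, ha, rfl⟩ : ∃ (a : α) (t : Set (SubMulAction.ofStabilizer G a)),
        a ∈ s ∧ s = insert a (Subtype.val '' t) := by
      obtain ⟨a, ha⟩ := hne
      refine ⟨a, Subtype.val ⁻¹' s, ha, ?_⟩
      ext x
      by_cases hx : x = a <;> simp [hx, SubMulAction.mem_ofStabilizer_iff, ha]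
    have ha' : a ∉ Subtype.val '' t := by
      rintro ⟨x, _, hx⟩
      exact x.prop (by rw [hx]; exact Set.mem_singleton a)
    have htcard : t.ncard = m := by
      have h1 : (insert a (Subtype.val '' t)).ncard = (Subtype.val '' t).ncard + 1 :=
        Set.ncard_insert_of_notMem ha' (Set.toFinite _)
      rw [Set.ncard_image_of_injective t Subtype.val_injective] at h1
      omega
    have hcard : m + 1 ≤ Nat.card α := by
      rw [← hs, ← Set.ncard_univ]
      exact Set.ncard_le_ncard (Set.subset_univ _) Set.finite_univ
    have hG1 : IsPretransitive G α := by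
      rw [← is_one_pretransitive_iff]
      exact isMultiplyPretransitive_of_le (n := m + 1) (by omega) (by exact_mod_cast hcard)
    have hstab : IsMultiplyPretransitive (stabilizer G a) (ofStabilizer G a) m :=
      (ofStabilizer.isMultiplyPretransitive (G := G) (a := a)).mp hGm
    have h2' : IsMultiplyPretransitive (fixingSubgroup (stabilizer G a) t)
        (ofFixingSubgroup (stabilizer G a) t) 2 :=
      (IsPretransitive.of_embedding_congr (fixingSubgroupInsertEquiv a t).surjective
        ofFixingSubgroup_insert_map_bijective).mp h2
    have := ih (G := stabilizer G a) (α := ofStabilizer G a) t htcard hstab h2'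
    exact (ofStabilizer.isMultiplyPretransitive (G := G) (a := a)).mpr this

/-- Jordan: a primitive group in which the pointwise stabiliser of a set `s` is doubly transitive on the complement of `s` (which has at least 2 points) is `(|s| + 2)`-transitive. -/
theorem result {α : Type*} [Fintype α] [DecidableEq α] (G : Subgroup (Equiv.Perm α)) (hG : MulAction.IsPreprimitive G α) (s : Set α) {m : ℕ} (hsm : s.ncard = m) (hm : m + 2 ≤ Fintype.card α) (h2 : MulAction.IsMultiplyPretransitive (fixingSubgroup G s) (SubMulAction.ofFixingSubgroup G s) 2) : MulAction.IsMultiplyPretransitive G α (m + 2) := by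
  classical
  have hm2 : 0 < Fintype.card α := by omega
  rcases Nat.eq_zero_or_pos m with hm0 | hmpos
  · subst hm0
    exact aux 0 s hsm MulAction.is_zero_pretransitive h2
  · obtain ⟨n, rfl⟩ : ∃ n, m = n + 1 := ⟨m - 1, by omega⟩
    have hprim : MulAction.IsPreprimitive (fixingSubgroup G s) (SubMulAction.ofFixingSubgroup G s) :=
      MulAction.isPreprimitive_of_is_two_pretransitive h2
    have hcard : n + 2 < Nat.card α := by
      rw [Nat.card_eq_fintype_card]; omega
    have hJ : MulAction.IsMultiplyPreprimitive G α (n + 2) :=
      hG.isMultiplyPreprimitive hsm hcard hprim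
    have hGm : MulAction.IsMultiplyPretransitive G α (n + 1) := by
      have h1 : MulAction.IsMultiplyPretransitive G α (n + 2) := hJ.isMultiplyPretransitive
      exact MulAction.isMultiplyPretransitive_of_le (n := n + 2) (by omega)
        (by omega)
    exact aux (n + 1) s hsm hGm h2

end Cfsg.Agent.S0712
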