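import Cfsg.Statements.S0714
import Mathlib
-- import your own Cfsg.Agent.* helpers here

set_option autoImplicit false
open Cfsg

namespace Cfsg.Agent.S0714

open Equiv MulAction in
theorem permRep_single {K : Type*} [Field K] {G : Type*} [Group G] {Ω : Type*} [DecidableEq Ω]
    [MulAction G Ω] (g : G) (x : Ω) (c : K) :
    Cfsg.permRep K G Ω g (Pi.single x c) = Pi.single (g • x) c := by
  ext y
  show (Pi.single x c : Ω → K) (g⁻¹ • y) = (Pi.single (g • x) c : Ω → K) y
  rw [Pi.single_apply, Pi.single_apply]
  by_cases h : y = g • x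
  · rw [if_pos h, if_pos (by rw [h, inv_smul_smul])]
  · rw [if_neg h, if_neg (fun h' => h (by rw [← h', smul_inv_smul]))]

theorem permRep_apply {K : Type*} [Field K] {G : Type*} [Group G] {Ω : Type*}
    [MulAction G Ω] (g : G) (f : Ω → K) (y : Ω) :
    Cfsg.permRep K G Ω g f y = f (g⁻¹ • y) := rfl

open Equiv in
/-- inverse of the three-cycle `swap a d * swap a t` -/
theorem c3_inv_smul {α : Type*} [Fintype α] [DecidableEq α] (a d t : α) (had : a ≠ d)
    (hat : a ≠ t) (hdt : d ≠ t) (y : α) :
    ((⟨swap a d * swap a t,
      (Equiv.Perm.isThreeCycle_swap_mul_swap_same had hat hdt).mem_alternatingGroup⟩ :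
        alternatingGroup α)⁻¹ • y : α) = swap a t (swap a d y) := by
  show ((swap a d * swap a t)⁻¹ : Perm α) y = _
  rw [mul_inv_rev, swap_inv, swap_inv, Perm.mul_apply]

/-- Over any field, the permutation module of the alternating group of degree at least 5 has exactly four invariant subspaces: zero, the constant functions, the functions with coordinate sum zero, and everything. -/
theorem result {α : Type*} [Fintype α] [DecidableEq α] (hα : 5 ≤ Fintype.card α) {K : Type*} [Field K] (W : Subrepresentation (Cfsg.permRep K (alternatingGroup α) α)) : W.toSubmodule = ⊥ ∨ W = Cfsg.permConstants K (alternatingGroup α) α ∨ W = Cfsg.permSumZero K (alternatingGroup α) α ∨ W.toSubmodule = ⊤ := by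
  classical
  have hcard : Nat.card α = Fintype.card α := Nat.card_eq_fintype_card
  have hne : Nonempty α := by
    rw [← Fintype.card_pos_iff]; omega
  obtain ⟨a₀⟩ := hne
  -- 2-transitivity
  have h2 : MulAction.IsMultiplyPretransitive (alternatingGroup α) α 2 := by
    have := alternatingGroup.isMultiplyPretransitive α
    exact MulAction.isMultiplyPretransitive_of_le (n := Nat.card α - 2) (by omega) (Nat.sub_le _ _)
  -- S1
  have hS1 : (∃ p q : α, p ≠ q ∧ (Pi.single p (1 : K) - Pi.single q 1 : α → K) ∈ W.toSubmodule) →
      ∀ r s : α, r ≠ s → (Pi.single r (1 : K) - Pi.single s 1 : α → K) ∈ W.toSubmodule := by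
    rintro ⟨p, q, hpq, hmem⟩ r s hrs
    obtain ⟨g, hgp, hgq⟩ := MulAction.is_two_pretransitive_iff.1 h2 hpq hrs
    have := W.apply_mem_toSubmodule g hmem
    rw [map_sub, permRep_single, permRep_single, hgp, hgq] at this
    exact this
  -- S2
  have hS2 : (∃ p q : α, p ≠ q ∧ (Pi.single p (1 : K) - Pi.single q 1 : α → K) ∈ W.toSubmodule) →
      (Cfsg.permSumZero K (alternatingGroup α) α).toSubmodule ≤ W.toSubmodule := by
    intro hex f hf
    have hf0 : ∑ x, f x = 0 := hf
    have hrep : f = ∑ x, f x • (Pi.single x (1 : K) - Pi.single a₀ 1 : α → K) := by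
      ext y
      rw [Finset.sum_apply]
      have hterm : ∀ x, (f x • (Pi.single x (1 : K) - Pi.single a₀ 1 : α → K)) y =
          (if y = x then f x else 0) - f x * (if y = a₀ then 1 else 0) := by
        intro x
        rw [Pi.smul_apply, Pi.sub_apply, Pi.single_apply, Pi.single_apply, smul_eq_mul, mul_sub,
          mul_ite, mul_one, mul_zero]
      simp_rw [hterm]
      rw [Finset.sum_sub_distrib, ← Finset.sum_mul, hf0, zero_mul, sub_zero, Finset.sum_ite_eq,
        if_pos (Finset.mem_univ _)]
    rw [hrep]
    apply Submodule.sum_mem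
    intro x _
    apply Submodule.smul_mem
    by_cases hx : x = a₀
    · rw [hx, sub_self]; exact Submodule.zero_mem _
    · exact hS1 hex x a₀ hx
  -- S3
  have hS3 : (∃ p q : α, p ≠ q ∧ (Pi.single p (1 : K) - Pi.single q 1 : α → K) ∈ W.toSubmodule) →
      W = Cfsg.permSumZero K (alternatingGroup α) α ∨ W.toSubmodule = ⊤ := by
    intro hex
    have hle := hS2 hex
    by_cases hall : ∀ w ∈ W.toSubmodule, ∑ x, w x = 0
    · left
      apply Subrepresentation.toSubmodule_injective
      exact le_antisymm (fun w hw => hall w hw) hle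
    · right
      push Not at hall
      obtain ⟨w, hw, hs⟩ := hall
      rw [eq_top_iff]
      intro f _
      have : f = (f - ((∑ x, f x) / (∑ x, w x)) • w) + ((∑ x, f x) / (∑ x, w x)) • w := by abel
      rw [this]
      apply Submodule.add_mem
      · apply hle
        show ∑ x, (f - ((∑ x, f x) / (∑ x, w x)) • w) x = 0
        simp only [Pi.sub_apply, Pi.smul_apply, smul_eq_mul, Finset.sum_sub_distrib,
          ← Finset.mul_sum]
        rw [div_mul_cancel₀ _ hs, sub_self]
      · exact Submodule.smul_mem _ _ hw
  by_cases hconst : ∀ v ∈ W.toSubmodule, ∀ a b : α, v a = v b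
  · -- constants case
    by_cases hbot : W.toSubmodule = ⊥
    · exact Or.inl hbot
    · right; left
      apply Subrepresentation.toSubmodule_injective
      show W.toSubmodule = Submodule.span K {fun _ => (1 : K)}
      obtain ⟨v, hv, hv0⟩ := Submodule.exists_mem_ne_zero_of_ne_bot hbot
      have hva : v a₀ ≠ 0 := by
        intro h0
        apply hv0
        ext y
        rw [hconst v hv y a₀, h0]; rfl
      have hone : (fun _ => (1 : K)) ∈ W.toSubmodule := by
        have : (fun _ : α => (1 : K)) = (v a₀)⁻¹ • v := by
          ext y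
          rw [Pi.smul_apply, smul_eq_mul, hconst v hv y a₀, inv_mul_cancel₀ hva]
        rw [this]
        exact Submodule.smul_mem _ _ hv
      apply le_antisymm
      · intro w hw
        rw [Submodule.mem_span_singleton]
        refine ⟨w a₀, ?_⟩
        ext y
        rw [Pi.smul_apply, smul_eq_mul, mul_one, hconst w hw y a₀]
      · rw [Submodule.span_le, Set.singleton_subset_iff]
        exact hone
  · -- nonconstant: produce e_p - e_q
    right; right
    apply hS3
    push Not at hconst
    obtain ⟨v, hv, a, b, hvab⟩ := hconst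
    have hab : a ≠ b := by
      rintro rfl; exact hvab rfl
    -- three more points
    have hcard3 : 2 < (Finset.univ \ {a, b} : Finset α).card := by
      have h1 : ({a, b} : Finset α).card = 2 := Finset.card_pair hab
      have h2 := Finset.card_sdiff_add_card_eq_card (Finset.subset_univ ({a, b} : Finset α))
      rw [Finset.card_univ, h1] at h2
      omega
    obtain ⟨c, hc, d, hd, t, ht, hcd, hct, hdt⟩ := Finset.two_lt_card.1 hcard3
    simp only [Finset.mem_sdiff, Finset.mem_univ, Finset.mem_insert, Finset.mem_singleton,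
      true_and, not_or] at hc hd ht
    obtain ⟨hca, hcb⟩ := hc
    obtain ⟨hda, hdb⟩ := hd
    obtain ⟨hta, htb⟩ := ht
    have hac : a ≠ c := Ne.symm hca
    have hbc : b ≠ c := Ne.symm hcb
    have had : a ≠ d := Ne.symm hda
    have hat : a ≠ t := Ne.symm hta
    -- first three-cycle
    set g₁ : alternatingGroup α := ⟨Equiv.swap a b * Equiv.swap a c,
      (Equiv.Perm.isThreeCycle_swap_mul_swap_same hab hac hbc).mem_alternatingGroup⟩ with hg₁
    have hg₁inv : ∀ y : α, (g₁⁻¹ • y : α) = Equiv.swap a c (Equiv.swap a b y) :=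
      c3_inv_smul a b c hab hac hbc
    set u : α → K := v - Cfsg.permRep K (alternatingGroup α) α g₁ v with hu
    have huW : u ∈ W.toSubmodule := Submodule.sub_mem _ hv (W.apply_mem_toSubmodule g₁ hv)
    have hu_apply : ∀ y, u y = v y - v (Equiv.swap a c (Equiv.swap a b y)) := by
      intro y
      rw [hu, Pi.sub_apply, permRep_apply, hg₁inv]
    have hua : u a = v a - v b := by
      rw [hu_apply, Equiv.swap_apply_left, Equiv.swap_apply_of_ne_of_ne (Ne.symm hab) hbc]
    have hud : u d = 0 := by
      rw [hu_apply, Equiv.swap_apply_of_ne_of_ne hda hdb,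
        Equiv.swap_apply_of_ne_of_ne hda hcd.symm, sub_self]
    have hut : u t = 0 := by
      rw [hu_apply, Equiv.swap_apply_of_ne_of_ne hta htb,
        Equiv.swap_apply_of_ne_of_ne hta hct.symm, sub_self]
    have hua0 : u a ≠ 0 := by
      rw [hua]; exact sub_ne_zero.2 hvab
    -- second three-cycle
    set g₂ : alternatingGroup α := ⟨Equiv.swap a d * Equiv.swap a t,
      (Equiv.Perm.isThreeCycle_swap_mul_swap_same had hat hdt).mem_alternatingGroup⟩ with hg₂
    have hg₂inv : ∀ y : α, (g₂⁻¹ • y : α) = Equiv.swap a t (Equiv.swap a d y) :=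
      c3_inv_smul a d t had hat hdt
    have hu'W : u - Cfsg.permRep K (alternatingGroup α) α g₂ u ∈ W.toSubmodule :=
      Submodule.sub_mem _ huW (W.apply_mem_toSubmodule g₂ huW)
    have hu' : u - Cfsg.permRep K (alternatingGroup α) α g₂ u =
        u a • (Pi.single a (1 : K) - Pi.single t 1 : α → K) := by
      ext y
      rw [Pi.sub_apply, permRep_apply, hg₂inv, Pi.smul_apply, Pi.sub_apply, Pi.single_apply,
        Pi.single_apply, smul_eq_mul]
      by_cases hya : y = a
      · subst hya
        rw [Equiv.swap_apply_left, Equiv.swap_apply_of_ne_of_ne hda hdt, hud, if_pos rfl,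
          if_neg hat]
        ring
      · by_cases hyt : y = t
        · subst hyt
          rw [Equiv.swap_apply_of_ne_of_ne hya hdt.symm, Equiv.swap_apply_right, hut, if_neg hya,
            if_pos rfl]
          ring
        · by_cases hyd : y = d
          · subst hyd
            rw [Equiv.swap_apply_right, Equiv.swap_apply_left, hut, hud, if_neg hya, if_neg hyt]
            ring
          · rw [Equiv.swap_apply_of_ne_of_ne hya hyd, Equiv.swap_apply_of_ne_of_ne hya hyt,
              if_neg hya, if_neg hyt]
            ring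
    refine ⟨a, t, hat, ?_⟩
    have : (Pi.single a (1 : K) - Pi.single t 1 : α → K) =
        (u a)⁻¹ • (u - Cfsg.permRep K (alternatingGroup α) α g₂ u) := by
      rw [hu', smul_smul, inv_mul_cancel₀ hua0, one_smul]
    rw [this]
    exact Submodule.smul_mem _ _ hu'W

end Cfsg.Agent.S0714
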