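import Cfsg.Statements.S0717
import Mathlib
import Cfsg.Agent.Lib.Helper2.PermReal

set_option autoImplicit false
open Cfsg

namespace Cfsg.Agent.S0717

open Cfsg.Agent.Lib.Helper2.PermCent Cfsg.Agent.Lib.Helper2.PermReal Representation in

/-- All suborbits of a transitive group are self-paired (every pair of points is interchanged by some group element) if and only if the permutation character is multiplicity-free and each of its irreducible constituents is real-valued. -/
theorem result {G : Type*} [Group G] [Fintype G] {Ω : Type*} [Fintype Ω] [MulAction G Ω] [MulAction.IsPretransitive G Ω] : (∀ a b : Ω, ∃ g : G, g • a = b ∧ g • b = a) ↔ ∀ χ : G → ℂ, Cfsg.IsIrrCharacter G χ → Cfsg.classInner (fun g : G => (Nat.card (MulAction.fixedBy Ω g) : ℂ)) χ ≠ 0 → Cfsg.classInner (fun g : G => (Nat.card (MulAction.fixedBy Ω g) : ℂ)) χ = 1 ∧ ∀ g : G, (starRingEnd ℂ) (χ g) = χ g := by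
  have hchar : (fun g : G => (Nat.card (MulAction.fixedBy Ω g) : ℂ)) =
      (Cfsg.permRep ℂ G Ω).character := by
    funext g
    rw [permRep_character]
  rw [hchar]
  constructor
  · intro hgt χ hχ hne
    exact multFree_real_of_generous hgt hχ hne
  · intro H a b
    classical
    by_contra hno
    push Not at hno
    let O : Ω → Ω → Prop := fun x y => ∃ g : G, g • a = x ∧ g • b = y
    let M : Matrix Ω Ω ℂ := fun x y => (if O x y then 1 else 0) - (if O y x then 1 else 0)
    have hMdef : ∀ x y, M x y = (if O x y then (1 : ℂ) else 0) - (if O y x then 1 else 0) :=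
      fun x y => rfl
    have hO : ∀ (g : G) x y, O (g • x) (g • y) ↔ O x y := by
      intro g x y
      constructor
      · rintro ⟨h, h1, h2⟩
        refine ⟨g⁻¹ * h, ?_, ?_⟩
        · rw [mul_smul, h1, inv_smul_smul]
        · rw [mul_smul, h2, inv_smul_smul]
      · rintro ⟨h, h1, h2⟩
        refine ⟨g * h, ?_, ?_⟩
        · rw [mul_smul, h1]
        · rw [mul_smul, h2]
    have hM : M = 0 := by
      apply antisymm_real_eq_zero H M
      · intro x y
        rw [hMdef, map_sub]
        split_ifs <;> simp
      · intro x y
        rw [hMdef, hMdef, neg_sub]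
      · intro g x y
        rw [hMdef, hMdef]
        simp only [hO]
    have h1 : M a b = 1 := by
      rw [hMdef, if_pos ⟨1, one_smul _ _, one_smul _ _⟩, if_neg, sub_zero]
      rintro ⟨g, h1, h2⟩
      exact hno g h1 h2
    rw [hM] at h1
    exact zero_ne_one h1

end Cfsg.Agent.S0717
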