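import Cfsg.Statements.S0718
import Mathlib
import Cfsg.Agent.Lib.Helper2.PermCent

set_option autoImplicit false
open Cfsg

namespace Cfsg.Agent.S0718

open Cfsg.Agent.Lib.Helper2.PermCent Representation in

/-- Multiplicity-freeness of the permutation character is equivalent to commutativity of the centraliser ring, i.e. of the algebra of `G`-equivariant endomorphisms of the complex permutation module. -/
theorem result {G : Type*} [Group G] [Fintype G] {Ω : Type*} [Fintype Ω] [MulAction G Ω] : (∀ χ : G → ℂ, Cfsg.IsIrrCharacter G χ → Cfsg.classInner (fun g : G => (Nat.card (MulAction.fixedBy Ω g) : ℂ)) χ = 0 ∨ Cfsg.classInner (fun g : G => (Nat.card (MulAction.fixedBy Ω g) : ℂ)) χ = 1) ↔ ∀ S T : (Ω → ℂ) →ₗ[ℂ] (Ω → ℂ), S ∈ ((Cfsg.permRep ℂ G Ω).linHom (Cfsg.permRep ℂ G Ω)).invariants → T ∈ ((Cfsg.permRep ℂ G Ω).linHom (Cfsg.permRep ℂ G Ω)).invariants → S ∘ₗ T = T ∘ₗ S := by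
  have hchar : (fun g : G => (Nat.card (MulAction.fixedBy Ω g) : ℂ)) =
      (Cfsg.permRep ℂ G Ω).character := by
    funext g
    rw [permRep_character]
  rw [hchar]
  constructor
  · intro hmf S T hS hT
    rw [mem_invariants_linHom_iff] at hS hT
    let S' : IntertwiningMap (Cfsg.permRep ℂ G Ω) (Cfsg.permRep ℂ G Ω) := ⟨S, hS⟩
    let T' : IntertwiningMap (Cfsg.permRep ℂ G Ω) (Cfsg.permRep ℂ G Ω) := ⟨T, hT⟩
    apply LinearMap.ext
    intro v
    exact comm_of_multFree (Cfsg.permRep ℂ G Ω) hmf S' T' v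
  · intro hcomm χ hχ
    apply multFree_of_comm (Cfsg.permRep ℂ G Ω) _ hχ
    intro S T v
    have hS : S.toLinearMap ∈ ((Cfsg.permRep ℂ G Ω).linHom (Cfsg.permRep ℂ G Ω)).invariants := by
      rw [mem_invariants_linHom_iff]
      exact S.isIntertwining'
    have hT : T.toLinearMap ∈ ((Cfsg.permRep ℂ G Ω).linHom (Cfsg.permRep ℂ G Ω)).invariants := by
      rw [mem_invariants_linHom_iff]
      exact T.isIntertwining'
    exact LinearMap.congr_fun (hcomm S.toLinearMap T.toLinearMap hS hT) v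

end Cfsg.Agent.S0718
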