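import Cfsg.Statements.S0720
import Cfsg.Agent.Lib.Helper19.W2PFinal
import Cfsg.Agent.Lib.Helper23.W2PDECOMP
import Cfsg.Agent.Lib.Helper5.W2PIDEM
import Cfsg.Agent.Lib.Helper5.W2PORB
import Cfsg.Agent.Lib.Helper7.W2PBLK
import Cfsg.Agent.Lib.Helper23.W2PCOUNT

set_option autoImplicit false
open Cfsg

namespace Cfsg.Agent.S0720

/-- Wielandt's Theorem on primitive groups of degree `2p`: such a group is doubly transitive, or it has rank 3, `p = 2a² + 2a + 1`, and subdegrees `a(2a+1)` and `(a+1)(2a+1)`. -/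
theorem result {α : Type*} [Fintype α] [DecidableEq α] {p : ℕ} (hp : p.Prime) (hα : Fintype.card α = 2 * p) (G : Subgroup (Equiv.Perm α)) (hG : MulAction.IsPreprimitive G α) (a₀ : α) : MulAction.IsMultiplyPretransitive G α 2 ∨ (Nat.card (MulAction.orbitRel.Quotient (MulAction.stabilizer G a₀) α) = 3 ∧ ∃ a : ℕ, 0 < a ∧ p = 2 * a ^ 2 + 2 * a + 1 ∧ ∀ b : α, b ≠ a₀ → Nat.card (MulAction.orbit (MulAction.stabilizer G a₀) b) = a * (2 * a + 1) ∨ Nat.card (MulAction.orbit (MulAction.stabilizer G a₀) b) = (a + 1) * (2 * a + 1)) := by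
  classical
  let _ : Fintype G := Fintype.ofFinite _
  have : Fact p.Prime := ⟨hp⟩
  exact Cfsg.Agent.Lib.Helper19.W2PFinal.wielandt_2p_of hp hα hG a₀
    (fun hodd h2 P hP hSyl hsemi =>
      Cfsg.Agent.Lib.Helper23.W2PDECOMP.exists_chi1 hp hodd hα hG h2 P hP hSyl hsemi)
    (fun P χ₁ h hne =>
      have : MulAction.IsPretransitive G α := hG.toIsPretransitive
      have : Nonempty α := ⟨a₀⟩
      Cfsg.Agent.Lib.Helper5.W2PIDEM.idemFacts P χ₁ h hne)
    (fun hodd P hP hsemi χ₁ f =>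
      Cfsg.Agent.Lib.Helper5.W2PORB.exists_orbData hp hodd hα hG P hP hsemi χ₁ f)
    (fun hodd P hP hSyl π hπ0 hπpow hπ1 χ₁ hdeg hχ₁ T htriv hχ₁T hdec ht =>
      Cfsg.Agent.Lib.Helper7.W2PBLK.relIndex_mul_card hodd P hP hSyl π hπ0 hπpow hπ1 χ₁ hdeg hχ₁ T htriv
        hχ₁T hdec ht)
    (fun hodd P hP hsemi χ₁ a S d t hrank hblk =>
      have : MulAction.IsPretransitive G α := hG.toIsPretransitive
      Cfsg.Agent.Lib.Helper23.W2PCOUNT.card_S_eq hp hodd hα P hP hsemi χ₁ a S d a₀ t hrank hblk)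

end Cfsg.Agent.S0720
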