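import Cfsg.Statements.S0722
-- import your own Cfsg.Agent.* helpers here

set_option autoImplicit false
open Cfsg

namespace Cfsg.Agent.S0722

/-- In a primitive group `H`, with `N` a minimal normal subgroup and `K` a point stabiliser, `K ⊓ N` is maximal among proper `K`-invariant subgroups of `N`. -/
theorem result {α : Type*} [Finite α] (H : Subgroup (Equiv.Perm α)) [MulAction.IsPreprimitive H α] (N : Subgroup H) [N.Normal] (hN : N ≠ ⊥) (hmin : ∀ M : Subgroup H, M.Normal → M ≤ N → M = ⊥ ∨ M = N) (a : α) (X : Subgroup H) (hX : X ≤ N) (hKX : MulAction.stabilizer H a ⊓ N ≤ X) (hinv : MulAction.stabilizer H a ≤ Subgroup.normalizer (X : Set H)) : X = MulAction.stabilizer H a ⊓ N ∨ X = N := by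
  classical
  rcases subsingleton_or_nontrivial α with hα | hα
  · exfalso
    apply hN
    rw [Subgroup.eq_bot_iff_forall]
    intro n _
    apply Subtype.ext
    apply Equiv.ext
    intro x
    exact Subsingleton.elim _ _
  set K := MulAction.stabilizer H a with hK
  have hco : IsCoatom K := MulAction.IsPreprimitive.isCoatom_stabilizer_of_isPreprimitive H a
  have hle : K ≤ X ⊔ K := le_sup_right
  rcases eq_or_lt_of_le hle with h | h
  · left
    have hXK : X ≤ K := by
      rw [h]; exact le_sup_left
    exact le_antisymm (le_inf hXK hX) hKX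
  · right
    have htop : X ⊔ K = ⊤ := hco.2 _ h
    apply le_antisymm hX
    intro n hn
    have hmem : n ∈ ((X ⊔ K : Subgroup H) : Set H) := by
      rw [htop]; exact Subgroup.mem_top n
    rw [Subgroup.coe_mul_of_right_le_normalizer_left X K hinv, Set.mem_mul] at hmem
    obtain ⟨x, hx, k, hk, hxk⟩ := hmem
    have hkN : k ∈ N := by
      have : k = x⁻¹ * n := by rw [← hxk, inv_mul_cancel_left]
      rw [this]
      exact N.mul_mem (N.inv_mem (hX hx)) hn
    have hkX : k ∈ X := hKX ⟨hk, hkN⟩
    rw [← hxk]
    exact X.mul_mem hx hkX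

end Cfsg.Agent.S0722
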