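import Cfsg.Statements.S0723
import Cfsg.Agent.Lib.Helper19.MinNormalPower
import Cfsg.Agent.Lib.Helper19.PrimSocle
import Cfsg.Agent.Lib.Helper8.OnanScottCore

set_option autoImplicit false
open Cfsg

namespace Cfsg.Agent.S0723

open Cfsg.Agent.Lib.Helper8.OnanScottCore in
/-- group-level version: `K` a core-escaping maximal subgroup, `N` minimal normal. -/
theorem glue {H : Type*} [Group H] [Finite H] (K N : Subgroup H) [N.Normal] (hK : IsCoatom K)
    (hNK : ¬ N ≤ K) (hmin : ∀ M : Subgroup H, M.Normal → M ≤ N → M = ⊥ ∨ M = N)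
    {T : Type} [Group T] [Finite T] [IsSimpleGroup T] {m : ℕ} (e₀ : N ≃* (Fin m → T)) :
    ∃ Γ : Subgroup (MulAut (Fin m → T)),
      Hyp Γ ((K.subgroupOf N).map e₀.toMonoidHom) := by
  let Φ : H →* MulAut (Fin m → T) := (MulAut.congr e₀).toMonoidHom.comp MulAut.conjNormal
  have hΦ : ∀ (h : H) (n : N), Φ h (e₀ n) = e₀ (MulAut.conjNormal h n) := by
    intro h n
    simp [Φ, MulAut.congr]
  have hmemD : ∀ n : N, e₀ n ∈ (K.subgroupOf N).map e₀.toMonoidHom ↔ (n : H) ∈ K := by
    intro n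
    constructor
    · rintro ⟨n', hn', hnn'⟩
      have : n' = n := e₀.injective hnn'
      rw [← this]
      exact hn'
    · intro hn
      exact ⟨n, hn, rfl⟩
  have hKN : K ⊔ N = ⊤ := by
    by_contra hne
    have hle : K ≤ K ⊔ N := le_sup_left
    rcases eq_or_lt_of_le hle with h | h
    · apply hNK
      rw [h]; exact le_sup_right
    · exact hne (hK.2 _ h)
  -- a helper: the subgroup of H attached to a subgroup of P
  let lift : Subgroup (Fin m → T) → Subgroup H := fun X => (X.comap e₀.toMonoidHom).map N.subtype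
  have hlift : ∀ (X : Subgroup (Fin m → T)) (x : H), x ∈ lift X ↔ ∃ n : N, (n : H) = x ∧ e₀ n ∈ X := by
    intro X x
    constructor
    · rintro ⟨n, hn, rfl⟩
      exact ⟨n, rfl, hn⟩
    · rintro ⟨n, rfl, hn⟩
      exact ⟨n, hn, rfl⟩
  have hnorm : ∀ X : Subgroup (Fin m → T), (∀ γ ∈ K.map Φ, ∀ x ∈ X, γ x ∈ X) →
      K ≤ Subgroup.normalizer (lift X : Set H) := by
    intro X hX k hk
    rw [Subgroup.mem_normalizer_iff]
    intro x
    constructor
    · intro hx
      obtain ⟨n, rfl, hn⟩ := (hlift X x).1 hx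
      refine (hlift X _).2 ⟨MulAut.conjNormal k n, MulAut.conjNormal_apply k n, ?_⟩
      rw [← hΦ]
      exact hX _ ⟨k, hk, rfl⟩ _ hn
    · intro hx
      obtain ⟨n, hnx, hn⟩ := (hlift X _).1 hx
      refine (hlift X _).2 ⟨MulAut.conjNormal k⁻¹ n, ?_, ?_⟩
      · rw [MulAut.conjNormal_apply, hnx]; group
      · rw [← hΦ]
        exact hX _ ⟨k⁻¹, K.inv_mem hk, rfl⟩ _ hn
  refine ⟨K.map Φ, ?_, ?_, ?_, ?_⟩
  · -- ne_top
    intro htop
    apply hNK
    intro x hx
    have : e₀ ⟨x, hx⟩ ∈ (K.subgroupOf N).map e₀.toMonoidHom := htop ▸ Subgroup.mem_top _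
    exact (hmemD ⟨x, hx⟩).1 this
  · -- inv
    rintro _ ⟨k, hk, rfl⟩ d hd
    obtain ⟨n, hn, rfl⟩ := hd
    show Φ k (e₀ n) ∈ _
    rw [hΦ, hmemD, MulAut.conjNormal_apply]
    exact K.mul_mem (K.mul_mem hk hn) (K.inv_mem hk)
  · -- max
    intro X hDX hX
    have hn := hnorm X hX
    have hle : K ≤ K ⊔ lift X := le_sup_left
    rcases eq_or_lt_of_le hle with h | h
    · left
      apply le_antisymm _ hDX
      intro x hx
      obtain ⟨n, rfl⟩ := e₀.surjective x
      rw [hmemD]
      have : (n : H) ∈ lift X := (hlift X _).2 ⟨n, rfl, hx⟩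
      rw [h]
      exact (le_sup_right : lift X ≤ K ⊔ lift X) this
    · right
      have htop := hK.2 _ h
      rw [eq_top_iff]
      intro x _
      obtain ⟨n, rfl⟩ := e₀.surjective x
      have hmem : (n : H) ∈ K ⊔ lift X := htop ▸ Subgroup.mem_top _
      rw [← SetLike.mem_coe, Subgroup.coe_mul_of_left_le_normalizer_right K (lift X) hn] at hmem
      obtain ⟨k, hk, y, hy, hky⟩ := hmem
      obtain ⟨n', hn'y, hn'⟩ := (hlift X y).1 hy
      have hkN : k ∈ N := by
        have : k = (n : H) * y⁻¹ := by rw [← hky]; group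
        rw [this, ← hn'y]
        exact N.mul_mem n.2 (N.inv_mem n'.2)
      have h1 : e₀ ⟨k, hkN⟩ ∈ X := hDX ((hmemD ⟨k, hkN⟩).2 hk)
      have h2 : n = ⟨k, hkN⟩ * n' := by
        apply Subtype.ext
        simp only [Subgroup.coe_mul]
        rw [hn'y]
        exact hky.symm
      rw [h2, map_mul]
      exact X.mul_mem h1 hn'
  · -- irr
    intro M hM hinv
    have hn := hnorm M hinv
    have hN : N ≤ Subgroup.normalizer (lift M : Set H) := by
      intro x hx
      rw [Subgroup.mem_normalizer_iff]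
      intro y
      constructor
      · intro hy
        obtain ⟨n, rfl, hn⟩ := (hlift M y).1 hy
        refine (hlift M _).2 ⟨⟨x, hx⟩ * n * ⟨x, hx⟩⁻¹, rfl, ?_⟩
        rw [map_mul, map_mul, map_inv]
        exact hM.conj_mem _ hn _
      · intro hy
        obtain ⟨n, hny, hn⟩ := (hlift M _).1 hy
        refine (hlift M _).2 ⟨⟨x, hx⟩⁻¹ * n * ⟨x, hx⟩, ?_, ?_⟩
        · simp only [Subgroup.coe_mul, Subgroup.coe_inv, hny]; group
        · have := hM.conj_mem _ hn (e₀ ⟨x, hx⟩)⁻¹
          rw [inv_inv] at this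
          rw [map_mul, map_mul, map_inv]
          exact this
    have hnormal : (lift M).Normal := by
      rw [← Subgroup.normalizer_eq_top_iff, eq_top_iff, ← hKN]
      exact sup_le hn hN
    have hle : lift M ≤ N := by
      rintro _ ⟨n, -, rfl⟩
      exact n.2
    rcases hmin (lift M) hnormal hle with h | h
    · left
      rw [eq_bot_iff]
      intro x hx
      obtain ⟨n, rfl⟩ := e₀.surjective x
      have : (n : H) ∈ lift M := (hlift M _).2 ⟨n, rfl, hx⟩
      rw [h, Subgroup.mem_bot] at this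
      have hn1 : n = 1 := Subtype.ext this
      rw [hn1, map_one]
      exact Subgroup.mem_bot.2 rfl
    · right
      rw [eq_top_iff]
      intro x _
      obtain ⟨n, rfl⟩ := e₀.surjective x
      have : (n : H) ∈ lift M := by rw [h]; exact n.2
      obtain ⟨n', hn'n, hn'⟩ := (hlift M _).1 this
      have : n' = n := Subtype.ext hn'n
      rw [← this]
      exact hn'

theorem main_aux {α : Type*} [Finite α] (H : Subgroup (Equiv.Perm α)) [MulAction.IsPreprimitive H α] (N : Subgroup H) [N.Normal] (hN : N ≠ ⊥) (hmin : ∀ M : Subgroup H, M.Normal → M ≤ N → M = ⊥ ∨ M = N) (hnab : ¬ IsMulCommutative N) (a : α)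
    {T : Type} [hTg : Group T] [hTs : IsSimpleGroup T] {m : ℕ} (hm : 0 < m) (e₀ : N ≃* (Fin m → T)) :
    ∃ (e : N ≃* (Fin m → T)), IsSimpleGroup T ∧ ¬ IsMulCommutative T ∧ 0 < m ∧ ((∃ K : Fin m → Subgroup T, (∀ i, K i ≠ ⊤) ∧ ∀ n : N, (n : H) ∈ MulAction.stabilizer H a ↔ ∀ i, e n i ∈ K i) ∨ (∃ (k : ℕ) (c : Fin m → Fin m), 2 ≤ k ∧ (∀ j : Fin m, Nat.card {i : Fin m // c i = j} = k ∨ Nat.card {i : Fin m // c i = j} = 0) ∧ ∀ n : N, (n : H) ∈ MulAction.stabilizer H a ↔ ∀ i j : Fin m, c i = c j → e n i = e n j)) := by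
  classical
  have hfinH : Finite H := inferInstance
  have hTfin : Finite T := by
    apply Finite.of_injective (fun t : T => e₀.symm (Pi.mulSingle (⟨0, hm⟩ : Fin m) t))
    intro a b hab
    have h1 := e₀.symm.injective hab
    exact Pi.mulSingle_injective (⟨0, hm⟩ : Fin m) h1
  have hTnc : ¬ IsMulCommutative T := by
    apply Cfsg.Agent.Lib.Helper19.not_isMulCommutative_of_pi_equiv e₀
    intro hcomm
    exact hnab ⟨⟨hcomm⟩⟩
  -- α nontrivial
  have hntH : ∃ h : H, h ≠ 1 := by
    by_contra hno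
    push Not at hno
    apply hN
    rw [eq_bot_iff]
    intro n _
    rw [Subgroup.mem_bot]
    exact hno n
  have hntα : Nontrivial α := by
    obtain ⟨h, hh⟩ := hntH
    by_contra hα
    rw [not_nontrivial_iff_subsingleton] at hα
    apply hh
    apply Subtype.ext
    apply Equiv.ext
    intro x
    exact Subsingleton.elim _ _
  have hK : IsCoatom (MulAction.stabilizer H a) :=
    MulAction.IsPreprimitive.isCoatom_stabilizer_of_isPreprimitive _ a
  have hNK : ¬ N ≤ MulAction.stabilizer H a := by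
    intro hle
    apply hN
    rw [eq_bot_iff]
    intro n hn
    rw [Subgroup.mem_bot]
    apply Subtype.ext
    apply Equiv.ext
    intro b
    have htr : MulAction.IsPretransitive H α := MulAction.IsPreprimitive.toIsPretransitive
    obtain ⟨h, rfl⟩ := MulAction.exists_smul_eq H a b
    have h1 : h⁻¹ * n * h ∈ N := by
      have := ‹N.Normal›.conj_mem n hn h⁻¹
      rwa [inv_inv] at this
    have h2 := hle h1
    rw [MulAction.mem_stabilizer_iff] at h2
    have h3 : n • (h • a) = h • a := by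
      have : n • (h • a) = h • ((h⁻¹ * n * h) • a) := by
        simp only [mul_smul, smul_inv_smul]
      rw [this, h2]
    exact h3
  obtain ⟨Γ, hyp⟩ := glue (MulAction.stabilizer H a) N hK hNK hmin e₀
  have hmemD : ∀ n : N, e₀ n ∈ ((MulAction.stabilizer H a).subgroupOf N).map e₀.toMonoidHom ↔
      (n : H) ∈ MulAction.stabilizer H a := by
    intro n
    constructor
    · rintro ⟨n', hn', hnn'⟩
      have : n' = n := e₀.injective hnn'
      rw [← this]
      exact hn'
    · intro hn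
      exact ⟨n, hn, rfl⟩
  rcases Cfsg.Agent.Lib.Helper8.OnanScottCore.core hTnc hm hyp with
    ⟨Ks, hKs, hD⟩ | ⟨ψ, k, c, hk, hfib, hD⟩
  · refine ⟨e₀, hTs, hTnc, hm, Or.inl ⟨Ks, hKs, ?_⟩⟩
    intro n
    rw [← hmemD, hD]
  · refine ⟨e₀.trans (MulEquiv.piCongrRight ψ), hTs, hTnc, hm,
      Or.inr ⟨k, c, hk, hfib, ?_⟩⟩
    intro n
    rw [← hmemD, hD]
    rfl

/-- The core of the O'Nan–Scott Theorem. Let `H` be a primitive permutation group on a finite set whose unique minimal normal subgroup `N` is non-abelian, and `K` a point stabiliser. Then there are a non-abelian simple group `T` and an isomorphism `N ≃* T^m` (`m ≥ 1`) under which `K ⊓ N` becomes either a product `∏ K_i` of proper subgroups `K_i < T`, or the set of functions constant on each block of a partition of the index set into blocks of one common size `k ≥ 2`. -/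
theorem result {α : Type*} [Finite α] (H : Subgroup (Equiv.Perm α)) [MulAction.IsPreprimitive H α] (N : Subgroup H) [N.Normal] (hN : N ≠ ⊥) (hmin : ∀ M : Subgroup H, M.Normal → M ≤ N → M = ⊥ ∨ M = N) (huniq : ∀ L : Subgroup H, L.Normal → L ≠ ⊥ → (∀ M : Subgroup H, M.Normal → M ≤ L → M = ⊥ ∨ M = L) → L = N) (hnab : ¬ IsMulCommutative N) (a : α) : ∃ (T : Type) (_ : Group T) (m : ℕ) (e : N ≃* (Fin m → T)), IsSimpleGroup T ∧ ¬ IsMulCommutative T ∧ 0 < m ∧ ((∃ K : Fin m → Subgroup T, (∀ i, K i ≠ ⊤) ∧ ∀ n : N, (n : H) ∈ MulAction.stabilizer H a ↔ ∀ i, e n i ∈ K i) ∨ (∃ (k : ℕ) (c : Fin m → Fin m), 2 ≤ k ∧ (∀ j : Fin m, Nat.card {i : Fin m // c i = j} = k ∨ Nat.card {i : Fin m // c i = j} = 0) ∧ ∀ n : N, (n : H) ∈ MulAction.stabilizer H a ↔ ∀ i j : Fin m, c i = c j → e n i = e n j)) := by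
  obtain ⟨T, hTg, m, hTs, hm, ⟨e₀⟩⟩ :=
    Cfsg.Agent.Lib.Helper19.exists_simple_type0_pi_equiv_of_minNormal N hN hmin
  obtain ⟨e, h⟩ := @main_aux α _ H _ N _ hN hmin hnab a T hTg hTs m hm e₀
  exact ⟨T, hTg, m, e, h⟩

end Cfsg.Agent.S0723
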