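import Cfsg.Statements.S0724
import Mathlib
-- import your own Cfsg.Agent.* helpers here

set_option autoImplicit false
open Cfsg

namespace Cfsg.Agent.S0724

/-- The number of fixed points of `g` on `k`-tuples is the `k`-th power of the number of fixed
points of `g`. -/
theorem card_fixedBy_pi {α : Type*} [Fintype α] [DecidableEq α] {G : Type*} [Group G]
    [MulAction G α] (g : G) (k : ℕ) :
    Nat.card (MulAction.fixedBy (Fin k → α) g) = Nat.card (MulAction.fixedBy α g) ^ k := by
  classical
  have e : MulAction.fixedBy (Fin k → α) g ≃ (Fin k → MulAction.fixedBy α g) :=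
    { toFun := fun f i => ⟨f.1 i, by
        have := f.2
        rw [MulAction.mem_fixedBy] at this ⊢
        exact congrFun this i⟩
      invFun := fun f => ⟨fun i => (f i).1, by
        rw [MulAction.mem_fixedBy]
        funext i
        exact (f i).2⟩
      left_inv := fun f => rfl
      right_inv := fun f => rfl }
  rw [Nat.card_congr e, Nat.card_pi]
  simp

/-- Burnside: `|G|` divides the sum of `k`-th powers of the fixed point numbers. -/
theorem card_dvd_sum_pow {α : Type*} [Fintype α] [DecidableEq α] {G : Type*} [Group G] [Fintype G]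
    [MulAction G α] (k : ℕ) :
    (Fintype.card G : ℤ) ∣ ∑ g : G, ((Nat.card (MulAction.fixedBy α g) : ℕ) : ℤ) ^ k := by
  classical
  have h := MulAction.sum_card_fixedBy_eq_card_orbits_mul_card_group G (Fin k → α)
  have h2 : ∑ g : G, ((Nat.card (MulAction.fixedBy α g) : ℕ) : ℤ) ^ k
      = ((∑ g : G, Fintype.card (MulAction.fixedBy (Fin k → α) g) : ℕ) : ℤ) := by
    push_cast
    apply Finset.sum_congr rfl
    intro g _
    rw [← Nat.card_eq_fintype_card, card_fixedBy_pi]
    push_cast
    rfl
  rw [h2, h]
  push_cast
  exact Dvd.intro_left _ rfl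

theorem card_dvd_sum_eval {α : Type*} [Fintype α] [DecidableEq α] {G : Type*} [Group G]
    [Fintype G] [MulAction G α] (P : Polynomial ℤ) :
    (Fintype.card G : ℤ) ∣ ∑ g : G, P.eval ((Nat.card (MulAction.fixedBy α g) : ℕ) : ℤ) := by
  classical
  induction P using Polynomial.induction_on with
  | C a =>
    simp only [Polynomial.eval_C, Finset.sum_const, Finset.card_univ, nsmul_eq_mul]
    exact Dvd.intro _ rfl
  | add p q hp hq =>
    simp only [Polynomial.eval_add, Finset.sum_add_distrib]
    exact dvd_add hp hq
  | monomial n a _ =>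
    simp only [Polynomial.eval_mul, Polynomial.eval_C, Polynomial.eval_pow, Polynomial.eval_X]
    rw [← Finset.mul_sum]
    exact Dvd.dvd.mul_left (card_dvd_sum_pow (n + 1)) a

/-- Blichfeldt's Theorem: if a finite set `L` of natural numbers contains the number of fixed points of every non-identity element of a permutation group `G` of degree `n`, then the order of `G` divides `∏ (n - l)` over `l ∈ L`. -/
theorem result {α : Type*} [Fintype α] [DecidableEq α] (G : Subgroup (Equiv.Perm α)) (L : Finset ℕ) (hL : ∀ g ∈ G, g ≠ 1 → Nat.card (MulAction.fixedBy α g) ∈ L) : Nat.card G ∣ ∏ l ∈ L, (Fintype.card α - l) := by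
  classical
  by_cases hbig : ∃ l ∈ L, Fintype.card α ≤ l
  · obtain ⟨l, hl, hle⟩ := hbig
    have : ∏ l ∈ L, (Fintype.card α - l) = 0 := by
      apply Finset.prod_eq_zero hl
      omega
    rw [this]
    exact dvd_zero _
  · push Not at hbig
    haveI : Fintype G := Fintype.ofFinite G
    set P : Polynomial ℤ := ∏ l ∈ L, (Polynomial.X - Polynomial.C (l : ℤ)) with hP
    have hdvd := card_dvd_sum_eval (α := α) (G := G) P
    have hsum : ∑ g : G, P.eval ((Nat.card (MulAction.fixedBy α g) : ℕ) : ℤ)
        = P.eval ((Fintype.card α : ℕ) : ℤ) := by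
      rw [Finset.sum_eq_single (1 : G)]
      · congr 2
        have : MulAction.fixedBy α (1 : G) = Set.univ := by
          ext x; simp [MulAction.mem_fixedBy]
        rw [this, Nat.card_coe_set_eq, Set.ncard_univ, Nat.card_eq_fintype_card]
      · intro g _ hg
        have hg' : (g : Equiv.Perm α) ≠ 1 := by
          intro h; apply hg; exact Subtype.ext h
        have hmem := hL (g : Equiv.Perm α) g.2 hg'
        have hfix : MulAction.fixedBy α g = MulAction.fixedBy α (g : Equiv.Perm α) := rfl
        rw [hP, Polynomial.eval_prod]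
        apply Finset.prod_eq_zero hmem
        rw [hfix]
        simp
      · intro h; exact absurd (Finset.mem_univ _) h
    rw [hsum, hP, Polynomial.eval_prod] at hdvd
    have hcast : ∏ l ∈ L, (Polynomial.X - Polynomial.C (l : ℤ)).eval ((Fintype.card α : ℕ) : ℤ)
        = ((∏ l ∈ L, (Fintype.card α - l) : ℕ) : ℤ) := by
      push_cast
      apply Finset.prod_congr rfl
      intro l hl
      have := hbig l hl
      simp only [Polynomial.eval_sub, Polynomial.eval_X, Polynomial.eval_C]
      rw [Nat.cast_sub (le_of_lt this)]
    rw [hcast] at hdvd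
    rw [Nat.card_eq_fintype_card]
    exact_mod_cast hdvd

end Cfsg.Agent.S0724
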