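import Cfsg.Statements.S0726
-- import your own Cfsg.Agent.* helpers here

set_option autoImplicit false
open Cfsg

namespace Cfsg.Agent.S0726

/-- The left and right regular permutation representations of a group are each other's centralisers in the symmetric group: the centraliser of the left regular image is the right regular image, and a transitive subgroup centralising the left regular image is the whole right regular image. -/
theorem result {G : Type*} [Group G] : Subgroup.centralizer ((MulAction.toPermHom G G).range : Set (Equiv.Perm G)) = (MulAction.toPermHom Gᵐᵒᵖ G).range ∧ ∀ H : Subgroup (Equiv.Perm G), H ≤ Subgroup.centralizer ((MulAction.toPermHom G G).range : Set (Equiv.Perm G)) → MulAction.IsPretransitive H G → H = (MulAction.toPermHom Gᵐᵒᵖ G).range := by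
  have hcen : Subgroup.centralizer ((MulAction.toPermHom G G).range : Set (Equiv.Perm G))
      = (MulAction.toPermHom Gᵐᵒᵖ G).range := by
    ext σ
    constructor
    · intro hσ
      rw [Subgroup.mem_centralizer_iff] at hσ
      refine ⟨MulOpposite.op (σ 1), ?_⟩
      ext g
      have h := hσ (MulAction.toPermHom G G g) ⟨g, rfl⟩
      have h' := congrArg (fun τ : Equiv.Perm G => τ 1) h
      simp only [Equiv.Perm.coe_mul, Function.comp_apply, MulAction.toPermHom_apply,
        MulAction.toPerm_apply, smul_eq_mul, mul_one] at h'
      simp only [MulAction.toPermHom_apply, MulAction.toPerm_apply, MulOpposite.smul_eq_mul_unop,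
        MulOpposite.unop_op]
      exact h'
    · rintro ⟨h, rfl⟩
      rw [Subgroup.mem_centralizer_iff]
      rintro _ ⟨g, rfl⟩
      ext x
      simp only [Equiv.Perm.coe_mul, Function.comp_apply, MulAction.toPermHom_apply,
        MulAction.toPerm_apply, smul_eq_mul, MulOpposite.smul_eq_mul_unop, mul_assoc]
  refine ⟨hcen, ?_⟩
  intro H hH htr
  apply le_antisymm
  · rw [← hcen]; exact hH
  · rintro _ ⟨h, rfl⟩
    obtain ⟨τ, hτ⟩ := htr.exists_smul_eq (1 : G) (MulOpposite.unop h)
    have hτR : (τ : Equiv.Perm G) ∈ (MulAction.toPermHom Gᵐᵒᵖ G).range := by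
      rw [← hcen]; exact hH τ.2
    obtain ⟨k, hk⟩ := hτR
    have hkh : k = h := by
      have h1 : (τ : Equiv.Perm G) 1 = MulOpposite.unop h := hτ
      rw [← hk] at h1
      simp only [MulAction.toPermHom_apply, MulAction.toPerm_apply, MulOpposite.smul_eq_mul_unop,
        one_mul] at h1
      exact MulOpposite.unop_injective h1
    rw [← hkh, hk]
    exact τ.2

end Cfsg.Agent.S0726
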