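import Cfsg.Statements.S0733
import Mathlib
-- import your own Cfsg.Agent.* helpers here

set_option autoImplicit false
open Cfsg
open scoped Pointwise

namespace Cfsg.Agent.S0733

/-- A permutation group of affine type — generated by the translations of a finite vector space `V` over `ZMod p` together with a group `G₀` of linear automorphisms — is primitive on `V` if and only if `G₀` is irreducible on `V`. -/
theorem result {p : ℕ} [Fact p.Prime] {V : Type*} [AddCommGroup V] [Module (ZMod p) V] [Finite V] [Nontrivial V] (G₀ : Subgroup (V ≃ₗ[ZMod p] V)) (G : Subgroup (Equiv.Perm V)) (hG : ∀ σ : Equiv.Perm V, σ ∈ G ↔ ∃ g ∈ G₀, ∃ b : V, ∀ x : V, σ x = (g : V ≃ₗ[ZMod p] V) x + b) : MulAction.IsPreprimitive G V ↔ ∀ W : Submodule (ZMod p) V, (∀ g ∈ G₀, ∀ v ∈ W, (g : V ≃ₗ[ZMod p] V) v ∈ W) → W = ⊥ ∨ W = ⊤ := by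
  classical
  have htrans : ∀ b : V, (Equiv.addRight b : Equiv.Perm V) ∈ G := fun b =>
    (hG _).2 ⟨1, G₀.one_mem, b, fun x => by simp⟩
  have hlin : ∀ g ∈ G₀, ((g : V ≃ₗ[ZMod p] V).toEquiv : Equiv.Perm V) ∈ G := fun g hg =>
    (hG _).2 ⟨g, hg, 0, fun x => by simp⟩
  have hpre : MulAction.IsPretransitive G V :=
    ⟨fun x y => ⟨⟨Equiv.addRight (y - x), htrans _⟩, by
      show x + (y - x) = y
      abel⟩⟩
  constructor
  · intro hprim W hW
    have hblock : MulAction.IsBlock G (W : Set V) := by
      rw [MulAction.isBlock_iff_smul_eq_of_mem]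
      intro σ x hx hσx
      obtain ⟨g, hg, b, hσ⟩ := (hG σ.1).1 σ.2
      have hb : b ∈ W := by
        have h1 : (σ : Equiv.Perm V) x ∈ W := hσx
        rw [hσ] at h1
        have := W.sub_mem h1 (hW g hg x hx)
        simpa using this
      ext y
      rw [Set.mem_smul_set_iff_inv_smul_mem]
      constructor
      · intro hy
        have : y = σ • (σ⁻¹ • y) := (smul_inv_smul σ y).symm
        rw [this]
        show (σ : Equiv.Perm V) (σ⁻¹ • y) ∈ W
        rw [hσ]
        exact W.add_mem (hW g hg _ hy) hb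
      · intro hy
        have hz : (σ : Equiv.Perm V) (σ⁻¹ • y) = y := smul_inv_smul σ y
        rw [hσ] at hz
        have hgz : (g : V ≃ₗ[ZMod p] V) (σ⁻¹ • y) ∈ W := by
          have : (g : V ≃ₗ[ZMod p] V) (σ⁻¹ • y) = y - b := eq_sub_of_add_eq hz
          rw [this]
          exact W.sub_mem hy hb
        have := hW g⁻¹ (G₀.inv_mem hg) _ hgz
        have e : (g⁻¹ : V ≃ₗ[ZMod p] V) ((g : V ≃ₗ[ZMod p] V) (σ⁻¹ • y)) = σ⁻¹ • y :=
          (g : V ≃ₗ[ZMod p] V).symm_apply_apply _
        rw [e] at this
        exact this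
    rcases hprim.isTrivialBlock_of_isBlock hblock with h | h
    · left
      rw [Submodule.eq_bot_iff]
      intro x hx
      exact h hx W.zero_mem
    · right
      rw [eq_top_iff]
      intro x _
      have : x ∈ (W : Set V) := by rw [h]; trivial
      exact this
  · intro hirr
    apply MulAction.IsPreprimitive.of_isTrivialBlock_base (0 : V)
    intro B h0 hB
    have hadd : ∀ b ∈ B, ∀ x, x ∈ B ↔ x + b ∈ B := by
      intro b hb x
      have hτ : (⟨Equiv.addRight b, htrans b⟩ : G) • B = B := by
        apply hB.smul_eq_of_mem h0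
        show (0 : V) + b ∈ B
        rwa [zero_add]
      constructor
      · intro hx
        rw [← hτ]
        exact Set.smul_mem_smul_set (a := (⟨Equiv.addRight b, htrans b⟩ : G)) hx
      · intro hx
        rw [← hτ] at hx
        obtain ⟨x', hx', hxx'⟩ := hx
        have : x' + b = x + b := hxx'
        rwa [← add_right_cancel this]
    let S : AddSubgroup V :=
      { carrier := B
        zero_mem' := h0
        add_mem' := fun {x y} hx hy => (hadd y hy x).1 hx
        neg_mem' := fun {x} hx => by
          show -x ∈ B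
          rw [hadd x hx]
          simpa using h0 }
    have hWinv : ∀ g ∈ G₀, ∀ v ∈ AddSubgroup.toZModSubmodule p S,
        (g : V ≃ₗ[ZMod p] V) v ∈ AddSubgroup.toZModSubmodule p S := by
      intro g hg v hv
      have hσ : (⟨(g : V ≃ₗ[ZMod p] V).toEquiv, hlin g hg⟩ : G) • B = B := by
        apply hB.smul_eq_of_mem h0
        show (g : V ≃ₗ[ZMod p] V) 0 ∈ B
        rw [map_zero]
        exact h0
      show (g : V ≃ₗ[ZMod p] V) v ∈ B
      rw [← hσ]
      exact Set.smul_mem_smul_set (a := (⟨(g : V ≃ₗ[ZMod p] V).toEquiv, hlin g hg⟩ : G)) hv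
    rcases hirr _ hWinv with h | h
    · left
      intro x hx y hy
      have hx' : x ∈ AddSubgroup.toZModSubmodule p S := hx
      have hy' : y ∈ AddSubgroup.toZModSubmodule p S := hy
      rw [h, Submodule.mem_bot] at hx' hy'
      rw [hx', hy']
    · right
      have hWB : ((AddSubgroup.toZModSubmodule p S : Submodule (ZMod p) V) : Set V) = B := rfl
      rw [← hWB, h]
      rfl

end Cfsg.Agent.S0733
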