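import Cfsg.Statements.S0734
import Mathlib
-- import your own Cfsg.Agent.* helpers here

set_option autoImplicit false
open Cfsg
open MulAction
open scoped Pointwise

namespace Cfsg.Agent.S0734

/-- Higman's criterion for primitivity: a transitive action on a finite set is primitive if and only if every non-trivial orbital graph (edges = images of a fixed pair of distinct points) is connected. -/
theorem result {G : Type*} [Group G] {Ω : Type*} [Finite Ω] [MulAction G Ω] [MulAction.IsPretransitive G Ω] [Nontrivial Ω] : MulAction.IsPreprimitive G Ω ↔ ∀ a b : Ω, a ≠ b → (SimpleGraph.fromRel fun x y : Ω => ∃ g : G, g • a = x ∧ g • b = y).Connected := by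
  constructor
  · intro hprim a b hab
    set Γ := SimpleGraph.fromRel fun x y : Ω => ∃ g : G, g • a = x ∧ g • b = y with hΓ
    have hadj : ∀ (g : G) (x y : Ω), Γ.Adj x y → Γ.Adj (g • x) (g • y) := by
      intro g x y hxy
      rw [hΓ, SimpleGraph.fromRel_adj] at hxy ⊢
      obtain ⟨hne, h | h⟩ := hxy
      · refine ⟨fun h => hne (smul_left_cancel g h), Or.inl ?_⟩
        obtain ⟨k, rfl, rfl⟩ := h
        exact ⟨g * k, mul_smul _ _ _, mul_smul _ _ _⟩
      · refine ⟨fun h => hne (smul_left_cancel g h), Or.inr ?_⟩
        obtain ⟨k, rfl, rfl⟩ := h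
        exact ⟨g * k, mul_smul _ _ _, mul_smul _ _ _⟩
    have hreach : ∀ (g : G) (x y : Ω), Γ.Reachable x y → Γ.Reachable (g • x) (g • y) := by
      intro g x y h
      let f : Γ →g Γ := ⟨fun x => g • x, fun {x y} h => hadj g x y h⟩
      exact h.map f
    set B : Set Ω := {x | Γ.Reachable a x} with hBdef
    have hB : IsBlock G B := by
      rw [isBlock_iff_smul_eq_of_mem]
      intro g x hx hgx
      have h1 : Γ.Reachable (g • a) a := (hreach g a x hx).trans hgx.symm
      ext y
      rw [Set.mem_smul_set_iff_inv_smul_mem]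
      constructor
      · intro hy
        have := hreach g _ _ hy
        rw [smul_inv_smul] at this
        exact h1.symm.trans this
      · intro hy
        have h2 := hreach g⁻¹ _ _ h1
        rw [inv_smul_smul] at h2
        exact h2.trans (hreach g⁻¹ _ _ hy)
    have hab' : Γ.Adj a b := by
      rw [hΓ, SimpleGraph.fromRel_adj]
      exact ⟨hab, Or.inl ⟨1, one_smul _ _, one_smul _ _⟩⟩
    rcases hprim.isTrivialBlock_of_isBlock hB with h | h
    · exfalso
      exact hab (h (SimpleGraph.Reachable.refl a) hab'.reachable)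
    · rw [SimpleGraph.connected_iff]
      refine ⟨?_, ⟨a⟩⟩
      intro x y
      have hx : x ∈ B := by rw [h]; trivial
      have hy : y ∈ B := by rw [h]; trivial
      exact hx.symm.trans hy
  · intro hconn
    refine ⟨fun {B} hB => ?_⟩
    by_contra hnt
    unfold IsTrivialBlock at hnt
    push Not at hnt
    obtain ⟨hns, hnu⟩ := hnt
    obtain ⟨a, ha, b, hb, hab⟩ := hns
    apply hnu
    have hc := hconn a b hab
    set Γ := SimpleGraph.fromRel fun x y : Ω => ∃ g : G, g • a = x ∧ g • b = y with hΓ
    have hstep : ∀ x y : Ω, Γ.Adj x y → x ∈ B → y ∈ B := by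
      intro x y hxy hx
      rw [hΓ, SimpleGraph.fromRel_adj] at hxy
      obtain ⟨_, ⟨g, rfl, rfl⟩ | ⟨g, rfl, rfl⟩⟩ := hxy
      · have := hB.smul_eq_of_mem ha hx
        rw [← this]; exact Set.smul_mem_smul_set hb
      · have := hB.smul_eq_of_mem hb hx
        rw [← this]; exact Set.smul_mem_smul_set ha
    have hreach : ∀ x y : Ω, Γ.Reachable x y → x ∈ B → y ∈ B := by
      rintro x y ⟨w⟩
      induction w with
      | nil => exact id
      | cons h p ih => exact fun hx => ih (hstep _ _ h hx)
    ext y
    simp only [Set.mem_univ, iff_true]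
    exact hreach a y (hc.preconnected a y) ha

end Cfsg.Agent.S0734
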