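import Cfsg.Statements.S0735
import Mathlib
-- import your own Cfsg.Agent.* helpers here

set_option autoImplicit false
open Cfsg

namespace Cfsg.Agent.S0735

open scoped Pointwise

/-- A 2-homogeneous permutation group (transitive on 2-subsets) of even order is doubly transitive; a non-trivial 2-homogeneous group is primitive. -/
theorem result {α : Type*} [Fintype α] [DecidableEq α] (G : Subgroup (Equiv.Perm α)) (h2 : MulAction.IsPretransitive G (Set.powersetCard α 2)) (hα : 3 ≤ Fintype.card α) : (Even (Nat.card G) → MulAction.IsMultiplyPretransitive G α 2) ∧ (G ≠ ⊥ → MulAction.IsPreprimitive G α) := by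
  -- the basic homogeneity lemma
  have hom : ∀ a b x y : α, a ≠ b → x ≠ y →
      ∃ g : G, (g • a = x ∧ g • b = y) ∨ (g • a = y ∧ g • b = x) := by
    intro a b x y hab hxy
    let s : Set.powersetCard α 2 := ⟨{a, b}, by
      rw [Set.powersetCard.mem_iff, Finset.card_pair hab]⟩
    let t : Set.powersetCard α 2 := ⟨{x, y}, by
      rw [Set.powersetCard.mem_iff, Finset.card_pair hxy]⟩
    obtain ⟨g, hg⟩ := h2.exists_smul_eq s t
    refine ⟨g, ?_⟩
    have h1 : ((g • s : Set.powersetCard α 2) : Finset α) = (t : Finset α) := by rw [hg]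
    have h3 : (g • ({a, b} : Finset α)) = ({x, y} : Finset α) := h1
    have ha : g • a ∈ ({x, y} : Finset α) := by
      rw [← h3]; exact Finset.smul_mem_smul_finset (by simp)
    have hb : g • b ∈ ({x, y} : Finset α) := by
      rw [← h3]; exact Finset.smul_mem_smul_finset (by simp)
    have hne : g • a ≠ g • b := fun h => hab (MulAction.injective g h)
    simp only [Finset.mem_insert, Finset.mem_singleton] at ha hb
    rcases ha with ha | ha <;> rcases hb with hb | hb
    · exact absurd (ha.trans hb.symm) hne
    · exact Or.inl ⟨ha, hb⟩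
    · exact Or.inr ⟨ha, hb⟩
    · exact absurd (ha.trans hb.symm) hne
  -- a third point
  have third : ∀ x y : α, ∃ z : α, z ≠ x ∧ z ≠ y := by
    intro x y
    by_contra hcon
    push Not at hcon
    have : (Finset.univ : Finset α) ⊆ {x, y} := by
      intro z _
      by_cases hz : z = x
      · simp [hz]
      · simp [hcon z hz]
    have h1 := Finset.card_le_card this
    have h2' : ({x, y} : Finset α).card ≤ 2 := Finset.card_le_two
    rw [Finset.card_univ] at h1
    omega
  constructor
  · intro heven
    have h2dvd : 2 ∣ Nat.card G := even_iff_two_dvd.mp heven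
    haveI : Fact (Nat.Prime 2) := ⟨Nat.prime_two⟩
    obtain ⟨t, ht⟩ := exists_prime_orderOf_dvd_card' (G := G) 2 h2dvd
    have ht1 : t ≠ 1 := by
      intro h; rw [h, orderOf_one] at ht; omega
    have ht2 : t * t = 1 := by
      have := pow_orderOf_eq_one t
      rwa [ht, pow_two] at this
    obtain ⟨a, ha⟩ : ∃ a : α, t • a ≠ a := by
      by_contra hcon
      push Not at hcon
      apply ht1
      apply Subtype.ext
      ext x
      exact hcon x
    set b := t • a with hb
    have htb : t • b = a := by
      rw [hb, ← mul_smul, ht2, one_smul]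
    have hab : a ≠ b := fun h => ha h.symm
    -- every ordered pair is an image of (a, b)
    have hone : ∀ x y : α, x ≠ y → ∃ g : G, g • a = x ∧ g • b = y := by
      intro x y hxy
      obtain ⟨g, hg | hg⟩ := hom a b x y hab hxy
      · exact ⟨g, hg⟩
      · refine ⟨g * t, ?_, ?_⟩
        · rw [mul_smul, ← hb, hg.2]
        · rw [mul_smul, htb, hg.1]
    rw [MulAction.is_two_pretransitive_iff]
    intro x y x' y' hxy hxy'
    obtain ⟨g1, h1a, h1b⟩ := hone x y hxy
    obtain ⟨g2, h2a, h2b⟩ := hone x' y' hxy'
    refine ⟨g2 * g1⁻¹, ?_, ?_⟩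
    · rw [mul_smul, ← h1a, inv_smul_smul, h2a]
    · rw [mul_smul, ← h1b, inv_smul_smul, h2b]
  · intro _
    have htrans : MulAction.IsPretransitive G α := by
      refine ⟨fun x y => ?_⟩
      by_cases hxy : x = y
      · exact ⟨1, by rw [one_smul, hxy]⟩
      · obtain ⟨z, hzx, hzy⟩ := third x y
        obtain ⟨g, hg | hg⟩ := hom x z y z (Ne.symm hzx) (Ne.symm hzy)
        · exact ⟨g, hg.1⟩
        · refine ⟨g * g, ?_⟩
          rw [mul_smul, hg.1, hg.2]
    refine { toIsPretransitive := htrans, isTrivialBlock_of_isBlock := ?_ }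
    intro B hB
    by_cases hsub : B.Subsingleton
    · exact Or.inl hsub
    · right
      rw [Set.not_subsingleton_iff] at hsub
      obtain ⟨a, ha, b, hb, hab⟩ := hsub
      rw [Set.eq_univ_iff_forall]
      intro c
      by_cases hca : c = a
      · rw [hca]; exact ha
      · obtain ⟨g, hg | hg⟩ := hom a b a c hab (Ne.symm hca)
        · have hgB : g • B = B := hB.smul_eq_of_mem ha (by rw [hg.1]; exact ha)
          rw [← hg.2, ← hgB]
          exact Set.smul_mem_smul_set hb
        · have hgB : g • B = B := hB.smul_eq_of_mem hb (by rw [hg.2]; exact ha)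
          rw [← hg.1, ← hgB]
          exact Set.smul_mem_smul_set ha

end Cfsg.Agent.S0735
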