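import Cfsg.Statements.S0743
import Mathlib
import Cfsg.Agent.Lib.Helper5.MultTrans
-- import your own Cfsg.Agent.* helpers here

set_option autoImplicit false
open Cfsg
open MulAction Cfsg.Agent.Lib.Helper5

namespace Cfsg.Agent.S0743

/-- Gleason's Lemma: let `p` be a prime and `1 ≤ k < n`; if every `k`-subset of the `n` points is exactly the fixed-point set of some `p`-subgroup of `G`, then `G` is `k`-transitive. -/
theorem result {α : Type*} [Fintype α] [DecidableEq α] (G : Subgroup (Equiv.Perm α)) {p k : ℕ} (hp : p.Prime) (hk : 1 ≤ k) (hkn : k < Fintype.card α) (h : ∀ s : Finset α, s.card = k → ∃ P : Subgroup G, IsPGroup p P ∧ MulAction.fixedPoints P α = (s : Set α)) : MulAction.IsMultiplyPretransitive G α k := by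
  haveI : Fact p.Prime := ⟨hp⟩
  obtain ⟨j, rfl⟩ : ∃ j, k = j + 1 := ⟨k - 1, by omega⟩
  apply isMultiplyPretransitive_of_fixing_transitive j
  · rw [Nat.card_eq_fintype_card]; omega
  · intro u hu x y hx hy
    -- the orbit of `x` under the pointwise stabiliser of `u`
    set O : Set α := {w | ∃ h : G, (∀ z ∈ u, h • z = z) ∧ h • x = w} with hO
    have hxO : x ∈ O := ⟨1, fun z _ => one_smul _ _, one_smul _ _⟩
    have hOu : ∀ w ∈ O, w ∉ u := by
      rintro w ⟨h, hfix, rfl⟩ hw
      apply hx
      have h1 : h • (h • x) = h • x := hfix _ hw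
      have h2 : h • x = x := by
        have := congrArg (fun t => h⁻¹ • t) h1
        simpa using this
      rwa [h2] at hw
    have hOsmul : ∀ g : G, (∀ z ∈ u, g • z = z) → ∀ w ∈ O, g • w ∈ O := by
      rintro g hg w ⟨h, hfix, rfl⟩
      refine ⟨g * h, fun z hz => ?_, mul_smul _ _ _⟩
      rw [mul_smul, hfix z hz, hg z hz]
    -- main congruence
    have key : ∀ z, z ∉ u → ∃ P : Subgroup G, ∃ S : SubMulAction P α, (S : Set α) = O ∧
        Nat.card S ≡ Nat.card (fixedPoints P S) [MOD p] ∧
        ∀ w : S, w ∈ fixedPoints P S ↔ (w : α) = z := by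
      intro z hz
      have hufin : u.Finite := Set.toFinite u
      have hscard : (insert z hufin.toFinset).card = j + 1 := by
        rw [Finset.card_insert_of_notMem (by simpa using hz)]
        rw [← Set.ncard_eq_toFinset_card u hufin, hu]
      obtain ⟨P, hP, hfix⟩ := h _ hscard
      have hPu : ∀ g : P, ∀ t ∈ u, (g : G) • t = t := by
        intro g t ht
        have : t ∈ fixedPoints P α := by
          rw [hfix]; simp [ht]
        exact this g
      let S : SubMulAction P α :=
        { carrier := O
          smul_mem' := fun g w hw => hOsmul (g : G) (hPu g) w hw }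
      refine ⟨P, S, rfl, hP.card_modEq_card_fixedPoints S, ?_⟩
      intro w
      have hwO : (w : α) ∈ O := w.2
      constructor
      · intro hw
        have : (w : α) ∈ fixedPoints P α := by
          intro g
          have := hw g
          exact congrArg Subtype.val this
        rw [hfix] at this
        simp only [Finset.coe_insert, Set.Finite.coe_toFinset, Set.mem_insert_iff] at this
        rcases this with h1 | h1
        · exact h1
        · exact absurd h1 (hOu _ hwO)
      · intro hw g
        apply Subtype.ext
        have : (w : α) ∈ fixedPoints P α := by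
          rw [hfix, hw]; simp
        exact this g
    -- |O| ≡ 1 mod p
    have hO1 : Nat.card O ≡ 1 [MOD p] := by
      obtain ⟨P, S, hS, hmod, hfixS⟩ := key x hx
      have hcardS : Nat.card S = Nat.card O := by
        have : (S : Set α) = O := hS
        exact Nat.card_congr (Equiv.setCongr this)
      have h1 : Nat.card (fixedPoints P S) = 1 := by
        rw [Nat.card_eq_one_iff_unique]
        refine ⟨⟨?_⟩, ⟨⟨⟨x, by rw [← hS] at hxO; exact hxO⟩, (hfixS _).2 rfl⟩⟩⟩
        rintro ⟨a, ha⟩ ⟨b, hb⟩
        apply Subtype.ext
        apply Subtype.ext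
        rw [(hfixS a).1 ha, (hfixS b).1 hb]
      rw [← hcardS, ← h1]
      exact hmod
    -- every y outside u lies in O
    have hyO : y ∈ O := by
      by_contra hyO
      obtain ⟨P, S, hS, hmod, hfixS⟩ := key y hy
      have hcardS : Nat.card S = Nat.card O := by
        have : (S : Set α) = O := hS
        exact Nat.card_congr (Equiv.setCongr this)
      have h0 : Nat.card (fixedPoints P S) = 0 := by
        haveI : IsEmpty (fixedPoints P S) := by
          refine ⟨fun ⟨a, ha⟩ => hyO ?_⟩
          rw [← (hfixS a).1 ha, ← hS]
          exact a.2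
        exact Nat.card_of_isEmpty
      rw [hcardS, h0] at hmod
      have := hmod.symm.trans hO1
      rw [Nat.modEq_iff_dvd' (by omega)] at this
      · have h2 := Nat.le_of_dvd (by norm_num) this
        have := hp.two_le
        omega
    obtain ⟨g, hg, hgx⟩ := hyO
    exact ⟨g, hg, hgx⟩

end Cfsg.Agent.S0743
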