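import Cfsg.Statements.S0744
import Mathlib
import Cfsg.Agent.Lib.Helper5.MultTrans
import Cfsg.Agent.Lib.Helper5.OrbitCount
-- import your own Cfsg.Agent.* helpers here

set_option autoImplicit false
open Cfsg
open MulAction Cfsg.Agent.Lib.Helper5

namespace Cfsg.Agent.S0744

/-- If for some `k > 1` the pointwise stabilisers of all `(k-1)`-subsets have the same order `> 1` and those of all `k`-subsets have the same order, then the group is `(k-1)`-transitive. -/
theorem result {α : Type*} [Fintype α] [DecidableEq α] (G : Subgroup (Equiv.Perm α)) {k : ℕ} (hk : 1 < k) (hkn : k ≤ Fintype.card α) (l m : ℕ) (hl : 1 < l) (hkm1 : ∀ s : Finset α, s.card = k - 1 → Nat.card (fixingSubgroup G (s : Set α)) = l) (hkm : ∀ s : Finset α, s.card = k → Nat.card (fixingSubgroup G (s : Set α)) = m) : MulAction.IsMultiplyPretransitive G α (k - 1) := by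
  obtain ⟨j, rfl⟩ : ∃ j, k = j + 2 := ⟨k - 2, by omega⟩
  show IsMultiplyPretransitive G α (j + 1)
  apply isMultiplyPretransitive_of_fixing_transitive j
  · rw [Nat.card_eq_fintype_card]; omega
  intro u hu x y hx hy
  have hufin : u.Finite := Set.toFinite u
  have hucard : hufin.toFinset.card = j := by
    rw [← Set.ncard_eq_toFinset_card u hufin, hu]
  have hl' : ∀ z, z ∉ u → Nat.card (fixingSubgroup G (insert z u)) = l := by
    intro z hz
    have := hkm1 (insert z hufin.toFinset) (by
      rw [Finset.card_insert_of_notMem (by simpa using hz), hucard]; rfl)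
    simpa using this
  have hm' : ∀ z w, z ∉ u → w ∉ u → w ≠ z →
      Nat.card (fixingSubgroup G (insert w (insert z u))) = m := by
    intro z w hz hw hwz
    have := hkm (insert w (insert z hufin.toFinset)) (by
      rw [Finset.card_insert_of_notMem (by simpa using ⟨hwz, hw⟩),
        Finset.card_insert_of_notMem (by simpa using hz), hucard])
    simpa using this
  set K := fixingSubgroup G u with hKdef
  have hK : ∀ z, z ∉ u → (orbit K z).ncard * l = Nat.card K := fun z hz => by
    rw [← hl' z hz]; exact ncard_orbit_fixingSubgroup_mul u z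
  set H := fixingSubgroup G (insert y u) with hHdef
  have hH : ∀ z, z ∉ u → z ≠ y → (orbit H z).ncard * m = l := fun z hz hzy => by
    rw [← hm' y z hy hz hzy, ← hl' y hy]; exact ncard_orbit_fixingSubgroup_mul (insert y u) z
  by_contra hcon
  have hyx : y ∉ orbit K x := by
    rintro ⟨⟨g, hg⟩, hgx⟩
    exact hcon ⟨g, (mem_fixingSubgroup_iff G).1 hg, hgx⟩
  have hxy : x ≠ y := by
    rintro rfl; exact hyx (mem_orbit_self _)
  set d := (orbit H x).ncard with hddef
  have hd : d * m = l := hH x hx hxy
  have hm0 : 0 < m := by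
    rcases Nat.eq_zero_or_pos m with h0 | h0
    · rw [h0, mul_zero] at hd; omega
    · exact h0
  have hHall : ∀ z, z ∉ u → z ≠ y → (orbit H z).ncard = d := by
    intro z hz hzy
    have := hH z hz hzy
    rw [← hd] at this
    exact Nat.eq_of_mul_eq_mul_right hm0 this
  have hd1 : d ≠ 1 := by
    intro hd1
    have hbot : H = ⊥ := by
      rw [Subgroup.eq_bot_iff_forall]
      intro h hh
      apply Subtype.ext
      apply Equiv.ext
      intro a
      show h • a = a
      by_cases ha : a ∈ insert y u
      · exact (mem_fixingSubgroup_iff G).1 hh a ha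
      · have ha' : a ∉ u ∧ a ≠ y := by
          constructor
          · exact fun h => ha (Set.mem_insert_of_mem _ h)
          · rintro rfl; exact ha (Set.mem_insert _ _)
        have h1 := hHall a ha'.1 ha'.2
        rw [hd1, Set.ncard_eq_one] at h1
        obtain ⟨b, hb⟩ := h1
        have ha1 : a ∈ orbit H a := mem_orbit_self a
        have ha2 : (⟨h, hh⟩ : H) • a ∈ orbit H a := mem_orbit _ _
        rw [hb, Set.mem_singleton_iff] at ha1 ha2
        exact ha2.trans ha1.symm
    have : Nat.card H = 1 := by rw [hbot]; exact Subgroup.card_bot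
    rw [hl' y hy] at this
    omega
  have hHK : ∀ h : H, (h : G) ∈ K := fun h => by
    rw [hKdef, mem_fixingSubgroup_iff]
    intro t ht
    exact (mem_fixingSubgroup_iff G).1 h.2 t (Set.mem_insert_of_mem _ ht)
  have hinv : ∀ z : α, ∀ h : H, ∀ s ∈ orbit K z, h • s ∈ orbit K z := by
    rintro z h s ⟨k, rfl⟩
    exact ⟨⟨(h : G), hHK h⟩ * k, mul_smul _ _ _⟩
  have hO2 : d ∣ (orbit K x).ncard := by
    apply dvd_ncard_of_orbit_ncard_eq (H := H) (orbit K x) (hinv x) d
    intro s hs
    apply hHall
    · exact notMem_of_mem_orbit_fixingSubgroup hx hs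
    · rintro rfl; exact hyx hs
  have hO1 : d ∣ (orbit K y \ {y}).ncard := by
    apply dvd_ncard_of_orbit_ncard_eq (H := H) (orbit K y \ {y}) _ d
    · rintro s ⟨hs, hsy⟩
      apply hHall
      · exact notMem_of_mem_orbit_fixingSubgroup hy hs
      · exact hsy
    · rintro h s ⟨hs, hsy⟩
      refine ⟨hinv y h s hs, ?_⟩
      intro hhs
      apply hsy
      rw [Set.mem_singleton_iff] at hhs ⊢
      have hhy : h • y = y := (mem_fixingSubgroup_iff G).1 h.2 y (Set.mem_insert _ _)
      have : h • s = h • y := hhs.trans hhy.symm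
      exact smul_left_cancel h this
  have hl0 : 0 < l := by omega
  have hN : (orbit K x).ncard = (orbit K y).ncard :=
    Nat.eq_of_mul_eq_mul_right hl0 ((hK x hx).trans (hK y hy).symm)
  have hsplit : (orbit K y \ {y}).ncard + 1 = (orbit K y).ncard :=
    Set.ncard_sdiff_singleton_add_one (mem_orbit_self y) (Set.toFinite _)
  have h1 : d ∣ 1 := by
    have h2 : d ∣ (orbit K y \ {y}).ncard + 1 := by rw [hsplit, ← hN]; exact hO2
    exact (Nat.dvd_add_right hO1).1 h2
  exact hd1 (Nat.dvd_one.1 h1)

end Cfsg.Agent.S0744
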