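import Cfsg.Statements.S0749
-- import your own Cfsg.Agent.* helpers here

set_option autoImplicit false
open Cfsg

namespace Cfsg.Agent.S0749

open Module in
theorem witt_aux {F V : Type*} [Field F] [AddCommGroup V] [Module F V] [FiniteDimensional F V]
    (B : LinearMap.BilinForm F V) (hB : B.Nondegenerate) (hA : B.IsAlt) :
    ∀ (n : ℕ) (X : Submodule F V), finrank F V - finrank F X = n →
      ∀ ψ : V →ₗ[F] V, (∀ x ∈ X, ∀ x' ∈ X, B (ψ x) (ψ x') = B x x') →
        (∀ x ∈ X, ψ x = 0 → x = 0) →
        ∃ g : V ≃ₗ[F] V, (∀ u v : V, B (g u) (g v) = B u v) ∧ ∀ x ∈ X, g x = ψ x := by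
  have hskew : ∀ x y : V, B x y = - B y x := fun x y => (hA.neg_eq y x).symm
  intro n
  induction n using Nat.strong_induction_on with
  | _ n ih =>
  intro X hn ψ hiso hinj
  by_cases hX : X = ⊤
  · subst hX
    have hinj' : Function.Injective ψ := by
      rw [← LinearMap.ker_eq_bot, LinearMap.ker_eq_bot']
      intro x hx
      exact hinj x trivial hx
    refine ⟨LinearEquiv.ofInjectiveEndo ψ hinj', ?_, ?_⟩
    · intro u v
      simp only [LinearEquiv.coe_ofInjectiveEndo]
      exact hiso u trivial v trivial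
    · intro x _
      rfl
  · obtain ⟨v, hv⟩ : ∃ v, v ∉ X := by
      by_contra h
      push Not at h
      exact hX (eq_top_iff.2 fun x _ => h x)
    -- Y = ψ(X)
    set Y := X.map ψ with hY
    have hf₀ : LinearMap.ker (ψ.comp X.subtype) = ⊥ := by
      rw [LinearMap.ker_eq_bot']
      intro x hx
      apply Subtype.ext
      exact hinj x x.2 hx
    -- Step 1: v'' with B (ψ x) v'' = B x v
    obtain ⟨ρ, hρ⟩ := (ψ.comp X.subtype).exists_leftInverse_of_injective hf₀
    have hρ' : ∀ x : X, ρ (ψ x) = x := fun x => LinearMap.congr_fun hρ x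
    let μ : V →ₗ[F] F := ((B.flip v).comp X.subtype).comp ρ
    have hμ : ∀ x ∈ X, μ (ψ x) = B x v := by
      intro x hx
      show B.flip v (X.subtype (ρ (ψ x))) = B x v
      have := hρ' ⟨x, hx⟩
      simp only at this
      rw [this]
      rfl
    set v'' := (B.toDual hB).symm (-μ) with hv''
    have hK0 : ∀ x ∈ X, B (ψ x) v'' = B x v := by
      intro x hx
      rw [hskew, hv'', LinearMap.BilinForm.apply_toDual_symm_apply, LinearMap.neg_apply, neg_neg]
      exact hμ x hx
    -- Step 2: v' ∉ Y
    obtain ⟨v', hK, hv'Y⟩ : ∃ v', (∀ x ∈ X, B (ψ x) v' = B x v) ∧ v' ∉ Y := by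
      by_cases hv''Y : v'' ∈ Y
      · -- need u ∈ Y^⊥ \ Y
        obtain ⟨u, hu, huY⟩ : ∃ u, u ∈ B.orthogonal Y ∧ u ∉ Y := by
          by_contra hcon
          push Not at hcon
          obtain ⟨x₀, hx₀, hx₀v⟩ := hv''Y
          have hvx : v - x₀ ∈ B.orthogonal X := by
            intro x hx
            show B x (v - x₀) = 0
            rw [map_sub, ← hK0 x hx, ← hx₀v, hiso x hx x₀ hx₀, sub_self]
          -- X^⊥ ≤ X
          have hYfin : finrank F Y = finrank F X := by
            have h1 : Y = LinearMap.range (ψ.comp X.subtype) := by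
              rw [LinearMap.range_comp, Submodule.range_subtype]
            rw [h1]
            exact LinearMap.finrank_range_of_inj (LinearMap.ker_eq_bot.1 hf₀)
          have hle : B.orthogonal Y ≤ (X ⊓ B.orthogonal X).map ψ := by
            intro y hy
            obtain ⟨x, hx, rfl⟩ := hcon y hy
            refine ⟨x, ⟨hx, ?_⟩, rfl⟩
            intro x' hx'
            show B x' x = 0
            rw [← hiso x' hx' x hx]
            exact hy (ψ x') ⟨x', hx', rfl⟩
          have h1 : finrank F (B.orthogonal Y) ≤ finrank F ↥(X ⊓ B.orthogonal X) :=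
            (Submodule.finrank_mono hle).trans (Submodule.finrank_map_le _ _)
          have h2 : finrank F (B.orthogonal Y) = finrank F (B.orthogonal X) := by
            rw [LinearMap.BilinForm.finrank_orthogonal hB, LinearMap.BilinForm.finrank_orthogonal hB,
              hYfin]
          have h3 : X ⊓ B.orthogonal X = B.orthogonal X :=
            Submodule.eq_of_le_of_finrank_le inf_le_right (h2 ▸ h1)
          have h4 : B.orthogonal X ≤ X := by
            rw [← h3]; exact inf_le_left
          have h5 := h4 hvx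
          apply hv
          have : v = (v - x₀) + x₀ := by abel
          rw [this]
          exact X.add_mem h5 hx₀
        refine ⟨v'' + u, ?_, ?_⟩
        · intro x hx
          rw [map_add, hK0 x hx, hu (ψ x) ⟨x, hx, rfl⟩, add_zero]
        · intro h
          apply huY
          have : u = (v'' + u) - v'' := by abel
          rw [this]
          exact Y.sub_mem h hv''Y
      · exact ⟨v'', hK0, hv''Y⟩
    -- extend ψ
    obtain ⟨ψ', hψ'X, hψ'v⟩ := LinearMap.exists_extend_of_notMem (ψ.comp X.subtype) hv v'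
    have hψ'x : ∀ x ∈ X, ψ' x = ψ x := fun x hx => LinearMap.congr_fun hψ'X ⟨x, hx⟩
    set X' := X ⊔ Submodule.span F {v} with hX'
    have hXX' : X < X' := by
      refine lt_of_le_of_ne le_sup_left ?_
      intro h
      apply hv
      rw [h]
      exact Submodule.mem_sup_right (Submodule.mem_span_singleton_self v)
    have hmemX' : ∀ w ∈ X', ∃ x ∈ X, ∃ c : F, w = x + c • v := by
      intro w hw
      rw [hX', Submodule.mem_sup] at hw
      obtain ⟨x, hx, z, hz, rfl⟩ := hw
      rw [Submodule.mem_span_singleton] at hz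
      obtain ⟨c, rfl⟩ := hz
      exact ⟨x, hx, c, rfl⟩
    have hlt : finrank F V - finrank F X' < n := by
      have h1 := Submodule.finrank_lt_finrank_of_lt hXX'
      have h2 := Submodule.finrank_le X'
      omega
    have hKs : ∀ x ∈ X, B v' (ψ x) = B v x := fun x hx => by
      rw [hskew, hK x hx, ← hskew]
    obtain ⟨g, hg1, hg2⟩ := ih _ hlt X' rfl ψ' (by
      intro w hw w' hw'
      obtain ⟨x, hx, c, rfl⟩ := hmemX' w hw
      obtain ⟨x', hx', c', rfl⟩ := hmemX' w' hw'
      simp only [map_add, map_smul, LinearMap.add_apply, LinearMap.smul_apply, hψ'x x hx,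
        hψ'x x' hx', hψ'v, hiso x hx x' hx', hK x hx, hKs x' hx', hA.self_eq_zero]) (by
      intro w hw hw0
      obtain ⟨x, hx, c, rfl⟩ := hmemX' w hw
      rw [map_add, map_smul, hψ'x x hx, hψ'v] at hw0
      have hc : c = 0 := by
        by_contra hc
        apply hv'Y
        have : v' = ψ (-(c⁻¹ • x)) := by
          have h1 : c • v' = - ψ x := by
            rw [eq_neg_iff_add_eq_zero, add_comm]; exact hw0
          rw [map_neg, map_smul, ← smul_neg, ← h1, smul_smul, inv_mul_cancel₀ hc, one_smul]
        rw [this]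
        exact ⟨_, X.neg_mem (X.smul_mem _ hx), rfl⟩
      rw [hc, zero_smul, add_zero] at hw0 ⊢
      exact hinj x hx hw0)
    refine ⟨g, hg1, ?_⟩
    intro x hx
    rw [hg2 x (hXX'.le hx), hψ'x x hx]

/-- Witt's Lemma for alternating forms. If B is a non-degenerate alternating bilinear form on a finite-dimensional vector space V (over any field) and φ is a linear equivalence between subspaces X and Y of V preserving B, then φ extends to a B-preserving linear automorphism of V. -/
theorem result {F V : Type*} [Field F] [AddCommGroup V] [Module F V] [FiniteDimensional F V] (B : LinearMap.BilinForm F V) (hB : B.Nondegenerate) (hA : B.IsAlt) (X Y : Submodule F V) (φ : X ≃ₗ[F] Y) (hφ : ∀ x x' : X, B (φ x : V) (φ x' : V) = B (x : V) (x' : V)) : ∃ g : V ≃ₗ[F] V, (∀ u v : V, B (g u) (g v) = B u v) ∧ ∀ x : X, g (x : V) = (φ x : V) := by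
  obtain ⟨ψ, hψ⟩ := LinearMap.exists_extend (Y.subtype.comp φ.toLinearMap)
  have hψx : ∀ x : X, ψ (x : V) = (φ x : V) := fun x => LinearMap.congr_fun hψ x
  obtain ⟨g, hg1, hg2⟩ := witt_aux B hB hA _ X rfl ψ (by
    intro x hx x' hx'
    rw [hψx ⟨x, hx⟩, hψx ⟨x', hx'⟩]
    exact hφ ⟨x, hx⟩ ⟨x', hx'⟩) (by
    intro x hx h0
    rw [hψx ⟨x, hx⟩] at h0
    have : φ ⟨x, hx⟩ = 0 := Subtype.ext h0
    have := φ.map_eq_zero_iff.1 this
    exact congrArg Subtype.val this)
  refine ⟨g, hg1, fun x => ?_⟩
  rw [hg2 x x.2, hψx]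

end Cfsg.Agent.S0749
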