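import Cfsg.Statements.S0754
-- import your own Cfsg.Agent.* helpers here

set_option autoImplicit false
open Cfsg

namespace Cfsg.Agent.S0754

/-- In a field F with q^2 elements, every non-zero μ with μ^q = μ (that is, μ in the subfield of order q) has exactly q + 1 solutions λ of λ^(q+1) = μ. -/
theorem result {F : Type*} [Field F] [Fintype F] {q : ℕ} (hF : Fintype.card F = q ^ 2) (μ : F) (hμ : μ ≠ 0) (hμq : μ ^ q = μ) : Nat.card {x : F // x ^ (q + 1) = μ} = q + 1 := by
  classical
  have hq1 : 2 ≤ q := by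
    have h1 : 1 < Fintype.card F := Fintype.one_lt_card
    rw [hF] at h1
    by_contra hlt
    have : q ≤ 1 := by omega
    interval_cases q <;> simp at h1
  -- cardinality of units
  have hcardU : Nat.card Fˣ = (q - 1) * (q + 1) := by
    rw [Nat.card_eq_fintype_card, Fintype.card_units, hF]
    have : q ^ 2 = (q - 1) * (q + 1) + 1 := by
      obtain ⟨k, rfl⟩ : ∃ k, q = k + 1 := ⟨q - 1, by omega⟩
      simp only [Nat.add_sub_cancel]
      ring
    omega
  have hgcd1 : (Nat.card Fˣ).gcd (q + 1) = q + 1 := by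
    rw [hcardU]; exact Nat.gcd_eq_right (Dvd.intro_left _ rfl)
  have hgcd2 : (Nat.card Fˣ).gcd (q - 1) = q - 1 := by
    rw [hcardU]; exact Nat.gcd_eq_right (Dvd.intro _ rfl)
  let f : Fˣ →* Fˣ := powMonoidHom (q + 1)
  let g : Fˣ →* Fˣ := powMonoidHom (q - 1)
  have hker : Nat.card f.ker = q + 1 := by
    rw [IsCyclic.card_powMonoidHom_ker, hgcd1]
  have hrange : Nat.card f.range = q - 1 := by
    rw [IsCyclic.card_powMonoidHom_range, hgcd1, hcardU]
    exact Nat.mul_div_cancel _ (by omega)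
  have hgker : Nat.card g.ker = q - 1 := by
    rw [IsCyclic.card_powMonoidHom_ker, hgcd2]
  have hle : f.range ≤ g.ker := by
    rintro _ ⟨x, rfl⟩
    rw [MonoidHom.mem_ker]
    change (x ^ (q + 1)) ^ (q - 1) = 1
    rw [← pow_mul, mul_comm, ← hcardU]
    exact pow_card_eq_one'
  have heq : f.range = g.ker := by
    apply Subgroup.eq_of_le_of_card_ge hle
    rw [hrange, hgker]
  -- μ as a unit
  let μ' : Fˣ := Units.mk0 μ hμ
  have hμ' : μ' ∈ g.ker := by
    rw [MonoidHom.mem_ker]
    change μ' ^ (q - 1) = 1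
    apply Units.ext
    simp only [Units.val_pow_eq_pow_val, Units.val_one, μ', Units.val_mk0]
    have h1 : μ ^ (q - 1) * μ = μ := by
      rw [← pow_succ, Nat.sub_add_cancel (by omega)]
      exact hμq
    have h2 : (μ ^ (q - 1) - 1) * μ = 0 := by
      rw [sub_mul, h1, one_mul, sub_self]
    rcases mul_eq_zero.mp h2 with h | h
    · exact sub_eq_zero.mp h
    · exact absurd h hμ
  rw [← heq] at hμ'
  obtain ⟨x0, hx0⟩ := hμ'
  have hx0' : x0 ^ (q + 1) = μ' := hx0
  have hmem : ∀ k : f.ker, (((x0 * (k : Fˣ) : Fˣ) : F)) ^ (q + 1) = μ := by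
    intro k
    have hk : (k : Fˣ) ^ (q + 1) = 1 := k.2
    have : (x0 * (k : Fˣ)) ^ (q + 1) = μ' := by
      rw [mul_pow, hk, mul_one, hx0']
    have h3 := congrArg (fun u : Fˣ => (u : F)) this
    simpa [μ'] using h3
  have hcongr : Nat.card {x : F // x ^ (q + 1) = μ} = Nat.card f.ker := by
    symm
    refine Nat.card_congr (Equiv.ofBijective
      (fun k : f.ker => (⟨((x0 * (k : Fˣ) : Fˣ) : F), hmem k⟩ : {x : F // x ^ (q + 1) = μ}))
      ⟨?_, ?_⟩)
    · intro k1 k2 h
      have h1 : ((x0 * (k1 : Fˣ) : Fˣ) : F) = ((x0 * (k2 : Fˣ) : Fˣ) : F) := congrArg Subtype.val h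
      have h2 : x0 * (k1 : Fˣ) = x0 * (k2 : Fˣ) := Units.ext h1
      exact Subtype.ext (mul_left_cancel h2)
    · rintro ⟨x, hx⟩
      have hxne : x ≠ 0 := by
        rintro rfl
        rw [zero_pow (by omega)] at hx
        exact hμ hx.symm
      let x' : Fˣ := Units.mk0 x hxne
      have hx' : x' ^ (q + 1) = μ' := by
        apply Units.ext
        simp [x', μ', hx]
      refine ⟨⟨x0⁻¹ * x', ?_⟩, ?_⟩
      · rw [MonoidHom.mem_ker]
        change (x0⁻¹ * x') ^ (q + 1) = 1
        rw [mul_pow, inv_pow, hx0', hx', inv_mul_cancel]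
      · apply Subtype.ext
        simp [x']
  rw [hcongr, hker]

end Cfsg.Agent.S0754
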