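import Cfsg.Statements.S0755
-- import your own Cfsg.Agent.* helpers here

set_option autoImplicit false
open Cfsg

namespace Cfsg.Agent.S0755

theorem card_ker_mul_card_range {G H : Type*} [Group G] [Group H] (f : G →* H) :
    Nat.card f.ker * Nat.card f.range = Nat.card G := by
  rw [← Subgroup.index_ker]
  exact Subgroup.card_mul_index _

/-- Surjectivity of the norm `c ↦ c * σ c` onto the fixed field, for an involution `σ ≠ id` of a
finite field (via Hilbert 90 and counting). -/
theorem norm_surj {F : Type*} [Field F] [Finite F] (σ : F →+* F) (hσ : σ ≠ RingHom.id F)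
    (hσ2 : ∀ a : F, σ (σ a) = a) (t : F) (ht0 : t ≠ 0) (ht : σ t = t) :
    ∃ c : F, c ≠ 0 ∧ c * σ c = t := by
  classical
  let σu : Fˣ →* Fˣ := Units.map (σ : F →* F)
  have hσu : ∀ u : Fˣ, ((σu u : Fˣ) : F) = σ u := fun u => rfl
  let N : Fˣ →* Fˣ := MonoidHom.id Fˣ * σu
  let ψ : Fˣ →* Fˣ := MonoidHom.id Fˣ * σu⁻¹
  have hN : ∀ u : Fˣ, N u = u * σu u := fun u => rfl
  have hψ : ∀ u : Fˣ, ψ u = u * (σu u)⁻¹ := fun u => rfl
  let S : Subgroup Fˣ := MonoidHom.eqLocus σu (MonoidHom.id Fˣ)
  have hS : ∀ u : Fˣ, u ∈ S ↔ σu u = u := fun u => Iff.rfl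
  have hψker : ψ.ker = S := by
    ext u
    rw [MonoidHom.mem_ker, hψ, hS, mul_inv_eq_one]
    exact eq_comm
  have hNrange : N.range ≤ S := by
    rintro _ ⟨u, rfl⟩
    rw [hS, hN, map_mul]
    have : σu (σu u) = u := Units.ext (by rw [hσu, hσu]; exact hσ2 _)
    rw [this, mul_comm]
  have hψrange : ψ.range = N.ker := by
    ext c
    constructor
    · rintro ⟨b, rfl⟩
      rw [MonoidHom.mem_ker, hN, hψ, map_mul, map_inv]
      have : σu (σu b) = b := Units.ext (by rw [hσu, hσu]; exact hσ2 _)
      rw [this]
      have e : b * (σu b)⁻¹ * (σu b * b⁻¹) = (b * b⁻¹) * ((σu b)⁻¹ * σu b) := by ac_rfl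
      rw [e, mul_inv_cancel, inv_mul_cancel, one_mul]
    · intro hc
      rw [MonoidHom.mem_ker, hN] at hc
      have hc' : (c : F) * σ c = 1 := by
        have := congrArg (fun u : Fˣ => (u : F)) hc
        simpa [hσu] using this
      -- find θ with θ + c σ θ ≠ 0
      obtain ⟨θ, hθ⟩ : ∃ θ : F, θ + c * σ θ ≠ 0 := by
        by_cases hc1 : (c : F) = -1
        · obtain ⟨a, ha⟩ : ∃ a, σ a ≠ a := by
            by_contra h
            push Not at h
            exact hσ (RingHom.ext h)
          refine ⟨a, ?_⟩
          rw [hc1]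
          intro h0
          apply ha
          have : a - σ a = 0 := by rw [← h0]; ring
          exact (sub_eq_zero.1 this).symm
        · refine ⟨1, ?_⟩
          rw [map_one, mul_one]
          intro h0
          apply hc1
          exact (eq_neg_of_add_eq_zero_right h0)
      have hfix : (c : F) * σ (θ + c * σ θ) = θ + c * σ θ := by
        rw [map_add, map_mul, hσ2, mul_add, ← mul_assoc, hc', one_mul, add_comm]
      refine ⟨Units.mk0 _ hθ, ?_⟩
      rw [hψ]
      apply Units.ext
      rw [Units.val_mul, Units.val_inv_eq_inv_val, hσu, Units.val_mk0]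
      have hσθ : σ (θ + c * σ θ) ≠ 0 := by
        intro h0
        rw [h0, mul_zero] at hfix
        exact hθ hfix.symm
      rw [mul_inv_eq_iff_eq_mul₀ hσθ]
      exact hfix.symm
  have hcard : Nat.card N.range = Nat.card S := by
    have h1 := card_ker_mul_card_range N
    have h2 := card_ker_mul_card_range ψ
    rw [hψker, hψrange] at h2
    have hpos : 0 < Nat.card N.ker := Nat.card_pos
    have : Nat.card N.ker * Nat.card N.range = Nat.card N.ker * Nat.card S := by
      rw [h1, mul_comm, h2]
    exact Nat.eq_of_mul_eq_mul_left hpos this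
  have hrange : N.range = S := Subgroup.eq_of_le_of_card_ge hNrange (le_of_eq hcard.symm)
  have htS : Units.mk0 t ht0 ∈ S := by
    rw [hS]
    apply Units.ext
    rw [hσu, Units.val_mk0, ht]
  rw [← hrange] at htS
  obtain ⟨c, hc⟩ := htS
  refine ⟨c, c.ne_zero, ?_⟩
  have := congrArg (fun u : Fˣ => (u : F)) hc
  simpa [hN, hσu] using this

open Module in
theorem herm_aux {F : Type*} [Field F] [Finite F] (σ : F →+* F) (hσ : σ ≠ RingHom.id F)
    (hσ2 : ∀ a : F, σ (σ a) = a) {V : Type*} [AddCommGroup V] [Module F V]
    [FiniteDimensional F V] (B : V →ₛₗ[σ] V →ₗ[F] F) (hS : B.IsSymm) (hB : B.Nondegenerate)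
    (d : ℕ) (hd : finrank F V = d) :
    ∃ b : Basis (Fin d) F V, ∀ i j, B (b i) (b j) = if i = j then 1 else 0 := by
  classical
  induction d generalizing V with
  | zero => exact ⟨basisOfFinrankZero hd, fun i => i.elim0⟩
  | succ d ih =>
    have hnt : Nontrivial V := Module.nontrivial_of_finrank_pos (R := F) (by omega)
    obtain ⟨v, hv⟩ : ∃ v, B v v ≠ 0 := by
      by_contra hcon
      push Not at hcon
      obtain ⟨a, ha⟩ : ∃ a, σ a ≠ a := by
        by_contra h
        push Not at h
        exact hσ (RingHom.ext h)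
      have hanti : ∀ x y, B x y + B y x = 0 := by
        intro x y
        have := hcon (x + y)
        simp only [map_add, LinearMap.add_apply, hcon x, hcon y, zero_add, add_zero] at this
        rw [add_comm]; exact this
      have hzero : ∀ x y, B x y = 0 := by
        intro x y
        have h1 := hanti x y
        have h2 := hanti x (a • y)
        rw [map_smul, LinearMap.map_smulₛₗ, LinearMap.smul_apply, smul_eq_mul, smul_eq_mul] at h2
        have h3 : B y x = - B x y := by
          rw [eq_neg_iff_add_eq_zero, add_comm]; exact h1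
        rw [h3] at h2
        have h4 : (a - σ a) * B x y = 0 := by
          rw [sub_mul]; rw [← h2]; ring
        rcases mul_eq_zero.1 h4 with h5 | h5
        · exact absurd (sub_eq_zero.1 h5).symm ha
        · exact h5
      obtain ⟨x, hx⟩ := exists_ne (0 : V)
      exact hx (hB.1 x (hzero x))
    have hfix : σ (B v v) = B v v := hS.eq v v
    obtain ⟨c, hc0, hc⟩ := norm_surj σ hσ hσ2 (B v v) hv hfix
    have hσc : σ c ≠ 0 := by
      intro h0
      rw [h0, mul_zero] at hc
      exact hv hc.symm
    obtain ⟨u, hu⟩ : ∃ u : V, B u u = 1 := by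
      refine ⟨c⁻¹ • v, ?_⟩
      simp only [LinearMap.map_smulₛₗ, LinearMap.smul_apply, map_smul, smul_eq_mul, map_inv₀]
      rw [← hc]
      field_simp
    have hfinN : finrank F (LinearMap.ker (B u)) = d := by
      have h1 := LinearMap.finrank_range_add_finrank_ker (B u)
      have h2 : LinearMap.range (B u) = ⊤ := by
        rw [LinearMap.range_eq_top]
        intro t
        exact ⟨t • u, by rw [map_smul, hu, smul_eq_mul, mul_one]⟩
      rw [h2, finrank_top, Module.finrank_self] at h1
      omega
    have hdec : ∀ z : V, z - (B u z) • u ∈ LinearMap.ker (B u) := by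
      intro z
      rw [LinearMap.mem_ker, map_sub, map_smul, hu, smul_eq_mul, mul_one, sub_self]
    have hNu : ∀ x ∈ LinearMap.ker (B u), B x u = 0 := by
      intro x hx
      rw [← hS.eq u x, LinearMap.mem_ker.1 hx, map_zero]
    have hB' : (B.domRestrict₁₂ (LinearMap.ker (B u)) (LinearMap.ker (B u))).Nondegenerate := by
      constructor
      · intro x hx
        apply Subtype.ext
        apply hB.1
        intro z
        have h1 := hx ⟨_, hdec z⟩
        rw [LinearMap.domRestrict₁₂_apply] at h1
        have hz : z = (z - (B u z) • u) + (B u z) • u := by abel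
        rw [hz, map_add, h1, map_smul, hNu x x.2, smul_zero, add_zero]
      · intro y hy
        apply Subtype.ext
        apply hB.2
        intro z
        have h1 := hy ⟨_, hdec z⟩
        rw [LinearMap.domRestrict₁₂_apply] at h1
        have hz : z = (z - (B u z) • u) + (B u z) • u := by abel
        rw [hz, map_add, LinearMap.add_apply, h1, LinearMap.map_smulₛₗ, LinearMap.smul_apply,
          LinearMap.mem_ker.1 y.2, smul_zero, add_zero]
    obtain ⟨b', hb'⟩ := ih (B.domRestrict₁₂ (LinearMap.ker (B u)) (LinearMap.ker (B u)))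
      (hS.domRestrict _) hB' hfinN
    let b := Basis.mkFinCons u b'
      (by
        intro c' x hx hcx
        have := congrArg (B u) hcx
        rw [map_add, map_smul, hu, LinearMap.mem_ker.1 hx, map_zero, add_zero, smul_eq_mul,
          mul_one] at this
        exact this)
      (by
        intro z
        refine ⟨-(B u z), ?_⟩
        have := hdec z
        rw [sub_eq_add_neg, ← neg_smul] at this
        exact this)
    have hb : (b : Fin (d + 1) → V) = Fin.cons u ((↑) ∘ b') := Basis.coe_mkFinCons _ _ _ _
    refine ⟨b, ?_⟩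
    intro i j
    rw [hb]
    refine Fin.cases ?_ (fun i => ?_) i <;> refine Fin.cases ?_ (fun j => ?_) j
    · rw [Fin.cons_zero, hu, if_pos rfl]
    · rw [Fin.cons_zero, Fin.cons_succ, Function.comp_apply, LinearMap.mem_ker.1 (b' j).2,
        if_neg (Fin.succ_ne_zero j).symm]
    · rw [Fin.cons_zero, Fin.cons_succ, Function.comp_apply, hNu _ (b' i).2,
        if_neg (Fin.succ_ne_zero i)]
    · have := hb' i j
      rw [LinearMap.domRestrict₁₂_apply] at this
      rw [Fin.cons_succ, Fin.cons_succ, Function.comp_apply, Function.comp_apply, this]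
      simp only [Fin.succ_inj]

/-- Classification of Hermitian forms over finite fields: if σ is a non-identity involutive automorphism of the finite field F and B is a non-degenerate conjugate-symmetric σ-sesquilinear form on the finite-dimensional space V, then V has a B-orthonormal basis. -/
theorem result {F V : Type*} [Field F] [Finite F] [AddCommGroup V] [Module F V] [FiniteDimensional F V] (σ : F →+* F) (hσ : σ ≠ RingHom.id F) (hσ2 : ∀ a : F, σ (σ a) = a) (B : V →ₛₗ[σ] V →ₗ[F] F) (hS : B.IsSymm) (hB : B.Nondegenerate) : ∃ b : Module.Basis (Fin (Module.finrank F V)) F V, ∀ i j, B (b i) (b j) = if i = j then 1 else 0 := by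
  exact herm_aux σ hσ hσ2 B hS hB _ rfl

end Cfsg.Agent.S0755
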