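import Cfsg.Statements.S0756
-- import your own Cfsg.Agent.* helpers here

set_option autoImplicit false
open Cfsg

namespace Cfsg.Agent.S0756

theorem ringChar_ne_two {F : Type*} [Field F] (h2 : (2 : F) ≠ 0) : ringChar F ≠ 2 := by
  intro h
  have : CharP F 2 := ringChar.of_eq h
  apply h2
  have := CharP.cast_eq_zero F 2
  exact_mod_cast this

theorem sq_or_nonsq {F : Type*} [Field F] [Finite F] (h2 : (2 : F) ≠ 0) (α : F)
    (hα : ¬ IsSquare α) (a : F) (ha : a ≠ 0) :
    ∃ c : F, c ≠ 0 ∧ (a = c * c ∨ a = α * (c * c)) := by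
  classical
  have := Fintype.ofFinite F
  have hchar := ringChar_ne_two h2
  by_cases hsq : IsSquare a
  · obtain ⟨c, hc⟩ := hsq
    refine ⟨c, ?_, Or.inl hc⟩
    rintro rfl
    rw [mul_zero] at hc
    exact ha hc
  · have hα0 : α ≠ 0 := by
      rintro rfl
      exact hα (IsSquare.zero)
    have h1 : quadraticChar F a = -1 := quadraticChar_neg_one_iff_not_isSquare.2 hsq
    have h2' : quadraticChar F α = -1 := quadraticChar_neg_one_iff_not_isSquare.2 hα
    have h3 : quadraticChar F (a * α) = 1 := by
      rw [map_mul, h1, h2']; norm_num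
    have haα : a * α ≠ 0 := mul_ne_zero ha hα0
    obtain ⟨c, hc⟩ := (quadraticChar_one_iff_isSquare haα).1 h3
    have hc0 : c ≠ 0 := by
      rintro rfl
      rw [mul_zero] at hc
      exact haα hc
    refine ⟨c / α, div_ne_zero hc0 hα0, Or.inr ?_⟩
    field_simp
    rw [hc]
    ring

open Polynomial Module in
theorem exists_norm_one {F V : Type*} [Field F] [Finite F] [AddCommGroup V] [Module F V]
    [FiniteDimensional F V] (h2 : (2 : F) ≠ 0) (B : LinearMap.BilinForm F V) (hS : B.IsSymm)
    (hB : B.Nondegenerate) (hd : 2 ≤ finrank F V) : ∃ v : V, B v v = 1 := by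
  classical
  have := Fintype.ofFinite F
  have : Invertible (2 : F) := invertibleOfNonzero h2
  obtain ⟨w, hw⟩ := LinearMap.BilinForm.exists_orthogonal_basis (LinearMap.BilinForm.isSymm_iff.1 hS)
  have hne : ∀ i, B (w i) (w i) ≠ 0 :=
    LinearMap.BilinForm.iIsOrtho.not_isOrtho_basis_self_of_nondegenerate hw hB
  have hij : (⟨0, by omega⟩ : Fin (finrank F V)) ≠ ⟨1, by omega⟩ := by
    simp [Fin.ext_iff]
  have hcard : Fintype.card F % 2 = 1 := FiniteField.odd_card_of_char_ne_two (ringChar_ne_two h2)
  obtain ⟨x, y, hxy⟩ := FiniteField.exists_root_sum_quadratic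
    (f := C (B (w ⟨0, by omega⟩) (w ⟨0, by omega⟩)) * X ^ 2)
    (g := C (B (w ⟨1, by omega⟩) (w ⟨1, by omega⟩)) * X ^ 2 - C 1)
    (by rw [degree_C_mul_X_pow 2 (hne _)]; rfl)
    (by
      rw [degree_sub_C]
      · rw [degree_C_mul_X_pow 2 (hne _)]; rfl
      · rw [degree_C_mul_X_pow 2 (hne _)]; norm_num) hcard
  simp only [eval_mul, eval_C, eval_pow, eval_X, eval_sub] at hxy
  refine ⟨x • w ⟨0, by omega⟩ + y • w ⟨1, by omega⟩, ?_⟩
  have h01 := LinearMap.isOrthoᵢ_def.1 hw _ _ hij
  have h10 := LinearMap.isOrthoᵢ_def.1 hw _ _ hij.symm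
  simp only [map_add, map_smul, LinearMap.add_apply, LinearMap.smul_apply, smul_eq_mul, h01, h10,
    mul_zero, add_zero, zero_add]
  linear_combination hxy

open Module in
theorem main_aux {F : Type*} [Field F] [Finite F] (h2 : (2 : F) ≠ 0) (α : F) (hα : ¬ IsSquare α)
    {V : Type*} [AddCommGroup V] [Module F V] [FiniteDimensional F V]
    (B : LinearMap.BilinForm F V) (hS : B.IsSymm) (hB : B.Nondegenerate) (d : ℕ)
    (hd : finrank F V = d + 1) :
    ∃ (b : Basis (Fin (d + 1)) F V) (i₀ : Fin (d + 1)), (∀ i j, i ≠ j → B (b i) (b j) = 0) ∧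
      (∀ i, i ≠ i₀ → B (b i) (b i) = 1) ∧ (B (b i₀) (b i₀) = 1 ∨ B (b i₀) (b i₀) = α) := by
  classical
  induction d generalizing V with
  | zero =>
    let b := Module.finBasis F V
    rw [hd] at b
    have hsub : ∀ i j : Fin (0 + 1), i = j := fun i j => Fin.ext (by omega)
    have hortho : B.iIsOrtho b := fun i j hij => absurd (hsub i j) hij
    have ha : B (b 0) (b 0) ≠ 0 :=
      LinearMap.BilinForm.iIsOrtho.not_isOrtho_basis_self_of_nondegenerate hortho hB 0
    obtain ⟨c, hc0, hc⟩ := sq_or_nonsq h2 α hα _ ha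
    refine ⟨b.unitsSMul (fun _ => (Units.mk0 c hc0)⁻¹), 0, ?_, ?_, ?_⟩
    · intro i j hij
      exact absurd (hsub i j) hij
    · intro i hi
      exact absurd (hsub i 0) hi
    · simp only [Basis.unitsSMul_apply, Units.smul_def, map_smul, LinearMap.smul_apply,
        smul_eq_mul, Units.val_inv_eq_inv_val, Units.val_mk0]
      rcases hc with hc | hc
      · left
        rw [hc]
        field_simp
      · right
        rw [hc]
        field_simp
  | succ d ih =>
    obtain ⟨v, hv⟩ := exists_norm_one h2 B hS hB (by omega)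
    have hx : B v v ≠ 0 := by rw [hv]; exact one_ne_zero
    have hcompl := LinearMap.BilinForm.isCompl_span_singleton_orthogonal hx
    rw [← Submodule.finrank_add_eq_of_isCompl hcompl.symm,
      finrank_span_singleton (ne_zero_of_map hx)] at hd
    have hB' := LinearMap.BilinForm.restrict_nondegenerate_orthogonal_spanSingleton B hB
      hS.isRefl hx
    obtain ⟨b', i₀', h1, h2', h3⟩ := ih (B.restrict (B.orthogonal (F ∙ v)))
      (hS.restrict _) hB' (by omega)
    let b := Basis.mkFinCons v b'
      (by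
        rintro c y hy hc
        rw [add_eq_zero_iff_neg_eq] at hc
        rw [← hc, Submodule.neg_mem_iff] at hy
        have := hcompl.disjoint
        rw [Submodule.disjoint_def] at this
        have := this (c • v) (Submodule.smul_mem _ _ <| Submodule.mem_span_singleton_self _) hy
        exact (smul_eq_zero.1 this).resolve_right fun h => hx <| h.symm ▸ map_zero _)
      (by
        intro y
        refine ⟨-B v y / B v v, fun z hz => ?_⟩
        obtain ⟨c, rfl⟩ := Submodule.mem_span_singleton.1 hz
        rw [map_smul, LinearMap.smul_apply, map_add, map_smul, smul_eq_mul, smul_eq_mul,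
          div_mul_cancel₀ _ hx, add_neg_cancel, mul_zero])
    have hb : (b : Fin (d + 1 + 1) → V) = Fin.cons v ((↑) ∘ b') := Basis.coe_mkFinCons _ _ _ _
    refine ⟨b, Fin.succ i₀', ?_, ?_, ?_⟩
    · intro i j
      rw [hb]
      refine Fin.cases ?_ (fun i => ?_) i <;> refine Fin.cases ?_ (fun j => ?_) j <;> intro hij <;>
        simp only [Fin.cons_zero, Fin.cons_succ, Function.comp_apply]
      · exact (hij rfl).elim
      · exact (b' j).prop _ (Submodule.mem_span_singleton_self v)
      · rw [hS.eq]
        exact (b' i).prop _ (Submodule.mem_span_singleton_self v)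
      · exact h1 i j (fun h => hij (by rw [h]))
    · intro i
      rw [hb]
      refine Fin.cases ?_ (fun i => ?_) i <;> intro hi <;>
        simp only [Fin.cons_zero, Fin.cons_succ, Function.comp_apply]
      · exact hv
      · exact h2' i (fun h => hi (by rw [h]))
    · rw [hb]
      simp only [Fin.cons_succ, Function.comp_apply]
      exact h3

/-- Classification of symmetric bilinear forms over finite fields of odd characteristic: if B is non-degenerate symmetric on V of dimension n + 1 and α is a fixed non-square of F, there is an orthogonal basis b_0, ..., b_n with B(b_i, b_i) = 1 for i < n and B(b_n, b_n) ∈ {1, α}. -/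
theorem result {F V : Type*} [Field F] [Finite F] [AddCommGroup V] [Module F V] [FiniteDimensional F V] (h2 : (2 : F) ≠ 0) (B : LinearMap.BilinForm F V) (hS : B.IsSymm) (hB : B.Nondegenerate) {n : ℕ} (hn : Module.finrank F V = n + 1) (α : F) (hα : ¬ IsSquare α) : ∃ b : Module.Basis (Fin (n + 1)) F V, (∀ i j, i ≠ j → B (b i) (b j) = 0) ∧ (∀ i, i ≠ Fin.last n → B (b i) (b i) = 1) ∧ (B (b (Fin.last n)) (b (Fin.last n)) = 1 ∨ B (b (Fin.last n)) (b (Fin.last n)) = α) := by
  classical
  obtain ⟨b, i₀, h1, h2', h3⟩ := main_aux h2 α hα B hS hB n hn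
  refine ⟨b.reindex (Equiv.swap i₀ (Fin.last n)), ?_, ?_, ?_⟩
  · intro i j hij
    rw [Module.Basis.reindex_apply, Module.Basis.reindex_apply]
    exact h1 _ _ (fun h => hij ((Equiv.swap i₀ (Fin.last n)).symm.injective h))
  · intro i hi
    rw [Module.Basis.reindex_apply]
    apply h2'
    intro h
    apply hi
    have : i = (Equiv.swap i₀ (Fin.last n)) i₀ := (Equiv.symm_apply_eq _).1 h
    rw [this, Equiv.swap_apply_left]
  · rw [Module.Basis.reindex_apply, Equiv.symm_swap, Equiv.swap_apply_right]
    exact h3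

end Cfsg.Agent.S0756
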