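import Cfsg.Statements.S0757
-- import your own Cfsg.Agent.* helpers here

set_option autoImplicit false
open Cfsg

namespace Cfsg.Agent.S0757

theorem toMatrix'_wss {F : Type*} [Field F] [Invertible (2 : F)] {ι : Type*} [Fintype ι]
    [DecidableEq ι] (w : ι → F) :
    QuadraticForm.toMatrix' (QuadraticMap.weightedSumSquares F w) = Matrix.diagonal w := by
  ext i j
  rw [QuadraticForm.toMatrix', LinearMap.toMatrix₂'_apply, QuadraticMap.associated_apply]
  simp only [QuadraticMap.weightedSumSquares_apply, Pi.add_apply, smul_eq_mul]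
  rw [Matrix.diagonal_apply]
  by_cases hij : i = j
  · subst hij
    rw [if_pos rfl]
    have h1 : ∀ k : ι, w k * (((Pi.single i (1 : F) : ι → F) k + (Pi.single i (1 : F) : ι → F) k)
        * ((Pi.single i (1 : F) : ι → F) k + (Pi.single i (1 : F) : ι → F) k))
        = if k = i then 4 * w i else 0 := by
      intro k
      by_cases hk : k = i
      · subst hk; simp; ring
      · simp [hk]
    have h2 : ∀ k : ι, w k * ((Pi.single i (1 : F) : ι → F) k * (Pi.single i (1 : F) : ι → F) k)
        = if k = i then w i else 0 := by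
      intro k
      by_cases hk : k = i
      · subst hk; simp
      · simp [hk]
    simp only [h1, h2, Finset.sum_ite_eq', Finset.mem_univ, if_true]
    have : (⅟ (2 : F)) * 2 = 1 := invOf_mul_self 2
    change ⅟(2 : F) * (4 * w i - w i - w i) = w i
    linear_combination (w i) * this
  · rw [if_neg hij]
    have h1 : ∀ k : ι, w k * (((Pi.single i (1 : F) : ι → F) k + (Pi.single j (1 : F) : ι → F) k)
        * ((Pi.single i (1 : F) : ι → F) k + (Pi.single j (1 : F) : ι → F) k))
        = (if k = i then w i else 0) + (if k = j then w j else 0) := by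
      intro k
      by_cases hk : k = i
      · subst hk; simp [hij]
      · by_cases hk' : k = j
        · subst hk'; simp [hk]
        · simp [hk, hk']
    have h2 : ∀ (l : ι) (k : ι), w k * ((Pi.single l (1 : F) : ι → F) k *
        (Pi.single l (1 : F) : ι → F) k) = if k = l then w l else 0 := by
      intro l k
      by_cases hk : k = l
      · subst hk; simp
      · simp [hk]
    simp only [h1, h2, Finset.sum_add_distrib, Finset.sum_ite_eq', Finset.mem_univ, if_true]
    simp

/-- The two diagonal forms Σ x_i^2 and Σ_(i<n) x_i^2 + α x_n^2 on F^(n+1), with α a non-square and 2 ≠ 0 in F, are inequivalent quadratic forms (so over a finite field of odd order there are exactly two classes of non-singular symmetric bilinear forms in each dimension). -/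
theorem result {F : Type*} [Field F] (h2 : (2 : F) ≠ 0) (n : ℕ) (α : F) (hα : ¬ IsSquare α) : ¬ (QuadraticMap.weightedSumSquares F (fun _ : Fin (n + 1) => (1 : F))).Equivalent (QuadraticMap.weightedSumSquares F (fun i : Fin (n + 1) => if i = Fin.last n then α else (1 : F))) := by
  classical
  letI : Invertible (2 : F) := invertibleOfNonzero h2
  rintro ⟨e⟩
  set Q1 := QuadraticMap.weightedSumSquares F (fun _ : Fin (n + 1) => (1 : F)) with hQ1
  set w2 : Fin (n + 1) → F := fun i => if i = Fin.last n then α else (1 : F) with hw2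
  set Q2 := QuadraticMap.weightedSumSquares F w2 with hQ2
  have hcomp : Q2.comp (e.toLinearEquiv : (Fin (n + 1) → F) →ₗ[F] (Fin (n + 1) → F)) = Q1 := by
    ext x
    simp only [QuadraticMap.comp_apply]
    exact e.map_app x
  have hd := QuadraticForm.discr'_comp (Q := Q2)
    (e.toLinearEquiv : (Fin (n + 1) → F) →ₗ[F] (Fin (n + 1) → F))
  rw [hcomp] at hd
  have hd1 : QuadraticForm.discr' Q1 = 1 := by
    rw [QuadraticForm.discr', hQ1, toMatrix'_wss, Matrix.det_diagonal]
    simp
  have hd2 : QuadraticForm.discr' Q2 = α := by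
    rw [QuadraticForm.discr', hQ2, toMatrix'_wss, Matrix.det_diagonal, hw2]
    rw [Finset.prod_ite_eq' ] <;> simp
  rw [hd1, hd2] at hd
  set d := (LinearMap.toMatrix' (e.toLinearEquiv : (Fin (n + 1) → F) →ₗ[F] (Fin (n + 1) → F))).det
    with hdd
  have hd0 : d ≠ 0 := by
    intro h0
    rw [h0] at hd
    simp at hd
  apply hα
  refine ⟨d⁻¹, ?_⟩
  calc α = (d⁻¹ * d) * (d⁻¹ * d) * α := by rw [inv_mul_cancel₀ hd0]; ring
    _ = d⁻¹ * d⁻¹ * (d * d * α) := by ring
    _ = d⁻¹ * d⁻¹ := by rw [← hd, mul_one]

end Cfsg.Agent.S0757
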