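import Cfsg.Statements.S0758
-- import your own Cfsg.Agent.* helpers here

set_option autoImplicit false
open Cfsg

namespace Cfsg.Agent.S0758

/-- For a finite field F of odd order q and a non-square α: the form x² + y² is isotropic iff q ≡ 1 mod 4, and the form x² + α y² is isotropic iff q ≡ 3 mod 4. -/
theorem result {F : Type*} [Field F] [Fintype F] (h2 : (2 : F) ≠ 0) (α : F) (hα : ¬ IsSquare α) : ((∃ x y : F, (x ≠ 0 ∨ y ≠ 0) ∧ x ^ 2 + y ^ 2 = 0) ↔ Fintype.card F % 4 = 1) ∧ ((∃ x y : F, (x ≠ 0 ∨ y ≠ 0) ∧ x ^ 2 + α * y ^ 2 = 0) ↔ Fintype.card F % 4 = 3) := by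
  classical
  have hchar : ringChar F ≠ 2 := by
    intro h
    haveI : CharP F 2 := by rw [← h]; exact ringChar.charP F
    exact h2 (CharTwo.two_eq_zero)
  have hodd : Fintype.card F % 2 = 1 := FiniteField.odd_card_of_char_ne_two hchar
  have hneg1 : IsSquare (-1 : F) ↔ Fintype.card F % 4 ≠ 3 := FiniteField.isSquare_neg_one_iff
  have hα0 : α ≠ 0 := by
    rintro rfl
    exact hα ⟨0, by simp⟩
  have hm1 : (-1 : F) ≠ 0 := by simp
  -- IsSquare (-α) ↔ ¬ IsSquare (-1)
  have hnegα : IsSquare (-α) ↔ ¬ IsSquare (-1 : F) := by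
    have hα' : quadraticChar F α = -1 := quadraticChar_neg_one_iff_not_isSquare.mpr hα
    have hmul : quadraticChar F (-α) = quadraticChar F (-1) * quadraticChar F α := by
      rw [← map_mul]; simp
    have hnα0 : -α ≠ 0 := neg_ne_zero.mpr hα0
    rw [← quadraticChar_one_iff_isSquare hnα0, ← quadraticChar_neg_one_iff_not_isSquare, hmul, hα']
    rcases quadraticChar_dichotomy hm1 with h | h <;> rw [h] <;> decide
  constructor
  · have key : (∃ x y : F, (x ≠ 0 ∨ y ≠ 0) ∧ x ^ 2 + y ^ 2 = 0) ↔ IsSquare (-1 : F) := by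
      constructor
      · rintro ⟨x, y, hxy, h⟩
        rcases hxy with hx | hy
        · refine ⟨y / x, ?_⟩
          rw [div_mul_div_comm, eq_div_iff (mul_ne_zero hx hx)]
          linear_combination -h
        · refine ⟨x / y, ?_⟩
          rw [div_mul_div_comm, eq_div_iff (mul_ne_zero hy hy)]
          linear_combination -h
      · rintro ⟨a, ha⟩
        refine ⟨a, 1, Or.inr one_ne_zero, ?_⟩
        linear_combination -ha
    rw [key, hneg1]
    omega
  · have key : (∃ x y : F, (x ≠ 0 ∨ y ≠ 0) ∧ x ^ 2 + α * y ^ 2 = 0) ↔ IsSquare (-α) := by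
      constructor
      · rintro ⟨x, y, hxy, h⟩
        have hy : y ≠ 0 := by
          rintro rfl
          simp at h
          simp [h] at hxy
        refine ⟨x / y, ?_⟩
        rw [div_mul_div_comm, eq_div_iff (mul_ne_zero hy hy)]
        linear_combination -h
      · rintro ⟨a, ha⟩
        refine ⟨a, 1, Or.inr one_ne_zero, ?_⟩
        linear_combination -ha
    rw [key, hnegα, hneg1]
    omega

end Cfsg.Agent.S0758
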