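import Cfsg.Statements.S0760
-- import your own Cfsg.Agent.* helpers here

set_option autoImplicit false
open Cfsg
open Module

namespace Cfsg.Agent.S0760

section Aux

theorem key760 {F V : Type*} [Field F] [AddCommGroup V] [Module F V] [FiniteDimensional F V]
    (Q : QuadraticForm F V) (hQ : (QuadraticMap.polarBilin Q).Nondegenerate)
    (W₁ W₂ : Submodule F V) (h₁ : ∀ w ∈ W₁, Q w = 0) (h₂ : ∀ w ∈ W₂, Q w = 0)
    (hmax₂ : ∀ W : Submodule F V, W₂ ≤ W → (∀ w ∈ W, Q w = 0) → W = W₂) :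
    finrank F W₁ ≤ finrank F W₂ := by
  have hpol : ∀ x y, QuadraticMap.polarBilin Q x y = Q (x + y) - Q x - Q y := fun x y => rfl
  have hiso₁ : ∀ x ∈ W₁, ∀ y ∈ W₁, QuadraticMap.polarBilin Q x y = 0 := by
    intro x hx y hy
    rw [hpol, h₁ x hx, h₁ y hy, h₁ _ (W₁.add_mem hx hy)]; simp
  have h1 : W₁ ⊓ LinearMap.BilinForm.orthogonal (QuadraticMap.polarBilin Q) W₂ ≤ W₂ := by
    intro w hw
    obtain ⟨hw1, hw2⟩ := Submodule.mem_inf.mp hw
    rw [LinearMap.BilinForm.mem_orthogonal_iff] at hw2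
    have hW : W₂ ⊔ Submodule.span F {w} = W₂ := by
      apply hmax₂ _ le_sup_left
      intro v hv
      obtain ⟨w₂, hw₂, y, hy, rfl⟩ := Submodule.mem_sup.mp hv
      obtain ⟨c, rfl⟩ := Submodule.mem_span_singleton.mp hy
      have e1 : Q (w₂ + c • w) = Q w₂ + Q (c • w) + QuadraticMap.polarBilin Q w₂ (c • w) := by
        rw [hpol]; ring
      have e2 : QuadraticMap.polarBilin Q w₂ w = 0 := hw2 w₂ hw₂
      rw [e1, h₂ w₂ hw₂, QuadraticMap.map_smul, h₁ w hw1, map_smul, e2]
      simp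
    rw [← hW]
    exact Submodule.mem_sup_right (Submodule.mem_span_singleton_self w)
  have h2 : W₁ ⊔ LinearMap.BilinForm.orthogonal (QuadraticMap.polarBilin Q) W₂ ≤
      LinearMap.BilinForm.orthogonal (QuadraticMap.polarBilin Q) (W₁ ⊓ W₂) := by
    apply sup_le
    · intro x hx
      rw [LinearMap.BilinForm.mem_orthogonal_iff]
      intro n hn
      exact hiso₁ n (Submodule.mem_inf.mp hn).1 x hx
    · exact LinearMap.BilinForm.orthogonal_le inf_le_right
  have h3 := Submodule.finrank_sup_add_finrank_inf_eq W₁ (LinearMap.BilinForm.orthogonal (QuadraticMap.polarBilin Q) W₂)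
  have h4 := Submodule.finrank_mono h2
  have h5 : finrank F ↥(W₁ ⊓ LinearMap.BilinForm.orthogonal (QuadraticMap.polarBilin Q) W₂) ≤ finrank F ↥(W₁ ⊓ W₂) :=
    Submodule.finrank_mono (le_inf inf_le_left h1)
  rw [LinearMap.BilinForm.finrank_orthogonal hQ] at h4 h3
  have h6 : finrank F ↥(W₁ ⊓ W₂) ≤ finrank F V := Submodule.finrank_le _
  have h7 : finrank F ↥W₂ ≤ finrank F V := Submodule.finrank_le _
  omega

end Aux

/-- Witt index is well defined: if Q is a quadratic form on a finite-dimensional space V over a finite field with non-degenerate polar form, and W₁, W₂ are subspaces on which Q vanishes that are maximal with this property, then W₁ and W₂ have the same dimension, and twice this dimension is at most dim V. -/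
theorem result {F V : Type*} [Field F] [Finite F] [AddCommGroup V] [Module F V] [FiniteDimensional F V] (Q : QuadraticForm F V) (hQ : (QuadraticMap.polarBilin Q).Nondegenerate) (W₁ W₂ : Submodule F V) (h₁ : ∀ w ∈ W₁, Q w = 0) (h₂ : ∀ w ∈ W₂, Q w = 0) (hmax₁ : ∀ W : Submodule F V, W₁ ≤ W → (∀ w ∈ W, Q w = 0) → W = W₁) (hmax₂ : ∀ W : Submodule F V, W₂ ≤ W → (∀ w ∈ W, Q w = 0) → W = W₂) : Module.finrank F W₁ = Module.finrank F W₂ ∧ 2 * Module.finrank F W₁ ≤ Module.finrank F V := by
  refine ⟨le_antisymm (key760 Q hQ W₁ W₂ h₁ h₂ hmax₂) (key760 Q hQ W₂ W₁ h₂ h₁ hmax₁), ?_⟩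
  have hpol : ∀ x y, QuadraticMap.polarBilin Q x y = Q (x + y) - Q x - Q y := fun x y => rfl
  have hle : W₁ ≤ LinearMap.BilinForm.orthogonal (QuadraticMap.polarBilin Q) W₁ := by
    intro x hx
    rw [LinearMap.BilinForm.mem_orthogonal_iff]
    intro n hn
    show QuadraticMap.polarBilin Q n x = 0
    rw [hpol, h₁ x hx, h₁ n hn, h₁ _ (W₁.add_mem hn hx)]; simp
  have h4 := Submodule.finrank_mono hle
  rw [LinearMap.BilinForm.finrank_orthogonal hQ] at h4
  have h7 : finrank F ↥W₁ ≤ finrank F V := Submodule.finrank_le _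
  omega

end Cfsg.Agent.S0760
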