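import Cfsg.Statements.S0762
-- import your own Cfsg.Agent.* helpers here

set_option autoImplicit false
open Cfsg

namespace Cfsg.Agent.S0762

/-- In characteristic two over a finite field, a quadratic form on a space of dimension at least 3 vanishes on some non-zero vector. -/
theorem result {F V : Type*} [Field F] [Finite F] [CharP F 2] [AddCommGroup V] [Module F V] [FiniteDimensional F V] (Q : QuadraticForm F V) (h3 : 3 ≤ Module.finrank F V) : ∃ v : V, v ≠ 0 ∧ Q v = 0 := by
  classical
  by_contra hcon
  have hall : ∀ v : V, v ≠ 0 → Q v ≠ 0 := fun v hv hq => hcon ⟨v, hv, hq⟩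
  have hpos : 0 < Module.finrank F V := by omega
  have : Nontrivial V := Module.finrank_pos_iff.mp hpos
  obtain ⟨u, hu⟩ := exists_ne (0 : V)
  have hQu : Q u ≠ 0 := hall u hu
  -- the functional polar(u, ·)
  let φ : V →ₗ[F] F := QuadraticMap.polarBilin Q u
  have hker : Module.finrank F V ≤ Module.finrank F (LinearMap.ker φ) + 1 := by
    have h1 := LinearMap.finrank_range_add_finrank_ker φ
    have h2 : Module.finrank F (LinearMap.range φ) ≤ 1 := by
      have := Submodule.finrank_le (LinearMap.range φ)
      simpa using this
    omega
  have hspan : Module.finrank F (Submodule.span F {u}) = 1 := finrank_span_singleton hu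
  have hnotle : ¬ LinearMap.ker φ ≤ Submodule.span F {u} := by
    intro hle
    have := Submodule.finrank_mono hle
    omega
  obtain ⟨w, hwker, hwspan⟩ := SetLike.not_le_iff_exists.mp hnotle
  have hpol : QuadraticMap.polar Q u w = 0 := by
    have : φ w = 0 := hwker
    simpa [φ] using this
  -- square root
  have : Fintype F := Fintype.ofFinite F
  obtain ⟨a, ha⟩ : ∃ a : F, a ^ 2 = Q w / Q u := by
    have := surjective_frobenius F 2 (Q w / Q u)
    simpa [frobenius_def] using this
  have h2 : (2 : F) = 0 := CharTwo.two_eq_zero
  have hv : a • u + w ≠ 0 := by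
    intro h0
    apply hwspan
    have : w = (-a) • u := by
      rw [neg_smul]
      exact eq_neg_of_add_eq_zero_right h0
    rw [this]
    exact Submodule.smul_mem _ _ (Submodule.mem_span_singleton_self u)
  apply hall _ hv
  rw [QuadraticMap.map_add Q, QuadraticMap.map_smul, QuadraticMap.polar_smul_left, hpol]
  simp only [smul_eq_mul, mul_zero, add_zero]
  rw [← pow_two, ha, div_mul_cancel₀ _ hQu]
  linear_combination (Q w) * h2

end Cfsg.Agent.S0762
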