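import Cfsg.Statements.S0763
-- import your own Cfsg.Agent.* helpers here

set_option autoImplicit false
open Cfsg

namespace Cfsg.Agent.S0763

/-- Binary quadratic forms in characteristic two over a finite field: if Q is a quadratic form on a 2-dimensional space whose polar form is non-degenerate, then either there are vectors v, w with Q v = Q w = 0 and polar value 1 (Q is xy in these coordinates), or there are v, w and μ with Q v = 1, Q w = μ, polar value 1 and x² + x + μ without roots in F (Q is x² + xy + μy²). -/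
theorem result {F V : Type*} [Field F] [Finite F] [CharP F 2] [AddCommGroup V] [Module F V] (Q : QuadraticForm F V) (h2 : Module.finrank F V = 2) (hQ : (QuadraticMap.polarBilin Q).Nondegenerate) : (∃ v w : V, LinearIndependent F ![v, w] ∧ Q v = 0 ∧ Q w = 0 ∧ QuadraticMap.polar Q v w = 1) ∨ (∃ (v w : V) (μ : F), LinearIndependent F ![v, w] ∧ (∀ x : F, x ^ 2 + x + μ ≠ 0) ∧ Q v = 1 ∧ Q w = μ ∧ QuadraticMap.polar Q v w = 1) := by
  classical
  have hps : ∀ x : V, QuadraticMap.polar Q x x = 0 := by
    intro x
    rw [QuadraticMap.polar_self, two_nsmul, CharTwo.add_self_eq_zero]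
  have hnt : Nontrivial V := Module.nontrivial_of_finrank_pos (R := F) (by omega)
  have hLI : ∀ v w : V, QuadraticMap.polar Q v w = 1 → LinearIndependent F ![v, w] := by
    intro v w hvw
    rw [LinearIndependent.pair_iff]
    intro s t hst
    have h1 : QuadraticMap.polar Q v (s • v + t • w) = 0 := by
      rw [hst]; simp
    have h2 : QuadraticMap.polar Q (s • v + t • w) w = 0 := by
      rw [hst]; simp
    rw [QuadraticMap.polar_add_right, QuadraticMap.polar_smul_right, QuadraticMap.polar_smul_right,
      hps, hvw] at h1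
    rw [QuadraticMap.polar_add_left, QuadraticMap.polar_smul_left, QuadraticMap.polar_smul_left,
      hps, hvw] at h2
    simp only [smul_eq_mul, mul_zero, mul_one, zero_add, add_zero] at h1 h2
    exact ⟨h2, h1⟩
  have hex : ∀ v : V, v ≠ 0 → ∃ w, QuadraticMap.polar Q v w = 1 := by
    intro v hv
    by_contra hcon
    push Not at hcon
    have h0 : ∀ w, QuadraticMap.polar Q v w = 0 := by
      intro w
      by_contra hw
      apply hcon ((QuadraticMap.polar Q v w)⁻¹ • w)
      rw [QuadraticMap.polar_smul_right, smul_eq_mul, inv_mul_cancel₀ hw]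
    exact hv (hQ.1 v (fun w => by rw [QuadraticMap.polarBilin_apply_apply]; exact h0 w))
  by_cases hsing : ∃ v : V, v ≠ 0 ∧ Q v = 0
  · left
    obtain ⟨v, hv, hQv⟩ := hsing
    obtain ⟨w', hw'⟩ := hex v hv
    have hpol : QuadraticMap.polar Q v (w' + Q w' • v) = 1 := by
      rw [QuadraticMap.polar_add_right, QuadraticMap.polar_smul_right, hps, hw', smul_zero,
        add_zero]
    refine ⟨v, w' + Q w' • v, hLI _ _ hpol, hQv, ?_, hpol⟩
    rw [QuadraticMap.map_add (⇑Q), QuadraticMap.map_smul, QuadraticMap.polar_smul_right, hQv,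
      QuadraticMap.polar_comm, hw', smul_zero, add_zero, smul_eq_mul, mul_one,
      CharTwo.add_self_eq_zero]
  · right
    push Not at hsing
    obtain ⟨v₀, hv₀⟩ := exists_ne (0 : V)
    have ha := hsing v₀ hv₀
    obtain ⟨s, hs⟩ := FiniteField.isSquare_of_char_two (ringChar.eq F 2) (Q v₀)
    have hs0 : s ≠ 0 := by
      rintro rfl
      rw [mul_zero] at hs
      exact ha hs
    have hv : s⁻¹ • v₀ ≠ 0 := smul_ne_zero (inv_ne_zero hs0) hv₀
    have hQv : Q (s⁻¹ • v₀) = 1 := by
      rw [QuadraticMap.map_smul, hs, smul_eq_mul]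
      field_simp
    obtain ⟨w, hw⟩ := hex _ hv
    refine ⟨s⁻¹ • v₀, w, Q w, hLI _ w hw, ?_, hQv, rfl, hw⟩
    intro x hx
    have hval : Q (x • (s⁻¹ • v₀) + w) = x ^ 2 + x + Q w := by
      rw [QuadraticMap.map_add (⇑Q), QuadraticMap.map_smul, QuadraticMap.polar_smul_left, hQv, hw]
      simp only [smul_eq_mul, mul_one]
      ring
    have hne : x • (s⁻¹ • v₀) + w ≠ 0 := by
      intro h0
      have hli := hLI _ w hw
      rw [LinearIndependent.pair_iff] at hli
      have := hli x 1 (by rw [one_smul]; exact h0)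
      exact one_ne_zero this.2
    exact hsing _ hne (by rw [hval, hx])

end Cfsg.Agent.S0763
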