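import Cfsg.Statements.S0768
import Mathlib
import Cfsg.Agent.Lib.Helper5.SympPrim

set_option autoImplicit false
open scoped LinearAlgebra.Projectivization
open Cfsg
open Cfsg.Agent.Lib.Helper5 Matrix

namespace Cfsg.Agent.S0768

variable {F : Type*} [Field F] {m : ℕ}

/-- symplectic matrices as elements of `spGL` -/
def toSpGL (A : Matrix.symplecticGroup (Fin m) F) : ↥(Cfsg.spGL m F) :=
  ⟨⟨A.1, (A⁻¹ : Matrix.symplecticGroup (Fin m) F).1,
    congrArg Subtype.val (mul_inv_cancel A), congrArg Subtype.val (inv_mul_cancel A)⟩,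
    fun u v => sympForm_mulVec_of_mem A.2 u v⟩

lemma toSpGL_smul (A : Matrix.symplecticGroup (Fin m) F) (v : Fin m ⊕ Fin m → F) :
    toSpGL A • v = (A : Matrix (Fin m ⊕ Fin m) (Fin m ⊕ Fin m) F) *ᵥ v := rfl

lemma mulVec_ne_zero (A : Matrix.symplecticGroup (Fin m) F) {v : Fin m ⊕ Fin m → F}
    (hv : v ≠ 0) : (A : Matrix (Fin m ⊕ Fin m) (Fin m ⊕ Fin m) F) *ᵥ v ≠ 0 :=
  (smul_ne_zero_iff_ne (toSpGL A)).mpr hv

lemma toSpGL_smul_mk (A : Matrix.symplecticGroup (Fin m) F) (v : Fin m ⊕ Fin m → F)
    (hv : v ≠ 0) :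
    toSpGL A • Projectivization.mk F v hv
      = Projectivization.mk F ((A : Matrix (Fin m ⊕ Fin m) (Fin m ⊕ Fin m) F) *ᵥ v)
        (mulVec_ne_zero A hv) := rfl

open scoped Pointwise in
/-- Primitivity: for m ≥ 1 and F finite, the symplectic group of the form sympForm (as a subgroup of the general linear group) acts primitively on the projective space of F^(2m). -/
theorem result {F : Type*} [Field F] [Finite F] (m : ℕ) (hm : 1 ≤ m) : MulAction.IsPreprimitive ↥(Cfsg.spGL m F) (ℙ F (Fin m ⊕ Fin m → F)) := by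
  have htrans : MulAction.IsPretransitive ↥(Cfsg.spGL m F) (ℙ F (Fin m ⊕ Fin m → F)) := by
    constructor
    intro p q
    induction p using Projectivization.ind with
    | h v hv =>
    induction q using Projectivization.ind with
    | h w hw =>
    obtain ⟨A, -, hA⟩ := transv_trans1 v w hv hw
    refine ⟨toSpGL A, ?_⟩
    rw [toSpGL_smul_mk]
    congr 1
  refine { toIsPretransitive := htrans, isTrivialBlock_of_isBlock := ?_ }
  intro B hB
  by_cases hsub : B.Subsingleton
  · exact Or.inl hsub
  · right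
    rw [Set.not_subsingleton_iff] at hsub
    obtain ⟨p, hp, q, hq, hpq⟩ := hsub
    induction p using Projectivization.ind with
    | h v hv =>
    induction q using Projectivization.ind with
    | h w hw =>
    let P : (Fin m ⊕ Fin m → F) → Prop := fun x => ∃ hx : x ≠ 0, Projectivization.mk F x hx ∈ B
    have hscale : ∀ (v : Fin m ⊕ Fin m → F) (c : F), c ≠ 0 → P v → P (c • v) := by
      rintro v c hc ⟨hv, hvB⟩
      refine ⟨smul_ne_zero hc hv, ?_⟩
      have : Projectivization.mk F (c • v) (smul_ne_zero hc hv) = Projectivization.mk F v hv := by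
        rw [Projectivization.mk_eq_mk_iff']
        exact ⟨c, rfl⟩
      rw [this]
      exact hvB
    have hfix : ∀ (A : Matrix.symplecticGroup (Fin m) F) (v w : Fin m ⊕ Fin m → F),
        (A : Matrix (Fin m ⊕ Fin m) (Fin m ⊕ Fin m) F) *ᵥ v = v → P v → P w →
          P ((A : Matrix (Fin m ⊕ Fin m) (Fin m ⊕ Fin m) F) *ᵥ w) := by
      rintro A v w hAv ⟨hv, hvB⟩ ⟨hw, hwB⟩
      have h1 : toSpGL A • Projectivization.mk F v hv ∈ B := by
        rw [toSpGL_smul_mk]
        have : Projectivization.mk F ((A : Matrix (Fin m ⊕ Fin m) (Fin m ⊕ Fin m) F) *ᵥ v)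
            (mulVec_ne_zero A hv) = Projectivization.mk F v hv := by
          congr 1
        rw [this]
        exact hvB
      have h2 : toSpGL A • B = B := hB.smul_eq_of_mem hvB h1
      have h3 : toSpGL A • Projectivization.mk F w hw ∈ toSpGL A • B := Set.smul_mem_smul_set hwB
      rw [h2, toSpGL_smul_mk] at h3
      exact ⟨mulVec_ne_zero A hw, h3⟩
    have hind : ∀ c : F, w ≠ c • v := by
      intro c hc
      apply hpq.symm
      rw [Projectivization.mk_eq_mk_iff']
      exact ⟨c, hc.symm⟩
    have hall := symp_block_all P hscale hfix v w ⟨hv, hp⟩ ⟨hw, hq⟩ hv hw hind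
    rw [Set.eq_univ_iff_forall]
    intro r
    induction r using Projectivization.ind with
    | h x hx =>
    obtain ⟨_, hxB⟩ := hall x hx
    exact hxB

end Cfsg.Agent.S0768
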