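import Cfsg.Statements.S0770
-- import your own Cfsg.Agent.* helpers here

set_option autoImplicit false
open Cfsg

namespace Cfsg.Agent.S0770

theorem coe_mul_inv_eq_one {F : Type*} [Field F] {n : ℕ} (h : Matrix.GeneralLinearGroup (Fin n) F) :
    (h : Matrix (Fin n) (Fin n) F) * ((h⁻¹ : Matrix.GeneralLinearGroup (Fin n) F) :
      Matrix (Fin n) (Fin n) F) = 1 := by
  rw [← Matrix.GeneralLinearGroup.coe_mul, mul_inv_cancel]; rfl

theorem coe_inv_mul_eq_one {F : Type*} [Field F] {n : ℕ} (h : Matrix.GeneralLinearGroup (Fin n) F) :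
    ((h⁻¹ : Matrix.GeneralLinearGroup (Fin n) F) : Matrix (Fin n) (Fin n) F) *
      (h : Matrix (Fin n) (Fin n) F) = 1 := by
  rw [← Matrix.GeneralLinearGroup.coe_mul, inv_mul_cancel]; rfl

theorem mem_torus_iff {F : Type*} [Field F] {n : ℕ} (h : Matrix.GeneralLinearGroup (Fin n) F) :
    h ∈ (Units.map (Matrix.diagonalRingHom (Fin n) F).toMonoidHom).range ↔
      ∀ i j, i ≠ j → (h : Matrix (Fin n) (Fin n) F) i j = 0 := by
  constructor
  · rintro ⟨u, rfl⟩ i j hij
    show Matrix.diagonal (u : Fin n → F) i j = 0
    exact Matrix.diagonal_apply_ne _ hij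
  · intro hh
    have h1 := coe_mul_inv_eq_one h
    have hd : ∀ i, (h : Matrix (Fin n) (Fin n) F) i i *
        ((h⁻¹ : Matrix.GeneralLinearGroup (Fin n) F) : Matrix (Fin n) (Fin n) F) i i = 1 := by
      intro i
      have := congrFun (congrFun h1 i) i
      rw [Matrix.mul_apply, Matrix.one_apply_eq] at this
      rw [Finset.sum_eq_single i] at this
      · exact this
      · intro k _ hk
        rw [hh i k (Ne.symm hk), zero_mul]
      · simp
    refine ⟨⟨fun i => (h : Matrix (Fin n) (Fin n) F) i i,
      fun i => ((h⁻¹ : Matrix.GeneralLinearGroup (Fin n) F) : Matrix (Fin n) (Fin n) F) i i,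
      ?_, ?_⟩, ?_⟩
    · ext i; exact hd i
    · ext i; rw [Pi.mul_apply, mul_comm]; exact hd i
    · apply Units.ext
      ext i j
      show Matrix.diagonal (fun i => (h : Matrix (Fin n) (Fin n) F) i i) i j = _
      by_cases hij : i = j
      · subst hij; rw [Matrix.diagonal_apply_eq]
      · rw [Matrix.diagonal_apply_ne _ hij, hh i j hij]

/-- a row of an invertible matrix has a nonzero entry -/
theorem exists_ne_zero_row {F : Type*} [Field F] {n : ℕ} (g : Matrix.GeneralLinearGroup (Fin n) F)
    (i : Fin n) : ∃ j, (g : Matrix (Fin n) (Fin n) F) i j ≠ 0 := by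
  by_contra hcon
  push Not at hcon
  have := congrFun (congrFun (coe_mul_inv_eq_one g) i) i
  rw [Matrix.mul_apply, Matrix.one_apply_eq] at this
  rw [Finset.sum_eq_zero] at this
  · exact zero_ne_one this
  · intro k _; rw [hcon k, zero_mul]

/-- a column of an invertible matrix has a nonzero entry -/
theorem exists_ne_zero_col {F : Type*} [Field F] {n : ℕ} (g : Matrix.GeneralLinearGroup (Fin n) F)
    (j : Fin n) : ∃ i, (g : Matrix (Fin n) (Fin n) F) i j ≠ 0 := by
  by_contra hcon
  push Not at hcon
  have := congrFun (congrFun (coe_inv_mul_eq_one g) j) j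
  rw [Matrix.mul_apply, Matrix.one_apply_eq] at this
  rw [Finset.sum_eq_zero] at this
  · exact zero_ne_one this
  · intro k _; rw [hcon k, mul_zero]

/-- For a field with at least 3 elements, an invertible matrix normalises the subgroup of invertible diagonal matrices of GL_n if and only if it is monomial (exactly one non-zero entry in each row). -/
theorem result {F : Type*} [Field F] (hF : ∃ a : F, a ≠ 0 ∧ a ≠ 1) (n : ℕ) (g : Matrix.GeneralLinearGroup (Fin n) F) : g ∈ Subgroup.normalizer ((Units.map (Matrix.diagonalRingHom (Fin n) F).toMonoidHom).range : Subgroup (Matrix.GeneralLinearGroup (Fin n) F)) ↔ ∀ i : Fin n, ∃! j : Fin n, (g : Matrix (Fin n) (Fin n) F) i j ≠ 0 := by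
  classical
  rw [Subgroup.mem_normalizer_iff]
  constructor
  · intro hN i
    obtain ⟨a, ha0, ha1⟩ := hF
    obtain ⟨j, hj⟩ := exists_ne_zero_row g i
    refine ⟨j, hj, ?_⟩
    intro k hk
    by_contra hkj
    -- the diagonal element with `a` at position `j`
    let u : (Fin n → F)ˣ := ⟨Function.update 1 j a, Function.update 1 j a⁻¹, by
      ext l
      by_cases hl : l = j
      · subst hl; simp [mul_inv_cancel₀ ha0]
      · simp [Function.update_of_ne hl], by
      ext l
      by_cases hl : l = j
      · subst hl; simp [inv_mul_cancel₀ ha0]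
      · simp [Function.update_of_ne hl]⟩
    set t : Matrix.GeneralLinearGroup (Fin n) F :=
      Units.map (Matrix.diagonalRingHom (Fin n) F).toMonoidHom u with ht
    have htT : t ∈ (Units.map (Matrix.diagonalRingHom (Fin n) F).toMonoidHom).range := ⟨u, rfl⟩
    have htcoe : (t : Matrix (Fin n) (Fin n) F) = Matrix.diagonal (Function.update 1 j a) := rfl
    have hconj := (hN t).1 htT
    rw [mem_torus_iff] at hconj
    -- g * t = E * g
    have hE : (g : Matrix (Fin n) (Fin n) F) * (t : Matrix (Fin n) (Fin n) F) =
        ((g * t * g⁻¹ : Matrix.GeneralLinearGroup (Fin n) F) : Matrix (Fin n) (Fin n) F) *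
          (g : Matrix (Fin n) (Fin n) F) := by
      rw [← Matrix.GeneralLinearGroup.coe_mul, ← Matrix.GeneralLinearGroup.coe_mul]
      congr 1
      group
    have hentry : ∀ l, (g : Matrix (Fin n) (Fin n) F) i l * (Function.update (1 : Fin n → F) j a) l =
        ((g * t * g⁻¹ : Matrix.GeneralLinearGroup (Fin n) F) : Matrix (Fin n) (Fin n) F) i i *
          (g : Matrix (Fin n) (Fin n) F) i l := by
      intro l
      have := congrFun (congrFun hE i) l
      rw [htcoe, Matrix.mul_diagonal, Matrix.mul_apply, Finset.sum_eq_single i] at this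
      · exact this
      · intro m _ hm
        rw [hconj i m (Ne.symm hm), zero_mul]
      · simp
    have h1 := hentry j
    have h2 := hentry k
    rw [Function.update_self] at h1
    rw [Function.update_of_ne hkj, Pi.one_apply, mul_one] at h2
    -- e_i = a and e_i = 1
    have he1 : ((g * t * g⁻¹ : Matrix.GeneralLinearGroup (Fin n) F) :
        Matrix (Fin n) (Fin n) F) i i = a := by
      have : (g : Matrix (Fin n) (Fin n) F) i j * a =
          (g : Matrix (Fin n) (Fin n) F) i j *
            ((g * t * g⁻¹ : Matrix.GeneralLinearGroup (Fin n) F) :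
              Matrix (Fin n) (Fin n) F) i i := by rw [h1, mul_comm]
      exact (mul_left_cancel₀ hj this).symm
    have he2 : ((g * t * g⁻¹ : Matrix.GeneralLinearGroup (Fin n) F) :
        Matrix (Fin n) (Fin n) F) i i = 1 := by
      have : (g : Matrix (Fin n) (Fin n) F) i k * 1 =
          (g : Matrix (Fin n) (Fin n) F) i k *
            ((g * t * g⁻¹ : Matrix.GeneralLinearGroup (Fin n) F) :
              Matrix (Fin n) (Fin n) F) i i := by rw [mul_one, mul_comm]; exact h2
      exact (mul_left_cancel₀ hk this).symm
    exact ha1 (he1.symm.trans he2)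
  · intro hmono
    choose π hπ1 hπ2 using hmono
    have hπsurj : Function.Surjective π := by
      intro j
      obtain ⟨i, hi⟩ := exists_ne_zero_col g j
      exact ⟨i, (hπ2 i j hi).symm⟩
    have hπinj : Function.Injective π := Finite.injective_iff_surjective.mpr hπsurj
    intro h
    rw [mem_torus_iff, mem_torus_iff]
    constructor
    · intro hh
      -- g * h = D' * g
      have hgh : (g : Matrix (Fin n) (Fin n) F) * (h : Matrix (Fin n) (Fin n) F) =
          Matrix.diagonal (fun i => (h : Matrix (Fin n) (Fin n) F) (π i) (π i)) *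
            (g : Matrix (Fin n) (Fin n) F) := by
        ext i k
        rw [Matrix.diagonal_mul, Matrix.mul_apply, Finset.sum_eq_single k]
        · by_cases hgik : (g : Matrix (Fin n) (Fin n) F) i k = 0
          · rw [hgik, zero_mul, mul_zero]
          · rw [hπ2 i k hgik, mul_comm]
        · intro l _ hl
          rw [hh l k hl, mul_zero]
        · simp
      have hconj : ((g * h * g⁻¹ : Matrix.GeneralLinearGroup (Fin n) F) :
          Matrix (Fin n) (Fin n) F) =
          Matrix.diagonal (fun i => (h : Matrix (Fin n) (Fin n) F) (π i) (π i)) := by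
        rw [Matrix.GeneralLinearGroup.coe_mul, Matrix.GeneralLinearGroup.coe_mul, hgh,
          Matrix.mul_assoc, coe_mul_inv_eq_one, Matrix.mul_one]
      intro i j hij
      rw [hconj, Matrix.diagonal_apply_ne _ hij]
    · intro hE
      set E : Matrix (Fin n) (Fin n) F :=
        ((g * h * g⁻¹ : Matrix.GeneralLinearGroup (Fin n) F) : Matrix (Fin n) (Fin n) F) with hEdef
      let ρ : Fin n ≃ Fin n := Equiv.ofBijective π ⟨hπinj, hπsurj⟩
      have hEg : E * (g : Matrix (Fin n) (Fin n) F) =
          (g : Matrix (Fin n) (Fin n) F) * Matrix.diagonal (fun k => E (ρ.symm k) (ρ.symm k)) := by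
        ext i k
        rw [Matrix.mul_diagonal, Matrix.mul_apply, Finset.sum_eq_single i]
        · by_cases hgik : (g : Matrix (Fin n) (Fin n) F) i k = 0
          · rw [hgik, zero_mul, mul_zero]
          · have hk : k = ρ i := hπ2 i k hgik
            rw [hk, Equiv.symm_apply_apply, mul_comm]
        · intro l _ hl
          rw [hE i l (Ne.symm hl), zero_mul]
        · simp
      have hh : (h : Matrix (Fin n) (Fin n) F) =
          Matrix.diagonal (fun k => E (ρ.symm k) (ρ.symm k)) := by
        have h1 : (h : Matrix (Fin n) (Fin n) F) =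
            ((g⁻¹ : Matrix.GeneralLinearGroup (Fin n) F) : Matrix (Fin n) (Fin n) F) *
              (E * (g : Matrix (Fin n) (Fin n) F)) := by
          rw [hEdef, ← Matrix.GeneralLinearGroup.coe_mul, ← Matrix.GeneralLinearGroup.coe_mul]
          congr 1
          group
        rw [h1, hEg, ← Matrix.mul_assoc, coe_inv_mul_eq_one, Matrix.one_mul]
      intro i j hij
      rw [hh, Matrix.diagonal_apply_ne _ hij]

end Cfsg.Agent.S0770
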