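import Cfsg.Statements.S0771
import Mathlib
import Cfsg.Agent.Lib.Helper5.BlockGL

set_option autoImplicit false
open Cfsg
open Cfsg.Agent.Lib.Helper5 Matrix

namespace Cfsg.Agent.S0771

/-- Maximal parabolic of GL_n(q): the stabiliser of the coordinate subspace spanned by the first k basis vectors has order q^(k(n-k)) · |GL_k(q)| · |GL_(n-k)(q)| (unipotent radical of order q^(k(n-k)) and Levi complement GL_k × GL_(n-k)). -/
theorem result {F : Type*} [Field F] [Fintype F] {q : ℕ} (hF : Fintype.card F = q) (n k : ℕ) (hk : k ≤ n) : Nat.card ↥(Cfsg.stabilizing (Cfsg.glToMat (Fin n) F) {v : Fin n → F | ∀ i : Fin n, k ≤ (i : ℕ) → v i = 0}) = q ^ (k * (n - k)) * (∏ i : Fin k, (q ^ k - q ^ (i : ℕ))) * ∏ i : Fin (n - k), (q ^ (n - k) - q ^ (i : ℕ)) := by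
  classical
  subst hF
  let e := splitEquiv n k hk
  have hiff : ∀ g : Matrix.GeneralLinearGroup (Fin n) F,
      g ∈ Cfsg.stabilizing (Cfsg.glToMat (Fin n) F)
        {v : Fin n → F | ∀ i : Fin n, k ≤ (i : ℕ) → v i = 0} ↔
      ((reindexGL e g : Matrix.GeneralLinearGroup (Fin k ⊕ Fin (n - k)) F) :
        Matrix (Fin k ⊕ Fin (n - k)) (Fin k ⊕ Fin (n - k)) F).toBlocks₂₁ = 0 := by
    intro g
    rw [mem_stabilizing_coord_iff (fun i : Fin n => k ≤ (i : ℕ)) g]
    constructor
    · intro h
      ext a b
      change (g : Matrix (Fin n) (Fin n) F) (e.symm (Sum.inr a)) (e.symm (Sum.inl b)) = 0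
      apply h
      · rw [splitEquiv_symm_inr_val]; omega
      · rw [splitEquiv_symm_inl_val]; have := b.2; omega
    · intro h i j hi hj
      obtain ⟨a, ha⟩ : ∃ a, e.symm (Sum.inr a) = i := by
        rcases hei : e i with b | a
        · exfalso
          have : i = e.symm (Sum.inl b) := by rw [← hei, Equiv.symm_apply_apply]
          have h1 := splitEquiv_symm_inl_val n k hk b
          rw [← this] at h1
          have := b.2
          omega
        · exact ⟨a, by rw [← hei, Equiv.symm_apply_apply]⟩
      obtain ⟨b, hb⟩ : ∃ b, e.symm (Sum.inl b) = j := by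
        rcases hej : e j with b | a
        · exact ⟨b, by rw [← hej, Equiv.symm_apply_apply]⟩
        · exfalso
          have : j = e.symm (Sum.inr a) := by rw [← hej, Equiv.symm_apply_apply]
          have h1 := splitEquiv_symm_inr_val n k hk a
          rw [← this] at h1
          omega
      have := congrFun (congrFun h a) b
      change (g : Matrix (Fin n) (Fin n) F) (e.symm (Sum.inr a)) (e.symm (Sum.inl b)) = 0 at this
      rwa [ha, hb] at this
  have hcard := Nat.card_congr
    ((Equiv.subtypeEquiv (reindexGL (F := F) e).toEquiv hiff).trans blockTriEquiv)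
  change Nat.card {g : Matrix.GeneralLinearGroup (Fin n) F //
    g ∈ Cfsg.stabilizing (Cfsg.glToMat (Fin n) F)
      {v : Fin n → F | ∀ i : Fin n, k ≤ (i : ℕ) → v i = 0}} = _
  rw [hcard, Nat.card_prod, Nat.card_prod, Matrix.card_GL_field, Matrix.card_GL_field,
    Nat.card_eq_fintype_card]
  have hM : Fintype.card (Matrix (Fin k) (Fin (n - k)) F) = Fintype.card F ^ (k * (n - k)) := by
    change Fintype.card (Fin k → Fin (n - k) → F) = _
    simp only [Fintype.card_pi, Finset.prod_const, Finset.card_univ, Fintype.card_fin]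
    rw [← pow_mul, mul_comm]
  rw [hM]
  ring

end Cfsg.Agent.S0771
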