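import Cfsg.Statements.S0772
import Mathlib

set_option autoImplicit false
open Cfsg

namespace Cfsg.Agent.S0772

section Aux
set_option linter.unusedSectionVars false
set_option linter.unusedVariables false
set_option linter.unusedSimpArgs false

namespace S0772aux
open Cfsg Matrix

section Basic
variable {F : Type*} [Field F] {n : ℕ}

lemma exists_rank_one (s : (Fin n → F) →ₗ[F] F) (a : Fin n → F) (hs : 1 + s a ≠ 0) :
    ∃ g : GL (Fin n) F, (∀ v, (g : Matrix (Fin n) (Fin n) F) *ᵥ v = v + s v • a) := by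
  set r : Fin n → F := fun j => s (Pi.single j 1) with hr
  have hdot : ∀ x : Fin n → F, r ⬝ᵥ x = s x := by
    intro x
    have hx : x = ∑ i, x i • (Pi.single i (1 : F) : Fin n → F) := by
      ext j
      simp [Finset.sum_apply, Pi.single_apply]
    conv_rhs => rw [hx, map_sum]
    simp only [dotProduct, hr, map_smul, smul_eq_mul]
    apply Finset.sum_congr rfl
    intro i _
    ring
  set M : Matrix (Fin n) (Fin n) F := 1 + Matrix.vecMulVec a r with hM
  have hdet : M.det = 1 + s a := by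
    have h1 : M = 1 + Matrix.replicateCol Unit a * Matrix.replicateRow Unit r := by
      rw [hM]; congr 1
      ext i j; simp [Matrix.vecMulVec_apply, Matrix.mul_apply]
    rw [h1, Matrix.det_one_add_replicateCol_mul_replicateRow, hdot]
  have hMx : ∀ x : Fin n → F, M *ᵥ x = x + s x • a := by
    intro x
    rw [hM, Matrix.add_mulVec, Matrix.one_mulVec, Matrix.vecMulVec_mulVec, hdot]
    congr 1
    ext i
    simp [mul_comm]
  exact ⟨Matrix.GeneralLinearGroup.mkOfDetNeZero M (by rw [hdet]; exact hs), hMx⟩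

lemma inv_mulVec_eq {g : GL (Fin n) F} {v w : Fin n → F}
    (h : (g : Matrix (Fin n) (Fin n) F) *ᵥ w = v) :
    ((g⁻¹ : GL (Fin n) F) : Matrix (Fin n) (Fin n) F) *ᵥ v = w := by
  rw [← h, Matrix.mulVec_mulVec, ← Units.val_mul, inv_mul_cancel, Units.val_one, Matrix.one_mulVec]

lemma mul_inv_mulVec (g : GL (Fin n) F) (v : Fin n → F) :
    (g : Matrix (Fin n) (Fin n) F) *ᵥ (((g⁻¹ : GL (Fin n) F) : Matrix (Fin n) (Fin n) F) *ᵥ v) = v := by
  rw [Matrix.mulVec_mulVec, ← Units.val_mul, mul_inv_cancel, Units.val_one, Matrix.one_mulVec]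

lemma mat_eq_of_mulVec {A B : Matrix (Fin n) (Fin n) F} (h : ∀ v, A *ᵥ v = B *ᵥ v) : A = B := by
  apply Matrix.toLin'.injective
  apply LinearMap.ext
  intro v
  rw [Matrix.toLin'_apply, Matrix.toLin'_apply, h]

lemma transvection_mulVec (i j : Fin n) (c : F) (v : Fin n → F) :
    Matrix.transvection i j c *ᵥ v = v + (c * v j) • (Pi.single i (1 : F) : Fin n → F) := by
  unfold Matrix.transvection
  rw [Matrix.add_mulVec, Matrix.one_mulVec]
  congr 1
  ext l
  simp only [Matrix.mulVec, dotProduct, Matrix.single_apply, Pi.smul_apply, Pi.single_apply,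
    smul_eq_mul]
  by_cases hl : i = l
  · subst hl
    simp
  · simp [hl, Ne.symm hl]

end Basic

section Parab
variable {F : Type*} [Field F] {n : ℕ} (k : ℕ)

/-- the standard subspace -/
def W0 : Set (Fin n → F) := {v | ∀ i : Fin n, k ≤ (i : ℕ) → v i = 0}

variable {k}

lemma W0_add {u v : Fin n → F} (hu : u ∈ W0 (F := F) k) (hv : v ∈ W0 (F := F) k) :
    u + v ∈ W0 (F := F) k :=
  fun i hi => by rw [Pi.add_apply, hu i hi, hv i hi, add_zero]

lemma W0_smul (c : F) {u : Fin n → F} (hu : u ∈ W0 (F := F) k) : c • u ∈ W0 (F := F) k :=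
  fun i hi => by rw [Pi.smul_apply, hu i hi, smul_zero]

lemma W0_sub {u v : Fin n → F} (hu : u ∈ W0 (F := F) k) (hv : v ∈ W0 (F := F) k) :
    u - v ∈ W0 (F := F) k :=
  fun i hi => by rw [Pi.sub_apply, hu i hi, hv i hi, sub_zero]

variable (k) in
/-- the parabolic subgroup -/
abbrev Hk : Subgroup (GL (Fin n) F) := stabilizing (glToMat (Fin n) F) (W0 (F := F) (n := n) k)

lemma mem_Hk {g : GL (Fin n) F} : g ∈ Hk (F := F) (n := n) k ↔
    ∀ v, v ∈ W0 (F := F) k ↔ (g : Matrix (Fin n) (Fin n) F) *ᵥ v ∈ W0 (F := F) k := Iff.rfl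

lemma mem_Hk_of_maps {g : GL (Fin n) F}
    (h1 : ∀ v ∈ W0 (F := F) k, (g : Matrix (Fin n) (Fin n) F) *ᵥ v ∈ W0 (F := F) k)
    (h2 : ∀ v ∈ W0 (F := F) k,
      ((g⁻¹ : GL (Fin n) F) : Matrix (Fin n) (Fin n) F) *ᵥ v ∈ W0 (F := F) k) :
    g ∈ Hk (F := F) (n := n) k := by
  rw [mem_Hk]
  intro v
  constructor
  · exact h1 v
  · intro hv
    have := h2 _ hv
    rwa [Matrix.mulVec_mulVec, ← Units.val_mul, inv_mul_cancel, Units.val_one,
      Matrix.one_mulVec] at this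

/-- rank one elements lie in the parabolic when the center is in `W0` or the functional kills `W0` -/
lemma rank_one_mem {g : GL (Fin n) F} {s : (Fin n → F) →ₗ[F] F} {a : Fin n → F}
    (hg : ∀ v, (g : Matrix (Fin n) (Fin n) F) *ᵥ v = v + s v • a)
    (h : (a ∈ W0 (F := F) k ∧ s a = 0) ∨ (∀ v ∈ W0 (F := F) k, s v = 0)) :
    g ∈ Hk (F := F) (n := n) k := by
  rcases h with ⟨ha, hsa⟩ | hs
  · apply mem_Hk_of_maps
    · intro v hv
      rw [hg]
      exact W0_add hv (W0_smul _ ha)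
    · intro v hv
      have h1 : (g : Matrix (Fin n) (Fin n) F) *ᵥ (v - s v • a) = v := by
        rw [hg, map_sub, map_smul, hsa, smul_zero, sub_zero, sub_add_cancel]
      rw [inv_mulVec_eq h1]
      exact W0_sub hv (W0_smul _ ha)
  · apply mem_Hk_of_maps
    · intro v hv
      rw [hg, hs v hv, zero_smul, add_zero]
      exact hv
    · intro v hv
      have h1 : (g : Matrix (Fin n) (Fin n) F) *ᵥ v = v := by
        rw [hg, hs v hv, zero_smul, add_zero]
      rw [inv_mulVec_eq h1]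
      exact hv

end Parab

section Main
variable {F : Type*} [Field F] {n : ℕ} {k : ℕ}

/-- `H` moves any vector outside `W0` to any basis vector `e_i` with `i ≥ k` -/
lemma exists_to_single {a : Fin n → F} (ha : a ∉ W0 (F := F) k) (i : Fin n) (hi : k ≤ (i : ℕ)) :
    ∃ h : GL (Fin n) F, h ∈ Hk (F := F) (n := n) k ∧
      (h : Matrix (Fin n) (Fin n) F) *ᵥ a = Pi.single i 1 := by
  have hex : ∃ i₀ : Fin n, k ≤ (i₀ : ℕ) ∧ a i₀ ≠ 0 := by
    by_contra hcon
    push Not at hcon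
    exact ha (fun i hi => hcon i hi)
  obtain ⟨i₀, hi₀, hai₀⟩ := hex
  obtain ⟨φ, hφa, hφi, hφW⟩ : ∃ φ : (Fin n → F) →ₗ[F] F, φ a = 1 ∧
      φ (Pi.single i 1) ≠ 0 ∧ ∀ v ∈ W0 (F := F) k, φ v = 0 := by
    by_cases hai : a i = 0
    · have hne : i ≠ i₀ := by rintro rfl; exact hai₀ hai
      refine ⟨(a i₀)⁻¹ • LinearMap.proj i₀ + LinearMap.proj i, ?_, ?_, ?_⟩
      · simp [hai, inv_mul_cancel₀ hai₀]
      · simp [Pi.single_apply, hne, Ne.symm hne]
      · intro v hv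
        simp [hv i₀ hi₀, hv i hi]
    · refine ⟨(a i)⁻¹ • LinearMap.proj i, ?_, ?_, ?_⟩
      · simp [inv_mul_cancel₀ hai]
      · simp [hai]
      · intro v hv
        simp [hv i hi]
  have hdet : 1 + φ (Pi.single i 1 - a) ≠ 0 := by
    have : 1 + φ (Pi.single i 1 - a) = φ (Pi.single i 1) := by
      rw [map_sub, hφa]; ring
    rw [this]; exact hφi
  obtain ⟨h, hh⟩ := exists_rank_one φ (Pi.single i 1 - a) hdet
  refine ⟨h, rank_one_mem hh (Or.inr hφW), ?_⟩
  rw [hh, hφa, one_smul, add_sub_cancel]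

lemma lower_left_mem {M : Subgroup (GL (Fin n) F)} (hHM : Hk (F := F) (n := n) k ≤ M)
    {g : GL (Fin n) F} (hg : g ∈ M) {a₀ : Fin n → F} (ha₀ : a₀ ∈ W0 (F := F) k)
    (hga : (g : Matrix (Fin n) (Fin n) F) *ᵥ a₀ ∉ W0 (F := F) k) (i j : Fin n)
    (hi : k ≤ (i : ℕ)) (hj : (j : ℕ) < k) (c : F) :
    ∃ x ∈ M, (x : Matrix (Fin n) (Fin n) F) = Matrix.transvection i j c := by
  obtain ⟨h, hhH, hha⟩ := exists_to_single hga i hi
  obtain ⟨gi, hgi⟩ : ∃ gi : GL (Fin n) F, gi = h * g := ⟨_, rfl⟩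
  have hgiM : gi ∈ M := by rw [hgi]; exact M.mul_mem (hHM hhH) hg
  have hgia : (gi : Matrix (Fin n) (Fin n) F) *ᵥ a₀ = Pi.single i 1 := by
    rw [hgi, Units.val_mul, ← Matrix.mulVec_mulVec, hha]
  obtain ⟨s, hs⟩ : ∃ s : (Fin n → F) →ₗ[F] F, s = c • (LinearMap.proj j ∘ₗ
      Matrix.toLin' (gi : Matrix (Fin n) (Fin n) F)) := ⟨_, rfl⟩
  have hsv : ∀ v, s v = c * ((gi : Matrix (Fin n) (Fin n) F) *ᵥ v) j := fun v => by
    rw [hs]; simp
  have hij : j ≠ i := by
    intro h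
    rw [h] at hj
    omega
  have hsa : s a₀ = 0 := by
    rw [hsv, hgia, Pi.single_apply, if_neg hij, mul_zero]
  obtain ⟨t, ht⟩ := exists_rank_one s a₀ (by rw [hsa, add_zero]; exact one_ne_zero)
  have htH : t ∈ Hk (F := F) (n := n) k := rank_one_mem ht (Or.inl ⟨ha₀, hsa⟩)
  refine ⟨gi * t * gi⁻¹, M.mul_mem (M.mul_mem hgiM (hHM htH)) (M.inv_mem hgiM), ?_⟩
  apply mat_eq_of_mulVec
  intro v
  rw [Units.val_mul, Units.val_mul, ← Matrix.mulVec_mulVec, ← Matrix.mulVec_mulVec, ht,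
    Matrix.mulVec_add, Matrix.mulVec_smul, mul_inv_mulVec, hgia, hsv, mul_inv_mulVec,
    transvection_mulVec]

lemma other_mem (i j : Fin n) (hij : i ≠ j) (h : ¬ (k ≤ (i : ℕ) ∧ (j : ℕ) < k)) (c : F) :
    ∃ x ∈ Hk (F := F) (n := n) k,
      (x : Matrix (Fin n) (Fin n) F) = Matrix.transvection i j c := by
  obtain ⟨s, hs⟩ : ∃ s : (Fin n → F) →ₗ[F] F, s = c • LinearMap.proj j := ⟨_, rfl⟩
  have hsv : ∀ v, s v = c * v j := fun v => by rw [hs]; simp
  have hsi : s (Pi.single i 1) = 0 := by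
    rw [hsv, Pi.single_apply, if_neg (Ne.symm hij), mul_zero]
  obtain ⟨t, ht⟩ := exists_rank_one s (Pi.single i 1) (by rw [hsi, add_zero]; exact one_ne_zero)
  refine ⟨t, rank_one_mem ht ?_, ?_⟩
  · by_cases hi : k ≤ (i : ℕ)
    · right
      intro v hv
      have hj : k ≤ (j : ℕ) := by
        by_contra hj
        exact h ⟨hi, by omega⟩
      rw [hsv, hv j hj, mul_zero]
    · left
      refine ⟨?_, hsi⟩
      intro l hl
      rw [Pi.single_apply, if_neg]
      rintro rfl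
      exact hi hl
  · apply mat_eq_of_mulVec
    intro v
    rw [ht, transvection_mulVec, hsv]

lemma diag_mem (D : Fin n → F) (hD : (Matrix.diagonal D).det ≠ 0) :
    ∃ x ∈ Hk (F := F) (n := n) k, (x : Matrix (Fin n) (Fin n) F) = Matrix.diagonal D := by
  have hDi : ∀ i, D i ≠ 0 := by
    rw [Matrix.det_diagonal] at hD
    intro i hi
    exact hD (Finset.prod_eq_zero (Finset.mem_univ i) hi)
  refine ⟨Matrix.GeneralLinearGroup.mkOfDetNeZero _ hD, ?_, rfl⟩
  rw [mem_Hk]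
  intro v
  change _ ↔ Matrix.diagonal D *ᵥ v ∈ W0 (F := F) k
  constructor
  · intro hv i hi
    rw [Matrix.mulVec_diagonal, hv i hi, mul_zero]
  · intro hv i hi
    have := hv i hi
    rw [Matrix.mulVec_diagonal] at this
    exact (mul_eq_zero.mp this).resolve_left (hDi i)

lemma Hk_ne_top (hk0 : 0 < k) (hkn : k < n) : Hk (F := F) (n := n) k ≠ ⊤ := by
  intro htop
  obtain ⟨i, hi⟩ : ∃ i : Fin n, (i : ℕ) = k := ⟨⟨k, hkn⟩, rfl⟩
  obtain ⟨j, hj⟩ : ∃ j : Fin n, (j : ℕ) = 0 := ⟨⟨0, by omega⟩, rfl⟩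
  have hij : i ≠ j := by
    intro h
    rw [h] at hi
    omega
  obtain ⟨s, hs⟩ : ∃ s : (Fin n → F) →ₗ[F] F, s = LinearMap.proj j := ⟨_, rfl⟩
  have hsv : ∀ v, s v = v j := fun v => by rw [hs]; simp
  have hsi : s (Pi.single i 1) = 0 := by
    rw [hsv, Pi.single_apply, if_neg (Ne.symm hij)]
  obtain ⟨t, ht⟩ := exists_rank_one s (Pi.single i 1) (by rw [hsi, add_zero]; exact one_ne_zero)
  have htH : t ∈ Hk (F := F) (n := n) k := by rw [htop]; trivial
  have hjW : (Pi.single j 1 : Fin n → F) ∈ W0 (F := F) k := by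
    intro l hl
    rw [Pi.single_apply, if_neg]
    rintro rfl
    omega
  have h1 := (mem_Hk.mp htH (Pi.single j 1)).mp hjW
  rw [ht, hsv] at h1
  have h2 := h1 i (by omega)
  simp [Pi.single_apply, hij] at h2

theorem main (n k : ℕ) (hk0 : 0 < k) (hkn : k < n) :
    IsCoatom (Hk (F := F) (n := n) k) := by
  refine ⟨Hk_ne_top hk0 hkn, fun M hM => ?_⟩
  have hHM : Hk (F := F) (n := n) k ≤ M := le_of_lt hM
  obtain ⟨g, hgM, hgH⟩ := SetLike.exists_of_lt hM
  obtain ⟨g', hg'M, a₀, ha₀, hga⟩ : ∃ g' ∈ M, ∃ a₀ ∈ W0 (F := F) k,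
      (g' : Matrix (Fin n) (Fin n) F) *ᵥ a₀ ∉ W0 (F := F) k := by
    rw [mem_Hk] at hgH
    obtain ⟨v, hv⟩ := not_forall.mp hgH
    by_cases hvW : v ∈ W0 (F := F) k
    · exact ⟨g, hgM, v, hvW, fun h => hv ⟨fun _ => h, fun _ => hvW⟩⟩
    · have hgv : (g : Matrix (Fin n) (Fin n) F) *ᵥ v ∈ W0 (F := F) k := by
        by_contra h
        exact hv ⟨fun h' => absurd h' hvW, fun h' => absurd h' h⟩
      refine ⟨g⁻¹, M.inv_mem hgM, (g : Matrix (Fin n) (Fin n) F) *ᵥ v, hgv, ?_⟩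
      rw [inv_mulVec_eq rfl]
      exact hvW
  rw [eq_top_iff]
  intro x _
  have key : ∃ y ∈ M, (y : Matrix (Fin n) (Fin n) F) = (x : Matrix (Fin n) (Fin n) F) := by
    apply Matrix.diagonal_transvection_induction_of_det_ne_zero
      (fun N => ∃ y ∈ M, (y : Matrix (Fin n) (Fin n) F) = N) (x : Matrix (Fin n) (Fin n) F)
    · exact ((Matrix.isUnit_iff_isUnit_det _).mp x.isUnit).ne_zero
    · intro D hD
      obtain ⟨y, hy, hyD⟩ := diag_mem (k := k) D hD
      exact ⟨y, hHM hy, hyD⟩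
    · intro t
      by_cases h : k ≤ (t.i : ℕ) ∧ (t.j : ℕ) < k
      · exact lower_left_mem hHM hg'M ha₀ hga t.i t.j h.1 h.2 t.c
      · obtain ⟨y, hy, hyt⟩ := other_mem (k := k) t.i t.j t.hij h t.c
        exact ⟨y, hHM hy, hyt⟩
    · rintro A B _ _ ⟨y, hy, rfl⟩ ⟨z, hz, rfl⟩
      exact ⟨y * z, M.mul_mem hy hz, Units.val_mul y z⟩
  obtain ⟨y, hy, hyx⟩ := key
  rwa [← Units.ext hyx]

end Main

end S0772aux

end Aux

/-- Maximal parabolics are maximal: over a finite field, for 0 < k < n the stabiliser in GL_n of the span of the first k coordinate vectors is a maximal proper subgroup. -/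
theorem result {F : Type*} [Field F] [Finite F] (n k : ℕ) (hk0 : 0 < k) (hkn : k < n) : IsCoatom (Cfsg.stabilizing (Cfsg.glToMat (Fin n) F) {v : Fin n → F | ∀ i : Fin n, k ≤ (i : ℕ) → v i = 0}) := by
  exact S0772aux.main n k hk0 hkn

end Cfsg.Agent.S0772
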