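import Cfsg.Statements.S0773
import Mathlib
import Cfsg.Agent.Lib.Helper5.BlockGL

set_option autoImplicit false
open Cfsg
open Cfsg.Agent.Lib.Helper5 Matrix

namespace Cfsg.Agent.S0773

section Aux

variable {F : Type*} [Field F] {n : ℕ}

/-- inverse transpose automorphism of `GL` -/
def invT : Matrix.GeneralLinearGroup (Fin n) F ≃* Matrix.GeneralLinearGroup (Fin n) F where
  toFun g := ⟨((g⁻¹ : Matrix.GeneralLinearGroup (Fin n) F) : Matrix (Fin n) (Fin n) F)ᵀ,
    (g : Matrix (Fin n) (Fin n) F)ᵀ,
    by rw [← Matrix.transpose_mul, ← Units.val_mul, mul_inv_cancel, Units.val_one,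
      Matrix.transpose_one],
    by rw [← Matrix.transpose_mul, ← Units.val_mul, inv_mul_cancel, Units.val_one,
      Matrix.transpose_one]⟩
  invFun g := ⟨((g⁻¹ : Matrix.GeneralLinearGroup (Fin n) F) : Matrix (Fin n) (Fin n) F)ᵀ,
    (g : Matrix (Fin n) (Fin n) F)ᵀ,
    by rw [← Matrix.transpose_mul, ← Units.val_mul, mul_inv_cancel, Units.val_one,
      Matrix.transpose_one],
    by rw [← Matrix.transpose_mul, ← Units.val_mul, inv_mul_cancel, Units.val_one,
      Matrix.transpose_one]⟩
  left_inv g := by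
    apply Units.ext
    change ((_ : Matrix.GeneralLinearGroup (Fin n) F)⁻¹ : Matrix.GeneralLinearGroup (Fin n) F).valᵀ = _
    rw [← Units.inv_eq_val_inv]
    change (g : Matrix (Fin n) (Fin n) F)ᵀᵀ = _
    rw [Matrix.transpose_transpose]
  right_inv g := by
    apply Units.ext
    change ((_ : Matrix.GeneralLinearGroup (Fin n) F)⁻¹ : Matrix.GeneralLinearGroup (Fin n) F).valᵀ = _
    rw [← Units.inv_eq_val_inv]
    change (g : Matrix (Fin n) (Fin n) F)ᵀᵀ = _
    rw [Matrix.transpose_transpose]
  map_mul' g h := by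
    apply Units.ext
    change ((g * h)⁻¹ : Matrix.GeneralLinearGroup (Fin n) F).valᵀ
      = (g⁻¹ : Matrix.GeneralLinearGroup (Fin n) F).valᵀ * (h⁻¹ : Matrix.GeneralLinearGroup (Fin n) F).valᵀ
    rw [_root_.mul_inv_rev, Units.val_mul, Matrix.transpose_mul]

/-- the twist: inverse transpose followed by reversal of the indices -/
noncomputable def psi : Matrix.GeneralLinearGroup (Fin n) F ≃* Matrix.GeneralLinearGroup (Fin n) F :=
  invT.trans (reindexGL Fin.revPerm)

theorem psi_val (g : Matrix.GeneralLinearGroup (Fin n) F) (i j : Fin n) :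
    ((psi g : Matrix.GeneralLinearGroup (Fin n) F) : Matrix (Fin n) (Fin n) F) i j
      = ((g⁻¹ : Matrix.GeneralLinearGroup (Fin n) F) : Matrix (Fin n) (Fin n) F)
        (Fin.rev j) (Fin.rev i) := rfl

theorem psi_psi (g : Matrix.GeneralLinearGroup (Fin n) F) : psi (psi g) = g := by
  apply Units.ext
  ext i j
  rw [psi_val, ← map_inv, psi_val, inv_inv, Fin.rev_rev, Fin.rev_rev]

/-- the parabolic subgroup -/
abbrev Par (F : Type*) [Field F] (n m : ℕ) : Subgroup (Matrix.GeneralLinearGroup (Fin n) F) :=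
  Cfsg.stabilizing (Cfsg.glToMat (Fin n) F) {v : Fin n → F | ∀ i : Fin n, m ≤ (i : ℕ) → v i = 0}

theorem psi_mem [Finite F] (m : ℕ) (g : Matrix.GeneralLinearGroup (Fin n) F)
    (hg : g ∈ Par F n m) : psi g ∈ Par F n (n - m) := by
  have hg' : g⁻¹ ∈ Par F n m := Subgroup.inv_mem _ hg
  rw [mem_stabilizing_coord_iff (fun i : Fin n => m ≤ (i : ℕ))] at hg'
  rw [mem_stabilizing_coord_iff (fun i : Fin n => n - m ≤ (i : ℕ))]
  intro i j hi hj
  rw [psi_val]
  apply hg'
  · rw [Fin.val_rev]; have := j.2; omega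
  · rw [Fin.val_rev]; have := i.2; omega

/-- the two parabolics are isomorphic -/
noncomputable def parEquiv [Finite F] (k : ℕ) (hk : k ≤ n) : Par F n k ≃* Par F n (n - k) where
  toFun g := ⟨psi g.1, psi_mem k g.1 g.2⟩
  invFun g := ⟨psi g.1, by
    have := psi_mem (n - k) g.1 g.2
    rwa [Nat.sub_sub_self hk] at this⟩
  left_inv g := Subtype.ext (psi_psi g.1)
  right_inv g := Subtype.ext (psi_psi g.1)
  map_mul' g h := Subtype.ext (map_mul psi g.1 h.1)

/-- the coordinate subspace -/
def U (F : Type*) [Field F] (n m : ℕ) : Submodule F (Fin n → F) where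
  carrier := {v | ∀ i : Fin n, m ≤ (i : ℕ) → v i = 0}
  add_mem' := by
    intro a b ha hb i hi
    simp [ha i hi, hb i hi]
  zero_mem' := by
    intro i _
    rfl
  smul_mem' := by
    intro c v hv i hi
    simp [hv i hi]

theorem finrank_U (m : ℕ) (hm : m ≤ n) : Module.finrank F (U F n m) = m := by
  let e : U F n m ≃ₗ[F] (Fin m → F) :=
    { toFun := fun v j => v.1 (Fin.castLE hm j)
      map_add' := by intro a b; rfl
      map_smul' := by intro c a; rfl
      invFun := fun f => ⟨fun i => if h : (i : ℕ) < m then f ⟨i, h⟩ else 0, by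
        intro i hi
        have : ¬ (i : ℕ) < m := by omega
        simp [this]⟩
      left_inv := by
        intro v
        apply Subtype.ext
        funext i
        by_cases h : (i : ℕ) < m
        · simp [h]
        · simp only [h, dite_false]
          exact (v.2 i (by omega)).symm
      right_inv := by
        intro f
        funext j
        simp }
  rw [LinearEquiv.finrank_eq e, Module.finrank_fin_fun]

/-- elementary transvections -/
noncomputable def E (i j : Fin n) (hij : i ≠ j) : Matrix.GeneralLinearGroup (Fin n) F :=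
  Matrix.GeneralLinearGroup.mkOfDetNeZero (Matrix.transvection i j (1 : F)) (by
    rw [Matrix.det_transvection_of_ne _ _ hij]; exact one_ne_zero)

theorem E_mulVec (i j : Fin n) (hij : i ≠ j) (w : Fin n → F) :
    ((E i j hij : Matrix.GeneralLinearGroup (Fin n) F) : Matrix (Fin n) (Fin n) F) *ᵥ w
      = w + w j • Pi.single i (1 : F) := by
  change Matrix.transvection i j (1 : F) *ᵥ w = _
  rw [Matrix.transvection, Matrix.add_mulVec, Matrix.one_mulVec, Matrix.single_mulVec_eq, one_mul]

theorem E_mem [Finite F] (m : ℕ) (i j : Fin n) (hij : i ≠ j) (h : ¬ (m ≤ (i : ℕ) ∧ (j : ℕ) < m)) :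
    E i j hij ∈ Par F n m := by
  rw [mem_stabilizing_coord_iff (fun i : Fin n => m ≤ (i : ℕ))]
  intro a b ha hb
  change Matrix.transvection i j (1 : F) a b = 0
  have hab : a ≠ b := by
    rintro rfl
    exact hb ha
  rw [Matrix.transvection, Matrix.add_apply, Matrix.one_apply_ne hab, zero_add,
    Matrix.single_apply]
  rw [if_neg]
  rintro ⟨rfl, rfl⟩
  exact h ⟨ha, by omega⟩

theorem not_conj [Finite F] (k : ℕ) (hk0 : 0 < k) (hkn : k < n) (h2 : 2 * k ≠ n)
    (g : Matrix.GeneralLinearGroup (Fin n) F) :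
    (Par F n k).map (MulAut.conj g).toMonoidHom ≠ Par F n (n - k) := by
  intro heq
  set m := n - k with hm
  let gl : (Fin n → F) →ₗ[F] (Fin n → F) := Matrix.mulVecLin (g : Matrix (Fin n) (Fin n) F)
  have hgl : ∀ v, gl v = (g : Matrix (Fin n) (Fin n) F) *ᵥ v := fun v => rfl
  have hinj : Function.Injective gl := by
    intro a b hab
    rw [hgl, hgl] at hab
    have := congrArg (fun z => ((g⁻¹ : Matrix.GeneralLinearGroup (Fin n) F) :
      Matrix (Fin n) (Fin n) F) *ᵥ z) hab
    simp only [Matrix.mulVec_mulVec] at this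
    rwa [← Units.val_mul, inv_mul_cancel, Units.val_one, Matrix.one_mulVec,
      Matrix.one_mulVec] at this
  set W : Submodule F (Fin n → F) := (U F n k).map gl with hW
  have hWrank : Module.finrank F W = k := by
    rw [← (Submodule.equivMapOfInjective gl hinj (U F n k)).finrank_eq]
    exact finrank_U k hkn.le
  -- invariance of `W`
  have hWinv : ∀ h ∈ Par F n m, ∀ w ∈ W,
      (h : Matrix (Fin n) (Fin n) F) *ᵥ w ∈ W := by
    intro h hh w hw
    rw [← heq] at hh
    obtain ⟨p, hp, rfl⟩ := Subgroup.mem_map.1 hh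
    obtain ⟨u, hu, rfl⟩ := Submodule.mem_map.1 hw
    refine Submodule.mem_map.2 ⟨(p : Matrix (Fin n) (Fin n) F) *ᵥ u, (hp u).1 hu, ?_⟩
    rw [hgl, hgl]
    change _ = ((g * p * g⁻¹ : Matrix.GeneralLinearGroup (Fin n) F) :
      Matrix (Fin n) (Fin n) F) *ᵥ _
    rw [Matrix.mulVec_mulVec, Matrix.mulVec_mulVec, ← Units.val_mul, ← Units.val_mul]
    congr 2
    group
  -- step A
  have stepA : ∀ w ∈ W, ∀ i j : Fin n, i ≠ j → ¬ (m ≤ (i : ℕ) ∧ (j : ℕ) < m) → w j ≠ 0 →
      (Pi.single i (1 : F) : Fin n → F) ∈ W := by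
    intro w hw i j hij hallow hwj
    have h1 := hWinv _ (E_mem m i j hij hallow) w hw
    rw [E_mulVec] at h1
    have h3 : w j • (Pi.single i (1 : F) : Fin n → F) ∈ W := by
      have := W.sub_mem h1 hw
      rwa [add_sub_cancel_left] at this
    have := W.smul_mem (w j)⁻¹ h3
    rwa [smul_smul, inv_mul_cancel₀ hwj, one_smul] at this
  -- decomposition helper
  have hdecomp : ∀ w ∈ W, ∀ j : Fin n, w j ≠ 0 →
      (∀ i : Fin n, i ≠ j → w i • (Pi.single i (1 : F) : Fin n → F) ∈ W) →
      (Pi.single j (1 : F) : Fin n → F) ∈ W := by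
    intro w hw j hwj hall
    have hsum := pi_eq_sum_univ' w
    rw [← Finset.add_sum_erase Finset.univ _ (Finset.mem_univ j)] at hsum
    have h1 : w j • (Pi.single j (1 : F) : Fin n → F) ∈ W := by
      have h3 : ∑ i ∈ Finset.univ.erase j, w i • (Pi.single i (1 : F) : Fin n → F) ∈ W := by
        apply Submodule.sum_mem
        intro i hi
        exact hall i (Finset.ne_of_mem_erase hi)
      have := W.sub_mem hw h3
      rw [eq_sub_of_add_eq hsum.symm]
      exact this
    have := W.smul_mem (w j)⁻¹ h1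
    rwa [smul_smul, inv_mul_cancel₀ hwj, one_smul] at this
  by_cases hcase : ∃ w ∈ W, ∃ j : Fin n, m ≤ (j : ℕ) ∧ w j ≠ 0
  · -- W = ⊤
    obtain ⟨w, hw, j, hj, hwj⟩ := hcase
    have hall : ∀ i : Fin n, i ≠ j → (Pi.single i (1 : F) : Fin n → F) ∈ W := by
      intro i hij
      exact stepA w hw i j hij (by omega) hwj
    have hj' : (Pi.single j (1 : F) : Fin n → F) ∈ W :=
      hdecomp w hw j hwj (fun i hij => W.smul_mem _ (hall i hij))
    have htop : W = ⊤ := by
      rw [eq_top_iff]
      intro v _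
      rw [pi_eq_sum_univ' v]
      apply Submodule.sum_mem
      intro i _
      apply W.smul_mem
      by_cases hij : i = j
      · rw [hij]; exact hj'
      · exact hall i hij
    rw [htop, finrank_top, Module.finrank_fin_fun] at hWrank
    omega
  · push Not at hcase
    have hWle : W ≤ U F n m := by
      intro w hw i hi
      exact hcase w hw i hi
    have hWne : W ≠ ⊥ := by
      intro h
      rw [h, finrank_bot] at hWrank
      omega
    obtain ⟨w, hw, hw0⟩ := Submodule.exists_mem_ne_zero_of_ne_bot hWne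
    obtain ⟨j, hwj⟩ : ∃ j, w j ≠ 0 := by
      by_contra h
      push Not at h
      exact hw0 (funext h)
    have hjm : (j : ℕ) < m := by
      by_contra h
      exact hwj (hcase w hw j (by omega))
    have hall : ∀ i : Fin n, (i : ℕ) < m → i ≠ j → (Pi.single i (1 : F) : Fin n → F) ∈ W := by
      intro i him hij
      exact stepA w hw i j hij (by omega) hwj
    have hj' : (Pi.single j (1 : F) : Fin n → F) ∈ W := by
      apply hdecomp w hw j hwj
      intro i hij
      by_cases him : (i : ℕ) < m
      · exact W.smul_mem _ (hall i him hij)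
      · rw [hcase w hw i (by omega), zero_smul]
        exact W.zero_mem
    have hUle : U F n m ≤ W := by
      intro v hv
      rw [pi_eq_sum_univ' v]
      apply Submodule.sum_mem
      intro i _
      by_cases him : (i : ℕ) < m
      · apply W.smul_mem
        by_cases hij : i = j
        · rw [hij]; exact hj'
        · exact hall i him hij
      · rw [hv i (by omega), zero_smul]
        exact W.zero_mem
    have hWU : W = U F n m := le_antisymm hWle hUle
    rw [hWU, finrank_U m (by omega)] at hWrank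
    omega

end Aux

/-- The stabilisers in GL_n(F), F finite, of the coordinate subspaces of dimensions k and n − k are isomorphic groups, but when 2k ≠ n (and 0 < k < n) no element of GL_n conjugates one onto the other. -/
theorem result {F : Type*} [Field F] [Finite F] (n k : ℕ) (hk0 : 0 < k) (hkn : k < n) (h2 : 2 * k ≠ n) : Nonempty (↥(Cfsg.stabilizing (Cfsg.glToMat (Fin n) F) {v : Fin n → F | ∀ i : Fin n, k ≤ (i : ℕ) → v i = 0}) ≃* ↥(Cfsg.stabilizing (Cfsg.glToMat (Fin n) F) {v : Fin n → F | ∀ i : Fin n, n - k ≤ (i : ℕ) → v i = 0})) ∧ ∀ g : Matrix.GeneralLinearGroup (Fin n) F, (Cfsg.stabilizing (Cfsg.glToMat (Fin n) F) {v : Fin n → F | ∀ i : Fin n, k ≤ (i : ℕ) → v i = 0}).map (MulAut.conj g).toMonoidHom ≠ Cfsg.stabilizing (Cfsg.glToMat (Fin n) F) {v : Fin n → F | ∀ i : Fin n, n - k ≤ (i : ℕ) → v i = 0} := by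
  refine ⟨⟨parEquiv k hkn.le⟩, fun g => not_conj k hk0 hkn h2 g⟩

end Cfsg.Agent.S0773
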