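import Cfsg.Statements.S0774
import Mathlib
import Cfsg.Agent.Lib.Helper5.BlockGL
import Cfsg.Agent.Lib.Helper5.TriCount

set_option autoImplicit false
open Cfsg
open Cfsg.Agent.Lib.Helper5 Matrix

namespace Cfsg.Agent.S0774

section Aux

variable {F : Type*} [Field F] {m : ℕ}

/-- block upper triangular symplectic matrices -/
lemma tri_mem_iff (A B D : Matrix (Fin m) (Fin m) F) :
    Matrix.fromBlocks A B 0 D ∈ Matrix.symplecticGroup (Fin m) F ↔
      B * Aᵀ = A * Bᵀ ∧ A * Dᵀ = 1 ∧ D * Aᵀ = 1 := by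
  rw [SymplecticGroup.mem_iff, Matrix.J, Matrix.fromBlocks_transpose,
    Matrix.fromBlocks_multiply, Matrix.fromBlocks_multiply]
  simp only [Matrix.mul_zero, Matrix.zero_mul, add_zero, zero_add, Matrix.mul_one, Matrix.mul_neg,
    Matrix.neg_mul, Matrix.transpose_zero, neg_zero]
  rw [Matrix.fromBlocks_inj]
  constructor
  · rintro ⟨h0, h1, h2, -⟩
    refine ⟨?_, neg_injective h1, h2⟩
    rw [← sub_eq_zero, sub_eq_add_neg]
    exact h0
  · rintro ⟨h0, h1, h2⟩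
    refine ⟨?_, ?_, h2, ?_⟩
    · rw [← sub_eq_add_neg, sub_eq_zero]; exact h0
    · rw [h1]
    · simp

/-- the intermediate description of the Borel subgroup -/
def IsBorel (g : Matrix.symplecticGroup (Fin m) F) : Prop :=
  (g : Matrix (Fin m ⊕ Fin m) (Fin m ⊕ Fin m) F).toBlocks₂₁ = 0 ∧
    ∀ i j : Fin m, j < i → (g : Matrix (Fin m ⊕ Fin m) (Fin m ⊕ Fin m) F).toBlocks₁₁ i j = 0

lemma mem_borel_iff [Finite F] (g : Matrix.symplecticGroup (Fin m) F) :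
    g ∈ (⨅ k : Fin m, Cfsg.stabilizing (Cfsg.spToMat m F)
      {v : Fin m ⊕ Fin m → F | (∀ i : Fin m, (k : ℕ) < (i : ℕ) → v (Sum.inl i) = 0) ∧
        ∀ i : Fin m, v (Sum.inr i) = 0}) ↔ IsBorel g := by
  rw [Subgroup.mem_iInf]
  have hset : ∀ k : Fin m,
      {v : Fin m ⊕ Fin m → F | (∀ i : Fin m, (k : ℕ) < (i : ℕ) → v (Sum.inl i) = 0) ∧
        ∀ i : Fin m, v (Sum.inr i) = 0}
      = {v : Fin m ⊕ Fin m → F | ∀ x, Sum.elim (fun i : Fin m => (k : ℕ) < (i : ℕ))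
          (fun _ => True) x → v x = 0} := by
    intro k
    ext v
    simp only [Set.mem_ofPred_eq, Sum.forall, Sum.elim_inl, Sum.elim_inr, forall_true_left]
  simp_rw [hset, mem_stabilizing_coord_iff' (Cfsg.spToMat m F)]
  simp only [Sum.forall, Sum.elim_inl, Sum.elim_inr, not_true_eq_false, IsEmpty.forall_iff,
    implies_true, and_true, forall_true_left, not_lt]
  constructor
  · intro h
    constructor
    · ext i j
      exact (h j).2 i j le_rfl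
    · intro i j hij
      exact (h j).1 i j hij (le_refl _)
  · rintro ⟨h1, h2⟩ k
    constructor
    · intro i j hki hjk
      exact h2 i j (by
        apply Fin.lt_def.2
        omega)
    · intro i j _
      exact congrFun (congrFun h1 i) j

/-- the Borel subgroup as pairs (upper triangular invertible, symmetric) -/
noncomputable def borelEquiv :
    {g : Matrix.symplecticGroup (Fin m) F // IsBorel g} ≃
    {A : Matrix.GeneralLinearGroup (Fin m) F //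
      ∀ i j : Fin m, j < i → (A : Matrix (Fin m) (Fin m) F) i j = 0} ×
    {S : Matrix (Fin m) (Fin m) F // Sᵀ = S} where
  toFun g :=
    have hgM : (g.1 : Matrix (Fin m ⊕ Fin m) (Fin m ⊕ Fin m) F)
        = Matrix.fromBlocks (g.1 : Matrix (Fin m ⊕ Fin m) (Fin m ⊕ Fin m) F).toBlocks₁₁
          (g.1 : Matrix (Fin m ⊕ Fin m) (Fin m ⊕ Fin m) F).toBlocks₁₂ 0
          (g.1 : Matrix (Fin m ⊕ Fin m) (Fin m ⊕ Fin m) F).toBlocks₂₂ := by
      conv_lhs => rw [← Matrix.fromBlocks_toBlocks (g.1 : Matrix (Fin m ⊕ Fin m) (Fin m ⊕ Fin m) F),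
        g.2.1]
    have hsymp := (tri_mem_iff _ _ _).1 (hgM ▸ g.1.2)
    (⟨⟨(g.1 : Matrix (Fin m ⊕ Fin m) (Fin m ⊕ Fin m) F).toBlocks₁₁,
        (g.1 : Matrix (Fin m ⊕ Fin m) (Fin m ⊕ Fin m) F).toBlocks₂₂ᵀ,
        hsymp.2.1, mul_eq_one_comm.1 hsymp.2.1⟩, g.2.2⟩,
      ⟨(g.1 : Matrix (Fin m ⊕ Fin m) (Fin m ⊕ Fin m) F).toBlocks₁₂ *
        (g.1 : Matrix (Fin m ⊕ Fin m) (Fin m ⊕ Fin m) F).toBlocks₁₁ᵀ, by
        rw [Matrix.transpose_mul, Matrix.transpose_transpose]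
        exact hsymp.1.symm⟩)
  invFun t :=
    ⟨⟨Matrix.fromBlocks (t.1.1 : Matrix (Fin m) (Fin m) F)
        (t.2.1 * ((t.1.1⁻¹ : Matrix.GeneralLinearGroup (Fin m) F) : Matrix (Fin m) (Fin m) F)ᵀ) 0
        ((t.1.1⁻¹ : Matrix.GeneralLinearGroup (Fin m) F) : Matrix (Fin m) (Fin m) F)ᵀ, by
      rw [tri_mem_iff]
      have h1 : ((t.1.1⁻¹ : Matrix.GeneralLinearGroup (Fin m) F) : Matrix (Fin m) (Fin m) F)ᵀ *
          (t.1.1 : Matrix (Fin m) (Fin m) F)ᵀ = 1 := by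
        rw [← Matrix.transpose_mul, ← Units.val_mul, mul_inv_cancel, Units.val_one,
          Matrix.transpose_one]
      have h2 : (t.1.1 : Matrix (Fin m) (Fin m) F) *
          ((t.1.1⁻¹ : Matrix.GeneralLinearGroup (Fin m) F) : Matrix (Fin m) (Fin m) F) = 1 := by
        rw [← Units.val_mul, mul_inv_cancel, Units.val_one]
      refine ⟨?_, ?_, h1⟩
      · rw [Matrix.mul_assoc, h1, Matrix.mul_one, Matrix.transpose_mul,
          Matrix.transpose_transpose, ← Matrix.mul_assoc, h2, Matrix.one_mul, t.2.2]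
      · rw [Matrix.transpose_transpose, h2]⟩,
      ⟨Matrix.toBlocks_fromBlocks₂₁ _ _ _ _, fun i j hij => by
        rw [Matrix.toBlocks_fromBlocks₁₁]
        exact t.1.2 i j hij⟩⟩
  left_inv g := by
    apply Subtype.ext
    apply Subtype.ext
    have hgM : (g.1 : Matrix (Fin m ⊕ Fin m) (Fin m ⊕ Fin m) F)
        = Matrix.fromBlocks (g.1 : Matrix (Fin m ⊕ Fin m) (Fin m ⊕ Fin m) F).toBlocks₁₁
          (g.1 : Matrix (Fin m ⊕ Fin m) (Fin m ⊕ Fin m) F).toBlocks₁₂ 0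
          (g.1 : Matrix (Fin m ⊕ Fin m) (Fin m ⊕ Fin m) F).toBlocks₂₂ := by
      conv_lhs => rw [← Matrix.fromBlocks_toBlocks (g.1 : Matrix (Fin m ⊕ Fin m) (Fin m ⊕ Fin m) F),
        g.2.1]
    have hsymp := (tri_mem_iff _ _ _).1 (hgM ▸ g.1.2)
    change Matrix.fromBlocks (g.1 : Matrix (Fin m ⊕ Fin m) (Fin m ⊕ Fin m) F).toBlocks₁₁
      ((g.1 : Matrix (Fin m ⊕ Fin m) (Fin m ⊕ Fin m) F).toBlocks₁₂ *
        (g.1 : Matrix (Fin m ⊕ Fin m) (Fin m ⊕ Fin m) F).toBlocks₁₁ᵀ *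
        ((g.1 : Matrix (Fin m ⊕ Fin m) (Fin m ⊕ Fin m) F).toBlocks₂₂ᵀ)ᵀ) 0
      ((g.1 : Matrix (Fin m ⊕ Fin m) (Fin m ⊕ Fin m) F).toBlocks₂₂ᵀ)ᵀ = _
    rw [Matrix.transpose_transpose, Matrix.mul_assoc]
    have h3 : (g.1 : Matrix (Fin m ⊕ Fin m) (Fin m ⊕ Fin m) F).toBlocks₁₁ᵀ *
        (g.1 : Matrix (Fin m ⊕ Fin m) (Fin m ⊕ Fin m) F).toBlocks₂₂ = 1 :=
      mul_eq_one_comm.1 hsymp.2.2
    rw [h3, Matrix.mul_one]
    exact hgM.symm
  right_inv t := by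
    obtain ⟨⟨A, hA⟩, ⟨S, hS⟩⟩ := t
    refine Prod.ext ?_ ?_
    · apply Subtype.ext
      apply Units.ext
      exact Matrix.toBlocks_fromBlocks₁₁ _ _ _ _
    · apply Subtype.ext
      change (Matrix.fromBlocks _ _ _ _).toBlocks₁₂ * (Matrix.fromBlocks _ _ _ _).toBlocks₁₁ᵀ = S
      rw [Matrix.toBlocks_fromBlocks₁₂, Matrix.toBlocks_fromBlocks₁₁, Matrix.mul_assoc,
        ← Matrix.transpose_mul, ← Units.val_mul, mul_inv_cancel, Units.val_one,
        Matrix.transpose_one, Matrix.mul_one]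

theorem main [Fintype F] :
    Nat.card ↥(⨅ k : Fin m, Cfsg.stabilizing (Cfsg.spToMat m F)
      {v : Fin m ⊕ Fin m → F | (∀ i : Fin m, (k : ℕ) < (i : ℕ) → v (Sum.inl i) = 0) ∧
        ∀ i : Fin m, v (Sum.inr i) = 0})
      = Fintype.card F ^ (m ^ 2) * (Fintype.card F - 1) ^ m := by
  have e1 : ↥(⨅ k : Fin m, Cfsg.stabilizing (Cfsg.spToMat m F)
      {v : Fin m ⊕ Fin m → F | (∀ i : Fin m, (k : ℕ) < (i : ℕ) → v (Sum.inl i) = 0) ∧
        ∀ i : Fin m, v (Sum.inr i) = 0}) ≃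
      {g : Matrix.symplecticGroup (Fin m) F // IsBorel g} :=
    Equiv.subtypeEquivRight mem_borel_iff
  rw [Nat.card_congr (e1.trans borelEquiv), Nat.card_prod, card_upperTri_GL, card_symm_matrix]
  have hexp : m * (m - 1) / 2 + m * (m + 1) / 2 = m ^ 2 := by
    have h1 : 2 * (m * (m - 1) / 2) = m * (m - 1) :=
      Nat.mul_div_cancel' (Nat.even_mul_pred_self m).two_dvd
    have h2 : 2 * (m * (m + 1) / 2) = m * (m + 1) :=
      Nat.mul_div_cancel' (Nat.even_mul_succ_self m).two_dvd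
    have h3 : m * (m - 1) + m * (m + 1) = 2 * m ^ 2 := by
      rcases m with _ | k
      · rfl
      · simp only [Nat.add_sub_cancel]; ring
    omega
  rw [← hexp, pow_add]
  ring

end Aux

/-- Borel subgroup of the symplectic group: the elements of Sp_2m(q) stabilising each of the totally isotropic coordinate subspaces ⟨e_0, ..., e_k⟩ (k < m) form a subgroup of order q^(m²) (q − 1)^m. -/
theorem result {F : Type*} [Field F] [Fintype F] {q : ℕ} (hF : Fintype.card F = q) (m : ℕ) : Nat.card ↥(⨅ k : Fin m, Cfsg.stabilizing (Cfsg.spToMat m F) {v : Fin m ⊕ Fin m → F | (∀ i : Fin m, (k : ℕ) < (i : ℕ) → v (Sum.inl i) = 0) ∧ ∀ i : Fin m, v (Sum.inr i) = 0}) = q ^ (m ^ 2) * (q - 1) ^ m := by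
  subst hF
  exact main

end Cfsg.Agent.S0774
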