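import Cfsg.Statements.S0776
import Mathlib
import Cfsg.Agent.Lib.Helper5.SpMax
import Cfsg.Agent.Lib.Helper5.SpWitt

set_option autoImplicit false
open Cfsg

namespace Cfsg.Agent.S0776

section Aux
set_option linter.unusedSectionVars false
set_option linter.unusedVariables false
set_option linter.unusedSimpArgs false
namespace S0776aux
open Cfsg Matrix Cfsg.Agent.Lib.Helper5 Cfsg.Agent.Lib.Helper5.SpMax Cfsg.Agent.Lib.Helper5.SpWitt

section Blocks
variable {F : Type*} [Field F] {m k : ℕ} (hk : k ≤ m)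

/-- `Fin k ⊕ Fin (m-k) ≃ Fin m` -/
def ek : Fin k ⊕ Fin (m - k) ≃ Fin m := finSumFinEquiv.trans (finCongr (by omega))

/-- the index equivalence -/
def e : (Fin k ⊕ Fin k) ⊕ (Fin (m - k) ⊕ Fin (m - k)) ≃ Fin m ⊕ Fin m :=
  (Equiv.sumSumSumComm (Fin k) (Fin k) (Fin (m - k)) (Fin (m - k))).trans
    (Equiv.sumCongr (ek hk) (ek hk))

lemma e_ll (i : Fin k) : e hk (Sum.inl (Sum.inl i)) = Sum.inl (ek hk (Sum.inl i)) := rfl
lemma e_lr (i : Fin k) : e hk (Sum.inl (Sum.inr i)) = Sum.inr (ek hk (Sum.inl i)) := rfl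
lemma e_rl (j : Fin (m - k)) : e hk (Sum.inr (Sum.inl j)) = Sum.inl (ek hk (Sum.inr j)) := rfl
lemma e_rr (j : Fin (m - k)) : e hk (Sum.inr (Sum.inr j)) = Sum.inr (ek hk (Sum.inr j)) := rfl

/-- block diagonal matrix in the big index set -/
def blk (A : Matrix (Fin k ⊕ Fin k) (Fin k ⊕ Fin k) F)
    (B : Matrix (Fin (m - k) ⊕ Fin (m - k)) (Fin (m - k) ⊕ Fin (m - k)) F) :
    Matrix (Fin m ⊕ Fin m) (Fin m ⊕ Fin m) F :=
  (Matrix.fromBlocks A 0 0 B).submatrix (e hk).symm (e hk).symm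

lemma blk_J : Matrix.J (Fin m) F = blk hk (Matrix.J (Fin k) F) (Matrix.J (Fin (m - k)) F) := by
  ext a b
  obtain ⟨x, rfl⟩ := (e hk).surjective a
  obtain ⟨y, rfl⟩ := (e hk).surjective b
  unfold blk
  rw [Matrix.submatrix_apply, Equiv.symm_apply_apply, Equiv.symm_apply_apply]
  rcases x with (i|i)|(j|j) <;> rcases y with (i'|i')|(j'|j') <;>
    simp [e_ll, e_lr, e_rl, e_rr, Matrix.J, Matrix.one_apply, (ek hk).injective.eq_iff]

lemma blk_mul (A A' : Matrix (Fin k ⊕ Fin k) (Fin k ⊕ Fin k) F)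
    (B B' : Matrix (Fin (m - k) ⊕ Fin (m - k)) (Fin (m - k) ⊕ Fin (m - k)) F) :
    blk hk A B * blk hk A' B' = blk hk (A * A') (B * B') := by
  unfold blk
  rw [Matrix.submatrix_mul_equiv, Matrix.fromBlocks_multiply]
  simp

lemma blk_one : blk hk (1 : Matrix (Fin k ⊕ Fin k) (Fin k ⊕ Fin k) F) 1 = 1 := by
  unfold blk
  rw [Matrix.fromBlocks_one, Matrix.submatrix_one_equiv]

lemma blk_transpose (A : Matrix (Fin k ⊕ Fin k) (Fin k ⊕ Fin k) F)
    (B : Matrix (Fin (m - k) ⊕ Fin (m - k)) (Fin (m - k) ⊕ Fin (m - k)) F) :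
    (blk hk A B)ᵀ = blk hk Aᵀ Bᵀ := by
  unfold blk
  rw [Matrix.transpose_submatrix, Matrix.fromBlocks_transpose]
  simp

lemma blk_inj {A A' : Matrix (Fin k ⊕ Fin k) (Fin k ⊕ Fin k) F}
    {B B' : Matrix (Fin (m - k) ⊕ Fin (m - k)) (Fin (m - k) ⊕ Fin (m - k)) F}
    (h : blk hk A B = blk hk A' B') : A = A' ∧ B = B' := by
  unfold blk at h
  have h2 : Matrix.fromBlocks A 0 0 B = Matrix.fromBlocks A' 0 0 B' := by
    ext x y
    have := congrFun (congrFun h (e hk x)) (e hk y)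
    simpa [Matrix.submatrix_apply] using this
  rw [Matrix.fromBlocks_inj] at h2
  exact ⟨h2.1, h2.2.2.2⟩

lemma blk_mem {A : Matrix (Fin k ⊕ Fin k) (Fin k ⊕ Fin k) F}
    {B : Matrix (Fin (m - k) ⊕ Fin (m - k)) (Fin (m - k) ⊕ Fin (m - k)) F}
    (hA : A ∈ Matrix.symplecticGroup (Fin k) F) (hB : B ∈ Matrix.symplecticGroup (Fin (m - k)) F) :
    blk hk A B ∈ Matrix.symplecticGroup (Fin m) F := by
  rw [SymplecticGroup.mem_iff] at hA hB ⊢
  rw [blk_J hk, blk_transpose, blk_mul, blk_mul, hA, hB]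

end Blocks

section Hom
variable {F : Type*} [Field F] {m k : ℕ} (hk : k ≤ m)

/-- the block embedding as a monoid hom -/
def psi : Matrix.symplecticGroup (Fin k) F × Matrix.symplecticGroup (Fin (m - k)) F →*
    Matrix.symplecticGroup (Fin m) F where
  toFun p := ⟨blk hk p.1.1 p.2.1, blk_mem hk p.1.2 p.2.2⟩
  map_one' := Subtype.ext (blk_one hk)
  map_mul' p q := Subtype.ext (blk_mul hk _ _ _ _).symm

lemma psi_val (p : Matrix.symplecticGroup (Fin k) F × Matrix.symplecticGroup (Fin (m - k)) F) :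
    ((psi hk p : Matrix.symplecticGroup (Fin m) F) : Matrix (Fin m ⊕ Fin m) (Fin m ⊕ Fin m) F) =
      blk hk p.1.1 p.2.1 := rfl

lemma psi_injective : Function.Injective (psi (F := F) hk) := by
  intro p q h
  have := blk_inj hk (congrArg Subtype.val h)
  exact Prod.ext (Subtype.ext this.1) (Subtype.ext this.2)

/-- the standard non-degenerate subspace -/
def W0 : Submodule F (Fin m ⊕ Fin m → F) where
  carrier := {v | ∀ z, v (e hk (Sum.inr z)) = 0}
  add_mem' := by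
    intro a b ha hb z
    rw [Pi.add_apply, ha z, hb z, add_zero]
  zero_mem' := fun z => rfl
  smul_mem' := by
    intro c a ha z
    rw [Pi.smul_apply, ha z, smul_zero]

lemma mem_W0 {v : Fin m ⊕ Fin m → F} : v ∈ W0 (F := F) hk ↔ ∀ z, v (e hk (Sum.inr z)) = 0 :=
  Iff.rfl

lemma blk_mulVec (A : Matrix (Fin k ⊕ Fin k) (Fin k ⊕ Fin k) F)
    (B : Matrix (Fin (m - k) ⊕ Fin (m - k)) (Fin (m - k) ⊕ Fin (m - k)) F)
    (v : Fin m ⊕ Fin m → F) (x : (Fin k ⊕ Fin k) ⊕ (Fin (m - k) ⊕ Fin (m - k))) :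
    (blk hk A B *ᵥ v) (e hk x) = (Matrix.fromBlocks A 0 0 B *ᵥ (v ∘ e hk)) x := by
  unfold blk
  rw [Matrix.submatrix_mulVec_equiv]
  simp

lemma blk_maps (A : Matrix (Fin k ⊕ Fin k) (Fin k ⊕ Fin k) F)
    (B : Matrix (Fin (m - k) ⊕ Fin (m - k)) (Fin (m - k) ⊕ Fin (m - k)) F)
    {v : Fin m ⊕ Fin m → F} (hv : v ∈ W0 hk) : blk hk A B *ᵥ v ∈ W0 hk := by
  intro z
  rw [blk_mulVec, Matrix.fromBlocks_mulVec, Sum.elim_inr]
  have h0 : (v ∘ e hk) ∘ Sum.inr = 0 := by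
    funext z'
    exact hv z'
  rw [h0, Matrix.mulVec_zero, Matrix.zero_mulVec, add_zero]
  rfl

lemma psi_mem_stab (p : Matrix.symplecticGroup (Fin k) F × Matrix.symplecticGroup (Fin (m - k)) F) :
    psi hk p ∈ Cfsg.stabilizing (Cfsg.spToMat m F) ((W0 (F := F) hk : Submodule F (Fin m ⊕ Fin m → F)) : Set (Fin m ⊕ Fin m → F)) := by
  intro v
  constructor
  · intro hv
    exact blk_maps hk _ _ hv
  · intro hv
    have h1 := blk_maps hk (p⁻¹).1.1 (p⁻¹).2.1 hv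
    have h2 : blk hk (p⁻¹).1.1 (p⁻¹).2.1 *ᵥ (Cfsg.spToMat m F (psi hk p) *ᵥ v) = v := by
      change blk hk (p⁻¹).1.1 (p⁻¹).2.1 *ᵥ (blk hk p.1.1 p.2.1 *ᵥ v) = v
      rw [Matrix.mulVec_mulVec, ← psi_val, ← psi_val, ← Submonoid.coe_mul, ← map_mul,
        inv_mul_cancel, map_one]
      exact Matrix.one_mulVec v
    rw [h2] at h1
    exact h1

lemma single_mem_W0 (y : Fin k ⊕ Fin k) :
    (Pi.single (e hk (Sum.inl y)) (1 : F) : Fin m ⊕ Fin m → F) ∈ W0 hk := by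
  intro z
  rw [Pi.single_apply, if_neg]
  intro h
  have := (e hk).injective h
  exact Sum.inr_ne_inl this

lemma J_sub : (Matrix.J (Fin m) F).submatrix (e hk) (e hk) =
    Matrix.fromBlocks (Matrix.J (Fin k) F) 0 0 (Matrix.J (Fin (m - k)) F) := by
  rw [blk_J hk]
  unfold blk
  rw [Matrix.submatrix_submatrix]
  simp

lemma psi_surj {g : Matrix.symplecticGroup (Fin m) F}
    (hg : g ∈ Cfsg.stabilizing (Cfsg.spToMat m F) ((W0 (F := F) hk : Submodule F (Fin m ⊕ Fin m → F)) : Set (Fin m ⊕ Fin m → F))) :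
    ∃ p, psi hk p = g := by
  obtain ⟨N, hN⟩ : ∃ N, N = (g : Matrix (Fin m ⊕ Fin m) (Fin m ⊕ Fin m) F).submatrix (e hk) (e hk) :=
    ⟨_, rfl⟩
  have hN21 : N.toBlocks₂₁ = 0 := by
    ext z y
    have h1 := (hg (Pi.single (e hk (Sum.inl y)) 1)).mp (single_mem_W0 hk y) z
    change ((g : Matrix (Fin m ⊕ Fin m) (Fin m ⊕ Fin m) F) *ᵥ _) _ = 0 at h1
    rw [Matrix.mulVec_single_one] at h1
    rw [hN]
    exact h1
  have hsymp : N * Matrix.fromBlocks (Matrix.J (Fin k) F) 0 0 (Matrix.J (Fin (m - k)) F) * Nᵀ =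
      Matrix.fromBlocks (Matrix.J (Fin k) F) 0 0 (Matrix.J (Fin (m - k)) F) := by
    have h1 := SymplecticGroup.mem_iff.mp g.2
    have h2 := congrArg (fun M => M.submatrix (e hk) (e hk)) h1
    rw [← Matrix.submatrix_mul_equiv _ _ (e hk) (e hk) (e hk),
      ← Matrix.submatrix_mul_equiv _ _ (e hk) (e hk) (e hk), J_sub,
      ← Matrix.transpose_submatrix, ← hN] at h2
    exact h2
  have hNb : N = Matrix.fromBlocks N.toBlocks₁₁ N.toBlocks₁₂ 0 N.toBlocks₂₂ := by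
    conv_lhs => rw [← Matrix.fromBlocks_toBlocks N, hN21]
  rw [hNb, Matrix.fromBlocks_transpose, Matrix.fromBlocks_multiply, Matrix.fromBlocks_multiply,
    Matrix.fromBlocks_inj] at hsymp
  obtain ⟨h11, h12, -, h22⟩ := hsymp
  simp only [Matrix.mul_zero, Matrix.zero_mul, add_zero, zero_add, Matrix.transpose_zero] at h11 h12 h22
  have hB : N.toBlocks₂₂ ∈ Matrix.symplecticGroup (Fin (m - k)) F := SymplecticGroup.mem_iff.mpr h22
  have hN12 : N.toBlocks₁₂ = 0 := by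
    obtain ⟨T, hT⟩ : ∃ T : Matrix.symplecticGroup (Fin (m - k)) F,
        T = ⟨N.toBlocks₂₂ᵀ, SymplecticGroup.transpose_mem hB⟩ := ⟨_, rfl⟩
    have hTi : N.toBlocks₂₂ᵀ * ((T⁻¹ : Matrix.symplecticGroup (Fin (m - k)) F) :
        Matrix (Fin (m - k) ⊕ Fin (m - k)) (Fin (m - k) ⊕ Fin (m - k)) F) = 1 := by
      have hTv : (T : Matrix (Fin (m - k) ⊕ Fin (m - k)) (Fin (m - k) ⊕ Fin (m - k)) F) =
          N.toBlocks₂₂ᵀ := by rw [hT]
      have := congrArg Subtype.val (mul_inv_cancel T)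
      rw [Submonoid.coe_mul, hTv, Submonoid.coe_one] at this
      exact this
    have h3 : N.toBlocks₁₂ * Matrix.J (Fin (m - k)) F = 0 := by
      have := congrArg (fun M => M * ((T⁻¹ : Matrix.symplecticGroup (Fin (m - k)) F) :
        Matrix (Fin (m - k) ⊕ Fin (m - k)) (Fin (m - k) ⊕ Fin (m - k)) F)) h12
      rw [Matrix.mul_assoc, hTi, Matrix.mul_one, Matrix.zero_mul] at this
      exact this
    have h4 := congrArg (fun M => M * Matrix.J (Fin (m - k)) F) h3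
    rw [Matrix.mul_assoc, Matrix.J_squared, Matrix.zero_mul, Matrix.mul_neg, Matrix.mul_one,
      neg_eq_zero] at h4
    exact h4
  rw [hN12] at h11
  simp only [Matrix.mul_zero, Matrix.zero_mul, add_zero, Matrix.transpose_zero] at h11
  have hA : N.toBlocks₁₁ ∈ Matrix.symplecticGroup (Fin k) F := SymplecticGroup.mem_iff.mpr h11
  refine ⟨(⟨N.toBlocks₁₁, hA⟩, ⟨N.toBlocks₂₂, hB⟩), ?_⟩
  apply Subtype.ext
  rw [psi_val]
  unfold blk
  change (Matrix.fromBlocks N.toBlocks₁₁ 0 0 N.toBlocks₂₂).submatrix _ _ = _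
  rw [← hN12, ← hNb, hN, Matrix.submatrix_submatrix]
  simp

end Hom

section Geo
variable {F : Type*} [Field F] {m k : ℕ} (hk : k ≤ m)

lemma sympForm_split (x y : Fin m ⊕ Fin m → F) :
    sympForm m F x y = sympForm k F ((x ∘ e hk) ∘ Sum.inl) ((y ∘ e hk) ∘ Sum.inl) +
      sympForm (m - k) F ((x ∘ e hk) ∘ Sum.inr) ((y ∘ e hk) ∘ Sum.inr) := by
  unfold sympForm
  rw [blk_J hk]
  rw [dotProduct, ← Equiv.sum_comp (e hk), Fintype.sum_sum_type]
  simp only [blk_mulVec, Matrix.fromBlocks_mulVec, Sum.elim_inl, Sum.elim_inr, Matrix.zero_mulVec,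
    add_zero, zero_add]
  rfl

/-- embedding of the small space -/
def iota : (Fin k ⊕ Fin k → F) →ₗ[F] (Fin m ⊕ Fin m → F) where
  toFun u i := Sum.elim u (fun _ => 0) ((e hk).symm i)
  map_add' u u' := by
    funext i
    rcases h : (e hk).symm i with x | z <;> simp [h]
  map_smul' c u := by
    funext i
    rcases h : (e hk).symm i with x | z <;> simp [h]

lemma iota_inl (u : Fin k ⊕ Fin k → F) (x : Fin k ⊕ Fin k) :
    iota hk u (e hk (Sum.inl x)) = u x := by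
  change Sum.elim u (fun _ => 0) ((e hk).symm (e hk (Sum.inl x))) = u x
  rw [Equiv.symm_apply_apply]; rfl

lemma iota_inr (u : Fin k ⊕ Fin k → F) (z : Fin (m - k) ⊕ Fin (m - k)) :
    iota hk u (e hk (Sum.inr z)) = 0 := by
  change Sum.elim u (fun _ => 0) ((e hk).symm (e hk (Sum.inr z))) = 0
  rw [Equiv.symm_apply_apply]; rfl

lemma iota_injective : Function.Injective (iota (F := F) hk) := by
  intro u u' h
  funext x
  rw [← iota_inl hk u x, ← iota_inl hk u' x, h]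

lemma range_iota : LinearMap.range (iota (F := F) hk) = W0 hk := by
  ext v
  constructor
  · rintro ⟨u, rfl⟩ z
    exact iota_inr hk u z
  · intro hv
    refine ⟨(v ∘ e hk) ∘ Sum.inl, ?_⟩
    funext i
    obtain ⟨y, rfl⟩ := (e hk).surjective i
    rcases y with y | z
    · rw [iota_inl]; rfl
    · rw [iota_inr, hv z]

lemma finrank_W0 : Module.finrank F (W0 (F := F) hk) = 2 * k := by
  rw [← range_iota, LinearMap.finrank_range_of_inj (iota_injective hk),
    Module.finrank_fintype_fun_eq_card, Fintype.card_sum, Fintype.card_fin]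
  ring

lemma ND_W0 : ND (W0 (F := F) hk) := by
  intro x hx hx0
  have hu : (x ∘ e hk) ∘ Sum.inl ≠ 0 := by
    intro h
    apply hx0
    funext i
    obtain ⟨y, rfl⟩ := (e hk).surjective i
    rcases y with y | z
    · exact congrFun h y
    · exact hx z
  obtain ⟨u', hu'⟩ := sympForm_nondeg _ hu
  refine ⟨iota hk u', ?_, ?_⟩
  · rw [← range_iota]; exact ⟨u', rfl⟩
  · rw [sympForm_split hk]
    have h1 : (iota hk u' ∘ e hk) ∘ Sum.inl = u' := funext (fun y => iota_inl hk u' y)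
    have h2 : (x ∘ e hk) ∘ Sum.inr = 0 := funext (fun z => hx z)
    rw [h1, h2, sympForm_zero_left, add_zero]
    exact hu'

lemma inv_mulVec (A : Matrix.symplecticGroup (Fin m) F) (v : Fin m ⊕ Fin m → F) :
    ((A⁻¹ : Matrix.symplecticGroup (Fin m) F) : Matrix (Fin m ⊕ Fin m) (Fin m ⊕ Fin m) F) *ᵥ
      ((A : Matrix (Fin m ⊕ Fin m) (Fin m ⊕ Fin m) F) *ᵥ v) = v := by
  rw [Matrix.mulVec_mulVec, ← Submonoid.coe_mul, inv_mul_cancel, Submonoid.coe_one,
    Matrix.one_mulVec]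

lemma mul_inv_mulVec' (A : Matrix.symplecticGroup (Fin m) F) (v : Fin m ⊕ Fin m → F) :
    (A : Matrix (Fin m ⊕ Fin m) (Fin m ⊕ Fin m) F) *ᵥ
      (((A⁻¹ : Matrix.symplecticGroup (Fin m) F) : Matrix (Fin m ⊕ Fin m) (Fin m ⊕ Fin m) F) *ᵥ v)
        = v := by
  rw [Matrix.mulVec_mulVec, ← Submonoid.coe_mul, mul_inv_cancel, Submonoid.coe_one,
    Matrix.one_mulVec]

lemma exists_A (W : Submodule F (Fin m ⊕ Fin m → F)) (hWk : Module.finrank F W = 2 * k)
    (hW : ∀ u ∈ W, (∀ v ∈ W, sympForm m F u v = 0) → u = 0) :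
    ∃ A : Matrix.symplecticGroup (Fin m) F, ∀ v, v ∈ W ↔
      (A : Matrix (Fin m ⊕ Fin m) (Fin m ⊕ Fin m) F) *ᵥ v ∈ W0 hk := by
  have hND : ND W := by
    intro x hx hx0
    by_contra h
    push Not at h
    exact hx0 (hW x hx h)
  have hTop : ND (⊤ : Submodule F (Fin m ⊕ Fin m → F)) := by
    intro x _ hx0
    obtain ⟨a, ha⟩ := sympForm_nondeg x hx0
    exact ⟨a, trivial, ha⟩
  obtain ⟨A, -, hA⟩ := witt_nd (2 * k) ⊤ W (W0 hk) hTop le_top le_top hND (ND_W0 hk) hWk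
    (finrank_W0 hk)
  have himg : img A W = W0 hk := by
    apply Submodule.eq_of_le_of_finrank_eq
    · intro y hy
      obtain ⟨x, hx, rfl⟩ := mem_img.mp hy
      exact hA x hx
    · rw [finrank_img, hWk, finrank_W0]
  refine ⟨A, fun v => ⟨fun hv => hA v hv, fun hv => ?_⟩⟩
  rw [← himg] at hv
  obtain ⟨x, hx, hxv⟩ := mem_img.mp hv
  have : x = v := by
    rw [← inv_mulVec A x, hxv, inv_mulVec]
  rw [← this]; exact hx

lemma mem_stab' {W : Submodule F (Fin m ⊕ Fin m → F)} {g : Matrix.symplecticGroup (Fin m) F} :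
    g ∈ Cfsg.stabilizing (Cfsg.spToMat m F) (W : Set (Fin m ⊕ Fin m → F)) ↔
      ∀ v, v ∈ W ↔ (g : Matrix (Fin m ⊕ Fin m) (Fin m ⊕ Fin m) F) *ᵥ v ∈ W := Iff.rfl

include hk in
theorem main (W : Submodule F (Fin m ⊕ Fin m → F)) (hWk : Module.finrank F W = 2 * k)
    (hW : ∀ u ∈ W, (∀ v ∈ W, sympForm m F u v = 0) → u = 0) :
    Nonempty (↥(Cfsg.stabilizing (Cfsg.spToMat m F) (W : Set (Fin m ⊕ Fin m → F))) ≃*
      Matrix.symplecticGroup (Fin k) F × Matrix.symplecticGroup (Fin (m - k)) F) := by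
  obtain ⟨A, hA⟩ := exists_A hk W hWk hW
  have key : ∀ g : Matrix.symplecticGroup (Fin m) F,
      g ∈ Cfsg.stabilizing (Cfsg.spToMat m F) (W : Set (Fin m ⊕ Fin m → F)) ↔
      A * g * A⁻¹ ∈ Cfsg.stabilizing (Cfsg.spToMat m F)
        ((W0 (F := F) hk : Submodule F (Fin m ⊕ Fin m → F)) : Set (Fin m ⊕ Fin m → F)) := by
    intro g
    rw [mem_stab', mem_stab']
    have hmul : ∀ w, ((A * g * A⁻¹ : Matrix.symplecticGroup (Fin m) F) :
        Matrix (Fin m ⊕ Fin m) (Fin m ⊕ Fin m) F) *ᵥ w =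
        (A : Matrix (Fin m ⊕ Fin m) (Fin m ⊕ Fin m) F) *ᵥ
          ((g : Matrix (Fin m ⊕ Fin m) (Fin m ⊕ Fin m) F) *ᵥ
            (((A⁻¹ : Matrix.symplecticGroup (Fin m) F) :
              Matrix (Fin m ⊕ Fin m) (Fin m ⊕ Fin m) F) *ᵥ w)) := by
      intro w
      rw [Submonoid.coe_mul, Submonoid.coe_mul, ← Matrix.mulVec_mulVec, ← Matrix.mulVec_mulVec]
    constructor
    · intro hg w
      rw [hmul, ← hA, ← hg, hA, mul_inv_mulVec']
    · intro hg v
      rw [hA v, hg, hmul, inv_mulVec, ← hA]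
  let iso1 : ↥(Cfsg.stabilizing (Cfsg.spToMat m F) (W : Set (Fin m ⊕ Fin m → F))) ≃*
      ↥(Cfsg.stabilizing (Cfsg.spToMat m F)
        ((W0 (F := F) hk : Submodule F (Fin m ⊕ Fin m → F)) : Set (Fin m ⊕ Fin m → F))) :=
    { toFun := fun g => ⟨A * g.1 * A⁻¹, (key g.1).mp g.2⟩
      invFun := fun g => ⟨A⁻¹ * g.1 * A, (key _).mpr (by
        have : A * (A⁻¹ * g.1 * A) * A⁻¹ = g.1 := by group
        rw [this]; exact g.2)⟩
      left_inv := fun g => Subtype.ext (by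
        change A⁻¹ * (A * g.1 * A⁻¹) * A = g.1
        group)
      right_inv := fun g => Subtype.ext (by
        change A * (A⁻¹ * g.1 * A) * A⁻¹ = g.1
        group)
      map_mul' := fun g h => Subtype.ext (by
        change A * (g.1 * h.1) * A⁻¹ = (A * g.1 * A⁻¹) * (A * h.1 * A⁻¹)
        group) }
  let psi' : Matrix.symplecticGroup (Fin k) F × Matrix.symplecticGroup (Fin (m - k)) F →*
      ↥(Cfsg.stabilizing (Cfsg.spToMat m F)
        ((W0 (F := F) hk : Submodule F (Fin m ⊕ Fin m → F)) : Set (Fin m ⊕ Fin m → F))) :=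
    (psi hk).codRestrict _ (psi_mem_stab hk)
  have hbij : Function.Bijective psi' := by
    constructor
    · intro p q h
      exact psi_injective hk (congrArg Subtype.val h)
    · intro g
      obtain ⟨p, hp⟩ := psi_surj hk g.2
      exact ⟨p, Subtype.ext hp⟩
  exact ⟨iso1.trans (MulEquiv.ofBijective psi' hbij).symm⟩

end Geo

end S0776aux
end Aux

/-- If W ≤ F^(2m) is a 2k-dimensional subspace on which the symplectic form is non-degenerate, then the stabiliser of W in Sp_2m(F) is isomorphic to Sp_2k(F) × Sp_(2m−2k)(F). -/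
theorem result {F : Type*} [Field F] (m k : ℕ) (hk : k ≤ m) (W : Submodule F (Fin m ⊕ Fin m → F)) (hWk : Module.finrank F W = 2 * k) (hW : ∀ u ∈ W, (∀ v ∈ W, Cfsg.sympForm m F u v = 0) → u = 0) : Nonempty (↥(Cfsg.stabilizing (Cfsg.spToMat m F) (W : Set (Fin m ⊕ Fin m → F))) ≃* Matrix.symplecticGroup (Fin k) F × Matrix.symplecticGroup (Fin (m - k)) F) := by
  exact S0776aux.main hk W hWk hW

end Cfsg.Agent.S0776
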