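import Cfsg.Statements.S0777
-- import your own Cfsg.Agent.* helpers here

set_option autoImplicit false
open Cfsg

namespace Cfsg.Agent.S0777

open Matrix

section core

variable {F : Type*} [Field F] {m : ℕ}

/-- coordinate axis -/
def ax (x : Fin m ⊕ Fin m) : Set (Fin m ⊕ Fin m → F) :=
  ((Submodule.span F {(Pi.single x (1 : F) : Fin m ⊕ Fin m → F)} :
    Submodule F (Fin m ⊕ Fin m → F)) : Set (Fin m ⊕ Fin m → F))

lemma mem_ax (x : Fin m ⊕ Fin m) (v : Fin m ⊕ Fin m → F) :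
    v ∈ ax x ↔ ∀ z, z ≠ x → v z = 0 := by
  unfold ax
  rw [SetLike.mem_coe, Submodule.mem_span_singleton]
  constructor
  · rintro ⟨a, rfl⟩ z hz
    simp [hz]
  · intro h
    refine ⟨v x, ?_⟩
    funext z
    by_cases hz : z = x
    · subst hz; simp
    · simp [hz, h z hz]

/-- monomial matrix -/
def monMat (σ : Fin m ⊕ Fin m → Fin m ⊕ Fin m) (c : Fin m ⊕ Fin m → F) :
    Matrix (Fin m ⊕ Fin m) (Fin m ⊕ Fin m) F :=
  Matrix.of fun y x => if y = σ x then c x else 0

lemma monMat_apply (σ : Fin m ⊕ Fin m → Fin m ⊕ Fin m) (c : Fin m ⊕ Fin m → F)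
    (y x : Fin m ⊕ Fin m) : monMat σ c y x = if y = σ x then c x else 0 := rfl

lemma monMat_mulVec (σ : Fin m ⊕ Fin m → Fin m ⊕ Fin m) (hσ : Function.Injective σ)
    (c : Fin m ⊕ Fin m → F) (v : Fin m ⊕ Fin m → F) (z : Fin m ⊕ Fin m) :
    (monMat σ c *ᵥ v) (σ z) = c z * v z := by
  rw [Matrix.mulVec, dotProduct, Finset.sum_eq_single z]
  · rw [monMat_apply, if_pos rfl]
  · intro w _ hw
    rw [monMat_apply, if_neg (fun h => hw (hσ h).symm), zero_mul]
  · intro h
    exact absurd (Finset.mem_univ z) h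

lemma mon_ax (σ : Equiv.Perm (Fin m ⊕ Fin m)) (c : Fin m ⊕ Fin m → F) (hc : ∀ x, c x ≠ 0)
    (x : Fin m ⊕ Fin m) (v : Fin m ⊕ Fin m → F) :
    v ∈ ax x ↔ monMat σ c *ᵥ v ∈ ax (σ x) := by
  rw [mem_ax, mem_ax]
  constructor
  · intro h y hy
    obtain ⟨z, rfl⟩ := σ.surjective y
    rw [monMat_mulVec σ σ.injective, h z (fun e => hy (by rw [e])), mul_zero]
  · intro h z hz
    have h1 := h (σ z) (fun e => hz (σ.injective e))
    rw [monMat_mulVec σ σ.injective] at h1
    exact (mul_eq_zero.1 h1).resolve_left (hc z)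

/-- sign of the form on a hyperbolic pair -/
def eps : Fin m ⊕ Fin m → F := Sum.elim (fun _ => -1) (fun _ => 1)

lemma eps_ne_zero (x : Fin m ⊕ Fin m) : eps (F := F) x ≠ 0 := by
  rcases x with i | i <;> simp [eps]

lemma eps_mul_self (x : Fin m ⊕ Fin m) : eps (F := F) x * eps x = 1 := by
  rcases x with i | i <;> simp [eps]

lemma eps_swap (x : Fin m ⊕ Fin m) : eps (F := F) (Sum.swap x) = - eps x := by
  rcases x with i | i <;> simp [eps]

lemma J_apply (x z : Fin m ⊕ Fin m) :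
    Matrix.J (Fin m) F x z = if z = Sum.swap x then eps x else 0 := by
  rcases x with i | i <;> rcases z with j | j <;>
    simp [Matrix.J, eps, Matrix.one_apply, eq_comm, apply_ite]

lemma gram (σ : Fin m ⊕ Fin m → Fin m ⊕ Fin m) (c : Fin m ⊕ Fin m → F)
    (x z : Fin m ⊕ Fin m) :
    ((monMat σ c)ᵀ * Matrix.J (Fin m) F * monMat σ c) x z =
      c x * Matrix.J (Fin m) F (σ x) (σ z) * c z := by
  rw [Matrix.mul_apply, Finset.sum_eq_single (σ z)]
  · rw [monMat_apply, if_pos rfl, Matrix.mul_apply, Finset.sum_eq_single (σ x)]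
    · rw [Matrix.transpose_apply, monMat_apply, if_pos rfl]
    · intro w _ hw
      rw [Matrix.transpose_apply, monMat_apply, if_neg hw, zero_mul]
    · intro h
      exact absurd (Finset.mem_univ _) h
  · intro w _ hw
    rw [monMat_apply, if_neg hw, mul_zero]
  · intro h
    exact absurd (Finset.mem_univ _) h

lemma mon_mem_iff (σ : Equiv.Perm (Fin m ⊕ Fin m)) (c : Fin m ⊕ Fin m → F) :
    monMat σ c ∈ Matrix.symplecticGroup (Fin m) F ↔
      (∀ x, σ (Sum.swap x) = Sum.swap (σ x)) ∧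
        ∀ x, c x * c (Sum.swap x) * eps (σ x) = eps x := by
  rw [SymplecticGroup.mem_iff']
  constructor
  · intro h
    have h1 : ∀ x, σ (Sum.swap x) = Sum.swap (σ x) ∧
        c x * c (Sum.swap x) * eps (σ x) = eps x := by
      intro x
      have h2 := congrFun (congrFun h x) (Sum.swap x)
      rw [gram, J_apply, J_apply, if_pos rfl] at h2
      by_cases h3 : σ (Sum.swap x) = Sum.swap (σ x)
      · rw [if_pos h3] at h2
        refine ⟨h3, ?_⟩
        rw [← h2]
        ring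
      · rw [if_neg h3, mul_zero, zero_mul] at h2
        exact absurd h2.symm (eps_ne_zero x)
    exact ⟨fun x => (h1 x).1, fun x => (h1 x).2⟩
  · rintro ⟨h1, h2⟩
    ext x z
    rw [gram, J_apply, J_apply]
    by_cases hz : z = Sum.swap x
    · subst hz
      rw [if_pos (h1 x), if_pos rfl, ← h2 x]
      ring
    · rw [if_neg hz, if_neg, mul_zero, zero_mul]
      intro h
      rw [← h1 x] at h
      exact hz (σ.injective h)


lemma mul_monMat (B : Matrix (Fin m ⊕ Fin m) (Fin m ⊕ Fin m) F)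
    (σ : Fin m ⊕ Fin m → Fin m ⊕ Fin m) (c : Fin m ⊕ Fin m → F) (x z : Fin m ⊕ Fin m) :
    (B * monMat σ c) x z = B x (σ z) * c z := by
  rw [Matrix.mul_apply, Finset.sum_eq_single (σ z)]
  · rw [monMat_apply, if_pos rfl]
  · intro w _ hw
    rw [monMat_apply, if_neg hw, mul_zero]
  · intro h
    exact absurd (Finset.mem_univ _) h

/-- the torus -/
def Tor (m : ℕ) (F : Type*) [Field F] : Subgroup (Matrix.symplecticGroup (Fin m) F) :=
  ⨅ i : Fin m ⊕ Fin m, Cfsg.stabilizing (Cfsg.spToMat m F) (ax i)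

lemma mem_Tor (g : Matrix.symplecticGroup (Fin m) F) :
    g ∈ Tor m F ↔ ∀ x v, v ∈ ax x ↔ g.1 *ᵥ v ∈ ax x := by
  unfold Tor
  rw [Subgroup.mem_iInf]
  exact Iff.rfl

lemma val_mul_inv (g : Matrix.symplecticGroup (Fin m) F) : g.1 * (g⁻¹).1 = 1 := by
  have h : (g * g⁻¹).1 = 1 := by rw [mul_inv_cancel]; rfl
  exact h

lemma val_inv_mul (g : Matrix.symplecticGroup (Fin m) F) : (g⁻¹).1 * g.1 = 1 := by
  have h : (g⁻¹ * g).1 = 1 := by rw [inv_mul_cancel]; rfl
  exact h

lemma mon_normalizes (g : Matrix.symplecticGroup (Fin m) F) (σ : Equiv.Perm (Fin m ⊕ Fin m))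
    (c : Fin m ⊕ Fin m → F) (hc : ∀ x, c x ≠ 0) (hg : g.1 = monMat σ c) :
    g ∈ Subgroup.normalizer (Tor m F : Set (Matrix.symplecticGroup (Fin m) F)) := by
  rw [Subgroup.mem_set_normalizer_iff]
  intro n
  rw [SetLike.mem_coe, SetLike.mem_coe, mem_Tor, mem_Tor]
  have hax : ∀ x v, v ∈ ax x ↔ g.1 *ᵥ v ∈ ax (σ x) := by
    intro x v
    rw [hg]
    exact mon_ax σ c hc x v
  have hmul : ∀ v, (g * n * g⁻¹).1 *ᵥ v = g.1 *ᵥ (n.1 *ᵥ ((g⁻¹).1 *ᵥ v)) := by
    intro v
    rw [Matrix.mulVec_mulVec, Matrix.mulVec_mulVec]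
    rfl
  have h1 : ∀ v, g.1 *ᵥ ((g⁻¹).1 *ᵥ v) = v := by
    intro v
    rw [Matrix.mulVec_mulVec, val_mul_inv, Matrix.one_mulVec]
  have h2 : ∀ v, (g⁻¹).1 *ᵥ (g.1 *ᵥ v) = v := by
    intro v
    rw [Matrix.mulVec_mulVec, val_inv_mul, Matrix.one_mulVec]
  constructor
  · intro hn y v
    obtain ⟨x, rfl⟩ := σ.surjective y
    rw [hmul, ← hax, ← hn x, hax x, h1]
  · intro h x v
    rw [hax x v, h (σ x) (g.1 *ᵥ v), hmul, h2, ← hax]

lemma exists_scalar [Fintype F] (hq : 4 ≤ Fintype.card F) : ∃ a : F, a ≠ 0 ∧ a * a ≠ 1 := by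
  classical
  by_contra hcon
  push Not at hcon
  have h1 : (Finset.univ : Finset F) ⊆ {0, 1, -1} := by
    intro a _
    by_cases ha : a = 0
    · simp [ha]
    · have := hcon a ha
      rcases mul_self_eq_one_iff.1 this with h | h
      · simp [h]
      · simp [h]
  have h2 := Finset.card_le_card h1
  rw [Finset.card_univ] at h2
  have h3 : ({0, 1, -1} : Finset F).card ≤ 3 := Finset.card_le_three
  omega

/-- the diagonal of a basic torus element -/
def hdiag (a : F) (y : Fin m ⊕ Fin m) : Fin m ⊕ Fin m → F :=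
  fun w => if w = y then a else if w = Sum.swap y then a⁻¹ else 1

lemma swap_ne (x : Fin m ⊕ Fin m) : Sum.swap x ≠ x := by
  rcases x with i | i <;> simp

lemma hdiag_mul (a : F) (ha : a ≠ 0) (y x : Fin m ⊕ Fin m) :
    hdiag a y x * hdiag a y (Sum.swap x) = 1 := by
  unfold hdiag
  by_cases h1 : x = y
  · subst h1
    rw [if_pos rfl, if_neg (swap_ne x), if_pos rfl, mul_inv_cancel₀ ha]
  · by_cases h2 : x = Sum.swap y
    · subst h2
      rw [if_neg h1, if_pos rfl, Sum.swap_swap, if_pos rfl, inv_mul_cancel₀ ha]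
    · have h3 : Sum.swap x ≠ y := fun h => h2 (by rw [← h, Sum.swap_swap])
      have h4 : Sum.swap x ≠ Sum.swap y := fun h => h1 (by
        have := congrArg Sum.swap h
        rwa [Sum.swap_swap, Sum.swap_swap] at this)
      rw [if_neg h1, if_neg h2, if_neg h3, if_neg h4, mul_one]

lemma hdiag_ne_zero (a : F) (ha : a ≠ 0) (y x : Fin m ⊕ Fin m) : hdiag a y x ≠ 0 := by
  unfold hdiag
  split_ifs
  · exact ha
  · exact inv_ne_zero ha
  · exact one_ne_zero

lemma hdiag_mem (a : F) (ha : a ≠ 0) (y : Fin m ⊕ Fin m) :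
    monMat (1 : Equiv.Perm (Fin m ⊕ Fin m)) (hdiag a y) ∈ Matrix.symplecticGroup (Fin m) F := by
  rw [mon_mem_iff]
  refine ⟨fun x => rfl, fun x => ?_⟩
  rw [hdiag_mul a ha, one_mul]
  rfl

lemma mon_one_mem_Tor (g : Matrix.symplecticGroup (Fin m) F) (c : Fin m ⊕ Fin m → F)
    (hc : ∀ x, c x ≠ 0) (hg : g.1 = monMat (1 : Equiv.Perm (Fin m ⊕ Fin m)) c) :
    g ∈ Tor m F := by
  rw [mem_Tor]
  intro x v
  rw [hg]
  exact mon_ax 1 c hc x v

lemma single_mem_ax (x : Fin m ⊕ Fin m) : (Pi.single x (1 : F) : Fin m ⊕ Fin m → F) ∈ ax x := by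
  rw [mem_ax]
  intro z hz
  rw [Pi.single_apply, if_neg hz]

/-- Step B: elements of the normalizer are monomial -/
lemma normalizer_mon [Fintype F] (hq : 4 ≤ Fintype.card F)
    (g : Matrix.symplecticGroup (Fin m) F)
    (hg : g ∈ Subgroup.normalizer (Tor m F : Set (Matrix.symplecticGroup (Fin m) F)))
    (x : Fin m ⊕ Fin m) :
    ∃ y, g.1 y x ≠ 0 ∧ ∀ z, z ≠ y → g.1 z x = 0 := by
  obtain ⟨a, ha0, ha1⟩ := exists_scalar hq
  have hcol : ∀ w, (g.1 *ᵥ (Pi.single x (1 : F) : Fin m ⊕ Fin m → F)) w = g.1 w x := by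
    intro w
    rw [Matrix.mulVec_single_one]
    rfl
  have hne : ∃ y, g.1 y x ≠ 0 := by
    by_contra hcon
    push Not at hcon
    have h0 : g.1 *ᵥ (Pi.single x (1 : F) : Fin m ⊕ Fin m → F) = 0 := by
      funext w
      rw [hcol, hcon w]
      rfl
    have h1 : (g⁻¹).1 *ᵥ (g.1 *ᵥ (Pi.single x (1 : F) : Fin m ⊕ Fin m → F)) =
        Pi.single x (1 : F) := by
      rw [Matrix.mulVec_mulVec, val_inv_mul, Matrix.one_mulVec]
    rw [h0, Matrix.mulVec_zero] at h1
    have h2 := congrFun h1 x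
    rw [Pi.single_eq_same] at h2
    exact zero_ne_one h2
  obtain ⟨y, hy⟩ := hne
  refine ⟨y, hy, ?_⟩
  intro z hzy
  by_contra hz
  -- the torus element
  let t : Matrix.symplecticGroup (Fin m) F := ⟨_, hdiag_mem a ha0 y⟩
  have ht : t ∈ Tor m F := mon_one_mem_Tor t (hdiag a y) (hdiag_ne_zero a ha0 y) rfl
  have hn : g⁻¹ * t * g ∈ Tor m F :=
    (Subgroup.mem_set_normalizer_iff''.1 hg t).1 ht
  have hn1 := ((mem_Tor _).1 hn x (Pi.single x 1)).1 (single_mem_ax x)
  rw [mem_ax] at hn1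
  set lam : F := ((g⁻¹ * t * g).1 *ᵥ (Pi.single x (1 : F) : Fin m ⊕ Fin m → F)) x with hlam
  have hn2 : (g⁻¹ * t * g).1 *ᵥ (Pi.single x (1 : F) : Fin m ⊕ Fin m → F) =
      lam • (Pi.single x (1 : F) : Fin m ⊕ Fin m → F) := by
    funext w
    by_cases hw : w = x
    · subst hw
      rw [Pi.smul_apply, Pi.single_eq_same, smul_eq_mul, mul_one]
    · rw [hn1 w hw, Pi.smul_apply, Pi.single_apply, if_neg hw, smul_zero]
  have hcomm : g.1 * (g⁻¹ * t * g).1 = t.1 * g.1 := by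
    have : g * (g⁻¹ * t * g) = t * g := by group
    exact congrArg Subtype.val this
  have hkey : t.1 *ᵥ (g.1 *ᵥ (Pi.single x (1 : F) : Fin m ⊕ Fin m → F)) =
      lam • (g.1 *ᵥ (Pi.single x (1 : F) : Fin m ⊕ Fin m → F)) := by
    rw [Matrix.mulVec_mulVec, ← hcomm, ← Matrix.mulVec_mulVec, hn2, Matrix.mulVec_smul]
  have hcoord : ∀ w, hdiag a y w * g.1 w x = lam * g.1 w x := by
    intro w
    have h1 := congrFun hkey w
    have h2 : (t.1 *ᵥ (g.1 *ᵥ (Pi.single x (1 : F) : Fin m ⊕ Fin m → F))) w =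
        hdiag a y w * (g.1 *ᵥ (Pi.single x (1 : F) : Fin m ⊕ Fin m → F)) w :=
      monMat_mulVec (fun u => u) (fun _ _ h => h) (hdiag a y) _ w
    rw [h2, Pi.smul_apply, smul_eq_mul, hcol] at h1
    exact h1
  have h3 : hdiag a y y = lam := mul_right_cancel₀ hy (hcoord y)
  have h4 : hdiag a y z = lam := mul_right_cancel₀ hz (hcoord z)
  have h5 : hdiag a y z = a := by
    rw [h4, ← h3]
    unfold hdiag
    rw [if_pos rfl]
  unfold hdiag at h5
  rw [if_neg hzy] at h5
  split_ifs at h5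
  · apply ha1
    nth_rewrite 1 [← h5]
    exact inv_mul_cancel₀ ha0
  · apply ha1
    rw [← h5, mul_one]


/-- the involution as a permutation -/
def swapPerm (m : ℕ) : Equiv.Perm (Fin m ⊕ Fin m) := Equiv.sumComm (Fin m) (Fin m)

lemma swapPerm_apply (x : Fin m ⊕ Fin m) : swapPerm m x = Sum.swap x := rfl

lemma mem_cent (σ : Equiv.Perm (Fin m ⊕ Fin m)) :
    σ ∈ Subgroup.centralizer {swapPerm m} ↔ ∀ x, σ (Sum.swap x) = Sum.swap (σ x) := by
  rw [Subgroup.mem_centralizer_singleton_iff]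
  constructor
  · intro h x
    have h1 := congrArg (fun f : Equiv.Perm (Fin m ⊕ Fin m) => f x) h
    exact h1
  · intro h
    ext x
    exact h x

/-- the coefficients of a monomial symplectic matrix -/
def cf (σ : Equiv.Perm (Fin m ⊕ Fin m)) (a : Fin m → Fˣ) : Fin m ⊕ Fin m → F :=
  Sum.elim (fun i => (a i : F)) (fun i => - eps (σ (Sum.inl i)) * ((a i : F))⁻¹)

lemma cf_ne_zero (σ : Equiv.Perm (Fin m ⊕ Fin m)) (a : Fin m → Fˣ) (x : Fin m ⊕ Fin m) :
    cf σ a x ≠ 0 := by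
  rcases x with i | i
  · exact (a i).ne_zero
  · show - eps (σ (Sum.inl i)) * ((a i : F))⁻¹ ≠ 0
    exact mul_ne_zero (neg_ne_zero.2 (eps_ne_zero _)) (inv_ne_zero (a i).ne_zero)

lemma cf_constraint (σ : Equiv.Perm (Fin m ⊕ Fin m))
    (hσ : ∀ x, σ (Sum.swap x) = Sum.swap (σ x)) (a : Fin m → Fˣ) (x : Fin m ⊕ Fin m) :
    cf σ a x * cf σ a (Sum.swap x) * eps (σ x) = eps x := by
  have ha : ∀ i, (a i : F) ≠ 0 := fun i => (a i).ne_zero
  rcases x with i | i
  · show (a i : F) * (- eps (σ (Sum.inl i)) * ((a i : F))⁻¹) * eps (σ (Sum.inl i)) = -1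
    have e2 := eps_mul_self (F := F) (σ (Sum.inl i))
    calc (a i : F) * (- eps (σ (Sum.inl i)) * ((a i : F))⁻¹) * eps (σ (Sum.inl i))
        = - (((a i : F) * ((a i : F))⁻¹) * (eps (σ (Sum.inl i)) * eps (σ (Sum.inl i)))) := by ring
      _ = -1 := by rw [mul_inv_cancel₀ (ha i), e2, mul_one]
  · show (- eps (σ (Sum.inl i)) * ((a i : F))⁻¹) * (a i : F) * eps (σ (Sum.inr i)) = 1
    have e1 : eps (F := F) (σ (Sum.inr i)) = - eps (σ (Sum.inl i)) := by
      have := hσ (Sum.inl i)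
      rw [Sum.swap_inl] at this
      rw [this, eps_swap]
    have e2 := eps_mul_self (F := F) (σ (Sum.inl i))
    rw [e1]
    calc (- eps (σ (Sum.inl i)) * ((a i : F))⁻¹) * (a i : F) * (- eps (σ (Sum.inl i)))
        = ((a i : F))⁻¹ * (a i : F) * (eps (σ (Sum.inl i)) * eps (σ (Sum.inl i))) := by ring
      _ = 1 := by rw [inv_mul_cancel₀ (ha i), e2, mul_one]

/-- the parametrization of the normalizer -/
def psi (p : ↥(Subgroup.centralizer {swapPerm m}) × (Fin m → Fˣ)) :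
    ↥(Subgroup.normalizer (Tor m F : Set (Matrix.symplecticGroup (Fin m) F))) :=
  ⟨⟨monMat p.1.1 (cf p.1.1 p.2), (mon_mem_iff _ _).2
    ⟨(mem_cent _).1 p.1.2, cf_constraint _ ((mem_cent _).1 p.1.2) _⟩⟩,
    mon_normalizes _ p.1.1 (cf p.1.1 p.2) (cf_ne_zero _ _) rfl⟩

lemma monMat_inj (σ σ' : Fin m ⊕ Fin m → Fin m ⊕ Fin m) (c c' : Fin m ⊕ Fin m → F)
    (hc : ∀ x, c x ≠ 0) (h : monMat σ c = monMat σ' c') : σ = σ' ∧ c = c' := by
  have h1 : ∀ x, σ x = σ' x ∧ c x = c' x := by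
    intro x
    have h2 := congrFun (congrFun h (σ x)) x
    rw [monMat_apply, monMat_apply, if_pos rfl] at h2
    by_cases h3 : σ x = σ' x
    · rw [if_pos h3] at h2
      exact ⟨h3, h2⟩
    · rw [if_neg h3] at h2
      exact absurd h2 (hc x)
  exact ⟨funext fun x => (h1 x).1, funext fun x => (h1 x).2⟩

lemma psi_injective : Function.Injective (psi (F := F) (m := m)) := by
  rintro ⟨⟨σ, hσ⟩, a⟩ ⟨⟨σ', hσ'⟩, a'⟩ h
  have h1 : monMat σ (cf (F := F) σ a) = monMat σ' (cf σ' a') :=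
    congrArg (fun g : ↥(Subgroup.normalizer (Tor m F : Set (Matrix.symplecticGroup (Fin m) F))) =>
      g.1.1) h
  obtain ⟨h2, h3⟩ := monMat_inj _ _ _ _ (cf_ne_zero σ a) h1
  have h4 : σ = σ' := Equiv.ext (congrFun h2)
  subst h4
  have h5 : a = a' := by
    funext i
    apply Units.ext
    exact congrFun h3 (Sum.inl i)
  subst h5
  rfl

lemma psi_surjective [Fintype F] (hq : 4 ≤ Fintype.card F) :
    Function.Surjective (psi (F := F) (m := m)) := by
  intro g
  choose σ0 hσ0 using normalizer_mon hq g.1 g.2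
  set c0 : Fin m ⊕ Fin m → F := fun x => g.1.1 (σ0 x) x with hc0
  have hg : g.1.1 = monMat σ0 c0 := by
    ext y x
    rw [monMat_apply]
    by_cases h : y = σ0 x
    · rw [if_pos h, h]
    · rw [if_neg h, (hσ0 x).2 y h]
  have hinj : Function.Injective σ0 := by
    intro x x' hxx
    by_contra hne
    have h1 := val_inv_mul g.1
    rw [hg] at h1
    have h2 := congrFun (congrFun h1 x) x
    have h3 := congrFun (congrFun h1 x) x'
    rw [mul_monMat, Matrix.one_apply_eq] at h2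
    rw [mul_monMat, Matrix.one_apply_ne hne, ← hxx] at h3
    rcases mul_eq_zero.1 h3 with h4 | h4
    · rw [h4, zero_mul] at h2
      exact zero_ne_one h2
    · exact (hσ0 x').1 h4
  let σ : Equiv.Perm (Fin m ⊕ Fin m) :=
    Equiv.ofBijective σ0 ⟨hinj, Finite.injective_iff_surjective.1 hinj⟩
  have hmem : monMat σ c0 ∈ Matrix.symplecticGroup (Fin m) F := by
    have : monMat σ c0 = g.1.1 := hg.symm
    rw [this]
    exact g.1.2
  obtain ⟨hσ, hcon⟩ := (mon_mem_iff σ c0).1 hmem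
  let a : Fin m → Fˣ := fun i => Units.mk0 (c0 (Sum.inl i)) (hσ0 _).1
  refine ⟨(⟨σ, (mem_cent σ).2 hσ⟩, a), ?_⟩
  apply Subtype.ext
  apply Subtype.ext
  show monMat σ (cf σ a) = g.1.1
  rw [hg]
  have hcf : cf σ a = c0 := by
    funext x
    rcases x with i | i
    · rfl
    · show - eps (σ (Sum.inl i)) * (c0 (Sum.inl i))⁻¹ = c0 (Sum.inr i)
      have e2 := eps_mul_self (F := F) (σ (Sum.inl i))
      have hA : c0 (Sum.inl i) ≠ 0 := (hσ0 _).1
      have h1 : c0 (Sum.inl i) * c0 (Sum.inr i) * eps (σ (Sum.inl i)) = -1 := hcon (Sum.inl i)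
      symm
      calc c0 (Sum.inr i)
          = ((c0 (Sum.inl i))⁻¹ * c0 (Sum.inl i)) * c0 (Sum.inr i) *
              (eps (σ (Sum.inl i)) * eps (σ (Sum.inl i))) := by
            rw [inv_mul_cancel₀ hA, e2, one_mul, mul_one]
        _ = (c0 (Sum.inl i))⁻¹ * (c0 (Sum.inl i) * c0 (Sum.inr i) * eps (σ (Sum.inl i))) *
              eps (σ (Sum.inl i)) := by ring
        _ = - eps (σ (Sum.inl i)) * (c0 (Sum.inl i))⁻¹ := by rw [h1]; ring
  rw [hcf]
  rfl

lemma cycleType_swapPerm : (swapPerm m).cycleType = Multiset.replicate m 2 := by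
  have h2 : swapPerm m ^ 2 = 1 := by
    ext x
    rw [pow_two, Equiv.Perm.mul_apply, swapPerm_apply, swapPerm_apply, Sum.swap_swap]
    rfl
  have hall : ∀ n ∈ (swapPerm m).cycleType, n = 2 := by
    intro n hn
    have h3 := Equiv.Perm.dvd_of_mem_cycleType hn
    have h4 := Equiv.Perm.two_le_of_mem_cycleType hn
    have h5 : orderOf (swapPerm m) ∣ 2 := orderOf_dvd_of_pow_eq_one h2
    have h6 := Nat.le_of_dvd (by norm_num) (dvd_trans h3 h5)
    omega
  have h7 := Multiset.eq_replicate_card.2 hall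
  have h8 := Equiv.Perm.sum_cycleType (swapPerm m)
  have hsupp : (swapPerm m).support = Finset.univ := by
    ext x
    simp only [Equiv.Perm.mem_support, Finset.mem_univ, iff_true]
    rw [swapPerm_apply]
    exact swap_ne x
  rw [hsupp, Finset.card_univ, Fintype.card_sum, Fintype.card_fin, h7, Multiset.sum_replicate,
    smul_eq_mul] at h8
  rw [h7]
  congr 1
  omega

lemma card_cent : Nat.card (Subgroup.centralizer {swapPerm m}) = 2 ^ m * m.factorial := by
  rw [Equiv.Perm.nat_card_centralizer, cycleType_swapPerm, Multiset.sum_replicate,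
    Multiset.prod_replicate, Fintype.card_sum, Fintype.card_fin, smul_eq_mul]
  have h1 : m + m - m * 2 = 0 := by omega
  rw [h1, Nat.factorial_zero, one_mul]
  congr 1
  have hsub : (Multiset.replicate m 2).toFinset ⊆ {2} := by
    intro n hn
    rw [Multiset.mem_toFinset] at hn
    rw [Finset.mem_singleton]
    exact Multiset.eq_of_mem_replicate hn
  rw [Finset.prod_subset hsub, Finset.prod_singleton, Multiset.count_replicate_self]
  intro n hn hn2
  rw [Finset.mem_singleton] at hn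
  subst hn
  rw [Multiset.mem_toFinset] at hn2
  rw [Multiset.count_eq_zero_of_notMem hn2, Nat.factorial_zero]

theorem main0 [Fintype F] (hq : 4 ≤ Fintype.card F) :
    Nat.card ↥(Subgroup.normalizer (Tor m F : Set (Matrix.symplecticGroup (Fin m) F))) =
      2 ^ m * m.factorial * (Fintype.card F - 1) ^ m := by
  rw [← Nat.card_congr (Equiv.ofBijective psi ⟨psi_injective, psi_surjective hq⟩),
    Nat.card_prod, card_cent, Nat.card_fun, Nat.card_units, Nat.card_eq_fintype_card,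
    Nat.card_eq_fintype_card, Fintype.card_fin]


theorem main [Fintype F] {q : ℕ} (hF : Fintype.card F = q) (hq : 4 ≤ q) (m : ℕ) :
    Nat.card ↥(Subgroup.normalizer (⨅ i : Fin m ⊕ Fin m,
      Cfsg.stabilizing (Cfsg.spToMat m F)
        ((Submodule.span F {(Pi.single i (1 : F) : Fin m ⊕ Fin m → F)} :
          Submodule F (Fin m ⊕ Fin m → F)) : Set (Fin m ⊕ Fin m → F)) :
        Set (Matrix.symplecticGroup (Fin m) F))) =
      2 ^ m * Nat.factorial m * (q - 1) ^ m := by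
  subst hF
  have h : (⨅ i : Fin m ⊕ Fin m,
      ((Cfsg.stabilizing (Cfsg.spToMat m F) (ax i) :
        Subgroup (Matrix.symplecticGroup (Fin m) F)) :
        Set (Matrix.symplecticGroup (Fin m) F))) =
      (Tor m F : Set (Matrix.symplecticGroup (Fin m) F)) := by
    unfold Tor
    rw [Subgroup.coe_iInf, Set.iInf_eq_iInter]
  have h1 := main0 (F := F) (m := m) hq
  rw [← h] at h1
  exact h1

end core

/-- Weyl group of type C_m: for q ≥ 4 the diagonal matrices of Sp_2m(q) form a torus T ≅ (C_(q−1))^m (the elements stabilising every coordinate axis), and the normaliser of T in Sp_2m(q) has order 2^m · m! · (q − 1)^m. -/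
theorem result {F : Type*} [Field F] [Fintype F] {q : ℕ} (hF : Fintype.card F = q) (hq : 4 ≤ q) (m : ℕ) : Nat.card ↥(Subgroup.normalizer (⨅ i : Fin m ⊕ Fin m, Cfsg.stabilizing (Cfsg.spToMat m F) ((Submodule.span F {(Pi.single i (1 : F) : Fin m ⊕ Fin m → F)} : Submodule F (Fin m ⊕ Fin m → F)) : Set (Fin m ⊕ Fin m → F)) : Set (Matrix.symplecticGroup (Fin m) F))) = 2 ^ m * Nat.factorial m * (q - 1) ^ m := by
  exact main hF hq m

end Cfsg.Agent.S0777
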