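import Cfsg.Statements.S0778
import Mathlib

set_option autoImplicit false
open Cfsg Matrix

namespace Cfsg.Agent.S0778

section Aux

variable {F : Type*} [Field F] {m : ℕ}

/-- the subgroup in question -/
abbrev S (F : Type*) [Field F] (m : ℕ) : Subgroup (Matrix.symplecticGroup (Fin m) F) :=
  Cfsg.stabilizing (Cfsg.spToMat m F) {v : Fin m ⊕ Fin m → F | ∀ i : Fin m, v (Sum.inr i) = 0} ⊓
  Cfsg.stabilizing (Cfsg.spToMat m F) {v : Fin m ⊕ Fin m → F | ∀ i : Fin m, v (Sum.inl i) = 0}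

/-- block diagonal matrices `diag(A, D)` are symplectic iff `A Dᵀ = 1` and `D Aᵀ = 1` -/
lemma diag_mem_iff (A D : Matrix (Fin m) (Fin m) F) :
    Matrix.fromBlocks A 0 0 D ∈ Matrix.symplecticGroup (Fin m) F ↔ A * Dᵀ = 1 ∧ D * Aᵀ = 1 := by
  rw [SymplecticGroup.mem_iff, Matrix.J, Matrix.fromBlocks_transpose,
    Matrix.fromBlocks_multiply, Matrix.fromBlocks_multiply]
  simp only [Matrix.mul_zero, Matrix.zero_mul, add_zero, zero_add, Matrix.mul_one, Matrix.mul_neg,
    Matrix.neg_mul, Matrix.transpose_zero]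
  rw [Matrix.fromBlocks_inj]
  constructor
  · rintro ⟨-, h1, h2, -⟩
    exact ⟨neg_injective h1, h2⟩
  · rintro ⟨h1, h2⟩
    refine ⟨?_, ?_, ?_, ?_⟩ <;> simp [h1, h2]

lemma diag_mulVec (A D : Matrix (Fin m) (Fin m) F) (v : Fin m ⊕ Fin m → F) :
    Matrix.fromBlocks A 0 0 D *ᵥ v
      = Sum.elim (A *ᵥ (v ∘ Sum.inl)) (D *ᵥ (v ∘ Sum.inr)) := by
  rw [Matrix.fromBlocks_mulVec]
  simp

/-- the embedding of `GL_m` -/
noncomputable def phi (A : Matrix.GeneralLinearGroup (Fin m) F) :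
    ↥(S F m) :=
  ⟨⟨Matrix.fromBlocks (A : Matrix (Fin m) (Fin m) F) 0 0
      ((A⁻¹ : Matrix.GeneralLinearGroup (Fin m) F) : Matrix (Fin m) (Fin m) F)ᵀ, by
    rw [diag_mem_iff, Matrix.transpose_transpose]
    constructor
    · rw [← Units.val_mul, mul_inv_cancel, Units.val_one]
    · rw [← Matrix.transpose_mul, ← Units.val_mul, mul_inv_cancel, Units.val_one,
        Matrix.transpose_one]⟩, by
    have hinjA : ∀ w : Fin m → F, (A : Matrix (Fin m) (Fin m) F) *ᵥ w = 0 → w = 0 := by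
      intro w hw
      have := congrArg (fun z => ((A⁻¹ : Matrix.GeneralLinearGroup (Fin m) F) :
        Matrix (Fin m) (Fin m) F) *ᵥ z) hw
      simp only [Matrix.mulVec_mulVec, Matrix.mulVec_zero] at this
      rwa [← Units.val_mul, inv_mul_cancel, Units.val_one, Matrix.one_mulVec] at this
    have hinjD : ∀ w : Fin m → F,
        ((A⁻¹ : Matrix.GeneralLinearGroup (Fin m) F) : Matrix (Fin m) (Fin m) F)ᵀ *ᵥ w = 0 →
          w = 0 := by
      intro w hw
      have := congrArg (fun z => (A : Matrix (Fin m) (Fin m) F)ᵀ *ᵥ z) hw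
      simp only [Matrix.mulVec_mulVec, Matrix.mulVec_zero] at this
      rwa [← Matrix.transpose_mul, ← Units.val_mul, inv_mul_cancel, Units.val_one,
        Matrix.transpose_one, Matrix.one_mulVec] at this
    constructor
    · intro v
      change (∀ i, v (Sum.inr i) = 0) ↔ ∀ i, (Matrix.fromBlocks _ 0 0 _ *ᵥ v) (Sum.inr i) = 0
      rw [diag_mulVec]
      simp only [Sum.elim_inr]
      constructor
      · intro hv i
        have : v ∘ Sum.inr = 0 := funext hv
        rw [this, Matrix.mulVec_zero]; rfl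
      · intro hv i
        have := hinjD (v ∘ Sum.inr) (funext hv)
        exact congrFun this i
    · intro v
      change (∀ i, v (Sum.inl i) = 0) ↔ ∀ i, (Matrix.fromBlocks _ 0 0 _ *ᵥ v) (Sum.inl i) = 0
      rw [diag_mulVec]
      simp only [Sum.elim_inl]
      constructor
      · intro hv i
        have : v ∘ Sum.inl = 0 := funext hv
        rw [this, Matrix.mulVec_zero]; rfl
      · intro hv i
        have := hinjA (v ∘ Sum.inl) (funext hv)
        exact congrFun this i⟩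

lemma phi_val (A : Matrix.GeneralLinearGroup (Fin m) F) :
    (((phi A : ↥(S F m)) :
      Matrix.symplecticGroup (Fin m) F) : Matrix (Fin m ⊕ Fin m) (Fin m ⊕ Fin m) F)
      = Matrix.fromBlocks (A : Matrix (Fin m) (Fin m) F) 0 0
        ((A⁻¹ : Matrix.GeneralLinearGroup (Fin m) F) : Matrix (Fin m) (Fin m) F)ᵀ := rfl

/-- elements of the stabiliser are block diagonal -/
lemma blocks_of_mem (g : Matrix.symplecticGroup (Fin m) F)
    (hg : g ∈ S F m) :
    (g : Matrix (Fin m ⊕ Fin m) (Fin m ⊕ Fin m) F).toBlocks₂₁ = 0 ∧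
    (g : Matrix (Fin m ⊕ Fin m) (Fin m ⊕ Fin m) F).toBlocks₁₂ = 0 := by
  obtain ⟨h1, h2⟩ := hg
  constructor
  · ext i j
    have := (h1 (Pi.single (Sum.inl j) 1)).1 (by intro i'; simp)
    have h3 := this i
    change ((g : Matrix (Fin m ⊕ Fin m) (Fin m ⊕ Fin m) F) *ᵥ Pi.single (Sum.inl j) 1) (Sum.inr i) = 0
      at h3
    rwa [Matrix.mulVec_single_one] at h3
  · ext i j
    have := (h2 (Pi.single (Sum.inr j) 1)).1 (by intro i'; simp)
    have h3 := this i
    change ((g : Matrix (Fin m ⊕ Fin m) (Fin m ⊕ Fin m) F) *ᵥ Pi.single (Sum.inr j) 1) (Sum.inl i) = 0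
      at h3
    rwa [Matrix.mulVec_single_one] at h3

theorem main : Nonempty (↥(S F m) ≃* Matrix.GeneralLinearGroup (Fin m) F) := by
  have hmul : ∀ A B : Matrix.GeneralLinearGroup (Fin m) F, phi (A * B) = phi A * phi B := by
    intro A B
    apply Subtype.ext
    apply Subtype.ext
    change _ = (((phi A : ↥(S F m)) :
      Matrix.symplecticGroup (Fin m) F) : Matrix (Fin m ⊕ Fin m) (Fin m ⊕ Fin m) F) *
      (((phi B : ↥(S F m)) :
      Matrix.symplecticGroup (Fin m) F) : Matrix (Fin m ⊕ Fin m) (Fin m ⊕ Fin m) F)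
    rw [phi_val, phi_val, phi_val, Matrix.fromBlocks_multiply]
    simp only [Matrix.mul_zero, Matrix.zero_mul, add_zero, zero_add]
    rw [_root_.mul_inv_rev, Units.val_mul, Units.val_mul, Matrix.transpose_mul]
  let f : Matrix.GeneralLinearGroup (Fin m) F →*
      ↥(S F m) :=
    MonoidHom.mk' phi hmul
  have hinj : Function.Injective f := by
    intro A B hAB
    have h1 := congrArg (fun x : ↥(S F m) =>
      ((x : Matrix.symplecticGroup (Fin m) F) :
        Matrix (Fin m ⊕ Fin m) (Fin m ⊕ Fin m) F).toBlocks₁₁) hAB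
    change (Matrix.fromBlocks _ _ _ _).toBlocks₁₁ = (Matrix.fromBlocks _ _ _ _).toBlocks₁₁ at h1
    rw [Matrix.toBlocks_fromBlocks₁₁, Matrix.toBlocks_fromBlocks₁₁] at h1
    exact Units.ext h1
  have hsurj : Function.Surjective f := by
    rintro ⟨g, hg⟩
    obtain ⟨h21, h12⟩ := blocks_of_mem g hg
    have hgM : (g : Matrix (Fin m ⊕ Fin m) (Fin m ⊕ Fin m) F)
        = Matrix.fromBlocks (g : Matrix (Fin m ⊕ Fin m) (Fin m ⊕ Fin m) F).toBlocks₁₁ 0 0
          (g : Matrix (Fin m ⊕ Fin m) (Fin m ⊕ Fin m) F).toBlocks₂₂ := by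
      conv_lhs => rw [← Matrix.fromBlocks_toBlocks (g : Matrix (Fin m ⊕ Fin m) (Fin m ⊕ Fin m) F),
        h21, h12]
    have hsymp := g.2
    rw [hgM, diag_mem_iff] at hsymp
    obtain ⟨hAD, hDA⟩ := hsymp
    set A := (g : Matrix (Fin m ⊕ Fin m) (Fin m ⊕ Fin m) F).toBlocks₁₁ with hA
    set D := (g : Matrix (Fin m ⊕ Fin m) (Fin m ⊕ Fin m) F).toBlocks₂₂ with hD
    have hDA' : Dᵀ * A = 1 := mul_eq_one_comm.1 hAD
    let Au : Matrix.GeneralLinearGroup (Fin m) F := ⟨A, Dᵀ, hAD, hDA'⟩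
    refine ⟨Au, ?_⟩
    apply Subtype.ext
    apply Subtype.ext
    change Matrix.fromBlocks A 0 0 (Dᵀ)ᵀ = (g : Matrix (Fin m ⊕ Fin m) (Fin m ⊕ Fin m) F)
    rw [Matrix.transpose_transpose, hgM]
  exact ⟨(MulEquiv.ofBijective f ⟨hinj, hsurj⟩).symm⟩

end Aux

/-- The elements of Sp_2m(F) stabilising both W = ⟨e_1..e_m⟩ and U = ⟨f_1..f_m⟩ form a subgroup isomorphic to GL_m(F) (block-diagonal matrices diag(X, X^(−ᵀ)) up to the sign convention of J), for m ≥ 1 or m = 0 alike. -/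
theorem result {F : Type*} [Field F] (m : ℕ) : Nonempty (↥(Cfsg.stabilizing (Cfsg.spToMat m F) {v : Fin m ⊕ Fin m → F | ∀ i : Fin m, v (Sum.inr i) = 0} ⊓ Cfsg.stabilizing (Cfsg.spToMat m F) {v : Fin m ⊕ Fin m → F | ∀ i : Fin m, v (Sum.inl i) = 0}) ≃* Matrix.GeneralLinearGroup (Fin m) F) := by
  exact main

end Cfsg.Agent.S0778
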