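import Cfsg.Statements.S0779
-- import your own Cfsg.Agent.* helpers here

set_option autoImplicit false
open Cfsg

namespace Cfsg.Agent.S0779

open Matrix in
theorem unitaryTransvection_mulVec {F : Type*} [Field F] (n q : ℕ) (v x : Fin n → F) (c : F) :
    Cfsg.unitaryTransvection n q v c *ᵥ x = x + (c * Cfsg.hermForm n F q x v) • v := by
  unfold Cfsg.unitaryTransvection Cfsg.hermForm
  rw [Matrix.add_mulVec, Matrix.one_mulVec, Matrix.smul_mulVec, Matrix.vecMulVec_mulVec]
  congr 1
  ext i
  simp only [Pi.smul_apply, smul_eq_mul, MulOpposite.smul_eq_mul_unop, MulOpposite.unop_op,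
    dotProduct]
  have : ∑ j, v j ^ q * x j = ∑ j, x j * v j ^ q :=
    Finset.sum_congr rfl (fun j _ => mul_comm _ _)
  rw [this]
  ring

theorem hermForm_add_left {F : Type*} [Field F] (n q : ℕ) (x y z : Fin n → F) :
    Cfsg.hermForm n F q (x + y) z = Cfsg.hermForm n F q x z + Cfsg.hermForm n F q y z := by
  unfold Cfsg.hermForm
  rw [← Finset.sum_add_distrib]
  exact Finset.sum_congr rfl (fun i _ => by simp only [Pi.add_apply]; ring)

theorem hermForm_smul_left {F : Type*} [Field F] (n q : ℕ) (a : F) (x z : Fin n → F) :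
    Cfsg.hermForm n F q (a • x) z = a * Cfsg.hermForm n F q x z := by
  unfold Cfsg.hermForm
  rw [Finset.mul_sum]
  exact Finset.sum_congr rfl (fun i _ => by simp only [Pi.smul_apply, smul_eq_mul]; ring)

/-- Unitary transvections: let |F| = q², h the standard Hermitian form Σ x_i y_i^q and v ≠ 0 with h(v, v) = 0. The linear map x ↦ x + c h(x, v) v is an isometry of h if and only if c = 0 or c^(q−1) = −1. -/
theorem result {F : Type*} [Field F] [Fintype F] {q : ℕ} (hF : Fintype.card F = q ^ 2) (n : ℕ) (v : Fin n → F) (hv : v ≠ 0) (hv0 : Cfsg.hermForm n F q v v = 0) (c : F) : (∀ x y : Fin n → F, Cfsg.hermForm n F q ((Cfsg.unitaryTransvection n q v c).mulVec x) ((Cfsg.unitaryTransvection n q v c).mulVec y) = Cfsg.hermForm n F q x y) ↔ (c = 0 ∨ c ^ (q - 1) = -1) := by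
  classical
  -- characteristic data
  obtain ⟨p, hchar⟩ := CharP.exists F
  obtain ⟨k, hp, hcard⟩ := FiniteField.card F p
  haveI : Fact p.Prime := ⟨hp⟩
  have hq0 : q ≠ 0 := by
    rintro rfl
    have : 0 < Fintype.card F := Fintype.card_pos
    rw [hF] at this
    simp at this
  obtain ⟨j, hj⟩ : ∃ j, q = p ^ j := by
    have hdvd : q ∣ p ^ (k : ℕ) := by
      rw [← hcard, hF]; exact Dvd.intro_left _ (by ring)
    obtain ⟨j, -, hj⟩ := (Nat.dvd_prime_pow hp).mp hdvd
    exact ⟨j, hj⟩
  -- the Frobenius x ↦ x ^ q
  have hadd : ∀ a b : F, (a + b) ^ q = a ^ q + b ^ q := by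
    intro a b; rw [hj]; exact add_pow_char_pow a b p j
  have hsum : ∀ (f : Fin n → F), (∑ i, f i) ^ q = ∑ i, f i ^ q := by
    intro f; rw [hj]; exact sum_pow_char_pow p j _ f
  have hqq : ∀ a : F, (a ^ q) ^ q = a := by
    intro a
    rw [← pow_mul, ← pow_two, ← hF]
    exact FiniteField.pow_card a
  -- sesquilinearity in the second variable
  have hadd_right : ∀ x y z : Fin n → F, Cfsg.hermForm n F q x (y + z)
      = Cfsg.hermForm n F q x y + Cfsg.hermForm n F q x z := by
    intro x y z
    unfold Cfsg.hermForm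
    rw [← Finset.sum_add_distrib]
    exact Finset.sum_congr rfl (fun i _ => by simp only [Pi.add_apply, hadd]; ring)
  have hsmul_right : ∀ (a : F) (x z : Fin n → F), Cfsg.hermForm n F q x (a • z)
      = a ^ q * Cfsg.hermForm n F q x z := by
    intro a x z
    unfold Cfsg.hermForm
    rw [Finset.mul_sum]
    exact Finset.sum_congr rfl (fun i _ => by simp only [Pi.smul_apply, smul_eq_mul, mul_pow]; ring)
  have hconj : ∀ x y : Fin n → F, (Cfsg.hermForm n F q x y) ^ q = Cfsg.hermForm n F q y x := by
    intro x y
    unfold Cfsg.hermForm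
    rw [hsum]
    exact Finset.sum_congr rfl (fun i _ => by rw [mul_pow, hqq]; ring)
  -- the key identity
  have key : ∀ x y : Fin n → F,
      Cfsg.hermForm n F q ((Cfsg.unitaryTransvection n q v c).mulVec x)
        ((Cfsg.unitaryTransvection n q v c).mulVec y)
      = Cfsg.hermForm n F q x y
        + (c ^ q + c) * (Cfsg.hermForm n F q x v * Cfsg.hermForm n F q v y) := by
    intro x y
    rw [unitaryTransvection_mulVec, unitaryTransvection_mulVec, hermForm_add_left, hadd_right,
      hadd_right, hsmul_right, hsmul_right, hermForm_smul_left, hermForm_smul_left, hv0, mul_pow,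
      hconj y v]
    ring
  constructor
  · intro h
    obtain ⟨i, hi⟩ : ∃ i, v i ≠ 0 := by
      by_contra hne
      apply hv
      funext i
      by_contra hi
      exact hne ⟨i, hi⟩
    have h1 := h (Pi.single i 1) (Pi.single i 1)
    rw [key] at h1
    have hx : Cfsg.hermForm n F q (Pi.single i 1) v = v i ^ q := by
      unfold Cfsg.hermForm
      rw [Finset.sum_eq_single i]
      · simp
      · intro b _ hb; simp [hb]
      · intro hi'; exact absurd (Finset.mem_univ i) hi'
    have hy : Cfsg.hermForm n F q v (Pi.single i 1) = v i := by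
      unfold Cfsg.hermForm
      rw [Finset.sum_eq_single i]
      · simp
      · intro b _ hb; simp [hb, hq0]
      · intro hi'; exact absurd (Finset.mem_univ i) hi'
    rw [hx, hy] at h1
    have h2 : (c ^ q + c) * (v i ^ q * v i) = 0 := by
      linear_combination h1
    have h3 : v i ^ q * v i ≠ 0 := mul_ne_zero (pow_ne_zero _ hi) hi
    have h4 : c ^ q + c = 0 := by
      rcases mul_eq_zero.mp h2 with h | h
      · exact h
      · exact absurd h h3
    by_cases hc : c = 0
    · exact Or.inl hc
    · right
      have h5 : c * (c ^ (q - 1) + 1) = 0 := by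
        have : c ^ q = c * c ^ (q - 1) := by
          rw [← pow_succ', Nat.sub_add_cancel (Nat.one_le_iff_ne_zero.mpr hq0)]
        rw [this] at h4
        linear_combination h4
      rcases mul_eq_zero.mp h5 with h | h
      · exact absurd h hc
      · exact eq_neg_of_add_eq_zero_left h
  · intro h x y
    rw [key]
    have h4 : c ^ q + c = 0 := by
      rcases h with h | h
      · rw [h, zero_pow hq0, add_zero]
      · have : c ^ q = c * c ^ (q - 1) := by
          rw [← pow_succ', Nat.sub_add_cancel (Nat.one_le_iff_ne_zero.mpr hq0)]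
        rw [this, h]; ring
    rw [h4, zero_mul, add_zero]

end Cfsg.Agent.S0779
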