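import Cfsg.Statements.S0782
import Cfsg.Agent.Lib.Helper5.UTIStab

set_option autoImplicit false
open Cfsg

namespace Cfsg.Agent.S0782

/-- Maximal parabolics of SU_n(q): if W is a k-dimensional subspace of F^n (n ≥ 1, |F| = q²) on which the Hermitian form vanishes, then (q + 1) times the order of its stabiliser in SU_n(q) equals q^(k(2n−3k)) · |GL_k(q²)| · |GU_(n−2k)(q)|, where |GU_m(q)| = q^(m(m−1)/2) Π_(i=1..m) (q^i − (−1)^i). -/
theorem result {F : Type*} [Field F] [Fintype F] {q : ℕ} (hF : Fintype.card F = q ^ 2) (n k : ℕ) (hn : 1 ≤ n) (hk : 2 * k ≤ n) (W : Submodule F (Fin n → F)) (hWk : Module.finrank F W = k) (hW : ∀ u ∈ W, ∀ v ∈ W, Cfsg.hermForm n F q u v = 0) : (q + 1) * Nat.card ↥((Cfsg.stabilizing (Cfsg.slToMat n F) (W : Set (Fin n → F))).subgroupOf (Cfsg.SU n F q)) = q ^ (k * (2 * n - 3 * k)) * (∏ i : Fin k, ((q ^ 2) ^ k - (q ^ 2) ^ (i : ℕ))) * (q ^ ((n - 2 * k) * ((n - 2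 * k) - 1) / 2) * ∏ i ∈ Finset.range (n - 2 * k), (if Even i then q ^ (i + 1) + 1 else q ^ (i + 1) - 1)) := by
  classical
  have hq := Cfsg.Agent.Lib.Helper14.herm_two_le hF
  obtain ⟨m, rfl⟩ : ∃ m, n = m + 2 * k := ⟨n - 2 * k, by omega⟩
  have h5 := Cfsg.Agent.Lib.Helper5.UTIStab.card_stab_SU_mul hF hn W hW
  have h1 := Cfsg.Agent.Lib.Helper5.UTIStab.card_SWG_mul hF W k hWk hW
  have hG : Nat.card ↥(Cfsg.GU (m + 2 * k) F q) = Cfsg.Agent.Lib.Helper5.UTICount.gU q (m + 2 * k) :=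
    Cfsg.Agent.Lib.Helper14.card_GU hF _
  rw [Cfsg.Agent.Lib.Helper5.UTICount.card_TI hF k (by omega), hG, hF] at h1
  have h4 := Cfsg.Agent.Lib.Helper5.UTICount.arith q k m
  have e1 : m + 2 * k - 2 * k = m := by omega
  have e2 : 2 * (m + 2 * k) - 3 * k = 2 * m + k := by omega
  rw [e1, e2]
  show _ = q ^ (k * (2 * m + k)) * (∏ i : Fin k, ((q ^ 2) ^ k - (q ^ 2) ^ (i : ℕ))) *
    Cfsg.Agent.Lib.Helper5.UTICount.gU q m
  have hNpos : 0 < ∏ j ∈ Finset.range k, q ^ (2 * j) *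
      Cfsg.Agent.Lib.Helper5.UTICount.zU q (m + 2 * k - 2 * j) := by
    apply Nat.pos_of_ne_zero
    intro h0
    rw [h0, zero_mul, zero_mul] at h4
    have hpos : 0 < Nat.card ↥(Cfsg.GU (m + 2 * k) F q) := Nat.card_pos
    rw [hG, ← h4] at hpos
    exact lt_irrefl _ hpos
  apply Nat.eq_of_mul_eq_mul_right hNpos
  rw [h5, h1, ← h4]
  ring

end Cfsg.Agent.S0782
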