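import Cfsg.Statements.S0783
import Mathlib
import Cfsg.Agent.Lib.Helper5.GUCenter
import Cfsg.Agent.Lib.Helper5.CyclicHom

set_option autoImplicit false
open Cfsg

namespace Cfsg.Agent.S0783

section Aux

open Cfsg.Agent.Lib.Helper14 Cfsg.Agent.Lib.Helper5 Cfsg.Agent.Lib.Helper5.GUCenter

theorem main {F : Type*} [Field F] [Fintype F] {q : ℕ} (hF : Fintype.card F = q ^ 2) (m : ℕ) :
    ∃ φ : ↥(Cfsg.GU (m + 2) F q) →* Multiplicative (ZMod (Nat.gcd (m + 2) (q + 1))),
      Function.Surjective φ ∧
      φ.ker = (Matrix.GeneralLinearGroup.det : Matrix.GeneralLinearGroup (Fin (m + 2)) F →* Fˣ).ker.subgroupOf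
        (Cfsg.GU (m + 2) F q) ⊔ Subgroup.center ↥(Cfsg.GU (m + 2) F q) := by
  classical
  obtain ⟨ψ, hψs, hψk⟩ := exists_cyclic_hom_gcd (normOne F q) (m + 2) (q + 1) (card_normOne hF)
  set det' : ↥(Cfsg.GU (m + 2) F q) →* ↥(normOne F q) :=
    (detGU F q (m + 2)).codRestrict (normOne F q) (fun g => detGU_range_le hF ⟨g, rfl⟩) with hdet'
  have hdet'_val : ∀ g, ((det' g : ↥(normOne F q)) : Fˣ) = Matrix.GeneralLinearGroup.det g.1 :=
    fun g => rfl
  -- scalar elements
  have hscal : ∀ c : F, c * c ^ q = 1 → ∃ s : ↥(Cfsg.GU (m + 2) F q),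
      s ∈ Subgroup.center ↥(Cfsg.GU (m + 2) F q) ∧
      ((s.1 : Matrix.GeneralLinearGroup (Fin (m + 2)) F) : Matrix (Fin (m + 2)) (Fin (m + 2)) F) =
        Matrix.diagonal (fun _ => c) := by
    intro c hc
    have hdet0 : (Matrix.diagonal (fun _ : Fin (m + 2) => c)).det ≠ 0 := by
      rw [Matrix.det_diagonal, Finset.prod_const]
      apply pow_ne_zero
      rintro rfl
      rw [zero_mul] at hc
      exact zero_ne_one hc
    have hU : IsUni F q (m + 2) (Matrix.diagonal (fun _ : Fin (m + 2) => c)) :=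
      isUni_diagonal _ (fun _ => hc)
    refine ⟨⟨Matrix.GeneralLinearGroup.mkOfDetNeZero _ hdet0, (mem_GU_iff _).mpr hU⟩, ?_, rfl⟩
    rw [Subgroup.mem_center_iff]
    intro h
    apply Subtype.ext
    apply Units.ext
    show (h.1 : Matrix (Fin (m + 2)) (Fin (m + 2)) F) * Matrix.diagonal (fun _ => c) =
      Matrix.diagonal (fun _ => c) * (h.1 : Matrix (Fin (m + 2)) (Fin (m + 2)) F)
    ext a b
    rw [Matrix.mul_diagonal, Matrix.diagonal_mul, mul_comm]
  refine ⟨ψ.comp det', ?_, ?_⟩
  · intro y
    obtain ⟨x, hx⟩ := hψs y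
    obtain ⟨g, hg⟩ := normOne_le_detGU_range hF (m + 1) x.2
    refine ⟨g, ?_⟩
    rw [MonoidHom.comp_apply, ← hx]
    congr 1
    exact Subtype.ext hg
  · apply le_antisymm
    · intro g hg
      rw [MonoidHom.mem_ker, MonoidHom.comp_apply, hψk] at hg
      obtain ⟨y, hy⟩ := hg
      have hyn : (y.1 : Fˣ) ^ (q + 1) = 1 := (mem_normOne y.1).mp y.2
      have hc : ((y.1 : Fˣ) : F) * ((y.1 : Fˣ) : F) ^ q = 1 := by
        have h2 := congrArg Units.val hyn
        rw [Units.val_pow_eq_pow_val, Units.val_one, pow_succ'] at h2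
        exact h2
      obtain ⟨s, hsc, hsmat⟩ := hscal _ hc
      have hdets : Matrix.GeneralLinearGroup.det s.1 = (y.1 : Fˣ) ^ (m + 2) := by
        apply Units.ext
        rw [Matrix.GeneralLinearGroup.val_det_apply, hsmat, Matrix.det_diagonal, Finset.prod_const,
          Finset.card_univ, Fintype.card_fin, Units.val_pow_eq_pow_val]
      have hdetg : Matrix.GeneralLinearGroup.det g.1 = (y.1 : Fˣ) ^ (m + 2) := by
        rw [← hdet'_val, hy]
        rfl
      have hgs : g = (g * s⁻¹) * s := by group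
      rw [hgs]
      apply Subgroup.mul_mem_sup _ hsc
      rw [Subgroup.mem_subgroupOf, MonoidHom.mem_ker]
      change Matrix.GeneralLinearGroup.det (g.1 * (s.1)⁻¹) = 1
      rw [map_mul, map_inv, hdets, hdetg, mul_inv_cancel]
    · apply sup_le
      · intro g hg
        rw [Subgroup.mem_subgroupOf, MonoidHom.mem_ker] at hg
        rw [MonoidHom.mem_ker, MonoidHom.comp_apply]
        have : det' g = 1 := by
          apply Subtype.ext
          rw [hdet'_val]
          exact hg
        rw [this, map_one]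
      · intro z hz
        rw [MonoidHom.mem_ker, MonoidHom.comp_apply, hψk]
        set Z : Matrix (Fin (m + 2)) (Fin (m + 2)) F :=
          ((z.1 : Matrix.GeneralLinearGroup (Fin (m + 2)) F) : Matrix (Fin (m + 2)) (Fin (m + 2)) F)
          with hZdef
        have hZ : ∀ M : Matrix (Fin (m + 2)) (Fin (m + 2)) F, M.det = 1 → IsUni F q (m + 2) M →
            M * Z = Z * M := by
          intro M hM1 hMU
          have hdet0 : M.det ≠ 0 := by rw [hM1]; exact one_ne_zero
          have h := Subgroup.mem_center_iff.mp hz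
            ⟨Matrix.GeneralLinearGroup.mkOfDetNeZero M hdet0, (mem_GU_iff _).mpr hMU⟩
          have h2 := congrArg (fun x : ↥(Cfsg.GU (m + 2) F q) =>
            ((x.1 : Matrix.GeneralLinearGroup (Fin (m + 2)) F) :
              Matrix (Fin (m + 2)) (Fin (m + 2)) F)) h
          exact h2
        have hsc := comm_scalar hF Z hZ
        have hU : IsUni F q (m + 2) Z := (mem_GU_iff _).mp z.2
        rw [hsc] at hU
        have hc := scalar_norm hF (Z 0 0) hU
        have hc0 : Z 0 0 ≠ 0 := by
          intro h0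
          rw [h0, zero_mul] at hc
          exact zero_ne_one hc
        have hy : Units.mk0 (Z 0 0) hc0 ∈ normOne F q := by
          rw [mem_normOne]
          apply Units.ext
          rw [Units.val_pow_eq_pow_val, Units.val_one, Units.val_mk0, pow_succ']
          exact hc
        refine ⟨⟨Units.mk0 (Z 0 0) hc0, hy⟩, ?_⟩
        apply Subtype.ext
        rw [hdet'_val]
        apply Units.ext
        rw [Matrix.GeneralLinearGroup.val_det_apply]
        change Z.det = _
        have hdetZ : Z.det = (Z 0 0) ^ (m + 2) := by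
          have := congrArg Matrix.det hsc
          rw [Matrix.det_diagonal, Finset.prod_const, Finset.card_univ, Fintype.card_fin] at this
          exact this
        rw [hdetZ]
        simp

end Aux

/-- PGU_n(q)/PSU_n(q) is cyclic of order (n, q+1): for n ≥ 2 and |F| = q² there is a surjective homomorphism from GU_n(q) onto the cyclic group of order gcd(n, q + 1) whose kernel is generated by the determinant-one elements together with the centre. -/
theorem result {F : Type*} [Field F] [Fintype F] {q : ℕ} (hF : Fintype.card F = q ^ 2) (n : ℕ) (hn : 2 ≤ n) : ∃ φ : ↥(Cfsg.GU n F q) →* Multiplicative (ZMod (Nat.gcd n (q + 1))), Function.Surjective φ ∧ φ.ker = (Matrix.GeneralLinearGroup.det : Matrix.GeneralLinearGroup (Fin n) F →* Fˣ).ker.subgroupOf (Cfsg.GU n F q) ⊔ Subgroup.center ↥(Cfsg.GU n F q) := by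
  obtain ⟨m, rfl⟩ : ∃ m, n = m + 2 := ⟨n - 2, by omega⟩
  exact main hF m

end Cfsg.Agent.S0783
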