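import Cfsg.Statements.S0785
import Cfsg.Agent.Lib.Helper5.Orth

set_option autoImplicit false
open Cfsg

namespace Cfsg.Agent.S0785

open Matrix in
theorem det_sq_of_isometry {F : Type*} [Field F] {n : ℕ} (Q : QuadraticForm F (Fin n → F))
    (hQ : (QuadraticMap.polarBilin Q).Nondegenerate) (G : Matrix (Fin n) (Fin n) F)
    (hG : ∀ u, Q (G *ᵥ u) = Q u) : G.det = 1 ∨ G.det = -1 := by
  set B : LinearMap.BilinForm F (Fin n → F) := QuadraticMap.polarBilin Q with hB
  have hcomp : LinearMap.BilinForm.comp B (Matrix.toLin' G) (Matrix.toLin' G) = B := by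
    refine LinearMap.ext₂ fun u v => ?_
    simp only [LinearMap.BilinForm.comp_apply, Matrix.toLin'_apply, hB,
      QuadraticMap.polarBilin_apply_apply, QuadraticMap.polar]
    rw [← Matrix.mulVec_add, hG, hG, hG]
  have hmat := LinearMap.BilinForm.toMatrix'_comp B (Matrix.toLin' G) (Matrix.toLin' G)
  rw [hcomp, LinearMap.toMatrix'_toLin'] at hmat
  have hdet := congrArg Matrix.det hmat
  rw [Matrix.det_mul, Matrix.det_mul, Matrix.det_transpose] at hdet
  have hM : (LinearMap.BilinForm.toMatrix' B).det ≠ 0 := by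
    rw [← Matrix.nondegenerate_iff_det_ne_zero]
    exact LinearMap.BilinForm.Nondegenerate.toMatrix' hQ
  have hsq : G.det * G.det = 1 := by
    have h1 : (LinearMap.BilinForm.toMatrix' B).det * (G.det * G.det - 1) = 0 := by
      linear_combination -hdet
    rcases mul_eq_zero.mp h1 with h | h
    · exact absurd h hM
    · exact sub_eq_zero.mp h
  exact mul_self_eq_one_iff.mp hsq

/-- det(I) = {±1}: for a quadratic form on F^n whose polar form is non-degenerate, every element of the isometry group has determinant 1 or −1, and as soon as Q takes a non-zero value some isometry has determinant −1. -/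
theorem result {F : Type*} [Field F] {n : ℕ} (Q : QuadraticForm F (Fin n → F)) (hQ : (QuadraticMap.polarBilin Q).Nondegenerate) : (∀ g : ↥(Cfsg.isometryGroup F ⇑Q), ((g : Matrix.GeneralLinearGroup (Fin n) F) : Matrix (Fin n) (Fin n) F).det = 1 ∨ ((g : Matrix.GeneralLinearGroup (Fin n) F) : Matrix (Fin n) (Fin n) F).det = -1) ∧ ((∃ v, Q v ≠ 0) → ∃ g : ↥(Cfsg.isometryGroup F ⇑Q), ((g : Matrix.GeneralLinearGroup (Fin n) F) : Matrix (Fin n) (Fin n) F).det = -1) := by
  constructor
  · intro g
    apply det_sq_of_isometry Q hQ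
    intro u
    exact g.2 u u
  · rintro ⟨v, hv⟩
    have hdet : (Cfsg.reflectionMatrix (⇑Q) v).det = -1 :=
      Cfsg.Agent.Lib.Helper5.reflection_det Q v hv
    have hunit : IsUnit (Cfsg.reflectionMatrix (⇑Q) v).det := by
      rw [hdet]; exact isUnit_one.neg
    let g0 : Matrix.GeneralLinearGroup (Fin n) F :=
      Matrix.GeneralLinearGroup.mk'' (Cfsg.reflectionMatrix (⇑Q) v) hunit
    have hg0 : g0 ∈ Cfsg.isometryGroup F (⇑Q) := by
      intro u _
      exact Cfsg.Agent.Lib.Helper5.reflection_preserves Q v hv u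
    exact ⟨⟨g0, hg0⟩, hdet⟩

end Cfsg.Agent.S0785
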