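import Cfsg.Statements.S0792
import Mathlib
import Cfsg.Agent.Lib.Helper5.Orth
import Cfsg.Agent.Lib.Helper5.SpMax

set_option autoImplicit false
open Cfsg

namespace Cfsg.Agent.S0792

section Aux
set_option linter.unusedSectionVars false
set_option linter.unusedVariables false
set_option linter.unusedSimpArgs false
namespace S0792aux
open Cfsg Matrix Cfsg.Agent.Lib.Helper5 Cfsg.Agent.Lib.Helper5.SpMax

variable {F : Type*} [Field F] {n : ℕ} (Q : QuadraticForm F (Fin n → F))

lemma mem_iso {g : GL (Fin n) F} :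
    g ∈ Cfsg.isometryGroup F ⇑Q ↔ ∀ x, Q ((g : Matrix (Fin n) (Fin n) F) *ᵥ x) = Q x := by
  constructor
  · intro h x; exact h x x
  · intro h x _; exact h x

lemma iso_polar (g : ↥(Cfsg.isometryGroup F ⇑Q)) (x y : Fin n → F) :
    QuadraticMap.polar (⇑Q) (((g : GL (Fin n) F) : Matrix (Fin n) (Fin n) F) *ᵥ x)
      (((g : GL (Fin n) F) : Matrix (Fin n) (Fin n) F) *ᵥ y) = QuadraticMap.polar (⇑Q) x y := by
  have hg := (mem_iso Q).mp g.2
  unfold QuadraticMap.polar
  rw [← Matrix.mulVec_add, hg, hg, hg]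

lemma Q_sub (x y : Fin n → F) : Q (x - y) = Q x + Q y - QuadraticMap.polar (⇑Q) x y := by
  have h1 : QuadraticMap.polar (⇑Q) (x - y) y = Q x - Q (x - y) - Q y := by
    unfold QuadraticMap.polar
    rw [sub_add_cancel]
  rw [QuadraticMap.polar_sub_left, QuadraticMap.polar_self] at h1
  simp only [nsmul_eq_mul, Nat.cast_ofNat] at h1
  linear_combination h1

lemma Q_add (x y : Fin n → F) : Q (x + y) = Q x + Q y + QuadraticMap.polar (⇑Q) x y := by
  unfold QuadraticMap.polar
  ring

lemma refl_mat_sq {v : Fin n → F} (hv : Q v ≠ 0) :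
    Cfsg.reflectionMatrix (⇑Q) v * Cfsg.reflectionMatrix (⇑Q) v = 1 := by
  apply mat_eq_of_mulVec
  intro x
  rw [← Matrix.mulVec_mulVec, Matrix.one_mulVec,
    reflectionMatrix_mulVec Q v (Cfsg.reflectionMatrix (⇑Q) v *ᵥ x), reflectionMatrix_mulVec Q v x,
    QuadraticMap.polar_sub_right, QuadraticMap.polar_smul_right, QuadraticMap.polar_self]
  simp only [nsmul_eq_mul, Nat.cast_ofNat, smul_eq_mul]
  generalize QuadraticMap.polar (⇑Q) v x = β
  have h1 : (Q v)⁻¹ * (β - (Q v)⁻¹ * β * (2 * Q v)) = -((Q v)⁻¹ * β) := by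
    field_simp
    ring
  rw [h1, neg_smul, sub_neg_eq_add, sub_add_cancel]

lemma exists_refl {v : Fin n → F} (hv : Q v ≠ 0) : ∃ g : ↥(Cfsg.isometryGroup F ⇑Q),
    ((g : GL (Fin n) F) : Matrix (Fin n) (Fin n) F) = Cfsg.reflectionMatrix (⇑Q) v := by
  refine ⟨⟨⟨Cfsg.reflectionMatrix (⇑Q) v, Cfsg.reflectionMatrix (⇑Q) v, refl_mat_sq Q hv,
    refl_mat_sq Q hv⟩, ?_⟩, rfl⟩
  rw [mem_iso]
  exact reflection_preserves Q v hv

/-- the reflection in `x - y` swaps `x` and `y` -/
lemma refl_swap {x y : Fin n → F} (hxy : Q x = Q y) (hne : Q (x - y) ≠ 0) :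
    Cfsg.reflectionMatrix (⇑Q) (x - y) *ᵥ x = y := by
  have h1 : QuadraticMap.polar (⇑Q) (x - y) x = Q (x - y) := by
    rw [QuadraticMap.polar_sub_left, QuadraticMap.polar_self, Q_sub, QuadraticMap.polar_comm (⇑Q) y x]
    simp only [nsmul_eq_mul, Nat.cast_ofNat]
    rw [hxy]
    ring
  rw [reflectionMatrix_mulVec, h1, inv_mul_cancel₀ hne, one_smul, sub_sub_cancel]

/-- the set of reflections -/
def Rset : Set ↥(Cfsg.isometryGroup F ⇑Q) :=
  {g | ∃ v : Fin n → F, Q v ≠ 0 ∧
    ((g : GL (Fin n) F) : Matrix (Fin n) (Fin n) F) = Cfsg.reflectionMatrix (⇑Q) v}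

/-- products of two reflections -/
def Eset : Set ↥(Cfsg.isometryGroup F ⇑Q) :=
  {g | ∃ u v : Fin n → F, Q u ≠ 0 ∧ Q v ≠ 0 ∧
    ((g : Matrix.GeneralLinearGroup (Fin n) F) : Matrix (Fin n) (Fin n) F) =
      Cfsg.reflectionMatrix ⇑Q u * Cfsg.reflectionMatrix ⇑Q v}

def NDq (W : Submodule F (Fin n → F)) : Prop :=
  ∀ x ∈ W, (∀ y ∈ W, QuadraticMap.polar (⇑Q) x y = 0) → x = 0

lemma exists_perp_nonsing (hQ : (QuadraticMap.polarBilin Q).Nondegenerate)
    {W : Submodule F (Fin n → F)} (hW : NDq Q W) (hne : W ≠ ⊤) :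
    ∃ v, (∀ w ∈ W, QuadraticMap.polar (⇑Q) w v = 0) ∧ Q v ≠ 0 := by
  have hrefl : (QuadraticMap.polarBilin Q).IsRefl := by
    intro x y h
    rw [QuadraticMap.polarBilin_apply_apply] at h ⊢
    rw [QuadraticMap.polar_comm]; exact h
  have hres : (LinearMap.BilinForm.restrict (QuadraticMap.polarBilin Q) W).Nondegenerate := by
    refine ⟨fun x hx => Subtype.ext (hW x.1 x.2 (fun y hy => ?_)),
      fun y hy => Subtype.ext (hW y.1 y.2 (fun x hx => ?_))⟩
    · exact hx ⟨y, hy⟩
    · rw [QuadraticMap.polar_comm]; exact hy ⟨x, hx⟩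
  have hc := LinearMap.BilinForm.isCompl_orthogonal_of_restrict_nondegenerate hrefl hres
  have hperp : ∀ z ∈ LinearMap.BilinForm.orthogonal (QuadraticMap.polarBilin Q) W,
      ∀ w ∈ W, QuadraticMap.polar (⇑Q) w z = 0 := by
    intro z hz w hw
    exact (LinearMap.BilinForm.mem_orthogonal_iff.mp hz) w hw
  have hne' : LinearMap.BilinForm.orthogonal (QuadraticMap.polarBilin Q) W ≠ ⊥ := by
    intro h
    apply hne
    have := hc.sup_eq_top
    rwa [h, sup_bot_eq] at this
  obtain ⟨x', hx'W, hx'0⟩ := Submodule.exists_mem_ne_zero_of_ne_bot hne'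
  obtain ⟨y, hy⟩ : ∃ y, QuadraticMap.polar (⇑Q) x' y ≠ 0 := by
    by_contra hcon
    push Not at hcon
    exact hx'0 (hQ.1 x' (fun y => by rw [QuadraticMap.polarBilin_apply_apply]; exact hcon y))
  obtain ⟨a, ha, b, hb, hab⟩ := Submodule.mem_sup.mp
    (by rw [hc.sup_eq_top]; exact Submodule.mem_top : y ∈ W ⊔ LinearMap.BilinForm.orthogonal (QuadraticMap.polarBilin Q) W)
  have hx'a : QuadraticMap.polar (⇑Q) x' a = 0 := by
    rw [QuadraticMap.polar_comm]; exact hperp x' hx'W a ha
  have hx'b : QuadraticMap.polar (⇑Q) x' b ≠ 0 := by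
    rw [← hab, QuadraticMap.polar_add_right, hx'a, zero_add] at hy
    exact hy
  by_cases h1 : Q x' ≠ 0
  · exact ⟨x', hperp x' hx'W, h1⟩
  rw [not_not] at h1
  by_cases h3 : Q b ≠ 0
  · exact ⟨b, hperp b hb, h3⟩
  rw [not_not] at h3
  refine ⟨x' + b, hperp _ (Submodule.add_mem _ hx'W hb), ?_⟩
  rw [Q_add, h1, h3, zero_add, zero_add]
  exact hx'b

lemma NDq_sup (h2 : (2 : F) ≠ 0) {W : Submodule F (Fin n → F)} (hW : NDq Q W) {v : Fin n → F}
    (hvW : ∀ w ∈ W, QuadraticMap.polar (⇑Q) w v = 0) (hv : Q v ≠ 0) :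
    NDq Q (W ⊔ Submodule.span F {v}) := by
  intro x hx hall
  obtain ⟨w, hw, z, hz, rfl⟩ := Submodule.mem_sup.mp hx
  obtain ⟨a, rfl⟩ := Submodule.mem_span_singleton.mp hz
  have hw0 : w = 0 := by
    apply hW w hw
    intro w' hw'
    have := hall w' (Submodule.mem_sup_left hw')
    rw [QuadraticMap.polar_add_left, QuadraticMap.polar_smul_left,
      QuadraticMap.polar_comm (⇑Q) v w', hvW w' hw', smul_zero, add_zero] at this
    exact this
  have ha0 : a = 0 := by
    have := hall v (Submodule.mem_sup_right (Submodule.mem_span_singleton_self v))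
    rw [hw0, zero_add, QuadraticMap.polar_smul_left, QuadraticMap.polar_self] at this
    simp only [nsmul_eq_mul, Nat.cast_ofNat, smul_eq_mul] at this
    rcases mul_eq_zero.mp this with h | h
    · exact h
    · rcases mul_eq_zero.mp h with h' | h'
      · exact absurd h' h2
      · exact absurd h' hv
  rw [hw0, ha0, zero_smul, add_zero]

/-- Cartan–Dieudonné in odd characteristic -/
theorem cd (h2 : (2 : F) ≠ 0) (hQ : (QuadraticMap.polarBilin Q).Nondegenerate) :
    ∀ g : ↥(Cfsg.isometryGroup F ⇑Q), g ∈ Subgroup.closure (Rset Q) := by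
  have key : ∀ W : Submodule F (Fin n → F), NDq Q W → ∀ g : ↥(Cfsg.isometryGroup F ⇑Q),
      (∀ w ∈ W, ((g : GL (Fin n) F) : Matrix (Fin n) (Fin n) F) *ᵥ w = w) →
      g ∈ Subgroup.closure (Rset Q) := by
    intro W
    refine WellFoundedGT.induction (motive := fun W => NDq Q W → ∀ g : ↥(Cfsg.isometryGroup F ⇑Q),
      (∀ w ∈ W, ((g : GL (Fin n) F) : Matrix (Fin n) (Fin n) F) *ᵥ w = w) →
      g ∈ Subgroup.closure (Rset Q)) W ?_
    intro W ih hW g hfix
    by_cases htop : W = ⊤
    · have hg1 : g = 1 := by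
        apply Subtype.ext
        apply Units.ext
        apply mat_eq_of_mulVec
        intro x
        rw [hfix x (by rw [htop]; exact Submodule.mem_top)]
        simp
      rw [hg1]
      exact one_mem _
    obtain ⟨v, hvW, hv⟩ := exists_perp_nonsing Q hQ hW htop
    obtain ⟨gv, hgvdef⟩ : ∃ gv, gv = ((g : GL (Fin n) F) : Matrix (Fin n) (Fin n) F) *ᵥ v :=
      ⟨_, rfl⟩
    have hgvW : ∀ w ∈ W, QuadraticMap.polar (⇑Q) w gv = 0 := by
      intro w hw
      have := iso_polar Q g w v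
      rw [hfix w hw, ← hgvdef] at this
      rw [this]
      exact hvW w hw
    have hQgv : Q gv = Q v := by rw [hgvdef]; exact (mem_iso Q).mp g.2 v
    have hvnW : v ∉ W := by
      intro h
      have := hvW v h
      rw [QuadraticMap.polar_self] at this
      simp only [nsmul_eq_mul, Nat.cast_ofNat] at this
      rcases mul_eq_zero.mp this with h' | h'
      · exact h2 h'
      · exact hv h'
    have hlt : W < W ⊔ Submodule.span F {v} := by
      refine lt_of_le_of_ne le_sup_left (fun h => hvnW ?_)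
      rw [h]
      exact Submodule.mem_sup_right (Submodule.mem_span_singleton_self v)
    have hND' := NDq_sup Q h2 hW hvW hv
    have fin : ∀ g' : ↥(Cfsg.isometryGroup F ⇑Q),
        (∀ w ∈ W, ((g' : GL (Fin n) F) : Matrix (Fin n) (Fin n) F) *ᵥ w = w) →
        ((g' : GL (Fin n) F) : Matrix (Fin n) (Fin n) F) *ᵥ v = v →
        g' ∈ Subgroup.closure (Rset Q) := by
      intro g' h1 h2'
      apply ih _ hlt hND' g'
      intro x hx
      obtain ⟨w, hw, z, hz, rfl⟩ := Submodule.mem_sup.mp hx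
      obtain ⟨a, rfl⟩ := Submodule.mem_span_singleton.mp hz
      rw [Matrix.mulVec_add, Matrix.mulVec_smul, h1 w hw, h2']
    by_cases hA : Q (gv - v) ≠ 0
    · obtain ⟨r, hr⟩ := exists_refl Q hA
      have hrR : r ∈ Rset Q := ⟨gv - v, hA, hr⟩
      have h1 : r * g ∈ Subgroup.closure (Rset Q) := by
        apply fin
        · intro w hw
          rw [Subgroup.coe_mul, Units.val_mul, ← Matrix.mulVec_mulVec, hfix w hw, hr]
          apply reflection_fix
          rw [QuadraticMap.polar_sub_left, QuadraticMap.polar_comm (⇑Q) gv w, hgvW w hw,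
            QuadraticMap.polar_comm (⇑Q) v w, hvW w hw, sub_zero]
        · rw [Subgroup.coe_mul, Units.val_mul, ← Matrix.mulVec_mulVec, ← hgvdef, hr]
          exact refl_swap Q hQgv hA
      have h3 : g = r⁻¹ * (r * g) := by group
      rw [h3]
      exact mul_mem (inv_mem (Subgroup.subset_closure hrR)) h1
    · rw [not_not] at hA
      have hB : Q (gv + v) ≠ 0 := by
        have h1 := Q_add Q gv v
        have h3 := Q_sub Q gv v
        rw [hA] at h3
        have h4 : Q (gv + v) = 4 * Q v := by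
          rw [hQgv] at h1 h3
          linear_combination h1 + h3
        rw [h4]
        have h4' : (4 : F) ≠ 0 := by
          have : (4 : F) = 2 * 2 := by norm_num
          rw [this]
          exact mul_ne_zero h2 h2
        exact mul_ne_zero h4' hv
      have hB' : Q (gv - -v) ≠ 0 := by rw [sub_neg_eq_add]; exact hB
      obtain ⟨r₁, hr₁⟩ := exists_refl Q hB'
      obtain ⟨r₂, hr₂⟩ := exists_refl Q hv
      have hr₁R : r₁ ∈ Rset Q := ⟨gv - -v, hB', hr₁⟩
      have hr₂R : r₂ ∈ Rset Q := ⟨v, hv, hr₂⟩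
      have h1 : r₂ * r₁ * g ∈ Subgroup.closure (Rset Q) := by
        apply fin
        · intro w hw
          rw [Subgroup.coe_mul, Subgroup.coe_mul, Units.val_mul, Units.val_mul,
            ← Matrix.mulVec_mulVec, ← Matrix.mulVec_mulVec, hfix w hw, hr₁, hr₂]
          have e1 : Cfsg.reflectionMatrix (⇑Q) (gv - -v) *ᵥ w = w := by
            apply reflection_fix
            rw [QuadraticMap.polar_sub_left, QuadraticMap.polar_neg_left,
              QuadraticMap.polar_comm (⇑Q) gv w, hgvW w hw,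
              QuadraticMap.polar_comm (⇑Q) v w, hvW w hw, neg_zero, sub_zero]
          rw [e1]
          apply reflection_fix
          rw [QuadraticMap.polar_comm (⇑Q) v w, hvW w hw]
        · rw [Subgroup.coe_mul, Subgroup.coe_mul, Units.val_mul, Units.val_mul,
            ← Matrix.mulVec_mulVec, ← Matrix.mulVec_mulVec, ← hgvdef, hr₁, hr₂,
            refl_swap Q (by rw [hQgv, QuadraticMap.map_neg]) hB', Matrix.mulVec_neg,
            reflection_self Q v hv, neg_neg]
      have h3 : g = r₁⁻¹ * (r₂⁻¹ * (r₂ * r₁ * g)) := by group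
      rw [h3]
      exact mul_mem (inv_mem (Subgroup.subset_closure hr₁R))
        (mul_mem (inv_mem (Subgroup.subset_closure hr₂R)) h1)
  intro g
  refine key ⊥ ?_ g ?_
  · intro x hx _
    exact (Submodule.mem_bot F).mp hx
  · intro w hw
    rw [(Submodule.mem_bot F).mp hw, Matrix.mulVec_zero]

lemma mul_mem_Eset {a b : ↥(Cfsg.isometryGroup F ⇑Q)} (ha : a ∈ Rset Q) (hb : b ∈ Rset Q) :
    a * b ∈ Eset Q := by
  obtain ⟨u, hu, hau⟩ := ha
  obtain ⟨v, hv, hbv⟩ := hb
  exact ⟨u, v, hu, hv, by rw [Subgroup.coe_mul, Units.val_mul, hau, hbv]⟩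

lemma Eset_split {g : ↥(Cfsg.isometryGroup F ⇑Q)} (hg : g ∈ Eset Q) :
    ∃ a ∈ Rset Q, ∃ b ∈ Rset Q, g = a * b := by
  obtain ⟨u, v, hu, hv, hg⟩ := hg
  obtain ⟨a, ha⟩ := exists_refl Q hu
  obtain ⟨b, hb⟩ := exists_refl Q hv
  refine ⟨a, ⟨u, hu, ha⟩, b, ⟨v, hv, hb⟩, ?_⟩
  apply Subtype.ext
  apply Units.ext
  rw [Subgroup.coe_mul, Units.val_mul, ha, hb, hg]

lemma refl_sq {r : ↥(Cfsg.isometryGroup F ⇑Q)} (hr : r ∈ Rset Q) : r * r = 1 := by
  obtain ⟨v, hv, hrv⟩ := hr
  apply Subtype.ext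
  apply Units.ext
  rw [Subgroup.coe_mul, Units.val_mul, hrv, refl_mat_sq Q hv]
  rfl

lemma conj_mem {r : ↥(Cfsg.isometryGroup F ⇑Q)} (hr : r ∈ Rset Q)
    {e : ↥(Cfsg.isometryGroup F ⇑Q)} (he : e ∈ Subgroup.closure (Eset Q)) :
    r * e * r ∈ Subgroup.closure (Eset Q) := by
  have hrr := refl_sq Q hr
  have hrr' : ∀ z, r * (r * z) = z := fun z => by rw [← mul_assoc, hrr, one_mul]
  induction he using Subgroup.closure_induction with
  | mem x hx =>
    obtain ⟨a, ha, b, hb, rfl⟩ := Eset_split Q hx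
    have : r * (a * b) * r = (r * a) * (b * r) := by group
    rw [this]
    exact mul_mem (Subgroup.subset_closure (mul_mem_Eset Q hr ha))
      (Subgroup.subset_closure (mul_mem_Eset Q hb hr))
  | one =>
    rw [mul_one, hrr]
    exact one_mem _
  | mul x y _ _ hx hy =>
    have : r * (x * y) * r = (r * x * r) * (r * y * r) := by
      simp only [mul_assoc, hrr']
    rw [this]
    exact mul_mem hx hy
  | inv x _ hx =>
    have hrinv : r⁻¹ = r := inv_eq_of_mul_eq_one_right hrr
    have : r * x⁻¹ * r = (r * x * r)⁻¹ := by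
      rw [_root_.mul_inv_rev, _root_.mul_inv_rev, hrinv, mul_assoc]
    rw [this]
    exact inv_mem hx

lemma parity (g : ↥(Cfsg.isometryGroup F ⇑Q)) (hg : g ∈ Subgroup.closure (Rset Q)) :
    g ∈ Subgroup.closure (Eset Q) ∨ ∃ r ∈ Rset Q, r * g ∈ Subgroup.closure (Eset Q) := by
  induction hg using Subgroup.closure_induction with
  | mem x hx =>
    right
    exact ⟨x, hx, Subgroup.subset_closure (mul_mem_Eset Q hx hx)⟩
  | one =>
    left
    exact one_mem _
  | mul x y _ _ hx hy =>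
    rcases hx with hx | ⟨r, hr, hx⟩ <;> rcases hy with hy | ⟨r', hr', hy⟩
    · left
      exact mul_mem hx hy
    · right
      refine ⟨r', hr', ?_⟩
      have hrr := refl_sq Q hr'
      have hrr' : ∀ z, r' * (r' * z) = z := fun z => by rw [← mul_assoc, hrr, one_mul]
      have : r' * (x * y) = (r' * x * r') * (r' * y) := by
        simp only [mul_assoc, hrr']
      rw [this]
      exact mul_mem (conj_mem Q hr' hx) hy
    · right
      refine ⟨r, hr, ?_⟩
      rw [← mul_assoc]
      exact mul_mem hx hy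
    · left
      have hrr := refl_sq Q hr
      have hrr' : ∀ z, r * (r * z) = z := fun z => by rw [← mul_assoc, hrr, one_mul]
      have hss := refl_sq Q hr'
      have hss' : ∀ z, r' * (r' * z) = z := fun z => by rw [← mul_assoc, hss, one_mul]
      have : x * y = (r * (r * x) * r) * ((r * r') * (r' * y)) := by
        simp only [mul_assoc, hrr', hss']
      rw [this]
      exact mul_mem (conj_mem Q hr hx)
        (mul_mem (Subgroup.subset_closure (mul_mem_Eset Q hr hr')) hy)
  | inv x _ hx =>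
    rcases hx with hx | ⟨r, hr, hx⟩
    · left
      exact inv_mem hx
    · right
      refine ⟨r, hr, ?_⟩
      have hrr := refl_sq Q hr
      have hrr' : ∀ z, r * (r * z) = z := fun z => by rw [← mul_assoc, hrr, one_mul]
      have hrinv : r⁻¹ = r := inv_eq_of_mul_eq_one_right hrr
      have : r * x⁻¹ = r * (r * x)⁻¹ * r := by
        rw [_root_.mul_inv_rev, hrinv]
        simp only [mul_assoc, hrr, mul_one]
      rw [this]
      exact conj_mem Q hr (inv_mem hx)

lemma mem_SO {g : ↥(Cfsg.isometryGroup F ⇑Q)} : g ∈ Cfsg.specialIsometryGroup F ⇑Q ↔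
    ((g : GL (Fin n) F) : Matrix (Fin n) (Fin n) F).det = 1 := by
  unfold Cfsg.specialIsometryGroup
  rw [MonoidHom.mem_ker, MonoidHom.comp_apply, Units.ext_iff]
  rfl

theorem main (h2 : (2 : F) ≠ 0) (hQ : (QuadraticMap.polarBilin Q).Nondegenerate) :
    Cfsg.specialIsometryGroup F ⇑Q = Subgroup.closure (Eset Q) := by
  have hE : Subgroup.closure (Eset Q) ≤ Cfsg.specialIsometryGroup F ⇑Q := by
    rw [Subgroup.closure_le]
    rintro g ⟨u, v, hu, hv, hg⟩
    rw [SetLike.mem_coe, mem_SO, hg, Matrix.det_mul, reflection_det Q u hu, reflection_det Q v hv]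
    ring
  apply le_antisymm _ hE
  intro g hg
  rcases parity Q g (cd Q h2 hQ g) with h | ⟨r, hr, h⟩
  · exact h
  · exfalso
    have h1 := (mem_SO Q).mp (hE h)
    rw [mem_SO] at hg
    obtain ⟨v, hv, hrv⟩ := hr
    rw [Subgroup.coe_mul, Units.val_mul, Matrix.det_mul, hg, hrv, reflection_det Q v hv] at h1
    apply h2
    linear_combination -h1

end S0792aux
end Aux

/-- For q odd and Q with non-degenerate polar form on F^n, the determinant-one isometries form the subgroup generated by all products r_u r_v of two reflections (Q(u), Q(v) ≠ 0). -/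
theorem result {F : Type*} [Field F] [Fintype F] (h2 : (2 : F) ≠ 0) {n : ℕ} (Q : QuadraticForm F (Fin n → F)) (hQ : (QuadraticMap.polarBilin Q).Nondegenerate) : Cfsg.specialIsometryGroup F ⇑Q = Subgroup.closure {g : ↥(Cfsg.isometryGroup F ⇑Q) | ∃ u v : Fin n → F, Q u ≠ 0 ∧ Q v ≠ 0 ∧ ((g : Matrix.GeneralLinearGroup (Fin n) F) : Matrix (Fin n) (Fin n) F) = Cfsg.reflectionMatrix ⇑Q u * Cfsg.reflectionMatrix ⇑Q v} := by
  exact S0792aux.main Q h2 hQ

end Cfsg.Agent.S0792
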