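import Cfsg.Statements.S0793
import Mathlib
-- import your own Cfsg.Agent.* helpers here

set_option autoImplicit false
open Cfsg

namespace Cfsg.Agent.S0793

open Matrix

section
variable {F : Type*} [Field F] {n : ℕ} (Q : QuadraticForm F (Fin n → F))

theorem polarVec_dot (u x : Fin n → F) :
    Cfsg.polarVec (⇑Q) u ⬝ᵥ x = QuadraticMap.polar (⇑Q) u x := by
  have h := LinearMap.pi_apply_eq_sum_univ (QuadraticMap.polarBilin Q u) x
  simp only [QuadraticMap.polarBilin_apply_apply] at h
  rw [h]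
  unfold Cfsg.polarVec dotProduct
  apply Finset.sum_congr rfl
  intro i _
  rw [smul_eq_mul, mul_comm]
  have : (Pi.single i 1 : Fin n → F) = fun j => if i = j then 1 else 0 := by
    funext j
    simp [Pi.single_apply, eq_comm]
  simp only [this]

theorem siegel_mulVec (u v : Fin n → F) (c : F) (x : Fin n → F) :
    (Cfsg.siegelMatrix (⇑Q) u v c).mulVec x =
      x + c • (QuadraticMap.polar (⇑Q) u x • v - QuadraticMap.polar (⇑Q) v x • u) := by
  unfold Cfsg.siegelMatrix
  rw [Matrix.add_mulVec, Matrix.one_mulVec, Matrix.smul_mulVec, Matrix.sub_mulVec,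
    Matrix.vecMulVec_mulVec, Matrix.vecMulVec_mulVec, polarVec_dot, polarVec_dot]
  simp

end

/-- Root elements: if Q(u) = Q(v) = 0 and f(u, v) = 0 (f the polar form), then for every c the Siegel matrix T_(u,v)(c) preserves Q, fixes u and v, and T(c) T(d) = T(c + d). -/
theorem result {F : Type*} [Field F] {n : ℕ} (Q : QuadraticForm F (Fin n → F)) (u v : Fin n → F) (hu : Q u = 0) (hv : Q v = 0) (huv : QuadraticMap.polar ⇑Q u v = 0) : (∀ c x, Q ((Cfsg.siegelMatrix ⇑Q u v c).mulVec x) = Q x) ∧ (∀ c, (Cfsg.siegelMatrix ⇑Q u v c).mulVec u = u ∧ (Cfsg.siegelMatrix ⇑Q u v c).mulVec v = v) ∧ ∀ c d, Cfsg.siegelMatrix ⇑Q u v c * Cfsg.siegelMatrix ⇑Q u v d = Cfsg.siegelMatrix ⇑Q u v (c + d) := by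
  have hvu : QuadraticMap.polar (⇑Q) v u = 0 := by rw [QuadraticMap.polar_comm]; exact huv
  have huu : QuadraticMap.polar (⇑Q) u u = 0 := by
    rw [QuadraticMap.polar_self, hu]; simp
  have hvv : QuadraticMap.polar (⇑Q) v v = 0 := by
    rw [QuadraticMap.polar_self, hv]; simp
  refine ⟨?_, ?_, ?_⟩
  · intro c x
    rw [siegel_mulVec]
    set a := QuadraticMap.polar (⇑Q) u x with ha
    set b := QuadraticMap.polar (⇑Q) v x with hb
    have hxu : QuadraticMap.polar (⇑Q) x u = a := by rw [QuadraticMap.polar_comm]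
    have hxv : QuadraticMap.polar (⇑Q) x v = b := by rw [QuadraticMap.polar_comm]
    have e1 : c • (a • v - b • u) = (c * a) • v + (-(c * b)) • u := by
      rw [smul_sub, smul_smul, smul_smul, neg_smul, sub_eq_add_neg]
    rw [e1]
    have h1 : Q (x + ((c * a) • v + (-(c * b)) • u)) =
        Q x + Q ((c * a) • v + (-(c * b)) • u)
          + QuadraticMap.polar (⇑Q) x ((c * a) • v + (-(c * b)) • u) := by
      unfold QuadraticMap.polar; ring
    have h2 : Q ((c * a) • v + (-(c * b)) • u) =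
        Q ((c * a) • v) + Q ((-(c * b)) • u)
          + QuadraticMap.polar (⇑Q) ((c * a) • v) ((-(c * b)) • u) := by
      unfold QuadraticMap.polar; ring
    rw [h1, h2, QuadraticMap.polar_add_right, QuadraticMap.polar_smul_right,
      QuadraticMap.polar_smul_right, QuadraticMap.polar_smul_left, QuadraticMap.polar_smul_right,
      QuadraticMap.map_smul, QuadraticMap.map_smul, hu, hv, hvu, hxu, hxv]
    simp only [smul_eq_mul, mul_zero, add_zero]
    ring
  · intro c
    constructor
    · rw [siegel_mulVec, huu, hvu]; simp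
    · rw [siegel_mulVec, huv, hvv]; simp
  · intro c d
    have hN : (Matrix.vecMulVec v (Cfsg.polarVec (⇑Q) u) - Matrix.vecMulVec u (Cfsg.polarVec (⇑Q) v)) *
        (Matrix.vecMulVec v (Cfsg.polarVec (⇑Q) u) - Matrix.vecMulVec u (Cfsg.polarVec (⇑Q) v)) = 0 := by
      rw [Matrix.sub_mul, Matrix.mul_sub, Matrix.mul_sub]
      simp only [Matrix.vecMulVec_mul_vecMulVec, polarVec_dot, huv, hvu, huu, hvv]
      simp
    unfold Cfsg.siegelMatrix
    set N := (Matrix.vecMulVec v (Cfsg.polarVec (⇑Q) u) - Matrix.vecMulVec u (Cfsg.polarVec (⇑Q) v))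
    rw [Matrix.add_mul, Matrix.mul_add, Matrix.mul_add, Matrix.one_mul, Matrix.mul_one,
      Matrix.one_mul, Matrix.smul_mul, Matrix.mul_smul, hN, smul_zero, smul_zero, add_zero,
      add_smul, add_assoc, add_comm (d • N)]

end Cfsg.Agent.S0793
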