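import Cfsg.Statements.S0794
import Mathlib
import Cfsg.Agent.S0793
import Cfsg.Agent.Lib.Helper5.SpMax

set_option autoImplicit false
open Cfsg

namespace Cfsg.Agent.S0794

section Aux
set_option linter.unusedSectionVars false
set_option linter.unusedVariables false
set_option linter.unusedSimpArgs false
namespace S0794aux
open Cfsg Matrix Cfsg.Agent.Lib.Helper5.SpMax

variable {F : Type*} [Field F] {n : ℕ} (Q : QuadraticForm F (Fin n → F))

lemma mem_iso {g : GL (Fin n) F} :
    g ∈ Cfsg.isometryGroup F ⇑Q ↔ ∀ x, Q ((g : Matrix (Fin n) (Fin n) F) *ᵥ x) = Q x := by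
  constructor
  · intro h x; exact h x x
  · intro h x _; exact h x

/-- matrix of the hyperbolic involution -/
def hypMat (u u' : Fin n → F) : Matrix (Fin n) (Fin n) F :=
  1 - (2 : F) • (Matrix.vecMulVec u (Cfsg.polarVec (⇑Q) u') +
    Matrix.vecMulVec u' (Cfsg.polarVec (⇑Q) u))

lemma hypMat_mulVec (u u' x : Fin n → F) :
    hypMat Q u u' *ᵥ x = x - (2 : F) • (QuadraticMap.polar (⇑Q) u' x • u +
      QuadraticMap.polar (⇑Q) u x • u') := by
  unfold hypMat
  rw [Matrix.sub_mulVec, Matrix.one_mulVec, Matrix.smul_mulVec, Matrix.add_mulVec,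
    Matrix.vecMulVec_mulVec, Matrix.vecMulVec_mulVec, Cfsg.Agent.S0793.polarVec_dot,
    Cfsg.Agent.S0793.polarVec_dot]
  simp

lemma one_mem_comm {G : Type*} [Group G] : (1 : G) ∈ commutatorSet G :=
  ⟨1, 1, by simp⟩

theorem main (h2 : (2 : F) ≠ 0) (hQ : (QuadraticMap.polarBilin Q).Nondegenerate)
    (u v : Fin n → F) (hu : Q u = 0) (hv : Q v = 0) (huv : QuadraticMap.polar ⇑Q u v = 0) (c : F)
    (g : ↥(Cfsg.isometryGroup F ⇑Q))
    (hg : ((g : Matrix.GeneralLinearGroup (Fin n) F) : Matrix (Fin n) (Fin n) F) =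
      Cfsg.siegelMatrix ⇑Q u v c) : g ∈ commutatorSet ↥(Cfsg.isometryGroup F ⇑Q) := by
  have hvu : QuadraticMap.polar (⇑Q) v u = 0 := by rw [QuadraticMap.polar_comm]; exact huv
  have huu : QuadraticMap.polar (⇑Q) u u = 0 := by
    rw [QuadraticMap.polar_self, hu]; simp
  have hvv : QuadraticMap.polar (⇑Q) v v = 0 := by
    rw [QuadraticMap.polar_self, hv]; simp
  have hk : ∀ (c₁ : F) (y : Fin n → F), Cfsg.siegelMatrix (⇑Q) u v c₁ *ᵥ y =
      y + c₁ • (QuadraticMap.polar (⇑Q) u y • v - QuadraticMap.polar (⇑Q) v y • u) :=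
    fun c₁ y => Cfsg.Agent.S0793.siegel_mulVec Q u v c₁ y
  by_cases hsep : ∃ y, QuadraticMap.polar (⇑Q) u y ≠ 0 ∧ QuadraticMap.polar (⇑Q) v y = 0
  · -- main case
    obtain ⟨y, hy1, hy2⟩ := hsep
    obtain ⟨y₁, hy₁def⟩ : ∃ y₁, y₁ = (QuadraticMap.polar (⇑Q) u y)⁻¹ • y := ⟨_, rfl⟩
    have huy₁ : QuadraticMap.polar (⇑Q) u y₁ = 1 := by
      rw [hy₁def, QuadraticMap.polar_smul_right, smul_eq_mul, inv_mul_cancel₀ hy1]
    have hvy₁ : QuadraticMap.polar (⇑Q) v y₁ = 0 := by
      rw [hy₁def, QuadraticMap.polar_smul_right, hy2, smul_zero]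
    obtain ⟨u', hu'def⟩ : ∃ u', u' = y₁ - Q y₁ • u := ⟨_, rfl⟩
    have huu' : QuadraticMap.polar (⇑Q) u u' = 1 := by
      rw [hu'def, QuadraticMap.polar_sub_right, QuadraticMap.polar_smul_right, huu, huy₁,
        smul_zero, sub_zero]
    have hvu' : QuadraticMap.polar (⇑Q) v u' = 0 := by
      rw [hu'def, QuadraticMap.polar_sub_right, QuadraticMap.polar_smul_right, hvu, hvy₁,
        smul_zero, sub_zero]
    have hu'u : QuadraticMap.polar (⇑Q) u' u = 1 := by rw [QuadraticMap.polar_comm]; exact huu'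
    have hu'v : QuadraticMap.polar (⇑Q) u' v = 0 := by rw [QuadraticMap.polar_comm]; exact hvu'
    have hQu' : Q u' = 0 := by
      have h1 : Q (y₁ - Q y₁ • u) = Q y₁ + Q (-(Q y₁ • u))
          + QuadraticMap.polar (⇑Q) y₁ (-(Q y₁ • u)) := by
        rw [sub_eq_add_neg]; unfold QuadraticMap.polar; ring
      rw [hu'def, h1, QuadraticMap.map_neg, QuadraticMap.map_smul, hu,
        QuadraticMap.polar_neg_right, QuadraticMap.polar_smul_right,
        QuadraticMap.polar_comm (⇑Q) y₁ u, huy₁]
      simp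
    have hu'u' : QuadraticMap.polar (⇑Q) u' u' = 0 := by
      rw [QuadraticMap.polar_self, hQu']; simp
    -- the involution
    obtain ⟨H, hHdef⟩ : ∃ H, H = hypMat Q u u' := ⟨_, rfl⟩
    have hH : ∀ x, H *ᵥ x = x - (2 : F) • (QuadraticMap.polar (⇑Q) u' x • u +
        QuadraticMap.polar (⇑Q) u x • u') := by
      intro x; rw [hHdef]; exact hypMat_mulVec Q u u' x
    have H1 : ∀ x, QuadraticMap.polar (⇑Q) u (H *ᵥ x) = -QuadraticMap.polar (⇑Q) u x := by
      intro x
      rw [hH, QuadraticMap.polar_sub_right, QuadraticMap.polar_smul_right,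
        QuadraticMap.polar_add_right, QuadraticMap.polar_smul_right,
        QuadraticMap.polar_smul_right, huu, huu']
      simp only [smul_eq_mul]
      ring
    have H2 : ∀ x, QuadraticMap.polar (⇑Q) u' (H *ᵥ x) = -QuadraticMap.polar (⇑Q) u' x := by
      intro x
      rw [hH, QuadraticMap.polar_sub_right, QuadraticMap.polar_smul_right,
        QuadraticMap.polar_add_right, QuadraticMap.polar_smul_right,
        QuadraticMap.polar_smul_right, hu'u, hu'u']
      simp only [smul_eq_mul]
      ring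
    have H3 : ∀ x, QuadraticMap.polar (⇑Q) v (H *ᵥ x) = QuadraticMap.polar (⇑Q) v x := by
      intro x
      rw [hH, QuadraticMap.polar_sub_right, QuadraticMap.polar_smul_right,
        QuadraticMap.polar_add_right, QuadraticMap.polar_smul_right,
        QuadraticMap.polar_smul_right, hvu, hvu']
      simp
    have hHu : H *ᵥ u = -u := by
      rw [hH, hu'u, huu, zero_smul, add_zero, one_smul, two_smul]
      abel
    have hHv : H *ᵥ v = v := by
      rw [hH, hu'v, huv, zero_smul, zero_smul, add_zero, smul_zero, sub_zero]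
    have hHH : H * H = 1 := by
      apply mat_eq_of_mulVec
      intro x
      rw [← Matrix.mulVec_mulVec, Matrix.one_mulVec, hH (H *ᵥ x), H1, H2, hH]
      simp only [neg_smul, smul_add, smul_neg]
      abel
    have hHQ : ∀ x, Q (H *ᵥ x) = Q x := by
      intro x
      rw [hH]
      set a := QuadraticMap.polar (⇑Q) u' x with ha
      set b := QuadraticMap.polar (⇑Q) u x with hb
      have hxu' : QuadraticMap.polar (⇑Q) x u' = a := by rw [QuadraticMap.polar_comm]
      have hxu : QuadraticMap.polar (⇑Q) x u = b := by rw [QuadraticMap.polar_comm]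
      have e1 : x - (2 : F) • (a • u + b • u') = x + ((-(2 * a)) • u + (-(2 * b)) • u') := by
        rw [smul_add, smul_smul, smul_smul, neg_smul, neg_smul, sub_eq_add_neg, neg_add]
      rw [e1]
      have h1 : Q (x + ((-(2 * a)) • u + (-(2 * b)) • u')) =
          Q x + Q ((-(2 * a)) • u + (-(2 * b)) • u')
            + QuadraticMap.polar (⇑Q) x ((-(2 * a)) • u + (-(2 * b)) • u') := by
        unfold QuadraticMap.polar; ring
      have h3 : Q ((-(2 * a)) • u + (-(2 * b)) • u') =
          Q ((-(2 * a)) • u) + Q ((-(2 * b)) • u')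
            + QuadraticMap.polar (⇑Q) ((-(2 * a)) • u) ((-(2 * b)) • u') := by
        unfold QuadraticMap.polar; ring
      rw [h1, h3, QuadraticMap.polar_add_right, QuadraticMap.polar_smul_right,
        QuadraticMap.polar_smul_right, QuadraticMap.polar_smul_left,
        QuadraticMap.polar_smul_right, QuadraticMap.map_smul, QuadraticMap.map_smul, hu, hQu',
        huu', hxu, hxu']
      simp only [smul_eq_mul, mul_zero, add_zero]
      ring
    -- group elements
    obtain ⟨hG, hhG⟩ : ∃ hG : GL (Fin n) F, (hG : Matrix (Fin n) (Fin n) F) = H :=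
      ⟨⟨H, H, hHH, hHH⟩, rfl⟩
    have hT := Cfsg.Agent.S0793.result Q u v hu hv huv
    have hT0 : Cfsg.siegelMatrix (⇑Q) u v 0 = 1 := by
      unfold Cfsg.siegelMatrix; rw [zero_smul, add_zero]
    obtain ⟨c', hcc⟩ : ∃ c' : F, c = -2 * c' := ⟨-c / 2, by field_simp⟩
    subst hcc
    obtain ⟨kG, hkG⟩ : ∃ kG : GL (Fin n) F,
        (kG : Matrix (Fin n) (Fin n) F) = Cfsg.siegelMatrix (⇑Q) u v c' :=
      ⟨⟨Cfsg.siegelMatrix (⇑Q) u v c', Cfsg.siegelMatrix (⇑Q) u v (-c'),
        by rw [hT.2.2, add_neg_cancel, hT0], by rw [hT.2.2, neg_add_cancel, hT0]⟩, rfl⟩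
    have hhmem : hG ∈ Cfsg.isometryGroup F ⇑Q := by
      rw [mem_iso, hhG]; exact hHQ
    have hkmem : kG ∈ Cfsg.isometryGroup F ⇑Q := by
      rw [mem_iso, hkG]; exact hT.1 c'
    have hBu_k : ∀ (c₁ : F) (y : Fin n → F),
        QuadraticMap.polar (⇑Q) u (Cfsg.siegelMatrix (⇑Q) u v c₁ *ᵥ y)
          = QuadraticMap.polar (⇑Q) u y := by
      intro c₁ y
      rw [hk, QuadraticMap.polar_add_right, QuadraticMap.polar_smul_right,
        QuadraticMap.polar_sub_right, QuadraticMap.polar_smul_right,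
        QuadraticMap.polar_smul_right, huv, huu]
      simp
    have hBv_k : ∀ (c₁ : F) (y : Fin n → F),
        QuadraticMap.polar (⇑Q) v (Cfsg.siegelMatrix (⇑Q) u v c₁ *ᵥ y)
          = QuadraticMap.polar (⇑Q) v y := by
      intro c₁ y
      rw [hk, QuadraticMap.polar_add_right, QuadraticMap.polar_smul_right,
        QuadraticMap.polar_sub_right, QuadraticMap.polar_smul_right,
        QuadraticMap.polar_smul_right, hvv, hvu]
      simp
    refine ⟨⟨hG, hhmem⟩, ⟨kG, hkmem⟩, ?_⟩
    rw [commutatorElement_def, mul_inv_eq_iff_eq_mul, mul_inv_eq_iff_eq_mul]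
    apply Subtype.ext
    apply Units.ext
    simp only [Subgroup.coe_mul, Units.val_mul]
    rw [hg, hhG, hkG]
    apply mat_eq_of_mulVec
    intro x
    rw [← Matrix.mulVec_mulVec, ← Matrix.mulVec_mulVec, ← Matrix.mulVec_mulVec,
      hk (-2 * c') (Cfsg.siegelMatrix (⇑Q) u v c' *ᵥ (H *ᵥ x)), hBu_k, hBv_k,
      hk c' (H *ᵥ x), H1, H3, hk c' x, Matrix.mulVec_add, Matrix.mulVec_smul,
      Matrix.mulVec_sub, Matrix.mulVec_smul, Matrix.mulVec_smul, hHu, hHv]
    generalize H *ᵥ x = X
    generalize QuadraticMap.polar (⇑Q) u x = α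
    generalize QuadraticMap.polar (⇑Q) v x = β
    ext i
    simp only [Pi.add_apply, Pi.smul_apply, Pi.sub_apply, Pi.neg_apply, smul_eq_mul]
    ring
  · -- degenerate case: the matrix is the identity
    push Not at hsep
    have hdeg : ∀ x, QuadraticMap.polar (⇑Q) u x • v - QuadraticMap.polar (⇑Q) v x • u = 0 := by
      by_cases hv0 : ∀ y, QuadraticMap.polar (⇑Q) v y = 0
      · have hu0 : u = 0 := by
          apply hQ.1
          intro y
          rw [QuadraticMap.polarBilin_apply_apply]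
          by_contra hne
          exact hsep y hne (hv0 y)
        intro x
        rw [hu0, hv0 x]
        simp
      · push Not at hv0
        obtain ⟨w₀, hw₀⟩ := hv0
        have key : ∀ w, QuadraticMap.polar (⇑Q)
            (u - (QuadraticMap.polar (⇑Q) u w₀ / QuadraticMap.polar (⇑Q) v w₀) • v) w = 0 := by
          intro w
          have h1 : QuadraticMap.polar (⇑Q) u
              (w - (QuadraticMap.polar (⇑Q) v w / QuadraticMap.polar (⇑Q) v w₀) • w₀) = 0 := by
            by_contra hne
            apply hsep _ hne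
            rw [QuadraticMap.polar_sub_right, QuadraticMap.polar_smul_right, smul_eq_mul,
              div_mul_cancel₀ _ hw₀, sub_self]
          rw [QuadraticMap.polar_sub_right, QuadraticMap.polar_smul_right, smul_eq_mul] at h1
          rw [QuadraticMap.polar_sub_left, QuadraticMap.polar_smul_left, smul_eq_mul]
          have h3 : QuadraticMap.polar (⇑Q) u w = QuadraticMap.polar (⇑Q) v w /
              QuadraticMap.polar (⇑Q) v w₀ * QuadraticMap.polar (⇑Q) u w₀ := by
            linear_combination h1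
          rw [h3]
          ring
        have hu_eq : u - (QuadraticMap.polar (⇑Q) u w₀ / QuadraticMap.polar (⇑Q) v w₀) • v = 0 := by
          apply hQ.1
          intro w
          rw [QuadraticMap.polarBilin_apply_apply]
          exact key w
        have hu_eq' := sub_eq_zero.mp hu_eq
        intro x
        rw [hu_eq', QuadraticMap.polar_smul_left, smul_eq_mul, smul_smul, mul_comm, sub_self]
    have hmat : Cfsg.siegelMatrix (⇑Q) u v c = 1 := by
      apply mat_eq_of_mulVec
      intro x
      rw [hk, hdeg, smul_zero, add_zero, Matrix.one_mulVec]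
    have hg1 : g = 1 := by
      apply Subtype.ext
      apply Units.ext
      rw [hg, hmat]
      rfl
    rw [hg1]
    exact one_mem_comm

end S0794aux
end Aux

/-- For q odd, n ≥ 5 and Q with non-degenerate polar form: an isometry whose matrix is a Siegel transformation T_(u,v)(c) (u, v singular and orthogonal) is a commutator in the isometry group, so lies in Ω. -/
theorem result {F : Type*} [Field F] [Fintype F] (h2 : (2 : F) ≠ 0) {n : ℕ} (hn : 5 ≤ n) (Q : QuadraticForm F (Fin n → F)) (hQ : (QuadraticMap.polarBilin Q).Nondegenerate) (u v : Fin n → F) (hu : Q u = 0) (hv : Q v = 0) (huv : QuadraticMap.polar ⇑Q u v = 0) (c : F) (g : ↥(Cfsg.isometryGroup F ⇑Q)) (hg : ((g : Matrix.GeneralLinearGroup (Fin n) F) : Matrix (Fin n) (Fin n) F) = Cfsg.siegelMatrix ⇑Q u v c) : g ∈ commutatorSet ↥(Cfsg.isometryGroup F ⇑Q) ∧ g ∈ Cfsg.Omega F ⇑Q := by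
  have h := S0794aux.main Q h2 hQ u v hu hv huv c g hg
  refine ⟨h, ?_⟩
  show g ∈ commutator _
  rw [commutator_eq_closure]
  exact Subgroup.subset_closure h

end Cfsg.Agent.S0794
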