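import Cfsg.Statements.S0796
import Mathlib
-- import your own Cfsg.Agent.* helpers here

set_option autoImplicit false
open Cfsg

namespace Cfsg.Agent.S0796

/-- If G is finite and acts faithfully and primitively on X, H is the stabiliser of a point, A is a normal subgroup of H whose normal closure in G is G, then for every non-trivial normal subgroup K of G the quotient G ⧸ K is isomorphic to A ⧸ B for some normal subgroup B of A. -/
theorem result {G X : Type*} [Group G] [Finite G] [MulAction G X] [FaithfulSMul G X] (hprim : MulAction.IsPreprimitive G X) (x : X) (A : Subgroup G) (hA : A ≤ MulAction.stabilizer G x) (hAn : (A.subgroupOf (MulAction.stabilizer G x)).Normal) (hgen : Subgroup.normalClosure (A : Set G) = ⊤) (K : Subgroup G) [K.Normal] (hK : K ≠ ⊥) : ∃ (B : Subgroup A) (_ : B.Normal), Nonempty (G ⧸ K ≃* A ⧸ B) := by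
  classical
  -- K acts nontrivially
  have hfix : MulAction.fixedPoints K X ≠ Set.univ := by
    intro hall
    apply hK
    rw [Subgroup.eq_bot_iff_forall]
    intro k hk
    apply FaithfulSMul.eq_of_smul_eq_smul (α := X)
    intro y
    rw [one_smul]
    have hy : y ∈ MulAction.fixedPoints K X := by rw [hall]; trivial
    exact hy ⟨k, hk⟩
  have htrans : MulAction.IsPretransitive K X :=
    MulAction.IsQuasiPreprimitive.isPretransitive_of_normal hfix
  -- conjugation by stabilizer elements preserves A
  have hconjA : ∀ h ∈ MulAction.stabilizer G x, ∀ a ∈ A, h * a * h⁻¹ ∈ A := by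
    intro h hh a ha
    have := hAn.conj_mem ⟨a, hA ha⟩ (by simpa [Subgroup.mem_subgroupOf] using ha) ⟨h, hh⟩
    simpa [Subgroup.mem_subgroupOf] using this
  -- N = A ⊔ K is normal
  have hNnormal : (A ⊔ K).Normal := by
    constructor
    intro n hn g
    -- write g = k * h
    obtain ⟨k, hk⟩ := MulAction.exists_smul_eq K x (g • x)
    have hh : (k : G)⁻¹ * g ∈ MulAction.stabilizer G x := by
      rw [MulAction.mem_stabilizer_iff, mul_smul, ← hk]
      change (k : G)⁻¹ • ((k : G) • x) = x
      rw [inv_smul_smul]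
    set h := (k : G)⁻¹ * g with hdef
    have hg : g = (k : G) * h := by rw [hdef]; group
    have hkN : (k : G) ∈ A ⊔ K := Subgroup.mem_sup_right k.2
    have hstep : h * n * h⁻¹ ∈ A ⊔ K := by
      have hmap : (A ⊔ K).map (MulAut.conj h).toMonoidHom ≤ A ⊔ K := by
        rw [Subgroup.map_sup]
        apply sup_le
        · rintro _ ⟨a, ha, rfl⟩
          exact Subgroup.mem_sup_left (by simpa using hconjA h hh a ha)
        · rintro _ ⟨c, hc, rfl⟩
          refine Subgroup.mem_sup_right ?_
          simpa using ‹K.Normal›.conj_mem c hc h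
      apply hmap
      exact ⟨n, hn, by simp⟩
    have : g * n * g⁻¹ = (k : G) * (h * n * h⁻¹) * (k : G)⁻¹ := by rw [hg]; group
    rw [this]
    exact (A ⊔ K).mul_mem ((A ⊔ K).mul_mem hkN hstep) ((A ⊔ K).inv_mem hkN)
  have htop : A ⊔ K = ⊤ := by
    rw [eq_top_iff, ← hgen]
    exact Subgroup.normalClosure_le_normal (fun a ha => Subgroup.mem_sup_left ha)
  -- the homomorphism A → G ⧸ K
  let φ : A →* G ⧸ K := (QuotientGroup.mk' K).comp A.subtype
  have hsurj : Function.Surjective φ := by
    intro q
    obtain ⟨g, rfl⟩ := QuotientGroup.mk_surjective q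
    have hg : g ∈ A ⊔ K := by rw [htop]; trivial
    rw [← SetLike.mem_coe, Subgroup.mul_normal] at hg
    obtain ⟨a, ha, c, hc, rfl⟩ := hg
    refine ⟨⟨a, ha⟩, ?_⟩
    change (QuotientGroup.mk a : G ⧸ K) = QuotientGroup.mk (a * c)
    rw [QuotientGroup.eq]
    simpa using hc
  exact ⟨φ.ker, inferInstance, ⟨(QuotientGroup.quotientKerEquivOfSurjective φ hsurj).symm⟩⟩

end Cfsg.Agent.S0796
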