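import Cfsg.Statements.S0797
import Cfsg.Agent.Lib.Helper25.IndexTwoCount
import Cfsg.Agent.Lib.Helper25.SpinDiag
-- import your own Cfsg.Agent.* helpers here

set_option autoImplicit false
open Cfsg

namespace Cfsg.Agent.S0797

/-- O^ε_2m(q) ≅ Ω.2² for q odd: if F is finite of odd characteristic, n ≥ 2 is even and Q has non-degenerate polar form on F^n, the isometry group of Q has exactly three subgroups of index 2. -/
theorem result {F : Type*} [Field F] [Fintype F] (h2 : (2 : F) ≠ 0) {n : ℕ} (hn : 2 ≤ n) (heven : Even n) (Q : QuadraticForm F (Fin n → F)) (hQ : (QuadraticMap.polarBilin Q).Nondegenerate) : Nat.card {H : Subgroup ↥(Cfsg.isometryGroup F ⇑Q) // H.index = 2} = 3 := by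
  apply Cfsg.Agent.Lib.Helper25.IndexTwo.card_index_two
  · exact Cfsg.Agent.Lib.Helper25.Spin.omega_index_four Q h2 hQ (by rw [Fintype.card_fin]; exact hn)
  · intro x
    exact Cfsg.Agent.Lib.Helper25.Spin.sq_mem_commutator (Cfsg.Agent.Lib.Helper25.CD.reflSet Q)
      (Cfsg.Agent.Lib.Helper25.CD.reflSet_closure Q hQ
        (Or.inl (Cfsg.Agent.Lib.Helper25.Spin.card_ne_two h2)))
      (Cfsg.Agent.Lib.Helper25.CD.reflSet_inv Q) x

end Cfsg.Agent.S0797
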