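import Cfsg.Statements.S0801
import Cfsg.Agent.Lib.Helper13.DkGen
-- import your own Cfsg.Agent.* helpers here

set_option autoImplicit false
open Cfsg
open Subgroup Matrix Cfsg.Agent.Lib.Helper13 Cfsg.Agent.Lib.Helper13.Dk

namespace Cfsg.Agent.S0801

/-- Let F be a finite field of odd characteristic and λ ≠ 0 an element generating F as a field. Then the lower and upper unitriangular matrices with off-diagonal entries 1 and λ generate SL_2(F), unless |F| = 9 and λ² = −1, in which case they generate a subgroup of order 120. -/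
theorem result {F : Type*} [Field F] [Fintype F] (h2 : (2 : F) ≠ 0) (lam : F) (hlam : lam ≠ 0) (hgen : Subfield.closure ({lam} : Set F) = ⊤) : (Subgroup.closure {g : Matrix.SpecialLinearGroup (Fin 2) F | (g : Matrix (Fin 2) (Fin 2) F) = !![1, 0; 1, 1] ∨ (g : Matrix (Fin 2) (Fin 2) F) = !![1, lam; 0, 1]} = ⊤ ∧ ¬ (Fintype.card F = 9 ∧ lam ^ 2 = -1)) ∨ (Fintype.card F = 9 ∧ lam ^ 2 = -1 ∧ Nat.card ↥(Subgroup.closure {g : Matrix.SpecialLinearGroup (Fin 2) F | (g : Matrix (Fin 2) (Fin 2) F) = !![1, 0; 1, 1] ∨ (g : Matrix (Fin 2) (Fin 2) F) = !![1, lam; 0, 1]}) = 120) := by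
  classical
  have hset : {g : Matrix.SpecialLinearGroup (Fin 2) F |
      (g : Matrix (Fin 2) (Fin 2) F) = !![1, 0; 1, 1] ∨
        (g : Matrix (Fin 2) (Fin 2) F) = !![1, lam; 0, 1]} =
      {Cfsg.Agent.Lib.Helper13.lSL 1, tSL lam} := by
    ext g
    simp only [Set.mem_setOf_eq, Set.mem_insert_iff, Set.mem_singleton_iff]
    constructor
    · rintro (h | h)
      · left
        exact Subtype.ext h
      · right
        exact Subtype.ext h
    · rintro (h | h)
      · left
        rw [h]
        rfl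
      · right
        rw [h]
        rfl
  rw [hset]
  change (genSL lam = ⊤ ∧ _) ∨ (_ ∧ _ ∧ Nat.card (genSL lam) = 120)
  by_cases hexc : Fintype.card F = 9 ∧ lam ^ 2 = -1
  · exact Or.inr ⟨hexc.1, hexc.2, card_genSL_exc lam hexc.1 hexc.2⟩
  · refine Or.inl ⟨?_, hexc⟩
    obtain ⟨p, hp⟩ := CharP.exists F
    haveI hpp : Fact p.Prime := ⟨CharP.char_is_prime F p⟩
    have hp2 : p ≠ 2 := by
      intro h
      subst h
      exact h2 CharTwo.two_eq_zero
    rcases (subEmb (genSL lam)).dickson_refined p with hss | ⟨Θ, hB⟩ | hD | ⟨hsm, h5, hp3⟩ | hsub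
    · exact absurd hss (not_hss lam hlam)
    · exact (not_borel lam hlam Θ hB).elim
    · exact absurd hD (not_dih lam p hp2)
    · subst hp3
      exact absurd (nine_of_alt5 lam hlam hgen hsm h5) hexc
    · exact genSL_eq_top_of_subfield lam h2 hgen hsub

end Cfsg.Agent.S0801
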