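import Cfsg.Statements.S0803
import Cfsg.Agent.Lib.Helper13.PermFourTwoGroup
import Cfsg.Agent.Lib.Helper13.KleinSelfCentralizing
import Cfsg.Agent.Lib.Helper13.PSL2KleinNorm
import Cfsg.Agent.Lib.Helper13.SL2Sylow
import Cfsg.Agent.Lib.Helper13.SL2TorusClasses
import Cfsg.Agent.S1012

set_option autoImplicit false
open Cfsg

namespace Cfsg.Agent.S0803

/-- PSL_2(q) has a subgroup isomorphic to S_4 iff q² ≡ 1 (mod 16). -/
theorem result {F : Type*} [Field F] [Fintype F] {q : ℕ} (hF : Fintype.card F = q) : (∃ H : Subgroup (Matrix.ProjectiveSpecialLinearGroup (Fin 2) F), Nonempty (H ≃* Equiv.Perm (Fin 4))) ↔ q ^ 2 % 16 = 1 := by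
  classical
  subst hF
  have hq1 : 1 < Fintype.card F := Fintype.one_lt_card
  obtain ⟨p, hp⟩ := CharP.exists F
  have := hp
  have hpp : Fact p.Prime := ⟨CharP.char_is_prime F p⟩
  obtain ⟨n, -, hn⟩ := FiniteField.card F p
  constructor
  · rintro ⟨H, ⟨e⟩⟩
    by_cases hp2 : p = 2
    · exfalso
      subst hp2
      obtain ⟨D, hD, a, ha, b, hb, hab⟩ :=
        Cfsg.Agent.Lib.Helper13.exists_noncomm_two_group_of_equiv_perm_four H e
      exact hab ((Cfsg.Agent.Lib.Helper13.abSylow_PSL2 (K := F) 2).comm_of_isPGroup D hD ha hb)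
    · have hodd : Odd (Fintype.card F) := by
        rw [hn]
        exact Odd.pow (hpp.out.odd_of_ne_two hp2)
      have h2 : (2 : F) ≠ 0 := Cfsg.Agent.Lib.Helper13.two_ne_zero_of_odd_card hodd
      have hH24 : Nat.card H = 24 := by
        rw [Nat.card_congr e.toEquiv, Nat.card_perm, Nat.card_eq_fintype_card, Fintype.card_fin]
        rfl
      have hdvd : 24 ∣ Nat.card (Matrix.ProjectiveSpecialLinearGroup (Fin 2) F) := by
        rw [← hH24]
        exact Subgroup.card_subgroup_dvd_card H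
      have hP := Cfsg.Agent.Lib.Helper13.card_PSL2_mul_two (F := F) h2
      have h16 : 16 ∣ Fintype.card F * (Fintype.card F ^ 2 - 1) := by
        rw [← hP]
        obtain ⟨m, hm⟩ := hdvd
        rw [hm]
        exact ⟨3 * m, by ring⟩
      have hcop : Nat.Coprime 16 (Fintype.card F) := by
        have : (16 : ℕ) = 2 ^ 4 := by norm_num
        rw [this]
        apply Nat.Coprime.pow_left
        exact Nat.coprime_two_left.mpr hodd
      have h16' : 16 ∣ Fintype.card F ^ 2 - 1 := hcop.dvd_of_dvd_mul_left h16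
      have hge : 1 ≤ Fintype.card F ^ 2 := Nat.one_le_pow _ _ (by omega)
      obtain ⟨j, hj⟩ := h16'
      omega
  · intro hq
    have hq16 : Fintype.card F % 16 = 1 ∨ Fintype.card F % 16 = 7 ∨ Fintype.card F % 16 = 9 ∨
        Fintype.card F % 16 = 15 := by
      rw [Nat.pow_mod] at hq
      have hlt : Fintype.card F % 16 < 16 := Nat.mod_lt _ (by norm_num)
      generalize Fintype.card F % 16 = r at hq hlt
      interval_cases r <;> simp_all
    have hodd : Odd (Fintype.card F) := by
      rw [Nat.odd_iff]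
      omega
    have hq8 : Fintype.card F % 8 = 1 ∨ Fintype.card F % 8 = 7 := by omega
    have h2 : (2 : F) ≠ 0 := Cfsg.Agent.Lib.Helper13.two_ne_zero_of_odd_card hodd
    have h12 := Cfsg.Agent.Lib.Helper13.twelve_mul_card_kleinFour_PSL2 (F := F) h2
    have hGpos : 0 < Nat.card (Matrix.ProjectiveSpecialLinearGroup (Fin 2) F) := Nat.card_pos
    have hne : Nat.card {V : Subgroup (Matrix.ProjectiveSpecialLinearGroup (Fin 2) F) //
        IsKleinFour V} ≠ 0 := by
      intro h
      rw [h, mul_zero] at h12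
      omega
    obtain ⟨⟨V, hV⟩⟩ := (Nat.card_ne_zero.mp hne).1
    have hN24 := Cfsg.Agent.Lib.Helper13.card_normalizer_kleinFour_of_one_seven h2 hq8 V hV
    have hC := Cfsg.Agent.Lib.Helper13.centralizer_kleinFour_PSL2 h2 V hV
    refine ⟨Subgroup.normalizer (V : Set (Matrix.ProjectiveSpecialLinearGroup (Fin 2) F)), ?_⟩
    apply Cfsg.Agent.S1012.result hN24
    intro g
    rw [← Subgroup.orderOf_coe]
    exact Cfsg.Agent.Lib.Helper13.orderOf_ne_six_of_mem_normalizer_klein V hV hC g g.2

end Cfsg.Agent.S0803
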