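import Cfsg.Statements.S0806
import Cfsg.Agent.Lib.Helper13.DkMax

set_option autoImplicit false
open Cfsg
open Cfsg.Agent.Lib.Helper13.Dk Cfsg.Agent.Lib.Helper13

namespace Cfsg.Agent.S0806

/-- Minimal index (Galois): if q ∉ {2, 3, 5, 7, 9, 11} then every proper subgroup of PSL_2(q) has index ≥ q + 1, and some subgroup has index exactly q + 1. -/
theorem result {F : Type*} [Field F] [Fintype F] {q : ℕ} (hF : Fintype.card F = q) (hq : q ∉ ({2, 3, 5, 7, 9, 11} : Finset ℕ)) : (∀ H : Subgroup (Matrix.ProjectiveSpecialLinearGroup (Fin 2) F), H ≠ ⊤ → q + 1 ≤ H.index) ∧ ∃ H : Subgroup (Matrix.ProjectiveSpecialLinearGroup (Fin 2) F), H.index = q + 1 := by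
  classical
  obtain ⟨p, hp⟩ := CharP.exists F
  have hpF : Fact p.Prime := ⟨CharP.char_is_prime F p⟩
  have hq2 : 2 ≤ q := by rw [← hF]; exact Fintype.one_lt_card
  simp only [Finset.mem_insert, Finset.mem_singleton, not_or] at hq
  have hq4 : 4 ≤ q := by omega
  set d := Nat.gcd 2 (q - 1) with hd
  have hd12 : d = 1 ∨ d = 2 := by
    have h1 : d ∣ 2 := Nat.gcd_dvd_left 2 (q - 1)
    have h2 : d ≤ 2 := Nat.le_of_dvd (by norm_num) h1
    have h3 : 0 < d := Nat.gcd_pos_of_pos_left _ (by norm_num)
    omega
  have hd2 : d = 2 → q % 2 = 1 := by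
    intro h
    have h1 : d ∣ q - 1 := Nat.gcd_dvd_right 2 (q - 1)
    rw [h] at h1
    omega
  have hd1 : d = 1 → q % 2 = 0 := by
    intro h
    by_contra hcon
    have h1 : 2 ∣ q - 1 := by omega
    have : d = 2 := Nat.gcd_eq_left h1
    omega
  have hG := card_PSL2_mul_gcd (K := F)
  rw [hF, ← hd] at hG
  obtain ⟨a, ha⟩ : ∃ a, q = a + 1 := ⟨q - 1, by omega⟩
  have hsq : q ^ 2 - 1 = (q - 1) * (q + 1) := by
    rw [ha, Nat.add_sub_cancel]
    apply Nat.sub_eq_of_eq_add; ring
  rw [hsq] at hG
  constructor
  · intro H hH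
    -- it suffices to bound `|H| d`
    suffices hsuff : Nat.card H * d ≤ q * (q - 1) by
      have h1 := Subgroup.card_mul_index H
      by_contra hcon
      push Not at hcon
      have h2 : H.index ≤ q := by omega
      have hHpos : 0 < Nat.card H := Nat.card_pos
      have h3 : Nat.card H * H.index * d ≤ Nat.card H * q * d :=
        Nat.mul_le_mul_right d (Nat.mul_le_mul_left _ h2)
      have h4 : Nat.card H * q * d = q * (Nat.card H * d) := by ring
      have h5 : q * (Nat.card H * d) ≤ q * (q * (q - 1)) := Nat.mul_le_mul_left q hsuff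
      rw [h1, hG] at h3
      have h6 : q * (q * (q - 1)) < q * ((q - 1) * (q + 1)) := by
        apply Nat.mul_lt_mul_of_pos_left _ (by omega)
        rw [mul_comm q (q - 1)]
        apply Nat.mul_lt_mul_of_pos_left (by omega) (by omega)
      omega
    have hqq : q + 1 ≤ q * (q - 1) := by
      rw [ha, Nat.add_sub_cancel]; nlinarith
    have hqq2 : 2 * (q + 1) ≤ q * (q - 1) := by
      rw [ha, Nat.add_sub_cancel]; nlinarith
    have hD := dickson_subgroup' p H
    rw [hF] at hD
    unfold Concl' ConclN at hD
    rw [← hd] at hD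
    have hdvdG : Nat.card H ∣ Nat.card (Matrix.ProjectiveSpecialLinearGroup (Fin 2) F) :=
      Subgroup.card_subgroup_dvd_card H
    rcases hD with ⟨k, hk, hc⟩ | hN | ⟨⟨e⟩⟩ | ⟨⟨e⟩⟩ | ⟨⟨e⟩⟩ | ⟨K', hKf, hKt, m, hm, hiso⟩
    · have hkle : k * d ≤ q + 1 := by
        rcases hk with hk | hk
        · have h1 : k ≤ (q + 1) / d := by
            apply Nat.le_of_dvd _ hk
            apply Nat.div_pos _ (by omega)
            omega
          calc k * d ≤ (q + 1) / d * d := Nat.mul_le_mul_right d h1
            _ ≤ q + 1 := Nat.div_mul_le_self _ _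
        · have h1 : k ≤ (q - 1) / d := by
            apply Nat.le_of_dvd _ hk
            apply Nat.div_pos _ (by omega)
            omega
          calc k * d ≤ (q - 1) / d * d := Nat.mul_le_mul_right d h1
            _ ≤ q - 1 := Nat.div_mul_le_self _ _
            _ ≤ q + 1 := by omega
      rcases hc with ⟨hcyc, hcard⟩ | ⟨⟨e⟩⟩
      · rw [hcard]; omega
      · have : Nat.card H = 2 * k := by
          rw [Nat.card_congr e.toEquiv, DihedralGroup.nat_card]
        rw [this]
        calc 2 * k * d = 2 * (k * d) := by ring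
          _ ≤ 2 * (q + 1) := Nat.mul_le_mul_left 2 hkle
          _ ≤ q * (q - 1) := hqq2
    · exact Nat.le_of_dvd (Nat.mul_pos (by omega) (by omega)) hN.2.1
    · have h12 : Nat.card H = 12 := by
        rw [Nat.card_congr e.toEquiv, Nat.card_eq_fintype_card]; rfl
      rw [h12]
      rcases hd12 with h1 | h1
      · rw [h1, ha, Nat.add_sub_cancel]; nlinarith
      · have := hd2 h1
        have h13 : 13 ≤ q := by omega
        rw [h1, ha, Nat.add_sub_cancel]; nlinarith
    · have h24 : Nat.card H = 24 := by
        rw [Nat.card_congr e.toEquiv, Nat.card_eq_fintype_card, Fintype.card_perm, Fintype.card_fin]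
        rfl
      rw [h24]
      rcases hd12 with h1 | h1
      · have := hd1 h1
        by_cases hq4' : q = 4
        · exfalso
          rw [h1, hq4'] at hG
          norm_num at hG
          rw [h24, Nat.card_eq_fintype_card, hG] at hdvdG
          norm_num at hdvdG
        · have h6 : 6 ≤ q := by omega
          rw [h1, ha, Nat.add_sub_cancel]; nlinarith
      · have := hd2 h1
        have h13 : 13 ≤ q := by omega
        rw [h1, ha, Nat.add_sub_cancel]; nlinarith
    · have h60 : Nat.card H = 60 := by
        rw [Nat.card_congr e.toEquiv, Nat.card_eq_fintype_card]; rfl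
      rw [h60]
      rcases hd12 with h1 | h1
      · have := hd1 h1
        by_cases hq10 : 10 ≤ q
        · rw [h1, ha, Nat.add_sub_cancel]; nlinarith
        · exfalso
          have h468 : q = 4 ∨ q = 6 ∨ q = 8 := by omega
          rcases h468 with h' | h' | h'
          · apply hH
            apply eq_top_of_card_ge
            rw [h60]
            rw [h1, h'] at hG
            norm_num at hG
            rw [Nat.card_eq_fintype_card, hG]
          · rw [h1, h'] at hG
            norm_num at hG
            rw [h60, Nat.card_eq_fintype_card, hG] at hdvdG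
            norm_num at hdvdG
          · rw [h1, h'] at hG
            norm_num at hG
            rw [h60, Nat.card_eq_fintype_card, hG] at hdvdG
            norm_num at hdvdG
      · have := hd2 h1
        have h13 : 13 ≤ q := by omega
        rw [h1, ha, Nat.add_sub_cancel]; nlinarith
    · have hs2 : 2 ≤ Fintype.card K' := Fintype.one_lt_card
      set s := Fintype.card K' with hs
      have hHle : Nat.card H ≤ s * (s ^ 2 - 1) := by
        rcases hiso with ⟨⟨e⟩⟩ | ⟨⟨e⟩⟩
        · have h1 := card_PSL2_mul_gcd (K := K')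
          rw [← Nat.card_congr e.toEquiv] at h1
          rw [← h1]
          exact Nat.le_mul_of_pos_right _ (Nat.gcd_pos_of_pos_left _ (by norm_num))
        · have h1 := card_PGL2 (K := K')
          rw [← Nat.card_congr e.toEquiv] at h1
          exact h1.le
      have hm0 : m ≠ 0 := by
        rintro rfl
        rw [pow_zero] at hm; omega
      have hm1 : m ≠ 1 := by
        rintro rfl
        rw [pow_one] at hm
        exact hH (eq_top_of_card_field_eq H K' (hm.trans hF.symm) hiso)
      obtain ⟨b, hb⟩ : ∃ b, s = b + 2 := ⟨s - 2, by omega⟩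
      have hs2' : s ^ 2 - 1 = b ^ 2 + 4 * b + 3 := by
        rw [hb]; apply Nat.sub_eq_of_eq_add; ring
      rw [hs2'] at hHle
      have hdle : d ≤ 2 := by omega
      by_cases hm2 : m = 2
      · rw [hm2] at hm
        rw [← hm, hs2']
        calc Nat.card H * d ≤ (s * (b ^ 2 + 4 * b + 3)) * s :=
              Nat.mul_le_mul hHle (by omega)
          _ = s ^ 2 * (b ^ 2 + 4 * b + 3) := by ring
      · have hm3 : 3 ≤ m := by omega
        have h1 : s ^ 3 ≤ q := by
          rw [← hm]; exact Nat.pow_le_pow_right (by omega) hm3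
        have h2 : Nat.card H * d ≤ 2 * q := by
          calc Nat.card H * d ≤ (s * (b ^ 2 + 4 * b + 3)) * 2 := Nat.mul_le_mul hHle hdle
            _ ≤ 2 * s ^ 3 := by rw [hb]; nlinarith
            _ ≤ 2 * q := Nat.mul_le_mul_left 2 h1
        have h3 : 2 * q ≤ q * (q - 1) := by
          rw [mul_comm 2 q]; exact Nat.mul_le_mul_left q (by omega)
        omega
  · -- the Borel subgroup
    let q' : Matrix.SpecialLinearGroup (Fin 2) F →* Matrix.ProjectiveSpecialLinearGroup (Fin 2) F :=
      QuotientGroup.mk' (Subgroup.center (Matrix.SpecialLinearGroup (Fin 2) F))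
    have hq' : Function.Surjective q' := QuotientGroup.mk'_surjective _
    refine ⟨(borelSL F).map q', ?_⟩
    have hker : q'.ker ≤ borelSL F := by
      intro z hz
      rw [QuotientGroup.ker_mk'] at hz
      rw [Matrix.SpecialLinearGroup.mem_center_iff] at hz
      obtain ⟨r, -, hr⟩ := hz
      rw [mem_borelSL, ← hr]
      simp
    rw [Subgroup.index_map_eq _ hq' hker]
    have h1 := Subgroup.card_mul_index (borelSL F)
    rw [Emb.card_borelSL_eq, card_SL2, hF, hsq] at h1
    have h2 : q * (q - 1) * (borelSL F).index = q * (q - 1) * (q + 1) := by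
      rw [h1]; ring
    exact Nat.eq_of_mul_eq_mul_left (Nat.mul_pos (by omega) (by omega)) h2

end Cfsg.Agent.S0806
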