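import Cfsg.Statements.S0809
import Cfsg.Agent.Lib.Helper13.SL2OrderFour

set_option autoImplicit false
open Cfsg

namespace Cfsg.Agent.S0809

/-- In SL_2(q), q odd: any two subgroups of order 4 are conjugate, and the normaliser of a subgroup of order 4 has order 2(q − 1) if q ≡ 1 (mod 4) and 2(q + 1) if q ≡ 3 (mod 4); consequently all involutions of PSL_2(q) are conjugate. -/
theorem result {F : Type*} [Field F] [Fintype F] {q : ℕ} (hF : Fintype.card F = q) (hodd : Odd q) (A : Subgroup (Matrix.SpecialLinearGroup (Fin 2) F)) (hA : Nat.card A = 4) : (∀ B : Subgroup (Matrix.SpecialLinearGroup (Fin 2) F), Nat.card B = 4 → ∃ g : Matrix.SpecialLinearGroup (Fin 2) F, B = A.map (MulAut.conj g).toMonoidHom) ∧ (q % 4 = 1 → Nat.card ↥(Subgroup.normalizer (A : Set (Matrix.SpecialLinearGroup (Fin 2) F))) = 2 * (q - 1)) ∧ (q % 4 = 3 → Nat.card ↥(Subgroup.normalizer (A : Set (Matrix.SpecialLinearGroup (Fin 2) F))) = 2 * (q + 1)) ∧ (∀ x y : Matrix.ProjectiveSpecialLinearGroup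 (Fin 2) F, orderOf x = 2 → orderOf y = 2 → IsConj x y) := by
  classical
  have h2 : (2 : F) ≠ 0 := by
    obtain ⟨p, hp⟩ := CharP.exists F
    have := hp
    have : Fact p.Prime := ⟨CharP.char_is_prime F p⟩
    by_contra h
    have hp2 : p = 2 := by
      have : ((2 : ℕ) : F) = 0 := by exact_mod_cast h
      rw [CharP.cast_eq_zero_iff F p] at this
      exact (Nat.prime_dvd_prime_iff_eq (Fact.out) Nat.prime_two).mp this
    subst hp2
    obtain ⟨r, hr⟩ := Cfsg.Agent.Lib.Helper13.even_card_of_char_two (F := F)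
    rw [hF] at hr
    obtain ⟨s, hs⟩ := hodd
    omega
  obtain ⟨a, -, hta, hAa⟩ := Cfsg.Agent.Lib.Helper13.exists_gen_of_card_four h2 A hA
  have haa := Cfsg.Agent.Lib.Helper13.mul_self_of_trace_eq_zero a hta
  have hN := Cfsg.Agent.Lib.Helper13.card_normalizer_zpowers h2 a haa
  obtain ⟨hC1, hC3⟩ := Cfsg.Agent.Lib.Helper13.card_centralizer_of_trace_zero h2 a hta
  rw [hF] at hC1 hC3
  refine ⟨fun B hB => Cfsg.Agent.Lib.Helper13.conj_of_card_four h2 A B hA hB, ?_, ?_,
    fun x y hx hy => Cfsg.Agent.Lib.Helper13.isConj_of_orderOf_two h2 x y hx hy⟩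
  · intro h
    rw [hAa, hN, hC1 h]
  · intro h
    rw [hAa, hN, hC3 h]

end Cfsg.Agent.S0809
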