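import Cfsg.Statements.S0810
import Cfsg.Agent.Lib.Helper13.DkWrap
import Cfsg.Agent.Lib.Helper13.DkSolv
import Cfsg.Agent.Lib.Helper13.DkSubArith
import Cfsg.Agent.S0804

set_option autoImplicit false
open Cfsg
open Cfsg.Agent.Lib.Helper13.Dk

namespace Cfsg.Agent.S0810

theorem arith_lt {k q A d d' : ℕ} (hk : 4 ≤ k) (hkq : k ∣ q) (hlt : k < q) (hd : d ≤ 2)
    (hd' : 1 ≤ d') (h1 : A * d' = k * (k ^ 2 - 1)) (h2 : A * d = q * (q ^ 2 - 1)) : False := by
  obtain ⟨c, rfl⟩ := hkq
  have hc : 2 ≤ c := by
    by_contra hcon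
    have : c = 0 ∨ c = 1 := by omega
    rcases this with rfl | rfl
    · simp at hlt
    · simp at hlt
  obtain ⟨K2, hK2⟩ : ∃ K2, K2 + 1 = k ^ 2 := ⟨k ^ 2 - 1, Nat.sub_add_cancel (Nat.one_le_pow _ _ (by omega))⟩
  obtain ⟨Q2, hQ2⟩ : ∃ Q2, Q2 + 1 = (k * c) ^ 2 :=
    ⟨(k * c) ^ 2 - 1, Nat.sub_add_cancel (Nat.one_le_pow _ _ (by positivity))⟩
  have e1 : k ^ 2 - 1 = K2 := by omega
  have e2 : (k * c) ^ 2 - 1 = Q2 := by omega
  rw [e1] at h1
  rw [e2] at h2
  have hQK : K2 < Q2 := by
    have : k ^ 2 < (k * c) ^ 2 := Nat.pow_lt_pow_left hlt (by norm_num)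
    omega
  have hA : A ≤ k * K2 := by
    rw [← h1]
    exact Nat.le_mul_of_pos_right A hd'
  have hA2 : k * c * Q2 ≤ 2 * A := by
    rw [← h2, mul_comm 2 A]
    exact Nat.mul_le_mul_left A hd
  have h3 : 2 * (k * K2) < k * c * Q2 := by
    calc 2 * (k * K2) = k * 2 * K2 := by ring
      _ < k * 2 * Q2 := by
        apply Nat.mul_lt_mul_of_pos_left hQK (by omega)
      _ ≤ k * c * Q2 := by
        apply Nat.mul_le_mul_right
        exact Nat.mul_le_mul_left k hc
  omega

theorem card_alt_five' : Nat.card (alternatingGroup (Fin 5)) = 60 := by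
  rw [nat_card_alternatingGroup]
  simp [Nat.factorial]

theorem card_alt_four' : Nat.card (alternatingGroup (Fin 4)) = 12 := by
  rw [nat_card_alternatingGroup]
  simp [Nat.factorial]

section

variable {F : Type*} [Field F] [Fintype F]

/-- A proper subfield with at least four elements gives a proper non-solvable subgroup. -/
theorem false_of_subfield
    (hmin : ∀ H : Subgroup (Matrix.ProjectiveSpecialLinearGroup (Fin 2) F), H ≠ ⊤ →
      Group.IsSolvable H)
    (K : Type) [Field K] [Fintype K] (m : ℕ) (hK : Fintype.card K ^ m = Fintype.card F)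
    (h4 : 4 ≤ Fintype.card K) (hlt : Fintype.card K < Fintype.card F) : False := by
  obtain ⟨ι⟩ := Cfsg.Agent.Lib.Helper13.exists_ringHom_of_card_pow (F := F) (K := K) m hK
  obtain ⟨H, ⟨e⟩⟩ := Cfsg.Agent.Lib.Helper13.exists_subgroup_PSL2 ι
  have hm : m ≠ 0 := by
    rintro rfl
    rw [pow_zero] at hK
    omega
  have hne : H ≠ ⊤ := by
    intro hH
    have h1 := card_PSL2_mul_gcd (K := K)
    have h2 := card_PSL2_mul_gcd (K := F)
    have hcard : Nat.card (Matrix.ProjectiveSpecialLinearGroup (Fin 2) K) =
        Nat.card (Matrix.ProjectiveSpecialLinearGroup (Fin 2) F) := by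
      rw [← Nat.card_congr e.toEquiv, hH, Subgroup.card_top]
    rw [hcard] at h1
    refine arith_lt h4 ?_ hlt ?_ ?_ h1 h2
    · rw [← hK]; exact dvd_pow_self _ hm
    · exact Nat.le_of_dvd (by norm_num) (Nat.gcd_dvd_left _ _)
    · exact Nat.gcd_pos_of_pos_left _ (by norm_num)
  have hs := hmin H hne
  apply not_isSolvable_PSL2 h4
  exact Group.isSolvable_of_isSolvable_injective (f := e.symm.toMonoidHom) e.symm.injective

/-- If `5 ∣ q (q² - 1)` and `|PSL₂(q)| ≠ 60` there is a proper non-solvable subgroup. -/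
theorem false_of_five_dvd
    (hmin : ∀ H : Subgroup (Matrix.ProjectiveSpecialLinearGroup (Fin 2) F), H ≠ ⊤ →
      Group.IsSolvable H)
    (h5 : 5 ∣ Fintype.card F * (Fintype.card F ^ 2 - 1))
    (h60 : Nat.card (Matrix.ProjectiveSpecialLinearGroup (Fin 2) F) ≠ 60) : False := by
  obtain ⟨H, ⟨e⟩⟩ := (Cfsg.Agent.S0804.result (F := F) rfl).mpr h5
  have hne : H ≠ ⊤ := by
    intro hH
    apply h60
    rw [← Subgroup.card_top (G := Matrix.ProjectiveSpecialLinearGroup (Fin 2) F), ← hH,
      Nat.card_congr e.toEquiv, card_alt_five']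
  have hs := hmin H hne
  apply not_isSolvable_alt5
  exact Group.isSolvable_of_isSolvable_injective (f := e.symm.toMonoidHom) e.symm.injective

end

/-- PSL_2(q) is minimal simple iff q is 2^r (r prime), 3^r (r an odd prime), a prime greater than 5 congruent to 2 or 3 mod 5, or 5. -/
theorem result {F : Type*} [Field F] [Fintype F] {q : ℕ} (hF : Fintype.card F = q) : Cfsg.IsMinimalSimple (Matrix.ProjectiveSpecialLinearGroup (Fin 2) F) ↔ ((∃ r : ℕ, r.Prime ∧ q = 2 ^ r) ∨ (∃ r : ℕ, r.Prime ∧ r ≠ 2 ∧ q = 3 ^ r) ∨ (q.Prime ∧ 5 < q ∧ (q % 5 = 2 ∨ q % 5 = 3)) ∨ q = 5) := by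
  classical
  subst hF
  obtain ⟨p, hp⟩ := CharP.exists F
  haveI hpp : Fact p.Prime := ⟨CharP.char_is_prime F p⟩
  obtain ⟨n, -, hn⟩ := FiniteField.card F p
  have hGc := card_PSL2_mul_gcd (K := F)
  have hd2 : Nat.gcd 2 (Fintype.card F - 1) ≤ 2 :=
    Nat.le_of_dvd (by norm_num) (Nat.gcd_dvd_left _ _)
  have hd1 : 1 ≤ Nat.gcd 2 (Fintype.card F - 1) := Nat.gcd_pos_of_pos_left _ (by norm_num)
  have hq2 : 2 ≤ Fintype.card F := Fintype.one_lt_card
  constructor
  · rintro ⟨hsimple, hnc, hsolv⟩
    -- `4 ≤ q`
    have h4 : 4 ≤ Fintype.card F := by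
      by_contra hcon
      have hsol : Group.IsSolvable (Matrix.ProjectiveSpecialLinearGroup (Fin 2) F) := by
        have h23 : Fintype.card F = 2 ∨ Fintype.card F = 3 := by omega
        rcases h23 with h | h
        · rw [h] at hGc
          norm_num at hGc
          exact Cfsg.Agent.CharLib.isSolvable_of_card_pq 2 3 1 1 Nat.prime_two Nat.prime_three
            (by rw [Nat.card_eq_fintype_card, hGc]; norm_num)
        · rw [h] at hGc
          norm_num at hGc
          have : Fintype.card (Matrix.ProjectiveSpecialLinearGroup (Fin 2) F) = 12 := by omega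
          exact Cfsg.Agent.CharLib.isSolvable_of_card_pq 2 3 2 1 Nat.prime_two Nat.prime_three
            (by rw [Nat.card_eq_fintype_card, this]; norm_num)
      have hcomm := (IsSimpleGroup.comm_iff_isSolvable
        (G := Matrix.ProjectiveSpecialLinearGroup (Fin 2) F)).mpr hsol
      exact hnc ⟨⟨hcomm⟩⟩
    -- no proper subfield with at least four elements
    have hsub : ∀ a b : ℕ, a * b = (n : ℕ) → 4 ≤ p ^ a → 2 ≤ b → False := by
      intro a b hab h4a hb
      have ha0 : a ≠ 0 := by
        rintro rfl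
        simp at h4a
      letI : Fintype (GaloisField p a) := Fintype.ofFinite _
      have hcK : Fintype.card (GaloisField p a) = p ^ a := by
        rw [← Nat.card_eq_fintype_card, GaloisField.card p a ha0]
      refine false_of_subfield hsolv (GaloisField p a) b ?_ ?_ ?_
      · rw [hcK, hn, ← pow_mul, hab]
      · rw [hcK]; exact h4a
      · rw [hcK, hn]
        apply Nat.pow_lt_pow_right hpp.out.one_lt
        rw [← hab]
        have : 0 < a := Nat.pos_of_ne_zero ha0
        nlinarith
    -- main case analysis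
    have hn1 : 1 ≤ (n : ℕ) := n.pos
    rcases Nat.lt_or_ge 1 (n : ℕ) with hn2 | hn2
    · -- `n ≥ 2`
      have hp3 : p ≤ 3 := by
        by_contra hcon
        exact hsub 1 n (one_mul _) (by rw [pow_one]; omega) hn2
      have hnprime : (n : ℕ).Prime := by
        by_contra hcon
        obtain ⟨a, ha1, ha2, ha3⟩ := Nat.exists_dvd_of_not_prime2 hn2 hcon
        obtain ⟨b, hb⟩ := ha1
        have hb2 : 2 ≤ b := by
          by_contra hcon2
          have : b = 0 ∨ b = 1 := by omega
          rcases this with rfl | rfl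
          · omega
          · omega
        refine hsub a b hb.symm ?_ hb2
        calc 4 = 2 ^ 2 := by norm_num
          _ ≤ p ^ 2 := Nat.pow_le_pow_left hpp.out.two_le 2
          _ ≤ p ^ a := Nat.pow_le_pow_right hpp.out.pos ha2
      have hp23 : p = 2 ∨ p = 3 := by
        have := hpp.out.two_le
        omega
      rcases hp23 with rfl | rfl
      · exact Or.inl ⟨n, hnprime, hn⟩
      · refine Or.inr (Or.inl ⟨n, hnprime, ?_, hn⟩)
        intro hn2'
        rw [hn2'] at hn
        have hq9 : Fintype.card F = 9 := by rw [hn]; norm_num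
        refine false_of_five_dvd hsolv ?_ ?_
        · rw [hq9]; norm_num
        · intro h60
          rw [hq9, h60] at hGc
          norm_num at hGc
    · -- `n = 1`
      have hn1' : (n : ℕ) = 1 := le_antisymm hn2 hn1
      rw [hn1', pow_one] at hn
      have hqp : (Fintype.card F).Prime := hn ▸ hpp.out
      by_cases h5 : Fintype.card F = 5
      · exact Or.inr (Or.inr (Or.inr h5))
      · have hq4 : Fintype.card F ≠ 4 := by
          intro h
          rw [h] at hqp
          norm_num at hqp
        have hq6 : Fintype.card F ≠ 6 := by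
          intro h
          rw [h] at hqp
          norm_num at hqp
        have h7 : 7 ≤ Fintype.card F := by omega
        refine Or.inr (Or.inr (Or.inl ⟨hqp, by omega, ?_⟩))
        by_contra hcon
        have hmod : Fintype.card F % 5 = 0 ∨ Fintype.card F % 5 = 1 ∨ Fintype.card F % 5 = 4 := by
          omega
        refine false_of_five_dvd hsolv ?_ ?_
        · rcases hmod with h | h | h
          · exact Dvd.dvd.mul_right (Nat.dvd_of_mod_eq_zero h) _
          · apply Dvd.dvd.mul_left
            apply (Nat.modEq_iff_dvd' (Nat.one_le_pow _ _ (by omega))).mp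
            have : Fintype.card F ^ 2 % 5 = 1 := by rw [Nat.pow_mod, h]
            exact this.symm
          · apply Dvd.dvd.mul_left
            apply (Nat.modEq_iff_dvd' (Nat.one_le_pow _ _ (by omega))).mp
            have : Fintype.card F ^ 2 % 5 = 1 := by rw [Nat.pow_mod, h]
            exact this.symm
        · intro h60
          rw [h60] at hGc
          have h49 : 7 ^ 2 ≤ Fintype.card F ^ 2 := Nat.pow_le_pow_left h7 2
          have : 7 * 48 ≤ Fintype.card F * (Fintype.card F ^ 2 - 1) :=
            Nat.mul_le_mul h7 (by omega)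
          omega
  · intro hq
    have h4 : 4 ≤ Fintype.card F := by
      rcases hq with ⟨r, hr, h⟩ | ⟨r, hr, hr2, h⟩ | ⟨hqp, h5, _⟩ | h
      · rw [h]
        calc 4 = 2 ^ 2 := by norm_num
          _ ≤ 2 ^ r := Nat.pow_le_pow_right (by norm_num) hr.two_le
      · rw [h]
        calc 4 ≤ 3 ^ 2 := by norm_num
          _ ≤ 3 ^ r := Nat.pow_le_pow_right (by norm_num) hr.two_le
      · omega
      · omega
    refine ⟨Matrix.ProjectiveSpecialLinearGroup.rank_two_simple
      (by rw [Nat.card_eq_fintype_card]; exact h4), not_comm_PSL2 h4, ?_⟩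
    intro H hH
    have hD := dickson_subgroup' p H
    unfold Concl' ConclN at hD
    rcases hD with ⟨k, hk, ⟨hcyc, -⟩ | ⟨⟨e⟩⟩⟩ | hN | ⟨⟨e⟩⟩ | ⟨⟨e⟩⟩ | ⟨⟨e⟩⟩ | ⟨K, hKf, hKt, m, hm, hiso⟩
    · haveI := hcyc
      exact Group.isSolvable_of_comm (fun a b => (IsCyclic.isMulCommutative (α := H)).is_comm.comm a b)
    · haveI := isSolvable_dihedral k
      exact Group.isSolvable_of_isSolvable_injective (f := e.toMonoidHom) e.injective
    · exact isSolvable_of_isPGroup_commutator p hN.2.2
    · exact Cfsg.Agent.CharLib.isSolvable_of_card_pq 2 3 2 1 Nat.prime_two Nat.prime_three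
        (by rw [Nat.card_congr e.toEquiv, card_alt_four']; norm_num)
    · haveI := Cfsg.Agent.Lib.Helper15.PerfectIndex.isSolvable_perm_fin_four
      exact Group.isSolvable_of_isSolvable_injective (f := e.toMonoidHom) e.injective
    · -- `A₅`
      exfalso
      have hc60 : Nat.card H = 60 := by rw [Nat.card_congr e.toEquiv, card_alt_five']
      have hdvd : 60 ∣ Nat.card (Matrix.ProjectiveSpecialLinearGroup (Fin 2) F) := by
        rw [← hc60]; exact Subgroup.card_subgroup_dvd_card H
      have h5 : 5 ∣ Fintype.card F * (Fintype.card F ^ 2 - 1) := by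
        rw [← hGc]
        exact Dvd.dvd.mul_right (dvd_trans (by norm_num) hdvd) _
      have hne60 : Nat.card (Matrix.ProjectiveSpecialLinearGroup (Fin 2) F) ≠ 60 := by
        intro h
        exact hH (eq_top_of_card_ge H (by rw [h, hc60]))
      have hprime5 : Nat.Prime 5 := by norm_num
      rcases hq with ⟨r, hr, h⟩ | ⟨r, hr, hr2, h⟩ | ⟨hqp, h5', hmod⟩ | h
      · -- `q = 2 ^ r`
        rcases hr.eq_two_or_odd' with rfl | ⟨j, rfl⟩
        · rw [h] at hGc
          norm_num at hGc
          exact hne60 (by rw [Nat.card_eq_fintype_card]; omega)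
        · rw [h] at h5
          rcases (Nat.Prime.dvd_mul hprime5).mp h5 with h' | h'
          · have := Nat.Prime.dvd_of_dvd_pow hprime5 h'
            omega
          · have h16 : (2 ^ (2 * j + 1)) ^ 2 = 16 ^ j * 4 := by
              rw [← pow_mul, show (2 * j + 1) * 2 = 4 * j + 2 by ring, pow_add, pow_mul]
              norm_num
            rw [h16] at h'
            have hmod : 16 ^ j * 4 % 5 = 4 := by
              rw [Nat.mul_mod, Nat.pow_mod]
              norm_num
            have hpos : 1 ≤ 16 ^ j * 4 := by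
              have := Nat.one_le_pow j 16 (by norm_num)
              omega
            omega
      · -- `q = 3 ^ r`, `r` odd
        rcases hr.eq_two_or_odd' with rfl | ⟨j, rfl⟩
        · exact hr2 rfl
        · rw [h] at h5
          rcases (Nat.Prime.dvd_mul hprime5).mp h5 with h' | h'
          · have := Nat.Prime.dvd_of_dvd_pow hprime5 h'
            omega
          · have h81 : (3 ^ (2 * j + 1)) ^ 2 = 81 ^ j * 9 := by
              rw [← pow_mul, show (2 * j + 1) * 2 = 4 * j + 2 by ring, pow_add, pow_mul]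
              norm_num
            rw [h81] at h'
            have hmod : 81 ^ j * 9 % 5 = 4 := by
              rw [Nat.mul_mod, Nat.pow_mod]
              norm_num
            have hpos : 1 ≤ 81 ^ j * 9 := by
              have := Nat.one_le_pow j 81 (by norm_num)
              omega
            omega
      · -- `q` prime, `q % 5 ∈ {2, 3}`
        rcases (Nat.Prime.dvd_mul hprime5).mp h5 with h' | h'
        · omega
        · have hsq : Fintype.card F ^ 2 % 5 = 4 := by
            rcases hmod with h | h
            · rw [Nat.pow_mod, h]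
            · rw [Nat.pow_mod, h]
          have hpos : 1 ≤ Fintype.card F ^ 2 := Nat.one_le_pow _ _ (by omega)
          omega
      · -- `q = 5`
        rw [h] at hGc
        norm_num at hGc
        exact hne60 (by rw [Nat.card_eq_fintype_card]; omega)
    · -- subfield subgroups
      have hm0 : m ≠ 0 := by
        rintro rfl
        rw [pow_zero] at hm
        omega
      have hsmall : ∀ (p' a b : ℕ), p' = 2 ∨ p' = 3 → Fintype.card K = p' →
          Group.IsSolvable H := by
        intro p' a b hp' hK
        have h1 := card_PSL2_mul_gcd (K := K)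
        have h2 := card_PGL2 (K := K)
        rw [hK] at h1 h2
        rcases hp' with rfl | rfl
        · have e1 : Nat.gcd 2 (2 - 1) = 1 := by norm_num
          have e2 : 2 * (2 ^ 2 - 1) = 6 := by norm_num
          rw [e1, e2, mul_one] at h1
          rw [e2] at h2
          rcases hiso with ⟨⟨e⟩⟩ | ⟨⟨e⟩⟩
          · exact Cfsg.Agent.CharLib.isSolvable_of_card_pq 2 3 1 1 Nat.prime_two Nat.prime_three
              (by rw [Nat.card_congr e.toEquiv, h1]; norm_num)
          · exact Cfsg.Agent.CharLib.isSolvable_of_card_pq 2 3 1 1 Nat.prime_two Nat.prime_three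
              (by rw [Nat.card_congr e.toEquiv, h2]; norm_num)
        · have e1 : Nat.gcd 2 (3 - 1) = 2 := by norm_num
          have e2 : 3 * (3 ^ 2 - 1) = 24 := by norm_num
          rw [e1, e2] at h1
          rw [e2] at h2
          rcases hiso with ⟨⟨e⟩⟩ | ⟨⟨e⟩⟩
          · have : Nat.card (Matrix.ProjectiveSpecialLinearGroup (Fin 2) K) = 12 := by omega
            exact Cfsg.Agent.CharLib.isSolvable_of_card_pq 2 3 2 1 Nat.prime_two Nat.prime_three
              (by rw [Nat.card_congr e.toEquiv, this]; norm_num)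
          · exact Cfsg.Agent.CharLib.isSolvable_of_card_pq 2 3 3 1 Nat.prime_two Nat.prime_three
              (by rw [Nat.card_congr e.toEquiv, h2]; norm_num)
      have hpow : ∀ (p' r : ℕ), p'.Prime → (p' = 2 ∨ p' = 3) → r.Prime →
          Fintype.card F = p' ^ r → Group.IsSolvable H := by
        intro p' r hp' hp23 hr hqr
        rw [hqr] at hm
        obtain ⟨b, hb, hbm⟩ := exists_eq_pow_of_pow_eq hp' hm0 hm
        have hbr : b ∣ r := Dvd.intro m hbm
        rcases (Nat.dvd_prime hr).mp hbr with rfl | rfl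
        · rw [pow_one] at hb
          exact hsmall p' 0 0 hp23 hb
        · exfalso
          exact hH (eq_top_of_card_field_eq H K (hb.trans hqr.symm) hiso)
      rcases hq with ⟨r, hr, h⟩ | ⟨r, hr, hr2, h⟩ | ⟨hqp, h5', hmod⟩ | h
      · exact hpow 2 r Nat.prime_two (Or.inl rfl) hr h
      · exact hpow 3 r Nat.prime_three (Or.inr rfl) hr h
      · exfalso
        exact hH (eq_top_of_prime_field hqp rfl H K m hm hiso)
      · exfalso
        have hqp : (Fintype.card F).Prime := by rw [h]; norm_num
        exact hH (eq_top_of_prime_field hqp rfl H K m hm hiso)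

end Cfsg.Agent.S0810
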