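import Cfsg.Statements.S0811
import Cfsg.Agent.Lib.Helper13.DkDihExist

set_option autoImplicit false
open Cfsg
open Cfsg.Agent.Lib.Helper13.Dk Cfsg.Agent.Lib.Helper13

namespace Cfsg.Agent.S0811

/-- For q ∉ {2, 7, 9}, PSL_2(q) has a maximal subgroup isomorphic to the dihedral group of order 2(q + 1)/d, d = gcd(2, q − 1). -/
theorem result {F : Type*} [Field F] [Fintype F] {q : ℕ} (hF : Fintype.card F = q) (hq : q ∉ ({2, 7, 9} : Finset ℕ)) : ∃ H : Subgroup (Matrix.ProjectiveSpecialLinearGroup (Fin 2) F), IsCoatom H ∧ Nonempty (H ≃* DihedralGroup ((q + 1) / Nat.gcd 2 (q - 1))) := by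
  classical
  obtain ⟨p, hp⟩ := CharP.exists F
  have hpF : Fact p.Prime := ⟨CharP.char_is_prime F p⟩
  have hq2 : 2 ≤ q := by rw [← hF]; exact Fintype.one_lt_card
  simp only [Finset.mem_insert, Finset.mem_singleton, not_or] at hq
  have hq3 : 3 ≤ q := by omega
  set d := Nat.gcd 2 (q - 1) with hd
  have hd12 : d = 1 ∨ d = 2 := by
    have h1 : d ∣ 2 := Nat.gcd_dvd_left 2 (q - 1)
    have h2 : d ≤ 2 := Nat.le_of_dvd (by norm_num) h1
    have h3 : 0 < d := Nat.gcd_pos_of_pos_left _ (by norm_num)
    omega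
  have hd2 : d = 2 → q % 2 = 1 := by
    intro h
    have h1 : d ∣ q - 1 := Nat.gcd_dvd_right 2 (q - 1)
    rw [h] at h1
    omega
  have hd1 : d = 1 → q % 2 = 0 := by
    intro h
    by_contra hcon
    have h1 : 2 ∣ q - 1 := by omega
    have : d = 2 := Nat.gcd_eq_left h1
    omega
  have hdq : d ∣ q + 1 := by
    rcases hd12 with h | h
    · rw [h]; exact one_dvd _
    · have := hd2 h
      rw [h]; omega
  obtain ⟨n, hn⟩ := hdq
  have hnd : (q + 1) / d = n := by
    rw [hn]; exact Nat.mul_div_cancel_left n (by omega)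
  obtain ⟨H, ⟨f⟩⟩ := exists_dihedral_add_one (F := F) p
  rw [hF, ← hd, hnd] at f
  refine ⟨H, ?_, ⟨by rw [hnd]; exact f⟩⟩
  have hn1 : 1 ≤ n := by
    rcases Nat.eq_zero_or_pos n with h | h
    · rw [h] at hn; omega
    · exact h
  have hH : Nat.card H = 2 * n := by
    rw [Nat.card_congr f.toEquiv, DihedralGroup.nat_card]
  have hG := card_PSL2_mul_gcd (K := F)
  rw [hF, ← hd] at hG
  have hsq : q ^ 2 - 1 = (q - 1) * (q + 1) := by
    obtain ⟨a, rfl⟩ : ∃ a, q = a + 1 := ⟨q - 1, by omega⟩
    rw [Nat.add_sub_cancel]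
    apply Nat.sub_eq_of_eq_add; ring
  have hG' : Nat.card (Matrix.ProjectiveSpecialLinearGroup (Fin 2) F) = q * (q - 1) * n := by
    rw [hsq, hn] at hG
    have : Nat.card (Matrix.ProjectiveSpecialLinearGroup (Fin 2) F) * d = (q * (q - 1) * n) * d := by
      rw [hG]; ring
    exact Nat.eq_of_mul_eq_mul_right (by omega) this
  have hqq6 : 6 ≤ q * (q - 1) := by
    have : 3 * 2 ≤ q * (q - 1) := Nat.mul_le_mul hq3 (by omega)
    omega
  obtain ⟨h₀, hh₀H, hh₀⟩ := exists_orderOf_eq_of_dihedral H f
  constructor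
  · intro htop
    rw [htop, Subgroup.card_top, hG'] at hH
    have : 6 * n ≤ q * (q - 1) * n := Nat.mul_le_mul_right n hqq6
    omega
  · intro M hHM
    by_contra hM
    have hlt := card_lt_of_lt hHM
    have hdvd := card_dvd_of_lt hHM
    have h2le := two_mul_card_le_of_lt hHM
    rw [hH] at hlt hdvd h2le
    have hMG : Nat.card M ≤ Nat.card (Matrix.ProjectiveSpecialLinearGroup (Fin 2) F) :=
      Nat.le_of_dvd Nat.card_pos (Subgroup.card_subgroup_dvd_card M)
    have hMdvdG : Nat.card M ∣ Nat.card (Matrix.ProjectiveSpecialLinearGroup (Fin 2) F) :=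
      Subgroup.card_subgroup_dvd_card M
    have hMneG : Nat.card M ≠ Nat.card (Matrix.ProjectiveSpecialLinearGroup (Fin 2) F) := by
      intro h
      exact hM (eq_top_of_card_ge M h.ge)
    have hD := dickson_subgroup' p M
    rw [hF] at hD
    unfold Concl' ConclN at hD
    rw [← hd, hnd] at hD
    rcases hD with ⟨k, hk, hc⟩ | hN | ⟨⟨e⟩⟩ | ⟨⟨e⟩⟩ | ⟨⟨e⟩⟩ | ⟨K', hKf, hKt, m, hm, hiso⟩
    · have hkn : k ≤ n := by
        rcases hk with hk | hk
        · exact Nat.le_of_dvd hn1 hk
        · have h1 : (q - 1) / d ≤ n := by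
            rw [← hnd]; exact Nat.div_le_div_right (by omega)
          have h2 : 0 < (q - 1) / d := Nat.div_pos (by omega) (by omega)
          exact (Nat.le_of_dvd h2 hk).trans h1
      rcases hc with ⟨-, hcard⟩ | ⟨⟨e⟩⟩
      · omega
      · have : Nat.card M = 2 * k := by
          rw [Nat.card_congr e.toEquiv, DihedralGroup.nat_card]
        omega
    · have h1 : 2 * n * d ∣ q * (q - 1) := (Nat.mul_dvd_mul_right hdvd d).trans hN.2.1
      have h2 : 2 * n * d = 2 * (q + 1) := by rw [hn]; ring
      rw [h2] at h1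
      have h3 : q + 1 ∣ q * (q - 1) := (Dvd.intro_left 2 rfl).trans h1
      obtain ⟨u, hu⟩ : ∃ u, q = u + 2 := ⟨q - 2, by omega⟩
      have h5 : q * (q - 1) = (q + 1) * u + 2 := by
        rw [hu]
        have : u + 2 - 1 = u + 1 := by omega
        rw [this]; ring
      rw [h5] at h3
      have h6 : q + 1 ∣ 2 := (Nat.dvd_add_right (Dvd.intro u rfl)).mp h3
      have := Nat.le_of_dvd (by norm_num) h6
      omega
    · have h12 : Nat.card M = 12 := by
        rw [Nat.card_congr e.toEquiv, Nat.card_eq_fintype_card]; rfl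
      have hn3 : n ≤ 3 := by
        have h1 := a4_orderOf_le (e ⟨h₀, hHM.le hh₀H⟩)
        rwa [MulEquiv.orderOf_eq, Subgroup.orderOf_mk, hh₀] at h1
      have hn123 : n = 1 ∨ n = 2 ∨ n = 3 := by omega
      rcases hn123 with h | h | h <;> rcases hd12 with h' | h'
      · rw [h, h'] at hn; omega
      · rw [h, h'] at hn; omega
      · have := hd1 h'; rw [h, h'] at hn; omega
      · rw [h, h'] at hn
        have hq3' : q = 3 := by omega
        rw [hq3', h] at hG'
        omega
      · rw [h, h'] at hn; omega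
      · apply card_ne_six_of_le_alt4 M H hHM.le e
        rw [hH, h]
    · have h24 : Nat.card M = 24 := by
        rw [Nat.card_congr e.toEquiv, Nat.card_eq_fintype_card, Fintype.card_perm, Fintype.card_fin]
        rfl
      have hn4 : n ≤ 4 := by
        have h1 := s4_orderOf_le (e ⟨h₀, hHM.le hh₀H⟩)
        rwa [MulEquiv.orderOf_eq, Subgroup.orderOf_mk, hh₀] at h1
      have hn1234 : n = 1 ∨ n = 2 ∨ n = 3 ∨ n = 4 := by omega
      rcases hn1234 with h | h | h | h <;> rcases hd12 with h' | h'
      · rw [h, h'] at hn; omega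
      · rw [h, h'] at hn; omega
      · have := hd1 h'; rw [h, h'] at hn; omega
      · rw [h, h'] at hn
        have hq3' : q = 3 := by omega
        rw [hq3', h] at hG'
        omega
      · rw [h, h'] at hn; omega
      · rw [h, h'] at hn
        have hq5 : q = 5 := by omega
        rw [hq5, h] at hG'
        rw [h24, hG'] at hMdvdG
        norm_num at hMdvdG
      · have := hd1 h'; rw [h, h'] at hn; omega
      · rw [h, h'] at hn; omega
    · have h60 : Nat.card M = 60 := by
        rw [Nat.card_congr e.toEquiv, Nat.card_eq_fintype_card]; rfl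
      have hn5 : n = 1 ∨ n = 2 ∨ n = 3 ∨ n = 5 := by
        have h1 := Cfsg.Agent.Lib.Helper19.a5_orderOf (e ⟨h₀, hHM.le hh₀H⟩)
        rwa [MulEquiv.orderOf_eq, Subgroup.orderOf_mk, hh₀] at h1
      rcases hn5 with h | h | h | h <;> rcases hd12 with h' | h'
      · rw [h, h'] at hn; omega
      · rw [h, h'] at hn; omega
      · have := hd1 h'; rw [h, h'] at hn; omega
      · rw [h, h'] at hn
        have hq3' : q = 3 := by omega
        rw [hq3', h] at hG'
        omega
      · rw [h, h'] at hn; omega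
      · rw [h, h'] at hn
        have hq5 : q = 5 := by omega
        rw [hq5, h] at hG'
        omega
      · rw [h, h'] at hn
        have hq4 : q = 4 := by omega
        rw [hq4, h] at hG'
        omega
      · rw [h, h'] at hn; omega
    · set s := Fintype.card K' with hs
      have hs2 : 2 ≤ s := Fintype.one_lt_card
      have hm0 : m ≠ 0 := by
        rintro rfl
        rw [pow_zero] at hm; omega
      have hm1 : m ≠ 1 := by
        rintro rfl
        rw [pow_one] at hm
        exact hM (eq_top_of_card_field_eq M K' (hm.trans hF.symm) hiso)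
      have hMdvd : Nat.card M ∣ s * (s ^ 2 - 1) := by
        rcases hiso with ⟨⟨e'⟩⟩ | ⟨⟨e'⟩⟩
        · have h1 := card_PSL2_mul_gcd (K := K')
          rw [← Nat.card_congr e'.toEquiv] at h1
          exact Dvd.intro _ h1
        · have h1 := card_PGL2 (K := K')
          rw [← Nat.card_congr e'.toEquiv] at h1
          rw [h1]
      have hndvd : n ∣ s * (s ^ 2 - 1) := (Dvd.intro_left 2 rfl).trans (hdvd.trans hMdvd)
      have hcop : Nat.Coprime n s := by
        have h1 : Nat.Coprime (q + 1) q := by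
          rw [Nat.coprime_comm, add_comm]
          exact (Nat.coprime_add_self_right).mpr (Nat.coprime_one_right q)
        have h2 : s ∣ q := by rw [← hm]; exact dvd_pow_self s hm0
        exact Nat.Coprime.coprime_dvd_left (Dvd.intro_left d hn.symm)
          (Nat.Coprime.coprime_dvd_right h2 h1)
      have hn2 : n ∣ s ^ 2 - 1 := hcop.dvd_of_dvd_mul_left hndvd
      have hs21 : 0 < s ^ 2 - 1 := by
        have : 4 ≤ s ^ 2 := by nlinarith
        omega
      have hnle : n ≤ s ^ 2 - 1 := Nat.le_of_dvd hs21 hn2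
      by_cases hm2 : m = 2
      · rw [hm2] at hm
        have h1 : n ∣ s ^ 2 + 1 := by rw [hm, hn]; exact Dvd.intro_left d rfl
        have h2 : n ∣ (s ^ 2 + 1) - (s ^ 2 - 1) := Nat.dvd_sub h1 hn2
        have h3 : (s ^ 2 + 1) - (s ^ 2 - 1) = 2 := by omega
        rw [h3] at h2
        have h4 := Nat.le_of_dvd (by norm_num) h2
        have h5 : s ^ 2 + 1 ≤ 4 := by
          rw [hm, hn]
          calc d * n ≤ 2 * 2 := Nat.mul_le_mul (by omega) h4
            _ = 4 := by norm_num
        have : 4 ≤ s ^ 2 := by nlinarith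
        omega
      · have hm3 : 3 ≤ m := by omega
        have h1 : s ^ 3 ≤ q := by
          rw [← hm]; exact Nat.pow_le_pow_right (by omega) hm3
        have h2 : q + 1 ≤ 2 * n := by
          rw [hn]; exact Nat.mul_le_mul_right n (by omega)
        have h3 : s ^ 3 = s * s ^ 2 := by ring
        have h4 : 2 * s ^ 2 ≤ s ^ 3 := by
          rw [h3]; exact Nat.mul_le_mul_right _ hs2
        omega

end Cfsg.Agent.S0811
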