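import Cfsg.Statements.S0812
import Cfsg.Agent.Lib.Helper13.DkDihExist
import Cfsg.Agent.Lib.Helper13.DkPGLOrder

set_option autoImplicit false
open Cfsg
open Cfsg.Agent.Lib.Helper13.Dk Cfsg.Agent.Lib.Helper13
open scoped commutatorElement

namespace Cfsg.Agent.S0812

theorem comm_r_sr (n : ℕ) :
    ⁅(DihedralGroup.r 1 : DihedralGroup n), (DihedralGroup.sr 0 : DihedralGroup n)⁆ =
      (DihedralGroup.r 1) ^ 2 := by
  rw [commutatorElement_def, DihedralGroup.r_one_pow]
  simp
  norm_num

/-- For q ∉ {2, 3, 5, 7, 9, 11}, PSL_2(q) has a maximal subgroup isomorphic to the dihedral group of order 2(q − 1)/d, d = gcd(2, q − 1). -/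
theorem result {F : Type*} [Field F] [Fintype F] {q : ℕ} (hF : Fintype.card F = q) (hq : q ∉ ({2, 3, 5, 7, 9, 11} : Finset ℕ)) : ∃ H : Subgroup (Matrix.ProjectiveSpecialLinearGroup (Fin 2) F), IsCoatom H ∧ Nonempty (H ≃* DihedralGroup ((q - 1) / Nat.gcd 2 (q - 1))) := by
  classical
  obtain ⟨p, hp⟩ := CharP.exists F
  have hpF : Fact p.Prime := ⟨CharP.char_is_prime F p⟩
  have hpp : p.Prime := hpF.out
  obtain ⟨e₀, -, he₀⟩ := FiniteField.card F p
  have hq2 : 2 ≤ q := by rw [← hF]; exact Fintype.one_lt_card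
  simp only [Finset.mem_insert, Finset.mem_singleton, not_or] at hq
  have hq4 : 4 ≤ q := by omega
  have hpq : p ∣ q := by
    rw [← hF, he₀]; exact dvd_pow_self p e₀.ne_zero
  set d := Nat.gcd 2 (q - 1) with hd
  have hd12 : d = 1 ∨ d = 2 := by
    have h1 : d ∣ 2 := Nat.gcd_dvd_left 2 (q - 1)
    have h2 : d ≤ 2 := Nat.le_of_dvd (by norm_num) h1
    have h3 : 0 < d := Nat.gcd_pos_of_pos_left _ (by norm_num)
    omega
  have hd2 : d = 2 → q % 2 = 1 := by
    intro h
    have h1 : d ∣ q - 1 := Nat.gcd_dvd_right 2 (q - 1)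
    rw [h] at h1
    omega
  have hd1 : d = 1 → q % 2 = 0 := by
    intro h
    by_contra hcon
    have h1 : 2 ∣ q - 1 := by omega
    have : d = 2 := Nat.gcd_eq_left h1
    omega
  obtain ⟨n, hn⟩ : d ∣ q - 1 := Nat.gcd_dvd_right 2 (q - 1)
  have hnd : (q - 1) / d = n := by
    rw [hn]; exact Nat.mul_div_cancel_left n (by omega)
  obtain ⟨H, ⟨f⟩⟩ := exists_dihedral_sub_one (F := F) p (by rw [hF]; exact hq4)
  rw [hF, ← hd, hnd] at f
  refine ⟨H, ?_, ⟨by rw [hnd]; exact f⟩⟩
  have hn2 : 2 ≤ n := by
    by_contra hcon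
    have : n = 0 ∨ n = 1 := by omega
    rcases this with h | h <;> rw [h] at hn <;> omega
  have hH : Nat.card H = 2 * n := by
    rw [Nat.card_congr f.toEquiv, DihedralGroup.nat_card]
  have hG := card_PSL2_mul_gcd (K := F)
  rw [hF, ← hd] at hG
  have hsq : q ^ 2 - 1 = (q - 1) * (q + 1) := by
    obtain ⟨a, rfl⟩ : ∃ a, q = a + 1 := ⟨q - 1, by omega⟩
    rw [Nat.add_sub_cancel]
    apply Nat.sub_eq_of_eq_add; ring
  have hG' : Nat.card (Matrix.ProjectiveSpecialLinearGroup (Fin 2) F) = q * (q + 1) * n := by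
    rw [hsq, hn] at hG
    have : Nat.card (Matrix.ProjectiveSpecialLinearGroup (Fin 2) F) * d = (q * (q + 1) * n) * d := by
      rw [hG]; ring
    exact Nat.eq_of_mul_eq_mul_right (by omega) this
  have hqq6 : 6 ≤ q * (q + 1) := by
    have : 3 * 2 ≤ q * (q + 1) := Nat.mul_le_mul (by omega) (by omega)
    omega
  have hcopn : Nat.Coprime n p := by
    have h1 : Nat.Coprime (q - 1) q := by
      apply Nat.Coprime.symm
      have hg1 := Nat.gcd_dvd_left q (q - 1)
      have hg2 := Nat.gcd_dvd_right q (q - 1)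
      have h3 := Nat.dvd_sub hg1 hg2
      rw [show q - (q - 1) = 1 by omega] at h3
      exact Nat.dvd_one.mp h3
    exact Nat.Coprime.coprime_dvd_left (Dvd.intro_left d hn.symm)
      (Nat.Coprime.coprime_dvd_right hpq h1)
  obtain ⟨h₀, hh₀H, hh₀⟩ := exists_orderOf_eq_of_dihedral H f
  constructor
  · intro htop
    rw [htop, Subgroup.card_top, hG'] at hH
    have : 6 * n ≤ q * (q + 1) * n := Nat.mul_le_mul_right n hqq6
    omega
  · intro M hHM
    by_contra hM
    have hlt := card_lt_of_lt hHM
    have hdvd := card_dvd_of_lt hHM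
    have h2le := two_mul_card_le_of_lt hHM
    rw [hH] at hlt hdvd h2le
    have hMdvdG : Nat.card M ∣ Nat.card (Matrix.ProjectiveSpecialLinearGroup (Fin 2) F) :=
      Subgroup.card_subgroup_dvd_card M
    have hMneG : Nat.card M ≠ Nat.card (Matrix.ProjectiveSpecialLinearGroup (Fin 2) F) := by
      intro h
      exact hM (eq_top_of_card_ge M h.ge)
    have hD := dickson_subgroup' p M
    rw [hF] at hD
    unfold Concl' ConclN at hD
    rw [← hd, hnd] at hD
    rcases hD with ⟨k, hk, hc⟩ | hN | ⟨⟨e⟩⟩ | ⟨⟨e⟩⟩ | ⟨⟨e⟩⟩ | ⟨K', hKf, hKt, m, hm, hiso⟩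
    · have hkd : k * d ≤ q + 1 := by
        rcases hk with hk | hk
        · have h1 : k ≤ (q + 1) / d := Nat.le_of_dvd (Nat.div_pos (by omega) (by omega)) hk
          calc k * d ≤ (q + 1) / d * d := Nat.mul_le_mul_right d h1
            _ ≤ q + 1 := Nat.div_mul_le_self _ _
        · have h1 : k ≤ n := Nat.le_of_dvd (by omega) hk
          calc k * d ≤ n * d := Nat.mul_le_mul_right d h1
            _ = q - 1 := by rw [hn]; ring
            _ ≤ q + 1 := by omega
      have hM2k : Nat.card M ≤ 2 * k := by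
        rcases hc with ⟨-, hcard⟩ | ⟨⟨e⟩⟩
        · omega
        · rw [Nat.card_congr e.toEquiv, DihedralGroup.nat_card]
      have h1 : 2 * n ≤ k := by omega
      have h2 : 2 * n * d ≤ k * d := Nat.mul_le_mul_right d h1
      have h3 : 2 * n * d = 2 * (q - 1) := by rw [hn]; ring
      omega
    · obtain ⟨j, hj⟩ := orderOf_commutator_dvd M H hHM.le hN.2.2 f (DihedralGroup.r 1)
        (DihedralGroup.sr 0)
      rw [comm_r_sr, orderOf_pow' _ (by norm_num : 2 ≠ 0), DihedralGroup.orderOf_r_one] at hj
      have h1 : n / Nat.gcd n 2 ∣ n := Nat.div_dvd_of_dvd (Nat.gcd_dvd_left n 2)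
      have h2 : Nat.Coprime (n / Nat.gcd n 2) (p ^ j) :=
        Nat.Coprime.pow_right j (Nat.Coprime.coprime_dvd_left h1 hcopn)
      have h3 : n / Nat.gcd n 2 = 1 := Nat.Coprime.eq_one_of_dvd h2 hj
      have h4 : n = Nat.gcd n 2 := by
        have := Nat.div_mul_cancel (Nat.gcd_dvd_left n 2)
        rw [h3, one_mul] at this
        exact this.symm
      have h5 : n ≤ 2 := by
        rw [h4]; exact Nat.le_of_dvd (by norm_num) (Nat.gcd_dvd_right n 2)
      have hn2' : n = 2 := by omega
      rcases hd12 with h' | h'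
      · have := hd1 h'; rw [hn2', h'] at hn; omega
      · rw [hn2', h'] at hn; omega
    · have h12 : Nat.card M = 12 := by
        rw [Nat.card_congr e.toEquiv, Nat.card_eq_fintype_card]; rfl
      have hn3 : n ≤ 3 := by
        have h1 := a4_orderOf_le (e ⟨h₀, hHM.le hh₀H⟩)
        rwa [MulEquiv.orderOf_eq, Subgroup.orderOf_mk, hh₀] at h1
      have hn23 : n = 2 ∨ n = 3 := by omega
      rcases hn23 with h | h <;> rcases hd12 with h' | h'
      · have := hd1 h'; rw [h, h'] at hn; omega
      · rw [h, h'] at hn; omega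
      · apply card_ne_six_of_le_alt4 M H hHM.le e
        rw [hH, h]
      · rw [h, h'] at hn; omega
    · have h24 : Nat.card M = 24 := by
        rw [Nat.card_congr e.toEquiv, Nat.card_eq_fintype_card, Fintype.card_perm, Fintype.card_fin]
        rfl
      have hn4 : n ≤ 4 := by
        have h1 := s4_orderOf_le (e ⟨h₀, hHM.le hh₀H⟩)
        rwa [MulEquiv.orderOf_eq, Subgroup.orderOf_mk, hh₀] at h1
      have hn234 : n = 2 ∨ n = 3 ∨ n = 4 := by omega
      rcases hn234 with h | h | h <;> rcases hd12 with h' | h'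
      · have := hd1 h'; rw [h, h'] at hn; omega
      · rw [h, h'] at hn; omega
      · rw [h, h'] at hn
        have hq4' : q = 4 := by omega
        rw [hq4', h] at hG'
        rw [h24, hG'] at hMdvdG
        norm_num at hMdvdG
      · rw [h, h'] at hn; omega
      · rw [h, h'] at hn; omega
      · rw [h, h'] at hn; omega
    · have h60 : Nat.card M = 60 := by
        rw [Nat.card_congr e.toEquiv, Nat.card_eq_fintype_card]; rfl
      have hn5 : n = 1 ∨ n = 2 ∨ n = 3 ∨ n = 5 := by
        have h1 := Cfsg.Agent.Lib.Helper19.a5_orderOf (e ⟨h₀, hHM.le hh₀H⟩)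
        rwa [MulEquiv.orderOf_eq, Subgroup.orderOf_mk, hh₀] at h1
      rcases hn5 with h | h | h | h <;> rcases hd12 with h' | h'
      · omega
      · omega
      · have := hd1 h'; rw [h, h'] at hn; omega
      · rw [h, h'] at hn; omega
      · rw [h, h'] at hn
        have hq4' : q = 4 := by omega
        rw [hq4', h] at hG'
        omega
      · rw [h, h'] at hn; omega
      · rw [h, h'] at hn
        have hq6 : q = 6 := by omega
        rw [hq6, h] at hG'
        rw [h60, hG'] at hMdvdG
        norm_num at hMdvdG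
      · rw [h, h'] at hn; omega
    · set s := Fintype.card K' with hs
      have hs2 : 2 ≤ s := Fintype.one_lt_card
      have hm0 : m ≠ 0 := by
        rintro rfl
        rw [pow_zero] at hm; omega
      have hm1 : m ≠ 1 := by
        rintro rfl
        rw [pow_one] at hm
        exact hM (eq_top_of_card_field_eq M K' (hm.trans hF.symm) hiso)
      have hMdvd : Nat.card M ∣ s * (s ^ 2 - 1) := by
        rcases hiso with ⟨⟨e'⟩⟩ | ⟨⟨e'⟩⟩
        · have h1 := card_PSL2_mul_gcd (K := K')
          rw [← Nat.card_congr e'.toEquiv] at h1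
          exact Dvd.intro _ h1
        · have h1 := card_PGL2 (K := K')
          rw [← Nat.card_congr e'.toEquiv] at h1
          rw [h1]
      have hs21 : 0 < s ^ 2 - 1 := by
        have : 4 ≤ s ^ 2 := by nlinarith
        omega
      by_cases hm2 : m = 2
      · rw [hm2] at hm
        -- element orders
        have hnle : n ≤ s + 1 := by
          rcases hiso with ⟨⟨e'⟩⟩ | ⟨⟨e'⟩⟩
          · have h1 := orderOf_PSL2_le (e' ⟨h₀, hHM.le hh₀H⟩)
            rwa [MulEquiv.orderOf_eq, Subgroup.orderOf_mk, hh₀] at h1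
          · have h1 := orderOf_PGL2_le (e' ⟨h₀, hHM.le hh₀H⟩)
            rwa [MulEquiv.orderOf_eq, Subgroup.orderOf_mk, hh₀] at h1
        have h1 : s ^ 2 - 1 = (s - 1) * (s + 1) := by
          obtain ⟨a, ha⟩ : ∃ a, s = a + 1 := ⟨s - 1, by omega⟩
          rw [ha, Nat.add_sub_cancel]
          apply Nat.sub_eq_of_eq_add; ring
        have h2 : (s - 1) * (s + 1) = d * n := by rw [← h1, hm, hn]
        have h3 : d * n ≤ 2 * (s + 1) := Nat.mul_le_mul (by omega) hnle
        have h4 : s - 1 ≤ 2 := by
          by_contra hcon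
          have : 3 * (s + 1) ≤ (s - 1) * (s + 1) := Nat.mul_le_mul_right _ (by omega)
          omega
        have hs23 : s = 2 ∨ s = 3 := by omega
        rcases hs23 with h | h
        · rw [h] at hm hMdvd
          have hq4' : q = 4 := by omega
          have hd1' : d = 1 := by
            rcases hd12 with h' | h'
            · exact h'
            · have := hd2 h'; omega
          have hn3 : n = 3 := by rw [hq4', hd1'] at hn; omega
          have : Nat.card M ≤ 6 := Nat.le_of_dvd (by norm_num) hMdvd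
          omega
        · rw [h] at hm
          omega
      · have hm3 : 3 ≤ m := by omega
        have hcop : Nat.Coprime n s := by
          have h1 : Nat.Coprime (q - 1) q := by
            apply Nat.Coprime.symm
            have hg1 := Nat.gcd_dvd_left q (q - 1)
            have hg2 := Nat.gcd_dvd_right q (q - 1)
            have h3 := Nat.dvd_sub hg1 hg2
            rw [show q - (q - 1) = 1 by omega] at h3
            exact Nat.dvd_one.mp h3
          have h2 : s ∣ q := by rw [← hm]; exact dvd_pow_self s hm0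
          exact Nat.Coprime.coprime_dvd_left (Dvd.intro_left d hn.symm)
            (Nat.Coprime.coprime_dvd_right h2 h1)
        have hndvd : n ∣ s * (s ^ 2 - 1) := (Dvd.intro_left 2 rfl).trans (hdvd.trans hMdvd)
        have hn2' : n ∣ s ^ 2 - 1 := hcop.dvd_of_dvd_mul_left hndvd
        have hnle : n ≤ s ^ 2 - 1 := Nat.le_of_dvd hs21 hn2'
        have h1 : s ^ 3 ≤ q := by
          rw [← hm]; exact Nat.pow_le_pow_right (by omega) hm3
        have h2 : q - 1 ≤ 2 * n := by
          rw [hn]; exact Nat.mul_le_mul_right n (by omega)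
        have h3 : s ^ 3 = s * s ^ 2 := by ring
        have h4 : 2 * s ^ 2 ≤ s ^ 3 := by
          rw [h3]; exact Nat.mul_le_mul_right _ hs2
        omega

end Cfsg.Agent.S0812
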