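import Cfsg.Statements.S0814
import Cfsg.Agent.Lib.Lead.PSpAutCard

set_option autoImplicit false
open Cfsg

namespace Cfsg.Agent.S0814

/-- |Aut(PSp_2m(q))| = gcd(2, q−1) · f · |PSp_2m(q)| for q = p^f, m ≥ 2, (m, q) ≠ (2, 2), with an extra factor 2 exactly when m = 2 and p = 2. -/
theorem result {F : Type*} [Field F] [Fintype F] (p f : ℕ) [Fact p.Prime] (hf : 1 ≤ f) (hF : Fintype.card F = p ^ f) (m : ℕ) (hm : 2 ≤ m) (h22 : m = 2 → 3 ≤ p ^ f) : Nat.card (MulAut (Cfsg.PSp m F)) = (if m = 2 ∧ p = 2 then 2 else 1) * Nat.gcd 2 (p ^ f - 1) * f * Nat.card (Cfsg.PSp m F) := by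
  have hC : CharP F p := charP_of_card_eq_prime_pow hF
  have h22' : m = 2 → 3 ≤ Fintype.card F := by
    rw [hF]
    exact h22
  by_cases hc : m = 2 ∧ p = 2
  · obtain ⟨rfl, rfl⟩ := hc
    rw [if_pos ⟨rfl, rfl⟩]
    have hout := (Cfsg.Agent.Lib.Lead.Sp4Graph.out_psp4_two hf hF).2
    have h1 : Nat.card (MulAut (Cfsg.PSp 2 F)) =
        Nat.card (Cfsg.Inn (Cfsg.PSp 2 F)) * (Cfsg.Inn (Cfsg.PSp 2 F)).index :=
      (Subgroup.card_mul_index _).symm
    rw [h1, Subgroup.index_eq_card, hout, Cfsg.Agent.Lib.Lead.Sp4Graph.card_inn_psp hm h22']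
    have hg : Nat.gcd 2 (2 ^ f - 1) = 1 := by
      obtain ⟨k, rfl⟩ : ∃ k, f = k + 1 := ⟨f - 1, by omega⟩
      have h3 : (2 ^ (k + 1) - 1) % 2 = 1 % 2 := by
        have h4 : 2 ^ (k + 1) = 2 * 2 ^ k := by ring
        have h5 : 1 ≤ 2 ^ k := Nat.one_le_two_pow
        omega
      rw [Cfsg.Agent.Lib.Helper18.PSpAut.gcd_two_congr h3]
      rfl
    rw [hg]
    ring
  · rw [if_neg hc, one_mul]
    have hsemi : ∀ β : Cfsg.PSp m F ≃* Cfsg.PSp m F,
        ∃ (g : Cfsg.GSp m F) (σ : F ≃+* F), ∀ x,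
          β x = Cfsg.Agent.Lib.Helper18.PSpAut.conjA g (Cfsg.Agent.Lib.Helper18.PSpAut.fieldA σ x) := by
      intro β
      by_cases hp : p = 2
      · subst hp
        have hm3 : 3 ≤ m := by
          rcases Nat.lt_or_ge m 3 with h | h
          · exact absurd ⟨by omega, rfl⟩ hc
          · exact h
        exact Cfsg.Agent.Lib.Helper18.PSpAut.exists_semilinear_of_two hm3 β
      · have h2 : (2 : F) ≠ 0 := by
          intro h
          have h3 : p ∣ 2 := by
            rw [← CharP.cast_eq_zero_iff F p]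
            exact_mod_cast h
          exact hp ((Nat.prime_dvd_prime_iff_eq Fact.out Nat.prime_two).1 h3)
        exact Cfsg.Agent.Lib.Helper18.PSpAut.exists_semilinear_of_odd p hm h2 β
    rw [Cfsg.Agent.Lib.Lead.Sp4Graph.card_aut_of_semilinear hm hF hsemi,
      Cfsg.Agent.Lib.Lead.Sp4Graph.card_range_conjAHom hm h22', hF]
    ring

end Cfsg.Agent.S0814
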