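import Cfsg.Statements.S0816
import Cfsg.Agent.Lib.Helper25.AutOut2
import Cfsg.Agent.Lib.Helper18.PSL2AutOut
-- import your own Cfsg.Agent.* helpers here

set_option autoImplicit false
open Cfsg

namespace Cfsg.Agent.S0816

/-- |Aut(PΩ_(2m+1)(q))| = 2 f · |PΩ_(2m+1)(q)| for q = p^f odd and m ≥ 3 (for the form quadFormOdd). -/
theorem result {F : Type*} [Field F] [Fintype F] (p f : ℕ) [Fact p.Prime] (hf : 1 ≤ f) (hF : Fintype.card F = p ^ f) (hodd : Odd p) (m : ℕ) (hm : 3 ≤ m) : Nat.card (MulAut (Cfsg.POmega F (Cfsg.quadFormOdd m F))) = 2 * f * Nat.card (Cfsg.POmega F (Cfsg.quadFormOdd m F)) := by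
  have hoddF : Odd (Fintype.card F) := by rw [hF]; exact hodd.pow
  have h2 := Cfsg.Agent.Lib.Helper25.Spin.two_ne_zero_of_odd_card hoddF
  have hn : 7 ≤ Fintype.card (Unit ⊕ (Fin m ⊕ Fin m)) := by
    simp; omega
  have hcard : Fintype.card (Unit ⊕ (Fin m ⊕ Fin m)) = 2 * m + 1 := by
    simp; omega
  haveI : CharP F p := charP_of_card_eq_prime_pow hF
  have hσ : ∀ σ : F ≃+* F, ∃ g : Matrix.GeneralLinearGroup (Unit ⊕ (Fin m ⊕ Fin m)) F,
      Cfsg.IsSemisimilarityPair (Cfsg.quadFormOdd m F) g σ := by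
    intro σ
    refine ⟨1, 1, fun v => ?_⟩
    rw [Units.val_one, Matrix.one_mulVec, Units.val_one, one_mul]
    unfold Cfsg.quadFormOdd
    rw [map_add, map_pow, map_sum]
    congr 1
    apply Finset.sum_congr rfl
    intro i _
    rw [map_mul]
  have key := Cfsg.Agent.Lib.Helper25.AutOut.card_aut_odd
    (Cfsg.Agent.Lib.Helper25.Spin.qfOf (Cfsg.Agent.Lib.Helper14.isQF_odd (m := m) h2)) h2
    (Cfsg.Agent.Lib.Helper25.Spin.qfOf_nondeg _) hn hcard
    (Cfsg.Agent.Lib.Helper25.AutOut.hAll_of_noD4 _ (Cfsg.Agent.Lib.Helper25.Spin.qfOf_nondeg _) hn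
      (Cfsg.Agent.Lib.Helper25.AutO.noD4_odd hm h2)) hσ
  rw [Cfsg.Agent.Lib.Helper18.PSL2Aut.ringAut_card p hF] at key
  exact key

end Cfsg.Agent.S0816
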