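import Cfsg.Statements.S0818
import Cfsg.Agent.Lib.Helper25.AutOut4
import Cfsg.Agent.Lib.Helper18.PSL2AutOut
-- import your own Cfsg.Agent.* helpers here

set_option autoImplicit false
open Cfsg

namespace Cfsg.Agent.S0818

/-- |Aut(PΩ⁻_2m(q))| for q = p^f, m ≥ 4 (form quadFormMinus (m−1) with anisotropic binary part): |PΩ⁻_2m(q)| times f, times 2 if p = 2, and times 4 or 8 if p is odd according as m(q−1)/2 is even or odd. -/
theorem result {F : Type*} [Field F] [Fintype F] (p f : ℕ) [Fact p.Prime] (hf : 1 ≤ f) (hF : Fintype.card F = p ^ f) (m : ℕ) (hm : 4 ≤ m) (a b : F) (hab : ∀ z₁ z₂ : F, z₁ ^ 2 + a * z₁ * z₂ + b * z₂ ^ 2 = 0 → z₁ = 0 ∧ z₂ = 0) : Nat.card (MulAut (Cfsg.POmega F (Cfsg.quadFormMinus (m - 1) F a b))) = (if p = 2 then 2 else (if Even (m * (p ^ f - 1) / 2) then 4 else 8)) * f * Nat.card (Cfsg.POmega F (Cfsg.quadFormMinus (m - 1) F a b)) := by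
  haveI : CharP F p := charP_of_card_eq_prime_pow hF
  have hk : 3 ≤ m - 1 := by omega
  have key := Cfsg.Agent.Lib.Helper25.AutOut.card_aut_minus (F := F) hk hab
  rw [Cfsg.Agent.Lib.Helper18.PSL2Aut.ringAut_card p hF] at key
  rw [key]
  congr 2
  by_cases hp : p = 2
  · rw [if_pos hp]
    subst hp
    have hD : a ^ 2 - 4 * b ≠ 0 := Cfsg.Agent.Lib.Helper14.OrthMinus.disc_ne_zero hab
    have hc2 : 7 ≤ Fintype.card ((Fin (m - 1) ⊕ Fin (m - 1)) ⊕ Fin 2) := by
      rw [Cfsg.Agent.Lib.Helper25.AutOut.card_idx]; omega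
    exact Cfsg.Agent.Lib.Helper25.AutOut.relIndex_inn_pgo_char2
      (Cfsg.Agent.Lib.Helper25.Spin.qfOf
        (Cfsg.Agent.Lib.Helper14.OrthMinus.isQF_minus (F := F) (n := m - 1) hD))
      (Cfsg.Agent.Lib.Helper25.Spin.qfOf_nondeg _) hc2
  · rw [if_neg hp]
    have hoddp : Odd p := (Fact.out : p.Prime).odd_of_ne_two hp
    have hoddF : Odd (Fintype.card F) := by rw [hF]; exact hoddp.pow
    have h1 := Cfsg.Agent.Lib.Helper25.AutOut.relIndex_minus_odd (F := F) hoddF hk hab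
    have e : m - 1 + 1 = m := by omega
    rw [e, hF] at h1
    exact h1

end Cfsg.Agent.S0818
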