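import Cfsg.Statements.S0820
-- import your own Cfsg.Agent.* helpers here
import Cfsg.Agent.S2739

set_option autoImplicit false
open Cfsg

namespace Cfsg.Agent.S0820

open Matrix

section F4
variable {F : Type*} [Field F] [Fintype F]

/-- the standard transvection -/
def JJ (F : Type*) [Field F] : Matrix (Fin 3) (Fin 3) F := !![1, 1, 0; 0, 1, 0; 0, 0, 1]

theorem exists_jordan (hF : Fintype.card F = 4) (M : Matrix (Fin 3) (Fin 3) F)
    (hM2 : M * M = 1) (hM1 : M ≠ 1) :
    ∃ P : Matrix (Fin 3) (Fin 3) F, P.det = 1 ∧ M * P = P * JJ F := by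
  have h2 := Cfsg.Agent.S2739.two_eq_zero hF
  have hneg : ∀ x : F, -x = x := by intro x; linear_combination (-x) * h2
  have hnegM : ∀ X : Matrix (Fin 3) (Fin 3) F, X + X = 0 := by
    intro X
    ext i j
    simp only [Matrix.add_apply, Matrix.zero_apply]
    linear_combination (X i j) * h2
  have hnegv : ∀ X : Fin 3 → F, X + X = 0 := by
    intro X
    ext i
    simp only [Pi.add_apply, Pi.zero_apply]
    linear_combination (X i) * h2
  obtain ⟨N, hN⟩ : ∃ N : Matrix (Fin 3) (Fin 3) F, N = M + 1 := ⟨_, rfl⟩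
  have hNN : N * N = 0 := by
    rw [hN, add_mul, mul_add, mul_add, hM2, mul_one, one_mul, mul_one]
    have : (1 : Matrix (Fin 3) (Fin 3) F) + M + (M + 1) = (1 + 1) + (M + M) := by abel
    rw [this, hnegM, hnegM, add_zero]
  have hN0 : N ≠ 0 := by
    intro h
    apply hM1
    rw [hN] at h
    have : M = M + (1 + 1) := by rw [hnegM, add_zero]
    rw [this, ← add_assoc, h, zero_add]
  obtain ⟨w, hw⟩ : ∃ w : Fin 3 → F, N *ᵥ w ≠ 0 := by
    by_contra hcon
    push Not at hcon
    apply hN0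
    ext i j
    have := congrFun (hcon (Pi.single j 1)) i
    simpa using this
  obtain ⟨u, hu⟩ : ∃ u : Fin 3 → F, u = N *ᵥ w := ⟨_, rfl⟩
  have hu0 : u ≠ 0 := by rw [hu]; exact hw
  have hNu : N *ᵥ u = 0 := by rw [hu, Matrix.mulVec_mulVec, hNN, Matrix.zero_mulVec]
  -- dimension count
  have hrk : LinearMap.range (Matrix.mulVecLin N) ≤ LinearMap.ker (Matrix.mulVecLin N) := by
    rw [LinearMap.range_le_ker_iff, ← Matrix.mulVecLin_mul, hNN]
    exact Matrix.mulVecLin_zero
  have hdim := LinearMap.finrank_range_add_finrank_ker (Matrix.mulVecLin N)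
  have hle := Submodule.finrank_mono hrk
  have h3 : Module.finrank F (Fin 3 → F) = 3 := by simp
  have hk2 : 2 ≤ Module.finrank F (LinearMap.ker (Matrix.mulVecLin N)) := by omega
  have huk : u ∈ LinearMap.ker (Matrix.mulVecLin N) := by
    rw [LinearMap.mem_ker, Matrix.mulVecLin_apply]; exact hNu
  have hspan : Submodule.span F {u} < LinearMap.ker (Matrix.mulVecLin N) := by
    refine lt_of_le_of_ne ?_ ?_
    · rw [Submodule.span_singleton_le_iff_mem]; exact huk
    · intro h
      have := finrank_span_singleton (K := F) hu0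
      rw [h] at this
      omega
  obtain ⟨z, hzk, hzs⟩ := SetLike.exists_of_lt hspan
  have hNz : N *ᵥ z = 0 := by
    rw [LinearMap.mem_ker, Matrix.mulVecLin_apply] at hzk; exact hzk
  -- M on the three vectors
  have hMv : ∀ x : Fin 3 → F, M *ᵥ x = N *ᵥ x + x := by
    intro x
    rw [hN, Matrix.add_mulVec, Matrix.one_mulVec, add_assoc, hnegv, add_zero]
  have hMu : M *ᵥ u = u := by rw [hMv, hNu, zero_add]
  have hMw : M *ᵥ w = u + w := by rw [hMv, hu]
  have hMz : M *ᵥ z = z := by rw [hMv, hNz, zero_add]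
  obtain ⟨v, hv⟩ : ∃ v : Fin 3 → (Fin 3 → F), v = ![u, w, z] := ⟨_, rfl⟩
  have hli : LinearIndependent F v := by
    rw [Fintype.linearIndependent_iff]
    intro c hc
    rw [Fin.sum_univ_three, hv] at hc
    simp only [Matrix.cons_val_zero, Matrix.cons_val_one, Matrix.cons_val] at hc
    have hc' := congrArg (fun x => N *ᵥ x) hc
    simp only [Matrix.mulVec_add, Matrix.mulVec_smul, hNu, hNz, smul_zero, add_zero, zero_add,
      Matrix.mulVec_zero] at hc'
    rw [← hu] at hc'
    have hc1 : c 1 = 0 := by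
      rcases smul_eq_zero.mp hc' with h | h
      · exact h
      · exact absurd h hu0
    rw [hc1, zero_smul, add_zero] at hc
    have hc2 : c 2 = 0 := by
      by_contra hne
      apply hzs
      rw [Submodule.mem_span_singleton]
      refine ⟨(c 2)⁻¹ * c 0, ?_⟩
      have : c 2 • z = c 0 • u := by
        have : c 2 • z = -(c 0 • u) := by rw [eq_neg_iff_add_eq_zero, add_comm]; exact hc
        rw [this, ← neg_smul, hneg]
      rw [mul_smul, ← this, smul_smul, inv_mul_cancel₀ hne, one_smul]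
    rw [hc2, zero_smul, add_zero] at hc
    have hc0 : c 0 = 0 := by
      rcases smul_eq_zero.mp hc with h | h
      · exact h
      · exact absurd h hu0
    intro i
    fin_cases i
    · exact hc0
    · exact hc1
    · exact hc2
  obtain ⟨P, hP⟩ : ∃ P : Matrix (Fin 3) (Fin 3) F, P = Matrix.of (fun i j => v j i) := ⟨_, rfl⟩
  have hcol : P.col = v := by
    ext j i
    rw [hP]; rfl
  have hPu : IsUnit P := by
    rw [← Matrix.linearIndependent_cols_iff_isUnit, hcol]
    exact hli
  have hdet : IsUnit P.det := (Matrix.isUnit_iff_isUnit_det P).mp hPu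
  have hdet0 : P.det ≠ 0 := hdet.ne_zero
  have hMP : M * P = P * JJ F := by
    ext i j
    have e : ∀ x : Fin 3 → F, (∑ k, M i k * x k) = (M *ᵥ x) i := fun x => rfl
    have e' : (M * P) i j = (M *ᵥ v j) i := by
      rw [Matrix.mul_apply, ← e, hP]
      rfl
    rw [e', Matrix.mul_apply, Fin.sum_univ_three, hP, hv]
    fin_cases j
    · simp only [Matrix.of_apply, Fin.zero_eta, Matrix.cons_val_zero, JJ]
      rw [hMu]
      simp
    · simp only [Matrix.of_apply, Fin.mk_one, Matrix.cons_val_one, Matrix.cons_val_zero, JJ]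
      rw [hMw]
      simp
    · simp only [Matrix.of_apply, Fin.reduceFinMk, Matrix.cons_val, JJ]
      rw [hMz]
      simp
  refine ⟨P * Matrix.diagonal ![1, 1, (P.det)⁻¹], ?_, ?_⟩
  · rw [Matrix.det_mul, Matrix.det_diagonal, Fin.prod_univ_three]
    simp [mul_inv_cancel₀ hdet0]
  · rw [← mul_assoc, hMP, mul_assoc, mul_assoc]
    congr 1
    ext i j
    fin_cases i <;> fin_cases j <;> simp [JJ, Matrix.mul_apply, Matrix.diagonal]

end F4

/-- Any two elements of order 2 of PSL_3(4) are conjugate. -/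
theorem result {F : Type*} [Field F] [Fintype F] (hF : Fintype.card F = 4) (x y : Matrix.ProjectiveSpecialLinearGroup (Fin 3) F) (hx : orderOf x = 2) (hy : orderOf y = 2) : IsConj x y := by
  classical
  have h2 := Cfsg.Agent.S2739.two_eq_zero hF
  have hdetJ : (JJ F).det = 1 := by
    rw [JJ, Matrix.det_fin_three]
    simp
  obtain ⟨j₀, hj₀⟩ : ∃ j₀ : Matrix.SpecialLinearGroup (Fin 3) F,
      (j₀ : Matrix (Fin 3) (Fin 3) F) = JJ F := ⟨⟨_, hdetJ⟩, rfl⟩
  have key : ∀ x : Matrix.ProjectiveSpecialLinearGroup (Fin 3) F, orderOf x = 2 →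
      ∃ k : Matrix.ProjectiveSpecialLinearGroup (Fin 3) F,
        x = k * (QuotientGroup.mk j₀ : Matrix.ProjectiveSpecialLinearGroup (Fin 3) F) * k⁻¹ := by
    intro x hx
    have hx2 : x ^ 2 = 1 := by rw [← hx]; exact pow_orderOf_eq_one x
    have hx1 : x ≠ 1 := by
      intro h
      rw [h, orderOf_one] at hx
      omega
    obtain ⟨s, hs⟩ := QuotientGroup.mk_surjective x
    have hs2 : s ^ 2 ∈ Subgroup.center (Matrix.SpecialLinearGroup (Fin 3) F) := by
      rw [← QuotientGroup.eq_one_iff, QuotientGroup.mk_pow, hs]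
      exact hx2
    have hs2' := hs2
    rw [Matrix.SpecialLinearGroup.mem_center_iff] at hs2'
    obtain ⟨r, hr3, hr⟩ := hs2'
    have hr3' : r ^ 3 = 1 := by simpa using hr3
    obtain ⟨c, hc⟩ : ∃ c : Matrix.SpecialLinearGroup (Fin 3) F, c = s ^ 2 := ⟨_, rfl⟩
    have hcc : c ∈ Subgroup.center (Matrix.SpecialLinearGroup (Fin 3) F) := by rw [hc]; exact hs2
    have hcM : (c : Matrix (Fin 3) (Fin 3) F) = r • (1 : Matrix (Fin 3) (Fin 3) F) := by
      rw [hc, ← hr, Matrix.smul_one_eq_diagonal]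
      rfl
    have hc3 : c ^ 3 = 1 := by
      apply Subtype.ext
      rw [Matrix.SpecialLinearGroup.coe_pow, hcM, smul_pow, one_pow, hr3', one_smul]
      rfl
    have hcomm : Commute c s := by
      rw [Subgroup.mem_center_iff] at hcc
      exact (hcc s).symm
    have hs'2 : (c * s) ^ 2 = 1 := by
      rw [hcomm.mul_pow, ← hc, ← pow_succ, hc3]
    have hs'x : (QuotientGroup.mk (c * s) : Matrix.ProjectiveSpecialLinearGroup (Fin 3) F) = x := by
      rw [QuotientGroup.mk_mul, hs, (QuotientGroup.eq_one_iff c).mpr hcc, one_mul]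
    have hM2 : ((c * s : Matrix.SpecialLinearGroup (Fin 3) F) : Matrix (Fin 3) (Fin 3) F)
        * ((c * s : Matrix.SpecialLinearGroup (Fin 3) F) : Matrix (Fin 3) (Fin 3) F) = 1 := by
      rw [← Matrix.SpecialLinearGroup.coe_mul, ← sq, hs'2]
      rfl
    have hM1 : ((c * s : Matrix.SpecialLinearGroup (Fin 3) F) : Matrix (Fin 3) (Fin 3) F) ≠ 1 := by
      intro h
      apply hx1
      rw [← hs'x]
      have : c * s = 1 := Subtype.ext h
      rw [this]
      rfl
    obtain ⟨P, hPdet, hMP⟩ := exists_jordan hF _ hM2 hM1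
    obtain ⟨g, hgP⟩ : ∃ g : Matrix.SpecialLinearGroup (Fin 3) F,
        (g : Matrix (Fin 3) (Fin 3) F) = P := ⟨⟨P, hPdet⟩, rfl⟩
    refine ⟨QuotientGroup.mk g, ?_⟩
    have h1 : (c * s) * g = g * j₀ := by
      apply Subtype.ext
      show ((c * s : Matrix.SpecialLinearGroup (Fin 3) F) : Matrix (Fin 3) (Fin 3) F)
        * (g : Matrix (Fin 3) (Fin 3) F) = (g : Matrix (Fin 3) (Fin 3) F) * (j₀ : Matrix (Fin 3) (Fin 3) F)
      rw [hj₀, hgP]
      exact hMP
    have h3 : c * s = g * j₀ * g⁻¹ := by rw [← h1]; group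
    rw [← hs'x, h3]
    rfl
  obtain ⟨k₁, hk₁⟩ := key x hx
  obtain ⟨k₂, hk₂⟩ := key y hy
  rw [isConj_iff]
  refine ⟨k₂ * k₁⁻¹, ?_⟩
  rw [hk₁, hk₂]
  group

end Cfsg.Agent.S0820
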