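import Cfsg.Statements.S0821
import Mathlib
import Cfsg.Agent.Lib.Helper9.TwoRankOmega
import Cfsg.Agent.Lib.Helper9.PSpRank
import Cfsg.Agent.Lib.Helper5.OmegaCenter
import Cfsg.Agent.Lib.Helper25.SpinForms
import Cfsg.Agent.Lib.Helper25.SpinSO
import Cfsg.Agent.Lib.Helper14.OrthOdd

set_option autoImplicit false
open Cfsg

namespace Cfsg.Agent.S0821

section Aux
set_option linter.unusedSectionVars false
set_option linter.unusedVariables false
namespace S0821aux
open Module QuadraticMap Matrix Cfsg.Agent.Lib.Helper25.CD Cfsg.Agent.Lib.Helper25.Spin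
  Cfsg.Agent.Lib.Helper14 Cfsg.Agent.Lib.Helper5.OmegaCenter

/-- transport of a rank lower bound along an injective hom -/
theorem prankAtLeast_of_injective {G H : Type*} [Group G] [Group H] (f : G →* H)
    (hf : Function.Injective f) (p k : ℕ) (h : Cfsg.PRankAtLeast p k G) :
    Cfsg.PRankAtLeast p k H := by
  obtain ⟨A, hAc, hAe, hAcard⟩ := h
  refine ⟨A.map f, ?_, ?_, ?_⟩
  · refine ⟨⟨?_⟩⟩
    rintro ⟨_, x, hx, rfl⟩ ⟨_, y, hy, rfl⟩
    apply Subtype.ext
    change f x * f y = f y * f x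
    have h1 : x * y = y * x := congrArg Subtype.val (hAc.is_comm.comm (⟨x, hx⟩ : A) ⟨y, hy⟩)
    rw [← map_mul, ← map_mul, h1]
  · rintro _ ⟨x, hx, rfl⟩
    rw [← map_pow, hAe x hx, map_one]
  · rw [Subgroup.card_map_of_injective hf]
    exact hAcard

theorem pomega_rank {F : Type*} [Field F] [Fintype F] (hodd : Odd (Fintype.card F))
    (m : ℕ) (hm : 3 ≤ m) :
    Cfsg.PRankAtLeast 2 (2 * m) (Cfsg.POmega F (Cfsg.quadFormOdd m F)) := by
  have h2 := two_ne_zero_of_odd_card hodd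
  obtain ⟨Q, hQdef⟩ : ∃ Q : QuadraticForm F (Unit ⊕ (Fin m ⊕ Fin m) → F),
      Q = qfOf (isQF_odd (m := m) h2) := ⟨_, rfl⟩
  have hcoe : ⇑Q = Cfsg.quadFormOdd m F := by rw [hQdef]; rfl
  have hQ : (polarBilin Q).Nondegenerate := by rw [hQdef]; exact qfOf_nondeg _
  have hcardι : Fintype.card (Unit ⊕ (Fin m ⊕ Fin m)) = 1 + (m + m) := by
    simp only [Fintype.card_sum, Fintype.card_fin, Fintype.card_unit]
  have hex : Fintype.card F ≠ 2 ∨ Fintype.card (Unit ⊕ (Fin m ⊕ Fin m)) ≠ 4 := by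
    right; rw [hcardι]; omega
  have hn : 4 ≤ Fintype.card (Unit ⊕ (Fin m ⊕ Fin m)) := by rw [hcardι]; omega
  have hbot : Subgroup.center ↥(Cfsg.Omega F ⇑Q) = ⊥ := by
    rw [Subgroup.eq_bot_iff_forall]
    intro z hz
    have h1 := center_pm_one Q hQ hex hn (coe_mem_CZ Q z hz)
    have h2' : (((z : ↥(Cfsg.isometryGroup F ⇑Q)) : GL (Unit ⊕ (Fin m ⊕ Fin m)) F) :
        Matrix (Unit ⊕ (Fin m ⊕ Fin m)) (Unit ⊕ (Fin m ⊕ Fin m)) F) = 1 := by
      rcases h1 with h | h
      · exact h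
      · exfalso
        have h3 := (mem_special_iff_det Q (z : ↥(Cfsg.isometryGroup F ⇑Q))).mp
          (omega_le_special Q h2 hQ z.2)
        rw [h, Matrix.det_neg, Matrix.det_one, mul_one, hcardι] at h3
        have h4 : ((-1 : F)) ^ (1 + (m + m)) = -1 := by
          rw [pow_add, pow_one, ← two_mul, pow_mul]
          simp
        rw [h4] at h3
        apply h2
        linear_combination -h3
    apply eq_of_coe_eq Q
    rw [h2']
    rfl
  have hinj : Function.Injective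
      (QuotientGroup.mk' (Subgroup.center ↥(Cfsg.Omega F ⇑Q))) := by
    rw [← MonoidHom.ker_eq_bot_iff, QuotientGroup.ker_mk', hbot]
  have hA := (Cfsg.Agent.Lib.Helper9.TwoRankOmega.two_rank_odd Q h2 hQ m (by
      rw [hcardι]; omega)).1
  have hB := prankAtLeast_of_injective _ hinj 2 (2 * m) hA
  rw [hcoe] at hB
  exact hB

theorem main {F : Type*} [Field F] [Fintype F] (hodd : Odd (Fintype.card F)) (m : ℕ)
    (hm : 3 ≤ m) : IsEmpty (Cfsg.PSp m F ≃* Cfsg.POmega F (Cfsg.quadFormOdd m F)) := by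
  refine ⟨fun e => ?_⟩
  have h2 := two_ne_zero_of_odd_card hodd
  have hA := prankAtLeast_of_injective e.symm.toMonoidHom e.symm.injective 2 (2 * m)
    (pomega_rank hodd m hm)
  obtain ⟨A, hAc, hAe, hAcard⟩ := hA
  have hB := Cfsg.Agent.Lib.Helper9.PSpRank.psp_prankLE h2 m hm A hAc hAe
  have h3 : (2 : ℕ) ^ (2 * m) = 2 * 2 ^ (2 * m - 1) := by
    rw [← pow_succ']
    congr 1
    omega
  have h4 : 0 < 2 ^ (2 * m - 1) := by positivity
  omega

end S0821aux
end Aux

/-- PSp_2m(q) ≇ PΩ_(2m+1)(q) for q odd and m ≥ 3 (they have the same order). -/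
theorem result {F : Type*} [Field F] [Fintype F] (hodd : Odd (Fintype.card F)) (m : ℕ) (hm : 3 ≤ m) : IsEmpty (Cfsg.PSp m F ≃* Cfsg.POmega F (Cfsg.quadFormOdd m F)) := by
  exact S0821aux.main hodd m hm

end Cfsg.Agent.S0821
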