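import Cfsg.Statements.S0823
import Cfsg.Agent.Lib.Helper16.SO3Dec
import Cfsg.Agent.Lib.Helper14.OrthOdd
import Cfsg.Agent.Lib.Helper15.IsometryTransport

set_option autoImplicit false
open Cfsg

namespace Cfsg.Agent.S0823

open Matrix Cfsg.Agent.Lib.Helper16.SO3

/-- SO_3(3) ≅ S_4: the determinant-one isometries of the form x_0² + x_1y_1 over the field with 3 elements form a group isomorphic to the symmetric group on 4 letters. -/
theorem result {F : Type*} [Field F] [Fintype F] (hF : Fintype.card F = 3) : Nonempty (↥(Cfsg.specialIsometryGroup F (Cfsg.quadFormOdd 1 F)) ≃* Equiv.Perm (Fin 4)) := by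
  classical
  have : Fact (Nat.Prime 3) := ⟨Nat.prime_three⟩
  have : CharP F 3 := charP_of_card_eq_prime hF
  have h2 : (2 : F) ≠ 0 := by
    intro h
    have h' : ((2 : ℕ) : F) = 0 := by exact_mod_cast h
    rw [CharP.cast_eq_zero_iff F 3] at h'
    omega
  obtain ⟨f, -⟩ : ∃ f : ZMod 3 →+* F, True := ⟨ZMod.castHom (dvd_refl 3) F, trivial⟩
  have hfbij : Function.Bijective f := by
    rw [Fintype.bijective_iff_injective_and_card]
    exact ⟨f.injective, by rw [hF, ZMod.card]⟩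
  obtain ⟨ψ₀, hψ₀⟩ : ∃ ψ₀ : Equiv.Perm (Fin 4) →* Matrix I3 I3 F, ∀ σ, ψ₀ σ = (MM σ).map f :=
    ⟨(f.mapMatrix : Matrix I3 I3 (ZMod 3) →+* Matrix I3 I3 F).toMonoidHom.comp
      { toFun := MM, map_one' := MM_one, map_mul' := MM_mul }, fun σ => rfl⟩
  have hQ : ∀ w : I3 → ZMod 3, Cfsg.quadFormOdd 1 F (f ∘ w) = f (Cfsg.quadFormOdd 1 (ZMod 3) w) := by
    intro w
    simp only [Cfsg.quadFormOdd, map_sum, map_mul, map_add, map_pow, Function.comp_apply]
  have hmem : ∀ σ, ψ₀.toHomUnits σ ∈ Cfsg.isometryGroup F (Cfsg.quadFormOdd 1 F) := by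
    intro σ
    rw [Cfsg.Agent.Lib.Helper15.mem_isometryGroup_iff]
    intro u
    obtain ⟨u₀, rfl⟩ : ∃ u₀ : I3 → ZMod 3, f ∘ u₀ = u :=
      ⟨fun i => (Equiv.ofBijective f hfbij).symm (u i), by
        funext i
        exact (Equiv.ofBijective f hfbij).apply_symm_apply (u i)⟩
    have h1 : ((ψ₀.toHomUnits σ : Matrix.GeneralLinearGroup I3 F) : Matrix I3 I3 F) = (MM σ).map f :=
      hψ₀ σ
    rw [h1]
    have h2 : (MM σ).map f *ᵥ (f ∘ u₀) = f ∘ (MM σ *ᵥ u₀) := by
      funext i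
      exact (RingHom.map_mulVec f (MM σ) u₀ i).symm
    rw [h2, hQ, hQ, MM_iso]
  obtain ⟨ψ₁, hψ₁⟩ : ∃ ψ₁ : Equiv.Perm (Fin 4) →* ↥(Cfsg.isometryGroup F (Cfsg.quadFormOdd 1 F)),
      ∀ σ, (((ψ₁ σ : ↥(Cfsg.isometryGroup F (Cfsg.quadFormOdd 1 F))) :
        Matrix.GeneralLinearGroup I3 F) : Matrix I3 I3 F) = (MM σ).map f :=
    ⟨ψ₀.toHomUnits.codRestrict _ hmem, fun σ => hψ₀ σ⟩
  have hmem2 : ∀ σ, ψ₁ σ ∈ Cfsg.specialIsometryGroup F (Cfsg.quadFormOdd 1 F) := by
    intro σ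
    unfold Cfsg.specialIsometryGroup
    rw [MonoidHom.mem_ker]
    apply Units.ext
    change (((ψ₁ σ : ↥(Cfsg.isometryGroup F (Cfsg.quadFormOdd 1 F))) :
        Matrix.GeneralLinearGroup I3 F) : Matrix I3 I3 F).det = 1
    rw [hψ₁ σ]
    have : ((MM σ).map f).det = f ((MM σ).det) := by
      rw [RingHom.map_det]; rfl
    rw [this, MM_det, map_one]
  obtain ⟨ψ, hψ⟩ : ∃ ψ : Equiv.Perm (Fin 4) →* ↥(Cfsg.specialIsometryGroup F (Cfsg.quadFormOdd 1 F)),
      ∀ σ, ((((ψ σ : ↥(Cfsg.specialIsometryGroup F (Cfsg.quadFormOdd 1 F))) :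
        ↥(Cfsg.isometryGroup F (Cfsg.quadFormOdd 1 F))) :
        Matrix.GeneralLinearGroup I3 F) : Matrix I3 I3 F) = (MM σ).map f :=
    ⟨ψ₁.codRestrict _ hmem2, fun σ => hψ₁ σ⟩
  have hinj : Function.Injective ψ := by
    rw [injective_iff_map_eq_one]
    intro σ h
    apply MM_inj
    have h1 := hψ σ
    rw [h] at h1
    apply Matrix.map_injective f.injective
    show (MM σ).map f = (1 : Matrix I3 I3 (ZMod 3)).map f
    rw [← h1, Matrix.map_one _ (map_zero f) (map_one f)]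
    rfl
  have hcardO : Nat.card ↥(Cfsg.isometryGroup F (Cfsg.quadFormOdd 1 F)) = 48 := by
    rw [Cfsg.Agent.Lib.Helper14.card_isometry_odd h2 1, hF]
    simp [Finset.prod_range_succ]
  have hfinO : Finite ↥(Cfsg.isometryGroup F (Cfsg.quadFormOdd 1 F)) :=
    Nat.finite_of_card_ne_zero (by rw [hcardO]; norm_num)
  -- `-1` is an isometry of determinant `-1`
  have hneg : (-1 : Matrix.GeneralLinearGroup I3 F) ∈ Cfsg.isometryGroup F (Cfsg.quadFormOdd 1 F) := by
    rw [Cfsg.Agent.Lib.Helper15.mem_isometryGroup_iff]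
    intro u
    have : ((-1 : Matrix.GeneralLinearGroup I3 F) : Matrix I3 I3 F) *ᵥ u = -u := by
      rw [Units.val_neg, Units.val_one, Matrix.neg_mulVec, Matrix.one_mulVec]
    rw [this]
    simp only [Cfsg.quadFormOdd, Pi.neg_apply]
    congr 1
    · ring
    · apply Finset.sum_congr rfl
      intro i _
      ring
  have hne_top : Cfsg.specialIsometryGroup F (Cfsg.quadFormOdd 1 F) ≠ ⊤ := by
    intro htop
    have hm : (⟨-1, hneg⟩ : ↥(Cfsg.isometryGroup F (Cfsg.quadFormOdd 1 F))) ∈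
        Cfsg.specialIsometryGroup F (Cfsg.quadFormOdd 1 F) := by rw [htop]; trivial
    unfold Cfsg.specialIsometryGroup at hm
    rw [MonoidHom.mem_ker] at hm
    have hd : ((-1 : Matrix.GeneralLinearGroup I3 F) : Matrix I3 I3 F).det = 1 :=
      congrArg Units.val hm
    rw [Units.val_neg, Units.val_one, Matrix.det_neg, Matrix.det_one, mul_one] at hd
    have hc : Fintype.card I3 = 3 := by decide
    rw [hc] at hd
    have : (2 : F) = 0 := by linear_combination (-1 : F) * hd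
    exact h2 this
  have hdvd : Nat.card ↥(Cfsg.specialIsometryGroup F (Cfsg.quadFormOdd 1 F)) ∣ 48 := by
    rw [← hcardO]; exact Subgroup.card_subgroup_dvd_card _
  have hlt : Nat.card ↥(Cfsg.specialIsometryGroup F (Cfsg.quadFormOdd 1 F)) ≠ 48 := by
    intro h
    apply hne_top
    rw [← Subgroup.card_eq_iff_eq_top, h, hcardO]
  have hfinS : Finite ↥(Cfsg.specialIsometryGroup F (Cfsg.quadFormOdd 1 F)) := inferInstance
  have hge : 24 ≤ Nat.card ↥(Cfsg.specialIsometryGroup F (Cfsg.quadFormOdd 1 F)) := by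
    have := Nat.card_le_card_of_injective ψ hinj
    rw [Nat.card_perm, Nat.card_eq_fintype_card, Fintype.card_fin] at this
    exact this
  have hcard : Nat.card ↥(Cfsg.specialIsometryGroup F (Cfsg.quadFormOdd 1 F)) = 24 := by
    have hle : Nat.card ↥(Cfsg.specialIsometryGroup F (Cfsg.quadFormOdd 1 F)) ≤ 48 :=
      Nat.le_of_dvd (by norm_num) hdvd
    generalize Nat.card ↥(Cfsg.specialIsometryGroup F (Cfsg.quadFormOdd 1 F)) = n at *
    interval_cases n <;> omega
  have hbij : Function.Bijective ψ := by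
    rw [Nat.bijective_iff_injective_and_card]
    refine ⟨hinj, ?_⟩
    rw [hcard, Nat.card_perm, Nat.card_eq_fintype_card, Fintype.card_fin]
    rfl
  exact ⟨(MulEquiv.ofBijective ψ hbij).symm⟩

end Cfsg.Agent.S0823
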