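import Cfsg.Statements.S0827
import Mathlib
import Cfsg.Agent.Lib.Helper16.PSU32
import Cfsg.Agent.Lib.Helper16.Struct72

set_option autoImplicit false
open Cfsg

namespace Cfsg.Agent.S0827

open Cfsg.Agent.Lib.Helper16.PSU32 Cfsg.Agent.Lib.Helper16.Struct72

/-- U_3(2) ≅ 3².Q_8: PSU_3(2) (form over the field with 4 elements) has a normal subgroup N which is elementary abelian of order 9 such that the quotient by N is isomorphic to the quaternion group of order 8. -/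
theorem result {F : Type*} [Field F] [Fintype F] (hF : Fintype.card F = 4) : ∃ (N : Subgroup (Cfsg.PSU 3 F 2)) (_ : N.Normal), Nat.card N = 9 ∧ (∀ x ∈ N, x ^ 3 = 1) ∧ Nonempty (Cfsg.PSU 3 F 2 ⧸ N ≃* QuaternionGroup 2) := by
  classical
  have hF' : Fintype.card F = 2 ^ 2 := by rw [hF]; norm_num
  have hcard : Nat.card (Cfsg.PSU 3 F 2) = 72 := by
    have h1 := Cfsg.Agent.Lib.Helper14.card_GU hF' 3
    have h2 := Cfsg.Agent.Lib.Helper14.card_SU_mul hF' 3 (by omega)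
    have h3 := Cfsg.Agent.Lib.Helper14.card_center_SU hF' 3 (by omega)
    have h4 := Subgroup.card_eq_card_quotient_mul_card_subgroup (Subgroup.center (Cfsg.SU 3 F 2))
    rw [h3] at h4
    rw [h1] at h2
    have h6 : (∏ i ∈ Finset.range 3, if Even i then 2 ^ (i + 1) + 1 else 2 ^ (i + 1) - 1) = 81 := by
      decide
    rw [h6] at h2
    have h7 : 2 ^ (3 * (3 - 1) / 2) = 8 := by norm_num
    rw [h7] at h2
    have h5 : Nat.gcd 3 (2 + 1) = 3 := by norm_num
    rw [h5] at h4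
    show Nat.card (Cfsg.SU 3 F 2 ⧸ Subgroup.center (Cfsg.SU 3 F 2)) = 72
    omega
  have hfin : Finite (Cfsg.PSU 3 F 2) := Nat.finite_of_card_ne_zero (by rw [hcard]; norm_num)
  let φ : K4 ≃+* F := FiniteField.ringEquivOfCardEq (by rw [card_K4, hF])
  let Φ : Cfsg.SU 3 K4 2 →* Cfsg.PSU 3 F 2 := toPSU (n := 3) card_K4' hF' φ.toRingHom
  let D : Cfsg.SU 3 K4 2 := mkSU card_K4' dd det_dd uni_dd
  let C : Cfsg.SU 3 K4 2 := mkSU card_K4' cc det_cc uni_cc
  let A : Cfsg.SU 3 K4 2 := mkSU card_K4' ff det_ff uni_ff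
  let X : Cfsg.SU 3 K4 2 := mkSU card_K4' xx det_xx uni_xx
  let Z : Cfsg.SU 3 K4 2 := mkSU card_K4' zz det_zz uni_zz
  have hZ : Φ Z = 1 := by
    apply toPSU_eq_one_of_scalar card_K4' hF' φ.toRingHom Z (⟨0, 1⟩ : K4)
    show zz = _
    decide +kernel
  -- relations in `SU₃(K4)`
  have rD3 : D ^ 3 = 1 := su_ext (by rw [su_coe_pow, su_coe_one]; exact rel_dd3)
  have rC3 : C ^ 3 = 1 := su_ext (by rw [su_coe_pow, su_coe_one]; exact rel_cc3)
  have rDC : D * C = Z ^ 2 * (C * D) :=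
    su_ext (by simp only [su_coe_mul, su_coe_pow]; exact rel_dc)
  have rA4 : A ^ 4 = 1 := su_ext (by rw [su_coe_pow, su_coe_one]; exact rel_ff4)
  have rX2 : X ^ 2 = A ^ 2 := su_ext (by simp only [su_coe_pow]; exact rel_xx2)
  have rXA : X * A = A ^ 3 * X := su_ext (by simp only [su_coe_mul, su_coe_pow]; exact rel_xf)
  have rAD : A * D = Z * (C * A) := su_ext (by simp only [su_coe_mul]; exact rel_fd)
  have rAC : A * C = Z * (D ^ 2 * A) :=
    su_ext (by simp only [su_coe_mul, su_coe_pow]; exact rel_fc)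
  have rXD : X * D = D ^ 2 * C * X :=
    su_ext (by simp only [su_coe_mul, su_coe_pow]; exact rel_xd)
  have rXC : X * C = Z * (D * C * X) := su_ext (by simp only [su_coe_mul]; exact rel_xc)
  -- images
  have h13 : Φ D ^ 3 = 1 := by rw [← map_pow, rD3, map_one]
  have h23 : Φ C ^ 3 = 1 := by rw [← map_pow, rC3, map_one]
  have ha4 : Φ A ^ 4 = 1 := by rw [← map_pow, rA4, map_one]
  have hc : Φ D * Φ C = Φ C * Φ D := by
    rw [← map_mul, rDC, map_mul, map_pow, hZ, one_pow, one_mul, map_mul]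
  have hx2 : Φ X ^ 2 = Φ A ^ 2 := by rw [← map_pow, rX2, map_pow]
  have hAinv : (Φ A)⁻¹ = Φ A ^ 3 := by
    rw [inv_eq_iff_mul_eq_one, ← pow_succ', ha4]
  have hxa : Φ X * Φ A * (Φ X)⁻¹ = (Φ A)⁻¹ := by
    rw [← map_mul, rXA, map_mul, map_pow, mul_inv_cancel_right, hAinv]
  have han1 : Φ A * Φ D * (Φ A)⁻¹ = Φ C := by
    rw [← map_mul, rAD, map_mul, hZ, one_mul, map_mul, mul_inv_cancel_right]
  have han2 : Φ A * Φ C * (Φ A)⁻¹ = Φ D ^ 2 := by
    rw [← map_mul, rAC, map_mul, hZ, one_mul, map_mul, map_pow, mul_inv_cancel_right]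
  have hxn1 : Φ X * Φ D * (Φ X)⁻¹ = Φ D ^ 2 * Φ C := by
    rw [← map_mul, rXD, map_mul, map_mul, map_pow, mul_inv_cancel_right]
  have hxn2 : Φ X * Φ C * (Φ X)⁻¹ = Φ D * Φ C := by
    rw [← map_mul, rXC, map_mul, hZ, one_mul, map_mul, map_mul, mul_inv_cancel_right]
  -- non-degeneracy
  have key : ∀ g : Cfsg.SU 3 K4 2, Φ g = 1 → IsScal (g.1 : Matrix (Fin 3) (Fin 3) K4) :=
    fun g hg => scalar_of_toPSU_eq_one (m := 1) card_K4' hF' φ.toRingHom g hg
  have hn1 : Φ D ≠ 1 := fun h => ns_dd (key D h)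
  have hn2 : Φ C ≠ 1 := fun h => ns_cc (key C h)
  have hn21 : Φ C ≠ Φ D := by
    intro h
    have : Φ (C * D ^ 2) = 1 := by
      rw [map_mul, map_pow, h, ← pow_succ', h13]
    have h2 := key _ this
    simp only [su_coe_mul, su_coe_pow] at h2
    exact ns_cd2 h2
  have hn22 : Φ C ≠ Φ D ^ 2 := by
    intro h
    have : Φ (C * D) = 1 := by
      rw [map_mul, h, ← pow_succ, h13]
    have h2 := key _ this
    simp only [su_coe_mul] at h2
    exact ns_cd h2
  have ha2 : Φ A ^ 2 ≠ 1 := by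
    intro h
    have : Φ (A ^ 2) = 1 := by rw [map_pow, h]
    have h2 := key _ this
    simp only [su_coe_pow] at h2
    exact ns_ff2 h2
  have hx0 : Φ X ≠ 1 := fun h => ns_xx (key X h)
  have hx1 : Φ X ≠ Φ A := by
    intro h
    have : Φ (X * A ^ 3) = 1 := by
      rw [map_mul, map_pow, h, ← pow_succ', ha4]
    have h2 := key _ this
    simp only [su_coe_mul, su_coe_pow] at h2
    exact ns_xf3 h2
  have hx2' : Φ X ≠ Φ A ^ 2 := by
    intro h
    have : Φ (X * A ^ 2) = 1 := by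
      rw [map_mul, map_pow, h, ← pow_add, ha4]
    have h2 := key _ this
    simp only [su_coe_mul, su_coe_pow] at h2
    exact ns_xf2 h2
  have hx3 : Φ X ≠ Φ A ^ 3 := by
    intro h
    have : Φ (X * A) = 1 := by
      rw [map_mul, h, ← pow_succ, ha4]
    have h2 := key _ this
    simp only [su_coe_mul] at h2
    exact ns_xf h2
  exact struct72 hcard (Φ D) (Φ C) (Φ A) (Φ X) h13 h23 hc ha4 hx2 hxa han1 han2 hxn1 hxn2
    hn1 hn2 hn21 hn22 ha2 hx0 hx1 hx2' hx3

end Cfsg.Agent.S0827
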