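import Cfsg.Statements.S0828
import Mathlib
import Cfsg.Agent.Lib.Helper5.SympCount

set_option autoImplicit false
open Cfsg

namespace Cfsg.Agent.S0828

section Aux

open Cfsg.Agent.Lib.Helper5 Cfsg.Agent.Lib.Helper5.SympCount Module

theorem main {F : Type*} [Field F] [Fintype F] {q : ℕ} (hF : Fintype.card F = q) : Nat.card {W : Submodule F (Fin 2 ⊕ Fin 2 → F) // Module.finrank F W = 2 ∧ ∀ u ∈ W, ∀ v ∈ W, Cfsg.sympForm 2 F u v = 0} = (q + 1) * (q ^ 2 + 1) ∧ ∀ v : Fin 2 ⊕ Fin 2 → F, v ≠ 0 → Nat.card {W : Submodule F (Fin 2 ⊕ Fin 2 → F) // Module.finrank F W = 2 ∧ v ∈ W ∧ ∀ u ∈ W, ∀ w ∈ W, Cfsg.sympForm 2 F u w = 0} = q + 1 := by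
  have hq : 2 ≤ q := hF ▸ card_pos_F
  have hL : ∀ v : Fin 2 ⊕ Fin 2 → F, v ≠ 0 →
      Nat.card {W : Submodule F (Fin 2 ⊕ Fin 2 → F) // finrank F W = 2 ∧ v ∈ W ∧ TI W} = q + 1 := by
    intro v hv
    have h1 := lines_through v hv
    have h2 := card_ker_phi 2 v hv
    have h2' : (LinearMap.ker (phi 2 v) : Set (Fin 2 ⊕ Fin 2 → F)).ncard =
        Nat.card (LinearMap.ker (phi 2 v)) := (Nat.card_coe_set_eq _).symm
    rw [← h2'] at h2
    rw [hF] at h1 h2
    have hker : (LinearMap.ker (phi 2 v) : Set (Fin 2 ⊕ Fin 2 → F)).ncard = q ^ 3 := by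
      have : (LinearMap.ker (phi 2 v) : Set (Fin 2 ⊕ Fin 2 → F)).ncard * q = q ^ 3 * q := by
        rw [h2]; ring
      exact Nat.eq_of_mul_eq_mul_right (by omega) this
    rw [hker] at h1
    have hq2 : q ≤ q ^ 2 := by nlinarith
    have hq3 : q ≤ q ^ 3 := by nlinarith [pow_pos (show 0 < q by omega) 2]
    have hpos : 0 < q ^ 2 - q := by
      have : q < q ^ 2 := by nlinarith
      omega
    have : q ^ 3 - q = (q + 1) * (q ^ 2 - q) := by
      zify [hq2, hq3]; ring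
    rw [this] at h1
    exact Nat.eq_of_mul_eq_mul_right hpos h1
  refine ⟨?_, hL⟩
  have h := lines_total (F := F) (m := 2) (q + 1) hL
  rw [hF] at h
  have h1 : 1 ≤ q ^ 2 := Nat.one_le_pow _ _ (by omega)
  have h4 : 1 ≤ q ^ (2 * 2) := Nat.one_le_pow _ _ (by omega)
  have hpos : 0 < q ^ 2 - 1 := by
    have : 1 < q ^ 2 := by nlinarith
    omega
  have : (q ^ (2 * 2) - 1) * (q + 1) = ((q + 1) * (q ^ 2 + 1)) * (q ^ 2 - 1) := by
    zify [h1, h4]; ring
  rw [this] at h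
  exact Nat.eq_of_mul_eq_mul_right hpos h

end Aux

/-- The symplectic generalised quadrangle over a field with q elements: the number of 2-dimensional subspaces of F^4 on which the symplectic form vanishes is (q + 1)(q² + 1), and every non-zero vector lies in exactly q + 1 of them. -/
theorem result {F : Type*} [Field F] [Fintype F] {q : ℕ} (hF : Fintype.card F = q) : Nat.card {W : Submodule F (Fin 2 ⊕ Fin 2 → F) // Module.finrank F W = 2 ∧ ∀ u ∈ W, ∀ v ∈ W, Cfsg.sympForm 2 F u v = 0} = (q + 1) * (q ^ 2 + 1) ∧ ∀ v : Fin 2 ⊕ Fin 2 → F, v ≠ 0 → Nat.card {W : Submodule F (Fin 2 ⊕ Fin 2 → F) // Module.finrank F W = 2 ∧ v ∈ W ∧ ∀ u ∈ W, ∀ w ∈ W, Cfsg.sympForm 2 F u w = 0} = q + 1 := by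
  exact main hF

end Cfsg.Agent.S0828
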