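import Cfsg.Statements.S0834
import Cfsg.Agent.Lib.Helper25.DiscType
import Cfsg.Agent.Lib.Helper14.TensorAlt
-- import your own Cfsg.Agent.* helpers here

set_option autoImplicit false
open Cfsg

namespace Cfsg.Agent.S0834

/-- Over a finite field with 2 ≠ 0: if B₁ on U (dim 2k, k ≥ 1) and B₂ on W (dim 2l, l ≥ 1) are non-degenerate symmetric forms admitting no totally isotropic subspaces of dimensions k, resp. l (minus type), then B₁ ⊗ B₂ admits a totally isotropic subspace of dimension 2kl (plus type). -/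
theorem result {F U W : Type*} [Field F] [Fintype F] [AddCommGroup U] [Module F U] [FiniteDimensional F U] [AddCommGroup W] [Module F W] [FiniteDimensional F W] (h2 : (2 : F) ≠ 0) (B₁ : LinearMap.BilinForm F U) (B₂ : LinearMap.BilinForm F W) (h₁ : B₁.Nondegenerate) (h₂ : B₂.Nondegenerate) (hS₁ : B₁.IsSymm) (hS₂ : B₂.IsSymm) (k l : ℕ) (hk : 1 ≤ k) (hl : 1 ≤ l) (hU : Module.finrank F U = 2 * k) (hW : Module.finrank F W = 2 * l) (hm₁ : ¬ (∃ X : Submodule F (U), Module.finrank F X = k ∧ ∀ x ∈ X, ∀ y ∈ X, (B₁) x y = 0)) (hm₂ : ¬ (∃ X : Submodule F (W), Module.finrank F X = l ∧ ∀ x ∈ X, ∀ y ∈ X, (B₂) x y = 0)) : (∃ X : Submodule F (TensorProduct F U W), Module.finrank F X = 2 * k * l ∧ ∀ x ∈ X, ∀ y ∈ X, (B₁.tmul B₂) x y = 0) := by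
  classical
  have hsymm : LinearMap.BilinForm.IsSymm (B₁.tmul B₂) :=
    LinearMap.BilinForm.isSymm_iff.mpr
      (LinearMap.IsSymm.tmul (LinearMap.BilinForm.isSymm_iff.mp hS₁) (LinearMap.BilinForm.isSymm_iff.mp hS₂))
  have hnd := Cfsg.Agent.Lib.Helper14.TensorAlt.tmul_nondegenerate B₁ B₂ h₁ h₂
  have hdim : Module.finrank F (TensorProduct F U W) = 2 * (2 * k * l) := by
    rw [Module.finrank_tensorProduct, hU, hW]; ring
  have hdet := Cfsg.Agent.Lib.Helper25.DiscType.tmul_det (Module.finBasisOfFinrankEq F U hU)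
    (Module.finBasisOfFinrankEq F W hW) B₁ B₂
  rw [Fintype.card_fin, Fintype.card_fin] at hdet
  refine Cfsg.Agent.Lib.Helper25.DiscType.exists_isotropic_of_isSquare h2
    ((Module.finBasisOfFinrankEq F U hU).tensorProduct (Module.finBasisOfFinrankEq F W hW))
    (B₁.tmul B₂) hsymm hnd (2 * k * l) hdim ?_
  rw [hdet]
  have he : Even (2 * k * l) := ⟨k * l, by ring⟩
  rw [he.neg_one_pow, one_mul]
  refine ⟨(LinearMap.BilinForm.toMatrix (Module.finBasisOfFinrankEq F U hU) B₁).det ^ l *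
    (LinearMap.BilinForm.toMatrix (Module.finBasisOfFinrankEq F W hW) B₂).det ^ k, ?_⟩
  ring

end Cfsg.Agent.S0834
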