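import Cfsg.Statements.S0835
import Cfsg.Agent.Lib.Helper25.DiscType
-- import your own Cfsg.Agent.* helpers here

set_option autoImplicit false
open Cfsg

namespace Cfsg.Agent.S0835

/-- Over a finite field with 2 ≠ 0: if B₁ on U (dim 2k, k ≥ 1) is non-degenerate symmetric of minus type (no totally isotropic k-subspace) and B₂ on W (dim 2l + 1) is non-degenerate symmetric, then B₁ ⊗ B₂ (dimension 2k(2l+1)) admits no totally isotropic subspace of dimension k(2l+1) (minus type). -/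
theorem result {F U W : Type*} [Field F] [Fintype F] [AddCommGroup U] [Module F U] [FiniteDimensional F U] [AddCommGroup W] [Module F W] [FiniteDimensional F W] (h2 : (2 : F) ≠ 0) (B₁ : LinearMap.BilinForm F U) (B₂ : LinearMap.BilinForm F W) (h₁ : B₁.Nondegenerate) (h₂ : B₂.Nondegenerate) (hS₁ : B₁.IsSymm) (hS₂ : B₂.IsSymm) (k l : ℕ) (hk : 1 ≤ k) (hU : Module.finrank F U = 2 * k) (hW : Module.finrank F W = 2 * l + 1) (hm₁ : ¬ (∃ X : Submodule F (U), Module.finrank F X = k ∧ ∀ x ∈ X, ∀ y ∈ X, (B₁) x y = 0)) : ¬ (∃ X : Submodule F (TensorProduct F U W), Module.finrank F X = k * (2 * l + 1) ∧ ∀ x ∈ X, ∀ y ∈ X, (B₁.tmul B₂) x y = 0) := by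
  classical
  rintro ⟨X, hXdim, hX⟩
  have hsymm : LinearMap.BilinForm.IsSymm (B₁.tmul B₂) :=
    LinearMap.BilinForm.isSymm_iff.mpr
      (LinearMap.IsSymm.tmul (LinearMap.BilinForm.isSymm_iff.mp hS₁) (LinearMap.BilinForm.isSymm_iff.mp hS₂))
  have hdim : Module.finrank F (TensorProduct F U W) = 2 * (k * (2 * l + 1)) := by
    rw [Module.finrank_tensorProduct, hU, hW]; ring
  have hdet := Cfsg.Agent.Lib.Helper25.DiscType.tmul_det (Module.finBasisOfFinrankEq F U hU)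
    (Module.finBasisOfFinrankEq F W hW) B₁ B₂
  rw [Fintype.card_fin, Fintype.card_fin] at hdet
  have hsq := Cfsg.Agent.Lib.Helper25.DiscType.isSquare_of_isotropic
    ((Module.finBasisOfFinrankEq F U hU).tensorProduct (Module.finBasisOfFinrankEq F W hW))
    (B₁.tmul B₂) hsymm (k * (2 * l + 1)) hdim X hXdim hX
  rw [hdet] at hsq
  have d1 := (LinearMap.BilinForm.nondegenerate_iff_det_ne_zero (Module.finBasisOfFinrankEq F U hU)).mp h₁
  have d2 := (LinearMap.BilinForm.nondegenerate_iff_det_ne_zero (Module.finBasisOfFinrankEq F W hW)).mp h₂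
  obtain ⟨D₁, hD₁⟩ : ∃ D₁ : F, D₁ = (LinearMap.BilinForm.toMatrix (Module.finBasisOfFinrankEq F U hU) B₁).det := ⟨_, rfl⟩
  obtain ⟨D₂, hD₂⟩ : ∃ D₂ : F, D₂ = (LinearMap.BilinForm.toMatrix (Module.finBasisOfFinrankEq F W hW) B₂).det := ⟨_, rfl⟩
  rw [← hD₁] at d1 hsq
  rw [← hD₂] at d2 hsq
  apply hm₁
  refine Cfsg.Agent.Lib.Helper25.DiscType.exists_isotropic_of_isSquare h2
    (Module.finBasisOfFinrankEq F U hU) B₁ hS₁ h₁ k hU ?_
  rw [← hD₁]
  have hne : ((-1 : F) ^ (k * l) * D₁ ^ l * D₂ ^ k) ≠ 0 :=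
    mul_ne_zero (mul_ne_zero (pow_ne_zero _ (neg_ne_zero.mpr one_ne_zero)) (pow_ne_zero _ d1)) (pow_ne_zero _ d2)
  refine Cfsg.Agent.Lib.Helper25.DiscType.isSquare_mul_sq hne ?_
  have he : (-1 : F) ^ k * D₁ * ((-1 : F) ^ (k * l) * D₁ ^ l * D₂ ^ k * ((-1 : F) ^ (k * l) * D₁ ^ l * D₂ ^ k))
      = (-1) ^ (k * (2 * l + 1)) * (D₁ ^ (2 * l + 1) * D₂ ^ (2 * k)) := by
    ring
  rw [he]
  exact hsq

end Cfsg.Agent.S0835
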