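import Cfsg.Statements.S0836
import Mathlib
-- import your own Cfsg.Agent.* helpers here

set_option autoImplicit false
open Cfsg

namespace Cfsg.Agent.S0836

open Matrix
open scoped commutatorElement

/-- In a group, `⁅a, b⁆ = t` as soon as `a * b = t * b * a`. -/
theorem comm_eq_of_mul_eq {G : Type*} [Group G] (a b t : G) (h : a * b = t * b * a) :
    ⁅a, b⁆ = t := by
  rw [commutatorElement_def, h]; group

/-- The key matrix identity for `n ≥ 3`. -/
theorem transvection_identity {F : Type*} [Field F] {n : ℕ} (i j k : Fin n) (hij : i ≠ j)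
    (_hik : i ≠ k) (hjk : j ≠ k) (c : F) :
    Matrix.transvection i k c * Matrix.transvection k j (1 : F) =
      Matrix.transvection i j c * Matrix.transvection k j (1 : F) * Matrix.transvection i k c := by
  unfold Matrix.transvection
  simp only [Matrix.add_mul, Matrix.mul_add, Matrix.one_mul,
    Matrix.single_mul_single_same, Matrix.single_mul_single_of_ne _ _ _ _ hij.symm,
    Matrix.single_mul_single_of_ne _ _ _ _ hjk, mul_one, add_zero]
  abel

/-- The key matrix identity for `n = 2`. -/
theorem diag_identity {F : Type*} [Field F] (i j : Fin 2) (hij : i ≠ j) (x b c : F) (hx : x ≠ 0)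
    (hb : b * (x ^ 2 - 1) = c) :
    Matrix.diagonal (fun a => if a = i then x else x⁻¹) * Matrix.transvection i j b =
      Matrix.transvection i j c * Matrix.transvection i j b *
        Matrix.diagonal (fun a => if a = i then x else x⁻¹) := by
  have hc : b * x = (c + b) * x⁻¹ := by
    rw [← hb]; field_simp; ring
  rw [Matrix.transvection_mul_transvection_same i j hij]
  unfold Matrix.transvection
  rw [Matrix.mul_add, Matrix.add_mul, Matrix.mul_one, Matrix.one_mul]
  congr 1
  ext a d
  simp only [Matrix.diagonal_mul, Matrix.mul_diagonal, Matrix.single_apply]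
  by_cases h1 : i = a <;> by_cases h2 : j = d
  · subst h1 h2
    simp [hij.symm]
    rw [mul_comm x b]; exact hc
  · simp [h1, h2]
  · simp [h1, h2]
  · simp [h1, h2]

theorem det_diag {F : Type*} [Field F] (i j : Fin 2) (hij : i ≠ j) (x : F) (hx : x ≠ 0) :
    (Matrix.diagonal (fun a : Fin 2 => if a = i then x else x⁻¹)).det = 1 := by
  rw [Matrix.det_diagonal, Fin.prod_univ_two]
  fin_cases i <;> fin_cases j <;> simp_all

/-- For i ≠ j and any scalar c, the elementary transvection 1 + c E_ij is a commutator ⁅g, h⁆ of two elements of SL_n(F) provided n ≥ 3, or n = 2 and F contains x ≠ 0 with x² ≠ 1. -/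
theorem result {F : Type*} [Field F] (n : ℕ) (hn : 3 ≤ n ∨ (n = 2 ∧ ∃ x : F, x ≠ 0 ∧ x ^ 2 ≠ 1)) (i j : Fin n) (hij : i ≠ j) (c : F) (t : Matrix.SpecialLinearGroup (Fin n) F) (ht : (t : Matrix (Fin n) (Fin n) F) = Matrix.transvection i j c) : t ∈ commutatorSet (Matrix.SpecialLinearGroup (Fin n) F) := by
  rcases hn with hn | ⟨rfl, x, hx0, hx2⟩
  · -- pick k distinct from i and j
    have hex : ∃ k : Fin n, k ≠ i ∧ k ≠ j := by
      by_contra hcon
      push Not at hcon
      have hsub : (Finset.univ : Finset (Fin n)) ⊆ {i, j} := by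
        intro k _
        by_cases hk : k = i
        · simp [hk]
        · simp [hcon k hk]
      have := Finset.card_le_card hsub
      rw [Finset.card_univ, Fintype.card_fin] at this
      have h2 : ({i, j} : Finset (Fin n)).card ≤ 2 := Finset.card_le_two
      omega
    obtain ⟨k, hki, hkj⟩ := hex
    let g₁ : Matrix.SpecialLinearGroup (Fin n) F :=
      ⟨Matrix.transvection i k c, Matrix.det_transvection_of_ne i k hki.symm c⟩
    let g₂ : Matrix.SpecialLinearGroup (Fin n) F :=
      ⟨Matrix.transvection k j 1, Matrix.det_transvection_of_ne k j hkj 1⟩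
    refine ⟨g₁, g₂, comm_eq_of_mul_eq _ _ _ ?_⟩
    apply Subtype.ext
    simp only [Matrix.SpecialLinearGroup.coe_mul, ht]
    exact transvection_identity i j k hij hki.symm hkj.symm c
  · have hne : x ^ 2 - 1 ≠ 0 := sub_ne_zero.mpr hx2
    let b : F := c / (x ^ 2 - 1)
    have hb : b * (x ^ 2 - 1) = c := by
      simp only [b]; field_simp
    let g₁ : Matrix.SpecialLinearGroup (Fin 2) F :=
      ⟨Matrix.diagonal (fun a => if a = i then x else x⁻¹), det_diag i j hij x hx0⟩
    let g₂ : Matrix.SpecialLinearGroup (Fin 2) F :=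
      ⟨Matrix.transvection i j b, Matrix.det_transvection_of_ne i j hij b⟩
    refine ⟨g₁, g₂, comm_eq_of_mul_eq _ _ _ ?_⟩
    apply Subtype.ext
    simp only [Matrix.SpecialLinearGroup.coe_mul, ht]
    exact diag_identity i j hij x b c hx0 hb

end Cfsg.Agent.S0836
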