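import Cfsg.Statements.S2164
import Mathlib
import Cfsg.Agent.Lib.Helper5.HermBridge
import Cfsg.Agent.Lib.Helper5.UEichler
import Cfsg.Agent.Lib.Helper14.Unitary2
import Cfsg.Agent.Lib.Helper25.SqZero
import Cfsg.Agent.S0751
import Cfsg.Agent.S2644

set_option autoImplicit false
open Cfsg

namespace Cfsg.Agent.S2164

section Aux
set_option linter.unusedSectionVars false
set_option linter.unusedVariables false
set_option linter.unusedSimpArgs false
namespace S2164aux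
open Cfsg Matrix Cfsg.Agent.Lib.Helper14 Cfsg.Agent.Lib.Helper5.SpMax
  Cfsg.Agent.Lib.Helper5.UForm Cfsg.Agent.Lib.Helper5.UEichler
  Cfsg.Agent.Lib.Helper5.HermBridge Cfsg.Agent.S2644.S2644aux

variable {F : Type*} [Field F] [Fintype F] {q n : ℕ}

/-- self-adjoint square-zero matrices -/
def Good (q : ℕ) (N : Matrix (Fin n) (Fin n) F) : Prop :=
  (∀ x, N *ᵥ (N *ᵥ x) = 0) ∧
    ∀ x y, Cfsg.hermForm n F q (N *ᵥ x) y = Cfsg.hermForm n F q x (N *ᵥ y)

lemma good_of_inv [CharP F 2] (hF : Fintype.card F = q ^ 2) (M : Matrix (Fin n) (Fin n) F)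
    (hiso : ∀ x y, Cfsg.hermForm n F q (M *ᵥ x) (M *ᵥ y) = Cfsg.hermForm n F q x y)
    (hMM : M * M = 1) : Good q (M - 1) := by
  have hf := herm_unitary (n := n) hF
  constructor
  · intro x
    rw [Matrix.mulVec_mulVec, Cfsg.Agent.Lib.Helper25.SqZero.sq_zero_of_sq_one M hMM,
      Matrix.zero_mulVec]
  · intro x y
    rw [Matrix.sub_mulVec, Matrix.sub_mulVec, Matrix.one_mulVec, Matrix.one_mulVec,
      u_sub_left hf, u_sub_right hf]
    have h1 : Cfsg.hermForm n F q (M *ᵥ x) y = Cfsg.hermForm n F q (M *ᵥ x) (M *ᵥ (M *ᵥ y)) := by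
      rw [Matrix.mulVec_mulVec, hMM, Matrix.one_mulVec]
    rw [h1, hiso]

lemma noniso (hF : Fintype.card F = q ^ 2) (N : Matrix (Fin n) (Fin n) F) (hN : Good q N)
    (hN0 : ∃ x, N *ᵥ x ≠ 0) : ∃ x, Cfsg.hermForm n F q (N *ᵥ x) x ≠ 0 := by
  have hf := herm_unitary (n := n) hF
  by_contra hcon
  push Not at hcon
  obtain ⟨x, hx⟩ := hN0
  obtain ⟨y, hy⟩ := (hf.nondegenerate (N *ᵥ x) hx).2
  obtain ⟨β, hβ⟩ : ∃ β, β = Cfsg.hermForm n F q (N *ᵥ x) y := ⟨_, rfl⟩
  rw [← hβ] at hy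
  have h2 : Cfsg.hermForm n F q (N *ᵥ y) x = frobQ hF β := by
    rw [hN.2 y x, hf.herm, hβ]
  have key : ∀ θ : F, θ * β + frobQ hF (θ * β) = 0 := by
    intro θ
    have h1 := hcon (θ • x + y)
    rw [Matrix.mulVec_add, Matrix.mulVec_smul, hf.add_left, u_add_right hf, u_add_right hf,
      hf.smul_left, hf.smul_left, u_smul_right hf, u_smul_right hf, hcon x, hcon y, ← hβ, h2] at h1
    rw [map_mul]
    linear_combination h1
  obtain ⟨θ₀, hθ₀⟩ := exists_tr_ne hf.involutive hf.ne_refl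
  have h3 := key (θ₀ / β)
  rw [div_mul_cancel₀ _ hy] at h3
  exact hθ₀ h3

lemma structure_lemma [CharP F 2] (hF : Fintype.card F = q ^ 2) :
    ∀ (r : ℕ) (N : Matrix (Fin n) (Fin n) F), Good q N → N.rank = r →
    ∃ e : Fin r → (Fin n → F), (∀ i, ∃ z, e i = N *ᵥ z) ∧
      ∀ x, N *ᵥ x = ∑ i, Cfsg.hermForm n F q x (e i) • e i := by
  intro r
  induction r with
  | zero =>
    intro N hN hr
    have h1 : LinearMap.range (Matrix.toLin' N) = ⊥ := Submodule.finrank_eq_zero.mp hr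
    refine ⟨Fin.elim0, fun i => i.elim0, fun x => ?_⟩
    have h2 : Matrix.toLin' N x ∈ LinearMap.range (Matrix.toLin' N) :=
      LinearMap.mem_range_self _ x
    rw [h1, Submodule.mem_bot, Matrix.toLin'_apply] at h2
    rw [h2]
    simp
  | succ r ih =>
    intro N hN hr
    have hf := herm_unitary (n := n) hF
    have hvv : ∀ v : Fin n → F, v + v = 0 := fun v => by
      funext i
      exact CharTwo.add_self_eq_zero (v i)
    have hN0 : ∃ x, N *ᵥ x ≠ 0 := by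
      by_contra hcon
      push Not at hcon
      have h0 : N = 0 := mat_eq_of_mulVec (fun v => by rw [hcon, Matrix.zero_mulVec])
      rw [h0, Matrix.rank_zero] at hr
      omega
    obtain ⟨x₀, hx₀⟩ := noniso hF N hN hN0
    obtain ⟨x₁, hx₁⟩ : ∃ x₁, Cfsg.hermForm n F q (N *ᵥ x₁) x₁ = 1 := by
      have hν : frobQ hF (Cfsg.hermForm n F q (N *ᵥ x₀) x₀) = Cfsg.hermForm n F q (N *ᵥ x₀) x₀ := by
        rw [← hf.herm, ← hN.2]
      obtain ⟨ζ, hζ⟩ := norm_surj hf.involutive hf.ne_refl (Cfsg.hermForm n F q (N *ᵥ x₀) x₀)⁻¹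
        (inv_ne_zero hx₀) (by rw [map_inv₀, hν])
      refine ⟨ζ • x₀, ?_⟩
      rw [Matrix.mulVec_smul, hf.smul_left, u_smul_right hf]
      have h1 : ζ * frobQ hF ζ * Cfsg.hermForm n F q (N *ᵥ x₀) x₀ = 1 := by
        rw [hζ]; exact inv_mul_cancel₀ hx₀
      linear_combination h1
    obtain ⟨e₀, he₀⟩ : ∃ e₀, e₀ = N *ᵥ x₁ := ⟨_, rfl⟩
    obtain ⟨N₁, hN₁def⟩ : ∃ N₁, N₁ = N + (Cfsg.unitaryTransvection n q e₀ 1 - 1) := ⟨_, rfl⟩
    have hN₁x : ∀ x, N₁ *ᵥ x = N *ᵥ x + Cfsg.hermForm n F q x e₀ • e₀ := by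
      intro x
      rw [hN₁def, Matrix.add_mulVec, Matrix.sub_mulVec, ut_mulVec, Matrix.one_mulVec, one_mul]
      abel
    have hNe₀ : N *ᵥ e₀ = 0 := by rw [he₀]; exact hN.1 x₁
    have he₀N : ∀ x, Cfsg.hermForm n F q (N *ᵥ x) e₀ = 0 := by
      intro x
      rw [hN.2, hNe₀, u_zero_right hf]
    have he₀e₀ : Cfsg.hermForm n F q e₀ e₀ = 0 := by
      have h1 := he₀N x₁
      rwa [← he₀] at h1
    have he₀x₁ : Cfsg.hermForm n F q e₀ x₁ = 1 := by rw [he₀]; exact hx₁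
    have hx₁e₀ : Cfsg.hermForm n F q x₁ e₀ = 1 := by rw [hf.herm, he₀x₁, map_one]
    have hN₁x₁ : N₁ *ᵥ x₁ = 0 := by
      rw [hN₁x, ← he₀, hx₁e₀, one_smul]
      exact hvv e₀
    have hGood₁ : Good q N₁ := by
      constructor
      · intro x
        rw [hN₁x x, hN₁x, Matrix.mulVec_add, Matrix.mulVec_smul, hN.1, hNe₀, smul_zero, add_zero,
          hf.add_left, hf.smul_left, he₀N, he₀e₀, mul_zero, add_zero, zero_smul, add_zero]
      · intro x y
        rw [hN₁x, hN₁x, hf.add_left, u_add_right hf, hf.smul_left, u_smul_right hf, hN.2 x y,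
          hf.herm e₀ y]
        ring
    have hrange_le : LinearMap.range (Matrix.toLin' N₁) ≤ LinearMap.range (Matrix.toLin' N) := by
      rintro _ ⟨x, rfl⟩
      refine ⟨x + Cfsg.hermForm n F q x e₀ • x₁, ?_⟩
      rw [Matrix.toLin'_apply, Matrix.toLin'_apply, hN₁x, Matrix.mulVec_add, Matrix.mulVec_smul,
        he₀]
    have he₀_notin : e₀ ∉ LinearMap.range (Matrix.toLin' N₁) := by
      rintro ⟨z, hz⟩
      rw [Matrix.toLin'_apply] at hz
      have h1 : Cfsg.hermForm n F q e₀ x₁ = 0 := by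
        rw [← hz, hGood₁.2, hN₁x₁, u_zero_right hf]
      rw [he₀x₁] at h1
      exact one_ne_zero h1
    have he₀_in : e₀ ∈ LinearMap.range (Matrix.toLin' N) :=
      ⟨x₁, by rw [Matrix.toLin'_apply, he₀]⟩
    have hlt : LinearMap.range (Matrix.toLin' N₁) < LinearMap.range (Matrix.toLin' N) :=
      lt_of_le_of_ne hrange_le (fun h => he₀_notin (h ▸ he₀_in))
    have hr1 : N₁.rank < N.rank := Submodule.finrank_lt_finrank_of_lt hlt
    have he₀ne : e₀ ≠ 0 := by
      intro h0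
      rw [h0, u_zero_left hf] at he₀x₁
      exact zero_ne_one he₀x₁
    have hr2 : N.rank ≤ N₁.rank + 1 := by
      have h1 : LinearMap.range (Matrix.toLin' N) ≤
          LinearMap.range (Matrix.toLin' N₁) ⊔ Submodule.span F {e₀} := by
        rintro _ ⟨x, rfl⟩
        rw [Matrix.toLin'_apply]
        have h0 : N *ᵥ x = N₁ *ᵥ x + (-(Cfsg.hermForm n F q x e₀)) • e₀ := by
          rw [hN₁x, neg_smul]
          abel
        rw [h0]
        exact Submodule.add_mem_sup ⟨x, Matrix.toLin'_apply _ _⟩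
          (Submodule.smul_mem _ _ (Submodule.mem_span_singleton_self e₀))
      have h2 := Submodule.finrank_mono h1
      have h3 := Submodule.finrank_add_le_finrank_add_finrank
        (LinearMap.range (Matrix.toLin' N₁)) (Submodule.span F {e₀})
      have h4 : Module.finrank F (Submodule.span F {e₀}) = 1 := finrank_span_singleton he₀ne
      have h5 : N.rank = Module.finrank F (LinearMap.range (Matrix.toLin' N)) := rfl
      have h6 : N₁.rank = Module.finrank F (LinearMap.range (Matrix.toLin' N₁)) := rfl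
      omega
    obtain ⟨e', he'1, he'2⟩ := ih N₁ hGood₁ (by omega)
    refine ⟨Fin.cons e₀ e', ?_, ?_⟩
    · intro i
      refine Fin.cases ?_ (fun i => ?_) i
      · exact ⟨x₁, by rw [Fin.cons_zero, he₀]⟩
      · obtain ⟨z, hz⟩ := he'1 i
        refine ⟨z + Cfsg.hermForm n F q z e₀ • x₁, ?_⟩
        rw [Fin.cons_succ, hz, hN₁x, Matrix.mulVec_add, Matrix.mulVec_smul, he₀]
    · intro x
      rw [Fin.sum_univ_succ]
      simp only [Fin.cons_zero, Fin.cons_succ]
      rw [← he'2 x, hN₁x, add_comm (N *ᵥ x) _, ← add_assoc, hvv, zero_add]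

lemma tuple_props (hF : Fintype.card F = q ^ 2) (N : Matrix (Fin n) (Fin n) F) (hN : Good q N)
    {r : ℕ} (hr : N.rank = r) (e : Fin r → (Fin n → F)) (he1 : ∀ i, ∃ z, e i = N *ᵥ z)
    (he2 : ∀ x, N *ᵥ x = ∑ i, Cfsg.hermForm n F q x (e i) • e i) :
    LinearIndependent F e ∧ ∀ i j, Cfsg.hermForm n F q (e i) (e j) = 0 := by
  have hf := herm_unitary (n := n) hF
  constructor
  · rw [linearIndependent_iff_card_eq_finrank_span, Fintype.card_fin]
    have h1 : Submodule.span F (Set.range e) = LinearMap.range (Matrix.toLin' N) := by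
      apply le_antisymm
      · rw [Submodule.span_le]
        rintro _ ⟨i, rfl⟩
        obtain ⟨z, hz⟩ := he1 i
        exact ⟨z, by rw [Matrix.toLin'_apply, hz]⟩
      · rintro _ ⟨x, rfl⟩
        rw [Matrix.toLin'_apply, he2]
        exact Submodule.sum_mem _ fun i _ =>
          Submodule.smul_mem _ _ (Submodule.subset_span ⟨i, rfl⟩)
    rw [Set.finrank, h1]
    exact hr.symm
  · intro i j
    obtain ⟨zi, hzi⟩ := he1 i
    obtain ⟨zj, hzj⟩ := he1 j
    rw [hzi, hzj, hN.2, hN.1, u_zero_right hf]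

lemma Bh_props (hF : Fintype.card F = q ^ 2) :
    (frobQ hF : F →+* F) ≠ RingHom.id F ∧
    (∀ a : F, (frobQ hF : F →+* F) ((frobQ hF : F →+* F) a) = a) ∧
    (Bh (n := n) hF).IsSymm ∧ (Bh (n := n) hF).Nondegenerate := by
  have hf := herm_unitary (n := n) hF
  refine ⟨?_, hf.involutive, ⟨fun x y => by
    rw [Bh_apply, Bh_apply]; exact (hf.herm x y).symm⟩, ?_⟩
  · intro h
    apply hf.ne_refl
    ext x
    exact congrArg (fun φ : F →+* F => φ x) h
  · constructor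
    · intro x hx
      by_contra hx0
      obtain ⟨y, hy⟩ := (hf.nondegenerate x hx0).1
      exact hy (hx y)
    · intro y hy
      by_contra hy0
      obtain ⟨x, hx⟩ := (hf.nondegenerate y hy0).2
      exact hx (hy x)

lemma exists_isom_tuple (hF : Fintype.card F = q ^ 2) {r : ℕ} {e e' : Fin r → (Fin n → F)}
    (he : LinearIndependent F e) (he' : LinearIndependent F e')
    (hG : ∀ i j, Cfsg.hermForm n F q (e i) (e j) = 0)
    (hG' : ∀ i j, Cfsg.hermForm n F q (e' i) (e' j) = 0) :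
    ∃ M : Matrix (Fin n) (Fin n) F, M.det ≠ 0 ∧
      (∀ x y, Cfsg.hermForm n F q (M *ᵥ x) (M *ᵥ y) = Cfsg.hermForm n F q x y) ∧
      ∀ i, M *ᵥ e i = e' i := by
  classical
  obtain ⟨hσ, hσ2, hS, hB⟩ := Bh_props (n := n) hF
  have hle : r ≤ n := by
    have h1 := he.fintype_card_le_finrank
    rwa [Fintype.card_fin, Module.finrank_fin_fun] at h1
  obtain ⟨g, hg1, hg2⟩ := Cfsg.Agent.S0751.S0751aux.witt_tuple (Bh hF) hσ hσ2 hS hB (n - r) r
    e e' he he' (fun i j => by rw [Bh_apply, Bh_apply, hG, hG'])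
    (by rw [Module.finrank_fin_fun]; omega)
  have hMv : ∀ x, LinearMap.toMatrix' (g : (Fin n → F) →ₗ[F] (Fin n → F)) *ᵥ x = g x :=
    fun x => by
      rw [← Matrix.toLin'_apply, Matrix.toLin'_toMatrix']
      rfl
  refine ⟨LinearMap.toMatrix' (g : (Fin n → F) →ₗ[F] (Fin n → F)), ?_, ?_, ?_⟩
  · have h1 : LinearMap.toMatrix' (g : (Fin n → F) →ₗ[F] (Fin n → F)) *
        LinearMap.toMatrix' (g.symm : (Fin n → F) →ₗ[F] (Fin n → F)) = 1 := by
      rw [← LinearMap.toMatrix'_comp]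
      simp
    intro h0
    have h2 := congrArg Matrix.det h1
    rw [Matrix.det_mul, h0, zero_mul, Matrix.det_one] at h2
    exact zero_ne_one h2
  · intro x y
    rw [hMv, hMv]
    have h1 := hg1 y x
    rwa [Bh_apply, Bh_apply] at h1
  · intro i
    rw [hMv]
    exact hg2 i

lemma exists_D [CharP F 2] (hF : Fintype.card F = q ^ 2) {r : ℕ} {e : Fin (r + 1) → (Fin n → F)}
    (he : LinearIndependent F e) (hG : ∀ i j, Cfsg.hermForm n F q (e i) (e j) = 0)
    (μ : F) (hμ : μ * frobQ hF μ = 1) :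
    ∃ D : Matrix (Fin n) (Fin n) F, D.det = μ * μ ∧
      (∀ x y, Cfsg.hermForm n F q (D *ᵥ x) (D *ᵥ y) = Cfsg.hermForm n F q x y) ∧
      D *ᵥ e 0 = μ • e 0 ∧ ∀ i : Fin r, D *ᵥ e i.succ = e i.succ := by
  classical
  have hf := herm_unitary (n := n) hF
  obtain ⟨hσ, hσ2, hS, hB⟩ := Bh_props (n := n) hF
  have h2 : (2 : F) = 0 := CharTwo.two_eq_zero
  obtain ⟨w₀, hw₀⟩ := Cfsg.Agent.S0751.S0751aux.exists_prescribed (Bh hF) hB he
    (Pi.single 0 1 : Fin (r + 1) → F)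
  have hw₀' : ∀ a, Cfsg.hermForm n F q (e a) w₀ = (Pi.single 0 1 : Fin (r + 1) → F) a := by
    intro a
    have h1 := hw₀ a
    rwa [Bh_apply] at h1
  obtain ⟨d, hd⟩ := tr_surj hf.involutive hf.ne_refl (Cfsg.hermForm n F q w₀ w₀)
    (u_self_fixed hf w₀)
  obtain ⟨w, hwdef⟩ : ∃ w, w = w₀ + d • e 0 := ⟨_, rfl⟩
  have he0w₀ : Cfsg.hermForm n F q (e 0) w₀ = 1 := by rw [hw₀', Pi.single_eq_same]
  have hw₀e0 : Cfsg.hermForm n F q w₀ (e 0) = 1 := by rw [hf.herm, he0w₀, map_one]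
  have hww : Cfsg.hermForm n F q w w = 0 := by
    rw [hwdef, u_expand hf, hG, he0w₀, hw₀e0]
    linear_combination hd + (Cfsg.hermForm n F q w₀ w₀) * h2
  have hew : ∀ a, Cfsg.hermForm n F q (e a) w = (Pi.single 0 1 : Fin (r + 1) → F) a := by
    intro a
    rw [hwdef, u_add_right hf, u_smul_right hf, hG, mul_zero, add_zero, hw₀']
  have he0w : Cfsg.hermForm n F q (e 0) w = 1 := by rw [hew, Pi.single_eq_same]
  have hwe0 : Cfsg.hermForm n F q w (e 0) = 1 := by rw [hf.herm, he0w, map_one]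
  have hesw : ∀ i : Fin r, Cfsg.hermForm n F q (e i.succ) w = 0 := by
    intro i
    rw [hew, Pi.single_eq_of_ne (Fin.succ_ne_zero i)]
  obtain ⟨l, hl⟩ := tr_surj hf.involutive hf.ne_refl (1 : F) (map_one _)
  obtain ⟨d₁, hd₁def⟩ : ∃ d₁, d₁ = e 0 + l • w := ⟨_, rfl⟩
  obtain ⟨d₂, hd₂def⟩ : ∃ d₂, d₂ = e 0 + frobQ hF l • w := ⟨_, rfl⟩
  have hd₁d₁ : Cfsg.hermForm n F q d₁ d₁ = 1 := by
    rw [hd₁def, u_expand hf, hG, he0w, hwe0, hww]
    linear_combination hl
  have hd₂d₂ : Cfsg.hermForm n F q d₂ d₂ = 1 := by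
    rw [hd₂def, u_expand hf, hG, he0w, hwe0, hww, hf.involutive]
    linear_combination hl
  have he0d₁ : Cfsg.hermForm n F q (e 0) d₁ = frobQ hF l := by
    rw [hd₁def, u_add_right hf, u_smul_right hf, hG, he0w]
    ring
  have he0d₂ : Cfsg.hermForm n F q (e 0) d₂ = l := by
    rw [hd₂def, u_add_right hf, u_smul_right hf, hG, he0w, hf.involutive]
    ring
  have hd₂d₁ : Cfsg.hermForm n F q d₂ d₁ = 0 := by
    rw [hd₂def, hf.add_left, hf.smul_left, he0d₁, hd₁def, u_add_right hf, u_smul_right hf, hwe0,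
      hww]
    linear_combination (frobQ hF l) * h2
  have hesd₁ : ∀ i : Fin r, Cfsg.hermForm n F q (e i.succ) d₁ = 0 := by
    intro i
    rw [hd₁def, u_add_right hf, u_smul_right hf, hG, hesw, mul_zero, add_zero]
  have hesd₂ : ∀ i : Fin r, Cfsg.hermForm n F q (e i.succ) d₂ = 0 := by
    intro i
    rw [hd₂def, u_add_right hf, u_smul_right hf, hG, hesw, mul_zero, add_zero]
  refine ⟨Cfsg.unitaryTransvection n q d₁ (μ - 1) * Cfsg.unitaryTransvection n q d₂ (μ - 1),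
    ?_, ?_, ?_, ?_⟩
  · rw [Matrix.det_mul, qr_det, qr_det, hd₁d₁, hd₂d₂]
    ring
  · intro x y
    rw [← Matrix.mulVec_mulVec, ← Matrix.mulVec_mulVec, qr_iso hF d₁ μ hd₁d₁ hμ,
      qr_iso hF d₂ μ hd₂d₂ hμ]
  · have hin : Cfsg.unitaryTransvection n q d₂ (μ - 1) *ᵥ e 0 = e 0 + ((μ - 1) * l) • d₂ := by
      rw [ut_mulVec, he0d₂]
    rw [← Matrix.mulVec_mulVec, hin, ut_mulVec, hf.add_left, hf.smul_left, he0d₁,
      hd₂d₁, mul_zero, add_zero, hd₁def, hd₂def]
    have hl' : frobQ hF l = 1 - l := by linear_combination hl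
    rw [hl']
    have h3 : e 0 + ((μ - 1) * l) • (e 0 + (1 - l) • w) + ((μ - 1) * (1 - l)) • (e 0 + l • w)
        = (1 + (μ - 1) * l + (μ - 1) * (1 - l)) • e 0
          + ((μ - 1) * l * (1 - l) + (μ - 1) * (1 - l) * l) • w := by module
    rw [h3]
    have h4 : (μ - 1) * l * (1 - l) + (μ - 1) * (1 - l) * l = 0 := by
      linear_combination ((μ - 1) * l * (1 - l)) * h2
    have h5 : 1 + (μ - 1) * l + (μ - 1) * (1 - l) = μ := by ring
    rw [h4, h5, zero_smul, add_zero]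
  · intro i
    have hin : Cfsg.unitaryTransvection n q d₂ (μ - 1) *ᵥ e i.succ = e i.succ := by
      rw [ut_mulVec, hesd₂, mul_zero, zero_smul, add_zero]
    rw [← Matrix.mulVec_mulVec, hin, ut_mulVec, hesd₁, mul_zero, zero_smul, add_zero]

theorem conj_of_rank [CharP F 2] (hF : Fintype.card F = q ^ 2) (a b : ↥(Cfsg.SU n F q))
    (ha : orderOf a = 2) (hb : orderOf b = 2)
    (hrk : (((a : Matrix.SpecialLinearGroup (Fin n) F) : Matrix (Fin n) (Fin n) F) - 1).rank =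
      (((b : Matrix.SpecialLinearGroup (Fin n) F) : Matrix (Fin n) (Fin n) F) - 1).rank) :
    IsConj a b := by
  classical
  have hf := herm_unitary (n := n) hF
  have h2 : (2 : F) = 0 := CharTwo.two_eq_zero
  have hsq : ∀ x : ↥(Cfsg.SU n F q), orderOf x = 2 →
      ((x : Matrix.SpecialLinearGroup (Fin n) F) : Matrix (Fin n) (Fin n) F) *
        ((x : Matrix.SpecialLinearGroup (Fin n) F) : Matrix (Fin n) (Fin n) F) = 1 := by
    intro x hx
    have h1 : x ^ 2 = 1 := by rw [← hx]; exact pow_orderOf_eq_one x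
    rw [pow_two] at h1
    have h3 := congrArg (fun y : ↥(Cfsg.SU n F q) =>
      ((y : Matrix.SpecialLinearGroup (Fin n) F) : Matrix (Fin n) (Fin n) F)) h1
    simpa using h3
  obtain ⟨A, hAdef⟩ : ∃ A, A = ((a : Matrix.SpecialLinearGroup (Fin n) F) :
    Matrix (Fin n) (Fin n) F) := ⟨_, rfl⟩
  obtain ⟨B, hBdef⟩ : ∃ B, B = ((b : Matrix.SpecialLinearGroup (Fin n) F) :
    Matrix (Fin n) (Fin n) F) := ⟨_, rfl⟩
  rw [← hAdef, ← hBdef] at hrk
  have hAiso : ∀ x y, Cfsg.hermForm n F q (A *ᵥ x) (A *ᵥ y) = Cfsg.hermForm n F q x y := by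
    rw [hAdef]; exact a.2
  have hBiso : ∀ x y, Cfsg.hermForm n F q (B *ᵥ x) (B *ᵥ y) = Cfsg.hermForm n F q x y := by
    rw [hBdef]; exact b.2
  have hAA : A * A = 1 := by rw [hAdef]; exact hsq a ha
  have hBB : B * B = 1 := by rw [hBdef]; exact hsq b hb
  have hGA := good_of_inv hF A hAiso hAA
  have hGB := good_of_inv hF B hBiso hBB
  obtain ⟨r, hr⟩ : ∃ r, (A - 1).rank = r := ⟨_, rfl⟩
  have hr' : (B - 1).rank = r := by rw [← hrk, hr]
  obtain ⟨e, he1, he2⟩ := structure_lemma hF r (A - 1) hGA hr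
  obtain ⟨e', he'1, he'2⟩ := structure_lemma hF r (B - 1) hGB hr'
  obtain ⟨heli, heG⟩ := tuple_props hF (A - 1) hGA hr e he1 he2
  obtain ⟨he'li, he'G⟩ := tuple_props hF (B - 1) hGB hr' e' he'1 he'2
  have hAx : ∀ x, A *ᵥ x = x + ∑ i, Cfsg.hermForm n F q x (e i) • e i := by
    intro x
    rw [← he2 x, Matrix.sub_mulVec, Matrix.one_mulVec]
    abel
  have hBx : ∀ x, B *ᵥ x = x + ∑ i, Cfsg.hermForm n F q x (e' i) • e' i := by
    intro x
    rw [← he'2 x, Matrix.sub_mulVec, Matrix.one_mulVec]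
    abel
  -- r ≥ 1
  rcases Nat.eq_zero_or_pos r with hr0 | hr0
  · exfalso
    subst hr0
    have h1 : A = 1 := by
      apply mat_eq_of_mulVec
      intro x
      rw [hAx, Matrix.one_mulVec]
      simp
    have h3 : a = 1 := by
      apply Subtype.ext
      apply Subtype.ext
      rw [← hAdef, h1]
      rfl
    rw [h3, orderOf_one] at ha
    omega
  obtain ⟨r', rfl⟩ : ∃ r', r = r' + 1 := ⟨r - 1, by omega⟩
  obtain ⟨M₀, hM₀det, hM₀iso, hM₀e⟩ := exists_isom_tuple hF heli he'li heG he'G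
  have hδ := det_norm hF M₀ hM₀det hM₀iso
  -- q even
  have hqeven : 2 ∣ q := by
    have h1 : ((Fintype.card F : ℕ) : F) = 0 := FiniteField.cast_card_eq_zero F
    have h3 : 2 ∣ Fintype.card F := (CharP.cast_eq_zero_iff F 2 _).mp h1
    rw [hF] at h3
    exact Nat.Prime.dvd_of_dvd_pow Nat.prime_two h3
  obtain ⟨j, hj⟩ := hqeven
  obtain ⟨δ, hδdef⟩ : ∃ δ, δ = M₀.det := ⟨_, rfl⟩
  rw [← hδdef] at hδ
  have hδ0 : δ ≠ 0 := by rw [hδdef]; exact hM₀det
  have hδN : δ ^ (q + 1) = 1 := by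
    rw [pow_succ, mul_comm]
    rw [frobQ_apply] at hδ
    exact hδ
  obtain ⟨μ, hμdef⟩ : ∃ μ, μ = (δ⁻¹) ^ (j + 1) := ⟨_, rfl⟩
  have hμN : μ * frobQ hF μ = 1 := by
    rw [frobQ_apply, ← pow_succ', hμdef, ← pow_mul, inv_pow, mul_comm, pow_mul, hδN, one_pow,
      inv_one]
  have hμμ : μ * μ = δ⁻¹ := by
    rw [hμdef, ← pow_add, inv_pow]
    have h1 : j + 1 + (j + 1) = (q + 1) + 1 := by omega
    rw [h1, pow_succ, hδN, one_mul]
  obtain ⟨D, hDdet, hDiso, hD0, hDs⟩ := exists_D hF heli heG μ hμN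
  obtain ⟨Gm, hGmdef⟩ : ∃ Gm, Gm = M₀ * D := ⟨_, rfl⟩
  have hGdet : Gm.det = 1 := by
    rw [hGmdef, Matrix.det_mul, hDdet, hμμ, ← hδdef]
    exact mul_inv_cancel₀ hδ0
  have hGiso : ∀ x y, Cfsg.hermForm n F q (Gm *ᵥ x) (Gm *ᵥ y) = Cfsg.hermForm n F q x y := by
    intro x y
    rw [hGmdef, ← Matrix.mulVec_mulVec, ← Matrix.mulVec_mulVec, hM₀iso, hDiso]
  have hG0 : Gm *ᵥ e 0 = μ • e' 0 := by
    rw [hGmdef, ← Matrix.mulVec_mulVec, hD0, Matrix.mulVec_smul, hM₀e]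
  have hGs : ∀ i : Fin r', Gm *ᵥ e i.succ = e' i.succ := by
    intro i
    rw [hGmdef, ← Matrix.mulVec_mulVec, hDs, hM₀e]
  have hμ0 : μ ≠ 0 := by
    intro h0
    rw [h0, zero_mul] at hμN
    exact zero_ne_one hμN
  obtain ⟨G, hG⟩ := mkSU (q := q) Gm hGdet hGiso
  rw [isConj_iff]
  refine ⟨G, ?_⟩
  rw [mul_inv_eq_iff_eq_mul]
  apply Subtype.ext
  apply Subtype.ext
  simp only [Subgroup.coe_mul, Matrix.SpecialLinearGroup.coe_mul]
  rw [hG, ← hAdef, ← hBdef]
  apply mat_eq_of_mulVec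
  intro x
  rw [← Matrix.mulVec_mulVec, ← Matrix.mulVec_mulVec, hAx, hBx, Matrix.mulVec_add,
    Matrix.mulVec_sum, Fin.sum_univ_succ, Fin.sum_univ_succ]
  congr 1
  have h0 : Cfsg.hermForm n F q (Gm *ᵥ x) (e' 0) = μ * Cfsg.hermForm n F q x (e 0) := by
    have h1 : e' 0 = μ⁻¹ • (Gm *ᵥ e 0) := by rw [hG0, smul_smul, inv_mul_cancel₀ hμ0, one_smul]
    rw [h1, u_smul_right hf, hGiso, map_inv₀]
    have h3 : (frobQ hF μ)⁻¹ = μ := by
      rw [inv_eq_iff_eq_inv]
      exact eq_inv_of_mul_eq_one_left (by rw [mul_comm]; exact hμN)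
    rw [h3]
  congr 1
  · rw [Matrix.mulVec_smul, hG0, h0, smul_smul, mul_comm]
  · apply Finset.sum_congr rfl
    intro i _
    rw [Matrix.mulVec_smul, hGs, ← hGs i, hGiso, hGs]

theorem main [CharP F 2] (hF : Fintype.card F = q ^ 2) (hn : 3 ≤ n) (a b : ↥(Cfsg.SU n F q))
    (ha : orderOf a = 2) (hb : orderOf b = 2) :
    (IsConj a b ↔ IsConj (a : Matrix.SpecialLinearGroup (Fin n) F)
      (b : Matrix.SpecialLinearGroup (Fin n) F)) ∧
    (IsConj a b ↔ (((a : Matrix.SpecialLinearGroup (Fin n) F) : Matrix (Fin n) (Fin n) F) - 1).rank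
      = (((b : Matrix.SpecialLinearGroup (Fin n) F) : Matrix (Fin n) (Fin n) F) - 1).rank) := by
  have ha' : orderOf (a : Matrix.SpecialLinearGroup (Fin n) F) = 2 := by
    rw [Subgroup.orderOf_coe]; exact ha
  have hb' : orderOf (b : Matrix.SpecialLinearGroup (Fin n) F) = 2 := by
    rw [Subgroup.orderOf_coe]; exact hb
  have hSL := Cfsg.Agent.Lib.Helper25.SqZero.isConj_iff_rank
    (a : Matrix.SpecialLinearGroup (Fin n) F) (b : Matrix.SpecialLinearGroup (Fin n) F) ha' hb'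
  have h1 : IsConj a b → IsConj (a : Matrix.SpecialLinearGroup (Fin n) F)
      (b : Matrix.SpecialLinearGroup (Fin n) F) := fun h =>
    (Cfsg.SU n F q).subtype.map_isConj h
  exact ⟨⟨h1, fun h => conj_of_rank hF a b ha hb (hSL.mp h)⟩,
    ⟨fun h => hSL.mp (h1 h), fun h => conj_of_rank hF a b ha hb h⟩⟩

end S2164aux
end Aux

/-- Conjugacy of involutions in the special unitary group SU_n(q), q even, n ≥ 3, realised over the field F with q² elements as the matrices of determinant 1 preserving the form Σ u_i v_i^q: for two elements of order 2 of SU_n(q) the following are equivalent — they are conjugate in SU_n(q); they are conjugate in SL_n(F); the matrices a − 1 and b − 1 have the same rank. -/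
theorem result {F : Type*} [Field F] [Fintype F] [CharP F 2] {n q : ℕ} (hF : Fintype.card F = q ^ 2) (hn : 3 ≤ n) (a b : ↥(Cfsg.SU n F q)) (ha : orderOf a = 2) (hb : orderOf b = 2) :
    (IsConj a b ↔ IsConj (a : Matrix.SpecialLinearGroup (Fin n) F) (b : Matrix.SpecialLinearGroup (Fin n) F)) ∧
    (IsConj a b ↔ (((a : Matrix.SpecialLinearGroup (Fin n) F) : Matrix (Fin n) (Fin n) F) - 1).rank = (((b : Matrix.SpecialLinearGroup (Fin n) F) : Matrix (Fin n) (Fin n) F) - 1).rank) := by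
  exact S2164aux.main hF hn a b ha hb

end Cfsg.Agent.S2164
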