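import Cfsg.Statements.S0837
import Mathlib
import Cfsg.Agent.Lib.Helper5.HermBridge
import Cfsg.Agent.Lib.Helper5.UEichler
import Cfsg.Agent.S0751
import Cfsg.Agent.S2644
import Cfsg.Agent.S2164

set_option autoImplicit false
open Cfsg

namespace Cfsg.Agent.S0837

section Aux
set_option linter.unusedSectionVars false
set_option linter.unusedVariables false
set_option linter.unusedSimpArgs false
namespace S0837aux
open Cfsg Matrix Cfsg.Agent.Lib.Helper14 Cfsg.Agent.Lib.Helper5.SpMax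
  Cfsg.Agent.Lib.Helper5.UForm Cfsg.Agent.Lib.Helper5.UEichler
  Cfsg.Agent.Lib.Helper5.HermBridge Cfsg.Agent.S2644.S2644aux Cfsg.Agent.S2164.S2164aux

section Blocks
variable {F : Type*} [Field F] {n k : ℕ} (hk : k ≤ n)

/-- `Fin k ⊕ Fin (n-k) ≃ Fin n` -/
def ek : Fin k ⊕ Fin (n - k) ≃ Fin n := finSumFinEquiv.trans (finCongr (by omega))

/-- block diagonal matrix -/
def blk (A : Matrix (Fin k) (Fin k) F) (B : Matrix (Fin (n - k)) (Fin (n - k)) F) :
    Matrix (Fin n) (Fin n) F :=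
  (Matrix.fromBlocks A 0 0 B).submatrix (ek hk).symm (ek hk).symm

lemma blk_mul (A A' : Matrix (Fin k) (Fin k) F) (B B' : Matrix (Fin (n - k)) (Fin (n - k)) F) :
    blk hk A B * blk hk A' B' = blk hk (A * A') (B * B') := by
  unfold blk
  rw [Matrix.submatrix_mul_equiv, Matrix.fromBlocks_multiply]
  simp

lemma blk_one : blk hk (1 : Matrix (Fin k) (Fin k) F) 1 = 1 := by
  unfold blk
  rw [Matrix.fromBlocks_one, Matrix.submatrix_one_equiv]

lemma blk_inj {A A' : Matrix (Fin k) (Fin k) F} {B B' : Matrix (Fin (n - k)) (Fin (n - k)) F}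
    (h : blk hk A B = blk hk A' B') : A = A' ∧ B = B' := by
  unfold blk at h
  have h2 : Matrix.fromBlocks A 0 0 B = Matrix.fromBlocks A' 0 0 B' := by
    ext x y
    have := congrFun (congrFun h (ek hk x)) (ek hk y)
    simpa [Matrix.submatrix_apply] using this
  rw [Matrix.fromBlocks_inj] at h2
  exact ⟨h2.1, h2.2.2.2⟩

lemma blk_mulVec (A : Matrix (Fin k) (Fin k) F) (B : Matrix (Fin (n - k)) (Fin (n - k)) F)
    (v : Fin n → F) (x : Fin k ⊕ Fin (n - k)) :
    (blk hk A B *ᵥ v) (ek hk x) = (Matrix.fromBlocks A 0 0 B *ᵥ (v ∘ ek hk)) x := by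
  unfold blk
  rw [Matrix.submatrix_mulVec_equiv]
  simp

lemma blk_mulVec_inl (A : Matrix (Fin k) (Fin k) F) (B : Matrix (Fin (n - k)) (Fin (n - k)) F)
    (v : Fin n → F) :
    ((blk hk A B *ᵥ v) ∘ ek hk) ∘ Sum.inl = A *ᵥ ((v ∘ ek hk) ∘ Sum.inl) := by
  funext i
  rw [Function.comp_apply, Function.comp_apply, blk_mulVec, Matrix.fromBlocks_mulVec, Sum.elim_inl,
    Matrix.zero_mulVec, add_zero]

lemma blk_mulVec_inr (A : Matrix (Fin k) (Fin k) F) (B : Matrix (Fin (n - k)) (Fin (n - k)) F)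
    (v : Fin n → F) :
    ((blk hk A B *ᵥ v) ∘ ek hk) ∘ Sum.inr = B *ᵥ ((v ∘ ek hk) ∘ Sum.inr) := by
  funext i
  rw [Function.comp_apply, Function.comp_apply, blk_mulVec, Matrix.fromBlocks_mulVec, Sum.elim_inr,
    Matrix.zero_mulVec, zero_add]

lemma herm_split (q : ℕ) (x y : Fin n → F) :
    Cfsg.hermForm n F q x y =
      Cfsg.hermForm k F q ((x ∘ ek hk) ∘ Sum.inl) ((y ∘ ek hk) ∘ Sum.inl) +
      Cfsg.hermForm (n - k) F q ((x ∘ ek hk) ∘ Sum.inr) ((y ∘ ek hk) ∘ Sum.inr) := by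
  unfold Cfsg.hermForm
  rw [← Equiv.sum_comp (ek hk), Fintype.sum_sum_type]
  rfl

/-- the block embedding into `GL` -/
def blkGL (p : GL (Fin k) F × GL (Fin (n - k)) F) : GL (Fin n) F :=
  ⟨blk hk p.1.1 p.2.1, blk hk (p.1⁻¹).1 (p.2⁻¹).1,
    by rw [blk_mul, Units.mul_inv, Units.mul_inv, blk_one],
    by rw [blk_mul, Units.inv_mul, Units.inv_mul, blk_one]⟩

lemma blkGL_val (p : GL (Fin k) F × GL (Fin (n - k)) F) :
    ((blkGL hk p : GL (Fin n) F) : Matrix (Fin n) (Fin n) F) = blk hk p.1.1 p.2.1 := rfl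

lemma blk_iso {q : ℕ} {A : Matrix (Fin k) (Fin k) F} {B : Matrix (Fin (n - k)) (Fin (n - k)) F}
    (hA : ∀ u v, Cfsg.hermForm k F q (A *ᵥ u) (A *ᵥ v) = Cfsg.hermForm k F q u v)
    (hB : ∀ u v, Cfsg.hermForm (n - k) F q (B *ᵥ u) (B *ᵥ v) = Cfsg.hermForm (n - k) F q u v)
    (u v : Fin n → F) :
    Cfsg.hermForm n F q (blk hk A B *ᵥ u) (blk hk A B *ᵥ v) = Cfsg.hermForm n F q u v := by
  rw [herm_split hk, herm_split hk q u v, blk_mulVec_inl, blk_mulVec_inl, blk_mulVec_inr,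
    blk_mulVec_inr, hA, hB]

/-- the block embedding `GU_k × GU_(n-k) → GU_n` -/
def psi (q : ℕ) : ↥(Cfsg.GU k F q) × ↥(Cfsg.GU (n - k) F q) →* ↥(Cfsg.GU n F q) where
  toFun p := ⟨blkGL hk (p.1.1, p.2.1), fun u v => blk_iso hk p.1.2 p.2.2 u v⟩
  map_one' := Subtype.ext (Units.ext (blk_one hk))
  map_mul' p p' := Subtype.ext (Units.ext (blk_mul hk _ _ _ _).symm)

lemma psi_val (q : ℕ) (p : ↥(Cfsg.GU k F q) × ↥(Cfsg.GU (n - k) F q)) :
    (((psi hk q p : ↥(Cfsg.GU n F q)) : GL (Fin n) F) : Matrix (Fin n) (Fin n) F) =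
      blk hk ((p.1 : GL (Fin k) F) : Matrix (Fin k) (Fin k) F)
        ((p.2 : GL (Fin (n - k)) F) : Matrix (Fin (n - k)) (Fin (n - k)) F) := rfl

lemma psi_injective (q : ℕ) : Function.Injective (psi (F := F) hk q) := by
  intro p p' h
  have h1 := congrArg (fun g : ↥(Cfsg.GU n F q) =>
    ((g : GL (Fin n) F) : Matrix (Fin n) (Fin n) F)) h
  simp only [psi_val] at h1
  have h2 := blk_inj hk h1
  exact Prod.ext (Subtype.ext (Units.ext h2.1)) (Subtype.ext (Units.ext h2.2))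

/-- the standard non-degenerate subspace -/
def W0 : Submodule F (Fin n → F) where
  carrier := {v | ∀ z, v (ek hk (Sum.inr z)) = 0}
  add_mem' := by
    intro a b ha hb z
    rw [Pi.add_apply, ha z, hb z, add_zero]
  zero_mem' := fun z => rfl
  smul_mem' := by
    intro c a ha z
    rw [Pi.smul_apply, ha z, smul_zero]

lemma mem_W0 {v : Fin n → F} : v ∈ W0 (F := F) hk ↔ ∀ z, v (ek hk (Sum.inr z)) = 0 := Iff.rfl

lemma finrank_W0 : Module.finrank F (W0 (F := F) hk) = k := by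
  have hinj : Function.Injective (fun z : Fin (n - k) => ek hk (Sum.inr z)) :=
    fun a b h => Sum.inr_injective ((ek hk).injective h)
  have h1 := LinearMap.finrank_range_add_finrank_ker
    (LinearMap.funLeft F F (fun z : Fin (n - k) => ek hk (Sum.inr z)) :
      (Fin n → F) →ₗ[F] (Fin (n - k) → F))
  have h2 : LinearMap.range (LinearMap.funLeft F F (fun z : Fin (n - k) => ek hk (Sum.inr z)) :
      (Fin n → F) →ₗ[F] (Fin (n - k) → F)) = ⊤ :=
    LinearMap.range_eq_top.mpr (LinearMap.funLeft_surjective_of_injective F F _ hinj)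
  rw [h2, finrank_top, Module.finrank_fin_fun, Module.finrank_fin_fun] at h1
  have h3 : W0 (F := F) hk = LinearMap.ker
      (LinearMap.funLeft F F (fun z : Fin (n - k) => ek hk (Sum.inr z)) :
      (Fin n → F) →ₗ[F] (Fin (n - k) → F)) := by
    ext v
    rw [mem_W0, LinearMap.mem_ker]
    constructor
    · intro h
      funext z
      exact h z
    · intro h z
      exact congrFun h z
  rw [h3]
  omega

lemma blk_maps (A : Matrix (Fin k) (Fin k) F) (B : Matrix (Fin (n - k)) (Fin (n - k)) F)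
    {v : Fin n → F} (hv : v ∈ W0 hk) : blk hk A B *ᵥ v ∈ W0 hk := by
  intro z
  have h1 := congrFun (blk_mulVec_inr hk A B v) z
  rw [Function.comp_apply, Function.comp_apply] at h1
  rw [h1]
  have h0 : (v ∘ ek hk) ∘ Sum.inr = 0 := by
    funext z'
    exact hv z'
  rw [h0, Matrix.mulVec_zero]
  rfl

lemma single_mem_W0 (y : Fin k) :
    (Pi.single (ek hk (Sum.inl y)) (1 : F) : Fin n → F) ∈ W0 hk := by
  intro z
  rw [Pi.single_apply, if_neg]
  intro h
  have := (ek hk).injective h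
  exact Sum.inr_ne_inl this

end Blocks

section Herm
variable {F : Type*} [Field F] [Fintype F] {q n : ℕ}

lemma herm_single_right (hF : Fintype.card F = q ^ 2) (x : Fin n → F) (l : Fin n) :
    Cfsg.hermForm n F q x (Pi.single l 1) = x l := by
  classical
  unfold Cfsg.hermForm
  rw [Finset.sum_eq_single l]
  · rw [Pi.single_eq_same, one_pow, mul_one]
  · intro j _ hj
    have hq := herm_two_le hF
    rw [Pi.single_eq_of_ne hj, zero_pow (by omega), mul_zero]
  · intro h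
    exact absurd (Finset.mem_univ l) h

lemma stab_iff {W : Submodule F (Fin n → F)} {g : ↥(Cfsg.GU n F q)} :
    g ∈ (Cfsg.stabilizing (Cfsg.glToMat (Fin n) F) (W : Set (Fin n → F))).subgroupOf
      (Cfsg.GU n F q) ↔
    ∀ v, v ∈ W ↔ ((g : GL (Fin n) F) : Matrix (Fin n) (Fin n) F) *ᵥ v ∈ W := Iff.rfl

/-- orthonormal tuples spanning non-degenerate subspaces -/
lemma exists_onb (hF : Fintype.card F = q ^ 2) : ∀ (k : ℕ) (U : Submodule F (Fin n → F)),
    ND (Cfsg.hermForm n F q) U → Module.finrank F U = k →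
    ∃ w : Fin k → (Fin n → F), (∀ i, w i ∈ U) ∧
      ∀ i j, Cfsg.hermForm n F q (w i) (w j) = if i = j then 1 else 0 := by
  classical
  have hf := herm_unitary (n := n) hF
  intro k
  induction k with
  | zero =>
    intro U _ _
    exact ⟨Fin.elim0, fun i => i.elim0, fun i => i.elim0⟩
  | succ k ih =>
    intro U hU hUk
    obtain ⟨z, hzU, hz0⟩ := exists_mem_ne_zero (U := U) (by omega)
    obtain ⟨x, hxU, hxx⟩ := exists_noniso hf hU ⟨z, hzU, hz0⟩
    obtain ⟨ζ, hζ⟩ := norm_surj hf.involutive hf.ne_refl (Cfsg.hermForm n F q x x)⁻¹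
      (inv_ne_zero hxx) (by rw [map_inv₀, u_self_fixed hf])
    obtain ⟨x', hx'def⟩ : ∃ x', x' = ζ • x := ⟨_, rfl⟩
    have hx'U : x' ∈ U := by rw [hx'def]; exact U.smul_mem _ hxU
    have hx'x' : Cfsg.hermForm n F q x' x' = 1 := by
      rw [hx'def, hf.smul_left, u_smul_right hf]
      have h1 : ζ * frobQ hF ζ * Cfsg.hermForm n F q x x = 1 := by
        rw [hζ]; exact inv_mul_cancel₀ hxx
      linear_combination h1
    have hx'ne : Cfsg.hermForm n F q x' x' ≠ 0 := by rw [hx'x']; exact one_ne_zero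
    have hU' := ND_noniso hf hU hx'U hx'ne
    have hd1 := finrank_inf_pp hf U x'
    have hlt : U ⊓ pp hf x' < U := by
      refine lt_of_le_of_ne inf_le_left (fun h => ?_)
      have h1 : x' ∈ U ⊓ pp hf x' := by rw [h]; exact hx'U
      exact hx'ne ((mem_pp hf).mp (Submodule.mem_inf.mp h1).2)
    have hd2 := Submodule.finrank_lt_finrank_of_lt hlt
    obtain ⟨w', hw'U, hw'⟩ := ih (U ⊓ pp hf x') hU' (by omega)
    have hw'x : ∀ i, Cfsg.hermForm n F q (w' i) x' = 0 := fun i =>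
      (mem_pp hf).mp (Submodule.mem_inf.mp (hw'U i)).2
    refine ⟨Fin.cons x' w', ?_, ?_⟩
    · intro i
      refine Fin.cases ?_ (fun i => ?_) i
      · rw [Fin.cons_zero]; exact hx'U
      · rw [Fin.cons_succ]; exact (Submodule.mem_inf.mp (hw'U i)).1
    · intro i j
      refine Fin.cases ?_ (fun i => ?_) i <;> refine Fin.cases ?_ (fun j => ?_) j
      · rw [Fin.cons_zero, hx'x', if_pos rfl]
      · rw [Fin.cons_zero, Fin.cons_succ, hf.herm, hw'x, map_zero,
          if_neg (Fin.succ_ne_zero j).symm]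
      · rw [Fin.cons_zero, Fin.cons_succ, hw'x, if_neg (Fin.succ_ne_zero i)]
      · rw [Fin.cons_succ, Fin.cons_succ, hw']
        simp [Fin.succ_inj]

lemma onb_linInd (hF : Fintype.card F = q ^ 2) {k : ℕ} (w : Fin k → (Fin n → F))
    (hw : ∀ i j, Cfsg.hermForm n F q (w i) (w j) = if i = j then 1 else 0) :
    LinearIndependent F w := by
  classical
  have hf := herm_unitary (n := n) hF
  rw [Fintype.linearIndependent_iff]
  intro c hc j
  have h1 : Cfsg.hermForm n F q (∑ i, c i • w i) (w j) = c j := by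
    rw [hermForm_sum_left]
    simp only [hf.smul_left, hw]
    simp
  rw [hc, u_zero_left hf] at h1
  exact h1.symm

lemma exists_isom_gram (hF : Fintype.card F = q ^ 2) {r : ℕ} {e e' : Fin r → (Fin n → F)}
    (he : LinearIndependent F e) (he' : LinearIndependent F e')
    (hG : ∀ i j, Cfsg.hermForm n F q (e i) (e j) = Cfsg.hermForm n F q (e' i) (e' j)) :
    ∃ g : (Fin n → F) ≃ₗ[F] (Fin n → F),
      (∀ x y, Cfsg.hermForm n F q (g x) (g y) = Cfsg.hermForm n F q x y) ∧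
      ∀ i, g (e i) = e' i := by
  classical
  obtain ⟨hσ, hσ2, hS, hB⟩ := Bh_props (n := n) hF
  have hle : r ≤ n := by
    have h1 := he.fintype_card_le_finrank
    rwa [Fintype.card_fin, Module.finrank_fin_fun] at h1
  obtain ⟨g, hg1, hg2⟩ := Cfsg.Agent.S0751.S0751aux.witt_tuple (Bh hF) hσ hσ2 hS hB (n - r) r
    e e' he he' (fun i j => by rw [Bh_apply, Bh_apply, hG])
    (by rw [Module.finrank_fin_fun]; omega)
  refine ⟨g, fun x y => ?_, hg2⟩
  have h1 := hg1 y x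
  rwa [Bh_apply, Bh_apply] at h1

end Herm

section Main
variable {F : Type*} [Field F] [Fintype F] {q n k : ℕ} (hk : k ≤ n)

lemma psi_mem_stab (p : ↥(Cfsg.GU k F q) × ↥(Cfsg.GU (n - k) F q)) :
    psi hk q p ∈ (Cfsg.stabilizing (Cfsg.glToMat (Fin n) F)
      ((W0 (F := F) hk : Submodule F (Fin n → F)) : Set (Fin n → F))).subgroupOf
      (Cfsg.GU n F q) := by
  rw [stab_iff]
  intro v
  rw [psi_val]
  constructor
  · intro hv
    exact blk_maps hk _ _ hv
  · intro hv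
    have h1 := blk_maps hk (((p.1⁻¹ : ↥(Cfsg.GU k F q)) : GL (Fin k) F) : Matrix (Fin k) (Fin k) F)
      (((p.2⁻¹ : ↥(Cfsg.GU (n - k) F q)) : GL (Fin (n - k)) F) :
        Matrix (Fin (n - k)) (Fin (n - k)) F) hv
    rw [Matrix.mulVec_mulVec, blk_mul] at h1
    have e1 : (((p.1⁻¹ : ↥(Cfsg.GU k F q)) : GL (Fin k) F) : Matrix (Fin k) (Fin k) F) *
        ((p.1 : GL (Fin k) F) : Matrix (Fin k) (Fin k) F) = 1 := by
      rw [Subgroup.coe_inv, Units.inv_mul]
    have e2 : (((p.2⁻¹ : ↥(Cfsg.GU (n - k) F q)) : GL (Fin (n - k)) F) :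
        Matrix (Fin (n - k)) (Fin (n - k)) F) *
        ((p.2 : GL (Fin (n - k)) F) : Matrix (Fin (n - k)) (Fin (n - k)) F) = 1 := by
      rw [Subgroup.coe_inv, Units.inv_mul]
    rw [e1, e2, blk_one, Matrix.one_mulVec] at h1
    exact h1

lemma psi_surj (hF : Fintype.card F = q ^ 2) {g : ↥(Cfsg.GU n F q)}
    (hg : g ∈ (Cfsg.stabilizing (Cfsg.glToMat (Fin n) F)
      ((W0 (F := F) hk : Submodule F (Fin n → F)) : Set (Fin n → F))).subgroupOf
      (Cfsg.GU n F q)) : ∃ p, psi hk q p = g := by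
  classical
  have hf := herm_unitary (n := n) hF
  rw [stab_iff] at hg
  obtain ⟨gm, hgm⟩ : ∃ gm, gm = ((g : GL (Fin n) F) : Matrix (Fin n) (Fin n) F) := ⟨_, rfl⟩
  rw [← hgm] at hg
  have hgiso : ∀ u v, Cfsg.hermForm n F q (gm *ᵥ u) (gm *ᵥ v) = Cfsg.hermForm n F q u v := by
    rw [hgm]; exact g.2
  obtain ⟨gi, hgi⟩ : ∃ gi, gi = (((g : GL (Fin n) F)⁻¹ : GL (Fin n) F) :
    Matrix (Fin n) (Fin n) F) := ⟨_, rfl⟩
  have hgg : ∀ v, gm *ᵥ (gi *ᵥ v) = v := by
    intro v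
    rw [Matrix.mulVec_mulVec, hgm, hgi, Units.mul_inv, Matrix.one_mulVec]
  obtain ⟨N, hN⟩ : ∃ N, N = gm.submatrix (ek hk) (ek hk) := ⟨_, rfl⟩
  have hN21 : N.toBlocks₂₁ = 0 := by
    ext z y
    have h1 := (hg (Pi.single (ek hk (Sum.inl y)) 1)).mp (single_mem_W0 hk y) z
    rw [Matrix.mulVec_single_one] at h1
    rw [hN]
    exact h1
  have hN12 : N.toBlocks₁₂ = 0 := by
    ext i z
    obtain ⟨w, hwdef⟩ : ∃ w : Fin n → F, w = Pi.single (ek hk (Sum.inl i)) 1 := ⟨_, rfl⟩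
    have hw : w ∈ W0 (F := F) hk := by rw [hwdef]; exact single_mem_W0 hk i
    have hu : gi *ᵥ w ∈ W0 (F := F) hk := by
      rw [hg (gi *ᵥ w), hgg]
      exact hw
    obtain ⟨v, hvdef⟩ : ∃ v : Fin n → F, v = Pi.single (ek hk (Sum.inr z)) 1 := ⟨_, rfl⟩
    have h1 : Cfsg.hermForm n F q (gm *ᵥ v) w = Cfsg.hermForm n F q v (gi *ᵥ w) := by
      rw [← hgiso v (gi *ᵥ w), hgg]
    have h2 : Cfsg.hermForm n F q v (gi *ᵥ w) = 0 := by
      rw [hf.herm, hvdef, herm_single_right hF, hu z, map_zero]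
    rw [h2, hwdef, herm_single_right hF, hvdef, Matrix.mulVec_single_one] at h1
    rw [hN]
    exact h1
  have hNb : N = Matrix.fromBlocks N.toBlocks₁₁ 0 0 N.toBlocks₂₂ := by
    conv_lhs => rw [← Matrix.fromBlocks_toBlocks N, hN21, hN12]
  have hgmblk : gm = blk hk N.toBlocks₁₁ N.toBlocks₂₂ := by
    unfold blk
    rw [← hNb, hN, Matrix.submatrix_submatrix]
    simp
  -- determinants
  have hdet : IsUnit gm.det := by
    rw [hgm]
    exact (Matrix.isUnit_iff_isUnit_det _).mp (Units.isUnit _)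
  have hdet2 : gm.det = N.toBlocks₁₁.det * N.toBlocks₂₂.det := by
    rw [hgmblk]
    unfold blk
    rw [Matrix.det_submatrix_equiv_self, Matrix.det_fromBlocks_zero₂₁]
  rw [hdet2] at hdet
  have hA0 : N.toBlocks₁₁.det ≠ 0 := fun h => by
    rw [h, zero_mul] at hdet
    exact not_isUnit_zero hdet
  have hB0 : N.toBlocks₂₂.det ≠ 0 := fun h => by
    rw [h, mul_zero] at hdet
    exact not_isUnit_zero hdet
  -- isometries
  have hext1 : ∀ u : Fin k → F, ∃ ub : Fin n → F, (ub ∘ ek hk) ∘ Sum.inl = u ∧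
      (ub ∘ ek hk) ∘ Sum.inr = 0 := by
    intro u
    refine ⟨fun x => Sum.elim u 0 ((ek hk).symm x), ?_, ?_⟩
    · funext i; simp
    · funext i; simp
  have hext2 : ∀ u : Fin (n - k) → F, ∃ ub : Fin n → F, (ub ∘ ek hk) ∘ Sum.inl = 0 ∧
      (ub ∘ ek hk) ∘ Sum.inr = u := by
    intro u
    refine ⟨fun x => Sum.elim 0 u ((ek hk).symm x), ?_, ?_⟩
    · funext i; simp
    · funext i; simp
  have hAiso : ∀ u v, Cfsg.hermForm k F q (N.toBlocks₁₁ *ᵥ u) (N.toBlocks₁₁ *ᵥ v) =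
      Cfsg.hermForm k F q u v := by
    intro u v
    obtain ⟨ub, hub1, hub2⟩ := hext1 u
    obtain ⟨vb, hvb1, hvb2⟩ := hext1 v
    have h1 := hgiso ub vb
    rw [hgmblk, herm_split hk, herm_split hk q ub vb, blk_mulVec_inl, blk_mulVec_inl,
      blk_mulVec_inr, blk_mulVec_inr, hub1, hub2, hvb1, hvb2, Matrix.mulVec_zero] at h1
    have hz : ∀ y : Fin (n - k) → F, Cfsg.hermForm (n - k) F q 0 y = 0 := fun y => by
      unfold Cfsg.hermForm; simp
    simpa [hz] using h1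
  have hBiso : ∀ u v, Cfsg.hermForm (n - k) F q (N.toBlocks₂₂ *ᵥ u) (N.toBlocks₂₂ *ᵥ v) =
      Cfsg.hermForm (n - k) F q u v := by
    intro u v
    obtain ⟨ub, hub1, hub2⟩ := hext2 u
    obtain ⟨vb, hvb1, hvb2⟩ := hext2 v
    have h1 := hgiso ub vb
    rw [hgmblk, herm_split hk, herm_split hk q ub vb, blk_mulVec_inl, blk_mulVec_inl,
      blk_mulVec_inr, blk_mulVec_inr, hub1, hub2, hvb1, hvb2, Matrix.mulVec_zero] at h1
    have hz : ∀ y : Fin k → F, Cfsg.hermForm k F q 0 y = 0 := fun y => by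
      unfold Cfsg.hermForm; simp
    simpa [hz] using h1
  refine ⟨(⟨Matrix.GeneralLinearGroup.mkOfDetNeZero N.toBlocks₁₁ hA0, hAiso⟩,
    ⟨Matrix.GeneralLinearGroup.mkOfDetNeZero N.toBlocks₂₂ hB0, hBiso⟩), ?_⟩
  apply Subtype.ext
  apply Units.ext
  rw [psi_val, ← hgm, hgmblk]
  rfl

lemma exists_P (hF : Fintype.card F = q ^ 2) (W : Submodule F (Fin n → F))
    (hWk : Module.finrank F W = k)
    (hW : ∀ u ∈ W, (∀ v ∈ W, Cfsg.hermForm n F q u v = 0) → u = 0) :
    ∃ P : ↥(Cfsg.GU n F q), ∀ v, v ∈ W ↔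
      ((P : GL (Fin n) F) : Matrix (Fin n) (Fin n) F) *ᵥ v ∈ W0 hk := by
  classical
  have hf := herm_unitary (n := n) hF
  have hND : ND (Cfsg.hermForm n F q) W := by
    intro u hu hu0
    by_contra hcon
    push Not at hcon
    apply hu0
    apply hW u hu
    intro v hv
    rw [hf.herm, hcon v hv, map_zero]
  obtain ⟨w, hwW, hw⟩ := exists_onb hF k W hND hWk
  have hwli := onb_linInd hF w hw
  obtain ⟨e, hedef⟩ : ∃ e : Fin k → (Fin n → F),
      e = fun i => Pi.single (ek hk (Sum.inl i)) 1 := ⟨_, rfl⟩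
  have he : ∀ i j, Cfsg.hermForm n F q (e i) (e j) = if i = j then 1 else 0 := by
    intro i j
    rw [hedef, hermForm_single hF]
    by_cases hij : i = j
    · rw [if_pos hij, if_pos (by rw [hij])]
    · rw [if_neg hij, if_neg]
      intro h
      exact hij (Sum.inl_injective ((ek hk).injective h))
  have heli := onb_linInd hF e he
  obtain ⟨g, hg1, hg2⟩ := exists_isom_gram hF hwli heli (fun i j => by rw [hw, he])
  -- W = span w
  have hspan : Submodule.span F (Set.range w) = W := by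
    apply Submodule.eq_of_le_of_finrank_eq
    · rw [Submodule.span_le]
      rintro _ ⟨i, rfl⟩
      exact hwW i
    · rw [finrank_span_eq_card hwli, Fintype.card_fin, hWk]
  have hmap : W.map (g : (Fin n → F) →ₗ[F] (Fin n → F)) = W0 hk := by
    apply Submodule.eq_of_le_of_finrank_eq
    · rw [← hspan, Submodule.map_span, Submodule.span_le]
      rintro _ ⟨_, ⟨i, rfl⟩, rfl⟩
      show g (w i) ∈ W0 hk
      rw [hg2 i, hedef]
      exact single_mem_W0 hk i
    · rw [LinearEquiv.finrank_map_eq, hWk, finrank_W0]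
  obtain ⟨M, hMdef⟩ : ∃ M, M = LinearMap.toMatrix' (g : (Fin n → F) →ₗ[F] (Fin n → F)) :=
    ⟨_, rfl⟩
  have hMv : ∀ x, M *ᵥ x = g x := fun x => by
    rw [hMdef, ← Matrix.toLin'_apply, Matrix.toLin'_toMatrix']
    rfl
  have hMdet : M.det ≠ 0 := by
    have h1 : M * LinearMap.toMatrix' (g.symm : (Fin n → F) →ₗ[F] (Fin n → F)) = 1 := by
      rw [hMdef, ← LinearMap.toMatrix'_comp]
      simp
    intro h0
    have h2 := congrArg Matrix.det h1
    rw [Matrix.det_mul, h0, zero_mul, Matrix.det_one] at h2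
    exact zero_ne_one h2
  refine ⟨⟨Matrix.GeneralLinearGroup.mkOfDetNeZero M hMdet, fun u v => ?_⟩, fun v => ?_⟩
  · show Cfsg.hermForm n F q (M *ᵥ u) (M *ᵥ v) = Cfsg.hermForm n F q u v
    rw [hMv, hMv, hg1]
  · show v ∈ W ↔ M *ᵥ v ∈ W0 hk
    rw [hMv, ← hmap]
    constructor
    · intro hv
      exact Submodule.mem_map_of_mem hv
    · intro hv
      obtain ⟨v', hv', hvv'⟩ := Submodule.mem_map.mp hv
      have h3 : v' = v := g.injective hvv'
      rw [← h3]
      exact hv'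

include hk in
theorem main (hF : Fintype.card F = q ^ 2) (W : Submodule F (Fin n → F))
    (hWk : Module.finrank F W = k)
    (hW : ∀ u ∈ W, (∀ v ∈ W, Cfsg.hermForm n F q u v = 0) → u = 0) :
    Nonempty (↥((Cfsg.stabilizing (Cfsg.glToMat (Fin n) F) (W : Set (Fin n → F))).subgroupOf
      (Cfsg.GU n F q)) ≃* ↥(Cfsg.GU k F q) × ↥(Cfsg.GU (n - k) F q)) := by
  obtain ⟨P, hP⟩ := exists_P hk hF W hWk hW
  have hPP : ∀ w, ((P : GL (Fin n) F) : Matrix (Fin n) (Fin n) F) *ᵥ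
      ((((P⁻¹ : ↥(Cfsg.GU n F q)) : GL (Fin n) F) : Matrix (Fin n) (Fin n) F) *ᵥ w) = w := by
    intro w
    rw [Matrix.mulVec_mulVec, Subgroup.coe_inv, Units.mul_inv, Matrix.one_mulVec]
  have hPP' : ∀ w, (((P⁻¹ : ↥(Cfsg.GU n F q)) : GL (Fin n) F) : Matrix (Fin n) (Fin n) F) *ᵥ
      (((P : GL (Fin n) F) : Matrix (Fin n) (Fin n) F) *ᵥ w) = w := by
    intro w
    rw [Matrix.mulVec_mulVec, Subgroup.coe_inv, Units.inv_mul, Matrix.one_mulVec]
  have key : ∀ g : ↥(Cfsg.GU n F q),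
      g ∈ (Cfsg.stabilizing (Cfsg.glToMat (Fin n) F) (W : Set (Fin n → F))).subgroupOf
        (Cfsg.GU n F q) ↔
      P * g * P⁻¹ ∈ (Cfsg.stabilizing (Cfsg.glToMat (Fin n) F)
        ((W0 (F := F) hk : Submodule F (Fin n → F)) : Set (Fin n → F))).subgroupOf
        (Cfsg.GU n F q) := by
    intro g
    rw [stab_iff, stab_iff]
    have hmul : ∀ w, (((P * g * P⁻¹ : ↥(Cfsg.GU n F q)) : GL (Fin n) F) :
        Matrix (Fin n) (Fin n) F) *ᵥ w =
        ((P : GL (Fin n) F) : Matrix (Fin n) (Fin n) F) *ᵥ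
          (((g : GL (Fin n) F) : Matrix (Fin n) (Fin n) F) *ᵥ
            ((((P⁻¹ : ↥(Cfsg.GU n F q)) : GL (Fin n) F) : Matrix (Fin n) (Fin n) F) *ᵥ w)) := by
      intro w
      rw [Subgroup.coe_mul, Subgroup.coe_mul, Units.val_mul, Units.val_mul,
        ← Matrix.mulVec_mulVec, ← Matrix.mulVec_mulVec]
    constructor
    · intro hg w
      rw [hmul, ← hP, ← hg, hP, hPP]
    · intro hg v
      rw [hP v, hg, hmul, hPP', ← hP]
  let iso1 : ↥((Cfsg.stabilizing (Cfsg.glToMat (Fin n) F) (W : Set (Fin n → F))).subgroupOf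
      (Cfsg.GU n F q)) ≃*
      ↥((Cfsg.stabilizing (Cfsg.glToMat (Fin n) F)
        ((W0 (F := F) hk : Submodule F (Fin n → F)) : Set (Fin n → F))).subgroupOf
        (Cfsg.GU n F q)) :=
    { toFun := fun g => ⟨P * g.1 * P⁻¹, (key g.1).mp g.2⟩
      invFun := fun g => ⟨P⁻¹ * g.1 * P, (key _).mpr (by
        have : P * (P⁻¹ * g.1 * P) * P⁻¹ = g.1 := by group
        rw [this]; exact g.2)⟩
      left_inv := fun g => Subtype.ext (by
        change P⁻¹ * (P * g.1 * P⁻¹) * P = g.1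
        group)
      right_inv := fun g => Subtype.ext (by
        change P * (P⁻¹ * g.1 * P) * P⁻¹ = g.1
        group)
      map_mul' := fun g h => Subtype.ext (by
        change P * (g.1 * h.1) * P⁻¹ = (P * g.1 * P⁻¹) * (P * h.1 * P⁻¹)
        group) }
  let psi' : ↥(Cfsg.GU k F q) × ↥(Cfsg.GU (n - k) F q) →*
      ↥((Cfsg.stabilizing (Cfsg.glToMat (Fin n) F)
        ((W0 (F := F) hk : Submodule F (Fin n → F)) : Set (Fin n → F))).subgroupOf
        (Cfsg.GU n F q)) :=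
    (psi hk q).codRestrict _ (psi_mem_stab hk)
  have hbij : Function.Bijective psi' := by
    constructor
    · intro p p' h
      exact psi_injective hk q (congrArg Subtype.val h)
    · intro g
      obtain ⟨p, hp⟩ := psi_surj hk hF g.2
      exact ⟨p, Subtype.ext hp⟩
  exact ⟨iso1.trans (MulEquiv.ofBijective psi' hbij).symm⟩

end Main

end S0837aux
end Aux

/-- If W ≤ F^n (|F| = q²) is a k-dimensional subspace on which the Hermitian form Σ x_i y_i^q is non-degenerate, then the stabiliser of W in GU_n(q) is isomorphic to GU_k(q) × GU_(n−k)(q). -/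
theorem result {F : Type*} [Field F] [Fintype F] {q : ℕ} (hF : Fintype.card F = q ^ 2) (n k : ℕ) (hk : k ≤ n) (W : Submodule F (Fin n → F)) (hWk : Module.finrank F W = k) (hW : ∀ u ∈ W, (∀ v ∈ W, Cfsg.hermForm n F q u v = 0) → u = 0) : Nonempty (↥((Cfsg.stabilizing (Cfsg.glToMat (Fin n) F) (W : Set (Fin n → F))).subgroupOf (Cfsg.GU n F q)) ≃* ↥(Cfsg.GU k F q) × ↥(Cfsg.GU (n - k) F q)) := by
  exact S0837aux.main hk hF W hWk hW

end Cfsg.Agent.S0837
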