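import Cfsg.Statements.S0838
-- import your own Cfsg.Agent.* helpers here
import Cfsg.Agent.Lib.Helper15.QuadOrth

set_option autoImplicit false
open Cfsg

namespace Cfsg.Agent.S0838

open QuadraticMap Cfsg.Agent.Lib.Helper15

theorem gram_eq {F : Type*} [Field F] {n : ℕ} (Q : QuadraticForm F (Fin n → F)) :
    LinearMap.toMatrix₂ (Pi.basisFun F (Fin n)) (Pi.basisFun F (Fin n)) (polarBilin Q)
      = Matrix.of (fun i j : Fin n => polar Q (Pi.single i 1) (Pi.single j 1)) := by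
  ext i j
  simp [LinearMap.toMatrix₂_apply]

theorem nd_iff {F : Type*} [Field F] {n : ℕ} (Q : QuadraticForm F (Fin n → F)) :
    (polarBilin Q).Nondegenerate ↔
    (Matrix.of (fun i j : Fin n => polar Q (Pi.single i 1) (Pi.single j 1))).det ≠ 0 := by
  rw [LinearMap.nondegenerate_iff_det_ne_zero (Pi.basisFun F (Fin n)), gram_eq]

/-- Over a finite field with 2 ≠ 0 and n odd: two quadratic forms Q₁, Q₂ on F^n with non-degenerate polar forms are similar — there are an invertible linear map g and a scalar c ≠ 0 with Q₂ (g v) = c · Q₁ v for all v. -/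
theorem result {F : Type*} [Field F] [Fintype F] (h2 : (2 : F) ≠ 0) {n : ℕ} (hn : Odd n) (Q₁ Q₂ : QuadraticForm F (Fin n → F)) (h₁ : (QuadraticMap.polarBilin Q₁).Nondegenerate) (h₂ : (QuadraticMap.polarBilin Q₂).Nondegenerate) : ∃ (g : (Fin n → F) ≃ₗ[F] (Fin n → F)) (c : F), c ≠ 0 ∧ ∀ v, Q₂ (g v) = c * Q₁ v := by
  classical
  obtain ⟨d₁, hd₁⟩ : ∃ d₁ : F, d₁ = (Matrix.of (fun i j : Fin n => polar Q₁ (Pi.single i 1) (Pi.single j 1))).det := ⟨_, rfl⟩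
  obtain ⟨d₂, hd₂⟩ : ∃ d₂ : F, d₂ = (Matrix.of (fun i j : Fin n => polar Q₂ (Pi.single i 1) (Pi.single j 1))).det := ⟨_, rfl⟩
  have hd₁0 : d₁ ≠ 0 := by rw [hd₁]; exact (nd_iff Q₁).mp h₁
  have hd₂0 : d₂ ≠ 0 := by rw [hd₂]; exact (nd_iff Q₂).mp h₂
  obtain ⟨c, hc⟩ : ∃ c : F, c = d₁ * d₂ := ⟨_, rfl⟩
  have hc0 : c ≠ 0 := by rw [hc]; exact mul_ne_zero hd₁0 hd₂0
  obtain ⟨Q₃, hQ₃⟩ : ∃ Q₃ : QuadraticForm F (Fin n → F), Q₃ = c • Q₁ := ⟨_, rfl⟩
  have hQ₃v : ∀ v, Q₃ v = c * Q₁ v := by intro v; rw [hQ₃]; rfl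
  have hpol : ∀ u v, polar Q₃ u v = c * polar Q₁ u v := by
    intro u v
    simp only [polar, hQ₃v]
    ring
  have hG : (Matrix.of (fun i j : Fin n => polar Q₃ (Pi.single i 1) (Pi.single j 1)))
      = c • (Matrix.of (fun i j : Fin n => polar Q₁ (Pi.single i 1) (Pi.single j 1))) := by
    ext i j
    rw [Matrix.smul_apply, Matrix.of_apply, Matrix.of_apply, hpol, smul_eq_mul]
  have hnd : (polarBilin Q₃).Nondegenerate := by
    rw [nd_iff, hG, Matrix.det_smul, ← hd₁]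
    exact mul_ne_zero (pow_ne_zero _ hc0) hd₁0
  obtain ⟨k, hk⟩ := hn
  have hsq : IsSquare ((Matrix.of (fun i j : Fin n => polar Q₃ (Pi.single i 1) (Pi.single j 1))).det *
      (Matrix.of (fun i j : Fin n => polar Q₂ (Pi.single i 1) (Pi.single j 1))).det) := by
    rw [hG, Matrix.det_smul, ← hd₁, ← hd₂, Fintype.card_fin]
    refine ⟨c ^ (k + 1), ?_⟩
    rw [hk, hc]
    ring
  obtain ⟨g, hg⟩ := isometric_of_disc h2 Q₃ Q₂ hnd h₂ hsq
  refine ⟨g, c, hc0, fun v => ?_⟩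
  rw [hg v, hQ₃v]

end Cfsg.Agent.S0838
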