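import Cfsg.Statements.S0839
import Mathlib
-- import your own Cfsg.Agent.* helpers here

set_option autoImplicit false
open Cfsg

namespace Cfsg.Agent.S0839

open Matrix Module

/-- Main linear algebra lemma: for a matrix `N` of rank one and square zero on `F^(n+2)` there is
a determinant-one matrix `g` and a vector `v` with `v 0 = 0` such that
`N * g = g * vecMulVec v e₀`. -/
theorem exists_conj {F : Type*} [Field F] (n : ℕ) (N : Matrix (Fin (n + 2)) (Fin (n + 2)) F)
    (hrank : N.rank = 1) (hsq : N * N = 0) :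
    ∃ (g : Matrix (Fin (n + 2)) (Fin (n + 2)) F) (v : Fin (n + 2) → F),
      g.det = 1 ∧ v 0 = 0 ∧ N * g = g * Matrix.vecMulVec v (Pi.single 0 1) := by
  classical
  set L : (Fin (n + 2) → F) →ₗ[F] (Fin (n + 2) → F) := N.mulVecLin with hL
  have hrange : finrank F (LinearMap.range L) = 1 := hrank
  have hker : finrank F (LinearMap.ker L) = n + 1 := by
    have := LinearMap.finrank_range_add_finrank_ker L
    rw [hrange, Module.finrank_fin_fun] at this
    omega
  have hLL : ∀ x, L (L x) = 0 := by
    intro x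
    change N.mulVec (N.mulVec x) = 0
    rw [Matrix.mulVec_mulVec, hsq, Matrix.zero_mulVec]
  -- basis of the kernel
  let bK : Basis (Fin (n + 1)) F (LinearMap.ker L) := Module.finBasisOfFinrankEq F _ hker
  -- a vector outside the kernel
  have hex : ∃ w : Fin (n + 2) → F, w ∉ LinearMap.ker L := by
    by_contra hcon
    push Not at hcon
    have htop : LinearMap.ker L = ⊤ := by
      rw [eq_top_iff]; intro x _; exact hcon x
    rw [htop, finrank_top, Module.finrank_fin_fun] at hker
    omega
  obtain ⟨w, hw⟩ := hex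
  let b : Fin (n + 2) → (Fin (n + 2) → F) := Fin.cons w (fun i => (bK i : Fin (n + 2) → F))
  have hbK_li : LinearIndependent F (fun i => (bK i : Fin (n + 2) → F)) := by
    have := bK.linearIndependent
    exact this.map' (LinearMap.ker L).subtype (Submodule.ker_subtype _)
  have hspan : Submodule.span F (Set.range (fun i => (bK i : Fin (n + 2) → F))) = LinearMap.ker L := by
    have := bK.span_eq
    have h2 := congrArg (Submodule.map (LinearMap.ker L).subtype) this
    rw [Submodule.map_span, Submodule.map_subtype_top, ← Set.range_comp] at h2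
    exact h2
  have hb_li : LinearIndependent F b := by
    apply LinearIndependent.finCons hbK_li
    rw [hspan]; exact hw
  -- the matrix with columns b
  let g₀ : Matrix (Fin (n + 2)) (Fin (n + 2)) F := Matrix.of (fun i j => b j i)
  have hg₀col : g₀.col = b := by
    funext j i; rfl
  have hunit : IsUnit g₀ := by
    rw [← Matrix.linearIndependent_cols_iff_isUnit, hg₀col]; exact hb_li
  have hdet : g₀.det ≠ 0 := by
    have := (Matrix.isUnit_iff_isUnit_det g₀).mp hunit
    exact this.ne_zero
  set d := g₀.det with hd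
  let g : Matrix (Fin (n + 2)) (Fin (n + 2)) F := g₀.updateCol 0 (d⁻¹ • w)
  have hgdet : g.det = 1 := by
    change (g₀.updateCol 0 (d⁻¹ • w)).det = 1
    rw [Matrix.det_updateCol_smul]
    have : g₀.updateCol 0 w = g₀ := by
      ext i j
      by_cases hj : j = 0
      · subst hj; simp [g₀, b]
      · simp [Matrix.updateCol_ne hj]
    rw [this, ← hd, inv_mul_cancel₀ hdet]
  have hgcol0 : (fun i => g i 0) = d⁻¹ • w := by
    funext i; simp [g]
  have hgcolS : ∀ j : Fin (n + 1), (fun i => g i j.succ) = (bK j : Fin (n + 2) → F) := by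
    intro j; funext i
    simp [g, g₀, b]
  -- coordinates of L (g col 0) in the kernel basis
  obtain ⟨y, hy⟩ : ∃ y, y = L (d⁻¹ • w) := ⟨_, rfl⟩
  have hmem : y ∈ LinearMap.ker L := by
    rw [LinearMap.mem_ker, hy]; exact hLL _
  let c : Fin (n + 1) → F := fun i => bK.repr ⟨y, hmem⟩ i
  have hc : y = ∑ i, c i • (bK i : Fin (n + 2) → F) := by
    have := bK.sum_repr ⟨y, hmem⟩
    have h2 := congrArg (LinearMap.ker L).subtype this
    rw [map_sum] at h2
    simp only [map_smul, Submodule.subtype_apply] at h2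
    exact h2.symm
  let v : Fin (n + 2) → F := Fin.cons 0 c
  have hgv : g.mulVec v = y := by
    rw [hc]
    funext i
    simp only [Matrix.mulVec, dotProduct]
    rw [Fin.sum_univ_succ]
    simp only [v, Fin.cons_zero, Fin.cons_succ,
      mul_zero, zero_add, Finset.sum_apply, Pi.smul_apply, smul_eq_mul]
    apply Finset.sum_congr rfl
    intro j _
    rw [mul_comm, ← hgcolS j]
  refine ⟨g, v, hgdet, rfl, ?_⟩
  rw [Matrix.mul_vecMulVec, hgv, hy]
  ext i j
  rw [Matrix.vecMulVec_apply]
  have hNg : (N * g) i j = (L (fun k => g k j)) i := rfl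
  rw [hNg]
  refine Fin.cases ?_ (fun j' => ?_) j
  · rw [hgcol0]; simp
  · rw [hgcolS j']
    have : L (bK j' : Fin (n + 2) → F) = 0 := (bK j').2
    rw [this]
    simp [Fin.succ_ne_zero]

/-- Every transvection t ∈ SL_(n+2)(F) (rank(t − 1) = 1, (t − 1)² = 0) is conjugate in SL_(n+2)(F) to 1 + v·e_0ᵀ for some column vector v with v_0 = 0 (the group A of matrices that are the identity except in the first column below the diagonal); the dimension is written n + 2 ≥ 2. -/
theorem result {F : Type*} [Field F] (n : ℕ) (t : Matrix.SpecialLinearGroup (Fin (n + 2)) F) (ht : Cfsg.IsTransvection (t : Matrix (Fin (n + 2)) (Fin (n + 2)) F)) : ∃ (g : Matrix.SpecialLinearGroup (Fin (n + 2)) F) (v : Fin (n + 2) → F), v 0 = 0 ∧ ((g⁻¹ * t * g : Matrix.SpecialLinearGroup (Fin (n + 2)) F) : Matrix (Fin (n + 2)) (Fin (n + 2)) F) = 1 + Matrix.vecMulVec v (Pi.single 0 1) := by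
  obtain ⟨hrank, hsq⟩ := ht
  obtain ⟨g, v, hgdet, hv0, hNg⟩ := exists_conj n _ hrank hsq
  refine ⟨⟨g, hgdet⟩, v, hv0, ?_⟩
  set G : Matrix.SpecialLinearGroup (Fin (n + 2)) F := ⟨g, hgdet⟩ with hG
  have key : (t : Matrix (Fin (n + 2)) (Fin (n + 2)) F) * g =
      g * (1 + Matrix.vecMulVec v (Pi.single 0 1)) := by
    rw [Matrix.mul_add, Matrix.mul_one, ← hNg, Matrix.sub_mul, Matrix.one_mul]
    abel
  have hinv : ((G⁻¹ : Matrix.SpecialLinearGroup (Fin (n + 2)) F) :
      Matrix (Fin (n + 2)) (Fin (n + 2)) F) * g = 1 := by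
    have : (G⁻¹ * G : Matrix.SpecialLinearGroup (Fin (n + 2)) F) = 1 := inv_mul_cancel G
    have h2 := congrArg (fun A : Matrix.SpecialLinearGroup (Fin (n + 2)) F =>
      (A : Matrix (Fin (n + 2)) (Fin (n + 2)) F)) this
    simp only [Matrix.SpecialLinearGroup.coe_mul, Matrix.SpecialLinearGroup.coe_one] at h2
    exact h2
  simp only [Matrix.SpecialLinearGroup.coe_mul]
  rw [Matrix.mul_assoc]
  change _ * ((t : Matrix (Fin (n + 2)) (Fin (n + 2)) F) * g) = _
  rw [key, ← Matrix.mul_assoc, hinv, Matrix.one_mul]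

end Cfsg.Agent.S0839
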