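import Cfsg.Statements.S0841
import Mathlib
-- import your own Cfsg.Agent.* helpers here

set_option autoImplicit false
open Cfsg

namespace Cfsg.Agent.S0841

open scoped commutatorElement

theorem comm_central {G : Type*} [Group G] (hG : commutator G ≤ Subgroup.center G) (x y : G) :
    y⁻¹ * x⁻¹ * y * x ∈ Subgroup.center G := by
  apply hG
  have : y⁻¹ * x⁻¹ * y * x = ⁅y⁻¹, x⁻¹⁆ := by
    simp [commutatorElement_def]
  rw [this]
  exact Subgroup.commutator_mem_commutator (Subgroup.mem_top _) (Subgroup.mem_top _)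

theorem pow_swap {G : Type*} [Group G] (x y c : G) (hc : c ∈ Subgroup.center G)
    (hyx : y * x = x * y * c) (n : ℕ) : y ^ n * x = x * y ^ n * c ^ n := by
  have hcomm : ∀ g : G, g * c = c * g := fun g => (Subgroup.mem_center_iff.mp hc g)
  induction n with
  | zero => simp
  | succ n ih =>
    calc y ^ (n + 1) * x = y * (y ^ n * x) := by rw [pow_succ', mul_assoc]
      _ = y * (x * y ^ n * c ^ n) := by rw [ih]
      _ = (y * x) * y ^ n * c ^ n := by simp only [mul_assoc]
      _ = x * y * c * y ^ n * c ^ n := by rw [hyx]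
      _ = x * y * (c * y ^ n) * c ^ n := by simp only [mul_assoc]
      _ = x * y * (y ^ n * c) * c ^ n := by rw [hcomm (y ^ n)]
      _ = x * (y * y ^ n) * (c * c ^ n) := by simp only [mul_assoc]
      _ = x * y ^ (n + 1) * c ^ (n + 1) := by rw [← pow_succ', ← pow_succ']

/-- If the commutator subgroup of G lies in the centre, then for all x, y in G and every natural number n one has (x * y) ^ n = x ^ n * y ^ n * c ^ (n * (n - 1) / 2) with c = y⁻¹ * x⁻¹ * y * x. -/
theorem result {G : Type*} [Group G] (hG : commutator G ≤ Subgroup.center G) (x y : G) (n : ℕ) : (x * y) ^ n = x ^ n * y ^ n * (y⁻¹ * x⁻¹ * y * x) ^ (n * (n - 1) / 2) := by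
  set c := y⁻¹ * x⁻¹ * y * x with hc
  have hcc : c ∈ Subgroup.center G := comm_central hG x y
  have hcomm : ∀ g : G, g * c = c * g := fun g => (Subgroup.mem_center_iff.mp hcc g)
  have hcommp : ∀ (g : G) (k : ℕ), g * c ^ k = c ^ k * g := fun g k =>
    (Subgroup.mem_center_iff.mp (Subgroup.pow_mem _ hcc k) g)
  have hyx : y * x = x * y * c := by
    rw [hc]; group
  induction n with
  | zero => simp
  | succ n ih =>
    have hs := pow_swap x y c hcc hyx n
    have harith : (n + 1) * (n + 1 - 1) / 2 = n + n * (n - 1) / 2 := by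
      rcases n with _ | m
      · simp
      · simp only [Nat.add_sub_cancel]
        have h2 : (m + 1 + 1) * (m + 1) = 2 * (m + 1) + (m + 1) * m := by ring
        rw [h2, Nat.mul_add_div (by norm_num : 0 < 2)]
    calc (x * y) ^ (n + 1) = (x * y) ^ n * (x * y) := pow_succ _ _
      _ = x ^ n * y ^ n * c ^ (n * (n - 1) / 2) * (x * y) := by rw [ih]
      _ = x ^ n * y ^ n * (c ^ (n * (n - 1) / 2) * (x * y)) := by simp only [mul_assoc]
      _ = x ^ n * y ^ n * ((x * y) * c ^ (n * (n - 1) / 2)) := by rw [← hcommp (x * y)]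
      _ = x ^ n * (y ^ n * x) * y * c ^ (n * (n - 1) / 2) := by simp only [mul_assoc]
      _ = x ^ n * (x * y ^ n * c ^ n) * y * c ^ (n * (n - 1) / 2) := by rw [hs]
      _ = x ^ n * x * y ^ n * (c ^ n * y) * c ^ (n * (n - 1) / 2) := by simp only [mul_assoc]
      _ = x ^ n * x * y ^ n * (y * c ^ n) * c ^ (n * (n - 1) / 2) := by rw [hcommp y n]
      _ = (x ^ n * x) * (y ^ n * y) * (c ^ n * c ^ (n * (n - 1) / 2)) := by simp only [mul_assoc]
      _ = x ^ (n + 1) * y ^ (n + 1) * c ^ ((n + 1) * (n + 1 - 1) / 2) := by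
          rw [← pow_succ, ← pow_succ, ← pow_add, harith]

end Cfsg.Agent.S0841
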