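import Cfsg.Statements.S0849
import Cfsg.Agent.Lib.Helper6.IndFun
-- import your own Cfsg.Agent.* helpers here

set_option autoImplicit false
open Cfsg

namespace Cfsg.Agent.S0849

open Cfsg.Agent.Lib.Helper6

theorem isConj_conj' {G : Type*} [Group G] {a y : G} (x : G) :
    IsConj a (x⁻¹ * y * x) ↔ IsConj a y := by
  rw [isConj_iff, isConj_iff]
  constructor
  · rintro ⟨c, hc⟩
    exact ⟨x * c, by
      calc x * c * a * (x * c)⁻¹ = x * (c * a * c⁻¹) * x⁻¹ := by group
        _ = x * (x⁻¹ * y * x) * x⁻¹ := by rw [hc]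
        _ = y := by group⟩
  · rintro ⟨c, hc⟩
    exact ⟨x⁻¹ * c, by rw [← hc]; group⟩

theorem sq_eq_one_of_isConj {G : Type*} [Group G] {u a : G} (hu : orderOf u = 2)
    (h : IsConj u a) : a * a = 1 := by
  rw [isConj_iff] at h
  obtain ⟨c, rfl⟩ := h
  have : u * u = 1 := by
    have := pow_orderOf_eq_one u
    rwa [hu, pow_two] at this
  calc c * u * c⁻¹ * (c * u * c⁻¹) = c * (u * u) * c⁻¹ := by group
    _ = 1 := by rw [this]; group

/-- Let H be a subgroup of a finite group G and S a subset of H that is mapped to itself under conjugation by H, is disjoint from its conjugate by any element outside H, and is closed under inverses. Let φ be a class function of H vanishing on H away from S, and let u, v be involutions of G. Then the sum of the induced function of φ over all products a * b with a conjugate to u and b conjugate to v equals the index of H times the sum of φ (a * b) over such pairs with a and b in H. -/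
theorem result {G : Type*} [Group G] [Fintype G] (H : Subgroup G) (S : Set G) (hSH : S ⊆ H) (hHS : ∀ h ∈ H, ∀ s ∈ S, h * s * h⁻¹ ∈ S) (hTI : ∀ g : G, g ∉ H → ∀ s ∈ S, g * s * g⁻¹ ∉ S) (hinv : ∀ s ∈ S, s⁻¹ ∈ S) (φ : H → ℂ) (hφ : Cfsg.IsClassFunction H φ) (hφS : ∀ x : H, (x : G) ∉ S → φ x = 0) (u v : G) (hu : orderOf u = 2) (hv : orderOf v = 2) : ∑ᶠ p ∈ {p : G × G | IsConj u p.1 ∧ IsConj v p.2}, Cfsg.indFun H φ (p.1 * p.2) = (H.index : ℂ) * ∑ᶠ p ∈ {p : H × H | IsConj u (p.1 : G) ∧ IsConj v (p.2 : G)}, φ (p.1 * p.2) := by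
  classical
  have : Fintype H := Fintype.ofFinite H
  rw [finsum_mem_eq_sum_ite, finsum_mem_eq_sum_ite]
  -- abbreviations
  set P : G × G → Prop := fun p => IsConj u p.1 ∧ IsConj v p.2 with hP
  set T : ℂ := ∑ p : G × G, if P p then Cfsg.extendByZero H φ (p.1 * p.2) else 0 with hT
  -- Step 1: LHS = |H|⁻¹ * |G| * T
  have step1 : (∑ p : G × G, if p ∈ {p : G × G | IsConj u p.1 ∧ IsConj v p.2} then
      Cfsg.indFun H φ (p.1 * p.2) else 0) = (Nat.card H : ℂ)⁻¹ * ((Nat.card G : ℂ) * T) := by
    have h1 : ∀ p : G × G, (if p ∈ {p : G × G | IsConj u p.1 ∧ IsConj v p.2} then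
        Cfsg.indFun H φ (p.1 * p.2) else 0) =
        (Nat.card H : ℂ)⁻¹ * ∑ x : G, if P p then
          Cfsg.extendByZero H φ (x⁻¹ * (p.1 * p.2) * x) else 0 := by
      intro p
      by_cases hp : P p
      · have hp' : p ∈ {p : G × G | IsConj u p.1 ∧ IsConj v p.2} := hp
        simp only [hp', if_true, hp, indFun_apply]
      · have hp' : p ∉ {p : G × G | IsConj u p.1 ∧ IsConj v p.2} := hp
        simp only [hp', if_false, hp, Finset.sum_const_zero, mul_zero]
    simp only [h1]
    rw [← Finset.mul_sum, Finset.sum_comm]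
    congr 1
    have h2 : ∀ x : G, (∑ p : G × G, if P p then
        Cfsg.extendByZero H φ (x⁻¹ * (p.1 * p.2) * x) else 0) = T := by
      intro x
      rw [hT]
      -- reindex by conjugation
      let e : G × G ≃ G × G :=
        { toFun := fun p => (x⁻¹ * p.1 * x, x⁻¹ * p.2 * x)
          invFun := fun p => (x * p.1 * x⁻¹, x * p.2 * x⁻¹)
          left_inv := fun p => by ext <;> simp [mul_assoc]
          right_inv := fun p => by ext <;> simp [mul_assoc] }
      rw [← Equiv.sum_comp e (fun p => if P p then Cfsg.extendByZero H φ (p.1 * p.2) else 0)]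
      apply Finset.sum_congr rfl
      intro p _
      have hPe : P (e p) ↔ P p := by
        simp only [hP, e, Equiv.coe_fn_mk]
        rw [isConj_conj', isConj_conj']
      have hprod : (e p).1 * (e p).2 = x⁻¹ * (p.1 * p.2) * x := by
        simp only [e, Equiv.coe_fn_mk]; group
      simp only [hPe, hprod]
    simp only [h2, Finset.sum_const, Finset.card_univ, nsmul_eq_mul, Nat.card_eq_fintype_card]
  -- Step 2: T equals the sum over H × H
  have step2 : T = ∑ p : H × H, if p ∈ {p : H × H | IsConj u (p.1 : G) ∧ IsConj v (p.2 : G)} then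
      φ (p.1 * p.2) else 0 := by
    rw [hT]
    let ι : H × H ↪ G × G :=
      ⟨fun p => ((p.1 : G), (p.2 : G)), fun p q h => by
        have h1 := congrArg Prod.fst h
        have h2 := congrArg Prod.snd h
        simp only at h1 h2
        exact Prod.ext (Subtype.ext h1) (Subtype.ext h2)⟩
    have hmap : (∑ p : H × H, if p ∈ {p : H × H | IsConj u (p.1 : G) ∧ IsConj v (p.2 : G)} then
        φ (p.1 * p.2) else 0) =
        ∑ q ∈ (Finset.univ : Finset (H × H)).map ι,
          if P q then Cfsg.extendByZero H φ (q.1 * q.2) else 0 := by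
      rw [Finset.sum_map]
      apply Finset.sum_congr rfl
      intro p _
      have : (ι p).1 * (ι p).2 = ((p.1 * p.2 : H) : G) := rfl
      rw [this, extendByZero_coe]
      rfl
    rw [hmap]
    symm
    apply Finset.sum_subset (Finset.subset_univ _)
    intro q _ hq
    -- q not in the image: the term vanishes
    by_cases hPq : P q
    · simp only [hPq, if_true]
      by_cases hmem : q.1 * q.2 ∈ H
      · rw [extendByZero_mem H φ hmem]
        by_cases hS : q.1 * q.2 ∈ S
        · exfalso
          apply hq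
          -- both q.1 and q.2 lie in H
          have ha := sq_eq_one_of_isConj hu hPq.1
          have hb := sq_eq_one_of_isConj hv hPq.2
          have hainv : q.1⁻¹ = q.1 := inv_eq_of_mul_eq_one_left ha
          have hbinv : q.2⁻¹ = q.2 := inv_eq_of_mul_eq_one_left hb
          have hconj : q.1 * (q.1 * q.2) * q.1⁻¹ = (q.1 * q.2)⁻¹ := by
            rw [mul_inv_rev, hainv, hbinv, ← mul_assoc, ha, one_mul]
          have h1H : q.1 ∈ H := by
            by_contra hnot
            exact hTI q.1 hnot _ hS (hconj ▸ hinv _ hS)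
          have h2H : q.2 ∈ H := by
            have : q.2 = q.1⁻¹ * (q.1 * q.2) := by group
            rw [this]
            exact H.mul_mem (H.inv_mem h1H) hmem
          rw [Finset.mem_map]
          exact ⟨(⟨q.1, h1H⟩, ⟨q.2, h2H⟩), Finset.mem_univ _, rfl⟩
        · exact hφS ⟨_, hmem⟩ hS
      · exact extendByZero_not_mem H φ hmem
    · simp only [hPq, if_false]
  rw [step1, ← step2]
  have hH : (Nat.card H : ℂ) ≠ 0 := by exact_mod_cast (Nat.card_pos (α := H)).ne'
  have hidx : (Nat.card G : ℂ) = (H.index : ℂ) * (Nat.card H : ℂ) := by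
    rw [← Nat.cast_mul, mul_comm, Subgroup.card_mul_index]
  rw [hidx]
  field_simp

end Cfsg.Agent.S0849
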