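import Cfsg.Statements.S0850
import Cfsg.Agent.Lib.Helper6.IndFun
-- import your own Cfsg.Agent.* helpers here

set_option autoImplicit false
open Cfsg

namespace Cfsg.Agent.S0850

open Cfsg.Agent.Lib.Helper6

section
variable {G : Type*} [Group G] [Finite G]

/-- An element `y` of prime order `r` normalizing `K` and commuting with no non-identity element of
`K` forces `|K| ≡ 1 mod r`. -/
theorem card_modEq_one (K : Subgroup G) (y : G) (r : ℕ) [hr : Fact r.Prime]
    (hy : orderOf y = r) (hyN : y ∈ Subgroup.normalizer (K : Set G))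
    (hfix : ∀ k ∈ K, y * k = k * y → k = 1) : Nat.card K ≡ 1 [MOD r] := by
  classical
  -- the group zpowers y acts on K by conjugation
  have hnorm : ∀ z ∈ Subgroup.zpowers y, ∀ k ∈ K, z * k * z⁻¹ ∈ K := by
    intro z hz k hk
    have hzN : z ∈ Subgroup.normalizer (K : Set G) :=
      (Subgroup.zpowers_le.mpr hyN) hz
    exact (Subgroup.mem_normalizer_iff.mp hzN k).mp hk
  let act : MulAction (Subgroup.zpowers y) K :=
    { smul := fun z k => ⟨(z : G) * k * (z : G)⁻¹, hnorm z z.2 k k.2⟩
      one_smul := fun k => by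
        apply Subtype.ext
        change ((1 : Subgroup.zpowers y) : G) * k * ((1 : Subgroup.zpowers y) : G)⁻¹ = k
        simp
      mul_smul := fun a b k => by
        apply Subtype.ext
        change ((a * b : Subgroup.zpowers y) : G) * k * ((a * b : Subgroup.zpowers y) : G)⁻¹ =
          (a : G) * ((b : G) * k * (b : G)⁻¹) * (a : G)⁻¹
        simp only [Subgroup.coe_mul, mul_inv_rev, mul_assoc] }
  have hsmul : ∀ (z : Subgroup.zpowers y) (k : K), ((z • k : K) : G) = (z : G) * k * (z : G)⁻¹ :=
    fun _ _ => rfl
  have hP : IsPGroup r (Subgroup.zpowers y) := by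
    apply IsPGroup.of_card (n := 1)
    rw [Nat.card_zpowers, hy, pow_one]
  have key := hP.card_modEq_card_fixedPoints K
  have hfp : Nat.card (MulAction.fixedPoints (Subgroup.zpowers y) K) = 1 := by
    rw [Nat.card_eq_one_iff_unique]
    refine ⟨⟨?_⟩, ⟨⟨1, ?_⟩⟩⟩
    · rintro ⟨a, ha⟩ ⟨b, hb⟩
      apply Subtype.ext
      change a = b
      have ha1 : a = 1 := by
        apply Subtype.ext
        apply hfix a a.2
        have := congrArg Subtype.val (ha ⟨y, Subgroup.mem_zpowers y⟩)
        rw [hsmul] at this
        simp only at this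
        calc y * a = (y * a * y⁻¹) * y := by group
          _ = a * y := by rw [this]
      have hb1 : b = 1 := by
        apply Subtype.ext
        apply hfix b b.2
        have := congrArg Subtype.val (hb ⟨y, Subgroup.mem_zpowers y⟩)
        rw [hsmul] at this
        simp only at this
        calc y * b = (y * b * y⁻¹) * y := by group
          _ = b * y := by rw [this]
      rw [ha1, hb1]
    · intro z
      apply Subtype.ext
      rw [hsmul]
      simp
  rw [hfp] at key
  exact key

end

/-- Let K be a subgroup of the finite group G that meets each conjugate by an element outside its normalizer N trivially, is properly contained in N, and contains the centralizer of each of its non-identity elements (a T.I. subgroup with Frobenius normalizer). Then no element of N outside K is conjugate in G to an element of K, and for every class function ϑ of N that vanishes on N away from K and at the identity, the function induced from ϑ to G agrees with ϑ on all of N. -/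
theorem result {G : Type*} [Group G] [Fintype G] (K : Subgroup G) (hTI : ∀ g : G, g ∉ Subgroup.normalizer (K : Set G) → ∀ k ∈ K, g * k * g⁻¹ ∈ K → k = 1) (hlt : K < Subgroup.normalizer (K : Set G)) (hC : ∀ k ∈ K, k ≠ 1 → Subgroup.centralizer ({k} : Set G) ≤ K) : (∀ x ∈ Subgroup.normalizer (K : Set G), x ∉ K → ∀ g : G, g * x * g⁻¹ ∉ K) ∧ ∀ (ϑ : Subgroup.normalizer (K : Set G) → ℂ), Cfsg.IsClassFunction (Subgroup.normalizer (K : Set G)) ϑ → (∀ x : Subgroup.normalizer (K : Set G), (x : G) ∉ K → ϑ x = 0) → ϑ 1 = 0 → ∀ x : Subgroup.normalizer (K : Set G), Cfsg.indFun (Subgroup.normalizer (K : Set G)) ϑ x = ϑ x := by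
  classical
  have part1 : ∀ x ∈ Subgroup.normalizer (K : Set G), x ∉ K → ∀ g : G, g * x * g⁻¹ ∉ K := by
    intro x hxN hxK g hgx
    have hx1 : x ≠ 1 := fun h => hxK (h ▸ K.one_mem)
    have hord : orderOf x ≠ 1 := fun h => hx1 (orderOf_eq_one_iff.mp h)
    obtain ⟨r, hr, hrdvd⟩ := Nat.exists_prime_and_dvd hord
    have : Fact r.Prime := ⟨hr⟩
    obtain ⟨m, hm⟩ := hrdvd
    -- x' = x^m has order r
    have hxfin : 0 < orderOf x := orderOf_pos x
    have hm0 : m ≠ 0 := by
      rintro rfl; rw [mul_zero] at hm; omega
    have hx'ord : orderOf (x ^ m) = r := by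
      rw [orderOf_pow' x hm0, hm, Nat.gcd_eq_right (Dvd.intro_left r rfl), Nat.mul_div_cancel _ (Nat.pos_of_ne_zero hm0)]
    have hx'N : x ^ m ∈ Subgroup.normalizer (K : Set G) := Subgroup.pow_mem _ hxN m
    have hx'1 : x ^ m ≠ 1 := by
      intro h
      rw [h, orderOf_one] at hx'ord
      exact hr.one_lt.ne' hx'ord.symm
    -- x' ∉ K
    have hx'K : x ^ m ∉ K := by
      intro hmem
      have : x ∈ Subgroup.centralizer ({x ^ m} : Set G) := by
        rw [Subgroup.mem_centralizer_singleton_iff]
        exact (pow_mul_comm' x m).symm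
      exact hxK (hC _ hmem hx'1 this)
    -- conjugate of x' lies in K and has order r
    have hconj : g * x ^ m * g⁻¹ ∈ K := by
      have : g * x ^ m * g⁻¹ = (g * x * g⁻¹) ^ m := by
        rw [conj_pow]
      rw [this]; exact K.pow_mem hgx m
    have hconj_ord : orderOf (g * x ^ m * g⁻¹) = r := by
      rw [← hx'ord]
      exact (MulAut.conj g).orderOf_eq (x ^ m)
    have hrK : r ∣ Nat.card K := by
      rw [← hconj_ord]
      have := orderOf_dvd_natCard (⟨g * x ^ m * g⁻¹, hconj⟩ : K)
      rwa [Subgroup.orderOf_mk] at this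
    -- fixed-point-free action
    have hfix : ∀ k ∈ K, x ^ m * k = k * x ^ m → k = 1 := by
      intro k hk hcomm
      by_contra hk1
      have : x ^ m ∈ Subgroup.centralizer ({k} : Set G) := by
        rw [Subgroup.mem_centralizer_singleton_iff]
        exact hcomm
      exact hx'K (hC k hk hk1 this)
    have hmod := card_modEq_one K (x ^ m) r hx'ord hx'N hfix
    have h0 : Nat.card K ≡ 0 [MOD r] := (Nat.modEq_zero_iff_dvd).mpr hrK
    have : (1 : ℕ) ≡ 0 [MOD r] := hmod.symm.trans h0
    rw [Nat.modEq_zero_iff_dvd] at this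
    exact hr.one_lt.ne' (Nat.dvd_one.mp this)
  refine ⟨part1, ?_⟩
  set N := Subgroup.normalizer (K : Set G) with hN
  intro ϑ hcf hvan h1 x
  rw [indFun_apply]
  -- each summand
  have hterm : ∀ g : G, Cfsg.extendByZero N ϑ (g⁻¹ * (x : G) * g) = if g ∈ N then ϑ x else 0 := by
    intro g
    split_ifs with hg
    · have hmem : g⁻¹ * (x : G) * g ∈ N := N.mul_mem (N.mul_mem (N.inv_mem hg) x.2) hg
      rw [extendByZero_mem N ϑ hmem]
      have := hcf x (⟨g, hg⟩⁻¹ : N)
      rw [← this]
      congr 1
      apply Subtype.ext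
      simp
    · -- g ∉ N
      by_cases hmem : g⁻¹ * (x : G) * g ∈ N
      · rw [extendByZero_mem N ϑ hmem]
        by_cases hK : g⁻¹ * (x : G) * g ∈ K
        · -- then x = 1 or contradiction
          by_cases hxK : (x : G) ∈ K
          · have hginv : g⁻¹ ∉ N := fun h => hg (by simpa using N.inv_mem h)
            have := hTI g⁻¹ hginv (x : G) hxK (by simpa using hK)
            have hx1 : x = 1 := Subtype.ext this
            have : (⟨g⁻¹ * (x : G) * g, hmem⟩ : N) = 1 := by
              apply Subtype.ext; simp [hx1]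
            rw [this, h1]
          · exact absurd (by simpa using hK) (part1 (x : G) x.2 hxK g⁻¹)
        · exact hvan ⟨_, hmem⟩ hK
      · rw [extendByZero_not_mem N ϑ hmem]
  simp only [hterm]
  rw [Finset.sum_ite, Finset.sum_const_zero, add_zero, Finset.sum_const, nsmul_eq_mul]
  have hcard : (Finset.univ.filter (fun g : G => g ∈ N)).card = Nat.card N := by
    rw [← Fintype.card_subtype, Nat.card_eq_fintype_card]
  rw [hcard]
  have hne : (Nat.card N : ℂ) ≠ 0 := by exact_mod_cast (Nat.card_pos (α := N)).ne'
  field_simp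

end Cfsg.Agent.S0850
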