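import Cfsg.Statements.S0859
import Mathlib
import Cfsg.Agent.Lib.Helper2.MGroup
import Cfsg.Agent.Lib.Helper6.Clifford
import Cfsg.Agent.Lib.Helper6.CliffordCorr
import Cfsg.Agent.Lib.Helper6.CentralHom
import Cfsg.Agent.Lib.Helper6.LinChar
import Cfsg.Agent.Lib.Helper6.CharNorm
import Cfsg.Agent.Lib.Helper24.NormalDegrees
import Cfsg.Agent.Lib.Helper24.IrrFacts
import Cfsg.Agent.Lib.Lead.CharOrtho

set_option autoImplicit false
open Cfsg

namespace Cfsg.Agent.S0859

open Cfsg.Agent.CharLib Cfsg.Agent.Lib.Helper6 Cfsg.Agent.Lib.Helper24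
open Cfsg.Agent.Lib
open scoped commutatorElement

universe u

/-- **Transfer lemma.** In a finite group with abelian Sylow subgroups, an invariant linear
character of a normal subgroup contained in the derived subgroup is trivial. -/
theorem hom_eq_one_of_abelian_sylow {N : Type u} [Group N] [Finite N]
    (hab : ∀ (p : ℕ) [Fact p.Prime] (P : Sylow p N), ∀ a ∈ P, ∀ b ∈ P, a * b = b * a)
    (A : Subgroup N) [hAn : A.Normal] (hA : A ≤ commutator N) (θ : A →* ℂˣ)
    (hinv : ∀ (x : N) (a : A), θ ⟨x⁻¹ * a * x, by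
      have := hAn.conj_mem (a : N) a.2 x⁻¹; rwa [inv_inv] at this⟩ = θ a) (a : A) : θ a = 1 := by
  classical
  by_contra hne
  have hfin : IsOfFinOrder (θ a) := by
    rw [isOfFinOrder_iff_pow_eq_one]
    exact ⟨orderOf a, orderOf_pos a, by rw [← map_pow, pow_orderOf_eq_one, map_one]⟩
  have hd1 : orderOf (θ a) ≠ 1 := fun h => hne (orderOf_eq_one_iff.mp h)
  obtain ⟨r, hr, hrd⟩ := Nat.exists_prime_and_dvd hd1
  have : Fact r.Prime := ⟨hr⟩
  let P : Sylow r N := default
  -- it suffices that θ a ^ [N : P] = 1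
  suffices h : θ a ^ (P : Subgroup N).index = 1 by
    have h1 : orderOf (θ a) ∣ (P : Subgroup N).index := orderOf_dvd_of_pow_eq_one h
    exact P.not_dvd_index (hrd.trans h1)
  let _ : CommGroup ↥(P : Subgroup N) :=
    { (inferInstance : Group ↥(P : Subgroup N)) with
      mul_comm := fun x y => Subtype.ext (hab r P x x.2 y y.2) }
  let B : Subgroup ↥(P : Subgroup N) := A.subgroupOf (P : Subgroup N)
  let ι : ↥B →* ↥A :=
    { toFun := fun b => ⟨((b : ↥(P : Subgroup N)) : N), Subgroup.mem_subgroupOf.mp b.2⟩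
      map_one' := rfl
      map_mul' := fun _ _ => rfl }
  let θB : ↥B →* ℂˣ := θ.comp ι
  have hne0 : NeZero ((Monoid.exponent ↥(P : Subgroup N) : ℕ) : ℂ) :=
    ⟨by exact_mod_cast Monoid.exponent_ne_zero_of_finite⟩
  obtain ⟨ϕ, hϕ⟩ := MonoidHom.domRestrict_surjective (G := ↥(P : Subgroup N)) (M := ℂ) B θB
  have hϕB : ∀ b : ↥B, ϕ (b : ↥(P : Subgroup N)) = θB b := by
    intro b
    have := congrArg (fun f : ↥B →* ℂˣ => f b) hϕ
    exact this
  -- the transfer kills the commutator subgroup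
  have hker : ϕ.transfer (a : N) = 1 := by
    have h1 := Abelianization.commutator_subset_ker (ϕ.transfer : N →* ℂˣ)
    exact h1 (hA a.2)
  have : Fintype (Quotient (MulAction.orbitRel (Subgroup.zpowers (a : N)) (N ⧸ (P : Subgroup N)))) :=
    Fintype.ofFinite _
  rw [MonoidHom.transfer_eq_prod_quotient_orbitRel_zpowers_quot] at hker
  have hfac : ∀ q : Quotient (MulAction.orbitRel (Subgroup.zpowers (a : N)) (N ⧸ (P : Subgroup N))),
      ϕ ⟨q.out.out⁻¹ * (a : N) ^ Function.minimalPeriod ((a : N) • ·) q.out * q.out.out,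
        QuotientGroup.out_conj_pow_minimalPeriod_mem (P : Subgroup N) (a : N) q.out⟩ =
      θ a ^ Function.minimalPeriod ((a : N) • ·) q.out := by
    intro q
    set f := Function.minimalPeriod ((a : N) • ·) q.out with hf
    set x := q.out.out with hx
    have hmemP : x⁻¹ * (a : N) ^ f * x ∈ (P : Subgroup N) :=
      QuotientGroup.out_conj_pow_minimalPeriod_mem (P : Subgroup N) (a : N) q.out
    have hmemA : x⁻¹ * (a : N) ^ f * x ∈ A := by
      have := hAn.conj_mem ((a : N) ^ f) (A.pow_mem a.2 f) x⁻¹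
      rwa [inv_inv] at this
    let b : ↥B := ⟨⟨x⁻¹ * (a : N) ^ f * x, hmemP⟩, Subgroup.mem_subgroupOf.mpr hmemA⟩
    have h1 := hϕB b
    have h2 : θB b = θ ⟨x⁻¹ * ((a ^ f : A) : N) * x, by
        have := hAn.conj_mem ((a ^ f : A) : N) (a ^ f : A).2 x⁻¹; rwa [inv_inv] at this⟩ := rfl
    rw [h2, hinv x (a ^ f), map_pow] at h1
    exact h1
  rw [Finset.prod_congr rfl (fun q _ => hfac q), Finset.prod_pow_eq_pow_sum,
    ← Subgroup.index_eq_sum_minimalPeriod] at hker
  exact hker

/-- every `p`-subgroup of `N` is abelian. -/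
def AbSyl (H : Type u) [Group H] (N : Subgroup H) : Prop :=
  ∀ (p : ℕ) [Fact p.Prime] (Q : Subgroup H), IsPGroup p Q → Q ≤ N →
    ∀ a ∈ Q, ∀ b ∈ Q, a * b = b * a

/-- monomial characters. -/
def Mono (H : Type u) [Group H] [Fintype H] (ψ : H → ℂ) : Prop :=
  ∃ (U : Subgroup H) (lam : U → ℂ), IsCharacter U lam ∧ lam 1 = 1 ∧ indFun U lam = ψ

/-- Step I: a non-invariant constituent on a term of the derived series of `N`. -/
theorem exists_noninvariant {H : Type u} [Group H] [Fintype H] (N : Subgroup H) [hNn : N.Normal]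
    [hsol : Group.IsSolvable N] (hab : AbSyl H N) (ψ : H → ℂ) (hψ : IsIrrCharacter H ψ)
    (hφ : IsIrrCharacter N (resFun N ψ)) (hdeg : ψ 1 ≠ 1) :
    ∃ (A : Subgroup H) (_ : A.Normal) (_ : Fintype A) (θ : A → ℂ), A ≤ N ∧ IsIrrCharacter A θ ∧
      classInner (resFun A ψ) θ ≠ 0 ∧ ∃ g : H, Helper6.conjFun A g θ ≠ θ := by
  classical
  by_contra hcon
  push Not at hcon
  have hψc : IsCharacter H ψ := IsIrrCharacter.isCharacter hψ
  have hψcf : IsClassFunction H ψ := IsCharacter.isClassFunction hψc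
  let Ai : ℕ → Subgroup H := fun i => (derivedSeries ↥N i).map N.subtype
  have hAin : ∀ i, (Ai i).Normal := fun i => ConjAct.normal_of_characteristic_of_normal
  have hAiN : ∀ i, Ai i ≤ N := fun i => Subgroup.map_subtype_le _
  let P : ℕ → Prop := fun i => ∀ a ∈ Ai i, ψ a = ψ 1
  obtain ⟨m, hm⟩ := hsol.solvable
  have hPm : P m := by
    intro a ha
    have : Ai m = ⊥ := by
      show (derivedSeries ↥N m).map N.subtype = ⊥
      rw [hm, Subgroup.map_bot]
    rw [this, Subgroup.mem_bot] at ha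
    rw [ha]
  have hP1 : ¬ P 1 := by
    intro h1
    apply hdeg
    have h2 : ∀ g k : N, resFun N ψ ⁅g, k⁆ = resFun N ψ 1 := by
      intro g k
      rw [resFun_apply, resFun_apply]
      apply h1
      refine ⟨⁅g, k⁆, ?_, rfl⟩
      rw [derivedSeries_one, commutator_def]
      exact Subgroup.commutator_mem_commutator (Subgroup.mem_top _) (Subgroup.mem_top _)
    have := IsIrrCharacter.apply_one_eq_one_of_commutator hφ h2
    rwa [resFun_apply] at this
  have hP0 : ¬ P 0 := by
    intro h0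
    apply hP1
    intro a ha
    apply h0
    obtain ⟨x, hx, rfl⟩ := ha
    exact ⟨x, derivedSeries_antitone (G := ↥N) (Nat.zero_le 1) hx, rfl⟩
  let i₁ := Nat.find (⟨m, hPm⟩ : ∃ i, P i)
  have hi₁ : P i₁ := Nat.find_spec (⟨m, hPm⟩ : ∃ i, P i)
  have hi₁0 : i₁ ≠ 0 := fun h => hP0 (h ▸ hi₁)
  have hi₁1 : i₁ ≠ 1 := fun h => hP1 (h ▸ hi₁)
  obtain ⟨i, hi⟩ : ∃ i, i₁ = i + 1 := ⟨i₁ - 1, by omega⟩
  have hi1 : 1 ≤ i := by omega
  have hnPi : ¬ P i := Nat.find_min (⟨m, hPm⟩ : ∃ i, P i) (by omega)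
  have hPi1 : P (i + 1) := hi ▸ hi₁
  apply hnPi
  -- the subgroup A = A_i
  set A : Subgroup H := Ai i with hAdef
  have hAn : A.Normal := hAin i
  have hFA : Fintype A := Fintype.ofFinite _
  have hresne : resFun A ψ ≠ 0 := by
    intro h
    have h1 := congrFun h 1
    rw [resFun_apply] at h1
    exact irr_apply_one_ne_zero ⟨ψ, hψ⟩ h1
  obtain ⟨θ, hθ, hc0⟩ := IsCharacter.exists_constituent (isCharacter_resFun A hψc) hresne
  have hinvθ : ∀ g : H, Helper6.conjFun A g θ = θ := hcon A hAn hFA θ (hAiN i) hθ hc0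
  have hcl := clifford_of_invariant A hψ hθ hc0 hinvθ
  set c := classInner (resFun A ψ) θ with hc
  have hval : ∀ y : A, ψ y = c * θ y := by
    intro y
    have := congrFun hcl y
    rwa [resFun_apply, Pi.smul_apply, smul_eq_mul] at this
  -- θ is linear
  have hθ1 : θ 1 = 1 := by
    apply IsIrrCharacter.apply_one_eq_one_of_commutator hθ
    intro g k
    have h1 : ψ ((⁅g, k⁆ : A) : H) = ψ 1 := by
      apply hPi1
      show ((⁅g, k⁆ : A) : H) ∈ (derivedSeries ↥N (i + 1)).map N.subtype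
      rw [derivedSeries_succ, Subgroup.map_commutator]
      have hg : (g : H) ∈ Ai i := g.2
      have hk : (k : H) ∈ Ai i := k.2
      have : ((⁅g, k⁆ : A) : H) = ⁅(g : H), (k : H)⁆ := by
        simp [commutatorElement_def]
      rw [this]
      exact Subgroup.commutator_mem_commutator hg hk
    have h2 := hval ⁅g, k⁆
    have h3 := hval 1
    rw [h1] at h2
    rw [Subgroup.coe_one] at h3
    rw [h3] at h2
    exact (mul_left_cancel₀ hc0 h2).symm
  have hθc : IsCharacter A θ := IsIrrCharacter.isCharacter hθ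
  have hc1 : c = ψ 1 := by
    have := hval 1
    rw [Subgroup.coe_one, hθ1, mul_one] at this
    exact this.symm
  -- apply the transfer lemma in the group N
  let A' : Subgroup ↥N := derivedSeries ↥N i
  have hA'n : A'.Normal := inferInstance
  have hA'le : A' ≤ commutator ↥N := by
    rw [← derivedSeries_one]
    exact derivedSeries_antitone (G := ↥N) hi1
  let e : ↥A' ≃* ↥A := A'.equivMapOfInjective N.subtype N.subtype_injective
  let θ' : ↥A' →* ℂˣ := (linCharUnitsHom hθc hθ1).comp e.toMonoidHom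
  have hθ'val : ∀ a : A', ((θ' a : ℂˣ) : ℂ) = θ (e a) := fun a => rfl
  have hcoe : ∀ a : A', ((e a : A) : H) = ((a : ↥N) : H) := fun a =>
    Subgroup.coe_equivMapOfInjective_apply _ _ _ a
  have habN : ∀ (p : ℕ) [Fact p.Prime] (Q : Sylow p ↥N), ∀ a ∈ Q, ∀ b ∈ Q, a * b = b * a := by
    intro p _ Q a ha b hb
    apply Subtype.ext
    have := hab p ((Q : Subgroup ↥N).map N.subtype) (IsPGroup.map Q.2 N.subtype)
      (Subgroup.map_subtype_le _) (a : H) ⟨a, ha, rfl⟩ (b : H) ⟨b, hb, rfl⟩
    simpa using this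
  have hinv' : ∀ (x : ↥N) (a : A'), θ' ⟨x⁻¹ * a * x, by
      have := hA'n.conj_mem (a : ↥N) a.2 x⁻¹; rwa [inv_inv] at this⟩ = θ' a := by
    intro x a
    apply Units.ext
    rw [hθ'val, hθ'val]
    apply mul_left_cancel₀ hc0
    rw [← hval, ← hval, hcoe, hcoe]
    show ψ (((x⁻¹ * (a : ↥N) * x : ↥N)) : H) = ψ ((a : ↥N) : H)
    have := hψcf ((a : ↥N) : H) ((x⁻¹ : ↥N) : H)
    simpa using this
  have htriv := hom_eq_one_of_abelian_sylow habN A' hA'le θ' hinv'
  intro y hy
  obtain ⟨a, ha, rfl⟩ := hy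
  have h1 := htriv ⟨a, ha⟩
  have h2 : ((θ' ⟨a, ha⟩ : ℂˣ) : ℂ) = 1 := by rw [h1]; rfl
  rw [hθ'val] at h2
  have h3 := hval (e ⟨a, ha⟩)
  rw [h2, mul_one, hcoe, hc1] at h3
  exact h3

theorem classInner_self_ne_zero {A : Type u} [Group A] [Fintype A] {f : A → ℂ} (h : f 1 ≠ 0) :
    classInner f f ≠ 0 := by
  unfold classInner
  have hne : (Nat.card A : ℂ) ≠ 0 := by exact_mod_cast Nat.card_pos.ne'
  apply mul_ne_zero (inv_ne_zero hne)
  have h1 : ∀ x : A, f x * (starRingEnd ℂ) (f x) = ((Complex.normSq (f x) : ℝ) : ℂ) :=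
    fun x => Complex.mul_conj (f x)
  rw [Finset.sum_congr rfl (fun x _ => h1 x), ← Complex.ofReal_sum]
  have hpos : 0 < ∑ x : A, Complex.normSq (f x) := by
    apply Finset.sum_pos'
    · intro x _; exact Complex.normSq_nonneg _
    · exact ⟨1, Finset.mem_univ _, Complex.normSq_pos.mpr h⟩
  exact_mod_cast hpos.ne'

/-- Step II: if `ψ = η^H` restricts irreducibly to the normal subgroup `N`, then `η` restricts
irreducibly to `N ∩ T`. -/
theorem restrict_inter_irreducible {H : Type u} [Group H] [Fintype H] (N : Subgroup H)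
    [hNn : N.Normal] (ψ : H → ℂ) (hψ : IsIrrCharacter H ψ)
    (hφ : IsIrrCharacter N (resFun N ψ)) (T : Subgroup H) [Fintype T] (η : T → ℂ)
    (hη : IsIrrCharacter T η) (hind : indFun T η = ψ) :
    IsIrrCharacter (N.subgroupOf T) (resFun (N.subgroupOf T) η) := by
  classical
  have hψc : IsCharacter H ψ := IsIrrCharacter.isCharacter hψ
  have hψcf : IsClassFunction H ψ := IsCharacter.isClassFunction hψc
  have hηc : IsCharacter T η := IsIrrCharacter.isCharacter hη
  let _ : Fintype ↥N := Fintype.ofFinite _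
  let NT : Subgroup ↥T := N.subgroupOf T
  let TN : Subgroup ↥N := T.subgroupOf N
  let _ : Fintype ↥NT := Fintype.ofFinite _
  let _ : Fintype ↥TN := Fintype.ofFinite _
  let e : ↥TN ≃* ↥NT :=
    { toFun := fun x => ⟨⟨((x : ↥N) : H), Subgroup.mem_subgroupOf.mp x.2⟩,
        Subgroup.mem_subgroupOf.mpr (x : ↥N).2⟩
      invFun := fun y => ⟨⟨((y : ↥T) : H), Subgroup.mem_subgroupOf.mp y.2⟩,
        Subgroup.mem_subgroupOf.mpr (y : ↥T).2⟩
      left_inv := fun x => rfl
      right_inv := fun y => rfl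
      map_mul' := fun x y => rfl }
  set η' : ↥NT → ℂ := resFun NT η with hη'
  have hη'c : IsCharacter ↥NT η' := isCharacter_resFun NT hηc
  have hη1 : η 1 ≠ 0 := irr_apply_one_ne_zero ⟨η, hη⟩
  have hη'1 : η' 1 = η 1 := rfl
  let φ : ↥N → ℂ := resFun N ψ
  -- η is a constituent of ψ_T
  have hηψ : classInner (resFun T ψ) η = 1 := by
    have h1 := frobenius_reciprocity T η hψcf
    rw [hind, classInner_irr hψ hψ, if_pos rfl] at h1
    have h2 : classInner (resFun T ψ) η = (starRingEnd ℂ) (classInner η (resFun T ψ)) := by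
      unfold classInner
      rw [map_mul, map_sum, map_inv₀, Complex.conj_natCast]
      congr 1
      apply Finset.sum_congr rfl
      intro x _
      rw [map_mul, Complex.conj_conj, mul_comm]
    rw [h2]
    have h3 : classInner η (resFun T ψ) = 1 := h1.symm
    rw [h3, map_one]
  have hΔ : IsCharacter T (resFun T ψ - η) :=
    IsCharacter.sub_constituent (isCharacter_resFun T hψc) hη (by rw [hηψ]; exact one_ne_zero)
  have hΔ' : IsCharacter ↥NT (resFun NT (resFun T ψ - η)) := isCharacter_resFun NT hΔ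
  obtain ⟨s, hs⟩ := IsCharacter.classInner_nat hη'c hη'c
  obtain ⟨t, ht⟩ := IsCharacter.classInner_nat hη'c hΔ'
  have hs0 : s ≠ 0 := by
    intro h0
    rw [h0, Nat.cast_zero] at hs
    exact classInner_self_ne_zero (f := η') (by rw [hη'1]; exact hη1) hs
  -- c = s + t
  have hc : classInner η' (resFun NT (resFun T ψ)) = ((s + t : ℕ) : ℂ) := by
    have : resFun NT (resFun T ψ) = η' + resFun NT (resFun T ψ - η) := by
      rw [hη', ← map_add]
      congr 1
      abel
    rw [this, classInner_add_right, hs, ht]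
    push_cast; rfl
  -- Frobenius reciprocity in N
  let η'' : ↥TN → ℂ := η' ∘ e
  have hη''c : IsCharacter ↥TN η'' := IsCharacter.comp_hom hη'c e.toMonoidHom
  have hφcf : IsClassFunction ↥N φ := IsCharacter.isClassFunction (IsIrrCharacter.isCharacter hφ)
  have hfrob := frobenius_reciprocity TN η'' hφcf
  have hrw : (fun h : ↥TN => φ h) = (resFun NT (resFun T ψ)) ∘ e := by
    funext x
    rfl
  rw [hrw, classInner_comp_mulEquiv e, hc] at hfrob
  -- decomposition of the induced character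
  let _ := fintypeIrr ↥N
  have hΦc : IsCharacter ↥N (indFun TN η'') := IsCharacter.indFun TN hη''c
  obtain ⟨m, hm, hcoef⟩ := IsCharacter.exists_decomp_sum hΦc
  have hmφ : m ⟨φ, hφ⟩ = s + t := by
    have := hcoef ⟨φ, hφ⟩
    rw [hfrob] at this
    exact_mod_cast this.symm
  -- degrees
  have hdeg1 : indFun TN η'' 1 = ((∑ χ : IrrCharacter ↥N, m χ * charDegree (χ : ↥N → ℂ) : ℕ) : ℂ) := by
    conv_lhs => rw [hm]
    rw [Finset.sum_apply]
    push_cast
    apply Finset.sum_congr rfl
    intro χ _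
    rw [Pi.smul_apply, nsmul_eq_mul, irr_apply_one χ]
  have hdeg2 : indFun TN η'' 1 = (Nat.card ↥TN : ℂ)⁻¹ * (Nat.card ↥N : ℂ) * η 1 := by
    rw [Cfsg.Agent.Lib.Helper6.indFun_apply_one]
    rfl
  have hdeg3 : ψ 1 = (Nat.card ↥T : ℂ)⁻¹ * (Nat.card H : ℂ) * η 1 := by
    rw [← hind, Cfsg.Agent.Lib.Helper6.indFun_apply_one]
  have hdφ : ((charDegree φ : ℕ) : ℂ) = ψ 1 := by
    have := irr_apply_one (⟨φ, hφ⟩ : IrrCharacter ↥N)
    exact this.symm
  obtain ⟨dη, hdη0, hdη⟩ := Cfsg.Agent.CharLib.IsIrrCharacter.apply_one_pos hη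
  -- natural number identities
  have hTNcard : Nat.card ↥TN = Nat.card ↥NT := Nat.card_congr e.toEquiv
  set a := Nat.card ↥NT with ha
  have hapos : 0 < a := Nat.card_pos
  have hTpos : 0 < Nat.card ↥T := Nat.card_pos
  have hS : Nat.card ↥N * dη = a * ∑ χ : IrrCharacter ↥N, m χ * charDegree (χ : ↥N → ℂ) := by
    have h1 := hdeg1.symm.trans hdeg2
    rw [hTNcard, hdη] at h1
    have hane : (a : ℂ) ≠ 0 := by exact_mod_cast hapos.ne'
    have h2 : (Nat.card ↥N : ℂ) * (dη : ℂ) = (a : ℂ) *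
        ((∑ χ : IrrCharacter ↥N, m χ * charDegree (χ : ↥N → ℂ) : ℕ) : ℂ) := by
      rw [h1]; field_simp
    exact_mod_cast h2
  have hD : charDegree φ * Nat.card ↥T = Nat.card H * dη := by
    have h1 := hdφ.trans hdeg3
    rw [hdη] at h1
    have hTne : (Nat.card ↥T : ℂ) ≠ 0 := by exact_mod_cast hTpos.ne'
    have h2 : ((charDegree φ : ℕ) : ℂ) * (Nat.card ↥T : ℂ) = (Nat.card H : ℂ) * (dη : ℂ) := by
      rw [h1]; field_simp
    exact_mod_cast h2
  have hle : m ⟨φ, hφ⟩ * charDegree φ ≤ ∑ χ : IrrCharacter ↥N, m χ * charDegree (χ : ↥N → ℂ) :=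
    Finset.single_le_sum (f := fun χ : IrrCharacter ↥N => m χ * charDegree (χ : ↥N → ℂ))
      (fun _ _ => Nat.zero_le _) (Finset.mem_univ (⟨φ, hφ⟩ : IrrCharacter ↥N))
  -- |N| |T| ≤ |H| a
  have hNT : Nat.card ↥N * Nat.card ↥T ≤ Nat.card H * a := by
    have h1 : N.relIndex T ∣ N.index := Subgroup.relIndex_dvd_index_of_normal N T
    have h2 : N.relIndex T * a = Nat.card ↥T := by
      have := Subgroup.card_mul_index NT
      rw [mul_comm]; exact this
    have h3 : Nat.card ↥N * N.index = Nat.card H := N.card_mul_index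
    have h4 : N.relIndex T ≤ N.index := Nat.le_of_dvd (Nat.pos_of_ne_zero Subgroup.index_ne_zero_of_finite) h1
    calc Nat.card ↥N * Nat.card ↥T = Nat.card ↥N * (N.relIndex T * a) := by rw [h2]
      _ ≤ Nat.card ↥N * (N.index * a) := by gcongr
      _ = Nat.card H * a := by rw [← h3]; ring
  -- conclude s + t ≤ 1
  have hst : s + t ≤ 1 := by
    rw [hmφ] at hle
    by_contra hgt
    push Not at hgt
    have hdηpos : 0 < dη := Nat.pos_of_ne_zero (by
      rintro rfl
      apply hη1
      rw [hdη]; simp)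
    have h1 : a * ((s + t) * charDegree φ) * Nat.card ↥T ≤ Nat.card ↥N * dη * Nat.card ↥T := by
      rw [hS]; gcongr
    have h2 : a * ((s + t) * charDegree φ) * Nat.card ↥T = a * (s + t) * (Nat.card H * dη) := by
      rw [← hD]; ring
    rw [h2] at h1
    have h3 : a * (s + t) * Nat.card H ≤ Nat.card ↥N * Nat.card ↥T := by
      apply Nat.le_of_mul_le_mul_right _ hdηpos
      calc a * (s + t) * Nat.card H * dη = a * (s + t) * (Nat.card H * dη) := by ring
        _ ≤ Nat.card ↥N * dη * Nat.card ↥T := h1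
        _ = Nat.card ↥N * Nat.card ↥T * dη := by ring
    have h4 : a * (s + t) * Nat.card H ≤ Nat.card H * a := h3.trans hNT
    have hHpos : 0 < Nat.card H := Nat.card_pos
    have h5 : 2 * (a * Nat.card H) ≤ a * (s + t) * Nat.card H := by
      have : 2 ≤ s + t := hgt
      calc 2 * (a * Nat.card H) = a * 2 * Nat.card H := by ring
        _ ≤ a * (s + t) * Nat.card H := by gcongr
    have h6 : 0 < a * Nat.card H := Nat.mul_pos hapos hHpos
    nlinarith
  have hs1 : s = 1 := by omega
  apply isIrrCharacter_of_classInner_self_eq_one hη'c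
  rw [hs, hs1, Nat.cast_one]

theorem absyl_subgroup {H : Type u} [Group H] (N T : Subgroup H) (h : AbSyl H N) :
    AbSyl ↥T (N.subgroupOf T) := by
  intro p _ Q hQ hQN a ha b hb
  apply Subtype.ext
  have hQ' : IsPGroup p (Q.map T.subtype) := IsPGroup.map hQ T.subtype
  have hle : Q.map T.subtype ≤ N := by
    rintro _ ⟨x, hx, rfl⟩
    exact Subgroup.mem_subgroupOf.mp (hQN hx)
  have := h p (Q.map T.subtype) hQ' hle (a : H) ⟨a, ha, rfl⟩ (b : H) ⟨b, hb, rfl⟩
  simpa using this

theorem mono_of_subgroup {H : Type u} [Group H] [Fintype H] (T : Subgroup H) [Fintype T]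
    (η : T → ℂ) (ψ : H → ℂ) (hind : indFun T η = ψ) (h : Mono ↥T η) : Mono H ψ := by
  classical
  obtain ⟨U', lam, hlam, hlam1, hlamind⟩ := h
  let e := U'.equivMapOfInjective T.subtype T.subtype_injective
  have hFU' : Fintype U' := Fintype.ofFinite _
  have hFU : Fintype (U'.map T.subtype) := Fintype.ofFinite _
  refine ⟨U'.map T.subtype, lam ∘ e.symm, IsCharacter.comp_hom hlam e.symm.toMonoidHom, ?_, ?_⟩
  · show lam (e.symm 1) = 1
    rw [map_one, hlam1]
  · rw [← hind, ← hlamind, Cfsg.Agent.Lib.Helper2.indFun_trans T U' lam]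

theorem mono_aux (n : ℕ) : ∀ (H : Type u) [Group H] [Fintype H] (N : Subgroup H) [N.Normal]
    [Group.IsSolvable N], Fintype.card H = n → AbSyl H N →
    ∀ ψ : H → ℂ, IsIrrCharacter H ψ → IsIrrCharacter N (resFun N ψ) → Mono H ψ := by
  induction n using Nat.strong_induction_on with
  | _ n ih =>
    intro H _ _ N hNn hsol hcard hab ψ hψ hφ
    classical
    have hψc : IsCharacter H ψ := IsIrrCharacter.isCharacter hψ
    by_cases hlin : ψ 1 = 1
    · have hFtop : Fintype (⊤ : Subgroup H) := Fintype.ofFinite _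
      refine ⟨⊤, fun h => ψ h, IsCharacter.restrict hψc ⊤, hlin, ?_⟩
      exact Cfsg.Agent.Lib.Helper2.indFun_top (IsCharacter.isClassFunction hψc)
    · obtain ⟨A, hAn, hFA, θ, hAN, hθ, hc0, g, hg⟩ := exists_noninvariant N hab ψ hψ hφ hlin
      have hθcf : IsClassFunction A θ :=
        IsCharacter.isClassFunction (IsIrrCharacter.isCharacter hθ)
      let T : Subgroup H := inertia A hθcf
      have hFT : Fintype T := Fintype.ofFinite _
      have hAT : A ≤ T := le_inertia A hθcf
      have hTne : T ≠ ⊤ := by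
        intro hT
        apply hg
        have : g ∈ T := by rw [hT]; exact Subgroup.mem_top g
        exact (mem_inertia A hθcf g).mp this
      obtain ⟨η, hη, hηind, -⟩ := exists_indFun_inertia_eq hAT hθ
        (fun g => mem_inertia A hθcf g) hψ hc0
      have hηN := restrict_inter_irreducible N ψ hψ hφ T η hη hηind
      have hlt : Fintype.card T < n := by
        rw [← hcard]
        have h1 : Nat.card T < Nat.card H := by
          apply lt_of_le_of_ne (Subgroup.card_le_card_group T)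
          intro h
          exact hTne (Subgroup.card_eq_iff_eq_top T |>.mp h)
        rwa [Nat.card_eq_fintype_card, Nat.card_eq_fintype_card] at h1
      have hNT' : (N.subgroupOf T).Normal := Subgroup.normal_subgroupOf
      have hsol' : Group.IsSolvable ↥(N.subgroupOf T) := by
        let f : ↥(N.subgroupOf T) →* ↥N :=
          { toFun := fun x => ⟨((x : ↥T) : H), Subgroup.mem_subgroupOf.mp x.2⟩
            map_one' := rfl
            map_mul' := fun _ _ => rfl }
        apply Group.isSolvable_of_isSolvable_injective (f := f)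
        intro x y hxy
        apply Subtype.ext
        apply Subtype.ext
        exact congrArg (fun z : ↥N => (z : H)) hxy
      have hm := ih (Fintype.card T) hlt T (N.subgroupOf T) rfl (absyl_subgroup N T hab) η hη hηN
      exact mono_of_subgroup T η ψ hηind hm

theorem result' {G : Type u} [Group G] [Fintype G] [hG : Group.IsSolvable G] (N : Subgroup G)
    [hNn : N.Normal]
    (hab : ∀ (p : ℕ) [Fact p.Prime] (P : Sylow p N), ∀ a ∈ P, ∀ b ∈ P, a * b = b * a)
    (hrel : ∀ χ : G → ℂ, Cfsg.IsIrrCharacter G χ → ∃ (H : Subgroup G) (hNH : N ≤ H) (ψ : H → ℂ),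
      Cfsg.IsIrrCharacter H ψ ∧ Cfsg.indFun H ψ = χ ∧
      Cfsg.IsIrrCharacter N (fun n : N => ψ ⟨(n : G), hNH n.2⟩))
    (χ : G → ℂ) (hχ : Cfsg.IsIrrCharacter G χ) :
    ∃ (U : Subgroup G) (lam : U → ℂ), Cfsg.IsCharacter U lam ∧ lam 1 = 1 ∧
      Cfsg.indFun U lam = χ := by
  classical
  obtain ⟨H, hNH, ψ, hψ, hψind, hψN⟩ := hrel χ hχ
  have hFH : Fintype H := Fintype.ofFinite _
  -- abelian p-subgroups of N
  have habG : AbSyl G N := by
    intro p _ Q hQ hQN a ha b hb
    have hQ' : IsPGroup p (Q.subgroupOf N) := hQ.comap_subtype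
    obtain ⟨P, hP⟩ := hQ'.exists_le_sylow
    have h1 := hab p P ⟨a, hQN ha⟩ (hP (Subgroup.mem_subgroupOf.mpr ha)) ⟨b, hQN hb⟩
      (hP (Subgroup.mem_subgroupOf.mpr hb))
    exact congrArg Subtype.val h1
  have hN' : (N.subgroupOf H).Normal := Subgroup.normal_subgroupOf
  have hsolN : Group.IsSolvable ↥N := inferInstance
  have hsol' : Group.IsSolvable ↥(N.subgroupOf H) := by
    let f : ↥(N.subgroupOf H) →* ↥N :=
      { toFun := fun x => ⟨((x : ↥H) : G), Subgroup.mem_subgroupOf.mp x.2⟩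
        map_one' := rfl
        map_mul' := fun _ _ => rfl }
    apply Group.isSolvable_of_isSolvable_injective (f := f)
    intro x y hxy
    apply Subtype.ext
    apply Subtype.ext
    exact congrArg (fun z : ↥N => (z : G)) hxy
  have hres : IsIrrCharacter (N.subgroupOf H) (resFun (N.subgroupOf H) ψ) := by
    have := isIrrCharacter_comp_mulEquiv' (Subgroup.subgroupOfEquivOfLe hNH) hψN
    exact this
  have hm := mono_aux (Fintype.card H) H (N.subgroupOf H) rfl (absyl_subgroup N H habG) ψ hψ hres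
  exact mono_of_subgroup H ψ χ hψind hm

/-- Let G be a finite solvable group and N a normal subgroup such that for every prime p every Sylow p-subgroup of N is abelian. Suppose every irreducible character of G is induced from an irreducible character of some subgroup containing N whose restriction to N is irreducible. Then every irreducible character of G is induced from a character of degree 1 of some subgroup. -/
theorem result {G : Type*} [Group G] [Fintype G] [Group.IsSolvable G] (N : Subgroup G) [N.Normal] (hab : ∀ (p : ℕ) [Fact p.Prime] (P : Sylow p N), ∀ a ∈ P, ∀ b ∈ P, a * b = b * a) (hrel : ∀ χ : G → ℂ, Cfsg.IsIrrCharacter G χ → ∃ (H : Subgroup G) (hNH : N ≤ H) (ψ : H → ℂ), Cfsg.IsIrrCharacter H ψ ∧ Cfsg.indFun H ψ = χ ∧ Cfsg.IsIrrCharacter N (fun n : N => ψ ⟨(n : G), hNH n.2⟩)) (χ : G → ℂ) (hχ : Cfsg.IsIrrCharacter G χ) : ∃ (U : Subgroup G) (lam : U → ℂ), Cfsg.IsCharacter U lam ∧ lam 1 = 1 ∧ Cfsg.indFun U lam = χ := by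
  exact result' N hab hrel χ hχ

end Cfsg.Agent.S0859
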