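import Cfsg.Statements.S0860
import Cfsg.Agent.Lib.Lead.CharMain
-- import your own Cfsg.Agent.* helpers here

set_option autoImplicit false
open Cfsg

namespace Cfsg.Agent.S0860

open Cfsg.Agent.CharLib
open scoped ComplexConjugate

section
variable {G : Type*} [Group G] [Fintype G]

/-- Summing a class-indexed quantity over the group, weighted by centralizer orders. -/
theorem sum_mk_mul_card_centralizer [Fintype (ConjClasses G)] (F : ConjClasses G → ℂ) :
    ∑ g : G, F (ConjClasses.mk g) * (Nat.card (Subgroup.centralizer ({g} : Set G)) : ℂ) =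
      (Nat.card G : ℂ) * ∑ C : ConjClasses G, F C := by
  classical
  rw [← Finset.sum_fiberwise Finset.univ (fun g : G => ConjClasses.mk g), Finset.mul_sum]
  apply Finset.sum_congr rfl
  intro C _
  -- the fibre over C
  set S := Finset.univ.filter (fun g : G => ConjClasses.mk g = C) with hS
  have hcard : ∀ g ∈ S, (S.card : ℂ) * (Nat.card (Subgroup.centralizer ({g} : Set G)) : ℂ) =
      (Nat.card G : ℂ) := by
    intro g hg
    rw [hS, Finset.mem_filter] at hg
    have h1 := card_conj_mul_card_centralizer g
    have h2 : Nat.card {x : G // IsConj x g} = S.card := by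
      rw [Nat.card_eq_fintype_card, Fintype.card_subtype, hS]
      congr 1
      ext x
      simp only [Finset.mem_filter, Finset.mem_univ, true_and]
      rw [← hg.2, ConjClasses.mk_eq_mk_iff_isConj]
    rw [h2] at h1
    exact_mod_cast h1
  have hne : (S.card : ℂ) ≠ 0 := by
    obtain ⟨g, hg⟩ := ConjClasses.exists_rep C
    have : g ∈ S := by rw [hS, Finset.mem_filter]; exact ⟨Finset.mem_univ _, hg⟩
    have : S.card ≠ 0 := Finset.card_ne_zero.mpr ⟨g, this⟩
    exact_mod_cast this
  have hterm : ∀ g ∈ S, F (ConjClasses.mk g) * (Nat.card (Subgroup.centralizer ({g} : Set G)) : ℂ) =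
      F C * ((Nat.card G : ℂ) / (S.card : ℂ)) := by
    intro g hg
    have h1 := hcard g hg
    have h2 : ConjClasses.mk g = C := by
      rw [hS, Finset.mem_filter] at hg; exact hg.2
    rw [h2, ← h1]; field_simp
  rw [Finset.sum_congr rfl hterm, Finset.sum_const, nsmul_eq_mul]
  field_simp

end

/-- Let a group A act on the set of irreducible characters and on the set of conjugacy classes of a finite group G in such a way that (a • χ) evaluated on the class a • C equals χ evaluated on C, for all a, χ and C. Then every element of A fixes exactly as many irreducible characters as it fixes conjugacy classes. -/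
theorem result {G : Type*} [Group G] [Finite G] {A : Type*} [Group A] [MulAction A (Cfsg.IrrCharacter G)] [MulAction A (ConjClasses G)] (hcompat : ∀ (a : A) (χ : Cfsg.IrrCharacter G) (g g' : G), ConjClasses.mk g' = a • ConjClasses.mk g → ((a • χ : Cfsg.IrrCharacter G) : G → ℂ) g' = (χ : G → ℂ) g) (a : A) : Nat.card {χ : Cfsg.IrrCharacter G // a • χ = χ} = Nat.card {C : ConjClasses G // a • C = C} := by
  classical
  have : Fintype G := Fintype.ofFinite G
  let _ := fintypeIrr G
  have : Fintype (ConjClasses G) := Fintype.ofFinite _
  have hG : (Nat.card G : ℂ) ≠ 0 := by exact_mod_cast (Nat.card_pos (α := G)).ne'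
  -- the double sum, computed in two ways
  have hL : ∑ χ : IrrCharacter G, ∑ g : G, ((a • χ : IrrCharacter G) : G → ℂ) g * conj ((χ : G → ℂ) g) =
      (Nat.card G : ℂ) * (Nat.card {χ : IrrCharacter G // a • χ = χ} : ℂ) := by
    have h1 : ∀ χ : IrrCharacter G,
        ∑ g : G, ((a • χ : IrrCharacter G) : G → ℂ) g * conj ((χ : G → ℂ) g) =
          (Nat.card G : ℂ) * (if a • χ = χ then 1 else 0) := by
      intro χ
      have := classInner_irr' (a • χ) χ
      unfold classInner at this
      rw [← this]
      field_simp
    simp only [h1]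
    rw [← Finset.mul_sum, Finset.sum_boole]
    congr 2
    rw [Nat.card_eq_fintype_card, Fintype.card_subtype]
  have hR : ∑ χ : IrrCharacter G, ∑ g : G, ((a • χ : IrrCharacter G) : G → ℂ) g * conj ((χ : G → ℂ) g) =
      (Nat.card G : ℂ) * (Nat.card {C : ConjClasses G // a • C = C} : ℂ) := by
    rw [Finset.sum_comm]
    have h1 : ∀ g : G, ∑ χ : IrrCharacter G, ((a • χ : IrrCharacter G) : G → ℂ) g * conj ((χ : G → ℂ) g) =
        (if a • ConjClasses.mk g = ConjClasses.mk g then 1 else 0) *
          (Nat.card (Subgroup.centralizer ({g} : Set G)) : ℂ) := by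
      intro g
      -- a representative of the preimage class
      set g' : G := Quotient.out (a⁻¹ • ConjClasses.mk g) with hg'
      have hmk : ConjClasses.mk g' = a⁻¹ • ConjClasses.mk g := by
        rw [hg']
        exact Quotient.out_eq _
      have hmk2 : ConjClasses.mk g = a • ConjClasses.mk g' := by
        rw [hmk, smul_inv_smul]
      have h2 : ∀ χ : IrrCharacter G, ((a • χ : IrrCharacter G) : G → ℂ) g = (χ : G → ℂ) g' :=
        fun χ => hcompat a χ g' g hmk2
      simp only [h2]
      rw [sum_irr_mul_conj g' g]
      congr 1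
      unfold classIndicator
      have hiff : IsConj g' g ↔ a • ConjClasses.mk g = ConjClasses.mk g := by
        rw [← ConjClasses.mk_eq_mk_iff_isConj, hmk]
        constructor
        · intro h
          rw [← h, smul_inv_smul, h]
        · intro h
          rw [inv_smul_eq_iff, h]
      by_cases hc : IsConj g' g
      · rw [if_pos hc, if_pos (hiff.mp hc)]
      · rw [if_neg hc, if_neg (fun h => hc (hiff.mpr h))]
    simp only [h1]
    rw [sum_mk_mul_card_centralizer (fun C => if a • C = C then 1 else 0), Finset.sum_boole]
    congr 2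
    rw [Nat.card_eq_fintype_card, Fintype.card_subtype]
  rw [hL] at hR
  have := mul_left_cancel₀ hG hR
  exact_mod_cast this

end Cfsg.Agent.S0860
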