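import Cfsg.Statements.S0863
-- import your own Cfsg.Agent.* helpers here


import Mathlib
import Cfsg.Agent.Lib.Helper6.DetExtSolv

set_option autoImplicit false
open Cfsg

namespace Cfsg.Agent.S0863

open Cfsg.Agent.Lib.Helper6 Cfsg.Agent.CharLib

/-- Let N be a normal subgroup of the finite group G with G / N solvable, and ϑ an irreducible character of N, invariant under conjugation by G, of degree d coprime to the index of N. Then ϑ is the restriction of an irreducible character of G if and only if the determinantal character of ϑ is the restriction of a character of G of degree 1. -/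
theorem result {G : Type*} [Group G] [Finite G] (N : Subgroup G) [hN : N.Normal] (hsolv : Group.IsSolvable (G ⧸ N)) (ϑ : N → ℂ) (hϑ : Cfsg.IsIrrCharacter N ϑ) (hinv : ∀ (g : G) (n : N), ϑ ⟨g * n * g⁻¹, hN.conj_mem (n : G) n.2 g⟩ = ϑ n) (d : ℕ) (hd : ϑ 1 = d) (hcop : Nat.Coprime N.index d) : (∃ χ : G → ℂ, Cfsg.IsIrrCharacter G χ ∧ (∀ n : N, χ n = ϑ n)) ↔ ∃ μ : G → ℂ, Cfsg.IsCharacter G μ ∧ μ 1 = 1 ∧ ∀ n : N, μ n = Cfsg.detChar ϑ n := by
  classical
  have hinv' : ∀ g : G, Cfsg.Agent.Lib.Helper6.conjFun N g ϑ = ϑ := by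
    intro g
    funext n
    rw [Cfsg.Agent.Lib.Helper6.conjFun_apply]
    exact hinv g n
  constructor
  · rintro ⟨χ, hχ, hχN⟩
    have hχc : IsCharacter G χ := IsIrrCharacter.isCharacter hχ
    have hdet := detChar_isCharacter hχc
    refine ⟨detChar χ, hdet.1, hdet.2, ?_⟩
    intro n
    have h1 := congrFun (detChar_resFun N hχc) n
    have h2 : resFun N χ = ϑ := by funext n; exact hχN n
    rw [h2] at h1
    exact h1.symm
  · rintro ⟨μ, hμ, hμ1, hμN⟩
    have hμN' : resFun N μ = detChar ϑ := by funext n; exact hμN n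
    obtain ⟨χ, hχ, hχN⟩ := exists_extension_of_det_extends N hsolv hϑ hinv' hd hcop hμ hμ1 hμN'
    exact ⟨χ, hχ, fun n => congrFun hχN n⟩

end Cfsg.Agent.S0863
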