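import Cfsg.Statements.S0864
-- import your own Cfsg.Agent.* helpers here


import Mathlib
import Cfsg.Agent.Lib.Helper6.LinExt

set_option autoImplicit false
open Cfsg

namespace Cfsg.Agent.S0864

open Cfsg.Agent.Lib.Helper6 Cfsg.Agent.CharLib

/-- Abstract version: an element of a commutative group lies in a subgroup as soon as for each
prime `p` dividing its order, a power with exponent prime to `p` does. -/
theorem mem_of_coprime_powers {B : Type*} [CommGroup B] (R : Subgroup B) (Λ : B)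
    (h : ∀ p : ℕ, p.Prime → p ∣ orderOf Λ → ∃ d : ℕ, Nat.Coprime d p ∧ Λ ^ d ∈ R) : Λ ∈ R := by
  by_contra hΛ
  have hne : (QuotientGroup.mk Λ : B ⧸ R) ≠ 1 := by
    intro h1
    exact hΛ ((QuotientGroup.eq_one_iff Λ).mp h1)
  have he : orderOf (QuotientGroup.mk Λ : B ⧸ R) ≠ 1 := by
    intro h1
    exact hne (orderOf_eq_one_iff.mp h1)
  obtain ⟨p, hp, hpe⟩ := Nat.exists_prime_and_dvd he
  have hdvd : orderOf (QuotientGroup.mk Λ : B ⧸ R) ∣ orderOf Λ :=
    orderOf_map_dvd (QuotientGroup.mk' R) Λ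
  obtain ⟨d, hd, hmem⟩ := h p hp (hpe.trans hdvd)
  have h2 : (QuotientGroup.mk Λ : B ⧸ R) ^ d = 1 := by
    rw [← QuotientGroup.mk_pow]
    exact (QuotientGroup.eq_one_iff _).mpr hmem
  have h3 : p ∣ d := hpe.trans (orderOf_dvd_of_pow_eq_one h2)
  have h4 : p ∣ Nat.gcd d p := Nat.dvd_gcd h3 dvd_rfl
  rw [hd] at h4
  exact hp.one_lt.ne' (Nat.dvd_one.mp h4)

/-- Let N be a normal subgroup of the finite group G and λ a character of N of degree 1 invariant under conjugation by G. Suppose that for every prime p dividing the order of λ (in the group of functions under pointwise multiplication) there is a subgroup H containing N, of index prime to p and with the index of N in H a power of p, together with a character of H of degree 1 restricting to λ. Then λ is the restriction of a character of G of degree 1. -/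
theorem result {G : Type*} [Group G] [Finite G] (N : Subgroup G) [hN : N.Normal] (lam : N → ℂ) (hlam : Cfsg.IsCharacter N lam ∧ lam 1 = 1) (hinv : ∀ (g : G) (n : N), lam ⟨g * n * g⁻¹, hN.conj_mem (n : G) n.2 g⟩ = lam n) (hsyl : ∀ p : ℕ, p.Prime → p ∣ orderOf lam → ∃ (H : Subgroup G) (hNH : N ≤ H) (ν : H → ℂ), Nat.Coprime H.index p ∧ (∃ k : ℕ, N.relIndex H = p ^ k) ∧ Cfsg.IsCharacter H ν ∧ ν 1 = 1 ∧ ∀ n : N, ν ⟨(n : G), hNH n.2⟩ = lam n) : ∃ μ : G → ℂ, Cfsg.IsCharacter G μ ∧ μ 1 = 1 ∧ ∀ n : N, μ n = lam n := by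
  classical
  obtain ⟨hchar, h1⟩ := hlam
  let Λ : N →* ℂˣ := linCharUnitsHom hchar h1
  have horder : orderOf lam = orderOf Λ := by
    rw [← orderOf_unitsHomToFun Λ]
    rfl
  let res : (G →* ℂˣ) →* (N →* ℂˣ) := MonoidHom.compHom' N.subtype
  have hres : ∀ (μ : G →* ℂˣ) (n : N), res μ n = μ (n : G) := fun μ n => rfl
  have key : Λ ∈ res.range := by
    apply mem_of_coprime_powers
    intro p hp hpo
    rw [← horder] at hpo
    obtain ⟨H, hNH, ν, hcop, -, hνchar, hν1, hνres⟩ := hsyl p hp hpo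
    let V : H →* ℂˣ := linCharUnitsHom hνchar hν1
    have hVN : ∀ n : N, V ⟨(n : G), hNH n.2⟩ = Λ n := by
      intro n
      apply Units.ext
      exact hνres n
    have hVinv : ∀ (g : G) (n : N), V ⟨g * n * g⁻¹, hNH (hN.conj_mem n n.2 g)⟩ = V ⟨n, hNH n.2⟩ := by
      intro g n
      have e1 := hVN ⟨g * n * g⁻¹, hN.conj_mem n n.2 g⟩
      have e2 : Λ ⟨g * n * g⁻¹, hN.conj_mem n n.2 g⟩ = Λ n := by
        apply Units.ext
        exact hinv g n
      rw [hVN n, ← e2, ← e1]
    refine ⟨H.index, hcop, MonoidHom.transfer V, ?_⟩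
    apply MonoidHom.ext
    intro n
    rw [hres, MonoidHom.pow_apply, transfer_apply_of_mem_normal hNH V hVinv n, hVN n]
  obtain ⟨μ, hμ⟩ := key
  refine ⟨unitsHomToFun G μ, isCharacter_of_hom μ, ?_, ?_⟩
  · rw [unitsHomToFun_apply, map_one, Units.val_one]
  · intro n
    rw [unitsHomToFun_apply, ← hres, hμ]
    rfl

end Cfsg.Agent.S0864
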