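import Cfsg.Statements.S0875
import Mathlib
import Cfsg.Agent.Lib.Helper2.BrauerAlgInt
import Cfsg.Agent.Lib.Helper2.PowerProj

set_option autoImplicit false
open Cfsg

namespace Cfsg.Agent.S0875

open Cfsg.Agent.Lib.Helper2 Cfsg.Agent.CharLib Cfsg.Agent.Lib.Helper6 in
open scoped ComplexConjugate in
theorem aux {G : Type*} [Group G] [Fintype G] (m n : ℕ) (hmn : Nat.card G = m * n)
    (hcop : Nat.Coprime m n) (g : G) (ϑ : G → ℂ)
    (hϑ1 : ∀ x : G, (∃ v : G, IsConj v g ∧ (∃ u : G, x = u * v ∧ Commute u v ∧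
      Nat.Coprime (orderOf u) n ∧ Nat.Coprime (orderOf v) m)) → ϑ x = n)
    (hϑ0 : ∀ x : G, (¬ ∃ v : G, IsConj v g ∧ (∃ u : G, x = u * v ∧ Commute u v ∧
      Nat.Coprime (orderOf u) n ∧ Nat.Coprime (orderOf v) m)) → ϑ x = 0) :
    ∃ c : Cfsg.IrrCharacter G → ℂ, (∀ χ, c χ ∈ Cfsg.AlgInt) ∧
      ϑ = ∑ᶠ χ : Cfsg.IrrCharacter G, c χ • (χ : G → ℂ) := by
  classical
  obtain ⟨e, he1, he2⟩ := Nat.chineseRemainder hcop 0 1
  have hm : m ∣ e := (Nat.modEq_zero_iff_dvd).mp he1
  have hcard : Nat.card G ∣ m * n := by rw [hmn]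
  -- the condition
  have hP : ∀ x : G, (∃ v : G, IsConj v g ∧ (∃ u : G, x = u * v ∧ Commute u v ∧
      Nat.Coprime (orderOf u) n ∧ Nat.Coprime (orderOf v) m)) ↔ IsConj (x ^ e) g := by
    intro x
    constructor
    · rintro ⟨v, hvg, u, rfl, huv, hu, hv⟩
      have hu' : orderOf u ∣ m :=
        hu.dvd_of_dvd_mul_right ((orderOf_dvd_natCard u).trans hcard)
      have hv' : orderOf v ∣ n :=
        hv.dvd_of_dvd_mul_left ((orderOf_dvd_natCard v).trans hcard)
      rw [huv.mul_pow, pow_eq_one_of_orderOf_dvd' hm hu', one_mul,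
        pow_eq_self_of_orderOf_dvd he2 hv']
      exact hvg
    · intro hconj
      obtain ⟨u, hxu, hcomm, hu⟩ := exists_commuting_decomp hcard hm he2 hcop x
      refine ⟨x ^ e, hconj, u, hxu, hcomm, ?_, ?_⟩
      · exact Nat.Coprime.coprime_dvd_left hu hcop
      · exact Nat.Coprime.coprime_dvd_left (orderOf_pow_dvd_of_card hcard hm x) hcop.symm
  have hϑ : ∀ x : G, ϑ x = if IsConj (x ^ e) g then (n : ℂ) else 0 := by
    intro x
    by_cases h : IsConj (x ^ e) g
    · rw [if_pos h]; exact hϑ1 x ((hP x).mpr h)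
    · rw [if_neg h]; exact hϑ0 x (fun h' => h ((hP x).mp h'))
  have hcf : IsClassFunction G ϑ := by
    intro x h
    rw [hϑ, hϑ]
    have h1 : (h * x * h⁻¹) ^ e = h * x ^ e * h⁻¹ := conj_pow
    rw [h1]
    have h2 : IsConj (h * x ^ e * h⁻¹) g ↔ IsConj (x ^ e) g := by
      constructor
      · intro hc
        exact (isConj_iff.mpr ⟨h, rfl⟩ : IsConj (x ^ e) (h * x ^ e * h⁻¹)).trans hc
      · intro hc
        exact (isConj_iff.mpr ⟨h, rfl⟩ : IsConj (x ^ e) (h * x ^ e * h⁻¹)).symm.trans hc
    simp only [h2]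
  -- integrality on elementary subgroups
  have hint : ∀ χ : IrrCharacter G, IsIntegral ℤ (classInner ϑ (χ : G → ℂ)) := by
    apply brauer_characterization_algInt hcf
    intro E hFE q hq hEl ψ
    have hcardE : Nat.card E ∣ m * n := (Subgroup.card_subgroup_dvd_card E).trans hcard
    let f : E →* E := powHom hq hEl hcardE hcop hm he2
    have hFB : Fintype f.range := Fintype.ofFinite _
    let β : f.range → ℂ := fun b => if IsConj (((b : E) : G)) g then (n : ℂ) else 0
    have hβcf : IsClassFunction f.range β := by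
      intro b h
      show (if IsConj ((((h * b * h⁻¹ : f.range) : E) : G)) g then (n : ℂ) else 0) =
        if IsConj (((b : E) : G)) g then (n : ℂ) else 0
      have h2 : IsConj ((((h * b * h⁻¹ : f.range) : E) : G)) g ↔ IsConj (((b : E) : G)) g := by
        have h3 : (((h * b * h⁻¹ : f.range) : E) : G) =
            ((h : E) : G) * ((b : E) : G) * ((h : E) : G)⁻¹ := by
          push_cast; rfl
        rw [h3]
        constructor
        · intro hc
          exact (isConj_iff.mpr ⟨_, rfl⟩ : IsConj ((b : E) : G) _).trans hc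
        · intro hc
          exact (isConj_iff.mpr ⟨_, rfl⟩ : IsConj ((b : E) : G) _).symm.trans hc
      simp only [h2]
    have hBn : Nat.card f.range ∣ n := by
      apply card_dvd_of_forall_orderOf_dvd hcardE hcop
      rintro _ ⟨x, rfl⟩
      exact orderOf_pow_dvd_of_card hcardE hm x
    obtain ⟨k, hk⟩ := hBn
    have hβint : ∀ μ : IrrCharacter f.range, IsIntegral ℤ (classInner β (μ : f.range → ℂ)) := by
      intro μ
      unfold classInner
      have hBne : (Nat.card f.range : ℂ) ≠ 0 := by
        have : 0 < Nat.card f.range := Nat.card_pos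
        exact_mod_cast this.ne'
      have h1 : (Nat.card f.range : ℂ)⁻¹ * ∑ b : f.range, β b * conj ((μ : f.range → ℂ) b) =
          ∑ b : f.range, (if IsConj (((b : E) : G)) g then (k : ℂ) else 0) *
            conj ((μ : f.range → ℂ) b) := by
        rw [Finset.mul_sum]
        apply Finset.sum_congr rfl
        intro b _
        show (Nat.card f.range : ℂ)⁻¹ * ((if IsConj (((b : E) : G)) g then (n : ℂ) else 0) *
          conj ((μ : f.range → ℂ) b)) = _
        split_ifs
        · rw [hk]; push_cast; field_simp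
        · simp
      rw [h1]
      apply IsIntegral.sum
      intro b _
      apply IsIntegral.mul
      · split_ifs
        · exact isIntegral_natCast' k
        · exact isIntegral_zero
      · obtain ⟨d, σ, hσ, hσμ⟩ := μ.2
        have : conj ((μ : f.range → ℂ) b) = (μ : f.range → ℂ) b⁻¹ := by
          rw [IsCharacter.apply_inv (IsIrrCharacter.isCharacter μ.2)]
        rw [this, ← hσμ]
        exact isIntegral_char σ _
    have h4 := isIntegral_classInner_comp f.rangeRestrict hβcf hβint ψ
    have h5 : (fun x : E => β (f.rangeRestrict x)) = fun x : E => ϑ x := by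
      funext x
      rw [hϑ]
      show (if IsConj ((((f.rangeRestrict x : f.range) : E) : G)) g then (n : ℂ) else 0) = _
      have : (((f.rangeRestrict x : f.range) : E) : G) = (x : G) ^ e := by
        show ((f x : E) : G) = _
        rw [powHom_apply]
        push_cast; rfl
      rw [this]
    rw [h5] at h4
    exact h4
  refine ⟨fun χ => classInner ϑ (χ : G → ℂ), hint, classFunction_eq_finsum hcf⟩

/-- Let G be a finite group of order m * n with m and n coprime, and g an element whose order is coprime to m. Every x in G factors uniquely as x = u * v with u, v commuting, the order of u coprime to n and the order of v coprime to m; let ϑ be the function on G equal to n at those x whose factor v is conjugate to g and equal to 0 elsewhere. Then ϑ is a linear combination of the irreducible characters of G with algebraic-integer coefficients. -/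
theorem result {G : Type*} [Group G] [Fintype G] (m n : ℕ) (hmn : Nat.card G = m * n) (hcop : Nat.Coprime m n) (g : G) (hg : Nat.Coprime (orderOf g) m) (ϑ : G → ℂ) (hϑ1 : ∀ x : G, (∃ v : G, IsConj v g ∧ (∃ u : G, x = u * v ∧ Commute u v ∧ Nat.Coprime (orderOf u) n ∧ Nat.Coprime (orderOf v) m)) → ϑ x = n) (hϑ0 : ∀ x : G, (¬ ∃ v : G, IsConj v g ∧ (∃ u : G, x = u * v ∧ Commute u v ∧ Nat.Coprime (orderOf u) n ∧ Nat.Coprime (orderOf v) m)) → ϑ x = 0) : ∃ c : Cfsg.IrrCharacter G → ℂ, (∀ χ, c χ ∈ Cfsg.AlgInt) ∧ ϑ = ∑ᶠ χ : Cfsg.IrrCharacter G, c χ • (χ : G → ℂ) := by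
  exact aux m n hmn hcop g ϑ hϑ1 hϑ0

end Cfsg.Agent.S0875
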