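import Cfsg.Statements.S0876
-- import your own Cfsg.Agent.* helpers here

import Mathlib
import Cfsg.Agent.Lib.Helper6.HallPart
import Cfsg.Agent.Lib.Helper6.PRegular

set_option autoImplicit false
open Cfsg

namespace Cfsg.Agent.S0876

open Cfsg.Agent.Lib.Helper6 Cfsg.Agent.Lib.Helper24 Cfsg.Agent.CharLib

/-- Let G be a finite group, p a prime and M a maximal ideal of the ring of algebraic integers containing p. Let x, y be elements with p-parts a and b (so a⁻¹ * x and b⁻¹ * y are their p-regular parts). Then a⁻¹ * x and b⁻¹ * y are conjugate in G if and only if, for every irreducible character χ, the difference χ x - χ y lies in the local ideal at M. -/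
theorem result {G : Type*} [Group G] [Finite G] (p : ℕ) (M : Ideal Cfsg.AlgInt) (hM : Cfsg.IsPModular p M) (x y a b : G) (ha : Cfsg.IsPPart p x a) (hb : Cfsg.IsPPart p y b) : IsConj (a⁻¹ * x) (b⁻¹ * y) ↔ ∀ χ : Cfsg.IrrCharacter G, Cfsg.MemLocalIdeal M ((χ : G → ℂ) x - (χ : G → ℂ) y) := by
  classical
  have hpp : p.Prime := hM.1
  haveI : Fact p.Prime := ⟨hpp⟩
  have hprime : M.IsPrime := isPrime_of_isPModular hM
  let _ := Fintype.ofFinite G
  let _ := fintypeIrr G
  constructor
  · intro hconj χ
    have hχ : IsCharacter G (χ : G → ℂ) := IsIrrCharacter.isCharacter χ.2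
    have h1 := memLocalIdeal_char_sub_pRegPart hM hχ ha
    have h2 := memLocalIdeal_char_sub_pRegPart hM hχ hb
    have h3 : (χ : G → ℂ) (a⁻¹ * x) = (χ : G → ℂ) (b⁻¹ * y) :=
      IsClassFunction.of_isConj (IsCharacter.isClassFunction hχ) hconj
    have h4 := memLocalIdeal_sub h1 h2
    rw [h3] at h4
    have h5 : (χ : G → ℂ) x - (χ : G → ℂ) (b⁻¹ * y) - ((χ : G → ℂ) y - (χ : G → ℂ) (b⁻¹ * y)) =
        (χ : G → ℂ) x - (χ : G → ℂ) y := by ring
    rwa [h5] at h4
  · intro hall
    by_contra hnc
    -- |G| = m n with m the p-part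
    set m := p ^ (Nat.card G).factorization p with hm
    set n := Nat.card G / m with hn
    have hcard0 : Nat.card G ≠ 0 := Nat.card_pos.ne'
    have hmn : Nat.card G = m * n := (Nat.ordProj_mul_ordCompl_eq_self (Nat.card G) p).symm
    have hpn : Nat.Coprime p n := Nat.coprime_ordCompl hpp hcard0
    have hcop : Nat.Coprime m n := Nat.Coprime.pow_left _ hpn
    obtain ⟨c, hc1, hc2⟩ := Nat.chineseRemainder hcop 0 1
    have hcm : m ∣ c := (Nat.modEq_zero_iff_dvd).mp hc1
    -- x ^ c and y ^ c are the p-regular parts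
    have hpart : ∀ {z e : G}, IsPPart p z e → z ^ c = e⁻¹ * z := by
      intro z e hz
      obtain ⟨w, hzw, hcomm, ⟨k, hk⟩, hw⟩ := hz
      have h1 : e⁻¹ * z = w := by rw [← hzw, inv_mul_cancel_left]
      rw [h1, ← hzw, hcomm.mul_pow]
      have h2 : e ^ c = 1 := by
        apply pow_eq_one_of_coprime_of_dvd hmn hcm
        rw [hk]
        exact Nat.Coprime.pow_left k hpn
      have h3 : w ^ c = w := by
        apply pow_eq_self_of_coprime_of_modEq hmn hc2
        rw [hm]
        exact Nat.Coprime.pow_right _ ((Nat.Prime.coprime_iff_not_dvd hpp).mpr hw).symm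
      rw [h2, h3, one_mul]
    set g := a⁻¹ * x with hg
    have hϑx : hallFun c n g x = n := by
      unfold hallFun
      rw [if_pos]
      rw [hpart ha]
    have hϑy : hallFun c n g y = 0 := by
      unfold hallFun
      rw [if_neg]
      rw [hpart hb]
      intro h
      exact hnc h.symm
    have hdec := classFunction_eq_sum (hallFun_isClassFunction c n g)
    have hx := congrFun hdec x
    have hy := congrFun hdec y
    rw [Finset.sum_apply] at hx hy
    have hdiff : (n : ℂ) = ∑ χ : IrrCharacter G, classInner (hallFun c n g) (χ : G → ℂ) *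
        ((χ : G → ℂ) x - (χ : G → ℂ) y) := by
      have h1 : (n : ℂ) = hallFun c n g x - hallFun c n g y := by rw [hϑx, hϑy, sub_zero]
      rw [h1, hx, hy, ← Finset.sum_sub_distrib]
      apply Finset.sum_congr rfl
      intro χ _
      simp only [Pi.smul_apply, smul_eq_mul]
      ring
    have hmem : MemLocalIdeal M (n : ℂ) := by
      rw [hdiff]
      apply sum_memLocalIdeal
      intro χ _
      apply memLocalIdeal_mul_left _ (hall χ)
      have h1 := isIntegral_classInner_hallFun hmn hcop hcm hc2 g (IsIrrCharacter.isCharacter χ.2)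
      exact memLocalRing_of_algInt ⟨_, h1⟩ hprime.one_notMem
    have hnd : ¬ p ∣ n := (Nat.Prime.coprime_iff_not_dvd hpp).mp hpn
    have h1 : ((n : AlgInt) : ℂ) = (n : ℂ) := by simp
    rw [← h1, memLocalIdeal_coe_iff] at hmem
    exact natCast_not_mem_of_not_dvd hM hnd hmem

end Cfsg.Agent.S0876
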