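import Cfsg.Statements.S0879
import Mathlib
import Cfsg.Agent.Lib.Helper5.Zassenhaus

set_option autoImplicit false
open Cfsg

namespace Cfsg.Agent.S0879

section Aux

open MulAction SubMulAction Cfsg.Agent.Lib.Helper5 Cfsg.Agent.Lib.Helper5.Zass

theorem main {G Ω : Type*} [Group G] [Finite G] [MulAction G Ω] [Fintype Ω] (hZ : Cfsg.IsZassenhausGroup G Ω) {a b : Ω} (hab : a ≠ b) : (∀ g : G, g ∉ Subgroup.normalizer ((MulAction.stabilizer G a ⊓ MulAction.stabilizer G b : Subgroup G) : Set G) → ∀ x ∈ (MulAction.stabilizer G a ⊓ MulAction.stabilizer G b : Subgroup G), g * x * g⁻¹ ∈ (MulAction.stabilizer G a ⊓ MulAction.stabilizer G b : Subgroup G) → x = 1) ∧ ((MulAction.stabilizer G a ⊓ MulAction.stabilizer G b : Subgroup G).subgroupOf (Subgroup.normalizer ((MulAction.stabilizer G a ⊓ MulAction.stabilizer G b : Subgroup G) : Set G))).index = 2 := by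
  constructor
  · intro g hg x hx hgx
    by_contra hx1
    simp only [Subgroup.mem_inf, MulAction.mem_stabilizer_iff] at hx hgx
    exact hg (mem_normalizer_of_perm g (perm_of_conj_mem hZ hab g x hx1 hx.1 hx.2 hgx.1 hgx.2))
  · rw [Subgroup.index_eq_two_iff]
    obtain ⟨s, hsa, hsb⟩ : ∃ s : G, s • a = b ∧ s • b = a :=
      MulAction.is_two_pretransitive_iff.mp hZ.2.1 hab (Ne.symm hab)
    have hsN := mem_normalizer_of_perm (a := a) (b := b) s (Or.inr ⟨hsa, hsb⟩)
    obtain ⟨x, hx1, hxa, hxb⟩ := zass_two_point_ne hZ hab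
    refine ⟨⟨s, hsN⟩, ?_⟩
    rintro ⟨n, hn⟩
    have hxE : x ∈ (MulAction.stabilizer G a ⊓ MulAction.stabilizer G b : Subgroup G) := by
      simp only [Subgroup.mem_inf, MulAction.mem_stabilizer_iff]; exact ⟨hxa, hxb⟩
    have hnx := (Subgroup.mem_normalizer_iff.mp hn x).mp hxE
    simp only [Subgroup.mem_inf, MulAction.mem_stabilizer_iff] at hnx
    have hperm := perm_of_conj_mem hZ hab n x hx1 hxa hxb hnx.1 hnx.2
    simp only [Subgroup.mem_subgroupOf, Subgroup.coe_mul, Subgroup.mem_inf,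
      MulAction.mem_stabilizer_iff, mul_smul, hsa, hsb]
    rcases hperm with ⟨h1, h2⟩ | ⟨h1, h2⟩
    · right
      refine ⟨⟨h1, h2⟩, ?_⟩
      rintro ⟨h3, _⟩
      exact hab (h3.symm.trans h2)
    · left
      refine ⟨⟨h2, h1⟩, ?_⟩
      rintro ⟨h3, _⟩
      exact hab (h3.symm.trans h1)

end Aux

/-- Let G be a Zassenhaus group on the finite set Ω and E the stabilizer of two distinct points a, b. Then an element outside the normalizer of E conjugates no non-identity element of E into E, and E has index 2 in its normalizer. -/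
theorem result {G Ω : Type*} [Group G] [Finite G] [MulAction G Ω] [Fintype Ω] (hZ : Cfsg.IsZassenhausGroup G Ω) {a b : Ω} (hab : a ≠ b) : (∀ g : G, g ∉ Subgroup.normalizer ((MulAction.stabilizer G a ⊓ MulAction.stabilizer G b : Subgroup G) : Set G) → ∀ x ∈ (MulAction.stabilizer G a ⊓ MulAction.stabilizer G b : Subgroup G), g * x * g⁻¹ ∈ (MulAction.stabilizer G a ⊓ MulAction.stabilizer G b : Subgroup G) → x = 1) ∧ ((MulAction.stabilizer G a ⊓ MulAction.stabilizer G b : Subgroup G).subgroupOf (Subgroup.normalizer ((MulAction.stabilizer G a ⊓ MulAction.stabilizer G b : Subgroup G) : Set G))).index = 2 := by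
  exact main hZ hab

end Cfsg.Agent.S0879
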