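import Cfsg.Statements.S0880
import Cfsg.Agent.Lib.Helper5.ZassOdd

set_option autoImplicit false
open Cfsg

namespace Cfsg.Agent.S0880

theorem arith (N e f k : ℤ) (hN : 3 ≤ N) (he : 3 ≤ e) (hk : 0 ≤ k)
    (h1 : 2 * f + (N - 1) * (N - 2) = N * (N - 1) * e) (h2 : f * k = N * (N - 1) * e) :
    False := by
  have hm : (N - 1) * ((N * e - N + 2) * k - 2 * N * e) = 0 := by
    linear_combination 2 * h2 - k * h1
  have hN1 : N - 1 ≠ 0 := by omega
  have h3 : (N * e - N + 2) * k = 2 * N * e := by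
    rcases mul_eq_zero.mp hm with h | h
    · exact absurd h hN1
    · linarith
  have hNe : 3 * N ≤ N * e := by nlinarith
  by_cases hk3 : 3 ≤ k
  · have h4 : (N * e - N + 2) * 3 ≤ (N * e - N + 2) * k :=
      mul_le_mul_of_nonneg_left hk3 (by linarith)
    nlinarith
  · have hk' : k = 0 ∨ k = 1 ∨ k = 2 := by omega
    rcases hk' with rfl | rfl | rfl
    · nlinarith
    · nlinarith
    · nlinarith

/-- Let G be a finite simple Zassenhaus group on Ω with n points whose two-point stabilizer E has odd order less than n - 2. Then there are two elements of G, each fixing no point of Ω, that are not conjugate. -/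
theorem result {G Ω : Type*} [Group G] [Finite G] [MulAction G Ω] [Fintype Ω] (hZ : Cfsg.IsZassenhausGroup G Ω) {a b : Ω} (hab : a ≠ b) [IsSimpleGroup G] (hodd : Odd (Nat.card ↥(MulAction.stabilizer G a ⊓ MulAction.stabilizer G b : Subgroup G))) (hlt : Nat.card ↥(MulAction.stabilizer G a ⊓ MulAction.stabilizer G b : Subgroup G) < Fintype.card Ω - 2) : ∃ x y : G, (∀ c : Ω, x • c ≠ c) ∧ (∀ c : Ω, y • c ≠ c) ∧ ¬ IsConj x y := by
  classical
  haveI : Fintype G := Fintype.ofFinite G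
  have hZ' := hZ
  obtain ⟨hfaith, h2, h3, h4, h5⟩ := hZ
  obtain ⟨a0, b0, c0, h01, h02, h12⟩ := Cfsg.Agent.Lib.Helper5.Zass.zass_three hZ'
  have hN : 3 ≤ Fintype.card Ω := Fintype.two_lt_card_iff.mpr ⟨a0, b0, c0, h01, h02, h12⟩
  obtain ⟨e, he⟩ : ∃ e : ℕ, e = Nat.card ↥(MulAction.stabilizer G a ⊓ MulAction.stabilizer G b :
    Subgroup G) := ⟨_, rfl⟩
  rw [← he] at hodd
  have he3 : 3 ≤ e := by
    have hpos : 0 < e := by rw [he]; exact Nat.card_pos
    have hne1 : e ≠ 1 := by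
      intro h1
      rw [he] at h1
      obtain ⟨x, hx1, hxa, hxb⟩ := Cfsg.Agent.Lib.Helper5.Zass.zass_two_point_ne hZ' hab
      have hsub := (Nat.card_eq_one_iff_unique.mp h1).1
      have hxm : x ∈ (MulAction.stabilizer G a ⊓ MulAction.stabilizer G b : Subgroup G) :=
        Subgroup.mem_inf.mpr ⟨hxa, hxb⟩
      have := hsub.elim (⟨x, hxm⟩ : ↥(MulAction.stabilizer G a ⊓ MulAction.stabilizer G b :
        Subgroup G)) 1
      exact hx1 (congrArg Subtype.val this)
    obtain ⟨k, hk⟩ := hodd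
    omega
  have hG := Cfsg.Agent.Lib.Helper5.ZassOdd.two_trans_card h2 hab
  rw [← he] at hG
  have hcount := Cfsg.Agent.Lib.Helper15.ZassenhausCount.count_fpf h2 h3 (by omega)
  rw [← Nat.card_eq_fintype_card (α := G), hG] at hcount
  obtain ⟨N, hNdef⟩ : ∃ N : ℕ, N = Fintype.card Ω := ⟨_, rfl⟩
  rw [← hNdef] at hcount hN hG
  obtain ⟨f, hf⟩ : ∃ f : ℕ, f = Nat.card {g : G // ∀ P : Ω, g • P ≠ P} := ⟨_, rfl⟩
  rw [← hf] at hcount
  have hN1 : ((N - 1 : ℕ) : ℤ) = (N : ℤ) - 1 := by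
    rw [Nat.cast_sub (by omega)]; simp
  push_cast at hcount
  rw [hN1] at hcount
  have hNz : (3 : ℤ) ≤ N := by exact_mod_cast hN
  have hez : (3 : ℤ) ≤ e := by exact_mod_cast he3
  by_contra hcon
  push Not at hcon
  have hfpos : 0 < f := by
    by_contra hcon'
    have hf0 : f = 0 := by omega
    rw [hf0] at hcount
    push_cast at hcount
    have h1 : (N : ℤ) * ((N : ℤ) - 1) * 3 ≤ (N : ℤ) * ((N : ℤ) - 1) * e :=
      mul_le_mul_of_nonneg_left hez (by nlinarith)
    nlinarith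
  have hfne : Nonempty {g : G // ∀ P : Ω, g • P ≠ P} :=
    (Nat.card_pos_iff.mp (by rw [← hf]; exact hfpos)).1
  obtain ⟨⟨x, hx⟩⟩ := hfne
  have horb : MulAction.orbit (ConjAct G) x = {g : G | ∀ P : Ω, g • P ≠ P} := by
    ext g
    rw [ConjAct.mem_orbit_conjAct, Set.mem_setOf_eq]
    constructor
    · intro hgx
      obtain ⟨c, hc⟩ := isConj_iff.mp hgx
      intro P hP
      apply hx (c • P)
      rw [← hc, mul_smul, mul_smul, inv_smul_smul, hP]
    · intro hg
      exact hcon g x hg hx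
  have h1 := MulAction.index_stabilizer (ConjAct G) x
  have h2' := Subgroup.card_mul_index (MulAction.stabilizer (ConjAct G) x)
  rw [h1, horb] at h2'
  have h3' : ({g : G | ∀ P : Ω, g • P ≠ P} : Set G).ncard = f := by
    rw [hf]
    exact (Nat.card_coe_set_eq _).symm
  rw [h3'] at h2'
  have h4' : Nat.card (ConjAct G) = Nat.card G := rfl
  rw [h4', hG] at h2'
  have h5' : ((Nat.card (MulAction.stabilizer (ConjAct G) x) : ℕ) : ℤ) * f =
      (N : ℤ) * ((N : ℤ) - 1) * e := by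
    rw [← hN1]
    exact_mod_cast h2'
  exact arith N e f (Nat.card (MulAction.stabilizer (ConjAct G) x)) hNz hez (by positivity) hcount
    (by rw [mul_comm]; exact h5')

end Cfsg.Agent.S0880
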