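import Cfsg.Statements.S0890


import Mathlib
import Cfsg.Agent.Lib.Helper6.BergerB
import Cfsg.Agent.Lib.Helper6.BergerC

set_option autoImplicit false

open Cfsg Cfsg.Agent.CharLib Cfsg.Agent.Lib.Helper6 Cfsg.Agent.Lib.Helper6.Berger
  Cfsg.Agent.Lib.Helper1

namespace Cfsg.Agent.S0890

/-- Let L ≤ H < G with L normal in G, H a maximal subgroup and G / L solvable. Let ϑ be an irreducible character of H whose restriction to L is irreducible and whose induction χ to G is irreducible. Then there is a normal subgroup M of G containing L such that the restriction of χ to M is not a natural-number multiple of a single irreducible character of M. -/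
theorem result {G : Type*} [Group G] [Fintype G] (L H : Subgroup G) [L.Normal] (hLH : L ≤ H) (hmax : IsCoatom H) (hsolv : Group.IsSolvable (G ⧸ L)) (ϑ : H → ℂ) (hϑ : Cfsg.IsIrrCharacter H ϑ) (hϑL : Cfsg.IsIrrCharacter L (fun x : L => ϑ ⟨(x : G), hLH x.2⟩)) (hind : Cfsg.IsIrrCharacter G (Cfsg.indFun H ϑ)) : ∃ M : Subgroup G, M.Normal ∧ L ≤ M ∧ ¬ ∃ (φ : M → ℂ) (e : ℕ), Cfsg.IsIrrCharacter M φ ∧ (fun m : M => Cfsg.indFun H ϑ m) = (e : ℂ) • φ := by
  classical
  by_contra hcon
  push Not at hcon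
  have hLN : L ≤ H.normalCore := Subgroup.normal_le_normalCore.mpr hLH
  have hNH : H.normalCore ≤ H := Subgroup.normalCore_le H
  -- solvability of G / core
  have hsolvN : Group.IsSolvable (G ⧸ H.normalCore) := by
    haveI := hsolv
    let f : G ⧸ L →* G ⧸ H.normalCore :=
      QuotientGroup.map L H.normalCore (MonoidHom.id G) (fun x hx => hLN hx)
    have hf : Function.Surjective f := by
      intro y
      obtain ⟨g, rfl⟩ := QuotientGroup.mk_surjective y
      exact ⟨(g : G ⧸ L), rfl⟩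
    exact solvable_of_surjective hf
  obtain ⟨V, p, n, hV, hp, hVp, hn, hsup, hinf, hidx⟩ := exists_chief_supplement H hmax hsolvN
  obtain ⟨K, hKdef⟩ : ∃ K : Subgroup G, K = V.comap (QuotientGroup.mk' H.normalCore) := ⟨_, rfl⟩
  rw [← hKdef] at hsup hinf
  haveI hVn : V.Normal := hV.1
  haveI hKn : K.Normal := by rw [hKdef]; exact hVn.comap _
  have hNK : H.normalCore ≤ K := by rw [← hinf]; exact inf_le_right
  have hLK : L ≤ K := hLN.trans hNK
  have hDn : (H ⊓ K).Normal := by rw [hinf]; infer_instance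
  obtain ⟨φ₀, e₀, hφ₀, h₀⟩ := hcon (H ⊓ K) hDn (le_inf hLH hLK)
  obtain ⟨φ, e, hφ, he⟩ := hcon K hKn hLK
  have hee : e * e = H.index := mul_self_eq_index hLH hLK hsup hϑ hϑL hφ₀ h₀ hφ he
  have hHtop : H ≠ ⊤ := hmax.1
  have hidx1 : H.index ≠ 1 := fun h => hHtop (Subgroup.index_eq_one.mp h)
  by_cases hKtop : K = ⊤
  · have := mult_eq_one_of_top hind hKtop hφ he
    rw [hee] at this
    exact hidx1 this
  · rw [hKdef] at hKtop
    obtain ⟨M, q, j, hMn, hKM, hne, hq, hrel, hcent⟩ :=
      exists_next_chief H.normalCore hsolvN V hV p n hp hn hKtop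
    rw [← hKdef] at hKM hne hrel hcent
    haveI := hMn
    have hLM : L ≤ M := hLK.trans hKM
    have hHM : H ⊔ M = ⊤ := by
      rw [eq_top_iff, ← hsup]
      exact sup_le_sup_left hKM H
    -- the key claim: H ⊓ M is normal
    have hclaim : ∀ g : G, ∀ x ∈ H ⊓ M, g * x * g⁻¹ ∈ H ⊓ M := by
      by_cases hqp : q = p
      · intro g x hx
        obtain ⟨h, hh, k, hk, rfl⟩ := exists_mul_of_sup_eq_top H K hsup g
        have h1 : x * k * x⁻¹ * k⁻¹ ∈ H.normalCore := hcent hqp x hx.2 k hk
        have h2 : k * x * k⁻¹ * x⁻¹ ∈ H.normalCore := by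
          have := H.normalCore.inv_mem h1
          have h3 : (x * k * x⁻¹ * k⁻¹)⁻¹ = k * x * k⁻¹ * x⁻¹ := by group
          rwa [h3] at this
        have h4 : k * x * k⁻¹ ∈ H ⊓ M := by
          have h5 : k * x * k⁻¹ * x⁻¹ ∈ H ⊓ M := ⟨hNH h2, hKM (hNK h2)⟩
          have := (H ⊓ M).mul_mem h5 hx
          simpa using this
        have h6 : h * k * x * (h * k)⁻¹ = h * (k * x * k⁻¹) * h⁻¹ := by group
        rw [h6]
        exact ⟨H.mul_mem (H.mul_mem hh h4.1) (H.inv_mem hh), hMn.conj_mem _ h4.2 h⟩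
      · have hχ1 : indFun H ϑ 1 ≠ 0 := irr_apply_one_ne_zero hind
        obtain ⟨η, a, hη, ha⟩ := hcon M hMn hLM
        have hcop : (K.relIndex M).Coprime e := by
          rw [hrel]
          have h1 : (q ^ j).Coprime (p ^ n) :=
            Nat.Coprime.pow j n ((Nat.coprime_primes hq hp).mpr hqp)
          have h2 : e ∣ p ^ n := by
            rw [← hidx, ← hee]
            exact Dvd.intro e rfl
          exact Nat.Coprime.coprime_dvd_right h2 h1
        have hae : a = e := mult_eq_of_coprime hKM (indFun H ϑ) hχ1 hφ he hη ha hcop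
        have haa : a * a = H.index := by rw [hae]; exact hee
        obtain ⟨h1, h2⟩ := vanish_off_of_mult hLH hLM hHM hϑ hϑL hη ha haa
        exact conj_mem_inf_of_vanish hLH hLM hϑ hϑL h1 h2
    have hQn : (H ⊓ M).Normal := ⟨fun x hx g => hclaim g x hx⟩
    have hQN : H ⊓ M ≤ H.normalCore := Subgroup.normal_le_normalCore.mpr inf_le_left
    apply hne
    apply le_antisymm hKM
    intro m hm
    obtain ⟨h, hh, k, hk, rfl⟩ := exists_mul_of_sup_eq_top H K hsup m
    have h1 : h ∈ M := by
      have := M.mul_mem hm (M.inv_mem (hKM hk))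
      simpa using this
    exact K.mul_mem (hNK (hQN ⟨hh, h1⟩)) hk

end Cfsg.Agent.S0890
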