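import Cfsg.Statements.S0892
import Cfsg.Agent.Lib.Helper19.AltBase

set_option autoImplicit false
open Cfsg

namespace Cfsg.Agent.S0892

/-- Let n ≥ 4 with n ≠ 6 and n ≠ 7, and let Γ be a finite group with a subgroup Z contained in both the centre and the commutator subgroup of Γ such that Γ / Z is isomorphic to the alternating group on n letters. Then Z has order at most 2. -/
theorem result (n : ℕ) (hn : 4 ≤ n) (h6 : n ≠ 6) (h7 : n ≠ 7) {Γ : Type*} [Group Γ] [Finite Γ] (Z : Subgroup Γ) [Z.Normal] (hZc : Z ≤ Subgroup.center Γ) (hZd : Z ≤ commutator Γ) (e : Γ ⧸ Z ≃* alternatingGroup (Fin n)) : Nat.card Z ≤ 2 := by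
  have hB := Cfsg.Agent.Lib.Helper19.AltBase.bd_two n hn h6 h7
  obtain ⟨f, hf⟩ : ∃ f : Shrink.{0} Γ ≃* Γ, f = Shrink.mulEquiv := ⟨_, rfl⟩
  have : Finite (Shrink.{0} Γ) := Finite.of_equiv Γ (equivShrink.{0} Γ)
  obtain ⟨σ, hσ⟩ : ∃ σ : Shrink.{0} Γ →* alternatingGroup (Fin n),
      σ = e.toMonoidHom.comp ((QuotientGroup.mk' Z).comp f.toMonoidHom) := ⟨_, rfl⟩
  have hσa : ∀ x, σ x = e (QuotientGroup.mk' Z (f x)) := by
    intro x
    rw [hσ]
    rfl
  have hker : ∀ x, x ∈ σ.ker ↔ f x ∈ Z := by
    intro x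
    rw [MonoidHom.mem_ker, hσa]
    constructor
    · intro h
      rw [← e.map_one] at h
      exact (QuotientGroup.eq_one_iff (f x)).mp (e.injective h)
    · intro h
      have : QuotientGroup.mk' Z (f x) = 1 := (QuotientGroup.eq_one_iff (f x)).mpr h
      rw [this, map_one]
  have hstem : IsStemExtension σ := by
    refine ⟨?_, ?_, ?_⟩
    · intro a
      obtain ⟨q, rfl⟩ := e.surjective a
      obtain ⟨g, rfl⟩ := QuotientGroup.mk'_surjective Z q
      obtain ⟨x, rfl⟩ := f.surjective g
      exact ⟨x, hσa x⟩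
    · intro x hx
      have h1 : f x ∈ Subgroup.center Γ := hZc ((hker x).mp hx)
      rw [Subgroup.mem_center_iff]
      intro y
      apply f.injective
      rw [map_mul, map_mul]
      exact Subgroup.mem_center_iff.mp h1 (f y)
    · intro x hx
      have h1 : f x ∈ commutator Γ := hZd ((hker x).mp hx)
      have h2 : (commutator Γ).map f.symm.toMonoidHom ≤ commutator (Shrink.{0} Γ) := by
        rw [_root_.commutator_def, Subgroup.map_commutator, _root_.commutator_def]
        exact Subgroup.commutator_mono le_top le_top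
      have h3 := h2 (Subgroup.mem_map_of_mem _ h1)
      have h4 : f.symm.toMonoidHom (f x) = x := f.symm_apply_apply x
      rwa [h4] at h3
  have h1 : Nat.card σ.ker ∣ 2 := hB _ σ hstem
  have h2 : Nat.card σ.ker = Nat.card Z := by
    apply Nat.card_congr
    refine ⟨fun x => ⟨f x, (hker x).mp x.2⟩, fun z => ⟨f.symm z, (hker _).mpr ?_⟩, ?_, ?_⟩
    · rw [f.apply_symm_apply]
      exact z.2
    · intro x
      apply Subtype.ext
      exact f.symm_apply_apply x
    · intro z
      apply Subtype.ext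
      exact f.apply_symm_apply z
  rw [← h2]
  exact Nat.le_of_dvd (by norm_num) h1

end Cfsg.Agent.S0892
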