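import Cfsg.Statements.S0893
-- import your own Cfsg.Agent.* helpers here

import Mathlib
import Cfsg.Agent.Lib.Helper6.CharNorm
import Cfsg.Agent.Lib.Helper6.IndFun
import Cfsg.Agent.Lib.Lead.CharInd

set_option autoImplicit false
open Cfsg

namespace Cfsg.Agent.S0893

open Cfsg.Agent.Lib.Helper6 Cfsg.Agent.CharLib
open scoped ComplexConjugate commutatorElement

/-- Let P be an extraspecial p-group of order p ^ (2 * n + 1), A an abelian subgroup of order p ^ (n + 1), and λ a character of A of degree 1 that is not identically 1 on the elements of A lying in the centre of P. Then the function induced from λ to P is an irreducible character of P and vanishes at every element outside the centre. -/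
theorem result {P : Type*} [Group P] [Fintype P] (p n : ℕ) [Fact p.Prime] (hP : Cfsg.IsExtraspecial p P) (hcard : Nat.card P = p ^ (2 * n + 1)) (A : Subgroup P) (hab : ∀ a ∈ A, ∀ b ∈ A, a * b = b * a) (hA : Nat.card A = p ^ (n + 1)) (lam : A → ℂ) (hlam : Cfsg.IsCharacter A lam ∧ lam 1 = 1) (hZ : ∃ a : A, (a : P) ∈ Subgroup.center P ∧ lam a ≠ 1) : Cfsg.IsIrrCharacter P (Cfsg.indFun A lam) ∧ ∀ x : P, x ∉ Subgroup.center P → Cfsg.indFun A lam x = 0 := by
  classical
  obtain ⟨⟨hp, hfrat, hcomm⟩, hZcard⟩ := hP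
  obtain ⟨hchar, h1⟩ := hlam
  obtain ⟨a, haZ, hla⟩ := hZ
  have hmul := IsCharacter.map_mul_of_apply_one hchar h1
  have ha1 : a ≠ 1 := fun h => hla (h ▸ h1)
  set Z := Subgroup.center P with hZdef
  have hpprime : p.Prime := Fact.out
  haveI : Fact (Nat.card Z).Prime := ⟨by rw [hZcard]; exact hpprime⟩
  -- the centre lies in `A`
  have hZA : Z ≤ A := by
    rcases Subgroup.eq_bot_or_eq_top_of_prime_card (A.subgroupOf Z) with h | h
    · exfalso
      have hmem : (⟨(a : P), haZ⟩ : Z) ∈ A.subgroupOf Z := by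
        rw [Subgroup.mem_subgroupOf]; exact a.2
      rw [h, Subgroup.mem_bot] at hmem
      apply ha1
      apply Subtype.ext
      have h3 := congrArg (Subtype.val : Z → P) hmem
      simpa using h3
    · exact Subgroup.subgroupOf_eq_top.mp h
  -- `lam` is faithful on the centre
  let ψ : Z →* ℂ := (linCharHom hchar h1).comp (Subgroup.inclusion hZA)
  have hψ : ∀ z : Z, ψ z = lam ⟨(z : P), hZA z.2⟩ := fun _ => rfl
  have hker : ψ.ker = ⊥ := by
    rcases Subgroup.eq_bot_or_eq_top_of_prime_card ψ.ker with h | h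
    · exact h
    · exfalso
      have : (⟨(a : P), haZ⟩ : Z) ∈ ψ.ker := by rw [h]; exact Subgroup.mem_top _
      rw [MonoidHom.mem_ker, hψ] at this
      exact hla this
  have hfaith : ∀ z : P, ∀ hz : z ∈ Z, z ≠ 1 → lam ⟨z, hZA hz⟩ ≠ 1 := by
    intro z hz hz1 hlz
    have : (⟨z, hz⟩ : Z) ∈ ψ.ker := by rw [MonoidHom.mem_ker, hψ]; exact hlz
    rw [hker, Subgroup.mem_bot] at this
    exact hz1 (congrArg Subtype.val this)
  -- translation by central elements
  have hext : ∀ z : P, ∀ hz : z ∈ Z, ∀ y : P,
      extendByZero A lam (z * y) = lam ⟨z, hZA hz⟩ * extendByZero A lam y := by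
    intro z hz y
    by_cases hy : y ∈ A
    · rw [extendByZero_mem A lam hy, extendByZero_mem A lam (A.mul_mem (hZA hz) hy), ← hmul]
      rfl
    · have : z * y ∉ A := fun h => hy ((Subgroup.mul_mem_cancel_left A (hZA hz)).mp h)
      rw [extendByZero_not_mem A lam hy, extendByZero_not_mem A lam this, mul_zero]
  have hind : ∀ z : P, ∀ hz : z ∈ Z, ∀ g : P,
      indFun A lam (z * g) = lam ⟨z, hZA hz⟩ * indFun A lam g := by
    intro z hz g
    have hsum : ∑ x : P, extendByZero A lam (x⁻¹ * (z * g) * x) =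
        lam ⟨z, hZA hz⟩ * ∑ x : P, extendByZero A lam (x⁻¹ * g * x) := by
      rw [Finset.mul_sum]
      apply Finset.sum_congr rfl
      intro x _
      rw [← hext z hz]
      congr 1
      have hzc := Subgroup.mem_center_iff.mp hz
      calc x⁻¹ * (z * g) * x = x⁻¹ * z * (g * x) := by group
        _ = z * x⁻¹ * (g * x) := by rw [hzc x⁻¹]
        _ = z * (x⁻¹ * g * x) := by group
    rw [indFun_apply, indFun_apply, hsum]
    ring
  have hcls := indFun_isClassFunction A lam
  -- vanishing off the centre
  have hvanish : ∀ x : P, x ∉ Z → indFun A lam x = 0 := by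
    intro g hg
    have : ∃ h : P, h * g ≠ g * h := by
      by_contra hcon
      push Not at hcon
      exact hg (Subgroup.mem_center_iff.mpr hcon)
    obtain ⟨h, hh⟩ := this
    have hzmem : ⁅h, g⁆ ∈ Z := by
      have h5 : ⁅h, g⁆ ∈ commutator P := by
        rw [commutator_def]
        exact Subgroup.commutator_mem_commutator (Subgroup.mem_top h) (Subgroup.mem_top g)
      rw [hcomm] at h5
      exact h5
    have hz1 : ⁅h, g⁆ ≠ 1 := by
      intro h1'
      exact hh (commutatorElement_eq_one_iff_mul_comm.mp h1')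
    have hconj : h * g * h⁻¹ = ⁅h, g⁆ * g := by
      rw [commutatorElement_def]; group
    have e1 : indFun A lam g = lam ⟨⁅h, g⁆, hZA hzmem⟩ * indFun A lam g := by
      conv_lhs => rw [← hcls g h, hconj, hind _ hzmem]
    have e2 : (1 - lam ⟨⁅h, g⁆, hZA hzmem⟩) * indFun A lam g = 0 := by
      rw [sub_mul, one_mul, ← e1, sub_self]
    rcases mul_eq_zero.mp e2 with h0 | h0
    · exfalso
      apply hfaith _ hzmem hz1
      exact (sub_eq_zero.mp h0).symm
    · exact h0
  refine ⟨?_, hvanish⟩
  -- value at one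
  have hone : indFun A lam 1 = (Nat.card A : ℂ)⁻¹ * (Nat.card P : ℂ) := by
    rw [indFun_apply]
    congr 1
    have : ∀ x : P, extendByZero A lam (x⁻¹ * 1 * x) = 1 := by
      intro x
      rw [mul_one, inv_mul_cancel, extendByZero_mem A lam A.one_mem]
      exact h1
    rw [Finset.sum_congr rfl (fun x _ => this x), Finset.sum_const, Finset.card_univ,
      nsmul_eq_mul, mul_one, Nat.card_eq_fintype_card]
  set d : ℂ := (Nat.card A : ℂ)⁻¹ * (Nat.card P : ℂ) with hd
  have hdconj : conj d = d := by
    rw [hd, map_mul, map_inv₀, Complex.conj_natCast, Complex.conj_natCast]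
  have hterm : ∀ g : P, indFun A lam g * conj (indFun A lam g) = if g ∈ Z then d * d else 0 := by
    intro g
    split_ifs with hg
    · have := hind g hg 1
      rw [mul_one] at this
      rw [this, hone, map_mul, hdconj]
      have hn := IsCharacter.mul_conj_eq_one_of_apply_one hchar h1 ⟨g, hZA hg⟩
      calc lam ⟨g, hZA hg⟩ * d * (conj (lam ⟨g, hZA hg⟩) * d)
          = (lam ⟨g, hZA hg⟩ * conj (lam ⟨g, hZA hg⟩)) * (d * d) := by ring
        _ = d * d := by rw [hn, one_mul]
    · rw [hvanish g hg, zero_mul]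
  have hnorm : classInner (indFun A lam) (indFun A lam) = 1 := by
    unfold classInner
    rw [Finset.sum_congr rfl (fun g _ => hterm g), Finset.sum_ite, Finset.sum_const_zero, add_zero,
      Finset.sum_const, nsmul_eq_mul]
    have hcardZ : (Finset.univ.filter (fun g : P => g ∈ Z)).card = p := by
      rw [← hZcard, Nat.card_eq_fintype_card, Fintype.card_subtype]
    rw [hcardZ, hd, hcard, hA]
    have hp0 : (p : ℂ) ≠ 0 := by exact_mod_cast hpprime.ne_zero
    push_cast
    field_simp
    ring
  exact isIrrCharacter_of_classInner_self_eq_one (IsCharacter.indFun A hchar) hnorm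

end Cfsg.Agent.S0893
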