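import Cfsg.Statements.S0894
-- import your own Cfsg.Agent.* helpers here

import Mathlib
import Cfsg.Agent.Lib.Helper6.CentralHom
import Cfsg.Agent.Lib.Helper6.LinChar

set_option autoImplicit false
open Cfsg

namespace Cfsg.Agent.S0894

open Cfsg.Agent.Lib.Helper6 Cfsg.Agent.CharLib
open scoped ComplexConjugate commutatorElement

/-- In an extraspecial group an irreducible character has degree `1` or `p ^ n`. -/
theorem degree_dichotomy {P : Type*} [Group P] [Fintype P] (p n : ℕ) [Fact p.Prime]
    (hP : Cfsg.IsExtraspecial p P) (hcard : Nat.card P = p ^ (2 * n + 1)) (χ : P → ℂ)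
    (hχ : IsIrrCharacter P χ) : χ 1 = 1 ∨ χ 1 = (p : ℂ) ^ n := by
  classical
  obtain ⟨⟨hp, hfrat, hcomm⟩, hZcard⟩ := hP
  have hpprime : p.Prime := Fact.out
  have hp0 : (p : ℂ) ≠ 0 := by exact_mod_cast hpprime.ne_zero
  obtain ⟨c, hc, hnorm⟩ := IsIrrCharacter.exists_central_hom hχ
  have hcommem : ∀ g k : P, ⁅g, k⁆ ∈ Subgroup.center P := by
    intro g k
    have h5 : ⁅g, k⁆ ∈ commutator P := by
      rw [commutator_def]
      exact Subgroup.commutator_mem_commutator (Subgroup.mem_top g) (Subgroup.mem_top k)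
    rw [hcomm] at h5
    exact h5
  by_cases htriv : ∀ z, c z = 1
  · left
    apply IsIrrCharacter.apply_one_eq_one_of_commutator hχ
    intro g k
    have := hc ⟨_, hcommem g k⟩ 1
    rw [mul_one, htriv, one_mul] at this
    exact this
  · right
    push Not at htriv
    obtain ⟨z₀, hz₀⟩ := htriv
    have : Fact (Nat.card (Subgroup.center P)).Prime := ⟨by rw [hZcard]; exact hpprime⟩
    have hker : c.ker = ⊥ := by
      rcases Subgroup.eq_bot_or_eq_top_of_prime_card c.ker with h | h
      · exact h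
      · exfalso
        apply hz₀
        have : z₀ ∈ c.ker := by rw [h]; exact Subgroup.mem_top _
        exact MonoidHom.mem_ker.mp this
    have hcls := IsCharacter.isClassFunction (IsIrrCharacter.isCharacter hχ)
    have hvanish : ∀ g : P, g ∉ Subgroup.center P → χ g = 0 := by
      intro g hg
      have : ∃ h : P, h * g ≠ g * h := by
        by_contra hcon
        push Not at hcon
        exact hg (Subgroup.mem_center_iff.mpr hcon)
      obtain ⟨h, hh⟩ := this
      have hz1 : ⁅h, g⁆ ≠ 1 := by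
        intro h1'
        exact hh (commutatorElement_eq_one_iff_mul_comm.mp h1')
      have hconj : h * g * h⁻¹ = ⁅h, g⁆ * g := by
        rw [commutatorElement_def]; group
      have e1 : χ g = c ⟨⁅h, g⁆, hcommem h g⟩ * χ g := by
        conv_lhs => rw [← hcls g h, hconj]
        exact hc ⟨⁅h, g⁆, hcommem h g⟩ g
      have e2 : (1 - c ⟨⁅h, g⁆, hcommem h g⟩) * χ g = 0 := by
        rw [sub_mul, one_mul, ← e1, sub_self]
      rcases mul_eq_zero.mp e2 with h0 | h0
      · exfalso
        have h3 : (⟨⁅h, g⁆, hcommem h g⟩ : Subgroup.center P) ∈ c.ker := by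
          rw [MonoidHom.mem_ker]
          exact (sub_eq_zero.mp h0).symm
        rw [hker, Subgroup.mem_bot] at h3
        exact hz1 (congrArg Subtype.val h3)
      · exact h0
    obtain ⟨d, hdpos, hd⟩ := IsIrrCharacter.apply_one_pos hχ
    have hterm : ∀ g : P, χ g * conj (χ g) = if g ∈ Subgroup.center P then (d : ℂ) * d else 0 := by
      intro g
      split_ifs with hg
      · have h4 := hc ⟨g, hg⟩ 1
        rw [mul_one] at h4
        change χ g = _ at h4
        rw [h4, hd, map_mul, Complex.conj_natCast]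
        have hn : c ⟨g, hg⟩ * conj (c ⟨g, hg⟩) = 1 := by
          rw [Complex.mul_conj, Complex.normSq_eq_norm_sq, hnorm]
          norm_num
        calc c ⟨g, hg⟩ * (d : ℂ) * (conj (c ⟨g, hg⟩) * d)
            = (c ⟨g, hg⟩ * conj (c ⟨g, hg⟩)) * ((d : ℂ) * d) := by ring
          _ = (d : ℂ) * d := by rw [hn, one_mul]
      · rw [hvanish g hg, zero_mul]
    have hinner : classInner χ χ = 1 := by rw [classInner_irr hχ hχ, if_pos rfl]
    unfold classInner at hinner
    rw [Finset.sum_congr rfl (fun g _ => hterm g), Finset.sum_ite, Finset.sum_const_zero, add_zero,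
      Finset.sum_const, nsmul_eq_mul] at hinner
    have hcardZ : (Finset.univ.filter (fun g : P => g ∈ Subgroup.center P)).card = p := by
      rw [← hZcard, Nat.card_eq_fintype_card, Fintype.card_subtype]
    rw [hcardZ, hcard] at hinner
    -- (p^(2n+1))⁻¹ * (p * (d*d)) = 1
    have hdd : ((d * d : ℕ) : ℂ) = ((p ^ n * p ^ n : ℕ) : ℂ) := by
      push_cast at hinner ⊢
      have hpn : (p : ℂ) ^ (2 * n + 1) ≠ 0 := pow_ne_zero _ hp0
      field_simp at hinner
      have h6 : (p : ℂ) * ((d : ℂ) * d) = (p : ℂ) * ((p : ℂ) ^ n * (p : ℂ) ^ n) := by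
        rw [show (p : ℂ) * ((p : ℂ) ^ n * (p : ℂ) ^ n) = (p : ℂ) ^ (2 * n + 1) by ring]
        linear_combination hinner
      exact mul_left_cancel₀ hp0 h6
    have hdd' : d * d = p ^ n * p ^ n := by exact_mod_cast hdd
    have hdeq : d = p ^ n := by
      rcases Nat.lt_trichotomy d (p ^ n) with h | h | h
      · exfalso
        have := Nat.mul_self_lt_mul_self h
        omega
      · exact h
      · exfalso
        have := Nat.mul_self_lt_mul_self h
        omega
    rw [hd, hdeq]
    push_cast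
    rfl

/-- Let P be an extraspecial p-group of order p ^ (2 * n + 1). Then every irreducible character of P has degree 1 or p ^ n, and exactly p - 1 of them have degree p ^ n. -/
theorem result {P : Type*} [Group P] [Finite P] (p n : ℕ) [Fact p.Prime] (hP : Cfsg.IsExtraspecial p P) (hcard : Nat.card P = p ^ (2 * n + 1)) : (∀ χ : Cfsg.IrrCharacter P, (χ : P → ℂ) 1 = 1 ∨ (χ : P → ℂ) 1 = (p : ℂ) ^ n) ∧ Nat.card {χ : Cfsg.IrrCharacter P // (χ : P → ℂ) 1 = (p : ℂ) ^ n} = p - 1 := by
  classical
  let _ := Fintype.ofFinite P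
  let _ := fintypeIrr P
  have hdeg : ∀ χ : Cfsg.IrrCharacter P, (χ : P → ℂ) 1 = 1 ∨ (χ : P → ℂ) 1 = (p : ℂ) ^ n :=
    fun χ => degree_dichotomy p n hP hcard χ.1 χ.2
  refine ⟨hdeg, ?_⟩
  obtain ⟨⟨hp, hfrat, hcomm⟩, hZcard⟩ := hP
  have hpprime : p.Prime := Fact.out
  have hp0 : (p : ℂ) ≠ 0 := by exact_mod_cast hpprime.ne_zero
  -- n ≥ 1
  have hn : n ≠ 0 := by
    intro hn0
    subst hn0
    have hPp : Nat.card P = p := by simpa using hcard
    have htop : Subgroup.center P = ⊤ := Subgroup.eq_top_of_card_eq _ (by rw [hZcard, hPp])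
    have hbot : commutator P = ⊥ := (commutator_eq_bot_iff_center_eq_top P).mpr htop
    rw [hcomm, htop] at hbot
    have h1 : Nat.card (⊤ : Subgroup P) = 1 := by rw [hbot]; exact Subgroup.card_bot
    rw [Subgroup.card_top, hPp] at h1
    exact hpprime.one_lt.ne' h1
  have hpn1 : (p : ℂ) ^ n ≠ 1 := by
    have : p ^ n ≠ 1 := by
      have := Nat.one_lt_pow hn hpprime.one_lt
      omega
    exact_mod_cast this
  -- the number of linear characters
  have hindex : (commutator P).index = p ^ (2 * n) := by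
    have h1 := Subgroup.card_mul_index (commutator P)
    have h2 : Nat.card (commutator P) = p := by rw [hcomm]; exact hZcard
    rw [h2, hcard, pow_succ, mul_comm] at h1
    exact Nat.eq_of_mul_eq_mul_right hpprime.pos h1
  have hA : Nat.card {χ : Cfsg.IrrCharacter P // (χ : P → ℂ) 1 = 1} = p ^ (2 * n) := by
    rw [card_linear_irr, hindex]
  -- the sum of squares
  have hsum := finsum_irr_apply_one_sq (G := P)
  rw [finsum_eq_sum_of_fintype] at hsum
  have hsplit : ∀ χ : Cfsg.IrrCharacter P, (χ : P → ℂ) 1 ^ 2 =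
      if (χ : P → ℂ) 1 = 1 then 1 else ((p : ℂ) ^ n) ^ 2 := by
    intro χ
    split_ifs with h
    · rw [h, one_pow]
    · rw [(hdeg χ).resolve_left h]
  rw [Finset.sum_congr rfl (fun χ _ => hsplit χ), Finset.sum_ite, Finset.sum_const, Finset.sum_const,
    nsmul_eq_mul, nsmul_eq_mul, mul_one] at hsum
  have hcA : (Finset.univ.filter (fun χ : Cfsg.IrrCharacter P => (χ : P → ℂ) 1 = 1)).card = p ^ (2 * n) := by
    rw [← hA, Nat.card_eq_fintype_card, Fintype.card_subtype]
  have hB : Nat.card {χ : Cfsg.IrrCharacter P // (χ : P → ℂ) 1 = (p : ℂ) ^ n} =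
      (Finset.univ.filter (fun χ : Cfsg.IrrCharacter P => ¬ (χ : P → ℂ) 1 = 1)).card := by
    rw [Nat.card_eq_fintype_card, Fintype.card_subtype]
    congr 1
    ext χ
    simp only [Finset.mem_filter, Finset.mem_univ, true_and]
    constructor
    · intro h h1
      rw [h] at h1
      exact hpn1 h1
    · intro h
      exact (hdeg χ).resolve_left h
  rw [hB]
  set b := (Finset.univ.filter (fun χ : Cfsg.IrrCharacter P => ¬ (χ : P → ℂ) 1 = 1)).card with hb
  rw [hcA, hcard] at hsum
  have hnat : p ^ (2 * n) + b * p ^ (2 * n) = p ^ (2 * n) * p := by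
    have : ((p ^ (2 * n) + b * p ^ (2 * n) : ℕ) : ℂ) = ((p ^ (2 * n) * p : ℕ) : ℂ) := by
      push_cast at hsum ⊢
      linear_combination hsum
    exact_mod_cast this
  have hpos : 0 < p ^ (2 * n) := pow_pos hpprime.pos _
  have : (1 + b) * p ^ (2 * n) = p * p ^ (2 * n) := by rw [add_mul, one_mul, hnat, mul_comm]
  have h3 : 1 + b = p := Nat.eq_of_mul_eq_mul_right hpos this
  omega

end Cfsg.Agent.S0894
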