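import Cfsg.Statements.S0895
-- import your own Cfsg.Agent.* helpers here

import Mathlib
import Cfsg.Agent.Lib.Lead.FrobSchur

set_option autoImplicit false
open Cfsg

namespace Cfsg.Agent.S0895

open Cfsg.Agent.CharLib Representation Module
open scoped ComplexConjugate TensorProduct Matrix

universe u v

/-- For a real irreducible character: an invariant tensor, an eigenvector of the swap, whose
eigenvalue is the Frobenius–Schur indicator (extracted from lead's proof of Frobenius–Schur). -/
theorem exists_invariant_tensor {G : Type u} [Group G] [Fintype G]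
    {V : Type v} [AddCommGroup V] [Module ℂ V] [FiniteDimensional ℂ V]
    (ρ : Representation ℂ G V) [hirr : ρ.IsIrreducible]
    (hre : ∀ s : G, (ρ.character s).im = 0) :
    ∃ (w : V ⊗[ℂ] V) (c : ℂ), w ≠ 0 ∧ (∀ g, (ρ.tprod ρ) g w = w) ∧
      (TensorProduct.comm ℂ V V) w = c • w ∧
      (Nat.card G : ℂ)⁻¹ * ∑ s : G, ρ.character (s * s) = c := by
  classical
  have hG : (Nat.card G : ℂ) ≠ 0 := card_ne_zero_complex
  set σ : Representation ℂ G (V ⊗[ℂ] V) := ρ.tprod ρ with hσ
  set τ : (V ⊗[ℂ] V) →ₗ[ℂ] (V ⊗[ℂ] V) := (TensorProduct.comm ℂ V V).toLinearMap with hτ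
  set P : Module.End ℂ (V ⊗[ℂ] V) := (Nat.card G : ℂ)⁻¹ • ∑ g : G, σ g with hP
  have hττ : ∀ x, τ (τ x) = x := fun x => by simp [hτ]
  have hτσ : ∀ g x, τ (σ g x) = σ g (τ x) := by
    intro g x
    simp only [hτ, hσ, Representation.tprod_apply, LinearEquiv.coe_coe]
    exact (TensorProduct.map_comm (ρ g) (ρ g) x).symm
  have hP1 : ∀ x, P x ∈ σ.invariants := by
    intro x h
    simp only [hP, LinearMap.smul_apply, LinearMap.sum_apply, map_smul, map_sum]
    congr 1
    rw [← Equiv.sum_comp (Equiv.mulLeft h) (fun g => σ g x)]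
    apply Finset.sum_congr rfl
    intro g _
    simp only [Equiv.coe_mulLeft, map_mul, Module.End.mul_apply]
  have hP2 : ∀ x ∈ σ.invariants, P x = x := by
    intro x hx
    simp only [hP, LinearMap.smul_apply, LinearMap.sum_apply]
    rw [Finset.sum_congr rfl (fun g _ => hx g), Finset.sum_const, Finset.card_univ,
      ← Nat.card_eq_fintype_card, ← Nat.cast_smul_eq_nsmul ℂ, smul_smul, inv_mul_cancel₀ hG, one_smul]
  have hproj : LinearMap.IsProj σ.invariants P := ⟨hP1, hP2⟩
  have htrP : LinearMap.trace ℂ _ P = (finrank ℂ σ.invariants : ℂ) := hproj.trace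
  have htrP' : LinearMap.trace ℂ _ P = (Nat.card G : ℂ)⁻¹ * ∑ g : G, ρ.character g * ρ.character g := by
    rw [hP, map_smul, map_sum, smul_eq_mul]
    congr 1
    apply Finset.sum_congr rfl
    intro g _
    rw [hσ, Representation.tprod_apply, LinearMap.trace_tensorProduct']
    rfl
  have htrτP : LinearMap.trace ℂ _ (τ ∘ₗ P) = (Nat.card G : ℂ)⁻¹ * ∑ s : G, ρ.character (s * s) := by
    rw [← Module.End.mul_eq_comp, hP, mul_smul_comm, Finset.mul_sum, map_smul, map_sum, smul_eq_mul]
    congr 1
    apply Finset.sum_congr rfl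
    intro g _
    rw [Module.End.mul_eq_comp, hσ, Representation.tprod_apply, hτ, trace_comm_comp_map, ← map_mul]
    rfl
  have hτI : ∀ x ∈ σ.invariants, τ x ∈ σ.invariants := by
    intro x hx g
    rw [← hτσ, hx g]
  have hirrc : IsIrrCharacter G ρ.character := isIrrCharacter_of_rep ρ hirr
  have hirrc' : IsIrrCharacter G (fun g => conj (ρ.character g)) := IsIrrCharacter.conj' hirrc
  have hm : (finrank ℂ σ.invariants : ℂ) =
      if ρ.character = (fun g => conj (ρ.character g)) then 1 else 0 := by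
    rw [← htrP, htrP', ← classInner_irr hirrc hirrc']
    simp only [classInner, Complex.conj_conj]
  have hreal : ρ.character = (fun g => conj (ρ.character g)) := by
    funext s
    exact (Complex.conj_eq_iff_im.mpr (hre s)).symm
  rw [← htrτP]
  rw [if_pos hreal] at hm
  have hm1 : finrank ℂ σ.invariants = 1 := by exact_mod_cast hm
  obtain ⟨⟨w, hwI⟩, hw0, hw⟩ := finrank_eq_one_iff'.mp hm1
  obtain ⟨c, hc⟩ := hw ⟨τ w, hτI w hwI⟩
  have hc' : τ w = c • w := by
    have := congrArg Subtype.val hc
    simpa using this.symm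
  have hw0' : w ≠ 0 := fun h => hw0 (Subtype.ext h)
  have hτP : τ ∘ₗ P = c • P := by
    apply LinearMap.ext
    intro x
    obtain ⟨a, ha⟩ := hw ⟨P x, hP1 x⟩
    have ha' : P x = a • w := by
      have := congrArg Subtype.val ha
      simpa using this.symm
    show τ (P x) = c • P x
    rw [ha', map_smul, hc', smul_comm]
  refine ⟨w, c, hw0', hwI, hc', ?_⟩
  rw [hτP, map_smul, htrP, hm, smul_eq_mul, mul_one]

/-- An irreducible representation on `Fin n → ℂ` with a nonzero invariant antisymmetric tensor has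
even degree. -/
theorem even_of_antisymm_invariant {G : Type u} [Group G] {n : ℕ}
    (ρ : Representation ℂ G (Fin n → ℂ)) [hirr : ρ.IsIrreducible]
    (w : (Fin n → ℂ) ⊗[ℂ] (Fin n → ℂ)) (hw0 : w ≠ 0) (hinv : ∀ g, (ρ.tprod ρ) g w = w)
    (hanti : (TensorProduct.comm ℂ (Fin n → ℂ) (Fin n → ℂ)) w = -w) : Even n := by
  classical
  let b := Pi.basisFun ℂ (Fin n)
  let bb := b.tensorProduct b
  -- coordinate functionals
  let coord : Fin n → Fin n → ((Fin n → ℂ) ⊗[ℂ] (Fin n → ℂ)) →ₗ[ℂ] ℂ :=
    fun i j => (Finsupp.lapply (i, j)) ∘ₗ bb.repr.toLinearMap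
  have hcoord_tmul : ∀ i j (u v : Fin n → ℂ), coord i j (u ⊗ₜ[ℂ] v) = u i * v j := by
    intro i j u v
    change bb.repr (u ⊗ₜ[ℂ] v) (i, j) = u i * v j
    rw [Basis.tensorProduct_repr_tmul_apply]
    simp [b, mul_comm]
  let W : Matrix (Fin n) (Fin n) ℂ := fun i j => coord i j w
  have hW0 : W ≠ 0 := by
    intro h0
    apply hw0
    apply bb.repr.injective
    rw [map_zero]
    ext ⟨i, j⟩
    have := congrFun (congrFun h0 i) j
    exact this
  -- antisymmetry
  have hswap : ∀ i j, (coord i j) ∘ₗ (TensorProduct.comm ℂ (Fin n → ℂ) (Fin n → ℂ)).toLinearMap =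
      coord j i := by
    intro i j
    apply TensorProduct.ext'
    intro u v
    rw [LinearMap.comp_apply, LinearEquiv.coe_coe, TensorProduct.comm_tmul, hcoord_tmul,
      hcoord_tmul, mul_comm]
  have hWanti : Wᵀ = -W := by
    ext i j
    have h1 := LinearMap.congr_fun (hswap j i) w
    rw [LinearMap.comp_apply, LinearEquiv.coe_coe, hanti, map_neg] at h1
    change W j i = -W i j
    change -(coord j i w) = coord i j w at h1
    change coord j i w = -(coord i j w)
    rw [← h1, neg_neg]
  -- invariance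
  have hmap : ∀ (A B : Module.End ℂ (Fin n → ℂ)) i j,
      (coord i j) ∘ₗ (TensorProduct.map A B) =
        ∑ k, ∑ l, (LinearMap.toMatrix' A i k * LinearMap.toMatrix' B j l) • coord k l := by
    intro A B i j
    apply TensorProduct.ext'
    intro u v
    rw [LinearMap.comp_apply, TensorProduct.map_tmul, hcoord_tmul]
    have hA : A u i = ∑ k, LinearMap.toMatrix' A i k * u k := by
      have := congrFun (LinearMap.toMatrix'_mulVec A u) i
      rw [← this]; rfl
    have hB : B v j = ∑ l, LinearMap.toMatrix' B j l * v l := by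
      have := congrFun (LinearMap.toMatrix'_mulVec B v) j
      rw [← this]; rfl
    rw [hA, hB, Finset.sum_mul_sum]
    simp only [LinearMap.sum_apply, LinearMap.smul_apply, hcoord_tmul, smul_eq_mul]
    apply Finset.sum_congr rfl
    intro k _
    apply Finset.sum_congr rfl
    intro l _
    ring
  have hWinv : ∀ g : G, LinearMap.toMatrix' (ρ g) * W * (LinearMap.toMatrix' (ρ g))ᵀ = W := by
    intro g
    ext i j
    have h1 := LinearMap.congr_fun (hmap (ρ g) (ρ g) i j) w
    rw [LinearMap.comp_apply] at h1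
    have h2 : TensorProduct.map (ρ g) (ρ g) w = w := hinv g
    rw [h2] at h1
    change _ = coord i j w
    rw [h1]
    simp only [LinearMap.sum_apply, LinearMap.smul_apply, smul_eq_mul, Matrix.mul_apply,
      Matrix.transpose_apply, Finset.sum_mul]
    rw [Finset.sum_comm]
    apply Finset.sum_congr rfl
    intro k _
    apply Finset.sum_congr rfl
    intro l _
    change LinearMap.toMatrix' (ρ g) i k * coord k l w * LinearMap.toMatrix' (ρ g) j l = _
    ring
  -- the range of W is a subrepresentation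
  have hMM : ∀ g : G, LinearMap.toMatrix' (ρ g⁻¹) * LinearMap.toMatrix' (ρ g) = 1 := by
    intro g
    rw [← LinearMap.toMatrix'_mul, ← map_mul, inv_mul_cancel, map_one, LinearMap.toMatrix'_one]
  have hMW : ∀ g : G, LinearMap.toMatrix' (ρ g) * W = W * (LinearMap.toMatrix' (ρ g⁻¹))ᵀ := by
    intro g
    have h1 := hWinv g
    have h2 : (LinearMap.toMatrix' (ρ g))ᵀ * (LinearMap.toMatrix' (ρ g⁻¹))ᵀ = 1 := by
      rw [← Matrix.transpose_mul, hMM, Matrix.transpose_one]
    calc LinearMap.toMatrix' (ρ g) * W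
        = LinearMap.toMatrix' (ρ g) * W * ((LinearMap.toMatrix' (ρ g))ᵀ * (LinearMap.toMatrix' (ρ g⁻¹))ᵀ) := by
          rw [h2, mul_one]
      _ = (LinearMap.toMatrix' (ρ g) * W * (LinearMap.toMatrix' (ρ g))ᵀ) * (LinearMap.toMatrix' (ρ g⁻¹))ᵀ := by
          rw [mul_assoc, mul_assoc, mul_assoc]
      _ = W * (LinearMap.toMatrix' (ρ g⁻¹))ᵀ := by rw [h1]
  let R : Subrepresentation ρ := ⟨LinearMap.range (Matrix.mulVecLin W), by
    rintro g _ ⟨v, rfl⟩
    refine ⟨(LinearMap.toMatrix' (ρ g⁻¹))ᵀ *ᵥ v, ?_⟩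
    rw [Matrix.mulVecLin_apply, Matrix.mulVecLin_apply, Matrix.mulVec_mulVec, ← hMW g,
      ← Matrix.mulVec_mulVec, LinearMap.toMatrix'_mulVec]⟩
  have hR : R = ⊤ := by
    rcases hirr.eq_bot_or_eq_top R with h1 | h1
    · exfalso
      apply hW0
      have h2 : LinearMap.range (Matrix.mulVecLin W) = ⊥ := congrArg Subrepresentation.toSubmodule h1
      have h3 : Matrix.mulVecLin W = 0 := LinearMap.range_eq_bot.mp h2
      have h4 : Matrix.toLin' W = 0 := by
        rw [Matrix.toLin'_apply']
        exact h3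
      exact (LinearEquiv.map_eq_zero_iff _).mp h4
    · exact h1
  have hsurj : Function.Surjective W.mulVec := by
    have h2 : LinearMap.range (Matrix.mulVecLin W) = ⊤ := congrArg Subrepresentation.toSubmodule hR
    have h3 := LinearMap.range_eq_top.mp h2
    exact h3
  have hunit : IsUnit W.det := (Matrix.isUnit_iff_isUnit_det W).mp (Matrix.mulVec_surjective_iff_isUnit.mp hsurj)
  have hdet0 : W.det ≠ 0 := hunit.ne_zero
  have hdet : W.det = (-1) ^ n * W.det := by
    have h1 := Matrix.det_transpose W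
    rw [hWanti, Matrix.det_neg, Fintype.card_fin] at h1
    exact h1.symm
  rcases Nat.even_or_odd n with he | ho
  · exact he
  · exfalso
    rw [ho.neg_one_pow] at hdet
    apply hdet0
    linear_combination (1 / 2 : ℂ) * hdet

/-- Let χ be a real-valued irreducible character of a finite group G whose degree is an odd natural number. Then the average over s in G of χ (s * s) equals 1. -/
theorem result {G : Type*} [Group G] [Fintype G] (χ : G → ℂ) (hχ : Cfsg.IsIrrCharacter G χ) (hreal : ∀ g : G, (χ g).im = 0) (d : ℕ) (hd : χ 1 = d) (hodd : Odd d) : (Nat.card G : ℂ)⁻¹ * ∑ s : G, χ (s * s) = 1 := by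
  classical
  obtain ⟨n, ρ, hirr, rfl⟩ := hχ
  have hirr' : ρ.IsIrreducible := hirr
  have hn : n = d := by
    rw [Representation.char_one, Module.finrank_fin_fun] at hd
    exact_mod_cast hd
  obtain ⟨w, c, hw0, hinv, hc, hν⟩ := exists_invariant_tensor ρ hreal
  rcases (frobenius_schur_aux ρ).1 hreal with h1 | h1
  · exact h1
  · exfalso
    rw [hν] at h1
    have hc2 : (TensorProduct.comm ℂ (Fin n → ℂ) (Fin n → ℂ)) w = -w := by
      have h5 : (-1 : ℂ) • w = -w := neg_one_smul ℂ w
      rw [hc, h1, h5]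
    have := even_of_antisymm_invariant ρ w hw0 hinv hc2
    rw [hn] at this
    exact (Nat.not_even_iff_odd.mpr hodd) this

end Cfsg.Agent.S0895
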