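import Cfsg.Statements.S0900
-- import your own Cfsg.Agent.* helpers here

import Mathlib
import Cfsg.Agent.Lib.Helper6.CharExtra2

set_option autoImplicit false
open Cfsg

namespace Cfsg.Agent.S0900

open Cfsg.Agent.Lib.Helper6 Cfsg.Agent.CharLib
open scoped ComplexConjugate

/-- Let N be a normal subgroup of the finite group G, χ an irreducible character of G and ϑ an irreducible character of N having nonzero inner product with the restriction of χ. Consider: (a) the restriction of χ to N is e • ϑ for a natural number e with e ^ 2 equal to the index of N; (b) χ vanishes outside N and ϑ is invariant under conjugation by G; (c) ϑ is invariant and every irreducible character of G having nonzero inner product with the function induced from ϑ equals χ. Then (a) ↔ (b) and (a) ↔ (c). -/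
theorem result {G : Type*} [Group G] [Fintype G] (N : Subgroup G) [hN : N.Normal] [Fintype N] (χ : G → ℂ) (hχ : Cfsg.IsIrrCharacter G χ) (ϑ : N → ℂ) (hϑ : Cfsg.IsIrrCharacter N ϑ) (hcon : Cfsg.classInner (fun n : N => χ n) ϑ ≠ 0) : ((∃ e : ℕ, (fun n : N => χ n) = (e : ℂ) • ϑ ∧ e ^ 2 = N.index) ↔ ((∀ g : G, g ∉ N → χ g = 0) ∧ ∀ (g : G) (n : N), ϑ ⟨g * n * g⁻¹, hN.conj_mem (n : G) n.2 g⟩ = ϑ n)) ∧ ((∃ e : ℕ, (fun n : N => χ n) = (e : ℂ) • ϑ ∧ e ^ 2 = N.index) ↔ (∀ (g : G) (n : N), ϑ ⟨g * n * g⁻¹, hN.conj_mem (n : G) n.2 g⟩ = ϑ n ∧ ∀ ψ : G → ℂ, Cfsg.IsIrrCharacter G ψ → Cfsg.classInner (Cfsg.indFun N ϑ) ψ ≠ 0 → ψ = χ)) := by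
  classical
  have hχc := IsIrrCharacter.isCharacter hχ
  have hϑc := IsIrrCharacter.isCharacter hϑ
  have hcls := IsCharacter.isClassFunction hχc
  have hN0 : (Nat.card N : ℂ) ≠ 0 := Nat.cast_ne_zero.mpr Nat.card_pos.ne'
  have hidx0 : N.index ≠ 0 := Subgroup.index_ne_zero_of_finite
  have hidxC : (Nat.card N : ℂ)⁻¹ * (Nat.card G : ℂ) = (N.index : ℂ) := by
    rw [← Subgroup.card_mul_index N, Nat.cast_mul, ← mul_assoc, inv_mul_cancel₀ hN0, one_mul]
  obtain ⟨dϑ, hdϑpos, hdϑ⟩ := IsIrrCharacter.apply_one_pos hϑ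
  have hdϑ0 : (dϑ : ℂ) ≠ 0 := Nat.cast_ne_zero.mpr hdϑpos.ne'
  have hinvform : (∀ (g : G) (n : N), ϑ ⟨g * n * g⁻¹, hN.conj_mem (n : G) n.2 g⟩ = ϑ n) ↔
      ∀ g : G, conjFun N g ϑ = ϑ := by
    constructor
    · intro h g; funext n; exact h g n
    · intro h g n; exact congrFun (h g) n
  change ((∃ e : ℕ, resFun N χ = (e : ℂ) • ϑ ∧ e ^ 2 = N.index) ↔ _) ∧
    ((∃ e : ℕ, resFun N χ = (e : ℂ) • ϑ ∧ e ^ 2 = N.index) ↔ _)
  change classInner (resFun N χ) ϑ ≠ 0 at hcon
  -- (a) implies invariance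
  have ha_inv : ∀ e : ℕ, resFun N χ = (e : ℂ) • ϑ → e ^ 2 = N.index →
      ∀ g : G, conjFun N g ϑ = ϑ := by
    intro e he hidx g
    have he0 : (e : ℂ) ≠ 0 := by
      intro h0
      have : e = 0 := by exact_mod_cast h0
      rw [this] at hidx
      exact hidx0 (by simpa using hidx.symm)
    have h1 := conjFun_resFun N hcls g
    rw [he, conjFun_smul] at h1
    exact smul_right_injective _ he0 h1
  have hnorm : ∀ e : ℕ, resFun N χ = (e : ℂ) • ϑ →
      classInner (resFun N χ) (resFun N χ) = ((e ^ 2 : ℕ) : ℂ) := by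
    intro e he
    rw [he, classInner_smul_left, classInner_smul_right, classInner_irr hϑ hϑ, if_pos rfl,
      Complex.conj_natCast]
    push_cast
    ring
  have hcliff : (∀ g : G, conjFun N g ϑ = ϑ) →
      ∃ e : ℕ, resFun N χ = (e : ℂ) • ϑ ∧ classInner (resFun N χ) ϑ = e := by
    intro hinv
    obtain ⟨e, he⟩ := IsCharacter.classInner_nat (isCharacter_resFun N hχc) hϑc
    refine ⟨e, ?_, he⟩
    have := clifford_of_invariant N hχ hϑ hcon hinv
    rw [he] at this
    exact this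
  -- inner product of the induced function with χ
  have hindχ : ∀ e : ℕ, resFun N χ = (e : ℂ) • ϑ → classInner (indFun N ϑ) χ = e := by
    intro e he
    rw [frobenius_reciprocity N ϑ hcls]
    change classInner ϑ (resFun N χ) = e
    rw [he, classInner_smul_right, classInner_irr hϑ hϑ, if_pos rfl, Complex.conj_natCast, mul_one]
  have hind1 : indFun N ϑ 1 = (N.index : ℂ) * dϑ := by
    rw [indFun_apply_one, hidxC, hdϑ]
  have hχ1 : ∀ e : ℕ, resFun N χ = (e : ℂ) • ϑ → χ 1 = (e : ℂ) * dϑ := by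
    intro e he
    have := congrFun he 1
    rw [Pi.smul_apply, smul_eq_mul, hdϑ] at this
    exact this
  refine ⟨?_, ?_⟩
  · constructor
    · rintro ⟨e, he, hidx⟩
      refine ⟨?_, hinvform.mpr (ha_inv e he hidx)⟩
      rw [vanishes_off_iff N hχ, hnorm e he, hidx]
    · rintro ⟨hv, hinv⟩
      obtain ⟨e, he, _⟩ := hcliff (hinvform.mp hinv)
      refine ⟨e, he, ?_⟩
      have := (vanishes_off_iff N hχ).mp hv
      rw [hnorm e he] at this
      exact_mod_cast this
  · constructor
    · rintro ⟨e, he, hidx⟩ g n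
      refine ⟨hinvform.mpr (ha_inv e he hidx) g n, ?_⟩
      intro ψ hψ hne
      have hdeg : indFun N ϑ 1 = (e : ℂ) * χ 1 := by
        rw [hind1, hχ1 e he, ← hidx]
        push_cast
        ring
      have hΦ := IsCharacter.eq_nsmul_of_degree (IsCharacter.indFun N hϑc) hχ (hindχ e he) hdeg
      rw [hΦ, ← Nat.cast_smul_eq_nsmul ℂ, classInner_smul_left, classInner_irr hχ hψ] at hne
      by_contra hcon2
      rw [if_neg (Ne.symm hcon2), mul_zero] at hne
      exact hne rfl
    · intro hc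
      have hinv : ∀ g : G, conjFun N g ϑ = ϑ := hinvform.mp (fun g n => (hc g n).1)
      have huniq := (hc 1 1).2
      obtain ⟨e, he, _⟩ := hcliff hinv
      refine ⟨e, he, ?_⟩
      have hΦ := eq_smul_of_unique_constituent (indFun_isClassFunction N ϑ) hχ huniq
      rw [hindχ e he] at hΦ
      have h1 := congrFun hΦ 1
      rw [Pi.smul_apply, smul_eq_mul, hind1, hχ1 e he] at h1
      have h2 : (N.index : ℂ) = (e : ℂ) * e := by
        have h3 : (N.index : ℂ) * dϑ = ((e : ℂ) * e) * dϑ := by rw [h1]; ring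
        exact mul_right_cancel₀ hdϑ0 h3
      have h4 : N.index = e * e := by exact_mod_cast h2
      rw [h4, pow_two]

end Cfsg.Agent.S0900
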