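import Cfsg.Statements.S0901
-- import your own Cfsg.Agent.* helpers here

import Mathlib
import Cfsg.Agent.Lib.Helper24.LocalRing

set_option autoImplicit false
open Cfsg

namespace Cfsg.Agent.S0901

open Cfsg.Agent.Lib.Helper24 Polynomial

/-- injectivity on roots of unity of order prime to `p` -/
theorem inj_part (p : ℕ) (M : Ideal Cfsg.AlgInt) (hM : Cfsg.IsPModular p M)
    (ε₁ ε₂ : Cfsg.AlgInt) (m : ℕ) (hm : ¬ p ∣ m) (h1 : ε₁ ^ m = 1) (h2 : ε₂ ^ m = 1)
    (hmem : ε₁ - ε₂ ∈ M) : ε₁ = ε₂ := by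
  by_contra hne
  have hprime : M.IsPrime := isPrime_of_isPModular hM
  have hm0 : m ≠ 0 := by
    intro h0; apply hm; rw [h0]; exact dvd_zero p
  -- geometric sum
  have hgeom := Commute.geom_sum₂_mul (Commute.all ε₁ ε₂) m
  rw [h1, h2, sub_self] at hgeom
  have hS : ∑ i ∈ Finset.range m, ε₁ ^ i * ε₂ ^ (m - 1 - i) = 0 := by
    rcases mul_eq_zero.mp hgeom with h | h
    · exact h
    · exact absurd (sub_eq_zero.mp h) hne
  -- modulo M
  have hq : Ideal.Quotient.mk M ε₁ = Ideal.Quotient.mk M ε₂ := (Ideal.Quotient.eq).mpr hmem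
  have hS' := congrArg (Ideal.Quotient.mk M) hS
  rw [map_sum, map_zero] at hS'
  have hterm : ∀ i ∈ Finset.range m, Ideal.Quotient.mk M (ε₁ ^ i * ε₂ ^ (m - 1 - i)) =
      (Ideal.Quotient.mk M ε₂) ^ (m - 1) := by
    intro i hi
    have hi' : i < m := Finset.mem_range.mp hi
    rw [map_mul, map_pow, map_pow, hq, ← pow_add]
    congr 1
    omega
  rw [Finset.sum_congr rfl hterm, Finset.sum_const, Finset.card_range, nsmul_eq_mul] at hS'
  -- so m * ε₂^(m-1) ∈ M
  have h3 : (m : Cfsg.AlgInt) * ε₂ ^ (m - 1) ∈ M := by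
    rw [← Ideal.Quotient.eq_zero_iff_mem, map_mul, map_pow, map_natCast]
    exact hS'
  rcases hprime.mem_or_mem h3 with h4 | h4
  · exact natCast_not_mem_of_not_dvd hM hm h4
  · have h5 : ε₂ ∈ M := hprime.mem_of_pow_mem _ h4
    have h6 : ε₂ ^ m ∈ M := Ideal.pow_mem_of_mem M h5 m (Nat.pos_of_ne_zero hm0)
    rw [h2] at h6
    exact one_not_mem_of_isPModular hM h6

/-- Let M be a maximal ideal of the ring of algebraic integers containing the prime p, and let U be the set of complex roots of unity of order prime to p. Then reduction modulo M is injective on U, and every algebraic integer not in M is congruent modulo M to an element of U (so U maps bijectively onto the nonzero residues). -/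
theorem result (p : ℕ) [Fact p.Prime] (M : Ideal Cfsg.AlgInt) (hM : Cfsg.IsPModular p M) : (∀ ε₁ ε₂ : Cfsg.AlgInt, (∃ m : ℕ, ¬ p ∣ m ∧ (ε₁ : ℂ) ^ m = 1) → (∃ m : ℕ, ¬ p ∣ m ∧ (ε₂ : ℂ) ^ m = 1) → ε₁ - ε₂ ∈ M → ε₁ = ε₂) ∧ (∀ a : Cfsg.AlgInt, a ∉ M → ∃ ε : Cfsg.AlgInt, (∃ m : ℕ, ¬ p ∣ m ∧ (ε : ℂ) ^ m = 1) ∧ a - ε ∈ M) := by
  classical
  have hpprime : p.Prime := Fact.out
  have hprime : M.IsPrime := isPrime_of_isPModular hM
  have hmax : M.IsMaximal := hM.2.1
  constructor
  · rintro ε₁ ε₂ ⟨m₁, hm₁, h1⟩ ⟨m₂, hm₂, h2⟩ hmem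
    have hm : ¬ p ∣ m₁ * m₂ := by
      intro h
      rcases (Nat.Prime.dvd_mul hpprime).mp h with h | h
      · exact hm₁ h
      · exact hm₂ h
    have h1' : ε₁ ^ (m₁ * m₂) = 1 := by
      apply Subtype.ext
      push_cast
      rw [pow_mul, h1, one_pow]
    have h2' : ε₂ ^ (m₁ * m₂) = 1 := by
      apply Subtype.ext
      push_cast
      rw [mul_comm, pow_mul, h2, one_pow]
    exact inj_part p M hM ε₁ ε₂ (m₁ * m₂) hm h1' h2' hmem
  · intro a ha
    -- the residue field
    letI : Field (Cfsg.AlgInt ⧸ M) := Ideal.Quotient.field M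
    have h0 : ((p : ℕ) : Cfsg.AlgInt ⧸ M) = 0 := by
      rw [← map_natCast (Ideal.Quotient.mk M), Ideal.Quotient.eq_zero_iff_mem]
      exact hM.2.2
    haveI hchar : CharP (Cfsg.AlgInt ⧸ M) p := (CharP.charP_iff_prime_eq_zero hpprime).mpr h0
    letI : Algebra (ZMod p) (Cfsg.AlgInt ⧸ M) := ZMod.algebra _ p
    set ā : Cfsg.AlgInt ⧸ M := Ideal.Quotient.mk M a with hā
    have hā0 : ā ≠ 0 := by
      intro h
      exact ha (Ideal.Quotient.eq_zero_iff_mem.mp h)
    have hint : IsIntegral (ZMod p) ā := by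
      have h1 : IsIntegral ℤ a := integralClosure.isIntegral a
      have h2 : IsIntegral ℤ ā := h1.map (Ideal.Quotient.mkₐ ℤ M)
      exact h2.tower_top
    let L := IntermediateField.adjoin (ZMod p) {ā}
    haveI : FiniteDimensional (ZMod p) L := IntermediateField.adjoin.finiteDimensional hint
    haveI : Finite L := Module.finite_of_finite (ZMod p)
    letI : Fintype L := Fintype.ofFinite L
    let b : L := ⟨ā, IntermediateField.mem_adjoin_simple_self _ ā⟩
    have hb0 : b ≠ 0 := fun h => hā0 (congrArg Subtype.val h)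
    have hpow := FiniteField.pow_card_sub_one_eq_one b hb0
    have hcardL : Fintype.card L = p ^ Module.finrank (ZMod p) L := by
      rw [Module.card_eq_pow_finrank (K := ZMod p), ZMod.card]
    have hfr : 0 < Module.finrank (ZMod p) L := Module.finrank_pos
    set n := Fintype.card L - 1 with hn
    have hq2 : 2 ≤ Fintype.card L := by
      rw [hcardL]
      calc 2 ≤ p := hpprime.two_le
        _ = p ^ 1 := (pow_one p).symm
        _ ≤ p ^ Module.finrank (ZMod p) L := Nat.pow_le_pow_right hpprime.pos hfr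
    have hnpos : 0 < n := by omega
    have hpn : ¬ p ∣ n := by
      intro hdvd
      have h1 : p ∣ Fintype.card L := by
        rw [hcardL]
        exact dvd_pow_self p hfr.ne'
      have h2 : p ∣ Fintype.card L - n := Nat.dvd_sub h1 hdvd
      have h3 : Fintype.card L - n = 1 := by omega
      rw [h3] at h2
      exact hpprime.one_lt.ne' (Nat.dvd_one.mp h2)
    have hān : ā ^ n = 1 := by
      have := congrArg (Subtype.val : L → Cfsg.AlgInt ⧸ M) hpow
      simpa using this
    -- a ^ n - 1 ∈ M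
    have hmem : a ^ n - 1 ∈ M := by
      rw [← Ideal.Quotient.eq_zero_iff_mem, map_sub, map_pow, map_one, ← hā, hān, sub_self]
    -- a primitive n-th root of unity among the algebraic integers
    have hζ : IsPrimitiveRoot (Complex.exp (2 * Real.pi * Complex.I / n)) n :=
      Complex.isPrimitiveRoot_exp n hnpos.ne'
    have hζint : IsIntegral ℤ (Complex.exp (2 * Real.pi * Complex.I / n)) :=
      hζ.isIntegral hnpos
    let ζ₀ : Cfsg.AlgInt := ⟨Complex.exp (2 * Real.pi * Complex.I / n), hζint⟩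
    have hζ₀ : IsPrimitiveRoot ζ₀ n :=
      IsPrimitiveRoot.of_map_of_injective (f := (Cfsg.AlgInt.val : Cfsg.AlgInt →ₐ[ℤ] ℂ))
        (by exact hζ) Subtype.val_injective
    have hprod := X_pow_sub_one_eq_prod hnpos hζ₀
    have heval := congrArg (Polynomial.eval a) hprod
    rw [eval_sub, eval_pow, eval_X, eval_one, eval_prod] at heval
    rw [heval] at hmem
    obtain ⟨ε, hε, hεmem⟩ := (Ideal.IsPrime.prod_mem_iff).mp hmem
    rw [eval_sub, eval_X, eval_C] at hεmem
    refine ⟨ε, ⟨n, hpn, ?_⟩, hεmem⟩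
    have := (mem_nthRootsFinset hnpos 1).mp hε
    have h9 := congrArg (Subtype.val : Cfsg.AlgInt → ℂ) this
    simpa using h9

end Cfsg.Agent.S0901
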