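import Cfsg.Statements.S0903
import Mathlib
-- import your own Cfsg.Agent.* helpers here

set_option autoImplicit false
open Cfsg

namespace Cfsg.Agent.S0903

section
variable {G : Type*} [Group G]

theorem isConj_conj {a x : G} (u : G) (hx : IsConj a x) : IsConj a (u * x * u⁻¹) := by
  rw [isConj_iff] at hx ⊢
  obtain ⟨v, hv⟩ := hx
  exact ⟨u * v, by rw [← hv]; group⟩

/-- The set of pairs counted on the left. -/
abbrev Pairs (c g h : G) : Type _ :=
  {xy : G × G // IsConj g xy.1 ∧ IsConj h xy.2 ∧ xy.1 * xy.2 = c}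

/-- Conjugation action of `P` on the pairs. -/
@[instance_reducible]
noncomputable def pairsAction (P : Subgroup G) (c g h : G)
    (hc : c ∈ Subgroup.centralizer (P : Set G)) : MulAction P (Pairs c g h) where
  smul u xy := ⟨((u : G) * xy.1.1 * (u : G)⁻¹, (u : G) * xy.1.2 * (u : G)⁻¹),
    isConj_conj _ xy.2.1, isConj_conj _ xy.2.2.1, by
      have h3 := xy.2.2.2
      have hcu : (u : G) * c = c * (u : G) := (Subgroup.mem_centralizer_iff.mp hc (u : G) u.2)
      calc (u : G) * xy.1.1 * (u : G)⁻¹ * ((u : G) * xy.1.2 * (u : G)⁻¹)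
          = (u : G) * (xy.1.1 * xy.1.2) * (u : G)⁻¹ := by group
        _ = (u : G) * c * (u : G)⁻¹ := by rw [h3]
        _ = c := by rw [hcu]; group⟩
  one_smul xy := by
    apply Subtype.ext
    change (((1 : P) : G) * xy.1.1 * ((1 : P) : G)⁻¹, ((1 : P) : G) * xy.1.2 * ((1 : P) : G)⁻¹) = xy.1
    simp
  mul_smul u v xy := by
    apply Subtype.ext
    change (((u * v : P) : G) * xy.1.1 * ((u * v : P) : G)⁻¹,
        ((u * v : P) : G) * xy.1.2 * ((u * v : P) : G)⁻¹) =
      ((u : G) * ((v : G) * xy.1.1 * (v : G)⁻¹) * (u : G)⁻¹,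
        (u : G) * ((v : G) * xy.1.2 * (v : G)⁻¹) * (u : G)⁻¹)
    simp only [Subgroup.coe_mul, mul_inv_rev, mul_assoc]

end

/-- Let P be a p-subgroup of the finite group G, let c centralize P and let g, h ∈ G. The number of pairs (x, y) with x conjugate to g, y conjugate to h and x * y = c is congruent modulo p to the number of such pairs in which x and y both centralize P. (This is why the Brauer map on class sums is multiplicative.) -/
theorem result {G : Type*} [Group G] [Finite G] (p : ℕ) [Fact p.Prime] (P : Subgroup G) (hP : IsPGroup p P) (c : G) (hc : c ∈ Subgroup.centralizer (P : Set G)) (g h : G) : Nat.card {xy : G × G // IsConj g xy.1 ∧ IsConj h xy.2 ∧ xy.1 * xy.2 = c} ≡ Nat.card {xy : G × G // IsConj g xy.1 ∧ IsConj h xy.2 ∧ xy.1 * xy.2 = c ∧ xy.1 ∈ Subgroup.centralizer (P : Set G) ∧ xy.2 ∈ Subgroup.centralizer (P : Set G)} [MOD p] := by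
  letI act : MulAction P (Pairs c g h) := pairsAction P c g h hc
  have hsmul : ∀ (u : P) (xy : Pairs c g h),
      (u • xy).1 = ((u : G) * xy.1.1 * (u : G)⁻¹, (u : G) * xy.1.2 * (u : G)⁻¹) := fun _ _ => rfl
  have key := hP.card_modEq_card_fixedPoints (Pairs c g h)
  refine key.trans ?_
  rw [Nat.ModEq]
  congr 1
  apply Nat.card_congr
  refine
    { toFun := fun xy => ⟨xy.1.1, xy.1.2.1, xy.1.2.2.1, xy.1.2.2.2, ?_, ?_⟩
      invFun := fun xy => ⟨⟨xy.1, xy.2.1, xy.2.2.1, xy.2.2.2.1⟩, ?_⟩
      left_inv := fun xy => rfl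
      right_inv := fun xy => rfl }
  · rw [Subgroup.mem_centralizer_iff]
    intro u hu
    have := congrArg Prod.fst (congrArg Subtype.val (xy.2 ⟨u, hu⟩))
    rw [hsmul] at this
    simp only at this
    have h2 : u * xy.1.1.1 * u⁻¹ = xy.1.1.1 := this
    calc u * xy.1.1.1 = (u * xy.1.1.1 * u⁻¹) * u := by group
      _ = xy.1.1.1 * u := by rw [h2]
  · rw [Subgroup.mem_centralizer_iff]
    intro u hu
    have := congrArg Prod.snd (congrArg Subtype.val (xy.2 ⟨u, hu⟩))
    rw [hsmul] at this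
    simp only at this
    have h2 : u * xy.1.1.2 * u⁻¹ = xy.1.1.2 := this
    calc u * xy.1.1.2 = (u * xy.1.1.2 * u⁻¹) * u := by group
      _ = xy.1.1.2 * u := by rw [h2]
  · intro u
    apply Subtype.ext
    rw [hsmul]
    have h1 := Subgroup.mem_centralizer_iff.mp xy.2.2.2.2.1 (u : G) u.2
    have h2 := Subgroup.mem_centralizer_iff.mp xy.2.2.2.2.2 (u : G) u.2
    apply Prod.ext
    · simp only
      rw [h1]; group
    · simp only
      rw [h2]; group

end Cfsg.Agent.S0903
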