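import Cfsg.Statements.S0910
-- import your own Cfsg.Agent.* helpers here

import Mathlib
import Cfsg.Agent.Lib.Lead.CharBurnside
import Cfsg.Agent.Lib.Helper24.LocalRing
import Cfsg.Agent.Lib.Helper24.IrrFacts
import Cfsg.Agent.Lib.Helper6.CentralHom
import Cfsg.Agent.Lib.Helper6.LinChar

set_option autoImplicit false
open Cfsg

namespace Cfsg.Agent.S0910

open Cfsg.Agent.Lib.Helper6 Cfsg.Agent.Lib.Helper24 Cfsg.Agent.CharLib Module

/-- The elements acting as operators commuting with the whole image form a normal subgroup. -/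
def centerRep {G : Type*} [Group G] {V : Type*} [AddCommGroup V] [Module ℂ V]
    (ρ : Representation ℂ G V) : Subgroup G where
  carrier := {g | ∀ h : G, ρ g * ρ h = ρ h * ρ g}
  one_mem' := by intro h; simp
  mul_mem' := by
    intro a b ha hb h
    rw [map_mul, mul_assoc, hb h, ← mul_assoc, ha h, mul_assoc]
  inv_mem' := by
    intro a ha h
    have h1 := ha h
    have h2 : ρ a⁻¹ * (ρ a * ρ h) * ρ a⁻¹ = ρ a⁻¹ * (ρ h * ρ a) * ρ a⁻¹ := by rw [h1]
    have e1 : ρ a⁻¹ * ρ a = 1 := by rw [← map_mul, inv_mul_cancel, map_one]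
    have e2 : ρ a * ρ a⁻¹ = 1 := by rw [← map_mul, mul_inv_cancel, map_one]
    calc ρ a⁻¹ * ρ h = ρ a⁻¹ * (ρ h * ρ a) * ρ a⁻¹ := by
          rw [mul_assoc, mul_assoc, e2, mul_one]
      _ = ρ a⁻¹ * (ρ a * ρ h) * ρ a⁻¹ := h2.symm
      _ = ρ h * ρ a⁻¹ := by rw [← mul_assoc, e1, one_mul]

theorem centerRep_normal {G : Type*} [Group G] {V : Type*} [AddCommGroup V] [Module ℂ V]
    (ρ : Representation ℂ G V) : (centerRep ρ).Normal := by
  constructor
  intro g hg x h
  change ρ (x * g * x⁻¹) * ρ h = ρ h * ρ (x * g * x⁻¹)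
  have hg' : ∀ h : G, ρ g * ρ h = ρ h * ρ g := hg
  have e2 : ρ x * ρ x⁻¹ = 1 := by rw [← map_mul, mul_inv_cancel, map_one]
  have h1 : ρ (x * g * x⁻¹) = ρ g := by
    rw [map_mul, map_mul, ← hg' x, mul_assoc, e2, mul_one]
  rw [h1, hg' h]

/-- Let G be a non-abelian finite simple group and p a prime. If an irreducible character χ lies in the principal block (relative to a maximal ideal of the algebraic integers containing p) and χ 1 is a power of p, then χ is the principal character. -/
theorem result {G : Type*} [Group G] [Finite G] (p : ℕ) [Fact p.Prime] (M : Ideal Cfsg.AlgInt) (hM : Cfsg.IsPModular p M) [IsSimpleGroup G] (hna : ∃ a b : G, a * b ≠ b * a) (χ : Cfsg.IrrCharacter G) (hχ : χ ∈ Cfsg.principalBlock M G) (k : ℕ) (hdeg : (χ : G → ℂ) 1 = (p : ℂ) ^ k) : (χ : G → ℂ) = fun _ => 1 := by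
  classical
  have hpprime : p.Prime := Fact.out
  have hprime : M.IsPrime := isPrime_of_isPModular hM
  obtain ⟨a, b, hab⟩ := hna
  rcases Nat.eq_zero_or_pos k with hk0 | hkpos
  · -- linear case
    subst hk0
    rw [pow_zero] at hdeg
    have hchar := IsIrrCharacter.isCharacter χ.2
    let φ : G →* ℂˣ := linCharUnitsHom hchar hdeg
    have hφ : ∀ g, ((φ g : ℂˣ) : ℂ) = (χ : G → ℂ) g := fun g => rfl
    rcases Subgroup.Normal.eq_bot_or_eq_top (inferInstance : φ.ker.Normal) with h | h
    · exfalso
      have hinj : Function.Injective φ := (MonoidHom.ker_eq_bot_iff φ).mp h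
      apply hab
      apply hinj
      rw [map_mul, map_mul, mul_comm]
    · funext g
      have : g ∈ φ.ker := by rw [h]; exact Subgroup.mem_top g
      rw [MonoidHom.mem_ker] at this
      rw [← hφ g, this]
      rfl
  · exfalso
    obtain ⟨n, ρ, hirr, hρ⟩ := χ.2
    have hirr' : ρ.IsIrreducible := hirr
    have hfin : finrank ℂ (Fin n → ℂ) = n := Module.finrank_fin_fun ℂ
    have hn : n = p ^ k := by
      have h1 : (χ : G → ℂ) 1 = n := by
        rw [← hρ, Representation.char_one, hfin]
      rw [h1] at hdeg
      exact_mod_cast hdeg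
    -- p divides |G|
    have hdvd : p ^ k ∣ Nat.card G := by
      have h1 := irr_charDegree_dvd_card χ
      have h2 := irr_apply_one χ
      rw [hdeg] at h2
      have h3 : p ^ k = charDegree (χ : G → ℂ) := by exact_mod_cast h2
      rw [h3]
      exact h1
    have hpdvd : p ∣ Nat.card G := (dvd_pow_self p hkpos.ne').trans hdvd
    -- a nontrivial central element of a Sylow p-subgroup
    obtain ⟨P⟩ : Nonempty (Sylow p G) := inferInstance
    have hPnt : Nontrivial (P : Subgroup G) := by
      have hcard := P.card_eq_multiplicity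
      have hfac : 0 < (Nat.card G).factorization p :=
        (Nat.Prime.factorization_pos_of_dvd hpprime Nat.card_pos.ne' hpdvd)
      have h1 : 1 < Nat.card (P : Subgroup G) := by
        rw [hcard]
        exact Nat.one_lt_pow hfac.ne' hpprime.one_lt
      exact Finite.one_lt_card_iff_nontrivial.mp h1
    have hcnt : Nontrivial (Subgroup.center (P : Subgroup G)) := IsPGroup.center_nontrivial P.2
    obtain ⟨z, hz1⟩ := exists_ne (1 : Subgroup.center (P : Subgroup G))
    set z' : G := ((z : (P : Subgroup G)) : G) with hz'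
    have hz'1 : z' ≠ 1 := by
      intro h
      apply hz1
      apply Subtype.ext
      apply Subtype.ext
      exact h
    have hPle : (P : Subgroup G) ≤ Subgroup.centralizer ({z'} : Set G) := by
      intro x hx
      rw [Subgroup.mem_centralizer_singleton_iff]
      have := Subgroup.mem_center_iff.mp z.2 ⟨x, hx⟩
      have h2 : x * z' = z' * x := congrArg (fun y : (P : Subgroup G) => (y : G)) this
      exact h2
    have hidx : ¬ p ∣ (Subgroup.centralizer ({z'} : Set G)).index := by
      intro h
      exact P.not_dvd_index (h.trans (Subgroup.index_dvd_of_le hPle))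
    have hcop : Nat.Coprime (finrank ℂ (Fin n → ℂ)) (Subgroup.centralizer ({z'} : Set G)).index := by
      rw [hfin, hn]
      exact Nat.Coprime.pow_left k ((Nat.Prime.coprime_iff_not_dvd hpprime).mpr hidx)
    rcases char_eq_zero_or_norm_eq_of_coprime ρ z' hcop with h0 | hnorm
    · -- χ z' = 0
      have hχ' : ∀ g : G, MemLocalIdeal M (centralChar (fun _ : G => (1 : ℂ)) g -
          centralChar (χ : G → ℂ) g) := hχ
      have h1 := hχ' z'
      unfold centralChar at h1
      rw [← hρ, h0, mul_zero, zero_div, sub_zero, mul_one, div_one] at h1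
      have h2 : MemLocalIdeal M (((Subgroup.centralizer ({z'} : Set G)).index : Cfsg.AlgInt) : ℂ) := by
        simpa using h1
      rw [memLocalIdeal_coe_iff] at h2
      exact natCast_not_mem_of_not_dvd hM hidx h2
    · -- ρ z' scalar
      obtain ⟨ω, hω⟩ := exists_scalar_of_norm_char_eq ρ z' hnorm
      have hzmem : z' ∈ centerRep ρ := by
        intro h
        rw [hω]
        ext v
        simp
      have hnormal := centerRep_normal ρ
      rcases Subgroup.Normal.eq_bot_or_eq_top hnormal with h | h
      · rw [h, Subgroup.mem_bot] at hzmem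
        exact hz'1 hzmem
      · have hall : ∀ g h' : G, ρ g ∘ₗ ρ h' = ρ h' ∘ₗ ρ g := by
          intro g h'
          have : g ∈ centerRep ρ := by rw [h]; exact Subgroup.mem_top g
          exact this h'
        have h1 := finrank_eq_one_of_forall_comm ρ hall
        rw [hfin, hn] at h1
        have h2 : 1 < p ^ k := Nat.one_lt_pow hkpos.ne' hpprime.one_lt
        omega

end Cfsg.Agent.S0910
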