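import Cfsg.Statements.S0904
import Mathlib
import Cfsg.Agent.S0907
import Cfsg.Agent.S0910
import Cfsg.Agent.S0914
import Cfsg.Agent.Lib.Helper6.Knoerr
import Cfsg.Agent.Lib.Lead.BlockBasic
-- import your own Cfsg.Agent.* helpers here

set_option autoImplicit false
open Cfsg

namespace Cfsg.Agent.S0904

open Cfsg.Agent.Lib.Helper6 Cfsg.Agent.Lib.Helper24 Cfsg.Agent.CharLib
open scoped ComplexConjugate

/-- In a non-abelian simple group of order `s ^ a * s' ^ b * r` no element has order divisible by both
`s` and `r` (weak block orthogonality for the principal `s`-block at `g`, read modulo `s'`). -/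
theorem no_mixed_element {G : Type*} [Group G] [Finite G] [IsSimpleGroup G]
    (hna : ∃ a b : G, a * b ≠ b * a) (s s' r a b : ℕ) [hsF : Fact s.Prime] (hs' : s'.Prime)
    [hrF : Fact r.Prime] (hss' : s ≠ s') (hsr : s ≠ r) (hs'r : s' ≠ r)
    (hcard : Nat.card G = s ^ a * s' ^ b * r) (g : G) (hgs : s ∣ orderOf g) (hgr : r ∣ orderOf g) :
    False := by
  classical
  have hs : s.Prime := hsF.out
  have hr : r.Prime := hrF.out
  obtain ⟨M, hM⟩ := exists_isPModular s
  obtain ⟨Mr, hMr⟩ := exists_isPModular r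
  have hB : IsPBlock M (principalBlock M G) := ⟨trivIrr G, rfl⟩
  have h1s : ¬ s ∣ orderOf (1 : G) := by
    rw [orderOf_one]; exact fun h => hs.one_lt.ne' (Nat.dvd_one.mp h)
  have h1r : ¬ r ∣ orderOf (1 : G) := by
    rw [orderOf_one]; exact fun h => hr.one_lt.ne' (Nat.dvd_one.mp h)
  have h0 := Cfsg.Agent.S0907.result s M hM (principalBlock M G) hB 1 g h1s hgs
  -- every nontrivial member of the principal block contributes a multiple of `s'`
  have key : ∀ χ : IrrCharacter G, χ ∈ principalBlock M G → χ ≠ trivIrr G →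
      ∃ α : ℂ, IsIntegral ℤ α ∧ (χ : G → ℂ) 1 * conj ((χ : G → ℂ) g) = (s' : ℂ) * α := by
    intro χ hχ hne
    have hd1 := irr_apply_one χ
    have hdvd := irr_charDegree_dvd_card χ
    have hint : IsIntegral ℤ (conj ((χ : G → ℂ) g)) := by
      rw [← irr_apply_inv χ g]; exact irr_isIntegral χ g⁻¹
    by_cases h1 : s' ∣ charDegree (χ : G → ℂ)
    · obtain ⟨c, hc⟩ := h1
      refine ⟨(c : ℂ) * conj ((χ : G → ℂ) g), IsIntegral.mul (isIntegral_natCast c) hint, ?_⟩
      rw [hd1, hc]; push_cast; ring
    · by_cases h2 : r ∣ charDegree (χ : G → ℂ)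
      · -- defect zero for `r`
        have hdef : ¬ r ∣ Nat.card G / charDegree (χ : G → ℂ) := by
          intro h3
          have h4 : r * charDegree (χ : G → ℂ) ∣ Nat.card G := by
            obtain ⟨c, hc⟩ := hdvd
            rw [hc, Nat.mul_div_cancel_left _ (irr_charDegree_pos χ)] at h3
            rw [hc, mul_comm r]
            exact Nat.mul_dvd_mul_left _ h3
          have h5 : r * r ∣ Nat.card G := dvd_trans (Nat.mul_dvd_mul_left r h2) h4
          rw [hcard, mul_comm (s ^ a * s' ^ b) r] at h5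
          have h6 : r ∣ s ^ a * s' ^ b := Nat.dvd_of_mul_dvd_mul_left hr.pos h5
          rcases (Nat.Prime.dvd_mul hr).mp h6 with h7 | h7
          · exact hsr ((Nat.prime_dvd_prime_iff_eq hr hs).mp (hr.dvd_of_dvd_pow h7)).symm
          · exact hs'r ((Nat.prime_dvd_prime_iff_eq hr hs').mp (hr.dvd_of_dvd_pow h7)).symm
        have hblk := (Cfsg.Agent.S0914.result r Mr hMr χ).mp hdef
        have h8 := Cfsg.Agent.S0907.result r Mr hMr {χ} ⟨χ, hblk.symm⟩ 1 g h1r hgr
        rw [finsum_mem_singleton] at h8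
        exact ⟨0, isIntegral_zero, by rw [h8, mul_zero]⟩
      · -- the degree is a power of `s`: impossible in the principal block
        exfalso
        have h3 : charDegree (χ : G → ℂ) ∣ s ^ a := by
          have hc1 : Nat.Coprime (charDegree (χ : G → ℂ)) r :=
            (Nat.Coprime.symm ((Nat.Prime.coprime_iff_not_dvd hr).mpr h2))
          have hc2 : Nat.Coprime (charDegree (χ : G → ℂ)) (s' ^ b) :=
            Nat.Coprime.pow_right _ (Nat.Coprime.symm ((Nat.Prime.coprime_iff_not_dvd hs').mpr h1))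
          rw [hcard] at hdvd
          exact hc2.dvd_of_dvd_mul_right (hc1.dvd_of_dvd_mul_right hdvd)
        obtain ⟨k, -, hk⟩ := (Nat.dvd_prime_pow hs).mp h3
        have hdeg : (χ : G → ℂ) 1 = (s : ℂ) ^ k := by rw [hd1, hk]; push_cast; rfl
        have h4 := Cfsg.Agent.S0910.result s M hM hna χ hχ k hdeg
        apply hne
        apply Subtype.ext
        rw [h4]
        rfl
  choose! α hα using key
  -- split the sum
  have hfin : (principalBlock M G).Finite := Set.toFinite _
  rw [finsum_mem_eq_finite_toFinset_sum _ hfin] at h0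
  have htriv : trivIrr G ∈ hfin.toFinset := by
    rw [Set.Finite.mem_toFinset]
    intro x
    have hz : centralChar (fun _ : G => (1 : ℂ)) x - centralChar ((trivIrr G : IrrCharacter G) : G → ℂ) x = 0 :=
      sub_self _
    rw [hz]
    exact memLocalIdeal_zero (one_not_mem_of_isPModular hM)
  rw [← Finset.add_sum_erase _ _ htriv] at h0
  have h2 : ∑ χ ∈ hfin.toFinset.erase (trivIrr G), (χ : G → ℂ) 1 * conj ((χ : G → ℂ) g) =
      (s' : ℂ) * ∑ χ ∈ hfin.toFinset.erase (trivIrr G), α χ := by
    rw [Finset.mul_sum]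
    apply Finset.sum_congr rfl
    intro χ hχ
    rw [Finset.mem_erase, Set.Finite.mem_toFinset] at hχ
    exact (hα χ hχ.2 hχ.1).2
  have h3 : IsIntegral ℤ (∑ χ ∈ hfin.toFinset.erase (trivIrr G), α χ) := by
    apply IsIntegral.sum
    intro χ hχ
    rw [Finset.mem_erase, Set.Finite.mem_toFinset] at hχ
    exact (hα χ hχ.2 hχ.1).1
  rw [h2] at h0
  have h4 : ((trivIrr G : IrrCharacter G) : G → ℂ) 1 * conj (((trivIrr G : IrrCharacter G) : G → ℂ) g) = 1 := by
    show (1 : G → ℂ) 1 * conj ((1 : G → ℂ) g) = 1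
    simp
  rw [h4] at h0
  have h5 : ((1 : ℕ) : ℂ) = (s' : ℂ) * (-(∑ χ ∈ hfin.toFinset.erase (trivIrr G), α χ)) := by
    push_cast
    linear_combination h0
  have h6 := nat_dvd_of_eq_mul_isIntegral hs'.pos (IsIntegral.neg h3) h5
  exact hs'.one_lt.ne' (Nat.dvd_one.mp h6)

/-- Let G be a finite simple group of order p ^ a * q ^ b * r with p, q, r distinct primes. Then every Sylow r-subgroup S of G satisfies C_G(S) = S. -/
theorem result {G : Type*} [Group G] [Finite G] [IsSimpleGroup G] (p q r a b : ℕ) (hp : p.Prime) (hq : q.Prime) [Fact r.Prime] (hpq : p ≠ q) (hpr : p ≠ r) (hqr : q ≠ r) (hcard : Nat.card G = p ^ a * q ^ b * r) (S : Sylow r G) : Subgroup.centralizer (S : Set G) = (S : Subgroup G) := by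
  classical
  have hr : r.Prime := Fact.out
  -- the Sylow subgroup has order `r`
  have hScard : Nat.card S = r := by
    rw [Sylow.card_eq_multiplicity, hcard]
    have h1 : (p ^ a * q ^ b * r).factorization r = 1 := by
      rw [Nat.factorization_mul (mul_ne_zero (pow_ne_zero _ hp.ne_zero) (pow_ne_zero _ hq.ne_zero)) hr.ne_zero,
        Nat.factorization_mul (pow_ne_zero _ hp.ne_zero) (pow_ne_zero _ hq.ne_zero)]
      simp only [Finsupp.coe_add, Pi.add_apply, Nat.factorization_pow, Finsupp.coe_smul, Pi.smul_apply,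
        smul_eq_mul]
      rw [Nat.Prime.factorization_self hr, Nat.factorization_eq_zero_of_not_dvd
        (fun h => hpr ((Nat.prime_dvd_prime_iff_eq hr hp).mp h).symm),
        Nat.factorization_eq_zero_of_not_dvd
        (fun h => hqr ((Nat.prime_dvd_prime_iff_eq hr hq).mp h).symm)]
      simp
    rw [h1, pow_one]
  haveI : Fact (Nat.card (S : Subgroup G)).Prime := ⟨by rw [hScard]; exact hr⟩
  -- `S` is cyclic, hence abelian
  have hcyc : IsCyclic (S : Subgroup G) := isCyclic_of_prime_card hScard
  obtain ⟨⟨y, hyS⟩, hy⟩ := hcyc.exists_generator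
  have hyord : orderOf y = r := by
    have := orderOf_eq_card_of_forall_mem_zpowers hy
    rw [hScard] at this
    rw [← this]
    exact (Subgroup.orderOf_mk y hyS).symm
  have hSle : (S : Subgroup G) ≤ Subgroup.centralizer (S : Set G) := by
    intro u hu
    rw [Subgroup.mem_centralizer_iff]
    intro v hv
    obtain ⟨i, hi⟩ := hy ⟨u, hu⟩
    obtain ⟨j, hj⟩ := hy ⟨v, hv⟩
    have hu' : u = y ^ i := by
      have := congrArg Subtype.val hi; simpa using this.symm
    have hv' : v = y ^ j := by
      have := congrArg Subtype.val hj; simpa using this.symm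
    rw [hu', hv']
    exact (Commute.zpow_zpow (Commute.refl y) j i).eq
  by_contra hne
  -- a non-abelian group: otherwise `G = S`
  have hna : ∃ u v : G, u * v ≠ v * u := by
    by_contra hab
    push Not at hab
    apply hne
    apply le_antisymm _ hSle
    intro u _
    have hnorm : (S : Subgroup G).Normal := ⟨fun n hn g => by rw [hab g n, mul_assoc, mul_inv_cancel, mul_one]; exact hn⟩
    rcases hnorm.eq_bot_or_eq_top with h | h
    · exfalso
      have := hScard
      rw [h, Subgroup.card_bot] at this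
      exact hr.one_lt.ne this
    · rw [h]; exact Subgroup.mem_top u
  -- an element of prime order `t ≠ r` in the centralizer
  have hlt : (S : Subgroup G) < Subgroup.centralizer (S : Set G) := lt_of_le_of_ne hSle (Ne.symm hne)
  have hdvd1 : Nat.card (S : Subgroup G) ∣ Nat.card (Subgroup.centralizer (S : Set G)) :=
    Subgroup.card_dvd_of_le hSle
  obtain ⟨m, hm⟩ := hdvd1
  rw [hScard] at hm
  have hm1 : 1 < m := by
    by_contra h
    push Not at h
    interval_cases m
    · have := Nat.card_pos (α := Subgroup.centralizer (S : Set G))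
      rw [hm] at this; omega
    · apply hne
      symm
      apply Subgroup.eq_of_le_of_card_ge hSle
      rw [hm, hScard, mul_one]
  obtain ⟨t, ht, htm⟩ := Nat.exists_prime_and_dvd hm1.ne'
  have hCdvd : Nat.card (Subgroup.centralizer (S : Set G)) ∣ Nat.card G := Subgroup.card_subgroup_dvd_card _
  have hrm : r * m ∣ r * (p ^ a * q ^ b) := by
    rw [← hm, mul_comm r (p ^ a * q ^ b), ← hcard]; exact hCdvd
  have hm2 : m ∣ p ^ a * q ^ b := Nat.dvd_of_mul_dvd_mul_left hr.pos hrm
  have htpq : t = p ∨ t = q := by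
    rcases (Nat.Prime.dvd_mul ht).mp (dvd_trans htm hm2) with h | h
    · exact Or.inl ((Nat.prime_dvd_prime_iff_eq ht hp).mp (ht.dvd_of_dvd_pow h))
    · exact Or.inr ((Nat.prime_dvd_prime_iff_eq ht hq).mp (ht.dvd_of_dvd_pow h))
  haveI : Fact t.Prime := ⟨ht⟩
  have htC : t ∣ Nat.card (Subgroup.centralizer (S : Set G)) := by rw [hm]; exact dvd_mul_of_dvd_right htm r
  obtain ⟨⟨x, hxC⟩, hx⟩ := exists_prime_orderOf_dvd_card' t htC
  have hxord : orderOf x = t := by rw [← hx]; exact (Subgroup.orderOf_mk x hxC).symm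
  have hcomm : Commute x y := ((Subgroup.mem_centralizer_iff.mp hxC) y hyS).symm
  have htr : t ≠ r := by rcases htpq with h | h <;> rw [h] <;> assumption
  have hcop : Nat.Coprime (orderOf x) (orderOf y) := by
    rw [hxord, hyord]; exact (Nat.coprime_primes ht hr).mpr htr
  have hord : orderOf (x * y) = t * r := by
    rw [hcomm.orderOf_mul_eq_mul_orderOf_of_coprime hcop, hxord, hyord]
  have hgt : t ∣ orderOf (x * y) := by rw [hord]; exact dvd_mul_right t r
  have hgr : r ∣ orderOf (x * y) := by rw [hord]; exact dvd_mul_left r t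
  rcases htpq with h | h
  · subst h
    exact no_mixed_element hna t q r a b hq hpq hpr hqr hcard (x * y) hgt hgr
  · subst h
    have hcard' : Nat.card G = t ^ b * p ^ a * r := by rw [hcard, mul_comm (p ^ a)]
    exact no_mixed_element hna t p r b a hp (Ne.symm hpq) hqr hpr hcard' (x * y) hgt hgr

end Cfsg.Agent.S0904
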