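import Cfsg.Statements.S0905
-- import your own Cfsg.Agent.* helpers here

import Mathlib
import Cfsg.Agent.Lib.Helper6.ClassSumNil
import Cfsg.Agent.Lib.Helper16.PCore

set_option autoImplicit false
open Cfsg

namespace Cfsg.Agent.S0905

open Cfsg.Agent.Lib.Helper6

/-- Let F be a field of characteristic p and let g be an element of the finite group G no conjugate of which centralizes O_p(G). Then the class sum of g is a nilpotent element of the group algebra F[G]. -/
theorem result {G : Type*} [Group G] [Finite G] (p : ℕ) [Fact p.Prime] (F : Type*) [Field F] [CharP F p] (g : G) (hg : ∀ x : G, IsConj g x → x ∉ Subgroup.centralizer (Cfsg.pCore p G : Set G)) : IsNilpotent (∑ᶠ x ∈ ConjClasses.carrier (ConjClasses.mk g), MonoidAlgebra.single x (1 : F) : MonoidAlgebra F G) := by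
  classical
  let _ := Fintype.ofFinite G
  have hQ : IsPGroup p (Cfsg.pCore p G) := Cfsg.Agent.Lib.Helper16.pCore_isPGroup
  have hQn : (Cfsg.pCore p G).Normal := Subgroup.normal_of_characteristic _
  have hfin : (ConjClasses.carrier (ConjClasses.mk g)).Finite := Set.toFinite _
  rw [finsum_mem_eq_finite_toFinset_sum _ hfin]
  have hKmem : ∀ x, x ∈ hfin.toFinset ↔ IsConj g x := by
    intro x
    rw [Set.Finite.mem_toFinset, ConjClasses.mem_carrier_iff_mk_eq, ConjClasses.mk_eq_mk_iff_isConj]
    exact isConj_comm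
  have hK : ∀ x ∈ hfin.toFinset, ∀ h : G, h * x * h⁻¹ ∈ hfin.toFinset := by
    intro x hx h
    rw [hKmem] at hx ⊢
    exact hx.trans (isConj_iff.mpr ⟨h, rfl⟩)
  have hfix : ∀ x ∈ hfin.toFinset, ∃ q ∈ Cfsg.pCore p G, q * x * q⁻¹ ≠ x := by
    intro x hx
    have h1 := hg x ((hKmem x).mp hx)
    rw [Subgroup.mem_centralizer_iff] at h1
    push Not at h1
    obtain ⟨q, hq, hne⟩ := h1
    refine ⟨q, hq, fun h => hne ?_⟩
    calc q * x = q * x * q⁻¹ * q := by group
      _ = x * q := by rw [h]
  have hnil := isNilpotent_sum_single_zmod p (Cfsg.pCore p G) hQ hfin.toFinset hK hfix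
  have hmap := hnil.map (MonoidAlgebra.mapRingHom G (ZMod.castHom (dvd_refl p) F))
  rw [map_sum] at hmap
  simp only [MonoidAlgebra.mapRingHom_single, map_one] at hmap
  exact hmap

end Cfsg.Agent.S0905
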