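import Cfsg.Statements.S0912
-- import your own Cfsg.Agent.* helpers here

import Mathlib
import Cfsg.Agent.Lib.Helper6.ClassSumOmega
import Cfsg.Agent.Lib.Helper16.PCore

set_option autoImplicit false
open Cfsg

namespace Cfsg.Agent.S0912

open Cfsg.Agent.Lib.Helper6 Cfsg.Agent.Lib.Helper24 Cfsg.Agent.CharLib

/-- Let B be a block of the finite group G relative to a maximal ideal M of the algebraic integers containing the prime p. Every defect group of B contains the largest normal p-subgroup O_p(G). -/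
theorem result {G : Type*} [Group G] [Finite G] (p : ℕ) [Fact p.Prime] (M : Ideal Cfsg.AlgInt) (hM : Cfsg.IsPModular p M) (B : Set (Cfsg.IrrCharacter G)) (hB : Cfsg.IsPBlock M B) (D : Subgroup G) (hD : Cfsg.IsDefectGroup p M B D) : Cfsg.pCore p G ≤ D := by
  classical
  have hprime : M.IsPrime := isPrime_of_isPModular hM
  have hQ : IsPGroup p (Cfsg.pCore p G) := Cfsg.Agent.Lib.Helper16.pCore_isPGroup
  have hQn : (Cfsg.pCore p G).Normal := Subgroup.normal_of_characteristic _
  obtain ⟨g, hdef, P, rfl⟩ := hD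
  obtain ⟨χ₀, rfl⟩ := hB
  have hχ₀B : χ₀ ∈ blockOf M (χ₀ : G → ℂ) := by
    intro x
    rw [sub_self]
    exact memLocalIdeal_zero hprime.one_notMem
  have hcc := hdef.2.2 χ₀ hχ₀B
  have hex : ∃ x, IsConj g x ∧ x ∈ Subgroup.centralizer (Cfsg.pCore p G : Set G) := by
    by_contra hcon
    push Not at hcon
    exact hcc (memLocalIdeal_centralChar_of_not_centralizes hM (Cfsg.pCore p G) hQ g hcon χ₀)
  obtain ⟨x, hx, hxc⟩ := hex
  have hgc : ∀ q ∈ Cfsg.pCore p G, q * g = g * q := by
    obtain ⟨c, hc⟩ := isConj_iff.mp hx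
    rw [Subgroup.mem_centralizer_iff] at hxc
    intro q hq
    have h1 := hxc (c * q * c⁻¹) (hQn.conj_mem q hq c)
    rw [← hc] at h1
    have h2 : c⁻¹ * (c * q * c⁻¹ * (c * g * c⁻¹)) * c = c⁻¹ * (c * g * c⁻¹ * (c * q * c⁻¹)) * c := by
      rw [h1]
    have h3 : c⁻¹ * (c * q * c⁻¹ * (c * g * c⁻¹)) * c = q * g := by group
    have h4 : c⁻¹ * (c * g * c⁻¹ * (c * q * c⁻¹)) * c = g * q := by group
    rw [h3, h4] at h2
    exact h2
  have hQC : Cfsg.pCore p G ≤ Subgroup.centralizer ({g} : Set G) := by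
    intro q hq
    rw [Subgroup.mem_centralizer_iff]
    intro y hy
    rw [Set.mem_singleton_iff] at hy
    rw [hy]
    exact (hgc q hq).symm
  have hQ'n : ((Cfsg.pCore p G).subgroupOf (Subgroup.centralizer ({g} : Set G))).Normal :=
    Subgroup.Normal.subgroupOf hQn _
  have hQ'p : IsPGroup p ((Cfsg.pCore p G).subgroupOf (Subgroup.centralizer ({g} : Set G))) :=
    hQ.comap_subtype
  have hle := hQ'p.le_sylow_of_normal P
  intro q hq
  exact ⟨⟨q, hQC hq⟩, hle hq, rfl⟩

end Cfsg.Agent.S0912
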