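import Cfsg.Statements.S0916
-- import your own Cfsg.Agent.* helpers here

import Mathlib
import Cfsg.Agent.Lib.Helper6.SylowIn

set_option autoImplicit false
open Cfsg

namespace Cfsg.Agent.S0916

open Cfsg.Agent.Lib.Helper6

/-- If `D` is a Sylow `p`-subgroup of `C ⊓ N_G(D)`, it is a Sylow `p`-subgroup of `C`. -/
theorem isSylowIn_of_inf_normalizer {G : Type*} [Group G] [Finite G] {p : ℕ} [Fact p.Prime]
    {D C : Subgroup G}
    (hl : IsSylowIn p (C ⊓ Subgroup.normalizer (D : Set G)) D) : IsSylowIn p C D := by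
  have hDp : IsPGroup p D := hl.isPGroup
  have hDC : D ≤ C := hl.le.trans inf_le_left
  obtain ⟨S, hS, hDS⟩ := exists_isSylowIn_ge C hDp hDC
  by_cases hne : D = S
  · exact hne ▸ hS
  exfalso
  have hSp : IsPGroup p S := hS.isPGroup
  have hnil : Group.IsNilpotent S := hSp.isNilpotent
  have hnc : NormalizerCondition S := Group.normalizerCondition_of_isNilpotent
  have hlt : D.subgroupOf S < ⊤ := by
    rw [lt_top_iff_ne_top, Ne, Subgroup.subgroupOf_eq_top]
    intro h
    exact hne (le_antisymm hDS h)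
  obtain ⟨s, hs1, hs2⟩ := SetLike.exists_of_lt (hnc _ hlt)
  rw [← Subgroup.subgroupOf_normalizer_eq hDS, Subgroup.mem_subgroupOf] at hs1
  rw [Subgroup.mem_subgroupOf] at hs2
  have hTp : IsPGroup p (S ⊓ Subgroup.normalizer (D : Set G) : Subgroup G) := hSp.to_le inf_le_left
  have hTl : S ⊓ Subgroup.normalizer (D : Set G) ≤ C ⊓ Subgroup.normalizer (D : Set G) :=
    inf_le_inf_right _ hS.le
  have hDT : D ≤ S ⊓ Subgroup.normalizer (D : Set G) := le_inf hDS Subgroup.le_normalizer
  have hTD := hl.eq_of_le hTp hTl hDT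
  have hsT : (s : G) ∈ S ⊓ Subgroup.normalizer (D : Set G) := ⟨s.2, hs1⟩
  rw [hTD] at hsT
  exact hs2 hsT

/-- Let P be a p-subgroup of the finite group G, C its centralizer and N its normalizer. Say that a conjugacy class (of G, or of N) has defect group P when P is a Sylow p-subgroup of the centralizer (in G, respectively in N) of some element of the class. Then: (i) if the class of g in G has defect group P, the elements of that class lying in C form a single N-class, again with defect group P; (ii) every N-class with defect group P arises this way from exactly one G-class with defect group P. -/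
theorem result {G : Type*} [Group G] [Finite G] (p : ℕ) [Fact p.Prime] (P : Subgroup G) (hP : IsPGroup p P) : (∀ g : G, (∃ S : Sylow p (Subgroup.centralizer ({g} : Set G)), (S : Subgroup (Subgroup.centralizer ({g} : Set G))).map (Subgroup.centralizer ({g} : Set G)).subtype = P) → (∃ c : G, IsConj g c ∧ c ∈ Subgroup.centralizer (P : Set G)) ∧ (∀ c₁ c₂ : G, IsConj g c₁ → IsConj g c₂ → c₁ ∈ Subgroup.centralizer (P : Set G) → c₂ ∈ Subgroup.centralizer (P : Set G) → ∃ n ∈ Subgroup.normalizer (P : Set G), n * c₁ * n⁻¹ = c₂)) ∧ (∀ c : G, c ∈ Subgroup.centralizer (P : Set G) → (∃ S : Sylow p (Subgroup.centralizer ({c} : Set G) ⊓ Subgroup.normalizer (P : Set G) : Subgroup G), (S : Subgroup ↥(Subgroup.centralizer ({c} : Set G) ⊓ Subgroup.normalizer (P : Set G))).map (Subgroup.centralizer ({c} : Set G) ⊓ Subgroup.normalizer (P : Set G)).subtype = P) → ∃ S : Sylow p (Subgroup.centralizer ({c} : Set G)), (S : Subgroup (Subgroup.centralizer ({c} : Set G))).map (Subgroup.centralizer ({c} : Set G)).subtype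 = P) := by
  refine ⟨?_, ?_⟩
  · rintro g ⟨S, hS⟩
    have hPS : IsSylowIn p (Subgroup.centralizer ({g} : Set G)) P := ⟨S, hS.symm⟩
    have hgP : g ∈ Subgroup.centralizer (P : Set G) := by
      rw [Subgroup.mem_centralizer_iff]
      intro d hd
      exact Subgroup.mem_centralizer_singleton_iff.mp (hPS.le hd)
    refine ⟨⟨g, IsConj.refl g, hgP⟩, ?_⟩
    have key : ∀ c : G, IsConj g c → c ∈ Subgroup.centralizer (P : Set G) →
        ∃ n ∈ Subgroup.normalizer (P : Set G), n * g * n⁻¹ = c := by
      intro c hc hcP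
      obtain ⟨a, rfl⟩ := isConj_iff.mp hc
      apply exists_mem_normalizer_conj hPS
      intro d hd
      rw [Subgroup.mem_centralizer_singleton_iff]
      exact Subgroup.mem_centralizer_iff.mp hcP d hd
    intro c₁ c₂ h₁ h₂ hc₁ hc₂
    obtain ⟨n₁, hn₁, e₁⟩ := key c₁ h₁ hc₁
    obtain ⟨n₂, hn₂, e₂⟩ := key c₂ h₂ hc₂
    refine ⟨n₂ * n₁⁻¹, Subgroup.mul_mem _ hn₂ (Subgroup.inv_mem _ hn₁), ?_⟩
    rw [← e₁, ← e₂]
    group
  · rintro c hc ⟨S, hS⟩
    have h1 : IsSylowIn p (Subgroup.centralizer ({c} : Set G) ⊓ Subgroup.normalizer (P : Set G)) P :=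
      ⟨S, hS.symm⟩
    obtain ⟨S', hS'⟩ := isSylowIn_of_inf_normalizer h1
    exact ⟨S', hS'.symm⟩

end Cfsg.Agent.S0916
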