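import Cfsg.Statements.S0926
import Cfsg.Agent.Lib.Lead.SecondMain3
import Cfsg.Agent.S0927
import Cfsg.Agent.Lib.Helper6.MinMax
import Cfsg.Agent.Lib.Helper6.Osima2

set_option autoImplicit false
open Cfsg

namespace Cfsg.Agent.S0926

/-- Let B be a block of the finite group G with defect group D (relative to a maximal ideal M of the algebraic integers containing p), let χ ∈ B have height zero, and let x be a p-element. Then some conjugate of x lies in D if and only if χ does not vanish on the whole p-section of x (the elements whose p-part is conjugate to x). -/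
theorem result {G : Type*} [Group G] [Finite G] (p : ℕ) [Fact p.Prime] (M : Ideal Cfsg.AlgInt) (hM : Cfsg.IsPModular p M) (B : Set (Cfsg.IrrCharacter G)) (hB : Cfsg.IsPBlock M B) (D : Subgroup G) (hD : Cfsg.IsDefectGroup p M B D) (χ : Cfsg.IrrCharacter G) (hχ : χ ∈ B) (h0 : Cfsg.blockHeight p B (χ : G → ℂ) = 0) (x : G) (hx : ∃ k : ℕ, orderOf x = p ^ k) : (∃ g : G, g * x * g⁻¹ ∈ D) ↔ ∃ u : G, (∃ z : G, Cfsg.IsPPart p u z ∧ IsConj x z) ∧ (χ : G → ℂ) u ≠ 0 := by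
  classical
  have hprime : M.IsPrime := Cfsg.Agent.Lib.Helper24.isPrime_of_isPModular hM
  let _ : Fintype G := Fintype.ofFinite G
  obtain ⟨χ₀, hBχ₀⟩ := hB
  have hBblock : Cfsg.IsPBlock M B := ⟨χ₀, hBχ₀⟩
  have hχ₀B : χ₀ ∈ B := by rw [hBχ₀]; exact Cfsg.Agent.Lib.Helper6.mem_blockOf_self χ₀
  obtain ⟨y₀, hy₀, P, hDP⟩ := hD
  constructor
  · rintro ⟨g, hg⟩
    rw [hDP] at hg
    obtain ⟨x'', hx''P, hx''eq⟩ := hg
    have h1 := (Cfsg.Agent.S0927.result p M hM B hBblock y₀ hy₀ P x'' hx''P).1 χ hχ h0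
    refine ⟨(x'' : G) * y₀, ⟨(x'' : G), ?_, ?_⟩, ?_⟩
    · refine ⟨y₀, rfl, ?_, ?_, ?_⟩
      · have := x''.2
        rw [Subgroup.mem_centralizer_iff] at this
        exact (this y₀ rfl).symm
      · obtain ⟨k, hk⟩ := hx
        refine ⟨k, ?_⟩
        have h2 : (x'' : G) = g * x * g⁻¹ := hx''eq
        rw [h2, ← hk]
        exact (MulAut.conj g).orderOf_eq x
      · intro hdvd
        apply hy₀.2.1
        have h3 := Cfsg.Agent.Lib.Helper6.blockCoeff_eq_zero_of_dvd_orderOf hM χ₀ y₀ hdvd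
        rw [← hBχ₀] at h3
        rw [h3]
        exact Cfsg.Agent.Lib.Helper24.memLocalIdeal_zero hprime.one_notMem
    · have h2 : (x'' : G) = g * x * g⁻¹ := hx''eq
      rw [h2]
      exact isConj_iff.mpr ⟨g, rfl⟩
    · intro h0'
      apply h1
      rw [h0']
      exact Cfsg.Agent.Lib.Helper24.memLocalIdeal_zero hprime.one_notMem
  · rintro ⟨u, ⟨z, hz, hxz⟩, hne⟩
    by_contra hcon
    push Not at hcon
    apply hne
    apply Cfsg.Agent.CharLib.irr_eq_zero_of_ppart_not_mem_defectGroup hM χ u z hz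
    intro E hE hzE
    have hBeq : Cfsg.blockOf M (χ : G → ℂ) = B :=
      Cfsg.Agent.Lib.Helper6.isPBlock_eq_of_mem ⟨χ, rfl⟩ hBblock
        (Cfsg.Agent.Lib.Helper6.mem_blockOf_self χ) hχ
    rw [hBeq] at hE
    obtain ⟨y₁, hy₁, Q, hEQ⟩ := hE
    have hcent : Cfsg.Agent.Lib.Helper6.CentLE p y₁ y₀ := by
      apply Cfsg.Agent.Lib.Helper6.centLE_of_blockCoeff hM χ₀ y₀ (hy₀.2.2 χ₀ hχ₀B) y₁
      rw [← hBχ₀]
      exact hy₁.2.1
    obtain ⟨c, hc⟩ := Cfsg.Agent.Lib.Helper6.CentLE.sylow_le hcent Q P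
    rw [← hEQ, ← hDP] at hc
    obtain ⟨d, hdD, hdz⟩ := hc hzE
    simp only [MulEquiv.coe_toMonoidHom, MulAut.conj_apply] at hdz
    obtain ⟨t, ht⟩ := isConj_iff.mp hxz
    apply hcon (c⁻¹ * t)
    have : c⁻¹ * t * x * (c⁻¹ * t)⁻¹ = d := by
      have h5 : z = c * d * c⁻¹ := hdz.symm
      have h6 : t * x * t⁻¹ = c * d * c⁻¹ := by rw [ht, h5]
      calc c⁻¹ * t * x * (c⁻¹ * t)⁻¹ = c⁻¹ * (t * x * t⁻¹) * c := by group
        _ = c⁻¹ * (c * d * c⁻¹) * c := by rw [h6]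
        _ = d := by group
    rw [this]
    exact hdD

end Cfsg.Agent.S0926
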