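import Cfsg.Statements.S0932
import Cfsg.Agent.Lib.Helper6.IndFun
-- import your own Cfsg.Agent.* helpers here

set_option autoImplicit false
open Cfsg

namespace Cfsg.Agent.S0932

open Cfsg.Agent.Lib.Helper6

/-- Let H be a subgroup of the finite group G and ξ a character of H. For every g ∈ G, the sum of ξ h / ξ 1 over the elements h ∈ H that are conjugate in G to g equals the central character at g of the character of G induced from ξ (class size times value divided by degree). -/
theorem result {G : Type*} [Group G] [Fintype G] (H : Subgroup G) (ξ : H → ℂ) (hξ : Cfsg.IsCharacter H ξ) (g : G) : Cfsg.inducedCentralChar H ξ g = Cfsg.centralChar (Cfsg.indFun H ξ) g := by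
  classical
  unfold Cfsg.inducedCentralChar Cfsg.centralChar
  -- value of the induced function at 1
  have hone : Cfsg.indFun H ξ 1 = (Nat.card H : ℂ)⁻¹ * ((Nat.card G : ℂ) * ξ 1) := by
    rw [indFun_apply]
    congr 1
    have : ∀ x : G, Cfsg.extendByZero H ξ (x⁻¹ * 1 * x) = ξ 1 := by
      intro x
      have h1 : x⁻¹ * 1 * x = ((1 : H) : G) := by simp
      rw [h1, extendByZero_coe]
    simp only [this, Finset.sum_const, Finset.card_univ, nsmul_eq_mul, Nat.card_eq_fintype_card]
  -- value at g
  have hg : Cfsg.indFun H ξ g = (Nat.card H : ℂ)⁻¹ *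
      ((Nat.card (Subgroup.centralizer ({g} : Set G)) : ℂ) *
        ∑ h : H, if IsConj g (h : G) then ξ h else 0) := by
    rw [indFun_apply, sum_conj_eq g (Cfsg.extendByZero H ξ)]
    congr 2
    rw [← sum_ite_extendByZero H ξ (fun y => IsConj g y), ← Finset.sum_filter]
    apply Finset.sum_congr
    · ext y; rw [mem_image_conj_iff]; simp
    · intros; rfl
  rw [hone, hg, finsum_mem_eq_sum_ite]
  have hH : (Nat.card H : ℂ) ≠ 0 := by exact_mod_cast (Nat.card_pos (α := H)).ne'
  have hC : (Nat.card (Subgroup.centralizer ({g} : Set G)) : ℂ) ≠ 0 := by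
    exact_mod_cast (Nat.card_pos (α := Subgroup.centralizer ({g} : Set G))).ne'
  have hidx : ((Subgroup.centralizer ({g} : Set G)).index : ℂ) *
      (Nat.card (Subgroup.centralizer ({g} : Set G)) : ℂ) = (Nat.card G : ℂ) := by
    rw [← Nat.cast_mul, mul_comm, Subgroup.card_mul_index]
  have hG : (Nat.card G : ℂ) ≠ 0 := by exact_mod_cast (Nat.card_pos (α := G)).ne'
  by_cases h1 : ξ 1 = 0
  · simp [h1]
  · have hsum : ∑ i : H, (if i ∈ {h : H | IsConj g (h : G)} then ξ i / ξ 1 else 0) =
        (∑ h : H, if IsConj g (h : G) then ξ h else 0) / ξ 1 := by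
      rw [Finset.sum_div]
      apply Finset.sum_congr rfl
      intro h _
      show (if IsConj g (h : G) then ξ h / ξ 1 else 0) = (if IsConj g (h : G) then ξ h else 0) / ξ 1
      split_ifs <;> simp
    have hidx0 : ((Subgroup.centralizer ({g} : Set G)).index : ℂ) ≠ 0 := by
      intro h0
      rw [h0, zero_mul] at hidx
      exact hG hidx.symm
    rw [hsum]
    rw [← hidx]
    field_simp

end Cfsg.Agent.S0932
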