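import Cfsg.Statements.S0933
-- import your own Cfsg.Agent.* helpers here

import Mathlib
import Cfsg.Agent.S0932
import Cfsg.Agent.Lib.Helper6.ClassSum
import Cfsg.Agent.Lib.Helper6.IndFun
import Cfsg.Agent.Lib.Helper24.LocalRing

set_option autoImplicit false
open Cfsg

namespace Cfsg.Agent.S0933

open Cfsg.Agent.Lib.Helper6 Cfsg.Agent.Lib.Helper24 Cfsg.Agent.CharLib
open scoped ComplexConjugate

/-- The induced central character as a sum over the conjugacy classes of the subgroup. -/
theorem inducedCentralChar_eq_sum {G : Type*} [Group G] (H : Subgroup G) [Fintype H]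
    [Fintype (ConjClasses H)] [DecidablePred (fun h : H => True)] (ξ : H → ℂ)
    (hξ : IsClassFunction H ξ) (g : G) [DecidablePred (fun h : H => IsConj g (h : G))] :
    inducedCentralChar H ξ g = ∑ C : ConjClasses H,
      if IsConj g ((Quotient.out C : H) : G) then centralChar ξ (Quotient.out C) else 0 := by
  classical
  unfold inducedCentralChar
  rw [finsum_mem_eq_sum_ite]
  have hF : IsClassFunction H (fun h : H => if h ∈ {h : H | IsConj g (h : G)} then ξ h / ξ 1 else 0) := by
    intro h k
    simp only [Set.mem_setOf_eq]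
    have hiff : IsConj g ((k * h * k⁻¹ : H) : G) ↔ IsConj g (h : G) := by
      have hc : IsConj (h : G) ((k * h * k⁻¹ : H) : G) := by
        rw [isConj_iff]
        exact ⟨(k : G), by simp⟩
      constructor
      · intro h1; exact h1.trans hc.symm
      · intro h1; exact h1.trans hc
    by_cases h1 : IsConj g (h : G)
    · rw [if_pos (hiff.mpr h1), if_pos h1, hξ h k]
    · rw [if_neg (fun h2 => h1 (hiff.mp h2)), if_neg h1]
  rw [sum_eq_sum_conjClasses hF]
  apply Finset.sum_congr rfl
  intro C _
  simp only [Set.mem_setOf_eq]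
  split_ifs
  · unfold centralChar
    ring
  · rw [mul_zero]

/-- Let H be a subgroup of the finite group G and ξ an irreducible character of H such that the induced function ξ^G is an irreducible character of G. Then, relative to any maximal ideal M of the algebraic integers containing the prime p, the block of ξ induces the block of ξ^G. -/
theorem result {G : Type*} [Group G] [Fintype G] (p : ℕ) [Fact p.Prime] (M : Ideal Cfsg.AlgInt) (hM : Cfsg.IsPModular p M) (H : Subgroup G) (ξ : Cfsg.IrrCharacter H) (hind : Cfsg.IsIrrCharacter G (Cfsg.indFun H (ξ : H → ℂ))) : Cfsg.IsInducedBlock M H (Cfsg.blockOf M (ξ : H → ℂ)) (Cfsg.blockOf M (Cfsg.indFun H (ξ : H → ℂ))) := by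
  classical
  let _ : Fintype H := Fintype.ofFinite H
  let _ : Fintype (ConjClasses H) := Fintype.ofFinite _
  have hprime : M.IsPrime := isPrime_of_isPModular hM
  have hM1 : (1 : Cfsg.AlgInt) ∉ M := one_not_mem_of_isPModular hM
  refine ⟨⟨ξ, rfl⟩, ⟨⟨indFun H (ξ : H → ℂ), hind⟩, rfl⟩, ?_⟩
  intro ξ' hξ' χ hχ g
  have hξ'b : ∀ h : H, MemLocalIdeal M (centralChar (ξ : H → ℂ) h - centralChar (ξ' : H → ℂ) h) := hξ'
  have hχB : ∀ g : G, MemLocalIdeal M (centralChar (indFun H (ξ : H → ℂ)) g -
      centralChar (χ : G → ℂ) g) := hχ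
  have hcls : ∀ η : IrrCharacter H, IsClassFunction H (η : H → ℂ) :=
    fun η => IsCharacter.isClassFunction (IsIrrCharacter.isCharacter η.2)
  have h1 : MemLocalIdeal M (inducedCentralChar H (ξ' : H → ℂ) g -
      inducedCentralChar H (ξ : H → ℂ) g) := by
    rw [inducedCentralChar_eq_sum H _ (hcls ξ') g, inducedCentralChar_eq_sum H _ (hcls ξ) g,
      ← Finset.sum_sub_distrib]
    apply sum_memLocalIdeal
    intro C _
    split_ifs
    · have := memLocalIdeal_neg (hξ'b (Quotient.out C))
      rw [neg_sub] at this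
      exact this
    · rw [sub_zero]
      exact memLocalIdeal_zero hM1
  have h2 : inducedCentralChar H (ξ : H → ℂ) g = centralChar (indFun H (ξ : H → ℂ)) g :=
    Cfsg.Agent.S0932.result H (ξ : H → ℂ) (IsIrrCharacter.isCharacter ξ.2) g
  have h3 := memLocalIdeal_add h1 (hχB g)
  rw [← h2] at h3
  have h4 : inducedCentralChar H (ξ' : H → ℂ) g - inducedCentralChar H (ξ : H → ℂ) g +
      (inducedCentralChar H (ξ : H → ℂ) g - centralChar (χ : G → ℂ) g) =
      inducedCentralChar H (ξ' : H → ℂ) g - centralChar (χ : G → ℂ) g := by ring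
  rw [h4] at h3
  exact h3

end Cfsg.Agent.S0933
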