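import Cfsg.Statements.S0934
-- import your own Cfsg.Agent.* helpers here

import Mathlib
import Cfsg.Agent.Lib.Helper6.Osima
import Cfsg.Agent.Lib.Lead.CharInd
import Cfsg.Agent.S0932

set_option autoImplicit false
open Cfsg

namespace Cfsg.Agent.S0934

open Cfsg.Agent.Lib.Helper6 Cfsg.Agent.Lib.Helper24 Cfsg.Agent.CharLib
open scoped ComplexConjugate

/-- Let H be a subgroup of the finite group G and fix a maximal ideal M of the algebraic integers containing the prime p. If the block b of H induces the block B of G and ξ ∈ b, then there is χ ∈ B whose restriction to H has nonzero inner product with ξ. -/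
theorem result {G : Type*} [Group G] [Fintype G] (p : ℕ) [Fact p.Prime] (M : Ideal Cfsg.AlgInt) (hM : Cfsg.IsPModular p M) (H : Subgroup G) [Fintype H] (b : Set (Cfsg.IrrCharacter H)) (B : Set (Cfsg.IrrCharacter G)) (hind : Cfsg.IsInducedBlock M H b B) (ξ : Cfsg.IrrCharacter H) (hξ : ξ ∈ b) : ∃ χ ∈ B, Cfsg.classInner (fun h : H => (χ : G → ℂ) h) (ξ : H → ℂ) ≠ 0 := by
  classical
  have hprime : M.IsPrime := isPrime_of_isPModular hM
  let _ : Fintype (ConjClasses G) := Fintype.ofFinite _
  let _ : Fintype (IrrCharacter G) := Fintype.ofFinite _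
  obtain ⟨-, hB, hcong⟩ := hind
  obtain ⟨χ₀, rfl⟩ := hB
  set B := blockOf M (χ₀ : G → ℂ) with hBdef
  have hχ₀B : χ₀ ∈ B := by
    intro x
    rw [sub_self]
    exact memLocalIdeal_zero hprime.one_notMem
  set θ := Cfsg.indFun H (ξ : H → ℂ) with hθ
  have hθcls : IsClassFunction G θ := indFun_isClassFunction H _
  have hξchar : IsCharacter H (ξ : H → ℂ) := IsIrrCharacter.isCharacter ξ.2
  by_contra hcon
  push Not at hcon
  have hG0 : (Nat.card G : ℂ) ≠ 0 := Nat.cast_ne_zero.mpr Nat.card_pos.ne'
  -- the induced character is orthogonal to the block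
  have horth : ∀ χ ∈ B, ∑ g : G, θ g * conj ((χ : G → ℂ) g) = 0 := by
    intro χ hχ
    have hχcls : IsClassFunction G (χ : G → ℂ) :=
      IsCharacter.isClassFunction (IsIrrCharacter.isCharacter χ.2)
    have h1 := frobenius_reciprocity H (ξ : H → ℂ) hχcls
    have h2 : classInner (ξ : H → ℂ) (fun h : H => (χ : G → ℂ) h) = 0 := by
      rw [← classInner_conj_symm, hcon χ hχ, map_zero]
    rw [h2] at h1
    unfold classInner at h1
    rcases mul_eq_zero.mp h1 with h3 | h3
    · exact absurd (inv_eq_zero.mp h3) hG0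
    · exact h3
  have hzero : ∑ g : G, blockCoeff B g * θ g = 0 := by
    simp_rw [blockCoeff_eq_sum B, mul_assoc, Finset.sum_mul]
    rw [← Finset.mul_sum, Finset.sum_comm]
    rw [Finset.sum_eq_zero, mul_zero]
    intro χ _
    by_cases hχ : χ ∈ B
    · simp_rw [if_pos hχ]
      have h1 : ∀ g : G, (χ : G → ℂ) 1 * conj ((χ : G → ℂ) g) * θ g =
          (χ : G → ℂ) 1 * (θ g * conj ((χ : G → ℂ) g)) := fun g => by ring
      simp_rw [h1]
      rw [← Finset.mul_sum, horth χ hχ, mul_zero]
    · simp_rw [if_neg hχ, zero_mul]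
      exact Finset.sum_const_zero
  -- the value of the induced central character on the block idempotent
  have hF : IsClassFunction G (fun g => blockCoeff B g * θ g / θ 1) := by
    intro g h
    simp only
    rw [blockCoeff_isClassFunction B g h, hθcls g h]
  have hS : ∑ C : ConjClasses G, blockCoeff B (Quotient.out C) *
      centralChar θ (Quotient.out C) = 0 := by
    have h1 := sum_eq_sum_conjClasses hF
    have h2 : ∑ g : G, blockCoeff B g * θ g / θ 1 = 0 := by
      rw [← Finset.sum_div, hzero, zero_div]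
    rw [h2] at h1
    rw [h1]
    apply Finset.sum_congr rfl
    intro C _
    unfold centralChar
    ring
  have hone := sum_blockCoeff_mul_centralChar B χ₀
  rw [if_pos hχ₀B] at hone
  have hdiff : MemLocalIdeal M (∑ C : ConjClasses G, blockCoeff B (Quotient.out C) *
      (centralChar θ (Quotient.out C) - centralChar (χ₀ : G → ℂ) (Quotient.out C))) := by
    apply sum_memLocalIdeal
    intro C _
    apply memLocalIdeal_mul_left (memLocalRing_blockCoeff_blockOf χ₀ _)
    have h1 := hcong ξ hξ χ₀ hχ₀B (Quotient.out C)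
    rw [Cfsg.Agent.S0932.result H (ξ : H → ℂ) hξchar] at h1
    exact h1
  simp_rw [mul_sub] at hdiff
  rw [Finset.sum_sub_distrib, hS, hone, zero_sub] at hdiff
  have := memLocalIdeal_neg hdiff
  rw [neg_neg] at this
  exact not_memLocalIdeal_one this

end Cfsg.Agent.S0934
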