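import Cfsg.Statements.S0944
import Mathlib
-- import your own Cfsg.Agent.* helpers here

set_option autoImplicit false
open Cfsg

namespace Cfsg.Agent.S0944

/-- trace of an involutive endomorphism of a f.d. complex space: `trace T = 2k - n`. -/
theorem trace_of_sq_eq_one {V : Type*} [AddCommGroup V] [Module ℂ V] [FiniteDimensional ℂ V]
    (T : V →ₗ[ℂ] V) (hT : T * T = 1) :
    ∃ k : ℕ, LinearMap.trace ℂ V T = 2 * (k : ℂ) - (Module.finrank ℂ V : ℂ) := by
  set P : V →ₗ[ℂ] V := (2 : ℂ)⁻¹ • (1 + T) with hP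
  have hidem : IsIdempotentElem P := by
    unfold IsIdempotentElem
    rw [hP, smul_mul_smul_comm]
    have : (1 + T) * (1 + T) = (2 : ℂ) • (1 + T) := by
      rw [mul_add, add_mul, add_mul, hT, one_mul, mul_one, one_mul, two_smul]
      abel
    rw [this, smul_smul]
    congr 1
    norm_num
  have hproj := LinearMap.IsIdempotentElem.isProj_range P hidem
  have htr := hproj.trace
  refine ⟨Module.finrank ℂ (LinearMap.range P), ?_⟩
  rw [← htr, hP, map_smul, map_add, LinearMap.trace_one, smul_eq_mul]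
  ring

/-- Let χ be an irreducible character of the finite group G and u an involution. Then χ u is a rational integer n with n ≡ χ 1 (mod 2). -/
theorem result {G : Type*} [Group G] [Finite G] (χ : Cfsg.IrrCharacter G) (u : G) (hu : orderOf u = 2) : ∃ n : ℤ, (χ : G → ℂ) u = (n : ℂ) ∧ (2 : ℤ) ∣ (Cfsg.charDegree (χ : G → ℂ) : ℤ) - n := by
  obtain ⟨χf, n, ρ, hirr, hχ⟩ := χ
  have hu2 : u * u = 1 := by
    have := pow_orderOf_eq_one u
    rw [hu, pow_two] at this
    exact this
  have hT : ρ u * ρ u = 1 := by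
    rw [← map_mul, hu2, map_one]
  obtain ⟨k, hk⟩ := trace_of_sq_eq_one (ρ u) hT
  have hdeg : Cfsg.charDegree χf = n := by
    unfold Cfsg.charDegree
    rw [← hχ, Representation.char_one]
    simp
  refine ⟨2 * (k : ℤ) - (n : ℤ), ?_, ?_⟩
  · change χf u = _
    rw [← hχ]
    change LinearMap.trace ℂ _ (ρ u) = _
    rw [hk]
    simp
  · change (2 : ℤ) ∣ (Cfsg.charDegree χf : ℤ) - _
    rw [hdeg]
    exact ⟨(n : ℤ) - k, by ring⟩

end Cfsg.Agent.S0944
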