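import Cfsg.Statements.S0945
-- import your own Cfsg.Agent.* helpers here
import Mathlib
import Cfsg.Agent.Lib.Helper18.AbelianAut

set_option autoImplicit false
open Cfsg

namespace Cfsg.Agent.S0945

/-- Let P be a Sylow 2-subgroup of the finite group G isomorphic to Z/2^m × Z/2^m with m ≥ 1. Then (i) the index of C_G(P) in N_G(P) is 1 or 3, and (ii) if it is not 1, then for every z ≠ 1 in P, C_G(z) ∩ N_G(P) = C_G(P). -/
theorem result {G : Type*} [Group G] [Finite G] (P : Sylow 2 G) (m : ℕ) (hm : 1 ≤ m) (e : (P : Subgroup G) ≃* Multiplicative (ZMod (2 ^ m) × ZMod (2 ^ m))) : ((Subgroup.centralizer (P : Set G)).relIndex (Subgroup.normalizer (P : Set G)) = 1 ∨ (Subgroup.centralizer (P : Set G)).relIndex (Subgroup.normalizer (P : Set G)) = 3) ∧ ((Subgroup.centralizer (P : Set G)).relIndex (Subgroup.normalizer (P : Set G)) ≠ 1 → ∀ z ∈ (P : Subgroup G), z ≠ 1 → Subgroup.centralizer ({z} : Set G) ⊓ Subgroup.normalizer (P : Set G) = Subgroup.centralizer (P : Set G)) := by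
  haveI : Fact (Nat.Prime 2) := ⟨Nat.prime_two⟩
  obtain ⟨hPc, t₁, t₂, h₁P, h₂P, h₁1, h₂1, h12, h₁₁, h₂₂, hlist⟩ :=
    Cfsg.Agent.Lib.Helper18.exists_involutions_of_homocyclic (P : Subgroup G) m hm e
  have hcore := Cfsg.Agent.Lib.Helper18.sylow_two_centralizes_of_fixes_involution P hPc t₁ t₂
    h₁P h₂P h₁1 h₂1 h12 h₁₁ h₂₂ hlist
  have hCmem : ∀ n : G, (∀ x ∈ (P : Subgroup G), n * x * n⁻¹ = x) →
      n ∈ Subgroup.centralizer (P : Set G) := by
    intro n h
    rw [Subgroup.mem_centralizer_iff]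
    intro x hx
    have := h x hx
    calc x * n = (n * x * n⁻¹) * n := by rw [this]
      _ = n * x := by group
  have hPC : (P : Subgroup G) ≤ Subgroup.centralizer (P : Set G) := by
    intro y hy
    rw [Subgroup.mem_centralizer_iff]
    intro x hx
    exact hPc x hx y hy
  have hinj : ∀ (n x y : G), n * x * n⁻¹ = n * y * n⁻¹ → x = y := by
    intro n x y h
    have := congrArg (fun z => n⁻¹ * z * n) h
    simpa [mul_assoc] using this
  refine ⟨?_, ?_⟩
  · have hodd : ¬ 2 ∣ (Subgroup.centralizer (P : Set G)).relIndex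
        (Subgroup.normalizer (P : Set G)) := fun h =>
      P.not_dvd_index (h.trans ((Subgroup.relIndex_dvd_of_le_left _ hPC).trans
        (Subgroup.relIndex_dvd_index_of_le Subgroup.le_normalizer)))
    have hle : (Subgroup.centralizer (P : Set G)).relIndex
        (Subgroup.normalizer (P : Set G)) ≤ 3 := by
      classical
      obtain ⟨C, hC⟩ : ∃ C, C = Subgroup.centralizer (P : Set G) := ⟨_, rfl⟩
      obtain ⟨N, hN⟩ : ∃ N, N = Subgroup.normalizer (P : Set G) := ⟨_, rfl⟩
      rw [← hC, ← hN]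
      have hwd : ∀ a b : ↥N, QuotientGroup.leftRel (C.subgroupOf N) a b →
          (a : G) * t₁ * (a : G)⁻¹ = (b : G) * t₁ * (b : G)⁻¹ := by
        intro a b hab
        rw [QuotientGroup.leftRel_apply, Subgroup.mem_subgroupOf, hC,
          Subgroup.mem_centralizer_iff] at hab
        have h1 := hab t₁ h₁P
        simp only [Subgroup.coe_mul, Subgroup.coe_inv] at h1
        -- h1 : t₁ * (a⁻¹ * b) = a⁻¹ * b * t₁
        calc (a : G) * t₁ * (a : G)⁻¹ = (a : G) * (t₁ * ((a : G)⁻¹ * (b : G))) * (b : G)⁻¹ := by group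
          _ = (a : G) * ((a : G)⁻¹ * (b : G) * t₁) * (b : G)⁻¹ := by rw [h1]
          _ = (b : G) * t₁ * (b : G)⁻¹ := by group
      let f : (↥N ⧸ C.subgroupOf N) → G := fun q =>
        Quotient.liftOn' q (fun n : ↥N => (n : G) * t₁ * (n : G)⁻¹) hwd
      have hf : Function.Injective f := by
        intro q₁ q₂
        refine Quotient.inductionOn₂' q₁ q₂ ?_
        intro a b hab
        change (a : G) * t₁ * (a : G)⁻¹ = (b : G) * t₁ * (b : G)⁻¹ at hab
        apply Quotient.sound'
        rw [QuotientGroup.leftRel_apply, Subgroup.mem_subgroupOf, hC]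
        apply hCmem
        have hmem : ((a⁻¹ * b : ↥N) : G) ∈ Subgroup.normalizer (P : Set G) := by
          rw [← hN]; exact (a⁻¹ * b).2
        apply hcore _ hmem t₁ h₁P h₁1 h₁₁
        simp only [Subgroup.coe_mul, Subgroup.coe_inv]
        calc (a : G)⁻¹ * (b : G) * t₁ * ((a : G)⁻¹ * (b : G))⁻¹
            = (a : G)⁻¹ * ((b : G) * t₁ * (b : G)⁻¹) * (a : G) := by group
          _ = (a : G)⁻¹ * ((a : G) * t₁ * (a : G)⁻¹) * (a : G) := by rw [hab]
          _ = t₁ := by group
      have hrange : ∀ q, f q ∈ ({t₁, t₂, t₁ * t₂} : Finset G) := by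
        intro q
        refine Quotient.inductionOn' q ?_
        intro a
        change (a : G) * t₁ * (a : G)⁻¹ ∈ ({t₁, t₂, t₁ * t₂} : Finset G)
        have haN : (a : G) ∈ Subgroup.normalizer (P : Set G) := by rw [← hN]; exact a.2
        have h1 : (a : G) * t₁ * (a : G)⁻¹ ∈ (P : Subgroup G) :=
          (Subgroup.mem_normalizer_iff.mp haN t₁).mp h₁P
        have h2 : ((a : G) * t₁ * (a : G)⁻¹) * ((a : G) * t₁ * (a : G)⁻¹) = 1 := by
          calc ((a : G) * t₁ * (a : G)⁻¹) * ((a : G) * t₁ * (a : G)⁻¹)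
              = (a : G) * (t₁ * t₁) * (a : G)⁻¹ := by group
            _ = 1 := by rw [h₁₁]; group
        simp only [Finset.mem_insert, Finset.mem_singleton]
        rcases hlist _ h1 h2 with h | h | h | h
        · exfalso; apply h₁1
          have : (a : G) * t₁ * (a : G)⁻¹ = (a : G) * 1 * (a : G)⁻¹ := by rw [h]; group
          exact hinj _ _ _ this
        · exact Or.inl h
        · exact Or.inr (Or.inl h)
        · exact Or.inr (Or.inr h)
      have hcard : Nat.card (↥N ⧸ C.subgroupOf N) ≤ Nat.card ({t₁, t₂, t₁ * t₂} : Finset G) := by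
        apply Nat.card_le_card_of_injective (fun q => (⟨f q, hrange q⟩ : ({t₁, t₂, t₁ * t₂} : Finset G)))
        intro q₁ q₂ h
        apply hf
        exact congrArg Subtype.val h
      rw [Nat.card_eq_finsetCard] at hcard
      exact hcard.trans Finset.card_le_three
    have hpos : (Subgroup.centralizer (P : Set G)).relIndex
        (Subgroup.normalizer (P : Set G)) ≠ 0 := by
      unfold Subgroup.relIndex
      exact Subgroup.index_ne_zero_of_finite
    rw [Nat.two_dvd_ne_zero] at hodd
    omega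
  · intro _ z hzP hz1
    apply le_antisymm
    · intro n hn
      obtain ⟨hnz, hnN⟩ := Subgroup.mem_inf.mp hn
      apply hCmem
      -- an involution in ⟨z⟩
      obtain ⟨k, hk⟩ := (IsPGroup.iff_orderOf.mp P.isPGroup') ⟨z, hzP⟩
      rw [Subgroup.orderOf_mk] at hk
      have hk0 : k ≠ 0 := by
        intro h
        rw [h, pow_zero, orderOf_eq_one_iff] at hk
        exact hz1 hk
      obtain ⟨k', rfl⟩ : ∃ k', k = k' + 1 := ⟨k - 1, by omega⟩
      have htP : z ^ (2 ^ k') ∈ (P : Subgroup G) := Subgroup.pow_mem _ hzP _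
      have ht1 : z ^ (2 ^ k') ≠ 1 := by
        intro h
        have := orderOf_dvd_of_pow_eq_one h
        rw [hk] at this
        have h2 := Nat.le_of_dvd (by positivity) this
        have : 2 ^ k' < 2 ^ (k' + 1) := Nat.pow_lt_pow_right (by norm_num) (by omega)
        omega
      have htt : z ^ (2 ^ k') * z ^ (2 ^ k') = 1 := by
        rw [← pow_add, ← two_mul, ← pow_succ', ← hk, pow_orderOf_eq_one]
      have hcomm : Commute n z := by
        rw [Subgroup.mem_centralizer_iff] at hnz
        exact (hnz z rfl).symm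
      have hfix : n * z ^ (2 ^ k') * n⁻¹ = z ^ (2 ^ k') := by
        rw [(hcomm.pow_right _).eq]; group
      exact hcore n hnN _ htP ht1 htt hfix
    · intro n hn
      refine Subgroup.mem_inf.mpr ⟨?_, Subgroup.centralizer_le_normalizer _ hn⟩
      rw [Subgroup.mem_centralizer_iff] at hn ⊢
      intro x hx
      rw [Set.mem_singleton_iff] at hx
      rw [hx]
      exact hn z hzP

end Cfsg.Agent.S0945
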