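import Cfsg.Statements.S0946
-- import your own Cfsg.Agent.* helpers here
import Mathlib
import Cfsg.Agent.Lib.Helper18.AbelianAut

set_option autoImplicit false
open Cfsg

namespace Cfsg.Agent.S0946

/-- Let P be a Sylow 2-subgroup of the finite group G isomorphic to Z/2^m × Z/2^m with m ≥ 1. Then either P has a normal complement in G, or all involutions of G are conjugate. -/
theorem result {G : Type*} [Group G] [Finite G] (P : Sylow 2 G) (m : ℕ) (hm : 1 ≤ m) (e : (P : Subgroup G) ≃* Multiplicative (ZMod (2 ^ m) × ZMod (2 ^ m))) : (∃ N : Subgroup G, N.Normal ∧ Subgroup.IsComplement' N (P : Subgroup G)) ∨ ∀ s t : G, orderOf s = 2 → orderOf t = 2 → IsConj s t := by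
  obtain ⟨hPc, t₁, t₂, h₁P, h₂P, h₁1, h₂1, h12, h₁₁, h₂₂, hlist⟩ :=
    Cfsg.Agent.Lib.Helper18.exists_involutions_of_homocyclic (P : Subgroup G) m hm e
  by_cases hNC : ∀ n ∈ Subgroup.normalizer (P : Set G), ∀ x ∈ (P : Subgroup G), n * x * n⁻¹ = x
  · left
    have hP : Subgroup.normalizer (P : Set G) ≤ Subgroup.centralizer (P : Set G) := by
      intro n hn
      rw [Subgroup.mem_centralizer_iff]
      intro x hx
      have := hNC n hn x hx
      calc x * n = (n * x * n⁻¹) * n := by rw [this]
        _ = n * x := by group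
    exact ⟨_, inferInstance, MonoidHom.ker_transferSylow_isComplement' P hP⟩
  · right
    push Not at hNC
    obtain ⟨n, hn, hnc'⟩ := hNC
    have hnc : ¬ ∀ x ∈ (P : Subgroup G), n * x * n⁻¹ = x := by
      push Not
      exact hnc'
    obtain ⟨c12, c13⟩ := Cfsg.Agent.Lib.Helper18.sylow_two_involutions_conj P hPc t₁ t₂ h₁P h₂P
      h₁1 h₂1 h12 h₁₁ h₂₂ hlist n hn hnc
    have key : ∀ s : G, orderOf s = 2 → IsConj s t₁ := by
      intro s hs
      haveI : Fact (Nat.Prime 2) := ⟨Nat.prime_two⟩
      obtain ⟨g, hg⟩ := Cfsg.Agent.Lib.Helper18.exists_conj_mem_sylow_of_orderOf P s 1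
        (by rw [hs, pow_one])
      have hs2 : s * s = 1 := by
        rw [← pow_two, ← hs, pow_orderOf_eq_one]
      have hs1 : s ≠ 1 := by
        intro h; rw [h, orderOf_one] at hs; omega
      have hc : IsConj s (g * s * g⁻¹) := isConj_iff.mpr ⟨g, rfl⟩
      have hsq : (g * s * g⁻¹) * (g * s * g⁻¹) = 1 := by
        calc (g * s * g⁻¹) * (g * s * g⁻¹) = g * (s * s) * g⁻¹ := by group
          _ = 1 := by rw [hs2]; group
      rcases hlist _ hg hsq with h | h | h | h
      · exfalso; apply hs1
        have := congrArg (fun z => g⁻¹ * z * g) h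
        simpa [mul_assoc] using this
      · rw [h] at hc; exact hc
      · rw [h] at hc; exact hc.trans c12.symm
      · rw [h] at hc; exact hc.trans c13.symm
    intro s t hs ht
    exact (key s hs).trans (key t ht).symm

end Cfsg.Agent.S0946
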