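import Cfsg.Statements.S0950
import Mathlib
import Cfsg.Agent.Lib.Helper20.QuatSylow

set_option autoImplicit false
open Cfsg

namespace Cfsg.Agent.S0950

/-- Let S be a Sylow 2-subgroup of the finite group G that is isomorphic to the quaternion group of order 8, and suppose S has no normal complement in G. Then any two subgroups of order 4 of S are conjugate by an element of the normalizer of S. -/
theorem result {G : Type*} [Group G] [Finite G] (S : Sylow 2 G) (e : (S : Subgroup G) ≃* QuaternionGroup 2) (hnc : ∀ N : Subgroup G, N.Normal → ¬ Subgroup.IsComplement' N (S : Subgroup G)) (A B : Subgroup G) (hA : A ≤ S) (hB : B ≤ S) (hA4 : Nat.card A = 4) (hB4 : Nat.card B = 4) : ∃ n ∈ Subgroup.normalizer ((S : Subgroup G) : Set G), B = A.map (MulAut.conj n).toMonoidHom := by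
  classical
  haveI : Fact (Nat.Prime 2) := ⟨Nat.prime_two⟩
  have hF : ¬ Cfsg.Agent.Lib.Helper29.FrobCond 2 G := fun hF => by
    obtain ⟨N, hNn, hN⟩ := hF.exists_normal_complement S
    exact hnc N hNn hN
  obtain ⟨Q, hQS, g, hgN, hodd, hgC⟩ :=
    Cfsg.Agent.Lib.Helper20.Q8.exists_odd_normalizing_of_not_frobCond S hF
  have hScard : Nat.card (S : Subgroup G) = 8 := by
    rw [Nat.card_congr e.toEquiv, Nat.card_eq_fintype_card, QuaternionGroup.card]
  have hQeq : Q = (S : Subgroup G) := by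
    by_contra hne
    have hiso : Q ≃* ((Q.subgroupOf (S : Subgroup G)).map e.toMonoidHom) :=
      (Subgroup.subgroupOfEquivOfLe hQS).symm.trans
        (e.subgroupMap (Q.subgroupOf (S : Subgroup G)))
    have hQ'top : (Q.subgroupOf (S : Subgroup G)).map e.toMonoidHom ≠ ⊤ := by
      intro htop
      apply hne
      apply Subgroup.eq_of_le_of_card_ge hQS
      rw [hScard, Nat.card_congr hiso.toEquiv, htop, Subgroup.card_top,
        Nat.card_eq_fintype_card, QuaternionGroup.card]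
    haveI : IsCyclic ((Q.subgroupOf (S : Subgroup G)).map e.toMonoidHom) :=
      Cfsg.Agent.Lib.Helper20.Q8.isCyclic_of_ne_top _ hQ'top
    haveI : IsCyclic Q := (MulEquiv.isCyclic hiso).mpr inferInstance
    exact hgC (Cfsg.Agent.Lib.Helper20.Q8.mem_centralizer_of_isCyclic Q (S.2.to_le hQS) g hgN hodd)
  subst hQeq
  obtain ⟨αg, hαg⟩ : ∃ α : MulAut (S : Subgroup G),
      α = Cfsg.Agent.Lib.Helper20.Q8.conjAut (S : Subgroup G) g hgN := ⟨_, rfl⟩
  obtain ⟨β, hβdef⟩ : ∃ β : MulAut (QuaternionGroup 2), β = MulAut.congr e αg := ⟨_, rfl⟩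
  have hβm : β ^ orderOf g = 1 := by
    rw [hβdef, ← map_pow, hαg, Cfsg.Agent.Lib.Helper20.Q8.conjAut_pow_orderOf, map_one]
  have hβ1 : β ≠ 1 := by
    intro h
    apply hgC
    rw [← Cfsg.Agent.Lib.Helper20.Q8.conjAut_eq_one_iff _ g hgN, ← hαg]
    apply (MulAut.congr e).injective
    rw [map_one, ← hβdef]; exact h
  have hcardmap : ∀ C : Subgroup G, C ≤ (S : Subgroup G) →
      Nat.card ((C.subgroupOf (S : Subgroup G)).map e.toMonoidHom) = Nat.card C := by
    intro C hC
    exact (Nat.card_congr (e.subgroupMap (C.subgroupOf (S : Subgroup G))).symm.toEquiv).trans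
      (Nat.card_congr (Subgroup.subgroupOfEquivOfLe hC).toEquiv)
  obtain ⟨k, hk⟩ := Cfsg.Agent.Lib.Helper20.Q8.exists_pow_map_eq β (orderOf g) hodd hβm hβ1
    ((A.subgroupOf (S : Subgroup G)).map e.toMonoidHom)
    ((B.subgroupOf (S : Subgroup G)).map e.toMonoidHom)
    (by rw [hcardmap A hA, hA4]) (by rw [hcardmap B hB, hB4])
  refine ⟨g ^ k, Subgroup.pow_mem _ hgN k, ?_⟩
  symm
  apply Subgroup.eq_of_le_of_card_ge
  · rintro _ ⟨y, hy, rfl⟩
    have hyS : y ∈ (S : Subgroup G) := hA hy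
    have h1 : e ⟨y, hyS⟩ ∈ (A.subgroupOf (S : Subgroup G)).map e.toMonoidHom :=
      Subgroup.mem_map_of_mem _ (Subgroup.mem_subgroupOf.mpr hy)
    have h2 : (β ^ k) (e ⟨y, hyS⟩) ∈ (B.subgroupOf (S : Subgroup G)).map e.toMonoidHom := by
      rw [← hk]; exact Subgroup.mem_map_of_mem _ h1
    have h3 : (β ^ k) (e ⟨y, hyS⟩) = e ((αg ^ k) ⟨y, hyS⟩) := by
      rw [hβdef, ← map_pow]
      simp [MulAut.congr_apply]
    rw [h3] at h2
    obtain ⟨b, hb, hbe⟩ := Subgroup.mem_map.mp h2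
    have hb' : b = (αg ^ k) ⟨y, hyS⟩ := e.injective hbe
    rw [Subgroup.mem_subgroupOf, hb', hαg, Cfsg.Agent.Lib.Helper20.Q8.conjAut_pow,
      Cfsg.Agent.Lib.Helper20.Q8.conjAut_apply_coe] at hb
    have hgoal : (MulAut.conj (g ^ k)).toMonoidHom y = g ^ k * y * (g ^ k)⁻¹ := rfl
    rw [hgoal]; exact hb
  · rw [hB4, Subgroup.card_map_of_injective (MulAut.conj (g ^ k)).injective, hA4]

end Cfsg.Agent.S0950
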