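import Cfsg.Statements.S0952
-- import your own Cfsg.Agent.* helpers here

import Mathlib
import Cfsg.Agent.Lib.Helper6.BlockOrth

set_option autoImplicit false
open Cfsg

namespace Cfsg.Agent.S0952

open Cfsg.Agent.Lib.Helper6 Cfsg.Agent.Lib.Helper24 Cfsg.Agent.CharLib
open scoped ComplexConjugate

/-- Let χ and ψ be irreducible characters of the finite group G lying in different blocks relative to a maximal ideal M of the algebraic integers containing the prime p. Then the sum of χ x * conj (ψ x) over the elements x of order prime to p is zero. -/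
theorem result {G : Type*} [Group G] [Finite G] (p : ℕ) [Fact p.Prime] (M : Ideal Cfsg.AlgInt) (hM : Cfsg.IsPModular p M) (χ ψ : Cfsg.IrrCharacter G) (h : ¬ Cfsg.SameBlock M (χ : G → ℂ) (ψ : G → ℂ)) : ∑ᶠ x ∈ {x : G | ¬ p ∣ orderOf x}, (χ : G → ℂ) x * conj ((ψ : G → ℂ) x) = 0 := by
  classical
  let _ := Fintype.ofFinite G
  have hprime : M.IsPrime := isPrime_of_isPModular hM
  have hχ : χ ∉ blockOf M (ψ : G → ℂ) := fun hc => h (sameBlock_symm hc)
  have h1 := sum_regular_eq_zero_of_not_mem_block hM ψ χ hχ ψ (mem_blockOf_self ψ)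
  rw [finsum_mem_eq_sum_ite]
  refine Eq.trans ?_ h1
  apply Finset.sum_congr rfl
  intro x _
  by_cases hx : p ∣ orderOf x
  · rw [if_neg (not_not.mpr hx), if_neg]
    exact fun hc => hc hx
  · rw [if_pos hx, if_pos]
    exact hx

end Cfsg.Agent.S0952
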