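import Cfsg.Statements.S0957
import Mathlib

set_option autoImplicit false
open Cfsg

namespace Cfsg.Agent.S0957
open MulAction

/-- if `n` divides the size of every orbit, it divides the cardinality -/
theorem dvd_card_of_dvd_orbits {P X : Type*} [Group P] [MulAction P X] [Finite X] (n : ℕ)
    (h : ∀ x : X, n ∣ (orbit P x).ncard) : n ∣ Nat.card X := by
  classical
  have := Fintype.ofFinite X
  let Ω := orbitRel.Quotient P X
  have : Fintype Ω := Fintype.ofFinite Ω
  have e := selfEquivSigmaOrbits' P X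
  have h1 : Nat.card X = ∑ ω : Ω, Nat.card ω.orbit := by
    rw [Nat.card_congr e, Nat.card_sigma]
  rw [h1]
  apply Finset.dvd_sum
  intro ω _
  induction ω using Quotient.inductionOn' with
  | h x =>
    rw [orbitRel.Quotient.orbit_mk, Nat.card_coe_set_eq]
    exact h x

variable {G : Type*} [Group G]

/-- pairs of group elements, as a type synonym carrying the simultaneous conjugation action -/
def CPair (G : Type*) : Type _ := G × G

/-- the simultaneous conjugation action of a subgroup on pairs -/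
instance pairAction (P : Subgroup G) : MulAction ↥P (CPair G) where
  smul x yz := ((x : G) * yz.1 * (x : G)⁻¹, (x : G) * yz.2 * (x : G)⁻¹)
  one_smul yz := by
    show ((1 : G) * yz.1 * (1 : G)⁻¹, (1 : G) * yz.2 * (1 : G)⁻¹) = yz
    simp
    rfl
  mul_smul a b yz := by
    show (((a * b : ↥P) : G) * yz.1 * ((a * b : ↥P) : G)⁻¹, ((a * b : ↥P) : G) * yz.2 * ((a * b : ↥P) : G)⁻¹)
      = ((a : G) * ((b : G) * yz.1 * (b : G)⁻¹) * (a : G)⁻¹, (a : G) * ((b : G) * yz.2 * (b : G)⁻¹) * (a : G)⁻¹)
    simp [mul_assoc]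

theorem main [Finite G] (p : ℕ) [Fact p.Prime] (P : Sylow p G) (g h : G)
    (S : Sylow p (Subgroup.centralizer ({g} : Set G))) :
    Nat.card P / Nat.card S ∣ Nat.card {yz : G × G // IsConj g yz.1 ∧ IsConj h yz.2 ∧ yz.2 * yz.1⁻¹ ∈ (P : Subgroup G)} := by
  classical
  have hp : p.Prime := Fact.out
  have hsmul : ∀ (x : ↥(P : Subgroup G)) (yz : CPair G),
      x • yz = ((x : G) * yz.1 * (x : G)⁻¹, (x : G) * yz.2 * (x : G)⁻¹) := fun _ _ => rfl
  let X : SubMulAction ↥(P : Subgroup G) (CPair G) :=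
    { carrier := {yz | IsConj g yz.1 ∧ IsConj h yz.2 ∧ yz.2 * yz.1⁻¹ ∈ (P : Subgroup G)}
      smul_mem' := by
        intro x yz hyz
        obtain ⟨h1, h2, h3⟩ := hyz
        refine ⟨h1.trans (isConj_iff.mpr ⟨x, rfl⟩), h2.trans (isConj_iff.mpr ⟨x, rfl⟩), ?_⟩
        rw [hsmul]
        have : (x : G) * yz.2 * (x : G)⁻¹ * ((x : G) * yz.1 * (x : G)⁻¹)⁻¹ = (x : G) * (yz.2 * yz.1⁻¹) * (x : G)⁻¹ := by
          group
        show (x : G) * yz.2 * (x : G)⁻¹ * ((x : G) * yz.1 * (x : G)⁻¹)⁻¹ ∈ (P : Subgroup G)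
        rw [this]
        exact Subgroup.mul_mem _ (Subgroup.mul_mem _ x.2 h3) (Subgroup.inv_mem _ x.2) }
  have hfinC : Finite (CPair G) := inferInstanceAs (Finite (G × G))
  have hfinX : Finite ↥X := Subtype.finite
  show _ ∣ Nat.card ↥X
  -- cardinalities
  have hPcard : Nat.card P = p ^ (Nat.card G).factorization p := P.card_eq_multiplicity
  have hScard : Nat.card S = p ^ (Nat.card (Subgroup.centralizer ({g} : Set G))).factorization p :=
    S.card_eq_multiplicity
  set a := (Nat.card G).factorization p with ha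
  set d := (Nat.card (Subgroup.centralizer ({g} : Set G))).factorization p with hd
  have hda : d ≤ a := by
    have hdvd : Nat.card (Subgroup.centralizer ({g} : Set G)) ∣ Nat.card G := Subgroup.card_subgroup_dvd_card _
    exact (Nat.factorization_le_iff_dvd (Nat.card_pos.ne') (Nat.card_pos.ne')).mpr hdvd p
  rw [hPcard, hScard, Nat.pow_div hda hp.pos]
  apply dvd_card_of_dvd_orbits (P := ↥(P : Subgroup G))
  rintro ⟨⟨y, z⟩, hy, hz, hyz⟩
  rw [← index_stabilizer]
  set K := stabilizer ↥(P : Subgroup G) (⟨(y, z), hy, hz, hyz⟩ : X) with hK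
  -- K is a p-group
  have hKp : IsPGroup p K := P.2.to_subgroup K
  obtain ⟨c, hc⟩ := hKp.exists_card_eq
  -- K embeds in the centralizer of g
  obtain ⟨w, hw0⟩ := isConj_iff.mp hy
  have hw : w * g * w⁻¹ = y := hw0
  have hKy : ∀ k : K, ((k : ↥(P : Subgroup G)) : G) * y = y * ((k : ↥(P : Subgroup G)) : G) := by
    intro k
    have h1 : (k : ↥(P : Subgroup G)) • (⟨(y, z), hy, hz, hyz⟩ : X) = ⟨(y, z), hy, hz, hyz⟩ := k.2
    have h2 := congrArg (fun t : X => (t : CPair G).1) h1
    have h3 : ((k : ↥(P : Subgroup G)) : G) * y * ((k : ↥(P : Subgroup G)) : G)⁻¹ = y := h2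
    calc ((k : ↥(P : Subgroup G)) : G) * y = (((k : ↥(P : Subgroup G)) : G) * y * ((k : ↥(P : Subgroup G)) : G)⁻¹) * ((k : ↥(P : Subgroup G)) : G) := by group
      _ = y * ((k : ↥(P : Subgroup G)) : G) := by rw [h3]
  let φ : K →* Subgroup.centralizer ({g} : Set G) :=
    { toFun := fun k => ⟨w⁻¹ * ((k : ↥(P : Subgroup G)) : G) * w, by
        rw [Subgroup.mem_centralizer_iff]
        intro x hx
        rw [Set.mem_singleton_iff] at hx
        rw [hx]
        clear hx
        have := hKy k
        rw [← hw] at this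
        -- k * (w g w⁻¹) = (w g w⁻¹) * k
        have e1 : g * (w⁻¹ * ((k : ↥(P : Subgroup G)) : G) * w) = w⁻¹ * ((w * g * w⁻¹) * ((k : ↥(P : Subgroup G)) : G)) * w := by group
        have e2 : w⁻¹ * ((k : ↥(P : Subgroup G)) : G) * w * g = w⁻¹ * (((k : ↥(P : Subgroup G)) : G) * (w * g * w⁻¹)) * w := by group
        rw [e1, e2, this]⟩
      map_one' := by
        apply Subtype.ext
        simp
      map_mul' := by
        intro k1 k2
        apply Subtype.ext
        simp [mul_assoc] }
  have hφinj : Function.Injective φ := by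
    intro k1 k2 hk
    have := congrArg Subtype.val hk
    have h' : w⁻¹ * ((k1 : ↥(P : Subgroup G)) : G) * w = w⁻¹ * ((k2 : ↥(P : Subgroup G)) : G) * w := this
    have : ((k1 : ↥(P : Subgroup G)) : G) = ((k2 : ↥(P : Subgroup G)) : G) := by
      have := congrArg (fun t => w * t * w⁻¹) h'
      simpa [mul_assoc] using this
    exact Subtype.ext (Subtype.ext this)
  have hcd : c ≤ d := by
    have hdvd : Nat.card K ∣ Nat.card (Subgroup.centralizer ({g} : Set G)) :=
      Subgroup.card_dvd_of_injective φ hφinj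
    rw [hc] at hdvd
    exact (hp.pow_dvd_iff_le_factorization (Nat.card_pos.ne')).mp hdvd
  -- index of K
  have hidx : K.index * Nat.card K = Nat.card ↥(P : Subgroup G) := K.index_mul_card
  have hPcard' : Nat.card ↥(P : Subgroup G) = p ^ a := hPcard
  rw [hc, hPcard'] at hidx
  have hca : c ≤ a := le_trans hcd hda
  have hidx' : K.index = p ^ (a - c) := by
    have : p ^ (a - c) * p ^ c = p ^ a := by rw [← pow_add]; congr 1; omega
    rw [← this] at hidx
    exact Nat.eq_of_mul_eq_mul_right (pow_pos hp.pos c) hidx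
  rw [hidx']
  exact pow_dvd_pow p (by omega)



/-- Let P be a Sylow p-subgroup of the finite group G, let g, h ∈ G and let p ^ d be the order of a Sylow p-subgroup of the centralizer of g. Then the number of pairs (y, z) with y conjugate to g, z conjugate to h and z * y⁻¹ ∈ P is divisible by the order of P divided by p ^ d. -/
theorem result {G : Type*} [Group G] [Finite G] (p : ℕ) [Fact p.Prime] (P : Sylow p G) (g h : G) (S : Sylow p (Subgroup.centralizer ({g} : Set G))) : Nat.card P / Nat.card S ∣ Nat.card {yz : G × G // IsConj g yz.1 ∧ IsConj h yz.2 ∧ yz.2 * yz.1⁻¹ ∈ (P : Subgroup G)} := by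
  exact main p P g h S

end Cfsg.Agent.S0957
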