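import Cfsg.Statements.S0960
import Cfsg.Agent.S4441
import Cfsg.Agent.Lib.Helper7.S0960Of

set_option autoImplicit false
open Cfsg

namespace Cfsg.Agent.S0960

theorem result {G : Type*} [Group G] [Finite G] (p : ℕ) [Fact p.Prime] (M : Ideal Cfsg.AlgInt) (hM : Cfsg.IsPModular p M) (hodd : p ≠ 2) (P : Sylow p G) (hP : Nat.card P = p) (e : ℕ) (he : (Subgroup.centralizer ((P : Subgroup G) : Set G)).relIndex (Subgroup.normalizer ((P : Subgroup G) : Set G)) = e) : Nat.card (Cfsg.principalBlock M G) = e + (p - 1) / e ∧ ∀ χ ∈ Cfsg.principalBlock M G, ((Cfsg.charDegree (χ : G → ℂ) : ℤ) ≡ 1 [ZMOD p] ∨ (Cfsg.charDegree (χ : G → ℂ) : ℤ) ≡ -1 [ZMOD p] ∨ (Cfsg.charDegree (χ : G → ℂ) : ℤ) ≡ (e : ℤ) [ZMOD p] ∨ (Cfsg.charDegree (χ : G → ℂ) : ℤ) ≡ -(e : ℤ) [ZMOD p]) := by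
  letI : Fintype G := Fintype.ofFinite G
  exact Cfsg.Agent.Lib.Helper7.S0960Of.result_of p M P e (Cfsg.Agent.S4441.result p M hM hodd P hP e he)

end Cfsg.Agent.S0960
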