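import Cfsg.Statements.S0961
import Mathlib
import Cfsg.Agent.Lib.Helper2.PRegGenChar

set_option autoImplicit false
open Cfsg

namespace Cfsg.Agent.S0961

open Cfsg.Agent.Lib.Helper2 Cfsg.Agent.CharLib in
theorem aux {G : Type*} [Group G] [Finite G] (p : ℕ) [Fact p.Prime] (χ : Cfsg.IrrCharacter G) :
    Cfsg.IsGeneralizedCharacter G (fun x : G => if p ∣ orderOf x then 0 else
      ((p ^ (Nat.card G).factorization p : ℕ) : ℂ) * (χ : G → ℂ) x) := by
  classical
  have hFG : Fintype G := Fintype.ofFinite G
  have hp : p.Prime := Fact.out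
  have hχ : IsCharacter G (χ : G → ℂ) := IsIrrCharacter.isCharacter χ.2
  have key := scaled_pRegPart_isGenChar hχ (p := p) (p ^ (Nat.card G).factorization p) (by
    intro g j hj
    have h1 : p ^ j ∣ Nat.card G := hj.trans (Subgroup.card_subgroup_dvd_card _)
    have h2 : j ≤ (Nat.card G).factorization p :=
      (hp.pow_dvd_iff_le_factorization Nat.card_pos.ne').mp h1
    obtain ⟨k, hk⟩ := Nat.exists_eq_add_of_le h2
    have hp0 : (p : ℂ) ≠ 0 := by exact_mod_cast hp.ne_zero
    have h3 : ((p ^ (Nat.card G).factorization p : ℕ) : ℂ) * (χ : G → ℂ) g / (p : ℂ) ^ j =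
        ((p ^ k : ℕ) : ℂ) * (χ : G → ℂ) g := by
      rw [hk]
      push_cast
      rw [pow_add]
      field_simp
    rw [h3]
    apply IsIntegral.mul
    · have := isIntegral_algebraMap (R := ℤ) (A := ℂ) (x := ((p ^ k : ℕ) : ℤ))
      simpa using this
    · obtain ⟨n, ρ, hρ, hρχ⟩ := χ.2
      rw [← hρχ]
      exact isIntegral_char ρ g)
  convert key using 1
  funext x
  unfold pRegPart
  split_ifs
  · rw [mul_zero]
  · rfl

/-- Let χ be an irreducible character of the finite group G and let p ^ a be the largest power of the prime p dividing the order of G. Then the function equal to p ^ a * χ x at elements x of order prime to p and to 0 elsewhere is a generalized character (a difference of characters). -/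
theorem result {G : Type*} [Group G] [Finite G] (p : ℕ) [Fact p.Prime] (χ : Cfsg.IrrCharacter G) : Cfsg.IsGeneralizedCharacter G (fun x : G => if p ∣ orderOf x then 0 else ((p ^ (Nat.card G).factorization p : ℕ) : ℂ) * (χ : G → ℂ) x) := by
  exact aux p χ

end Cfsg.Agent.S0961
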