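import Cfsg.Statements.S0974
import Cfsg.Agent.Lib.Helper12.BSFDeg

set_option autoImplicit false
open Cfsg

namespace Cfsg.Agent.S0974

/-- No finite simple group has order 3648 = 2^6 * 3 * 19. -/
theorem result {G : Type*} [Group G] [Finite G] [IsSimpleGroup G] : Nat.card G ≠ 3648 := by
  intro h
  have : Fact (Nat.Prime 19) := ⟨by norm_num⟩
  have hnc : ¬ IsMulCommutative G :=
    Cfsg.Agent.Lib.Helper7.not_comm_of_card_not_prime (by rw [h]; norm_num)
  have hperf := Cfsg.Agent.Lib.Helper12.BSF.commutator_eq_top_of_simple hnc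
  obtain ⟨P⟩ : Nonempty (Sylow 19 G) := Sylow.nonempty
  obtain ⟨hPc, hPi⟩ := Cfsg.Agent.Lib.Helper7.sylow_card_index_of_exact (p := 19) (m := 192)
    (by rw [h]) (by norm_num) P
  have hn : Nat.card (Sylow 19 G) = 96 := by
    have h1 : Nat.card (Sylow 19 G) ≡ 1 [MOD 19] := card_sylow_modEq_one 19 G
    have h2 : Nat.card (Sylow 19 G) ∣ 192 := by rw [← hPi]; exact Sylow.card_dvd_index P
    have h3 : Nat.card (Sylow 19 G) ≠ 1 :=
      Cfsg.Agent.Lib.Helper7.card_sylow_ne_one P (by rw [hPc]; norm_num) (by rw [hPc, h]; norm_num)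
    have h4 : Nat.card (Sylow 19 G) ∈ Nat.divisors 192 := Nat.mem_divisors.mpr ⟨h2, by norm_num⟩
    have hd : Nat.divisors 192 = {1, 2, 3, 4, 6, 8, 12, 16, 24, 32, 48, 64, 96, 192} := by decide
    rw [hd] at h4
    simp only [Finset.mem_insert, Finset.mem_singleton] at h4
    rcases h4 with h' | h' | h' | h' | h' | h' | h' | h' | h' | h' | h' | h' | h' | h'
    all_goals first
      | exact h'
      | exact absurd h' h3
      | (rw [h'] at h1; exact absurd h1 (by decide))
  have hN : Nat.card (Subgroup.normalizer ((P : Subgroup G) : Set G)) = 19 * 2 := by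
    have := Cfsg.Agent.Lib.Helper7.card_sylow_mul_card_normalizer P
    rw [hn, h] at this
    omega
  have hC := Cfsg.Agent.Lib.Helper12.BSF.centralizer_eq_of_card_normalizer hnc 19 2 Nat.prime_two
    P hPc hN
  obtain ⟨X, a, η, δ, hδ, hXc, hXne, ha0, hsq, hcong, hdeg⟩ :=
    Cfsg.Agent.Lib.Helper12.BSF.core 19 P hPc hC 2 Nat.prime_two (by norm_num) hN (by norm_num)
  -- X is a singleton
  have hX1 : X.card = 1 := by
    rcases Nat.eq_zero_or_pos X.card with h0 | h0
    · rw [Finset.card_eq_zero] at h0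
      rw [h0] at hsq
      norm_num at hsq
    · omega
  obtain ⟨χ, rfl⟩ := Finset.card_eq_one.mp hX1
  rw [Finset.sum_singleton] at hsq hdeg
  have hχmem : χ ∈ ({χ} : Finset (IrrCharacter G)) := Finset.mem_singleton_self χ
  have ha := Cfsg.Agent.Lib.Helper12.BSF.pm_one_of_sq_le (a χ) (ha0 χ hχmem) (by rw [hsq]; norm_num)
  have hc := hcong χ hχmem
  have hdvd : charDegree (χ : G → ℂ) ∣ 3648 := by
    rw [← h]; exact Cfsg.Agent.Lib.Helper24.irr_charDegree_dvd_card χ
  have hηdvd : charDegree (η : G → ℂ) ∣ 3648 := by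
    rw [← h]; exact Cfsg.Agent.Lib.Helper24.irr_charDegree_dvd_card η
  have hne1 : charDegree (χ : G → ℂ) ≠ 1 := fun h1 =>
    hXne χ hχmem (Cfsg.Agent.Lib.Helper12.BSF.eq_one_of_charDegree_one hperf χ h1)
  generalize charDegree (χ : G → ℂ) = n at *
  generalize charDegree (η : G → ℂ) = dη at *
  generalize a χ = b at *
  -- n divides 192
  have hcop : Nat.Coprime n 19 := by
    rw [Nat.coprime_comm, Nat.Prime.coprime_iff_not_dvd (by norm_num)]
    intro h19
    rcases ha with rfl | rfl <;> omega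
  have hn192 : n ∣ 192 := by
    apply Nat.Coprime.dvd_of_dvd_mul_right hcop
    exact hdvd
  have h4 : n ∈ Nat.divisors 192 := Nat.mem_divisors.mpr ⟨hn192, by norm_num⟩
  have hd : Nat.divisors 192 = {1, 2, 3, 4, 6, 8, 12, 16, 24, 32, 48, 64, 96, 192} := by decide
  rw [hd] at h4
  simp only [Finset.mem_insert, Finset.mem_singleton] at h4
  have hkey : n = 96 ∧ b = 1 := by
    rcases h4 with rfl | rfl | rfl | rfl | rfl | rfl | rfl | rfl | rfl | rfl | rfl | rfl | rfl | rfl <;>
      rcases ha with rfl | rfl <;> omega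
  obtain ⟨rfl, rfl⟩ := hkey
  exact Cfsg.Agent.Lib.Helper12.BSF.final_contra 3648 dη δ (1 + 1 * ((96 : ℕ) : ℤ)) hδ hdeg hηdvd
    (by decide)

end Cfsg.Agent.S0974
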