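import Cfsg.Statements.S0975
import Cfsg.Agent.Lib.Helper12.BSFDeg

set_option autoImplicit false
open Cfsg

namespace Cfsg.Agent.S0975

/-- No finite simple group has order 3744 = 2^5 * 3^2 * 13. -/
theorem result {G : Type*} [Group G] [Finite G] [IsSimpleGroup G] : Nat.card G ≠ 3744 := by
  intro h
  have : Fact (Nat.Prime 13) := ⟨by norm_num⟩
  have hnc : ¬ IsMulCommutative G :=
    Cfsg.Agent.Lib.Helper7.not_comm_of_card_not_prime (by rw [h]; norm_num)
  have hperf := Cfsg.Agent.Lib.Helper12.BSF.commutator_eq_top_of_simple hnc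
  obtain ⟨P⟩ : Nonempty (Sylow 13 G) := Sylow.nonempty
  obtain ⟨hPc, hPi⟩ := Cfsg.Agent.Lib.Helper7.sylow_card_index_of_exact (p := 13) (m := 288)
    (by rw [h]) (by norm_num) P
  have hd : Nat.divisors 288 =
      {1, 2, 3, 4, 6, 8, 9, 12, 16, 18, 24, 32, 36, 48, 72, 96, 144, 288} := by decide
  have hn : Nat.card (Sylow 13 G) = 144 := by
    have h1 : Nat.card (Sylow 13 G) ≡ 1 [MOD 13] := card_sylow_modEq_one 13 G
    have h2 : Nat.card (Sylow 13 G) ∣ 288 := by rw [← hPi]; exact Sylow.card_dvd_index P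
    have h3 : Nat.card (Sylow 13 G) ≠ 1 :=
      Cfsg.Agent.Lib.Helper7.card_sylow_ne_one P (by rw [hPc]; norm_num) (by rw [hPc, h]; norm_num)
    have h4 : Nat.card (Sylow 13 G) ∈ Nat.divisors 288 := Nat.mem_divisors.mpr ⟨h2, by norm_num⟩
    rw [hd] at h4
    simp only [Finset.mem_insert, Finset.mem_singleton] at h4
    rcases h4 with h' | h' | h' | h' | h' | h' | h' | h' | h' | h' | h' | h' | h' | h' | h' | h' |
      h' | h'
    all_goals first
      | exact h'
      | exact absurd h' h3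
      | (rw [h'] at h1; exact absurd h1 (by decide))
  have hN : Nat.card (Subgroup.normalizer ((P : Subgroup G) : Set G)) = 13 * 2 := by
    have := Cfsg.Agent.Lib.Helper7.card_sylow_mul_card_normalizer P
    rw [hn, h] at this
    omega
  have hC := Cfsg.Agent.Lib.Helper12.BSF.centralizer_eq_of_card_normalizer hnc 13 2 Nat.prime_two
    P hPc hN
  obtain ⟨X, a, η, δ, hδ, hXc, hXne, ha0, hsq, hcong, hdeg⟩ :=
    Cfsg.Agent.Lib.Helper12.BSF.core 13 P hPc hC 2 Nat.prime_two (by norm_num) hN (by norm_num)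
  -- X is a singleton
  have hX1 : X.card = 1 := by
    rcases Nat.eq_zero_or_pos X.card with h0 | h0
    · rw [Finset.card_eq_zero] at h0
      rw [h0] at hsq
      norm_num at hsq
    · omega
  obtain ⟨χ, rfl⟩ := Finset.card_eq_one.mp hX1
  rw [Finset.sum_singleton] at hsq hdeg
  have hχmem : χ ∈ ({χ} : Finset (IrrCharacter G)) := Finset.mem_singleton_self χ
  have ha := Cfsg.Agent.Lib.Helper12.BSF.pm_one_of_sq_le (a χ) (ha0 χ hχmem) (by rw [hsq]; norm_num)
  have hc := hcong χ hχmem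
  have hdvd : charDegree (χ : G → ℂ) ∣ 3744 := by
    rw [← h]; exact Cfsg.Agent.Lib.Helper24.irr_charDegree_dvd_card χ
  have hηdvd : charDegree (η : G → ℂ) ∣ 3744 := by
    rw [← h]; exact Cfsg.Agent.Lib.Helper24.irr_charDegree_dvd_card η
  have hne1 : charDegree (χ : G → ℂ) ≠ 1 := fun h1 =>
    hXne χ hχmem (Cfsg.Agent.Lib.Helper12.BSF.eq_one_of_charDegree_one hperf χ h1)
  generalize charDegree (χ : G → ℂ) = n at *
  generalize charDegree (η : G → ℂ) = dη at *
  generalize a χ = b at *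
  have hcop : Nat.Coprime n 13 := by
    rw [Nat.coprime_comm, Nat.Prime.coprime_iff_not_dvd (by norm_num)]
    intro h13
    rcases ha with rfl | rfl <;> omega
  have hn288 : n ∣ 288 := by
    apply Nat.Coprime.dvd_of_dvd_mul_right hcop
    exact hdvd
  have h4 : n ∈ Nat.divisors 288 := Nat.mem_divisors.mpr ⟨hn288, by norm_num⟩
  rw [hd] at h4
  simp only [Finset.mem_insert, Finset.mem_singleton] at h4
  have hkey : (n = 144 ∧ b = 1) ∨ (n = 12 ∧ b = -1) := by
    rcases h4 with rfl | rfl | rfl | rfl | rfl | rfl | rfl | rfl | rfl | rfl | rfl | rfl | rfl | rfl |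
      rfl | rfl | rfl | rfl <;>
      rcases ha with rfl | rfl <;> omega
  rcases hkey with ⟨rfl, rfl⟩ | ⟨rfl, rfl⟩
  · exact Cfsg.Agent.Lib.Helper12.BSF.final_contra 3744 dη δ (1 + 1 * ((144 : ℕ) : ℤ)) hδ hdeg hηdvd
      (by decide)
  · exact Cfsg.Agent.Lib.Helper12.BSF.final_contra 3744 dη δ (1 + (-1) * ((12 : ℕ) : ℤ)) hδ hdeg hηdvd
      (by decide)

end Cfsg.Agent.S0975
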