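import Cfsg.Statements.S0977
import Mathlib
import Cfsg.Agent.Lib.Helper24.Ord4320B
import Cfsg.Agent.Lib.Helper24.Ord4320C
import Cfsg.Agent.Lib.Helper24.Ord4320E

set_option autoImplicit false
open Cfsg

namespace Cfsg.Agent.S0977

open Cfsg.Agent.Lib.Helper7 Cfsg.Agent.Lib.Helper8.SmallSimple Cfsg.Agent.Lib.Helper8.SmallSimple2
  Cfsg.Agent.Lib.Helper24.Ord4320

theorem arithN : ∀ n < 865, 864 % n = 0 → n % 5 = 1 →
    n = 1 ∨ n = 6 ∨ n = 16 ∨ n = 36 ∨ n = 96 ∨ n = 216 := by
  intro n hn h1 h2
  interval_cases n <;> omega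

/-- No finite simple group has order 4320 = 2^5 * 3^3 * 5. -/
theorem result {G : Type*} [Group G] [Finite G] [IsSimpleGroup G] : Nat.card G ≠ 4320 := by
  intro hG
  have hnc : ¬ IsMulCommutative G := by
    apply not_comm_of_card_not_prime
    rw [hG]; norm_num
  haveI : Fact (Nat.Prime 5) := ⟨by norm_num⟩
  obtain ⟨P⟩ : Nonempty (Sylow 5 G) := inferInstance
  obtain ⟨hP, n, k, c, r, hn, hNc, hCc, hr, hnk, hcr, hmod, hn1, hr4, hr1, hidx, hfac⟩ :=
    sylow_prime_data hnc (p := 5) (m := 864) (by rw [hG]) (by norm_num) P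
  have hkpos : 0 < k := by
    rcases Nat.eq_zero_or_pos k with h | h
    · rw [h] at hnk; omega
    · exact h
  have hnlt : n < 865 := by
    have : n ≤ 864 := by
      calc n ≤ n * k := Nat.le_mul_of_pos_right _ hkpos
        _ = 864 := hnk
    omega
  have hr4' : r = 1 ∨ r = 2 ∨ r = 4 := by
    have hle := Nat.le_of_dvd (by norm_num) hr4
    have : r ∣ 4 := hr4
    interval_cases r <;> simp_all
  rcases arithN n hnlt (by rw [← hnk]; exact Nat.mul_mod_right _ _) hmod with h | h | h | h | h | h
  · exact hn1 h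
  · rw [h, hG] at hfac
    revert hfac
    decide
  · -- 16 Sylow subgroups
    rw [h] at hnk
    have hk54 : k = 54 := by omega
    rcases hr4' with h' | h' | h'
    · exact hr1 h'
    · rw [h', hk54] at hcr
      have hc27 : c = 27 := by omega
      rw [hk54] at hNc
      rw [hc27] at hCc
      exact case16 hG P hP hNc hCc
    · rw [h', hk54] at hcr
      omega
  · -- 36 Sylow subgroups
    rw [h] at hnk
    have hk24 : k = 24 := by omega
    rw [hk24] at hNc hcr
    rcases hr4' with h' | h' | h'
    · exact hr1 h'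
    · rw [h'] at hcr hr
      have hc12 : c = 12 := by omega
      rw [hc12] at hCc
      exact case36 hG P hP hNc (Or.inl hCc) (fun _ => hr)
    · rw [h'] at hcr
      have hc6 : c = 6 := by omega
      rw [hc6] at hCc
      refine case36 hG P hP hNc (Or.inr hCc) (fun h60 => ?_)
      rw [hCc] at h60
      omega
  · -- 96 Sylow subgroups
    rw [h] at hnk
    have hk9 : k = 9 := by omega
    rw [hk9] at hcr
    rcases hr4' with h' | h' | h'
    · exact hr1 h'
    · rw [h'] at hcr; omega
    · rw [h'] at hcr; omega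
  · -- 216 Sylow subgroups
    rw [h] at hnk
    have hk4 : k = 4 := by omega
    rw [hk4] at hNc hcr
    rcases hr4' with h' | h' | h'
    · exact hr1 h'
    · rw [h'] at hcr
      have hc2 : c = 2 := by omega
      rw [hc2] at hCc
      exact case216A hG P hP hNc hCc
    · rw [h'] at hcr
      have hc1 : c = 1 := by omega
      rw [hc1] at hCc
      exact case216B hG P hP hNc hCc

end Cfsg.Agent.S0977
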