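import Cfsg.Statements.S0978
import Mathlib
import Cfsg.Agent.Lib.Helper12.Ord5040E

set_option autoImplicit false
open Cfsg

namespace Cfsg.Agent.S0978

open Cfsg.Agent.Lib.Helper7 Cfsg.Agent.Lib.Helper8.SmallSimple Cfsg.Agent.Lib.Helper8.SmallSimple2
  Cfsg.Agent.Lib.Helper12.Ord5040

set_option maxRecDepth 100000 in
theorem arithN : ∀ n < 721, 720 % n = 0 → n % 7 = 1 →
    n = 1 ∨ n = 8 ∨ n = 15 ∨ n = 36 ∨ n = 120 := by
  decide

theorem dvd6 {r : ℕ} (h : r ∣ 6) : r = 1 ∨ r = 2 ∨ r = 3 ∨ r = 6 := by
  have := Nat.le_of_dvd (by norm_num) h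
  interval_cases r <;> simp_all

/-- No finite simple group has order 5040 = 2^4 * 3^2 * 5 * 7. -/
theorem result {G : Type*} [Group G] [Finite G] [IsSimpleGroup G] : Nat.card G ≠ 5040 := by
  intro hG
  have hnc : ¬ IsMulCommutative G := by
    apply not_comm_of_card_not_prime
    rw [hG]; norm_num
  have hG2 : 2 < Nat.card G := by rw [hG]; norm_num
  haveI : Fact (Nat.Prime 7) := ⟨by norm_num⟩
  obtain ⟨P⟩ : Nonempty (Sylow 7 G) := inferInstance
  have hG' : Nat.card G = 7 * 720 := by rw [hG]
  obtain ⟨hP, n, k, c, r, -, hNc, hCc, hrel, hnk, hcr, hmod, hn1, hr6, hr1, hidx, -⟩ :=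
    sylow_prime_data hnc hG' (by norm_num) P
  have hn720 : n ∣ 720 := ⟨k, hnk.symm⟩
  have hnle : n < 721 := by
    have := Nat.le_of_dvd (by norm_num) hn720
    omega
  have hncases := arithN n hnle (Nat.mod_eq_zero_of_dvd hn720) hmod
  have hr' := dvd6 hr6
  rcases hncases with rfl | rfl | rfl | rfl | rfl
  · exact hn1 rfl
  · -- `n = 8`
    have hk : k = 90 := by omega
    apply case8 P hP hidx
    rw [hCc]
    rcases hr' with rfl | rfl | rfl | rfl
    · exact absurd rfl hr1
    · have : c = 45 := by omega
      rw [this]; norm_num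
    · have : c = 30 := by omega
      rw [this]; norm_num
    · have : c = 15 := by omega
      rw [this]; norm_num
  · -- `n = 15`
    have hk : k = 48 := by omega
    apply case15 hG2 P hP hidx
    rw [hCc]
    rcases hr' with rfl | rfl | rfl | rfl
    · exact absurd rfl hr1
    · have : c = 24 := by omega
      rw [this]; norm_num
    · have : c = 16 := by omega
      rw [this]; norm_num
    · have : c = 8 := by omega
      rw [this]; norm_num
  · -- `n = 36`
    have hk : k = 20 := by omega
    rcases hr' with rfl | rfl | rfl | rfl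
    · exact absurd rfl hr1
    · have hc : c = 10 := by omega
      rw [hk] at hNc
      rw [hc] at hCc
      exact case36 hG P hP hidx hNc hCc
    · omega
    · omega
  · -- `n = 120`
    have hk : k = 6 := by omega
    rw [hk] at hNc
    rcases hr' with rfl | rfl | rfl | rfl
    · exact absurd rfl hr1
    · have hc : c = 3 := by omega
      rw [hc] at hCc
      exact case120_21 hG P hP hidx hNc hCc hrel
    · have hc : c = 2 := by omega
      rw [hc] at hCc
      exact case120_14 hG P hP hidx hNc hCc hrel
    · have hc : c = 1 := by omega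
      rw [hc] at hCc
      exact case120_7 hnc hG P hP hNc hCc

end Cfsg.Agent.S0978
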