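import Cfsg.Statements.S0979
import Cfsg.Agent.Lib.Helper12.BSFDeg

set_option autoImplicit false
open Cfsg

namespace Cfsg.Agent.S0979

theorem divisors_288 : Nat.divisors 288 =
    {1, 2, 3, 4, 6, 8, 9, 12, 16, 18, 24, 32, 36, 48, 72, 96, 144, 288} := by decide

theorem deg_cases (n : ℕ) (b : ℤ) (ha : b = 1 ∨ b = -1) (hdvd : n ∣ 5472)
    (hc : (19 : ℤ) ∣ (n : ℤ) - b) (hne1 : n ≠ 1) : (n = 96 ∧ b = 1) ∨ (n = 18 ∧ b = -1) := by
  have hcop : Nat.Coprime n 19 := by
    rw [Nat.coprime_comm, Nat.Prime.coprime_iff_not_dvd (by norm_num)]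
    intro h19
    rcases ha with rfl | rfl <;> omega
  have hn288 : n ∣ 288 := by
    apply Nat.Coprime.dvd_of_dvd_mul_right hcop
    exact hdvd
  have h4 : n ∈ Nat.divisors 288 := Nat.mem_divisors.mpr ⟨hn288, by norm_num⟩
  rw [divisors_288] at h4
  simp only [Finset.mem_insert, Finset.mem_singleton] at h4
  rcases h4 with rfl | rfl | rfl | rfl | rfl | rfl | rfl | rfl | rfl | rfl | rfl | rfl | rfl | rfl |
    rfl | rfl | rfl | rfl <;>
    rcases ha with rfl | rfl <;> omega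

/-- No finite simple group has order 5472 = 2^5 * 3^2 * 19. -/
theorem result {G : Type*} [Group G] [Finite G] [IsSimpleGroup G] : Nat.card G ≠ 5472 := by
  intro h
  classical
  have : Fact (Nat.Prime 19) := ⟨by norm_num⟩
  have hnc : ¬ IsMulCommutative G :=
    Cfsg.Agent.Lib.Helper7.not_comm_of_card_not_prime (by rw [h]; norm_num)
  have hperf := Cfsg.Agent.Lib.Helper12.BSF.commutator_eq_top_of_simple hnc
  obtain ⟨P⟩ : Nonempty (Sylow 19 G) := Sylow.nonempty
  obtain ⟨hPc, hPi⟩ := Cfsg.Agent.Lib.Helper7.sylow_card_index_of_exact (p := 19) (m := 288)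
    (by rw [h]) (by norm_num) P
  have hn : Nat.card (Sylow 19 G) = 96 := by
    have h1 : Nat.card (Sylow 19 G) ≡ 1 [MOD 19] := card_sylow_modEq_one 19 G
    have h2 : Nat.card (Sylow 19 G) ∣ 288 := by rw [← hPi]; exact Sylow.card_dvd_index P
    have h3 : Nat.card (Sylow 19 G) ≠ 1 :=
      Cfsg.Agent.Lib.Helper7.card_sylow_ne_one P (by rw [hPc]; norm_num) (by rw [hPc, h]; norm_num)
    have h4 : Nat.card (Sylow 19 G) ∈ Nat.divisors 288 := Nat.mem_divisors.mpr ⟨h2, by norm_num⟩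
    rw [divisors_288] at h4
    simp only [Finset.mem_insert, Finset.mem_singleton] at h4
    rcases h4 with h' | h' | h' | h' | h' | h' | h' | h' | h' | h' | h' | h' | h' | h' | h' | h' |
      h' | h'
    all_goals first
      | exact h'
      | exact absurd h' h3
      | (rw [h'] at h1; exact absurd h1 (by decide))
  have hN : Nat.card (Subgroup.normalizer ((P : Subgroup G) : Set G)) = 19 * 3 := by
    have := Cfsg.Agent.Lib.Helper7.card_sylow_mul_card_normalizer P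
    rw [hn, h] at this
    omega
  have hC := Cfsg.Agent.Lib.Helper12.BSF.centralizer_eq_of_card_normalizer hnc 19 3 Nat.prime_three
    P hPc hN
  obtain ⟨X, a, η, δ, hδ, hXc, hXne, ha0, hsq, hcong, hdeg⟩ :=
    Cfsg.Agent.Lib.Helper12.BSF.core 19 P hPc hC 3 Nat.prime_three (by norm_num) hN (by norm_num)
  have hηdvd : charDegree (η : G → ℂ) ∣ 5472 := by
    rw [← h]; exact Cfsg.Agent.Lib.Helper24.irr_charDegree_dvd_card η
  have hdc : ∀ χ ∈ X, a χ = 1 ∨ a χ = -1 →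
      (charDegree (χ : G → ℂ) = 96 ∧ a χ = 1) ∨ (charDegree (χ : G → ℂ) = 18 ∧ a χ = -1) := by
    intro χ hχ ha
    refine deg_cases _ _ ha ?_ (hcong χ hχ) ?_
    · rw [← h]; exact Cfsg.Agent.Lib.Helper24.irr_charDegree_dvd_card χ
    · exact fun h1 =>
        hXne χ hχ (Cfsg.Agent.Lib.Helper12.BSF.eq_one_of_charDegree_one hperf χ h1)
  -- X has exactly two elements
  have hX2 : X.card = 2 := by
    have hle : X.card ≤ 2 := by omega
    interval_cases hXcard : X.card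
    · rw [Finset.card_eq_zero] at hXcard
      rw [hXcard] at hsq
      norm_num at hsq
    · obtain ⟨χ, rfl⟩ := Finset.card_eq_one.mp hXcard
      rw [Finset.sum_singleton] at hsq
      have hχmem : χ ∈ ({χ} : Finset (IrrCharacter G)) := Finset.mem_singleton_self χ
      have ha := Cfsg.Agent.Lib.Helper12.BSF.pm_one_of_sq_le (a χ) (ha0 χ hχmem)
        (by rw [hsq]; norm_num)
      rcases ha with ha | ha <;> rw [ha] at hsq <;> norm_num at hsq
    · rfl
  obtain ⟨χ, ψ, hne, rfl⟩ := Finset.card_eq_two.mp hX2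
  rw [Finset.sum_pair hne] at hsq hdeg
  have hχmem : χ ∈ ({χ, ψ} : Finset (IrrCharacter G)) := by simp
  have hψmem : ψ ∈ ({χ, ψ} : Finset (IrrCharacter G)) := by simp
  have hsq' : a χ ^ 2 + a ψ ^ 2 = 2 := by rw [hsq]; norm_num
  have h1 : a χ = 1 ∨ a χ = -1 :=
    Cfsg.Agent.Lib.Helper12.BSF.pm_one_of_sq_le (a χ) (ha0 χ hχmem)
      (by have := sq_nonneg (a ψ); linarith)
  have h2 : a ψ = 1 ∨ a ψ = -1 :=
    Cfsg.Agent.Lib.Helper12.BSF.pm_one_of_sq_le (a ψ) (ha0 ψ hψmem)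
      (by have := sq_nonneg (a χ); linarith)
  rcases hdc χ hχmem h1 with ⟨hd1, hb1⟩ | ⟨hd1, hb1⟩ <;>
    rcases hdc ψ hψmem h2 with ⟨hd2, hb2⟩ | ⟨hd2, hb2⟩ <;>
    rw [hd1, hb1, hd2, hb2] at hdeg
  · exact Cfsg.Agent.Lib.Helper12.BSF.final_contra 5472 _ δ _ hδ hdeg hηdvd (by decide)
  · exact Cfsg.Agent.Lib.Helper12.BSF.final_contra 5472 _ δ _ hδ hdeg hηdvd (by decide)
  · exact Cfsg.Agent.Lib.Helper12.BSF.final_contra 5472 _ δ _ hδ hdeg hηdvd (by decide)
  · exact Cfsg.Agent.Lib.Helper12.BSF.final_contra 5472 _ δ _ hδ hdeg hηdvd (by decide)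

end Cfsg.Agent.S0979
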