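import Cfsg.Statements.S0983
import Cfsg.Agent.Lib.Helper5.Sieve6232.All
import Cfsg.Agent.Lib.Helper5.BLOrdA
import Cfsg.Agent.Lib.Helper5.BLOrdB
import Cfsg.Agent.Lib.Helper27.KleinOrdFin
import Cfsg.Agent.Lib.Helper27.Ord5880
import Cfsg.Agent.Lib.Helper1.Ord4620
import Cfsg.Agent.Lib.Helper1.Ord5460
import Cfsg.Agent.Lib.Helper1.Ord5376
import Cfsg.Agent.S0974
import Cfsg.Agent.S0975
import Cfsg.Agent.S0976
import Cfsg.Agent.S0977
import Cfsg.Agent.S0978
import Cfsg.Agent.S0979
import Cfsg.Agent.Lib.Helper1.Ord4536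
import Cfsg.Agent.Lib.Helper27.Ord4200
import Cfsg.Agent.Lib.Helper26.Ord5400
import Cfsg.Agent.Lib.Helper26.Ord4800
import Cfsg.Agent.Lib.Helper13.Ord5760
import Cfsg.Agent.Lib.Helper27.Ord5760A

set_option autoImplicit false
open Cfsg

namespace Cfsg.Agent.S0983

/-- A non-abelian finite simple group of order greater than 3640 and at most 6232 has order 4080, 5616, 6048 or 6072. -/
theorem result {G : Type*} [Group G] [Finite G] [IsSimpleGroup G] (hG : ¬ IsMulCommutative G) (h1 : 3640 < Nat.card G) (h2 : Nat.card G ≤ 6232) : Nat.card G = 4080 ∨ Nat.card G = 5616 ∨ Nat.card G = 6048 ∨ Nat.card G = 6072 := by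
  have hs := Cfsg.Agent.Lib.Helper8.OrdSieve.sieve_sound hG
  have hmem := Cfsg.Agent.Lib.Helper5.Sieve6232.mem_residual (Nat.card G) h1 h2 hs
  unfold Cfsg.Agent.Lib.Helper5.Sieve6232.residual at hmem
  simp only [List.mem_cons, List.not_mem_nil, or_false] at hmem
  rcases hmem with h | h | h | h | h | h | h | h | h | h | h | h | h | h | h | h | h | h | h | h |
    h | h | h | h | h | h | h | h | h | h | h | h | h
  · exact absurd h Cfsg.Agent.S0974.result
  · exact absurd h Cfsg.Agent.Lib.Helper5.BLOrd.not_simple_3696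
  · exact absurd h Cfsg.Agent.S0975.result
  · exact absurd h Cfsg.Agent.Lib.Helper27.KleinOrd.not_simple_3780
  · exact absurd h Cfsg.Agent.Lib.Helper5.BLOrd.not_simple_3960
  · exact absurd h Cfsg.Agent.S0976.result
  · exact Or.inl h
  · exact absurd h Cfsg.Agent.Lib.Helper5.BLOrd.not_simple_4160
  · exact absurd h Cfsg.Agent.Lib.Helper27.SylInt.not_simple_4200
  · exact absurd h Cfsg.Agent.Lib.Helper27.KleinOrd.not_simple_4212
  · exact absurd h Cfsg.Agent.S0977.result
  · exact absurd h Cfsg.Agent.Lib.Helper5.BLOrd.not_simple_4400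
  · exact absurd h Cfsg.Agent.Lib.Helper1.Ord4536.not_simple_4536
  · exact absurd h Cfsg.Agent.Lib.Helper1.Ord4620.not_simple_4620
  · exact absurd h Cfsg.Agent.Lib.Helper5.BLOrd.not_simple_4680
  · exact absurd h Cfsg.Agent.Lib.Helper5.BLOrd.not_simple_4760
  · exact absurd h Cfsg.Agent.Lib.Helper26.Ord4800.not_simple_4800
  · exact absurd h Cfsg.Agent.Lib.Helper5.BLOrd.not_simple_4928
  · exact absurd h Cfsg.Agent.S0978.result
  · exact absurd h Cfsg.Agent.Lib.Helper27.KleinOrd.not_simple_5148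
  · exact absurd h Cfsg.Agent.Lib.Helper5.BLOrd.not_simple_5200
  · exact absurd h Cfsg.Agent.Lib.Helper1.Ord5376.not_simple_5376
  · exact absurd h Cfsg.Agent.Lib.Helper26.Ord5400.not_simple_5400
  · exact absurd h Cfsg.Agent.Lib.Helper1.Ord5460.not_simple_5460
  · exact absurd h Cfsg.Agent.S0979.result
  · exact absurd h Cfsg.Agent.Lib.Helper5.BLOrd.not_simple_5600
  · exact Or.inr (Or.inl h)
  · exact absurd (Cfsg.Agent.Lib.Helper13.Ord5760.count_eq_576 h)
      (Cfsg.Agent.Lib.Helper27.Ord5760.not_count_576 h)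
  · exact absurd h Cfsg.Agent.Lib.Helper27.SylInt.not_simple_5880
  · exact absurd h Cfsg.Agent.Lib.Helper5.BLOrd.not_simple_5940
  · exact Or.inr (Or.inr (Or.inl h))
  · exact Or.inr (Or.inr (Or.inr h))
  · exact absurd h Cfsg.Agent.Lib.Helper5.BLOrd.not_simple_6160

end Cfsg.Agent.S0983
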