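-- Statement S0984: a simple group of order 2520 is isomorphic to the alternating group of degree 7.
-- Team proof (helper27 coordinator): Sylow 7 data (helper17 A7SylA), principal 7-block via Brauer–Leonard
-- (helper27 A7BlkA–I), character values (helper1 A7Cs7, helper8 A7ValB, helper27 A7BlkJ), local structure
-- and fixed-vector argument giving a subgroup of index 7 (helper1 A7Loc, helper8 A7End, helper17 A7End),
-- identification with A7 (helper20 AltIndexGlue).
import Cfsg.Statements.S0984
import Cfsg.Agent.Lib.Helper27.A7BlkI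
import Cfsg.Agent.Lib.Helper27.A7BlkJ
import Cfsg.Agent.Lib.Helper8.A7EndC
import Cfsg.Agent.Lib.Helper17.A7SylA
import Cfsg.Agent.Lib.Helper1.A7Cs7
import Cfsg.Agent.Lib.Helper8.A7ValB

set_option autoImplicit false
open Cfsg

namespace Cfsg.Agent.S0984

/-- A simple group of order 2520 is isomorphic to the alternating group of degree 7. -/
theorem result {G : Type*} [Group G] [Finite G] [IsSimpleGroup G] (h : Nat.card G = 2520) : Nonempty (G ≃* alternatingGroup (Fin 7)) := by
  have : Fact (Nat.Prime 7) := ⟨by norm_num⟩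
  have h7 := fun y hy => Cfsg.Agent.Lib.Helper17.A7Syl.card_centralizer_of_orderOf_seven h y hy
  have h21 := fun y hy => Cfsg.Agent.Lib.Helper17.A7Syl.card_normalizer_of_orderOf_seven h y hy
  let P : Sylow 7 G := default
  obtain ⟨hP, -, hC, hr⟩ := Cfsg.Agent.Lib.Helper17.A7Syl.sylow_seven_data h P
  obtain ⟨x15, x6, Yf, B⟩ := Cfsg.Agent.Lib.Helper27.A7Blk.exists_blk7_A7 h h21 P hP hC hr
  have hs := Cfsg.Agent.Lib.Helper1.A7Cs7.exists_s7 h h7 h21 B
  have hinv := Cfsg.Agent.Lib.Helper8.A7Val.invol_data h h7 h21 B hs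
  have h3 := Cfsg.Agent.Lib.Helper8.A7Val.three_data h h7 B hinv
  have h4 := Cfsg.Agent.Lib.Helper27.A7Blk.four_data h h7 B hinv
  exact Cfsg.Agent.Lib.Helper8.A7End.iso_alt7_of_data h h7 x6 B.d3
    (fun t ht => ⟨(hinv t ht).1, (hinv t ht).2.2⟩) h3 h4

end Cfsg.Agent.S0984
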