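import Cfsg.Statements.S0986
-- import your own Cfsg.Agent.* helpers here
import Mathlib

set_option autoImplicit false
open Cfsg

namespace Cfsg.Agent.S0986

/-- normalizers grow in `p`-groups -/
theorem exists_mem_normalizer_not_mem {G : Type*} [Group G] [Finite G] {p : ℕ} [Fact p.Prime]
    (P : Sylow p G) (D : Subgroup G) (hDP : D ≤ (P : Subgroup G)) (hne : D ≠ (P : Subgroup G)) :
    ∃ x ∈ (P : Subgroup G), x ∈ Subgroup.normalizer (D : Set G) ∧ x ∉ D := by
  have hnil : Group.IsNilpotent (P : Subgroup G) := P.isPGroup'.isNilpotent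
  have hlt : D.subgroupOf (P : Subgroup G) < ⊤ := by
    rw [lt_top_iff_ne_top]
    intro h
    rw [Subgroup.subgroupOf_eq_top] at h
    exact hne (le_antisymm hDP h)
  have h2 := normalizerCondition_of_isNilpotent _ hlt
  obtain ⟨x, hxN, hxD⟩ := SetLike.exists_of_lt h2
  rw [← Subgroup.subgroupOf_normalizer_eq hDP] at hxN
  exact ⟨x, x.2, hxN, hxD⟩

/-- Let P and Q be distinct Sylow p-subgroups of a finite group G chosen so that the order of P ∩ Q is as large as possible among intersections of two distinct Sylow p-subgroups, and let N be the normalizer of P ∩ Q. Then N has more than one Sylow p-subgroup, any two distinct Sylow p-subgroups of N intersect exactly in P ∩ Q, and each Sylow p-subgroup of N lies in exactly one Sylow p-subgroup of G. -/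
theorem result {G : Type*} [Group G] [Finite G] (p : ℕ) [Fact p.Prime] (P Q : Sylow p G) (hPQ : P ≠ Q) (hmax : ∀ P' Q' : Sylow p G, P' ≠ Q' → Nat.card ↥((P' : Subgroup G) ⊓ (Q' : Subgroup G)) ≤ Nat.card ↥((P : Subgroup G) ⊓ (Q : Subgroup G))) : 1 < Nat.card (Sylow p ↥(Subgroup.normalizer (((P : Subgroup G) ⊓ (Q : Subgroup G) : Subgroup G) : Set G))) ∧ (∀ S T : Sylow p ↥(Subgroup.normalizer (((P : Subgroup G) ⊓ (Q : Subgroup G) : Subgroup G) : Set G)), S ≠ T → (S : Subgroup _) ⊓ (T : Subgroup _) = ((P : Subgroup G) ⊓ (Q : Subgroup G)).subgroupOf (Subgroup.normalizer (((P : Subgroup G) ⊓ (Q : Subgroup G) : Subgroup G) : Set G))) ∧ ∀ S : Sylow p ↥(Subgroup.normalizer (((P : Subgroup G) ⊓ (Q : Subgroup G) : Subgroup G) : Set G)), ∃! T : Sylow p G, (S : Subgroup _).map (Subgroup.normalizer (((P : Subgroup G) ⊓ (Q : Subgroup G) : Subgroup G) : Set G)).subtype ≤ (T : Subgroup G) := by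
  classical
  set D : Subgroup G := (P : Subgroup G) ⊓ (Q : Subgroup G) with hD
  set N : Subgroup G := Subgroup.normalizer (D : Set G) with hN
  have hDN : D ≤ N := Subgroup.le_normalizer
  have hDp : IsPGroup p D := P.isPGroup'.to_le inf_le_left
  have hDNp : IsPGroup p (D.subgroupOf N) := hDp.comap_subtype
  have hDNn : (D.subgroupOf N).Normal := Subgroup.normal_in_normalizer
  have hcardDN : Nat.card (D.subgroupOf N) = Nat.card D := Nat.card_congr (Subgroup.subgroupOfEquivOfLe hDN).toEquiv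
  -- uniqueness of the Sylow above a big subgroup
  have huniq : ∀ (U : Subgroup G) (T₁ T₂ : Sylow p G), U ≤ (T₁ : Subgroup G) → U ≤ (T₂ : Subgroup G) →
      Nat.card D < Nat.card U → T₁ = T₂ := by
    intro U T₁ T₂ h1 h2 hlt
    by_contra hne
    have h3 := hmax T₁ T₂ hne
    have h4 : Nat.card U ≤ Nat.card ↥((T₁ : Subgroup G) ⊓ (T₂ : Subgroup G)) :=
      Subgroup.card_le_of_le (le_inf h1 h2)
    omega
  have hDP : D ≠ (P : Subgroup G) := by
    intro h
    have hle : (P : Subgroup G) ≤ Q := by rw [← h]; exact inf_le_right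
    exact hPQ (Sylow.ext (P.is_maximal' Q.isPGroup' hle).symm)
  have hDQ : D ≠ (Q : Subgroup G) := by
    intro h
    have hle : (Q : Subgroup G) ≤ P := by rw [← h]; exact inf_le_left
    exact hPQ (Sylow.ext (Q.is_maximal' P.isPGroup' hle))
  -- big subgroups P ∩ N and Q ∩ N
  have hbig : ∀ R : Sylow p G, D ≤ (R : Subgroup G) → D ≠ (R : Subgroup G) →
      Nat.card D < Nat.card ↥((R : Subgroup G) ⊓ N) := by
    intro R hDR hne
    obtain ⟨x, hxR, hxN, hxD⟩ := exists_mem_normalizer_not_mem R D hDR hne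
    have hlt : D < (R : Subgroup G) ⊓ N := by
      refine lt_of_le_of_ne (le_inf hDR hDN) ?_
      intro h
      apply hxD
      rw [h]
      exact ⟨hxR, hxN⟩
    exact Set.ncard_lt_ncard hlt (Set.toFinite _)
  have hbigP := hbig P inf_le_left hDP
  have hbigQ := hbig Q inf_le_right hDQ
  -- every Sylow of N is big
  have hSbig : ∀ S : Sylow p ↥N, Nat.card D < Nat.card S := by
    intro S
    have hp1 : IsPGroup p (((P : Subgroup G) ⊓ N).subgroupOf N) :=
      (P.isPGroup'.to_le inf_le_left).comap_subtype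
    obtain ⟨S', hS'⟩ := hp1.exists_le_sylow
    have h1 : Nat.card (((P : Subgroup G) ⊓ N).subgroupOf N) = Nat.card ↥((P : Subgroup G) ⊓ N) :=
      Nat.card_congr (Subgroup.subgroupOfEquivOfLe inf_le_right).toEquiv
    have h2 : Nat.card (((P : Subgroup G) ⊓ N).subgroupOf N) ≤ Nat.card S' := Subgroup.card_le_of_le hS'
    have h3 : Nat.card S = Nat.card S' := by
      rw [S.card_eq_multiplicity, S'.card_eq_multiplicity]
    omega
  have hmapcard : ∀ S : Sylow p ↥N, Nat.card ((S : Subgroup ↥N).map N.subtype) = Nat.card S := by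
    intro S
    exact Subgroup.card_map_of_injective N.subtype_injective
  have hmapp : ∀ S : Sylow p ↥N, IsPGroup p ((S : Subgroup ↥N).map N.subtype) := by
    intro S
    exact S.isPGroup'.map _
  refine ⟨?_, ?_, ?_⟩
  · -- more than one Sylow
    have hp1 : IsPGroup p (((P : Subgroup G) ⊓ N).subgroupOf N) :=
      (P.isPGroup'.to_le inf_le_left).comap_subtype
    have hq1 : IsPGroup p (((Q : Subgroup G) ⊓ N).subgroupOf N) :=
      (Q.isPGroup'.to_le inf_le_left).comap_subtype
    obtain ⟨S₁, hS₁⟩ := hp1.exists_le_sylow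
    obtain ⟨S₂, hS₂⟩ := hq1.exists_le_sylow
    have hne : S₁ ≠ S₂ := by
      intro h
      obtain ⟨T, hT⟩ := (hmapp S₁).exists_le_sylow
      have hPT : (P : Subgroup G) ⊓ N ≤ (T : Subgroup G) := by
        intro g hg
        apply hT
        exact ⟨⟨g, hg.2⟩, hS₁ (by rw [Subgroup.mem_subgroupOf]; exact hg), rfl⟩
      have hQT : (Q : Subgroup G) ⊓ N ≤ (T : Subgroup G) := by
        intro g hg
        apply hT
        rw [h]
        exact ⟨⟨g, hg.2⟩, hS₂ (by rw [Subgroup.mem_subgroupOf]; exact hg), rfl⟩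
      have e1 : T = P := huniq _ T P hPT inf_le_left hbigP
      have e2 : T = Q := huniq _ T Q hQT inf_le_left hbigQ
      exact hPQ (e1.symm.trans e2)
    have : Nontrivial (Sylow p ↥N) := ⟨⟨S₁, S₂, hne⟩⟩
    exact Finite.one_lt_card
  · -- intersections
    intro S T hST
    have hle : D.subgroupOf N ≤ (S : Subgroup ↥N) ⊓ (T : Subgroup ↥N) :=
      le_inf (hDNp.le_sylow_of_normal S) (hDNp.le_sylow_of_normal T)
    symm
    apply Subgroup.eq_of_le_of_card_ge hle
    obtain ⟨S', hS'⟩ := (hmapp S).exists_le_sylow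
    obtain ⟨T', hT'⟩ := (hmapp T).exists_le_sylow
    have hne : S' ≠ T' := by
      intro h
      -- (S' ⊓ N).subgroupOf N is a p-subgroup of N containing S and T
      have hp1 : IsPGroup p (((S' : Subgroup G) ⊓ N).subgroupOf N) :=
        (S'.isPGroup'.to_le inf_le_left).comap_subtype
      have hS1 : (S : Subgroup ↥N) ≤ ((S' : Subgroup G) ⊓ N).subgroupOf N := by
        intro g hg
        rw [Subgroup.mem_subgroupOf]
        exact ⟨hS' ⟨g, hg, rfl⟩, g.2⟩
      have hT1 : (T : Subgroup ↥N) ≤ ((S' : Subgroup G) ⊓ N).subgroupOf N := by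
        intro g hg
        rw [Subgroup.mem_subgroupOf]
        refine ⟨?_, g.2⟩
        rw [h]
        exact hT' ⟨g, hg, rfl⟩
      have e1 := S.is_maximal' hp1 hS1
      have e2 := T.is_maximal' hp1 hT1
      exact hST (Sylow.ext (e1.symm.trans e2))
    have h3 := hmax S' T' hne
    have h4 : Nat.card ↥((S : Subgroup ↥N) ⊓ (T : Subgroup ↥N)) ≤
        Nat.card ↥((S' : Subgroup G) ⊓ (T' : Subgroup G)) := by
      have h5 : ((S : Subgroup ↥N) ⊓ (T : Subgroup ↥N)).map N.subtype ≤ (S' : Subgroup G) ⊓ (T' : Subgroup G) := by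
        rintro _ ⟨g, hg, rfl⟩
        exact ⟨hS' ⟨g, hg.1, rfl⟩, hT' ⟨g, hg.2, rfl⟩⟩
      have h6 := Subgroup.card_le_of_le h5
      rwa [Subgroup.card_map_of_injective N.subtype_injective] at h6
    omega
  · -- unique Sylow above
    intro S
    obtain ⟨T, hT⟩ := (hmapp S).exists_le_sylow
    refine ⟨T, hT, ?_⟩
    intro T' hT'
    have := hSbig S
    exact huniq _ T' T hT' hT (by rw [hmapcard S]; exact this)

end Cfsg.Agent.S0986
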