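import Cfsg.Statements.S0987
import Mathlib
import Cfsg.Agent.Lib.Helper23.SylowCount

set_option autoImplicit false
open Cfsg

namespace Cfsg.Agent.S0987

/-- if `p` exactly divides `|G| = p * m`, a Sylow `p`-subgroup has order `p` and index `m` -/
theorem sylow_card_index {G : Type*} [Group G] [Finite G] {p m : ℕ} [Fact p.Prime]
    (h : Nat.card G = p * m) (hm : ¬ p ∣ m) (P : Sylow p G) :
    Nat.card ↥(P : Subgroup G) = p ∧ (P : Subgroup G).index = m := by
  have hp : p.Prime := Fact.out
  obtain ⟨k, hk⟩ := P.2.exists_card_eq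
  have hmul := (P : Subgroup G).card_mul_index
  rw [hk, h] at hmul
  have hnd := P.not_dvd_index
  rcases k with _ | _ | k
  · exfalso
    rw [pow_zero, one_mul] at hmul
    exact hnd ⟨m, hmul⟩
  · rw [pow_one] at hmul hk
    exact ⟨hk, Nat.eq_of_mul_eq_mul_left hp.pos hmul⟩
  · exfalso
    apply hm
    have : p * (p * (p ^ k * (P : Subgroup G).index)) = p * m := by rw [← hmul]; ring
    have := Nat.eq_of_mul_eq_mul_left hp.pos this
    exact ⟨_, this.symm⟩

theorem not_modEq_one {a r : ℕ} (h1 : 1 < a) (h2 : a < r) : ¬ a ≡ 1 [MOD r] := by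
  intro h
  have : a % r = 1 % r := h
  rw [Nat.mod_eq_of_lt h2, Nat.mod_eq_of_lt (by omega)] at this
  omega

theorem main {G : Type*} [Group G] [Finite G] (p q r : ℕ) (hp : p.Prime) (hq : q.Prime) [Fact r.Prime]
    (hpq : p < q) (hqr : q < r) (hG : Nat.card G = p * q * r) (R : Sylow r G) :
    (R : Subgroup G).Normal := by
  classical
  have hr : r.Prime := Fact.out
  have hfq : Fact q.Prime := ⟨hq⟩
  have hp1 : 1 < p := hp.one_lt
  have hrpq : ¬ r ∣ p * q := by
    intro h
    rcases (Nat.Prime.dvd_mul hr).mp h with h | h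
    · have := Nat.le_of_dvd hp.pos h; omega
    · have := Nat.le_of_dvd hq.pos h; omega
  obtain ⟨hRcard, hRidx⟩ := sylow_card_index (p := r) (m := p * q) (by rw [hG]; ring) hrpq R
  by_contra hnot
  -- number of Sylow r-subgroups
  have hnr_dvd : Nat.card (Sylow r G) ∣ p * q := by rw [← hRidx]; exact Sylow.card_dvd_index R
  have hnr_mod : Nat.card (Sylow r G) ≡ 1 [MOD r] := card_sylow_modEq_one r G
  have hnr_ne1 : Nat.card (Sylow r G) ≠ 1 := by
    intro h1
    apply hnot
    have hsub : Subsingleton (Sylow r G) := (Nat.card_eq_one_iff_unique.mp h1).1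
    exact Sylow.normal_of_subsingleton R
  have hnr : Nat.card (Sylow r G) = p * q := by
    obtain ⟨a, b, ha, hb, hab⟩ := (Nat.dvd_mul).mp hnr_dvd
    rcases (Nat.dvd_prime hp).mp ha with rfl | rfl <;> rcases (Nat.dvd_prime hq).mp hb with rfl | rfl
    · exact absurd hab.symm hnr_ne1
    · rw [one_mul] at hab; rw [← hab] at hnr_mod
      exact absurd hnr_mod (not_modEq_one hq.one_lt hqr)
    · rw [mul_one] at hab; rw [← hab] at hnr_mod
      exact absurd hnr_mod (not_modEq_one hp1 (by omega))
    · exact hab.symm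
  -- N(R) = R
  set N := Subgroup.normalizer ((R : Subgroup G) : Set G) with hN
  have hNidx : N.index = p * q := by
    rw [← hnr]; exact (Sylow.card_eq_index_normalizer R).symm
  have hNcard : Nat.card N = r := by
    have := N.card_mul_index
    rw [hNidx, hG] at this
    have hpos : 0 < p * q := Nat.mul_pos hp.pos hq.pos
    exact Nat.eq_of_mul_eq_mul_right hpos (by rw [this]; ring)
  have hRN : (R : Subgroup G) ≤ N := Subgroup.le_normalizer
  have hNR : N = (R : Subgroup G) := by
    symm; apply Subgroup.eq_of_le_of_card_ge hRN; rw [hNcard, hRcard]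
  have hcycR : IsCyclic ↥(R : Subgroup G) := isCyclic_of_prime_card hRcard
  have hRcomm : ∀ a ∈ (R : Subgroup G), ∀ b ∈ (R : Subgroup G), a * b = b * a := by
    intro a ha b hb
    have hmc : IsMulCommutative ↥(R : Subgroup G) := IsCyclic.isMulCommutative
    exact congrArg Subtype.val (hmc.is_comm.comm ⟨a, ha⟩ ⟨b, hb⟩)
  have hNC : N ≤ Subgroup.centralizer ((R : Subgroup G) : Set G) := by
    rw [hNR]
    intro a ha
    rw [Subgroup.mem_centralizer_iff]
    intro b hb
    exact hRcomm b hb a ha
  -- Burnside's normal complement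
  have hcompl := MonoidHom.ker_transferSylow_isComplement' R hNC
  set K := (MonoidHom.transferSylow R hNC).ker with hK
  have hKcard : Nat.card K = p * q := by
    have := hcompl.card_mul_card
    rw [hRcard, hG] at this
    exact Nat.eq_of_mul_eq_mul_right hr.pos this
  have hKidx : K.index = r := by
    have := K.card_mul_index
    rw [hKcard, hG] at this
    exact Nat.eq_of_mul_eq_mul_left (Nat.mul_pos hp.pos hq.pos) this
  have hqK : ¬ q ∣ K.index := by
    rw [hKidx]
    intro h
    have := (Nat.prime_dvd_prime_iff_eq hq hr).mp h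
    omega
  -- the Sylow q-subgroup of G is normal
  have hnq : Nat.card (Sylow q G) = 1 := by
    rw [← Cfsg.Agent.Lib.Helper23.card_sylow_eq_of_normal_of_not_dvd_index q K hqK]
    obtain ⟨QK⟩ : Nonempty (Sylow q K) := Sylow.nonempty
    have hqp : ¬ q ∣ p := by
      intro h
      have := (Nat.prime_dvd_prime_iff_eq hq hp).mp h
      omega
    obtain ⟨_, hQKidx⟩ := sylow_card_index (p := q) (m := p) (by rw [hKcard]; ring) hqp QK
    have h1 : Nat.card (Sylow q K) ∣ p := by rw [← hQKidx]; exact Sylow.card_dvd_index QK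
    have h2 : Nat.card (Sylow q K) ≡ 1 [MOD q] := card_sylow_modEq_one q K
    rcases (Nat.dvd_prime hp).mp h1 with h | h
    · exact h
    · rw [h] at h2; exact absurd h2 (not_modEq_one hp1 hpq)
  obtain ⟨Q⟩ : Nonempty (Sylow q G) := Sylow.nonempty
  have hQnormal : (Q : Subgroup G).Normal := by
    have hsub : Subsingleton (Sylow q G) := (Nat.card_eq_one_iff_unique.mp hnq).1
    exact Sylow.normal_of_subsingleton Q
  have hqpr : ¬ q ∣ p * r := by
    intro h
    rcases (Nat.Prime.dvd_mul hq).mp h with h | h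
    · have := (Nat.prime_dvd_prime_iff_eq hq hp).mp h; omega
    · have := (Nat.prime_dvd_prime_iff_eq hq hr).mp h; omega
  obtain ⟨hQcard, _⟩ := sylow_card_index (p := q) (m := p * r) (by rw [hG]; ring) hqpr Q
  -- R acts trivially on Q
  have hcycQ : IsCyclic ↥(Q : Subgroup G) := isCyclic_of_prime_card hQcard
  have hAut : Nat.card (MulAut ↥(Q : Subgroup G)) = q - 1 := by
    rw [IsCyclic.card_mulAut, hQcard, Nat.totient_prime hq]
  have hNQ : Subgroup.normalizer ((Q : Subgroup G) : Set G) = ⊤ := (Q : Subgroup G).normalizer_eq_top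
  have hcentr : ∀ x ∈ (R : Subgroup G), ∀ y ∈ (Q : Subgroup G), x * y * x⁻¹ = y := by
    intro x hx y hy
    have hxN : x ∈ Subgroup.normalizer ((Q : Subgroup G) : Set G) := by rw [hNQ]; trivial
    set σ := (Q : Subgroup G).normalizerMonoidHom ⟨x, hxN⟩ with hσ
    have h1 : orderOf σ ∣ q - 1 := by rw [← hAut]; exact orderOf_dvd_natCard σ
    have h2 : orderOf σ ∣ r := by
      have h3 : orderOf (⟨x, hxN⟩ : Subgroup.normalizer ((Q : Subgroup G) : Set G)) ∣ r := by
        rw [← Subgroup.orderOf_coe]
        show orderOf x ∣ r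
        have : orderOf (⟨x, hx⟩ : ↥(R : Subgroup G)) ∣ Nat.card ↥(R : Subgroup G) := orderOf_dvd_natCard _
        rw [hRcard, ← Subgroup.orderOf_coe] at this
        exact this
      exact (orderOf_map_dvd _ _).trans h3
    have h3 : orderOf σ = 1 := by
      rcases (Nat.dvd_prime hr).mp h2 with h | h
      · exact h
      · exfalso
        rw [h] at h1
        have := Nat.le_of_dvd (by have := hq.one_lt; omega) h1
        omega
    have h4 : σ = 1 := orderOf_eq_one_iff.mp h3
    have h5 := congrArg (fun τ : MulAut ↥(Q : Subgroup G) => ((τ ⟨y, hy⟩ : ↥(Q : Subgroup G)) : G)) h4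
    simp only [hσ, MulAut.one_apply] at h5
    have h6 : ((((Q : Subgroup G).normalizerMonoidHom ⟨x, hxN⟩) ⟨y, hy⟩ : ↥(Q : Subgroup G)) : G)
        = x * y * x⁻¹ := rfl
    exact h6.symm.trans h5
  -- hence Q ≤ N(R) = R, which is absurd
  have hQN : (Q : Subgroup G) ≤ N := by
    intro y hy
    rw [hN, Subgroup.mem_normalizer_iff]
    intro x
    have key : ∀ x ∈ (R : Subgroup G), y * x * y⁻¹ = x := by
      intro x hx
      have := hcentr x hx y hy
      calc y * x * y⁻¹ = (x * y * x⁻¹) * x * y⁻¹ := by rw [this]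
        _ = x := by group
    constructor
    · intro hx; rw [key x hx]; exact hx
    · intro hx
      have h1 := key _ hx
      -- y (y x y⁻¹) y⁻¹ = y x y⁻¹ → conj is identity on R; so x = y⁻¹ (y x y⁻¹) y
      have h2 : y⁻¹ * (y * x * y⁻¹) * y = x := by group
      have h3 : y⁻¹ * (y * x * y⁻¹) * y = y * x * y⁻¹ := by
        have := hcentr (y * x * y⁻¹) hx y hy
        calc y⁻¹ * (y * x * y⁻¹) * y = y⁻¹ * ((y * x * y⁻¹) * y * (y * x * y⁻¹)⁻¹) * (y * x * y⁻¹) := by group
          _ = y⁻¹ * y * (y * x * y⁻¹) := by rw [this]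
          _ = y * x * y⁻¹ := by group
      rw [← h2, h3]; exact hx
  rw [hNR] at hQN
  have : q ∣ r := by
    have := Subgroup.card_dvd_of_le hQN
    rwa [hQcard, hRcard] at this
  have := (Nat.prime_dvd_prime_iff_eq hq hr).mp this
  omega



/-- If a finite group has order pqr for primes p < q < r, then its Sylow r-subgroups are normal. -/
theorem result {G : Type*} [Group G] [Finite G] (p q r : ℕ) (hp : p.Prime) (hq : q.Prime) [Fact r.Prime] (hpq : p < q) (hqr : q < r) (hG : Nat.card G = p * q * r) (R : Sylow r G) : (R : Subgroup G).Normal := by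
  exact main p q r hp hq hpq hqr hG R

end Cfsg.Agent.S0987
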