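import Cfsg.Statements.S0988
import Mathlib
import Cfsg.Agent.Lib.Lead.CharBurnside
import Cfsg.Agent.Lib.Helper7.SimpleTools
import Cfsg.Agent.Lib.Helper1.NormalPComplement
-- import your own Cfsg.Agent.* helpers here

set_option autoImplicit false
open Cfsg

namespace Cfsg.Agent.S0988

open Cfsg.Agent.Lib.Helper7 Cfsg.Agent.Lib.Helper1 Cfsg.Agent.CharLib

/-- a non-commutative simple group is not solvable -/
theorem not_solvable {G : Type*} [Group G] [IsSimpleGroup G] (hG : ¬ IsMulCommutative G) :
    ¬ Group.IsSolvable G := by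
  intro hs
  apply hG
  exact ⟨⟨IsSimpleGroup.comm_iff_isSolvable.mpr hs⟩⟩

/-- a prime dividing `p ^ 2 * q * r` is one of `p, q, r` -/
theorem prime_dvd_cases {p q r s : ℕ} (hp : p.Prime) (hq : q.Prime) (hr : r.Prime) (hs : s.Prime)
    (h : s ∣ p ^ 2 * q * r) : s = p ∨ s = q ∨ s = r := by
  rcases (Nat.Prime.dvd_mul hs).mp h with h1 | h1
  · rcases (Nat.Prime.dvd_mul hs).mp h1 with h2 | h2
    · left
      exact (Nat.prime_dvd_prime_iff_eq hs hp).mp (hs.dvd_of_dvd_pow h2)
    · right; left
      exact (Nat.prime_dvd_prime_iff_eq hs hq).mp h2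
  · right; right
    exact (Nat.prime_dvd_prime_iff_eq hs hr).mp h1

/-- the smallest prime divisor of the order of a nonabelian simple group does not divide it
exactly once -/
theorem smallest_not_exact {G : Type*} [Group G] [Finite G] [IsSimpleGroup G]
    (hG : ¬ IsMulCommutative G) (q m : ℕ) (hq : q.Prime) (hcard : Nat.card G = q * m)
    (hqm : ¬ q ∣ m) (hsmall : ∀ s : ℕ, s.Prime → s ∣ Nat.card G → q ≤ s) : False := by
  have : Fact q.Prime := ⟨hq⟩
  obtain ⟨Q⟩ : Nonempty (Sylow q G) := inferInstance
  obtain ⟨hQc, -⟩ := sylow_card_index_of_exact hcard hqm Q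
  have hcomm := comm_of_card_prime (Q : Subgroup G) hQc
  have : IsMulCommutative Q := ⟨⟨fun a b => Subtype.ext (hcomm a.1 a.2 b.1 b.2)⟩⟩
  have h1 : 1 < Nat.card (Q : Subgroup G) := by rw [hQc]; exact hq.one_lt
  apply not_normalizer_le_centralizer hG Q h1 hcomm
  apply normalizer_le_centralizer_of_not_dvd Q
  intro s hs hsq hsG d hd hdlt hdvd
  have hle := hsmall s hs hsG
  have hQc' : Nat.card Q = q := hQc
  rw [hQc'] at hd hdlt hdvd
  have hd1 : d = 1 := by
    rcases (Nat.dvd_prime hq).mp hd with h | h
    · exact h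
    · omega
  subst hd1
  have := Nat.le_of_dvd (by have := hq.two_le; omega) hdvd
  omega

theorem key {G : Type*} [Group G] [Finite G] [IsSimpleGroup G] (p q r : ℕ) (hp : p.Prime)
    (hq : q.Prime) (hr : r.Prime) (hqr : q < r) (hG : Nat.card G = p ^ 2 * q * r) :
    Nat.card G = 60 := by
  have hp2 := hp.two_le
  have hq2 := hq.two_le
  have hr2 := hr.two_le
  -- G is not commutative
  have hnc : ¬ IsMulCommutative G := by
    apply not_comm_of_card_not_prime
    rw [hG]
    intro hpr
    have hdvd : p ∣ p ^ 2 * q * r := ⟨p * q * r, by ring⟩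
    rcases (Nat.dvd_prime hpr).mp hdvd with h | h
    · omega
    · have : p * 1 < p ^ 2 * q * r := by
        calc p * 1 < p * (p * q * r) := by
              apply Nat.mul_lt_mul_of_pos_left _ hp.pos
              have : 2 * 2 ≤ p * q := Nat.mul_le_mul hp2 hq2
              have : (2 * 2) * 2 ≤ p * q * r := Nat.mul_le_mul this hr2
              omega
          _ = p ^ 2 * q * r := by ring
      omega
  have hns := not_solvable hnc
  -- p ≠ q, p ≠ r
  have hpq : p ≠ q := by
    rintro rfl
    exact hns (isSolvable_of_card_pq p r 3 1 hp hr (by rw [hG]; ring))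
  have hpr : p ≠ r := by
    rintro rfl
    exact hns (isSolvable_of_card_pq p q 3 1 hp hq (by rw [hG]; ring))
  -- p is the smallest prime
  have hpq' : p < q := by
    by_contra hcon
    have hqp : q < p := by omega
    refine smallest_not_exact hnc q (p ^ 2 * r) hq (by rw [hG]; ring) ?_ ?_
    · intro hd
      rcases (Nat.Prime.dvd_mul hq).mp hd with h | h
      · have := (Nat.prime_dvd_prime_iff_eq hq hp).mp (hq.dvd_of_dvd_pow h)
        omega
      · have := (Nat.prime_dvd_prime_iff_eq hq hr).mp h
        omega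
    · intro s hs hsG
      rw [hG] at hsG
      rcases prime_dvd_cases hp hq hr hs hsG with h | h | h <;> omega
  -- p = 2 and q = 3
  have : Fact p.Prime := ⟨hp⟩
  obtain ⟨P⟩ : Nonempty (Sylow p G) := inferInstance
  have hpm : ¬ p ∣ q * r := by
    intro hd
    rcases (Nat.Prime.dvd_mul hp).mp hd with h | h
    · have := (Nat.prime_dvd_prime_iff_eq hp hq).mp h
      omega
    · have := (Nat.prime_dvd_prime_iff_eq hp hr).mp h
      omega
  obtain ⟨hPc, -⟩ := sylow_card_index_of_pow (k := 2) (m := q * r) (by rw [hG]; ring) hpm P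
  have hcommP := comm_of_card_prime_sq (P : Subgroup G) hPc
  have : IsMulCommutative P := ⟨⟨fun a b => Subtype.ext (hcommP a.1 a.2 b.1 b.2)⟩⟩
  have hP1 : 1 < Nat.card (P : Subgroup G) := by
    rw [hPc]; exact Nat.one_lt_pow (by norm_num) hp.one_lt
  have hp2q3 : p = 2 ∧ q = 3 := by
    by_contra hcon
    apply not_normalizer_le_centralizer hnc P hP1 hcommP
    apply normalizer_le_centralizer_of_not_dvd P
    intro s hs hsp hsG d hd hdlt hdvd
    have hPc' : Nat.card P = p ^ 2 := hPc
    rw [hPc'] at hd hdlt hdvd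
    rw [hG] at hsG
    have hsq : q ≤ s := by
      rcases prime_dvd_cases hp hq hr hs hsG with h | h | h <;> omega
    -- d = 1 or d = p
    obtain ⟨i, hi, rfl⟩ := (Nat.dvd_prime_pow hp).mp hd
    have hi2 : i < 2 := by
      rcases Nat.lt_or_ge i 2 with h | h
      · exact h
      · have : i = 2 := le_antisymm hi h
        subst this
        omega
    interval_cases i
    · -- s ∣ p^2 - 1 = (p-1)(p+1)
      have he : p ^ 2 - p ^ 0 = (p - 1) * (p + 1) := by
        obtain ⟨k, rfl⟩ : ∃ k, p = k + 1 := ⟨p - 1, by omega⟩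
        simp only [pow_zero, Nat.add_sub_cancel]
        have : (k + 1) ^ 2 = k * (k + 1 + 1) + 1 := by ring
        omega
      rw [he] at hdvd
      rcases (Nat.Prime.dvd_mul hs).mp hdvd with h | h
      · have := Nat.le_of_dvd (by omega) h
        omega
      · have hle := Nat.le_of_dvd (by omega) h
        have hsp1 : s = p + 1 := by omega
        have hq' : q = p + 1 := by omega
        -- p and p+1 both prime => p = 2
        rcases hp.eq_one_or_self_of_dvd 2 (by
          rcases Nat.even_or_odd p with he | ho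
          · exact he.two_dvd
          · exfalso
            have h2q : 2 ∣ q := by
              rw [hq']
              exact (Odd.add_one ho).two_dvd
            have := (Nat.prime_dvd_prime_iff_eq Nat.prime_two hq).mp h2q
            omega) with h1 | h1
        · omega
        · apply hcon
          omega
    · -- s ∣ p^2 - p = p (p - 1)
      have he : p ^ 2 - p ^ 1 = p * (p - 1) := by
        obtain ⟨k, rfl⟩ : ∃ k, p = k + 1 := ⟨p - 1, by omega⟩
        simp only [pow_one, Nat.add_sub_cancel]
        have : (k + 1) ^ 2 = (k + 1) * k + (k + 1) := by ring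
        omega
      rw [he] at hdvd
      rcases (Nat.Prime.dvd_mul hs).mp hdvd with h | h
      · have := (Nat.prime_dvd_prime_iff_eq hs hp).mp h
        omega
      · have := Nat.le_of_dvd (by omega) h
        omega
  obtain ⟨rfl, rfl⟩ := hp2q3
  -- now |G| = 12 r
  have hG12 : Nat.card G = r * 12 := by rw [hG]; ring
  have hr5 : 5 ≤ r := by
    by_contra hcon
    have : r = 4 := by omega
    subst this
    norm_num at hr
  have : Fact r.Prime := ⟨hr⟩
  obtain ⟨R⟩ : Nonempty (Sylow r G) := inferInstance
  have hr12 : ¬ r ∣ 12 := by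
    intro hd
    have := Nat.le_of_dvd (by norm_num) hd
    interval_cases r <;> omega
  obtain ⟨hRc, -⟩ := sylow_card_index_of_exact hG12 hr12 R
  have hcommR := comm_of_card_prime (R : Subgroup G) hRc
  have hR1 : 1 < Nat.card (R : Subgroup G) := by rw [hRc]; omega
  have hnr1 : Nat.card (Sylow r G) ≠ 1 :=
    card_sylow_ne_one R hR1 (by rw [hRc, hG12]; omega)
  have hmod : Nat.card (Sylow r G) ≡ 1 [MOD r] := card_sylow_modEq_one r G
  have hmul := card_sylow_mul_card_normalizer R
  -- r divides |N(R)|
  have hRN : Nat.card (R : Subgroup G) ∣ Nat.card (Subgroup.normalizer ((R : Subgroup G) : Set G)) :=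
    Subgroup.card_dvd_of_le Subgroup.le_normalizer
  rw [hRc] at hRN
  obtain ⟨m, hm⟩ := hRN
  rw [hm, hG12] at hmul
  have hnm : Nat.card (Sylow r G) * m = 12 := by
    have : r * (Nat.card (Sylow r G) * m) = r * 12 := by rw [← hmul]; ring
    exact Nat.eq_of_mul_eq_mul_left hr.pos this
  obtain ⟨n, hn⟩ : ∃ n, n = Nat.card (Sylow r G) := ⟨_, rfl⟩
  rw [← hn] at hnr1 hmod hnm
  have hn12 : n ∣ 12 := ⟨m, hnm.symm⟩
  have hnle : n ≤ 12 := Nat.le_of_dvd (by norm_num) hn12
  have hn0 : 0 < n := Nat.pos_of_dvd_of_pos hn12 (by norm_num)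
  have hrd : r ∣ n - 1 := (Nat.modEq_iff_dvd' hn0).mp hmod.symm
  have hn2 : 2 ≤ n := by omega
  have hrle : r ≤ n - 1 := Nat.le_of_dvd (by omega) hrd
  -- cases
  interval_cases n
  all_goals try omega
  · -- n = 12: m = 1, N(R) = R
    exfalso
    have hm1 : m = 1 := by omega
    rw [hm1, mul_one] at hm
    apply not_normalizer_le_centralizer hnc R hR1 hcommR
    have hNR : Subgroup.normalizer ((R : Subgroup G) : Set G) = (R : Subgroup G) := by
      symm
      apply Subgroup.eq_of_le_of_card_ge Subgroup.le_normalizer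
      rw [hm, hRc]
    intro x hx
    rw [hNR] at hx
    rw [Subgroup.mem_centralizer_iff]
    intro y hy
    exact hcommR y hy x hx


/-- If a finite simple group has order p^2 * q * r with p, q and r prime, then its order is 60. -/
theorem result {G : Type*} [Group G] [Finite G] [IsSimpleGroup G] (p q r : ℕ) (hp : p.Prime) (hq : q.Prime) (hr : r.Prime) (hG : Nat.card G = p ^ 2 * q * r) : Nat.card G = 60 := by
  rcases lt_trichotomy q r with h | h | h
  · exact key p q r hp hq hr h hG
  · subst h
    exfalso
    have hnc : ¬ IsMulCommutative G := by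
      apply not_comm_of_card_not_prime
      rw [hG]
      intro hpr
      have hdvd : q ∣ p ^ 2 * q * q := ⟨p ^ 2 * q, by ring⟩
      rcases (Nat.dvd_prime hpr).mp hdvd with h | h
      · have := hq.two_le; omega
      · have h4 : 1 < p ^ 2 * q := by
          have := hp.two_le
          have := hq.two_le
          nlinarith
        have : q * 1 < q * (p ^ 2 * q) := Nat.mul_lt_mul_of_pos_left h4 hq.pos
        have : q * (p ^ 2 * q) = p ^ 2 * q * q := by ring
        omega
    exact not_solvable hnc (isSolvable_of_card_pq p q 2 2 hp hq (by rw [hG]; ring))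
  · exact key p r q hp hr hq h (by rw [hG]; ring)

end Cfsg.Agent.S0988
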