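import Cfsg.Statements.S0994
import Mathlib
import Cfsg.Agent.Lib.Helper7.SimpleTools

set_option autoImplicit false
open Cfsg

namespace Cfsg.Agent.S0994
open Cfsg.Agent.Lib.Helper7

theorem main {G : Type*} [Group G] [Finite G] [IsSimpleGroup G] : Nat.card G ≠ 1188 := by
  intro h
  have hG : ¬ IsMulCommutative G := not_comm_of_card_not_prime (by rw [h]; norm_num)
  have hf : Fact (Nat.Prime 11) := ⟨by norm_num⟩
  obtain ⟨P⟩ : Nonempty (Sylow 11 G) := Sylow.nonempty
  obtain ⟨hPcard, hPidx⟩ := sylow_card_index_of_exact (p := 11) (m := 108) (by rw [h]) (by norm_num) P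
  have hn_dvd : Nat.card (Sylow 11 G) ∣ 108 := by rw [← hPidx]; exact Sylow.card_dvd_index P
  have hn_mod : Nat.card (Sylow 11 G) ≡ 1 [MOD 11] := card_sylow_modEq_one 11 G
  have hn_ne : Nat.card (Sylow 11 G) ≠ 1 := card_sylow_ne_one P (by rw [hPcard]; norm_num) (by rw [hPcard, h]; norm_num)
  have hn : Nat.card (Sylow 11 G) = 12 := by
    have hmem : Nat.card (Sylow 11 G) ∈ Nat.divisors 108 := Nat.mem_divisors.mpr ⟨hn_dvd, by norm_num⟩
    have key : ∀ d ∈ Nat.divisors 108, d % 11 = 1 → d = 1 ∨ d = 12 := by decide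
    rcases key _ hmem hn_mod with h1 | h1
    · exact absurd h1 hn_ne
    · exact h1
  have hN : Nat.card ↥(Subgroup.normalizer ((P : Subgroup G) : Set G)) = 99 := by
    have := card_sylow_mul_card_normalizer P
    rw [hn, h] at this
    omega
  have h1 := relIndex_centralizer_normalizer_dvd_of_prime (P : Subgroup G) hPcard
  have h2 : (Subgroup.centralizer ((P : Subgroup G) : Set G)).relIndex
      (Subgroup.normalizer ((P : Subgroup G) : Set G)) ∣ 99 := by
    rw [← hN]; exact Subgroup.relIndex_dvd_card _ _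
  have h3 : (Subgroup.centralizer ((P : Subgroup G) : Set G)).relIndex
      (Subgroup.normalizer ((P : Subgroup G) : Set G)) = 1 := by
    have h4 := Nat.dvd_gcd h1 h2
    have h5 : Nat.gcd (11 - 1) 99 = 1 := by norm_num
    rw [h5] at h4
    exact Nat.dvd_one.mp h4
  exact not_normalizer_le_centralizer hG P (by rw [hPcard]; norm_num)
    (comm_of_card_prime (P : Subgroup G) hPcard) (Subgroup.relIndex_eq_one.mp h3)



/-- No finite simple group has order 1188 = 2^2 * 3^3 * 11. -/
theorem result {G : Type*} [Group G] [Finite G] [IsSimpleGroup G] : Nat.card G ≠ 1188 := by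
  exact main

end Cfsg.Agent.S0994
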