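import Cfsg.Statements.S1001
import Mathlib
import Cfsg.Agent.S0904
import Cfsg.Agent.Lib.Lead.CharBurnside
-- import your own Cfsg.Agent.* helpers here

set_option autoImplicit false
open Cfsg

namespace Cfsg.Agent.S1001

open Cfsg.Agent.CharLib

/-- a solvable finite simple group is generated by each of its non-identity elements -/
theorem centralizer_eq_zpowers_of_solvable {G : Type*} [Group G] [Finite G] [IsSimpleGroup G]
    (hsol : Group.IsSolvable G) (x : G) (hx : x ≠ 1) :
    Subgroup.centralizer ({x} : Set G) = Subgroup.zpowers x := by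
  have hcomm : ∀ u v : G, u * v = v * u := (IsSimpleGroup.comm_iff_isSolvable.mpr hsol)
  letI : CommGroup G := { (inferInstance : Group G) with mul_comm := hcomm }
  have hz : Subgroup.zpowers x = ⊤ := by
    rcases (Subgroup.normal_of_isMulCommutative (Subgroup.zpowers x)).eq_bot_or_eq_top with h | h
    · exfalso
      apply hx
      have : x ∈ Subgroup.zpowers x := Subgroup.mem_zpowers x
      rw [h] at this
      exact Subgroup.mem_bot.mp this
    · exact h
  rw [hz]
  apply top_unique
  intro u _
  rw [Subgroup.mem_centralizer_iff]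
  intro v _
  exact hcomm v u

/-- In a finite simple group whose order has the form p * 3^a * 2^b with p prime, the centralizer of any element of order p is the cyclic group it generates. -/
theorem result {G : Type*} [Group G] [Finite G] [IsSimpleGroup G] (p a b : ℕ) (hp : p.Prime) (hG : Nat.card G = p * 3 ^ a * 2 ^ b) (x : G) (hx : orderOf x = p) : Subgroup.centralizer ({x} : Set G) = Subgroup.zpowers x := by
  classical
  have hx1 : x ≠ 1 := by
    intro h
    rw [h, orderOf_one] at hx
    exact hp.one_lt.ne hx
  -- the solvable cases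
  by_cases hsol : Group.IsSolvable G
  · exact centralizer_eq_zpowers_of_solvable hsol x hx1
  -- now `p ≠ 2, 3`
  have hp2 : p ≠ 2 := by
    intro h
    apply hsol
    apply isSolvable_of_card_pq 2 3 (b + 1) a Nat.prime_two Nat.prime_three
    rw [hG, h]; ring
  have hp3 : p ≠ 3 := by
    intro h
    apply hsol
    apply isSolvable_of_card_pq 2 3 b (a + 1) Nat.prime_two Nat.prime_three
    rw [hG, h]; ring
  haveI : Fact p.Prime := ⟨hp⟩
  have hcard : Nat.card G = 3 ^ a * 2 ^ b * p := by rw [hG]; ring
  obtain ⟨S, hS⟩ := (IsPGroup.of_card (p := p) (n := 1) (G := Subgroup.zpowers x)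
    (by rw [Nat.card_zpowers, hx, pow_one])).exists_le_sylow
  have h904 := Cfsg.Agent.S0904.result 3 2 p a b Nat.prime_three Nat.prime_two (by norm_num)
    (Ne.symm hp3) (Ne.symm hp2) hcard S
  -- `S` has order `p`, so it equals `⟨x⟩`
  have hScard : Nat.card S = p := by
    rw [Sylow.card_eq_multiplicity, hcard]
    have h1 : (3 ^ a * 2 ^ b * p).factorization p = 1 := by
      rw [Nat.factorization_mul (mul_ne_zero (pow_ne_zero _ (by norm_num)) (pow_ne_zero _ (by norm_num))) hp.ne_zero,
        Nat.factorization_mul (pow_ne_zero _ (by norm_num)) (pow_ne_zero _ (by norm_num))]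
      simp only [Finsupp.coe_add, Pi.add_apply, Nat.factorization_pow, Finsupp.coe_smul, Pi.smul_apply,
        smul_eq_mul]
      rw [Nat.Prime.factorization_self hp, Nat.factorization_eq_zero_of_not_dvd
        (fun h => hp3 ((Nat.prime_dvd_prime_iff_eq hp Nat.prime_three).mp h)),
        Nat.factorization_eq_zero_of_not_dvd
        (fun h => hp2 ((Nat.prime_dvd_prime_iff_eq hp Nat.prime_two).mp h))]
      simp
    rw [h1, pow_one]
  have hSeq : Subgroup.zpowers x = (S : Subgroup G) := by
    apply Subgroup.eq_of_le_of_card_ge hS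
    rw [hScard, Nat.card_zpowers, hx]
  have h905 : Subgroup.centralizer ((Subgroup.zpowers x : Subgroup G) : Set G) = Subgroup.zpowers x := by
    rw [hSeq]; exact h904
  rw [← h905]
  -- centralizer of `x` = centralizer of `⟨x⟩`
  ext u
  rw [Subgroup.mem_centralizer_iff, Subgroup.mem_centralizer_iff]
  constructor
  · intro h v hv
    obtain ⟨i, rfl⟩ := Subgroup.mem_zpowers_iff.mp hv
    have hc : Commute x u := h x (Set.mem_singleton x)
    exact (hc.zpow_left i).eq
  · intro h v hv
    rw [Set.mem_singleton_iff] at hv
    rw [hv]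
    exact h x (Subgroup.mem_zpowers x)

end Cfsg.Agent.S1001
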