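import Cfsg.Statements.S1019
import Mathlib

set_option autoImplicit false
open Cfsg

namespace Cfsg.Agent.S1019

/-- Let H be a subgroup of a finite group G and x an element of H. In the action of G on the left cosets of H, the number of cosets fixed by x, multiplied by the size of the conjugacy class of x, equals the index of H multiplied by the number of conjugates of x that lie in H. -/
theorem result {G : Type*} [Group G] [Finite G] (H : Subgroup G) (x : G) (hx : x ∈ H) : Nat.card (MulAction.fixedBy (G ⧸ H) x) * Nat.card {g : G // IsConj x g} = H.index * Nat.card {g : G // IsConj x g ∧ g ∈ H} := by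
  classical
  -- a conjugating element for each conjugate of x
  let k : G → G := fun y => if h : IsConj x y then Classical.choose (isConj_iff.mp h) else 1
  have hk : ∀ y, IsConj x y → k y * x * (k y)⁻¹ = y := by
    intro y h
    simp only [k, dif_pos h]
    exact Classical.choose_spec (isConj_iff.mp h)
  have hfix1 : ∀ (y : G) (c : G ⧸ H), IsConj x y → y • c = c → x • ((k y)⁻¹ • c) = (k y)⁻¹ • c := by
    intro y c hy hc
    have h1 := hk y hy
    have hx' : x = (k y)⁻¹ * y * k y := by
      have : (k y)⁻¹ * (k y * x * (k y)⁻¹) * k y = x := by group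
      rw [← this, h1]
    calc x • ((k y)⁻¹ • c) = ((k y)⁻¹ * y * k y) • ((k y)⁻¹ • c) := by rw [← hx']
      _ = (k y)⁻¹ • (y • c) := by simp [mul_smul]
      _ = (k y)⁻¹ • c := by rw [hc]
  have hfix2 : ∀ (y : G) (c : G ⧸ H), IsConj x y → x • c = c → y • (k y • c) = k y • c := by
    intro y c hy hc
    have h1 := hk y hy
    calc y • (k y • c) = (k y * x * (k y)⁻¹) • (k y • c) := by rw [h1]
      _ = k y • (x • c) := by simp [mul_smul]
      _ = k y • c := by rw [hc]
  let S := {p : (G ⧸ H) × G // IsConj x p.2 ∧ p.2 • p.1 = p.1}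
  have e1 : S ≃ {g : G // IsConj x g} × MulAction.fixedBy (G ⧸ H) x :=
    { toFun := fun p => (⟨p.1.2, p.2.1⟩, ⟨(k p.1.2)⁻¹ • p.1.1, hfix1 p.1.2 p.1.1 p.2.1 p.2.2⟩)
      invFun := fun q => ⟨(k q.1.1 • q.2.1, q.1.1), q.1.2, hfix2 q.1.1 q.2.1 q.1.2 q.2.2⟩
      left_inv := by
        rintro ⟨⟨c, y⟩, hy, hc⟩
        simp
      right_inv := by
        rintro ⟨⟨y, hy⟩, ⟨c, hc⟩⟩
        simp }
  have hmem1 : ∀ (y : G) (c : G ⧸ H), y • c = c → (Quotient.out c)⁻¹ * y * Quotient.out c ∈ H := by
    intro y c hc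
    have hout : (QuotientGroup.mk (Quotient.out c) : G ⧸ H) = c := QuotientGroup.out_eq' _
    rw [← hout] at hc
    have h3 : (QuotientGroup.mk (y * Quotient.out c) : G ⧸ H) = QuotientGroup.mk (Quotient.out c) := hc
    have := (QuotientGroup.eq.mp h3.symm)
    simpa [mul_assoc] using this
  have hmem2 : ∀ (z : G) (c : G ⧸ H), z ∈ H → (Quotient.out c * z * (Quotient.out c)⁻¹) • c = c := by
    intro z c hz
    have hout : (QuotientGroup.mk (Quotient.out c) : G ⧸ H) = c := QuotientGroup.out_eq' _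
    calc (Quotient.out c * z * (Quotient.out c)⁻¹) • c
        = (Quotient.out c * z * (Quotient.out c)⁻¹) • (QuotientGroup.mk (Quotient.out c) : G ⧸ H) := by rw [hout]
      _ = (QuotientGroup.mk ((Quotient.out c * z * (Quotient.out c)⁻¹) * Quotient.out c) : G ⧸ H) := rfl
      _ = (QuotientGroup.mk (Quotient.out c) : G ⧸ H) := by
          rw [QuotientGroup.eq]
          have : (Quotient.out c * z * (Quotient.out c)⁻¹ * Quotient.out c)⁻¹ * Quotient.out c = z⁻¹ := by group
          rw [this]
          exact H.inv_mem hz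
      _ = c := hout
  have e2 : S ≃ (G ⧸ H) × {g : G // IsConj x g ∧ g ∈ H} :=
    { toFun := fun p => (p.1.1, ⟨(Quotient.out p.1.1)⁻¹ * p.1.2 * (Quotient.out p.1.1),
        p.2.1.trans (isConj_iff.mpr ⟨(Quotient.out p.1.1)⁻¹, by simp⟩), hmem1 p.1.2 p.1.1 p.2.2⟩)
      invFun := fun q => ⟨(q.1, (Quotient.out q.1) * q.2.1 * (Quotient.out q.1)⁻¹),
        q.2.2.1.trans (isConj_iff.mpr ⟨Quotient.out q.1, rfl⟩), hmem2 q.2.1 q.1 q.2.2.2⟩
      left_inv := by
        rintro ⟨⟨c, y⟩, hy, hc⟩
        simp [mul_assoc]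
      right_inv := by
        rintro ⟨c, ⟨z, hz, hzH⟩⟩
        simp [mul_assoc] }
  have key := Nat.card_congr (e1.symm.trans e2)
  rw [Nat.card_prod, Nat.card_prod] at key
  rw [mul_comm, key]
  rfl

end Cfsg.Agent.S1019
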