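import Cfsg.Statements.S1002
import Mathlib
import Cfsg.Agent.Lib.Helper7.SimpleTools
import Cfsg.Agent.Lib.Helper19.Derangement
import Cfsg.Agent.S1018
import Cfsg.Agent.S1019
-- import your own Cfsg.Agent.* helpers here

set_option autoImplicit false
open Cfsg

namespace Cfsg.Agent.S1002

open Cfsg.Agent.Lib.Helper7

theorem arith409 : ∀ k < 7, 0 < k → 2457 % k = 0 → (2457 / k) % 409 = 1 → 2457 / k = 819 := by
  decide

set_option maxRecDepth 100000 in
theorem arith13 : ∀ k < 190, 0 < k → 77301 % k = 0 → (77301 / k) % 13 = 1 →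
    77301 / k = 25767 := by
  decide

set_option maxRecDepth 100000 in
theorem arith7 : ∀ k < 352, 0 < k → 143559 % k = 0 → (143559 / k) % 7 = 1 →
    143559 / k = 47853 := by
  decide

/-- from `n * k = M`, `409 ≤ n`, get `k ≤ M / 409`, `0 < k`, `M % k = 0`, `M / k = n` -/
theorem arith_aux {n k M : ℕ} (hM : 0 < M) (h : n * k = M) (hn : 409 ≤ n) :
    k * 409 ≤ M ∧ 0 < k ∧ M % k = 0 ∧ M / k = n := by
  have hk : 0 < k := by
    rcases Nat.eq_zero_or_pos k with h0 | h0
    · subst h0; omega
    · exact h0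
  refine ⟨?_, hk, ?_, ?_⟩
  · calc k * 409 ≤ k * n := Nat.mul_le_mul_left k hn
      _ = M := by rw [mul_comm]; exact h
  · rw [← h]; exact Nat.mul_mod_left n k
  · rw [← h]; exact Nat.mul_div_cancel n hk

variable {G : Type*} [Group G] [Finite G]

/-- proper subgroups have index at least 409 -/
theorem index_ge [IsSimpleGroup G] (hG : Nat.card G = 1004913) (H : Subgroup G) (hH : H ≠ ⊤) :
    409 ≤ H.index := by
  have h1 := card_dvd_factorial_index H hH
  have h409 : 409 ∣ H.index.factorial := dvd_trans (by rw [hG]; norm_num) h1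
  exact (Nat.Prime.dvd_factorial (by norm_num)).mp h409

/-- data about a Sylow `s`-subgroup when `s` exactly divides `|G|` -/
theorem sylow_data [IsSimpleGroup G] (hG : Nat.card G = 1004913) (s m : ℕ) [Fact s.Prime]
    (hsm : 1004913 = s * m) (hndvd : ¬ s ∣ m) (S : Sylow s G) :
    Nat.card (S : Subgroup G) = s ∧
    ∃ k, Nat.card (Sylow s G) * k = m ∧
      Nat.card (Subgroup.normalizer ((S : Subgroup G) : Set G)) = s * k ∧
      409 ≤ Nat.card (Sylow s G) ∧ Nat.card (Sylow s G) % s = 1 := by
  have hs : s.Prime := Fact.out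
  obtain ⟨hSc, -⟩ := sylow_card_index_of_exact (hG.trans hsm) hndvd S
  refine ⟨hSc, ?_⟩
  have hmul := card_sylow_mul_card_normalizer S
  have hSN : Nat.card (S : Subgroup G) ∣ Nat.card (Subgroup.normalizer ((S : Subgroup G) : Set G)) :=
    Subgroup.card_dvd_of_le Subgroup.le_normalizer
  rw [hSc] at hSN
  obtain ⟨k, hk⟩ := hSN
  refine ⟨k, ?_, hk, ?_, ?_⟩
  · rw [hk, hG, hsm] at hmul
    have : s * (Nat.card (Sylow s G) * k) = s * m := by rw [← hmul]; ring
    exact Nat.eq_of_mul_eq_mul_left hs.pos this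
  · have hne1 : Nat.card (Sylow s G) ≠ 1 := by
      apply card_sylow_ne_one S
      · rw [hSc]; exact hs.one_lt
      · rw [hSc, hG, hsm]
        have hm2 : 2 ≤ m := by
          by_contra hcon
          have : m = 0 ∨ m = 1 := by omega
          rcases this with rfl | rfl
          · omega
          · rw [mul_one] at hsm
            rw [← hsm] at hs
            norm_num at hs
        nlinarith [hs.two_le]
    rw [Sylow.card_eq_index_normalizer S] at hne1 ⊢
    apply index_ge hG
    intro htop
    rw [htop, Subgroup.index_top] at hne1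
    exact hne1 rfl
  · have := card_sylow_modEq_one s G
    rw [Nat.ModEq, Nat.mod_eq_of_lt hs.one_lt] at this
    exact this


/-- lower bound for the number of elements of order `s` -/
theorem card_orderOf_ge (s : ℕ) [Fact s.Prime] (hS : ∀ S : Sylow s G, Nat.card (S : Subgroup G) = s) :
    Nat.card (Sylow s G) * (s - 1) ≤ Nat.card {g : G // orderOf g = s} := by
  classical
  have hs : s.Prime := Fact.out
  have : Fintype (Sylow s G) := Fintype.ofFinite _
  have hcard : Nat.card (Σ S : Sylow s G, {g : ↥(S : Subgroup G) // g ≠ 1})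
      = Nat.card (Sylow s G) * (s - 1) := by
    rw [Nat.card_sigma]
    have : ∀ S : Sylow s G, Nat.card {g : ↥(S : Subgroup G) // g ≠ 1} = s - 1 := by
      intro S
      have h1 : Nat.card {g : ↥(S : Subgroup G) // g ≠ 1} = Nat.card ↥(S : Subgroup G) - 1 := by
        have : Fintype ↥(S : Subgroup G) := Fintype.ofFinite _
        rw [Nat.card_eq_fintype_card, Nat.card_eq_fintype_card, Fintype.card_subtype_compl,
          Fintype.card_subtype_eq]
      rw [h1, hS S]
    simp only [this, Finset.sum_const, Finset.card_univ, smul_eq_mul, Nat.card_eq_fintype_card]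
  rw [← hcard]
  refine Nat.card_le_card_of_injective
    (fun a => ⟨(a.2.1 : G), Cfsg.Agent.S1018.orderOf_eq_of_mem s a.1 (hS a.1) _ a.2.1.2
      (fun h => a.2.2 (Subtype.ext h))⟩) ?_
  rintro ⟨S, ⟨g, hg⟩, hg1⟩ ⟨S', ⟨g', hg'⟩, hg1'⟩ h
  simp only [Subtype.mk.injEq] at h
  subst h
  have ho : orderOf g = s := Cfsg.Agent.S1018.orderOf_eq_of_mem s S (hS S) g hg
      (fun h => hg1 (Subtype.ext h))
  have e1 := Cfsg.Agent.S1018.zpowers_eq s S (hS S) g ho hg
  have e2 := Cfsg.Agent.S1018.zpowers_eq s S' (hS S') g ho hg'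
  have hSS : S = S' := Sylow.ext (e1.symm.trans e2)
  subst hSS
  rfl


/-- four distinct orders: the four fibres of `orderOf` fit into `G` -/
theorem four_fibres (a b c d : ℕ) (hab : a ≠ b) (hac : a ≠ c) (had : a ≠ d) (hbc : b ≠ c)
    (hbd : b ≠ d) (hcd : c ≠ d) :
    Nat.card {g : G // orderOf g = a} + Nat.card {g : G // orderOf g = b}
      + Nat.card {g : G // orderOf g = c} + Nat.card {g : G // orderOf g = d} ≤ Nat.card G := by
  classical
  have : Fintype G := Fintype.ofFinite _
  have hf : ∀ k : ℕ, Nat.card {g : G // orderOf g = k}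
      = (Finset.univ.filter (fun g : G => orderOf g = k)).card := by
    intro k
    rw [Nat.card_eq_fintype_card, Fintype.card_subtype]
  rw [hf, hf, hf, hf, Nat.card_eq_fintype_card, ← Finset.card_univ]
  have hdis : ∀ k l : ℕ, k ≠ l → Disjoint (Finset.univ.filter (fun g : G => orderOf g = k))
      (Finset.univ.filter (fun g : G => orderOf g = l)) := by
    intro k l hkl
    rw [Finset.disjoint_left]
    intro g hg hg'
    simp only [Finset.mem_filter, Finset.mem_univ, true_and] at hg hg'
    exact hkl (hg.symm.trans hg')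
  rw [← Finset.card_union_of_disjoint (hdis a b hab)]
  rw [← Finset.card_union_of_disjoint
    (Finset.disjoint_union_left.mpr ⟨hdis a c hac, hdis b c hbc⟩)]
  rw [← Finset.card_union_of_disjoint
    (Finset.disjoint_union_left.mpr ⟨Finset.disjoint_union_left.mpr ⟨hdis a d had, hdis b d hbd⟩,
      hdis c d hcd⟩)]
  exact Finset.card_le_card (Finset.subset_univ _)


/-- an element of the Sylow subgroup `S` of prime order commuting with `x ∉ C(S)` is trivial -/
theorem eq_one_of_commute (s : ℕ) [Fact s.Prime] (S : Sylow s G)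
    (hS : Nat.card (S : Subgroup G) = s) (x : G)
    (hxC : x ∉ Subgroup.centralizer ((S : Subgroup G) : Set G)) (y : G) (hy : y ∈ (S : Subgroup G))
    (hc : y * x = x * y) : y = 1 := by
  by_contra hy1
  apply hxC
  have ho := Cfsg.Agent.S1018.orderOf_eq_of_mem s S hS y hy hy1
  have hz := Cfsg.Agent.S1018.zpowers_eq s S hS y ho hy
  rw [Subgroup.mem_centralizer_iff]
  intro w hw
  have hw' : w ∈ Subgroup.zpowers y := by rw [hz]; exact hw
  obtain ⟨k, rfl⟩ := Subgroup.mem_zpowers_iff.mp hw'
  have : Commute y x := hc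
  exact (this.zpow_left k).eq

/-- the number of orbits of `S` on the cosets of its normalizer -/
theorem orbits_mul (s : ℕ) [Fact s.Prime] (S : Sylow s G) (hS : Nat.card (S : Subgroup G) = s) :
    Nat.card (MulAction.orbitRel.Quotient ↥(S : Subgroup G)
      (G ⧸ Subgroup.normalizer ((S : Subgroup G) : Set G))) * s
      = (Subgroup.normalizer ((S : Subgroup G) : Set G)).index + (s - 1) := by
  classical
  have : Fintype ↥(S : Subgroup G) := Fintype.ofFinite _
  have hb := Cfsg.Agent.Lib.Helper19.burnside_natCard (G := ↥(S : Subgroup G))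
    (Ω := G ⧸ Subgroup.normalizer ((S : Subgroup G) : Set G))
  rw [hS] at hb
  rw [← hb, ← Finset.add_sum_erase Finset.univ _ (Finset.mem_univ (1 : ↥(S : Subgroup G)))]
  congr 1
  · have : MulAction.fixedBy (G ⧸ Subgroup.normalizer ((S : Subgroup G) : Set G))
        (1 : ↥(S : Subgroup G)) = Set.univ := by
      ext a; simp
    rw [this, Nat.card_congr (Equiv.Set.univ _)]
    rfl
  · have h1 : ∀ q ∈ Finset.univ.erase (1 : ↥(S : Subgroup G)),
        Nat.card (MulAction.fixedBy (G ⧸ Subgroup.normalizer ((S : Subgroup G) : Set G)) q) = 1 := by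
      intro q hq
      have hq1 : q ≠ 1 := Finset.ne_of_mem_erase hq
      have ho := Cfsg.Agent.S1018.orderOf_eq_of_mem s S hS (q : G) q.2
        (fun h => hq1 (Subtype.ext h))
      exact Cfsg.Agent.S1018.part1 s S hS (q : G) ho
    rw [Finset.sum_congr rfl h1, Finset.sum_const, smul_eq_mul, mul_one,
      Finset.card_erase_of_mem (Finset.mem_univ _), Finset.card_univ, ← Nat.card_eq_fintype_card, hS]

/-- the class of `x ∈ N(S) \ C(S)` meets `N(S)` in at least `s` elements -/
theorem class_inter_ge (s : ℕ) [Fact s.Prime] (S : Sylow s G)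
    (hS : Nat.card (S : Subgroup G) = s) (x : G)
    (hxN : x ∈ Subgroup.normalizer ((S : Subgroup G) : Set G))
    (hxC : x ∉ Subgroup.centralizer ((S : Subgroup G) : Set G)) :
    s ≤ Nat.card {g : G // IsConj x g ∧ g ∈ Subgroup.normalizer ((S : Subgroup G) : Set G)} := by
  have hle : (S : Subgroup G) ≤ Subgroup.normalizer ((S : Subgroup G) : Set G) :=
    Subgroup.le_normalizer
  refine le_trans hS.symm.le ?_
  refine Nat.card_le_card_of_injective
    (fun q => ⟨(q : G) * x * (q : G)⁻¹, isConj_iff.mpr ⟨q, rfl⟩,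
      Subgroup.mul_mem _ (Subgroup.mul_mem _ (hle q.2) hxN) (Subgroup.inv_mem _ (hle q.2))⟩) ?_
  intro q q' h
  simp only [Subtype.mk.injEq] at h
  have hc : ((q' : G)⁻¹ * q) * x = x * ((q' : G)⁻¹ * q) := by
    have : (q' : G)⁻¹ * ((q : G) * x * (q : G)⁻¹) * q = (q' : G)⁻¹ * ((q' : G) * x * (q' : G)⁻¹) * q := by
      rw [h]
    simp only [mul_assoc, inv_mul_cancel, mul_one, inv_mul_cancel_left] at this
    simp only [mul_assoc]
    exact this
  have h1 := eq_one_of_commute s S hS x hxC ((q' : G)⁻¹ * q)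
    (Subgroup.mul_mem _ (Subgroup.inv_mem _ q'.2) q.2) hc
  apply Subtype.ext
  exact (inv_mul_eq_one.mp h1).symm



/-- No finite simple group has order 1004913 = 3^3 * 7 * 13 * 409. -/
theorem result {G : Type*} [Group G] [Finite G] [IsSimpleGroup G] : Nat.card G ≠ 1004913 := by
  intro hG
  have hnc : ¬ IsMulCommutative G := by
    apply not_comm_of_card_not_prime
    rw [hG]; norm_num
  have : Fact (Nat.Prime 409) := ⟨by norm_num⟩
  have : Fact (Nat.Prime 13) := ⟨by norm_num⟩
  have : Fact (Nat.Prime 7) := ⟨by norm_num⟩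
  -- Sylow data
  have hS409 : ∀ S : Sylow 409 G, Nat.card (S : Subgroup G) = 409 := fun S =>
    (sylow_data hG 409 2457 (by norm_num) (by norm_num) S).1
  have hS13 : ∀ S : Sylow 13 G, Nat.card (S : Subgroup G) = 13 := fun S =>
    (sylow_data hG 13 77301 (by norm_num) (by norm_num) S).1
  have hS7 : ∀ S : Sylow 7 G, Nat.card (S : Subgroup G) = 7 := fun S =>
    (sylow_data hG 7 143559 (by norm_num) (by norm_num) S).1
  obtain ⟨Q⟩ : Nonempty (Sylow 409 G) := inferInstance
  obtain ⟨S13⟩ : Nonempty (Sylow 13 G) := inferInstance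
  obtain ⟨S7⟩ : Nonempty (Sylow 7 G) := inferInstance
  obtain ⟨-, k, hk, hNQ, hge, hmod⟩ := sylow_data hG 409 2457 (by norm_num) (by norm_num) Q
  obtain ⟨-, k13, hk13, -, hge13, hmod13⟩ :=
    sylow_data hG 13 77301 (by norm_num) (by norm_num) S13
  obtain ⟨-, k7, hk7, -, hge7, hmod7⟩ := sylow_data hG 7 143559 (by norm_num) (by norm_num) S7
  have hn409 : Nat.card (Sylow 409 G) = 819 := by
    obtain ⟨h1, h2, h3, h4⟩ := arith_aux (by norm_num) hk hge
    have := arith409 k (by omega) h2 h3 (by rw [h4]; exact hmod)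
    rw [h4] at this; exact this
  have hn13 : Nat.card (Sylow 13 G) = 25767 := by
    obtain ⟨h1, h2, h3, h4⟩ := arith_aux (by norm_num) hk13 hge13
    have := arith13 k13 (by omega) h2 h3 (by rw [h4]; exact hmod13)
    rw [h4] at this; exact this
  have hn7 : Nat.card (Sylow 7 G) = 47853 := by
    obtain ⟨h1, h2, h3, h4⟩ := arith_aux (by norm_num) hk7 hge7
    have := arith7 k7 (by omega) h2 h3 (by rw [h4]; exact hmod7)
    rw [h4] at this; exact this
  have hk3 : k = 3 := by rw [hn409] at hk; omega
  rw [hk3] at hNQ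
  -- the element x
  have hQ := hS409 Q
  have hcommQ := comm_of_card_prime (Q : Subgroup G) hQ
  have hnNC := not_normalizer_le_centralizer hnc Q (by rw [hQ]; norm_num) hcommQ
  obtain ⟨x, hxN, hxC⟩ := SetLike.not_le_iff_exists.mp hnNC
  -- fixed points of x
  have hidx : (Subgroup.normalizer ((Q : Subgroup G) : Set G)).index = 819 := by
    have h1 : Nat.card (Sylow 409 G) = (Subgroup.normalizer ((Q : Subgroup G) : Set G)).index :=
      Sylow.card_eq_index_normalizer Q
    rw [← h1, hn409]
  have horb := orbits_mul 409 Q hQ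
  rw [hidx] at horb
  have horb3 : Nat.card (MulAction.orbitRel.Quotient ↥(Q : Subgroup G)
      (G ⧸ Subgroup.normalizer ((Q : Subgroup G) : Set G))) = 3 := by omega
  have hfix := Cfsg.Agent.S1018.part2 409 Q hQ x hxN hxC
  rw [horb3] at hfix
  have h19 := Cfsg.Agent.S1019.result (Subgroup.normalizer ((Q : Subgroup G) : Set G)) x hxN
  rw [hidx] at h19
  have hci := class_inter_ge 409 Q hQ x hxN hxC
  have hcl : 111657 ≤ Nat.card {g : G // IsConj x g} := by
    have h1 : 819 * 409 ≤ 3 * Nat.card {g : G // IsConj x g} := by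
      calc 819 * 409 ≤ 819 * Nat.card {g : G // IsConj x g ∧
              g ∈ Subgroup.normalizer ((Q : Subgroup G) : Set G)} := Nat.mul_le_mul_left _ hci
        _ = Nat.card (MulAction.fixedBy (G ⧸ Subgroup.normalizer ((Q : Subgroup G) : Set G)) x)
              * Nat.card {g : G // IsConj x g} := h19.symm
        _ ≤ 3 * Nat.card {g : G // IsConj x g} := Nat.mul_le_mul_right _ hfix
    omega
  -- the order of x
  obtain ⟨k0, hk0⟩ : ∃ k0, k0 = orderOf x := ⟨_, rfl⟩
  have hclk : Nat.card {g : G // IsConj x g} ≤ Nat.card {g : G // orderOf g = k0} := by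
    refine Nat.card_le_card_of_injective (fun g => ⟨g.1, ?_⟩) ?_
    · obtain ⟨c, hc⟩ := isConj_iff.mp g.2
      rw [hk0, ← hc]
      have := orderOf_injective (MulAut.conj c).toMonoidHom (MulAut.conj c).injective x
      simpa [MulAut.conj_apply] using this
    · intro g g' h
      simp only [Subtype.mk.injEq] at h
      exact Subtype.ext h
  have hk0dvd : k0 ∣ 1227 := by
    have : orderOf (⟨x, hxN⟩ : Subgroup.normalizer ((Q : Subgroup G) : Set G)) ∣
        Nat.card (Subgroup.normalizer ((Q : Subgroup G) : Set G)) := orderOf_dvd_natCard _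
    rw [hNQ] at this
    rw [hk0]
    have h2 : orderOf (⟨x, hxN⟩ : Subgroup.normalizer ((Q : Subgroup G) : Set G)) = orderOf x :=
      Subgroup.orderOf_mk x hxN
    rw [← h2]
    exact this
  have hk409 : k0 ≠ 409 := by
    intro h
    apply hxC
    have hxQ := Cfsg.Agent.S1018.mem_of_mem_normalizer 409 Q x (hk0.symm.trans h) hxN
    rw [Subgroup.mem_centralizer_iff]
    intro y hy
    exact hcommQ y hy x hxQ
  have hk13' : k0 ≠ 13 := by
    rintro rfl
    revert hk0dvd; decide
  have hk7' : k0 ≠ 7 := by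
    rintro rfl
    revert hk0dvd; decide
  have hfour := four_fibres (G := G) 409 13 7 k0 (by norm_num) (by norm_num) hk409.symm (by norm_num)
    hk13'.symm hk7'.symm
  have c409 := card_orderOf_ge 409 hS409
  have c13 := card_orderOf_ge 13 hS13
  have c7 := card_orderOf_ge 7 hS7
  rw [hn409] at c409
  rw [hn13] at c13
  rw [hn7] at c7
  rw [hG] at hfour
  omega

end Cfsg.Agent.S1002
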