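import Cfsg.Statements.S1009
import Mathlib

set_option autoImplicit false
open Cfsg

namespace Cfsg.Agent.S1009

/-- Brodkey's Theorem: if a finite group has abelian Sylow p-subgroups, then there are two Sylow p-subgroups whose intersection equals the intersection of all Sylow p-subgroups. -/
theorem result {G : Type*} [Group G] [Finite G] (p : ℕ) [Fact p.Prime] (hab : ∀ P : Sylow p G, IsMulCommutative ↥(P : Subgroup G)) : ∃ P Q : Sylow p G, (P : Subgroup G) ⊓ (Q : Subgroup G) = ⨅ R : Sylow p G, (R : Subgroup G) := by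
  classical
  obtain ⟨⟨P, Q⟩, hmin⟩ := Finite.exists_min
    (fun PQ : Sylow p G × Sylow p G => Nat.card ↥((PQ.1 : Subgroup G) ⊓ (PQ.2 : Subgroup G)))
  refine ⟨P, Q, le_antisymm ?_ (le_inf (iInf_le _ P) (iInf_le _ Q))⟩
  have hcomm : ∀ (R : Sylow p G) (x y : G), x ∈ (R : Subgroup G) → y ∈ (R : Subgroup G) → x * y = y * x := by
    intro R x y hx hy
    have := (hab R).is_comm.comm ⟨x, hx⟩ ⟨y, hy⟩
    exact congrArg Subtype.val this
  have hnorm : ∀ R : Sylow p G, (P : Subgroup G) ⊓ (Q : Subgroup G) ≤ (R : Subgroup G) →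
      (R : Subgroup G) ≤ Subgroup.normalizer (((P : Subgroup G) ⊓ (Q : Subgroup G) : Subgroup G) : Set G) := by
    intro R hDR x hx
    rw [Subgroup.mem_normalizer_iff]
    intro d
    constructor
    · intro hd
      have : x * d * x⁻¹ = d := by rw [hcomm R x d hx (hDR hd)]; group
      rw [this]; exact hd
    · intro hd
      have hdR : d ∈ (R : Subgroup G) := by
        have : d = x⁻¹ * (x * d * x⁻¹) * x := by group
        rw [this]
        exact Subgroup.mul_mem _ (Subgroup.mul_mem _ (Subgroup.inv_mem _ hx) (hDR hd)) hx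
      have : x * d * x⁻¹ = d := by rw [hcomm R x d hx hdR]; group
      rw [this] at hd; exact hd
  set D := (P : Subgroup G) ⊓ (Q : Subgroup G) with hD
  set N := Subgroup.normalizer (D : Set G) with hN
  have hPN : (P : Subgroup G) ≤ N := hnorm P inf_le_left
  have hQN : (Q : Subgroup G) ≤ N := hnorm Q inf_le_right
  apply le_iInf
  intro S
  -- Sylow theory inside N
  let P' : Sylow p N := P.subtype hPN
  have hpg : IsPGroup p ↥(((S : Subgroup G) ⊓ N).subgroupOf N) :=
    (S.2.to_inf_left).comap_subtype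
  obtain ⟨T, hT⟩ := hpg.exists_le_sylow
  obtain ⟨n, hn⟩ := MulAction.exists_smul_eq ↥N P' T
  -- key: for x ∈ S ⊓ N, n⁻¹ x n ∈ P
  have hkey : ∀ x : G, x ∈ (S : Subgroup G) → x ∈ N → (n : G)⁻¹ * x * (n : G) ∈ (P : Subgroup G) := by
    intro x hxS hxN
    have h1 : (⟨x, hxN⟩ : N) ∈ ((S : Subgroup G) ⊓ N).subgroupOf N := by
      rw [Subgroup.mem_subgroupOf]; exact ⟨hxS, hxN⟩
    have h2 : (⟨x, hxN⟩ : N) ∈ (T : Subgroup N) := hT h1
    rw [← hn, Sylow.coe_subgroup_smul, Subgroup.mem_pointwise_smul_iff_inv_smul_mem] at h2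
    have h3 : (n⁻¹ * ⟨x, hxN⟩ * n : N) ∈ (P' : Subgroup N) := by
      simpa [MulAut.smul_def] using h2
    rw [Sylow.coe_subtype, Subgroup.mem_subgroupOf] at h3
    simpa using h3
  -- the Sylow subgroup S' = n⁻¹ • S
  let S' : Sylow p G := (n : G)⁻¹ • S
  have hS'mem : ∀ y : G, y ∈ (S' : Subgroup G) ↔ (n : G) * y * (n : G)⁻¹ ∈ (S : Subgroup G) := by
    intro y
    show y ∈ ((((n : G)⁻¹ • S : Sylow p G)) : Subgroup G) ↔ _
    rw [Sylow.coe_subgroup_smul, Subgroup.mem_pointwise_smul_iff_inv_smul_mem]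
    simp [MulAut.smul_def]
  have hle : (S' : Subgroup G) ⊓ (Q : Subgroup G) ≤ D := by
    intro y hy
    have hyQ : y ∈ (Q : Subgroup G) := hy.2
    have hyN : y ∈ N := hQN hyQ
    have h1 : (n : G) * y * (n : G)⁻¹ ∈ (S : Subgroup G) := (hS'mem y).mp hy.1
    have h2 : (n : G) * y * (n : G)⁻¹ ∈ N := N.mul_mem (N.mul_mem n.2 hyN) (N.inv_mem n.2)
    have h3 := hkey _ h1 h2
    have h4 : (n : G)⁻¹ * ((n : G) * y * (n : G)⁻¹) * (n : G) = y := by group
    rw [h4] at h3
    exact ⟨h3, hyQ⟩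
  have heq : (S' : Subgroup G) ⊓ (Q : Subgroup G) = D :=
    Subgroup.eq_of_le_of_card_ge hle (hmin (S', Q))
  intro d hd
  -- d = n d' n⁻¹ with d' ∈ D
  have hn' : (n : G) ∈ Subgroup.normalizer (D : Set G) := n.2
  rw [Subgroup.mem_normalizer_iff''] at hn'
  have hd' : (n : G)⁻¹ * d * (n : G) ∈ D := (hn' d).mp hd
  rw [← heq] at hd'
  have := (hS'mem _).mp hd'.1
  have h4 : (n : G) * ((n : G)⁻¹ * d * (n : G)) * (n : G)⁻¹ = d := by group
  rw [h4] at this
  exact this

end Cfsg.Agent.S1009
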