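import Cfsg.Statements.S1011
-- import your own Cfsg.Agent.* helpers here
import Cfsg.Agent.S1230
import Cfsg.Agent.Lib.Helper22.PSLCongr
import Cfsg.Agent.Lib.Helper22.S504d

set_option autoImplicit false
open Cfsg

namespace Cfsg.Agent.S1011

/-- A simple group of order 504 is isomorphic to the projective special linear group of dimension 2 over the field with 8 elements. -/
theorem result {G : Type*} [Group G] [Finite G] [IsSimpleGroup G] (h : Nat.card G = 504) {F : Type*} [Field F] [Fintype F] (hF : Fintype.card F = 8) : Nonempty (G ≃* Matrix.ProjectiveSpecialLinearGroup (Fin 2) F) := by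
  classical
  haveI : Fact (Nat.Prime 2) := ⟨Nat.prime_two⟩
  obtain ⟨T⟩ : Nonempty (Sylow 2 G) := Sylow.nonempty
  have hTc : Nat.card (T : Subgroup G) = 8 := by
    have := (Cfsg.Agent.Lib.Helper22.S504.card_P2 h T).1
    rw [this]; norm_num
  have hsq : ∀ t : G, orderOf t = 2 → ∀ c ∈ Subgroup.centralizer ({t} : Set G), c ^ 2 = 1 :=
    fun t ht c hc => Cfsg.Agent.Lib.Helper22.S504.sq_eq_one_of_mem_centralizer h t ht c hc
  have hC : ∀ t : G, orderOf t = 2 → IsMulCommutative (Subgroup.centralizer ({t} : Set G)) ∧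
      ∀ c ∈ Subgroup.centralizer ({t} : Set G), c ^ 2 = 1 := by
    intro t ht
    refine ⟨⟨⟨fun a b => ?_⟩⟩, hsq t ht⟩
    have ha : a ^ 2 = 1 := Subtype.ext (hsq t ht a a.2)
    have hb : b ^ 2 = 1 := Subtype.ext (hsq t ht b b.2)
    have hab : (a * b) ^ 2 = 1 := Subtype.ext (hsq t ht (a * b) (a * b).2)
    have ha' : a⁻¹ = a := by rw [inv_eq_iff_mul_eq_one, ← pow_two, ha]
    have hb' : b⁻¹ = b := by rw [inv_eq_iff_mul_eq_one, ← pow_two, hb]
    have hab' : (a * b)⁻¹ = a * b := by rw [inv_eq_iff_mul_eq_one, ← pow_two, hab]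
    calc a * b = (a * b)⁻¹ := hab'.symm
      _ = b⁻¹ * a⁻¹ := mul_inv_rev a b
      _ = b * a := by rw [ha', hb']
  have hnc : ¬ IsCyclic (T : Subgroup G) := by
    intro hcyc
    obtain ⟨g, hg⟩ := IsCyclic.exists_ofOrder_eq_natCard (α := (T : Subgroup G))
    rw [hTc] at hg
    have hg' : orderOf (g : G) = 8 := by rw [Subgroup.orderOf_coe]; exact hg
    have h4 : orderOf ((g : G) ^ 4) = 2 := by
      rw [orderOf_pow' _ (by norm_num), hg']
      norm_num
    have hmem : (g : G) ∈ Subgroup.centralizer ({(g : G) ^ 4} : Set G) := by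
      rw [Subgroup.mem_centralizer_singleton_iff]
      rw [← pow_succ, ← pow_succ']
    have := hsq _ h4 _ hmem
    have hdvd := orderOf_dvd_of_pow_eq_one this
    rw [hg'] at hdvd
    norm_num at hdvd
  have hnn : ¬ (T : Subgroup G).Normal := by
    intro hn
    rcases hn.eq_bot_or_eq_top with h0 | h0
    · rw [h0, Subgroup.card_bot] at hTc; omega
    · rw [h0, Subgroup.card_top, h] at hTc; omega
  obtain ⟨F', _, _, hF', ⟨e⟩⟩ := Cfsg.Agent.S1230.result T hnc hnn hC
  obtain ⟨e'⟩ := Cfsg.Agent.Lib.Helper22.PSLCongr.nonempty_pslCongr_of_card_eq (n := Fin 2)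
    (K := F') (K' := F) (by rw [hF', hF]; exact hTc)
  exact ⟨e.trans e'⟩

end Cfsg.Agent.S1011
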