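import Cfsg.Statements.S1014
import Mathlib
import Cfsg.Agent.Lib.Helper7.SimpleTools
import Cfsg.Agent.Lib.Helper7.Involution
import Cfsg.Agent.S1018

set_option linter.unusedSectionVars false

set_option autoImplicit false
open Cfsg

namespace Cfsg.Agent.S1014
open Cfsg.Agent.Lib.Helper7

/-- Burnside count of the orbits of a Sylow subgroup of prime order on the cosets of its normalizer -/
theorem card_orbits_mul {G : Type*} [Group G] [Finite G] (p : ℕ) [Fact p.Prime] (P : Sylow p G)
    (hP : Nat.card ↥(P : Subgroup G) = p) :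
    Nat.card (MulAction.orbitRel.Quotient ↥(P : Subgroup G) (G ⧸ Subgroup.normalizer ((P : Subgroup G) : Set G))) * p
      = Nat.card (Sylow p G) + (p - 1) := by
  classical
  have hp : p.Prime := Fact.out
  have : Fintype ↥(P : Subgroup G) := Fintype.ofFinite _
  have e := MulAction.sigmaFixedByEquivOrbitsProdGroup ↥(P : Subgroup G) (G ⧸ Subgroup.normalizer ((P : Subgroup G) : Set G))
  have h1 := Nat.card_congr e
  rw [Nat.card_prod, Nat.card_sigma, hP] at h1
  change _ = Nat.card (MulAction.orbitRel.Quotient ↥(P : Subgroup G) (G ⧸ Subgroup.normalizer ((P : Subgroup G) : Set G))) * p at h1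
  rw [← h1]
  have hf : ∀ a : ↥(P : Subgroup G), Nat.card (MulAction.fixedBy (G ⧸ Subgroup.normalizer ((P : Subgroup G) : Set G)) a)
      = 1 + (if a = 1 then Nat.card (Sylow p G) - 1 else 0) := by
    intro a
    split_ifs with ha
    · subst ha
      have hpos : 0 < Nat.card (Sylow p G) := Nat.card_pos
      have : MulAction.fixedBy (G ⧸ Subgroup.normalizer ((P : Subgroup G) : Set G)) (1 : ↥(P : Subgroup G)) = Set.univ := by
        ext x; simp
      have hidx : Nat.card (Sylow p G) = (Subgroup.normalizer ((P : Subgroup G) : Set G)).index :=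
        Sylow.card_eq_index_normalizer P
      rw [this, Nat.card_congr (Equiv.Set.univ _), hidx, Subgroup.index_eq_card]
      rw [hidx, Subgroup.index_eq_card] at hpos
      omega
    · have ho : orderOf (a : G) = p := by
        have h1 := Subgroup.orderOf_dvd_natCard (P : Subgroup G) a.2
        rw [hP] at h1
        rcases (Nat.dvd_prime hp).mp h1 with h | h
        · exfalso; apply ha; exact Subtype.ext (orderOf_eq_one_iff.mp h)
        · exact h
      have := (Cfsg.Agent.S1018.result p P hP).1 (a : G) ho
      rw [add_zero]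
      exact this
  rw [Finset.sum_congr rfl (fun a _ => hf a), Finset.sum_add_distrib, Finset.sum_ite_eq' Finset.univ (1 : ↥(P : Subgroup G))]
  simp only [Finset.sum_const, Finset.card_univ, smul_eq_mul, mul_one, Finset.mem_univ, if_true]
  rw [← Nat.card_eq_fintype_card, hP]
  have hpos : 0 < Nat.card (Sylow p G) := Nat.card_pos
  have := hp.pos
  omega


theorem main {G : Type*} [Group G] [Finite G] [IsSimpleGroup G] : Nat.card G ≠ 1104 := by
  intro hG
  classical
  have hnc : ¬ IsMulCommutative G := not_comm_of_card_not_prime (by rw [hG]; norm_num)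
  have : Fact (Nat.Prime 23) := ⟨by norm_num⟩
  obtain ⟨P⟩ : Nonempty (Sylow 23 G) := Sylow.nonempty
  obtain ⟨hPc, hPi⟩ := sylow_card_index_of_exact (p := 23) (m := 48) (by rw [hG]) (by norm_num) P
  -- n_23 = 24
  have hn : Nat.card (Sylow 23 G) = 24 := by
    have h1 : Nat.card (Sylow 23 G) ≡ 1 [MOD 23] := card_sylow_modEq_one 23 G
    have h2 : Nat.card (Sylow 23 G) ∣ 48 := by rw [← hPi]; exact Sylow.card_dvd_index P
    have h3 : Nat.card (Sylow 23 G) ≠ 1 :=
      card_sylow_ne_one P (by rw [hPc]; norm_num) (by rw [hPc, hG]; norm_num)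
    have h4 : Nat.card (Sylow 23 G) ∈ Nat.divisors 48 := Nat.mem_divisors.mpr ⟨h2, by norm_num⟩
    have hd : Nat.divisors 48 = {1, 2, 3, 4, 6, 8, 12, 16, 24, 48} := by decide
    rw [hd] at h4
    simp only [Finset.mem_insert, Finset.mem_singleton] at h4
    rcases h4 with h | h | h | h | h | h | h | h | h | h
    all_goals first
      | exact h
      | exact absurd h h3
      | (rw [h] at h1; exact absurd h1 (by decide))
  -- |N| = 46
  have hN : Nat.card ↥(Subgroup.normalizer ((P : Subgroup G) : Set G)) = 46 := by
    have := card_sylow_mul_card_normalizer P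
    rw [hn, hG] at this
    omega
  -- N ≠ C, |C| = 23
  have hcomm := comm_of_card_prime (P : Subgroup G) hPc
  have hNC := not_normalizer_le_centralizer hnc P (by rw [hPc]; norm_num) hcomm
  have hPC : (P : Subgroup G) ≤ Subgroup.centralizer ((P : Subgroup G) : Set G) := by
    intro a ha
    rw [Subgroup.mem_centralizer_iff]
    intro b hb
    exact hcomm b hb a ha
  have hCN : Subgroup.centralizer ((P : Subgroup G) : Set G) ≤ Subgroup.normalizer ((P : Subgroup G) : Set G) :=
    Subgroup.centralizer_le_normalizer _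
  have hC : Nat.card ↥(Subgroup.centralizer ((P : Subgroup G) : Set G)) = 23 := by
    have h1 : 23 ∣ Nat.card ↥(Subgroup.centralizer ((P : Subgroup G) : Set G)) := by
      have := Subgroup.card_dvd_of_le hPC
      rwa [hPc] at this
    have h2 : Nat.card ↥(Subgroup.centralizer ((P : Subgroup G) : Set G)) ∣ 46 := by
      rw [← hN]; exact Subgroup.card_dvd_of_le hCN
    have h3 : Nat.card ↥(Subgroup.centralizer ((P : Subgroup G) : Set G)) ≠ 46 := by
      intro h
      apply hNC
      have := Subgroup.eq_of_le_of_card_ge hCN (by rw [hN, h])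
      rw [this]
    have h4 : Nat.card ↥(Subgroup.centralizer ((P : Subgroup G) : Set G)) ∈ Nat.divisors 46 :=
      Nat.mem_divisors.mpr ⟨h2, by norm_num⟩
    have hd : Nat.divisors 46 = {1, 2, 23, 46} := by decide
    rw [hd] at h4
    simp only [Finset.mem_insert, Finset.mem_singleton] at h4
    rcases h4 with h | h | h | h
    · rw [h] at h1; omega
    · rw [h] at h1; omega
    · exact h
    · exact absurd h h3
  -- an involution t in N
  have : Fact (Nat.Prime 2) := ⟨Nat.prime_two⟩
  obtain ⟨t, ht⟩ := exists_prime_orderOf_dvd_card' (G := ↥(Subgroup.normalizer ((P : Subgroup G) : Set G))) 2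
    (by rw [hN]; norm_num)
  have ht' : orderOf (t : G) = 2 := by rw [Subgroup.orderOf_coe]; exact ht
  have htC : (t : G) ∉ Subgroup.centralizer ((P : Subgroup G) : Set G) := by
    intro h
    have := Subgroup.orderOf_dvd_natCard _ h
    rw [ht', hC] at this
    omega
  -- fixed points of t on G/N
  have hfix := (Cfsg.Agent.S1018.result 23 P hPc).2 (t : G) t.2 htC
  have horb := card_orbits_mul 23 P hPc
  rw [hn] at horb
  have horb2 : Nat.card (MulAction.orbitRel.Quotient ↥(P : Subgroup G) (G ⧸ Subgroup.normalizer ((P : Subgroup G) : Set G))) = 2 := by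
    omega
  rw [horb2] at hfix
  have hfix1 : 1 ≤ Nat.card (MulAction.fixedBy (G ⧸ Subgroup.normalizer ((P : Subgroup G) : Set G)) (t : G)) := by
    have : Nonempty (MulAction.fixedBy (G ⧸ Subgroup.normalizer ((P : Subgroup G) : Set G)) (t : G)) := by
      refine ⟨⟨((1 : G) : G ⧸ Subgroup.normalizer ((P : Subgroup G) : Set G)), ?_⟩⟩
      rw [MulAction.mem_fixedBy, MulAction.Quotient.smul_coe, QuotientGroup.eq]
      simp
    exact Nat.card_pos
  have : Fintype (G ⧸ Subgroup.normalizer ((P : Subgroup G) : Set G)) := Fintype.ofFinite _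
  have h4 := four_dvd_card_support_of_sq_eq_one (G := G) (by rw [hG]; norm_num)
    (X := G ⧸ Subgroup.normalizer ((P : Subgroup G) : Set G)) (t : G) (by rw [← ht', pow_orderOf_eq_one])
  have hsum := card_support_add_card_fixedBy (G := G) (X := G ⧸ Subgroup.normalizer ((P : Subgroup G) : Set G)) (t : G)
  have hX : Fintype.card (G ⧸ Subgroup.normalizer ((P : Subgroup G) : Set G)) = 24 := by
    have hidx : Nat.card (Sylow 23 G) = (Subgroup.normalizer ((P : Subgroup G) : Set G)).index :=
      Sylow.card_eq_index_normalizer P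
    rw [← Nat.card_eq_fintype_card, ← Subgroup.index_eq_card, ← hidx, hn]
  rw [hX] at hsum
  omega



/-- No finite simple group has order 1104 = 2^4 * 3 * 23. -/
theorem result {G : Type*} [Group G] [Finite G] [IsSimpleGroup G] : Nat.card G ≠ 1104 := by
  exact main

end Cfsg.Agent.S1014
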