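import Cfsg.Statements.S1015
import Mathlib
import Cfsg.Agent.Lib.Helper7.SimpleTools

set_option autoImplicit false
open Cfsg

namespace Cfsg.Agent.S1015
open Cfsg.Agent.Lib.Helper7

theorem main {G : Type*} [Group G] [Finite G] [IsSimpleGroup G] : Nat.card G ≠ 1200 := by
  intro h
  have hf : Fact (Nat.Prime 5) := ⟨by norm_num⟩
  obtain ⟨P⟩ : Nonempty (Sylow 5 G) := Sylow.nonempty
  obtain ⟨hPcard, hPidx⟩ := sylow_card_index_of_pow (p := 5) (k := 2) (m := 48) (by rw [h]; norm_num) (by norm_num) P
  have hn_dvd : Nat.card (Sylow 5 G) ∣ 48 := by rw [← hPidx]; exact Sylow.card_dvd_index P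
  have hn_mod : Nat.card (Sylow 5 G) ≡ 1 [MOD 5] := card_sylow_modEq_one 5 G
  have hn_ne : Nat.card (Sylow 5 G) ≠ 1 :=
    card_sylow_ne_one P (by rw [hPcard]; norm_num) (by rw [hPcard, h]; norm_num)
  have hn : Nat.card (Sylow 5 G) = 6 ∨ Nat.card (Sylow 5 G) = 16 := by
    have hmem : Nat.card (Sylow 5 G) ∈ Nat.divisors 48 := Nat.mem_divisors.mpr ⟨hn_dvd, by norm_num⟩
    have key : ∀ d ∈ Nat.divisors 48, d % 5 = 1 → d = 1 ∨ d = 6 ∨ d = 16 := by decide
    rcases key _ hmem hn_mod with h1 | h1 | h1
    · exact absurd h1 hn_ne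
    · exact Or.inl h1
    · exact Or.inr h1
  rcases hn with hn | hn
  · -- index 6 subgroup
    have hidx : (Subgroup.normalizer ((P : Subgroup G) : Set G)).index = 6 := by
      rw [← hn]; exact (Sylow.card_eq_index_normalizer P).symm
    have hne : Subgroup.normalizer ((P : Subgroup G) : Set G) ≠ ⊤ := by
      intro htop; rw [htop, Subgroup.index_top] at hidx; omega
    have := card_dvd_factorial_index _ hne
    rw [hidx, h] at this
    revert this; decide
  · -- two Sylow subgroups with large intersection
    have hnot : ¬ Nat.card (Sylow 5 G) ≡ 1 [MOD 5 ^ 2] := by rw [hn]; decide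
    obtain ⟨R, hPR, hle⟩ := exists_sylow_large_inter 5 2 hnot P
    have hRcard : Nat.card ↥(R : Subgroup G) = 5 ^ 2 :=
      (sylow_card_index_of_pow (p := 5) (k := 2) (m := 48) (by rw [h]; norm_num) (by norm_num) R).1
    set D := (P : Subgroup G) ⊓ (R : Subgroup G) with hD
    have hDmul : Nat.card D * (R : Subgroup G).relIndex (P : Subgroup G) = 25 := by
      have := Subgroup.relIndex_mul_relIndex (H := (⊥ : Subgroup G)) (K := D)
        (L := (P : Subgroup G)) bot_le inf_le_left
      rw [Subgroup.relIndex_bot_left, Subgroup.relIndex_bot_left, hD, Subgroup.inf_relIndex_left,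
        hPcard] at this
      exact this
    have hrel : (R : Subgroup G).relIndex (P : Subgroup G) ≤ 5 := by
      have : ((R : Subgroup G).subgroupOf (P : Subgroup G)).index ≤ 5 := by simpa using hle
      exact this
    have hDcard : Nat.card D = 5 := by
      have hrpos : 0 < (R : Subgroup G).relIndex (P : Subgroup G) := by
        rcases Nat.eq_zero_or_pos ((R : Subgroup G).relIndex (P : Subgroup G)) with h0 | h0
        · rw [h0] at hDmul; omega
        · exact h0
      have hDne : Nat.card D ≠ 25 := by
        intro h25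
        apply hPR
        have hDP : D = (P : Subgroup G) :=
          Subgroup.eq_of_le_of_card_ge inf_le_left (by rw [h25, hPcard]; norm_num)
        have hPleR : (P : Subgroup G) ≤ (R : Subgroup G) := by rw [← hDP]; exact inf_le_right
        apply Sylow.ext
        exact Subgroup.eq_of_le_of_card_ge hPleR (by rw [hPcard, hRcard])
      have hdvd : Nat.card D ∣ 25 := ⟨_, hDmul.symm⟩
      have hmem : Nat.card D ∈ Nat.divisors 25 := Nat.mem_divisors.mpr ⟨hdvd, by norm_num⟩
      have hdiv : Nat.divisors 25 = {1, 5, 25} := by decide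
      rw [hdiv] at hmem
      simp only [Finset.mem_insert, Finset.mem_singleton] at hmem
      rcases hmem with h1 | h1 | h1
      · rw [h1] at hDmul; omega
      · exact h1
      · exact absurd h1 hDne
    set N := Subgroup.normalizer (D : Set G) with hN
    have hnorm : ∀ S : Sylow 5 G, Nat.card ↥(S : Subgroup G) = 5 ^ 2 → D ≤ (S : Subgroup G) →
        (S : Subgroup G) ≤ N := by
      intro S hS hDS x hx
      have hc := comm_of_card_prime_sq (S : Subgroup G) hS
      rw [hN, Subgroup.mem_normalizer_iff]
      intro d
      constructor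
      · intro hd
        have : x * d * x⁻¹ = d := by rw [hc x hx d (hDS hd)]; group
        rw [this]; exact hd
      · intro hd
        have hdS : d ∈ (S : Subgroup G) := by
          have : d = x⁻¹ * (x * d * x⁻¹) * x := by group
          rw [this]
          exact Subgroup.mul_mem _ (Subgroup.mul_mem _ (Subgroup.inv_mem _ hx) (hDS hd)) hx
        have : x * d * x⁻¹ = d := by rw [hc x hx d hdS]; group
        rw [this] at hd; exact hd
    have hPN : (P : Subgroup G) ≤ N := hnorm P hPcard inf_le_left
    have hRN : (R : Subgroup G) ≤ N := hnorm R hRcard inf_le_right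
    have hNtop : N ≠ ⊤ := by
      intro htop
      have hDn : D.Normal := Subgroup.normalizer_eq_top_iff.mp htop
      rcases hDn.eq_bot_or_eq_top with hb | ht
      · rw [hb, Subgroup.card_bot] at hDcard; omega
      · rw [ht, Subgroup.card_top, h] at hDcard; omega
    -- Sylow subgroups of N
    have hNS : Nat.card (Sylow 5 N) ≠ 1 := by
      intro h1
      have hsub : Subsingleton (Sylow 5 N) := (Nat.card_eq_one_iff_unique.mp h1).1
      apply hPR
      exact Sylow.subtype_injective (Subsingleton.elim (P.subtype hPN) (R.subtype hRN))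
    have hNS_mod : Nat.card (Sylow 5 N) ≡ 1 [MOD 5] := card_sylow_modEq_one 5 N
    have hNS6 : 6 ≤ Nat.card (Sylow 5 N) := by
      have hpos : 0 < Nat.card (Sylow 5 N) := Nat.card_pos
      have : Nat.card (Sylow 5 N) % 5 = 1 := hNS_mod
      omega
    have hNcard : 150 ≤ Nat.card N := by
      have h1 : Nat.card (Sylow 5 N) ∣ ((P.subtype hPN : Sylow 5 N) : Subgroup N).index :=
        Sylow.card_dvd_index _
      have h2 : Nat.card ↥((P.subtype hPN : Sylow 5 N) : Subgroup N) = 25 := by
        rw [Sylow.coe_subtype]
        exact (Nat.card_congr (Subgroup.subgroupOfEquivOfLe hPN).toEquiv).trans hPcard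
      have h3 := ((P.subtype hPN : Sylow 5 N) : Subgroup N).card_mul_index
      rw [h2] at h3
      have h4 : 6 ≤ ((P.subtype hPN : Sylow 5 N) : Subgroup N).index :=
        le_trans hNS6 (Nat.le_of_dvd (Nat.pos_of_ne_zero Subgroup.index_ne_zero_of_finite) h1)
      omega
    have hNidx : N.index ≤ 8 := by
      have := N.card_mul_index
      rw [h] at this
      by_contra hlt
      push Not at hlt
      have : 150 * 9 ≤ Nat.card N * N.index := Nat.mul_le_mul hNcard hlt
      omega
    have := card_dvd_factorial_of_index_le N hNtop hNidx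
    rw [h] at this
    revert this; decide



/-- No finite simple group has order 1200 = 2^4 * 3 * 5^2. -/
theorem result {G : Type*} [Group G] [Finite G] [IsSimpleGroup G] : Nat.card G ≠ 1200 := by
  exact main

end Cfsg.Agent.S1015
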