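import Cfsg.Statements.S1016
import Mathlib
import Cfsg.Agent.Lib.Helper8.SmallSimple2
import Cfsg.Agent.Lib.Helper19.Derangement

set_option autoImplicit false
set_option linter.unusedSectionVars false
open Cfsg

namespace Cfsg.Agent.S1016

open Cfsg.Agent.Lib.Helper7 Cfsg.Agent.Lib.Helper8.SmallSimple Cfsg.Agent.Lib.Helper8.SmallSimple2
  MulAction

variable {G : Type*} [Group G] [Finite G]

/-- an element of order 2 in a subgroup of even order -/
theorem exists_invol_mem (K : Subgroup G) (h : 2 ∣ Nat.card ↥K) : ∃ t ∈ K, orderOf t = 2 := by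
  haveI : Fact (Nat.Prime 2) := ⟨Nat.prime_two⟩
  obtain ⟨x, hx⟩ := exists_prime_orderOf_dvd_card' (G := ↥K) 2 h
  exact ⟨(x : G), x.2, by rw [Subgroup.orderOf_coe]; exact hx⟩

set_option maxRecDepth 100000 in
theorem arithN : ∀ n < 289, 288 % n = 0 → n % 5 = 1 → n = 1 ∨ n = 6 ∨ n = 16 ∨ n = 36 ∨ n = 96 := by
  decide

/-- the case of 16 Sylow 5-subgroups -/
theorem case16 [IsSimpleGroup G] (hG : Nat.card G = 1440) [Fact (Nat.Prime 5)] (P : Sylow 5 G)
    (hP : Nat.card ↥(P : Subgroup G) = 5)
    (hNc : Nat.card ↥(Subgroup.normalizer ((P : Subgroup G) : Set G)) = 90)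
    (hCc : Nat.card ↥(Subgroup.centralizer ((P : Subgroup G) : Set G)) = 45) : False := by
  classical
  haveI : Fact (Nat.Prime 3) := ⟨by norm_num⟩
  set N := Subgroup.normalizer ((P : Subgroup G) : Set G) with hN
  set C := Subgroup.centralizer ((P : Subgroup G) : Set G) with hC
  have hidx : N.index = 16 := by
    have := N.card_mul_index
    rw [hNc, hG] at this
    omega
  have hNtop : N ≠ ⊤ := by
    intro h
    rw [h, Subgroup.index_top] at hidx
    omega
  have hCN : C ≤ N := Subgroup.centralizer_le_normalizer _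
  obtain ⟨T0, hT0⟩ := Sylow.exists_subgroup_card_pow_prime (G := ↥C) 3 (n := 2)
    (by rw [hCc]; norm_num)
  set T : Subgroup G := T0.map C.subtype with hT
  have hTc : Nat.card ↥T = 3 ^ 2 := by
    rw [hT, Subgroup.card_map_of_injective C.subtype_injective]
    exact hT0
  have hTC : T ≤ C := by
    rintro _ ⟨c, -, rfl⟩
    exact c.2
  have hTp : IsPGroup 3 T := IsPGroup.of_card hTc
  have hcardX : Nat.card (G ⧸ N) = 16 := by rw [← hidx, Subgroup.index]
  have hfix : ∀ g ∈ T, g ≠ 1 → Nat.card (fixedBy (G ⧸ N) g) = 1 := by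
    intro g hg hg1
    have h5 := card_fixedBy_modEq_one P hP g (hTC hg)
    rw [← hN] at h5
    have hgp : IsPGroup 3 (Subgroup.zpowers g) :=
      hTp.to_le (by rw [Subgroup.zpowers_le]; exact hg)
    have h3 := card_modEq_card_fixedBy (X := G ⧸ N) g hgp
    rw [hcardX] at h3
    have hle : Nat.card (fixedBy (G ⧸ N) g) ≤ 16 := by
      rw [← hcardX]
      exact Nat.card_le_card_of_injective _ Subtype.val_injective
    have hne : Nat.card (fixedBy (G ⧸ N) g) ≠ 16 := by
      intro h
      apply hg1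
      apply eq_one_of_smul_eq N hNtop
      apply smul_eq_of_card_fixedBy
      rw [h, hcardX]
    unfold Nat.ModEq at h5 h3
    omega
  haveI : Fintype ↥T := Fintype.ofFinite _
  have hB := Cfsg.Agent.Lib.Helper19.burnside_natCard (G := ↥T) (Ω := G ⧸ N)
  have hsum : ∑ g : ↥T, Nat.card (fixedBy (G ⧸ N) g) = 24 := by
    have h1 : ∀ g : ↥T, Nat.card (fixedBy (G ⧸ N) g) = 1 + (if g = 1 then 15 else 0) := by
      intro g
      by_cases hg : g = 1
      · subst hg
        rw [if_pos rfl]
        have : Nat.card (fixedBy (G ⧸ N) (1 : ↥T)) = Nat.card (G ⧸ N) := by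
          apply Nat.card_congr
          exact
            { toFun := fun a => a.1
              invFun := fun a => ⟨a, by rw [mem_fixedBy, one_smul]⟩
              left_inv := fun a => rfl
              right_inv := fun a => rfl }
        rw [this, hcardX]
      · rw [if_neg hg, add_zero]
        have hg' : (g : G) ≠ 1 := fun h => hg (Subtype.ext h)
        exact hfix (g : G) g.2 hg'
    rw [Finset.sum_congr rfl (fun g _ => h1 g), Finset.sum_add_distrib, Finset.sum_ite_eq']
    simp only [Finset.sum_const, Finset.card_univ, smul_eq_mul, mul_one, Finset.mem_univ, if_true]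
    rw [← Nat.card_eq_fintype_card, hTc]
    norm_num
  rw [hsum, hTc] at hB
  omega

/-- an involution centralizing `P` has exactly 16 fixed points (36 Sylow 5-subgroups) -/
theorem fix16 [IsSimpleGroup G] (hG : Nat.card G = 1440) [Fact (Nat.Prime 5)] (P : Sylow 5 G)
    (hP : Nat.card ↥(P : Subgroup G) = 5)
    (hNc : Nat.card ↥(Subgroup.normalizer ((P : Subgroup G) : Set G)) = 40) (t : G)
    (htC : t ∈ Subgroup.centralizer ((P : Subgroup G) : Set G)) (ht : orderOf t = 2) :
    Nat.card (fixedBy (G ⧸ Subgroup.normalizer ((P : Subgroup G) : Set G)) t) = 16 := by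
  set N := Subgroup.normalizer ((P : Subgroup G) : Set G) with hN
  have hG2 : 2 < Nat.card G := by rw [hG]; norm_num
  have hidx : N.index = 36 := by
    have := N.card_mul_index
    rw [hNc, hG] at this
    omega
  have hNtop : N ≠ ⊤ := by
    intro h
    rw [h, Subgroup.index_top] at hidx
    omega
  obtain ⟨h1, ⟨s, ⟨k, hk⟩, hs⟩, h3⟩ := invol_fix_data hG2 P hP hNtop t htC ht
  rw [← hN, hidx] at hs h3
  rw [← hN] at h1
  omega

/-- the case of 36 Sylow 5-subgroups with `|C(P)| = 20` -/
theorem case36B [IsSimpleGroup G] (hG : Nat.card G = 1440)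
    [Fact (Nat.Prime 5)] (P : Sylow 5 G)
    (hP : Nat.card ↥(P : Subgroup G) = 5)
    (hNc : Nat.card ↥(Subgroup.normalizer ((P : Subgroup G) : Set G)) = 40)
    (hCc : Nat.card ↥(Subgroup.centralizer ((P : Subgroup G) : Set G)) = 20)
    (hr : (Subgroup.centralizer ((P : Subgroup G) : Set G)).relIndex
          (Subgroup.normalizer ((P : Subgroup G) : Set G)) = 2) : False := by
  haveI : Fact (Nat.Prime 2) := ⟨Nat.prime_two⟩
  set N := Subgroup.normalizer ((P : Subgroup G) : Set G) with hN
  set C := Subgroup.centralizer ((P : Subgroup G) : Set G) with hC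
  have hCN : C ≤ N := Subgroup.centralizer_le_normalizer _
  -- a subgroup T of order 4 of C
  obtain ⟨T0, hT0⟩ := Sylow.exists_subgroup_card_pow_prime (G := ↥C) 2 (n := 2)
    (by rw [hCc]; norm_num)
  set T : Subgroup G := T0.map C.subtype with hT
  have hTc : Nat.card ↥T = 2 ^ 2 := by
    rw [hT, Subgroup.card_map_of_injective C.subtype_injective]
    exact hT0
  have hTC : T ≤ C := by
    rintro _ ⟨c, -, rfl⟩
    exact c.2
  have hcommT := comm_of_card_prime_sq (p := 2) T hTc
  obtain ⟨t, htT, ht⟩ := exists_invol_mem T (by rw [hTc]; norm_num)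
  have hf := fix16 hG P hP hNc t (hTC htT) ht
  rw [← hN] at hf
  have hTp : IsPGroup 2 T := IsPGroup.of_card hTc
  obtain ⟨g, hgN, hgT⟩ := exists_conj_le_of_not_modEq N T hTp (hTC.trans hCN) t (hCN (hTC htT))
    (fun y hy => hcommT t htT y hy) (by rw [hf]; norm_num)
  -- the conjugate T' of T inside N
  set T' : Subgroup G := T.map (MulAut.conj g⁻¹).toMonoidHom with hT'
  have hT'c : Nat.card ↥T' = 2 ^ 2 := by
    rw [hT', Subgroup.card_map_of_injective (MulAut.conj g⁻¹).injective]
    exact hTc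
  have hT'N : T' ≤ N := by
    rintro _ ⟨y, hy, rfl⟩
    have := hgT y hy
    simpa [MulAut.conj_apply] using this
  have hT'comm := comm_of_card_prime_sq (p := 2) T' hT'c
  have hdvd := relIndex_centralizer_dvd (P : Subgroup G) T' hT'N
  rw [← hC, ← hN, hr] at hdvd
  have hK := card_inf_mul_relIndex C T'
  rw [hT'c] at hK
  have h2K : 2 ∣ Nat.card ↥(C ⊓ T') := by
    have hle := Nat.le_of_dvd (by norm_num) hdvd
    have hpos' : 0 < C.relIndex T' := Nat.pos_of_ne_zero (fun h => by rw [h] at hK; omega)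
    interval_cases hrr : C.relIndex T'
    · exact ⟨2, by omega⟩
    · exact ⟨1, by omega⟩
  obtain ⟨t0, ht0K, ht0⟩ := exists_invol_mem (C ⊓ T') h2K
  have ht0C : t0 ∈ C := ht0K.1
  obtain ⟨y0, hy0, hy0t⟩ := ht0K.2
  have hy0t' : g⁻¹ * y0 * g = t0 := by simpa [MulAut.conj_apply] using hy0t
  have hPM : (P : Subgroup G) ≤ Subgroup.centralizer ({t0} : Set G) := by
    intro x hx
    rw [Subgroup.mem_centralizer_singleton_iff]
    exact (Subgroup.mem_centralizer_iff.mp ht0C) x hx
  have hT'M : T' ≤ Subgroup.centralizer ({t0} : Set G) := by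
    intro x hx
    rw [Subgroup.mem_centralizer_singleton_iff]
    exact hT'comm x hx t0 ht0K.2
  -- the second Sylow subgroup
  set R : Sylow 5 G := g⁻¹ • P with hR
  have hRne : R ≠ P := by
    intro h
    rw [hR, Sylow.smul_eq_iff_mem_normalizer] at h
    apply hgN
    have := Subgroup.inv_mem _ h
    rwa [inv_inv] at this
  have hRM : (R : Subgroup G) ≤ Subgroup.centralizer ({t0} : Set G) := by
    intro x hx
    rw [hR, Sylow.coe_subgroup_smul, Subgroup.mem_pointwise_smul_iff_inv_smul_mem] at hx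
    have hz : g * x * g⁻¹ ∈ (P : Subgroup G) := by simpa [MulAut.smul_def] using hx
    have hcz : (g * x * g⁻¹) * y0 = y0 * (g * x * g⁻¹) :=
      (Subgroup.mem_centralizer_iff.mp (hTC hy0)) _ hz
    rw [Subgroup.mem_centralizer_singleton_iff, ← hy0t']
    calc x * (g⁻¹ * y0 * g) = g⁻¹ * ((g * x * g⁻¹) * y0) * g := by group
      _ = g⁻¹ * (y0 * (g * x * g⁻¹)) * g := by rw [hcz]
      _ = g⁻¹ * y0 * g * x := by group
  set M := Subgroup.centralizer ({t0} : Set G) with hMdef
  have hcount := card_sylow_subgroup_mul P M hPM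
  rw [← hN] at hcount
  have hmodM : Nat.card (Sylow 5 ↥M) % 5 = 1 := by
    have := card_sylow_modEq_one 5 ↥M
    unfold Nat.ModEq at this
    omega
  have hneM : Nat.card (Sylow 5 ↥M) ≠ 1 := by
    intro h
    have hsub : Subsingleton (Sylow 5 ↥M) := (Nat.card_eq_one_iff_unique.mp h).1
    have e : P.subtype hPM = R.subtype hRM := Subsingleton.elim _ _
    exact hRne (Sylow.subtype_injective e).symm
  have h5 : 5 ∣ Nat.card ↥(N ⊓ M) := by
    have := Subgroup.card_dvd_of_le (le_inf (Subgroup.le_normalizer (H := (P : Subgroup G))) hPM)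
    rwa [hP] at this
  have h4 : 4 ∣ Nat.card ↥(N ⊓ M) := by
    have := Subgroup.card_dvd_of_le (le_inf hT'N hT'M)
    rwa [hT'c] at this
  have h40 : Nat.card ↥(N ⊓ M) ∣ 40 := by
    have := Subgroup.card_dvd_of_le (inf_le_left : N ⊓ M ≤ N)
    rwa [hNc] at this
  have hMdvd : Nat.card ↥M ∣ 1440 := by
    rw [← hG]; exact Subgroup.card_subgroup_dvd_card M
  have hf0 := fix16 hG P hP hNc t0 ht0C ht0
  have hMdvd2 := card_centralizer_dvd N t0
  rw [← hN] at hf0
  rw [← hMdef, hf0, hNc] at hMdvd2
  have hkk : Nat.card ↥(N ⊓ M) = 20 ∨ Nat.card ↥(N ⊓ M) = 40 := by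
    have key : ∀ k : ℕ, k ∣ 40 → 5 ∣ k → 4 ∣ k → k = 20 ∨ k = 40 := by
      intro k hk h5' h4'
      have hle := Nat.le_of_dvd (by norm_num) hk
      interval_cases k <;> omega
    exact key _ h40 h5 h4
  have hMle : Nat.card ↥M ≤ 640 := Nat.le_of_dvd (by norm_num) hMdvd2
  have hfin : ∀ a b : ℕ, a ≤ 32 → (b = 20 ∨ b = 40) → (a * b) ∣ 16 * 40 → (a * b) ∣ 1440 → a % 5 = 1 →
      a = 1 := by
    intro a b ha hb h1 h2 h3
    rcases hb with rfl | rfl <;> interval_cases a <;> first | rfl | omega | (exfalso; revert h1 h2; decide)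
  have ha32 : Nat.card (Sylow 5 ↥M) ≤ 32 := by
    rcases hkk with hk | hk <;> rw [hk] at hcount <;> omega
  apply hneM
  apply hfin _ _ ha32 hkk _ _ hmodM
  · rw [hcount]; exact hMdvd2
  · rw [hcount]; exact hMdvd

/-- the case of 36 Sylow 5-subgroups with `|C(P)| = 10` -/
theorem case36A [IsSimpleGroup G] (hG : Nat.card G = 1440)
    [Fact (Nat.Prime 5)] (P : Sylow 5 G)
    (hP : Nat.card ↥(P : Subgroup G) = 5)
    (hNc : Nat.card ↥(Subgroup.normalizer ((P : Subgroup G) : Set G)) = 40)
    (hCc : Nat.card ↥(Subgroup.centralizer ((P : Subgroup G) : Set G)) = 10) : False := by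
  set N := Subgroup.normalizer ((P : Subgroup G) : Set G) with hN
  set C := Subgroup.centralizer ((P : Subgroup G) : Set G) with hC
  have hCN : C ≤ N := Subgroup.centralizer_le_normalizer _
  obtain ⟨t, htC, ht⟩ := exists_invol_mem C (by rw [hCc]; norm_num)
  have huniq : ∀ s ∈ C, orderOf s = 2 → s = t := fun s hs hs2 =>
    invol_unique_of_card (p := 5) (by norm_num) (P : Subgroup G) hP (by rw [← hC, hCc]) s t hs htC
      hs2 ht
  set M := Subgroup.centralizer ({t} : Set G) with hMdef
  have hNM : N ≤ M := by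
    intro n hn
    have h1 : n * t * n⁻¹ ∈ C := conj_mem_centralizer_of_mem_normalizer (P : Subgroup G) hn htC
    have h2 : orderOf (n * t * n⁻¹) = 2 := by
      have := MulEquiv.orderOf_eq (MulAut.conj n) t
      rw [MulAut.conj_apply] at this
      rw [this, ht]
    have h3 := huniq _ h1 h2
    rw [hMdef, Subgroup.mem_centralizer_singleton_iff]
    calc n * t = n * t * n⁻¹ * n := by group
      _ = t * n := by rw [h3]
  have hPM : (P : Subgroup G) ≤ M := (Subgroup.le_normalizer (H := (P : Subgroup G))).trans hNM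
  have hcount := card_sylow_subgroup_mul P M hPM
  rw [← hN, inf_eq_left.mpr hNM, hNc] at hcount
  have hmodM : Nat.card (Sylow 5 ↥M) % 5 = 1 := by
    have := card_sylow_modEq_one 5 ↥M
    unfold Nat.ModEq at this
    omega
  have hMdvd : Nat.card ↥M ∣ 1440 := by
    rw [← hG]; exact Subgroup.card_subgroup_dvd_card M
  have hf := fix16 hG P hP hNc t htC ht
  rw [← hN] at hf
  have hformula := card_fixedBy_mul_card N t
  rw [hf, hNc, ← hMdef] at hformula
  have hMdvd2 : Nat.card ↥M ∣ 16 * 40 := by rw [hformula]; exact dvd_mul_left _ _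
  have hfin : ∀ a : ℕ, a ≤ 16 → (a * 40) ∣ 16 * 40 → (a * 40) ∣ 1440 → a % 5 = 1 → a = 1 := by
    intro a ha h1 h2 h3
    interval_cases a <;> first | rfl | omega | (exfalso; revert h1 h2; decide)
  have hMle : Nat.card ↥M ≤ 640 := Nat.le_of_dvd (by norm_num) hMdvd2
  have ha1 : Nat.card (Sylow 5 ↥M) = 1 := by
    apply hfin _ (by omega) _ _ hmodM
    · rw [hcount]; exact hMdvd2
    · rw [hcount]; exact hMdvd
  rw [ha1, one_mul] at hcount
  rw [← hcount] at hformula
  have hk : Nat.card {s : G // s ∈ N ∧ IsConj t s} = 16 := by omega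
  have hle := card_conj_invol_le (p := 5) (P : Subgroup G) hP t ht huniq
  rw [← hN, ← hC, hk, hCc] at hle
  omega

/-- No finite simple group has order 1440 = 2^5 * 3^2 * 5. -/
theorem result {G : Type*} [Group G] [Finite G] [IsSimpleGroup G] : Nat.card G ≠ 1440 := by
  intro hG
  have hnc : ¬ IsMulCommutative G := by
    apply not_comm_of_card_not_prime
    rw [hG]; norm_num
  haveI : Fact (Nat.Prime 5) := ⟨by norm_num⟩
  obtain ⟨P⟩ : Nonempty (Sylow 5 G) := inferInstance
  obtain ⟨hP, n, k, c, r, hn, hNc, hCc, hr, hnk, hcr, hmod, hn1, hr4, hr1, hidx, hfac⟩ :=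
    sylow_prime_data hnc (p := 5) (m := 288) (by rw [hG]) (by norm_num) P
  have hkpos : 0 < k := by
    rcases Nat.eq_zero_or_pos k with h | h
    · rw [h] at hnk; omega
    · exact h
  have hnlt : n < 289 := by
    have : n ≤ 288 := by
      calc n ≤ n * k := Nat.le_mul_of_pos_right _ hkpos
        _ = 288 := hnk
    omega
  have hr4' : r = 1 ∨ r = 2 ∨ r = 4 := by
    have hle := Nat.le_of_dvd (by norm_num) hr4
    have : r ∣ 4 := hr4
    interval_cases r <;> simp_all
  rcases arithN n hnlt (by rw [← hnk]; exact Nat.mul_mod_right _ _) hmod with h | h | h | h | h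
  · exact hn1 h
  · rw [h, hG] at hfac
    revert hfac
    decide
  · rw [h] at hnk
    have hk18 : k = 18 := by omega
    rcases hr4' with h' | h' | h'
    · exact hr1 h'
    · rw [h', hk18] at hcr
      have hc9 : c = 9 := by omega
      rw [hk18] at hNc
      rw [hc9] at hCc
      exact case16 hG P hP hNc hCc
    · rw [h', hk18] at hcr
      omega
  · rw [h] at hnk
    have hk8 : k = 8 := by omega
    rw [hk8] at hNc hcr
    rcases hr4' with h' | h' | h'
    · exact hr1 h'
    · rw [h'] at hcr hr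
      have hc4 : c = 4 := by omega
      rw [hc4] at hCc
      exact case36B hG P hP hNc hCc hr
    · rw [h'] at hcr
      have hc2 : c = 2 := by omega
      rw [hc2] at hCc
      exact case36A hG P hP hNc hCc
  · rw [h] at hnk
    have hk3 : k = 3 := by omega
    rw [hk3] at hcr
    rcases hr4' with h' | h' | h'
    · exact hr1 h'
    · rw [h'] at hcr; omega
    · rw [h'] at hcr; omega

end Cfsg.Agent.S1016
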