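import Cfsg.Statements.S1017
import Mathlib
import Cfsg.Agent.Lib.Helper8.SmallSimple

set_option autoImplicit false
set_option linter.unusedSectionVars false
open Cfsg

namespace Cfsg.Agent.S1017

open Cfsg.Agent.Lib.Helper7 Cfsg.Agent.Lib.Helper8.SmallSimple MulAction

set_option maxRecDepth 100000 in
theorem arithN : ∀ n < 289, 288 % n = 0 → n % 7 = 1 → n = 1 ∨ n = 8 ∨ n = 36 ∨ n = 288 := by
  decide

set_option maxRecDepth 100000 in
theorem arithM : ∀ n < 73, n % 7 = 1 → n ≠ 1 → (2016 % (n * 28) = 0 → n * 28 = 224 ∨ n * 28 = 1008) ∧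
    (2016 % (n * 56) = 0 → n * 56 = 2016) := by
  decide

theorem dvd6 {r : ℕ} (h : r ∣ 6) : r = 1 ∨ r = 2 ∨ r = 3 ∨ r = 6 := by
  have := Nat.le_of_dvd (by norm_num) h
  interval_cases r <;> simp_all

variable {G : Type*} [Group G] [Finite G]

/-- an element of order 2 in a subgroup of even order -/
theorem exists_invol_mem (K : Subgroup G) (h : 2 ∣ Nat.card ↥K) : ∃ t ∈ K, orderOf t = 2 := by
  haveI : Fact (Nat.Prime 2) := ⟨Nat.prime_two⟩
  obtain ⟨x, hx⟩ := exists_prime_orderOf_dvd_card' (G := ↥K) 2 h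
  exact ⟨(x : G), x.2, by rw [Subgroup.orderOf_coe]; exact hx⟩

theorem sq_of_orderOf_two {t : G} (ht : orderOf t = 2) : t ^ 2 = 1 := by
  rw [← ht]; exact pow_orderOf_eq_one t

/-- the index-9 endgame: an involution whose centralizer has order 224 containing a subgroup of order 7 -/
theorem endgame [IsSimpleGroup G] (hG : Nat.card G = 2016) (hnc : ¬ IsMulCommutative G)
    (t : G) (ht : orderOf t = 2) (P : Subgroup G) (hP : Nat.card ↥P = 7)
    (hPt : P ≤ Subgroup.centralizer ({t} : Set G))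
    (hM : Nat.card ↥(Subgroup.centralizer ({t} : Set G)) = 224) : False := by
  haveI : Fact (Nat.Prime 7) := ⟨by norm_num⟩
  set M := Subgroup.centralizer ({t} : Set G) with hMdef
  have hG2 : 2 < Nat.card G := by rw [hG]; norm_num
  have hidx : M.index = 9 := by
    have := M.card_mul_index
    rw [hM, hG] at this
    omega
  have hMtop : M ≠ ⊤ := by
    intro h
    rw [h, Subgroup.index_top] at hidx
    omega
  obtain ⟨s, hs4, hs⟩ := four_dvd_moved hG2 M t (sq_of_orderOf_two ht)
  rw [hidx] at hs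
  have hPp : IsPGroup 7 P := IsPGroup.of_card (n := 1) (by rw [hP, pow_one])
  -- the fixed point set of t is P-invariant, as is its complement
  have hinv : ∀ y ∈ P, ∀ a ∈ fixedBy (G ⧸ M) t, y • a ∈ fixedBy (G ⧸ M) t := by
    intro y hy a ha
    rw [mem_fixedBy] at ha ⊢
    have hty : t * y = y * t := by
      have := hPt hy
      rw [hMdef, Subgroup.mem_centralizer_singleton_iff] at this
      exact this.symm
    rw [smul_smul, hty, ← smul_smul, ha]
  have hinv' : ∀ y ∈ P, ∀ a ∈ (fixedBy (G ⧸ M) t)ᶜ, y • a ∈ (fixedBy (G ⧸ M) t)ᶜ := by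
    intro y hy a ha hcon
    apply ha
    have := hinv y⁻¹ (P.inv_mem hy) _ hcon
    rwa [inv_smul_smul] at this
  have h1 := card_invariant_modEq P hPp _ hinv
  have h2 := card_invariant_modEq P hPp _ hinv'
  have hcompl : Nat.card (fixedBy (G ⧸ M) t) + Nat.card ↥((fixedBy (G ⧸ M) t)ᶜ) = 9 := by
    rw [← hidx, Subgroup.index, Nat.card_coe_set_eq, Nat.card_coe_set_eq]
    exact Set.ncard_add_ncard_compl _
  have hle1 : Nat.card {a : G ⧸ M // a ∈ fixedBy (G ⧸ M) t ∧ ∀ y ∈ P, y • a = a} ≤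
      Nat.card (fixedBy (G ⧸ M) t) :=
    Nat.card_le_card_of_injective (fun z => (⟨z.1, z.2.1⟩ : fixedBy (G ⧸ M) t))
      (fun z w hzw => Subtype.ext (congrArg (fun u : fixedBy (G ⧸ M) t => (u : G ⧸ M)) hzw))
  have hle2 : Nat.card {a : G ⧸ M // a ∈ (fixedBy (G ⧸ M) t)ᶜ ∧ ∀ y ∈ P, y • a = a} ≤
      Nat.card ↥((fixedBy (G ⧸ M) t)ᶜ) :=
    Nat.card_le_card_of_injective (fun z => (⟨z.1, z.2.1⟩ : ↥((fixedBy (G ⧸ M) t)ᶜ)))
      (fun z w hzw => Subtype.ext (congrArg (fun u : ↥((fixedBy (G ⧸ M) t)ᶜ) => (u : G ⧸ M)) hzw))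
  -- an element of order 7 in P
  obtain ⟨y, hy⟩ := exists_prime_orderOf_dvd_card' (G := ↥P) 7 (by rw [hP])
  have hyo : orderOf (y : G) = 7 := by rw [Subgroup.orderOf_coe]; exact hy
  have hfcases : Nat.card (fixedBy (G ⧸ M) t) = 1 ∨ Nat.card (fixedBy (G ⧸ M) t) = 5 ∨
      Nat.card (fixedBy (G ⧸ M) t) = 9 := by
    obtain ⟨k, hk⟩ := hs4
    omega
  rcases hfcases with hf | hf | hf
  · exact not_isIsolatedInvolution hnc t (isIsolatedInvolution_of_card_fixedBy t ht hf)
  · -- P fixes everything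
    rw [hf] at h1 hle1 hcompl
    have hf' : Nat.card ↥((fixedBy (G ⧸ M) t)ᶜ) = 4 := by omega
    rw [hf'] at h2 hle2
    have e1 : Nat.card {a : G ⧸ M // a ∈ fixedBy (G ⧸ M) t ∧ ∀ y ∈ P, y • a = a} = 5 := by
      unfold Nat.ModEq at h1
      omega
    have e2 : Nat.card {a : G ⧸ M // a ∈ (fixedBy (G ⧸ M) t)ᶜ ∧ ∀ y ∈ P, y • a = a} = 4 := by
      unfold Nat.ModEq at h2
      omega
    have a1 := forall_of_card_subtype_eq (fixedBy (G ⧸ M) t) (fun a => ∀ y ∈ P, y • a = a)
      (by rw [e1, hf])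
    have a2 := forall_of_card_subtype_eq (fixedBy (G ⧸ M) t)ᶜ (fun a => ∀ y ∈ P, y • a = a)
      (by rw [e2, hf'])
    have hy1 : (y : G) = 1 := by
      apply eq_one_of_smul_eq M hMtop
      intro a
      by_cases ha : a ∈ fixedBy (G ⧸ M) t
      · exact a1 a ha y y.2
      · exact a2 a ha y y.2
    rw [hy1, orderOf_one] at hyo
    omega
  · have ht1 : t = 1 := by
      apply eq_one_of_smul_eq M hMtop
      apply smul_eq_of_card_fixedBy
      rw [hf, ← hidx, Subgroup.index]
    rw [ht1, orderOf_one] at ht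
    omega

/-- common setup: Sylow 7 data -/
theorem sylow7_data [IsSimpleGroup G] (hG : Nat.card G = 2016) (hnc : ¬ IsMulCommutative G)
    [Fact (Nat.Prime 7)] (P : Sylow 7 G) :
    Nat.card ↥(P : Subgroup G) = 7 ∧
    ((Nat.card (Sylow 7 G) = 8 ∧ Nat.card ↥(Subgroup.normalizer ((P : Subgroup G) : Set G)) = 252 ∧
        2 ∣ Nat.card ↥(Subgroup.centralizer ((P : Subgroup G) : Set G))) ∨
     (Nat.card (Sylow 7 G) = 36 ∧ Nat.card ↥(Subgroup.normalizer ((P : Subgroup G) : Set G)) = 56 ∧
        Nat.card ↥(Subgroup.centralizer ((P : Subgroup G) : Set G)) = 28 ∧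
        (Subgroup.centralizer ((P : Subgroup G) : Set G)).relIndex
          (Subgroup.normalizer ((P : Subgroup G) : Set G)) = 2)) := by
  obtain ⟨hP, -⟩ := sylow_card_index_of_exact (p := 7) (m := 288) (hG.trans (by norm_num))
    (by norm_num) P
  refine ⟨hP, ?_⟩
  set N := Subgroup.normalizer ((P : Subgroup G) : Set G) with hN
  set C := Subgroup.centralizer ((P : Subgroup G) : Set G) with hC
  have hcommP := comm_of_card_prime (P : Subgroup G) hP
  have hPC : (P : Subgroup G) ≤ C := by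
    intro x hx
    rw [hC, Subgroup.mem_centralizer_iff]
    intro y hy
    exact hcommP y hy x hx
  have hmul := card_sylow_mul_card_normalizer P
  have hmod : Nat.card (Sylow 7 G) % 7 = 1 := by
    have := card_sylow_modEq_one 7 G
    unfold Nat.ModEq at this
    omega
  have hne1 : Nat.card (Sylow 7 G) ≠ 1 :=
    card_sylow_ne_one P (by rw [hP]; norm_num) (by rw [hP, hG]; norm_num)
  obtain ⟨k, hk⟩ : 7 ∣ Nat.card ↥N := by
    have := Subgroup.card_dvd_of_le (Subgroup.le_normalizer (H := (P : Subgroup G)))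
    rwa [hP] at this
  rw [← hN, hk, hG] at hmul
  have hnk : Nat.card (Sylow 7 G) * k = 288 := by
    have : 7 * (Nat.card (Sylow 7 G) * k) = 7 * 288 := by
      calc 7 * (Nat.card (Sylow 7 G) * k) = Nat.card (Sylow 7 G) * (7 * k) := by ring
        _ = 7 * 288 := by rw [hmul]
    exact Nat.eq_of_mul_eq_mul_left (by norm_num) this
  have hr := relIndex_centralizer_normalizer_dvd_of_prime (P : Subgroup G) hP
  have hcr := card_centralizer_mul_relIndex (P : Subgroup G)
  rw [← hN, ← hC] at hr hcr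
  have hr1 : C.relIndex N ≠ 1 := by
    intro h
    exact not_normalizer_le_centralizer hnc P (by rw [hP]; norm_num) hcommP
      (Subgroup.relIndex_eq_one.mp h)
  obtain ⟨c7, hc7⟩ : 7 ∣ Nat.card ↥C := by
    have := Subgroup.card_dvd_of_le hPC
    rwa [hP] at this
  have hkpos : 0 < k := by
    rcases Nat.eq_zero_or_pos k with h | h
    · rw [h] at hnk; omega
    · exact h
  have hnlt : Nat.card (Sylow 7 G) < 289 := by
    have : Nat.card (Sylow 7 G) ≤ 288 := by
      calc Nat.card (Sylow 7 G) ≤ Nat.card (Sylow 7 G) * k := Nat.le_mul_of_pos_right _ hkpos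
        _ = 288 := hnk
    omega
  have hn := arithN _ hnlt (by rw [← hnk]; exact Nat.mul_mod_right _ _) hmod
  rw [hk, hc7] at hcr
  rcases dvd6 hr with h | h | h | h
  · exact absurd h hr1
  all_goals
    rw [h] at hcr
    rcases hn with hn | hn | hn | hn
    · exact absurd hn hne1
    · left
      rw [hn] at hnk
      have hk36 : k = 36 := by omega
      refine ⟨hn, by rw [hk, hk36], ?_⟩
      rw [hc7]
      omega
    · rw [hn] at hnk
      have hk8 : k = 8 := by omega
      first
      | (right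
         refine ⟨hn, by rw [hk, hk8], by rw [hc7]; omega, h⟩)
      | (exfalso; omega)
    · rw [hn] at hnk
      exfalso
      omega

/-- the case of 8 Sylow 7-subgroups -/
theorem caseA [IsSimpleGroup G] (hG : Nat.card G = 2016) [Fact (Nat.Prime 7)] (P : Sylow 7 G)
    (hP : Nat.card ↥(P : Subgroup G) = 7)
    (hNc : Nat.card ↥(Subgroup.normalizer ((P : Subgroup G) : Set G)) = 252)
    (h2 : 2 ∣ Nat.card ↥(Subgroup.centralizer ((P : Subgroup G) : Set G))) : False := by
  set N := Subgroup.normalizer ((P : Subgroup G) : Set G) with hN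
  have hG2 : 2 < Nat.card G := by rw [hG]; norm_num
  have hidx : N.index = 8 := by
    have := N.card_mul_index
    rw [hNc, hG] at this
    omega
  have hNtop : N ≠ ⊤ := by
    intro h
    rw [h, Subgroup.index_top] at hidx
    omega
  obtain ⟨c, hcC, hc⟩ := exists_invol_mem _ h2
  have hmod := card_fixedBy_modEq_one P hP c hcC
  rw [← hN] at hmod
  obtain ⟨s, hs4, hs⟩ := four_dvd_moved hG2 N c (sq_of_orderOf_two hc)
  rw [hidx] at hs
  have hf : Nat.card (fixedBy (G ⧸ N) c) = 8 := by
    obtain ⟨k, hk⟩ := hs4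
    unfold Nat.ModEq at hmod
    omega
  have hc1 : c = 1 := by
    apply eq_one_of_smul_eq N hNtop
    apply smul_eq_of_card_fixedBy
    rw [hf, ← hidx, Subgroup.index]
  rw [hc1, orderOf_one] at hc
  omega

/-- the case of 36 Sylow 7-subgroups -/
theorem caseB [IsSimpleGroup G] (hG : Nat.card G = 2016) (hnc : ¬ IsMulCommutative G)
    [Fact (Nat.Prime 7)] (P : Sylow 7 G)
    (hP : Nat.card ↥(P : Subgroup G) = 7)
    (hNc : Nat.card ↥(Subgroup.normalizer ((P : Subgroup G) : Set G)) = 56)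
    (hCc : Nat.card ↥(Subgroup.centralizer ((P : Subgroup G) : Set G)) = 28)
    (hr : (Subgroup.centralizer ((P : Subgroup G) : Set G)).relIndex
          (Subgroup.normalizer ((P : Subgroup G) : Set G)) = 2) : False := by
  haveI : Fact (Nat.Prime 2) := ⟨Nat.prime_two⟩
  set N := Subgroup.normalizer ((P : Subgroup G) : Set G) with hN
  set C := Subgroup.centralizer ((P : Subgroup G) : Set G) with hC
  have hG2 : 2 < Nat.card G := by rw [hG]; norm_num
  have hidx : N.index = 36 := by
    have := N.card_mul_index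
    rw [hNc, hG] at this
    omega
  have hNtop : N ≠ ⊤ := by
    intro h
    rw [h, Subgroup.index_top] at hidx
    omega
  have hCN : C ≤ N := Subgroup.centralizer_le_normalizer _
  -- a subgroup T of order 4 of C
  obtain ⟨T0, hT0⟩ := Sylow.exists_subgroup_card_pow_prime (G := ↥C) 2 (n := 2)
    (by rw [hCc]; norm_num)
  set T : Subgroup G := T0.map C.subtype with hT
  have hTc : Nat.card ↥T = 2 ^ 2 := by
    rw [hT, Subgroup.card_map_of_injective C.subtype_injective]
    exact hT0
  have hTC : T ≤ C := by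
    rintro _ ⟨c, -, rfl⟩
    exact c.2
  have hcommT := comm_of_card_prime_sq (p := 2) T hTc
  obtain ⟨t, htT, ht⟩ := exists_invol_mem T (by rw [hTc]; norm_num)
  -- fixed points of t
  have hmod := card_fixedBy_modEq_one P hP t (hTC htT)
  rw [← hN] at hmod
  obtain ⟨s, hs4, hs⟩ := four_dvd_moved hG2 N t (sq_of_orderOf_two ht)
  rw [hidx] at hs
  have hf : Nat.card (fixedBy (G ⧸ N) t) = 8 := by
    have h' : Nat.card (fixedBy (G ⧸ N) t) = 8 ∨ Nat.card (fixedBy (G ⧸ N) t) = 36 := by
      obtain ⟨k, hk⟩ := hs4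
      unfold Nat.ModEq at hmod
      omega
    rcases h' with h' | h'
    · exact h'
    · exfalso
      have ht1 : t = 1 := by
        apply eq_one_of_smul_eq N hNtop
        apply smul_eq_of_card_fixedBy
        rw [h', ← hidx, Subgroup.index]
      rw [ht1, orderOf_one] at ht
      omega
  -- the other fixed points
  have hα : ∀ y ∈ N, y • ((1 : G) : G ⧸ N) = ((1 : G) : G ⧸ N) := by
    intro y hy
    rw [Cfsg.Agent.S1018.smul_mk_eq_iff]
    simpa using hy
  set F' : Set (G ⧸ N) := fixedBy (G ⧸ N) t \ {((1 : G) : G ⧸ N)} with hF'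
  have hF'card : Nat.card ↥F' = 7 := by
    rw [Nat.card_coe_set_eq, hF', Set.ncard_diff_singleton_of_mem, ← Nat.card_coe_set_eq, hf]
    rw [mem_fixedBy]
    exact hα t (hCN (hTC htT))
  have hTinv : ∀ y ∈ T, ∀ a ∈ F', y • a ∈ F' := by
    rintro y hy a ⟨ha1, ha2⟩
    refine ⟨?_, ?_⟩
    · rw [mem_fixedBy] at ha1 ⊢
      have hty : t * y = y * t := hcommT t htT y hy
      rw [smul_smul, hty, ← smul_smul, ha1]
    · intro h
      apply ha2
      rw [Set.mem_singleton_iff] at h ⊢
      have hyN : y⁻¹ ∈ N := N.inv_mem (hCN (hTC hy))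
      calc a = y⁻¹ • (y • a) := by rw [inv_smul_smul]
        _ = y⁻¹ • ((1 : G) : G ⧸ N) := by rw [h]
        _ = ((1 : G) : G ⧸ N) := hα _ hyN
  have hTp : IsPGroup 2 T := IsPGroup.of_card hTc
  have h1 := card_invariant_modEq T hTp F' hTinv
  have hpos : 0 < Nat.card {a : G ⧸ N // a ∈ F' ∧ ∀ y ∈ T, y • a = a} := by
    rw [hF'card] at h1
    unfold Nat.ModEq at h1
    omega
  obtain ⟨⟨β, ⟨hβ1, hβ2⟩, hβT⟩⟩ := (Nat.card_pos_iff.mp hpos).1
  obtain ⟨g, rfl⟩ := QuotientGroup.mk_surjective β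
  have hgN : g ∉ N := by
    intro h
    apply hβ2
    rw [Set.mem_singleton_iff, QuotientGroup.eq]
    simpa using N.inv_mem h
  -- the conjugate T' of T inside N
  set T' : Subgroup G := T.map (MulAut.conj g⁻¹).toMonoidHom with hT'
  have hT'c : Nat.card ↥T' = 2 ^ 2 := by
    rw [hT', Subgroup.card_map_of_injective (MulAut.conj g⁻¹).injective]
    exact hTc
  have hT'N : T' ≤ N := by
    rintro _ ⟨y, hy, rfl⟩
    have := hβT y hy
    rw [Cfsg.Agent.S1018.smul_mk_eq_iff] at this
    simpa [MulAut.conj_apply] using this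
  have hT'comm := comm_of_card_prime_sq (p := 2) T' hT'c
  have hdvd := relIndex_centralizer_dvd (P : Subgroup G) T' hT'N
  rw [← hC, ← hN, hr] at hdvd
  have hK := card_inf_mul_relIndex C T'
  rw [hT'c] at hK
  have h2K : 2 ∣ Nat.card ↥(C ⊓ T') := by
    have hle := Nat.le_of_dvd (by norm_num) hdvd
    have hpos' : 0 < C.relIndex T' := Nat.pos_of_ne_zero (fun h => by rw [h] at hK; omega)
    interval_cases hrr : C.relIndex T'
    · exact ⟨2, by omega⟩
    · exact ⟨1, by omega⟩
  obtain ⟨t0, ht0K, ht0⟩ := exists_invol_mem (C ⊓ T') h2K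
  have ht0C : t0 ∈ C := ht0K.1
  obtain ⟨y0, hy0, hy0t⟩ := ht0K.2
  have hy0t' : g⁻¹ * y0 * g = t0 := by simpa [MulAut.conj_apply] using hy0t
  have hPM : (P : Subgroup G) ≤ Subgroup.centralizer ({t0} : Set G) := by
    intro x hx
    rw [Subgroup.mem_centralizer_singleton_iff]
    exact (Subgroup.mem_centralizer_iff.mp ht0C) x hx
  have hT'M : T' ≤ Subgroup.centralizer ({t0} : Set G) := by
    intro x hx
    rw [Subgroup.mem_centralizer_singleton_iff]
    exact hT'comm x hx t0 ht0K.2
  -- the second Sylow subgroup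
  set R : Sylow 7 G := g⁻¹ • P with hR
  have hRne : R ≠ P := by
    intro h
    rw [hR, Sylow.smul_eq_iff_mem_normalizer] at h
    apply hgN
    have := Subgroup.inv_mem _ h
    rwa [inv_inv] at this
  have hRM : (R : Subgroup G) ≤ Subgroup.centralizer ({t0} : Set G) := by
    intro x hx
    rw [hR, Sylow.coe_subgroup_smul, Subgroup.mem_pointwise_smul_iff_inv_smul_mem] at hx
    have hz : g * x * g⁻¹ ∈ (P : Subgroup G) := by simpa [MulAut.smul_def] using hx
    have hcz : (g * x * g⁻¹) * y0 = y0 * (g * x * g⁻¹) :=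
      (Subgroup.mem_centralizer_iff.mp (hTC hy0)) _ hz
    rw [Subgroup.mem_centralizer_singleton_iff, ← hy0t']
    calc x * (g⁻¹ * y0 * g) = g⁻¹ * ((g * x * g⁻¹) * y0) * g := by group
      _ = g⁻¹ * (y0 * (g * x * g⁻¹)) * g := by rw [hcz]
      _ = g⁻¹ * y0 * g * x := by group
  set M := Subgroup.centralizer ({t0} : Set G) with hMdef
  have hcount := card_sylow_subgroup_mul P M hPM
  rw [← hN] at hcount
  have hmodM : Nat.card (Sylow 7 ↥M) % 7 = 1 := by
    have := card_sylow_modEq_one 7 ↥M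
    unfold Nat.ModEq at this
    omega
  have hneM : Nat.card (Sylow 7 ↥M) ≠ 1 := by
    intro h
    have hsub : Subsingleton (Sylow 7 ↥M) := (Nat.card_eq_one_iff_unique.mp h).1
    have e : P.subtype hPM = R.subtype hRM := Subsingleton.elim _ _
    exact hRne (Sylow.subtype_injective e).symm
  have h7 : 7 ∣ Nat.card ↥(N ⊓ M) := by
    have := Subgroup.card_dvd_of_le (le_inf (Subgroup.le_normalizer (H := (P : Subgroup G))) hPM)
    rwa [hP] at this
  have h4 : 4 ∣ Nat.card ↥(N ⊓ M) := by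
    have := Subgroup.card_dvd_of_le (le_inf hT'N hT'M)
    rwa [hT'c] at this
  have h56 : Nat.card ↥(N ⊓ M) ∣ 56 := by
    have := Subgroup.card_dvd_of_le (inf_le_left : N ⊓ M ≤ N)
    rwa [hNc] at this
  have hMdvd : Nat.card ↥M ∣ 2016 := by
    rw [← hG]; exact Subgroup.card_subgroup_dvd_card M
  have hkk : Nat.card ↥(N ⊓ M) = 28 ∨ Nat.card ↥(N ⊓ M) = 56 := by
    have key : ∀ k : ℕ, k ∣ 56 → 7 ∣ k → 4 ∣ k → k = 28 ∨ k = 56 := by
      intro k hk h7' h4'
      have hle := Nat.le_of_dvd (by norm_num) hk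
      interval_cases k <;> omega
    exact key _ h56 h7 h4
  have hMcases : Nat.card ↥M = 224 ∨ Nat.card ↥M = 1008 ∨ Nat.card ↥M = 2016 := by
    have hn73 : Nat.card (Sylow 7 ↥M) < 73 := by
      have hMle := Nat.le_of_dvd (by norm_num) hMdvd
      rcases hkk with hk | hk <;> rw [hk] at hcount <;> omega
    obtain ⟨hA, hB⟩ := arithM _ hn73 hmodM hneM
    rcases hkk with hk | hk
    · rw [hk] at hcount
      rcases hA (by rw [hcount]; exact Nat.mod_eq_zero_of_dvd hMdvd) with h | h
      · left; omega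
      · right; left; omega
    · rw [hk] at hcount
      have := hB (by rw [hcount]; exact Nat.mod_eq_zero_of_dvd hMdvd)
      right; right; omega
  rcases hMcases with hM | hM | hM
  · exact endgame hG hnc t0 ht0 (P : Subgroup G) hP hPM hM
  · have hidxM : M.index = 2 := by
      have := M.card_mul_index
      rw [hM, hG] at this
      omega
    have hMtop : M ≠ ⊤ := by
      intro h
      rw [h, Subgroup.index_top] at hidxM
      omega
    have := card_dvd_factorial_index M hMtop
    rw [hidxM, hG] at this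
    revert this
    decide
  · have hMtop : M = ⊤ := by
      apply Subgroup.eq_top_of_card_eq
      rw [hM, hG]
    have hcen : t0 ∈ Subgroup.center G := by
      rw [Subgroup.mem_center_iff]
      intro x
      have hx : x ∈ M := by rw [hMtop]; trivial
      rw [hMdef, Subgroup.mem_centralizer_singleton_iff] at hx
      exact hx
    rw [center_eq_bot hnc, Subgroup.mem_bot] at hcen
    rw [hcen, orderOf_one] at ht0
    omega

/-- No finite simple group has order 2016 = 2^5 * 3^2 * 7. -/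
theorem result {G : Type*} [Group G] [Finite G] [IsSimpleGroup G] : Nat.card G ≠ 2016 := by
  intro hG
  have hnc : ¬ IsMulCommutative G := by
    apply not_comm_of_card_not_prime
    rw [hG]; norm_num
  haveI : Fact (Nat.Prime 7) := ⟨by norm_num⟩
  obtain ⟨P⟩ : Nonempty (Sylow 7 G) := inferInstance
  obtain ⟨hP, h | h⟩ := sylow7_data hG hnc P
  · exact caseA hG P hP h.2.1 h.2.2
  · exact caseB hG hnc P hP h.2.1 h.2.2.1 h.2.2.2

end Cfsg.Agent.S1017
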