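import Cfsg.Statements.S1043
import Cfsg.Agent.Lib.Helper7.ChevWordGL

set_option autoImplicit false
open Cfsg

namespace Cfsg.Agent.S1043
open Cfsg.Lie Cfsg.Agent.Lib.Helper7
open Cfsg.Lie Cfsg.Agent.Lib.Helper7

theorem main {F : Type*} [Field F] (D : ChevalleyDatum)
    (hD : D ∈ [chevG2, chevB2, chevD4, chevF4, chevE6, chevE7, chevE8]) :
    D.borelSubgroup F ≤ D.group F ∧ D.monomialSubgroup F ≤ D.group F ∧
      D.borelSubgroup F ⊔ D.monomialSubgroup F = D.group F := by
  have hU : D.posUnipotent F ≤ D.group F := by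
    unfold ChevalleyDatum.posUnipotent
    rw [Subgroup.closure_le]
    rintro g ⟨r, t, hr, hg⟩
    apply Subgroup.subset_closure
    exact ⟨⟨r, hr.1⟩, t, by rw [hg, x_eq_xMat D F r hr.1]⟩
  have hH : D.diagonalSubgroup F ≤ D.group F := by
    unfold ChevalleyDatum.diagonalSubgroup
    rw [Subgroup.closure_le]
    rintro g ⟨r, t, _, _, hg⟩
    exact mem_group_of_coe_eq_wordMat D hD F g _ hg
  have hB : D.borelSubgroup F ≤ D.group F := sup_le hU hH
  have hN : D.monomialSubgroup F ≤ D.group F := by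
    unfold ChevalleyDatum.monomialSubgroup
    apply sup_le hH
    rw [Subgroup.closure_le]
    rintro g ⟨r, _, hg⟩
    exact mem_group_of_coe_eq_wordMat D hD F g _ hg
  refine ⟨hB, hN, le_antisymm (sup_le hB hN) ?_⟩
  -- generators of G lie in B ⊔ N
  have hUle : D.posUnipotent F ≤ D.borelSubgroup F ⊔ D.monomialSubgroup F :=
    le_trans le_sup_left le_sup_left
  have hNle : D.monomialSubgroup F ≤ D.borelSubgroup F ⊔ D.monomialSubgroup F := le_sup_right
  have hxpos : ∀ r, D.IsPosRoot r → ∀ t : F, xGL D hD F r t ∈ D.posUnipotent F := by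
    intro r hr t
    apply Subgroup.subset_closure
    exact ⟨r, t, hr, coe_xGL D hD F r t⟩
  have hnmem : ∀ r, r < D.nroots → ∀ t : F, t ≠ 0 → wordGL D hD F (D.nWord r t) ∈ D.monomialSubgroup F := by
    intro r hr t ht
    rw [nGL_eq_hGL_mul]
    unfold ChevalleyDatum.monomialSubgroup
    apply Subgroup.mul_mem
    · apply Subgroup.mem_sup_left
      apply Subgroup.subset_closure
      exact ⟨r, t, hr, ht, by rw [coe_wordGL]; rfl⟩
    · apply Subgroup.mem_sup_right
      apply Subgroup.subset_closure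
      exact ⟨r, hr, by rw [coe_wordGL]; rfl⟩
  unfold ChevalleyDatum.group
  rw [Subgroup.closure_le]
  rintro g ⟨r, t, hg⟩
  have hgx : g = xGL D hD F r.val t := Units.ext (by rw [hg, coe_xGL, x_eq_xMat D F r.val r.isLt])
  rw [hgx]
  rcases posOrNeg_of_mem D hD r.val r.isLt with hp | hn
  · exact hUle (hxpos r.val hp t)
  · obtain ⟨hinv, hlt, hpos⟩ := negInvOK_of_mem D hD r.val r.isLt
    have hp := hpos hn
    by_cases ht : t = 0
    · rw [ht, xGL_zero]; exact Subgroup.one_mem _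
    · -- r' = neg r positive, c = -t⁻¹
      set r' := D.negIdx.getD r.val 0 with hr'
      have hc : -t⁻¹ ≠ 0 := neg_ne_zero.mpr (inv_ne_zero ht)
      have hnn := hnmem r' hlt (-t⁻¹) hc
      rw [nGL_eq] at hnn
      have hnegr' : D.neg r' = r.val := hinv
      have hcc : -(-t⁻¹)⁻¹ = t := by rw [inv_neg, inv_inv, neg_neg]
      rw [hnegr', hcc] at hnn
      have hx1 := hxpos r' hp (-t⁻¹)
      have key : xGL D hD F r.val t = (xGL D hD F r' (-t⁻¹))⁻¹ *
          (xGL D hD F r' (-t⁻¹) * xGL D hD F r.val t * xGL D hD F r' (-t⁻¹)) *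
          (xGL D hD F r' (-t⁻¹))⁻¹ := by group
      rw [key]
      exact Subgroup.mul_mem _ (Subgroup.mul_mem _ (Subgroup.inv_mem _ (hUle hx1)) (hNle hnn))
        (Subgroup.inv_mem _ (hUle hx1))




/-- `B ≤ G`, `N ≤ G` and `B ⊔ N = G` for the Chevalley group `G` generated by all root elements. -/
theorem result {F : Type*} [Field F] (D : Cfsg.Lie.ChevalleyDatum) (hD : D ∈ [Cfsg.Lie.chevG2, Cfsg.Lie.chevB2, Cfsg.Lie.chevD4, Cfsg.Lie.chevF4, Cfsg.Lie.chevE6, Cfsg.Lie.chevE7, Cfsg.Lie.chevE8]) :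
    D.borelSubgroup F ≤ D.group F ∧ D.monomialSubgroup F ≤ D.group F ∧ D.borelSubgroup F ⊔ D.monomialSubgroup F = D.group F := by
  exact main D hD

end Cfsg.Agent.S1043
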