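import Cfsg.Statements.S1068
import Cfsg.Agent.Lib.Helper7.F4Ord
import Cfsg.Agent.Lib.Helper11.F4Tw8
-- import your own Cfsg.Agent.* helpers here

set_option autoImplicit false
open Cfsg

namespace Cfsg.Agent.S1068

/-- `|²F₄(q)| = q¹² (q - 1)(q³ + 1)(q⁴ - 1)(q⁶ + 1)` for `q = 2^(2m+1)` (θ = 2^m-th power map), every `m ≥ 0`. -/
theorem result {K : Type*} [Field K] [Fintype K] {m : ℕ} (hK : Fintype.card K = 2 ^ (2 * m + 1)) :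
    Nat.card ↥(Cfsg.Lie.twistedF4 K (2 ^ m)) =
      (2 ^ (2 * m + 1)) ^ 12 * (2 ^ (2 * m + 1) - 1) * ((2 ^ (2 * m + 1)) ^ 3 + 1) * ((2 ^ (2 * m + 1)) ^ 4 - 1) * ((2 ^ (2 * m + 1)) ^ 6 + 1) := by
  classical
  obtain ⟨τ, hτ⟩ := Cfsg.Agent.Lib.Helper11.F4T.exists_tauData hK
  rw [Cfsg.Agent.Lib.Helper7.F4O.card_twistedF4_aux hτ]
  have hF : Nat.card K = 2 ^ (2 * m + 1) := by rw [Nat.card_eq_fintype_card, hK]
  have hU : Nat.card Kˣ = 2 ^ (2 * m + 1) - 1 := by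
    rw [Nat.card_eq_fintype_card, Fintype.card_units, hK]
  rw [hF, hU]
  obtain ⟨n, hn⟩ : ∃ n, 2 ^ (2 * m + 1) = n + 1 := ⟨2 ^ (2 * m + 1) - 1, by
    have : 0 < 2 ^ (2 * m + 1) := Nat.pos_of_ne_zero (by positivity)
    omega⟩
  rw [hn, Nat.add_sub_cancel]
  have h4 : (n + 1) ^ 4 - 1 = n * ((n + 1) + 1) * ((n + 1) ^ 2 + 1) := by
    apply Nat.sub_eq_of_eq_add; ring
  rw [h4]
  ring

end Cfsg.Agent.S1068
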