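import Cfsg.Statements.S1078
import Cfsg.Agent.Lib.Helper11.StPresH

set_option autoImplicit false
open Cfsg

namespace Cfsg.Agent.S1078

/-- For G₂, F₄, E₈ the presented group has trivial centre (the universal and adjoint groups coincide). -/
theorem result {K : Type*} [Field K] (D : Cfsg.Lie.ChevalleyDatum) (hD : D ∈ [Cfsg.Lie.chevG2, Cfsg.Lie.chevF4, Cfsg.Lie.chevE8]) :
    Subgroup.center (D.SteinbergGroup K) = ⊥ := by
  have hD7 : D ∈ [Cfsg.Lie.chevG2, Cfsg.Lie.chevB2, Cfsg.Lie.chevD4, Cfsg.Lie.chevF4, Cfsg.Lie.chevE6,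
      Cfsg.Lie.chevE7, Cfsg.Lie.chevE8] := by
    simp only [List.mem_cons, List.not_mem_nil, or_false] at hD ⊢
    rcases hD with h | h | h <;> simp [h]
  obtain ⟨B, hB⟩ := Cfsg.Agent.Lib.Helper11.StPres.exists_cartanInv D hD
  let S := Cfsg.Agent.Lib.Helper11.StPres.stData hD7 (K := K)
  rw [← S.θG_ker_eq_center, S.θG_ker]
  exact S.ker_eq_bot_of_cartanInv (Cfsg.Agent.Lib.Helper11.StPres.stData_R3 hD7) B hB

end Cfsg.Agent.S1078
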