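import Cfsg.Statements.S1079
import Cfsg.Agent.Lib.Helper11.StPresJTab

set_option autoImplicit false
open Cfsg

namespace Cfsg.Agent.S1079

/-- `|Z(Ḡ)| = gcd(3, q-1)` for E₆ and `gcd(2, q-1)` for E₇ over a field with `q` elements (the centre is dual to the weight lattice modulo the root lattice). -/
theorem result {K : Type*} [Field K] [Fintype K] {q : ℕ} (hq : Fintype.card K = q)
    (p : Cfsg.Lie.ChevalleyDatum × ℕ) (hp : p ∈ [(Cfsg.Lie.chevE6, 3), (Cfsg.Lie.chevE7, 2)]) :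
    Nat.card (Subgroup.center (p.1.SteinbergGroup K)) = Nat.gcd p.2 (q - 1) := by
  simp only [List.mem_cons, List.not_mem_nil, or_false] at hp
  have hK : Nat.card Kˣ = q - 1 := by
    rw [Nat.card_units, Nat.card_eq_fintype_card, hq]
  have h6 : Cfsg.Lie.chevE6 ∈ [Cfsg.Lie.chevG2, Cfsg.Lie.chevB2, Cfsg.Lie.chevD4, Cfsg.Lie.chevF4,
      Cfsg.Lie.chevE6, Cfsg.Lie.chevE7, Cfsg.Lie.chevE8] := by simp
  have h7 : Cfsg.Lie.chevE7 ∈ [Cfsg.Lie.chevG2, Cfsg.Lie.chevB2, Cfsg.Lie.chevD4, Cfsg.Lie.chevF4,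
      Cfsg.Lie.chevE6, Cfsg.Lie.chevE7, Cfsg.Lie.chevE8] := by simp
  have h8 : Cfsg.Lie.chevE8 ∈ [Cfsg.Lie.chevG2, Cfsg.Lie.chevB2, Cfsg.Lie.chevD4, Cfsg.Lie.chevF4,
      Cfsg.Lie.chevE6, Cfsg.Lie.chevE7, Cfsg.Lie.chevE8] := by simp
  rcases hp with rfl | rfl
  · show Nat.card (Subgroup.center (Cfsg.Lie.chevE6.SteinbergGroup K)) = Nat.gcd 3 (q - 1)
    rw [← (Cfsg.Agent.Lib.Helper11.StPres.stData h6 (K := K)).θG_ker_eq_center,
      (Cfsg.Agent.Lib.Helper11.StPres.stData h6 (K := K)).θG_ker,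
      Cfsg.Agent.Lib.Helper11.StPres.card_ker_eq h6 h7 K Cfsg.Agent.Lib.Helper11.StPres.centerTab_E6
        (Cfsg.Agent.Lib.Helper11.StPres.centerFacts_of_OKB _ _ _ Cfsg.Agent.Lib.Helper11.StPres.centerOKB_E6)
        (Cfsg.Agent.Lib.Helper11.StPres.embFacts_of_OKB _ _ _ Cfsg.Agent.Lib.Helper11.StPres.embOKB_E6E7),
      IsCyclic.card_powMonoidHom_ker, hK, Nat.gcd_comm]
    rfl
  · show Nat.card (Subgroup.center (Cfsg.Lie.chevE7.SteinbergGroup K)) = Nat.gcd 2 (q - 1)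
    rw [← (Cfsg.Agent.Lib.Helper11.StPres.stData h7 (K := K)).θG_ker_eq_center,
      (Cfsg.Agent.Lib.Helper11.StPres.stData h7 (K := K)).θG_ker,
      Cfsg.Agent.Lib.Helper11.StPres.card_ker_eq h7 h8 K Cfsg.Agent.Lib.Helper11.StPres.centerTab_E7
        (Cfsg.Agent.Lib.Helper11.StPres.centerFacts_of_OKB _ _ _ Cfsg.Agent.Lib.Helper11.StPres.centerOKB_E7)
        (Cfsg.Agent.Lib.Helper11.StPres.embFacts_of_OKB _ _ _ Cfsg.Agent.Lib.Helper11.StPres.embOKB_E7E8),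
      IsCyclic.card_powMonoidHom_ker, hK, Nat.gcd_comm]
    rfl

end Cfsg.Agent.S1079
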