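import Cfsg.Statements.S1085
import Cfsg.Agent.Lib.Helper7.ChevTwistTab2E6
import Cfsg.Agent.Lib.Helper7.ChevTwistBN10
-- import your own Cfsg.Agent.* helpers here

set_option autoImplicit false
open Cfsg

namespace Cfsg.Agent.S1085

/-- ²E₆(q) has a (B,N)-pair: B¹ = G¹ ∩ B and N¹ = G¹ ∩ N, intersections with the ambient Chevalley group's B = UH and N. -/
theorem result {K : Type*} [Field K] [Fintype K] {q : ℕ} (hq : IsPrimePow q) (hK : Fintype.card K = q ^ 2) :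
    ∃ P : Cfsg.BNPair ↥(Cfsg.Lie.twistedE6 K q),
      P.B = (Cfsg.Lie.chevE6.borelSubgroup K ⊓ Cfsg.Lie.twistedE6 K q).subgroupOf (Cfsg.Lie.twistedE6 K q) ∧
      P.N = (Cfsg.Lie.chevE6.monomialSubgroup K ⊓ Cfsg.Lie.twistedE6 K q).subgroupOf (Cfsg.Lie.twistedE6 K q) := by
  obtain ⟨φ, hφ, hiter, hfix⟩ := Cfsg.Agent.Lib.Helper7.exists_frob K q 2 hq (by norm_num) hK
  have hW : Cfsg.Lie.e6Words K q = Cfsg.Agent.Lib.Helper7.twWords K φ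
      [Cfsg.Lie.e6p2, Cfsg.Lie.e6m2, Cfsg.Lie.e6p4, Cfsg.Lie.e6m4]
      [(Cfsg.Lie.e6p1, Cfsg.Lie.e6p6), (Cfsg.Lie.e6m1, Cfsg.Lie.e6m6), (Cfsg.Lie.e6p3, Cfsg.Lie.e6p5),
        (Cfsg.Lie.e6m3, Cfsg.Lie.e6m5)] [] := by
    ext w
    simp only [Cfsg.Lie.e6Words, Cfsg.Agent.Lib.Helper7.twWords, hφ, Set.mem_union, Set.mem_setOf_eq,
      List.not_mem_nil, false_and, exists_false, or_false]
  have hG : Cfsg.Lie.twistedE6 K q = Cfsg.Lie.chevE6.genSubgroup K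
      (Cfsg.Agent.Lib.Helper7.twWords K φ
      [Cfsg.Lie.e6p2, Cfsg.Lie.e6m2, Cfsg.Lie.e6p4, Cfsg.Lie.e6m4]
      [(Cfsg.Lie.e6p1, Cfsg.Lie.e6p6), (Cfsg.Lie.e6m1, Cfsg.Lie.e6m6), (Cfsg.Lie.e6p3, Cfsg.Lie.e6p5),
        (Cfsg.Lie.e6m3, Cfsg.Lie.e6m5)] []) := by
    unfold Cfsg.Lie.twistedE6
    rw [hW]
  rw [hG]
  obtain ⟨P, hPB, hPN, -⟩ := Cfsg.Agent.Lib.Helper7.exists_twistedBNPair Cfsg.Lie.chevE6 (by simp)
    _ _ _ _ _ _ _ _ _ _ _ _ _ _ Cfsg.Agent.Lib.Helper7.twistTab_E6 Cfsg.Agent.Lib.Helper7.twistTab2_E6 K φ hiter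
  exact ⟨P, hPB, hPN⟩

end Cfsg.Agent.S1085
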