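import Cfsg.Statements.S1087
import Cfsg.Agent.Lib.Helper7.ChevTwistTab2D4
import Cfsg.Agent.Lib.Helper7.ChevTwistBN10
-- import your own Cfsg.Agent.* helpers here

set_option autoImplicit false
open Cfsg

namespace Cfsg.Agent.S1087

/-- ³D₄(q) has a (B,N)-pair: B¹ = G¹ ∩ B and N¹ = G¹ ∩ N, intersections with the ambient Chevalley group's B = UH and N. -/
theorem result {K : Type*} [Field K] [Fintype K] {q : ℕ} (hq : IsPrimePow q) (hK : Fintype.card K = q ^ 3) :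
    ∃ P : Cfsg.BNPair ↥(Cfsg.Lie.twistedD4 K q),
      P.B = (Cfsg.Lie.chevD4.borelSubgroup K ⊓ Cfsg.Lie.twistedD4 K q).subgroupOf (Cfsg.Lie.twistedD4 K q) ∧
      P.N = (Cfsg.Lie.chevD4.monomialSubgroup K ⊓ Cfsg.Lie.twistedD4 K q).subgroupOf (Cfsg.Lie.twistedD4 K q) := by
  obtain ⟨φ, hφ, hiter, hfix⟩ := Cfsg.Agent.Lib.Helper7.exists_frob K q 3 hq (by norm_num) hK
  have hW : Cfsg.Lie.d4Words K q = Cfsg.Agent.Lib.Helper7.twWords K φ [Cfsg.Lie.d4p2, Cfsg.Lie.d4m2] []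
      [(Cfsg.Lie.d4p1, Cfsg.Lie.d4p3, Cfsg.Lie.d4p4), (Cfsg.Lie.d4m1, Cfsg.Lie.d4m3, Cfsg.Lie.d4m4)] := by
    have h2 : ∀ t : K, t ^ q ^ 2 = (t ^ q) ^ q := fun t => by rw [← pow_mul, pow_two]
    ext w
    simp only [Cfsg.Lie.d4Words, Cfsg.Agent.Lib.Helper7.twWords, hφ, h2, Set.mem_union, Set.mem_setOf_eq,
      List.not_mem_nil, false_and, exists_false, or_false]
  have hG : Cfsg.Lie.twistedD4 K q = Cfsg.Lie.chevD4.genSubgroup K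
      (Cfsg.Agent.Lib.Helper7.twWords K φ [Cfsg.Lie.d4p2, Cfsg.Lie.d4m2] []
        [(Cfsg.Lie.d4p1, Cfsg.Lie.d4p3, Cfsg.Lie.d4p4), (Cfsg.Lie.d4m1, Cfsg.Lie.d4m3, Cfsg.Lie.d4m4)]) := by
    unfold Cfsg.Lie.twistedD4
    rw [hW]
  rw [hG]
  obtain ⟨P, hPB, hPN, -⟩ := Cfsg.Agent.Lib.Helper7.exists_twistedBNPair Cfsg.Lie.chevD4 (by simp)
    _ _ _ _ _ _ _ _ _ _ _ _ _ _ Cfsg.Agent.Lib.Helper7.twistTab_D4 Cfsg.Agent.Lib.Helper7.twistTab2_D4 K φ hiter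
  exact ⟨P, hPB, hPN⟩

end Cfsg.Agent.S1087
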