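import Cfsg.Statements.S1088
import Cfsg.Agent.Lib.Helper7.ChevTwistTabD4
-- import your own Cfsg.Agent.* helpers here

set_option autoImplicit false
open Cfsg

namespace Cfsg.Agent.S1088

/-- |U¹| = |G¹ ∩ U| = q ^ 12 for ³D₄(q). -/
theorem result {K : Type*} [Field K] [Fintype K] {q : ℕ} (hq : IsPrimePow q) (hK : Fintype.card K = q ^ 3) :
    Nat.card ↥(Cfsg.Lie.chevD4.posUnipotent K ⊓ Cfsg.Lie.twistedD4 K q) = q ^ 12 := by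
  obtain ⟨φ, hφ, hiter, hfix⟩ := Cfsg.Agent.Lib.Helper7.exists_frob K q 3 hq (by norm_num) hK
  have hW : Cfsg.Lie.d4Words K q = Cfsg.Agent.Lib.Helper7.twWords K φ [Cfsg.Lie.d4p2, Cfsg.Lie.d4m2] []
      [(Cfsg.Lie.d4p1, Cfsg.Lie.d4p3, Cfsg.Lie.d4p4), (Cfsg.Lie.d4m1, Cfsg.Lie.d4m3, Cfsg.Lie.d4m4)] := by
    have h2 : ∀ t : K, t ^ q ^ 2 = (t ^ q) ^ q := fun t => by rw [← pow_mul, pow_two]
    ext w
    simp only [Cfsg.Lie.d4Words, Cfsg.Agent.Lib.Helper7.twWords, hφ, h2, Set.mem_union, Set.mem_setOf_eq,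
      List.not_mem_nil, false_and, exists_false, or_false]
  have hG : Cfsg.Lie.twistedD4 K q = Cfsg.Lie.chevD4.genSubgroup K
      (Cfsg.Agent.Lib.Helper7.twWords K φ [Cfsg.Lie.d4p2, Cfsg.Lie.d4m2] []
        [(Cfsg.Lie.d4p1, Cfsg.Lie.d4p3, Cfsg.Lie.d4p4), (Cfsg.Lie.d4m1, Cfsg.Lie.d4m3, Cfsg.Lie.d4m4)]) := by
    unfold Cfsg.Lie.twistedD4
    rw [hW]
  rw [hG, Cfsg.Agent.Lib.Helper7.card_posUnipotent_inf_twGroup Cfsg.Lie.chevD4 (by simp) _ _ _ _ _ _ _ _ _ _ _ _ _ _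
    Cfsg.Agent.Lib.Helper7.twistTab_D4 K φ q (by rw [Nat.card_eq_fintype_card, hK]) hfix hiter,
    Cfsg.Agent.Lib.Helper7.twCls_D4_length]

end Cfsg.Agent.S1088
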