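import Cfsg.Statements.S1098
import Cfsg.Agent.Lib.Helper11.IsogB2
import Cfsg.Agent.Lib.Helper11.IsogF4
-- import your own Cfsg.Agent.* helpers here

set_option autoImplicit false
open Cfsg

namespace Cfsg.Agent.S1098


open Cfsg.Agent.Lib.Helper11 Cfsg.Agent.Lib.Helper11.Isog in
theorem aux {K : Type*} [Field K] (D : Cfsg.Lie.ChevalleyDatum)
    (hD : D ∈ [Cfsg.Lie.chevG2, Cfsg.Lie.chevB2, Cfsg.Lie.chevD4, Cfsg.Lie.chevF4, Cfsg.Lie.chevE6, Cfsg.Lie.chevE7, Cfsg.Lie.chevE8])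
    (α : ↥(D.group K) ≃* ↥(D.group K)) (r r' e : ℕ)
    (hα : ∀ t : K, α (xG D hD K r t) = xG D hD K r' (t ^ e)) (g : ↥(D.group K)) (t : K)
    (h : ((g : GL D.Idx K) : Matrix D.Idx D.Idx K) = D.x K r t) :
    ((α g : GL D.Idx K) : Matrix D.Idx D.Idx K) = D.x K r' (t ^ e) := by
  rw [eq_xG_of_coe D hD K g r t h, hα t]
  rfl

/-- Graph automorphisms in characteristic 2 (K perfect): for B₂ (a short, b long) `x_a(t) ↦ x_b(t²)`, `x_b(t) ↦ x_a(t)`, and for F₄ (p₁, p₂ short, p₃, p₄ long) `x_{p₁}(t) ↦ x_{p₄}(t²)`, `x_{p₂}(t) ↦ x_{p₃}(t²)`, `x_{p₃}(t) ↦ x_{p₂}(t)`, `x_{p₄}(t) ↦ x_{p₁}(t)`, likewise on the negatives, extend to an automorphism of the group. -/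
theorem result {K : Type*} [Field K] [CharP K 2] (hperf : ∀ x : K, ∃ y : K, y ^ 2 = x)
    (p : Cfsg.Lie.ChevalleyDatum × List (ℕ × ℕ))
    (hp : p ∈ [(Cfsg.Lie.chevB2, [(1, 2), (0, 1)]), (Cfsg.Lie.chevF4, [(3, 2), (2, 2), (1, 1), (0, 1)])]) :
    ∃ α : ↥(p.1.group K) ≃* ↥(p.1.group K), ∀ (g : ↥(p.1.group K)) (i : ℕ) (t : K), i < p.1.rank →
      (((g : GL p.1.Idx K) : Matrix p.1.Idx p.1.Idx K) = p.1.x K (p.1.simple i) t →
        ((α g : GL p.1.Idx K) : Matrix p.1.Idx p.1.Idx K) = p.1.x K (p.1.simple (p.2.getD i (0, 1)).1) (t ^ (p.2.getD i (0, 1)).2)) ∧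
      (((g : GL p.1.Idx K) : Matrix p.1.Idx p.1.Idx K) = p.1.x K (p.1.neg (p.1.simple i)) t →
        ((α g : GL p.1.Idx K) : Matrix p.1.Idx p.1.Idx K) = p.1.x K (p.1.neg (p.1.simple (p.2.getD i (0, 1)).1)) (t ^ (p.2.getD i (0, 1)).2)) := by
  simp only [List.mem_cons, List.not_mem_nil, or_false] at hp
  rcases hp with rfl | rfl
  · obtain ⟨α, hα⟩ := Cfsg.Agent.Lib.Helper11.Isog.b2_exists_equiv K hperf
    refine ⟨α, fun g i t hi => ?_⟩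
    have hi' : i = 0 ∨ i = 1 := by
      have : i < 2 := hi
      omega
    rcases hi' with rfl | rfl
    · exact ⟨aux _ Cfsg.Agent.Lib.Helper11.Isog.b2_mem α 5 4 2 (hα 5 (by decide)) g t,
        aux _ Cfsg.Agent.Lib.Helper11.Isog.b2_mem α 2 3 2 (hα 2 (by decide)) g t⟩
    · exact ⟨aux _ Cfsg.Agent.Lib.Helper11.Isog.b2_mem α 4 5 1 (hα 4 (by decide)) g t,
        aux _ Cfsg.Agent.Lib.Helper11.Isog.b2_mem α 3 2 1 (hα 3 (by decide)) g t⟩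
  · obtain ⟨α, hα⟩ := Cfsg.Agent.Lib.Helper11.Isog.f4_exists_equiv K hperf
    refine ⟨α, fun g i t hi => ?_⟩
    have hi' : i = 0 ∨ i = 1 ∨ i = 2 ∨ i = 3 := by
      have : i < 4 := hi
      omega
    rcases hi' with rfl | rfl | rfl | rfl
    · exact ⟨aux _ Cfsg.Agent.Lib.Helper11.Isog.f4_mem α 33 24 2 (hα 33 (by decide)) g t,
        aux _ Cfsg.Agent.Lib.Helper11.Isog.f4_mem α 14 23 2 (hα 14 (by decide)) g t⟩
    · exact ⟨aux _ Cfsg.Agent.Lib.Helper11.Isog.f4_mem α 27 25 2 (hα 27 (by decide)) g t,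
        aux _ Cfsg.Agent.Lib.Helper11.Isog.f4_mem α 20 22 2 (hα 20 (by decide)) g t⟩
    · exact ⟨aux _ Cfsg.Agent.Lib.Helper11.Isog.f4_mem α 25 27 1 (hα 25 (by decide)) g t,
        aux _ Cfsg.Agent.Lib.Helper11.Isog.f4_mem α 22 20 1 (hα 22 (by decide)) g t⟩
    · exact ⟨aux _ Cfsg.Agent.Lib.Helper11.Isog.f4_mem α 24 33 1 (hα 24 (by decide)) g t,
        aux _ Cfsg.Agent.Lib.Helper11.Isog.f4_mem α 23 14 1 (hα 23 (by decide)) g t⟩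

end Cfsg.Agent.S1098
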