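import Cfsg.Statements.S1099
import Cfsg.Agent.Lib.Helper11.IsogG2
-- import your own Cfsg.Agent.* helpers here

set_option autoImplicit false
open Cfsg

namespace Cfsg.Agent.S1099

/-- Graph automorphism of G₂ in characteristic 3 (K perfect): `x_a(t) ↦ x_b(t³)`, `x_b(t) ↦ x_a(t)`, `x_{-a}(t) ↦ x_{-b}(t³)`, `x_{-b}(t) ↦ x_{-a}(t)` extend to an automorphism of the group. -/
theorem result {K : Type*} [Field K] [CharP K 3] (hperf : ∀ x : K, ∃ y : K, y ^ 3 = x) :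
    ∃ α : ↥(Cfsg.Lie.chevG2.group K) ≃* ↥(Cfsg.Lie.chevG2.group K), ∀ (g : ↥(Cfsg.Lie.chevG2.group K)) (t : K),
      (((g : GL Cfsg.Lie.chevG2.Idx K) : Matrix _ _ K) = Cfsg.Lie.chevG2.x K Cfsg.Lie.g2a t →
        ((α g : GL Cfsg.Lie.chevG2.Idx K) : Matrix _ _ K) = Cfsg.Lie.chevG2.x K Cfsg.Lie.g2b (t ^ 3)) ∧
      (((g : GL Cfsg.Lie.chevG2.Idx K) : Matrix _ _ K) = Cfsg.Lie.chevG2.x K Cfsg.Lie.g2b t →
        ((α g : GL Cfsg.Lie.chevG2.Idx K) : Matrix _ _ K) = Cfsg.Lie.chevG2.x K Cfsg.Lie.g2a t) ∧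
      (((g : GL Cfsg.Lie.chevG2.Idx K) : Matrix _ _ K) = Cfsg.Lie.chevG2.x K Cfsg.Lie.g2ma t →
        ((α g : GL Cfsg.Lie.chevG2.Idx K) : Matrix _ _ K) = Cfsg.Lie.chevG2.x K Cfsg.Lie.g2mb (t ^ 3)) ∧
      (((g : GL Cfsg.Lie.chevG2.Idx K) : Matrix _ _ K) = Cfsg.Lie.chevG2.x K Cfsg.Lie.g2mb t →
        ((α g : GL Cfsg.Lie.chevG2.Idx K) : Matrix _ _ K) = Cfsg.Lie.chevG2.x K Cfsg.Lie.g2ma t) := by
  obtain ⟨α, hα⟩ := Cfsg.Agent.Lib.Helper11.Isog.g2_exists_equiv K hperf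
  refine ⟨α, fun g t => ⟨fun h => ?_, fun h => ?_, fun h => ?_, fun h => ?_⟩⟩
  · have hg := Cfsg.Agent.Lib.Helper11.eq_xG_of_coe _ Cfsg.Agent.Lib.Helper11.Isog.g2_mem K g _ t h
    have h2 : α g = Cfsg.Agent.Lib.Helper11.xG Cfsg.Lie.chevG2 Cfsg.Agent.Lib.Helper11.Isog.g2_mem K 6 (t ^ 3) := by
      rw [hg]
      have h3 : _ = Cfsg.Agent.Lib.Helper11.xG Cfsg.Lie.chevG2 Cfsg.Agent.Lib.Helper11.Isog.g2_mem K 6 (t ^ 3) :=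
        hα 7 (by decide) t
      exact h3
    rw [h2]
    rfl
  · have hg := Cfsg.Agent.Lib.Helper11.eq_xG_of_coe _ Cfsg.Agent.Lib.Helper11.Isog.g2_mem K g _ t h
    have h2 : α g = Cfsg.Agent.Lib.Helper11.xG Cfsg.Lie.chevG2 Cfsg.Agent.Lib.Helper11.Isog.g2_mem K 7 t := by
      rw [hg]
      have h3 : _ = Cfsg.Agent.Lib.Helper11.xG Cfsg.Lie.chevG2 Cfsg.Agent.Lib.Helper11.Isog.g2_mem K 7 (t ^ 1) :=
        hα 6 (by decide) t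
      rw [pow_one] at h3
      exact h3
    rw [h2]
    rfl
  · have hg := Cfsg.Agent.Lib.Helper11.eq_xG_of_coe _ Cfsg.Agent.Lib.Helper11.Isog.g2_mem K g _ t h
    have h2 : α g = Cfsg.Agent.Lib.Helper11.xG Cfsg.Lie.chevG2 Cfsg.Agent.Lib.Helper11.Isog.g2_mem K 5 (t ^ 3) := by
      rw [hg]
      have h3 : _ = Cfsg.Agent.Lib.Helper11.xG Cfsg.Lie.chevG2 Cfsg.Agent.Lib.Helper11.Isog.g2_mem K 5 (t ^ 3) :=
        hα 4 (by decide) t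
      exact h3
    rw [h2]
    rfl
  · have hg := Cfsg.Agent.Lib.Helper11.eq_xG_of_coe _ Cfsg.Agent.Lib.Helper11.Isog.g2_mem K g _ t h
    have h2 : α g = Cfsg.Agent.Lib.Helper11.xG Cfsg.Lie.chevG2 Cfsg.Agent.Lib.Helper11.Isog.g2_mem K 4 t := by
      rw [hg]
      have h3 : _ = Cfsg.Agent.Lib.Helper11.xG Cfsg.Lie.chevG2 Cfsg.Agent.Lib.Helper11.Isog.g2_mem K 4 (t ^ 1) :=
        hα 5 (by decide) t
      rw [pow_one] at h3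
      exact h3
    rw [h2]
    rfl

end Cfsg.Agent.S1099
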