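import Cfsg.Statements.S1101
import Cfsg.Agent.Lib.Helper11.ReeFix
-- import your own Cfsg.Agent.* helpers here

set_option autoImplicit false
open Cfsg

namespace Cfsg.Agent.S1101

/-- For ²G₂ over `K` with `|K| = 3^(2m+1)`, `θ = 3^m`: `U¹ = G¹ ∩ U` consists exactly of the elements `x_a(t^θ) x_b(t) x_{a+b}(t^{θ+1}+u^θ) x_{2a+b}(t^{2θ+1}+v^θ) x_{3a+b}(u) x_{3a+2b}(v)`, `t, u, v ∈ K`, and it has `|K|³` elements. -/
theorem result {K : Type*} [Field K] [Fintype K] {m : ℕ} (hK : Fintype.card K = 3 ^ (2 * m + 1)) :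
    (∀ g : GL Cfsg.Lie.chevG2.Idx K, g ∈ Cfsg.Lie.chevG2.posUnipotent K ⊓ Cfsg.Lie.twistedG2 K (3 ^ m) ↔
      ∃ t u v : K, (g : Matrix Cfsg.Lie.chevG2.Idx Cfsg.Lie.chevG2.Idx K) = Cfsg.Lie.chevG2.wordMat K (Cfsg.Lie.reeWordU (3 ^ m) t u v)) ∧
    Nat.card ↥(Cfsg.Lie.chevG2.posUnipotent K ⊓ Cfsg.Lie.twistedG2 K (3 ^ m)) = (3 ^ (2 * m + 1)) ^ 3 := by
  haveI : Fact (Nat.Prime 3) := ⟨Nat.prime_three⟩
  haveI : CharP K 3 := charP_of_card_eq_prime_pow hK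
  have hφ : ∀ x : K, iterateFrobeniusEquiv K 3 m x = x ^ 3 ^ m := fun x => rfl
  have hq : ∀ x : K, x ^ (3 * 3 ^ m * 3 ^ m) = x := by
    intro x
    have h := FiniteField.pow_card x
    rw [hK] at h
    rw [show 3 * 3 ^ m * 3 ^ m = 3 ^ (2 * m + 1) by ring]
    exact h
  have key := Cfsg.Agent.Lib.Helper11.Ree.mem_posUnipotent_inf_twistedG2 K (3 ^ m)
    (iterateFrobeniusEquiv K 3 m) hφ hq
  have hco : ∀ (g : GL Cfsg.Lie.chevG2.Idx K) (t u v : K),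
      g = Cfsg.Agent.Lib.Helper7.wordGL Cfsg.Lie.chevG2 Cfsg.Agent.Lib.Helper11.Isog.g2_mem K
        (Cfsg.Lie.reeWordU (3 ^ m) t u v) ↔
      (g : Matrix Cfsg.Lie.chevG2.Idx Cfsg.Lie.chevG2.Idx K) =
        Cfsg.Lie.chevG2.wordMat K (Cfsg.Lie.reeWordU (3 ^ m) t u v) := by
    intro g t u v
    constructor
    · rintro rfl
      exact Cfsg.Agent.Lib.Helper7.coe_wordGL _ _ K _
    · intro h
      exact Units.ext (by rw [h, Cfsg.Agent.Lib.Helper7.coe_wordGL])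
  refine ⟨fun g => ?_, ?_⟩
  · rw [key g]
    constructor
    · rintro ⟨t, u, v, h⟩
      exact ⟨t, u, v, (hco g t u v).mp h⟩
    · rintro ⟨t, u, v, h⟩
      exact ⟨t, u, v, (hco g t u v).mpr h⟩
  · let f : K × K × K → ↥(Cfsg.Lie.chevG2.posUnipotent K ⊓ Cfsg.Lie.twistedG2 K (3 ^ m)) := fun p =>
      ⟨Cfsg.Agent.Lib.Helper7.wordGL Cfsg.Lie.chevG2 Cfsg.Agent.Lib.Helper11.Isog.g2_mem K
        (Cfsg.Lie.reeWordU (3 ^ m) p.1 p.2.1 p.2.2), (key _).mpr ⟨p.1, p.2.1, p.2.2, rfl⟩⟩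
    have hf : Function.Bijective f := by
      constructor
      · rintro ⟨t, u, v⟩ ⟨t', u', v'⟩ h
        have h' := congrArg Subtype.val h
        obtain ⟨h1, h2, h3⟩ := Cfsg.Agent.Lib.Helper11.Ree.reeWordU_injective K (3 ^ m) t u v t' u' v' h'
        rw [h1, h2, h3]
      · rintro ⟨g, hg⟩
        obtain ⟨t, u, v, rfl⟩ := (key g).mp hg
        exact ⟨(t, u, v), rfl⟩
    rw [← Nat.card_congr (Equiv.ofBijective f hf), Nat.card_prod, Nat.card_prod, Nat.card_eq_fintype_card, hK]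
    ring

end Cfsg.Agent.S1101
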