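import Cfsg.Statements.S1108
import Cfsg.Agent.Lib.Helper7.ChevTwistD4
-- import your own Cfsg.Agent.* helpers here

set_option autoImplicit false
open Cfsg

namespace Cfsg.Agent.S1108

/-- ³D₄(q) equals its derived subgroup. -/
theorem result {K : Type*} [Field K] [Fintype K] {q : ℕ} (hq : IsPrimePow q) (hK : Fintype.card K = q ^ 3) : commutator ↥(Cfsg.Lie.twistedD4 K q) = ⊤ := by
  obtain ⟨φ, hφ, hiter, hfix, hG⟩ := Cfsg.Agent.Lib.Helper7.twistedD4_eq K q hq hK
  rw [hG]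
  apply Cfsg.Agent.Lib.Helper7.twD4_perfect K φ
  rw [hK]
  have := hq.two_le
  have h4 : 2 ^ 3 ≤ q ^ 3 := Nat.pow_le_pow_left this 3
  omega

end Cfsg.Agent.S1108
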