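import Cfsg.Statements.S1118
-- import your own Cfsg.Agent.* helpers here

set_option autoImplicit false
open Cfsg

namespace Cfsg.Agent.S1118

/-- In the rank-one set-up (`G` finite and doubly transitive on `Ω`, `t` an involution moving `a`, `Q` normal in `G_a` with `G_a = Q D`, `Q ⊓ D = 1` for the two-point stabiliser `D = G_a ⊓ G_{t • a}`, `|Q|` even, `|D|` odd), the normaliser of a subset of `Q` containing a non-identity element lies in `G_a`; consequently `N_G(Q) = N_G(G_a) = G_a`. -/
theorem result {G Ω : Type*} [Group G] [Finite G] [MulAction G Ω] {a : Ω} {t : G} {Q : Subgroup G}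
    (hS : Cfsg.IsRankOneSetup G Ω a t Q) :
    (∀ X : Set G, X ⊆ (Q : Set G) → (∃ x ∈ X, x ≠ 1) → Subgroup.normalizer X ≤ MulAction.stabilizer G a) ∧
      Subgroup.normalizer (Q : Set G) = MulAction.stabilizer G a ∧
      Subgroup.normalizer (MulAction.stabilizer G a : Set G) = MulAction.stabilizer G a := by
  classical
  -- abbreviations
  set Ga := MulAction.stabilizer G a with hGa
  set D := Ga ⊓ MulAction.stabilizer G (t • a) with hD
  have hta : t • a ≠ a := fun h => hS.not_mem (MulAction.mem_stabilizer_iff.mpr h)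
  have hGaN : Ga ≤ Subgroup.normalizer (Q : Set G) := by
    intro h hh
    rw [Subgroup.mem_normalizer_iff]
    intro x
    constructor
    · intro hx; exact hS.conj_mem h hh x hx
    · intro hx
      have := hS.conj_mem h⁻¹ (inv_mem hh) _ hx
      simpa [mul_assoc] using this
  -- every element of `G_a` is `q * d`
  have hdecomp : ∀ g ∈ Ga, ∃ q ∈ Q, ∃ d ∈ D, g = q * d := by
    intro g hg
    have hset :=
      Subgroup.coe_mul_of_right_le_normalizer_left Q D (le_trans inf_le_left hGaN)
    have hg' : g ∈ ((Q ⊔ D : Subgroup G) : Set G) := by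
      rw [hS.sup_eq]; exact hg
    rw [hset] at hg'
    obtain ⟨q, hq, d, hd, rfl⟩ := Set.mem_mul.mp hg'
    exact ⟨q, hq, d, hd, rfl⟩
  -- a nonidentity element of `Q` fixes only `a`
  have hfix : ∀ x ∈ Q, x ≠ 1 → ∀ b : Ω, x • b = b → b = a := by
    intro x hx hx1 b hb
    by_contra hba
    have h2 : ∀ {a b c d : Ω} (_ : a ≠ b) (_ : c ≠ d), ∃ g : G, g • a = c ∧ g • b = d :=
      MulAction.is_two_pretransitive_iff.mp hS.two_transitive
    obtain ⟨g, hga, hgb⟩ := h2 (a := a) (b := t • a) (c := a) (d := b) (Ne.symm hta) (Ne.symm hba)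
    have hgGa : g ∈ Ga := MulAction.mem_stabilizer_iff.mpr hga
    obtain ⟨q, hq, d, hd, rfl⟩ := hdecomp g hgGa
    have hd2 : d • (t • a) = t • a := MulAction.mem_stabilizer_iff.mp hd.2
    have hqb : q • (t • a) = b := by rw [← hgb, mul_smul, hd2]
    -- then q⁻¹ x q fixes t • a, lies in Q, so is 1
    have hmem : q⁻¹ * x * q ∈ Q ⊓ MulAction.stabilizer G (t • a) := by
      refine Subgroup.mem_inf.mpr ⟨Q.mul_mem (Q.mul_mem (Q.inv_mem hq) hx) hq, ?_⟩
      rw [MulAction.mem_stabilizer_iff, mul_smul, mul_smul, hqb, hb, ← hqb, inv_smul_smul]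
    rw [hS.inf_eq_bot, Subgroup.mem_bot] at hmem
    apply hx1
    have : x = q * (q⁻¹ * x * q) * q⁻¹ := by group
    rw [this, hmem]; group
  have part1 : ∀ X : Set G, X ⊆ (Q : Set G) → (∃ x ∈ X, x ≠ 1) →
      Subgroup.normalizer X ≤ MulAction.stabilizer G a := by
    intro X hXQ ⟨x, hxX, hx1⟩ g hg
    rw [Subgroup.mem_set_normalizer_iff] at hg
    have hgx : g * x * g⁻¹ ∈ X := (hg x).mp hxX
    have hgxQ : g * x * g⁻¹ ∈ Q := hXQ hgx
    have hne : g * x * g⁻¹ ≠ 1 := by
      intro h
      apply hx1
      have : x = g⁻¹ * (g * x * g⁻¹) * g := by group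
      rw [this, h]; group
    have hxa : x • a = a := MulAction.mem_stabilizer_iff.mp (hS.le (hXQ hxX))
    have : (g * x * g⁻¹) • (g • a) = g • a := by
      rw [mul_smul, mul_smul, inv_smul_smul, hxa]
    exact MulAction.mem_stabilizer_iff.mpr (hfix _ hgxQ hne _ this)
  -- `Q` has a nonidentity element
  have hQne : ∃ x ∈ (Q : Set G), x ≠ 1 := by
    by_contra hcon
    push Not at hcon
    have hbot : Q = ⊥ := by
      rw [Subgroup.eq_bot_iff_forall]; exact fun x hx => hcon x hx
    have := hS.even_card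
    rw [hbot, Subgroup.card_bot] at this
    exact absurd this (by decide)
  refine ⟨part1, ?_, ?_⟩
  · apply le_antisymm
    · exact part1 (Q : Set G) (le_refl _) hQne
    · exact hGaN
  · apply le_antisymm
    · intro g hg
      rw [Subgroup.mem_normalizer_iff] at hg
      obtain ⟨x, hxQ, hx1⟩ := hQne
      have hxGa : x ∈ Ga := hS.le hxQ
      have hgx : g⁻¹ * x * g ∈ Ga := by
        have := (hg (g⁻¹ * x * g)).mpr (by
          have : g * (g⁻¹ * x * g) * g⁻¹ = x := by group
          rw [this]; exact hxGa)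
        exact this
      have hfixga : x • (g • a) = g • a := by
        have h1 : (g⁻¹ * x * g) • a = a := MulAction.mem_stabilizer_iff.mp hgx
        rw [mul_smul, mul_smul] at h1
        have := congrArg (fun y => g • y) h1
        simpa using this
      exact MulAction.mem_stabilizer_iff.mpr (hfix x hxQ hx1 _ hfixga)
    · exact Subgroup.le_normalizer

end Cfsg.Agent.S1118
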