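import Cfsg.Statements.S1120
import Cfsg.Agent.Lib.Helper8.RankOne
import Cfsg.Agent.Lib.Helper27.Basic
import Cfsg.Agent.Lib.Helper12.Cores
import Cfsg.Agent.Lib.Helper1.Fitting
import Cfsg.Agent.S0058

set_option autoImplicit false
open Cfsg

namespace Cfsg.Agent.S1120

/-- In the rank-one set-up (`G` finite and doubly transitive on `Ω`, `t` an involution moving `a`, `Q` normal in `G_a` with `G_a = Q D`, `Q ⊓ D = 1` for the two-point stabiliser `D = G_a ⊓ G_{t • a}`, `|Q|` even, `|D|` odd), if `G` has 2-rank at least 2 then `O_{2'}(G)` equals the normal core of `G_a`. -/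
theorem result {G Ω : Type*} [Group G] [Finite G] [MulAction G Ω] {a : Ω} {t : G} {Q : Subgroup G}
    (hS : Cfsg.IsRankOneSetup G Ω a t Q)
    (h2 : ∃ x y : G, x ≠ 1 ∧ y ≠ 1 ∧ x ≠ y ∧ x * x = 1 ∧ y * y = 1 ∧ x * y = y * x) :
    Cfsg.pPrimeCore 2 G = (MulAction.stabilizer G a).normalCore := by
  open Cfsg.Agent.Lib.Helper8.RankOne MulAction in
  classical
  have : Fact (Nat.Prime 2) := ⟨Nat.prime_two⟩
  obtain ⟨x, y, hx1, hy1, hxy, hx2, hy2, hcomm⟩ := h2
  apply le_antisymm
  · -- O_{2'}(G) ≤ core
    set O := Cfsg.pPrimeCore 2 G with hO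
    have hOn : O.Normal := Cfsg.Agent.Lib.Helper1.pPrimeCore_normal 2 G
    have hOcop : (Nat.card O).Coprime 2 := Cfsg.Agent.Lib.Helper12.pPrimeCore_coprime 2
    rw [Subgroup.normal_le_normalCore]
    -- common fixed point of x and y
    obtain ⟨c, hc⟩ := invol_fix_exists hS hx2
    have hyc : y • c = c := fix_of_commute hS hx1 hx2 hc hcomm.symm
    -- the four-group
    set A := Subgroup.closure ({x, y} : Set G) with hA
    have hpair : ∀ u ∈ ({x, y} : Set G), ∀ v ∈ ({x, y} : Set G), u * v = v * u := by
      intro u hu v hv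
      rcases hu with rfl | hu <;> rcases hv with rfl | hv
      · rfl
      · rw [Set.mem_singleton_iff.mp hv]; exact hcomm
      · rw [Set.mem_singleton_iff.mp hu]; exact hcomm.symm
      · rw [Set.mem_singleton_iff.mp hu, Set.mem_singleton_iff.mp hv]
    have hinv : ∀ u ∈ ({x, y} : Set G), u * u = 1 := by
      intro u hu
      rcases hu with rfl | hu
      · exact hx2
      · rw [Set.mem_singleton_iff.mp hu]; exact hy2
    have hAcomm : IsMulCommutative A := Cfsg.Agent.Lib.Helper27.closure_isMulCommutative _ hpair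
    have hAsq : ∀ u ∈ A, u * u = 1 :=
      Cfsg.Agent.Lib.Helper27.sq_eq_one_of_mem_closure_involutions _ hpair hinv
    have hAp : IsPGroup 2 A := Cfsg.Agent.Lib.Helper27.isPGroup_two_closure_involutions _ hpair hinv
    have hxA : x ∈ A := Subgroup.subset_closure (Set.mem_insert _ _)
    have hyA : y ∈ A := Subgroup.subset_closure (Set.mem_insert_of_mem _ rfl)
    have hAfix : A ≤ stabilizer G c := by
      rw [hA, Subgroup.closure_le]
      intro u hu
      rcases hu with rfl | hu
      · exact mem_stabilizer_iff.mpr hc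
      · rw [Set.mem_singleton_iff.mp hu]; exact mem_stabilizer_iff.mpr hyc
    have hAnc : ¬ IsCyclic A := by
      intro hcyc
      obtain ⟨g, hg⟩ := hcyc.exists_generator
      have hg2 : g * g = 1 := Subtype.ext (hAsq g.1 g.2)
      have key : ∀ u : A, u = 1 ∨ u = g := by
        intro u
        obtain ⟨k, rfl⟩ := Subgroup.mem_zpowers_iff.mp (hg u)
        rcases Int.even_or_odd' k with ⟨m, rfl | rfl⟩
        · left
          rw [zpow_mul, zpow_two, hg2, one_zpow]
        · right
          rw [zpow_add, zpow_mul, zpow_two, hg2, one_zpow, one_mul, zpow_one]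
      have h1 := key ⟨x, hxA⟩
      have h2 := key ⟨y, hyA⟩
      rcases h1 with h1 | h1
      · exact hx1 (congrArg Subtype.val h1)
      · rcases h2 with h2 | h2
        · exact hy1 (congrArg Subtype.val h2)
        · exact hxy (congrArg Subtype.val (h1.trans h2.symm))
    have hAN : A ≤ Subgroup.normalizer (O : Set G) := by
      rw [Subgroup.normalizer_eq_top_iff.mpr hOn]; exact le_top
    have hcop : (Nat.card A).Coprime (Nat.card O) := by
      obtain ⟨k, hk⟩ := hAp.exists_card_eq
      rw [hk]
      exact Nat.Coprime.pow_left k hOcop.symm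
    have hgen := Cfsg.Agent.S0058.result A O hAnc hAN hcop
    have hOc : O ≤ stabilizer G c := by
      rw [← hgen]
      apply iSup_le
      intro u
      apply iSup_le
      rintro ⟨huA, hu1⟩
      rintro o ⟨-, ho⟩
      have hcm : o * u = u * o := (Subgroup.mem_centralizer_iff.mp ho u rfl).symm
      exact mem_stabilizer_iff.mpr
        (fix_of_commute hS hu1 (hAsq u huA) (mem_stabilizer_iff.mp (hAfix huA)) hcm)
    intro o ho
    obtain ⟨g, hg⟩ := exists_smul_eq' hS c a
    have h1 : g⁻¹ * o * g ∈ O := by
      have := hOn.conj_mem o ho g⁻¹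
      rwa [inv_inv] at this
    have h2 := mem_stabilizer_iff.mp (hOc h1)
    rw [mem_stabilizer_iff, ← hg]
    calc o • g • c = g • ((g⁻¹ * o * g) • c) := by
          simp only [← mul_smul]; congr 1; group
      _ = g • c := by rw [h2]
  · -- the core has odd order
    set N := (stabilizer G a).normalCore with hN
    have hNn : N.Normal := Subgroup.normalCore_normal _
    apply Cfsg.Agent.Lib.Helper12.le_pPrimeCore 2 N hNn
    rw [Nat.coprime_comm, Nat.Prime.coprime_iff_not_dvd Nat.prime_two]
    intro hdvd
    obtain ⟨s, hs⟩ := exists_prime_orderOf_dvd_card' (G := N) 2 hdvd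
    have hs1 : (s : G) ≠ 1 := by
      intro h
      have : s = 1 := Subtype.ext h
      rw [this, orderOf_one] at hs
      omega
    have hs2 : (s : G) * (s : G) = 1 := by
      have := pow_orderOf_eq_one s
      rw [hs, pow_two] at this
      exact congrArg Subtype.val this
    have hsGa : (s : G) ∈ stabilizer G a := Subgroup.normalCore_le _ s.2
    have hsQ := invol_mem_Q hS hsGa hs2
    have hst : (s : G) • (t • a) = t • a := by
      have h1 : t⁻¹ * (s : G) * t ∈ N := by
        have := hNn.conj_mem s s.2 t⁻¹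
        rwa [inv_inv] at this
      have h2 := mem_stabilizer_iff.mp (Subgroup.normalCore_le _ h1)
      calc (s : G) • (t • a) = t • ((t⁻¹ * (s : G) * t) • a) := by
            simp only [← mul_smul]; congr 1; group
        _ = t • a := by rw [h2]
    exact ta_ne hS (fix_eq hS s hsQ hs1 _ hst)

end Cfsg.Agent.S1120
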