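import Cfsg.Statements.S1122
import Cfsg.Agent.Lib.Helper8.RankOne

set_option autoImplicit false
open Cfsg

namespace Cfsg.Agent.S1122

/-- In the rank-one set-up (`G` finite and doubly transitive on `Ω`, `t` an involution moving `a`, `Q` normal in `G_a` with `G_a = Q D`, `Q ⊓ D = 1` for the two-point stabiliser `D = G_a ⊓ G_{t • a}`, `|Q|` even, `|D|` odd), with `K` the set of elements of `D` inverted by `t`: `|K|` is the number of involutions of `G_a`, and for each involution `s` of `G_a` the `K`-conjugates of `s` are all the involutions of `G_a`. -/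
theorem result {G Ω : Type*} [Group G] [Finite G] [MulAction G Ω] {a : Ω} {t : G} {Q : Subgroup G}
    (hS : Cfsg.IsRankOneSetup G Ω a t Q) :
    Nat.card (Cfsg.invertedBy (MulAction.stabilizer G a ⊓ MulAction.stabilizer G (t • a)) t) = Nat.card (Cfsg.involutionsIn (MulAction.stabilizer G a : Set G)) ∧
      ∀ s ∈ Cfsg.involutionsIn (MulAction.stabilizer G a : Set G), ∀ s' ∈ Cfsg.involutionsIn (MulAction.stabilizer G a : Set G),
        ∃ k ∈ Cfsg.invertedBy (MulAction.stabilizer G a ⊓ MulAction.stabilizer G (t • a)) t, k⁻¹ * s * k = s' := by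
  open Cfsg.Agent.Lib.Helper8.RankOne MulAction in
  classical
  have : Fact (Nat.Prime 2) := ⟨Nat.prime_two⟩
  have htt := hS.mul_self
  -- second part
  have P2 : ∀ s ∈ Cfsg.involutionsIn (stabilizer G a : Set G),
      ∀ s' ∈ Cfsg.involutionsIn (stabilizer G a : Set G),
      ∃ k ∈ Cfsg.invertedBy (stabilizer G a ⊓ stabilizer G (t • a)) t, k⁻¹ * s * k = s' := by
    rintro s ⟨hs, hs1, hs2⟩ s' ⟨hs', hs'1, hs'2⟩
    obtain ⟨k, hk, hks⟩ := exists_invertedBy_conj hS hs hs1 hs2 hs' hs'1 hs'2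
    refine ⟨k⁻¹, invertedBy_inv hk, ?_⟩
    rw [inv_inv]; exact hks
  refine ⟨?_, P2⟩
  -- an involution of Q
  obtain ⟨x, hx⟩ := exists_prime_orderOf_dvd_card' (G := Q) 2 hS.even_card.two_dvd
  have hx1 : (x : G) ≠ 1 := by
    intro h
    have : x = 1 := Subtype.ext h
    rw [this, orderOf_one] at hx
    omega
  have hx2 : (x : G) * (x : G) = 1 := by
    have := pow_orderOf_eq_one x
    rw [hx, pow_two] at this
    exact congrArg Subtype.val this
  have hxGa : (x : G) ∈ stabilizer G a := hS.le x.2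
  set s₀ : G := (x : G) with hs₀
  have hconjI : ∀ k : G, k ∈ stabilizer G a →
      k * s₀ * k⁻¹ ∈ Cfsg.involutionsIn (stabilizer G a : Set G) := by
    intro k hk
    refine ⟨Subgroup.mul_mem _ (Subgroup.mul_mem _ hk hxGa) (Subgroup.inv_mem _ hk), ?_, ?_⟩
    · intro h
      apply hx1
      calc s₀ = k⁻¹ * (k * s₀ * k⁻¹) * k := by group
        _ = 1 := by rw [h]; group
    · calc k * s₀ * k⁻¹ * (k * s₀ * k⁻¹) = k * (s₀ * s₀) * k⁻¹ := by group
        _ = 1 := by rw [hx2]; group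
  refine Nat.card_congr (Equiv.ofBijective
    (fun k : Cfsg.invertedBy (stabilizer G a ⊓ stabilizer G (t • a)) t =>
      (⟨(k : G) * s₀ * (k : G)⁻¹, hconjI k k.2.1.1⟩ :
        Cfsg.involutionsIn (stabilizer G a : Set G))) ⟨?_, ?_⟩)
  · rintro ⟨k₁, hk₁⟩ ⟨k₂, hk₂⟩ h
    have h' : k₁ * s₀ * k₁⁻¹ = k₂ * s₀ * k₂⁻¹ := congrArg Subtype.val h
    apply Subtype.ext
    show k₁ = k₂
    obtain ⟨hI1, hI2, hI3⟩ := hconjI k₁ hk₁.1.1
    obtain ⟨g1, g2, g3, g4⟩ := txt_invol hS hI1 hI2 hI3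
    obtain ⟨m, hm⟩ := odd_orderOf_mul hS hxGa hx1 hx2 g4 g1 g2
    obtain ⟨a1, a2, a3⟩ := invertedBy_invol hS hk₁
    obtain ⟨b1, b2, b3⟩ := invertedBy_invol hS hk₂
    have c1 : (t * k₁) * s₀ * (t * k₁) = t * (k₁ * s₀ * k₁⁻¹) * t := by
      have : (t * k₁)⁻¹ = t * k₁ := Cfsg.Agent.Lib.Helper27.inv_eq_self_of_mul_self a1
      calc (t * k₁) * s₀ * (t * k₁) = (t * k₁) * s₀ * (t * k₁)⁻¹ := by rw [this]
        _ = t * (k₁ * s₀ * k₁⁻¹) * t⁻¹ := by group
        _ = t * (k₁ * s₀ * k₁⁻¹) * t := by rw [t_inv hS]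
    have c2 : (t * k₂) * s₀ * (t * k₂) = t * (k₁ * s₀ * k₁⁻¹) * t := by
      have : (t * k₂)⁻¹ = t * k₂ := Cfsg.Agent.Lib.Helper27.inv_eq_self_of_mul_self b1
      calc (t * k₂) * s₀ * (t * k₂) = (t * k₂) * s₀ * (t * k₂)⁻¹ := by rw [this]
        _ = t * (k₂ * s₀ * k₂⁻¹) * t⁻¹ := by group
        _ = t * (k₁ * s₀ * k₁⁻¹) * t := by rw [t_inv hS, h']
    have d1 := conj_invol_unique hS hxGa hx2 g1 g2 g3 a1 c1 hm
    have d2 := conj_invol_unique hS hxGa hx2 g1 g2 g3 b1 c2 hm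
    exact mul_left_cancel (d1.trans d2.symm)
  · rintro ⟨s', hs'⟩
    obtain ⟨k, hk, hks⟩ := P2 s₀ ⟨hxGa, hx1, hx2⟩ s' hs'
    refine ⟨⟨k⁻¹, invertedBy_inv hk⟩, ?_⟩
    apply Subtype.ext
    show k⁻¹ * s₀ * k⁻¹⁻¹ = s'
    rw [inv_inv]; exact hks

end Cfsg.Agent.S1122
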