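import Cfsg.Statements.S1123
import Cfsg.Agent.Lib.Helper8.RankOne

set_option autoImplicit false
open Cfsg

namespace Cfsg.Agent.S1123

/-- In the rank-one set-up (`G` finite and doubly transitive on `Ω`, `t` an involution moving `a`, `Q` normal in `G_a` with `G_a = Q D`, `Q ⊓ D = 1` for the two-point stabiliser `D = G_a ⊓ G_{t • a}`, `|Q|` even, `|D|` odd), there is a unique pair `(s, r)` with `s` an involution of `G_a`, `r ∈ Q` and `t s t = r⁻¹ t r`. -/
theorem result {G Ω : Type*} [Group G] [Finite G] [MulAction G Ω] {a : Ω} {t : G} {Q : Subgroup G}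
    (hS : Cfsg.IsRankOneSetup G Ω a t Q) :
    ∃! p : G × G, p.1 ∈ Cfsg.involutionsIn (MulAction.stabilizer G a : Set G) ∧ p.2 ∈ Q ∧
      t * p.1 * t = p.2⁻¹ * t * p.2 := by
  open Cfsg.Agent.Lib.Helper8.RankOne MulAction in
  have htt := hS.mul_self
  obtain ⟨c, hc⟩ := invol_fix_exists hS htt
  have hca : c ≠ a := by
    intro h
    rw [h] at hc
    exact ta_ne hS hc
  obtain ⟨r, hr, hrc⟩ := exists_Q_smul hS (t • a) c (ta_ne hS) hca
  have key : ∀ x : G, t * (t * x * t) * t = x := by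
    intro x
    calc t * (t * x * t) * t = (t * t) * x * (t * t) := by group
      _ = x := by rw [htt, one_mul, mul_one]
  have hs_eq : t * (t * r⁻¹ * t * r * t) * t = r⁻¹ * t * r := by
    calc t * (t * r⁻¹ * t * r * t) * t = (t * t) * r⁻¹ * t * r * (t * t) := by group
      _ = r⁻¹ * t * r := by rw [htt, one_mul, mul_one]
  refine ⟨(t * r⁻¹ * t * r * t, r), ⟨⟨?_, ?_, ?_⟩, hr, hs_eq⟩, ?_⟩
  · -- s ∈ G_a
    show t * r⁻¹ * t * r * t ∈ stabilizer G a
    rw [mem_stabilizer_iff, mul_smul, mul_smul, mul_smul, mul_smul, hrc, hc, ← hrc, inv_smul_smul,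
      tta hS]
  · intro h
    have h' : t * r⁻¹ * t * r * t = 1 := h
    have h1 : r⁻¹ * t * r = 1 := by
      rw [← hs_eq, h', mul_one, htt]
    apply hS.ne_one
    calc t = r * (r⁻¹ * t * r) * r⁻¹ := by group
      _ = 1 := by rw [h1]; group
  · show t * r⁻¹ * t * r * t * (t * r⁻¹ * t * r * t) = 1
    calc t * r⁻¹ * t * r * t * (t * r⁻¹ * t * r * t)
        = t * r⁻¹ * t * r * (t * t) * r⁻¹ * t * r * t := by group
      _ = t * r⁻¹ * t * r * 1 * r⁻¹ * t * r * t := by rw [htt]
      _ = t * r⁻¹ * (t * t) * r * t := by group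
      _ = t * r⁻¹ * 1 * r * t := by rw [htt]
      _ = t * t := by group
      _ = 1 := htt
  · rintro ⟨s', r'⟩ ⟨⟨hs'a, hs'1, hs'2⟩, hr', he⟩
    simp only at hs'a hs'1 hs'2 hr' he
    have hs'a' : s' • a = a := mem_stabilizer_iff.mp hs'a
    have h1 : (r'⁻¹ * t * r') • (t • a) = t • a := by
      rw [← he, mul_smul, mul_smul, tta hS, hs'a']
    have h2 : t • (r' • (t • a)) = r' • (t • a) := by
      have e : r' * (r'⁻¹ * t * r') = t * r' := by group
      calc t • (r' • (t • a)) = (t * r') • (t • a) := (mul_smul _ _ _).symm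
        _ = (r' * (r'⁻¹ * t * r')) • (t • a) := by rw [e]
        _ = r' • ((r'⁻¹ * t * r') • (t • a)) := mul_smul _ _ _
        _ = r' • (t • a) := by rw [h1]
    have h3 : r' • (t • a) = c := invol_fix_unique hS hS.ne_one htt h2 hc
    have h4 : r' = r := Q_smul_unique hS hr' hr (ta_ne hS) (h3.trans hrc.symm)
    have h5 : s' = t * r⁻¹ * t * r * t := by
      calc s' = t * (t * s' * t) * t := (key s').symm
        _ = t * (r'⁻¹ * t * r') * t := by rw [he]
        _ = t * r⁻¹ * t * r * t := by rw [h4]; group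
    exact Prod.ext h5 h4

end Cfsg.Agent.S1123
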