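import Cfsg.Statements.S1124
-- import your own Cfsg.Agent.* helpers here

set_option autoImplicit false
open scoped Pointwise
open Cfsg

namespace Cfsg.Agent.S1124

/-- Let `t` be an element of order 2 of a finite group normalising a subgroup `X` of odd order, `Y = C_X(t)` and `Z` the set of elements of `X` inverted by `t`. Then `(y, z) ↦ y z` is a bijection `Y × Z → X`, so `|X| = |Y| |Z|`, and the subgroup generated by `Z` is normal in `X`. -/
theorem result {M : Type*} [Group M] [Finite M]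
    (t : M) (ht : orderOf t = 2) (X : Subgroup M) (hodd : Odd (Nat.card X))
    (hnorm : ∀ x ∈ X, t * x * t⁻¹ ∈ X) :
    (∀ x ∈ X, ∃! p : M × M, p.1 ∈ X ⊓ Subgroup.centralizer {t} ∧ p.2 ∈ Cfsg.invertedBy X t ∧ x = p.1 * p.2) ∧
      Nat.card X = Nat.card ↥(X ⊓ Subgroup.centralizer {t}) * Nat.card (Cfsg.invertedBy X t) ∧
      ∀ x ∈ X, MulAut.conj x • Subgroup.closure (Cfsg.invertedBy X t) = Subgroup.closure (Cfsg.invertedBy X t) := by
  classical
  obtain ⟨k, hk⟩ := hodd
  have ht2 : t * t = 1 := by rw [← sq, ← ht, pow_orderOf_eq_one]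
  have htinv : t⁻¹ = t := inv_eq_of_mul_eq_one_right ht2
  have hpow : ∀ z ∈ X, z ^ (2 * k + 1) = 1 := by
    intro z hz
    have h1 : (⟨z, hz⟩ : X) ^ Nat.card X = 1 := pow_card_eq_one'
    rw [hk] at h1
    have h2 := congrArg Subtype.val h1
    simpa using h2
  have hroot : ∀ z ∈ X, (z ^ 2) ^ (k + 1) = z := by
    intro z hz
    rw [← pow_mul, show 2 * (k + 1) = (2 * k + 1) + 1 by ring, pow_succ, hpow z hz, one_mul]
  have hconj_pow : ∀ (u : M) (m : ℕ), t * u ^ m * t⁻¹ = (t * u * t⁻¹) ^ m := by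
    intro u m
    exact (conj_pow (a := t) (b := u) (i := m)).symm
  -- the square of the inverted part
  have hsq : ∀ y z : M, y ∈ X ⊓ Subgroup.centralizer {t} → z ∈ Cfsg.invertedBy X t →
      (t * (y * z) * t⁻¹)⁻¹ * (y * z) = z ^ 2 := by
    intro y z hy hz
    have hyc : y * t = t * y := Subgroup.mem_centralizer_singleton_iff.mp hy.2
    have hzi : t * z * t⁻¹ = z⁻¹ := hz.2
    have h1 : t * (y * z) * t⁻¹ = y * z⁻¹ := by
      calc t * (y * z) * t⁻¹ = (t * y) * (z * t⁻¹) := by group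
        _ = (y * t) * (z * t⁻¹) := by rw [hyc]
        _ = y * (t * z * t⁻¹) := by group
        _ = y * z⁻¹ := by rw [hzi]
    rw [h1, sq]; group
  have hex : ∀ x ∈ X, ∃ y z : M, y ∈ X ⊓ Subgroup.centralizer {t} ∧ z ∈ Cfsg.invertedBy X t ∧
      x = y * z := by
    intro x hx
    set s := t * x * t⁻¹ with hs
    have hsX : s ∈ X := hnorm x hx
    set u := s⁻¹ * x with hu
    have huX : u ∈ X := X.mul_mem (X.inv_mem hsX) hx
    have htu : t * u * t⁻¹ = u⁻¹ := by
      have : t * s * t⁻¹ = x := by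
        rw [hs, htinv]
        calc t * (t * x * t) * t = (t * t) * x * (t * t) := by group
          _ = x := by rw [ht2]; group
      calc t * u * t⁻¹ = (t * s * t⁻¹)⁻¹ * (t * x * t⁻¹) := by rw [hu]; group
        _ = x⁻¹ * s := by rw [this]
        _ = u⁻¹ := by rw [hu]; group
    set z := u ^ (k + 1) with hz
    have hzX : z ∈ X := X.pow_mem huX _
    have htz : t * z * t⁻¹ = z⁻¹ := by
      rw [hz, hconj_pow, htu, inv_pow]
    have hz2 : z * z = u := by
      rw [hz, ← pow_add, show k + 1 + (k + 1) = (2 * k + 1) + 1 by ring, pow_succ, hpow u huX,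
        one_mul]
    refine ⟨x * z⁻¹, z, ⟨X.mul_mem hx (X.inv_mem hzX), ?_⟩, ⟨hzX, htz⟩, by group⟩
    show x * z⁻¹ ∈ Subgroup.centralizer {t}
    rw [Subgroup.mem_centralizer_singleton_iff]
    have h3 : t * (x * z⁻¹) * t⁻¹ = x * z⁻¹ := by
      calc t * (x * z⁻¹) * t⁻¹ = (t * x * t⁻¹) * (t * z * t⁻¹)⁻¹ := by group
        _ = s * z := by rw [htz, inv_inv]
        _ = s * (z * z) * z⁻¹ := by group
        _ = s * u * z⁻¹ := by rw [hz2]
        _ = x * z⁻¹ := by rw [hu]; group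
    calc x * z⁻¹ * t = (t * (x * z⁻¹) * t⁻¹) * t := by rw [h3]
      _ = t * (x * z⁻¹) := by group
  have huniq : ∀ y z y' z' : M, y ∈ X ⊓ Subgroup.centralizer {t} → z ∈ Cfsg.invertedBy X t →
      y' ∈ X ⊓ Subgroup.centralizer {t} → z' ∈ Cfsg.invertedBy X t → y * z = y' * z' →
      y = y' ∧ z = z' := by
    intro y z y' z' hy hz hy' hz' he
    have h1 := hsq y z hy hz
    have h2 := hsq y' z' hy' hz'
    rw [he, h2] at h1
    have hzz : z = z' := by
      rw [← hroot z hz.1, ← hroot z' hz'.1, h1]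
    subst hzz
    exact ⟨mul_right_cancel he, rfl⟩
  refine ⟨?_, ?_, ?_⟩
  · intro x hx
    obtain ⟨y, z, hy, hz, hxyz⟩ := hex x hx
    refine ⟨(y, z), ⟨hy, hz, hxyz⟩, ?_⟩
    rintro ⟨y', z'⟩ ⟨hy', hz', hx'⟩
    obtain ⟨h1, h2⟩ := huniq y' z' y z hy' hz' hy hz (hx'.symm.trans hxyz)
    exact Prod.ext h1 h2
  · rw [← Nat.card_prod]
    symm
    let f : ↥(X ⊓ Subgroup.centralizer {t}) × ↥(Cfsg.invertedBy X t) → ↥X :=
      fun p => ⟨p.1.1 * p.2.1, X.mul_mem p.1.2.1 p.2.2.1⟩
    refine Nat.card_congr (Equiv.ofBijective f ⟨?_, ?_⟩)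
    · rintro ⟨⟨y, hy⟩, ⟨z, hz⟩⟩ ⟨⟨y', hy'⟩, ⟨z', hz'⟩⟩ he
      have he' : y * z = y' * z' := congrArg Subtype.val he
      obtain ⟨h1, h2⟩ := huniq y z y' z' hy hz hy' hz' he'
      subst h1; subst h2; rfl
    · rintro ⟨x, hx⟩
      obtain ⟨y, z, hy, hz, hxyz⟩ := hex x hx
      exact ⟨(⟨y, hy⟩, ⟨z, hz⟩), Subtype.ext hxyz.symm⟩
  · have hle : ∀ x ∈ X, MulAut.conj x • Subgroup.closure (Cfsg.invertedBy X t) ≤
        Subgroup.closure (Cfsg.invertedBy X t) := by
      intro x hx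
      obtain ⟨y, z, hy, hz, rfl⟩ := hex x hx
      rw [map_mul, mul_smul]
      have hzle : MulAut.conj z • Subgroup.closure (Cfsg.invertedBy X t) ≤
          Subgroup.closure (Cfsg.invertedBy X t) := by
        rintro _ ⟨g, hg, rfl⟩
        have hzK : z ∈ Subgroup.closure (Cfsg.invertedBy X t) := Subgroup.subset_closure hz
        show z * g * z⁻¹ ∈ _
        exact Subgroup.mul_mem _ (Subgroup.mul_mem _ hzK hg) (Subgroup.inv_mem _ hzK)
      have hyle : MulAut.conj y • Subgroup.closure (Cfsg.invertedBy X t) ≤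
          Subgroup.closure (Cfsg.invertedBy X t) := by
        have hcl : Subgroup.closure (Cfsg.invertedBy X t) ≤
            (Subgroup.closure (Cfsg.invertedBy X t)).comap (MulAut.conj y).toMonoidHom := by
          rw [Subgroup.closure_le]
          intro w hw
          show y * w * y⁻¹ ∈ Subgroup.closure (Cfsg.invertedBy X t)
          apply Subgroup.subset_closure
          show y * w * y⁻¹ ∈ Cfsg.invertedBy X t
          have hyc : y * t = t * y := Subgroup.mem_centralizer_singleton_iff.mp hy.2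
          refine ⟨X.mul_mem (X.mul_mem hy.1 hw.1) (X.inv_mem hy.1), ?_⟩
          have hwi : t * w * t⁻¹ = w⁻¹ := hw.2
          have hyc' : t * y * t⁻¹ = y := by rw [← hyc]; group
          calc t * (y * w * y⁻¹) * t⁻¹ = (t * y * t⁻¹) * (t * w * t⁻¹) * (t * y * t⁻¹)⁻¹ := by group
            _ = (y * w * y⁻¹)⁻¹ := by rw [hyc', hwi]; group
        rintro _ ⟨g, hg, rfl⟩
        exact hcl hg
      exact (Subgroup.pointwise_smul_le_pointwise_smul_iff.mpr hzle).trans hyle
    intro x hx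
    refine le_antisymm (hle x hx) ?_
    have h1 := hle x⁻¹ (X.inv_mem hx)
    rw [map_inv] at h1
    exact Subgroup.subset_pointwise_smul_iff.mpr h1

end Cfsg.Agent.S1124
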