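import Cfsg.Statements.S1125
import Cfsg.Agent.Lib.Helper8.RankOne2

set_option autoImplicit false
open Cfsg

namespace Cfsg.Agent.S1125

/-- In the rank-one set-up (`G` finite and doubly transitive on `Ω`, `t` an involution moving `a`, `Q` normal in `G_a` with `G_a = Q D`, `Q ⊓ D = 1` for the two-point stabiliser `D = G_a ⊓ G_{t • a}`, `|Q|` even, `|D|` odd), let `X ⊆ D` fix at least three points of `Ω`. Then `C_G(X)` is doubly transitive on the fixed-point set of `X`, `|C_Q(X)|` is even, and `C_{G_a}(X) = C_Q(X) C_D(X)`. -/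
theorem result {G Ω : Type*} [Group G] [Finite G] [MulAction G Ω] {a : Ω} {t : G} {Q : Subgroup G}
    (hS : Cfsg.IsRankOneSetup G Ω a t Q)
    (X : Set G) (hX : X ⊆ ((MulAction.stabilizer G a ⊓ MulAction.stabilizer G (t • a)) : Set G))
    (h3 : ∃ b c d : Ω, b ≠ c ∧ b ≠ d ∧ c ≠ d ∧ ∀ x ∈ X, x • b = b ∧ x • c = c ∧ x • d = d) :
    (∀ b₁ b₂ c₁ c₂ : Ω, (∀ x ∈ X, x • b₁ = b₁ ∧ x • b₂ = b₂ ∧ x • c₁ = c₁ ∧ x • c₂ = c₂) →
        b₁ ≠ b₂ → c₁ ≠ c₂ → ∃ g ∈ Subgroup.centralizer X, g • b₁ = c₁ ∧ g • b₂ = c₂) ∧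
      Even (Nat.card ↥(Subgroup.centralizer X ⊓ Q)) ∧
      (Subgroup.centralizer X ⊓ Q) ⊔ (Subgroup.centralizer X ⊓ (MulAction.stabilizer G a ⊓ MulAction.stabilizer G (t • a))) = Subgroup.centralizer X ⊓ MulAction.stabilizer G a := by
  open Cfsg.Agent.Lib.Helper8.RankOne MulAction in
  classical
  have htt := hS.mul_self
  have hXa : X ⊆ (stabilizer G a : Set G) := fun x hx => (hX hx).1
  have hfa : ∀ x ∈ X, x • a = a := fun x hx => mem_stabilizer_iff.mp (hX hx).1
  have hfb : ∀ x ∈ X, x • (t • a) = t • a := fun x hx => mem_stabilizer_iff.mp (hX hx).2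
  -- a third fixed point
  obtain ⟨b', c', d', hbc, hbd, hcd, hfix⟩ := h3
  have hex : ∃ e₀ : Ω, e₀ ≠ a ∧ e₀ ≠ t • a ∧ ∀ x ∈ X, x • e₀ = e₀ := by
    by_cases h1 : b' ≠ a ∧ b' ≠ t • a
    · exact ⟨b', h1.1, h1.2, fun x hx => (hfix x hx).1⟩
    by_cases h2 : c' ≠ a ∧ c' ≠ t • a
    · exact ⟨c', h2.1, h2.2, fun x hx => (hfix x hx).2.1⟩
    by_cases h3 : d' ≠ a ∧ d' ≠ t • a
    · exact ⟨d', h3.1, h3.2, fun x hx => (hfix x hx).2.2⟩
    exfalso
    have hb : b' = a ∨ b' = t • a := by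
      by_contra h; push Not at h; exact h1 h
    have hc : c' = a ∨ c' = t • a := by
      by_contra h; push Not at h; exact h2 h
    have hd : d' = a ∨ d' = t • a := by
      by_contra h; push Not at h; exact h3 h
    rcases hb with hb | hb <;> rcases hc with hc | hc <;> rcases hd with hd | hd <;>
      first
        | exact hbc (hb.trans hc.symm)
        | exact hbd (hb.trans hd.symm)
        | exact hcd (hc.trans hd.symm)
  obtain ⟨e₀, he₀a, he₀b, hf₀⟩ := hex
  have T4 := centralizer_two_trans hS hX he₀a he₀b hf₀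
  refine ⟨?_, ?_, ?_⟩
  · intro b₁ b₂ c₁ c₂ hf hb hc
    obtain ⟨g, hg, hg1, hg2⟩ := T4 b₁ b₂ (fun x hx => (hf x hx).1) (fun x hx => (hf x hx).2.1) hb
    obtain ⟨h, hh, hh1, hh2⟩ := T4 c₁ c₂ (fun x hx => (hf x hx).2.2.1)
      (fun x hx => (hf x hx).2.2.2) hc
    refine ⟨h⁻¹ * g, Subgroup.mul_mem _ (Subgroup.inv_mem _ hh) hg, ?_, ?_⟩
    · rw [mul_smul, hg1, ← hh1, inv_smul_smul]
    · rw [mul_smul, hg2, ← hh2, inv_smul_smul]
  · -- an involution in C_Q(X)
    obtain ⟨u, hu, hu2, hua, hub⟩ := exists_swap_invol_centralizer hS hX he₀a he₀b hf₀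
    have hu1 : u ≠ 1 := by
      intro h
      rw [h, one_smul] at hua
      exact ta_ne hS hua.symm
    obtain ⟨c, hc⟩ := invol_fix_exists hS hu2
    have hcf : ∀ x ∈ X, x • c = c := by
      intro x hx
      have hcm := Subgroup.mem_centralizer_iff.mp hu x hx
      exact fix_of_commute hS hu1 hu2 hc hcm
    -- move c to a inside the centralizer
    have hca : c ≠ a := by
      intro h
      rw [h] at hc
      exact ta_ne hS (hua.symm.trans hc)
    obtain ⟨g, hg, hgc, -⟩ := T4 c a hcf hfa hca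
    set z := g * u * g⁻¹ with hz
    have hzC : z ∈ Subgroup.centralizer X :=
      Subgroup.mul_mem _ (Subgroup.mul_mem _ hg hu) (Subgroup.inv_mem _ hg)
    have hz2 : z * z = 1 := by
      calc z * z = g * (u * u) * g⁻¹ := by rw [hz]; group
        _ = 1 := by rw [hu2]; group
    have hz1 : z ≠ 1 := by
      intro h
      apply hu1
      calc u = g⁻¹ * z * g := by rw [hz]; group
        _ = 1 := by rw [h]; group
    have hza : z ∈ stabilizer G a := by
      rw [mem_stabilizer_iff, hz, mul_smul, mul_smul, ← hgc, inv_smul_smul, hc]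
    have hzQ : z ∈ Q := invol_mem_Q hS hza hz2
    have hzmem : z ∈ Subgroup.centralizer X ⊓ Q := ⟨hzC, hzQ⟩
    have ho : orderOf z = 2 := by
      have : Fact (Nat.Prime 2) := ⟨Nat.prime_two⟩
      exact orderOf_eq_prime (by rw [pow_two, hz2]) hz1
    have := Subgroup.orderOf_dvd_natCard _ hzmem
    rw [ho] at this
    exact even_iff_two_dvd.mpr this
  · apply le_antisymm
    · apply sup_le
      · exact inf_le_inf_left _ hS.le
      · exact inf_le_inf_left _ inf_le_left
    · rintro g ⟨hgC, hgGa⟩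
      have hga : g • a = a := mem_stabilizer_iff.mp hgGa
      have hgbf := fix_of_mem_centralizer hgC hfb
      have hgba : g • (t • a) ≠ a := by
        intro h
        have : g • (t • a) = g • a := by rw [h, hga]
        exact ta_ne hS (smul_left_cancel g this)
      obtain ⟨q, hq, hqe⟩ := exists_centralizer_Q_smul hS hXa (ta_ne hS) hgba hfb hgbf
      have hd : q⁻¹ * g ∈ Subgroup.centralizer X ⊓
          (stabilizer G a ⊓ stabilizer G (t • a)) := by
        refine ⟨Subgroup.mul_mem _ (Subgroup.inv_mem _ hq.1) hgC, ?_, mem_stabilizer_iff.mpr ?_⟩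
        · exact Subgroup.mul_mem _ (Subgroup.inv_mem _ (hS.le hq.2)) hgGa
        · rw [mul_smul, ← hqe, inv_smul_smul]
      have : g = q * (q⁻¹ * g) := by group
      rw [this]
      exact Subgroup.mul_mem_sup hq hd

end Cfsg.Agent.S1125
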