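import Cfsg.Statements.S1126
import Cfsg.Agent.Lib.Helper8.RankOne2

set_option autoImplicit false
open Cfsg

namespace Cfsg.Agent.S1126

/-- In the rank-one set-up (`G` finite and doubly transitive on `Ω`, `t` an involution moving `a`, `Q` normal in `G_a` with `G_a = Q D`, `Q ⊓ D = 1` for the two-point stabiliser `D = G_a ⊓ G_{t • a}`, `|Q|` even, `|D|` odd), a subset `X ⊆ D` fixing at least three points of `Ω` is conjugate by an element of `D` into `V = C_D(t)`. -/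
theorem result {G Ω : Type*} [Group G] [Finite G] [MulAction G Ω] {a : Ω} {t : G} {Q : Subgroup G}
    (hS : Cfsg.IsRankOneSetup G Ω a t Q)
    (X : Set G) (hX : X ⊆ ((MulAction.stabilizer G a ⊓ MulAction.stabilizer G (t • a)) : Set G))
    (h3 : ∃ b c d : Ω, b ≠ c ∧ b ≠ d ∧ c ≠ d ∧ ∀ x ∈ X, x • b = b ∧ x • c = c ∧ x • d = d) :
    ∃ k ∈ (MulAction.stabilizer G a ⊓ MulAction.stabilizer G (t • a)), ∀ x ∈ X, (k * x * k⁻¹) * t = t * (k * x * k⁻¹) := by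
  open Cfsg.Agent.Lib.Helper8.RankOne MulAction in
  classical
  have htt := hS.mul_self
  have hti := t_inv hS
  -- a third fixed point
  obtain ⟨b', c', d', hbc, hbd, hcd, hfix⟩ := h3
  have hex : ∃ e₀ : Ω, e₀ ≠ a ∧ e₀ ≠ t • a ∧ ∀ x ∈ X, x • e₀ = e₀ := by
    by_cases h1 : b' ≠ a ∧ b' ≠ t • a
    · exact ⟨b', h1.1, h1.2, fun x hx => (hfix x hx).1⟩
    by_cases h2 : c' ≠ a ∧ c' ≠ t • a
    · exact ⟨c', h2.1, h2.2, fun x hx => (hfix x hx).2.1⟩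
    by_cases h3 : d' ≠ a ∧ d' ≠ t • a
    · exact ⟨d', h3.1, h3.2, fun x hx => (hfix x hx).2.2⟩
    exfalso
    have hb : b' = a ∨ b' = t • a := by
      by_contra h; push Not at h; exact h1 h
    have hc : c' = a ∨ c' = t • a := by
      by_contra h; push Not at h; exact h2 h
    have hd : d' = a ∨ d' = t • a := by
      by_contra h; push Not at h; exact h3 h
    rcases hb with hb | hb <;> rcases hc with hc | hc <;> rcases hd with hd | hd <;>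
      first
        | exact hbc (hb.trans hc.symm)
        | exact hbd (hb.trans hd.symm)
        | exact hcd (hc.trans hd.symm)
  obtain ⟨e₀, he₀a, he₀b, hf₀⟩ := hex
  obtain ⟨u, hu, hu2, hua, hub⟩ := exists_swap_invol_centralizer hS hX he₀a he₀b hf₀
  have hui : u⁻¹ = u := Cfsg.Agent.Lib.Helper27.inv_eq_self_of_mul_self hu2
  have hk₀ := mem_invertedBy_of_swap hS hu2 hua hub
  set k₀ := t * u with hk₀def
  have hodd : Odd (orderOf k₀) :=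
    Odd.of_dvd_nat hS.odd_card (Subgroup.orderOf_dvd_natCard _ hk₀.1)
  obtain ⟨j, hj⟩ := hodd
  have hconj : ∀ i : ℕ, t * k₀ ^ i * t⁻¹ = (k₀ ^ i)⁻¹ := by
    intro i
    rw [← conj_pow, hk₀.2, inv_pow]
  have hconj' : t * (k₀ ^ j)⁻¹ * t⁻¹ = k₀ ^ j := by
    calc t * (k₀ ^ j)⁻¹ * t⁻¹ = (t * k₀ ^ j * t⁻¹)⁻¹ := by group
      _ = k₀ ^ j := by rw [hconj, inv_inv]
  have hpow : k₀ ^ (2 * j) = k₀⁻¹ := by
    apply eq_inv_of_mul_eq_one_left
    rw [← pow_succ, ← hj, pow_orderOf_eq_one]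
  have hdt : k₀ ^ j * t * (k₀ ^ j)⁻¹ = u := by
    calc k₀ ^ j * t * (k₀ ^ j)⁻¹ = k₀ ^ j * (t * (k₀ ^ j)⁻¹ * t⁻¹) * t := by group
      _ = k₀ ^ j * k₀ ^ j * t := by rw [hconj']
      _ = k₀ ^ (2 * j) * t := by rw [two_mul, pow_add]
      _ = k₀⁻¹ * t := by rw [hpow]
      _ = u := by rw [hk₀def, mul_inv_rev, hui, hti, mul_assoc, htt, mul_one]
  refine ⟨(k₀ ^ j)⁻¹, Subgroup.inv_mem _ (Subgroup.pow_mem _ hk₀.1 j), ?_⟩
  intro x hx
  have hxu : x * u = u * x := Subgroup.mem_centralizer_iff.mp hu x hx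
  rw [inv_inv]
  calc (k₀ ^ j)⁻¹ * x * k₀ ^ j * t = (k₀ ^ j)⁻¹ * (x * (k₀ ^ j * t * (k₀ ^ j)⁻¹)) * k₀ ^ j := by group
    _ = (k₀ ^ j)⁻¹ * (x * u) * k₀ ^ j := by rw [hdt]
    _ = (k₀ ^ j)⁻¹ * (u * x) * k₀ ^ j := by rw [hxu]
    _ = (k₀ ^ j)⁻¹ * ((k₀ ^ j * t * (k₀ ^ j)⁻¹) * x) * k₀ ^ j := by rw [hdt]
    _ = t * ((k₀ ^ j)⁻¹ * x * k₀ ^ j) := by group

end Cfsg.Agent.S1126
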