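import Cfsg.Statements.S1127
import Cfsg.Agent.Lib.Helper8.RankOne
import Cfsg.Agent.S1123
import Cfsg.Agent.S1124

set_option autoImplicit false
open Cfsg

namespace Cfsg.Agent.S1127

/-- In the rank-one set-up (`G` finite and doubly transitive on `Ω`, `t` an involution moving `a`, `Q` normal in `G_a` with `G_a = Q D`, `Q ⊓ D = 1` for the two-point stabiliser `D = G_a ⊓ G_{t • a}`, `|Q|` even, `|D|` odd): if `s` is an involution of `G_a` and `r ∈ Q` satisfy `t s t = r⁻¹ t r`, then `C_D(t) = C_D(s)`; moreover `C_D(t) ⊓ C_D(K) = C_D(I ∩ G_a)`, where `K` is the set of elements of `D` inverted by `t` and `I ∩ G_a` the set of involutions of `G_a`. -/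
theorem result {G Ω : Type*} [Group G] [Finite G] [MulAction G Ω] {a : Ω} {t : G} {Q : Subgroup G}
    (hS : Cfsg.IsRankOneSetup G Ω a t Q) :
    (∀ s r : G, s ∈ Cfsg.involutionsIn (MulAction.stabilizer G a : Set G) → r ∈ Q → t * s * t = r⁻¹ * t * r →
        (MulAction.stabilizer G a ⊓ MulAction.stabilizer G (t • a)) ⊓ Subgroup.centralizer {t} = (MulAction.stabilizer G a ⊓ MulAction.stabilizer G (t • a)) ⊓ Subgroup.centralizer {s}) ∧
      (MulAction.stabilizer G a ⊓ MulAction.stabilizer G (t • a)) ⊓ Subgroup.centralizer {t} ⊓ Subgroup.centralizer (Cfsg.invertedBy (MulAction.stabilizer G a ⊓ MulAction.stabilizer G (t • a)) t) =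
        (MulAction.stabilizer G a ⊓ MulAction.stabilizer G (t • a)) ⊓ Subgroup.centralizer (Cfsg.involutionsIn (MulAction.stabilizer G a : Set G)) := by
  open Cfsg.Agent.Lib.Helper8.RankOne MulAction in
  classical
  have : Fact (Nat.Prime 2) := ⟨Nat.prime_two⟩
  have htt := hS.mul_self
  have hti := t_inv hS
  have hto : orderOf t = 2 := orderOf_eq_prime (by rw [pow_two, htt]) hS.ne_one
  obtain ⟨p₀, hp₀, hp₀u⟩ := Cfsg.Agent.S1123.result hS
  -- part (a)
  have hA : ∀ s r : G, s ∈ Cfsg.involutionsIn (stabilizer G a : Set G) → r ∈ Q →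
      t * s * t = r⁻¹ * t * r →
      (stabilizer G a ⊓ stabilizer G (t • a)) ⊓ Subgroup.centralizer {t} =
        (stabilizer G a ⊓ stabilizer G (t • a)) ⊓ Subgroup.centralizer {s} := by
    intro s r hsI hr he
    obtain ⟨hs, hs1, hs2⟩ := hsI
    have hle : (stabilizer G a ⊓ stabilizer G (t • a)) ⊓ Subgroup.centralizer {t} ≤
        (stabilizer G a ⊓ stabilizer G (t • a)) ⊓ Subgroup.centralizer {s} := by
      rintro d ⟨hdD, hdt⟩
      refine ⟨hdD, Subgroup.mem_centralizer_singleton_iff.mpr ?_⟩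
      have hdt' : d * t = t * d := Subgroup.mem_centralizer_singleton_iff.mp hdt
      have hdt'' : d⁻¹ * t = t * d⁻¹ := by
        calc d⁻¹ * t = d⁻¹ * (t * d) * d⁻¹ := by group
          _ = d⁻¹ * (d * t) * d⁻¹ := by rw [hdt']
          _ = t * d⁻¹ := by group
      -- the pair (d s d⁻¹, d r d⁻¹)
      have hpair : (d * s * d⁻¹, d * r * d⁻¹) = p₀ := by
        apply hp₀u
        refine ⟨⟨?_, ?_, ?_⟩, hS.conj_mem d hdD.1 r hr, ?_⟩
        · exact Subgroup.mul_mem _ (Subgroup.mul_mem _ hdD.1 hs) (Subgroup.inv_mem _ hdD.1)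
        · intro h
          have h' : d * s * d⁻¹ = 1 := h
          apply hs1
          calc s = d⁻¹ * (d * s * d⁻¹) * d := by group
            _ = 1 := by rw [h']; group
        · calc d * s * d⁻¹ * (d * s * d⁻¹) = d * (s * s) * d⁻¹ := by group
            _ = 1 := by rw [hs2]; group
        · show t * (d * s * d⁻¹) * t = (d * r * d⁻¹)⁻¹ * t * (d * r * d⁻¹)
          calc t * (d * s * d⁻¹) * t = (t * d) * s * (d⁻¹ * t) := by group
            _ = (d * t) * s * (t * d⁻¹) := by rw [hdt', hdt'']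
            _ = d * (t * s * t) * d⁻¹ := by group
            _ = d * (r⁻¹ * t * r) * d⁻¹ := by rw [he]
            _ = d * r⁻¹ * (d⁻¹ * (d * t)) * r * d⁻¹ := by group
            _ = d * r⁻¹ * (d⁻¹ * (t * d)) * r * d⁻¹ := by rw [hdt']
            _ = (d * r * d⁻¹)⁻¹ * t * (d * r * d⁻¹) := by group
      have hpair0 : (s, r) = p₀ := hp₀u (s, r) ⟨⟨hs, hs1, hs2⟩, hr, he⟩
      have h1 : d * s * d⁻¹ = s := by
        have := hpair.trans hpair0.symm
        exact congrArg Prod.fst this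
      calc d * s = (d * s * d⁻¹) * d := by group
        _ = s * d := by rw [h1]
    -- cardinalities
    have hDodd := hS.odd_card
    have hnorm : ∀ x ∈ stabilizer G a ⊓ stabilizer G (t • a),
        t * x * t⁻¹ ∈ stabilizer G a ⊓ stabilizer G (t • a) := by
      intro x hx
      rw [hti]; exact t_conj_D hS hx
    obtain ⟨-, hcard1, -⟩ := Cfsg.Agent.S1124.result t hto _ hDodd hnorm
    have hcard2 := card_D_eq hS hs hs1 hs2
    have hKpos : 0 < Nat.card (Cfsg.invertedBy (stabilizer G a ⊓ stabilizer G (t • a)) t) := by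
      have : Nonempty (Cfsg.invertedBy (stabilizer G a ⊓ stabilizer G (t • a)) t) :=
        ⟨⟨1, Subgroup.one_mem _, by simp⟩⟩
      exact Nat.card_pos
    have hcardeq : Nat.card ↥((stabilizer G a ⊓ stabilizer G (t • a)) ⊓ Subgroup.centralizer {s}) ≤
        Nat.card ↥((stabilizer G a ⊓ stabilizer G (t • a)) ⊓ Subgroup.centralizer {t}) := by
      rw [hcard1, mul_comm] at hcard2
      exact le_of_eq (Nat.eq_of_mul_eq_mul_left hKpos hcard2).symm
    exact Subgroup.eq_of_le_of_card_ge hle hcardeq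
  refine ⟨hA, ?_⟩
  -- part (b)
  obtain ⟨s, r⟩ := p₀
  obtain ⟨⟨hs, hs1, hs2⟩, hr, he⟩ := hp₀
  simp only at hs hs1 hs2 hr he
  have hVs := hA s r ⟨hs, hs1, hs2⟩ hr he
  apply le_antisymm
  · rintro d ⟨⟨hdD, hdt⟩, hdK⟩
    refine ⟨hdD, Subgroup.mem_centralizer_iff.mpr ?_⟩
    rintro s₁ ⟨hs₁, hs₁1, hs₁2⟩
    obtain ⟨k, hk, hks⟩ := exists_invertedBy_conj hS hs hs1 hs2 hs₁ hs₁1 hs₁2
    have hds : d * s = s * d := by
      have : d ∈ (stabilizer G a ⊓ stabilizer G (t • a)) ⊓ Subgroup.centralizer {s} := by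
        rw [← hVs]; exact ⟨hdD, hdt⟩
      exact Subgroup.mem_centralizer_singleton_iff.mp this.2
    have hdk : k * d = d * k := (Subgroup.mem_centralizer_iff.mp hdK) k hk
    have hdk' : k⁻¹ * d = d * k⁻¹ := by
      calc k⁻¹ * d = k⁻¹ * (d * k) * k⁻¹ := by group
        _ = k⁻¹ * (k * d) * k⁻¹ := by rw [hdk]
        _ = d * k⁻¹ := by group
    rw [← hks]
    calc k * s * k⁻¹ * d = k * s * (k⁻¹ * d) := by group
      _ = k * s * (d * k⁻¹) := by rw [hdk']
      _ = k * (s * d) * k⁻¹ := by group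
      _ = k * (d * s) * k⁻¹ := by rw [hds]
      _ = (k * d) * s * k⁻¹ := by group
      _ = (d * k) * s * k⁻¹ := by rw [hdk]
      _ = d * (k * s * k⁻¹) := by group
  · rintro d ⟨hdD, hdI⟩
    have hdI' : ∀ s₁ ∈ Cfsg.involutionsIn (stabilizer G a : Set G), s₁ * d = d * s₁ :=
      Subgroup.mem_centralizer_iff.mp hdI
    have hds : s * d = d * s := hdI' s ⟨hs, hs1, hs2⟩
    have hdV : d ∈ (stabilizer G a ⊓ stabilizer G (t • a)) ⊓ Subgroup.centralizer {t} := by
      rw [hVs]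
      exact ⟨hdD, Subgroup.mem_centralizer_singleton_iff.mpr hds.symm⟩
    have hdt : d * t = t * d := Subgroup.mem_centralizer_singleton_iff.mp hdV.2
    refine ⟨hdV, Subgroup.mem_centralizer_iff.mpr ?_⟩
    intro k hk
    -- d k d⁻¹ ∈ K
    have hk' : d * k * d⁻¹ ∈ Cfsg.invertedBy (stabilizer G a ⊓ stabilizer G (t • a)) t := by
      refine ⟨Subgroup.mul_mem _ (Subgroup.mul_mem _ hdD hk.1) (Subgroup.inv_mem _ hdD), ?_⟩
      have hdt1 : t * d = d * t := hdt.symm
      have hdt2 : d⁻¹ * t⁻¹ = t⁻¹ * d⁻¹ := by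
        rw [← mul_inv_rev, ← mul_inv_rev, hdt]
      calc t * (d * k * d⁻¹) * t⁻¹ = (t * d) * k * (d⁻¹ * t⁻¹) := by group
        _ = (d * t) * k * (t⁻¹ * d⁻¹) := by rw [hdt1, hdt2]
        _ = d * (t * k * t⁻¹) * d⁻¹ := by group
        _ = d * k⁻¹ * d⁻¹ := by rw [hk.2]
        _ = (d * k * d⁻¹)⁻¹ := by group
    have hI1 : k * s * k⁻¹ ∈ Cfsg.involutionsIn (stabilizer G a : Set G) := by
      refine ⟨Subgroup.mul_mem _ (Subgroup.mul_mem _ hk.1.1 hs) (Subgroup.inv_mem _ hk.1.1), ?_, ?_⟩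
      · intro h
        apply hs1
        calc s = k⁻¹ * (k * s * k⁻¹) * k := by group
          _ = 1 := by rw [h]; group
      · calc k * s * k⁻¹ * (k * s * k⁻¹) = k * (s * s) * k⁻¹ := by group
          _ = 1 := by rw [hs2]; group
    have hcomm2 : (k * s * k⁻¹) * d = d * (k * s * k⁻¹) := hdI' _ hI1
    have heq : (d * k * d⁻¹) * s * (d * k * d⁻¹)⁻¹ = k * s * k⁻¹ := by
      have hds' : d⁻¹ * s = s * d⁻¹ := by
        calc d⁻¹ * s = d⁻¹ * (s * d) * d⁻¹ := by group
          _ = d⁻¹ * (d * s) * d⁻¹ := by rw [hds]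
          _ = s * d⁻¹ := by group
      calc (d * k * d⁻¹) * s * (d * k * d⁻¹)⁻¹ = d * k * (d⁻¹ * s) * d * k⁻¹ * d⁻¹ := by group
        _ = d * k * (s * d⁻¹) * d * k⁻¹ * d⁻¹ := by rw [hds']
        _ = d * (k * s * k⁻¹) * d⁻¹ := by group
        _ = (k * s * k⁻¹) * d * d⁻¹ := by rw [hcomm2]
        _ = k * s * k⁻¹ := by group
    have := invertedBy_conj_inj hS hs hs1 hs2 hk' hk heq
    calc k * d = (d * k * d⁻¹) * d := by rw [this]
      _ = d * k := by group

end Cfsg.Agent.S1127
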