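import Cfsg.Statements.S1129
import Cfsg.Agent.Lib.Helper8.ThNilpD
import Cfsg.Agent.Lib.Helper8.RankOne3

set_option autoImplicit false
open Cfsg

namespace Cfsg.Agent.S1129

/-- In the rank-one set-up (`G` finite and doubly transitive on `Ω`, `t` an involution moving `a`, `Q` normal in `G_a` with `G_a = Q D`, `Q ⊓ D = 1` for the two-point stabiliser `D = G_a ⊓ G_{t • a}`, `|Q|` even, `|D|` odd), with the action faithful and `G` containing two distinct commuting involutions: `Q` is nilpotent. -/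
theorem result {G Ω : Type*} [Group G] [Finite G] [MulAction G Ω] [FaithfulSMul G Ω] {a : Ω} {t : G} {Q : Subgroup G}
    (hS : Cfsg.IsRankOneSetup G Ω a t Q)
    (h2 : ∃ x y : G, x ≠ 1 ∧ y ≠ 1 ∧ x ≠ y ∧ x * x = 1 ∧ y * y = 1 ∧ x * y = y * x) :
    Group.IsNilpotent Q := by
  classical
  obtain ⟨x, y, hx1, hy1, hxy, hx2, hy2, hc⟩ := h2
  -- common fixed point
  obtain ⟨c, hcx⟩ := Cfsg.Agent.Lib.Helper8.RankOne.invol_fix_exists hS hx2
  have hcy : y • c = c := Cfsg.Agent.Lib.Helper8.RankOne.fix_of_commute hS hx1 hx2 hcx hc.symm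
  obtain ⟨g, hg⟩ := Cfsg.Agent.Lib.Helper8.RankOne.exists_smul_eq' hS a c
  -- conjugate into `G_a`
  have hconj : ∀ u : G, u • c = c → g⁻¹ * u * g ∈ MulAction.stabilizer G a := by
    intro u hu
    rw [MulAction.mem_stabilizer_iff, mul_smul, mul_smul, hg, hu, ← hg, inv_smul_smul]
  have hsq : ∀ u : G, u * u = 1 → (g⁻¹ * u * g) * (g⁻¹ * u * g) = 1 := by
    intro u hu
    calc (g⁻¹ * u * g) * (g⁻¹ * u * g) = g⁻¹ * (u * u) * g := by group
      _ = 1 := by rw [hu]; group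
  have hne1 : ∀ u : G, u ≠ 1 → g⁻¹ * u * g ≠ 1 := by
    intro u hu h
    apply hu
    calc u = g * (g⁻¹ * u * g) * g⁻¹ := by group
      _ = 1 := by rw [h]; group
  have hne : g⁻¹ * x * g ≠ g⁻¹ * y * g := by
    intro h
    apply hxy
    calc x = g * (g⁻¹ * x * g) * g⁻¹ := by group
      _ = g * (g⁻¹ * y * g) * g⁻¹ := by rw [h]
      _ = y := by group
  obtain ⟨k, hk, hkc⟩ := Cfsg.Agent.Lib.Helper8.RankOne.exists_invertedBy_conj hS
    (hconj x hcx) (hne1 x hx1) (hsq x hx2) (hconj y hcy) (hne1 y hy1) (hsq y hy2)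
  have hk1 : k ≠ 1 := by
    intro h
    rw [h] at hkc
    apply hne
    simpa using hkc
  -- an element of prime order in `K`
  have hord : orderOf k ≠ 1 := fun h => hk1 (orderOf_eq_one_iff.mp h)
  obtain ⟨r, hr, hrd⟩ := Nat.exists_prime_and_dvd hord
  obtain ⟨k', hk'⟩ : ∃ k', k' = k ^ (orderOf k / r) := ⟨_, rfl⟩
  have hk'ord : orderOf k' = r := by
    rw [hk']
    exact orderOf_pow_orderOf_div (orderOf_pos k).ne' hrd
  have hk'K : k' ∈ Cfsg.invertedBy (MulAction.stabilizer G a ⊓ MulAction.stabilizer G (t • a)) t := by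
    rw [hk']
    refine ⟨Subgroup.pow_mem _ hk.1 _, ?_⟩
    rw [← conj_pow, hk.2, inv_pow]
  have hk'1 : k' ≠ 1 := by
    intro h
    rw [h, orderOf_one] at hk'ord
    exact hr.one_lt.ne hk'ord
  have hk'r : k' ^ r = 1 := by rw [← hk'ord]; exact pow_orderOf_eq_one k'
  have hfpf := Cfsg.Agent.Lib.Helper8.RankOne.inverted_fpf hS hk'K hk'1
  have hst : ∀ q ∈ Q, (MulAut.conj k').toMonoidHom q ∈ Q := by
    intro q hq
    show k' * q * k'⁻¹ ∈ Q
    exact hS.conj_mem k' hk'K.1.1 q hq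
  have hiter : ∀ (n : ℕ) (q : G), ((MulAut.conj k').toMonoidHom)^[n] q = k' ^ n * q * (k' ^ n)⁻¹ := by
    intro n
    induction n with
    | zero => intro q; simp
    | succ n ih =>
      intro q
      rw [Function.iterate_succ_apply', ih]
      show k' * (k' ^ n * q * (k' ^ n)⁻¹) * k'⁻¹ = _
      rw [pow_succ']
      group
  apply Cfsg.Agent.Lib.Helper8.ThNilp.isNilpotent_of_fpf
    (Cfsg.Agent.Lib.Helper8.ThNilp.resEnd (MulAut.conj k').toMonoidHom Q hst) hr
  · intro q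
    apply Subtype.ext
    rw [Cfsg.Agent.Lib.Helper8.ThNilp.resEnd_iter, hiter, hk'r]
    simp
  · intro q hq
    have h1 : k' * (q : G) * k'⁻¹ = q := congrArg Subtype.val hq
    have h2 : (q : G) ∈ Q ⊓ Subgroup.centralizer {k'} := by
      refine ⟨q.2, Subgroup.mem_centralizer_singleton_iff.mpr ?_⟩
      calc (q : G) * k' = (k' * (q : G) * k'⁻¹) * k' := by rw [h1]
        _ = k' * q := by group
    rw [hfpf, Subgroup.mem_bot] at h2
    exact Subtype.ext h2

end Cfsg.Agent.S1129
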