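import Cfsg.Statements.S1135
import Cfsg.Agent.Lib.Helper8.RankOne3

set_option autoImplicit false
open Cfsg

namespace Cfsg.Agent.S1135

/-- In the rank-one set-up (`G` finite and doubly transitive on `Ω`, `t` an involution moving `a`, `Q` normal in `G_a` with `G_a = Q D`, `Q ⊓ D = 1` for the two-point stabiliser `D = G_a ⊓ G_{t • a}`, `|Q|` even, `|D|` odd), with the action faithful and `G` containing two distinct commuting involutions: if `x = u v` with `u, v` involutions and `x² ≠ 1`, then `x` is conjugate to `u' t` for some involution `u'` of `G_a`, and `|C_G(x)|` is odd. -/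
theorem result {G Ω : Type*} [Group G] [Finite G] [MulAction G Ω] [FaithfulSMul G Ω] {a : Ω} {t : G} {Q : Subgroup G}
    (hS : Cfsg.IsRankOneSetup G Ω a t Q)
    (h2 : ∃ x y : G, x ≠ 1 ∧ y ≠ 1 ∧ x ≠ y ∧ x * x = 1 ∧ y * y = 1 ∧ x * y = y * x)
    (u v : G) (hu1 : u ≠ 1) (hu2 : u * u = 1) (hv1 : v ≠ 1) (hv2 : v * v = 1) (hx : (u * v) * (u * v) ≠ 1) :
    (∃ g : G, ∃ u' ∈ Cfsg.involutionsIn (MulAction.stabilizer G a : Set G), g * (u * v) * g⁻¹ = u' * t) ∧
      Odd (Nat.card ↥(Subgroup.centralizer {u * v})) := by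
  open Cfsg.Agent.Lib.Helper8.RankOne MulAction in
  classical
  obtain ⟨g, u', hu'a, hu'1, hu'2, hg⟩ := strongly_real_conj hS hu1 hu2 hv1 hv2 hx
  refine ⟨⟨g, u', ⟨hu'a, hu'1, hu'2⟩, hg⟩, ?_⟩
  by_contra hodd
  rw [Nat.not_odd_iff_even] at hodd
  have hdvd : 2 ∣ Nat.card ↥(Subgroup.centralizer {u * v}) := even_iff_two_dvd.mp hodd
  have : Fact (Nat.Prime 2) := ⟨Nat.prime_two⟩
  obtain ⟨⟨w, hw⟩, hwo⟩ := exists_prime_orderOf_dvd_card' (G := ↥(Subgroup.centralizer {u * v})) 2 hdvd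
  have hw1 : w ≠ 1 := by
    intro h
    subst h
    have : orderOf (⟨1, hw⟩ : ↥(Subgroup.centralizer {u * v})) = 1 := orderOf_eq_one_iff.mpr rfl
    omega
  have hw2 : w * w = 1 := by
    have h := pow_orderOf_eq_one (⟨w, hw⟩ : ↥(Subgroup.centralizer {u * v}))
    rw [hwo] at h
    have h' := congrArg Subtype.val h
    simpa [pow_two] using h'
  have hwx : w * (u * v) = (u * v) * w := Subgroup.mem_centralizer_singleton_iff.mp hw
  -- conjugate `w` by `g`
  have hw'1 : g * w * g⁻¹ ≠ 1 := by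
    intro h
    apply hw1
    calc w = g⁻¹ * (g * w * g⁻¹) * g := by group
      _ = 1 := by rw [h]; group
  have hw'2 : (g * w * g⁻¹) * (g * w * g⁻¹) = 1 := by
    calc (g * w * g⁻¹) * (g * w * g⁻¹) = g * (w * w) * g⁻¹ := by group
      _ = 1 := by rw [hw2]; group
  have hw'x : (u' * t) * (g * w * g⁻¹) = (g * w * g⁻¹) * (u' * t) := by
    rw [← hg]
    calc g * (u * v) * g⁻¹ * (g * w * g⁻¹) = g * ((u * v) * w) * g⁻¹ := by group
      _ = g * (w * (u * v)) * g⁻¹ := by rw [hwx]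
      _ = g * w * g⁻¹ * (g * (u * v) * g⁻¹) := by group
  exact no_invol_commute_mul hS (mem_stabilizer_iff.mp hu'a) hu'1 hu'2 hw'1 hw'2 hw'x

end Cfsg.Agent.S1135
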