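import Cfsg.Statements.S1141
-- import your own Cfsg.Agent.* helpers here
import Mathlib
import Cfsg.Agent.Lib.Helper18.SU3Props
import Cfsg.Agent.Lib.Helper18.SU3Sylow

set_option autoImplicit false
open Cfsg

namespace Cfsg.Agent.S1141

/-- Let `q = 2^n ≥ 4` and `|F| = q²`. A Sylow 2-subgroup `S` of `PSU₃(q)` has order `q³`, its centre has order `q`, and `S` is a Suzuki 2-group. -/
theorem result {F : Type*} [Field F] [Fintype F] {n : ℕ} (hn : 2 ≤ n)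
    (hF : Fintype.card F = (2 ^ n) ^ 2) (S : Sylow 2 (Cfsg.PSU 3 F (2 ^ n))) :
    Nat.card S = (2 ^ n) ^ 3 ∧ Nat.card (Subgroup.center ↥(S : Subgroup (Cfsg.PSU 3 F (2 ^ n)))) = 2 ^ n ∧
      Cfsg.IsSuzukiTwoGroup ↥(S : Subgroup (Cfsg.PSU 3 F (2 ^ n))) := by
  obtain ⟨σ, h, hσq, hk⟩ := Cfsg.Agent.Lib.Helper18.SU3Model.exists_good (by omega) hF
  obtain ⟨e⟩ := Cfsg.Agent.Lib.Helper18.SU3Model.sylow_PSU_equiv h (by omega) hσq hk hF S
  have h4 : 2 < 2 ^ n := by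
    calc 2 < 2 ^ 2 := by norm_num
      _ ≤ 2 ^ n := Nat.pow_le_pow_right (by norm_num) hn
  refine ⟨?_, ?_, ?_⟩
  · rw [Nat.card_congr e.toEquiv]
    exact Cfsg.Agent.Lib.Helper18.SU3Model.card_TG h _ hk (by rw [Nat.card_eq_fintype_card, hF])
  · rw [Nat.card_congr (Subgroup.centerCongr e).toEquiv]
    exact Cfsg.Agent.Lib.Helper18.SU3Model.card_center h _ hk
  · exact Cfsg.Agent.Lib.Helper18.SU3Model.isSuzukiTwoGroup_of_mulEquiv e
      (Cfsg.Agent.Lib.Helper18.SU3Model.isSuzukiTwoGroup h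
        (Cfsg.Agent.Lib.Helper18.SU3Model.exists_fixed_ne (by rw [hk]; exact h4)))

end Cfsg.Agent.S1141
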