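/-
helper6: S1142 (Feit–Higman for finite groups with a (B,N)-pair of rank 2).  The proof follows
Kilmoyer–Solomon: the cell matrices on the cosets of `B` generate a representation of the Hecke
algebra of the dihedral Weyl group; the multiplicities of the two-dimensional constituents are
rational, which forces `2 cos (2π/n)`-type quantities to be rational, and Niven's theorem finishes.
Library: Cfsg/Agent/Lib/Helper6/FH1 .. FH16.
-/
import Mathlib
import Cfsg.Statements.S1142
import Cfsg.Agent.Lib.Helper6.FH16

set_option autoImplicit false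
open Cfsg

namespace Cfsg.Agent.S1142

open Cfsg.Agent.Lib.Helper3.BN Cfsg.Agent.Lib.Helper3.WordLen Cfsg.Agent.Lib.Helper6.FH

/-- Feit–Higman: if a finite group has a (B,N)-pair of rank 2, its Weyl group `N/(B ⊓ N)` has order 4, 6, 8, 12 or 16. -/
theorem result {G : Type*} [Group G] [Finite G] (P : Cfsg.BNPair G)
    (h2 : P.rank = 2) :
    ((P.B ⊓ P.N).subgroupOf P.N).index ∈ ({4, 6, 8, 12, 16} : Set ℕ) := by
  classical
  unfold BNPair.rank at h2
  obtain ⟨⟨s, hs⟩, ⟨t, ht⟩, hst, huniv⟩ := Nat.card_eq_two_iff.mp h2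
  have hst' : s ≠ t := fun h => hst (Subtype.ext h)
  have hSall : ∀ x, ∀ hx : x ∈ P.S, x = s ∨ x = t := by
    intro x hx
    have : (⟨x, hx⟩ : P.S) ∈ (Set.univ : Set P.S) := Set.mem_univ _
    rw [← huniv] at this
    rcases this with h | h
    · left; exact congrArg Subtype.val h
    · right; exact congrArg Subtype.val h
  have hab : sb P s hs ≠ sb P t ht := fun h => hst' (Sbar_inj P hs ht h)
  have hD : Dih (Sbar P) (sb P s hs) (sb P t ht) :=
    { hS := by
        ext w
        constructor
        · rintro ⟨x, hx, rfl⟩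
          rcases hSall x hx with rfl | rfl
          · left; rfl
          · right; rfl
        · rintro (rfl | rfl)
          · exact sb_mem P hs
          · exact sb_mem P ht
      ha := sb_sq P hs
      hb := sb_sq P ht
      ha1 := sb_ne_one P hs
      hb1 := sb_ne_one P ht
      hgen := Sbar_closure P
      hne := by
        rintro _ ⟨x, hx, rfl⟩ w
        exact len_ne P hx }
  haveI : Fintype (G ⧸ P.B) := Fintype.ofFinite _
  have hpos : 0 < orderOf (sb P t ht * sb P s hs) := orderOf_pos _
  have hne1 : orderOf (sb P t ht * sb P s hs) ≠ 1 := by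
    intro h1
    rw [orderOf_eq_one_iff] at h1
    apply hab
    have : sb P t ht = (sb P s hs)⁻¹ := eq_inv_of_mul_eq_one_left h1
    rw [this, Cfsg.Agent.Lib.Helper3.BN.sb_inv]
  have hn2 : 2 ≤ orderOf (sb P t ht * sb P s hs) := by omega
  have hData := data_of_dih P hs ht hD hn2
  have hmem := hData.n_mem
  have hcard := hD.card_eq
  rw [Subgroup.index_eq_card]
  have hW : Nat.card (P.N ⧸ (P.B ⊓ P.N).subgroupOf P.N) = 2 * orderOf (sb P t ht * sb P s hs) :=
    hcard
  rw [hW]
  simp only [Set.mem_insert_iff, Set.mem_singleton_iff]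
  rcases hmem with h | h | h | h | h <;> rw [h] <;> norm_num

end Cfsg.Agent.S1142
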