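import Cfsg.Statements.S1163
-- import your own Cfsg.Agent.* helpers here
import Cfsg.Agent.Lib.Helper15.SuzukiLie
import Cfsg.Agent.S2247

set_option autoImplicit false
open Cfsg

namespace Cfsg.Agent.S1163

open Cfsg.Agent.Lib.Helper15.SuzukiAlg Cfsg.Agent.Lib.Helper15.SuzukiOvoid
  Cfsg.Agent.Lib.Helper15.SuzukiGroup Cfsg.Agent.Lib.Helper15.SuzukiOrder
  Cfsg.Agent.Lib.Helper15.SuzukiZassenhaus Cfsg.Agent.Lib.Helper15.SuzukiBorel
  Cfsg.Agent.Lib.Helper15.SuzukiLie Cfsg.Agent.S2247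
open scoped Pointwise

/-- abstract transfer from an action to the coset action -/
theorem quot_main {G Ω : Type*} [Group G] [MulAction G Ω] (ω : Ω)
    (h2 : MulAction.IsMultiplyPretransitive G Ω 2)
    (S N : Subgroup G) (hN : N = MulAction.stabilizer G ω)
    (hreg : ∀ a b : Ω, a ≠ ω → b ≠ ω → ∃! s : S, (s : G) • a = b) :
    MulAction.IsMultiplyPretransitive G (G ⧸ N) 2 ∧
    ∀ x y : G ⧸ N, x ≠ QuotientGroup.mk 1 → y ≠ QuotientGroup.mk 1 →
      ∃! s : S, (s : G) • x = y := by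
  subst hN
  have hinj := MulAction.injective_ofQuotientStabilizer G ω
  have hsm : ∀ (g : G) (x : G ⧸ MulAction.stabilizer G ω),
      MulAction.ofQuotientStabilizer G ω (g • x) = g • MulAction.ofQuotientStabilizer G ω x :=
    fun g x => MulAction.ofQuotientStabilizer_smul G ω g x
  have h1 : MulAction.ofQuotientStabilizer G ω (QuotientGroup.mk 1) = ω := by
    rw [MulAction.ofQuotientStabilizer_mk, one_smul]
  constructor
  · rw [MulAction.is_two_pretransitive_iff] at h2 ⊢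
    intro a b c d hab hcd
    obtain ⟨g, hg1, hg2⟩ := h2 (hinj.ne hab) (hinj.ne hcd)
    refine ⟨g, hinj ?_, hinj ?_⟩
    · rw [hsm, hg1]
    · rw [hsm, hg2]
  · intro x y hx hy
    have hx' : MulAction.ofQuotientStabilizer G ω x ≠ ω := fun h => hx (hinj (h.trans h1.symm))
    have hy' : MulAction.ofQuotientStabilizer G ω y ≠ ω := fun h => hy (hinj (h.trans h1.symm))
    obtain ⟨s, hs, hs'⟩ := hreg _ _ hx' hy'
    refine ⟨s, hinj ?_, ?_⟩
    · rw [hsm]; exact hs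
    · intro t ht
      apply hs'
      show (t : G) • _ = _
      rw [← hsm, ht]

variable {F : Type*} [Field F] [Fintype F] {m : ℕ}

/-- the translation group acts regularly on the affine points -/
theorem Qz_regular (hF : Fintype.card F = 2 ^ (2 * m + 1)) (a b : Cfsg.suzukiOvoid F m)
    (ha : a ≠ pt hF none) (hb : b ≠ pt hF none) :
    ∃! s : Qz hF, (s : Cfsg.Sz F m) • a = b := by
  have h2 := two_eq_zero hF
  obtain ⟨c, rfl⟩ := pt_surj hF a
  obtain ⟨d, rfl⟩ := pt_surj hF b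
  cases c with
  | none => exact absurd rfl ha
  | some c =>
  cases d with
  | none => exact absurd rfl hb
  | some d =>
  obtain ⟨x, y⟩ := c
  obtain ⟨x', y'⟩ := d
  refine ⟨⟨Ts hF (x + x') (y + y' + sig h2 m (x + x') * x), Ts_mem_Qz hF _ _⟩, ?_, ?_⟩
  · show Ts hF _ _ • _ = _
    rw [Ts_some]
    congr 3
    · grind
    · grind
  · rintro ⟨s, hs⟩ h
    obtain ⟨a, b, rfl⟩ := (mem_Qz hF s).mp hs
    have h' : Ts hF a b • pt hF (some (x, y)) = pt hF (some (x', y')) := h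
    rw [Ts_some] at h'
    have h3 := pt_inj hF h'
    simp only [Option.some.injEq, Prod.mk.injEq] at h3
    obtain ⟨h4, h5⟩ := h3
    have ha : a = x + x' := by grind
    subst ha
    have hb : b = y + y' + sig h2 m (x + x') * x := by grind
    subst hb
    rfl

theorem Bz_eq (hF : Fintype.card F = 2 ^ (2 * m + 1)) :
    Bz hF = MulAction.stabilizer (Cfsg.Sz F m) (Cfsg.suzukiPointInfinity F) := by
  ext g
  rw [MulAction.mem_stabilizer_iff, MulAction.mem_stabilizer_iff, Subtype.ext_iff]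
  rfl

theorem main (hm : 1 ≤ m) (hF : Fintype.card F = 2 ^ (2 * m + 1)) :
    Nat.card ↥(Cfsg.Lie.Sz F (2 ^ (m + 1))) = (2 ^ (2 * m + 1)) ^ 2 * (2 ^ (2 * m + 1) - 1) * ((2 ^ (2 * m + 1)) ^ 2 + 1) ∧
    ∃ S : Sylow 2 ↥(Cfsg.Lie.Sz F (2 ^ (m + 1))),
      Nat.card (Subgroup.normalizer ((S : Subgroup ↥(Cfsg.Lie.Sz F (2 ^ (m + 1)))) : Set ↥(Cfsg.Lie.Sz F (2 ^ (m + 1))))) = (2 ^ (2 * m + 1)) ^ 2 * (2 ^ (2 * m + 1) - 1) ∧
      (Subgroup.normalizer ((S : Subgroup ↥(Cfsg.Lie.Sz F (2 ^ (m + 1)))) : Set ↥(Cfsg.Lie.Sz F (2 ^ (m + 1))))).index = (2 ^ (2 * m + 1)) ^ 2 + 1 ∧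
      MulAction.IsMultiplyPretransitive ↥(Cfsg.Lie.Sz F (2 ^ (m + 1))) (↥(Cfsg.Lie.Sz F (2 ^ (m + 1))) ⧸ Subgroup.normalizer ((S : Subgroup ↥(Cfsg.Lie.Sz F (2 ^ (m + 1)))) : Set ↥(Cfsg.Lie.Sz F (2 ^ (m + 1))))) 2 ∧
      ∀ x y : ↥(Cfsg.Lie.Sz F (2 ^ (m + 1))) ⧸ Subgroup.normalizer ((S : Subgroup ↥(Cfsg.Lie.Sz F (2 ^ (m + 1)))) : Set ↥(Cfsg.Lie.Sz F (2 ^ (m + 1)))),
        x ≠ (QuotientGroup.mk 1) → y ≠ (QuotientGroup.mk 1) → ∃! s : ↥(S : Subgroup ↥(Cfsg.Lie.Sz F (2 ^ (m + 1)))), (s : ↥(Cfsg.Lie.Sz F (2 ^ (m + 1)))) • x = y := by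
  classical
  obtain ⟨G, hG⟩ : ∃ G : Subgroup (GL (Fin 4) F), G = Cfsg.Lie.Sz F (2 ^ (m + 1)) := ⟨_, rfl⟩
  have e : Cfsg.Sz F m ≃* G := hG ▸ equivLie hF hm
  rw [← hG]
  have hcard : Nat.card G = Nat.card (Cfsg.Sz F m) := (Nat.card_congr e.toEquiv).symm
  have hq : 1 ≤ 2 ^ (2 * m + 1) := Nat.one_le_two_pow
  have hcardG : Nat.card G = (2 ^ (2 * m + 1)) ^ 2 * (2 ^ (2 * m + 1) - 1) * ((2 ^ (2 * m + 1)) ^ 2 + 1) := by
    rw [hcard, card_Sz hF hm]; ring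
  refine ⟨hcardG, ?_⟩
  let _ : MulAction G (Cfsg.suzukiOvoid F m) := MulAction.compHom _ e.symm.toMonoidHom
  have hsmul : ∀ (g : G) (a : Cfsg.suzukiOvoid F m), g • a = e.symm g • a := fun _ _ => rfl
  have hQcard : Nat.card ((Qz hF).map e.toMonoidHom) = 2 ^ (Nat.card G).factorization 2 := by
    rw [hcard, ← card_Qz_eq hF hm]
    exact (Nat.card_congr ((Qz hF).equivMapOfInjective e.toMonoidHom e.injective).toEquiv).symm
  let S : Sylow 2 G := Sylow.ofCard _ hQcard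
  have hS : (S : Subgroup G) = (Qz hF).map e.toMonoidHom := rfl
  have hN : Subgroup.normalizer ((S : Subgroup G) : Set G) = MulAction.stabilizer G (pt hF none) := by
    rw [hS, ← Subgroup.map_equiv_normalizer_eq, normalizer_Qz hm hF]
    ext g
    rw [Subgroup.mem_map_equiv, MulAction.mem_stabilizer_iff, MulAction.mem_stabilizer_iff, hsmul]
  have h2t : MulAction.IsMultiplyPretransitive G (Cfsg.suzukiOvoid F m) 2 := by
    have h := two_transitive hF (m := m)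
    rw [MulAction.is_two_pretransitive_iff] at h ⊢
    intro a b c d hab hcd
    obtain ⟨g, hg1, hg2⟩ := h hab hcd
    refine ⟨e g, ?_, ?_⟩
    · rw [hsmul, e.symm_apply_apply, hg1]
    · rw [hsmul, e.symm_apply_apply, hg2]
  have hreg : ∀ a b : Cfsg.suzukiOvoid F m, a ≠ pt hF none → b ≠ pt hF none →
      ∃! s : (S : Subgroup G), (s : G) • a = b := by
    intro a b ha hb
    obtain ⟨s, hs, hs'⟩ := Qz_regular hF a b ha hb
    refine ⟨⟨e s, ?_⟩, ?_, ?_⟩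
    · rw [hS]; exact Subgroup.mem_map_of_mem _ s.2
    · show e s • a = b
      rw [hsmul, e.symm_apply_apply]; exact hs
    · rintro ⟨t, ht⟩ h
      rw [hS, Subgroup.mem_map_equiv] at ht
      have h' : e.symm t • a = b := h
      have := hs' ⟨e.symm t, ht⟩ h'
      apply Subtype.ext
      show t = e s
      rw [← this]
      exact (e.apply_symm_apply t).symm
  obtain ⟨h3, h4⟩ := quot_main (pt hF none) h2t (S : Subgroup G) _ hN hreg
  have hNcard : Nat.card (Subgroup.normalizer ((S : Subgroup G) : Set G)) =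
      (2 ^ (2 * m + 1)) ^ 2 * (2 ^ (2 * m + 1) - 1) := by
    rw [hS, ← Subgroup.map_equiv_normalizer_eq, normalizer_Qz hm hF, Bz_eq hF, ← card_stab_inf hF hm]
    exact (Nat.card_congr ((MulAction.stabilizer (Cfsg.Sz F m)
      (Cfsg.suzukiPointInfinity F)).equivMapOfInjective e.toMonoidHom e.injective).toEquiv).symm
  refine ⟨S, hNcard, ?_, h3, h4⟩
  have h5 := Subgroup.index_mul_card (Subgroup.normalizer ((S : Subgroup G) : Set G))
  rw [hNcard, hcardG] at h5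
  have hpos : 0 < (2 ^ (2 * m + 1)) ^ 2 * (2 ^ (2 * m + 1) - 1) := by
    apply Nat.mul_pos (by positivity)
    have : 2 ≤ 2 ^ (2 * m + 1) := by
      calc 2 = 2 ^ 1 := rfl
        _ ≤ 2 ^ (2 * m + 1) := Nat.pow_le_pow_right (by norm_num) (by omega)
    omega
  apply Nat.eq_of_mul_eq_mul_right hpos
  rw [h5]; ring

/-- For the Suzuki group Sz(q), q = 2^(2m+1) ≥ 8, realised as the elements g of Sp₄(F) with g* = g^θ (θ the 2^(m+1)-th power map, so that θ² is squaring): `|Sz(q)| = q² (q - 1) (q² + 1)`, and there is a Sylow 2-subgroup `S` whose normaliser `H` has order `q²(q-1)` and index `q² + 1`, the action of `Sz(q)` on the cosets of `H` is doubly transitive, and `S` acts regularly on the cosets other than `H` itself. -/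
theorem result {F : Type*} [Field F] [Fintype F] {m : ℕ} (hm : 1 ≤ m) (hF : Fintype.card F = 2 ^ (2 * m + 1)) :
    Nat.card ↥(Cfsg.Lie.Sz F (2 ^ (m + 1))) = (2 ^ (2 * m + 1)) ^ 2 * (2 ^ (2 * m + 1) - 1) * ((2 ^ (2 * m + 1)) ^ 2 + 1) ∧
    ∃ S : Sylow 2 ↥(Cfsg.Lie.Sz F (2 ^ (m + 1))),
      Nat.card (Subgroup.normalizer ((S : Subgroup ↥(Cfsg.Lie.Sz F (2 ^ (m + 1)))) : Set ↥(Cfsg.Lie.Sz F (2 ^ (m + 1))))) = (2 ^ (2 * m + 1)) ^ 2 * (2 ^ (2 * m + 1) - 1) ∧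
      (Subgroup.normalizer ((S : Subgroup ↥(Cfsg.Lie.Sz F (2 ^ (m + 1)))) : Set ↥(Cfsg.Lie.Sz F (2 ^ (m + 1))))).index = (2 ^ (2 * m + 1)) ^ 2 + 1 ∧
      MulAction.IsMultiplyPretransitive ↥(Cfsg.Lie.Sz F (2 ^ (m + 1))) (↥(Cfsg.Lie.Sz F (2 ^ (m + 1))) ⧸ Subgroup.normalizer ((S : Subgroup ↥(Cfsg.Lie.Sz F (2 ^ (m + 1)))) : Set ↥(Cfsg.Lie.Sz F (2 ^ (m + 1))))) 2 ∧
      ∀ x y : ↥(Cfsg.Lie.Sz F (2 ^ (m + 1))) ⧸ Subgroup.normalizer ((S : Subgroup ↥(Cfsg.Lie.Sz F (2 ^ (m + 1)))) : Set ↥(Cfsg.Lie.Sz F (2 ^ (m + 1)))),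
        x ≠ (QuotientGroup.mk 1) → y ≠ (QuotientGroup.mk 1) → ∃! s : ↥(S : Subgroup ↥(Cfsg.Lie.Sz F (2 ^ (m + 1)))), (s : ↥(Cfsg.Lie.Sz F (2 ^ (m + 1)))) • x = y := by
  exact main hm hF

end Cfsg.Agent.S1163
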