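import Cfsg.Statements.S1165
import Cfsg.Agent.Lib.Helper8.RankOne

set_option autoImplicit false
open Cfsg

namespace Cfsg.Agent.S1165

/-- In the rank-one set-up (`G` finite and doubly transitive on `Ω`, `t` an involution moving `a`, `Q` normal in `G_a` with `G_a = Q D`, `Q ⊓ D = 1` for the two-point stabiliser `D = G_a ⊓ G_{t • a}`, `|Q|` even, `|D|` odd): every `x ∈ Q`, `x ≠ 1`, determines unique `g, f ∈ Q`, `h ∈ D` with `t x t = g h t f` (a consequence of the canonical form). For these: (H1) the `f`-part of `x⁻¹` is `g⁻¹`; (H2) the `f`-part of `f` is `x`; (H3) for `a ∈ D` the `f`-part of `a⁻¹ x a` is `(t a t)⁻¹ f (t a t)`; (H4) the `h`-part of `a⁻¹ x a` is `(t a t)⁻¹ h a`, that of `x⁻¹` is `t h⁻¹ t`, and that of `f` is `h⁻¹`. -/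
theorem result {G Ω : Type*} [Group G] [Finite G] [MulAction G Ω] {a : Ω} {t : G} {Q : Subgroup G}
    (hS : Cfsg.IsRankOneSetup G Ω a t Q)
    (x g h f : G) (hx : x ∈ Q) (hx1 : x ≠ 1) (hg : g ∈ Q) (hh : h ∈ (MulAction.stabilizer G a ⊓ MulAction.stabilizer G (t • a))) (hf : f ∈ Q)
    (heq : t * x * t = g * h * t * f) :
    (∀ g₁ h₁ f₁ : G, g₁ ∈ Q → h₁ ∈ (MulAction.stabilizer G a ⊓ MulAction.stabilizer G (t • a)) → f₁ ∈ Q → t * x⁻¹ * t = g₁ * h₁ * t * f₁ →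
        f₁ = g⁻¹ ∧ h₁ = t * h⁻¹ * t) ∧
      (∀ g₂ h₂ f₂ : G, g₂ ∈ Q → h₂ ∈ (MulAction.stabilizer G a ⊓ MulAction.stabilizer G (t • a)) → f₂ ∈ Q → t * f * t = g₂ * h₂ * t * f₂ →
        f₂ = x ∧ h₂ = h⁻¹) ∧
      ∀ c ∈ (MulAction.stabilizer G a ⊓ MulAction.stabilizer G (t • a)), ∀ g₃ h₃ f₃ : G, g₃ ∈ Q → h₃ ∈ (MulAction.stabilizer G a ⊓ MulAction.stabilizer G (t • a)) → f₃ ∈ Q →
        t * (c⁻¹ * x * c) * t = g₃ * h₃ * t * f₃ →
          f₃ = (t * c * t)⁻¹ * f * (t * c * t) ∧ h₃ = (t * c * t)⁻¹ * h * c := by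
  open Cfsg.Agent.Lib.Helper8.RankOne MulAction in
  have htt := hS.mul_self
  have hti := t_inv hS
  have hDsub : ∀ d, d ∈ stabilizer G a ⊓ stabilizer G (t • a) → d ∈ stabilizer G a := fun d hd => hd.1
  have hconj : ∀ d ∈ stabilizer G a ⊓ stabilizer G (t • a), ∀ q ∈ Q, d⁻¹ * q * d ∈ Q := by
    intro d hd q hq
    have := hS.conj_mem d⁻¹ ((stabilizer G a).inv_mem hd.1) q hq
    rwa [inv_inv] at this
  refine ⟨?_, ?_, ?_⟩
  · intro g₁ h₁ f₁ hg₁ hh₁ hf₁ he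
    have e1 : t * x⁻¹ * t = f⁻¹ * (t * h⁻¹ * t) * t * g⁻¹ := by
      calc t * x⁻¹ * t = (t * x * t)⁻¹ := by
            rw [mul_inv_rev, mul_inv_rev, hti]; group
        _ = (g * h * t * f)⁻¹ := by rw [heq]
        _ = f⁻¹ * t * h⁻¹ * g⁻¹ := by
            rw [mul_inv_rev, mul_inv_rev, mul_inv_rev, hti]; group
        _ = f⁻¹ * (t * h⁻¹ * (t * t)) * g⁻¹ := by rw [htt]; group
        _ = f⁻¹ * (t * h⁻¹ * t) * t * g⁻¹ := by group
    have hD' : t * h⁻¹ * t ∈ stabilizer G a ⊓ stabilizer G (t • a) :=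
      t_conj_D hS (Subgroup.inv_mem _ hh)
    have := canonical3_unique hS hg₁ hh₁ hf₁ (Q.inv_mem hf) hD' (Q.inv_mem hg) (he.symm.trans e1)
    exact ⟨this.2.2, this.2.1⟩
  · intro g₂ h₂ f₂ hg₂ hh₂ hf₂ he
    have hf_eq : f = t * h⁻¹ * g⁻¹ * t * x * t := by
      calc f = t * h⁻¹ * g⁻¹ * (g * h * t * f) := by
            have : t * h⁻¹ * g⁻¹ * (g * h * t * f) = (t * t) * f := by group
            rw [this, htt, one_mul]
        _ = t * h⁻¹ * g⁻¹ * (t * x * t) := by rw [heq]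
        _ = t * h⁻¹ * g⁻¹ * t * x * t := by group
    have e1 : t * f * t = (h⁻¹ * g⁻¹ * h) * h⁻¹ * t * x := by
      calc t * f * t = t * (t * h⁻¹ * g⁻¹ * t * x * t) * t := by rw [← hf_eq]
        _ = (t * t) * h⁻¹ * g⁻¹ * t * x * (t * t) := by group
        _ = h⁻¹ * g⁻¹ * t * x := by rw [htt]; group
        _ = (h⁻¹ * g⁻¹ * h) * h⁻¹ * t * x := by group
    have hq' : h⁻¹ * g⁻¹ * h ∈ Q := hconj h hh _ (Q.inv_mem hg)
    have := canonical3_unique hS hg₂ hh₂ hf₂ hq' (Subgroup.inv_mem _ hh) hx (he.symm.trans e1)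
    exact ⟨this.2.2, this.2.1⟩
  · intro c hc g₃ h₃ f₃ hg₃ hh₃ hf₃ he
    have hE : t * c * t ∈ stabilizer G a ⊓ stabilizer G (t • a) := t_conj_D hS hc
    have e1 : t * (c⁻¹ * x * c) * t =
        ((t * c * t)⁻¹ * g * (t * c * t)) * ((t * c * t)⁻¹ * h * c) * t *
          ((t * c * t)⁻¹ * f * (t * c * t)) := by
      have hce : (t * c * t)⁻¹ = t * c⁻¹ * t := by
        rw [mul_inv_rev, mul_inv_rev, hti]; group
      have h1 : t * (c⁻¹ * x * c) * t = (t * c⁻¹ * t) * (t * x * t) * (t * c * t) := by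
        calc t * (c⁻¹ * x * c) * t = t * c⁻¹ * 1 * x * 1 * c * t := by group
          _ = t * c⁻¹ * (t * t) * x * (t * t) * c * t := by rw [htt]
          _ = (t * c⁻¹ * t) * (t * x * t) * (t * c * t) := by group
      have hkey : c * t * (t * c * t)⁻¹ = t := by
        rw [hce]
        calc c * t * (t * c⁻¹ * t) = c * (t * t) * c⁻¹ * t := by group
          _ = t := by rw [htt]; group
      have h2 : ((t * c * t)⁻¹ * g * (t * c * t)) * ((t * c * t)⁻¹ * h * c) * t *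
          ((t * c * t)⁻¹ * f * (t * c * t)) =
          (t * c * t)⁻¹ * g * h * (c * t * (t * c * t)⁻¹) * f * (t * c * t) := by group
      rw [h2, hkey, h1, heq, ← hce]
      group
    have hq1 : (t * c * t)⁻¹ * g * (t * c * t) ∈ Q := hconj _ hE g hg
    have hq2 : (t * c * t)⁻¹ * f * (t * c * t) ∈ Q := hconj _ hE f hf
    have hd2 : (t * c * t)⁻¹ * h * c ∈ stabilizer G a ⊓ stabilizer G (t • a) :=
      Subgroup.mul_mem _ (Subgroup.mul_mem _ (Subgroup.inv_mem _ hE) hh) hc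
    have := canonical3_unique hS hg₃ hh₃ hf₃ hq1 hd2 hq2 (he.symm.trans e1)
    exact ⟨this.2.2, this.2.1⟩

end Cfsg.Agent.S1165
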