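import Cfsg.Statements.S1167
import Cfsg.Agent.S0885
import Cfsg.Agent.Lib.Helper8.ZassEven

set_option autoImplicit false
open Cfsg

namespace Cfsg.Agent.S1167

open Cfsg.Agent.Lib.Helper8.ZassEven MulAction

/-- Let `G` be a finite simple Zassenhaus group on `Ω`, `U` a normal subgroup of `G_a` regular on `Ω` minus `a` which is an abelian 2-group, and `v` an involution with `v • a ≠ a`. Then there is a unique `u₀ ∈ U`, `u₀ ≠ 1`, with `v u₀ v = u₀ v u₀`. -/
theorem result {G Ω : Type*} [Group G] [Finite G] [MulAction G Ω] [Finite Ω]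
    (hZ : Cfsg.IsZassenhausGroup G Ω) [IsSimpleGroup G] {a : Ω}
    (U : Subgroup G) (hUle : U ≤ MulAction.stabilizer G a)
    (hUn : ∀ h ∈ MulAction.stabilizer G a, ∀ u ∈ U, h * u * h⁻¹ ∈ U)
    (hreg : ∀ c d : Ω, c ≠ a → d ≠ a → ∃! u : U, (u : G) • c = d)
    (hU2 : IsPGroup 2 U) (hUab : ∀ u ∈ U, ∀ u' ∈ U, u * u' = u' * u)
    (v : G) (hv1 : v ≠ 1) (hv2 : v * v = 1) (hva : v • a ≠ a) :
    ∃! u₀ : G, u₀ ∈ U ∧ u₀ ≠ 1 ∧ v * u₀ * v = u₀ * v * u₀ := by
  classical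
  have hreg' : Reg a U := hreg
  apply structure_equation hZ hUle hUn hreg' hU2 hv2 hva
  -- Feit's inequality
  letI : Fintype Ω := Fintype.ofFinite Ω
  obtain ⟨hoddE, _, _⟩ := odd_card_E hZ hUle hUn hreg' hU2 hva
  have hcard := card_add_one hreg' hUle hva
  rw [Nat.card_eq_fintype_card (α := Ω)] at hcard
  have hfix : ∀ u ∈ U, u ≠ 1 → ∀ c : Ω, u • c = c → c = a := by
    intro u hu hu1 c hc
    by_contra hca
    exact hu1 (eq_one_of_smul_eq hreg' hu hca hUle hc)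
  rcases Cfsg.Agent.S0885.result hZ (a := a) (b := v • a) (Ne.symm hva) (Nat.card U)
      (Nat.card ↥(stabilizer G a ⊓ stabilizer G (v • a))) hcard.symm rfl hoddE U hUle hcard hfix
    with h | ⟨_, ⟨x, y, hxy⟩, _⟩
  · exact h
  · exfalso
    apply hxy
    exact Subtype.ext (hUab x x.2 y y.2)

end Cfsg.Agent.S1167
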