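import Cfsg.Statements.S1168
import Mathlib
import Cfsg.Agent.S1140

set_option autoImplicit false
open Cfsg

namespace Cfsg.Agent.S1168

section
variable {F : Type*} [Field F] [Fintype F] [CharP F 2]

/-- `g` is an `F`-combination of the maps `x ↦ σ x * τ x`. -/
def InW [Fintype (F ≃+* F)] (g : F → F) : Prop :=
  ∃ c : (F ≃+* F) × (F ≃+* F) → F, ∀ x, g x = ∑ p, c p * (p.1 x * p.2 x)

omit [Fintype F] [CharP F 2] in
theorem inW_zero [Fintype (F ≃+* F)] : InW (fun _ : F => (0 : F)) :=
  ⟨fun _ => 0, fun x => by simp⟩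

omit [Fintype F] [CharP F 2] in
theorem inW_add [Fintype (F ≃+* F)] {g h : F → F} (hg : InW g) (hh : InW h) :
    InW (fun x => g x + h x) := by
  obtain ⟨c, hc⟩ := hg
  obtain ⟨d, hd⟩ := hh
  refine ⟨fun p => c p + d p, fun x => ?_⟩
  simp only [hc, hd, add_mul, Finset.sum_add_distrib]

omit [Fintype F] [CharP F 2] in
theorem inW_smul [Fintype (F ≃+* F)] {g : F → F} (a : F) (hg : InW g) :
    InW (fun x => a * g x) := by
  obtain ⟨c, hc⟩ := hg
  refine ⟨fun p => a * c p, fun x => ?_⟩
  simp only [hc, Finset.mul_sum, mul_assoc]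

omit [Fintype F] [CharP F 2] in
theorem inW_sum [Fintype (F ≃+* F)] {ι : Type*} (s : Finset ι) (g : ι → F → F)
    (hg : ∀ i ∈ s, InW (g i)) : InW (fun x => ∑ i ∈ s, g i x) := by
  classical
  induction s using Finset.induction_on with
  | empty => simpa using inW_zero
  | insert k s hk ih =>
    have h1 := inW_add (hg k (Finset.mem_insert_self k s))
      (ih (fun i hi => hg i (Finset.mem_insert_of_mem hi)))
    simpa [Finset.sum_insert hk] using h1

theorem add_repr_univ [Fintype (F ≃+* F)] (f : F →+ F) :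
    ∃ c : (F ≃+* F) → F, ∀ x, f x = ∑ σ, c σ * σ x := by
  classical
  obtain ⟨s, c, hc⟩ := Cfsg.Agent.S1140.add_repr f
  refine ⟨fun σ => if σ ∈ s then c σ else 0, fun x => ?_⟩
  rw [hc x, ← Finset.sum_subset (Finset.subset_univ s)]
  · refine Finset.sum_congr rfl (fun σ hσ => ?_)
    simp only [hσ, if_true]
  · intro σ _ hσ
    simp only [hσ, if_false, zero_mul]

theorem inW_mul [Fintype (F ≃+* F)] (f g : F →+ F) : InW (fun x => f x * g x) := by
  obtain ⟨c, hc⟩ := add_repr_univ f
  obtain ⟨d, hd⟩ := add_repr_univ g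
  refine ⟨fun p => c p.1 * d p.2, fun x => ?_⟩
  show f x * g x = ∑ p : (F ≃+* F) × (F ≃+* F), (c p.1 * d p.2) * (p.1 x * p.2 x)
  rw [hc x, hd x, Finset.sum_mul_sum, ← Finset.univ_product_univ, Finset.sum_product]
  refine Finset.sum_congr rfl (fun σ _ => Finset.sum_congr rfl (fun τ _ => ?_))
  ring

omit [Field F] [Fintype F] [CharP F 2] in
theorem zmod2_cases : ∀ a : ZMod 2, a = 0 ∨ a = 1 := by
  decide

theorem main [Fintype (F ≃+* F)] (q : F → F)
    (hq : ∀ x y z : F,
      q (x + y + z) + q (x + y) + q (x + z) + q (y + z) + q x + q y + q z = 0) :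
    InW q := by
  classical
  letI : Algebra (ZMod 2) F := ZMod.algebra F 2
  have h2 : (2 : F) = 0 := CharTwo.two_eq_zero
  have q0 : q 0 = 0 := by
    have := hq 0 0 0
    simp only [add_zero] at this
    linear_combination this - 3 * q 0 * h2
  -- polar form
  set B : F → F → F := fun x y => q (x + y) + q x + q y with hB
  have Badd_left : ∀ x y z, B (x + y) z = B x z + B y z := by
    intro x y z
    simp only [hB]
    linear_combination hq x y z - (q (x + z) + q (y + z) + q x + q y + q z) * h2
  have Bsymm : ∀ x y, B x y = B y x := by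
    intro x y
    simp only [hB, add_comm x y]
    ring
  have Bzero : ∀ x, B x 0 = 0 := by
    intro x
    simp only [hB, add_zero, q0]
    linear_combination q x * h2
  have Badd_right : ∀ x y z, B x (y + z) = B x y + B x z := by
    intro x y z
    rw [Bsymm, Badd_left, Bsymm y, Bsymm z]
  have Bsum : ∀ {ι : Type} (u : F) (s : Finset ι) (v : ι → F),
      B u (∑ j ∈ s, v j) = ∑ j ∈ s, B u (v j) := by
    intro ι u s v
    induction s using Finset.induction_on with
    | empty => simp [Bzero]
    | insert k s hk ih => rw [Finset.sum_insert hk, Finset.sum_insert hk, Badd_right, ih]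
  have qadd : ∀ u v, q (u + v) = B u v + q u + q v := by
    intro u v
    simp only [hB]
    linear_combination -(q u + q v) * h2
  let b := Module.finBasis (ZMod 2) F
  let ℓ : Fin (Module.finrank (ZMod 2) F) → F →+ F := fun i =>
    { toFun := fun x => algebraMap (ZMod 2) F (b.repr x i)
      map_zero' := by simp
      map_add' := by intro x y; simp }
  have hℓ : ∀ i x, ℓ i x = algebraMap (ZMod 2) F (b.repr x i) := fun i x => rfl
  have hx : ∀ x, x = ∑ i, ℓ i x * b i := by
    intro x
    conv_lhs => rw [← b.sum_repr x]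
    refine Finset.sum_congr rfl (fun i _ => ?_)
    rw [hℓ, Algebra.smul_def]
  have q_scal : ∀ (a : ZMod 2) u,
      q (algebraMap (ZMod 2) F a * u) =
        q u * (algebraMap (ZMod 2) F a * algebraMap (ZMod 2) F a) := by
    intro a u
    rcases zmod2_cases a with rfl | rfl <;> simp [q0]
  have B_scal : ∀ (a a' : ZMod 2) u v,
      B (algebraMap (ZMod 2) F a * u) (algebraMap (ZMod 2) F a' * v) =
        B u v * (algebraMap (ZMod 2) F a * algebraMap (ZMod 2) F a') := by
    intro a a' u v
    have Bzero' : ∀ x, B 0 x = 0 := fun x => by rw [Bsymm, Bzero]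
    rcases zmod2_cases a with rfl | rfl <;> rcases zmod2_cases a' with rfl | rfl <;>
      simp [Bzero, Bzero']
  have claim : ∀ s : Finset (Fin (Module.finrank (ZMod 2) F)),
      InW (fun x => q (∑ i ∈ s, ℓ i x * b i)) := by
    intro s
    induction s using Finset.induction_on with
    | empty => simpa [q0] using inW_zero (F := F)
    | insert k s hk ih =>
      have e : (fun x => q (∑ i ∈ insert k s, ℓ i x * b i)) =
          fun x => (∑ j ∈ s, B (b k) (b j) * (ℓ k x * ℓ j x)) +
            q (b k) * (ℓ k x * ℓ k x) + q (∑ i ∈ s, ℓ i x * b i) := by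
        funext x
        rw [Finset.sum_insert hk, qadd, Bsum]
        congr 2
        · refine Finset.sum_congr rfl (fun j _ => ?_)
          rw [hℓ, hℓ, B_scal]
        · rw [hℓ, q_scal]
      rw [e]
      refine inW_add (inW_add ?_ ?_) ih
      · exact inW_sum s _ (fun j _ => inW_smul _ (inW_mul (ℓ k) (ℓ j)))
      · exact inW_smul _ (inW_mul (ℓ k) (ℓ k))
  have := claim Finset.univ
  have e : (fun x => q (∑ i, ℓ i x * b i)) = q := by
    funext x
    rw [← hx x]
  rwa [e] at this

end

/-- For a finite field `F` of characteristic 2: if `q : F → F` is quadratic over the prime field, i.e. `(x, y) ↦ q (x + y) + q x + q y` is additive in each variable, then `q x = Σ c_{σ,τ} σ(x) τ(x)` for some coefficients indexed by pairs of field automorphisms. -/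
theorem result {F : Type*} [Field F] [Fintype F] [CharP F 2]
    (q : F → F)
    (hq : ∀ x y z : F, q (x + y + z) + q (x + y) + q (x + z) + q (y + z) + q x + q y + q z = 0) :
    ∃ (s : Finset ((F ≃+* F) × (F ≃+* F))) (c : (F ≃+* F) × (F ≃+* F) → F),
      ∀ x : F, q x = ∑ p ∈ s, c p * (p.1 x * p.2 x) := by
  classical
  have : Finite (F ≃+* F) := Cfsg.Agent.S1140.finite_aut
  let _ : Fintype (F ≃+* F) := Fintype.ofFinite _
  obtain ⟨c, hc⟩ := main q hq
  exact ⟨Finset.univ, c, hc⟩

end Cfsg.Agent.S1168
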