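import Cfsg.Statements.S1176
import Cfsg.Agent.Lib.Helper27.Dihedral

set_option autoImplicit false
open Cfsg

namespace Cfsg.Agent.S1176

/-- Let x₀ be an involution of the finite group G and D its conjugacy class. Assume (a) for each x ∈ D the subgroup W(x) generated by the members of D commuting with x is a 2-group of nilpotency class at most 2, and (b) the product of two distinct commuting members of D again lies in D. Then for all x, y ∈ D, if xy has even order greater than 2, its order is 4. -/
theorem result {G : Type*} [Group G] [Finite G] (x₀ : G) (hx₀ : orderOf x₀ = 2) (ha : ∀ x : G, IsConj x₀ x → IsPGroup 2 ↥(Subgroup.closure {y : G | IsConj x₀ y ∧ Commute y x}) ∧ ⁅⁅Subgroup.closure {y : G | IsConj x₀ y ∧ Commute y x}, Subgroup.closure {y : G | IsConj x₀ y ∧ Commute y x}⁆, Subgroup.closure {y : G | IsConj x₀ y ∧ Commute y x}⁆ = ⊥) (hb : ∀ x y : G, IsConj x₀ x → IsConj x₀ y → x ≠ y → Commute x y → IsConj x₀ (x * y)) (x y : G) (hx : IsConj x₀ x) (hy : IsConj x₀ y) (heven : Even (orderOf (x * y)))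 (hgt : 2 < orderOf (x * y)) : orderOf (x * y) = 4 := by
  open Cfsg.Agent.Lib.Helper27 in
  open scoped commutatorElement in
  -- conjugates of x₀ are involutions
  have hinv : ∀ u : G, IsConj x₀ u → u * u = 1 := by
    intro u hu
    obtain ⟨c, hc⟩ := isConj_iff.mp hu
    rw [← hc]
    have h0 : x₀ * x₀ = 1 := by rw [← sq, ← hx₀, pow_orderOf_eq_one]
    calc c * x₀ * c⁻¹ * (c * x₀ * c⁻¹) = c * (x₀ * x₀) * c⁻¹ := by group
      _ = 1 := by rw [h0]; group
  have hx2 := hinv x hx
  have hy2 := hinv y hy
  obtain ⟨k, hk⟩ := heven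
  have hk0 : 0 < k := by omega
  obtain ⟨hw2, hw1, hxw, hyw, t, ht⟩ := even_order_mul_involutions hx2 hy2 hk0 hk
  set w := (x * y) ^ k with hw
  -- w * x ∈ D
  have hwxD : IsConj x₀ (w * x) := by
    rcases ht with ht | ht
    · rw [ht]; exact hx.trans (isConj_iff.mpr ⟨t, rfl⟩)
    · rw [ht]; exact hy.trans (isConj_iff.mpr ⟨t, rfl⟩)
  have hne : x ≠ w * x := by
    intro h
    apply hw1
    have : w * x = 1 * x := by rw [one_mul]; exact h.symm
    exact mul_right_cancel this
  have hcomm : Commute x (w * x) := by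
    show x * (w * x) = w * x * x
    rw [← mul_assoc, hxw]
  have hwD : IsConj x₀ w := by
    have := hb x (w * x) hx hwxD hne hcomm
    have h1 : x * (w * x) = w := by
      rw [← mul_assoc, hxw, mul_assoc, hx2, mul_one]
    rwa [h1] at this
  obtain ⟨-, hcl⟩ := ha w hwD
  have hxW : x ∈ Subgroup.closure {y : G | IsConj x₀ y ∧ Commute y w} :=
    Subgroup.subset_closure ⟨hx, hxw⟩
  have hyW : y ∈ Subgroup.closure {y : G | IsConj x₀ y ∧ Commute y w} :=
    Subgroup.subset_closure ⟨hy, hyw⟩
  have h3 : ⁅⁅x, y⁆, y⁆ = 1 := by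
    have := Subgroup.commutator_mem_commutator (Subgroup.commutator_mem_commutator hxW hyW) hyW
    rw [hcl, Subgroup.mem_bot] at this
    exact this
  have hxi : x⁻¹ = x := inv_eq_self_of_mul_self hx2
  have hyi : y⁻¹ = y := inv_eq_self_of_mul_self hy2
  have h4 : (x * y) ^ 4 = 1 := by
    rw [commutatorElement_def, commutatorElement_def, hxi, hyi] at h3
    have hi : (x * y * x * y)⁻¹ = y * x * y * x := by
      rw [mul_inv_rev, mul_inv_rev, mul_inv_rev, hxi, hyi]
      simp only [mul_assoc]
    have : (x * y) ^ 4 = x * y * x * y * y * (x * y * x * y)⁻¹ * y := by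
      rw [hi]
      calc (x * y) ^ 4 = x * y * x * y * (x * y * x * y) := by
            simp only [pow_succ, pow_zero, one_mul, mul_assoc]
        _ = x * y * x * y * (y * y) * (x * y * x * y) := by rw [hy2, mul_one]
        _ = x * y * x * y * y * (y * x * y * x) * y := by simp only [mul_assoc]
    rw [this]; exact h3
  have hdvd : orderOf (x * y) ∣ 4 := orderOf_dvd_of_pow_eq_one h4
  have hle : orderOf (x * y) ≤ 4 := Nat.le_of_dvd (by norm_num) hdvd
  interval_cases h : orderOf (x * y)
  · omega
  · rfl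

end Cfsg.Agent.S1176
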