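import Cfsg.Statements.S1177
import Cfsg.Agent.Lib.Helper8.Conj

set_option autoImplicit false
open Cfsg

namespace Cfsg.Agent.S1177

open Cfsg.Agent.Lib.Helper8 in
theorem aux {G : Type*} [Group G] [Finite G] (A : Subgroup G) (hA : Cfsg.IsElementaryAbelian 2 A)
    (hTI : ∀ g : G, A.map (MulAut.conj g).toMonoidHom ⊓ A = ⊥ ∨ A.map (MulAut.conj g).toMonoidHom = A)
    (hb : ∀ g : G, (∀ a ∈ A, ∀ b ∈ A.map (MulAut.conj g).toMonoidHom, a * b = b * a) →
      A.map (MulAut.conj g).toMonoidHom = A)
    (a : G) (ha : a ∈ A) (ha1 : a ≠ 1) (g : G)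
    (hg : A.map (MulAut.conj g).toMonoidHom ≤ Subgroup.centralizer ({a} : Set G)) :
    A.map (MulAut.conj g).toMonoidHom = A := by
  obtain ⟨hAc, hA2⟩ := hA
  have hcomm : ∀ x ∈ A, ∀ y ∈ A, x * y = y * x := by
    intro x hx y hy
    have := (isMulCommutative_iff.mp hAc) ⟨x, hx⟩ ⟨y, hy⟩
    exact congrArg Subtype.val this
  have hsq : ∀ x ∈ A, x * x = 1 := by
    intro x hx; have := hA2 x hx; rwa [pow_two] at this
  -- TI for arbitrary pairs of conjugates
  have TI' : ∀ g h y : G, y ≠ 1 → y ∈ A.map (MulAut.conj g).toMonoidHom →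
      y ∈ A.map (MulAut.conj h).toMonoidHom →
      A.map (MulAut.conj g).toMonoidHom = A.map (MulAut.conj h).toMonoidHom := by
    intro g h y hy1 hyg hyh
    rw [mem_map_conj] at hyg hyh
    rcases hTI (h⁻¹ * g) with h0 | h0
    · exfalso
      have : h⁻¹ * y * h ∈ A.map (MulAut.conj (h⁻¹ * g)).toMonoidHom ⊓ A := by
        refine Subgroup.mem_inf.mpr ⟨?_, hyh⟩
        rw [mem_map_conj]
        have e : (h⁻¹ * g)⁻¹ * (h⁻¹ * y * h) * (h⁻¹ * g) = g⁻¹ * y * g := by group
        rw [e]; exact hyg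
      rw [h0, Subgroup.mem_bot] at this
      apply hy1
      have e : y = h * (h⁻¹ * y * h) * h⁻¹ := by group
      rw [e, this]; group
    · have := congrArg (fun X => Subgroup.map (MulAut.conj h).toMonoidHom X) h0
      simp only [map_conj_map_conj] at this
      rw [mul_inv_cancel_left] at this
      exact this
  have hb' : ∀ g h : G, (∀ u ∈ A.map (MulAut.conj g).toMonoidHom,
      ∀ v ∈ A.map (MulAut.conj h).toMonoidHom, u * v = v * u) →
      A.map (MulAut.conj g).toMonoidHom = A.map (MulAut.conj h).toMonoidHom := by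
    intro g h hc
    have h0 := hb (h⁻¹ * g) (by
      intro x hx y hy
      rw [mem_map_conj] at hy
      have h1 : h * y * h⁻¹ ∈ A.map (MulAut.conj g).toMonoidHom := by
        rw [mem_map_conj]
        have e : g⁻¹ * (h * y * h⁻¹) * g = (h⁻¹ * g)⁻¹ * y * (h⁻¹ * g) := by group
        rw [e]; exact hy
      have h2 : h * x * h⁻¹ ∈ A.map (MulAut.conj h).toMonoidHom := conj_mem_map_conj hx
      have h3 := hc _ h1 _ h2
      have h4 : h * (y * x) * h⁻¹ = h * (x * y) * h⁻¹ := by
        calc h * (y * x) * h⁻¹ = (h * y * h⁻¹) * (h * x * h⁻¹) := by group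
          _ = (h * x * h⁻¹) * (h * y * h⁻¹) := h3
          _ = h * (x * y) * h⁻¹ := by group
      exact (mul_left_cancel (mul_right_cancel h4)).symm)
    have := congrArg (fun X => Subgroup.map (MulAut.conj h).toMonoidHom X) h0
    simp only [map_conj_map_conj] at this
    rw [mul_inv_cancel_left] at this
    exact this
  -- two conjugates normalizing each other are equal
  have L : ∀ g h : G,
      A.map (MulAut.conj g).toMonoidHom ≤ Subgroup.normalizer ((A.map (MulAut.conj h).toMonoidHom : Subgroup G) : Set G) →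
      A.map (MulAut.conj h).toMonoidHom ≤ Subgroup.normalizer ((A.map (MulAut.conj g).toMonoidHom : Subgroup G) : Set G) →
      A.map (MulAut.conj g).toMonoidHom = A.map (MulAut.conj h).toMonoidHom := by
    intro g h h1 h2
    by_cases hc : ∀ u ∈ A.map (MulAut.conj g).toMonoidHom,
      ∀ v ∈ A.map (MulAut.conj h).toMonoidHom, u * v = v * u
    · exact hb' g h hc
    · push Not at hc
      obtain ⟨u, hu, v, hv, huv⟩ := hc
      apply TI' g h (u * v * u⁻¹ * v⁻¹)
      · intro h0
        apply huv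
        have : u * v = (u * v * u⁻¹ * v⁻¹) * (v * u) := by group
        rw [this, h0, one_mul]
      · -- in A^g : u * (v u⁻¹ v⁻¹)
        have h3 : v * u⁻¹ * v⁻¹ ∈ A.map (MulAut.conj g).toMonoidHom :=
          (Subgroup.mem_normalizer_iff.mp (h2 hv) u⁻¹).mp (Subgroup.inv_mem _ hu)
        have : u * v * u⁻¹ * v⁻¹ = u * (v * u⁻¹ * v⁻¹) := by group
        rw [this]; exact Subgroup.mul_mem _ hu h3
      · have h3 : u * v * u⁻¹ ∈ A.map (MulAut.conj h).toMonoidHom :=
          (Subgroup.mem_normalizer_iff.mp (h1 hu) v).mp hv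
        exact Subgroup.mul_mem _ h3 (Subgroup.inv_mem _ hv)
  set B := A.map (MulAut.conj g).toMonoidHom with hB
  have hA1' : A.map (MulAut.conj (1 : G)).toMonoidHom = A := map_conj_one A
  -- (1) B normalizes A
  have hBA : B ≤ Subgroup.normalizer (A : Set G) := by
    intro b hb0
    have hba : b * a = a * b := Subgroup.mem_centralizer_singleton_iff.mp (hg hb0)
    rw [mem_normalizer_iff_map_conj]
    have h1 : a ∈ A.map (MulAut.conj b).toMonoidHom := by
      rw [mem_map_conj]
      have : b⁻¹ * a * b = a := by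
        calc b⁻¹ * a * b = b⁻¹ * (a * b) := by group
          _ = b⁻¹ * (b * a) := by rw [hba]
          _ = a := by group
      rw [this]; exact ha
    have h2 := TI' b 1 a ha1 h1 (by rw [hA1']; exact ha)
    rw [hA1'] at h2
    exact h2
  have hBsq : ∀ b ∈ B, b * b = 1 := by
    intro b hb0
    rw [hB, mem_map_conj] at hb0
    have := hsq _ hb0
    have e : b * b = g * ((g⁻¹ * b * g) * (g⁻¹ * b * g)) * g⁻¹ := by group
    rw [e, this]; group
  -- (3) commutators normalize B
  have h3 : ∀ b ∈ B, ∀ x ∈ A, b * x * b⁻¹ * x⁻¹ ∈ Subgroup.normalizer (B : Set G) := by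
    intro b hb0 x hx
    by_cases hc1 : b * x * b⁻¹ * x⁻¹ = 1
    · rw [hc1]; exact Subgroup.one_mem _
    set c := b * x * b⁻¹ * x⁻¹ with hc
    have hbi : b⁻¹ = b := inv_eq_of_mul_eq_one_left (hBsq b hb0)
    have hxi : x⁻¹ = x := inv_eq_of_mul_eq_one_left (hsq x hx)
    have hx' : b * x * b⁻¹ ∈ A := (Subgroup.mem_normalizer_iff.mp (hBA hb0) x).mp hx
    have hcA : c ∈ A := Subgroup.mul_mem _ hx' (Subgroup.inv_mem _ hx)
    have hx'i : (b * x * b⁻¹)⁻¹ = b * x * b⁻¹ := inv_eq_of_mul_eq_one_left (hsq _ hx')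
    have hcb : b * c * b⁻¹ = c := by
      calc b * c * b⁻¹ = ((b * b) * x * (b * b)⁻¹) * (b * x * b⁻¹)⁻¹ := by rw [hc]; group
        _ = x * (b * x * b⁻¹)⁻¹ := by rw [hBsq b hb0]; group
        _ = x * (b * x * b⁻¹) := by rw [hx'i]
        _ = (b * x * b⁻¹) * x := hcomm _ hx _ hx'
        _ = c := by rw [hc]; conv_rhs => rw [hxi]
    rw [mem_normalizer_iff_map_conj, hB, map_conj_map_conj]
    have hb1 : b ≠ 1 := by
      intro h0; apply hc1; rw [hc, h0]; group
    apply TI' (c * g) g b hb1
    · rw [← map_conj_map_conj, mem_map_conj]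
      have : c⁻¹ * b * c = b := by
        have := congrArg (fun t => c⁻¹ * t * b) hcb
        have e1 : c⁻¹ * (b * c * b⁻¹) * b = c⁻¹ * b * c := by group
        have e2 : c⁻¹ * c * b = b := by group
        rw [e1, e2] at this; exact this
      rw [this]; exact hb0
    · exact hb0
  -- (4) B^x normalizes B, for x ∈ A
  have h4 : ∀ x ∈ A, B.map (MulAut.conj x).toMonoidHom ≤ Subgroup.normalizer (B : Set G) := by
    intro x hx u hu
    rw [mem_map_conj] at hu
    have h5 := h3 _ hu x hx
    have e : u = (x⁻¹ * u * x * x * (x⁻¹ * u * x)⁻¹ * x⁻¹)⁻¹ * (x⁻¹ * u * x) := by group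
    rw [e]
    exact Subgroup.mul_mem _ (Subgroup.inv_mem _ h5) ((Subgroup.le_normalizer) hu)
  -- (5) B normalizes B^x
  have h5 : ∀ x ∈ A, B ≤ Subgroup.normalizer ((B.map (MulAut.conj x).toMonoidHom : Subgroup G) : Set G) := by
    intro x hx v hv
    have h6 := h4 x⁻¹ (Subgroup.inv_mem _ hx)
    have h7 : x⁻¹ * v * x ∈ B.map (MulAut.conj x⁻¹).toMonoidHom := by
      have := conj_mem_map_conj (g := x⁻¹) hv
      rwa [inv_inv] at this
    have h8 := h6 h7
    rw [mem_normalizer_iff_map_conj] at h8 ⊢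
    have := congrArg (fun X => Subgroup.map (MulAut.conj x).toMonoidHom X) h8
    simp only [map_conj_map_conj] at this ⊢
    have e : x * (x⁻¹ * v * x) = v * x := by group
    rw [e] at this
    exact this
  -- (6) A normalizes B
  have h6 : A ≤ Subgroup.normalizer (B : Set G) := by
    intro x hx
    rw [mem_normalizer_iff_map_conj]
    have h7 := h4 x hx
    have h8 := h5 x hx
    rw [hB, map_conj_map_conj] at h7 h8 ⊢
    exact L (x * g) g h7 h8
  -- (7)
  have := L g 1 (by rw [hA1']; exact hBA) (by rw [hA1']; exact h6)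
  rw [hA1'] at this
  exact this

/-- Let A be a nontrivial elementary abelian 2-subgroup of a finite group G which is a T.I. set (each conjugate of A meets A trivially or equals A) and which does not commute elementwise with any conjugate of A other than A itself. Then for every a ∈ A, a ≠ 1, every conjugate of A contained in C_G(a) is equal to A (A is weakly closed in C_G(a)). -/
theorem result {G : Type*} [Group G] [Finite G] (A : Subgroup G) (hA : Cfsg.IsElementaryAbelian 2 A) (hA1 : A ≠ ⊥) (hTI : ∀ g : G, A.map (MulAut.conj g).toMonoidHom ⊓ A = ⊥ ∨ A.map (MulAut.conj g).toMonoidHom = A) (hb : ∀ g : G, (∀ a ∈ A, ∀ b ∈ A.map (MulAut.conj g).toMonoidHom, a * b = b * a) → A.map (MulAut.conj g).toMonoidHom = A) (a : G) (ha : a ∈ A) (ha1 : a ≠ 1) (g : G) (hg : A.map (MulAut.conj g).toMonoidHom ≤ Subgroup.centralizer ({a} : Set G)) : A.map (MulAut.conj g).toMonoidHom = A := by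
  exact aux A hA hTI hb a ha ha1 g hg

end Cfsg.Agent.S1177
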