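import Cfsg.Statements.S1178
import Cfsg.Agent.Lib.Helper8.Conj

set_option autoImplicit false
open Cfsg

namespace Cfsg.Agent.S1178

/-- Let A be a subgroup of a Sylow 2-subgroup S of the finite group G which is weakly closed in S. If a conjugate g A g⁻¹ commutes elementwise with A, then g A g⁻¹ = A. -/
theorem result {G : Type*} [Group G] [Finite G] (S : Sylow 2 G) (A : Subgroup G) (hW : Cfsg.IsWeaklyClosed A (S : Subgroup G)) (g : G) (hc : ∀ a ∈ A, ∀ b ∈ A.map (MulAut.conj g).toMonoidHom, a * b = b * a) : A.map (MulAut.conj g).toMonoidHom = A := by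
  open Cfsg.Agent.Lib.Helper8 in
  obtain ⟨hAS, hwc⟩ := hW
  set B := A.map (MulAut.conj g).toMonoidHom with hB
  have hA2 : IsPGroup 2 A := S.2.to_le hAS
  have hB2 : IsPGroup 2 B := hA2.map _
  have hBn : B ≤ Subgroup.normalizer (A : Set G) := by
    intro b hb
    rw [Subgroup.mem_normalizer_iff]
    intro a
    have e : ∀ a ∈ A, b * a * b⁻¹ = a := by
      intro a ha
      have := hc a ha b hb
      rw [← this]; group
    constructor
    · intro ha; rw [e a ha]; exact ha
    · intro ha
      have h1 := e _ ha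
      have h2 : a = b * a * b⁻¹ := by
        have := congrArg (fun x => b⁻¹ * x * b) h1
        have e2 : b⁻¹ * (b * (b * a * b⁻¹) * b⁻¹) * b = b * a * b⁻¹ := by group
        have e3 : b⁻¹ * (b * a * b⁻¹) * b = a := by group
        rw [e2, e3] at this
        exact this.symm
      rw [h2]; exact ha
  have hAB : IsPGroup 2 (B ⊔ A : Subgroup G) := hB2.to_sup_of_normal_right' hA2 hBn
  obtain ⟨Q, hQ⟩ := hAB.exists_le_sylow
  obtain ⟨h, hh⟩ := MulAction.exists_smul_eq G S Q
  have hQ' : (Q : Subgroup G) = (S : Subgroup G).map (MulAut.conj h).toMonoidHom := by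
    rw [← hh, sylow_smul_coe]
  have h1 : A ≤ (S : Subgroup G).map (MulAut.conj h).toMonoidHom := hQ' ▸ (le_sup_right.trans hQ)
  have h2 : B ≤ (S : Subgroup G).map (MulAut.conj h).toMonoidHom := hQ' ▸ (le_sup_left.trans hQ)
  have h3 : A.map (MulAut.conj h⁻¹).toMonoidHom ≤ S := by
    rw [map_conj_le_iff, inv_inv]; exact h1
  have h4 : B.map (MulAut.conj h⁻¹).toMonoidHom ≤ S := by
    rw [map_conj_le_iff, inv_inv]; exact h2
  have h5 := hwc h⁻¹ h3
  rw [hB, map_conj_map_conj] at h4
  have h6 := hwc (h⁻¹ * g) h4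
  rw [← map_conj_map_conj, ← hB] at h6
  rw [← h5] at h6
  -- h6 : (B.map conj h⁻¹) = A.map conj h⁻¹
  have h7 := congrArg (fun X => Subgroup.map (MulAut.conj h).toMonoidHom X) h6
  simp only [map_conj_map_conj, mul_inv_cancel, map_conj_one] at h7
  exact h7

end Cfsg.Agent.S1178
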