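import Cfsg.Statements.S1181
import Cfsg.Agent.Lib.Helper8.Isolated

set_option autoImplicit false
open Cfsg

namespace Cfsg.Agent.S1181

/-- Let z be an isolated involution of the finite group G and N a normal subgroup with z ∉ N. Then the centralizer of zN in G/N is the image of C_G(z), and zN is an isolated involution of G/N. -/
theorem result {G : Type*} [Group G] [Finite G] (z : G) (hz : Cfsg.IsIsolatedInvolution z) (N : Subgroup G) [N.Normal] (hzN : z ∉ N) : Subgroup.centralizer ({(QuotientGroup.mk z : G ⧸ N)} : Set (G ⧸ N)) = (Subgroup.centralizer ({z} : Set G)).map (QuotientGroup.mk' N) ∧ Cfsg.IsIsolatedInvolution (QuotientGroup.mk z : G ⧸ N) := by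
  have hzz := Cfsg.Agent.Lib.Helper8.iso_sq hz
  have hzi := Cfsg.Agent.Lib.Helper8.iso_inv hz
  have hqz : (QuotientGroup.mk z : G ⧸ N) * QuotientGroup.mk z = 1 := by
    rw [← QuotientGroup.mk_mul, hzz, QuotientGroup.mk_one]
  have hqz1 : (QuotientGroup.mk z : G ⧸ N) ≠ 1 := by
    intro h; exact hzN ((QuotientGroup.eq_one_iff z).mp h)
  -- key: if mk z commutes with mk (g z g⁻¹), then r = z * (g z g⁻¹) ∈ N
  have key : ∀ g : G, Commute (QuotientGroup.mk z : G ⧸ N) (QuotientGroup.mk (g * z * g⁻¹)) →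
      z * (g * z * g⁻¹) ∈ N := by
    intro g hc
    have hodd := Cfsg.Agent.Lib.Helper8.iso_odd hz g
    set r := z * (g * z * g⁻¹) with hr
    have hww : (g * z * g⁻¹) * (g * z * g⁻¹) = 1 := by
      calc g * z * g⁻¹ * (g * z * g⁻¹) = g * (z * z) * g⁻¹ := by group
        _ = 1 := by rw [hzz]; group
    have h2 : (QuotientGroup.mk r : G ⧸ N) ^ 2 = 1 := by
      rw [hr, QuotientGroup.mk_mul, hc.mul_pow, pow_two, pow_two, hqz, ← QuotientGroup.mk_mul, hww,
        QuotientGroup.mk_one, one_mul]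
    have hd1 : orderOf (QuotientGroup.mk r : G ⧸ N) ∣ 2 := orderOf_dvd_of_pow_eq_one h2
    have hd2 : orderOf (QuotientGroup.mk r : G ⧸ N) ∣ orderOf r :=
      orderOf_map_dvd (QuotientGroup.mk' N) r
    have hd3 := Nat.dvd_gcd hd1 hd2
    have hg : Nat.gcd 2 (orderOf r) = 1 := Nat.coprime_two_left.mpr hodd
    rw [hg, Nat.dvd_one, orderOf_eq_one_iff] at hd3
    exact (QuotientGroup.eq_one_iff r).mp hd3
  constructor
  · ext x
    constructor
    · intro hx
      obtain ⟨g, rfl⟩ := QuotientGroup.mk_surjective x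
      rw [Subgroup.mem_centralizer_singleton_iff] at hx
      -- hx : mk g * mk z = mk z * mk g
      have hc : Commute (QuotientGroup.mk z : G ⧸ N) (QuotientGroup.mk (g * z * g⁻¹)) := by
        have : (QuotientGroup.mk (g * z * g⁻¹) : G ⧸ N) = QuotientGroup.mk z := by
          rw [QuotientGroup.mk_mul, QuotientGroup.mk_mul, hx, QuotientGroup.mk_inv]
          group
        rw [this]
      have hrN := key g hc
      obtain ⟨j, hj⟩ := Cfsg.Agent.Lib.Helper8.iso_conj_pow hz g
      set r := z * (g * z * g⁻¹) with hr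
      rw [Subgroup.mem_map]
      refine ⟨(r ^ j)⁻¹ * g, ?_, ?_⟩
      · rw [Subgroup.mem_centralizer_singleton_iff]
        have h3 : g * z = r ^ j * z * (r ^ j)⁻¹ * g := by rw [hj]; group
        calc (r ^ j)⁻¹ * g * z = (r ^ j)⁻¹ * (g * z) := by group
          _ = (r ^ j)⁻¹ * (r ^ j * z * (r ^ j)⁻¹ * g) := by rw [← h3]
          _ = z * ((r ^ j)⁻¹ * g) := by group
      · show (QuotientGroup.mk ((r ^ j)⁻¹ * g) : G ⧸ N) = QuotientGroup.mk g
        rw [QuotientGroup.mk_mul]
        have : (QuotientGroup.mk ((r ^ j)⁻¹) : G ⧸ N) = 1 :=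
          (QuotientGroup.eq_one_iff _).mpr (N.inv_mem (N.pow_mem hrN j))
        rw [this, one_mul]
    · intro hx
      rw [Subgroup.mem_map] at hx
      obtain ⟨c, hc, rfl⟩ := hx
      rw [Subgroup.mem_centralizer_singleton_iff] at hc ⊢
      show (QuotientGroup.mk c : G ⧸ N) * QuotientGroup.mk z = QuotientGroup.mk z * QuotientGroup.mk c
      rw [← QuotientGroup.mk_mul, ← QuotientGroup.mk_mul, hc]
  · constructor
    · exact orderOf_eq_prime (by rw [pow_two]; exact hqz) hqz1
    · intro x hc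
      obtain ⟨g, rfl⟩ := QuotientGroup.mk_surjective x
      have hc' : Commute (QuotientGroup.mk z : G ⧸ N) (QuotientGroup.mk (g * z * g⁻¹)) := by
        simpa [QuotientGroup.mk_mul, QuotientGroup.mk_inv] using hc
      have hrN := key g hc'
      have h5 : (QuotientGroup.mk (z * (g * z * g⁻¹)) : G ⧸ N) = 1 :=
        (QuotientGroup.eq_one_iff _).mpr hrN
      rw [QuotientGroup.mk_mul] at h5
      have h6 : (QuotientGroup.mk (g * z * g⁻¹) : G ⧸ N) = (QuotientGroup.mk z)⁻¹ :=
        eq_inv_of_mul_eq_one_right h5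
      have h7 : (QuotientGroup.mk z : G ⧸ N)⁻¹ = QuotientGroup.mk z := inv_eq_of_mul_eq_one_left hqz
      rw [h7] at h6
      simpa [QuotientGroup.mk_mul, QuotientGroup.mk_inv] using h6

end Cfsg.Agent.S1181
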