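import Cfsg.Statements.S1182
import Cfsg.Agent.Lib.Helper8.Isolated

set_option autoImplicit false
open Cfsg

namespace Cfsg.Agent.S1182

/-- Let z be an isolated involution of the finite group G and H a subgroup normalized by z. If x, y ∈ H both commute with z and y = h x h⁻¹ for some h ∈ H, then y = c x c⁻¹ for some c ∈ H commuting with z. -/
theorem result {G : Type*} [Group G] [Finite G] (z : G) (hz : Cfsg.IsIsolatedInvolution z) (H : Subgroup G) (hzH : z ∈ Subgroup.normalizer (H : Set G)) (x y : G) (hx : x ∈ H) (hy : y ∈ H) (hxz : Commute x z) (hyz : Commute y z) (h : G) (hh : h ∈ H) (hconj : h * x * h⁻¹ = y) : ∃ c ∈ H, Commute c z ∧ c * x * c⁻¹ = y := by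
  have hzz := Cfsg.Agent.Lib.Helper8.iso_sq hz
  have hzi := Cfsg.Agent.Lib.Helper8.iso_inv hz
  obtain ⟨j, hj⟩ := Cfsg.Agent.Lib.Helper8.iso_conj_pow hz h⁻¹
  rw [inv_inv] at hj
  set r := z * (h⁻¹ * z * h) with hr
  have hrH : r ∈ H := by
    have h1 : z * h⁻¹ * z⁻¹ ∈ H := (Subgroup.mem_normalizer_iff.mp hzH h⁻¹).mp (H.inv_mem hh)
    have h2 : r = z * h⁻¹ * z⁻¹ * h := by rw [hr, hzi]; group
    rw [h2]; exact H.mul_mem h1 hh
  -- r commutes with x
  have hxw : Commute x (h⁻¹ * z * h) := by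
    show x * (h⁻¹ * z * h) = h⁻¹ * z * h * x
    have hy' : y * z = z * y := hyz.eq
    have e1 : x = h⁻¹ * y * h := by rw [← hconj]; group
    calc x * (h⁻¹ * z * h) = h⁻¹ * (h * x * h⁻¹ * z) * h := by group
      _ = h⁻¹ * (y * z) * h := by rw [hconj]
      _ = h⁻¹ * (z * y) * h := by rw [hy']
      _ = h⁻¹ * z * h * (h⁻¹ * y * h) := by group
      _ = h⁻¹ * z * h * x := by rw [← e1]
  have hxr : Commute x r := hxz.mul_right hxw
  have hxrj : Commute x (r ^ j) := hxr.pow_right j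
  refine ⟨h * r ^ j, H.mul_mem hh (H.pow_mem hrH j), ?_, ?_⟩
  · show h * r ^ j * z = z * (h * r ^ j)
    have h3 : r ^ j * z = h⁻¹ * z * h * r ^ j := by
      calc r ^ j * z = (r ^ j * z * (r ^ j)⁻¹) * r ^ j := by group
        _ = h⁻¹ * z * h * r ^ j := by rw [hj]
    calc h * r ^ j * z = h * (r ^ j * z) := by group
      _ = h * (h⁻¹ * z * h * r ^ j) := by rw [h3]
      _ = z * (h * r ^ j) := by group
  · have h4 : r ^ j * x = x * r ^ j := hxrj.eq.symm
    calc h * r ^ j * x * (h * r ^ j)⁻¹ = h * (r ^ j * x) * (r ^ j)⁻¹ * h⁻¹ := by group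
      _ = h * (x * r ^ j) * (r ^ j)⁻¹ * h⁻¹ := by rw [h4]
      _ = h * x * h⁻¹ := by group
      _ = y := hconj

end Cfsg.Agent.S1182
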