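import Cfsg.Statements.S1185
import Cfsg.Agent.Lib.Helper8.Isolated

set_option autoImplicit false
open Cfsg

namespace Cfsg.Agent.S1185

/-- Let z be an isolated involution of the finite group G with centralizer C. Then for every g ∈ G there is exactly one element k in the coset gC that has odd order and is inverted by z. -/
theorem result {G : Type*} [Group G] [Finite G] (z : G) (hz : Cfsg.IsIsolatedInvolution z) (g : G) : ∃! k : G, (Odd (orderOf k) ∧ z * k * z⁻¹ = k⁻¹) ∧ g⁻¹ * k ∈ Subgroup.centralizer ({z} : Set G) := by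
  have hzz := Cfsg.Agent.Lib.Helper8.iso_sq hz
  have hzi := Cfsg.Agent.Lib.Helper8.iso_inv hz
  obtain ⟨j, hj⟩ := Cfsg.Agent.Lib.Helper8.iso_conj_pow hz g
  set r := z * (g * z * g⁻¹) with hr
  have key : ∀ k : G, z * k * z⁻¹ = k⁻¹ → k * z * k⁻¹ = k * k * z := by
    intro k hk
    have h1 : z * k⁻¹ * z⁻¹ = k := by
      have := congrArg (·⁻¹) hk
      simp only [mul_inv_rev, inv_inv] at this
      rw [← mul_assoc] at this
      exact this
    calc k * z * k⁻¹ = k * (z * k⁻¹ * z⁻¹) * z := by group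
      _ = k * k * z := by rw [h1]
  refine ⟨r ^ j, ⟨⟨?_, ?_⟩, ?_⟩, ?_⟩
  · -- odd order
    have h1 := Cfsg.Agent.Lib.Helper8.iso_odd hz g
    rw [← hr] at h1
    exact Odd.of_dvd_nat h1 (orderOf_pow_dvd j)
  · exact Cfsg.Agent.Lib.Helper8.iso_inverts_pow hz g j
  · rw [Subgroup.mem_centralizer_singleton_iff]
    -- (g⁻¹ r^j) z = z (g⁻¹ r^j)
    have h2 : r ^ j * z = g * z * g⁻¹ * r ^ j := by
      calc r ^ j * z = (r ^ j * z * (r ^ j)⁻¹) * r ^ j := by group
        _ = g * z * g⁻¹ * r ^ j := by rw [hj]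
    calc g⁻¹ * r ^ j * z = g⁻¹ * (r ^ j * z) := by group
      _ = g⁻¹ * (g * z * g⁻¹ * r ^ j) := by rw [h2]
      _ = z * (g⁻¹ * r ^ j) := by group
  · rintro k' ⟨⟨hodd', hinv'⟩, hmem'⟩
    have hodd : Odd (orderOf (r ^ j)) := by
      have h1 := Cfsg.Agent.Lib.Helper8.iso_odd hz g
      rw [← hr] at h1
      exact Odd.of_dvd_nat h1 (orderOf_pow_dvd j)
    apply Cfsg.Agent.Lib.Helper8.odd_sq_inj hodd' hodd
    rw [Subgroup.mem_centralizer_singleton_iff] at hmem'
    have h3 : k' * z * k'⁻¹ = g * z * g⁻¹ := by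
      have : k' * z = g * z * g⁻¹ * k' := by
        calc k' * z = g * (g⁻¹ * k' * z) := by group
          _ = g * (z * (g⁻¹ * k')) := by rw [hmem']
          _ = g * z * g⁻¹ * k' := by group
      rw [this]; group
    have h4 := key k' hinv'
    have h5 := key (r ^ j) (Cfsg.Agent.Lib.Helper8.iso_inverts_pow hz g j)
    rw [h3] at h4
    rw [hj] at h5
    exact mul_right_cancel (h4.symm.trans h5)

end Cfsg.Agent.S1185
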