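import Cfsg.Statements.S1242
import Cfsg.Agent.Lib.Helper8.TransferMod
import Cfsg.Agent.Lib.Helper8.PResidual

set_option autoImplicit false
open Cfsg

namespace Cfsg.Agent.S1242

/-- Let G be a finite group, p a prime and H a subgroup of index prime to p such that any two elements of H of p-power order that are conjugate in G are conjugate in H. Then (O^p(G)·G') ∩ H = O^p(H)·H', where O^p denotes the subgroup generated by the elements of order prime to p. -/
theorem result {G : Type*} [Group G] [Finite G] {p : ℕ} [Fact p.Prime] (H : Subgroup G) (hidx : Nat.Coprime p H.index) (hfus : ∀ g ∈ H, (∃ k : ℕ, orderOf g = p ^ k) → ∀ a : G, a * g * a⁻¹ ∈ H → ∃ h ∈ H, h * g * h⁻¹ = a * g * a⁻¹) : (Cfsg.pResidual p G ⊔ commutator G) ⊓ H = (Cfsg.pResidual p ↥H ⊔ commutator ↥H).map H.subtype := by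
  open Cfsg.Agent.Lib.Helper8 commutatorElement in
  haveI hN1 : (Cfsg.pResidual p ↥H).Normal := pResidual_normal p ↥H
  set K : Subgroup ↥H := Cfsg.pResidual p ↥H ⊔ commutator ↥H with hK
  haveI hKn : K.Normal := by rw [hK]; infer_instance
  -- p'-elements of H lie in K
  have hpK : ∀ h : H, Nat.Coprime (orderOf h) p → h ∈ K := by
    intro h hh
    exact Subgroup.mem_sup_left (Subgroup.subset_closure hh)
  letI instA : CommGroup (↥H ⧸ K) :=
    { (inferInstance : Group (↥H ⧸ K)) with
      mul_comm := by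
        intro a b
        obtain ⟨x, rfl⟩ := QuotientGroup.mk_surjective a
        obtain ⟨y, rfl⟩ := QuotientGroup.mk_surjective b
        rw [← QuotientGroup.mk_mul, ← QuotientGroup.mk_mul, QuotientGroup.eq]
        have e : ((x * y)⁻¹ * (y * x) : H) = ⁅y⁻¹, x⁻¹⁆ := by
          rw [commutatorElement_def]; group
        rw [e]
        apply Subgroup.mem_sup_right
        rw [commutator_def]
        exact Subgroup.commutator_mem_commutator (Subgroup.mem_top _) (Subgroup.mem_top _) }
  let ϕ : ↥H →* (↥H ⧸ K) := QuotientGroup.mk' K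
  -- H / K is a p-group
  have hpgrp : IsPGroup p (↥H ⧸ K) := by
    intro q
    obtain ⟨h, rfl⟩ := QuotientGroup.mk_surjective q
    obtain ⟨i, j, hdec, ⟨k, hk⟩, hcop⟩ := exists_p_pprime_decomp p h
    refine ⟨k, ?_⟩
    have h1 : (QuotientGroup.mk h : ↥H ⧸ K) = QuotientGroup.mk (h ^ i) := by
      conv_lhs => rw [hdec]
      rw [QuotientGroup.mk_mul, (QuotientGroup.eq_one_iff (h ^ j)).mpr (hpK _ hcop), mul_one]
    rw [h1, ← QuotientGroup.mk_pow, ← hk, pow_orderOf_eq_one, QuotientGroup.mk_one]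
  have hfi : H.FiniteIndex := inferInstance
  set V := MonoidHom.transfer ϕ with hV
  -- p'-elements of G are killed by V
  have hVp' : ∀ g : G, Nat.Coprime (orderOf g) p → V g = 1 := by
    intro g hg
    obtain ⟨k, hk⟩ := hpgrp (V g)
    have h1 : orderOf (V g) ∣ p ^ k := orderOf_dvd_of_pow_eq_one hk
    have h2 : orderOf (V g) ∣ orderOf g := orderOf_map_dvd V g
    have h3 : Nat.Coprime (orderOf g) (p ^ k) := Nat.Coprime.pow_right k hg
    have h4 := Nat.dvd_gcd h2 h1
    rw [h3.gcd_eq_one, Nat.dvd_one, orderOf_eq_one_iff] at h4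
    exact h4
  have hker : Cfsg.pResidual p G ⊔ commutator G ≤ V.ker := by
    apply sup_le
    · unfold Cfsg.pResidual
      rw [Subgroup.closure_le]
      intro g hg
      exact MonoidHom.mem_ker.mpr (hVp' g hg)
    · exact Abelianization.commutator_subset_ker V
  -- transfer on p-elements of H
  have hVp : ∀ y : H, (∃ k : ℕ, orderOf y = p ^ k) → V (y : G) = ϕ y ^ H.index := by
    intro y ⟨k, hk⟩
    have key : ∀ (n : ℕ) (g₀ : G) (hn : g₀⁻¹ * (y : G) ^ n * g₀ ∈ H),
        ϕ ⟨g₀⁻¹ * (y : G) ^ n * g₀, hn⟩ = ϕ ⟨(y : G), y.2⟩ ^ n := by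
      intro n g₀ hn
      have hyn : ∃ k' : ℕ, orderOf ((y : G) ^ n) = p ^ k' := by
        have h1 : orderOf ((y : G) ^ n) ∣ p ^ k := by
          rw [← hk, ← Subgroup.orderOf_coe]
          exact orderOf_pow_dvd n
        obtain ⟨k', _, hk'⟩ := (Nat.dvd_prime_pow (Fact.out : p.Prime)).mp h1
        exact ⟨k', hk'⟩
      obtain ⟨h, hh, hconj⟩ := hfus ((y : G) ^ n) (H.pow_mem y.2 n) hyn g₀⁻¹ (by simpa using hn)
      rw [inv_inv] at hconj
      have e : (⟨g₀⁻¹ * (y : G) ^ n * g₀, hn⟩ : H) = ⟨h, hh⟩ * (⟨(y : G), y.2⟩ : H) ^ n * ⟨h, hh⟩⁻¹ := by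
        apply Subtype.ext
        simp only [Subgroup.coe_mul, Subgroup.coe_inv, Subgroup.coe_pow]
        exact hconj.symm
      rw [e, map_mul, map_mul, map_inv, map_pow, mul_comm, inv_mul_cancel_left]
    exact transfer_eq_pow_mod ϕ (y : G) y.2 key
  apply le_antisymm
  · rintro x ⟨hx1, hx2⟩
    have hVx : V x = 1 := MonoidHom.mem_ker.mp (hker hx1)
    obtain ⟨i, j, hdec, ⟨k, hk⟩, hcop⟩ := exists_p_pprime_decomp p (⟨x, hx2⟩ : H)
    set x' : H := ⟨x, hx2⟩ with hx'
    have hj : V ((x' ^ j : H) : G) = 1 := hVp' _ (by rw [Subgroup.orderOf_coe]; exact hcop)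
    have hi : V ((x' ^ i : H) : G) = 1 := by
      have : x = ((x' ^ i : H) : G) * ((x' ^ j : H) : G) := by
        have := congrArg (Subtype.val) hdec
        simpa using this
      rw [this, map_mul, hj, mul_one] at hVx
      exact hVx
    rw [hVp (x' ^ i) ⟨k, hk⟩] at hi
    have h1 : (x' ^ i) ^ H.index ∈ K := by
      have : ϕ ((x' ^ i) ^ H.index) = 1 := by rw [map_pow]; exact hi
      exact (QuotientGroup.eq_one_iff _).mp this
    have hcop' : Nat.Coprime H.index (orderOf (x' ^ i)) := by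
      rw [hk]; exact (Nat.Coprime.pow_left k hidx).symm
    obtain ⟨m, hm⟩ := exists_pow_eq_self_of_coprime hcop'
    have h2 : x' ^ i ∈ K := by rw [← hm]; exact K.pow_mem h1 m
    have h3 : x' ∈ K := by rw [hdec]; exact K.mul_mem h2 (hpK _ hcop)
    exact ⟨x', h3, rfl⟩
  · apply le_inf
    · rw [hK, Subgroup.map_sup]
      apply sup_le_sup
      · unfold Cfsg.pResidual
        rw [MonoidHom.map_closure, Subgroup.closure_le]
        rintro _ ⟨h, hh, rfl⟩
        apply Subgroup.subset_closure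
        show Nat.Coprime (orderOf (h : G)) p
        rw [Subgroup.orderOf_coe]; exact hh
      · rw [Subgroup.map_subtype_commutator, commutator_def]
        exact Subgroup.commutator_mono le_top le_top
    · exact Subgroup.map_subtype_le _

end Cfsg.Agent.S1242
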