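import Cfsg.Statements.S1183
import Cfsg.Agent.Lib.Helper8.Isolated
import Cfsg.Agent.Lib.Helper8.PResidual
import Cfsg.Agent.S1242
import Cfsg.Agent.S1182
import Cfsg.Agent.S1185

set_option autoImplicit false
open Cfsg

namespace Cfsg.Agent.S1183

/-- Let z be an isolated involution of the finite group G and C = C_G(z). Then the subgroup of G generated by its elements of odd order is all of G if and only if the subgroup of C generated by its elements of odd order is all of C. -/
theorem result {G : Type*} [Group G] [Finite G] (z : G) (hz : Cfsg.IsIsolatedInvolution z) : Cfsg.pResidual 2 G = ⊤ ↔ Cfsg.pResidual 2 ↥(Subgroup.centralizer ({z} : Set G)) = ⊤ := by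
  open Cfsg.Agent.Lib.Helper8 in
  haveI : Fact (Nat.Prime 2) := ⟨Nat.prime_two⟩
  set C := Subgroup.centralizer ({z} : Set G) with hC
  constructor
  · intro hG
    have hidx : Nat.Coprime 2 C.index := iso_centralizer_index_coprime hz
    have hfus : ∀ g ∈ C, (∃ k : ℕ, orderOf g = 2 ^ k) → ∀ a : G, a * g * a⁻¹ ∈ C →
        ∃ h ∈ C, h * g * h⁻¹ = a * g * a⁻¹ := by
      intro g hg _ a ha
      rw [hC, Subgroup.mem_centralizer_singleton_iff] at hg ha
      obtain ⟨c, _, hcz, hc⟩ := Cfsg.Agent.S1182.result z hz ⊤ (by rw [Subgroup.mem_normalizer_iff]; intro h; simp) g (a * g * a⁻¹)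
        (Subgroup.mem_top _) (Subgroup.mem_top _) hg ha a (Subgroup.mem_top _) rfl
      refine ⟨c, ?_, hc⟩
      rw [hC, Subgroup.mem_centralizer_singleton_iff]
      exact hcz.eq
    have h1 := Cfsg.Agent.S1242.result (p := 2) C hidx hfus
    rw [hG, top_sup_eq, top_inf_eq] at h1
    -- h1 : C = map subtype (O^2(C) ⊔ C')
    have h2 : Cfsg.pResidual 2 ↥C ⊔ commutator ↥C = ⊤ := by
      rw [eq_top_iff]
      intro x _
      have hx : (x : G) ∈ (Cfsg.pResidual 2 ↥C ⊔ commutator ↥C).map C.subtype := by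
        rw [← h1]; exact x.2
      obtain ⟨y, hy, hyx⟩ := hx
      have : y = x := Subtype.ext hyx
      rw [← this]; exact hy
    exact pResidual_eq_top_of_sup_commutator 2 h2
  · intro hCtop
    rw [eq_top_iff]
    intro g _
    obtain ⟨k, ⟨⟨hodd, _⟩, hmem⟩, _⟩ := Cfsg.Agent.S1185.result z hz g
    have hk : k ∈ Cfsg.pResidual 2 G :=
      Subgroup.subset_closure (Nat.coprime_two_right.mpr hodd)
    have hc : k⁻¹ * g ∈ Cfsg.pResidual 2 G := by
      have h1 : k⁻¹ * g ∈ C := by
        have := C.inv_mem hmem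
        simpa using this
      have h2 : (⟨k⁻¹ * g, h1⟩ : C) ∈ Cfsg.pResidual 2 ↥C := by rw [hCtop]; exact Subgroup.mem_top _
      exact map_pResidual_le 2 C ⟨_, h2, rfl⟩
    have : g = k * (k⁻¹ * g) := by group
    rw [this]
    exact Subgroup.mul_mem _ hk hc

end Cfsg.Agent.S1183
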