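import Cfsg.Statements.S1184
import Cfsg.Agent.Lib.Helper8.Isolated

set_option autoImplicit false
open Cfsg

namespace Cfsg.Agent.S1184

/-- Let z be an isolated involution of the finite group G. If s and t are distinct conjugates of z, then st does not commute with z. -/
theorem result {G : Type*} [Group G] [Finite G] (z : G) (hz : Cfsg.IsIsolatedInvolution z) (g h : G) (hne : g * z * g⁻¹ ≠ h * z * h⁻¹) : ¬ Commute (g * z * g⁻¹ * (h * z * h⁻¹)) z := by
  intro hcomm
  apply hne
  have hzz := Cfsg.Agent.Lib.Helper8.iso_sq hz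
  have hzi := Cfsg.Agent.Lib.Helper8.iso_inv hz
  set s := g * z * g⁻¹ with hs
  set t := h * z * h⁻¹ with ht
  have hss : s * s = 1 := by
    rw [hs]; calc g * z * g⁻¹ * (g * z * g⁻¹) = g * (z * z) * g⁻¹ := by group
      _ = 1 := by rw [hzz]; group
  have htt : t * t = 1 := by
    rw [ht]; calc h * z * h⁻¹ * (h * z * h⁻¹) = h * (z * z) * h⁻¹ := by group
      _ = 1 := by rw [hzz]; group
  have hsi : s⁻¹ = s := inv_eq_of_mul_eq_one_left hss
  have hti : t⁻¹ = t := inv_eq_of_mul_eq_one_left htt
  -- orders of s*z and t*z are odd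
  have hos : Odd (orderOf (s * z)) := by
    have h1 := Cfsg.Agent.Lib.Helper8.iso_odd hz g
    have h2 : s * z = (z * (g * z * g⁻¹))⁻¹ := by
      rw [mul_inv_rev, ← hs, hsi, hzi]
    rw [h2, orderOf_inv]; exact h1
  have hot : Odd (orderOf (t * z)) := by
    have h1 := Cfsg.Agent.Lib.Helper8.iso_odd hz h
    have h2 : t * z = (z * (h * z * h⁻¹))⁻¹ := by
      rw [mul_inv_rev, ← ht, hti, hzi]
    rw [h2, orderOf_inv]; exact h1
  -- (s z)^2 = (t z)^2
  have hc : s * t * z = z * (s * t) := hcomm.eq
  have hsq : (s * z) * (s * z) = (t * z) * (t * z) := by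
    -- s z s z = t z t z  ⟸  z s t z = s t (z z) ...
    have h1 : z * s * z = s * t * z * t * z := by
      calc z * s * z = z * (s * t) * t * z := by
            rw [mul_assoc z (s * t) t, mul_assoc s t t, htt, mul_one]
        _ = s * t * z * t * z := by rw [← hc]
    calc s * z * (s * z) = s * (z * s * z) := by group
      _ = s * (s * t * z * t * z) := by rw [h1]
      _ = (s * s) * t * z * t * z := by group
      _ = t * z * (t * z) := by rw [hss]; group
  have := Cfsg.Agent.Lib.Helper8.odd_sq_inj hos hot hsq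
  exact mul_right_cancel this

end Cfsg.Agent.S1184
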