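import Cfsg.Statements.S1186
import Cfsg.Agent.Lib.Helper8.Isolated
import Cfsg.Agent.S1184
import Cfsg.Agent.S1185

set_option autoImplicit false
open Cfsg

namespace Cfsg.Agent.S1186

open Cfsg.Agent.Lib.Helper8

variable {G : Type*} [Group G]

theorem iso_conj {z : G} (hz : Cfsg.IsIsolatedInvolution z) (x : G) :
    Cfsg.IsIsolatedInvolution (x * z * x⁻¹) := by
  refine ⟨?_, ?_⟩
  · have : x * z * x⁻¹ = MulAut.conj x z := rfl
    rw [this, MulEquiv.orderOf_eq]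
    exact hz.1
  · intro g hg
    have h0 : Commute z ((x⁻¹ * g * x) * z * (x⁻¹ * g * x)⁻¹) := by
      have h1 : x⁻¹ * (x * z * x⁻¹) * x = z := by group
      have h2 : x⁻¹ * (g * (x * z * x⁻¹) * g⁻¹) * x = (x⁻¹ * g * x) * z * (x⁻¹ * g * x)⁻¹ := by group
      have h3 : Commute (x⁻¹ * (x * z * x⁻¹) * x) (x⁻¹ * (g * (x * z * x⁻¹) * g⁻¹) * x) := by
        have e := hg.eq
        show x⁻¹ * (x * z * x⁻¹) * x * (x⁻¹ * (g * (x * z * x⁻¹) * g⁻¹) * x)
          = x⁻¹ * (g * (x * z * x⁻¹) * g⁻¹) * x * (x⁻¹ * (x * z * x⁻¹) * x)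
        calc x⁻¹ * (x * z * x⁻¹) * x * (x⁻¹ * (g * (x * z * x⁻¹) * g⁻¹) * x)
            = x⁻¹ * ((x * z * x⁻¹) * (g * (x * z * x⁻¹) * g⁻¹)) * x := by group
          _ = x⁻¹ * ((g * (x * z * x⁻¹) * g⁻¹) * (x * z * x⁻¹)) * x := by rw [e]
          _ = _ := by group
      rwa [h1, h2] at h3
    have h1 := hz.2 (x⁻¹ * g * x) h0
    calc g * (x * z * x⁻¹) * g⁻¹ = x * ((x⁻¹ * g * x) * z * (x⁻¹ * g * x)⁻¹) * x⁻¹ := by group
      _ = x * z * x⁻¹ := by rw [h1]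

/-- Uniqueness of midpoints: if `e`, `e'`, `d` are conjugates of `z` and `e d e⁻¹ = e' d e'⁻¹`
then `e = e'`. -/
theorem midpoint_unique [Finite G] {z : G} (hz : Cfsg.IsIsolatedInvolution z) {d e e' : G}
    (hd : ∃ g, g * z * g⁻¹ = d) (he : ∃ g, g * z * g⁻¹ = e) (he' : ∃ g, g * z * g⁻¹ = e')
    (h : e * d * e⁻¹ = e' * d * e'⁻¹) : e = e' := by
  obtain ⟨x, rfl⟩ := hd
  obtain ⟨a, rfl⟩ := he
  obtain ⟨b, rfl⟩ := he'
  have hd := iso_conj hz x
  by_contra hne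
  -- write a z a⁻¹ = (a x⁻¹) d (a x⁻¹)⁻¹
  have ha : a * z * a⁻¹ = (a * x⁻¹) * (x * z * x⁻¹) * (a * x⁻¹)⁻¹ := by group
  have hb : b * z * b⁻¹ = (b * x⁻¹) * (x * z * x⁻¹) * (b * x⁻¹)⁻¹ := by group
  have hne' : (b * x⁻¹) * (x * z * x⁻¹) * (b * x⁻¹)⁻¹ ≠ (a * x⁻¹) * (x * z * x⁻¹) * (a * x⁻¹)⁻¹ := by
    rw [← ha, ← hb]; exact fun h => hne h.symm
  have := Cfsg.Agent.S1184.result (x * z * x⁻¹) hd (b * x⁻¹) (a * x⁻¹) hne'
  apply this
  rw [← ha, ← hb]
  have hbi : (b * z * b⁻¹)⁻¹ = b * z * b⁻¹ := iso_inv (iso_conj hz b)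
  show b * z * b⁻¹ * (a * z * a⁻¹) * (x * z * x⁻¹) = x * z * x⁻¹ * (b * z * b⁻¹ * (a * z * a⁻¹))
  have h2 : a * z * a⁻¹ * (x * z * x⁻¹) = b * z * b⁻¹ * (x * z * x⁻¹) * (b * z * b⁻¹)⁻¹ * (a * z * a⁻¹) := by
    rw [← h]; group
  calc b * z * b⁻¹ * (a * z * a⁻¹) * (x * z * x⁻¹)
      = b * z * b⁻¹ * (a * z * a⁻¹ * (x * z * x⁻¹)) := by group
    _ = b * z * b⁻¹ * (b * z * b⁻¹ * (x * z * x⁻¹) * (b * z * b⁻¹)⁻¹ * (a * z * a⁻¹)) := by rw [h2]
    _ = (b * z * b⁻¹ * (b * z * b⁻¹)) * (x * z * x⁻¹) * ((b * z * b⁻¹)⁻¹ * (a * z * a⁻¹)) := by group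
    _ = x * z * x⁻¹ * (b * z * b⁻¹ * (a * z * a⁻¹)) := by
        rw [iso_sq (iso_conj hz b), hbi]; group

theorem inverted_conj {z k : G} (hk : z * k * z⁻¹ = k⁻¹) : k * z * k⁻¹ = k * k * z := by
  have h1 : z * k⁻¹ * z⁻¹ = k := by
    have := congrArg (·⁻¹) hk
    simp only [mul_inv_rev, inv_inv] at this
    rw [← mul_assoc] at this
    exact this
  calc k * z * k⁻¹ = k * (z * k⁻¹ * z⁻¹) * z := by group
    _ = k * k * z := by rw [h1]

/-- Existence of midpoints commuting with `u`. -/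
theorem midpoint_exists [Finite G] {z : G} (hz : Cfsg.IsIsolatedInvolution z) {u : G}
    (hu : u * u = 1) {d : G} (hd : ∃ g, g * z * g⁻¹ = d) :
    ∃ e, (∃ g, g * z * g⁻¹ = e) ∧ e * d * e⁻¹ = u * d * u⁻¹ ∧ Commute e u := by
  have hdI : Cfsg.IsIsolatedInvolution d := by
    obtain ⟨x, rfl⟩ := hd; exact iso_conj hz x
  have hui : u⁻¹ = u := inv_eq_of_mul_eq_one_left hu
  have hdd := iso_sq hdI
  have hdi := iso_inv hdI
  have hd'I : Cfsg.IsIsolatedInvolution (u * d * u⁻¹) := iso_conj hdI u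
  have hd'i := iso_inv hd'I
  obtain ⟨j, hj⟩ := iso_odd hdI u
  have hinv := iso_inverts_pow hdI u
  set r := d * (u * d * u⁻¹) with hr
  -- d * (r^k)⁻¹ = r^k * d
  have hinv' : ∀ k : ℕ, d * (r ^ k)⁻¹ = r ^ k * d := by
    intro k
    have h1 := hinv k
    have h2 : d * (r ^ k)⁻¹ * d⁻¹ = r ^ k := by
      have := congrArg (·⁻¹) h1
      simp only [mul_inv_rev, inv_inv] at this
      rw [← mul_assoc] at this
      exact this
    calc d * (r ^ k)⁻¹ = (d * (r ^ k)⁻¹ * d⁻¹) * d := by group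
      _ = r ^ k * d := by rw [h2]
  have hA : ∀ k : ℕ, r ^ k * d * (r ^ k)⁻¹ = r ^ (2 * k) * d := by
    intro k
    calc r ^ k * d * (r ^ k)⁻¹ = r ^ k * (d * (r ^ k)⁻¹) := by group
      _ = r ^ k * (r ^ k * d) := by rw [hinv' k]
      _ = r ^ (2 * k) * d := by rw [two_mul, pow_add]; group
  have hr1 : r ^ (2 * j + 1) = 1 := by rw [← hj, pow_orderOf_eq_one]
  have hB : r ^ (2 * j) * d = u * d * u⁻¹ := by
    have h5 : r ^ (2 * j) = r⁻¹ := by
      rw [pow_succ] at hr1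
      exact eq_inv_of_mul_eq_one_left hr1
    rw [h5, hr, mul_inv_rev, hd'i, hdi, mul_assoc, hdd, mul_one]
  have hC : r ^ (2 * (j * (j + 1))) = r ^ j := by
    have : 2 * (j * (j + 1)) = (2 * j + 1) * j + j := by ring
    rw [this, pow_add, pow_mul, hr1, one_pow, one_mul]
  set y := r ^ (j * (j + 1)) with hy
  have he1 : y * d * y⁻¹ = r ^ j * d := by rw [hy, hA, hC]
  have hmem : ∃ g, g * z * g⁻¹ = y * d * y⁻¹ := by
    obtain ⟨x, hx⟩ := hd
    refine ⟨y * x, ?_⟩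
    rw [← hx]; group
  have he2 : (y * d * y⁻¹) * d * (y * d * y⁻¹)⁻¹ = u * d * u⁻¹ := by
    rw [he1, ← hB, ← hA j]
    calc r ^ j * d * d * (r ^ j * d)⁻¹ = r ^ j * (d * d) * d⁻¹ * (r ^ j)⁻¹ := by group
      _ = r ^ j * d * (r ^ j)⁻¹ := by rw [hdd, hdi]; group
  refine ⟨y * d * y⁻¹, hmem, he2, ?_⟩
  -- commute with u via uniqueness
  set e := y * d * y⁻¹ with he
  have heI : Cfsg.IsIsolatedInvolution e := by
    obtain ⟨x, hx⟩ := hmem; rw [← hx]; exact iso_conj hz x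
  have hee := iso_sq heI
  have hmem' : ∃ g, g * z * g⁻¹ = u * e * u⁻¹ := by
    obtain ⟨x, hx⟩ := hmem
    refine ⟨u * x, ?_⟩
    rw [← hx]; group
  have h6 : (u * e * u⁻¹) * d * (u * e * u⁻¹)⁻¹ = e * d * e⁻¹ := by
    rw [he2]
    calc (u * e * u⁻¹) * d * (u * e * u⁻¹)⁻¹ = u * e * (u⁻¹ * d * u) * e⁻¹ * u⁻¹ := by group
      _ = u * e * (u * d * u⁻¹) * e⁻¹ * u⁻¹ := by rw [hui]
      _ = u * e * (e * d * e⁻¹) * e⁻¹ * u⁻¹ := by rw [he2]
      _ = u * (e * e) * d * (e * e)⁻¹ * u⁻¹ := by group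
      _ = u * d * u⁻¹ := by rw [hee]; group
  have h7 := midpoint_unique hz hd hmem' hmem h6
  show e * u = u * e
  calc e * u = (u * e * u⁻¹) * u := by rw [h7]
    _ = u * e := by group

/-- The bijection between inverted odd-order elements and conjugates of `z`, restricted to
centralizers of an element `t` commuting with `z`. -/
theorem card_inverted_eq [Finite G] {z : G} (hz : Cfsg.IsIsolatedInvolution z) {t : G}
    (ht : Commute t z) :
    Nat.card {k : G // Odd (orderOf k) ∧ z * k * z⁻¹ = k⁻¹ ∧ Commute k t} =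
      Nat.card {d : G // (∃ g, g * z * g⁻¹ = d) ∧ Commute d t} := by
  have hzi := iso_inv hz
  have hmem : ∀ k : {k : G // Odd (orderOf k) ∧ z * k * z⁻¹ = k⁻¹ ∧ Commute k t},
      (∃ g, g * z * g⁻¹ = k.1 * z * k.1⁻¹) ∧ Commute (k.1 * z * k.1⁻¹) t :=
    fun k => ⟨⟨k.1, rfl⟩, (k.2.2.2.mul_left ht.symm).mul_left k.2.2.2.inv_left⟩
  apply Nat.card_eq_of_bijective (fun k => ⟨k.1 * z * k.1⁻¹, hmem k⟩)
  constructor
  · intro k k' h
    have h' : k.1 * z * k.1⁻¹ = k'.1 * z * k'.1⁻¹ := congrArg Subtype.val h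
    apply Subtype.ext
    apply odd_sq_inj k.2.1 k'.2.1
    rw [inverted_conj k.2.2.1, inverted_conj k'.2.2.1] at h'
    exact mul_right_cancel h'
  · rintro ⟨d, ⟨g, hg⟩, hc⟩
    obtain ⟨k, ⟨⟨hodd, hinv⟩, hmem'⟩, _⟩ := Cfsg.Agent.S1185.result z hz g
    rw [Subgroup.mem_centralizer_singleton_iff] at hmem'
    have h3 : k * z * k⁻¹ = d := by
      have : k * z = g * z * g⁻¹ * k := by
        calc k * z = g * (g⁻¹ * k * z) := by group
          _ = g * (z * (g⁻¹ * k)) := by rw [hmem']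
          _ = g * z * g⁻¹ * k := by group
      rw [this, hg]; group
    have h4 : k * k = d * z := by
      have := inverted_conj hinv
      rw [h3] at this
      rw [this, mul_assoc, iso_sq hz, mul_one]
    have hkk : Commute (k * k) t := by
      rw [h4]; exact hc.mul_left ht.symm
    have hkt : Commute k t := by
      obtain ⟨m, hm⟩ := hodd
      have : (k * k) ^ (m + 1) = k := by
        rw [← pow_two, ← pow_mul]
        have : 2 * (m + 1) = orderOf k + 1 := by omega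
        rw [this, pow_succ, pow_orderOf_eq_one, one_mul]
      rw [← this]
      exact hkk.pow_left _
    exact ⟨⟨k, hodd, hinv, hkt⟩, Subtype.ext h3⟩

/-- The counting lemma in the conjugacy class of `z`. -/
theorem card_conj_eq [Finite G] {z : G} (hz : Cfsg.IsIsolatedInvolution z) {u : G}
    (hu : u * u = 1) (huz : Commute u z) :
    Nat.card {d : G // ∃ g, g * z * g⁻¹ = d} =
      Nat.card {d : G // (∃ g, g * z * g⁻¹ = d) ∧ Commute d (u * z)} *
      Nat.card {d : G // (∃ g, g * z * g⁻¹ = d) ∧ Commute d u} := by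
  have hui : u⁻¹ = u := inv_eq_of_mul_eq_one_left hu
  have hzi := iso_inv hz
  have hh : ∀ e : {d : G // (∃ g, g * z * g⁻¹ = d) ∧ Commute d u},
      ∃ h : G, Commute h u ∧ h * z * h⁻¹ = e.1 := by
    rintro ⟨e, ⟨g, hg⟩, hc⟩
    obtain ⟨h, hh, hh2⟩ := iso_conj_in_subgroup hz (Subgroup.centralizer ({u} : Set G))
      (by rw [Subgroup.mem_centralizer_singleton_iff]; exact huz.symm.eq) g
      (by rw [hg, Subgroup.mem_centralizer_singleton_iff]; exact hc.eq)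
    rw [Subgroup.mem_centralizer_singleton_iff] at hh
    exact ⟨h, hh, hh2.trans hg⟩
  choose H hH1 hH2 using hh
  -- key fact
  have KF : ∀ (e : {d : G // (∃ g, g * z * g⁻¹ = d) ∧ Commute d u}) (d0 : G),
      Commute d0 (u * z) →
      e.1 * (H e * d0 * (H e)⁻¹) * e.1⁻¹ = u * (H e * d0 * (H e)⁻¹) * u⁻¹ := by
    intro e d0 hd0
    have h1 : z * d0 * z⁻¹ = u * d0 * u⁻¹ := by
      have e1 : d0 * (u * z) = u * z * d0 := hd0.eq
      calc z * d0 * z⁻¹ = u⁻¹ * (u * z * d0) * z⁻¹ := by group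
        _ = u⁻¹ * (d0 * (u * z)) * z⁻¹ := by rw [e1]
        _ = u⁻¹ * d0 * u := by group
        _ = u * d0 * u⁻¹ := by rw [hui]
    have h2 : H e * u = u * H e := (hH1 e).eq
    have h2' : u⁻¹ * (H e)⁻¹ = (H e)⁻¹ * u⁻¹ := by
      rw [← mul_inv_rev, ← mul_inv_rev, h2]
    rw [← hH2 e]
    calc H e * z * (H e)⁻¹ * (H e * d0 * (H e)⁻¹) * (H e * z * (H e)⁻¹)⁻¹
        = H e * (z * d0 * z⁻¹) * (H e)⁻¹ := by group
      _ = H e * (u * d0 * u⁻¹) * (H e)⁻¹ := by rw [h1]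
      _ = (H e * u) * d0 * (u⁻¹ * (H e)⁻¹) := by group
      _ = (u * H e) * d0 * ((H e)⁻¹ * u⁻¹) := by rw [h2, h2']
      _ = u * (H e * d0 * (H e)⁻¹) * u⁻¹ := by group
  have hmemF : ∀ p : {d : G // (∃ g, g * z * g⁻¹ = d) ∧ Commute d (u * z)} ×
      {d : G // (∃ g, g * z * g⁻¹ = d) ∧ Commute d u},
      ∃ g, g * z * g⁻¹ = H p.2 * p.1.1 * (H p.2)⁻¹ := by
    rintro ⟨⟨d0, ⟨x, hx⟩, hc⟩, e⟩
    refine ⟨H e * x, ?_⟩
    show H e * x * z * (H e * x)⁻¹ = H e * d0 * (H e)⁻¹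
    rw [← hx]; group
  rw [← Nat.card_prod]
  symm
  apply Nat.card_eq_of_bijective (fun p => ⟨H p.2 * p.1.1 * (H p.2)⁻¹, hmemF p⟩)
  constructor
  · rintro ⟨⟨d0, hd0, hc0⟩, e⟩ ⟨⟨d0', hd0', hc0'⟩, e'⟩ h
    have h' : H e * d0 * (H e)⁻¹ = H e' * d0' * (H e')⁻¹ := congrArg Subtype.val h
    have k1 := KF e d0 hc0
    have k2 := KF e' d0' hc0'
    rw [← h'] at k2
    have hee' : e.1 = e'.1 :=
      midpoint_unique hz (hmemF (⟨d0, hd0, hc0⟩, e)) e.2.1 e'.2.1 (k1.trans k2.symm)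
    have hee'' : e = e' := Subtype.ext hee'
    subst hee''
    have : d0 = d0' := by
      have := mul_left_cancel (mul_right_cancel h')
      exact this
    subst this
    rfl
  · rintro ⟨d, hd⟩
    obtain ⟨e, he, hed, hec⟩ := midpoint_exists hz hu hd
    set e' : {d : G // (∃ g, g * z * g⁻¹ = d) ∧ Commute d u} := ⟨e, he, hec⟩ with he'
    have hHe : H e' * z * (H e')⁻¹ = e := hH2 e'
    have hHu : H e' * u = u * H e' := (hH1 e').eq
    have hmem0 : ∃ g, g * z * g⁻¹ = (H e')⁻¹ * d * H e' := by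
      obtain ⟨x, hx⟩ := hd
      refine ⟨(H e')⁻¹ * x, ?_⟩
      rw [← hx]; group
    have hued : u * e * d = d * (u * e) := by
      have h1 : e * d = u * d * u⁻¹ * e := by rw [← hed]; group
      calc u * e * d = u * (e * d) := by group
        _ = u * (u * d * u⁻¹ * e) := by rw [h1]
        _ = (u * u) * d * (u⁻¹ * e) := by group
        _ = d * (u * e) := by rw [hu, hui, one_mul]
    have hc0 : Commute ((H e')⁻¹ * d * H e') (u * z) := by
      have hz' : z = (H e')⁻¹ * e * H e' := by rw [← hHe]; group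
      have hu' : u = (H e')⁻¹ * u * H e' := by
        calc u = (H e')⁻¹ * (H e' * u) := by group
          _ = (H e')⁻¹ * (u * H e') := by rw [hHu]
          _ = (H e')⁻¹ * u * H e' := by group
      have huz' : u * z = (H e')⁻¹ * (u * e) * H e' := by
        calc u * z = ((H e')⁻¹ * u * H e') * ((H e')⁻¹ * e * H e') := by rw [← hu', ← hz']
          _ = (H e')⁻¹ * (u * e) * H e' := by group
      rw [huz']
      show (H e')⁻¹ * d * H e' * ((H e')⁻¹ * (u * e) * H e') =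
        (H e')⁻¹ * (u * e) * H e' * ((H e')⁻¹ * d * H e')
      calc (H e')⁻¹ * d * H e' * ((H e')⁻¹ * (u * e) * H e')
          = (H e')⁻¹ * (d * (u * e)) * H e' := by group
        _ = (H e')⁻¹ * (u * e * d) * H e' := by rw [hued]
        _ = (H e')⁻¹ * (u * e) * H e' * ((H e')⁻¹ * d * H e') := by group
    refine ⟨(⟨(H e')⁻¹ * d * H e', hmem0, hc0⟩, e'), ?_⟩
    apply Subtype.ext
    show H e' * ((H e')⁻¹ * d * H e') * (H e')⁻¹ = d
    group

/-- Let z be an isolated involution of the finite group G, C = C_G(z), K the set of elements of odd order inverted by z, and s an involution of C. Then |G| = |C| · |C_K(sz)| · |C_K(s)|. -/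
theorem result {G : Type*} [Group G] [Finite G] (z : G) (hz : Cfsg.IsIsolatedInvolution z) (s : G) (hs : orderOf s = 2) (hsz : Commute s z) : Nat.card G = Nat.card (Subgroup.centralizer ({z} : Set G)) * Nat.card {k : G // Odd (orderOf k) ∧ z * k * z⁻¹ = k⁻¹ ∧ Commute k (s * z)} * Nat.card {k : G // Odd (orderOf k) ∧ z * k * z⁻¹ = k⁻¹ ∧ Commute k s} := by
  have hss : s * s = 1 := by rw [← pow_two, ← hs, pow_orderOf_eq_one]
  have hGKC : Nat.card G = Nat.card {k : G // Odd (orderOf k) ∧ z * k * z⁻¹ = k⁻¹} *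
      Nat.card (Subgroup.centralizer ({z} : Set G)) := by
    rw [← Nat.card_prod]
    symm
    apply Nat.card_eq_of_bijective (fun p => (p.1 : G) * (p.2 : G))
    constructor
    · rintro ⟨⟨k, hk⟩, ⟨c, hc⟩⟩ ⟨⟨k', hk'⟩, ⟨c', hc'⟩⟩ h
      have h : k * c = k' * c' := h
      obtain ⟨k0, _, huniq⟩ := Cfsg.Agent.S1185.result z hz (k * c)
      have e1 : k = k0 := huniq k ⟨hk, by
        have : (k * c)⁻¹ * k = c⁻¹ := by group
        rw [this]; exact inv_mem hc⟩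
      have e2 : k' = k0 := huniq k' ⟨hk', by
        have : (k * c)⁻¹ * k' = c'⁻¹ := by rw [h]; group
        rw [this]; exact inv_mem hc'⟩
      have e3 : k = k' := e1.trans e2.symm
      subst e3
      have e4 : c = c' := mul_left_cancel h
      subst e4
      rfl
    · intro g
      obtain ⟨k, ⟨hk, hmem⟩, _⟩ := Cfsg.Agent.S1185.result z hz g
      refine ⟨(⟨k, hk⟩, ⟨k⁻¹ * g, ?_⟩), ?_⟩
      · have : k⁻¹ * g = (g⁻¹ * k)⁻¹ := by group
        rw [this]; exact inv_mem hmem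
      · show k * (k⁻¹ * g) = g
        group
  have hKD : Nat.card {k : G // Odd (orderOf k) ∧ z * k * z⁻¹ = k⁻¹} =
      Nat.card {d : G // ∃ g, g * z * g⁻¹ = d} := by
    have h1 := card_inverted_eq hz (Commute.one_left z)
    have e1 : Nat.card {k : G // Odd (orderOf k) ∧ z * k * z⁻¹ = k⁻¹} =
        Nat.card {k : G // Odd (orderOf k) ∧ z * k * z⁻¹ = k⁻¹ ∧ Commute k 1} :=
      Nat.card_congr (Equiv.subtypeEquivRight (fun k => by simp))
    have e2 : Nat.card {d : G // (∃ g, g * z * g⁻¹ = d) ∧ Commute d 1} =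
        Nat.card {d : G // ∃ g, g * z * g⁻¹ = d} :=
      Nat.card_congr (Equiv.subtypeEquivRight (fun k => by simp))
    rw [e1, h1, e2]
  have hszz : Commute (s * z) z := hsz.mul_left (Commute.refl z)
  rw [hGKC, hKD, card_conj_eq hz hss hsz, card_inverted_eq hz hszz, card_inverted_eq hz hsz]
  ring

end Cfsg.Agent.S1186
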