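import Cfsg.Statements.S1189
-- import your own Cfsg.Agent.* helpers here
import Mathlib
import Cfsg.Agent.Lib.Helper18.QuasiDihedral

set_option autoImplicit false
open Cfsg Cfsg.Agent.Lib.Helper18

namespace Cfsg.Agent.S1189

/-- A quasi-dihedral 2-group has exactly two conjugacy classes of elements of order 2 and exactly two conjugacy classes of elements of order 4. -/
theorem result {S : Type*} [Group S] [Finite S] (hS : Cfsg.IsQuasiDihedral S) : Nat.card {C : ConjClasses S // ∃ t : S, orderOf t = 2 ∧ ConjClasses.mk t = C} = 2 ∧ Nat.card {C : ConjClasses S // ∃ t : S, orderOf t = 4 ∧ ConjClasses.mk t = C} = 2 := by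
  obtain ⟨m, x, y, h⟩ := exists_isQD hS
  constructor
  · apply IsQD.card_subtype_eq_two _ (ConjClasses.mk (x ^ (2 ^ (m + 2)))) (ConjClasses.mk y)
    · intro h1
      rw [ConjClasses.mk_eq_mk_iff_isConj, isConj_iff] at h1
      obtain ⟨c, hc⟩ := h1
      rw [h.z_central c, mul_inv_cancel_right] at hc
      exact h.y_ne_z hc.symm
    · intro C
      constructor
      · rintro ⟨t, ht, rfl⟩
        obtain ⟨i, rfl | rfl⟩ := h.cover t
        · left
          rw [h.eq_z_of_orderOf_two _ (pow_mem (Subgroup.mem_zpowers x) i) ht]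
        · right
          rcases Nat.even_or_odd' i with ⟨k, rfl | rfl⟩
          · rw [ConjClasses.mk_eq_mk_iff_isConj]
            exact (h.isConj_y k).symm
          · rw [h.orderOf_xy_odd] at ht; omega
      · rintro (rfl | rfl)
        · exact ⟨_, h.z_orderOf, rfl⟩
        · exact ⟨_, h.hy, rfl⟩
  · apply IsQD.card_subtype_eq_two _ (ConjClasses.mk (x ^ (2 ^ (m + 1)))) (ConjClasses.mk (x * y))
    · intro h1
      rw [ConjClasses.mk_eq_mk_iff_isConj, isConj_iff] at h1
      obtain ⟨c, hc⟩ := h1
      have := h.normal_zpowers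
      have h2 := this.conj_mem _ (pow_mem (Subgroup.mem_zpowers x) (2 ^ (m + 1))) c
      rw [hc] at h2
      have := h.xy_not_mem 1
      rw [pow_one] at this
      exact this h2
    · intro C
      constructor
      · rintro ⟨t, ht, rfl⟩
        obtain ⟨i, rfl | rfl⟩ := h.cover t
        · left
          rcases h.eq_v_of_orderOf_four _ (pow_mem (Subgroup.mem_zpowers x) i) ht with h1 | h1
          · rw [h1]
          · rw [h1, ConjClasses.mk_eq_mk_iff_isConj, isConj_iff]
            refine ⟨y, ?_⟩
            calc y * (x ^ (2 ^ (m + 1)))⁻¹ * y⁻¹ = (y * x ^ (2 ^ (m + 1)) * y⁻¹)⁻¹ := by group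
              _ = x ^ (2 ^ (m + 1)) := by rw [h.conj_v, inv_inv]
        · right
          rcases Nat.even_or_odd' i with ⟨k, rfl | rfl⟩
          · rw [h.orderOf_xy_even] at ht; omega
          · rw [ConjClasses.mk_eq_mk_iff_isConj]
            exact (h.isConj_xy k).symm
      · rintro (rfl | rfl)
        · exact ⟨_, h.v_orderOf, rfl⟩
        · refine ⟨_, ?_, rfl⟩
          have := h.orderOf_xy_odd 0
          simpa using this

end Cfsg.Agent.S1189
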