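import Cfsg.Statements.S1191
-- import your own Cfsg.Agent.* helpers here
import Mathlib
import Cfsg.Agent.Lib.Helper18.QuasiDihedralQuat

set_option autoImplicit false
open Cfsg Cfsg.Agent.Lib.Helper18 Subgroup

namespace Cfsg.Agent.S1191

/-- In a quasi-dihedral 2-group S, any two subgroups isomorphic to the quaternion group of order 8 are conjugate, and each such subgroup Q satisfies C_S(Q) = Z(Q) and |N_S(Q) : Q| = 2. -/
theorem result {S : Type*} [Group S] [Finite S] (hS : Cfsg.IsQuasiDihedral S) : (∀ Q₁ Q₂ : Subgroup S, Nonempty (Q₁ ≃* QuaternionGroup 2) → Nonempty (Q₂ ≃* QuaternionGroup 2) → ∃ s : S, Q₁.map (MulAut.conj s).toMonoidHom = Q₂) ∧ (∀ Q : Subgroup S, Nonempty (Q ≃* QuaternionGroup 2) → Subgroup.centralizer (Q : Set S) = (Subgroup.center Q).map Q.subtype ∧ Q.relIndex (Subgroup.normalizer (Q : Set S)) = 2) := by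
  obtain ⟨m, x, y, h⟩ := exists_isQD hS
  constructor
  · rintro Q₁ Q₂ ⟨e1⟩ ⟨e2⟩
    obtain ⟨k₁, rfl⟩ := h.q8_eq Q₁ e1
    obtain ⟨k₂, rfl⟩ := h.q8_eq Q₂ e2
    exact h.conj_Q8 k₁ k₂
  · rintro Q ⟨e⟩
    obtain ⟨k, rfl⟩ := h.q8_eq Q e
    exact ⟨by rw [h.centralizer_Q8, h.map_center_Q8], h.relIndex_normalizer_Q8 k⟩

end Cfsg.Agent.S1191
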