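import Cfsg.Statements.S1192
-- import your own Cfsg.Agent.* helpers here
import Mathlib
import Cfsg.Agent.Lib.Helper18.QuasiDihedral
import Cfsg.Agent.Lib.Helper1.PGroup

set_option autoImplicit false
open Cfsg Cfsg.Agent.Lib.Helper18 Subgroup

namespace Cfsg.Agent.S1192

/-- A quasi-dihedral group S of order 2^(n+1) has exactly three maximal subgroups; one is cyclic, one is isomorphic to the generalized quaternion group of order 2^n and one to the dihedral group of order 2^n. -/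
theorem result {S : Type*} [Group S] [Finite S] (hS : Cfsg.IsQuasiDihedral S) (n : ℕ) (hn : Nat.card S = 2 ^ (n + 1)) : ∃ M₁ M₂ M₃ : Subgroup S, IsCoatom M₁ ∧ IsCoatom M₂ ∧ IsCoatom M₃ ∧ M₁ ≠ M₂ ∧ M₁ ≠ M₃ ∧ M₂ ≠ M₃ ∧ (∀ M : Subgroup S, IsCoatom M → M = M₁ ∨ M = M₂ ∨ M = M₃) ∧ IsCyclic M₁ ∧ Nonempty (M₂ ≃* QuaternionGroup (2 ^ (n - 2))) ∧ Nonempty (M₃ ≃* DihedralGroup (2 ^ (n - 1))) := by
  obtain ⟨m, x, y, h⟩ := exists_isQD hS
  have hnm : n = m + 3 := by
    have h1 := h.card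
    rw [hn] at h1
    have := Nat.pow_right_injective (le_refl 2) h1
    omega
  subst hnm
  have : Fact (Nat.Prime 2) := ⟨Nat.prime_two⟩
  refine ⟨zpowers x, zpowers (x ^ 2) ⊔ zpowers (x * y), zpowers (x ^ 2) ⊔ zpowers y,
    IsQD.isCoatom_of_index_two _ h.index_zpowers, IsQD.isCoatom_of_index_two _ h.index_Q,
    IsQD.isCoatom_of_index_two _ h.index_D, ?_, ?_, ?_, ?_, inferInstance, ?_, ?_⟩
  · intro e; exact h.x_not_mem_Q (e ▸ mem_zpowers x)
  · intro e; exact h.x_not_mem_D (e ▸ mem_zpowers x)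
  · intro e; exact h.y_not_mem_Q (e.symm ▸ mem_sup_right (mem_zpowers y))
  · intro M hM
    have hidx := Cfsg.Agent.Lib.Helper1.IsPGroup.coatom_index h.isPGroup M hM
    have hsq : x ^ 2 ∈ M := Cfsg.Agent.Lib.Helper1.IsPGroup.pow_mem_coatom h.isPGroup M hM x
    have hMtop : M ≠ ⊤ := hM.1
    by_cases hx : x ∈ M
    · left
      exact ((IsQD.isCoatom_of_index_two _ h.index_zpowers).le_iff_eq hMtop).mp (zpowers_le.mpr hx)
    · right
      by_cases hy : y ∈ M
      · right
        exact ((IsQD.isCoatom_of_index_two _ h.index_D).le_iff_eq hMtop).mp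
          (sup_le (zpowers_le.mpr hsq) (zpowers_le.mpr hy))
      · left
        have hxy : x * y ∈ M := by
          rw [mul_mem_iff_of_index_two hidx]
          exact ⟨fun a => absurd a hx, fun a => absurd a hy⟩
        exact ((IsQD.isCoatom_of_index_two _ h.index_Q).le_iff_eq hMtop).mp
          (sup_le (zpowers_le.mpr hsq) (zpowers_le.mpr hxy))
  · exact h.quaternion_iso
  · exact h.dihedral_iso

end Cfsg.Agent.S1192
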