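import Cfsg.Statements.S1194
-- import your own Cfsg.Agent.* helpers here
import Mathlib
import Cfsg.Agent.Lib.Helper18.QuasiDihedral

set_option autoImplicit false
open Cfsg Cfsg.Agent.Lib.Helper18 Subgroup

namespace Cfsg.Agent.S1194

/-- In a quasi-dihedral 2-group S, every proper normal subgroup is either a maximal subgroup or a cyclic subgroup contained in the derived subgroup S'. -/
theorem result {S : Type*} [Group S] [Finite S] (hS : Cfsg.IsQuasiDihedral S) (N : Subgroup S) [N.Normal] (hN : N ≠ ⊤) : IsCoatom N ∨ (IsCyclic N ∧ N ≤ commutator S) := by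
  obtain ⟨m, x, y, h⟩ := exists_isQD hS
  by_cases hN1 : N ≤ zpowers x
  · by_cases hN2 : N = zpowers x
    · left; rw [hN2]; exact IsQD.isCoatom_of_index_two _ h.index_zpowers
    · right
      have hle : N ≤ zpowers (x ^ 2) := by
        intro g hg
        by_contra hg2
        have hxg : x ∈ zpowers g := by
          by_contra hxg
          exact hg2 (mem_zpowers_sq_of_not_mem x g x (m + 3) h.hx (hN1 hg) (mem_zpowers x) hxg)
        apply hN2
        apply le_antisymm hN1
        rw [zpowers_le]
        exact (zpowers_le.mpr hg) hxg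
      constructor
      · exact Subgroup.isCyclic_of_le hle
      · exact hle.trans (zpowers_le.mpr h.sq_mem_commutator)
  · left
    obtain ⟨g, hg, hg2⟩ := SetLike.not_le_iff_exists.mp hN1
    obtain ⟨i, rfl | rfl⟩ := h.cover g
    · exact absurd (pow_mem (mem_zpowers x) i) hg2
    · have hNn : N.Normal := inferInstance
      have h1 : x ^ (i + 2) * y ∈ N := by
        rw [← h.conj_shift_two]; exact hNn.conj_mem _ hg _
      have h2 : x ^ 2 ∈ N := by
        have := N.mul_mem h1 (N.inv_mem hg)
        have e : x ^ (i + 2) * y * (x ^ i * y)⁻¹ = x ^ 2 := by rw [pow_add]; group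
        rwa [e] at this
      apply IsQD.isCoatom_of_index_two
      apply h.index_eq_two_of_sq_le N (zpowers_le.mpr h2) _ hN
      intro hle
      exact hg2 ((hle.trans (zpowers_le.mpr (pow_mem (mem_zpowers x) 2))) hg)

end Cfsg.Agent.S1194
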