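import Cfsg.Statements.S1195
-- import your own Cfsg.Agent.* helpers here
import Mathlib
import Cfsg.Agent.Lib.Helper18.WreathedInvol

set_option autoImplicit false
open Cfsg Cfsg.Agent.Lib.Helper18 Subgroup

namespace Cfsg.Agent.S1195

/-- A wreathed 2-group has exactly three conjugacy classes of elements of order 2. -/
theorem result {S : Type*} [Group S] [Finite S] (hS : Cfsg.IsWreathed S) : Nat.card {C : ConjClasses S // ∃ t : S, orderOf t = 2 ∧ ConjClasses.mk t = C} = 3 := by
  obtain ⟨m, x, y, z, h⟩ := exists_isWr hS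
  have hnb := h.normal_base
  have hub : x ^ (2 ^ (m + 1)) ∈ h.base := h.base.pow_mem h.x_mem_base _
  have hu'b : y ^ (2 ^ (m + 1)) ∈ h.base := h.base.pow_mem h.y_mem_base _
  apply IsWr.card_subtype_eq_three _ (ConjClasses.mk (x ^ (2 ^ (m + 1))))
    (ConjClasses.mk (x ^ (2 ^ (m + 1)) * y ^ (2 ^ (m + 1)))) (ConjClasses.mk z)
  · intro h1
    rw [ConjClasses.mk_eq_mk_iff_isConj, isConj_comm, isConj_iff] at h1
    obtain ⟨c, hc⟩ := h1
    rw [h.uu'_central c, mul_inv_cancel_right] at hc
    apply h.u'_ne_one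
    exact mul_left_cancel (hc.trans (mul_one _).symm)
  · intro h1
    rw [ConjClasses.mk_eq_mk_iff_isConj, isConj_iff] at h1
    obtain ⟨c, hc⟩ := h1
    apply h.z_not_mem
    have := hnb.conj_mem _ hub c
    rwa [hc] at this
  · intro h1
    rw [ConjClasses.mk_eq_mk_iff_isConj, isConj_iff] at h1
    obtain ⟨c, hc⟩ := h1
    apply h.z_not_mem
    have := hnb.conj_mem _ (h.base.mul_mem hub hu'b) c
    rwa [hc] at this
  · intro C
    constructor
    · rintro ⟨t, ht, rfl⟩
      rcases h.involution_cases t ht with rfl | rfl | rfl | ⟨k, rfl⟩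
      · left; rfl
      · left
        rw [ConjClasses.mk_eq_mk_iff_isConj, isConj_comm, isConj_iff]
        exact ⟨z, h.conj_u⟩
      · right; left; rfl
      · right; right
        rw [ConjClasses.mk_eq_mk_iff_isConj]
        exact (h.isConj_z_cz k).symm
    · rintro (rfl | rfl | rfl)
      · exact ⟨_, h.u_orderOf, rfl⟩
      · refine ⟨_, ?_, rfl⟩
        have : Fact (Nat.Prime 2) := ⟨Nat.prime_two⟩
        apply orderOf_eq_prime
        · rw [h.uu'_eq, ← pow_mul, show 2 ^ (m + 1) * 2 = 2 ^ (m + 2) by ring, ← h.orderOf_xy]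
          exact pow_orderOf_eq_one _
        · intro e
          have e1 : x ^ ((2 ^ (m + 1) : ℕ) : ℤ) = y ^ (-((2 ^ (m + 1) : ℕ) : ℤ)) := by
            rw [zpow_neg, zpow_natCast, zpow_natCast]
            exact eq_inv_of_mul_eq_one_left e
          have e2 := h.disj' _ _ e1
          rw [zpow_natCast] at e2
          have := h.u_orderOf
          rw [e2, orderOf_one] at this; omega
      · exact ⟨_, h.hz, rfl⟩

end Cfsg.Agent.S1195
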