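import Cfsg.Statements.S1196
-- import your own Cfsg.Agent.* helpers here
import Mathlib
import Cfsg.Agent.Lib.Helper18.WreathedBase

set_option autoImplicit false
open Cfsg Cfsg.Agent.Lib.Helper18 Subgroup

namespace Cfsg.Agent.S1196

/-- A wreathed 2-group S of order 2^(2n+1) has a unique commutative subgroup of order 2^(2n), and this subgroup is isomorphic to the direct product of two cyclic groups of order 2^n. -/
theorem result {S : Type*} [Group S] [Finite S] (hS : Cfsg.IsWreathed S) (n : ℕ) (hn : Nat.card S = 2 ^ (2 * n + 1)) : (∃! U : Subgroup S, IsMulCommutative U ∧ Nat.card U = 2 ^ (2 * n)) ∧ ∀ U : Subgroup S, IsMulCommutative U → Nat.card U = 2 ^ (2 * n) → Nonempty (U ≃* Multiplicative (ZMod (2 ^ n) × ZMod (2 ^ n))) := by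
  obtain ⟨m, x, y, z, h⟩ := exists_isWr hS
  have hnm : n = m + 2 := by
    have h1 := h.card
    rw [hn] at h1
    have := Nat.pow_right_injective (le_refl 2) h1
    omega
  subst hnm
  constructor
  · refine ⟨h.base, ⟨h.base_isMulCommutative, by rw [h.card_base]; ring⟩, ?_⟩
    rintro U ⟨hU, hcard⟩
    exact h.eq_base_of_comm U hU hcard
  · intro U hU hcard
    rw [h.eq_base_of_comm U hU hcard]
    exact h.base_iso

end Cfsg.Agent.S1196
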