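import Cfsg.Statements.S1198
-- import your own Cfsg.Agent.* helpers here
import Mathlib
import Cfsg.Agent.Lib.Helper18.WreathedKlein

set_option autoImplicit false
open Cfsg Cfsg.Agent.Lib.Helper18 Subgroup

namespace Cfsg.Agent.S1198

/-- A wreathed 2-group S has a normal Klein four-subgroup T such that every Klein four-subgroup of S other than T is conjugate in S to any other such subgroup; in particular S has exactly two conjugacy classes of Klein four-subgroups. -/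
theorem result {S : Type*} [Group S] [Finite S] (hS : Cfsg.IsWreathed S) : ∃ T : Subgroup S, IsKleinFour T ∧ T.Normal ∧ (∃ T₀ : Subgroup S, IsKleinFour T₀ ∧ T₀ ≠ T) ∧ ∀ T₁ T₂ : Subgroup S, IsKleinFour T₁ → IsKleinFour T₂ → T₁ ≠ T → T₂ ≠ T → ∃ s : S, T₁.map (MulAut.conj s).toMonoidHom = T₂ := by
  obtain ⟨m, x, y, z, h⟩ := exists_isWr hS
  refine ⟨zpowers (x ^ (2 ^ (m + 1)) * y ^ (2 ^ (m + 1))) ⊔ zpowers (x ^ (2 ^ (m + 1))),
    h.T_klein, h.T_normal,
    ⟨zpowers (x ^ (2 ^ (m + 1)) * y ^ (2 ^ (m + 1))) ⊔ zpowers z, h.T0_klein, ?_⟩, ?_⟩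
  · intro e
    apply h.z_not_mem
    apply h.T_le_base
    rw [← e]
    exact mem_sup_right (mem_zpowers z)
  · intro T₁ T₂ h1 h2 hn1 hn2
    obtain ⟨k₁, rfl⟩ := h.klein_eq' T₁ h1 hn1
    obtain ⟨k₂, rfl⟩ := h.klein_eq' T₂ h2 hn2
    exact h.conj_T1 k₁ k₂

end Cfsg.Agent.S1198
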