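import Cfsg.Statements.S1199
-- import your own Cfsg.Agent.* helpers here
import Mathlib
import Cfsg.Agent.Lib.Helper18.WreathedQuat

set_option autoImplicit false
open Cfsg Cfsg.Agent.Lib.Helper18 Subgroup

namespace Cfsg.Agent.S1199

/-- A wreathed 2-group S of order 2^(2n+1) has exactly one subgroup of order 2^(n+1) isomorphic to a generalized quaternion group, and that subgroup is normal in S. -/
theorem result {S : Type*} [Group S] [Finite S] (hS : Cfsg.IsWreathed S) (n : ℕ) (hn : Nat.card S = 2 ^ (2 * n + 1)) : (∃! Y : Subgroup S, Nat.card Y = 2 ^ (n + 1) ∧ Nonempty (Y ≃* QuaternionGroup (2 ^ (n - 1)))) ∧ ∀ Y : Subgroup S, Nat.card Y = 2 ^ (n + 1) → Nonempty (Y ≃* QuaternionGroup (2 ^ (n - 1))) → Y.Normal := by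
  obtain ⟨m, x, y, z, h⟩ := exists_isWr hS
  have hnm : n = m + 2 := by
    have h1 := h.card
    rw [hn] at h1
    have := Nat.pow_right_injective (le_refl 2) h1
    omega
  subst hnm
  constructor
  · refine ⟨zpowers (x * y⁻¹) ⊔ zpowers (x ^ (2 ^ (m + 1)) * z), ⟨h.card_Y0, h.Y0_iso⟩, ?_⟩
    rintro Y ⟨hc, ⟨e⟩⟩
    exact h.eq_Y0 Y hc e
  · rintro Y hc ⟨e⟩
    rw [h.eq_Y0 Y hc e]
    exact h.Y0_normal

end Cfsg.Agent.S1199
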