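import Cfsg.Statements.S1213
-- import your own Cfsg.Agent.* helpers here
import Mathlib
import Cfsg.Agent.Lib.Helper18.WrCentralizer
import Cfsg.Agent.Lib.Helper18.QDCentralizer

set_option autoImplicit false
open Cfsg Cfsg.Agent.Lib.Helper18 Subgroup

namespace Cfsg.Agent.S1213

/-- Let G be a finite group with quasi-dihedral or wreathed Sylow 2-subgroups and no subgroup of index 2, and let x be an involution with centralizer C. Then C has a Sylow 2-subgroup R which is a Sylow 2-subgroup of G; C has a normal subgroup K of index a power of 2 which has no subgroup of index 2 and whose Sylow 2-subgroups are generalized quaternion; and every subgroup of the centre of R is weakly closed in R with respect to C. -/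
theorem result {G : Type*} [Group G] [Finite G] (S : Sylow 2 G) (hS : Cfsg.IsQuasiDihedral (S : Subgroup G) ∨ Cfsg.IsWreathed (S : Subgroup G)) (hG : ∀ H : Subgroup G, H.index ≠ 2) (x : G) (hx : orderOf x = 2) : ∃ R : Sylow 2 ↥(Subgroup.centralizer ({x} : Set G)), Nat.card R = Nat.card S ∧ (∃ K : Subgroup ↥(Subgroup.centralizer ({x} : Set G)), K.Normal ∧ (∃ a : ℕ, K.index = 2 ^ a) ∧ (∀ H : Subgroup ↥K, H.index ≠ 2) ∧ (∀ P : Sylow 2 ↥K, ∃ m : ℕ, 1 ≤ m ∧ Nonempty ((P : Subgroup ↥K) ≃* QuaternionGroup (2 ^ m)))) ∧ (∀ Z₀ : Subgroup ↥(Subgroup.centralizer ({x} : Set G)), Z₀ ≤ ((Subgroup.center (R : Subgroup ↥(Subgroup.centralizer ({x} : Set G)))).map (R : Subgroup ↥(Subgroup.centralizer ({x} : Set G))).subtype) → Cfsg.IsWeaklyClosed Z₀ (R : Subgroup ↥(Subgroup.centralizer ({x} : Set G)))) := by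
  have : Fact (Nat.Prime 2) := ⟨Nat.prime_two⟩
  rcases hS with hS | hS
  · -- quasi-dihedral Sylow 2-subgroups
    obtain ⟨m, a, b, h⟩ := exists_isQD hS
    obtain ⟨hc1, -⟩ := h.fusion_of_no_index_two hG
    obtain ⟨g, hg⟩ := isConj_iff.mp (h.invol_isConj_z hc1 x hx).symm
    have hzc : ∀ s ∈ (S : Subgroup G), s * (a : G) ^ (2 ^ (m + 2)) = (a : G) ^ (2 ^ (m + 2)) * s := by
      intro s hs
      have := congrArg Subtype.val (h.z_central ⟨s, hs⟩)
      simpa using this
    obtain ⟨hm, hcen⟩ := conj_mem_center_smul_sylow S g ((a : G) ^ (2 ^ (m + 2)))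
      (pow_mem a.2 _) hzc
    have hS' : Cfsg.IsQuasiDihedral ↥((g • S : Sylow 2 G) : Subgroup G) :=
      isQuasiDihedral_of_mulEquiv (Sylow.equivSMul S g) hS
    obtain ⟨m', a', b', h'⟩ := exists_isQD hS'
    have hxz : x = (a' : G) ^ (2 ^ (m' + 2)) := by
      have h1 : (⟨g * (a : G) ^ (2 ^ (m + 2)) * g⁻¹, hm⟩ : ↥((g • S : Sylow 2 G) : Subgroup G)) ∈
          zpowers a' := by
        rw [h'.center_eq] at hcen
        exact (zpowers_le.mpr (pow_mem (mem_zpowers a') _)) hcen
      have h2 := h'.eq_z_of_orderOf_two _ h1 (by rw [← Subgroup.orderOf_coe]; simp only [hg]; exact hx)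
      have h3 := congrArg Subtype.val h2
      simp only [Subgroup.coe_pow] at h3
      rw [← hg]; exact h3
    obtain ⟨R, hR, hrest⟩ := h'.centralizer_case hG x hxz
    exact ⟨R, hR.trans (Nat.card_congr (Sylow.equivSMul S g).toEquiv).symm, hrest⟩
  · -- wreathed Sylow 2-subgroups
    obtain ⟨m, a, b, c, h⟩ := exists_isWr hS
    obtain ⟨g, hg⟩ := isConj_iff.mp (h.invol_isConj_c0 hG x hx)
    obtain ⟨hm, hcen⟩ := conj_mem_center_smul_sylow S g
      ((a : G) ^ (2 ^ (m + 1)) * (b : G) ^ (2 ^ (m + 1)))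
      (mul_mem (pow_mem a.2 _) (pow_mem b.2 _)) (fun s hs => h.c0_central_val s hs)
    have hS' : Cfsg.IsWreathed ↥((g • S : Sylow 2 G) : Subgroup G) :=
      isWreathed_of_mulEquiv (Sylow.equivSMul S g) hS
    obtain ⟨m', a', b', c', h'⟩ := exists_isWr hS'
    have hxz : x = (a' : G) ^ (2 ^ (m' + 1)) * (b' : G) ^ (2 ^ (m' + 1)) := by
      have h2 := h'.central_involution _ (by rw [← Subgroup.orderOf_coe]; simp only [hg]; exact hx) hcen
      have h3 := congrArg Subtype.val h2
      simp only [Subgroup.coe_pow, Subgroup.coe_mul] at h3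
      rw [← hg]; exact h3
    obtain ⟨R, hR, hrest⟩ := h'.centralizer_case hG x hxz
    exact ⟨R, hR.trans (Nat.card_congr (Sylow.equivSMul S g).toEquiv).symm, hrest⟩

end Cfsg.Agent.S1213
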