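import Cfsg.Statements.S1231
import Cfsg.Agent.Lib.Helper16.StronglyEmbedded
import Cfsg.Agent.Lib.Helper9.Basic

set_option autoImplicit false
open Cfsg

namespace Cfsg.Agent.S1231

open Cfsg.Agent.Lib.Helper16 Cfsg.Agent.Lib.Helper9

variable {G : Type*} [Group G]

theorem not_pRankLE_of_le {p k : ℕ} {X Y : Subgroup G} (h : X ≤ Y) :
    ¬ Cfsg.PRankLE p k ↥X → ¬ Cfsg.PRankLE p k ↥Y :=
  mt (pRankLE_of_injective (Subgroup.inclusion h) (Subgroup.inclusion_injective h) p k)

theorem not_pRankLE_self {p k : ℕ} {A : Subgroup G} (hc : IsMulCommutative A)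
    (hexp : ∀ a ∈ A, a ^ p = 1) (hcard : ¬ Nat.card A ≤ p ^ k) : ¬ Cfsg.PRankLE p k ↥A := by
  intro h
  apply hcard
  have h1 : IsMulCommutative (⊤ : Subgroup ↥A) :=
    ⟨⟨fun a b => Subtype.ext (hc.is_comm.comm a.1 b.1)⟩⟩
  have h2 := h ⊤ h1 (by
    intro a _
    apply Subtype.ext
    simp only [Subgroup.coe_pow, Subgroup.coe_one]
    exact hexp a.1 a.2)
  rwa [Subgroup.card_top] at h2

theorem not_pRankLE_map_conj {p k : ℕ} {Y : Subgroup G} (c : G) (h : ¬ Cfsg.PRankLE p k ↥Y) :
    ¬ Cfsg.PRankLE p k ↥(Y.map (MulAut.conj c).toMonoidHom) := by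
  intro h1
  apply h
  exact (pRankLE_congr (Y.equivMapOfInjective (MulAut.conj c).toMonoidHom
    (MulAut.conj c).injective) p k).mpr h1

/-- Let H be a subgroup of the finite group G, p a prime, k ≥ 1, and P a Sylow p-subgroup of H whose p-rank is at least k. Then N_G(X) ≤ H for every subgroup X of P of p-rank at least k if and only if H ∩ gHg⁻¹ has p-rank less than k for every g ∉ H. -/
theorem result {G : Type*} [Group G] [Finite G] {p : ℕ} [Fact p.Prime] (k : ℕ) (hk : 1 ≤ k) (H : Subgroup G) (P : Sylow p ↥H) (hP : ¬ Cfsg.PRankLE p (k - 1) ↥(P : Subgroup ↥H)) : (∀ X : Subgroup G, X ≤ (P : Subgroup ↥H).map H.subtype → ¬ Cfsg.PRankLE p (k - 1) ↥X → Subgroup.normalizer (X : Set G) ≤ H) ↔ (∀ g : G, g ∉ H → Cfsg.PRankLE p (k - 1) ↥(H ⊓ H.map (MulAut.conj g).toMonoidHom)) := by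
  constructor
  · -- (⇒)
    intro hN g hg
    by_contra hrank
    set P' : Subgroup G := (P : Subgroup ↥H).map H.subtype with hP'
    have hP'p : IsPGroup p P' := P.isPGroup'.map _
    have hP'H : P' ≤ H := Subgroup.map_subtype_le _
    have hP'max : ∀ R'' : Subgroup G, IsPGroup p R'' → P' ≤ R'' → R'' ≤ H → R'' = P' :=
      fun R'' h1 h2 h3 => sylow_map_maximal P h1 h2 h3
    -- Claim 1
    have claim1 : ∀ Y : Subgroup G, Y ≤ H → IsPGroup p Y → ¬ Cfsg.PRankLE p (k - 1) ↥Y →
        Subgroup.normalizer (Y : Set G) ≤ H := by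
      intro Y hYH hYp hYr
      obtain ⟨c, hc, hle⟩ := exists_conj_le_of_maximal hYH hYp hP'H hP'p hP'max
      have h1 := hN _ hle (not_pRankLE_map_conj c hYr)
      rw [normalizer_map_conj] at h1
      intro x hx
      have h2 : c * x * c⁻¹ ∈ H := h1 ⟨x, hx, by simp⟩
      have : x = c⁻¹ * (c * x * c⁻¹) * c := by group
      rw [this]; exact H.mul_mem (H.mul_mem (H.inv_mem hc) h2) hc
    set D : Subgroup G := H ⊓ H.map (MulAut.conj g).toMonoidHom with hD
    -- an elementary abelian subgroup of D of large order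
    unfold Cfsg.PRankLE at hrank
    push Not at hrank
    obtain ⟨A, hAc, hAexp, hAcard⟩ := hrank
    have hAp : IsPGroup p A := by
      intro a
      refine ⟨1, ?_⟩
      rw [pow_one]
      exact Subtype.ext (by rw [Subgroup.coe_pow]; exact hAexp a.1 a.2)
    obtain ⟨R, hAR⟩ := hAp.exists_le_sylow
    set Q : Subgroup G := (R : Subgroup D).map D.subtype with hQdef
    have hQp : IsPGroup p Q := R.isPGroup'.map _
    have hQD : Q ≤ D := Subgroup.map_subtype_le _
    have hQr : ¬ Cfsg.PRankLE p (k - 1) ↥Q := by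
      intro h1
      rw [hQdef, pRankLE_map_subtype] at h1
      exact not_pRankLE_of_le hAR (not_pRankLE_self hAc hAexp (not_le.mpr hAcard)) h1
    have hQH : Q ≤ H := hQD.trans inf_le_left
    have hQHg : Q ≤ H.map (MulAut.conj g).toMonoidHom := hQD.trans inf_le_right
    have hQgH : Q.map (MulAut.conj g⁻¹).toMonoidHom ≤ H := by
      rintro x ⟨q, hq, rfl⟩
      have := hQHg hq
      rw [mem_map_conj_iff] at this
      simpa using this
    have hN1 : Subgroup.normalizer (Q : Set G) ≤ H := claim1 Q hQH hQp hQr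
    have hN2 : Subgroup.normalizer (Q : Set G) ≤ H.map (MulAut.conj g).toMonoidHom := by
      have h1 := claim1 _ hQgH (isPGroup_map_conj hQp _) (not_pRankLE_map_conj g⁻¹ hQr)
      rw [normalizer_map_conj] at h1
      intro x hx
      rw [mem_map_conj_iff]
      exact h1 ⟨x, hx, by simp⟩
    have hND : Subgroup.normalizer (Q : Set G) ≤ D := le_inf hN1 hN2
    have hQmax : ∀ R'' : Subgroup G, IsPGroup p R'' → Q ≤ R'' → R'' ≤ H → R'' = Q := by
      intro R'' hR''p hle hR''H
      by_contra hne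
      obtain ⟨x, hxR, hxN, hxQ⟩ := exists_mem_normalizer_not_mem hR''p hle (Ne.symm hne)
      have hxD : x ∈ D := hND hxN
      have hS : Q ⊔ Subgroup.zpowers x ≤ R'' := sup_le hle (by rw [Subgroup.zpowers_le]; exact hxR)
      have hSD : Q ⊔ Subgroup.zpowers x ≤ D := sup_le hQD (by rw [Subgroup.zpowers_le]; exact hxD)
      have := sylow_map_maximal R (hR''p.to_le hS) le_sup_left hSD
      apply hxQ
      rw [hQdef, ← this]
      exact (le_sup_right : Subgroup.zpowers x ≤ _) (Subgroup.mem_zpowers x)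
    obtain ⟨z, hz, hle2⟩ := exists_conj_le_of_maximal hQgH (isPGroup_map_conj hQp _) hQH hQp hQmax
    rw [map_conj_map_conj] at hle2
    have hzg : z * g⁻¹ ∈ H := hN1 (mem_normalizer_of_map_conj_le hle2)
    apply hg
    have e : g = (z * g⁻¹)⁻¹ * z := by group
    rw [e]; exact H.mul_mem (H.inv_mem hzg) hz
  · -- (⇐)
    intro hD X hXP hXr x hx
    by_contra hxH
    have h1 := hD x hxH
    have hXH : X ≤ H := hXP.trans (Subgroup.map_subtype_le _)
    have hle : X ≤ H ⊓ H.map (MulAut.conj x).toMonoidHom := by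
      apply le_inf hXH
      intro y hy
      rw [mem_map_conj_iff]
      have hx' : x⁻¹ ∈ Subgroup.normalizer (X : Set G) := Subgroup.inv_mem _ hx
      have := (Subgroup.mem_normalizer_iff.mp hx' y).mp hy
      rw [inv_inv] at this
      exact hXH this
    exact not_pRankLE_of_le hle hXr h1

end Cfsg.Agent.S1231
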