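import Cfsg.Statements.S1236
import Cfsg.Agent.Lib.Helper18.QuasiDihedralKlein

set_option autoImplicit false
open Cfsg

namespace Cfsg.Agent.S1236

open DihedralGroup in
/-- two nonzero solutions of `k + k = 0` in `ZMod m` coincide. -/
theorem two_tors_unique {m : ℕ} [NeZero m] {i j : ZMod m} (hi : i + i = 0) (hj : j + j = 0)
    (hi0 : i ≠ 0) (hj0 : j ≠ 0) : i = j := by
  have h1 : ∀ k : ZMod m, k + k = 0 → k ≠ 0 → 2 * k.val = m := by
    intro k hk hk0
    have hv := congrArg ZMod.val hk
    rw [ZMod.val_add, ZMod.val_zero] at hv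
    have hlt := ZMod.val_lt k
    have hpos : 0 < k.val := Nat.pos_of_ne_zero (fun h => hk0 ((ZMod.val_eq_zero k).mp h))
    obtain ⟨c, hc⟩ := Nat.dvd_of_mod_eq_zero hv
    have hc1 : c = 1 := by
      rcases c with _ | _ | c
      · omega
      · rfl
      · exfalso
        have : m * (c + 1 + 1) ≥ m * 2 := Nat.mul_le_mul_left m (by omega)
        omega
    subst hc1
    omega
  apply ZMod.val_injective
  have := h1 i hi hi0
  have := h1 j hj hj0
  omega

open DihedralGroup in
/-- the centralizer of a reflection in a dihedral group. -/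
theorem dihedral_centralizer_sr {m : ℕ} (i : ZMod m) (g : DihedralGroup m)
    (hg : g * sr i = sr i * g) :
    g = 1 ∨ g = sr i ∨ ∃ k : ZMod m, k ≠ 0 ∧ k + k = 0 ∧ (g = r k ∨ g = sr (i + k)) := by
  rcases g with k | j
  · rw [r_mul_sr, sr_mul_r, sr.injEq] at hg
    have hk : k + k = 0 := by
      have : k + k = (i + k) - (i - k) := by ring
      rw [this, ← hg, sub_self]
    by_cases hk0 : k = 0
    · left; rw [hk0]; rfl
    · right; right; exact ⟨k, hk0, hk, Or.inl rfl⟩
  · rw [sr_mul_sr, sr_mul_sr, r.injEq] at hg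
    have hk : (j - i) + (j - i) = 0 := by
      have : (j - i) + (j - i) = (j - i) - (i - j) := by ring
      rw [this, ← hg, sub_self]
    by_cases hk0 : j - i = 0
    · right; left
      rw [sub_eq_zero.mp hk0]
    · right; right
      exact ⟨j - i, hk0, hk, Or.inr (by rw [add_sub_cancel])⟩

/-- the property: the centralizer of two distinct commuting involutions is the four-group they
generate. -/
def KleinSC (X : Type*) [Group X] : Prop :=
  ∀ a b : X, a ≠ 1 → b ≠ 1 → a ≠ b → a * a = 1 → b * b = 1 → a * b = b * a →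
    ∀ g : X, g * a = a * g → g * b = b * g → g = 1 ∨ g = a ∨ g = b ∨ g = a * b

open DihedralGroup in
theorem dihedral_sr_case {m : ℕ} [NeZero m] (i : ZMod m) (b g : DihedralGroup m) (hb1 : b ≠ 1)
    (hba : b ≠ sr i) (hb : b * sr i = sr i * b) (hg : g * sr i = sr i * g) :
    g = 1 ∨ g = sr i ∨ g = b ∨ g = sr i * b := by
  rcases dihedral_centralizer_sr i b hb with h | h | ⟨k, hk0, hk, hbk⟩
  · exact absurd h hb1
  · exact absurd h hba
  rcases dihedral_centralizer_sr i g hg with h | h | ⟨k', hk'0, hk', hgk⟩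
  · exact Or.inl h
  · exact Or.inr (Or.inl h)
  have hkk : k' = k := two_tors_unique hk' hk hk'0 hk0
  subst hkk
  rcases hbk with rfl | rfl <;> rcases hgk with rfl | rfl
  · exact Or.inr (Or.inr (Or.inl rfl))
  · right; right; right
    rw [sr_mul_r]
  · right; right; right
    rw [sr_mul_sr, add_sub_cancel_left]
  · exact Or.inr (Or.inr (Or.inl rfl))

open DihedralGroup in
theorem dihedral_kleinSC {m : ℕ} [NeZero m] : KleinSC (DihedralGroup m) := by
  intro a b ha1 hb1 hab ha2 hb2 hc g hga hgb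
  rcases a with c | i
  · rcases b with c' | j
    · exfalso
      rw [r_mul_r, one_def, r.injEq] at ha2 hb2
      have hc0 : c ≠ 0 := fun h => ha1 (by rw [h]; rfl)
      have hc'0 : c' ≠ 0 := fun h => hb1 (by rw [h]; rfl)
      exact hab (by rw [two_tors_unique ha2 hb2 hc0 hc'0])
    · rcases dihedral_sr_case j (r c) g ha1 (by simp) hc hgb with h | h | h | h
      · exact Or.inl h
      · exact Or.inr (Or.inr (Or.inl h))
      · exact Or.inr (Or.inl h)
      · exact Or.inr (Or.inr (Or.inr (by rw [h, hc])))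
  · exact dihedral_sr_case i b g hb1 hab.symm hc.symm hga

open Cfsg.Agent.Lib.Helper18 in
theorem qd_kleinSC {S : Type*} [Group S] (hS : Cfsg.IsQuasiDihedral S) : KleinSC S := by
  obtain ⟨m, x, y, h⟩ := exists_isQD hS
  have : Fact (Nat.Prime 2) := ⟨Nat.prime_two⟩
  -- the key case: `a ∉ ⟨x⟩`
  have key : ∀ a b : S, a ≠ 1 → b ≠ 1 → a ≠ b → a * a = 1 → a * b = b * a →
      a ∉ Subgroup.zpowers x → ∀ g : S, g * a = a * g → g = 1 ∨ g = a ∨ g = b ∨ g = a * b := by
    intro a b ha1 hb1 hab ha2 hc hax g hga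
    have hao : orderOf a = 2 := orderOf_eq_prime (by rw [pow_two, ha2]) ha1
    obtain ⟨i, hi | hi⟩ := h.cover a
    · exact absurd (hi ▸ Subgroup.pow_mem _ (Subgroup.mem_zpowers x) i) hax
    obtain ⟨k, hk | hk⟩ := Nat.even_or_odd' i
    swap
    · exfalso
      rw [hk] at hi
      have := h.orderOf_xy_odd k
      rw [← hi, hao] at this
      omega
    rw [hk] at hi
    have hgK := (h.comm_t_iff k g).mp (by rw [← hi]; exact hga.symm)
    have hbK := (h.comm_t_iff k b).mp (by rw [← hi]; exact hc)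
    rw [h.mem_K_iff, ← hi] at hgK hbK
    rcases hbK with hb | hb | hb | hb
    · exact absurd hb hb1
    · -- b = z
      rcases hgK with hg | hg | hg | hg
      · exact Or.inl hg
      · exact Or.inr (Or.inr (Or.inl (by rw [hg, hb])))
      · exact Or.inr (Or.inl hg)
      · exact Or.inr (Or.inr (Or.inr (by rw [hg, hb])))
    · exact absurd hb.symm hab
    · -- b = a z
      have hz : x ^ 2 ^ (m + 2) = a * b := by
        rw [hb, ← mul_assoc, ha2, one_mul]
      rcases hgK with hg | hg | hg | hg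
      · exact Or.inl hg
      · exact Or.inr (Or.inr (Or.inr (by rw [hg, hz])))
      · exact Or.inr (Or.inl hg)
      · exact Or.inr (Or.inr (Or.inl (by rw [hg, hb])))
  intro a b ha1 hb1 hab ha2 hb2 hc g hga hgb
  by_cases hax : a ∈ Subgroup.zpowers x
  · by_cases hbx : b ∈ Subgroup.zpowers x
    · exfalso
      have hao : orderOf a = 2 := orderOf_eq_prime (by rw [pow_two, ha2]) ha1
      have hbo : orderOf b = 2 := orderOf_eq_prime (by rw [pow_two, hb2]) hb1
      exact hab ((h.eq_z_of_orderOf_two a hax hao).trans (h.eq_z_of_orderOf_two b hbx hbo).symm)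
    · rcases key b a hb1 ha1 hab.symm hb2 hc.symm hbx g hgb with hg | hg | hg | hg
      · exact Or.inl hg
      · exact Or.inr (Or.inr (Or.inl hg))
      · exact Or.inr (Or.inl hg)
      · exact Or.inr (Or.inr (Or.inr (by rw [hg, hc])))
  · exact key a b ha1 hb1 hab ha2 hc hax g hga

theorem kleinSC_of_equiv {X Y : Type*} [Group X] [Group Y] (e : X ≃* Y) (hY : KleinSC Y) :
    KleinSC X := by
  intro a b ha1 hb1 hab ha2 hb2 hc g hga hgb
  have := hY (e a) (e b) (by simpa using ha1) (by simpa using hb1) (by simpa using hab)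
    (by rw [← map_mul, ha2, map_one]) (by rw [← map_mul, hb2, map_one])
    (by rw [← map_mul, hc, map_mul]) (e g) (by rw [← map_mul, hga, map_mul])
    (by rw [← map_mul, hgb, map_mul])
  rcases this with h | h | h | h
  · exact Or.inl (by simpa using h)
  · exact Or.inr (Or.inl (e.injective h))
  · exact Or.inr (Or.inr (Or.inl (e.injective h)))
  · exact Or.inr (Or.inr (Or.inr (e.injective (by rw [h, map_mul]))))

/-- Let R be a finite group, t a central involution of R such that R ⧸ ⟨t⟩ is dihedral (of order ≥ 4) or quasi-dihedral, and A ≤ R an elementary abelian subgroup of order 8 containing t. Then C_R(A) = A. -/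
theorem result {R : Type*} [Group R] [Finite R] (t : R) (ht : orderOf t = 2) (htz : t ∈ Subgroup.center R) [(Subgroup.zpowers t).Normal] (hq : (∃ m : ℕ, 2 ≤ m ∧ Nonempty (R ⧸ Subgroup.zpowers t ≃* DihedralGroup m)) ∨ Cfsg.IsQuasiDihedral (R ⧸ Subgroup.zpowers t)) (A : Subgroup R) (hA : Cfsg.IsElementaryAbelian 2 A) (hA8 : Nat.card A = 8) (htA : t ∈ A) : Subgroup.centralizer (A : Set R) = A := by
  classical
  have hSC : KleinSC (R ⧸ Subgroup.zpowers t) := by
    rcases hq with ⟨m, hm, ⟨e⟩⟩ | hq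
    · have : NeZero m := ⟨by omega⟩
      exact kleinSC_of_equiv e dihedral_kleinSC
    · exact qd_kleinSC hq
  obtain ⟨hAc, hA2⟩ := hA
  have hcomm : ∀ x ∈ A, ∀ y ∈ A, x * y = y * x := by
    intro x hx y hy
    have := hAc.is_comm.comm (⟨x, hx⟩ : A) ⟨y, hy⟩
    exact congrArg Subtype.val this
  have hsq : ∀ x ∈ A, x * x = 1 := fun x hx => by rw [← pow_two]; exact hA2 x hx
  have hzt : ∀ x : R, x ∈ Subgroup.zpowers t ↔ x = 1 ∨ x = t := by
    intro x
    constructor
    · exact Cfsg.Agent.Lib.Helper18.eq_one_or_eq_of_mem_zpowers_of_orderOf_two t x ht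
    · rintro (rfl | rfl)
      · exact Subgroup.one_mem _
      · exact Subgroup.mem_zpowers _
  have htle : Subgroup.zpowers t ≤ A := by
    rw [Subgroup.zpowers_le]; exact htA
  have hAn : (A : Set R).ncard = 8 := by
    rw [← Nat.card_coe_set_eq]; exact hA8
  -- pick `a₀ ∈ A` outside `{1, t}`
  obtain ⟨a₀, ha₀A, ha₀⟩ : ∃ e, e ∈ (A : Set R) ∧ e ∉ ({1, t} : Set R) := by
    apply Set.exists_mem_notMem_of_ncard_lt_ncard _ (Set.toFinite _)
    have : ({1, t} : Set R).ncard ≤ 2 := by
      have e1 := Set.ncard_insert_le (1 : R) ({t} : Set R)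
      rw [Set.ncard_singleton] at e1
      exact e1
    omega
  obtain ⟨b₀, hb₀A, hb₀⟩ : ∃ e, e ∈ (A : Set R) ∧ e ∉ ({1, t, a₀, a₀ * t} : Set R) := by
    apply Set.exists_mem_notMem_of_ncard_lt_ncard _ (Set.toFinite _)
    have h1 : ({1, t, a₀, a₀ * t} : Set R).ncard ≤ 4 := by
      have e1 := Set.ncard_insert_le (1 : R) ({t, a₀, a₀ * t} : Set R)
      have e2 := Set.ncard_insert_le t ({a₀, a₀ * t} : Set R)
      have e3 := Set.ncard_insert_le a₀ ({a₀ * t} : Set R)
      rw [Set.ncard_singleton] at e3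
      omega
    omega
  simp only [Set.mem_insert_iff, Set.mem_singleton_iff, not_or] at ha₀ hb₀
  set π := QuotientGroup.mk' (Subgroup.zpowers t) with hπ
  have hker : ∀ x : R, π x = 1 ↔ x = 1 ∨ x = t := by
    intro x
    rw [hπ, QuotientGroup.mk'_apply, QuotientGroup.eq_one_iff, hzt]
  have hπeq : ∀ x y : R, π x = π y → y = x ∨ y = x * t := by
    intro x y h
    have : π (x⁻¹ * y) = 1 := by rw [map_mul, map_inv, h, inv_mul_cancel]
    rcases (hker _).mp this with h1 | h1
    · left
      calc y = x * (x⁻¹ * y) := by group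
        _ = x := by rw [h1, mul_one]
    · right
      calc y = x * (x⁻¹ * y) := by group
        _ = x * t := by rw [h1]
  ext g
  constructor
  · intro hg
    rw [Subgroup.mem_centralizer_iff] at hg
    have hga : g * a₀ = a₀ * g := (hg a₀ ha₀A).symm
    have hgb : g * b₀ = b₀ * g := (hg b₀ hb₀A).symm
    have hres := hSC (π a₀) (π b₀)
      (fun h => by rcases (hker _).mp h with h | h; exact ha₀.1 h; exact ha₀.2 h)
      (fun h => by rcases (hker _).mp h with h | h; exact hb₀.1 h; exact hb₀.2.1 h)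
      (fun h => by rcases hπeq _ _ h with h | h; exact hb₀.2.2.1 h; exact hb₀.2.2.2 h)
      (by rw [← map_mul, hsq a₀ ha₀A, map_one]) (by rw [← map_mul, hsq b₀ hb₀A, map_one])
      (by rw [← map_mul, hcomm a₀ ha₀A b₀ hb₀A, map_mul]) (π g)
      (by rw [← map_mul, hga, map_mul]) (by rw [← map_mul, hgb, map_mul])
    have hfin : ∀ c ∈ A, π g = π c → g ∈ A := by
      intro c hc h
      rcases hπeq c g h.symm with h | h
      · rw [h]; exact hc
      · rw [h]; exact Subgroup.mul_mem _ hc htA
    rcases hres with h | h | h | h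
    · exact hfin 1 (Subgroup.one_mem _) (by rw [h, map_one])
    · exact hfin a₀ ha₀A h
    · exact hfin b₀ hb₀A h
    · exact hfin (a₀ * b₀) (Subgroup.mul_mem _ ha₀A hb₀A) (by rw [h, map_mul])
  · intro hg
    rw [Subgroup.mem_centralizer_iff]
    intro x hx
    exact hcomm x hx g hg

end Cfsg.Agent.S1236
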