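-- S1237: 2-group of 2-rank 2 with an automorphism whose powers permute the involutions
-- transitively: homocyclic of rank 2 or Sylow 2-subgroup of PSU(3,4).
-- Proof: involutions central, exactly three; the 3-part rho of phi is fixed-point-free with
-- rho^3 = 1 (helper20 Rank2Fpf); class <= 2 (helper20 OrdFour), quadratic-map bound (helper20 QuadCW)
-- => abelian or order 64; then Lib/Helper6/TR (special group of order 64) + helper18 SU3Sylow.
import Mathlib
import Cfsg.Statements.S1237
import Cfsg.Agent.Lib.Helper6.Inv3E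

set_option autoImplicit false
open Cfsg

namespace Cfsg.Agent.S1237

/-- Let T be a finite 2-group of 2-rank exactly 2 (it has a Klein four-subgroup but no elementary abelian subgroup of order 8) admitting an automorphism φ such that any two involutions of T are carried to one another by a power of φ. Then T ≅ Z_{2^n} × Z_{2^n} for some n ≥ 1, or T is isomorphic to a Sylow 2-subgroup of PSU(3) over the field with 16 elements. -/
theorem result {T : Type*} [Group T] [Finite T] (hT : IsPGroup 2 T) (h2 : Cfsg.PRankLE 2 2 T) (h1 : ¬ Cfsg.PRankLE 2 1 T) (φ : MulAut T) (htrans : ∀ s t : T, orderOf s = 2 → orderOf t = 2 → ∃ k : ℕ, (φ ^ k) s = t) {F : Type*} [Field F] [Fintype F] (hF : Fintype.card F = 16) (P : Sylow 2 (Cfsg.PSU 3 F 4)) : (∃ n : ℕ, 1 ≤ n ∧ Nonempty (T ≃* Multiplicative (ZMod (2 ^ n) × ZMod (2 ^ n)))) ∨ Nonempty (T ≃* (P : Subgroup (Cfsg.PSU 3 F 4))) := by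
  obtain ⟨⟨ρ, hρ⟩, hne⟩ := Cfsg.Agent.Lib.Helper6.Inv3.exists_H3 hT h2 h1 φ htrans
  exact hρ.classification hne hF P

end Cfsg.Agent.S1237
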