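import Cfsg.Statements.S1239
-- import your own Cfsg.Agent.* helpers here
import Mathlib
import Cfsg.Agent.Lib.Helper18.IsoCenter
import Cfsg.Agent.Lib.Helper18.ZStar
import Cfsg.Agent.Lib.Helper18.WrCentralizer
import Cfsg.Agent.Lib.Helper18.QDCentralizer
import Cfsg.Agent.Lib.Helper18.WrNilpotentCase
import Cfsg.Agent.Lib.Helper18.WrQuatCase

set_option autoImplicit false
open Cfsg

namespace Cfsg.Agent.S1239

/-- Let X be a finite group whose Sylow 2-subgroup S is quasi-dihedral or wreathed, and suppose some involution of S is isolated in X. Then the product of the largest normal odd-order subgroup O(X) with the centre of S is normal in X. -/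
theorem result {X : Type*} [Group X] [Finite X] (S : Sylow 2 X) (hS : Cfsg.IsQuasiDihedral (S : Subgroup X) ∨ Cfsg.IsWreathed (S : Subgroup X)) (z : X) (hzS : z ∈ S) (hz : Cfsg.IsIsolatedInvolution z) : (Cfsg.oddCore X ⊔ (Subgroup.center (S : Subgroup X)).map (S : Subgroup X).subtype).Normal := by
  classical
  have : Fact (Nat.Prime 2) := ⟨Nat.prime_two⟩
  apply Cfsg.Agent.Lib.Helper18.IsoCenter.normal_oddCore_sup_center S
  have hzz : z * z = 1 := by rw [← pow_two, ← hz.1]; exact pow_orderOf_eq_one z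
  have hz1 : z ≠ 1 := by
    intro h; have := hz.1; rw [h, orderOf_one] at this; omega
  have hIso : Cfsg.Agent.Lib.Helper18.ZStar.IsIso z := fun g hg => hz.2 g hg.symm
  have hzc : ∀ s ∈ S, s * z = z * s := fun s hs =>
    (hIso.commute_of_mem_pgroup hzz (S : Subgroup X) S.2 hzS s hs).eq
  have hziso : Cfsg.Agent.Lib.Helper26.IsolatedIn (S : Subgroup X) z := by
    refine ⟨hzS, fun g hg => hz.2 g ?_⟩
    exact (hzc _ hg).symm
  have hzcen : (⟨z, hzS⟩ : ↥(S : Subgroup X)) ∈ Subgroup.center ↥(S : Subgroup X) := by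
    rw [Subgroup.mem_center_iff]
    intro s
    exact Subtype.ext (hzc s s.2)
  have hzord : orderOf (⟨z, hzS⟩ : ↥(S : Subgroup X)) = 2 := by
    rw [Subgroup.orderOf_mk]; exact hz.1
  intro c hc
  rw [Cfsg.Agent.Lib.Helper18.mem_map_center_iff] at hc
  obtain ⟨hcS, hcc⟩ := hc
  rcases hS with hQD | hWr
  · -- quasi-dihedral: `Z(S) = {1, z}`
    obtain ⟨m, x, y, h⟩ := Cfsg.Agent.Lib.Helper18.exists_isQD hQD
    have hcen := h.center_eq
    have h1 : (⟨z, hzS⟩ : ↥(S : Subgroup X)) = x ^ (2 ^ (m + 2)) := by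
      have h2 : (⟨z, hzS⟩ : ↥(S : Subgroup X)) ∈ Subgroup.zpowers (x ^ (2 ^ (m + 2))) := by
        rw [← hcen]; exact hzcen
      rcases Cfsg.Agent.Lib.Helper18.eq_one_or_eq_of_mem_zpowers_of_orderOf_two _ _ h.z_orderOf h2
        with h3 | h3
      · exact absurd (congrArg Subtype.val h3) hz1
      · exact h3
    have h2 : (⟨c, hcS⟩ : ↥(S : Subgroup X)) ∈ Subgroup.zpowers (x ^ (2 ^ (m + 2))) := by
      rw [← hcen, Subgroup.mem_center_iff]
      intro s
      exact Subtype.ext (hcc s s.2)
    rcases Cfsg.Agent.Lib.Helper18.eq_one_or_eq_of_mem_zpowers_of_orderOf_two _ _ h.z_orderOf h2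
      with h3 | h3
    · have : c = 1 := congrArg Subtype.val h3
      rw [this]; exact Cfsg.Agent.Lib.Helper26.IsolatedIn.one _
    · have : c = z := by
        rw [← h1] at h3
        exact congrArg Subtype.val h3
      rw [this]; exact hziso
  · -- wreathed
    obtain ⟨m, x, y, w, h⟩ := Cfsg.Agent.Lib.Helper18.exists_isWr hWr
    have hzc0 : z = (x : X) ^ (2 ^ (m + 1)) * (y : X) ^ (2 ^ (m + 1)) := by
      have := h.central_involution ⟨z, hzS⟩ hzord hzcen
      have h2 := congrArg Subtype.val this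
      simpa using h2
    -- `|N(U) : C(U)| = 2`
    have h₁ : (Subgroup.centralizer (h.baseG : Set X)).relIndex
        (Subgroup.normalizer (h.baseG : Set X)) = 2 := by
      rcases h.relIndex_baseG with h2 | h6
      · exact h2
      · exfalso
        obtain ⟨d, -, -, hd | hd⟩ := h.exists_odd_conj_center (by rw [h6]; norm_num)
        · rw [← hzc0] at hd
          have hu : (x : X) ^ (2 ^ (m + 1)) ∈ (S : Subgroup X) := h.baseG_le h.u_mem_baseG
          have := hziso.2 d (by rw [hd]; exact hu)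
          rw [hd, hzc0] at this
          exact h.u'_ne_one_val (left_eq_mul.mp this)
        · rw [← hzc0] at hd
          have hu : (y : X) ^ (2 ^ (m + 1)) ∈ (S : Subgroup X) := h.baseG_le h.u'_mem_baseG
          have := hziso.2 d (by rw [hd]; exact hu)
          rw [hd, hzc0] at this
          exact h.u_ne_one_val (right_eq_mul.mp this)
    obtain ⟨Q, ⟨eQ⟩, hQV⟩ := h.exists_quaternion_val
    rcases h.relIndex_VG Q eQ hQV with h2 | h6
    · -- normal `2`-complement
      have hnf : ∀ t ∈ h.baseG, ¬ IsConj (w : X) t := fun t ht =>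
        h.not_isConj_z_of_mem_baseG Q eQ hQV
          (fun t ht => Cfsg.Agent.Lib.Helper18.sq_mem_of_relIndex_two _ _ h2 t ht) t ht
      obtain ⟨hcompl, -⟩ := h.nilpotent_case h₁ hnf
      exact Cfsg.Agent.Lib.Helper18.IsoCenter.isolatedIn_of_normalComplement S hcompl c hcS hcc
    · -- quaternion case: subgroups of `Z(S)` are weakly closed
      obtain ⟨-, hwc, -⟩ := h.quat_case h₁ (by rw [h6]; norm_num)
      apply Cfsg.Agent.Lib.Helper18.IsoCenter.isolatedIn_of_weaklyClosed S c hcS hcc
      apply hwc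
      rw [Subgroup.zpowers_le, Cfsg.Agent.Lib.Helper18.mem_map_center_iff]
      exact ⟨hcS, hcc⟩

end Cfsg.Agent.S1239
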