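import Cfsg.Statements.S1243
import Cfsg.Agent.Lib.Helper8.Fusion

set_option autoImplicit false
open Cfsg

namespace Cfsg.Agent.S1243

/-- Let T be a Sylow p-subgroup of the finite group G and W ≤ T a subgroup weakly closed in T. If d and g d g⁻¹ both centralize W, then g d g⁻¹ = h d h⁻¹ for some h ∈ N_G(W). -/
theorem result {G : Type*} [Group G] [Finite G] {p : ℕ} [Fact p.Prime] (T : Sylow p G) (W : Subgroup G) (hW : Cfsg.IsWeaklyClosed W (T : Subgroup G)) (d g : G) (hd : d ∈ Subgroup.centralizer (W : Set G)) (hgd : g * d * g⁻¹ ∈ Subgroup.centralizer (W : Set G)) : ∃ h ∈ Subgroup.normalizer (W : Set G), h * d * h⁻¹ = g * d * g⁻¹ := by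
  open Cfsg.Agent.Lib.Helper8 in
  obtain ⟨hWT, hwc⟩ := hW
  have hWp : IsPGroup p W := T.2.to_le hWT
  set W' := W.map (MulAut.conj g⁻¹).toMonoidHom with hW'
  have hW'p : IsPGroup p W' := hWp.map _
  have hWC : W ≤ Subgroup.centralizer ({d} : Set G) := by
    intro w hw
    rw [Subgroup.mem_centralizer_singleton_iff]
    rw [Subgroup.mem_centralizer_iff] at hd
    exact hd w hw
  have hW'C : W' ≤ Subgroup.centralizer ({d} : Set G) := by
    intro x hx
    rw [mem_map_conj, inv_inv] at hx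
    rw [Subgroup.mem_centralizer_singleton_iff]
    rw [Subgroup.mem_centralizer_iff] at hgd
    have h1 := hgd _ hx
    -- g x g⁻¹ * (g d g⁻¹) = g d g⁻¹ * (g x g⁻¹)
    have h2 : g * (x * d) * g⁻¹ = g * (d * x) * g⁻¹ := by
      calc g * (x * d) * g⁻¹ = (g * x * g⁻¹) * (g * d * g⁻¹) := by group
        _ = (g * d * g⁻¹) * (g * x * g⁻¹) := h1
        _ = g * (d * x) * g⁻¹ := by group
    exact mul_left_cancel (mul_right_cancel h2)
  obtain ⟨c, hc, hP⟩ := exists_conj_sup_isPGroup (Subgroup.centralizer ({d} : Set G)) hWp hW'p hWC hW'C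
  obtain ⟨k, hk⟩ := exists_conj_le_sylow T hP
  rw [Subgroup.map_sup] at hk
  have h1 : W.map (MulAut.conj k).toMonoidHom ≤ T := le_sup_left.trans hk
  have h2 : (W'.map (MulAut.conj c).toMonoidHom).map (MulAut.conj k).toMonoidHom ≤ T :=
    le_sup_right.trans hk
  rw [hW', map_conj_map_conj, map_conj_map_conj] at h2
  have h3 := hwc _ h1
  have h4 := hwc _ h2
  have h4' := h4.trans h3.symm
  have h5 := congrArg (fun X => Subgroup.map (MulAut.conj k⁻¹).toMonoidHom X) h4'
  simp only [map_conj_map_conj] at h5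
  have e1 : k⁻¹ * (k * c * g⁻¹) = c * g⁻¹ := by group
  rw [e1, inv_mul_cancel, map_conj_one] at h5
  have h6 : c * g⁻¹ ∈ Subgroup.normalizer (W : Set G) := mem_normalizer_iff_map_conj.mpr h5
  refine ⟨(c * g⁻¹)⁻¹, Subgroup.inv_mem _ h6, ?_⟩
  rw [Subgroup.mem_centralizer_singleton_iff] at hc
  have h7 : c⁻¹ * d * c = d := by
    calc c⁻¹ * d * c = c⁻¹ * (d * c) := by group
      _ = c⁻¹ * (c * d) := by rw [hc]
      _ = d := by group
  calc (c * g⁻¹)⁻¹ * d * (c * g⁻¹)⁻¹⁻¹ = g * (c⁻¹ * d * c) * g⁻¹ := by group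
    _ = g * d * g⁻¹ := by rw [h7]

end Cfsg.Agent.S1243
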