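import Cfsg.Statements.S1244
import Cfsg.Agent.Lib.Helper8.TransferMod

set_option autoImplicit false
open Cfsg

namespace Cfsg.Agent.S1244

/-- Let G be a finite group with no subgroup of index 2 whose Sylow 2-subgroup S is commutative, and let R ≤ S be a subgroup whose 2-rank is exactly one less than the 2-rank r of S. Then every involution of S is conjugate, by an element of N_G(S), to an element of R. -/
theorem result {G : Type*} [Group G] [Finite G] (hG : ∀ H : Subgroup G, H.index ≠ 2) (S : Sylow 2 G) (hS : IsMulCommutative (S : Subgroup G)) (r : ℕ) (hr1 : 1 ≤ r) (hSr : Cfsg.PRankLE 2 r (S : Subgroup G) ∧ ¬ Cfsg.PRankLE 2 (r - 1) (S : Subgroup G)) (R : Subgroup G) (hRS : R ≤ S) (hRr : Cfsg.PRankLE 2 (r - 1) R ∧ (r = 1 ∨ ¬ Cfsg.PRankLE 2 (r - 2) R)) (t : G) (ht : orderOf t = 2) (htS : t ∈ S) : ∃ n ∈ Subgroup.normalizer ((S : Subgroup G) : Set G), n * t * n⁻¹ ∈ R := by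
  open Cfsg.Agent.Lib.Helper8 in
  open scoped IsMulCommutative in
  classical
  have : IsMulCommutative (S : Subgroup G) := hS
  by_contra hcon
  push Not at hcon
  have ht2 : t ^ 2 = 1 := by rw [← ht]; exact pow_orderOf_eq_one t
  have htR : t ∉ R := by
    have := hcon 1 (Subgroup.one_mem _)
    simpa using this
  -- the subgroup W' = Ω₁(S) ∩ R of S
  let W' : Subgroup (S : Subgroup G) :=
    { carrier := {s | s ^ 2 = 1 ∧ (s : G) ∈ R}
      one_mem' := ⟨one_pow 2, R.one_mem⟩
      mul_mem' := by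
        rintro a b ⟨ha, ha'⟩ ⟨hb, hb'⟩
        refine ⟨?_, R.mul_mem ha' hb'⟩
        rw [mul_pow, ha, hb, one_mul]
      inv_mem' := by
        rintro a ⟨ha, ha'⟩
        exact ⟨by rw [inv_pow, ha, inv_one], R.inv_mem ha'⟩ }
  let V' : Subgroup (S : Subgroup G) :=
    { carrier := {s | s ^ 2 = 1}
      one_mem' := one_pow 2
      mul_mem' := by
        intro a b ha hb
        show (a * b) ^ 2 = 1
        rw [mul_pow, ha, hb, one_mul]
      inv_mem' := by
        intro a ha
        show a⁻¹ ^ 2 = 1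
        rw [inv_pow, ha, inv_one] }
  have hWV : W' ≤ V' := fun s hs => hs.1
  have hmemW : ∀ s : (S : Subgroup G), s ∈ W' ↔ s ^ 2 = 1 ∧ (s : G) ∈ R := fun s => Iff.rfl
  have hmemV : ∀ s : (S : Subgroup G), s ∈ V' ↔ s ^ 2 = 1 := fun s => Iff.rfl
  -- cardinalities
  have hV : Nat.card V' ≤ 2 ^ r := hSr.1 V' inferInstance (fun a ha => ha)
  have hW : 2 ^ (r - 1) ≤ Nat.card W' := by
    rcases hRr.2 with h1 | h2
    · rw [h1]; exact Nat.card_pos (α := W')
    · unfold Cfsg.PRankLE at h2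
      push Not at h2
      obtain ⟨A, hAc, hA2, hAcard⟩ := h2
      have hAp : IsPGroup 2 A := by
        intro a
        refine ⟨1, ?_⟩
        rw [pow_one]
        exact Subtype.ext (hA2 a.1 a.2)
      obtain ⟨j, hj⟩ := hAp.exists_card_eq
      rw [hj] at hAcard
      have hlt : r - 2 < j := (Nat.pow_lt_pow_iff_right (by norm_num)).mp hAcard
      have hle : r - 1 ≤ j := by omega
      have h1 : 2 ^ (r - 1) ≤ Nat.card A := by
        rw [hj]; exact Nat.pow_le_pow_right (by norm_num) hle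
      have h2 : Nat.card A ≤ Nat.card W' := by
        refine Nat.card_le_card_of_injective
          (fun a : A => (⟨⟨((a : R) : G), hRS (a : R).2⟩, ?_, (a : R).2⟩ : W')) ?_
        · have := hA2 a.1 a.2
          apply Subtype.ext
          have h3 := congrArg (fun z : R => (z : G)) this
          simpa using h3
        · intro a b hab
          have h3 := congrArg (fun z : W' => ((z : (S : Subgroup G)) : G)) hab
          exact Subtype.ext (Subtype.ext h3)
      exact h1.trans h2
  have hcardVW : Nat.card V' ≤ 2 * Nat.card W' := by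
    have : 2 ^ r = 2 * 2 ^ (r - 1) := by
      rw [← pow_succ']; congr 1; omega
    calc Nat.card V' ≤ 2 ^ r := hV
      _ = 2 * 2 ^ (r - 1) := this
      _ ≤ 2 * Nat.card W' := Nat.mul_le_mul_left 2 hW
  -- index two property
  have hidx : ∀ u v : (S : Subgroup G), u ^ 2 = 1 → v ^ 2 = 1 → (u : G) ∉ R → (v : G) ∉ R →
      u⁻¹ * v ∈ W' := by
    intro u v hu hv huR hvR
    have hcW : Nat.card (W'.subgroupOf V') = Nat.card W' :=
      Nat.card_congr (Subgroup.subgroupOfEquivOfLe hWV).toEquiv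
    have hci := (W'.subgroupOf V').card_mul_index
    have hpos : 0 < Nat.card (W'.subgroupOf V') := Nat.card_pos
    have hile : (W'.subgroupOf V').index ≤ 2 := by
      have : Nat.card (W'.subgroupOf V') * (W'.subgroupOf V').index ≤
          Nat.card (W'.subgroupOf V') * 2 := by
        rw [hci, hcW, mul_comm]; exact hcardVW
      exact Nat.le_of_mul_le_mul_left this hpos
    have hine0 : (W'.subgroupOf V').index ≠ 0 := Subgroup.index_ne_zero_of_finite
    have huV : u ∈ V' := hu
    have hvV : v ∈ V' := hv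
    have hine1 : (W'.subgroupOf V').index ≠ 1 := by
      intro h
      rw [Subgroup.index_eq_one] at h
      have : (⟨u, huV⟩ : V') ∈ W'.subgroupOf V' := by rw [h]; exact Subgroup.mem_top _
      rw [Subgroup.mem_subgroupOf] at this
      exact huR this.2
    have hi2 : (W'.subgroupOf V').index = 2 := by omega
    have key := Subgroup.mul_mem_iff_of_index_two hi2 (a := (⟨u, huV⟩ : V')⁻¹) (b := ⟨v, hvV⟩)
    have ha : (⟨u, huV⟩ : V')⁻¹ ∉ W'.subgroupOf V' := by
      intro h
      have := (W'.subgroupOf V').inv_mem h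
      rw [inv_inv, Subgroup.mem_subgroupOf] at this
      exact huR this.2
    have hb : (⟨v, hvV⟩ : V') ∉ W'.subgroupOf V' := by
      intro h
      rw [Subgroup.mem_subgroupOf] at h
      exact hvR h.2
    have := key.mpr (iff_of_false ha hb)
    rw [Subgroup.mem_subgroupOf] at this
    exact this
  -- the homomorphism S → S/W'
  let ϕ : (S : Subgroup G) →* ((S : Subgroup G) ⧸ W') := QuotientGroup.mk' W'
  have hϕt : ϕ ⟨t, htS⟩ ≠ 1 := by
    intro h
    have : (⟨t, htS⟩ : (S : Subgroup G)) ∈ W' := (QuotientGroup.eq_one_iff _).mp h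
    exact htR this.2
  have hϕt2 : ϕ ⟨t, htS⟩ ^ 2 = 1 := by
    rw [← map_pow]
    have : (⟨t, htS⟩ : (S : Subgroup G)) ^ 2 = 1 := Subtype.ext ht2
    rw [this, map_one]
  have hpowodd : ∀ j : ℕ, ϕ ⟨t, htS⟩ ^ (2 * j + 1) = ϕ ⟨t, htS⟩ := by
    intro j
    rw [pow_succ, pow_mul, hϕt2, one_pow, one_mul]
  have htr : MonoidHom.transfer ϕ t = ϕ ⟨t, htS⟩ ^ (S : Subgroup G).index := by
    apply transfer_eq_pow_mod ϕ t htS
    intro k g₀ hk
    rcases Nat.even_or_odd' k with ⟨j, rfl | rfl⟩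
    · have h1 : t ^ (2 * j) = 1 := by rw [pow_mul, ht2, one_pow]
      have h2 : (⟨g₀⁻¹ * t ^ (2 * j) * g₀, hk⟩ : (S : Subgroup G)) = 1 := by
        apply Subtype.ext
        show g₀⁻¹ * t ^ (2 * j) * g₀ = 1
        rw [h1]; group
      rw [h2, map_one, pow_mul, hϕt2, one_pow]
    · have h1 : t ^ (2 * j + 1) = t := by rw [pow_succ, pow_mul, ht2, one_pow, one_mul]
      rw [hpowodd]
      have hk' : g₀⁻¹ * t * g₀ ∈ (S : Subgroup G) := by rw [← h1]; exact hk
      obtain ⟨n, hn, hyn⟩ := S.conj_eq_normalizer_conj_of_mem t g₀ htS hk'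
      have hyR : g₀⁻¹ * t * g₀ ∉ R := by
        rw [hyn]
        have := hcon n⁻¹ (Subgroup.inv_mem _ hn)
        rwa [inv_inv] at this
      have hy2 : (⟨g₀⁻¹ * t ^ (2 * j + 1) * g₀, hk⟩ : (S : Subgroup G)) ^ 2 = 1 := by
        apply Subtype.ext
        show (g₀⁻¹ * t ^ (2 * j + 1) * g₀) ^ 2 = 1
        rw [h1]
        have : (g₀⁻¹ * t * g₀) ^ 2 = g₀⁻¹ * t ^ 2 * g₀ := by rw [pow_two, pow_two]; group
        rw [this, ht2]; group
      have hyR' : ((⟨g₀⁻¹ * t ^ (2 * j + 1) * g₀, hk⟩ : (S : Subgroup G)) : G) ∉ R := by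
        show g₀⁻¹ * t ^ (2 * j + 1) * g₀ ∉ R
        rw [h1]; exact hyR
      have := hidx _ ⟨t, htS⟩ hy2 (Subtype.ext ht2) hyR' htR
      exact QuotientGroup.eq.mpr this
  have hodd : ¬ 2 ∣ (S : Subgroup G).index := S.not_dvd_index
  have htr1 : MonoidHom.transfer ϕ t ≠ 1 := by
    rw [htr]
    obtain ⟨m, hm⟩ := Nat.odd_iff.mpr (Nat.two_dvd_ne_zero.mp hodd)
    rw [hm, hpowodd]
    exact hϕt
  -- a nontrivial homomorphism to a 2-group yields a subgroup of index 2
  set τ := MonoidHom.transfer ϕ with hτ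
  have hAp : IsPGroup 2 ((S : Subgroup G) ⧸ W') := S.2.to_quotient W'
  have hQp : IsPGroup 2 τ.range := hAp.to_subgroup _
  obtain ⟨j, hj⟩ := hQp.exists_card_eq
  have hj0 : j ≠ 0 := by
    intro h
    rw [h, pow_zero] at hj
    have hsub : Subsingleton τ.range := (Nat.card_eq_one_iff_unique.mp hj).1
    have : (⟨τ t, t, rfl⟩ : τ.range) = 1 := Subsingleton.elim _ _
    exact htr1 (congrArg Subtype.val this)
  obtain ⟨K, hK⟩ := Sylow.exists_subgroup_card_pow_prime (G := τ.range) 2 (n := j - 1)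
    (by rw [hj]; exact pow_dvd_pow 2 (by omega))
  have hKi : K.index = 2 := by
    have h1 := K.card_mul_index
    rw [hK, hj] at h1
    have h2 : (2 : ℕ) ^ j = 2 ^ (j - 1) * 2 := by
      rw [← pow_succ]; congr 1; omega
    rw [h2] at h1
    exact Nat.eq_of_mul_eq_mul_left (by positivity) h1
  have := Subgroup.index_comap_of_surjective K τ.rangeRestrict_surjective
  exact hG _ (this.trans hKi)

end Cfsg.Agent.S1244
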