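import Cfsg.Statements.S1246
import Cfsg.Agent.Lib.Helper9.NormalizerChain2
import Cfsg.Agent.Lib.Helper9.FStar2
import Cfsg.Agent.Lib.Helper9.Standard
import Cfsg.Agent.Lib.Helper17.Basic
import Cfsg.Agent.Lib.Helper8.Conj
import Cfsg.Agent.Lib.Helper8.SupNormalizer

set_option autoImplicit false
open Cfsg

namespace Cfsg.Agent.S1246

open Cfsg.Agent.Lib.Helper9 Cfsg.Agent.Lib.Helper8
open scoped commutatorElement

section
variable {G : Type*} [Group G]

/-- `O_p(H)` (in `G`) is normal in `H`. -/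
theorem le_normalizer_pCoreIn [Finite G] (p : ℕ) (H : Subgroup G) :
    H ≤ Subgroup.normalizer (pCoreIn p H : Set G) := by
  intro h hh
  apply Cfsg.Agent.Lib.Helper1.mem_normalizer_of_forall_conj_mem
  rintro _ ⟨q, hq, rfl⟩
  have hn := Cfsg.Agent.Lib.Helper1.pCore_normal p ↥H
  exact ⟨(⟨h, hh⟩ : H) * q * (⟨h, hh⟩ : H)⁻¹, hn.conj_mem q hq ⟨h, hh⟩, rfl⟩

theorem pCoreIn_isPGroup [Finite G] (p : ℕ) [Fact p.Prime] (H : Subgroup G) :
    IsPGroup p ↥(pCoreIn p H) :=
  (Cfsg.Agent.Lib.Helper1.pCore_isPGroup p ↥H).map _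

/-- `N_G(H)` normalizes `O_p(H)`. -/
theorem normalizer_le_normalizer_pCoreIn [Finite G] (p : ℕ) [Fact p.Prime] (H : Subgroup G) :
    Subgroup.normalizer (H : Set G) ≤ Subgroup.normalizer (pCoreIn p H : Set G) := by
  intro g hg
  rw [mem_normalizer_iff_map_conj]
  apply map_conj_eq_of_le
  have hgH : ∀ x, x ∈ H ↔ g * x * g⁻¹ ∈ H := fun x => Subgroup.mem_normalizer_iff.mp hg x
  have hgH' : ∀ x, x ∈ H ↔ g⁻¹ * x * g ∈ H := by
    intro x
    have := Subgroup.mem_normalizer_iff.mp (Subgroup.inv_mem _ hg) x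
    rwa [inv_inv] at this
  apply le_pCoreIn
  · intro x hx
    rw [mem_map_conj] at hx
    exact (hgH' x).mpr (pCoreIn_le p H hx)
  · intro h hh
    apply Cfsg.Agent.Lib.Helper1.mem_normalizer_of_forall_conj_mem
    intro x hx
    rw [mem_map_conj] at hx ⊢
    have h1 : g⁻¹ * h * g ∈ H := (hgH' h).mp hh
    have h2 := le_normalizer_pCoreIn p H h1
    have h3 := (Subgroup.mem_normalizer_iff.mp h2 (g⁻¹ * x * g)).mp hx
    have : g⁻¹ * (h * x * h⁻¹) * g = g⁻¹ * h * g * (g⁻¹ * x * g) * (g⁻¹ * h * g)⁻¹ := by group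
    rw [this]; exact h3
  · exact (pCoreIn_isPGroup p H).map _

/-- Key step: `D ≤ C_G(U)` `p`-stable centralizing `O_p(C_G(U))` centralizes `O_p(C_G(V))`
for `V ⊴ U`. -/
theorem key_step [Finite G] {p : ℕ} [Fact p.Prime] {U V D : Subgroup G} (hU : IsPGroup p ↥U)
    (hVU : V ≤ U) (hUN : U ≤ Subgroup.normalizer (V : Set G))
    (hDX : D ≤ Subgroup.centralizer (U : Set G))
    (hcent : ⁅pCoreIn p (Subgroup.centralizer (U : Set G)), D⁆ = ⊥) (hstar : PStable p D) :
    ⁅pCoreIn p (Subgroup.centralizer (V : Set G)), D⁆ = ⊥ := by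
  set H := Subgroup.centralizer (V : Set G) with hH
  set X := Subgroup.centralizer (U : Set G) with hX
  set Q := pCoreIn p H with hQ
  have hXH : X ≤ H := Subgroup.centralizer_le hVU
  have hQp : IsPGroup p ↥Q := pCoreIn_isPGroup p H
  -- U normalizes H and Q
  have hUH : U ≤ Subgroup.normalizer (H : Set G) :=
    hUN.trans (normalizer_le_normalizer_centralizer V)
  have hUQ : U ≤ Subgroup.normalizer (Q : Set G) :=
    hUH.trans (normalizer_le_normalizer_pCoreIn p H)
  have hHQ : H ≤ Subgroup.normalizer (Q : Set G) := le_normalizer_pCoreIn p H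
  have hQU : IsPGroup p ↥(Q ⊔ U) := by
    have : IsPGroup p ↥(U ⊔ Q) := IsPGroup.to_sup_of_normal_right' hU hQp hUQ
    rwa [sup_comm] at this
  have hDU : D ≤ Subgroup.normalizer (U : Set G) :=
    hDX.trans (Subgroup.centralizer_le_normalizer _)
  have hDQ : D ≤ Subgroup.normalizer (Q : Set G) := (hDX.trans hXH).trans hHQ
  have hDQU : D ≤ Subgroup.normalizer ((Q ⊔ U : Subgroup G) : Set G) := by
    intro d hd
    exact mem_normalizer_sup (hDQ hd) (hDU hd)
  -- D centralizes N_Q(U)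
  have hDcentU : ⁅U, D⁆ = ⊥ := by
    rw [Subgroup.commutator_comm, Subgroup.commutator_eq_bot_iff_le_centralizer]
    exact hDX
  have hNQ : ⁅Q ⊓ Subgroup.normalizer (U : Set G), D⁆ = ⊥ := by
    apply hstar (Q ⊓ X) (Q ⊓ Subgroup.normalizer (U : Set G)) (hQp.to_le inf_le_left)
      (inf_le_inf_left Q (Subgroup.centralizer_le_normalizer _))
    · rw [eq_bot_iff, ← hcent]
      apply Subgroup.commutator_mono _ le_rfl
      apply le_pCoreIn inf_le_right
      · intro x hx
        exact mem_normalizer_inf (hHQ (hXH hx)) (Subgroup.le_normalizer hx)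
      · exact hQp.to_le inf_le_left
    · rw [Subgroup.commutator_le]
      intro q hq d hd
      refine ⟨?_, ?_⟩
      · -- ⁅q, d⁆ = q * (d q⁻¹ d⁻¹) ∈ Q
        have h1 : d * q⁻¹ * d⁻¹ ∈ Q :=
          (Subgroup.mem_normalizer_iff.mp (hDQ hd) q⁻¹).mp (Q.inv_mem hq.1)
        have : ⁅q, d⁆ = q * (d * q⁻¹ * d⁻¹) := by
          rw [commutatorElement_def]; group
        rw [this]; exact Q.mul_mem hq.1 h1
      · -- ⁅q, d⁆ = (q d q⁻¹) d⁻¹ ∈ X
        have hqn : q ∈ Subgroup.normalizer (X : Set G) :=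
          normalizer_le_normalizer_centralizer U hq.2
        have h1 : q * d * q⁻¹ ∈ X := (Subgroup.mem_normalizer_iff.mp hqn d).mp (hDX hd)
        have : ⁅q, d⁆ = q * d * q⁻¹ * d⁻¹ := by rw [commutatorElement_def]
        rw [this]; exact X.mul_mem h1 (X.inv_mem (hDX hd))
  have hchain : ⁅(Q ⊔ U) ⊓ Subgroup.normalizer (U : Set G), D⁆ = ⊥ := by
    rw [Subgroup.commutator_eq_bot_iff_le_centralizer]
    rintro x ⟨hx1, hx2⟩
    obtain ⟨q, hq, u, hu, rfl⟩ := mem_sup_of_le_normalizer hUQ hx1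
    have hqN : q ∈ Subgroup.normalizer (U : Set G) := by
      have : q = q * u * u⁻¹ := by group
      rw [this]
      exact Subgroup.mul_mem _ hx2 (Subgroup.inv_mem _ (Subgroup.le_normalizer hu))
    have h1 : q ∈ Subgroup.centralizer (D : Set G) :=
      (Subgroup.commutator_eq_bot_iff_le_centralizer.mp hNQ) ⟨hq, hqN⟩
    have h2 : u ∈ Subgroup.centralizer (D : Set G) :=
      (Subgroup.commutator_eq_bot_iff_le_centralizer.mp hDcentU) hu
    exact Subgroup.mul_mem _ h1 h2
  have hfinal := commutator_eq_bot_of_normalizer_chain hQU (le_sup_right : U ≤ Q ⊔ U) hDU hDQU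
    hchain hstar
  rw [eq_bot_iff, ← hfinal]
  exact Subgroup.commutator_mono le_sup_left le_rfl
/-- The case `V ⊴ U`. -/
theorem normal_case [Finite G] {p : ℕ} [Fact p.Prime] (U V : Subgroup G) (hVU : V ≤ U)
    (hUN : U ≤ Subgroup.normalizer (V : Set G)) (hU : IsPGroup p ↥U)
    (hV : IsPGroup p ↥(Cfsg.generalizedFittingSubgroup ↥(Subgroup.centralizer (V : Set G)))) :
    IsPGroup p ↥(Cfsg.generalizedFittingSubgroup ↥(Subgroup.centralizer (U : Set G))) := by
  set H := Subgroup.centralizer (V : Set G) with hH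
  set X := Subgroup.centralizer (U : Set G) with hX
  have hXH : X ≤ H := Subgroup.centralizer_le hVU
  have hQp : IsPGroup p ↥(pCoreIn p H) := pCoreIn_isPGroup p H
  -- `O_p(H)` is self-centralizing in `H`
  have hCF : H ⊓ Subgroup.centralizer (pCoreIn p H : Set G) ≤ pCoreIn p H := by
    have h1 : Cfsg.generalizedFittingSubgroup ↥H ≤ Cfsg.pCore p ↥H :=
      Cfsg.Agent.Lib.Helper1.le_pCore inferInstance hV
    have h2 : Subgroup.centralizer (Cfsg.pCore p ↥H : Set ↥H) ≤ Cfsg.pCore p ↥H :=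
      ((Subgroup.centralizer_le h1).trans centralizer_generalizedFittingSubgroup_le).trans h1
    rintro x ⟨hxH, hxC⟩
    have h3 : (⟨x, hxH⟩ : H) ∈ Subgroup.centralizer (Cfsg.pCore p ↥H : Set ↥H) := by
      rw [Subgroup.mem_centralizer_iff]
      intro y hy
      apply Subtype.ext
      exact (Subgroup.mem_centralizer_iff.mp hxC) (y : G) ⟨y, hy, rfl⟩
    exact ⟨⟨x, hxH⟩, h2 h3, rfl⟩
  have hmain : ∀ D : Subgroup G, D ≤ X → ⁅pCoreIn p X, D⁆ = ⊥ → PStable p D →
      D ≤ pCoreIn p H := by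
    intro D hDX hc hst
    have h1 := key_step hU hVU hUN hDX hc hst
    rw [Subgroup.commutator_comm, Subgroup.commutator_eq_bot_iff_le_centralizer] at h1
    exact fun d hd => hCF ⟨hXH (hDX hd), h1 hd⟩
  have hpc_le_fit : Cfsg.pCore p ↥X ≤ Cfsg.fittingSubgroup ↥X :=
    Cfsg.Agent.Lib.Helper1.le_fittingSubgroup inferInstance
      (Cfsg.Agent.Lib.Helper1.pCore_isPGroup p ↥X).isNilpotent
  have hlayer : Cfsg.layer ↥X = ⊥ := by
    have hc : ⁅pCoreIn p X, (Cfsg.layer ↥X).map X.subtype⁆ = ⊥ := by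
      unfold pCoreIn
      rw [← Subgroup.map_commutator, eq_bot_iff]
      have h1 : ⁅Cfsg.pCore p ↥X, Cfsg.layer ↥X⁆ ≤ ⁅Cfsg.layer ↥X, Cfsg.fittingSubgroup ↥X⁆ := by
        rw [Subgroup.commutator_comm]
        exact Subgroup.commutator_mono le_rfl hpc_le_fit
      rw [commutator_layer_fittingSubgroup] at h1
      rw [le_bot_iff.mp h1, Subgroup.map_bot]
    have hperf : ⁅(Cfsg.layer ↥X).map X.subtype, (Cfsg.layer ↥X).map X.subtype⁆ =
        (Cfsg.layer ↥X).map X.subtype := by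
      rw [← Subgroup.map_commutator, layer_commutator_eq]
    have h3 := hmain _ (Subgroup.map_subtype_le _) hc (pStable_of_perfect p hperf)
    have hsol : Group.IsSolvable ↥((pCoreIn p H).subgroupOf X) := by
      have : IsPGroup p ↥((pCoreIn p H).subgroupOf X) := hQp.comap_subtype
      have := this.isNilpotent
      infer_instance
    apply layer_eq_bot_of_le_isSolvable hsol
    rw [Subgroup.subgroupOf, ← Subgroup.map_le_iff_le_comap]
    exact h3
  have hpp : Cfsg.pPrimeCore p ↥X = ⊥ := by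
    have hc : ⁅pCoreIn p X, pPrimeCoreIn p X⁆ = ⊥ := by
      unfold pCoreIn pPrimeCoreIn
      rw [← Subgroup.map_commutator, commutator_pCore_pPrimeCore, Subgroup.map_bot]
    have h3 := hmain _ (pPrimeCoreIn_le p X) hc
      (pStable_of_coprime p (pPrimeCoreIn_coprime p X))
    have h4 : pPrimeCoreIn p X = ⊥ := by
      have hpg : IsPGroup p ↥(pPrimeCoreIn p X) := hQp.to_le h3
      obtain ⟨k, hk⟩ := IsPGroup.iff_card.mp hpg
      have hcop := pPrimeCoreIn_coprime p X
      rw [hk] at hcop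
      have hk1 : p ^ k = 1 := by
        rcases Nat.eq_zero_or_pos k with h0 | hpos
        · rw [h0, pow_zero]
        · exfalso
          have hp : p.Prime := Fact.out
          have hd : p ∣ Nat.gcd (p ^ k) p := Nat.dvd_gcd (dvd_pow_self p hpos.ne') dvd_rfl
          rw [hcop] at hd
          exact hp.one_lt.ne' (Nat.dvd_one.mp hd)
      rw [hk1] at hk
      exact Subgroup.card_eq_one.mp hk
    unfold pPrimeCoreIn at h4
    exact (Subgroup.map_eq_bot_iff_of_injective _ X.subtype_injective).mp h4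
  have hF : Cfsg.generalizedFittingSubgroup ↥X = Cfsg.pCore p ↥X := by
    unfold Cfsg.generalizedFittingSubgroup
    rw [hlayer, bot_sup_eq]
    exact fittingSubgroup_eq_pCore_of_pPrimeCore_eq_bot p hpp
  rw [hF]
  exact Cfsg.Agent.Lib.Helper1.pCore_isPGroup p ↥X

theorem main_aux [Finite G] {p : ℕ} [Fact p.Prime] : ∀ (n : ℕ) (U V : Subgroup G),
    Nat.card U - Nat.card V = n → V ≤ U → IsPGroup p ↥U →
    IsPGroup p ↥(Cfsg.generalizedFittingSubgroup ↥(Subgroup.centralizer (V : Set G))) →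
    IsPGroup p ↥(Cfsg.generalizedFittingSubgroup ↥(Subgroup.centralizer (U : Set G))) := by
  intro n
  induction n using Nat.strong_induction_on with
  | _ n ih =>
  intro U V hn hVU hU hV
  by_cases hEq : V = U
  · rw [← hEq]; exact hV
  · set V₁ := Subgroup.normalizer (V : Set G) ⊓ U with hV₁
    have hVV₁ : V ≤ V₁ := le_inf Subgroup.le_normalizer hVU
    have hV₁U : V₁ ≤ U := inf_le_right
    have hne : V ≠ V₁ := by
      intro h
      apply hEq
      apply Cfsg.Agent.Lib.Helper17.eq_of_normalizer_inf_le V U hU hVU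
      rw [← hV₁, ← h]
    have hlt : V < V₁ := lt_of_le_of_ne hVV₁ hne
    have hcard : Nat.card V < Nat.card V₁ := by
      by_contra hc
      exact hne (Subgroup.eq_of_le_of_card_ge hVV₁ (not_lt.mp hc))
    have hcard2 : Nat.card V₁ ≤ Nat.card U := Subgroup.card_le_of_le hV₁U
    have h1 := normal_case V₁ V hVV₁ inf_le_left (hU.to_le hV₁U) hV
    exact ih (Nat.card U - Nat.card V₁) (by omega) U V₁ rfl hV₁U hU h1
end

/-- Let V ≤ U be p-subgroups of the finite group G. If the generalized Fitting subgroup of C_G(V) is a p-group, then so is that of C_G(U). -/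
theorem result {G : Type*} [Group G] [Finite G] {p : ℕ} [Fact p.Prime] (U V : Subgroup G) (hVU : V ≤ U) (hU : IsPGroup p U) (hV : IsPGroup p ↥(Cfsg.generalizedFittingSubgroup ↥(Subgroup.centralizer (V : Set G)))) : IsPGroup p ↥(Cfsg.generalizedFittingSubgroup ↥(Subgroup.centralizer (U : Set G))) := by
  exact main_aux _ U V rfl hVU hU hV

end Cfsg.Agent.S1246
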