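import Cfsg.Statements.S1248
-- import your own Cfsg.Agent.* helpers here
import Mathlib
import Cfsg.Agent.Lib.Helper18.SU3Props
import Cfsg.Agent.Lib.Helper18.SU3Sylow

set_option autoImplicit false
open Cfsg

namespace Cfsg.Agent.S1248

/-- Let F be a field with 16 elements and S a Sylow 2-subgroup of PSU(3) over F (the unitary group U₃(4)). Then |S| = 64; the centre Z(S) is a Klein four-group and coincides with the subgroup generated by the involutions of S and with the derived subgroup; and every element of S ⧸ Z(S) squares to the identity, S ⧸ Z(S) having order 16. -/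
theorem result {F : Type*} [Field F] [Fintype F] (hF : Fintype.card F = 16) (S : Sylow 2 (Cfsg.PSU 3 F 4)) : Nat.card S = 64 ∧ IsKleinFour (Subgroup.center (S : Subgroup (Cfsg.PSU 3 F 4))) ∧ Subgroup.center (S : Subgroup (Cfsg.PSU 3 F 4)) = Subgroup.closure {x : (S : Subgroup (Cfsg.PSU 3 F 4)) | orderOf x = 2} ∧ Subgroup.center (S : Subgroup (Cfsg.PSU 3 F 4)) = commutator (S : Subgroup (Cfsg.PSU 3 F 4)) ∧ Nat.card ((S : Subgroup (Cfsg.PSU 3 F 4)) ⧸ Subgroup.center (S : Subgroup (Cfsg.PSU 3 F 4))) = 16 ∧ ∀ x : (S : Subgroup (Cfsg.PSU 3 F 4)) ⧸ Subgroup.center (S : Subgroup (Cfsg.PSU 3 F 4)), x ^ 2 = 1 := by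
  have hF' : Fintype.card F = (2 ^ 2) ^ 2 := by rw [hF]; norm_num
  obtain ⟨σ, h, hσq, hk⟩ := Cfsg.Agent.Lib.Helper18.SU3Model.exists_good (n := 2) (by norm_num) hF'
  have hk4 : Nat.card {c : F // σ c = c} = 4 := by rw [hk]; norm_num
  have hF4 : Nat.card F = 4 ^ 2 := by rw [Nat.card_eq_fintype_card, hF]; norm_num
  obtain ⟨e⟩ : Nonempty (↥(S : Subgroup (Cfsg.PSU 3 F 4)) ≃* Cfsg.Agent.Lib.Helper18.SU3Model.TG h) :=
    Cfsg.Agent.Lib.Helper18.SU3Model.sylow_PSU_equiv (n := 2) h (by norm_num) hσq hk hF' S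
  refine ⟨?_, ?_, ?_, ?_, ?_, ?_⟩
  · have := Cfsg.Agent.Lib.Helper18.SU3Model.card_of_equiv h e 4 hk4 hF4
    rw [this]; norm_num
  · exact Cfsg.Agent.Lib.Helper18.SU3Model.isKleinFour_center_of_equiv h e hk4
  · exact Cfsg.Agent.Lib.Helper18.SU3Model.center_eq_closure_of_equiv h e
  · exact Cfsg.Agent.Lib.Helper18.SU3Model.center_eq_commutator_of_equiv h e
  · have := Cfsg.Agent.Lib.Helper18.SU3Model.card_quotient_center_of_equiv h e 4 (by norm_num) hk4 hF4
    rw [this]; norm_num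
  · exact Cfsg.Agent.Lib.Helper18.SU3Model.quotient_sq_of_equiv h e

end Cfsg.Agent.S1248
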