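import Cfsg.Statements.S1249
-- import your own Cfsg.Agent.* helpers here

set_option autoImplicit false
open Cfsg

namespace Cfsg.Agent.S1249

/-- Let P and Q be Sylow p-subgroups of the finite group G both containing the subgroup A. If A is strongly closed in P, then A is strongly closed in Q. -/
theorem result {G : Type*} [Group G] [Finite G] {p : ℕ} [Fact p.Prime] (P Q : Sylow p G) (A : Subgroup G) (hAQ : A ≤ Q) (hA : Cfsg.IsStronglyClosed A (P : Subgroup G)) : Cfsg.IsStronglyClosed A (Q : Subgroup G) := by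
  obtain ⟨hAP, hcl⟩ := hA
  refine ⟨hAQ, ?_⟩
  -- Q = h • P
  obtain ⟨h, hh⟩ := MulAction.exists_smul_eq G P Q
  have hQ : ∀ y : G, y ∈ (Q : Subgroup G) ↔ h⁻¹ * y * h ∈ (P : Subgroup G) := by
    intro y
    rw [← hh, Sylow.coe_subgroup_smul, Subgroup.mem_pointwise_smul_iff_inv_smul_mem]
    simp [MulAut.smul_def, MulAut.conj_apply]
  -- conjugation by h⁻¹ maps A into A
  have hmap : ∀ x ∈ A, h⁻¹ * x * h ∈ A := by
    intro x hx
    have h1 : h⁻¹ * x * h ∈ (P : Subgroup G) := (hQ x).1 (hAQ hx)
    have := hcl x hx h⁻¹ (by simpa using h1)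
    simpa using this
  -- so it is a bijection of A (finite)
  have hinj : Function.Injective (fun x : A => (⟨h⁻¹ * x * h, hmap x x.2⟩ : A)) := by
    intro x y hxy
    have := congrArg Subtype.val hxy
    simp only at this
    apply Subtype.ext
    have h2 := mul_left_cancel (mul_right_cancel this)
    exact h2
  have hsurj := Finite.surjective_of_injective hinj
  intro x hx g hg
  have h1 : h⁻¹ * (g * x * g⁻¹) * h ∈ (P : Subgroup G) := (hQ _).1 hg
  have h2 : (h⁻¹ * g) * x * (h⁻¹ * g)⁻¹ ∈ A := by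
    apply hcl x hx
    simpa [mul_assoc] using h1
  obtain ⟨y, hy⟩ := hsurj ⟨_, h2⟩
  have h3 := congrArg Subtype.val hy
  simp only at h3
  have h4 : (y : G) = g * x * g⁻¹ := by
    have : h⁻¹ * (y : G) * h = h⁻¹ * (g * x * g⁻¹) * h := by
      rw [h3]; simp [mul_assoc]
    exact mul_left_cancel (mul_right_cancel this)
  rw [← h4]; exact y.2

end Cfsg.Agent.S1249
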