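import Cfsg.Statements.S1250
import Cfsg.Agent.Lib.Helper8.Fusion

set_option autoImplicit false
open Cfsg

namespace Cfsg.Agent.S1250

/-- Let S be a Sylow p-subgroup of the finite group G, A ≤ S strongly closed in S, and N a normal subgroup. Then the image of A in G ⧸ N is strongly closed in the image of S (which is a Sylow p-subgroup of G ⧸ N). -/
theorem result {G : Type*} [Group G] [Finite G] {p : ℕ} [Fact p.Prime] (S : Sylow p G) (A : Subgroup G) (hA : Cfsg.IsStronglyClosed A (S : Subgroup G)) (N : Subgroup G) [N.Normal] : Cfsg.IsStronglyClosed (A.map (QuotientGroup.mk' N)) ((S : Subgroup G).map (QuotientGroup.mk' N)) := by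
  open Cfsg.Agent.Lib.Helper8 Pointwise in
  obtain ⟨hAS, hcl⟩ := hA
  refine ⟨Subgroup.map_mono hAS, ?_⟩
  intro x hx gbar hgx
  obtain ⟨a, ha, rfl⟩ := hx
  obtain ⟨g, rfl⟩ := QuotientGroup.mk'_surjective N gbar
  set y := g * a * g⁻¹ with hy
  have hgx' : (QuotientGroup.mk' N) y ∈ (S : Subgroup G).map (QuotientGroup.mk' N) := by
    simpa [hy] using hgx
  obtain ⟨s, hs, hsy⟩ := hgx'
  -- y ∈ S ⊔ N
  have hyM : y ∈ (S : Subgroup G) ⊔ N := by
    have h1 : s⁻¹ * y ∈ N := by
      have := (QuotientGroup.eq (s := N) (a := s) (b := y)).mp hsy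
      exact this
    have : y = s * (s⁻¹ * y) := by group
    rw [this]
    exact Subgroup.mul_mem _ (Subgroup.mem_sup_left hs) (Subgroup.mem_sup_right h1)
  -- zpowers y is a p-group
  have hap : IsPGroup p (Subgroup.zpowers a) := S.2.to_le (by
    rw [Subgroup.zpowers_le]; exact hAS ha)
  have hyp : IsPGroup p (Subgroup.zpowers y) := by
    have : Subgroup.zpowers y = (Subgroup.zpowers a).map (MulAut.conj g).toMonoidHom := by
      rw [MonoidHom.map_zpowers]
      simp [hy, MulAut.conj_apply]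
    rw [this]; exact hap.map _
  obtain ⟨c, hc, hP⟩ := exists_conj_sup_isPGroup ((S : Subgroup G) ⊔ N) S.2 hyp le_sup_left
    (by rw [Subgroup.zpowers_le]; exact hyM)
  have hmax := S.is_maximal' hP le_sup_left
  have hcy : c * y * c⁻¹ ∈ (S : Subgroup G) := by
    rw [← hmax]
    apply Subgroup.mem_sup_right
    exact conj_mem_map_conj (Subgroup.mem_zpowers y)
  -- c = s' * n'
  have hc' : c ∈ ((S : Subgroup G) : Set G) * (N : Set G) := by
    rw [← Subgroup.mul_normal]; exact hc
  obtain ⟨s', hs', n', hn', rfl⟩ := hc'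
  have h2 : n' * y * n'⁻¹ ∈ (S : Subgroup G) := by
    have : n' * y * n'⁻¹ = s'⁻¹ * (s' * n' * y * (s' * n')⁻¹) * s' := by group
    rw [this]
    exact Subgroup.mul_mem _ (Subgroup.mul_mem _ (Subgroup.inv_mem _ hs') hcy) hs'
  have h3 : (n' * g) * a * (n' * g)⁻¹ ∈ A := by
    apply hcl a ha
    have : (n' * g) * a * (n' * g)⁻¹ = n' * y * n'⁻¹ := by rw [hy]; group
    rw [this]; exact h2
  refine ⟨(n' * g) * a * (n' * g)⁻¹, h3, ?_⟩
  have hn1 : (QuotientGroup.mk' N) n' = 1 := (QuotientGroup.eq_one_iff n').mpr hn'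
  simp only [map_mul, map_inv, hn1, one_mul]

end Cfsg.Agent.S1250
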