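import Cfsg.Statements.S1251
import Cfsg.Agent.S0215
import Cfsg.Agent.Lib.Helper27.SCCentral

set_option autoImplicit false
open Cfsg

namespace Cfsg.Agent.S1251

/-- Let S be a Sylow 2-subgroup of the finite group G and A ≤ S strongly closed in S. If H is a subgroup normalized by A with no nontrivial normal subgroup of odd order and A ∩ H = 1, then A ≤ C_G(H). -/
theorem result {G : Type*} [Group G] [Finite G] (S : Sylow 2 G) (A : Subgroup G) (hA : Cfsg.IsStronglyClosed A (S : Subgroup G)) (H : Subgroup G) (hAH : A ≤ Subgroup.normalizer (H : Set G)) (hO : Cfsg.oddCore ↥H = ⊥) (hdisj : A ⊓ H = ⊥) : A ≤ Subgroup.centralizer (H : Set G) := by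
  have : Fact (Nat.Prime 2) := ⟨Nat.prime_two⟩
  obtain ⟨X, hX⟩ : ∃ X, X = H ⊔ A := ⟨_, rfl⟩
  have hHX : H ≤ X := hX ▸ le_sup_left
  have hAX : A ≤ X := hX ▸ le_sup_right
  have hXN : X ≤ Subgroup.normalizer (H : Set G) := hX ▸ sup_le Subgroup.le_normalizer hAH
  haveI hHn : (H.subgroupOf X).Normal := (Subgroup.normal_subgroupOf_iff_le_normalizer hHX).mpr hXN
  have hsup : H.subgroupOf X ⊔ A.subgroupOf X = ⊤ := by
    rw [← Subgroup.subgroupOf_sup hHX hAX, ← hX, Subgroup.subgroupOf_self]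
  have hdisj' : A.subgroupOf X ⊓ H.subgroupOf X = ⊥ := by
    rw [eq_bot_iff]
    rintro ⟨x, hx⟩ ⟨h1, h2⟩
    have h3 : x ∈ A ⊓ H := ⟨h1, h2⟩
    rw [hdisj, Subgroup.mem_bot] at h3
    rw [Subgroup.mem_bot]
    exact Subtype.ext h3
  have hO' : ∀ K : Subgroup ↥X, K.Normal → K ≤ H.subgroupOf X → Odd (Nat.card K) → K = ⊥ := by
    intro K hKn hKH hodd
    have hKmapH : K.map X.subtype ≤ H := by
      rintro _ ⟨k, hk, rfl⟩
      exact hKH hk
    have hK'n : ((K.map X.subtype).subgroupOf H).Normal := by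
      refine ⟨?_⟩
      rintro ⟨k, hkH⟩ hk ⟨h, hh⟩
      obtain ⟨k', hk', hkk⟩ := hk
      refine ⟨⟨h, hHX hh⟩ * k' * ⟨h, hHX hh⟩⁻¹, hKn.conj_mem k' hk' _, ?_⟩
      simp only [Subgroup.coe_subtype, Subgroup.coe_mul, Subgroup.coe_inv] at hkk ⊢
      rw [hkk]
    have hcard : Nat.card ((K.map X.subtype).subgroupOf H) = Nat.card K := by
      rw [Nat.card_congr (Subgroup.subgroupOfEquivOfLe hKmapH).toEquiv]
      exact (Nat.card_congr (K.equivMapOfInjective X.subtype X.subtype_injective).toEquiv).symm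
    have hle := Cfsg.Agent.Lib.Helper12.le_pPrimeCore 2 _ hK'n
      (by rw [hcard]; exact Nat.coprime_two_right.mpr hodd)
    have hbot : (K.map X.subtype).subgroupOf H = ⊥ := by
      rw [eq_bot_iff]
      exact hle.trans hO.le
    have h1 : Nat.card K = 1 := by rw [← hcard, hbot, Subgroup.card_bot]
    exact Subgroup.card_eq_one.mp h1
  have hA2 : IsPGroup 2 (A.subgroupOf X) := (S.2.to_le hA.1).comap_subtype
  obtain ⟨T, hAT⟩ := hA2.exists_le_sylow
  have hT' : IsPGroup 2 ((T : Subgroup ↥X).map X.subtype) := T.2.map _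
  obtain ⟨S', hS'⟩ := hT'.exists_le_sylow
  obtain ⟨g, rfl⟩ := MulAction.exists_smul_eq G S S'
  have hmem : ∀ y ∈ (T : Subgroup ↥X), g⁻¹ * (y : G) * g ∈ (S : Subgroup G) := by
    intro y hy
    have h1 : (y : G) ∈ ((g • S : Sylow 2 G) : Subgroup G) := hS' ⟨y, hy, rfl⟩
    rw [Sylow.coe_subgroup_smul, Subgroup.mem_smul_pointwise_iff_exists] at h1
    obtain ⟨s, hs, hsy⟩ := h1
    rw [← hsy, MulAut.smul_def, MulAut.conj_apply]
    have e : g⁻¹ * (g * s * g⁻¹) * g = s := by group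
    rw [e]; exact hs
  -- `g⁻¹ a g ∈ A` for `a ∈ A`
  have hgA1 : ∀ a ∈ A, g⁻¹ * a * g ∈ A := by
    intro a ha
    have h1 := hmem ⟨a, hAX ha⟩ (hAT ha)
    have h2 := hA.2 a ha g⁻¹
    rw [inv_inv] at h2
    exact h2 h1
  have hgA : ∀ b ∈ A, g * b * g⁻¹ ∈ A := by
    let φ : ↥A → ↥A := fun a => ⟨g⁻¹ * a * g, hgA1 a a.2⟩
    have hφ : Function.Injective φ := by
      intro a b hab
      have h1 : g⁻¹ * (a : G) * g = g⁻¹ * (b : G) * g := congrArg Subtype.val hab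
      apply Subtype.ext
      have h2 : (a : G) = g * (g⁻¹ * (a : G) * g) * g⁻¹ := by group
      rw [h2, h1]; group
    have hsurj := Finite.injective_iff_surjective.mp hφ
    intro b hb
    obtain ⟨a, ha⟩ := hsurj ⟨b, hb⟩
    have h1 : g⁻¹ * (a : G) * g = b := congrArg Subtype.val ha
    rw [← h1]
    have e : g * (g⁻¹ * (a : G) * g) * g⁻¹ = a := by group
    rw [e]; exact a.2
  have hsc : ∀ a ∈ A.subgroupOf X, ∀ x : ↥X, x * a * x⁻¹ ∈ (T : Subgroup ↥X) →
      x * a * x⁻¹ ∈ A.subgroupOf X := by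
    intro a ha x hx
    have h1 := hmem _ hx
    have h2 := hA.2 (a : G) ha (g⁻¹ * (x : G))
    have e : g⁻¹ * (x : G) * (a : G) * (g⁻¹ * (x : G))⁻¹ = g⁻¹ * ((x * a * x⁻¹ : ↥X) : G) * g := by
      simp only [Subgroup.coe_mul, Subgroup.coe_inv]; group
    rw [e] at h2
    have h3 := hgA _ (h2 h1)
    have e2 : g * (g⁻¹ * ((x * a * x⁻¹ : ↥X) : G) * g) * g⁻¹ = ((x * a * x⁻¹ : ↥X) : G) := by group
    rw [e2] at h3
    exact h3
  have hcore := Cfsg.Agent.Lib.Helper27.SCCentral.core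
    (fun P u hu huP hiso => Cfsg.Agent.S0215.result P u hu huP hiso)
    (H.subgroupOf X) (A.subgroupOf X) hsup hdisj' hO' T hAT hsc
  intro a ha
  rw [Subgroup.mem_centralizer_iff]
  intro h hh
  exact congrArg Subtype.val (hcore ⟨a, hAX ha⟩ ha ⟨h, hHX hh⟩ hh)

end Cfsg.Agent.S1251
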