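import Cfsg.Statements.S1254
import Cfsg.Agent.Lib.Helper29.DihedralLike
import Cfsg.Agent.Lib.Helper29.MinNonPNilpotent
import Cfsg.Agent.Lib.Helper10.CNGroup
import Cfsg.Agent.Lib.Helper1.Transport

set_option autoImplicit false
open Cfsg

namespace Cfsg.Agent.S1254

open Subgroup Cfsg.Agent.Lib.Helper29

/-- an element of `T ⊔ C` (with `T` normalizing `C`) of order prime to `|T|` lies in `C` -/
theorem mem_of_mem_sup_of_coprime {G : Type*} [Group G] [Finite G] (C T : Subgroup G)
    (hTC : T ≤ normalizer (C : Set G)) (g : G) (hg : g ∈ T ⊔ C)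
    (hcop : (orderOf g).Coprime (Nat.card T)) : g ∈ C := by
  have hn : (C.subgroupOf (T ⊔ C)).Normal := Subgroup.normal_subgroupOf_sup_of_le_normalizer hTC
  have hidx : C.relIndex (T ⊔ C) = C.relIndex T :=
    Cfsg.Agent.Lib.Helper4.relIndex_sup_of_le_normalizer T C hTC
  have hd : C.relIndex T ∣ Nat.card T := Subgroup.relIndex_dvd_card _ _
  have h1 : (⟨g, hg⟩ : ↥(T ⊔ C)) ^ (C.subgroupOf (T ⊔ C)).index ∈ C.subgroupOf (T ⊔ C) :=
    Subgroup.pow_index_mem _ _
  rw [Subgroup.mem_subgroupOf] at h1
  have h2 : g ^ C.relIndex T ∈ C := by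
    rw [← hidx]
    have h1' : g ^ (C.subgroupOf (T ⊔ C)).index ∈ C := by simpa using h1
    exact h1'
  have h3 : g ^ orderOf g ∈ C := by
    rw [pow_orderOf_eq_one]; exact C.one_mem
  exact Cfsg.Agent.Lib.Helper10.mem_of_pow_mem_of_coprime C g
    (Nat.Coprime.coprime_dvd_right hd hcop) h3 h2

theorem normalizer_le_normalizer_centralizer' {G : Type*} [Group G] [Finite G] (Q : Subgroup G) :
    Subgroup.normalizer (Q : Set G) ≤
      Subgroup.normalizer ((Subgroup.centralizer (Q : Set G) : Subgroup G) : Set G) := by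
  intro t ht
  apply Cfsg.Agent.Lib.Helper16.mem_normalizer_of_map_conj_le
  rintro _ ⟨c, hc, rfl⟩
  change t * c * t⁻¹ ∈ Subgroup.centralizer (Q : Set G)
  have hc : c ∈ Subgroup.centralizer (Q : Set G) := hc
  rw [Subgroup.mem_centralizer_iff] at hc ⊢
  intro q hq
  have hq' : t⁻¹ * q * t ∈ Q := by
    have := (Subgroup.mem_normalizer_iff.mp ((Subgroup.normalizer (Q : Set G)).inv_mem ht) q).mp hq
    simpa using this
  have h1 := hc _ hq'
  calc q * (t * c * t⁻¹) = t * ((t⁻¹ * q * t) * c) * t⁻¹ := by group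
    _ = t * (c * (t⁻¹ * q * t)) * t⁻¹ := by rw [h1]
    _ = t * c * t⁻¹ * q := by group

/-- Let X be a finite group whose Sylow 2-subgroup S is dihedral (of order at least 4). Then X has a normal 2-complement if and only if, for every Klein four-subgroup U ≤ S, the normalizer N_X(U) is generated by C_X(U) and N_S(U). -/
theorem result {X : Type*} [Group X] [Finite X] (S : Sylow 2 X) (m : ℕ) (hm : 2 ≤ m) (eS : (S : Subgroup X) ≃* DihedralGroup m) : Cfsg.HasNormalPComplement 2 X ↔ ∀ U : Subgroup X, U ≤ S → IsKleinFour U → Subgroup.normalizer (U : Set X) = Subgroup.centralizer (U : Set X) ⊔ ((S : Subgroup X) ⊓ Subgroup.normalizer (U : Set X)) := by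
  have : Fact (Nat.Prime 2) := ⟨Nat.prime_two⟩
  constructor
  · intro hcomp U hUS _
    have hF : FrobCond 2 X := frobCond_iff.mpr hcomp
    obtain ⟨N, hNn, hNc⟩ := hF.exists_normal_complement S
    apply le_antisymm
    · intro n hn
      obtain ⟨k, hk, s, hs, rfl⟩ := Cfsg.Agent.Lib.Helper1.IsComplement'.exists_mul_eq hNc n
      have hdisj : N ⊓ (S : Subgroup X) = ⊥ := hNc.disjoint.eq_bot
      -- conjugation by `k * s` agrees with conjugation by `s` on `U`
      have hconj : ∀ u ∈ U, (k * s) * u * (k * s)⁻¹ = s * u * s⁻¹ := by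
        intro u hu
        have h1 : (k * s) * u * (k * s)⁻¹ ∈ U := (Subgroup.mem_normalizer_iff.mp hn u).mp hu
        set v := s * u * s⁻¹ with hv
        have hvS : v ∈ (S : Subgroup X) :=
          (S : Subgroup X).mul_mem ((S : Subgroup X).mul_mem hs (hUS hu)) ((S : Subgroup X).inv_mem hs)
        have e : (k * s) * u * (k * s)⁻¹ = k * v * k⁻¹ := by rw [hv]; group
        rw [e] at h1 ⊢
        have h2 : k * v * k⁻¹ * v⁻¹ ∈ N ⊓ (S : Subgroup X) := by
          constructor
          · have : v * k⁻¹ * v⁻¹ ∈ N := hNn.conj_mem _ (N.inv_mem hk) v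
            have h4 := N.mul_mem hk this
            have e2 : k * (v * k⁻¹ * v⁻¹) = k * v * k⁻¹ * v⁻¹ := by group
            rwa [e2] at h4
          · exact (S : Subgroup X).mul_mem (hUS h1) ((S : Subgroup X).inv_mem hvS)
        rw [hdisj, Subgroup.mem_bot] at h2
        have : k * v * k⁻¹ = (k * v * k⁻¹ * v⁻¹) * v := by group
        rw [this, h2, one_mul]
      have hsN : s ∈ Subgroup.normalizer (U : Set X) := by
        apply Cfsg.Agent.Lib.Helper16.mem_normalizer_of_map_conj_le
        rintro _ ⟨u, hu, rfl⟩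
        change s * u * s⁻¹ ∈ U
        rw [← hconj u hu]
        exact (Subgroup.mem_normalizer_iff.mp hn u).mp hu
      have hcC : s⁻¹ * (k * s) ∈ Subgroup.centralizer (U : Set X) := by
        rw [Subgroup.mem_centralizer_iff]
        intro u hu
        have h := hconj u hu
        have e1 : s⁻¹ * (k * s) * u = s⁻¹ * ((k * s) * u * (k * s)⁻¹) * (k * s) := by group
        rw [e1, h]; group
      have e : k * s = s * (s⁻¹ * (k * s)) := by group
      rw [e]
      exact Subgroup.mul_mem _ (Subgroup.mem_sup_right ⟨hs, hsN⟩) (Subgroup.mem_sup_left hcC)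
    · exact sup_le (Subgroup.centralizer_le_normalizer _) inf_le_right
  · intro h
    have hSd : DihLike (S : Subgroup X) := by
      have h1 := (dihLike_top_dihedralGroup m).map
        ((S : Subgroup X).subtype.comp eS.symm.toMonoidHom)
        ((S : Subgroup X).subtype_injective.comp eS.symm.injective)
      have e : (⊤ : Subgroup (DihedralGroup m)).map
          ((S : Subgroup X).subtype.comp eS.symm.toMonoidHom) = (S : Subgroup X) := by
        rw [← MonoidHom.range_eq_map, MonoidHom.range_comp,
          MonoidHom.range_eq_top.mpr eS.symm.surjective, ← MonoidHom.range_eq_map,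
          Subgroup.range_subtype]
      rwa [e] at h1
    have hF : FrobCond 2 X := by
      apply frobCond_of_sylow S
      intro Q hQS g hg hcop
      rcases mem_centralizer_or_isKleinFour Q (S.2.to_le hQS) (hSd.of_le hQS) g hg hcop with h1 | h1
      · exact h1
      · have hN := h Q hQS h1
        have hg' : g ∈ ((S : Subgroup X) ⊓ Subgroup.normalizer (Q : Set X)) ⊔
            Subgroup.centralizer (Q : Set X) := by
          rw [sup_comm, ← hN]; exact hg
        refine mem_of_mem_sup_of_coprime _ _ ?_ g hg' ?_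
        · intro t ht
          have htN : t ∈ Subgroup.normalizer (Q : Set X) := ht.2
          exact normalizer_le_normalizer_centralizer' Q htN
        · obtain ⟨e, he⟩ := IsPGroup.iff_card.mp (S.2.to_le (inf_le_left :
            (S : Subgroup X) ⊓ Subgroup.normalizer (Q : Set X) ≤ S))
          rw [he]
          exact Nat.Coprime.pow_right _ hcop
    exact frobCond_iff.mp hF

end Cfsg.Agent.S1254
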