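import Cfsg.Statements.S1255
import Cfsg.Agent.S3864
import Cfsg.Agent.S0992
import Cfsg.Agent.Lib.Helper4.Klein1

set_option autoImplicit false
set_option linter.unusedSectionVars false
set_option linter.style.haveILetI false
open Cfsg

namespace Cfsg.Agent.S1255

open Subgroup DihedralGroup Cfsg.Agent.Lib.Helper29 Cfsg.Agent.S3864 Cfsg.Agent.Lib.Helper4

/-- a nontrivial automorphism of order 3 of a four-group permutes the nonidentity elements
transitively -/
theorem kleinFour_aut_transitive {V : Type*} [Group V] [IsKleinFour V] (α : MulAut V) (h1 : α ≠ 1)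
    (h3 : α ^ 3 = 1) (u v : V) (hu : u ≠ 1) (hv : v ≠ 1) : v = u ∨ v = α u ∨ v = α (α u) := by
  -- a nontrivial automorphism of order 3 has no nonidentity fixed point
  have hfpf : ∀ β : MulAut V, β ≠ 1 → β ^ 3 = 1 → ∀ x : V, x ≠ 1 → β x ≠ x := by
    intro β hβ1 hβ3 x hx hfix
    apply hβ1
    have h2 : ∀ y : V, β (β y) = y := by
      intro y
      by_cases hy1 : y = 1
      · rw [hy1, map_one, map_one]
      by_cases hyx : y = x
      · rw [hyx, hfix, hfix]
      by_cases hby : β y = y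
      · rw [hby, hby]
      have hw1 : β y ≠ 1 := fun h => hy1 (by simpa using h)
      have hwx : β y ≠ x := by
        intro h
        apply hyx
        apply β.injective
        rw [h, hfix]
      have hw : β y = x * y := IsKleinFour.eq_mul_of_ne_all hx hy1 (Ne.symm hyx) hw1 hwx hby
      rw [hw, map_mul, hfix, hw, ← mul_assoc, IsKleinFour.mul_self, one_mul]
    have h2' : β ^ 2 = 1 := by
      ext y
      rw [pow_two, MulAut.mul_apply, h2, MulAut.one_apply]
    have : β = β ^ 3 * (β ^ 2)⁻¹ := by group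
    rw [this, hβ3, h2', inv_one, one_mul]
  have hα2 : α ^ 2 ≠ 1 := by
    intro h
    apply h1
    have : α = α ^ 3 * (α ^ 2)⁻¹ := by group
    rw [this, h3, h, inv_one, one_mul]
  have hα23 : (α ^ 2) ^ 3 = 1 := by
    rw [← pow_mul, mul_comm, pow_mul, h3, one_pow]
  have hau1 : α u ≠ 1 := fun h => hu (by simpa using h)
  have hau : α u ≠ u := hfpf α h1 h3 u hu
  have haau : α (α u) ≠ α u := hfpf α h1 h3 (α u) hau1
  have haau' : α (α u) ≠ u := by
    have := hfpf (α ^ 2) hα2 hα23 u hu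
    rwa [pow_two, MulAut.mul_apply] at this
  have haau1 : α (α u) ≠ 1 := fun h => hau1 (by simpa using h)
  by_cases hvu : v = u
  · left; exact hvu
  by_cases hvau : v = α u
  · right; left; exact hvau
  right; right
  have e1 : v = u * α u := IsKleinFour.eq_mul_of_ne_all hu hau1 (Ne.symm hau) hv hvu hvau
  have e2 : α (α u) = u * α u :=
    IsKleinFour.eq_mul_of_ne_all hu hau1 (Ne.symm hau) haau1 haau' haau
  rw [e1, e2]

/-- conjugacy of the involutions of a four-subgroup with a 3-element in its automizer -/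
theorem isConj_of_aut {X : Type*} [Group X] (U : Subgroup X) (hU : IsKleinFour U) (g : X)
    (hg : g ∈ normalizer (U : Set X)) (h1 : U.normalizerMonoidHom ⟨g, hg⟩ ≠ 1)
    (h3 : (U.normalizerMonoidHom ⟨g, hg⟩) ^ 3 = 1) (u v : X) (hu : u ∈ U) (hv : v ∈ U)
    (hu1 : u ≠ 1) (hv1 : v ≠ 1) : IsConj u v := by
  set α := U.normalizerMonoidHom ⟨g, hg⟩ with hα
  have hαx : ∀ x : ↥U, ((α x : ↥U) : X) = g * x * g⁻¹ := fun x => rfl
  have hu1' : (⟨u, hu⟩ : ↥U) ≠ 1 := fun h => hu1 (congrArg Subtype.val h)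
  have hv1' : (⟨v, hv⟩ : ↥U) ≠ 1 := fun h => hv1 (congrArg Subtype.val h)
  rcases kleinFour_aut_transitive α h1 h3 ⟨u, hu⟩ ⟨v, hv⟩ hu1' hv1' with h | h | h
  · have : v = u := congrArg Subtype.val h
    rw [this]
  · have : v = g * u * g⁻¹ := by
      have := congrArg Subtype.val h
      rwa [hαx] at this
    rw [this]
    exact isConj_iff.mpr ⟨g, rfl⟩
  · have : v = g * (g * u * g⁻¹) * g⁻¹ := by
      have := congrArg Subtype.val h
      rwa [hαx, hαx] at this
    rw [this]
    exact isConj_iff.mpr ⟨g * g, by group⟩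

theorem isConj_of_three_dvd {X : Type*} [Group X] [Finite X] (U : Subgroup X) (hU : IsKleinFour U)
    (h3 : 3 ∣ (centralizer (U : Set X)).relIndex (normalizer (U : Set X))) (u v : X) (hu : u ∈ U)
    (hv : v ∈ U) (hu1 : u ≠ 1) (hv1 : v ≠ 1) : IsConj u v := by
  have : Fact (Nat.Prime 3) := ⟨Nat.prime_three⟩
  have hidx : (centralizer (U : Set X)).relIndex (normalizer (U : Set X)) =
      Nat.card U.normalizerMonoidHom.range := by
    rw [← Subgroup.index_ker, Subgroup.normalizerMonoidHom_ker]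
    rfl
  rw [hidx] at h3
  obtain ⟨⟨α, g, hgα⟩, hα⟩ := exists_prime_orderOf_dvd_card' 3 h3
  have hα' : orderOf α = 3 := by
    rw [← hα]
    exact (Subgroup.orderOf_coe (⟨α, g, hgα⟩ : U.normalizerMonoidHom.range))
  obtain ⟨g, hg⟩ := g
  have h1 : U.normalizerMonoidHom ⟨g, hg⟩ ≠ 1 := by
    rw [hgα]
    intro h
    rw [h, orderOf_one] at hα'
    norm_num at hα'
  have h3' : (U.normalizerMonoidHom ⟨g, hg⟩) ^ 3 = 1 := by
    rw [hgα, ← hα']
    exact pow_orderOf_eq_one α
  exact isConj_of_aut U hU g hg h1 h3' u v hu hv hu1 hv1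

section
variable {X : Type*} [Group X] [Finite X] {S : Sylow 2 X} {m : ℕ}

theorem all_conj [NeZero m] (hm2 : 2 ∣ m) (e : ↥(S : Subgroup X) ≃* DihedralGroup m)
    (hzs : IsConj (emb e (dihZ m)) (emb e (sr 0))) (hzt : IsConj (emb e (dihZ m)) (emb e (sr 1)))
    (a b : X) (ha : orderOf a = 2) (hb : orderOf b = 2) : IsConj a b := by
  have h : ∀ c : X, orderOf c = 2 → IsConj c (emb e (dihZ m)) := by
    intro c hc
    rcases invol_conj hm2 e c hc with h | h | h
    · exact h
    · exact h.trans hzs.symm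
    · exact h.trans hzt.symm
  exact (h a ha).trans (h b hb).symm

theorem card_sylow_eq (e : ↥(S : Subgroup X) ≃* DihedralGroup m) :
    Nat.card ↥(S : Subgroup X) = 2 * m := by
  rw [Nat.card_congr e.toEquiv, DihedralGroup.nat_card]

theorem exists_index_two_of_npc (hm : 1 ≤ m) (e : ↥(S : Subgroup X) ≃* DihedralGroup m)
    (hnpc : HasNormalPComplement 2 X) : ∃ H : Subgroup X, H.index = 2 := by
  have : Fact (Nat.Prime 2) := ⟨Nat.prime_two⟩
  obtain ⟨P', K, hKn, hK⟩ := hnpc
  have hcard : Nat.card ↥(P' : Subgroup X) = 2 * m := by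
    rw [P'.card_eq_multiplicity, ← S.card_eq_multiplicity]
    exact card_sylow_eq e
  obtain ⟨j, hj⟩ := IsPGroup.iff_card.mp P'.2
  have hj1 : 1 ≤ j := by
    rcases Nat.eq_zero_or_pos j with rfl | h
    · rw [pow_zero] at hj; omega
    · exact h
  obtain ⟨i, rfl⟩ : ∃ i, j = i + 1 := ⟨j - 1, by omega⟩
  have hq : Nat.card (X ⧸ K) = 2 ^ (i + 1) := by
    rw [← Subgroup.index_eq_card, hK.symm.index_eq_card, hj]
  obtain ⟨H', hH'⟩ := Sylow.exists_subgroup_card_pow_prime 2 (G := X ⧸ K) (n := i)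
    (by rw [hq]; exact pow_dvd_pow 2 (Nat.le_succ i))
  have hidx : H'.index = 2 := by
    have h1 := H'.card_mul_index
    rw [hH', hq, pow_succ] at h1
    exact Nat.eq_of_mul_eq_mul_left (pow_pos (by norm_num) i) h1
  refine ⟨H'.comap (QuotientGroup.mk' K), ?_⟩
  rw [Subgroup.index_comap_of_surjective _ (QuotientGroup.mk'_surjective K)]
  exact hidx

theorem dihZ_ne_sr (i : ZMod m) : dihZ m ≠ sr i := by
  unfold dihZ
  simp

theorem emb_comm [NeZero m] (hm2 : 2 ∣ m) (e : ↥(S : Subgroup X) ≃* DihedralGroup m)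
    (d : DihedralGroup m) : emb e (dihZ m) * emb e d = emb e d * emb e (dihZ m) := by
  rw [← map_mul, ← map_mul, dihZ_central hm2 d]

theorem mul_self_emb (e : ↥(S : Subgroup X) ≃* DihedralGroup m) (d : DihedralGroup m)
    (h : orderOf d = 2) : emb e d * emb e d = 1 := by
  rw [← map_mul, mul_self_of_orderOf_two d h, map_one]

theorem emb_ne_one (e : ↥(S : Subgroup X) ≃* DihedralGroup m) (d : DihedralGroup m)
    (h : orderOf d = 2) : emb e d ≠ 1 :=
  ne_one_of_orderOf_two _ (by rw [orderOf_emb]; exact h)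

theorem not_isolated [NeZero m] (hm2 : 2 ∣ m) (e : ↥(S : Subgroup X) ≃* DihedralGroup m)
    (hA : ∀ a b : X, orderOf a = 2 → orderOf b = 2 → IsConj a b) (z' : X) :
    ¬ Cfsg.IsIsolatedInvolution z' := by
  rintro ⟨ho, hiso⟩
  have hz2 : orderOf (emb e (dihZ m)) = 2 := by rw [orderOf_emb, orderOf_dihZ hm2]
  have hs2 : orderOf (emb e (sr 0)) = 2 := by rw [orderOf_emb, orderOf_sr]
  obtain ⟨h, hh⟩ := isConj_iff.mp (hA z' _ ho hz2)
  obtain ⟨k, hk⟩ := isConj_iff.mp (hA z' _ ho hs2)
  have hcomm := emb_comm hm2 e (sr 0)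
  have hz' : z' = h⁻¹ * emb e (dihZ m) * h := by rw [← hh]; group
  have hg : (h⁻¹ * k) * z' * (h⁻¹ * k)⁻¹ = h⁻¹ * emb e (sr 0) * h := by
    rw [← hk]; group
  have hc : Commute z' ((h⁻¹ * k) * z' * (h⁻¹ * k)⁻¹) := by
    rw [hg]
    show z' * (h⁻¹ * emb e (sr 0) * h) = (h⁻¹ * emb e (sr 0) * h) * z'
    rw [hz']
    have e1 : h⁻¹ * emb e (dihZ m) * h * (h⁻¹ * emb e (sr 0) * h) =
        h⁻¹ * (emb e (dihZ m) * emb e (sr 0)) * h := by group
    have e2 : h⁻¹ * emb e (sr 0) * h * (h⁻¹ * emb e (dihZ m) * h) =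
        h⁻¹ * (emb e (sr 0) * emb e (dihZ m)) * h := by group
    rw [e1, e2, hcomm]
  have h3 := hiso _ hc
  rw [hg, hz'] at h3
  have h4 : emb e (sr 0) = emb e (dihZ m) := by
    have := congrArg (fun x => h * x * h⁻¹) h3
    simpa [mul_assoc] using this
  exact dihZ_ne_sr 0 (emb_injective e h4).symm

theorem isKleinFour_sylow (e : ↥(S : Subgroup X) ≃* DihedralGroup 2) :
    IsKleinFour ↥(S : Subgroup X) := by
  apply isKleinFour_of_card_of_sq
  · rw [card_sylow_eq e]
  · intro x
    apply e.injective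
    rw [map_mul, map_one]
    exact IsKleinFour.mul_self _

theorem klein_case (e : ↥(S : Subgroup X) ≃* DihedralGroup 2)
    (hnot : ¬ (IsConj (emb e (dihZ 2)) (emb e (sr 0)) ∧ IsConj (emb e (dihZ 2)) (emb e (sr 1)))) :
    ∃ H : Subgroup X, H.index = 2 := by
  have : Fact (Nat.Prime 2) := ⟨Nat.prime_two⟩
  have hm2 : 2 ∣ 2 := dvd_refl 2
  apply exists_index_two_of_npc (by norm_num) e
  apply frobCond_iff.mp
  apply frobCond_of_sylow S
  intro Q hQS g hg hodd
  rcases mem_centralizer_or_isKleinFour Q (S.2.to_le hQS)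
    ((dihLike_of_mulEquiv_dihedralGroup (S : Subgroup X) 2 e).of_le hQS) g hg hodd with h | hK
  · exact h
  by_contra hgc
  apply hnot
  have hQeq : Q = (S : Subgroup X) :=
    Subgroup.eq_of_le_of_card_ge hQS (by rw [hK.card_four, card_sylow_eq e])
  set α := Q.normalizerMonoidHom ⟨g, hg⟩ with hα
  have h1 : α ≠ 1 := by
    intro h
    apply hgc
    have hker : (⟨g, hg⟩ : ↥(normalizer (Q : Set X))) ∈ Q.normalizerMonoidHom.ker := h
    rw [Subgroup.normalizerMonoidHom_ker, Subgroup.mem_subgroupOf] at hker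
    exact hker
  have h3 : α ^ 3 = 1 := by
    apply orderOf_dvd_iff_pow_eq_one.mp
    have hd6 : orderOf α ∣ 2 * 3 := by
      haveI := hK
      have : Finite (MulAut ↥Q) := Nat.finite_of_card_ne_zero (by
        intro h0
        have := Cfsg.Agent.S0992.card_mulAut_kleinFour_dvd ↥Q
        rw [h0] at this
        simp at this)
      exact (orderOf_dvd_natCard α).trans (Cfsg.Agent.S0992.card_mulAut_kleinFour_dvd ↥Q)
    have hdg : orderOf α ∣ orderOf g := by
      have h5 : orderOf α ∣ orderOf (⟨g, hg⟩ : ↥(normalizer (Q : Set X))) :=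
        orderOf_map_dvd Q.normalizerMonoidHom _
      rwa [Subgroup.orderOf_mk] at h5
    have hcop : (orderOf α).Coprime 2 := Nat.Coprime.coprime_dvd_left hdg hodd
    exact hcop.dvd_of_dvd_mul_left hd6
  have hmemQ : ∀ d : DihedralGroup 2, emb e d ∈ Q := by
    intro d; rw [hQeq]; exact emb_mem e d
  have hz1 : emb e (dihZ 2) ≠ 1 := emb_ne_one e _ (orderOf_dihZ hm2)
  exact ⟨isConj_of_aut Q hK g hg h1 h3 _ _ (hmemQ _) (hmemQ _) hz1 (emb_ne_one e _ (orderOf_sr 0)),
    isConj_of_aut Q hK g hg h1 h3 _ _ (hmemQ _) (hmemQ _) hz1 (emb_ne_one e _ (orderOf_sr 1))⟩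

theorem no_index_two_klein (e : ↥(S : Subgroup X) ≃* DihedralGroup 2)
    (hA : ∀ a b : X, orderOf a = 2 → orderOf b = 2 → IsConj a b) (H : Subgroup X) :
    H.index ≠ 2 := by
  have : Fact (Nat.Prime 2) := ⟨Nat.prime_two⟩
  intro h2
  haveI hHn : H.Normal := Subgroup.normal_of_index_eq_two h2
  have hnle : ¬ (S : Subgroup X) ≤ H := by
    intro hle
    have := Subgroup.index_dvd_of_le hle
    rw [h2] at this
    exact not_two_dvd_index S this
  obtain ⟨x, hxS, hxH⟩ := SetLike.not_le_iff_exists.mp hnle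
  have hx1 : x ≠ 1 := by
    rintro rfl
    exact hxH (Subgroup.one_mem _)
  have hx2 : orderOf x = 2 := by
    haveI := isKleinFour_sylow e
    have h3 : (⟨x, hxS⟩ : ↥(S : Subgroup X)) * ⟨x, hxS⟩ = 1 := IsKleinFour.mul_self _
    have h4 : x * x = 1 := congrArg Subtype.val h3
    exact orderOf_eq_prime (by rw [pow_two]; exact h4) hx1
  have h4dvd : 4 ∣ Nat.card X := by
    have := Subgroup.card_subgroup_dvd_card (S : Subgroup X)
    rwa [card_sylow_eq e] at this
  have h2dvd : 2 ∣ Nat.card H := by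
    have h5 := H.card_mul_index
    rw [h2] at h5
    omega
  obtain ⟨y, hy⟩ := exists_prime_orderOf_dvd_card' 2 h2dvd
  have hy2 : orderOf (y : X) = 2 := by rw [Subgroup.orderOf_coe]; exact hy
  exact hxH (mem_of_isConj H (hA _ _ hy2 hx2) y.2)

end

/-- Let X be a finite group whose Sylow 2-subgroup S is dihedral of order 2m ≥ 4. Then X has no subgroup of index 2 and no isolated involution if and only if either all involutions of X are conjugate, or for every Klein four-subgroup U ≤ S the index |N_X(U) : C_X(U)| equals 3 when |S| = 4 and equals 6 when |S| > 4. -/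
theorem result {X : Type*} [Group X] [Finite X] (S : Sylow 2 X) (m : ℕ) (hm : 2 ≤ m) (eS : (S : Subgroup X) ≃* DihedralGroup m) : ((∀ H : Subgroup X, H.index ≠ 2) ∧ (∀ z : X, ¬ Cfsg.IsIsolatedInvolution z)) ↔ ((∀ a b : X, orderOf a = 2 → orderOf b = 2 → IsConj a b) ∨ (∀ U : Subgroup X, U ≤ S → IsKleinFour U → (Subgroup.centralizer (U : Set X)).relIndex (Subgroup.normalizer (U : Set X)) = (if Nat.card S = 4 then 3 else 6))) := by
  have : Fact (Nat.Prime 2) := ⟨Nat.prime_two⟩
  haveI : NeZero m := ⟨by omega⟩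
  have hcard : Nat.card ↥(S : Subgroup X) = 2 * m := card_sylow_eq eS
  obtain ⟨j, hj⟩ := IsPGroup.iff_card.mp S.2
  have hj2 : 2 ≤ j := by
    by_contra h
    have hj1 : j ≤ 1 := by omega
    interval_cases j <;> omega
  obtain ⟨i, rfl⟩ : ∃ i, j = i + 2 := ⟨j - 2, by omega⟩
  have hm_eq : m = 2 ^ (i + 1) := by
    rw [hj, pow_succ] at hcard
    omega
  have hm2 : 2 ∣ m := by rw [hm_eq]; exact dvd_pow_self 2 (by omega)
  have hcases : m = 2 ∨ 4 ∣ m := by
    rcases Nat.eq_zero_or_pos i with rfl | hi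
    · left; simpa using hm_eq
    · right
      obtain ⟨i', rfl⟩ : ∃ i', i = i' + 1 := ⟨i - 1, by omega⟩
      rw [hm_eq, pow_succ, pow_succ]
      exact ⟨2 ^ i', by ring⟩
  have hz2 : orderOf (emb eS (dihZ m)) = 2 := by rw [orderOf_emb, orderOf_dihZ hm2]
  have hs2 : orderOf (emb eS (sr 0)) = 2 := by rw [orderOf_emb, orderOf_sr]
  have ht2 : orderOf (emb eS (sr 1)) = 2 := by rw [orderOf_emb, orderOf_sr]
  constructor
  · rintro ⟨hno2, -⟩
    left
    by_cases h : IsConj (emb eS (dihZ m)) (emb eS (sr 0)) ∧ IsConj (emb eS (dihZ m)) (emb eS (sr 1))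
    · exact all_conj hm2 eS h.1 h.2
    exfalso
    have hex : ∃ H : Subgroup X, H.index = 2 := by
      rcases hcases with rfl | h4
      · exact klein_case eS h
      by_cases hzs : IsConj (emb eS (dihZ m)) (emb eS (sr 0))
      · by_cases hzt : IsConj (emb eS (dihZ m)) (emb eS (sr 1))
        · exact absurd ⟨hzs, hzt⟩ h
        · obtain ⟨⟨N, -, hN2⟩, -⟩ := caseII h4 eS hzs hzt
          exact ⟨N, hN2⟩
      · by_cases hzt : IsConj (emb eS (dihZ m)) (emb eS (sr 1))
        · set e' := eS.trans (dihSwap m) with he'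
          have h0 : emb e' (sr 0) = emb eS (sr 1) := by
            rw [he', emb_trans, dihSwap_symm_sr, sub_zero]
          have h1 : emb e' (sr 1) = emb eS (sr 0) := by
            rw [he', emb_trans, dihSwap_symm_sr, sub_self]
          have hz : emb e' (dihZ m) = emb eS (dihZ m) := by
            rw [he', emb_trans, dihSwap_symm_dihZ hm2]
          obtain ⟨⟨N, -, hN2⟩, -⟩ := caseII h4 e' (by rw [hz, h0]; exact hzt)
            (by rw [hz, h1]; exact hzs)
          exact ⟨N, hN2⟩
        · exact exists_index_two_of_npc (by omega) eS (caseIII h4 eS hzs hzt).1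
    obtain ⟨H, hH⟩ := hex
    exact hno2 H hH
  · intro hR
    have hz1 : emb eS (dihZ m) ≠ 1 := ne_one_of_orderOf_two _ hz2
    have hs1 : emb eS (sr 0) ≠ 1 := ne_one_of_orderOf_two _ hs2
    have ht1 : emb eS (sr 1) ≠ 1 := ne_one_of_orderOf_two _ ht2
    have hconj : IsConj (emb eS (dihZ m)) (emb eS (sr 0)) ∧
        IsConj (emb eS (dihZ m)) (emb eS (sr 1)) := by
      rcases hR with hA | hU
      · exact ⟨hA _ _ hz2 hs2, hA _ _ hz2 ht2⟩
      rcases hcases with rfl | h4
      · have hK := isKleinFour_sylow eS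
        have h3 := hU (S : Subgroup X) le_rfl hK
        rw [if_pos hcard] at h3
        have h3' : 3 ∣ (centralizer ((S : Subgroup X) : Set X)).relIndex
            (normalizer ((S : Subgroup X) : Set X)) := by rw [h3]
        exact ⟨isConj_of_three_dvd _ hK h3' _ _ (emb_mem eS _) (emb_mem eS _) hz1 hs1,
          isConj_of_three_dvd _ hK h3' _ _ (emb_mem eS _) (emb_mem eS _) hz1 ht1⟩
      · have hne4 : Nat.card ↥(S : Subgroup X) ≠ 4 := by
          rw [hcard]
          obtain ⟨k, rfl⟩ := h4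
          omega
        have key : ∀ d : DihedralGroup m, orderOf d = 2 → dihZ m ≠ d →
            IsConj (emb eS (dihZ m)) (emb eS d) := by
          intro d hd hne
          have hd1 : emb eS d ≠ 1 := emb_ne_one eS d hd
          have hzd : emb eS (dihZ m) ≠ emb eS d := fun h => hne (emb_injective eS h)
          set U := kleinOf (emb eS (dihZ m)) (emb eS d) (mul_self_emb eS _ (orderOf_dihZ hm2))
            (mul_self_emb eS d hd) (emb_comm hm2 eS d) with hUdef
          have hUS : U ≤ (S : Subgroup X) := by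
            intro x hx
            rcases mem_kleinOf.mp hx with rfl | rfl | rfl | rfl
            · exact Subgroup.one_mem _
            · exact emb_mem eS _
            · exact emb_mem eS _
            · exact Subgroup.mul_mem _ (emb_mem eS _) (emb_mem eS _)
          have hK : IsKleinFour U := isKleinFour_kleinOf _ _ _ hz1 hd1 hzd
          have h3 := hU U hUS hK
          rw [if_neg hne4] at h3
          have h3' : 3 ∣ (centralizer (U : Set X)).relIndex (normalizer (U : Set X)) := by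
            rw [h3]; norm_num
          exact isConj_of_three_dvd U hK h3' _ _ (mem_kleinOf.mpr (Or.inr (Or.inl rfl)))
            (mem_kleinOf.mpr (Or.inr (Or.inr (Or.inl rfl)))) hz1 hd1
        exact ⟨key _ (orderOf_sr 0) (dihZ_ne_sr 0), key _ (orderOf_sr 1) (dihZ_ne_sr 1)⟩
    have hA := all_conj hm2 eS hconj.1 hconj.2
    refine ⟨?_, not_isolated hm2 eS hA⟩
    intro H
    rcases hcases with rfl | h4
    · exact no_index_two_klein eS hA H
    · intro h2
      exact caseI h4 eS hconj.1 hconj.2 H (Subgroup.normal_of_index_eq_two h2) h2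

end Cfsg.Agent.S1255
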