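import Cfsg.Statements.S1256
import Cfsg.Agent.Lib.Helper27.DihFour6

set_option autoImplicit false
open Cfsg

namespace Cfsg.Agent.S1256

/-- Let X be a finite group whose Sylow 2-subgroup S is dihedral of order 2m ≥ 4. If |S| = 4, any two Klein four-subgroups of X are conjugate; if |S| > 4, there are Klein four-subgroups U₁, U₂ of X that are not conjugate, and every Klein four-subgroup of X is conjugate to U₁ or to U₂. -/
theorem result {X : Type*} [Group X] [Finite X] (S : Sylow 2 X) (m : ℕ) (hm : 2 ≤ m) (eS : (S : Subgroup X) ≃* DihedralGroup m) : (Nat.card S = 4 → ∀ U V : Subgroup X, IsKleinFour U → IsKleinFour V → (∃ x : X, U.map (MulAut.conj x).toMonoidHom = V)) ∧ (4 < Nat.card S → ∃ U₁ U₂ : Subgroup X, IsKleinFour U₁ ∧ IsKleinFour U₂ ∧ ¬ (∃ x : X, U₁.map (MulAut.conj x).toMonoidHom = U₂) ∧ ∀ V : Subgroup X, IsKleinFour V → (∃ x : X, V.map (MulAut.conj x).toMonoidHom = U₁) ∨ (∃ x : X, V.map (MulAut.conj x).toMonoidHom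 = U₂)) := by
  classical
  open Cfsg.Agent.Lib.Helper27.DihFour in
  refine ⟨?_, ?_⟩
  · intro hS4 U V hU hV
    have hS4' : Nat.card ↥(S : Subgroup X) = 4 := hS4
    have hkU := (isKleinFour_iff U).mp hU
    have hkV := (isKleinFour_iff V).mp hV
    have hU2 : IsPGroup 2 U := IsPGroup.of_card (n := 2) (by rw [hkU.1]; norm_num)
    have hV2 : IsPGroup 2 V := IsPGroup.of_card (n := 2) (by rw [hkV.1]; norm_num)
    obtain ⟨g, hg⟩ := exists_cj_le_sylow S hU2
    obtain ⟨h, hh⟩ := exists_cj_le_sylow S hV2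
    have hgU : cj g U = (S : Subgroup X) :=
      Subgroup.eq_of_le_of_card_ge hg (by rw [card_cj, hkU.1, hS4'])
    have hhV : cj h V = (S : Subgroup X) :=
      Subgroup.eq_of_le_of_card_ge hh (by rw [card_cj, hkV.1, hS4'])
    refine ⟨h⁻¹ * g, ?_⟩
    show cj (h⁻¹ * g) U = V
    rw [cj_mul, hgU, ← hhV, cj_inv_cj]
  · intro h4
    have h4' : 4 < Nat.card ↥(S : Subgroup X) := h4
    have D := dih_of_equiv (S : Subgroup X) S.2 m eS h4'
    obtain ⟨t₀, ht₀, ht₀C⟩ := D.exists_not_mem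
    refine ⟨D.V t₀ ht₀ ht₀C,
      D.V (_ * t₀) (D.c_mul_refl_mem ht₀) (D.c_mul_refl_not_mem ht₀ ht₀C),
      (isKleinFour_iff _).mpr (D.kf_V _ _), (isKleinFour_iff _).mpr (D.kf_V _ _),
      D.not_conj S ht₀ ht₀C, ?_⟩
    intro V hV
    obtain ⟨g, hg | hg⟩ := D.classes S ht₀ ht₀C ((isKleinFour_iff V).mp hV)
    · exact Or.inl ⟨g, hg⟩
    · exact Or.inr ⟨g, hg⟩

end Cfsg.Agent.S1256
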