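import Cfsg.Statements.S1271
import Cfsg.Agent.Lib.Helper12.HatLayer4

set_option autoImplicit false
open Cfsg

namespace Cfsg.Agent.S1271

/-- Let G be finite with O_{p'}(G) = 1. Suppose that for every component L of G and every subgroup H ≥ L in which L is normal, the quotient H / C_H(L) is balanced for the prime p. Then G is balanced for p. -/
theorem result {G : Type*} [Group G] [Finite G] (p : ℕ) [Fact p.Prime] (hO : Cfsg.pPrimeCore p G = ⊥) (h : ∀ L : Subgroup G, Cfsg.IsComponent L → ∀ H : Subgroup G, L ≤ H → (L.subgroupOf H).Normal → ∀ [((Subgroup.centralizer (L : Set G)).subgroupOf H).Normal], Cfsg.IsBalancedFor p (↥H ⧸ (Subgroup.centralizer (L : Set G)).subgroupOf H)) : Cfsg.IsBalancedFor p G := by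
  intro x hx
  obtain ⟨hDcard, hDx, hCD, hR, hDR, hND⟩ :=
    Cfsg.Agent.Lib.Helper12.centralizerPPrimeCore_facts (p := p) hx
  have hPD : ⁅Cfsg.pCore p G, Cfsg.centralizerPPrimeCore p x⁆ = ⊥ :=
    Cfsg.Agent.Lib.Helper12.commutator_pCore_eq_bot_of_normalizer_le hR hDcard hDR hND
  -- `D` centralizes `F*(G)`
  have hcent : Cfsg.centralizerPPrimeCore p x ≤
      Subgroup.centralizer ((Cfsg.generalizedFittingSubgroup G : Subgroup G) : Set G) := by
    rw [Subgroup.le_centralizer_iff]
    unfold Cfsg.generalizedFittingSubgroup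
    apply sup_le
    · apply Cfsg.Agent.Lib.Helper9.layer_le_of_forall_component_le
      intro L hL
      rw [← Subgroup.commutator_eq_bot_iff_le_centralizer]
      by_cases hne : ⁅L, Subgroup.zpowers x⁆ = L
      · exact Cfsg.Agent.Lib.Helper12.commutator_component_centralizerPPrimeCore_of_balanced hO hx hL
          hne (fun H hLH hLn => h L hL H hLH hLn)
      · exact Cfsg.Agent.Lib.Helper12.commutator_component_centralizerPPrimeCore hO hx hL hne
    · rw [Cfsg.Agent.Lib.Helper9.fittingSubgroup_eq_pCore_of_pPrimeCore_eq_bot p hO,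
        ← Subgroup.commutator_eq_bot_iff_le_centralizer]
      exact hPD
  -- hence `D` is a subnormal `p'`-subgroup
  set CF : Subgroup G :=
    Subgroup.centralizer ((Cfsg.generalizedFittingSubgroup G : Subgroup G) : Set G) with hCF
  have hCFle : CF ≤ Cfsg.generalizedFittingSubgroup G :=
    Cfsg.Agent.Lib.Helper9.centralizer_generalizedFittingSubgroup_le
  haveI hCFn : CF.Normal := Subgroup.normal_centralizer
  have hCFab : CF ≤ Subgroup.centralizer (CF : Set G) := by
    intro a ha
    rw [Subgroup.mem_centralizer_iff]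
    intro b hb
    exact Subgroup.mem_centralizer_iff.mp ha b (hCFle hb)
  have hsn : (Cfsg.centralizerPPrimeCore p x).IsSubnormal := by
    refine Subgroup.IsSubnormal.step _ CF hcent hCFn.isSubnormal ?_
    rw [Subgroup.normal_subgroupOf_iff_le_normalizer hcent]
    exact (hCFab.trans (Subgroup.centralizer_le hcent)).trans (Subgroup.centralizer_le_normalizer _)
  exact Cfsg.Agent.Lib.Helper9.subnormal_le_pPrimeCore p hsn hDcard

end Cfsg.Agent.S1271
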