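import Cfsg.Statements.S1281
import Cfsg.Agent.Lib.Helper8.SupNormalizer

set_option autoImplicit false
open Cfsg

namespace Cfsg.Agent.S1281

/-- Let θ be a solvable A-signalizer functor on the finite group G (A a noncyclic elementary abelian p-subgroup) and N a normal subgroup of order prime to p. Then for all non-identity a, b ∈ A, the image of θ a in G / N meets the centralizer of the image of b inside the image of θ b. -/
theorem result {G : Type*} [Group G] [Finite G] (p : ℕ) [Fact p.Prime] (A : Subgroup G) (hA : Cfsg.IsElementaryAbelian p A) (hA2 : p ^ 2 ≤ Nat.card ↥A) (θ : G → Subgroup G) (hθ : Cfsg.IsSolvableSignalizerFunctor p A θ) (N : Subgroup G) [N.Normal] (hN : ¬ p ∣ Nat.card ↥N) (a b : G) (ha : a ∈ A) (ha1 : a ≠ 1) (hb : b ∈ A) (hb1 : b ≠ 1) : (θ a).map (QuotientGroup.mk' N) ⊓ Subgroup.centralizer {QuotientGroup.mk' N b} ≤ (θ b).map (QuotientGroup.mk' N) := by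
  open Cfsg.Agent.Lib.Helper8 in
  have hp : p.Prime := Fact.out
  obtain ⟨⟨hθc, hθp, hθA, hθbal⟩, hθs⟩ := hθ
  have hob : orderOf b = p := orderOf_eq_prime (hA.2 b hb) hb1
  rintro gbar hg
  obtain ⟨hg1, hg2⟩ := Subgroup.mem_inf.mp hg
  obtain ⟨x, hx, rfl⟩ := hg1
  rw [Subgroup.mem_centralizer_singleton_iff] at hg2
  -- the coset x N is b-invariant
  have hnormA : Subgroup.zpowers b ≤ Subgroup.normalizer ((N : Subgroup G) : Set G) := by
    rw [Subgroup.normalizer_eq_top]; exact le_top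
  have hcop : Nat.Coprime (Nat.card (Subgroup.zpowers b)) (Nat.card N) := by
    rw [Nat.card_zpowers, hob, Nat.Prime.coprime_iff_not_dvd hp]; exact hN
  have hsolv : Group.IsSolvable (Subgroup.zpowers b) :=
    Group.isSolvable_of_comm (fun u v => by
      obtain ⟨i, hi⟩ := Subgroup.mem_zpowers_iff.mp u.2
      obtain ⟨j, hj⟩ := Subgroup.mem_zpowers_iff.mp v.2
      apply Subtype.ext
      show u.1 * v.1 = v.1 * u.1
      rw [← hi, ← hj, ← zpow_add, ← zpow_add, add_comm])
  have hcoset : ∀ b' ∈ Subgroup.zpowers b, x⁻¹ * b' * x * b'⁻¹ ∈ N := by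
    intro b' hb'
    obtain ⟨k, rfl⟩ := Subgroup.mem_zpowers_iff.mp hb'
    rw [← QuotientGroup.eq_one_iff, ← QuotientGroup.mk'_apply]
    have hc : Commute ((QuotientGroup.mk' N) x) ((QuotientGroup.mk' N) b) := hg2
    have hck := (hc.zpow_right k).eq
    simp only [map_mul, map_inv, map_zpow]
    calc ((QuotientGroup.mk' N) x)⁻¹ * (QuotientGroup.mk' N) b ^ k * (QuotientGroup.mk' N) x *
          ((QuotientGroup.mk' N) b ^ k)⁻¹
        = ((QuotientGroup.mk' N) x)⁻¹ * ((QuotientGroup.mk' N) b ^ k * (QuotientGroup.mk' N) x) *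
          ((QuotientGroup.mk' N) b ^ k)⁻¹ := by group
      _ = ((QuotientGroup.mk' N) x)⁻¹ * ((QuotientGroup.mk' N) x * (QuotientGroup.mk' N) b ^ k) *
          ((QuotientGroup.mk' N) b ^ k)⁻¹ := by rw [hck]
      _ = 1 := by group
  obtain ⟨n, hnN, hxn⟩ := Cfsg.Agent.Lib.Helper1.exists_mul_mem_centralizer hnormA hcop
    (Or.inl hsolv) x hcoset
  have hxnb : (x * n) * b = b * (x * n) := by
    have := Subgroup.mem_centralizer_iff.mp hxn b (Subgroup.mem_zpowers b)
    exact this.symm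
  have hmem : x * n ∈ N ⊔ θ a :=
    Subgroup.mul_mem _ (Subgroup.mem_sup_right hx) (Subgroup.mem_sup_left hnN)
  have hnrm : θ a ≤ Subgroup.normalizer ((N : Subgroup G) : Set G) := by
    rw [Subgroup.normalizer_eq_top]; exact le_top
  obtain ⟨n', hn', y', hy', hn'b, hy'b, hxy⟩ := centralizer_sup_factor hob
    (fun z hz => ‹N.Normal›.conj_mem z hz b) (hθA a ha ha1 b hb) hnrm hN hmem hxnb
  have hy'θ : y' ∈ θ b := hθbal a ha ha1 b hb hb1 (Subgroup.mem_inf.mpr ⟨hy', by
    rw [Subgroup.mem_centralizer_singleton_iff]; exact hy'b⟩)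
  refine ⟨y', hy'θ, ?_⟩
  have h1 : (QuotientGroup.mk' N) (x * n) = (QuotientGroup.mk' N) x := by
    have e : (QuotientGroup.mk' N) n = 1 := (QuotientGroup.eq_one_iff n).mpr hnN
    rw [map_mul, e, mul_one]
  have h2 : (QuotientGroup.mk' N) (n' * y') = (QuotientGroup.mk' N) y' := by
    have e : (QuotientGroup.mk' N) n' = 1 := (QuotientGroup.eq_one_iff n').mpr hn'
    rw [map_mul, e, one_mul]
  rw [← h1, hxy, h2]

end Cfsg.Agent.S1281
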