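import Cfsg.Statements.S1286
-- import your own Cfsg.Agent.* helpers here

set_option autoImplicit false
open Cfsg

namespace Cfsg.Agent.S1286

set_option maxRecDepth 1000000

abbrev P5 := Equiv.Perm (Fin 5)

def a : P5 := Equiv.swap 0 1
def b : P5 := Equiv.swap 2 3
def c1 : P5 := Equiv.swap 2 3 * Equiv.swap 3 4
def c2 : P5 := Equiv.swap 0 1 * Equiv.swap 1 4

def sA : Finset P5 := {1, a, b, a * b}

/-- the finset of values of the functor -/
def θs (x : P5) : Finset P5 :=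
  if x = a then {1, c1, c1 * c1} else if x = b then {1, c2, c2 * c2} else {1}

theorem θs_one_mem : ∀ x ∈ sA, (1 : P5) ∈ θs x := by decide
theorem θs_mul_mem : ∀ x ∈ sA, ∀ g ∈ θs x, ∀ h ∈ θs x, g * h ∈ θs x := by decide
theorem θs_inv_mem : ∀ x ∈ sA, ∀ g ∈ θs x, g⁻¹ ∈ θs x := by decide

theorem sA_mul_mem : ∀ x ∈ sA, ∀ y ∈ sA, x * y ∈ sA := by decide
theorem sA_inv_mem : ∀ x ∈ sA, x⁻¹ ∈ sA := by decide

def A : Subgroup P5 where
  carrier := ↑sA
  mul_mem' := fun {x y} hx hy => sA_mul_mem x hx y hy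
  one_mem' := by decide
  inv_mem' := fun {x} hx => sA_inv_mem x hx

theorem mem_A {x : P5} : x ∈ A ↔ x ∈ sA := Iff.rfl

/-- the functor: outside `A` we take the trivial subgroup -/
def θ (x : P5) : Subgroup P5 :=
  if hx : x ∈ sA then
    { carrier := ↑(θs x)
      mul_mem' := fun {g h} hg hh => θs_mul_mem x hx g hg h hh
      one_mem' := θs_one_mem x hx
      inv_mem' := fun {g} hg => θs_inv_mem x hx g hg }
  else ⊥

theorem mem_θ {x : P5} (hx : x ∈ sA) {g : P5} : g ∈ θ x ↔ g ∈ θs x := by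
  unfold θ
  rw [dif_pos hx]
  exact Iff.rfl

theorem card_θ {x : P5} (hx : x ∈ sA) : Nat.card ↥(θ x) = (θs x).card := by
  have : (↥(θ x)) = ↥(↑(θs x) : Set P5) := by
    unfold θ
    rw [dif_pos hx]
    rfl
  rw [this, Nat.card_coe_set_eq, Set.ncard_coe_finset]

theorem card_A : Nat.card ↥A = 4 := by
  have : (↥A) = ↥(↑sA : Set P5) := rfl
  rw [this, Nat.card_coe_set_eq, Set.ncard_coe_finset]
  decide

theorem h_cent : ∀ x ∈ sA, x ≠ 1 → ∀ g ∈ θs x, x * g = g * x := by decide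
theorem h_card : ∀ x ∈ sA, x ≠ 1 → ¬ 2 ∣ (θs x).card := by decide
theorem h_inv : ∀ x ∈ sA, x ≠ 1 → ∀ y ∈ sA, ∀ g ∈ θs x, y * g * y⁻¹ ∈ θs x := by decide
theorem h_bal : ∀ x ∈ sA, x ≠ 1 → ∀ y ∈ sA, y ≠ 1 → ∀ g ∈ θs x, y * g = g * y → g ∈ θs y := by decide
theorem h_comm : ∀ x ∈ sA, ∀ g ∈ θs x, ∀ h ∈ θs x, g * h = h * g := by decide
theorem hA_comm : ∀ x ∈ sA, ∀ y ∈ sA, x * y = y * x := by decide
theorem hA_sq : ∀ x ∈ sA, x ^ 2 = 1 := by decide

theorem isSignalizer : Cfsg.IsSignalizerFunctor 2 A θ := by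
  refine ⟨?_, ?_, ?_, ?_⟩
  · intro x hx hx1 g hg
    rw [Subgroup.mem_centralizer_iff]
    intro h hh
    rw [Set.mem_singleton_iff] at hh
    subst hh
    exact h_cent h hx hx1 g ((mem_θ hx).mp hg)
  · intro x hx hx1
    rw [card_θ hx]
    exact h_card x hx hx1
  · intro x hx hx1 y hy g hg
    exact (mem_θ hx).mpr (h_inv x hx hx1 y hy g ((mem_θ hx).mp hg))
  · intro x hx hx1 y hy hy1 g hg
    rw [Subgroup.mem_inf, Subgroup.mem_centralizer_iff] at hg
    have := hg.2 y (Set.mem_singleton y)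
    exact (mem_θ hy).mpr (h_bal x hx hx1 y hy hy1 g ((mem_θ hx).mp hg.1) this)

theorem ha_mem : a ∈ sA := by decide
theorem hb_mem : b ∈ sA := by decide
theorem ha_ne : a ≠ 1 := by decide
theorem hb_ne : b ≠ 1 := by decide
theorem hc1_mem : c1 ∈ θs a := by decide
theorem hc2_mem : c2 ∈ θs b := by decide
theorem hw_sq : (c1 * c2 * c1 * c2⁻¹) ^ 2 = 1 := by decide
theorem hw_ne : (c1 * c2 * c1 * c2⁻¹) ≠ 1 := by decide

/-- There exist a finite group X, an elementary abelian subgroup A of order 4 and a solvable A-signalizer functor θ on X for the prime 2 which is not complete. -/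
theorem result : ∃ (X : Type) (_ : Group X) (_ : Finite X) (A : Subgroup X) (θ : X → Subgroup X), Cfsg.IsElementaryAbelian 2 A ∧ Nat.card ↥A = 4 ∧ Cfsg.IsSolvableSignalizerFunctor 2 A θ ∧ ¬ Cfsg.IsCompleteSignalizerFunctor 2 A θ := by
  refine ⟨P5, inferInstance, inferInstance, A, θ, ?_, card_A, ⟨isSignalizer, ?_⟩, ?_⟩
  · refine ⟨⟨⟨?_⟩⟩, ?_⟩
    · rintro ⟨x, hx⟩ ⟨y, hy⟩
      exact Subtype.ext (hA_comm x hx y hy)
    · intro x hx
      exact hA_sq x hx
  · intro x hx hx1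
    apply Group.isSolvable_of_comm
    rintro ⟨g, hg⟩ ⟨h, hh⟩
    exact Subtype.ext (h_comm x hx g ((mem_θ hx).mp hg) h ((mem_θ hx).mp hh))
  · rintro ⟨_, X₀, _, hodd, hX⟩
    have h1 : c1 ∈ X₀ := by
      have : c1 ∈ θ a := (mem_θ ha_mem).mpr hc1_mem
      rw [← hX a ha_mem ha_ne] at this
      exact this.1
    have h2 : c2 ∈ X₀ := by
      have : c2 ∈ θ b := (mem_θ hb_mem).mpr hc2_mem
      rw [← hX b hb_mem hb_ne] at this
      exact this.1
    have hw : c1 * c2 * c1 * c2⁻¹ ∈ X₀ :=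
      X₀.mul_mem (X₀.mul_mem (X₀.mul_mem h1 h2) h1) (X₀.inv_mem h2)
    have hord : orderOf (c1 * c2 * c1 * c2⁻¹) = 2 := orderOf_eq_prime hw_sq hw_ne
    apply hodd
    rw [← hord]
    exact Subgroup.orderOf_dvd_natCard X₀ hw

end Cfsg.Agent.S1286
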