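import Cfsg.Statements.S1288
import Cfsg.Agent.Lib.Helper8.PPrimePCore
import Cfsg.Agent.Lib.Helper8.Hyperplane

set_option autoImplicit false
open Cfsg

namespace Cfsg.Agent.S1288

/-- Let A be a noncyclic elementary abelian p-subgroup of a finite group H normalizing a solvable subgroup K of order prime to p, q a prime dividing |K|, and U ≤ K a subgroup of order prime to q such that ⁅U, C_K(B)⁆ has order prime to q for every subgroup B of index p in A. Then U ≤ O_{q'}(K). -/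
theorem result {H : Type*} [Group H] [Finite H] (p : ℕ) [Fact p.Prime] (A K : Subgroup H) (hA : Cfsg.IsElementaryAbelian p A) (hA2 : p ^ 2 ≤ Nat.card ↥A) (hK : ¬ p ∣ Nat.card ↥K) (hKs : Group.IsSolvable ↥K) (hAK : A ≤ Subgroup.normalizer (K : Set H)) (q : ℕ) [Fact q.Prime] (hqK : q ∣ Nat.card ↥K) (U : Subgroup H) (hU : U ≤ K) (hUq : ¬ q ∣ Nat.card ↥U) (hcomm : ∀ B : Subgroup H, B ≤ A → B.relIndex A = p → ¬ q ∣ Nat.card ↥⁅U, K ⊓ Subgroup.centralizer (B : Set H)⁆) : U ≤ (Cfsg.pPrimeCore q ↥K).map K.subtype := by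
  open Cfsg.Agent.Lib.Helper8 in
  classical
  have hp : p.Prime := Fact.out
  have hqp : q.Prime := Fact.out
  haveI := hKs
  -- conjugation automorphisms of K
  let φ : ∀ g : H, g ∈ Subgroup.normalizer (K : Set H) → (↥K ≃* ↥K) := fun g hg =>
    { toFun := fun k => ⟨g * k * g⁻¹, (Subgroup.mem_normalizer_iff.mp hg k).mp k.2⟩
      invFun := fun k => ⟨g⁻¹ * k * g, by
        have h1 := (Subgroup.mem_normalizer_iff.mp hg (g⁻¹ * k * g)).mpr
        apply h1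
        have : g * (g⁻¹ * ↑k * g) * g⁻¹ = k := by group
        rw [this]; exact k.2⟩
      left_inv := fun k => Subtype.ext (by simp [mul_assoc])
      right_inv := fun k => Subtype.ext (by simp [mul_assoc])
      map_mul' := fun k l => Subtype.ext (by simp [mul_assoc]) }
  have hOinv : ∀ g ∈ Subgroup.normalizer (K : Set H),
      ∀ x ∈ (Cfsg.pPrimeCore q ↥K).map K.subtype, g * x * g⁻¹ ∈ (Cfsg.pPrimeCore q ↥K).map K.subtype := by
    rintro g hg _ ⟨x', hx', rfl⟩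
    have h1 : φ g hg x' ∈ (Cfsg.pPrimeCore q ↥K).map (φ g hg).toMonoidHom := ⟨x', hx', rfl⟩
    rw [Cfsg.Agent.Lib.Helper12.pPrimeCore_map_equiv] at h1
    exact ⟨φ g hg x', h1, rfl⟩
  have hRinv : ∀ g ∈ Subgroup.normalizer (K : Set H),
      ∀ x ∈ (Cfsg.pPrimePCore q ↥K).map K.subtype, g * x * g⁻¹ ∈ (Cfsg.pPrimePCore q ↥K).map K.subtype := by
    rintro g hg _ ⟨x', hx', rfl⟩
    have h1 : φ g hg x' ∈ (Cfsg.pPrimePCore q ↥K).map (φ g hg).toMonoidHom := ⟨x', hx', rfl⟩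
    exact ⟨φ g hg x', pPrimePCore_map_equiv_le q (φ g hg) h1, rfl⟩
  have hKN : K ≤ Subgroup.normalizer (K : Set H) := Subgroup.le_normalizer
  have hRK : (Cfsg.pPrimePCore q ↥K).map K.subtype ≤ K := Subgroup.map_subtype_le _
  -- the subgroup D
  let D : Subgroup H :=
    { carrier := {r | r ∈ (Cfsg.pPrimePCore q ↥K).map K.subtype ∧
        ∀ u ∈ U, u * r * u⁻¹ * r⁻¹ ∈ (Cfsg.pPrimeCore q ↥K).map K.subtype}
      one_mem' := ⟨Subgroup.one_mem _, fun u _ => by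
        have : u * 1 * u⁻¹ * (1 : H)⁻¹ = 1 := by group
        rw [this]; exact Subgroup.one_mem _⟩
      mul_mem' := by
        rintro r s ⟨hr, hr'⟩ ⟨hs, hs'⟩
        refine ⟨Subgroup.mul_mem _ hr hs, fun u hu => ?_⟩
        have : u * (r * s) * u⁻¹ * (r * s)⁻¹ =
            (u * r * u⁻¹ * r⁻¹) * (r * (u * s * u⁻¹ * s⁻¹) * r⁻¹) := by group
        rw [this]
        exact Subgroup.mul_mem _ (hr' u hu) (hOinv r (hKN (hRK hr)) _ (hs' u hu))
      inv_mem' := by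
        rintro r ⟨hr, hr'⟩
        refine ⟨Subgroup.inv_mem _ hr, fun u hu => ?_⟩
        have : u * r⁻¹ * u⁻¹ * r⁻¹⁻¹ = r⁻¹ * (u * r * u⁻¹ * r⁻¹)⁻¹ * r⁻¹⁻¹ := by group
        rw [this]
        exact hOinv r⁻¹ (hKN (hRK (Subgroup.inv_mem _ hr))) _ (Subgroup.inv_mem _ (hr' u hu)) }
  have hA1 : A ≠ ⊥ := by
    intro h
    rw [h, Subgroup.card_bot] at hA2
    have := hp.one_lt
    nlinarith
  have hAR : A ≤ Subgroup.normalizer (((Cfsg.pPrimePCore q ↥K).map K.subtype : Subgroup H) : Set H) :=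
    fun a ha => Cfsg.Agent.Lib.Helper1.mem_normalizer_of_forall_conj_mem _ a (hRinv a (hAK ha))
  have hAp : IsPGroup p A := by
    rintro ⟨g, hg⟩
    exact ⟨1, Subtype.ext (by simpa using hA.2 g hg)⟩
  have hcop : (Nat.card A).Coprime (Nat.card ((Cfsg.pPrimePCore q ↥K).map K.subtype : Subgroup H)) := by
    obtain ⟨k, hk⟩ := IsPGroup.iff_card.mp hAp
    rw [hk]
    apply Nat.Coprime.pow_left k
    rw [Nat.Prime.coprime_iff_not_dvd hp]
    intro h
    exact hK (h.trans (Subgroup.card_dvd_of_le hRK))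
  have hRD : (Cfsg.pPrimePCore q ↥K).map K.subtype ≤ D := by
    by_contra hnot
    obtain ⟨B, hBA, hBrel, hBn⟩ := exists_index_p_centralizer_not_le p A _ D hA hA1 hAR hcop hnot
    apply hBn
    rintro r ⟨hrR, hrB⟩
    refine ⟨hrR, fun u hu => ?_⟩
    have hrK : r ∈ K := hRK hrR
    have hw : u * r * u⁻¹ * r⁻¹ ∈ ⁅U, K ⊓ Subgroup.centralizer (B : Set H)⁆ :=
      Subgroup.commutator_mem_commutator hu ⟨hrK, hrB⟩
    have hwR : u * r * u⁻¹ * r⁻¹ ∈ (Cfsg.pPrimePCore q ↥K).map K.subtype :=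
      Subgroup.mul_mem _ (hRinv u (hKN (hU hu)) r hrR) (Subgroup.inv_mem _ hrR)
    obtain ⟨w', hw', hw'e⟩ := hwR
    have hord : (orderOf w').Coprime q := by
      have h1 : orderOf w' = orderOf (u * r * u⁻¹ * r⁻¹) := by
        rw [← hw'e]; exact (Subgroup.orderOf_coe w').symm
      rw [h1]
      have h2 := Subgroup.orderOf_dvd_natCard _ hw
      have h3 : (Nat.card ↥⁅U, K ⊓ Subgroup.centralizer (B : Set H)⁆).Coprime q :=
        ((Nat.Prime.coprime_iff_not_dvd hqp).mpr (hcomm B hBA hBrel)).symm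
      exact Nat.Coprime.coprime_dvd_left h2 h3
    exact ⟨w', mem_pPrimeCore_of_mem_pPrimePCore_of_coprime q hw' hord, hw'e⟩
  intro u hu
  have huK : u ∈ K := hU hu
  have h1 : (⟨u, huK⟩ : ↥K) ∈ Cfsg.pPrimePCore q ↥K := by
    apply mem_pPrimePCore_of_commutator_mem
    intro r' hr'
    have hrD : (r' : H) ∈ D := hRD ⟨r', hr', rfl⟩
    obtain ⟨o', ho', ho'e⟩ := hrD.2 u hu
    have : o' = ⟨u, huK⟩ * r' * (⟨u, huK⟩ : ↥K)⁻¹ * r'⁻¹ := Subtype.ext ho'e
    rw [← this]; exact ho'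
  have h2 : (orderOf (⟨u, huK⟩ : ↥K)).Coprime q := by
    have h3 : orderOf (⟨u, huK⟩ : ↥K) = orderOf u := Subgroup.orderOf_mk u huK
    rw [h3]
    have h4 := Subgroup.orderOf_dvd_natCard _ hu
    exact Nat.Coprime.coprime_dvd_left h4 ((Nat.Prime.coprime_iff_not_dvd hqp).mpr hUq).symm
  exact ⟨⟨u, huK⟩, mem_pPrimeCore_of_mem_pPrimePCore_of_coprime q h1 h2, rfl⟩

end Cfsg.Agent.S1288
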