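import Cfsg.Statements.S1292
import Cfsg.Agent.Lib.Helper9.PLocal2

set_option autoImplicit false
open Cfsg

namespace Cfsg.Agent.S1292

/-- Let G be a finite group such that F*(C_G(t)) = O_2(C_G(t)) for every involution t. Then F*(N_G(T)) = O_2(N_G(T)) for every nontrivial 2-subgroup T of G. -/
theorem result {G : Type*} [Group G] [Finite G] (h : ∀ t : G, orderOf t = 2 → Cfsg.generalizedFittingSubgroup ↥(Subgroup.centralizer ({t} : Set G)) = Cfsg.pCore 2 ↥(Subgroup.centralizer ({t} : Set G))) (T : Subgroup G) (hT : IsPGroup 2 ↥T) (hT1 : T ≠ ⊥) : Cfsg.generalizedFittingSubgroup ↥(Subgroup.normalizer (T : Set G)) = Cfsg.pCore 2 ↥(Subgroup.normalizer (T : Set G)) := by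
  haveI : Nontrivial ↥T := (Subgroup.nontrivial_iff_ne_bot T).mpr hT1
  haveI : Nontrivial ↥(Subgroup.center ↥T) := hT.center_nontrivial
  have hZ : IsPGroup 2 ↥(Subgroup.center ↥T) := hT.to_subgroup _
  obtain ⟨k, hk⟩ := IsPGroup.iff_card.mp hZ
  have hk0 : k ≠ 0 := by
    rintro rfl
    rw [pow_zero] at hk
    have := (Finite.one_lt_card_iff_nontrivial (α := ↥(Subgroup.center ↥T))).mpr inferInstance
    omega
  have hdvd : 2 ∣ Nat.card ↥(Subgroup.center ↥T) := by
    rw [hk]; exact dvd_pow_self 2 hk0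
  obtain ⟨z, hz⟩ := exists_prime_orderOf_dvd_card' 2 hdvd
  have hz2 : orderOf (((z : ↥T) : G)) = 2 := by
    rw [Subgroup.orderOf_coe, Subgroup.orderOf_coe]; exact hz
  have hcen : T ≤ Subgroup.centralizer ({((z : ↥T) : G)} : Set G) := by
    intro y hy
    rw [Subgroup.mem_centralizer_singleton_iff]
    have h1 := (Subgroup.mem_center_iff.mp z.2) ⟨y, hy⟩
    have := congrArg Subtype.val h1
    simpa using this
  exact Cfsg.Agent.Lib.Helper9.generalizedFittingSubgroup_normalizer_eq_pCore_of_centralizer hT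
    (z : ↥T).2 hcen (h _ hz2)

end Cfsg.Agent.S1292
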