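import Cfsg.Statements.S1300
-- import your own Cfsg.Agent.* helpers here

set_option autoImplicit false
open Cfsg

namespace Cfsg.Agent.S1300

/-- For a finite group G, balance in the sense of commuting involutions is the same as 1-balance for the prime 2. -/
theorem result {G : Type*} [Group G] [Finite G] : Cfsg.IsBalanced G ↔ Cfsg.IsKBalanced 2 1 G := by
  have hle : ∀ x : G, Cfsg.centralizerPPrimeCore 2 x ≤ Subgroup.centralizer ({x} : Set G) := by
    intro x
    unfold Cfsg.centralizerPPrimeCore
    exact Subgroup.map_subtype_le _
  constructor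
  · intro hbal A hA hcard b hb hcomm
    -- A has exactly two elements; pick the non-identity one
    have hA2 : Nat.card A = 2 := by simpa using hcard
    have hfin : Finite A := Nat.finite_of_card_ne_zero (by rw [hA2]; norm_num)
    have : Nontrivial A := by
      rw [← Finite.one_lt_card_iff_nontrivial, hA2]; norm_num
    obtain ⟨⟨x, hxA⟩, hx1⟩ := exists_ne (1 : A)
    have hx1' : x ≠ 1 := fun h => hx1 (Subtype.ext h)
    have hx2 : x ^ 2 = 1 := hA.2 x hxA
    have hox : orderOf x = 2 := orderOf_eq_prime hx2 hx1'
    have hxb : x * b = b * x := hcomm x hxA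
    have hΔ : Cfsg.signalizerDelta 2 A ≤ Cfsg.centralizerPPrimeCore 2 x := by
      unfold Cfsg.signalizerDelta
      exact iInf_le (fun a : {a : G // a ∈ A ∧ a ≠ 1} => Cfsg.centralizerPPrimeCore 2 (a : G)) ⟨x, hxA, hx1'⟩
    have h1 := hbal x b hox hb hxb
    calc Cfsg.signalizerDelta 2 A ⊓ Subgroup.centralizer {b}
        ≤ Cfsg.centralizerPPrimeCore 2 x ⊓ Subgroup.centralizer {b} := inf_le_inf_right _ hΔ
      _ = Cfsg.centralizerPPrimeCore 2 b ⊓ Subgroup.centralizer {x} := h1
      _ ≤ Cfsg.centralizerPPrimeCore 2 b := inf_le_left
  · intro hk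
    -- key inequality from 1-balance
    have key : ∀ x y : G, orderOf x = 2 → orderOf y = 2 → x * y = y * x →
        Cfsg.centralizerPPrimeCore 2 x ⊓ Subgroup.centralizer {y} ≤ Cfsg.centralizerPPrimeCore 2 y := by
      intro x y hx hy hxy
      have hmem : ∀ a ∈ Subgroup.zpowers x, a = 1 ∨ a = x := by
        intro a ha
        rw [Subgroup.mem_zpowers_iff] at ha
        obtain ⟨k, rfl⟩ := ha
        have hx2 : x ^ (2 : ℤ) = 1 := by
          have := pow_orderOf_eq_one x
          rw [hx] at this
          exact_mod_cast this
        rcases Int.emod_two_eq_zero_or_one k with h | h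
        · left
          have : k = 2 * (k / 2) := by omega
          rw [this, zpow_mul, hx2, one_zpow]
        · right
          have : k = 2 * (k / 2) + 1 := by omega
          rw [this, zpow_add, zpow_mul, hx2, one_zpow, one_mul, zpow_one]
      have hAel : Cfsg.IsElementaryAbelian 2 (Subgroup.zpowers x) := by
        refine ⟨inferInstance, ?_⟩
        intro a ha
        rcases hmem a ha with rfl | rfl
        · simp
        · rw [← hx]; exact pow_orderOf_eq_one _
      have hAcard : Nat.card (Subgroup.zpowers x) = 2 ^ 1 := by
        rw [Nat.card_zpowers, hx]; norm_num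
      have hcomm : ∀ a ∈ Subgroup.zpowers x, a * y = y * a := by
        intro a ha
        rcases hmem a ha with rfl | rfl
        · simp
        · exact hxy
      have h := hk (Subgroup.zpowers x) hAel hAcard y hy hcomm
      have hΔ : Cfsg.centralizerPPrimeCore 2 x ≤ Cfsg.signalizerDelta 2 (Subgroup.zpowers x) := by
        unfold Cfsg.signalizerDelta
        refine le_iInf ?_
        rintro ⟨a, ha, ha1⟩
        rcases hmem a ha with rfl | rfl
        · exact absurd rfl ha1
        · exact le_rfl
      exact le_trans (inf_le_inf_right _ hΔ) h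
    intro x y hx hy hxy
    apply le_antisymm
    · exact le_inf (key x y hx hy hxy) (le_trans inf_le_left (hle x))
    · exact le_inf (key y x hy hx hxy.symm) (le_trans inf_le_left (hle y))

end Cfsg.Agent.S1300
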