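import Cfsg.Statements.S1301
-- import your own Cfsg.Agent.* helpers here
import Cfsg.Agent.Lib.Helper12.PComponentMap
import Cfsg.Agent.Lib.Helper9.PLocal
import Cfsg.Agent.Lib.Helper9.NormalizerChain3
import Cfsg.Agent.Lib.Helper9.PComponent2
import Cfsg.Agent.Lib.Helper4.QuotPPrime
import Cfsg.Agent.Lib.Helper20.LBal2D

set_option autoImplicit false
open Cfsg

namespace Cfsg.Agent.S1301

/-- L-balance: for a finite group X and a 2-subgroup T ≤ X, L_{2'}(C_X(T)) ≤ L_{2'}(X). -/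
theorem result {X : Type*} [Group X] [Finite X] (T : Subgroup X) (hT : IsPGroup 2 ↥T) : (Cfsg.pLayer 2 ↥(Subgroup.centralizer (T : Set X))).map (Subgroup.centralizer (T : Set X)).subtype ≤ Cfsg.pLayer 2 X := by
  classical
  haveI : Fact (Nat.Prime 2) := ⟨Nat.prime_two⟩
  set O := Cfsg.pPrimeCore 2 X with hOdef
  set π := QuotientGroup.mk' O with hπ
  set N := Subgroup.centralizer (T : Set X) with hNdef
  have hOcop : (Nat.card ↥O).Coprime 2 := Cfsg.Agent.Lib.Helper12.pPrimeCore_coprime 2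
  have hOY : Cfsg.pPrimeCore 2 (X ⧸ O) = ⊥ := Cfsg.Agent.Lib.Helper9.pPrimeCore_quotient_eq_bot 2
  have hNbar : N.map π = Subgroup.centralizer ((T.map π : Subgroup (X ⧸ O)) : Set (X ⧸ O)) :=
    (Cfsg.Agent.Lib.Helper4.centralizer_map_mk'_eq_of_coprime O hOcop T hT).symm
  set f := π.subgroupMap N with hf
  have hfs : Function.Surjective f := MonoidHom.subgroupMap_surjective π N
  have hker : (Nat.card ↥f.ker).Coprime 2 := by
    rw [hf, hπ, Cfsg.Agent.Lib.Helper9.ker_subgroupMap_mk']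
    have h1 : Nat.card ↥(O.subgroupOf N) ∣ Nat.card ↥O :=
      Subgroup.card_comap_dvd_of_injective O N.subtype N.subtype_injective
    exact Nat.Coprime.coprime_dvd_left h1 hOcop
  rw [Subgroup.map_le_iff_le_comap]
  apply sSup_le
  intro J hJ
  rw [← Subgroup.map_le_iff_le_comap]
  have hJbar := Cfsg.Agent.Lib.Helper12.isPComponent_map_of_surjective f hfs hker hJ
  have hCF := Cfsg.Agent.Lib.Helper20.LBal2.pComponent_centralizer_le_layer hOY (hT.map π)
    (N.map π) hNbar hJbar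
  have hmm : (J.map f).map (N.map π).subtype = (J.map N.subtype).map π := by
    rw [Subgroup.map_map, Subgroup.map_map]
    rfl
  rw [hmm, Subgroup.map_le_iff_le_comap, Cfsg.Agent.Lib.Helper9.comap_layer_quotient_eq] at hCF
  rw [← Cfsg.Agent.Lib.Helper9.IsPComponent_pElementsClosure_eq hJ]
  unfold Cfsg.Agent.Lib.Helper9.pElementsClosure
  rw [MonoidHom.map_closure, Subgroup.closure_le]
  rintro _ ⟨x, ⟨hxJ, k, hk⟩, rfl⟩
  have hxo : orderOf (N.subtype x) = 2 ^ k := by
    rw [← hk]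
    exact Subgroup.orderOf_coe x
  exact Cfsg.Agent.Lib.Helper9.mem_of_orderOf_eq_pow_of_mem_sup 2
    (Subgroup.Normal.isSubnormal inferInstance) hOcop hxo (hCF (Subgroup.mem_map_of_mem _ hxJ))

end Cfsg.Agent.S1301
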