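import Cfsg.Statements.S1303
import Mathlib
import Cfsg.Agent.Lib.Helper20.SL23Facts

set_option autoImplicit false
open Cfsg

namespace Cfsg.Agent.S1303

/-- The group X = SL(2, 3): it is 2-constrained, O_{2'}(X) = 1, its centre A = Z(X) contains every involution of X = C_X(A), and X has a subgroup of order 3 (normalized by A) not contained in O_{2'}(X). -/
theorem result : Cfsg.IsPConstrained 2 (Matrix.SpecialLinearGroup (Fin 2) (ZMod 3)) ∧ Cfsg.pPrimeCore 2 (Matrix.SpecialLinearGroup (Fin 2) (ZMod 3)) = ⊥ ∧ (∀ t : Matrix.SpecialLinearGroup (Fin 2) (ZMod 3), orderOf t = 2 → t ∈ Subgroup.center (Matrix.SpecialLinearGroup (Fin 2) (ZMod 3))) ∧ ∃ Q : Subgroup (Matrix.SpecialLinearGroup (Fin 2) (ZMod 3)), Nat.card ↥Q = 3 ∧ ¬ (Q ≤ Cfsg.pPrimeCore 2 (Matrix.SpecialLinearGroup (Fin 2) (ZMod 3))) := by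
  classical
  haveI : Fact (Nat.Prime 2) := ⟨Nat.prime_two⟩
  have hbot : Cfsg.pPrimeCore 2 Cfsg.Agent.Lib.Helper20.SL23.SL = ⊥ := by
    unfold Cfsg.pPrimeCore
    rw [sSup_eq_bot]
    rintro N ⟨hN, hc⟩
    haveI := hN
    exact Cfsg.Agent.Lib.Helper20.SL23.eq_bot_of_normal_of_coprime N hc
  refine ⟨?_, hbot, ?_, ?_⟩
  · -- 2-constrained
    intro P
    have hQO : Cfsg.Agent.Lib.Helper20.SL23.Q4 ≤
        Cfsg.pPrimePCore 2 Cfsg.Agent.Lib.Helper20.SL23.SL := by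
      intro y hy
      unfold Cfsg.pPrimePCore
      rw [Subgroup.mem_comap]
      have hle : Cfsg.Agent.Lib.Helper20.SL23.Q4.map
          (QuotientGroup.mk' (Cfsg.pPrimeCore 2 Cfsg.Agent.Lib.Helper20.SL23.SL)) ≤
          Cfsg.pCore 2 (Cfsg.Agent.Lib.Helper20.SL23.SL ⧸
            Cfsg.pPrimeCore 2 Cfsg.Agent.Lib.Helper20.SL23.SL) := by
        unfold Cfsg.pCore
        apply le_sSup
        refine ⟨?_, ?_⟩
        · exact Subgroup.Normal.map inferInstance _ (QuotientGroup.mk'_surjective _)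
        · exact Cfsg.Agent.Lib.Helper20.SL23.Q4_isPGroup.map _
      exact hle (Subgroup.mem_map_of_mem _ hy)
    have h2 : IsPGroup 2 (Cfsg.Agent.Lib.Helper20.SL23.Q4.subgroupOf
        (Cfsg.pPrimePCore 2 Cfsg.Agent.Lib.Helper20.SL23.SL)) :=
      Cfsg.Agent.Lib.Helper20.SL23.Q4_isPGroup.comap_subtype
    have hle : Cfsg.Agent.Lib.Helper20.SL23.Q4.subgroupOf
        (Cfsg.pPrimePCore 2 Cfsg.Agent.Lib.Helper20.SL23.SL) ≤
        (P : Subgroup (Cfsg.pPrimePCore 2 Cfsg.Agent.Lib.Helper20.SL23.SL)) :=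
      h2.le_sylow_of_normal P
    have hQP : Cfsg.Agent.Lib.Helper20.SL23.Q4 ≤
        (P : Subgroup (Cfsg.pPrimePCore 2 Cfsg.Agent.Lib.Helper20.SL23.SL)).map
          (Cfsg.pPrimePCore 2 Cfsg.Agent.Lib.Helper20.SL23.SL).subtype := by
      intro y hy
      exact ⟨⟨y, hQO hy⟩, hle (by rw [Subgroup.mem_subgroupOf]; exact hy), rfl⟩
    refine le_trans ?_ (le_trans Cfsg.Agent.Lib.Helper20.SL23.centralizer_Q4_le hQO)
    exact Subgroup.centralizer_le (SetLike.coe_subset_coe.mpr hQP)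
  · intro t ht
    rw [Subgroup.mem_center_iff]
    intro g
    exact Cfsg.Agent.Lib.Helper20.SL23.sl_invol_central t (by have := pow_orderOf_eq_one t; rwa [ht] at this) g
  · refine ⟨Subgroup.zpowers Cfsg.Agent.Lib.Helper20.SL23.mC, ?_, ?_⟩
    · rw [Nat.card_zpowers, Cfsg.Agent.Lib.Helper20.SL23.orderOf_mC]
    · rw [hbot, le_bot_iff]
      intro h
      have h1 : Nat.card (Subgroup.zpowers Cfsg.Agent.Lib.Helper20.SL23.mC) = 3 := by
        rw [Nat.card_zpowers, Cfsg.Agent.Lib.Helper20.SL23.orderOf_mC]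
      rw [h, Subgroup.card_bot] at h1
      omega

end Cfsg.Agent.S1303
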