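import Cfsg.Statements.S1304
-- import your own Cfsg.Agent.* helpers here

set_option autoImplicit false
open Cfsg

namespace Cfsg.Agent.S1304

/-- Let X be a perfect group and α an automorphism of X with α(x) x⁻¹ central for every x. Then α is the identity. -/
theorem result {X : Type*} [Group X] (hperf : commutator X = ⊤) (α : X ≃* X) (h : ∀ x : X, α x * x⁻¹ ∈ Subgroup.center X) : ∀ x : X, α x = x := by
  -- the map x ↦ α x * x⁻¹ is a homomorphism into the centre
  have hmul : ∀ x y : X, α (x * y) * (x * y)⁻¹ = (α x * x⁻¹) * (α y * y⁻¹) := by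
    intro x y
    have hy := h y
    rw [Subgroup.mem_center_iff] at hy
    have := hy x⁻¹
    -- α y * y⁻¹ commutes with everything
    calc α (x * y) * (x * y)⁻¹ = α x * ((α y * y⁻¹) * x⁻¹) := by
          simp [mul_assoc]
      _ = α x * (x⁻¹ * (α y * y⁻¹)) := by rw [← this]
      _ = (α x * x⁻¹) * (α y * y⁻¹) := by simp [mul_assoc]
  let f : X →* X :=
    { toFun := fun x => α x * x⁻¹
      map_one' := by simp
      map_mul' := hmul }
  have hf : ∀ x, f x ∈ Subgroup.center X := h
  -- f kills commutators
  have hker : commutator X ≤ f.ker := by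
    rw [commutator_eq_closure, Subgroup.closure_le]
    rintro _ ⟨a, b, rfl⟩
    simp only [SetLike.mem_coe, MonoidHom.mem_ker, commutatorElement_def, map_mul, map_inv]
    have hb := hf b
    rw [Subgroup.mem_center_iff] at hb
    have ha := hf a
    rw [Subgroup.mem_center_iff] at ha
    calc f a * f b * (f a)⁻¹ * (f b)⁻¹ = f b * f a * (f a)⁻¹ * (f b)⁻¹ := by rw [hb (f a)]
      _ = 1 := by simp
  intro x
  have hx : x ∈ f.ker := hker (hperf ▸ Subgroup.mem_top x)
  have : α x * x⁻¹ = 1 := hx
  exact mul_inv_eq_one.mp this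

end Cfsg.Agent.S1304
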