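import Cfsg.Statements.S1312
import Cfsg.Agent.Lib.Helper17.Bender4

set_option autoImplicit false
open Cfsg

namespace Cfsg.Agent.S1312

/-- Let G be a non-abelian finite simple group and M ≠ N maximal subgroups of G with F*(M) ≤ N and F*(N) ≤ M. Then there is a prime p such that F*(M) and F*(N) are both p-groups. -/
theorem result {G : Type*} [Group G] [Finite G] [IsSimpleGroup G] (hna : ¬ IsMulCommutative G) (M N : Subgroup G) (hM : IsCoatom M) (hN : IsCoatom N) (hMN : M ≠ N) (h1 : (Cfsg.generalizedFittingSubgroup ↥M).map M.subtype ≤ N) (h2 : (Cfsg.generalizedFittingSubgroup ↥N).map N.subtype ≤ M) : ∃ p : ℕ, p.Prime ∧ IsPGroup p ↥(Cfsg.generalizedFittingSubgroup ↥M) ∧ IsPGroup p ↥(Cfsg.generalizedFittingSubgroup ↥N) := by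
  classical
  -- primitivity of the pair in each direction
  have hprim : ∀ (M N : Subgroup G), IsCoatom M → Cfsg.Agent.Lib.Helper17.PrimDir M N := by
    intro M N hM A hA hAD hMA
    rcases eq_or_lt_of_le hMA with h | h
    · rw [← h]; exact inf_le_right
    · exfalso
      have htop : Subgroup.normalizer (A : Set G) = ⊤ := hM.2 _ h
      have hAn : A.Normal := Subgroup.normalizer_eq_top_iff.mp htop
      rcases hAn.eq_bot_or_eq_top with h0 | h0
      · exact hA h0
      · apply hM.1
        rw [eq_top_iff, ← h0]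
        exact hAD.trans inf_le_left
  obtain ⟨p, hp, hc1, hc2, _⟩ := Cfsg.Agent.Lib.Helper17.bender_primitive (hprim M N hM)
    (hprim N M hN) hMN h1 h2
  have hpf : Fact p.Prime := ⟨hp⟩
  have key : ∀ (H : Type _) [Group H] [Finite H],
      Subgroup.centralizer (Cfsg.pCore p H : Set H) ≤ Cfsg.pCore p H →
      IsPGroup p ↥(Cfsg.generalizedFittingSubgroup H) := by
    intro H _ _ hc
    have hle : Cfsg.generalizedFittingSubgroup H ≤ Cfsg.pCore p H := by
      apply Cfsg.Agent.Lib.Helper17.fstar_le_of
      · exact (Cfsg.Agent.Lib.Helper17.layer_le_centralizer_pCore' p).trans hc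
      · intro r hr
        by_cases hrp : r = p
        · rw [hrp]
        · refine le_trans ?_ hc
          intro x hx
          rw [Subgroup.mem_centralizer_iff]
          intro y hy
          exact (Cfsg.Agent.Lib.Helper1.pCore_commute (Ne.symm hrp) y x hy hx).eq
    exact (Cfsg.Agent.Lib.Helper1.pCore_isPGroup p H).to_le hle
  exact ⟨p, hp, key _ hc1, key _ hc2⟩

end Cfsg.Agent.S1312
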