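import Cfsg.Statements.S1313
import Cfsg.Agent.Lib.Helper9.FStar

set_option autoImplicit false
open Cfsg

namespace Cfsg.Agent.S1313

/-- For a finite group H, |H| ≤ |F*(H)|!. -/
theorem result {H : Type*} [Group H] [Finite H] : Nat.card H ≤ Nat.factorial (Nat.card ↥(Cfsg.generalizedFittingSubgroup H)) := by
  classical
  have hnorm : (Cfsg.generalizedFittingSubgroup H).Normal :=
    Cfsg.Agent.Lib.Helper9.generalizedFittingSubgroup_normal
  set Fs := Cfsg.generalizedFittingSubgroup H with hFs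
  let ψ : H →* Equiv.Perm ↥Fs := (MulAut.toPerm ↥Fs).comp MulAut.conjNormal
  have hψ : ∀ (h : H) (x : ↥Fs), ((ψ h) x : H) = h * x * h⁻¹ := by
    intro h x
    exact MulAut.conjNormal_apply h x
  have hker : ψ.ker ≤ Fs := by
    intro k hk
    apply Cfsg.Agent.Lib.Helper9.centralizer_generalizedFittingSubgroup_le
    rw [Subgroup.mem_centralizer_iff]
    intro x hx
    have h1 : ψ k = 1 := hk
    have h2 := hψ k ⟨x, hx⟩
    rw [h1] at h2
    simp only [Equiv.Perm.coe_one, id_eq] at h2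
    -- h2 : x = k * x * k⁻¹
    calc x * k = (k * x * k⁻¹) * k := by rw [← h2]
      _ = k * x := by group
  -- injection ker × range → Perm Fs
  let f : ↥ψ.ker × ↥ψ.range → Equiv.Perm ↥Fs := fun kr =>
    (Equiv.mulLeft (⟨kr.1.1, hker kr.1.2⟩ : ↥Fs)) * kr.2.1
  have hrange1 : ∀ σ : ↥ψ.range, σ.1 1 = 1 := by
    rintro ⟨σ, h, rfl⟩
    apply Subtype.ext
    rw [hψ]
    simp
  have hf : Function.Injective f := by
    rintro ⟨k₁, σ₁⟩ ⟨k₂, σ₂⟩ h
    have h1 : f (k₁, σ₁) 1 = f (k₂, σ₂) 1 := by rw [h]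
    simp only [f, Equiv.Perm.coe_mul, Function.comp_apply, hrange1, Equiv.coe_mulLeft, mul_one] at h1
    have hk : k₁ = k₂ := by
      apply Subtype.ext
      have := congrArg Subtype.val h1
      exact this
    subst hk
    have h2 : σ₁.1 = σ₂.1 := mul_left_cancel h
    rw [Subtype.ext h2]
  have hcard : Nat.card (↥ψ.ker × ↥ψ.range) ≤ Nat.card (Equiv.Perm ↥Fs) :=
    Nat.card_le_card_of_injective f hf
  rw [Nat.card_prod, Nat.card_perm] at hcard
  have h3 : Nat.card ↥ψ.ker * Nat.card ↥ψ.range = Nat.card H := by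
    rw [← Subgroup.index_ker]
    exact Subgroup.card_mul_index _
  rw [← h3]
  exact hcard

end Cfsg.Agent.S1313
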