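import Cfsg.Statements.S1314
-- import your own Cfsg.Agent.* helpers here

set_option autoImplicit false
open Cfsg

namespace Cfsg.Agent.S1314

open scoped commutatorElement in
theorem lemA {G : Type*} [Group G] (a z X : G) (h : z * X = X * z) : ⁅a * z, X⁆ = ⁅a, X⁆ := by
  rw [commutatorElement_def, commutatorElement_def]
  have h' : z * X * z⁻¹ = X := mul_inv_eq_iff_eq_mul.mpr h
  calc a * z * X * (a * z)⁻¹ * X⁻¹ = a * (z * X * z⁻¹) * a⁻¹ * X⁻¹ := by group
    _ = a * X * a⁻¹ * X⁻¹ := by rw [h']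

open scoped commutatorElement in
theorem lemB {G : Type*} [Group G] (a b w : G) (h : w * a⁻¹ = a⁻¹ * w) : ⁅a, b * w⁆ = ⁅a, b⁆ := by
  rw [commutatorElement_def, commutatorElement_def]
  have h' : w * a⁻¹ * w⁻¹ = a⁻¹ := mul_inv_eq_iff_eq_mul.mpr h
  calc a * (b * w) * a⁻¹ * (b * w)⁻¹ = a * b * (w * a⁻¹ * w⁻¹) * b⁻¹ := by group
    _ = a * b * a⁻¹ * b⁻¹ := by rw [h']

/-- Let x be an involution of a group G and L a perfect subgroup with ⁅L, x L x⁻¹⁆ = 1. Then l ↦ l (x l x⁻¹) is a group homomorphism π from L to G whose kernel is central in L and whose image lies in C_G(x); and the commutator subgroup of C_{L ⊔ xLx⁻¹}(x) equals the image of π. -/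
theorem result {G : Type*} [Group G] [Finite G] (x : G) (hx : orderOf x = 2) (L : Subgroup G) (hperf : ⁅L, L⁆ = L) (hcomm : ⁅L, L.map (MulAut.conj x).toMonoidHom⁆ = ⊥) : ∃ π : ↥L →* G, (∀ l : ↥L, π l = (l : G) * (x * (l : G) * x⁻¹)) ∧ π.ker ≤ Subgroup.center ↥L ∧ π.range ≤ Subgroup.centralizer ({x} : Set G) ∧ ⁅(L ⊔ L.map (MulAut.conj x).toMonoidHom) ⊓ Subgroup.centralizer ({x} : Set G), (L ⊔ L.map (MulAut.conj x).toMonoidHom) ⊓ Subgroup.centralizer ({x} : Set G)⁆ = π.range := by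
  classical
  have hx2 : x * x = 1 := by
    have := pow_orderOf_eq_one x
    rw [hx, pow_two] at this
    exact this
  have hxinv : x⁻¹ = x := inv_eq_of_mul_eq_one_left hx2
  have hmemLx : ∀ l ∈ L, x * l * x⁻¹ ∈ L.map (MulAut.conj x).toMonoidHom := fun l hl =>
    Subgroup.mem_map.mpr ⟨l, hl, by simp [MulAut.conj_apply]⟩
  have hLxmem : ∀ m ∈ L.map (MulAut.conj x).toMonoidHom, ∃ l ∈ L, m = x * l * x⁻¹ := by
    intro m hm
    obtain ⟨l, hl, rfl⟩ := Subgroup.mem_map.mp hm
    exact ⟨l, hl, by simp [MulAut.conj_apply]⟩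
  have hcm : ∀ l ∈ L, ∀ m ∈ L.map (MulAut.conj x).toMonoidHom, l * m = m * l := by
    have := Subgroup.commutator_eq_bot_iff_le_centralizer.mp hcomm
    intro l hl m hm
    exact ((Subgroup.mem_centralizer_iff.mp (this hl)) m hm).symm
  -- the homomorphism
  let π : ↥L →* G :=
    { toFun := fun l => (l : G) * (x * (l : G) * x⁻¹)
      map_one' := by simp
      map_mul' := by
        rintro ⟨l, hl⟩ ⟨l', hl'⟩
        have h := hcm l' hl' (x * l * x⁻¹) (hmemLx l hl)
        show l * l' * (x * (l * l') * x⁻¹) = l * (x * l * x⁻¹) * (l' * (x * l' * x⁻¹))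
        calc l * l' * (x * (l * l') * x⁻¹) = l * (l' * (x * l * x⁻¹)) * (x * l' * x⁻¹) := by group
          _ = l * ((x * l * x⁻¹) * l') * (x * l' * x⁻¹) := by rw [h]
          _ = l * (x * l * x⁻¹) * (l' * (x * l' * x⁻¹)) := by group }
  have hπ : ∀ l : ↥L, π l = (l : G) * (x * (l : G) * x⁻¹) := fun l => rfl
  -- elements of L ∩ Lx are central in L ⊔ Lx
  have hcentral : ∀ z ∈ L, z ∈ L.map (MulAut.conj x).toMonoidHom →
      ∀ g ∈ L ⊔ L.map (MulAut.conj x).toMonoidHom, z * g = g * z := by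
    intro z hzL hzLx g hg
    have hle : L ⊔ L.map (MulAut.conj x).toMonoidHom ≤ Subgroup.centralizer ({z} : Set G) := by
      refine sup_le ?_ ?_
      · intro l hl
        rw [Subgroup.mem_centralizer_iff]
        intro h hh
        rw [Set.mem_singleton_iff] at hh
        subst hh
        exact (hcm l hl h hzLx).symm
      · intro m hm
        rw [Subgroup.mem_centralizer_iff]
        intro h hh
        rw [Set.mem_singleton_iff] at hh
        subst hh
        exact hcm h hzL m hm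
    have := Subgroup.mem_centralizer_iff.mp (hle hg) z (Set.mem_singleton z)
    exact this
  have hrange_le_sup : π.range ≤ L ⊔ L.map (MulAut.conj x).toMonoidHom := by
    rintro _ ⟨⟨l, hl⟩, rfl⟩
    exact Subgroup.mul_mem _ (Subgroup.mem_sup_left hl) (Subgroup.mem_sup_right (hmemLx l hl))
  have hrange_le_cent : π.range ≤ Subgroup.centralizer ({x} : Set G) := by
    rintro _ ⟨⟨l, hl⟩, rfl⟩
    rw [Subgroup.mem_centralizer_iff]
    intro h hh
    rw [Set.mem_singleton_iff] at hh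
    subst hh
    show h * (l * (h * l * h⁻¹)) = l * (h * l * h⁻¹) * h
    have h1 := hcm l hl (h * l * h⁻¹) (hmemLx l hl)
    calc h * (l * (h * l * h⁻¹)) = (h * l * h⁻¹) * (h * h) * l * h⁻¹ := by group
      _ = (h * l * h⁻¹) * l * h⁻¹ := by rw [hx2, mul_one]
      _ = l * (h * l * h⁻¹) * h⁻¹ := by rw [← h1]
      _ = l * (h * l * h⁻¹) * h := by rw [hxinv]
  refine ⟨π, hπ, ?_, hrange_le_cent, ?_⟩
  · -- kernel is central
    rintro ⟨l, hl⟩ hker
    rw [MonoidHom.mem_ker] at hker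
    have hker' : l * (x * l * x⁻¹) = 1 := hker
    have hlLx : l ∈ L.map (MulAut.conj x).toMonoidHom := by
      have : l = x * l⁻¹ * x⁻¹ := by
        have h2 : l = (x * l * x⁻¹)⁻¹ := eq_inv_of_mul_eq_one_left hker'
        simp only [mul_inv_rev, inv_inv] at h2
        rw [← mul_assoc] at h2
        exact h2
      rw [this]
      exact hmemLx _ (L.inv_mem hl)
    rw [Subgroup.mem_center_iff]
    rintro ⟨g, hg⟩
    apply Subtype.ext
    show g * l = l * g
    exact hcm g hg l hlLx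
  · -- the commutator subgroup of the centralizer
    apply le_antisymm
    · rw [Subgroup.commutator_le]
      -- decomposition of elements of the centralizer
      have hdecomp : ∀ c ∈ (L ⊔ L.map (MulAut.conj x).toMonoidHom) ⊓ Subgroup.centralizer ({x} : Set G),
          ∃ l' : ↥L, ∃ z ∈ L, z ∈ L.map (MulAut.conj x).toMonoidHom ∧ c = π l' * z := by
        intro c hc
        obtain ⟨hcs, hcx⟩ := hc
        have hnorm : L ≤ Subgroup.normalizer ((L.map (MulAut.conj x).toMonoidHom : Subgroup G) : Set G) :=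
          le_trans (Subgroup.commutator_eq_bot_iff_le_centralizer.mp hcomm) (Subgroup.centralizer_le_normalizer _)
        have hcs' : c ∈ ((L ⊔ L.map (MulAut.conj x).toMonoidHom : Subgroup G) : Set G) := hcs
        rw [Subgroup.coe_mul_of_left_le_normalizer_right _ _ hnorm] at hcs'
        obtain ⟨l, hl, m, hm, rfl⟩ := hcs'
        obtain ⟨l', hl', rfl⟩ := hLxmem m hm
        have e1 : x * (l * (x * l' * x⁻¹)) = (l * (x * l' * x⁻¹)) * x :=
          Subgroup.mem_centralizer_iff.mp hcx x (Set.mem_singleton x)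
        have hu : (x * l * x⁻¹) * l' = l * (x * l' * x⁻¹) := by
          calc (x * l * x⁻¹) * l' = x * l * x⁻¹ * ((x * x) * l' * (x * x)⁻¹) := by rw [hx2]; group
            _ = x * (l * (x * l' * x⁻¹)) * x⁻¹ := by group
            _ = (l * (x * l' * x⁻¹)) * x * x⁻¹ := by rw [e1]
            _ = l * (x * l' * x⁻¹) := by group
        have hu' : l' * (x * l * x⁻¹) = l * (x * l' * x⁻¹) := by
          rw [hcm l' hl' _ (hmemLx l hl)]; exact hu
        have hz : l'⁻¹ * l = x * (l * l'⁻¹) * x⁻¹ := by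
          calc l'⁻¹ * l = l'⁻¹ * (l * (x * l' * x⁻¹)) * (x * l' * x⁻¹)⁻¹ := by group
            _ = l'⁻¹ * (l' * (x * l * x⁻¹)) * (x * l' * x⁻¹)⁻¹ := by rw [hu']
            _ = x * (l * l'⁻¹) * x⁻¹ := by group
        have hzL : l'⁻¹ * l ∈ L := L.mul_mem (L.inv_mem hl') hl
        have hzLx : l'⁻¹ * l ∈ L.map (MulAut.conj x).toMonoidHom := by
          rw [hz]; exact hmemLx _ (L.mul_mem hl (L.inv_mem hl'))
        refine ⟨⟨l', hl'⟩, l'⁻¹ * l, hzL, hzLx, ?_⟩
        have hzm := hcm (l'⁻¹ * l) hzL (x * l' * x⁻¹) (hmemLx l' hl')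
        show l * (x * l' * x⁻¹) = l' * (x * l' * x⁻¹) * (l'⁻¹ * l)
        calc l * (x * l' * x⁻¹) = l' * ((l'⁻¹ * l) * (x * l' * x⁻¹)) := by group
          _ = l' * ((x * l' * x⁻¹) * (l'⁻¹ * l)) := by rw [hzm]
          _ = l' * (x * l' * x⁻¹) * (l'⁻¹ * l) := by group
      intro c₁ hc₁ c₂ hc₂
      obtain ⟨l₁, z₁, hz₁L, hz₁Lx, rfl⟩ := hdecomp c₁ hc₁
      obtain ⟨l₂, z₂, hz₂L, hz₂Lx, rfl⟩ := hdecomp c₂ hc₂
      have hπmem : ∀ l : ↥L, π l ∈ L ⊔ L.map (MulAut.conj x).toMonoidHom := fun l =>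
        hrange_le_sup ⟨l, rfl⟩
      have hz₂mem : z₂ ∈ L ⊔ L.map (MulAut.conj x).toMonoidHom := Subgroup.mem_sup_left hz₂L
      have h1 : z₁ * (π l₂ * z₂) = (π l₂ * z₂) * z₁ :=
        hcentral z₁ hz₁L hz₁Lx _ (Subgroup.mul_mem _ (hπmem l₂) hz₂mem)
      have h2 : z₂ * (π l₁)⁻¹ = (π l₁)⁻¹ * z₂ :=
        hcentral z₂ hz₂L hz₂Lx _ (Subgroup.inv_mem _ (hπmem l₁))
      rw [lemA _ _ _ h1, lemB _ _ _ h2, ← map_commutatorElement]
      exact ⟨_, rfl⟩
    · have hP : Group.IsPerfect ↥L := Subgroup.isPerfect_iff.mpr hperf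
      have hc : commutator ↥L = ⊤ := hP.commutator_eq_top
      have hr : π.range = ⁅π.range, π.range⁆ := by
        conv_lhs => rw [MonoidHom.range_eq_map, ← hc, commutator_def, Subgroup.map_commutator,
          ← MonoidHom.range_eq_map]
      rw [hr]
      exact Subgroup.commutator_mono (le_inf hrange_le_sup hrange_le_cent)
        (le_inf hrange_le_sup hrange_le_cent)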