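import Cfsg.Statements.S1323
import Cfsg.Agent.Lib.Helper9.AltStandard

set_option autoImplicit false
open Cfsg

namespace Cfsg.Agent.S1323

/-- For n ≥ 9, the subgroup of the alternating group on Fin n fixing each of the points 0, 1, 2, 3 is a standard subgroup. -/
theorem result (n : ℕ) (h4 : 4 ≤ n) (hn : 9 ≤ n) : Cfsg.IsStandardSubgroup (⨅ i : Fin 4, MulAction.stabilizer ↥(alternatingGroup (Fin n)) (Fin.castLE h4 i : Fin n)) := by
  have e : (⨅ i : Fin 4, MulAction.stabilizer ↥(alternatingGroup (Fin n))
      (Fin.castLE h4 i : Fin n)) =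
      Cfsg.Agent.Lib.Helper9.AltStandard.fixG (Finset.univ.image (Fin.castLE h4)) := by
    ext σ
    simp only [Subgroup.mem_iInf, MulAction.mem_stabilizer_iff,
      Cfsg.Agent.Lib.Helper9.AltStandard.mem_fixG, Finset.mem_image, Finset.mem_univ, true_and,
      forall_exists_index, forall_apply_eq_imp_iff]
    rfl
  rw [e]
  apply Cfsg.Agent.Lib.Helper9.AltStandard.isStandard_fixG
  · rw [Finset.card_image_of_injective _ (Fin.castLE_injective h4), Finset.card_univ,
      Fintype.card_fin]
  · simpa using hn

end Cfsg.Agent.S1323
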