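import Cfsg.Statements.S1331
import Cfsg.Agent.S1324

set_option autoImplicit false
open Cfsg

namespace Cfsg.Agent.S1331

/-- Let θ be a solvable A-signalizer functor on the finite group G for the prime p, A elementary abelian of rank at least 3, X a member of the family of θ, and B ≤ A with |B| ≥ p². Then X is generated by the subgroups X ∩ ⋂_{d ∈ D, d ≠ 1} θ d, D ranging over the subgroups of index p in B. -/
theorem result {G : Type*} [Group G] [Finite G] (p : ℕ) [Fact p.Prime] (A : Subgroup G) (hA : Cfsg.IsElementaryAbelian p A) (hA3 : p ^ 3 ≤ Nat.card ↥A) (θ : G → Subgroup G) (hθ : Cfsg.IsSolvableSignalizerFunctor p A θ) (X : Subgroup G) (hX : X ∈ Cfsg.signalizerFamily p A θ) (B : Subgroup G) (hB : B ≤ A) (hB2 : p ^ 2 ≤ Nat.card ↥B) : X = ⨆ D : {D : Subgroup G // D ≤ B ∧ D.relIndex B = p}, X ⊓ Cfsg.signalizerInf (D : Subgroup G) θ := by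
  have hp : p.Prime := Fact.out
  have hBel : Cfsg.IsElementaryAbelian p B := by
    refine ⟨⟨⟨fun x y => ?_⟩⟩, fun b hb => hA.2 b (hB hb)⟩
    have := hA.1.is_comm.comm ⟨x.1, hB x.2⟩ ⟨y.1, hB y.2⟩
    apply Subtype.ext
    have h2 := congrArg (fun z : A => (z : G)) this
    simpa using h2
  have hXp : ¬ p ∣ Nat.card ↥X := hX.2.1
  have hBX : B ≤ Subgroup.normalizer (X : Set G) := by
    intro b hb
    rw [Subgroup.mem_normalizer_iff]
    intro x
    constructor
    · intro hx; exact hX.2.2.1 b (hB hb) x hx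
    · intro hx
      have := hX.2.2.1 b⁻¹ (A.inv_mem (hB hb)) _ hx
      have e : b⁻¹ * (b * x * b⁻¹) * b⁻¹⁻¹ = x := by group
      rwa [e] at this
  have hgen := Cfsg.Agent.S1324.result p B X hBel hB2 hXp hBX
  -- a hyperplane of `B`
  have hBp : IsPGroup p B := by
    rintro ⟨g, hg⟩
    exact ⟨1, Subtype.ext (by simpa using hBel.2 g hg)⟩
  obtain ⟨n, hn⟩ := IsPGroup.iff_card.mp hBp
  have hn2 : 2 ≤ n := by
    by_contra hlt
    push Not at hlt
    have : p ^ n ≤ p ^ 1 := Nat.pow_le_pow_right hp.pos (by omega)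
    have h2 : p ^ 1 < p ^ 2 := Nat.pow_lt_pow_right hp.one_lt (by norm_num)
    omega
  have hcardrel : ∀ D : Subgroup G, D ≤ B → Nat.card B = D.relIndex B * Nat.card D := by
    intro D hDB
    have h2 := Subgroup.relIndex_mul_relIndex (⊥ : Subgroup G) D B bot_le hDB
    rw [Subgroup.relIndex_bot_left, Subgroup.relIndex_bot_left] at h2
    rw [← h2, mul_comm]
  have hhyp_of_le : ∀ D' : Subgroup G, D' ≤ B → D'.relIndex B ≤ p →
      ∃ D : Subgroup G, D ≤ B ∧ D.relIndex B = p ∧ D ≤ D' := by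
    intro D' hD'B hrel
    have hcardD' : Nat.card B = D'.relIndex B * Nat.card D' := hcardrel D' hD'B
    -- `|D'| ≥ p^(n-1)`; pick a subgroup of `D'` of order `p^(n-1)`
    have hD'p : IsPGroup p D' := hBp.to_le hD'B
    obtain ⟨m, hm⟩ := IsPGroup.iff_card.mp hD'p
    have hmn : n - 1 ≤ m := by
      by_contra hlt
      push Not at hlt
      have h1 : p ^ n = D'.relIndex B * p ^ m := by rw [← hn, ← hm]; exact hcardD'
      have h2 : p ^ n ≤ p * p ^ m := h1 ▸ Nat.mul_le_mul_right _ hrel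
      rw [← pow_succ'] at h2
      have h3 : n ≤ m + 1 := (Nat.pow_le_pow_iff_right hp.one_lt).1 h2
      omega
    have hdvd : p ^ (n - 1) ∣ Nat.card D' := by
      rw [hm]; exact pow_dvd_pow p hmn
    obtain ⟨D₀, hD₀⟩ := Sylow.exists_subgroup_card_pow_prime p hdvd
    refine ⟨D₀.map D'.subtype, (Subgroup.map_subtype_le _).trans hD'B, ?_, Subgroup.map_subtype_le _⟩
    have hcardD : Nat.card (D₀.map D'.subtype) = p ^ (n - 1) := by
      rw [Subgroup.card_map_of_injective D'.subtype_injective]; exact hD₀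
    have hDB : D₀.map D'.subtype ≤ B := (Subgroup.map_subtype_le _).trans hD'B
    have h1 := hcardrel _ hDB
    rw [hcardD, hn] at h1
    have h2 : p ^ n = p * p ^ (n - 1) := by rw [← pow_succ']; congr 1; omega
    rw [h2] at h1
    exact (Nat.eq_of_mul_eq_mul_right (pow_pos hp.pos _) h1).symm
  apply le_antisymm
  · refine hgen.le.trans ?_
    apply iSup_le
    rintro ⟨D', hD'B, hrel⟩
    obtain ⟨D, hDB, hDrel, hDD'⟩ := hhyp_of_le D' hD'B hrel
    refine le_trans ?_ (le_iSup (fun D : {D : Subgroup G // D ≤ B ∧ D.relIndex B = p} =>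
      X ⊓ Cfsg.signalizerInf (D : Subgroup G) θ) ⟨D, hDB, hDrel⟩)
    refine le_inf inf_le_left ?_
    unfold Cfsg.signalizerInf
    apply le_iInf
    rintro ⟨d, hdD, hd1⟩
    have h1 : X ⊓ Subgroup.centralizer ((D' : Subgroup G) : Set G) ≤
        X ⊓ Subgroup.centralizer ({d} : Set G) := by
      refine inf_le_inf_left _ (Subgroup.centralizer_le ?_)
      intro y hy
      rw [Set.mem_singleton_iff] at hy
      subst hy
      exact hDD' hdD
    exact h1.trans (hX.2.2.2 d (hB (hDB hdD)) hd1)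
  · apply iSup_le
    intro D
    exact inf_le_left

end Cfsg.Agent.S1331
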