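import Cfsg.Statements.S1335
import Cfsg.Agent.Lib.Helper9.Basic

set_option autoImplicit false
open Cfsg

namespace Cfsg.Agent.S1335

/-- Let H be a subgroup of the finite group G, p a prime, k ≥ 1, P a Sylow p-subgroup of H of p-rank at least k, and suppose N_G(X) ≤ H for every subgroup X ≤ P of p-rank at least k. Then P is a Sylow p-subgroup of G. -/
theorem result {G : Type*} [Group G] [Finite G] {p : ℕ} [Fact p.Prime] (k : ℕ) (hk : 1 ≤ k) (H : Subgroup G) (P : Sylow p ↥H) (hP : ¬ Cfsg.PRankLE p (k - 1) ↥(P : Subgroup ↥H)) (hΓ : (∀ X : Subgroup G, X ≤ (P : Subgroup ↥H).map H.subtype → ¬ Cfsg.PRankLE p (k - 1) ↥X → Subgroup.normalizer (X : Set G) ≤ H)) : ∃ Q : Sylow p G, (Q : Subgroup G) = (P : Subgroup ↥H).map H.subtype := by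
  classical
  set P' : Subgroup G := (P : Subgroup ↥H).map H.subtype with hP'
  have hP'H : P' ≤ H := by
    rintro _ ⟨y, _, rfl⟩
    exact y.2
  have hrank : ¬ Cfsg.PRankLE p (k - 1) ↥P' := by
    rw [hP', Cfsg.Agent.Lib.Helper9.pRankLE_map_subtype]
    exact hP
  have hN : Subgroup.normalizer (P' : Set G) ≤ H := hΓ P' le_rfl hrank
  have hP'p : IsPGroup p ↥P' := P.isPGroup'.map H.subtype
  obtain ⟨Q, hQ⟩ := hP'p.exists_le_sylow
  -- Q ⊓ H = P'
  have hQH : (Q : Subgroup G) ⊓ H ≤ P' := by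
    have h1 : IsPGroup p ↥((Q : Subgroup G).subgroupOf H) := Q.isPGroup'.comap_subtype
    have h2 : (P : Subgroup ↥H) ≤ (Q : Subgroup G).subgroupOf H := by
      intro y hy
      rw [Subgroup.mem_subgroupOf]
      exact hQ (Subgroup.mem_map_of_mem _ hy)
    have h3 := P.is_maximal' h1 h2
    rintro g ⟨hgQ, hgH⟩
    have : (⟨g, hgH⟩ : ↥H) ∈ (Q : Subgroup G).subgroupOf H := by
      rw [Subgroup.mem_subgroupOf]; exact hgQ
    rw [h3] at this
    exact ⟨⟨g, hgH⟩, this, rfl⟩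
  refine ⟨Q, ?_⟩
  by_contra hne
  have hlt : P'.subgroupOf (Q : Subgroup G) < ⊤ := by
    rw [lt_top_iff_ne_top, Ne, Subgroup.subgroupOf_eq_top]
    intro hle
    exact hne (le_antisymm hle hQ)
  have : Group.IsNilpotent ↥(Q : Subgroup G) := Q.isPGroup'.isNilpotent
  have hnc := Group.normalizerCondition_of_isNilpotent (G := ↥(Q : Subgroup G)) _ hlt
  obtain ⟨y, hyN, hyP⟩ := SetLike.exists_of_lt hnc
  rw [← Subgroup.subgroupOf_normalizer_eq hQ, Subgroup.mem_subgroupOf] at hyN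
  apply hyP
  rw [Subgroup.mem_subgroupOf]
  exact hQH ⟨y.2, hN hyN⟩

end Cfsg.Agent.S1335
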