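import Cfsg.Statements.S1337
-- import your own Cfsg.Agent.* helpers here
import Cfsg.Agent.Lib.Helper1.NormalFour
import Cfsg.Agent.Lib.Helper4.ElemAb
import Cfsg.Agent.Lib.Helper20.NormalRankTwoB

set_option autoImplicit false
open Cfsg

namespace Cfsg.Agent.S1337

open Cfsg.Agent.Lib.Helper1 in
/-- a large elementary abelian subgroup inside `C` shows that `C` has rank greater than two -/
theorem not_pRankLE_of_le {P : Type*} [Group P] {p : ℕ} {C F : Subgroup P} (hFC : F ≤ C)
    (hF : Cfsg.IsElementaryAbelian p F) (hcard : p ^ 2 < Nat.card F) :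
    ¬ Cfsg.PRankLE p 2 ↥C := by
  intro h
  have hFc : IsMulCommutative F := hF.1
  have h1 := h (F.subgroupOf C) inferInstance (by
    intro a ha
    apply Subtype.ext
    have := hF.2 (a : P) ha
    simpa using this)
  rw [card_subgroupOf_of_le hFC] at h1
  omega

/-- conversely, rank greater than two gives a large elementary abelian subgroup -/
theorem exists_of_not_pRankLE {P : Type*} [Group P] {p : ℕ} {C : Subgroup P}
    (h : ¬ Cfsg.PRankLE p 2 ↥C) :
    ∃ F : Subgroup P, F ≤ C ∧ Cfsg.IsElementaryAbelian p F ∧ p ^ 2 < Nat.card F := by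
  unfold Cfsg.PRankLE at h
  simp only [not_forall, not_le] at h
  obtain ⟨A, hAc, hAe, hAcard⟩ := h
  refine ⟨A.map C.subtype, ?_, ⟨inferInstance, ?_⟩, ?_⟩
  · rintro _ ⟨a, -, rfl⟩
    exact a.2
  · rintro _ ⟨a, ha, rfl⟩
    have := hAe a ha
    have h2 := congrArg Subtype.val this
    simpa using h2
  · rw [Subgroup.card_map_of_injective C.subtype_injective]
    exact hAcard

/-- Let P be a finite p-group of p-rank greater than 2. Then P has a normal elementary abelian subgroup U of order p², and for every elementary abelian X ≤ P with |X| ≥ p²: X is joined to U by a chain of pairwise commuting elementary abelian subgroups of order ≥ p² if and only if C_P(X) has p-rank greater than 2. -/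
theorem result {P : Type*} [Group P] [Finite P] (p : ℕ) [Fact p.Prime] (hP : IsPGroup p P) (hrk : ¬ Cfsg.PRankLE p 2 P) : ∃ U : Subgroup P, U.Normal ∧ Cfsg.IsElementaryAbelian p U ∧ Nat.card ↥U = p ^ 2 ∧ ∀ X : Subgroup P, Cfsg.IsElementaryAbelian p X → p ^ 2 ≤ Nat.card ↥X → (Relation.ReflTransGen (fun A B : Subgroup P => Cfsg.IsElementaryAbelian p A ∧ p ^ 2 ≤ Nat.card ↥A ∧ Cfsg.IsElementaryAbelian p B ∧ p ^ 2 ≤ Nat.card ↥B ∧ ∀ a ∈ A, ∀ b ∈ B, a * b = b * a) X U ↔ ¬ Cfsg.PRankLE p 2 ↥(Subgroup.centralizer (X : Set P))) := by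
  classical
  have hpp : p.Prime := Fact.out
  -- a large elementary abelian subgroup `E`
  have hrk' := hrk
  unfold Cfsg.PRankLE at hrk'
  simp only [not_forall, not_le] at hrk'
  obtain ⟨E, hEc, hEe, hEcard⟩ := hrk'
  have hE3 : ∀ F : Subgroup P, p ^ 2 < Nat.card F → p ^ 3 ≤ Nat.card F := by
    intro F hF
    obtain ⟨k, hk⟩ := IsPGroup.iff_card.mp (hP.to_subgroup F)
    rw [hk] at hF ⊢
    have : 2 < k := (Nat.pow_lt_pow_iff_right hpp.one_lt).mp hF
    exact Nat.pow_le_pow_right hpp.pos this
  -- the normal subgroup `U`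
  obtain ⟨U, hUn, hUc, hUe, hUcard⟩ : ∃ U : Subgroup P, U.Normal ∧ IsMulCommutative U ∧
      (∀ u ∈ U, u ^ p = 1) ∧ Nat.card U = p ^ 2 := by
    by_cases hp2 : p = 2
    · subst hp2
      exact Cfsg.Agent.Lib.Helper1.exists_normal_four_of_elemAb_eight hP E hEe
        (by have := hE3 E hEcard; omega)
    · apply Cfsg.Agent.Lib.Helper20.exists_normal_elemAb_of_not_isCyclic hp2 hP
      intro hc
      have hEcyc : IsCyclic E := inferInstance
      have h1 : Monoid.exponent E ∣ p := Monoid.exponent_dvd_of_forall_pow_eq_one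
        (fun e => Subtype.ext (by simpa using hEe e e.2))
      rw [IsCyclic.exponent_eq_card] at h1
      have h2 := Nat.le_of_dvd hpp.pos h1
      have h3 : p ≤ p ^ 2 := by nlinarith [hpp.two_le]
      omega
  have hUea : Cfsg.IsElementaryAbelian p U := ⟨hUc, hUe⟩
  have hUcomm : ∀ a ∈ U, ∀ b ∈ U, a * b = b * a := fun a ha b hb =>
    congrArg Subtype.val (mul_comm' (⟨a, ha⟩ : U) ⟨b, hb⟩)
  have hUC : U ≤ Subgroup.centralizer (U : Set P) := by
    intro a ha
    rw [Subgroup.mem_centralizer_iff]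
    intro b hb
    exact hUcomm b hb a ha
  -- `C_Y(U)` is large for `Y` large
  have hbig : ∀ Y : Subgroup P, p ^ 3 ≤ Nat.card Y →
      p ^ 2 ≤ Nat.card (Y ⊓ Subgroup.centralizer (U : Set P) : Subgroup P) := by
    intro Y hY
    have h1 := Cfsg.Agent.Lib.Helper1.card_le_mul_card_inf_centralizer hP U hUc hUcard Y
    have h2 : p * p ^ 2 ≤ p * Nat.card (Y ⊓ Subgroup.centralizer (U : Set P) : Subgroup P) := by
      calc p * p ^ 2 = p ^ 3 := by ring
        _ ≤ Nat.card Y := hY
        _ ≤ _ := h1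
    exact Nat.le_of_mul_le_mul_left h2 hpp.pos
  refine ⟨U, hUn, hUea, hUcard, ?_⟩
  intro X hX hXcard
  constructor
  · -- a chain forces large rank of the centralizer
    intro hchain
    induction hchain using Relation.ReflTransGen.head_induction_on with
    | refl =>
      -- the centralizer of `U`
      have hE1 := hbig E (hE3 E hEcard)
      have hnot : ¬ (E ⊓ Subgroup.centralizer (U : Set P)) ≤ U := by
        intro hle
        have heq : E ⊓ Subgroup.centralizer (U : Set P) = U :=
          Subgroup.eq_of_le_of_card_ge hle (by rw [hUcard]; exact hE1)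
        have hUE : U ≤ E := by rw [← heq]; exact inf_le_left
        have hEC : E ≤ Subgroup.centralizer (U : Set P) := by
          intro e he
          rw [Subgroup.mem_centralizer_iff]
          intro u hu
          exact congrArg Subtype.val (mul_comm' (⟨u, hUE hu⟩ : E) ⟨e, he⟩)
        have : E ≤ U := by rw [← heq]; exact le_inf le_rfl hEC
        have := Subgroup.card_le_of_le this
        omega
      obtain ⟨x, hx, hxU⟩ := SetLike.not_le_iff_exists.mp hnot
      have hxp : x ^ p = 1 := hEe x hx.1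
      obtain ⟨hc, he, hcard⟩ := Cfsg.Agent.Lib.Helper1.sup_zpowers_elemAb U hUcomm hUe hx.2 hxp hxU
      have hFea : Cfsg.IsElementaryAbelian p (U ⊔ Subgroup.zpowers x) := by
        refine ⟨?_, he⟩
        rw [isMulCommutative_iff]
        rintro ⟨a, ha⟩ ⟨b, hb⟩
        exact Subtype.ext (hc a ha b hb)
      apply not_pRankLE_of_le (sup_le hUC (Subgroup.zpowers_le.mpr hx.2)) hFea
      rw [hcard, hUcard]
      nlinarith [hpp.two_le, pow_pos hpp.pos 2]
    | head h1 h2 ih =>
      rename_i X₀ X₁
      obtain ⟨hX₀, hX₀card, hX₁, hX₁card, hcomm⟩ := h1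
      by_cases hlt : p ^ 2 < Nat.card (X₀ ⊔ X₁ : Subgroup P)
      · have hFea : Cfsg.IsElementaryAbelian p (X₀ ⊔ X₁) :=
          Cfsg.Agent.Lib.Helper4.elemAb_sup hX₀ hX₁ hcomm
        refine not_pRankLE_of_le ?_ hFea hlt
        apply sup_le
        · intro a ha
          rw [Subgroup.mem_centralizer_iff]
          intro b hb
          have hX₀c : IsMulCommutative X₀ := hX₀.1
          exact congrArg Subtype.val (mul_comm' (⟨b, hb⟩ : X₀) ⟨a, ha⟩)
        · intro b hb
          rw [Subgroup.mem_centralizer_iff]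
          intro a ha
          exact hcomm a ha b hb
      · rw [not_lt] at hlt
        have e0 : X₀ = X₀ ⊔ X₁ := Subgroup.eq_of_le_of_card_ge le_sup_left (hlt.trans hX₀card)
        have e1 : X₁ = X₀ ⊔ X₁ := Subgroup.eq_of_le_of_card_ge le_sup_right (hlt.trans hX₁card)
        have : X₀ = X₁ := e0.trans e1.symm
        rw [this]
        exact ih hX₁ hX₁card
  · -- large rank of the centralizer gives a chain
    intro hC
    obtain ⟨Y, hYC, hYea, hYcard⟩ := exists_of_not_pRankLE hC
    have hYc : IsMulCommutative Y := hYea.1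
    have hY3 := hE3 Y hYcard
    have hY1card := hbig Y hY3
    have hY1ea : Cfsg.IsElementaryAbelian p (Y ⊓ Subgroup.centralizer (U : Set P) : Subgroup P) := by
      refine ⟨?_, fun a ha => hYea.2 a ha.1⟩
      rw [isMulCommutative_iff]
      rintro ⟨a, ha⟩ ⟨b, hb⟩
      exact Subtype.ext (show a * b = b * a from
        congrArg Subtype.val (mul_comm' (⟨a, ha.1⟩ : Y) ⟨b, hb.1⟩))
    have hYge : p ^ 2 ≤ Nat.card Y := le_of_lt hYcard
    refine Relation.ReflTransGen.head (b := Y) ⟨hX, hXcard, hYea, hYge, ?_⟩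
      (Relation.ReflTransGen.head (b := Y ⊓ Subgroup.centralizer (U : Set P))
        ⟨hYea, hYge, hY1ea, hY1card, ?_⟩
        (Relation.ReflTransGen.single ⟨hY1ea, hY1card, hUea, le_of_eq hUcard.symm, ?_⟩))
    · intro a ha b hb
      exact ((Subgroup.mem_centralizer_iff.mp (hYC hb)) a ha)
    · intro a ha b hb
      exact congrArg Subtype.val (mul_comm' (⟨a, ha⟩ : Y) ⟨b, hb.1⟩)
    · intro a ha b hb
      exact ((Subgroup.mem_centralizer_iff.mp ha.2) b hb).symm

end Cfsg.Agent.S1337
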