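import Cfsg.Statements.S1338
import Mathlib
import Cfsg.Agent.Lib.Helper20.NR4D
import Cfsg.Agent.Lib.Helper20.NR4E

set_option autoImplicit false
open Cfsg

namespace Cfsg.Agent.S1338

open Cfsg.Agent.Lib.Helper20.NR4

/-- The edge relation of the commuting graph. -/
def Edge {P : Type*} [Group P] (A B : Subgroup P) : Prop :=
  IsElementaryAbelian 3 A ∧ 3 ^ 2 ≤ Nat.card ↥A ∧ IsElementaryAbelian 3 B ∧
    3 ^ 2 ≤ Nat.card ↥B ∧ ∀ a ∈ A, ∀ b ∈ B, a * b = b * a

theorem edge_symm {P : Type*} [Group P] : Symmetric (Edge (P := P)) := by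
  rintro A B ⟨h1, h2, h3, h4, h5⟩
  exact ⟨h3, h4, h1, h2, fun b hb a ha => (h5 a ha b hb).symm⟩

theorem path_symm {P : Type*} [Group P] {A B : Subgroup P}
    (h : Relation.ReflTransGen (Edge (P := P)) A B) : Relation.ReflTransGen (Edge (P := P)) B A := by
  induction h with
  | refl => exact Relation.ReflTransGen.refl
  | tail _ hbc ih => exact Relation.ReflTransGen.head (edge_symm hbc) ih

theorem elemAb_of_le {P : Type*} [Group P] {A B : Subgroup P} (hB : IsElementaryAbelian 3 B)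
    (hAB : A ≤ B) : IsElementaryAbelian 3 A :=
  ⟨isMulCommutative_of_comm A fun a ha b hb =>
    comm_of_isMulCommutative B hB.1 a (hAB ha) b (hAB hb), fun a ha => hB.2 a (hAB ha)⟩

theorem edge_of_le {P : Type*} [Group P] [Finite P] {A B : Subgroup P}
    (hB : IsElementaryAbelian 3 B) (hAB : A ≤ B) (hA : 3 ^ 2 ≤ Nat.card A) : Edge A B :=
  ⟨elemAb_of_le hB hAB, hA, hB, le_trans hA (Subgroup.card_le_of_le hAB), fun a ha b hb =>
    comm_of_isMulCommutative B hB.1 a (hAB ha) b hb⟩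

/-- Every vertex is joined to the normal elementary abelian subgroup `W` of order `81`. -/
theorem path_to_normal {P : Type*} [Group P] [Finite P] (hP : IsPGroup 3 P) (W : Subgroup P)
    [hWn : W.Normal] (hW : IsElementaryAbelian 3 W) (hWcard : Nat.card W = 3 ^ 4) (z : P)
    (hzW : z ∈ W) (hz1 : z ≠ 1) (hzc : z ∈ Subgroup.center P) (E : Subgroup P)
    (hE : IsElementaryAbelian 3 E) (hEcard : 3 ^ 2 ≤ Nat.card E) :
    Relation.ReflTransGen (Edge (P := P)) E W := by
  have hz3 : z ^ 3 = 1 := hW.2 z hzW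
  have hZcard : Nat.card (Subgroup.zpowers z) = 3 := by
    rw [Nat.card_zpowers, orderOf_eq_prime hz3 hz1]
  have hZp : ∀ a ∈ Subgroup.zpowers z, a ^ 3 = 1 := by
    intro a ha
    obtain ⟨i, rfl⟩ := Subgroup.mem_zpowers_iff.mp ha
    rw [← zpow_natCast, ← zpow_mul, mul_comm, zpow_mul, zpow_natCast, hz3, one_zpow]
  have hZc : ∀ a ∈ Subgroup.zpowers z, ∀ g : P, g * a = a * g := by
    intro a ha g
    obtain ⟨i, rfl⟩ := Subgroup.mem_zpowers_iff.mp ha
    exact (Subgroup.mem_center_iff.mp (Subgroup.zpow_mem _ hzc i) g)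
  have hEcomm := comm_of_isMulCommutative E hE.1
  -- E' = E ⊔ ⟨z⟩
  obtain ⟨hE'comm, hE'p⟩ := elemAb_sup (p := 3) E (Subgroup.zpowers z) hEcomm hE.2
    (fun a ha b _ => (hZc a ha b).symm) hZp (fun a _ b hb => hZc b hb a)
  set E' := E ⊔ Subgroup.zpowers z with hE'
  have hE'ea : IsElementaryAbelian 3 E' := ⟨isMulCommutative_of_comm E' hE'comm, hE'p⟩
  have hE'card : 3 ^ 2 ≤ Nat.card E' := le_trans hEcard (Subgroup.card_le_of_le le_sup_left)
  have e1 : Edge E E' := edge_of_le hE'ea le_sup_left hEcard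
  -- pick b ∈ E' \ ⟨z⟩
  obtain ⟨b, hbE', hbZ⟩ : ∃ b ∈ E', b ∉ Subgroup.zpowers z := by
    by_contra hcon
    push Not at hcon
    have h1 : E' ≤ Subgroup.zpowers z := hcon
    have h2 := Subgroup.card_le_of_le h1
    rw [hZcard] at h2
    omega
  set E0 := Subgroup.zpowers z ⊔ Subgroup.zpowers b with hE0
  have hE0E' : E0 ≤ E' := sup_le le_sup_right (Subgroup.zpowers_le.mpr hbE')
  have hE0card : 3 ^ 2 ≤ Nat.card E0 := by
    obtain ⟨j, hj⟩ := (hP.to_subgroup E0).exists_card_eq
    have hj2 : 2 ≤ j := by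
      by_contra hcon
      push Not at hcon
      have h1 : Nat.card E0 ≤ 3 := by
        rw [hj]
        calc 3 ^ j ≤ 3 ^ 1 := Nat.pow_le_pow_right (by norm_num) (by omega)
          _ = 3 := by norm_num
      have h2 : Subgroup.zpowers z = E0 :=
        Subgroup.eq_of_le_of_card_ge le_sup_left (by rw [hZcard]; exact h1)
      apply hbZ
      rw [h2]
      exact (le_sup_right : Subgroup.zpowers b ≤ E0) (Subgroup.mem_zpowers b)
    rw [hj]
    exact Nat.pow_le_pow_right (by norm_num) hj2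
  have e2 : Edge E' E0 := edge_symm (edge_of_le hE'ea hE0E' hE0card)
  -- B = C_W(b)
  have hWcomm := comm_of_isMulCommutative W hW.1
  set B : Subgroup P := W ⊓ Subgroup.centralizer ({b} : Set P) with hB
  have hBW : B ≤ W := inf_le_left
  have hBcard : 3 ^ 2 ≤ Nat.card B := by
    have h1 := card_le_card_centralizer_pow_three W hWcomm hW.2 b (hE'p b hbE')
    rw [hWcard] at h1
    obtain ⟨j, hj⟩ := (hP.to_subgroup B).exists_card_eq
    have hj2 : 2 ≤ j := by
      by_contra hcon
      push Not at hcon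
      have h2 : Nat.card B ≤ 3 := by
        rw [hj]
        calc 3 ^ j ≤ 3 ^ 1 := Nat.pow_le_pow_right (by norm_num) (by omega)
          _ = 3 := by norm_num
      have h3 : Nat.card B ^ 3 ≤ 3 ^ 3 := Nat.pow_le_pow_left h2 3
      have h4 : (3 : ℕ) ^ 4 ≤ 3 ^ 3 := le_trans h1 h3
      norm_num at h4
    rw [hj]
    exact Nat.pow_le_pow_right (by norm_num) hj2
  have hBea : IsElementaryAbelian 3 B := elemAb_of_le hW hBW
  have e3 : Edge E0 B := by
    refine ⟨elemAb_of_le hE'ea hE0E', hE0card, hBea, hBcard, ?_⟩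
    have h1 : E0 ≤ Subgroup.centralizer (B : Set P) := by
      apply sup_le
      · intro a ha
        rw [Subgroup.mem_centralizer_iff]
        intro c _
        exact hZc a ha c
      · rw [Subgroup.zpowers_le, Subgroup.mem_centralizer_iff]
        intro c hc
        have h2 := Subgroup.mem_centralizer_iff.mp hc.2 b (Set.mem_singleton b)
        exact h2.symm
    intro a ha c hc
    exact (Subgroup.mem_centralizer_iff.mp (h1 ha) c hc).symm
  have e4 : Edge B W := edge_of_le hW hBW hBcard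
  exact (((Relation.ReflTransGen.single e1).tail e2).tail e3).tail e4

/-- A finite 3-group of 3-rank at least 4 is 2-connected for the prime 3: its commuting graph on elementary abelian subgroups of order ≥ 9 is connected. -/
theorem result {P : Type*} [Group P] [Finite P] (hP : IsPGroup 3 P) (hrk : ¬ Cfsg.PRankLE 3 3 P) : Cfsg.IsKConnected 3 2 P := by
  unfold Cfsg.PRankLE at hrk
  push Not at hrk
  obtain ⟨A, hAc, hAp, hAcard⟩ := hrk
  haveI : Fact (Nat.Prime 3) := ⟨Nat.prime_three⟩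
  obtain ⟨k, hk⟩ := (hP.to_subgroup A).exists_card_eq
  have hk4 : 4 ≤ k := by
    by_contra hcon
    push Not at hcon
    have h1 : (3 : ℕ) ^ k ≤ 3 ^ 3 := Nat.pow_le_pow_right (by norm_num) (by omega)
    omega
  obtain ⟨E4, -, hE4A, hE4card⟩ :=
    Cfsg.Agent.Lib.Helper11.exists_between_pgroup (p := 3) (L := ⊥) (K := A) (a := 0)
      (by simp) hk bot_le (Nat.zero_le 4) hk4
  have hAea : IsElementaryAbelian 3 A := ⟨hAc, hAp⟩
  have hE4ea := elemAb_of_le hAea hE4A
  obtain ⟨W, hWn, hWc, hWp, hWcard⟩ :=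
    exists_normal_elemAb_card_four (p := 3) (by norm_num) hP E4 hE4ea.1 hE4ea.2 hE4card
  haveI := hWn
  have hWne : W ≠ ⊥ := by
    intro h
    rw [h, Subgroup.card_bot] at hWcard
    norm_num at hWcard
  obtain ⟨z, hzW, hz1, hzc⟩ := Cfsg.Agent.Lib.Helper12.exists_ne_one_mem_center_of_normal hP W hWne
  intro E E' hE hEcard hE' hE'card
  have h1 := path_to_normal hP W ⟨hWc, hWp⟩ hWcard z hzW hz1 hzc E hE hEcard
  have h2 := path_to_normal hP W ⟨hWc, hWp⟩ hWcard z hzW hz1 hzc E' hE' hE'card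
  exact h1.trans (path_symm h2)

end Cfsg.Agent.S1338
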