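import Cfsg.Statements.S1340
import Cfsg.Agent.Lib.Helper27.CompLemma
import Cfsg.Agent.Lib.Helper27.BlockEmb
import Cfsg.Agent.Lib.Helper2.SLGen

set_option autoImplicit false
open Cfsg

namespace Cfsg.Agent.S1340

/-- Let F be a finite field of odd order and n ≥ 3 with (n, |F|) ≠ (3, 3). Then GL(n, F) has a non-central involution t such that C(t) / O(C(t)) has a component. -/
theorem result {F : Type*} [Field F] [Fintype F] [DecidableEq F] (hF : Odd (Fintype.card F)) (n : ℕ) (hn : 3 ≤ n) (h33 : ¬ (n = 3 ∧ Fintype.card F = 3)) : ∃ t : Matrix.GeneralLinearGroup (Fin n) F, orderOf t = 2 ∧ t ∉ Subgroup.center (Matrix.GeneralLinearGroup (Fin n) F) ∧ Cfsg.HasComponent (↥(Subgroup.centralizer ({t} : Set (Matrix.GeneralLinearGroup (Fin n) F))) ⧸ Cfsg.oddCore ↥(Subgroup.centralizer ({t} : Set (Matrix.GeneralLinearGroup (Fin n) F)))) := by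
  classical
  open Cfsg.Agent.Lib.Helper27.BlockEmb in
  obtain ⟨m, rfl⟩ : ∃ m, n = m + 1 := ⟨n - 1, by omega⟩
  have hm : 2 ≤ m := by omega
  have hchar : ringChar F ≠ 2 := by
    intro h
    have := FiniteField.even_card_of_char_two h
    rcases hF with ⟨k, hk⟩
    omega
  have h2 : (2 : F) ≠ 0 := Ring.two_ne_zero hchar
  have hcard1 : 1 < Fintype.card F := Fintype.one_lt_card
  -- SL_m(F) is quasisimple
  have hS : Cfsg.IsQuasisimple (Matrix.SpecialLinearGroup (Fin m) F) := by
    rcases Nat.lt_or_ge m 3 with hlt | hge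
    · obtain rfl : m = 2 := by omega
      have hcard5 : 5 ≤ Fintype.card F := by
        rcases hF with ⟨k, hk⟩
        have h3 : Fintype.card F ≠ 3 := fun h => h33 ⟨rfl, h⟩
        omega
      refine ⟨⟨?_⟩, ?_⟩
      · -- perfect
        have hex : ∃ a : F, a ∉ ({0, 1, -1} : Finset F) := by
          by_contra hcon
          push Not at hcon
          have hsub : (Finset.univ : Finset F) ⊆ {0, 1, -1} := fun a _ => hcon a
          have h1 := Finset.card_le_card hsub
          have h3 : ({0, 1, -1} : Finset F).card ≤ 3 := Finset.card_le_three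
          rw [Finset.card_univ] at h1
          omega
        obtain ⟨a, ha⟩ := hex
        simp only [Finset.mem_insert, Finset.mem_singleton, not_or] at ha
        apply Matrix.SL2.commutator_eq_top ha.1
        intro hsq
        have : (a - 1) * (a + 1) = 0 := by ring_nf; rw [hsq]; ring
        rcases mul_eq_zero.mp this with h | h
        · exact ha.2.1 (by linear_combination h)
        · exact ha.2.2 (by linear_combination h)
      · exact Matrix.ProjectiveSpecialLinearGroup.rank_two_simple
          (by rw [Nat.card_eq_fintype_card]; omega)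
    · refine ⟨⟨Cfsg.Agent.Lib.Helper2.sl_commutator_eq_top (by simpa using hge)⟩, ?_⟩
      exact Cfsg.Agent.Lib.Helper2.psl_isSimpleGroup (by simpa using hge)
  let ρ : Matrix.GeneralLinearGroup (Fin (m + 1)) F ≃* Matrix.GeneralLinearGroup (Fin m ⊕ Fin 1) F :=
    Units.mapEquiv (Matrix.reindexAlgEquiv F F finSumFinEquiv.symm).toMulEquiv
  have hρ : ∀ x y : Matrix.GeneralLinearGroup (Fin (m + 1)) F, ρ x = ρ y → x = y :=
    fun x y h => ρ.injective h
  refine ⟨ρ.symm (t₀ (Fin m) (Fin 1) F), ?_, ?_, ?_⟩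
  · apply orderOf_eq_prime
    · rw [pow_two, ← map_mul, t₀_mul_self, map_one]
    · intro h
      apply t₀_ne_one (a := Fin m) (b := Fin 1) h2
      have := congrArg ρ h
      simpa using this
  · intro hcen
    haveI : Nonempty (Fin m) := ⟨⟨0, by omega⟩⟩
    obtain ⟨g, hg⟩ := exists_not_comm (a := Fin m) (b := Fin 1) (F := F) h2
    apply hg
    have h1 := (Subgroup.mem_center_iff.mp hcen) (ρ.symm g)
    have h3 := congrArg ρ h1
    simpa using h3
  · apply Cfsg.Agent.Lib.Helper27.CompLemma.hasComponent_of_hom hS _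
      (ρ.symm.toMonoidHom.comp (f₀ (Fin m) (Fin 1) F))
    · intro s
      show ρ.symm (f₀ (Fin m) (Fin 1) F s) * ρ.symm (t₀ (Fin m) (Fin 1) F) =
        ρ.symm (t₀ (Fin m) (Fin 1) F) * ρ.symm (f₀ (Fin m) (Fin 1) F s)
      rw [← map_mul, ← map_mul, f₀_comm]
    · intro g hg s
      have hg' : ρ g * t₀ (Fin m) (Fin 1) F = t₀ (Fin m) (Fin 1) F * ρ g := by
        have := congrArg ρ hg
        simpa using this
      obtain ⟨s', hs'⟩ := f₀_conj h2 (ρ g) hg' s
      refine ⟨s', ?_⟩
      apply ρ.injective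
      show ρ (g * ρ.symm (f₀ (Fin m) (Fin 1) F s) * g⁻¹) = ρ (ρ.symm (f₀ (Fin m) (Fin 1) F s'))
      rw [map_mul, map_mul, map_inv, MulEquiv.apply_symm_apply, MulEquiv.apply_symm_apply, hs']
    · obtain ⟨A, hA1, hA2⟩ := exists_involution (a := Fin m) (F := F) h2
        (i := ⟨0, by omega⟩) (j := ⟨1, by omega⟩) (by simp [Fin.ext_iff])
      refine ⟨A, ?_, ?_⟩
      · intro h
        apply hA1
        have h1 : f₀ (Fin m) (Fin 1) F A = 1 := by
          have := congrArg ρ h
          simpa using this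
        have h3 := congrArg Units.val h1
        rw [f₀_val, Units.val_one, ← Matrix.fromBlocks_one, Matrix.fromBlocks_inj] at h3
        exact Subtype.ext h3.1
      · rw [← map_mul, hA2, map_one]

end Cfsg.Agent.S1340
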