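import Cfsg.Statements.S1348
import Cfsg.Agent.Lib.Lead.StdSLF

set_option autoImplicit false
open Cfsg

namespace Cfsg.Agent.S1348

/-- Let F be a finite field of odd order, n ≥ 7 odd, and t ∈ SL(n, F) the diagonal matrix with entries −1, …, −1, 1. Then E(C(t)) is a standard subgroup of SL(n, F). -/
theorem result {F : Type*} [Field F] [Fintype F] [DecidableEq F] (hF : Odd (Fintype.card F)) (n : ℕ) (hn : 7 ≤ n) (hodd : Odd n) (t : Matrix.SpecialLinearGroup (Fin n) F) (ht : (t : Matrix (Fin n) (Fin n) F) = Matrix.diagonal (fun i : Fin n => if (i : ℕ) + 1 = n then (1 : F) else -1)) : Cfsg.IsStandardSubgroup ((Cfsg.layer ↥(Subgroup.centralizer ({t} : Set (Matrix.SpecialLinearGroup (Fin n) F)))).map (Subgroup.centralizer ({t} : Set (Matrix.SpecialLinearGroup (Fin n) F))).subtype) := by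
  classical
  obtain ⟨m, rfl⟩ : ∃ m, n = m + 1 := ⟨n - 1, by omega⟩
  have hchar : ringChar F ≠ 2 := by
    intro h
    have := FiniteField.even_card_of_char_two h
    rcases hF with ⟨k, hk⟩
    omega
  have h2 : (2 : F) ≠ 0 := Ring.two_ne_zero hchar
  have ht' : (t : Matrix (Fin (m + 1)) (Fin (m + 1)) F) = Cfsg.Agent.Lib.Lead.StdSL.dg (-1) 1 := by
    rw [ht]
    unfold Cfsg.Agent.Lib.Lead.StdSL.dg
    congr 1
    funext i
    induction i using Fin.lastCases with
    | last => simp
    | cast i =>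
      have : (i : ℕ) < m := i.2
      simp
      omega
  rw [Cfsg.Agent.Lib.Lead.StdSL.layer_map_eq h2 t ht' (by omega)]
  exact Cfsg.Agent.Lib.Lead.StdSL.isStandard_KK h2 (by omega) hodd t ht'

end Cfsg.Agent.S1348
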