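import Cfsg.Statements.S1355
-- import your own Cfsg.Agent.* helpers here
import Cfsg.Agent.Lib.Helper1.BG152D
import Cfsg.Agent.S1350
import Cfsg.Agent.S1351
import Cfsg.Agent.S1352
import Cfsg.Agent.S1364
import Cfsg.Agent.S1365
import Cfsg.Agent.S1373
import Cfsg.Agent.S1403
import Cfsg.Agent.S1415
import Cfsg.Agent.S1426
import Cfsg.Agent.S1429
import Cfsg.Agent.S1430

set_option autoImplicit false
open Cfsg

namespace Cfsg.Agent.S1355

/-- Let G be a minimal simple group of odd order and M a maximal subgroup. Then the largest normal nilpotent Hall subgroup M_F of M is nontrivial and contained in M_σ, M_σ is contained in the derived subgroup M', M' is proper in M, and the image of M' in M/M_F is nilpotent. -/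
theorem result {G : Type*} [Group G] [Finite G] (hG : Cfsg.IsMinSimpleOddOrder G)
    (M : Subgroup G) (hM : IsCoatom M) :
    Cfsg.fittingHallOf M ≠ ⊥ ∧ Cfsg.fittingHallOf M ≤ Cfsg.sigmaCore M ∧ Cfsg.sigmaCore M ≤ ⁅M, M⁆ ∧ ⁅M, M⁆ < M ∧
      Group.IsNilpotent ↥((commutator ↥M).map (QuotientGroup.mk' (Cfsg.fittingHall ↥M))) := by
  have hHall := (Cfsg.Agent.S1350.result hG M hM).1
  have hUT : Cfsg.Agent.Lib.Helper1.BGX.UT G :=
    fun K hK hK2 hK3 => Cfsg.Agent.S1403.result hG K hK hK2 hK3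
  obtain ⟨⟨K, hK⟩, hcyc⟩ := Cfsg.Agent.S1351.result hG M hM
  have hKc := hcyc K hK
  obtain ⟨⟨U, hKU⟩, -⟩ := Cfsg.Agent.S1352.result hG M hM K hKc hK
  have hE := Cfsg.Agent.Lib.Helper1.BGZhat.isComplIn_U_sup_K hHall hKU
  have h26 := Cfsg.Agent.S1426.result hG M hM (U ⊔ K) hE
  have h15 := (Cfsg.Agent.S1415.result hG M hM (U ⊔ K) hE).1
  have h29 : (¬ ∀ q : ℕ, q.Prime → q ∣ Nat.card M → q ∉ Cfsg.sigma M → q ∈ Cfsg.kappa M) →
      Group.IsNilpotent (Cfsg.sigmaCore M) := by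
    intro hP1
    have hP1' := hP1
    push_neg at hP1'
    obtain ⟨q, hq, hqM, hqσ, hqκ⟩ := hP1'
    haveI : Fact q.Prime := ⟨hq⟩
    obtain ⟨S⟩ : Nonempty (Sylow q M) := inferInstance
    exact (Cfsg.Agent.S1429.result hG M hM hP1 q hqM
      (by rintro (h | h); exact hqσ h; exact hqκ h) S).2.2
  exact Cfsg.Agent.Lib.Helper1.BG152.s1355_core hG hUT hM hHall hKU h26.1 h26.2.1 h15 h29
    (fun hK1 => Cfsg.Agent.S1430.result hG M hM K hKU.hall hK1)
    (fun hK1 hU => Cfsg.Agent.S1373.result hG M hM K U hKU hK1 hU)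
    (fun hK1 => ⟨(Cfsg.Agent.S1364.result hG M hM K U hKU hK1).2.1,
      (Cfsg.Agent.S1364.result hG M hM K U hKU hK1).2.2.1⟩)
    (fun hK1 => (Cfsg.Agent.S1365.result hG M hM K U hKU hK1).1)

end Cfsg.Agent.S1355
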