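import Cfsg.Statements.S1361
-- import your own Cfsg.Agent.* helpers here
import Cfsg.Agent.Lib.Helper1.BGKap2
import Cfsg.Agent.Lib.Helper19.BG1210
import Cfsg.Agent.S1350
import Cfsg.Agent.S1403
import Cfsg.Agent.S1417
import Cfsg.Agent.S1420

set_option autoImplicit false
open Cfsg

namespace Cfsg.Agent.S1361

/-- Let G be a minimal simple group of odd order and M a maximal subgroup with standard factorisation M = K U M_σ. If X is a nontrivial subgroup of U centralizing some non-identity element of M_σ, then C_G(X) ≤ M and M is the unique maximal subgroup of G containing C_G(X). -/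
theorem result {G : Type*} [Group G] [Finite G] (hG : Cfsg.IsMinSimpleOddOrder G)
    (M : Subgroup G) (hM : IsCoatom M) (K U : Subgroup G) (hKU : Cfsg.IsSigmaDecomposition M K U) (X : Subgroup G) (hXU : X ≤ U) (hX : X ≠ ⊥)
    (hXc : Cfsg.sigmaCore M ⊓ Subgroup.centralizer (X : Set G) ≠ ⊥) :
    Subgroup.centralizer (X : Set G) ≤ M ∧ ∀ L : Subgroup G, IsCoatom L → Subgroup.centralizer (X : Set G) ≤ L → L = M := by
  have hU : Cfsg.Agent.Lib.Helper1.BGX.UT G := fun K hK hK2 hK3 => Cfsg.Agent.S1403.result hG K hK hK2 hK3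
  have hHall := (Cfsg.Agent.S1350.result hG M hM).1
  have h125 : Cfsg.Agent.Lib.Helper2.BGCor.T125 M :=
    fun p _ hp A hA => Cfsg.Agent.S1417.result hG M hM p hp A hA
  have h1210 : Cfsg.Agent.Lib.Helper1.BGKap.T1210 M := fun E X hE hXE hX =>
    Cfsg.Agent.Lib.Helper19.BG1210.tau2_subgroup_comm hG hM hE hXE hX
  obtain ⟨E, hE⟩ := Cfsg.Agent.Lib.Helper2.BGCor.exists_compl_sigmaCore hHall
  have h20d : Cfsg.Agent.Lib.Helper1.BGKap.T1220d M := (Cfsg.Agent.S1420.result hG M hM E hE).2.2.2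
  exact Cfsg.Agent.Lib.Helper1.BGKap.s1361_core hG hU hM hHall hKU h125 h1210 h20d hXU hX hXc

end Cfsg.Agent.S1361
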