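import Cfsg.Statements.S1386
import Cfsg.Agent.Lib.Helper9.Cyclic

set_option autoImplicit false
open Cfsg

namespace Cfsg.Agent.S1386

/-- Let G be a finite group, W₁, W₂ subgroups forming a self-normalizing cyclic pair, S a subgroup with W₂ ≤ S and W₁ a complement to S' in S, and (W₁, U, W₂') type-P data for S. Then W₂' = W₂ (that is, C_{S'}(W₁) = W₂). -/
theorem result {G : Type*} [Group G] [Finite G] (W₁ W₂ S U W₂' : Subgroup G) (hW : Cfsg.IsSelfNormalizingCyclic W₁ W₂)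
    (hSW : Cfsg.IsComplIn ⁅S, S⁆ W₁ S) (hW₂S : W₂ ≤ S) (hP : Cfsg.IsTypePWith S W₁ U W₂') :
    W₂' = W₂ := by
  classical
  obtain ⟨hW₁ne, hW₂ne, hinf, hcomm, hcyc, hnorm⟩ := hW
  obtain ⟨_, hW₂'ne, hinf', hcomm', hcyc', hnorm'⟩ := hP.selfNormalizing
  obtain ⟨hS'S, hW₁S, hS'W₁, hSprod⟩ := hSW
  -- pick non-identity elements
  obtain ⟨⟨x, hx⟩, hx1⟩ := (Subgroup.ne_bot_iff_exists_ne_one).mp hW₁ne
  have hx1' : x ≠ 1 := fun h => hx1 (Subtype.ext h)
  obtain ⟨⟨y, hy⟩, hy1⟩ := (Subgroup.ne_bot_iff_exists_ne_one).mp hW₂ne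
  have hy1' : y ≠ 1 := fun h => hy1 (Subtype.ext h)
  have hcent := hP.W₂_centralizer x hx hx1'
  -- W₁ is commutative
  have hW₁comm : ∀ a ∈ W₁, ∀ b ∈ W₁, a * b = b * a := by
    intro a ha b hb
    have hc := hP.W₁_cyclic
    have := mul_comm' (⟨a, ha⟩ : ↥W₁) ⟨b, hb⟩
    exact congrArg Subtype.val this
  -- Step 1: W₂ ≤ W₁ ⊔ W₂'
  have step1 : W₂ ≤ W₁ ⊔ W₂' := by
    intro v hv
    obtain ⟨s, hs, w, hw, hvsw⟩ := hSprod v (hW₂S hv)
    have hsC : s ∈ ⁅S, S⁆ ⊓ Subgroup.centralizer ({x} : Set G) := by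
      refine Subgroup.mem_inf.mpr ⟨hs, ?_⟩
      rw [Subgroup.mem_centralizer_iff]
      intro g hg
      rw [Set.mem_singleton_iff] at hg
      subst hg
      have hsv : s = v * w⁻¹ := by rw [hvsw]; group
      have h1 : g * v = v * g := hcomm g hx v hv
      have h2 : g * w⁻¹ = w⁻¹ * g := hW₁comm g hx w⁻¹ (W₁.inv_mem hw)
      rw [hsv]
      calc g * (v * w⁻¹) = (g * v) * w⁻¹ := by group
        _ = (v * g) * w⁻¹ := by rw [h1]
        _ = v * (g * w⁻¹) := by group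
        _ = v * (w⁻¹ * g) := by rw [h2]
        _ = v * w⁻¹ * g := by group
    rw [hcent] at hsC
    rw [hvsw]
    exact Subgroup.mul_mem _ (Subgroup.mem_sup_right hsC) (Subgroup.mem_sup_left hw)
  -- Step 2: W₁ ⊔ W₂' ≤ W₁ ⊔ W₂
  have hle' : W₁ ⊔ W₂ ≤ W₁ ⊔ W₂' := sup_le le_sup_left step1
  have step2 : W₁ ⊔ W₂' ≤ W₁ ⊔ W₂ := by
    have hz_mem : x * y ∈ W₁ ⊔ W₂ := Subgroup.mul_mem _ (Subgroup.mem_sup_left hx) (Subgroup.mem_sup_right hy)
    have hz1 : x * y ∉ W₁ := by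
      intro h
      have : y ∈ W₁ := by
        have := W₁.mul_mem (W₁.inv_mem hx) h
        simpa using this
      have : y ∈ W₁ ⊓ W₂ := Subgroup.mem_inf.mpr ⟨this, hy⟩
      rw [hinf, Subgroup.mem_bot] at this
      exact hy1' this
    have hz2 : x * y ∉ W₂ := by
      intro h
      have : x ∈ W₂ := by
        have := W₂.mul_mem h (W₂.inv_mem hy)
        simpa using this
      have : x ∈ W₁ ⊓ W₂ := Subgroup.mem_inf.mpr ⟨hx, this⟩
      rw [hinf, Subgroup.mem_bot] at this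
      exact hx1' this
    have hN := hnorm {x * y} (by
      intro t ht
      rw [Set.mem_singleton_iff] at ht
      subst ht
      exact ⟨hz_mem, fun h => h.elim hz1 hz2⟩) (Set.singleton_nonempty _)
    rw [← hN]
    intro g hg
    rw [Subgroup.mem_set_normalizer_iff]
    intro n
    have hgz : g * (x * y) = (x * y) * g := by
      have := mul_comm' (⟨g, hg⟩ : ↥(W₁ ⊔ W₂')) ⟨x * y, hle' hz_mem⟩
      exact congrArg Subtype.val this
    simp only [Set.mem_singleton_iff]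
    constructor
    · rintro rfl
      rw [hgz]; group
    · intro h
      have h3 : n = g⁻¹ * (x * y) * g := by rw [← h]; group
      rw [h3]
      calc g⁻¹ * (x * y) * g = g⁻¹ * ((x * y) * g) := by group
        _ = g⁻¹ * (g * (x * y)) := by rw [hgz]
        _ = x * y := by group
  have hWeq : W₁ ⊔ W₂' = W₁ ⊔ W₂ := le_antisymm step2 hle'
  -- Step 3: cardinalities inside the commutative group W = W₁ ⊔ W₂
  have hW₂'le : W₂' ≤ W₁ ⊔ W₂ := hWeq ▸ le_sup_right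
  have := hcyc
  have key : ∀ B : Subgroup G, B ≤ W₁ ⊔ W₂ → W₁ ⊔ B = W₁ ⊔ W₂ → W₁ ⊓ B = ⊥ →
      Nat.card W₁ * Nat.card B = Nat.card ↥(W₁ ⊔ W₂) := by
    intro B hB hsup hBinf
    have h := Cfsg.Agent.Lib.Helper9.card_mul_card_of_sup_eq_top_of_inf_eq_bot
      (W₁.subgroupOf (W₁ ⊔ W₂)) (B.subgroupOf (W₁ ⊔ W₂))
      (by rw [← Subgroup.subgroupOf_sup le_sup_left hB, hsup, Subgroup.subgroupOf_self])
      (by
        have : (W₁ ⊓ B).subgroupOf (W₁ ⊔ W₂) = W₁.subgroupOf (W₁ ⊔ W₂) ⊓ B.subgroupOf (W₁ ⊔ W₂) :=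
          Subgroup.comap_inf _ _ _
        rw [← this, hBinf, Subgroup.bot_subgroupOf])
    rwa [Nat.card_congr (Subgroup.subgroupOfEquivOfLe (le_sup_left : W₁ ≤ W₁ ⊔ W₂)).toEquiv,
      Nat.card_congr (Subgroup.subgroupOfEquivOfLe hB).toEquiv] at h
  have hA := key W₂ le_sup_right rfl hinf
  have hB := key W₂' hW₂'le hWeq hinf'
  have hpos : 0 < Nat.card W₁ := Nat.card_pos
  have hcardeq : Nat.card W₂' = Nat.card W₂ :=
    Nat.eq_of_mul_eq_mul_left hpos (hB.trans hA.symm)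
  exact Cfsg.Agent.Lib.Helper9.eq_of_card_eq_of_le_isCyclic (W₁ ⊔ W₂) W₂' W₂ hW₂'le le_sup_right hcardeq

end Cfsg.Agent.S1386
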