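import Cfsg.Statements.S1387
import Cfsg.Agent.Lib.Helper9.TypeP

set_option autoImplicit false
open Cfsg

namespace Cfsg.Agent.S1387

/-- Let M be a subgroup of a finite group G with type-P data (W₁, U, W₂) and H = M_F. Then the Fitting subgroup F(M) is generated by H and the centralizer of H in U. -/
theorem result {G : Type*} [Group G] [Finite G] (M W₁ U W₂ : Subgroup G) (hP : Cfsg.IsTypePWith M W₁ U W₂) :
    Cfsg.fittingOf M = Cfsg.fittingHallOf M ⊔ (U ⊓ Subgroup.centralizer (Cfsg.fittingHallOf M : Set G)) := by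
  have hkey := Cfsg.Agent.Lib.Helper9.typeP_fittingOf_inf_U_le hP
  obtain ⟨hHM', hUM', hinf, hprod⟩ := hP.U_compl
  have hM'M : ⁅M, M⁆ ≤ M := Subgroup.commutator_le_self M
  have hHF : Cfsg.fittingHallOf M ≤ Cfsg.fittingOf M :=
    Cfsg.Agent.Lib.Helper9.fittingHallOf_le_fittingOf M
  apply le_antisymm
  · intro x hx
    obtain ⟨a, ha, b, hb, rfl⟩ := hprod x (hP.fitting_le hx)
    have hbF : b ∈ Cfsg.fittingOf M := by
      have : b = a⁻¹ * (a * b) := by group
      rw [this]
      exact Subgroup.mul_mem _ (Subgroup.inv_mem _ (hHF ha)) hx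
    have hbC := hkey (Subgroup.mem_inf.mpr ⟨hbF, hb⟩)
    exact Subgroup.mul_mem _ (Subgroup.mem_sup_left ha)
      (Subgroup.mem_sup_right (Subgroup.mem_inf.mpr ⟨hb, hbC⟩))
  · refine sup_le hHF ?_
    rw [← hP.fitting_eq]
    refine le_trans ?_ le_sup_right
    exact inf_le_inf_right _ (hUM'.trans hM'M)

end Cfsg.Agent.S1387
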