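import Cfsg.Statements.S1388
import Cfsg.Agent.Lib.Helper9.TypeP

set_option autoImplicit false
open Cfsg

namespace Cfsg.Agent.S1388

/-- Let M be a subgroup of a finite group G with type-P data (W₁, U, W₂) and H = M_F. Then the derived subgroup of U centralizes H, and if U ≠ 1 then U does not centralize H. -/
theorem result {G : Type*} [Group G] [Finite G] (M W₁ U W₂ : Subgroup G) (hP : Cfsg.IsTypePWith M W₁ U W₂) :
    ⁅U, U⁆ ≤ Subgroup.centralizer (Cfsg.fittingHallOf M : Set G) ∧ (U ≠ ⊥ → ¬ U ≤ Subgroup.centralizer (Cfsg.fittingHallOf M : Set G)) := by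
  have hkey := Cfsg.Agent.Lib.Helper9.typeP_fittingOf_inf_U_le hP
  obtain ⟨hHM', hUM', hinf, hprod⟩ := hP.U_compl
  have hM'M : ⁅M, M⁆ ≤ M := Subgroup.commutator_le_self M
  have hUM : U ≤ M := hUM'.trans hM'M
  constructor
  · refine le_trans (le_inf ?_ ?_) hkey
    · calc ⁅U, U⁆ ≤ ⁅⁅M, M⁆, ⁅M, M⁆⁆ := Subgroup.commutator_mono hUM' hUM'
        _ ≤ Cfsg.fittingHallOf M ⊔ (M ⊓ Subgroup.centralizer (Cfsg.fittingHallOf M : Set G)) :=
          hP.derived_two_le
        _ = Cfsg.fittingOf M := hP.fitting_eq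
    · exact Subgroup.commutator_le_self U
  · intro hU1 hUC
    apply hU1
    -- `U` is a normal nilpotent Hall subgroup of `M`, hence lies in `M_F`
    have hnorm : M ≤ Subgroup.normalizer (U : Set G) := by
      intro m hm
      obtain ⟨a, ha, w, hw, rfl⟩ := hP.W₁_compl.2.2.2 m hm
      obtain ⟨h, hh, u, hu, rfl⟩ := hprod a ha
      have h1 : h ∈ Subgroup.normalizer (U : Set G) := by
        apply Subgroup.centralizer_le_normalizer
        rw [Subgroup.mem_centralizer_iff]
        intro v hv
        have := Subgroup.mem_centralizer_iff.mp (hUC hv) h hh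
        exact this.symm
      have h2 : u ∈ Subgroup.normalizer (U : Set G) := Subgroup.le_normalizer hu
      have h3 : w ∈ Subgroup.normalizer (U : Set G) := hP.U_normal hw
      exact Subgroup.mul_mem _ (Subgroup.mul_mem _ h1 h2) h3
    have hN : (U.subgroupOf M).Normal := (Subgroup.normal_subgroupOf_iff_le_normalizer hUM).mpr hnorm
    have hnil : Group.IsNilpotent ↥(U.subgroupOf M) := by
      have := hP.U_nilpotent
      exact Group.nilpotent_of_mulEquiv (Subgroup.subgroupOfEquivOfLe hUM).symm
    have hcardU : Nat.card ↥(U.subgroupOf M) = Nat.card U :=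
      Nat.card_congr (Subgroup.subgroupOfEquivOfLe hUM).toEquiv
    have c1 := Cfsg.Agent.Lib.Helper9.isComplIn_card_mul_card hP.U_compl
    have c2 := Cfsg.Agent.Lib.Helper9.isComplIn_card_mul_card hP.W₁_compl
    have c3 := Cfsg.Agent.Lib.Helper9.card_eq_card_mul_relIndex hUM
    have c4 := Cfsg.Agent.Lib.Helper9.card_eq_card_mul_relIndex hP.W₁_compl.2.1
    have hUpos : 0 < Nat.card U := Nat.card_pos
    have hWpos : 0 < Nat.card W₁ := Nat.card_pos
    have hidx : U.relIndex M = Nat.card (Cfsg.fittingHallOf M) * Nat.card W₁ := by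
      apply Nat.eq_of_mul_eq_mul_left hUpos
      rw [← c3, ← c2, ← c1]
      ring
    have hrelW : W₁.relIndex M = Nat.card (Cfsg.fittingHallOf M) * Nat.card U := by
      apply Nat.eq_of_mul_eq_mul_left hWpos
      rw [← c4, ← c2, ← c1]
      ring
    have hcopH := Cfsg.Agent.Lib.Helper9.typeP_coprime_card_U hP
    have hcopW : (Nat.card U).Coprime (Nat.card W₁) := by
      have := hP.W₁_hall
      rw [hrelW] at this
      exact (Nat.Coprime.coprime_dvd_right (dvd_mul_left _ _) this).symm
    have hcop : (Nat.card ↥(U.subgroupOf M)).Coprime (U.subgroupOf M).index := by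
      rw [hcardU]
      show (Nat.card U).Coprime (U.relIndex M)
      rw [hidx]
      exact Nat.Coprime.mul_right hcopH hcopW
    have hle := Cfsg.Agent.Lib.Helper9.le_fittingHall hN hnil hcop
    have hUH : U ≤ Cfsg.fittingHallOf M := by
      have := Subgroup.map_mono (f := M.subtype) hle
      rwa [Subgroup.map_subgroupOf_eq_of_le hUM] at this
    rw [eq_bot_iff, ← hinf]
    exact le_inf hUH le_rfl

end Cfsg.Agent.S1388
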