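import Cfsg.Statements.S1442
import Cfsg.Agent.Lib.Helper9.Stability

set_option autoImplicit false
open Cfsg

namespace Cfsg.Agent.S1442

open scoped commutatorElement

/-- Let G be a finite group, H a nilpotent subgroup and A a subgroup normalizing H with the orders of A and H coprime. Put C = H ∩ C_G(A). If H ∩ C_G(C) ≤ C then A centralizes H. -/
theorem result {G : Type*} [Group G] [Finite G] (H A : Subgroup G) (hH : Group.IsNilpotent H) (hA : (A ≤ Subgroup.normalizer (H : Set G))) (hcop : (Nat.card A).Coprime (Nat.card H))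
    (hC : H ⊓ Subgroup.centralizer (((H ⊓ Subgroup.centralizer (A : Set G)) : Subgroup G) : Set G) ≤ (H ⊓ Subgroup.centralizer (A : Set G))) :
    A ≤ Subgroup.centralizer (H : Set G) := by
  classical
  set C : Subgroup G := H ⊓ Subgroup.centralizer (A : Set G) with hCdef
  have hCH : C ≤ H := inf_le_left
  -- the normalizer of `C` in `H` is `C`
  have hNC : H ⊓ Subgroup.normalizer (C : Set G) ≤ C := by
    intro y hy
    refine Subgroup.mem_inf.mpr ⟨(Subgroup.mem_inf.mp hy).1, ?_⟩
    rw [Subgroup.mem_centralizer_iff]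
    intro a ha
    have hcopa : (orderOf a).Coprime (Nat.card ↥(H ⊓ Subgroup.normalizer (C : Set G))) := by
      have h1 : orderOf a ∣ Nat.card A := Subgroup.orderOf_dvd_natCard A ha
      have h2 : Nat.card ↥(H ⊓ Subgroup.normalizer (C : Set G)) ∣ Nat.card H :=
        Subgroup.card_dvd_of_le inf_le_left
      exact Nat.Coprime.coprime_dvd_left h1 (Nat.Coprime.coprime_dvd_right h2 hcop)
    have hK : ∀ k ∈ C, a * k = k * a := by
      intro k hk
      exact Subgroup.mem_centralizer_iff.mp (Subgroup.mem_inf.mp hk).2 a ha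
    have hN : ∀ h ∈ H ⊓ Subgroup.normalizer (C : Set G), ⁅h, a⁆ ∈ C := by
      intro h hh
      apply hC
      refine Subgroup.mem_inf.mpr ⟨?_, ?_⟩
      · have haN := hA ha
        rw [Subgroup.mem_normalizer_iff] at haN
        have : a * h⁻¹ * a⁻¹ ∈ H := (haN h⁻¹).mp (H.inv_mem (Subgroup.mem_inf.mp hh).1)
        have e : ⁅h, a⁆ = h * (a * h⁻¹ * a⁻¹) := by rw [commutatorElement_def]; group
        rw [e]
        exact H.mul_mem (Subgroup.mem_inf.mp hh).1 this
      · rw [Subgroup.mem_centralizer_iff]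
        intro c hc
        have hc' : h⁻¹ * c * h ∈ C := by
          have hn := Subgroup.inv_mem _ (Subgroup.mem_inf.mp hh).2
          rw [Subgroup.mem_normalizer_iff] at hn
          have := (hn c).mp hc
          simpa using this
        have e1 : a⁻¹ * c = c * a⁻¹ := by
          have := hK c hc
          calc a⁻¹ * c = a⁻¹ * (c * a) * a⁻¹ := by group
            _ = a⁻¹ * (a * c) * a⁻¹ := by rw [this]
            _ = c * a⁻¹ := by group
        have e2 : a * (h⁻¹ * c * h) = (h⁻¹ * c * h) * a := hK _ hc'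
        symm
        calc ⁅h, a⁆ * c = h * a * h⁻¹ * (a⁻¹ * c) := by rw [commutatorElement_def]; group
          _ = h * a * h⁻¹ * (c * a⁻¹) := by rw [e1]
          _ = h * (a * (h⁻¹ * c * h)) * h⁻¹ * a⁻¹ := by group
          _ = h * ((h⁻¹ * c * h) * a) * h⁻¹ * a⁻¹ := by rw [e2]
          _ = c * ⁅h, a⁆ := by rw [commutatorElement_def]; group
    exact Cfsg.Agent.Lib.Helper9.mem_centralizer_of_stabilizes_pair
      (H ⊓ Subgroup.normalizer (C : Set G)) C (le_inf hCH Subgroup.le_normalizer) a hcopa hK hN y hy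
  -- normalizer condition in the nilpotent group `H`
  have htop : C.subgroupOf H = ⊤ := by
    by_contra hne
    have hlt : C.subgroupOf H < ⊤ := lt_top_iff_ne_top.mpr hne
    have hnc := Group.normalizerCondition_of_isNilpotent (G := ↥H) _ hlt
    obtain ⟨y, hyN, hyC⟩ := SetLike.exists_of_lt hnc
    rw [← Subgroup.subgroupOf_normalizer_eq hCH, Subgroup.mem_subgroupOf] at hyN
    apply hyC
    rw [Subgroup.mem_subgroupOf]
    exact hNC (Subgroup.mem_inf.mpr ⟨y.2, hyN⟩)
  rw [Subgroup.subgroupOf_eq_top] at htop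
  intro a ha
  rw [Subgroup.mem_centralizer_iff]
  intro h hh
  have := (Subgroup.mem_inf.mp (htop hh)).2
  rw [Subgroup.mem_centralizer_iff] at this
  exact (this a ha).symm

end Cfsg.Agent.S1442
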