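import Cfsg.Statements.S1447
-- import your own Cfsg.Agent.* helpers here
import Cfsg.Agent.Lib.Helper1.MetaCoprime

set_option autoImplicit false
open Cfsg

namespace Cfsg.Agent.S1447

open scoped commutatorElement

/-- Let G be a finite group, p an odd prime, R a metacyclic p-subgroup and A a subgroup of order coprime to p normalizing R. Then [R, A] is abelian; R is generated by [R, A] and R ∩ C_G(A), which meet trivially; and if R is non-abelian and A does not centralize R, then [R, A] and R ∩ C_G(A) are nontrivial cyclic groups and [R, R] ≤ [R, A]. -/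
theorem result {G : Type*} [Group G] [Finite G] (p : ℕ) [Fact p.Prime] (hp : p ≠ 2) (R A : Subgroup G) (hR : IsPGroup p R) (hRm : Cfsg.IsMetacyclic R)
    (hA : (A ≤ Subgroup.normalizer (R : Set G))) (hcop : (Nat.card A).Coprime p) :
    IsMulCommutative ↥⁅R, A⁆ ∧ ⁅R, A⁆ ⊔ (R ⊓ Subgroup.centralizer (A : Set G)) = R ∧ ⁅R, A⁆ ⊓ (R ⊓ Subgroup.centralizer (A : Set G)) = ⊥ ∧
      (¬ IsMulCommutative R → ¬ A ≤ Subgroup.centralizer (R : Set G) →
        ⁅R, A⁆ ≠ ⊥ ∧ IsCyclic ↥⁅R, A⁆ ∧ (R ⊓ Subgroup.centralizer (A : Set G)) ≠ ⊥ ∧ IsCyclic ↥(R ⊓ Subgroup.centralizer (A : Set G)) ∧ ⁅R, R⁆ ≤ ⁅R, A⁆) := by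
  classical
  have hpp : p.Prime := Fact.out
  set K : Subgroup G := ⁅R, A⁆ with hK
  set C : Subgroup G := R ⊓ Subgroup.centralizer (A : Set G) with hC
  have hKR : K ≤ R := Cfsg.Agent.Lib.Helper1.commutator_le_of_le_normalizer hA
  have hKp : IsPGroup p K := hR.to_le hKR
  have hKm : Cfsg.IsMetacyclic K := Cfsg.Agent.Lib.Helper1.MetaCoprime.isMetacyclic_of_le hKR hRm
  have hAK : A ≤ Subgroup.normalizer (K : Set G) :=
    Cfsg.Agent.Lib.Helper1.le_normalizer_commutator_right R A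
  have hRK : R ≤ Subgroup.normalizer (K : Set G) :=
    Cfsg.Agent.Lib.Helper1.le_normalizer_commutator_left R A
  have hKK : ⁅K, A⁆ = K :=
    Cfsg.Agent.Lib.Helper1.MetaCoprime.commutator_commutator_eq R A hR hA hcop
  have hKcomm : ∀ x ∈ K, ∀ y ∈ K, x * y = y * x :=
    Cfsg.Agent.Lib.Helper1.MetaCoprime.commutative_of_commutator_eq hp K A hKp hKm hAK hcop hKK
  haveI hKinst : IsMulCommutative ↥K := ⟨⟨fun a b => Subtype.ext (hKcomm a a.2 b b.2)⟩⟩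
  have hsup : K ⊔ C = R := by
    apply le_antisymm (sup_le hKR inf_le_left)
    intro x hx
    obtain ⟨k, hk, c, hc, rfl⟩ :=
      Cfsg.Agent.Lib.Helper1.MetaCoprime.exists_mul_of_coprime R A hR hA hcop x hx
    exact mul_mem (Subgroup.mem_sup_left hk) (Subgroup.mem_sup_right hc)
  have hinf : K ⊓ C = ⊥ := by
    have hcop' : (Nat.card A).Coprime (Nat.card K) := by
      obtain ⟨m, hm⟩ := IsPGroup.iff_card.mp hKp
      rw [hm]; exact Nat.Coprime.pow_right m hcop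
    have h1 := Cfsg.Agent.Lib.Helper1.centralizer_inf_commutator_eq_bot A K hAK hcop'
    rw [hKK] at h1
    rw [eq_bot_iff]
    rintro x ⟨hxK, hxC⟩
    rw [← h1]
    exact ⟨⟨hxK, hxC.2⟩, hxK⟩
  refine ⟨hKinst, hsup, hinf, ?_⟩
  intro hRna hAc
  -- `K ≠ ⊥`
  have hK1 : K ≠ ⊥ := by
    intro h
    apply hAc
    rw [hK, Subgroup.commutator_eq_bot_iff_le_centralizer] at h
    exact Subgroup.le_centralizer_iff.mp h
  -- `K ≠ R`
  have hKneR : K ≠ R := by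
    intro h
    apply hRna
    have := Cfsg.Agent.Lib.Helper1.MetaCoprime.commutative_of_commutator_eq hp R A hR hRm hA hcop h
    exact ⟨⟨fun a b => Subtype.ext (this a a.2 b b.2)⟩⟩
  have hC1 : C ≠ ⊥ := by
    intro h
    rw [h, sup_bot_eq] at hsup
    exact hKneR hsup
  have hCR : C ≤ R := inf_le_left
  have hCp : IsPGroup p C := hR.to_le hCR
  have hCm : Cfsg.IsMetacyclic C := Cfsg.Agent.Lib.Helper1.MetaCoprime.isMetacyclic_of_le hCR hRm
  -- `R` is not cyclic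
  have hRnc : ¬ IsCyclic R := by
    intro hc
    apply hRna
    obtain ⟨g, hg⟩ := hc.exists_generator
    refine ⟨⟨fun a b => ?_⟩⟩
    obtain ⟨k, rfl⟩ := Subgroup.mem_zpowers_iff.mp (hg a)
    obtain ⟨l, rfl⟩ := Subgroup.mem_zpowers_iff.mp (hg b)
    rw [← zpow_add, ← zpow_add, add_comm]
  obtain ⟨ER, hER1, hER2, hER3, hER4⟩ :=
    Cfsg.Agent.Lib.Helper1.MetaCoprime.exists_omega hp R hR hRm hRnc
  -- elements of order `p`
  have hexists : ∀ X : Subgroup G, IsPGroup p X → X ≠ ⊥ → ∃ x ∈ X, x ≠ 1 ∧ x ^ p = 1 := by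
    intro X hX hX1
    have hnt : Nontrivial X := (Subgroup.nontrivial_iff_ne_bot _).mpr hX1
    have dvd : p ∣ Nat.card X := by
      obtain ⟨m, hm0, hm⟩ := hX.nontrivial_iff_card.mp hnt
      exact hm.symm ▸ dvd_pow_self _ (ne_of_gt hm0)
    obtain ⟨x, hx⟩ := exists_prime_orderOf_dvd_card' p dvd
    refine ⟨x, x.2, ?_, ?_⟩
    · intro h1
      have : x = 1 := Subtype.ext h1
      rw [this, orderOf_one] at hx
      exact hpp.one_lt.ne hx
    · have := pow_orderOf_eq_one x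
      rw [hx] at this
      simpa using congrArg Subtype.val this
  -- a noncyclic subgroup of `R` contains all elements of order `p` of `R`
  have hkey : ∀ X : Subgroup G, X ≤ R → ¬ IsCyclic X → ∀ x ∈ R, x ^ p = 1 → x ∈ X := by
    intro X hXR hXnc x hx hxp
    obtain ⟨EX, hEX1, hEX2, hEX3, hEX4⟩ :=
      Cfsg.Agent.Lib.Helper1.MetaCoprime.exists_omega hp X (hR.to_le hXR)
        (Cfsg.Agent.Lib.Helper1.MetaCoprime.isMetacyclic_of_le hXR hRm) hXnc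
    have hle : EX ≤ ER := fun y hy => hER3 y (hXR (hEX1 hy)) (hEX4 y hy)
    have heq : EX = ER := Subgroup.eq_of_le_of_card_ge hle (by rw [hER2, hEX2])
    exact hEX1 (heq ▸ hER3 x hx hxp)
  have hKcyc : IsCyclic ↥K := by
    by_contra hnc
    obtain ⟨c, hcC, hc1, hcp⟩ := hexists C hCp hC1
    have hcK : c ∈ K := hkey K hKR hnc c (hCR hcC) hcp
    have : c ∈ K ⊓ C := ⟨hcK, hcC⟩
    rw [hinf] at this
    exact hc1 (Subgroup.mem_bot.mp this)
  have hCcyc : IsCyclic ↥C := by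
    by_contra hnc
    obtain ⟨k, hkK, hk1, hkp⟩ := hexists K hKp hK1
    have hkC : k ∈ C := hkey C hCR hnc k (hKR hkK) hkp
    have : k ∈ K ⊓ C := ⟨hkK, hkC⟩
    rw [hinf] at this
    exact hk1 (Subgroup.mem_bot.mp this)
  refine ⟨hK1, hKcyc, hC1, hCcyc, ?_⟩
  -- `R' ≤ K`
  have hCcomm : ∀ a ∈ C, ∀ b ∈ C, a * b = b * a := by
    intro a ha b hb
    obtain ⟨g, hg⟩ := hCcyc.exists_generator
    obtain ⟨k, hk⟩ := Subgroup.mem_zpowers_iff.mp (hg ⟨a, ha⟩)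
    obtain ⟨l, hl⟩ := Subgroup.mem_zpowers_iff.mp (hg ⟨b, hb⟩)
    have h1 : (⟨a, ha⟩ : ↥C) * ⟨b, hb⟩ = ⟨b, hb⟩ * ⟨a, ha⟩ := by
      rw [← hk, ← hl, ← zpow_add, ← zpow_add, add_comm]
    exact congrArg Subtype.val h1
  have hconj : ∀ r ∈ R, ∀ k ∈ K, r * k * r⁻¹ ∈ K := by
    intro r hr k hk
    exact (Subgroup.mem_normalizer_iff.mp (hRK hr) k).mp hk
  rw [Subgroup.commutator_le]
  intro x hx y hy
  obtain ⟨k₁, hk₁, c₁, hc₁, rfl⟩ :=
    Cfsg.Agent.Lib.Helper1.MetaCoprime.exists_mul_of_coprime R A hR hA hcop x hx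
  obtain ⟨k₂, hk₂, c₂, hc₂, rfl⟩ :=
    Cfsg.Agent.Lib.Helper1.MetaCoprime.exists_mul_of_coprime R A hR hA hcop y hy
  have h12 : c₁ * c₂ * c₁⁻¹ = c₂ := by
    rw [hCcomm c₁ hc₁ c₂ hc₂]; group
  have e : ⁅k₁ * c₁, k₂ * c₂⁆ = k₁ * (c₁ * k₂ * c₁⁻¹) * (c₂ * k₁⁻¹ * c₂⁻¹) * k₂⁻¹ := by
    have e1 : ⁅k₁ * c₁, k₂ * c₂⁆ =
        k₁ * (c₁ * k₂ * c₁⁻¹) * (c₁ * c₂ * c₁⁻¹) * k₁⁻¹ * c₂⁻¹ * k₂⁻¹ := by
      rw [commutatorElement_def]; group
    rw [e1, h12]; group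
  rw [e]
  exact mul_mem (mul_mem (mul_mem hk₁ (hconj c₁ (hCR hc₁) k₂ hk₂))
    (hconj c₂ (hCR hc₂) k₁⁻¹ (inv_mem hk₁))) (inv_mem hk₂)

end Cfsg.Agent.S1447
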