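import Cfsg.Statements.S1454
import Cfsg.Agent.S1449
import Cfsg.Agent.S1448
import Cfsg.Agent.Lib.Helper17.NarrowD
import Cfsg.Agent.Lib.Helper17.NarrowE
import Cfsg.Agent.Lib.Helper17.OddAutRank2b

set_option autoImplicit false
open Cfsg

namespace Cfsg.Agent.S1454

/-- Let G be a finite group, p an odd prime, R a narrow p-subgroup and A a solvable subgroup of odd order normalizing R with A ∩ C_G(R) = 1. Then [A, A] ≤ O_p(A) and the index of O_p(A) in A is coprime to p; if R has an elementary abelian subgroup of order p ^ 3 then the order of every element of A of order coprime to p divides p − 1; and if the order of A is a prime not dividing p(p − 1), then 2·#A divides p + 1, and if in addition [R, A] = R and R is non-abelian then #R = p ^ 3. -/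
theorem result {G : Type*} [Group G] [Finite G] (p : ℕ) [Fact p.Prime] (hp : p ≠ 2) (R A : Subgroup G) (hR : IsPGroup p R) (hRn : Cfsg.IsNarrow p R)
    (hA : (A ≤ Subgroup.normalizer (R : Set G))) (hAs : Group.IsSolvable A) (hAodd : Odd (Nat.card A)) (hfaith : A ⊓ Subgroup.centralizer (R : Set G) = ⊥) :
    (commutator ↥A ≤ Cfsg.pCore p ↥A ∧ ((Cfsg.pCore p ↥A).index).Coprime p) ∧
      (¬ Cfsg.PRankLE p 2 R → ∀ a ∈ A, (orderOf a).Coprime p → orderOf a ∣ p - 1) ∧
      ((Nat.card A).Prime → ¬ Nat.card A ∣ p * (p - 1) →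
        2 * Nat.card A ∣ p + 1 ∧ (⁅R, A⁆ = R → ¬ IsMulCommutative R → Nat.card R = p ^ 3)) := by
  classical
  have hpp : p.Prime := Fact.out
  -- from `A'` a `p`-group to the statement about `O_p(A)`
  have core : IsPGroup p ↥⁅A, A⁆ →
      commutator ↥A ≤ Cfsg.pCore p ↥A ∧ ((Cfsg.pCore p ↥A).index).Coprime p := by
    intro hpg
    apply Cfsg.Agent.Lib.Helper17.Narrow.pCore_of_commutator_isPGroup
    intro y
    have hmap : (commutator ↥A).map A.subtype = ⁅A, A⁆ := by
      rw [commutator_def, Subgroup.map_commutator, ← MonoidHom.range_eq_map,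
        Subgroup.range_subtype]
    have hy : ((y : A) : G) ∈ ⁅A, A⁆ := by
      rw [← hmap]
      exact ⟨y, y.2, rfl⟩
    obtain ⟨k, hk⟩ := hpg ⟨_, hy⟩
    refine ⟨k, ?_⟩
    have h2 := congrArg Subtype.val hk
    apply Subtype.ext
    apply Subtype.ext
    simpa using h2
  -- a generator of `A` when `|A|` is prime, and its image in `Aut R`
  have gen : (Nat.card A).Prime → ∃ a ∈ A, orderOf a = Nat.card A ∧
      ∃ b : MulAut R, orderOf b = Nat.card A := by
    intro hq
    have hnt : Nontrivial A := Finite.one_lt_card_iff_nontrivial.mp hq.one_lt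
    obtain ⟨⟨a, ha⟩, ha1⟩ := exists_ne (1 : A)
    have ha1' : a ≠ 1 := fun h => ha1 (Subtype.ext h)
    have haq : a ^ Nat.card A = 1 := by
      have := pow_card_eq_one' (G := A) (x := ⟨a, ha⟩)
      exact congrArg Subtype.val this
    have hord : orderOf a = Nat.card A := by
      rcases (Nat.dvd_prime hq).mp (orderOf_dvd_of_pow_eq_one haq) with h | h
      · exact absurd (orderOf_eq_one_iff.mp h) ha1'
      · exact h
    refine ⟨a, ha, hord, R.normalizerMonoidHom ⟨a, hA ha⟩, ?_⟩
    have h1 : orderOf (R.normalizerMonoidHom ⟨a, hA ha⟩) ∣ Nat.card A := by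
      apply orderOf_dvd_of_pow_eq_one
      rw [← map_pow]
      have : (⟨a, hA ha⟩ : Subgroup.normalizer (R : Set G)) ^ Nat.card A = 1 :=
        Subtype.ext (by push_cast; exact haq)
      rw [this, map_one]
    rcases (Nat.dvd_prime hq).mp h1 with h | h
    · exfalso
      have hb1 : R.normalizerMonoidHom ⟨a, hA ha⟩ = 1 := orderOf_eq_one_iff.mp h
      have hac : a ∈ Subgroup.centralizer (R : Set G) := by
        rw [Subgroup.mem_centralizer_iff]
        intro r hr
        have h2 : ((R.normalizerMonoidHom ⟨a, hA ha⟩ ⟨r, hr⟩ : R) : G) = a * r * a⁻¹ := rfl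
        rw [hb1, MulAut.one_apply] at h2
        change r = a * r * a⁻¹ at h2
        calc r * a = a * r * a⁻¹ * a := by rw [← h2]
          _ = a * r := by group
      have : a ∈ A ⊓ Subgroup.centralizer (R : Set G) := ⟨ha, hac⟩
      rw [hfaith, Subgroup.mem_bot] at this
      exact ha1' this
    · exact h
  by_cases hr : Cfsg.PRankLE p 2 R
  · have hpg : IsPGroup p ↥⁅A, A⁆ := Cfsg.Agent.S1449.result p hp R A hR hr hA hAs hAodd hfaith
    refine ⟨core hpg, fun h => absurd hr h, ?_⟩
    intro hq hnd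
    have hqp : Nat.card A ≠ p := by
      intro h
      apply hnd
      rw [h]
      exact dvd_mul_right _ _
    have hnp : ¬ Nat.card A ∣ p := fun h => hnd (h.mul_right _)
    have hnp1 : ¬ Nat.card A ∣ p - 1 := fun h => hnd (h.mul_left _)
    refine ⟨?_, ?_⟩
    · obtain ⟨a, ha, hord, b, hb⟩ := gen hq
      have h1 := Cfsg.Agent.Lib.Helper17.prime_dvd_card_GL2_of_aut_rank_two p hp hR hr b
        (Nat.card A) hq hqp hb
      have h2 : Nat.card A ∣ p + 1 := by
        rcases (Nat.Prime.dvd_mul hq).mp h1 with h | h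
        · exfalso
          rcases (Nat.Prime.dvd_mul hq).mp h with h' | h'
          · exact hnp h'
          · exact hnp1 (hq.dvd_of_dvd_pow h')
        · exact h
      have h3 : 2 ∣ p + 1 := by
        obtain ⟨k, hk⟩ := hpp.odd_of_ne_two hp
        omega
      have hcop : Nat.Coprime 2 (Nat.card A) := Nat.coprime_two_left.mpr hAodd
      exact Nat.Coprime.mul_dvd_of_dvd_of_dvd hcop h3 h2
    · intro hRA hnc
      have hR1 : R ≠ ⊥ := by
        rintro rfl
        apply hnc
        refine ⟨⟨fun a b => ?_⟩⟩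
        have ha : a = 1 := Subtype.ext (Subgroup.mem_bot.mp a.2)
        have hb : b = 1 := Subtype.ext (Subgroup.mem_bot.mp b.2)
        rw [ha, hb]
      have hcop : (Nat.card A).Coprime p := (Nat.coprime_primes hq hpp).mpr hqp
      obtain ⟨-, hab | ⟨R₁, R₂, hsup, hcomm, -, hcard, hexp, hcyc, hΩ⟩⟩ :=
        Cfsg.Agent.S1448.result p hp R A hR hR1 hr hA hcop hAodd hRA
      · exact absurd hab hnc
      · exact Cfsg.Agent.Lib.Helper17.Narrow.card_eq_cube_of_central_product p (Nat.card A) R A
          R₁ R₂ hR hA rfl hq hnd hsup hcomm hcard hexp hcyc hΩ hRA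
  · obtain ⟨hpg, hexp⟩ :=
      Cfsg.Agent.Lib.Helper17.Narrow.narrow_subgroup p hp R A hR hRn hr hA hfaith
    refine ⟨core hpg, fun _ a ha hcop => orderOf_dvd_of_pow_eq_one (hexp a ha hcop), ?_⟩
    intro hq hnd
    exfalso
    obtain ⟨a, ha, hord, -⟩ := gen hq
    have hqp : Nat.card A ≠ p := by
      intro h
      apply hnd
      rw [h]
      exact dvd_mul_right _ _
    have hcop : (orderOf a).Coprime p := by
      rw [hord]
      exact (Nat.coprime_primes hq hpp).mpr hqp
    have h1 : orderOf a ∣ p - 1 := orderOf_dvd_of_pow_eq_one (hexp a ha hcop)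
    rw [hord] at h1
    exact hnd (h1.mul_left _)

end Cfsg.Agent.S1454
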