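import Cfsg.Statements.S1456
import Cfsg.Agent.Lib.Helper17.NarrowH

set_option autoImplicit false
open Cfsg

namespace Cfsg.Agent.S1456

/-- Let G be a solvable group of odd order, p a prime, and E an elementary abelian p-subgroup of the Fitting subgroup F(G) such that F(G) ∩ C_G(E) has no elementary abelian subgroup of order q ^ 3 for any prime q. Then the derived subgroup of G is contained in F(G). -/
theorem result {G : Type*} [Group G] [Finite G] [Group.IsSolvable G] (hodd : Odd (Nat.card G)) (p : ℕ) [Fact p.Prime] (E : Subgroup G) (hE : E ≤ Cfsg.fittingSubgroup G) (hEe : Cfsg.IsElementaryAbelian p E)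
    (hr : Cfsg.RankLE 2 ↥(Cfsg.fittingSubgroup G ⊓ Subgroup.centralizer (E : Set G))) :
    commutator G ≤ Cfsg.fittingSubgroup G := by
  classical
  have hpp : p.Prime := Fact.out
  have hEP : E ≤ Cfsg.pCore p G := fun e he =>
    Cfsg.Agent.Lib.Helper17.mem_pCore_of_mem_fitting p (hE he) (k := 1)
      (by rw [pow_one]; exact hEe.2 e he)
  apply Cfsg.Agent.Lib.Helper17.Narrow.commutator_le_fitting_of_facts
  intro q hq
  have hqp : q.Prime := Fact.out
  by_cases hrk : Cfsg.PRankLE q 2 ↥(Cfsg.pCore q G)
  · exact (Cfsg.Agent.Lib.Helper17.aut_pCore_facts hodd q hrk).1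
  · have hqeq : q = p := by
      by_contra hne
      apply hrk
      have hle : Cfsg.pCore q G ≤
          Cfsg.fittingSubgroup G ⊓ Subgroup.centralizer (E : Set G) := by
        intro x hx
        refine ⟨Cfsg.Agent.Lib.Helper17.pCore_le_fitting q hx, ?_⟩
        show x ∈ Subgroup.centralizer (E : Set G)
        rw [Subgroup.mem_centralizer_iff]
        intro e he
        exact (Cfsg.Agent.Lib.Helper1.pCore_commute (Ne.symm hne) e x (hEP he) hx).eq
      exact Cfsg.Agent.Lib.Helper17.pRankLE_of_le hle (hr q hqp)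
    subst hqeq
    have hp2 : q ≠ 2 := by
      intro h2
      apply hrk
      have hbot : Cfsg.pCore q G = ⊥ := by
        apply Cfsg.Agent.Lib.Helper1.pCore_eq_bot_of_not_dvd
        rw [h2]
        intro h
        exact (Nat.not_even_iff_odd.mpr hodd) (even_iff_two_dvd.mpr h)
      rw [hbot]
      intro A _ _
      have : Nat.card A = 1 := Nat.card_unique
      rw [this]
      exact Nat.one_le_pow _ _ hqp.pos
    obtain ⟨P, hP⟩ : ∃ P : Subgroup G, P = Cfsg.pCore q G := ⟨_, rfl⟩
    rw [← hP] at hrk hEP ⊢
    have hPP : IsPGroup q P := by rw [hP]; exact Cfsg.Agent.Lib.Helper12.pCore_isPGroup' q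
    have hPF : P ≤ Cfsg.fittingSubgroup G := by
      rw [hP]; exact Cfsg.Agent.Lib.Helper17.pCore_le_fitting q
    have hE'el : Cfsg.IsElementaryAbelian q (E.subgroupOf P) := by
      refine ⟨⟨⟨fun a b => ?_⟩⟩, fun a ha => ?_⟩
      · apply Subtype.ext
        apply Subtype.ext
        have := hEe.1.is_comm.comm (⟨((a : P) : G), a.2⟩ : E) ⟨((b : P) : G), b.2⟩
        have h2 : ((a : P) : G) * ((b : P) : G) = ((b : P) : G) * ((a : P) : G) :=
          congrArg Subtype.val this
        push_cast
        exact h2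
      · apply Subtype.ext
        push_cast
        exact hEe.2 _ ha
    have hC : Cfsg.PRankLE q 2 ↥(Subgroup.centralizer ((E.subgroupOf P : Subgroup P) : Set P)) := by
      have hmem : ∀ x : ↥(Subgroup.centralizer ((E.subgroupOf P : Subgroup P) : Set P)),
          (((x : P) : G)) ∈ Cfsg.fittingSubgroup G ⊓ Subgroup.centralizer (E : Set G) := by
        intro x
        refine ⟨hPF (x : P).2, ?_⟩
        show ((x : P) : G) ∈ Subgroup.centralizer (E : Set G)
        rw [Subgroup.mem_centralizer_iff]
        intro e he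
        have h1 := Subgroup.mem_centralizer_iff.mp x.2 ⟨e, hEP he⟩
          (Subgroup.mem_subgroupOf.mpr he)
        exact congrArg Subtype.val h1
      let φ : ↥(Subgroup.centralizer ((E.subgroupOf P : Subgroup P) : Set P)) →*
          ↥(Cfsg.fittingSubgroup G ⊓ Subgroup.centralizer (E : Set G)) :=
        { toFun := fun x => ⟨((x : P) : G), hmem x⟩
          map_one' := rfl
          map_mul' := fun _ _ => rfl }
      apply Cfsg.Agent.Lib.Helper17.Narrow.pRankLE_of_injective φ _ (hr q hqp)
      intro a b hab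
      have := congrArg (fun t : ↥(Cfsg.fittingSubgroup G ⊓ Subgroup.centralizer (E : Set G)) =>
        (t : G)) hab
      exact Subtype.ext (Subtype.ext this)
    obtain ⟨E₂, h1, h2, h3⟩ :=
      Cfsg.Agent.Lib.Helper17.Narrow.exists_maximal_sq_of_centralizer_rank q hPP hrk
        (E.subgroupOf P) hE'el hC
    have hn : Cfsg.IsNarrow q ↥P :=
      Cfsg.Agent.Lib.Helper24.BGBeta.narrow_of_maximal_sq q hp2 hPP E₂ h1 h2 h3
    subst hP
    exact Cfsg.Agent.Lib.Helper17.Narrow.aut_pCore_facts_narrow q hp2 hn hrk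

end Cfsg.Agent.S1456
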