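import Cfsg.Statements.S1458
import Mathlib
import Cfsg.Agent.Lib.Helper4.ZJEQuot
import Cfsg.Agent.Lib.Helper27.OddStable
import Cfsg.Agent.Lib.Helper9.PLengthOne
import Cfsg.Agent.Lib.Helper24.PSolvable
import Cfsg.Agent.Lib.Helper12.Cores

set_option autoImplicit false
open Cfsg

namespace Cfsg.Agent.S1458


/-- Let G be a solvable group of odd order, p a prime and S a Sylow p-subgroup of G. Then the subgroup generated by the centre of the Thompson subgroup of S and O_{p'}(G) is normal in G. -/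
theorem result {G : Type*} [Group G] [Finite G] [Group.IsSolvable G] (hodd : Odd (Nat.card G)) (p : ℕ) [Fact p.Prime] (S : Sylow p G) :
    (Cfsg.centerThompsonOf p (S : Subgroup G) ⊔ Cfsg.pPrimeCore p G).Normal := by
  haveI hKn : (Cfsg.pPrimeCore p G).Normal := Cfsg.Agent.Lib.Helper24.pPrimeCore_normal' p
  by_cases hp : p = 2
  · subst hp
    have hS1 : Nat.card (S : Subgroup G) = 1 := by
      obtain ⟨k, hk⟩ := IsPGroup.iff_card.mp S.2
      have hdvd : Nat.card (S : Subgroup G) ∣ Nat.card G := Subgroup.card_subgroup_dvd_card _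
      rcases Nat.eq_zero_or_pos k with rfl | hk0
      · simpa using hk
      · exfalso
        have h2 : 2 ∣ Nat.card G := by
          have : 2 ∣ Nat.card (S : Subgroup G) := by rw [hk]; exact dvd_pow_self 2 hk0.ne'
          exact this.trans hdvd
        exact (Nat.not_even_iff_odd.mpr hodd) (even_iff_two_dvd.mpr h2)
    have hSbot : (S : Subgroup G) = ⊥ := Subgroup.card_eq_one.mp hS1
    have hZ : Cfsg.centerThompsonOf 2 (S : Subgroup G) = ⊥ := by
      rw [eq_bot_iff, ← hSbot, Cfsg.Agent.Lib.Helper4.ZJE.centerThompsonOf_eq_zSub]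
      exact Cfsg.Agent.Lib.Helper4.ZJE.zSub_le _
    rw [hZ, bot_sup_eq]
    exact hKn
  · set K := Cfsg.pPrimeCore p G with hK
    set π := QuotientGroup.mk' K with hπ
    have hπs : Function.Surjective π := QuotientGroup.mk'_surjective K
    have hKcop : (Nat.card K).Coprime p := Cfsg.Agent.Lib.Helper12.pPrimeCore_coprime p
    have hoddQ : Odd (Nat.card (G ⧸ K)) :=
      Odd.of_dvd_nat hodd (Subgroup.card_quotient_dvd_card K)
    have hO : Cfsg.pPrimeCore p (G ⧸ K) = ⊥ := Cfsg.Agent.Lib.Helper24.pPrimeCore_quotient_eq_bot' p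
    have hcQ := Cfsg.Agent.Lib.Helper9.centralizer_pCore_le_of_isSolvable (X := G ⧸ K) p hO
    have hq : Cfsg.Agent.Lib.Helper27.QuadHyp p ((S.mapSurjective hπs : Sylow p (G ⧸ K)) : Subgroup (G ⧸ K)) :=
      Cfsg.Agent.Lib.Helper27.quadHyp_of_stable _ (fun P _ hP =>
        Cfsg.Agent.Lib.Helper27.OddStable.isPStableOn_of_odd hp hoddQ P hP)
    have hN := Cfsg.Agent.Lib.Helper4.ZJE.centerThompsonOf_normal hp (S.mapSurjective hπs) hcQ hq
    rw [Sylow.coe_mapSurjective,
      Cfsg.Agent.Lib.Helper4.ZJE.centerThompsonOf_map_mk' K hKcop (S : Subgroup G) S.2] at hN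
    have h2 : Cfsg.centerThompsonOf p (S : Subgroup G) ⊔ K =
        ((Cfsg.centerThompsonOf p (S : Subgroup G)).map π).comap π := by
      rw [Subgroup.comap_map_eq, hπ, QuotientGroup.ker_mk']
    rw [h2]
    exact hN.comap π

end Cfsg.Agent.S1458
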