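import Cfsg.Statements.S1460
import Cfsg.Agent.Lib.Helper1.Coprime
import Cfsg.Agent.Lib.Helper1.Hall

set_option autoImplicit false
open Cfsg

namespace Cfsg.Agent.S1460

open scoped Pointwise commutatorElement

open Cfsg.Agent.Lib.Helper1 in
/-- An element of `U` congruent modulo `⁅U, U⁆` to an element of coprime order lies in `⁅U, U⁆`. -/
theorem mem_commutator_of_coprime {G : Type*} [Group G] (U : Subgroup G) (h k d : G) (hh : h ∈ U)
    (hd : d ∈ ⁅U, U⁆) (hkd : k * d = h) (m n : ℕ) (hmn : m.Coprime n) (hm : h ^ m = 1)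
    (hn : k ^ n = 1) : h ∈ ⁅U, U⁆ := by
  have hdU : d ∈ U := Subgroup.commutator_le_self U hd
  have hkU : k ∈ U := by
    have : k = h * d⁻¹ := by rw [← hkd]; group
    rw [this]
    exact U.mul_mem hh (U.inv_mem hdU)
  rw [← Subgroup.map_subtype_commutator] at hd ⊢
  obtain ⟨d', hd', hdd'⟩ := hd
  have hd'eq : d' = ⟨d, hdU⟩ := Subtype.ext hdd'
  have hker : ∀ z : U, Abelianization.of z = 1 ↔ z ∈ commutator U := by
    intro z
    rw [← Abelianization.ker_of, MonoidHom.mem_ker]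
  have h1 : Abelianization.of (⟨h, hh⟩ : U) = Abelianization.of (⟨k, hkU⟩ : U) := by
    have : (⟨h, hh⟩ : U) = ⟨k, hkU⟩ * ⟨d, hdU⟩ := Subtype.ext hkd.symm
    have hd'' : (⟨d, hdU⟩ : U) ∈ commutator U := hd'eq ▸ hd'
    rw [this, map_mul, (hker ⟨d, hdU⟩).mpr hd'', mul_one]
  have h2 : (Abelianization.of (⟨h, hh⟩ : U)) ^ m = 1 := by
    rw [← map_pow]
    have : (⟨h, hh⟩ : U) ^ m = 1 := Subtype.ext (by simpa using hm)
    rw [this, map_one]
  have h3 : (Abelianization.of (⟨h, hh⟩ : U)) ^ n = 1 := by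
    rw [h1, ← map_pow]
    have : (⟨k, hkU⟩ : U) ^ n = 1 := Subtype.ext (by simpa using hn)
    rw [this, map_one]
  have h4 : orderOf (Abelianization.of (⟨h, hh⟩ : U)) ∣ Nat.gcd m n :=
    Nat.dvd_gcd (orderOf_dvd_of_pow_eq_one h2) (orderOf_dvd_of_pow_eq_one h3)
  rw [hmn, Nat.dvd_one, orderOf_eq_one_iff] at h4
  exact ⟨⟨h, hh⟩, (hker _).mp h4, rfl⟩


/-- Let G be a finite solvable group, K a normal subgroup and U a subgroup with G = KU, and H ≤ U a subgroup whose order is coprime to that of K. Then H ∩ G' = H ∩ U'; N_G(H) is generated by K ∩ C_G(H) and U ∩ N_G(H); and if gHg⁻¹ ≤ U for some g ∈ G then g = u c with u ∈ U and c ∈ K ∩ C_G(H). -/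
theorem result {G : Type*} [Group G] [Finite G] [Group.IsSolvable G] (K U H : Subgroup G) [K.Normal] (hKU : K ⊔ U = ⊤) (hH : H ≤ U) (hcop : (Nat.card H).Coprime (Nat.card K)) :
    H ⊓ commutator G = H ⊓ ⁅U, U⁆ ∧
      Subgroup.normalizer (H : Set G) = (K ⊓ Subgroup.centralizer (H : Set G)) ⊔ (U ⊓ Subgroup.normalizer (H : Set G)) ∧
      ∀ g : G, H.map (MulAut.conj g).toMonoidHom ≤ U → ∃ u ∈ U, ∃ c ∈ K ⊓ Subgroup.centralizer (H : Set G), g = u * c := by
  classical
  have hKnormal : K.Normal := inferInstance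
  have hKn : H ≤ Subgroup.normalizer (K : Set G) := by
    rw [Subgroup.normalizer_eq_top_iff.mpr hKnormal]; exact le_top
  have hsolvH : Group.IsSolvable H := inferInstance
  have htop : ∀ g : G, g ∈ K ⊔ U := fun g => by rw [hKU]; exact Subgroup.mem_top g
  -- part (c)
  have hc : ∀ g : G, H.map (MulAut.conj g).toMonoidHom ≤ U →
      ∃ u ∈ U, ∃ c ∈ K ⊓ Subgroup.centralizer (H : Set G), g = u * c := by
    intro g hg
    obtain ⟨k, hk, u, hu, hku⟩ := Cfsg.Agent.Lib.Helper1.mem_sup_of_normal_left K U g⁻¹ (htop _)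
    have hg' : g = u⁻¹ * k⁻¹ := by rw [← inv_inv g, ← hku]; group
    have hHk : H ≤ MulAut.conj k • U := by
      intro h hh
      rw [Cfsg.Agent.Lib.Helper1.mem_conj_smul_iff]
      have h1 : g * h * g⁻¹ ∈ U := hg ⟨h, hh, rfl⟩
      rw [hg'] at h1
      have : k⁻¹ * h * k = u * (u⁻¹ * k⁻¹ * h * (u⁻¹ * k⁻¹)⁻¹) * u⁻¹ := by group
      rw [this]
      exact U.mul_mem (U.mul_mem hu h1) (U.inv_mem hu)
    obtain ⟨c, hc, hkc⟩ := Cfsg.Agent.Lib.Helper1.exists_mem_centralizer_of_le_conj_smul hKn hcop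
      (Or.inl hsolvH) hH k hk hHk
    refine ⟨u⁻¹ * (k⁻¹ * c), U.mul_mem (U.inv_mem hu) hkc, c⁻¹, Subgroup.inv_mem _ hc, ?_⟩
    rw [hg']; group
  refine ⟨?_, ?_, hc⟩
  · -- part (a)
    apply le_antisymm
    · rintro h ⟨hhH, hhG⟩
      refine ⟨hhH, ?_⟩
      have hG' : commutator G ≤ K ⊔ ⁅U, U⁆ := by
        rw [commutator_def, Subgroup.commutator_le]
        intro g₁ _ g₂ _
        obtain ⟨k₁, hk₁, u₁, hu₁, rfl⟩ := Cfsg.Agent.Lib.Helper1.mem_sup_of_normal_left K U g₁ (htop _)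
        obtain ⟨k₂, hk₂, u₂, hu₂, rfl⟩ := Cfsg.Agent.Lib.Helper1.mem_sup_of_normal_left K U g₂ (htop _)
        have e1 : (QuotientGroup.mk' K) ⁅u₁, u₂⁆ = (QuotientGroup.mk' K) ⁅k₁ * u₁, k₂ * u₂⁆ := by
          rw [map_commutatorElement, map_commutatorElement, map_mul, map_mul]
          have h1 : (QuotientGroup.mk' K) k₁ = 1 := (QuotientGroup.eq_one_iff k₁).mpr hk₁
          have h2 : (QuotientGroup.mk' K) k₂ = 1 := (QuotientGroup.eq_one_iff k₂).mpr hk₂
          rw [h1, h2, one_mul, one_mul]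
        have e2 : ⁅u₁, u₂⁆⁻¹ * ⁅k₁ * u₁, k₂ * u₂⁆ ∈ K := QuotientGroup.eq.mp e1
        have e3 : ⁅k₁ * u₁, k₂ * u₂⁆ = ⁅u₁, u₂⁆ * (⁅u₁, u₂⁆⁻¹ * ⁅k₁ * u₁, k₂ * u₂⁆) := by group
        rw [e3]
        exact Subgroup.mul_mem _
          (Subgroup.mem_sup_right (Subgroup.commutator_mem_commutator hu₁ hu₂))
          (Subgroup.mem_sup_left e2)
      obtain ⟨k, hk, d, hd, hkd⟩ := Cfsg.Agent.Lib.Helper1.mem_sup_of_normal_left K ⁅U, U⁆ h (hG' hhG)
      refine mem_commutator_of_coprime U h k d (hH hhH) hd hkd (Nat.card H) (Nat.card K) hcop ?_ ?_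
      · have h2 : ((⟨h, hhH⟩ : H) ^ Nat.card H : H) = 1 := pow_card_eq_one'
        have h3 := congrArg Subtype.val h2
        simpa only [SubmonoidClass.coe_pow, OneMemClass.coe_one] using h3
      · have h2 : ((⟨k, hk⟩ : K) ^ Nat.card K : K) = 1 := pow_card_eq_one'
        have h3 := congrArg Subtype.val h2
        simpa only [SubmonoidClass.coe_pow, OneMemClass.coe_one] using h3
    · apply inf_le_inf_left
      rw [commutator_def]
      exact Subgroup.commutator_mono le_top le_top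
  · -- part (b)
    apply le_antisymm
    · intro g hg
      have hmap : H.map (MulAut.conj g).toMonoidHom ≤ U := by
        rintro _ ⟨h, hh, rfl⟩
        exact hH ((Subgroup.mem_normalizer_iff.mp hg h).mp hh)
      obtain ⟨u, hu, c, hcc, rfl⟩ := hc g hmap
      have hcN : c ∈ Subgroup.normalizer (H : Set G) := Subgroup.centralizer_le_normalizer _ hcc.2
      have huN : u ∈ Subgroup.normalizer (H : Set G) := by
        have : u = u * c * c⁻¹ := by group
        rw [this]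
        exact Subgroup.mul_mem _ hg (Subgroup.inv_mem _ hcN)
      exact Subgroup.mul_mem _ (Subgroup.mem_sup_right ⟨hu, huN⟩) (Subgroup.mem_sup_left hcc)
    · apply sup_le
      · exact inf_le_right.trans (Subgroup.centralizer_le_normalizer _)
      · exact inf_le_right

end Cfsg.Agent.S1460
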