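import Cfsg.Statements.S1464
import Cfsg.Agent.Lib.Helper27.OddStable

set_option autoImplicit false
open Cfsg

namespace Cfsg.Agent.S1464

theorem aux_congr {M : Type*} [Group M] (p : ℕ) (C₁ C₂ : Subgroup M) [h₁ : C₁.Normal] [h₂ : C₂.Normal]
    (h : C₁ = C₂) (X : Subgroup M) :
    X.map (QuotientGroup.mk' C₂) ≤ Cfsg.pCore p (M ⧸ C₂) →
      X.map (QuotientGroup.mk' C₁) ≤ Cfsg.pCore p (M ⧸ C₁) := by
  subst h
  exact id

/-- Let p be an odd prime and G a solvable group of odd order, P a p-subgroup with O_{p'}(G)P normal in G, and A a p-subgroup of N_G(P) with [[P, A], A] = 1. Then the image of A in the quotient N_G(P)/C_G(P) is contained in the p-core of that quotient. -/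
theorem result {G : Type*} [Group G] [Finite G] [Group.IsSolvable G] (hodd : Odd (Nat.card G)) (p : ℕ) [Fact p.Prime] (hp : p ≠ 2) (P A : Subgroup G) (hP : IsPGroup p P) (hPn : (Cfsg.pPrimeCore p G ⊔ P).Normal)
    (hA : IsPGroup p A) (hAN : A ≤ Subgroup.normalizer (P : Set G)) (hquad : ⁅⁅P, A⁆, A⁆ = ⊥) :
    (A.subgroupOf (Subgroup.normalizer (P : Set G))).map
        (QuotientGroup.mk' ((Subgroup.centralizer (P : Set G)).subgroupOf (Subgroup.normalizer (P : Set G))))
      ≤ Cfsg.pCore p _ := by
  set M : Subgroup G := Subgroup.normalizer (P : Set G) with hM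
  have hoddM : Odd (Nat.card M) := Odd.of_dvd_nat hodd (Subgroup.card_subgroup_dvd_card M)
  have hPp' : IsPGroup p (P.subgroupOf M) := hP.comap_of_injective _ (Subgroup.subtype_injective _)
  have hmapP : (P.subgroupOf M).map M.subtype = P :=
    Subgroup.map_subgroupOf_eq_of_le Subgroup.le_normalizer
  have hst := Cfsg.Agent.Lib.Helper27.OddStable.isPStableOn_of_odd hp hoddM (P.subgroupOf M) hPp'
  have hCeq : (Subgroup.centralizer (P : Set G)).subgroupOf M =
      Subgroup.centralizer ((P.subgroupOf M : Subgroup M) : Set M) := by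
    ext x
    rw [Subgroup.mem_subgroupOf, Subgroup.mem_centralizer_iff, Subgroup.mem_centralizer_iff]
    constructor
    · intro h u hu
      exact Subtype.ext (h u hu)
    · intro h u hu
      have := h ⟨u, Subgroup.le_normalizer hu⟩ (by rw [SetLike.mem_coe, Subgroup.mem_subgroupOf]; exact hu)
      exact congrArg Subtype.val this
  apply aux_congr p _ _ hCeq
  rintro _ ⟨a, ha, rfl⟩
  rw [SetLike.mem_coe, Subgroup.mem_subgroupOf] at ha
  apply hst a
  rw [← Subgroup.map_eq_bot_iff_of_injective _ M.subtype_injective,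
    Subgroup.map_commutator, Subgroup.map_commutator, hmapP, MonoidHom.map_zpowers]
  rw [eq_bot_iff, ← hquad]
  have hz : Subgroup.zpowers (M.subtype a) ≤ A := Subgroup.zpowers_le.mpr ha
  exact Subgroup.commutator_mono (Subgroup.commutator_mono le_rfl hz) hz

end Cfsg.Agent.S1464
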