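import Cfsg.Statements.S1471
import Cfsg.Agent.Lib.Helper27.NormCount
import Cfsg.Agent.Lib.Helper27.NormCubic

set_option autoImplicit false
open Cfsg

namespace Cfsg.Agent.S1471

/-- Let p and q be odd primes with (p^q − 1)/(p − 1) coprime to p − 1. Then there are at least two elements a of the field with p ^ q elements such that both a and 2 − a have norm 1 to the prime field. -/
theorem result (p q : ℕ) [Fact p.Prime] [Fact q.Prime] (hp : p ≠ 2) (hq : q ≠ 2) (hA : Nat.Coprime ((p ^ q - 1) / (p - 1)) (p - 1)) :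
    2 ≤ Set.ncard {a : GaloisField p q | Algebra.norm (ZMod p) a = 1 ∧ Algebra.norm (ZMod p) (2 - a) = 1} := by
  classical
  have hq0 : q ≠ 0 := (Fact.out : q.Prime).ne_zero
  have hrank : Module.finrank (ZMod p) (GaloisField p q) = q := GaloisField.finrank p hq0
  have hq3 : q = 3 ∨ 4 ≤ q := by
    have h2 := (Fact.out : q.Prime).two_le
    omega
  rcases hq3 with rfl | hq4
  · obtain ⟨a, ha1, haN, haN'⟩ := Cfsg.Agent.Lib.Helper27.NormCubic.exists_ne_one (p := p) (L := GaloisField p 3) hrank
    have hsub : ({1, a} : Set (GaloisField p 3)) ⊆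
        {a : GaloisField p 3 | Algebra.norm (ZMod p) a = 1 ∧ Algebra.norm (ZMod p) (2 - a) = 1} := by
      intro x hx
      rcases hx with rfl | rfl
      · refine ⟨map_one _, ?_⟩
        have : (2 : GaloisField p 3) - 1 = 1 := by norm_num
        rw [this, map_one]
      · exact ⟨haN, haN'⟩
    have := Set.ncard_le_ncard hsub (Set.toFinite _)
    rwa [Set.ncard_pair (Ne.symm ha1)] at this
  · haveI : Fintype (GaloisField p q) := Fintype.ofFinite _
    have hcard : Fintype.card (GaloisField p q) = p ^ q := by
      rw [← Nat.card_eq_fintype_card, GaloisField.card p q hq0]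
    set E : Finset (GaloisField p q) := Finset.univ.filter
      (fun a => Algebra.norm (ZMod p) a = 1 ∧ Algebra.norm (ZMod p) (2 - a) = 1) with hE
    have hmem : ∀ a, a ∈ E ↔ Algebra.norm (ZMod p) a = 1 ∧ Algebra.norm (ZMod p) (2 - a) = 1 := by
      intro a; simp [hE]
    have h2 := Cfsg.Agent.Lib.Helper27.NormCount.two_le_card hp hq4 hcard E hmem
    have hset : {a : GaloisField p q | Algebra.norm (ZMod p) a = 1 ∧ Algebra.norm (ZMod p) (2 - a) = 1} = ↑E := by
      ext a; simp [hE]
    rw [hset, Set.ncard_coe_finset]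
    exact h2

end Cfsg.Agent.S1471
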