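import Cfsg.Statements.S1485
import Cfsg.Agent.Lib.Helper10.ConjChar

set_option autoImplicit false
open Cfsg

namespace Cfsg.Agent.S1485

open Cfsg.Agent.Lib.Helper10


/-- Let H be a normal subgroup of the finite group G and θ an irreducible character of H. On H, the function induced from θ equals r times the sum of the distinct G-conjugates of θ, where r is the number of elements of G fixing θ under conjugation divided by the order of H (the index of H in the inertia group). -/
theorem result {G : Type*} [Group G] [Fintype G] (H : Subgroup G) [hN : H.Normal] (θ : H → ℂ) (hθ : Cfsg.IsIrrCharacter H θ) : (fun h : H => Cfsg.indFun H θ h) = ((Nat.card {g : G // ∀ h : H, θ ⟨g * h * g⁻¹, hN.conj_mem h h.2 g⟩ = θ h} : ℂ) / (Nat.card H : ℂ)) • ∑ᶠ ψ ∈ {ψ : H → ℂ | ∃ g : G, ψ = fun h : H => θ ⟨g * h * g⁻¹, hN.conj_mem h h.2 g⟩}, ψ := by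
  classical
  have hH0 : (Nat.card H : ℂ) ≠ 0 := Nat.cast_ne_zero.mpr Nat.card_pos.ne'
  set c : G → (H → ℂ) := fun g => fun h : H => θ ⟨g * h * g⁻¹, hN.conj_mem h h.2 g⟩ with hc
  have hcdef : ∀ g : G, c g = θ ∘ (MulAut.conjNormal g : H → H) := by
    intro g
    funext h
    simp only [hc, Function.comp_apply]
    congr 1
  have hmul : ∀ a b : G, c (a * b) = c a ∘ (MulAut.conjNormal b : H → H) := by
    intro a b
    rw [hcdef, hcdef, map_mul]
    rfl
  have hone : c 1 = θ := by
    rw [hcdef, map_one]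
    rfl
  have hset : {ψ : H → ℂ | ∃ g : G, ψ = fun h : H => θ ⟨g * h * g⁻¹, hN.conj_mem h h.2 g⟩}
      = ↑(Finset.univ.image c) := by
    ext ψ
    simp only [Set.mem_setOf_eq, Finset.coe_image, Finset.coe_univ, Set.image_univ, Set.mem_range]
    constructor
    · rintro ⟨g, rfl⟩; exact ⟨g, rfl⟩
    · rintro ⟨g, rfl⟩; exact ⟨g, rfl⟩
  rw [hset, finsum_mem_coe_finset]
  have hT : ∀ g : G, (∀ h : H, θ ⟨g * h * g⁻¹, hN.conj_mem h h.2 g⟩ = θ h) ↔ c g = θ := by
    intro g
    constructor
    · intro hg; funext h; exact hg h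
    · intro hg h; exact congrFun hg h
  have hfib : ∀ g₀ : G, (Finset.univ.filter (fun x => c x = c g₀)).card
      = Nat.card {g : G // ∀ h : H, θ ⟨g * h * g⁻¹, hN.conj_mem h h.2 g⟩ = θ h} := by
    intro g₀
    rw [Nat.card_eq_fintype_card, Fintype.card_subtype]
    apply Finset.card_bij (fun x _ => x * g₀⁻¹)
    · intro x hx
      simp only [Finset.mem_filter, Finset.mem_univ, true_and] at hx ⊢
      rw [hT, hmul, hx, ← hmul, mul_inv_cancel, hone]
    · intro x _ y _ hxy
      exact mul_right_cancel hxy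
    · intro g hg
      simp only [Finset.mem_filter, Finset.mem_univ, true_and] at hg
      rw [hT] at hg
      refine ⟨g * g₀, ?_, by simp⟩
      simp only [Finset.mem_filter, Finset.mem_univ, true_and]
      rw [hmul, hg, ← hone, ← hmul, one_mul]
  have hsum : ∑ x : G, c x = (Nat.card {g : G // ∀ h : H, θ ⟨g * h * g⁻¹, hN.conj_mem h h.2 g⟩ = θ h})
      • ∑ ψ ∈ Finset.univ.image c, ψ := by
    rw [Finset.sum_comp (fun ψ : H → ℂ => ψ) c, Finset.smul_sum]
    apply Finset.sum_congr rfl
    intro ψ hψ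
    obtain ⟨g₀, _, rfl⟩ := Finset.mem_image.mp hψ
    rw [hfib g₀]
  funext h
  rw [indFun_apply_of_normal H θ h]
  have e1 : ∑ x : G, θ ⟨x⁻¹ * h * x, by have := hN.conj_mem h h.2 x⁻¹; simpa using this⟩
      = ∑ x : G, c x h := by
    apply Fintype.sum_equiv (Equiv.inv G)
    intro x
    simp only [hc, Equiv.inv_apply]
    congr 1
    apply Subtype.ext
    simp
  rw [e1, ← Finset.sum_apply, hsum]
  simp only [Pi.smul_apply, Finset.sum_apply, nsmul_eq_mul, smul_eq_mul]
  field_simp

end Cfsg.Agent.S1485
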