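import Cfsg.Statements.S1486
import Cfsg.Agent.Lib.Helper10.ConjChar
import Cfsg.Agent.Lib.Helper10.IrrOrtho

set_option autoImplicit false
open Cfsg

namespace Cfsg.Agent.S1486

open Cfsg.Agent.Lib.Helper10
open scoped ComplexConjugate


/-- Let H be a normal subgroup of the finite group G and θ, φ irreducible characters of H. If φ is a G-conjugate of θ then the functions induced from θ and φ coincide; if φ is not a G-conjugate of θ then the induced functions are orthogonal. -/
theorem result {G : Type*} [Group G] [Fintype G] (H : Subgroup G) [hN : H.Normal] (θ φ : H → ℂ) (hθ : Cfsg.IsIrrCharacter H θ) (hφ : Cfsg.IsIrrCharacter H φ) : ((∃ g : G, φ = fun h : H => θ ⟨g * h * g⁻¹, hN.conj_mem h h.2 g⟩) → Cfsg.indFun H φ = Cfsg.indFun H θ) ∧ ((¬ ∃ g : G, φ = fun h : H => θ ⟨g * h * g⁻¹, hN.conj_mem h h.2 g⟩) → Cfsg.classInner (Cfsg.indFun H φ) (Cfsg.indFun H θ) = 0) := by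
  classical
  have hH0 : (Nat.card H : ℂ) ≠ 0 := Nat.cast_ne_zero.mpr Nat.card_pos.ne'
  refine ⟨?_, ?_⟩
  · rintro ⟨g, rfl⟩
    funext z
    unfold indFun
    congr 1
    have key : ∀ w : G, extendByZero H (fun h : H => θ ⟨g * h * g⁻¹, hN.conj_mem h h.2 g⟩) w
        = extendByZero H θ (g * w * g⁻¹) := by
      intro w
      by_cases hw : w ∈ H
      · rw [extendByZero_apply_mem H _ hw, extendByZero_apply_mem H θ (hN.conj_mem w hw g)]
      · have hw' : g * w * g⁻¹ ∉ H := by
          intro h
          apply hw
          have := hN.conj_mem _ h g⁻¹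
          simpa [mul_assoc] using this
        rw [extendByZero_apply_not_mem H _ hw, extendByZero_apply_not_mem H θ hw']
    apply Fintype.sum_equiv (Equiv.mulRight g⁻¹)
    intro x
    rw [key]
    congr 1
    simp [mul_assoc]
  · intro hne
    have hcl := isClassFunction_indFun H φ
    rw [classInner_indFun_right H θ _ hcl]
    have h0 : ∀ x : G, ∑ h : H, φ ⟨x⁻¹ * h * x, by
        have := hN.conj_mem h h.2 x⁻¹; simpa using this⟩ * conj (θ h) = 0 := by
      intro x
      have hirr := isIrrCharacter_conj H φ hφ x⁻¹
      have hne' : (fun h : H => φ ⟨x⁻¹ * h * x⁻¹⁻¹, hN.conj_mem h h.2 x⁻¹⟩) ≠ θ := by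
        intro heq
        apply hne
        refine ⟨x, ?_⟩
        funext h
        have := congrFun heq ⟨x * h * x⁻¹, hN.conj_mem h h.2 x⟩
        simp only at this
        rw [← this]
        congr 1
        apply Subtype.ext
        simp [mul_assoc]
      have := classInner_irr hirr hθ
      rw [if_neg hne'] at this
      unfold classInner at this
      have h2 := (mul_eq_zero.mp this).resolve_left (inv_ne_zero hH0)
      rw [← h2]
      apply Finset.sum_congr rfl
      intro h _
      congr 2
      apply Subtype.ext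
      simp
    have hsum : ∑ h : H, indFun H φ h * conj (θ h) = 0 := by
      have e : ∀ h : H, indFun H φ h * conj (θ h) = ∑ x : G, (Nat.card H : ℂ)⁻¹ *
          (φ ⟨x⁻¹ * h * x, by have := hN.conj_mem h h.2 x⁻¹; simpa using this⟩ * conj (θ h)) := by
        intro h
        rw [indFun_apply_of_normal H φ h, Finset.mul_sum, Finset.sum_mul]
        apply Finset.sum_congr rfl
        intro x _
        ring
      simp_rw [e]
      rw [Finset.sum_comm]
      apply Finset.sum_eq_zero
      intro x _
      rw [← Finset.mul_sum, h0 x, mul_zero]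
    rw [hsum, mul_zero]

end Cfsg.Agent.S1486
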