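import Cfsg.Statements.S1487
import Mathlib
import Cfsg.Agent.Lib.Helper10.IrrOrtho

set_option autoImplicit false
open Cfsg

namespace Cfsg.Agent.S1487

/-- Let A ≤ H be normal subgroups of the finite group G and θ an irreducible character of H. Then θ takes the value θ 1 on all of A if and only if the function induced from θ to G takes its value at 1 on all of A. -/
theorem result {G : Type*} [Group G] [Fintype G] (A H : Subgroup G) [A.Normal] [H.Normal] (hAH : A ≤ H) (θ : H → ℂ) (hθ : Cfsg.IsIrrCharacter H θ) : (∀ a : H, (a : G) ∈ A → θ a = θ 1) ↔ (∀ a : G, a ∈ A → Cfsg.indFun H θ a = Cfsg.indFun H θ 1) := by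
  classical
  obtain ⟨n, ρ, _, rfl⟩ := hθ
  have hH0 : (Nat.card H : ℂ) ≠ 0 := Nat.cast_ne_zero.mpr Nat.card_pos.ne'
  have hconjA : ∀ (a : G), a ∈ A → ∀ x : G, x⁻¹ * a * x ∈ A := by
    intro a ha x
    have := (inferInstance : A.Normal).conj_mem a ha x⁻¹
    simpa using this
  have hone : Cfsg.indFun H ρ.character 1 = (Nat.card H : ℂ)⁻¹ * ∑ _x : G, ρ.character 1 := by
    unfold Cfsg.indFun
    congr 1
    apply Finset.sum_congr rfl
    intro x _
    have : x⁻¹ * 1 * x = ((1 : H) : G) := by simp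
    rw [this, Cfsg.Agent.Lib.Helper10.extendByZero_apply_coe]
  have hval : ∀ (a : G) (ha : a ∈ A), Cfsg.indFun H ρ.character a
      = (Nat.card H : ℂ)⁻¹ * ∑ x : G, ρ.character ⟨x⁻¹ * a * x, hAH (hconjA a ha x)⟩ := by
    intro a ha
    unfold Cfsg.indFun
    congr 1
    apply Finset.sum_congr rfl
    intro x _
    rw [Cfsg.Agent.Lib.Helper10.extendByZero_apply_mem H _ (hAH (hconjA a ha x))]
  constructor
  · intro h a ha
    rw [hval a ha, hone]
    congr 1
    apply Finset.sum_congr rfl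
    intro x _
    exact h ⟨x⁻¹ * a * x, hAH (hconjA a ha x)⟩ (hconjA a ha x)
  · intro h a ha
    have h1 := h a ha
    rw [hval a ha, hone] at h1
    have h2 : ∑ x : G, ρ.character ⟨x⁻¹ * (a : G) * x, hAH (hconjA a ha x)⟩ = ∑ _x : G, ρ.character 1 :=
      mul_left_cancel₀ (inv_ne_zero hH0) h1
    have h3 := congrArg Complex.re h2
    rw [Complex.re_sum, Complex.re_sum] at h3
    have hle : ∀ x ∈ (Finset.univ : Finset G),
        (ρ.character ⟨x⁻¹ * (a : G) * x, hAH (hconjA a ha x)⟩).re ≤ (ρ.character 1).re :=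
      fun x _ => (Cfsg.Agent.Lib.Helper10.char_re_le ρ _).1
    have h4 := (Finset.sum_eq_sum_iff_of_le hle).mp h3 1 (Finset.mem_univ _)
    have h5 := (Cfsg.Agent.Lib.Helper10.char_re_le ρ _).2 h4
    have : (⟨(1 : G)⁻¹ * (a : G) * 1, hAH (hconjA a ha 1)⟩ : H) = a := by
      apply Subtype.ext; simp
    rw [this] at h5
    exact h5

end Cfsg.Agent.S1487
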