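import Cfsg.Statements.S1488
import Mathlib
import Cfsg.Agent.Lib.Helper10.IndFun

set_option autoImplicit false
open Cfsg

namespace Cfsg.Agent.S1488

open Cfsg.Agent.Lib.Helper10

theorem sum_comp_mk {G : Type*} [Group G] [Fintype G] (A : Subgroup G) [Fintype (G ⧸ A)] (f : G ⧸ A → ℂ) :
    ∑ x : G, f (x : G ⧸ A) = (Nat.card A : ℂ) * ∑ q : G ⧸ A, f q := by
  classical
  have : Fintype A := Fintype.ofFinite A
  let e : (G ⧸ A) × A → G := fun p => p.1.out * p.2
  have hmk : ∀ p : (G ⧸ A) × A, ((e p : G) : G ⧸ A) = p.1 := by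
    intro p
    show ((p.1.out * (p.2 : G) : G) : G ⧸ A) = p.1
    rw [QuotientGroup.mk_mul_of_mem _ p.2.2, QuotientGroup.out_eq']
  have he : Function.Bijective e := by
    constructor
    · intro p p' h
      have h1 : p.1 = p'.1 := by rw [← hmk p, ← hmk p', h]
      have h2 : (p.2 : G) = p'.2 := by
        have : p.1.out * (p.2 : G) = p'.1.out * (p'.2 : G) := h
        rw [h1] at this
        exact mul_left_cancel this
      exact Prod.ext h1 (Subtype.ext h2)
    · intro x
      refine ⟨((x : G ⧸ A), ⟨(x : G ⧸ A).out⁻¹ * x, ?_⟩), ?_⟩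
      · rw [← QuotientGroup.eq, QuotientGroup.out_eq']
      · show (x : G ⧸ A).out * ((x : G ⧸ A).out⁻¹ * x) = x
        group
  rw [← Fintype.sum_equiv (Equiv.ofBijective e he) (fun p => f ((e p : G) : G ⧸ A)) (fun x => f (x : G ⧸ A))
    (fun p => rfl)]
  rw [Fintype.sum_prod_type]
  simp only [hmk, Finset.sum_const, Finset.card_univ, nsmul_eq_mul, Nat.card_eq_fintype_card]
  rw [Finset.mul_sum]

theorem card_eq_card_mul_card_map {G : Type*} [Group G] [Finite G] (A H : Subgroup G) [A.Normal] (hAH : A ≤ H) :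
    Nat.card H = Nat.card A * Nat.card ↥(H.map (QuotientGroup.mk' A)) := by
  have h1 : (H.map (QuotientGroup.mk' A)).index = H.index := by
    have := Subgroup.index_comap_of_surjective (H.map (QuotientGroup.mk' A)) (QuotientGroup.mk'_surjective A)
    rw [QuotientGroup.comap_map_mk', sup_eq_right.mpr hAH] at this
    exact this.symm
  have h2 := Subgroup.card_mul_index H
  have h3 := Subgroup.card_mul_index (H.map (QuotientGroup.mk' A))
  have h4 := Subgroup.card_eq_card_quotient_mul_card_subgroup A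
  rw [h1] at h3
  have hpos : 0 < H.index := Nat.pos_of_ne_zero Subgroup.index_ne_zero_of_finite
  have : H.index * Nat.card H = H.index * (Nat.card A * Nat.card ↥(H.map (QuotientGroup.mk' A))) := by
    calc H.index * Nat.card H = Nat.card G := by rw [mul_comm, h2]
      _ = Nat.card (G ⧸ A) * Nat.card A := h4
      _ = Nat.card ↥(H.map (QuotientGroup.mk' A)) * H.index * Nat.card A := by rw [h3]
      _ = H.index * (Nat.card A * Nat.card ↥(H.map (QuotientGroup.mk' A))) := by ring
  exact Nat.eq_of_mul_eq_mul_left hpos this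

/-- Let A be a normal subgroup of the finite group G contained in the subgroup H, let θ be a function on H and θ₁ a function on the image of H in G ⧸ A whose composite with the projection is θ. Then the function induced from θ₁ to G ⧸ A, composed with the projection G → G ⧸ A, equals the function induced from θ to G. -/
theorem result {G : Type*} [Group G] [Fintype G] (A H : Subgroup G) [A.Normal] (hAH : A ≤ H) [Fintype (G ⧸ A)] [Fintype ↥(H.map (QuotientGroup.mk' A))] (θ : H → ℂ) (θ₁ : ↥(H.map (QuotientGroup.mk' A)) → ℂ) (hθ : ∀ x : H, θ₁ ⟨QuotientGroup.mk' A x, Subgroup.mem_map_of_mem _ x.2⟩ = θ x) (g : G) : Cfsg.indFun (H.map (QuotientGroup.mk' A)) θ₁ (QuotientGroup.mk' A g) = Cfsg.indFun H θ g := by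
  classical
  have hext : ∀ y : G, Cfsg.extendByZero (H.map (QuotientGroup.mk' A)) θ₁ (QuotientGroup.mk' A y)
      = Cfsg.extendByZero H θ y := by
    intro y
    by_cases hy : y ∈ H
    · rw [extendByZero_apply_mem H θ hy,
        extendByZero_apply_mem _ θ₁ (Subgroup.mem_map_of_mem _ hy)]
      exact hθ ⟨y, hy⟩
    · have hy' : QuotientGroup.mk' A y ∉ H.map (QuotientGroup.mk' A) := by
        intro hc
        have : y ∈ (H.map (QuotientGroup.mk' A)).comap (QuotientGroup.mk' A) := hc
        rw [QuotientGroup.comap_map_mk', sup_eq_right.mpr hAH] at this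
        exact hy this
      rw [extendByZero_apply_not_mem H θ hy, extendByZero_apply_not_mem _ θ₁ hy']
  unfold Cfsg.indFun
  have hsum : ∑ x : G, Cfsg.extendByZero H θ (x⁻¹ * g * x)
      = (Nat.card A : ℂ) * ∑ q : G ⧸ A, Cfsg.extendByZero (H.map (QuotientGroup.mk' A)) θ₁
          (q⁻¹ * (QuotientGroup.mk' A g) * q) := by
    rw [← sum_comp_mk A (fun q => Cfsg.extendByZero (H.map (QuotientGroup.mk' A)) θ₁
          (q⁻¹ * (QuotientGroup.mk' A g) * q))]
    apply Finset.sum_congr rfl
    intro x _
    rw [← hext]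
    rfl
  rw [hsum, card_eq_card_mul_card_map A H hAH]
  have hA0 : (Nat.card A : ℂ) ≠ 0 := Nat.cast_ne_zero.mpr Nat.card_pos.ne'
  have hH0 : (Nat.card ↥(H.map (QuotientGroup.mk' A)) : ℂ) ≠ 0 := Nat.cast_ne_zero.mpr Nat.card_pos.ne'
  push_cast
  field_simp

end Cfsg.Agent.S1488
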