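import Cfsg.Statements.S1489
-- import your own Cfsg.Agent.* helpers here
import Mathlib
import Cfsg.Agent.Lib.Helper6.CliffordCorr

set_option autoImplicit false
open Cfsg

namespace Cfsg.Agent.S1489

open Cfsg.Agent.Lib.Helper6 Cfsg.Agent.CharLib
open scoped ComplexConjugate

theorem over_of_constituent {G : Type*} [Group G] (H T : Subgroup G) [Fintype T] [Fintype H]
    (hHT : H ≤ T) (θ : H → ℂ) (ψ : T → ℂ) (hψ : Cfsg.IsIrrCharacter T ψ)
    (hc : Cfsg.classInner (Cfsg.indFun (H.subgroupOf T) (fun x => θ ⟨(x : T), Subgroup.mem_subgroupOf.mp x.2⟩)) ψ ≠ 0) :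
    classInner (resLE hHT ψ) θ ≠ 0 := by
  classical
  let _ : Fintype (H.subgroupOf T) := Fintype.ofFinite _
  intro h0
  apply hc
  rw [frobenius_reciprocity (H.subgroupOf T) _
    (IsCharacter.isClassFunction (IsIrrCharacter.isCharacter hψ))]
  have h1 : (fun x : H.subgroupOf T => θ ⟨(x : T), Subgroup.mem_subgroupOf.mp x.2⟩) =
      θ ∘ (Subgroup.subgroupOfEquivOfLe hHT) := rfl
  have h2 : (fun h : H.subgroupOf T => ψ h) = resLE hHT ψ ∘ (Subgroup.subgroupOfEquivOfLe hHT) :=
    resFun_subgroupOf hHT ψ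
  rw [h1, h2, classInner_comp_mulEquiv, ← classInner_conj_symm, h0, map_zero]

/-- Let H be a normal subgroup of the finite group G, θ an irreducible character of H, and T the inertia group of θ (the elements g with θ(g h g⁻¹) = θ(h) for all h ∈ H). If ψ and ψ' are irreducible characters of T having nonzero inner product with the function induced from θ to T, then the function induced from ψ to G is an irreducible character of G, and it equals the one induced from ψ' only if ψ = ψ'. -/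
theorem result {G : Type*} [Group G] [Fintype G] (H T : Subgroup G) [hN : H.Normal] [Fintype T] (θ : H → ℂ) (hθ : Cfsg.IsIrrCharacter H θ) (hT : ∀ g : G, g ∈ T ↔ ∀ h : H, θ ⟨g * h * g⁻¹, hN.conj_mem h h.2 g⟩ = θ h) (hHT : H ≤ T) (ψ ψ' : T → ℂ) (hψ : Cfsg.IsIrrCharacter T ψ) (hψ' : Cfsg.IsIrrCharacter T ψ') (hc : Cfsg.classInner (Cfsg.indFun (H.subgroupOf T) (fun x => θ ⟨(x : T), Subgroup.mem_subgroupOf.mp x.2⟩)) ψ ≠ 0) (hc' : Cfsg.classInner (Cfsg.indFun (H.subgroupOf T) (fun x => θ ⟨(x : T), Subgroup.mem_subgroupOf.mp x.2⟩)) ψ' ≠ 0) : Cfsg.IsIrrCharacter G (Cfsg.indFun T ψ) ∧ (Cfsg.indFun T ψ = Cfsg.indFun T ψ' → ψ = ψ') := by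
  classical
  let _ : Fintype H := Fintype.ofFinite H
  have hT' : ∀ g : G, g ∈ T ↔ Cfsg.Agent.Lib.Helper6.conjFun H g θ = θ := by
    intro g
    rw [hT g]
    constructor
    · intro hg; funext n; exact hg n
    · intro hg n; exact congrFun hg n
  have hf := over_of_constituent H T hHT θ ψ hψ hc
  have hf' := over_of_constituent H T hHT θ ψ' hψ' hc'
  refine ⟨(isIrrCharacter_indFun_inertia hHT hθ hT' hψ hf).1, ?_⟩
  intro heq
  exact indFun_inertia_injective hHT hθ hT' hψ hψ' hf hf' heq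

end Cfsg.Agent.S1489
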