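import Cfsg.Statements.S1490
-- import your own Cfsg.Agent.* helpers here


import Mathlib
import Cfsg.Agent.Lib.Helper6.AbelianQuot

set_option autoImplicit false
open Cfsg

namespace Cfsg.Agent.S1490

open Cfsg.Agent.Lib.Helper6 Cfsg.Agent.CharLib
open scoped ComplexConjugate commutatorElement

/-- Let H be a normal subgroup of the finite group G, θ an irreducible character of H with inertia group T, and suppose the commutator of any two elements of T lies in H (T/H abelian). Then there are a positive integer e and a finite set C of irreducible characters of G with e ^ 2 * |C| * |H| = |T|, such that the function induced from θ is e times the sum of the members of C and every member of C has degree [G:T] * e * θ(1). -/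
theorem result {G : Type*} [Group G] [Fintype G] (H T : Subgroup G) [hN : H.Normal] (θ : H → ℂ) (hθ : Cfsg.IsIrrCharacter H θ) (hT : ∀ g : G, g ∈ T ↔ ∀ h : H, θ ⟨g * h * g⁻¹, hN.conj_mem h h.2 g⟩ = θ h) (hab : ∀ x ∈ T, ∀ y ∈ T, x * y * x⁻¹ * y⁻¹ ∈ H) : ∃ (e : ℕ) (C : Finset (G → ℂ)), 0 < e ∧ (∀ χ ∈ C, Cfsg.IsIrrCharacter G χ) ∧ e ^ 2 * C.card * Nat.card H = Nat.card T ∧ Cfsg.indFun H θ = (e : ℂ) • ∑ χ ∈ C, χ ∧ ∀ χ ∈ C, χ 1 = (T.index : ℂ) * e * θ 1 := by
  classical
  let _ : Fintype H := Fintype.ofFinite H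
  let _ : Fintype T := Fintype.ofFinite T
  let _ := fintypeIrr G
  have hT' : ∀ g : G, g ∈ T ↔ Cfsg.Agent.Lib.Helper6.conjFun H g θ = θ := by
    intro g
    rw [hT g]
    constructor
    · intro hg; funext n; exact hg n
    · intro hg n; exact congrFun hg n
  have hθc : IsCharacter H θ := IsIrrCharacter.isCharacter hθ
  have hθcf : IsClassFunction H θ := IsCharacter.isClassFunction hθc
  have hHT : H ≤ T := fun h hh => (hT' h).mpr (conjFun_of_mem H hθcf hh)
  obtain ⟨dθ, hdθpos, hdθ⟩ := IsIrrCharacter.apply_one_pos hθ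
  have hθ1 : θ 1 ≠ 0 := by rw [hdθ]; exact_mod_cast hdθpos.ne'
  -- multiplicities
  have hex : ∀ χ : IrrCharacter G, ∃ n : ℕ, classInner (resFun H (χ : G → ℂ)) θ = n := fun χ =>
    IsCharacter.classInner_nat (isCharacter_resFun H (IsIrrCharacter.isCharacter χ.2)) hθc
  choose m hm using hex
  have hm0 : ∀ χ : IrrCharacter G, m χ ≠ 0 → classInner (resFun H (χ : G → ℂ)) θ ≠ 0 := by
    intro χ h
    rw [hm]
    exact_mod_cast h
  -- key: nonzero multiplicities agree
  have hkey : ∀ χ χ' : IrrCharacter G, m χ ≠ 0 → m χ' ≠ 0 → m χ' = m χ := by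
    intro χ χ' h h'
    obtain ⟨ψ, hψ, -, hψe⟩ := exists_indFun_inertia_eq hHT hθ hT' χ.2 (hm0 χ h)
    obtain ⟨ψ', hψ', -, hψ'e⟩ := exists_indFun_inertia_eq hHT hθ hT' χ'.2 (hm0 χ' h')
    let e := Subgroup.subgroupOfEquivOfLe hHT
    let _ : Fintype (H.subgroupOf T) := Fintype.ofFinite _
    have hθ' : IsIrrCharacter (H.subgroupOf T) (θ ∘ e) := isIrrCharacter_comp_mulEquiv' e hθ
    have hinv' : ∀ t : T, Cfsg.Agent.Lib.Helper6.conjFun (H.subgroupOf T) t (θ ∘ e) = θ ∘ e := by
      intro t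
      rw [conjFun_subgroupOf, (hT' t).mp t.2]
    have hab' : ∀ x y : T, ⁅x, y⁆ ∈ H.subgroupOf T := by
      intro x y
      rw [Subgroup.mem_subgroupOf]
      have := hab x x.2 y y.2
      simpa [commutatorElement_def] using this
    have hin : ∀ ξ : T → ℂ, classInner (resFun (H.subgroupOf T) ξ) (θ ∘ e) =
        classInner (resLE hHT ξ) θ := by
      intro ξ
      rw [resFun_subgroupOf hHT ξ, classInner_comp_mulEquiv]
    have hres := resFun_eq_of_abelian_quotient (H.subgroupOf T) hab' hθ' hinv' hψ hψ'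
      (by rw [hin, hψe]; exact hm0 χ h) (by rw [hin, hψ'e]; exact hm0 χ' h')
    have h3 : classInner (resLE hHT ψ') θ = classInner (resLE hHT ψ) θ := by
      rw [← hin, ← hin, hres]
    rw [hψe, hψ'e, hm, hm] at h3
    exact_mod_cast h3
  -- decomposition of the induced function
  have hcoef : ∀ χ : IrrCharacter G, classInner (indFun H θ) (χ : G → ℂ) = m χ := by
    intro χ
    rw [frobenius_reciprocity H θ (IsCharacter.isClassFunction (IsIrrCharacter.isCharacter χ.2)),
      ← classInner_conj_symm]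
    change conj (classInner (resFun H (χ : G → ℂ)) θ) = _
    rw [hm, Complex.conj_natCast]
  have hdec : indFun H θ = ∑ χ : IrrCharacter G, (m χ : ℂ) • (χ : G → ℂ) := by
    conv_lhs => rw [classFunction_eq_sum (indFun_isClassFunction H θ)]
    exact Finset.sum_congr rfl (fun χ _ => by rw [hcoef χ])
  have hH0 : (Nat.card H : ℂ) ≠ 0 := by exact_mod_cast (Nat.card_pos (α := H)).ne'
  have hG0 : (Nat.card G : ℂ) ≠ 0 := by exact_mod_cast (Nat.card_pos (α := G)).ne'
  have hT0 : (Nat.card T : ℂ) ≠ 0 := by exact_mod_cast (Nat.card_pos (α := T)).ne'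
  have hind1 : indFun H θ 1 = (Nat.card H : ℂ)⁻¹ * (Nat.card G : ℂ) * θ 1 :=
    Cfsg.Agent.Lib.Helper6.indFun_apply_one H θ
  have hne : ∃ χ₀ : IrrCharacter G, m χ₀ ≠ 0 := by
    by_contra hcon
    push Not at hcon
    have h0 : indFun H θ = 0 := by
      rw [hdec]
      apply Finset.sum_eq_zero
      intro χ _
      rw [hcon χ, Nat.cast_zero, zero_smul]
    rw [h0, Pi.zero_apply] at hind1
    exact (mul_ne_zero (mul_ne_zero (inv_ne_zero hH0) hG0) hθ1) hind1.symm
  obtain ⟨χ₀, hχ₀⟩ := hne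
  have horb : (conjOrbit H θ).card = T.index := by
    have h1 := card_conjOrbit_mul H θ
    rw [← card_eq_card_stab hT', ← Subgroup.index_mul_card T] at h1
    exact Nat.eq_of_mul_eq_mul_right Nat.card_pos h1
  have hdeg : ∀ χ : IrrCharacter G, m χ ≠ 0 →
      (χ : G → ℂ) 1 = (T.index : ℂ) * (m χ₀ : ℂ) * θ 1 := by
    intro χ h
    rw [clifford_degree H χ.2 hθ (hm0 χ h), hm, horb, hkey χ₀ χ hχ₀ h]
    ring
  let S : Finset (IrrCharacter G) := Finset.univ.filter (fun χ => m χ ≠ 0)
  have hinj : Set.InjOn (fun χ : IrrCharacter G => (χ : G → ℂ)) ↑S :=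
    fun a _ b _ hab => Subtype.ext hab
  refine ⟨m χ₀, S.image (fun χ : IrrCharacter G => (χ : G → ℂ)), Nat.pos_of_ne_zero hχ₀, ?_, ?_, ?_, ?_⟩
  · intro χ hχ
    obtain ⟨χ', -, rfl⟩ := Finset.mem_image.mp hχ
    exact χ'.2
  · -- counting
    rw [Finset.card_image_of_injOn hinj]
    have h1 : indFun H θ 1 = ∑ χ ∈ S, (m χ₀ : ℂ) * ((T.index : ℂ) * (m χ₀ : ℂ) * θ 1) := by
      rw [hdec, Finset.sum_apply, Finset.sum_filter]
      apply Finset.sum_congr rfl
      intro χ _
      rw [Pi.smul_apply, smul_eq_mul]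
      split_ifs with h
      · rw [hdeg χ h, hkey χ₀ χ hχ₀ h]
      · rw [not_not] at h
        rw [h, Nat.cast_zero, zero_mul]
    rw [Finset.sum_const, nsmul_eq_mul, hind1] at h1
    have h2 : (Nat.card G : ℂ) = (Nat.card T : ℂ) * (T.index : ℂ) := by
      rw [← Nat.cast_mul, Subgroup.card_mul_index]
    have hTi : (T.index : ℂ) ≠ 0 := by
      have : T.index ≠ 0 := Subgroup.index_ne_zero_of_finite
      exact_mod_cast this
    rw [h2] at h1
    have h3 : (Nat.card T : ℂ) = ((m χ₀ ^ 2 * S.card * Nat.card H : ℕ) : ℂ) := by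
      push_cast
      field_simp at h1
      linear_combination h1
    exact_mod_cast h3.symm
  · rw [Finset.sum_image hinj, hdec, Finset.smul_sum, Finset.sum_filter]
    apply Finset.sum_congr rfl
    intro χ _
    split_ifs with h
    · rw [hkey χ₀ χ hχ₀ h]
    · rw [not_not] at h
      rw [h, Nat.cast_zero, zero_smul]
  · intro χ hχ
    obtain ⟨χ', hχ', rfl⟩ := Finset.mem_image.mp hχ
    have hm' : m χ' ≠ 0 := (Finset.mem_filter.mp hχ').2
    exact hdeg χ' hm'

end Cfsg.Agent.S1490
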