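import Cfsg.Statements.S1491
-- import your own Cfsg.Agent.* helpers here


import Mathlib
import Cfsg.Agent.S1490
import Cfsg.Agent.S0865
import Cfsg.Agent.Lib.Helper6.DetExtSolv
import Cfsg.Agent.Lib.Lead.FrobSchur

set_option autoImplicit false
open Cfsg

namespace Cfsg.Agent.S1491

open Cfsg.Agent.Lib.Helper6 Cfsg.Agent.CharLib
open scoped ComplexConjugate commutatorElement

/-- An invariant irreducible character of a normal subgroup with abelian quotient of order coprime
to the order of the subgroup extends. -/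
theorem exists_extension_of_abelian_coprime {T : Type*} [Group T] [Finite T] (H : Subgroup T)
    [hH : H.Normal] (hab : ∀ x y : T, ⁅x, y⁆ ∈ H) (hcop : Nat.Coprime (Nat.card H) H.index)
    {θ : H → ℂ} (hθ : IsIrrCharacter H θ)
    (hinv : ∀ g : T, Cfsg.Agent.Lib.Helper6.conjFun H g θ = θ) :
    ∃ ψ : T → ℂ, IsIrrCharacter T ψ ∧ resFun H ψ = θ := by
  classical
  have hθc : IsCharacter H θ := IsIrrCharacter.isCharacter hθ
  obtain ⟨d, hd, hddvd⟩ := IsIrrCharacter.exists_degree hθ
  have hcopd : Nat.Coprime H.index d := (Nat.Coprime.coprime_dvd_left hddvd hcop).symm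
  -- solvable quotient
  have hsolv : Group.IsSolvable (T ⧸ H) := by
    apply Group.isSolvable_of_comm
    intro a b
    obtain ⟨x, rfl⟩ := QuotientGroup.mk'_surjective H a
    obtain ⟨y, rfl⟩ := QuotientGroup.mk'_surjective H b
    have h1 := hab x y
    rw [commutatorElement_def] at h1
    have h2 : ((x * y * x⁻¹ * y⁻¹ : T) : T ⧸ H) = 1 := (QuotientGroup.eq_one_iff _).mpr h1
    change ((x * y : T) : T ⧸ H) = ((y * x : T) : T ⧸ H)
    have h3 : x * y = (x * y * x⁻¹ * y⁻¹) * (y * x) := by group
    rw [h3, QuotientGroup.mk_mul, h2, one_mul]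
  -- the determinant
  have hdet := detChar_isCharacter hθc
  have hdetinv : ∀ (g : T) (n : H),
      detChar θ ⟨g * n * g⁻¹, hH.conj_mem (n : T) n.2 g⟩ = detChar θ n := by
    intro g n
    have h1 := detChar_conjFun H g hθc
    rw [hinv g] at h1
    have h2 := congrFun h1 n
    rw [Cfsg.Agent.Lib.Helper6.conjFun_apply] at h2
    exact h2.symm
  have hord : orderOf (detChar θ) ∣ Nat.card H := by
    apply orderOf_dvd_of_pow_eq_one
    funext h
    rw [Pi.pow_apply, Pi.one_apply]
    have h1 := map_pow (linCharHom hdet.1 hdet.2) h (Nat.card H)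
    rw [pow_card_eq_one', map_one] at h1
    exact h1.symm
  have hcopo : Nat.Coprime H.index (orderOf (detChar θ)) :=
    (Nat.Coprime.coprime_dvd_left hord hcop).symm
  obtain ⟨μ, ⟨hμ, hμ1, hμH, -⟩, -⟩ := Cfsg.Agent.S0865.result H (detChar θ) hdet hdetinv hcopo
  have hμH' : resFun H μ = detChar θ := by funext n; exact hμH n
  exact exists_extension_of_det_extends H hsolv hθ hinv hd hcopd hμ hμ1 hμH'

/-- Let H be a normal subgroup of the finite group G and θ an irreducible character of H with inertia group T, where T/H is abelian (commutators of T lie in H) and the index of H in T is coprime to the order of H. Then the function induced from θ is the sum of a set of exactly [T:H] irreducible characters of G, each of degree [G:T] * θ(1). -/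
theorem result {G : Type*} [Group G] [Fintype G] (H T : Subgroup G) [hN : H.Normal] (θ : H → ℂ) (hθ : Cfsg.IsIrrCharacter H θ) (hT : ∀ g : G, g ∈ T ↔ ∀ h : H, θ ⟨g * h * g⁻¹, hN.conj_mem h h.2 g⟩ = θ h) (hab : ∀ x ∈ T, ∀ y ∈ T, x * y * x⁻¹ * y⁻¹ ∈ H) (hcop : Nat.Coprime (Nat.card H) (H.relIndex T)) : ∃ C : Finset (G → ℂ), (∀ χ ∈ C, Cfsg.IsIrrCharacter G χ) ∧ C.card = H.relIndex T ∧ Cfsg.indFun H θ = ∑ χ ∈ C, χ ∧ ∀ χ ∈ C, χ 1 = (T.index : ℂ) * θ 1 := by
  classical
  let _ : Fintype H := Fintype.ofFinite H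
  let _ : Fintype T := Fintype.ofFinite T
  have hT' : ∀ g : G, g ∈ T ↔ Cfsg.Agent.Lib.Helper6.conjFun H g θ = θ := by
    intro g
    rw [hT g]
    constructor
    · intro hg; funext n; exact hg n
    · intro hg n; exact congrFun hg n
  have hθc : IsCharacter H θ := IsIrrCharacter.isCharacter hθ
  have hθcf : IsClassFunction H θ := IsCharacter.isClassFunction hθc
  have hHT : H ≤ T := fun h hh => (hT' h).mpr (conjFun_of_mem H hθcf hh)
  obtain ⟨e, C, hepos, hCirr, hcount, hind, hdeg⟩ := Cfsg.Agent.S1490.result H T θ hθ hT hab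
  -- an extension of θ to T
  let eq := Subgroup.subgroupOfEquivOfLe hHT
  let _ : Fintype (H.subgroupOf T) := Fintype.ofFinite _
  have hθ' : IsIrrCharacter (H.subgroupOf T) (θ ∘ eq) := isIrrCharacter_comp_mulEquiv' eq hθ
  have hinv' : ∀ t : T, Cfsg.Agent.Lib.Helper6.conjFun (H.subgroupOf T) t (θ ∘ eq) = θ ∘ eq := by
    intro t
    rw [conjFun_subgroupOf, (hT' t).mp t.2]
  have hab' : ∀ x y : T, ⁅x, y⁆ ∈ H.subgroupOf T := by
    intro x y
    rw [Subgroup.mem_subgroupOf]
    have := hab x x.2 y y.2
    simpa [commutatorElement_def] using this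
  have hcop' : Nat.Coprime (Nat.card (H.subgroupOf T)) (H.subgroupOf T).index := by
    rw [Nat.card_congr eq.toEquiv]
    exact hcop
  obtain ⟨ψ₀, hψ₀, hψ₀H⟩ := exists_extension_of_abelian_coprime (H.subgroupOf T) hab' hcop' hθ' hinv'
  have hres : resLE hHT ψ₀ = θ := by
    funext n
    have := congrFun hψ₀H (eq.symm n)
    rw [resFun_subgroupOf hHT ψ₀, Function.comp_apply, Function.comp_apply] at this
    have h2 : eq (eq.symm n) = n := eq.apply_symm_apply n
    rw [h2] at this
    exact this
  have hf : classInner (resLE hHT ψ₀) θ ≠ 0 := by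
    rw [hres, classInner_irr hθ hθ, if_pos rfl]
    exact one_ne_zero
  obtain ⟨hχ₀, hχ₀e⟩ := isIrrCharacter_indFun_inertia hHT hθ hT' hψ₀ hf
  -- multiplicity of χ₀ in the induced function
  have hmult : classInner (indFun H θ) (indFun T ψ₀) = 1 := by
    rw [frobenius_reciprocity H θ (IsCharacter.isClassFunction (IsIrrCharacter.isCharacter hχ₀)),
      ← classInner_conj_symm]
    change conj (classInner (resFun H (indFun T ψ₀)) θ) = 1
    rw [hχ₀e, hres, classInner_irr hθ hθ, if_pos rfl, map_one]
  have he1 : e = 1 := by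
    rw [hind, classInner_smul_left, classInner_sum_left] at hmult
    by_cases hmem : indFun T ψ₀ ∈ C
    · rw [Finset.sum_eq_single (indFun T ψ₀)] at hmult
      · rw [classInner_irr hχ₀ hχ₀, if_pos rfl, mul_one] at hmult
        exact_mod_cast hmult
      · intro χ hχ hne
        rw [classInner_irr (hCirr χ hχ) hχ₀, if_neg hne]
      · intro h; exact absurd hmem h
    · rw [Finset.sum_eq_zero, mul_zero] at hmult
      · exact absurd hmult zero_ne_one
      · intro χ hχ
        rw [classInner_irr (hCirr χ hχ) hχ₀, if_neg]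
        intro h
        exact hmem (h ▸ hχ)
  subst he1
  refine ⟨C, hCirr, ?_, ?_, ?_⟩
  · have h1 : Nat.card T = Nat.card H * H.relIndex T := by
      have := Subgroup.card_mul_index (H.subgroupOf T)
      rw [Nat.card_congr eq.toEquiv] at this
      exact this.symm
    rw [h1] at hcount
    have h2 : C.card * Nat.card H = H.relIndex T * Nat.card H := by
      rw [mul_comm (H.relIndex T)]
      simpa using hcount
    exact Nat.eq_of_mul_eq_mul_right Nat.card_pos h2
  · rw [hind, Nat.cast_one, one_smul]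
  · intro χ hχ
    rw [hdeg χ hχ, Nat.cast_one, mul_one]

end Cfsg.Agent.S1491
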