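import Cfsg.Statements.S1495
import Mathlib

set_option autoImplicit false
open Cfsg

namespace Cfsg.Agent.S1495

open Polynomial in
theorem prime_eq_prod (p : ℕ) [hp : Fact p.Prime] (ζ : ℂ) (hζ : IsPrimitiveRoot ζ p) :
    (p : ℂ) = ∏ μ ∈ primitiveRoots p ℂ, (1 - μ) := by
  have h1 := cyclotomic_eq_prod_X_sub_primitiveRoots hζ
  have h2 : eval 1 (cyclotomic p ℂ) = p := eval_one_cyclotomic_prime
  rw [h1, eval_prod] at h2
  rw [← h2]
  apply Finset.prod_congr rfl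
  intro μ _
  simp

theorem inv_not_integral (p : ℕ) (hp : p.Prime) : ¬ IsIntegral ℤ ((p : ℂ)⁻¹) := by
  intro h
  have h1 : ((p : ℂ)⁻¹) = algebraMap ℚ ℂ ((p : ℚ)⁻¹) := by simp
  rw [h1, isIntegral_algebraMap_iff (algebraMap ℚ ℂ).injective] at h
  obtain ⟨m, hm⟩ := IsIntegrallyClosed.isIntegral_iff.mp h
  have hp0 : (p : ℚ) ≠ 0 := Nat.cast_ne_zero.mpr hp.ne_zero
  have h2 : (m : ℚ) * p = 1 := by
    have : (algebraMap ℤ ℚ m) = (m : ℚ) := rfl
    rw [this] at hm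
    rw [hm]; field_simp
  have h3 : (m * p : ℤ) = 1 := by exact_mod_cast h2
  have h4 : (p : ℤ) ∣ 1 := Dvd.intro_left m h3
  have h5 : p ∣ 1 := by exact_mod_cast h4
  exact hp.one_lt.ne' (Nat.dvd_one.mp h5)

/-- Let p be a prime, ε = exp(2πi/p), and n an integer such that n = (1 − ε) * ω for some algebraic integer ω. Then p divides n. -/
theorem result (p : ℕ) (hp : p.Prime) (n : ℤ) (ω : ℂ) (hω : IsIntegral ℤ ω) (h : (n : ℂ) = (1 - Complex.exp (2 * Real.pi * Complex.I / p)) * ω) : (p : ℤ) ∣ n := by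
  haveI : Fact p.Prime := ⟨hp⟩
  set ζ : ℂ := Complex.exp (2 * Real.pi * Complex.I / p) with hζdef
  have hζ : IsPrimitiveRoot ζ p := Complex.isPrimitiveRoot_exp p hp.ne_zero
  by_contra hnd
  -- Bezout
  have hcop : IsCoprime (p : ℤ) n := by
    have hpi : Prime (p : ℤ) := Nat.prime_iff_prime_int.mp hp
    exact (Prime.coprime_iff_not_dvd hpi).mpr hnd
  obtain ⟨a, b, hab⟩ := hcop
  have habC : (a : ℂ) * p + b * n = 1 := by exact_mod_cast hab
  -- all primitive roots are integral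
  have hint_root : ∀ μ ∈ primitiveRoots p ℂ, IsIntegral ℤ μ := by
    intro μ hμ
    have hμ' := (mem_primitiveRoots hp.pos).mp hμ
    apply IsIntegral.of_pow hp.pos
    rw [hμ'.pow_eq_one]; exact isIntegral_one
  have hint_one_sub : ∀ μ ∈ primitiveRoots p ℂ, IsIntegral ℤ (1 - μ) :=
    fun μ hμ => isIntegral_one.sub (hint_root μ hμ)
  have hζmem : ζ ∈ primitiveRoots p ℂ := (mem_primitiveRoots hp.pos).mpr hζ
  have hu0 : (1 - ζ) ≠ 0 := by
    intro h0
    have : ζ = 1 := (sub_eq_zero.mp h0).symm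
    have := hζ.unique (this ▸ IsPrimitiveRoot.one (M := ℂ))
    exact hp.one_lt.ne' this
  have hprod := prime_eq_prod p ζ hζ
  -- p = (1 - ζ) * β
  set β : ℂ := ∏ μ ∈ (primitiveRoots p ℂ).erase ζ, (1 - μ) with hβ
  have hpβ : (p : ℂ) = (1 - ζ) * β := by
    rw [hprod, hβ, Finset.mul_prod_erase _ _ hζmem]
  have hβint : IsIntegral ℤ β := by
    apply IsIntegral.prod
    intro μ hμ
    exact hint_one_sub μ (Finset.mem_of_mem_erase hμ)
  -- (1 - ζ)⁻¹ is integral
  have huinv : IsIntegral ℤ ((1 - ζ)⁻¹) := by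
    have : (1 - ζ)⁻¹ = a * β + b * ω := by
      have h1 : (1 - ζ) * (a * β + b * ω) = 1 := by
        have e : (1 - ζ) * (a * β + b * ω) = a * ((1 - ζ) * β) + b * ((1 - ζ) * ω) := by ring
        rw [e, ← hpβ, ← h, habC]
      exact inv_eq_of_mul_eq_one_right h1
    rw [this]
    exact (isIntegral_algebraMap.mul hβint).add (isIntegral_algebraMap.mul hω)
  -- each (1 - μ)⁻¹ is integral
  have hinv : ∀ μ ∈ primitiveRoots p ℂ, IsIntegral ℤ ((1 - μ)⁻¹) := by
    intro μ hμ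
    have hμ' := (mem_primitiveRoots hp.pos).mp hμ
    have : NeZero p := ⟨hp.ne_zero⟩
    obtain ⟨j, _, hj⟩ := hμ'.eq_pow_of_pow_eq_one hζ.pow_eq_one
    have hgeom : (1 - μ) * ∑ i ∈ Finset.range j, μ ^ i = 1 - ζ := by
      rw [mul_neg_geom_sum, hj]
    have hμ0 : (1 - μ) ≠ 0 := by
      intro h0; rw [h0, zero_mul] at hgeom; exact hu0 hgeom.symm
    have hS0 : (∑ i ∈ Finset.range j, μ ^ i) ≠ 0 := by
      intro h0; rw [h0, mul_zero] at hgeom; exact hu0 hgeom.symm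
    have : (1 - μ)⁻¹ = (∑ i ∈ Finset.range j, μ ^ i) * (1 - ζ)⁻¹ := by
      rw [← hgeom]; field_simp
    rw [this]
    apply IsIntegral.mul _ huinv
    apply IsIntegral.sum
    intro i _
    exact (hint_root μ hμ).pow i
  have : IsIntegral ℤ ((p : ℂ)⁻¹) := by
    rw [hprod, ← Finset.prod_inv_distrib]
    exact IsIntegral.prod _ hinv
  exact inv_not_integral p hp this

end Cfsg.Agent.S1495
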