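import Cfsg.Statements.S1497

set_option autoImplicit false
open Cfsg

namespace Cfsg.Agent.S1497

/-- Let A be a nonempty subset of the finite group G not containing 1 and L a subgroup. Then A is a TI-subset whose normaliser is L if and only if the Dade hypothesis holds for A, L and the constant choice H(a) = ⊥. -/
theorem result {G : Type*} [Group G] [Finite G] (A : Set G) (hA : A.Nonempty) (h1 : (1 : G) ∉ A) (L : Subgroup G) : (Cfsg.IsTISubset A ∧ Subgroup.normalizer A = L) ↔ Cfsg.DadeHypothesis A L (fun _ => ⊥) := by
  constructor
  · rintro ⟨hTI, hN⟩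
    -- elements g with g a g⁻¹ ∈ A for some a ∈ A lie in L
    have key : ∀ a ∈ A, ∀ g : G, g * a * g⁻¹ ∈ A → g ∈ L := by
      intro a ha g hg
      by_contra hgL
      rw [← hN] at hgL
      exact h1 ((hTI g hgL a ha hg) ▸ ha)
    have hAL : A ⊆ (L : Set G) := by
      intro a ha
      exact key a ha a (by simpa using ha)
    have hCL : ∀ a ∈ A, Subgroup.centralizer ({a} : Set G) ≤ L := by
      intro a ha c hc
      apply key a ha c
      have : c * a * c⁻¹ = a := by
        have := (Subgroup.mem_centralizer_iff.mp hc) a rfl
        rw [← this]; group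
      rw [this]; exact ha
    refine
      { one_not_mem := h1
        subset := hAL
        conj_mem := ?_
        fusion := ?_
        le_centralizer := fun a _ => bot_le
        conj_mem_H := ?_
        inf_eq_bot := fun a _ => bot_inf_eq _
        sup_eq := ?_
        coprime := ?_ }
    · intro x hx a ha
      rw [← hN] at hx
      exact (Subgroup.mem_set_normalizer_iff.mp hx a).mp ha
    · intro a ha g hg
      exact ⟨g, key a ha g hg, rfl⟩
    · intro a _ c _ u hu
      rw [Subgroup.mem_bot] at hu ⊢
      rw [hu]; group
    · intro a ha
      rw [bot_sup_eq]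
      exact inf_eq_right.mpr (hCL a ha)
    · intro a _ b _
      simp
  · intro hD
    have key : ∀ a ∈ A, ∀ g : G, g * a * g⁻¹ ∈ A → g ∈ L := by
      intro a ha g hg
      obtain ⟨x, hxL, hx⟩ := hD.fusion a ha g hg
      have hc : x⁻¹ * g ∈ Subgroup.centralizer ({a} : Set G) := by
        rw [Subgroup.mem_centralizer_iff]
        intro b hb
        rw [Set.mem_singleton_iff] at hb
        subst hb
        have h2 : g * b = x * b * x⁻¹ * g := by
          rw [hx]; group
        calc b * (x⁻¹ * g) = x⁻¹ * (x * b * x⁻¹ * g) := by group
          _ = x⁻¹ * (g * b) := by rw [h2]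
          _ = x⁻¹ * g * b := by group
      have hsup := hD.sup_eq a ha
      rw [bot_sup_eq] at hsup
      rw [← hsup] at hc
      have : x⁻¹ * g ∈ L := hc.1
      have := L.mul_mem hxL this
      simpa using this
    have hN : Subgroup.normalizer A = L := by
      apply le_antisymm
      · intro g hg
        obtain ⟨a, ha⟩ := hA
        exact key a ha g ((Subgroup.mem_set_normalizer_iff.mp hg a).mp ha)
      · intro x hx
        rw [Subgroup.mem_set_normalizer_iff]
        intro n
        constructor
        · intro hn; exact hD.conj_mem x hx n hn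
        · intro hn
          have := hD.conj_mem x⁻¹ (L.inv_mem hx) _ hn
          simpa [mul_assoc] using this
    refine ⟨?_, hN⟩
    intro g hg x hx hgx
    exfalso
    rw [hN] at hg
    exact hg (key x hx g hgx)

end Cfsg.Agent.S1497
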