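import Cfsg.Statements.S1503
import Cfsg.Agent.Lib.Helper10.LinChar
import Cfsg.Agent.Lib.Helper10.IndFun
import Cfsg.Agent.Lib.Helper10.IrrOrtho

set_option autoImplicit false
open Cfsg

namespace Cfsg.Agent.S1503

open Cfsg.Agent.Lib.Helper10
open scoped ComplexConjugate


/-- Let W₁, W₂ ≤ G with W = W₁ ⊔ W₂ and let χ an orthonormal family of irreducible characters of G up to sign, indexed by the linear characters ω of W, with χ_1 = 1, χ_ω = ω on W outside W₁ ∪ W₂, and the induction identity for (1 − φ)(1 − ψ). If θ is an irreducible character of G orthogonal to χ ω for every linear character ω of W, then θ vanishes at every element of W lying outside W₁ ∪ W₂. -/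
theorem result {G : Type*} [Group G] [Fintype G] (W₁ W₂ : Subgroup G) (hW : Cfsg.IsSelfNormalizingCyclic W₁ W₂) (χ : (↥(W₁ ⊔ W₂) →* ℂˣ) → (G → ℂ)) (hχ : Cfsg.IsCyclicTIFamily W₁ W₂ χ) (θ : G → ℂ) (hθ : Cfsg.IsIrrCharacter G θ) (horth : ∀ ω, Cfsg.classInner θ (χ ω) = 0) (w : ↥(W₁ ⊔ W₂)) (hw₁ : (w : G) ∉ W₁) (hw₂ : (w : G) ∉ W₂) : θ w = 0 := by
  classical
  obtain ⟨hW₁ne, hW₂ne, hdisj, hcomm, hcyc, hnorm⟩ := hW
  have hW0 : (Nat.card ↥(W₁ ⊔ W₂) : ℂ) ≠ 0 := Nat.cast_ne_zero.mpr Nat.card_pos.ne'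
  have hWc : ∀ a b : ↥(W₁ ⊔ W₂), a * b = b * a := fun a b => hcyc.isMulCommutative.is_comm.comm a b
  have hθcl : IsClassFunction G θ := isClassFunction_of_isCharacter (isCharacter_of_isIrrCharacter hθ)
  -- Step 1: θ restricted to W is orthogonal to all (1 - φ)(1 - ψ)
  have step1 : ∀ φ ψ : ↥(W₁ ⊔ W₂) →* ℂˣ, (∀ v : ↥(W₁ ⊔ W₂), (v : G) ∈ W₂ → φ v = 1) →
      (∀ v : ↥(W₁ ⊔ W₂), (v : G) ∈ W₁ → ψ v = 1) →
      ∑ v : ↥(W₁ ⊔ W₂), θ v * conj ((1 - (φ v : ℂ)) * (1 - (ψ v : ℂ))) = 0 := by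
    intro φ ψ hφ hψ
    by_cases hφ1 : φ = 1
    · subst hφ1; simp
    by_cases hψ1 : ψ = 1
    · subst hψ1; simp
    have hind := hχ.induced_eq φ ψ hφ1 hψ1 hφ hψ
    have h1 := classInner_indFun_right (W₁ ⊔ W₂)
      (fun v => 1 - (φ v : ℂ) - (ψ v : ℂ) + (φ v : ℂ) * (ψ v : ℂ)) θ hθcl
    rw [hind] at h1
    have h2 : classInner θ (fun g => 1 - χ φ g - χ ψ g + χ (φ * ψ) g) = 0 := by
      have e : (fun g => 1 - χ φ g - χ ψ g + χ (φ * ψ) g) = χ 1 - χ φ - χ ψ + χ (φ * ψ) := by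
        funext g; simp [hχ.map_one]
      rw [e, classInner_add_right, classInner_sub_right, classInner_sub_right, horth, horth, horth,
        horth]
      simp
    rw [h2] at h1
    have h3 := (mul_eq_zero.mp h1.symm).resolve_left (inv_ne_zero hW0)
    rw [← h3]
    apply Finset.sum_congr rfl
    intro v _
    congr 2
    ring
  -- Step 2: the delta function at w
  haveI : Fintype (↥(W₁ ⊔ W₂) →* ℂˣ) := Fintype.ofFinite _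
  set K₁ : Subgroup ↥(W₁ ⊔ W₂) := W₁.subgroupOf (W₁ ⊔ W₂) with hK₁
  set K₂ : Subgroup ↥(W₁ ⊔ W₂) := W₂.subgroupOf (W₁ ⊔ W₂) with hK₂
  set A : Finset (↥(W₁ ⊔ W₂) →* ℂˣ) := Finset.univ.filter (fun φ => ∀ y ∈ K₂, φ y = 1) with hAdef
  set B : Finset (↥(W₁ ⊔ W₂) →* ℂˣ) := Finset.univ.filter (fun ψ => ∀ y ∈ K₁, ψ y = 1) with hBdef
  have hA : ∀ φ, φ ∈ A ↔ ∀ y ∈ K₂, φ y = 1 := by intro φ; simp [hAdef]
  have hB : ∀ ψ, ψ ∈ B ↔ ∀ y ∈ K₁, ψ y = 1 := by intro ψ; simp [hBdef]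
  have hA0 : (A.card : ℂ) ≠ 0 := by
    rw [Nat.cast_ne_zero, Finset.card_ne_zero]
    exact ⟨1, (hA 1).mpr (fun _ _ => rfl)⟩
  have hB0 : (B.card : ℂ) ≠ 0 := by
    rw [Nat.cast_ne_zero, Finset.card_ne_zero]
    exact ⟨1, (hB 1).mpr (fun _ _ => rfl)⟩
  have hwK₁ : w ∉ K₁ := by rw [hK₁, Subgroup.mem_subgroupOf]; exact hw₁
  have hwK₂ : w ∉ K₂ := by rw [hK₂, Subgroup.mem_subgroupOf]; exact hw₂
  have hFA : ∀ v : ↥(W₁ ⊔ W₂), ∑ φ ∈ A, ((φ w : ℂˣ) : ℂ) * conj (1 - ((φ v : ℂˣ) : ℂ))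
      = if w * v⁻¹ ∈ K₂ then -(A.card : ℂ) else 0 := by
    intro v
    have e : ∀ φ : ↥(W₁ ⊔ W₂) →* ℂˣ, ((φ w : ℂˣ) : ℂ) * conj (1 - ((φ v : ℂˣ) : ℂ))
        = ((φ w : ℂˣ) : ℂ) - ((φ (w * v⁻¹) : ℂˣ) : ℂ) := by
      intro φ
      rw [map_sub, map_one, linChar_conj, mul_sub, mul_one, map_mul, Units.val_mul]
    simp_rw [e, Finset.sum_sub_distrib]
    rw [sum_annihilator_apply hWc K₂ A hA w, sum_annihilator_apply hWc K₂ A hA (w * v⁻¹),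
      if_neg hwK₂]
    split_ifs <;> simp
  have hFB : ∀ v : ↥(W₁ ⊔ W₂), ∑ ψ ∈ B, ((ψ w : ℂˣ) : ℂ) * conj (1 - ((ψ v : ℂˣ) : ℂ))
      = if w * v⁻¹ ∈ K₁ then -(B.card : ℂ) else 0 := by
    intro v
    have e : ∀ ψ : ↥(W₁ ⊔ W₂) →* ℂˣ, ((ψ w : ℂˣ) : ℂ) * conj (1 - ((ψ v : ℂˣ) : ℂ))
        = ((ψ w : ℂˣ) : ℂ) - ((ψ (w * v⁻¹) : ℂˣ) : ℂ) := by
      intro ψ
      rw [map_sub, map_one, linChar_conj, mul_sub, mul_one, map_mul, Units.val_mul]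
    simp_rw [e, Finset.sum_sub_distrib]
    rw [sum_annihilator_apply hWc K₁ B hB w, sum_annihilator_apply hWc K₁ B hB (w * v⁻¹),
      if_neg hwK₁]
    split_ifs <;> simp
  have hT : ∑ v : ↥(W₁ ⊔ W₂), θ v * ((∑ φ ∈ A, ((φ w : ℂˣ) : ℂ) * conj (1 - ((φ v : ℂˣ) : ℂ))) *
      (∑ ψ ∈ B, ((ψ w : ℂˣ) : ℂ) * conj (1 - ((ψ v : ℂˣ) : ℂ)))) = 0 := by
    have e : ∀ v : ↥(W₁ ⊔ W₂), θ v * ((∑ φ ∈ A, ((φ w : ℂˣ) : ℂ) * conj (1 - ((φ v : ℂˣ) : ℂ))) *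
        (∑ ψ ∈ B, ((ψ w : ℂˣ) : ℂ) * conj (1 - ((ψ v : ℂˣ) : ℂ))))
        = ∑ φ ∈ A, ∑ ψ ∈ B, ((φ w : ℂˣ) : ℂ) * ((ψ w : ℂˣ) : ℂ) *
            (θ v * conj ((1 - ((φ v : ℂˣ) : ℂ)) * (1 - ((ψ v : ℂˣ) : ℂ)))) := by
      intro v
      rw [Finset.sum_mul_sum, Finset.mul_sum]
      apply Finset.sum_congr rfl
      intro φ _
      rw [Finset.mul_sum]
      apply Finset.sum_congr rfl
      intro ψ _
      rw [map_mul]
      ring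
    simp_rw [e]
    rw [Finset.sum_comm]
    apply Finset.sum_eq_zero
    intro φ hφ
    rw [Finset.sum_comm]
    apply Finset.sum_eq_zero
    intro ψ hψ
    rw [← Finset.mul_sum, step1 φ ψ, mul_zero]
    · intro v hv
      exact (hA φ).mp hφ v (by rw [hK₂, Subgroup.mem_subgroupOf]; exact hv)
    · intro v hv
      exact (hB ψ).mp hψ v (by rw [hK₁, Subgroup.mem_subgroupOf]; exact hv)
  simp_rw [hFA, hFB] at hT
  rw [Finset.sum_eq_single w] at hT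
  · rw [mul_inv_cancel, if_pos K₂.one_mem, if_pos K₁.one_mem] at hT
    have h5 : θ w * ((A.card : ℂ) * (B.card : ℂ)) = 0 := by
      rw [← hT]; ring
    exact (mul_eq_zero.mp h5).resolve_right (mul_ne_zero hA0 hB0)
  · intro v _ hvw
    by_cases h1 : w * v⁻¹ ∈ K₁
    · by_cases h2 : w * v⁻¹ ∈ K₂
      · exfalso
        apply hvw
        rw [hK₁, Subgroup.mem_subgroupOf] at h1
        rw [hK₂, Subgroup.mem_subgroupOf] at h2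
        have h3 : ((w * v⁻¹ : ↥(W₁ ⊔ W₂)) : G) ∈ W₁ ⊓ W₂ := Subgroup.mem_inf.mpr ⟨h1, h2⟩
        rw [hdisj, Subgroup.mem_bot] at h3
        have h4 : w * v⁻¹ = 1 := Subtype.ext h3
        exact (mul_inv_eq_one.mp h4).symm
      · rw [if_neg h2]; simp
    · rw [if_neg h1]; simp
  · intro h
    exact absurd (Finset.mem_univ w) h

end Cfsg.Agent.S1503
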