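import Cfsg.Statements.S1504
import Cfsg.Agent.Lib.Helper10.LinChar

set_option autoImplicit false
open Cfsg

namespace Cfsg.Agent.S1504

open Cfsg.Agent.Lib.Helper10
open scoped ComplexConjugate


/-- Let W₁, W₂ be subgroups of a finite group with W₁ ⊓ W₂ = ⊥ whose elements commute, and W = W₁ ⊔ W₂. For linear characters φ, ψ of W with φ trivial on W₂ and ψ trivial on W₁, the function (1 − φ)(1 − ψ) vanishes on W₁ ∪ W₂; and the family of these functions, indexed by pairs (φ, ψ) with φ ≠ 1 ≠ ψ, is linearly independent over ℂ. -/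
theorem result {G : Type*} [Group G] [Finite G] (W₁ W₂ : Subgroup G) (hdisj : W₁ ⊓ W₂ = ⊥) (hcomm : ∀ a ∈ W₁, ∀ b ∈ W₂, a * b = b * a) : (∀ φ ψ : ↥(W₁ ⊔ W₂) →* ℂˣ, (∀ w : ↥(W₁ ⊔ W₂), (w : G) ∈ W₂ → φ w = 1) → (∀ w : ↥(W₁ ⊔ W₂), (w : G) ∈ W₁ → ψ w = 1) → ∀ w : ↥(W₁ ⊔ W₂), ((w : G) ∈ W₁ ∨ (w : G) ∈ W₂) → (1 - (φ w : ℂ) - (ψ w : ℂ) + (φ w : ℂ) * (ψ w : ℂ)) = 0) ∧ LinearIndependent ℂ (fun p : {p : (↥(W₁ ⊔ W₂) →* ℂˣ) × (↥(W₁ ⊔ W₂) →* ℂˣ) // p.1 ≠ 1 ∧ p.2 ≠ 1 ∧ (∀ w : ↥(W₁ ⊔ W₂), (w : G) ∈ W₂ → p.1 w = 1) ∧ (∀ w : ↥(W₁ ⊔ W₂), (w : G) ∈ W₁ → p.2 w = 1)} => fun w : ↥(W₁ ⊔ W₂) => 1 - (p.1.1 w : ℂ) - (p.1.2 w : ℂ) + (p.1.1 w : ℂ) * (p.1.2 w : ℂ)) := by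
  classical
  haveI : Fintype ↥(W₁ ⊔ W₂) := Fintype.ofFinite _
  have hW0 : (Nat.card ↥(W₁ ⊔ W₂) : ℂ) ≠ 0 := Nat.cast_ne_zero.mpr Nat.card_pos.ne'
  refine ⟨?_, ?_⟩
  · intro φ ψ hφ hψ w hw
    rcases hw with hw | hw
    · rw [hψ w hw]; simp
    · rw [hφ w hw]; simp
  · rw [linearIndependent_iff']
    intro s g hsum p₀ hp₀
    obtain ⟨⟨φ₀, ψ₀⟩, hφ₀1, hψ₀1, hφ₀, hψ₀⟩ := p₀
    simp only at hφ₀1 hψ₀1 hφ₀ hψ₀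
    have hone₂ : ∀ w : ↥(W₁ ⊔ W₂), (w : G) ∈ W₂ → (1 : ↥(W₁ ⊔ W₂) →* ℂˣ) w = 1 := fun _ _ => rfl
    have hone₁ : ∀ w : ↥(W₁ ⊔ W₂), (w : G) ∈ W₁ → (1 : ↥(W₁ ⊔ W₂) →* ℂˣ) w = 1 := fun _ _ => rfl
    have key : ∀ p : {p : (↥(W₁ ⊔ W₂) →* ℂˣ) × (↥(W₁ ⊔ W₂) →* ℂˣ) // p.1 ≠ 1 ∧ p.2 ≠ 1 ∧
        (∀ w : ↥(W₁ ⊔ W₂), (w : G) ∈ W₂ → p.1 w = 1) ∧ (∀ w : ↥(W₁ ⊔ W₂), (w : G) ∈ W₁ → p.2 w = 1)},
        ∑ w : ↥(W₁ ⊔ W₂), (1 - (p.1.1 w : ℂ) - (p.1.2 w : ℂ) + (p.1.1 w : ℂ) * (p.1.2 w : ℂ)) *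
          conj (((φ₀ * ψ₀) w : ℂˣ) : ℂ)
        = if p = ⟨(φ₀, ψ₀), hφ₀1, hψ₀1, hφ₀, hψ₀⟩ then (Nat.card ↥(W₁ ⊔ W₂) : ℂ) else 0 := by
      rintro ⟨⟨φ, ψ⟩, hφ1, hψ1, hφ, hψ⟩
      simp only at hφ1 hψ1 hφ hψ
      have e : ∀ w : ↥(W₁ ⊔ W₂), (1 - (φ w : ℂ) - (ψ w : ℂ) + (φ w : ℂ) * (ψ w : ℂ)) *
          conj (((φ₀ * ψ₀) w : ℂˣ) : ℂ)
          = (((1 : ↥(W₁ ⊔ W₂) →* ℂˣ) w : ℂˣ) : ℂ) * conj (((φ₀ * ψ₀) w : ℂˣ) : ℂ)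
            - ((φ w : ℂˣ) : ℂ) * conj (((φ₀ * ψ₀) w : ℂˣ) : ℂ)
            - ((ψ w : ℂˣ) : ℂ) * conj (((φ₀ * ψ₀) w : ℂˣ) : ℂ)
            + (((φ * ψ) w : ℂˣ) : ℂ) * conj (((φ₀ * ψ₀) w : ℂˣ) : ℂ) := by
        intro w
        simp only [MonoidHom.one_apply, MonoidHom.mul_apply, Units.val_one, Units.val_mul]
        ring
      simp_rw [e, Finset.sum_add_distrib, Finset.sum_sub_distrib, sum_linChar_mul_conj]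
      have n1 : (1 : ↥(W₁ ⊔ W₂) →* ℂˣ) ≠ φ₀ * ψ₀ := by
        intro h
        have := linChar_mul_inj W₁ W₂ 1 φ₀ 1 ψ₀ hone₂ hφ₀ hone₁ hψ₀ ((one_mul _).trans h)
        exact hφ₀1 this.1.symm
      have n2 : φ ≠ φ₀ * ψ₀ := by
        intro h
        have := linChar_mul_inj W₁ W₂ φ φ₀ 1 ψ₀ hφ hφ₀ hone₁ hψ₀ ((mul_one _).trans h)
        exact hψ₀1 this.2.symm
      have n3 : ψ ≠ φ₀ * ψ₀ := by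
        intro h
        have := linChar_mul_inj W₁ W₂ 1 φ₀ ψ ψ₀ hone₂ hφ₀ hψ hψ₀ ((one_mul _).trans h)
        exact hφ₀1 this.1.symm
      rw [if_neg n1, if_neg n2, if_neg n3]
      by_cases h4 : φ * ψ = φ₀ * ψ₀
      · have := linChar_mul_inj W₁ W₂ φ φ₀ ψ ψ₀ hφ hφ₀ hψ hψ₀ h4
        obtain ⟨rfl, rfl⟩ := this
        simp
      · rw [if_neg h4, if_neg]
        · simp
        · intro h
          apply h4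
          have h' := congrArg Subtype.val h
          simp only [Prod.mk.injEq] at h'
          rw [h'.1, h'.2]
    have hL : ∑ w : ↥(W₁ ⊔ W₂), (∑ p ∈ s, g p • (fun w : ↥(W₁ ⊔ W₂) =>
        1 - (p.1.1 w : ℂ) - (p.1.2 w : ℂ) + (p.1.1 w : ℂ) * (p.1.2 w : ℂ))) w *
          conj (((φ₀ * ψ₀) w : ℂˣ) : ℂ) = 0 := by
      rw [hsum]
      simp
    simp only [Finset.sum_apply, Pi.smul_apply, smul_eq_mul, Finset.sum_mul] at hL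
    rw [Finset.sum_comm] at hL
    have hL2 : ∑ p ∈ s, g p * (if p = ⟨(φ₀, ψ₀), hφ₀1, hψ₀1, hφ₀, hψ₀⟩ then
        (Nat.card ↥(W₁ ⊔ W₂) : ℂ) else 0) = 0 := by
      refine Eq.trans ?_ hL
      apply Finset.sum_congr rfl
      intro p _
      rw [← key p, Finset.mul_sum]
      apply Finset.sum_congr rfl
      intro w _
      ring
    rw [Finset.sum_eq_single_of_mem _ hp₀ (by intro b _ hb; rw [if_neg hb, mul_zero])] at hL2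
    rw [if_pos rfl] at hL2
    exact (mul_eq_zero.mp hL2).resolve_right hW0

end Cfsg.Agent.S1504
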