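import Cfsg.Statements.S1505
import Cfsg.Agent.Lib.Helper10.LinChar
import Cfsg.Agent.Lib.Helper10.CyclicTI
import Cfsg.Agent.Lib.Helper10.ConjChar

set_option autoImplicit false
open Cfsg

namespace Cfsg.Agent.S1505

open Cfsg.Agent.Lib.Helper10
open scoped ComplexConjugate


open Classical in
/-- Let W₁, W₂ ≤ G form a self-normalising cyclic subgroup W = W₁ ⊔ W₂. For nontrivial linear characters φ, φ' of W trivial on W₂ and ψ, ψ' trivial on W₁, put α = (1 − φ)(1 − ψ) and α' = (1 − φ')(1 − ψ'). Then the function induced from α to G has inner product 1 with the principal character, and the inner product of the functions induced from α and α' is 1 + a + b + ab where a = 1 if φ = φ' (else 0) and b = 1 if ψ = ψ' (else 0). -/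
theorem result {G : Type*} [Group G] [Fintype G] (W₁ W₂ : Subgroup G) (hW : Cfsg.IsSelfNormalizingCyclic W₁ W₂) (φ φ' ψ ψ' : ↥(W₁ ⊔ W₂) →* ℂˣ) (hφ : φ ≠ 1) (hφ' : φ' ≠ 1) (hψ : ψ ≠ 1) (hψ' : ψ' ≠ 1) (hφ₂ : ∀ w : ↥(W₁ ⊔ W₂), (w : G) ∈ W₂ → φ w = 1 ∧ φ' w = 1) (hψ₁ : ∀ w : ↥(W₁ ⊔ W₂), (w : G) ∈ W₁ → ψ w = 1 ∧ ψ' w = 1) : Cfsg.classInner (Cfsg.indFun (W₁ ⊔ W₂) (fun w => 1 - (φ w : ℂ) - (ψ w : ℂ) + (φ w : ℂ) * (ψ w : ℂ))) (fun _ => 1) = 1 ∧ Cfsg.classInner (Cfsg.indFun (W₁ ⊔ W₂) (fun w => 1 - (φ w : ℂ) - (ψ w : ℂ) + (φ w : ℂ) * (ψ w : ℂ))) (Cfsg.indFun (W₁ ⊔ W₂) (fun w => 1 - (φ' w : ℂ) - (ψ' w : ℂ) + (φ' w : ℂ) * (ψ' w : ℂ))) = 1 + (if φ = φ' then 1 else 0) + (if ψ = ψ' then 1 else 0) + (if φ = φ' then 1 else 0) * (if ψ = ψ' then 1 else 0) := by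
  classical
  obtain ⟨hW₁ne, hW₂ne, hdisj, hcomm, hcyc, hnorm⟩ := id hW
  have hW0 : (Nat.card ↥(W₁ ⊔ W₂) : ℂ) ≠ 0 := Nat.cast_ne_zero.mpr Nat.card_pos.ne'
  set o : ↥(W₁ ⊔ W₂) →* ℂˣ := 1 with ho
  have ho₂ : ∀ w : ↥(W₁ ⊔ W₂), (w : G) ∈ W₂ → o w = 1 := fun _ _ => rfl
  have ho₁ : ∀ w : ↥(W₁ ⊔ W₂), (w : G) ∈ W₁ → o w = 1 := fun _ _ => rfl
  have hφW : ∀ w : ↥(W₁ ⊔ W₂), (w : G) ∈ W₂ → φ w = 1 := fun w hw => (hφ₂ w hw).1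
  have hφ'W : ∀ w : ↥(W₁ ⊔ W₂), (w : G) ∈ W₂ → φ' w = 1 := fun w hw => (hφ₂ w hw).2
  have hψW : ∀ w : ↥(W₁ ⊔ W₂), (w : G) ∈ W₁ → ψ w = 1 := fun w hw => (hψ₁ w hw).1
  have hψ'W : ∀ w : ↥(W₁ ⊔ W₂), (w : G) ∈ W₁ → ψ' w = 1 := fun w hw => (hψ₁ w hw).2
  have hφo : φ ≠ o := hφ
  have hφ'o : φ' ≠ o := hφ'
  have hψo : ψ ≠ o := hψ
  have hψ'o : ψ' ≠ o := hψ'
  -- vanishing on W₁ ∪ W₂
  have hvan : ∀ (a b : ↥(W₁ ⊔ W₂) →* ℂˣ), (∀ w : ↥(W₁ ⊔ W₂), (w : G) ∈ W₂ → a w = 1) →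
      (∀ w : ↥(W₁ ⊔ W₂), (w : G) ∈ W₁ → b w = 1) → ∀ w : ↥(W₁ ⊔ W₂),
      ((w : G) ∈ W₁ ∨ (w : G) ∈ W₂) → 1 - ((a w : ℂˣ) : ℂ) - ((b w : ℂˣ) : ℂ) +
        ((a w : ℂˣ) : ℂ) * ((b w : ℂˣ) : ℂ) = 0 := by
    intro a b ha hb w hw
    rcases hw with hw | hw
    · rw [hb w hw]; simp
    · rw [ha w hw]; simp
  refine ⟨?_, ?_⟩
  · rw [classInner_conj_symm, classInner_indFun_right (W₁ ⊔ W₂) _ (fun _ => 1) (fun _ _ => rfl)]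
    rw [map_mul, map_inv₀, Complex.conj_natCast, map_sum]
    have e : ∀ w : ↥(W₁ ⊔ W₂), conj ((1 : ℂ) * conj (1 - ((φ w : ℂˣ) : ℂ) - ((ψ w : ℂˣ) : ℂ) +
        ((φ w : ℂˣ) : ℂ) * ((ψ w : ℂˣ) : ℂ)))
        = (((o w : ℂˣ) : ℂ) * ((o w : ℂˣ) : ℂ)) * conj (((o w : ℂˣ) : ℂ) * ((o w : ℂˣ) : ℂ))
          - (((φ w : ℂˣ) : ℂ) * ((o w : ℂˣ) : ℂ)) * conj (((o w : ℂˣ) : ℂ) * ((o w : ℂˣ) : ℂ))
          - (((o w : ℂˣ) : ℂ) * ((ψ w : ℂˣ) : ℂ)) * conj (((o w : ℂˣ) : ℂ) * ((o w : ℂˣ) : ℂ))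
          + (((φ w : ℂˣ) : ℂ) * ((ψ w : ℂˣ) : ℂ)) * conj (((o w : ℂˣ) : ℂ) * ((o w : ℂˣ) : ℂ)) := by
      intro w
      simp only [ho, MonoidHom.one_apply, Units.val_one, map_sub, map_add, map_mul, map_one,
        Complex.conj_conj]
      ring
    simp_rw [e]
    simp only [Finset.sum_add_distrib, Finset.sum_sub_distrib]
    rw [sum_linChar_pair W₁ W₂ o o o o ho₂ ho₂ ho₁ ho₁, sum_linChar_pair W₁ W₂ φ o o o hφW ho₂ ho₁ ho₁,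
      sum_linChar_pair W₁ W₂ o o ψ o ho₂ ho₂ hψW ho₁, sum_linChar_pair W₁ W₂ φ o ψ o hφW ho₂ hψW ho₁]
    simp only [hφo, hψo, false_and, and_false, if_false, and_self, if_true, sub_zero, add_zero]
    field_simp
  · rw [classInner_indFun_right (W₁ ⊔ W₂) _ _ (isClassFunction_indFun _ _)]
    have hterm : ∀ w : ↥(W₁ ⊔ W₂),
        indFun (W₁ ⊔ W₂) (fun w => 1 - ((φ w : ℂˣ) : ℂ) - ((ψ w : ℂˣ) : ℂ) +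
          ((φ w : ℂˣ) : ℂ) * ((ψ w : ℂˣ) : ℂ)) w *
        conj (1 - ((φ' w : ℂˣ) : ℂ) - ((ψ' w : ℂˣ) : ℂ) + ((φ' w : ℂˣ) : ℂ) * ((ψ' w : ℂˣ) : ℂ))
        =
          (((o w : ℂˣ) : ℂ) * ((o w : ℂˣ) : ℂ)) * conj (((o w : ℂˣ) : ℂ) * ((o w : ℂˣ) : ℂ))
          - (((o w : ℂˣ) : ℂ) * ((o w : ℂˣ) : ℂ)) * conj (((φ' w : ℂˣ) : ℂ) * ((o w : ℂˣ) : ℂ))
          - (((o w : ℂˣ) : ℂ) * ((o w : ℂˣ) : ℂ)) * conj (((o w : ℂˣ) : ℂ) * ((ψ' w : ℂˣ) : ℂ))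
          + (((o w : ℂˣ) : ℂ) * ((o w : ℂˣ) : ℂ)) * conj (((φ' w : ℂˣ) : ℂ) * ((ψ' w : ℂˣ) : ℂ))
          - (((φ w : ℂˣ) : ℂ) * ((o w : ℂˣ) : ℂ)) * conj (((o w : ℂˣ) : ℂ) * ((o w : ℂˣ) : ℂ))
          + (((φ w : ℂˣ) : ℂ) * ((o w : ℂˣ) : ℂ)) * conj (((φ' w : ℂˣ) : ℂ) * ((o w : ℂˣ) : ℂ))
          + (((φ w : ℂˣ) : ℂ) * ((o w : ℂˣ) : ℂ)) * conj (((o w : ℂˣ) : ℂ) * ((ψ' w : ℂˣ) : ℂ))
          - (((φ w : ℂˣ) : ℂ) * ((o w : ℂˣ) : ℂ)) * conj (((φ' w : ℂˣ) : ℂ) * ((ψ' w : ℂˣ) : ℂ))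
          - (((o w : ℂˣ) : ℂ) * ((ψ w : ℂˣ) : ℂ)) * conj (((o w : ℂˣ) : ℂ) * ((o w : ℂˣ) : ℂ))
          + (((o w : ℂˣ) : ℂ) * ((ψ w : ℂˣ) : ℂ)) * conj (((φ' w : ℂˣ) : ℂ) * ((o w : ℂˣ) : ℂ))
          + (((o w : ℂˣ) : ℂ) * ((ψ w : ℂˣ) : ℂ)) * conj (((o w : ℂˣ) : ℂ) * ((ψ' w : ℂˣ) : ℂ))
          - (((o w : ℂˣ) : ℂ) * ((ψ w : ℂˣ) : ℂ)) * conj (((φ' w : ℂˣ) : ℂ) * ((ψ' w : ℂˣ) : ℂ))
          + (((φ w : ℂˣ) : ℂ) * ((ψ w : ℂˣ) : ℂ)) * conj (((o w : ℂˣ) : ℂ) * ((o w : ℂˣ) : ℂ))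
          - (((φ w : ℂˣ) : ℂ) * ((ψ w : ℂˣ) : ℂ)) * conj (((φ' w : ℂˣ) : ℂ) * ((o w : ℂˣ) : ℂ))
          - (((φ w : ℂˣ) : ℂ) * ((ψ w : ℂˣ) : ℂ)) * conj (((o w : ℂˣ) : ℂ) * ((ψ' w : ℂˣ) : ℂ))
          + (((φ w : ℂˣ) : ℂ) * ((ψ w : ℂˣ) : ℂ)) * conj (((φ' w : ℂˣ) : ℂ) * ((ψ' w : ℂˣ) : ℂ))
          := by
      intro w
      by_cases h12 : (w : G) ∈ W₁ ∨ (w : G) ∈ W₂
      · rw [hvan φ' ψ' hφ'W hψ'W w h12, map_zero, mul_zero]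
        have h0 := hvan φ' ψ' hφ'W hψ'W w h12
        have h0' : conj (1 - ((φ' w : ℂˣ) : ℂ) - ((ψ' w : ℂˣ) : ℂ) +
            ((φ' w : ℂˣ) : ℂ) * ((ψ' w : ℂˣ) : ℂ)) = 0 := by rw [h0, map_zero]
        simp only [ho, MonoidHom.one_apply, Units.val_one, map_sub, map_add, map_mul, map_one] at h0' ⊢
        linear_combination (-(1 - ((φ w : ℂˣ) : ℂ) - ((ψ w : ℂˣ) : ℂ) +
          ((φ w : ℂˣ) : ℂ) * ((ψ w : ℂˣ) : ℂ))) * h0'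
      · push_neg at h12
        rw [indFun_apply_of_cyclicTI W₁ W₂ hW _ (hvan φ ψ hφW hψW) w h12.1 h12.2]
        simp only [ho, MonoidHom.one_apply, Units.val_one, map_sub, map_add, map_mul, map_one]
        ring
    simp_rw [hterm]
    simp only [Finset.sum_add_distrib, Finset.sum_sub_distrib]
    rw [sum_linChar_pair W₁ W₂ o o o o ho₂ ho₂ ho₁ ho₁,
      sum_linChar_pair W₁ W₂ o φ' o o ho₂ hφ'W ho₁ ho₁,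
      sum_linChar_pair W₁ W₂ o o o ψ' ho₂ ho₂ ho₁ hψ'W,
      sum_linChar_pair W₁ W₂ o φ' o ψ' ho₂ hφ'W ho₁ hψ'W,
      sum_linChar_pair W₁ W₂ φ o o o hφW ho₂ ho₁ ho₁,
      sum_linChar_pair W₁ W₂ φ φ' o o hφW hφ'W ho₁ ho₁,
      sum_linChar_pair W₁ W₂ φ o o ψ' hφW ho₂ ho₁ hψ'W,
      sum_linChar_pair W₁ W₂ φ φ' o ψ' hφW hφ'W ho₁ hψ'W,
      sum_linChar_pair W₁ W₂ o o ψ o ho₂ ho₂ hψW ho₁,
      sum_linChar_pair W₁ W₂ o φ' ψ o ho₂ hφ'W hψW ho₁,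
      sum_linChar_pair W₁ W₂ o o ψ ψ' ho₂ ho₂ hψW hψ'W,
      sum_linChar_pair W₁ W₂ o φ' ψ ψ' ho₂ hφ'W hψW hψ'W,
      sum_linChar_pair W₁ W₂ φ o ψ o hφW ho₂ hψW ho₁,
      sum_linChar_pair W₁ W₂ φ φ' ψ o hφW hφ'W hψW ho₁,
      sum_linChar_pair W₁ W₂ φ o ψ ψ' hφW ho₂ hψW hψ'W,
      sum_linChar_pair W₁ W₂ φ φ' ψ ψ' hφW hφ'W hψW hψ'W]
    have hφo' : o ≠ φ' := Ne.symm hφ'o
    have hψo' : o ≠ ψ' := Ne.symm hψ'o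
    simp only [hφo, hψo, hφo', hψo', false_and, and_false, if_false, and_self, if_true, sub_zero,
      add_zero, and_true, true_and]
    by_cases h1 : φ = φ'
    · by_cases h2 : ψ = ψ'
      · simp only [h1, h2, and_self, if_true]
        field_simp
        try ring
      · simp only [h1, h2, and_false, if_false, if_true]
        field_simp
        try ring
    · by_cases h2 : ψ = ψ'
      · simp only [h1, h2, false_and, if_false, if_true]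
        field_simp
        try ring
      · simp only [h1, h2, false_and, if_false]
        field_simp
        try ring

end Cfsg.Agent.S1505
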