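import Cfsg.Statements.S1509
import Mathlib
import Cfsg.Agent.Lib.Helper10.IrrOrtho

set_option autoImplicit false
open Cfsg

namespace Cfsg.Agent.S1509

open Cfsg.Agent.Lib.Helper10
open scoped ComplexConjugate

theorem pm_repr {X : Type*} [Group X] (x : X → ℂ)
    (hx : Cfsg.IsIrrCharacter X x ∨ Cfsg.IsIrrCharacter X (-x)) :
    ∃ (ε : ℂ) (x₀ : X → ℂ), (ε = 1 ∨ ε = -1) ∧ Cfsg.IsIrrCharacter X x₀ ∧ x = ε • x₀ := by
  rcases hx with h | h
  · exact ⟨1, x, Or.inl rfl, h, (one_smul _ _).symm⟩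
  · exact ⟨-1, -x, Or.inr rfl, h, by simp⟩

theorem pm_cases {X : Type*} [Group X] [Fintype X] (x y : X → ℂ)
    (hx : Cfsg.IsIrrCharacter X x ∨ Cfsg.IsIrrCharacter X (-x))
    (hy : Cfsg.IsIrrCharacter X y ∨ Cfsg.IsIrrCharacter X (-y)) :
    Cfsg.classInner x y = 0 ∨ ∃ ε : ℂ, (ε = 1 ∨ ε = -1) ∧ x = ε • y := by
  obtain ⟨εx, x₀, hεx, hx₀, rfl⟩ := pm_repr x hx
  obtain ⟨εy, y₀, hεy, hy₀, rfl⟩ := pm_repr y hy
  by_cases h : x₀ = y₀
  · right
    subst h
    refine ⟨εx * εy, ?_, ?_⟩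
    · rcases hεx with rfl | rfl <;> rcases hεy with rfl | rfl <;> simp
    · rw [smul_smul]
      congr 1
      rcases hεy with rfl | rfl <;> simp
  · left
    rw [classInner_smul_left, classInner_smul_right, classInner_irr hx₀ hy₀, if_neg h]
    simp

theorem pm_self {X : Type*} [Group X] [Fintype X] (x : X → ℂ)
    (hx : Cfsg.IsIrrCharacter X x ∨ Cfsg.IsIrrCharacter X (-x)) : Cfsg.classInner x x = 1 := by
  obtain ⟨εx, x₀, hεx, hx₀, rfl⟩ := pm_repr x hx
  rw [classInner_smul_left, classInner_smul_right, classInner_irr_self hx₀]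
  rcases hεx with rfl | rfl <;> simp

theorem pm_one_ne {X : Type*} [Group X] [Fintype X] (x : X → ℂ)
    (hx : Cfsg.IsIrrCharacter X x ∨ Cfsg.IsIrrCharacter X (-x)) : x 1 ≠ 0 := by
  obtain ⟨εx, x₀, hεx, hx₀, rfl⟩ := pm_repr x hx
  have := irr_one_ne_zero hx₀
  rcases hεx with rfl | rfl <;> simpa using this

theorem keyL {X : Type*} [Group X] [Fintype X] (α β γ δ : X → ℂ)
    (hα : Cfsg.IsIrrCharacter X α ∨ Cfsg.IsIrrCharacter X (-α))
    (hβ : Cfsg.IsIrrCharacter X β ∨ Cfsg.IsIrrCharacter X (-β))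
    (hγ : Cfsg.IsIrrCharacter X γ ∨ Cfsg.IsIrrCharacter X (-γ))
    (hδ : Cfsg.IsIrrCharacter X δ ∨ Cfsg.IsIrrCharacter X (-δ)) (u v : ℝ) (hu : u ≠ 0) (hv : v ≠ 0)
    (hab : Cfsg.classInner α β = 0) (hcd : Cfsg.classInner γ δ = 0)
    (hmix : Cfsg.classInner (α - β) ((u : ℂ) • γ - (v : ℂ) • δ) = 0) (h1 : α 1 = β 1)
    (h2 : (u : ℂ) * γ 1 = (v : ℂ) * δ 1) : Cfsg.classInner α γ = 0 := by
  rcases pm_cases α γ hα hγ with h | ⟨ε, hε, rfl⟩
  · exact h
  exfalso
  have hε2 : ε * ε = 1 := by rcases hε with rfl | rfl <;> simp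
  have hεc : conj ε = ε := by rcases hε with rfl | rfl <;> simp
  have hγγ := pm_self γ hγ
  -- expand the mixed inner product
  have hb : Cfsg.classInner (ε • γ) δ = 0 := by rw [classInner_smul_left, hcd, mul_zero]
  have hc : Cfsg.classInner β γ = 0 := by
    have : Cfsg.classInner β (ε • γ) = 0 := by
      rw [classInner_conj_symm, hab, map_zero]
    rw [classInner_smul_right, hεc] at this
    rcases mul_eq_zero.mp this with h | h
    · rw [h, zero_mul] at hε2; exact absurd hε2 zero_ne_one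
    · exact h
  have ha : Cfsg.classInner (ε • γ) γ = ε := by rw [classInner_smul_left, hγγ, mul_one]
  rw [classInner_sub_left, classInner_sub_right, classInner_sub_right, classInner_smul_right,
    classInner_smul_right, classInner_smul_right, classInner_smul_right, ha, hb, hc,
    Complex.conj_ofReal, Complex.conj_ofReal] at hmix
  rcases pm_cases β δ hβ hδ with h | ⟨ε', hε', rfl⟩
  · rw [h] at hmix
    have : (u : ℂ) * ε = 0 := by linear_combination hmix
    rcases mul_eq_zero.mp this with h' | h'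
    · exact hu (by exact_mod_cast h')
    · rw [h', zero_mul] at hε2; exact absurd hε2 zero_ne_one
  · have hε'2 : ε' * ε' = 1 := by rcases hε' with rfl | rfl <;> simp
    have hδδ := pm_self δ hδ
    have hd : Cfsg.classInner (ε' • δ) δ = ε' := by rw [classInner_smul_left, hδδ, mul_one]
    rw [hd] at hmix
    have hδ1 := pm_one_ne δ hδ
    simp only [Pi.smul_apply, smul_eq_mul] at h1
    -- ε γ(1) = ε' δ(1), u γ(1) = v δ(1), u ε + v ε' = 0
    have e1 : (ε * (v : ℂ) - (u : ℂ) * ε') * δ 1 = 0 := by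
      linear_combination (u : ℂ) * h1 - ε * h2
    have e2 : ε * (v : ℂ) = (u : ℂ) * ε' := by
      rcases mul_eq_zero.mp e1 with h | h
      · exact sub_eq_zero.mp h
      · exact absurd h hδ1
    have e3 : (2 : ℂ) * ε * u = 0 := by
      have : (v : ℂ) = ε * ε' * u := by
        calc (v : ℂ) = (ε * ε) * v := by rw [hε2, one_mul]
          _ = ε * (ε * v) := by ring
          _ = ε * (u * ε') := by rw [e2]
          _ = ε * ε' * u := by ring
      have h3 : (u : ℂ) * ε + ε * ε' * u * ε' = 0 := by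
        rw [← this]; linear_combination hmix
      have : ε * ε' * u * ε' = ε * u * (ε' * ε') := by ring
      rw [this, hε'2] at h3
      linear_combination h3
    rcases mul_eq_zero.mp e3 with h | h
    · rcases mul_eq_zero.mp h with h' | h'
      · norm_num at h'
      · rw [h', zero_mul] at hε2; exact absurd hε2 zero_ne_one
    · exact hu (by exact_mod_cast h)

/-- Let α, β, γ, δ be functions on a finite group X each of which is an irreducible character or the negative of one, and u, v nonzero real numbers. Suppose ⟨α, β⟩ = ⟨γ, δ⟩ = 0, ⟨α − β, uγ − vδ⟩ = 0, α 1 = β 1 and u γ 1 = v δ 1. Then also ⟨α, γ⟩ = ⟨α, δ⟩ = ⟨β, γ⟩ = ⟨β, δ⟩ = 0. -/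
theorem result {X : Type*} [Group X] [Fintype X] (α β γ δ : X → ℂ) (hα : Cfsg.IsIrrCharacter X α ∨ Cfsg.IsIrrCharacter X (-α)) (hβ : Cfsg.IsIrrCharacter X β ∨ Cfsg.IsIrrCharacter X (-β)) (hγ : Cfsg.IsIrrCharacter X γ ∨ Cfsg.IsIrrCharacter X (-γ)) (hδ : Cfsg.IsIrrCharacter X δ ∨ Cfsg.IsIrrCharacter X (-δ)) (u v : ℝ) (hu : u ≠ 0) (hv : v ≠ 0) (hab : Cfsg.classInner α β = 0) (hcd : Cfsg.classInner γ δ = 0) (hmix : Cfsg.classInner (α - β) ((u : ℂ) • γ - (v : ℂ) • δ) = 0) (h1 : α 1 = β 1) (h2 : (u : ℂ) * γ 1 = (v : ℂ) * δ 1) : Cfsg.classInner α γ = 0 ∧ Cfsg.classInner α δ = 0 ∧ Cfsg.classInner β γ = 0 ∧ Cfsg.classInner β δ = 0 := by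
  have hba : Cfsg.classInner β α = 0 := by rw [classInner_conj_symm, hab, map_zero]
  have hdc : Cfsg.classInner δ γ = 0 := by rw [classInner_conj_symm, hcd, map_zero]
  have hmix2 : Cfsg.classInner (α - β) ((v : ℂ) • δ - (u : ℂ) • γ) = 0 := by
    have : (v : ℂ) • δ - (u : ℂ) • γ = (-1 : ℂ) • ((u : ℂ) • γ - (v : ℂ) • δ) := by
      rw [smul_sub, neg_one_smul, neg_one_smul]; abel
    rw [this, classInner_smul_right, hmix, mul_zero]
  have hmix3 : Cfsg.classInner (β - α) ((u : ℂ) • γ - (v : ℂ) • δ) = 0 := by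
    have : β - α = (-1 : ℂ) • (α - β) := by rw [smul_sub, neg_one_smul, neg_one_smul]; abel
    rw [this, classInner_smul_left, hmix, mul_zero]
  have hmix4 : Cfsg.classInner (β - α) ((v : ℂ) • δ - (u : ℂ) • γ) = 0 := by
    have : β - α = (-1 : ℂ) • (α - β) := by rw [smul_sub, neg_one_smul, neg_one_smul]; abel
    rw [this, classInner_smul_left, hmix2, mul_zero]
  exact ⟨keyL α β γ δ hα hβ hγ hδ u v hu hv hab hcd hmix h1 h2,
    keyL α β δ γ hα hβ hδ hγ v u hv hu hab hdc hmix2 h1 h2.symm,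
    keyL β α γ δ hβ hα hγ hδ u v hu hv hba hcd hmix3 h1.symm h2,
    keyL β α δ γ hβ hα hδ hγ v u hv hu hba hdc hmix4 h1.symm h2.symm⟩

end Cfsg.Agent.S1509
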