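import Cfsg.Statements.S1510
import Mathlib
import Cfsg.Agent.Lib.Helper10.CyclicSup

set_option autoImplicit false
open Cfsg

namespace Cfsg.Agent.S1510

open scoped Pointwise

/-- Let L be a finite group with a normal subgroup K and a nontrivial cyclic subgroup W₁ of order coprime to its index, K ⊓ W₁ = ⊥ and K ⊔ W₁ = ⊤; let W₂ ≠ ⊥ be a cyclic subgroup of K with K ⊓ C_L(x) = W₂ for every non-identity x ∈ W₁, and suppose W₁ ⊔ W₂ has odd order. Then (W₁, W₂) is a self-normalising cyclic pair in L. -/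
theorem result {L : Type*} [Group L] [Fintype L] (K W₁ W₂ : Subgroup L) [hK : K.Normal] (hKW₁ : K ⊓ W₁ = ⊥) (hKW₁' : K ⊔ W₁ = ⊤) (hW₁ : W₁ ≠ ⊥) (hW₁c : IsCyclic W₁) (hHall : Nat.Coprime (Nat.card W₁) W₁.index) (hW₂ : W₂ ≠ ⊥) (hW₂c : IsCyclic W₂) (hW₂K : W₂ ≤ K) (hC : ∀ x ∈ W₁, x ≠ 1 → K ⊓ Subgroup.centralizer ({x} : Set L) = W₂) (hodd : Odd (Nat.card ↥(W₁ ⊔ W₂))) : Cfsg.IsSelfNormalizingCyclic W₁ W₂ := by
  classical
  have hcomm : ∀ a ∈ W₁, ∀ b ∈ W₂, a * b = b * a := by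
    intro a ha b hb
    by_cases ha1 : a = 1
    · subst ha1; simp
    · have hb' : b ∈ K ⊓ Subgroup.centralizer ({a} : Set L) := by rw [hC a ha ha1]; exact hb
      exact (Subgroup.mem_centralizer_iff.mp hb'.2) a rfl
  have hdisj : W₁ ⊓ W₂ = ⊥ := by
    rw [eq_bot_iff, ← hKW₁]
    exact le_inf (inf_le_right.trans hW₂K) inf_le_left
  -- |K| = index of W₁
  have hmul : (K : Set L) * (W₁ : Set L) = Set.univ := by
    rw [← Subgroup.normal_mul, hKW₁']; rfl
  have hcompl : Subgroup.IsComplement' K W₁ :=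
    Subgroup.isComplement'_of_disjoint_and_mul_eq_univ (disjoint_iff.mpr hKW₁) hmul
  have hKcard : Nat.card K = W₁.index := by
    have h1 := hcompl.card_mul_card
    have h2 := Subgroup.card_mul_index W₁
    have hpos : 0 < Nat.card W₁ := Nat.card_pos
    have : Nat.card W₁ * Nat.card K = Nat.card W₁ * W₁.index := by rw [h2, mul_comm, h1]
    exact Nat.eq_of_mul_eq_mul_left hpos this
  have hcop : (Nat.card W₁).Coprime (Nat.card W₂) := by
    apply Nat.Coprime.coprime_dvd_right (Subgroup.card_dvd_of_le hW₂K)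
    rw [hKcard]; exact hHall
  have hcyc : IsCyclic ↥(W₁ ⊔ W₂) :=
    Cfsg.Agent.Lib.Helper10.isCyclic_sup_of_commute_coprime W₁ W₂ hcomm hcop
  refine ⟨hW₁, hW₂, hdisj, hcomm, hcyc, ?_⟩
  intro X hX hXne
  -- W is abelian
  have hWcomm : ∀ u ∈ W₁ ⊔ W₂, ∀ v ∈ W₁ ⊔ W₂, u * v = v * u := by
    intro u hu v hv
    have := hcyc.isMulCommutative.is_comm.comm ⟨u, hu⟩ ⟨v, hv⟩
    exact congrArg Subtype.val this
  obtain ⟨m, hm⟩ := Cfsg.Agent.Lib.Helper10.exists_pow_mul_eq_left (G := L) (Nat.card W₁) (Nat.card W₂) hcop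
  apply le_antisymm
  · intro g hg
    obtain ⟨x, hxX⟩ := hXne
    have hxW : x ∈ W₁ ⊔ W₂ := (hX hxX).1
    have hx' : g * x * g⁻¹ ∈ X := (Subgroup.mem_set_normalizer_iff.mp hg x).mp hxX
    have hx'W : g * x * g⁻¹ ∈ W₁ ⊔ W₂ := (hX hx').1
    obtain ⟨a, ha, b, hb, hxab⟩ := Cfsg.Agent.Lib.Helper10.exists_mul_of_mem_sup_of_commute W₁ W₂ hcomm hxW
    obtain ⟨a', ha', b', hb', hx'ab⟩ := Cfsg.Agent.Lib.Helper10.exists_mul_of_mem_sup_of_commute W₁ W₂ hcomm hx'W
    have ha1 : a ≠ 1 := by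
      rintro rfl
      apply (hX hxX).2
      right; rw [hxab, one_mul]; exact hb
    -- g = k * w
    have hgtop : g ∈ ((K ⊔ W₁ : Subgroup L) : Set L) := by rw [hKW₁']; trivial
    rw [Subgroup.normal_mul] at hgtop
    obtain ⟨k, hk, w, hw, rfl⟩ := Set.mem_mul.mp hgtop
    have hwx : w * x * w⁻¹ = x := by
      rw [hWcomm w ((le_sup_left : W₁ ≤ W₁ ⊔ W₂) hw) x hxW]; group
    have hkx : k * x * k⁻¹ = a' * b' := by
      rw [← hx'ab]
      calc k * x * k⁻¹ = k * (w * x * w⁻¹) * k⁻¹ := by rw [hwx]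
        _ = k * w * x * (k * w)⁻¹ := by group
    have hpa : (a * b) ^ m = a := hm a b (hcomm a ha b hb) (by
      have := pow_card_eq_one' (G := W₁) (x := ⟨a, ha⟩); exact congrArg Subtype.val this) (by
      have := pow_card_eq_one' (G := W₂) (x := ⟨b, hb⟩); exact congrArg Subtype.val this)
    have hpa' : (a' * b') ^ m = a' := hm a' b' (hcomm a' ha' b' hb') (by
      have := pow_card_eq_one' (G := W₁) (x := ⟨a', ha'⟩); exact congrArg Subtype.val this) (by
      have := pow_card_eq_one' (G := W₂) (x := ⟨b', hb'⟩); exact congrArg Subtype.val this)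
    have hka : k * a * k⁻¹ = a' := by
      have : (k * x * k⁻¹) ^ m = (a' * b') ^ m := by rw [hkx]
      rw [hpa', ← MulAut.conj_apply, ← map_pow, MulAut.conj_apply, hxab, hpa] at this
      exact this
    have haa' : a' = a := by
      have h1 : a' * a⁻¹ ∈ K := by
        rw [← hka]
        have : k * a * k⁻¹ * a⁻¹ = k * (a * k⁻¹ * a⁻¹) := by group
        rw [this]
        exact K.mul_mem hk (hK.conj_mem _ (K.inv_mem hk) a)
      have h2 : a' * a⁻¹ ∈ W₁ := W₁.mul_mem ha' (W₁.inv_mem ha)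
      have : a' * a⁻¹ ∈ K ⊓ W₁ := ⟨h1, h2⟩
      rw [hKW₁, Subgroup.mem_bot] at this
      exact mul_inv_eq_one.mp this
    have hkW₂ : k ∈ W₂ := by
      rw [← hC a ha ha1]
      refine Subgroup.mem_inf.mpr ⟨hk, ?_⟩
      rw [Subgroup.mem_centralizer_iff]
      intro h hh
      rw [Set.mem_singleton_iff] at hh
      subst hh
      rw [haa'] at hka
      calc h * k = (k * h * k⁻¹) * k := by rw [hka]
        _ = k * h := by group
    exact Subgroup.mul_mem _ ((le_sup_right : W₂ ≤ W₁ ⊔ W₂) hkW₂) ((le_sup_left : W₁ ≤ W₁ ⊔ W₂) hw)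
  · intro w hw
    rw [Subgroup.mem_set_normalizer_iff]
    intro n
    constructor
    · intro hn
      have : w * n * w⁻¹ = n := by rw [hWcomm w hw n (hX hn).1]; group
      rw [this]; exact hn
    · intro hn
      have hnW : n ∈ W₁ ⊔ W₂ := by
        have h1 := (hX hn).1
        have : n = w⁻¹ * (w * n * w⁻¹) * w := by group
        rw [this]
        exact Subgroup.mul_mem _ (Subgroup.mul_mem _ (Subgroup.inv_mem _ hw) h1) hw
      have : w * n * w⁻¹ = n := by rw [hWcomm w hw n hnW]; group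
      rw [this] at hn; exact hn

end Cfsg.Agent.S1510
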