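import Cfsg.Statements.S1512
import Cfsg.Agent.S1496
import Cfsg.Agent.Lib.Helper10.CyclicSup

set_option autoImplicit false
open Cfsg

namespace Cfsg.Agent.S1512

/-- Let K be a normal subgroup of the finite group L and x a non-identity element whose order is coprime to the order of K, such that K ⊓ C_L(y) = W₂ for every non-identity element y of the cyclic group generated by x. Then the number of conjugacy classes of K mapped to themselves by conjugation by x is at most Nat.card W₂. -/
theorem result {L : Type*} [Group L] [Finite L] (K W₂ : Subgroup L) [hK : K.Normal] (x : L) (hx1 : x ≠ 1) (hx : Nat.Coprime (orderOf x) (Nat.card K)) (hC : ∀ y ∈ Subgroup.zpowers x, y ≠ 1 → K ⊓ Subgroup.centralizer ({y} : Set L) = W₂) : Nat.card {C : ConjClasses K // ConjClasses.map (MulEquiv.toMonoidHom ((MulAut.conjNormal x : MulAut K))) C = C} ≤ Nat.card W₂ := by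
  classical
  have hxn : x ∈ Subgroup.normalizer (K : Set L) := by
    have : Subgroup.normalizer (K : Set L) = ⊤ := Subgroup.normalizer_eq_top_iff.mpr hK
    rw [this]; exact Subgroup.mem_top x
  have key : ∀ C : {C : ConjClasses K // ConjClasses.map
      (MulEquiv.toMonoidHom ((MulAut.conjNormal x : MulAut K))) C = C},
      ∃ k : K, ConjClasses.mk k = C.1 ∧ (k : L) ∈ W₂ := by
    rintro ⟨C, hC'⟩
    obtain ⟨k, rfl⟩ := ConjClasses.mk_surjective C
    change ConjClasses.mk ((MulAut.conjNormal x : MulAut K) k) = ConjClasses.mk k at hC'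
    rw [ConjClasses.mk_eq_mk_iff_isConj, isConj_iff] at hC'
    obtain ⟨u, hu⟩ := hC'
    have hu' : (u : L) * (x * k * x⁻¹) * (u : L)⁻¹ = k := by
      have := congrArg Subtype.val hu
      simpa [MulAut.conjNormal_apply] using this
    obtain ⟨z, hz, c, hc, hcx, hzc⟩ := Cfsg.Agent.S1496.result K x hxn hx (u : L) u.2
    refine ⟨⟨z * k * z⁻¹, hK.conj_mem k k.2 z⟩, ?_, ?_⟩
    · rw [ConjClasses.mk_eq_mk_iff_isConj, isConj_iff]
      refine ⟨(⟨z, hz⟩ : K)⁻¹, ?_⟩
      apply Subtype.ext
      simp only [Subgroup.coe_mul, Subgroup.coe_inv, inv_inv]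
      group
    · rw [← hC x (Subgroup.mem_zpowers x) hx1]
      refine Subgroup.mem_inf.mpr ⟨hK.conj_mem k k.2 z, ?_⟩
      -- c * x commutes with z k z⁻¹
      have h1 : Commute (c * x) (z * k * z⁻¹) := by
        rw [← hzc]
        unfold Commute SemiconjBy
        have e1 : z * (↑u * x) * z⁻¹ * (z * ↑k * z⁻¹) = z * (↑u * (x * ↑k * x⁻¹) * (↑u)⁻¹) * (↑u * x) * z⁻¹ := by
          group
        rw [e1, hu']
        group
      obtain ⟨j, hj⟩ := Cfsg.Agent.Lib.Helper10.exists_pow_mul_eq_left (G := L) (orderOf x) (Nat.card K) hx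
      have hcK : c ^ Nat.card K = 1 := by
        have h2 : ((⟨c, hc⟩ : K) ^ Nat.card K : K) = 1 := pow_card_eq_one'
        have h3 := congrArg Subtype.val h2
        simpa only [SubmonoidClass.coe_pow, OneMemClass.coe_one] using h3
      have hxj : (x * c) ^ j = x := hj x c hcx.symm (pow_orderOf_eq_one x) hcK
      have h4 : Commute x (z * k * z⁻¹) := by
        rw [← hxj, ← hcx]
        exact h1.pow_left j
      rw [Subgroup.mem_centralizer_iff]
      intro g hg
      rw [Set.mem_singleton_iff] at hg
      subst hg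
      exact h4
  choose F hF1 hF2 using key
  have hinj : Function.Injective (fun C => (⟨(F C : L), hF2 C⟩ : W₂)) := by
    intro C D hCD
    have h1 : (F C : L) = (F D : L) := by
      have := congrArg (fun w : W₂ => (w : L)) hCD
      exact this
    have h2 : F C = F D := Subtype.ext h1
    apply Subtype.ext
    rw [← hF1 C, ← hF1 D, h2]
  exact Nat.card_le_card_of_injective _ hinj

end Cfsg.Agent.S1512
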