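import Cfsg.Statements.S1515
import Cfsg.Agent.Lib.Helper10.Coherence2

set_option autoImplicit false
open Cfsg

namespace Cfsg.Agent.S1515

open Cfsg.Agent.CharLib Cfsg.Agent.Lib.Helper10 in
open scoped ComplexConjugate in

/-- Let (S, τ, R) be a coherence system from L to G, χ ∈ S, and ψ an integer combination of S with ⟨χ, ψ⟩ = ⟨conj χ, ψ⟩ = 0. Let τ₁ be a linear isometry on the integer combinations of χ − ψ and χ − conj χ, with virtual-character values, agreeing with τ on integer multiples of χ − conj χ. Then the sum over α ∈ R χ of the squared absolute values of ⟨τ₁(χ − ψ), α⟩ is at least ⟨χ, χ⟩; and if ⟨τ₁(χ − ψ), τ₁(χ − ψ)⟩ minus that sum is at least ⟨ψ, ψ⟩, then the sum equals ⟨χ, χ⟩ and every ⟨τ₁(χ − ψ), α⟩ with α ∈ R χ is 0 or 1. -/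
theorem result {L : Type*} [Group L] [Fintype L] {G : Type*} [Group G] [Fintype G] (S : Set (L → ℂ)) (τ : (L → ℂ) → (G → ℂ)) (R : (L → ℂ) → Finset (G → ℂ)) (hS : Cfsg.IsCoherenceSystem S τ R) (χ : L → ℂ) (hχ : χ ∈ S) (ψ : L → ℂ) (hψ : ψ ∈ Cfsg.zspan S) (h1 : Cfsg.classInner χ ψ = 0) (h2 : Cfsg.classInner (Cfsg.conjFun χ) ψ = 0) (τ₁ : (L → ℂ) → (G → ℂ)) (hτ₁ : Cfsg.IsLinearIsometryOn (Cfsg.zspan {χ - ψ, χ - Cfsg.conjFun χ}) τ₁) (hagree : ∀ n : ℤ, τ₁ (n • (χ - Cfsg.conjFun χ)) = τ (n • (χ - Cfsg.conjFun χ))) : (Cfsg.classInner χ χ).re ≤ ∑ α ∈ R χ, ‖Cfsg.classInner (τ₁ (χ - ψ)) α‖ ^ 2 ∧ ((Cfsg.classInner ψ ψ).re ≤ (Cfsg.classInner (τ₁ (χ - ψ)) (τ₁ (χ - ψ))).re - ∑ α ∈ R χ, ‖Cfsg.classInner (τ₁ (χ - ψ)) α‖ ^ 2 → (∑ α ∈ R χ, ‖Cfsg.classInner (τ₁ (χ - ψ)) α‖ ^ 2 = (Cfsg.classInner χ χ).re ∧ ∀ α ∈ R χ, Cfsg.classInner (τ₁ (χ - ψ)) α = 0 ∨ Cfsg.classInner (τ₁ (χ - ψ)) α = 1)) := by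
  classical
  set u : L → ℂ := χ - ψ with hu
  set v : L → ℂ := χ - conjFun χ with hv
  have huE : u ∈ zspan ({χ - ψ, χ - conjFun χ} : Set (L → ℂ)) := subset_zspan (by simp [hu])
  have hvE : v ∈ zspan ({χ - ψ, χ - conjFun χ} : Set (L → ℂ)) := subset_zspan (by simp [hv])
  set B : G → ℂ := τ₁ u with hB
  have hBg : IsGeneralizedCharacter G B := hτ₁.2.2.2 u huE
  have hχbar : conjFun χ ∈ S := hS.conj_mem χ hχ
  have hτ₁v : τ₁ v = ∑ α ∈ R χ, α := by
    have := hagree 1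
    rw [one_smul] at this
    rw [hv, this, hS.sum_eq χ hχ]
  have hχχbar : classInner χ (conjFun χ) = 0 :=
    hS.orthogonal χ hχ (conjFun χ) hχbar (fun h => hS.conj_ne χ hχ h.symm)
  have hψχ : classInner ψ χ = 0 := by
    rw [Cfsg.Agent.Lib.Helper10.classInner_conj_symm, h1, map_zero]
  have hψχbar : classInner ψ (conjFun χ) = 0 := by
    rw [Cfsg.Agent.Lib.Helper10.classInner_conj_symm, h2, map_zero]
  have huv : classInner u v = classInner χ χ := by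
    rw [hu, hv, Cfsg.Agent.Lib.Helper10.classInner_sub_left, Cfsg.Agent.Lib.Helper10.classInner_sub_right,
      Cfsg.Agent.Lib.Helper10.classInner_sub_right, hχχbar, hψχ, hψχbar]
    ring
  have huu : classInner u u = classInner χ χ + classInner ψ ψ := by
    rw [hu, Cfsg.Agent.Lib.Helper10.classInner_sub_left, Cfsg.Agent.Lib.Helper10.classInner_sub_right,
      Cfsg.Agent.Lib.Helper10.classInner_sub_right, h1, hψχ]
    ring
  obtain ⟨r, hr0, hr⟩ := classInner_self_nonneg χ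
  have hsum : ∑ α ∈ R χ, classInner B α = (r : ℂ) := by
    rw [← Cfsg.Agent.Lib.Helper10.classInner_sum_right, ← hτ₁v, hB, hτ₁.2.2.1 u huE v hvE, huv, hr]
  have hb : ∀ α : G → ℂ, ∃ b : ℤ, α ∈ R χ → classInner B α = b := by
    intro α
    by_cases hα : α ∈ R χ
    · obtain ⟨b, hb⟩ := genChar_inner_int hBg (hS.virtual χ hχ α hα)
      exact ⟨b, fun _ => hb⟩
    · exact ⟨0, fun h => absurd h hα⟩
  choose b hb using hb
  have hsumR : ∑ α ∈ R χ, (b α : ℝ) = r := by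
    have h3 : ((∑ α ∈ R χ, (b α : ℝ) : ℝ) : ℂ) = (r : ℂ) := by
      rw [← hsum]
      push_cast
      apply Finset.sum_congr rfl
      intro α hα
      rw [hb α hα]
    exact_mod_cast h3
  have hnorm : ∀ α ∈ R χ, ‖classInner B α‖ ^ 2 = (b α : ℝ) ^ 2 := by
    intro α hα
    rw [hb α hα, Complex.norm_intCast, sq_abs]
  have hge : ∀ α ∈ R χ, (b α : ℝ) ≤ (b α : ℝ) ^ 2 := by
    intro α _
    have h3 : b α ≤ b α ^ 2 := by
      rcases le_or_gt (b α) 0 with h | h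
      · nlinarith
      · have : 1 ≤ b α := h
        nlinarith
    exact_mod_cast h3
  have hre : (classInner χ χ).re = r := by rw [hr]; simp
  rw [hre, Finset.sum_congr rfl hnorm]
  refine ⟨?_, ?_⟩
  · rw [← hsumR]
    exact Finset.sum_le_sum hge
  · intro hle
    have hBB : (classInner B B).re = r + (classInner ψ ψ).re := by
      rw [hB, hτ₁.2.2.1 u huE u huE, huu, hr]
      simp
    rw [hBB] at hle
    have hle2 : ∑ α ∈ R χ, (b α : ℝ) ^ 2 ≤ r := by linarith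
    have hge2 : r ≤ ∑ α ∈ R χ, (b α : ℝ) ^ 2 := by
      rw [← hsumR]
      exact Finset.sum_le_sum hge
    have heq : ∑ α ∈ R χ, (b α : ℝ) ^ 2 = r := le_antisymm hle2 hge2
    refine ⟨heq, ?_⟩
    have hzero : ∑ α ∈ R χ, ((b α : ℝ) ^ 2 - (b α : ℝ)) = 0 := by
      rw [Finset.sum_sub_distrib, heq, hsumR, sub_self]
    have hz := (Finset.sum_eq_zero_iff_of_nonneg (fun α hα => sub_nonneg.mpr (hge α hα))).mp hzero
    intro α hα
    have h3 := hz α hα
    have h4 : (b α : ℝ) * ((b α : ℝ) - 1) = 0 := by linarith [h3]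
    rw [hb α hα]
    rcases mul_eq_zero.mp h4 with h | h
    · left
      have : b α = 0 := by exact_mod_cast h
      rw [this]; simp
    · right
      have : b α = 1 := by
        have h5 : (b α : ℝ) = 1 := by linarith
        exact_mod_cast h5
      rw [this]; simp

end Cfsg.Agent.S1515
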