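import Cfsg.Statements.S1518
import Cfsg.Agent.Lib.Helper24.DadeGen2
import Cfsg.Agent.Lib.Lead.CharFS
import Cfsg.Agent.Lib.Lead.CharBurnside

set_option autoImplicit false
open Cfsg

namespace Cfsg.Agent.S1518

open Cfsg.Agent.CharLib Cfsg.Agent.Lib.Helper10 Cfsg.Agent.Lib.Helper24.DadeGen
open scoped ComplexConjugate

variable {G : Type*} [Group G]

theorem dade_neg (A : Set G) (L : Subgroup G) (H : G → Subgroup G) (α : L → ℂ) :
    dadeIsometry A L H (-α) = -dadeIsometry A L H α := by
  funext g
  unfold dadeIsometry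
  by_cases h : ∃ a : ↥L, (a : G) ∈ A ∧ ∃ x : G, ∃ u ∈ H (a : G), x * g * x⁻¹ = (a : G) * u
  · simp only [Pi.neg_apply, dif_pos h]
  · simp only [Pi.neg_apply, dif_neg h, neg_zero]

theorem dade_conj (A : Set G) (L : Subgroup G) (H : G → Subgroup G) (α : L → ℂ) :
    dadeIsometry A L H (conjFun α) = conjFun (dadeIsometry A L H α) := by
  funext g
  unfold dadeIsometry conjFun
  by_cases h : ∃ a : ↥L, (a : G) ∈ A ∧ ∃ x : G, ∃ u ∈ H (a : G), x * g * x⁻¹ = (a : G) * u
  · simp only [dif_pos h]
  · simp only [dif_neg h, map_zero]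

theorem dade_zero (A : Set G) (L : Subgroup G) (H : G → Subgroup G) :
    dadeIsometry A L H (0 : L → ℂ) = 0 := by
  funext g
  unfold dadeIsometry
  by_cases h : ∃ a : ↥L, (a : G) ∈ A ∧ ∃ x : G, ∃ u ∈ H (a : G), x * g * x⁻¹ = (a : G) * u
  · simp only [dif_pos h, Pi.zero_apply]
  · simp only [dif_neg h, Pi.zero_apply]

theorem dade_apply_one [Finite G] {A : Set G} {L : Subgroup G} {H : G → Subgroup G}
    (hD : DadeHypothesis A L H) (α : L → ℂ) : dadeIsometry A L H α 1 = 0 := by
  apply dadeIsometry_eq_zero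
  rintro ⟨x, a, u⟩ ⟨ha, hu, heq⟩
  simp only at ha hu heq
  obtain ⟨m, hm, -⟩ := dade_exists_pow hD ha ha
  have h1 : (a : G) * u = 1 := by rw [← heq]; group
  have h2 := hm u hu
  rw [h1, one_pow] at h2
  exact hD.one_not_mem (h2 ▸ ha)

theorem result' [Fintype G] (A : Set G) (L : Subgroup G) [Fintype L] (H : G → Subgroup G)
    (hD : Cfsg.DadeHypothesis A L H) (χ : L → ℂ) (hχ : Cfsg.IsIrrCharacter L χ)
    (hsupp : ∀ x : L, x ≠ 1 → (x : G) ∉ A → χ x = 0) :
    ∃ μ : G → ℂ, Cfsg.IsIrrCharacter G μ ∧
      Cfsg.dadeIsometry A L H (χ - Cfsg.conjFun χ) = μ - Cfsg.conjFun μ := by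
  classical
  have hχc : IsIrrCharacter L (conjFun χ) := IsIrrCharacter.conj' hχ
  by_cases hreal : χ = conjFun χ
  · refine ⟨1, isIrrCharacter_one, ?_⟩
    rw [← hreal, sub_self, dade_zero]
    funext g
    simp [conjFun]
  · set θ : L → ℂ := χ - conjFun χ with hθ
    have hθgen : IsGeneralizedCharacter L θ :=
      ⟨χ, conjFun χ, IsIrrCharacter.isCharacter hχ, IsIrrCharacter.isCharacter hχc, rfl⟩
    have hθcl : IsClassFunction L θ := genChar_isClassFunction hθgen
    have hθA : ∀ x : L, (x : G) ∉ A → θ x = 0 := by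
      intro x hx
      show χ x - conj (χ x) = 0
      by_cases hx1 : x = 1
      · rw [hx1, IsCharacter.conj_apply_one (IsIrrCharacter.isCharacter hχ), sub_self]
      · rw [hsupp x hx1 hx, map_zero, sub_self]
    have hnorm : classInner θ θ = 2 := by
      rw [hθ, classInner_sub_sub_irr hχ hχc hχ hχc, if_pos rfl, if_pos rfl, if_neg hreal,
        if_neg (Ne.symm hreal)]
      norm_num
    have hgen := dade_isGeneralizedCharacter hD θ hθgen hθA
    have hnorm' : classInner (dadeIsometry A L H θ) (dadeIsometry A L H θ) = 2 := by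
      rw [dade_isometry hD θ hθcl hθA θ hθcl, hnorm]
    obtain ⟨μ, ν, hμ, hν, hne, heq⟩ := genChar_norm_two_vanish hgen hnorm' (dade_apply_one hD θ)
    refine ⟨μ, hμ, ?_⟩
    rw [heq]
    -- conjugation
    have hconj : conjFun (μ - ν) = ν - μ := by
      rw [← heq, ← dade_conj]
      have : conjFun θ = -θ := by
        funext x
        show conj (χ x - conj (χ x)) = -(χ x - conj (χ x))
        rw [map_sub, Complex.conj_conj]
        ring
      rw [this, dade_neg, heq]
      ring
    have hμc : IsIrrCharacter G (conjFun μ) := IsIrrCharacter.conj' hμ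
    have hνc : IsIrrCharacter G (conjFun ν) := IsIrrCharacter.conj' hν
    have hsum : conjFun μ + μ = ν + conjFun ν := by
      have h1 : conjFun (μ - ν) = conjFun μ - conjFun ν := by
        funext x
        show conj (μ x - ν x) = conj (μ x) - conj (ν x)
        rw [map_sub]
      rw [h1] at hconj
      have : conjFun μ + μ - (ν + conjFun ν) = 0 := by
        have := congrArg (fun f => f - (ν - μ)) hconj
        simp only [sub_self] at this
        rw [← this]
        ring
      exact sub_eq_zero.mp this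
    -- take the inner product with `ν`
    have hip := congrArg (fun f => classInner f ν) hsum
    simp only [Cfsg.Agent.CharLib.classInner_add_left] at hip
    rw [Cfsg.Agent.CharLib.classInner_irr hμc hν, Cfsg.Agent.CharLib.classInner_irr hμ hν,
      Cfsg.Agent.CharLib.classInner_irr hν hν, Cfsg.Agent.CharLib.classInner_irr hνc hν, if_neg hne,
      if_pos rfl] at hip
    have hμν : conjFun μ = ν := by
      by_contra h
      rw [if_neg h] at hip
      by_cases h2 : conjFun ν = ν
      · rw [if_pos h2] at hip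
        norm_num at hip
      · rw [if_neg h2] at hip
        norm_num at hip
    rw [hμν]

/-- Under the Dade hypothesis for (A, L, H): if χ is an irreducible character of L vanishing at every non-identity element of L outside A, then the Dade image of χ − conj χ equals μ − conj μ for some irreducible character μ of G. -/
theorem result {G : Type*} [Group G] [Fintype G] (A : Set G) (L : Subgroup G) [Fintype L] (H : G → Subgroup G) (hD : Cfsg.DadeHypothesis A L H) (χ : L → ℂ) (hχ : Cfsg.IsIrrCharacter L χ) (hsupp : ∀ x : L, x ≠ 1 → (x : G) ∉ A → χ x = 0) : ∃ μ : G → ℂ, Cfsg.IsIrrCharacter G μ ∧ Cfsg.dadeIsometry A L H (χ - Cfsg.conjFun χ) = μ - Cfsg.conjFun μ := by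
  exact result' A L H hD χ hχ hsupp

end Cfsg.Agent.S1518
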