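import Cfsg.Statements.S1527
import Mathlib
import Cfsg.Agent.Lib.Helper10.TICount

set_option autoImplicit false
open Cfsg

namespace Cfsg.Agent.S1527

open Cfsg.Agent.Lib.Helper10

theorem card_ne_one {α : Type*} [Finite α] (a : α) : Nat.card {b : α // b ≠ a} = Nat.card α - 1 := by
  classical
  have := Nat.card_congr (Equiv.optionSubtypeNe a)
  rw [Finite.card_option] at this
  omega

theorem card_mem_ne_one {G : Type*} [Group G] [Finite G] (H : Subgroup G) :
    Nat.card {h : G // h ∈ H ∧ h ≠ 1} = Nat.card H - 1 := by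
  rw [← card_ne_one (1 : H)]
  apply Nat.card_congr
  refine (Equiv.subtypeSubtypeEquivSubtypeInter (fun h : G => h ∈ H) (fun h => h ≠ 1)).symm.trans ?_
  refine Equiv.subtypeEquivRight ?_
  intro h
  exact not_congr OneMemClass.coe_eq_one

theorem card_T {G : Type*} [Group G] [Finite G] (H : Subgroup G) (hTI : Cfsg.IsTISubset (H : Set G)) :
    Nat.card {g : G // g ≠ 1 ∧ ∃ x : G, x * g * x⁻¹ ∈ H} =
      (Subgroup.normalizer (H : Set G)).index * (Nat.card H - 1) := by
  have h := ti_count H hTI
  rw [card_mem_ne_one, ← Subgroup.card_mul_index (Subgroup.normalizer (H : Set G))] at h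
  have hpos : 0 < Nat.card (Subgroup.normalizer (H : Set G)) := Nat.card_pos
  have : Nat.card (Subgroup.normalizer (H : Set G)) * Nat.card {g : G // g ≠ 1 ∧ ∃ x : G, x * g * x⁻¹ ∈ H}
      = Nat.card (Subgroup.normalizer (H : Set G)) * ((Subgroup.normalizer (H : Set G)).index * (Nat.card H - 1)) := by
    rw [mul_comm, h]; ring
  exact Nat.eq_of_mul_eq_mul_left hpos this

theorem orderOf_conj_eq {G : Type*} [Group G] (x g : G) : orderOf (x * g * x⁻¹) = orderOf g :=
  orderOf_injective (MulAut.conj x).toMonoidHom (MulAut.conj x).injective g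

/-- Let G be a finite group and H i (i in a finite index type) subgroups of pairwise coprime orders, each of whose underlying sets is a TI-subset of G, such that every non-identity element of G is conjugate to an element of some H i. Then Nat.card G − 1 = Σ_i [G : N_G(H i)] · (Nat.card (H i) − 1). -/
theorem result {G : Type*} [Group G] [Finite G] {ι : Type*} [Fintype ι] (H : ι → Subgroup G) (hcop : ∀ i j, i ≠ j → Nat.Coprime (Nat.card (H i)) (Nat.card (H j))) (hTI : ∀ i, Cfsg.IsTISubset (H i : Set G)) (hcover : ∀ g : G, g ≠ 1 → ∃ i, ∃ x : G, x * g * x⁻¹ ∈ H i) : Nat.card G - 1 = ∑ i, (Subgroup.normalizer (H i : Set G)).index * (Nat.card (H i) - 1) := by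
  classical
  rw [← card_ne_one (1 : G)]
  have hsum : ∑ i, (Subgroup.normalizer (H i : Set G)).index * (Nat.card (H i) - 1)
      = ∑ i, Nat.card {g : G // g ≠ 1 ∧ ∃ x : G, x * g * x⁻¹ ∈ H i} :=
    Finset.sum_congr rfl (fun i _ => (card_T (H i) (hTI i)).symm)
  rw [hsum, ← Nat.card_sigma]
  apply Nat.card_congr
  symm
  refine Equiv.ofBijective (fun p => ⟨p.2.1, p.2.2.1⟩) ⟨?_, ?_⟩
  · rintro ⟨i, g, hg1, x, hx⟩ ⟨j, g', hg'1, y, hy⟩ h
    have hgg : g = g' := congrArg Subtype.val h
    subst hgg
    have hij : i = j := by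
      by_contra hne
      have h1 : orderOf g ∣ Nat.card (H i) := by
        have := Subgroup.orderOf_dvd_natCard _ hx
        rwa [orderOf_conj_eq] at this
      have h2 : orderOf g ∣ Nat.card (H j) := by
        have := Subgroup.orderOf_dvd_natCard _ hy
        rwa [orderOf_conj_eq] at this
      have := Nat.eq_one_of_dvd_coprimes (hcop i j hne) h1 h2
      exact hg1 (orderOf_eq_one_iff.mp this)
    subst hij
    rfl
  · rintro ⟨g, hg⟩
    obtain ⟨i, x, hx⟩ := hcover g hg
    exact ⟨⟨i, g, hg, x, hx⟩, rfl⟩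

end Cfsg.Agent.S1527
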