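import Cfsg.Statements.S1533
import Cfsg.Agent.S1524
import Cfsg.Agent.Lib.Helper23.SibAb3
import Cfsg.Agent.Lib.Helper23.SibNonab

set_option autoImplicit false
open Cfsg

namespace Cfsg.Agent.S1533



/-- Let G be a finite group, p an odd prime, and P a nontrivial Sylow p-subgroup whose underlying set is a TI-subset of G, with P properly contained in its set normaliser N and C_G(x) ≤ P for every non-identity x ∈ P. Let S be the set of irreducible characters χ of N with χ x ≠ χ 1 for some x ∈ P. Then either S has exactly one member, P is elementary abelian and Nat.card P = [N:P] + 1; or (S, N minus 1, induction to G) is coherent. -/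
theorem result {G : Type*} [Group G] [Fintype G] (p : ℕ) [Fact p.Prime] (hp : p ≠ 2) (P : Sylow p G) (hP1 : (P : Subgroup G) ≠ ⊥) (hTI : Cfsg.IsTISubset ((P : Subgroup G) : Set G)) (hlt : (P : Subgroup G) < Subgroup.normalizer ((P : Subgroup G) : Set G)) (hC : ∀ k ∈ (P : Subgroup G), k ≠ 1 → Subgroup.centralizer ({k} : Set G) ≤ (P : Subgroup G)) [Fintype ↥(Subgroup.normalizer ((P : Subgroup G) : Set G))] : (Nat.card {χ : ↥(Subgroup.normalizer ((P : Subgroup G) : Set G)) → ℂ // Cfsg.IsIrrCharacter ↥(Subgroup.normalizer ((P : Subgroup G) : Set G)) χ ∧ ∃ x : ↥(Subgroup.normalizer ((P : Subgroup G) : Set G)), (x : G) ∈ (P : Subgroup G) ∧ χ x ≠ χ 1} = 1 ∧ Cfsg.IsElementaryAbelian p (P : Subgroup G) ∧ Nat.card (P : Subgroup G) = ((P : Subgroup G).subgroupOf (Subgroup.normalizer ((P : Subgroup G) : Set G))).index + 1) ∨ Cfsg.IsCoherent {χ : ↥(Subgroup.normalizer ((P : Subgroup G) : Set G)) → ℂ | Cfsg.IsIrrCharacter ↥(Subgroup.normalizer ((P : Subgroup G) : Set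 G)) χ ∧ ∃ x : ↥(Subgroup.normalizer ((P : Subgroup G) : Set G)), (x : G) ∈ (P : Subgroup G) ∧ χ x ≠ χ 1} {1}ᶜ (fun α => Cfsg.indFun (Subgroup.normalizer ((P : Subgroup G) : Set G)) α) := by
  by_cases hab : ∀ a ∈ (P : Subgroup G), ∀ b ∈ (P : Subgroup G), a * b = b * a
  · exact Cfsg.Agent.Lib.Helper23.SibAb.sibley_of_comm (P : Subgroup G) p P.isPGroup' hP1 hTI hC hab
  · right
    obtain ⟨hnil, W₁, hW₁L, hW1, hinf, hsup, hfpf⟩ :=
      Cfsg.Agent.Lib.Helper23.SibAb.frob_data (P : Subgroup G) hlt hC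
    have hodd := Cfsg.Agent.Lib.Helper23.SibAb.odd_card_normalizer_of_noncomm (P : Subgroup G)
      (Cfsg.Agent.Lib.Helper23.SibAb.odd_card_of_isPGroup (P : Subgroup G) p hp P.isPGroup') hC hab
    rw [Cfsg.Agent.Lib.Helper23.SibAb.relevant_eq_inducedIrrAbove (P : Subgroup G) hC]
    exact Cfsg.Agent.S1524.result (P : Subgroup G) (Subgroup.normalizer ((P : Subgroup G) : Set G)) W₁
      hodd hlt.le hW₁L hP1 hW1 hnil
      (Cfsg.Agent.Lib.Helper23.SibAb.normalizer_conj_mem (P : Subgroup G)) hinf hsup hfpf hTI rfl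

end Cfsg.Agent.S1533
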