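import Cfsg.Statements.S1534
import Cfsg.Agent.S1524
import Cfsg.Agent.Lib.Helper23.SibNil

set_option autoImplicit false
open Cfsg

namespace Cfsg.Agent.S1534



/-- Let G be a finite group and K a nontrivial nilpotent subgroup whose underlying set is a TI-subset of G, properly contained in its set normaliser N, with C_G(k) ≤ K for every non-identity k ∈ K; let e be the index of K in N and S the set of irreducible characters χ of N with χ k ≠ χ 1 for some k ∈ K. Then one of: S has exactly one member, Nat.card K = e + 1 and K is an elementary abelian p-group for some prime p; or K is a Sylow 2-subgroup of G (Nat.card K is the largest power of 2 dividing Nat.card G) and [K : [K,K]] < 4e²; or (S, N minus 1, induction to G) is coherent. -/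
theorem result {G : Type*} [Group G] [Fintype G] (K : Subgroup G) (hK1 : K ≠ ⊥) (hnil : Group.IsNilpotent K) (hTI : Cfsg.IsTISubset (K : Set G)) (hlt : K < Subgroup.normalizer (K : Set G)) (hC : ∀ k ∈ K, k ≠ 1 → Subgroup.centralizer ({k} : Set G) ≤ K) [Fintype ↥(Subgroup.normalizer (K : Set G))] : (Nat.card {χ : ↥(Subgroup.normalizer (K : Set G)) → ℂ // Cfsg.IsIrrCharacter ↥(Subgroup.normalizer (K : Set G)) χ ∧ ∃ k : ↥(Subgroup.normalizer (K : Set G)), (k : G) ∈ K ∧ χ k ≠ χ 1} = 1 ∧ Nat.card K = (K.subgroupOf (Subgroup.normalizer (K : Set G))).index + 1 ∧ ∃ p : ℕ, p.Prime ∧ Cfsg.IsElementaryAbelian p K) ∨ (Nat.card K = 2 ^ (Nat.card G).factorization 2 ∧ (⁅K, K⁆.subgroupOf K).index < 4 * (K.subgroupOf (Subgroup.normalizer (K : Set G))).index ^ 2) ∨ Cfsg.IsCoherent {χ : ↥(Subgroup.normalizer (K : Set G)) → ℂ | Cfsg.IsIrrCharacter ↥(Subgroup.normalizer (K : Set G)) χ ∧ ∃ k : ↥(Subgroup.normalizer (K : Set G)), (k : G) ∈ K ∧ χ k ≠ χ 1} {1}ᶜ (fun α => Cfsg.indFun (Subgroup.normalizer (K : Set G)) α)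 := by
  by_cases hab : ∀ a ∈ K, ∀ b ∈ K, a * b = b * a
  · rcases Cfsg.Agent.Lib.Helper23.SibAb.sibley_of_comm' K hK1 hTI hC hab with h | h
    · exact Or.inl h
    · exact Or.inr (Or.inr h)
  · rcases Cfsg.Agent.Lib.Helper23.SibAb.sibley_of_noncomm K hK1 hnil hTI hlt hC hab with
      h | ⟨⟨p, hp, hpg⟩, hle⟩
    · right; right
      rw [Cfsg.Agent.Lib.Helper23.SibAb.relevant_eq_inducedIrrAbove K hC]
      exact h
    · have hcop := Cfsg.Agent.Lib.Helper2.tifrob_coprime K hC
      by_cases hp2 : p = 2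
      · subst hp2
        right; left
        have : Fact (Nat.Prime 2) := ⟨Nat.prime_two⟩
        have h2K : 2 ∣ Nat.card K := by
          rcases hpg.card_eq_or_dvd with h | h
          · exact absurd (Subgroup.card_eq_one.mp h) hK1
          · exact h
        have hodd : Odd (K.subgroupOf (Subgroup.normalizer (K : Set G))).index := by
          rw [← Nat.coprime_two_left]
          exact Nat.Coprime.coprime_dvd_left h2K hcop
        refine ⟨Cfsg.Agent.Lib.Helper23.SibAb.card_eq_two_pow_factorization K hpg hodd, ?_⟩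
        obtain ⟨n, hn⟩ := IsPGroup.exists_card_eq hpg
        have hdvd : ((⁅K, K⁆).subgroupOf K).index ∣ 2 ^ n := by
          rw [← hn]
          exact Subgroup.index_dvd_card _
        obtain ⟨j, -, hj⟩ := (Nat.dvd_prime_pow Nat.prime_two).mp hdvd
        rw [hj] at hle ⊢
        apply Cfsg.Agent.Lib.Helper23.SibAb.two_pow_lt hodd _ hle
        intro h1
        rw [Subgroup.index_eq_one, Subgroup.subgroupOf_eq_top] at h1
        exact (not_le_of_gt hlt) h1
      · right; right
        have : Fact p.Prime := ⟨hp⟩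
        obtain ⟨-, W₁, hW₁L, hW1, hinf, hsup, hfpf⟩ :=
          Cfsg.Agent.Lib.Helper23.SibAb.frob_data K hlt hC
        have hodd := Cfsg.Agent.Lib.Helper23.SibAb.odd_card_normalizer_of_noncomm K
          (Cfsg.Agent.Lib.Helper23.SibAb.odd_card_of_isPGroup K p hp2 hpg) hC hab
        rw [Cfsg.Agent.Lib.Helper23.SibAb.relevant_eq_inducedIrrAbove K hC]
        exact Cfsg.Agent.S1524.result K (Subgroup.normalizer (K : Set G)) W₁
          hodd hlt.le hW₁L hK1 hW1 hnil
          (Cfsg.Agent.Lib.Helper23.SibAb.normalizer_conj_mem K) hinf hsup hfpf hTI rfl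

end Cfsg.Agent.S1534
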