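import Cfsg.Statements.S1536
import Cfsg.Agent.Lib.Helper10.StableClass
import Cfsg.Agent.Lib.Lead.CharMore
import Cfsg.Agent.Lib.Lead.CharBurnside

set_option autoImplicit false
open Cfsg

namespace Cfsg.Agent.S1536

/-- Let H be a normal subgroup of the finite group M whose order is coprime to its index. For x ∈ M: some non-principal irreducible character of H is unchanged under h ↦ θ(x h x⁻¹) if and only if some non-identity element of H commutes with x. -/
theorem result {M : Type*} [Group M] [Finite M] (H : Subgroup M) [hN : H.Normal] (hHall : Nat.Coprime (Nat.card H) H.index) (x : M) : (∃ θ : H → ℂ, Cfsg.IsIrrCharacter H θ ∧ θ ≠ (fun _ => 1) ∧ (fun h : H => θ ⟨x * h * x⁻¹, hN.conj_mem h h.2 x⟩) = θ) ↔ ∃ h ∈ H, h ≠ 1 ∧ x * h = h * x := by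
  classical
  set α : H ≃* H := (MulAut.conjNormal x : MulAut H) with hα
  have hαapp : ∀ h : H, α h = ⟨x * h * x⁻¹, hN.conj_mem h h.2 x⟩ := fun h =>
    Subtype.ext (by simp [hα, MulAut.conjNormal_apply])
  have hcomp : ∀ θ : H → ℂ, (fun h : H => θ ⟨x * h * x⁻¹, hN.conj_mem h h.2 x⟩) = θ ∘ α := by
    intro θ
    funext h
    simp only [Function.comp_apply, hαapp]
  have hbrauer := Cfsg.Agent.CharLib.card_fixed_classes_eq_card_fixed_irr α
  have h1irr : IsIrrCharacter H (1 : H → ℂ) := Cfsg.Agent.CharLib.isIrrCharacter_one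
  let p₀ : {χ : IrrCharacter H // (χ : H → ℂ) ∘ α = (χ : H → ℂ)} := ⟨⟨1, h1irr⟩, by funext h; rfl⟩
  let c₀ : {C : ConjClasses H // ConjClasses.map α.toMonoidHom C = C} :=
    ⟨ConjClasses.mk 1, by
      show ConjClasses.mk (α 1) = ConjClasses.mk 1
      rw [map_one]⟩
  have hA : (∃ θ : H → ℂ, IsIrrCharacter H θ ∧ θ ≠ (fun _ => 1) ∧
      (fun h : H => θ ⟨x * h * x⁻¹, hN.conj_mem h h.2 x⟩) = θ) ↔ ∃ y, y ≠ p₀ := by
    constructor
    · rintro ⟨θ, hθ, hne, hfix⟩
      refine ⟨⟨⟨θ, hθ⟩, by rw [← hcomp]; exact hfix⟩, ?_⟩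
      intro h
      apply hne
      have := congrArg (fun y : {χ : IrrCharacter H // (χ : H → ℂ) ∘ α = (χ : H → ℂ)} =>
        (y.1 : H → ℂ)) h
      exact this
    · rintro ⟨⟨⟨θ, hθ⟩, hfix⟩, hne⟩
      refine ⟨θ, hθ, ?_, by rw [hcomp]; exact hfix⟩
      intro h
      apply hne
      apply Subtype.ext
      apply Subtype.ext
      exact h
  have hB : (∃ y, y ≠ c₀) ↔ ∃ h ∈ H, h ≠ 1 ∧ x * h = h * x := by
    constructor
    · rintro ⟨⟨C, hC⟩, hne⟩
      obtain ⟨k, rfl⟩ := ConjClasses.mk_surjective C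
      have hk1 : k ≠ 1 := by
        rintro rfl
        exact hne rfl
      obtain ⟨f, hf1, hf0⟩ := Nat.chineseRemainder hHall 1 0
      have hxf : x ^ f ∈ H := by
        obtain ⟨f', rfl⟩ := (Nat.modEq_zero_iff_dvd).mp hf0
        rw [pow_mul]
        exact H.pow_mem (Subgroup.pow_index_mem H x) f'
      by_cases hz : x ^ f = 1
      · have hfcop : Nat.Coprime f (Nat.card H) := by
          have := hf1.gcd_eq
          rw [Nat.coprime_iff_gcd_eq_one, this]
          simp
        have hxcop : Nat.Coprime (orderOf x) (Nat.card H) :=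
          Nat.Coprime.coprime_dvd_left (orderOf_dvd_of_pow_eq_one hz) hfcop
        obtain ⟨k', hk', hcomm⟩ := Cfsg.Agent.Lib.Helper10.exists_commute_of_stable_class H x hxcop k hC
        refine ⟨(k' : M), k'.2, ?_, hcomm⟩
        intro h
        have hk'1 : k' = 1 := Subtype.ext h
        rw [hk'1, eq_comm, ConjClasses.mk_eq_mk_iff_isConj, isConj_one_left] at hk'
        exact hk1 hk'
      · exact ⟨x ^ f, hxf, hz, (pow_mul_comm' x f).symm⟩
    · rintro ⟨h, hh, hh1, hcomm⟩
      refine ⟨⟨ConjClasses.mk ⟨h, hh⟩, ?_⟩, ?_⟩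
      · show ConjClasses.mk (α ⟨h, hh⟩) = ConjClasses.mk ⟨h, hh⟩
        congr 1
        rw [hαapp]
        apply Subtype.ext
        show x * h * x⁻¹ = h
        rw [hcomm]
        group
      · intro heq
        have h2 := congrArg Subtype.val heq
        change ConjClasses.mk (⟨h, hh⟩ : H) = ConjClasses.mk 1 at h2
        rw [ConjClasses.mk_eq_mk_iff_isConj, isConj_one_left] at h2
        exact hh1 (congrArg Subtype.val h2)
  rw [hA, ← nontrivial_iff_exists_ne p₀, ← Finite.one_lt_card_iff_nontrivial, ← hbrauer,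
    Finite.one_lt_card_iff_nontrivial, nontrivial_iff_exists_ne c₀, hB]

end Cfsg.Agent.S1536
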