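import Cfsg.Statements.S1542
import Cfsg.Agent.Lib.Helper9.PF122A
import Cfsg.Agent.Lib.Helper9.FittingHall
import Cfsg.Agent.Lib.Helper23.FeitF
import Cfsg.Agent.Lib.Helper18.FrobComp
import Cfsg.Agent.Lib.Helper24.BGTyY
import Cfsg.Agent.Lib.Helper8.TIFrobSetup
import Cfsg.Agent.S1537
import Cfsg.Agent.S1500
import Cfsg.Agent.S1501
import Cfsg.Agent.S1524

set_option autoImplicit false
open Cfsg

namespace Cfsg.Agent.S1542

/-- Let G be a minimal simple group of odd order and L a maximal subgroup of Type I in which every non-identity element of H = L_F has its centraliser within L inside H. Let S be the set of functions on L induced from non-principal irreducible characters of H. Then every member of S is an irreducible character of L, and (S, L minus 1, τ) is coherent for τ the Dade map relative to A(L), L and a ↦ R(a). -/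
theorem result {G : Type*} [Group G] [Fintype G] (hG : Cfsg.IsMinSimpleOddOrder G) (L : Subgroup G) [Fintype L] (hL : IsCoatom L) (hI : Cfsg.IsOfTypeI L) (hfrob : ∀ x ∈ Cfsg.fittingHallOf L, x ≠ 1 → L ⊓ Subgroup.centralizer ({x} : Set G) ≤ Cfsg.fittingHallOf L) : (∀ χ ∈ Cfsg.inducedIrrAbove (Cfsg.fittingHall L) ⊥, Cfsg.IsIrrCharacter L χ) ∧ Cfsg.IsCoherent (Cfsg.inducedIrrAbove (Cfsg.fittingHall L) ⊥) {1}ᶜ (Cfsg.dadeIsometry (Cfsg.typeA L) L (Cfsg.supportR L)) := by
  classical
  obtain ⟨hsolv, hodd, hHbot, hHtop, U, hUbot, hcompl, -, -⟩ := hI.1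
  have hHdef : Cfsg.fittingHallOf L = (Cfsg.fittingHall ↥L).map L.subtype := rfl
  have hinf : Cfsg.fittingHall ↥L ⊓ U = ⊥ := hcompl.disjoint.eq_bot
  have hsup : Cfsg.fittingHall ↥L ⊔ U = ⊤ := hcompl.sup_eq_top
  have hfpf : ∀ w ∈ U, w ≠ 1 → ∀ k ∈ Cfsg.fittingHall ↥L, w * k = k * w → k = 1 := by
    intro w hw hw1 k hk hwk
    by_contra hk1
    have hkG : (k : G) ∈ Cfsg.fittingHallOf L := ⟨k, hk, rfl⟩
    have hkG1 : (k : G) ≠ 1 := fun h => hk1 (Subtype.ext h)
    have hwk' : (w : G) * (k : G) = (k : G) * (w : G) := by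
      have := congrArg Subtype.val hwk
      simpa using this
    have hmem := hfrob (k : G) hkG hkG1
      (⟨w.2, Subgroup.mem_centralizer_singleton_iff.mpr hwk'⟩ :
        (w : G) ∈ L ⊓ Subgroup.centralizer ({(k : G)} : Set G))
    obtain ⟨w', hw', hww'⟩ := hmem
    have hweq : w' = w := Subtype.ext hww'
    subst hweq
    have hbot : w' ∈ Cfsg.fittingHall ↥L ⊓ U := ⟨hw', hw⟩
    rw [hinf] at hbot
    exact hw1 (Subgroup.mem_bot.mp hbot)
  have hnil : Group.IsNilpotent (Cfsg.fittingHall ↥L) :=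
    Cfsg.Agent.Lib.Helper9.fittingHall_isNilpotent ↥L
  have hrel := Cfsg.Agent.Lib.Helper23.Feit.relevant_eq (Cfsg.fittingHall ↥L) U hinf hsup hfpf
  have hirr : ∀ χ ∈ Cfsg.inducedIrrAbove (Cfsg.fittingHall ↥L) ⊥, Cfsg.IsIrrCharacter L χ := by
    intro χ hχ
    rw [← hrel] at hχ
    exact hχ.1
  refine ⟨hirr, ?_⟩
  -- parity
  have he : Nat.card (Cfsg.fittingHall ↥L) ≠ (Cfsg.fittingHall ↥L).index + 1 := by
    intro h
    have h1 : Nat.card (Cfsg.fittingHall ↥L) * (Cfsg.fittingHall ↥L).index = Nat.card L :=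
      (Cfsg.fittingHall ↥L).card_mul_index
    rw [← h1, h] at hodd
    obtain ⟨h3, h4⟩ := Nat.odd_mul.mp hodd
    rw [Nat.odd_add_one] at h3
    exact h3 h4
  -- the Dade hypothesis
  have hD : Cfsg.DadeHypothesis (Cfsg.typeA L) L (Cfsg.supportR L) :=
    (Cfsg.Agent.S1537.result hG L hL _ (Or.inr (Or.inl rfl))).2
  -- the members of `S` are characters vanishing off `H`
  have hchar : ∀ χ ∈ Cfsg.inducedIrrAbove (Cfsg.fittingHall ↥L) ⊥, Cfsg.IsCharacter L χ :=
    fun χ hχ => Cfsg.Agent.CharLib.IsIrrCharacter.isCharacter (hirr χ hχ)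
  have hvanS : ∀ χ ∈ Cfsg.inducedIrrAbove (Cfsg.fittingHall ↥L) ⊥, ∀ x : L,
      x ∉ Cfsg.fittingHall ↥L → χ x = 0 := by
    rintro χ ⟨θ, -, -, -, rfl⟩ x hx
    apply Cfsg.Agent.CharLib.indFun_apply_of_forall_not_mem
    intro y hy
    apply hx
    have := (inferInstance : (Cfsg.fittingHall ↥L).Normal).conj_mem _ hy y
    simpa [mul_assoc] using this
  have hgen : ∀ α ∈ Cfsg.zspan (Cfsg.inducedIrrAbove (Cfsg.fittingHall ↥L) ⊥),
      Cfsg.IsGeneralizedCharacter L α := by
    intro α hα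
    exact Cfsg.Agent.Lib.Helper8.TIFrobSetup.zspan_induction
      (P := fun α => Cfsg.IsGeneralizedCharacter _ α)
      (fun ξ hξ => Cfsg.Agent.Lib.Helper8.TIFrobSetup.genChar_of_char (hchar ξ hξ))
      Cfsg.Agent.Lib.Helper10.genChar_zero
      (fun a b ha hb => Cfsg.Agent.Lib.Helper10.genChar_add ha hb)
      (fun n a ha => Cfsg.Agent.Lib.Helper10.genChar_zsmul ha n) hα
  have hvan' : ∀ α ∈ Cfsg.zspan (Cfsg.inducedIrrAbove (Cfsg.fittingHall ↥L) ⊥), ∀ x : L,
      x ∉ Cfsg.fittingHall ↥L → α x = 0 := by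
    intro α hα
    refine Cfsg.Agent.Lib.Helper8.TIFrobSetup.zspan_induction
      (P := fun α => ∀ x : L, x ∉ Cfsg.fittingHall ↥L → α x = 0) hvanS (fun _ _ => rfl) ?_ ?_ hα
    · intro a b ha hb x hx
      rw [Pi.add_apply, ha x hx, hb x hx, add_zero]
    · intro n a ha x hx
      rw [Pi.smul_apply, ha x hx, smul_zero]
  have hone : ∀ α ∈ Cfsg.zspanOn (Cfsg.inducedIrrAbove (Cfsg.fittingHall ↥L) ⊥)
      ({1}ᶜ : Set L), α 1 = 0 := by
    intro α hα
    exact hα.2 1 (by simp)
  -- `H` minus the identity lies in `A(L)`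
  have hHA : ∀ x : L, x ∈ Cfsg.fittingHall ↥L → x ≠ 1 → (x : G) ∈ Cfsg.typeA L := by
    intro x hx hx1
    unfold Cfsg.typeA
    rw [if_pos hI]
    have hx1' : (x : G) ≠ 1 := fun h => hx1 (Subtype.ext h)
    exact ⟨x.2, hx1', (x : G), ⟨x, hx, rfl⟩, hx1', rfl⟩
  have hvanA : ∀ α ∈ Cfsg.zspanOn (Cfsg.inducedIrrAbove (Cfsg.fittingHall ↥L) ⊥)
      ({1}ᶜ : Set L), ∀ x : L, (x : G) ∉ Cfsg.typeA L → α x = 0 := by
    intro α hα x hx
    by_cases hxH : x ∈ Cfsg.fittingHall ↥L
    · by_cases hx1 : x = 1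
      · rw [hx1]
        exact hone α hα
      · exact absurd (hHA x hxH hx1) hx
    · exact hvan' α hα.1 x hxH
  have hτ : Cfsg.IsLinearIsometryOn
      (Cfsg.zspanOn (Cfsg.inducedIrrAbove (Cfsg.fittingHall ↥L) ⊥) ({1}ᶜ : Set L))
      (Cfsg.dadeIsometry (Cfsg.typeA L) L (Cfsg.supportR L)) := by
    refine ⟨?_, ?_, ?_, ?_⟩
    · intro α _ β _
      funext g
      simp only [Cfsg.dadeIsometry, Pi.add_apply]
      split_ifs <;> simp
    · intro α _ n
      funext g
      simp only [Cfsg.dadeIsometry, Pi.smul_apply]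
      split_ifs <;> simp
    · intro α hα β hβ
      exact (Cfsg.Agent.S1500.result _ L _ hD α
        (Cfsg.Agent.Lib.Helper10.genChar_isClassFunction (hgen α hα.1)) (hvanA α hα)).1 β
        (Cfsg.Agent.Lib.Helper10.genChar_isClassFunction (hgen β hβ.1)) (hvanA β hβ)
    · intro α hα
      exact Cfsg.Agent.S1501.result _ L _ hD α (hgen α hα.1) (hvanA α hα)
  have hτ1 : ∀ α ∈ Cfsg.zspanOn (Cfsg.inducedIrrAbove (Cfsg.fittingHall ↥L) ⊥) ({1}ᶜ : Set L),
      Cfsg.dadeIsometry (Cfsg.typeA L) L (Cfsg.supportR L) α 1 = 0 := by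
    intro α _
    apply Cfsg.Agent.Lib.Helper10.dadeIsometry_eq_zero
    rintro ⟨x, a, u⟩ ⟨haA, hu, heq⟩
    simp only at haA hu heq
    have h1 : (a : G) * u = 1 := by
      rw [← heq]
      group
    have hu' : u = (a : G)⁻¹ := eq_inv_of_mul_eq_one_right h1
    rw [hu'] at hu
    have hmem : (a : G)⁻¹ ∈ Cfsg.supportR L (a : G) ⊓
        (L ⊓ Subgroup.centralizer ({(a : G)} : Set G)) :=
      ⟨hu, L.inv_mem a.2, Subgroup.inv_mem _ (Subgroup.mem_centralizer_singleton_iff.mpr rfl)⟩
    rw [hD.inf_eq_bot _ haA, Subgroup.mem_bot, inv_eq_one] at hmem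
    exact hD.one_not_mem (hmem ▸ haA)
  rcases Cfsg.Agent.Lib.Helper23.Feit.feit_induced (Cfsg.fittingHall ↥L) U hHbot hnil hinf hsup
    hfpf he _ hτ hτ1 with h | ⟨⟨p, hp, hpg⟩, hne, hle⟩
  · exact h
  · haveI : Fact p.Prime := ⟨hp⟩
    rcases hI.2 with hTI | hab | hexp
    · -- `H` is a T.I. subgroup: Sibley's theorem (S1524), and the Dade map is induction
      have hHL : Cfsg.fittingHallOf L ≤ L := by
        rw [hHdef]
        exact Subgroup.map_subtype_le _
      have hHG1 : Cfsg.fittingHallOf L ≠ ⊥ := by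
        rw [hHdef]
        exact fun h => hHbot ((Subgroup.map_eq_bot_iff_of_injective _ L.subtype_injective).mp h)
      have hUL : U.map L.subtype ≤ L := Subgroup.map_subtype_le _
      have hUG1 : U.map L.subtype ≠ ⊥ :=
        fun h => hUbot ((Subgroup.map_eq_bot_iff_of_injective _ L.subtype_injective).mp h)
      have hnilG : Group.IsNilpotent (Cfsg.fittingHallOf L) :=
        (Group.isNilpotent_congr
          ((Cfsg.fittingHall ↥L).equivMapOfInjective L.subtype L.subtype_injective)).mp hnil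
      have hHn : ∀ x ∈ L, ∀ h ∈ Cfsg.fittingHallOf L, x * h * x⁻¹ ∈ Cfsg.fittingHallOf L := by
        rintro x hx _ ⟨h, hh, rfl⟩
        exact ⟨⟨x, hx⟩ * h * ⟨x, hx⟩⁻¹,
          (inferInstance : (Cfsg.fittingHall ↥L).Normal).conj_mem h hh ⟨x, hx⟩, by simp⟩
      have hinfG : Cfsg.fittingHallOf L ⊓ U.map L.subtype = ⊥ := by
        rw [hHdef, ← Subgroup.map_inf _ _ _ L.subtype_injective, hinf, Subgroup.map_bot]
      have hsupG : Cfsg.fittingHallOf L ⊔ U.map L.subtype = L := by
        rw [hHdef, ← Subgroup.map_sup, hsup, ← MonoidHom.range_eq_map, Subgroup.range_subtype]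
      have hfpfG : ∀ w ∈ U.map L.subtype, w ≠ 1 → ∀ h ∈ Cfsg.fittingHallOf L,
          w * h = h * w → h = 1 := by
        rintro _ ⟨w, hw, rfl⟩ hw1 _ ⟨h, hh, rfl⟩ hwh
        have hw1' : w ≠ 1 := fun h0 => hw1 (by rw [h0]; rfl)
        have h1 : h = 1 := hfpf w hw hw1' h hh (Subtype.ext (by simpa using hwh))
        rw [h1]
        rfl
      have hN : Subgroup.normalizer (Cfsg.fittingHallOf L : Set G) = L := by
        apply Cfsg.Agent.Lib.Helper24.BGTyY.normalizer_eq_of_invariant hG hL hHL hHn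
        obtain ⟨a, ha⟩ := Subgroup.ne_bot_iff_exists_ne_one.mp hHG1
        exact ⟨a, a.2, fun h => ha (Subtype.ext h)⟩
      have hcoh := Cfsg.Agent.S1524.result (Cfsg.fittingHallOf L) L (U.map L.subtype) hodd hHL hUL
        hHG1 hUG1 hnilG hHn hinfG hsupG hfpfG hTI hN
      have hsub : (Cfsg.fittingHallOf L).subgroupOf L = Cfsg.fittingHall ↥L := by
        rw [hHdef]
        exact Subgroup.comap_map_eq_self_of_injective L.subtype_injective _
      rw [hsub] at hcoh
      obtain ⟨hex, τ₁, hτ₁, hagree⟩ := hcoh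
      refine ⟨hex, τ₁, hτ₁, ?_⟩
      intro α hα
      rw [hagree α hα]
      show Cfsg.indFun L α = _
      apply Cfsg.Agent.Lib.Helper9.PF122.indFun_eq_dadeIsometry_of_TI (Cfsg.typeA L) L
        (Cfsg.supportR L) (Cfsg.fittingHallOf L) hD
      · intro g hg s hs hgs
        rw [← hN] at hg
        exact hTI g hg s hs hgs
      · rintro _ ⟨s, hs, rfl⟩ hs1
        exact hHA s hs (fun h => hs1 (by rw [h]; rfl))
      · intro s hs hs1
        have hC := Cfsg.Agent.Lib.Helper8.TIFrobSetup.centralizer_le_of_ti (Cfsg.fittingHallOf L) L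
          hTI hN hfrob s hs hs1
        unfold Cfsg.supportR
        rw [dif_neg]
        rintro ⟨h1, -⟩
        exact h1 (hC.trans hHL)
      · exact Cfsg.Agent.Lib.Helper10.genChar_isClassFunction (hgen α hα.1)
      · intro x hx
        apply hvan' α hα.1
        intro hxH
        exact hx ⟨x, hxH, rfl⟩
      · exact hone α hα
    · -- `H` abelian: impossible
      exfalso
      apply hne
      rw [Subgroup.commutator_eq_bot_iff_le_centralizer]
      intro h hh
      rw [Subgroup.mem_centralizer_iff]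
      intro k hk
      haveI := hab.1
      have h1 := mul_comm' (⟨(k : G), ⟨k, hk, rfl⟩⟩ : Cfsg.fittingHallOf L)
        ⟨(h : G), ⟨h, hh, rfl⟩⟩
      apply Subtype.ext
      have h2 := congrArg Subtype.val h1
      simpa using h2
    · -- the exponent of `L / H` divides `p - 1`: impossible by arithmetic
      exfalso
      obtain ⟨hexp1, -⟩ := hexp
      have hcardH : Nat.card (Cfsg.fittingHallOf L) = Nat.card (Cfsg.fittingHall ↥L) := by
        rw [hHdef]
        exact Subgroup.card_map_of_injective L.subtype_injective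
      obtain ⟨n, hn⟩ := hpg.exists_card_eq
      have hn0 : n ≠ 0 := by
        rintro rfl
        rw [pow_zero] at hn
        exact hHbot (Subgroup.card_eq_one.mp hn)
      have hpdvd : p ∣ Nat.card (Cfsg.fittingHallOf L) := by
        rw [hcardH, hn]
        exact dvd_pow_self p hn0
      have hexpd := hexp1 p hp hpdvd
      have hp2 : p ≠ 2 := by
        rintro rfl
        have h2 : 2 ∣ Nat.card L := by
          rw [← (Cfsg.fittingHall ↥L).card_mul_index, hn]
          exact Dvd.dvd.mul_right (dvd_pow_self 2 hn0) _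
        exact (Nat.not_even_iff_odd.mpr hodd) (even_iff_two_dvd.mpr h2)
      have hUexp : ∀ u : U, u ^ (p - 1) = 1 := by
        intro u
        obtain ⟨k, hk⟩ := hexpd
        have h1 : ((u : L) : L ⧸ Cfsg.fittingHall ↥L) ^ (p - 1) = 1 := by
          rw [hk, pow_mul, Monoid.pow_exponent_eq_one, one_pow]
        have h2 : ((u : L) ^ (p - 1)) ∈ Cfsg.fittingHall ↥L := by
          rw [← QuotientGroup.eq_one_iff, QuotientGroup.mk_pow]
          exact h1
        have h3 : ((u : L) ^ (p - 1)) ∈ Cfsg.fittingHall ↥L ⊓ U := ⟨h2, U.pow_mem u.2 _⟩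
        rw [hinf, Subgroup.mem_bot] at h3
        exact Subtype.ext (by simpa using h3)
      have hfpfU : ∀ h ∈ U, h ≠ 1 →
          Cfsg.fittingHall ↥L ⊓ Subgroup.centralizer {h} = ⊥ := by
        intro h hh hh1
        rw [eq_bot_iff]
        rintro k ⟨hk, hkc⟩
        rw [Subgroup.mem_bot]
        exact hfpf h hh hh1 k hk (Subgroup.mem_centralizer_singleton_iff.mp hkc).symm
      have hUodd : Odd (Nat.card U) :=
        Odd.of_dvd_nat hodd U.card_subgroup_dvd_card
      have hcyc : ∀ (q : ℕ) [Fact q.Prime] (P : Sylow q U), IsCyclic (P : Subgroup U) := by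
        intro q hq P
        by_cases hq2 : q = 2
        · subst hq2
          have hPcard : Nat.card (P : Subgroup U) = 1 := by
            obtain ⟨m, hm⟩ := P.isPGroup'.exists_card_eq
            have hdvd : Nat.card (P : Subgroup U) ∣ Nat.card U :=
              (P : Subgroup U).card_subgroup_dvd_card
            cases m with
            | zero => simpa using hm
            | succ m =>
              exfalso
              have h2 : 2 ∣ Nat.card U := by
                refine Dvd.dvd.trans ?_ hdvd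
                rw [hm]
                exact dvd_pow_self 2 (Nat.succ_ne_zero m)
              exact (Nat.not_even_iff_odd.mpr hUodd) (even_iff_two_dvd.mpr h2)
          haveI : Subsingleton (P : Subgroup U) := (Nat.card_eq_one_iff_unique.mp hPcard).1
          exact isCyclic_of_subsingleton
        · exact Cfsg.Agent.Lib.Helper18.isCyclic_sylow_of_fpf (Cfsg.fittingHall ↥L) U hHbot hfpfU
            q hq2 P
      have hp1 : p - 1 ≠ 0 := by
        have := hp.two_le
        omega
      have hdvd : Nat.card U ∣ p - 1 :=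
        Cfsg.Agent.Lib.Helper9.PF122.card_dvd_of_isCyclic_sylow hcyc (p - 1) hp1 hUexp
      have hidx : (Cfsg.fittingHall ↥L).index = Nat.card U := hcompl.symm.index_eq_card
      rw [← hidx] at hdvd hUodd
      have h1 := Cfsg.Agent.Lib.Helper9.PF122.four_mul_sq_add_one_lt _ p hUodd hp hp2 hdvd
      have h2 := Cfsg.Agent.Lib.Helper9.PF122.sq_le_relIndex_commutator (Cfsg.fittingHall ↥L) p
        hpg hne
      omega

end Cfsg.Agent.S1542
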