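import Cfsg.Statements.S1546
import Mathlib

set_option autoImplicit false
open Cfsg

namespace Cfsg.Agent.S1546

theorem geom_mod (p q m : ℕ) (h : p % m = 1 % m) : (∑ k ∈ Finset.range q, p ^ k) % m = q % m := by
  have h' : p ≡ 1 [MOD m] := h
  have : (∑ k ∈ Finset.range q, p ^ k) ≡ ∑ k ∈ Finset.range q, 1 [MOD m] := by
    have hk : ∀ k : ℕ, p ^ k ≡ 1 [MOD m] := fun k => by simpa using h'.pow k
    induction q with
    | zero => simp [Nat.ModEq]
    | succ n ih =>
      rw [Finset.sum_range_succ, Finset.sum_range_succ]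
      exact ih.add (hk n)
  simpa [Nat.ModEq] using this

theorem prime_dvd_mod (p q : ℕ) (hp : p.Prime) (hq : q.Prime) (hpq : p % q ≠ 1) (r : ℕ) (hr : r.Prime)
    (hrN : r ∣ ∑ k ∈ Finset.range q, p ^ k) : r % q = 1 := by
  have : Fact r.Prime := Fact.mk hr
  have hp2 : 2 ≤ p := hp.two_le
  have hN : (∑ k ∈ Finset.range q, p ^ k) = (p ^ q - 1) / (p - 1) := Nat.geomSum_eq hp2 q
  have hdvd : (p - 1) ∣ p ^ q - 1 := Nat.sub_one_dvd_pow_sub_one p q
  have hrpq : r ∣ p ^ q - 1 := by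
    have : (p ^ q - 1) = (p - 1) * ∑ k ∈ Finset.range q, p ^ k := by
      rw [hN, Nat.mul_div_cancel' hdvd]
    rw [this]; exact Dvd.dvd.mul_left hrN _
  have hpow : ((p : ZMod r)) ^ q = 1 := by
    have h1 : 1 ≤ p ^ q := Nat.one_le_pow _ _ hp.pos
    have : ((p ^ q - 1 : ℕ) : ZMod r) = 0 := (ZMod.natCast_eq_zero_iff _ _).mpr hrpq
    rw [Nat.cast_sub h1] at this
    simpa [sub_eq_zero] using this
  have hp0 : (p : ZMod r) ≠ 0 := by
    intro h0
    rw [h0, zero_pow hq.ne_zero] at hpow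
    exact zero_ne_one hpow
  have hord : orderOf (p : ZMod r) ∣ q := orderOf_dvd_of_pow_eq_one hpow
  rcases (Nat.dvd_prime hq).mp hord with h1 | h1
  · -- order 1: p ≡ 1 mod r, so N ≡ q mod r, r ∣ q
    exfalso
    have hp1 : (p : ZMod r) = 1 := orderOf_eq_one_iff.mp h1
    have hpr : p % r = 1 % r := by
      have : ((p : ℕ) : ZMod r) = ((1 : ℕ) : ZMod r) := by simpa using hp1
      exact (ZMod.natCast_eq_natCast_iff' _ _ _).mp this
    have := geom_mod p q r hpr
    have hrq : r ∣ q := by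
      rw [Nat.dvd_iff_mod_eq_zero, ← this, ← Nat.dvd_iff_mod_eq_zero]; exact hrN
    have hrq' : r = q := (Nat.prime_dvd_prime_iff_eq hr hq).mp hrq
    subst hrq'
    apply hpq
    rw [hpr]; exact Nat.mod_eq_of_lt hr.one_lt
  · have := ZMod.orderOf_dvd_card_sub_one hp0
    rw [h1] at this
    obtain ⟨c, hc⟩ := this
    have hr1 : 1 ≤ r := hr.pos
    have : r = q * c + 1 := by omega
    rw [this, Nat.mul_add_mod]; exact Nat.mod_eq_of_lt hq.one_lt

/-- Let p and q be odd primes and N = (p ^ q − 1) / (p − 1) = 1 + p + ⋯ + p^(q−1). Then N is odd; if p ≡ 1 (mod q) then q ∣ N; and if p is not ≡ 1 (mod q) then N is coprime to p − 1 and every divisor of N is ≡ 1 (mod q). -/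
theorem result (p q : ℕ) (hp : p.Prime) (hq : q.Prime) (hp2 : p ≠ 2) (hq2 : q ≠ 2) : Odd ((p ^ q - 1) / (p - 1)) ∧ (p % q = 1 → q ∣ (p ^ q - 1) / (p - 1)) ∧ (p % q ≠ 1 → Nat.Coprime ((p ^ q - 1) / (p - 1)) (p - 1) ∧ ∀ x : ℕ, x ∣ (p ^ q - 1) / (p - 1) → x % q = 1) := by
  have hp2' : 2 ≤ p := hp.two_le
  have hN : (p ^ q - 1) / (p - 1) = ∑ k ∈ Finset.range q, p ^ k := (Nat.geomSum_eq hp2' q).symm
  rw [hN]
  have hpodd : p % 2 = 1 := (hp.eq_two_or_odd).resolve_left hp2
  have hqodd : q % 2 = 1 := (hq.eq_two_or_odd).resolve_left hq2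
  refine ⟨?_, ?_, ?_⟩
  · rw [Nat.odd_iff, geom_mod p q 2 (by simpa using hpodd)]; exact hqodd
  · intro h
    rw [Nat.dvd_iff_mod_eq_zero, geom_mod p q q (by rw [h, Nat.mod_eq_of_lt hq.one_lt])]
    exact Nat.mod_self q
  · intro h
    constructor
    · -- gcd(N, p-1) divides q and p - 1
      have hmod := geom_mod p q (p - 1) (by
        have : p = (p - 1) + 1 := by omega
        conv_lhs => rw [this]
        simp)
      have hg : Nat.gcd (∑ k ∈ Finset.range q, p ^ k) (p - 1) = Nat.gcd q (p - 1) := by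
        rw [Nat.gcd_comm, Nat.gcd_rec, Nat.gcd_comm q, Nat.gcd_rec (p - 1) q, hmod]
      rw [Nat.coprime_iff_gcd_eq_one, hg]
      rw [← Nat.coprime_iff_gcd_eq_one, Nat.Prime.coprime_iff_not_dvd hq]
      intro hd
      apply h
      obtain ⟨c, hc⟩ := hd
      have : p = q * c + 1 := by omega
      rw [this, Nat.mul_add_mod]; exact Nat.mod_eq_of_lt hq.one_lt
    · intro x
      induction x using Nat.recOnMul with
      | zero =>
        intro h0
        exfalso
        have := Nat.eq_zero_of_zero_dvd h0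
        have hpos : 0 < ∑ k ∈ Finset.range q, p ^ k := by
          apply Finset.sum_pos
          · intro i _; exact pow_pos hp.pos _
          · exact ⟨0, Finset.mem_range.mpr hq.pos⟩
        omega
      | one => intro _; exact Nat.mod_eq_of_lt hq.one_lt
      | prime r hr =>
        intro hrN
        exact prime_dvd_mod p q hp hq h r hr hrN
      | mul a b iha ihb =>
        intro hab
        have ha := iha (Dvd.dvd.trans (Dvd.intro _ rfl) hab)
        have hb := ihb (Dvd.dvd.trans (Dvd.intro_left _ rfl) hab)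
        rw [Nat.mul_mod, ha, hb]; simpa using Nat.mod_eq_of_lt hq.one_lt

end Cfsg.Agent.S1546
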