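import Cfsg.Statements.S1552
import Cfsg.Agent.Lib.Helper28.Sextet1552Data
import Cfsg.Agent.Lib.Helper28.M24FactsProof
import Cfsg.Agent.Lib.Helper28.MaximalFam

set_option autoImplicit false
open scoped Pointwise
open Cfsg

namespace Cfsg.Agent.S1552
open Cfsg.Agent.Lib.Helper28.GolayCode Cfsg.Agent.Lib.Helper28.StabLib
  Cfsg.Agent.Lib.Helper28.M24Fam Cfsg.Agent.Lib.Helper28.Sextet1552

theorem o96 : MulAction.orbit (MulAction.stabilizer ↥M24 (fam lb)) (fam srep96) = fam '' {l | l ∈ clsF (φCm fC) lb sextetData 96} ∧ (MulAction.orbit (MulAction.stabilizer ↥M24 (fam lb)) (fam srep96)).ncard = (clsF (φCm fC) lb sextetData 96).length :=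
  orbit_fam (φC_smul fC) (φC_bset fC) _ lb lb_nodup hH sextetFamData 96 srep96 srep96_mem scerts96 scerts96_ok
theorem o48 : MulAction.orbit (MulAction.stabilizer ↥M24 (fam lb)) (fam srep48) = fam '' {l | l ∈ clsF (φCm fC) lb sextetData 48} ∧ (MulAction.orbit (MulAction.stabilizer ↥M24 (fam lb)) (fam srep48)).ncard = (clsF (φCm fC) lb sextetData 48).length :=
  orbit_fam (φC_smul fC) (φC_bset fC) _ lb lb_nodup hH sextetFamData 48 srep48 srep48_mem scerts48 scerts48_ok
theorem o36 : MulAction.orbit (MulAction.stabilizer ↥M24 (fam lb)) (fam srep36) = fam '' {l | l ∈ clsF (φCm fC) lb sextetData 36} ∧ (MulAction.orbit (MulAction.stabilizer ↥M24 (fam lb)) (fam srep36)).ncard = (clsF (φCm fC) lb sextetData 36).length :=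
  orbit_fam (φC_smul fC) (φC_bset fC) _ lb lb_nodup hH sextetFamData 36 srep36 srep36_mem scerts36 scerts36_ok
theorem o32 : MulAction.orbit (MulAction.stabilizer ↥M24 (fam lb)) (fam srep32) = fam '' {l | l ∈ clsF (φCm fC) lb sextetData 32} ∧ (MulAction.orbit (MulAction.stabilizer ↥M24 (fam lb)) (fam srep32)).ncard = (clsF (φCm fC) lb sextetData 32).length :=
  orbit_fam (φC_smul fC) (φC_bset fC) _ lb lb_nodup hH sextetFamData 32 srep32 srep32_mem scerts32 scerts32_ok

theorem coatom_base : IsCoatom (MulAction.stabilizer ↥M24 (fam lb)) := by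
  apply isCoatom_stab_fam (φC_bset fC) sextetFamData lb lb_mem _ [96, 48, 36, 32] code 3
    [1, 90, 240, 1440] scover (by decide) (by decide) hself hn
  · intro v hv
    simp only [List.mem_cons, List.not_mem_nil, or_false] at hv
    rcases hv with rfl | rfl | rfl | rfl
    · exact fun l hl l' hl' => exists_of_orbit_eq o96.1 l l' hl hl'
    · exact fun l hl l' hl' => exists_of_orbit_eq o48.1 l l' hl hl'
    · exact fun l hl l' hl' => exists_of_orbit_eq o36.1 l l' hl hl'
    · exact fun l hl l' hl' => exists_of_orbit_eq o32.1 l l' hl hl'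
  · rw [data_length]
    exact arith
  · rw [data_length]
    norm_num
  · intro S hS
    obtain ⟨σ, hσ, h⟩ := facts.sextet_trans (fam lb) S (sextetFamData.sound lb lb_mem) hS
    exact ⟨⟨σ, hσ⟩, h⟩

theorem base_result : ∃ X₁ ∈ sextets, ∃ X₂ ∈ sextets, ∃ X₃ ∈ sextets,
    (MulAction.orbit ↥(MulAction.stabilizer M24 (fam lb)) X₁).ncard = 90 ∧
    (MulAction.orbit ↥(MulAction.stabilizer M24 (fam lb)) X₂).ncard = 240 ∧
    (MulAction.orbit ↥(MulAction.stabilizer M24 (fam lb)) X₃).ncard = 1440 ∧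
    sextets = {fam lb} ∪ MulAction.orbit ↥(MulAction.stabilizer M24 (fam lb)) X₁ ∪
      MulAction.orbit ↥(MulAction.stabilizer M24 (fam lb)) X₂ ∪
      MulAction.orbit ↥(MulAction.stabilizer M24 (fam lb)) X₃ ∧
    IsCoatom (MulAction.stabilizer M24 (fam lb)) := by
  refine ⟨fam srep48, sextetFamData.sound _ (List.mem_filter.mp srep48_mem).1,
    fam srep36, sextetFamData.sound _ (List.mem_filter.mp srep36_mem).1,
    fam srep32, sextetFamData.sound _ (List.mem_filter.mp srep32_mem).1, ?_, ?_, ?_, ?_, coatom_base⟩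
  · rw [o48.2, slen48]
  · rw [o36.2, slen36]
  · rw [o32.2, slen32]
  · rw [o48.1, o36.1, o32.1]
    apply Set.Subset.antisymm
    · intro S hS
      obtain ⟨v, hv, hSv⟩ := cover_fam sextetFamData (φCm fC) lb [96, 48, 36, 32] scover S hS
      simp only [List.mem_cons, List.not_mem_nil, or_false] at hv
      rcases hv with rfl | rfl | rfl | rfl
      · left; left; left
        obtain ⟨l, hl, rfl⟩ := hSv
        rw [Set.mem_ofPred_eq, cls96, List.mem_singleton] at hl
        rw [hl]
        rfl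
      · exact Or.inl (Or.inl (Or.inr hSv))
      · exact Or.inl (Or.inr hSv)
      · exact Or.inr hSv
    · intro S hS
      rcases hS with ((hS | hS) | hS) | hS
      · rw [Set.mem_singleton_iff] at hS
        rw [hS]
        exact sextetFamData.sound lb lb_mem
      · exact image_clsF_subset sextetFamData _ _ _ hS
      · exact image_clsF_subset sextetFamData _ _ _ hS
      · exact image_clsF_subset sextetFamData _ _ _ hS

theorem result (S : Finset (Finset Cfsg.GolayPt)) (hS : S ∈ Cfsg.sextets) : ∃ X₁ ∈ Cfsg.sextets, ∃ X₂ ∈ Cfsg.sextets, ∃ X₃ ∈ Cfsg.sextets, (MulAction.orbit ↥(MulAction.stabilizer Cfsg.M24 S) X₁).ncard = 90 ∧ (MulAction.orbit ↥(MulAction.stabilizer Cfsg.M24 S) X₂).ncard = 240 ∧ (MulAction.orbit ↥(MulAction.stabilizer Cfsg.M24 S) X₃).ncard = 1440 ∧ Cfsg.sextets = {S} ∪ MulAction.orbit ↥(MulAction.stabilizer Cfsg.M24 S) X₁ ∪ MulAction.orbit ↥(MulAction.stabilizer Cfsg.M24 S) X₂ ∪ MulAction.orbit ↥(MulAction.stabilizer Cfsg.M24 S) X₃ ∧ IsCoatom (MulAction.stabilizer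 Cfsg.M24 S) := by
  obtain ⟨σ, hσ, rfl⟩ := facts.sextet_trans (fam lb) S (sextetFamData.sound lb lb_mem) hS
  exact transport3c (G := ↥M24) sextets (fun g S hS => smul_mem_sextets g.2 hS) (fam lb) ⟨σ, hσ⟩
    90 240 1440 base_result

end Cfsg.Agent.S1552
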