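import Cfsg.Statements.S1555
-- import your own Cfsg.Agent.* helpers here
import Cfsg.Agent.S1604
import Cfsg.Agent.Lib.Helper3.Golay.M24List
import Cfsg.Agent.Lib.Helper3.Golay.Suborbit

set_option autoImplicit false
open scoped Pointwise
open Cfsg

namespace Cfsg.Agent.S1555

open scoped Pointwise
open Cfsg.Agent.Lib.Helper3.Golay
open Cfsg.Agent.S1604 (cnt04_2 hlt04 pt0_mem_O0 pt1_mem_O0 pt0_ne_pt1)

theorem hlt55 : ∀ i ∈ [0, 1, 2, 3] ++ ([] : List ℕ), i < 24 := by decide

set_option maxRecDepth 100000 in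
theorem cnt55_4 : countBelow 4096 (fun c => Nat.beq (clsG 8 O0 [0, 1, 2, 3] ([] : List ℕ) c) (1 + 4)) = 4 := by decide +kernel

theorem l4_nodup : [pt 0, pt 1, pt 2, pt 3].Nodup := by decide

theorem l4_mem : ∀ p ∈ [pt 0, pt 1, pt 2, pt 3], p ∈ bitSet O0 := by
  intro p hp
  rw [mem_bitSet]
  revert p
  decide +kernel

theorem inter_eq_iff {o o' s : Finset GolayPt} (hs : s ⊆ o) :
    o ∩ o' = s ↔ (s ⊆ o' ∧ (o ∩ o').card = s.card) := by
  constructor
  · rintro rfl
    exact ⟨Finset.inter_subset_right, rfl⟩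
  · rintro ⟨h1, h2⟩
    symm
    apply Finset.eq_of_subset_of_card_le
    · exact Finset.subset_inter hs h1
    · omega

/-- Bottom row of the Leech triangle: an octad is met in a prescribed pair of its points by exactly 16 octads and in a prescribed 4-subset by exactly 4 octads. -/
theorem result (o : Finset Cfsg.GolayPt) (ho : o ∈ Cfsg.octads) (s : Finset Cfsg.GolayPt) (hs : s ⊆ o) : (s.card = 2 → {o' : Finset Cfsg.GolayPt | o' ∈ Cfsg.octads ∧ o ∩ o' = s}.ncard = 16) ∧ (s.card = 4 → {o' : Finset Cfsg.GolayPt | o' ∈ Cfsg.octads ∧ o ∩ o' = s}.ncard = 4) := by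
  classical
  constructor
  · intro hs2
    obtain ⟨p, q, hpq, rfl⟩ := Finset.card_eq_two.mp hs2
    have hp : p ∈ o := hs (by simp)
    have hq : q ∈ o := hs (by simp)
    obtain ⟨t, ht, rfl, hmap⟩ := exists_map_octad_list O0_mem ho [pt 0, pt 1] [p, q]
      (by simpa using pt0_ne_pt1) (by simpa using hpq) rfl (by simp)
      (by simpa using ⟨pt0_mem_O0, pt1_mem_O0⟩) (by simpa using ⟨hp, hq⟩)
    simp only [List.map_cons, List.map_nil, List.cons.injEq, and_true] at hmap
    obtain ⟨rfl, rfl⟩ := hmap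
    have hset : {o' : Finset GolayPt | o' ∈ octads ∧ t • bitSet O0 ∩ o' = {t (pt 0), t (pt 1)}} =
        {o' : Finset GolayPt | o' ∈ wordsOfWeight (golayCode : Set (GolayPt → ZMod 2)) 8 ∧
          (∀ i ∈ [0, 1], t (pt i) ∈ o') ∧ (∀ i ∈ ([] : List ℕ), t (pt i) ∉ o') ∧
          (t • bitSet O0 ∩ o').card = 2} := by
      ext o'
      simp only [Set.mem_ofPred_eq, List.mem_cons, List.not_mem_nil, or_false, forall_eq_or_imp,
        forall_eq, false_imp_iff, implies_true, true_and]
      rw [inter_eq_iff hs, hs2, Finset.insert_subset_iff, Finset.singleton_subset_iff, and_assoc]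
      rfl
    rw [hset, suborbit_count 8 O0 [0, 1] [] hlt04 2 ht, cnt04_2]
  · intro hs4
    obtain ⟨l, hl, hnd, hlen⟩ : ∃ l : List GolayPt, l.toFinset = s ∧ l.Nodup ∧ l.length = 4 :=
      ⟨s.toList, Finset.toList_toFinset s, Finset.nodup_toList s, by rw [Finset.length_toList, hs4]⟩
    obtain ⟨a, b, c, d, rfl⟩ : ∃ a b c d, l = [a, b, c, d] := by
      match l, hlen with
      | [a, b, c, d], _ => exact ⟨a, b, c, d, rfl⟩
    obtain ⟨t, ht, rfl, hmap⟩ := exists_map_octad_list O0_mem ho [pt 0, pt 1, pt 2, pt 3] [a, b, c, d]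
      l4_nodup hnd rfl (by simp) l4_mem (by
        intro x hx
        apply hs
        rw [← hl]
        exact List.mem_toFinset.mpr hx)
    simp only [List.map_cons, List.map_nil, List.cons.injEq, and_true] at hmap
    obtain ⟨rfl, rfl, rfl, rfl⟩ := hmap
    have hset : {o' : Finset GolayPt | o' ∈ octads ∧ t • bitSet O0 ∩ o' = s} =
        {o' : Finset GolayPt | o' ∈ wordsOfWeight (golayCode : Set (GolayPt → ZMod 2)) 8 ∧
          (∀ i ∈ [0, 1, 2, 3], t (pt i) ∈ o') ∧ (∀ i ∈ ([] : List ℕ), t (pt i) ∉ o') ∧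
          (t • bitSet O0 ∩ o').card = 4} := by
      ext o'
      simp only [Set.mem_ofPred_eq, List.mem_cons, List.not_mem_nil, or_false, forall_eq_or_imp,
        forall_eq, false_imp_iff, implies_true, true_and]
      rw [inter_eq_iff hs, hs4, ← hl]
      simp only [List.toFinset_cons, List.toFinset_nil, insert_empty_eq, Finset.insert_subset_iff,
        Finset.singleton_subset_iff, and_assoc]
      rfl
    rw [hset, suborbit_count 8 O0 [0, 1, 2, 3] [] hlt55 4 ht, cnt55_4]

end Cfsg.Agent.S1555
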