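import Cfsg.Statements.S1559
import Cfsg.Agent.Lib.Helper28.Trio1559Data
import Cfsg.Agent.Lib.Helper28.M24Trio
import Cfsg.Agent.Lib.Helper28.MaximalFam

set_option autoImplicit false
open scoped Pointwise
open Cfsg

namespace Cfsg.Agent.S1559
open Cfsg.Agent.Lib.Helper28.GolayCode Cfsg.Agent.Lib.Helper28.StabLib
  Cfsg.Agent.Lib.Helper28.M24Fam Cfsg.Agent.Lib.Helper28.Trio1559
  Cfsg.Agent.Lib.Helper28.M24Pairs

theorem o6 : MulAction.orbit (MulAction.stabilizer ↥M24 (fam lb)) (fam trep6) = fam '' {l | l ∈ clsF φEm lb trioData 6} ∧ (MulAction.orbit (MulAction.stabilizer ↥M24 (fam lb)) (fam trep6)).ncard = (clsF φEm lb trioData 6).length :=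
  orbit_fam φE_smul φE_bset _ lb lb_nodup hH trioFamData 6 trep6 trep6_mem tcerts6 tcerts6_ok
theorem o4 : MulAction.orbit (MulAction.stabilizer ↥M24 (fam lb)) (fam trep4) = fam '' {l | l ∈ clsF φEm lb trioData 4} ∧ (MulAction.orbit (MulAction.stabilizer ↥M24 (fam lb)) (fam trep4)).ncard = (clsF φEm lb trioData 4).length :=
  orbit_fam φE_smul φE_bset _ lb lb_nodup hH trioFamData 4 trep4 trep4_mem tcerts4 tcerts4_ok
theorem o3 : MulAction.orbit (MulAction.stabilizer ↥M24 (fam lb)) (fam trep3) = fam '' {l | l ∈ clsF φEm lb trioData 3} ∧ (MulAction.orbit (MulAction.stabilizer ↥M24 (fam lb)) (fam trep3)).ncard = (clsF φEm lb trioData 3).length :=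
  orbit_fam φE_smul φE_bset _ lb lb_nodup hH trioFamData 3 trep3 trep3_mem tcerts3 tcerts3_ok
theorem o1 : MulAction.orbit (MulAction.stabilizer ↥M24 (fam lb)) (fam trep1) = fam '' {l | l ∈ clsF φEm lb trioData 1} ∧ (MulAction.orbit (MulAction.stabilizer ↥M24 (fam lb)) (fam trep1)).ncard = (clsF φEm lb trioData 1).length :=
  orbit_fam φE_smul φE_bset _ lb lb_nodup hH trioFamData 1 trep1 trep1_mem tcerts1 tcerts1_ok
theorem o0 : MulAction.orbit (MulAction.stabilizer ↥M24 (fam lb)) (fam trep0) = fam '' {l | l ∈ clsF φEm lb trioData 0} ∧ (MulAction.orbit (MulAction.stabilizer ↥M24 (fam lb)) (fam trep0)).ncard = (clsF φEm lb trioData 0).length :=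
  orbit_fam φE_smul φE_bset _ lb lb_nodup hH trioFamData 0 trep0 trep0_mem tcerts0 tcerts0_ok

theorem trans_lb (T : Finset (Finset GolayPt)) (hT : T ∈ trios) : ∃ g : ↥M24, g • fam lb = T := by
  obtain ⟨g1, h1⟩ := trio_trans (fam lb) (trioFamData.sound lb lb_mem)
  obtain ⟨g2, h2⟩ := trio_trans T hT
  refine ⟨g2 * g1⁻¹, ?_⟩
  rw [mul_smul, ← h1, inv_smul_smul, h2]

theorem coatom_base : IsCoatom (MulAction.stabilizer ↥M24 (fam lb)) := by
  apply isCoatom_stab_fam φE_bset trioFamData lb lb_mem trans_lb [6, 4, 3, 1, 0] code 4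
    [1, 42, 56, 1008, 2688] tcover (by decide) (by decide) hself hn
  · intro v hv
    simp only [List.mem_cons, List.not_mem_nil, or_false] at hv
    rcases hv with rfl | rfl | rfl | rfl | rfl
    · exact fun l hl l' hl' => exists_of_orbit_eq o6.1 l l' hl hl'
    · exact fun l hl l' hl' => exists_of_orbit_eq o4.1 l l' hl hl'
    · exact fun l hl l' hl' => exists_of_orbit_eq o3.1 l l' hl hl'
    · exact fun l hl l' hl' => exists_of_orbit_eq o1.1 l l' hl hl'
    · exact fun l hl l' hl' => exists_of_orbit_eq o0.1 l l' hl hl'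
  · rw [data_length]
    exact arith
  · rw [data_length]
    norm_num

theorem base_result : ∃ X₁ ∈ trios, ∃ X₂ ∈ trios, ∃ X₃ ∈ trios, ∃ X₄ ∈ trios,
    (MulAction.orbit ↥(MulAction.stabilizer M24 (fam lb)) X₁).ncard = 42 ∧
    (MulAction.orbit ↥(MulAction.stabilizer M24 (fam lb)) X₂).ncard = 56 ∧
    (MulAction.orbit ↥(MulAction.stabilizer M24 (fam lb)) X₃).ncard = 1008 ∧
    (MulAction.orbit ↥(MulAction.stabilizer M24 (fam lb)) X₄).ncard = 2688 ∧
    trios = {fam lb} ∪ MulAction.orbit ↥(MulAction.stabilizer M24 (fam lb)) X₁ ∪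
      MulAction.orbit ↥(MulAction.stabilizer M24 (fam lb)) X₂ ∪
      MulAction.orbit ↥(MulAction.stabilizer M24 (fam lb)) X₃ ∪
      MulAction.orbit ↥(MulAction.stabilizer M24 (fam lb)) X₄ ∧
    IsCoatom (MulAction.stabilizer M24 (fam lb)) := by
  refine ⟨fam trep4, trioFamData.sound _ (List.mem_filter.mp trep4_mem).1,
    fam trep3, trioFamData.sound _ (List.mem_filter.mp trep3_mem).1,
    fam trep1, trioFamData.sound _ (List.mem_filter.mp trep1_mem).1,
    fam trep0, trioFamData.sound _ (List.mem_filter.mp trep0_mem).1,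
    ?_, ?_, ?_, ?_, ?_, coatom_base⟩
  · rw [o4.2, tlen4]
  · rw [o3.2, tlen3]
  · rw [o1.2, tlen1]
  · rw [o0.2, tlen0]
  · rw [o4.1, o3.1, o1.1, o0.1]
    apply Set.Subset.antisymm
    · intro S hS
      obtain ⟨v, hv, hSv⟩ := cover_fam trioFamData φEm lb [6, 4, 3, 1, 0] tcover S hS
      simp only [List.mem_cons, List.not_mem_nil, or_false] at hv
      rcases hv with rfl | rfl | rfl | rfl | rfl
      · left; left; left; left
        obtain ⟨l, hl, rfl⟩ := hSv
        rw [Set.mem_ofPred_eq, cls6, List.mem_singleton] at hl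
        rw [hl]
        rfl
      · exact Or.inl (Or.inl (Or.inl (Or.inr hSv)))
      · exact Or.inl (Or.inl (Or.inr hSv))
      · exact Or.inl (Or.inr hSv)
      · exact Or.inr hSv
    · intro S hS
      rcases hS with (((hS | hS) | hS) | hS) | hS
      · rw [Set.mem_singleton_iff] at hS
        rw [hS]
        exact trioFamData.sound lb lb_mem
      · exact image_clsF_subset trioFamData _ _ _ hS
      · exact image_clsF_subset trioFamData _ _ _ hS
      · exact image_clsF_subset trioFamData _ _ _ hS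
      · exact image_clsF_subset trioFamData _ _ _ hS

theorem result (T : Finset (Finset Cfsg.GolayPt)) (hT : T ∈ Cfsg.trios) : ∃ X₁ ∈ Cfsg.trios, ∃ X₂ ∈ Cfsg.trios, ∃ X₃ ∈ Cfsg.trios, ∃ X₄ ∈ Cfsg.trios, (MulAction.orbit ↥(MulAction.stabilizer Cfsg.M24 T) X₁).ncard = 42 ∧ (MulAction.orbit ↥(MulAction.stabilizer Cfsg.M24 T) X₂).ncard = 56 ∧ (MulAction.orbit ↥(MulAction.stabilizer Cfsg.M24 T) X₃).ncard = 1008 ∧ (MulAction.orbit ↥(MulAction.stabilizer Cfsg.M24 T) X₄).ncard = 2688 ∧ Cfsg.trios = {T} ∪ MulAction.orbit ↥(MulAction.stabilizer Cfsg.M24 T) X₁ ∪ MulAction.orbit ↥(MulAction.stabilizer Cfsg.M24 T) X₂ ∪ MulAction.orbit ↥(MulAction.stabilizer Cfsg.M24 T) X₃ ∪ MulAction.orbit ↥(MulAction.stabilizer Cfsg.M24 T) X₄ ∧ IsCoatom (MulAction.stabilizer Cfsg.M24 T) := by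
  obtain ⟨g, rfl⟩ := trans_lb T hT
  exact transport4c (G := ↥M24) trios (fun g S hS => smul_mem_trios g.2 hS) (fam lb) g
    42 56 1008 2688 base_result

end Cfsg.Agent.S1559
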