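import Cfsg.Statements.S1576
-- import your own Cfsg.Agent.* helpers here
import Cfsg.Agent.Lib.Helper14.LeechOrbit
import Cfsg.Agent.Lib.Helper14.LeechShort
import Cfsg.Agent.Lib.Helper14.LeechMono
import Cfsg.Agent.Lib.Helper14.Co0Center
import Cfsg.Agent.Lib.Helper14.Co0Order
import Cfsg.Agent.Lib.Helper3.Golay.M24Trans

set_option autoImplicit false
open Cfsg

namespace Cfsg.Agent.S1576

open Cfsg.Agent.Lib.Helper14.Leech Cfsg.Agent.Lib.Helper14.LeechOrbit
  Cfsg.Agent.Lib.Helper14.LeechMono Cfsg.Agent.Lib.Helper14.Co0Center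
  Cfsg.Agent.Lib.Helper14.Co0Order

/-- an orthogonal pair of minimal vectors can be moved to `4 e_∞ ± 4 e_j` -/
theorem normal_form (v w : ↥leechLattice) (hv : sqNorm (v : GolayPt → ℤ) = 32)
    (hw : sqNorm (w : GolayPt → ℤ) = 32)
    (hd : dotInt (v : GolayPt → ℤ) (w : GolayPt → ℤ) = 0) :
    ∃ (g : ↥Co0) (j : GolayPt) (s : ℤ), j ≠ none ∧ (s = 1 ∨ s = -1) ∧
      ((g • v : ↥leechLattice) : GolayPt → ℤ) = Pi.single none 4 + Pi.single j (4 * s) ∧
      ((g • w : ↥leechLattice) : GolayPt → ℤ) = Pi.single none 4 + Pi.single j (-(4 * s)) := by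
  have hx : sqNorm ((v + w : ↥leechLattice) : GolayPt → ℤ) = 64 := by
    rw [AddSubgroup.coe_add, Cfsg.Agent.Lib.Helper14.Leech.sqNorm_add, hv, hw, hd]; norm_num
  have hy : sqNorm ((v - w : ↥leechLattice) : GolayPt → ℤ) = 64 := by
    rw [AddSubgroup.coe_sub, Cfsg.Agent.Lib.Helper14.Leech.sqNorm_sub, hv, hw, hd]; norm_num
  obtain ⟨g, hg⟩ := co0_trans64 (v + w) v8 hx sqNorm_v8
  -- additivity of `g`
  have hadd : g • (v + w) = g • v + g • w := g.2.1 v w
  have hsub : g • (v - w) = g • v - g • w := co0_map_sub g.1 g.2 v w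
  -- the image of `v - w` lies in the standard cross
  have hcross : ((g • (v - w) : ↥leechLattice) : GolayPt → ℤ) ∈ cross (v8 : GolayPt → ℤ) := by
    refine ⟨(g • (v - w)).2, ?_, ((g • w : ↥leechLattice) : GolayPt → ℤ), (g • w).2, ?_⟩
    · rw [smul_coe, g.2.2, hy, sqNorm_v8]
    · rw [← hg, hadd, hsub, AddSubgroup.coe_add, AddSubgroup.coe_sub, two_nsmul]
      abel
  rw [cross_v8] at hcross
  obtain ⟨j, s8, hs8, hj⟩ := hcross
  -- orthogonality
  have hdot : dotInt ((g • (v + w) : ↥leechLattice) : GolayPt → ℤ)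
      ((g • (v - w) : ↥leechLattice) : GolayPt → ℤ) = 0 := by
    rw [smul_coe, smul_coe, dot_pres g.1 g.2]
    have h1 := Cfsg.Agent.Lib.Helper14.Leech.sqNorm_add
      ((v + w : ↥leechLattice) : GolayPt → ℤ) ((v - w : ↥leechLattice) : GolayPt → ℤ)
    have h2 : ((v + w : ↥leechLattice) : GolayPt → ℤ) + ((v - w : ↥leechLattice) : GolayPt → ℤ)
        = (v : GolayPt → ℤ) + (v : GolayPt → ℤ) := by
      rw [AddSubgroup.coe_add, AddSubgroup.coe_sub]; abel
    rw [h2, Cfsg.Agent.Lib.Helper14.Leech.sqNorm_add_self, hx, hy, hv] at h1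
    linarith
  rw [hg, hj, v8_coe, dotInt_single] at hdot
  have hjn : j ≠ none := by
    intro h
    rw [h, Pi.single_eq_same] at hdot
    rcases hs8 with rfl | rfl <;> norm_num at hdot
  -- solve for the images of `v` and `w`
  have e1 : ((g • v : ↥leechLattice) : GolayPt → ℤ) + ((g • w : ↥leechLattice) : GolayPt → ℤ)
      = Pi.single none 8 := by
    rw [← AddSubgroup.coe_add, ← hadd, hg, v8_coe]
  have e2 : ((g • v : ↥leechLattice) : GolayPt → ℤ) - ((g • w : ↥leechLattice) : GolayPt → ℤ)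
      = Pi.single j s8 := by
    rw [← AddSubgroup.coe_sub, ← hsub, hj]
  refine ⟨g, j, s8 / 8, hjn, by rcases hs8 with rfl | rfl <;> norm_num, ?_, ?_⟩
  · funext k
    have a1 := congrFun e1 k
    have a2 := congrFun e2 k
    rw [Pi.add_apply] at a1
    rw [Pi.sub_apply] at a2
    rw [Pi.add_apply]
    by_cases hk1 : k = none
    · have hk2 : k ≠ j := fun h => hjn (h ▸ hk1)
      rw [hk1] at a1 a2 ⊢
      rw [Pi.single_eq_same] at a1 ⊢
      rw [Pi.single_eq_of_ne (Ne.symm hjn)] at a2 ⊢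
      omega
    · rw [Pi.single_eq_of_ne hk1] at a1 ⊢
      by_cases hk2 : k = j
      · rw [hk2] at a1 a2 ⊢
        rw [Pi.single_eq_same] at a2 ⊢
        rcases hs8 with rfl | rfl <;> omega
      · rw [Pi.single_eq_of_ne hk2] at a2 ⊢
        omega
  · funext k
    have a1 := congrFun e1 k
    have a2 := congrFun e2 k
    rw [Pi.add_apply] at a1
    rw [Pi.sub_apply] at a2
    rw [Pi.add_apply]
    by_cases hk1 : k = none
    · have hk2 : k ≠ j := fun h => hjn (h ▸ hk1)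
      rw [hk1] at a1 a2 ⊢
      rw [Pi.single_eq_same] at a1 ⊢
      rw [Pi.single_eq_of_ne (Ne.symm hjn)] at a2 ⊢
      omega
    · rw [Pi.single_eq_of_ne hk1] at a1 ⊢
      by_cases hk2 : k = j
      · rw [hk2] at a1 a2 ⊢
        rw [Pi.single_eq_same] at a2 ⊢
        rcases hs8 with rfl | rfl <;> omega
      · rw [Pi.single_eq_of_ne hk2] at a2 ⊢
        omega

/-- a monomial element fixing `e_∞` and moving `s e_j` to `s' e_j'` -/
theorem exists_mono (j j' : GolayPt) (hj : j ≠ none) (hj' : j' ≠ none) (s s' : ℤ)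
    (hs : s = 1 ∨ s = -1) (hs' : s' = 1 ∨ s' = -1) :
    ∃ n : ↥Co0, ∀ (a : ℤ) (x : ↥leechLattice),
      (x : GolayPt → ℤ) = Pi.single none 4 + Pi.single j (a * s) →
      ((n • x : ↥leechLattice) : GolayPt → ℤ) = Pi.single none 4 + Pi.single j' (a * s') := by
  obtain ⟨σ, hσ, hσ1, hσ2⟩ := Cfsg.Agent.Lib.Helper3.Golay.exists_map_two
    (p := none) (p' := j) (q := none) (q' := j') (Ne.symm hj) (Ne.symm hj')
  -- the sign word
  obtain ⟨c, hc, hc1, hc2⟩ : ∃ c ∈ golayCode, (j' ∈ support₂ c ↔ s ≠ s') ∧ none ∉ support₂ c := by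
    by_cases hss : s = s'
    · refine ⟨0, Submodule.zero_mem _, ?_, ?_⟩
      · simp [support₂, hss]
      · simp [support₂]
    · obtain ⟨c, hc, h1, h2⟩ := exists_sep j' none hj'
      refine ⟨c, hc, ?_, ?_⟩
      · simp [support₂, h1, hss]
      · simp [support₂, h2]
  refine ⟨⟨mono ⟨σ, hσ⟩ ⟨c, hc⟩, mono_mem_Co0 _ _⟩, ?_⟩
  intro a x hx
  rw [smul_coe]
  show ((mono ⟨σ, hσ⟩ ⟨c, hc⟩ x : ↥leechLattice) : GolayPt → ℤ) = _
  rw [mono_apply, hx, signedPerm_add, signedPerm_single, signedPerm_single]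
  show (Pi.single (σ none) (if σ none ∈ support₂ c then (-4 : ℤ) else 4) : GolayPt → ℤ)
    + (Pi.single (σ j) (if σ j ∈ support₂ c then -(a * s) else a * s) : GolayPt → ℤ) = _
  rw [hσ1, hσ2, if_neg hc2]
  congr 2
  by_cases hss : s = s'
  · rw [if_neg (fun h => (hc1.mp h) hss), hss]
  · rw [if_pos (hc1.mpr hss)]
    rcases hs with rfl | rfl <;> rcases hs' with rfl | rfl <;> first | exact absurd rfl hss | ring

/-- The stabiliser of a minimal vector is transitive on the pairs of opposite minimal vectors orthogonal to it. -/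
theorem result (v w w' : ↥Cfsg.leechLattice) (hv : Cfsg.sqNorm (v : Cfsg.GolayPt → ℤ) = 32) (hw : Cfsg.sqNorm (w : Cfsg.GolayPt → ℤ) = 32) (hw' : Cfsg.sqNorm (w' : Cfsg.GolayPt → ℤ) = 32) (hd : Cfsg.dotInt (v : Cfsg.GolayPt → ℤ) (w : Cfsg.GolayPt → ℤ) = 0) (hd' : Cfsg.dotInt (v : Cfsg.GolayPt → ℤ) (w' : Cfsg.GolayPt → ℤ) = 0) : ∃ g : ↥Cfsg.Co0, g • v = v ∧ (g • w = w' ∨ g • w = -w') := by
  obtain ⟨g, j, s, hj, hs, hgv, hgw⟩ := normal_form v w hv hw hd
  obtain ⟨g', j', s', hj', hs', hgv', hgw'⟩ := normal_form v w' hv hw' hd'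
  obtain ⟨n, hn⟩ := exists_mono j j' hj hj' s s' hs hs'
  refine ⟨g'⁻¹ * n * g, ?_, Or.inl ?_⟩
  · rw [mul_smul, mul_smul, inv_smul_eq_iff]
    apply Subtype.ext
    rw [hn 4 (g • v) hgv, hgv']
  · rw [mul_smul, mul_smul, inv_smul_eq_iff]
    apply Subtype.ext
    have h1 : ((g • w : ↥leechLattice) : GolayPt → ℤ) = Pi.single none 4 + Pi.single j ((-4) * s) := by
      rw [hgw]; congr 2; ring
    rw [hn (-4) (g • w) h1, hgw']
    congr 2
    ring

end Cfsg.Agent.S1576
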