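import Cfsg.Statements.S1585
-- import your own Cfsg.Agent.* helpers here
import Cfsg.Agent.Lib.Helper14.LeechPairs48

set_option autoImplicit false
open Cfsg

namespace Cfsg.Agent.S1585

open Cfsg.Agent.Lib.Helper14.LeechPairs Cfsg.Agent.Lib.Helper14.LeechMono
  Cfsg.Agent.Lib.Helper14.Co0Center Cfsg.Agent.Lib.Helper14.LeechCross

/-- Two vectors of customary norm 6 with inner product −4 are exchanged by some automorphism of the lattice. -/
theorem result (v w : ↥Cfsg.leechLattice) (hv : Cfsg.sqNorm (v : Cfsg.GolayPt → ℤ) = 48) (hw : Cfsg.sqNorm (w : Cfsg.GolayPt → ℤ) = 48) (hvw : Cfsg.dotInt (v : Cfsg.GolayPt → ℤ) (w : Cfsg.GolayPt → ℤ) = -32) : ∃ g : ↥Cfsg.Co0, g • v = w ∧ g • w = v := by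
  -- the minimal vector `x = -(v + w)`
  set x : ↥leechLattice := -(v + w) with hx
  have hxc : (x : GolayPt → ℤ) = -((v : GolayPt → ℤ) + (w : GolayPt → ℤ)) := rfl
  have hxn : sqNorm (x : GolayPt → ℤ) = 32 := by
    rw [hxc, Cfsg.Agent.Lib.Helper14.Leech.sqNorm_neg, Cfsg.Agent.Lib.Helper14.Leech.sqNorm_add,
      hv, hw, hvw]
    norm_num
  have hdneg : ∀ a b : GolayPt → ℤ, dotInt a (-b) = -dotInt a b := by
    intro a b
    unfold dotInt
    rw [← Finset.sum_neg_distrib]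
    refine Finset.sum_congr rfl fun i _ => ?_
    rw [Pi.neg_apply]; ring
  have hvx : dotInt (v : GolayPt → ℤ) (x : GolayPt → ℤ) = -16 := by
    rw [hxc, hdneg, dotInt_add_right, dotInt_self, hv, hvw]; norm_num
  have hwx : dotInt (w : GolayPt → ℤ) (x : GolayPt → ℤ) = -16 := by
    rw [hxc, hdneg, dotInt_add_right, dotInt_self, hw, dotInt_comm, hvw]; norm_num
  obtain ⟨g1, h1x, h1v⟩ := pair48 v x hv hxn hvx
  obtain ⟨g2, h2x, h2w⟩ := pair48 w x hw hxn hwx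
  have e1 : (g2⁻¹ * g1) • v = w := by
    rw [mul_smul, inv_smul_eq_iff]
    exact Subtype.ext (h1v.trans h2w.symm)
  have e2 : (g2⁻¹ * g1) • x = x := by
    rw [mul_smul, inv_smul_eq_iff]
    exact Subtype.ext (h1x.trans h2x.symm)
  refine ⟨g2⁻¹ * g1, e1, ?_⟩
  -- `w = -x - v`
  have hw' : w = -x - v := by rw [hx]; abel
  have hv' : v = -x - w := by rw [hx]; abel
  have hsub := Cfsg.Agent.Lib.Helper14.Co0Order.co0_map_sub (g2⁻¹ * g1).1 (g2⁻¹ * g1).2 (-x) v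
  have hneg := co0_map_neg (g2⁻¹ * g1).1 (g2⁻¹ * g1).2 x
  have e3 : (g2⁻¹ * g1) • (-x - v) = (g2⁻¹ * g1) • (-x) - (g2⁻¹ * g1) • v := hsub
  have e4 : (g2⁻¹ * g1) • (-x) = -((g2⁻¹ * g1) • x) := hneg
  rw [hw'] at e1 ⊢
  rw [e3, e4, e2, e1]
  abel

end Cfsg.Agent.S1585
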