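import Cfsg.Statements.S1587
-- import your own Cfsg.Agent.* helpers here

set_option autoImplicit false
open Matrix
open Cfsg

namespace Cfsg.Agent.S1587

/-- First step of the characterisation of the rank-24 lattice: in an even lattice without roots, norm-8 vectors congruent modulo 2 are equal, opposite or orthogonal. -/
theorem result (B : Matrix (Fin 24) (Fin 24) ℤ) (hsymm : B.IsSymm) (hpos : ∀ x : Fin 24 → ℤ, x ≠ 0 → 0 < x ⬝ᵥ (B *ᵥ x)) (heven : ∀ x : Fin 24 → ℤ, (2 : ℤ) ∣ x ⬝ᵥ (B *ᵥ x)) (h2 : ∀ x : Fin 24 → ℤ, x ⬝ᵥ (B *ᵥ x) ≠ 2) (x y : Fin 24 → ℤ) (hx : x ⬝ᵥ (B *ᵥ x) = 8) (hy : y ⬝ᵥ (B *ᵥ y) = 8) (hc : ∀ i, (2 : ℤ) ∣ (x - y) i) : y = x ∨ y = -x ∨ x ⬝ᵥ (B *ᵥ y) = 0 := by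
  -- z = (x - y)/2, w = z + y = (x + y)/2
  choose z hz using hc
  have hxy : x - y = (2 : ℤ) • z := by
    funext i; simpa [smul_eq_mul] using hz i
  set w : Fin 24 → ℤ := z + y with hw
  have hxy' : x + y = (2 : ℤ) • w := by
    have : x = (2 : ℤ) • z + y := by rw [← hxy]; abel
    rw [hw, this]; simp only [smul_add, two_smul]; abel
  -- symmetry of the form
  have hsym : y ⬝ᵥ (B *ᵥ x) = x ⬝ᵥ (B *ᵥ y) := by
    rw [Matrix.dotProduct_mulVec, ← Matrix.mulVec_transpose, hsymm.eq, dotProduct_comm]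
  set b := x ⬝ᵥ (B *ᵥ y) with hb
  -- Q(x - y) = 16 - 2b, Q(x + y) = 16 + 2b
  have hQm : (x - y) ⬝ᵥ (B *ᵥ (x - y)) = 16 - 2 * b := by
    simp only [Matrix.mulVec_sub, sub_dotProduct, dotProduct_sub, hx, hy, hsym, ← hb]; ring
  have hQp : (x + y) ⬝ᵥ (B *ᵥ (x + y)) = 16 + 2 * b := by
    simp only [Matrix.mulVec_add, add_dotProduct, dotProduct_add, hx, hy, hsym, ← hb]; ring
  have hQz : 4 * (z ⬝ᵥ (B *ᵥ z)) = 16 - 2 * b := by
    rw [← hQm, hxy]
    simp only [Matrix.mulVec_smul, smul_dotProduct, dotProduct_smul, smul_eq_mul]; ring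
  have hQw : 4 * (w ⬝ᵥ (B *ᵥ w)) = 16 + 2 * b := by
    rw [← hQp, hxy']
    simp only [Matrix.mulVec_smul, smul_dotProduct, dotProduct_smul, smul_eq_mul]; ring
  by_cases hz0 : z = 0
  · left
    have : x - y = 0 := by rw [hxy, hz0, smul_zero]
    exact (sub_eq_zero.mp this).symm
  by_cases hw0 : w = 0
  · right; left
    have : x + y = 0 := by rw [hxy', hw0, smul_zero]
    exact eq_neg_of_add_eq_zero_right this
  right; right
  have hzpos := hpos z hz0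
  have hwpos := hpos w hw0
  obtain ⟨a, ha⟩ := heven z
  obtain ⟨c, hc'⟩ := heven w
  have hz2 := h2 z
  have hw2 := h2 w
  omega

end Cfsg.Agent.S1587
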