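import Cfsg.Statements.S1589
-- import your own Cfsg.Agent.* helpers here
import Cfsg.Agent.Lib.Helper6.M24Idx.I276
import Cfsg.Agent.Lib.Helper6.M24Idx.I759
import Cfsg.Agent.Lib.Helper6.M24Idx.I253
import Cfsg.Agent.Lib.Helper6.M24Idx.I1771

set_option autoImplicit false
open scoped Pointwise
open Cfsg

namespace Cfsg.Agent.S1589

open Cfsg.Agent.Lib.Helper6.M24Idx Cfsg.Agent.Lib.Helper3.Golay

/-- the flat image of a subgroup of `↥M24` -/
theorem flat_le (H : Subgroup ↥M24) : H.map M24.subtype ≤ M24 := by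
  rintro _ ⟨k, -, rfl⟩
  exact k.2

theorem flat_card (H : Subgroup ↥M24) (n : ℕ) (hn : H.index = n) (hn0 : n ≠ 0) :
    Nat.card (H.map M24.subtype) = 244823040 / n := by
  rw [Subgroup.card_map_of_injective M24.subtype_injective]
  have h := Subgroup.index_mul_card H
  rw [hn, card_M24] at h
  exact (Nat.div_eq_of_eq_mul_right (Nat.pos_of_ne_zero hn0) h.symm).symm

theorem mem_flat (H : Subgroup ↥M24) (g : ↥M24) :
    (g : Equiv.Perm GolayPt) ∈ H.map M24.subtype ↔ g ∈ H := by
  constructor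
  · rintro ⟨k, hk, e⟩
    have : k = g := Subtype.ext e
    exact this ▸ hk
  · intro hg
    exact ⟨g, hg, rfl⟩

/-- Subgroups of the group of the length-24 code of index 759, 276 and 1771 are exactly the octad, duad and sextet stabilisers, and no subgroup has index 253. -/
theorem result : (∀ H : Subgroup ↥Cfsg.M24, H.index = 759 → ∃ o ∈ Cfsg.octads, H = MulAction.stabilizer Cfsg.M24 o) ∧ (∀ H : Subgroup ↥Cfsg.M24, H.index = 276 → ∃ s : Finset Cfsg.GolayPt, s.card = 2 ∧ H = MulAction.stabilizer Cfsg.M24 s) ∧ (∀ H : Subgroup ↥Cfsg.M24, H.index = 1771 → ∃ S ∈ Cfsg.sextets, H = MulAction.stabilizer Cfsg.M24 S) ∧ ∀ H : Subgroup ↥Cfsg.M24, H.index ≠ 253 := by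
  refine ⟨?_, ?_, ?_, ?_⟩
  · intro H hH
    obtain ⟨o, ho, e⟩ := idx759 (H.map M24.subtype) (flat_le H)
      (by rw [flat_card H 759 hH (by norm_num)])
    refine ⟨o, ho, ?_⟩
    ext g
    rw [← mem_flat H g, e, mem_SO, MulAction.mem_stabilizer_iff]
    constructor
    · intro h; exact h.2
    · intro h; exact ⟨g.2, h⟩
  · intro H hH
    obtain ⟨s, hs, e⟩ := idx276 (H.map M24.subtype) (flat_le H)
      (by rw [flat_card H 276 hH (by norm_num)])
    refine ⟨s, hs, ?_⟩
    ext g
    rw [← mem_flat H g, e, mem_SO, MulAction.mem_stabilizer_iff]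
    constructor
    · intro h; exact h.2
    · intro h; exact ⟨g.2, h⟩
  · intro H hH
    obtain ⟨S, hS, e⟩ := idx1771 (H.map M24.subtype) (flat_le H)
      (by rw [flat_card H 1771 hH (by norm_num)])
    refine ⟨S, hS, ?_⟩
    ext g
    rw [← mem_flat H g, e, mem_SS, MulAction.mem_stabilizer_iff]
    constructor
    · intro h; exact h.2
    · intro h; exact ⟨g.2, h⟩
  · intro H hH
    exact idx253 (H.map M24.subtype) (flat_le H) (by rw [flat_card H 253 hH (by norm_num)])

end Cfsg.Agent.S1589
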