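import Cfsg.Statements.S1595
import Mathlib
import Cfsg.Agent.Lib.Helper2.SteinerInter

set_option autoImplicit false
open Cfsg

namespace Cfsg.Agent.S1595

/-- the polynomial `j(j-2)(j-3)(j-4)` in the binomial basis -/
def polA (j : ℕ) : ℤ :=
  24 * (Nat.choose j 4 : ℤ) - 18 * (Nat.choose j 3 : ℤ) + 12 * (Nat.choose j 2 : ℤ)
    - 6 * (Nat.choose j 1 : ℤ)

theorem inter_decomp {α : Type*} [DecidableEq α] {s b c : Finset α} (hsb : s ⊆ b) (hsc : s ⊆ c) :
    (b ∩ c).card = s.card + (c ∩ (b \ s)).card ∧ (b ∩ c = s ↔ (c ∩ (b \ s)).card = 0) := by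
  have h1 : b ∩ c = s ∪ (c ∩ (b \ s)) := by
    ext a
    simp only [Finset.mem_inter, Finset.mem_union, Finset.mem_sdiff]
    constructor
    · rintro ⟨hab, hac⟩
      by_cases has : a ∈ s
      · exact Or.inl has
      · exact Or.inr ⟨hac, hab, has⟩
    · rintro (has | ⟨hac, hab, _⟩)
      · exact ⟨hsb has, hsc has⟩
      · exact ⟨hab, hac⟩
  have hd : Disjoint s (c ∩ (b \ s)) := by
    rw [Finset.disjoint_left]
    intro a has ha
    simp only [Finset.mem_inter, Finset.mem_sdiff] at ha
    exact ha.2.2 has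
  have hcard : (b ∩ c).card = s.card + (c ∩ (b \ s)).card := by
    rw [h1, Finset.card_union_of_disjoint hd]
  refine ⟨hcard, ?_⟩
  constructor
  · intro h
    rw [h] at hcard
    omega
  · intro h
    rw [Finset.card_eq_zero] at h
    rw [h1, h, Finset.union_empty]

open Cfsg.Agent.Lib.Helper2 Cfsg.Agent.Lib.Helper28.Steiner in
/-- the blocks meeting `b` exactly in `s`, counted through a polynomial `Q` in the binomial basis -/
theorem exact_count {α : Type*} [Fintype α] [DecidableEq α] (hα : Fintype.card α = 12)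
    {B : Set (Finset α)} (hB : Cfsg.IsSteinerSystem 5 6 B) (b : Finset α) (hb : b ∈ B)
    (s : Finset α) (hs : s ⊆ b) (Q : ℕ → ℤ) (m : ℕ) (hm : s.card = m) (hm2 : 2 ≤ m) (hm4 : m ≤ 4)
    (hQ : ∀ μ, 0 < μ → μ ≤ 4 - m → Q μ = 0) (total : ℤ)
    (htot : ∑ c ∈ blocksThrough B s, Q (c ∩ (b \ s)).card = total) :
    Q 0 * ({c : Finset α | c ∈ B ∧ b ∩ c = s}.ncard : ℤ) + Q (6 - m) = total := by
  classical
  have hbX : b ∈ blocksThrough B s := (mem_blocksThrough B s b).mpr ⟨hb, hs⟩
  have hbs : (b \ s).card = 6 - m := by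
    rw [Finset.card_sdiff_of_subset hs, hB.1 b hb, hm]
  have hterm : ∀ c ∈ blocksThrough B s, Q (c ∩ (b \ s)).card =
      (if c = b then Q (6 - m) else 0) + (if b ∩ c = s then Q 0 else 0) := by
    intro c hc
    obtain ⟨hcB, hsc⟩ := (mem_blocksThrough B s c).mp hc
    obtain ⟨hcard, hiff⟩ := inter_decomp hs hsc
    by_cases hcb : c = b
    · subst hcb
      have hne : ¬ (c ∩ c = s) := by
        rw [Finset.inter_self]
        intro h
        rw [← h, hB.1 c hb] at hm
        omega
      rw [if_pos rfl, if_neg hne, add_zero]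
      have : c ∩ (c \ s) = c \ s := Finset.inter_eq_right.mpr Finset.sdiff_subset
      rw [this, hbs]
    · rw [if_neg hcb, zero_add]
      have hle : (b ∩ c).card ≤ 4 := by
        by_contra h5
        push Not at h5
        exact hcb (block_eq_of_le_card_inter 5 6 B hB hb hcB h5).symm
      by_cases h0 : (c ∩ (b \ s)).card = 0
      · rw [if_pos (hiff.mpr h0), h0]
      · rw [if_neg (fun h => h0 (hiff.mp h))]
        apply hQ
        · omega
        · omega
  rw [Finset.sum_congr rfl hterm, Finset.sum_add_distrib, Finset.sum_ite_eq', if_pos hbX,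
    ← Finset.sum_filter, Finset.sum_const, nsmul_eq_mul] at htot
  have hset : {c : Finset α | c ∈ B ∧ b ∩ c = s} =
      ((blocksThrough B s).filter (fun c => b ∩ c = s) : Finset (Finset α)) := by
    ext c
    simp only [Set.mem_ofPred_eq, Finset.coe_filter, mem_blocksThrough]
    constructor
    · rintro ⟨h1, h2⟩
      exact ⟨⟨h1, by rw [← h2]; exact Finset.inter_subset_right⟩, h2⟩
    · rintro ⟨⟨h1, _⟩, h2⟩
      exact ⟨h1, h2⟩
  rw [hset, Set.ncard_coe_finset]
  linarith


/-- Leech triangle of S(5, 6, 12): blocks meet in 0, 2, 3 or 4 points, and a block is met exactly in a given 2-, 3- or 4-subset by 3, 2, 3 blocks respectively. -/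
theorem result {α : Type*} [Fintype α] [DecidableEq α] (hα : Fintype.card α = 12) {B : Set (Finset α)} (hB : Cfsg.IsSteinerSystem 5 6 B) (b : Finset α) (hb : b ∈ B) : (∀ c ∈ B, c ≠ b → (b ∩ c).card = 0 ∨ (b ∩ c).card = 2 ∨ (b ∩ c).card = 3 ∨ (b ∩ c).card = 4) ∧ ∀ s ⊆ b, (s.card = 2 → {c : Finset α | c ∈ B ∧ b ∩ c = s}.ncard = 3) ∧ (s.card = 3 → {c : Finset α | c ∈ B ∧ b ∩ c = s}.ncard = 2) ∧ (s.card = 4 → {c : Finset α | c ∈ B ∧ b ∩ c = s}.ncard = 3) := by
  classical
  refine ⟨?_, ?_⟩
  · -- intersection sizes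
    intro c hc hcb
    open Cfsg.Agent.Lib.Helper2 in
    have hS : ∀ i lam : ℕ, i ≤ 5 →
        lam * Nat.choose (6 - i) (5 - i) = Nat.choose (Fintype.card α - i) (5 - i) →
        0 < Nat.choose (6 - i) (5 - i) →
        ∑ x ∈ allBlocks B, Nat.choose (x ∩ b).card i = Nat.choose 6 i * lam := by
      intro i lam hi h1 h2
      have := sum_choose_inter_eq 5 6 B hB b i hi lam h1 h2
      rwa [hB.1 b hb] at this
    have h1 := hS 1 66 (by norm_num) (by rw [hα]; decide) (by decide)
    have h2 := hS 2 30 (by norm_num) (by rw [hα]; decide) (by decide)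
    have h3 := hS 3 12 (by norm_num) (by rw [hα]; decide) (by decide)
    have h4 := hS 4 4 (by norm_num) (by rw [hα]; decide) (by decide)
    have hsum : ∑ x ∈ Cfsg.Agent.Lib.Helper2.allBlocks B, polA (x ∩ b).card =
        polA (b ∩ b).card := by
      unfold polA
      rw [Finset.sum_sub_distrib, Finset.sum_add_distrib, Finset.sum_sub_distrib,
        ← Finset.mul_sum, ← Finset.mul_sum, ← Finset.mul_sum, ← Finset.mul_sum,
        ← Nat.cast_sum, ← Nat.cast_sum, ← Nat.cast_sum, ← Nat.cast_sum, h1, h2, h3, h4,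
        Finset.inter_self, hB.1 b hb]
      norm_num [Nat.choose]
    have hle : ∀ x ∈ Cfsg.Agent.Lib.Helper2.allBlocks B, x ≠ b → (x ∩ b).card ≤ 4 := by
      intro x hx hne
      by_contra hcon
      push Not at hcon
      exact hne (Cfsg.Agent.Lib.Helper2.block_eq_of_le_card_inter 5 6 B hB
        ((Cfsg.Agent.Lib.Helper2.mem_allBlocks B x).mp hx) hb hcon)
    have hpol : ∀ j : ℕ, j ≤ 4 → polA j ≤ 0 ∧ (polA j = 0 → j = 0 ∨ j = 2 ∨ j = 3 ∨ j = 4) := by
      intro j hj
      interval_cases j <;> simp [polA, Nat.choose]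
    have hzero := Cfsg.Agent.Lib.Helper2.eq_zero_of_sum_eq_of_nonpos
      (Cfsg.Agent.Lib.Helper2.allBlocks B) (fun x => polA (x ∩ b).card) b
      ((Cfsg.Agent.Lib.Helper2.mem_allBlocks B b).mpr hb) hsum
      (fun x hx hne => (hpol _ (hle x hx hne)).1)
    have hcmem := (Cfsg.Agent.Lib.Helper2.mem_allBlocks B c).mpr hc
    rw [Finset.inter_comm]
    exact (hpol _ (hle c hcmem hcb)).2 (hzero c hcmem hcb)
  · intro s hs
    have hdisj : Disjoint s (b \ s) := Finset.disjoint_sdiff
    open Cfsg.Agent.Lib.Helper2 Cfsg.Agent.Lib.Helper28.Steiner in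
    have hT : ∀ i n lam : ℕ, s.card + i = n → n ≤ 5 →
        lam * Nat.choose (6 - n) (5 - n) = Nat.choose (Fintype.card α - n) (5 - n) →
        0 < Nat.choose (6 - n) (5 - n) →
        ∑ x ∈ blocksThrough B s, Nat.choose (x ∩ (b \ s)).card i =
          Nat.choose (b \ s).card i * lam := by
      intro i n lam hn hi h1 h2
      exact sum_choose_inter_through_eq 5 6 B hB s (b \ s) hdisj i n hn hi lam h1 h2
    have hbs : (b \ s).card = 6 - s.card := by
      rw [Finset.card_sdiff_of_subset hs, hB.1 b hb]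
    refine ⟨?_, ?_, ?_⟩
    · intro h2
      rw [h2] at hbs
      have e0 := hT 0 2 30 (by rw [h2]) (by norm_num) (by rw [hα]; decide) (by decide)
      have e1 := hT 1 3 12 (by rw [h2]) (by norm_num) (by rw [hα]; decide) (by decide)
      have e2 := hT 2 4 4 (by rw [h2]) (by norm_num) (by rw [hα]; decide) (by decide)
      rw [hbs] at e0 e1 e2
      have key := exact_count hα hB b hb s hs
        (fun μ => 2 * (Nat.choose μ 2 : ℤ) - 2 * (Nat.choose μ 1 : ℤ) + 2 * (Nat.choose μ 0 : ℤ))
        2 h2 (by norm_num) (by norm_num)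
        (by intro μ h0 hle; interval_cases μ <;> simp [Nat.choose]) 12
        (by
          rw [Finset.sum_add_distrib, Finset.sum_sub_distrib, ← Finset.mul_sum, ← Finset.mul_sum,
            ← Finset.mul_sum, ← Nat.cast_sum, ← Nat.cast_sum, ← Nat.cast_sum, e0, e1, e2]
          norm_num [Nat.choose])
      norm_num [Nat.choose] at key
      omega
    · intro h3
      rw [h3] at hbs
      have e0 := hT 0 3 12 (by rw [h3]) (by norm_num) (by rw [hα]; decide) (by decide)
      have e1 := hT 1 4 4 (by rw [h3]) (by norm_num) (by rw [hα]; decide) (by decide)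
      rw [hbs] at e0 e1
      have key := exact_count hα hB b hb s hs
        (fun μ => (Nat.choose μ 0 : ℤ) - (Nat.choose μ 1 : ℤ))
        3 h3 (by norm_num) (by norm_num)
        (by intro μ h0 hle; interval_cases μ <;> simp [Nat.choose]) 0
        (by
          rw [Finset.sum_sub_distrib, ← Nat.cast_sum, ← Nat.cast_sum, e0, e1]
          norm_num [Nat.choose])
      norm_num [Nat.choose] at key
      omega
    · intro h4
      rw [h4] at hbs
      have e0 := hT 0 4 4 (by rw [h4]) (by norm_num) (by rw [hα]; decide) (by decide)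
      rw [hbs] at e0
      have key := exact_count hα hB b hb s hs
        (fun μ => (Nat.choose μ 0 : ℤ))
        4 h4 (by norm_num) (by norm_num)
        (by intro μ h0 hle; omega) 4
        (by
          rw [← Nat.cast_sum, e0]
          norm_num [Nat.choose])
      norm_num [Nat.choose] at key
      omega

end Cfsg.Agent.S1595
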