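import Cfsg.Statements.S1606
-- import your own Cfsg.Agent.* helpers here
import Cfsg.Agent.Lib.Helper14.M22IdxB

set_option autoImplicit false
open scoped Pointwise
open Cfsg

namespace Cfsg.Agent.S1606

open Cfsg.Agent.Lib.Helper14.M22Idx

/-- flat version for arbitrary points -/
theorem flat (p q : Cfsg.GolayPt) (hpq : p ≠ q) (H : Subgroup (Equiv.Perm GolayPt))
    (hH : H ≤ M24 ⊓ MulAction.stabilizer (Equiv.Perm GolayPt) p ⊓
      MulAction.stabilizer (Equiv.Perm GolayPt) q) :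
    Nat.card ↥H ≠ 7920 ∧ Nat.card ↥H ≠ 2112 := by
  obtain ⟨σ, hσ, hσp, hσq⟩ := Cfsg.Agent.Lib.Helper3.Golay.exists_map_two (p := p) (p' := q)
    (q := (none : GolayPt)) (q' := (some 0 : GolayPt)) hpq (by decide)
  have hle : cj σ H ≤ G22 := by
    intro g hg
    have h1 := hH (mem_cj.mp hg)
    rw [Subgroup.mem_inf, Subgroup.mem_inf, MulAction.mem_stabilizer_iff,
      MulAction.mem_stabilizer_iff] at h1
    obtain ⟨⟨hM, hp⟩, hq⟩ := h1
    rw [mem_G22]
    have hgM : g ∈ M24 := by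
      have := M24.mul_mem (M24.mul_mem hσ hM) (M24.inv_mem hσ)
      have e : σ * (σ⁻¹ * g * σ) * σ⁻¹ = g := by group
      rwa [e] at this
    refine ⟨hgM, ?_, ?_⟩
    · have h2 : (σ⁻¹ * g * σ) p = p := hp
      simp only [Equiv.Perm.mul_apply, hσp] at h2
      have := congrArg σ h2
      simpa [hσp] using this
    · have h2 : (σ⁻¹ * g * σ) q = q := hq
      simp only [Equiv.Perm.mul_apply, hσq] at h2
      have := congrArg σ h2
      simpa [hσq] using this
  have h1 := no7920 (cj σ H) hle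
  have h2 := no2112 (cj σ H) hle
  rw [card_cj] at h1 h2
  exact ⟨h1, h2⟩

theorem key (p q : Cfsg.GolayPt) (hpq : p ≠ q) (K : Subgroup ↥Cfsg.M24)
    (hK : K = MulAction.stabilizer Cfsg.M24 p ⊓ MulAction.stabilizer Cfsg.M24 q)
    (H : Subgroup ↥K) : H.index ≠ 56 ∧ H.index ≠ 210 := by
  -- the flat copy of `H`
  let φ : ↥K →* Equiv.Perm GolayPt := (Cfsg.M24.subtype).comp K.subtype
  have hφ : Function.Injective φ := by
    intro a b hab
    apply Subtype.ext
    apply Subtype.ext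
    exact hab
  have hrange : φ.range = M24 ⊓ MulAction.stabilizer (Equiv.Perm GolayPt) p ⊓
      MulAction.stabilizer (Equiv.Perm GolayPt) q := by
    ext g
    rw [MonoidHom.mem_range, Subgroup.mem_inf, Subgroup.mem_inf, MulAction.mem_stabilizer_iff,
      MulAction.mem_stabilizer_iff]
    constructor
    · rintro ⟨k, rfl⟩
      have hk : (k : ↥Cfsg.M24) ∈
          MulAction.stabilizer Cfsg.M24 p ⊓ MulAction.stabilizer Cfsg.M24 q := hK ▸ k.2
      rw [Subgroup.mem_inf, MulAction.mem_stabilizer_iff, MulAction.mem_stabilizer_iff] at hk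
      exact ⟨⟨k.1.2, hk.1⟩, hk.2⟩
    · rintro ⟨⟨hM, hp⟩, hq⟩
      refine ⟨⟨⟨g, hM⟩, ?_⟩, rfl⟩
      rw [hK, Subgroup.mem_inf, MulAction.mem_stabilizer_iff, MulAction.mem_stabilizer_iff]
      exact ⟨hp, hq⟩
  have hcardK : Nat.card ↥K = 443520 := by
    rw [← Cfsg.Agent.Lib.Helper3.Golay.card_stab_two hpq, ← hrange]
    exact Nat.card_congr (Equiv.ofInjective φ hφ)
  have hcardH : Nat.card ↥(H.map φ) = Nat.card ↥H := Subgroup.card_map_of_injective hφ
  have hle : H.map φ ≤ M24 ⊓ MulAction.stabilizer (Equiv.Perm GolayPt) p ⊓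
      MulAction.stabilizer (Equiv.Perm GolayPt) q := by
    rw [← hrange]
    rintro _ ⟨h, _, rfl⟩
    exact ⟨h, rfl⟩
  obtain ⟨h1, h2⟩ := flat p q hpq (H.map φ) hle
  rw [hcardH] at h1 h2
  have hidx : Nat.card ↥H * H.index = 443520 := by rw [Subgroup.card_mul_index, hcardK]
  constructor
  · intro h
    rw [h] at hidx
    apply h1
    omega
  · intro h
    rw [h] at hidx
    apply h2
    omega

/-- The stabiliser of two points in the group of the length-24 code has no subgroups of index 56 or 210. -/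
theorem result (p q : Cfsg.GolayPt) (hpq : p ≠ q) (H : Subgroup ↥(MulAction.stabilizer Cfsg.M24 p ⊓ MulAction.stabilizer Cfsg.M24 q)) : H.index ≠ 56 ∧ H.index ≠ 210 := by
  exact key p q hpq _ rfl H

end Cfsg.Agent.S1606
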