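import Cfsg.Statements.S1609
-- import your own Cfsg.Agent.* helpers here
import Cfsg.Agent.Lib.Helper14.M23IdxC

set_option autoImplicit false
open scoped Pointwise
open Cfsg

namespace Cfsg.Agent.S1609

open Cfsg.Agent.Lib.Helper3.Golay Cfsg.Agent.Lib.Helper14.M23Idx in
/-- transport of the flat form to subgroups of the stabiliser in `↥M24` -/
theorem transport (x : GolayPt) (H : Subgroup ↥(MulAction.stabilizer M24 x)) (hH : H.index = 253) :
    ∃ K : Subgroup (Equiv.Perm GolayPt),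
      K ≤ M24 ⊓ MulAction.stabilizer (Equiv.Perm GolayPt) x ∧ Nat.card ↥K = 40320 ∧
      ∀ h : ↥(MulAction.stabilizer M24 x), h ∈ H ↔ ((h : ↥M24) : Equiv.Perm GolayPt) ∈ K := by
  let f : ↥(MulAction.stabilizer M24 x) →* Equiv.Perm GolayPt :=
    M24.subtype.comp (MulAction.stabilizer M24 x).subtype
  have hf : Function.Injective f := by
    intro a b h
    exact Subtype.ext (Subtype.ext h)
  refine ⟨H.map f, ?_, ?_, ?_⟩
  · rintro _ ⟨h, -, rfl⟩
    refine Subgroup.mem_inf.mpr ⟨h.1.2, ?_⟩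
    rw [MulAction.mem_stabilizer_iff]
    exact h.2
  · rw [Subgroup.card_map_of_injective hf]
    have h1 := H.card_mul_index
    rw [hH, card_stabilizer_eq M24 x, card_stab_point] at h1
    omega
  · intro h
    exact (Subgroup.mem_map_iff_mem hf).symm

/-- Subgroups of index 253 in the Mathieu group of degree 23 are exactly the duad stabilisers and the heptad stabilisers. -/
theorem result (x : Cfsg.GolayPt) (H : Subgroup ↥(MulAction.stabilizer Cfsg.M24 x)) (hH : H.index = 253) : (∃ s : Finset Cfsg.GolayPt, s.card = 2 ∧ x ∉ s ∧ H = (MulAction.stabilizer Cfsg.M24 s).subgroupOf (MulAction.stabilizer Cfsg.M24 x)) ∨ ∃ o ∈ Cfsg.octads, x ∈ o ∧ H = (MulAction.stabilizer Cfsg.M24 o).subgroupOf (MulAction.stabilizer Cfsg.M24 x) := by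
  obtain ⟨K, hKle, hcardK, hmem⟩ := transport x H hH
  rcases Cfsg.Agent.Lib.Helper14.M23Idx.flat x K hKle hcardK with ⟨s, hs, hxs, hKs⟩ | ⟨o, ho, hxo, hKo⟩
  · left
    refine ⟨s, hs, hxs, ?_⟩
    ext h
    rw [hmem, hKs, Subgroup.mem_subgroupOf, MulAction.mem_stabilizer_iff]
    constructor
    · intro hm
      exact hm.2
    · intro hm
      exact Subgroup.mem_inf.mpr ⟨Subgroup.mem_inf.mpr ⟨h.1.2, h.2⟩, hm⟩
  · right
    refine ⟨o, ho, hxo, ?_⟩
    ext h
    rw [hmem, hKo, Subgroup.mem_subgroupOf, MulAction.mem_stabilizer_iff]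
    constructor
    · intro hm
      exact hm.2
    · intro hm
      exact Subgroup.mem_inf.mpr ⟨Subgroup.mem_inf.mpr ⟨h.1.2, h.2⟩, hm⟩

end Cfsg.Agent.S1609
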