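import Cfsg.Statements.S1610
-- import your own Cfsg.Agent.* helpers here
import Cfsg.Agent.Lib.Helper14.GF4

set_option autoImplicit false
open Cfsg

namespace Cfsg.Agent.S1610

open Cfsg.Agent.Lib.Helper14.GF4

/-- the parametrisation of the code -/
def Psi {F : Type*} [Field F] (ω : F) (t : Fin 4 × Fin 4 × Fin 4) : Fin 6 → F :=
  fun i => E ω (wordN t.1 t.2.1 t.2.2 i)

/-- weight in the table model -/
def wtN (t : Fin 4 × Fin 4 × Fin 4) : ℕ :=
  (Finset.univ.filter fun i => wordN t.1 t.2.1 t.2.2 i ≠ 0).card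

set_option maxRecDepth 100000 in
theorem wordN_inj : ∀ a b c a' b' c' : Fin 4, wordN a b c = wordN a' b' c' →
    a = a' ∧ b = b' ∧ c = c' := by
  decide +kernel

theorem wtN_cases : ∀ t : Fin 4 × Fin 4 × Fin 4, wtN t = 0 ∨ wtN t = 4 ∨ wtN t = 6 := by
  decide +kernel

theorem wtN_zero : ∀ t : Fin 4 × Fin 4 × Fin 4, wtN t = 0 → t = (0, 0, 0) := by
  decide +kernel

theorem cnt4 : (Finset.univ.filter fun t : Fin 4 × Fin 4 × Fin 4 => wtN t = 4).card = 45 := by
  decide +kernel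

theorem cnt6 : (Finset.univ.filter fun t : Fin 4 × Fin 4 × Fin 4 => wtN t = 6).card = 18 := by
  decide +kernel

section
variable {F : Type*} [Field F] [Fintype F] [DecidableEq F]

theorem Psi_injective (hF : Fintype.card F = 4) {ω : F} (hω : ω ^ 2 + ω + 1 = 0) :
    Function.Injective (Psi ω) := by
  rintro ⟨a, b, c⟩ ⟨a', b', c'⟩ h
  have hw : wordN a b c = wordN a' b' c' := by
    funext i
    exact E_injective hF hω (congrFun h i)
  obtain ⟨h1, h2, h3⟩ := wordN_inj _ _ _ _ _ _ hw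
  rw [h1, h2, h3]

theorem range_Psi (hF : Fintype.card F = 4) {ω : F} (hω : ω ^ 2 + ω + 1 = 0) :
    Set.range (Psi ω) = (Cfsg.hexacode F ω : Set (Fin 6 → F)) := by
  ext x
  rw [SetLike.mem_coe, mem_hexacode_iff hF hω]
  constructor
  · rintro ⟨⟨a, b, c⟩, rfl⟩
    exact ⟨a, b, c, rfl⟩
  · rintro ⟨a, b, c, rfl⟩
    exact ⟨(a, b, c), rfl⟩

theorem wt_Psi (hF : Fintype.card F = 4) {ω : F} (hω : ω ^ 2 + ω + 1 = 0)
    (t : Fin 4 × Fin 4 × Fin 4) :
    (Finset.univ.filter fun i => Psi ω t i ≠ 0).card = wtN t := by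
  unfold wtN
  congr 1
  ext i
  simp only [Finset.mem_filter, Finset.mem_univ, true_and, Psi, ne_eq, E_eq_zero_iff hF hω]

theorem weight_set (hF : Fintype.card F = 4) {ω : F} (hω : ω ^ 2 + ω + 1 = 0) (n : ℕ) :
    {x : Fin 6 → F | x ∈ Cfsg.hexacode F ω ∧ (Finset.univ.filter fun i => x i ≠ 0).card = n}.ncard
      = (Finset.univ.filter fun t : Fin 4 × Fin 4 × Fin 4 => wtN t = n).card := by
  have : {x : Fin 6 → F | x ∈ Cfsg.hexacode F ω ∧ (Finset.univ.filter fun i => x i ≠ 0).card = n}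
      = Psi ω '' ↑(Finset.univ.filter fun t : Fin 4 × Fin 4 × Fin 4 => wtN t = n) := by
    ext x
    simp only [Set.mem_ofPred_eq, Set.mem_image, Finset.coe_filter, Finset.mem_univ, true_and]
    constructor
    · rintro ⟨hx, hn⟩
      rw [← SetLike.mem_coe, ← range_Psi hF hω] at hx
      obtain ⟨t, rfl⟩ := hx
      exact ⟨t, by rw [← wt_Psi hF hω]; exact hn, rfl⟩
    · rintro ⟨t, ht, rfl⟩
      refine ⟨?_, by rw [wt_Psi hF hω]; exact ht⟩
      rw [← SetLike.mem_coe, ← range_Psi hF hω]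
      exact ⟨t, rfl⟩
  rw [this, Set.ncard_image_of_injective _ (Psi_injective hF hω), Set.ncard_coe_finset]

end

/-- The hexacode has 64 words, minimum weight 4, and weight distribution 0^1 4^45 6^18. -/
theorem result (F : Type*) [Field F] [Fintype F] [DecidableEq F] (hF : Fintype.card F = 4) (ω : F) (hω : ω ^ 2 + ω + 1 = 0) : Nat.card ↥(Cfsg.hexacode F ω) = 64 ∧ (∀ x ∈ Cfsg.hexacode F ω, x ≠ 0 → (Finset.univ.filter fun i => x i ≠ 0).card = 4 ∨ (Finset.univ.filter fun i => x i ≠ 0).card = 6) ∧ {x : Fin 6 → F | x ∈ Cfsg.hexacode F ω ∧ (Finset.univ.filter fun i => x i ≠ 0).card = 4}.ncard = 45 ∧ {x : Fin 6 → F | x ∈ Cfsg.hexacode F ω ∧ (Finset.univ.filter fun i => x i ≠ 0).card = 6}.ncard = 18 := by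
  refine ⟨?_, ?_, ?_, ?_⟩
  · have h1 : Nat.card ↥(Cfsg.hexacode F ω) = Nat.card (Set.range (Psi ω)) := by
      rw [range_Psi hF hω]; rfl
    rw [h1, Nat.card_range_of_injective (Psi_injective hF hω)]
    simp
  · intro x hx h0
    rw [← SetLike.mem_coe, ← range_Psi hF hω] at hx
    obtain ⟨t, rfl⟩ := hx
    rw [wt_Psi hF hω]
    rcases wtN_cases t with h | h | h
    · exfalso
      apply h0
      rw [wtN_zero t h]
      funext i
      have hw : ∀ i, wordN 0 0 0 i = 0 := by decide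
      show E ω (wordN 0 0 0 i) = 0
      rw [hw i]; rfl
    · left; exact h
    · right; exact h
  · rw [weight_set hF hω, cnt4]
  · rw [weight_set hF hω, cnt6]

end Cfsg.Agent.S1610
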