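import Cfsg.Statements.S1618
import Mathlib
import Cfsg.Agent.Lib.Helper2.ZStarOddP

set_option autoImplicit false
open Cfsg
open scoped commutatorElement

namespace Cfsg.Agent.S1618

/-- A group generated by a class of involutions whose pairwise products (of distinct members) have p-power order for a fixed odd prime p has nilpotent derived subgroup. -/
theorem result {G : Type*} [Group G] [Finite G] (p : ℕ) (hp : p.Prime) (hodd : p ≠ 2) {D : Set G} (hinv : ∀ d ∈ D, orderOf d = 2) (hconj : ∃ d ∈ D, D = conjugatesOf d) (hgen : Subgroup.closure D = ⊤) (hprod : ∀ x ∈ D, ∀ y ∈ D, x ≠ y → ∃ k : ℕ, orderOf (x * y) = p ^ k) : Group.IsNilpotent ↥(commutator G) := by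
  classical
  haveI : Fact p.Prime := ⟨hp⟩
  obtain ⟨d₀, hd₀, hD⟩ := hconj
  have hd2 : orderOf d₀ = 2 := hinv d₀ hd₀
  have hsq : ∀ e ∈ D, e * e = 1 := by
    intro e he
    have := pow_orderOf_eq_one e
    rwa [hinv e he, pow_two] at this
  have hprod' : ∀ a ∈ conjugatesOf d₀, ∀ b ∈ conjugatesOf d₀, ∃ k : ℕ, orderOf (a * b) = p ^ k := by
    intro a ha b hb
    rw [← hD] at ha hb
    by_cases hab : a = b
    · refine ⟨0, ?_⟩
      rw [hab, hsq b hb, orderOf_one, pow_zero]
    · exact hprod a ha b hb hab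
  have hN := Cfsg.Agent.Lib.Helper2.ZStarOddP.mul_mem_pCore hodd hd2 hprod'
  haveI hNn : (Cfsg.pCore p G).Normal := Cfsg.Agent.Lib.Helper1.pCore_normal p G
  have hNp : IsPGroup p (Cfsg.pCore p G) := Cfsg.Agent.Lib.Helper1.pCore_isPGroup p G
  -- the quotient is cyclic
  have htop : (⊤ : Subgroup (G ⧸ Cfsg.pCore p G)) =
      Subgroup.zpowers (QuotientGroup.mk d₀ : G ⧸ Cfsg.pCore p G) := by
    rw [← Subgroup.map_top_of_surjective (QuotientGroup.mk' (Cfsg.pCore p G))
      (QuotientGroup.mk'_surjective _), ← hgen, MonoidHom.map_closure]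
    apply le_antisymm
    · rw [Subgroup.closure_le]
      rintro _ ⟨e, he, rfl⟩
      have h1 : (QuotientGroup.mk e : G ⧸ Cfsg.pCore p G) = QuotientGroup.mk d₀ := by
        rw [QuotientGroup.eq]
        have h2 : e⁻¹ = e := inv_eq_of_mul_eq_one_left (hsq e he)
        rw [h2]
        have he' : e ∈ conjugatesOf d₀ := by rw [← hD]; exact he
        exact hN e he' d₀ mem_conjugatesOf_self
      show (QuotientGroup.mk e : G ⧸ Cfsg.pCore p G) ∈ _
      rw [h1]
      exact Subgroup.mem_zpowers _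
    · rw [Subgroup.zpowers_le]
      exact Subgroup.subset_closure ⟨d₀, hd₀, rfl⟩
  have hcomm : ∀ a b : G ⧸ Cfsg.pCore p G, a * b = b * a := by
    intro a b
    have ha : a ∈ Subgroup.zpowers (QuotientGroup.mk d₀ : G ⧸ Cfsg.pCore p G) := by
      rw [← htop]; exact Subgroup.mem_top a
    have hb : b ∈ Subgroup.zpowers (QuotientGroup.mk d₀ : G ⧸ Cfsg.pCore p G) := by
      rw [← htop]; exact Subgroup.mem_top b
    obtain ⟨m, rfl⟩ := ha
    obtain ⟨n, rfl⟩ := hb
    exact (Commute.zpow_zpow_self _ m n)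
  have hle : commutator G ≤ Cfsg.pCore p G := by
    rw [commutator_def, Subgroup.commutator_le]
    intro x _ y _
    rw [← QuotientGroup.eq_one_iff]
    have : (QuotientGroup.mk ⁅x, y⁆ : G ⧸ Cfsg.pCore p G) =
        ⁅(QuotientGroup.mk x : G ⧸ Cfsg.pCore p G), QuotientGroup.mk y⁆ :=
      map_commutatorElement (QuotientGroup.mk' (Cfsg.pCore p G)) x y
    rw [this, commutatorElement_eq_one_iff_mul_comm]
    exact hcomm _ _
  haveI : Group.IsNilpotent (Cfsg.pCore p G) := hNp.isNilpotent
  apply Subgroup.isNilpotent_of_ker_le_center (Subgroup.inclusion hle)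
  rw [(Subgroup.inclusion hle).ker_eq_bot_iff.mpr (Subgroup.inclusion_injective hle)]
  exact bot_le

end Cfsg.Agent.S1618
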