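import Cfsg.Statements.S1631
import Mathlib
import Cfsg.Agent.Lib.Helper5.SUGen
import Cfsg.Agent.S2644

set_option autoImplicit false
open scoped MatrixGroups
open Cfsg

namespace Cfsg.Agent.S1631

section Aux
set_option linter.unusedSectionVars false
set_option linter.unusedVariables false
set_option linter.unusedSimpArgs false
namespace S1631aux
open Cfsg Matrix Cfsg.Agent.Lib.Helper14 Cfsg.Agent.Lib.Helper5.SpMax
  Cfsg.Agent.Lib.Helper5.UForm Cfsg.Agent.Lib.Helper5.UEichler Cfsg.Agent.Lib.Helper5.HermBridge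
  Cfsg.Agent.Lib.Helper5.SUGen

variable {F : Type} [Field F] [Fintype F] {n : ℕ}

lemma two_eq_zero (hF : Fintype.card F = 4) : (2 : F) = 0 := by
  have h2 := FiniteField.pow_card (2 : F)
  have h3 := FiniteField.pow_card (3 : F)
  rw [hF] at h2 h3
  linear_combination 2 * h3 - 11 * h2

lemma card_sq (hF : Fintype.card F = 4) : Fintype.card F = 2 ^ 2 := by rw [hF]; norm_num

lemma cube_eq_one (hF : Fintype.card F = 4) {c : F} (hc : c ≠ 0) : c ^ 3 = 1 := by
  have := FiniteField.pow_card_sub_one_eq_one c hc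
  rwa [hF] at this

lemma skew_eq_one (hF : Fintype.card F = 4) {c : F} (hc0 : c ≠ 0)
    (hc : frobQ (card_sq hF) c = -c) : c = 1 := by
  rw [frobQ_apply] at hc
  have h2 := two_eq_zero hF
  have h1 : c * (c - 1) = 0 := by linear_combination hc - c * h2
  rcases mul_eq_zero.mp h1 with h | h
  · exact absurd h hc0
  · exact sub_eq_zero.mp h

/-- `g` is the transvection `x ↦ x + h(x, a) a` -/
def IsT (g : ↥(Cfsg.SU n F 2)) (a : Fin n → F) : Prop :=
  ∀ x, av g x = x + Cfsg.hermForm n F 2 x a • a

omit [Fintype F] in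
lemma rank_zero_imp (N : Matrix (Fin n) (Fin n) F) (hr : N.rank = 0) : N = 0 := by
  have hr' : Module.finrank F (LinearMap.range N.mulVecLin) = 0 := hr
  have h1 : LinearMap.range N.mulVecLin = ⊥ := Submodule.finrank_eq_zero.mp hr'
  apply mat_eq_of_mulVec
  intro x
  have h2 : N.mulVecLin x ∈ LinearMap.range N.mulVecLin := LinearMap.mem_range_self _ x
  rw [h1, Submodule.mem_bot] at h2
  rw [Matrix.zero_mulVec]
  exact h2

/-- transvections have `g - 1` of rank one -/
lemma rank_of_IsT (hF : Fintype.card F = 4) {g : ↥(Cfsg.SU n F 2)} {a : Fin n → F} (ha : a ≠ 0)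
    (hg : IsT g a) :
    (((g : Matrix.SpecialLinearGroup (Fin n) F) : Matrix (Fin n) (Fin n) F) - 1).rank = 1 := by
  have hf := herm_unitary (n := n) (card_sq hF)
  have hM : ((g : Matrix.SpecialLinearGroup (Fin n) F) : Matrix (Fin n) (Fin n) F) - 1
      = Matrix.vecMulVec a (fun j => a j ^ 2) := by
    apply mat_eq_of_mulVec
    intro x
    have h1 := hg x
    unfold av at h1
    rw [Matrix.sub_mulVec, Matrix.one_mulVec, h1, Matrix.vecMulVec_mulVec, pow_dot]
    ext i
    simp only [Pi.add_apply, Pi.sub_apply, Pi.smul_apply, smul_eq_mul,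
      MulOpposite.smul_eq_mul_unop, MulOpposite.unop_op]
    ring
  have h1 : (((g : Matrix.SpecialLinearGroup (Fin n) F) : Matrix (Fin n) (Fin n) F) - 1).rank ≤ 1 := by
    rw [hM]; exact Matrix.rank_vecMulVec_le _ _
  have h2 : (((g : Matrix.SpecialLinearGroup (Fin n) F) : Matrix (Fin n) (Fin n) F) - 1).rank ≠ 0 := by
    intro h0
    have h3 := rank_zero_imp _ h0
    obtain ⟨x, hx⟩ := (hf.nondegenerate a ha).1
    have h4 := hg x
    unfold av at h4
    have h5 : (((g : Matrix.SpecialLinearGroup (Fin n) F) : Matrix (Fin n) (Fin n) F) - 1) *ᵥ x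
        = Cfsg.hermForm n F 2 x a • a := by
      rw [Matrix.sub_mulVec, Matrix.one_mulVec, h4]; abel
    rw [h3, Matrix.zero_mulVec] at h5
    rcases smul_eq_zero.mp h5.symm with h | h
    · exact hx h
    · exact ha h
  omega

/-- elements of `SU` with `g - 1` of rank one are transvections (matrix form) -/
lemma isTransvection_of_rank (g : ↥(Cfsg.SU n F 2))
    (hr : (((g : Matrix.SpecialLinearGroup (Fin n) F) : Matrix (Fin n) (Fin n) F) - 1).rank = 1) :
    Cfsg.IsTransvection ((g : Matrix.SpecialLinearGroup (Fin n) F) : Matrix (Fin n) (Fin n) F) := by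
  refine ⟨hr, ?_⟩
  obtain ⟨a, φ, ha, hN⟩ := Cfsg.Agent.S2644.S2644aux.rank_one_form _ hr
  obtain ⟨r, hrdef⟩ : ∃ r : Fin n → F, r = fun j => φ (Pi.single j 1) := ⟨_, rfl⟩
  have hdot : ∀ x : Fin n → F, r ⬝ᵥ x = φ x := by
    intro x
    have hx : x = ∑ i, x i • (Pi.single i (1 : F) : Fin n → F) := by
      ext j
      simp [Finset.sum_apply, Pi.single_apply]
    conv_rhs => rw [hx, map_sum]
    simp only [dotProduct, hrdef, map_smul, smul_eq_mul]
    apply Finset.sum_congr rfl
    intro i _
    ring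
  have hM : ((g : Matrix.SpecialLinearGroup (Fin n) F) : Matrix (Fin n) (Fin n) F)
      = 1 + Matrix.vecMulVec a r := by
    have h1 : ((g : Matrix.SpecialLinearGroup (Fin n) F) : Matrix (Fin n) (Fin n) F) - 1
        = Matrix.vecMulVec a r := by
      apply mat_eq_of_mulVec
      intro x
      rw [hN x, Matrix.vecMulVec_mulVec, hdot]
      ext i
      simp only [Pi.smul_apply, smul_eq_mul, MulOpposite.smul_eq_mul_unop, MulOpposite.unop_op]
      ring
    rw [← h1]; abel
  have hdet := (g : Matrix.SpecialLinearGroup (Fin n) F).2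
  rw [hM, det_rank_one, hdot] at hdet
  have hφa : φ a = 0 := by linear_combination hdet
  apply mat_eq_of_mulVec
  intro x
  rw [← Matrix.mulVec_mulVec, hN x, Matrix.mulVec_smul, hN a, hφa, zero_smul, smul_zero,
    Matrix.zero_mulVec]

/-- elements of `SU_n(2)` with `g - 1` of rank one are the maps `x ↦ x + h(x, a) a` -/
lemma exists_IsT (hF : Fintype.card F = 4) (g : ↥(Cfsg.SU n F 2))
    (hr : (((g : Matrix.SpecialLinearGroup (Fin n) F) : Matrix (Fin n) (Fin n) F) - 1).rank = 1) :
    ∃ a : Fin n → F, a ≠ 0 ∧ Cfsg.hermForm n F 2 a a = 0 ∧ IsT g a := by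
  have hF2 := card_sq hF
  have hf := herm_unitary (n := n) hF2
  obtain ⟨a, c, ha, hc0, haa, hM⟩ := Cfsg.Agent.S2644.S2644aux.tv_form hF2
    ((g : Matrix.SpecialLinearGroup (Fin n) F) : Matrix (Fin n) (Fin n) F) (fun x y => g.2 x y)
    (isTransvection_of_rank g hr)
  have hgx : ∀ x, av g x = x + (c * Cfsg.hermForm n F 2 x a) • a := by
    intro x; unfold av; rw [hM, ut_mulVec]
  have hskew : frobQ hF2 c = -c := by
    obtain ⟨x, hx⟩ := (hf.nondegenerate a ha).1
    have h1 := av_iso g x x
    rw [hgx, u_expand hf, haa, mul_zero, add_zero, hf.herm a x, map_mul] at h1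
    have h2 : (frobQ hF2 c + c) * (Cfsg.hermForm n F 2 x a *
        frobQ hF2 (Cfsg.hermForm n F 2 x a)) = 0 := by linear_combination h1
    rcases mul_eq_zero.mp h2 with h | h
    · linear_combination h
    · exfalso
      rcases mul_eq_zero.mp h with h' | h'
      · exact hx h'
      · exact hx ((map_eq_zero (frobQ hF2)).mp h')
  have hc1 := skew_eq_one hF hc0 hskew
  refine ⟨a, ha, haa, fun x => ?_⟩
  rw [hgx, hc1, one_mul]

omit [Fintype F] in
lemma IsT_unique {g g' : ↥(Cfsg.SU n F 2)} {a : Fin n → F} (hg : IsT g a) (hg' : IsT g' a) :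
    g = g' := by
  apply av_ext
  intro x
  rw [hg x, hg' x]

lemma IsT_sq (hF : Fintype.card F = 4) {g : ↥(Cfsg.SU n F 2)} {a : Fin n → F}
    (haa : Cfsg.hermForm n F 2 a a = 0) (hg : IsT g a) : g * g = 1 := by
  have hf := herm_unitary (n := n) (card_sq hF)
  have h2 := two_eq_zero hF
  apply av_ext
  intro x
  rw [av_mul, hg x, hg, av_one, hf.add_left, hf.smul_left, haa, mul_zero, add_zero]
  have h3 : x + Cfsg.hermForm n F 2 x a • a + Cfsg.hermForm n F 2 x a • a
      = x + ((2 : F) * Cfsg.hermForm n F 2 x a) • a := by module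
  rw [h3, h2, zero_mul, zero_smul, add_zero]

lemma IsT_ne_one (hF : Fintype.card F = 4) {g : ↥(Cfsg.SU n F 2)} {a : Fin n → F} (ha : a ≠ 0)
    (hg : IsT g a) : g ≠ 1 := by
  have hf := herm_unitary (n := n) (card_sq hF)
  intro h1
  obtain ⟨x, hx⟩ := (hf.nondegenerate a ha).1
  have h2 := hg x
  rw [h1, av_one, left_eq_add] at h2
  rcases smul_eq_zero.mp h2 with h | h
  · exact hx h
  · exact ha h

lemma IsT_conj (hF : Fintype.card F = 4) (c : ↥(Cfsg.SU n F 2)) {g : ↥(Cfsg.SU n F 2)}
    {a : Fin n → F} (hg : IsT g a) : IsT (c * g * c⁻¹) (av c a) := by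
  intro x
  rw [av_mul, av_mul, hg, av_add, av_smul, av_av_inv]
  have h3 : Cfsg.hermForm n F 2 (av c⁻¹ x) a = Cfsg.hermForm n F 2 x (av c a) := by
    have := av_iso c (av c⁻¹ x) a
    rw [av_av_inv] at this
    exact this.symm
  rw [h3]

lemma IsT_smul (hF : Fintype.card F = 4) {g : ↥(Cfsg.SU n F 2)} {a : Fin n → F} (hg : IsT g a)
    {l : F} (hl : l * frobQ (card_sq hF) l = 1) : IsT g (l • a) := by
  have hf := herm_unitary (n := n) (card_sq hF)
  intro x
  rw [hg x, u_smul_right hf, smul_smul]
  congr 2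
  linear_combination (-(Cfsg.hermForm n F 2 x a)) * hl

theorem main (hF : Fintype.card F = 4) (hn : 4 ≤ n) :
    Cfsg.IsThreeTranspositionClass {g : ↥(Cfsg.SU n F 2) |
      (((g : Matrix.SpecialLinearGroup (Fin n) F) : Matrix (Fin n) (Fin n) F) - 1).rank = 1} := by
  have hF2 := card_sq hF
  have hf := herm_unitary (n := n) hF2
  have h2 := two_eq_zero hF
  have htop : Module.finrank F (⊤ : Submodule F (Fin n → F)) = n := by
    rw [finrank_top, Module.finrank_fin_fun]
  have h1skew : frobQ hF2 (1 : F) = -1 := by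
    rw [map_one]; linear_combination h2
  refine ⟨⟨?_, ?_⟩, ?_, ?_⟩
  · -- order two
    intro d hd
    obtain ⟨a, ha, haa, hda⟩ := exists_IsT hF d hd
    have : Fact (Nat.Prime 2) := ⟨Nat.prime_two⟩
    apply orderOf_eq_prime
    · rw [pow_two]; exact IsT_sq hF haa hda
    · exact IsT_ne_one hF ha hda
  · -- products
    intro d hd e he
    obtain ⟨a, ha, haa, hda⟩ := exists_IsT hF d hd
    obtain ⟨b, hb, hbb, heb⟩ := exists_IsT hF e he
    have hdd := IsT_sq hF haa hda
    have hee := IsT_sq hF hbb heb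
    have hdinv : d⁻¹ = d := inv_eq_of_mul_eq_one_right hdd
    have heinv : e⁻¹ = e := inv_eq_of_mul_eq_one_right hee
    by_cases hab : Cfsg.hermForm n F 2 a b = 0
    · left
      have h3 : av e a = a := by rw [heb a, hab, zero_smul, add_zero]
      have h4 := IsT_conj hF e hda
      rw [h3] at h4
      have h5 : e * d * e⁻¹ = d := IsT_unique h4 hda
      rw [heinv] at h5
      have h6 : (d * e) ^ 2 = d * (e * d * e) := by rw [pow_two]; simp only [mul_assoc]
      rw [h6, h5]
      exact hdd
    · right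
      obtain ⟨α, hαdef⟩ : ∃ α, α = Cfsg.hermForm n F 2 a b := ⟨_, rfl⟩
      rw [← hαdef] at hab
      have hba : Cfsg.hermForm n F 2 b a = frobQ hF2 α := by rw [hαdef]; exact hf.herm b a
      have hN : α * frobQ hF2 α = 1 := by
        rw [frobQ_apply]
        have := cube_eq_one hF hab
        linear_combination this
      have h3 : av e a = a + α • b := by rw [heb a, ← hαdef]
      have h4 : av d b = b + frobQ hF2 α • a := by rw [hda b, hba]
      have h5 := IsT_conj hF e hda
      have h6 := IsT_smul hF (IsT_conj hF d heb) hN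
      have h7 : α • av d b = av e a := by
        rw [h3, h4, smul_add, smul_smul, hN, one_smul, add_comm]
      rw [h7] at h6
      have h8 : d * e * d⁻¹ = e * d * e⁻¹ := IsT_unique h6 h5
      rw [hdinv, heinv] at h8
      have h9 : (d * e) ^ 3 = (d * e * d) * (e * d * e) := by
        rw [pow_succ, pow_two]; simp only [mul_assoc]
      rw [h9, h8]
      have h10 : e * d * e * (e * d * e) = e * d * (e * e) * (d * e) := by simp only [mul_assoc]
      rw [h10, hee, mul_one]
      have h11 : e * d * (d * e) = e * (d * d) * e := by simp only [mul_assoc]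
      rw [h11, hdd, mul_one, hee]
  · -- a single conjugacy class
    obtain ⟨e₀, -, he₀0, he₀e₀⟩ := exists_iso hf (ND_top hf) (by omega : 2 ≤ _)
    obtain ⟨d₀, hd₀⟩ := exists_tv hF2 he₀e₀ h1skew
    have hd₀T : IsT d₀ e₀ := by
      intro x; unfold av; rw [hd₀, ut_mulVec, one_mul]
    have hd₀D := rank_of_IsT hF he₀0 hd₀T
    refine ⟨d₀, hd₀D, ?_⟩
    ext g
    change _ ↔ IsConj d₀ g
    constructor
    · intro hg
      exact Cfsg.Agent.S2644.result hF2 (by omega) d₀ g (isTransvection_of_rank d₀ hd₀D)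
        (isTransvection_of_rank g hg)
    · intro hg
      obtain ⟨c, hc⟩ := isConj_iff.mp hg
      have h3 := IsT_conj hF c hd₀T
      rw [hc] at h3
      exact rank_of_IsT hF (by
        intro h0
        have h4 := av_inv_av c e₀
        rw [h0, av_zero] at h4
        exact he₀0 h4.symm) h3
  · -- generation
    rw [eq_top_iff, ← closure_transvections_eq_top hF2 (by omega : 3 ≤ n) (by omega),
      Subgroup.closure_le]
    rintro A ⟨v, c, hvv, hA⟩
    have hAx : ∀ x, av A x = x + (c * Cfsg.hermForm n F 2 x v) • v := by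
      intro x; unfold av; rw [hA, ut_mulVec]
    by_cases hdeg : v = 0 ∨ c = 0
    · have hA1 : A = 1 := by
        apply av_ext
        intro x
        rw [hAx, av_one]
        rcases hdeg with h | h
        · rw [h, smul_zero, add_zero]
        · rw [h, zero_mul, zero_smul, add_zero]
      rw [hA1]
      exact Subgroup.one_mem _
    push Not at hdeg
    obtain ⟨hv0, hc0⟩ := hdeg
    have hskew : frobQ hF2 c = -c := by
      obtain ⟨x, hx⟩ := (hf.nondegenerate v hv0).1
      have h1 := av_iso A x x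
      rw [hAx, u_expand hf, hvv, mul_zero, add_zero, hf.herm v x, map_mul] at h1
      have h2 : (frobQ hF2 c + c) * (Cfsg.hermForm n F 2 x v *
          frobQ hF2 (Cfsg.hermForm n F 2 x v)) = 0 := by linear_combination h1
      rcases mul_eq_zero.mp h2 with h | h
      · linear_combination h
      · exfalso
        rcases mul_eq_zero.mp h with h' | h'
        · exact hx h'
        · exact hx ((map_eq_zero (frobQ hF2)).mp h')
    have hc1 := skew_eq_one hF hc0 hskew
    have hAT : IsT A v := by
      intro x; rw [hAx, hc1, one_mul]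
    exact Subgroup.subset_closure (rank_of_IsT hF hv0 hAT)

end S1631aux
end Aux

/-- The unitary transvections of SU(n, 2), n ≥ 4, form a generating conjugacy class of 3-transpositions. -/
theorem result (F : Type) [Field F] [Fintype F] [DecidableEq F] (hF : Fintype.card F = 4) (n : ℕ) (hn : 4 ≤ n) : Cfsg.IsThreeTranspositionClass {g : ↥(Cfsg.SU n F 2) | (((g : Matrix.SpecialLinearGroup (Fin n) F) : Matrix (Fin n) (Fin n) F) - 1).rank = 1} := by
  exact S1631aux.main hF hn

end Cfsg.Agent.S1631
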