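import Cfsg.Statements.S1632
-- import your own Cfsg.Agent.* helpers here
import Cfsg.Agent.Lib.Helper7.ThetaDefs2
import Cfsg.Agent.Lib.Helper7.ThetaSLaw
import Cfsg.Agent.Lib.Helper16.ThetaB3a
import Cfsg.Agent.Lib.Helper29.ThetaC1
import Cfsg.Agent.Lib.Helper24.ThetaC2b
import Cfsg.Agent.Lib.Helper22.ThetaFinal

set_option autoImplicit false
open Matrix
open Cfsg
namespace Cfsg.Agent.S1632
/-- An even unimodular lattice of rank 24 without roots has 196560, 16773120 and 398034000 vectors of norms 4, 6 and 8. -/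
theorem result (B : Matrix (Fin 24) (Fin 24) ℤ) (hsymm : B.IsSymm) (hpos : ∀ x : Fin 24 → ℤ, x ≠ 0 → 0 < x ⬝ᵥ (B *ᵥ x)) (heven : ∀ x : Fin 24 → ℤ, (2 : ℤ) ∣ x ⬝ᵥ (B *ᵥ x)) (hdet : B.det = 1) (h2 : ∀ x : Fin 24 → ℤ, x ⬝ᵥ (B *ᵥ x) ≠ 2) : {x : Fin 24 → ℤ | x ⬝ᵥ (B *ᵥ x) = 4}.ncard = 196560 ∧ {x : Fin 24 → ℤ | x ⬝ᵥ (B *ᵥ x) = 6}.ncard = 16773120 ∧ {x : Fin 24 → ℤ | x ⬝ᵥ (B *ᵥ x) = 8}.ncard = 398034000 := by
  -- the theta series is a modular form of weight 12 and level 1 (market S1632, planner helper7)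
  have hC1 := fun τ => Cfsg.Agent.Lib.Helper29.ThetaC1.hasSum_repCount B hsymm hpos heven τ
  obtain ⟨f, hf⟩ := Cfsg.Agent.Lib.Helper24.ThetaC2.exists_modularForm_of_leaves B hpos heven
    (fun t ht => Cfsg.Agent.Lib.Helper16.ThetaB3a.summable_latticeTheta B hsymm hpos t ht)
    (fun τ hτ => Cfsg.Agent.Lib.Helper7.ThetaSLaw.latticeTheta_S B hsymm hpos hdet τ hτ)
    hC1
  refine Cfsg.Agent.Lib.Helper22.ThetaFinal.counts_of_hasSum B hpos h2 f ?_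
  intro τ
  rw [hf τ]
  exact hC1 τ
end Cfsg.Agent.S1632
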