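import Cfsg.Statements.S1642
-- import your own Cfsg.Agent.* helpers here
import Cfsg.Agent.Lib.Helper14.LeechHS

set_option autoImplicit false
open Cfsg

namespace Cfsg.Agent.S1642

open Cfsg.Agent.Lib.Helper14.Golay Cfsg.Agent.Lib.Helper14.Leech
  Cfsg.Agent.Lib.Helper14.LeechCount Cfsg.Agent.Lib.Helper14.LeechMinCount
  Cfsg.Agent.Lib.Helper14.LeechOrbit Cfsg.Agent.Lib.Helper14.LeechPairs
  Cfsg.Agent.Lib.Helper14.LeechHS Cfsg.Agent.Lib.Helper14.LeechMono
  Cfsg.Agent.Lib.Helper14.Co0Center Cfsg.Agent.Lib.Helper14.Co0Order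
  Cfsg.Agent.Lib.Helper14.LeechCross
open Cfsg.Agent.Lib.Helper3.Golay (wordOf codeMask pc24 bitSet idx)
open Cfsg.Agent.S1578 (u0 u0_mem)

/-! ### a pair supported on a dodecad -/

/-- a dodecad containing `∞` and `0` -/
def mD : ℕ := 0xe6e01d

/-- the complementary dodecad -/
def mD' : ℕ := 0x191fe2

theorem mD_mem : wordOf mD ∈ golayCode :=
  (Cfsg.Agent.Lib.Helper3.Golay.wordOf_mem_iff (by norm_num [mD])).mpr (by decide +kernel)

theorem mD'_mem : wordOf mD' ∈ golayCode :=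
  (Cfsg.Agent.Lib.Helper3.Golay.wordOf_mem_iff (by norm_num [mD'])).mpr (by decide +kernel)

/-- twice the indicator of the dodecad -/
def vD : GolayPt → ℤ := fun i => 2 * (((wordOf mD i).val : ℕ) : ℤ)

def wD : GolayPt → ℤ := v0 - vD

theorem vD_mem : vD ∈ leechLattice := two_word_mem _ mD_mem

theorem wD_mem : wD ∈ leechLattice := sub_mem v0_mem vD_mem

set_option maxRecDepth 100000 in
theorem vD_norm : sqNorm vD = 48 := by decide +kernel

set_option maxRecDepth 100000 in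
theorem wD_norm : sqNorm wD = 48 := by decide +kernel

set_option maxRecDepth 100000 in
theorem dot_vD_wD : dotInt vD wD = -32 := by decide +kernel

set_option maxRecDepth 100000 in
theorem vD_cases : ∀ i : GolayPt, (i ∈ support₂ (wordOf mD') ∧ vD i = 0 ∧ wD i = 0) ∨
    (i ∉ support₂ (wordOf mD') ∧ vD i = 2) := by
  decide +kernel

theorem one_mem_supp : (some 1 : GolayPt) ∈ support₂ (wordOf mD') := by decide +kernel

noncomputable def VD : ↥leechLattice := ⟨vD, vD_mem⟩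
noncomputable def WD : ↥leechLattice := ⟨wD, wD_mem⟩

/-- the sign change on the complementary dodecad -/
noncomputable def gD : ↥Co0 := signCh (wordOf mD') mD'_mem

theorem gD_VD : gD • VD = VD := by
  apply Subtype.ext
  funext i
  rw [gD, signCh_apply]
  rcases vD_cases i with ⟨h1, h2, -⟩ | ⟨h1, -⟩
  · rw [if_pos h1]
    show -vD i = vD i
    rw [h2]; rfl
  · rw [if_neg h1]

theorem gD_WD : gD • WD = WD := by
  apply Subtype.ext
  funext i
  rw [gD, signCh_apply]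
  rcases vD_cases i with ⟨h1, -, h2⟩ | ⟨h1, -⟩
  · rw [if_pos h1]
    show -wD i = wD i
    rw [h2]; rfl
  · rw [if_neg h1]

theorem gD_sq : gD * gD = 1 := by
  apply Subtype.ext
  apply Equiv.ext
  intro x
  show gD • (gD • x) = x
  apply Subtype.ext
  funext i
  rw [gD, signCh_apply, signCh_apply]
  split_ifs
  · rw [neg_neg]
  · rfl

theorem gD_ne : gD ≠ 1 := by
  intro h
  have h1 : gD • (⟨u0, u0_mem⟩ : ↥leechLattice) = ⟨u0, u0_mem⟩ := by rw [h, one_smul]
  have h2 := congrFun (congrArg Subtype.val h1) (some 1)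
  rw [gD, signCh_apply, if_pos one_mem_supp] at h2
  have h3 : u0 (some 1) = 1 := by decide
  change -u0 (some 1) = u0 (some 1) at h2
  rw [h3] at h2
  norm_num at h2

theorem gD_order : orderOf gD = 2 :=
  orderOf_eq_prime (by rw [pow_two]; exact gD_sq) gD_ne

theorem dot_vD (x : GolayPt → ℤ) (hx : ∀ i ∈ support₂ (wordOf mD'), x i = 0) :
    dotInt vD x = 2 * ∑ i, x i := by
  unfold dotInt
  rw [Finset.mul_sum]
  refine Finset.sum_congr rfl fun i _ => ?_
  rcases vD_cases i with ⟨h1, h2, -⟩ | ⟨-, h2⟩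
  · rw [h2, hx i h1]; ring
  · rw [h2]

/-- no minimal vector with `vD · x = 24` is fixed by the sign change -/
theorem gD_fpf (x : ↥leechLattice) (hn : sqNorm (x : GolayPt → ℤ) = 32)
    (hd : dotInt vD (x : GolayPt → ℤ) = 24) : gD • x ≠ x := by
  classical
  intro hfix
  have hzero : ∀ i ∈ support₂ (wordOf mD'), (x : GolayPt → ℤ) i = 0 := by
    intro i hi
    have h2 := congrFun (congrArg Subtype.val hfix) i
    rw [gD, signCh_apply, if_pos hi] at h2
    omega
  rw [dot_vD _ hzero] at hd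
  have hsum : ∑ i, (x : GolayPt → ℤ) i = 12 := by omega
  have hmem : (x : GolayPt → ℤ) ∈ {x : GolayPt → ℤ | x ∈ leechLattice ∧ sqNorm x = 32} :=
    ⟨x.2, hn⟩
  rw [min_eq, Finset.mem_coe, Finset.mem_union, Finset.mem_union] at hmem
  rcases hmem with (hm | hm) | hm
  · obtain ⟨p, -, hp⟩ := Finset.mem_image.mp hm
    have h1 := PhiO_odd p (some 1)
    rw [hp, hzero _ one_mem_supp] at h1
    norm_num at h1
  · obtain ⟨⟨w, U⟩, hq, hp⟩ := Finset.mem_image.mp hm
    rw [mem_P2] at hq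
    obtain ⟨⟨-, h8⟩, hU, hev⟩ := hq
    rw [← hp] at hsum
    unfold f2 at hsum
    rw [sum_Psi 2 _ _ hU, h8] at hsum
    obtain ⟨r, hr⟩ := hev
    simp only at hr
    rw [hr] at hsum
    push_cast at hsum
    omega
  · obtain ⟨⟨T, U⟩, hq, hp⟩ := Finset.mem_image.mp hm
    rw [mem_P4] at hq
    obtain ⟨h2, hU⟩ := hq
    rw [← hp, sum_Psi 4 _ _ hU] at hsum
    simp only at h2
    rw [h2] at hsum
    push_cast at hsum
    omega

/-- Some involution of the Higman–Sims group acts without fixed points on its 100 points. -/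
theorem result (v w : ↥Cfsg.leechLattice) (hv : Cfsg.sqNorm (v : Cfsg.GolayPt → ℤ) = 48) (hw : Cfsg.sqNorm (w : Cfsg.GolayPt → ℤ) = 48) (hvw : Cfsg.dotInt (v : Cfsg.GolayPt → ℤ) (w : Cfsg.GolayPt → ℤ) = -32) : ∃ g : ↥Cfsg.Co0, g • v = v ∧ g • w = w ∧ orderOf g = 2 ∧ ∀ x ∈ {x : ↥Cfsg.leechLattice | Cfsg.sqNorm (x : Cfsg.GolayPt → ℤ) = 32 ∧ Cfsg.dotInt (v : Cfsg.GolayPt → ℤ) (x : Cfsg.GolayPt → ℤ) = 24 ∧ Cfsg.dotInt (w : Cfsg.GolayPt → ℤ) (x : Cfsg.GolayPt → ℤ) = -24}, g • x ≠ x := by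
  obtain ⟨k, hkv, hkw⟩ := pair_move v w VD WD hv hw hvw vD_norm wD_norm dot_vD_wD
  refine ⟨k⁻¹ * gD * k, ?_, ?_, ?_, ?_⟩
  · rw [mul_smul, mul_smul, hkv, gD_VD, ← hkv, inv_smul_smul]
  · rw [mul_smul, mul_smul, hkw, gD_WD, ← hkw, inv_smul_smul]
  · have := MulEquiv.orderOf_eq (MulAut.conj k⁻¹) gD
    rw [MulAut.conj_apply, inv_inv] at this
    rw [this, gD_order]
  · rintro x ⟨hxn, hx1, -⟩ hfix
    rw [mul_smul, mul_smul, inv_smul_eq_iff] at hfix
    refine gD_fpf (k • x) ?_ ?_ hfix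
    · rw [smul_coe, k.2.2, hxn]
    · have : vD = ((k • v : ↥leechLattice) : GolayPt → ℤ) := by rw [hkv]; rfl
      rw [this, smul_coe, smul_coe, dot_pres k.1 k.2, hx1]

end Cfsg.Agent.S1642
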