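import Cfsg.Statements.S1666
-- import your own Cfsg.Agent.* helpers here
import Cfsg.Agent.Lib.Helper14.HSRecD

set_option autoImplicit false
open Cfsg

namespace Cfsg.Agent.S1666

open Cfsg.Agent.Lib.Helper14.HSRec in
theorem aux_card_M22 : Nat.card ↥Cfsg.Spor.M22 = 443520 := by
  unfold Cfsg.Spor.M22 Cfsg.Spor.M23
  exact Cfsg.Agent.Lib.Helper3.Golay.card_stab_two (p := none) (q := some 0) (by decide)

theorem aux_orbit_fixed {Ω : Type*} (G : Subgroup (Equiv.Perm Ω)) (a x : Ω)
    (h : a ∈ MulAction.orbit (MulAction.stabilizer G a) x) :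
    MulAction.orbit (MulAction.stabilizer G a) x = {a} := by
  obtain ⟨s, hs⟩ := h
  have hs' : s • x = a := hs
  have hx : x = a := by
    have h1 : s⁻¹ • (s • x) = s⁻¹ • a := by rw [hs']
    rw [inv_smul_smul] at h1
    rw [h1]
    exact (s⁻¹).2
  subst hx
  ext y
  rw [Set.mem_singleton_iff]
  constructor
  · rintro ⟨t, rfl⟩
    exact t.2
  · rintro rfl
    exact MulAction.mem_orbit_self _

/-- Recognition of the Higman–Sims group as a rank 3 permutation group: a transitive permutation group on 100 points in which the stabiliser of a point is isomorphic to the Mathieu group M₂₂ and has two further orbits, of sizes 22 and 77, is isomorphic to the Higman–Sims group. -/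
theorem result {Ω : Type*} [Fintype Ω] [DecidableEq Ω] (hΩ : Fintype.card Ω = 100) (G : Subgroup (Equiv.Perm Ω)) [MulAction.IsPretransitive G Ω] (a : Ω)  (e : MulAction.stabilizer G a ≃* Cfsg.Spor.M22) (b c : Ω) (hb : (MulAction.orbit (MulAction.stabilizer G a) b).ncard = 22) (hc : (MulAction.orbit (MulAction.stabilizer G a) c).ncard = 77) : Cfsg.Spor.IsoHS G := by
  classical
  set S := MulAction.stabilizer G a with hS
  set A : Set Ω := MulAction.orbit S b with hA
  set B : Set Ω := MulAction.orbit S c with hB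
  have hnotA : a ∉ A := by
    intro h
    have := aux_orbit_fixed G a b h
    rw [hA, this, Set.ncard_singleton] at hb
    omega
  have hnotB : a ∉ B := by
    intro h
    have := aux_orbit_fixed G a c h
    rw [hB, this, Set.ncard_singleton] at hc
    omega
  have hdisj : Disjoint A B := by
    rw [Set.disjoint_left]
    intro y hyA hyB
    have h1 : MulAction.orbit S y = A := MulAction.orbit_eq_iff.mpr hyA
    have h2 : MulAction.orbit S y = B := MulAction.orbit_eq_iff.mpr hyB
    have : A = B := h1.symm.trans h2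
    rw [this] at hb
    omega
  have hcover : ∀ y : Ω, y = a ∨ y ∈ A ∨ y ∈ B := by
    have hAB : (A ∪ B).ncard = 99 := by
      rw [Set.ncard_union_eq hdisj, hb, hc]
    have hins : (insert a (A ∪ B)).ncard = 100 := by
      rw [Set.ncard_insert_of_notMem, hAB]
      intro h
      rcases h with h | h
      · exact hnotA h
      · exact hnotB h
    have huniv : insert a (A ∪ B) = Set.univ := by
      rw [Set.eq_univ_iff_ncard, hins, Nat.card_eq_fintype_card, hΩ]
    intro y
    have : y ∈ insert a (A ∪ B) := by rw [huniv]; exact Set.mem_univ y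
    rcases this with h | h | h
    · exact Or.inl h
    · exact Or.inr (Or.inl h)
    · exact Or.inr (Or.inr h)
  have htr : ∀ (x : Ω) (y : Ω), y ∈ MulAction.orbit S x → ∀ y' ∈ MulAction.orbit S x,
      ∃ h : ↥G, h • a = a ∧ h • y = y' := by
    rintro x y ⟨s, rfl⟩ y' ⟨s', rfl⟩
    refine ⟨(s' * s⁻¹ : ↥S).1, (s' * s⁻¹ : ↥S).2, ?_⟩
    show (s' * s⁻¹ : ↥S) • (s • x) = s' • x
    rw [mul_smul, inv_smul_smul]
  have hR : Cfsg.Agent.Lib.Helper14.HSRec.R3 (↥G) a A B :=
    { cardV := hΩ
      trans := fun x y => MulAction.exists_smul_eq (↥G) x y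
      cover := hcover
      notA := hnotA
      notB := hnotB
      cardA := hb
      cardB := hc
      invA := by
        intro h hh x hx
        obtain ⟨s, rfl⟩ := hx
        refine ⟨(⟨h, hh⟩ : ↥S) * s, ?_⟩
        show ((⟨h, hh⟩ : ↥S) * s) • b = h • (s • b)
        rw [mul_smul]
        rfl
      transA := htr b
      transB := htr c }
  haveI : FaithfulSMul (↥G) Ω := ⟨fun {g g'} h => Subtype.ext (Equiv.ext h)⟩
  have hcard : Nat.card ↥G = 44352000 := by
    have h1 := Subgroup.card_eq_card_quotient_mul_card_subgroup S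
    rw [← Nat.card_congr (MulAction.orbitEquivQuotientStabilizer (↥G) a),
      MulAction.orbit_eq_univ, Nat.card_congr (Equiv.Set.univ Ω),
      Nat.card_congr e.toEquiv, aux_card_M22] at h1
    rw [Nat.card_eq_fintype_card (α := Ω), hΩ] at h1
    rw [h1]
  exact Cfsg.Agent.Lib.Helper14.HSRec.isoHS_of_R3 hR hcard

end Cfsg.Agent.S1666
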