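import Cfsg.Statements.S1679
import Cfsg.Agent.S1694
import Cfsg.Agent.S1059
import Cfsg.Agent.Lib.Helper28.TCG24Simple
import Cfsg.Agent.Lib.Helper28.G2Data
import Cfsg.Agent.Lib.Helper28.TC2Subst
import Cfsg.Agent.Lib.Helper28.TC2Cover

set_option autoImplicit false
set_option maxRecDepth 100000
open Cfsg

namespace Cfsg.Agent.S1679
open Cfsg.Agent.Lib.Helper28.TC2Tower Cfsg.Agent.Lib.Helper28.TC2Glue Cfsg.Agent.Lib.Helper28.TC2Cover Cfsg.Agent.Lib.Helper28.TC2Subst
open Cfsg.Agent.Lib.Helper28.U6F4 Cfsg.Agent.Lib.Helper28.G2F4 Cfsg.Agent.Lib.Helper28.G2Rep Cfsg.Agent.Lib.Helper28.G2Data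

/-- the generators of the presented `G₂(4)` -/
abbrev GenP : Type := Cfsg.Agent.Lib.Helper28.TCG24W0Def.Gen
/-- the group presented by the relators of the Suzuki group on a, …, f -/
abbrev P : Type := PresentedGroup Cfsg.Agent.Lib.Helper28.TCG24W0Link.rels
/-- the presented Suzuki group -/
abbrev G0 : Type := PresentedGroup Cfsg.Agent.Lib.Helper28.TCSuzW0Link.rels
/-- the subgroup generated by a, …, f -/
abbrev H0 : Subgroup G0 := (Subgroup.closure Cfsg.Agent.Lib.Helper28.TCSuzW0Link.S).map (PresentedGroup.mk Cfsg.Agent.Lib.Helper28.TCSuzW0Link.rels)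

/-- the generators a, …, f as generators of the Suzuki group -/
def toSuz : GenP → Cfsg.Spor.Suz.Gen
  | .a => .a
  | .b => .b
  | .c => .c
  | .d => .d
  | .e => .e
  | .f => .f

theorem upSuz : ∀ L ∈ Cfsg.Agent.Lib.Helper28.TCG24W0Link.relWords, upWord toSuz L ∈ Cfsg.Agent.Lib.Helper28.TCSuzW0Link.relWords := by
  decide +kernel

/-- the images of the generators in `G₂(4)` -/
noncomputable def fgen (x : GenP) : ↥G24 := Classical.choose (rep_gcode x)

theorem mat_fgen (x : GenP) : mat (fgen x) = dec14 (gcode x) := Classical.choose_spec (rep_gcode x)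

theorem fgen_sq (x : GenP) : fgen x * fgen x = 1 := by
  apply mat_injective
  rw [mat_mul, mat_fgen, ← dec14_mul, sq_gcode, dec14_one, mat_one]

theorem mat_list_prod (l : List ↥G24) : mat l.prod = (l.map mat).prod := by
  induction l with
  | nil => rfl
  | cons g l ih => rw [List.prod_cons, mat_mul, ih, List.map_cons, List.prod_cons]

/-- the value of a lift on a word, for generators sent to involutions -/
theorem lift_mk_invol {K : Type*} [Group K] (f : GenP → K) (hf : ∀ x, f x * f x = 1) (L : List (GenP × Bool)) :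
    FreeGroup.lift f (FreeGroup.mk L) = (L.map fun t => f t.1).prod := by
  induction L with
  | nil => rfl
  | cons t L ih =>
    have e : FreeGroup.mk (t :: L) = FreeGroup.mk [t] * FreeGroup.mk L := by
      rw [FreeGroup.mul_mk]; rfl
    rw [e, map_mul, ih, List.map_cons, List.prod_cons]
    congr 1
    obtain ⟨x, b⟩ := t
    cases b with
    | true => exact FreeGroup.lift_apply_of
    | false =>
      have e1 : FreeGroup.mk [(x, false)] = (FreeGroup.of x)⁻¹ := by
        show _ = (FreeGroup.mk [(x, true)])⁻¹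
        rw [FreeGroup.inv_mk]; rfl
      rw [e1, map_inv, FreeGroup.lift_apply_of]
      exact inv_eq_of_mul_eq_one_right (hf x)

theorem lift_rel (L : List (GenP × Bool)) (hL : L ∈ Cfsg.Agent.Lib.Helper28.TCG24W0Link.relWords) :
    FreeGroup.lift fgen (FreeGroup.mk L) = 1 := by
  rw [lift_mk_invol fgen fgen_sq]
  apply mat_injective
  rw [mat_list_prod, mat_one, List.map_map]
  obtain ⟨c, hc, rfl⟩ := relCert_all L hL
  obtain ⟨h1, h2⟩ := relCert_ok c hc
  have h3 := chkChain_sound _ _ _ h1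
  rw [h2, dec14_one, one_mul, List.map_map] at h3
  rw [← h3]
  congr 1
  apply List.map_congr_left
  intro t _
  exact mat_fgen t.1

/-- In the presented sporadic Suzuki group (generators a, …, g), the subgroup generated by the images of a, …, f is isomorphic to the adjoint Chevalley group of type G₂ over a field with four elements. -/
theorem result : ∃ (K : Type) (_ : Field K) (_ : Fintype K), Fintype.card K = 4 ∧ Nonempty ((((Subgroup.closure ({Cfsg.Spor.Suz.a, Cfsg.Spor.Suz.b, Cfsg.Spor.Suz.c, Cfsg.Spor.Suz.d, Cfsg.Spor.Suz.e, Cfsg.Spor.Suz.f} : Set (FreeGroup Cfsg.Spor.Suz.Gen))).map (PresentedGroup.mk (Cfsg.Spor.coxRelators Cfsg.Spor.Suz.edges ∪ {r | r ∈ Cfsg.Spor.Suz.extra})))) ≃* Cfsg.Lie.chevG2.group K) := by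
  obtain ⟨hsimpP, hcardP⟩ := Cfsg.Agent.Lib.Helper28.TCG24Simple.main
  haveI : IsSimpleGroup P := hsimpP
  haveI : Finite P := Nat.finite_of_card_ne_zero (by rw [hcardP]; norm_num)
  -- the homomorphism to the Chevalley group
  obtain ⟨π, hπ⟩ := exists_hom_of_words Cfsg.Agent.Lib.Helper28.TCG24W0Link.rels fgen Cfsg.Agent.Lib.Helper28.TCG24W0Link.relWords
    (fun r hr => (Cfsg.Agent.Lib.Helper28.TCG24W0Link.link.hrels r).mp hr) lift_rel
  have hinjπ : Function.Injective π := by
    rw [← MonoidHom.ker_eq_bot_iff]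
    rcases (inferInstance : π.ker.Normal).eq_bot_or_eq_top with h | h
    · exact h
    · exfalso
      have ha : (PresentedGroup.of .a : P) ∈ π.ker := by rw [h]; exact Subgroup.mem_top _
      rw [MonoidHom.mem_ker, hπ] at ha
      apply gA_ne
      have := mat_fgen .a
      rw [ha, mat_one] at this
      exact this.symm
  have hcardG : Nat.card ↥G24 = 251596800 := by
    have h : Nat.card ↥G24 = 4 ^ 6 * (4 ^ 2 - 1) * (4 ^ 6 - 1) :=
      Cfsg.Agent.S1059.result (F := F4) (q := 4) card_F4
    rw [h]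
    norm_num
  have hbijπ : Function.Bijective π := by
    haveI : Finite ↥G24 := Nat.finite_of_card_ne_zero (by rw [hcardG]; norm_num)
    rw [Nat.bijective_iff_injective_and_card]
    exact ⟨hinjπ, hcardP.trans hcardG.symm⟩
  -- the homomorphism to the Suzuki group
  obtain ⟨-, hcardS⟩ := Cfsg.Agent.S1694.result
  have hcardS' : Nat.card G0 = 448345497600 := hcardS
  have hidx : H0.index = 1782 := Cfsg.Agent.Lib.Helper28.TCSuzW0Main.main.1
  have hcardH : Nat.card H0 = 251596800 := by
    have := H0.index_mul_card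
    rw [hidx, hcardS'] at this
    omega
  have hrel := hrel_of_words Cfsg.Agent.Lib.Helper28.TCSuzW0Link.rels Cfsg.Agent.Lib.Helper28.TCG24W0Link.rels toSuz Cfsg.Agent.Lib.Helper28.TCSuzW0Link.relWords Cfsg.Agent.Lib.Helper28.TCG24W0Link.relWords
    Cfsg.Agent.Lib.Helper28.TCSuzW0Link.link.hrels Cfsg.Agent.Lib.Helper28.TCG24W0Link.link.hrels upSuz
  obtain ⟨ψ, hψ⟩ := exists_hom_of_subpres Cfsg.Agent.Lib.Helper28.TCSuzW0Link.rels Cfsg.Agent.Lib.Helper28.TCG24W0Link.rels toSuz hrel
  have hrange : ψ.range = H0 := by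
    apply range_of_subpres _ _ _ ψ hψ
    · intro s hs
      simp only [Cfsg.Agent.Lib.Helper28.TCSuzW0Link.S, Set.mem_insert_iff, Set.mem_singleton_iff] at hs
      rcases hs with rfl | rfl | rfl | rfl | rfl | rfl
      exacts [⟨.a, rfl⟩, ⟨.b, rfl⟩, ⟨.c, rfl⟩, ⟨.d, rfl⟩, ⟨.e, rfl⟩, ⟨.f, rfl⟩]
    · intro b
      cases b <;> simp [Cfsg.Agent.Lib.Helper28.TCSuzW0Link.S, toSuz]
  have hcardR : Nat.card ψ.range = 251596800 := by rw [hrange]; exact hcardH
  have hinjψ : Function.Injective ψ := by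
    have hbij : Function.Bijective ψ.rangeRestrict := by
      rw [Nat.bijective_iff_surjective_and_card]
      exact ⟨ψ.rangeRestrict_surjective, hcardP.trans hcardR.symm⟩
    intro a b hab
    exact hbij.1 (Subtype.ext hab)
  let e1 : P ≃* H0 := (MonoidHom.ofInjective hinjψ).trans (MulEquiv.subgroupCongr hrange)
  let e2 : P ≃* ↥G24 := MulEquiv.ofBijective π hbijπ
  exact ⟨F4, inferInstance, inferInstance, card_F4, ⟨e1.symm.trans e2⟩⟩

end Cfsg.Agent.S1679
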