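import Cfsg.Statements.S1680
import Cfsg.Agent.Lib.Helper28.TCGlueOrb
import Cfsg.Agent.Lib.Helper28.TCSuzaLink
import Cfsg.Agent.Lib.Helper28.TCSuzaM
import Cfsg.Agent.Lib.Helper28.TCSuzaU0
import Cfsg.Agent.Lib.Helper28.TCSuzaU1
import Cfsg.Agent.Lib.Helper28.TCSuzaL0

set_option autoImplicit false
set_option maxRecDepth 100000
open Cfsg

namespace Cfsg.Agent.S1680
open Cfsg.Agent.Lib.Helper28.TCUpper Cfsg.Agent.Lib.Helper28.TCLower Cfsg.Agent.Lib.Helper28.TCGlue Cfsg.Agent.Lib.Helper28.TCGlueOrb Cfsg.Agent.Lib.Helper28.TCOrbit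
open Cfsg.Agent.Lib.Helper28.TCSuzaData Cfsg.Agent.Lib.Helper28.TCSuzaTable Cfsg.Agent.Lib.Helper28.TCSuzaLink Cfsg.Agent.Lib.Helper28.TCSuzaM

theorem hchk : ∀ v, v < data.N → data.checkNode v = true := by
  intro v hv
  have hv' : v < 12363 := hv
  rcases Nat.lt_or_ge v 1022 with h0 | h0
  · exact (data.checkRange_iff 0 1022).mp Cfsg.Agent.Lib.Helper28.TCSuzaU0.chk0 v (by omega) (by omega)
  rcases Nat.lt_or_ge v 2664 with h1 | h1
  · exact (data.checkRange_iff 1022 1642).mp Cfsg.Agent.Lib.Helper28.TCSuzaU0.chk1 v (by omega) (by omega)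
  rcases Nat.lt_or_ge v 3497 with h2 | h2
  · exact (data.checkRange_iff 2664 833).mp Cfsg.Agent.Lib.Helper28.TCSuzaU0.chk2 v (by omega) (by omega)
  rcases Nat.lt_or_ge v 4514 with h3 | h3
  · exact (data.checkRange_iff 3497 1017).mp Cfsg.Agent.Lib.Helper28.TCSuzaU0.chk3 v (by omega) (by omega)
  rcases Nat.lt_or_ge v 5684 with h4 | h4
  · exact (data.checkRange_iff 4514 1170).mp Cfsg.Agent.Lib.Helper28.TCSuzaU0.chk4 v (by omega) (by omega)
  rcases Nat.lt_or_ge v 7154 with h5 | h5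
  · exact (data.checkRange_iff 5684 1470).mp Cfsg.Agent.Lib.Helper28.TCSuzaU1.chk5 v (by omega) (by omega)
  rcases Nat.lt_or_ge v 9338 with h6 | h6
  · exact (data.checkRange_iff 7154 2184).mp Cfsg.Agent.Lib.Helper28.TCSuzaU1.chk6 v (by omega) (by omega)
  rcases Nat.lt_or_ge v 12358 with h7 | h7
  · exact (data.checkRange_iff 9338 3020).mp Cfsg.Agent.Lib.Helper28.TCSuzaU1.chk7 v (by omega) (by omega)
  exact (data.checkRange_iff 12358 5).mp Cfsg.Agent.Lib.Helper28.TCSuzaU1.chk8 v (by omega) (by omega)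

theorem hrelT : ∀ L ∈ relWords, ∀ p, p < table.n → table.walkT (pathOf lw L) p = p := by
  intro L hL p hp
  have hp' : p < 1782 := hp
  have hm := hrelmem L hL
  rcases Nat.lt_or_ge p 677 with h0 | h0
  · exact (Table.relOK_iff relPaths 0 677).mp Cfsg.Agent.Lib.Helper28.TCSuzaL0.rel0 p (by omega) (by omega) _ hm
  rcases Nat.lt_or_ge p 1354 with h1 | h1
  · exact (Table.relOK_iff relPaths 677 677).mp Cfsg.Agent.Lib.Helper28.TCSuzaL0.rel1 p (by omega) (by omega) _ hm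
  exact (Table.relOK_iff relPaths 1354 428).mp Cfsg.Agent.Lib.Helper28.TCSuzaL0.rel2 p (by omega) (by omega) _ hm

theorem hsubT : ∀ L ∈ subWords, table.walkT (pathOf lw L) 0 = 0 :=
  fun L hL => (Table.subOK_iff subPaths).mp hsub0 _ (hsubmem L hL)

theorem hclosed : ∀ p, p < table.n → ∀ s ∈ subPaths, orbData.oid (table.walkT s p) = orbData.oid p := by
  intro p hp
  have hp' : p < 1782 := hp
  exact (orbData.closedOK_iff table subPaths 0 1782).mp clo0 p (by omega) (by omega)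

theorem hconn : ∀ p, p < table.n →
    (orbData.depth p = 0 ∧ orbData.roots.look (orbData.oid p) = p) ∨
    (orbData.depth p ≠ 0 ∧ orbData.parent p < table.n ∧ orbData.oid (orbData.parent p) = orbData.oid p ∧
      orbData.depth (orbData.parent p) + 1 = orbData.depth p ∧
      table.walkT (orbData.gens.look (orbData.gen p)) (orbData.parent p) = p) :=
  fun p hp => (orbData.connOK_iff table 0 1782).mp conn0 p (Nat.zero_le _) (by have : p < 1782 := hp; omega)

theorem cnt0 : orbData.count table.n (orbData.oid 47) = 416 := by decide +kernel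
theorem cnt1 : orbData.count table.n (orbData.oid 1) = 1365 := by decide +kernel

/-- In the presented sporadic Suzuki group, let H be the subgroup generated by the images of a, …, f. Then H has index 1782, H has orbits of sizes 416 and 1365 on the cosets of H other than H itself (with the index 1782 this makes the action rank 3). -/
theorem result : (((Subgroup.closure ({Cfsg.Spor.Suz.a, Cfsg.Spor.Suz.b, Cfsg.Spor.Suz.c, Cfsg.Spor.Suz.d, Cfsg.Spor.Suz.e, Cfsg.Spor.Suz.f} : Set (FreeGroup Cfsg.Spor.Suz.Gen))).map (PresentedGroup.mk (Cfsg.Spor.coxRelators Cfsg.Spor.Suz.edges ∪ {r | r ∈ Cfsg.Spor.Suz.extra})))).index = 1782 ∧ ∃ q₁ q₂ : Cfsg.Spor.Suz ⧸ (((Subgroup.closure ({Cfsg.Spor.Suz.a, Cfsg.Spor.Suz.b, Cfsg.Spor.Suz.c, Cfsg.Spor.Suz.d, Cfsg.Spor.Suz.e, Cfsg.Spor.Suz.f} : Set (FreeGroup Cfsg.Spor.Suz.Gen))).map (PresentedGroup.mk (Cfsg.Spor.coxRelators Cfsg.Spor.Suz.edges ∪ {r | r ∈ Cfsg.Spor.Suz.extra})))), (MulAction.orbit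 (((Subgroup.closure ({Cfsg.Spor.Suz.a, Cfsg.Spor.Suz.b, Cfsg.Spor.Suz.c, Cfsg.Spor.Suz.d, Cfsg.Spor.Suz.e, Cfsg.Spor.Suz.f} : Set (FreeGroup Cfsg.Spor.Suz.Gen))).map (PresentedGroup.mk (Cfsg.Spor.coxRelators Cfsg.Spor.Suz.edges ∪ {r | r ∈ Cfsg.Spor.Suz.extra})))) q₁).ncard = 416 ∧ (MulAction.orbit (((Subgroup.closure ({Cfsg.Spor.Suz.a, Cfsg.Spor.Suz.b, Cfsg.Spor.Suz.c, Cfsg.Spor.Suz.d, Cfsg.Spor.Suz.e, Cfsg.Spor.Suz.f} : Set (FreeGroup Cfsg.Spor.Suz.Gen))).map (PresentedGroup.mk (Cfsg.Spor.coxRelators Cfsg.Spor.Suz.edges ∪ {r | r ∈ Cfsg.Spor.Suz.extra})))) q₂).ncard = 1365 := by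
  have hT := Table.ok_of_checks table hinvOK hperm
  obtain ⟨hidx, φ, hφ, f, hbij, hequiv, -⟩ := index_eq link hchk hb hfin hcount hT (by decide) hrelT hsubT htree
  refine ⟨hidx, ?_⟩
  have horb := fun q => suborbits link hT φ hφ f hbij hequiv orbData subPaths hsubmem hsubmem' hclosed
    (BT.All_of_all (fun _ h => of_decide_eq_true h) _ hgens) hconn q
  obtain ⟨q0, hq0⟩ := hbij.2 (⟨47, by decide⟩ : Fin table.n)
  obtain ⟨q1, hq1⟩ := hbij.2 (⟨1, by decide⟩ : Fin table.n)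
  exact ⟨q0, q1, (horb q0).1.trans (by rw [hq0]; exact cnt0), (horb q1).1.trans (by rw [hq1]; exact cnt1)⟩

end Cfsg.Agent.S1680
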