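import Cfsg.Statements.S1681
import Cfsg.Agent.Lib.Helper28.TC2GlueOrb
import Cfsg.Agent.Lib.Helper28.TCSuzbLink
import Cfsg.Agent.Lib.Helper28.TCSuzbM
import Cfsg.Agent.Lib.Helper28.TCSuzbU0
import Cfsg.Agent.Lib.Helper28.TCSuzbU1
import Cfsg.Agent.Lib.Helper28.TCSuzbU2
import Cfsg.Agent.Lib.Helper28.TCSuzbU3
import Cfsg.Agent.Lib.Helper28.TCSuzbU4
import Cfsg.Agent.Lib.Helper28.TCSuzbL0
import Cfsg.Agent.Lib.Helper28.TCSuzbL1
import Cfsg.Agent.Lib.Helper28.TCSuzbL2
import Cfsg.Agent.Lib.Helper28.TCSuzbL3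
import Cfsg.Agent.Lib.Helper28.TCSuzbL4

set_option autoImplicit false
set_option maxRecDepth 100000
open Cfsg

namespace Cfsg.Agent.S1681
open Cfsg.Agent.Lib.Helper28.TC2Upper Cfsg.Agent.Lib.Helper28.TC2Lower Cfsg.Agent.Lib.Helper28.TC2Glue Cfsg.Agent.Lib.Helper28.TC2GlueOrb Cfsg.Agent.Lib.Helper28.TC2Orbit
open Cfsg.Agent.Lib.Helper28.TCSuzbData Cfsg.Agent.Lib.Helper28.TCSuzbTable Cfsg.Agent.Lib.Helper28.TCSuzbLink Cfsg.Agent.Lib.Helper28.TCSuzbM

theorem hchk : ∀ v, v < data.N → data.checkNode v = true := by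
  intro v hv
  have hv' : v < 33379 := hv
  rcases Nat.lt_or_ge v 1189 with h0 | h0
  · exact (data.checkRange_iff 0 1189).mp Cfsg.Agent.Lib.Helper28.TCSuzbU0.chk0 v (by omega) (by omega)
  rcases Nat.lt_or_ge v 2769 with h1 | h1
  · exact (data.checkRange_iff 1189 1580).mp Cfsg.Agent.Lib.Helper28.TCSuzbU0.chk1 v (by omega) (by omega)
  rcases Nat.lt_or_ge v 4857 with h2 | h2
  · exact (data.checkRange_iff 2769 2088).mp Cfsg.Agent.Lib.Helper28.TCSuzbU0.chk2 v (by omega) (by omega)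
  rcases Nat.lt_or_ge v 8053 with h3 | h3
  · exact (data.checkRange_iff 4857 3196).mp Cfsg.Agent.Lib.Helper28.TCSuzbU0.chk3 v (by omega) (by omega)
  rcases Nat.lt_or_ge v 10094 with h4 | h4
  · exact (data.checkRange_iff 8053 2041).mp Cfsg.Agent.Lib.Helper28.TCSuzbU0.chk4 v (by omega) (by omega)
  rcases Nat.lt_or_ge v 11338 with h5 | h5
  · exact (data.checkRange_iff 10094 1244).mp Cfsg.Agent.Lib.Helper28.TCSuzbU0.chk5 v (by omega) (by omega)
  rcases Nat.lt_or_ge v 12402 with h6 | h6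
  · exact (data.checkRange_iff 11338 1064).mp Cfsg.Agent.Lib.Helper28.TCSuzbU1.chk6 v (by omega) (by omega)
  rcases Nat.lt_or_ge v 13725 with h7 | h7
  · exact (data.checkRange_iff 12402 1323).mp Cfsg.Agent.Lib.Helper28.TCSuzbU1.chk7 v (by omega) (by omega)
  rcases Nat.lt_or_ge v 14869 with h8 | h8
  · exact (data.checkRange_iff 13725 1144).mp Cfsg.Agent.Lib.Helper28.TCSuzbU1.chk8 v (by omega) (by omega)
  rcases Nat.lt_or_ge v 16070 with h9 | h9
  · exact (data.checkRange_iff 14869 1201).mp Cfsg.Agent.Lib.Helper28.TCSuzbU1.chk9 v (by omega) (by omega)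
  rcases Nat.lt_or_ge v 17160 with h10 | h10
  · exact (data.checkRange_iff 16070 1090).mp Cfsg.Agent.Lib.Helper28.TCSuzbU1.chk10 v (by omega) (by omega)
  rcases Nat.lt_or_ge v 18828 with h11 | h11
  · exact (data.checkRange_iff 17160 1668).mp Cfsg.Agent.Lib.Helper28.TCSuzbU1.chk11 v (by omega) (by omega)
  rcases Nat.lt_or_ge v 19881 with h12 | h12
  · exact (data.checkRange_iff 18828 1053).mp Cfsg.Agent.Lib.Helper28.TCSuzbU2.chk12 v (by omega) (by omega)
  rcases Nat.lt_or_ge v 20911 with h13 | h13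
  · exact (data.checkRange_iff 19881 1030).mp Cfsg.Agent.Lib.Helper28.TCSuzbU2.chk13 v (by omega) (by omega)
  rcases Nat.lt_or_ge v 21917 with h14 | h14
  · exact (data.checkRange_iff 20911 1006).mp Cfsg.Agent.Lib.Helper28.TCSuzbU2.chk14 v (by omega) (by omega)
  rcases Nat.lt_or_ge v 22923 with h15 | h15
  · exact (data.checkRange_iff 21917 1006).mp Cfsg.Agent.Lib.Helper28.TCSuzbU2.chk15 v (by omega) (by omega)
  rcases Nat.lt_or_ge v 23929 with h16 | h16
  · exact (data.checkRange_iff 22923 1006).mp Cfsg.Agent.Lib.Helper28.TCSuzbU2.chk16 v (by omega) (by omega)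
  rcases Nat.lt_or_ge v 24937 with h17 | h17
  · exact (data.checkRange_iff 23929 1008).mp Cfsg.Agent.Lib.Helper28.TCSuzbU2.chk17 v (by omega) (by omega)
  rcases Nat.lt_or_ge v 25949 with h18 | h18
  · exact (data.checkRange_iff 24937 1012).mp Cfsg.Agent.Lib.Helper28.TCSuzbU3.chk18 v (by omega) (by omega)
  rcases Nat.lt_or_ge v 26953 with h19 | h19
  · exact (data.checkRange_iff 25949 1004).mp Cfsg.Agent.Lib.Helper28.TCSuzbU3.chk19 v (by omega) (by omega)
  rcases Nat.lt_or_ge v 27974 with h20 | h20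
  · exact (data.checkRange_iff 26953 1021).mp Cfsg.Agent.Lib.Helper28.TCSuzbU3.chk20 v (by omega) (by omega)
  rcases Nat.lt_or_ge v 28988 with h21 | h21
  · exact (data.checkRange_iff 27974 1014).mp Cfsg.Agent.Lib.Helper28.TCSuzbU3.chk21 v (by omega) (by omega)
  rcases Nat.lt_or_ge v 29997 with h22 | h22
  · exact (data.checkRange_iff 28988 1009).mp Cfsg.Agent.Lib.Helper28.TCSuzbU3.chk22 v (by omega) (by omega)
  rcases Nat.lt_or_ge v 30997 with h23 | h23
  · exact (data.checkRange_iff 29997 1000).mp Cfsg.Agent.Lib.Helper28.TCSuzbU3.chk23 v (by omega) (by omega)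
  rcases Nat.lt_or_ge v 31998 with h24 | h24
  · exact (data.checkRange_iff 30997 1001).mp Cfsg.Agent.Lib.Helper28.TCSuzbU4.chk24 v (by omega) (by omega)
  rcases Nat.lt_or_ge v 33000 with h25 | h25
  · exact (data.checkRange_iff 31998 1002).mp Cfsg.Agent.Lib.Helper28.TCSuzbU4.chk25 v (by omega) (by omega)
  exact (data.checkRange_iff 33000 379).mp Cfsg.Agent.Lib.Helper28.TCSuzbU4.chk26 v (by omega) (by omega)

theorem hrelT : ∀ L ∈ relWords, ∀ p, p < table.n → table.walkT (pathOf lw L) p = p := by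
  intro L hL p hp
  have hp' : p < 22880 := hp
  have hm := hrelmem L hL
  rcases Nat.lt_or_ge p 813 with h0 | h0
  · exact (Table.relOK_iff relPaths 0 813).mp Cfsg.Agent.Lib.Helper28.TCSuzbL0.rel0 p (by omega) (by omega) _ hm
  rcases Nat.lt_or_ge p 1626 with h1 | h1
  · exact (Table.relOK_iff relPaths 813 813).mp Cfsg.Agent.Lib.Helper28.TCSuzbL0.rel1 p (by omega) (by omega) _ hm
  rcases Nat.lt_or_ge p 2439 with h2 | h2
  · exact (Table.relOK_iff relPaths 1626 813).mp Cfsg.Agent.Lib.Helper28.TCSuzbL0.rel2 p (by omega) (by omega) _ hm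
  rcases Nat.lt_or_ge p 3252 with h3 | h3
  · exact (Table.relOK_iff relPaths 2439 813).mp Cfsg.Agent.Lib.Helper28.TCSuzbL0.rel3 p (by omega) (by omega) _ hm
  rcases Nat.lt_or_ge p 4065 with h4 | h4
  · exact (Table.relOK_iff relPaths 3252 813).mp Cfsg.Agent.Lib.Helper28.TCSuzbL0.rel4 p (by omega) (by omega) _ hm
  rcases Nat.lt_or_ge p 4878 with h5 | h5
  · exact (Table.relOK_iff relPaths 4065 813).mp Cfsg.Agent.Lib.Helper28.TCSuzbL0.rel5 p (by omega) (by omega) _ hm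
  rcases Nat.lt_or_ge p 5691 with h6 | h6
  · exact (Table.relOK_iff relPaths 4878 813).mp Cfsg.Agent.Lib.Helper28.TCSuzbL0.rel6 p (by omega) (by omega) _ hm
  rcases Nat.lt_or_ge p 6504 with h7 | h7
  · exact (Table.relOK_iff relPaths 5691 813).mp Cfsg.Agent.Lib.Helper28.TCSuzbL1.rel7 p (by omega) (by omega) _ hm
  rcases Nat.lt_or_ge p 7317 with h8 | h8
  · exact (Table.relOK_iff relPaths 6504 813).mp Cfsg.Agent.Lib.Helper28.TCSuzbL1.rel8 p (by omega) (by omega) _ hm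
  rcases Nat.lt_or_ge p 8130 with h9 | h9
  · exact (Table.relOK_iff relPaths 7317 813).mp Cfsg.Agent.Lib.Helper28.TCSuzbL1.rel9 p (by omega) (by omega) _ hm
  rcases Nat.lt_or_ge p 8943 with h10 | h10
  · exact (Table.relOK_iff relPaths 8130 813).mp Cfsg.Agent.Lib.Helper28.TCSuzbL1.rel10 p (by omega) (by omega) _ hm
  rcases Nat.lt_or_ge p 9756 with h11 | h11
  · exact (Table.relOK_iff relPaths 8943 813).mp Cfsg.Agent.Lib.Helper28.TCSuzbL1.rel11 p (by omega) (by omega) _ hm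
  rcases Nat.lt_or_ge p 10569 with h12 | h12
  · exact (Table.relOK_iff relPaths 9756 813).mp Cfsg.Agent.Lib.Helper28.TCSuzbL1.rel12 p (by omega) (by omega) _ hm
  rcases Nat.lt_or_ge p 11382 with h13 | h13
  · exact (Table.relOK_iff relPaths 10569 813).mp Cfsg.Agent.Lib.Helper28.TCSuzbL1.rel13 p (by omega) (by omega) _ hm
  rcases Nat.lt_or_ge p 12195 with h14 | h14
  · exact (Table.relOK_iff relPaths 11382 813).mp Cfsg.Agent.Lib.Helper28.TCSuzbL2.rel14 p (by omega) (by omega) _ hm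
  rcases Nat.lt_or_ge p 13008 with h15 | h15
  · exact (Table.relOK_iff relPaths 12195 813).mp Cfsg.Agent.Lib.Helper28.TCSuzbL2.rel15 p (by omega) (by omega) _ hm
  rcases Nat.lt_or_ge p 13821 with h16 | h16
  · exact (Table.relOK_iff relPaths 13008 813).mp Cfsg.Agent.Lib.Helper28.TCSuzbL2.rel16 p (by omega) (by omega) _ hm
  rcases Nat.lt_or_ge p 14634 with h17 | h17
  · exact (Table.relOK_iff relPaths 13821 813).mp Cfsg.Agent.Lib.Helper28.TCSuzbL2.rel17 p (by omega) (by omega) _ hm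
  rcases Nat.lt_or_ge p 15447 with h18 | h18
  · exact (Table.relOK_iff relPaths 14634 813).mp Cfsg.Agent.Lib.Helper28.TCSuzbL2.rel18 p (by omega) (by omega) _ hm
  rcases Nat.lt_or_ge p 16260 with h19 | h19
  · exact (Table.relOK_iff relPaths 15447 813).mp Cfsg.Agent.Lib.Helper28.TCSuzbL2.rel19 p (by omega) (by omega) _ hm
  rcases Nat.lt_or_ge p 17073 with h20 | h20
  · exact (Table.relOK_iff relPaths 16260 813).mp Cfsg.Agent.Lib.Helper28.TCSuzbL2.rel20 p (by omega) (by omega) _ hm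
  rcases Nat.lt_or_ge p 17886 with h21 | h21
  · exact (Table.relOK_iff relPaths 17073 813).mp Cfsg.Agent.Lib.Helper28.TCSuzbL3.rel21 p (by omega) (by omega) _ hm
  rcases Nat.lt_or_ge p 18699 with h22 | h22
  · exact (Table.relOK_iff relPaths 17886 813).mp Cfsg.Agent.Lib.Helper28.TCSuzbL3.rel22 p (by omega) (by omega) _ hm
  rcases Nat.lt_or_ge p 19512 with h23 | h23
  · exact (Table.relOK_iff relPaths 18699 813).mp Cfsg.Agent.Lib.Helper28.TCSuzbL3.rel23 p (by omega) (by omega) _ hm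
  rcases Nat.lt_or_ge p 20325 with h24 | h24
  · exact (Table.relOK_iff relPaths 19512 813).mp Cfsg.Agent.Lib.Helper28.TCSuzbL3.rel24 p (by omega) (by omega) _ hm
  rcases Nat.lt_or_ge p 21138 with h25 | h25
  · exact (Table.relOK_iff relPaths 20325 813).mp Cfsg.Agent.Lib.Helper28.TCSuzbL3.rel25 p (by omega) (by omega) _ hm
  rcases Nat.lt_or_ge p 21951 with h26 | h26
  · exact (Table.relOK_iff relPaths 21138 813).mp Cfsg.Agent.Lib.Helper28.TCSuzbL3.rel26 p (by omega) (by omega) _ hm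
  rcases Nat.lt_or_ge p 22764 with h27 | h27
  · exact (Table.relOK_iff relPaths 21951 813).mp Cfsg.Agent.Lib.Helper28.TCSuzbL3.rel27 p (by omega) (by omega) _ hm
  exact (Table.relOK_iff relPaths 22764 116).mp Cfsg.Agent.Lib.Helper28.TCSuzbL4.rel28 p (by omega) (by omega) _ hm

theorem hsubT : ∀ L ∈ subWords, table.walkT (pathOf lw L) 0 = 0 :=
  fun L hL => (Table.subOK_iff subPaths).mp hsub0 _ (hsubmem L hL)

/-- In the presented sporadic Suzuki group (generators a, …, g), the subgroup generated by the images of a, b, c, d, f, g has index 22880. -/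
theorem result : (((Subgroup.closure ({Cfsg.Spor.Suz.a, Cfsg.Spor.Suz.b, Cfsg.Spor.Suz.c, Cfsg.Spor.Suz.d, Cfsg.Spor.Suz.f, Cfsg.Spor.Suz.g} : Set (FreeGroup Cfsg.Spor.Suz.Gen))).map (PresentedGroup.mk (Cfsg.Spor.coxRelators Cfsg.Spor.Suz.edges ∪ {r | r ∈ Cfsg.Spor.Suz.extra})))).index = 22880 := by
  have hT := Table.ok_of_checks table hinvOK hperm
  obtain ⟨hidx, φ, hφ, f, hbij, hequiv, -⟩ := index_eq link hchk hfin hcount hT (by decide) hrelT hsubT htree
  exact hidx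

end Cfsg.Agent.S1681
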