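import Cfsg.Statements.S1682
-- import your own Cfsg.Agent.* helpers here
import Cfsg.Agent.Lib.Helper3.TCX.SpHe

set_option autoImplicit false
open Cfsg

namespace Cfsg.Agent.S1682

open Cfsg.Agent.Lib.Helper3.TCX Cfsg.Agent.Lib.Helper3.TCX.SpHe

/-- In the presented Held group, the subgroup H generated by the images of a, c, d, e, f, (ab)^2 and (bcde)^7 has a normal subgroup of index 2 isomorphic to the 4-dimensional symplectic group over a field with four elements. -/
theorem result : ∃ (N : Subgroup (((Subgroup.closure ({Cfsg.Spor.He.a, Cfsg.Spor.He.c, Cfsg.Spor.He.d, Cfsg.Spor.He.e, Cfsg.Spor.He.f, (Cfsg.Spor.He.a * Cfsg.Spor.He.b) ^ 2, (Cfsg.Spor.He.b * Cfsg.Spor.He.c * Cfsg.Spor.He.d * Cfsg.Spor.He.e) ^ 7} : Set (FreeGroup Cfsg.Spor.He.Gen))).map (PresentedGroup.mk (Cfsg.Spor.coxRelators Cfsg.Spor.He.edges ∪ {r | r ∈ Cfsg.Spor.He.extra}))))) (K : Type) (_ : Field K) (_ : Fintype K), N.Normal ∧ N.index = 2 ∧ Fintype.card K = 4 ∧ Nonempty (N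 ≃* Matrix.symplecticGroup (Fin 2) K) := by
  obtain ⟨φ, hinj, -, hcard, N', hle, hcN, ⟨e⟩⟩ := SpHe.core
  have hidx : SpHe.H.index = 2058 := Cfsg.Agent.S1683.result.1
  have hcardH : Nat.card SpHe.H = 1958400 := by
    have := SpHe.H.index_mul_card
    rw [hidx, hcard] at this
    omega
  have e1 : (N'.subgroupOf SpHe.H) ≃* N' := Subgroup.subgroupOfEquivOfLe hle
  have hcN2 : Nat.card (N'.subgroupOf SpHe.H) = 979200 := by
    rw [Nat.card_congr e1.toEquiv, hcN]
  have hind : (N'.subgroupOf SpHe.H).index = 2 := by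
    have := (N'.subgroupOf SpHe.H).card_mul_index
    rw [hcN2, hcardH] at this
    omega
  refine ⟨N'.subgroupOf SpHe.H, SpMat.F4, inferInstance, inferInstance, ?_, hind, SpMat.card_F4, ⟨e1.trans e⟩⟩
  exact Subgroup.normal_of_index_eq_two hind

end Cfsg.Agent.S1682
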