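import Cfsg.Statements.S1685
import Cfsg.Agent.Lib.Helper28.TC2GlueOrb
import Cfsg.Agent.Lib.Helper28.TCFi22bLink
import Cfsg.Agent.Lib.Helper28.TCFi22bM
import Cfsg.Agent.Lib.Helper28.TCFi22bU0
import Cfsg.Agent.Lib.Helper28.TCFi22bU1
import Cfsg.Agent.Lib.Helper28.TCFi22bU2
import Cfsg.Agent.Lib.Helper28.TCFi22bU3
import Cfsg.Agent.Lib.Helper28.TCFi22bU4
import Cfsg.Agent.Lib.Helper28.TCFi22bU5
import Cfsg.Agent.Lib.Helper28.TCFi22bL0
import Cfsg.Agent.Lib.Helper28.TCFi22bL1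
import Cfsg.Agent.Lib.Helper28.TCFi22bL2
import Cfsg.Agent.Lib.Helper28.TCFi22bL3
import Cfsg.Agent.Lib.Helper28.TCFi22bL4
import Cfsg.Agent.Lib.Helper28.TCFi22bL5

set_option autoImplicit false
set_option maxRecDepth 100000
open Cfsg

namespace Cfsg.Agent.S1685
open Cfsg.Agent.Lib.Helper28.TC2Upper Cfsg.Agent.Lib.Helper28.TC2Lower Cfsg.Agent.Lib.Helper28.TC2Glue Cfsg.Agent.Lib.Helper28.TC2GlueOrb Cfsg.Agent.Lib.Helper28.TC2Orbit
open Cfsg.Agent.Lib.Helper28.TCFi22bData Cfsg.Agent.Lib.Helper28.TCFi22bTable Cfsg.Agent.Lib.Helper28.TCFi22bLink Cfsg.Agent.Lib.Helper28.TCFi22bM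

theorem hchk : ∀ v, v < data.N → data.checkNode v = true := by
  intro v hv
  have hv' : v < 20013 := hv
  rcases Nat.lt_or_ge v 682 with h0 | h0
  · exact (data.checkRange_iff 0 682).mp Cfsg.Agent.Lib.Helper28.TCFi22bU0.chk0 v (by omega) (by omega)
  rcases Nat.lt_or_ge v 1477 with h1 | h1
  · exact (data.checkRange_iff 682 795).mp Cfsg.Agent.Lib.Helper28.TCFi22bU0.chk1 v (by omega) (by omega)
  rcases Nat.lt_or_ge v 2474 with h2 | h2
  · exact (data.checkRange_iff 1477 997).mp Cfsg.Agent.Lib.Helper28.TCFi22bU0.chk2 v (by omega) (by omega)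
  rcases Nat.lt_or_ge v 3491 with h3 | h3
  · exact (data.checkRange_iff 2474 1017).mp Cfsg.Agent.Lib.Helper28.TCFi22bU0.chk3 v (by omega) (by omega)
  rcases Nat.lt_or_ge v 4655 with h4 | h4
  · exact (data.checkRange_iff 3491 1164).mp Cfsg.Agent.Lib.Helper28.TCFi22bU0.chk4 v (by omega) (by omega)
  rcases Nat.lt_or_ge v 6103 with h5 | h5
  · exact (data.checkRange_iff 4655 1448).mp Cfsg.Agent.Lib.Helper28.TCFi22bU1.chk5 v (by omega) (by omega)
  rcases Nat.lt_or_ge v 7311 with h6 | h6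
  · exact (data.checkRange_iff 6103 1208).mp Cfsg.Agent.Lib.Helper28.TCFi22bU1.chk6 v (by omega) (by omega)
  rcases Nat.lt_or_ge v 8691 with h7 | h7
  · exact (data.checkRange_iff 7311 1380).mp Cfsg.Agent.Lib.Helper28.TCFi22bU1.chk7 v (by omega) (by omega)
  rcases Nat.lt_or_ge v 10091 with h8 | h8
  · exact (data.checkRange_iff 8691 1400).mp Cfsg.Agent.Lib.Helper28.TCFi22bU1.chk8 v (by omega) (by omega)
  rcases Nat.lt_or_ge v 10691 with h9 | h9
  · exact (data.checkRange_iff 10091 600).mp Cfsg.Agent.Lib.Helper28.TCFi22bU1.chk9 v (by omega) (by omega)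
  rcases Nat.lt_or_ge v 11291 with h10 | h10
  · exact (data.checkRange_iff 10691 600).mp Cfsg.Agent.Lib.Helper28.TCFi22bU2.chk10 v (by omega) (by omega)
  rcases Nat.lt_or_ge v 11891 with h11 | h11
  · exact (data.checkRange_iff 11291 600).mp Cfsg.Agent.Lib.Helper28.TCFi22bU2.chk11 v (by omega) (by omega)
  rcases Nat.lt_or_ge v 12491 with h12 | h12
  · exact (data.checkRange_iff 11891 600).mp Cfsg.Agent.Lib.Helper28.TCFi22bU2.chk12 v (by omega) (by omega)
  rcases Nat.lt_or_ge v 13091 with h13 | h13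
  · exact (data.checkRange_iff 12491 600).mp Cfsg.Agent.Lib.Helper28.TCFi22bU2.chk13 v (by omega) (by omega)
  rcases Nat.lt_or_ge v 13691 with h14 | h14
  · exact (data.checkRange_iff 13091 600).mp Cfsg.Agent.Lib.Helper28.TCFi22bU2.chk14 v (by omega) (by omega)
  rcases Nat.lt_or_ge v 14291 with h15 | h15
  · exact (data.checkRange_iff 13691 600).mp Cfsg.Agent.Lib.Helper28.TCFi22bU3.chk15 v (by omega) (by omega)
  rcases Nat.lt_or_ge v 14891 with h16 | h16
  · exact (data.checkRange_iff 14291 600).mp Cfsg.Agent.Lib.Helper28.TCFi22bU3.chk16 v (by omega) (by omega)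
  rcases Nat.lt_or_ge v 15491 with h17 | h17
  · exact (data.checkRange_iff 14891 600).mp Cfsg.Agent.Lib.Helper28.TCFi22bU3.chk17 v (by omega) (by omega)
  rcases Nat.lt_or_ge v 16091 with h18 | h18
  · exact (data.checkRange_iff 15491 600).mp Cfsg.Agent.Lib.Helper28.TCFi22bU3.chk18 v (by omega) (by omega)
  rcases Nat.lt_or_ge v 16691 with h19 | h19
  · exact (data.checkRange_iff 16091 600).mp Cfsg.Agent.Lib.Helper28.TCFi22bU3.chk19 v (by omega) (by omega)
  rcases Nat.lt_or_ge v 17291 with h20 | h20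
  · exact (data.checkRange_iff 16691 600).mp Cfsg.Agent.Lib.Helper28.TCFi22bU4.chk20 v (by omega) (by omega)
  rcases Nat.lt_or_ge v 17891 with h21 | h21
  · exact (data.checkRange_iff 17291 600).mp Cfsg.Agent.Lib.Helper28.TCFi22bU4.chk21 v (by omega) (by omega)
  rcases Nat.lt_or_ge v 18491 with h22 | h22
  · exact (data.checkRange_iff 17891 600).mp Cfsg.Agent.Lib.Helper28.TCFi22bU4.chk22 v (by omega) (by omega)
  rcases Nat.lt_or_ge v 19091 with h23 | h23
  · exact (data.checkRange_iff 18491 600).mp Cfsg.Agent.Lib.Helper28.TCFi22bU4.chk23 v (by omega) (by omega)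
  rcases Nat.lt_or_ge v 19691 with h24 | h24
  · exact (data.checkRange_iff 19091 600).mp Cfsg.Agent.Lib.Helper28.TCFi22bU4.chk24 v (by omega) (by omega)
  exact (data.checkRange_iff 19691 322).mp Cfsg.Agent.Lib.Helper28.TCFi22bU5.chk25 v (by omega) (by omega)

theorem hrelT : ∀ L ∈ relWords, ∀ p, p < table.n → table.walkT (pathOf lw L) p = p := by
  intro L hL p hp
  have hp' : p < 14080 := hp
  have hm := hrelmem L hL
  rcases Nat.lt_or_ge p 451 with h0 | h0
  · exact (Table.relOK_iff relPaths 0 451).mp Cfsg.Agent.Lib.Helper28.TCFi22bL0.rel0 p (by omega) (by omega) _ hm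
  rcases Nat.lt_or_ge p 902 with h1 | h1
  · exact (Table.relOK_iff relPaths 451 451).mp Cfsg.Agent.Lib.Helper28.TCFi22bL0.rel1 p (by omega) (by omega) _ hm
  rcases Nat.lt_or_ge p 1353 with h2 | h2
  · exact (Table.relOK_iff relPaths 902 451).mp Cfsg.Agent.Lib.Helper28.TCFi22bL0.rel2 p (by omega) (by omega) _ hm
  rcases Nat.lt_or_ge p 1804 with h3 | h3
  · exact (Table.relOK_iff relPaths 1353 451).mp Cfsg.Agent.Lib.Helper28.TCFi22bL0.rel3 p (by omega) (by omega) _ hm
  rcases Nat.lt_or_ge p 2255 with h4 | h4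
  · exact (Table.relOK_iff relPaths 1804 451).mp Cfsg.Agent.Lib.Helper28.TCFi22bL0.rel4 p (by omega) (by omega) _ hm
  rcases Nat.lt_or_ge p 2706 with h5 | h5
  · exact (Table.relOK_iff relPaths 2255 451).mp Cfsg.Agent.Lib.Helper28.TCFi22bL0.rel5 p (by omega) (by omega) _ hm
  rcases Nat.lt_or_ge p 3157 with h6 | h6
  · exact (Table.relOK_iff relPaths 2706 451).mp Cfsg.Agent.Lib.Helper28.TCFi22bL1.rel6 p (by omega) (by omega) _ hm
  rcases Nat.lt_or_ge p 3608 with h7 | h7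
  · exact (Table.relOK_iff relPaths 3157 451).mp Cfsg.Agent.Lib.Helper28.TCFi22bL1.rel7 p (by omega) (by omega) _ hm
  rcases Nat.lt_or_ge p 4059 with h8 | h8
  · exact (Table.relOK_iff relPaths 3608 451).mp Cfsg.Agent.Lib.Helper28.TCFi22bL1.rel8 p (by omega) (by omega) _ hm
  rcases Nat.lt_or_ge p 4510 with h9 | h9
  · exact (Table.relOK_iff relPaths 4059 451).mp Cfsg.Agent.Lib.Helper28.TCFi22bL1.rel9 p (by omega) (by omega) _ hm
  rcases Nat.lt_or_ge p 4961 with h10 | h10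
  · exact (Table.relOK_iff relPaths 4510 451).mp Cfsg.Agent.Lib.Helper28.TCFi22bL1.rel10 p (by omega) (by omega) _ hm
  rcases Nat.lt_or_ge p 5412 with h11 | h11
  · exact (Table.relOK_iff relPaths 4961 451).mp Cfsg.Agent.Lib.Helper28.TCFi22bL1.rel11 p (by omega) (by omega) _ hm
  rcases Nat.lt_or_ge p 5863 with h12 | h12
  · exact (Table.relOK_iff relPaths 5412 451).mp Cfsg.Agent.Lib.Helper28.TCFi22bL2.rel12 p (by omega) (by omega) _ hm
  rcases Nat.lt_or_ge p 6314 with h13 | h13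
  · exact (Table.relOK_iff relPaths 5863 451).mp Cfsg.Agent.Lib.Helper28.TCFi22bL2.rel13 p (by omega) (by omega) _ hm
  rcases Nat.lt_or_ge p 6765 with h14 | h14
  · exact (Table.relOK_iff relPaths 6314 451).mp Cfsg.Agent.Lib.Helper28.TCFi22bL2.rel14 p (by omega) (by omega) _ hm
  rcases Nat.lt_or_ge p 7216 with h15 | h15
  · exact (Table.relOK_iff relPaths 6765 451).mp Cfsg.Agent.Lib.Helper28.TCFi22bL2.rel15 p (by omega) (by omega) _ hm
  rcases Nat.lt_or_ge p 7667 with h16 | h16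
  · exact (Table.relOK_iff relPaths 7216 451).mp Cfsg.Agent.Lib.Helper28.TCFi22bL2.rel16 p (by omega) (by omega) _ hm
  rcases Nat.lt_or_ge p 8118 with h17 | h17
  · exact (Table.relOK_iff relPaths 7667 451).mp Cfsg.Agent.Lib.Helper28.TCFi22bL2.rel17 p (by omega) (by omega) _ hm
  rcases Nat.lt_or_ge p 8569 with h18 | h18
  · exact (Table.relOK_iff relPaths 8118 451).mp Cfsg.Agent.Lib.Helper28.TCFi22bL3.rel18 p (by omega) (by omega) _ hm
  rcases Nat.lt_or_ge p 9020 with h19 | h19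
  · exact (Table.relOK_iff relPaths 8569 451).mp Cfsg.Agent.Lib.Helper28.TCFi22bL3.rel19 p (by omega) (by omega) _ hm
  rcases Nat.lt_or_ge p 9471 with h20 | h20
  · exact (Table.relOK_iff relPaths 9020 451).mp Cfsg.Agent.Lib.Helper28.TCFi22bL3.rel20 p (by omega) (by omega) _ hm
  rcases Nat.lt_or_ge p 9922 with h21 | h21
  · exact (Table.relOK_iff relPaths 9471 451).mp Cfsg.Agent.Lib.Helper28.TCFi22bL3.rel21 p (by omega) (by omega) _ hm
  rcases Nat.lt_or_ge p 10373 with h22 | h22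
  · exact (Table.relOK_iff relPaths 9922 451).mp Cfsg.Agent.Lib.Helper28.TCFi22bL3.rel22 p (by omega) (by omega) _ hm
  rcases Nat.lt_or_ge p 10824 with h23 | h23
  · exact (Table.relOK_iff relPaths 10373 451).mp Cfsg.Agent.Lib.Helper28.TCFi22bL3.rel23 p (by omega) (by omega) _ hm
  rcases Nat.lt_or_ge p 11275 with h24 | h24
  · exact (Table.relOK_iff relPaths 10824 451).mp Cfsg.Agent.Lib.Helper28.TCFi22bL4.rel24 p (by omega) (by omega) _ hm
  rcases Nat.lt_or_ge p 11726 with h25 | h25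
  · exact (Table.relOK_iff relPaths 11275 451).mp Cfsg.Agent.Lib.Helper28.TCFi22bL4.rel25 p (by omega) (by omega) _ hm
  rcases Nat.lt_or_ge p 12177 with h26 | h26
  · exact (Table.relOK_iff relPaths 11726 451).mp Cfsg.Agent.Lib.Helper28.TCFi22bL4.rel26 p (by omega) (by omega) _ hm
  rcases Nat.lt_or_ge p 12628 with h27 | h27
  · exact (Table.relOK_iff relPaths 12177 451).mp Cfsg.Agent.Lib.Helper28.TCFi22bL4.rel27 p (by omega) (by omega) _ hm
  rcases Nat.lt_or_ge p 13079 with h28 | h28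
  · exact (Table.relOK_iff relPaths 12628 451).mp Cfsg.Agent.Lib.Helper28.TCFi22bL4.rel28 p (by omega) (by omega) _ hm
  rcases Nat.lt_or_ge p 13530 with h29 | h29
  · exact (Table.relOK_iff relPaths 13079 451).mp Cfsg.Agent.Lib.Helper28.TCFi22bL4.rel29 p (by omega) (by omega) _ hm
  rcases Nat.lt_or_ge p 13981 with h30 | h30
  · exact (Table.relOK_iff relPaths 13530 451).mp Cfsg.Agent.Lib.Helper28.TCFi22bL5.rel30 p (by omega) (by omega) _ hm
  exact (Table.relOK_iff relPaths 13981 99).mp Cfsg.Agent.Lib.Helper28.TCFi22bL5.rel31 p (by omega) (by omega) _ hm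

theorem hsubT : ∀ L ∈ subWords, table.walkT (pathOf lw L) 0 = 0 :=
  fun L hL => (Table.subOK_iff subPaths).mp hsub0 _ (hsubmem L hL)

/-- In the presented Fischer group Fi₂₂ (generators a, …, i), the subgroup generated by the images of b, c, d, e, f, g, h, i has index 14080. -/
theorem result : (((Subgroup.closure ({Cfsg.Spor.Fi22.b, Cfsg.Spor.Fi22.c, Cfsg.Spor.Fi22.d, Cfsg.Spor.Fi22.e, Cfsg.Spor.Fi22.f, Cfsg.Spor.Fi22.g, Cfsg.Spor.Fi22.h, Cfsg.Spor.Fi22.i} : Set (FreeGroup Cfsg.Spor.Fi22.Gen))).map (PresentedGroup.mk (Cfsg.Spor.coxRelators Cfsg.Spor.Fi22.edges ∪ {r | r ∈ Cfsg.Spor.Fi22.extra})))).index = 14080 := by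
  have hT := Table.ok_of_checks table hinvOK hperm
  obtain ⟨hidx, φ, hφ, f, hbij, hequiv, -⟩ := index_eq link hchk hfin hcount hT (by decide) hrelT hsubT htree
  exact hidx

end Cfsg.Agent.S1685
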