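import Cfsg.Statements.S1686
import Cfsg.Agent.S1696
import Cfsg.Agent.Lib.Helper28.TCFi22Tower
import Cfsg.Agent.Lib.Helper28.TCFi22W0Main
import Cfsg.Agent.Lib.Helper13.Fi22O7RepB
import Cfsg.Agent.Lib.Helper13.ONL37E

set_option autoImplicit false
open Cfsg

namespace Cfsg.Agent.S1686

open Cfsg.Agent.Lib.Helper13.ONL Cfsg.Agent.Lib.Helper13.Fi22O7 Cfsg.Agent.Lib.Helper28

/-- If `ψ : K → G` has image containing `H` and `|K| ≤ |H|`, then `ψ` is an isomorphism of `K`
onto `H`. -/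
theorem transfer_equiv {K G : Type*} [Group K] [Group G] [Finite K] (ψ : K →* G) (H : Subgroup G)
    [Finite H] (hH : H ≤ ψ.range) (hcard : Nat.card K ≤ Nat.card H) : Nonempty (K ≃* H) := by
  classical
  have hfinR : Finite ψ.range := Finite.of_surjective ψ.rangeRestrict ψ.rangeRestrict_surjective
  have h1 : Nat.card H ≤ Nat.card ψ.range :=
    Nat.card_le_card_of_injective _ (Subgroup.inclusion_injective hH)
  have h2 : Nat.card ψ.range ≤ Nat.card K :=
    Nat.card_le_card_of_surjective ψ.rangeRestrict ψ.rangeRestrict_surjective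
  have hcR : Nat.card ψ.range = Nat.card K := le_antisymm h2 (le_trans hcard h1)
  have hcH : Nat.card H = Nat.card ψ.range := le_antisymm h1 (by rw [hcR]; exact hcard)
  have heq : H = ψ.range := by
    apply Subgroup.eq_of_le_of_card_ge hH
    rw [hcH]
  have hinj : Function.Injective ψ := by
    have hb : Function.Bijective ψ.rangeRestrict :=
      (Nat.bijective_iff_surjective_and_card ψ.rangeRestrict).2
        ⟨ψ.rangeRestrict_surjective, hcR.symm⟩
    intro x y hxy
    apply hb.1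
    exact Subtype.ext hxy
  exact ⟨(MonoidHom.ofInjective hinj).trans (MulEquiv.subgroupCongr heq.symm)⟩

/-- In the presented Fischer group Fi₂₂, the subgroup generated by the images of b, …, i is isomorphic to PΩ(7, 3), the commutator subgroup of the isometry group of the quadratic form x₀² + x₁y₁ + x₂y₂ + x₃y₃ over the integers mod 3, modulo its centre. -/
theorem result : Nonempty ((((Subgroup.closure ({Cfsg.Spor.Fi22.b, Cfsg.Spor.Fi22.c, Cfsg.Spor.Fi22.d, Cfsg.Spor.Fi22.e, Cfsg.Spor.Fi22.f, Cfsg.Spor.Fi22.g, Cfsg.Spor.Fi22.h, Cfsg.Spor.Fi22.i} : Set (FreeGroup Cfsg.Spor.Fi22.Gen))).map (PresentedGroup.mk (Cfsg.Spor.coxRelators Cfsg.Spor.Fi22.edges ∪ {r | r ∈ Cfsg.Spor.Fi22.extra})))) ≃* Cfsg.POmega (ZMod 3) (Cfsg.quadFormOdd 3 (ZMod 3))) := by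
  -- the order of the subgroup
  have hFi : Nat.card Cfsg.Spor.Fi22 = 64561751654400 := Cfsg.Agent.S1696.result.2
  have hidx : ((Subgroup.closure TCFi22W0Link.S).map
      (PresentedGroup.mk TCFi22W0Link.rels)).index = 14080 := TCFi22W0Main.main.1
  have hcardH : Nat.card ((Subgroup.closure TCFi22W0Link.S).map
      (PresentedGroup.mk TCFi22W0Link.rels)) = 4585351680 := by
    have h := ((Subgroup.closure TCFi22W0Link.S).map
      (PresentedGroup.mk TCFi22W0Link.rels)).index_mul_card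
    have hFi' : Nat.card (PresentedGroup TCFi22W0Link.rels) = 64561751654400 := hFi
    rw [hidx, hFi'] at h
    omega
  -- the sub-presentation
  obtain ⟨hfin, hle⟩ := TCFi22Tower.card1
  have hfin' : Finite (PresentedGroup relsW1) := hfin
  have hle' : Nat.card (PresentedGroup relsW1) ≤ 4585351680 := hle
  obtain ⟨e⟩ := main_hat hle'
  have hrel := TC2Tower.hrel_of_words TCFi22W0Link.rels TCFi22W1Link.rels TCFi22W1Def.up
    TCFi22W0Link.relWords TCFi22W1Link.relWords TCFi22W0Link.link.hrels TCFi22W1Link.link.hrels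
    TCFi22Tower.up0
  have hS : ∀ s ∈ TCFi22W0Link.S, ∃ z, s = FreeGroup.of (TCFi22W1Def.up z) := by
    intro s hs
    simp only [TCFi22W0Link.S, Set.mem_insert_iff, Set.mem_singleton_iff] at hs
    rcases hs with rfl | rfl | rfl | rfl | rfl | rfl | rfl | rfl
    exacts [⟨.b, rfl⟩, ⟨.c, rfl⟩, ⟨.d, rfl⟩, ⟨.e, rfl⟩, ⟨.f, rfl⟩, ⟨.g, rfl⟩, ⟨.h, rfl⟩, ⟨.i, rfl⟩]
  obtain ⟨ψ, hψ⟩ := exists_hom_subpres TCFi22W0Link.rels TCFi22W1Link.rels TCFi22W1Def.up hrel
    TCFi22W0Link.S hS
  have hfinH : Finite ((Subgroup.closure TCFi22W0Link.S).map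
      (PresentedGroup.mk TCFi22W0Link.rels)) :=
    Nat.finite_of_card_ne_zero (by rw [hcardH]; norm_num)
  obtain ⟨e'⟩ := transfer_equiv (K := PresentedGroup relsW1) ψ _ hψ (by rw [hcardH]; exact hle')
  exact ⟨e'.symm.trans e⟩

end Cfsg.Agent.S1686
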