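import Cfsg.Statements.S1687
import Cfsg.Agent.Lib.Helper28.TCGlueOrb
import Cfsg.Agent.Lib.Helper28.TCFi22aLink
import Cfsg.Agent.Lib.Helper28.TCFi22aM
import Cfsg.Agent.Lib.Helper28.TCFi22aU0
import Cfsg.Agent.Lib.Helper28.TCFi22aU1
import Cfsg.Agent.Lib.Helper28.TCFi22aL0
import Cfsg.Agent.Lib.Helper28.TCFi22aL1

set_option autoImplicit false
set_option maxRecDepth 100000
open Cfsg

namespace Cfsg.Agent.S1687
open Cfsg.Agent.Lib.Helper28.TCUpper Cfsg.Agent.Lib.Helper28.TCLower Cfsg.Agent.Lib.Helper28.TCGlue Cfsg.Agent.Lib.Helper28.TCGlueOrb Cfsg.Agent.Lib.Helper28.TCOrbit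
open Cfsg.Agent.Lib.Helper28.TCFi22aData Cfsg.Agent.Lib.Helper28.TCFi22aTable Cfsg.Agent.Lib.Helper28.TCFi22aLink Cfsg.Agent.Lib.Helper28.TCFi22aM

theorem hchk : ∀ v, v < data.N → data.checkNode v = true := by
  intro v hv
  have hv' : v < 3542 := hv
  rcases Nat.lt_or_ge v 609 with h0 | h0
  · exact (data.checkRange_iff 0 609).mp Cfsg.Agent.Lib.Helper28.TCFi22aU0.chk0 v (by omega) (by omega)
  rcases Nat.lt_or_ge v 1220 with h1 | h1
  · exact (data.checkRange_iff 609 611).mp Cfsg.Agent.Lib.Helper28.TCFi22aU0.chk1 v (by omega) (by omega)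
  rcases Nat.lt_or_ge v 1820 with h2 | h2
  · exact (data.checkRange_iff 1220 600).mp Cfsg.Agent.Lib.Helper28.TCFi22aU0.chk2 v (by omega) (by omega)
  rcases Nat.lt_or_ge v 2420 with h3 | h3
  · exact (data.checkRange_iff 1820 600).mp Cfsg.Agent.Lib.Helper28.TCFi22aU0.chk3 v (by omega) (by omega)
  rcases Nat.lt_or_ge v 3020 with h4 | h4
  · exact (data.checkRange_iff 2420 600).mp Cfsg.Agent.Lib.Helper28.TCFi22aU0.chk4 v (by omega) (by omega)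
  exact (data.checkRange_iff 3020 522).mp Cfsg.Agent.Lib.Helper28.TCFi22aU1.chk5 v (by omega) (by omega)

theorem hrelT : ∀ L ∈ relWords, ∀ p, p < table.n → table.walkT (pathOf lw L) p = p := by
  intro L hL p hp
  have hp' : p < 3510 := hp
  have hm := hrelmem L hL
  rcases Nat.lt_or_ge p 451 with h0 | h0
  · exact (Table.relOK_iff relPaths 0 451).mp Cfsg.Agent.Lib.Helper28.TCFi22aL0.rel0 p (by omega) (by omega) _ hm
  rcases Nat.lt_or_ge p 902 with h1 | h1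
  · exact (Table.relOK_iff relPaths 451 451).mp Cfsg.Agent.Lib.Helper28.TCFi22aL0.rel1 p (by omega) (by omega) _ hm
  rcases Nat.lt_or_ge p 1353 with h2 | h2
  · exact (Table.relOK_iff relPaths 902 451).mp Cfsg.Agent.Lib.Helper28.TCFi22aL0.rel2 p (by omega) (by omega) _ hm
  rcases Nat.lt_or_ge p 1804 with h3 | h3
  · exact (Table.relOK_iff relPaths 1353 451).mp Cfsg.Agent.Lib.Helper28.TCFi22aL0.rel3 p (by omega) (by omega) _ hm
  rcases Nat.lt_or_ge p 2255 with h4 | h4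
  · exact (Table.relOK_iff relPaths 1804 451).mp Cfsg.Agent.Lib.Helper28.TCFi22aL0.rel4 p (by omega) (by omega) _ hm
  rcases Nat.lt_or_ge p 2706 with h5 | h5
  · exact (Table.relOK_iff relPaths 2255 451).mp Cfsg.Agent.Lib.Helper28.TCFi22aL0.rel5 p (by omega) (by omega) _ hm
  rcases Nat.lt_or_ge p 3157 with h6 | h6
  · exact (Table.relOK_iff relPaths 2706 451).mp Cfsg.Agent.Lib.Helper28.TCFi22aL1.rel6 p (by omega) (by omega) _ hm
  exact (Table.relOK_iff relPaths 3157 353).mp Cfsg.Agent.Lib.Helper28.TCFi22aL1.rel7 p (by omega) (by omega) _ hm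

theorem hsubT : ∀ L ∈ subWords, table.walkT (pathOf lw L) 0 = 0 :=
  fun L hL => (Table.subOK_iff subPaths).mp hsub0 _ (hsubmem L hL)

theorem hclosed : ∀ p, p < table.n → ∀ s ∈ subPaths, orbData.oid (table.walkT s p) = orbData.oid p := by
  intro p hp
  have hp' : p < 3510 := hp
  exact (orbData.closedOK_iff table subPaths 0 3510).mp clo0 p (by omega) (by omega)

theorem hconn : ∀ p, p < table.n →
    (orbData.depth p = 0 ∧ orbData.roots.look (orbData.oid p) = p) ∨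
    (orbData.depth p ≠ 0 ∧ orbData.parent p < table.n ∧ orbData.oid (orbData.parent p) = orbData.oid p ∧
      orbData.depth (orbData.parent p) + 1 = orbData.depth p ∧
      table.walkT (orbData.gens.look (orbData.gen p)) (orbData.parent p) = p) :=
  fun p hp => (orbData.connOK_iff table 0 3510).mp conn0 p (Nat.zero_le _) (by have : p < 3510 := hp; omega)

theorem cnt0 : orbData.count table.n (orbData.oid 6) = 693 := by decide +kernel
theorem cnt1 : orbData.count table.n (orbData.oid 1) = 2816 := by decide +kernel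

/-- In the presented Fischer group Fi₂₂, let H be the subgroup generated by the images of a, c, d, e, f, g, h, i and (abcdeh)^5. Then H has index 3510, H has orbits of sizes 693 and 2816 on the cosets of H other than H itself. -/
theorem result : (((Subgroup.closure ({Cfsg.Spor.Fi22.a, Cfsg.Spor.Fi22.c, Cfsg.Spor.Fi22.d, Cfsg.Spor.Fi22.e, Cfsg.Spor.Fi22.f, Cfsg.Spor.Fi22.g, Cfsg.Spor.Fi22.h, Cfsg.Spor.Fi22.i, (Cfsg.Spor.Fi22.a * Cfsg.Spor.Fi22.b * Cfsg.Spor.Fi22.c * Cfsg.Spor.Fi22.d * Cfsg.Spor.Fi22.e * Cfsg.Spor.Fi22.h) ^ 5} : Set (FreeGroup Cfsg.Spor.Fi22.Gen))).map (PresentedGroup.mk (Cfsg.Spor.coxRelators Cfsg.Spor.Fi22.edges ∪ {r | r ∈ Cfsg.Spor.Fi22.extra})))).index = 3510 ∧ ∃ q₁ q₂ : Cfsg.Spor.Fi22 ⧸ (((Subgroup.closure ({Cfsg.Spor.Fi22.a, Cfsg.Spor.Fi22.c, Cfsg.Spor.Fi22.d, Cfsg.Spor.Fi22.e, Cfsg.Spor.Fi22.f, Cfsg.Spor.Fi22.g, Cfsg.Spor.Fi22.h, Cfsg.Spor.Fi22.i, (Cfsg.Spor.Fi22.a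 * Cfsg.Spor.Fi22.b * Cfsg.Spor.Fi22.c * Cfsg.Spor.Fi22.d * Cfsg.Spor.Fi22.e * Cfsg.Spor.Fi22.h) ^ 5} : Set (FreeGroup Cfsg.Spor.Fi22.Gen))).map (PresentedGroup.mk (Cfsg.Spor.coxRelators Cfsg.Spor.Fi22.edges ∪ {r | r ∈ Cfsg.Spor.Fi22.extra})))), (MulAction.orbit (((Subgroup.closure ({Cfsg.Spor.Fi22.a, Cfsg.Spor.Fi22.c, Cfsg.Spor.Fi22.d, Cfsg.Spor.Fi22.e, Cfsg.Spor.Fi22.f, Cfsg.Spor.Fi22.g, Cfsg.Spor.Fi22.h, Cfsg.Spor.Fi22.i, (Cfsg.Spor.Fi22.a * Cfsg.Spor.Fi22.b * Cfsg.Spor.Fi22.c * Cfsg.Spor.Fi22.d * Cfsg.Spor.Fi22.e * Cfsg.Spor.Fi22.h) ^ 5} : Set (FreeGroup Cfsg.Spor.Fi22.Gen))).map (PresentedGroup.mk (Cfsg.Spor.coxRelators Cfsg.Spor.Fi22.edges ∪ {r | r ∈ Cfsg.Spor.Fi22.extra})))) q₁).ncard = 693 ∧ (MulAction.orbit (((Subgroup.closure ({Cfsg.Spor.Fi22.a, Cfsg.Spor.Fi22.c, Cfsg.Spor.Fi22.d, Cfsg.Spor.Fi22.e, Cfsg.Spor.Fi22.f, Cfsg.Spor.Fi22.g, Cfsg.Spor.Fi22.h, Cfsg.Spor.Fi22.i,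 (Cfsg.Spor.Fi22.a * Cfsg.Spor.Fi22.b * Cfsg.Spor.Fi22.c * Cfsg.Spor.Fi22.d * Cfsg.Spor.Fi22.e * Cfsg.Spor.Fi22.h) ^ 5} : Set (FreeGroup Cfsg.Spor.Fi22.Gen))).map (PresentedGroup.mk (Cfsg.Spor.coxRelators Cfsg.Spor.Fi22.edges ∪ {r | r ∈ Cfsg.Spor.Fi22.extra})))) q₂).ncard = 2816 := by
  have hT := Table.ok_of_checks table hinvOK hperm
  obtain ⟨hidx, φ, hφ, f, hbij, hequiv, -⟩ := index_eq link hchk hb hfin hcount hT (by decide) hrelT hsubT htree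
  refine ⟨hidx, ?_⟩
  have horb := fun q => suborbits link hT φ hφ f hbij hequiv orbData subPaths hsubmem hsubmem' hclosed
    (BT.All_of_all (fun _ h => of_decide_eq_true h) _ hgens) hconn q
  obtain ⟨q0, hq0⟩ := hbij.2 (⟨6, by decide⟩ : Fin table.n)
  obtain ⟨q1, hq1⟩ := hbij.2 (⟨1, by decide⟩ : Fin table.n)
  exact ⟨q0, q1, (horb q0).1.trans (by rw [hq0]; exact cnt0), (horb q1).1.trans (by rw [hq1]; exact cnt1)⟩

end Cfsg.Agent.S1687
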