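import Cfsg.Statements.S1689
import Cfsg.Agent.Lib.Helper28.TC2GlueOrb
import Cfsg.Agent.Lib.Helper28.TCFi23Link
import Cfsg.Agent.Lib.Helper28.TCFi23M
import Cfsg.Agent.Lib.Helper28.TCFi23U0
import Cfsg.Agent.Lib.Helper28.TCFi23U1
import Cfsg.Agent.Lib.Helper28.TCFi23U2
import Cfsg.Agent.Lib.Helper28.TCFi23U3
import Cfsg.Agent.Lib.Helper28.TCFi23U4
import Cfsg.Agent.Lib.Helper28.TCFi23U5
import Cfsg.Agent.Lib.Helper28.TCFi23U6
import Cfsg.Agent.Lib.Helper28.TCFi23L0
import Cfsg.Agent.Lib.Helper28.TCFi23L1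
import Cfsg.Agent.Lib.Helper28.TCFi23L2
import Cfsg.Agent.Lib.Helper28.TCFi23L3
import Cfsg.Agent.Lib.Helper28.TCFi23L4
import Cfsg.Agent.Lib.Helper28.TCFi23L5
import Cfsg.Agent.Lib.Helper28.TCFi23L6

set_option autoImplicit false
set_option maxRecDepth 100000
open Cfsg

namespace Cfsg.Agent.S1689
open Cfsg.Agent.Lib.Helper28.TC2Upper Cfsg.Agent.Lib.Helper28.TC2Lower Cfsg.Agent.Lib.Helper28.TC2Glue Cfsg.Agent.Lib.Helper28.TC2GlueOrb Cfsg.Agent.Lib.Helper28.TC2Orbit
open Cfsg.Agent.Lib.Helper28.TCFi23Data Cfsg.Agent.Lib.Helper28.TCFi23Table Cfsg.Agent.Lib.Helper28.TCFi23Link Cfsg.Agent.Lib.Helper28.TCFi23M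

theorem hchk : ∀ v, v < data.N → data.checkNode v = true := by
  intro v hv
  have hv' : v < 64483 := hv
  rcases Nat.lt_or_ge v 738 with h0 | h0
  · exact (data.checkRange_iff 0 738).mp Cfsg.Agent.Lib.Helper28.TCFi23U0.chk0 v (by omega) (by omega)
  rcases Nat.lt_or_ge v 1537 with h1 | h1
  · exact (data.checkRange_iff 738 799).mp Cfsg.Agent.Lib.Helper28.TCFi23U0.chk1 v (by omega) (by omega)
  rcases Nat.lt_or_ge v 2368 with h2 | h2
  · exact (data.checkRange_iff 1537 831).mp Cfsg.Agent.Lib.Helper28.TCFi23U0.chk2 v (by omega) (by omega)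
  rcases Nat.lt_or_ge v 3298 with h3 | h3
  · exact (data.checkRange_iff 2368 930).mp Cfsg.Agent.Lib.Helper28.TCFi23U0.chk3 v (by omega) (by omega)
  rcases Nat.lt_or_ge v 4257 with h4 | h4
  · exact (data.checkRange_iff 3298 959).mp Cfsg.Agent.Lib.Helper28.TCFi23U0.chk4 v (by omega) (by omega)
  rcases Nat.lt_or_ge v 5228 with h5 | h5
  · exact (data.checkRange_iff 4257 971).mp Cfsg.Agent.Lib.Helper28.TCFi23U0.chk5 v (by omega) (by omega)
  rcases Nat.lt_or_ge v 6626 with h6 | h6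
  · exact (data.checkRange_iff 5228 1398).mp Cfsg.Agent.Lib.Helper28.TCFi23U0.chk6 v (by omega) (by omega)
  rcases Nat.lt_or_ge v 7524 with h7 | h7
  · exact (data.checkRange_iff 6626 898).mp Cfsg.Agent.Lib.Helper28.TCFi23U0.chk7 v (by omega) (by omega)
  rcases Nat.lt_or_ge v 9423 with h8 | h8
  · exact (data.checkRange_iff 7524 1899).mp Cfsg.Agent.Lib.Helper28.TCFi23U1.chk8 v (by omega) (by omega)
  rcases Nat.lt_or_ge v 10243 with h9 | h9
  · exact (data.checkRange_iff 9423 820).mp Cfsg.Agent.Lib.Helper28.TCFi23U1.chk9 v (by omega) (by omega)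
  rcases Nat.lt_or_ge v 11480 with h10 | h10
  · exact (data.checkRange_iff 10243 1237).mp Cfsg.Agent.Lib.Helper28.TCFi23U1.chk10 v (by omega) (by omega)
  rcases Nat.lt_or_ge v 13870 with h11 | h11
  · exact (data.checkRange_iff 11480 2390).mp Cfsg.Agent.Lib.Helper28.TCFi23U1.chk11 v (by omega) (by omega)
  rcases Nat.lt_or_ge v 14771 with h12 | h12
  · exact (data.checkRange_iff 13870 901).mp Cfsg.Agent.Lib.Helper28.TCFi23U1.chk12 v (by omega) (by omega)
  rcases Nat.lt_or_ge v 16229 with h13 | h13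
  · exact (data.checkRange_iff 14771 1458).mp Cfsg.Agent.Lib.Helper28.TCFi23U1.chk13 v (by omega) (by omega)
  rcases Nat.lt_or_ge v 19781 with h14 | h14
  · exact (data.checkRange_iff 16229 3552).mp Cfsg.Agent.Lib.Helper28.TCFi23U1.chk14 v (by omega) (by omega)
  rcases Nat.lt_or_ge v 20710 with h15 | h15
  · exact (data.checkRange_iff 19781 929).mp Cfsg.Agent.Lib.Helper28.TCFi23U1.chk15 v (by omega) (by omega)
  rcases Nat.lt_or_ge v 21652 with h16 | h16
  · exact (data.checkRange_iff 20710 942).mp Cfsg.Agent.Lib.Helper28.TCFi23U2.chk16 v (by omega) (by omega)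
  rcases Nat.lt_or_ge v 23568 with h17 | h17
  · exact (data.checkRange_iff 21652 1916).mp Cfsg.Agent.Lib.Helper28.TCFi23U2.chk17 v (by omega) (by omega)
  rcases Nat.lt_or_ge v 28562 with h18 | h18
  · exact (data.checkRange_iff 23568 4994).mp Cfsg.Agent.Lib.Helper28.TCFi23U2.chk18 v (by omega) (by omega)
  rcases Nat.lt_or_ge v 29413 with h19 | h19
  · exact (data.checkRange_iff 28562 851).mp Cfsg.Agent.Lib.Helper28.TCFi23U2.chk19 v (by omega) (by omega)
  rcases Nat.lt_or_ge v 30748 with h20 | h20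
  · exact (data.checkRange_iff 29413 1335).mp Cfsg.Agent.Lib.Helper28.TCFi23U2.chk20 v (by omega) (by omega)
  rcases Nat.lt_or_ge v 31761 with h21 | h21
  · exact (data.checkRange_iff 30748 1013).mp Cfsg.Agent.Lib.Helper28.TCFi23U2.chk21 v (by omega) (by omega)
  rcases Nat.lt_or_ge v 34817 with h22 | h22
  · exact (data.checkRange_iff 31761 3056).mp Cfsg.Agent.Lib.Helper28.TCFi23U2.chk22 v (by omega) (by omega)
  rcases Nat.lt_or_ge v 41647 with h23 | h23
  · exact (data.checkRange_iff 34817 6830).mp Cfsg.Agent.Lib.Helper28.TCFi23U2.chk23 v (by omega) (by omega)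
  rcases Nat.lt_or_ge v 42658 with h24 | h24
  · exact (data.checkRange_iff 41647 1011).mp Cfsg.Agent.Lib.Helper28.TCFi23U3.chk24 v (by omega) (by omega)
  rcases Nat.lt_or_ge v 44438 with h25 | h25
  · exact (data.checkRange_iff 42658 1780).mp Cfsg.Agent.Lib.Helper28.TCFi23U3.chk25 v (by omega) (by omega)
  rcases Nat.lt_or_ge v 45617 with h26 | h26
  · exact (data.checkRange_iff 44438 1179).mp Cfsg.Agent.Lib.Helper28.TCFi23U3.chk26 v (by omega) (by omega)
  rcases Nat.lt_or_ge v 46760 with h27 | h27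
  · exact (data.checkRange_iff 45617 1143).mp Cfsg.Agent.Lib.Helper28.TCFi23U3.chk27 v (by omega) (by omega)
  rcases Nat.lt_or_ge v 47488 with h28 | h28
  · exact (data.checkRange_iff 46760 728).mp Cfsg.Agent.Lib.Helper28.TCFi23U3.chk28 v (by omega) (by omega)
  rcases Nat.lt_or_ge v 48216 with h29 | h29
  · exact (data.checkRange_iff 47488 728).mp Cfsg.Agent.Lib.Helper28.TCFi23U3.chk29 v (by omega) (by omega)
  rcases Nat.lt_or_ge v 48944 with h30 | h30
  · exact (data.checkRange_iff 48216 728).mp Cfsg.Agent.Lib.Helper28.TCFi23U3.chk30 v (by omega) (by omega)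
  rcases Nat.lt_or_ge v 49672 with h31 | h31
  · exact (data.checkRange_iff 48944 728).mp Cfsg.Agent.Lib.Helper28.TCFi23U3.chk31 v (by omega) (by omega)
  rcases Nat.lt_or_ge v 50400 with h32 | h32
  · exact (data.checkRange_iff 49672 728).mp Cfsg.Agent.Lib.Helper28.TCFi23U4.chk32 v (by omega) (by omega)
  rcases Nat.lt_or_ge v 51128 with h33 | h33
  · exact (data.checkRange_iff 50400 728).mp Cfsg.Agent.Lib.Helper28.TCFi23U4.chk33 v (by omega) (by omega)
  rcases Nat.lt_or_ge v 51856 with h34 | h34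
  · exact (data.checkRange_iff 51128 728).mp Cfsg.Agent.Lib.Helper28.TCFi23U4.chk34 v (by omega) (by omega)
  rcases Nat.lt_or_ge v 52584 with h35 | h35
  · exact (data.checkRange_iff 51856 728).mp Cfsg.Agent.Lib.Helper28.TCFi23U4.chk35 v (by omega) (by omega)
  rcases Nat.lt_or_ge v 53312 with h36 | h36
  · exact (data.checkRange_iff 52584 728).mp Cfsg.Agent.Lib.Helper28.TCFi23U4.chk36 v (by omega) (by omega)
  rcases Nat.lt_or_ge v 54040 with h37 | h37
  · exact (data.checkRange_iff 53312 728).mp Cfsg.Agent.Lib.Helper28.TCFi23U4.chk37 v (by omega) (by omega)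
  rcases Nat.lt_or_ge v 54768 with h38 | h38
  · exact (data.checkRange_iff 54040 728).mp Cfsg.Agent.Lib.Helper28.TCFi23U4.chk38 v (by omega) (by omega)
  rcases Nat.lt_or_ge v 55496 with h39 | h39
  · exact (data.checkRange_iff 54768 728).mp Cfsg.Agent.Lib.Helper28.TCFi23U4.chk39 v (by omega) (by omega)
  rcases Nat.lt_or_ge v 56224 with h40 | h40
  · exact (data.checkRange_iff 55496 728).mp Cfsg.Agent.Lib.Helper28.TCFi23U5.chk40 v (by omega) (by omega)
  rcases Nat.lt_or_ge v 56952 with h41 | h41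
  · exact (data.checkRange_iff 56224 728).mp Cfsg.Agent.Lib.Helper28.TCFi23U5.chk41 v (by omega) (by omega)
  rcases Nat.lt_or_ge v 57680 with h42 | h42
  · exact (data.checkRange_iff 56952 728).mp Cfsg.Agent.Lib.Helper28.TCFi23U5.chk42 v (by omega) (by omega)
  rcases Nat.lt_or_ge v 58408 with h43 | h43
  · exact (data.checkRange_iff 57680 728).mp Cfsg.Agent.Lib.Helper28.TCFi23U5.chk43 v (by omega) (by omega)
  rcases Nat.lt_or_ge v 59136 with h44 | h44
  · exact (data.checkRange_iff 58408 728).mp Cfsg.Agent.Lib.Helper28.TCFi23U5.chk44 v (by omega) (by omega)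
  rcases Nat.lt_or_ge v 59864 with h45 | h45
  · exact (data.checkRange_iff 59136 728).mp Cfsg.Agent.Lib.Helper28.TCFi23U5.chk45 v (by omega) (by omega)
  rcases Nat.lt_or_ge v 60592 with h46 | h46
  · exact (data.checkRange_iff 59864 728).mp Cfsg.Agent.Lib.Helper28.TCFi23U5.chk46 v (by omega) (by omega)
  rcases Nat.lt_or_ge v 61320 with h47 | h47
  · exact (data.checkRange_iff 60592 728).mp Cfsg.Agent.Lib.Helper28.TCFi23U5.chk47 v (by omega) (by omega)
  rcases Nat.lt_or_ge v 62048 with h48 | h48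
  · exact (data.checkRange_iff 61320 728).mp Cfsg.Agent.Lib.Helper28.TCFi23U6.chk48 v (by omega) (by omega)
  rcases Nat.lt_or_ge v 62776 with h49 | h49
  · exact (data.checkRange_iff 62048 728).mp Cfsg.Agent.Lib.Helper28.TCFi23U6.chk49 v (by omega) (by omega)
  rcases Nat.lt_or_ge v 63504 with h50 | h50
  · exact (data.checkRange_iff 62776 728).mp Cfsg.Agent.Lib.Helper28.TCFi23U6.chk50 v (by omega) (by omega)
  rcases Nat.lt_or_ge v 64232 with h51 | h51
  · exact (data.checkRange_iff 63504 728).mp Cfsg.Agent.Lib.Helper28.TCFi23U6.chk51 v (by omega) (by omega)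
  exact (data.checkRange_iff 64232 251).mp Cfsg.Agent.Lib.Helper28.TCFi23U6.chk52 v (by omega) (by omega)

theorem hrelT : ∀ L ∈ relWords, ∀ p, p < table.n → table.walkT (pathOf lw L) p = p := by
  intro L hL p hp
  have hp' : p < 31671 := hp
  have hm := hrelmem L hL
  rcases Nat.lt_or_ge p 527 with h0 | h0
  · exact (Table.relOK_iff relPaths 0 527).mp Cfsg.Agent.Lib.Helper28.TCFi23L0.rel0 p (by omega) (by omega) _ hm
  rcases Nat.lt_or_ge p 1054 with h1 | h1
  · exact (Table.relOK_iff relPaths 527 527).mp Cfsg.Agent.Lib.Helper28.TCFi23L0.rel1 p (by omega) (by omega) _ hm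
  rcases Nat.lt_or_ge p 1581 with h2 | h2
  · exact (Table.relOK_iff relPaths 1054 527).mp Cfsg.Agent.Lib.Helper28.TCFi23L0.rel2 p (by omega) (by omega) _ hm
  rcases Nat.lt_or_ge p 2108 with h3 | h3
  · exact (Table.relOK_iff relPaths 1581 527).mp Cfsg.Agent.Lib.Helper28.TCFi23L0.rel3 p (by omega) (by omega) _ hm
  rcases Nat.lt_or_ge p 2635 with h4 | h4
  · exact (Table.relOK_iff relPaths 2108 527).mp Cfsg.Agent.Lib.Helper28.TCFi23L0.rel4 p (by omega) (by omega) _ hm
  rcases Nat.lt_or_ge p 3162 with h5 | h5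
  · exact (Table.relOK_iff relPaths 2635 527).mp Cfsg.Agent.Lib.Helper28.TCFi23L0.rel5 p (by omega) (by omega) _ hm
  rcases Nat.lt_or_ge p 3689 with h6 | h6
  · exact (Table.relOK_iff relPaths 3162 527).mp Cfsg.Agent.Lib.Helper28.TCFi23L0.rel6 p (by omega) (by omega) _ hm
  rcases Nat.lt_or_ge p 4216 with h7 | h7
  · exact (Table.relOK_iff relPaths 3689 527).mp Cfsg.Agent.Lib.Helper28.TCFi23L0.rel7 p (by omega) (by omega) _ hm
  rcases Nat.lt_or_ge p 4743 with h8 | h8
  · exact (Table.relOK_iff relPaths 4216 527).mp Cfsg.Agent.Lib.Helper28.TCFi23L0.rel8 p (by omega) (by omega) _ hm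
  rcases Nat.lt_or_ge p 5270 with h9 | h9
  · exact (Table.relOK_iff relPaths 4743 527).mp Cfsg.Agent.Lib.Helper28.TCFi23L1.rel9 p (by omega) (by omega) _ hm
  rcases Nat.lt_or_ge p 5797 with h10 | h10
  · exact (Table.relOK_iff relPaths 5270 527).mp Cfsg.Agent.Lib.Helper28.TCFi23L1.rel10 p (by omega) (by omega) _ hm
  rcases Nat.lt_or_ge p 6324 with h11 | h11
  · exact (Table.relOK_iff relPaths 5797 527).mp Cfsg.Agent.Lib.Helper28.TCFi23L1.rel11 p (by omega) (by omega) _ hm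
  rcases Nat.lt_or_ge p 6851 with h12 | h12
  · exact (Table.relOK_iff relPaths 6324 527).mp Cfsg.Agent.Lib.Helper28.TCFi23L1.rel12 p (by omega) (by omega) _ hm
  rcases Nat.lt_or_ge p 7378 with h13 | h13
  · exact (Table.relOK_iff relPaths 6851 527).mp Cfsg.Agent.Lib.Helper28.TCFi23L1.rel13 p (by omega) (by omega) _ hm
  rcases Nat.lt_or_ge p 7905 with h14 | h14
  · exact (Table.relOK_iff relPaths 7378 527).mp Cfsg.Agent.Lib.Helper28.TCFi23L1.rel14 p (by omega) (by omega) _ hm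
  rcases Nat.lt_or_ge p 8432 with h15 | h15
  · exact (Table.relOK_iff relPaths 7905 527).mp Cfsg.Agent.Lib.Helper28.TCFi23L1.rel15 p (by omega) (by omega) _ hm
  rcases Nat.lt_or_ge p 8959 with h16 | h16
  · exact (Table.relOK_iff relPaths 8432 527).mp Cfsg.Agent.Lib.Helper28.TCFi23L1.rel16 p (by omega) (by omega) _ hm
  rcases Nat.lt_or_ge p 9486 with h17 | h17
  · exact (Table.relOK_iff relPaths 8959 527).mp Cfsg.Agent.Lib.Helper28.TCFi23L1.rel17 p (by omega) (by omega) _ hm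
  rcases Nat.lt_or_ge p 10013 with h18 | h18
  · exact (Table.relOK_iff relPaths 9486 527).mp Cfsg.Agent.Lib.Helper28.TCFi23L2.rel18 p (by omega) (by omega) _ hm
  rcases Nat.lt_or_ge p 10540 with h19 | h19
  · exact (Table.relOK_iff relPaths 10013 527).mp Cfsg.Agent.Lib.Helper28.TCFi23L2.rel19 p (by omega) (by omega) _ hm
  rcases Nat.lt_or_ge p 11067 with h20 | h20
  · exact (Table.relOK_iff relPaths 10540 527).mp Cfsg.Agent.Lib.Helper28.TCFi23L2.rel20 p (by omega) (by omega) _ hm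
  rcases Nat.lt_or_ge p 11594 with h21 | h21
  · exact (Table.relOK_iff relPaths 11067 527).mp Cfsg.Agent.Lib.Helper28.TCFi23L2.rel21 p (by omega) (by omega) _ hm
  rcases Nat.lt_or_ge p 12121 with h22 | h22
  · exact (Table.relOK_iff relPaths 11594 527).mp Cfsg.Agent.Lib.Helper28.TCFi23L2.rel22 p (by omega) (by omega) _ hm
  rcases Nat.lt_or_ge p 12648 with h23 | h23
  · exact (Table.relOK_iff relPaths 12121 527).mp Cfsg.Agent.Lib.Helper28.TCFi23L2.rel23 p (by omega) (by omega) _ hm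
  rcases Nat.lt_or_ge p 13175 with h24 | h24
  · exact (Table.relOK_iff relPaths 12648 527).mp Cfsg.Agent.Lib.Helper28.TCFi23L2.rel24 p (by omega) (by omega) _ hm
  rcases Nat.lt_or_ge p 13702 with h25 | h25
  · exact (Table.relOK_iff relPaths 13175 527).mp Cfsg.Agent.Lib.Helper28.TCFi23L2.rel25 p (by omega) (by omega) _ hm
  rcases Nat.lt_or_ge p 14229 with h26 | h26
  · exact (Table.relOK_iff relPaths 13702 527).mp Cfsg.Agent.Lib.Helper28.TCFi23L2.rel26 p (by omega) (by omega) _ hm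
  rcases Nat.lt_or_ge p 14756 with h27 | h27
  · exact (Table.relOK_iff relPaths 14229 527).mp Cfsg.Agent.Lib.Helper28.TCFi23L3.rel27 p (by omega) (by omega) _ hm
  rcases Nat.lt_or_ge p 15283 with h28 | h28
  · exact (Table.relOK_iff relPaths 14756 527).mp Cfsg.Agent.Lib.Helper28.TCFi23L3.rel28 p (by omega) (by omega) _ hm
  rcases Nat.lt_or_ge p 15810 with h29 | h29
  · exact (Table.relOK_iff relPaths 15283 527).mp Cfsg.Agent.Lib.Helper28.TCFi23L3.rel29 p (by omega) (by omega) _ hm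
  rcases Nat.lt_or_ge p 16337 with h30 | h30
  · exact (Table.relOK_iff relPaths 15810 527).mp Cfsg.Agent.Lib.Helper28.TCFi23L3.rel30 p (by omega) (by omega) _ hm
  rcases Nat.lt_or_ge p 16864 with h31 | h31
  · exact (Table.relOK_iff relPaths 16337 527).mp Cfsg.Agent.Lib.Helper28.TCFi23L3.rel31 p (by omega) (by omega) _ hm
  rcases Nat.lt_or_ge p 17391 with h32 | h32
  · exact (Table.relOK_iff relPaths 16864 527).mp Cfsg.Agent.Lib.Helper28.TCFi23L3.rel32 p (by omega) (by omega) _ hm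
  rcases Nat.lt_or_ge p 17918 with h33 | h33
  · exact (Table.relOK_iff relPaths 17391 527).mp Cfsg.Agent.Lib.Helper28.TCFi23L3.rel33 p (by omega) (by omega) _ hm
  rcases Nat.lt_or_ge p 18445 with h34 | h34
  · exact (Table.relOK_iff relPaths 17918 527).mp Cfsg.Agent.Lib.Helper28.TCFi23L3.rel34 p (by omega) (by omega) _ hm
  rcases Nat.lt_or_ge p 18972 with h35 | h35
  · exact (Table.relOK_iff relPaths 18445 527).mp Cfsg.Agent.Lib.Helper28.TCFi23L3.rel35 p (by omega) (by omega) _ hm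
  rcases Nat.lt_or_ge p 19499 with h36 | h36
  · exact (Table.relOK_iff relPaths 18972 527).mp Cfsg.Agent.Lib.Helper28.TCFi23L4.rel36 p (by omega) (by omega) _ hm
  rcases Nat.lt_or_ge p 20026 with h37 | h37
  · exact (Table.relOK_iff relPaths 19499 527).mp Cfsg.Agent.Lib.Helper28.TCFi23L4.rel37 p (by omega) (by omega) _ hm
  rcases Nat.lt_or_ge p 20553 with h38 | h38
  · exact (Table.relOK_iff relPaths 20026 527).mp Cfsg.Agent.Lib.Helper28.TCFi23L4.rel38 p (by omega) (by omega) _ hm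
  rcases Nat.lt_or_ge p 21080 with h39 | h39
  · exact (Table.relOK_iff relPaths 20553 527).mp Cfsg.Agent.Lib.Helper28.TCFi23L4.rel39 p (by omega) (by omega) _ hm
  rcases Nat.lt_or_ge p 21607 with h40 | h40
  · exact (Table.relOK_iff relPaths 21080 527).mp Cfsg.Agent.Lib.Helper28.TCFi23L4.rel40 p (by omega) (by omega) _ hm
  rcases Nat.lt_or_ge p 22134 with h41 | h41
  · exact (Table.relOK_iff relPaths 21607 527).mp Cfsg.Agent.Lib.Helper28.TCFi23L4.rel41 p (by omega) (by omega) _ hm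
  rcases Nat.lt_or_ge p 22661 with h42 | h42
  · exact (Table.relOK_iff relPaths 22134 527).mp Cfsg.Agent.Lib.Helper28.TCFi23L4.rel42 p (by omega) (by omega) _ hm
  rcases Nat.lt_or_ge p 23188 with h43 | h43
  · exact (Table.relOK_iff relPaths 22661 527).mp Cfsg.Agent.Lib.Helper28.TCFi23L4.rel43 p (by omega) (by omega) _ hm
  rcases Nat.lt_or_ge p 23715 with h44 | h44
  · exact (Table.relOK_iff relPaths 23188 527).mp Cfsg.Agent.Lib.Helper28.TCFi23L4.rel44 p (by omega) (by omega) _ hm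
  rcases Nat.lt_or_ge p 24242 with h45 | h45
  · exact (Table.relOK_iff relPaths 23715 527).mp Cfsg.Agent.Lib.Helper28.TCFi23L5.rel45 p (by omega) (by omega) _ hm
  rcases Nat.lt_or_ge p 24769 with h46 | h46
  · exact (Table.relOK_iff relPaths 24242 527).mp Cfsg.Agent.Lib.Helper28.TCFi23L5.rel46 p (by omega) (by omega) _ hm
  rcases Nat.lt_or_ge p 25296 with h47 | h47
  · exact (Table.relOK_iff relPaths 24769 527).mp Cfsg.Agent.Lib.Helper28.TCFi23L5.rel47 p (by omega) (by omega) _ hm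
  rcases Nat.lt_or_ge p 25823 with h48 | h48
  · exact (Table.relOK_iff relPaths 25296 527).mp Cfsg.Agent.Lib.Helper28.TCFi23L5.rel48 p (by omega) (by omega) _ hm
  rcases Nat.lt_or_ge p 26350 with h49 | h49
  · exact (Table.relOK_iff relPaths 25823 527).mp Cfsg.Agent.Lib.Helper28.TCFi23L5.rel49 p (by omega) (by omega) _ hm
  rcases Nat.lt_or_ge p 26877 with h50 | h50
  · exact (Table.relOK_iff relPaths 26350 527).mp Cfsg.Agent.Lib.Helper28.TCFi23L5.rel50 p (by omega) (by omega) _ hm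
  rcases Nat.lt_or_ge p 27404 with h51 | h51
  · exact (Table.relOK_iff relPaths 26877 527).mp Cfsg.Agent.Lib.Helper28.TCFi23L5.rel51 p (by omega) (by omega) _ hm
  rcases Nat.lt_or_ge p 27931 with h52 | h52
  · exact (Table.relOK_iff relPaths 27404 527).mp Cfsg.Agent.Lib.Helper28.TCFi23L5.rel52 p (by omega) (by omega) _ hm
  rcases Nat.lt_or_ge p 28458 with h53 | h53
  · exact (Table.relOK_iff relPaths 27931 527).mp Cfsg.Agent.Lib.Helper28.TCFi23L5.rel53 p (by omega) (by omega) _ hm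
  rcases Nat.lt_or_ge p 28985 with h54 | h54
  · exact (Table.relOK_iff relPaths 28458 527).mp Cfsg.Agent.Lib.Helper28.TCFi23L6.rel54 p (by omega) (by omega) _ hm
  rcases Nat.lt_or_ge p 29512 with h55 | h55
  · exact (Table.relOK_iff relPaths 28985 527).mp Cfsg.Agent.Lib.Helper28.TCFi23L6.rel55 p (by omega) (by omega) _ hm
  rcases Nat.lt_or_ge p 30039 with h56 | h56
  · exact (Table.relOK_iff relPaths 29512 527).mp Cfsg.Agent.Lib.Helper28.TCFi23L6.rel56 p (by omega) (by omega) _ hm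
  rcases Nat.lt_or_ge p 30566 with h57 | h57
  · exact (Table.relOK_iff relPaths 30039 527).mp Cfsg.Agent.Lib.Helper28.TCFi23L6.rel57 p (by omega) (by omega) _ hm
  rcases Nat.lt_or_ge p 31093 with h58 | h58
  · exact (Table.relOK_iff relPaths 30566 527).mp Cfsg.Agent.Lib.Helper28.TCFi23L6.rel58 p (by omega) (by omega) _ hm
  rcases Nat.lt_or_ge p 31620 with h59 | h59
  · exact (Table.relOK_iff relPaths 31093 527).mp Cfsg.Agent.Lib.Helper28.TCFi23L6.rel59 p (by omega) (by omega) _ hm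
  exact (Table.relOK_iff relPaths 31620 51).mp Cfsg.Agent.Lib.Helper28.TCFi23L6.rel60 p (by omega) (by omega) _ hm

theorem hsubT : ∀ L ∈ subWords, table.walkT (pathOf lw L) 0 = 0 :=
  fun L hL => (Table.subOK_iff subPaths).mp hsub0 _ (hsubmem L hL)

theorem hclosed : ∀ p, p < table.n → ∀ s ∈ subPaths, orbData.oid (table.walkT s p) = orbData.oid p := by
  intro p hp
  have hp' : p < 31671 := hp
  exact (orbData.closedOK_iff table subPaths 0 31671).mp clo0 p (by omega) (by omega)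

theorem hconn : ∀ p, p < table.n →
    (orbData.depth p = 0 ∧ orbData.roots.look (orbData.oid p) = p) ∨
    (orbData.depth p ≠ 0 ∧ orbData.parent p < table.n ∧ orbData.oid (orbData.parent p) = orbData.oid p ∧
      orbData.depth (orbData.parent p) + 1 = orbData.depth p ∧
      table.walkT (orbData.gens.look (orbData.gen p)) (orbData.parent p) = p) :=
  fun p hp => (orbData.connOK_iff table 0 31671).mp conn0 p (Nat.zero_le _) (by have : p < 31671 := hp; omega)

theorem cnt0 : orbData.count table.n (orbData.oid 52) = 3510 := by decide +kernel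
theorem cnt1 : orbData.count table.n (orbData.oid 1) = 28160 := by decide +kernel

/-- In the presented Fischer group Fi₂₃, let H be the subgroup generated by the images of a, …, i. Then H has index 31671, H has orbits of sizes 3510 and 28160 on the cosets of H other than H itself. -/
theorem result : (((Subgroup.closure ({Cfsg.Spor.Fi23.a, Cfsg.Spor.Fi23.b, Cfsg.Spor.Fi23.c, Cfsg.Spor.Fi23.d, Cfsg.Spor.Fi23.e, Cfsg.Spor.Fi23.f, Cfsg.Spor.Fi23.g, Cfsg.Spor.Fi23.h, Cfsg.Spor.Fi23.i} : Set (FreeGroup Cfsg.Spor.Fi23.Gen))).map (PresentedGroup.mk (Cfsg.Spor.coxRelators Cfsg.Spor.Fi23.edges ∪ {r | r ∈ Cfsg.Spor.Fi23.extra})))).index = 31671 ∧ ∃ q₁ q₂ : Cfsg.Spor.Fi23 ⧸ (((Subgroup.closure ({Cfsg.Spor.Fi23.a, Cfsg.Spor.Fi23.b, Cfsg.Spor.Fi23.c, Cfsg.Spor.Fi23.d, Cfsg.Spor.Fi23.e, Cfsg.Spor.Fi23.f, Cfsg.Spor.Fi23.g, Cfsg.Spor.Fi23.h, Cfsg.Spor.Fi23.i} : Set (FreeGroup Cfsg.Spor.Fi23.Gen))).map (PresentedGroup.mk (Cfsg.Spor.coxRelators Cfsg.Spor.Fi23.edges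 ∪ {r | r ∈ Cfsg.Spor.Fi23.extra})))), (MulAction.orbit (((Subgroup.closure ({Cfsg.Spor.Fi23.a, Cfsg.Spor.Fi23.b, Cfsg.Spor.Fi23.c, Cfsg.Spor.Fi23.d, Cfsg.Spor.Fi23.e, Cfsg.Spor.Fi23.f, Cfsg.Spor.Fi23.g, Cfsg.Spor.Fi23.h, Cfsg.Spor.Fi23.i} : Set (FreeGroup Cfsg.Spor.Fi23.Gen))).map (PresentedGroup.mk (Cfsg.Spor.coxRelators Cfsg.Spor.Fi23.edges ∪ {r | r ∈ Cfsg.Spor.Fi23.extra})))) q₁).ncard = 3510 ∧ (MulAction.orbit (((Subgroup.closure ({Cfsg.Spor.Fi23.a, Cfsg.Spor.Fi23.b, Cfsg.Spor.Fi23.c, Cfsg.Spor.Fi23.d, Cfsg.Spor.Fi23.e, Cfsg.Spor.Fi23.f, Cfsg.Spor.Fi23.g, Cfsg.Spor.Fi23.h, Cfsg.Spor.Fi23.i} : Set (FreeGroup Cfsg.Spor.Fi23.Gen))).map (PresentedGroup.mk (Cfsg.Spor.coxRelators Cfsg.Spor.Fi23.edges ∪ {r | r ∈ Cfsg.Spor.Fi23.extra})))) q₂).ncard = 28160 := by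
  have hT := Table.ok_of_checks table hinvOK hperm
  obtain ⟨hidx, φ, hφ, f, hbij, hequiv, -⟩ := index_eq link hchk hfin hcount hT (by decide) hrelT hsubT htree
  refine ⟨hidx, ?_⟩
  have horb := fun q => suborbits link hT φ hφ f hbij hequiv orbData subPaths hsubmem hsubmem' hclosed
    (BT.All_of_all (fun _ h => of_decide_eq_true h) _ hgens) hconn q
  obtain ⟨q0, hq0⟩ := hbij.2 (⟨52, by decide⟩ : Fin table.n)
  obtain ⟨q1, hq1⟩ := hbij.2 (⟨1, by decide⟩ : Fin table.n)
  exact ⟨q0, q1, (horb q0).1.trans (by rw [hq0]; exact cnt0), (horb q1).1.trans (by rw [hq1]; exact cnt1)⟩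

end Cfsg.Agent.S1689
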