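import Cfsg.Statements.S1717
import Cfsg.Agent.Lib.Helper16.SL5Main

set_option autoImplicit false
open Cfsg

namespace Cfsg.Agent.S1717

open Matrix Cfsg.Agent.Lib.Helper16.SL5

/-- Let G be a finite group with an involution z whose centraliser C is isomorphic to the centraliser of a transvection of SL(5, 2). Then a Sylow 2-subgroup of C, viewed in G, is a Sylow 2-subgroup of G (its index in G is odd). -/
theorem result {G : Type*} [Group G] [Finite G] (s : Matrix.SpecialLinearGroup (Fin 5) (ZMod 2)) (hs : (s : Matrix (Fin 5) (Fin 5) (ZMod 2)) = Matrix.transvection 0 1 1) (z : G) (hz : orderOf z = 2) (e : (Subgroup.centralizer ({z} : Set G)) ≃* Subgroup.centralizer ({s} : Set (Matrix.SpecialLinearGroup (Fin 5) (ZMod 2)))) (T : Sylow 2 (Subgroup.centralizer ({z} : Set G))) : ¬ 2 ∣ ((T : Subgroup (Subgroup.centralizer ({z} : Set G))).map (Subgroup.subtype (Subgroup.centralizer ({z} : Set G)))).index := by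
  have : Fact (Nat.Prime 2) := ⟨Nat.prime_two⟩
  apply not_dvd_index_of_center z hz _ rfl T
  intro x hxT hxc
  have hC'mem : ∀ t : SL52, t ∈ Subgroup.centralizer ({s} : Set SL52) ↔ s * t = t * s := by
    intro t
    rw [Subgroup.mem_centralizer_iff]
    constructor
    · intro h; exact h s rfl
    · intro h y hy
      rw [Set.mem_singleton_iff] at hy
      rw [hy]; exact h
  have hCmem : ∀ g : G, g ∈ Subgroup.centralizer ({z} : Set G) ↔ z * g = g * z := by
    intro g
    rw [Subgroup.mem_centralizer_iff]
    constructor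
    · intro h; exact h z rfl
    · intro h y hy
      rw [Set.mem_singleton_iff] at hy
      rw [hy]; exact h
  have hs' : s = tv 0 1 (by decide) := Subtype.ext hs
  -- the normal 2-subgroup
  have hnormal : (Qsub.subgroupOf (Subgroup.centralizer ({s} : Set SL52))).Normal := by
    constructor
    intro n hn c
    rw [Subgroup.mem_subgroupOf] at hn ⊢
    have hc : (c : SL52) * tv 0 1 (by decide) = tv 0 1 (by decide) * (c : SL52) := by
      rw [← hs']; exact ((hC'mem _).mp c.2).symm
    exact conj_mem_Qsub (c : SL52) (n : SL52) hc hn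
  have hp : IsPGroup 2 ↥(Qsub.subgroupOf (Subgroup.centralizer ({s} : Set SL52))) := by
    intro y
    refine ⟨2, ?_⟩
    apply Subtype.ext
    apply Subtype.ext
    have := Qsub_pow_four (g := ((y : ↥(Subgroup.centralizer ({s} : Set SL52))) : SL52)) y.2
    exact this
  have hQn : ((Qsub.subgroupOf (Subgroup.centralizer ({s} : Set SL52))).comap e.toMonoidHom).Normal :=
    hnormal.comap _
  have hQp : IsPGroup 2 ↥((Qsub.subgroupOf (Subgroup.centralizer ({s} : Set SL52))).comap e.toMonoidHom) :=
    hp.comap_of_injective _ e.injective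
  have hQT : (Qsub.subgroupOf (Subgroup.centralizer ({s} : Set SL52))).comap e.toMonoidHom ≤ T :=
    hQp.le_sylow_of_normal T
  -- the image of z
  have hzC : z ∈ Subgroup.centralizer ({z} : Set G) := (hCmem z).mpr rfl
  have hez : ((e ⟨z, hzC⟩ : ↥(Subgroup.centralizer ({s} : Set SL52))) : SL52) = s := by
    have h := eq_one_or_s s hs ((e ⟨z, hzC⟩ : ↥(Subgroup.centralizer ({s} : Set SL52))) : SL52) (by
      intro t _ hts
      have htC : t ∈ Subgroup.centralizer ({s} : Set SL52) := (hC'mem t).mpr hts.symm
      have h1 : (⟨z, hzC⟩ : ↥(Subgroup.centralizer ({z} : Set G))) * e.symm ⟨t, htC⟩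
          = e.symm ⟨t, htC⟩ * ⟨z, hzC⟩ := by
        apply Subtype.ext
        exact (hCmem _).mp (e.symm ⟨t, htC⟩).2
      have h2 := congrArg e h1
      rw [map_mul, map_mul, e.apply_symm_apply] at h2
      exact congrArg Subtype.val h2)
    rcases h with h | h
    · exfalso
      have h1 : e ⟨z, hzC⟩ = 1 := Subtype.ext h
      have h2 : (⟨z, hzC⟩ : ↥(Subgroup.centralizer ({z} : Set G))) = 1 := by
        rw [← e.map_eq_one_iff]; exact h1
      have h3 : z = 1 := congrArg Subtype.val h2
      rw [h3, orderOf_one] at hz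
      omega
    · exact h
  have hex := eq_one_or_s s hs ((e x : ↥(Subgroup.centralizer ({s} : Set SL52))) : SL52) (by
    intro t ht hts
    have htC : t ∈ Subgroup.centralizer ({s} : Set SL52) := (hC'mem t).mpr hts.symm
    have hy : e.symm ⟨t, htC⟩ ∈ T := by
      apply hQT
      rw [Subgroup.mem_comap]
      show e (e.symm ⟨t, htC⟩) ∈ _
      rw [e.apply_symm_apply, Subgroup.mem_subgroupOf]
      exact ht
    have h1 := hxc _ hy
    have h2 := congrArg e h1
    rw [map_mul, map_mul, e.apply_symm_apply] at h2
    exact congrArg Subtype.val h2)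
  rcases hex with h | h
  · left
    have h1 : e x = 1 := Subtype.ext h
    rw [← e.map_eq_one_iff]; exact h1
  · right
    have h1 : e x = e ⟨z, hzC⟩ := Subtype.ext (h.trans hez.symm)
    have h2 := e.injective h1
    rw [h2]

end Cfsg.Agent.S1717
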