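import Cfsg.Statements.S1754
import Cfsg.Agent.Lib.Helper11.Quasisimple
import Cfsg.Agent.Lib.Helper11.TI
-- import your own Cfsg.Agent.* helpers here

set_option autoImplicit false
open Cfsg

namespace Cfsg.Agent.S1754

open Cfsg.Agent.Lib.Helper11

/-- Let A be a standard subgroup of the finite group G (A quasisimple, C_G(A) tightly embedded of even order, A commuting elementwise with no other conjugate of itself, and N_G(A) = N_G(C_G(A))), and let t be an involution of G centralizing A. Then the centralizer of t lies in the normalizer of A; in particular A, viewed inside C_G(t), is a component of C_G(t). -/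
theorem result {G : Type*} [Group G] [Finite G]
    (A : Subgroup G) (hA : Cfsg.IsStandardSubgroup A) (t : G) (ht : orderOf t = 2) (htA : t ∈ Subgroup.centralizer (A : Set G)) :
    Subgroup.centralizer ({t} : Set G) ≤ Subgroup.normalizer (A : Set G) ∧
      Cfsg.IsComponent (A.subgroupOf (Subgroup.centralizer ({t} : Set G))) := by
  obtain ⟨hq, ⟨_, htight⟩, _, hnorm⟩ := hA
  set K : Subgroup G := Subgroup.centralizer (A : Set G) with hK
  have hCN : Subgroup.centralizer ({t} : Set G) ≤ Subgroup.normalizer (A : Set G) := by
    intro g hg
    rw [hnorm]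
    by_contra hgN
    have hodd := htight g hgN
    have hgt : g * t = t * g := by
      have := Subgroup.mem_centralizer_iff.mp hg t (Set.mem_singleton t)
      exact this.symm
    have htmem : t ∈ K ⊓ K.map (MulAut.conj g).toMonoidHom := by
      refine ⟨htA, ?_⟩
      have h1 := conj_mem_map_conj K g t htA
      have : g * t * g⁻¹ = t := by rw [hgt, mul_inv_cancel_right]
      rwa [this] at h1
    have hdvd : 2 ∣ Nat.card ↥(K ⊓ K.map (MulAut.conj g).toMonoidHom) := by
      have := Subgroup.orderOf_dvd_natCard _ htmem
      rwa [ht] at this
    rcases hodd with ⟨m, hm⟩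
    omega
  refine ⟨hCN, ?_, ?_⟩
  · have : (A.subgroupOf (Subgroup.centralizer ({t} : Set G))).Normal :=
      Subgroup.normal_subgroupOf_of_le_normalizer hCN
    exact this.isSubnormal
  · have hle : A ≤ Subgroup.centralizer ({t} : Set G) := by
      intro a ha
      rw [Subgroup.mem_centralizer_iff]
      intro x hx
      rw [Set.mem_singleton_iff] at hx
      subst hx
      exact (Subgroup.mem_centralizer_iff.mp htA a ha).symm
    exact isQuasisimple_of_mulEquiv (Subgroup.subgroupOfEquivOfLe hle).symm hq

end Cfsg.Agent.S1754
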