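import Cfsg.Statements.S1756
import Mathlib
import Cfsg.Agent.Lib.Helper11.Extraspecial

set_option autoImplicit false
open Cfsg

namespace Cfsg.Agent.S1756

/-- Let Q be an extraspecial 2-subgroup of the finite group G (special with centre of order 2) and t an involution of G normalizing Q such that the centralizer of t in Q has index at most 2 in Q. Then t lies in the product of Q with the centralizer of Q. -/
theorem result {G : Type*} [Group G] [Finite G] (Q : Subgroup G)
    (hQ : Cfsg.IsExtraspecial 2 ↥Q) (t : G) (ht : orderOf t = 2) (htN : t ∈ Subgroup.normalizer (Q : Set G))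
    (hi : (Subgroup.centralizer ({t} : Set G) ⊓ Q).relIndex Q ≤ 2) :
    t ∈ Q ⊔ Subgroup.centralizer (Q : Set G) := by
  classical
  obtain ⟨⟨hp, hfrat, hcomm⟩, hZcard⟩ := hQ
  have ht2 : t * t = 1 := by rw [← pow_two, ← ht]; exact pow_orderOf_eq_one t
  have htinv : t⁻¹ = t := by rw [inv_eq_iff_mul_eq_one]; exact ht2
  have hconj : ∀ x ∈ Q, t * x * t⁻¹ ∈ Q := fun x hx => (Subgroup.mem_normalizer_iff.mp htN x).mp hx
  set M := Subgroup.centralizer ({t} : Set G) ⊓ Q with hMdef
  have hMmem : ∀ x : G, x ∈ M ↔ (x * t = t * x ∧ x ∈ Q) := by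
    intro x
    rw [hMdef, Subgroup.mem_inf, Subgroup.mem_centralizer_singleton_iff]
  -- case split on the index
  have hne0 : M.relIndex Q ≠ 0 := by
    unfold Subgroup.relIndex
    exact Subgroup.index_ne_zero_of_finite
  have hcases : M.relIndex Q = 1 ∨ M.relIndex Q = 2 := by omega
  rcases hcases with h1 | h2
  · -- t centralizes Q
    have hQM : Q ≤ M := Subgroup.relIndex_eq_one.mp h1
    apply Subgroup.mem_sup_right
    rw [Subgroup.mem_centralizer_iff]
    intro x hx
    exact ((hMmem x).mp (hQM hx)).1
  · -- index 2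
    have hidx : (M.subgroupOf Q).index = 2 := h2
    obtain ⟨q, hqC, hqZ⟩ := Cfsg.Agent.Lib.Helper11.exists_mem_centralizer_not_mem_center hZcard hcomm
      (M.subgroupOf Q) hidx
    -- F1
    have F1 : ∀ m ∈ M, (q : G) * m = m * q := by
      intro m hm
      have hmQ : m ∈ Q := ((hMmem m).mp hm).2
      have := Subgroup.mem_centralizer_iff.mp hqC ⟨m, hmQ⟩ (Subgroup.mem_subgroupOf.mpr hm)
      exact (congrArg Subtype.val this).symm
    -- F2
    obtain ⟨x₀, hx₀Q, hx₀⟩ : ∃ x₀ ∈ Q, (q : G) * x₀ ≠ x₀ * q := by
      by_contra h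
      push Not at h
      apply hqZ
      rw [Subgroup.mem_center_iff]
      intro g
      exact Subtype.ext (h g.1 g.2).symm
    -- F3
    have F3 : ∀ a ∈ Q, ∀ b ∈ Q, (a * b ∈ M ↔ (a ∈ M ↔ b ∈ M)) := by
      intro a ha b hb
      have := Subgroup.mul_mem_iff_of_index_two hidx (a := (⟨a, ha⟩ : Q)) (b := ⟨b, hb⟩)
      simpa [Subgroup.mem_subgroupOf] using this
    -- F4
    have F4 : ∀ c d : G, c ∈ Q → d ∈ Q → (∀ y ∈ Q, y * c = c * y) → (∀ y ∈ Q, y * d = d * y) →
        c ≠ 1 → d ≠ 1 → c = d := by
      intro c d hc hd hcc hdc hc1 hd1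
      have hc' : (⟨c, hc⟩ : Q) ∈ Subgroup.center Q := by
        rw [Subgroup.mem_center_iff]; intro g; exact Subtype.ext (hcc g.1 g.2)
      have hd' : (⟨d, hd⟩ : Q) ∈ Subgroup.center Q := by
        rw [Subgroup.mem_center_iff]; intro g; exact Subtype.ext (hdc g.1 g.2)
      have := Cfsg.Agent.Lib.Helper11.eq_of_mem_center_of_card_two hZcard hc' hd'
        (fun h => hc1 (congrArg Subtype.val h)) (fun h => hd1 (congrArg Subtype.val h))
      exact congrArg Subtype.val this
    -- F5: commutators with q are central in Q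
    have F5 : ∀ x ∈ Q, ∀ y ∈ Q, y * ((q : G) * x * (q : G)⁻¹ * x⁻¹) = ((q : G) * x * (q : G)⁻¹ * x⁻¹) * y := by
      intro x hx y hy
      have hmem : (q * ⟨x, hx⟩ * q⁻¹ * (⟨x, hx⟩ : Q)⁻¹) ∈ Subgroup.center Q := by
        rw [← hcomm, commutator_def]
        exact Subgroup.commutator_mem_commutator (Subgroup.mem_top q) (Subgroup.mem_top _)
      have := Subgroup.mem_center_iff.mp hmem ⟨y, hy⟩
      exact congrArg Subtype.val this
    have hx₀M : x₀ ∉ M := fun h => hx₀ (F1 x₀ h)
    -- key: for x ∈ Q, t x t⁻¹ = q x q⁻¹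
    have key : ∀ x ∈ Q, t * x * t⁻¹ = (q : G) * x * (q : G)⁻¹ := by
      intro x hx
      by_cases hxM : x ∈ M
      · have h1 := ((hMmem x).mp hxM).1
        have h2 := F1 x hxM
        calc t * x * t⁻¹ = (x * t) * t⁻¹ := by rw [h1]
          _ = x := by group
          _ = (x * q) * (q : G)⁻¹ := by group
          _ = (q : G) * x * (q : G)⁻¹ := by rw [h2]
      · -- x ∉ M
        have hx₀inv : x₀⁻¹ ∉ M := fun h => hx₀M (by simpa using M.inv_mem h)
        have hxinv : x⁻¹ ∉ M := fun h => hxM (by simpa using M.inv_mem h)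
        -- d(x) ≠ 1
        have hm : x₀⁻¹ * x ∈ M := (F3 _ (Q.inv_mem hx₀Q) _ hx).mpr ⟨fun h => absurd h hx₀inv, fun h => absurd h hxM⟩
        have hd1 : (q : G) * x * (q : G)⁻¹ * x⁻¹ ≠ 1 := by
          intro h
          apply hx₀
          have hqx : (q : G) * x = x * q := by
            calc (q : G) * x = ((q : G) * x * (q : G)⁻¹ * x⁻¹) * x * q := by group
              _ = x * q := by rw [h, one_mul]
          have hqm := F1 _ hm
          -- q commutes with x and with x₀⁻¹ x, hence with x₀
          have : (q : G) * x₀ = x₀ * q := by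
            have e1 : x₀ = x * (x₀⁻¹ * x)⁻¹ := by group
            have hqm' : (q : G) * (x₀⁻¹ * x)⁻¹ = (x₀⁻¹ * x)⁻¹ * q := by
              calc (q : G) * (x₀⁻¹ * x)⁻¹ = (x₀⁻¹ * x)⁻¹ * ((x₀⁻¹ * x) * q) * (x₀⁻¹ * x)⁻¹ := by group
                _ = (x₀⁻¹ * x)⁻¹ * (q * (x₀⁻¹ * x)) * (x₀⁻¹ * x)⁻¹ := by rw [hqm]
                _ = (x₀⁻¹ * x)⁻¹ * q := by group
            calc (q : G) * x₀ = (q : G) * (x * (x₀⁻¹ * x)⁻¹) := by rw [← e1]
              _ = ((q : G) * x) * (x₀⁻¹ * x)⁻¹ := by group
              _ = (x * q) * (x₀⁻¹ * x)⁻¹ := by rw [hqx]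
              _ = x * ((q : G) * (x₀⁻¹ * x)⁻¹) := by group
              _ = x * ((x₀⁻¹ * x)⁻¹ * q) := by rw [hqm']
              _ = (x * (x₀⁻¹ * x)⁻¹) * q := by group
              _ = x₀ * q := by rw [← e1]
          exact this
        have hdQ : (q : G) * x * (q : G)⁻¹ * x⁻¹ ∈ Q :=
          Q.mul_mem (Q.mul_mem (Q.mul_mem q.2 hx) (Q.inv_mem q.2)) (Q.inv_mem hx)
        -- c(x)
        set c := t * x * t⁻¹ * x⁻¹ with hc
        have hcQ : c ∈ Q := Q.mul_mem (hconj x hx) (Q.inv_mem hx)
        have htx : t * x * t⁻¹ = c * x := by rw [hc]; group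
        have hc1 : c ≠ 1 := by
          intro h
          apply hxM
          rw [hMmem]
          refine ⟨?_, hx⟩
          have : t * x * t⁻¹ = x := by rw [htx, h, one_mul]
          calc x * t = (t * x * t⁻¹) * t := by rw [this]
            _ = t * x := by group
        -- (i) c commutes with M
        have hi1 : ∀ m ∈ M, m * c = c * m := by
          intro m hmM
          have hmQ : m ∈ Q := ((hMmem m).mp hmM).2
          have hm' : x⁻¹ * (m * x) ∈ M := by
            rw [F3 _ (Q.inv_mem hx) _ (Q.mul_mem hmQ hx)]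
            constructor
            · intro h; exact absurd h hxinv
            · intro h
              rw [F3 _ hmQ _ hx] at h
              exact absurd (h.mp hmM) hxM
          have ht1 := ((hMmem _).mp hm').1
          have ht2' := ((hMmem _).mp hmM).1
          -- t m t⁻¹ = m and t (x⁻¹ m x) t⁻¹ = x⁻¹ m x
          have e1 : t * (x⁻¹ * (m * x)) * t⁻¹ = x⁻¹ * (m * x) := by
            calc t * (x⁻¹ * (m * x)) * t⁻¹ = ((x⁻¹ * (m * x)) * t) * t⁻¹ := by rw [ht1]
              _ = x⁻¹ * (m * x) := by group
          have e2 : t * m * t⁻¹ = m := by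
            calc t * m * t⁻¹ = (m * t) * t⁻¹ := by rw [ht2']
              _ = m := by group
          have e3 : t * m * t⁻¹ = (t * x * t⁻¹) * (t * (x⁻¹ * (m * x)) * t⁻¹) * (t * x * t⁻¹)⁻¹ := by group
          rw [e2, e1, htx] at e3
          -- e3 : m = c * x * (x⁻¹ * (m * x)) * (c * x)⁻¹
          have e4 : m = c * m * c⁻¹ := by
            calc m = c * x * (x⁻¹ * (m * x)) * (c * x)⁻¹ := e3
              _ = c * m * c⁻¹ := by group
          calc m * c = (c * m * c⁻¹) * c := by rw [← e4]
            _ = c * m := by group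
        -- c is central in Q
        have hcc : ∀ y ∈ Q, y * c = c * y := by
          by_cases hcM : c ∈ M
          · -- (iii) c² = 1
            have htc : t * c * t⁻¹ = c := by
              have := ((hMmem c).mp hcM).1
              calc t * c * t⁻¹ = (c * t) * t⁻¹ := by rw [this]
                _ = c := by group
            have hcsq : c * c = 1 := by
              have e1 : t * (t * x * t⁻¹) * t⁻¹ = x := by
                calc t * (t * x * t⁻¹) * t⁻¹ = (t * t) * x * (t * t)⁻¹ := by group
                  _ = x := by rw [ht2]; group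
              rw [htx] at e1
              have e2 : t * (c * x) * t⁻¹ = (t * c * t⁻¹) * (t * x * t⁻¹) := by group
              rw [e2, htc, htx] at e1
              -- e1 : c * (c * x) = x
              calc c * c = (c * (c * x)) * x⁻¹ := by group
                _ = 1 := by rw [e1]; group
            -- (iv) c commutes with x
            have hxx : x * x ∈ M := (F3 x hx x hx).mpr Iff.rfl
            have hcx : x * c = c * x := by
              have h1 := ((hMmem _).mp hxx).1
              have e1 : t * (x * x) * t⁻¹ = x * x := by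
                calc t * (x * x) * t⁻¹ = ((x * x) * t) * t⁻¹ := by rw [h1]
                  _ = x * x := by group
              have e2 : t * (x * x) * t⁻¹ = (t * x * t⁻¹) * (t * x * t⁻¹) := by group
              rw [e2, htx] at e1
              -- e1 : c * x * (c * x) = x * x
              have e3 : x * c = c⁻¹ * x := by
                calc x * c = c⁻¹ * (c * x * (c * x)) * x⁻¹ := by group
                  _ = c⁻¹ * (x * x) * x⁻¹ := by rw [e1]
                  _ = c⁻¹ * x := by group
              have e4 : c⁻¹ = c := by rw [inv_eq_iff_mul_eq_one]; exact hcsq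
              rw [e3, e4]
            intro y hy
            by_cases hyM : y ∈ M
            · exact hi1 y hyM
            · have hm2 : x⁻¹ * y ∈ M :=
                (F3 _ (Q.inv_mem hx) _ hy).mpr ⟨fun h => absurd h hxinv, fun h => absurd h hyM⟩
              have h3 := hi1 _ hm2
              calc y * c = x * ((x⁻¹ * y) * c) := by group
                _ = x * (c * (x⁻¹ * y)) := by rw [h3]
                _ = (x * c) * (x⁻¹ * y) := by group
                _ = (c * x) * (x⁻¹ * y) := by rw [hcx]
                _ = c * y := by group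
          · -- (ii) c ∉ M: c is central
            have hcinv : c⁻¹ ∉ M := fun h => hcM (by simpa using M.inv_mem h)
            intro y hy
            by_cases hyM : y ∈ M
            · exact hi1 y hyM
            · have hm2 : c⁻¹ * y ∈ M :=
                (F3 _ (Q.inv_mem hcQ) _ hy).mpr ⟨fun h => absurd h hcinv, fun h => absurd h hyM⟩
              have h3 := hi1 _ hm2
              calc y * c = c * ((c⁻¹ * y) * c) := by group
                _ = c * (c * (c⁻¹ * y)) := by rw [h3]
                _ = c * y := by group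
        have hcd := F4 c _ hcQ hdQ hcc (F5 x hx) hc1 hd1
        calc t * x * t⁻¹ = c * x := htx
          _ = ((q : G) * x * (q : G)⁻¹ * x⁻¹) * x := by rw [hcd]
          _ = (q : G) * x * (q : G)⁻¹ := by group
    -- conclude
    have hu : (q : G)⁻¹ * t ∈ Subgroup.centralizer (Q : Set G) := by
      rw [Subgroup.mem_centralizer_iff]
      intro x hx
      have := key x hx
      calc x * ((q : G)⁻¹ * t) = (q : G)⁻¹ * ((q : G) * x * (q : G)⁻¹) * t := by group
        _ = (q : G)⁻¹ * (t * x * t⁻¹) * t := by rw [this]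
        _ = (q : G)⁻¹ * t * x := by group
    have : t = (q : G) * ((q : G)⁻¹ * t) := by group
    rw [this]
    exact Subgroup.mul_mem_sup q.2 hu

end Cfsg.Agent.S1756
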