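import Cfsg.Statements.S1774
import Mathlib
import Cfsg.Agent.Lib.Helper9.FStar
import Cfsg.Agent.Lib.Helper20.SympFour
import Cfsg.Agent.Lib.Helper20.SympFourConj

set_option autoImplicit false
open Cfsg

namespace Cfsg.Agent.S1774

/-- Let G be a finite group and let z be an involution of G such that Q, the generalized Fitting subgroup of the centralizer C of z, is a 2-group of symplectic type (every characteristic abelian subgroup of Q is cyclic); suppose every element of Q has order dividing 4. Let g ∈ G with z' = g z g⁻¹ ≠ z and z' ∈ Q. Then z lies in the conjugate g Q g⁻¹, and the subgroup X generated by Q and g Q g⁻¹ induces every automorphism of the four-group generated by z and z': for any two distinct non-identity elements u, v of that four-group there is x ∈ X with x z x⁻¹ = u and x z' x⁻¹ = v. -/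
theorem result {G : Type*} [Group G] [Finite G] (z : G) (hz : orderOf z = 2) (hQ : Cfsg.IsOfSymplecticType ↥(Cfsg.generalizedFittingSubgroup ↥(Subgroup.centralizer ({z} : Set G))))
    (h4 : ∀ q ∈ (Cfsg.generalizedFittingSubgroup ↥(Subgroup.centralizer ({z} : Set G))).map (Subgroup.centralizer ({z} : Set G)).subtype, q ^ 4 = 1) (g : G) (hne : g * z * g⁻¹ ≠ z) (hin : g * z * g⁻¹ ∈ (Cfsg.generalizedFittingSubgroup ↥(Subgroup.centralizer ({z} : Set G))).map (Subgroup.centralizer ({z} : Set G)).subtype) :
    z ∈ ((Cfsg.generalizedFittingSubgroup ↥(Subgroup.centralizer ({z} : Set G))).map (Subgroup.centralizer ({z} : Set G)).subtype).map (MulAut.conj g).toMonoidHom ∧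
      ∀ u ∈ Subgroup.closure ({z, g * z * g⁻¹} : Set G), ∀ v ∈ Subgroup.closure ({z, g * z * g⁻¹} : Set G),
        u ≠ 1 → v ≠ 1 → u ≠ v →
          ∃ x ∈ (Cfsg.generalizedFittingSubgroup ↥(Subgroup.centralizer ({z} : Set G))).map (Subgroup.centralizer ({z} : Set G)).subtype ⊔ ((Cfsg.generalizedFittingSubgroup ↥(Subgroup.centralizer ({z} : Set G))).map (Subgroup.centralizer ({z} : Set G)).subtype).map (MulAut.conj g).toMonoidHom, x * z * x⁻¹ = u ∧ x * (g * z * g⁻¹) * x⁻¹ = v := by
  classical
  set C : Subgroup G := Subgroup.centralizer ({z} : Set G) with hC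
  set F : Subgroup ↥C := Cfsg.generalizedFittingSubgroup ↥C with hF
  set QG : Subgroup G := F.map C.subtype with hQG
  haveI : F.Normal := Cfsg.Agent.Lib.Helper9.generalizedFittingSubgroup_normal
  have hzz : z * z = 1 := by rw [← pow_two, ← hz]; exact pow_orderOf_eq_one z
  have hz1 : z ≠ 1 := by
    intro h
    rw [h, orderOf_one] at hz
    omega
  have hCmem : ∀ x : G, x ∈ C ↔ x * z = z * x := by
    intro x
    rw [hC, Subgroup.mem_centralizer_iff]
    constructor
    · intro h; exact (h z rfl).symm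
    · intro h y hy
      rw [Set.mem_singleton_iff] at hy
      rw [hy]; exact h.symm
  have hzC : z ∈ C := (hCmem z).mpr rfl
  have hQGmem : ∀ x : G, x ∈ QG ↔ ∃ c : ↥C, c ∈ F ∧ (c : G) = x := by
    intro x
    rw [hQG, Subgroup.mem_map]
    rfl
  have hcentF : Subgroup.centralizer (F : Set ↥C) ≤ F :=
    Cfsg.Agent.Lib.Helper9.centralizer_generalizedFittingSubgroup_le
  have hzF : (⟨z, hzC⟩ : ↥C) ∈ F := by
    apply hcentF
    rw [Subgroup.mem_centralizer_iff]
    intro y _
    apply Subtype.ext
    exact (hCmem (y : G)).mp y.2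
  set zF : ↥F := ⟨⟨z, hzC⟩, hzF⟩ with hzF_def
  have hzF1 : zF ≠ 1 := by
    intro h
    apply hz1
    have := congrArg (fun q : ↥F => ((q : ↥C) : G)) h
    exact this
  have hzFzF : zF * zF = 1 := by
    apply Subtype.ext; apply Subtype.ext
    exact hzz
  have hzFc : ∀ q : ↥F, q * zF = zF * q := by
    intro q
    apply Subtype.ext; apply Subtype.ext
    exact (hCmem ((q : ↥C) : G)).mp (q : ↥C).2
  have h4F : ∀ q : ↥F, q ^ 4 = 1 := by
    intro q
    apply Subtype.ext; apply Subtype.ext
    have := h4 ((q : ↥C) : G) ((hQGmem _).mpr ⟨(q : ↥C), q.2, rfl⟩)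
    simpa using this
  obtain ⟨hcommF, -⟩ := Cfsg.Agent.Lib.Helper20.SympFour.comm_eq hQ.1 hQ.2 h4F zF hzF1 hzFzF hzFc
  -- the ambient data
  have hA : Cfsg.Agent.Lib.Helper20.SympFour.Amb4 QG z := by
    refine ⟨(hQGmem z).mpr ⟨⟨z, hzC⟩, hzF, rfl⟩, hz1, hzz, ?_, ?_, ?_, ?_⟩
    · intro q hq
      obtain ⟨c, -, rfl⟩ := (hQGmem q).mp hq
      exact (hCmem (c : G)).mp c.2
    · intro a ha b hb
      obtain ⟨a', ha', rfl⟩ := (hQGmem a).mp ha
      obtain ⟨b', hb', rfl⟩ := (hQGmem b).mp hb
      rcases hcommF ⟨a', ha'⟩ ⟨b', hb'⟩ with h | h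
      · left
        have := congrArg (fun q : ↥F => ((q : ↥C) : G)) h
        simpa [commutatorElement_def] using this
      · right
        have := congrArg (fun q : ↥F => ((q : ↥C) : G)) h
        simpa [commutatorElement_def] using this
    · intro x hx hxc hxx
      obtain ⟨x', hx', rfl⟩ := (hQGmem x).mp hx
      have hcenF : (⟨x', hx'⟩ : ↥F) ∈ Subgroup.center ↥F := by
        rw [Subgroup.mem_center_iff]
        intro q
        apply Subtype.ext; apply Subtype.ext
        exact (hxc _ ((hQGmem _).mpr ⟨(q : ↥C), q.2, rfl⟩)).symm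
      have hzcenF : zF ∈ Subgroup.center ↥F := by
        rw [Subgroup.mem_center_iff]
        intro q
        exact hzFc q
      haveI : IsCyclic (Subgroup.center ↥F) := hQ.2 _ inferInstance inferInstance
      by_cases h1 : (x' : G) = 1
      · left; exact h1
      · right
        have := Cfsg.Agent.Lib.Helper4.eq_of_sq_eq_one_of_isCyclic (A := Subgroup.center ↥F)
          (x := ⟨⟨x', hx'⟩, hcenF⟩) (y := ⟨zF, hzcenF⟩)
          (by
            apply Subtype.ext; apply Subtype.ext; apply Subtype.ext
            simpa [pow_two] using hxx)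
          (by
            apply Subtype.ext
            simpa [pow_two] using hzFzF)
          (fun h => h1 (by
            have := congrArg (fun q : Subgroup.center ↥F => (((q : ↥F) : ↥C) : G)) h
            exact this))
          (fun h => hzF1 (congrArg Subtype.val h))
        have := congrArg (fun q : Subgroup.center ↥F => (((q : ↥F) : ↥C) : G)) this
        exact this
    · exact hQ.1.map C.subtype
  have hL2 : ∀ x : G, (∀ q ∈ QG, x * q = q * x) → x ∈ QG := by
    intro x hx
    have hxC : x ∈ C := (hCmem x).mpr (hx z hA.zQ)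
    rw [hQGmem]
    refine ⟨⟨x, hxC⟩, hcentF ?_, rfl⟩
    rw [Subgroup.mem_centralizer_iff]
    intro y hy
    apply Subtype.ext
    exact (hx (y : G) ((hQGmem _).mpr ⟨y, hy, rfl⟩)).symm
  have hL3 : ∀ x : G, x * z = z * x → x ∈ Subgroup.normalizer (QG : Set G) := by
    intro x hx
    have hxC : x ∈ C := (hCmem x).mpr hx
    apply Subgroup.mem_normalizer_fintype
    intro y hy
    obtain ⟨c, hc, rfl⟩ := (hQGmem y).mp hy
    rw [SetLike.mem_coe, hQGmem]
    exact ⟨⟨x, hxC⟩ * c * ⟨x, hxC⟩⁻¹, (inferInstance : F.Normal).conj_mem c hc ⟨x, hxC⟩, rfl⟩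
  exact Cfsg.Agent.Lib.Helper20.SympFour.main QG z hA hL2 hL3 g hin hne

end Cfsg.Agent.S1774
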