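import Cfsg.Statements.S1781
import Cfsg.Agent.Lib.Helper11.ConjAut
-- import your own Cfsg.Agent.* helpers here

set_option autoImplicit false
open Cfsg

namespace Cfsg.Agent.S1781

open Cfsg.Agent.Lib.Helper11

/-- Let A be an abelian 2-subgroup of the finite group G such that every conjugate of A equals A or meets A trivially, and let g ∈ G with g A g⁻¹ ≠ A. Then either the subgroup of those elements of A that normalize g A g⁻¹ is an elementary abelian 2-group, or A and g A g⁻¹ commute elementwise. -/
theorem result {G : Type*} [Group G] [Finite G] (A : Subgroup G)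
    (hA2 : IsPGroup 2 ↥A) (hAa : IsMulCommutative ↥A)
    (hti : ∀ h : G, A.map (MulAut.conj h).toMonoidHom = A ∨ A.map (MulAut.conj h).toMonoidHom ⊓ A = ⊥)
    (g : G) (hg : A.map (MulAut.conj g).toMonoidHom ≠ A) :
    Cfsg.IsElementaryAbelian 2 (A ⊓ Subgroup.normalizer ((A.map (MulAut.conj g).toMonoidHom : Subgroup G) : Set G)) ∨
      ⁅A, A.map (MulAut.conj g).toMonoidHom⁆ = ⊥ := by
  set B : Subgroup G := A.map (MulAut.conj g).toMonoidHom with hB
  have hBA : B ⊓ A = ⊥ := by
    rcases hti g with h | h
    · exact absurd h hg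
    · exact h
  have hAB : A ⊓ B = ⊥ := by rw [inf_comm]; exact hBA
  have hAcomm : ∀ x ∈ A, ∀ y ∈ A, x * y = y * x := by
    intro x hx y hy
    have := hAa.is_comm.comm ⟨x, hx⟩ ⟨y, hy⟩
    exact congrArg Subtype.val this
  by_cases hD : ∀ a ∈ A ⊓ Subgroup.normalizer (B : Set G), a ^ 2 = 1
  · left
    refine ⟨⟨⟨?_⟩⟩, hD⟩
    intro x y
    apply Subtype.ext
    exact hAcomm x x.2.1 y y.2.1
  · right
    push Not at hD
    obtain ⟨d, ⟨hdA, hdN⟩, hd2⟩ := hD
    have hd1 : d ≠ 1 := by
      rintro rfl
      exact hd2 (one_pow 2)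
    have hd2A : d ^ 2 ∈ A := A.pow_mem hdA 2
    -- B is an abelian 2-group
    have hBcomm : IsMulCommutative ↥B := by
      rw [hB]
      exact Subgroup.map_isMulCommutative A _
    have hB2 : IsPGroup 2 ↥B := by
      rw [hB]
      exact hA2.map _
    -- d has 2-power order
    have hdpow : ∃ k : ℕ, d ^ (2 ^ k) = 1 := by
      obtain ⟨k, hk⟩ := hA2 ⟨d, hdA⟩
      refine ⟨k, ?_⟩
      have := congrArg Subtype.val hk
      simpa using this
    -- the fixed point hypothesis
    have hC : ∀ b ∈ B, d * (d * b * d⁻¹) * d⁻¹ = b → d * b * d⁻¹ = b := by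
      intro b hb h
      -- b commutes with d²
      have hcomm : b * d ^ 2 = d ^ 2 * b := by
        have h' : d ^ 2 * b * (d ^ 2)⁻¹ = b := by
          have e : d ^ 2 * b * (d ^ 2)⁻¹ = d * (d * b * d⁻¹) * d⁻¹ := by
            simp [pow_two, mul_assoc]
          rw [e]; exact h
        have := congrArg (fun x => x * d ^ 2) h'
        simp only [inv_mul_cancel_right] at this
        exact this.symm
      -- so b normalizes A
      have hbN : A.map (MulAut.conj b).toMonoidHom = A :=
        ti_map_conj_eq_of_commute A hti b (d ^ 2) hd2A hd2 hcomm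
      -- commutator in A ⊓ B
      have h1 : d * b * d⁻¹ ∈ B := (Subgroup.mem_normalizer_iff.mp hdN b).mp hb
      have hcB : d * b * d⁻¹ * b⁻¹ ∈ B := B.mul_mem h1 (B.inv_mem hb)
      have hcA : d * b * d⁻¹ * b⁻¹ ∈ A := by
        have h2 : b * d⁻¹ * b⁻¹ ∈ A := by
          have := conj_mem_map_conj A b d⁻¹ (A.inv_mem hdA)
          rwa [hbN] at this
        have : d * b * d⁻¹ * b⁻¹ = d * (b * d⁻¹ * b⁻¹) := by group
        rw [this]; exact A.mul_mem hdA h2
      have : d * b * d⁻¹ * b⁻¹ ∈ A ⊓ B := ⟨hcA, hcB⟩
      rw [hAB, Subgroup.mem_bot] at this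
      have := congrArg (fun x => x * b) this
      simpa using this
    have hcent : ∀ b ∈ B, d * b * d⁻¹ = b :=
      conj_trivial_of_fix B hB2 d hdN hdpow hC
    -- every b ∈ B normalizes A
    have hBN : B ≤ Subgroup.normalizer (A : Set G) := by
      intro b hb
      have hcomm : b * d = d * b := by
        have := congrArg (fun x => x * d) (hcent b hb)
        simp only [inv_mul_cancel_right] at this
        exact this.symm
      have hbN : A.map (MulAut.conj b).toMonoidHom = A :=
        ti_map_conj_eq_of_commute A hti b d hdA hd1 hcomm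
      rw [Subgroup.mem_normalizer_iff]
      intro a
      constructor
      · intro ha
        have := conj_mem_map_conj A b a ha
        rwa [hbN] at this
      · intro ha
        have h3 : b * a * b⁻¹ ∈ A.map (MulAut.conj b).toMonoidHom := by rw [hbN]; exact ha
        rw [mem_map_conj_iff] at h3
        have : b⁻¹ * (b * a * b⁻¹) * b = a := by group
        rwa [this] at h3
    have hBti := ti_conj A hti g
    have hle : Nat.card ↥A ≤ Nat.card ↥B := le_of_eq (card_map_conj A g).symm
    rw [Subgroup.commutator_eq_bot_iff_le_centralizer]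
    intro a ha
    rw [Subgroup.mem_centralizer_iff]
    intro b hb
    exact (ti_commute A B hBti hle hAB hBN a ha b hb).symm

end Cfsg.Agent.S1781
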