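import Cfsg.Statements.S1782
import Mathlib
import Cfsg.Agent.Lib.Helper11.TI
import Cfsg.Agent.Lib.Helper11.TIFamily

set_option autoImplicit false
open Cfsg

namespace Cfsg.Agent.S1782

open Cfsg.Agent.Lib.Helper11

/-- powers `x ^ (2 ^ j)`: there is a last power outside a subgroup `N` not containing `x`. -/
theorem exists_last_pow_not_mem {S : Type*} [Group S] (N : Subgroup S) (x : S) (hx : x ∉ N)
    (hpow : ∃ k : ℕ, x ^ (2 ^ k) = 1) :
    ∃ j : ℕ, x ^ (2 ^ j) ∉ N ∧ x ^ (2 ^ j) * x ^ (2 ^ j) ∈ N := by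
  classical
  have hex : ∃ k : ℕ, x ^ (2 ^ k) ∈ N := by
    obtain ⟨k, hk⟩ := hpow
    exact ⟨k, hk ▸ N.one_mem⟩
  have hmin : ∀ m, m < Nat.find hex → ¬ x ^ (2 ^ m) ∈ N := fun m hm => Nat.find_min hex hm
  have hspec := Nat.find_spec hex
  have h0 : Nat.find hex ≠ 0 := by
    intro h
    rw [h] at hspec
    simp at hspec
    exact hx hspec
  obtain ⟨j, hj⟩ := Nat.exists_eq_succ_of_ne_zero h0
  refine ⟨j, ?_, ?_⟩
  · exact hmin j (by rw [hj]; exact Nat.lt_succ_self j)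
  · rw [← pow_add, ← two_mul, ← pow_succ']
    rw [hj] at hspec
    exact hspec

/-- Let S be a finite 2-group and Δ a set of subgroups of S closed under conjugation by S, all of the same order, each with nontrivial Frattini subgroup, and such that two distinct members of Δ meet trivially. Then any two distinct members of Δ commute elementwise. -/
theorem result {S : Type*} [Group S] [Finite S] (hS : IsPGroup 2 S)
    (Δ : Set (Subgroup S)) (hinv : ∀ s : S, ∀ R ∈ Δ, R.map (MulAut.conj s).toMonoidHom ∈ Δ)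
    (hΦ : ∀ R ∈ Δ, frattini ↥R ≠ ⊥) (hord : ∀ R ∈ Δ, ∀ T ∈ Δ, Nat.card ↥R = Nat.card ↥T)
    (hti : ∀ R ∈ Δ, ∀ T ∈ Δ, R = T ∨ R ⊓ T = ⊥) :
    ∀ R ∈ Δ, ∀ T ∈ Δ, R ≠ T → ⁅R, T⁆ = ⊥ := by
  classical
  have : Fact (Nat.Prime 2) := ⟨Nat.prime_two⟩
  by_contra hcon
  push Not at hcon
  -- choose a non-commuting pair generating a subgroup of least order
  have hex : ∃ n : ℕ, ∃ R ∈ Δ, ∃ T ∈ Δ, R ≠ T ∧ ⁅R, T⁆ ≠ ⊥ ∧ Nat.card ↥(R ⊔ T) = n := by
    obtain ⟨R, hR, T, hT, hRT, hnc⟩ := hcon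
    exact ⟨_, R, hR, T, hT, hRT, hnc, rfl⟩
  have hmin : ∀ m, m < Nat.find hex → ¬ ∃ R ∈ Δ, ∃ T ∈ Δ, R ≠ T ∧ ⁅R, T⁆ ≠ ⊥ ∧ Nat.card ↥(R ⊔ T) = m :=
    fun m hm => Nat.find_min hex hm
  obtain ⟨R, hR, T, hT, hRT, hnc, hn⟩ := Nat.find_spec hex
  have Min : ∀ D₁ ∈ Δ, ∀ D₂ ∈ Δ, D₁ ≠ D₂ → Nat.card ↥(D₁ ⊔ D₂) < Nat.card ↥(R ⊔ T) →
      ∀ a ∈ D₁, ∀ b ∈ D₂, a * b = b * a := by
    intro D₁ hD₁ D₂ hD₂ hne hlt a ha b hb
    by_contra hab
    apply hmin (Nat.card ↥(D₁ ⊔ D₂)) (by rw [← hn]; exact hlt)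
    refine ⟨D₁, hD₁, D₂, hD₂, hne, ?_, rfl⟩
    intro hbot
    rw [Subgroup.commutator_eq_bot_iff_le_centralizer] at hbot
    exact hab ((Subgroup.mem_centralizer_iff.mp (hbot ha) b hb).symm)
  -- TI property
  have hTI : ∀ D ∈ Δ, ∀ g : S, D.map (MulAut.conj g).toMonoidHom = D ∨
      D.map (MulAut.conj g).toMonoidHom ⊓ D = ⊥ := fun D hD g => hti _ (hinv g D hD) D hD
  have hRTbot : R ⊓ T = ⊥ := by
    rcases hti R hR T hT with h | h
    · exact absurd h hRT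
    · exact h
  have hnc' : ¬ ∀ a ∈ R, ∀ b ∈ T, a * b = b * a := by
    intro h
    apply hnc
    rw [Subgroup.commutator_eq_bot_iff_le_centralizer]
    intro a ha
    rw [Subgroup.mem_centralizer_iff]
    intro b hb
    exact (h a ha b hb).symm
  -- neither normalizes the other
  have hTnR : ¬ T ≤ Subgroup.normalizer (R : Set S) := by
    intro h
    exact hnc' (ti_commute R T (hTI T hT) (le_of_eq (hord R hR T hT)) hRTbot h)
  have hRnT : ¬ R ≤ Subgroup.normalizer (T : Set S) := by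
    intro h
    apply hnc'
    intro a ha b hb
    exact (ti_commute T R (hTI R hR) (le_of_eq (hord T hT R hR)) (by rw [inf_comm]; exact hRTbot) h
      b hb a ha).symm
  -- properness in H = R ⊔ T
  have hRH : R ≤ R ⊔ T := le_sup_left
  have hTH : T ≤ R ⊔ T := le_sup_right
  have hRneH : R ≠ R ⊔ T := by
    intro h
    have hTR : T ≤ R := by rw [h]; exact le_sup_right
    exact hRT (Subgroup.eq_of_le_of_card_ge hTR (le_of_eq (hord R hR T hT))).symm
  have hTneH : T ≠ R ⊔ T := by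
    intro h
    have hRT' : R ≤ T := by rw [h]; exact le_sup_left
    exact hRT (Subgroup.eq_of_le_of_card_ge hRT' (le_of_eq (hord T hT R hR)))
  -- conjugates under H commute or coincide
  have F2T : ∀ h ∈ R ⊔ T, T.map (MulAut.conj h).toMonoidHom = T ∨
      ∀ a ∈ T, ∀ b ∈ T.map (MulAut.conj h).toMonoidHom, a * b = b * a := by
    intro h hh
    by_cases heq : T.map (MulAut.conj h).toMonoidHom = T
    · left; exact heq
    · right
      exact Min T hT _ (hinv h T hT) (Ne.symm heq) (card_sup_conj_lt hS (R ⊔ T) T hTH hTneH h hh)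
  have F2R : ∀ h ∈ R ⊔ T, R.map (MulAut.conj h).toMonoidHom = R ∨
      ∀ a ∈ R, ∀ b ∈ R.map (MulAut.conj h).toMonoidHom, a * b = b * a := by
    intro h hh
    by_cases heq : R.map (MulAut.conj h).toMonoidHom = R
    · left; exact heq
    · right
      have hlt := card_sup_conj_lt hS (R ⊔ T) R hRH hRneH h hh
      exact Min R hR _ (hinv h R hR) (Ne.symm heq) hlt
  -- elementwise consequences
  have E1 : ∀ r ∈ R, r ∉ Subgroup.normalizer (T : Set S) →
      ∀ a ∈ T, ∀ b ∈ T, a * (r * b * r⁻¹) = (r * b * r⁻¹) * a := by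
    intro r hr hrN a ha b hb
    rcases F2T r (hRH hr) with h | h
    · exact absurd (Subgroup.mem_normalizer_iff_map_conj_eq.mpr h) hrN
    · exact h a ha _ (conj_mem_map_conj T r b hb)
  have E1' : ∀ r ∈ R, r ∉ Subgroup.normalizer (T : Set S) → ∀ b ∈ T, r * b * r⁻¹ ∈ T → b = 1 := by
    intro r hr hrN b hb hmem
    rcases hTI T hT r with h | h
    · exact absurd (Subgroup.mem_normalizer_iff_map_conj_eq.mpr h) hrN
    · have : r * b * r⁻¹ ∈ T.map (MulAut.conj r).toMonoidHom ⊓ T :=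
        ⟨conj_mem_map_conj T r b hb, hmem⟩
      rw [h, Subgroup.mem_bot] at this
      have h2 : b = r⁻¹ * (r * b * r⁻¹) * r := by group
      rw [h2, this]; group
  have E2 : ∀ t ∈ T, t ∉ Subgroup.normalizer (R : Set S) →
      ∀ a ∈ R, ∀ b ∈ R, a * (t * b * t⁻¹) = (t * b * t⁻¹) * a := by
    intro t ht htN a ha b hb
    rcases F2R t (hTH ht) with h | h
    · exact absurd (Subgroup.mem_normalizer_iff_map_conj_eq.mpr h) htN
    · exact h a ha _ (conj_mem_map_conj R t b hb)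
  have E2' : ∀ t ∈ T, t ∉ Subgroup.normalizer (R : Set S) → ∀ b ∈ R, t * b * t⁻¹ ∈ R → b = 1 := by
    intro t ht htN b hb hmem
    rcases hTI R hR t with h | h
    · exact absurd (Subgroup.mem_normalizer_iff_map_conj_eq.mpr h) htN
    · have : t * b * t⁻¹ ∈ R.map (MulAut.conj t).toMonoidHom ⊓ R :=
        ⟨conj_mem_map_conj R t b hb, hmem⟩
      rw [h, Subgroup.mem_bot] at this
      have h2 : b = t⁻¹ * (t * b * t⁻¹) * t := by group
      rw [h2, this]; group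
  -- Step 1
  have Step1 : ∀ r ∈ R, r ∈ Subgroup.normalizer (T : Set S) → ∀ t ∈ T,
      t ∈ Subgroup.normalizer (R : Set S) → r * t = t * r := by
    intro r hr hrN t ht htN
    have h1 : r * t * r⁻¹ ∈ T := (Subgroup.mem_normalizer_iff.mp hrN t).mp ht
    have h2 : t * r⁻¹ * t⁻¹ ∈ R := (Subgroup.mem_normalizer_iff.mp htN r⁻¹).mp (R.inv_mem hr)
    have hxT : r * t * r⁻¹ * t⁻¹ ∈ T := T.mul_mem h1 (T.inv_mem ht)
    have hxR : r * t * r⁻¹ * t⁻¹ ∈ R := by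
      have : r * t * r⁻¹ * t⁻¹ = r * (t * r⁻¹ * t⁻¹) := by group
      rw [this]; exact R.mul_mem hr h2
    have : r * t * r⁻¹ * t⁻¹ ∈ R ⊓ T := ⟨hxR, hxT⟩
    rw [hRTbot, Subgroup.mem_bot] at this
    calc r * t = (r * t * r⁻¹ * t⁻¹) * t * r := by group
      _ = t * r := by rw [this, one_mul]
  -- basic facts about inverses and normalizers
  have hinvN : ∀ (D : Subgroup S) (x : S), x ∉ Subgroup.normalizer (D : Set S) →
      x⁻¹ ∉ Subgroup.normalizer (D : Set S) := by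
    intro D x hx h
    exact hx (by simpa using (Subgroup.normalizer (D : Set S)).inv_mem h)
  -- the commutator c = t⁻¹ (r t r⁻¹) = (t⁻¹ r t) r⁻¹ commutes with t and r
  have Ccomm : ∀ t ∈ T, t ∉ Subgroup.normalizer (R : Set S) → ∀ r ∈ R,
      r ∉ Subgroup.normalizer (T : Set S) →
      t * (t⁻¹ * (r * t * r⁻¹)) = (t⁻¹ * (r * t * r⁻¹)) * t ∧
      r * (t⁻¹ * (r * t * r⁻¹)) = (t⁻¹ * (r * t * r⁻¹)) * r := by
    intro t ht htN r hr hrN
    constructor
    · have h := E1 r hr hrN t ht t ht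
      calc t * (t⁻¹ * (r * t * r⁻¹)) = r * t * r⁻¹ := by group
        _ = t⁻¹ * (t * (r * t * r⁻¹)) := by group
        _ = t⁻¹ * ((r * t * r⁻¹) * t) := by rw [h]
        _ = (t⁻¹ * (r * t * r⁻¹)) * t := by group
    · have h := E2 t⁻¹ (T.inv_mem ht) (hinvN R t htN) r hr r hr
      rw [inv_inv] at h
      -- h : r * (t⁻¹ * r * t) = t⁻¹ * r * t * r
      calc r * (t⁻¹ * (r * t * r⁻¹)) = (r * (t⁻¹ * r * t)) * r⁻¹ := by group
        _ = (t⁻¹ * r * t * r) * r⁻¹ := by rw [h]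
        _ = (t⁻¹ * (r * t * r⁻¹)) * r := by group
  -- Step 4
  have SQ : ∀ t ∈ T, t ∉ Subgroup.normalizer (R : Set S) → t * t ∈ Subgroup.normalizer (R : Set S) →
      ∀ r ∈ R, r ∉ Subgroup.normalizer (T : Set S) → r * r ∈ Subgroup.normalizer (T : Set S) →
      t * t = 1 ∧ r * r = 1 := by
    intro t ht htN ht2 r hr hrN hr2
    obtain ⟨hct, hcr⟩ := Ccomm t ht htN r hr hrN
    set c := t⁻¹ * (r * t * r⁻¹) with hc
    have hu : r * t * r⁻¹ = t * c := by rw [hc]; group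
    have hv : t⁻¹ * r * t = c * r := by rw [hc]; group
    have hu2 : r * (t * t) * r⁻¹ = (t * t) * (c * c) := by
      calc r * (t * t) * r⁻¹ = (r * t * r⁻¹) * (r * t * r⁻¹) := by group
        _ = (t * c) * (t * c) := by rw [hu]
        _ = t * (c * t) * c := by group
        _ = t * (t * c) * c := by rw [← hct]
        _ = (t * t) * (c * c) := by group
    have hv2 : t⁻¹ * (r * r) * t = (c * c) * (r * r) := by
      calc t⁻¹ * (r * r) * t = (t⁻¹ * r * t) * (t⁻¹ * r * t) := by group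
        _ = (c * r) * (c * r) := by rw [hv]
        _ = c * (r * c) * r := by group
        _ = c * (c * r) * r := by rw [hcr]
        _ = (c * c) * (r * r) := by group
    have hccR : c * c ∈ R := by
      have h1 : (t * t)⁻¹ * r * ((t * t)⁻¹)⁻¹ ∈ R :=
        (Subgroup.mem_normalizer_iff.mp ((Subgroup.normalizer (R : Set S)).inv_mem ht2) r).mp hr
      have h2 : c * c = ((t * t)⁻¹ * r * ((t * t)⁻¹)⁻¹) * r⁻¹ := by
        calc c * c = (t * t)⁻¹ * ((t * t) * (c * c)) := by group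
          _ = (t * t)⁻¹ * (r * (t * t) * r⁻¹) := by rw [hu2]
          _ = ((t * t)⁻¹ * r * ((t * t)⁻¹)⁻¹) * r⁻¹ := by simp only [inv_inv, mul_assoc]
      rw [h2]; exact R.mul_mem h1 (R.inv_mem hr)
    have hccT : c * c ∈ T := by
      have h1 : (r * r) * t * (r * r)⁻¹ ∈ T := (Subgroup.mem_normalizer_iff.mp hr2 t).mp ht
      have h2 : c * c = t⁻¹ * ((r * r) * t * (r * r)⁻¹) := by
        calc c * c = ((c * c) * (r * r)) * (r * r)⁻¹ := by group
          _ = (t⁻¹ * (r * r) * t) * (r * r)⁻¹ := by rw [hv2]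
          _ = t⁻¹ * ((r * r) * t * (r * r)⁻¹) := by group
      rw [h2]; exact T.mul_mem (T.inv_mem ht) h1
    have hcc : c * c = 1 := by
      have : c * c ∈ R ⊓ T := ⟨hccR, hccT⟩
      rwa [hRTbot, Subgroup.mem_bot] at this
    rw [hcc, mul_one] at hu2
    rw [hcc, one_mul] at hv2
    constructor
    · exact E1' r hr hrN (t * t) (T.mul_mem ht ht) (by rw [hu2]; exact T.mul_mem ht ht)
    · have := E2' t⁻¹ (T.inv_mem ht) (hinvN R t htN) (r * r) (R.mul_mem hr hr)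
        (by rw [inv_inv, hv2]; exact R.mul_mem hr hr)
      exact this
  -- 2-power orders
  have hpow : ∀ x : S, ∃ k : ℕ, x ^ (2 ^ k) = 1 := fun x => hS x
  -- Step 5
  obtain ⟨t1, ht1T, ht1N⟩ := SetLike.not_le_iff_exists.mp hTnR
  obtain ⟨r1, hr1R, hr1N⟩ := SetLike.not_le_iff_exists.mp hRnT
  obtain ⟨j, hj1, hj2⟩ := exists_last_pow_not_mem (Subgroup.normalizer (R : Set S)) t1 ht1N (hpow t1)
  obtain ⟨i, hi1, hi2⟩ := exists_last_pow_not_mem (Subgroup.normalizer (T : Set S)) r1 hr1N (hpow r1)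
  obtain ⟨ht'sq, hr'sq⟩ := SQ _ (T.pow_mem ht1T _) hj1 hj2 _ (R.pow_mem hr1R _) hi1 hi2
  set t' := t1 ^ (2 ^ j) with ht'def
  set r' := r1 ^ (2 ^ i) with hr'def
  have ht'T : t' ∈ T := T.pow_mem ht1T _
  have hr'R : r' ∈ R := R.pow_mem hr1R _
  have hr'inv : r'⁻¹ = r' := by rw [inv_eq_iff_mul_eq_one]; exact hr'sq
  -- Step 6: elements of T outside N(R) are involutions
  have Step6 : ∀ t ∈ T, t ∉ Subgroup.normalizer (R : Set S) → t * t = 1 := by
    intro t ht htN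
    by_cases ht2 : t * t ∈ Subgroup.normalizer (R : Set S)
    · exact (SQ t ht htN ht2 r' hr'R hi1 hi2).1
    · exfalso
      obtain ⟨hct, -⟩ := Ccomm t ht htN r' hr'R hi1
      -- c = (t⁻¹ r' t) r'
      have hcv : t⁻¹ * (r' * t * r'⁻¹) = (t⁻¹ * r' * t) * r' := by
        rw [hr'inv]; group
      rw [hcv] at hct
      -- hct : t * (v * r') = (v * r') * t, v = t⁻¹ r' t
      have hvr := E2 t⁻¹ (T.inv_mem ht) (hinvN R t htN) r' hr'R r' hr'R
      rw [inv_inv] at hvr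
      -- hvr : r' * (t⁻¹ * r' * t) = t⁻¹ * r' * t * r'
      -- w = t⁻¹ v t
      have hwv : (t⁻¹ * (t⁻¹ * r' * t) * t) * (t⁻¹ * r' * t) = (t⁻¹ * r' * t) * r' := by
        calc (t⁻¹ * (t⁻¹ * r' * t) * t) * (t⁻¹ * r' * t)
            = t⁻¹ * ((t⁻¹ * r' * t) * r' * t) := by group
          _ = t⁻¹ * (t * ((t⁻¹ * r' * t) * r')) := by rw [← hct]
          _ = (t⁻¹ * r' * t) * r' := by group
      have hvw : (t⁻¹ * r' * t) * (t⁻¹ * (t⁻¹ * r' * t) * t) =
          (t⁻¹ * (t⁻¹ * r' * t) * t) * (t⁻¹ * r' * t) := by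
        calc (t⁻¹ * r' * t) * (t⁻¹ * (t⁻¹ * r' * t) * t)
            = t⁻¹ * (r' * (t⁻¹ * r' * t)) * t := by group
          _ = t⁻¹ * (t⁻¹ * r' * t * r') * t := by rw [hvr]
          _ = (t⁻¹ * (t⁻¹ * r' * t) * t) * (t⁻¹ * r' * t) := by group
      have hw : t⁻¹ * (t⁻¹ * r' * t) * t = r' := by
        have h3 : (t⁻¹ * r' * t) * (t⁻¹ * (t⁻¹ * r' * t) * t) = (t⁻¹ * r' * t) * r' := by
          rw [hvw, hwv]
        exact mul_left_cancel h3
      have hmem : (t * t)⁻¹ * r' * ((t * t)⁻¹)⁻¹ ∈ R := by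
        have : (t * t)⁻¹ * r' * ((t * t)⁻¹)⁻¹ = t⁻¹ * (t⁻¹ * r' * t) * t := by
          simp only [inv_inv, mul_inv_rev, mul_assoc]
        rw [this, hw]; exact hr'R
      have h1 := E2' (t * t)⁻¹ (T.inv_mem (T.mul_mem ht ht)) (hinvN R _ ht2) r' hr'R hmem
      apply hi1
      rw [h1]
      exact Subgroup.one_mem _
  -- Step 7: an involution in T ∩ N(R)
  obtain ⟨⟨t2, ht2T⟩, ht2sq⟩ := exists_sq_ne_one_of_frattini_ne_bot (hΦ T hT)
  have ht2sq' : t2 * t2 ≠ 1 := by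
    intro h
    apply ht2sq
    exact Subtype.ext h
  have ht2N : t2 ∈ Subgroup.normalizer (R : Set S) := by
    by_contra h
    exact ht2sq' (Step6 t2 ht2T h)
  have ht2ne : t2 ≠ 1 := by
    rintro rfl
    exact ht2sq' (by simp)
  obtain ⟨k, hk1, hk2⟩ := exists_last_pow_not_mem (⊥ : Subgroup S) t2
    (by rw [Subgroup.mem_bot]; exact ht2ne) (hpow t2)
  set t0 := t2 ^ (2 ^ k) with ht0def
  have ht0T : t0 ∈ T := T.pow_mem ht2T _
  have ht0N : t0 ∈ Subgroup.normalizer (R : Set S) := Subgroup.pow_mem _ ht2N _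
  have ht0ne : t0 ≠ 1 := by rwa [Subgroup.mem_bot] at hk1
  have ht0sq : t0 * t0 = 1 := by rwa [Subgroup.mem_bot] at hk2
  have ht0inv : t0⁻¹ = t0 := by rw [inv_eq_iff_mul_eq_one]; exact ht0sq
  -- Step 8
  have htt : t1 * t1 = 1 := Step6 t1 ht1T ht1N
  have ht1inv : t1⁻¹ = t1 := by rw [inv_eq_iff_mul_eq_one]; exact htt
  have ht1t0N : t1 * t0 ∉ Subgroup.normalizer (R : Set S) := by
    intro h
    apply ht1N
    have := (Subgroup.normalizer (R : Set S)).mul_mem h ((Subgroup.normalizer (R : Set S)).inv_mem ht0N)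
    simpa using this
  have h10 : (t1 * t0) * (t1 * t0) = 1 := Step6 _ (T.mul_mem ht1T ht0T) ht1t0N
  have hcomm10 : t1 * t0 = t0 * t1 := by
    calc t1 * t0 = (t1 * t0)⁻¹ := by rw [eq_inv_iff_mul_eq_one]; exact h10
      _ = t0⁻¹ * t1⁻¹ := by group
      _ = t0 * t1 := by rw [ht0inv, ht1inv]
  have hcent : ∀ r ∈ R, r * t0 = t0 * r := by
    intro r hr
    by_cases hrN : r ∈ Subgroup.normalizer (T : Set S)
    · exact Step1 r hr hrN t0 ht0T ht0N
    · -- c₀ = t0⁻¹ (r t0 r⁻¹) ∈ R commutes with t1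
      have hu1 := E1 r hr hrN t1 ht1T t0 ht0T
      have hc0R : t0⁻¹ * (r * t0 * r⁻¹) ∈ R := by
        have h1 : t0⁻¹ * r * (t0⁻¹)⁻¹ ∈ R :=
          (Subgroup.mem_normalizer_iff.mp ((Subgroup.normalizer (R : Set S)).inv_mem ht0N) r).mp hr
        have : t0⁻¹ * (r * t0 * r⁻¹) = (t0⁻¹ * r * (t0⁻¹)⁻¹) * r⁻¹ := by group
        rw [this]; exact R.mul_mem h1 (R.inv_mem hr)
      have hconj : t1 * (t0⁻¹ * (r * t0 * r⁻¹)) * t1⁻¹ = t0⁻¹ * (r * t0 * r⁻¹) := by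
        have hc1 : t1 * t0⁻¹ = t0⁻¹ * t1 := by
          rw [ht0inv]; exact hcomm10
        calc t1 * (t0⁻¹ * (r * t0 * r⁻¹)) * t1⁻¹ = (t1 * t0⁻¹) * (r * t0 * r⁻¹) * t1⁻¹ := by group
          _ = (t0⁻¹ * t1) * (r * t0 * r⁻¹) * t1⁻¹ := by rw [hc1]
          _ = t0⁻¹ * (t1 * (r * t0 * r⁻¹)) * t1⁻¹ := by group
          _ = t0⁻¹ * ((r * t0 * r⁻¹) * t1) * t1⁻¹ := by rw [hu1]
          _ = t0⁻¹ * (r * t0 * r⁻¹) := by group
      have h1 := E2' t1 ht1T ht1N _ hc0R (by rw [hconj]; exact hc0R)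
      -- h1 : t0⁻¹ * (r * t0 * r⁻¹) = 1
      calc r * t0 = t0 * (t0⁻¹ * (r * t0 * r⁻¹)) * r := by group
        _ = t0 * r := by rw [h1, mul_one]
  apply hRnT
  intro r hr
  rw [Subgroup.mem_normalizer_iff_map_conj_eq]
  exact ti_map_conj_eq_of_commute T (hTI T hT) r t0 ht0T ht0ne (hcent r hr)

end Cfsg.Agent.S1782
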