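import Cfsg.Statements.S1783
import Mathlib
import Cfsg.Agent.S1782
import Cfsg.Agent.S4207
import Cfsg.Agent.Lib.Helper9.FStar
import Cfsg.Agent.Lib.Helper1.Fitting
import Cfsg.Agent.Lib.Helper1.PGroup
import Cfsg.Agent.Lib.Helper11.TI

set_option autoImplicit false
open Cfsg
open scoped commutatorElement

namespace Cfsg.Agent.S1783

open Cfsg.Agent.Lib.Helper11

/-- composition of conjugation maps on subgroups -/
theorem map_conj_map_conj {G : Type*} [Group G] (A : Subgroup G) (s t : G) :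
    (A.map (MulAut.conj t).toMonoidHom).map (MulAut.conj s).toMonoidHom =
      A.map (MulAut.conj (s * t)).toMonoidHom := by
  rw [Subgroup.map_map]
  congr 1
  ext x
  simp [map_mul]

/-- Ambient form of `S1782`. -/
theorem ti_family_commute_ambient {G : Type*} [Group G] [Finite G] (S : Subgroup G)
    (hS : IsPGroup 2 ↥S) (D : Set (Subgroup G)) (hDS : ∀ R ∈ D, R ≤ S)
    (hinv : ∀ s ∈ S, ∀ R ∈ D, R.map (MulAut.conj s).toMonoidHom ∈ D)
    (hsq : ∀ R ∈ D, ∃ t ∈ R, t * t ≠ 1)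
    (hord : ∀ R ∈ D, ∀ T ∈ D, Nat.card ↥R = Nat.card ↥T)
    (hti : ∀ R ∈ D, ∀ T ∈ D, R = T ∨ R ⊓ T = ⊥) :
    ∀ R ∈ D, ∀ T ∈ D, R ≠ T → ∀ r ∈ R, ∀ t ∈ T, r * t = t * r := by
  classical
  have : Fact (Nat.Prime 2) := ⟨Nat.prime_two⟩
  let Δ : Set (Subgroup ↥S) := {R' | ∃ R ∈ D, R' = R.subgroupOf S}
  have hcard : ∀ R ∈ D, Nat.card ↥(R.subgroupOf S) = Nat.card ↥R := fun R hR =>
    Nat.card_congr (Subgroup.subgroupOfEquivOfLe (hDS R hR)).toEquiv
  have key := Cfsg.Agent.S1782.result hS Δ ?_ ?_ ?_ ?_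
  · intro R hR T hT hne r hr t ht
    have h1 := key (R.subgroupOf S) ⟨R, hR, rfl⟩ (T.subgroupOf S) ⟨T, hT, rfl⟩ ?_
    · have hmem : ⁅(⟨r, hDS R hR hr⟩ : ↥S), (⟨t, hDS T hT ht⟩ : ↥S)⁆ ∈
          ⁅R.subgroupOf S, T.subgroupOf S⁆ :=
        Subgroup.commutator_mem_commutator (by simpa [Subgroup.mem_subgroupOf] using hr)
          (by simpa [Subgroup.mem_subgroupOf] using ht)
      rw [h1, Subgroup.mem_bot] at hmem
      have h2 := congrArg Subtype.val hmem
      rw [commutatorElement_def] at h2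
      simp only [Subgroup.coe_mul, Subgroup.coe_inv, Subgroup.coe_one] at h2
      have h3 := congrArg (fun x => x * t * r) h2
      simpa [mul_assoc] using h3
    · intro heq
      apply hne
      rw [Subgroup.subgroupOf_inj] at heq
      rwa [inf_eq_left.mpr (hDS R hR), inf_eq_left.mpr (hDS T hT)] at heq
  · -- invariance
    rintro s R' ⟨R, hR, rfl⟩
    refine ⟨R.map (MulAut.conj (s : G)).toMonoidHom, hinv s s.2 R hR, ?_⟩
    ext x
    rw [mem_map_conj_iff, Subgroup.mem_subgroupOf, Subgroup.mem_subgroupOf, mem_map_conj_iff]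
    simp
  · -- frattini
    rintro R' ⟨R, hR, rfl⟩
    obtain ⟨t, ht, htt⟩ := hsq R hR
    have hR2 : IsPGroup 2 ↥(R.subgroupOf S) := hS.to_subgroup _
    let t' : ↥(R.subgroupOf S) := ⟨⟨t, hDS R hR ht⟩, by simpa [Subgroup.mem_subgroupOf] using ht⟩
    have h1 := Cfsg.Agent.Lib.Helper1.IsPGroup.pow_mem_frattini hR2 t'
    intro hbot
    rw [hbot, Subgroup.mem_bot] at h1
    apply htt
    have h2 := congrArg (fun x : ↥(R.subgroupOf S) => ((x : ↥S) : G)) h1
    simpa [pow_two] using h2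
  · -- orders
    rintro R' ⟨R, hR, rfl⟩ T' ⟨T, hT, rfl⟩
    rw [hcard R hR, hcard T hT]
    exact hord R hR T hT
  · -- TI
    rintro R' ⟨R, hR, rfl⟩ T' ⟨T, hT, rfl⟩
    rcases hti R hR T hT with h | h
    · left; rw [h]
    · right
      rw [eq_bot_iff]
      intro x hx
      rw [Subgroup.mem_bot]
      have : (x : G) ∈ R ⊓ T := ⟨hx.1, hx.2⟩
      rw [h, Subgroup.mem_bot] at this
      exact Subtype.ext this

/-- `closure` of the squares commutes with `map`. -/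
theorem map_closure_sq {G H : Type*} [Group G] [Group H] (f : G →* H) (A : Subgroup G) :
    (Subgroup.closure ((fun a : G => a ^ 2) '' (A : Set G))).map f =
      Subgroup.closure ((fun a : H => a ^ 2) '' ((A.map f : Subgroup H) : Set H)) := by
  rw [MonoidHom.map_closure]
  congr 1
  ext y
  constructor
  · rintro ⟨_, ⟨a, ha, rfl⟩, rfl⟩
    exact ⟨f a, ⟨a, ha, rfl⟩, by simp⟩
  · rintro ⟨_, ⟨a, ha, rfl⟩, rfl⟩
    exact ⟨a ^ 2, ⟨a, ha, rfl⟩, by simp⟩

/-- automorphisms acting trivially on the Frattini quotient -/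
def frattiniStab (P : Type*) [Group P] : Subgroup (MulAut P) where
  carrier := {α | ∀ x : P, α x * x⁻¹ ∈ frattini P}
  one_mem' := by intro x; simp
  mul_mem' := by
    intro α β hα hβ x
    have : (α * β) x * x⁻¹ = (α (β x) * (β x)⁻¹) * (β x * x⁻¹) := by
      simp [MulAut.mul_apply]
    rw [this]; exact mul_mem (hα _) (hβ _)
  inv_mem' := by
    intro α hα x
    have h := hα (α⁻¹ x)
    have h2 := inv_mem h
    simpa using h2

theorem frattiniStab_normal (P : Type*) [Group P] : (frattiniStab P).Normal := by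
  constructor
  intro α hα γ x
  have h := hα (γ⁻¹ x)
  have h1 : (γ * α * γ⁻¹) x * x⁻¹ = γ (α (γ⁻¹ x) * (γ⁻¹ x)⁻¹) := by
    simp [MulAut.mul_apply]
  rw [h1]
  have hfix := (frattini_characteristic (G := P)).fixed γ
  have h2 : α (γ⁻¹ x) * (γ⁻¹ x)⁻¹ ∈ (frattini P).comap γ.toMonoidHom := by
    rw [hfix]; exact h
  exact h2

theorem frattiniStab_isPGroup {P : Type*} [Group P] [Finite P] {p : ℕ} [Fact p.Prime]
    (hP : IsPGroup p P) : IsPGroup p ↥(frattiniStab P) := by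
  obtain ⟨n, hn⟩ := IsPGroup.iff_card.mp hP
  obtain ⟨r, hr⟩ := hP.index (frattini P)
  have hdvd := Cfsg.Agent.S4207.result hn hr (frattiniStab P) (fun α hα x => hα x)
  obtain ⟨k, -, hk⟩ := (Nat.dvd_prime_pow Fact.out).mp hdvd
  exact IsPGroup.of_card hk

/-- Let X be a finite group whose generalized Fitting subgroup equals its largest normal 2-subgroup Q, and let A be an abelian 2-subgroup of X such that every conjugate of A equals A or meets A trivially. Let B be the subgroup generated by the squares of the elements of A. Then B lies in Q, and if B is not an elementary abelian 2-group then the normal closure of B in X is commutative. -/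
theorem result {X : Type*} [Group X] [Finite X]
    (hX : Cfsg.generalizedFittingSubgroup X = Cfsg.pCore 2 X) (A : Subgroup X) (hA2 : IsPGroup 2 ↥A) (hAa : IsMulCommutative ↥A)
    (hti : ∀ h : X, A.map (MulAut.conj h).toMonoidHom = A ∨ A.map (MulAut.conj h).toMonoidHom ⊓ A = ⊥) :
    Subgroup.closure ((fun a : X => a ^ 2) '' (A : Set X)) ≤ Cfsg.pCore 2 X ∧
      (¬ Cfsg.IsElementaryAbelian 2 (Subgroup.closure ((fun a : X => a ^ 2) '' (A : Set X))) →
        IsMulCommutative ↥(Subgroup.normalClosure ((fun a : X => a ^ 2) '' (A : Set X)))) := by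
  classical
  have : Fact (Nat.Prime 2) := ⟨Nat.prime_two⟩
  obtain ⟨Q, hQdef⟩ : ∃ Q, Q = Cfsg.pCore 2 X := ⟨_, rfl⟩
  rw [← hQdef]
  have hQn : Q.Normal := hQdef ▸ Cfsg.Agent.Lib.Helper1.pCore_normal 2 X
  have hQ2 : IsPGroup 2 ↥Q := hQdef ▸ Cfsg.Agent.Lib.Helper1.pCore_isPGroup 2 X
  have hCQ : Subgroup.centralizer (Q : Set X) ≤ Q := by
    have h := Cfsg.Agent.Lib.Helper9.centralizer_generalizedFittingSubgroup_le (G := X)
    rwa [hX, ← hQdef] at h
  -- TI for arbitrary pairs of conjugates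
  have htiC : ∀ s t : X, A.map (MulAut.conj s).toMonoidHom = A.map (MulAut.conj t).toMonoidHom ∨
      A.map (MulAut.conj s).toMonoidHom ⊓ A.map (MulAut.conj t).toMonoidHom = ⊥ := by
    intro s t
    have h := ti_conj A hti t (s * t⁻¹)
    rw [map_conj_map_conj] at h
    simpa using h
  have hAc : ∀ x ∈ A, ∀ y ∈ A, x * y = y * x := fun x hx y hy => setLike_mul_comm hx hy
  -- Step 0: `A` commutes with its `Q`-conjugates
  have hcomm : (∃ a₀ ∈ A, a₀ * a₀ ≠ 1) → ∀ q ∈ Q, ∀ a ∈ A, ∀ a' ∈ A,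
      a * (q * a' * q⁻¹) = (q * a' * q⁻¹) * a := by
    rintro ⟨a₀, ha₀, hne⟩ q hq a ha a' ha'
    by_cases hAq : A.map (MulAut.conj q).toMonoidHom = A
    · have h1 : q * a' * q⁻¹ ∈ A := by
        have := conj_mem_map_conj A q a' ha'
        rwa [hAq] at this
      exact hAc a ha _ h1
    · have hS : IsPGroup 2 ↥(A ⊔ Q) := IsPGroup.to_sup_of_normal_right hA2 hQ2
      let D : Set (Subgroup X) := {R | ∃ s ∈ A ⊔ Q, R = A.map (MulAut.conj s).toMonoidHom}
      have key := ti_family_commute_ambient (A ⊔ Q) hS D ?_ ?_ ?_ ?_ ?_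
      · have hA1 : A ∈ D := ⟨1, one_mem _, by ext x; rw [mem_map_conj_iff]; simp⟩
        exact key A hA1 (A.map (MulAut.conj q).toMonoidHom) ⟨q, Subgroup.mem_sup_right hq, rfl⟩
          (Ne.symm hAq) a ha _ (conj_mem_map_conj A q a' ha')
      · rintro R ⟨s, hs, rfl⟩ x hx
        rw [mem_map_conj_iff] at hx
        have : x = s * (s⁻¹ * x * s) * s⁻¹ := by group
        rw [this]
        exact mul_mem (mul_mem hs (Subgroup.mem_sup_left hx)) (inv_mem hs)
      · rintro s hs R ⟨t, ht, rfl⟩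
        exact ⟨s * t, mul_mem hs ht, map_conj_map_conj A s t⟩
      · rintro R ⟨s, hs, rfl⟩
        refine ⟨s * a₀ * s⁻¹, conj_mem_map_conj A s a₀ ha₀, ?_⟩
        intro h
        apply hne
        have h2 : s * a₀ * s⁻¹ * (s * a₀ * s⁻¹) = s * (a₀ * a₀) * s⁻¹ := by group
        rw [h2] at h
        exact conj_eq_one_iff.mp h
      · rintro R ⟨s, hs, rfl⟩ T ⟨t, ht, rfl⟩
        rw [card_map_conj, card_map_conj]
      · rintro R ⟨s, hs, rfl⟩ T ⟨t, ht, rfl⟩
        exact htiC s t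
  -- Steps 1-3: squares lie in `Q`
  have hsqQ : ∀ a ∈ A, a ^ 2 ∈ Q := by
    intro a ha
    by_cases h1 : a * a = 1
    · rw [pow_two, h1]; exact one_mem _
    have hc := hcomm ⟨a, ha, h1⟩
    let φ : X →* MulAut ↥Q := MulAut.conjNormal
    let K : Subgroup X := (frattiniStab ↥Q).comap φ
    have hKn : K.Normal := Subgroup.Normal.comap (frattiniStab_normal ↥Q) φ
    have hker : IsPGroup 2 ↥φ.ker := by
      apply hQ2.to_le
      intro x hx
      apply hCQ
      rw [Subgroup.mem_centralizer_iff]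
      intro q hq
      have h1 : φ x ⟨q, hq⟩ = ⟨q, hq⟩ := by rw [MonoidHom.mem_ker.mp hx]; rfl
      have h2 := congrArg Subtype.val h1
      rw [MulAut.conjNormal_apply] at h2
      have h3 := congrArg (fun y => y * x) h2
      simpa [mul_assoc] using h3.symm
    have hK2 : IsPGroup 2 ↥K :=
      IsPGroup.comap_of_ker_isPGroup (frattiniStab_isPGroup hQ2) φ hker
    have hKQ : K ≤ Q := hQdef ▸ Cfsg.Agent.Lib.Helper1.le_pCore hKn hK2
    apply hKQ
    show φ (a ^ 2) ∈ frattiniStab ↥Q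
    rintro ⟨q, hq⟩
    have hcq : a * q * a⁻¹ * q⁻¹ ∈ Q := mul_mem (hQn.conj_mem q hq a) (inv_mem hq)
    have h3 := Cfsg.Agent.Lib.Helper1.IsPGroup.pow_mem_frattini hQ2
      (⟨a * q * a⁻¹ * q⁻¹, hcq⟩ : ↥Q)
    have h4 : φ (a ^ 2) ⟨q, hq⟩ * (⟨q, hq⟩ : ↥Q)⁻¹ = (⟨a * q * a⁻¹ * q⁻¹, hcq⟩ : ↥Q) ^ 2 := by
      apply Subtype.ext
      rw [Subgroup.coe_mul, MulAut.conjNormal_apply, Subgroup.coe_inv, Subgroup.coe_pow]
      show a ^ 2 * q * (a ^ 2)⁻¹ * q⁻¹ = (a * q * a⁻¹ * q⁻¹) ^ 2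
      have hd := hc q hq a ha a⁻¹ (inv_mem ha)
      rw [pow_two, pow_two]
      calc a * a * q * (a * a)⁻¹ * q⁻¹
          = a * (a * (q * a⁻¹ * q⁻¹)) * (q * a⁻¹ * q⁻¹) := by group
        _ = a * ((q * a⁻¹ * q⁻¹) * a) * (q * a⁻¹ * q⁻¹) := by rw [hd]
        _ = (a * q * a⁻¹ * q⁻¹) * (a * q * a⁻¹ * q⁻¹) := by group
    rw [h4]; exact h3
  have hBQ : Subgroup.closure ((fun a : X => a ^ 2) '' (A : Set X)) ≤ Q := by
    rw [Subgroup.closure_le]
    rintro _ ⟨a, ha, rfl⟩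
    exact hsqQ a ha
  refine ⟨hBQ, ?_⟩
  intro hnel
  obtain ⟨B, hB⟩ : ∃ B, B = Subgroup.closure ((fun a : X => a ^ 2) '' (A : Set X)) := ⟨_, rfl⟩
  rw [← hB] at hnel hBQ
  have hBA : B ≤ A := by
    rw [hB, Subgroup.closure_le]
    rintro _ ⟨a, ha, rfl⟩
    exact pow_mem ha 2
  have hBc : ∀ x ∈ B, ∀ y ∈ B, x * y = y * x := fun x hx y hy => hAc x (hBA hx) y (hBA hy)
  have hBcomm : IsMulCommutative ↥B := ⟨⟨fun x y => Subtype.ext (hBc x x.2 y y.2)⟩⟩
  obtain ⟨b, hb, hb2⟩ : ∃ b ∈ B, b * b ≠ 1 := by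
    by_contra hcon
    push Not at hcon
    exact hnel ⟨hBcomm, fun a ha => by rw [pow_two]; exact hcon a ha⟩
  let D : Set (Subgroup X) := {R | ∃ x : X, R = B.map (MulAut.conj x).toMonoidHom}
  have key := ti_family_commute_ambient Q hQ2 D ?_ ?_ ?_ ?_ ?_
  · show IsMulCommutative ↥(Subgroup.closure (Group.conjugatesOfSet _))
    apply Subgroup.isMulCommutative_closure
    intro u hu v hv
    rw [Group.mem_conjugatesOfSet_iff] at hu hv
    obtain ⟨_, ⟨a, ha, rfl⟩, hu⟩ := hu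
    obtain ⟨_, ⟨a', ha', rfl⟩, hv⟩ := hv
    rw [isConj_iff] at hu hv
    obtain ⟨g, rfl⟩ := hu
    obtain ⟨h, rfl⟩ := hv
    have haB : a ^ 2 ∈ B := by rw [hB]; exact Subgroup.subset_closure ⟨a, ha, rfl⟩
    have haB' : a' ^ 2 ∈ B := by rw [hB]; exact Subgroup.subset_closure ⟨a', ha', rfl⟩
    have hu := conj_mem_map_conj B g _ haB
    have hv := conj_mem_map_conj B h _ haB'
    by_cases hgh : B.map (MulAut.conj g).toMonoidHom = B.map (MulAut.conj h).toMonoidHom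
    · rw [← hgh] at hv
      obtain ⟨b₁, hb₁, e₁⟩ := hu
      obtain ⟨b₂, hb₂, e₂⟩ := hv
      rw [← e₁, ← e₂, ← map_mul, ← map_mul, hBc b₁ hb₁ b₂ hb₂]
    · exact key _ ⟨g, rfl⟩ _ ⟨h, rfl⟩ hgh _ hu _ hv
  · rintro R ⟨x, rfl⟩
    intro y hy
    obtain ⟨b', hb', rfl⟩ := hy
    exact hQn.conj_mem b' (hBQ hb') x
  · rintro s hs R ⟨t, rfl⟩
    exact ⟨s * t, map_conj_map_conj B s t⟩
  · rintro R ⟨s, rfl⟩
    refine ⟨s * b * s⁻¹, conj_mem_map_conj B s b hb, ?_⟩
    intro h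
    apply hb2
    have h2 : s * b * s⁻¹ * (s * b * s⁻¹) = s * (b * b) * s⁻¹ := by group
    rw [h2] at h
    exact conj_eq_one_iff.mp h
  · rintro R ⟨s, rfl⟩ T ⟨t, rfl⟩
    rw [card_map_conj, card_map_conj]
  · rintro R ⟨s, rfl⟩ T ⟨t, rfl⟩
    rcases htiC s t with h | h
    · left
      rw [hB, map_closure_sq, map_closure_sq, h]
    · right
      rw [eq_bot_iff, ← h]
      exact inf_le_inf (Subgroup.map_mono hBA) (Subgroup.map_mono hBA)

end Cfsg.Agent.S1783
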