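import Cfsg.Statements.S1784
import Mathlib
import Cfsg.Agent.Lib.Helper11.ExtraspecialInvol
import Cfsg.Agent.Lib.Helper9.FStar
import Cfsg.Agent.Lib.Helper1.PGroup
-- import your own Cfsg.Agent.* helpers here

set_option autoImplicit false
open Cfsg

namespace Cfsg.Agent.S1784

/-- Let G be a finite group and let z be an involution of G such that Q, the generalized Fitting subgroup of the centralizer C of z, is a 2-group of symplectic type (every characteristic abelian subgroup of Q is cyclic); suppose Q is extraspecial, and view Q inside G. Let α be an involution of C that is not in Q, and let Q₀ be the subgroup of those q ∈ Q whose commutator with α lies in the subgroup generated by z. Then (a) the subgroup generated by the commutators α q α⁻¹ q⁻¹, q ∈ Q, equals the centre of Q₀; and (b) if Q₀ is not contained in the product of the centralizer of α in Q with the subgroup generated by z, then some element of Q conjugates α to α z. -/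
theorem result {G : Type*} [Group G] [Finite G] (z : G) (hz : orderOf z = 2) (hQ : Cfsg.IsOfSymplecticType ↥(Cfsg.generalizedFittingSubgroup ↥(Subgroup.centralizer ({z} : Set G)))) (hE : Cfsg.IsExtraspecial 2 ↥(Cfsg.generalizedFittingSubgroup ↥(Subgroup.centralizer ({z} : Set G))))
    (α : G) (hα : orderOf α = 2) (hαC : α ∈ Subgroup.centralizer ({z} : Set G)) (hαQ : α ∉ (Cfsg.generalizedFittingSubgroup ↥(Subgroup.centralizer ({z} : Set G))).map (Subgroup.centralizer ({z} : Set G)).subtype)
    (Q₀ : Subgroup G) (hQ₀ : ∀ q : G, q ∈ Q₀ ↔ (q ∈ (Cfsg.generalizedFittingSubgroup ↥(Subgroup.centralizer ({z} : Set G))).map (Subgroup.centralizer ({z} : Set G)).subtype ∧ α * q * α⁻¹ * q⁻¹ ∈ Subgroup.zpowers z)) :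
    Subgroup.closure ((fun q : G => α * q * α⁻¹ * q⁻¹) '' ((Cfsg.generalizedFittingSubgroup ↥(Subgroup.centralizer ({z} : Set G))).map (Subgroup.centralizer ({z} : Set G)).subtype : Set G)) = (Subgroup.center ↥Q₀).map Q₀.subtype ∧
      (¬ Q₀ ≤ ((Cfsg.generalizedFittingSubgroup ↥(Subgroup.centralizer ({z} : Set G))).map (Subgroup.centralizer ({z} : Set G)).subtype ⊓ Subgroup.centralizer ({α} : Set G)) ⊔ Subgroup.zpowers z →
        ∃ q ∈ (Cfsg.generalizedFittingSubgroup ↥(Subgroup.centralizer ({z} : Set G))).map (Subgroup.centralizer ({z} : Set G)).subtype, q * α * q⁻¹ = α * z) := by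
  classical
  obtain ⟨C, hC⟩ : ∃ C : Subgroup G, C = Subgroup.centralizer ({z} : Set G) := ⟨_, rfl⟩
  subst hC
  obtain ⟨Fs, hFs⟩ : ∃ Fs : Subgroup ↥(Subgroup.centralizer ({z} : Set G)),
      Fs = Cfsg.generalizedFittingSubgroup ↥(Subgroup.centralizer ({z} : Set G)) := ⟨_, rfl⟩
  rw [← hFs] at hQ hE hαQ hQ₀ ⊢
  have hFsn : Fs.Normal := by rw [hFs]; infer_instance
  have hcentFs : Subgroup.centralizer (Fs : Set ↥(Subgroup.centralizer ({z} : Set G))) ≤ Fs := by
    rw [hFs]; exact Cfsg.Agent.Lib.Helper9.centralizer_generalizedFittingSubgroup_le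
  obtain ⟨⟨hp, hfr, hco⟩, hZ⟩ := hE
  -- the embedding
  obtain ⟨ι, hι⟩ : ∃ ι : ↥Fs →* G, ι = (Subgroup.centralizer ({z} : Set G)).subtype.comp Fs.subtype :=
    ⟨_, rfl⟩
  have hιinj : Function.Injective ι := by
    rw [hι]
    exact (Subgroup.subtype_injective _).comp (Subgroup.subtype_injective _)
  have hrange : Fs.map (Subgroup.centralizer ({z} : Set G)).subtype = ι.range := by
    rw [hι, MonoidHom.range_comp, Subgroup.range_subtype]
  have hιapp : ∀ t : ↥Fs, ι t = ((t : ↥(Subgroup.centralizer ({z} : Set G))) : G) := by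
    intro t; rw [hι]; rfl
  rw [hrange] at hαQ hQ₀ ⊢
  have hz1 : z ≠ 1 := by
    intro h; rw [h, orderOf_one] at hz; norm_num at hz
  have hz2 : z * z = 1 := by
    have := pow_orderOf_eq_one z
    rw [hz, pow_two] at this; exact this
  have hα2 : α * α = 1 := by
    have := pow_orderOf_eq_one α
    rw [hα, pow_two] at this; exact this
  have hαz : α * z = z * α := Subgroup.mem_centralizer_singleton_iff.mp hαC
  -- z in Fs, central
  have hzC : z ∈ Subgroup.centralizer ({z} : Set G) := Subgroup.mem_centralizer_singleton_iff.mpr rfl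
  have hzcent : (⟨z, hzC⟩ : ↥(Subgroup.centralizer ({z} : Set G))) ∈
      Subgroup.center ↥(Subgroup.centralizer ({z} : Set G)) := by
    rw [Subgroup.mem_center_iff]
    intro g
    apply Subtype.ext
    show (g : G) * z = z * (g : G)
    exact Subgroup.mem_centralizer_singleton_iff.mp g.2
  have hzFs : (⟨z, hzC⟩ : ↥(Subgroup.centralizer ({z} : Set G))) ∈ Fs :=
    hcentFs (Subgroup.center_le_centralizer _ hzcent)
  have hzT : ∃ t ∈ Subgroup.center ↥Fs, ι t = z := by
    refine ⟨⟨⟨z, hzC⟩, hzFs⟩, ?_, ?_⟩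
    · rw [Subgroup.mem_center_iff]
      intro g
      apply Subtype.ext
      exact Subgroup.mem_center_iff.mp hzcent (g : ↥(Subgroup.centralizer ({z} : Set G)))
    · rw [hιapp]
  have hcomm : ∀ a b : ↥Fs, a * b * a⁻¹ * b⁻¹ ∈ Subgroup.center ↥Fs := by
    intro a b
    rw [← hco, commutator_def, ← commutatorElement_def]
    exact Subgroup.commutator_mem_commutator (Subgroup.mem_top a) (Subgroup.mem_top b)
  have hsq : ∀ a : ↥Fs, a * a ∈ Subgroup.center ↥Fs := by
    intro a
    rw [← hfr, ← pow_two]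
    exact Cfsg.Agent.Lib.Helper1.IsPGroup.pow_mem_frattini hp a
  have hαconj : ∀ q ∈ ι.range, α * q * α⁻¹ ∈ ι.range := by
    rintro _ ⟨t, rfl⟩
    have := hFsn.conj_mem (t : ↥(Subgroup.centralizer ({z} : Set G))) t.2 ⟨α, hαC⟩
    refine ⟨⟨_, this⟩, ?_⟩
    rw [hιapp, hιapp]
    rfl
  have hαne : ∃ q ∈ ι.range, α * q ≠ q * α := by
    by_contra hcon
    push Not at hcon
    apply hαQ
    have : (⟨α, hαC⟩ : ↥(Subgroup.centralizer ({z} : Set G))) ∈ Fs := by
      apply hcentFs
      rw [Subgroup.mem_centralizer_iff]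
      intro h hh
      apply Subtype.ext
      show (h : G) * α = α * (h : G)
      have := hcon (ι ⟨h, hh⟩) ⟨_, rfl⟩
      rw [hιapp] at this
      exact this.symm
    exact ⟨⟨⟨α, hαC⟩, this⟩, by rw [hιapp]⟩
  refine ⟨?_, ?_⟩
  · exact Cfsg.Agent.Lib.Helper11.closure_commutators_eq_center ι hιinj hZ hcomm hsq z hzT hz1 α hα2
      hαconj hαne Q₀ hQ₀
  · intro hnle
    obtain ⟨q, hq0, hqn⟩ := SetLike.not_le_iff_exists.mp hnle
    obtain ⟨hqQ, hqz⟩ := (hQ₀ q).mp hq0
    refine ⟨q, hqQ, ?_⟩
    have hz2' : z ^ 2 = 1 := by rw [pow_two]; exact hz2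
    rcases Cfsg.Agent.Lib.Helper11.mem_zpowers_of_sq_eq_one hz2' hqz with h | h
    · exfalso
      apply hqn
      apply Subgroup.mem_sup_left
      refine Subgroup.mem_inf.mpr ⟨hqQ, ?_⟩
      rw [Subgroup.mem_centralizer_singleton_iff]
      calc q * α = (α * q * α⁻¹ * q⁻¹)⁻¹ * α * q := by group
        _ = α * q := by rw [h, inv_one, one_mul]
    · have hzi : z⁻¹ = z := inv_eq_of_mul_eq_one_left hz2
      calc q * α * q⁻¹ = (α * q * α⁻¹ * q⁻¹)⁻¹ * α := by group
        _ = z * α := by rw [h, hzi]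
        _ = α * z := hαz.symm

end Cfsg.Agent.S1784
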