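import Cfsg.Statements.S1785
import Mathlib
import Cfsg.Agent.Lib.Helper11.ElemAb2

set_option autoImplicit false
open Cfsg

namespace Cfsg.Agent.S1785

open Cfsg.Agent.Lib.Helper4 Cfsg.Agent.Lib.Helper11 in
/-- One step: an `E_8`-subgroup not inside `E` commutes with an `E_8`-subgroup meeting `E` in a
larger subgroup. -/
theorem step {X : Type*} [Group X] [Finite X] (E : Subgroup X) [E.Normal]
    (hE : Cfsg.IsElementaryAbelian 2 E) (hE32 : 32 ≤ Nat.card ↥E)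
    (A : Subgroup X) (hA : Cfsg.IsElementaryAbelian 2 A) (hA8 : Nat.card ↥A = 8) (hAE : ¬ A ≤ E) :
    ∃ H : Subgroup X, Cfsg.IsElementaryAbelian 2 H ∧ Nat.card ↥H = 8 ∧ ⁅A, H⁆ = ⊥ ∧
      Nat.card ↥(A ⊓ E) < Nat.card ↥(H ⊓ E) := by
  have hAN : A ≤ Subgroup.normalizer (E : Set X) := by
    rw [Subgroup.normalizer_eq_top]; exact le_top
  have hdvd : Nat.card ↥(A ⊓ E) ∣ 8 := hA8 ▸ Subgroup.card_dvd_of_le inf_le_left
  have hne8 : Nat.card ↥(A ⊓ E) ≠ 8 := by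
    intro h
    have : A ⊓ E = A := Subgroup.eq_of_le_of_card_ge inf_le_left (by rw [h, hA8])
    exact hAE (this ▸ inf_le_right)
  have hle8 : Nat.card ↥(A ⊓ E) ≤ 8 := Nat.le_of_dvd (by norm_num) hdvd
  -- choose n
  obtain ⟨n, hn1, hn, hlt⟩ : ∃ n : ℕ, 1 ≤ n ∧ Nat.card ↥A = 2 ^ n * Nat.card ↥(A ⊓ E) ∧
      Nat.card ↥(A ⊓ E) ^ (2 ^ n) < Nat.card ↥E := by
    generalize Nat.card ↥(A ⊓ E) = d at hdvd hne8 hle8
    rw [hA8]
    interval_cases d
    · simp at hdvd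
    · exact ⟨3, by norm_num, by norm_num, by norm_num; omega⟩
    · exact ⟨2, by norm_num, by norm_num, by norm_num; omega⟩
    · norm_num at hdvd
    · exact ⟨1, by norm_num, by norm_num, by norm_num; omega⟩
    · norm_num at hdvd
    · norm_num at hdvd
    · norm_num at hdvd
    · exact absurd rfl hne8
  obtain ⟨z, hzE, hzA, hzc⟩ := exists_centralizing_not_mem hE hA hAN n hn hlt
  have hz2 : z ^ 2 = 1 := hE.2 z hzE
  have hD : Cfsg.IsElementaryAbelian 2 (A ⊓ E) := elemAb_mono inf_le_left hA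
  have hzD : z ∉ A ⊓ E := fun h => hzA (Subgroup.mem_inf.mp h).1
  have hzcD : ∀ d ∈ A ⊓ E, z * d = d * z := fun d hd => hzc d (Subgroup.mem_inf.mp hd).1
  have hcard₀ : Nat.card ↥(A ⊓ E ⊔ Subgroup.zpowers z) = 2 * Nat.card ↥(A ⊓ E) :=
    card_sup_zpowers hz2 hzD hzcD
  have hÂ : Cfsg.IsElementaryAbelian 2 (A ⊔ Subgroup.zpowers z) := elemAb_sup_zpowers hA hz2 hzc
  have hcardÂ : Nat.card ↥(A ⊔ Subgroup.zpowers z) = 16 := by
    rw [card_sup_zpowers hz2 hzA hzc, hA8]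
  have hD₀Â : A ⊓ E ⊔ Subgroup.zpowers z ≤ A ⊔ Subgroup.zpowers z := sup_le_sup_right inf_le_left _
  obtain ⟨m, rfl⟩ : ∃ m, n = m + 1 := ⟨n - 1, by omega⟩
  have h8 : 2 ^ m * Nat.card ↥(A ⊓ E ⊔ Subgroup.zpowers z) = 8 := by
    rw [hcard₀, ← hA8, hn, pow_succ]; ring
  obtain ⟨H, hH1, hH2, hH3⟩ := exists_between_card hÂ m (A ⊓ E ⊔ Subgroup.zpowers z) hD₀Â
    (by rw [h8, hcardÂ]; norm_num)
  rw [h8] at hH3
  refine ⟨H, elemAb_mono hH2 hÂ, hH3, ?_, ?_⟩
  · rw [Subgroup.commutator_eq_bot_iff_le_centralizer]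
    intro a ha
    rw [Subgroup.mem_centralizer_iff]
    intro h hh
    exact elemAb_comm hÂ h (hH2 hh) a (Subgroup.mem_sup_left ha)
  · have hle : A ⊓ E ⊔ Subgroup.zpowers z ≤ H ⊓ E :=
      le_inf hH1 (sup_le inf_le_right (Subgroup.zpowers_le.mpr hzE))
    have := Subgroup.card_le_of_le hle
    have hpos : 0 < Nat.card ↥(A ⊓ E) := Nat.card_pos
    omega

open Cfsg.Agent.Lib.Helper4 Cfsg.Agent.Lib.Helper11 in
/-- Every `E_8`-subgroup is connected to one inside `E`. -/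
theorem connect_into {X : Type*} [Group X] [Finite X] (E : Subgroup X) [E.Normal]
    (hE : Cfsg.IsElementaryAbelian 2 E) (hE32 : 32 ≤ Nat.card ↥E) :
    ∀ (k : ℕ) (A : Subgroup X), Cfsg.IsElementaryAbelian 2 A → Nat.card ↥A = 8 →
      8 - Nat.card ↥(A ⊓ E) ≤ k →
      ∃ A' : Subgroup X, A' ≤ E ∧ Cfsg.IsElementaryAbelian 2 A' ∧ Nat.card ↥A' = 8 ∧
        Relation.ReflTransGen
          (fun C D : Subgroup X => Cfsg.IsElementaryAbelian 2 C ∧ Nat.card ↥C = 8 ∧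
            Cfsg.IsElementaryAbelian 2 D ∧ Nat.card ↥D = 8 ∧ ⁅C, D⁆ = ⊥) A A' := by
  intro k
  induction k with
  | zero =>
    intro A hA hA8 hk
    by_cases hAE : A ≤ E
    · exact ⟨A, hAE, hA, hA8, Relation.ReflTransGen.refl⟩
    · exfalso
      obtain ⟨H, hH, hH8, -, hlt⟩ := step E hE hE32 A hA hA8 hAE
      have : Nat.card ↥(H ⊓ E) ≤ Nat.card ↥H := Subgroup.card_le_of_le inf_le_left
      omega
  | succ k ih =>
    intro A hA hA8 hk
    by_cases hAE : A ≤ E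
    · exact ⟨A, hAE, hA, hA8, Relation.ReflTransGen.refl⟩
    · obtain ⟨H, hH, hH8, hcomm, hlt⟩ := step E hE hE32 A hA hA8 hAE
      have : Nat.card ↥(H ⊓ E) ≤ Nat.card ↥H := Subgroup.card_le_of_le inf_le_left
      obtain ⟨A', h1, h2, h3, h4⟩ := ih H hH hH8 (by omega)
      exact ⟨A', h1, h2, h3, Relation.ReflTransGen.head ⟨hA, hA8, hH, hH8, hcomm⟩ h4⟩

/-- Let X be a finite 2-group having a normal elementary abelian subgroup of order at least 32. Then (a) for any two elementary abelian subgroups A, B of X of order 8 there is a chain A = A₁, A₂, …, Aₙ = B of elementary abelian subgroups of order 8 in which consecutive members commute elementwise; and (b) every elementary abelian subgroup of X of order 4 is contained in an elementary abelian subgroup of order 8. -/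
theorem result {X : Type*} [Group X] [Finite X]
    (hX : IsPGroup 2 X) (E : Subgroup X) [E.Normal] (hE : Cfsg.IsElementaryAbelian 2 E) (hE32 : 32 ≤ Nat.card ↥E) :
    (∀ A B : Subgroup X, Cfsg.IsElementaryAbelian 2 A → Nat.card ↥A = 8 → Cfsg.IsElementaryAbelian 2 B → Nat.card ↥B = 8 →
        Relation.ReflTransGen
          (fun C D : Subgroup X => Cfsg.IsElementaryAbelian 2 C ∧ Nat.card ↥C = 8 ∧ Cfsg.IsElementaryAbelian 2 D ∧ Nat.card ↥D = 8 ∧ ⁅C, D⁆ = ⊥)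
          A B) ∧
      (∀ V : Subgroup X, Cfsg.IsElementaryAbelian 2 V → Nat.card ↥V = 4 →
        ∃ A : Subgroup X, V ≤ A ∧ Cfsg.IsElementaryAbelian 2 A ∧ Nat.card ↥A = 8) := by
  classical
  refine ⟨?_, ?_⟩
  · intro A B hA hA8 hB hB8
    obtain ⟨A', hA'E, hA', hA'8, hchainA⟩ := connect_into E hE hE32 _ A hA hA8 le_rfl
    obtain ⟨B', hB'E, hB', hB'8, hchainB⟩ := connect_into E hE hE32 _ B hB hB8 le_rfl
    have hsymm : ∀ C D : Subgroup X, (fun C D : Subgroup X => Cfsg.IsElementaryAbelian 2 C ∧ Nat.card ↥C = 8 ∧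
        Cfsg.IsElementaryAbelian 2 D ∧ Nat.card ↥D = 8 ∧ ⁅C, D⁆ = ⊥) C D →
        (fun C D : Subgroup X => Cfsg.IsElementaryAbelian 2 C ∧ Nat.card ↥C = 8 ∧
        Cfsg.IsElementaryAbelian 2 D ∧ Nat.card ↥D = 8 ∧ ⁅C, D⁆ = ⊥) D C := by
      rintro C D ⟨h1, h2, h3, h4, h5⟩
      exact ⟨h3, h4, h1, h2, by rw [Subgroup.commutator_comm]; exact h5⟩
    have hmid : (fun C D : Subgroup X => Cfsg.IsElementaryAbelian 2 C ∧ Nat.card ↥C = 8 ∧
        Cfsg.IsElementaryAbelian 2 D ∧ Nat.card ↥D = 8 ∧ ⁅C, D⁆ = ⊥) A' B' := by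
      refine ⟨hA', hA'8, hB', hB'8, ?_⟩
      rw [Subgroup.commutator_eq_bot_iff_le_centralizer]
      intro a ha
      rw [Subgroup.mem_centralizer_iff]
      intro b hb
      exact Cfsg.Agent.Lib.Helper4.elemAb_comm hE b (hB'E hb) a (hA'E ha)
    have hrev : ∀ C D : Subgroup X, Relation.ReflTransGen (fun C D : Subgroup X => Cfsg.IsElementaryAbelian 2 C ∧ Nat.card ↥C = 8 ∧
        Cfsg.IsElementaryAbelian 2 D ∧ Nat.card ↥D = 8 ∧ ⁅C, D⁆ = ⊥) C D →
        Relation.ReflTransGen (fun C D : Subgroup X => Cfsg.IsElementaryAbelian 2 C ∧ Nat.card ↥C = 8 ∧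
        Cfsg.IsElementaryAbelian 2 D ∧ Nat.card ↥D = 8 ∧ ⁅C, D⁆ = ⊥) D C := by
      intro C D h
      induction h with
      | refl => exact Relation.ReflTransGen.refl
      | tail _ hbc ih => exact Relation.ReflTransGen.head (hsymm _ _ hbc) ih
    have hchainB' := hrev _ _ hchainB
    exact (hchainA.tail hmid).trans hchainB'
  · intro V hV hV4
    have hVN : V ≤ Subgroup.normalizer (E : Set X) := by
      rw [Subgroup.normalizer_eq_top]; exact le_top
    have hdvd : Nat.card ↥(V ⊓ E) ∣ 4 := hV4 ▸ Subgroup.card_dvd_of_le inf_le_left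
    have hle4 : Nat.card ↥(V ⊓ E) ≤ 4 := Nat.le_of_dvd (by norm_num) hdvd
    obtain ⟨n, hn, hlt⟩ : ∃ n : ℕ, Nat.card ↥V = 2 ^ n * Nat.card ↥(V ⊓ E) ∧
        Nat.card ↥(V ⊓ E) ^ (2 ^ n) < Nat.card ↥E := by
      generalize Nat.card ↥(V ⊓ E) = d at hdvd hle4
      rw [hV4]
      interval_cases d
      · simp at hdvd
      · exact ⟨2, by norm_num, by norm_num; omega⟩
      · exact ⟨1, by norm_num, by norm_num; omega⟩
      · norm_num at hdvd
      · exact ⟨0, by norm_num, by norm_num; omega⟩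
    obtain ⟨z, hzE, hzV, hzc⟩ := Cfsg.Agent.Lib.Helper11.exists_centralizing_not_mem hE hV hVN n hn hlt
    have hz2 : z ^ 2 = 1 := hE.2 z hzE
    refine ⟨V ⊔ Subgroup.zpowers z, le_sup_left,
      Cfsg.Agent.Lib.Helper11.elemAb_sup_zpowers hV hz2 hzc, ?_⟩
    rw [Cfsg.Agent.Lib.Helper11.card_sup_zpowers hz2 hzV hzc, hV4]

end Cfsg.Agent.S1785
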