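import Cfsg.Statements.S1850
import Mathlib
import Cfsg.Agent.Lib.Helper11.CharPLocal
-- import your own Cfsg.Agent.* helpers here

set_option autoImplicit false
open Cfsg

namespace Cfsg.Agent.S1850

open Cfsg.Agent.Lib.Helper11.CharPLocal


/-- Let G be a non-abelian finite simple QTKE-group and T a Sylow 2-subgroup of G. If U is a nontrivial 2-subgroup of G with U ∩ Z(T) ≠ 1, then F*(N_G(U)) = O₂(N_G(U)). -/
theorem result {G : Type*} [Group G] [Finite G] [IsSimpleGroup G]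
    (hG : ¬ IsMulCommutative G) (hQ : Cfsg.IsQTKE G) (T : Sylow 2 G) (U : Subgroup G)
    (hU : IsPGroup 2 ↥U) (hZ : U ⊓ ((T : Subgroup G) ⊓ Subgroup.centralizer ((T : Subgroup G) : Set G)) ≠ ⊥) :
    Subgroup.normalizer (U : Set G) ∈ Cfsg.calHe G := by
  haveI : Fact (Nat.Prime 2) := ⟨Nat.prime_two⟩
  obtain ⟨⟨z, hzm⟩, hz1⟩ := Subgroup.ne_bot_iff_exists_ne_one.mp hZ
  have hz1' : z ≠ 1 := fun h => hz1 (Subtype.ext h)
  rw [Subgroup.mem_inf, Subgroup.mem_inf] at hzm
  obtain ⟨hzU, hzT, hzC⟩ := hzm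
  set Z : Subgroup G := Subgroup.zpowers z with hZdef
  have hZT : Z ≤ (T : Subgroup G) := by
    rw [hZdef, Subgroup.zpowers_le]; exact hzT
  have hZU : Z ≤ U := by
    rw [hZdef, Subgroup.zpowers_le]; exact hzU
  have hZp : IsPGroup 2 ↥Z := hU.to_le hZU
  have hZne : Z ≠ ⊥ := by
    intro h
    apply hz1'
    have : z ∈ Z := Subgroup.mem_zpowers z
    rw [h] at this
    exact Subgroup.mem_bot.mp this
  set M : Subgroup G := Subgroup.normalizer (Z : Set G) with hMdef
  have hM2 : IsTwoLocal M := ⟨Z, hZp, hZne, rfl⟩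
  -- T centralizes Z
  have hTC : (T : Subgroup G) ≤ Subgroup.centralizer (Z : Set G) := by
    rw [Subgroup.le_centralizer_iff, hZdef, Subgroup.zpowers_le]
    exact hzC
  have hCM : Subgroup.centralizer (Z : Set G) ≤ M := Subgroup.centralizer_le_normalizer _
  have hchar : IsOfCharacteristicTwo ↥M := hQ.2.2 M hM2 ⟨T, hTC.trans hCM⟩
  have hChM : Ch 2 M :=
    Cfsg.Agent.Lib.Helper25.generalizedFittingSubgroup_eq_pCore_of_normal_pSubgroup (pCore 2 ↥M)
      (Cfsg.Agent.Lib.Helper1.pCore_normal 2 ↥M) (Cfsg.Agent.Lib.Helper1.pCore_isPGroup 2 ↥M) hchar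
  -- C = C_G(Z) is normal in M
  have hChC : Ch 2 (Subgroup.centralizer (Z : Set G)) := by
    refine ch_of_normal hChM hCM ?_
    infer_instance
  -- Y₀ = U ⊓ C
  set Y₀ : Subgroup G := U ⊓ Subgroup.centralizer (Z : Set G) with hY0def
  have hZabel : Z ≤ Subgroup.centralizer (Z : Set G) := by
    rw [hZdef, Subgroup.zpowers_le, Subgroup.mem_centralizer_iff]
    intro y hy
    obtain ⟨k, rfl⟩ := Subgroup.mem_zpowers_iff.mp hy
    exact ((Commute.refl z).zpow_left k)
  have hZY0 : Z ≤ Y₀ := le_inf hZU hZabel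
  have hCY0 : Subgroup.centralizer (Y₀ : Set G) ≤ Subgroup.centralizer (Z : Set G) :=
    Subgroup.centralizer_le hZY0
  have hChY0 : Ch 2 (Subgroup.centralizer (Y₀ : Set G)) := by
    have h := ch_centralizer hChC (inf_le_right : Y₀ ≤ Subgroup.centralizer (Z : Set G))
      (hU.to_le inf_le_left)
    rwa [inf_eq_right.mpr hCY0] at h
  have hChU : Ch 2 (Subgroup.centralizer (U : Set G)) :=
    ch_centralizer_of_le hU _ Y₀ inf_le_left hChY0 rfl
  exact ch_normalizer_of_ch_centralizer hU hChU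

end Cfsg.Agent.S1850
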