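import Cfsg.Statements.S1851
-- import your own Cfsg.Agent.* helpers here
import Mathlib
import Cfsg.Agent.Lib.Helper18.QT4

set_option autoImplicit false
open Cfsg

namespace Cfsg.Agent.S1851

open Cfsg.Agent.Lib.Helper18.QT Cfsg.Agent.Lib.Helper16

/-- Let G be a non-abelian finite simple QTKE-group and T a Sylow 2-subgroup of G, and let L be a member of ℒ_f(G, T) (a member of ℒ(G, T) that lies in 𝒳 — L ≠ 1, L = O²(L), F*(L) = O₂(L) — and acts nontrivially on Ω₁(Z(O₂(L)))). Then (1) every member K of ℒ(G, T) containing L is again in ℒ_f(G, T) (a sharper form of (1) also compares the modules [Ω₁(Z(R)), L] and [Ω₁(Z(R')), K] for suitable 2-subgroups R, R'; that comparison is not included); and (2) if L is maximal under inclusion among the members of ℒ_f(G, T), then L is a maximal member of ℒ(G, T), hence a member of ℒ_f*(G, T). -/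
theorem result {G : Type*} [Group G] [Finite G] [IsSimpleGroup G]
    (hG : ¬ IsMulCommutative G) (hQ : Cfsg.IsQTKE G) (T : Sylow 2 G) (L : Subgroup G)
    (hL : L ∈ Cfsg.calLf (T : Subgroup G)) :
    (∀ K ∈ Cfsg.calL (T : Subgroup G), L ≤ K → K ∈ Cfsg.calLf (T : Subgroup G)) ∧
    ((∀ K ∈ Cfsg.calLf (T : Subgroup G), L ≤ K → K = L) → L ∈ Cfsg.calLfMax (T : Subgroup G)) := by
  have h2 : Fact (Nat.Prime 2) := ⟨Nat.prime_two⟩
  have main : ∀ K ∈ Cfsg.calL (T : Subgroup G), L ≤ K → K ∈ Cfsg.calLf (T : Subgroup G) := by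
    intro K hK hLK
    refine ⟨hK, ?_⟩
    obtain ⟨⟨hK1, hKperf, hKsn, -⟩, -, hKO⟩ := hK
    obtain ⟨⟨⟨hL1, hLperf, hLsn, -⟩, -, hLO⟩, ⟨hLX, hLV⟩⟩ := hL
    set H := K ⊔ (T : Subgroup G) with hH
    set M := L ⊔ (T : Subgroup G) with hM
    have hKH : K ≤ H := le_sup_left
    have hTH : (T : Subgroup G) ≤ H := le_sup_right
    have hLM : L ≤ M := le_sup_left
    have hTM : (T : Subgroup G) ≤ M := le_sup_right
    have hMH : M ≤ H := sup_le (hLK.trans hKH) hTH
    have hHO : pCoreOf 2 H ≠ ⊥ := (pCoreOf_ne_bot_iff H).mpr hKO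
    have hHc := inf_centralizer_le_of_evenChar hQ.2.2 T hTH hHO
    have hKp : ⁅K, K⁆ = K := by
      have := congrArg (Subgroup.map H.subtype) hKperf
      rw [Subgroup.map_commutator, Subgroup.map_subgroupOf_eq_of_le hKH] at this
      exact this
    have hKne : K ≠ ⊥ := by
      intro h
      apply hK1
      rw [h]
      exact Subgroup.bot_subgroupOf _
    refine ⟨⟨hKne, oddGenerated_eq_of_perfect hKp, mem_calHe_of_subnormal hKH hKsn hHc⟩, ?_⟩
    intro hV
    apply hLV
    rw [moduleV_eq_bot_iff] at hV ⊢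
    have hKS : SubnBelow H K := subnBelow_of_subgroupOf hKH hKsn
    have hLS : SubnBelow M L := subnBelow_of_subgroupOf hLM hLsn
    have hodd : ∀ x ∈ L, Odd (orderOf x) → CentZ x (pCoreOf 2 L) := by
      intro x hxL hx
      have h1 : CentZ x (pCoreOf 2 H) := centZ_top_of_centZ hKS (hLK hxL) hx (hV x (hLK hxL))
      apply centZ_of_subnBelow hLS hxL hx
      intro z hz
      apply h1
      have hQle : pCoreOf 2 H ≤ pCoreOf 2 M := by
        apply le_pCoreOf
        · exact (pCoreOf_le_sylow T hTH).trans hTM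
        · exact hMH.trans (le_normalizer_pCoreOf H)
        · exact pCoreOf_isPGroup H
      have hzC : z ∈ Subgroup.centralizer ((pCoreOf 2 H : Subgroup G) : Set G) :=
        Subgroup.centralizer_le hQle hz.2.1
      have hzH : z ∈ H := hMH (pCoreOf_le M hz.1)
      exact ⟨hHc ⟨hzH, hzC⟩, hzC, hz.2.2⟩
    intro y hy z hz
    have hgen : oddGenerated L = L := hLX.2.1
    have hle : Subgroup.closure {x : G | x ∈ L ∧ Odd (orderOf x)} ≤
        Subgroup.centralizer ({z} : Set G) := by
      rw [Subgroup.closure_le]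
      rintro x ⟨hxL, hx⟩
      rw [SetLike.mem_coe, Subgroup.mem_centralizer_singleton_iff]
      exact hodd x hxL hx z hz
    have hy' : y ∈ Subgroup.closure {x : G | x ∈ L ∧ Odd (orderOf x)} := by
      have : y ∈ oddGenerated L := by rw [hgen]; exact hy
      exact this
    exact Subgroup.mem_centralizer_singleton_iff.mp (hle hy')
  refine ⟨main, fun hmax => ⟨⟨hL.1, fun K hK hLK => hmax K (main K hK hLK) hLK⟩, hL.2⟩⟩

end Cfsg.Agent.S1851
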