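import Cfsg.Statements.S1892
import Cfsg.Agent.Lib.Helper12.HallHigman
-- import your own Cfsg.Agent.* helpers here

set_option autoImplicit false
open Cfsg
open scoped commutatorElement

namespace Cfsg.Agent.S1892

/-- the elements normalizing `W` and acting trivially on `U` modulo `W` -/
def actKer {S : Type*} [Group S] (U W : Subgroup S) : Subgroup S where
  carrier := {x | x ∈ Subgroup.normalizer (W : Set S) ∧ ∀ u ∈ U, x * u * x⁻¹ * u⁻¹ ∈ W}
  one_mem' := ⟨one_mem _, fun u _ => by simp [W.one_mem]⟩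
  mul_mem' := by
    rintro x y ⟨hx, hx'⟩ ⟨hy, hy'⟩
    refine ⟨mul_mem hx hy, fun u hu => ?_⟩
    have h1 : x * y * u * (x * y)⁻¹ * u⁻¹ = x * (y * u * y⁻¹ * u⁻¹) * x⁻¹ * (x * u * x⁻¹ * u⁻¹) := by group
    rw [h1]
    exact W.mul_mem ((Subgroup.mem_normalizer_iff.mp hx _).mp (hy' u hu)) (hx' u hu)
  inv_mem' := by
    rintro x ⟨hx, hx'⟩
    refine ⟨inv_mem hx, fun u hu => ?_⟩
    have h1 : x⁻¹ * u * x⁻¹⁻¹ * u⁻¹ = x⁻¹ * (x * u * x⁻¹ * u⁻¹)⁻¹ * x⁻¹⁻¹ := by group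
    rw [h1]
    exact (Subgroup.mem_normalizer_iff.mp (inv_mem hx) _).mp (W.inv_mem (hx' u hu))

theorem mem_actKer {S : Type*} [Group S] (U W : Subgroup S) (x : S) :
    x ∈ actKer U W ↔ x ∈ Subgroup.normalizer (W : Set S) ∧ ∀ u ∈ U, x * u * x⁻¹ * u⁻¹ ∈ W := Iff.rfl

theorem conj_mem_actKer {S : Type*} [Group S] (U W : Subgroup S) [hU : U.Normal] (x k : S)
    (hx : x ∈ Subgroup.normalizer (W : Set S)) (hk : k ∈ actKer U W) : x * k * x⁻¹ ∈ actKer U W := by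
  obtain ⟨hk1, hk2⟩ := hk
  refine ⟨mul_mem (mul_mem hx hk1) (inv_mem hx), fun u hu => ?_⟩
  have hu' : x⁻¹ * u * x⁻¹⁻¹ ∈ U := hU.conj_mem u hu x⁻¹
  have h1 : x * k * x⁻¹ * u * (x * k * x⁻¹)⁻¹ * u⁻¹ =
      x * (k * (x⁻¹ * u * x⁻¹⁻¹) * k⁻¹ * (x⁻¹ * u * x⁻¹⁻¹)⁻¹) * x⁻¹ := by group
  rw [h1]
  exact (Subgroup.mem_normalizer_iff.mp hx _).mp (hk2 _ hu')

/-- Let S be a finite p-solvable group with no nontrivial normal subgroup of order prime to p, A a p-subgroup of S, and Q a nontrivial A-invariant subgroup of order prime to p with [A, Q] = Q. Then the commutator [O_p(S), A, Q] is nontrivial. -/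
theorem result {S : Type*} [Group S] [Finite S] {p : ℕ} [Fact p.Prime]
    (hS : Cfsg.IsPSolvable p S) (hred : Cfsg.pPrimeCore p S = ⊥)
    (A Q : Subgroup S) (hA : IsPGroup p A) (hQ : ¬ p ∣ Nat.card Q) (hQ1 : Q ≠ ⊥)
    (hinv : ∀ a ∈ A, ∀ x ∈ Q, a * x * a⁻¹ ∈ Q) (hAQ : ⁅A, Q⁆ = Q) :
    ⁅⁅Cfsg.pCore p S, A⁆, Q⁆ ≠ ⊥ := by
  intro hbot
  have hp : p.Prime := Fact.out
  have hQc : (Nat.card Q).Coprime p := ((Nat.Prime.coprime_iff_not_dvd hp).mpr hQ).symm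
  set U := Cfsg.pCore p S with hU
  haveI hUn : U.Normal := Cfsg.Agent.Lib.Helper24.pCore_normal' p
  have hUp : IsPGroup p U := Cfsg.Agent.Lib.Helper12.pCore_isPGroup' p
  set W := ⁅U, A⁆ with hW
  have hWU : W ≤ U := Subgroup.commutator_le_left U A
  have hWQ : W ≤ Subgroup.centralizer (Q : Set S) := Subgroup.commutator_eq_bot_iff_le_centralizer.mp hbot
  have hAW : A ≤ Subgroup.normalizer (W : Set S) := Subgroup.normalizer_commutator_ge_right U A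
  have hQW : Q ≤ Subgroup.normalizer (W : Set S) := by
    intro x hx
    rw [Subgroup.mem_normalizer_iff]
    intro w
    have key : ∀ y ∈ Q, ∀ w ∈ W, y * w * y⁻¹ = w := by
      intro y hy w hw
      have := Subgroup.mem_centralizer_iff.mp (hWQ hw) y hy
      rw [this, mul_inv_cancel_right]
    constructor
    · intro hw
      rw [key x hx w hw]; exact hw
    · intro hw
      have h1 := key x⁻¹ (Q.inv_mem hx) _ hw
      have h2 : x⁻¹ * (x * w * x⁻¹) * x⁻¹⁻¹ = w := by group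
      rw [h2] at h1
      rw [h1]; exact hw
  -- `A ≤ K`
  have hAK : A ≤ actKer U W := by
    intro a ha
    refine ⟨hAW ha, fun u hu => ?_⟩
    have h1 : a * u * a⁻¹ * u⁻¹ = (u * a * u⁻¹ * a⁻¹)⁻¹ := by group
    rw [h1]
    exact W.inv_mem (Subgroup.commutator_mem_commutator hu ha)
  -- `Q ≤ K`
  have hQK : Q ≤ actKer U W := by
    rw [← hAQ, Subgroup.commutator_le]
    intro a ha x hx
    have h1 : ⁅a, x⁆ = a * (x * a⁻¹ * x⁻¹) := by
      rw [commutatorElement_def]; group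
    rw [h1]
    exact mul_mem (hAK ha) (conj_mem_actKer U W x a⁻¹ (hQW hx) (inv_mem (hAK ha)))
  -- `Q` centralizes `U`
  have hQU : Q ≤ Subgroup.centralizer (U : Set S) := by
    intro x hx
    rw [Subgroup.mem_centralizer_iff]
    intro u hu
    have hw : x * u * x⁻¹ * u⁻¹ ∈ W := (hQK hx).2 u hu
    have hxw : x * (x * u * x⁻¹ * u⁻¹) = (x * u * x⁻¹ * u⁻¹) * x :=
      (Subgroup.mem_centralizer_iff.mp (hWQ hw) x hx)
    have hconj : x * u * x⁻¹ = (x * u * x⁻¹ * u⁻¹) * u := by group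
    have h1 := Cfsg.Agent.Lib.Helper12.pow_conj_eq_pow_mul x u _ hxw hconj (Nat.card Q)
    have hxQ : x ^ Nat.card Q = 1 :=
      orderOf_dvd_iff_pow_eq_one.mp (Subgroup.orderOf_dvd_natCard Q hx)
    rw [hxQ, one_mul, inv_one, mul_one] at h1
    have hw1 : (x * u * x⁻¹ * u⁻¹) ^ Nat.card Q = 1 := (mul_eq_right (b := u)).mp h1.symm
    obtain ⟨k, hk⟩ := hUp ⟨_, hWU hw⟩
    have hw2 : (x * u * x⁻¹ * u⁻¹) ^ (p ^ k) = 1 := by
      have h2 := congrArg Subtype.val hk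
      simpa using h2
    have hw3 := Cfsg.Agent.Lib.Helper12.eq_one_of_pow_eq_one_of_coprime _ k _ hw2 hw1 hQc
    have h4 : x * u = (x * u * x⁻¹ * u⁻¹) * (u * x) := by group
    rw [h4, hw3, one_mul]
  have hQleU : Q ≤ U := hQU.trans (Cfsg.Agent.Lib.Helper12.centralizer_pCore_le_pCore p hS hred)
  apply hQ1
  rw [eq_bot_iff]
  intro x hx
  rw [Subgroup.mem_bot]
  have hxQ : x ^ Nat.card Q = 1 :=
    orderOf_dvd_iff_pow_eq_one.mp (Subgroup.orderOf_dvd_natCard Q hx)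
  obtain ⟨k, hk⟩ := hUp ⟨x, hQleU hx⟩
  have hx2 : x ^ (p ^ k) = 1 := by
    have h2 := congrArg Subtype.val hk
    simpa using h2
  exact Cfsg.Agent.Lib.Helper12.eq_one_of_pow_eq_one_of_coprime x k _ hx2 hxQ hQc

end Cfsg.Agent.S1892
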