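import Cfsg.Statements.S1894
import Cfsg.Agent.Lib.Helper12.Basic

set_option autoImplicit false
open Cfsg
open Subgroup MulAction

namespace Cfsg.Agent.S1894

/-- Let P be a finite p-group, A a normal subgroup of P and B an abelian subgroup of A that is normal in P. Then some subgroup C of A containing B is normal in P and is self-centralizing and normal in A (C ∈ SCN(A)). -/
theorem result {P : Type*} [Group P] [Finite P] {p : ℕ} [Fact p.Prime] (hP : IsPGroup p P)
    (A : Subgroup P) [A.Normal] (B : Subgroup P) [B.Normal] (hBA : B ≤ A) (hB : IsMulCommutative B) :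
    ∃ C : Subgroup P, C.Normal ∧ B ≤ C ∧ Cfsg.IsSCN A C := by
  let S : Set (Subgroup P) := {C | C.Normal ∧ B ≤ C ∧ C ≤ A ∧ ∀ x ∈ C, ∀ y ∈ C, x * y = y * x}
  have hBS : B ∈ S := by
    refine ⟨inferInstance, le_rfl, hBA, fun x hx y hy => ?_⟩
    have := hB.is_comm.comm ⟨x, hx⟩ ⟨y, hy⟩
    exact congrArg Subtype.val this
  obtain ⟨C, hC⟩ := (Set.toFinite S).exists_maximal ⟨B, hBS⟩
  obtain ⟨⟨hCn, hBC, hCA, hCab⟩, hCmax⟩ := hC
  refine ⟨C, hCn, hBC, hCA, ?_, ?_⟩
  · rw [normalizer_eq_top]; exact le_top
  · -- A ⊓ centralizer C = C
    apply le_antisymm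
    · -- main part
      by_contra hne
      have := hCn
      let D : Subgroup P := A ⊓ centralizer (C : Set P)
      have hDn : D.Normal := inferInstance
      have hCD : C ≤ D := le_inf hCA (fun x hx => by
        rw [mem_centralizer_iff]; intro y hy; exact hCab y hy x hx)
      -- image of D in P/C nontrivial
      let Dbar : Subgroup (P ⧸ C) := D.map (QuotientGroup.mk' C)
      have : Dbar.Normal := Subgroup.Normal.map hDn _ (QuotientGroup.mk'_surjective C)
      have hDbar : Dbar ≠ ⊥ := by
        intro h
        apply hne
        intro x hx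
        have : QuotientGroup.mk' C x ∈ Dbar := Subgroup.mem_map_of_mem _ hx
        rw [h, Subgroup.mem_bot] at this
        exact (QuotientGroup.eq_one_iff x).mp this
      have hPC : IsPGroup p (P ⧸ C) := hP.to_quotient C
      obtain ⟨xb, hxD, hx1, hxZ⟩ := Cfsg.Agent.Lib.Helper12.exists_ne_one_mem_center_of_normal hPC Dbar hDbar
      obtain ⟨x, hxD', rfl⟩ := hxD
      have hxC : x ∉ C := fun h => hx1 ((QuotientGroup.eq_one_iff x).mpr h)
      let C' : Subgroup P := (zpowers (QuotientGroup.mk' C x)).comap (QuotientGroup.mk' C)
      have hC'mem : ∀ y ∈ C', ∃ k : ℤ, ∃ c ∈ C, y = x ^ k * c := by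
        intro y hy
        obtain ⟨k, hk⟩ := Subgroup.mem_zpowers_iff.mp (Subgroup.mem_comap.mp hy)
        refine ⟨k, (x ^ k)⁻¹ * y, ?_, by group⟩
        rw [← map_zpow] at hk
        exact (QuotientGroup.eq.mp hk)
      have hxcent : ∀ c ∈ C, x * c = c * x := by
        intro c hc
        have := (mem_centralizer_iff.mp hxD'.2) c hc
        exact this.symm
      have hmk1 : ∀ c ∈ C, QuotientGroup.mk' C c = 1 := fun c hc =>
        (QuotientGroup.eq_one_iff c).mpr hc
      have hC'S : C' ∈ S := by
        refine ⟨?_, ?_, ?_, ?_⟩
        · -- normal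
          have : (zpowers (QuotientGroup.mk' C x)).Normal := by
            constructor
            intro n hn g
            have hnZ : n ∈ center (P ⧸ C) := by
              obtain ⟨k, rfl⟩ := Subgroup.mem_zpowers_iff.mp hn
              exact Subgroup.zpow_mem _ hxZ k
            have : g * n * g⁻¹ = n := by
              rw [Subgroup.mem_center_iff] at hnZ
              rw [hnZ g]; group
            rw [this]; exact hn
          exact Subgroup.Normal.comap this _
        · intro b hb
          have hbC := hBC hb
          show QuotientGroup.mk' C b ∈ zpowers (QuotientGroup.mk' C x)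
          rw [hmk1 b hbC]
          exact Subgroup.one_mem _
        · intro y hy
          obtain ⟨k, c, hc, rfl⟩ := hC'mem y hy
          exact A.mul_mem (A.zpow_mem hxD'.1 k) (hCA hc)
        · intro y hy z hz
          obtain ⟨k, c, hc, rfl⟩ := hC'mem y hy
          obtain ⟨l, d, hd, rfl⟩ := hC'mem z hz
          have h1 : Commute x c := hxcent c hc
          have h2 : Commute x d := hxcent d hd
          have h3 : Commute c d := hCab c hc d hd
          have h4 : Commute (x ^ k) (x ^ l) := (Commute.refl x).zpow_zpow k l
          have h5 : Commute (x ^ k) d := h2.zpow_left k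
          have h6 : Commute c (x ^ l) := (h1.zpow_left l).symm
          exact ((h4.mul_right h5).mul_left (h6.mul_right h3)).eq
      have hCC' : C ≤ C' := by
        intro c hc
        show QuotientGroup.mk' C c ∈ zpowers (QuotientGroup.mk' C x)
        rw [hmk1 c hc]
        exact Subgroup.one_mem _
      have hxC' : x ∈ C' := by
        show QuotientGroup.mk' C x ∈ zpowers (QuotientGroup.mk' C x)
        exact Subgroup.mem_zpowers _
      exact hxC (hCmax hC'S hCC' hxC')
    · exact le_inf hCA (fun x hx => by
        rw [mem_centralizer_iff]; intro y hy; exact hCab y hy x hx)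

end Cfsg.Agent.S1894
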