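import Cfsg.Statements.S1895
-- import your own Cfsg.Agent.* helpers here
import Cfsg.Agent.Lib.Helper22.RankTwoCharD

set_option autoImplicit false
open Cfsg

namespace Cfsg.Agent.S1895

/-- conjugation by an element of the normalizer, as an automorphism of the subgroup. -/
def conjNormalizer {G : Type*} [Group G] (Q : Subgroup G) (n : G)
    (hn : n ∈ Subgroup.normalizer (Q : Set G)) : Q ≃* Q where
  toFun q := ⟨n * q * n⁻¹, (Subgroup.mem_normalizer_iff.mp hn q).mp q.2⟩
  invFun q := ⟨n⁻¹ * q * n, by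
    have := (Subgroup.mem_normalizer_iff''.mp hn q).mp q.2
    exact this⟩
  left_inv q := by
    apply Subtype.ext
    simp only []
    group
  right_inv q := by
    apply Subtype.ext
    simp only []
    group
  map_mul' a b := by
    apply Subtype.ext
    simp only [Subgroup.coe_mul]
    group

/-- the image of a characteristic subgroup of `Q` is normalized by the normalizer of `Q`. -/
theorem normalizer_le_normalizer_map {G : Type*} [Group G] (Q : Subgroup G) (X : Subgroup Q)
    [hX : X.Characteristic] :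
    Subgroup.normalizer (Q : Set G) ≤ Subgroup.normalizer ((X.map Q.subtype : Subgroup G) : Set G) := by
  have key : ∀ n ∈ Subgroup.normalizer (Q : Set G), ∀ g ∈ X.map Q.subtype,
      n * g * n⁻¹ ∈ X.map Q.subtype := by
    rintro n hn _ ⟨x, hx, rfl⟩
    have h1 := Subgroup.characteristic_iff_le_comap.mp hX (conjNormalizer Q n hn)
    have h2 := h1 hx
    exact ⟨conjNormalizer Q n hn x, h2, rfl⟩
  intro n hn
  rw [Subgroup.mem_normalizer_iff]
  intro g
  constructor
  · exact key n hn g
  · intro h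
    have := key n⁻¹ (Subgroup.inv_mem _ hn) _ h
    have e : n⁻¹ * (n * g * n⁻¹) * n⁻¹⁻¹ = g := by group
    rwa [e] at this

/-- Let p be an odd prime and G a finite p-solvable group with no elementary abelian subgroup of order p³. Then every chief factor H/K of G (H, K normal in G with no normal subgroup of G strictly between them) whose order is a power of p has order p or p². -/
theorem result {G : Type*} [Group G] [Finite G] {p : ℕ} [Fact p.Prime] (hp : p ≠ 2)
    (hG : Cfsg.IsPSolvable p G) (hr : Cfsg.PRankLE p 2 G)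
    (H K : Subgroup G) [H.Normal] [K.Normal] (hKH : K < H) (hpow : ∃ n : ℕ, K.relIndex H = p ^ n)
    (hchief : ∀ L : Subgroup G, L.Normal → K ≤ L → L ≤ H → L = K ∨ L = H) :
    K.relIndex H = p ∨ K.relIndex H = p ^ 2 := by
  classical
  have hpp : p.Prime := Fact.out
  obtain ⟨n, hn⟩ := hpow
  -- a Sylow subgroup of `H` and the Frattini argument
  obtain ⟨P⟩ : Nonempty (Sylow p H) := inferInstance
  set Pg : Subgroup G := (P : Subgroup H).map H.subtype with hPg
  set Nm : Subgroup G := Subgroup.normalizer (Pg : Set G) with hNm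
  have hfr : Nm ⊔ H = ⊤ := Sylow.normalizer_sup_eq_top P
  have hPgH : Pg ≤ H := by
    rintro _ ⟨x, -, rfl⟩
    exact x.2
  have hPgp : IsPGroup p Pg := P.2.map H.subtype
  have hPgN : Pg ≤ Nm := Subgroup.le_normalizer
  have hKH' : K ≤ H := hKH.le
  -- `H = Pg K`
  have hsup : H ≤ Pg ⊔ K := by
    rw [← Subgroup.relIndex_eq_one]
    have h1 : (Pg ⊔ K).relIndex H ∣ K.relIndex H :=
      Subgroup.relIndex_dvd_of_le_left H le_sup_right
    have h2 : (Pg ⊔ K).relIndex H ∣ Pg.relIndex H :=
      Subgroup.relIndex_dvd_of_le_left H le_sup_left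
    have h3 : Pg.relIndex H = (P : Subgroup H).index := by
      rw [Subgroup.relIndex, hPg]
      congr 1
      ext x
      rw [Subgroup.mem_subgroupOf, Subgroup.mem_map]
      constructor
      · rintro ⟨y, hy, hxy⟩
        have : y = x := Subtype.ext hxy
        rwa [← this]
      · intro hx
        exact ⟨x, hx, rfl⟩
    have h4 : ¬ p ∣ (P : Subgroup H).index := P.not_dvd_index
    rw [hn] at h1
    obtain ⟨j, -, hj⟩ := (Nat.dvd_prime_pow hpp).mp h1
    rcases Nat.eq_zero_or_pos j with rfl | hj0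
    · rw [hj, pow_zero]
    · exfalso
      apply h4
      rw [← h3]
      refine dvd_trans ?_ h2
      rw [hj]
      exact dvd_pow_self p hj0.ne'
  -- minimal `Nm`-invariant supplement
  let 𝒮 : Subgroup G → Prop := fun Q =>
    Q ≤ Pg ∧ Nm ≤ Subgroup.normalizer (Q : Set G) ∧ H ≤ Q ⊔ K
  obtain ⟨P₁, hP₁min⟩ := exists_minimal_of_wellFoundedLT 𝒮 ⟨Pg, le_rfl, le_rfl, hsup⟩
  obtain ⟨⟨hP₁Pg, hP₁N, hP₁sup⟩, hmin⟩ := hP₁min
  have hP₁p : IsPGroup p P₁ := by
    have := hPgp.to_subgroup (P₁.subgroupOf Pg)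
    exact this.of_equiv (Subgroup.subgroupOfEquivOfLe hP₁Pg)
  have hP₁nt : Nontrivial P₁ := by
    rw [Subgroup.nontrivial_iff_ne_bot]
    rintro rfl
    rw [bot_sup_eq] at hP₁sup
    exact (not_le_of_gt hKH) hP₁sup
  have hP₁r : Cfsg.PRankLE p 2 P₁ :=
    Cfsg.Agent.Lib.Helper22.RankTwoChar.pRankLE_subgroup hr P₁
  obtain ⟨X, hXchar, hXtop, hXidx⟩ :=
    Cfsg.Agent.Lib.Helper22.RankTwoChar.exists_char_of_rank_two hp hP₁p hP₁r
  set X' : Subgroup G := X.map P₁.subtype with hX'
  have hX'P₁ : X' ≤ P₁ := by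
    rintro _ ⟨x, -, rfl⟩
    exact x.2
  have hX'N : Nm ≤ Subgroup.normalizer (X' : Set G) :=
    le_trans hP₁N (normalizer_le_normalizer_map P₁ X)
  -- `X' K` is normal in `G`
  have hNK : Nm ⊔ K = ⊤ := by
    rw [eq_top_iff, ← hfr]
    apply sup_le le_sup_left
    refine le_trans hP₁sup ?_
    exact sup_le (le_trans (le_trans hP₁Pg hPgN) le_sup_left) le_sup_right
  have hLn : (X' ⊔ K).Normal := by
    rw [← Subgroup.normalizer_eq_top_iff, eq_top_iff, ← hNK]
    apply sup_le
    · intro m hm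
      rw [Subgroup.mem_normalizer_iff_map_conj_eq, Subgroup.map_sup]
      have h1 := Subgroup.mem_normalizer_iff_map_conj_eq.mp (hX'N hm)
      have h2 : K.map (MulAut.conj m : G →* G) = K := by
        apply Subgroup.mem_normalizer_iff_map_conj_eq.mp
        have : Subgroup.normalizer (K : Set G) = ⊤ := Subgroup.normalizer_eq_top_iff.mpr inferInstance
        rw [this]; trivial
      rw [h1, h2]
    · exact le_trans le_sup_right Subgroup.le_normalizer
  have hLH : X' ⊔ K ≤ H := sup_le (le_trans hX'P₁ (le_trans hP₁Pg hPgH)) hKH'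
  have hX'K : X' ≤ K := by
    rcases hchief (X' ⊔ K) hLn le_sup_right hLH with h | h
    · rw [← h]; exact le_sup_left
    · exfalso
      have hS : 𝒮 X' := ⟨le_trans hX'P₁ hP₁Pg, hX'N, h.ge⟩
      have hle : P₁ ≤ X' := hmin hS hX'P₁
      apply hXtop
      rw [eq_top_iff]
      intro x _
      obtain ⟨y, hy, hxy⟩ := hle x.2
      have : y = x := Subtype.ext hxy
      rwa [← this]
  -- counting
  have hHeq : H = P₁ ⊔ K :=
    le_antisymm hP₁sup (sup_le (le_trans hP₁Pg hPgH) hKH')
  have h1 : K.relIndex H = K.relIndex P₁ := by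
    rw [hHeq, Subgroup.relIndex_sup_right]
  have h2 : K.relIndex P₁ ∣ X'.relIndex P₁ :=
    Subgroup.relIndex_dvd_of_le_left P₁ hX'K
  have h3 : X'.relIndex P₁ = X.index := by
    rw [Subgroup.relIndex, hX']
    congr 1
    ext x
    rw [Subgroup.mem_subgroupOf, Subgroup.mem_map]
    constructor
    · rintro ⟨y, hy, hxy⟩
      have : y = x := Subtype.ext hxy
      rwa [← this]
    · intro hx
      exact ⟨x, hx, rfl⟩
  have h4 : X.index ≠ 0 := Subgroup.index_ne_zero_of_finite
  rw [← h1, hn, h3] at h2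
  have h5 : p ^ n ≤ p ^ 2 := le_trans (Nat.le_of_dvd (Nat.pos_of_ne_zero h4) h2) hXidx
  have hn2 : n ≤ 2 := (Nat.pow_le_pow_iff_right hpp.one_lt).mp h5
  have hn0 : n ≠ 0 := by
    rintro rfl
    rw [pow_zero, Subgroup.relIndex_eq_one] at hn
    exact (not_le_of_gt hKH) hn
  rw [hn]
  rcases (by omega : n = 1 ∨ n = 2) with rfl | rfl
  · left; rw [pow_one]
  · right; rfl

end Cfsg.Agent.S1895
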