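import Cfsg.Statements.S1898
import Mathlib
-- import your own Cfsg.Agent.* helpers here

set_option autoImplicit false
open Cfsg
open scoped commutatorElement

namespace Cfsg.Agent.S1898

/-- Let X be a finite 2-group whose derived subgroup is elementary abelian and central. Then the subgroup generated by the elements of order dividing 4 has exponent dividing 4, and every automorphism of X fixing each element of order dividing 4 has 2-power order. -/
theorem result {X : Type*} [Group X] [Finite X] (hX : IsPGroup 2 X)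
    (hel : Cfsg.IsElementaryAbelian 2 (commutator X)) (hcen : commutator X ≤ Subgroup.center X) :
    (∀ x ∈ Subgroup.closure {g : X | g ^ 4 = 1}, x ^ 4 = 1) ∧
      ∀ φ : MulAut X, (∀ g : X, g ^ 4 = 1 → φ g = g) → ∃ k : ℕ, φ ^ (2 ^ k) = 1 := by
  obtain ⟨-, hexp⟩ := hel
  -- commutators are central involutions
  have hcm : ∀ a b : X, ⁅a, b⁆ ∈ commutator X := by
    intro a b
    rw [commutator_def]
    exact Subgroup.commutator_mem_commutator (Subgroup.mem_top a) (Subgroup.mem_top b)
  have hcc : ∀ a b z : X, Commute ⁅a, b⁆ z := by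
    intro a b z
    have := hcen (hcm a b)
    rw [Subgroup.mem_center_iff] at this
    exact (this z).symm
  have hc2 : ∀ a b : X, ⁅a, b⁆ ^ 2 = 1 := fun a b => hexp _ (hcm a b)
  have hyx : ∀ y x : X, y * x = ⁅y, x⁆ * x * y := by
    intro y x
    rw [commutatorElement_def]; group
  -- squares are central
  have hsq : ∀ y x : X, Commute (y ^ 2) x := by
    intro y x
    show y ^ 2 * x = x * y ^ 2
    have h1 := hcc y x
    calc y ^ 2 * x = y * (y * x) := by rw [pow_two, mul_assoc]
      _ = y * (⁅y, x⁆ * x * y) := by rw [← hyx]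
      _ = ⁅y, x⁆ * (y * x) * y := by
          rw [mul_assoc ⁅y, x⁆ x y, ← mul_assoc y, ← (h1 y).eq, mul_assoc, mul_assoc, mul_assoc]
      _ = ⁅y, x⁆ * (⁅y, x⁆ * x * y) * y := by rw [← hyx]
      _ = ⁅y, x⁆ ^ 2 * (x * y ^ 2) := by rw [pow_two, pow_two]; group
      _ = x * y ^ 2 := by rw [hc2, one_mul]
  -- the square of a product
  have hmul2 : ∀ x y : X, (x * y) ^ 2 = ⁅y, x⁆ * (x ^ 2 * y ^ 2) := by
    intro x y
    have h1 := hcc y x
    calc (x * y) ^ 2 = x * (y * x) * y := by rw [pow_two]; group
      _ = x * (⁅y, x⁆ * x * y) * y := by rw [← hyx]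
      _ = ⁅y, x⁆ * (x ^ 2 * y ^ 2) := by
          rw [mul_assoc ⁅y, x⁆ x y, ← mul_assoc x, ← (h1 x).eq, pow_two, pow_two]; group
  have hmul4 : ∀ x y : X, (x * y) ^ 4 = x ^ 4 * y ^ 4 := by
    intro x y
    have e4 : ∀ z : X, z ^ 4 = (z ^ 2) ^ 2 := fun z => by rw [← pow_mul]
    rw [e4 (x * y), hmul2, (hcc y x _).mul_pow, hc2, one_mul, (hsq x _).mul_pow, ← e4, ← e4]
  constructor
  · intro x hx
    induction hx using Subgroup.closure_induction with
    | mem g hg => exact hg
    | one => simp
    | mul a b _ _ ha hb => rw [hmul4, ha, hb, one_mul]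
    | inv a _ ha => rw [inv_pow, ha, inv_one]
  · intro φ hφ
    have hord : orderOf φ ≠ 0 := (orderOf_pos φ).ne'
    obtain ⟨k, m, hm, hkm⟩ := Nat.exists_eq_two_pow_mul_odd hord
    refine ⟨k, ?_⟩
    set β : MulAut X := φ ^ (2 ^ k) with hβ
    have hβm : β ^ m = 1 := by
      rw [hβ, ← pow_mul, ← hkm, pow_orderOf_eq_one]
    have hβfix : ∀ g : X, g ^ 4 = 1 → β g = g := by
      intro g hg
      have : ∀ j : ℕ, (φ ^ j) g = g := by
        intro j
        induction j with
        | zero => simp
        | succ j ih => rw [pow_succ, MulAut.mul_apply, hφ g hg, ih]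
      exact this _
    -- β fixes everything
    have hall : ∀ n : ℕ, ∀ x : X, x ^ (2 ^ n) = 1 → β x = x := by
      intro n
      induction n with
      | zero =>
        intro x hx
        apply hβfix
        rw [pow_zero, pow_one] at hx
        rw [hx, one_pow]
      | succ n ih =>
        intro x hx
        have hx2 : (x ^ 2) ^ (2 ^ n) = 1 := by rw [← pow_mul, ← pow_succ']; exact hx
        have h1 : β (x ^ 2) = x ^ 2 := ih _ hx2
        set y : X := x⁻¹ * β x with hy
        have hβx : β x = x * y := by rw [hy]; group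
        have h2 : (x * y) ^ 2 = x ^ 2 := by rw [← hβx, ← map_pow, h1]
        rw [hmul2] at h2
        -- c * (x^2 * y^2) = x^2
        have h3 : ⁅y, x⁆ * y ^ 2 = 1 := by
          have hcomm := (hsq x (⁅y, x⁆ * y ^ 2))
          have : x ^ 2 * (⁅y, x⁆ * y ^ 2) = x ^ 2 := by
            calc x ^ 2 * (⁅y, x⁆ * y ^ 2) = ⁅y, x⁆ * (x ^ 2 * y ^ 2) := by
                  rw [← mul_assoc, ← (hcc y x (x ^ 2)).eq, mul_assoc]
              _ = x ^ 2 := h2
          exact mul_left_cancel (this.trans (mul_one _).symm)
        have hy2 : y ^ 2 = ⁅y, x⁆⁻¹ := eq_inv_of_mul_eq_one_right h3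
        have hy4 : y ^ 4 = 1 := by
          have : y ^ 4 = (y ^ 2) ^ 2 := by rw [← pow_mul]
          rw [this, hy2, inv_pow, hc2, inv_one]
        have hβy : β y = y := hβfix y hy4
        have hpow : ∀ j : ℕ, (β ^ j) x = x * y ^ j := by
          intro j
          induction j with
          | zero => simp
          | succ j ihj =>
            rw [pow_succ', MulAut.mul_apply, ihj, map_mul, map_pow, hβy, hβx, mul_assoc, ← pow_succ']
        have h4 := hpow m
        rw [hβm, MulAut.one_apply] at h4
        have hym : y ^ m = 1 := by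
          have := h4.symm
          rwa [mul_eq_left] at this
        have hy1 : y = 1 := by
          have hd4 : orderOf y ∣ 4 := orderOf_dvd_of_pow_eq_one hy4
          have hdm : orderOf y ∣ m := orderOf_dvd_of_pow_eq_one hym
          have hcop : Nat.Coprime 4 m := by
            have : Nat.Coprime 2 m := (Nat.coprime_two_left).mpr hm
            exact Nat.Coprime.pow_left 2 this
          have := Nat.eq_one_of_dvd_coprimes hcop hd4 hdm
          exact orderOf_eq_one_iff.mp this
        rw [hβx, hy1, mul_one]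
    ext x
    obtain ⟨n, hn⟩ := hX x
    rw [MulAut.one_apply]
    exact hall n x hn

end Cfsg.Agent.S1898
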