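import Cfsg.Statements.S1899
import Mathlib
-- import your own Cfsg.Agent.* helpers here

set_option autoImplicit false
open Cfsg

namespace Cfsg.Agent.S1899

/-- Let a dihedral group of order 2n, n odd and n > 1, act on a finite abelian 2-group A through automorphisms d and t with d^n = 1, t² = 1 and t d t⁻¹ = d⁻¹, and suppose that d fixes only the identity. Then A is the internal direct product of C_A(t) and its image under d. -/
theorem result {A : Type*} [CommGroup A] [Finite A] (hA : IsPGroup 2 A)
    {n : ℕ} (hn : Odd n) (hn1 : 1 < n) (d t : MulAut A) (hd : d ^ n = 1) (ht : t ^ 2 = 1) (hdt : t * d * t⁻¹ = d⁻¹)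
    (hfix : ∀ a : A, d a = a → a = 1) :
    (MulEquiv.toMonoidHom t).eqLocus (MonoidHom.id A) ⊓ ((MulEquiv.toMonoidHom t).eqLocus (MonoidHom.id A)).map d.toMonoidHom = ⊥ ∧
      (MulEquiv.toMonoidHom t).eqLocus (MonoidHom.id A) ⊔ ((MulEquiv.toMonoidHom t).eqLocus (MonoidHom.id A)).map d.toMonoidHom = ⊤ := by
  obtain ⟨k, hk⟩ := hn
  -- basic relations
  have htd : ∀ a : A, t (d a) = d⁻¹ (t a) := by
    intro a
    have h1 : t * d = d⁻¹ * t := by rw [← hdt]; group
    have := congrArg (fun f : MulAut A => f a) h1
    simpa [MulAut.mul_apply] using this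
  have htt : ∀ a : A, t (t a) = a := by
    intro a
    have := congrArg (fun f : MulAut A => f a) ht
    simpa [pow_two, MulAut.mul_apply] using this
  have hdd : ∀ b : A, d (d b) = b → b = 1 := by
    intro b hb
    apply hfix
    have h2k : ∀ j : ℕ, (d ^ (2 * j)) b = b := by
      intro j
      induction j with
      | zero => simp
      | succ j ih =>
        have : d ^ (2 * (j + 1)) = d ^ (2 * j) * d * d := by
          rw [show 2 * (j + 1) = 2 * j + 1 + 1 by ring, pow_succ, pow_succ]
        rw [this, MulAut.mul_apply, MulAut.mul_apply, hb, ih]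
    have h3 : (d ^ n) b = d b := by
      rw [hk, pow_succ', MulAut.mul_apply, h2k k]
    rw [hd] at h3
    simpa using h3.symm
  -- the two pairs of subgroups
  set C : Subgroup A := (MulEquiv.toMonoidHom t).eqLocus (MonoidHom.id A) with hC
  have hCmem : ∀ a : A, a ∈ C ↔ t a = a := by
    intro a; rfl
  let I : Subgroup A :=
    { carrier := {a | t a = a⁻¹}
      one_mem' := by simp
      mul_mem' := by
        intro a b ha hb
        simp only [Set.mem_setOf_eq] at ha hb ⊢
        rw [map_mul, ha, hb, mul_inv]
      inv_mem' := by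
        intro a ha
        simp only [Set.mem_setOf_eq] at ha ⊢
        rw [map_inv, ha] }
  have hImem : ∀ a : A, a ∈ I ↔ t a = a⁻¹ := by
    intro a; rfl
  -- key: elements b with d⁻¹ (something) relation
  have key : ∀ b : A, d⁻¹ b = d b → b = 1 := by
    intro b hb
    apply hdd
    have := congrArg d hb
    simpa using this.symm
  have hCC : C ⊓ C.map d.toMonoidHom = ⊥ := by
    rw [eq_bot_iff]
    rintro a ⟨ha1, b, hb, rfl⟩
    rw [Subgroup.mem_bot]
    have hb' : t b = b := (hCmem b).mp hb
    have ha' : t (d b) = d b := (hCmem _).mp ha1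
    rw [htd, hb'] at ha'
    have := key b ha'
    simp [this]
  have hII : Disjoint I (I.map d.toMonoidHom) := by
    rw [disjoint_iff, eq_bot_iff]
    rintro a ⟨ha1, b, hb, rfl⟩
    rw [Subgroup.mem_bot]
    have hb' : t b = b⁻¹ := (hImem b).mp hb
    have ha' : t (d b) = (d b)⁻¹ := (hImem _).mp ha1
    rw [htd, hb', map_inv, inv_inj] at ha'
    have := key b ha'
    simp [this]
  have hCCd : Disjoint C (C.map d.toMonoidHom) := disjoint_iff.mpr hCC
  -- cardinalities
  have hcardC' : Nat.card ↥(C.map d.toMonoidHom) = Nat.card C :=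
    Subgroup.card_map_of_injective d.injective
  have hcardI' : Nat.card ↥(I.map d.toMonoidHom) = Nat.card I :=
    Subgroup.card_map_of_injective d.injective
  have h1 : Nat.card C * Nat.card C ≤ Nat.card A := by
    have := Nat.card_le_card_of_injective _ (Subgroup.mul_injective_of_disjoint hCCd)
    rwa [Nat.card_prod, hcardC'] at this
  have h2 : Nat.card I * Nat.card I ≤ Nat.card A := by
    have := Nat.card_le_card_of_injective _ (Subgroup.mul_injective_of_disjoint hII)
    rwa [Nat.card_prod, hcardI'] at this
  -- the homomorphism a ↦ a * (t a)⁻¹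
  let f : A →* A :=
    { toFun := fun a => a * (t a)⁻¹
      map_one' := by simp
      map_mul' := by
        intro a b
        rw [map_mul, mul_inv]
        exact mul_mul_mul_comm a b (t a)⁻¹ (t b)⁻¹ }
  have hker : f.ker = C := by
    ext a
    rw [MonoidHom.mem_ker, hCmem]
    show a * (t a)⁻¹ = 1 ↔ t a = a
    rw [mul_inv_eq_one]
    exact eq_comm
  have hrange : f.range ≤ I := by
    rintro _ ⟨a, rfl⟩
    rw [hImem]
    show t (a * (t a)⁻¹) = (a * (t a)⁻¹)⁻¹
    rw [map_mul, map_inv, htt, mul_inv, inv_inv, mul_comm]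
  have h3 : Nat.card A ≤ Nat.card C * Nat.card I := by
    have e1 : Nat.card f.ker * f.ker.index = Nat.card A := Subgroup.card_mul_index f.ker
    rw [Subgroup.index_ker, hker] at e1
    rw [← e1]
    exact Nat.mul_le_mul_left _ (Subgroup.card_le_of_le hrange)
  have hApos : 0 < Nat.card A := Nat.card_pos
  have hcard : Nat.card A = Nat.card C * Nat.card C := by
    apply le_antisymm _ h1
    by_contra hlt
    push Not at hlt
    have h4 : Nat.card A * Nat.card A ≤ (Nat.card C * Nat.card C) * (Nat.card I * Nat.card I) := by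
      calc Nat.card A * Nat.card A ≤ (Nat.card C * Nat.card I) * (Nat.card C * Nat.card I) :=
            Nat.mul_le_mul h3 h3
        _ = (Nat.card C * Nat.card C) * (Nat.card I * Nat.card I) := by ring
    have h5 : (Nat.card C * Nat.card C) * (Nat.card I * Nat.card I) < Nat.card A * Nat.card A :=
      Nat.mul_lt_mul_of_lt_of_le hlt h2 (by
        have : 0 < Nat.card I := Nat.card_pos
        positivity)
    omega
  refine ⟨hCC, ?_⟩
  have hbij : Function.Bijective (fun g => g.1 * g.2 : C × ↥(C.map d.toMonoidHom) → A) := by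
    apply (Subgroup.mul_injective_of_disjoint hCCd).bijective_of_nat_card_le
    rw [Nat.card_prod, hcardC', hcard]
  rw [eq_top_iff]
  intro a _
  obtain ⟨⟨x, y⟩, hxy⟩ := hbij.2 a
  rw [← hxy]
  exact mul_mem (Subgroup.mem_sup_left x.2) (Subgroup.mem_sup_right y.2)

end Cfsg.Agent.S1899
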