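import Cfsg.Statements.S1900
import Cfsg.Agent.Lib.Helper1.TraceIdentity
import Cfsg.Agent.Lib.Helper29.Frobenius
-- import your own Cfsg.Agent.* helpers here

set_option autoImplicit false
open Cfsg

namespace Cfsg.Agent.S1900
open scoped commutatorElement

section gen
variable {S : Type*} [Group S]

theorem mem_centralizer_singleton' (a z : S) :
    z ∈ Subgroup.centralizer ({a} : Set S) ↔ a * z = z * a := by
  rw [Subgroup.mem_centralizer_iff]
  constructor
  · intro h; exact h a rfl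
  · intro h b hb; rw [Set.mem_singleton_iff.mp hb]; exact h

theorem centralizer_zpowers (a : S) :
    Subgroup.centralizer ((Subgroup.zpowers a : Subgroup S) : Set S) = Subgroup.centralizer ({a} : Set S) := by
  rw [Subgroup.zpowers_eq_closure, Subgroup.centralizer_closure]

/-- fixed-point-free: `r ↦ r⁻¹ a r a⁻¹` is onto -/
theorem le_commutator_of_fpf (R : Subgroup S) [Finite R] (a : S)
    (ha : a ∈ Subgroup.normalizer (R : Set S)) (hfix : ∀ r ∈ R, a * r = r * a → r = 1) :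
    R ≤ ⁅R, Subgroup.zpowers a⁆ := by
  have hmem : ∀ s : R, (s : S)⁻¹ * (a * (s : S) * a⁻¹) ∈ R := fun s =>
    R.mul_mem (R.inv_mem s.2) ((Subgroup.mem_normalizer_iff.mp ha _).mp s.2)
  let f : R → R := fun s => ⟨(s : S)⁻¹ * (a * (s : S) * a⁻¹), hmem s⟩
  have hinj : Function.Injective f := by
    intro s t hst
    have h1 : (s : S)⁻¹ * (a * (s : S) * a⁻¹) = (t : S)⁻¹ * (a * (t : S) * a⁻¹) := congrArg Subtype.val hst
    have h2 : a * ((t : S) * (s : S)⁻¹) = ((t : S) * (s : S)⁻¹) * a := by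
      have h3 : (t : S) * ((s : S)⁻¹ * (a * (s : S) * a⁻¹)) * a * (s : S)⁻¹ =
          (t : S) * ((t : S)⁻¹ * (a * (t : S) * a⁻¹)) * a * (s : S)⁻¹ := by rw [h1]
      have h4 : (t : S) * ((s : S)⁻¹ * (a * (s : S) * a⁻¹)) * a * (s : S)⁻¹ = ((t : S) * (s : S)⁻¹) * a := by
        group
      have h5 : (t : S) * ((t : S)⁻¹ * (a * (t : S) * a⁻¹)) * a * (s : S)⁻¹ = a * ((t : S) * (s : S)⁻¹) := by
        group
      rw [h4, h5] at h3
      exact h3.symm
    have h6 := hfix _ (R.mul_mem t.2 (R.inv_mem s.2)) h2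
    apply Subtype.ext
    have : (t : S) = (s : S) := by
      have := mul_inv_eq_one.mp h6
      exact this
    exact this.symm
  have hsurj : Function.Surjective f := Finite.injective_iff_surjective.mp hinj
  intro r hr
  obtain ⟨s, hs⟩ := hsurj ⟨r, hr⟩
  have h1 : r = (s : S)⁻¹ * (a * (s : S) * a⁻¹) := (congrArg Subtype.val hs).symm
  have h2 : r = ⁅(s : S)⁻¹, a⁆ := by
    rw [h1, commutatorElement_def]; group
  rw [h2]
  exact Subgroup.commutator_mem_commutator (R.inv_mem s.2) (Subgroup.mem_zpowers a)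

theorem le_normalizer_inf {A B Q : Subgroup S} (hA : Q ≤ Subgroup.normalizer (A : Set S))
    (hB : Q ≤ Subgroup.normalizer (B : Set S)) : Q ≤ Subgroup.normalizer ((A ⊓ B : Subgroup S) : Set S) := by
  intro x hx
  have h1 := Subgroup.mem_normalizer_iff.mp (hA hx)
  have h2 := Subgroup.mem_normalizer_iff.mp (hB hx)
  rw [Subgroup.mem_normalizer_iff]
  intro y
  rw [Subgroup.mem_inf, Subgroup.mem_inf, h1 y, h2 y]

theorem le_normalizer_sup {A B Q : Subgroup S} (hA : Q ≤ Subgroup.normalizer (A : Set S))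
    (hB : Q ≤ Subgroup.normalizer (B : Set S)) : Q ≤ Subgroup.normalizer ((A ⊔ B : Subgroup S) : Set S) := by
  intro x hx
  have key : ∀ z ∈ Q, (A ⊔ B).map (MulAut.conj z).toMonoidHom ≤ A ⊔ B := by
    intro z hz
    rw [Subgroup.map_sup]
    apply sup_le_sup
    · rintro _ ⟨y, hy, rfl⟩
      exact (Subgroup.mem_normalizer_iff.mp (hA hz) y).mp hy
    · rintro _ ⟨y, hy, rfl⟩
      exact (Subgroup.mem_normalizer_iff.mp (hB hz) y).mp hy
  rw [Subgroup.mem_normalizer_iff]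
  intro y
  constructor
  · intro hy
    exact key x hx ⟨y, hy, rfl⟩
  · intro hy
    have := key x⁻¹ (Q.inv_mem hx) ⟨_, hy, rfl⟩
    simpa [mul_assoc] using this

end gen
section main
variable {S : Type*} [Group S] [Finite S] {p q : ℕ} [Fact p.Prime] [Fact q.Prime]

/-- generation of a `p`-group by the centralizers of the elements `a b^j` and `b` of a noncyclic `q`-group acting on it -/
theorem generation (hpq : p ≠ q) (R : Subgroup S) (hR : IsPGroup p R) (a b : S) (hab : a * b = b * a)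
    (ha : a ^ q = 1) (hb : b ^ q = 1) (haR : a ∈ Subgroup.normalizer (R : Set S))
    (hbR : b ∈ Subgroup.normalizer (R : Set S)) (D : Subgroup S)
    (hD1 : ∀ j : ℕ, R ⊓ Subgroup.centralizer ({a * b ^ j} : Set S) ≤ D)
    (hD2 : R ⊓ Subgroup.centralizer ({b} : Set S) ≤ D) : R ≤ D := by
  set α : MulAut R := R.normalizerMonoidHom ⟨a, haR⟩ with hα
  set β : MulAut R := R.normalizerMonoidHom ⟨b, hbR⟩ with hβ
  have hαβ : α * β = β * α := by
    rw [hα, hβ, ← map_mul, ← map_mul]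
    congr 1
    exact Subtype.ext hab
  have hαq : α ^ q = 1 := by
    rw [hα, ← map_pow]
    have : (⟨a, haR⟩ : Subgroup.normalizer (R : Set S)) ^ q = 1 := Subtype.ext (by simpa using ha)
    rw [this, map_one]
  have hβq : β ^ q = 1 := by
    rw [hβ, ← map_pow]
    have : (⟨b, hbR⟩ : Subgroup.normalizer (R : Set S)) ^ q = 1 := Subtype.ext (by simpa using hb)
    rw [this, map_one]
  have h := Cfsg.Agent.Lib.Helper1.iSup_fixSub_eq_top hR hpq.symm α β hαβ hαq hβq
  have hle : (⨆ j : ℕ, Cfsg.Agent.Lib.Helper1.fixSub (α * β ^ j)) ⊔ Cfsg.Agent.Lib.Helper1.fixSub β ≤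
      D.subgroupOf R := by
    apply sup_le
    · apply iSup_le
      intro j x hx
      rw [Cfsg.Agent.Lib.Helper1.mem_fixSub] at hx
      rw [Subgroup.mem_subgroupOf]
      apply hD1 j
      refine Subgroup.mem_inf.mpr ⟨x.2, ?_⟩
      rw [mem_centralizer_singleton']
      have h1 : ((α * β ^ j) x : S) = (a * b ^ j) * (x : S) * (a * b ^ j)⁻¹ := by
        have h2 : α * β ^ j = R.normalizerMonoidHom (⟨a, haR⟩ * ⟨b, hbR⟩ ^ j) := by
          rw [map_mul, map_pow]
        rw [h2]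
        rfl
      rw [hx] at h1
      calc a * b ^ j * (x : S) = (a * b ^ j) * (x : S) * (a * b ^ j)⁻¹ * (a * b ^ j) := by group
        _ = (x : S) * (a * b ^ j) := by rw [← h1]
    · intro x hx
      rw [Cfsg.Agent.Lib.Helper1.mem_fixSub] at hx
      rw [Subgroup.mem_subgroupOf]
      apply hD2
      refine Subgroup.mem_inf.mpr ⟨x.2, ?_⟩
      rw [mem_centralizer_singleton']
      have h1 : (β x : S) = b * (x : S) * b⁻¹ := rfl
      rw [hx] at h1
      calc b * (x : S) = b * (x : S) * b⁻¹ * b := by group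
        _ = (x : S) * b := by rw [← h1]
  rw [h] at hle
  intro x hx
  have : (⟨x, hx⟩ : R) ∈ D.subgroupOf R := hle (Subgroup.mem_top _)
  exact Subgroup.mem_subgroupOf.mp this

end main


theorem eq_zpowers_of_prime_card {S : Type*} [Group S] [Finite S] {q : ℕ} [hq : Fact q.Prime]
    (X : Subgroup S) (hX : Nat.card X = q) (x : S) (hx : x ∈ X) (hx1 : x ≠ 1) :
    X = Subgroup.zpowers x := by
  have hdvd : orderOf x ∣ q := by
    rw [← hX]; exact Subgroup.orderOf_dvd_natCard X hx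
  have hord : orderOf x = q := by
    rcases (Nat.Prime.eq_one_or_self_of_dvd hq.out _ hdvd) with h | h
    · exact absurd (orderOf_eq_one_iff.mp h) hx1
    · exact h
  symm
  apply Subgroup.eq_of_le_of_card_ge
  · rw [Subgroup.zpowers_le]; exact hx
  · rw [Nat.card_zpowers, hord, hX]

/-- Let S = PQ be a finite group with P a normal Sylow p-subgroup and Q elementary abelian of order q², q a prime different from p. If exactly two subgroups X₁, X₂ of order q in Q have a nontrivial centralizer in P, then P is the internal direct product of C_P(X₁) and C_P(X₂): they commute elementwise, meet trivially and generate P. -/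
theorem result {S : Type*} [Group S] [Finite S] {p q : ℕ} [Fact p.Prime] [Fact q.Prime] (hpq : p ≠ q)
    (P : Sylow p S) [(P : Subgroup S).Normal] (Q : Subgroup S) (hQ : Cfsg.IsElementaryAbelian q Q) (hQc : Nat.card Q = q ^ 2)
    (hS : (P : Subgroup S) ⊔ Q = ⊤)
    (X₁ X₂ : Subgroup S) (h₁ : X₁ ≤ Q) (h₂ : X₂ ≤ Q) (h₁₂ : X₁ ≠ X₂) (hc₁ : Nat.card X₁ = q) (hc₂ : Nat.card X₂ = q)
    (hf₁ : (P : Subgroup S) ⊓ Subgroup.centralizer (X₁ : Set S) ≠ ⊥)
    (hf₂ : (P : Subgroup S) ⊓ Subgroup.centralizer (X₂ : Set S) ≠ ⊥)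
    (honly : ∀ X : Subgroup S, X ≤ Q → Nat.card X = q →
      (P : Subgroup S) ⊓ Subgroup.centralizer (X : Set S) ≠ ⊥ → X = X₁ ∨ X = X₂) :
    ⁅(P : Subgroup S) ⊓ Subgroup.centralizer (X₁ : Set S), (P : Subgroup S) ⊓ Subgroup.centralizer (X₂ : Set S)⁆ = ⊥ ∧
      ((P : Subgroup S) ⊓ Subgroup.centralizer (X₁ : Set S)) ⊓ ((P : Subgroup S) ⊓ Subgroup.centralizer (X₂ : Set S)) = ⊥ ∧
      ((P : Subgroup S) ⊓ Subgroup.centralizer (X₁ : Set S)) ⊔ ((P : Subgroup S) ⊓ Subgroup.centralizer (X₂ : Set S)) = P := by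
  have hp : p.Prime := Fact.out
  have hq : q.Prime := Fact.out
  obtain ⟨hQcomm, hQexp⟩ := hQ
  have hPp : IsPGroup p (P : Subgroup S) := P.isPGroup'
  have hPn : (P : Subgroup S).Normal := inferInstance
  -- generators
  have hX1nt : X₁ ≠ ⊥ := by
    intro h; rw [h, Subgroup.card_bot] at hc₁; exact hq.one_lt.ne hc₁
  have hX2nt : X₂ ≠ ⊥ := by
    intro h; rw [h, Subgroup.card_bot] at hc₂; exact hq.one_lt.ne hc₂
  obtain ⟨⟨a, haX⟩, ha1'⟩ := (Subgroup.ne_bot_iff_exists_ne_one).mp hX1nt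
  obtain ⟨⟨b, hbX⟩, hb1'⟩ := (Subgroup.ne_bot_iff_exists_ne_one).mp hX2nt
  have ha1 : a ≠ 1 := fun h => ha1' (Subtype.ext h)
  have hb1 : b ≠ 1 := fun h => hb1' (Subtype.ext h)
  have hXa : X₁ = Subgroup.zpowers a := eq_zpowers_of_prime_card X₁ hc₁ a haX ha1
  have hXb : X₂ = Subgroup.zpowers b := eq_zpowers_of_prime_card X₂ hc₂ b hbX hb1
  have haQ : a ∈ Q := h₁ haX
  have hbQ : b ∈ Q := h₂ hbX
  have hcomm : ∀ x ∈ Q, ∀ y ∈ Q, x * y = y * x := by
    intro x hx y hy
    have := hQcomm.is_comm.comm (⟨x, hx⟩ : Q) ⟨y, hy⟩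
    exact congrArg Subtype.val this
  have hab : a * b = b * a := hcomm a haQ b hbQ
  have haq : a ^ q = 1 := hQexp a haQ
  have hbq : b ^ q = 1 := hQexp b hbQ
  have hdisj : ∀ x, x ∈ X₁ → x ∈ X₂ → x = 1 := by
    intro x hx1 hx2
    by_contra hne
    apply h₁₂
    rw [eq_zpowers_of_prime_card X₁ hc₁ x hx1 hne, eq_zpowers_of_prime_card X₂ hc₂ x hx2 hne]
  have hC1 : Subgroup.centralizer (X₁ : Set S) = Subgroup.centralizer ({a} : Set S) := by
    rw [hXa, centralizer_zpowers]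
  have hC2 : Subgroup.centralizer (X₂ : Set S) = Subgroup.centralizer ({b} : Set S) := by
    rw [hXb, centralizer_zpowers]
  rw [hC1, hC2]
  set P₁ : Subgroup S := (P : Subgroup S) ⊓ Subgroup.centralizer ({a} : Set S) with hP₁
  set P₂ : Subgroup S := (P : Subgroup S) ⊓ Subgroup.centralizer ({b} : Set S) with hP₂
  -- elements of `Q` outside `X₁ ∪ X₂` have trivial centralizer in `P`
  have honly' : ∀ y ∈ Q, y ≠ 1 → y ∉ X₁ → y ∉ X₂ →
      (P : Subgroup S) ⊓ Subgroup.centralizer ({y} : Set S) = ⊥ := by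
    intro y hyQ hy1 hy₁ hy₂
    by_contra hne
    have hcard : Nat.card (Subgroup.zpowers y) = q := by
      rw [Nat.card_zpowers]
      have hdvd : orderOf y ∣ q := orderOf_dvd_of_pow_eq_one (hQexp y hyQ)
      rcases (Nat.Prime.eq_one_or_self_of_dvd hq _ hdvd) with h | h
      · exact absurd (orderOf_eq_one_iff.mp h) hy1
      · exact h
    have hle : Subgroup.zpowers y ≤ Q := by
      rw [Subgroup.zpowers_le]; exact hyQ
    rcases honly (Subgroup.zpowers y) hle hcard (by rw [centralizer_zpowers]; exact hne) with h | h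
    · exact hy₁ (h ▸ Subgroup.mem_zpowers y)
    · exact hy₂ (h ▸ Subgroup.mem_zpowers y)
  have hJ : ∀ j : ℕ, b ^ j ≠ 1 → (P : Subgroup S) ⊓ Subgroup.centralizer ({a * b ^ j} : Set S) = ⊥ := by
    intro j hj
    have hbj₂ : b ^ j ∈ X₂ := X₂.pow_mem hbX j
    apply honly' _ (Q.mul_mem haQ (Q.pow_mem hbQ j))
    · intro h
      -- a = (b^j)⁻¹ ∈ X₂
      have : a = (b ^ j)⁻¹ := eq_inv_of_mul_eq_one_left h
      exact ha1 (hdisj a haX (this ▸ X₂.inv_mem hbj₂))
    · intro h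
      have : b ^ j ∈ X₁ := by
        have h2 : b ^ j = a⁻¹ * (a * b ^ j) := by group
        rw [h2]; exact X₁.mul_mem (X₁.inv_mem haX) h
      exact hj (hdisj _ this hbj₂)
    · intro h
      have : a ∈ X₂ := by
        have h2 : a = (a * b ^ j) * (b ^ j)⁻¹ := by group
        rw [h2]; exact X₂.mul_mem h (X₂.inv_mem hbj₂)
      exact ha1 (hdisj a haX this)
  have hJ' : ∀ j : ℕ, (P : Subgroup S) ⊓ Subgroup.centralizer ({a * b ^ j} : Set S) ≤ P₁ := by
    intro j
    by_cases hj : b ^ j = 1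
    · rw [hj, mul_one]
    · rw [hJ j hj]; exact bot_le
  -- (a) trivial intersection
  have hinf : P₁ ⊓ P₂ = ⊥ := by
    rw [eq_bot_iff, ← hJ 1 (by rwa [pow_one])]
    intro x hx
    have hx1 := (Subgroup.mem_inf.mp hx).1
    have hx2 := (Subgroup.mem_inf.mp hx).2
    refine Subgroup.mem_inf.mpr ⟨(Subgroup.mem_inf.mp hx1).1, ?_⟩
    have e1 := (mem_centralizer_singleton' a x).mp (Subgroup.mem_inf.mp hx1).2
    have e2 := (mem_centralizer_singleton' b x).mp (Subgroup.mem_inf.mp hx2).2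
    rw [mem_centralizer_singleton', pow_one, mul_assoc, e2, ← mul_assoc, e1, mul_assoc]
  -- generation for `Q`-invariant subgroups of `P`
  have hgen : ∀ R : Subgroup S, R ≤ (P : Subgroup S) → Q ≤ Subgroup.normalizer (R : Set S) →
      R ≤ (R ⊓ P₁) ⊔ (R ⊓ P₂) := by
    intro R hRP hRQ
    apply generation hpq R (hPp.to_le hRP) a b hab haq hbq (hRQ haQ) (hRQ hbQ)
    · intro j x hx
      apply Subgroup.mem_sup_left
      refine Subgroup.mem_inf.mpr ⟨(Subgroup.mem_inf.mp hx).1, hJ' j ?_⟩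
      exact Subgroup.mem_inf.mpr ⟨hRP (Subgroup.mem_inf.mp hx).1, (Subgroup.mem_inf.mp hx).2⟩
    · intro x hx
      apply Subgroup.mem_sup_right
      refine Subgroup.mem_inf.mpr ⟨(Subgroup.mem_inf.mp hx).1, ?_⟩
      exact Subgroup.mem_inf.mpr ⟨hRP (Subgroup.mem_inf.mp hx).1, (Subgroup.mem_inf.mp hx).2⟩
  -- `Q`-invariance
  have hQP : Q ≤ Subgroup.normalizer (((P : Subgroup S) : Subgroup S) : Set S) := by
    rw [Subgroup.normalizer_eq_top]; exact le_top
  have hQCa : Q ≤ Subgroup.normalizer ((Subgroup.centralizer ({a} : Set S) : Subgroup S) : Set S) := by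
    refine le_trans ?_ Subgroup.le_normalizer
    intro y hy
    rw [mem_centralizer_singleton']
    exact hcomm a haQ y hy
  have hQCb : Q ≤ Subgroup.normalizer ((Subgroup.centralizer ({b} : Set S) : Subgroup S) : Set S) := by
    refine le_trans ?_ Subgroup.le_normalizer
    intro y hy
    rw [mem_centralizer_singleton']
    exact hcomm b hbQ y hy
  have hQP₁ : Q ≤ Subgroup.normalizer (P₁ : Set S) := le_normalizer_inf hQP hQCa
  have hQP₂ : Q ≤ Subgroup.normalizer (P₂ : Set S) := le_normalizer_inf hQP hQCb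
  -- (b) generation of `P`
  have hsup : P₁ ⊔ P₂ = (P : Subgroup S) := by
    apply le_antisymm
    · exact sup_le inf_le_left inf_le_left
    · exact (hgen _ le_rfl hQP).trans (sup_le_sup inf_le_right inf_le_right)
  refine ⟨?_, hinf, hsup⟩
  -- (c) commutation
  set R₂ : Subgroup S := P₂ ⊓ Subgroup.normalizer (P₁ : Set S) with hR₂
  have hQR₂ : Q ≤ Subgroup.normalizer (R₂ : Set S) :=
    le_normalizer_inf hQP₂ (hQP₁.trans Subgroup.le_normalizer)
  have hP₁a : P₁ ≤ Subgroup.centralizer ((Subgroup.zpowers a : Subgroup S) : Set S) := by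
    rw [centralizer_zpowers]; exact inf_le_right
  have hP₂b : P₂ ≤ Subgroup.centralizer ((Subgroup.zpowers b : Subgroup S) : Set S) := by
    rw [centralizer_zpowers]; exact inf_le_right
  -- Step 1
  have hstep1 : R₂ ≤ Subgroup.centralizer (P₁ : Set S) := by
    have e1 : ⁅P₁, Subgroup.zpowers a⁆ = ⊥ := Subgroup.commutator_eq_bot_iff_le_centralizer.mpr hP₁a
    have e2 : ⁅⁅P₁, Subgroup.zpowers a⁆, R₂⁆ = ⊥ := by rw [e1, Subgroup.commutator_bot_left]
    have e3 : ⁅R₂, P₁⁆ ≤ P₁ :=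
      Subgroup.le_normalizer_iff_commutator_le_right.mp (inf_le_right : R₂ ≤ Subgroup.normalizer (P₁ : Set S))
    have e4 : ⁅⁅R₂, P₁⁆, Subgroup.zpowers a⁆ = ⊥ := by
      rw [eq_bot_iff, ← e1]
      exact Subgroup.commutator_mono e3 le_rfl
    have e5 : ⁅⁅Subgroup.zpowers a, R₂⁆, P₁⁆ = ⊥ := Subgroup.commutator_commutator_eq_bot_of_rotate e4 e2
    have e6 : R₂ ≤ ⁅R₂, Subgroup.zpowers a⁆ := by
      apply le_commutator_of_fpf R₂ a (hQR₂ haQ)
      intro r hr har
      have hr1 : r ∈ P₁ ⊓ P₂ := by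
        refine Subgroup.mem_inf.mpr ⟨?_, (Subgroup.mem_inf.mp hr).1⟩
        refine Subgroup.mem_inf.mpr ⟨(Subgroup.mem_inf.mp (Subgroup.mem_inf.mp hr).1).1, ?_⟩
        rw [mem_centralizer_singleton']; exact har
      rw [hinf, Subgroup.mem_bot] at hr1
      exact hr1
    rw [← Subgroup.commutator_eq_bot_iff_le_centralizer, eq_bot_iff, ← e5]
    rw [Subgroup.commutator_comm (Subgroup.zpowers a) R₂]
    exact Subgroup.commutator_mono e6 le_rfl
  -- Step 2
  set N₁ : Subgroup S := P₁ ⊔ R₂ with hN₁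
  have hR₂N : R₂ ≤ Subgroup.normalizer (P₁ : Set S) := inf_le_right
  have hQN₁ : Q ≤ Subgroup.normalizer (N₁ : Set S) := le_normalizer_sup hQP₁ hQR₂
  set M : Subgroup S := (P : Subgroup S) ⊓ Subgroup.normalizer (N₁ : Set S) with hM
  have hQM : Q ≤ Subgroup.normalizer (M : Set S) := le_normalizer_inf hQP (hQN₁.trans Subgroup.le_normalizer)
  have hP₁b : P₁ ≤ ⁅P₁, Subgroup.zpowers b⁆ := by
    apply le_commutator_of_fpf P₁ b (hQP₁ hbQ)
    intro r hr hbr
    have hr1 : r ∈ P₁ ⊓ P₂ := by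
      refine Subgroup.mem_inf.mpr ⟨hr, ?_⟩
      refine Subgroup.mem_inf.mpr ⟨(Subgroup.mem_inf.mp hr).1, ?_⟩
      rw [mem_centralizer_singleton']; exact hbr
    rw [hinf, Subgroup.mem_bot] at hr1
    exact hr1
  have hN₁b : ⁅N₁, Subgroup.zpowers b⁆ ≤ P₁ := by
    rw [Subgroup.commutator_le]
    intro n hn x hx
    have hn' : n ∈ ((P₁ ⊔ R₂ : Subgroup S) : Set S) := hn
    rw [Subgroup.coe_mul_of_right_le_normalizer_left P₁ R₂ hR₂N] at hn'
    obtain ⟨r₁, hr₁, r₂, hr₂, rfl⟩ := Set.mem_mul.mp hn'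
    have hxr₂ : x * r₂ = r₂ * x := by
      have hr₂' : r₂ ∈ Subgroup.centralizer ((Subgroup.zpowers b : Subgroup S) : Set S) :=
        hP₂b ((inf_le_left : R₂ ≤ P₂) hr₂)
      exact Subgroup.mem_centralizer_iff.mp hr₂' x hx
    have hxQ : x ∈ Q := by
      have : Subgroup.zpowers b ≤ Q := by rw [Subgroup.zpowers_le]; exact hbQ
      exact this hx
    have h1 : ⁅r₁ * r₂, x⁆ = r₁ * (x * r₁⁻¹ * x⁻¹) := by
      rw [commutatorElement_def]
      calc r₁ * r₂ * x * (r₁ * r₂)⁻¹ * x⁻¹ = r₁ * (r₂ * x) * r₂⁻¹ * r₁⁻¹ * x⁻¹ := by group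
        _ = r₁ * (x * r₂) * r₂⁻¹ * r₁⁻¹ * x⁻¹ := by rw [hxr₂]
        _ = r₁ * (x * r₁⁻¹ * x⁻¹) := by group
    rw [h1]
    exact P₁.mul_mem hr₁ ((Subgroup.mem_normalizer_iff.mp (hQP₁ hxQ) _).mp (P₁.inv_mem hr₁))
  have hstep2 : M ≤ N₁ := by
    refine (hgen M inf_le_left hQM).trans (sup_le ?_ ?_)
    · exact inf_le_right.trans le_sup_left
    · refine le_trans ?_ (le_sup_right : R₂ ≤ N₁)
      intro m hm
      have hmM := (Subgroup.mem_inf.mp hm).1
      have hmP₂ := (Subgroup.mem_inf.mp hm).2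
      refine Subgroup.mem_inf.mpr ⟨hmP₂, ?_⟩
      have hmN : m ∈ Subgroup.normalizer (N₁ : Set S) := (Subgroup.mem_inf.mp hmM).2
      have hmb : m * b = b * m := by
        have := (mem_centralizer_singleton' b m).mp (Subgroup.mem_inf.mp hmP₂).2
        exact this.symm
      apply Subgroup.mem_normalizer_fintype
      intro r hr
      have hr' : r ∈ ⁅P₁, Subgroup.zpowers b⁆ := hP₁b hr
      have hmap : (⁅P₁, Subgroup.zpowers b⁆).map (MulAut.conj m).toMonoidHom ≤ P₁ := by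
        rw [Subgroup.map_commutator]
        refine le_trans (Subgroup.commutator_mono ?_ ?_) hN₁b
        · rintro _ ⟨y, hy, rfl⟩
          exact (Subgroup.mem_normalizer_iff.mp hmN y).mp ((le_sup_left : P₁ ≤ N₁) hy)
        · rw [MonoidHom.map_zpowers]
          have : (MulAut.conj m).toMonoidHom b = b := by
            show m * b * m⁻¹ = b
            rw [hmb, mul_inv_cancel_right]
          rw [this]
      exact hmap ⟨r, hr', rfl⟩
  -- Step 3
  have hN₁P : N₁ ≤ (P : Subgroup S) := sup_le inf_le_left ((inf_le_left : R₂ ≤ P₂).trans inf_le_left)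
  have hstep3 : N₁ = (P : Subgroup S) := by
    by_contra hne
    have hlt : N₁ < (P : Subgroup S) := lt_of_le_of_ne hN₁P hne
    obtain ⟨s, hsP, hsN, hsn⟩ := Cfsg.Agent.Lib.Helper29.exists_mem_normalizer_not_mem P N₁ hlt
    exact hsn (hstep2 (Subgroup.mem_inf.mpr ⟨hsP, hsN⟩))
  -- Step 4
  have hstep4 : P₂ ≤ Subgroup.centralizer (P₁ : Set S) := by
    intro x hx
    have hxN : x ∈ ((P₁ ⊔ R₂ : Subgroup S) : Set S) := by
      show x ∈ N₁
      rw [hstep3]; exact (inf_le_left : P₂ ≤ (P : Subgroup S)) hx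
    rw [Subgroup.coe_mul_of_right_le_normalizer_left P₁ R₂ hR₂N] at hxN
    obtain ⟨r₁, hr₁, r₂, hr₂, rfl⟩ := Set.mem_mul.mp hxN
    have hr₁' : r₁ ∈ P₁ ⊓ P₂ := by
      refine Subgroup.mem_inf.mpr ⟨hr₁, ?_⟩
      have h2 : r₁ = (r₁ * r₂) * r₂⁻¹ := by group
      rw [h2]
      exact P₂.mul_mem hx (P₂.inv_mem ((inf_le_left : R₂ ≤ P₂) hr₂))
    rw [hinf, Subgroup.mem_bot] at hr₁'
    rw [hr₁', one_mul]
    exact hstep1 hr₂
  rw [Subgroup.commutator_eq_bot_iff_le_centralizer]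
  exact Subgroup.le_centralizer_iff.mp hstep4

end Cfsg.Agent.S1900
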