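import Cfsg.Statements.S1901
import Cfsg.Agent.Lib.Helper24.PSolvable
-- import your own Cfsg.Agent.* helpers here

set_option autoImplicit false
open Cfsg

namespace Cfsg.Agent.S1901

universe u

/-- if `c` commutes with `r` and `r x r⁻¹ = c x` then `r^k x r^-k = c^k x` -/
theorem pow_conj_eq {G : Type*} [Group G] (r x c : G) (hc : r * c = c * r) (h : r * x * r⁻¹ = c * x)
    (k : ℕ) : r ^ k * x * (r ^ k)⁻¹ = c ^ k * x := by
  induction k with
  | zero => simp
  | succ k ih =>
    have h1 : r ^ (k + 1) * x * (r ^ (k + 1))⁻¹ = r * (r ^ k * x * (r ^ k)⁻¹) * r⁻¹ := by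
      rw [pow_succ']; group
    have h2 : r * c ^ k = c ^ k * r := (Commute.pow_right (show Commute r c from hc) k)
    rw [h1, ih]
    calc r * (c ^ k * x) * r⁻¹ = (r * c ^ k) * x * r⁻¹ := by group
      _ = c ^ k * (r * x * r⁻¹) := by rw [h2]; group
      _ = c ^ (k + 1) * x := by rw [h, pow_succ]; group

/-- In a finite `p`-solvable group, a `p`-subgroup `R` normalizing a `p'`-subgroup `Q` that normalizes a Sylow
`p`-subgroup centralizes `Q`. -/
theorem key (p : ℕ) [hp : Fact p.Prime] : ∀ (n : ℕ) (G : Type u) [Group G] [Finite G], Nat.card G = n →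
    Cfsg.IsPSolvable p G → ∀ (P : Sylow p G) (Q R : Subgroup G), (Nat.card Q).Coprime p → IsPGroup p R →
    Q ≤ Subgroup.normalizer ((P : Subgroup G) : Set G) → R ≤ Subgroup.normalizer (Q : Set G) →
    R ≤ Subgroup.centralizer (Q : Set G) := by
  intro n
  induction n using Nat.strong_induction_on with
  | _ n ih =>
  intro G _ _ hn hsolv P Q R hQ hR hQP hRQ
  rcases subsingleton_or_nontrivial G with hs | hnt
  · intro r _
    rw [Subgroup.mem_centralizer_iff]
    intro x _
    exact Subsingleton.elim _ _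
  obtain ⟨N, hNn, hN1, hN2⟩ := Cfsg.Agent.Lib.Helper24.exists_normal_of_isPSolvable p hsolv
  haveI := hNn
  let π : G →* G ⧸ N := QuotientGroup.mk' N
  have hπ : Function.Surjective π := QuotientGroup.mk'_surjective N
  have hcard : Nat.card (G ⧸ N) < n := by
    have h1 := Subgroup.card_eq_card_quotient_mul_card_subgroup N
    have h2 : 1 < Nat.card N := by
      rw [Subgroup.one_lt_card_iff_ne_bot]; exact hN1
    have h3 : 0 < Nat.card (G ⧸ N) := Nat.card_pos
    rw [← hn, h1]
    nlinarith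
  have hsolv' := Cfsg.Agent.Lib.Helper24.isPSolvable_of_surjective p π hπ hsolv
  have hQ' : (Nat.card (Q.map π)).Coprime p :=
    Nat.Coprime.coprime_dvd_left (Subgroup.card_map_dvd Q π) hQ
  have hR' : IsPGroup p (R.map π) := hR.map π
  have hQP' : Q.map π ≤ Subgroup.normalizer
      (((P.mapSurjective hπ : Sylow p (G ⧸ N)) : Subgroup (G ⧸ N)) : Set (G ⧸ N)) := by
    rw [Sylow.coe_mapSurjective]
    exact (Subgroup.map_mono hQP).trans (Subgroup.le_normalizer_map π)
  have hRQ' : R.map π ≤ Subgroup.normalizer ((Q.map π : Subgroup (G ⧸ N)) : Set (G ⧸ N)) :=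
    (Subgroup.map_mono hRQ).trans (Subgroup.le_normalizer_map π)
  have hIH := ih _ hcard (G ⧸ N) rfl hsolv' (P.mapSurjective hπ) (Q.map π) (R.map π) hQ' hR' hQP' hRQ'
  -- commutators lie in `N ⊓ Q`
  have hcomm : ∀ r ∈ R, ∀ x ∈ Q, r * x * r⁻¹ * x⁻¹ ∈ N ⊓ Q := by
    intro r hr x hx
    refine Subgroup.mem_inf.mpr ⟨?_, ?_⟩
    · have h1 : π r ∈ Subgroup.centralizer ((Q.map π : Subgroup (G ⧸ N)) : Set (G ⧸ N)) :=
        hIH (Subgroup.mem_map_of_mem π hr)
      have h2 : π x * π r = π r * π x :=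
        Subgroup.mem_centralizer_iff.mp h1 (π x) (Subgroup.mem_map_of_mem π hx)
      have h3 : π (r * x * r⁻¹ * x⁻¹) = 1 := by
        rw [map_mul, map_mul, map_mul, map_inv, map_inv, ← h2]
        group
      exact (QuotientGroup.eq_one_iff _).mp h3
    · have := (Subgroup.mem_normalizer_iff.mp (hRQ hr) x).mp hx
      exact Q.mul_mem this (Q.inv_mem hx)
  suffices hsuff : ∀ r ∈ R, ∀ x ∈ Q, r * x * r⁻¹ * x⁻¹ = 1 by
    intro r hr
    rw [Subgroup.mem_centralizer_iff]
    intro x hx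
    have h1 := hsuff r hr x hx
    have h2 : r * x = (r * x * r⁻¹ * x⁻¹) * (x * r) := by group
    rw [h2, h1, one_mul]
  -- an element of `Q` of `p`-power order is trivial
  have hQtriv : ∀ c ∈ Q, ∀ k : ℕ, c ^ (p ^ k) = 1 → c = 1 := by
    intro c hc k hk
    have h1 : orderOf c ∣ p ^ k := orderOf_dvd_of_pow_eq_one hk
    have h2 : orderOf c ∣ Nat.card Q := by
      have := orderOf_dvd_natCard (⟨c, hc⟩ : Q)
      rwa [Subgroup.orderOf_mk] at this
    have h3 : (orderOf c).Coprime (p ^ k) :=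
      Nat.Coprime.pow_right k (Nat.Coprime.coprime_dvd_left h2 hQ)
    have h4 : orderOf c = 1 := Nat.Coprime.eq_one_of_dvd h3 h1
    exact orderOf_eq_one_iff.mp h4
  rcases hN2 with hNp | hNc
  · -- `N` is a `p`-group
    intro r hr x hx
    have hc := hcomm r hr x hx
    obtain ⟨k, hk⟩ := hNp ⟨_, (Subgroup.mem_inf.mp hc).1⟩
    apply hQtriv _ (Subgroup.mem_inf.mp hc).2 k
    have := congrArg Subtype.val hk
    simpa using this
  · -- `N` is a `p'`-group
    -- `P` centralizes `N ⊓ Q`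
    have hPN : ∀ u ∈ (P : Subgroup G), u ∈ N → u = 1 := by
      intro u hu huN
      obtain ⟨k, hk⟩ := (IsPGroup.iff_orderOf.mp P.isPGroup') ⟨u, hu⟩
      rw [Subgroup.orderOf_mk] at hk
      have h2 : orderOf u ∣ Nat.card N := by
        have := orderOf_dvd_natCard (⟨u, huN⟩ : N)
        rwa [Subgroup.orderOf_mk] at this
      have h3 : (orderOf u).Coprime (p ^ k) :=
        Nat.Coprime.pow_right k (Nat.Coprime.coprime_dvd_left h2 hNc)
      rw [← hk] at h3
      exact orderOf_eq_one_iff.mp ((Nat.coprime_self _).mp h3)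
    have hPQ₁ : (P : Subgroup G) ≤ Subgroup.centralizer ((N ⊓ Q : Subgroup G) : Set G) := by
      intro u hu
      rw [Subgroup.mem_centralizer_iff]
      intro y hy
      have hyN := (Subgroup.mem_inf.mp hy).1
      have hyQ := (Subgroup.mem_inf.mp hy).2
      have h1 : y * u * y⁻¹ ∈ (P : Subgroup G) :=
        (Subgroup.mem_normalizer_iff.mp (hQP hyQ) u).mp hu
      have h2 : y * u * y⁻¹ * u⁻¹ ∈ (P : Subgroup G) := (P : Subgroup G).mul_mem h1 ((P : Subgroup G).inv_mem hu)
      have h3 : y * u * y⁻¹ * u⁻¹ ∈ N := by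
        have h4 : u * y⁻¹ * u⁻¹ ∈ N := hNn.conj_mem y⁻¹ (N.inv_mem hyN) u
        have h5 : y * u * y⁻¹ * u⁻¹ = y * (u * y⁻¹ * u⁻¹) := by group
        rw [h5]
        exact N.mul_mem hyN h4
      have h6 := hPN _ h2 h3
      have h7 : y * u = (y * u * y⁻¹ * u⁻¹) * (u * y) := by group
      rw [h7, h6, one_mul]
    have hRQ₁n : R ≤ Subgroup.normalizer ((N ⊓ Q : Subgroup G) : Set G) := by
      intro r hr
      have hrQ := hRQ hr
      have hrN : r ∈ Subgroup.normalizer ((N : Subgroup G) : Set G) := by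
        rw [Subgroup.normalizer_eq_top]; exact Subgroup.mem_top r
      rw [Subgroup.mem_normalizer_iff] at hrQ hrN ⊢
      intro y
      rw [Subgroup.mem_inf, Subgroup.mem_inf, hrQ y, hrN y]
    have hRQ₁ : R ≤ Subgroup.centralizer ((N ⊓ Q : Subgroup G) : Set G) := by
      set M := Subgroup.normalizer ((N ⊓ Q : Subgroup G) : Set G) with hM
      have hPM : (P : Subgroup G) ≤ M :=
        hPQ₁.trans (Subgroup.centralizer_le_normalizer _)
      have hR'' : IsPGroup p (R.subgroupOf M) := hR.comap_subtype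
      obtain ⟨S, hS⟩ := hR''.exists_le_sylow
      obtain ⟨m, hm⟩ := MulAction.exists_smul_eq M (P.subtype hPM) S
      intro r hr
      have hrS : (⟨r, hRQ₁n hr⟩ : M) ∈ (S : Subgroup M) := hS (by
        rw [Subgroup.mem_subgroupOf]; exact hr)
      rw [← hm, Sylow.coe_subgroup_smul, Subgroup.mem_pointwise_smul_iff_inv_smul_mem,
        Sylow.coe_subtype, Subgroup.mem_subgroupOf] at hrS
      have hu : (m : G)⁻¹ * r * (m : G) ∈ (P : Subgroup G) := by
        simpa [MulAut.smul_def] using hrS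
      rw [Subgroup.mem_centralizer_iff]
      intro y hy
      have hy' : (m : G)⁻¹ * y * ((m : G)⁻¹)⁻¹ ∈ (N ⊓ Q : Subgroup G) :=
        (Subgroup.mem_normalizer_iff.mp (M.inv_mem m.2) y).mp hy
      have h1 := Subgroup.mem_centralizer_iff.mp (hPQ₁ hu) _ hy'
      -- h1 : (m⁻¹ y m⁻¹⁻¹) * (m⁻¹ r m) = (m⁻¹ r m) * (m⁻¹ y m⁻¹⁻¹)
      have h2 : y * r = (m : G) * (((m : G)⁻¹ * y * ((m : G)⁻¹)⁻¹) * ((m : G)⁻¹ * r * (m : G))) * (m : G)⁻¹ := by
        group
      have h3 : r * y = (m : G) * (((m : G)⁻¹ * r * (m : G)) * ((m : G)⁻¹ * y * ((m : G)⁻¹)⁻¹)) * (m : G)⁻¹ := by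
        group
      rw [h2, h3, h1]
    intro r hr x hx
    have hc := hcomm r hr x hx
    have hrc : r * (r * x * r⁻¹ * x⁻¹) = (r * x * r⁻¹ * x⁻¹) * r :=
      (Subgroup.mem_centralizer_iff.mp (hRQ₁ hr) _ hc).symm
    have hconj : r * x * r⁻¹ = (r * x * r⁻¹ * x⁻¹) * x := by group
    obtain ⟨k, hk⟩ := (IsPGroup.iff_orderOf.mp hR) ⟨r, hr⟩
    rw [Subgroup.orderOf_mk] at hk
    have h1 := pow_conj_eq r x _ hrc hconj (p ^ k)
    rw [← hk, pow_orderOf_eq_one, one_mul, inv_one, mul_one] at h1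
    apply hQtriv _ (Subgroup.mem_inf.mp hc).2 k
    rw [← hk]
    exact (mul_eq_right (a := _) (b := x)).mp h1.symm

/-- Let G be a finite p-solvable group and Q a subgroup of order prime to p such that p divides the index of C_G(Q) in N_G(Q). Then Q normalizes no Sylow p-subgroup of G. -/
theorem result {G : Type*} [Group G] [Finite G] {p : ℕ} [Fact p.Prime]
    (hG : Cfsg.IsPSolvable p G) (Q : Subgroup G) (hQ : ¬ p ∣ Nat.card Q)
    (hA : p ∣ (Subgroup.centralizer (Q : Set G)).relIndex (Subgroup.normalizer (Q : Set G)))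
    (P : Sylow p G) : ¬ Q ≤ Subgroup.normalizer ((P : Subgroup G) : Set G) := by
  intro hQP
  have hp : p.Prime := Fact.out
  have hQc : (Nat.card Q).Coprime p := ((Nat.Prime.coprime_iff_not_dvd hp).mpr hQ).symm
  obtain ⟨S⟩ : Nonempty (Sylow p ↥(Subgroup.normalizer (Q : Set G))) := inferInstance
  set M := Subgroup.normalizer (Q : Set G) with hM
  set R : Subgroup G := (S : Subgroup M).map M.subtype with hR
  have hRM : R ≤ M := by
    rintro _ ⟨y, _, rfl⟩
    exact y.2
  have hRp : IsPGroup p R := S.2.map _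
  have hRC : R ≤ Subgroup.centralizer (Q : Set G) :=
    key p _ G rfl hG P Q R hQc hRp hQP hRM
  have hCM : Subgroup.centralizer (Q : Set G) ≤ M := Subgroup.centralizer_le_normalizer _
  have h1 := Subgroup.relIndex_mul_relIndex R (Subgroup.centralizer (Q : Set G)) M hRC hCM
  have h2 : R.relIndex M = (S : Subgroup M).index := by
    show (((S : Subgroup M).map M.subtype).comap M.subtype).index = (S : Subgroup M).index
    rw [Subgroup.comap_map_eq_self_of_injective M.subtype_injective]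
  have h3 : ¬ p ∣ R.relIndex M := by
    rw [h2]; exact S.not_dvd_index
  apply h3
  rw [← h1]
  exact Dvd.dvd.mul_left hA _

end Cfsg.Agent.S1901
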