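import Cfsg.Statements.S1902
import Cfsg.Agent.Lib.Helper8.InvPPrime
import Cfsg.Agent.Lib.Helper9.PConstrainedSolv
import Cfsg.Agent.Lib.Helper25.PSolvableSub
import Cfsg.Agent.Lib.Helper8.SignalizerFamily

set_option autoImplicit false
open Cfsg

namespace Cfsg.Agent.S1902

/-- Let p be an odd prime, G a finite p-solvable group, and B an elementary abelian subgroup of order p² such that B is the subgroup generated by the elements of order p of some Sylow p-subgroup of C_G(b₀), for some nontrivial b₀ ∈ B. Then every B-invariant subgroup of G of order prime to p lies in O_{p'}(G). -/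
theorem result {G : Type*} [Group G] [Finite G] {p : ℕ} [Fact p.Prime] (hp : p ≠ 2)
    (hG : Cfsg.IsPSolvable p G) (B : Subgroup G) (hB : Cfsg.IsElementaryAbelian p B) (hBc : Nat.card B = p ^ 2)
    (b₀ : G) (hb₀ : b₀ ∈ B) (hb₁ : b₀ ≠ 1) (P : Sylow p ↥(Subgroup.centralizer ({b₀} : Set G)))
    (hBP : B = Subgroup.closure {x : G | x ∈ ((P : Subgroup ↥(Subgroup.centralizer ({b₀} : Set G))).map
      (Subgroup.centralizer ({b₀} : Set G)).subtype : Subgroup G) ∧ orderOf x = p})
    (Q : Subgroup G) (hQ : ¬ p ∣ Nat.card Q) (hinv : ∀ b ∈ B, ∀ x ∈ Q, b * x * b⁻¹ ∈ Q) :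
    Q ≤ Cfsg.pPrimeCore p G := by
  classical
  have hpp : p.Prime := Fact.out
  -- p-constraint
  have hXc : Cfsg.IsPConstrained p G := by
    obtain ⟨P'⟩ : Nonempty (Sylow p ↥(Cfsg.pPrimePCore p G)) := inferInstance
    apply Cfsg.Agent.Lib.Helper9.isPConstrained_of_isPSolvable_centralizer p P'
    exact Cfsg.Agent.Lib.Helper25.isPSolvable_subgroup p hG _
  have hBp : IsPGroup p ↥B := by
    rintro ⟨g, hg⟩
    exact ⟨1, Subtype.ext (by simpa using hB.2 g hg)⟩
  have hBcomm : ∀ a ∈ B, ∀ b ∈ B, a * b = b * a := fun a ha b hb =>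
    congrArg Subtype.val (hB.1.is_comm.comm (⟨a, ha⟩ : ↥B) ⟨b, hb⟩)
  have hBC : B ≤ Subgroup.centralizer ({b₀} : Set G) := fun b hb => by
    rw [Subgroup.mem_centralizer_singleton_iff]; exact hBcomm b hb b₀ hb₀
  -- elements of order p of the Sylow subgroup lie in B
  have hPB : ∀ x : G, x ∈ ((P : Subgroup ↥(Subgroup.centralizer ({b₀} : Set G))).map
      (Subgroup.centralizer ({b₀} : Set G)).subtype : Subgroup G) → orderOf x = p → x ∈ B := by
    intro x hx hox
    rw [hBP]
    exact Subgroup.subset_closure ⟨hx, hox⟩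
  have hΩ : ∀ x ∈ Subgroup.centralizer (B : Set G), orderOf x = p → x ∈ B := by
    intro x hx hox
    have hxC : x ∈ Subgroup.centralizer ({b₀} : Set G) := by
      rw [Subgroup.mem_centralizer_singleton_iff]
      exact ((Subgroup.mem_centralizer_iff.mp hx) b₀ hb₀).symm
    have hxp : IsPGroup p ↥(Subgroup.zpowers x) := by
      apply IsPGroup.of_card (n := 1)
      rw [Nat.card_zpowers, hox, pow_one]
    have hxN : Subgroup.zpowers x ≤ Subgroup.normalizer (B : Set G) := by
      rw [Subgroup.zpowers_le]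
      exact Subgroup.centralizer_le_normalizer _ hx
    have hT : IsPGroup p ↥(Subgroup.zpowers x ⊔ B) := hxp.to_sup_of_normal_right' hBp hxN
    have hTC : Subgroup.zpowers x ⊔ B ≤ Subgroup.centralizer ({b₀} : Set G) :=
      sup_le ((Subgroup.zpowers_le).mpr hxC) hBC
    have hT' : IsPGroup p ↥((Subgroup.zpowers x ⊔ B).subgroupOf
        (Subgroup.centralizer ({b₀} : Set G))) := hT.comap_subtype
    obtain ⟨Q', hQ'⟩ := hT'.exists_le_sylow
    obtain ⟨g, hg⟩ := MulAction.exists_smul_eq ↥(Subgroup.centralizer ({b₀} : Set G)) Q' P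
    -- conjugation by g maps T into P
    have hconj : ∀ t ∈ Subgroup.zpowers x ⊔ B, (g : G) * t * (g : G)⁻¹ ∈
        ((P : Subgroup ↥(Subgroup.centralizer ({b₀} : Set G))).map
          (Subgroup.centralizer ({b₀} : Set G)).subtype : Subgroup G) := by
      intro t ht
      have h1 : (⟨t, hTC ht⟩ : ↥(Subgroup.centralizer ({b₀} : Set G))) ∈
          (Q' : Subgroup ↥(Subgroup.centralizer ({b₀} : Set G))) :=
        hQ' (Subgroup.mem_subgroupOf.mpr ht)
      have h2 : g * ⟨t, hTC ht⟩ * g⁻¹ ∈ ((g • Q' : Sylow p ↥(Subgroup.centralizer ({b₀} : Set G))) :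
          Subgroup ↥(Subgroup.centralizer ({b₀} : Set G))) := by
        rw [Sylow.coe_subgroup_smul]
        have := Subgroup.smul_mem_pointwise_smul
          (⟨t, hTC ht⟩ : ↥(Subgroup.centralizer ({b₀} : Set G))) (MulAut.conj g)
          (Q' : Subgroup ↥(Subgroup.centralizer ({b₀} : Set G))) h1
        simpa [MulAut.smul_def] using this
      rw [hg] at h2
      exact ⟨_, h2, rfl⟩
    have hord : ∀ t : G, orderOf ((g : G) * t * (g : G)⁻¹) = orderOf t := fun t =>
      (SemiconjBy.orderOf_eq (g : G) (x := t) (y := (g : G) * t * (g : G)⁻¹)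
        (by simp [SemiconjBy])).symm
    -- g B g⁻¹ ≤ B
    have hgB : ∀ b ∈ B, (g : G) * b * (g : G)⁻¹ ∈ B := by
      intro b hb
      by_cases hb1 : b = 1
      · rw [hb1, mul_one, mul_inv_cancel]; exact one_mem _
      · apply hPB _ (hconj b (Subgroup.mem_sup_right hb))
        rw [hord]
        exact orderOf_eq_prime (hB.2 b hb) hb1
    have hgBN : (g : G) ∈ Subgroup.normalizer (B : Set G) :=
      Cfsg.Agent.Lib.Helper1.mem_normalizer_of_forall_conj_mem B (g : G) hgB
    have hgx : (g : G) * x * (g : G)⁻¹ ∈ B := by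
      apply hPB _ (hconj x (Subgroup.mem_sup_left (Subgroup.mem_zpowers x)))
      rw [hord]; exact hox
    exact (Subgroup.mem_normalizer_iff.mp hgBN x).mpr hgx
  have hAQ : B ≤ Subgroup.normalizer (Q : Set G) :=
    Cfsg.Agent.Lib.Helper8.le_normalizer_of_conj_mem hinv
  exact Cfsg.Agent.Lib.Helper8.InvPPrime.le_pPrimeCore_of_invariant p hp hXc B hBp hΩ Q hQ hAQ

end Cfsg.Agent.S1902
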