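import Cfsg.Statements.S1905
import Cfsg.Agent.Lib.Helper9.StrongEmbCount
import Cfsg.Agent.Lib.Helper17.Basic
import Cfsg.Agent.Lib.Helper1.Basic
import Cfsg.Agent.Lib.Helper1.Transport

set_option autoImplicit false
open Cfsg

namespace Cfsg.Agent.S1905

/-- Let M be a subgroup of even order of a finite group S such that M contains the centralizer in S of each of its involutions and the normal core of M in S has odd order. Then all involutions of S are conjugate. If moreover N_S(X) ≤ M for a Sylow 2-subgroup X of M and I is an involution in the centre of X, then all involutions of M are conjugate in M and M = M₀ C_M(I) for some subgroup M₀ of M of odd order. -/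
theorem result {S : Type*} [Group S] [Finite S] (M : Subgroup S) (hM : Even (Nat.card M))
    (hC : ∀ i ∈ M, orderOf i = 2 → Subgroup.centralizer ({i} : Set S) ≤ M) (hcore : Odd (Nat.card M.normalCore)) :
    (∀ x y : S, orderOf x = 2 → orderOf y = 2 → IsConj x y) ∧
      ∀ (X : Sylow 2 M) (I : M), I ∈ (Subgroup.center ↥(X : Subgroup ↥M)).map (X : Subgroup ↥M).subtype → orderOf I = 2 →
        Subgroup.normalizer (((X : Subgroup M).map M.subtype : Subgroup S) : Set S) ≤ M →
        (∀ x y : M, orderOf x = 2 → orderOf y = 2 → IsConj x y) ∧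
          ∃ M₀ : Subgroup M, Odd (Nat.card M₀) ∧
            ∀ m : M, ∃ a ∈ M₀, ∃ c ∈ Subgroup.centralizer ({I} : Set M), m = a * c := by
  classical
  have hF : Fact (Nat.Prime 2) := ⟨Nat.prime_two⟩
  refine ⟨fun x y hx hy =>
    Cfsg.Agent.Lib.Helper9.isConj_invol_of_centralizer_le hM hC hcore x y hx hy, ?_⟩
  intro X I hI hI2 hN
  set z : S := (I : S) with hz_def
  have hz : orderOf z = 2 := by rw [hz_def, Subgroup.orderOf_coe]; exact hI2
  have hzM : z ∈ M := I.2
  set X' : Subgroup S := (X : Subgroup M).map M.subtype with hX'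
  -- `X'` centralizes `z`
  have hXz : ∀ y ∈ X', y * z = z * y := by
    rintro _ ⟨y, hy, rfl⟩
    obtain ⟨i, hi, hiI⟩ := hI
    have h1 := (Subgroup.mem_center_iff.mp hi) ⟨y, hy⟩
    have h2 : (y : M) * I = I * y := by
      rw [← hiI]
      exact congrArg Subtype.val h1
    exact congrArg Subtype.val h2
  have hall : ∀ x : S, orderOf x = 2 → ∃ g : S, g * z * g⁻¹ = x := by
    intro x hx
    exact isConj_iff.mp
      (Cfsg.Agent.Lib.Helper9.isConj_invol_of_centralizer_le hM hC hcore z x hz hx)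
  -- `M` is transitive on its involutions
  have htr : ∀ x ∈ M, orderOf x = 2 → ∃ g ∈ M, g * z * g⁻¹ = x := by
    intro x hxM hx2
    obtain ⟨g, hg⟩ := hall x hx2
    refine ⟨g, ?_, hg⟩
    have hXg : X'.map (MulAut.conj g).toMonoidHom ≤ M := by
      rintro _ ⟨y, hy, rfl⟩
      apply hC x hxM hx2
      rw [Subgroup.mem_centralizer_singleton_iff, ← hg]
      show g * y * g⁻¹ * (g * z * g⁻¹) = g * z * g⁻¹ * (g * y * g⁻¹)
      calc g * y * g⁻¹ * (g * z * g⁻¹) = g * (y * z) * g⁻¹ := by group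
        _ = g * (z * y) * g⁻¹ := by rw [hXz y hy]
        _ = g * z * g⁻¹ * (g * y * g⁻¹) := by group
    set Y : Subgroup M := (X'.map (MulAut.conj g).toMonoidHom).subgroupOf M with hY
    have hX'p : IsPGroup 2 X' := X.isPGroup'.map _
    have hYp : IsPGroup 2 Y := (hX'p.map _).comap_subtype
    obtain ⟨Q, hQ⟩ := hYp.exists_le_sylow
    obtain ⟨m, hm⟩ := MulAction.exists_smul_eq M X Q
    have hcardY : Nat.card Y = Nat.card (X : Subgroup M) := by
      rw [hY, Nat.card_congr (Subgroup.subgroupOfEquivOfLe hXg).toEquiv,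
        ← Nat.card_congr (Subgroup.equivMapOfInjective X' (MulAut.conj g).toMonoidHom
          (MulAut.conj g).injective).toEquiv,
        hX', ← Nat.card_congr (Subgroup.equivMapOfInjective (X : Subgroup M) M.subtype
          M.subtype_injective).toEquiv]
    have hcardQ : Nat.card (Q : Subgroup M) = Nat.card (X : Subgroup M) := by
      rw [← hm, Sylow.coe_subgroup_smul, Cfsg.Agent.Lib.Helper1.card_conj_smul]
    have hYQ : Y = (Q : Subgroup M) :=
      Subgroup.eq_of_le_of_card_ge hQ (by rw [hcardY, hcardQ])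
    have hn : g⁻¹ * (m : S) ∈ Subgroup.normalizer (X' : Set S) := by
      apply Cfsg.Agent.Lib.Helper17.mem_normalizer_of_forall_conj_mem
      rintro _ ⟨y, hy, rfl⟩
      have h1 : m * y * m⁻¹ ∈ (Q : Subgroup M) := by
        rw [← hm, Sylow.coe_subgroup_smul]
        rw [Cfsg.Agent.Lib.Helper1.mem_conj_smul_iff]
        have : m⁻¹ * (m * y * m⁻¹) * m = y := by group
        rw [this]; exact hy
      rw [← hYQ, hY, Subgroup.mem_subgroupOf, Cfsg.Agent.Lib.Helper1.mem_map_conj_iff] at h1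
      have e : g⁻¹ * (m : S) * (M.subtype y) * (g⁻¹ * (m : S))⁻¹ =
          g⁻¹ * ((m * y * m⁻¹ : M) : S) * g := by
        simp only [Subgroup.coe_mul, Subgroup.coe_inv, Subgroup.coe_subtype]
        group
      rw [e]; exact h1
    have h2 : g⁻¹ * (m : S) ∈ M := hN hn
    have h3 : g⁻¹ ∈ M := by
      have : g⁻¹ = g⁻¹ * (m : S) * (m : S)⁻¹ := by group
      rw [this]; exact M.mul_mem h2 (M.inv_mem m.2)
    simpa using M.inv_mem h3
  constructor
  · -- all involutions of `M` are conjugate in `M`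
    intro x y hx hy
    have hx' : orderOf (x : S) = 2 := by rw [Subgroup.orderOf_coe]; exact hx
    have hy' : orderOf (y : S) = 2 := by rw [Subgroup.orderOf_coe]; exact hy
    obtain ⟨g₁, hg₁M, hg₁⟩ := htr x x.2 hx'
    obtain ⟨g₂, hg₂M, hg₂⟩ := htr y y.2 hy'
    rw [isConj_iff]
    refine ⟨⟨g₂, hg₂M⟩ * ⟨g₁, hg₁M⟩⁻¹, ?_⟩
    apply Subtype.ext
    simp only [Subgroup.coe_mul, Subgroup.coe_inv]
    rw [← hg₁, ← hg₂]
    group
  · -- the factorization
    have hSE : ∀ g : S, ∀ t ∈ M, orderOf t = 2 → g * t * g⁻¹ ∈ M → g ∈ M := by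
      intro g t htM ht2 hgt
      obtain ⟨a, haM, ha⟩ := htr t htM ht2
      obtain ⟨b, hbM, hb⟩ := htr (g * t * g⁻¹) hgt (Cfsg.Agent.Lib.Helper2.orderOf_conj_two g ht2)
      have hc : b⁻¹ * g * a ∈ Subgroup.centralizer ({z} : Set S) := by
        rw [Subgroup.mem_centralizer_singleton_iff]
        have : g * (a * z * a⁻¹) * g⁻¹ = b * z * b⁻¹ := by rw [ha, hb]
        calc b⁻¹ * g * a * z = b⁻¹ * (g * (a * z * a⁻¹) * g⁻¹) * g * a := by group
          _ = b⁻¹ * (b * z * b⁻¹) * g * a := by rw [this]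
          _ = z * (b⁻¹ * g * a) := by group
      have hcM := hC z hzM hz hc
      have : g = b * (b⁻¹ * g * a) * a⁻¹ := by group
      rw [this]
      exact M.mul_mem (M.mul_mem hbM hcM) (M.inv_mem haM)
    obtain ⟨t₀, ht₀2, ht₀M, ht₀⟩ := Cfsg.Agent.Lib.Helper9.exists_invol_conj_inter hC hz hzM hall htr
      (Cfsg.Agent.Lib.Helper9.exists_invol_not_mem hM hcore)
    have ht₀i : t₀⁻¹ = t₀ := Cfsg.Agent.Lib.Helper2.invol_inv ht₀2
    refine ⟨(M ⊓ M.map (MulAut.conj t₀).toMonoidHom).subgroupOf M, ?_, ?_⟩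
    · rw [Nat.card_congr (Subgroup.subgroupOfEquivOfLe
        (inf_le_left : M ⊓ M.map (MulAut.conj t₀).toMonoidHom ≤ M)).toEquiv]
      rw [← Nat.not_even_iff_odd]
      intro he
      obtain ⟨t, htM, ht2, hgt⟩ := (Cfsg.Agent.Lib.Helper2.even_inter_iff M t₀).mp he
      exact ht₀M (hSE t₀ t htM ht2 hgt)
    · intro m
      have hx2 : orderOf ((m : S) * z * (m : S)⁻¹) = 2 :=
        Cfsg.Agent.Lib.Helper2.orderOf_conj_two _ hz
      have hxM : (m : S) * z * (m : S)⁻¹ ∈ M := M.mul_mem (M.mul_mem m.2 hzM) (M.inv_mem m.2)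
      obtain ⟨a, haM, hainv, haz⟩ := ht₀ _ hxM hx2
      refine ⟨⟨a, haM⟩, ?_, ⟨a, haM⟩⁻¹ * m, ?_, by group⟩
      · rw [Subgroup.mem_subgroupOf]
        refine Subgroup.mem_inf.mpr ⟨haM, ?_⟩
        rw [Cfsg.Agent.Lib.Helper2.mem_map_conj]
        have : t₀⁻¹ * a * t₀ = t₀ * a * t₀⁻¹ := by rw [ht₀i]
        show t₀⁻¹ * a * t₀ ∈ M
        rw [this, hainv]
        exact M.inv_mem haM
      · rw [Subgroup.mem_centralizer_singleton_iff]
        apply Subtype.ext
        simp only [Subgroup.coe_mul, Subgroup.coe_inv]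
        show a⁻¹ * (m : S) * z = z * (a⁻¹ * (m : S))
        calc a⁻¹ * (m : S) * z = a⁻¹ * ((m : S) * z * (m : S)⁻¹) * (m : S) := by group
          _ = a⁻¹ * (a * z * a⁻¹) * (m : S) := by rw [haz]
          _ = z * (a⁻¹ * (m : S)) := by group

end Cfsg.Agent.S1905
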