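import Cfsg.Statements.S1906
import Cfsg.Agent.Lib.Helper22.S1906Core
import Cfsg.Agent.Lib.Helper4.GL3Line

set_option autoImplicit false
open Cfsg

namespace Cfsg.Agent.S1906

/-- Let G be a finite group with no subgroup of index 2 whose Sylow 2-subgroup X embeds in GL₃(F) for a finite field F of odd order. If X contains an elementary abelian subgroup of order 8, then X is abelian. -/
theorem result {G : Type*} [Group G] [Finite G] (hG : ∀ H : Subgroup G, H.index ≠ 2) (X : Sylow 2 G)
    {F : Type*} [Field F] [Fintype F] (hF : Odd (Fintype.card F))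
    (f : ↥(X : Subgroup G) →* GL (Fin 3) F) (hf : Function.Injective f)
    (E : Subgroup G) (hE : E ≤ (X : Subgroup G)) (hEa : Cfsg.IsElementaryAbelian 2 E) (hE8 : Nat.card E = 8) :
    IsMulCommutative (X : Subgroup G) := by
  obtain ⟨ρ, hρ⟩ := Cfsg.Agent.Lib.Helper4.GL3Line.exists_injective_hom_GL2_of_GL3 X.2 hF f hf
  have h2 : (2 : F) ≠ 0 := by
    apply Ring.two_ne_zero
    intro h
    have := FiniteField.even_card_iff_char_two.mp h
    rcases hF with ⟨k, hk⟩
    omega
  exact Cfsg.Agent.Lib.Helper22.S1906Core.sylow_comm_of_hom hG X h2 ρ hρ E hE hEa hE8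

end Cfsg.Agent.S1906
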