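import Cfsg.Statements.S1907
import Cfsg.Agent.Lib.Helper12.PPrimeP

set_option autoImplicit false
open Cfsg

namespace Cfsg.Agent.S1907
open Cfsg.Agent.Lib.Helper12

/-- first part: splitting of elements of `O_{p'}(G)` -/
theorem part_one {G : Type*} [Group G] [Finite G] {p : ℕ} [Fact p.Prime] (P : Sylow p G)
    (y : G) (hyN : y ∈ Subgroup.normalizer (((P : Subgroup G) ⊓ Cfsg.pPrimePCore p G : Subgroup G) : Set G))
    (hyp : ∃ k : ℕ, orderOf y = p ^ k) (d : G) (hd : d ∈ Cfsg.pPrimeCore p G)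
    (hdy : d⁻¹ * y * d ∈ Subgroup.normalizer (((P : Subgroup G) ⊓ Cfsg.pPrimePCore p G : Subgroup G) : Set G)) :
    ∃ d₁ ∈ Cfsg.pPrimeCore p G ⊓ Subgroup.centralizer ({y} : Set G),
      ∃ d₂ ∈ Cfsg.pPrimeCore p G ⊓
        Subgroup.centralizer (((P : Subgroup G) ⊓ Cfsg.pPrimePCore p G : Subgroup G) : Set G),
        d = d₁ * d₂ := by
  set K := Cfsg.pPrimeCore p G with hK
  set L := Cfsg.pPrimePCore p G with hL
  set R := (P : Subgroup G) ⊓ L with hR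
  have hKcop : (Nat.card K).Coprime p := pPrimeCore_coprime p
  have hRp : IsPGroup p R := P.2.to_le inf_le_left
  have hRidx : ¬ p ∣ R.relIndex L := sylow_inf_pPrimePCore_relIndex P
  -- the two `p`-subgroups
  have hpgrp : ∀ z : G, z ∈ Subgroup.normalizer (R : Set G) → (∃ k : ℕ, orderOf z = p ^ k) →
      IsPGroup p ↥(R ⊔ Subgroup.zpowers z) := by
    intro z hzN hzp
    obtain ⟨k, hk⟩ := hzp
    have hzpg : IsPGroup p (Subgroup.zpowers z) := by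
      rw [IsPGroup.iff_card]
      exact ⟨k, by rw [Nat.card_zpowers, hk]⟩
    have hzle : Subgroup.zpowers z ≤ Subgroup.normalizer (R : Set G) :=
      (Subgroup.zpowers_le).mpr hzN
    rw [sup_comm]
    exact IsPGroup.to_sup_of_normal_right' hzpg hRp hzle
  have hy'p : ∃ k : ℕ, orderOf (d⁻¹ * y * d) = p ^ k := by
    obtain ⟨k, hk⟩ := hyp
    refine ⟨k, ?_⟩
    have h1 := MulEquiv.orderOf_eq (MulAut.conj d⁻¹) y
    rw [MulAut.conj_apply, inv_inv] at h1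
    rw [h1]
    exact hk
  set Q₁ := R ⊔ Subgroup.zpowers y with hQ₁
  set Q₂ := R ⊔ Subgroup.zpowers (d⁻¹ * y * d) with hQ₂
  have hQ₁p : IsPGroup p Q₁ := hpgrp y hyN hyp
  have hQ₂p : IsPGroup p Q₂ := hpgrp _ hdy hy'p
  have hyQ₁ : y ∈ Q₁ := (le_sup_right : Subgroup.zpowers y ≤ Q₁) (Subgroup.mem_zpowers y)
  have hRQ₁ : R ≤ Q₁ := le_sup_left
  have hRQ₂ : R ≤ Q₂ := le_sup_left
  -- `Q₂ ≤ Q₁ ⊔ K`
  have hQ₂M : Q₂ ≤ Q₁ ⊔ K := by
    apply sup_le (hRQ₁.trans le_sup_left)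
    rw [Subgroup.zpowers_le]
    have hdM : d ∈ Q₁ ⊔ K := (le_sup_right : K ≤ Q₁ ⊔ K) hd
    have hyM : y ∈ Q₁ ⊔ K := (le_sup_left : Q₁ ≤ Q₁ ⊔ K) hyQ₁
    exact mul_mem (mul_mem (inv_mem hdM) hyM) hdM
  -- index
  have hidx : ¬ p ∣ Q₁.relIndex (Q₁ ⊔ K) := by
    intro hdvd
    have h1 := card_sup_dvd_of_normal Q₁ K
    have h2 := Subgroup.relIndex_mul_relIndex ⊥ Q₁ (Q₁ ⊔ K) bot_le le_sup_left
    rw [Subgroup.relIndex_bot_left, Subgroup.relIndex_bot_left] at h2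
    rw [← h2] at h1
    have hpos : 0 < Nat.card Q₁ := Nat.card_pos
    have h3 : Q₁.relIndex (Q₁ ⊔ K) ∣ Nat.card K := Nat.dvd_of_mul_dvd_mul_left hpos h1
    have h4 : p ∣ Nat.card K := dvd_trans hdvd h3
    have hp : p.Prime := Fact.out
    exact hp.one_lt.ne' (Nat.eq_one_of_dvd_coprimes hKcop h4 dvd_rfl)
  obtain ⟨h, hhM, hh⟩ := exists_conj_mem_of_relIndex Q₁ (Q₁ ⊔ K) Q₂ hQ₁p hidx hQ₂M hQ₂p
  obtain ⟨q₁, hq₁, c, hc, rfl⟩ := Subgroup.mem_sup_of_normal_right.mp hhM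
  have hcQ : ∀ q ∈ Q₂, c * q * c⁻¹ ∈ Q₁ := by
    intro q hq
    have h1 := hh q hq
    have e : c * q * c⁻¹ = q₁⁻¹ * (q₁ * c * q * (q₁ * c)⁻¹) * q₁ := by group
    rw [e]
    exact mul_mem (mul_mem (inv_mem hq₁) h1) hq₁
  -- `Q₁ ⊓ L = R`
  have hQ₁L : Q₁ ⊓ L ≤ R :=
    le_of_isPGroup_of_relIndex (p := p) (le_inf hRQ₁ inf_le_right) inf_le_right
      (hQ₁p.to_le inf_le_left) hRidx
  -- `c` normalizes, hence centralizes, `R`
  have hcR : ∀ r ∈ R, c * r * c⁻¹ ∈ R := by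
    intro r hr
    apply hQ₁L
    refine Subgroup.mem_inf.mpr ⟨hcQ r (hRQ₂ hr), ?_⟩
    exact (pPrimePCore_normal' p).conj_mem r (inf_le_right (a := (P : Subgroup G)) hr) c
  have hKR : K ⊓ Q₁ = ⊥ := inf_eq_bot_of_coprime_of_isPGroup hKcop hQ₁p
  have hKnormal : K.Normal := pPrimeCore_normal' p
  have hcomm : ∀ q ∈ Q₁, ∀ e ∈ K, e * q * e⁻¹ ∈ Q₁ → e * q * e⁻¹ = q := by
    intro q hq e he heq
    have h1 : e * q * e⁻¹ * q⁻¹ ∈ K ⊓ Q₁ := by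
      refine Subgroup.mem_inf.mpr ⟨?_, mul_mem heq (inv_mem hq)⟩
      have e1 : e * q * e⁻¹ * q⁻¹ = e * (q * e⁻¹ * q⁻¹) := by group
      rw [e1]
      exact mul_mem he (hKnormal.conj_mem _ (inv_mem he) q)
    rw [hKR, Subgroup.mem_bot] at h1
    exact mul_inv_eq_one.mp h1
  have hcC : c ∈ Subgroup.centralizer (R : Set G) := by
    rw [Subgroup.mem_centralizer_iff]
    intro r hr
    have h1 := hcomm r (hRQ₁ hr) c hc (hRQ₁ (hcR r hr))
    calc r * c = (c * r * c⁻¹) * c := by rw [h1]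
      _ = c * r := by group
  -- `e = c * d⁻¹` centralizes `y`
  have heK : c * d⁻¹ ∈ K := mul_mem hc (inv_mem hd)
  have hey : (c * d⁻¹) * y * (c * d⁻¹)⁻¹ = y := by
    apply hcomm y hyQ₁ _ heK
    have h1 := hcQ (d⁻¹ * y * d)
      ((le_sup_right : Subgroup.zpowers (d⁻¹ * y * d) ≤ Q₂) (Subgroup.mem_zpowers _))
    have e1 : (c * d⁻¹) * y * (c * d⁻¹)⁻¹ = c * (d⁻¹ * y * d) * c⁻¹ := by group
    rw [e1]
    exact h1
  refine ⟨(c * d⁻¹)⁻¹, Subgroup.mem_inf.mpr ⟨inv_mem heK, ?_⟩, c, Subgroup.mem_inf.mpr ⟨hc, hcC⟩, by group⟩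
  apply inv_mem
  rw [Subgroup.mem_centralizer_iff]
  intro z hz
  rw [Set.mem_singleton_iff] at hz
  subst hz
  calc z * (c * d⁻¹) = ((c * d⁻¹) * z * (c * d⁻¹)⁻¹) * (c * d⁻¹) := by rw [hey]
    _ = (c * d⁻¹) * z := by group

/-- Let P be a Sylow p-subgroup of a finite group G, H = P ∩ O_{p',p}(G), N = N_G(H) and D = O_{p'}(G). (a) If y is an element of p-power order of N and d ∈ D with d⁻¹ y d ∈ N, then d = d₁ d₂ with d₁ ∈ C_D(y) and d₂ ∈ C_D(H). (b) Two elements of P that are conjugate in G are conjugate in N. -/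
theorem result {G : Type*} [Group G] [Finite G] {p : ℕ} [Fact p.Prime] (P : Sylow p G) :
    (∀ y ∈ Subgroup.normalizer (((P : Subgroup G) ⊓ Cfsg.pPrimePCore p G : Subgroup G) : Set G), (∃ k : ℕ, orderOf y = p ^ k) →
      ∀ d ∈ Cfsg.pPrimeCore p G, d⁻¹ * y * d ∈ Subgroup.normalizer (((P : Subgroup G) ⊓ Cfsg.pPrimePCore p G : Subgroup G) : Set G) →
        ∃ d₁ ∈ Cfsg.pPrimeCore p G ⊓ Subgroup.centralizer ({y} : Set G),
          ∃ d₂ ∈ Cfsg.pPrimeCore p G ⊓ Subgroup.centralizer (((P : Subgroup G) ⊓ Cfsg.pPrimePCore p G : Subgroup G) : Set G), d = d₁ * d₂) ∧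
    ∀ x y : G, x ∈ (P : Subgroup G) → y ∈ (P : Subgroup G) → IsConj x y →
      ∃ n ∈ Subgroup.normalizer (((P : Subgroup G) ⊓ Cfsg.pPrimePCore p G : Subgroup G) : Set G), n * x * n⁻¹ = y := by
  refine ⟨fun y hyN hyp d hd hdy => part_one P y hyN hyp d hd hdy, ?_⟩
  intro x y hxP hyP hxy
  set K := Cfsg.pPrimeCore p G with hK
  set L := Cfsg.pPrimePCore p G with hL
  set R := (P : Subgroup G) ⊓ L with hR
  have hRp : IsPGroup p R := P.2.to_le inf_le_left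
  have hRidx : ¬ p ∣ R.relIndex L := sylow_inf_pPrimePCore_relIndex P
  have hPN : (P : Subgroup G) ≤ Subgroup.normalizer (R : Set G) := sylow_le_normalizer_inf_pPrimePCore P
  have hLnormal : L.Normal := pPrimePCore_normal' p
  have hKnormal : K.Normal := pPrimeCore_normal' p
  obtain ⟨g, hg⟩ := isConj_iff.mp hxy
  -- Frattini
  have hcjL : cj g R ≤ L := by
    rintro _ ⟨r, hr, rfl⟩
    exact hLnormal.conj_mem r (inf_le_right (a := (P : Subgroup G)) hr) g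
  have hcjp : IsPGroup p ↥(cj g R) := by
    rw [cj_def]; exact hRp.map _
  obtain ⟨l, hlL, hl⟩ := exists_conj_mem_of_relIndex R L (cj g R) hRp hRidx hcjL hcjp
  have hlgN : l * g ∈ Subgroup.normalizer (R : Set G) := by
    apply mem_normalizer_of_cj_eq
    apply cj_eq_of_le
    rw [← cj_mul]
    rintro _ ⟨q, hq, rfl⟩
    simpa [MulAut.conj_apply] using hl q hq
  have hl' : l⁻¹ ∈ K ⊔ R := by
    rw [hR, pPrimeCore_sup_sylow_inf P]
    exact inv_mem hlL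
  obtain ⟨k, hk, r, hr, hkr⟩ := Subgroup.mem_sup_of_normal_left.mp hl'
  -- `g = k * n₁`
  have hrN : r ∈ Subgroup.normalizer (R : Set G) := Subgroup.le_normalizer hr
  set n₁ := r * (l * g) with hn₁
  have hn₁N : n₁ ∈ Subgroup.normalizer (R : Set G) := mul_mem hrN hlgN
  have hgk : g = k * n₁ := by
    rw [hn₁, ← mul_assoc, hkr]; group
  set x' := n₁ * x * n₁⁻¹ with hx'
  have hx'N : x' ∈ Subgroup.normalizer (R : Set G) :=
    mul_mem (mul_mem hn₁N (hPN hxP)) (inv_mem hn₁N)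
  have hyx' : y = k * x' * k⁻¹ := by
    rw [← hg, hgk, hx']; group
  have hyN : y ∈ Subgroup.normalizer (R : Set G) := hPN hyP
  have hyp : ∃ j : ℕ, orderOf y = p ^ j := by
    obtain ⟨j, hj⟩ := (IsPGroup.iff_orderOf.mp P.2) ⟨y, hyP⟩
    exact ⟨j, by rw [← hj, Subgroup.orderOf_mk]⟩
  have hkx' : k⁻¹ * y * k ∈ Subgroup.normalizer (R : Set G) := by
    have : k⁻¹ * y * k = x' := by rw [hyx']; group
    rw [this]; exact hx'N
  obtain ⟨d₁, hd₁, d₂, hd₂, hkd⟩ := part_one P y hyN hyp k hk hkx'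
  obtain ⟨hd₁K, hd₁C⟩ := Subgroup.mem_inf.mp hd₁
  obtain ⟨hd₂K, hd₂C⟩ := Subgroup.mem_inf.mp hd₂
  have hd₂N : d₂ ∈ Subgroup.normalizer (R : Set G) := Subgroup.centralizer_le_normalizer _ hd₂C
  refine ⟨d₂ * n₁, mul_mem hd₂N hn₁N, ?_⟩
  have hd₁y : d₁⁻¹ * y * d₁ = y := by
    have := (Subgroup.mem_centralizer_iff.mp hd₁C) y (Set.mem_singleton y)
    calc d₁⁻¹ * y * d₁ = d₁⁻¹ * (y * d₁) := by group
      _ = d₁⁻¹ * (d₁ * y) := by rw [this]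
      _ = y := by group
  have hx'y : x' = d₂⁻¹ * y * d₂ := by
    have : x' = k⁻¹ * y * k := by rw [hyx']; group
    rw [this, hkd]
    calc (d₁ * d₂)⁻¹ * y * (d₁ * d₂) = d₂⁻¹ * (d₁⁻¹ * y * d₁) * d₂ := by group
      _ = d₂⁻¹ * y * d₂ := by rw [hd₁y]
  calc d₂ * n₁ * x * (d₂ * n₁)⁻¹ = d₂ * (n₁ * x * n₁⁻¹) * d₂⁻¹ := by group
    _ = d₂ * x' * d₂⁻¹ := by rw [hx']
    _ = y := by rw [hx'y]; group

end Cfsg.Agent.S1907
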