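import Cfsg.Statements.S1921
import Cfsg.Agent.Lib.Helper9.Transport

set_option autoImplicit false
open Cfsg
open scoped commutatorElement Pointwise

namespace Cfsg.Agent.S1921

/-- Let a be an involution of a finite group H and L a component of H with a L a⁻¹ ≠ L; put M = ⟨L, aLa⁻¹⟩ and let J be the subgroup generated by the elements x · a x a⁻¹ with x ∈ L (the diagonal). Then every element of M outside J·Z(M) generates M together with J. -/
theorem result {H : Type*} [Group H] [Finite H] (a : H) (ha : orderOf a = 2) (L : Subgroup H) (hL : Cfsg.IsComponent L)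
    (hLa : L.map (MulAut.conj a).toMonoidHom ≠ L) (x : H) (hxM : x ∈ L ⊔ L.map (MulAut.conj a).toMonoidHom)
    (hxJ : x ∉ Subgroup.closure {y : H | ∃ l ∈ L, y = l * (a * l * a⁻¹)} ⊔
      ((L ⊔ L.map (MulAut.conj a).toMonoidHom) ⊓ Subgroup.centralizer ((L ⊔ L.map (MulAut.conj a).toMonoidHom : Subgroup H) : Set H))) :
    Subgroup.closure {y : H | ∃ l ∈ L, y = l * (a * l * a⁻¹)} ⊔ Subgroup.zpowers x = L ⊔ L.map (MulAut.conj a).toMonoidHom := by
  obtain ⟨La, hLadef⟩ : ∃ La : Subgroup H, La = L.map (MulAut.conj a).toMonoidHom := ⟨_, rfl⟩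
  obtain ⟨J, hJdef⟩ : ∃ J : Subgroup H, J = Subgroup.closure {y : H | ∃ l ∈ L, y = l * (a * l * a⁻¹)} :=
    ⟨_, rfl⟩
  rw [← hLadef] at hLa hxM hxJ ⊢
  rw [← hJdef] at hxJ ⊢
  have hLac : Cfsg.IsComponent La := hLadef ▸ Cfsg.Agent.Lib.Helper9.isComponent_map_equiv (MulAut.conj a) hL
  have hcomm : ⁅L, La⁆ = ⊥ := Cfsg.Agent.Lib.Helper9.components_commute L La hL hLac (Ne.symm hLa)
  -- elementwise commuting
  have hc : ∀ u ∈ L, ∀ v ∈ La, u * v = v * u := by
    intro u hu v hv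
    have h1 : ⁅u, v⁆ ∈ ⁅L, La⁆ := Subgroup.commutator_mem_commutator hu hv
    rw [hcomm, Subgroup.mem_bot, commutatorElement_eq_one_iff_mul_comm] at h1
    exact h1
  have hconj : ∀ l ∈ L, a * l * a⁻¹ ∈ La := by
    intro l hl
    rw [hLadef]
    exact ⟨l, hl, rfl⟩
  have hJgen : ∀ l ∈ L, l * (a * l * a⁻¹) ∈ J := by
    intro l hl
    rw [hJdef]
    exact Subgroup.subset_closure ⟨l, hl, rfl⟩
  have hJM : J ≤ L ⊔ La := by
    rw [hJdef, Subgroup.closure_le]
    rintro y ⟨l, hl, rfl⟩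
    exact Subgroup.mul_mem _ (Subgroup.mem_sup_left hl) (Subgroup.mem_sup_right (hconj l hl))
  apply le_antisymm
  · exact sup_le hJM ((Subgroup.zpowers_le).mpr hxM)
  · -- decompose `x`
    have hLaN : La ≤ Subgroup.normalizer (L : Set H) := by
      intro v hv
      rw [Subgroup.mem_normalizer_iff]
      intro u
      constructor
      · intro hu
        have h1 := hc u hu v hv
        have e : v * u * v⁻¹ = u := by rw [← h1, mul_inv_cancel_right]
        rw [e]; exact hu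
      · intro hu
        have h1 := hc _ hu v hv
        have e : u = v * u * v⁻¹ := by
          have h2 : v * u * v⁻¹ * v = v * (v * u * v⁻¹) := h1
          rw [inv_mul_cancel_right] at h2
          exact mul_left_cancel h2
        rw [e]; exact hu
    have hxM' : x ∈ ((L : Set H) * (La : Set H) : Set H) := by
      rw [← Subgroup.coe_mul_of_right_le_normalizer_left L La hLaN]
      exact hxM
    obtain ⟨l₁, hl₁, v, hv, hx⟩ := Set.mem_mul.mp hxM'
    obtain ⟨l₂, hl₂, hl₂v⟩ : ∃ l₂ ∈ L, a * l₂ * a⁻¹ = v := by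
      rw [hLadef] at hv
      obtain ⟨l₂, hl₂, h⟩ := hv
      exact ⟨l₂, hl₂, h⟩
    obtain ⟨D, hDdef⟩ : ∃ D : Subgroup H, D = J ⊔ Subgroup.zpowers x := ⟨_, rfl⟩
    rw [← hDdef]
    have hJD : J ≤ D := hDdef ▸ le_sup_left
    have hxD : x ∈ D := hDdef ▸ (le_sup_right : Subgroup.zpowers x ≤ _) (Subgroup.mem_zpowers x)
    -- `y = l₁ * l₂⁻¹ ∈ D ∩ L`
    have hy : l₁ * l₂⁻¹ ∈ D := by
      have e : l₁ * l₂⁻¹ = x * (l₂ * (a * l₂ * a⁻¹))⁻¹ := by
        rw [← hx, ← hl₂v, mul_inv_rev]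
        group
      rw [e]
      exact D.mul_mem hxD (D.inv_mem (hJD (hJgen l₂ hl₂)))
    have hyL : l₁ * l₂⁻¹ ∈ L := L.mul_mem hl₁ (L.inv_mem hl₂)
    -- the subgroup `D ∩ L` of `L` is normal in `L`
    let N : Subgroup ↥L := D.subgroupOf L
    have hNn : N.Normal := by
      constructor
      intro n hn g
      rw [Subgroup.mem_subgroupOf] at hn ⊢
      have e : ((g * n * g⁻¹ : ↥L) : H) =
          ((g : H) * (a * (g : H) * a⁻¹)) * (n : H) * ((g : H) * (a * (g : H) * a⁻¹))⁻¹ := by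
        have h1 := hc (n : H) n.2 (a * (g : H) * a⁻¹) (hconj g g.2)
        push_cast
        rw [mul_inv_rev]
        calc (g : H) * (n : H) * (g : H)⁻¹
            = (g : H) * ((n : H) * (a * (g : H) * a⁻¹) * (a * (g : H) * a⁻¹)⁻¹) * (g : H)⁻¹ := by group
          _ = (g : H) * ((a * (g : H) * a⁻¹) * (n : H) * (a * (g : H) * a⁻¹)⁻¹) * (g : H)⁻¹ := by rw [h1]
          _ = (g : H) * (a * (g : H) * a⁻¹) * (n : H) * ((a * (g : H) * a⁻¹)⁻¹ * (g : H)⁻¹) := by group
      rw [e]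
      exact D.mul_mem (D.mul_mem (hJD (hJgen g g.2)) hn) (D.inv_mem (hJD (hJgen g g.2)))
    -- `N` is everything: otherwise `y` is central, contradicting the choice of `x`
    have hNtop : N = ⊤ := by
      by_contra hne
      have := hNn
      have hcen := Cfsg.Agent.Lib.Helper9.IsQuasisimple_normal_le_center hL.2 N hne
      have hyN : (⟨l₁ * l₂⁻¹, hyL⟩ : ↥L) ∈ N := by
        rw [Subgroup.mem_subgroupOf]; exact hy
      have hyc := Subgroup.mem_center_iff.mp (hcen hyN)
      apply hxJ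
      have e : x = (l₂ * (a * l₂ * a⁻¹)) * (l₁ * l₂⁻¹) := by
        rw [← hx, ← hl₂v]
        have h1 := hc l₂ hl₂ (a * l₂ * a⁻¹) (hconj l₂ hl₂)
        have h2 := hc (l₁ * l₂⁻¹) hyL (a * l₂ * a⁻¹) (hconj l₂ hl₂)
        have h3 : l₂ * (l₁ * l₂⁻¹) = (l₁ * l₂⁻¹) * l₂ := congrArg Subtype.val (hyc ⟨l₂, hl₂⟩)
        calc l₁ * (a * l₂ * a⁻¹) = (l₁ * l₂⁻¹) * l₂ * (a * l₂ * a⁻¹) := by group
          _ = l₂ * (l₁ * l₂⁻¹) * (a * l₂ * a⁻¹) := by rw [h3]
          _ = l₂ * ((l₁ * l₂⁻¹) * (a * l₂ * a⁻¹)) := by group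
          _ = l₂ * ((a * l₂ * a⁻¹) * (l₁ * l₂⁻¹)) := by rw [h2]
          _ = l₂ * (a * l₂ * a⁻¹) * (l₁ * l₂⁻¹) := by group
      rw [e]
      refine Subgroup.mul_mem _ (Subgroup.mem_sup_left (hJgen l₂ hl₂)) (Subgroup.mem_sup_right ?_)
      refine Subgroup.mem_inf.mpr ⟨Subgroup.mem_sup_left hyL, ?_⟩
      rw [Subgroup.mem_centralizer_iff]
      intro m hm
      -- `m ∈ L ⊔ La` commutes with the central element `y`
      have hm' : m ∈ Subgroup.centralizer ({l₁ * l₂⁻¹} : Set H) := by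
        have hle : L ⊔ La ≤ Subgroup.centralizer ({l₁ * l₂⁻¹} : Set H) := by
          apply sup_le
          · intro u hu
            rw [Subgroup.mem_centralizer_iff]
            intro w hw
            rw [Set.mem_singleton_iff] at hw
            rw [hw]
            exact (congrArg Subtype.val (hyc ⟨u, hu⟩)).symm
          · intro v' hv'
            rw [Subgroup.mem_centralizer_iff]
            intro w hw
            rw [Set.mem_singleton_iff] at hw
            rw [hw]
            exact hc _ hyL v' hv'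
        exact hle hm
      rw [Subgroup.mem_centralizer_iff] at hm'
      exact (hm' _ (Set.mem_singleton _)).symm
    -- hence `L ≤ D`, and then `La ≤ D`
    have hLD : L ≤ D := by
      intro l hl
      have : (⟨l, hl⟩ : ↥L) ∈ N := by rw [hNtop]; exact Subgroup.mem_top _
      exact Subgroup.mem_subgroupOf.mp this
    apply sup_le hLD
    intro v' hv'
    rw [hLadef] at hv'
    obtain ⟨l, hl, rfl⟩ := hv'
    have e : (MulAut.conj a).toMonoidHom l = l⁻¹ * (l * (a * l * a⁻¹)) := by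
      show a * l * a⁻¹ = _
      group
    rw [e]
    exact D.mul_mem (D.inv_mem (hLD hl)) (hJD (hJgen l hl))

end Cfsg.Agent.S1921
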