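import Cfsg.Statements.S1922
import Cfsg.Agent.Lib.Helper12.Basic

set_option autoImplicit false
open Cfsg

namespace Cfsg.Agent.S1922

/-- an involution of a finite type with exactly one fixed point: odd cardinality -/
theorem odd_card_of_involution {α : Type*} [Finite α] (f : α → α) (hf : ∀ x, f (f x) = x) (a : α)
    (ha : f a = a) (huniq : ∀ x, f x = x → x = a) : Odd (Nat.card α) := by
  classical
  have := Fintype.ofFinite α
  let F : Function.End α := f
  have h2 : F ^ 2 ^ 1 = 1 := by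
    rw [pow_one, pow_two]
    funext x
    exact hf x
  have hmod := Equiv.Perm.card_fixedPoints_modEq (p := 2) (n := 1) (f := F) h2
  have hfix : Fintype.card (Function.fixedPoints F) = 1 := by
    rw [Fintype.card_eq_one_iff]
    refine ⟨⟨a, ha⟩, ?_⟩
    rintro ⟨x, hx⟩
    exact Subtype.ext (huniq x hx)
  rw [hfix] at hmod
  rw [Nat.card_eq_fintype_card, Nat.odd_iff]
  exact hmod

/-- elements of odd order with equal squares are equal -/
theorem eq_of_sq_eq_of_odd {G : Type*} [Group G] (r r' : G) (hr : Odd (orderOf r)) (hr' : Odd (orderOf r'))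
    (h : r ^ 2 = r' ^ 2) : r = r' := by
  obtain ⟨k, hk⟩ := hr
  obtain ⟨k', hk'⟩ := hr'
  have e1 : r = (r ^ 2) ^ (k + 1) := by
    rw [← pow_mul]
    have : 2 * (k + 1) = orderOf r + 1 := by omega
    rw [this, pow_succ, pow_orderOf_eq_one, one_mul]
  have e2 : r' = (r' ^ 2) ^ (k' + 1) := by
    rw [← pow_mul]
    have : 2 * (k' + 1) = orderOf r' + 1 := by omega
    rw [this, pow_succ, pow_orderOf_eq_one, one_mul]
  -- both are powers of `x = r^2`
  set x := r ^ 2 with hx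
  have hcomm : Commute r r' := by
    rw [e1, e2, ← h]
    exact (Commute.refl x).pow_pow _ _
  have hxo : Odd (orderOf x) := by
    have hdvd : orderOf x ∣ orderOf r := orderOf_pow_dvd 2
    have hro : Odd (orderOf r) := ⟨k, hk⟩
    exact Odd.of_dvd_nat hro hdvd
  have h3 : (r * r'⁻¹) ^ 2 = 1 := by
    rw [(hcomm.inv_right).mul_pow, inv_pow, ← h, mul_inv_cancel]
  have h4 : r * r'⁻¹ ∈ Subgroup.zpowers x := by
    rw [e1, e2, ← h]
    exact Subgroup.mul_mem _ (Subgroup.pow_mem _ (Subgroup.mem_zpowers x) _)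
      (Subgroup.inv_mem _ (Subgroup.pow_mem _ (Subgroup.mem_zpowers x) _))
  have h5 : orderOf (r * r'⁻¹) ∣ orderOf x := by
    obtain ⟨n, hn⟩ := Subgroup.mem_zpowers_iff.mp h4
    rw [← hn]
    apply orderOf_dvd_of_pow_eq_one
    rw [← zpow_natCast, ← zpow_mul, mul_comm, zpow_mul, zpow_natCast, pow_orderOf_eq_one, one_zpow]
  have h6 : orderOf (r * r'⁻¹) ∣ 2 := orderOf_dvd_of_pow_eq_one h3
  have h7 : orderOf (r * r'⁻¹) = 1 := by
    have hodd : Odd (orderOf (r * r'⁻¹)) := Odd.of_dvd_nat hxo h5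
    rcases (Nat.dvd_prime Nat.prime_two).mp h6 with h | h
    · exact h
    · rw [h] at hodd; exact absurd hodd (by decide)
  exact mul_inv_eq_one.mp (orderOf_eq_one_iff.mp h7)


section basic
variable {G : Type*} [Group G]

theorem mem_map_conj_iff (H : Subgroup G) (x g : G) :
    x ∈ H.map (MulAut.conj g).toMonoidHom ↔ g⁻¹ * x * g ∈ H := by
  constructor
  · rintro ⟨h, hh, rfl⟩
    have : g⁻¹ * ((MulAut.conj g).toMonoidHom h) * g = h := by
      show g⁻¹ * (g * h * g⁻¹) * g = h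
      group
    rw [this]; exact hh
  · intro h
    refine ⟨g⁻¹ * x * g, h, ?_⟩
    show g * (g⁻¹ * x * g) * g⁻¹ = x
    group

/-- `x` lies in exactly the conjugate `H` of `H` -/
def Iso (H : Subgroup G) (x : G) : Prop := ∀ g : G, x ∈ H.map (MulAut.conj g).toMonoidHom ↔ g ∈ H

variable {H : Subgroup G} {z : G}

theorem iso_mem (h0 : Iso H z) : z ∈ H := by
  have := (h0 1).mpr (one_mem H)
  rw [mem_map_conj_iff] at this
  simpa using this

theorem iso_centralizer (h0 : Iso H z) (c : G) (hc : c * z = z * c) : c ∈ H := by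
  apply (h0 c).mp
  rw [mem_map_conj_iff]
  have : c⁻¹ * z * c = z := by
    rw [mul_assoc, ← hc, ← mul_assoc, inv_mul_cancel, one_mul]
  rw [this]
  exact iso_mem h0

theorem iso_conj_mem (h0 : Iso H z) (k g : G) :
    k * z * k⁻¹ ∈ H.map (MulAut.conj g).toMonoidHom ↔ k⁻¹ * g ∈ H := by
  rw [← h0 (k⁻¹ * g), mem_map_conj_iff, mem_map_conj_iff]
  have : g⁻¹ * (k * z * k⁻¹) * g = (k⁻¹ * g)⁻¹ * z * (k⁻¹ * g) := by group
  rw [this]

theorem iso_conj_mem_self (h0 : Iso H z) (k : G) : k * z * k⁻¹ ∈ H ↔ k ∈ H := by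
  have h1 := iso_conj_mem h0 k 1
  rw [mem_map_conj_iff] at h1
  have e1 : (1 : G)⁻¹ * (k * z * k⁻¹) * 1 = k * z * k⁻¹ := by group
  rw [e1, mul_one] at h1
  rw [h1]
  exact inv_mem_iff

/-- the hypothesis on products, transported to an arbitrary conjugate -/
theorem iso_mul_conj
    (hL : ∀ t : G, IsConj z t → t ≠ z → t * z = z * t → Iso H (z * t))
    (k s' : G) (hs' : IsConj z s') (hne : s' ≠ k * z * k⁻¹) (hcomm : s' * (k * z * k⁻¹) = (k * z * k⁻¹) * s')
    (g : G) : (k * z * k⁻¹) * s' ∈ H.map (MulAut.conj g).toMonoidHom ↔ k⁻¹ * g ∈ H := by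
  set t := k⁻¹ * s' * k with ht
  have ht1 : IsConj z t := by
    obtain ⟨c, hc⟩ := isConj_iff.mp hs'
    rw [isConj_iff]
    refine ⟨k⁻¹ * c, ?_⟩
    rw [ht, ← hc]; group
  have ht2 : t ≠ z := by
    intro h
    apply hne
    have : s' = k * t * k⁻¹ := by rw [ht]; group
    rw [this, h]
  have ht3 : t * z = z * t := by
    have e1 : t * z = k⁻¹ * (s' * (k * z * k⁻¹)) * k := by rw [ht]; group
    have e2 : z * t = k⁻¹ * ((k * z * k⁻¹) * s') * k := by rw [ht]; group
    rw [e1, e2, hcomm]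
  have h1 := hL t ht1 ht2 ht3 (k⁻¹ * g)
  rw [← h1, mem_map_conj_iff, mem_map_conj_iff]
  have : g⁻¹ * (k * z * k⁻¹ * s') * g = (k⁻¹ * g)⁻¹ * (z * t) * (k⁻¹ * g) := by rw [ht]; group
  rw [this]

end basic


section odd
variable {G : Type*} [Group G] [Finite G] {H : Subgroup G} {z : G}

omit [Finite G] in
theorem mul_self_of_orderOf_two {x : G} (hx : orderOf x = 2) : x * x = 1 := by
  rw [← pow_two, ← hx, pow_orderOf_eq_one]

omit [Finite G] in
theorem inv_of_orderOf_two {x : G} (hx : orderOf x = 2) : x⁻¹ = x :=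
  inv_eq_of_mul_eq_one_left (mul_self_of_orderOf_two hx)

omit [Finite G] in
theorem orderOf_of_isConj {a b : G} (h : IsConj a b) : orderOf b = orderOf a := by
  obtain ⟨c, hc⟩ := isConj_iff.mp h
  rw [← hc, ← MulAut.conj_apply]
  exact MulEquiv.orderOf_eq (MulAut.conj c) a

/-- conjugates of `z` with different fixed points have a product of odd order -/
theorem odd_orderOf_mul (hz : orderOf z = 2) (h0 : Iso H z)
    (hL : ∀ t : G, IsConj z t → t ≠ z → t * z = z * t → Iso H (z * t))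
    (s' : G) (hs' : IsConj z s') (hs'H : s' ∉ H) : Odd (orderOf (z * s')) := by
  by_contra hodd
  rw [Nat.not_odd_iff_even] at hodd
  obtain ⟨l, hl⟩ := hodd
  have hs'o : orderOf s' = 2 := by rw [orderOf_of_isConj hs', hz]
  have hz2 : z * z = 1 := mul_self_of_orderOf_two hz
  have hzinv : z⁻¹ = z := inv_of_orderOf_two hz
  have hs2 : s' * s' = 1 := mul_self_of_orderOf_two hs'o
  have hs'inv : s'⁻¹ = s' := inv_of_orderOf_two hs'o
  set x := z * s' with hx
  have hzx : z * x * z⁻¹ = x⁻¹ := by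
    rw [hx, mul_inv_rev, hzinv, hs'inv, ← mul_assoc, hz2, one_mul]
  have hsx : s' * x * s'⁻¹ = x⁻¹ := by
    rw [hx, mul_inv_rev, hzinv, hs'inv, mul_assoc, mul_assoc, hs2, mul_one]
  have hlpos : 0 < l := by
    have := orderOf_pos x
    omega
  set w := x ^ l with hw
  have hw1 : w ≠ 1 := by
    intro h
    have hdvd : orderOf x ∣ l := orderOf_dvd_of_pow_eq_one h
    have := Nat.le_of_dvd hlpos hdvd
    omega
  have hw2 : w * w = 1 := by
    rw [hw, ← pow_add, ← hl, pow_orderOf_eq_one]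
  have hwinv : w⁻¹ = w := inv_eq_of_mul_eq_one_left hw2
  have keyz : ∀ i : ℕ, z * x ^ i * z⁻¹ = (x ^ i)⁻¹ := fun i => by rw [← conj_pow, hzx, inv_pow]
  have keys : ∀ i : ℕ, s' * x ^ i * s'⁻¹ = (x ^ i)⁻¹ := fun i => by rw [← conj_pow, hsx, inv_pow]
  have hzw : z * w = w * z := by
    have h1 := keyz l
    rw [← hw, hwinv] at h1
    calc z * w = z * w * z⁻¹ * z := by group
      _ = w * z := by rw [h1]
  have hsw : s' * w = w * s' := by
    have h1 := keys l
    rw [← hw, hwinv] at h1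
    calc s' * w = s' * w * s'⁻¹ * s' := by group
      _ = w * s' := by rw [h1]
  have keyz' : ∀ i : ℕ, z * (x ^ i)⁻¹ = x ^ i * z := by
    intro i
    rw [← keyz i]
    calc z * (z * x ^ i * z⁻¹) = (z * z) * x ^ i * z⁻¹ := by group
      _ = x ^ i * z := by rw [hz2, one_mul, hzinv]
  obtain ⟨c, hc⟩ := isConj_iff.mp hs'
  have ht1 : IsConj z (w * z) := by
    rcases Nat.even_or_odd' l with ⟨i, hi | hi⟩
    · rw [isConj_iff]
      refine ⟨x ^ i, ?_⟩
      rw [mul_assoc, keyz' i, ← mul_assoc, ← pow_add, hw, hi, two_mul]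
    · rw [isConj_iff]
      refine ⟨x ^ i * (z * c), ?_⟩
      have e1 : x ^ i * (z * c) * z * (x ^ i * (z * c))⁻¹ = x ^ i * (z * (c * z * c⁻¹) * z⁻¹) * (x ^ i)⁻¹ := by
        group
      rw [e1, hc, hzinv]
      have e2 : z * s' * z = x * z := by rw [hx]
      rw [e2, mul_assoc, mul_assoc, keyz' i, ← mul_assoc, ← mul_assoc, ← pow_succ, ← pow_add, hw, hi]
      congr 2
      omega
  have ht2 : w * z ≠ z := by
    intro h
    exact hw1 (mul_eq_right.mp h)
  have ht3 : w * z * z = z * (w * z) := by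
    rw [← mul_assoc, hzw]
  have hIso := hL (w * z) ht1 ht2 ht3
  have e3 : z * (w * z) = w := by
    rw [← mul_assoc, hzw, mul_assoc, hz2, mul_one]
  rw [e3] at hIso
  have h1 : (c⁻¹ * w * c) * z = z * (c⁻¹ * w * c) := by
    have e4 : c⁻¹ * w * c * z = c⁻¹ * (w * (c * z * c⁻¹)) * c := by group
    have e5 : z * (c⁻¹ * w * c) = c⁻¹ * ((c * z * c⁻¹) * w) * c := by group
    rw [e4, e5, hc, hsw]
  have h2 : c⁻¹ * w * c ∈ H := iso_centralizer h0 _ h1
  have h3 : w ∈ H.map (MulAut.conj c).toMonoidHom := (mem_map_conj_iff H w c).mpr h2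
  have h4 : c ∈ H := (hIso c).mp h3
  exact hs'H (hc ▸ (iso_conj_mem_self h0 c).mpr h4)

end odd



section count
variable {G : Type*} [Group G] [Finite G] {H : Subgroup G} {z : G}

/-- the number of conjugates of `z` in `H` is odd -/
theorem odd_card_conj_in (hz : orderOf z = 2) (hH : H ≠ ⊤) (h0 : Iso H z)
    (hL : ∀ t : G, IsConj z t → t ≠ z → t * z = z * t → Iso H (z * t)) :
    Odd (Nat.card {s : G // IsConj z s ∧ s ∈ H}) := by
  have hz2 : z * z = 1 := mul_self_of_orderOf_two hz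
  have hzinv : z⁻¹ = z := inv_of_orderOf_two hz
  -- a conjugate outside `H`
  obtain ⟨g₀, hg₀⟩ : ∃ g₀ : G, g₀ ∉ H := by
    by_contra h
    push Not at h
    exact hH (eq_top_iff.mpr (fun g _ => h g))
  obtain ⟨u₀, hu₀⟩ : ∃ u₀ : G, u₀ = g₀ * z * g₀⁻¹ := ⟨_, rfl⟩
  have hu₀I : IsConj z u₀ := isConj_iff.mpr ⟨g₀, hu₀.symm⟩
  have hu₀H : u₀ ∉ H := fun h => hg₀ ((iso_conj_mem_self h0 g₀).mp (hu₀ ▸ h))
  have hu₀o : orderOf u₀ = 2 := by rw [orderOf_of_isConj hu₀I, hz]
  have hu₀2 : u₀ * u₀ = 1 := mul_self_of_orderOf_two hu₀o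
  have hu₀inv : u₀⁻¹ = u₀ := inv_of_orderOf_two hu₀o
  have hIo : ∀ u : G, IsConj z u → u * u = 1 ∧ u⁻¹ = u := fun u hu =>
    ⟨mul_self_of_orderOf_two (by rw [orderOf_of_isConj hu, hz]),
      inv_of_orderOf_two (by rw [orderOf_of_isConj hu, hz])⟩
  -- (A) the set `U`
  have hA : Odd (Nat.card {u : G // IsConj z u ∧ u₀⁻¹ * u ∈ H}) := by
    have hwd : ∀ u : {u : G // IsConj z u ∧ u₀⁻¹ * u ∈ H},
        IsConj z (u₀ * u.1 * u₀⁻¹) ∧ u₀⁻¹ * (u₀ * u.1 * u₀⁻¹) ∈ H := by
      rintro ⟨u, hu1, hu2⟩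
      refine ⟨hu1.trans (isConj_iff.mpr ⟨u₀, rfl⟩), ?_⟩
      have e : u₀⁻¹ * (u₀ * u * u₀⁻¹) = (u₀⁻¹ * u)⁻¹ := by
        rw [mul_inv_rev, inv_inv, (hIo u hu1).2, hu₀inv, ← mul_assoc, ← mul_assoc, hu₀2, one_mul]
      rw [e]; exact H.inv_mem hu2
    refine odd_card_of_involution (fun u => ⟨u₀ * u.1 * u₀⁻¹, hwd u⟩) ?_
      ⟨u₀, hu₀I, by rw [inv_mul_cancel]; exact one_mem H⟩ ?_ ?_
    · rintro ⟨u, hu⟩
      apply Subtype.ext
      show u₀ * (u₀ * u * u₀⁻¹) * u₀⁻¹ = u
      rw [hu₀inv]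
      calc u₀ * (u₀ * u * u₀) * u₀ = (u₀ * u₀) * u * (u₀ * u₀) := by group
        _ = u := by rw [hu₀2, one_mul, mul_one]
    · apply Subtype.ext
      show u₀ * u₀ * u₀⁻¹ = u₀
      group
    · rintro ⟨u, hu1, hu2⟩ hfix
      apply Subtype.ext
      show u = u₀
      by_contra hne
      have hfix' : u₀ * u * u₀⁻¹ = u := congrArg Subtype.val hfix
      have hcomm : u * u₀ = u₀ * u := by
        calc u * u₀ = (u₀ * u * u₀⁻¹) * u₀ := by rw [hfix']
          _ = u₀ * u := by group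
      have h1 := (iso_mul_conj hL g₀ u hu1 (hu₀ ▸ hne) (hu₀ ▸ hcomm) 1).mp (by
        rw [mem_map_conj_iff]
        have e : (1 : G)⁻¹ * (g₀ * z * g₀⁻¹ * u) * 1 = u₀⁻¹ * u := by
          rw [hu₀inv, ← hu₀]; group
        rw [e]; exact hu2)
      rw [mul_one] at h1
      exact hg₀ (inv_mem_iff.mp h1)
  -- members of `U` are outside `H`
  have hUH : ∀ u : G, u₀⁻¹ * u ∈ H → u ∉ H := by
    intro u hu huH
    apply hu₀H
    have e : u₀ = u * (u₀⁻¹ * u)⁻¹ := by group
    rw [e]; exact H.mul_mem huH (H.inv_mem hu)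
  -- (B) bijection with the conjugates fixing the point `u₀ H`
  have hB : Nat.card {u : G // IsConj z u ∧ u₀⁻¹ * u ∈ H} =
      Nat.card {s : G // IsConj z s ∧ s ∈ H.map (MulAut.conj u₀).toMonoidHom} := by
    have hwd : ∀ u : {u : G // IsConj z u ∧ u₀⁻¹ * u ∈ H},
        IsConj z (u.1 * z * u.1⁻¹) ∧ u.1 * z * u.1⁻¹ ∈ H.map (MulAut.conj u₀).toMonoidHom := by
      rintro ⟨u, hu1, hu2⟩
      refine ⟨isConj_iff.mpr ⟨u, rfl⟩, ?_⟩
      rw [iso_conj_mem h0]
      have e : u⁻¹ * u₀ = (u₀⁻¹ * u)⁻¹ := by group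
      rw [e]; exact H.inv_mem hu2
    apply Nat.card_eq_of_bijective (fun u => ⟨u.1 * z * u.1⁻¹, hwd u⟩)
    constructor
    · rintro ⟨u, hu1, hu2⟩ ⟨u', hu1', hu2'⟩ heq
      apply Subtype.ext
      show u = u'
      have heq' : u * z * u⁻¹ = u' * z * u'⁻¹ := congrArg Subtype.val heq
      have ho := odd_orderOf_mul hz h0 hL u hu1 (hUH u hu2)
      have ho' := odd_orderOf_mul hz h0 hL u' hu1' (hUH u' hu2')
      have hsq : (z * u) ^ 2 = (z * u') ^ 2 := by
        have e1 : (z * u) ^ 2 = z * (u * z * u⁻¹) := by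
          rw [(hIo u hu1).2, pow_two]; group
        have e2 : (z * u') ^ 2 = z * (u' * z * u'⁻¹) := by
          rw [(hIo u' hu1').2, pow_two]; group
        rw [e1, e2, heq']
      exact mul_left_cancel (eq_of_sq_eq_of_odd _ _ ho ho' hsq)
    · rintro ⟨s', hs1, hs2⟩
      obtain ⟨c, hc⟩ := isConj_iff.mp hs1
      have hs'H : s' ∉ H := by
        intro h
        rw [← hc, iso_conj_mem h0] at hs2
        rw [← hc, iso_conj_mem_self h0] at h
        apply hu₀H
        have e : u₀ = c * (c⁻¹ * u₀) := by group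
        rw [e]; exact H.mul_mem h hs2
      obtain ⟨k, hk⟩ := odd_orderOf_mul hz h0 hL s' hs1 hs'H
      have hs2' := (hIo s' hs1).1
      have hs'inv := (hIo s' hs1).2
      set x := z * s' with hx
      have hxm : x ^ (2 * k + 1) = 1 := by rw [← hk, pow_orderOf_eq_one]
      have hzx : z * x * z⁻¹ = x⁻¹ := by
        rw [hx, mul_inv_rev, hzinv, hs'inv, ← mul_assoc, hz2, one_mul]
      have keyz : ∀ i : ℕ, z * x ^ i * z⁻¹ = (x ^ i)⁻¹ := fun i => by rw [← conj_pow, hzx, inv_pow]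
      have keyz' : ∀ i : ℕ, z * (x ^ i)⁻¹ = x ^ i * z := by
        intro i
        rw [← keyz i]
        calc z * (z * x ^ i * z⁻¹) = (z * z) * x ^ i * z⁻¹ := by group
          _ = x ^ i * z := by rw [hz2, one_mul, hzinv]
      set u := x ^ k * z with hu
      have huI : IsConj z u := by
        rw [isConj_iff]
        refine ⟨x ^ (k * (k + 1)), ?_⟩
        rw [mul_assoc, keyz', ← mul_assoc, ← pow_add, hu]
        congr 1
        have e : k * (k + 1) + k * (k + 1) = (2 * k + 1) * k + k := by ring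
        rw [e, pow_add, pow_mul, hxm, one_pow, one_mul]
      have huz : u * z * u⁻¹ = s' := by
        have e1 : u * z * u⁻¹ = x ^ k * (z * (x ^ k)⁻¹) := by
          rw [hu, mul_inv_rev, hzinv]
          calc x ^ k * z * z * (z * (x ^ k)⁻¹) = x ^ k * (z * z) * (z * (x ^ k)⁻¹) := by group
            _ = x ^ k * (z * (x ^ k)⁻¹) := by rw [hz2, mul_one]
        rw [e1, keyz', ← mul_assoc, ← pow_add]
        have e2 : x ^ (k + k) = x⁻¹ := by
          apply eq_inv_of_mul_eq_one_left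
          rw [← pow_succ]
          have : k + k + 1 = 2 * k + 1 := by ring
          rw [this, hxm]
        rw [e2, hx, mul_inv_rev, hzinv, hs'inv, mul_assoc, hz2, mul_one]
      have huU : u₀⁻¹ * u ∈ H := by
        have h1 : u * z * u⁻¹ ∈ H.map (MulAut.conj u₀).toMonoidHom := by rw [huz]; exact hs2
        rw [iso_conj_mem h0] at h1
        have e : u₀⁻¹ * u = (u⁻¹ * u₀)⁻¹ := by group
        rw [e]; exact H.inv_mem h1
      exact ⟨⟨u, huI, huU⟩, Subtype.ext huz⟩
  -- conjugation by `u₀`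
  have hC : Nat.card {s : G // IsConj z s ∧ s ∈ H} =
      Nat.card {s : G // IsConj z s ∧ s ∈ H.map (MulAut.conj u₀).toMonoidHom} := by
    have hwd : ∀ s : {s : G // IsConj z s ∧ s ∈ H},
        IsConj z (u₀ * s.1 * u₀⁻¹) ∧ u₀ * s.1 * u₀⁻¹ ∈ H.map (MulAut.conj u₀).toMonoidHom := by
      rintro ⟨s, hs1, hs2⟩
      exact ⟨hs1.trans (isConj_iff.mpr ⟨u₀, rfl⟩), ⟨s, hs2, rfl⟩⟩
    apply Nat.card_eq_of_bijective (fun s => ⟨u₀ * s.1 * u₀⁻¹, hwd s⟩)
    constructor
    · rintro ⟨s, hs⟩ ⟨s', hs'⟩ heq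
      apply Subtype.ext
      have heq' : u₀ * s * u₀⁻¹ = u₀ * s' * u₀⁻¹ := congrArg Subtype.val heq
      exact mul_left_cancel (mul_right_cancel heq')
    · rintro ⟨s', hs1, hs2⟩
      rw [mem_map_conj_iff] at hs2
      refine ⟨⟨u₀⁻¹ * s' * u₀, hs1.trans (isConj_iff.mpr ⟨u₀⁻¹, by group⟩), hs2⟩, ?_⟩
      apply Subtype.ext
      show u₀ * (u₀⁻¹ * s' * u₀) * u₀⁻¹ = s'
      group
  rw [hC, ← hB]
  exact hA

end count



section final
variable {G : Type*} [Group G] [Finite G] {H : Subgroup G} {z : G}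

/-- the index of `H` is odd -/
theorem odd_index (hz : orderOf z = 2) (h0 : Iso H z) : Odd H.index := by
  have hz2 : z * z = 1 := mul_self_of_orderOf_two hz
  have hzinv : z⁻¹ = z := inv_of_orderOf_two hz
  rw [Subgroup.index_eq_card]
  refine odd_card_of_involution (fun q : G ⧸ H => z • q) ?_ ((1 : G) : G ⧸ H) ?_ ?_
  · intro q
    show z • z • q = q
    rw [smul_smul, hz2, one_smul]
  · show z • ((1 : G) : G ⧸ H) = ((1 : G) : G ⧸ H)
    rw [MulAction.Quotient.smul_mk, QuotientGroup.eq, smul_eq_mul, mul_one, mul_one, hzinv]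
    exact iso_mem h0
  · intro q hq
    induction q using QuotientGroup.induction_on with
    | H g =>
      have hq' : z • (g : G ⧸ H) = (g : G ⧸ H) := hq
      rw [MulAction.Quotient.smul_mk, QuotientGroup.eq, smul_eq_mul] at hq'
      rw [QuotientGroup.eq, mul_one]
      apply H.inv_mem
      apply (h0 g).mp
      rw [mem_map_conj_iff]
      have e : g⁻¹ * z * g = (z * g)⁻¹ * g := by rw [mul_inv_rev, hzinv]
      rw [e]; exact hq'

/-- a subgroup of odd index contains a Sylow 2-subgroup -/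
theorem exists_sylow_le_of_odd_index (hodd : Odd H.index) : ∃ S : Sylow 2 G, (S : Subgroup G) ≤ H := by
  obtain ⟨P₀⟩ : Nonempty (Sylow 2 H) := inferInstance
  have hpg : IsPGroup 2 ((P₀ : Subgroup H).map H.subtype) := P₀.isPGroup'.map H.subtype
  have hidx2 : ¬ 2 ∣ ((P₀ : Subgroup H).map H.subtype).index := by
    rw [Subgroup.index_map_subtype]
    refine Nat.Prime.not_dvd_mul Nat.prime_two P₀.not_dvd_index ?_
    rw [← even_iff_two_dvd, Nat.not_even_iff_odd]
    exact hodd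
  refine ⟨hpg.toSylow hidx2, ?_⟩
  show (P₀ : Subgroup H).map H.subtype ≤ H
  exact Subgroup.map_subtype_le _

omit [Finite G] in
/-- an element of order dividing 2 centralizing a Sylow 2-subgroup lies in it -/
theorem mem_sylow_of_centralizes (P : Sylow 2 G) (s : G) (hs2 : s * s = 1)
    (hc : ∀ p ∈ (P : Subgroup G), p * s = s * p) : s ∈ (P : Subgroup G) := by
  have hZ : IsPGroup 2 (Subgroup.zpowers s) := by
    rintro ⟨y, hy⟩
    obtain ⟨n, rfl⟩ := Subgroup.mem_zpowers_iff.mp hy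
    refine ⟨1, ?_⟩
    apply Subtype.ext
    show (s ^ n) ^ 2 ^ 1 = 1
    rw [pow_one, ← zpow_natCast, ← zpow_mul, mul_comm, zpow_mul, zpow_natCast, pow_two, hs2, one_zpow]
  have hN : Subgroup.zpowers s ≤ Subgroup.normalizer ((P : Subgroup G) : Set G) := by
    rw [Subgroup.zpowers_le]
    rw [Subgroup.mem_normalizer_iff]
    intro p
    constructor
    · intro hp
      have : s * p * s⁻¹ = p := by rw [← hc p hp, mul_inv_cancel_right]
      rw [this]; exact hp
    · intro hp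
      have h1 := hc _ hp
      have : p = s * p * s⁻¹ := by
        have h2 : s * p * s⁻¹ * s = s * (s * p * s⁻¹) := h1
        rw [inv_mul_cancel_right] at h2
        have h3 := mul_left_cancel h2
        exact h3
      rw [this]; exact hp
  have hsup : IsPGroup 2 (Subgroup.zpowers s ⊔ (P : Subgroup G) : Subgroup G) :=
    IsPGroup.to_sup_of_normal_right' hZ P.isPGroup' hN
  have heq := P.is_maximal' hsup le_sup_right
  have : Subgroup.zpowers s ≤ (P : Subgroup G) := heq ▸ le_sup_left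
  exact this (Subgroup.mem_zpowers s)

end final



section main
variable {G : Type*} [Group G] [Finite G] {H : Subgroup G} {z : G}

/-- conjugation action of a subgroup of `H` on the conjugates of `z` in `H` -/
@[reducible] def conjInAction (z : G) (H P₀ : Subgroup G) (hP : P₀ ≤ H) :
    MulAction P₀ {s : G // IsConj z s ∧ s ∈ H} where
  smul p s := ⟨p.1 * s.1 * p.1⁻¹, s.2.1.trans (isConj_iff.mpr ⟨p.1, rfl⟩),
    H.mul_mem (H.mul_mem (hP p.2) s.2.2) (H.inv_mem (hP p.2))⟩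
  one_smul s := Subtype.ext (by
    show ((1 : P₀) : G) * s.1 * ((1 : P₀) : G)⁻¹ = s.1
    rw [Subgroup.coe_one, one_mul, inv_one, mul_one])
  mul_smul p q s := Subtype.ext (by
    show ((p * q : P₀) : G) * s.1 * ((p * q : P₀) : G)⁻¹ = p.1 * (q.1 * s.1 * q.1⁻¹) * p.1⁻¹
    rw [Subgroup.coe_mul, mul_inv_rev]; group)

/-- forward direction, 2-centrality -/
theorem exists_sylow_center (hz : orderOf z = 2) (hH : H ≠ ⊤) (h0 : Iso H z)
    (hL : ∀ t : G, IsConj z t → t ≠ z → t * z = z * t → Iso H (z * t)) :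
    ∃ P : Sylow 2 G, z ∈ (Subgroup.center ↥(P : Subgroup G)).map (P : Subgroup G).subtype := by
  obtain ⟨P₀, hP₀⟩ := exists_sylow_le_of_odd_index (odd_index hz h0)
  have hodd := odd_card_conj_in hz hH h0 hL
  let _ := conjInAction z H (P₀ : Subgroup G) hP₀
  have hnd : ¬ 2 ∣ Nat.card {s : G // IsConj z s ∧ s ∈ H} := by
    rw [← even_iff_two_dvd, Nat.not_even_iff_odd]; exact hodd
  obtain ⟨⟨s, hs1, hs2⟩, hfix⟩ :=
    IsPGroup.nonempty_fixed_point_of_prime_not_dvd_card P₀.isPGroup' {s : G // IsConj z s ∧ s ∈ H} hnd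
  have hc : ∀ p ∈ (P₀ : Subgroup G), p * s = s * p := by
    intro p hp
    have h1 := hfix ⟨p, hp⟩
    have h2 : p * s * p⁻¹ = s := congrArg Subtype.val h1
    calc p * s = p * s * p⁻¹ * p := by group
      _ = s * p := by rw [h2]
  have hso : orderOf s = 2 := by rw [orderOf_of_isConj hs1, hz]
  have hsP : s ∈ (P₀ : Subgroup G) := mem_sylow_of_centralizes P₀ s (mul_self_of_orderOf_two hso) hc
  obtain ⟨k, hk⟩ := isConj_iff.mp hs1
  -- conjugate back
  refine ⟨k⁻¹ • P₀, ?_⟩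
  have hmem : ∀ x : G, x ∈ ((k⁻¹ • P₀ : Sylow 2 G) : Subgroup G) ↔ k * x * k⁻¹ ∈ (P₀ : Subgroup G) := by
    intro x
    rw [Sylow.coe_subgroup_smul, Subgroup.mem_pointwise_smul_iff_inv_smul_mem, ← map_inv, inv_inv,
      MulAut.smul_def, MulAut.conj_apply]
  have hzP : z ∈ ((k⁻¹ • P₀ : Sylow 2 G) : Subgroup G) := by
    rw [hmem, hk]; exact hsP
  refine ⟨⟨z, hzP⟩, Subgroup.mem_center_iff.mpr ?_, rfl⟩
  rintro ⟨x, hx⟩
  apply Subtype.ext
  show x * z = z * x
  have h1 := hc _ ((hmem x).mp hx)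
  rw [← hk] at h1
  have h2 : k * (x * z) * k⁻¹ = k * (z * x) * k⁻¹ := by
    calc k * (x * z) * k⁻¹ = k * x * k⁻¹ * (k * z * k⁻¹) := by group
      _ = k * z * k⁻¹ * (k * x * k⁻¹) := h1
      _ = k * (z * x) * k⁻¹ := by group
  exact mul_left_cancel (mul_right_cancel h2)

end main



section result
variable {G : Type*} [Group G]

theorem isPGroup_zpowers_of_sq (s : G) (hs2 : s * s = 1) : IsPGroup 2 (Subgroup.zpowers s) := by
  rintro ⟨y, hy⟩
  obtain ⟨n, rfl⟩ := Subgroup.mem_zpowers_iff.mp hy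
  refine ⟨1, ?_⟩
  apply Subtype.ext
  show (s ^ n) ^ 2 ^ 1 = 1
  rw [pow_one, ← zpow_natCast, ← zpow_mul, mul_comm, zpow_mul, zpow_natCast, pow_two, hs2, one_zpow]

end result

/-- Let z be an involution of a finite group G and H a proper subgroup such that z lies in gHg⁻¹ exactly when g ∈ H. Then the following are equivalent: (1) for every conjugate t ≠ z of z commuting with z, the product zt lies in gHg⁻¹ exactly when g ∈ H; (2) z lies in the centre of some Sylow 2-subgroup of G, and for every conjugate t ≠ z of z commuting with z, the centralizer of zt is contained in H. -/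
theorem result {G : Type*} [Group G] [Finite G] (z : G) (hz : orderOf z = 2) (H : Subgroup G) (hH : H ≠ ⊤)
    (h0 : ∀ g : G, z ∈ H.map (MulAut.conj g).toMonoidHom ↔ g ∈ H) :
    (∀ t : G, IsConj z t → t ≠ z → t * z = z * t → ∀ g : G, z * t ∈ H.map (MulAut.conj g).toMonoidHom ↔ g ∈ H) ↔
      ((∃ P : Sylow 2 G, z ∈ (Subgroup.center ↥(P : Subgroup G)).map (P : Subgroup G).subtype) ∧
        ∀ t : G, IsConj z t → t ≠ z → t * z = z * t → Subgroup.centralizer ({z * t} : Set G) ≤ H) := by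
  have h0' : Iso H z := h0
  constructor
  · intro hL
    have hL' : ∀ t : G, IsConj z t → t ≠ z → t * z = z * t → Iso H (z * t) := hL
    refine ⟨exists_sylow_center hz hH h0' hL', ?_⟩
    intro t ht1 ht2 ht3 c hc
    rw [Subgroup.mem_centralizer_iff] at hc
    have h1 := hc (z * t) (Set.mem_singleton _)
    exact iso_centralizer (hL' t ht1 ht2 ht3) c h1.symm
  · rintro ⟨⟨P, hzP⟩, hC⟩ t ht1 ht2 ht3 g
    obtain ⟨⟨z', hz'P⟩, hz'c, hz'eq⟩ := hzP
    have hz'eq' : z' = z := hz'eq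
    subst hz'eq'
    have hz'c' := Subgroup.mem_center_iff.mp hz'c
    have hPc : ∀ p ∈ (P : Subgroup G), p * z' = z' * p := fun p hp =>
      congrArg Subtype.val (hz'c' ⟨p, hp⟩)
    have hPH : (P : Subgroup G) ≤ H := fun p hp => iso_centralizer h0' p (hPc p hp)
    have hzH : z' ∈ H := iso_mem h0'
    have htH : t ∈ H := iso_centralizer h0' t ht3
    have hto : orderOf t = 2 := by rw [orderOf_of_isConj ht1, hz]
    have ht2' := mul_self_of_orderOf_two hto
    have hz2 := mul_self_of_orderOf_two hz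
    obtain ⟨c, hc⟩ : ∃ c : G, c = z' * t := ⟨_, rfl⟩
    rw [← hc]
    have hc2 : c * c = 1 := by
      rw [hc]
      calc z' * t * (z' * t) = z' * (t * z') * t := by group
        _ = z' * (z' * t) * t := by rw [ht3]
        _ = (z' * z') * (t * t) := by group
        _ = 1 := by rw [hz2, ht2', one_mul]
    constructor
    · intro hcg
      rw [mem_map_conj_iff] at hcg
      obtain ⟨c', hc'⟩ : ∃ c' : G, c' = g⁻¹ * c * g := ⟨_, rfl⟩
      rw [← hc'] at hcg
      have hc'2 : c' * c' = 1 := by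
        rw [hc']
        calc g⁻¹ * c * g * (g⁻¹ * c * g) = g⁻¹ * (c * c) * g := by group
          _ = 1 := by rw [hc2]; group
      obtain ⟨h, hh, hconj⟩ := Cfsg.Agent.Lib.Helper12.exists_conj_mem_sylow P H (Subgroup.zpowers c') hPH
        ((Subgroup.zpowers_le).mpr hcg) (isPGroup_zpowers_of_sq c' hc'2)
      have hp := hconj c' (Subgroup.mem_zpowers c')
      obtain ⟨k, hk⟩ : ∃ k : G, k = g * h⁻¹ := ⟨_, rfl⟩
      have hcp : c = k * (h * c' * h⁻¹) * k⁻¹ := by rw [hk, hc']; group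
      have hcomm := hPc _ hp
      have hkz : k * z' * k⁻¹ ∈ Subgroup.centralizer ({z' * t} : Set G) := by
        rw [Subgroup.mem_centralizer_iff]
        intro y hy
        rw [Set.mem_singleton_iff] at hy
        rw [hy, ← hc, hcp]
        calc k * (h * c' * h⁻¹) * k⁻¹ * (k * z' * k⁻¹) = k * ((h * c' * h⁻¹) * z') * k⁻¹ := by group
          _ = k * (z' * (h * c' * h⁻¹)) * k⁻¹ := by rw [hcomm]
          _ = k * z' * k⁻¹ * (k * (h * c' * h⁻¹) * k⁻¹) := by group
      have hkH : k ∈ H := (iso_conj_mem_self h0' k).mp (hC t ht1 ht2 ht3 hkz)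
      have hgk : g = k * h := by rw [hk]; group
      rw [hgk]; exact H.mul_mem hkH hh
    · intro hg
      rw [mem_map_conj_iff, hc]
      exact H.mul_mem (H.mul_mem (H.inv_mem hg) (H.mul_mem hzH htH)) hg

end Cfsg.Agent.S1922
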