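import Cfsg.Statements.S1924
import Cfsg.Agent.Lib.Helper12.Residual

set_option autoImplicit false
set_option linter.unusedSectionVars false
set_option linter.style.haveILetI false
open Cfsg

namespace Cfsg.Agent.S1924

open Subgroup

/-- A permutation of order dividing `2^(k+1)` whose `2^k`-th power is fixed-point-free, on a set of
`2^(k+1) * r` points with `r` odd, is odd. -/
theorem perm_sign_neg_one {α : Type*} [Fintype α] [DecidableEq α] (σ : Equiv.Perm α) (k r : ℕ)
    (hr : Odd r) (hcard : Fintype.card α = 2 ^ (k + 1) * r) (h1 : σ ^ (2 ^ (k + 1)) = 1)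
    (h2 : ∀ ω, (σ ^ (2 ^ k)) ω ≠ ω) : Equiv.Perm.sign σ = -1 := by
  have hall : ∀ n ∈ σ.cycleType, n = 2 ^ (k + 1) := by
    intro n hn
    have hdvd : n ∣ 2 ^ (k + 1) :=
      (Equiv.Perm.dvd_of_mem_cycleType hn).trans (orderOf_dvd_of_pow_eq_one h1)
    obtain ⟨j, hj, rfl⟩ := (Nat.dvd_prime_pow Nat.prime_two).mp hdvd
    by_contra hne
    have hjk : j ≤ k := by
      rcases Nat.lt_or_ge k j with h | h
      · exfalso; apply hne
        have : j = k + 1 := by omega
        rw [this]
      · exact h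
    obtain ⟨c, τ, hστ, hdisj, hcyc, hsupp⟩ := Equiv.Perm.mem_cycleType_iff.mp hn
    have hcyc' := hcyc
    obtain ⟨ω, hω, -⟩ := hcyc
    have hτω : τ ω = ω := by
      rcases hdisj ω with h | h
      · exact absurd h hω
      · exact h
    have hcpow : c ^ (2 ^ k) = 1 := by
      apply orderOf_dvd_iff_pow_eq_one.mp
      rw [hcyc'.orderOf, hsupp]
      exact pow_dvd_pow 2 hjk
    apply h2 ω
    rw [hστ, hdisj.commute.mul_pow, hcpow, one_mul]
    exact Equiv.Perm.pow_apply_eq_self_of_apply_eq_self hτω _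
  have hrep : σ.cycleType = Multiset.replicate (Multiset.card σ.cycleType) (2 ^ (k + 1)) :=
    Multiset.eq_replicate_card.mpr hall
  have hsupp : σ.support = Finset.univ := by
    ext ω
    simp only [Equiv.Perm.mem_support, Finset.mem_univ, iff_true]
    intro h
    exact h2 ω (Equiv.Perm.pow_apply_eq_self_of_apply_eq_self h _)
  have hsum : σ.cycleType.sum = 2 ^ (k + 1) * r := by
    rw [Equiv.Perm.sum_cycleType, hsupp, Finset.card_univ, hcard]
  have hcardm : Multiset.card σ.cycleType = r := by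
    have h3 : σ.cycleType.sum = Multiset.card σ.cycleType * 2 ^ (k + 1) := by
      conv_lhs => rw [hrep]
      simp
    rw [hsum, mul_comm] at h3
    exact (Nat.eq_of_mul_eq_mul_right (by positivity) h3).symm
  rw [Equiv.Perm.sign_of_cycleType, hsum, hcardm]
  apply Odd.neg_one_pow
  have : Even (2 ^ (k + 1) * r) := by
    rw [pow_succ, mul_assoc]
    exact Even.mul_left (Even.mul_right even_two r) _
  exact this.add_odd hr


/-- the sign character of the action of `H` on the cosets of `A` -/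
noncomputable def cosetSign {H : Type*} [Group H] [Finite H] (A : Subgroup H) : H →* ℤˣ :=
  letI := Fintype.ofFinite (H ⧸ A)
  letI : DecidableEq (H ⧸ A) := Classical.decEq _
  Equiv.Perm.sign.comp (MulAction.toPermHom H (H ⧸ A))

theorem cosetSign_eq_neg_one {H : Type*} [Group H] [Finite H] (A : Subgroup H) (k r : ℕ)
    (hr : Odd r) (hidx : A.index = 2 ^ (k + 1) * r) (x : H) (hx : x ^ (2 ^ (k + 1)) = 1)
    (hfix : ∀ g : H, g⁻¹ * x ^ (2 ^ k) * g ∉ A) : cosetSign A x = -1 := by
  letI := Fintype.ofFinite (H ⧸ A)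
  letI : DecidableEq (H ⧸ A) := Classical.decEq _
  show Equiv.Perm.sign (MulAction.toPermHom H (H ⧸ A) x) = -1
  apply perm_sign_neg_one _ k r hr
  · rw [← Nat.card_eq_fintype_card]; exact hidx
  · rw [← map_pow, hx, map_one]
  · intro ω
    induction ω using QuotientGroup.induction_on with
    | H g =>
      rw [← map_pow, MulAction.toPermHom_apply, MulAction.toPerm_apply]
      intro h
      apply hfix g
      have h' : ((x ^ (2 ^ k) * g : H) : H ⧸ A) = (g : H ⧸ A) := h
      have := QuotientGroup.eq.mp h'.symm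
      rwa [← mul_assoc] at this

theorem units_eq_one_of_coprime (u : ℤˣ) (n : ℕ) (hn : Nat.Coprime n 2) (h : u ^ n = 1) : u = 1 := by
  rcases Int.units_eq_one_or u with h1 | h1
  · exact h1
  · exfalso
    rw [h1] at h
    have hodd : Odd n := Nat.odd_iff.mpr (by
      rcases Nat.mod_two_eq_zero_or_one n with h0 | h0
      · exfalso
        have : 2 ∣ n := Nat.dvd_of_mod_eq_zero h0
        have := Nat.Coprime.eq_one_of_dvd hn.symm this
        omega
      · exact h0)
    rw [hodd.neg_one_pow] at h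
    exact absurd h (by decide)

theorem pResidual_le_ker {G : Type*} [Group G] (φ : G →* ℤˣ) : Cfsg.pResidual 2 G ≤ φ.ker := by
  rw [Cfsg.pResidual, closure_le]
  intro g hg
  have hg' : Nat.Coprime (orderOf g) 2 := hg
  show φ g = 1
  apply units_eq_one_of_coprime _ _ hg'
  rw [← map_pow, pow_orderOf_eq_one, map_one]

theorem pResidual_le_map_ker {G : Type*} [Group G] (H : Subgroup G) (hNH : Cfsg.pResidual 2 G ≤ H)
    (φ : ↥H →* ℤˣ) : Cfsg.pResidual 2 G ≤ (φ.ker).map H.subtype := by
  intro g hg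
  have hgH : g ∈ H := hNH hg
  refine ⟨⟨g, hgH⟩, ?_, rfl⟩
  revert hgH
  suffices h : ∀ g ∈ Cfsg.pResidual 2 G, ∀ hgH : g ∈ H, (⟨g, hgH⟩ : ↥H) ∈ φ.ker from h g hg
  intro g hg
  induction hg using Subgroup.closure_induction with
  | mem x hx =>
    intro hxH
    have hx' : Nat.Coprime (orderOf x) 2 := hx
    show φ ⟨x, hxH⟩ = 1
    apply units_eq_one_of_coprime _ _ hx'
    rw [← map_pow]
    have : (⟨x, hxH⟩ : ↥H) ^ orderOf x = 1 := Subtype.ext (by simp [pow_orderOf_eq_one])
    rw [this, map_one]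
  | one => intro _; exact one_mem _
  | mul x y hx hy ihx ihy =>
    intro hxy
    have hxH : x ∈ H := hNH hx
    have hyH : y ∈ H := hNH hy
    have : (⟨x * y, hxy⟩ : ↥H) = ⟨x, hxH⟩ * ⟨y, hyH⟩ := rfl
    rw [this]
    exact mul_mem (ihx hxH) (ihy hyH)
  | inv x hx ihx =>
    intro hxi
    have hxH : x ∈ H := hNH hx
    have : (⟨x⁻¹, hxi⟩ : ↥H) = (⟨x, hxH⟩ : ↥H)⁻¹ := rfl
    rw [this]
    exact inv_mem (ihx hxH)


/-- the kernel of a surjective sign character has relative index 2 -/
theorem relIndex_map_ker {G : Type*} [Group G] (H : Subgroup G) (φ : ↥H →* ℤˣ) (x : ↥H)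
    (hx : φ x = -1) : ((φ.ker).map H.subtype).relIndex H = 2 := by
  have h1 : ((φ.ker).map H.subtype).subgroupOf H = φ.ker := by
    ext y
    rw [Subgroup.mem_subgroupOf]
    constructor
    · rintro ⟨z, hz, hzy⟩
      have : z = y := Subtype.ext hzy
      rwa [← this]
    · intro hy
      exact ⟨y, hy, rfl⟩
  rw [Subgroup.relIndex, h1, Subgroup.index_ker]
  have hr : φ.range = ⊤ := by
    rw [eq_top_iff]
    intro u _
    rcases Int.units_eq_one_or u with h | h
    · rw [h]; exact one_mem _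
    · rw [h]; exact ⟨x, hx⟩
  rw [hr, Subgroup.card_top]
  simp

/-- the chain argument: a cyclic 2-subgroup `⟨x⟩` whose involution is not conjugate into `T`
meets `O^2(G)` trivially, when `⟨x⟩` has the right order. -/
theorem chain {G : Type*} [Group G] [Finite G] (T : Subgroup G) (hTN : T ≤ Cfsg.pResidual 2 G) :
    ∀ k : ℕ, ∀ H : Subgroup G, Cfsg.pResidual 2 G ≤ H → ∀ x ∈ H, x ^ (2 ^ (k + 1)) = 1 →
      (∀ g : G, g⁻¹ * x ^ (2 ^ k) * g ∉ T) → (∃ r, Odd r ∧ T.relIndex H = 2 ^ (k + 1) * r) →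
      x ^ (2 ^ k) ∉ Cfsg.pResidual 2 G := by
  intro k
  induction k with
  | zero =>
    intro H hNH x hxH hx hfix ⟨r, hr, hidx⟩
    have hφ : cosetSign (T.subgroupOf H) ⟨x, hxH⟩ = -1 := by
      apply cosetSign_eq_neg_one _ 0 r hr hidx
      · exact Subtype.ext (by simpa using hx)
      · intro g hg
        apply hfix (g : G)
        rw [Subgroup.mem_subgroupOf] at hg
        simpa using hg
    intro hxN
    have := pResidual_le_map_ker H hNH (cosetSign (T.subgroupOf H)) hxN
    obtain ⟨z, hz, hzx⟩ := this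
    have hzx' : z = ⟨x, hxH⟩ := Subtype.ext (by simpa using hzx)
    rw [hzx'] at hz
    have : cosetSign (T.subgroupOf H) ⟨x, hxH⟩ = 1 := hz
    rw [hφ] at this
    exact absurd this (by decide)
  | succ k ih =>
    intro H hNH x hxH hx hfix ⟨r, hr, hidx⟩
    have hφ : cosetSign (T.subgroupOf H) ⟨x, hxH⟩ = -1 := by
      apply cosetSign_eq_neg_one _ (k + 1) r hr hidx
      · exact Subtype.ext (by simpa using hx)
      · intro g hg
        apply hfix (g : G)
        rw [Subgroup.mem_subgroupOf] at hg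
        simpa using hg
    set M : Subgroup G := ((cosetSign (T.subgroupOf H)).ker).map H.subtype with hM
    have hNM : Cfsg.pResidual 2 G ≤ M := pResidual_le_map_ker H hNH _
    have hMH : M ≤ H := by
      rintro _ ⟨z, -, rfl⟩
      exact z.2
    have hTM : T ≤ M := hTN.trans hNM
    have hMidx : M.relIndex H = 2 := relIndex_map_ker H _ ⟨x, hxH⟩ hφ
    have hx2M : x ^ 2 ∈ M := by
      refine ⟨⟨x, hxH⟩ ^ 2, ?_, by simp⟩
      show cosetSign (T.subgroupOf H) (⟨x, hxH⟩ ^ 2) = 1
      rw [map_pow, hφ]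
      decide
    have hpow : ∀ j : ℕ, (x ^ 2) ^ (2 ^ j) = x ^ (2 ^ (j + 1)) := by
      intro j
      rw [← pow_mul, pow_succ, mul_comm]
    have := ih M hNM (x ^ 2) hx2M (by rw [hpow]; exact hx) (by rw [hpow]; exact hfix)
      ⟨r, hr, by
        have h3 := Subgroup.relIndex_mul_relIndex T M H hTM hMH
        rw [hMidx, hidx] at h3
        have : 2 ^ (k + 1 + 1) * r = (2 ^ (k + 1) * r) * 2 := by ring
        rw [this] at h3
        exact Nat.eq_of_mul_eq_mul_right (by norm_num) h3⟩
    rwa [hpow] at this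


/-- outside a cyclic subgroup of index 2 of a dihedral group, every element is an involution -/
theorem dihedral_orderOf_eq_two {n : ℕ} (hn : 2 ≤ n) (C' : Subgroup (DihedralGroup n))
    (hC : IsCyclic ↥C') (hidx : C'.index = 2) (y : DihedralGroup n) (hy : y ∉ C') :
    orderOf y = 2 := by
  haveI : NeZero n := ⟨by omega⟩
  obtain ⟨g, hg⟩ := hC.exists_generator
  have hcard : Nat.card C' = n := by
    have h1 := Subgroup.card_mul_index C'
    rw [hidx, DihedralGroup.nat_card] at h1
    omega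
  have hordg : orderOf (g : DihedralGroup n) = n := by
    rw [Subgroup.orderOf_coe, orderOf_eq_card_of_forall_mem_zpowers hg, hcard]
  cases y with
  | sr i => exact DihedralGroup.orderOf_sr i
  | r i =>
    rcases hgv : (g : DihedralGroup n) with j | j
    · -- generator is a rotation: `C'` is the rotation subgroup
      exfalso
      apply hy
      have hle : zpowers (DihedralGroup.r j : DihedralGroup n) ≤ zpowers (DihedralGroup.r 1) := by
        rw [zpowers_le]
        obtain ⟨m, hm⟩ : ∃ m : ℤ, (m : ZMod n) = j := ZMod.intCast_surjective j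
        exact Subgroup.mem_zpowers_iff.mpr ⟨m, by rw [DihedralGroup.r_one_zpow, hm]⟩
      have heq : zpowers (DihedralGroup.r j : DihedralGroup n) = zpowers (DihedralGroup.r 1) := by
        apply Subgroup.eq_of_le_of_card_ge hle
        rw [Nat.card_zpowers, Nat.card_zpowers, DihedralGroup.orderOf_r_one, ← hgv, hordg]
      have hri : (DihedralGroup.r i : DihedralGroup n) ∈ zpowers (DihedralGroup.r j) := by
        rw [heq]
        obtain ⟨m, hm⟩ : ∃ m : ℤ, (m : ZMod n) = i := ZMod.intCast_surjective i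
        exact Subgroup.mem_zpowers_iff.mpr ⟨m, by rw [DihedralGroup.r_one_zpow, hm]⟩
      have hjC : (DihedralGroup.r j : DihedralGroup n) ∈ C' := by rw [← hgv]; exact g.2
      exact (zpowers_le.mpr hjC) hri
    · -- generator is a reflection: `n = 2`
      have h2 : n = 2 := by
        rw [← hordg, hgv, DihedralGroup.orderOf_sr]
      subst h2
      apply orderOf_eq_prime
      · rw [pow_two, DihedralGroup.r_mul_r]
        have : i + i = 0 := CharTwo.add_self_eq_zero i
        rw [this]; rfl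
      · intro h
        apply hy
        rw [h]; exact one_mem _


theorem index_ker_eq_two {G : Type*} [Group G] (φ : G →* ℤˣ) (x : G) (hx : φ x = -1) :
    φ.ker.index = 2 := by
  rw [Subgroup.index_ker]
  have hr : φ.range = ⊤ := by
    rw [eq_top_iff]
    intro u _
    rcases Int.units_eq_one_or u with h | h
    · rw [h]; exact one_mem _
    · rw [h]; exact ⟨x, hx⟩
  rw [hr, Subgroup.card_top]
  simp

/-- two `2`-subgroups of odd relative index have the same order -/
theorem card_eq_of_sylow_like {G : Type*} [Group G] [Finite G] (L T T' : Subgroup G)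
    (hTL : T ≤ L) (hT2 : IsPGroup 2 T) (hTsyl : ¬ 2 ∣ T.relIndex L)
    (hTL' : T' ≤ L) (hT2' : IsPGroup 2 T') (hTsyl' : ¬ 2 ∣ T'.relIndex L) :
    Nat.card T' = Nat.card T := by
  have key : ∀ A B : Subgroup G, A ≤ L → B ≤ L → IsPGroup 2 A → IsPGroup 2 B →
      ¬ 2 ∣ A.relIndex L → Nat.card B ∣ Nat.card A := by
    intro A B hA hB hA2 hB2 hAs
    obtain ⟨a, ha⟩ := hA2.exists_card_eq
    obtain ⟨b, hb⟩ := hB2.exists_card_eq
    have h1 := Subgroup.relIndex_mul_relIndex ⊥ A L bot_le hA
    have h2 := Subgroup.relIndex_mul_relIndex ⊥ B L bot_le hB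
    rw [Subgroup.relIndex_bot_left, Subgroup.relIndex_bot_left] at h1 h2
    have h3 : Nat.card B ∣ Nat.card A * A.relIndex L := by
      rw [h1, ← h2]; exact dvd_mul_right _ _
    have hcop : Nat.Coprime (Nat.card B) (A.relIndex L) := by
      rw [hb]
      apply Nat.Coprime.pow_left
      exact (Nat.Prime.coprime_iff_not_dvd Nat.prime_two).mpr hAs
    exact hcop.dvd_of_dvd_mul_right h3
  exact Nat.dvd_antisymm (key T T' hTL hTL' hT2 hT2' hTsyl) (key T' T hTL' hTL hT2' hT2 hTsyl')


theorem result {G : Type*} [Group G] [Finite G] (L T S D C : Subgroup G) (hL : Cfsg.pResidual 2 ↥L = ⊤)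
    (hTL : T ≤ L) (hT2 : IsPGroup 2 T) (hTsyl : ¬ 2 ∣ T.relIndex L)
    (hS2 : IsPGroup 2 S) (hSsyl : ¬ 2 ∣ S.index) (hTS : T ≤ S)
    (hDS : D ≤ S) (hDih : ∃ n : ℕ, 2 ≤ n ∧ Nonempty (↥D ≃* DihedralGroup n)) (hDT : D ⊓ T = ⊥) (hTD : T ⊔ D = S) (hTDc : Nat.card T * Nat.card D = Nat.card S)
    (hCD : C ≤ D) (hC : IsCyclic ↥C) (hCi : C.relIndex D = 2)
    (h1 : ∀ x ∈ D, x ∉ C → orderOf x = 2 → ∀ g : G, g * x * g⁻¹ ∈ T ⊔ C → False)
    (h2 : ∀ c ∈ C, orderOf c = 2 → ∀ g : G, g * c * g⁻¹ ∈ T → False) :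
    ∃ K : Subgroup G, K.Normal ∧ K ⊔ D = ⊤ ∧
      ∀ T' : Subgroup G, T' ≤ L → IsPGroup 2 T' → ¬ 2 ∣ T'.relIndex L → T' ≤ K ∧ ¬ 2 ∣ T'.relIndex K := by
  haveI : Fact (Nat.Prime 2) := ⟨Nat.prime_two⟩
  set N := Cfsg.pResidual 2 G with hN
  haveI hNn : N.Normal := Cfsg.Agent.Lib.Helper12.pResidual_normal' 2 G
  -- (1) `L ≤ N`
  have hLN : L ≤ N := by
    intro l hl
    have hmem : (⟨l, hl⟩ : ↥L) ∈ Cfsg.pResidual 2 ↥L := by rw [hL]; exact mem_top _
    have key : ∀ y ∈ Cfsg.pResidual 2 ↥L, (y : G) ∈ N := by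
      intro y hy
      induction hy using Subgroup.closure_induction with
      | mem x hx =>
        apply Subgroup.subset_closure
        show Nat.Coprime (orderOf (x : G)) 2
        rw [Subgroup.orderOf_coe]; exact hx
      | one => exact one_mem _
      | mul x y _ _ hx hy => exact mul_mem hx hy
      | inv x _ hx => exact inv_mem hx
    exact key _ hmem
  have hTN : T ≤ N := hTL.trans hLN
  -- generator of `C`
  obtain ⟨c, hc⟩ := (Subgroup.isCyclic_iff_exists_zpowers_eq_top C).mp hC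
  have hcC : c ∈ C := hc ▸ mem_zpowers c
  have hcD : c ∈ D := hCD hcC
  -- elements of `D \ C` are involutions
  have hinv : ∀ y ∈ D, y ∉ C → orderOf y = 2 := by
    intro y hyD hyC
    obtain ⟨n, hn, ⟨e⟩⟩ := hDih
    have hmap : (C.subgroupOf D).map e.toMonoidHom = zpowers (e ⟨c, hcD⟩) := by
      have h0 : C.subgroupOf D = zpowers (⟨c, hcD⟩ : ↥D) := by
        ext z
        rw [Subgroup.mem_subgroupOf, ← hc, Subgroup.mem_zpowers_iff, Subgroup.mem_zpowers_iff]
        constructor
        · rintro ⟨k, hk⟩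
          exact ⟨k, Subtype.ext (by simpa using hk)⟩
        · rintro ⟨k, hk⟩
          exact ⟨k, by rw [← hk]; simp⟩
      rw [h0, MonoidHom.map_zpowers]
      rfl
    have := dihedral_orderOf_eq_two hn ((C.subgroupOf D).map e.toMonoidHom)
      (by rw [hmap]; infer_instance)
      (by rw [Subgroup.index_map_of_bijective e.bijective]; exact hCi) (e ⟨y, hyD⟩)
      (by
        rintro ⟨z, hz, hzy⟩
        have hzy' : z = ⟨y, hyD⟩ := e.injective hzy
        rw [hzy'] at hz
        exact hyC (Subgroup.mem_subgroupOf.mp hz))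
    rw [MulEquiv.orderOf_eq, Subgroup.orderOf_mk] at this
    exact this
  -- an element of `D \ C`
  obtain ⟨x₀, hx₀D, hx₀C⟩ : ∃ x ∈ D, x ∉ C := by
    by_contra hcon
    have hDC : D ≤ C := by
      intro x hx
      by_contra hxC
      exact hcon ⟨x, hx, hxC⟩
    have : C.relIndex D = 1 := Subgroup.relIndex_eq_one.mpr hDC
    omega
  -- the subgroup `S₁ = T ⊔ C` of index 2 in `S`
  have hCS : C ≤ S := hCD.trans hDS
  have hS₁S : T ⊔ C ≤ S := sup_le hTS hCS
  have hx₀S₁ : x₀ ∉ T ⊔ C := fun h =>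
    h1 x₀ hx₀D hx₀C (hinv x₀ hx₀D hx₀C) 1 (by simpa using h)
  have hcardD : Nat.card C * 2 = Nat.card D := by
    have := Subgroup.relIndex_mul_relIndex ⊥ C D bot_le hCD
    rwa [Subgroup.relIndex_bot_left, Subgroup.relIndex_bot_left, hCi] at this
  have hTpos : 0 < Nat.card T := Nat.card_pos
  have hCpos : 0 < Nat.card C := Nat.card_pos
  have hTrelS : T.relIndex S = Nat.card D := by
    have := Subgroup.relIndex_mul_relIndex ⊥ T S bot_le hTS
    rw [Subgroup.relIndex_bot_left, Subgroup.relIndex_bot_left, ← hTDc] at this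
    exact Nat.eq_of_mul_eq_mul_left hTpos this
  have hS₁idx : (T ⊔ C).relIndex S = 2 := by
    have hab := Subgroup.relIndex_mul_relIndex T (T ⊔ C) S le_sup_left hS₁S
    rw [hTrelS, ← hcardD] at hab
    have ha : Nat.card C ≤ T.relIndex (T ⊔ C) := by
      have hTC : T ⊓ C = ⊥ := by
        rw [eq_bot_iff, ← hDT]
        exact le_inf (inf_le_right.trans hCD) inf_le_left
      have h3 : T.relIndex C ≤ T.relIndex (T ⊔ C) :=
        Subgroup.relIndex_le_of_le_right le_sup_right (by
          rw [Subgroup.relIndex]; exact Subgroup.index_ne_zero_of_finite)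
      rwa [← Subgroup.inf_relIndex_right, hTC, Subgroup.relIndex_bot_left] at h3
    have hb1 : (T ⊔ C).relIndex S ≠ 1 := by
      intro h
      exact hx₀S₁ (Subgroup.relIndex_eq_one.mp h (hDS hx₀D))
    have hb0 : (T ⊔ C).relIndex S ≠ 0 := by
      rw [Subgroup.relIndex]; exact Subgroup.index_ne_zero_of_finite
    by_contra hb2
    have hb3 : 3 ≤ (T ⊔ C).relIndex S := by omega
    nlinarith
  have hSodd : Odd S.index := Nat.not_even_iff_odd.mp (fun h => hSsyl h.two_dvd)
  have hS₁index : (T ⊔ C).index = 2 ^ (0 + 1) * S.index := by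
    rw [← Subgroup.relIndex_mul_index hS₁S, hS₁idx]
    norm_num
  -- the sign character
  set φ := cosetSign (T ⊔ C) with hφdef
  have hφ : ∀ x ∈ D, x ∉ C → φ x = -1 := by
    intro x hxD hxC
    have hx2 := hinv x hxD hxC
    apply cosetSign_eq_neg_one (T ⊔ C) 0 S.index hSodd hS₁index x
    · rw [← hx2]; simpa using pow_orderOf_eq_one x
    · intro g hg
      apply h1 x hxD hxC hx2 g⁻¹
      simpa using hg
  have hNker : N ≤ φ.ker := pResidual_le_ker φ
  have hφc : φ c = 1 := by
    rcases Int.units_eq_one_or (φ c) with h | h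
    · exact h
    · exfalso
      have hcx : c * x₀ ∈ D := mul_mem hcD hx₀D
      have hcxC : c * x₀ ∉ C := by
        intro hh
        apply hx₀C
        have : x₀ = c⁻¹ * (c * x₀) := by group
        rw [this]
        exact mul_mem (inv_mem hcC) hh
      have h3 := hφ (c * x₀) hcx hcxC
      rw [map_mul, h, hφ x₀ hx₀D hx₀C] at h3
      exact absurd h3 (by decide)
  have hcM : c ∈ φ.ker := hφc
  have hTM : T ≤ φ.ker := hTN.trans hNker
  have hMidx : φ.ker.index = 2 := index_ker_eq_two φ x₀ (hφ x₀ hx₀D hx₀C)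
  -- order of `C`
  obtain ⟨m, hm⟩ := (hS2.to_le hCS).exists_card_eq
  have hm0 : m ≠ 0 := by
    rintro rfl
    obtain ⟨n, hn, ⟨e⟩⟩ := hDih
    have h3 : Nat.card D = 2 * n := by
      rw [Nat.card_congr e.toEquiv, DihedralGroup.nat_card]
    rw [pow_zero] at hm
    omega
  obtain ⟨k, rfl⟩ := Nat.exists_eq_succ_of_ne_zero hm0
  have hordc : orderOf c = 2 ^ (k + 1) := by
    rw [← Nat.card_zpowers, hc, hm]
  have hTrelM : T.relIndex φ.ker = 2 ^ (k + 1) * S.index := by
    have h3 := Subgroup.relIndex_mul_index hTM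
    have h4 := Subgroup.relIndex_mul_index hTS
    rw [hTrelS, ← hcardD, hm] at h4
    rw [hMidx, ← h4] at h3
    have : 2 ^ (k + 1) * 2 * S.index = (2 ^ (k + 1) * S.index) * 2 := by ring
    rw [this] at h3
    exact Nat.eq_of_mul_eq_mul_right (by norm_num) h3
  have hc₀ord : orderOf (c ^ 2 ^ k) = 2 := by
    rw [orderOf_pow_of_dvd (by positivity) (by rw [hordc]; exact pow_dvd_pow 2 (Nat.le_succ k)),
      hordc, pow_succ]
    exact Nat.mul_div_cancel_left _ (by positivity)
  have hc₀N : c ^ 2 ^ k ∉ N := by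
    apply chain T hTN k φ.ker hNker c hcM
    · rw [← hordc]; exact pow_orderOf_eq_one c
    · intro g hg
      apply h2 (c ^ 2 ^ k) (pow_mem hcC _) hc₀ord g⁻¹
      simpa using hg
    · exact ⟨S.index, hSodd, hTrelM⟩
  -- `N ⊓ D = ⊥`
  have hND : N ⊓ D = ⊥ := by
    by_contra hne
    have hP : IsPGroup 2 ↥(N ⊓ D) := hS2.to_le (inf_le_right.trans hDS)
    obtain ⟨j, hj⟩ := hP.exists_card_eq
    have hj0 : j ≠ 0 := by
      rintro rfl
      rw [pow_zero] at hj
      exact hne (Subgroup.card_eq_one.mp hj)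
    have h2dvd : 2 ∣ Nat.card ↥(N ⊓ D) := by rw [hj]; exact dvd_pow_self 2 hj0
    obtain ⟨y, hy⟩ := exists_prime_orderOf_dvd_card' 2 h2dvd
    have hyN : (y : G) ∈ N := y.2.1
    have hyD : (y : G) ∈ D := y.2.2
    have hyord : orderOf (y : G) = 2 := by rw [Subgroup.orderOf_coe]; exact hy
    by_cases hyC : (y : G) ∈ C
    · -- `y` is the involution of `C`
      apply hc₀N
      rw [← hc] at hyC
      obtain ⟨i, hi⟩ := Subgroup.mem_zpowers_iff.mp hyC
      have hy2 : (y : G) ^ 2 = 1 := by rw [← hyord]; exact pow_orderOf_eq_one _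
      have h3 : c ^ (i * 2) = 1 := by
        rw [zpow_mul, hi]; exact_mod_cast hy2
      have h4 : ((2 ^ (k + 1) : ℕ) : ℤ) ∣ i * 2 := by
        rw [← hordc]; exact orderOf_dvd_iff_zpow_eq_one.mpr h3
      have h5 : ((2 ^ k : ℕ) : ℤ) ∣ i := by
        rw [pow_succ] at h4
        push_cast at h4 ⊢
        exact Int.dvd_of_mul_dvd_mul_right (by norm_num) h4
      obtain ⟨t, ht⟩ := h5
      have h6 : (y : G) = (c ^ 2 ^ k) ^ t := by
        rw [← hi, ht, zpow_mul]
        norm_cast
      have hc₀2 : (c ^ 2 ^ k) ^ (2 : ℤ) = 1 := by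
        have := pow_orderOf_eq_one (c ^ 2 ^ k)
        rw [hc₀ord] at this
        exact_mod_cast this
      rcases Int.even_or_odd' t with ⟨u, hu | hu⟩
      · exfalso
        rw [hu, zpow_mul, hc₀2, one_zpow] at h6
        rw [h6, orderOf_one] at hyord
        omega
      · rw [hu, zpow_add, zpow_mul, hc₀2, one_zpow, one_mul, zpow_one] at h6
        rw [← h6]; exact hyN
    · have h3 := hφ (y : G) hyD hyC
      have h4 : φ (y : G) = 1 := hNker hyN
      rw [h3] at h4
      exact absurd h4 (by decide)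
  -- `N ⊔ D = ⊤`
  have hNDtop : N ⊔ D = ⊤ := by
    have h3 := Cfsg.Agent.Lib.Helper12.sup_pResidual_eq_top S hSsyl
    rw [eq_top_iff, ← h3, ← hTD]
    exact sup_le (sup_le (hTN.trans le_sup_left) le_sup_right) le_sup_left
  -- order of `N`
  have hcardN : Nat.card N = Nat.card T * S.index := by
    have hcompl : Subgroup.IsComplement' N D := by
      apply Subgroup.isComplement'_of_disjoint_and_mul_eq_univ (disjoint_iff.mpr hND)
      rw [← Subgroup.normal_mul, hNDtop, Subgroup.coe_top]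
    have h3 := hcompl.card_mul_card
    have h4 := Subgroup.card_mul_index S
    rw [← h4, ← hTDc] at h3
    have hDpos : 0 < Nat.card D := Nat.card_pos
    have : Nat.card N * Nat.card D = (Nat.card T * S.index) * Nat.card D := by
      rw [h3]; ring
    exact Nat.eq_of_mul_eq_mul_right hDpos this
  refine ⟨N, hNn, hNDtop, ?_⟩
  intro T' hT'L hT'2 hT'syl
  have hT'N : T' ≤ N := hT'L.trans hLN
  refine ⟨hT'N, ?_⟩
  have hcardT' := card_eq_of_sylow_like L T T' hTL hT2 hTsyl hT'L hT'2 hT'syl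
  have h3 := Subgroup.relIndex_mul_relIndex ⊥ T' N bot_le hT'N
  rw [Subgroup.relIndex_bot_left, Subgroup.relIndex_bot_left, hcardN, hcardT'] at h3
  have h4 : T'.relIndex N = S.index := Nat.eq_of_mul_eq_mul_left hTpos h3
  rw [h4]
  exact hSsyl

end Cfsg.Agent.S1924
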