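import Cfsg.Statements.S1939
import Cfsg.Agent.Lib.Helper12.Basic

set_option autoImplicit false
open Cfsg

namespace Cfsg.Agent.S1939

/-- Let S be a Sylow p-subgroup of the finite group G and a an element of S that is the only G-conjugate of a lying in S. Then every power of a has the same property: for every n, the only G-conjugate of a^n lying in S is a^n. -/
theorem result {G : Type*} [Group G] [Finite G] {p : ℕ} [Fact p.Prime] (S : Sylow p G) (a : G)
    (haS : a ∈ (S : Subgroup G)) (hwc : ∀ g : G, g * a * g⁻¹ ∈ (S : Subgroup G) → g * a * g⁻¹ = a) (n : ℕ) :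
    ∀ g : G, g * a ^ n * g⁻¹ ∈ (S : Subgroup G) → g * a ^ n * g⁻¹ = a ^ n := by
  intro g hg
  -- a is central in S
  have hcen : ∀ s ∈ (S : Subgroup G), s * a = a * s := by
    intro s hs
    have h1 : s * a * s⁻¹ ∈ (S : Subgroup G) :=
      (S : Subgroup G).mul_mem ((S : Subgroup G).mul_mem hs haS) ((S : Subgroup G).inv_mem hs)
    have h2 := hwc s h1
    calc s * a = s * a * s⁻¹ * s := by group
      _ = a * s := by rw [h2]
  set y := g * a ^ n * g⁻¹ with hy
  -- the conjugate Sylow subgroup g • S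
  let S' : Sylow p G := g • S
  have hS'mem : ∀ s ∈ (S : Subgroup G), g * s * g⁻¹ ∈ (S' : Subgroup G) := by
    intro s hs
    show g * s * g⁻¹ ∈ ((g • S : Sylow p G) : Subgroup G)
    rw [Sylow.coe_subgroup_smul]
    exact Subgroup.smul_mem_pointwise_smul _ (MulAut.conj g) _ hs
  have hS'mem' : ∀ t ∈ (S' : Subgroup G), g⁻¹ * t * g ∈ (S : Subgroup G) := by
    intro t ht
    have ht' : t ∈ ((g • S : Sylow p G) : Subgroup G) := ht
    rw [Sylow.coe_subgroup_smul, Subgroup.mem_pointwise_smul_iff_inv_smul_mem] at ht'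
    simpa [MulAut.smul_def, MulAut.conj_apply, mul_assoc] using ht'
  -- C = centralizer of y
  let C : Subgroup G := Subgroup.centralizer ({y} : Set G)
  have hS'C : (S' : Subgroup G) ≤ C := by
    intro t ht
    have hs := hS'mem' t ht
    have hcomm : (g⁻¹ * t * g) * a ^ n = a ^ n * (g⁻¹ * t * g) :=
      ((Commute.pow_right (hcen _ hs) n)).eq
    rw [Subgroup.mem_centralizer_iff]
    intro z hz
    rw [Set.mem_singleton_iff] at hz
    subst hz
    -- y * t = t * y
    have : g * ((g⁻¹ * t * g) * a ^ n) * g⁻¹ = g * (a ^ n * (g⁻¹ * t * g)) * g⁻¹ := by rw [hcomm]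
    calc y * t = g * (a ^ n * (g⁻¹ * t * g)) * g⁻¹ := by rw [hy]; group
      _ = g * ((g⁻¹ * t * g) * a ^ n) * g⁻¹ := this.symm
      _ = t * y := by rw [hy]; group
  have haC : a ∈ C := by
    rw [Subgroup.mem_centralizer_iff]
    intro z hz
    rw [Set.mem_singleton_iff] at hz
    subst hz
    exact hcen y hg
  -- zpowers a is a p-group inside C
  have hQ : IsPGroup p (Subgroup.zpowers a) := S.2.to_le (by
    rw [Subgroup.zpowers_le]; exact haS)
  have hQC : Subgroup.zpowers a ≤ C := by rw [Subgroup.zpowers_le]; exact haC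
  obtain ⟨c, hcC, hc⟩ := Cfsg.Agent.Lib.Helper12.exists_conj_mem_sylow S' C (Subgroup.zpowers a) hS'C hQC hQ
  have h1 : c * a * c⁻¹ ∈ (S' : Subgroup G) := hc a (Subgroup.mem_zpowers a)
  have h2 : g⁻¹ * (c * a * c⁻¹) * g ∈ (S : Subgroup G) := hS'mem' _ h1
  have h3 : (g⁻¹ * c) * a * (g⁻¹ * c)⁻¹ ∈ (S : Subgroup G) := by
    have : (g⁻¹ * c) * a * (g⁻¹ * c)⁻¹ = g⁻¹ * (c * a * c⁻¹) * g := by group
    rw [this]; exact h2
  have h4 := hwc _ h3
  -- so c a c⁻¹ = g a g⁻¹
  have h5 : c * a * c⁻¹ = g * a * g⁻¹ := by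
    have : c * a * c⁻¹ = g * ((g⁻¹ * c) * a * (g⁻¹ * c)⁻¹) * g⁻¹ := by group
    rw [this, h4]
  have h6 : c * a ^ n * c⁻¹ = y := by
    rw [hy]
    have e1 : c * a ^ n * c⁻¹ = (c * a * c⁻¹) ^ n := by rw [conj_pow]
    have e2 : g * a ^ n * g⁻¹ = (g * a * g⁻¹) ^ n := by rw [conj_pow]
    rw [e1, e2, h5]
  -- c commutes with y
  have h7 : y * c = c * y := by
    have := (Subgroup.mem_centralizer_iff.mp hcC) y (Set.mem_singleton y)
    exact this
  -- conclude
  have h8 : a ^ n = c⁻¹ * y * c := by rw [← h6]; group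
  calc y = c⁻¹ * (c * y) := by group
    _ = c⁻¹ * (y * c) := by rw [h7]
    _ = c⁻¹ * y * c := by group
    _ = a ^ n := h8.symm

end Cfsg.Agent.S1939
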