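import Cfsg.Statements.S1940
import Mathlib

set_option autoImplicit false
open Cfsg

namespace Cfsg.Agent.S1940

/-- Let the finite group L act by automorphisms on the finite abelian group M, and let N be an L-invariant subgroup of M such that M/N is a p-group on which L acts trivially (every l • m lies in the coset mN). If every element of M is a product of an element of N and an element fixed by a Sylow p-subgroup T of L, then every element of M is a product of an element of N and an element fixed by all of L. -/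
theorem result {L : Type*} [Group L] [Finite L] {M : Type*} [CommGroup M] [Finite M] [MulDistribMulAction L M]
    {p : ℕ} [Fact p.Prime] (N : Subgroup M) (hN : ∀ (l : L) (m : M), m ∈ N → l • m ∈ N)
    (hquot : IsPGroup p (M ⧸ N)) (htriv : ∀ (l : L) (m : M), (l • m) * m⁻¹ ∈ N) (T : Sylow p L)
    (hT : ∀ m : M, ∃ n ∈ N, ∃ c : M, (∀ t ∈ (T : Subgroup L), t • c = c) ∧ m = n * c) :
    ∀ m : M, ∃ n ∈ N, ∃ c : M, (∀ l : L, l • c = c) ∧ m = n * c := by
  classical
  intro m
  obtain ⟨n, hn, c, hc, rfl⟩ := hT m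
  have : Fintype (L ⧸ (T : Subgroup L)) := Fintype.ofFinite _
  -- the averaged element
  let c' : M := ∏ q : L ⧸ (T : Subgroup L), (Quotient.out q : L) • c
  -- L-invariance
  have hstep : ∀ (l : L) (q : L ⧸ (T : Subgroup L)), (l * (Quotient.out q : L)) • c = (Quotient.out (l • q) : L) • c := by
    intro l q
    have h1 : ((Quotient.out (l • q) : L))⁻¹ * (l * (Quotient.out q : L)) ∈ (T : Subgroup L) := by
      rw [← QuotientGroup.eq]
      have : (QuotientGroup.mk (Quotient.out (l • q)) : L ⧸ (T : Subgroup L)) = l • q := Quotient.out_eq' _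
      rw [this]
      have h2 : (QuotientGroup.mk (l * (Quotient.out q : L)) : L ⧸ (T : Subgroup L)) = l • (QuotientGroup.mk (Quotient.out q : L) : L ⧸ (T : Subgroup L)) := rfl
      rw [h2]
      congr 1
      exact (Quotient.out_eq' q).symm
    have h3 := hc _ h1
    calc (l * (Quotient.out q : L)) • c
        = ((Quotient.out (l • q) : L) * (((Quotient.out (l • q) : L))⁻¹ * (l * (Quotient.out q : L)))) • c := by
          congr 1; group
      _ = (Quotient.out (l • q) : L) • c := by rw [mul_smul, h3]
  have hinv : ∀ l : L, l • c' = c' := by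
    intro l
    show l • (∏ q : L ⧸ (T : Subgroup L), (Quotient.out q : L) • c) = ∏ q : L ⧸ (T : Subgroup L), (Quotient.out q : L) • c
    rw [Finset.smul_prod']
    simp only [← mul_smul]
    simp only [hstep]
    exact Equiv.prod_comp (MulAction.toPerm l : Equiv.Perm (L ⧸ (T : Subgroup L))) (fun q => (Quotient.out q : L) • c)
  -- image in the quotient
  let k : ℕ := Nat.card (L ⧸ (T : Subgroup L))
  have hmk : ∀ (l : L) (x : M), (QuotientGroup.mk (l • x) : M ⧸ N) = QuotientGroup.mk x := by
    intro l x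
    rw [QuotientGroup.eq]
    have h1 := N.inv_mem (htriv l x)
    have h2 : (l • x)⁻¹ * x = (l • x * x⁻¹)⁻¹ := by rw [mul_inv_rev, inv_inv, mul_comm]
    rw [h2]; exact h1
  have hc'k : (QuotientGroup.mk c' : M ⧸ N) = (QuotientGroup.mk c) ^ k := by
    show (QuotientGroup.mk' N) (∏ q : L ⧸ (T : Subgroup L), (Quotient.out q : L) • c) = _
    rw [map_prod]
    simp only [QuotientGroup.mk'_apply, hmk]
    rw [Finset.prod_const, Finset.card_univ]
    show _ = _ ^ Nat.card (L ⧸ (T : Subgroup L))
    rw [Nat.card_eq_fintype_card]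
  have hk : (Nat.card (M ⧸ N)).Coprime k := by
    obtain ⟨a, ha⟩ := IsPGroup.iff_card.mp hquot
    rw [ha]
    apply Nat.Coprime.pow_left
    have : ¬ p ∣ (T : Subgroup L).index := T.not_dvd_index
    exact (Nat.Prime.coprime_iff_not_dvd (Fact.out)).mpr this
  let j : ℤ := (Nat.card (M ⧸ N)).gcdB k
  have hj : ((QuotientGroup.mk c : M ⧸ N) ^ k) ^ j = QuotientGroup.mk c := (powCoprime hk).left_inv _
  have hmkeq : (QuotientGroup.mk (c' ^ j) : M ⧸ N) = QuotientGroup.mk c := by
    rw [QuotientGroup.mk_zpow, hc'k, hj]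
  refine ⟨n * (c * (c' ^ j)⁻¹), N.mul_mem hn ?_, c' ^ j, ?_, ?_⟩
  · have h1 := QuotientGroup.eq.mp hmkeq
    have h2 := N.inv_mem h1
    have h3 : c * (c' ^ j)⁻¹ = ((c' ^ j)⁻¹ * c)⁻¹⁻¹ := by rw [inv_inv, mul_comm]
    rw [h3, inv_inv]
    have h4 := N.inv_mem h2
    rw [inv_inv] at h4
    exact h4
  · intro l
    rw [smul_zpow', hinv]
  · simp [mul_assoc]

end Cfsg.Agent.S1940
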