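import Cfsg.Statements.S1941
import Cfsg.Agent.Lib.Helper12.Cocycle
import Cfsg.Agent.Lib.Helper12.Cores
import Cfsg.Agent.Lib.Helper9.FStar
import Cfsg.Agent.Lib.Helper1.Fitting

set_option autoImplicit false
open Cfsg

namespace Cfsg.Agent.S1941

/-- Let G be a finite group with no nontrivial normal subgroup of order prime to p, T a Sylow p-subgroup of G and E(G) the layer of G (the subgroup generated by its components). An automorphism of G of p-power order that fixes T and E(G) elementwise is inner. -/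
theorem result {G : Type*} [Group G] [Finite G] {p : ℕ} [Fact p.Prime] (hcore : Cfsg.pPrimeCore p G = ⊥)
    (T : Sylow p G) (α : MulAut G) (hα : ∃ j : ℕ, orderOf α = p ^ j) (hfixT : ∀ x ∈ (T : Subgroup G), α x = x)
    (hfixE : ∀ x ∈ Cfsg.layer G, α x = x) : ∃ g : G, ∀ x : G, α x = g * x * g⁻¹ := by
  classical
  have hp : p.Prime := Fact.out
  -- `F(G) = O_p(G) ≤ T`
  have hFT : Cfsg.fittingSubgroup G ≤ (T : Subgroup G) := by
    rw [Cfsg.Agent.Lib.Helper1.fittingSubgroup_eq_iSup_pCore]
    apply iSup_le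
    intro q
    by_cases hqp : (q : ℕ) = p
    · rw [hqp]
      exact Cfsg.Agent.Lib.Helper1.pCore_le_sylow T
    · have : Fact (Nat.Prime (q : ℕ)) := ⟨q.2⟩
      have h1 : Cfsg.pCore (q : ℕ) G ≤ Cfsg.pPrimeCore p G := by
        apply Cfsg.Agent.Lib.Helper12.le_pPrimeCore p _ (Cfsg.Agent.Lib.Helper1.pCore_normal _ G)
        obtain ⟨k, hk⟩ := (IsPGroup.iff_card (p := (q : ℕ))).mp
          (Cfsg.Agent.Lib.Helper1.pCore_isPGroup (q : ℕ) G)
        rw [hk]
        exact Nat.Coprime.pow_left k ((Nat.coprime_primes q.2 hp).mpr hqp)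
      rw [hcore] at h1
      exact h1.trans bot_le
  -- `α` fixes `F*(G)` pointwise
  have hfixF : ∀ x ∈ Cfsg.generalizedFittingSubgroup G, α x = x := by
    intro x hx
    unfold Cfsg.generalizedFittingSubgroup at hx
    rw [Subgroup.sup_eq_closure] at hx
    induction hx using Subgroup.closure_induction with
    | mem y hy =>
      rcases hy with hy | hy
      · exact hfixE y hy
      · exact hfixT y (hFT hy)
    | one => exact map_one α
    | mul a b _ _ ha hb => rw [map_mul, ha, hb]
    | inv a _ ha => rw [map_inv, ha]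
  set Fs := Cfsg.generalizedFittingSubgroup G with hFs
  set C := Subgroup.centralizer (Fs : Set G) with hC
  have hCFs : C ≤ Fs := Cfsg.Agent.Lib.Helper9.centralizer_generalizedFittingSubgroup_le
  have hCn : C.Normal := Subgroup.normal_centralizer
  have hCcomm : ∀ a ∈ C, ∀ b ∈ C, a * b = b * a := by
    intro a ha b hb
    exact (Subgroup.mem_centralizer_iff.mp hb a (hCFs ha))
  -- `C ≤ F(G) ≤ T`
  have hCT : C ≤ (T : Subgroup G) := by
    refine le_trans ?_ hFT
    apply Cfsg.Agent.Lib.Helper1.le_fittingSubgroup hCn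
    letI : CommGroup ↥C :=
      { (inferInstance : Group ↥C) with
        mul_comm := fun a b => Subtype.ext (hCcomm a a.2 b b.2) }
    infer_instance
  have hCp : IsPGroup p ↥C := T.2.to_le hCT
  -- the cocycle
  have hδC : ∀ g : G, α g * g⁻¹ ∈ C := by
    intro g
    rw [hC, Subgroup.mem_centralizer_iff]
    intro f hf
    have hf' : g⁻¹ * f * g ∈ Fs := by
      have := (Cfsg.Agent.Lib.Helper9.generalizedFittingSubgroup_normal (G := G)).conj_mem f hf g⁻¹
      simpa using this
    have h1 : α (g * (g⁻¹ * f * g) * g⁻¹) = g * (g⁻¹ * f * g) * g⁻¹ := by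
      apply hfixF
      have e : g * (g⁻¹ * f * g) * g⁻¹ = f := by group
      rw [e]; exact hf
    rw [map_mul, map_mul, hfixF _ hf', map_inv] at h1
    have e2 : g * (g⁻¹ * f * g) * g⁻¹ = f := by group
    rw [e2] at h1
    -- `α g * (g⁻¹ f g) * (α g)⁻¹ = f`
    calc f * (α g * g⁻¹) = (α g * (g⁻¹ * f * g) * (α g)⁻¹) * (α g * g⁻¹) := by rw [h1]
      _ = α g * g⁻¹ * f := by group
  have hidx : ¬ p ∣ (T : Subgroup G).index := T.not_dvd_index
  obtain ⟨z, -, hz⟩ := Cfsg.Agent.Lib.Helper12.cocycle_trivial C (T : Subgroup G) hCcomm hCp hidx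
    (fun g => α g * g⁻¹) hδC
    (by
      intro g h
      show α (g * h) * (g * h)⁻¹ = α g * g⁻¹ * (g * (α h * h⁻¹) * g⁻¹)
      rw [map_mul]
      group)
    (by
      intro t ht
      show α t * t⁻¹ = 1
      rw [hfixT t ht, mul_inv_cancel])
  refine ⟨z, fun x => ?_⟩
  have := hz x
  calc α x = (α x * x⁻¹) * x := by group
    _ = (z * x * z⁻¹ * x⁻¹) * x := by rw [this]
    _ = z * x * z⁻¹ := by group

end Cfsg.Agent.S1941
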