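import Cfsg.Statements.S1944
import Cfsg.Agent.S1907
import Cfsg.Agent.Lib.Helper27.FixedSplit
import Cfsg.Agent.Lib.Helper12.PPrimeP

set_option autoImplicit false
open Cfsg

namespace Cfsg.Agent.S1944
open Cfsg.Agent.Lib.Helper12 Cfsg.Agent.Lib.Helper27

/-- conjugation action of a subgroup `N` on a subgroup `Z` that it normalizes -/
def conjAct {G : Type*} [Group G] (N Z : Subgroup G)
    (hNZ : N ≤ Subgroup.normalizer (Z : Set G)) : ↥N →* MulAut ↥Z where
  toFun n :=
    { toFun := fun z => ⟨(n : G) * z * (n : G)⁻¹, (Subgroup.mem_normalizer_iff.mp (hNZ n.2) z).mp z.2⟩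
      invFun := fun z => ⟨(n : G)⁻¹ * z * (n : G), by
        apply (Subgroup.mem_normalizer_iff.mp (hNZ n.2) _).mpr
        have e : (n : G) * ((n : G)⁻¹ * z * (n : G)) * (n : G)⁻¹ = z := by group
        rw [e]; exact z.2⟩
      left_inv := fun z => by
        apply Subtype.ext
        show (n : G)⁻¹ * ((n : G) * z * (n : G)⁻¹) * (n : G) = z
        group
      right_inv := fun z => by
        apply Subtype.ext
        show (n : G) * ((n : G)⁻¹ * z * (n : G)) * (n : G)⁻¹ = z
        group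
      map_mul' := fun a b => by
        apply Subtype.ext
        show (n : G) * ((a : G) * (b : G)) * (n : G)⁻¹ =
          ((n : G) * a * (n : G)⁻¹) * ((n : G) * b * (n : G)⁻¹)
        group }
  map_one' := by
    apply MulEquiv.ext
    intro z
    apply Subtype.ext
    show ((1 : ↥N) : G) * z * ((1 : ↥N) : G)⁻¹ = z
    simp
  map_mul' := fun a b => by
    apply MulEquiv.ext
    intro z
    apply Subtype.ext
    show ((a * b : ↥N) : G) * z * ((a * b : ↥N) : G)⁻¹ =
      (a : G) * ((b : G) * z * (b : G)⁻¹) * (a : G)⁻¹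
    rw [Subgroup.coe_mul]
    group

theorem conjAct_apply {G : Type*} [Group G] (N Z : Subgroup G)
    (hNZ : N ≤ Subgroup.normalizer (Z : Set G)) (n : ↥N) (z : ↥Z) :
    ((conjAct N Z hNZ n z : ↥Z) : G) = (n : G) * z * (n : G)⁻¹ := rfl

/-- Let S be a Sylow p-subgroup of the finite group G and suppose that the centre Z(S) lies in O_{p',p}(G). The elements of S each of which is its only G-conjugate in S form a subgroup W of Z(S); W is then a direct factor of Z(S): there is a subgroup K of Z(S) with W ∩ K = 1 and WK = Z(S). -/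
theorem result {G : Type*} [Group G] [Finite G] {p : ℕ} [Fact p.Prime] (S : Sylow p G)
    (hZ : ((S : Subgroup G) ⊓ Subgroup.centralizer ((S : Subgroup G) : Set G)) ≤ Cfsg.pPrimePCore p G) :
    ∃ W K : Subgroup G, (∀ x : G, x ∈ W ↔ (x ∈ (S : Subgroup G) ∧ ∀ g : G, g * x * g⁻¹ ∈ (S : Subgroup G) → g * x * g⁻¹ = x)) ∧
      K ≤ ((S : Subgroup G) ⊓ Subgroup.centralizer ((S : Subgroup G) : Set G)) ∧ W ⊓ K = ⊥ ∧ W ⊔ K = ((S : Subgroup G) ⊓ Subgroup.centralizer ((S : Subgroup G) : Set G)) := by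
  classical
  set L := Cfsg.pPrimePCore p G with hL
  set R := (S : Subgroup G) ⊓ L with hR
  set N := Subgroup.normalizer (R : Set G) with hN
  set ZS := (S : Subgroup G) ⊓ Subgroup.centralizer ((S : Subgroup G) : Set G) with hZS
  set ZR := R ⊓ Subgroup.centralizer (R : Set G) with hZR
  have hSN : (S : Subgroup G) ≤ N := sylow_le_normalizer_inf_pPrimePCore S
  have hZSZR : ZS ≤ ZR := by
    intro x hx
    refine Subgroup.mem_inf.mpr ⟨Subgroup.mem_inf.mpr ⟨(Subgroup.mem_inf.mp hx).1, hZ hx⟩, ?_⟩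
    exact Subgroup.centralizer_le (inf_le_left : R ≤ (S : Subgroup G)) (Subgroup.mem_inf.mp hx).2
  -- `N` normalizes `ZR`
  have hconj : ∀ n ∈ N, ∀ z ∈ ZR, n * z * n⁻¹ ∈ ZR := by
    intro n hn z hz
    obtain ⟨hzR, hzC⟩ := Subgroup.mem_inf.mp hz
    refine Subgroup.mem_inf.mpr ⟨(Subgroup.mem_normalizer_iff.mp hn z).mp hzR, ?_⟩
    rw [Subgroup.mem_centralizer_iff]
    intro r hr
    have hr' : n⁻¹ * r * n ∈ R := by
      have := (Subgroup.mem_normalizer_iff.mp (inv_mem hn) r).mp hr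
      simpa using this
    have h1 := Subgroup.mem_centralizer_iff.mp hzC _ hr'
    calc r * (n * z * n⁻¹) = n * ((n⁻¹ * r * n) * z) * n⁻¹ := by group
      _ = n * (z * (n⁻¹ * r * n)) * n⁻¹ := by rw [h1]
      _ = n * z * n⁻¹ * r := by group
  have hNZR : N ≤ Subgroup.normalizer (ZR : Set G) := by
    intro n hn
    rw [Subgroup.mem_normalizer_iff]
    intro z
    constructor
    · exact hconj n hn z
    · intro hz
      have := hconj n⁻¹ (inv_mem hn) _ hz
      have e : n⁻¹ * (n * z * n⁻¹) * n⁻¹⁻¹ = z := by group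
      rwa [e] at this
  have hZRcomm : ∀ a b : ↥ZR, a * b = b * a := by
    intro a b
    apply Subtype.ext
    have ha := (Subgroup.mem_inf.mp a.2).2
    have hb := (Subgroup.mem_inf.mp b.2).1
    have := Subgroup.mem_centralizer_iff.mp ha b hb
    show (a : G) * b = b * a
    exact this.symm
  letI : CommGroup ↥ZR := { (inferInstance : Group ↥ZR) with mul_comm := hZRcomm }
  have hZRp : IsPGroup p ↥ZR := S.2.to_le (inf_le_left.trans inf_le_left)
  let ρ : ↥N →* MulAut ↥ZR := conjAct N ZR hNZR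
  have hidx : ¬ p ∣ ((S : Subgroup G).subgroupOf N).index := sylow_not_dvd_relIndex S N hSN
  obtain ⟨KV, hKV1, hKV2, hKV3⟩ := exists_compl_fixed ρ ((S : Subgroup G).subgroupOf N) hZRp hidx
  -- description of the fixed points
  have hfixS : ∀ z : ↥ZR, z ∈ fixedBySubgroup ρ ((S : Subgroup G).subgroupOf N) ↔ (z : G) ∈ ZS := by
    intro z
    constructor
    · intro hz
      refine Subgroup.mem_inf.mpr ⟨(Subgroup.mem_inf.mp (Subgroup.mem_inf.mp z.2).1).1, ?_⟩
      rw [Subgroup.mem_centralizer_iff]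
      intro s hs
      have h1 := hz ⟨s, hSN hs⟩ (by rw [Subgroup.mem_subgroupOf]; exact hs)
      have h2 : s * (z : G) * s⁻¹ = z := congrArg Subtype.val h1
      calc s * (z : G) = (s * (z : G) * s⁻¹) * s := by group
        _ = z * s := by rw [h2]
    · intro hz n hn
      rw [Subgroup.mem_subgroupOf] at hn
      apply Subtype.ext
      show (n : G) * z * (n : G)⁻¹ = z
      have := Subgroup.mem_centralizer_iff.mp (Subgroup.mem_inf.mp hz).2 n hn
      calc (n : G) * z * (n : G)⁻¹ = (z * (n : G)) * (n : G)⁻¹ := by rw [this]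
        _ = z := by group
  have hfixN : ∀ z : ↥ZR, z ∈ fixedBySubgroup ρ ⊤ ↔ ∀ n ∈ N, n * (z : G) * n⁻¹ = z := by
    intro z
    constructor
    · intro hz n hn
      exact congrArg Subtype.val (hz ⟨n, hn⟩ (Subgroup.mem_top _))
    · intro hz n _
      apply Subtype.ext
      exact hz n n.2
  have hctl := (Cfsg.Agent.S1907.result S).2
  refine ⟨(fixedBySubgroup ρ ⊤).map ZR.subtype, KV.map ZR.subtype, ?_, ?_, ?_, ?_⟩
  · intro x
    constructor
    · rintro ⟨z, hz, rfl⟩
      have hzS : (z : G) ∈ (S : Subgroup G) := (Subgroup.mem_inf.mp (Subgroup.mem_inf.mp z.2).1).1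
      refine ⟨hzS, fun g hg => ?_⟩
      have hg' : g * (z : G) * g⁻¹ ∈ (S : Subgroup G) := hg
      obtain ⟨n, hn, hnx⟩ := hctl (z : G) (g * z * g⁻¹) hzS hg' (isConj_iff.mpr ⟨g, rfl⟩)
      show g * (z : G) * g⁻¹ = (z : G)
      rw [← hnx]
      exact (hfixN z).mp hz n hn
    · rintro ⟨hxS, hx⟩
      have hxZS : x ∈ ZS := by
        refine Subgroup.mem_inf.mpr ⟨hxS, ?_⟩
        rw [Subgroup.mem_centralizer_iff]
        intro s hs
        have h1 := hx s ((S : Subgroup G).mul_mem ((S : Subgroup G).mul_mem hs hxS) ((S : Subgroup G).inv_mem hs))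
        calc s * x = (s * x * s⁻¹) * s := by group
          _ = x * s := by rw [h1]
      refine ⟨⟨x, hZSZR hxZS⟩, ?_, rfl⟩
      rw [SetLike.mem_coe, hfixN]
      intro n hn
      apply hx
      have h1 : n * x * n⁻¹ ∈ R :=
        (Subgroup.mem_normalizer_iff.mp hn x).mp (Subgroup.mem_inf.mp (hZSZR hxZS)).1
      exact (Subgroup.mem_inf.mp h1).1
  · rintro _ ⟨z, hz, rfl⟩
    exact (hfixS z).mp (hKV1 hz)
  · rw [← Subgroup.map_inf_eq _ _ _ ZR.subtype_injective, hKV2, Subgroup.map_bot]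
  · rw [← Subgroup.map_sup, hKV3]
    ext x
    constructor
    · rintro ⟨z, hz, rfl⟩
      exact (hfixS z).mp hz
    · intro hx
      exact ⟨⟨x, hZSZR hx⟩, (hfixS _).mpr hx, rfl⟩

end Cfsg.Agent.S1944
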