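import Cfsg.Statements.S1985
-- import your own Cfsg.Agent.* helpers here
import Cfsg.Agent.Lib.Helper29.KInfI
import Cfsg.Agent.S1973
import Cfsg.Agent.Lib.Helper12.InducedFunctor
import Cfsg.Agent.Lib.Helper8.TraceMain

set_option autoImplicit false
universe u
open Cfsg

namespace Cfsg.Agent.S1985

/-- Let p be an odd prime and G a finite group. Then the lower K-infinity subgroup controls weak closure of elements in G: the lower K-infinity subgroup of every p-subgroup P of G contains Z(P), and for some (equivalently, every) Sylow p-subgroup S of G, with K the lower K-infinity subgroup of S, every element of S commuting with all of N_G(K) is weakly closed in S with respect to G (every G-conjugate of it lying in S equals it). -/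
theorem result {G : Type u} [Group G] [Finite G] {p : ℕ} [Fact p.Prime] (hp : p ≠ 2) : Cfsg.ControlsWeakClosureOfElementsIn p (Cfsg.inducedFunctor (G := G) Cfsg.kInfLower) ⊤ := by
  have hp3 : 3 ≤ p := by
    have := (Fact.out : p.Prime).two_le
    omega
  have hW := Cfsg.Agent.Lib.Helper29.KInfN.isCharPFunctor_kInfLower.{u} p
  have hWG := Cfsg.Agent.Lib.Helper12.isConjugacyFunctor_induced Cfsg.kInfLower hW G
  have hWZ : ∀ P : Subgroup G, IsPGroup p ↥P →
      P ⊓ Subgroup.centralizer ((P : Subgroup G) : Set G) ≤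
        Cfsg.inducedFunctor (G := G) Cfsg.kInfLower P := by
    intro P hP x hx
    have h78 := Cfsg.Agent.S1978.result hP
    have hc : (⟨x, hx.1⟩ : ↥P) ∈ Subgroup.center ↥P := by
      rw [Subgroup.mem_center_iff]
      intro y
      apply Subtype.ext
      exact (Subgroup.mem_centralizer_iff.mp hx.2 (y : G) y.2)
    exact ⟨⟨x, hx.1⟩, h78.1 (h78.2.1 hc), rfl⟩
  refine Cfsg.Agent.S1973.result (Cfsg.inducedFunctor (G := G) Cfsg.kInfLower) hWG hWZ ?_ ⊤
  intro H T hTH hT hidx hnn
  have hT'p : IsPGroup p ↥(T.subgroupOf H) := hT.comap_subtype (K := H)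
  let T' : Sylow p ↥H := hT'p.toSylow hidx
  have hT'coe : (T' : Subgroup ↥H) = T.subgroupOf H := rfl
  -- the induced functor of `H` at `T'` maps to the induced functor of `G` at `T`
  have hmap : (Cfsg.inducedFunctor (G := ↥H) Cfsg.kInfLower (T' : Subgroup ↥H)).map H.subtype =
      Cfsg.inducedFunctor (G := G) Cfsg.kInfLower T := by
    rw [hT'coe]
    have he := hW.2 _ _ hT'p (Subgroup.subgroupOfEquivOfLe hTH)
    unfold Cfsg.inducedFunctor
    rw [← he, Subgroup.map_map, Subgroup.map_map]
    congr 1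
  have hnn' : ¬ (Cfsg.inducedFunctor (G := ↥H) Cfsg.kInfLower (T' : Subgroup ↥H)).Normal := by
    intro hn
    apply hnn
    rw [← hmap]
    have h1 := Subgroup.le_normalizer_map (H := Cfsg.inducedFunctor (G := ↥H) Cfsg.kInfLower
      (T' : Subgroup ↥H)) H.subtype
    rw [Subgroup.normalizer_eq_top_iff.mpr hn, ← MonoidHom.range_eq_map, Subgroup.range_subtype] at h1
    exact h1
  obtain ⟨g', hg'T, hg'P, -, h2⟩ :=
    Cfsg.Agent.Lib.Helper29.KInfN.theoremC_core T' (Or.inl hnn')
  refine ⟨(g' : G), ?_, ?_, ?_⟩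
  · exact hg'T
  · intro hg
    obtain ⟨y, hy, hyg⟩ := hg
    have : y = g' := Subtype.ext hyg
    exact hg'P (this ▸ hy)
  · intro U V hUV hU
    have hUn : U.Normal := hUV.2.1
    have hU' : U ≤ Cfsg.pCore p ↥H ⊓
        Subgroup.centralizer ((Cfsg.pCore p ↥H : Subgroup ↥H) : Set ↥H) := by
      intro u hu
      have h1 := hU ⟨u, hu, rfl⟩
      refine ⟨?_, ?_⟩
      · obtain ⟨y, hy, hyu⟩ := h1.1
        have : y = u := Subtype.ext hyu
        exact this ▸ hy
      · show u ∈ Subgroup.centralizer ((Cfsg.pCore p ↥H : Subgroup ↥H) : Set ↥H)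
        rw [Subgroup.mem_centralizer_iff]
        intro y hy
        apply Subtype.ext
        have := Subgroup.mem_centralizer_iff.mp h1.2 (y : G) ⟨y, hy, rfl⟩
        exact this
    have hCU : Subgroup.zpowers g' ≤ Subgroup.normalizer (U : Set ↥H) := by
      rw [Subgroup.normalizer_eq_top]; exact le_top
    have h3 : Cfsg.iterCommutator U (Subgroup.zpowers g') (p - 1) ≤ ⊥ := by
      refine le_trans (Cfsg.Agent.Lib.Helper12.KInfDeg.iter_antitone U _ hCU
        (by omega : 2 ≤ p - 1)) ?_
      refine le_trans (Cfsg.Agent.Lib.Helper12.KInfDeg.iter_mono hU' _ 2) ?_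
      exact h2.le
    have h4 : Cfsg.iterCommutator (U.map H.subtype) (Subgroup.zpowers (g' : G)) (p - 1) =
        (Cfsg.iterCommutator U (Subgroup.zpowers g') (p - 1)).map H.subtype := by
      rw [Cfsg.Agent.Lib.Helper8.TraceArg.iterCommutator_map, MonoidHom.map_zpowers]
      rfl
    rw [h4, le_bot_iff.mp h3, Subgroup.map_bot]
    exact bot_le

end Cfsg.Agent.S1985
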