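import Cfsg.Statements.S1945
-- import your own Cfsg.Agent.* helpers here
import Cfsg.Agent.S1944
import Cfsg.Agent.S1985
import Cfsg.Agent.Lib.Helper1.WCSplit
import Cfsg.Agent.Lib.Helper12.InducedFunctor
import Cfsg.Agent.Lib.Helper29.KInfC

set_option autoImplicit false
open Cfsg

namespace Cfsg.Agent.S1945

open Cfsg.Agent.Lib.Helper1.WCSplit Cfsg.Agent.Lib.Helper12

/-- Let S be a Sylow p-subgroup of the finite group G, and assume that p is odd or that G is solvable. The elements of S each of which is its only G-conjugate in S form a subgroup W of Z(S); W is then a direct factor of Z(S): there is a subgroup K of Z(S) with W ∩ K = 1 and WK = Z(S). (For p = 2 and G not solvable this can fail.) -/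
theorem result {G : Type*} [Group G] [Finite G] {p : ℕ} [Fact p.Prime] (S : Sylow p G) (h : p ≠ 2 ∨ Group.IsSolvable G) :
    ∃ W K : Subgroup G, (∀ x : G, x ∈ W ↔ (x ∈ (S : Subgroup G) ∧ ∀ g : G, g * x * g⁻¹ ∈ (S : Subgroup G) → g * x * g⁻¹ = x)) ∧
      K ≤ ((S : Subgroup G) ⊓ Subgroup.centralizer ((S : Subgroup G) : Set G)) ∧ W ⊓ K = ⊥ ∧ W ⊔ K = ((S : Subgroup G) ⊓ Subgroup.centralizer ((S : Subgroup G) : Set G)) := by
  rcases h with hp | hsol
  · -- `p` odd: the lower `K_∞` subgroup controls weak closure of elements (S1985)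
    have hW := Cfsg.Agent.Lib.Helper29.KInfN.isCharPFunctor_kInfLower p
    have hWG := isConjugacyFunctor_induced Cfsg.kInfLower hW G
    obtain ⟨hWZ, T, -, hTp, hTidx, hT⟩ := Cfsg.Agent.S1985.result (G := G) (p := p) hp
    set Wf : Subgroup G → Subgroup G := Cfsg.inducedFunctor (G := G) Cfsg.kInfLower with hWf
    -- `T` is a Sylow `p`-subgroup, conjugate to `S`
    have hTidx' : ¬ p ∣ T.index := by
      rwa [Subgroup.relIndex_top_right] at hTidx
    let T' : Sylow p G := hTp.toSylow hTidx'
    obtain ⟨g, hg⟩ := MulAction.exists_smul_eq G T' S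
    have hST : (S : Subgroup G) = T.map (MulAut.conj g).toMonoidHom := by
      rw [← hg]
      ext x
      rw [Sylow.coe_subgroup_smul, mem_map_conj_iff, Subgroup.mem_pointwise_smul_iff_inv_smul_mem]
      show (MulAut.conj g)⁻¹ • x ∈ T ↔ _
      rw [← map_inv, MulAut.smul_def, MulAut.conj_apply, inv_inv]
    have hWS : Wf (S : Subgroup G) = (Wf T).map (MulAut.conj g).toMonoidHom := by
      rw [hST]
      exact (hWG T hTp).2.2 g
    -- the control statement for `T`, in elementwise form
    have hT' : ∀ x ∈ T, (∀ n ∈ Subgroup.normalizer ((Wf T : Subgroup G) : Set G), n * x * n⁻¹ = x) →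
        ∀ h : G, h * x * h⁻¹ ∈ T → h * x * h⁻¹ = x := by
      intro x hx hxN h hh
      refine hT x (Subgroup.mem_inf.mpr ⟨hx, ?_⟩) h (Subgroup.mem_top h) hh
      rw [Subgroup.mem_centralizer_iff]
      intro n hn
      have hn' : n ∈ Subgroup.normalizer ((Wf T : Subgroup G) : Set G) := by
        rw [top_inf_eq] at hn
        exact hn
      have h1 := hxN n hn'
      calc n * x = (n * x * n⁻¹) * n := by group
        _ = x * n := by rw [h1]
    have hS' := wc_transport Wf T (S : Subgroup G) g hST hWS hT'
    -- apply the generic splitting lemma with `R = K_∞(S)` and `N = N_G(R)`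
    have hRS : Wf (S : Subgroup G) ≤ (S : Subgroup G) := (hWG (S : Subgroup G) S.2).1
    have hSN : (S : Subgroup G) ≤ Subgroup.normalizer ((Wf (S : Subgroup G) : Subgroup G) : Set G) := by
      refine le_trans Subgroup.le_normalizer ?_
      exact normalizer_le_normalizer_inducedFunctor Cfsg.kInfLower hW (S : Subgroup G) S.2
    refine split_of_control S (Wf (S : Subgroup G))
      (Subgroup.normalizer ((Wf (S : Subgroup G) : Subgroup G) : Set G)) hRS hSN le_rfl
      (hWZ (S : Subgroup G) S.2) ?_
    intro z hz hzN g' hg'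
    exact hS' z (hRS (Subgroup.mem_inf.mp hz).1) hzN g' hg'
  · -- `G` solvable: `Z(S) ≤ O_{p',p}(G)` (Hall–Higman 1.2.3) and S1944
    have := hsol
    exact Cfsg.Agent.S1944.result S (center_le_pPrimePCore_of_solvable S)

end Cfsg.Agent.S1945
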