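import Cfsg.Statements.S1946
-- import your own Cfsg.Agent.* helpers here
import Mathlib
import Cfsg.Agent.S4126
import Cfsg.Agent.Lib.Helper29.Frobenius
import Cfsg.Agent.Lib.Helper12.PNilpotent
import Cfsg.Agent.Lib.Helper9.Stability
import Cfsg.Agent.Lib.Helper1.Transport

set_option autoImplicit false
open Cfsg

namespace Cfsg.Agent.S1946


open scoped commutatorElement

/-- A `p'`-element normalizing a subgroup `Q ≤ P` and such that every conjugate `g h g⁻¹`
(`h` of order dividing `p`, or `4`) lying in `P` is a `P`-conjugate of `h`, centralizes `Q`. -/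
theorem centralizes_of_control {G : Type*} [Group G] [Finite G] {p : ℕ} [Fact p.Prime] (P : Sylow p G)
    (hctrl : ∀ a ∈ (P : Subgroup G), (a ^ p = 1 ∨ (p = 2 ∧ a ^ 4 = 1)) → ∀ g : G,
      g * a * g⁻¹ ∈ (P : Subgroup G) → ∃ x ∈ (P : Subgroup G), g * a * g⁻¹ = x * a * x⁻¹)
    (Q : Subgroup G) (hQP : Q ≤ (P : Subgroup G)) (g : G)
    (hgN : g ∈ Subgroup.normalizer (Q : Set G)) (hcop : (orderOf g).Coprime p) :
    g ∈ Subgroup.centralizer (Q : Set G) := by
  have hp : p.Prime := Fact.out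
  by_contra hnc
  rw [Subgroup.mem_centralizer_iff] at hnc
  push Not at hnc
  obtain ⟨x, hxQ, hxg⟩ := hnc
  -- work inside the normalizer of `Q`
  set Γ : Subgroup G := Subgroup.normalizer (Q : Set G) with hΓ
  have hQΓ : Q ≤ Γ := Subgroup.le_normalizer
  haveI hRn : (Q.subgroupOf Γ).Normal := Subgroup.normal_in_normalizer
  have hRp : IsPGroup p (Q.subgroupOf Γ) := by
    have hQp : IsPGroup p Q := P.2.to_le hQP
    exact hQp.comap_subtype
  have hg' : (orderOf (⟨g, hgN⟩ : Γ)).Coprime p := by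
    rw [Subgroup.orderOf_mk]; exact hcop
  have hx' : (⟨x, hQΓ hxQ⟩ : Γ) ∈ Q.subgroupOf Γ := by
    rw [Subgroup.mem_subgroupOf]; exact hxQ
  have hgx' : (⟨g, hgN⟩ : Γ) * ⟨x, hQΓ hxQ⟩ ≠ ⟨x, hQΓ hxQ⟩ * ⟨g, hgN⟩ := by
    intro h
    exact hxg (congrArg Subtype.val h).symm
  obtain ⟨D, hDn, hDR, hDexp, a, haD, hga⟩ := Cfsg.Agent.S4126.exists_small_exponent p
    (if p = 2 then 4 else p) rfl (Q.subgroupOf Γ) hRp ⟨g, hgN⟩ hg' ⟨x, hQΓ hxQ⟩ hx' hgx'
  -- transport `D` to `G`
  set D₁ : Subgroup G := D.map Γ.subtype with hD₁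
  have hD₁Q : D₁ ≤ Q := by
    rintro _ ⟨d, hd, rfl⟩
    exact Subgroup.mem_subgroupOf.1 (hDR hd)
  have hD₁P : D₁ ≤ (P : Subgroup G) := hD₁Q.trans hQP
  have hD₁exp : ∀ h ∈ D₁, h ^ p = 1 ∨ (p = 2 ∧ h ^ 4 = 1) := by
    rintro _ ⟨d, hd, rfl⟩
    have h1 := hDexp d hd
    have h2 : ((d : G)) ^ (if p = 2 then 4 else p) = 1 := by
      rw [← Subgroup.coe_pow, h1]; rfl
    by_cases hp2 : p = 2
    · right
      rw [if_pos hp2] at h2
      exact ⟨hp2, h2⟩
    · left
      rw [if_neg hp2] at h2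
      exact h2
  have hD₁conj : ∀ h ∈ D₁, g * h * g⁻¹ ∈ D₁ := by
    rintro _ ⟨d, hd, rfl⟩
    exact ⟨⟨g, hgN⟩ * d * ⟨g, hgN⟩⁻¹, hDn.conj_mem d hd ⟨g, hgN⟩, rfl⟩
  -- the upper central series of `P`, inside `G`
  let Z : ℕ → Subgroup G := fun i =>
    (Subgroup.upperCentralSeries (↥(P : Subgroup G)) i).map (P : Subgroup G).subtype
  have hZmono : ∀ i, Z i ≤ Z (i + 1) := fun i =>
    Subgroup.map_mono (Subgroup.upperCentralSeries_mono _ (Nat.le_succ i))
  have hchain : ∀ i, ∀ h ∈ D₁ ⊓ Z i, g * h = h * g := by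
    intro i
    induction i with
    | zero =>
      intro h hh
      have h1 : h ∈ Z 0 := hh.2
      have h2 : h = 1 := by
        have h3 : Z 0 = ⊥ := by
          show (Subgroup.upperCentralSeries (↥(P : Subgroup G)) 0).map (P : Subgroup G).subtype = ⊥
          rw [Subgroup.upperCentralSeries_zero, Subgroup.map_bot]
        rw [h3, Subgroup.mem_bot] at h1
        exact h1
      rw [h2, mul_one, one_mul]
    | succ i ih =>
      have hpg : IsPGroup p (D₁ ⊓ Z (i + 1) : Subgroup G) := P.2.to_le (inf_le_left.trans hD₁P)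
      have hcop' : (orderOf g).Coprime (Nat.card (D₁ ⊓ Z (i + 1) : Subgroup G)) := by
        obtain ⟨k, hk⟩ := hpg.exists_card_eq
        rw [hk]; exact Nat.Coprime.pow_right k hcop
      refine Cfsg.Agent.Lib.Helper9.mem_centralizer_of_stabilizes_pair (D₁ ⊓ Z (i + 1)) (D₁ ⊓ Z i)
        (inf_le_inf_left _ (hZmono i)) g hcop' ih ?_
      intro h hh
      obtain ⟨hhD, hhZ⟩ := Subgroup.mem_inf.1 hh
      obtain ⟨y, hyP, hy⟩ := hctrl h (hD₁P hhD) (hD₁exp h hhD) g (hD₁P (hD₁conj h hhD))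
      have hcomm : ⁅h, g⁆ = h * (g * h * g⁻¹)⁻¹ := by
        rw [commutatorElement_def]; group
      refine Subgroup.mem_inf.2 ⟨?_, ?_⟩
      · rw [hcomm]
        exact D₁.mul_mem hhD (D₁.inv_mem (hD₁conj h hhD))
      · obtain ⟨h', hh', rfl⟩ := hhZ
        have h3 := Subgroup.mem_upperCentralSeries_succ_iff.1 hh' ⟨y, hyP⟩
        refine ⟨⁅h', ⟨y, hyP⟩⁆, h3, ?_⟩
        rw [hcomm, hy]
        simp only [commutatorElement_def, Subgroup.coe_subtype, Subgroup.coe_mul, Subgroup.coe_inv]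
        group
  -- `P` is nilpotent
  have : Group.IsNilpotent (P : Subgroup G) := P.2.isNilpotent
  obtain ⟨n, hn⟩ := Group.IsNilpotent.nilpotent (↥(P : Subgroup G))
  have hZn : D₁ ≤ Z n := by
    intro h hh
    exact ⟨⟨h, hD₁P hh⟩, by rw [hn]; trivial, rfl⟩
  apply hga
  have h1 := hchain n (a : G) (Subgroup.mem_inf.2 ⟨⟨a, haD, rfl⟩, hZn ⟨a, haD, rfl⟩⟩)
  exact Subtype.ext h1

/-- Let P be a Sylow p-subgroup of the finite group G. Then G has a normal p-complement if and only if P controls the fusion of its elements of order dividing p (dividing 4 when p = 2): whenever such an element a of P has a G-conjugate g a g⁻¹ in P, that conjugate is already x a x⁻¹ for some x in P. -/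
theorem result {G : Type*} [Group G] [Finite G] {p : ℕ} [Fact p.Prime] (P : Sylow p G) :
    Cfsg.HasNormalPComplement p G ↔
      ∀ a ∈ (P : Subgroup G), (a ^ p = 1 ∨ (p = 2 ∧ a ^ 4 = 1)) → ∀ g : G, g * a * g⁻¹ ∈ (P : Subgroup G) →
        ∃ x ∈ (P : Subgroup G), g * a * g⁻¹ = x * a * x⁻¹ := by
  have hp : p.Prime := Fact.out
  constructor
  · rintro ⟨P', N, hNn, hc'⟩ a haP _ g hgP
    -- `N` is also a complement of `P`
    have hcardP : Nat.card (P : Subgroup G) = Nat.card (P' : Subgroup G) := by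
      rw [Sylow.card_eq_multiplicity, Sylow.card_eq_multiplicity]
    have hmul : Nat.card N * Nat.card (P : Subgroup G) = Nat.card G := by
      rw [hcardP]; exact hc'.card_mul_card
    have hcopr : (Nat.card N).Coprime (Nat.card (P : Subgroup G)) := by
      have h1 : Nat.card N = (P' : Subgroup G).index := by
        have h2 := (P' : Subgroup G).card_mul_index
        have h3 := hc'.card_mul_card
        have hpos : 0 < Nat.card (P' : Subgroup G) := Nat.card_pos
        rw [mul_comm] at h3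
        exact Nat.eq_of_mul_eq_mul_left hpos (h3.trans h2.symm)
      rw [h1, hcardP]
      exact (Sylow.card_coprime_index P').symm
    have hc : N.IsComplement' (P : Subgroup G) := Subgroup.isComplement'_of_coprime hmul hcopr
    obtain ⟨n, hnN, k, hkP, hnk⟩ := Cfsg.Agent.Lib.Helper1.IsComplement'.exists_mul_eq hc g⁻¹
    have hg : g = k⁻¹ * n⁻¹ := by
      rw [← mul_inv_rev, hnk, inv_inv]
    have h1 : n⁻¹ * a * n ∈ (P : Subgroup G) := by
      have h2 : k * (g * a * g⁻¹) * k⁻¹ ∈ (P : Subgroup G) :=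
        (P : Subgroup G).mul_mem ((P : Subgroup G).mul_mem hkP hgP) ((P : Subgroup G).inv_mem hkP)
      have h3 : k * (g * a * g⁻¹) * k⁻¹ = n⁻¹ * a * n := by
        rw [hg]; group
      rw [← h3]; exact h2
    have h4 : a⁻¹ * (n⁻¹ * a * n) ∈ N ⊓ (P : Subgroup G) := by
      refine Subgroup.mem_inf.2 ⟨?_, (P : Subgroup G).mul_mem ((P : Subgroup G).inv_mem haP) h1⟩
      have h5 : a⁻¹ * (n⁻¹ * a * n) = (a⁻¹ * n⁻¹ * a⁻¹⁻¹) * n := by group
      rw [h5]
      exact N.mul_mem (hNn.conj_mem _ (N.inv_mem hnN) _) hnN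
    rw [hc.disjoint.eq_bot, Subgroup.mem_bot] at h4
    have h6 : n⁻¹ * a * n = a := by
      have := congrArg (fun z => a * z) h4
      simpa using this
    refine ⟨k⁻¹, (P : Subgroup G).inv_mem hkP, ?_⟩
    rw [hg]
    have : k⁻¹ * n⁻¹ * a * (k⁻¹ * n⁻¹)⁻¹ = k⁻¹ * (n⁻¹ * a * n) * k⁻¹⁻¹ := by group
    rw [this, h6]
  · intro hctrl
    rw [Cfsg.Agent.Lib.Helper12.hasNormalPComplement_iff_frobCond]
    apply Cfsg.Agent.Lib.Helper29.frobCond_of_sylow P
    intro Q hQP g hgN hcop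
    exact centralizes_of_control P hctrl Q hQP g hgN hcop

end Cfsg.Agent.S1946
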