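import Cfsg.Statements.S1947
import Cfsg.Agent.S0120
import Cfsg.Agent.Lib.Helper29.MinNonPNilpotent
import Cfsg.Agent.Lib.Helper9.Stability
import Cfsg.Agent.Lib.Helper20.HHReduction
-- import your own Cfsg.Agent.* helpers here

set_option autoImplicit false
open Cfsg

namespace Cfsg.Agent.S1947

open scoped commutatorElement

/-- in a group where `⁅v,u⁆` and `v^2` are central: `(uv)^4 = u^4 v^4` -/
theorem mul_pow_four {Q : Type*} [Group Q] (u v : Q) (hc : ∀ g : Q, g * ⁅v, u⁆ = ⁅v, u⁆ * g)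
    (hv : ∀ g : Q, g * v ^ 2 = v ^ 2 * g) : (u * v) ^ 4 = u ^ 4 * v ^ 4 := by
  set c := ⁅v, u⁆ with hcdef
  have h1 : v * u = c * u * v := by rw [hcdef, commutatorElement_def]; group
  -- `c^2 = 1`
  have h2 : v ^ 2 * u = c ^ 2 * u * v ^ 2 := by
    calc v ^ 2 * u = v * (v * u) := by simp only [pow_succ, pow_zero, one_mul, mul_assoc]
      _ = v * (c * u * v) := by rw [h1]
      _ = (v * c) * u * v := by simp only [pow_succ, pow_zero, one_mul, mul_assoc]
      _ = (c * v) * u * v := by rw [hc v]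
      _ = c * (v * u) * v := by simp only [pow_succ, pow_zero, one_mul, mul_assoc]
      _ = c * (c * u * v) * v := by rw [h1]
      _ = c ^ 2 * u * v ^ 2 := by simp only [pow_succ, pow_zero, one_mul, mul_assoc]
  have h3 : c ^ 2 = 1 := by
    have h4 : c ^ 2 * (u * v ^ 2) = 1 * (u * v ^ 2) := by
      rw [one_mul, ← mul_assoc, ← h2, hv u]
    exact mul_right_cancel h4
  have h5 : (u * v) ^ 2 = c * u ^ 2 * v ^ 2 := by
    calc (u * v) ^ 2 = u * (v * u) * v := by simp only [pow_succ, pow_zero, one_mul, mul_assoc]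
      _ = u * (c * u * v) * v := by rw [h1]
      _ = (u * c) * u * v * v := by simp only [pow_succ, pow_zero, one_mul, mul_assoc]
      _ = (c * u) * u * v * v := by rw [hc u]
      _ = c * u ^ 2 * v ^ 2 := by simp only [pow_succ, pow_zero, one_mul, mul_assoc]
  calc (u * v) ^ 4 = (u * v) ^ 2 * (u * v) ^ 2 := by simp only [pow_succ, pow_zero, one_mul, mul_assoc]
    _ = (c * u ^ 2 * v ^ 2) * (c * u ^ 2 * v ^ 2) := by rw [h5]
    _ = c * u ^ 2 * (v ^ 2 * c) * u ^ 2 * v ^ 2 := by simp only [pow_succ, pow_zero, one_mul, mul_assoc]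
    _ = c * u ^ 2 * (c * v ^ 2) * u ^ 2 * v ^ 2 := by rw [hc (v ^ 2)]
    _ = c * (u ^ 2 * c) * (v ^ 2 * u ^ 2) * v ^ 2 := by simp only [pow_succ, pow_zero, one_mul, mul_assoc]
    _ = c * (c * u ^ 2) * (u ^ 2 * v ^ 2) * v ^ 2 := by rw [hc (u ^ 2), ← hv (u ^ 2)]
    _ = c ^ 2 * (u ^ 4 * v ^ 4) := by simp only [pow_succ, pow_zero, one_mul, mul_assoc]
    _ = u ^ 4 * v ^ 4 := by rw [h3, one_mul]

/-- a `2'`-automorphism of a finite `2`-group fixing all elements with `x^4 = 1` is trivial -/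
theorem aut_eq_one_two {G : Type*} [Group G] [Finite G] (hG : IsPGroup 2 G) (a : MulAut G)
    (ha : Nat.Coprime (orderOf a) 2) (h : ∀ x : G, x ^ 4 = 1 → a x = x) : a = 1 := by
  classical
  by_contra hne
  obtain ⟨Q, hQinv, ⟨x₀, hx₀Q, hx₀⟩, hpc, hcc, hpf, hcf⟩ :=
    Cfsg.Agent.Lib.Helper20.exists_hh_reduction hG a ha hne
  apply hx₀
  apply Cfsg.Agent.Lib.Helper20.fix_of_fix_comm hG a ha
  apply h
  obtain ⟨u, hu⟩ : ∃ u : ↥Q, (u : G) = x₀⁻¹ := ⟨⟨x₀⁻¹, Q.inv_mem hx₀Q⟩, rfl⟩
  obtain ⟨v, hv⟩ : ∃ v : ↥Q, (v : G) = a x₀ := ⟨⟨a x₀, hQinv x₀ hx₀Q⟩, rfl⟩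
  have hc : ∀ g : ↥Q, g * ⁅v, u⁆ = ⁅v, u⁆ * g := by
    intro g
    apply Subtype.ext
    have h0 : ((⁅v, u⁆ : ↥Q) : G) = ⁅(v : G), (u : G)⁆ := by
      simp [commutatorElement_def]
    simp only [Subgroup.coe_mul, h0]
    exact hcc _ v.2 _ u.2 g g.2
  have hvp : ∀ g : ↥Q, g * v ^ 2 = v ^ 2 * g := by
    intro g
    apply Subtype.ext
    simp only [Subgroup.coe_mul, Subgroup.coe_pow]
    exact hpc _ v.2 g g.2
  have h2 := mul_pow_four u v hc hvp
  have h3 := congrArg (Subtype.val : ↥Q → G) h2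
  simp only [Subgroup.coe_mul, Subgroup.coe_pow, hu, hv] at h3
  rw [h3, ← map_pow]
  have h4 : x₀ ^ 4 = (x₀ ^ 2) ^ 2 := by group
  have h5 : a (x₀ ^ 4) = x₀ ^ 4 := by
    rw [h4, map_pow, hpf x₀ hx₀Q]
  rw [h5, inv_pow, inv_mul_cancel]

/-- a `p'`-automorphism of a finite `p`-group fixing all elements of order `p` (and `4` if `p = 2`) is trivial -/
theorem aut_eq_one {G : Type*} [Group G] [Finite G] {p : ℕ} [Fact p.Prime] (hG : IsPGroup p G)
    (a : MulAut G) (ha : Nat.Coprime (orderOf a) p)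
    (h : ∀ x : G, (x ^ p = 1 ∨ (p = 2 ∧ x ^ 4 = 1)) → a x = x) : a = 1 := by
  by_cases hp : p = 2
  · subst hp
    exact aut_eq_one_two hG a ha (fun x hx => h x (Or.inr ⟨rfl, hx⟩))
  · exact Cfsg.Agent.S0120.result hp hG a ha (fun x hx => h x (Or.inl hx))


/-- Let G be a finite group and p a prime. If every element of G of order dividing p (dividing 4 when p = 2) lies in some fixed term Z_n(G) of the upper central series, then G has a normal p-complement. -/
theorem result {G : Type*} [Group G] [Finite G] {p : ℕ} [Fact p.Prime] (n : ℕ)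
    (h : ∀ a : G, (a ^ p = 1 ∨ (p = 2 ∧ a ^ 4 = 1)) → a ∈ Subgroup.upperCentralSeries G n) : Cfsg.HasNormalPComplement p G := by
  have hF : Cfsg.Agent.Lib.Helper29.FrobCond p G := by
    intro Q hQ g hg hcop
    -- `g` centralizes `Q ⊓ Z_n(G)`
    have h1 : g ∈ Subgroup.centralizer ((Q ⊓ Subgroup.upperCentralSeries G n : Subgroup G) : Set G) := by
      refine Cfsg.Agent.Lib.Helper9.mem_centralizer_of_stabilizes_chain _ n
        (fun i => Q ⊓ Subgroup.upperCentralSeries G (n - i)) ?_ ?_ ?_ g ?_ ?_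
      · simp
      · simp
      · intro i j hij
        apply inf_le_inf_left
        apply Subgroup.upperCentralSeries_mono
        have : (i : ℕ) ≤ j := hij
        omega
      · have hpQ : IsPGroup p ↥(Q ⊓ Subgroup.upperCentralSeries G n) := hQ.to_le inf_le_left
        obtain ⟨k, hk⟩ := IsPGroup.iff_card.mp hpQ
        rw [hk]
        exact Nat.Coprime.pow_right k hcop
      · intro i h hh
        have hi : (i : ℕ) < n := i.2
        simp only [Fin.val_castSucc] at hh
        simp only [Fin.val_succ]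
        refine Subgroup.mem_inf.mpr ⟨?_, ?_⟩
        · rw [commutatorElement_def]
          have h2 : g * h⁻¹ * g⁻¹ ∈ Q := (Subgroup.mem_normalizer_iff.mp hg _).mp (Q.inv_mem hh.1)
          have h3 : h * g * h⁻¹ * g⁻¹ = h * (g * h⁻¹ * g⁻¹) := by group
          rw [h3]
          exact Q.mul_mem hh.1 h2
        · have h2 : h ∈ Subgroup.upperCentralSeries G ((n - (i : ℕ) - 1) + 1) := by
            have : n - (i : ℕ) - 1 + 1 = n - (i : ℕ) := by omega
            rw [this]; exact hh.2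
          have h3 := (Subgroup.mem_upperCentralSeries_succ_iff.mp h2) g
          have : n - ((i : ℕ) + 1) = n - (i : ℕ) - 1 := by omega
          rw [this, commutatorElement_def]
          exact h3
    set a : MulAut ↥Q := Q.normalizerMonoidHom ⟨g, hg⟩ with ha
    have hao : (orderOf a).Coprime p := by
      have h2 : orderOf a ∣ orderOf (⟨g, hg⟩ : Subgroup.normalizer (Q : Set G)) := orderOf_map_dvd _ _
      rw [Subgroup.orderOf_mk] at h2
      exact Nat.Coprime.coprime_dvd_left h2 hcop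
    have ha1 : a = 1 := by
      apply aut_eq_one hQ a hao
      intro x hx
      have hxG : ((x : G) ^ p = 1 ∨ (p = 2 ∧ (x : G) ^ 4 = 1)) := by
        rcases hx with hx | ⟨h2, hx⟩
        · left
          have := congrArg Subtype.val hx
          simpa using this
        · right
          refine ⟨h2, ?_⟩
          have := congrArg Subtype.val hx
          simpa using this
      have hxZ := h (x : G) hxG
      have hcomm := Subgroup.mem_centralizer_iff.mp h1 (x : G) (Subgroup.mem_inf.mpr ⟨x.2, hxZ⟩)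
      apply Subtype.ext
      show g * (x : G) * g⁻¹ = (x : G)
      rw [← hcomm, mul_inv_cancel_right]
    have hker : (⟨g, hg⟩ : Subgroup.normalizer (Q : Set G)) ∈ Q.normalizerMonoidHom.ker := by
      rw [MonoidHom.mem_ker]; exact ha1
    rw [Subgroup.normalizerMonoidHom_ker, Subgroup.mem_subgroupOf] at hker
    exact hker
  exact Cfsg.Agent.Lib.Helper29.frobCond_iff.mp hF

end Cfsg.Agent.S1947
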