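import Cfsg.Statements.S1948
import Cfsg.Agent.Lib.Helper12.NormalizerPPrimeCore

set_option autoImplicit false
open Cfsg

namespace Cfsg.Agent.S1948

/-- Let S be a Sylow p-subgroup of the finite group G. Then G = N_G(S)·O_{p'}(G) if and only if G is p-constrained and N_G(S) controls fusion in S, in the sense that whenever a subgroup Q of S has a conjugate g Q g⁻¹ inside S, the element g is a product n c with n normalizing S and c centralizing Q. -/
theorem result {G : Type*} [Group G] [Finite G] {p : ℕ} [Fact p.Prime] (S : Sylow p G) :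
    Subgroup.normalizer ((S : Subgroup G) : Set G) ⊔ Cfsg.pPrimeCore p G = ⊤ ↔
      (Cfsg.IsPConstrained p G ∧
        ∀ Q : Subgroup G, Q ≤ (S : Subgroup G) → ∀ g : G, Q.map (MulAut.conj g).toMonoidHom ≤ (S : Subgroup G) →
          ∃ n ∈ Subgroup.normalizer ((S : Subgroup G) : Set G), ∃ c ∈ Subgroup.centralizer (Q : Set G), g = n * c) := by
  constructor
  · intro h
    exact ⟨Cfsg.Agent.Lib.Helper12.isPConstrained_of_normalizer_sup_pPrimeCore S h,
      fun Q hQ g hg => Cfsg.Agent.Lib.Helper12.fusion_of_normalizer_sup_pPrimeCore S h Q hQ g hg⟩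
  · rintro ⟨hc, hf⟩
    exact Cfsg.Agent.Lib.Helper12.normalizer_sup_pPrimeCore_of_isPConstrained_of_fusion S hc hf

end Cfsg.Agent.S1948
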