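import Cfsg.Statements.S1953
-- import your own Cfsg.Agent.* helpers here
import Cfsg.Agent.Lib.Helper1.QdSolv1
import Cfsg.Agent.Lib.Helper1.SLFree2
import Cfsg.Agent.Lib.Helper1.SLFree3
import Cfsg.Agent.Lib.Helper26.FSCentricExt

set_option autoImplicit false
open Cfsg

namespace Cfsg.Agent.S1953

/-- Let p be an odd prime and P a Sylow p-subgroup of the finite group G, and suppose that for no p-subgroup Q of G does N_G(Q)/C_G(Q) have a section isomorphic to SL₂(p). Call a subgroup Q of P centric-radical when Z(Q) is a Sylow p-subgroup of C_G(Q) and the only normal subgroup X of N_G(Q) containing Q·C_G(Q) such that the index of Q·C_G(Q) in X is a power of p is Q·C_G(Q) itself (that is, N_G(Q)/Q·C_G(Q) has no nontrivial normal p-subgroup). Then there is a centric-radical subgroup Q of P contained in every centric-radical subgroup of P; it is normal in P, and N_G(Q) controls strong fusion in P: whenever a subgroup A of P has g A g⁻¹ ≤ P, the element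 g is a product h c with h in N_G(Q) and c centralizing A. -/
theorem result {G : Type*} [Group G] [Finite G] {p : ℕ} [Fact p.Prime] (hp : p ≠ 2) (P : Sylow p G)
    (hfree : ∀ Q : Subgroup G, IsPGroup p ↥Q → ¬ ∃ (H K : Subgroup G) (_ : (K.subgroupOf H).Normal),
      Subgroup.centralizer (Q : Set G) ≤ K ∧ K ≤ H ∧ H ≤ Subgroup.normalizer (Q : Set G) ∧
      Nonempty ((↥H ⧸ K.subgroupOf H) ≃* Matrix.SpecialLinearGroup (Fin 2) (ZMod p)))
    (cr : Subgroup G → Prop)
    (hcr : ∀ Q : Subgroup G, cr Q ↔ (Q ≤ (P : Subgroup G) ∧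
      (∃ R : Sylow p ↥(Subgroup.centralizer (Q : Set G)),
        (R : Subgroup ↥(Subgroup.centralizer (Q : Set G))).map (Subgroup.centralizer (Q : Set G)).subtype = Q ⊓ Subgroup.centralizer (Q : Set G)) ∧
      ∀ X : Subgroup G, X ≤ Subgroup.normalizer (Q : Set G) →
        (∀ n ∈ Subgroup.normalizer (Q : Set G), X.map (MulAut.conj n).toMonoidHom = X) →
        Q ⊔ Subgroup.centralizer (Q : Set G) ≤ X → (∃ k : ℕ, (Q ⊔ Subgroup.centralizer (Q : Set G)).relIndex X = p ^ k) →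
        X = Q ⊔ Subgroup.centralizer (Q : Set G))) :
    ∃ Q : Subgroup G, cr Q ∧ (∀ R : Subgroup G, cr R → Q ≤ R) ∧ (∀ x ∈ (P : Subgroup G), Q.map (MulAut.conj x).toMonoidHom = Q) ∧
      ∀ A : Subgroup G, A ≤ (P : Subgroup G) → ∀ g : G, A.map (MulAut.conj g).toMonoidHom ≤ (P : Subgroup G) →
        ∃ h ∈ Subgroup.normalizer (Q : Set G), ∃ c ∈ Subgroup.centralizer (A : Set G), g = h * c := by
  classical
  open Cfsg.FusionSystem Cfsg.Agent.Lib.Helper26 Cfsg.Agent.Lib.Helper1.SLFree in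
  have hPp : IsPGroup p ↥(P : Subgroup G) := P.isPGroup'
  have hsat := groupFS_saturated P
  have hqd := groupFS_sectionFree_of_automizers P hfree
  obtain ⟨-, Q₁, hQ₁n, hQ₁c⟩ :=
    Cfsg.Agent.Lib.Helper1.QdSolv.qdFree_constrained p hp hPp (Cfsg.groupFusionSystem (P : Subgroup G)) hsat hqd
  have hQ₀n := core_isNormal (Cfsg.groupFusionSystem (P : Subgroup G))
  set Q₀ := (Cfsg.groupFusionSystem (P : Subgroup G)).core with hQ₀
  have hQ₀P : Q₀ ≤ (P : Subgroup G) := hQ₀n.1
  have hQ₀c : (Cfsg.groupFusionSystem (P : Subgroup G)).IsCentric Q₀ :=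
    centric_of_le _ hQ₁c (le_sSup hQ₁n) hQ₀P
  have hctl : Ctl (P : Subgroup G) Q₀ := ctl_of_isNormal hQ₀n
  have hcen : (P : Subgroup G) ⊓ Subgroup.centralizer (Q₀ : Set G) ≤ Q₀ :=
    hQ₀c.2 Q₀ (isConj_refl _ hQ₀P)
  have hmax : ∀ T : Subgroup G, T ≤ (P : Subgroup G) → Ctl (P : Subgroup G) T → T ≤ Q₀ :=
    fun T hT hTc => le_sSup (isNormal_of_ctl hT hTc)
  have hPN : (P : Subgroup G) ≤ Subgroup.normalizer (Q₀ : Set G) := le_normalizer_of_ctl hQ₀P hctl
  refine ⟨Q₀, ?_, ?_, ?_, hctl⟩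
  · rw [hcr]
    exact ⟨hQ₀P, exists_sylow_centralizer P hQ₀P hPN hcen,
      fun X hXN hXinv hDX hidx => radical_of_max P hQ₀P hctl hcen hmax X hXN hXinv hDX hidx⟩
  · intro R hR
    rw [hcr] at hR
    obtain ⟨hRP, hRsyl, hRrad⟩ := hR
    exact le_of_cr P hQ₀P hctl hRP hRsyl hRrad
  · intro x hx
    exact map_conj_of_mem_normalizer (hPN hx)

end Cfsg.Agent.S1953
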