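import Cfsg.Statements.S1957
import Mathlib
import Cfsg.Agent.Lib.Helper4.FourGroup

set_option autoImplicit false
open Cfsg

namespace Cfsg.Agent.S1957


/-- Let `G` be a finite non-abelian simple group in which every local subgroup is solvable and which is of characteristic 2 type. Let `P` be a Sylow 2-subgroup of `G` and `U` a normal subgroup of `P` that is a four-group, with `U` central in `P` if the centre of `P` is not cyclic. Then `U` centralizes every subgroup of odd order of `G` that it normalizes. -/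
theorem result {G : Type*} [Group G] [Finite G]
    [IsSimpleGroup G] (hna : ¬ IsMulCommutative G) (hN : Cfsg.IsNGroup G) (h2 : Cfsg.IsCharacteristicTwoType G)
    (P : Sylow 2 G) (U : Subgroup G) (hUP : U ≤ (P : Subgroup G)) (hUn : (P : Subgroup G) ≤ Subgroup.normalizer (U : Set G))
    (hU4 : IsKleinFour ↥U)
    (hUZ : ¬ IsCyclic ↥((P : Subgroup G) ⊓ Subgroup.centralizer ((P : Subgroup G) : Set G)) →
      U ≤ Subgroup.centralizer ((P : Subgroup G) : Set G))
    (K : Subgroup G) (hK : Odd (Nat.card K)) (hUK : U ≤ Subgroup.normalizer (K : Set G)) :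
    U ≤ Subgroup.centralizer (K : Set G) := by
  haveI := hU4
  have hc4 : Nat.card ↥U = 4 := IsKleinFour.card_four
  have hexp : Monoid.exponent ↥U = 2 := IsKleinFour.exponent_two
  have hU2 : ∀ x ∈ U, x * x = 1 := by
    intro x hx
    have h1 := Monoid.pow_exponent_eq_one (⟨x, hx⟩ : ↥U)
    rw [hexp] at h1
    have h2 := congrArg Subtype.val h1
    simpa [pow_two] using h2
  refine Cfsg.Agent.Lib.Helper4.FourGroup.four_group_centralizes P U hUP hUn hc4 hU2 hUZ ?_ K hK hUK
  intro u huU hu1
  have hT2 : IsPGroup 2 ↥(Subgroup.zpowers u) := by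
    rw [IsPGroup.iff_card]
    refine ⟨1, ?_⟩
    haveI : Fact (Nat.Prime 2) := ⟨Nat.prime_two⟩
    rw [Nat.card_zpowers, pow_one]
    exact orderOf_eq_prime (by rw [pow_two]; exact hU2 u huU) hu1
  have hT1 : Subgroup.zpowers u ≠ ⊥ := by
    intro hh
    rw [Subgroup.zpowers_eq_bot] at hh
    exact hu1 hh
  exact h2.2 (Subgroup.zpowers u) hT2 hT1

end Cfsg.Agent.S1957
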