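import Cfsg.Statements.S1958
import Cfsg.Agent.Lib.Helper8.PPrimeCent
-- import your own Cfsg.Agent.* helpers here

set_option autoImplicit false
open Cfsg

namespace Cfsg.Agent.S1958

theorem mem_centralizer_singleton' {H : Type*} [Group H] (a z : H) :
    z ∈ Subgroup.centralizer ({a} : Set H) ↔ a * z = z * a := by
  rw [Subgroup.mem_centralizer_iff]
  constructor
  · intro h; exact h a rfl
  · intro h b hb; rw [Set.mem_singleton_iff.mp hb]; exact h

theorem half {G : Type*} [Group G] [Finite G]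
    (p : ℕ) [Fact p.Prime] (x y : G) (hy : orderOf y = p) (hxy : x * y = y * x)
    (hCx : Group.IsSolvable ↥(Subgroup.centralizer ({x} : Set G))) :
    Cfsg.centralizerPPrimeCore p y ⊓ Subgroup.centralizer {x} ≤ Cfsg.centralizerPPrimeCore p x := by
  set Cx := Subgroup.centralizer ({x} : Set G) with hCxdef
  set Cy := Subgroup.centralizer ({y} : Set G) with hCydef
  have hmemC : ∀ (a z : G), z ∈ Subgroup.centralizer ({a} : Set G) ↔ a * z = z * a :=
    mem_centralizer_singleton'
  have hyCx : y ∈ Cx := (hmemC x y).mpr hxy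
  haveI hn : (Cfsg.pPrimeCore p ↥Cy).Normal := Cfsg.Agent.Lib.Helper1.pPrimeCore_normal p _
  have hle : Cfsg.centralizerPPrimeCore p y ≤ Cy := by
    rintro _ ⟨z, _, rfl⟩
    exact z.2
  set P : Subgroup ↥Cx := Subgroup.zpowers (⟨y, hyCx⟩ : ↥Cx) with hP
  set Y : Subgroup ↥Cx := (Cfsg.centralizerPPrimeCore p y ⊓ Cx).subgroupOf Cx with hY
  have hPp : IsPGroup p P := by
    apply IsPGroup.of_card (n := 1)
    rw [hP, Nat.card_zpowers, Subgroup.orderOf_mk, hy, pow_one]
  have hYc : (Nat.card Y).Coprime p := by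
    have h1 : Nat.card Y = Nat.card ↥(Cfsg.centralizerPPrimeCore p y ⊓ Cx) := by
      rw [hY]
      exact Nat.card_congr (Subgroup.subgroupOfEquivOfLe inf_le_right).toEquiv
    have h2 : Nat.card ↥(Cfsg.centralizerPPrimeCore p y ⊓ Cx) ∣ Nat.card ↥(Cfsg.centralizerPPrimeCore p y) :=
      Subgroup.card_dvd_of_le inf_le_left
    have h3 : Nat.card ↥(Cfsg.centralizerPPrimeCore p y) = Nat.card ↥(Cfsg.pPrimeCore p ↥Cy) := by
      unfold Cfsg.centralizerPPrimeCore
      exact Subgroup.card_map_of_injective (Subgroup.subtype_injective _)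
    rw [h1]
    apply Nat.Coprime.coprime_dvd_left h2
    rw [h3]
    exact Cfsg.Agent.Lib.Helper12.pPrimeCore_coprime p
  have hcP : ∀ z : ↥Cx, z ∈ Subgroup.centralizer (P : Set ↥Cx) ↔ y * (z : G) = (z : G) * y := by
    intro z
    rw [hP, Subgroup.zpowers_eq_closure, Subgroup.centralizer_closure, mem_centralizer_singleton']
    constructor
    · intro h; exact congrArg Subtype.val h
    · intro h; exact Subtype.ext h
  have hYP : Y ≤ Subgroup.centralizer (P : Set ↥Cx) := by
    intro z hz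
    rw [hY, Subgroup.mem_subgroupOf] at hz
    have hzy : (z : G) ∈ Cy := hle hz.1
    rw [hcP]
    exact (hmemC y _).mp hzy
  have hYn : Subgroup.centralizer (P : Set ↥Cx) ≤ Subgroup.normalizer (Y : Set ↥Cx) := by
    intro h hh
    rw [hcP] at hh
    have hhCy : (h : G) ∈ Cy := (hmemC y _).mpr hh
    have key : ∀ g : G, g ∈ Cy → ∀ w ∈ Cfsg.centralizerPPrimeCore p y,
        g * w * g⁻¹ ∈ Cfsg.centralizerPPrimeCore p y := by
      rintro g hg _ ⟨w, hw, rfl⟩
      exact ⟨⟨g, hg⟩ * w * ⟨g, hg⟩⁻¹, hn.conj_mem w hw ⟨g, hg⟩, rfl⟩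
    rw [Subgroup.mem_normalizer_iff]
    intro w
    rw [hY, Subgroup.mem_subgroupOf, Subgroup.mem_subgroupOf]
    constructor
    · intro hw
      refine Subgroup.mem_inf.mpr ⟨?_, (h * w * h⁻¹).2⟩
      have := key (h : G) hhCy (w : G) hw.1
      simpa using this
    · intro hw
      refine Subgroup.mem_inf.mpr ⟨?_, w.2⟩
      have := key ((h : G)⁻¹) (Cy.inv_mem hhCy) _ hw.1
      have h2 : ((h : G)⁻¹) * ((h * w * h⁻¹ : ↥Cx) : G) * ((h : G)⁻¹)⁻¹ = (w : G) := by
        simp [mul_assoc]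
      rw [h2] at this
      exact this
  have hfin := Cfsg.Agent.Lib.Helper8.le_pPrimeCore_of_centralizer_le_normalizer p P Y hPp hYc hYP hYn
  intro z hz
  have hzCx : z ∈ Cx := (Subgroup.mem_inf.mp hz).2
  have hzY : (⟨z, hzCx⟩ : ↥Cx) ∈ Y := by
    rw [hY, Subgroup.mem_subgroupOf]
    exact hz
  exact ⟨⟨z, hzCx⟩, hfin hzY, rfl⟩

/-- Let `G` be a finite group, `p` a prime, and `x, y` commuting elements of order `p` whose centralizers `C_G(x)` and `C_G(y)` are both solvable. Then `O_{p'}(C_G(x)) ∩ C_G(y) = O_{p'}(C_G(y)) ∩ C_G(x)` (balance). -/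
theorem result {G : Type*} [Group G] [Finite G]
    (p : ℕ) [Fact p.Prime] (x y : G) (hx : orderOf x = p) (hy : orderOf y = p) (hxy : x * y = y * x)
    (hCx : Group.IsSolvable ↥(Subgroup.centralizer ({x} : Set G))) (hCy : Group.IsSolvable ↥(Subgroup.centralizer ({y} : Set G))) :
    Cfsg.centralizerPPrimeCore p x ⊓ Subgroup.centralizer {y} = Cfsg.centralizerPPrimeCore p y ⊓ Subgroup.centralizer {x} := by
  have hlex : Cfsg.centralizerPPrimeCore p x ≤ Subgroup.centralizer ({x} : Set G) := by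
    rintro _ ⟨z, _, rfl⟩
    exact z.2
  have hley : Cfsg.centralizerPPrimeCore p y ≤ Subgroup.centralizer ({y} : Set G) := by
    rintro _ ⟨z, _, rfl⟩
    exact z.2
  apply le_antisymm
  · apply le_inf
    · exact half p y x hx hxy.symm hCy
    · exact inf_le_left.trans hlex
  · apply le_inf
    · exact half p x y hy hxy hCx
    · exact inf_le_left.trans hley

end Cfsg.Agent.S1958
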