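import Cfsg.Statements.S1966
import Cfsg.Agent.Lib.Helper12.Cores
-- import your own Cfsg.Agent.* helpers here

set_option autoImplicit false
open Cfsg

namespace Cfsg.Agent.S1966

/-- Let p be a prime, G a finite group with Sylow p-subgroup S and 𝓕 a conjugation family for S in G. Then the members of 𝓕 containing O_p(G) still form a conjugation family for S in G. -/
theorem result {G : Type*} [Group G] [Finite G] {p : ℕ} [Fact p.Prime] (S : Sylow p G) (𝓕 : Set (Subgroup G)) (h : Cfsg.IsConjugationFamily 𝓕 (S : Subgroup G)) : Cfsg.IsConjugationFamily {T : Subgroup G | T ∈ 𝓕 ∧ Cfsg.pCore p G ≤ T} (S : Subgroup G) := by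
  classical
  have hchar : (Cfsg.pCore p G).Characteristic := Cfsg.Agent.Lib.Helper12.pCore_characteristic' p
  have hnorm : (Cfsg.pCore p G).Normal := Subgroup.normal_of_characteristic _
  have hle : Cfsg.pCore p G ≤ (S : Subgroup G) :=
    (Cfsg.Agent.Lib.Helper12.pCore_isPGroup' (X := G) p).le_sylow_of_normal S
  obtain ⟨h1, h2⟩ := h
  refine ⟨fun T hT => h1 T hT.1, ?_⟩
  intro A g hAne hAS hAg
  have hA'S : A ∪ ((Cfsg.pCore p G : Subgroup G) : Set G) ⊆ (S : Subgroup G) := by
    intro a ha
    rcases ha with ha | ha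
    · exact hAS ha
    · exact hle ha
  have hA'g : (fun a => g⁻¹ * a * g) '' (A ∪ ((Cfsg.pCore p G : Subgroup G) : Set G)) ⊆
      (S : Subgroup G) := by
    rintro _ ⟨a, ha, rfl⟩
    rcases ha with ha | ha
    · exact hAg ⟨a, ha, rfl⟩
    · apply hle
      have := hnorm.conj_mem a ha g⁻¹
      simpa using this
  obtain ⟨n, T, x, hprod, hT, hx, h0, hstep⟩ := h2 _ g (hAne.mono Set.subset_union_left) hA'S hA'g
  refine ⟨n, T, x, hprod, ?_, hx, ?_, ?_⟩
  · intro i
    refine ⟨hT i, ?_⟩
    obtain ⟨i, hi⟩ := i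
    cases i with
    | zero =>
      intro y hy
      exact h0 hi (Or.inr hy)
    | succ j =>
      intro y hy
      have := hstep ⟨j, Nat.lt_of_succ_lt hi⟩ hi
      apply this
      set w := ((List.ofFn x).take (j + 1)).prod with hw
      refine ⟨w * y * w⁻¹, Or.inr (hnorm.conj_mem y hy w), ?_⟩
      show w⁻¹ * (w * y * w⁻¹) * w = y
      group
  · intro hn
    exact Set.Subset.trans Set.subset_union_left (h0 hn)
  · intro i hi
    refine Set.Subset.trans ?_ (hstep i hi)
    exact Set.image_mono Set.subset_union_left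

end Cfsg.Agent.S1966
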