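import Cfsg.Statements.S1967
import Cfsg.Agent.Lib.Helper12.Basic
-- import your own Cfsg.Agent.* helpers here

set_option autoImplicit false
open Cfsg

namespace Cfsg.Agent.S1967

/-- Let p be a prime, G a finite group with Sylow p-subgroup S and W a conjugacy functor for p on G. Then W controls strong fusion in G if and only if, whenever T ≤ S and g ∈ G satisfy gTg⁻¹ ≤ S, one can write g = n c with n ∈ N_G(W(S)) and c ∈ C_G(T). -/
theorem result {G : Type*} [Group G] [Finite G] {p : ℕ} [Fact p.Prime] (S : Sylow p G) (W : Subgroup G → Subgroup G) (hW : Cfsg.IsConjugacyFunctor p W) : Cfsg.ControlsStrongFusionIn p W ⊤ ↔ ∀ (T : Subgroup G) (g : G), T ≤ (S : Subgroup G) → T.map (MulAut.conj g).toMonoidHom ≤ (S : Subgroup G) → ∃ n ∈ Subgroup.normalizer ((W (S : Subgroup G) : Subgroup G) : Set G), ∃ c ∈ Subgroup.centralizer (T : Set G), g = n * c := by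
  constructor
  · rintro ⟨T₀, -, hT₀p, hidx, hctl⟩ T g hTS hTg
    rw [Subgroup.relIndex_top_right] at hidx
    obtain ⟨k, hk⟩ := MulAction.exists_smul_eq G (hT₀p.toSylow hidx) S
    have hS : (S : Subgroup G) = T₀.map (MulAut.conj k).toMonoidHom := by
      rw [← hk, Sylow.coe_subgroup_smul]
      rfl
    have hWS : W (S : Subgroup G) = (W T₀).map (MulAut.conj k).toMonoidHom := by
      rw [hS]
      exact (hW T₀ hT₀p).2.2 k
    -- the set A and the element h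
    have hA : (fun t => k⁻¹ * t * k) '' (T : Set G) ⊆ T₀ := by
      rintro _ ⟨t, ht, rfl⟩
      have : t ∈ T₀.map (MulAut.conj k).toMonoidHom := hS ▸ hTS ht
      exact (Cfsg.Agent.Lib.Helper12.mem_map_conj_iff T₀ k t).mp this
    have hAh : (fun a => (k⁻¹ * g * k) * a * (k⁻¹ * g * k)⁻¹) '' ((fun t => k⁻¹ * t * k) '' (T : Set G)) ⊆
        T₀ := by
      rintro _ ⟨_, ⟨t, ht, rfl⟩, rfl⟩
      have h1 : g * t * g⁻¹ ∈ T.map (MulAut.conj g).toMonoidHom :=
        Cfsg.Agent.Lib.Helper12.conj_mem_map_conj T g t ht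
      have h2 : g * t * g⁻¹ ∈ T₀.map (MulAut.conj k).toMonoidHom := hS ▸ hTg h1
      have h3 := (Cfsg.Agent.Lib.Helper12.mem_map_conj_iff T₀ k _).mp h2
      have e : (k⁻¹ * g * k) * (k⁻¹ * t * k) * (k⁻¹ * g * k)⁻¹ = k⁻¹ * (g * t * g⁻¹) * k := by group
      show (k⁻¹ * g * k) * (k⁻¹ * t * k) * (k⁻¹ * g * k)⁻¹ ∈ T₀
      rw [e]; exact h3
    obtain ⟨x, hx, hxa⟩ := hctl _ (k⁻¹ * g * k) (Subgroup.mem_top _) hA hAh
    have hxN : x ∈ Subgroup.normalizer ((W T₀ : Subgroup G) : Set G) := (Subgroup.mem_inf.mp hx).2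
    refine ⟨k * x * k⁻¹, ?_, (k * x * k⁻¹)⁻¹ * g, ?_, by group⟩
    · rw [hWS, Subgroup.mem_normalizer_iff]
      intro y
      rw [Cfsg.Agent.Lib.Helper12.mem_map_conj_iff, Cfsg.Agent.Lib.Helper12.mem_map_conj_iff]
      rw [Subgroup.mem_normalizer_iff] at hxN
      rw [hxN (k⁻¹ * y * k)]
      have e : k⁻¹ * (k * x * k⁻¹ * y * (k * x * k⁻¹)⁻¹) * k = x * (k⁻¹ * y * k) * x⁻¹ := by group
      rw [e]
    · rw [Subgroup.mem_centralizer_iff]
      intro t ht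
      have h1 := hxa (k⁻¹ * t * k) ⟨t, ht, rfl⟩
      have h2 : k * x * k⁻¹ * t * (k * x * k⁻¹)⁻¹ = g * t * g⁻¹ := by
        have : k * (x * (k⁻¹ * t * k) * x⁻¹) * k⁻¹ =
            k * ((k⁻¹ * g * k) * (k⁻¹ * t * k) * (k⁻¹ * g * k)⁻¹) * k⁻¹ := by rw [h1]
        calc k * x * k⁻¹ * t * (k * x * k⁻¹)⁻¹ = k * (x * (k⁻¹ * t * k) * x⁻¹) * k⁻¹ := by group
          _ = k * ((k⁻¹ * g * k) * (k⁻¹ * t * k) * (k⁻¹ * g * k)⁻¹) * k⁻¹ := this
          _ = g * t * g⁻¹ := by group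
      calc t * ((k * x * k⁻¹)⁻¹ * g)
          = (k * x * k⁻¹)⁻¹ * (k * x * k⁻¹ * t * (k * x * k⁻¹)⁻¹) * (k * x * k⁻¹) * ((k * x * k⁻¹)⁻¹ * g) := by
            group
        _ = (k * x * k⁻¹)⁻¹ * (g * t * g⁻¹) * (k * x * k⁻¹) * ((k * x * k⁻¹)⁻¹ * g) := by rw [h2]
        _ = (k * x * k⁻¹)⁻¹ * g * t := by group
  · intro hfac
    refine ⟨(S : Subgroup G), le_top, S.2, ?_, ?_⟩
    · rw [Subgroup.relIndex_top_right]
      exact S.not_dvd_index
    · intro A h _ hAS hAh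
      have h1 : Subgroup.closure A ≤ (S : Subgroup G) := (Subgroup.closure_le _).mpr hAS
      have h2 : (Subgroup.closure A).map (MulAut.conj h).toMonoidHom ≤ (S : Subgroup G) := by
        rw [MonoidHom.map_closure, Subgroup.closure_le]
        rintro _ ⟨a, ha, rfl⟩
        apply hAh
        exact ⟨a, ha, by simp [MulAut.conj_apply]⟩
      obtain ⟨n, hn, c, hc, rfl⟩ := hfac _ h h1 h2
      refine ⟨n, Subgroup.mem_inf.mpr ⟨Subgroup.mem_top _, hn⟩, ?_⟩
      intro a ha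
      rw [Subgroup.mem_centralizer_iff] at hc
      have := hc a (Subgroup.subset_closure ha)
      calc n * a * n⁻¹ = n * (a * c) * c⁻¹ * n⁻¹ := by group
        _ = n * (c * a) * c⁻¹ * n⁻¹ := by rw [this]
        _ = n * c * a * (n * c)⁻¹ := by group

end Cfsg.Agent.S1967
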