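import Cfsg.Statements.S1968
import Cfsg.Agent.Lib.Helper12.Control

set_option autoImplicit false
open Cfsg

namespace Cfsg.Agent.S1968
open Cfsg.Agent.Lib.Helper12

/-- if the end of a chain moves `A`, some step of the chain moves `A` -/
theorem exists_moving_step {G : Type*} [Group G] (𝓕 : Set (Subgroup G)) (A : Set G)
    (l : List (Subgroup G × G)) :
    Chain 𝓕 A l → cjs (prodOf l) A ≠ A →
      ∃ T ∈ 𝓕, ∃ x ∈ Subgroup.normalizer ((T : Subgroup G) : Set G), A ⊆ T ∧ cjs x A ≠ A := by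
  induction l with
  | nil =>
    intro _ h
    rw [prodOf_nil, cjs_one] at h
    exact absurd rfl h
  | cons q l ih =>
    obtain ⟨T, x⟩ := q
    rintro ⟨hT, hx, hA, hl⟩ hne
    by_cases hxA : cjs x A = A
    · rw [hxA] at hl
      apply ih hl
      rw [prodOf_cons, cjs_mul, hxA] at hne
      exact hne
    · exact ⟨T, hT, x, hx, hA, hxA⟩

/-- Let p be a prime, G a finite group with Sylow p-subgroup S and W a conjugacy functor for p on G with Z(P) ≤ W(P) for every p-subgroup P. Let A be a subgroup of Z(S) normalized by N_G(W(S)) that is not weakly closed in S with respect to G. Then there is a subgroup T of S, well placed in S with respect to W, such that: A ≤ T; N_G(W(N_S(T))) normalizes A; N_S(T) is a Sylow p-subgroup of N_G(T); A ≤ Z(N_S(T)); and A is not weakly closed in N_S(T) with respect to N_G(T), that is, some N_G(T)-conjugate of A other than A lies in N_S(T). -/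
theorem result {G : Type*} [Group G] [Finite G] {p : ℕ} [Fact p.Prime] (S : Sylow p G) (W : Subgroup G → Subgroup G) (hW : Cfsg.IsConjugacyFunctor p W) (hWZ : ∀ P : Subgroup G, IsPGroup p ↥P → P ⊓ Subgroup.centralizer (P : Set G) ≤ W P) (A : Subgroup G) (hAZ : A ≤ (S : Subgroup G) ⊓ Subgroup.centralizer ((S : Subgroup G) : Set G)) (hAN : Subgroup.normalizer ((W (S : Subgroup G) : Subgroup G) : Set G) ≤ Subgroup.normalizer ((A : Subgroup G) : Set G)) (hnwc : ¬ Cfsg.IsWeaklyClosed A (S : Subgroup G)) : ∃ T : Subgroup G, Cfsg.IsWellPlaced p W (S : Subgroup G) T ∧ A ≤ T ∧ Subgroup.normalizer ((W ((S : Subgroup G) ⊓ Subgroup.normalizer ((T : Subgroup G) : Set G)) : Subgroup G) : Set G) ≤ Subgroup.normalizer ((A : Subgroup G) : Set G) ∧ ¬ p ∣ ((S : Subgroup G) ⊓ Subgroup.normalizer ((T : Subgroup G) : Set G)).relIndex (Subgroup.normalizer ((T : Subgroup G) : Set G)) ∧ A ≤ Subgroup.centralizer (((S : Subgroup G) ⊓ Subgroup.normalizer ((T : Subgroup G) : Set G) : Subgroup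 G) : Set G) ∧ ∃ g ∈ Subgroup.normalizer ((T : Subgroup G) : Set G), A.map (MulAut.conj g).toMonoidHom ≤ (S : Subgroup G) ⊓ Subgroup.normalizer ((T : Subgroup G) : Set G) ∧ A.map (MulAut.conj g).toMonoidHom ≠ A := by
  classical
  have hSp : IsPGroup p (S : Subgroup G) := S.2
  have hAS : A ≤ (S : Subgroup G) := hAZ.trans inf_le_left
  have hAC : A ≤ Subgroup.centralizer ((S : Subgroup G) : Set G) := hAZ.trans inf_le_right
  -- the property
  let Good : Subgroup G → Prop := fun T => Cfsg.IsWellPlaced p W (S : Subgroup G) T ∧ A ≤ T ∧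
    ∃ g ∈ Subgroup.normalizer ((T : Subgroup G) : Set G),
      cj g A ≤ (S : Subgroup G) ⊓ Subgroup.normalizer ((T : Subgroup G) : Set G) ∧ cj g A ≠ A
  -- step 1: some subgroup is good
  have hex : ∃ T, Good T := by
    have h1 : ∃ g : G, cj g A ≤ (S : Subgroup G) ∧ cj g A ≠ A := by
      by_contra hcon
      apply hnwc
      refine ⟨hAS, fun g hg => ?_⟩
      by_contra hne
      exact hcon ⟨g, hg, hne⟩
    obtain ⟨g, hgS, hgA⟩ := h1
    have h2 : cj g⁻¹⁻¹ A ≤ (S : Subgroup G) := by rw [inv_inv]; exact hgS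
    obtain ⟨l, hl, hprod⟩ := reach_wellPlaced S W hW A hAS g⁻¹ h2
    have h3 : cjs (prodOf l) (A : Set G) ≠ A := by
      rw [hprod, cjs_coe, inv_inv]
      intro h
      exact hgA (SetLike.coe_injective h)
    obtain ⟨T, hT, x, hx, hAT, hxA⟩ := exists_moving_step _ _ l hl h3
    have hTwp : Cfsg.IsWellPlaced p W (S : Subgroup G) T := hT
    have hAT' : A ≤ T := hAT
    refine ⟨T, hTwp, hAT', x⁻¹, inv_mem hx, ?_, ?_⟩
    · have h4 : cj x⁻¹ A ≤ cj x⁻¹ T := cj_mono x⁻¹ hAT'
      rw [cj_eq_of_mem_normalizer (inv_mem hx)] at h4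
      exact h4.trans (le_inf hTwp.1 Subgroup.le_normalizer)
    · intro h
      apply hxA
      rw [cjs_coe, h]
  -- step 2: a good subgroup with `N_S(T)` of largest order
  obtain ⟨T, hTgood, hTmax⟩ := Set.exists_max_image {T : Subgroup G | Good T}
    (fun T => Nat.card ↥((S : Subgroup G) ⊓ Subgroup.normalizer ((T : Subgroup G) : Set G)))
    (Set.toFinite _) hex
  obtain ⟨hTwp, hAT, g, hgN, hgS, hgA⟩ := hTgood
  have hS₁p : IsPGroup p ↥((S : Subgroup G) ⊓ Subgroup.normalizer ((T : Subgroup G) : Set G)) :=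
    hSp.to_le inf_le_left
  have hAcent : A ≤ Subgroup.centralizer
      ((((S : Subgroup G) ⊓ Subgroup.normalizer ((T : Subgroup G) : Set G) : Subgroup G)) : Set G) :=
    hAC.trans (Subgroup.centralizer_le inf_le_left)
  refine ⟨T, hTwp, hAT, ?_, hTwp.2 0, hAcent, g, hgN, hgS, hgA⟩
  -- step 3
  by_cases hS₁S : (S : Subgroup G) ⊓ Subgroup.normalizer ((T : Subgroup G) : Set G) = (S : Subgroup G)
  · rw [hS₁S]
    exact hAN
  · set S₁ := (S : Subgroup G) ⊓ Subgroup.normalizer ((T : Subgroup G) : Set G) with hS₁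
    intro h hh
    by_contra hhA
    -- `T₁ = W(S₁)` is good with a larger normalizer in `S`
    have hT₁wp : Cfsg.IsWellPlaced p W (S : Subgroup G) (Cfsg.functorTower W (S : Subgroup G) T 1) :=
      isWellPlaced_tower_one W hW (S : Subgroup G) hSp hTwp
    have hT₁eq : Cfsg.functorTower W (S : Subgroup G) T 1 = W S₁ := rfl
    rw [hT₁eq] at hT₁wp
    have hAS₁ : A ≤ S₁ := hAT.trans (le_inf hTwp.1 Subgroup.le_normalizer)
    have hAT₁ : A ≤ W S₁ := (le_inf hAS₁ hAcent).trans (hWZ S₁ hS₁p)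
    have hcjh : cj h A ≠ A := by
      intro h1
      exact hhA (mem_normalizer_of_cj_eq h1)
    have hcjh' : cj h A ≤ (S : Subgroup G) ⊓ Subgroup.normalizer ((W S₁ : Subgroup G) : Set G) := by
      have h4 : cj h A ≤ cj h (W S₁) := cj_mono h hAT₁
      rw [cj_eq_of_mem_normalizer hh] at h4
      exact h4.trans (le_inf hT₁wp.1 Subgroup.le_normalizer)
    have hgood₁ : Good (W S₁) := ⟨hT₁wp, hAT₁, h, hh, hcjh', hcjh⟩
    have hle := hTmax (W S₁) hgood₁
    have hlt : Nat.card S₁ <
        Nat.card ↥((S : Subgroup G) ⊓ Subgroup.normalizer ((W S₁ : Subgroup G) : Set G)) := by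
      have h1 := card_lt_card_inf_normalizer hSp (inf_le_left : S₁ ≤ (S : Subgroup G)) hS₁S
      refine lt_of_lt_of_le h1 (Subgroup.card_le_of_le ?_)
      apply le_inf inf_le_left
      intro k hk
      have hkN := (Subgroup.mem_inf.mp hk).2
      apply mem_normalizer_of_cj_eq
      have h2 : W (cj k S₁) = cj k (W S₁) := (hW S₁ hS₁p).2.2 k
      rw [cj_eq_of_mem_normalizer hkN] at h2
      exact h2.symm
    exact absurd hle (not_le.mpr hlt)

end Cfsg.Agent.S1968
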