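import Cfsg.Statements.S1972
import Cfsg.Agent.Lib.Helper8.TransferMin
import Cfsg.Agent.Lib.Helper12.FusionConvert

set_option autoImplicit false
universe u
open Cfsg

namespace Cfsg.Agent.S1972

open Cfsg.Agent.Lib.Helper12 Cfsg.Agent.Lib.Helper8.TransferMin Cfsg.Agent.Lib.Helper8.TraceArg

section aux
variable {p : ℕ} [Fact p.Prime] (W : ∀ (Q : Type u) [Group Q], Subgroup Q)
  (hW : Cfsg.IsCharPFunctor.{u} p W)

/-- the Engel hypothesis on a group `Q` with `C_Q(O_p(Q)) ≤ O_p(Q)` -/
def EngelHyp (p : ℕ) (W : ∀ (Q : Type u) [Group Q], Subgroup Q) (Q : Type u) [Group Q] : Prop :=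
  Subgroup.centralizer ((Cfsg.pCore p Q : Subgroup Q) : Set Q) ≤ Cfsg.pCore p Q →
    ∀ T : Sylow p Q, ¬ (Cfsg.inducedFunctor (G := Q) W (T : Subgroup Q)).Normal →
      ∃ g : Q, g ∈ (T : Subgroup Q) ∧ g ∉ Cfsg.pCore p Q ∧
        ∀ U V : Subgroup Q, Cfsg.IsChiefFactor U V → U ≤ Cfsg.pCore p Q →
          Cfsg.iterCommutator U (Subgroup.zpowers g) (p - 1) ≤ V

include hW in
theorem engelHyp_of_equiv {Q Q' : Type u} [Group Q] [Group Q'] [Finite Q] (e : Q ≃* Q')
    (h : EngelHyp p W Q) : EngelHyp p W Q' := by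
  intro hC' T' hnn'
  have hcore : (Cfsg.pCore p Q).map e.toMonoidHom = Cfsg.pCore p Q' := pCore_map_equiv' p e
  have hC := centralizer_pCore_le_of_equiv (p := p) e hC'
  let T : Sylow p Q := T'.comapOfInjective e.toMonoidHom e.injective
    (by intro y _; exact ⟨e.symm y, e.apply_symm_apply y⟩)
  have hTcoe : (T : Subgroup Q) = (T' : Subgroup Q').comap e.toMonoidHom :=
    Sylow.coe_comapOfInjective _ _ _ _
  have hTmap : (T : Subgroup Q).map e.toMonoidHom = (T' : Subgroup Q') := by
    rw [hTcoe]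
    exact Subgroup.map_comap_eq_self_of_surjective e.surjective _
  have hnn : ¬ (Cfsg.inducedFunctor (G := Q) W (T : Subgroup Q)).Normal := by
    intro hn
    apply hnn'
    rw [← hTmap, inducedFunctor_map_equiv W hW e T T.2]
    exact Subgroup.Normal.map hn _ e.surjective
  obtain ⟨g, hgT, hgP, hEng⟩ := h hC T hnn
  refine ⟨e g, ?_, ?_, ?_⟩
  · rw [← hTmap]; exact ⟨g, hgT, rfl⟩
  · intro hg
    rw [← hcore] at hg
    obtain ⟨g₀, hg₀, hgg⟩ := hg
    have : g₀ = g := e.injective hgg
    exact hgP (this ▸ hg₀)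
  · intro U' V' hUV' hU'
    obtain ⟨hVU', hU'n, hV'n, hmin'⟩ := hUV'
    set U := U'.comap e.toMonoidHom with hU
    set V := V'.comap e.toMonoidHom with hV
    have hUmap : U.map e.toMonoidHom = U' := Subgroup.map_comap_eq_self_of_surjective e.surjective _
    have hVmap : V.map e.toMonoidHom = V' := Subgroup.map_comap_eq_self_of_surjective e.surjective _
    have hchief : Cfsg.IsChiefFactor U V := by
      refine ⟨?_, hU'n.comap _, hV'n.comap _, ?_⟩
      · refine lt_of_le_of_ne (Subgroup.comap_mono hVU'.le) ?_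
        intro heq
        apply ne_of_lt hVU'
        rw [← hUmap, ← hVmap, heq]
      · intro N hN hVN hNU
        have hN' : (N.map e.toMonoidHom).Normal := Subgroup.Normal.map hN _ e.surjective
        have h1 : V' ≤ N.map e.toMonoidHom := by rw [← hVmap]; exact Subgroup.map_mono hVN
        have h2 : N.map e.toMonoidHom ≤ U' := by rw [← hUmap]; exact Subgroup.map_mono hNU
        have hNc : (N.map e.toMonoidHom).comap e.toMonoidHom = N :=
          Subgroup.comap_map_eq_self_of_injective e.injective N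
        rcases hmin' _ hN' h1 h2 with h3 | h3
        · left; rw [← hNc, h3]
        · right; rw [← hNc, h3]
    have hUP : U ≤ Cfsg.pCore p Q := by
      intro x hx
      have : e x ∈ Cfsg.pCore p Q' := hU' hx
      rw [← hcore] at this
      obtain ⟨x₀, hx₀, hxx⟩ := this
      have : x₀ = x := e.injective hxx
      exact this ▸ hx₀
    have h1 := Subgroup.map_mono (f := e.toMonoidHom) (hEng U V hchief hUP)
    rw [iterCommutator_map, hUmap, hVmap, MonoidHom.map_zpowers] at h1
    exact h1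

theorem fam_singleton_iff {Q : Type u} [Group Q] (X : Subgroup Q) :
    Cfsg.FamilyControlsTransferIn p (inducedFamily {W} Q) X ↔
      Cfsg.ControlsTransferIn p (Cfsg.inducedFunctor (G := Q) W) X := by
  unfold Cfsg.FamilyControlsTransferIn Cfsg.ControlsTransferIn inducedFamily
  simp only [Set.image_singleton, Set.mem_singleton_iff, iSup_iSup_eq_left]

include hW in
theorem engel_control : ∀ (n : ℕ) (H : Type u) [Group H] [Finite H], Nat.card H = n →
    AllSections (fun Q _ => Finite Q → EngelHyp p W Q) H →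
    Cfsg.ControlsTransferIn p (Cfsg.inducedFunctor (G := H) W) ⊤ := by
  intro n
  induction n using Nat.strong_induction_on with
  | _ n ih =>
  intro H _ _ hcard hgood
  have h𝓦 : ∀ W' ∈ ({W} : Set (∀ (Q : Type u) [Group Q], Subgroup Q)),
      Cfsg.IsCharPFunctor.{u} p W' := by
    intro W' hW'
    rw [Set.mem_singleton_iff.mp hW']; exact hW
  have hΦ : ∀ (Q Q' : Type u) [Group Q] [Group Q'], (Q ≃* Q') →
      (Finite Q → EngelHyp p W Q) → (Finite Q' → EngelHyp p W Q') := by
    intro Q Q' _ _ e h hfin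
    haveI : Finite Q := Finite.of_equiv Q' e.symm.toEquiv
    exact engelHyp_of_equiv W hW e (h inferInstance)
  by_contra hG
  obtain ⟨S⟩ : Nonempty (Sylow p H) := inferInstance
  have ihsub : ∀ N₁ : Subgroup H, N₁ ≠ ⊤ →
      Cfsg.FamilyControlsTransferIn p (inducedFamily {W} H) N₁ := by
    intro N₁ hne
    apply familyControlsTransferIn_of_subtype {W} h𝓦
    rw [fam_singleton_iff]
    apply ih (Nat.card N₁) _ ↥N₁ rfl (AllSections.subgroup _ hΦ hgood N₁)
    rw [← hcard]
    exact lt_of_le_of_ne (Subgroup.card_le_card_group N₁)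
      (fun h => hne ((Subgroup.card_eq_iff_eq_top N₁).mp h))
  have ihquot : ∀ (Z : Subgroup H) [Z.Normal], Z ≠ ⊥ →
      Cfsg.FamilyControlsTransferIn p (inducedFamily {W} (H ⧸ Z)) ⊤ := by
    intro Z _ hne
    rw [fam_singleton_iff]
    apply ih (Nat.card (H ⧸ Z)) _ (H ⧸ Z) rfl (AllSections.quotient _ hΦ hgood Z)
    rw [← hcard, ← Subgroup.index_eq_card, ← Z.index_mul_card]
    have h1 : 1 < Nat.card Z := (Subgroup.one_lt_card_iff_ne_bot Z).mpr hne
    have h0 : 0 < Z.index := Nat.pos_of_ne_zero Subgroup.index_ne_zero_of_finite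
    nlinarith
  have hG' : ¬ Cfsg.FamilyControlsTransferIn p (inducedFamily {W} H) ⊤ := by
    rw [fam_singleton_iff]; exact hG
  obtain ⟨h1, -, -, h4⟩ := min_counterexample {W} h𝓦 S ⟨W, rfl⟩ ihsub ihquot hG'
  have hH : EngelHyp p W H := AllSections.self _ hΦ hgood inferInstance
  have hnn : ¬ (Cfsg.inducedFunctor (G := H) W (S : Subgroup H)).Normal := by
    intro hn
    apply hG'
    apply control_of_le {W} S
    have htop : Subgroup.normalizer ((Cfsg.inducedFunctor W (S : Subgroup H) : Subgroup H) : Set H)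
        = ⊤ := Subgroup.normalizer_eq_top_iff.mpr hn
    refine le_trans ?_ (le_iSup₂_of_le W rfl le_rfl)
    rw [htop, _root_.commutator_def]
  obtain ⟨g, hgS, hgP, hEng⟩ := hH h1 S hnn
  obtain ⟨U, V, hUV, hUP, hnot⟩ := h4 g hgS hgP
  exact hnot (hEng U V hUV hUP)

end aux

/-- Let p be a prime, G a finite group and W an isomorphism-invariant p-group functor (W assigns to every group Q a subgroup W(Q), nontrivial whenever Q is a nontrivial finite p-group, and every isomorphism from a finite p-group Q onto a group R carries W(Q) onto W(R)). Suppose that whenever G* = K/R is a section of G with C_{G*}(O_p(G*)) ≤ O_p(G*) and S* is a Sylow p-subgroup of G* with W(S*) not normal in G*, there is an element g of S* outside O_p(G*) such that [X, g, …, g] ≤ Y with p − 1 entries g, for every chief factor X/Y of G* with X ≤ O_p(G*). Then W controls transfer in every section of G. -/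
theorem result {G : Type u} [Group G] [Finite G] {p : ℕ} [Fact p.Prime] (W : ∀ (Q : Type u) [Group Q], Subgroup Q) (hW : Cfsg.IsCharPFunctor.{u} p W) (hloc : ∀ (K R : Subgroup G) [hR : (R.subgroupOf K).Normal], Subgroup.centralizer ((Cfsg.pCore p (↥K ⧸ R.subgroupOf K) : Subgroup (↥K ⧸ R.subgroupOf K)) : Set (↥K ⧸ R.subgroupOf K)) ≤ Cfsg.pCore p (↥K ⧸ R.subgroupOf K) → ∀ T : Sylow p (↥K ⧸ R.subgroupOf K), ¬ (Cfsg.inducedFunctor (G := (↥K ⧸ R.subgroupOf K)) W ((T : Subgroup (↥K ⧸ R.subgroupOf K)))).Normal → ∃ g : (↥K ⧸ R.subgroupOf K), g ∈ (T : Subgroup (↥K ⧸ R.subgroupOf K)) ∧ g ∉ Cfsg.pCore p (↥K ⧸ R.subgroupOf K) ∧ ∀ U V : Subgroup (↥K ⧸ R.subgroupOf K), Cfsg.IsChiefFactor U V → U ≤ Cfsg.pCore p (↥K ⧸ R.subgroupOf K) → Cfsg.iterCommutator U (Subgroup.zpowers g) (p - 1) ≤ V) : ∀ (K R : Subgroup G) [hR : (R.subgroupOf K).Normal], Cfsg.ControlsTransferIn p (Cfsg.inducedFunctor (G := (↥K ⧸ R.subgroupOf K)) W) ⊤ := by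
  intro K R hR
  have hgood : AllSections (fun Q _ => Finite Q → EngelHyp p W Q) G :=
    fun K' R' _ _ => hloc K' R'
  have hΦ : ∀ (Q Q' : Type u) [Group Q] [Group Q'], (Q ≃* Q') →
      (Finite Q → EngelHyp p W Q) → (Finite Q' → EngelHyp p W Q') := by
    intro Q Q' _ _ e h hfin
    haveI : Finite Q := Finite.of_equiv Q' e.symm.toEquiv
    exact engelHyp_of_equiv W hW e (h inferInstance)
  exact engel_control W hW _ (↥K ⧸ R.subgroupOf K) rfl (AllSections.section _ hΦ hgood K R)

end Cfsg.Agent.S1972
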