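import Cfsg.Statements.S1983
-- import your own Cfsg.Agent.* helpers here
import Cfsg.Agent.Lib.Helper29.KInfO
import Cfsg.Agent.Lib.Helper29.KInfI

set_option autoImplicit false
universe u
open Cfsg

namespace Cfsg.Agent.S1983

/-- Let p be a prime, G a finite group with Sylow p-subgroup S and T = O_p(G). Suppose that the lower or the upper K-infinity subgroup of S is not normal in G. Then there is an element g of S outside T such that [X, g, g, g, g] ≤ Y for every chief factor X/Y of G with X ≤ T, and [Z(T), g, g] = 1; and if moreover C_G(T) ≤ T then some quotient group of G is not p-stable (in the normalizer form: some quadratically acting element of a normalizer fails to map into O_p of the automizer). -/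
theorem result {G : Type u} [Group G] [Finite G] {p : ℕ} [Fact p.Prime] (S : Sylow p G) (hK : ¬ (Cfsg.inducedFunctor Cfsg.kInfLower (S : Subgroup G)).Normal ∨ ¬ (Cfsg.inducedFunctor Cfsg.kInfUpper (S : Subgroup G)).Normal) : ∃ g : G, g ∈ (S : Subgroup G) ∧ g ∉ (Cfsg.pCore p G) ∧ (∀ U V : Subgroup G, Cfsg.IsChiefFactor U V → U ≤ (Cfsg.pCore p G) → Cfsg.iterCommutator U (Subgroup.zpowers g) 4 ≤ V) ∧ ⁅⁅((Cfsg.pCore p G) ⊓ Subgroup.centralizer (((Cfsg.pCore p G) : Subgroup G) : Set G)), (Subgroup.zpowers g)⁆, (Subgroup.zpowers g)⁆ = ⊥ ∧ (Subgroup.centralizer (((Cfsg.pCore p G) : Subgroup G) : Set G) ≤ (Cfsg.pCore p G) → ∃ (N : Subgroup G) (_ : N.Normal), ¬ Cfsg.IsNormalizerPStable p (G ⧸ N)) := by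
  have hHp : IsPGroup p (Cfsg.pCore p G) := Cfsg.Agent.Lib.Helper16.pCore_isPGroup
  haveI hHn : (Cfsg.pCore p G).Normal := inferInstance
  obtain ⟨A, hAT, hAchar, hA1, hA2, hA3, hA4, hA5⟩ :=
    Cfsg.Agent.Lib.Helper29.KInfN.exists_critical p G
  have hcrit := Cfsg.Agent.Lib.Helper29.KInfN.crit_of_hyps A hAT hAchar hA2 hA3 hA5
  haveI hAn : A.Normal := hcrit.cfg.normal
  obtain ⟨g, hgS, hgT, h3, h2, hq⟩ :=
    Cfsg.Agent.Lib.Helper29.KInfN.exists_good_of_not_normal hcrit S hK
  refine ⟨g, hgS, hgT, ?_, ?_, ?_⟩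
  · have := Cfsg.Agent.S2003.result (Cfsg.pCore p G) hHp A hAT hAchar hA1 hA2 hA3 hA4 hA5 g 3 2
      (by norm_num) (by norm_num)
      (fun U V hch hUA => Cfsg.Agent.Lib.Helper29.KInfN.iter_three_le_of_chief g h3 h2 hch hUA)
      (fun U V hch hUZ => by
        have : Cfsg.iterCommutator U (Subgroup.zpowers g) 2 ≤ ⊥ := by
          rw [← h2]
          exact Cfsg.Agent.Lib.Helper12.KInfDeg.iter_mono hUZ _ 2
        exact this.trans bot_le)
    exact this
  · rw [eq_bot_iff, ← h2]
    have hle : Cfsg.pCore p G ⊓ Subgroup.centralizer ((Cfsg.pCore p G : Subgroup G) : Set G) ≤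
        A ⊓ Subgroup.centralizer (A : Set G) := by
      rw [← hA4]
      exact inf_le_inf_left _ (Subgroup.centralizer_le hAT)
    exact Subgroup.commutator_mono (Subgroup.commutator_mono hle le_rfl) le_rfl
  · intro hΓ
    obtain ⟨U, V, hch, hUA, hq2, hq1⟩ := hq hΓ
    haveI hVn : V.Normal := hch.2.2.1
    exact ⟨V, hVn, Cfsg.Agent.Lib.Helper29.KInfN.not_normalizerPStable_of_quadChief hch
      (hHp.to_le (hUA.trans hAT)) g hq2 hq1⟩

end Cfsg.Agent.S1983
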