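import Cfsg.Statements.S1984
-- import your own Cfsg.Agent.* helpers here
import Cfsg.Agent.Lib.Helper29.KInfI
import Cfsg.Agent.S1972

set_option autoImplicit false
universe u
open Cfsg

namespace Cfsg.Agent.S1984

/-- Let p ≥ 5 be a prime and G a finite group. Then the lower K-infinity subgroup controls transfer in G: for some (equivalently, every) Sylow p-subgroup S of G, S ∩ G' = S ∩ (N_G(K))', where K is the lower K-infinity subgroup of S. -/
theorem result {G : Type u} [Group G] [Finite G] {p : ℕ} [Fact p.Prime] (hp : 5 ≤ p) : Cfsg.ControlsTransferIn p (Cfsg.inducedFunctor (G := G) Cfsg.kInfLower) ⊤ := by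
  have hall : ∀ (Q : Type u) [Group Q], Finite Q → Cfsg.Agent.S1972.EngelHyp p Cfsg.kInfLower Q := by
    intro Q _ _ hC T hnn
    obtain ⟨g, hgT, hgP, h4, -⟩ :=
      Cfsg.Agent.Lib.Helper29.KInfN.theoremC_core T (Or.inl hnn)
    refine ⟨g, hgT, hgP, fun U V hUV hU => ?_⟩
    have hUn : U.Normal := hUV.2.1
    have hCU : Subgroup.zpowers g ≤ Subgroup.normalizer (U : Set Q) := by
      rw [Subgroup.normalizer_eq_top]; exact le_top
    exact le_trans (Cfsg.Agent.Lib.Helper12.KInfDeg.iter_antitone U _ hCU (by omega : 4 ≤ p - 1))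
      (h4 U V hUV hU)
  exact Cfsg.Agent.S1972.engel_control Cfsg.kInfLower
    (Cfsg.Agent.Lib.Helper29.KInfN.isCharPFunctor_kInfLower.{u} p) _ G rfl (fun K R _ => hall _)

end Cfsg.Agent.S1984
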