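import Cfsg.Statements.S1986
import Cfsg.Agent.Lib.Helper27.KQ3

set_option autoImplicit false
universe u
open Cfsg Cfsg.Agent.Lib.Helper27.KQ Cfsg.Agent.Lib.Helper27.KL

namespace Cfsg.Agent.S1986

/-- Let p be a prime, G a finite group with Sylow p-subgroup S, K the lower K-infinity subgroup of S, and Z the subgroup of p-th powers of elements of Z(S). Then every element of Z commuting with all of N_G(K) is weakly closed in S with respect to G, and every subgroup of Z that is normal in N_G(K) is weakly closed in S with respect to G. -/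
theorem result {G : Type u} [Group G] [Finite G] {p : ℕ} [Fact p.Prime] (S : Sylow p G) (Z : Subgroup G) (hZ : Z = Subgroup.closure ((fun z : G => z ^ p) '' (((S : Subgroup G) ⊓ Subgroup.centralizer (((S : Subgroup G) : Subgroup G) : Set G) : Subgroup G) : Set G))) : (∀ x ∈ Z ⊓ Subgroup.centralizer ((Subgroup.normalizer ((Cfsg.inducedFunctor Cfsg.kInfLower (S : Subgroup G) : Subgroup G) : Set G) : Subgroup G) : Set G), ∀ g : G, g * x * g⁻¹ ∈ (S : Subgroup G) → g * x * g⁻¹ = x) ∧ ∀ A : Subgroup G, A ≤ Z → Subgroup.normalizer ((Cfsg.inducedFunctor Cfsg.kInfLower (S : Subgroup G) : Subgroup G) : Set G) ≤ Subgroup.normalizer ((A : Subgroup G) : Set G) → Cfsg.IsWeaklyClosed A (S : Subgroup G) := by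
  have hW := posChar_kInfLower.{u} p
  have hWZ : ∀ (Q : Type u) [Group Q] [Finite Q], IsPGroup p Q → Subgroup.center Q ≤ Cfsg.kInfLower Q :=
    fun Q _ _ hQ => center_le_kInfLower Q hQ
  have hq := quadProp_kInfLower.{u} p
  have hZdef : Z = agemoCenter p (S : Subgroup G) := hZ
  have hZS : Z ≤ (S : Subgroup G) := by
    rw [hZdef]
    intro q hq
    obtain ⟨z, hzS, -, rfl⟩ := exists_of_mem_agemoCenter hq
    exact Subgroup.pow_mem _ hzS p
  have hK : Cfsg.inducedFunctor Cfsg.kInfLower (S : Subgroup G) = WS Cfsg.kInfLower (S : Subgroup G) := rfl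
  constructor
  · rintro x ⟨hxZ, hxC⟩ g hgx
    have hxS : x ∈ (S : Subgroup G) := hZS hxZ
    have key := conj_mem_iff_of_normalizer_le hW hWZ hq S ({x} : Set G)
      (by
        intro y hy
        rw [Set.mem_singleton_iff] at hy
        rw [hy, ← hZdef]
        exact hxZ)
      (by
        intro h hh y
        rw [Set.mem_singleton_iff, Set.mem_singleton_iff]
        have hcomm : h * x = x * h := by
          have := Subgroup.mem_centralizer_iff.mp hxC h (hK ▸ hh)
          exact this
        constructor
        · intro hy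
          rw [hy, hcomm]; group
        · intro hy
          have : h * y * h⁻¹ = h * x * h⁻¹ := by rw [hy, hcomm]; group
          exact mul_left_cancel (mul_right_cancel this))
      (Subgroup.zpowers x) g
      (by rw [Subgroup.zpowers_le]; exact hxS)
      (by
        intro y hy
        obtain ⟨k, rfl⟩ := Subgroup.mem_zpowers_iff.mp hy
        have : g * x ^ k * g⁻¹ = (g * x * g⁻¹) ^ k := by
          rw [conj_zpow]
        rw [this]
        exact Subgroup.zpow_mem _ hgx k)
      x (Subgroup.mem_zpowers x)
    exact key.mp rfl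
  · intro A hAZ hNA
    refine ⟨hAZ.trans hZS, fun g hg => ?_⟩
    have key := conj_mem_iff_of_normalizer_le hW hWZ hq S (A : Set G)
      (by
        intro y hy
        rw [← hZdef]
        exact hAZ hy)
      (by
        intro h hh y
        exact Subgroup.mem_normalizer_iff.mp (hNA (hK ▸ hh)) y)
      A g (hAZ.trans hZS)
      (by
        intro y hy
        exact hg ⟨y, hy, rfl⟩)
    have hle : A.map (MulAut.conj g).toMonoidHom ≤ A := by
      rintro _ ⟨y, hy, rfl⟩
      exact (key y hy).mp hy
    have hcard : Nat.card ↥(A.map (MulAut.conj g).toMonoidHom) = Nat.card ↥A :=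
      Subgroup.card_map_of_injective (MulAut.conj g).injective
    exact Subgroup.eq_of_le_of_card_ge hle hcard.ge

end Cfsg.Agent.S1986
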