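import Cfsg.Statements.S2005
import Cfsg.Agent.Lib.Helper12.ThompsonNPC

set_option autoImplicit false
universe u
open Cfsg

namespace Cfsg.Agent.S2005

open Cfsg.Agent.Lib.Helper12

/-- the class of sections of `G`: homomorphic images of subgroups -/
def IsSec (G : Type u) [Group G] (Y : Type u) [Group Y] : Prop :=
  ∃ (K : Subgroup G) (f : ↥K →* Y), Function.Surjective f

theorem isSec_self (G : Type u) [Group G] : IsSec G G :=
  ⟨⊤, (Subgroup.topEquiv : ↥(⊤ : Subgroup G) ≃* G).toMonoidHom, (Subgroup.topEquiv : ↥(⊤ : Subgroup G) ≃* G).surjective⟩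

theorem isSec_subgroup (G : Type u) [Group G] (Y : Type u) [Group Y] (H : Subgroup Y) (h : IsSec G Y) :
    IsSec G ↥H := by
  obtain ⟨K, f, hf⟩ := h
  let e₀ : ↥(H.comap f) ≃* ↥((H.comap f).map K.subtype) :=
    (H.comap f).equivMapOfInjective K.subtype K.subtype_injective
  refine ⟨(H.comap f).map K.subtype, (f.subgroupComap H).comp e₀.symm.toMonoidHom, ?_⟩
  exact (MonoidHom.subgroupComap_surjective_of_surjective f H hf).comp e₀.symm.surjective

theorem isSec_quotient (G : Type u) [Group G] (Y : Type u) [Group Y] (N : Subgroup Y) [N.Normal]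
    (h : IsSec G Y) : IsSec G (Y ⧸ N) := by
  obtain ⟨K, f, hf⟩ := h
  exact ⟨K, (QuotientGroup.mk' N).comp f, (QuotientGroup.mk'_surjective N).comp hf⟩

/-- a section is isomorphic to a section in the standard presentation `K ⧸ R.subgroupOf K` -/
theorem isSec_exists_equiv (G : Type u) [Group G] (Y : Type u) [Group Y] (h : IsSec G Y) :
    ∃ (K R : Subgroup G) (_ : (R.subgroupOf K).Normal), Nonempty (↥K ⧸ R.subgroupOf K ≃* Y) := by
  obtain ⟨K, f, hf⟩ := h
  have hker : (f.ker.map K.subtype).subgroupOf K = f.ker :=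
    Subgroup.comap_map_eq_self_of_injective K.subtype_injective _
  have hn : ((f.ker.map K.subtype).subgroupOf K).Normal := by rw [hker]; exact f.normal_ker
  exact ⟨K, f.ker.map K.subtype, hn,
    ⟨(QuotientGroup.quotientMulEquivOfEq hker).trans (QuotientGroup.quotientKerEquivOfSurjective f hf)⟩⟩

/-- transport of the local hypothesis along an isomorphism -/
theorem normal_of_equiv {p : ℕ} [Fact p.Prime] (W : ∀ (Q : Type u) [Group Q], Subgroup Q)
    (hW : Cfsg.IsCharPFunctor.{u} p W) {X Y : Type u} [Group X] [Group Y] [Finite X] [Finite Y] (e : X ≃* Y)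
    (hX : Subgroup.centralizer ((Cfsg.pCore p X : Subgroup X) : Set X) ≤ Cfsg.pCore p X →
      Cfsg.HasNormalPComplement p (X ⧸ Cfsg.pCore p X) →
      ∀ T : Sylow p X, IsCoatom (T : Subgroup X) → (Cfsg.inducedFunctor W (T : Subgroup X)).Normal)
    (hc : Subgroup.centralizer ((Cfsg.pCore p Y : Subgroup Y) : Set Y) ≤ Cfsg.pCore p Y)
    (hq : Cfsg.HasNormalPComplement p (Y ⧸ Cfsg.pCore p Y))
    (T : Sylow p Y) (hT : IsCoatom (T : Subgroup Y)) :
    (Cfsg.inducedFunctor W (T : Subgroup Y)).Normal := by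
  have hcore : (Cfsg.pCore p X).map e.toMonoidHom = Cfsg.pCore p Y := pCore_map_equiv' p e
  -- centralizer condition
  have hcX : Subgroup.centralizer ((Cfsg.pCore p X : Subgroup X) : Set X) ≤ Cfsg.pCore p X := by
    intro x hx
    have h1 : e x ∈ Subgroup.centralizer ((Cfsg.pCore p Y : Subgroup Y) : Set Y) := by
      rw [Subgroup.mem_centralizer_iff] at hx ⊢
      intro y hy
      have hy' : y ∈ (Cfsg.pCore p X).map e.toMonoidHom := by rw [hcore]; exact hy
      obtain ⟨x', hx', rfl⟩ := hy'
      have := hx x' hx'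
      show e x' * e x = e x * e x'
      rw [← map_mul, ← map_mul, this]
    have h2 : e x ∈ (Cfsg.pCore p X).map e.toMonoidHom := by rw [hcore]; exact hc h1
    obtain ⟨x', hx', hxx'⟩ := h2
    have : x' = x := e.injective hxx'
    rw [← this]; exact hx'
  -- quotient
  have hqX : Cfsg.HasNormalPComplement p (X ⧸ Cfsg.pCore p X) := by
    let eq : X ⧸ Cfsg.pCore p X ≃* Y ⧸ Cfsg.pCore p Y :=
      QuotientGroup.congr (Cfsg.pCore p X) (Cfsg.pCore p Y) e hcore
    exact hasNormalPComplement_of_injective eq.toMonoidHom eq.injective hq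
  -- Sylow
  let T' : Sylow p X := T.mapSurjective (f := e.symm.toMonoidHom) e.symm.surjective
  have hT'c : (T' : Subgroup X) = (T : Subgroup Y).map e.symm.toMonoidHom := rfl
  have hT' : IsCoatom (T' : Subgroup X) := by
    rw [hT'c]
    exact (OrderIso.isCoatom_iff (MulEquiv.mapSubgroup e.symm) (T : Subgroup Y)).mpr hT
  have hnX := hX hcX hqX T' hT'
  have hback : (T' : Subgroup X).map e.toMonoidHom = (T : Subgroup Y) := by
    rw [hT'c, Subgroup.map_map]
    have : e.toMonoidHom.comp e.symm.toMonoidHom = MonoidHom.id Y := by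
      ext y; simp
    rw [this, Subgroup.map_id]
  have hnat := inducedFunctor_map_equiv W hW e (T' : Subgroup X) T'.2
  rw [hback] at hnat
  rw [hnat]
  exact hnX.map e.toMonoidHom e.surjective

/-- Thompson's normal p-complement criterion in functor form. Let p be a prime, G a finite group with Sylow p-subgroup S, and W an isomorphism-invariant p-group functor (W assigns to every group Q a subgroup W(Q), nontrivial whenever Q is a nontrivial finite p-group, and every isomorphism from a finite p-group Q onto a group R carries W(Q) onto W(R)). Suppose N_G(W(S)) has a normal p-complement, and that W(S*) is normal in G* whenever G* = K/R is a section of G with C_{G*}(O_p(G*)) ≤ O_p(G*) such that G*/O_p(G*) has a normal p-complement, and S* is a Sylow p-subgroup of G* that is a maximal subgroup of G*. Then G has a normal p-complement. -/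
theorem result {G : Type u} [Group G] [Finite G] {p : ℕ} [Fact p.Prime] (W : ∀ (Q : Type u) [Group Q], Subgroup Q) (hW : Cfsg.IsCharPFunctor.{u} p W) (S : Sylow p G) (hN : Cfsg.HasNormalPComplement p ↥(Subgroup.normalizer ((Cfsg.inducedFunctor (G := G) W (S : Subgroup G) : Subgroup G) : Set G))) (hloc : ∀ (K R : Subgroup G) [hR : (R.subgroupOf K).Normal], Subgroup.centralizer ((Cfsg.pCore p (↥K ⧸ R.subgroupOf K) : Subgroup (↥K ⧸ R.subgroupOf K)) : Set (↥K ⧸ R.subgroupOf K)) ≤ Cfsg.pCore p (↥K ⧸ R.subgroupOf K) → Cfsg.HasNormalPComplement p ((↥K ⧸ R.subgroupOf K) ⧸ Cfsg.pCore p (↥K ⧸ R.subgroupOf K)) → ∀ T : Sylow p (↥K ⧸ R.subgroupOf K), IsCoatom (T : Subgroup (↥K ⧸ R.subgroupOf K)) → (Cfsg.inducedFunctor (G := (↥K ⧸ R.subgroupOf K)) W ((T : Subgroup (↥K ⧸ R.subgroupOf K)))).Normal) : Cfsg.HasNormalPComplement p G := by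
  have hmin : ∀ (Y : Type u) [Group Y] [Finite Y], IsSec G Y →
      Subgroup.centralizer ((Cfsg.pCore p Y : Subgroup Y) : Set Y) ≤ Cfsg.pCore p Y →
      Cfsg.HasNormalPComplement p (Y ⧸ Cfsg.pCore p Y) →
      ∀ T : Sylow p Y, IsCoatom (T : Subgroup Y) → (Cfsg.inducedFunctor W (T : Subgroup Y)).Normal := by
    intro Y _ _ hY hc hq T hT
    obtain ⟨K, R, hR, ⟨e⟩⟩ := isSec_exists_equiv G Y hY
    exact normal_of_equiv W hW e (hloc K R) hc hq T hT
  exact hasNormalPComplement_of_minimal_sections W hW (fun Y _ => IsSec G Y) (isSec_subgroup G)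
    (isSec_quotient G) hmin (Nat.card G) G rfl (isSec_self G) S hN

end Cfsg.Agent.S2005
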