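import Cfsg.Statements.S1990
import Cfsg.Agent.S2005
import Cfsg.Agent.Lib.Helper12.ThompsonConfig
import Cfsg.Agent.Lib.Helper12.PStableSections
-- import your own Cfsg.Agent.* helpers here

set_option autoImplicit false
universe u
open Cfsg

namespace Cfsg.Agent.S1990

/-- Let p be an odd prime, G a finite group with Sylow p-subgroup S, and W an isomorphism-invariant p-group functor (W assigns to every group Q a subgroup W(Q), nontrivial whenever Q is a nontrivial finite p-group, and every isomorphism from a finite p-group Q onto a group R carries W(Q) onto W(R)). Suppose N_G(W(S)) has a normal p-complement, and W(T) controls strong fusion in every section G* = K/R of G all of whose sections are p-stable in the normalizer form, for every Sylow p-subgroup T of G*. Then G has a normal p-complement. -/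
theorem result {G : Type u} [Group G] [Finite G] {p : ℕ} [Fact p.Prime] (hp : p ≠ 2) (W : ∀ (Q : Type u) [Group Q], Subgroup Q) (hW : Cfsg.IsCharPFunctor.{u} p W) (S : Sylow p G) (hN : Cfsg.HasNormalPComplement p ↥(Subgroup.normalizer ((Cfsg.inducedFunctor (G := G) W (S : Subgroup G) : Subgroup G) : Set G))) (hctl : ∀ (K R : Subgroup G) [hR : (R.subgroupOf K).Normal], (∀ (K' R' : Subgroup (↥K ⧸ R.subgroupOf K)) [hR' : (R'.subgroupOf K').Normal], Cfsg.IsNormalizerPStable p (↥K' ⧸ R'.subgroupOf K')) → ∀ T : Sylow p (↥K ⧸ R.subgroupOf K), Cfsg.ControlsStrongFusion p (Cfsg.inducedFunctor (G := (↥K ⧸ R.subgroupOf K)) W (T : Subgroup (↥K ⧸ R.subgroupOf K)))) : Cfsg.HasNormalPComplement p G := by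
  have hmin : ∀ (Y : Type u) [Group Y] [Finite Y], Cfsg.Agent.S2005.IsSec G Y →
      Subgroup.centralizer ((Cfsg.pCore p Y : Subgroup Y) : Set Y) ≤ Cfsg.pCore p Y →
      Cfsg.HasNormalPComplement p (Y ⧸ Cfsg.pCore p Y) →
      ∀ T : Sylow p Y, IsCoatom (T : Subgroup Y) → (Cfsg.inducedFunctor W (T : Subgroup Y)).Normal := by
    intro Y _ _ hY hc hq T hT
    obtain ⟨K, R, hR, ⟨e⟩⟩ := Cfsg.Agent.S2005.isSec_exists_equiv G Y hY
    refine Cfsg.Agent.S2005.normal_of_equiv W hW e ?_ hc hq T hT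
    intro hcX hqX T' hT'
    obtain ⟨q, hq', hpq, hsol, hdiv, hab⟩ :=
      Cfsg.Agent.Lib.Helper12.exists_prime_structure_of_coatom_sylow hqX T' hT'
    have hqf : Fact q.Prime := ⟨hq'⟩
    have hD : Cfsg.Agent.Lib.Helper12.IsPQAb p q (↥K ⧸ R.subgroupOf K) := ⟨hsol, hdiv, hab⟩
    have hstab : ∀ (K' R' : Subgroup (↥K ⧸ R.subgroupOf K)) [hR' : (R'.subgroupOf K').Normal],
        Cfsg.IsNormalizerPStable p (↥K' ⧸ R'.subgroupOf K') := by
      intro K' R' hR'
      exact Cfsg.Agent.Lib.Helper12.isNormalizerPStable_of_isPQAb hp hpq ((hD.subgroup K').quotient _)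
    obtain ⟨T'', hWT'', hctl'⟩ := hctl K R hstab T'
    have hPp : IsPGroup p (Cfsg.pCore p (↥K ⧸ R.subgroupOf K)) := Cfsg.Agent.Lib.Helper12.pCore_isPGroup' p
    have hPT'' : Cfsg.pCore p (↥K ⧸ R.subgroupOf K) ≤ (T'' : Subgroup (↥K ⧸ R.subgroupOf K)) :=
      Cfsg.Agent.Lib.Helper24.normal_pgroup_le_sylow _ hPp T''
    have hPT' : Cfsg.pCore p (↥K ⧸ R.subgroupOf K) ≤ (T' : Subgroup (↥K ⧸ R.subgroupOf K)) :=
      Cfsg.Agent.Lib.Helper24.normal_pgroup_le_sylow _ hPp T'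
    have hPn : (Cfsg.pCore p (↥K ⧸ R.subgroupOf K)).Normal := inferInstance
    obtain ⟨-, hfus⟩ := hctl' ((Cfsg.pCore p (↥K ⧸ R.subgroupOf K) : Subgroup (↥K ⧸ R.subgroupOf K)) :
      Set (↥K ⧸ R.subgroupOf K)) hPT''
    rw [← Subgroup.normalizer_eq_top_iff, eq_top_iff]
    intro y _
    obtain ⟨x, hxN, hx⟩ := hfus y (by
      rintro _ ⟨a, ha, rfl⟩
      exact hPT'' (hPn.conj_mem a ha y))
    have hcz : x⁻¹ * y ∈ Subgroup.centralizer ((Cfsg.pCore p (↥K ⧸ R.subgroupOf K) :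
        Subgroup (↥K ⧸ R.subgroupOf K)) : Set (↥K ⧸ R.subgroupOf K)) := by
      rw [Subgroup.mem_centralizer_iff]
      intro a ha
      have h1 : y * a * y⁻¹ = x * a * x⁻¹ := hx a ha
      calc a * (x⁻¹ * y) = x⁻¹ * (x * a * x⁻¹) * y := by group
        _ = x⁻¹ * (y * a * y⁻¹) * y := by rw [h1]
        _ = x⁻¹ * y * a := by group
    have h1 : x⁻¹ * y ∈ Cfsg.pCore p (↥K ⧸ R.subgroupOf K) := hcX hcz
    have h2 : x⁻¹ * y ∈ Subgroup.normalizer ((Cfsg.inducedFunctor W (T' : Subgroup (↥K ⧸ R.subgroupOf K)) :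
        Subgroup (↥K ⧸ R.subgroupOf K)) : Set (↥K ⧸ R.subgroupOf K)) :=
      (Cfsg.Agent.Lib.Helper12.normalizer_le_normalizer_inducedFunctor W hW (T' : Subgroup (↥K ⧸ R.subgroupOf K)) T'.2)
        (Subgroup.le_normalizer (hPT' h1))
    have h3 : y = x * (x⁻¹ * y) := by group
    rw [h3]
    exact Subgroup.mul_mem _ hxN h2
  exact Cfsg.Agent.Lib.Helper12.hasNormalPComplement_of_minimal_sections W hW
    (fun Y _ => Cfsg.Agent.S2005.IsSec G Y) (Cfsg.Agent.S2005.isSec_subgroup G)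
    (Cfsg.Agent.S2005.isSec_quotient G) hmin (Nat.card G) G rfl (Cfsg.Agent.S2005.isSec_self G) S hN


end Cfsg.Agent.S1990
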