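import Cfsg.Statements.S2007
import Cfsg.Agent.Lib.Helper12.PComplement

set_option autoImplicit false
open Cfsg

namespace Cfsg.Agent.S2007

/-- Let p be a prime, G a finite group with Sylow p-subgroup S, and T a normal subgroup of S containing C_S(T). If N_G(T)/C_G(T) is a p-group (every element of N_G(T) of order prime to p centralizes T), then N_G(T) has a normal p-complement. -/
theorem result {G : Type*} [Group G] [Finite G] {p : ℕ} [Fact p.Prime] (S : Sylow p G) (T : Subgroup G) (hTS : T ≤ (S : Subgroup G)) (hTn : (S : Subgroup G) ≤ Subgroup.normalizer ((T : Subgroup G) : Set G)) (hC : (S : Subgroup G) ⊓ Subgroup.centralizer ((T : Subgroup G) : Set G) ≤ T) (hN : ∀ g ∈ Subgroup.normalizer ((T : Subgroup G) : Set G), (orderOf g).Coprime p → g ∈ Subgroup.centralizer ((T : Subgroup G) : Set G)) : Cfsg.HasNormalPComplement p ↥(Subgroup.normalizer ((T : Subgroup G) : Set G)) := by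
  open Subgroup Cfsg.Agent.Lib.Helper12 in
  set N := Subgroup.normalizer ((T : Subgroup G) : Set G) with hNdef
  let S' : Sylow p N := S.subtype hTn
  have hT'n : (T.subgroupOf N).Normal := Subgroup.normal_in_normalizer
  have hcent : ∀ x : N, x ∈ Subgroup.centralizer ((T.subgroupOf N : Subgroup N) : Set N) ↔
      (x : G) ∈ Subgroup.centralizer (T : Set G) := by
    intro x
    rw [mem_centralizer_iff, mem_centralizer_iff]
    constructor
    · intro h t ht
      have htN : t ∈ N := Subgroup.le_normalizer ht
      have := h ⟨t, htN⟩ (by rw [SetLike.mem_coe, mem_subgroupOf]; exact ht)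
      exact congrArg Subtype.val this
    · intro h t ht
      rw [SetLike.mem_coe, mem_subgroupOf] at ht
      exact Subtype.ext (h t ht)
  apply hasNormalPComplement_of_self_centralizing S' (T.subgroupOf N)
  · intro x hx
    rw [mem_subgroupOf]
    apply hC
    refine ⟨?_, (hcent x).mp hx.2⟩
    have : x ∈ (S : Subgroup G).subgroupOf N := hx.1
    rwa [mem_subgroupOf] at this
  · intro g hg
    rw [hcent]
    apply hN g g.2
    rwa [Subgroup.orderOf_coe]

end Cfsg.Agent.S2007
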