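import Cfsg.Statements.S1992
-- import your own Cfsg.Agent.* helpers here
import Cfsg.Agent.S1991
import Cfsg.Agent.Lib.Helper29.MinNonPNilpotent
import Cfsg.Agent.Lib.Helper12.InducedFunctor
import Cfsg.Agent.Lib.Lead.CharBurnside

set_option autoImplicit false
open Cfsg

namespace Cfsg.Agent.S1992

set_option linter.style.haveILetI false

theorem isPGroup_of_normal_prime_index {G : Type*} [Group G] [Finite G]
    (h : ∀ q : ℕ, q.Prime → q ∣ Nat.card G → ∀ Q : Sylow q G,
      Subgroup.normalizer ((Q : Subgroup G) : Set G) = Q)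
    (N : Subgroup G) [N.Normal] (r : ℕ) (hr : r.Prime) (hidx : N.index = r) : IsPGroup r G := by
  have hall : ∀ q : ℕ, q.Prime → q ∣ Nat.card G → q = r := by
    intro q hq hdvd
    by_contra hne
    haveI : Fact q.Prime := ⟨hq⟩
    obtain ⟨Q⟩ : Nonempty (Sylow q G) := inferInstance
    have hQN : (Q : Subgroup G) ≤ N := by
      intro x hx
      apply Cfsg.Agent.Lib.Helper29.mem_of_coprime_of_index_pow (p := r) N 1
        (by rw [hidx, pow_one]) x
      obtain ⟨k, hk⟩ := (IsPGroup.iff_orderOf.mp Q.2) ⟨x, hx⟩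
      rw [Subgroup.orderOf_mk] at hk
      rw [hk]
      exact Nat.Coprime.pow_left k ((Nat.coprime_primes hq hr).mpr hne)
    have hfr := Sylow.normalizer_sup_eq_top (Q.subtype hQN)
    rw [Sylow.coe_subtype, Subgroup.subgroupOf_map_subtype, inf_eq_left.mpr hQN, h q hq hdvd Q,
      sup_eq_right.mpr hQN] at hfr
    rw [hfr, Subgroup.index_top] at hidx
    exact hr.one_lt.ne hidx
  have hn0 : Nat.card G ≠ 0 := Nat.card_pos.ne'
  have := Nat.eq_prime_pow_of_unique_prime_dvd hn0 (fun {d} hd hdvd => hall d hd hdvd)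
  exact IsPGroup.of_card this

/-- Let G be a finite group in which, for every prime q dividing the order of G, every Sylow q-subgroup is its own normalizer. Then the order of G is a power of a single prime (G is a q-group for some prime q; for G trivial any prime works). -/
theorem result {G : Type*} [Group G] [Finite G] (h : ∀ q : ℕ, q.Prime → q ∣ Nat.card G → ∀ Q : Sylow q G, Subgroup.normalizer ((Q : Subgroup G) : Set G) = Q) : ∃ q : ℕ, q.Prime ∧ IsPGroup q G := by
  by_cases htriv : Nat.card G = 1
  · refine ⟨2, Nat.prime_two, ?_⟩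
    apply IsPGroup.of_card (n := 0)
    simpa using htriv
  have hex : ∃ (N : Subgroup G) (r : ℕ), N.Normal ∧ r.Prime ∧ N.index = r := by
    by_cases h5 : ∃ p : ℕ, p.Prime ∧ p ∣ Nat.card G ∧ 5 ≤ p
    · obtain ⟨p, hp, hdvd, h5⟩ := h5
      haveI : Fact p.Prime := ⟨hp⟩
      obtain ⟨S⟩ : Nonempty (Sylow p G) := inferInstance
      have hS : (S : Subgroup G) ≠ ⊥ := S.ne_bot_of_dvd_card hdvd
      obtain ⟨N, hN, hidx⟩ := Cfsg.Agent.S1991.result h5 S hS (by
        intro g hg hcop
        rw [h p hp hdvd S] at hg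
        obtain ⟨k, hk⟩ := (IsPGroup.iff_orderOf.mp S.2) ⟨g, hg⟩
        rw [Subgroup.orderOf_mk] at hk
        have h1 : orderOf g = 1 := by
          apply Nat.Coprime.eq_one_of_dvd (Nat.Coprime.pow_right k hcop)
          rw [hk]
        rw [orderOf_eq_one_iff] at h1
        rw [h1]; exact Subgroup.one_mem _)
      exact ⟨N, p, hN, hp, hidx⟩
    · push Not at h5
      have hn0 : Nat.card G ≠ 0 := Nat.card_pos.ne'
      obtain ⟨a, m, hm, hn⟩ := Nat.exists_eq_two_pow_mul_odd hn0
      have hm0 : m ≠ 0 := by rintro rfl; simp at hm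
      obtain ⟨b, m', hm', hmm⟩ := Nat.exists_eq_pow_mul_and_not_dvd hm0 3 (by norm_num)
      have hm1 : m' = 1 := by
        by_contra hne
        obtain ⟨q, hq, hqd⟩ := Nat.exists_prime_and_dvd hne
        have hqm : q ∣ m := by rw [hmm]; exact Dvd.dvd.mul_left hqd _
        have hqn : q ∣ Nat.card G := by rw [hn]; exact Dvd.dvd.mul_left hqm _
        have hq5 : q < 5 := by
          by_contra hge
          exact absurd (h5 q hq hqn) (by omega)
        interval_cases q
        · exact absurd hq (by norm_num)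
        · exact absurd hq (by norm_num)
        · rw [Nat.odd_iff] at hm; omega
        · exact hm' hqd
        · exact absurd hq (by norm_num)
      rw [hmm, hm1, mul_one] at hn
      haveI : Group.IsSolvable G :=
        Cfsg.Agent.CharLib.isSolvable_of_card_pq 2 3 a b Nat.prime_two Nat.prime_three hn
      haveI : Nontrivial G := by
        rw [← Finite.one_lt_card_iff_nontrivial]
        omega
      have hlt := Group.IsSolvable.commutator_lt_top_of_nontrivial G
      have hc1 : Nat.card (G ⧸ commutator G) ≠ 1 := by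
        rw [← Subgroup.index_eq_card]
        intro h1
        exact hlt.ne (Subgroup.index_eq_one.mp h1)
      obtain ⟨r, hr, hrd⟩ := Nat.exists_prime_and_dvd hc1
      haveI : Fact r.Prime := ⟨hr⟩
      obtain ⟨M, hM, hMidx⟩ := Cfsg.Agent.Lib.Helper12.exists_index_eq_prime_of_comm
        (A := Abelianization G) (p := r) hrd
      refine ⟨M.comap (QuotientGroup.mk' (commutator G)), r, hM.comap _, hr, ?_⟩
      exact (Subgroup.index_comap_of_surjective M
        (QuotientGroup.mk'_surjective (commutator G))).trans hMidx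
  obtain ⟨N, r, hN, hr, hidx⟩ := hex
  exact ⟨r, hr, isPGroup_of_normal_prime_index h N r hr hidx⟩

end Cfsg.Agent.S1992
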