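import Cfsg.Statements.S1993
-- import your own Cfsg.Agent.* helpers here
import Cfsg.Agent.Lib.Helper29.KInfI
import Cfsg.Agent.Lib.Helper29.KInfJ
import Cfsg.Agent.S1972
import Cfsg.Agent.S2795
import Cfsg.Agent.Lib.Helper12.InducedFunctor

set_option autoImplicit false
universe u
open Cfsg

namespace Cfsg.Agent.S1993

/-- Let p be a prime, G a finite group with Sylow p-subgroup S, and K the upper K-infinity subgroup of S. If p ≥ 5 then S ∩ G' = S ∩ (N_G(K))'; and if p is odd and every section of G is p-stable in the normalizer form, then K controls strong fusion in G. -/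
theorem result {G : Type u} [Group G] [Finite G] {p : ℕ} [Fact p.Prime] (S : Sylow p G) : (5 ≤ p → (S : Subgroup G) ⊓ commutator G = (S : Subgroup G) ⊓ ⁅Subgroup.normalizer ((Cfsg.inducedFunctor Cfsg.kInfUpper (S : Subgroup G) : Subgroup G) : Set G), Subgroup.normalizer ((Cfsg.inducedFunctor Cfsg.kInfUpper (S : Subgroup G) : Subgroup G) : Set G)⁆) ∧ (p ≠ 2 → (∀ (K R : Subgroup G) [hR : (R.subgroupOf K).Normal], Cfsg.IsNormalizerPStable p (↥K ⧸ R.subgroupOf K)) → Cfsg.ControlsStrongFusion p (Cfsg.inducedFunctor Cfsg.kInfUpper (S : Subgroup G))) := by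
  refine ⟨fun hp => ?_, fun hp hst => ?_⟩
  · have hW := Cfsg.Agent.Lib.Helper29.KInfN.isCharPFunctor_kInfUpper.{u} p
    have hall : ∀ (Q : Type u) [Group Q], Finite Q →
        Cfsg.Agent.S1972.EngelHyp p Cfsg.kInfUpper Q := by
      intro Q _ _ hC T hnn
      obtain ⟨g, hgT, hgP, h4, -⟩ :=
        Cfsg.Agent.Lib.Helper29.KInfN.theoremC_core T (Or.inr hnn)
      refine ⟨g, hgT, hgP, fun U V hUV hU => ?_⟩
      have hUn : U.Normal := hUV.2.1
      have hCU : Subgroup.zpowers g ≤ Subgroup.normalizer (U : Set Q) := by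
        rw [Subgroup.normalizer_eq_top]; exact le_top
      exact le_trans (Cfsg.Agent.Lib.Helper12.KInfDeg.iter_antitone U _ hCU
        (by omega : 4 ≤ p - 1)) (h4 U V hUV hU)
    have hG : Cfsg.ControlsTransferIn p (Cfsg.inducedFunctor (G := G) Cfsg.kInfUpper) ⊤ :=
      Cfsg.Agent.S1972.engel_control Cfsg.kInfUpper hW _ G rfl (fun K R _ => hall _)
    have hWG := Cfsg.Agent.Lib.Helper12.isConjugacyFunctor_induced Cfsg.kInfUpper hW G
    have heq := Cfsg.Agent.Lib.Helper12.controlsTransferIn_sylow _ hWG hG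
      (le_top : (S : Subgroup G) ≤ ⊤) S.isPGroup'
      (by rw [Subgroup.relIndex_top_right]; exact S.not_dvd_index)
    rw [top_inf_eq] at heq
    rw [commutator_def]
    exact heq
  · have hfree : ¬ Cfsg.Involves ↥(Cfsg.qd p) G := (Cfsg.Agent.S2795.result hp).mpr hst
    exact Cfsg.Agent.Lib.Helper29.KInfN.kInfUpper_controls hp hfree S

end Cfsg.Agent.S1993
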