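import Cfsg.Statements.S1998
import Cfsg.Agent.Lib.Helper8.TransferMin

set_option autoImplicit false
universe u
open Cfsg

namespace Cfsg.Agent.S1998

open Cfsg.Agent.Lib.Helper12 Cfsg.Agent.Lib.Helper8.TransferMin

/-- Let p be a prime, G a finite group with Sylow p-subgroup S, and 𝓦 a nonempty set of isomorphism-invariant p-group functors (W assigns to every group Q a subgroup W(Q), nontrivial whenever Q is a nontrivial finite p-group, and every isomorphism from a finite p-group Q onto a group R carries W(Q) onto W(R)). Suppose the induced conjugacy functors control transfer in every section of G other than G itself, but not in G. Let T be the subgroup generated by the S ∩ (N_G(W(S)))', W ∈ 𝓦, and M = N_G(T ∩ O_p(G)). Then: C_G(O_p(G)) ≤ O_p(G); M is a proper subgroup of G containing every proper subgroup of G that contains S (the unique maximal subgroup over S); [O_p(G), M] ≤ O_p(G) ∩ M' ≤ O_p(G) ∩ T; and every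 element u of S outside O_p(G) satisfies [X, u, …, u] ≰ Y with p − 1 entries u, for some chief factor X/Y of G with X ≤ O_p(G). -/
theorem result {G : Type u} [Group G] [Finite G] {p : ℕ} [Fact p.Prime] (S : Sylow p G) (𝓦 : Set (∀ (Q : Type u) [Group Q], Subgroup Q)) (h𝓦 : ∀ W ∈ 𝓦, Cfsg.IsCharPFunctor.{u} p W) (hne : 𝓦.Nonempty) (hsec : ∀ (K R : Subgroup G) [hR : (R.subgroupOf K).Normal], (K = ⊤ → R ≠ ⊥) → Cfsg.FamilyControlsTransferIn p ((fun W => Cfsg.inducedFunctor (G := (↥K ⧸ R.subgroupOf K)) W) '' 𝓦) ⊤) (hG : ¬ Cfsg.FamilyControlsTransferIn p ((fun W => Cfsg.inducedFunctor (G := G) W) '' 𝓦) ⊤) (T M : Subgroup G) (hT : T = (⨆ W ∈ 𝓦, (S : Subgroup G) ⊓ ⁅Subgroup.normalizer ((Cfsg.inducedFunctor (G := G) W (S : Subgroup G) : Subgroup G) : Set G), Subgroup.normalizer ((Cfsg.inducedFunctor (G := G) W (S : Subgroup G) : Subgroup G) : Set G)⁆)) (hM : M = Subgroup.normalizer ((T ⊓ Cfsg.pCore p G : Subgroup G) : Set G))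 : Subgroup.centralizer ((Cfsg.pCore p G : Subgroup G) : Set G) ≤ Cfsg.pCore p G ∧ (M ≠ ⊤ ∧ ∀ H : Subgroup G, (S : Subgroup G) ≤ H → H ≠ ⊤ → H ≤ M) ∧ (⁅Cfsg.pCore p G, M⁆ ≤ Cfsg.pCore p G ⊓ ⁅M, M⁆ ∧ Cfsg.pCore p G ⊓ ⁅M, M⁆ ≤ Cfsg.pCore p G ⊓ T) ∧ ∀ u : G, u ∈ (S : Subgroup G) → u ∉ Cfsg.pCore p G → ∃ U V : Subgroup G, Cfsg.IsChiefFactor U V ∧ U ≤ Cfsg.pCore p G ∧ ¬ Cfsg.iterCommutator U (Subgroup.zpowers u) (p - 1) ≤ V := by
  classical
  have ihsub : ∀ N₁ : Subgroup G, N₁ ≠ ⊤ →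
      Cfsg.FamilyControlsTransferIn p (inducedFamily 𝓦 G) N₁ := by
    intro N₁ hN₁
    apply familyControlsTransferIn_of_subtype 𝓦 h𝓦
    have h := hsec N₁ ⊥ (fun h => absurd h hN₁)
    let e : (↥N₁ ⧸ (⊥ : Subgroup G).subgroupOf N₁) ≃* ↥N₁ :=
      (QuotientGroup.quotientMulEquivOfEq (Subgroup.bot_subgroupOf N₁)).trans QuotientGroup.quotientBot
    exact familyControlsTransferIn_top_of_equiv 𝓦 h𝓦 e h
  have ihquot : ∀ (Z : Subgroup G) [Z.Normal], Z ≠ ⊥ →
      Cfsg.FamilyControlsTransferIn p (inducedFamily 𝓦 (G ⧸ Z)) ⊤ := by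
    intro Z _ hZ
    have h := hsec ⊤ Z (fun _ => hZ)
    let f : ↥(⊤ : Subgroup G) →* G ⧸ Z := (QuotientGroup.mk' Z).comp (⊤ : Subgroup G).subtype
    have hf : Function.Surjective f := by
      intro y
      obtain ⟨g, rfl⟩ := QuotientGroup.mk'_surjective Z y
      exact ⟨⟨g, Subgroup.mem_top g⟩, rfl⟩
    have hker : f.ker = Z.subgroupOf ⊤ := by
      ext x
      rw [MonoidHom.mem_ker, Subgroup.mem_subgroupOf]
      show QuotientGroup.mk' Z (x : G) = 1 ↔ _
      rw [QuotientGroup.mk'_apply, QuotientGroup.eq_one_iff]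
    let e : (↥(⊤ : Subgroup G) ⧸ Z.subgroupOf ⊤) ≃* G ⧸ Z :=
      (QuotientGroup.quotientMulEquivOfEq hker.symm).trans
        (QuotientGroup.quotientKerEquivOfSurjective f hf)
    exact familyControlsTransferIn_top_of_equiv 𝓦 h𝓦 e h
  have key := min_counterexample 𝓦 h𝓦 S hne ihsub ihquot hG
  have hTF : T = focal 𝓦 S := hT
  rw [← hTF, ← hM] at key
  obtain ⟨h1, h2, ⟨hSM, h3⟩, h4⟩ := key
  refine ⟨h1, h2, ⟨?_, h3⟩, h4⟩
  have : (Cfsg.pCore p G).Normal := Cfsg.Agent.Lib.Helper1.pCore_normal p G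
  have hPS : Cfsg.pCore p G ≤ (S : Subgroup G) := Cfsg.Agent.Lib.Helper1.pCore_le_sylow S
  exact le_inf (Subgroup.commutator_le_left _ _) (Subgroup.commutator_mono (hPS.trans hSM) le_rfl)

end Cfsg.Agent.S1998
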