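import Cfsg.Statements.S2001
-- import your own Cfsg.Agent.* helpers here
import Cfsg.Agent.Lib.Helper12.PairTransfer

set_option autoImplicit false
open Cfsg

namespace Cfsg.Agent.S2001

/-- Let p be a prime dividing the order of the finite group G, P a Sylow p-subgroup, W a conjugacy functor for p on G with Z(H) ≤ W(H) for every nontrivial p-subgroup H, and V a central functor: a conjugacy functor with V(H) ≤ Z(H), and V(H) ≤ V(K) whenever Z(H) ≤ Z(K), for nontrivial p-subgroups H, K. Say that W with V controls transfer in a subgroup L when some Sylow p-subgroup Q of L satisfies Q ∩ L' = (Q ∩ (N_L(W(Q)))')·(Q ∩ (C_L(V(Q)))') as a product of two subgroups. If W with V controls transfer in N_G(H) for every subgroup H with Z(P) ≤ H ≤ P, then W with V controls transfer in G. -/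
theorem result {G : Type*} [Group G] [Finite G] {p : ℕ} [Fact p.Prime] (hdiv : p ∣ Nat.card G) (P : Sylow p G) (W V : Subgroup G → Subgroup G) (hW : Cfsg.IsConjugacyFunctor p W) (hV : Cfsg.IsConjugacyFunctor p V) (hWZ : ∀ H : Subgroup G, IsPGroup p ↥H → H ⊓ Subgroup.centralizer ((H : Subgroup G) : Set G) ≤ W H) (hVZ : ∀ H : Subgroup G, IsPGroup p ↥H → V H ≤ H ⊓ Subgroup.centralizer ((H : Subgroup G) : Set G)) (hVmono : ∀ H K : Subgroup G, IsPGroup p ↥H → IsPGroup p ↥K → H ≠ ⊥ → K ≠ ⊥ → H ⊓ Subgroup.centralizer ((H : Subgroup G) : Set G) ≤ K ⊓ Subgroup.centralizer ((K : Subgroup G) : Set G) → V H ≤ V K) (hloc : ∀ H : Subgroup G, (P : Subgroup G) ⊓ Subgroup.centralizer (((P : Subgroup G) : Subgroup G) : Set G) ≤ H → H ≤ (P : Subgroup G) → ∃ Q : Subgroup G, Q ≤ Subgroup.normalizer ((H : Subgroup G) : Set G) ∧ IsPGroup p ↥Q ∧ ¬ p ∣ (Q).relIndex (Subgroup.normalizer ((H : Subgroup G) : Set G)) ∧ ∀ x : G, x ∈ Q ⊓ ⁅Subgroup.normalizer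 ((H : Subgroup G) : Set G), Subgroup.normalizer ((H : Subgroup G) : Set G)⁆ ↔ ∃ a ∈ Q ⊓ ⁅Subgroup.normalizer ((H : Subgroup G) : Set G) ⊓ Subgroup.normalizer ((W Q : Subgroup G) : Set G), Subgroup.normalizer ((H : Subgroup G) : Set G) ⊓ Subgroup.normalizer ((W Q : Subgroup G) : Set G)⁆, ∃ b ∈ Q ⊓ ⁅Subgroup.normalizer ((H : Subgroup G) : Set G) ⊓ Subgroup.centralizer ((V Q : Subgroup G) : Set G), Subgroup.normalizer ((H : Subgroup G) : Set G) ⊓ Subgroup.centralizer ((V Q : Subgroup G) : Set G)⁆, x = a * b) : ∃ Q : Subgroup G, IsPGroup p ↥Q ∧ ¬ p ∣ Q.index ∧ ∀ x : G, x ∈ Q ⊓ commutator G ↔ ∃ a ∈ Q ⊓ ⁅Subgroup.normalizer ((W Q : Subgroup G) : Set G), Subgroup.normalizer ((W Q : Subgroup G) : Set G)⁆, ∃ b ∈ Q ⊓ ⁅Subgroup.centralizer ((V Q : Subgroup G) : Set G), Subgroup.centralizer ((V Q : Subgroup G) : Set G)⁆, x = a * b := by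
  classical
  have hPne : (P : Subgroup G) ≠ ⊥ := P.ne_bot_of_dvd_card hdiv
  have hloc' : ∀ H : Subgroup G,
      (P : Subgroup G) ⊓ Subgroup.centralizer (((P : Subgroup G) : Subgroup G) : Set G) ≤ H →
      H ≤ (P : Subgroup G) → ∃ Q : Subgroup G, Q ≤ Subgroup.normalizer ((H : Subgroup G) : Set G) ∧
        IsPGroup p ↥Q ∧ ¬ p ∣ Q.relIndex (Subgroup.normalizer ((H : Subgroup G) : Set G)) ∧
        Q ⊓ ⁅Subgroup.normalizer ((H : Subgroup G) : Set G),
          Subgroup.normalizer ((H : Subgroup G) : Set G)⁆ ≤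
        Cfsg.Agent.Lib.Helper12.LFoc (Cfsg.Agent.Lib.Helper12.pairLocal W V)
          (Subgroup.normalizer ((H : Subgroup G) : Set G)) Q := by
    intro H hZH hHP
    obtain ⟨Q, hQN, hQp, hQidx, hiff⟩ := hloc H hZH hHP
    refine ⟨Q, hQN, hQp, hQidx, ?_⟩
    intro x hx
    obtain ⟨a, ha, b, hb, rfl⟩ := (hiff x).mp hx
    have h1 := Cfsg.Agent.Lib.Helper12.le_lfoc_of_mem (𝓛 := Cfsg.Agent.Lib.Helper12.pairLocal W V)
      (L := fun T => Subgroup.normalizer ((W T : Subgroup G) : Set G)) (Or.inl rfl)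
      (Subgroup.normalizer ((H : Subgroup G) : Set G)) Q
    have h2 := Cfsg.Agent.Lib.Helper12.le_lfoc_of_mem (𝓛 := Cfsg.Agent.Lib.Helper12.pairLocal W V)
      (L := fun T => Subgroup.centralizer ((V T : Subgroup G) : Set G)) (Or.inr rfl)
      (Subgroup.normalizer ((H : Subgroup G) : Set G)) Q
    exact mul_mem (h1 ha) (h2 hb)
  have hmain := Cfsg.Agent.Lib.Helper12.ltransfer_top_of_pair W V hW hV hWZ hVmono P hPne hloc'
  set F₁ := (P : Subgroup G) ⊓ ⁅Subgroup.normalizer ((W (P : Subgroup G) : Subgroup G) : Set G),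
    Subgroup.normalizer ((W (P : Subgroup G) : Subgroup G) : Set G)⁆ with hF₁
  set F₂ := (P : Subgroup G) ⊓ ⁅Subgroup.centralizer ((V (P : Subgroup G) : Subgroup G) : Set G),
    Subgroup.centralizer ((V (P : Subgroup G) : Subgroup G) : Set G)⁆ with hF₂
  have hFeq : Cfsg.Agent.Lib.Helper12.LFoc (Cfsg.Agent.Lib.Helper12.pairLocal W V) ⊤ (P : Subgroup G) =
      F₁ ⊔ F₂ := by
    unfold Cfsg.Agent.Lib.Helper12.LFoc Cfsg.Agent.Lib.Helper12.pairLocal
    rw [iSup_pair]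
    simp only [top_inf_eq]
    rfl
  have hnorm : F₁ ≤ Subgroup.normalizer (F₂ : Set G) := by
    intro s hs
    have hsP : s ∈ (P : Subgroup G) := hs.1
    apply Cfsg.Agent.Lib.Helper12.mem_normalizer_of_cj_eq
    have h1 : Cfsg.Agent.Lib.Helper12.cj s (P : Subgroup G) = (P : Subgroup G) :=
      Cfsg.Agent.Lib.Helper12.cj_self_of_mem hsP
    have h2 : Cfsg.Agent.Lib.Helper12.cj s (V (P : Subgroup G)) = V (P : Subgroup G) := by
      have := (hV (P : Subgroup G) P.2).2.2 s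
      rw [← Cfsg.Agent.Lib.Helper12.cj_def, ← Cfsg.Agent.Lib.Helper12.cj_def, h1] at this
      exact this.symm
    rw [hF₂, Cfsg.Agent.Lib.Helper12.cj_inf, Cfsg.Agent.Lib.Helper12.cj_commutator,
      Cfsg.Agent.Lib.Helper12.cj_centralizer, h1, h2]
  refine ⟨P, P.2, P.not_dvd_index, ?_⟩
  intro x
  constructor
  · intro hx
    have h1 : x ∈ F₁ ⊔ F₂ := hFeq ▸ hmain hx
    have h2 : x ∈ ((F₁ ⊔ F₂ : Subgroup G) : Set G) := h1
    rw [Subgroup.coe_mul_of_left_le_normalizer_right F₁ F₂ hnorm] at h2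
    obtain ⟨a, ha, b, hb, hab⟩ := Set.mem_mul.mp h2
    exact ⟨a, ha, b, hb, hab.symm⟩
  · rintro ⟨a, ha, b, hb, rfl⟩
    have hle : ∀ K : Subgroup G, (P : Subgroup G) ⊓ ⁅K, K⁆ ≤ (P : Subgroup G) ⊓ commutator G := by
      intro K
      rw [commutator_def]
      exact inf_le_inf_left _ (Subgroup.commutator_mono le_top le_top)
    exact mul_mem (hle _ ha) (hle _ hb)


end Cfsg.Agent.S2001
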