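import Cfsg.Statements.S2002
-- import your own Cfsg.Agent.* helpers here
import Cfsg.Agent.Lib.Helper12.PairFusion

set_option autoImplicit false
open Cfsg

namespace Cfsg.Agent.S2002

open Cfsg.Agent.Lib.Helper12

section convert
variable {G : Type*} [Group G] {W V : Subgroup G → Subgroup G} {H Q : Subgroup G} {X : Set G}

/-- a list of local elements with all partial conjugates inside `Q` gives a chain -/
theorem lreach_of_list (l : List G)
    (hl : ∀ z ∈ l, z ∈ H ⊓ Subgroup.normalizer ((W Q : Subgroup G) : Set G) ∨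
      z ∈ H ⊓ Subgroup.centralizer ((V Q : Subgroup G) : Set G))
    (hpart : ∀ k : ℕ, k ≤ l.length → lcj ((l.take k).prod)⁻¹ X ⊆ Q) :
    LReach (pairLocal W V) H Q X (l.prod)⁻¹ := by
  induction l using List.reverseRecOn with
  | nil =>
    rw [List.prod_nil, inv_one]
    apply LReach.refl
    have := hpart 0 (Nat.zero_le _)
    simpa [lcj_one] using this
  | append_singleton l z ih =>
    have ih' := ih (fun w hw => hl w (List.mem_append_left _ hw)) (fun k hk => by
      have := hpart k (by rw [List.length_append]; omega)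
      rwa [List.take_append_of_le_length hk] at this)
    rw [List.prod_append, List.prod_singleton, mul_inv_rev]
    have hz := hl z (List.mem_append_right _ (List.mem_singleton_self z))
    have himg : lcj (z⁻¹ * (l.prod)⁻¹) X ⊆ Q := by
      have := hpart (l ++ [z]).length le_rfl
      rw [List.take_length, List.prod_append, List.prod_singleton, mul_inv_rev] at this
      exact this
    rcases hz with hz | hz
    · exact LReach.step _ _ (fun T => Subgroup.normalizer ((W T : Subgroup G) : Set G)) (Or.inl rfl)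
        (inv_mem hz) ih' himg
    · exact LReach.step _ _ (fun T => Subgroup.centralizer ((V T : Subgroup G) : Set G)) (Or.inr rfl)
        (inv_mem hz) ih' himg

/-- a chain gives a list of local elements with all partial conjugates inside `Q` -/
theorem list_of_lreach {r : G} (h : LReach (pairLocal W V) H Q X r) :
    ∃ l : List G, (∀ z ∈ l, z ∈ H ⊓ Subgroup.normalizer ((W Q : Subgroup G) : Set G) ∨
      z ∈ H ⊓ Subgroup.centralizer ((V Q : Subgroup G) : Set G)) ∧ r = (l.prod)⁻¹ ∧
      ∀ k : ℕ, k ≤ l.length → lcj ((l.take k).prod)⁻¹ X ⊆ Q := by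
  induction h with
  | refl hA =>
    refine ⟨[], by simp, by simp, fun k _ => ?_⟩
    simpa [lcj_one] using hA
  | step c y L hL hy hc himg ih =>
    obtain ⟨l, hl, hcl, hpart⟩ := ih
    refine ⟨l ++ [y⁻¹], ?_, ?_, ?_⟩
    · intro z hz
      rcases List.mem_append.mp hz with hz | hz
      · exact hl z hz
      · rw [List.mem_singleton] at hz
        subst hz
        rcases hL with rfl | hL
        · exact Or.inl (inv_mem hy)
        · have hL' : L = fun T => Subgroup.centralizer ((V T : Subgroup G) : Set G) := hL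
          subst hL'
          exact Or.inr (inv_mem hy)
    · rw [List.prod_append, List.prod_singleton, mul_inv_rev, inv_inv, hcl]
    · intro k hk
      rw [List.length_append, List.length_singleton] at hk
      rcases Nat.lt_or_ge l.length k with h1 | h1
      · have hk' : k = (l ++ [y⁻¹]).length := by
          rw [List.length_append, List.length_singleton]; omega
        rw [hk', List.take_length, List.prod_append, List.prod_singleton, mul_inv_rev, inv_inv, ← hcl]
        exact himg
      · rw [List.take_append_of_le_length h1]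
        exact hpart k h1

end convert


/-- Let p be a prime dividing the order of the finite group G, P a Sylow p-subgroup, W a conjugacy functor for p on G with Z(H) ≤ W(H) for every nontrivial p-subgroup H, and V a central functor (a conjugacy functor with V(H) ≤ Z(H), and V(H) ≤ V(K) whenever Z(H) ≤ Z(K)). Say that W with V controls strong fusion in a subgroup L when some Sylow p-subgroup Q of L has the property: whenever X ⊆ Q and a ∈ L with a⁻¹Xa ⊆ Q, then a = c b with c ∈ C_L(X) and b = b₁ ⋯ bₙ a product of elements each in N_L(W(Q)) or in C_L(V(Q)) such that every partial conjugate (b₁ ⋯ bₖ)⁻¹ X (b₁ ⋯ bₖ) lies in Q. If W with V controls strong fusion in N_G(H) for every subgroup H with Z(P) ≤ H ≤ P, then W with V controls strong fusion in G. -/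
theorem result {G : Type*} [Group G] [Finite G] {p : ℕ} [Fact p.Prime] (hdiv : p ∣ Nat.card G) (P : Sylow p G) (W V : Subgroup G → Subgroup G) (hW : Cfsg.IsConjugacyFunctor p W) (hV : Cfsg.IsConjugacyFunctor p V) (hWZ : ∀ H : Subgroup G, IsPGroup p ↥H → H ⊓ Subgroup.centralizer ((H : Subgroup G) : Set G) ≤ W H) (hVZ : ∀ H : Subgroup G, IsPGroup p ↥H → V H ≤ H ⊓ Subgroup.centralizer ((H : Subgroup G) : Set G)) (hVmono : ∀ H K : Subgroup G, IsPGroup p ↥H → IsPGroup p ↥K → H ≠ ⊥ → K ≠ ⊥ → H ⊓ Subgroup.centralizer ((H : Subgroup G) : Set G) ≤ K ⊓ Subgroup.centralizer ((K : Subgroup G) : Set G) → V H ≤ V K) (hloc : ∀ H : Subgroup G, (P : Subgroup G) ⊓ Subgroup.centralizer (((P : Subgroup G) : Subgroup G) : Set G) ≤ H → H ≤ (P : Subgroup G) → ∃ Q : Subgroup G, Q ≤ Subgroup.normalizer ((H : Subgroup G) : Set G) ∧ IsPGroup p ↥Q ∧ ¬ p ∣ (Q).relIndex (Subgroup.normalizer ((H : Subgroup G) : Set G)) ∧ ∀ (X : Set G) (a : G), X ⊆ Q → a ∈ Subgroup.normalizer ((H : Subgroup G) : Set G) → (fun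 x => a⁻¹ * x * a) '' X ⊆ Q → ∃ c ∈ Subgroup.normalizer ((H : Subgroup G) : Set G) ⊓ Subgroup.centralizer X, ∃ (n : ℕ) (b : Fin n → G), (∀ i, b i ∈ Subgroup.normalizer ((H : Subgroup G) : Set G) ⊓ Subgroup.normalizer ((W Q : Subgroup G) : Set G) ∨ b i ∈ Subgroup.normalizer ((H : Subgroup G) : Set G) ⊓ Subgroup.centralizer ((V Q : Subgroup G) : Set G)) ∧ a = c * (List.ofFn b).prod ∧ ∀ k : ℕ, k ≤ n → (fun x => (((List.ofFn b).take k).prod)⁻¹ * x * ((List.ofFn b).take k).prod) '' ((fun x => c⁻¹ * x * c) '' X) ⊆ Q) : ∃ Q : Subgroup G, IsPGroup p ↥Q ∧ ¬ p ∣ Q.index ∧ ∀ (X : Set G) (a : G), X ⊆ Q → (fun x => a⁻¹ * x * a) '' X ⊆ Q → ∃ c ∈ Subgroup.centralizer X, ∃ (n : ℕ) (b : Fin n → G), (∀ i, b i ∈ ⊤ ⊓ Subgroup.normalizer ((W Q : Subgroup G) : Set G) ∨ b i ∈ ⊤ ⊓ Subgroup.centralizer ((V Q : Subgroup G) : Set G)) ∧ a = c * (List.ofFn b).prod ∧ ∀ k : ℕ, k ≤ n → (fun x => (((List.ofFn b).take k).prod)⁻¹ * x * ((List.ofFn b).take k).prod) '' ((fun x => c⁻¹ * x * c) '' X) ⊆ Q := by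
  classical
  have hPne : (P : Subgroup G) ≠ ⊥ := P.ne_bot_of_dvd_card hdiv
  have hcentr : ∀ (X : Set G) (c : G), c ∈ Subgroup.centralizer X → (fun x => c⁻¹ * x * c) '' X = X := by
    intro X c hc
    ext x
    constructor
    · rintro ⟨x', hx', rfl⟩
      have h1 : x' * c = c * x' := (Subgroup.mem_centralizer_iff.mp hc) x' hx'
      have e : c⁻¹ * x' * c = x' := by rw [mul_assoc, h1]; group
      show c⁻¹ * x' * c ∈ X
      rw [e]; exact hx'
    · intro hx
      have h1 : x * c = c * x := (Subgroup.mem_centralizer_iff.mp hc) x hx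
      refine ⟨x, hx, ?_⟩
      show c⁻¹ * x * c = x
      rw [mul_assoc, h1]; group
  have hloc' : ∀ H : Subgroup G,
      (P : Subgroup G) ⊓ Subgroup.centralizer (((P : Subgroup G) : Subgroup G) : Set G) ≤ H →
      H ≤ (P : Subgroup G) → ∃ Q : Subgroup G, Q ≤ Subgroup.normalizer ((H : Subgroup G) : Set G) ∧
        IsPGroup p ↥Q ∧ ¬ p ∣ Q.relIndex (Subgroup.normalizer ((H : Subgroup G) : Set G)) ∧
        ∀ (X : Set G) (a : G), X ⊆ Q → a ∈ Subgroup.normalizer ((H : Subgroup G) : Set G) →
          lcj a X ⊆ Q →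
          LCtl (pairLocal W V) (Subgroup.normalizer ((H : Subgroup G) : Set G)) Q X a := by
    intro H hZH hHP
    obtain ⟨Q, hQN, hQp, hQidx, hctl⟩ := hloc H hZH hHP
    refine ⟨Q, hQN, hQp, hQidx, ?_⟩
    intro X a hX ha hXa
    have hXa' : (fun x => a⁻¹⁻¹ * x * a⁻¹) '' X ⊆ Q := by
      rw [inv_inv]; exact hXa
    obtain ⟨c, hc, n, b, hb, hab, hpart⟩ := hctl X a⁻¹ hX (inv_mem ha) hXa'
    have hcX : c ∈ Subgroup.centralizer X := hc.2
    rw [hcentr X c hcX] at hpart
    have h1 := lreach_of_list (W := W) (V := V) (H := Subgroup.normalizer ((H : Subgroup G) : Set G))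
      (Q := Q) (X := X) (List.ofFn b)
      (by
        intro z hz
        obtain ⟨i, rfl⟩ := (List.mem_ofFn' b z).mp hz
        exact hb i)
      (by
        intro k hk
        rw [List.length_ofFn] at hk
        have := hpart k hk
        intro y hy
        obtain ⟨x, hx, rfl⟩ := hy
        apply this
        exact ⟨x, hx, by rw [inv_inv]⟩)
    refine ⟨_, h1, ?_⟩
    intro x hx
    have hcx : x * c = c * x := (Subgroup.mem_centralizer_iff.mp hcX) x hx
    have ea : a = ((List.ofFn b).prod)⁻¹ * c⁻¹ := by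
      rw [← mul_inv_rev, ← hab, inv_inv]
    rw [ea]
    calc (List.ofFn b).prod⁻¹ * x * ((List.ofFn b).prod)⁻¹⁻¹
        = (List.ofFn b).prod⁻¹ * (c⁻¹ * (c * x) * c⁻¹ * c) * ((List.ofFn b).prod)⁻¹⁻¹ := by group
      _ = (List.ofFn b).prod⁻¹ * (c⁻¹ * (x * c) * c⁻¹ * c) * ((List.ofFn b).prod)⁻¹⁻¹ := by rw [hcx]
      _ = (List.ofFn b).prod⁻¹ * c⁻¹ * x * ((List.ofFn b).prod⁻¹ * c⁻¹)⁻¹ := by group
  have hmain := lctl_top_of_pair W V hW hV hWZ hVmono P hPne hloc'
  refine ⟨P, P.2, P.not_dvd_index, ?_⟩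
  intro X a hX hXa
  have hXa' : lcj a⁻¹ X ⊆ (P : Subgroup G) := by
    rintro _ ⟨x, hx, rfl⟩
    have := hXa ⟨x, hx, rfl⟩
    simpa using this
  obtain ⟨r, hr, hag⟩ := hmain X a⁻¹ hX hXa'
  obtain ⟨l, hl, hrl, hpart⟩ := list_of_lreach hr
  have hcX : a * r ∈ Subgroup.centralizer X := by
    rw [Subgroup.mem_centralizer_iff]
    intro x hx
    have h1 := hag x hx
    rw [inv_inv] at h1
    calc x * (a * r) = a * (a⁻¹ * x * a) * r := by group
      _ = a * (r * x * r⁻¹) * r := by rw [h1]
      _ = a * r * x := by group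
  refine ⟨a * r, hcX, l.length, fun i => l.get i, ?_, ?_, ?_⟩
  · intro i
    exact hl _ (List.get_mem l i)
  · rw [List.ofFn_get, hrl]; group
  · intro k hk
    rw [List.ofFn_get, hcentr X _ hcX]
    have := hpart k hk
    rintro _ ⟨x, hx, rfl⟩
    have h2 := this (mem_lcj_of_mem hx)
    simpa using h2


end Cfsg.Agent.S2002
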