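import Cfsg.Statements.S2006
import Cfsg.Agent.S2005
import Cfsg.Agent.Lib.Helper12.ThompsonConfig
import Cfsg.Agent.Lib.Helper12.HHLiteGroup
-- import your own Cfsg.Agent.* helpers here

set_option autoImplicit false
universe u
open Cfsg

namespace Cfsg.Agent.S2006

/-- Let p be a prime, G a finite group with Sylow p-subgroup S, and W an isomorphism-invariant p-group functor (W assigns to every group Q a subgroup W(Q), nontrivial whenever Q is a nontrivial finite p-group, and every isomorphism from a finite p-group Q onto a group R carries W(Q) onto W(R)). Suppose N_G(W(S)) has a normal p-complement, and that whenever G* = K/R is a section of G with C_{G*}(O_p(G*)) ≤ O_p(G*) and S* is a Sylow p-subgroup of G* with W(S*) not normal in G*, there are an element g of S* outside O_p(G*) and a chief factor X/Y of G* with X ≤ O_p(G*) such that [X, g, …, g] ≤ Y with p − 1 entries g but [X, g] ≰ Y. Then G has a normal p-complement. -/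
theorem result {G : Type u} [Group G] [Finite G] {p : ℕ} [Fact p.Prime] (W : ∀ (Q : Type u) [Group Q], Subgroup Q) (hW : Cfsg.IsCharPFunctor.{u} p W) (S : Sylow p G) (hN : Cfsg.HasNormalPComplement p ↥(Subgroup.normalizer ((Cfsg.inducedFunctor (G := G) W (S : Subgroup G) : Subgroup G) : Set G))) (hloc : ∀ (K R : Subgroup G) [hR : (R.subgroupOf K).Normal], Subgroup.centralizer ((Cfsg.pCore p (↥K ⧸ R.subgroupOf K) : Subgroup (↥K ⧸ R.subgroupOf K)) : Set (↥K ⧸ R.subgroupOf K)) ≤ Cfsg.pCore p (↥K ⧸ R.subgroupOf K) → ∀ T : Sylow p (↥K ⧸ R.subgroupOf K), ¬ (Cfsg.inducedFunctor (G := (↥K ⧸ R.subgroupOf K)) W ((T : Subgroup (↥K ⧸ R.subgroupOf K)))).Normal → ∃ g : (↥K ⧸ R.subgroupOf K), g ∈ (T : Subgroup (↥K ⧸ R.subgroupOf K)) ∧ g ∉ Cfsg.pCore p (↥K ⧸ R.subgroupOf K) ∧ ∃ U V : Subgroup (↥K ⧸ R.subgroupOf K), Cfsg.IsChiefFactor U V ∧ U ≤ Cfsg.pCore p (↥K ⧸ R.subgroupOf K) ∧ Cfsg.iterCommutator U (Subgroup.zpowers g) (p - 1) ≤ V ∧ ¬ ⁅U, Subgroup.zpowers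 g⁆ ≤ V) : Cfsg.HasNormalPComplement p G := by
  have hmin : ∀ (Y : Type u) [Group Y] [Finite Y], Cfsg.Agent.S2005.IsSec G Y →
      Subgroup.centralizer ((Cfsg.pCore p Y : Subgroup Y) : Set Y) ≤ Cfsg.pCore p Y →
      Cfsg.HasNormalPComplement p (Y ⧸ Cfsg.pCore p Y) →
      ∀ T : Sylow p Y, IsCoatom (T : Subgroup Y) → (Cfsg.inducedFunctor W (T : Subgroup Y)).Normal := by
    intro Y _ _ hY hc hq T hT
    obtain ⟨K, R, hR, ⟨e⟩⟩ := Cfsg.Agent.S2005.isSec_exists_equiv G Y hY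
    refine Cfsg.Agent.S2005.normal_of_equiv W hW e ?_ hc hq T hT
    intro hcX hqX T' hT'
    by_contra hnn
    obtain ⟨g, hgT, -, U, V, hUV, hUP, heng, hncomm⟩ := hloc K R hcX T' hnn
    obtain ⟨q, hq', hpq, hsol, hdiv, hab⟩ :=
      Cfsg.Agent.Lib.Helper12.exists_prime_structure_of_coatom_sylow hqX T' hT'
    have hqf : Fact q.Prime := ⟨hq'⟩
    have hUp : IsPGroup p U := (Cfsg.Agent.Lib.Helper12.pCore_isPGroup' p).to_le hUP
    obtain ⟨k, hk⟩ := T'.2 ⟨g, hgT⟩
    have hgk : g ^ p ^ k = 1 := by simpa using congrArg Subtype.val hk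
    exact hncomm (Cfsg.Agent.Lib.Helper12.commutator_le_of_iterCommutator_le hpq hsol hdiv hab U V hUV hUp
      g k hgk (p - 1) le_rfl heng)
  exact Cfsg.Agent.Lib.Helper12.hasNormalPComplement_of_minimal_sections W hW
    (fun Y _ => Cfsg.Agent.S2005.IsSec G Y) (Cfsg.Agent.S2005.isSec_subgroup G)
    (Cfsg.Agent.S2005.isSec_quotient G) hmin (Nat.card G) G rfl (Cfsg.Agent.S2005.isSec_self G) S hN


end Cfsg.Agent.S2006
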