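import Cfsg.Statements.S2009
import Mathlib

set_option autoImplicit false
open Cfsg

namespace Cfsg.Agent.S2009

/-- a Klein four-subgroup containing the nonidentity element `z` has a further nonidentity element -/
theorem exists_other {H : Type*} [Group H] (z : H) (hz1 : z ≠ 1)
    (E : Subgroup H) (hE : IsKleinFour ↥E) (hzE : z ∈ E) : ∃ e₂ ∈ E, e₂ ≠ 1 ∧ e₂ ≠ z := by
  have hcard : Nat.card E = 4 := hE.card_four
  by_contra hcon
  push Not at hcon
  have hsub : ∀ x : E, x = 1 ∨ x = ⟨z, hzE⟩ := by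
    intro x
    by_cases hx : (x : H) = 1
    · left; exact Subtype.ext hx
    · right; exact Subtype.ext (hcon x x.2 hx)
  have : Nat.card E ≤ 2 := by
    classical
    let f : E → Bool := fun x => decide (x = 1)
    have hf : Function.Injective f := by
      intro x y hxy
      rcases hsub x with hx | hx <;> rcases hsub y with hy | hy
      · rw [hx, hy]
      · exfalso
        have h1z : (⟨z, hzE⟩ : E) ≠ 1 := fun h => hz1 (congrArg Subtype.val h)
        simp [f, hx, hy, h1z] at hxy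
      · exfalso
        have h1z : (⟨z, hzE⟩ : E) ≠ 1 := fun h => hz1 (congrArg Subtype.val h)
        simp [f, hx, hy, h1z] at hxy
      · rw [hx, hy]
    have := Nat.card_le_card_of_injective f hf
    simp at this
  omega

/-- key lemma: under the hypotheses, a proper normal subgroup is trivial -/
theorem key {H : Type*} [Group H] [Finite H] (z : H) (hz : orderOf z = 2)
    (hN : ∀ N : Subgroup H, N.Normal → N ≠ ⊤ → N ⊓ Subgroup.centralizer ({z} : Set H) = ⊥)
    (E : Subgroup H) (hE : IsKleinFour ↥E) (hzE : z ∈ E) (hc : ∀ e ∈ E, e ≠ 1 → IsConj z e)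
    (N : Subgroup H) (hNn : N.Normal) (hNtop : N ≠ ⊤) : N = ⊥ := by
  have hz2 : z * z = 1 := by rw [← pow_two, ← hz, pow_orderOf_eq_one]
  have hz1 : z ≠ 1 := by
    intro h; rw [h, orderOf_one] at hz; norm_num at hz
  -- (1) elements of N commuting with a conjugate of z are trivial
  have h1 : ∀ e : H, IsConj z e → ∀ n ∈ N, n * e = e * n → n = 1 := by
    intro e he n hn hcomm
    obtain ⟨g, hg⟩ := isConj_iff.mp he
    -- e = g z g⁻¹
    have hmem : g⁻¹ * n * g ∈ N ⊓ Subgroup.centralizer ({z} : Set H) := by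
      refine Subgroup.mem_inf.mpr ⟨?_, ?_⟩
      · have := hNn.conj_mem n hn g⁻¹
        simpa using this
      · rw [Subgroup.mem_centralizer_iff]
        intro y hy
        rw [Set.mem_singleton_iff] at hy
        subst hy
        -- y * (g⁻¹ n g) = (g⁻¹ n g) * y
        have he' : e = g * y * g⁻¹ := hg.symm
        rw [he'] at hcomm
        calc y * (g⁻¹ * n * g) = g⁻¹ * ((g * y * g⁻¹) * n) * g := by group
          _ = g⁻¹ * (n * (g * y * g⁻¹)) * g := by rw [hcomm]
          _ = g⁻¹ * n * g * y := by group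
    rw [hN N hNn hNtop, Subgroup.mem_bot] at hmem
    calc n = g * (g⁻¹ * n * g) * g⁻¹ := by group
      _ = 1 := by rw [hmem]; group
  -- (2) conjugates of z invert N
  have h2 : ∀ e : H, IsConj z e → ∀ n ∈ N, e * n * e⁻¹ = n⁻¹ := by
    intro e he
    have he2 : e * e = 1 := by
      obtain ⟨g, hg⟩ := isConj_iff.mp he
      rw [← hg]
      calc g * z * g⁻¹ * (g * z * g⁻¹) = g * (z * z) * g⁻¹ := by group
        _ = 1 := by rw [hz2]; group
    have heinv : e⁻¹ = e := inv_eq_of_mul_eq_one_left he2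
    let f : N → N := fun n => ⟨(n : H)⁻¹ * (e * n * e⁻¹),
      N.mul_mem (N.inv_mem n.2) (hNn.conj_mem n n.2 e)⟩
    have hfinj : Function.Injective f := by
      intro n m hnm
      have hnm' : (n : H)⁻¹ * (e * n * e⁻¹) = (m : H)⁻¹ * (e * m * e⁻¹) := congrArg Subtype.val hnm
      have hcomm : ((m : H) * (n : H)⁻¹) * e = e * ((m : H) * (n : H)⁻¹) := by
        have : (m : H) * (n : H)⁻¹ = e * ((m : H) * (n : H)⁻¹) * e⁻¹ := by
          calc (m : H) * (n : H)⁻¹ = (m : H) * ((n : H)⁻¹ * (e * n * e⁻¹)) * (e * (n : H)⁻¹ * e⁻¹) := by group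
            _ = (m : H) * ((m : H)⁻¹ * (e * m * e⁻¹)) * (e * (n : H)⁻¹ * e⁻¹) := by rw [hnm']
            _ = e * ((m : H) * (n : H)⁻¹) * e⁻¹ := by group
        calc ((m : H) * (n : H)⁻¹) * e = (e * ((m : H) * (n : H)⁻¹) * e⁻¹) * e := by rw [← this]
          _ = e * ((m : H) * (n : H)⁻¹) := by group
      have := h1 e he _ (N.mul_mem m.2 (N.inv_mem n.2)) hcomm
      have hmn : (m : H) = n := by
        calc (m : H) = (m : H) * (n : H)⁻¹ * n := by group
          _ = n := by rw [this]; group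
      exact Subtype.ext hmn.symm
    have hfsurj : Function.Surjective f := Finite.injective_iff_surjective.mp hfinj
    intro x hx
    obtain ⟨n, hn⟩ := hfsurj ⟨x, hx⟩
    have hx' : x = (n : H)⁻¹ * (e * n * e⁻¹) := (congrArg Subtype.val hn).symm
    rw [hx']
    calc e * ((n : H)⁻¹ * (e * n * e⁻¹)) * e⁻¹ = e * (n : H)⁻¹ * (e * n * e⁻¹) * e⁻¹ := by group
      _ = e * (n : H)⁻¹ * (e * n * e) * e := by rw [heinv]
      _ = e * (n : H)⁻¹ * e * n * (e * e) := by group
      _ = e * (n : H)⁻¹ * e * n := by rw [he2]; group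
      _ = e * (n : H)⁻¹ * e⁻¹ * n := by rw [heinv]
      _ = ((n : H)⁻¹ * (e * n * e⁻¹))⁻¹ := by group
  -- (3) pick e₂ ∈ E with e₂ ≠ 1, e₂ ≠ z
  have hex := exists_other z hz1 E hE hzE
  obtain ⟨e₂, he₂E, he₂1, he₂z⟩ := hex
  have he₃E : z * e₂ ∈ E := E.mul_mem hzE he₂E
  have he₃1 : z * e₂ ≠ 1 := by
    intro h
    apply he₂z
    calc e₂ = z * (z * e₂) := by rw [← mul_assoc, hz2, one_mul]
      _ = z := by rw [h, mul_one]
  have hzc : IsConj z z := IsConj.refl z
  have hc₂ := hc e₂ he₂E he₂1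
  have hc₃ := hc (z * e₂) he₃E he₃1
  rw [eq_bot_iff]
  intro n hn
  rw [Subgroup.mem_bot]
  apply h1 (z * e₂) hc₃ n hn
  have i1 := h2 z hzc n hn
  have i2 := h2 e₂ hc₂ n⁻¹ (N.inv_mem hn)
  rw [inv_inv] at i2
  -- (z e₂) n (z e₂)⁻¹ = z (e₂ n e₂⁻¹) z⁻¹ ... careful: use i2 first
  have i3 : z * e₂ * n⁻¹ * (z * e₂)⁻¹ = n⁻¹ := by
    calc z * e₂ * n⁻¹ * (z * e₂)⁻¹ = z * (e₂ * n⁻¹ * e₂⁻¹) * z⁻¹ := by group
      _ = z * n * z⁻¹ := by rw [i2]
      _ = n⁻¹ := i1
  have i4 : z * e₂ * n * (z * e₂)⁻¹ = n := by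
    have := congrArg (·⁻¹) i3
    simp only [mul_inv_rev, inv_inv] at this
    calc z * e₂ * n * (z * e₂)⁻¹ = z * e₂ * (n * (e₂⁻¹ * z⁻¹)) := by group
      _ = n := this
  calc n * (z * e₂) = (z * e₂ * n * (z * e₂)⁻¹) * (z * e₂) := by rw [i4]
    _ = z * e₂ * n := by group

/-- Let H be a finite group and z an involution such that every proper normal subgroup of H meets the centralizer of z trivially, and suppose z lies in a Klein four-subgroup E of H all three of whose involutions are conjugate to z in H. Then H is simple. -/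
theorem result {H : Type*} [Group H] [Finite H] (z : H) (hz : orderOf z = 2) (hN : ∀ N : Subgroup H, N.Normal → N ≠ ⊤ → N ⊓ Subgroup.centralizer ({z} : Set H) = ⊥) (E : Subgroup H) (hE : IsKleinFour ↥E) (hzE : z ∈ E) (hc : ∀ e ∈ E, e ≠ 1 → IsConj z e) : IsSimpleGroup H := by
  have hz1 : z ≠ 1 := by
    intro h; rw [h, orderOf_one] at hz; norm_num at hz
  haveI : Nontrivial H := ⟨⟨z, 1, hz1⟩⟩
  refine ⟨fun N hNn => ?_⟩
  by_cases hNtop : N = ⊤
  · right; exact hNtop
  · left; exact key z hz hN E hE hzE hc N hNn hNtop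

end Cfsg.Agent.S2009
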