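import Cfsg.Statements.S2008
import Cfsg.Agent.S2009

set_option autoImplicit false
open Cfsg

namespace Cfsg.Agent.S2008

/-- Let H be a finite group and z an involution such that every proper normal subgroup of H meets the centralizer of z trivially, and suppose z lies in a Klein four-subgroup E of H all three of whose involutions are conjugate to z in H. Then H has no non-trivial abelian normal subgroup. -/
theorem result {H : Type*} [Group H] [Finite H] (z : H) (hz : orderOf z = 2) (hN : ∀ N : Subgroup H, N.Normal → N ≠ ⊤ → N ⊓ Subgroup.centralizer ({z} : Set H) = ⊥) (E : Subgroup H) (hE : IsKleinFour ↥E) (hzE : z ∈ E) (hc : ∀ e ∈ E, e ≠ 1 → IsConj z e) (N : Subgroup H) [N.Normal] (hab : IsMulCommutative ↥N) : N = ⊥ := by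
  have hz1 : z ≠ 1 := by
    intro h; rw [h, orderOf_one] at hz; norm_num at hz
  by_cases hNtop : N = ⊤
  · exfalso
    obtain ⟨e₂, he₂E, he₂1, he₂z⟩ := Cfsg.Agent.S2009.exists_other z hz1 E hE hzE
    obtain ⟨g, hg⟩ := isConj_iff.mp (hc e₂ he₂E he₂1)
    have hcomm : ∀ x y : H, x * y = y * x := by
      intro x y
      have hx : x ∈ N := hNtop ▸ Subgroup.mem_top x
      have hy : y ∈ N := hNtop ▸ Subgroup.mem_top y
      have := hab.is_comm.comm ⟨x, hx⟩ ⟨y, hy⟩
      exact congrArg Subtype.val this
    apply he₂z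
    rw [← hg, hcomm g z, mul_assoc, mul_inv_cancel, mul_one]
  · exact Cfsg.Agent.S2009.key z hz hN E hE hzE hc N inferInstance hNtop

end Cfsg.Agent.S2008
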