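import Cfsg.Statements.S2011
import Cfsg.Agent.Lib.Helper12.Basic
import Cfsg.Agent.Lib.Helper12.Cores
import Cfsg.Agent.Lib.Helper12.PComplement
-- import your own Cfsg.Agent.* helpers here

set_option autoImplicit false
open Cfsg

namespace Cfsg.Agent.S2011

/-- Let G be a finite group with Sylow p-subgroup P and Q ≤ P. Then Q is centric in the fusion system of G on P (C_P(R) ≤ R for every G-conjugate R of Q lying in P) if and only if C_G(Q) is the internal direct product of Z(Q) = Q ∩ C_G(Q) and the largest normal subgroup of C_G(Q) of order prime to p. -/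
theorem result {G : Type*} [Group G] [Finite G] (p : ℕ) [Fact p.Prime] (P : Sylow p G) (Q : Subgroup G) (hQ : Q ≤ P) : (Cfsg.groupFusionSystem (P : Subgroup G)).IsCentric Q ↔ Cfsg.IsInternalDirectProduct (Q ⊓ Subgroup.centralizer (Q : Set G)) ((Cfsg.pPrimeCore p ↥(Subgroup.centralizer (Q : Set G))).map (Subgroup.centralizer (Q : Set G)).subtype) (Subgroup.centralizer (Q : Set G)) := by
  set C := Subgroup.centralizer (Q : Set G) with hC
  set K := Cfsg.pPrimeCore p ↥C with hK
  have hKcop : (Nat.card ↥K).Coprime p := Cfsg.Agent.Lib.Helper12.pPrimeCore_coprime p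
  -- a p-element of `K` is trivial
  have hKp : ∀ k : ↥C, k ∈ K → ∀ n : ℕ, k ^ (p ^ n) = 1 → k = 1 := by
    intro k hk n hkn
    have h1 : orderOf (⟨k, hk⟩ : ↥K) ∣ Nat.card ↥K := orderOf_dvd_natCard _
    have h2 : orderOf (⟨k, hk⟩ : ↥K) ∣ p ^ n := by
      apply orderOf_dvd_of_pow_eq_one
      ext
      simpa using congrArg Subtype.val hkn
    have h3 : orderOf (⟨k, hk⟩ : ↥K) = 1 :=
      Nat.eq_one_of_dvd_coprimes (Nat.Coprime.pow_right n hKcop) h1 h2
    have h4 := orderOf_eq_one_iff.mp h3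
    simpa using congrArg Subtype.val h4
  constructor
  · -- centric implies the decomposition
    rintro ⟨-, hcen⟩
    have hZp : IsPGroup p ((Q ⊓ C).subgroupOf C) := (P.2.to_le (le_trans inf_le_left hQ)).comap_subtype
    obtain ⟨T, hT⟩ := hZp.exists_le_sylow
    -- `T ≤ Z(Q)`
    have hTZ : (T : Subgroup ↥C) ≤ (Q ⊓ C).subgroupOf C := by
      intro t ht
      set T' := (T : Subgroup ↥C).map C.subtype with hT'
      have hT'p : IsPGroup p T' := T.2.map _
      have hT'C : T' ≤ C := Subgroup.map_subtype_le _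
      have hQp : IsPGroup p Q := P.2.to_le hQ
      have hQT : IsPGroup p (T' ⊔ Q : Subgroup G) :=
        hT'p.to_sup_of_normal_right' hQp (le_trans hT'C (Subgroup.centralizer_le_normalizer _))
      obtain ⟨h, -, hh⟩ := Cfsg.Agent.Lib.Helper12.exists_conj_mem_sylow P ⊤ (T' ⊔ Q) le_top le_top hQT
      have hmemQ : Cfsg.conjHom Q h ∈ (Cfsg.groupFusionSystem (P : Subgroup G)).Hom Q := by
        refine ⟨hQ, fun x => ?_, h, fun x => ?_⟩
        · have := hh x.1 (Subgroup.mem_sup_right x.2)
          simpa [Cfsg.conjHom, MulAut.conj_apply] using this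
        · simp [Cfsg.conjHom, MulAut.conj_apply]
      have hconj : (Cfsg.groupFusionSystem (P : Subgroup G)).IsConj Q (Cfsg.conjHom Q h).range :=
        ⟨_, hmemQ, rfl⟩
      have h1 := hcen _ hconj
      have htT' : (t : G) ∈ T' := ⟨t, ht, rfl⟩
      have h2 : h * (t : G) * h⁻¹ ∈ Cfsg.FusionSystem.centralizerIn (P : Subgroup G)
          (Cfsg.conjHom Q h).range := by
        refine Subgroup.mem_inf.mpr ⟨hh _ (Subgroup.mem_sup_left htT'), ?_⟩
        rw [Subgroup.mem_centralizer_iff]
        rintro _ ⟨x, rfl⟩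
        have htc : (t : G) ∈ Subgroup.centralizer (Q : Set G) := t.2
        rw [Subgroup.mem_centralizer_iff] at htc
        have := htc x.1 x.2
        simp only [Cfsg.conjHom, MonoidHom.coe_comp, MulEquiv.coe_toMonoidHom, Subgroup.coe_subtype,
          Function.comp_apply, MulAut.conj_apply]
        calc h * (x : G) * h⁻¹ * (h * (t : G) * h⁻¹) = h * ((x : G) * (t : G)) * h⁻¹ := by group
          _ = h * ((t : G) * (x : G)) * h⁻¹ := by rw [this]
          _ = h * (t : G) * h⁻¹ * (h * (x : G) * h⁻¹) := by group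
      obtain ⟨x, hx⟩ := h1 h2
      have hx' : h * (x : G) * h⁻¹ = h * (t : G) * h⁻¹ := by
        simpa [Cfsg.conjHom, MulAut.conj_apply] using hx
      have hxt : (x : G) = (t : G) := mul_left_cancel (mul_right_cancel hx')
      rw [Subgroup.mem_subgroupOf]
      exact Subgroup.mem_inf.mpr ⟨hxt ▸ x.2, t.2⟩
    have hTeq : (T : Subgroup ↥C) = (Q ⊓ C).subgroupOf C := le_antisymm hTZ hT
    have hcentral : ∀ x ∈ (T : Subgroup ↥C), ∀ c : ↥C, c * x = x * c := by
      intro x hx c
      have hxQ : (x : G) ∈ Q := by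
        have := hTZ hx
        rw [Subgroup.mem_subgroupOf] at this
        exact (Subgroup.mem_inf.mp this).1
      have hc : (c : G) ∈ Subgroup.centralizer (Q : Set G) := c.2
      rw [Subgroup.mem_centralizer_iff] at hc
      ext
      simpa using (hc x.1 hxQ).symm
    have hcard := Cfsg.Agent.Lib.Helper12.card_pPrimeCore_mul_of_central_sylow T hcentral
    have hKn : K.Normal :=
      Subgroup.normal_of_characteristic _ (h := Cfsg.Agent.Lib.Helper12.pPrimeCore_characteristic p)
    -- disjointness in `C`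
    have hdisj : Disjoint (T : Subgroup ↥C) K := by
      rw [Subgroup.disjoint_def]
      intro x hxT hxK
      obtain ⟨n, hn⟩ := (T.2) ⟨x, hxT⟩
      apply hKp x hxK n
      simpa using congrArg Subtype.val hn
    have htop : (T : Subgroup ↥C) ⊔ K = ⊤ := by
      apply Subgroup.eq_top_of_le_card
      have hinj := Subgroup.mul_injective_of_disjoint hdisj
      let f : ↥(T : Subgroup ↥C) × ↥K → ↥((T : Subgroup ↥C) ⊔ K) := fun g =>
        ⟨(g.1 : ↥C) * (g.2 : ↥C), mul_mem (Subgroup.mem_sup_left g.1.2) (Subgroup.mem_sup_right g.2.2)⟩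
      have hf : Function.Injective f := by
        intro a b hab
        apply hinj
        exact congrArg Subtype.val hab
      have := Nat.card_le_card_of_injective f hf
      rw [Nat.card_prod, mul_comm, hcard] at this
      exact this
    refine ⟨inf_le_right, Subgroup.map_subtype_le _, ?_, ?_, ?_⟩
    · rintro a ha _ ⟨b, -, rfl⟩
      have hb : (b : G) ∈ Subgroup.centralizer (Q : Set G) := b.2
      rw [Subgroup.mem_centralizer_iff] at hb
      exact hb a (Subgroup.mem_inf.mp ha).1
    · rw [eq_bot_iff]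
      rintro _ ⟨hx1, k, hk, rfl⟩
      rw [Subgroup.mem_bot]
      have hkT : k ∈ (T : Subgroup ↥C) := by
        rw [hTeq, Subgroup.mem_subgroupOf]; exact hx1
      have := Subgroup.disjoint_def.mp hdisj hkT hk
      simp [this]
    · have h1 : ((T : Subgroup ↥C) ⊔ K).map C.subtype = C := by
        rw [htop, ← MonoidHom.range_eq_map, Subgroup.range_subtype]
      rw [Subgroup.map_sup, hTeq, Subgroup.map_subgroupOf_eq_of_le inf_le_right] at h1
      exact h1
  · -- the decomposition implies centric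
    rintro ⟨-, -, hcomm, hinf, hsup⟩
    refine ⟨hQ, ?_⟩
    rintro R ⟨φ, ⟨-, -, g, hg⟩, rfl⟩
    rintro x hx
    obtain ⟨hxP, hxC⟩ := Subgroup.mem_inf.mp hx
    rw [Subgroup.mem_centralizer_iff] at hxC
    -- `y = g⁻¹ x g` centralizes `Q`
    have hyC : g⁻¹ * x * g ∈ C := by
      rw [hC, Subgroup.mem_centralizer_iff]
      intro q hq
      have h1 := hxC (φ ⟨q, hq⟩) ⟨⟨q, hq⟩, rfl⟩
      rw [hg] at h1
      simp only at h1
      calc q * (g⁻¹ * x * g) = g⁻¹ * (g * q * g⁻¹ * x) * g := by group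
        _ = g⁻¹ * (x * (g * q * g⁻¹)) * g := by rw [h1]
        _ = g⁻¹ * x * g * q := by group
    have hnorm : (Q ⊓ C) ≤ Subgroup.normalizer
        (((K.map C.subtype : Subgroup G)) : Set G) := by
      refine le_trans ?_ (Subgroup.centralizer_le_normalizer _)
      intro a ha
      rw [Subgroup.mem_centralizer_iff]
      intro b hb
      exact (hcomm a ha b hb).symm
    have hyS : g⁻¹ * x * g ∈ (((Q ⊓ C) ⊔ K.map C.subtype : Subgroup G) : Set G) := by
      rw [hsup]; exact hyC
    rw [Subgroup.coe_mul_of_left_le_normalizer_right _ _ hnorm] at hyS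
    obtain ⟨z, hz, k, hk, hzk⟩ := hyS
    -- `x` is a p-element
    obtain ⟨n, hn⟩ := P.2 ⟨x, hxP⟩
    have hxn : x ^ (p ^ n) = 1 := by simpa using congrArg Subtype.val hn
    have hyn : (z * k) ^ (p ^ n) = 1 := by
      have : z * k = g⁻¹ * x * g := hzk
      rw [this]
      have e : g⁻¹ * x * g = g⁻¹ * x * g⁻¹⁻¹ := by rw [inv_inv]
      rw [e, conj_pow, hxn]; group
    have hzkc : Commute z k := hcomm z hz k hk
    rw [hzkc.mul_pow] at hyn
    have hkn : k ^ (p ^ n) ∈ (Q ⊓ C) ⊓ K.map C.subtype := by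
      refine Subgroup.mem_inf.mpr ⟨?_, pow_mem hk _⟩
      have : k ^ (p ^ n) = (z ^ (p ^ n))⁻¹ := eq_inv_of_mul_eq_one_right hyn
      rw [this]
      exact inv_mem (pow_mem hz _)
    rw [hinf, Subgroup.mem_bot] at hkn
    obtain ⟨k₀, hk₀, rfl⟩ := hk
    have hk1 : k₀ = 1 := by
      apply hKp k₀ hk₀ n
      ext
      simpa using hkn
    have hzk' : z = g⁻¹ * x * g := by
      have : z * C.subtype k₀ = g⁻¹ * x * g := hzk
      rw [hk1] at this
      simpa using this
    have hzQ : z ∈ Q := (Subgroup.mem_inf.mp hz).1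
    refine ⟨⟨z, hzQ⟩, ?_⟩
    rw [hg]
    show g * z * g⁻¹ = x
    rw [hzk']; group

end Cfsg.Agent.S2011
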