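import Cfsg.Statements.S2014
import Cfsg.Agent.Lib.Helper12.Residual
-- import your own Cfsg.Agent.* helpers here

set_option autoImplicit false
open Cfsg

namespace Cfsg.Agent.S2014

/-- Let P be a Sylow p-subgroup of a finite group G and A, C ≤ P subgroups conjugate in G, with C extremal: N_P(C) is a Sylow p-subgroup of N_G(C). Then there is g with gAg⁻¹ = C and g N_P(A) g⁻¹ ≤ N_P(C); moreover, given any h with hAh⁻¹ = C, g can be chosen so that h g⁻¹ lies in O^p(N_G(C)), the subgroup of N_G(C) generated by its elements of order prime to p. -/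
theorem result {G : Type*} [Group G] [Finite G] (p : ℕ) [Fact p.Prime] (P : Sylow p G) (A C : Subgroup G) (hA : A ≤ P) (hC : C ≤ P) (hext : ¬ p ∣ ((P : Subgroup G) ⊓ Subgroup.normalizer ((C : Subgroup G) : Set G)).relIndex (Subgroup.normalizer ((C : Subgroup G) : Set G))) (h : G) (hh : A.map (MulAut.conj h).toMonoidHom = C) : ∃ g : G, A.map (MulAut.conj g).toMonoidHom = C ∧ ((P : Subgroup G) ⊓ Subgroup.normalizer ((A : Subgroup G) : Set G)).map (MulAut.conj g).toMonoidHom ≤ (P : Subgroup G) ⊓ Subgroup.normalizer ((C : Subgroup G) : Set G) ∧ h * g⁻¹ ∈ (Cfsg.pResidual p ↥(Subgroup.normalizer ((C : Subgroup G) : Set G))).map (Subgroup.normalizer ((C : Subgroup G) : Set G)).subtype := by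
  set N := Subgroup.normalizer ((C : Subgroup G) : Set G) with hN
  -- membership in C through h
  have hCmem : ∀ y : G, y ∈ C ↔ h⁻¹ * y * h ∈ A := by
    intro y
    rw [← hh]
    exact Cfsg.Agent.Lib.Helper12.mem_map_conj_iff A h y
  -- the p-subgroup h N_P(A) h⁻¹ of N
  set Q₀ : Subgroup G :=
    ((P : Subgroup G) ⊓ Subgroup.normalizer ((A : Subgroup G) : Set G)).map (MulAut.conj h).toMonoidHom
    with hQ₀
  have hQ₀N : Q₀ ≤ N := by
    rintro _ ⟨z, hz, rfl⟩
    have hzA : z ∈ Subgroup.normalizer ((A : Subgroup G) : Set G) := (Subgroup.mem_inf.mp hz).2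
    rw [hN, Subgroup.mem_normalizer_iff]
    intro y
    rw [hCmem, hCmem]
    rw [Subgroup.mem_normalizer_iff] at hzA
    rw [hzA (h⁻¹ * y * h)]
    have e : h⁻¹ * ((MulAut.conj h).toMonoidHom z * y * ((MulAut.conj h).toMonoidHom z)⁻¹) * h =
        z * (h⁻¹ * y * h) * z⁻¹ := by
      simp only [MulEquiv.coe_toMonoidHom, MulAut.conj_apply]; group
    rw [e]
  have hQ₀p : IsPGroup p Q₀ := (P.2.to_le inf_le_left).map _
  have hQp : IsPGroup p (Q₀.subgroupOf N) := hQ₀p.comap_subtype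
  have hRp : IsPGroup p (((P : Subgroup G) ⊓ N).subgroupOf N) :=
    (P.2.to_le inf_le_left).comap_subtype
  have hRidx : ¬ p ∣ (((P : Subgroup G) ⊓ N).subgroupOf N).index := hext
  obtain ⟨k, hk, hkQ⟩ := Cfsg.Agent.Lib.Helper12.exists_pResidual_conj_mem _ _ hRp hRidx hQp
  have hkN : (k : G) ∈ N := k.2
  refine ⟨(k : G) * h, ?_, ?_, ?_⟩
  · ext y
    rw [Cfsg.Agent.Lib.Helper12.mem_map_conj_iff]
    have hkn : (k : G) ∈ Subgroup.normalizer ((C : Subgroup G) : Set G) := hkN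
    rw [Subgroup.mem_normalizer_iff''] at hkn
    rw [hkn y, hCmem]
    have e : ((k : G) * h)⁻¹ * y * ((k : G) * h) = h⁻¹ * ((k : G)⁻¹ * y * (k : G)) * h := by group
    rw [e]
  · rintro _ ⟨z, hz, rfl⟩
    have hzQ : h * z * h⁻¹ ∈ Q₀ := Cfsg.Agent.Lib.Helper12.conj_mem_map_conj _ h z hz
    have h1 := hkQ ⟨h * z * h⁻¹, hQ₀N hzQ⟩ (by simpa [Subgroup.mem_subgroupOf] using hzQ)
    have h2 : (k : G) * (h * z * h⁻¹) * (k : G)⁻¹ ∈ (P : Subgroup G) ⊓ N := by
      rw [Subgroup.mem_subgroupOf] at h1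
      exact h1
    have e : (MulAut.conj ((k : G) * h)).toMonoidHom z = (k : G) * (h * z * h⁻¹) * (k : G)⁻¹ := by
      simp only [MulEquiv.coe_toMonoidHom, MulAut.conj_apply]; group
    rw [e]; exact h2
  · refine ⟨k⁻¹, inv_mem hk, ?_⟩
    simp only [Subgroup.coe_subtype, InvMemClass.coe_inv]
    group

end Cfsg.Agent.S2014
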