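import Cfsg.Statements.S2015
import Cfsg.Agent.S1984
import Cfsg.Agent.Lib.Helper29.KInfG
import Cfsg.Agent.Lib.Helper27.KQ2

set_option autoImplicit false
universe u
open Cfsg

namespace Cfsg.Agent.S2015

open Cfsg.Agent.Lib.Helper29.KInfN in
/-- the lower K-infinity subgroup of the image of an embedding -/
theorem inducedFunctor_range {P G : Type u} [Group P] [Group G] (ι : P →* G) (hι : Function.Injective ι) :
    Cfsg.inducedFunctor Cfsg.kInfLower ι.range = (Cfsg.kInfLower P).map ι := by
  have h1 := inducedFunctor_kInfLower_map_injective ι hι (⊤ : Subgroup P)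
  rw [← MonoidHom.range_eq_map] at h1
  rw [← h1]
  congr 1
  unfold Cfsg.inducedFunctor
  exact kInfLower_map (⊤ : Subgroup P).subtype (Subgroup.subtype_injective _)
    (fun x => ⟨⟨x, Subgroup.mem_top x⟩, rfl⟩)

/-- For p ≥ 5, every finite p-group P has a characteristic subgroup K containing Z(P), depending only on P, whose normalizer controls transfer wherever P is a Sylow subgroup: for every finite group G and every embedding ι of P onto a Sylow p-subgroup of G, the intersection of ι(P) with the derived subgroup of G equals its intersection with the derived subgroup of N_G(ι(K)). -/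
theorem result (p : ℕ) [Fact p.Prime] (hp : 5 ≤ p) (P : Type u) [Group P] [Finite P] (hP : IsPGroup p P) : ∃ K : Subgroup P, K.Characteristic ∧ Subgroup.center P ≤ K ∧ ∀ (G : Type u) [Group G] [Finite G] (ι : P →* G), Function.Injective ι → (∃ T : Sylow p G, (T : Subgroup G) = ι.range) → ι.range ⊓ commutator G = ι.range ⊓ (commutator ↥(Subgroup.normalizer ((K.map ι : Subgroup G) : Set G))).map (Subgroup.normalizer ((K.map ι : Subgroup G) : Set G)).subtype := by
  refine ⟨Cfsg.kInfLower P, Cfsg.Agent.Lib.Helper29.KInfN.kInfLower_characteristic P,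
    Cfsg.Agent.Lib.Helper27.KQ.center_le_kInfLower P hP, ?_⟩
  intro G _ _ ι hι ⟨T, hT⟩
  obtain ⟨T₀, -, hT₀p, hT₀idx, hT₀eq⟩ := Cfsg.Agent.S1984.result (G := G) (p := p) hp
  rw [Subgroup.relIndex_top_right] at hT₀idx
  -- `T₀` is conjugate to the range of `ι`
  obtain ⟨g, hg⟩ := MulAction.exists_smul_eq G (hT₀p.toSylow hT₀idx) T
  have hg' : T₀.map (MulAut.conj g).toMonoidHom = ι.range := by
    rw [← hT, ← hg]
    rfl
  set e : G ≃* G := MulAut.conj g with he
  -- transport the equation
  have h1 := congrArg (Subgroup.map e.toMonoidHom) hT₀eq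
  rw [Subgroup.map_inf _ _ _ e.injective, Subgroup.map_inf _ _ _ e.injective, Subgroup.map_commutator,
    Subgroup.map_commutator, hg'] at h1
  have htop : (⊤ : Subgroup G).map e.toMonoidHom = ⊤ := by
    rw [← MonoidHom.range_eq_map, MonoidHom.range_eq_top]
    exact e.surjective
  have hN : (⊤ ⊓ Subgroup.normalizer ((Cfsg.inducedFunctor Cfsg.kInfLower T₀ : Subgroup G) : Set G)).map
      e.toMonoidHom = Subgroup.normalizer (((Cfsg.kInfLower P).map ι : Subgroup G) : Set G) := by
    rw [top_inf_eq, Subgroup.map_equiv_normalizer_eq,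
      Cfsg.Agent.Lib.Helper29.KInfN.inducedFunctor_kInfLower_map_equiv, hg', inducedFunctor_range ι hι]
  rw [htop, hN] at h1
  rw [Subgroup.map_subtype_commutator, ← h1, commutator_def]

end Cfsg.Agent.S2015
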