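-- Statement S2056 (row 2056): the Schur multiplier of the presented Harada–Norton group is trivial.
-- Assembly (helper21): `Helper21.HNSchur.Main.trivMult_HN`:
--   * primes not dividing `|HN|`: transfer; `7, 11, 19`: cyclic Sylow subgroups of prime order (helper29);
--   * `2, 3, 5`: lifts of `x, y, z, t` to a stem extension which satisfy all fourteen relators (`exists_lifts`),
--     using `M(HS) = 2` (helper16), the structure of `⟨x, y, z⟩ = 2.HS.2` (helper14), the `A₅ = ⟨z, t⟩` and
--     `x² ~ z` (word problem solved in helper16's permutation representation on 1539000 points);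
--   * `|HN|` from S1701.
import Cfsg.Statements.S2056
import Cfsg.Agent.S1701
import Cfsg.Agent.Lib.Helper21.HNSchur.Main

set_option autoImplicit false
open Cfsg

namespace Cfsg.Agent.S2056

/-- The Schur multiplier of the Harada–Norton group (the finitely presented group of the definitions) is trivial; here the Schur multiplier is described through stem extensions, as in the definitions: surjective homomorphisms onto the group from a finite group, whose kernel is central in that finite group and contained in that finite group's commutator subgroup. -/
theorem result : Cfsg.HasCyclicSchurMultiplier Cfsg.Spor.HN 1 := by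
  haveI : Finite Cfsg.Spor.HN :=
    Nat.finite_of_card_ne_zero (by rw [Cfsg.Agent.S1701.result.2]; norm_num)
  exact Cfsg.Agent.Lib.Helper28.SchurFox.hasCyclic_of_trivMult
    (Cfsg.Agent.Lib.Helper21.HNSchur.Main.trivMult_HN Cfsg.Agent.Lib.Helper16.HSM.HSMain.schur_HS
      Cfsg.Agent.Lib.Helper16.HNP.Main.x_sq_ne_one Cfsg.Agent.Lib.Helper16.HNP.Main.walk_xx
      Cfsg.Agent.S1701.result.2)

end Cfsg.Agent.S2056
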