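import Cfsg.Statements.S2081
import Cfsg.Agent.Lib.Helper15.F24OConc7
import Cfsg.Agent.Lib.Helper15.F24OCentMain
import Cfsg.Agent.Lib.Helper15.F24OFin0
import Cfsg.Agent.Lib.Helper28.Fi24Words
import Cfsg.Agent.Lib.Helper28.Fi24Fi23
import Cfsg.Agent.Lib.Helper10.F23OCentY

set_option autoImplicit false
set_option maxRecDepth 100000
open Cfsg

namespace Cfsg.Agent.S2081

open Cfsg.Agent.Lib.Helper28.TC2Upper Cfsg.Agent.Lib.Helper28.TC2Lower Cfsg.Agent.Lib.Helper28.TC2Orbit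
open Cfsg.Agent.Lib.Helper28.TC2Glue Cfsg.Agent.Lib.Helper28.TC2GlueOrb Cfsg.Agent.Lib.Helper28.TC2Simple
open Cfsg.Agent.Lib.Helper28.TC2Bsgs Cfsg.Agent.Lib.Helper28.TC2BsgsW
open Cfsg.Agent.Lib.Helper28.TCFi24Table Cfsg.Agent.Lib.Helper28.TCFi24Link Cfsg.Agent.Lib.Helper28.TCFi24Main
open Cfsg.Agent.Lib.Helper28.TCFi24Orb
open Cfsg.Agent.Lib.Helper28.Fi24Transp Cfsg.Agent.Lib.Helper28.Fi24Fi23

/-- The outer automorphism group of the Fischer group Fi₂₄′ (the commutator subgroup of the presented group Fi₂₄) has order 2. -/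
theorem result : Nat.card (Cfsg.Out Cfsg.Spor.Fi24') = 2 := by
  obtain ⟨φ, f, hφ, hbij, hequiv, h0, hinj, hfin, hcard, -, hcardH, -, -, -, hcls⟩ := facts
  have hΓ : ∀ l, l < table.k → Table.sigma hT l ∈ φ.range := sigma_mem_range link hT φ hφ
  have hchain := Cfsg.Agent.Lib.Helper28.TCFi24BWMain.chain hT φ.range hΓ
  have hlow : 306936 * 31671 * 3510 * 693 * 180 *
      Nat.card (pstab φ.range (toFin table.n [510, 113, 24, 6, 0])) ≤ Nat.card φ.range :=
    Cfsg.Agent.Lib.Helper15.F24OFin0.hlow_of _ _ _ _ _ _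
      (Cfsg.Agent.Lib.Helper28.TCFi24BWMain.lev0 hT φ.range hΓ)
      (Cfsg.Agent.Lib.Helper28.TCFi24BWMain.lev1 hT φ.range hΓ)
      (Cfsg.Agent.Lib.Helper28.TCFi24BWMain.lev2 hT φ.range hΓ)
      (Cfsg.Agent.Lib.Helper28.TCFi24BWMain.lev3 hT φ.range hΓ)
      (Cfsg.Agent.Lib.Helper28.TCFi24BWMain.lev4 hT φ.range hΓ)
  have hlt : ∀ s ∈ subPaths, ∀ l ∈ s, l < table.k := by
    intro s hs l hl
    obtain ⟨L, _, rfl⟩ := hsubmem' s hs
    exact lt_of_mem_pathOf link L l hl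
  have hgens' := BT.All_of_all (fun _ h => of_decide_eq_true h) _ Cfsg.Agent.Lib.Helper28.TCFi24Main.hgens
  have horbit : ∀ p : Fin table.n, (MulAction.orbit (H0.map φ) p : Set (Fin table.n)) =
      {q | orbData.oid q.val = orbData.oid p.val} := by
    intro p
    rw [← orbit_eq hT hlt hclosed hgens' hconn p, ← map_eq_permGroup link hT φ hφ subPaths hsubmem hsubmem']
    ext q
    constructor
    · rintro ⟨⟨π, hπ⟩, rfl⟩
      exact ⟨π, hπ, rfl⟩
    · rintro ⟨π, hπ, rfl⟩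
      exact ⟨⟨π, hπ⟩, rfl⟩
  have hψH : psi23.range ≤ H0 := by rw [psi23_range]; exact range_le_H0
  have hψG : psi23.range ≤ commutator Cfsg.Spor.Fi24 := by rw [psi23_range]; exact range_le_commutator
  have hψcard : Nat.card psi23.range = 4089470473293004800 := by rw [psi23_range]; exact isFi23_range.2
  have hcent : ∀ h ∈ H0, Cfsg.Agent.Lib.Helper15.F24OConc4.l * h = h * Cfsg.Agent.Lib.Helper15.F24OConc4.l := by
    intro h hh
    exact (Subgroup.mem_centralizer_iff.mp (H0_le_centralizer hh)) zl rfl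
  exact Cfsg.Agent.Lib.Helper15.F24OConc7.out_card hT φ hφ hinj hfin hcard hchain f hbij hequiv h0 hcardH horbit
    hcls psi23 psi23_injective hψH hψG hψcard Cfsg.Agent.Lib.Helper10.F23O.exists_self_centralizing_Fi23
    Cfsg.Agent.Lib.Helper15.F24OCentMain.checks hlow hcent

end Cfsg.Agent.S2081
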