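-- Statement S2082 (row 2082): the outer automorphism group of the presented Harada–Norton group has order 2.
-- Assembly (helper15, planner): `Helper15.HnOMain.card_out_HN` from the leaves
--   M (helper29), A1 / NI / R (helper9), A / D2 (helper20), S (helper24), D1 (helper17),
--   the all-points check `Helper15.HnOTAll` on helper16's 1539000 points, helper21's word-problem solver,
--   helper3's model `P0 → N = ⟨x, y, z⟩`, helper14's `Γ = HS.2` on 100 points and `|Out HS| = 2`, and S1701.
-- The outer automorphism is `x ↦ x, y ↦ y, z ↦ z x², t ↦ t²`; see notes/S2082_plan.md.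
import Cfsg.Statements.S2082
import Cfsg.Agent.Lib.Helper15.HnOMain
import Cfsg.Agent.Lib.Helper17.HnOD1
import Cfsg.Agent.Lib.Helper20.HnOD2

set_option autoImplicit false
open Cfsg

namespace Cfsg.Agent.S2082

/-- The outer automorphism group of the Harada–Norton group (the finitely presented group of the definitions) has order 2. -/
theorem result : Nat.card (Cfsg.Out Cfsg.Spor.HN) = 2 := by
  exact Cfsg.Agent.Lib.Helper15.HnOMain.card_out_HN Cfsg.Agent.Lib.Helper17.HnOD1.D1
    Cfsg.Agent.Lib.Helper20.HnO.D2

end Cfsg.Agent.S2082
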