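import Cfsg.Statements.S2087
import Cfsg.Agent.Lib.Helper13.SchurPSL2
import Cfsg.Agent.S0255

set_option autoImplicit false
open Cfsg

namespace Cfsg.Agent.S2087

/-- Exceptional Schur multiplier: over the field with 2 elements, PSL₃ has Schur multiplier cyclic of order 2 (here the Schur multiplier is described through stem extensions, as in the definitions). -/
theorem result {F : Type*} [Field F] [Fintype F] (hF : Fintype.card F = 2) : Cfsg.HasCyclicSchurMultiplier (Matrix.ProjectiveSpecialLinearGroup (Fin 3) F) 2 := by
  classical
  have hp7 : Fact (Nat.Prime 7) := ⟨by norm_num⟩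
  -- a field with 7 elements in the universe of `F`
  let K := ULift.{u_1} (ZMod 7)
  have hK : Fintype.card K = 7 := by
    show Fintype.card (ULift.{u_1} (ZMod 7)) = 7
    rw [Fintype.card_ulift, ZMod.card]
  have h2 : (2 : K) ≠ 0 := by
    intro h
    have hchar : ringChar K = 2 :=
      CharP.ringChar_of_prime_eq_zero Nat.prime_two (by exact_mod_cast h)
    have := FiniteField.even_card_of_char_two hchar
    rw [hK] at this
    exact absurd this (by decide)
  obtain ⟨e⟩ := Cfsg.Agent.S0255.result (F := K) (K := F) hK hF
  exact Cfsg.Agent.Lib.Helper13.SchurSL2.hasSchurMultiplier_congr e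
    (Cfsg.Agent.Lib.Helper13.SchurSL2.schur_PSL2_odd h2 (by rw [hK]; decide) (by rw [hK]; decide))

end Cfsg.Agent.S2087
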