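import Cfsg.Statements.S2100
import Cfsg.Agent.Lib.Helper11.StPresU6

set_option autoImplicit false
open Cfsg

namespace Cfsg.Agent.S2100

/-- Schur multipliers of the Chevalley groups of type G₂: over a field with q ≥ 5 elements the Schur multiplier of G₂(q) is trivial (here the Schur multiplier is described through stem extensions, as in the definitions); the cases q = 3 and q = 4 are exceptional and q = 2 gives a non-simple group. -/
theorem result {F : Type*} [Field F] [Fintype F] (hF : 5 ≤ Fintype.card F) : Cfsg.HasCyclicSchurMultiplier ↥(Cfsg.Lie.chevG2.group F) 1 := by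
  have h7 : Cfsg.Lie.chevG2 ∈ [Cfsg.Lie.chevG2, Cfsg.Lie.chevB2, Cfsg.Lie.chevD4, Cfsg.Lie.chevF4,
      Cfsg.Lie.chevE6, Cfsg.Lie.chevE7, Cfsg.Lie.chevE8] := by simp
  have hK5 : ∃ s : Finset F, 4 < s.card := ⟨Finset.univ, by rw [Finset.card_univ]; omega⟩
  obtain ⟨B, hB⟩ := Cfsg.Agent.Lib.Helper11.StPres.exists_cartanInv Cfsg.Lie.chevG2 (by simp)
  apply Cfsg.Agent.Lib.Helper11.StPres.hasCyclicSchurMultiplier_one h7 hK5
  exact (Cfsg.Agent.Lib.Helper11.StPres.coverData h7 (K := F)).ker_eq_bot_of_cartanInv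
    (Cfsg.Agent.Lib.Helper11.StPres.StData.hasR3_of_finite h7 _) B hB

end Cfsg.Agent.S2100
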