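import Cfsg.Statements.S2105
import Cfsg.Agent.Lib.Lead.CentClH2
import Cfsg.Agent.Lib.Lead.CentClTabE6
import Cfsg.Agent.S1079

set_option autoImplicit false
open Cfsg

namespace Cfsg.Agent.S2105

/-- Schur multipliers of the (adjoint, simple) Chevalley groups of type E₆: over a field with q elements the Schur multiplier is cyclic of order gcd(3, q − 1) (here the Schur multiplier is described through stem extensions, as in the definitions). -/
theorem result {F : Type*} [Field F] [Fintype F] {q : ℕ} (hF : Fintype.card F = q) : Cfsg.HasCyclicSchurMultiplier ↥(Cfsg.Lie.chevE6.group F) (Nat.gcd 3 (q - 1)) := by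
  have hm := Cfsg.Agent.Lib.Lead.CentCl.mem_E6
  have hK : Cfsg.Lie.chevE6 ∈ [Cfsg.Lie.chevB2, Cfsg.Lie.chevG2] → ∃ x : F, x ≠ 0 ∧ x ≠ 1 := by
    intro h
    exfalso
    simp only [List.mem_cons, List.not_mem_nil, or_false] at h
    rcases h with h | h
    · have := congrArg Cfsg.Lie.ChevalleyDatum.rank h
      exact absurd this (by decide)
    · have := congrArg Cfsg.Lie.ChevalleyDatum.rank h
      exact absurd this (by decide)
  have hcard : Nat.card (Subgroup.center (Cfsg.Lie.chevE6.SteinbergGroup F)) = Nat.gcd 3 (q - 1) :=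
    Cfsg.Agent.S1079.result hF (Cfsg.Lie.chevE6, 3) (by simp)
  have hn : Nat.gcd 3 (q - 1) = 1 ∨ (Nat.gcd 3 (q - 1)).Prime := by
    have hdvd : Nat.gcd 3 (q - 1) ∣ 3 := Nat.gcd_dvd_left 3 (q - 1)
    have hp : Nat.Prime 3 := by norm_num
    rcases (Nat.dvd_prime hp).mp hdvd with h | h
    · exact Or.inl h
    · right; rw [h]; exact hp
  exact Cfsg.Agent.Lib.Lead.CentCl.schur_cyclic_of_card hm Cfsg.Agent.Lib.Lead.CentCl.slE6_compat hK _ hn hcard

end Cfsg.Agent.S2105
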