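import Cfsg.Statements.S2107
import Cfsg.Agent.Lib.Lead.CentClH
import Cfsg.Agent.Lib.Lead.CentClTabE8
import Cfsg.Agent.Lib.Helper11.StPresH

set_option autoImplicit false
open Cfsg

namespace Cfsg.Agent.S2107

/-- Schur multipliers of the Chevalley groups of type E₈: over every finite field the Schur multiplier of E₈(q) is trivial (here the Schur multiplier is described through stem extensions, as in the definitions). -/
theorem result {F : Type*} [Field F] [Fintype F] : Cfsg.HasCyclicSchurMultiplier ↥(Cfsg.Lie.chevE8.group F) 1 := by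
  have h8 := Cfsg.Agent.Lib.Lead.CentCl.mem_E8
  obtain ⟨B, hB⟩ := Cfsg.Agent.Lib.Helper11.StPres.exists_cartanInv Cfsg.Lie.chevE8 (by simp)
  let S := Cfsg.Agent.Lib.Helper11.StPres.stData h8 (K := F)
  have hbot : S.θG.ker = ⊥ := by
    rw [S.θG_ker]
    exact S.ker_eq_bot_of_cartanInv (Cfsg.Agent.Lib.Helper11.StPres.stData_R3 h8) B hB
  have hfin : Finite S.θG.ker := by rw [hbot]; infer_instance
  have hK : Cfsg.Lie.chevE8 ∈ [Cfsg.Lie.chevB2, Cfsg.Lie.chevG2] → ∃ x : F, x ≠ 0 ∧ x ≠ 1 := by
    intro h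
    exfalso
    simp only [List.mem_cons, List.not_mem_nil, or_false] at h
    rcases h with h | h
    · have := congrArg Cfsg.Lie.ChevalleyDatum.rank h
      exact absurd this (by decide)
    · have := congrArg Cfsg.Lie.ChevalleyDatum.rank h
      exact absurd this (by decide)
  have hsub : Subsingleton S.θG.ker := by rw [hbot]; infer_instance
  have hu1 : Unique S.θG.ker := ⟨⟨1⟩, fun x => Subsingleton.elim _ _⟩
  have hu2 : Unique (Multiplicative (ZMod 1)) := by
    show Unique (ZMod 1)
    infer_instance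
  exact Cfsg.Agent.Lib.Lead.CentCl.schur_of_compat h8 Cfsg.Agent.Lib.Lead.CentCl.slE8_compat hK hfin
    (MulEquiv.ofUnique : S.θG.ker ≃* Multiplicative (ZMod 1))

end Cfsg.Agent.S2107
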