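import Cfsg.Statements.S2123
import Cfsg.Agent.Lib.Lead.SteinP
import Cfsg.Agent.Lib.Helper7.ChevHCardFin

set_option autoImplicit false
open Cfsg

namespace Cfsg.Agent.S2123

/-- Outer automorphisms of the (adjoint, simple) Chevalley groups of type E₆: over a field with q = p^f (p prime) elements, the outer automorphism group of E₆(q) has order 2 · gcd(3, q − 1) · f (diagonal, field and graph automorphisms). -/
theorem result {F : Type*} [Field F] [Fintype F] (p f : ℕ) [Fact p.Prime] [CharP F p] (hF : Fintype.card F = p ^ f) : Nat.card (Cfsg.Out ↥(Cfsg.Lie.chevE6.group F)) = 2 * Nat.gcd 3 (p ^ f - 1) * f := by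
  have h1 := (Cfsg.Agent.Lib.Lead.Stein.graphDataE6 F).card_out p
    Cfsg.Agent.Lib.Lead.Stein.simplyLaced_E6 Cfsg.Agent.Lib.Lead.Stein.connB_E6
  have h2 := Cfsg.Agent.Lib.Helper7.card_diagonal_E6 F
  rw [Cfsg.Agent.Lib.Lead.Stein.card_ringEquiv_field p hF,
    Cfsg.Agent.Lib.Lead.Stein.card_graphDataE6] at h1
  have h1' : Nat.card (Cfsg.Out ↥(Cfsg.Lie.chevE6.group F)) *
      Nat.card ↥(Cfsg.Lie.chevE6.diagonalSubgroup F) = (Fintype.card F - 1) ^ 6 * (2 * f) := h1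
  rw [← h2, hF] at h1'
  have hfin : Finite (GL Cfsg.Lie.chevE6.Idx F) :=
    Finite.of_injective (fun g : GL Cfsg.Lie.chevE6.Idx F =>
      (g : Matrix Cfsg.Lie.chevE6.Idx Cfsg.Lie.chevE6.Idx F)) Units.val_injective
  have hpos : 0 < Nat.card ↥(Cfsg.Lie.chevE6.diagonalSubgroup F) := Nat.card_pos
  have h3 : Nat.card (Cfsg.Out ↥(Cfsg.Lie.chevE6.group F)) *
      Nat.card ↥(Cfsg.Lie.chevE6.diagonalSubgroup F) =
      (2 * Nat.gcd 3 (p ^ f - 1) * f) * Nat.card ↥(Cfsg.Lie.chevE6.diagonalSubgroup F) := by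
    rw [h1']; ring
  exact Nat.eq_of_mul_eq_mul_right hpos h3

end Cfsg.Agent.S2123
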