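import Cfsg.Statements.S2124
import Cfsg.Agent.Lib.Lead.SteinO
import Cfsg.Agent.Lib.Helper7.ChevHCardFin

set_option autoImplicit false
open Cfsg

namespace Cfsg.Agent.S2124

/-- Outer automorphisms of the (adjoint, simple) Chevalley groups of type E₇: over a field with q = p^f (p prime) elements, the outer automorphism group of E₇(q) has order gcd(2, q − 1) · f (diagonal and field automorphisms). -/
theorem result {F : Type*} [Field F] [Fintype F] (p f : ℕ) [Fact p.Prime] [CharP F p] (hF : Fintype.card F = p ^ f) : Nat.card (Cfsg.Out ↥(Cfsg.Lie.chevE7.group F)) = Nat.gcd 2 (p ^ f - 1) * f := by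
  have hD : Cfsg.Lie.chevE7 ∈ [Cfsg.Lie.chevG2, Cfsg.Lie.chevB2, Cfsg.Lie.chevD4, Cfsg.Lie.chevF4,
      Cfsg.Lie.chevE6, Cfsg.Lie.chevE7, Cfsg.Lie.chevE8] := by simp
  have h1 := Cfsg.Agent.Lib.Lead.Stein.card_out_mul_of_trivial Cfsg.Lie.chevE7 hD F p
    Cfsg.Agent.Lib.Lead.Stein.simplyLaced_E7 Cfsg.Agent.Lib.Lead.Stein.connB_E7
    Cfsg.Agent.Lib.Lead.Stein.symAll_E7
  have h2 := Cfsg.Agent.Lib.Helper7.card_diagonal_E7 F
  rw [Cfsg.Agent.Lib.Lead.Stein.card_ringEquiv_field p hF] at h1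
  have h1' : Nat.card (Cfsg.Out ↥(Cfsg.Lie.chevE7.group F)) *
      Nat.card ↥(Cfsg.Lie.chevE7.diagonalSubgroup F) = (Fintype.card F - 1) ^ 7 * f := h1
  rw [← h2, hF] at h1'
  have hfin : Finite (GL Cfsg.Lie.chevE7.Idx F) :=
    Finite.of_injective (fun g : GL Cfsg.Lie.chevE7.Idx F =>
      (g : Matrix Cfsg.Lie.chevE7.Idx Cfsg.Lie.chevE7.Idx F)) Units.val_injective
  have hpos : 0 < Nat.card ↥(Cfsg.Lie.chevE7.diagonalSubgroup F) := Nat.card_pos
  have h3 : Nat.card (Cfsg.Out ↥(Cfsg.Lie.chevE7.group F)) *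
      Nat.card ↥(Cfsg.Lie.chevE7.diagonalSubgroup F) =
      (Nat.gcd 2 (p ^ f - 1) * f) * Nat.card ↥(Cfsg.Lie.chevE7.diagonalSubgroup F) := by
    rw [h1']; ring
  exact Nat.eq_of_mul_eq_mul_right hpos h3

end Cfsg.Agent.S2124
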