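import Cfsg.Statements.S2125
import Cfsg.Agent.Lib.Lead.SteinJ
import Cfsg.Agent.Lib.Helper7.ChevHCardFin

set_option autoImplicit false
open Cfsg

namespace Cfsg.Agent.S2125

/-- Outer automorphisms of the Chevalley groups of type E₈: over a field with p^f elements, p prime, the outer automorphism group of E₈(p^f) has order f (field automorphisms only). -/
theorem result {F : Type*} [Field F] [Fintype F] (p f : ℕ) [Fact p.Prime] [CharP F p] (hF : Fintype.card F = p ^ f) : Nat.card (Cfsg.Out ↥(Cfsg.Lie.chevE8.group F)) = f := by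
  have hD : Cfsg.Lie.chevE8 ∈ [Cfsg.Lie.chevG2, Cfsg.Lie.chevB2, Cfsg.Lie.chevD4, Cfsg.Lie.chevF4,
      Cfsg.Lie.chevE6, Cfsg.Lie.chevE7, Cfsg.Lie.chevE8] := by simp
  have hrank : 0 < Cfsg.Lie.chevE8.rank := by decide
  rw [Cfsg.Agent.Lib.Lead.Stein.card_out_eq Cfsg.Lie.chevE8 hD hrank
    (Cfsg.Agent.Lib.Lead.Stein.aut_eq_inner_field Cfsg.Lie.chevE8 hD F p
      Cfsg.Agent.Lib.Lead.Stein.simplyLaced_E8 Cfsg.Agent.Lib.Lead.Stein.connB_E8
      Cfsg.Agent.Lib.Lead.Stein.symAll_E8 Cfsg.Agent.Lib.Helper7.hcA_E8 Cfsg.Agent.Lib.Helper7.hcR_E8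
      Cfsg.Agent.Lib.Helper7.rootCoefOKB_E8 (Cfsg.Agent.Lib.Helper7.card_diagonal_E8 F))]
  exact Cfsg.Agent.Lib.Lead.Stein.card_ringEquiv_field p hF

end Cfsg.Agent.S2125
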