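import Cfsg.Statements.S2153
import Cfsg.Agent.Lib.Helper11.Su2Main
import Cfsg.Agent.Lib.Helper14.SU2INST2
import Cfsg.Agent.Lib.Helper27.Su2INST

/-! S2153: minimal index of a proper subgroup of `PSU_n(2)`, `6 ∣ n` (market SU2, planner helper11; abstract
lower bound `Helper11.Su2.index_ge`, instance by helper27, existence half and transfer by helper14). -/

set_option autoImplicit false
open Cfsg

namespace Cfsg.Agent.S2153

/-- Minimal index of a proper subgroup of the unitary groups PSU_n(2) with n divisible by 6, realised over the field with 4 elements: every proper subgroup has index at least 2^(n−1)(2^n − 1)/3, and that index is attained. -/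
theorem result {F : Type*} [Field F] [Fintype F] (hF : Fintype.card F = 4) (n : ℕ) (hn : 6 ∣ n) (hpos : 6 ≤ n) : (∀ H : Subgroup (Cfsg.PSU n F 2), H ≠ ⊤ → 2 ^ (n - 1) * (2 ^ n - 1) / 3 ≤ H.index) ∧ (∃ H : Subgroup (Cfsg.PSU n F 2), H.index = 2 ^ (n - 1) * (2 ^ n - 1) / 3) := by
  refine Cfsg.Agent.Lib.Helper14.SU2Leaf.S2153_of_index_ge hF n hn hpos (fun H _ hH => ?_)
  have he : Even n := by
    obtain ⟨k, rfl⟩ := hn
    exact ⟨3 * k, by ring⟩
  letI := Cfsg.Agent.Lib.Helper27.Su2Leaf.su2Act F n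
  exact Cfsg.Agent.Lib.Helper11.Su2.index_ge
    (Cfsg.Agent.Lib.Helper27.Su2Leaf.su2Setting hF n (by omega))
    (Cfsg.Agent.Lib.Helper27.Su2Leaf.card_V4 hF)
    (Cfsg.Agent.Lib.Helper27.Su2Leaf.card_iso4 hF (by omega) he) hpos H hH

end Cfsg.Agent.S2153
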