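import Cfsg.Statements.S2155
import Mathlib
import Cfsg.Agent.Lib.Helper11.ChevParCent
import Cfsg.Agent.Lib.Helper25.CharP
import Cfsg.Agent.Lib.Helper7.ChevOrd3
-- import your own Cfsg.Agent.* helpers here

set_option autoImplicit false
open Cfsg

namespace Cfsg.Agent.S2155

open Cfsg.Lie Cfsg.Agent.Lib.Helper7 Cfsg.Agent.Lib.Helper11.ChevParCent

/-- a subgroup of a subgroup all of whose elements lie in a `p`-subgroup is a `p`-group -/
theorem isPGroup_of_forall_mem {p : ℕ} {G : Type*} [Group G] (U : Subgroup G) (hU : IsPGroup p U)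
    (X : Subgroup G) (K : Subgroup X) (h : ∀ c ∈ K, (c : G) ∈ U) : IsPGroup p K := by
  rintro ⟨c, hc⟩
  obtain ⟨k, hk⟩ := hU ⟨(c : G), h c hc⟩
  refine ⟨k, ?_⟩
  apply Subtype.ext
  apply Subtype.ext
  have := congrArg Subtype.val hk
  simpa using this


/-- In a Chevalley group of type G₂, B₂, D₄, F₄, E₆, E₇ or E₈ over a finite field of characteristic p (for types G₂ and B₂ the field is assumed to have at least 3 elements, so that the group is simple), the generalized Fitting subgroup of every proper standard parabolic subgroup P_J is a p-group (P_J is p-constrained with trivial largest normal subgroup of order prime to p). -/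
theorem result {F : Type*} [Field F] [Fintype F] (p : ℕ) [Fact p.Prime] [CharP F p] (D : Cfsg.Lie.ChevalleyDatum) (hD : D ∈ [Cfsg.Lie.chevG2, Cfsg.Lie.chevB2, Cfsg.Lie.chevD4, Cfsg.Lie.chevF4, Cfsg.Lie.chevE6, Cfsg.Lie.chevE7, Cfsg.Lie.chevE8]) (hq : (D = Cfsg.Lie.chevG2 ∨ D = Cfsg.Lie.chevB2) → 3 ≤ Fintype.card F) (J : Set ℕ) (hJ : ∃ i, i < D.rank ∧ i ∉ J) : IsPGroup p ↥(Cfsg.generalizedFittingSubgroup ↥(D.parabolicSubgroup F J)) := by
  classical
  obtain ⟨i0, hi0, hi0J⟩ := hJ
  obtain ⟨w, hw⟩ := exists_parCentFacts D hD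
  obtain ⟨W, hW⟩ := exists_coefW D hD
  -- `U` is a `p`-group
  have hUp : IsPGroup p ↥(D.posUnipotent F) := by
    obtain ⟨n, hp, hq⟩ := FiniteField.card F p
    apply IsPGroup.of_card (n := n * (D.nroots / 2))
    rw [card_posUnipotent D hD F, hq, pow_mul]
  have hUJU : D.unipotentRadical F J ≤ D.posUnipotent F := by
    unfold ChevalleyDatum.unipotentRadical ChevalleyDatum.posUnipotent
    apply Subgroup.closure_mono
    rintro g ⟨r, t, hr, -, hg⟩
    exact ⟨r, t, hr, hg⟩
  have hUB : D.posUnipotent F ≤ D.borelSubgroup F := le_sup_left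
  have hBP : D.borelSubgroup F ≤ D.parabolicSubgroup F J := le_sup_left
  have hUJP : D.unipotentRadical F J ≤ D.parabolicSubgroup F J := hUJU.trans (hUB.trans hBP)
  have hPG : D.parabolicSubgroup F J ≤ D.group F := parabolic_le_group D hD F J
  -- `Q₀ = U_J` as a subgroup of `P_J`
  have hQn : ((D.unipotentRadical F J).subgroupOf (D.parabolicSubgroup F J)).Normal := by
    rw [Subgroup.normal_subgroupOf_iff_le_normalizer hUJP]
    exact parabolic_le_normalizer_uJ D hD F W hW J
  have hQp : IsPGroup p ↥((D.unipotentRadical F J).subgroupOf (D.parabolicSubgroup F J)) := by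
    apply isPGroup_of_forall_mem _ hUp
    intro c hc
    exact hUJU (Subgroup.mem_subgroupOf.mp hc)
  have hCp : IsPGroup p ↥(Subgroup.centralizer
      (((D.unipotentRadical F J).subgroupOf (D.parabolicSubgroup F J) :
        Subgroup ↥(D.parabolicSubgroup F J)) : Set ↥(D.parabolicSubgroup F J))) := by
    apply isPGroup_of_forall_mem _ hUp
    intro c hc
    apply centralizer_uJ_inf_group_le_posUnipotent D hD F w hw J i0 hi0 hi0J
    refine Subgroup.mem_inf.mpr ⟨?_, hPG c.2⟩
    rw [Subgroup.mem_centralizer_iff]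
    intro x hx
    have hx' : (⟨x, hUJP hx⟩ : ↥(D.parabolicSubgroup F J)) ∈
        (D.unipotentRadical F J).subgroupOf (D.parabolicSubgroup F J) :=
      Subgroup.mem_subgroupOf.mpr hx
    have := Subgroup.mem_centralizer_iff.mp hc _ hx'
    exact congrArg Subtype.val this
  have hCn : (Subgroup.centralizer
      (((D.unipotentRadical F J).subgroupOf (D.parabolicSubgroup F J) :
        Subgroup ↥(D.parabolicSubgroup F J)) : Set ↥(D.parabolicSubgroup F J))).Normal :=
    Subgroup.normal_centralizer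
  have hCle := Cfsg.Agent.Lib.Helper1.le_pCore hCn hCp
  have hQle := Cfsg.Agent.Lib.Helper1.le_pCore hQn hQp
  have e := Cfsg.Agent.Lib.Helper25.generalizedFittingSubgroup_eq_pCore_of_normal_pSubgroup
    (Cfsg.pCore p ↥(D.parabolicSubgroup F J))
    (Cfsg.Agent.Lib.Helper1.pCore_normal p _) (Cfsg.Agent.Lib.Helper1.pCore_isPGroup p _)
    ((Subgroup.centralizer_le hQle).trans hCle)
  rw [e]
  exact Cfsg.Agent.Lib.Helper1.pCore_isPGroup p _

end Cfsg.Agent.S2155
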