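import Cfsg.Statements.S2156
import Cfsg.Agent.Lib.Lead.SteinX
import Cfsg.Agent.Lib.Helper25.SteinConv

set_option autoImplicit false
open Cfsg

namespace Cfsg.Agent.S2156

open Cfsg.Lie Cfsg.Agent.Lib.Helper7 Cfsg.Agent.Lib.Helper11 Cfsg.Agent.Lib.Lead.Stein
open Cfsg.Agent.Lib.Lead.ChevCent Cfsg.Agent.Lib.Helper25.SteinConv

/-- Over a finite field, every automorphism of the Chevalley group of type G₂, B₂, D₄, F₄, E₆, E₇ or E₈ is the composite of a field automorphism, a graph automorphism, a diagonal automorphism and an inner automorphism: `θ y = x · d(g(f y)) · x⁻¹` for some group element `x`, diagonal `d`, graph `g` and field `f` (each possibly the identity; diagonal here includes conjugation by elements of the diagonal subgroup H). -/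
theorem result {F : Type*} [Field F] [Finite F] (D : Cfsg.Lie.ChevalleyDatum) (hD : D ∈ [Cfsg.Lie.chevG2, Cfsg.Lie.chevB2, Cfsg.Lie.chevD4, Cfsg.Lie.chevF4, Cfsg.Lie.chevE6, Cfsg.Lie.chevE7, Cfsg.Lie.chevE8]) (θ : ↥(D.group F) ≃* ↥(D.group F)) :
    ∃ (x : ↥(D.group F)) (d g f : ↥(D.group F) ≃* ↥(D.group F)),
      D.IsDiagonalAut d ∧ D.IsGraphAut g ∧ D.IsFieldAut f ∧ ∀ y : ↥(D.group F), θ y = x * d (g (f y)) * x⁻¹ := by
  obtain ⟨p, hp⟩ := CharP.exists F
  have := hp
  have : Fact p.Prime := ⟨CharP.char_is_prime F p⟩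
  letI : Fintype F := Fintype.ofFinite F
  obtain ⟨x₁, hU, hV⟩ := exists_stab D hD F p θ
  set θ₁ := θ.trans (MulAut.conj x₁) with hθ₁
  obtain ⟨ρ, f, g, hFD⟩ := exists_fundData D hD F θ₁ hU hV
  obtain ⟨hbonds, ⟨σ, hσ⟩, -⟩ := shape D hD θ₁ ρ f g hU hV hFD
  have hc : ∀ k < D.rank, f k 1 ≠ 0 := fun k hk => (hFD.pos k hk).ne_zero 1 one_ne_zero
  -- the permutation of the nodes
  let pF : Fin D.rank → Fin D.rank := fun k => ⟨ρ k.val, hFD.lt k.val k.isLt⟩
  have hinj : Function.Injective pF := by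
    intro k k' h
    exact Fin.ext (hFD.inj k.val k'.val k.isLt k'.isLt (Fin.mk.inj_iff.mp h))
  let π : Equiv.Perm (Fin D.rank) := Equiv.ofBijective pF (Finite.injective_iff_bijective.mp hinj)
  have hπ : ∀ k : Fin D.rank, (π k).val = ρ k.val := fun _ => rfl
  have hsym : D.IsDiagramSymmetry π := by
    intro i j hij
    rw [hπ, hπ]
    exact hbonds i.val i.isLt j.val j.isLt (fun h => hij (Fin.ext h))
  -- the diagonal automorphism
  let c : Fin D.rank → Fˣ := fun m => Units.mk0 (f (π.symm m).val 1) (hc _ (π.symm m).isLt)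
  have hcπ : ∀ k : Fin D.rank, ((c (π k) : Fˣ) : F) = f k.val 1 := by
    intro k
    show f (π.symm (π k)).val 1 = f k.val 1
    rw [Equiv.symm_apply_apply]
  set χ := chiOf D hD F c with hχdef
  have hχ : ChainChar D F χ := chiOf_chainChar D hD F c
  set dA := diagAut D hD F χ hχ with hdA
  set φ := phiOf D σ with hφ
  -- the graph automorphism
  set γ : ↥(D.group F) ≃* ↥(D.group F) := φ.symm.trans (θ₁.trans dA.symm) with hγ
  have hφsymm : ∀ (r : ℕ) (t : F), φ.symm (xG D hD F r t) = xG D hD F r (σ.symm t) := by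
    intro r t
    rw [MulEquiv.symm_apply_eq, hφ, phiOf_xG D σ hD, RingEquiv.apply_symm_apply]
  have hγpos : ∀ (i : Fin D.rank) (t : F), γ (xG D hD F (D.simple i) t) =
      xG D hD F (D.simple (π i)) (t ^ D.graphExp (ringChar F) i (π i)) := by
    intro i t
    show dA.symm (θ₁ (φ.symm (xG D hD F (D.simple i) t))) = _
    rw [hφsymm, (hFD.pos i.val i.isLt).map, MulEquiv.symm_apply_eq, hdA, diagAut_xG, hπ,
      (hσ i.val i.isLt _).1, RingEquiv.apply_symm_apply]
    congr 2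
    have := chiOf_simple D hD F c (ρ i.val) (hFD.lt i.val i.isLt)
    rw [hχdef, this]
    have e : (⟨ρ i.val, hFD.lt i.val i.isLt⟩ : Fin D.rank) = π i := rfl
    rw [e, hcπ]
  have hγneg : ∀ (i : Fin D.rank) (t : F), γ (xG D hD F (D.neg (D.simple i)) t) =
      xG D hD F (D.neg (D.simple (π i))) (t ^ D.graphExp (ringChar F) i (π i)) := by
    intro i t
    show dA.symm (θ₁ (φ.symm (xG D hD F (D.neg (D.simple i)) t))) = _
    rw [hφsymm, (hFD.neg i.val i.isLt).map, MulEquiv.symm_apply_eq, hdA, diagAut_xG, hπ,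
      (hσ i.val i.isLt _).2, RingEquiv.apply_symm_apply]
    congr 2
    have := chiOf_neg_simple D hD F c (ρ i.val) (hFD.lt i.val i.isLt)
    rw [hχdef, this]
    have e : (⟨ρ i.val, hFD.lt i.val i.isLt⟩ : Fin D.rank) = π i := rfl
    rw [e, hcπ]
  refine ⟨x₁⁻¹, dA, γ, φ, isDiagonalAut_diagAut D hD F χ hχ, isGraphAut_of D hD F γ π hsym hγpos hγneg,
    isFieldAut_phiOf D hD F σ, ?_⟩
  intro y
  have h1 : dA (γ (φ y)) = θ₁ y := by
    show dA (dA.symm (θ₁ (φ.symm (φ y)))) = θ₁ y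
    rw [MulEquiv.apply_symm_apply, MulEquiv.symm_apply_apply]
  rw [h1, hθ₁, MulEquiv.trans_apply, MulAut.conj_apply]
  group

end Cfsg.Agent.S2156
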