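import Cfsg.Statements.S2160
import Cfsg.Agent.Lib.Helper11.ChevFundGen
-- import your own Cfsg.Agent.* helpers here

set_option autoImplicit false
open Cfsg

namespace Cfsg.Agent.S2160

open Cfsg.Lie Cfsg.Agent.Lib.Helper7 Cfsg.Agent.Lib.Helper11


/-- In a Chevalley group of type G₂, B₂, D₄, F₄, E₆, E₇ or E₈ over a finite field, every field automorphism commutes with every graph automorphism. -/
theorem result {F : Type*} [Field F] [Finite F] (D : Cfsg.Lie.ChevalleyDatum) (hD : D ∈ [Cfsg.Lie.chevG2, Cfsg.Lie.chevB2, Cfsg.Lie.chevD4, Cfsg.Lie.chevF4, Cfsg.Lie.chevE6, Cfsg.Lie.chevE7, Cfsg.Lie.chevE8]) (f g : ↥(D.group F) ≃* ↥(D.group F))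
    (hf : D.IsFieldAut f) (hg : D.IsGraphAut g) (y : ↥(D.group F)) : f (g y) = g (f y) := by
  obtain ⟨σ, hσ⟩ := hf
  obtain ⟨π, -, hπ⟩ := hg
  have key : (f.toMonoidHom.comp g.toMonoidHom) = (g.toMonoidHom.comp f.toMonoidHom) := by
    apply hom_ext_of_fund D hD F
    · intro j hj t
      have hF := fundFacts_of_mem D hD j hj
      have hF' := fundFacts_of_mem D hD (π ⟨j, hj⟩) (π ⟨j, hj⟩).isLt
      -- g (x_{p_j}(t)) = x_{p_{πj}}(t^e)
      have h1 := (hπ (xG D hD F (D.simple j) t) ⟨j, hj⟩ t).1 (coe_coe_xG D hD F _ _)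
      have h1' := eq_xG_of_coe D hD F _ _ _ h1
      have h2 := hσ (xG D hD F (D.simple j) t) (D.simple j) t hF.hp (coe_coe_xG D hD F _ _)
      have h2' := eq_xG_of_coe D hD F _ _ _ h2
      have h3 := hσ (xG D hD F (D.simple (π ⟨j, hj⟩)) (t ^ D.graphExp (ringChar F) j (π ⟨j, hj⟩)))
        (D.simple (π ⟨j, hj⟩)) _ hF'.hp (coe_coe_xG D hD F _ _)
      have h3' := eq_xG_of_coe D hD F _ _ _ h3
      have h4 := (hπ (xG D hD F (D.simple j) (σ t)) ⟨j, hj⟩ (σ t)).1 (coe_coe_xG D hD F _ _)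
      have h4' := eq_xG_of_coe D hD F _ _ _ h4
      simp only [MonoidHom.comp_apply, MulEquiv.coe_toMonoidHom]
      rw [h1', h3', h2', h4', map_pow]
    · intro j hj t
      have hF := fundFacts_of_mem D hD j hj
      have hF' := fundFacts_of_mem D hD (π ⟨j, hj⟩) (π ⟨j, hj⟩).isLt
      have h1 := (hπ (xG D hD F (D.neg (D.simple j)) t) ⟨j, hj⟩ t).2 (coe_coe_xG D hD F _ _)
      have h1' := eq_xG_of_coe D hD F _ _ _ h1
      have h2 := hσ (xG D hD F (D.neg (D.simple j)) t) (D.neg (D.simple j)) t hF.hpb (coe_coe_xG D hD F _ _)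
      have h2' := eq_xG_of_coe D hD F _ _ _ h2
      have h3 := hσ (xG D hD F (D.neg (D.simple (π ⟨j, hj⟩))) (t ^ D.graphExp (ringChar F) j (π ⟨j, hj⟩)))
        (D.neg (D.simple (π ⟨j, hj⟩))) _ hF'.hpb (coe_coe_xG D hD F _ _)
      have h3' := eq_xG_of_coe D hD F _ _ _ h3
      have h4 := (hπ (xG D hD F (D.neg (D.simple j)) (σ t)) ⟨j, hj⟩ (σ t)).2 (coe_coe_xG D hD F _ _)
      have h4' := eq_xG_of_coe D hD F _ _ _ h4
      simp only [MonoidHom.comp_apply, MulEquiv.coe_toMonoidHom]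
      rw [h1', h3', h2', h4', map_pow]
  exact DFunLike.congr_fun key y

end Cfsg.Agent.S2160
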