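import Cfsg.Statements.S2163
-- import your own Cfsg.Agent.* helpers here

set_option autoImplicit false
open Cfsg

namespace Cfsg.Agent.S2163


/-- The corner matrix: ones in positions `(j + (n - ℓ), j)` for `j < ℓ`. -/
def cornerMat (F : Type*) [Field F] (n ℓ : ℕ) : Matrix (Fin n) (Fin n) F :=
  Matrix.of (fun i j : Fin n => if j.val < ℓ ∧ i.val = j.val + (n - ℓ) then (1 : F) else 0)

theorem cornerMat_apply (F : Type*) [Field F] (n ℓ : ℕ) (i j : Fin n) :
    cornerMat F n ℓ i j = if j.val < ℓ ∧ i.val = j.val + (n - ℓ) then (1 : F) else 0 := rfl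

theorem cornerMat_sq (F : Type*) [Field F] (n ℓ : ℕ) (h2 : 2 * ℓ ≤ n) :
    cornerMat F n ℓ * cornerMat F n ℓ = 0 := by
  ext i k
  rw [Matrix.mul_apply, Matrix.zero_apply]
  apply Finset.sum_eq_zero
  intro j _
  rw [cornerMat_apply, cornerMat_apply]
  by_cases h : (j.val < ℓ ∧ i.val = j.val + (n - ℓ))
  · have : ¬ (k.val < ℓ ∧ j.val = k.val + (n - ℓ)) := by
      rintro ⟨_, h'⟩
      omega
    rw [if_neg this, mul_zero]
  · rw [if_neg h, zero_mul]

theorem cornerMat_rank (F : Type*) [Field F] (n ℓ : ℕ) (h2 : 2 * ℓ ≤ n) :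
    (cornerMat F n ℓ).rank = ℓ := by
  apply le_antisymm
  · -- all nonzero rows have index ≥ n - ℓ
    have := Matrix.rank_le_card_of_support_subset (cornerMat F n ℓ)
      (Finset.univ.filter (fun i : Fin n => ¬ (i.val < n - ℓ))) (by
        intro i hi
        rw [Function.mem_support] at hi
        rw [Finset.mem_coe, Finset.mem_filter]
        refine ⟨Finset.mem_univ _, ?_⟩
        intro hlt
        apply hi
        ext j
        simp only [Matrix.row_apply, cornerMat_apply, Pi.zero_apply]
        rw [if_neg]
        rintro ⟨_, h'⟩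
        omega)
    refine this.trans ?_
    -- the filter has exactly ℓ elements
    have hcard : (Finset.univ.filter (fun i : Fin n => ¬ (i.val < n - ℓ))).card = ℓ := by
      have h := Finset.card_filter_add_card_filter_not (s := (Finset.univ : Finset (Fin n)))
        (fun i : Fin n => i.val < n - ℓ)
      rw [Fin.card_filter_val_lt, Finset.card_univ, Fintype.card_fin] at h
      have : min n (n - ℓ) = n - ℓ := min_eq_right (Nat.sub_le _ _)
      omega
    exact hcard.le
  · -- an ℓ × ℓ identity submatrix
    have hle : ℓ ≤ n := by omega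
    let r : Fin ℓ → Fin n := fun j => ⟨j.val + (n - ℓ), by omega⟩
    let c : Fin ℓ → Fin n := fun j => ⟨j.val, by omega⟩
    have hsub : (cornerMat F n ℓ).submatrix r c = 1 := by
      ext i j
      simp only [Matrix.submatrix_apply, cornerMat_apply, r, c, Matrix.one_apply]
      by_cases hij : i = j
      · subst hij
        simp
      · rw [if_neg hij, if_neg]
        rintro ⟨_, h'⟩
        apply hij
        ext
        omega
    have := Matrix.rank_submatrix_le (cornerMat F n ℓ) r c
    rw [hsub, Matrix.rank_one, Fintype.card_fin] at this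
    exact this

/-- Over a finite field of characteristic two and for n ≥ 3: for every ℓ with 1 ≤ ℓ and 2ℓ ≤ n, the matrix j_ℓ that is the identity plus the entries 1 in positions (n − ℓ + i, i) for i < ℓ (an identity block of size ℓ in the lower left corner) lies in SL_n(F), has order 2, and j_ℓ − 1 has rank ℓ. Together with the conjugacy criterion by rank, these matrices represent the conjugacy classes of involutions of SL_n(F). -/
theorem result {F : Type*} [Field F] [Fintype F] [CharP F 2] {n : ℕ} (hn : 3 ≤ n) (ℓ : ℕ) (h1 : 1 ≤ ℓ) (h2 : 2 * ℓ ≤ n) :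
    ∃ a : Matrix.SpecialLinearGroup (Fin n) F, (a : Matrix (Fin n) (Fin n) F) = 1 + Matrix.of (fun i j : Fin n => if j.val < ℓ ∧ i.val = j.val + (n - ℓ) then (1 : F) else 0) ∧ orderOf a = 2 ∧ ((a : Matrix (Fin n) (Fin n) F) - 1).rank = ℓ := by
  have hE : (Matrix.of (fun i j : Fin n => if j.val < ℓ ∧ i.val = j.val + (n - ℓ) then (1 : F) else 0))
      = cornerMat F n ℓ := rfl
  rw [hE]
  have hdet : (1 + cornerMat F n ℓ).det = 1 := by
    rw [Matrix.det_of_isLowerTriangular]
    · apply Finset.prod_eq_one
      intro i _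
      rw [Matrix.add_apply, Matrix.one_apply_eq, cornerMat_apply, if_neg, add_zero]
      rintro ⟨_, h'⟩
      omega
    · intro i j hij
      have hij' : i < j := hij
      rw [Matrix.add_apply, Matrix.one_apply_ne hij'.ne, cornerMat_apply, if_neg, add_zero]
      rintro ⟨_, h'⟩
      have : i.val < j.val := hij'
      omega
  have hchar : (cornerMat F n ℓ) + (cornerMat F n ℓ) = 0 := by
    ext i j
    rw [Matrix.add_apply, Matrix.zero_apply]
    exact CharTwo.add_self_eq_zero _
  let a : Matrix.SpecialLinearGroup (Fin n) F := ⟨1 + cornerMat F n ℓ, hdet⟩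
  have ha : (a : Matrix (Fin n) (Fin n) F) = 1 + cornerMat F n ℓ := rfl
  refine ⟨a, ha, ?_, ?_⟩
  · apply orderOf_eq_prime
    · apply Subtype.ext
      rw [pow_two, Matrix.SpecialLinearGroup.coe_mul, ha, Matrix.SpecialLinearGroup.coe_one]
      rw [mul_add, add_mul, add_mul, one_mul, one_mul, mul_one, cornerMat_sq F n ℓ h2, add_zero,
        add_assoc, hchar, add_zero]
    · intro h
      have h' := congrArg (fun x : Matrix.SpecialLinearGroup (Fin n) F =>
        (x : Matrix (Fin n) (Fin n) F) ⟨n - ℓ, by omega⟩ ⟨0, by omega⟩) h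
      simp only [Matrix.SpecialLinearGroup.coe_one, ha] at h'
      rw [Matrix.add_apply, cornerMat_apply, if_pos ⟨by simp; omega, by simp⟩,
        Matrix.one_apply_ne (by intro h0; have := congrArg Fin.val h0; simp at this; omega)] at h'
      simp at h'
  · rw [ha, add_sub_cancel_left]
    exact cornerMat_rank F n ℓ h2

end Cfsg.Agent.S2163
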