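import Cfsg.Statements.S2165
-- import your own Cfsg.Agent.* helpers here

set_option autoImplicit false
open Cfsg

namespace Cfsg.Agent.S2165


/-- The index-swapping function: `j ↦ j + (n - ℓ)` for `j < ℓ`, `j ↦ j - (n - ℓ)` for `j ≥ n - ℓ`. -/
def swapFun (n ℓ : ℕ) (h2 : 2 * ℓ ≤ n) (j : Fin n) : Fin n :=
  if h : j.val < ℓ then ⟨j.val + (n - ℓ), by omega⟩
  else if h' : n - ℓ ≤ j.val then ⟨j.val - (n - ℓ), by omega⟩ else j

theorem swapFun_val (n ℓ : ℕ) (h2 : 2 * ℓ ≤ n) (j : Fin n) :
    (swapFun n ℓ h2 j).val = if j.val < ℓ then j.val + (n - ℓ)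
      else if n - ℓ ≤ j.val then j.val - (n - ℓ) else j.val := by
  unfold swapFun
  split_ifs <;> rfl

theorem swapFun_invol (n ℓ : ℕ) (h2 : 2 * ℓ ≤ n) : Function.Involutive (swapFun n ℓ h2) := by
  intro j
  apply Fin.ext
  rw [swapFun_val, swapFun_val]
  have := j.isLt
  split_ifs <;> omega

/-- The involution as a permutation. -/
def swapPerm (n ℓ : ℕ) (h2 : 2 * ℓ ≤ n) : Equiv.Perm (Fin n) :=
  (swapFun_invol n ℓ h2).toPerm _

theorem swapPerm_apply (n ℓ : ℕ) (h2 : 2 * ℓ ≤ n) (j : Fin n) :
    swapPerm n ℓ h2 j = swapFun n ℓ h2 j := rfl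

theorem swapPerm_sq (n ℓ : ℕ) (h2 : 2 * ℓ ≤ n) : swapPerm n ℓ h2 * swapPerm n ℓ h2 = 1 := by
  ext j
  rw [Equiv.Perm.mul_apply, swapPerm_apply, swapPerm_apply, swapFun_invol]
  rfl

theorem permMat_apply (F : Type*) [Field F] {n : ℕ} (σ : Equiv.Perm (Fin n)) (i j : Fin n) :
    (σ.permMatrix F) i j = if σ i = j then (1 : F) else 0 := by
  unfold Equiv.Perm.permMatrix
  rw [PEquiv.toMatrix_apply, Equiv.toPEquiv_apply]
  simp only [Option.mem_def, Option.some.injEq]

/-- The statement's matrix is the permutation matrix of `swapPerm`. -/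
theorem mat_eq_permMatrix (F : Type*) [Field F] (n ℓ : ℕ) (h2 : 2 * ℓ ≤ n) :
    Matrix.of (fun i j : Fin n => if (j.val < ℓ ∧ i.val = j.val + (n - ℓ)) ∨ (i.val < ℓ ∧ j.val = i.val + (n - ℓ)) ∨ (i = j ∧ ℓ ≤ i.val ∧ i.val < n - ℓ) then (1 : F) else 0)
      = (swapPerm n ℓ h2).permMatrix F := by
  ext i j
  rw [Matrix.of_apply, permMat_apply, swapPerm_apply]
  have hi := i.isLt
  have hj := j.isLt
  congr 1
  rw [Fin.ext_iff (a := swapFun n ℓ h2 i), swapFun_val, Fin.ext_iff (a := i)]
  apply propext
  split_ifs <;> constructor <;> intro h <;> omega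

theorem permMatrix_sub_one_apply (F : Type*) [Field F] (n ℓ : ℕ) (h2 : 2 * ℓ ≤ n) (i j : Fin n) :
    ((swapPerm n ℓ h2).permMatrix F - 1) i j =
      (if swapFun n ℓ h2 i = j then (1 : F) else 0) - (if i = j then 1 else 0) := by
  rw [Matrix.sub_apply, permMat_apply, Matrix.one_apply, swapPerm_apply]

theorem rank_permMatrix_sub_one (F : Type*) [Field F] (n ℓ : ℕ) (h2 : 2 * ℓ ≤ n) :
    ((swapPerm n ℓ h2).permMatrix F - 1).rank = ℓ := by
  set A := (swapPerm n ℓ h2).permMatrix F - 1 with hA
  have hle : ℓ ≤ n := by omega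
  apply le_antisymm
  · -- factor through an `n × ℓ` matrix
    let C : Matrix (Fin n) (Fin ℓ) F := Matrix.of fun i k =>
      if i.val = k.val then 1 else if i.val = k.val + (n - ℓ) then -1 else 0
    let R : Matrix (Fin ℓ) (Fin n) F := Matrix.of fun k j => A ⟨k.val, by omega⟩ j
    have hCR : A = C * R := by
      ext i j
      rw [Matrix.mul_apply]
      have hi := i.isLt
      by_cases h1 : i.val < ℓ
      · rw [Finset.sum_eq_single (⟨i.val, h1⟩ : Fin ℓ)]
        · simp [C, R]
        · intro k _ hk
          have hk' : i.val ≠ k.val := fun h => hk (Fin.ext h.symm)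
          have hk2 : i.val ≠ k.val + (n - ℓ) := by have := k.isLt; omega
          simp [C, hk', hk2]
        · intro h; exact absurd (Finset.mem_univ _) h
      · by_cases h3 : n - ℓ ≤ i.val
        · have hlt : i.val - (n - ℓ) < ℓ := by omega
          rw [Finset.sum_eq_single (⟨i.val - (n - ℓ), hlt⟩ : Fin ℓ)]
          · have e1 : i.val ≠ i.val - (n - ℓ) := by omega
            have e2 : i.val = i.val - (n - ℓ) + (n - ℓ) := by omega
            simp only [C, R, Matrix.of_apply, if_neg e1]
            rw [if_pos e2, neg_one_mul, hA, permMatrix_sub_one_apply, permMatrix_sub_one_apply]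
            have hs1 : swapFun n ℓ h2 i = ⟨i.val - (n - ℓ), by omega⟩ := by
              apply Fin.ext; rw [swapFun_val]; simp only []; split_ifs <;> omega
            have hs2 : swapFun n ℓ h2 ⟨i.val - (n - ℓ), by omega⟩ = i := by
              apply Fin.ext; rw [swapFun_val]; simp only []; split_ifs <;> omega
            rw [hs1, hs2]
            ring
          · intro k _ hk
            have hk' : i.val ≠ k.val := by have := k.isLt; omega
            have hk2 : i.val ≠ k.val + (n - ℓ) := by
              intro h; apply hk; apply Fin.ext; simp only []; omega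
            simp [C, hk', hk2]
          · intro h; exact absurd (Finset.mem_univ _) h
        · -- middle rows vanish
          rw [Finset.sum_eq_zero]
          · rw [hA, permMatrix_sub_one_apply]
            have hs1 : swapFun n ℓ h2 i = i := by
              apply Fin.ext; rw [swapFun_val]; split_ifs <;> omega
            rw [hs1, sub_self]
          · intro k _
            have hk' : i.val ≠ k.val := by have := k.isLt; omega
            have hk2 : i.val ≠ k.val + (n - ℓ) := by have := k.isLt; omega
            simp [C, hk', hk2]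
    rw [hCR]
    exact (Matrix.rank_mul_le_left C R).trans (Matrix.rank_le_width C)
  · let r : Fin ℓ → Fin n := fun j => ⟨j.val, by omega⟩
    let c : Fin ℓ → Fin n := fun j => ⟨j.val + (n - ℓ), by omega⟩
    have hsub : A.submatrix r c = 1 := by
      ext i j
      rw [Matrix.submatrix_apply, hA, permMatrix_sub_one_apply, Matrix.one_apply]
      have hi := i.isLt
      have hj := j.isLt
      have hne : ¬ (r i = c j) := by
        intro h; have := congrArg Fin.val h; simp only [r, c] at this; omega
      rw [if_neg hne, sub_zero]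
      congr 1
      apply propext
      rw [Fin.ext_iff, swapFun_val, Fin.ext_iff]
      simp only [r, c]
      split_ifs <;> constructor <;> intro h <;> omega
    have := Matrix.rank_submatrix_le A r c
    rw [hsub, Matrix.rank_one, Fintype.card_fin] at this
    exact this

/-- In SU_n(q), q even, n ≥ 3 (matrices of determinant 1 over the field with q² elements preserving Σ u_i v_i^q): for every ℓ with 1 ≤ ℓ and 2ℓ ≤ n, the permutation matrix of the involution of {0, …, n−1} exchanging i and n − ℓ + i for each i < ℓ lies in SU_n(q), has order 2, and differs from the identity by a matrix of rank ℓ. So every rank between 1 and n/2 occurs for involutions of SU_n(q). -/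
theorem result {F : Type*} [Field F] [Fintype F] [CharP F 2] {n q : ℕ} (hF : Fintype.card F = q ^ 2) (hn : 3 ≤ n) (ℓ : ℕ) (h1 : 1 ≤ ℓ) (h2 : 2 * ℓ ≤ n) :
    ∃ a : ↥(Cfsg.SU n F q), (((a : Matrix.SpecialLinearGroup (Fin n) F) : Matrix (Fin n) (Fin n) F) = Matrix.of (fun i j : Fin n => if (j.val < ℓ ∧ i.val = j.val + (n - ℓ)) ∨ (i.val < ℓ ∧ j.val = i.val + (n - ℓ)) ∨ (i = j ∧ ℓ ≤ i.val ∧ i.val < n - ℓ) then (1 : F) else 0)) ∧ orderOf a = 2 ∧ ((((a : Matrix.SpecialLinearGroup (Fin n) F) : Matrix (Fin n) (Fin n) F)) - 1).rank = ℓ := by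
  rw [mat_eq_permMatrix F n ℓ h2]
  set σ := swapPerm n ℓ h2 with hσ
  have hPP : σ.permMatrix F * σ.permMatrix F = 1 := by
    rw [← Matrix.permMatrix_mul, swapPerm_sq, Matrix.permMatrix_one]
  have hdet : (σ.permMatrix F).det = 1 := by
    have h := congrArg Matrix.det hPP
    rw [Matrix.det_mul, Matrix.det_one] at h
    set x := (σ.permMatrix F).det
    have h0 : (x - 1) ^ 2 = 0 := by
      have h2' : (2 : F) = 0 := CharTwo.two_eq_zero
      calc (x - 1) ^ 2 = x * x - 2 * x + 1 := by ring
        _ = 0 := by rw [h, h2']; ring_nf; exact CharTwo.two_eq_zero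
    exact sub_eq_zero.mp (pow_eq_zero_iff (two_ne_zero) |>.mp h0)
  let A : Matrix.SpecialLinearGroup (Fin n) F := ⟨σ.permMatrix F, hdet⟩
  have hAcoe : (A : Matrix (Fin n) (Fin n) F) = σ.permMatrix F := rfl
  have hAmem : A ∈ Cfsg.SU n F q := by
    intro u v
    have hmat : (Cfsg.slToMat n F) A = σ.permMatrix F := rfl
    rw [hmat, Matrix.permMatrix_mulVec, Matrix.permMatrix_mulVec]
    unfold Cfsg.hermForm
    exact Equiv.sum_comp σ (fun i => u i * v i ^ q)
  let a : ↥(Cfsg.SU n F q) := ⟨A, hAmem⟩
  refine ⟨a, hAcoe, ?_, ?_⟩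
  · apply orderOf_eq_prime
    · apply Subtype.ext
      apply Subtype.ext
      rw [pow_two]
      exact hPP
    · intro h
      have h' := congrArg (fun x : ↥(Cfsg.SU n F q) =>
        ((x : Matrix.SpecialLinearGroup (Fin n) F) : Matrix (Fin n) (Fin n) F) ⟨0, by omega⟩ ⟨0, by omega⟩) h
      simp only [Subgroup.coe_one, Matrix.SpecialLinearGroup.coe_one, Matrix.one_apply_eq] at h'
      change (σ.permMatrix F) ⟨0, by omega⟩ ⟨0, by omega⟩ = 1 at h'
      rw [permMat_apply, if_neg] at h'
      · exact zero_ne_one h'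
      · intro h0
        have := congrArg Fin.val h0
        rw [hσ, swapPerm_apply, swapFun_val] at this
        simp only [] at this
        split_ifs at this <;> omega
  · change (σ.permMatrix F - 1).rank = ℓ
    exact rank_permMatrix_sub_one F n ℓ h2

end Cfsg.Agent.S2165
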