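import Cfsg.Statements.S2167
import Cfsg.Agent.Lib.Helper13.AltForm

set_option autoImplicit false
open Cfsg

namespace Cfsg.Agent.S2167


open Matrix

variable {F : Type*} [Field F]

theorem dot_J_self (m : ℕ) (v : Fin m ⊕ Fin m → F) : v ⬝ᵥ (Matrix.J (Fin m) F *ᵥ v) = 0 := by
  have hJ : Matrix.J (Fin m) F *ᵥ v =
      Sum.elim (fun i => -v (Sum.inr i)) (fun i => v (Sum.inl i)) := by
    ext i
    rcases i with i | i
    · simp [Matrix.J, Matrix.mulVec, dotProduct, Fintype.sum_sum_type, Matrix.one_apply]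
    · simp [Matrix.J, Matrix.mulVec, dotProduct, Fintype.sum_sum_type, Matrix.one_apply]
  rw [hJ]
  simp only [dotProduct, Fintype.sum_sum_type, Sum.elim_inl, Sum.elim_inr]
  rw [← Finset.sum_add_distrib]
  apply Finset.sum_eq_zero
  intro i _
  ring

/-- For a symplectic involution `A`, the matrix `J * A` is skew-symmetric. -/
theorem JA_transpose (m : ℕ) (A : Matrix (Fin m ⊕ Fin m) (Fin m ⊕ Fin m) F)
    (hA : A ∈ Matrix.symplecticGroup (Fin m) F) (hAA : A * A = 1) :
    (Matrix.J (Fin m) F * A)ᵀ = -(Matrix.J (Fin m) F * A) := by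
  rw [Matrix.transpose_mul, Matrix.J_transpose]
  have h := (SymplecticGroup.mem_iff').mp hA
  -- Aᵀ * J * A = J  ⇒  Aᵀ * J = J * A
  have h2 : Aᵀ * Matrix.J (Fin m) F = Matrix.J (Fin m) F * A := by
    calc Aᵀ * Matrix.J (Fin m) F = Aᵀ * Matrix.J (Fin m) F * (A * A) := by rw [hAA, mul_one]
      _ = (Aᵀ * Matrix.J (Fin m) F * A) * A := by simp only [mul_assoc]
      _ = Matrix.J (Fin m) F * A := by rw [h]
  rw [Matrix.mul_neg, h2]


theorem sympForm_eq (m : ℕ) (A : Matrix (Fin m ⊕ Fin m) (Fin m ⊕ Fin m) F) (v w : Fin m ⊕ Fin m → F) :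
    Cfsg.sympForm m F v (A *ᵥ w) = v ⬝ᵥ ((Matrix.J (Fin m) F * A) *ᵥ w) := by
  unfold Cfsg.sympForm
  rw [Matrix.mulVec_mulVec]

theorem skew_swap (m : ℕ) (N : Matrix (Fin m ⊕ Fin m) (Fin m ⊕ Fin m) F) (hN : Nᵀ = -N)
    (v w : Fin m ⊕ Fin m → F) : w ⬝ᵥ (N *ᵥ v) = -(v ⬝ᵥ (N *ᵥ w)) := by
  rw [dotProduct_comm, ← Matrix.vecMul_transpose, hN, Matrix.vecMul_neg,
    neg_dotProduct, Matrix.dotProduct_mulVec]

/-- For an involution t of the symplectic group Sp_{2m}(F), m ≥ 2, F a finite field of characteristic two (matrices A with A J Aᵀ = J acting on column vectors, alternating form f(u, v) = u ⬝ (J v)): the set V(t) of vectors v with f(v, t v) = 0 has either q^{2m} or q^{2m−1} elements, q the order of F (it is a subspace of codimension at most 1), and if it is the whole space then t − 1 has even rank. -/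
theorem result {F : Type*} [Field F] [Fintype F] [CharP F 2] {m : ℕ} (hm : 2 ≤ m) (a : ↥(Matrix.symplecticGroup (Fin m) F)) (ha : orderOf a = 2) :
    (Nat.card {v : Fin m ⊕ Fin m → F // Cfsg.sympForm m F v (Matrix.mulVec ((a : ↥(Matrix.symplecticGroup (Fin m) F)) : Matrix (Fin m ⊕ Fin m) (Fin m ⊕ Fin m) F) v) = 0} = Fintype.card F ^ (2 * m) ∨ Nat.card {v : Fin m ⊕ Fin m → F // Cfsg.sympForm m F v (Matrix.mulVec ((a : ↥(Matrix.symplecticGroup (Fin m) F)) : Matrix (Fin m ⊕ Fin m) (Fin m ⊕ Fin m) F) v) = 0} * Fintype.card F = Fintype.card F ^ (2 * m)) ∧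
    ((∀ v : Fin m ⊕ Fin m → F, Cfsg.sympForm m F v (Matrix.mulVec ((a : ↥(Matrix.symplecticGroup (Fin m) F)) : Matrix (Fin m ⊕ Fin m) (Fin m ⊕ Fin m) F) v) = 0) → Even (((a : ↥(Matrix.symplecticGroup (Fin m) F)) : Matrix (Fin m ⊕ Fin m) (Fin m ⊕ Fin m) F) - 1).rank) := by
  classical
  set A : Matrix (Fin m ⊕ Fin m) (Fin m ⊕ Fin m) F := (a : Matrix (Fin m ⊕ Fin m) (Fin m ⊕ Fin m) F) with hAdef
  have hAmem : A ∈ Matrix.symplecticGroup (Fin m) F := a.2
  have hAA : A * A = 1 := by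
    have h2 : a ^ 2 = 1 := by
      have := pow_orderOf_eq_one a
      rwa [ha] at this
    have := congrArg (fun x : ↥(Matrix.symplecticGroup (Fin m) F) =>
      (x : Matrix (Fin m ⊕ Fin m) (Fin m ⊕ Fin m) F)) h2
    simpa [pow_two] using this
  set N : Matrix (Fin m ⊕ Fin m) (Fin m ⊕ Fin m) F := Matrix.J (Fin m) F * A with hN
  have hNT : Nᵀ = -N := JA_transpose m A hAmem hAA
  have hform : ∀ v, Cfsg.sympForm m F v (A *ᵥ v) = v ⬝ᵥ (N *ᵥ v) := fun v => sympForm_eq m A v v
  simp only [hform]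
  -- the additive map φ
  let φ : (Fin m ⊕ Fin m → F) →+ F :=
    { toFun := fun v => v ⬝ᵥ (N *ᵥ v)
      map_zero' := by simp
      map_add' := by
        intro v w
        simp only [Matrix.mulVec_add, dotProduct_add, add_dotProduct]
        rw [skew_swap m N hNT v w]
        ring }
  have hφ : ∀ v, φ v = v ⬝ᵥ (N *ᵥ v) := fun v => rfl
  have hsmul : ∀ (c : F) v, φ (c • v) = c ^ 2 * φ v := by
    intro c v
    simp only [hφ, Matrix.mulVec_smul, dotProduct_smul, smul_dotProduct, smul_eq_mul]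
    ring
  have hcardV : Nat.card (Fin m ⊕ Fin m → F) = Fintype.card F ^ (2 * m) := by
    rw [Nat.card_eq_fintype_card, Fintype.card_fun, Fintype.card_sum, Fintype.card_fin, two_mul]
  have hker : Nat.card {v : Fin m ⊕ Fin m → F // v ⬝ᵥ (N *ᵥ v) = 0} = Nat.card φ.ker :=
    Nat.card_congr (Equiv.subtypeEquivRight (fun v => by rw [AddMonoidHom.mem_ker, hφ]))
  refine ⟨?_, ?_⟩
  · rw [hker]
    have hmul := AddSubgroup.card_mul_index φ.ker
    rw [AddSubgroup.index_ker, hcardV] at hmul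
    by_cases hall : ∀ v, φ v = 0
    · left
      have : φ.range = ⊥ := by
        rw [eq_bot_iff]
        rintro y ⟨v, rfl⟩
        rw [AddSubgroup.mem_bot]; exact hall v
      rw [this] at hmul
      simpa using hmul
    · right
      push Not at hall
      obtain ⟨v₀, hv₀⟩ := hall
      have : φ.range = ⊤ := by
        rw [eq_top_iff]
        intro y _
        obtain ⟨s, hs⟩ := FiniteField.isSquare_of_char_two (ringChar.eq F 2) (y / φ v₀)
        refine ⟨s • v₀, ?_⟩
        rw [hsmul, pow_two, ← hs]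
        field_simp
      rw [this] at hmul
      have hc : Nat.card (⊤ : AddSubgroup F) = Fintype.card F := by
        rw [Nat.card_congr (AddSubgroup.topEquiv (G := F)).toEquiv, Nat.card_eq_fintype_card]
      rw [hc] at hmul
      exact hmul
  · intro hall
    have hJunit : IsUnit (Matrix.J (Fin m) F).det := by
      have := Matrix.J_det_mul_J_det (Fin m) F
      exact IsUnit.of_mul_eq_one _ this
    rw [← Matrix.rank_mul_eq_right_of_isUnit_det (Matrix.J (Fin m) F) (A - 1) hJunit]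
    apply Cfsg.Agent.Lib.Helper13.even_rank_of_alt
    intro v
    rw [Matrix.mul_sub, mul_one, Matrix.sub_mulVec, dotProduct_sub, hall v, dot_J_self, sub_zero]

end Cfsg.Agent.S2167
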