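import Cfsg.Statements.S2168
import Mathlib
import Cfsg.Agent.S0832
import Cfsg.Agent.Lib.Helper5.OrthBridge

set_option autoImplicit false
open Cfsg

namespace Cfsg.Agent.S2168

section Aux
set_option linter.unusedSectionVars false
set_option linter.unusedVariables false
set_option linter.unusedSimpArgs false
namespace S2168aux
open Cfsg Cfsg.Agent.S0832.S0832aux Cfsg.Agent.Lib.Helper5.OrthBridge

theorem main {F : Type*} [Field F] [Fintype F] [CharP F 2] {m : ℕ}
    (t s : ↥(Cfsg.isometryGroup F (Cfsg.quadFormPlus m F))) (ht : orderOf t = 2)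
    (hs : orderOf s = 2) :
    IsConj t s ↔ ∃ g ∈ Cfsg.preserving (Units.coeHom (Matrix (Fin m ⊕ Fin m) (Fin m ⊕ Fin m) F))
      (fun u v => Cfsg.quadFormPlus m F (u + v) - Cfsg.quadFormPlus m F u -
        Cfsg.quadFormPlus m F v),
      g * ((t : ↥(Cfsg.isometryGroup F (Cfsg.quadFormPlus m F))) : GL (Fin m ⊕ Fin m) F) * g⁻¹ =
        ((s : ↥(Cfsg.isometryGroup F (Cfsg.quadFormPlus m F))) : GL (Fin m ⊕ Fin m) F) :=
  orth_conj_iff' (plusQ F m) (plusQ_nondeg m) (Cfsg.quadFormPlus m F)
    (fun x => (plusQ_apply m x).symm) t s ht hs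

end S2168aux
end Aux

/-- Involutions in the full isometry group O of the hyperbolic quadratic form Σ x_i y_i in dimension 2m over a finite field F of characteristic two, m ≥ 4 (plus type): two elements of order 2 of O are conjugate in O exactly when they are conjugate under the group of all invertible matrices preserving the polar bilinear form (u, v) ↦ Q(u + v) − Q(u) − Q(v) (the symplectic group of that form). -/
theorem result {F : Type*} [Field F] [Fintype F] [CharP F 2] {m : ℕ} (hm : 4 ≤ m) (t s : ↥(Cfsg.isometryGroup F (Cfsg.quadFormPlus m F))) (ht : orderOf t = 2) (hs : orderOf s = 2) :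
    IsConj t s ↔ ∃ g ∈ Cfsg.preserving (Units.coeHom (Matrix (Fin m ⊕ Fin m) (Fin m ⊕ Fin m) F)) (fun u v => Cfsg.quadFormPlus m F (u + v) - Cfsg.quadFormPlus m F u - Cfsg.quadFormPlus m F v), g * ((t : ↥(Cfsg.isometryGroup F (Cfsg.quadFormPlus m F))) : GL (Fin m ⊕ Fin m) F) * g⁻¹ = ((s : ↥(Cfsg.isometryGroup F (Cfsg.quadFormPlus m F))) : GL (Fin m ⊕ Fin m) F) := by
  exact S2168aux.main t s ht hs

end Cfsg.Agent.S2168
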