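import Cfsg.Statements.S2169
import Mathlib
import Cfsg.Agent.S0832
import Cfsg.Agent.Lib.Helper5.DicksonRank

set_option autoImplicit false
open Cfsg

namespace Cfsg.Agent.S2169

section Aux
set_option linter.unusedSectionVars false
set_option linter.unusedVariables false
set_option linter.unusedSimpArgs false
namespace S2169aux
open Cfsg Cfsg.Agent.S0832.S0832aux Cfsg.Agent.Lib.Helper5.DicksonRank

theorem main {F : Type*} [Field F] [Fintype F] [CharP F 2] {m : ℕ} (hm : 4 ≤ m)
    (t : ↥(Cfsg.isometryGroup F (Cfsg.quadFormPlus m F))) :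
    t ∈ Cfsg.Omega F (Cfsg.quadFormPlus m F) ↔ Even ((((t : ↥(Cfsg.isometryGroup F (Cfsg.quadFormPlus m F))) : GL (Fin m ⊕ Fin m) F) : Matrix (Fin m ⊕ Fin m) (Fin m ⊕ Fin m) F) - 1).rank :=
  mem_omega_iff_even_rank (plusQ F m) (plusQ_nondeg m)
    (Or.inr (by rw [Fintype.card_sum, Fintype.card_fin]; omega)) _
    (funext (fun x => plusQ_apply m x)) t

end S2169aux
end Aux

/-- For the hyperbolic quadratic form Σ x_i y_i in dimension 2m over a finite field F of characteristic two, m ≥ 4 (plus type): an element of order 2 of the full isometry group O lies in the commutator subgroup Ω of O exactly when t − 1 has even rank. -/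
theorem result {F : Type*} [Field F] [Fintype F] [CharP F 2] {m : ℕ} (hm : 4 ≤ m) (t : ↥(Cfsg.isometryGroup F (Cfsg.quadFormPlus m F))) (ht : orderOf t = 2) :
    t ∈ Cfsg.Omega F (Cfsg.quadFormPlus m F) ↔ Even ((((t : ↥(Cfsg.isometryGroup F (Cfsg.quadFormPlus m F))) : GL (Fin m ⊕ Fin m) F) : Matrix (Fin m ⊕ Fin m) (Fin m ⊕ Fin m) F) - 1).rank := by
  exact S2169aux.main hm t

end Cfsg.Agent.S2169
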