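import Cfsg.Statements.S2173
import Mathlib
import Cfsg.Agent.Lib.Helper5.OrthStd
import Cfsg.Agent.Lib.Helper5.OmegaInvSplit

set_option autoImplicit false
open Cfsg

namespace Cfsg.Agent.S2173

section Aux
set_option linter.unusedSectionVars false
set_option linter.unusedVariables false
set_option linter.unusedSimpArgs false
namespace S2173aux
open Cfsg Cfsg.Agent.Lib.Helper5.OrthStd Cfsg.Agent.Lib.Helper5.OmegaInvSplit

theorem main {F : Type*} [Field F] [Fintype F] [CharP F 2] (k : ℕ) (hk : 3 ≤ k) (c d : F)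
    (hcd : ∀ z₁ z₂ : F, z₁ ^ 2 + c * z₁ * z₂ + d * z₂ ^ 2 = 0 → z₁ = 0 ∧ z₂ = 0)
    (t s : ↥(Cfsg.isometryGroup F (Cfsg.quadFormMinus k F c d))) (ht : orderOf t = 2)
    (hconj : IsConj t s) :
    ∃ g ∈ Cfsg.Omega F (Cfsg.quadFormMinus k F c d), g * t * g⁻¹ = s :=
  conj_in_omega_of_bound (minusQ F k c d) (minusQ_nondeg k c d hcd)
    (Or.inr (by simp only [Fintype.card_sum, Fintype.card_fin]; omega)) k
    (fun U hU => minus_ts k c d hcd U hU)
    (by simp only [Fintype.card_sum, Fintype.card_fin]; omega) _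
    (funext (fun x => minusQ_apply k c d x)) t s ht hconj

end S2173aux
end Aux

/-- For the quadratic form Σ x_i y_i + (z₁² + c z₁ z₂ + d z₂²) in dimension 2m with anisotropic binary part over a finite field F of characteristic two, m ≥ 4 (minus type): two involutions of the commutator subgroup Ω that are conjugate in the full isometry group O are conjugate by an element of Ω (no class of involutions of O inside Ω splits). -/
theorem result {F : Type*} [Field F] [Fintype F] [CharP F 2] {m : ℕ} (hm : 4 ≤ m) (c d : F) (hcd : ∀ z₁ z₂ : F, z₁ ^ 2 + c * z₁ * z₂ + d * z₂ ^ 2 = 0 → z₁ = 0 ∧ z₂ = 0) (t s : ↥(Cfsg.isometryGroup F (Cfsg.quadFormMinus (m - 1) F c d))) (ht : orderOf t = 2) (hs : orderOf s = 2) (htO : t ∈ Cfsg.Omega F (Cfsg.quadFormMinus (m - 1) F c d)) (hsO : s ∈ Cfsg.Omega F (Cfsg.quadFormMinus (m - 1) F c d)) (hconj : IsConj t s) :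
    ∃ g ∈ Cfsg.Omega F (Cfsg.quadFormMinus (m - 1) F c d), g * t * g⁻¹ = s := by
  exact S2173aux.main (m - 1) (by omega) c d hcd t s ht hconj

end Cfsg.Agent.S2173
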