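import Cfsg.Statements.S2175
import Cfsg.Agent.Lib.Helper25.E6InvMain

set_option autoImplicit false
open Cfsg

namespace Cfsg.Agent.S2175

open Cfsg.Lie Cfsg.Agent.Lib.Helper7 Cfsg.Agent.Lib.Helper25.ChInv Cfsg.Agent.Lib.Helper25.E6Inv in
/-- the matrices of the statement are those of the representatives -/
theorem mem_repMats_iff {F : Type*} [Field F] (y : GL chevE6.Idx F) :
    (y : Matrix chevE6.Idx chevE6.Idx F) ∈ [chevE6.x F 71 1, chevE6.x F 68 1 * chevE6.x F 66 1,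
      chevE6.x F 55 1 * chevE6.x F 65 1 * chevE6.x F 67 1] ↔
      ∃ R ∈ repsL, y = wordGL chevE6 mem_E6 F (ones F R) := by
  have e1 : wordGL chevE6 mem_E6 F (ones F [71]) = xGL chevE6 mem_E6 F 71 1 := by
    unfold ones wordGL; simp
  have e2 : wordGL chevE6 mem_E6 F (ones F [68, 66]) =
      xGL chevE6 mem_E6 F 68 1 * xGL chevE6 mem_E6 F 66 1 := by
    unfold ones wordGL; simp
  have e3 : wordGL chevE6 mem_E6 F (ones F [55, 65, 67]) =
      xGL chevE6 mem_E6 F 55 1 * xGL chevE6 mem_E6 F 65 1 * xGL chevE6 mem_E6 F 67 1 := by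
    unfold ones wordGL; simp [mul_assoc]
  unfold repsL
  simp only [List.mem_cons, List.not_mem_nil, or_false, exists_eq_or_imp, exists_eq_left]
  rw [e1, e2, e3]
  constructor
  · rintro (h | h | h)
    · left; exact Units.ext h
    · right; left; exact Units.ext h
    · right; right; exact Units.ext h
  · rintro (h | h | h)
    · left; rw [h]; rfl
    · right; left; rw [h]; rfl
    · right; right; rw [h]; rfl

/-- Conjugacy classes of involutions in the Chevalley group of type E₆ over a finite field F of characteristic two (the matrix group generated by the root elements x_r(t)). In this problem's root numbering for type E₆ (the Chevalley data module; fundamental roots numbered so that p₁–p₃–p₄–p₅–p₆ is the long chain of the diagram and p₂ is joined to p₄; roots indexed by their coefficient vectors in increasing order) let r = 71 be the highest root (1,2,2,3,2,1), α = 68 = (1,1,2,2,1,1), β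 = 66 = (1,1,1,2,2,1), γ = 55 = (0,1,1,2,2,1), δ = 65 = (1,1,1,2,1,1), ε = 67 = (1,1,2,2,1,0) (α ⊥ β and γ, δ, ε pairwise orthogonal); consider x_r(1), x_α(1)x_β(1) and x_γ(1)x_δ(1)x_ε(1). Then: each invertible matrix equal to one of these three products lies in the group and has order 2; every element of order 2 of the group is conjugate in the group to one of them; and no two of them are conjugate in the group (so, the three matrices being distinct, the group has exactly three conjugacy classes of involutions). -/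
theorem result {F : Type*} [Field F] [Fintype F] [CharP F 2] :
    (∀ y : GL Cfsg.Lie.chevE6.Idx F, ((y : GL Cfsg.Lie.chevE6.Idx F) : Matrix Cfsg.Lie.chevE6.Idx Cfsg.Lie.chevE6.Idx F) ∈ [Cfsg.Lie.chevE6.x F 71 1, Cfsg.Lie.chevE6.x F 68 1 * Cfsg.Lie.chevE6.x F 66 1, Cfsg.Lie.chevE6.x F 55 1 * Cfsg.Lie.chevE6.x F 65 1 * Cfsg.Lie.chevE6.x F 67 1] → y ∈ Cfsg.Lie.chevE6.group F ∧ orderOf y = 2) ∧
    (∀ g ∈ Cfsg.Lie.chevE6.group F, orderOf g = 2 → ∃ y ∈ Cfsg.Lie.chevE6.group F, ((y : GL Cfsg.Lie.chevE6.Idx F) : Matrix Cfsg.Lie.chevE6.Idx Cfsg.Lie.chevE6.Idx F) ∈ [Cfsg.Lie.chevE6.x F 71 1, Cfsg.Lie.chevE6.x F 68 1 * Cfsg.Lie.chevE6.x F 66 1, Cfsg.Lie.chevE6.x F 55 1 * Cfsg.Lie.chevE6.x F 65 1 * Cfsg.Lie.chevE6.x F 67 1] ∧ ∃ h ∈ Cfsg.Lie.chevE6.group F, h * g * h⁻¹ = y) ∧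
    (∀ y₁ ∈ Cfsg.Lie.chevE6.group F, ∀ y₂ ∈ Cfsg.Lie.chevE6.group F, ((y₁ : GL Cfsg.Lie.chevE6.Idx F) : Matrix Cfsg.Lie.chevE6.Idx Cfsg.Lie.chevE6.Idx F) ∈ [Cfsg.Lie.chevE6.x F 71 1, Cfsg.Lie.chevE6.x F 68 1 * Cfsg.Lie.chevE6.x F 66 1, Cfsg.Lie.chevE6.x F 55 1 * Cfsg.Lie.chevE6.x F 65 1 * Cfsg.Lie.chevE6.x F 67 1] → ((y₂ : GL Cfsg.Lie.chevE6.Idx F) : Matrix Cfsg.Lie.chevE6.Idx Cfsg.Lie.chevE6.Idx F) ∈ [Cfsg.Lie.chevE6.x F 71 1, Cfsg.Lie.chevE6.x F 68 1 * Cfsg.Lie.chevE6.x F 66 1, Cfsg.Lie.chevE6.x F 55 1 * Cfsg.Lie.chevE6.x F 65 1 * Cfsg.Lie.chevE6.x F 67 1] →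
      (∃ h ∈ Cfsg.Lie.chevE6.group F, h * y₁ * h⁻¹ = y₂) → ((y₁ : GL Cfsg.Lie.chevE6.Idx F) : Matrix Cfsg.Lie.chevE6.Idx Cfsg.Lie.chevE6.Idx F) = ((y₂ : GL Cfsg.Lie.chevE6.Idx F) : Matrix Cfsg.Lie.chevE6.Idx Cfsg.Lie.chevE6.Idx F)) := by
  open Cfsg.Lie Cfsg.Agent.Lib.Helper7 Cfsg.Agent.Lib.Helper25.ChInv Cfsg.Agent.Lib.Helper25.E6Inv in
  refine ⟨?_, ?_, ?_⟩
  · intro y hy
    obtain ⟨R, hR, rfl⟩ := (mem_repMats_iff y).1 hy
    exact rep_order F R hR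
  · intro g hg hord
    obtain ⟨R, hR, h, hh, heq⟩ := invol_conj F g hg hord
    refine ⟨wordGL chevE6 mem_E6 F (ones F R), wordGL_mem_group chevE6 mem_E6 F _, ?_, h, hh, heq⟩
    exact (mem_repMats_iff _).2 ⟨R, hR, rfl⟩
  · intro y₁ _ y₂ _ h1 h2 hc
    obtain ⟨R₁, hR₁, rfl⟩ := (mem_repMats_iff y₁).1 h1
    obtain ⟨R₂, hR₂, rfl⟩ := (mem_repMats_iff y₂).1 h2
    obtain ⟨h, -, hc⟩ := hc
    rw [no_conj F R₁ R₂ hR₁ hR₂ h hc]

end Cfsg.Agent.S2175
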