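import Cfsg.Statements.S2176
import Cfsg.Agent.Lib.Helper25.E8InvMain

set_option autoImplicit false
open Cfsg

namespace Cfsg.Agent.S2176

open Cfsg.Lie Cfsg.Agent.Lib.Helper7 Cfsg.Agent.Lib.Helper25.ChInv Cfsg.Agent.Lib.Helper25.E8Inv in
/-- the matrices of the statement are those of the representatives -/
theorem mem_repMats_iff {F : Type*} [Field F] (y : GL chevE8.Idx F) :
    (y : Matrix chevE8.Idx chevE8.Idx F) ∈ [chevE8.x F 239 1, chevE8.x F 232 1 * chevE8.x F 233 1,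
      chevE8.x F 228 1 * chevE8.x F 222 1 * chevE8.x F 218 1,
      chevE8.x F 226 1 * chevE8.x F 220 1 * chevE8.x F 213 1 * chevE8.x F 216 1] ↔
      ∃ R ∈ repsL, y = wordGL chevE8 mem_E8 F (ones F R) := by
  have e1 : wordGL chevE8 mem_E8 F (ones F [239]) = xGL chevE8 mem_E8 F 239 1 := by
    unfold ones wordGL; simp
  have e2 : wordGL chevE8 mem_E8 F (ones F [232, 233]) =
      xGL chevE8 mem_E8 F 232 1 * xGL chevE8 mem_E8 F 233 1 := by
    unfold ones wordGL; simp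
  have e3 : wordGL chevE8 mem_E8 F (ones F [228, 222, 218]) =
      xGL chevE8 mem_E8 F 228 1 * xGL chevE8 mem_E8 F 222 1 * xGL chevE8 mem_E8 F 218 1 := by
    unfold ones wordGL; simp [mul_assoc]
  have e4 : wordGL chevE8 mem_E8 F (ones F [226, 220, 213, 216]) =
      xGL chevE8 mem_E8 F 226 1 * xGL chevE8 mem_E8 F 220 1 * xGL chevE8 mem_E8 F 213 1 *
        xGL chevE8 mem_E8 F 216 1 := by
    unfold ones wordGL; simp [mul_assoc]
  unfold repsL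
  simp only [List.mem_cons, List.not_mem_nil, or_false, exists_eq_or_imp, exists_eq_left]
  rw [e1, e2, e3, e4]
  constructor
  · rintro (h | h | h | h)
    · left; exact Units.ext h
    · right; left; exact Units.ext h
    · right; right; left; exact Units.ext h
    · right; right; right; exact Units.ext h
  · rintro (h | h | h | h)
    · left; rw [h]; rfl
    · right; left; rw [h]; rfl
    · right; right; left; rw [h]; rfl
    · right; right; right; rw [h]; rfl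

/-- Conjugacy classes of involutions in the Chevalley group of type E₈ over a finite field F of characteristic two (the matrix group generated by the root elements x_r(t)). In this problem's root numbering for type E₈ (the Chevalley data module; fundamental roots numbered so that p₁–p₃–p₄–p₅–p₆–p₇–p₈ is the long chain of the diagram and p₂ is joined to p₄; roots indexed by their coefficient vectors in increasing order) let r = 239 be the highest root (2,3,4,6,5,4,3,2), α = 232 = (2,2,4,5,4,3,2,1), β = 233 = (2,3,3,5,4,3,2,1), γ = 228 = (2,2,3,4,3,2,2,1), δ = 222 = (1,2,3,4,3,3,2,1), ε = 218 = (1,2,2,4,4,3,2,1), φ = 226 = (2,2,3,4,3,2,1,0), ψ = 220 = (1,2,3,4,3,2,1,1), θ = 213 = (1,2,2,3,3,3,2,1), ω = 216 = (1,2,2,4,3,2,2,1) (the roots within each of {α, β}, {γ, δ, ε}, {φ, ψ, θ, ω} pairwise orthogonal); consider x_r(1), x_α(1)x_β(1), x_γ(1)x_δ(1)x_ε(1) and x_φ(1)x_ψ(1)x_θ(1)x_ω(1).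 Then: each invertible matrix equal to one of these four products lies in the group and has order 2; every element of order 2 of the group is conjugate in the group to one of them; and no two of them are conjugate in the group (so, the four matrices being distinct, the group has exactly four conjugacy classes of involutions). -/
theorem result {F : Type*} [Field F] [Fintype F] [CharP F 2] :
    (∀ y : GL Cfsg.Lie.chevE8.Idx F, ((y : GL Cfsg.Lie.chevE8.Idx F) : Matrix Cfsg.Lie.chevE8.Idx Cfsg.Lie.chevE8.Idx F) ∈ [Cfsg.Lie.chevE8.x F 239 1, Cfsg.Lie.chevE8.x F 232 1 * Cfsg.Lie.chevE8.x F 233 1, Cfsg.Lie.chevE8.x F 228 1 * Cfsg.Lie.chevE8.x F 222 1 * Cfsg.Lie.chevE8.x F 218 1, Cfsg.Lie.chevE8.x F 226 1 * Cfsg.Lie.chevE8.x F 220 1 * Cfsg.Lie.chevE8.x F 213 1 * Cfsg.Lie.chevE8.x F 216 1] → y ∈ Cfsg.Lie.chevE8.group F ∧ orderOf y = 2) ∧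
    (∀ g ∈ Cfsg.Lie.chevE8.group F, orderOf g = 2 → ∃ y ∈ Cfsg.Lie.chevE8.group F, ((y : GL Cfsg.Lie.chevE8.Idx F) : Matrix Cfsg.Lie.chevE8.Idx Cfsg.Lie.chevE8.Idx F) ∈ [Cfsg.Lie.chevE8.x F 239 1, Cfsg.Lie.chevE8.x F 232 1 * Cfsg.Lie.chevE8.x F 233 1, Cfsg.Lie.chevE8.x F 228 1 * Cfsg.Lie.chevE8.x F 222 1 * Cfsg.Lie.chevE8.x F 218 1, Cfsg.Lie.chevE8.x F 226 1 * Cfsg.Lie.chevE8.x F 220 1 * Cfsg.Lie.chevE8.x F 213 1 * Cfsg.Lie.chevE8.x F 216 1] ∧ ∃ h ∈ Cfsg.Lie.chevE8.group F, h * g * h⁻¹ = y) ∧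
    (∀ y₁ ∈ Cfsg.Lie.chevE8.group F, ∀ y₂ ∈ Cfsg.Lie.chevE8.group F, ((y₁ : GL Cfsg.Lie.chevE8.Idx F) : Matrix Cfsg.Lie.chevE8.Idx Cfsg.Lie.chevE8.Idx F) ∈ [Cfsg.Lie.chevE8.x F 239 1, Cfsg.Lie.chevE8.x F 232 1 * Cfsg.Lie.chevE8.x F 233 1, Cfsg.Lie.chevE8.x F 228 1 * Cfsg.Lie.chevE8.x F 222 1 * Cfsg.Lie.chevE8.x F 218 1, Cfsg.Lie.chevE8.x F 226 1 * Cfsg.Lie.chevE8.x F 220 1 * Cfsg.Lie.chevE8.x F 213 1 * Cfsg.Lie.chevE8.x F 216 1] → ((y₂ : GL Cfsg.Lie.chevE8.Idx F) : Matrix Cfsg.Lie.chevE8.Idx Cfsg.Lie.chevE8.Idx F) ∈ [Cfsg.Lie.chevE8.x F 239 1, Cfsg.Lie.chevE8.x F 232 1 * Cfsg.Lie.chevE8.x F 233 1, Cfsg.Lie.chevE8.x F 228 1 * Cfsg.Lie.chevE8.x F 222 1 * Cfsg.Lie.chevE8.x F 218 1, Cfsg.Lie.chevE8.x F 226 1 * Cfsg.Lie.chevE8.x F 220 1 * Cfsg.Lie.chevE8.x F 213 1 * Cfsg.Lie.chevE8.x F 216 1] →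
      (∃ h ∈ Cfsg.Lie.chevE8.group F, h * y₁ * h⁻¹ = y₂) → ((y₁ : GL Cfsg.Lie.chevE8.Idx F) : Matrix Cfsg.Lie.chevE8.Idx Cfsg.Lie.chevE8.Idx F) = ((y₂ : GL Cfsg.Lie.chevE8.Idx F) : Matrix Cfsg.Lie.chevE8.Idx Cfsg.Lie.chevE8.Idx F)) := by
  open Cfsg.Lie Cfsg.Agent.Lib.Helper7 Cfsg.Agent.Lib.Helper25.ChInv Cfsg.Agent.Lib.Helper25.E8Inv in
  refine ⟨?_, ?_, ?_⟩
  · intro y hy
    obtain ⟨R, hR, rfl⟩ := (mem_repMats_iff y).1 hy
    exact rep_order F R hR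
  · intro g hg hord
    obtain ⟨R, hR, h, hh, heq⟩ := invol_conj F g hg hord
    refine ⟨wordGL chevE8 mem_E8 F (ones F R), wordGL_mem_group chevE8 mem_E8 F _, ?_, h, hh, heq⟩
    exact (mem_repMats_iff _).2 ⟨R, hR, rfl⟩
  · intro y₁ _ y₂ _ h1 h2 hc
    obtain ⟨R₁, hR₁, rfl⟩ := (mem_repMats_iff y₁).1 h1
    obtain ⟨R₂, hR₂, rfl⟩ := (mem_repMats_iff y₂).1 h2
    obtain ⟨h, -, hc⟩ := hc
    rw [no_conj F R₁ R₂ hR₁ hR₂ h hc]

end Cfsg.Agent.S2176
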