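import Cfsg.Statements.S2181
import Cfsg.Agent.Lib.Helper25.E7InvMain

set_option autoImplicit false
open Cfsg

namespace Cfsg.Agent.S2181

/-- The Chevalley group of type E₇ over a finite field of characteristic two (the matrix group generated by the root elements) has exactly five conjugacy classes of elements of order 2. -/
theorem result {F : Type*} [Field F] [Fintype F] [CharP F 2] :
    (ConjClasses.mk '' {g : ↥(Cfsg.Lie.chevE7.group F) | orderOf g = 2}).ncard = 5 := by
  open Cfsg.Lie Cfsg.Agent.Lib.Helper7 Cfsg.Agent.Lib.Helper25.ChInv Cfsg.Agent.Lib.Helper25.E7Inv in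
  classical
  let y : List ℕ → ↥(chevE7.group F) := fun R =>
    ⟨wordGL chevE7 mem_E7 F (ones F R), wordGL_mem_group chevE7 mem_E7 F _⟩
  have hS : ConjClasses.mk '' {g : ↥(chevE7.group F) | orderOf g = 2} =
      (fun R => ConjClasses.mk (y R)) '' {R | R ∈ repsL} := by
    ext c
    constructor
    · rintro ⟨g, hg, rfl⟩
      have hord : orderOf (g : GL chevE7.Idx F) = 2 := by
        rw [Subgroup.orderOf_coe]; exact hg
      obtain ⟨R, hR, h, hh, hc⟩ := invol_conj F g g.2 hord
      refine ⟨R, hR, ?_⟩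
      show ConjClasses.mk (y R) = ConjClasses.mk g
      rw [ConjClasses.mk_eq_mk_iff_isConj, isConj_comm, isConj_iff]
      exact ⟨⟨h, hh⟩, Subtype.ext hc⟩
    · rintro ⟨R, hR, rfl⟩
      refine ⟨y R, ?_, rfl⟩
      show orderOf (y R) = 2
      rw [← Subgroup.orderOf_coe]
      exact (rep_order F R hR).2
  rw [hS, Set.InjOn.ncard_image]
  · have e : {R | R ∈ repsL} = ((repsL.toFinset : Finset (List ℕ)) : Set (List ℕ)) := by
      ext R; simp
    rw [e, Set.ncard_coe_finset]
    decide
  · intro R₁ h1 R₂ h2 heq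
    have heq' : ConjClasses.mk (y R₁) = ConjClasses.mk (y R₂) := heq
    rw [ConjClasses.mk_eq_mk_iff_isConj, isConj_iff] at heq'
    obtain ⟨c, hc⟩ := heq'
    exact no_conj F R₁ R₂ h1 h2 c.1 (congrArg Subtype.val hc)

end Cfsg.Agent.S2181
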