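import Cfsg.Statements.S2182
import Cfsg.Agent.Lib.Helper7.TwE6Main
-- import your own Cfsg.Agent.* helpers here

set_option autoImplicit false
open Cfsg

namespace Cfsg.Agent.S2182

/-- The twisted group ²E₆(q), q even, realised inside the Chevalley group of type E₆ over the field K with q² elements, has exactly three conjugacy classes of elements of order 2. -/
theorem result {K : Type*} [Field K] [Fintype K] [CharP K 2] (q : ℕ) (hK : Fintype.card K = q ^ 2) :
    (ConjClasses.mk '' {g : ↥(Cfsg.Lie.twistedE6 K q) | orderOf g = 2}).ncard = 3 := by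
  have hp2 : Fact (Nat.Prime 2) := ⟨Nat.prime_two⟩
  obtain ⟨n, -, hn⟩ := FiniteField.card K 2
  have hdvd : q ∣ 2 ^ (n : ℕ) := by
    rw [← hn, hK]
    exact dvd_pow_self q (by norm_num)
  obtain ⟨j, -, hq⟩ := (Nat.dvd_prime_pow Nat.prime_two).mp hdvd
  have hj : 1 ≤ j := by
    rcases Nat.eq_zero_or_pos j with h0 | h0
    · exfalso
      rw [h0, pow_zero] at hq
      rw [hq, one_pow] at hK
      have := Fintype.one_lt_card (α := K)
      omega
    · exact h0
  have hqpp : IsPrimePow q := by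
    rw [hq]
    exact Nat.Prime.isPrimePow Nat.prime_two |>.pow (by omega)
  have hq2 : 2 ≤ q := by
    rw [hq]
    calc 2 = 2 ^ 1 := (pow_one 2).symm
      _ ≤ 2 ^ j := Nat.pow_le_pow_right (by norm_num) hj
  obtain ⟨φ, hφ, hiter, hfix, hG⟩ := Cfsg.Agent.Lib.Helper7.twistedE6_eq K q hqpp hK
  have hne : ∃ a : K, φ a ≠ a := by
    by_contra hcon
    push Not at hcon
    have e : Nat.card {a : K // φ a = a} = Nat.card K :=
      Nat.card_congr (Equiv.subtypeUnivEquiv hcon)
    rw [hfix, Nat.card_eq_fintype_card, hK] at e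
    have : q * 1 = q * q := by rw [mul_one, ← sq]; exact e
    have h1 := Nat.eq_of_mul_eq_mul_left (by omega) this
    omega
  have key : ∀ H : Subgroup (GL Cfsg.Lie.chevE6.Idx K),
      H = Cfsg.Lie.chevE6.genSubgroup K (Cfsg.Agent.Lib.Helper7.twWords K φ
        [Cfsg.Lie.e6p2, Cfsg.Lie.e6m2, Cfsg.Lie.e6p4, Cfsg.Lie.e6m4]
        [(Cfsg.Lie.e6p1, Cfsg.Lie.e6p6), (Cfsg.Lie.e6m1, Cfsg.Lie.e6m6), (Cfsg.Lie.e6p3, Cfsg.Lie.e6p5),
          (Cfsg.Lie.e6m3, Cfsg.Lie.e6m5)] []) →
      (ConjClasses.mk '' {g : ↥H | orderOf g = 2}).ncard = 3 := by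
    intro H hH
    subst hH
    exact Cfsg.Agent.Lib.Helper7.TwE6.e6tw_invol_ncard K φ hiter hne
  exact key _ hG

end Cfsg.Agent.S2182
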