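import Cfsg.Statements.S2183
import Cfsg.Agent.Lib.Helper7.D4Inv2
import Cfsg.Agent.Lib.Helper7.ChevTwistD4
-- import your own Cfsg.Agent.* helpers here

set_option autoImplicit false
open Cfsg

namespace Cfsg.Agent.S2183

/-- The twisted group ³D₄(q), q even, realised inside the Chevalley group of type D₄ over the field K with q³ elements, has exactly two conjugacy classes of elements of order 2. -/
theorem result {K : Type*} [Field K] [Fintype K] [CharP K 2] (q : ℕ) (hK : Fintype.card K = q ^ 3) :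
    (ConjClasses.mk '' {g : ↥(Cfsg.Lie.twistedD4 K q) | orderOf g = 2}).ncard = 2 := by
  have hp2 : Fact (Nat.Prime 2) := ⟨Nat.prime_two⟩
  obtain ⟨n, -, hn⟩ := FiniteField.card K 2
  have hdvd : q ∣ 2 ^ (n : ℕ) := by
    rw [← hn, hK]
    exact dvd_pow_self q (by norm_num)
  obtain ⟨j, -, hq⟩ := (Nat.dvd_prime_pow Nat.prime_two).mp hdvd
  have hj : 1 ≤ j := by
    rcases Nat.eq_zero_or_pos j with h0 | h0
    · exfalso
      rw [h0, pow_zero] at hq
      rw [hq, one_pow] at hK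
      have := Fintype.one_lt_card (α := K)
      omega
    · exact h0
  have hqpp : IsPrimePow q := by
    rw [hq]
    exact Nat.Prime.isPrimePow Nat.prime_two |>.pow (by omega)
  obtain ⟨φ, hφ, hiter, hfix, hG⟩ := Cfsg.Agent.Lib.Helper7.twistedD4_eq K q hqpp hK
  have hφ3 : ∀ a : K, φ (φ (φ a)) = a := fun a => hiter a
  have key : ∀ H : Subgroup (GL Cfsg.Lie.chevD4.Idx K),
      H = Cfsg.Lie.chevD4.genSubgroup K (Cfsg.Agent.Lib.Helper7.twWords K φ [Cfsg.Lie.d4p2, Cfsg.Lie.d4m2] []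
        [(Cfsg.Lie.d4p1, Cfsg.Lie.d4p3, Cfsg.Lie.d4p4), (Cfsg.Lie.d4m1, Cfsg.Lie.d4m3, Cfsg.Lie.d4m4)]) →
      (ConjClasses.mk '' {g : ↥H | orderOf g = 2}).ncard = 2 := by
    intro H hH
    subst hH
    exact Cfsg.Agent.Lib.Helper7.D4Inv.d4_invol_ncard K φ hφ3 q j hj hq hK hiter hfix
  exact key _ hG

end Cfsg.Agent.S2183
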