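import Cfsg.Statements.S2202
import Cfsg.Agent.Lib.Helper8.AbInvO

set_option autoImplicit false
open Cfsg

namespace Cfsg.Agent.S2202

open Cfsg.Agent.Lib.Helper8.AbInv

/-- Finite groups in which the centralizer of every involution is abelian. Let G be a finite group of even order in which the centralizer of every element of order 2 is abelian. Then the Sylow 2-subgroups of G are cyclic, or a Sylow 2-subgroup of G is normal, or G is isomorphic to the direct product of SL₂(F) for a finite field F of characteristic two and an abelian group of odd order. -/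
theorem result {G : Type*} [Group G] [Finite G] (heven : Even (Nat.card G)) (h : ∀ t : G, orderOf t = 2 → IsMulCommutative ↥(Subgroup.centralizer ({t} : Set G))) :
    (∀ P : Sylow 2 G, IsCyclic ↥P) ∨ (∀ P : Sylow 2 G, (P : Subgroup G).Normal) ∨
    (∃ (F : Type) (_ : Field F) (_ : Fintype F) (A : Type) (_ : CommGroup A) (_ : Finite A), CharP F 2 ∧ Odd (Nat.card A) ∧ Nonempty (G ≃* Matrix.SpecialLinearGroup (Fin 2) F × A)) := by
  have hab := abHyp_of_isMulCommutative h
  rcases abInv_main (Nat.card G) G rfl hab heven with hcyc | hnor | hS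
  · left
    intro P
    exact hcyc P
  · right; left
    exact hnor
  · right; right
    obtain ⟨-, F, hF1, hF2, hchar, -, L, A, hAc, hinf, hsup, hAodd, -, ⟨e⟩⟩ := hS
    letI instA : CommGroup ↥A := { (inferInstance : Group ↥A) with
      mul_comm := fun a b => Subtype.ext (Subgroup.mem_center_iff.mp (hAc b.2) a.1) }
    refine ⟨F, hF1, hF2, Shrink.{0} ↥A, inferInstance, Finite.of_equiv _ (equivShrink.{0} ↥A), hchar,
      ?_, ?_⟩
    · rw [Nat.card_congr (equivShrink.{0} ↥A).symm]; exact hAodd
    · exact ⟨(prodEquiv L A hAc hinf hsup).trans (MulEquiv.prodCongr e (Shrink.mulEquiv.{0}).symm)⟩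

end Cfsg.Agent.S2202
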