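import Cfsg.Statements.S2214
import Cfsg.Agent.Lib.Lead.ChevCentD

set_option autoImplicit false
open Cfsg

namespace Cfsg.Agent.S2214

/-- Let k be an algebraically closed field of prime characteristic p, G the adjoint Chevalley group of type G₂, B₂, D₄, F₄, E₆, E₇ or E₈ over k (the matrix group generated by the root elements x_s(t), t ∈ k, acting on the Lie algebra), q = p^a with a ≥ 1, and K a subgroup of G containing every root element x_s(t) with t^q = t and consisting of matrices all of whose entries c satisfy c^q = c. Then the centralizer of K in G is trivial, and the normalizer of K in G is exactly the set of elements of G all of whose entries c satisfy c^q = c. -/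
theorem result {k : Type*} [Field k] [IsAlgClosed k] (p : ℕ) [Fact p.Prime] [CharP k p] (D : Cfsg.Lie.ChevalleyDatum) (hD : D ∈ [Cfsg.Lie.chevG2, Cfsg.Lie.chevB2, Cfsg.Lie.chevD4, Cfsg.Lie.chevF4, Cfsg.Lie.chevE6, Cfsg.Lie.chevE7, Cfsg.Lie.chevE8]) (a : ℕ) (ha : 1 ≤ a) (K : Subgroup (GL D.Idx k)) (hKG : K ≤ D.group k)
    (hLK : Subgroup.closure {g : GL D.Idx k | ∃ (s : ℕ) (t : k), t ^ (p ^ a) = t ∧ (g : Matrix D.Idx D.Idx k) = D.x k s t} ≤ K)
    (hKfix : ∀ g ∈ K, ∀ i j : D.Idx, ((g : Matrix D.Idx D.Idx k) i j) ^ (p ^ a) = (g : Matrix D.Idx D.Idx k) i j) :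
    D.group k ⊓ Subgroup.centralizer (K : Set (GL D.Idx k)) = ⊥ ∧
    ∀ g : GL D.Idx k, g ∈ D.group k → (g ∈ Subgroup.normalizer (K : Set (GL D.Idx k)) ↔ ∀ i j : D.Idx, ((g : Matrix D.Idx D.Idx k) i j) ^ (p ^ a) = (g : Matrix D.Idx D.Idx k) i j) := by
  classical
  have : ExpChar k p := ExpChar.prime (Fact.out : p.Prime)
  let σ : k ≃+* k := iterateFrobeniusEquiv k p a
  have hσ : ∀ x : k, σ x = x ^ p ^ a := fun x => iterateFrobeniusEquiv_def k p a x
  let F₀ : Subfield k := RingHom.eqLocusField (σ : k →+* k) (RingHom.id k)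
  let ι : ↥F₀ →+* k := F₀.subtype
  have hι : ∀ c : k, σ c = c → c ∈ Set.range ι := fun c hc => ⟨⟨c, hc⟩, rfl⟩
  have hιfix : ∀ t : ↥F₀, (ι t) ^ p ^ a = ι t := by
    intro t
    have := t.2
    rw [← hσ]
    exact this
  have htau : ∀ g : GL D.Idx k, Cfsg.Agent.Lib.Lead.ChevFix.tau D σ g = g ↔
      ∀ i j : D.Idx, ((g : Matrix D.Idx D.Idx k) i j) ^ (p ^ a) = (g : Matrix D.Idx D.Idx k) i j := by
    intro g
    constructor
    · intro h i j
      have h1 : ((Cfsg.Agent.Lib.Lead.ChevFix.tau D σ g : GL D.Idx k) : Matrix D.Idx D.Idx k) i j =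
          (g : Matrix D.Idx D.Idx k) i j := by rw [h]
      rw [Cfsg.Agent.Lib.Lead.ChevFix.glMap_coe] at h1
      rw [← hσ]
      exact h1
    · intro h
      apply Units.ext
      rw [Cfsg.Agent.Lib.Lead.ChevFix.glMap_coe]
      ext i j
      rw [Matrix.map_apply]
      show σ _ = _
      rw [hσ]
      exact h i j
  have hK0 : Cfsg.Agent.Lib.Lead.ChevFix.G0 D ι ≤ K := by
    rw [Cfsg.Agent.Lib.Lead.ChevCent.G0_eq_closure D hD ι]
    refine le_trans (Subgroup.closure_mono ?_) hLK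
    rintro g ⟨r, t, _, rfl⟩
    exact ⟨r, ι t, hιfix t, Cfsg.Agent.Lib.Helper7.coe_xGL D hD k r _⟩
  have hKfix' : ∀ x ∈ K, Cfsg.Agent.Lib.Lead.ChevFix.tau D σ x = x :=
    fun x hx => (htau x).mpr (hKfix x hx)
  obtain ⟨h1, h2⟩ := Cfsg.Agent.Lib.Lead.ChevCent.cent_norm_main D hD σ ι hι K hKG hK0 hKfix'
  refine ⟨h1, fun g hg => ?_⟩
  rw [h2 g hg, htau]

end Cfsg.Agent.S2214
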