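import Cfsg.Statements.S2222
import Mathlib
import Cfsg.Agent.Lib.Helper20.SylNormH

set_option autoImplicit false
open Cfsg

namespace Cfsg.Agent.S2222

open Cfsg.Agent.Lib.Helper22.Pronormal Cfsg.Agent.Lib.Helper20.SylNorm

/-- a Sylow 2-subgroup inside a subgroup of odd index -/
theorem exists_sylow_le {G : Type*} [Group G] [Finite G] (H : Subgroup G) (hH : Odd H.index) :
    ∃ S : Sylow 2 G, (S : Subgroup G) ≤ H := by
  haveI : Fact (Nat.Prime 2) := ⟨Nat.prime_two⟩
  obtain ⟨Q⟩ : Nonempty (Sylow 2 H) := inferInstance
  have hQ2 : IsPGroup 2 ((Q : Subgroup H).map H.subtype) := Q.2.map _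
  obtain ⟨S, hS⟩ := hQ2.exists_le_sylow
  refine ⟨S, ?_⟩
  have hc1 : Nat.card ((Q : Subgroup H).map H.subtype) = 2 ^ (Nat.card H).factorization 2 := by
    rw [Subgroup.card_subtype, Q.card_eq_multiplicity]
  have hc2 : Nat.card (S : Subgroup G) = 2 ^ (Nat.card G).factorization 2 :=
    S.card_eq_multiplicity
  have hidx : H.index ≠ 0 := fun h => by rw [h] at hH; exact absurd hH (by decide)
  have hfac : (Nat.card G).factorization 2 = (Nat.card H).factorization 2 := by
    rw [← H.card_mul_index, Nat.factorization_mul Nat.card_pos.ne' hidx]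
    simp only [Finsupp.coe_add, Pi.add_apply]
    rw [Nat.factorization_eq_zero_of_not_dvd (fun h => (Nat.not_even_iff_odd.mpr hH)
      (even_iff_two_dvd.mpr h)), add_zero]
  have : (Q : Subgroup H).map H.subtype = (S : Subgroup G) :=
    Subgroup.eq_of_le_of_card_ge hS (by rw [hc1, hc2, hfac])
  rw [← this]
  exact Subgroup.map_subtype_le _

/-- In the alternating group of degree n ≥ 5 every subgroup H of odd index is pronormal: for every element g, the subgroups H and gHg⁻¹ are conjugate by an element of the subgroup they generate. -/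
theorem result (n : ℕ) (hn : 5 ≤ n)
    (H : Subgroup (alternatingGroup (Fin n))) (hH : Odd H.index) : Cfsg.IsPronormal H := by
  haveI : Fact (Nat.Prime 2) := ⟨Nat.prime_two⟩
  obtain ⟨S, hSH⟩ := exists_sylow_le H hH
  have hP : SylIn 2 ((S : Subgroup (alternatingGroup (Fin n))).map
      (alternatingGroup (Fin n)).subtype) (alternatingGroup (Fin n)) := SylIn.of_sylow S
  have hnorm : ∀ g : alternatingGroup (Fin n),
      g ∈ Subgroup.normalizer ((S : Subgroup (alternatingGroup (Fin n))) :
        Set (alternatingGroup (Fin n))) →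
      (g : Equiv.Perm (Fin n)) ∈ Subgroup.normalizer
        (((S : Subgroup (alternatingGroup (Fin n))).map
          (alternatingGroup (Fin n)).subtype : Subgroup (Equiv.Perm (Fin n))) :
            Set (Equiv.Perm (Fin n))) := by
    intro g hg
    exact Subgroup.le_normalizer_map (alternatingGroup (Fin n)).subtype
      (Subgroup.mem_map_of_mem _ hg)
  rcases Nat.lt_or_ge 5 n with h6 | h5
  · refine (pronormal_of_normalizer_le S hSH ?_).1
    intro g hg
    have h1 := alt_normalizer_le (α := Fin n) (by rw [Fintype.card_fin]; omega) _ hP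
      (g : Equiv.Perm (Fin n)) g.2 (hnorm g hg)
    obtain ⟨s, hs, hsg⟩ := Subgroup.mem_map.mp h1
    have : s = g := Subtype.ext hsg
    rw [← this]
    exact hSH hs
  · have h5' : n = 5 := by omega
    subst h5'
    have hc5 : Fintype.card (Fin 5) = 5 := Fintype.card_fin 5
    have h20 : Nat.card (H.map (alternatingGroup (Fin 5)).subtype) ≠ 20 := by
      intro h20
      rw [Subgroup.card_subtype] at h20
      have h60 : Nat.card (alternatingGroup (Fin 5)) = 60 := five_card_alt hc5 _ hP
      have hidx : H.index = 3 := by
        have := H.card_mul_index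
        rw [h20, h60] at this
        omega
      exact no_index_three (alternatingGroup (Fin 5)) H hidx (by rw [h60]; norm_num)
    rcases five_overgroups hc5 _ hP (H.map (alternatingGroup (Fin 5)).subtype)
      (Subgroup.map_mono hSH) (Subgroup.map_subtype_le _) h20 with h | h
    · have : H = S :=
        Subgroup.map_injective (alternatingGroup (Fin 5)).subtype_injective h
      rw [this]
      exact sylow_pronormal S
    · refine (pronormal_of_normalizer_le S hSH ?_).1
      intro g hg
      have h1 := h (g : Equiv.Perm (Fin 5)) g.2 (hnorm g hg)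
      obtain ⟨s, hs, hsg⟩ := Subgroup.mem_map.mp h1
      have : s = g := Subtype.ext hsg
      rw [← this]
      exact hs

end Cfsg.Agent.S2222
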