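import Cfsg.Statements.S2232
import Mathlib
import Cfsg.Agent.Lib.Helper9.SU3Local
import Cfsg.Agent.Lib.Helper9.PClosedE
import Cfsg.Agent.Lib.Helper27.SectionLift

set_option autoImplicit false
open Cfsg

namespace Cfsg.Agent.S2232

section Aux
set_option linter.unusedSectionVars false
set_option linter.unusedVariables false
namespace S2232aux
open Cfsg.Agent.Lib.Helper9.SU3Local Cfsg.Agent.Lib.Helper9.PClosedE
  Cfsg.Agent.Lib.Helper27.SectionLift

theorem main {p : ℕ} [Fact p.Prime] (hp : p ≠ 2) {K : Type*} [Field K] [Fintype K] [CharP K p]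
    (n : ℕ) (hn : 1 ≤ n) (hK : Fintype.card K = (p ^ n) ^ 2) :
    ¬ Cfsg.Involves ↥(Cfsg.qd p) (Cfsg.PSU 3 K (p ^ n)) := by
  classical
  intro hinv
  have h1 : Cfsg.Involves ↥(Cfsg.qd p) ↥(Cfsg.SU 3 K (p ^ n)) :=
    involves_of_surjective (QuotientGroup.mk' (Subgroup.center ↥(Cfsg.SU 3 K (p ^ n))))
      (QuotientGroup.mk'_surjective _) hinv
  obtain ⟨K₁, R, hN, ⟨e⟩⟩ := h1
  have hfin : Finite ↥(Cfsg.SU 3 K (p ^ n)) := inferInstance
  let f : ↥K₁ →* ↥(Cfsg.qd p) := e.toMonoidHom.comp (QuotientGroup.mk' (R.subgroupOf K₁))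
  have hf : Function.Surjective f :=
    e.surjective.comp (QuotientGroup.mk'_surjective _)
  obtain ⟨Q, hQp, hQmap, hQn⟩ :=
    exists_lift_normal_pSubgroup (p := p) f hf (Tp p) (isPGroup_Tp p)
  have hQne : Q ≠ ⊥ := by
    rintro rfl
    rw [Subgroup.map_bot] at hQmap
    exact Tp_ne_bot p hQmap.symm
  set QG : Subgroup ↥(Cfsg.SU 3 K (p ^ n)) := Q.map K₁.subtype with hQG
  have hQGp : IsPGroup p QG := hQp.map _
  have hQGne : QG ≠ ⊥ := by
    intro h0
    exact hQne ((Subgroup.map_eq_bot_iff_of_injective Q K₁.subtype_injective).mp h0)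
  have hle : (Subgroup.normalizer (Q : Set ↥K₁)).map K₁.subtype ≤
      Subgroup.normalizer (QG : Set ↥(Cfsg.SU 3 K (p ^ n))) :=
    Subgroup.le_normalizer_map K₁.subtype
  have hcl : PClosedE p ↥(Subgroup.normalizer (Q : Set ↥K₁)) := by
    rintro x y ⟨kx, hx⟩ ⟨ky, hy⟩
    refine ⟨2, ?_⟩
    have hxN : ((x : ↥K₁) : ↥(Cfsg.SU 3 K (p ^ n))) ∈
        Subgroup.normalizer (QG : Set ↥(Cfsg.SU 3 K (p ^ n))) :=
      hle (Subgroup.mem_map_of_mem K₁.subtype x.2)
    have hyN : ((y : ↥K₁) : ↥(Cfsg.SU 3 K (p ^ n))) ∈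
        Subgroup.normalizer (QG : Set ↥(Cfsg.SU 3 K (p ^ n))) :=
      hle (Subgroup.mem_map_of_mem K₁.subtype y.2)
    have hx' : ((x : ↥K₁) : ↥(Cfsg.SU 3 K (p ^ n))) ^ p ^ kx = 1 := by
      have := congrArg (fun t : ↥(Subgroup.normalizer (Q : Set ↥K₁)) =>
        ((t : ↥K₁) : ↥(Cfsg.SU 3 K (p ^ n)))) hx
      exact this
    have hy' : ((y : ↥K₁) : ↥(Cfsg.SU 3 K (p ^ n))) ^ p ^ ky = 1 := by
      have := congrArg (fun t : ↥(Subgroup.normalizer (Q : Set ↥K₁)) =>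
        ((t : ↥K₁) : ↥(Cfsg.SU 3 K (p ^ n)))) hy
      exact this
    have h2 := normalizer_pclosed hn hK QG hQGp hQGne _ _ hxN hyN kx ky hx' hy'
    apply Subtype.ext
    apply Subtype.ext
    exact h2
  let g : ↥(Subgroup.normalizer (Q : Set ↥K₁)) →* ↥(Cfsg.qd p) :=
    f.comp (Subgroup.normalizer (Q : Set ↥K₁)).subtype
  have hg : Function.Surjective g := by
    intro z
    have hz : z ∈ (Subgroup.normalizer (Q : Set ↥K₁)).map f := by rw [hQn]; trivial
    obtain ⟨y, hy, rfl⟩ := hz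
    exact ⟨⟨y, hy⟩, rfl⟩
  exact not_pclosedE_qd p hp (hcl.of_surjective g hg)

end S2232aux
end Aux

/-- Let p be an odd prime, q a power of p and K a finite field with q² elements. Then Qd(p) (the natural semidirect product of an elementary abelian group of order p² by SL₂(p)) is not involved in the projective special unitary group PSU₃(q) realised over K. -/
theorem result {p : ℕ} [Fact p.Prime] (hp : p ≠ 2) {K : Type*} [Field K] [Fintype K] [CharP K p] (n : ℕ) (hn : 1 ≤ n) (hK : Fintype.card K = (p ^ n) ^ 2) : ¬ Cfsg.Involves ↥(Cfsg.qd p) (Cfsg.PSU 3 K (p ^ n)) := by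
  exact S2232aux.main hp n hn hK

end Cfsg.Agent.S2232
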