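import Cfsg.Statements.S2239
import Cfsg.Agent.Lib.Helper13.SzSubG

set_option autoImplicit false
open Cfsg

namespace Cfsg.Agent.S2239

open Cfsg.Agent.Lib.Helper15.SuzukiAlg Cfsg.Agent.Lib.Helper15.SuzukiOvoid
  Cfsg.Agent.Lib.Helper15.SuzukiForm Cfsg.Agent.Lib.Helper15.SuzukiMat
  Cfsg.Agent.Lib.Helper15.SuzukiGroup Cfsg.Agent.Lib.Helper15.SuzukiOrder
  Cfsg.Agent.Lib.Helper15.SuzukiSylow Cfsg.Agent.Lib.Helper15.SuzukiZassenhaus
  Cfsg.Agent.Lib.Helper15.SuzukiBorel Cfsg.Agent.Lib.Helper15.SuzukiElements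
  Cfsg.Agent.Lib.Helper15.SuzukiFpf Cfsg.Agent.Lib.Helper15.SuzukiField
  Cfsg.Agent.Lib.Helper15.SuzukiTori Cfsg.Agent.S2410 Cfsg.Agent.S2247 Cfsg.Agent.S2238
  Cfsg.Agent.Lib.Helper18.SzFixity Cfsg.Agent.Lib.Helper13.SzSub

theorem map_conj_conj {G : Type*} [Group G] (S : Subgroup G) (a b : G) :
    (S.map (MulAut.conj a).toMonoidHom).map (MulAut.conj b).toMonoidHom =
      S.map (MulAut.conj (b * a)).toMonoidHom := by
  rw [Subgroup.map_map]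
  congr 1
  apply MonoidHom.ext
  intro x
  simp only [MonoidHom.comp_apply, MulEquiv.coe_toMonoidHom, MulAut.conj_apply]
  group

theorem map_conj_one {G : Type*} [Group G] (S : Subgroup G) :
    S.map (MulAut.conj (1 : G)).toMonoidHom = S := by
  have : (MulAut.conj (1 : G)).toMonoidHom = MonoidHom.id G := by
    apply MonoidHom.ext
    intro x
    simp only [MulEquiv.coe_toMonoidHom, MulAut.conj_apply, MonoidHom.id_apply]
    group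
  rw [this, Subgroup.map_id]

section

universe u v

variable {F : Type u} [Field F] [Fintype F] {m : ℕ} (hF : Fintype.card F = 2 ^ (2 * m + 1))
variable {K : Type v} [Field K] [Fintype K] {k : ℕ} (hK : Fintype.card K = 2 ^ (2 * k + 1))

theorem Js_Ts_not_comm {b : F} (hb : b ≠ 0) : Js hF * Ts hF 0 b ≠ Ts hF 0 b * Js hF := by
  intro h
  have h1 : Ts hF 0 b • (Js hF • pt hF none) = Js hF • pt hF none := by
    rw [← mul_smul, ← h, mul_smul, Ts_inf]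
  have h2 := Ts0_inf_only hF hb h1
  rw [Js_inf] at h2
  exact pt_none_ne_zero hF h2.symm

theorem Js_ne_one : Js hF ≠ 1 := by
  intro h
  have h5 := Js_inf hF
  rw [h, one_smul] at h5
  exact pt_none_ne_zero hF h5

include hK in
theorem conj_to_Std (hm : 1 ≤ m) (hk : 1 ≤ k) {S : Subgroup (Cfsg.Sz F m)}
    (e : S ≃* Cfsg.Sz K k) (h1 : Ts hF 0 1 ∈ S) :
    ∃ c, S.map (MulAut.conj c).toMonoidHom = Std hF (2 * k + 1) := by
  have hu2 : (⟨Ts hF 0 1, h1⟩ : S) * ⟨Ts hF 0 1, h1⟩ = 1 := Subtype.ext (Ts0_mul_self hF 1)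
  have hu1 : (⟨Ts hF 0 1, h1⟩ : S) ≠ 1 :=
    fun h => Ts0_ne_one hF one_ne_zero (congrArg Subtype.val h)
  have heu2 : e ⟨Ts hF 0 1, h1⟩ * e ⟨Ts hF 0 1, h1⟩ = 1 := by rw [← map_mul, hu2, map_one]
  have heu1 : e ⟨Ts hF 0 1, h1⟩ ≠ 1 := fun h => hu1 (e.injective (h.trans (map_one e).symm))
  obtain ⟨k₁, b, hb0, hk₁⟩ := involution_conj hK hk heu1 heu2
  obtain ⟨t, ht⟩ := exists_sig_ne_self hK hk
  have ht0 : t ≠ 0 := by
    rintro rfl
    apply ht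
    simp
  have ht1 : t ≠ 1 := by
    rintro rfl
    apply ht
    rw [map_one]
    exact add_self' hK 1
  have hb'0 : b * t ≠ 0 := mul_ne_zero hb0 ht0
  have hb'b : b * t ≠ b := by
    intro h
    apply ht1
    have : b * t = b * 1 := by rw [h, mul_one]
    exact mul_left_cancel₀ hb0 this
  have heu : e ⟨Ts hF 0 1, h1⟩ = k₁⁻¹ * Ts hK 0 b * k₁ := by rw [← hk₁]; group
  -- a second involution commuting with the first
  have hwK2 : (k₁⁻¹ * Ts hK 0 (b * t) * k₁) * (k₁⁻¹ * Ts hK 0 (b * t) * k₁) = 1 := by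
    have : (k₁⁻¹ * Ts hK 0 (b * t) * k₁) * (k₁⁻¹ * Ts hK 0 (b * t) * k₁) =
        k₁⁻¹ * (Ts hK 0 (b * t) * Ts hK 0 (b * t)) * k₁ := by group
    rw [this, Ts0_mul_self]; group
  have hwKne : k₁⁻¹ * Ts hK 0 (b * t) * k₁ ≠ e ⟨Ts hF 0 1, h1⟩ := by
    intro h
    rw [heu] at h
    have := mul_left_cancel (mul_right_cancel h)
    exact hb'b (Ts_inj hK this).2
  have hwK1 : k₁⁻¹ * Ts hK 0 (b * t) * k₁ ≠ 1 := by
    intro h
    have h3 : Ts hK 0 (b * t) = k₁ * (k₁⁻¹ * Ts hK 0 (b * t) * k₁) * k₁⁻¹ := by group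
    rw [h] at h3
    apply Ts0_ne_one hK hb'0
    rw [h3]; group
  have hwKcomm : (k₁⁻¹ * Ts hK 0 (b * t) * k₁) * e ⟨Ts hF 0 1, h1⟩ =
      e ⟨Ts hF 0 1, h1⟩ * (k₁⁻¹ * Ts hK 0 (b * t) * k₁) := by
    rw [heu]
    have e1 : (k₁⁻¹ * Ts hK 0 (b * t) * k₁) * (k₁⁻¹ * Ts hK 0 b * k₁) =
        k₁⁻¹ * (Ts hK 0 (b * t) * Ts hK 0 b) * k₁ := by group
    have e2 : (k₁⁻¹ * Ts hK 0 b * k₁) * (k₁⁻¹ * Ts hK 0 (b * t) * k₁) =
        k₁⁻¹ * (Ts hK 0 b * Ts hK 0 (b * t)) * k₁ := by group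
    rw [e1, e2, Cfsg.Agent.S2240.Ts0_mul, Cfsg.Agent.S2240.Ts0_mul, add_comm]
  obtain ⟨w, hew⟩ : ∃ w : S, e w = k₁⁻¹ * Ts hK 0 (b * t) * k₁ :=
    ⟨e.symm _, e.apply_symm_apply _⟩
  have hw2 : w * w = 1 := e.injective (by rw [map_mul, hew, hwK2, map_one])
  have hw1 : w ≠ 1 := fun h => hwK1 (by rw [← hew, h, map_one])
  have hwu : w ≠ ⟨Ts hF 0 1, h1⟩ := fun h => hwKne (by rw [← hew, h])
  have hwcomm : w * ⟨Ts hF 0 1, h1⟩ = ⟨Ts hF 0 1, h1⟩ * w :=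
    e.injective (by rw [map_mul, map_mul, hew, hwKcomm])
  have h3 : w.1 * Ts hF 0 1 = Ts hF 0 1 * w.1 := congrArg Subtype.val hwcomm
  have h4 := cent_Ts hF hm (a := 0) (b := 1) (fun h => one_ne_zero h.2) h3
  obtain ⟨a₂, b₂, hab⟩ := (mem_Qz hF w.1).mp h4
  have hw2' : w.1 * w.1 = 1 := congrArg Subtype.val hw2
  have ha₂ : a₂ = 0 := by
    rw [hab] at hw2'
    exact Ts_invol hF hw2'
  subst ha₂
  have hb₂0 : b₂ ≠ 0 := by
    rintro rfl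
    apply hw1
    apply Subtype.ext
    rw [hab, Ts_one]; rfl
  have hb₂1 : b₂ ≠ 1 := by
    rintro rfl
    exact hwu (Subtype.ext hab)
  have hb₂M : Ts hF 0 b₂ ∈ S := hab ▸ w.2
  -- `S` moves the point at infinity
  have hmove : ∃ g ∈ S, g • pt hF none ≠ pt hF none := by
    by_contra hcon
    push Not at hcon
    have hvK2 : (k₁⁻¹ * Js hK * k₁) * (k₁⁻¹ * Js hK * k₁) = 1 := by
      have : (k₁⁻¹ * Js hK * k₁) * (k₁⁻¹ * Js hK * k₁) = k₁⁻¹ * (Js hK * Js hK) * k₁ := by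
        group
      rw [this, Js_mul_self]; group
    have hvK1 : k₁⁻¹ * Js hK * k₁ ≠ 1 := by
      intro h
      have h5 : Js hK = k₁ * (k₁⁻¹ * Js hK * k₁) * k₁⁻¹ := by group
      rw [h] at h5
      apply Js_ne_one hK
      rw [h5]; group
    obtain ⟨v, hev⟩ : ∃ v : S, e v = k₁⁻¹ * Js hK * k₁ := ⟨e.symm _, e.apply_symm_apply _⟩
    have hv2 : v * v = 1 := e.injective (by rw [map_mul, hev, hvK2, map_one])
    have hv1 : v ≠ 1 := fun h => hvK1 (by rw [← hev, h, map_one])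
    obtain ⟨b₃, -, hb₃⟩ := invol_inf hF hm (congrArg Subtype.val hv2)
      (fun h => hv1 (Subtype.ext h)) (hcon v.1 v.2)
    have hcomm : v * ⟨Ts hF 0 1, h1⟩ = ⟨Ts hF 0 1, h1⟩ * v := by
      apply Subtype.ext
      show v.1 * Ts hF 0 1 = Ts hF 0 1 * v.1
      rw [hb₃, Cfsg.Agent.S2240.Ts0_mul, Cfsg.Agent.S2240.Ts0_mul, add_comm]
    have hcommK : (k₁⁻¹ * Js hK * k₁) * e ⟨Ts hF 0 1, h1⟩ =
        e ⟨Ts hF 0 1, h1⟩ * (k₁⁻¹ * Js hK * k₁) := by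
      rw [← hev, ← map_mul, hcomm, map_mul]
    rw [heu] at hcommK
    have h6 : Js hK * Ts hK 0 b = Ts hK 0 b * Js hK := by
      have e1 : Js hK * Ts hK 0 b =
          k₁ * ((k₁⁻¹ * Js hK * k₁) * (k₁⁻¹ * Ts hK 0 b * k₁)) * k₁⁻¹ := by group
      have e2 : Ts hK 0 b * Js hK =
          k₁ * ((k₁⁻¹ * Ts hK 0 b * k₁) * (k₁⁻¹ * Js hK * k₁)) * k₁⁻¹ := by group
      rw [e1, e2, hcommK]
    exact Js_Ts_not_comm hK hb0 h6
  obtain ⟨c, e', he'2, he'div, he'card, hStd⟩ := theoremA hF hm S h1 hb₂M hb₂0 hb₂1 hmove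
  refine ⟨c, ?_⟩
  obtain ⟨k', rfl⟩ : ∃ k', e' = 2 * k' + 1 := by
    rcases Nat.even_or_odd' e' with ⟨j, rfl | rfl⟩
    · exfalso
      obtain ⟨d, hd⟩ := he'div
      have : 2 * j * d = 2 * (j * d) := by ring
      omega
    · exact ⟨j, rfl⟩
  have hk'1 : 1 ≤ k' := by omega
  have hn0 : 2 * k' + 1 ≠ 0 := by omega
  have : Fact (Nat.Prime 2) := ⟨Nat.prime_two⟩
  let iFin : Fintype (GaloisField 2 (2 * k' + 1)) := Fintype.ofFinite _
  have hcK' : Fintype.card (GaloisField 2 (2 * k' + 1)) = 2 ^ (2 * k' + 1) := by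
    rw [← Nat.card_eq_fintype_card, GaloisField.card 2 _ hn0]
  obtain ⟨e''⟩ := Std_iso hF hcK' hk'1 he'div
  have h5 : Nat.card (Cfsg.Sz K k) = Nat.card (Cfsg.Sz (GaloisField 2 (2 * k' + 1)) k') := by
    rw [← Nat.card_congr e.toEquiv, ← Nat.card_congr e''.toEquiv, ← hStd,
      Subgroup.card_map_of_injective (MulAut.conj c).injective]
  rw [card_Sz hK hk, card_Sz hcK' hk'1] at h5
  have h6 := congrArg (fun n => n.factorization 2) h5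
  simp only [factorization_two] at h6
  have : k' = k := by omega
  subst this
  exact hStd

include hK in
theorem exists_conj_Std (hm : 1 ≤ m) (hk : 1 ≤ k) {S : Subgroup (Cfsg.Sz F m)}
    (e : S ≃* Cfsg.Sz K k) : ∃ c, S.map (MulAut.conj c).toMonoidHom = Std hF (2 * k + 1) := by
  obtain ⟨t, het⟩ : ∃ t : S, e t = Ts hK 0 1 := ⟨e.symm _, e.apply_symm_apply _⟩
  have ht2 : t * t = 1 := e.injective (by rw [map_mul, het, Ts0_mul_self, map_one])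
  have ht1 : t ≠ 1 := fun h => Ts0_ne_one hK one_ne_zero (by rw [← het, h, map_one])
  have ht2' : t.1 * t.1 = 1 := congrArg Subtype.val ht2
  have ht1' : t.1 ≠ 1 := fun h => ht1 (Subtype.ext h)
  obtain ⟨k₀, b, hb0, hk₀⟩ := involution_conj hF hm ht1' ht2'
  obtain ⟨μ, hμ⟩ := Cfsg.Agent.S2240.kap_surj hF (inv_ne_zero hb0)
  have h1S' : Ts hF 0 1 ∈ S.map (MulAut.conj (Hs hF μ * k₀)).toMonoidHom := by
    have h3 : Ts hF 0 1 = (MulAut.conj (Hs hF μ * k₀)).toMonoidHom t.1 := by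
      rw [MulEquiv.coe_toMonoidHom, MulAut.conj_apply]
      have : Hs hF μ * k₀ * t.1 * (Hs hF μ * k₀)⁻¹ =
          Hs hF μ * (k₀ * t.1 * k₀⁻¹) * (Hs hF μ)⁻¹ := by group
      rw [this, hk₀, Cfsg.Agent.S2240.Hs_conj, hμ, inv_mul_cancel₀ hb0]
    rw [h3]
    exact Subgroup.mem_map_of_mem _ t.2
  have e' : S.map (MulAut.conj (Hs hF μ * k₀)).toMonoidHom ≃* Cfsg.Sz K k :=
    (S.equivMapOfInjective _ (MulAut.conj (Hs hF μ * k₀)).injective).symm.trans e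
  obtain ⟨c, hc⟩ := conj_to_Std hF hK hm hk e' h1S'
  exact ⟨c * (Hs hF μ * k₀), by rw [← hc, map_conj_conj]⟩

end

/-- Subfield subgroups of the Suzuki group: let q = 2^(2m+1) and s = 2^(2k+1) with m, k ≥ 1 and 2k+1 dividing 2m+1 (so q is a power of s), both groups realised as stabilisers in SL₄ of the Suzuki–Tits ovoid. Then Sz(q) has a subgroup isomorphic to Sz(s), and any two subgroups of Sz(q) isomorphic to Sz(s) are conjugate. -/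
theorem result {F : Type*} [Field F] [Fintype F] {m : ℕ} (hm : 1 ≤ m) (hF : Fintype.card F = 2 ^ (2 * m + 1)) {K : Type*} [Field K] [Fintype K] {k : ℕ} (hk : 1 ≤ k) (hK : Fintype.card K = 2 ^ (2 * k + 1)) (hdiv : 2 * k + 1 ∣ 2 * m + 1) :
    (∃ S : Subgroup ↥(Cfsg.Sz F m), Nonempty (↥S ≃* ↥(Cfsg.Sz K k))) ∧
    ∀ S₁ S₂ : Subgroup ↥(Cfsg.Sz F m), Nonempty (↥S₁ ≃* ↥(Cfsg.Sz K k)) → Nonempty (↥S₂ ≃* ↥(Cfsg.Sz K k)) →
      ∃ g : ↥(Cfsg.Sz F m), S₂ = S₁.map (MulAut.conj g).toMonoidHom := by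
  refine ⟨⟨Cfsg.Agent.Lib.Helper13.SzSub.Std hF (2 * k + 1),
    Cfsg.Agent.Lib.Helper13.SzSub.Std_iso hF hK hk hdiv⟩, ?_⟩
  rintro S₁ S₂ ⟨e₁⟩ ⟨e₂⟩
  obtain ⟨c₁, h₁⟩ := exists_conj_Std hF hK hm hk e₁
  obtain ⟨c₂, h₂⟩ := exists_conj_Std hF hK hm hk e₂
  refine ⟨c₂⁻¹ * c₁, ?_⟩
  rw [← map_conj_conj, h₁, ← h₂, map_conj_conj, inv_mul_cancel, map_conj_one]

end Cfsg.Agent.S2239
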