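import Cfsg.Statements.S2241
-- import your own Cfsg.Agent.* helpers here
import Cfsg.Agent.Lib.Helper15.SuzukiBorel

set_option autoImplicit false
open Cfsg

namespace Cfsg.Agent.S2241

open Cfsg.Agent.Lib.Helper15.SuzukiAlg Cfsg.Agent.Lib.Helper15.SuzukiOvoid
  Cfsg.Agent.Lib.Helper15.SuzukiForm Cfsg.Agent.Lib.Helper15.SuzukiMat
  Cfsg.Agent.Lib.Helper15.SuzukiGroup Cfsg.Agent.Lib.Helper15.SuzukiOrder
  Cfsg.Agent.Lib.Helper15.SuzukiSylow Cfsg.Agent.Lib.Helper15.SuzukiZassenhaus
  Cfsg.Agent.Lib.Helper15.SuzukiBorel Matrix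

variable {F : Type*} [Field F] [Fintype F] {m : ℕ}

/-- translations of order four are not real -/
theorem not_real (hm : 1 ≤ m) (hF : Fintype.card F = 2 ^ (2 * m + 1)) {a b : F} (ha : a ≠ 0) :
    ¬ IsConj (Ts hF a b) (Ts hF a b)⁻¹ := by
  have h2 := two_eq_zero hF
  have hσ := sig_sig h2 hF
  have hsa : sig h2 m a ≠ 0 := fun h => ha ((map_eq_zero _).mp h)
  rw [isConj_iff]
  rintro ⟨x, hx⟩
  -- x fixes the point at infinity
  have hfix : (Ts hF a b)⁻¹ • (x • pt hF none) = x • pt hF none := by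
    rw [← hx, ← mul_smul]
    have : x * Ts hF a b * x⁻¹ * x = x * Ts hF a b := by group
    rw [this, mul_smul, Ts_inf]
  rw [Ts_inv] at hfix
  have hx0 : x • pt hF none = pt hF none := Ts_fix_only hF (fun h => ha h.1) hfix
  obtain ⟨c, d, μ, rfl⟩ := fix_inf hF hm hx0
  rw [borel_conj, Ts_inv] at hx
  obtain ⟨e1, e2⟩ := Ts_inj hF hx
  have hμ1 : sig h2 m (μ : F) = 1 := by
    have : (sig h2 m (μ : F) - 1) * a = 0 := by rw [sub_mul, e1, one_mul, sub_self]
    rcases mul_eq_zero.mp this with h | h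
    · exact sub_eq_zero.mp h
    · exact absurd h ha
  have hμ : (μ : F) = 1 := by
    have : sig h2 m (μ : F) = sig h2 m 1 := by rw [hμ1, map_one]
    exact (sig h2 m).injective this
  rw [hμ1, hμ] at e2
  simp only [one_pow, one_mul] at e2
  -- e2 : b + σ c * a + σ a * c = b + a * σ a
  have E : sig h2 m c * a + sig h2 m a * c = a * sig h2 m a := by
    have := add_left_cancel (a := b) (by rw [← add_assoc]; exact e2 : b + (sig h2 m c * a + sig h2 m a * c) = b + a * sig h2 m a)
    exact this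
  have E' : c ^ 2 * sig h2 m a + a ^ 2 * sig h2 m c = sig h2 m a * a ^ 2 := by
    have := congrArg (sig h2 m) E
    simpa only [map_add, map_mul, hσ] using this
  have key : sig h2 m a * c * (c + a) = 0 := by grind
  rcases mul_eq_zero.mp key with h | h
  · rcases mul_eq_zero.mp h with h' | h'
    · exact hsa h'
    · rw [h', map_zero, zero_mul, mul_zero, add_zero] at E
      exact mul_ne_zero ha hsa E.symm
  · have hc : c = a := eq_of_add_eq_zero h2 h
    rw [hc, mul_comm (sig h2 m a) a, add_self h2] at E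
    exact mul_ne_zero ha hsa E.symm

theorem main (hm : 1 ≤ m) (hF : Fintype.card F = 2 ^ (2 * m + 1)) (P : Sylow 2 ↥(Cfsg.Sz F m))
    (g : ↥(Cfsg.Sz F m)) (hg : g ∈ (P : Subgroup ↥(Cfsg.Sz F m))) (h1 : g ≠ 1) :
    IsConj g g⁻¹ ↔ orderOf g = 2 := by
  have h2 := two_eq_zero hF
  obtain ⟨y, hy⟩ := exists_conj_sylow hF hm P
  obtain ⟨a, b, hab⟩ := (mem_Qz hF _).mp ((hy g).mp hg)
  have hc1 : IsConj g (Ts hF a b) := isConj_iff.mpr ⟨y, hab⟩
  have hc2 : IsConj g⁻¹ (Ts hF a b)⁻¹ := isConj_iff.mpr ⟨y, by rw [← hab]; group⟩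
  have hord : orderOf g = orderOf (Ts hF a b) := by
    obtain ⟨u, hu⟩ := hc1
    exact hu.orderOf_eq
  have hne : Ts hF a b ≠ 1 := by
    intro h
    apply h1
    rw [h] at hab
    have : g = y⁻¹ * (y * g * y⁻¹) * y := by group
    rw [this, hab]; group
  by_cases ha : a = 0
  · subst ha
    have hsq : Ts hF 0 b ^ 2 = 1 := by
      rw [pow_two, Ts_mul]
      simp only [add_zero, map_zero, zero_mul]
      rw [add_self h2, Ts_one]
    constructor
    · intro _
      rw [hord]
      exact orderOf_eq_prime hsq hne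
    · intro _
      have hinv : (Ts hF 0 b)⁻¹ = Ts hF 0 b := by
        rw [pow_two] at hsq
        exact inv_eq_of_mul_eq_one_right hsq
      rw [hinv] at hc2
      exact hc1.trans hc2.symm
  · constructor
    · intro h
      exfalso
      exact not_real hm hF ha (hc1.symm.trans (h.trans hc2))
    · intro h
      exfalso
      rw [hord] at h
      have hsq : Ts hF a b ^ 2 = 1 := by rw [← h]; exact pow_orderOf_eq_one _
      rw [pow_two, Ts_mul, add_self h2, ← Ts_one hF] at hsq
      have := (Ts_inj hF hsq).2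
      rw [add_self h2, zero_add] at this
      have hsa : sig h2 m a ≠ 0 := fun h => ha ((map_eq_zero _).mp h)
      exact mul_ne_zero hsa ha this

/-- Real 2-elements of the Suzuki group: with q = 2^(2m+1), m ≥ 1, and the group realised as the stabiliser in SL₄ of the Suzuki–Tits ovoid, a non-identity element of a Sylow 2-subgroup is conjugate to its inverse if and only if it is an involution; in particular no element of order 4 is conjugate to its inverse. -/
theorem result {F : Type*} [Field F] [Fintype F] {m : ℕ} (hm : 1 ≤ m) (hF : Fintype.card F = 2 ^ (2 * m + 1)) (P : Sylow 2 ↥(Cfsg.Sz F m)) (g : ↥(Cfsg.Sz F m)) (hg : g ∈ (P : Subgroup ↥(Cfsg.Sz F m))) (h1 : g ≠ 1) :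
    IsConj g g⁻¹ ↔ orderOf g = 2 := by
  exact main hm hF P g hg h1

end Cfsg.Agent.S2241
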