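import Cfsg.Statements.S2245
import Mathlib
import Cfsg.Agent.Lib.Helper20.SylMaxG

set_option autoImplicit false
open Cfsg

namespace Cfsg.Agent.S2245

open Cfsg.Agent.Lib.Helper20.SylMax

theorem framework {𝔊 : Type*} [Group 𝔊] [Finite 𝔊] (n : ℕ) (hn : 5 ≤ n)
    (ι : 𝔊 →* Equiv.Perm (Fin n)) (hinj : Function.Injective ι)
    (hAlt : alternatingGroup (Fin n) ≤ ι.range) (R : Sylow 2 𝔊) :
    (∃! M : Subgroup 𝔊, IsCoatom M ∧ (R : Subgroup 𝔊) ≤ M) ↔ ∃ k : ℕ, 2 ≤ k ∧ n = 2 ^ k + 1 := by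
  haveI : Nontrivial (Fin n) := Fin.nontrivial_iff_two_le.mpr (by omega)
  constructor
  · intro h
    obtain ⟨k, hk, hkn⟩ := fwd ι hinj hAlt (by rw [Fintype.card_fin]; exact hn) R h
    exact ⟨k, hk, by rw [← hkn, Fintype.card_fin]⟩
  · rintro ⟨k, hk, hkn⟩
    exact bwd ι hinj hAlt k hk (by rw [Fintype.card_fin]; exact hkn) R

/-- For n ≥ 5 with n ≠ 6, a Sylow 2-subgroup of the alternating group A_n lies in exactly one maximal subgroup of A_n if and only if n = 2^k + 1 for some k ≥ 2; the same holds for the symmetric group S_n. -/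
theorem result (n : ℕ) (hn : 5 ≤ n) (h6 : n ≠ 6) :
    ((∀ R : Sylow 2 ↥(alternatingGroup (Fin n)), (∃! M : Subgroup ↥(alternatingGroup (Fin n)), IsCoatom M ∧ (R : Subgroup ↥(alternatingGroup (Fin n))) ≤ M) ↔ ∃ k : ℕ, 2 ≤ k ∧ n = 2 ^ k + 1) ∧
    (∀ R : Sylow 2 (Equiv.Perm (Fin n)), (∃! M : Subgroup (Equiv.Perm (Fin n)), IsCoatom M ∧ (R : Subgroup (Equiv.Perm (Fin n))) ≤ M) ↔ ∃ k : ℕ, 2 ≤ k ∧ n = 2 ^ k + 1)) := by
  constructor
  · intro R
    exact framework n hn (alternatingGroup (Fin n)).subtype Subtype.val_injective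
      (by rw [Subgroup.range_subtype]) R
  · intro R
    exact framework n hn (MonoidHom.id _) Function.injective_id
      (by rw [MonoidHom.range_eq_top.mpr Function.surjective_id]; exact le_top) R

end Cfsg.Agent.S2245
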