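import Cfsg.Statements.S2249
import Cfsg.Agent.Lib.Helper16.GLRank12

set_option autoImplicit false
open Cfsg

namespace Cfsg.Agent.S2249

/-- The normal 2-rank of the general linear group over a finite field of odd order q: for n ≥ 1 and S a Sylow 2-subgroup of GL_n(F), the largest rank of an elementary abelian subgroup of S that is normal in S equals n when q ≡ 1 (mod 4) and ⌊(n + 1)/2⌋ when q ≡ 3 (mod 4). -/
theorem result {F : Type*} [Field F] [Fintype F] {q : ℕ} (hF : Fintype.card F = q) (hodd : Odd q) (n : ℕ) (hn : 1 ≤ n) (S : Sylow 2 (Matrix.GeneralLinearGroup (Fin n) F)) :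
    (q % 4 = 1 → ((∃ E : Subgroup ↥(S : Subgroup (Matrix.GeneralLinearGroup (Fin n) F)), E.Normal ∧ Cfsg.IsElementaryAbelian 2 E ∧ 2 ^ (n) ≤ Nat.card ↥E) ∧
      ∀ E : Subgroup ↥(S : Subgroup (Matrix.GeneralLinearGroup (Fin n) F)), E.Normal → Cfsg.IsElementaryAbelian 2 E → Nat.card ↥E ≤ 2 ^ (n))) ∧
    (q % 4 = 3 → ((∃ E : Subgroup ↥(S : Subgroup (Matrix.GeneralLinearGroup (Fin n) F)), E.Normal ∧ Cfsg.IsElementaryAbelian 2 E ∧ 2 ^ ((n + 1) / 2) ≤ Nat.card ↥E) ∧
      ∀ E : Subgroup ↥(S : Subgroup (Matrix.GeneralLinearGroup (Fin n) F)), E.Normal → Cfsg.IsElementaryAbelian 2 E → Nat.card ↥E ≤ 2 ^ ((n + 1) / 2))) := by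
  have hodd' : Odd (Fintype.card F) := by rw [hF]; exact hodd
  have h2 : (2 : F) ≠ 0 := Cfsg.Agent.Lib.Helper16.TwoRank.two_ne_zero_of_odd hodd'
  have hfin : Finite (Matrix.GeneralLinearGroup (Fin n) F) := inferInstance
  constructor
  · intro hq
    have hq' : Fintype.card F % 4 = 1 := by rw [hF]; exact hq
    constructor
    · obtain ⟨E, hEn, hEc, hEs, hEcard⟩ :=
        (Cfsg.Agent.Lib.Helper16.GLRank.NLB_GL_one hq' n).sylow S
      exact ⟨E, hEn, ⟨isMulCommutative_iff.mpr hEc, hEs⟩, hEcard.ge⟩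
    · intro E _ hE
      have hfinE : Finite ↥E := Subtype.finite
      have := Cfsg.Agent.Lib.Helper16.GLRank.card_le_of_elementary_abelian_GL h2 (X := ↥E)
        ((S : Subgroup (Matrix.GeneralLinearGroup (Fin n) F)).subtype.comp E.subtype)
        (by
          intro a b hab
          exact Subtype.ext (Subtype.ext hab))
        (isMulCommutative_iff.mp hE.1)
        (by
          intro x
          apply Subtype.ext
          exact hE.2 x.1 x.2)
      rwa [Fintype.card_fin] at this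
  · intro hq
    have hq' : Fintype.card F % 4 = 3 := by rw [hF]; exact hq
    constructor
    · obtain ⟨E, hEn, hEc, hEs, hEcard⟩ :=
        (Cfsg.Agent.Lib.Helper16.GLRank.NLB_GL_three hq' n).sylow S
      exact ⟨E, hEn, ⟨isMulCommutative_iff.mpr hEc, hEs⟩, hEcard.ge⟩
    · intro E hEn hE
      exact (Cfsg.Agent.Lib.Helper16.GLRank.NUB_GL_three' hq' n).sylow S E hEn
        (isMulCommutative_iff.mp hE.1) hE.2

end Cfsg.Agent.S2249
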