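import Cfsg.Statements.S2253
import Mathlib
import Cfsg.Agent.Lib.Helper20.NilSymD

set_option autoImplicit false
open Cfsg

namespace Cfsg.Agent.S2253

/-- Let n be a natural number not congruent to 3 modulo 4. Then every nilpotent subgroup of the symmetric group on n letters has order at most the order of a Sylow 2-subgroup (so the nilpotent subgroups of largest order are exactly the Sylow 2-subgroups). -/
theorem result  (n : ℕ) (hn : n % 4 ≠ 3)
    (N : Subgroup (Equiv.Perm (Fin n))) (hN : Group.IsNilpotent N)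
    (P : Sylow 2 (Equiv.Perm (Fin n))) :
    Nat.card N ≤ Nat.card P := by
  have h1 := Cfsg.Agent.Lib.Helper20.NilSym.sq_card_le_B n (Fin n) (by simp) N hN
  rw [Cfsg.Agent.Lib.Helper20.NilSym.B_of_ne hn] at h1
  haveI : Fact (Nat.Prime 2) := ⟨Nat.prime_two⟩
  have h2 : Nat.card P = 2 ^ Cfsg.Agent.Lib.Helper20.NilSym.v2f n := by
    rw [P.card_eq_multiplicity, Nat.card_perm, Nat.card_fin]
    rfl
  rw [h2]
  have h3 : (4 : ℕ) ^ Cfsg.Agent.Lib.Helper20.NilSym.v2f n =
      (2 ^ Cfsg.Agent.Lib.Helper20.NilSym.v2f n) ^ 2 := by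
    rw [← pow_mul, mul_comm, pow_mul]; norm_num
  rw [h3] at h1
  exact (Nat.pow_le_pow_iff_left (by norm_num : (2 : ℕ) ≠ 0)).mp h1

end Cfsg.Agent.S2253
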