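import Cfsg.Statements.S2254
import Mathlib
import Cfsg.Agent.Lib.Helper20.NilSymJ

set_option autoImplicit false
open Cfsg

namespace Cfsg.Agent.S2254

open Cfsg.Agent.Lib.Helper20.NilSym in
/-- attainment of the bound -/
theorem exists_extremal (n : ℕ) (hn : 3 ≤ n) (P : Sylow 2 (Equiv.Perm (Fin (n - 3)))) :
    ∃ M : Subgroup (Equiv.Perm (Fin n)), Group.IsNilpotent M ∧ Nat.card M = 3 * Nat.card P ∧
      Nonempty (M ≃* (↥(P : Subgroup (Equiv.Perm (Fin (n - 3)))) × Multiplicative (ZMod 3))) := by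
  haveI : Fact (Nat.Prime 2) := ⟨Nat.prime_two⟩
  have hcardG : Fintype.card (Multiplicative (ZMod 3)) = 3 := by
    rw [Fintype.card_multiplicative, ZMod.card]
  let e : Fin (n - 3) ⊕ Multiplicative (ZMod 3) ≃ Fin n :=
    Fintype.equivOfCardEq (by rw [Fintype.card_sum, Fintype.card_fin, Fintype.card_fin, hcardG]; omega)
  let ψ : Multiplicative (ZMod 3) →* Equiv.Perm (Multiplicative (ZMod 3)) :=
    MulAction.toPermHom (Multiplicative (ZMod 3)) (Multiplicative (ZMod 3))
  have hψ : Function.Injective ψ := MulAction.toPerm_injective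
  let Φ : ↥(P : Subgroup (Equiv.Perm (Fin (n - 3)))) × Multiplicative (ZMod 3) →*
      Equiv.Perm (Fin n) :=
    (e.permCongrHom.toMonoidHom.comp (Equiv.Perm.sumCongrHom (Fin (n - 3))
      (Multiplicative (ZMod 3)))).comp
      (MonoidHom.prodMap (P : Subgroup (Equiv.Perm (Fin (n - 3)))).subtype ψ)
  have hΦ : Function.Injective Φ := by
    have h1 : Function.Injective (MonoidHom.prodMap
        (P : Subgroup (Equiv.Perm (Fin (n - 3)))).subtype ψ) :=
      Function.Injective.prodMap (Subgroup.subtype_injective _) hψ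
    have h2 : Function.Injective (e.permCongrHom.toMonoidHom.comp
        (Equiv.Perm.sumCongrHom (Fin (n - 3)) (Multiplicative (ZMod 3)))) :=
      e.permCongrHom.injective.comp Equiv.Perm.sumCongrHom_injective
    exact h2.comp h1
  haveI hPn : Group.IsNilpotent ↥(P : Subgroup (Equiv.Perm (Fin (n - 3)))) :=
    P.isPGroup'.isNilpotent
  let ι := MonoidHom.ofInjective hΦ
  refine ⟨Φ.range, ?_, ?_, ⟨ι.symm⟩⟩
  · exact Group.nilpotent_of_surjective ι.toMonoidHom ι.surjective
  · rw [← Nat.card_congr ι.toEquiv, Nat.card_prod, Nat.card_eq_fintype_card (α := Multiplicative (ZMod 3)),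
      hcardG, mul_comm]

/-- Let n ≡ 3 (mod 4). Then every nilpotent subgroup of the symmetric group on n letters has order at most 3 times the order of a Sylow 2-subgroup of the symmetric group on n − 3 letters; the bound is attained by a nilpotent subgroup isomorphic to the direct product of such a Sylow 2-subgroup with a cyclic group of order 3; and any two nilpotent subgroups attaining the bound are conjugate. -/
theorem result  (n : ℕ) (hn : n % 4 = 3)
    (P : Sylow 2 (Equiv.Perm (Fin (n - 3)))) :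
    (∀ N : Subgroup (Equiv.Perm (Fin n)), Group.IsNilpotent N → Nat.card N ≤ 3 * Nat.card P) ∧
    (∃ M : Subgroup (Equiv.Perm (Fin n)), Group.IsNilpotent M ∧ Nat.card M = 3 * Nat.card P ∧
      Nonempty (M ≃* (↥(P : Subgroup (Equiv.Perm (Fin (n - 3)))) × Multiplicative (ZMod 3)))) ∧
    (∀ N₁ N₂ : Subgroup (Equiv.Perm (Fin n)), Group.IsNilpotent N₁ → Group.IsNilpotent N₂ →
      Nat.card N₁ = 3 * Nat.card P → Nat.card N₂ = 3 * Nat.card P →
      ∃ g : Equiv.Perm (Fin n), N₂ = N₁.map (MulAut.conj g).toMonoidHom) := by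
  haveI : Fact (Nat.Prime 2) := ⟨Nat.prime_two⟩
  obtain ⟨x, hx⟩ : ∃ x, n = 4 * x + 3 := ⟨n / 4, by omega⟩
  have hx' : n - 3 = 4 * x := by omega
  have hP : Nat.card P = 2 ^ Cfsg.Agent.Lib.Helper20.NilSym.v2f (4 * x) := by
    rw [P.card_eq_multiplicity, Nat.card_perm, Nat.card_fin, hx']
    rfl
  refine ⟨?_, exists_extremal n (by omega) P, ?_⟩
  · intro N hN
    have h1 := Cfsg.Agent.Lib.Helper20.NilSym.sq_card_le_B n (Fin n) (by simp) N hN
    have hB : Cfsg.Agent.Lib.Helper20.NilSym.B n =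
        (3 * 2 ^ Cfsg.Agent.Lib.Helper20.NilSym.v2f (4 * x)) ^ 2 := by
      rw [hx, Cfsg.Agent.Lib.Helper20.NilSym.sq_eq_B_three]
    rw [hB] at h1
    rw [hP]
    exact (Nat.pow_le_pow_iff_left (by norm_num : (2 : ℕ) ≠ 0)).mp h1
  · intro N₁ N₂ h1 h2 hk1 hk2
    rw [hP] at hk1 hk2
    exact Cfsg.Agent.Lib.Helper20.NilSym.conj_of_extremal x (by rw [Nat.card_fin, hx]) N₁ N₂ h1 h2
      hk1 hk2

end Cfsg.Agent.S2254
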