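import Cfsg.Statements.S2255
import Mathlib
import Cfsg.Agent.Lib.Helper20.NilSymG

set_option autoImplicit false
open Cfsg

namespace Cfsg.Agent.S2255

/-- Let n be a natural number not congruent to 3 modulo 4, with n ∉ {5, 6, 9}. Then every nilpotent subgroup of the alternating group on n letters has order at most the order of a Sylow 2-subgroup of the alternating group (so the nilpotent subgroups of largest order are exactly the Sylow 2-subgroups). -/
theorem result  (n : ℕ) (hn : n % 4 ≠ 3)
    (h5 : n ≠ 5) (h6 : n ≠ 6) (h9 : n ≠ 9)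
    (N : Subgroup (alternatingGroup (Fin n))) (hN : Group.IsNilpotent N)
    (P : Sylow 2 (alternatingGroup (Fin n))) :
    Nat.card N ≤ Nat.card P := by
  haveI : Fact (Nat.Prime 2) := ⟨Nat.prime_two⟩
  rcases Nat.lt_or_ge n 2 with hn2 | hn2
  · have hsub : Subsingleton (Equiv.Perm (Fin n)) := by
      haveI : Subsingleton (Fin n) := by
        rw [← Finite.card_le_one_iff_subsingleton, Nat.card_fin]; omega
      infer_instance
    have h1 : Nat.card N = 1 := by
      haveI : Subsingleton (alternatingGroup (Fin n)) := inferInstance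
      exact Nat.card_unique
    rw [h1]
    exact Nat.card_pos
  · haveI : Nontrivial (Fin n) := by
      rw [← Finite.one_lt_card_iff_nontrivial, Nat.card_fin]; omega
    let N' : Subgroup (Equiv.Perm (Fin n)) := N.map (alternatingGroup (Fin n)).subtype
    let e : N ≃* N' := N.equivMapOfInjective _ (Subgroup.subtype_injective _)
    have hcard : Nat.card N' = Nat.card N := (Nat.card_congr e.toEquiv).symm
    have hN' : Group.IsNilpotent N' := Group.nilpotent_of_surjective e.toMonoidHom e.surjective
    have hev : ∀ g ∈ N', Equiv.Perm.sign g = 1 := by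
      rintro g ⟨a, -, rfl⟩
      exact Equiv.Perm.mem_alternatingGroup.mp a.2
    have h1 := Cfsg.Agent.Lib.Helper20.NilSym.four_sq_card_le_E n (Fin n) (by simp) N' hN' hev
    rw [Cfsg.Agent.Lib.Helper20.NilSym.E_of_ne (by omega) (by omega) (by omega) h5 h6 h9,
      Cfsg.Agent.Lib.Helper20.NilSym.B_of_ne hn, hcard] at h1
    have h2 : 2 * Nat.card (alternatingGroup (Fin n)) = n.factorial := by
      rw [two_mul_nat_card_alternatingGroup, Nat.card_perm, Nat.card_fin]
    have hA0 : Nat.card (alternatingGroup (Fin n)) ≠ 0 := Nat.card_pos.ne'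
    have h3 : Cfsg.Agent.Lib.Helper20.NilSym.v2f n =
        1 + (Nat.card (alternatingGroup (Fin n))).factorization 2 := by
      rw [Cfsg.Agent.Lib.Helper20.NilSym.v2f, ← h2, Nat.factorization_mul two_ne_zero hA0]
      simp [Nat.Prime.factorization_self Nat.prime_two]
    have h4 : 2 * Nat.card P = 2 ^ Cfsg.Agent.Lib.Helper20.NilSym.v2f n := by
      rw [P.card_eq_multiplicity, h3, pow_add, pow_one]
    have h5' : (4 : ℕ) ^ Cfsg.Agent.Lib.Helper20.NilSym.v2f n =
        (2 ^ Cfsg.Agent.Lib.Helper20.NilSym.v2f n) ^ 2 := by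
      rw [← pow_mul, mul_comm, pow_mul]; norm_num
    have h6' : (2 * Nat.card N) ^ 2 ≤ (2 ^ Cfsg.Agent.Lib.Helper20.NilSym.v2f n) ^ 2 := by
      rw [← h5', mul_pow]
      norm_num
      exact h1
    have h7 := (Nat.pow_le_pow_iff_left (by norm_num : (2 : ℕ) ≠ 0)).mp h6'
    rw [← h4] at h7
    omega

end Cfsg.Agent.S2255
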