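import Cfsg.Statements.S2256
import Mathlib
import Cfsg.Agent.Lib.Helper20.NilSymM

set_option autoImplicit false
open Cfsg

namespace Cfsg.Agent.S2256

open Cfsg.Agent.Lib.Helper20.NilSym in
/-- attainment of the bound -/
theorem exists_extremal_alt (n : ℕ) (hn : 3 ≤ n)
    (P : Sylow 2 (alternatingGroup (Fin (n - 3)))) :
    ∃ M : Subgroup (alternatingGroup (Fin n)), Group.IsNilpotent M ∧
      Nat.card M = 3 * Nat.card P ∧
      Nonempty (M ≃* (↥(P : Subgroup (alternatingGroup (Fin (n - 3)))) ×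
        Multiplicative (ZMod 3))) := by
  haveI : Fact (Nat.Prime 2) := ⟨Nat.prime_two⟩
  have hcardG : Fintype.card (Multiplicative (ZMod 3)) = 3 := by
    rw [Fintype.card_multiplicative, ZMod.card]
  let e : Fin (n - 3) ⊕ Multiplicative (ZMod 3) ≃ Fin n :=
    Fintype.equivOfCardEq (by rw [Fintype.card_sum, Fintype.card_fin, Fintype.card_fin, hcardG]; omega)
  let ψ : Multiplicative (ZMod 3) →* Equiv.Perm (Multiplicative (ZMod 3)) :=
    MulAction.toPermHom (Multiplicative (ZMod 3)) (Multiplicative (ZMod 3))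
  have hψ : Function.Injective ψ := MulAction.toPerm_injective
  let j : ↥(P : Subgroup (alternatingGroup (Fin (n - 3)))) →* Equiv.Perm (Fin (n - 3)) :=
    (alternatingGroup (Fin (n - 3))).subtype.comp
      (P : Subgroup (alternatingGroup (Fin (n - 3)))).subtype
  have hj : Function.Injective j :=
    (Subgroup.subtype_injective _).comp (Subgroup.subtype_injective _)
  let Φ : ↥(P : Subgroup (alternatingGroup (Fin (n - 3)))) × Multiplicative (ZMod 3) →*
      Equiv.Perm (Fin n) :=
    (e.permCongrHom.toMonoidHom.comp (Equiv.Perm.sumCongrHom (Fin (n - 3))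
      (Multiplicative (ZMod 3)))).comp (MonoidHom.prodMap j ψ)
  have hΦ : Function.Injective Φ := by
    have h1 : Function.Injective (MonoidHom.prodMap j ψ) := Function.Injective.prodMap hj hψ
    have h2 : Function.Injective (e.permCongrHom.toMonoidHom.comp
        (Equiv.Perm.sumCongrHom (Fin (n - 3)) (Multiplicative (ZMod 3)))) :=
      e.permCongrHom.injective.comp Equiv.Perm.sumCongrHom_injective
    exact h2.comp h1
  have hsign : ∀ z, Φ z ∈ alternatingGroup (Fin n) := by
    intro z
    rw [Equiv.Perm.mem_alternatingGroup]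
    have h1 : Φ z = e.permCongr (Equiv.Perm.sumCongr (j z.1) (ψ z.2)) := rfl
    rw [h1, Equiv.Perm.sign_permCongr, Equiv.Perm.sign_sumCongr]
    have h2 : Equiv.Perm.sign (j z.1) = 1 := Equiv.Perm.mem_alternatingGroup.mp z.1.1.2
    have h3 : Equiv.Perm.sign (ψ z.2) = 1 := by
      have h4 : (ψ z.2) ^ 3 = 1 := by
        rw [← map_pow]
        have : z.2 ^ 3 = 1 := by
          have := pow_card_eq_one (G := Multiplicative (ZMod 3)) (x := z.2)
          rwa [hcardG] at this
        rw [this, map_one]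
      have h5 : (Equiv.Perm.sign (ψ z.2)) ^ 3 = 1 := by rw [← map_pow, h4, map_one]
      rcases Int.units_eq_one_or (Equiv.Perm.sign (ψ z.2)) with h | h
      · exact h
      · rw [h] at h5
        exact absurd h5 (by decide)
    rw [h2, h3, one_mul]
  let Φ' : ↥(P : Subgroup (alternatingGroup (Fin (n - 3)))) × Multiplicative (ZMod 3) →*
      alternatingGroup (Fin n) := Φ.codRestrict (alternatingGroup (Fin n)) hsign
  have hΦ' : Function.Injective Φ' := by
    intro a b hab
    apply hΦ
    exact congrArg Subtype.val hab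
  haveI hPn : Group.IsNilpotent ↥(P : Subgroup (alternatingGroup (Fin (n - 3)))) :=
    P.isPGroup'.isNilpotent
  let ι := MonoidHom.ofInjective hΦ'
  refine ⟨Φ'.range, ?_, ?_, ⟨ι.symm⟩⟩
  · exact Group.nilpotent_of_surjective ι.toMonoidHom ι.surjective
  · rw [← Nat.card_congr ι.toEquiv, Nat.card_prod,
      Nat.card_eq_fintype_card (α := Multiplicative (ZMod 3)), hcardG, mul_comm]

/-- Let n ≡ 3 (mod 4) with n ≥ 7. Then every nilpotent subgroup of the alternating group on n letters has order at most 3 times the order of a Sylow 2-subgroup of the alternating group on n − 3 letters; the bound is attained by a nilpotent subgroup isomorphic to the direct product of such a Sylow 2-subgroup with a cyclic group of order 3; and any two nilpotent subgroups of the alternating group attaining the bound are conjugate in it. -/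
theorem result  (n : ℕ) (hn : n % 4 = 3) (h7 : 7 ≤ n)
    (P : Sylow 2 (alternatingGroup (Fin (n - 3)))) :
    (∀ N : Subgroup (alternatingGroup (Fin n)), Group.IsNilpotent N → Nat.card N ≤ 3 * Nat.card P) ∧
    (∃ M : Subgroup (alternatingGroup (Fin n)), Group.IsNilpotent M ∧ Nat.card M = 3 * Nat.card P ∧
      Nonempty (M ≃* (↥(P : Subgroup (alternatingGroup (Fin (n - 3)))) × Multiplicative (ZMod 3)))) ∧
    (∀ N₁ N₂ : Subgroup (alternatingGroup (Fin n)), Group.IsNilpotent N₁ → Group.IsNilpotent N₂ →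
      Nat.card N₁ = 3 * Nat.card P → Nat.card N₂ = 3 * Nat.card P →
      ∃ g : alternatingGroup (Fin n), N₂ = N₁.map (MulAut.conj g).toMonoidHom) := by
  haveI : Fact (Nat.Prime 2) := ⟨Nat.prime_two⟩
  obtain ⟨x, hx⟩ : ∃ x, n = 4 * x + 3 := ⟨n / 4, by omega⟩
  have hx1 : 1 ≤ x := by omega
  have hx' : n - 3 = 4 * x := by omega
  have hv : 1 ≤ Cfsg.Agent.Lib.Helper20.NilSym.v2f (4 * x) := by
    rw [Cfsg.Agent.Lib.Helper20.NilSym.v2f_four_mul]; omega
  haveI : Nontrivial (Fin (n - 3)) := by
    rw [← Finite.one_lt_card_iff_nontrivial, Nat.card_fin]; omega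
  have hP : Nat.card P = 2 ^ (Cfsg.Agent.Lib.Helper20.NilSym.v2f (4 * x) - 1) := by
    rw [P.card_eq_multiplicity]
    congr 1
    have h2 : 2 * Nat.card (alternatingGroup (Fin (n - 3))) = (n - 3).factorial := by
      rw [two_mul_nat_card_alternatingGroup, Nat.card_perm, Nat.card_fin]
    have hA0 : Nat.card (alternatingGroup (Fin (n - 3))) ≠ 0 := Nat.card_pos.ne'
    have h3 : Cfsg.Agent.Lib.Helper20.NilSym.v2f (n - 3) =
        1 + (Nat.card (alternatingGroup (Fin (n - 3)))).factorization 2 := by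
      rw [Cfsg.Agent.Lib.Helper20.NilSym.v2f, ← h2, Nat.factorization_mul two_ne_zero hA0]
      simp [Nat.Prime.factorization_self Nat.prime_two]
    have h4 : Cfsg.Agent.Lib.Helper20.NilSym.v2f (n - 3) =
        Cfsg.Agent.Lib.Helper20.NilSym.v2f (4 * x) := by rw [hx']
    omega
  have hcardn : Nat.card (Fin n) = 4 * x + 3 := by rw [Nat.card_fin, hx]
  -- transfer of subgroups of the alternating group to the symmetric group
  have htr : ∀ N : Subgroup (alternatingGroup (Fin n)), Group.IsNilpotent N →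
      Group.IsNilpotent (N.map (alternatingGroup (Fin n)).subtype) ∧
      Nat.card (N.map (alternatingGroup (Fin n)).subtype) = Nat.card N ∧
      ∀ g ∈ N.map (alternatingGroup (Fin n)).subtype, Equiv.Perm.sign g = 1 := by
    intro N hN
    let e : N ≃* N.map (alternatingGroup (Fin n)).subtype :=
      N.equivMapOfInjective _ (Subgroup.subtype_injective _)
    refine ⟨Group.nilpotent_of_surjective e.toMonoidHom e.surjective,
      (Nat.card_congr e.toEquiv).symm, ?_⟩
    rintro g ⟨a, -, rfl⟩
    exact Equiv.Perm.mem_alternatingGroup.mp a.2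
  refine ⟨?_, exists_extremal_alt n (by omega) P, ?_⟩
  · intro N hN
    obtain ⟨hN', hc', hev'⟩ := htr N hN
    have h1 := Cfsg.Agent.Lib.Helper20.NilSym.four_sq_card_le_E n (Fin n) (by simp) _ hN' hev'
    have hB : Cfsg.Agent.Lib.Helper20.NilSym.E n =
        (3 * 2 ^ Cfsg.Agent.Lib.Helper20.NilSym.v2f (4 * x)) ^ 2 := by
      rw [hx, Cfsg.Agent.Lib.Helper20.NilSym.E_of_ne (by omega) (by omega) (by omega) (by omega)
        (by omega) (by omega), Cfsg.Agent.Lib.Helper20.NilSym.sq_eq_B_three]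
    rw [hB, hc'] at h1
    have h2 : (2 * Nat.card N) ^ 2 ≤ (3 * 2 ^ Cfsg.Agent.Lib.Helper20.NilSym.v2f (4 * x)) ^ 2 := by
      rw [mul_pow]; norm_num; exact h1
    have h3 := (Nat.pow_le_pow_iff_left (by norm_num : (2 : ℕ) ≠ 0)).mp h2
    rw [hP]
    obtain ⟨s, hs⟩ : ∃ s, Cfsg.Agent.Lib.Helper20.NilSym.v2f (4 * x) = s + 1 :=
      ⟨Cfsg.Agent.Lib.Helper20.NilSym.v2f (4 * x) - 1, by omega⟩
    rw [hs, pow_succ] at h3
    rw [hs, Nat.add_sub_cancel]
    omega
  · intro N₁ N₂ h1 h2 hk1 hk2
    obtain ⟨hN1', hc1', hev1'⟩ := htr N₁ h1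
    obtain ⟨hN2', hc2', hev2'⟩ := htr N₂ h2
    rw [hP] at hk1 hk2
    obtain ⟨g, hgs, hg⟩ := Cfsg.Agent.Lib.Helper20.NilSym.conj_of_extremal_alt x hx1 hcardn _ _
      hN1' hN2' hev1' hev2' (by rw [hc1', hk1]) (by rw [hc2', hk2])
    refine ⟨⟨g, Equiv.Perm.mem_alternatingGroup.mpr hgs⟩, ?_⟩
    apply Subgroup.map_injective (Subgroup.subtype_injective (alternatingGroup (Fin n)))
    rw [hg, Subgroup.map_map, Subgroup.map_map]
    congr 1

end Cfsg.Agent.S2256
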