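import Cfsg.Statements.S2257
import Cfsg.Agent.Lib.Helper13.SolF
import Cfsg.Agent.Lib.Helper13.PSL2AltFour

set_option autoImplicit false
open Cfsg

namespace Cfsg.Agent.S2257

/-- Let G = PSL_2(F) with F a field of order q = 2^p, p prime, and for x ∈ G call the solubilizer of x the set of y ∈ G such that x and y generate a solvable subgroup. Then the solubilizer of an involution has 3q(q − 1) elements; that of a non-identity element of order dividing q − 1 has 2q(q − 1) elements; and that of a non-identity element of order dividing q + 1 has 2(q + 1) elements. -/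
theorem result (p : ℕ) (hp : p.Prime) {F : Type*} [Field F] [Fintype F]
    (hF : Fintype.card F = 2 ^ p) (x : Matrix.ProjectiveSpecialLinearGroup (Fin 2) F) :
    (orderOf x = 2 → Nat.card {y : Matrix.ProjectiveSpecialLinearGroup (Fin 2) F // Group.IsSolvable ↥(Subgroup.closure ({x, y} : Set (Matrix.ProjectiveSpecialLinearGroup (Fin 2) F)))} = 3 * 2 ^ p * (2 ^ p - 1)) ∧
    (x ≠ 1 → orderOf x ∣ 2 ^ p - 1 → Nat.card {y : Matrix.ProjectiveSpecialLinearGroup (Fin 2) F // Group.IsSolvable ↥(Subgroup.closure ({x, y} : Set (Matrix.ProjectiveSpecialLinearGroup (Fin 2) F)))} = 2 * 2 ^ p * (2 ^ p - 1)) ∧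
    (x ≠ 1 → orderOf x ∣ 2 ^ p + 1 → Nat.card {y : Matrix.ProjectiveSpecialLinearGroup (Fin 2) F // Group.IsSolvable ↥(Subgroup.closure ({x, y} : Set (Matrix.ProjectiveSpecialLinearGroup (Fin 2) F)))} = 2 * (2 ^ p + 1)) := by
  classical
  have h2 : (2 : F) = 0 := Cfsg.Agent.Lib.Helper13.Sol.two_eq_zero_of_card hp hF
  have hchar : CharP F 2 := CharTwo.of_one_ne_zero_of_two_eq_zero one_ne_zero h2
  have hbij : Function.Bijective
      (QuotientGroup.mk' (Subgroup.center (Matrix.SpecialLinearGroup (Fin 2) F))) :=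
    ⟨Cfsg.Agent.Lib.Helper13.mk_injective_of_char_two, QuotientGroup.mk'_surjective _⟩
  let e : Matrix.SpecialLinearGroup (Fin 2) F ≃* Matrix.ProjectiveSpecialLinearGroup (Fin 2) F :=
    MulEquiv.ofBijective _ hbij
  obtain ⟨x₀, rfl⟩ := e.surjective x
  have hcongr := Cfsg.Agent.Lib.Helper13.Sol.card_sol_congr e x₀
  have hord : orderOf (e x₀) = orderOf x₀ := MulEquiv.orderOf_eq e x₀
  have hne : e x₀ ≠ 1 → x₀ ≠ 1 := by
    intro h h'
    apply h
    rw [h', map_one]
  refine ⟨?_, ?_, ?_⟩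
  · intro h
    rw [hcongr, Cfsg.Agent.Lib.Helper13.Sol.card_sol_involution hp hF x₀ (hord ▸ h), hF]
  · intro h1 h
    rw [hcongr, Cfsg.Agent.Lib.Helper13.Sol.card_sol_split hp hF x₀ (hne h1) (hord ▸ h)]
  · intro h1 h
    rw [hcongr, Cfsg.Agent.Lib.Helper13.Sol.card_sol_nonsplit hp hF x₀ (hne h1) (hord ▸ h)]

end Cfsg.Agent.S2257
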