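import Cfsg.Statements.S2258
import Cfsg.Agent.Lib.Helper13.Sol3I

set_option autoImplicit false
open Cfsg

namespace Cfsg.Agent.S2258

/-- Let G = PSL_2(F) with F a field of order q = 3^p, p an odd prime, and for x ∈ G call the solubilizer of x the set of y ∈ G such that x and y generate a solvable subgroup. Then the solubilizer of an involution has q(q + 1) elements; that of an element of order 3 has q(q + 5)/2 elements; that of an element of order neither 1 nor 2 dividing q − 1 has q(q − 1) elements; and that of an element of order neither 1 nor 2 dividing q + 1 has q + 1 elements. -/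
theorem result (p : ℕ) (hp : p.Prime) (hodd : Odd p) {F : Type*} [Field F] [Fintype F]
    (hF : Fintype.card F = 3 ^ p) (x : Matrix.ProjectiveSpecialLinearGroup (Fin 2) F) :
    (orderOf x = 2 → Nat.card {y : Matrix.ProjectiveSpecialLinearGroup (Fin 2) F // Group.IsSolvable ↥(Subgroup.closure ({x, y} : Set (Matrix.ProjectiveSpecialLinearGroup (Fin 2) F)))} = 3 ^ p * (3 ^ p + 1)) ∧
    (orderOf x = 3 → 2 * Nat.card {y : Matrix.ProjectiveSpecialLinearGroup (Fin 2) F // Group.IsSolvable ↥(Subgroup.closure ({x, y} : Set (Matrix.ProjectiveSpecialLinearGroup (Fin 2) F)))} = 3 ^ p * (3 ^ p + 5)) ∧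
    (x ≠ 1 → orderOf x ≠ 2 → orderOf x ∣ 3 ^ p - 1 → Nat.card {y : Matrix.ProjectiveSpecialLinearGroup (Fin 2) F // Group.IsSolvable ↥(Subgroup.closure ({x, y} : Set (Matrix.ProjectiveSpecialLinearGroup (Fin 2) F)))} = 3 ^ p * (3 ^ p - 1)) ∧
    (x ≠ 1 → orderOf x ≠ 2 → orderOf x ∣ 3 ^ p + 1 → Nat.card {y : Matrix.ProjectiveSpecialLinearGroup (Fin 2) F // Group.IsSolvable ↥(Subgroup.closure ({x, y} : Set (Matrix.ProjectiveSpecialLinearGroup (Fin 2) F)))} = 3 ^ p + 1) := by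
  classical
  have h3 : (3 : F) = 0 := Cfsg.Agent.Lib.Helper13.Sol.three_eq_zero_of_card hp hF
  have h2 : (2 : F) ≠ 0 := Cfsg.Agent.Lib.Helper13.Sol.two_ne_zero_of_three h3
  have hq4 : 4 ≤ 3 ^ p := Cfsg.Agent.Lib.Helper13.Sol.three_pow_ge_four hp
  have hnot3m : ¬ 3 ∣ 3 ^ p - 1 := by
    intro h
    have h' : 3 ∣ 3 ^ p := dvd_pow_self 3 hp.ne_zero
    have := (Nat.dvd_sub h' h)
    have e : 3 ^ p - (3 ^ p - 1) = 1 := by omega
    rw [e] at this
    omega
  have hnot3p : ¬ 3 ∣ 3 ^ p + 1 := by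
    intro h
    have h' : 3 ∣ 3 ^ p := dvd_pow_self 3 hp.ne_zero
    have := (Nat.dvd_sub h h')
    have e : 3 ^ p + 1 - 3 ^ p = 1 := by omega
    rw [e] at this
    omega
  refine ⟨?_, ?_, ?_, ?_⟩
  · intro hx
    obtain ⟨g, rfl, hg0⟩ := Cfsg.Agent.Lib.Helper13.exists_lift_of_orderOf_two h2 x hx
    have hmk := Cfsg.Agent.Lib.Helper13.Sol.card_sol_mk h2 g
    rw [Cfsg.Agent.Lib.Helper13.Sol.card_sol_trace_zero hp hodd hF g hg0] at hmk
    have e : 2 * 3 ^ p * (3 ^ p + 1) = 2 * (3 ^ p * (3 ^ p + 1)) := by ring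
    rw [e] at hmk
    exact (Nat.eq_of_mul_eq_mul_left (by norm_num : 0 < 2) hmk).symm
  · intro hx
    obtain ⟨X₀, rfl⟩ := QuotientGroup.mk_surjective x
    have hpow : (QuotientGroup.mk X₀ : Matrix.ProjectiveSpecialLinearGroup (Fin 2) F) ^ 3 = 1 := by
      rw [← hx]; exact pow_orderOf_eq_one _
    have hne1 : (QuotientGroup.mk X₀ : Matrix.ProjectiveSpecialLinearGroup (Fin 2) F) ≠ 1 := by
      intro h
      rw [h, orderOf_one] at hx
      omega
    have hcen : X₀ ^ 3 ∈ Subgroup.center (Matrix.SpecialLinearGroup (Fin 2) F) := by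
      rw [← Cfsg.Agent.Lib.Helper13.mk_eq_one_iff', QuotientGroup.mk_pow]
      exact hpow
    -- choose a lift of order three
    obtain ⟨X, hXmk, hX3⟩ : ∃ X : Matrix.SpecialLinearGroup (Fin 2) F,
        (QuotientGroup.mk X : Matrix.ProjectiveSpecialLinearGroup (Fin 2) F) = QuotientGroup.mk X₀ ∧
        X ^ 3 = 1 := by
      rcases Cfsg.Agent.Lib.Helper13.center_cases _ hcen with h | h
      · exact ⟨X₀, rfl, h⟩
      · refine ⟨Cfsg.Agent.Lib.Helper13.zSL F * X₀, ?_, ?_⟩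
        · rw [QuotientGroup.mk_mul, Cfsg.Agent.Lib.Helper13.mk_zSL, one_mul]
        · have hz := Subgroup.mem_center_iff.mp (Cfsg.Agent.Lib.Helper13.zSL_mem_center (F := F))
          have hcomm : Commute (Cfsg.Agent.Lib.Helper13.zSL F) X₀ := (hz X₀).symm
          rw [hcomm.mul_pow, h, pow_succ, pow_two, Cfsg.Agent.Lib.Helper13.zSL_mul_self, one_mul,
            Cfsg.Agent.Lib.Helper13.zSL_mul_self]
    rw [← hXmk]
    have hXne : X ≠ 1 := by
      intro h
      apply hne1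
      rw [← hXmk, h]
      rfl
    have htr := Cfsg.Agent.Lib.Helper13.Sol.trace_eq_two_of_pow_three h3 X hX3 hXne
    obtain ⟨Θ, hΘ⟩ := Cfsg.Agent.Lib.Helper13.Sol.exists_tw_tSL_one X htr hXne
    have hmk := Cfsg.Agent.Lib.Helper13.Sol.card_sol_mk h2 X
    rw [← Cfsg.Agent.Lib.Helper13.Sol.card_sol_tw Θ X, hΘ,
      Cfsg.Agent.Lib.Helper13.Sol.card_sol_tSL_one hp hodd hF, hF] at hmk
    exact hmk.symm
  · intro hx1 hx2 hxd
    obtain ⟨X, rfl⟩ := QuotientGroup.mk_surjective x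
    have hco : ¬ 3 ∣ orderOf (QuotientGroup.mk X : Matrix.ProjectiveSpecialLinearGroup (Fin 2) F) :=
      fun h => hnot3m (h.trans hxd)
    obtain ⟨htr, hx4⟩ := Cfsg.Agent.Lib.Helper13.Sol.lift_facts hp hodd hF X hx1 hx2 hco
    have hsplit : ∃ a : F, a * ((X : Matrix (Fin 2) (Fin 2) F).trace - a) = 1 := by
      by_contra hns
      push Not at hns
      have hc := Cfsg.Agent.Lib.Helper13.card_centralizer_nonsplit X hx4 hns
      have h1 := Cfsg.Agent.Lib.Helper13.Sol.orderOf_dvd_card_centralizer X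
      rw [hc, hF] at h1
      have h5 := (Cfsg.Agent.Lib.Helper13.Sol.orderOf_mk_dvd X).trans h1
      have h6 : orderOf (QuotientGroup.mk X : Matrix.ProjectiveSpecialLinearGroup (Fin 2) F) ∣ 2 := by
        have := Nat.dvd_sub h5 hxd
        have e : 3 ^ p + 1 - (3 ^ p - 1) = 2 := by omega
        rwa [e] at this
      rcases (Nat.dvd_prime Nat.prime_two).mp h6 with h | h
      · exact hx1 (orderOf_eq_one_iff.mp h)
      · exact hx2 h
    obtain ⟨a, ha⟩ := hsplit
    have hmk := Cfsg.Agent.Lib.Helper13.Sol.card_sol_mk h2 X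
    rw [Cfsg.Agent.Lib.Helper13.Sol.card_sol_split3 hp hodd hF X htr hx4 a ha] at hmk
    have e : 2 * 3 ^ p * (3 ^ p - 1) = 2 * (3 ^ p * (3 ^ p - 1)) := by ring
    rw [e] at hmk
    exact (Nat.eq_of_mul_eq_mul_left (by norm_num : 0 < 2) hmk).symm
  · intro hx1 hx2 hxd
    obtain ⟨X, rfl⟩ := QuotientGroup.mk_surjective x
    have hco : ¬ 3 ∣ orderOf (QuotientGroup.mk X : Matrix.ProjectiveSpecialLinearGroup (Fin 2) F) :=
      fun h => hnot3p (h.trans hxd)
    obtain ⟨htr, hx4⟩ := Cfsg.Agent.Lib.Helper13.Sol.lift_facts hp hodd hF X hx1 hx2 hco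
    have hns : ∀ a : F, a * ((X : Matrix (Fin 2) (Fin 2) F).trace - a) ≠ 1 := by
      intro a ha
      have hc := Cfsg.Agent.Lib.Helper13.card_centralizer_split X hx4 a ha
      have h1 := Cfsg.Agent.Lib.Helper13.Sol.orderOf_dvd_card_centralizer X
      rw [hc, hF] at h1
      have h5 := (Cfsg.Agent.Lib.Helper13.Sol.orderOf_mk_dvd X).trans h1
      have h6 : orderOf (QuotientGroup.mk X : Matrix.ProjectiveSpecialLinearGroup (Fin 2) F) ∣ 2 := by
        have := Nat.dvd_sub hxd h5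
        have e : 3 ^ p + 1 - (3 ^ p - 1) = 2 := by omega
        rwa [e] at this
      rcases (Nat.dvd_prime Nat.prime_two).mp h6 with h | h
      · exact hx1 (orderOf_eq_one_iff.mp h)
      · exact hx2 h
    have hmk := Cfsg.Agent.Lib.Helper13.Sol.card_sol_mk h2 X
    rw [Cfsg.Agent.Lib.Helper13.Sol.card_sol_nonsplit3 hp hodd hF X htr hx4 hns] at hmk
    exact (Nat.eq_of_mul_eq_mul_left (by norm_num : 0 < 2) hmk).symm

end Cfsg.Agent.S2258
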