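import Cfsg.Statements.S2260
-- import your own Cfsg.Agent.* helpers here

set_option autoImplicit false
open Cfsg

namespace Cfsg.Agent.S2260

theorem nilp_pow {F : Type*} [Field F] {d : ℕ} (N : Matrix (Fin d) (Fin d) F) (h : IsNilpotent N) :
    N ^ d = 0 := by
  have h1 := Matrix.isNilpotent_charpoly_sub_pow_of_isNilpotent h
  have h2 : N.charpoly = Polynomial.X ^ d := by
    have := h1.eq_zero
    simpa [sub_eq_zero] using this
  have h3 := Matrix.aeval_self_charpoly N
  rw [h2] at h3
  simpa using h3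

theorem pow_char_pow {F : Type*} [Field F] (p : ℕ) [Fact p.Prime] [CharP F p] {d : ℕ}
    (u : GL (Fin d) F) (k : ℕ) :
    ((u ^ (p ^ k) : GL (Fin d) F) : Matrix (Fin d) (Fin d) F) - 1 =
      ((u : Matrix (Fin d) (Fin d) F) - 1) ^ (p ^ k) := by
  have : CharP (Matrix (Fin d) (Fin d) F) p ∨ d = 0 := by
    rcases Nat.eq_zero_or_pos d with h | h
    · right; exact h
    · left
      have : Nonempty (Fin d) := ⟨⟨0, h⟩⟩
      infer_instance
  rcases this with hc | hd
  · have hcomm : Commute ((u : Matrix (Fin d) (Fin d) F)) 1 := Commute.one_right _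
    rw [sub_pow_char_pow_of_commute p k hcomm]
    simp
  · subst hd
    ext i
    exact i.elim0

/-- Let F be a finite field of prime characteristic p and u an invertible d × d matrix over F with u − 1 nilpotent (a unipotent element). Then the order of u is at most p^⌈log_p d⌉; and if moreover (u − 1)^(d−1) ≠ 0 (u is a single Jordan block) then the order of u is exactly p^⌈log_p d⌉. -/
theorem result {F : Type*} [Field F] [Finite F] (p : ℕ) [Fact p.Prime] [CharP F p] (d : ℕ)
    (u : GL (Fin d) F) (hu : IsNilpotent ((u : Matrix (Fin d) (Fin d) F) - 1)) :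
    orderOf u ≤ p ^ Nat.clog p d ∧
    (((u : Matrix (Fin d) (Fin d) F) - 1) ^ (d - 1) ≠ 0 → orderOf u = p ^ Nat.clog p d) := by
  have hp : p.Prime := Fact.out
  have hNd := nilp_pow _ hu
  have hle : d ≤ p ^ Nat.clog p d := Nat.le_pow_clog hp.one_lt d
  have hpow : u ^ (p ^ Nat.clog p d) = 1 := by
    apply Units.ext
    have h0 : ((u : Matrix (Fin d) (Fin d) F) - 1) ^ (p ^ Nat.clog p d) = 0 := by
      rw [← Nat.sub_add_cancel hle, pow_add, hNd, mul_zero]
    have := pow_char_pow p u (Nat.clog p d)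
    rw [h0, sub_eq_zero] at this
    simpa using this
  have hdvd : orderOf u ∣ p ^ Nat.clog p d := orderOf_dvd_of_pow_eq_one hpow
  refine ⟨Nat.le_of_dvd (pow_pos hp.pos _) hdvd, fun hne => ?_⟩
  obtain ⟨j, hj, hju⟩ := (Nat.dvd_prime_pow hp).1 hdvd
  rw [hju]
  congr 1
  by_contra hjne
  have hjlt : j < Nat.clog p d := lt_of_le_of_ne hj hjne
  have hlt : p ^ j < d := by
    by_contra hcon
    rw [not_lt] at hcon
    have := (Nat.clog_le_iff_le_pow hp.one_lt).2 hcon
    omega
  have h1 : u ^ (p ^ j) = 1 := by rw [← hju]; exact pow_orderOf_eq_one u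
  have h2 := pow_char_pow p u j
  rw [h1] at h2
  simp only [Units.val_one, sub_self] at h2
  apply hne
  have : d - 1 = p ^ j + (d - 1 - p ^ j) := by omega
  rw [this, pow_add, ← h2, zero_mul]

end Cfsg.Agent.S2260
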