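import Cfsg.Statements.S2265
import Cfsg.Agent.Lib.Helper10.EOrdO
import Cfsg.Agent.Lib.Helper10.EOrdP1
import Cfsg.Agent.Lib.Helper9.EOrdG2
import Cfsg.Agent.Lib.Helper7.EOrdP7
import Cfsg.Agent.Lib.Helper23.EOrdQ1
import Cfsg.Agent.Lib.Helper23.EOrdQ2
import Cfsg.Agent.Lib.Helper23.EOrdQ3

set_option autoImplicit false
open Cfsg

namespace Cfsg.Agent.S2265

open Polynomial Matrix

private theorem ringChar_ne_two_of_odd {F : Type*} [Field F] [Fintype F]
    (h : Odd (Fintype.card F)) : ringChar F ≠ 2 := by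
  intro h2
  have h3 : Fintype.card F % 2 = 0 := FiniteField.even_card_of_char_two (F := F) h2
  rcases h with ⟨k, hk⟩
  omega

private theorem two_ne_zero_of_odd {F : Type*} [Field F] [Fintype F]
    (h : Odd (Fintype.card F)) : (2 : F) ≠ 0 := by
  intro h2
  apply ringChar_ne_two_of_odd h
  have hd : ringChar F ∣ 2 := by
    apply ringChar.dvd
    exact_mod_cast h2
  rcases (Nat.dvd_prime Nat.prime_two).1 hd with h1 | h1
  · exact absurd h1 (CharP.ringChar_ne_one (R := F))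
  · exact h1

/-- Let F be a finite field with q elements. Every element g of PΩ_(2m+1)(F) (m ≥ 3, q odd), of PΩ⁺_2m(F) (m ≥ 4), or of PΩ⁻_2m(F) (m ≥ 4, the form having an anisotropic binary part) satisfies (q − 1)·|g| ≤ q^(m+1), i.e. has order at most q^(m+1)/(q − 1). -/
theorem result {F : Type*} [Field F] [Fintype F] (m : ℕ) :
    (3 ≤ m → Odd (Fintype.card F) → ∀ g : Cfsg.POmega F (Cfsg.quadFormOdd m F),
      (Fintype.card F - 1) * orderOf g ≤ Fintype.card F ^ (m + 1)) ∧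
    (4 ≤ m → ∀ g : Cfsg.POmega F (Cfsg.quadFormPlus m F),
      (Fintype.card F - 1) * orderOf g ≤ Fintype.card F ^ (m + 1)) ∧
    (4 ≤ m → ∀ a b : F, (∀ z₁ z₂ : F, z₁ ^ 2 + a * z₁ * z₂ + b * z₂ ^ 2 = 0 → z₁ = 0 ∧ z₂ = 0) →
      ∀ g : Cfsg.POmega F (Cfsg.quadFormMinus (m - 1) F a b),
      (Fintype.card F - 1) * orderOf g ≤ Fintype.card F ^ (m + 1)) := by
  have hP7 : ∀ (P : F[X]) (m : ℕ), 3 ≤ m →
      (P.natDegree = 2 * m ∨ (P.natDegree = 2 * m + 1 ∧ ringChar F ≠ 2)) → P.coeff 0 ≠ 0 →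
      Associated P.mirror P →
      ∃ N, 1 ≤ N ∧ (Fintype.card F - 1) * N ≤ Fintype.card F ^ (m + 1) ∧ P ∣ X ^ N - 1 :=
    fun P m hm hdeg h0 hmir =>
      Cfsg.Agent.Lib.Helper7.EOrdP7.poly_order_ge_three P m hm hdeg h0 hmir
  refine ⟨?_, ?_, ?_⟩
  · intro hm hodd g
    obtain ⟨M, hM, hpol⟩ :=
      Cfsg.Agent.Lib.Helper23.EOrdQ2.polar_odd (F := F) m (two_ne_zero_of_odd hodd)
    refine Cfsg.Agent.Lib.Helper10.EOrdO.pomega_order_of_leaves hP7
      (fun A N => Cfsg.Agent.Lib.Helper10.EOrdP1.pow_eq_of_charpoly_dvd A N)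
      (fun A M hM h => Cfsg.Agent.Lib.Helper9.EOrdG2.charpoly_mirror_of_preserves A M hM h)
      (Cfsg.quadFormOdd m F) M hM hpol m hm ?_ g
    right
    refine ⟨?_, ringChar_ne_two_of_odd hodd⟩
    simp only [Fintype.card_sum, Fintype.card_fin, Fintype.card_unit]
    ring
  · intro hm g
    obtain ⟨M, hM, hpol⟩ := Cfsg.Agent.Lib.Helper23.EOrdQ1.polar_plus (F := F) m
    refine Cfsg.Agent.Lib.Helper10.EOrdO.pomega_order_of_leaves hP7
      (fun A N => Cfsg.Agent.Lib.Helper10.EOrdP1.pow_eq_of_charpoly_dvd A N)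
      (fun A M hM h => Cfsg.Agent.Lib.Helper9.EOrdG2.charpoly_mirror_of_preserves A M hM h)
      (Cfsg.quadFormPlus m F) M hM hpol m (by omega) ?_ g
    left
    simp only [Fintype.card_sum, Fintype.card_fin]
    ring
  · intro hm a b hab g
    obtain ⟨M, hM, hpol⟩ :=
      Cfsg.Agent.Lib.Helper23.EOrdQ3.polar_minus (F := F) (m - 1) a b hab
    refine Cfsg.Agent.Lib.Helper10.EOrdO.pomega_order_of_leaves hP7
      (fun A N => Cfsg.Agent.Lib.Helper10.EOrdP1.pow_eq_of_charpoly_dvd A N)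
      (fun A M hM h => Cfsg.Agent.Lib.Helper9.EOrdG2.charpoly_mirror_of_preserves A M hM h)
      (Cfsg.quadFormMinus (m - 1) F a b) M hM hpol m (by omega) ?_ g
    left
    simp only [Fintype.card_sum, Fintype.card_fin]
    omega

end Cfsg.Agent.S2265
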