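import Cfsg.Statements.S2268
-- import your own Cfsg.Agent.* helpers here

set_option autoImplicit false
open Cfsg

namespace Cfsg.Agent.S2268

open Subgroup in
theorem frattini_step {G : Type*} [Group G] [Finite G] {p : ℕ} [Fact p.Prime]
    (P : Sylow p G) (hP : IsMulCommutative (P : Subgroup G)) (Q : Subgroup G) (hQ : Q ≤ (P : Subgroup G)) :
    normalizer (Q : Set G) ≤
      (normalizer (Q : Set G) ⊓ normalizer ((P : Subgroup G) : Set G)) ⊔ centralizer (Q : Set G) := by
  intro g hg
  -- P ≤ C(Q)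
  have h1 : (P : Subgroup G) ≤ centralizer (Q : Set G) := by
    intro x hx q hq
    have := hP.is_comm.comm (⟨q, hQ hq⟩ : (P : Subgroup G)) ⟨x, hx⟩
    exact congrArg Subtype.val this
  -- g • P ≤ C(Q)
  have h2 : ((g • P : Sylow p G) : Subgroup G) ≤ centralizer (Q : Set G) := by
    intro y hy
    rw [Sylow.coe_subgroup_smul, Subgroup.mem_pointwise_smul_iff_inv_smul_mem] at hy
    simp only [MulAut.smul_def, map_inv, MulAut.inv_apply, MulAut.conj_symm_apply] at hy
    intro q hq
    -- y commutes with q since g⁻¹ y g ∈ P commutes with g⁻¹ q g ∈ Q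
    have hq' : g⁻¹ * q * g ∈ Q := by
      have := (mem_set_normalizer_iff.mp (inv_mem hg) q).1 hq
      simpa using this
    have hc := h1 hy (g⁻¹ * q * g) hq'
    calc q * y = g * ((g⁻¹ * q * g) * (g⁻¹ * y * g)) * g⁻¹ := by group
      _ = g * ((g⁻¹ * y * g) * (g⁻¹ * q * g)) * g⁻¹ := by rw [hc]
      _ = y * q := by group
  obtain ⟨h, hh⟩ :=
    MulAction.exists_smul_eq (centralizer (Q : Set G)) ((g • P).subtype h2) (P.subtype h1)
  simp_rw [Sylow.smul_subtype, Subgroup.smul_def, smul_smul] at hh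
  have hn : (h : G) * g ∈ normalizer ((P : Subgroup G) : Set G) :=
    Sylow.smul_eq_iff_mem_normalizer.mp (Sylow.subtype_injective hh)
  have hhQ : (h : G) ∈ normalizer (Q : Set G) := centralizer_le_normalizer _ h.2
  have : g = ((h : G) * g) * (g⁻¹ * (h : G)⁻¹ * g) := by group
  rw [this]
  refine mul_mem_sup ⟨mul_mem hhQ hg, hn⟩ ?_
  -- g⁻¹ h⁻¹ g ∈ C(Q) because g normalizes Q
  intro q hq
  have hq' : g * q * g⁻¹ ∈ Q := (mem_set_normalizer_iff.mp hg q).1 hq
  have hc := (inv_mem h.2 : (h : G)⁻¹ ∈ centralizer (Q : Set G)) (g * q * g⁻¹) hq'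
  calc q * (g⁻¹ * (h : G)⁻¹ * g) = g⁻¹ * ((g * q * g⁻¹) * (h : G)⁻¹) * g := by group
    _ = g⁻¹ * ((h : G)⁻¹ * (g * q * g⁻¹)) * g := by rw [hc]
    _ = g⁻¹ * (h : G)⁻¹ * g * q := by group

open Subgroup in
/-- Let G be a finite group with an abelian Sylow p-subgroup P and let Q ≤ P. Then N_G(Q) = (N_G(Q) ∩ N_G(P))·C_G(Q), so that N_G(Q)/C_G(Q) is a homomorphic image of the subgroup (N_G(Q) ∩ N_G(P))/C_G(P) of N_G(P)/C_G(P); in particular the order of N_G(Q)/C_G(Q) divides the order of N_G(P)/C_G(P). -/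
theorem result {G : Type*} [Group G] [Finite G] {p : ℕ} [Fact p.Prime]
    (P : Sylow p G) (hP : IsMulCommutative (P : Subgroup G)) (Q : Subgroup G) (hQ : Q ≤ (P : Subgroup G)) :
    Subgroup.normalizer (Q : Set G) =
      (Subgroup.normalizer (Q : Set G) ⊓ Subgroup.normalizer ((P : Subgroup G) : Set G)) ⊔ Subgroup.centralizer (Q : Set G) ∧
    ((Subgroup.centralizer (Q : Set G)).subgroupOf (Subgroup.normalizer (Q : Set G))).index ∣ ((Subgroup.centralizer ((P : Subgroup G) : Set G)).subgroupOf (Subgroup.normalizer ((P : Subgroup G) : Set G))).index := by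
  have hF := frattini_step P hP Q hQ
  have heq : Subgroup.normalizer (Q : Set G) =
      (Subgroup.normalizer (Q : Set G) ⊓ Subgroup.normalizer ((P : Subgroup G) : Set G)) ⊔ Subgroup.centralizer (Q : Set G) :=
    le_antisymm hF (sup_le inf_le_left (centralizer_le_normalizer _))
  refine ⟨heq, ?_⟩
  set NQ := normalizer (Q : Set G) with hNQ
  set NP := normalizer ((P : Subgroup G) : Set G) with hNP
  set CQ := centralizer (Q : Set G) with hCQ
  set CP := centralizer ((P : Subgroup G) : Set G) with hCP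
  set A := NQ ⊓ NP with hA
  have hCQN : CQ ≤ NQ := centralizer_le_normalizer _
  have hCPN : CP ≤ NP := centralizer_le_normalizer _
  have hCPCQ : CP ≤ CQ := centralizer_le hQ
  have hCPA : CP ≤ A := le_inf (hCPCQ.trans hCQN) hCPN
  -- index of CQ in NQ equals relIndex CQ A
  have hnormal : (CQ.subgroupOf NQ).Normal := normal_subgroupOf_centralizer_normalizer _
  have hsup : A.subgroupOf NQ ⊔ CQ.subgroupOf NQ = ⊤ := by
    rw [← subgroupOf_sup inf_le_left hCQN, ← heq, subgroupOf_self]
  have h1 : (CQ.subgroupOf NQ).index = CQ.relIndex A := by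
    have := relIndex_sup_right (H := A.subgroupOf NQ) (K := CQ.subgroupOf NQ)
    rw [hsup, relIndex_top_right, relIndex_subgroupOf inf_le_left] at this
    exact this
  rw [h1]
  change CQ.relIndex A ∣ CP.relIndex NP
  have h2 : CQ.relIndex A ∣ CP.relIndex A := relIndex_dvd_of_le_left A hCPCQ
  have h3 : CP.relIndex A * A.relIndex NP = CP.relIndex NP := relIndex_mul_relIndex _ _ _ hCPA inf_le_right
  exact h2.trans (Dvd.intro _ h3)

end Cfsg.Agent.S2268
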