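import Cfsg.Statements.S2270
-- import your own Cfsg.Agent.* helpers here

set_option autoImplicit false
open Cfsg

namespace Cfsg.Agent.S2270

open Subgroup in
/-- If some element `x` of odd prime order of an abelian Sylow `p`-subgroup `P` is conjugate in `G` to its
inverse then `N(P)/C(P)` has even order. -/
theorem even_automizer {G : Type*} [Group G] [Finite G] {p : ℕ} [Fact p.Prime] (hp : p ≠ 2)
    (P : Sylow p G) (hP : IsMulCommutative (P : Subgroup G)) (x : G) (hx : x ∈ (P : Subgroup G))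
    (hxo : orderOf x = p) (hconj : IsConj x x⁻¹) :
    2 ∣ ((centralizer ((P : Subgroup G) : Set G)).subgroupOf (normalizer ((P : Subgroup G) : Set G))).index := by
  have : IsMulCommutative P := hP
  obtain ⟨g, hg⟩ := isConj_iff.mp hconj
  -- g * x * g⁻¹ = x⁻¹ ; use fusion with g⁻¹
  have hy : (g⁻¹)⁻¹ * x * g⁻¹ ∈ P := by
    rw [inv_inv, hg]; exact inv_mem hx
  obtain ⟨m, hm, hmx⟩ := P.conj_eq_normalizer_conj_of_mem x g⁻¹ hx hy
  rw [inv_inv, hg] at hmx
  -- hmx : x⁻¹ = m⁻¹ * x * m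
  set K := (centralizer ((P : Subgroup G) : Set G)).subgroupOf (normalizer ((P : Subgroup G) : Set G)) with hK
  have hnormal : K.Normal := normal_subgroupOf_centralizer_normalizer _
  let q : (normalizer ((P : Subgroup G) : Set G)) ⧸ K := QuotientGroup.mk ⟨m, hm⟩
  have hdvd : orderOf q ∣ K.index := by
    rw [index_eq_card]; exact orderOf_dvd_natCard q
  refine dvd_trans ?_ hdvd
  -- 2 ∣ orderOf q
  by_contra hodd
  have hodd' : Odd (orderOf q) := Nat.odd_iff.mpr (Nat.two_dvd_ne_zero.mp hodd)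
  obtain ⟨k, hk⟩ := hodd'
  have hq1 : q ^ (2 * k + 1) = 1 := by rw [← hk]; exact pow_orderOf_eq_one q
  have hmem : (⟨m, hm⟩ : normalizer ((P : Subgroup G) : Set G)) ^ (2 * k + 1) ∈ K := by
    rw [← QuotientGroup.eq_one_iff]; exact hq1
  have hmemC : m ^ (2 * k + 1) ∈ centralizer ((P : Subgroup G) : Set G) := by
    have := hmem
    rw [hK, mem_subgroupOf] at this
    simpa using this
  have hcomm : x * m ^ (2 * k + 1) = m ^ (2 * k + 1) * x := hmemC x hx
  set φ : MulAut G := MulAut.conj m⁻¹ with hφ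
  have hφx : φ x = x⁻¹ := by
    rw [hφ, MulAut.conj_apply, inv_inv]; exact hmx.symm
  have hφ2 : φ (φ x) = x := by rw [hφx, map_inv, hφx, inv_inv]
  have hind : ∀ j : ℕ, (φ ^ (2 * j + 1)) x = x⁻¹ := by
    intro j
    induction j with
    | zero => simpa using hφx
    | succ j ih =>
      have : 2 * (j + 1) + 1 = (2 * j + 1) + 2 := by ring
      rw [this, pow_add, MulAut.mul_apply, pow_two, MulAut.mul_apply, hφ2, ih]
  have hfix : (φ ^ (2 * k + 1)) x = x := by
    rw [hφ, ← map_pow, MulAut.conj_apply, inv_pow, inv_inv]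
    rw [mul_assoc, hcomm, ← mul_assoc, inv_mul_cancel, one_mul]
  have hxx : x = x⁻¹ := hfix.symm.trans (hind k)
  have hx2 : x ^ 2 = 1 := by
    rw [pow_two]; nth_rewrite 2 [hxx]; exact mul_inv_cancel x
  have : p ∣ 2 := by rw [← hxo]; exact orderOf_dvd_of_pow_eq_one hx2
  have hp' : p.Prime := Fact.out
  exact hp ((Nat.prime_dvd_prime_iff_eq hp' Nat.prime_two).mp this)

/-- Let n ≥ 3, p an odd prime, and P an abelian Sylow p-subgroup of the symmetric group S_n (with p dividing n!, so that P ≠ 1). Then N(P)/C(P) has even order. -/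
theorem result (n : ℕ) (hn : 3 ≤ n) {p : ℕ} [Fact p.Prime] (hp : p ≠ 2) (hpn : p ≤ n)
    (P : Sylow p (Equiv.Perm (Fin n))) (hP : IsMulCommutative (P : Subgroup (Equiv.Perm (Fin n)))) :
    2 ∣ ((Subgroup.centralizer ((P : Subgroup (Equiv.Perm (Fin n))) : Set (Equiv.Perm (Fin n)))).subgroupOf (Subgroup.normalizer ((P : Subgroup (Equiv.Perm (Fin n))) : Set (Equiv.Perm (Fin n))))).index := by
  have hp' : p.Prime := Fact.out
  have hcard : p ∣ Nat.card (Equiv.Perm (Fin n)) := by
    rw [Nat.card_eq_fintype_card, Fintype.card_perm, Fintype.card_fin]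
    exact Nat.dvd_factorial hp'.pos hpn
  have hPcard : p ∣ Nat.card (P : Subgroup (Equiv.Perm (Fin n))) := P.dvd_card_of_dvd_card hcard
  obtain ⟨x, hx⟩ := exists_prime_orderOf_dvd_card' p hPcard
  refine even_automizer hp P hP (x : Equiv.Perm (Fin n)) x.2 ?_ ?_
  · rw [Subgroup.orderOf_coe]; exact hx
  · rw [Equiv.Perm.isConj_iff_cycleType_eq, Equiv.Perm.cycleType_inv]

end Cfsg.Agent.S2270
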