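import Cfsg.Statements.S2277
import Mathlib
import Cfsg.Agent.Lib.Helper9.CoprimeSylow
-- import your own Cfsg.Agent.* helpers here

set_option autoImplicit false
open Cfsg

namespace Cfsg.Agent.S2277

open Subgroup
open scoped commutatorElement

universe u

/-- the hypotheses of the statement, bundled -/
structure Hyp (p : ℕ) [Fact p.Prime] {G : Type u} [Group G] (P : Sylow p G) (N : Subgroup G)
    (C D : Set G) : Prop where
  normal : N.Normal
  coprime : (Nat.card N).Coprime p
  sup : N ⊔ (P : Subgroup G) = ⊤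
  hC : Subgroup.closure C = (P : Subgroup G)
  hD : Subgroup.closure D = (P : Subgroup G)
  h : ∀ x ∈ N, ∀ c ∈ C, ∀ d ∈ D, IsPGroup p ↥(Subgroup.closure ({x * c * x⁻¹, d} : Set G))

section transfer

variable {p : ℕ} [Fact p.Prime] {G : Type u} [Group G] [Finite G] {P : Sylow p G} {N : Subgroup G}
  {C D : Set G}

omit [Finite G] in
theorem closure_preimage_subtype (H : Subgroup G) (S : Set G) (hS : Subgroup.closure S ≤ H) :
    Subgroup.closure (H.subtype ⁻¹' S) = (Subgroup.closure S).subgroupOf H := by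
  apply Subgroup.map_injective H.subtype_injective
  rw [MonoidHom.map_closure, Set.image_preimage_eq_of_subset, Subgroup.subgroupOf_map_subtype,
    inf_eq_left.mpr hS]
  intro s hs
  have : s ∈ H := hS (Subgroup.subset_closure hs)
  exact ⟨⟨s, this⟩, rfl⟩

omit [Finite G] in
/-- transfer of the hypotheses to a subgroup containing `P` -/
theorem Hyp.toSubgroup (hyp : Hyp p P N C D) (H : Subgroup G) (hle : (P : Subgroup G) ≤ H) :
    Hyp p (P.subtype hle) (N.subgroupOf H) (H.subtype ⁻¹' C) (H.subtype ⁻¹' D) := by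
  have hn := hyp.normal
  refine ⟨inferInstance, ?_, ?_, ?_, ?_, ?_⟩
  · apply Nat.Coprime.coprime_dvd_left _ hyp.coprime
    have : Nat.card (N.subgroupOf H) = Nat.card (N ⊓ H : Subgroup G) := by
      rw [← Subgroup.subgroupOf_map_subtype, Subgroup.card_map_of_injective H.subtype_injective]
    rw [this]
    exact Subgroup.card_dvd_of_le inf_le_left
  · rw [eq_top_iff]
    rintro ⟨h, hh⟩ -
    have : h ∈ N ⊔ (P : Subgroup G) := hyp.sup ▸ Subgroup.mem_top h
    obtain ⟨n, hn', g, hg, rfl⟩ := Subgroup.mem_sup_of_normal_left.mp this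
    have hgH : g ∈ H := hle hg
    have hnH : n ∈ H := by
      have := H.mul_mem hh (H.inv_mem hgH)
      simpa using this
    have e : (⟨n * g, hh⟩ : H) = ⟨n, hnH⟩ * ⟨g, hgH⟩ := rfl
    rw [e]
    apply Subgroup.mul_mem_sup
    · exact Subgroup.mem_subgroupOf.mpr hn'
    · rw [Sylow.coe_subtype]; exact Subgroup.mem_subgroupOf.mpr hg
  · rw [Sylow.coe_subtype, closure_preimage_subtype H C (hyp.hC ▸ hle), hyp.hC]
  · rw [Sylow.coe_subtype, closure_preimage_subtype H D (hyp.hD ▸ hle), hyp.hD]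
  · intro x hx c hc d hd
    have h1 := hyp.h (x : G) (Subgroup.mem_subgroupOf.mp hx) (c : G) hc (d : G) hd
    have h2 : (Subgroup.closure ({x * c * x⁻¹, d} : Set H)).map H.subtype =
        Subgroup.closure ({(x : G) * c * (x : G)⁻¹, (d : G)} : Set G) := by
      rw [MonoidHom.map_closure, Set.image_pair]
      rfl
    rw [← h2] at h1
    exact h1.of_equiv
      ((Subgroup.closure ({x * c * x⁻¹, d} : Set H)).equivMapOfInjective H.subtype
        H.subtype_injective).symm

/-- transfer of the hypotheses to a quotient -/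
theorem Hyp.toQuotient (hyp : Hyp p P N C D) (M : Subgroup G) [M.Normal] :
    Hyp p (P.mapSurjective (QuotientGroup.mk'_surjective M)) (N.map (QuotientGroup.mk' M))
      ((QuotientGroup.mk' M) '' C) ((QuotientGroup.mk' M) '' D) := by
  have hn := hyp.normal
  have hsurj := QuotientGroup.mk'_surjective M
  refine ⟨Subgroup.Normal.map hn _ hsurj, ?_, ?_, ?_, ?_, ?_⟩
  · exact Nat.Coprime.coprime_dvd_left (Subgroup.card_map_dvd _ _) hyp.coprime
  · rw [Sylow.coe_mapSurjective, ← Subgroup.map_sup, hyp.sup, Subgroup.map_top_of_surjective _ hsurj]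
  · rw [Sylow.coe_mapSurjective, ← MonoidHom.map_closure, hyp.hC]
  · rw [Sylow.coe_mapSurjective, ← MonoidHom.map_closure, hyp.hD]
  · rintro _ ⟨x, hx, rfl⟩ _ ⟨c, hc, rfl⟩ _ ⟨d, hd, rfl⟩
    have h1 := (hyp.h x hx c hc d hd).map (QuotientGroup.mk' M)
    rw [MonoidHom.map_closure, Set.image_pair, map_mul, map_mul, map_inv] at h1
    exact h1

end transfer

section indep
open Finset

theorem end_mul_apply {V : Type*} [AddCommGroup V] (f g : AddMonoid.End V) (v : V) :
    (f * g) v = f (g v) := rfl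

/-- abstract independence of "eigenspaces" of `γ` for the "eigenvalues" `ζ ^ i` -/
theorem indep_aux {V : Type*} [AddCommGroup V] (p : ℕ) (hp : p.Prime)
    (htors : ∀ v : V, p • v = 0 → v = 0)
    (γ ζ : AddMonoid.End V) (hcomm : Commute γ ζ) (hζp : ζ ^ p = 1)
    (hfix : ∀ v : V, ζ v = v → v = 0)
    (w : ℕ → V) (hw : ∀ i < p, γ (w i) = (ζ ^ i) (w i))
    (hsum : ∑ i ∈ Finset.range p, w i = 0) : ∀ i < p, w i = 0 := by
  intro i0 hi0
  -- θ = ζ^(p - i0) * γ
  obtain ⟨θ, hθ⟩ : ∃ θ : AddMonoid.End V, θ = ζ ^ (p - i0) * γ := ⟨_, rfl⟩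
  have hθζ : Commute θ ζ := by
    rw [hθ]
    exact ((Commute.refl ζ).pow_left _).mul_left hcomm
  -- action of θ^k on w i
  have hpow : ∀ i < p, ∀ k : ℕ, (θ ^ k) (w i) = ((ζ ^ (p - i0 + i)) ^ k) (w i) := by
    intro i hi k
    induction k with
    | zero => simp
    | succ k ih =>
      rw [pow_succ, end_mul_apply, pow_succ, end_mul_apply]
      have h1 : θ (w i) = (ζ ^ (p - i0 + i)) (w i) := by
        rw [hθ, end_mul_apply, hw i hi, ← end_mul_apply, ← pow_add]
      rw [h1]
      have hc : Commute (θ ^ k) (ζ ^ (p - i0 + i)) := (hθζ.pow_left k).pow_right _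
      have h2 : (θ ^ k) ((ζ ^ (p - i0 + i)) (w i)) = (ζ ^ (p - i0 + i)) ((θ ^ k) (w i)) := by
        rw [← end_mul_apply, hc.eq, end_mul_apply]
      rw [h2, ih]
      have hc2 : Commute (ζ ^ (p - i0 + i)) ((ζ ^ (p - i0 + i)) ^ k) := (Commute.refl _).pow_right _
      rw [← end_mul_apply, hc2.eq, end_mul_apply]
  -- the sum over k
  have key : ∀ i < p, ∑ k ∈ range p, (θ ^ k) (w i) = if i = i0 then p • w i else 0 := by
    intro i hi
    split_ifs with hii
    · subst hii
      have : ∀ k ∈ range p, (θ ^ k) (w i) = w i := by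
        intro k _
        rw [hpow i hi k]
        have : p - i + i = p := Nat.sub_add_cancel hi.le
        rw [this, hζp, one_pow]; rfl
      rw [Finset.sum_congr rfl this, Finset.sum_const, Finset.card_range]
    · obtain ⟨u, hu⟩ : ∃ u : AddMonoid.End V, u = ζ ^ (p - i0 + i) := ⟨_, rfl⟩
      have hup : u ^ p = 1 := by
        rw [hu, ← pow_mul, mul_comm, pow_mul, hζp, one_pow]
      have hS : ∑ k ∈ range p, (θ ^ k) (w i) = ∑ k ∈ range p, (u ^ k) (w i) := by
        apply Finset.sum_congr rfl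
        intro k _
        rw [hpow i hi k, hu]
      rw [hS]
      -- u fixes S
      have hfixS : u (∑ k ∈ range p, (u ^ k) (w i)) = ∑ k ∈ range p, (u ^ k) (w i) := by
        rw [map_sum]
        have e1 : ∀ k ∈ range p, u ((u ^ k) (w i)) = (u ^ (k + 1)) (w i) := by
          intro k _
          rw [pow_succ', end_mul_apply]
        rw [Finset.sum_congr rfl e1]
        have e2 := Finset.sum_range_succ' (fun k => (u ^ k) (w i)) p
        have e3 := Finset.sum_range_succ (fun k => (u ^ k) (w i)) p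
        simp only [hup, pow_zero] at e2 e3
        have e4 : ∑ k ∈ range p, (u ^ (k + 1)) (w i) + (1 : AddMonoid.End V) (w i) =
            ∑ k ∈ range p, (u ^ k) (w i) + (1 : AddMonoid.End V) (w i) := by
          rw [← e2, ← e3]
        exact add_right_cancel e4
      -- hence ζ fixes S
      have hcop : Nat.Coprime (p - i0 + i) p := by
        rw [Nat.coprime_comm, Nat.Prime.coprime_iff_not_dvd hp]
        intro hd
        obtain ⟨t, ht⟩ := hd
        have h1 : 0 < p - i0 + i := by omega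
        have h2 : p - i0 + i < 2 * p := by omega
        have ht1 : t = 1 := by
          have : 0 < t := by
            rcases Nat.eq_zero_or_pos t with h | h
            · rw [h, mul_zero] at ht; omega
            · exact h
          have : t < 2 := by
            by_contra hcon
            push Not at hcon
            have : 2 * p ≤ p * t := by
              calc 2 * p = p * 2 := by ring
                _ ≤ p * t := Nat.mul_le_mul_left p hcon
            omega
          omega
        rw [ht1, mul_one] at ht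
        omega
      obtain ⟨m', -, hm'⟩ := Nat.exists_mul_mod_eq_one_of_coprime hcop hp.one_lt
      have hupow : ∀ j : ℕ, (u ^ j) (∑ k ∈ range p, (u ^ k) (w i)) = ∑ k ∈ range p, (u ^ k) (w i) := by
        intro j
        induction j with
        | zero => simp
        | succ j ih => rw [pow_succ, end_mul_apply, hfixS, ih]
      have hζu : ζ = u ^ m' := by
        rw [hu, ← pow_mul]
        have := Nat.div_add_mod ((p - i0 + i) * m') p
        rw [hm'] at this
        rw [← this, pow_add, pow_mul, hζp, one_pow, one_mul, pow_one]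
      apply hfix
      rw [hζu]
      exact hupow m'
  have h0 : ∑ k ∈ range p, (θ ^ k) (∑ i ∈ range p, w i) = 0 := by
    rw [hsum]; simp
  simp only [map_sum] at h0
  rw [Finset.sum_comm] at h0
  have h1 : ∑ i ∈ range p, ∑ k ∈ range p, (θ ^ k) (w i) = p • w i0 := by
    have : ∀ i ∈ range p, ∑ k ∈ range p, (θ ^ k) (w i) = if i = i0 then p • w i else 0 := by
      intro i hi
      exact key i (Finset.mem_range.mp hi)
    rw [Finset.sum_congr rfl this, Finset.sum_ite_eq' (range p) i0 (fun i => p • w i)]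
    simp [hi0]
  rw [h1] at h0
  exact htors _ h0

theorem mul_pow_comm_rel {Γ : Type*} [Group Γ] {c a z : Γ} (hca : c * a = a * c * z)
    (hza : z * a = a * z) (hzc : z * c = c * z) (m : ℕ) :
    c * a ^ m = z ^ m * (a ^ m * c) := by
  induction m with
  | zero => simp
  | succ m ih =>
    have hzm : Commute (z ^ m) a := (show Commute z a from hza).pow_left m
    have hz1 : Commute z (a ^ (m + 1) * c) :=
      ((show Commute z a from hza).pow_right _).mul_right hzc
    calc c * a ^ (m + 1) = (c * a ^ m) * a := by rw [pow_succ, mul_assoc]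
      _ = z ^ m * (a ^ m * c) * a := by rw [ih]
      _ = z ^ m * (a ^ m * (c * a)) := by simp only [mul_assoc]
      _ = z ^ m * (a ^ m * (a * c * z)) := by rw [hca]
      _ = z ^ m * ((a ^ (m + 1) * c) * z) := by rw [pow_succ]; simp only [mul_assoc]
      _ = z ^ m * (z * (a ^ (m + 1) * c)) := by rw [hz1.eq]
      _ = z ^ (m + 1) * (a ^ (m + 1) * c) := by rw [← mul_assoc, ← pow_succ]

theorem card_fixed_pow_le {Γ A : Type*} [Group Γ] [CommGroup A] [Finite A]
    [MulDistribMulAction Γ A]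
    (p : ℕ) (hp : p.Prime) (htors : ∀ x : A, x ^ p = 1 → x = 1) (c a z : Γ)
    (hzc : z * c = c * z) (hza : z * a = a * z) (hca : c * a = a * c * z) (hzp : z ^ p = 1)
    (hfix : ∀ x : A, z • x = x → x = 1) :
    Nat.card {x : A // c • x = x} ^ p ≤ Nat.card A := by
  obtain ⟨Φ, hΦ⟩ : ∃ Φ : Γ →* AddMonoid.End (Additive A),
      ∀ g v, Φ g v = Additive.ofMul (g • Additive.toMul v) :=
    ⟨(monoidEndToAdditive A : _ →* _).comp (MulDistribMulAction.toMonoidEnd Γ A), fun _ _ => rfl⟩
  have htors' : ∀ v : Additive A, p • v = 0 → v = 0 := by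
    intro v hv
    have : (Additive.toMul v) ^ p = 1 := by
      rw [← toMul_nsmul, hv]; rfl
    have := htors _ this
    exact this
  have hfix' : ∀ v : Additive A, Φ z v = v → v = 0 := by
    intro v hv
    rw [hΦ] at hv
    have : z • Additive.toMul v = Additive.toMul v := hv
    exact hfix _ this
  have hcomm : Commute (Φ c) (Φ z) := (show Commute c z from hzc.symm).map Φ
  have hζp : Φ z ^ p = 1 := by rw [← map_pow, hzp, map_one]
  have hinj : Function.Injective (fun f : Fin p → {x : A // c • x = x} =>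
      ∑ i : Fin p, Φ (a ^ (i : ℕ)) (Additive.ofMul (f i : A))) := by
    intro f g hfg
    simp only at hfg
    obtain ⟨v, hv⟩ : ∃ v : Fin p → Additive A,
        ∀ i, v i = Additive.ofMul (f i : A) - Additive.ofMul (g i : A) := ⟨_, fun _ => rfl⟩
    have hγv : ∀ i, Φ c (v i) = v i := by
      intro i
      rw [hv, map_sub, hΦ, hΦ]
      have h1 : c • (f i : A) = f i := (f i).2
      have h2 : c • (g i : A) = g i := (g i).2
      simp only [toMul_ofMul, h1, h2]
    have hsumv : ∑ i : Fin p, Φ (a ^ (i : ℕ)) (v i) = 0 := by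
      simp only [hv, map_sub, Finset.sum_sub_distrib, hfg, sub_self]
    obtain ⟨w, hwdef⟩ : ∃ w : ℕ → Additive A,
        ∀ i, w i = if h : i < p then Φ (a ^ i) (v ⟨i, h⟩) else 0 := ⟨_, fun _ => rfl⟩
    have hsum : ∑ i ∈ Finset.range p, w i = 0 := by
      rw [Finset.sum_range]
      rw [← hsumv]
      apply Finset.sum_congr rfl
      intro i _
      rw [hwdef, dif_pos i.2]
    have hw : ∀ i < p, Φ c (w i) = (Φ z ^ i) (w i) := by
      intro i hi
      rw [hwdef, dif_pos hi, ← end_mul_apply, ← map_mul, mul_pow_comm_rel hca hza hzc i,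
        map_mul, map_mul, end_mul_apply, end_mul_apply, hγv, map_pow]
    have hall := indep_aux p hp htors' (Φ c) (Φ z) hcomm hζp hfix' w hw hsum
    funext i
    have h1 := hall i i.2
    rw [hwdef, dif_pos i.2] at h1
    have h2 : v i = Φ ((a ^ (i : ℕ))⁻¹) (Φ (a ^ (i : ℕ)) (v i)) := by
      rw [← end_mul_apply, ← map_mul, inv_mul_cancel, map_one]; rfl
    have h3 : v i = 0 := by
      rw [h2]
      have : (⟨(i : ℕ), i.2⟩ : Fin p) = i := Fin.eta i i.2
      rw [this] at h1
      rw [h1, map_zero]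
    rw [hv, sub_eq_zero] at h3
    exact Subtype.ext (Additive.ofMul.injective h3)
  have := Nat.card_le_card_of_injective _ hinj
  rw [Nat.card_fun, Nat.card_fin] at this
  exact this

theorem card_centralizer_pow_le {G : Type*} [Group G] [Finite G] (N : Subgroup G) [N.Normal]
    (hab : ∀ x ∈ N, ∀ y ∈ N, x * y = y * x) (p : ℕ) (hp : p.Prime)
    (htors : ∀ x ∈ N, x ^ p = 1 → x = 1) (c a z : G)
    (hzc : z * c = c * z) (hza : z * a = a * z) (hca : c * a = a * c * z) (hzp : z ^ p = 1)
    (hfix : ∀ x ∈ N, z * x = x * z → x = 1) :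
    Nat.card ↥(N ⊓ centralizer {c}) ^ p ≤ Nat.card N := by
  let cg : CommGroup ↥N :=
    { (inferInstance : Group ↥N) with mul_comm := fun a b => Subtype.ext (hab a a.2 b b.2) }
  have hsm : ∀ (g : G) (x : ↥N), ((ConjAct.toConjAct g • x : ↥N) : G) = g * x * g⁻¹ := by
    intro g x; rfl
  have key := @card_fixed_pow_le (ConjAct G) ↥N _ cg _ _ p hp
    (by
      intro x hx
      have : (x : G) ^ p = 1 := by
        have := congrArg Subtype.val hx
        simpa using this
      exact Subtype.ext (htors x x.2 this))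
    (ConjAct.toConjAct c) (ConjAct.toConjAct a) (ConjAct.toConjAct z)
    (by rw [← map_mul, ← map_mul, hzc]) (by rw [← map_mul, ← map_mul, hza])
    (by rw [← map_mul, ← map_mul, ← map_mul, hca]) (by rw [← map_pow, hzp, map_one])
    (by
      intro x hx
      have h1 := congrArg Subtype.val hx
      rw [hsm] at h1
      have : z * (x : G) = x * z := by
        calc z * (x : G) = (z * x * z⁻¹) * z := by group
          _ = x * z := by rw [h1]
      exact Subtype.ext (hfix x x.2 this))
  have e : Nat.card {x : ↥N // ConjAct.toConjAct c • x = x} =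
      Nat.card ↥(N ⊓ centralizer {c}) := by
    apply Nat.card_congr
    refine
      { toFun := fun x => ⟨x.1.1, ⟨x.1.2, ?_⟩⟩
        invFun := fun y => ⟨⟨y.1, y.2.1⟩, ?_⟩
        left_inv := fun x => rfl
        right_inv := fun y => rfl }
    · apply mem_centralizer_singleton_iff.mpr
      have h1 := congrArg Subtype.val x.2
      rw [hsm] at h1
      calc (x.1 : G) * c = (c * x.1 * c⁻¹) * c := by rw [h1]
        _ = c * x.1 := by group
    · apply Subtype.ext
      rw [hsm]
      have := mem_centralizer_singleton_iff.mp y.2.2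
      show c * (y : G) * c⁻¹ = y
      rw [← this]; group
  rw [← e]
  exact key

end indep

section small

variable {G : Type u} [Group G]

theorem inf_sylow_eq_bot [Finite G] {p : ℕ} [Fact p.Prime] (P : Sylow p G) (N : Subgroup G)
    (hN : (Nat.card N).Coprime p) : N ⊓ (P : Subgroup G) = ⊥ := by
  apply disjoint_iff.mp; apply Subgroup.disjoint_of_coprime_natCard
  obtain ⟨k, hk⟩ := (IsPGroup.iff_card).mp P.2
  rw [hk]; exact hN.pow_right k

/-- if the commutator `⁅g, x⁆` commutes with the `p`-element `g` and has order prime to `p`, it is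
trivial -/
theorem commute_of_commutator {p : ℕ} (g x : G) (k n : ℕ) (hg : g ^ (p ^ k) = 1)
    (hn : n.Coprime p) (hm : ⁅g, x⁆ ^ n = 1) (hc : g * ⁅g, x⁆ = ⁅g, x⁆ * g) : g * x = x * g := by
  have hj : ∀ j : ℕ, g ^ j * x * (g ^ j)⁻¹ = ⁅g, x⁆ ^ j * x := by
    intro j
    induction j with
    | zero => simp
    | succ j ih =>
      have hcj : Commute g (⁅g, x⁆ ^ j) := (show Commute g ⁅g, x⁆ from hc).pow_right j
      calc g ^ (j + 1) * x * (g ^ (j + 1))⁻¹ = g * (g ^ j * x * (g ^ j)⁻¹) * g⁻¹ := by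
            rw [pow_succ']; group
        _ = g * (⁅g, x⁆ ^ j * x) * g⁻¹ := by rw [ih]
        _ = (g * ⁅g, x⁆ ^ j) * x * g⁻¹ := by group
        _ = (⁅g, x⁆ ^ j * g) * x * g⁻¹ := by rw [hcj.eq]
        _ = ⁅g, x⁆ ^ j * (g * x * g⁻¹ * x⁻¹) * x := by group
        _ = ⁅g, x⁆ ^ j * ⁅g, x⁆ * x := by rw [commutatorElement_def]
        _ = ⁅g, x⁆ ^ (j + 1) * x := by rw [pow_succ]
  have h1 := hj (p ^ k)
  rw [hg] at h1
  have h2 : ⁅g, x⁆ ^ (p ^ k) = 1 := by
    have : x = ⁅g, x⁆ ^ (p ^ k) * x := by simpa using h1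
    exact (mul_eq_right.mp this.symm)
  have h3 : orderOf ⁅g, x⁆ ∣ Nat.gcd n (p ^ k) :=
    Nat.dvd_gcd (orderOf_dvd_of_pow_eq_one hm) (orderOf_dvd_of_pow_eq_one h2)
  have h4 : Nat.gcd n (p ^ k) = 1 := hn.pow_right k
  rw [h4, Nat.dvd_one, orderOf_eq_one_iff] at h3
  exact commutatorElement_eq_one_iff_mul_comm.mp h3

theorem card_le_of_decomp [Finite G] (N A B : Subgroup G)
    (h : ∀ x ∈ N, ∃ y ∈ A, ∃ w ∈ B, x = y * w) : Nat.card N ≤ Nat.card A * Nat.card B := by
  choose y hy w hw hxyw using h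
  rw [← Nat.card_prod]
  apply Nat.card_le_card_of_injective
    (fun x : ↥N => ((⟨y x x.2, hy x x.2⟩ : ↥A), (⟨w x x.2, hw x x.2⟩ : ↥B)))
  intro x x' hxx
  simp only [Prod.mk.injEq, Subtype.mk.injEq] at hxx
  apply Subtype.ext
  rw [hxyw x x.2, hxyw x' x'.2, hxx.1, hxx.2]

/-- a nonabelian finite `p`-group has a noncentral element of the second centre -/
theorem exists_second_center {Q : Type*} [Group Q] [Finite Q] {p : ℕ} [Fact p.Prime]
    (hQ : IsPGroup p Q) (hnc : ¬ ∀ a b : Q, a * b = b * a) :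
    ∃ w : Q, w ∉ center Q ∧ ∀ g : Q, ⁅g, w⁆ ∈ center Q := by
  have hZne : center Q ≠ ⊤ := by
    intro h
    apply hnc
    intro a b
    have : b ∈ center Q := h ▸ mem_top b
    exact Subgroup.mem_center_iff.mp this a
  have : Nontrivial (Q ⧸ center Q) := QuotientGroup.nontrivial_iff.mpr hZne
  have hqp : IsPGroup p (Q ⧸ center Q) := hQ.to_quotient _
  have hcn : Nontrivial (center (Q ⧸ center Q)) := hqp.center_nontrivial
  obtain ⟨⟨wb, hwb⟩, hwb1⟩ := exists_ne (1 : center (Q ⧸ center Q))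
  obtain ⟨w, rfl⟩ := QuotientGroup.mk_surjective wb
  refine ⟨w, ?_, ?_⟩
  · intro h
    apply hwb1
    apply Subtype.ext
    exact (QuotientGroup.eq_one_iff w).mpr h
  · intro g
    rw [← QuotientGroup.eq_one_iff, commutatorElement_def]
    simp only [QuotientGroup.mk_mul, QuotientGroup.mk_inv]
    have := Subgroup.mem_center_iff.mp hwb (g : Q ⧸ center Q)
    rw [this]; group

/-- the Sylow argument: `N = C_N(d) C_N(c)` -/
theorem exists_decomp [Finite G] {p : ℕ} [Fact p.Prime] {P : Sylow p G} {N : Subgroup G}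
    {C D : Set G} (hyp : Hyp p P N C D) (x : G) (hx : x ∈ N) (c : G) (hc : c ∈ C) (d : G)
    (hd : d ∈ D) :
    ∃ y ∈ N ⊓ centralizer {d}, ∃ w ∈ N ⊓ centralizer {c}, x = y * w := by
  have hn := hyp.normal
  have hdisj : N ⊓ (P : Subgroup G) = ⊥ := inf_sylow_eq_bot P N hyp.coprime
  have hcP : c ∈ (P : Subgroup G) := hyp.hC ▸ Subgroup.subset_closure hc
  have hdP : d ∈ (P : Subgroup G) := hyp.hD ▸ Subgroup.subset_closure hd
  obtain ⟨Q, hQ⟩ := (hyp.h x hx c hc d hd).exists_le_sylow
  obtain ⟨g, rfl⟩ := MulAction.exists_smul_eq G P Q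
  have hgtop : g ∈ N ⊔ (P : Subgroup G) := hyp.sup ▸ Subgroup.mem_top g
  obtain ⟨y, hy, u, hu, rfl⟩ := Subgroup.mem_sup_of_normal_left.mp hgtop
  -- membership in the conjugate
  have hmem : ∀ e ∈ Subgroup.closure ({x * c * x⁻¹, d} : Set G), y⁻¹ * e * y ∈ (P : Subgroup G) := by
    intro e he
    have h1 := hQ he
    rw [Sylow.coe_subgroup_smul, Subgroup.mem_pointwise_smul_iff_inv_smul_mem] at h1
    have h2 : (MulAut.conj (y * u))⁻¹ • e = u⁻¹ * (y⁻¹ * e * y) * u := by
      rw [← map_inv, MulAut.smul_def, MulAut.conj_apply]; group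
    rw [h2] at h1
    have h3 := (P : Subgroup G).mul_mem ((P : Subgroup G).mul_mem hu h1) ((P : Subgroup G).inv_mem hu)
    have h4 : u * (u⁻¹ * (y⁻¹ * e * y) * u) * u⁻¹ = y⁻¹ * e * y := by group
    rwa [h4] at h3
  have hd1 := hmem d (Subgroup.subset_closure (by simp))
  have hc1 := hmem (x * c * x⁻¹) (Subgroup.subset_closure (by simp))
  -- y commutes with d
  have hyd : y * d = d * y := by
    have h1 : d⁻¹ * (y⁻¹ * d * y) ∈ (P : Subgroup G) :=
      (P : Subgroup G).mul_mem ((P : Subgroup G).inv_mem hdP) hd1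
    have h2 : d⁻¹ * (y⁻¹ * d * y) ∈ N := by
      have h3 : d⁻¹ * y⁻¹ * d⁻¹⁻¹ ∈ N := hn.conj_mem _ (N.inv_mem hy) _
      have := N.mul_mem h3 hy
      have e : d⁻¹ * y⁻¹ * d⁻¹⁻¹ * y = d⁻¹ * (y⁻¹ * d * y) := by group
      rwa [e] at this
    have h3 : d⁻¹ * (y⁻¹ * d * y) ∈ N ⊓ (P : Subgroup G) := ⟨h2, h1⟩
    rw [hdisj, Subgroup.mem_bot] at h3
    have h4 : y⁻¹ * d * y = d := by
      have := congrArg (fun t => d * t) h3
      simpa using this
    calc y * d = y * (y⁻¹ * d * y) := by rw [h4]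
      _ = d * y := by group
  -- w = y⁻¹ x commutes with c
  have hwN : y⁻¹ * x ∈ N := N.mul_mem (N.inv_mem hy) hx
  have hwc : (y⁻¹ * x) * c = c * (y⁻¹ * x) := by
    have e0 : y⁻¹ * (x * c * x⁻¹) * y = (y⁻¹ * x) * c * (y⁻¹ * x)⁻¹ := by group
    rw [e0] at hc1
    have h1 : c⁻¹ * ((y⁻¹ * x) * c * (y⁻¹ * x)⁻¹) ∈ (P : Subgroup G) :=
      (P : Subgroup G).mul_mem ((P : Subgroup G).inv_mem hcP) hc1
    have h2 : c⁻¹ * ((y⁻¹ * x) * c * (y⁻¹ * x)⁻¹) ∈ N := by
      have h3 : c⁻¹ * (y⁻¹ * x) * c⁻¹⁻¹ ∈ N := hn.conj_mem _ hwN _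
      have := N.mul_mem h3 (N.inv_mem hwN)
      have e : c⁻¹ * (y⁻¹ * x) * c⁻¹⁻¹ * (y⁻¹ * x)⁻¹ = c⁻¹ * ((y⁻¹ * x) * c * (y⁻¹ * x)⁻¹) := by
        group
      rwa [e] at this
    have h3 : c⁻¹ * ((y⁻¹ * x) * c * (y⁻¹ * x)⁻¹) ∈ N ⊓ (P : Subgroup G) := ⟨h2, h1⟩
    rw [hdisj, Subgroup.mem_bot] at h3
    have h4 : (y⁻¹ * x) * c * (y⁻¹ * x)⁻¹ = c := by
      have := congrArg (fun t => c * t) h3
      simpa using this
    calc (y⁻¹ * x) * c = ((y⁻¹ * x) * c * (y⁻¹ * x)⁻¹) * (y⁻¹ * x) := by group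
      _ = c * (y⁻¹ * x) := by rw [h4]
  refine ⟨y, ⟨hy, Subgroup.mem_centralizer_singleton_iff.mpr hyd⟩, y⁻¹ * x,
    ⟨hwN, Subgroup.mem_centralizer_singleton_iff.mpr hwc⟩, by group⟩

end small

set_option maxHeartbeats 1000000 in
theorem main (p : ℕ) [Fact p.Prime] (hp3 : 3 ≤ p) (n : ℕ) :
    ∀ (G : Type u) [Group G] [Finite G], Nat.card G = n → ∀ (P : Sylow p G) (N : Subgroup G)
      (C D : Set G), Hyp p P N C D → ∀ g ∈ (P : Subgroup G), ∀ x ∈ N, g * x = x * g := by
  induction n using Nat.strong_induction_on with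
  | _ n IH =>
  intro G _ _ hcard P N C D hyp
  by_contra hne
  have hp : p.Prime := Fact.out
  have hn := hyp.normal
  have hdisj : N ⊓ (P : Subgroup G) = ⊥ := inf_sylow_eq_bot P N hyp.coprime
  -- F1 : proper subgroups containing P
  have F1 : ∀ H : Subgroup G, (P : Subgroup G) ≤ H → H ≠ ⊤ →
      ∀ g ∈ (P : Subgroup G), ∀ x ∈ N ⊓ H, g * x = x * g := by
    intro H hle hH g hg x hx
    have hlt : Nat.card H < n := by
      rw [← hcard]
      exact lt_of_le_of_ne (Subgroup.card_le_card_group H)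
        (fun h => hH (Subgroup.eq_top_of_card_eq H h))
    have := IH _ hlt ↥H rfl (P.subtype hle) (N.subgroupOf H) _ _ (hyp.toSubgroup H hle)
      ⟨g, hle hg⟩ (by rw [Sylow.coe_subtype]; exact Subgroup.mem_subgroupOf.mpr hg)
      ⟨x, hx.2⟩ (Subgroup.mem_subgroupOf.mpr hx.1)
    exact congrArg Subtype.val this
  -- F2 : proper quotients
  have F2 : ∀ M : Subgroup G, M.Normal → M ≠ ⊥ →
      ∀ g ∈ (P : Subgroup G), ∀ x ∈ N, ⁅g, x⁆ ∈ M := by
    intro M hM hMb g hg x hx
    have := hM
    have hlt : Nat.card (G ⧸ M) < n := by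
      rw [← hcard, Subgroup.card_eq_card_quotient_mul_card_subgroup M]
      have h1 : 1 < Nat.card M := (Subgroup.one_lt_card_iff_ne_bot M).mpr hMb
      have h2 : 0 < Nat.card (G ⧸ M) := Nat.card_pos
      nlinarith
    have := IH _ hlt (G ⧸ M) rfl _ _ _ _ (hyp.toQuotient M) (QuotientGroup.mk' M g)
      (by rw [Sylow.coe_mapSurjective]; exact Subgroup.mem_map_of_mem _ hg)
      (QuotientGroup.mk' M x) (Subgroup.mem_map_of_mem _ hx)
    have h1 : ((⁅g, x⁆ : G) : G ⧸ M) = 1 := by
      rw [commutatorElement_def]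
      simp only [QuotientGroup.mk_mul, QuotientGroup.mk_inv]
      have h2 : (g : G ⧸ M) * (x : G ⧸ M) = (x : G ⧸ M) * (g : G ⧸ M) := this
      rw [h2]; group
    exact (QuotientGroup.eq_one_iff _).mp h1
  push Not at hne
  obtain ⟨g0, hg0, x0, hx0, hgx0⟩ := hne
  have hNbot : N ≠ ⊥ := by
    rintro rfl
    apply hgx0
    rw [Subgroup.mem_bot.mp hx0]; simp
  -- Step 1 : N is a minimal normal subgroup
  have hmin : ∀ M : Subgroup G, M.Normal → M ≤ N → M ≠ ⊥ → M = N := by
    intro M hM hMN hMb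
    by_contra hMN'
    have := hM
    have hH : M ⊔ (P : Subgroup G) ≠ ⊤ := by
      intro htop
      apply hMN'
      apply le_antisymm hMN
      intro x hx
      have hxt : x ∈ M ⊔ (P : Subgroup G) := htop ▸ Subgroup.mem_top x
      obtain ⟨m, hm, g, hg, rfl⟩ := Subgroup.mem_sup_of_normal_left.mp hxt
      have hgN : g ∈ N := by
        have := N.mul_mem (N.inv_mem (hMN hm)) hx
        simpa using this
      have hgb : g ∈ N ⊓ (P : Subgroup G) := ⟨hgN, hg⟩
      rw [hdisj, Subgroup.mem_bot] at hgb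
      rw [hgb, mul_one]; exact hm
    have hcent := F1 _ le_sup_right hH
    apply hgx0
    have hm : ⁅g0, x0⁆ ∈ M := F2 M hM hMb g0 hg0 x0 hx0
    obtain ⟨k, hk⟩ := P.2 ⟨g0, hg0⟩
    have hk' : g0 ^ (p ^ k) = 1 := by
      have := congrArg Subtype.val hk
      simpa using this
    have hmN : ⁅g0, x0⁆ ^ (Nat.card N) = 1 := by
      have h1 := pow_card_eq_one' (G := ↥N) (x := ⟨⁅g0, x0⁆, hMN hm⟩)
      have h2 := congrArg Subtype.val h1
      simp only [Subgroup.coe_pow, Subgroup.coe_one] at h2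
      exact h2
    exact commute_of_commutator g0 x0 k (Nat.card N) hk' hyp.coprime hmN
      (hcent g0 hg0 _ ⟨hMN hm, (le_sup_left : M ≤ M ⊔ (P : Subgroup G)) hm⟩)
  -- Step 2 : N is a q-group
  have hPsolv : Group.IsSolvable ↥(P : Subgroup G) := by
    have : Group.IsNilpotent ↥(P : Subgroup G) := P.2.isNilpotent
    infer_instance
  have hPnorm : (P : Subgroup G) ≤ normalizer (N : Set G) := by
    rw [Subgroup.normalizer_eq_top]; exact le_top
  have hcop' : (Nat.card (P : Subgroup G)).Coprime (Nat.card N) := by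
    obtain ⟨k, hk⟩ := (IsPGroup.iff_card).mp P.2
    rw [hk]; exact (hyp.coprime.pow_right k).symm
  have hq : ∃ q : ℕ, q.Prime ∧ IsPGroup q ↥N := by
    by_contra hno
    push Not at hno
    apply hgx0
    have hK0 : Nat.card ↥(N ⊓ centralizer ((P : Subgroup G) : Set G)) ≠ 0 := Nat.card_pos.ne'
    have hN0 : Nat.card N ≠ 0 := Nat.card_pos.ne'
    have hdvd : Nat.card N ∣ Nat.card ↥(N ⊓ centralizer ((P : Subgroup G) : Set G)) := by
      rw [← Nat.factorization_prime_le_iff_dvd hN0 hK0]
      intro q hq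
      have : Fact q.Prime := ⟨hq⟩
      obtain ⟨Q, hQ⟩ := Cfsg.Agent.Lib.Helper9.exists_invariant_sylow (P : Subgroup G) N hPnorm
        hcop' (Or.inl hPsolv) q
      have hQle : (Q : Subgroup ↥N).map N.subtype ≤ N ⊓ centralizer ((P : Subgroup G) : Set G) := by
        by_cases htop : normalizer (((Q : Subgroup ↥N).map N.subtype : Subgroup G) : Set G) = ⊤
        · have hQn : ((Q : Subgroup ↥N).map N.subtype).Normal :=
            Subgroup.normalizer_eq_top_iff.mp htop
          by_cases hQb : (Q : Subgroup ↥N).map N.subtype = ⊥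
          · rw [hQb]; exact bot_le
          · exfalso
            have hQN := hmin _ hQn (Subgroup.map_subtype_le _) hQb
            apply hno q hq
            intro x
            have hx : (x : G) ∈ (Q : Subgroup ↥N).map N.subtype := by rw [hQN]; exact x.2
            obtain ⟨x', hx', hxx⟩ := hx
            have hxe : x' = x := Subtype.ext hxx
            rw [hxe] at hx'
            obtain ⟨k, hk⟩ := Q.2 ⟨x, hx'⟩
            refine ⟨k, ?_⟩
            have := congrArg Subtype.val hk
            simpa using this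
        · intro x hx
          have hxN : x ∈ N := Subgroup.map_subtype_le _ hx
          refine ⟨hxN, Subgroup.mem_centralizer_iff.mpr ?_⟩
          intro g hg
          exact F1 _ hQ htop g hg x ⟨hxN, Subgroup.le_normalizer hx⟩
      have hcardQ : Nat.card ↥((Q : Subgroup ↥N).map N.subtype) = q ^ (Nat.card N).factorization q := by
        rw [Subgroup.card_map_of_injective N.subtype_injective, Sylow.card_eq_multiplicity]
      have h1 : q ^ (Nat.card N).factorization q ∣
          Nat.card ↥(N ⊓ centralizer ((P : Subgroup G) : Set G)) := by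
        rw [← hcardQ]; exact Subgroup.card_dvd_of_le hQle
      exact (hq.pow_dvd_iff_le_factorization hK0).mp h1
    have hKN : N ⊓ centralizer ((P : Subgroup G) : Set G) = N := by
      apply Subgroup.eq_of_le_of_card_ge inf_le_left
      exact Nat.le_of_dvd Nat.card_pos hdvd
    have hx0' : x0 ∈ N ⊓ centralizer ((P : Subgroup G) : Set G) := by rw [hKN]; exact hx0
    exact Subgroup.mem_centralizer_iff.mp hx0'.2 g0 hg0
  obtain ⟨q, hq, hNq⟩ := hq
  have : Fact q.Prime := ⟨hq⟩
  -- Step 3 : N is abelian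
  have hab : ∀ x ∈ N, ∀ y ∈ N, x * y = y * x := by
    have hZn : ((center ↥N).map N.subtype).Normal := inferInstance
    have hZb : (center ↥N).map N.subtype ≠ ⊥ := by
      have : Nontrivial ↥N := (Subgroup.nontrivial_iff_ne_bot N).mpr hNbot
      have hnt := hNq.center_nontrivial
      intro h
      rw [Subgroup.map_eq_bot_iff_of_injective _ N.subtype_injective] at h
      exact (Subgroup.nontrivial_iff_ne_bot _).mp hnt h
    have hZ := hmin _ hZn (Subgroup.map_subtype_le _) hZb
    intro x hx y hy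
    have hxZ : x ∈ (center ↥N).map N.subtype := by rw [hZ]; exact hx
    obtain ⟨x', hx', rfl⟩ := hxZ
    have := Subgroup.mem_center_iff.mp hx' ⟨y, hy⟩
    exact (congrArg Subtype.val this).symm
  -- decomposition of elements of G
  have hdec : ∀ g : G, ∃ y ∈ N, ∃ u ∈ (P : Subgroup G), g = y * u := by
    intro g
    have hgtop : g ∈ N ⊔ (P : Subgroup G) := hyp.sup ▸ Subgroup.mem_top g
    obtain ⟨y, hy, u, hu, rfl⟩ := Subgroup.mem_sup_of_normal_left.mp hgtop
    exact ⟨y, hy, u, hu, rfl⟩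
  -- Step 4 : P acts faithfully
  have hfaith : ∀ g ∈ (P : Subgroup G), (∀ x ∈ N, g * x = x * g) → g = 1 := by
    intro g hg hgc
    by_contra hg1
    have hK0n : ((P : Subgroup G) ⊓ centralizer (N : Set G)).Normal := by
      constructor
      intro k hk t
      obtain ⟨y, hy, u, hu, rfl⟩ := hdec t
      have hk' : u * k * u⁻¹ ∈ (P : Subgroup G) ⊓ centralizer (N : Set G) :=
        ⟨(P : Subgroup G).mul_mem ((P : Subgroup G).mul_mem hu hk.1) ((P : Subgroup G).inv_mem hu),
          (inferInstance : (centralizer (N : Set G)).Normal).conj_mem k hk.2 u⟩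
      have hyk : y * (u * k * u⁻¹) = (u * k * u⁻¹) * y :=
        Subgroup.mem_centralizer_iff.mp hk'.2 y hy
      have e : y * u * k * (y * u)⁻¹ = u * k * u⁻¹ := by
        calc y * u * k * (y * u)⁻¹ = (y * (u * k * u⁻¹)) * y⁻¹ := by group
          _ = (u * k * u⁻¹) * y * y⁻¹ := by rw [hyk]
          _ = u * k * u⁻¹ := by group
      rw [e]; exact hk'
    have hK0b : (P : Subgroup G) ⊓ centralizer (N : Set G) ≠ ⊥ := by
      intro h
      apply hg1
      have : g ∈ (P : Subgroup G) ⊓ centralizer (N : Set G) :=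
        ⟨hg, Subgroup.mem_centralizer_iff.mpr (fun x hx => (hgc x hx).symm)⟩
      rw [h] at this
      exact Subgroup.mem_bot.mp this
    apply hgx0
    have h1 := F2 _ hK0n hK0b g0 hg0 x0 hx0
    have h2 : ⁅g0, x0⁆ ∈ N := by
      rw [commutatorElement_def]
      exact N.mul_mem (hn.conj_mem x0 hx0 g0) (N.inv_mem hx0)
    have h3 : ⁅g0, x0⁆ ∈ N ⊓ (P : Subgroup G) := ⟨h2, h1.1⟩
    rw [hdisj, Subgroup.mem_bot] at h3
    exact commutatorElement_eq_one_iff_mul_comm.mp h3
  -- Step 5a : central elements of P act fixed-point-freely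
  have hfpf : ∀ z ∈ (P : Subgroup G), (∀ g ∈ (P : Subgroup G), g * z = z * g) → z ≠ 1 →
      ∀ x ∈ N, z * x = x * z → x = 1 := by
    intro z hz hzc hz1 x hx hzx
    have hCn : (N ⊓ centralizer {z}).Normal := by
      constructor
      intro k hk t
      obtain ⟨y, hy, u, hu, rfl⟩ := hdec t
      have hkz : k * z = z * k := Subgroup.mem_centralizer_singleton_iff.mp hk.2
      have huz : u * z = z * u := hzc u hu
      have hk1 : u * k * u⁻¹ ∈ N := hn.conj_mem k hk.1 u
      have hk2 : (u * k * u⁻¹) * z = z * (u * k * u⁻¹) := by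
        calc (u * k * u⁻¹) * z = u * k * (u⁻¹ * z * u) * u⁻¹ := by group
          _ = u * k * (u⁻¹ * (z * u)) * u⁻¹ := by simp only [mul_assoc]
          _ = u * k * (u⁻¹ * (u * z)) * u⁻¹ := by rw [huz]
          _ = u * (k * z) * u⁻¹ := by group
          _ = u * (z * k) * u⁻¹ := by rw [hkz]
          _ = (u * z) * k * u⁻¹ := by group
          _ = (z * u) * k * u⁻¹ := by rw [huz]
          _ = z * (u * k * u⁻¹) := by group
      have hyk : y * (u * k * u⁻¹) = (u * k * u⁻¹) * y := hab y hy _ hk1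
      have e : y * u * k * (y * u)⁻¹ = u * k * u⁻¹ := by
        calc y * u * k * (y * u)⁻¹ = (y * (u * k * u⁻¹)) * y⁻¹ := by group
          _ = (u * k * u⁻¹) * y * y⁻¹ := by rw [hyk]
          _ = u * k * u⁻¹ := by group
      rw [e]
      exact ⟨hk1, Subgroup.mem_centralizer_singleton_iff.mpr hk2⟩
    by_contra hx1
    have hCb : N ⊓ centralizer {z} ≠ ⊥ := by
      intro h
      apply hx1
      have : x ∈ N ⊓ centralizer {z} :=
        ⟨hx, Subgroup.mem_centralizer_singleton_iff.mpr hzx.symm⟩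
      rw [h] at this
      exact Subgroup.mem_bot.mp this
    have hCN := hmin _ hCn inf_le_left hCb
    apply hz1
    apply hfaith z hz
    intro y hy
    have hyC : y ∈ N ⊓ centralizer {z} := by rw [hCN]; exact hy
    exact (Subgroup.mem_centralizer_singleton_iff.mp hyC.2).symm
  have htors : ∀ x ∈ N, x ^ p = 1 → x = 1 := by
    intro x hx hxp
    have h1 : orderOf x ∣ p := orderOf_dvd_of_pow_eq_one hxp
    have h2 : orderOf x ∣ Nat.card N := by
      have := orderOf_dvd_natCard (⟨x, hx⟩ : ↥N)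
      rwa [Subgroup.orderOf_mk] at this
    have h3 : orderOf x ∣ Nat.gcd (Nat.card N) p := Nat.dvd_gcd h2 h1
    rw [hyp.coprime, Nat.dvd_one, orderOf_eq_one_iff] at h3
    exact h3
  -- Step 5c : every generating set of P contains a good element
  have hgood : ∀ S : Set G, Subgroup.closure S = (P : Subgroup G) →
      ∃ c ∈ S, Nat.card ↥(N ⊓ centralizer {c}) ^ p ≤ Nat.card N := by
    intro S hS
    have hSP : ∀ s ∈ S, s ∈ (P : Subgroup G) := fun s hs => hS ▸ Subgroup.subset_closure hs
    by_cases hPab : ∀ a b : ↥(P : Subgroup G), a * b = b * a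
    · have hex : ∃ c ∈ S, c ≠ 1 := by
        by_contra hno
        push Not at hno
        have hb : Subgroup.closure S = ⊥ := (Subgroup.closure_eq_bot_iff).mpr (fun s hs => hno s hs)
        rw [hS] at hb
        apply hgx0
        rw [hb, Subgroup.mem_bot] at hg0
        rw [hg0]; simp
      obtain ⟨c, hcS, hc1⟩ := hex
      refine ⟨c, hcS, ?_⟩
      have hcfix : N ⊓ centralizer {c} = ⊥ := by
        rw [eq_bot_iff]
        intro x hx
        rw [Subgroup.mem_bot]
        refine hfpf c (hSP c hcS) (fun g hg => ?_) hc1 x hx.1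
          (Subgroup.mem_centralizer_singleton_iff.mp hx.2).symm
        exact congrArg Subtype.val (hPab ⟨g, hg⟩ ⟨c, hSP c hcS⟩)
      rw [hcfix, Subgroup.card_bot, one_pow]
      exact Nat.card_pos
    · obtain ⟨w, hwZ, hw⟩ := exists_second_center P.2 hPab
      have hex : ∃ c ∈ S, c * (w : G) ≠ w * c := by
        by_contra hno
        push Not at hno
        apply hwZ
        rw [Subgroup.mem_center_iff]
        intro g
        have hle : Subgroup.closure S ≤ centralizer {(w : G)} :=
          (Subgroup.closure_le _).mpr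
            (fun s hs => Subgroup.mem_centralizer_singleton_iff.mpr (hno s hs))
        have hgc : (g : G) ∈ centralizer {(w : G)} := hle (by rw [hS]; exact g.2)
        exact Subtype.ext (Subgroup.mem_centralizer_singleton_iff.mp hgc)
      obtain ⟨c, hcS, hcw⟩ := hex
      refine ⟨c, hcS, ?_⟩
      obtain ⟨c', hc'⟩ : ∃ c' : ↥(P : Subgroup G), (c' : G) = c := ⟨⟨c, hSP c hcS⟩, rfl⟩
      have hz0c : ⁅c', w⁆ ∈ center ↥(P : Subgroup G) := hw c'
      have hz0ne : ⁅c', w⁆ ≠ 1 := by
        rw [Ne, commutatorElement_eq_one_iff_mul_comm]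
        intro h
        apply hcw
        rw [← hc']
        exact congrArg Subtype.val h
      obtain ⟨k, hk⟩ := (IsPGroup.iff_orderOf.mp P.2) ⁅c', w⁆
      have hk0 : k ≠ 0 := by
        rintro rfl
        rw [pow_zero, orderOf_eq_one_iff] at hk
        exact hz0ne hk
      obtain ⟨j, rfl⟩ := Nat.exists_eq_succ_of_ne_zero hk0
      -- relation in P
      have hrel : c' * w = w * c' * ⁅c', w⁆ := by
        have h1 : ⁅c', w⁆ * (w * c') = c' * w := by
          rw [commutatorElement_def]; group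
        rw [← h1]
        exact (Subgroup.mem_center_iff.mp hz0c (w * c')).symm
      have hzw : ⁅c', w⁆ * w = w * ⁅c', w⁆ := (Subgroup.mem_center_iff.mp hz0c w).symm
      have hzc' : ⁅c', w⁆ * c' = c' * ⁅c', w⁆ := (Subgroup.mem_center_iff.mp hz0c c').symm
      have hpow := mul_pow_comm_rel hrel hzw hzc' (p ^ j)
      have hzpc : ⁅c', w⁆ ^ (p ^ j) ∈ center ↥(P : Subgroup G) :=
        (center ↥(P : Subgroup G)).pow_mem hz0c _
      have hrel2 : c' * w ^ (p ^ j) = w ^ (p ^ j) * c' * ⁅c', w⁆ ^ (p ^ j) := by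
        rw [hpow]
        exact (Subgroup.mem_center_iff.mp hzpc (w ^ (p ^ j) * c')).symm
      have hzp1 : (⁅c', w⁆ ^ (p ^ j)) ^ p = 1 := by
        rw [← pow_mul, ← pow_succ, ← hk, pow_orderOf_eq_one]
      have hzne : ⁅c', w⁆ ^ (p ^ j) ≠ 1 := by
        apply pow_ne_one_of_lt_orderOf (pow_pos hp.pos j).ne'
        rw [hk]
        exact Nat.pow_lt_pow_right hp.one_lt (Nat.lt_succ_self j)
      -- transfer to G
      obtain ⟨z, hz⟩ : ∃ z : ↥(P : Subgroup G), z = ⁅c', w⁆ ^ (p ^ j) := ⟨_, rfl⟩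
      obtain ⟨a, ha⟩ : ∃ a : ↥(P : Subgroup G), a = w ^ (p ^ j) := ⟨_, rfl⟩
      rw [← hz] at hzpc hrel2 hzp1 hzne
      rw [← ha] at hrel2
      have hzcentral : ∀ g ∈ (P : Subgroup G), g * (z : G) = z * g := by
        intro g hg
        exact congrArg Subtype.val (Subgroup.mem_center_iff.mp hzpc ⟨g, hg⟩)
      have hz1 : (z : G) ≠ 1 := by
        intro h
        apply hzne
        exact Subtype.ext h
      rw [← hc']
      apply card_centralizer_pow_le N hab p hp htors (c' : G) (a : G) (z : G)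
      · exact (hzcentral c' c'.2).symm
      · exact (hzcentral a a.2).symm
      · have := congrArg Subtype.val hrel2
        simpa using this
      · have := congrArg Subtype.val hzp1
        simpa using this
      · exact hfpf z z.2 hzcentral hz1
  -- Step 6 : the final count
  obtain ⟨c, hcC, hcgood⟩ := hgood C hyp.hC
  obtain ⟨d, hdD, hdgood⟩ := hgood D hyp.hD
  have hle := card_le_of_decomp N _ _ (fun x hx => exists_decomp hyp x hx c hcC d hdD)
  have hN2 : 2 ≤ Nat.card N := (Subgroup.one_lt_card_iff_ne_bot N).mpr hNbot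
  have h1 : Nat.card N ^ p ≤
      (Nat.card ↥(N ⊓ centralizer {d}) * Nat.card ↥(N ⊓ centralizer {c})) ^ p :=
    Nat.pow_le_pow_left hle p
  rw [mul_pow] at h1
  have h2 : Nat.card ↥(N ⊓ centralizer {d}) ^ p * Nat.card ↥(N ⊓ centralizer {c}) ^ p ≤
      Nat.card N * Nat.card N := Nat.mul_le_mul hdgood hcgood
  have h3 : Nat.card N ^ 3 ≤ Nat.card N ^ p := Nat.pow_le_pow_right (by omega) hp3
  have h4 : Nat.card N ^ 3 ≤ Nat.card N * Nat.card N := h3.trans (h1.trans h2)
  have h5 : Nat.card N ^ 3 = Nat.card N * Nat.card N * Nat.card N := by ring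
  nlinarith [Nat.zero_le (Nat.card N * Nat.card N)]




/-- Let p ≥ 3 be prime and G a finite group with a Sylow p-subgroup P and a normal p-complement N (N normal, of order prime to p, with NP = G). Suppose P is generated by a subset C and also by a subset D, and that ⟨x c x⁻¹, d⟩ is a p-group for all x ∈ N, c ∈ C, d ∈ D. Then P centralizes N, so that G = N × P. -/
theorem result {G : Type*} [Group G] [Finite G] (p : ℕ) [Fact p.Prime] (hp3 : 3 ≤ p) (P : Sylow p G)
    (N : Subgroup G) [N.Normal] (hN : (Nat.card N).Coprime p) (hNP : N ⊔ (P : Subgroup G) = ⊤)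
    (C D : Set G) (hC : Subgroup.closure C = (P : Subgroup G)) (hD : Subgroup.closure D = (P : Subgroup G))
    (h : ∀ x ∈ N, ∀ c ∈ C, ∀ d ∈ D, IsPGroup p ↥(Subgroup.closure ({x * c * x⁻¹, d} : Set G))) :
    ⁅(P : Subgroup G), N⁆ = ⊥ := by
  have hyp : Hyp p P N C D := ⟨inferInstance, hN, hNP, hC, hD, h⟩
  have hm := main p hp3 (Nat.card G) G rfl P N C D hyp
  rw [Subgroup.commutator_eq_bot_iff_le_centralizer]
  intro g hg
  rw [Subgroup.mem_centralizer_iff]
  intro x hx
  exact (hm g hg x hx).symm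

end Cfsg.Agent.S2277
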