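-- S2282: SU_n(q), n odd ≥ 3, (n,q) ≠ (3,2), is generated by three conjugate regular unipotents.
-- n = 3: helper4 `s2282_three` (odd q: helper2; even q ≥ 4: helper4); n ≥ 5: `core_ge5` (helper13 planner;
-- pieces by helper6, helper24, helper29, helper23, helper26, helper8, helper16, helper5, helper18).
import Cfsg.Statements.S2282
import Cfsg.Agent.Lib.Helper13.SU5Core
import Cfsg.Agent.Lib.Helper4.SU3Case

set_option autoImplicit false
open Cfsg

namespace Cfsg.Agent.S2282

/-- Let F be a field with q² elements, n ≥ 3 odd with (n, q) ≠ (3, 2), and SU_n(q) the special unitary group of the standard Hermitian form Σ u_i v_i^q. Then SU_n(q) is generated by three conjugate regular unipotent elements: there are u ∈ SU_n(q) with u − 1 nilpotent and (u − 1)^(n−1) ≠ 0, and g, h ∈ SU_n(q), such that u, g u g⁻¹ and h u h⁻¹ generate SU_n(q). -/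
theorem result {F : Type*} [Field F] [Fintype F] (q : ℕ) (hF : Fintype.card F = q ^ 2) (n : ℕ) (hn : 3 ≤ n) (hodd : Odd n) (h32 : ¬ (n = 3 ∧ q = 2)) :
    ∃ u g h : ↥(Cfsg.SU n F q), (IsNilpotent (((u : Matrix.SpecialLinearGroup (Fin n) F) : Matrix (Fin n) (Fin n) F) - 1) ∧ (((u : Matrix.SpecialLinearGroup (Fin n) F) : Matrix (Fin n) (Fin n) F) - 1) ^ (n - 1) ≠ 0) ∧
      Subgroup.closure ({u, g * u * g⁻¹, h * u * h⁻¹} : Set ↥(Cfsg.SU n F q)) = ⊤ := by
  obtain ⟨d, rfl⟩ : ∃ d, n = d + 1 + d := by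
    obtain ⟨k, hk⟩ := hodd
    exact ⟨k, by omega⟩
  rcases Nat.lt_or_ge d 2 with hd | hd
  · have hd1 : d = 1 := by omega
    subst hd1
    exact Cfsg.Agent.Lib.Helper4.SU3.s2282_three q hF (fun h => h32 ⟨rfl, h⟩)
  · exact Cfsg.Agent.Lib.Helper13.SU5.core_ge5 hF d hd

end Cfsg.Agent.S2282
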