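import Cfsg.Statements.S2286
import Mathlib
import Cfsg.Agent.Lib.Helper11.SL2Hom
import Cfsg.Agent.Lib.Helper11.Steinberg2
import Cfsg.Agent.Lib.Helper11.Pres2A
import Cfsg.Agent.Lib.Helper11.Pres2B
import Cfsg.Agent.Lib.Helper11.Pres2C
import Cfsg.Agent.Lib.Helper11.Pres2D
import Cfsg.Agent.Lib.Helper11.Pres2E
import Cfsg.Agent.Lib.Helper11.Pres2F
import Cfsg.Agent.Lib.Helper11.Pres2G
import Cfsg.Agent.Lib.Helper11.Pres2H
import Cfsg.Agent.Lib.Helper11.Pres2I
-- import your own Cfsg.Agent.* helpers here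

set_option autoImplicit false
open Cfsg

namespace Cfsg.Agent.S2286

open Polynomial Cfsg.Agent.Lib.Helper11.SL2Hom Cfsg.Agent.Lib.Helper11.Pres2 Matrix

/-- the three statements, for a list of relators of length `n` -/
theorem pack {F : Type*} [Field F] [Fintype F] (L : List (FreeGroup (Fin 3)))
    (h1 : Nonempty (PresentedGroup (↑L.toFinset : Set (FreeGroup (Fin 3))) ≃* SpecialLinearGroup (Fin 2) F))
    (L' : List (FreeGroup (Fin 3)))
    (h2 : Nonempty (PresentedGroup (↑L'.toFinset : Set (FreeGroup (Fin 3))) ≃*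
        Matrix.ProjectiveSpecialLinearGroup (Fin 2) F))
    (hL : L.length ≤ 9) (hL' : L'.length ≤ 9) (h3 : CharP F 2 → L'.length ≤ 5) :
    (∃ rels : Finset (FreeGroup (Fin 3)), rels.card ≤ 9 ∧ Nonempty (PresentedGroup (↑rels : Set (FreeGroup (Fin 3))) ≃* Matrix.SpecialLinearGroup (Fin 2) F)) ∧ (∃ rels : Finset (FreeGroup (Fin 3)), rels.card ≤ 9 ∧ Nonempty (PresentedGroup (↑rels : Set (FreeGroup (Fin 3))) ≃* Matrix.ProjectiveSpecialLinearGroup (Fin 2) F)) ∧
    (CharP F 2 → ∃ rels : Finset (FreeGroup (Fin 3)), rels.card ≤ 5 ∧ Nonempty (PresentedGroup (↑rels : Set (FreeGroup (Fin 3))) ≃* Matrix.ProjectiveSpecialLinearGroup (Fin 2) F)) :=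
  ⟨⟨L.toFinset, (List.toFinset_card_le L).trans hL, h1⟩,
   ⟨L'.toFinset, (List.toFinset_card_le L').trans hL', h2⟩,
   fun hc => ⟨L'.toFinset, (List.toFinset_card_le L').trans (h3 hc), h2⟩⟩

theorem char_two_case {F : Type*} [Field F] [Fintype F] [CharP F 2] :
    ∃ L : List (FreeGroup (Fin 3)), L.length ≤ 5 ∧
      Nonempty (PresentedGroup (↑L.toFinset : Set (FreeGroup (Fin 3))) ≃* SpecialLinearGroup (Fin 2) F) ∧
      Nonempty (PresentedGroup (↑L.toFinset : Set (FreeGroup (Fin 3))) ≃*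
        Matrix.ProjectiveSpecialLinearGroup (Fin 2) F) := by
  classical
  letI : Algebra (ZMod 2) F := ZMod.algebra F 2
  have he : Fintype.card F = 2 ^ Module.finrank (ZMod 2) F := by
    rw [Module.card_eq_pow_finrank (K := ZMod 2) (V := F), ZMod.card]
  by_cases hq : Fintype.card F = 2
  · -- `q = 2`
    have hgen := gen_of_card_two 2 hq ((1 : F) ^ 2)
    have key := pres_of_rels 2 (1 : F) one_ne_zero hgen t0rels
      ((t0rels_iff _ _ _).mpr T0_SL)
      (fun Γ _ u t h hall => ((t0rels_iff u t h).mp hall).torusData hq)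
    exact ⟨t0rels, by simp [t0rels], key.1,
      key.2.1 (fun Γ _ u t h hall => ((t0rels_iff u t h).mp hall).t_sq)⟩
  · -- `q ≥ 4`
    set e := Module.finrank (ZMod 2) F with he_def
    obtain ⟨ζ, hζ, hgenζ, hord⟩ := exists_zeta F
    have he2 : 2 ≤ e := by
      by_contra hlt
      have h01 : e = 0 ∨ e = 1 := by omega
      rcases h01 with h0 | h1
      · have := Fintype.one_lt_card (α := F)
        rw [he, h0] at this
        omega
      · apply hq
        rw [he, h1]; rfl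
    have hcard4 : 4 ≤ Fintype.card F := by
      rw [he]
      calc 4 = 2 ^ 2 := rfl
        _ ≤ 2 ^ e := Nat.pow_le_pow_right (by norm_num) he2
    -- `1 + ζ²` is nonzero
    have hne : (1 : F) + ζ ^ 2 ≠ 0 := by
      intro h0
      have h1 : ζ ^ 2 = 1 := by
        have : ζ ^ 2 = -1 := by linear_combination h0
        rw [this, CharTwo.neg_eq]
      have := orderOf_dvd_of_pow_eq_one h1
      have := Nat.le_of_dvd (by norm_num) this
      omega
    obtain ⟨n, hn⟩ := hgenζ _ hne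
    have hq2 : 2 * 2 ^ (e - 1) = 2 ^ e := by
      rw [← pow_succ']; congr 1; omega
    have hζq : (ζ ^ 2) ^ (2 ^ (e - 1)) = ζ := by
      rw [← pow_mul, hq2, ← he]
      exact FiniteField.pow_card ζ
    have hk : (ζ ^ 2) ^ (2 ^ (e - 1) * n) = 1 + ζ ^ 2 := by
      rw [pow_mul, hζq, hn]
    have hgen := gen_zeta_sq (p := 2) e he ζ hζ hord
    have key := pres_of_rels 2 ζ hζ hgen
      (t1rels (2 ^ (e - 1) * n) (cf (minpoly (ZMod 2) (ζ ^ 2))) (minpoly (ZMod 2) (ζ ^ 2)).natDegree (2 ^ e))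
      ((t1rels_iff _ _ _ _ _ _ _).mpr (T1_SL e he ζ hζ _ hk))
      (fun Γ _ u t h hall => T1Rel.torusData e he ζ hζ hgenζ hord _ ((t1rels_iff u t h _ _ _ _).mp hall))
    exact ⟨_, by simp [t1rels], key.1,
      key.2.1 (fun Γ _ u t h hall => ((t1rels_iff u t h _ _ _ _).mp hall).t_sq)⟩

theorem odd_case {F : Type*} [Field F] [Fintype F] (p : ℕ) [Fact p.Prime] [CharP F p] (hp2 : p ≠ 2) :
    ∃ L : List (FreeGroup (Fin 3)), L.length ≤ 8 ∧
      Nonempty (PresentedGroup (↑L.toFinset : Set (FreeGroup (Fin 3))) ≃* SpecialLinearGroup (Fin 2) F) ∧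
      Nonempty (PresentedGroup (↑(ft ^ 2 :: L).toFinset : Set (FreeGroup (Fin 3))) ≃*
        Matrix.ProjectiveSpecialLinearGroup (Fin 2) F) := by
  classical
  letI : Algebra (ZMod p) F := ZMod.algebra F p
  have he : Fintype.card F = p ^ Module.finrank (ZMod p) F := by
    rw [Module.card_eq_pow_finrank (K := ZMod p) (V := F), ZMod.card]
  set e := Module.finrank (ZMod p) F with he_def
  obtain ⟨ζ, hζ, hgenζ, hord⟩ := exists_zeta F
  have hgen := gen_zeta_sq (p := p) e he ζ hζ hord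
  by_cases hdeg : (minpoly (ZMod p) (ζ ^ 2)).natDegree ≤ 2
  · obtain ⟨Gζ, hGζ⟩ := hgen ζ
    obtain ⟨Gζi, hGζi⟩ := hgen ζ⁻¹
    have key := pres_of_rels p ζ hζ hgen
      (t2rels p (cf (minpoly (ZMod p) (ζ ^ 2))) (minpoly (ZMod p) (ζ ^ 2)).natDegree (cf Gζ) Gζ.natDegree
        (cf Gζi) Gζi.natDegree)
      ((t2rels_iff _ _ _ _ _ _ _ _ _ _).mpr (T2_SL p ζ hζ Gζ Gζi hGζ hGζi))
      (fun Γ _ u t h hall => T2Rel.torusData ζ hζ hgenζ hgen hdeg Gζ Gζi hGζ hGζi
        ((t2rels_iff u t h _ _ _ _ _ _ _).mp hall))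
    exact ⟨_, by simp [t2rels, tailrels], key.1, key.2.2⟩
  · have he3 : 3 ≤ e := by
      have := minpoly.natDegree_le (A := ZMod p) (ζ ^ 2)
      omega
    obtain ⟨c, i, j, hi, hj, hgenc⟩ := exists_c hp2 e he he3 ζ hζ hgenζ hord
    obtain ⟨Gl, hGl⟩ := hgenc (ζ ^ 2)
    obtain ⟨Gζ, hGζ⟩ := hgenc ζ
    obtain ⟨Gζi, hGζi⟩ := hgenc ζ⁻¹
    have key := pres_of_rels p ζ hζ hgen
      (t3rels p i j (cf (minpoly (ZMod p) c)) (minpoly (ZMod p) c).natDegree (cf Gl) Gl.natDegree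
        (cf Gζ) Gζ.natDegree (cf Gζi) Gζi.natDegree)
      ((t3rels_iff _ _ _ _ _ _ _ _ _ _ _ _ _ _).mpr (T3_SL p ζ hζ i j c hi hj Gl Gζ Gζi hGl hGζ hGζi))
      (fun Γ _ u t h hall => T3Rel.torusData ζ hζ hgenζ i j c hgenc Gl Gζ Gζi hGl hGζ hGζi
        ((t3rels_iff u t h _ _ _ _ _ _ _ _ _ _ _).mp hall))
    exact ⟨_, by simp [t3rels, tailrels], key.1, key.2.2⟩


/-- For every finite field F, SL_2(F) and PSL_2(F) have presentations with 3 generators and at most 9 relations; when F has characteristic 2, PSL_2(F) has a presentation with 3 generators and at most 5 relations. -/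
theorem result {F : Type*} [Field F] [Fintype F] :
    (∃ rels : Finset (FreeGroup (Fin 3)), rels.card ≤ 9 ∧ Nonempty (PresentedGroup (↑rels : Set (FreeGroup (Fin 3))) ≃* Matrix.SpecialLinearGroup (Fin 2) F)) ∧ (∃ rels : Finset (FreeGroup (Fin 3)), rels.card ≤ 9 ∧ Nonempty (PresentedGroup (↑rels : Set (FreeGroup (Fin 3))) ≃* Matrix.ProjectiveSpecialLinearGroup (Fin 2) F)) ∧
    (CharP F 2 → ∃ rels : Finset (FreeGroup (Fin 3)), rels.card ≤ 5 ∧ Nonempty (PresentedGroup (↑rels : Set (FreeGroup (Fin 3))) ≃* Matrix.ProjectiveSpecialLinearGroup (Fin 2) F)) := by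
  classical
  obtain ⟨p, hp⟩ := CharP.exists F
  haveI : Fact p.Prime := ⟨CharP.char_is_prime F p⟩
  by_cases hp2 : p = 2
  · subst hp2
    obtain ⟨L, hL, h1, h2⟩ := char_two_case (F := F)
    exact pack L h1 L h2 (by omega) (by omega) (fun _ => hL)
  · obtain ⟨L, hL, h1, h2⟩ := odd_case (F := F) p hp2
    refine pack L h1 (ft ^ 2 :: L) h2 (by omega) (by rw [List.length_cons]; omega) (fun hc => ?_)
    exact absurd (CharP.eq F hp hc) hp2

end Cfsg.Agent.S2286
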