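import Cfsg.Statements.S2287
import Mathlib
import Cfsg.Agent.Lib.Helper11.SL2Hom
import Cfsg.Agent.Lib.Helper11.Steinberg2
import Cfsg.Agent.Lib.Helper11.Pres2A
import Cfsg.Agent.Lib.Helper11.Pres2B
import Cfsg.Agent.Lib.Helper11.Pres2C
import Cfsg.Agent.Lib.Helper11.Pres2D
import Cfsg.Agent.Lib.Helper11.Pres2E
import Cfsg.Agent.Lib.Helper11.Pres2F
import Cfsg.Agent.Lib.Helper11.Pres2G
import Cfsg.Agent.Lib.Helper11.Pres2H
import Cfsg.Agent.Lib.Helper11.Pres2I
import Cfsg.Agent.Lib.Helper11.Pres3A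
import Cfsg.Agent.Lib.Helper11.Pres3B
import Cfsg.Agent.Lib.Helper11.Pres3C
import Cfsg.Agent.Lib.Helper11.Pres3D
import Cfsg.Agent.Lib.Helper11.Pres3E
import Cfsg.Agent.Lib.Helper11.Pres3F
import Cfsg.Agent.Lib.Helper11.Pres3G
-- import your own Cfsg.Agent.* helpers here

set_option autoImplicit false
open Cfsg

namespace Cfsg.Agent.S2287

open Polynomial Cfsg.Agent.Lib.Helper11.SL2Hom Cfsg.Agent.Lib.Helper11.Pres2 Cfsg.Agent.Lib.Helper11.Pres3 Matrix

theorem char_two_case {F : Type*} [Field F] [Fintype F] [CharP F 2] :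
    ∃ L : List (FreeGroup (Fin 4)), L.length ≤ 13 ∧
      Nonempty (PresentedGroup (↑L.toFinset : Set (FreeGroup (Fin 4))) ≃* SpecialLinearGroup (Fin 3) F) := by
  classical
  letI : Algebra (ZMod 2) F := ZMod.algebra F 2
  have he : Fintype.card F = 2 ^ Module.finrank (ZMod 2) F := by
    rw [Module.card_eq_pow_finrank (K := ZMod 2) (V := F), ZMod.card]
  by_cases hq : Fintype.card F = 2
  · -- `q = 2`
    have hgen := gen_of_card_two 2 hq ((1 : F) ^ 2)
    have key := pres3_gen 2 (1 : F) one_ne_zero hgen t0rels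
      ((t0rels_iff _ _ _).mpr T0_SL)
      (fun Γ _ u t h hall => ((t0rels_iff u t h).mp hall).torusData hq)
      fu (by rw [lift_fu, inv_one]) twoE
      ((std (F := F)).twoE_of std_e5 std_e6 std_e7 (Units.mk0 1 one_ne_zero))
      (fun Γ _ D _ hall => A2Data.full_of_twoE (by rw [Nat.card_eq_fintype_card]; exact hq) _ hall)
    exact ⟨_, by simp [t0rels, extraRels, twoE], key⟩
  · -- `q ≥ 4`
    set e := Module.finrank (ZMod 2) F with he_def
    obtain ⟨ζ, hζ, hgenζ, hord⟩ := exists_zeta F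
    have he2 : 2 ≤ e := by
      by_contra hlt
      have h01 : e = 0 ∨ e = 1 := by omega
      rcases h01 with h0 | h1
      · have := Fintype.one_lt_card (α := F)
        rw [he, h0] at this
        omega
      · apply hq
        rw [he, h1]; rfl
    have hcard4 : 4 ≤ Fintype.card F := by
      rw [he]
      calc 4 = 2 ^ 2 := rfl
        _ ≤ 2 ^ e := Nat.pow_le_pow_right (by norm_num) he2
    -- `1 + ζ²` is nonzero
    have hne : (1 : F) + ζ ^ 2 ≠ 0 := by
      intro h0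
      have h1 : ζ ^ 2 = 1 := by
        have : ζ ^ 2 = -1 := by linear_combination h0
        rw [this, CharTwo.neg_eq]
      have := orderOf_dvd_of_pow_eq_one h1
      have := Nat.le_of_dvd (by norm_num) this
      omega
    obtain ⟨n, hn⟩ := hgenζ _ hne
    have hq2 : 2 * 2 ^ (e - 1) = 2 ^ e := by
      rw [← pow_succ']; congr 1; omega
    have hζpow : ζ ^ (2 ^ e) = ζ := by
      rw [← he]
      exact FiniteField.pow_card ζ
    have hζq : (ζ ^ 2) ^ (2 ^ (e - 1)) = ζ := by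
      rw [← pow_mul, hq2, hζpow]
    have hk : (ζ ^ 2) ^ (2 ^ (e - 1) * n) = 1 + ζ ^ 2 := by
      rw [pow_mul, hζq, hn]
    -- the word for `x(ζ⁻¹)`
    have hpos : 1 ≤ 2 ^ (e - 1) := Nat.one_le_two_pow
    have hWpow : (ζ ^ 2) ^ (2 ^ (e - 1) - 1) = ζ⁻¹ := by
      apply eq_inv_of_mul_eq_one_left
      have h1 : (ζ ^ 2) ^ (2 ^ (e - 1) - 1) * ζ ^ 2 = ζ := by
        rw [← pow_succ, Nat.sub_add_cancel hpos, hζq]
      have h2 : ((ζ ^ 2) ^ (2 ^ (e - 1) - 1) * ζ) * ζ = 1 * ζ := by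
        rw [one_mul, mul_assoc, ← pow_two]; exact h1
      exact mul_right_cancel₀ hζ h2
    have hgen := gen_zeta_sq (p := 2) e he ζ hζ hord
    have key := pres3_gen 2 ζ hζ hgen
      (t1rels (2 ^ (e - 1) * n) (cf (minpoly (ZMod 2) (ζ ^ 2))) (minpoly (ZMod 2) (ζ ^ 2)).natDegree (2 ^ e))
      ((t1rels_iff _ _ _ _ _ _ _).mpr (T1_SL e he ζ hζ _ hk))
      (fun Γ _ u t h hall => T1Rel.torusData e he ζ hζ hgenζ hord _ ((t1rels_iff u t h _ _ _ _).mp hall))
      (fh ^ (2 ^ (e - 1) - 1) * fu * (fh ^ (2 ^ (e - 1) - 1))⁻¹)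
      (by rw [map_mul, map_mul, map_inv, map_pow, lift_fh, lift_fu, hS_pow_conj_xS, hWpow, mul_one])
      (evenE (2 ^ (e - 1)))
      ((std (F := F)).evenE_of std_e5 (Units.mk0 ζ hζ) _)
      (fun Γ _ D hT hall => A2Data.full_of_evenE hT
        (by rw [Nat.card_eq_fintype_card]; omega) (2 ^ (e - 1))
        (fun i => by
          rw [Units.val_pow_eq_pow_val, Units.val_mk0, ← pow_mul,
            show i * 2 ^ (e - 1) * 2 = 2 ^ e * i by rw [← hq2]; ring, pow_mul, hζpow])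
        hall)
    exact ⟨_, by simp [t1rels, extraRels, evenE], key⟩

theorem odd_case {F : Type*} [Field F] [Fintype F] (p : ℕ) [Fact p.Prime] [CharP F p] (hp2 : p ≠ 2) :
    ∃ L : List (FreeGroup (Fin 4)), L.length ≤ 14 ∧
      Nonempty (PresentedGroup (↑L.toFinset : Set (FreeGroup (Fin 4))) ≃* SpecialLinearGroup (Fin 3) F) := by
  classical
  letI : Algebra (ZMod p) F := ZMod.algebra F p
  have he : Fintype.card F = p ^ Module.finrank (ZMod p) F := by
    rw [Module.card_eq_pow_finrank (K := ZMod p) (V := F), ZMod.card]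
  set e := Module.finrank (ZMod p) F with he_def
  obtain ⟨ζ, hζ, hgenζ, hord⟩ := exists_zeta F
  have hgen := gen_zeta_sq (p := p) e he ζ hζ hord
  have h2 : (2 : F) ≠ 0 := by
    intro h
    have h' : ((2 : ℕ) : F) = 0 := by exact_mod_cast h
    rw [CharP.cast_eq_zero_iff F p 2] at h'
    have hp : p.Prime := Fact.out
    exact hp2 ((Nat.prime_dvd_prime_iff_eq hp Nat.prime_two).mp h')
  by_cases hdeg : (minpoly (ZMod p) (ζ ^ 2)).natDegree ≤ 2
  · obtain ⟨Gζ, hGζ⟩ := hgen ζ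
    obtain ⟨Gζi, hGζi⟩ := hgen ζ⁻¹
    have key := pres3_gen p ζ hζ hgen
      (t2rels p (cf (minpoly (ZMod p) (ζ ^ 2))) (minpoly (ZMod p) (ζ ^ 2)).natDegree (cf Gζ) Gζ.natDegree
        (cf Gζi) Gζi.natDegree)
      ((t2rels_iff _ _ _ _ _ _ _ _ _ _).mpr (T2_SL p ζ hζ Gζ Gζi hGζ hGζi))
      (fun Γ _ u t h hall => T2Rel.torusData ζ hζ hgenζ hgen hdeg Gζ Gζi hGζ hGζi
        ((t2rels_iff u t h _ _ _ _ _ _ _).mp hall))
      (wordF (cj fh fu) (cf Gζi) (Gζi.natDegree + 1))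
      (by rw [map_wordF_cj, lift_fh, lift_fu, wordF_cj_hS_one, hGζi])
      oddE
      ((std (F := F)).oddE_of std_e5 (Units.mk0 ζ hζ))
      (fun Γ _ D hT hall => A2Data.full_of_oddE hT h2 hall)
    exact ⟨_, by simp [t2rels, tailrels, extraRels, oddE], key⟩
  · have he3 : 3 ≤ e := by
      have := minpoly.natDegree_le (A := ZMod p) (ζ ^ 2)
      omega
    obtain ⟨c, i, j, hi, hj, hgenc⟩ := exists_c hp2 e he he3 ζ hζ hgenζ hord
    obtain ⟨Gl, hGl⟩ := hgenc (ζ ^ 2)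
    obtain ⟨Gζ, hGζ⟩ := hgenc ζ
    obtain ⟨Gζi, hGζi⟩ := hgenc ζ⁻¹
    have key := pres3_gen p ζ hζ hgen
      (t3rels p i j (cf (minpoly (ZMod p) c)) (minpoly (ZMod p) c).natDegree (cf Gl) Gl.natDegree
        (cf Gζ) Gζ.natDegree (cf Gζi) Gζi.natDegree)
      ((t3rels_iff _ _ _ _ _ _ _ _ _ _ _ _ _ _).mpr (T3_SL p ζ hζ i j c hi hj Gl Gζ Gζi hGl hGζ hGζi))
      (fun Γ _ u t h hall => T3Rel.torusData ζ hζ hgenζ i j c hgenc Gl Gζ Gζi hGl hGζ hGζi
        ((t3rels_iff u t h _ _ _ _ _ _ _ _ _ _ _).mp hall))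
      (wordF (cj (fh ^ i) fu) (cf Gζi) (Gζi.natDegree + 1))
      (by rw [map_wordF_cj, map_pow, lift_fh, lift_fu, wordF_cj_hS, hi, hGζi])
      oddE
      ((std (F := F)).oddE_of std_e5 (Units.mk0 ζ hζ))
      (fun Γ _ D hT hall => A2Data.full_of_oddE hT h2 hall)
    exact ⟨_, by simp [t3rels, tailrels, extraRels, oddE], key⟩

/-- For every finite field F other than the field with 9 elements, SL_3(F) has a presentation with 4 generators and at most 14 relations. -/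
theorem result {F : Type*} [Field F] [Fintype F] (hq9 : Fintype.card F ≠ 9) : ∃ rels : Finset (FreeGroup (Fin 4)), rels.card ≤ 14 ∧ Nonempty (PresentedGroup (↑rels : Set (FreeGroup (Fin 4))) ≃* Matrix.SpecialLinearGroup (Fin 3) F) := by
  classical
  obtain ⟨p, hp⟩ := CharP.exists F
  haveI : Fact p.Prime := ⟨CharP.char_is_prime F p⟩
  by_cases hp2 : p = 2
  · subst hp2
    obtain ⟨L, hL, h1⟩ := char_two_case (F := F)
    exact ⟨L.toFinset, (List.toFinset_card_le L).trans (by omega), h1⟩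
  · obtain ⟨L, hL, h1⟩ := odd_case (F := F) p hp2
    exact ⟨L.toFinset, (List.toFinset_card_le L).trans hL, h1⟩

end Cfsg.Agent.S2287
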