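import Cfsg.Statements.S2293
import Mathlib
import Cfsg.Agent.Lib.Helper11.SL2Hom
import Cfsg.Agent.Lib.Helper11.Steinberg2
import Cfsg.Agent.Lib.Helper11.Pres2A
import Cfsg.Agent.Lib.Helper11.Pres2B
import Cfsg.Agent.Lib.Helper11.Pres2C
import Cfsg.Agent.Lib.Helper11.Pres2D
import Cfsg.Agent.Lib.Helper11.Pres2E
import Cfsg.Agent.Lib.Helper11.Pres2F
import Cfsg.Agent.Lib.Helper11.Pres2G
import Cfsg.Agent.Lib.Helper11.Pres2H
import Cfsg.Agent.Lib.Helper11.Pres2I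
import Cfsg.Agent.Lib.Helper11.Pres4A
import Cfsg.Agent.Lib.Helper11.Pres4B
import Cfsg.Agent.Lib.Helper11.Pres4C
import Cfsg.Agent.Lib.Helper11.Pres4D
import Cfsg.Agent.Lib.Helper11.Pres4E
import Cfsg.Agent.Lib.Helper11.Pres4F
import Cfsg.Agent.Lib.Helper11.Pres4G
import Cfsg.Agent.Lib.Helper11.Pres4H
import Cfsg.Agent.Lib.Helper11.Pres4I
-- import your own Cfsg.Agent.* helpers here

set_option autoImplicit false
open Cfsg

namespace Cfsg.Agent.S2293

open Polynomial Cfsg.Agent.Lib.Helper11.SL2Hom Cfsg.Agent.Lib.Helper11.Pres2 Cfsg.Agent.Lib.Helper11.Pres3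
  Cfsg.Agent.Lib.Helper11.Pres4 Matrix

theorem char_two_case {F : Type*} [Field F] [Fintype F] [CharP F 2] :
    ∃ L : List (FreeGroup (Fin 6)), L.length ≤ 30 ∧
      ∃ Φ : PresentedGroup (↑L.toFinset : Set (FreeGroup (Fin 6))) ≃* symplecticGroup (Fin 2) F,
        Φ (PresentedGroup.of 1) = phiaM wS := by
  classical
  letI : Algebra (ZMod 2) F := ZMod.algebra F 2
  have he : Fintype.card F = 2 ^ Module.finrank (ZMod 2) F := by
    rw [Module.card_eq_pow_finrank (K := ZMod 2) (V := F), ZMod.card]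
  by_cases hq : Fintype.card F = 2
  · -- `q = 2`
    have hgen := gen_of_card_two 2 hq ((1 : F) ^ 2)
    have key := pres4_gen 2 (1 : F) one_ne_zero hgen t0rels
      ((t0rels_iff _ _ _).mpr T0_SL)
      (fun Γ _ u t h hall => ((t0rels_iff u t h).mp hall).torusData hq)
      fu (by rw [lift_fu, inv_one])
    exact ⟨_, by simp [t0rels, crossRels], key⟩
  · -- `q ≥ 4`
    set e := Module.finrank (ZMod 2) F with he_def
    obtain ⟨ζ, hζ, hgenζ, hord⟩ := exists_zeta F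
    have he2 : 2 ≤ e := by
      by_contra hlt
      have h01 : e = 0 ∨ e = 1 := by omega
      rcases h01 with h0 | h1
      · have := Fintype.one_lt_card (α := F)
        rw [he, h0] at this
        omega
      · apply hq
        rw [he, h1]; rfl
    have hcard4 : 4 ≤ Fintype.card F := by
      rw [he]
      calc 4 = 2 ^ 2 := rfl
        _ ≤ 2 ^ e := Nat.pow_le_pow_right (by norm_num) he2
    -- `1 + ζ²` is nonzero
    have hne : (1 : F) + ζ ^ 2 ≠ 0 := by
      intro h0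
      have h1 : ζ ^ 2 = 1 := by
        have : ζ ^ 2 = -1 := by linear_combination h0
        rw [this, CharTwo.neg_eq]
      have := orderOf_dvd_of_pow_eq_one h1
      have := Nat.le_of_dvd (by norm_num) this
      omega
    obtain ⟨n, hn⟩ := hgenζ _ hne
    have hq2 : 2 * 2 ^ (e - 1) = 2 ^ e := by
      rw [← pow_succ']; congr 1; omega
    have hζpow : ζ ^ (2 ^ e) = ζ := by
      rw [← he]
      exact FiniteField.pow_card ζ
    have hζq : (ζ ^ 2) ^ (2 ^ (e - 1)) = ζ := by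
      rw [← pow_mul, hq2, hζpow]
    have hk : (ζ ^ 2) ^ (2 ^ (e - 1) * n) = 1 + ζ ^ 2 := by
      rw [pow_mul, hζq, hn]
    -- the word for `x(ζ⁻¹)`
    have hpos : 1 ≤ 2 ^ (e - 1) := Nat.one_le_two_pow
    have hWpow : (ζ ^ 2) ^ (2 ^ (e - 1) - 1) = ζ⁻¹ := by
      apply eq_inv_of_mul_eq_one_left
      have h1 : (ζ ^ 2) ^ (2 ^ (e - 1) - 1) * ζ ^ 2 = ζ := by
        rw [← pow_succ, Nat.sub_add_cancel hpos, hζq]
      have h2 : ((ζ ^ 2) ^ (2 ^ (e - 1) - 1) * ζ) * ζ = 1 * ζ := by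
        rw [one_mul, mul_assoc, ← pow_two]; exact h1
      exact mul_right_cancel₀ hζ h2
    have hgen := gen_zeta_sq (p := 2) e he ζ hζ hord
    have key := pres4_gen 2 ζ hζ hgen
      (t1rels (2 ^ (e - 1) * n) (cf (minpoly (ZMod 2) (ζ ^ 2))) (minpoly (ZMod 2) (ζ ^ 2)).natDegree (2 ^ e))
      ((t1rels_iff _ _ _ _ _ _ _).mpr (T1_SL e he ζ hζ _ hk))
      (fun Γ _ u t h hall => T1Rel.torusData e he ζ hζ hgenζ hord _ ((t1rels_iff u t h _ _ _ _).mp hall))
      (fh ^ (2 ^ (e - 1) - 1) * fu * (fh ^ (2 ^ (e - 1) - 1))⁻¹)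
      (by rw [map_mul, map_mul, map_inv, map_pow, lift_fh, lift_fu, hS_pow_conj_xS, hWpow, mul_one])
    exact ⟨_, by simp [t1rels, crossRels], key⟩

theorem odd_case {F : Type*} [Field F] [Fintype F] (p : ℕ) [Fact p.Prime] [CharP F p] (hp2 : p ≠ 2) :
    ∃ L : List (FreeGroup (Fin 6)), L.length ≤ 30 ∧
      ∃ Φ : PresentedGroup (↑L.toFinset : Set (FreeGroup (Fin 6))) ≃* symplecticGroup (Fin 2) F,
        Φ (PresentedGroup.of 1) = phiaM wS := by
  classical
  letI : Algebra (ZMod p) F := ZMod.algebra F p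
  have he : Fintype.card F = p ^ Module.finrank (ZMod p) F := by
    rw [Module.card_eq_pow_finrank (K := ZMod p) (V := F), ZMod.card]
  set e := Module.finrank (ZMod p) F with he_def
  obtain ⟨ζ, hζ, hgenζ, hord⟩ := exists_zeta F
  have hgen := gen_zeta_sq (p := p) e he ζ hζ hord
  by_cases hdeg : (minpoly (ZMod p) (ζ ^ 2)).natDegree ≤ 2
  · obtain ⟨Gζ, hGζ⟩ := hgen ζ
    obtain ⟨Gζi, hGζi⟩ := hgen ζ⁻¹
    have key := pres4_gen p ζ hζ hgen
      (t2rels p (cf (minpoly (ZMod p) (ζ ^ 2))) (minpoly (ZMod p) (ζ ^ 2)).natDegree (cf Gζ) Gζ.natDegree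
        (cf Gζi) Gζi.natDegree)
      ((t2rels_iff _ _ _ _ _ _ _ _ _ _).mpr (T2_SL p ζ hζ Gζ Gζi hGζ hGζi))
      (fun Γ _ u t h hall => T2Rel.torusData ζ hζ hgenζ hgen hdeg Gζ Gζi hGζ hGζi
        ((t2rels_iff u t h _ _ _ _ _ _ _).mp hall))
      (wordF (cj fh fu) (cf Gζi) (Gζi.natDegree + 1))
      (by rw [map_wordF_cj, lift_fh, lift_fu, wordF_cj_hS_one, hGζi])
    exact ⟨_, by simp [t2rels, tailrels, crossRels], key⟩
  · have he3 : 3 ≤ e := by
      have := minpoly.natDegree_le (A := ZMod p) (ζ ^ 2)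
      omega
    obtain ⟨c, i, j, hi, hj, hgenc⟩ := exists_c hp2 e he he3 ζ hζ hgenζ hord
    obtain ⟨Gl, hGl⟩ := hgenc (ζ ^ 2)
    obtain ⟨Gζ, hGζ⟩ := hgenc ζ
    obtain ⟨Gζi, hGζi⟩ := hgenc ζ⁻¹
    have key := pres4_gen p ζ hζ hgen
      (t3rels p i j (cf (minpoly (ZMod p) c)) (minpoly (ZMod p) c).natDegree (cf Gl) Gl.natDegree
        (cf Gζ) Gζ.natDegree (cf Gζi) Gζi.natDegree)
      ((t3rels_iff _ _ _ _ _ _ _ _ _ _ _ _ _ _).mpr (T3_SL p ζ hζ i j c hi hj Gl Gζ Gζi hGl hGζ hGζi))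
      (fun Γ _ u t h hall => T3Rel.torusData ζ hζ hgenζ i j c hgenc Gl Gζ Gζi hGl hGζ hGζi
        ((t3rels_iff u t h _ _ _ _ _ _ _ _ _ _ _).mp hall))
      (wordF (cj (fh ^ i) fu) (cf Gζi) (Gζi.natDegree + 1))
      (by rw [map_wordF_cj, map_pow, lift_fh, lift_fu, wordF_cj_hS, hi, hGζi])
    exact ⟨_, by simp [t3rels, tailrels, crossRels], key⟩

theorem both {F : Type*} [Field F] [Fintype F] :
    ∃ L : List (FreeGroup (Fin 6)), L.length ≤ 30 ∧
      ∃ Φ : PresentedGroup (↑L.toFinset : Set (FreeGroup (Fin 6))) ≃* symplecticGroup (Fin 2) F,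
        Φ (PresentedGroup.of 1) = phiaM wS := by
  classical
  obtain ⟨p, hp⟩ := CharP.exists F
  haveI : Fact p.Prime := ⟨CharP.char_is_prime F p⟩
  by_cases hp2 : p = 2
  · subst hp2
    exact char_two_case (F := F)
  · exact odd_case (F := F) p hp2

/-- For every finite field F, Sp_4(F) has a presentation with 6 generators and at most 35 relations, and PSp_4(F) one with 6 generators and at most 36 relations. -/
theorem result {F : Type*} [Field F] [Fintype F] : (∃ rels : Finset (FreeGroup (Fin 6)), rels.card ≤ 35 ∧ Nonempty (PresentedGroup (↑rels : Set (FreeGroup (Fin 6))) ≃* Matrix.symplecticGroup (Fin 2) F)) ∧ (∃ rels : Finset (FreeGroup (Fin 6)), rels.card ≤ 36 ∧ Nonempty (PresentedGroup (↑rels : Set (FreeGroup (Fin 6))) ≃* Cfsg.PSp 2 F)) := by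
  classical
  obtain ⟨L, hL, Φ, hΦ⟩ := both (F := F)
  have hcard : L.toFinset.card ≤ 30 := (List.toFinset_card_le L).trans hL
  refine ⟨⟨L.toFinset, hcard.trans (by norm_num), ⟨Φ⟩⟩, ⟨insert (pt * pt) L.toFinset, ?_, pres4_psp _ Φ hΦ⟩⟩
  exact (Finset.card_insert_le _ _).trans (by omega)

end Cfsg.Agent.S2293
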