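import Cfsg.Statements.S2301
import Cfsg.Agent.Lib.Helper13.SL2b

set_option autoImplicit false
open Cfsg

namespace Cfsg.Agent.S2301


open Cfsg.Agent.Lib.Helper13 Matrix

theorem mul_isSquare_of_not {F : Type*} [Field F] [Fintype F] (hF : ringChar F ≠ 2) {a b : F}
    (ha : ¬ IsSquare a) (hb : ¬ IsSquare b) : IsSquare (a * b) := by
  classical
  have ha0 : a ≠ 0 := by rintro rfl; exact ha IsSquare.zero
  have hb0 : b ≠ 0 := by rintro rfl; exact hb IsSquare.zero
  rw [← quadraticChar_one_iff_isSquare (mul_ne_zero ha0 hb0), map_mul,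
    quadraticChar_neg_one_iff_not_isSquare.mpr ha, quadraticChar_neg_one_iff_not_isSquare.mpr hb]
  norm_num

theorem eq_tSL {F : Type*} [Field F] (g : SpecialLinearGroup (Fin 2) F)
    (h00 : (g : Matrix (Fin 2) (Fin 2) F) 0 0 = 1) (h11 : (g : Matrix (Fin 2) (Fin 2) F) 1 1 = 1)
    (h10 : (g : Matrix (Fin 2) (Fin 2) F) 1 0 = 0) : g = tSL ((g : Matrix (Fin 2) (Fin 2) F) 0 1) := by
  apply Subtype.ext
  ext i j
  fin_cases i <;> fin_cases j <;> simp [h00, h11, h10]

theorem card_sq_eq_one {F : Type*} [Field F] [Fintype F] (hF : ringChar F ≠ 2) :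
    Nat.card {x : F // x ^ 2 = 1} = 2 := by
  have h : {x : F | x ^ 2 = 1} = {1, -1} := by
    ext x
    simp only [Set.mem_ofPred_eq, Set.mem_insert_iff, Set.mem_singleton_iff]
    exact sq_eq_one_iff
  change Nat.card ↥{x : F | x ^ 2 = 1} = 2
  rw [h, Nat.card_coe_set_eq, Set.ncard_pair]
  exact (Ring.neg_one_ne_one_of_char_ne_two hF).symm

/-- Over a finite field with q elements of odd characteristic p, the elements of order p of SL₂ (the non-identity unipotent elements) fall into exactly two conjugacy classes, each of size (q² − 1)/2; two upper unitriangular matrices with non-zero off-diagonal entries b and b′ are conjugate exactly when bb′ is a square. -/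
theorem result {F : Type*} [Field F] [Fintype F] (p : ℕ) [Fact p.Prime] [CharP F p] (hp : p ≠ 2) :
    Nat.card {C : ConjClasses (Matrix.SpecialLinearGroup (Fin 2) F) // ∃ g : Matrix.SpecialLinearGroup (Fin 2) F, orderOf g = p ∧ ConjClasses.mk g = C} = 2 ∧
    (∀ g : Matrix.SpecialLinearGroup (Fin 2) F, orderOf g = p → Nat.card (ConjClasses.mk g).carrier = (Fintype.card F ^ 2 - 1) / 2) ∧
    ∀ g h : Matrix.SpecialLinearGroup (Fin 2) F, (g : Matrix (Fin 2) (Fin 2) F) 0 0 = 1 → (g : Matrix (Fin 2) (Fin 2) F) 1 1 = 1 → (g : Matrix (Fin 2) (Fin 2) F) 1 0 = 0 → (g : Matrix (Fin 2) (Fin 2) F) 0 1 ≠ 0 →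
      (h : Matrix (Fin 2) (Fin 2) F) 0 0 = 1 → (h : Matrix (Fin 2) (Fin 2) F) 1 1 = 1 → (h : Matrix (Fin 2) (Fin 2) F) 1 0 = 0 → (h : Matrix (Fin 2) (Fin 2) F) 0 1 ≠ 0 →
      (IsConj g h ↔ IsSquare ((g : Matrix (Fin 2) (Fin 2) F) 0 1 * (h : Matrix (Fin 2) (Fin 2) F) 0 1)) := by
  have hp' : p.Prime := Fact.out
  have hF : ringChar F ≠ 2 := by rw [ringChar.eq F p]; exact hp
  obtain ⟨ε, hε⟩ := FiniteField.exists_nonsquare hF
  have hε0 : ε ≠ 0 := by rintro rfl; exact hε IsSquare.zero
  -- every element of order p is conjugate to tSL 1 or tSL ε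
  have hcls : ∀ g : SpecialLinearGroup (Fin 2) F, orderOf g = p →
      IsConj g (tSL (1 : F)) ∨ IsConj g (tSL ε) := by
    intro g hg
    obtain ⟨t, ht, hgt⟩ := exists_isConj_tSL_of_orderOf p g hg
    by_cases hsq : IsSquare t
    · left
      refine hgt.trans ((isConj_tSL_iff t 1 ht one_ne_zero).mpr ?_)
      rwa [mul_one]
    · right
      exact hgt.trans ((isConj_tSL_iff t ε ht hε0).mpr (mul_isSquare_of_not hF hsq hε))
  have hne : ConjClasses.mk (tSL (1 : F)) ≠ ConjClasses.mk (tSL ε) := by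
    intro h
    have := (isConj_tSL_iff (1 : F) ε one_ne_zero hε0).mp (ConjClasses.mk_eq_mk_iff_isConj.mp h)
    rw [one_mul] at this
    exact hε this
  refine ⟨?_, ?_, ?_⟩
  · have hset : {C : ConjClasses (SpecialLinearGroup (Fin 2) F) |
        ∃ g : SpecialLinearGroup (Fin 2) F, orderOf g = p ∧ ConjClasses.mk g = C} =
        {ConjClasses.mk (tSL (1 : F)), ConjClasses.mk (tSL ε)} := by
      ext C
      simp only [Set.mem_ofPred_eq, Set.mem_insert_iff, Set.mem_singleton_iff]
      constructor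
      · rintro ⟨g, hg, rfl⟩
        rcases hcls g hg with h | h
        · left; exact ConjClasses.mk_eq_mk_iff_isConj.mpr h
        · right; exact ConjClasses.mk_eq_mk_iff_isConj.mpr h
      · rintro (rfl | rfl)
        · exact ⟨tSL 1, orderOf_tSL p 1 one_ne_zero, rfl⟩
        · exact ⟨tSL ε, orderOf_tSL p ε hε0, rfl⟩
    change Nat.card ↥{C : ConjClasses (SpecialLinearGroup (Fin 2) F) |
        ∃ g : SpecialLinearGroup (Fin 2) F, orderOf g = p ∧ ConjClasses.mk g = C} = 2
    rw [hset, Nat.card_coe_set_eq, Set.ncard_pair hne]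
  · intro g hg
    obtain ⟨t, ht, hgt⟩ := exists_isConj_tSL_of_orderOf p g hg
    rw [ConjClasses.mk_eq_mk_iff_isConj.mpr hgt]
    have hmul := card_carrier_mul_card_centralizer (tSL t)
    rw [card_centralizer_tSL t ht, card_SL2, card_sq_eq_one hF, Nat.card_eq_fintype_card (α := F)] at hmul
    have hq : 0 < Fintype.card F := Fintype.card_pos
    have : Nat.card (ConjClasses.mk (tSL t)).carrier * 2 = Fintype.card F ^ 2 - 1 := by
      apply Nat.eq_of_mul_eq_mul_left hq
      rw [← hmul]; ring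
    rw [← this, Nat.mul_div_cancel _ (by norm_num)]
  · intro g h g00 g11 g10 g01 h00 h11 h10 h01
    rw [eq_tSL g g00 g11 g10, eq_tSL h h00 h11 h10]
    simp only [tSL_coe, Matrix.of_apply, Matrix.cons_val', Matrix.cons_val_zero, Matrix.cons_val_one]
    exact isConj_tSL_iff _ _ g01 h01

end Cfsg.Agent.S2301
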