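import Cfsg.Statements.S2302
import Cfsg.Agent.Lib.Helper13.SL2

set_option autoImplicit false
open Cfsg

namespace Cfsg.Agent.S2302


open Cfsg.Agent.Lib.Helper13 Matrix in
theorem isConj_tSL_one {F : Type*} [Field F] [Fintype F] [CharP F 2]
    (x : Matrix.SpecialLinearGroup (Fin 2) F) (hx : orderOf x = 2) : IsConj x (tSL (1 : F)) := by
  have hx2 : x ^ 2 = 1 := by
    have := pow_orderOf_eq_one x
    rwa [hx] at this
  have hx1 : x ≠ 1 := by
    intro h; rw [h, orderOf_one] at hx; exact absurd hx (by norm_num)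
  have hsq : ((x : Matrix (Fin 2) (Fin 2) F) - 1) ^ 2 = 0 := by
    have h2 : (x : Matrix (Fin 2) (Fin 2) F) * (x : Matrix (Fin 2) (Fin 2) F) = 1 := by
      have := congrArg (fun Y : SpecialLinearGroup (Fin 2) F => (Y : Matrix (Fin 2) (Fin 2) F)) hx2
      simpa [pow_two, SpecialLinearGroup.coe_mul] using this
    have hchar : (x : Matrix (Fin 2) (Fin 2) F) + (x : Matrix (Fin 2) (Fin 2) F) = 0 := by
      ext i j
      rw [Matrix.add_apply, Matrix.zero_apply]
      exact CharTwo.add_self_eq_zero _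
    have h11 : (1 : Matrix (Fin 2) (Fin 2) F) + 1 = 0 := by
      ext i j
      rw [Matrix.add_apply, Matrix.zero_apply]
      exact CharTwo.add_self_eq_zero _
    calc ((x : Matrix (Fin 2) (Fin 2) F) - 1) ^ 2
        = (x : Matrix (Fin 2) (Fin 2) F) * (x : Matrix (Fin 2) (Fin 2) F)
          - ((x : Matrix (Fin 2) (Fin 2) F) + (x : Matrix (Fin 2) (Fin 2) F)) + 1 := by
          rw [pow_two, sub_mul, mul_sub, mul_one, one_mul]; abel
      _ = 0 := by rw [h2, hchar, sub_zero, h11]
  obtain ⟨B, t, ht, hB⟩ := exists_conj_tSL x hsq hx1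
  obtain ⟨s, hs⟩ := FiniteField.isSquare_of_char_two (ringChar.eq F 2) t
  have hs0 : s ≠ 0 := by
    rintro rfl
    exact ht (by rw [hs, mul_zero])
  have h1 : IsConj x (tSL t) := by
    rw [isConj_iff]
    refine ⟨B⁻¹, ?_⟩
    rw [inv_inv, mul_assoc, hB, ← mul_assoc, inv_mul_cancel, one_mul]
  have h2 : IsConj (tSL (1 : F)) (tSL t) := by
    have := isConj_tSL_sq_mul s hs0 (1 : F)
    rwa [mul_one, pow_two, ← hs] at this
  exact h1.trans h2.symm

/-- Over a finite field with q elements of characteristic 2, the involutions of SL₂ (the non-identity unipotent elements) form a single conjugacy class, of size q² − 1. -/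
theorem result {F : Type*} [Field F] [Fintype F] [CharP F 2] (g h : Matrix.SpecialLinearGroup (Fin 2) F) (hg : orderOf g = 2) (hh : orderOf h = 2) :
    IsConj g h ∧ Nat.card (ConjClasses.mk g).carrier = Fintype.card F ^ 2 - 1 := by
  have h1 := isConj_tSL_one g hg
  have h2 := isConj_tSL_one h hh
  refine ⟨h1.trans h2.symm, ?_⟩
  have hcls : ConjClasses.mk g = ConjClasses.mk (Cfsg.Agent.Lib.Helper13.tSL (1 : F)) :=
    ConjClasses.mk_eq_mk_iff_isConj.mpr h1
  rw [hcls]
  have hmul := Cfsg.Agent.Lib.Helper13.card_carrier_mul_card_centralizer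
    (Cfsg.Agent.Lib.Helper13.tSL (1 : F))
  rw [Cfsg.Agent.Lib.Helper13.card_centralizer_tSL (1 : F) one_ne_zero,
    Cfsg.Agent.Lib.Helper13.card_SL2] at hmul
  have huniq : Nat.card {x : F // x ^ 2 = 1} = 1 := by
    rw [Nat.card_eq_one_iff_unique]
    refine ⟨⟨fun a b => ?_⟩, ⟨⟨1, one_pow 2⟩⟩⟩
    have key : ∀ a : F, a ^ 2 = 1 → a = 1 := by
      intro a ha
      have : (a - 1) ^ 2 = 0 := by
        have h2' : (2 : F) = 0 := CharTwo.two_eq_zero
        calc (a - 1) ^ 2 = a ^ 2 - 2 * a + 1 := by ring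
          _ = 0 := by rw [ha, h2']; ring_nf; exact CharTwo.two_eq_zero
      exact sub_eq_zero.mp (pow_eq_zero_iff (two_ne_zero) |>.mp this)
    exact Subtype.ext ((key a a.2).trans (key b b.2).symm)
  rw [huniq, one_mul, Nat.card_eq_fintype_card (α := F), mul_comm] at hmul
  exact Nat.eq_of_mul_eq_mul_left Fintype.card_pos hmul

end Cfsg.Agent.S2302
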