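import Cfsg.Statements.S2303
import Mathlib

set_option autoImplicit false
open Cfsg

namespace Cfsg.Agent.S2303


open Matrix

variable {F : Type*} [Field F]

theorem mem_centralizer_iff_mat (g X : GL (Fin 2) F) :
    X ∈ Subgroup.centralizer ({g} : Set (GL (Fin 2) F)) ↔
      (X : Matrix (Fin 2) (Fin 2) F) * (g : Matrix (Fin 2) (Fin 2) F) =
        (g : Matrix (Fin 2) (Fin 2) F) * (X : Matrix (Fin 2) (Fin 2) F) := by
  rw [Subgroup.mem_centralizer_singleton_iff]
  constructor
  · intro h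
    have := congrArg (fun Y : GL (Fin 2) F => (Y : Matrix (Fin 2) (Fin 2) F)) h
    simpa using this
  · intro h
    apply Units.ext
    simpa using h

/-- Diagonal element of `GL₂`. -/
noncomputable def diagGL (x y : Fˣ) : GL (Fin 2) F :=
  Matrix.GeneralLinearGroup.mkOfDetNeZero !![(x : F), 0; 0, (y : F)]
    (by simp [Matrix.det_fin_two])

theorem diagGL_coe (x y : Fˣ) :
    ((diagGL x y : GL (Fin 2) F) : Matrix (Fin 2) (Fin 2) F) = !![(x : F), 0; 0, (y : F)] := rfl

theorem card_centralizer_diag [Fintype F] (g : GL (Fin 2) F)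
    (h01 : (g : Matrix (Fin 2) (Fin 2) F) 0 1 = 0) (h10 : (g : Matrix (Fin 2) (Fin 2) F) 1 0 = 0)
    (hne : (g : Matrix (Fin 2) (Fin 2) F) 0 0 ≠ (g : Matrix (Fin 2) (Fin 2) F) 1 1) :
    Nat.card (Subgroup.centralizer ({g} : Set (GL (Fin 2) F))) = (Fintype.card F - 1) ^ 2 := by
  set m : Matrix (Fin 2) (Fin 2) F := (g : Matrix (Fin 2) (Fin 2) F) with hm
  have hmem : ∀ x y : Fˣ, diagGL x y ∈ Subgroup.centralizer ({g} : Set (GL (Fin 2) F)) := by
    intro x y
    rw [mem_centralizer_iff_mat, diagGL_coe, ← hm]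
    ext i j
    fin_cases i <;> fin_cases j <;>
      simp [Matrix.mul_apply, Fin.sum_univ_two, h01, h10, mul_comm]
  have hcard : Nat.card (Fˣ × Fˣ) = (Fintype.card F - 1) ^ 2 := by
    rw [Nat.card_prod, Nat.card_units, Nat.card_eq_fintype_card, pow_two]
  rw [← hcard]
  symm
  refine Nat.card_congr (Equiv.ofBijective
    (fun p : Fˣ × Fˣ => (⟨diagGL p.1 p.2, hmem p.1 p.2⟩ :
      Subgroup.centralizer ({g} : Set (GL (Fin 2) F)))) ⟨?_, ?_⟩)
  · rintro ⟨x, y⟩ ⟨x', y'⟩ h
    have h' := congrArg (fun Y : Subgroup.centralizer ({g} : Set (GL (Fin 2) F)) =>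
      ((Y : GL (Fin 2) F) : Matrix (Fin 2) (Fin 2) F)) h
    have h00 := congrFun (congrFun h' 0) 0
    have h11 := congrFun (congrFun h' 1) 1
    simp [diagGL_coe] at h00 h11
    exact Prod.ext (Units.ext h00) (Units.ext h11)
  · rintro ⟨X, hX⟩
    rw [mem_centralizer_iff_mat, ← hm] at hX
    set x : Matrix (Fin 2) (Fin 2) F := (X : Matrix (Fin 2) (Fin 2) F) with hx
    have e01 := congrFun (congrFun hX 0) 1
    have e10 := congrFun (congrFun hX 1) 0
    simp [Matrix.mul_apply, Fin.sum_univ_two, h01, h10] at e01 e10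
    have hx01 : x 0 1 = 0 := by
      have : x 0 1 * (m 1 1 - m 0 0) = 0 := by linear_combination e01
      rcases mul_eq_zero.mp this with h | h
      · exact h
      · exact absurd (sub_eq_zero.mp h).symm hne
    have hx10 : x 1 0 = 0 := by
      have : x 1 0 * (m 0 0 - m 1 1) = 0 := by linear_combination e10
      rcases mul_eq_zero.mp this with h | h
      · exact h
      · exact absurd (sub_eq_zero.mp h) hne
    have hdet : x.det ≠ 0 := by
      have := (Matrix.isUnit_iff_isUnit_det x).mp X.isUnit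
      exact this.ne_zero
    rw [Matrix.det_fin_two, hx01, hx10, mul_zero, sub_zero] at hdet
    have hx00 : x 0 0 ≠ 0 := left_ne_zero_of_mul hdet
    have hx11 : x 1 1 ≠ 0 := right_ne_zero_of_mul hdet
    refine ⟨(Units.mk0 _ hx00, Units.mk0 _ hx11), ?_⟩
    apply Subtype.ext
    apply Units.ext
    change !![x 0 0, 0; 0, x 1 1] = x
    ext i j
    fin_cases i <;> fin_cases j <;> simp [hx01, hx10]


theorem card_centralizer_elliptic [Fintype F] (g : GL (Fin 2) F)
    (hg : ∀ (c : F) (v : Fin 2 → F), v ≠ 0 → (g : Matrix (Fin 2) (Fin 2) F).mulVec v ≠ c • v) :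
    Nat.card (Subgroup.centralizer ({g} : Set (GL (Fin 2) F))) = Fintype.card F ^ 2 - 1 := by
  classical
  set m : Matrix (Fin 2) (Fin 2) F := (g : Matrix (Fin 2) (Fin 2) F) with hm
  have hc : m 1 0 ≠ 0 := by
    intro h0
    apply hg (m 0 0) ![1, 0]
    · intro h
      have := congrFun h 0
      simp at this
    · ext i
      fin_cases i <;> simp [Matrix.mulVec, dotProduct, Fin.sum_univ_two, h0]
  -- x + y m is invertible for (x,y) ≠ 0
  have hdet : ∀ p : F × F, p ≠ 0 → (p.1 • (1 : Matrix (Fin 2) (Fin 2) F) + p.2 • m).det ≠ 0 := by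
    rintro ⟨x, y⟩ hp hd
    obtain ⟨v, hv, hv0⟩ := (Matrix.exists_mulVec_eq_zero_iff).mpr hd
    simp only [Matrix.add_mulVec, Matrix.smul_mulVec, Matrix.one_mulVec] at hv0
    by_cases hy : y = 0
    · subst hy
      rw [zero_smul, add_zero] at hv0
      have hx : x = 0 := by
        rcases smul_eq_zero.mp hv0 with h | h
        · exact h
        · exact absurd h hv
      apply hp
      rw [hx]; rfl
    · apply hg (-x / y) v hv
      have : y • (m *ᵥ v) = -(x • v) := by
        rw [eq_neg_iff_add_eq_zero, add_comm]; exact hv0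
      calc m *ᵥ v = y⁻¹ • (y • (m *ᵥ v)) := by rw [smul_smul, inv_mul_cancel₀ hy, one_smul]
        _ = (-x / y) • v := by rw [this, smul_neg, smul_smul, ← neg_smul]; congr 1; field_simp
  have hcard : Nat.card {p : F × F // p ≠ 0} = Fintype.card F ^ 2 - 1 := by
    rw [Nat.card_eq_fintype_card, Fintype.card_subtype_compl, Fintype.card_prod,
      Fintype.card_subtype_eq, pow_two]
  rw [← hcard]
  symm
  refine Nat.card_congr (Equiv.ofBijective
    (fun p : {p : F × F // p ≠ 0} =>
      (⟨Matrix.GeneralLinearGroup.mkOfDetNeZero _ (hdet p.1 p.2), ?_⟩ :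
      Subgroup.centralizer ({g} : Set (GL (Fin 2) F)))) ⟨?_, ?_⟩)
  · rw [mem_centralizer_iff_mat]
    change (p.1.1 • (1 : Matrix (Fin 2) (Fin 2) F) + p.1.2 • m) * m = m * (p.1.1 • (1 : Matrix (Fin 2) (Fin 2) F) + p.1.2 • m)
    rw [add_mul, mul_add, Matrix.smul_mul, Matrix.mul_smul, Matrix.smul_mul, Matrix.mul_smul, one_mul, mul_one]
  · rintro ⟨⟨x, y⟩, hp⟩ ⟨⟨x', y'⟩, hp'⟩ h
    have h' := congrArg (fun Y : Subgroup.centralizer ({g} : Set (GL (Fin 2) F)) =>
      ((Y : GL (Fin 2) F) : Matrix (Fin 2) (Fin 2) F)) h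
    change (x • (1 : Matrix (Fin 2) (Fin 2) F) + y • m) = (x' • (1 : Matrix (Fin 2) (Fin 2) F) + y' • m) at h'
    have h00 := congrFun (congrFun h' 0) 0
    have h10 := congrFun (congrFun h' 1) 0
    simp at h00 h10
    have hy : y = y' := by
      rcases h10 with h | h
      · exact h
      · exact absurd h hc
    subst hy
    have hx : x = x' := by linear_combination h00
    subst hx
    rfl
  · rintro ⟨X, hX⟩
    rw [mem_centralizer_iff_mat, ← hm] at hX
    set x : Matrix (Fin 2) (Fin 2) F := (X : Matrix (Fin 2) (Fin 2) F) with hx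
    have e00 := congrFun (congrFun hX 0) 0
    have e10 := congrFun (congrFun hX 1) 0
    simp [Matrix.mul_apply, Fin.sum_univ_two] at e00 e10
    have hne : ((x 0 0 - x 1 0 / m 1 0 * m 0 0, x 1 0 / m 1 0) : F × F) ≠ 0 := by
      intro h0
      have h1 : x 1 0 / m 1 0 = 0 := congrArg Prod.snd h0
      have h2 : x 0 0 - x 1 0 / m 1 0 * m 0 0 = 0 := congrArg Prod.fst h0
      rw [h1, zero_mul, sub_zero] at h2
      have h10 : x 1 0 = 0 := by
        rcases div_eq_zero_iff.mp h1 with h | h
        · exact h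
        · exact absurd h hc
      have hd : x.det ≠ 0 := ((Matrix.isUnit_iff_isUnit_det x).mp X.isUnit).ne_zero
      rw [Matrix.det_fin_two, h2, h10] at hd
      simp at hd
    refine ⟨⟨_, hne⟩, ?_⟩
    apply Subtype.ext
    apply Units.ext
    change ((x 0 0 - x 1 0 / m 1 0 * m 0 0) • (1 : Matrix (Fin 2) (Fin 2) F) + (x 1 0 / m 1 0) • m) = x
    ext i j
    fin_cases i <;> fin_cases j <;> simp
    · field_simp
      linear_combination (-1 : F) * e00
    · field_simp
    · field_simp
      linear_combination (-1 : F) * e10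

/-- Over a finite field with q elements: a diagonal element of GL₂ with two distinct diagonal entries has centralizer of order (q − 1)² (so q(q + 1) conjugates), and an element of GL₂ with no eigenvector in F² has centralizer of order q² − 1 (so q(q − 1) conjugates). -/
theorem result {F : Type*} [Field F] [Fintype F] (g : Matrix.GeneralLinearGroup (Fin 2) F) :
    ((g : Matrix (Fin 2) (Fin 2) F) 0 1 = 0 → (g : Matrix (Fin 2) (Fin 2) F) 1 0 = 0 → (g : Matrix (Fin 2) (Fin 2) F) 0 0 ≠ (g : Matrix (Fin 2) (Fin 2) F) 1 1 →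
      Nat.card (Subgroup.centralizer ({g} : Set (Matrix.GeneralLinearGroup (Fin 2) F))) = (Fintype.card F - 1) ^ 2) ∧
    ((∀ (c : F) (v : Fin 2 → F), v ≠ 0 → (g : Matrix (Fin 2) (Fin 2) F).mulVec v ≠ c • v) →
      Nat.card (Subgroup.centralizer ({g} : Set (Matrix.GeneralLinearGroup (Fin 2) F))) = Fintype.card F ^ 2 - 1) := by
  exact ⟨card_centralizer_diag g, card_centralizer_elliptic g⟩

end Cfsg.Agent.S2303
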