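import Cfsg.Statements.S2306
import Cfsg.Agent.Lib.Helper13.PSSL

set_option autoImplicit false
open Cfsg

namespace Cfsg.Agent.S2306

/-- Over a finite field F, for a multiplicative character α of F, the function induced to SL₂ from the linear character b ↦ α(b₁₁) of the upper triangular subgroup is an irreducible character if and only if α² ≠ 1. -/
theorem result {F : Type*} [Field F] [Fintype F] [DecidableEq F] (α : MulChar F ℂ) :
    Cfsg.IsIrrCharacter (Matrix.SpecialLinearGroup (Fin 2) F) (Cfsg.indFun ((Cfsg.upperTriangularGL 2 F).comap Matrix.SpecialLinearGroup.toGL) (fun b => α (((b : Matrix.SpecialLinearGroup (Fin 2) F) : Matrix (Fin 2) (Fin 2) F) 0 0))) ↔ α ^ 2 ≠ 1 := by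
  have hchar := Cfsg.Agent.CharLib.IsCharacter.indFun (Cfsg.Agent.Lib.Helper13.borelSL F)
    (Cfsg.Agent.Lib.Helper13.isCharacter_psCharSL α)
  have hself := Cfsg.Agent.Lib.Helper13.classInner_indFun_psCharSL α α
  rw [if_pos rfl] at hself
  have hiff : α = α⁻¹ ↔ α ^ 2 = 1 := by
    rw [eq_inv_iff_mul_eq_one, sq]
  constructor
  · intro hirr h2
    change Cfsg.IsIrrCharacter _ (Cfsg.indFun (Cfsg.Agent.Lib.Helper13.borelSL F)
      (Cfsg.Agent.Lib.Helper13.psCharSL α)) at hirr
    have h3 := Cfsg.Agent.CharLib.classInner_irr hirr hirr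
    rw [if_pos rfl, hself, if_pos (hiff.mpr h2)] at h3
    norm_num at h3
  · intro h2
    rw [if_neg (fun h => h2 (hiff.mp h)), add_zero] at hself
    exact Cfsg.Agent.Lib.Helper6.isIrrCharacter_of_classInner_self_eq_one hchar hself

end Cfsg.Agent.S2306
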