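import Cfsg.Statements.S2307
import Cfsg.Agent.Lib.Helper13.SLBridge3

set_option autoImplicit false
open Cfsg

namespace Cfsg.Agent.S2307

/-- Over a finite field F with q elements, q odd, let α be the multiplicative character of F of order 2. The character of SL₂ induced from the linear character b ↦ α(b₁₁) of the upper triangular subgroup is the sum of two distinct irreducible characters, each of degree (q + 1)/2, which are conjugate under GL₂: some fixed element of GL₂ conjugates the one into the other. -/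
theorem result {F : Type*} [Field F] [Fintype F] [DecidableEq F] (hodd : Odd (Fintype.card F)) (α : MulChar F ℂ)
    (hα : α ^ 2 = 1) (hα1 : α ≠ 1) :
    ∃ χ₁ χ₂ : Matrix.SpecialLinearGroup (Fin 2) F → ℂ, Cfsg.IsIrrCharacter (Matrix.SpecialLinearGroup (Fin 2) F) χ₁ ∧ Cfsg.IsIrrCharacter (Matrix.SpecialLinearGroup (Fin 2) F) χ₂ ∧ χ₁ ≠ χ₂ ∧
      Cfsg.indFun ((Cfsg.upperTriangularGL 2 F).comap Matrix.SpecialLinearGroup.toGL) (fun b => α (((b : Matrix.SpecialLinearGroup (Fin 2) F) : Matrix (Fin 2) (Fin 2) F) 0 0)) = χ₁ + χ₂ ∧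
      χ₁ 1 = (((Fintype.card F + 1) / 2 : ℕ) : ℂ) ∧ χ₂ 1 = (((Fintype.card F + 1) / 2 : ℕ) : ℂ) ∧
      ∃ x : Matrix.GeneralLinearGroup (Fin 2) F, ∀ g h : Matrix.SpecialLinearGroup (Fin 2) F,
        Matrix.SpecialLinearGroup.toGL h = x * Matrix.SpecialLinearGroup.toGL g * x⁻¹ → χ₂ h = χ₁ g := by
  have hψ := Cfsg.Agent.Lib.Helper13.isIrrCharacter_indFun_psChar (F := F) hα1
  have hres := Cfsg.Agent.Lib.Helper13.resSL_indFun_psChar α
  have hchar : Cfsg.IsCharacter (Matrix.SpecialLinearGroup (Fin 2) F)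
      (Cfsg.indFun (Cfsg.Agent.Lib.Helper13.borelSL F) (Cfsg.Agent.Lib.Helper13.psCharSL α)) := by
    rw [← hres]
    exact Cfsg.Agent.Lib.Helper13.isCharacter_resSL (Cfsg.Agent.CharLib.IsIrrCharacter.isCharacter hψ)
  have hinv : α = α⁻¹ := by
    rw [eq_inv_iff_mul_eq_one, ← pow_two]
    exact hα
  have hnorm := Cfsg.Agent.Lib.Helper13.classInner_indFun_psCharSL α α
  rw [if_pos rfl, if_pos hinv] at hnorm
  have hnorm2 : Cfsg.classInner (Cfsg.indFun (Cfsg.Agent.Lib.Helper13.borelSL F) (Cfsg.Agent.Lib.Helper13.psCharSL α))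
      (Cfsg.indFun (Cfsg.Agent.Lib.Helper13.borelSL F) (Cfsg.Agent.Lib.Helper13.psCharSL α)) = 2 := by
    rw [hnorm]; norm_num
  obtain ⟨χ₁, χ₂, hχ₁, hχ₂, hne, hsum, hc1, hc2⟩ :=
    Cfsg.Agent.Lib.Helper13.exists_two_of_norm_two hchar hnorm2
  rw [← hres] at hc1 hc2
  obtain ⟨x, hx⟩ := Cfsg.Agent.Lib.Helper13.conj_of_constituents_SL hψ hχ₂ hχ₁ hc2 hc1
  have hdeg : χ₂ 1 = χ₁ 1 := by
    apply hx 1 1
    rw [map_one, mul_one, mul_inv_cancel]
  have hone : χ₁ 1 + χ₂ 1 = (Fintype.card F : ℂ) + 1 := by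
    have h1 := congrFun hsum 1
    rw [← hres, Cfsg.Agent.Lib.Helper13.resSL_one, Cfsg.Agent.Lib.Helper13.indFun_psChar_one] at h1
    rw [h1]
    rfl
  obtain ⟨m, hm⟩ := hodd
  have hhalf : ((Fintype.card F + 1) / 2 : ℕ) = m + 1 := by
    rw [hm]; omega
  have hd1 : χ₁ 1 = (((Fintype.card F + 1) / 2 : ℕ) : ℂ) := by
    rw [hhalf]
    rw [hdeg, hm] at hone
    push_cast at hone ⊢
    linear_combination hone / 2
  refine ⟨χ₁, χ₂, hχ₁, hχ₂, hne, hsum, hd1, ?_, x, hx⟩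
  rw [hdeg]
  exact hd1

end Cfsg.Agent.S2307
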