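import Cfsg.Statements.S2308
import Mathlib

set_option autoImplicit false
open Cfsg

namespace Cfsg.Agent.S2308


open Matrix

variable {F : Type*} [Field F]

theorem mem_borel_iff (x : GL (Fin 2) F) :
    x ∈ Cfsg.upperTriangularGL 2 F ↔ (x : Matrix (Fin 2) (Fin 2) F) 1 0 = 0 := by
  change (x : Matrix (Fin 2) (Fin 2) F).BlockTriangular id ↔ _
  constructor
  · intro h
    exact h (by decide : (id (0 : Fin 2)) < id (1 : Fin 2))
  · intro h i j hij
    fin_cases i <;> fin_cases j <;> simp_all

/-- Coset representative `[[c, 1], [1, 0]]`. -/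
def xc (c : F) : GL (Fin 2) F :=
  ⟨!![c, 1; 1, 0], !![0, 1; 1, -c],
    by ext i j; fin_cases i <;> fin_cases j <;> simp [Matrix.mul_apply, Fin.sum_univ_two],
    by ext i j; fin_cases i <;> fin_cases j <;> simp [Matrix.mul_apply, Fin.sum_univ_two]⟩

theorem xc_coe (c : F) : ((xc c : GL (Fin 2) F) : Matrix (Fin 2) (Fin 2) F) = !![c, 1; 1, 0] := rfl

theorem xc_inv_coe (c : F) :
    (((xc c)⁻¹ : GL (Fin 2) F) : Matrix (Fin 2) (Fin 2) F) = !![0, 1; 1, -c] := rfl

/-- The parametrisation of `GL₂ / B` by the projective line `Option F`. -/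
def cosetOf (o : Option F) : GL (Fin 2) F ⧸ Cfsg.upperTriangularGL 2 F :=
  match o with
  | none => ((1 : GL (Fin 2) F) : GL (Fin 2) F ⧸ Cfsg.upperTriangularGL 2 F)
  | some c => ((xc c : GL (Fin 2) F) : GL (Fin 2) F ⧸ Cfsg.upperTriangularGL 2 F)

theorem cosetOf_bijective : Function.Bijective (cosetOf (F := F)) := by
  constructor
  · intro o o' h
    cases o with
    | none =>
      cases o' with
      | none => rfl
      | some c' =>
        exfalso
        simp only [cosetOf] at h
        rw [QuotientGroup.eq, inv_one, one_mul, mem_borel_iff, xc_coe] at h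
        simp at h
    | some c =>
      cases o' with
      | none =>
        exfalso
        simp only [cosetOf] at h
        rw [QuotientGroup.eq, mul_one, mem_borel_iff, xc_inv_coe] at h
        simp at h
      | some c' =>
        simp only [cosetOf] at h
        rw [QuotientGroup.eq, mem_borel_iff, Units.val_mul, xc_inv_coe, xc_coe] at h
        simp [Matrix.mul_apply, Fin.sum_univ_two] at h
        congr 1
        linear_combination (-1 : F) * h
  · intro q
    induction q using QuotientGroup.induction_on with
    | H x =>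
      by_cases hb : (x : Matrix (Fin 2) (Fin 2) F) 1 0 = 0
      · refine ⟨none, ?_⟩
        simp only [cosetOf]
        rw [QuotientGroup.eq, inv_one, one_mul, mem_borel_iff]
        exact hb
      · refine ⟨some ((x : Matrix (Fin 2) (Fin 2) F) 0 0 / (x : Matrix (Fin 2) (Fin 2) F) 1 0), ?_⟩
        simp only [cosetOf]
        rw [QuotientGroup.eq, mem_borel_iff, Units.val_mul, xc_inv_coe]
        simp [Matrix.mul_apply, Fin.sum_univ_two]
        field_simp
        ring

/-- Criterion for `g` to fix the coset `cosetOf o`. -/
theorem fixes_cosetOf_iff (g : GL (Fin 2) F) (o : Option F) :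
    g • cosetOf o = cosetOf o ↔
      match o with
      | none => (g : Matrix (Fin 2) (Fin 2) F) 1 0 = 0
      | some c => (g : Matrix (Fin 2) (Fin 2) F) 0 1 +
          ((g : Matrix (Fin 2) (Fin 2) F) 0 0 - (g : Matrix (Fin 2) (Fin 2) F) 1 1) * c -
          (g : Matrix (Fin 2) (Fin 2) F) 1 0 * c ^ 2 = 0 := by
  cases o with
  | none =>
    simp only [cosetOf]
    rw [MulAction.Quotient.smul_mk, eq_comm, QuotientGroup.eq, inv_one, one_mul, smul_eq_mul, mul_one,
      mem_borel_iff]
  | some c =>
    simp only [cosetOf]
    rw [MulAction.Quotient.smul_mk, eq_comm, QuotientGroup.eq, smul_eq_mul, mem_borel_iff,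
      Units.val_mul, Units.val_mul, xc_inv_coe, xc_coe]
    simp [Matrix.mul_apply, Fin.sum_univ_two]
    constructor <;> intro h <;> linear_combination h

theorem card_fixedBy (g : GL (Fin 2) F) (P : Option F → Prop)
    (hP : ∀ o, g • cosetOf o = cosetOf o ↔ P o) :
    Nat.card (MulAction.fixedBy (GL (Fin 2) F ⧸ Cfsg.upperTriangularGL 2 F) g) =
      Nat.card {o : Option F // P o} := by
  symm
  refine Nat.card_congr (Equiv.ofBijective
    (fun o : {o : Option F // P o} =>
      (⟨cosetOf o.1, (hP o.1).mpr o.2⟩ :
        MulAction.fixedBy (GL (Fin 2) F ⧸ Cfsg.upperTriangularGL 2 F) g)) ⟨?_, ?_⟩)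
  · intro o o' h
    exact Subtype.ext (cosetOf_bijective.1 (congrArg Subtype.val h))
  · rintro ⟨q, hq⟩
    obtain ⟨o, rfl⟩ := cosetOf_bijective.2 q
    exact ⟨⟨o, (hP o).mp hq⟩, rfl⟩

/-- Values of the permutation character of GL₂ over a finite field F with q elements on the cosets of its upper triangular subgroup (equivalently, the number of lines of F² that an element maps to themselves): q + 1 at a scalar matrix, 2 at a diagonal matrix with two different diagonal entries, 0 at an element with no eigenvector in F², and 1 at an upper triangular matrix with equal diagonal entries and non-zero upper right entry. -/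
theorem result {F : Type*} [Field F] [Fintype F] (g : Matrix.GeneralLinearGroup (Fin 2) F) :
    ((∃ a : F, (g : Matrix (Fin 2) (Fin 2) F) = a • (1 : Matrix (Fin 2) (Fin 2) F)) → Cfsg.fixedPointCharacter (Cfsg.upperTriangularGL 2 F) g = Fintype.card F + 1) ∧
    ((g : Matrix (Fin 2) (Fin 2) F) 0 1 = 0 → (g : Matrix (Fin 2) (Fin 2) F) 1 0 = 0 → (g : Matrix (Fin 2) (Fin 2) F) 0 0 ≠ (g : Matrix (Fin 2) (Fin 2) F) 1 1 →
      Cfsg.fixedPointCharacter (Cfsg.upperTriangularGL 2 F) g = 2) ∧
    ((∀ (c : F) (v : Fin 2 → F), v ≠ 0 → (g : Matrix (Fin 2) (Fin 2) F).mulVec v ≠ c • v) → Cfsg.fixedPointCharacter (Cfsg.upperTriangularGL 2 F) g = 0) ∧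
    ((g : Matrix (Fin 2) (Fin 2) F) 1 0 = 0 → (g : Matrix (Fin 2) (Fin 2) F) 0 0 = (g : Matrix (Fin 2) (Fin 2) F) 1 1 → (g : Matrix (Fin 2) (Fin 2) F) 0 1 ≠ 0 →
      Cfsg.fixedPointCharacter (Cfsg.upperTriangularGL 2 F) g = 1) := by
  classical
  set m : Matrix (Fin 2) (Fin 2) F := (g : Matrix (Fin 2) (Fin 2) F) with hm
  unfold Cfsg.fixedPointCharacter
  refine ⟨?_, ?_, ?_, ?_⟩
  · rintro ⟨a, ha⟩
    have h00 : m 0 0 = a := by rw [ha]; simp
    have h11 : m 1 1 = a := by rw [ha]; simp
    have h01 : m 0 1 = 0 := by rw [ha]; simp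
    have h10 : m 1 0 = 0 := by rw [ha]; simp
    rw [card_fixedBy g (fun _ => True) (by
      intro o
      rw [fixes_cosetOf_iff]
      cases o with
      | none => simp [← hm, h10]
      | some c => simp [← hm, h00, h11, h01, h10])]
    have : Nat.card {o : Option F // True} = Fintype.card F + 1 := by
      rw [Nat.card_congr (Equiv.subtypeUnivEquiv (fun _ => trivial)), Nat.card_eq_fintype_card,
        Fintype.card_option]
    rw [this]; push_cast; rfl
  · intro h01 h10 hne
    rw [card_fixedBy g (fun o => o = none ∨ o = some 0) (by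
      intro o
      rw [fixes_cosetOf_iff]
      cases o with
      | none => simp [← hm, h10]
      | some c =>
        simp only [← hm, h01, h10, zero_mul, sub_zero, zero_add, reduceCtorEq, false_or,
          Option.some.injEq]
        constructor
        · intro h
          rcases mul_eq_zero.mp h with h' | h'
          · exact absurd (sub_eq_zero.mp h') hne
          · exact h'
        · rintro rfl
          rw [mul_zero])]
    have : Nat.card {o : Option F // o = none ∨ o = some 0} = 2 := by
      change Nat.card ↥({none, some 0} : Set (Option F)) = 2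
      rw [Nat.card_coe_set_eq, Set.ncard_pair]
      simp
    rw [this]; norm_num
  · intro hg
    have h10 : m 1 0 ≠ 0 := by
      intro h0
      apply hg (m 0 0) ![1, 0]
      · intro h
        have := congrFun h 0
        simp at this
      · ext i
        fin_cases i <;> simp [Matrix.mulVec, dotProduct, Fin.sum_univ_two, h0]
    rw [card_fixedBy g (fun _ => False) (by
      intro o
      rw [fixes_cosetOf_iff]
      cases o with
      | none => simp [← hm, h10]
      | some c =>
        simp only [← hm, iff_false]
        intro h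
        apply hg (m 1 0 * c + m 1 1) ![c, 1]
        · intro h'
          have := congrFun h' 1
          simp at this
        · ext i
          fin_cases i <;> simp [Matrix.mulVec, dotProduct, Fin.sum_univ_two]
          linear_combination h)]
    have : Nat.card {o : Option F // False} = 0 := by
      rw [Nat.card_eq_zero]
      left
      exact ⟨fun x => x.2⟩
    rw [this]; norm_num
  · intro h10 h00 h01
    rw [card_fixedBy g (fun o => o = none) (by
      intro o
      rw [fixes_cosetOf_iff]
      cases o with
      | none => simp [← hm, h10]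
      | some c => simp [← hm, h10, h00, h01])]
    have : Nat.card {o : Option F // o = none} = 1 := by
      rw [Nat.card_eq_one_iff_unique]
      exact ⟨⟨fun a b => Subtype.ext (a.2.trans b.2.symm)⟩, ⟨⟨none, rfl⟩⟩⟩
    rw [this]; norm_num

end Cfsg.Agent.S2308
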