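import Cfsg.Statements.S2309
import Cfsg.Agent.Lib.Helper13.PSCusp

set_option autoImplicit false
open Cfsg

namespace Cfsg.Agent.S2309

/-- Over a finite field F with q elements: every irreducible complex character of GL₂ of degree q − 1 vanishes at every diagonal matrix with two distinct entries, and every irreducible complex character of degree q + 1 vanishes at every element with no eigenvector in F². -/
theorem result {F : Type*} [Field F] [Fintype F] (χ : Matrix.GeneralLinearGroup (Fin 2) F → ℂ) (hχ : Cfsg.IsIrrCharacter (Matrix.GeneralLinearGroup (Fin 2) F) χ) (g : Matrix.GeneralLinearGroup (Fin 2) F) :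
    (χ 1 = (Fintype.card F : ℂ) - 1 → (g : Matrix (Fin 2) (Fin 2) F) 0 1 = 0 → (g : Matrix (Fin 2) (Fin 2) F) 1 0 = 0 → (g : Matrix (Fin 2) (Fin 2) F) 0 0 ≠ (g : Matrix (Fin 2) (Fin 2) F) 1 1 → χ g = 0) ∧
    (χ 1 = (Fintype.card F : ℂ) + 1 → (∀ (c : F) (v : Fin 2 → F), v ≠ 0 → (g : Matrix (Fin 2) (Fin 2) F).mulVec v ≠ c • v) → χ g = 0) := by
  classical
  have hq : 1 < Fintype.card F := Fintype.one_lt_card
  have hcast : ((Fintype.card F - 1 : ℕ) : ℂ) = (Fintype.card F : ℂ) - 1 := by
    push_cast [Nat.cast_sub (by omega : 1 ≤ Fintype.card F)]; ring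
  obtain ⟨r, hr⟩ : ∃ r, Fintype.card F = r + 1 := ⟨Fintype.card F - 1, by omega⟩
  have hr1 : 1 ≤ r := by omega
  rcases Cfsg.Agent.Lib.Helper13.irr_cases hχ with h | ⟨α, β, hαβ, rfl⟩ | ⟨α, rfl⟩ | ⟨α, rfl⟩
  · constructor
    · intro _ h01 h10 hne
      exact Cfsg.Agent.Lib.Helper13.cusp_split_eq_zero (Cfsg.Agent.CharLib.IsIrrCharacter.isCharacter hχ)
        h g h01 h10 hne
    · intro h1 _
      exfalso
      obtain ⟨m, hm1, hm3, hm0, hm2⟩ := Cfsg.Agent.Lib.Helper13.cusp_int hχ h
      rw [hr] at hm2
      rw [hm1, hr] at h1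
      simp only [Nat.add_sub_cancel] at h1
      have h1' : m * r = r + 1 + 1 := by exact_mod_cast h1
      have h2 : 2 ≤ m := by
        by_contra hlt
        have : m = 1 := by omega
        subst this
        omega
      have h3 : r ≤ 2 := by nlinarith
      have h4 : r = 1 ∨ r = 2 := by omega
      rcases h4 with rfl | rfl
      · have : m = 3 := by omega
        subst this
        omega
      · have : m = 2 := by omega
        subst this
        omega
  · rw [Cfsg.Agent.Lib.Helper13.indFun_psChar_one]
    constructor
    · intro h1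
      exfalso
      have : (2 : ℂ) = 0 := by linear_combination h1
      norm_num at this
    · intro _ hg
      exact Cfsg.Agent.Lib.Helper13.indFun_ut_elliptic _ g hg
  · rw [Cfsg.Agent.Lib.Helper13.detChar_one]
    constructor
    · intro h1 h01 h10 hne
      exfalso
      rw [← hcast] at h1
      have h2 : 1 = Fintype.card F - 1 := by exact_mod_cast h1
      have hdet : (g : Matrix (Fin 2) (Fin 2) F).det ≠ 0 :=
        ((Matrix.isUnit_iff_isUnit_det _).mp g.isUnit).ne_zero
      rw [Matrix.det_fin_two, h01, zero_mul, sub_zero] at hdet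
      have ha := FiniteField.pow_card_sub_one_eq_one _ (left_ne_zero_of_mul hdet)
      have hd := FiniteField.pow_card_sub_one_eq_one _ (right_ne_zero_of_mul hdet)
      rw [← h2, pow_one] at ha hd
      exact hne (ha.trans hd.symm)
    · intro h1
      exfalso
      have : (Fintype.card F : ℂ) = 0 := by linear_combination -h1
      have : Fintype.card F = 0 := by exact_mod_cast this
      omega
  · rw [Cfsg.Agent.Lib.Helper13.stChar_one]
    constructor
    · intro h1
      exfalso
      have : (1 : ℂ) = 0 := by linear_combination h1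
      exact one_ne_zero this
    · intro h1
      exfalso
      have : (1 : ℂ) = 0 := by linear_combination -h1
      exact one_ne_zero this

end Cfsg.Agent.S2309
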