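import Cfsg.Statements.S2310
import Cfsg.Agent.Lib.Helper13.PSClass

set_option autoImplicit false
open Cfsg

namespace Cfsg.Agent.S2310

/-- Over a finite field F with q ≥ 3 elements, let u be the upper unitriangular matrix of GL₂ with off-diagonal entry 1. An irreducible complex character χ of GL₂ takes at u the value 1 if χ has degree 1 or q + 1, the value −1 if χ has degree q − 1, and the value 0 if χ has degree q. -/
theorem result {F : Type*} [Field F] [Fintype F] (hq : 3 ≤ Fintype.card F) (χ : Matrix.GeneralLinearGroup (Fin 2) F → ℂ) (hχ : Cfsg.IsIrrCharacter (Matrix.GeneralLinearGroup (Fin 2) F) χ)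
    (u : Matrix.GeneralLinearGroup (Fin 2) F) (hu : (u : Matrix (Fin 2) (Fin 2) F) = !![1, 1; 0, 1]) :
    (χ 1 = 1 → χ u = 1) ∧ (χ 1 = (Fintype.card F : ℂ) + 1 → χ u = 1) ∧
    (χ 1 = (Fintype.card F : ℂ) - 1 → χ u = -1) ∧ (χ 1 = (Fintype.card F : ℂ) → χ u = 0) := by
  classical
  have hu' : u = Cfsg.Agent.Lib.Helper13.tGL 1 := by
    apply Units.ext
    rw [hu, Cfsg.Agent.Lib.Helper13.tGL_coe]
  have hcast : ((Fintype.card F - 1 : ℕ) : ℂ) = (Fintype.card F : ℂ) - 1 := by
    push_cast [Nat.cast_sub (by omega : 1 ≤ Fintype.card F)]; ring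
  obtain ⟨r, hr⟩ : ∃ r, Fintype.card F = r + 1 := ⟨Fintype.card F - 1, by omega⟩
  have hr2 : 2 ≤ r := by omega
  rcases Cfsg.Agent.Lib.Helper13.irr_cases hχ with h | ⟨α, β, hαβ, rfl⟩ | ⟨α, rfl⟩ | ⟨α, rfl⟩
  · obtain ⟨m, hm1, hm3, hm0, hm2⟩ := Cfsg.Agent.Lib.Helper13.cusp_int hχ h
    rw [hr] at hm2
    rw [hr] at hm1
    simp only [Nat.add_sub_cancel] at hm1
    refine ⟨?_, ?_, ?_, ?_⟩
    · intro h1
      exfalso
      rw [hm1] at h1
      have h1' : m * r = 1 := by exact_mod_cast h1
      nlinarith
    · intro h1
      exfalso
      rw [hm1, hr] at h1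
      have h1' : m * r = r + 1 + 1 := by exact_mod_cast h1
      have h2 : 2 ≤ m := by
        by_contra hlt
        have : m = 1 := by omega
        subst this
        omega
      have h3 : r ≤ 2 := by nlinarith
      have hr' : r = 2 := by omega
      subst hr'
      have : m = 2 := by omega
      subst this
      omega
    · intro h1
      rw [hm1, ← hcast, hr] at h1
      simp only [Nat.add_sub_cancel] at h1
      have h1' : m * r = r := by exact_mod_cast h1
      have : m = 1 := by nlinarith
      rw [hu', hm3, this]
      simp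
    · intro h1
      exfalso
      rw [hm1, hr] at h1
      have h1' : m * r = r + 1 := by exact_mod_cast h1
      have h2 : 2 ≤ m := by
        by_contra hlt
        have : m = 1 := by omega
        subst this
        omega
      nlinarith
  · rw [Cfsg.Agent.Lib.Helper13.indFun_psChar_one]
    refine ⟨?_, ?_, ?_, ?_⟩
    · intro h1
      exfalso
      have : (Fintype.card F : ℂ) = 0 := by linear_combination h1
      have : Fintype.card F = 0 := by exact_mod_cast this
      omega
    · intro _
      exact Cfsg.Agent.Lib.Helper13.indFun_psChar_unip α β u 1 one_ne_zero hu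
    · intro h1
      exfalso
      have : (2 : ℂ) = 0 := by linear_combination h1
      norm_num at this
    · intro h1
      exfalso
      have : (1 : ℂ) = 0 := by linear_combination h1
      exact one_ne_zero this
  · rw [Cfsg.Agent.Lib.Helper13.detChar_one]
    refine ⟨?_, ?_, ?_, ?_⟩
    · intro _
      rw [Cfsg.Agent.Lib.Helper13.detChar_apply, hu]
      simp [Matrix.det_fin_two]
    · intro h1
      exfalso
      have : (Fintype.card F : ℂ) = 0 := by linear_combination -h1
      have : Fintype.card F = 0 := by exact_mod_cast this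
      omega
    · intro h1
      exfalso
      rw [← hcast] at h1
      have : 1 = Fintype.card F - 1 := by exact_mod_cast h1
      omega
    · intro h1
      exfalso
      have : 1 = Fintype.card F := by exact_mod_cast h1
      omega
  · rw [Cfsg.Agent.Lib.Helper13.stChar_one]
    refine ⟨?_, ?_, ?_, ?_⟩
    · intro h1
      exfalso
      have : Fintype.card F = 1 := by exact_mod_cast h1
      omega
    · intro h1
      exfalso
      have : (1 : ℂ) = 0 := by linear_combination -h1
      exact one_ne_zero this
    · intro h1
      exfalso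
      have : (1 : ℂ) = 0 := by linear_combination h1
      exact one_ne_zero this
    · intro _
      exact Cfsg.Agent.Lib.Helper13.stChar_unip α u 1 one_ne_zero hu

end Cfsg.Agent.S2310
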