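import Cfsg.Statements.S2317
-- import your own Cfsg.Agent.* helpers here
import Cfsg.Agent.Lib.Helper15.NilpotentConj

set_option autoImplicit false
open Cfsg

namespace Cfsg.Agent.S2317

open Cfsg.Agent.Lib.Helper15.NilpotentConj

theorem main {F : Type*} [Field F] (p : ℕ) [Fact p.Prime] [CharP F p] (n : ℕ) :
    Nat.card {C : ConjClasses (Matrix.GeneralLinearGroup (Fin n) F) //
      ∃ g : Matrix.GeneralLinearGroup (Fin n) F, (∃ k : ℕ, orderOf g = p ^ k) ∧ ConjClasses.mk g = C} =
      Fintype.card (Nat.Partition n) := by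
  have h := card_classes (F := F) (n := n) (fun _ => True) (fun _ => True) (fun _ _ _ _ => Iff.rfl)
  have h2 : Nat.card {μ : Nat.Partition n // True} = Fintype.card (Nat.Partition n) := by
    rw [Nat.card_congr (Equiv.subtypeUnivEquiv (fun _ => trivial)), Nat.card_eq_fintype_card]
  rw [← h2, ← h]
  apply Nat.card_congr
  apply Equiv.subtypeEquivRight
  intro C
  constructor
  · rintro ⟨g, hg, rfl⟩
    exact ⟨g, ⟨(unip_iff p g).1 hg, trivial⟩, rfl⟩
  · rintro ⟨g, ⟨hg, _⟩, rfl⟩
    exact ⟨g, (unip_iff p g).2 hg, rfl⟩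

/-- Over a finite field of characteristic p, the conjugacy classes of GL_n consisting of elements of p-power order (the unipotent classes) are as many as the partitions of n. -/
theorem result {F : Type*} [Field F] [Fintype F] (p : ℕ) [Fact p.Prime] [CharP F p] (n : ℕ) :
    Nat.card {C : ConjClasses (Matrix.GeneralLinearGroup (Fin n) F) //
      ∃ g : Matrix.GeneralLinearGroup (Fin n) F, (∃ k : ℕ, orderOf g = p ^ k) ∧ ConjClasses.mk g = C} =
      Fintype.card (Nat.Partition n) := by
  exact main p n

end Cfsg.Agent.S2317
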