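import Cfsg.Statements.S2320
import Cfsg.Agent.Lib.Helper13.PSClass

set_option autoImplicit false
open Cfsg

namespace Cfsg.Agent.S2320

/-- Over a finite field F with q elements, every irreducible complex character of GL₂ of degree q takes a value of absolute value 1 at every diagonal matrix with two different diagonal entries and at every element with no eigenvector in F². -/
theorem result {F : Type*} [Field F] [Fintype F] (χ : Matrix.GeneralLinearGroup (Fin 2) F → ℂ) (hχ : Cfsg.IsIrrCharacter (Matrix.GeneralLinearGroup (Fin 2) F) χ) (hdeg : χ 1 = (Fintype.card F : ℂ)) (g : Matrix.GeneralLinearGroup (Fin 2) F) :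
    ((g : Matrix (Fin 2) (Fin 2) F) 0 1 = 0 → (g : Matrix (Fin 2) (Fin 2) F) 1 0 = 0 → (g : Matrix (Fin 2) (Fin 2) F) 0 0 ≠ (g : Matrix (Fin 2) (Fin 2) F) 1 1 → ‖χ g‖ = 1) ∧
    ((∀ (c : F) (v : Fin 2 → F), v ≠ 0 → (g : Matrix (Fin 2) (Fin 2) F).mulVec v ≠ c • v) → ‖χ g‖ = 1) := by
  classical
  have hq : 1 < Fintype.card F := Fintype.one_lt_card
  have hdet : (g : Matrix (Fin 2) (Fin 2) F).det ≠ 0 :=
    ((Matrix.isUnit_iff_isUnit_det _).mp g.isUnit).ne_zero
  rcases Cfsg.Agent.Lib.Helper13.irr_cases hχ with h | ⟨α, β, hαβ, rfl⟩ | ⟨α, rfl⟩ | ⟨α, rfl⟩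
  · exfalso
    obtain ⟨m, hm1, -, hm0, hm2⟩ := Cfsg.Agent.Lib.Helper13.cusp_int hχ h
    rw [hdeg] at hm1
    have hm1' : Fintype.card F = m * (Fintype.card F - 1) := by exact_mod_cast hm1
    obtain ⟨r, hr⟩ : ∃ r, Fintype.card F = r + 1 := ⟨Fintype.card F - 1, by omega⟩
    rw [hr] at hm1' hm2
    simp only [Nat.add_sub_cancel] at hm1'
    have hr1 : 1 ≤ r := by omega
    have h2 : 2 ≤ m := by
      by_contra hlt
      have : m = 1 := by omega
      subst this
      omega
    have h3 : r ≤ 1 := by nlinarith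
    have hr' : r = 1 := by omega
    subst hr'
    have : m = 2 := by omega
    subst this
    omega
  · exfalso
    rw [Cfsg.Agent.Lib.Helper13.indFun_psChar_one] at hdeg
    have : (1 : ℂ) = 0 := by linear_combination hdeg
    exact one_ne_zero this
  · exfalso
    rw [Cfsg.Agent.Lib.Helper13.detChar_one] at hdeg
    have : (1 : ℕ) = Fintype.card F := by exact_mod_cast hdeg
    omega
  · constructor
    · intro h01 h10 hne
      rw [Cfsg.Agent.Lib.Helper13.stChar_split α g h01 h10 hne, norm_mul]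
      rw [Matrix.det_fin_two, h01, zero_mul, sub_zero] at hdet
      rw [Cfsg.Agent.Lib.Helper13.norm_mulChar_apply α (left_ne_zero_of_mul hdet),
        Cfsg.Agent.Lib.Helper13.norm_mulChar_apply α (right_ne_zero_of_mul hdet), one_mul]
    · intro hg
      rw [Cfsg.Agent.Lib.Helper13.stChar_elliptic α g hg, norm_neg,
        Cfsg.Agent.Lib.Helper13.norm_mulChar_apply α hdet]

end Cfsg.Agent.S2320
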