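import Cfsg.Statements.S2321
import Cfsg.Agent.Lib.Helper13.SLBridge2

set_option autoImplicit false
open Cfsg

namespace Cfsg.Agent.S2321

/-- Over a finite field F with q elements, an irreducible complex character of SL₂ of degree q (the Steinberg character) takes the value 1 at every diagonal matrix whose diagonal entry a has a² ≠ 1, the value −1 at every element with no eigenvector in F², and the value 0 at every upper triangular matrix with equal diagonal entries and non-zero upper right entry. -/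
theorem result {F : Type*} [Field F] [Fintype F] (χ : Matrix.SpecialLinearGroup (Fin 2) F → ℂ) (hχ : Cfsg.IsIrrCharacter (Matrix.SpecialLinearGroup (Fin 2) F) χ) (hdeg : χ 1 = (Fintype.card F : ℂ)) (g : Matrix.SpecialLinearGroup (Fin 2) F) :
    ((g : Matrix (Fin 2) (Fin 2) F) 0 1 = 0 → (g : Matrix (Fin 2) (Fin 2) F) 1 0 = 0 → (g : Matrix (Fin 2) (Fin 2) F) 0 0 ^ 2 ≠ 1 → χ g = 1) ∧
    ((∀ (c : F) (v : Fin 2 → F), v ≠ 0 → (g : Matrix (Fin 2) (Fin 2) F).mulVec v ≠ c • v) → χ g = -1) ∧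
    ((g : Matrix (Fin 2) (Fin 2) F) 1 0 = 0 → (g : Matrix (Fin 2) (Fin 2) F) 0 0 = (g : Matrix (Fin 2) (Fin 2) F) 1 1 → (g : Matrix (Fin 2) (Fin 2) F) 0 1 ≠ 0 → χ g = 0) := by
  classical
  open Cfsg.Agent.Lib.Helper13 Cfsg.Agent.CharLib in
  obtain ⟨ψ, hψ, h1⟩ := exists_irr_over_SL hχ
  open Cfsg.Agent.Lib.Helper13 Cfsg.Agent.CharLib in
  obtain ⟨n, hn, hn0, hnk⟩ := under_cases hψ hχ h1
  have hval : ∀ (ψ : Matrix.GeneralLinearGroup (Fin 2) F → ℂ) g,
      Cfsg.Agent.Lib.Helper13.resSL ψ g = ψ (Matrix.SpecialLinearGroup.toGL g) :=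
    fun ψ g => rfl
  have hq : 1 < Fintype.card F := Fintype.one_lt_card
  rw [hdeg] at hn hnk
  have key : ∃ α : MulChar F ℂ, χ = Cfsg.Agent.Lib.Helper13.resSL (Cfsg.Agent.Lib.Helper13.stChar α) := by
    rcases Cfsg.Agent.Lib.Helper13.irr_GL2_cases hψ with ⟨-, hd⟩ | ⟨⟨α, hψe⟩, hd⟩ | ⟨-, hd⟩ | ⟨hd, -⟩
    · exfalso
      rw [hd] at hn
      have h2 : ((1 : ℕ) : ℂ) = ((Fintype.card F + n : ℕ) : ℂ) := by
        push_cast; exact hn
      have h3 : 1 = Fintype.card F + n := by exact_mod_cast h2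
      omega
    · rw [hd] at hn
      have h2 : ((Fintype.card F : ℕ) : ℂ) = ((Fintype.card F + n : ℕ) : ℂ) := by
        push_cast; exact hn
      have h3 : Fintype.card F = Fintype.card F + n := by exact_mod_cast h2
      have h4 : n = 0 := by omega
      exact ⟨α, by rw [← hψe, hn0 h4]⟩
    · exfalso
      rw [hd] at hn
      have h2 : ((Fintype.card F + 1 : ℕ) : ℂ) = ((Fintype.card F + n : ℕ) : ℂ) := by
        push_cast; exact hn
      have h3 : Fintype.card F + 1 = Fintype.card F + n := by exact_mod_cast h2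
      have h4 : n ≠ 0 := by omega
      obtain ⟨k, hk⟩ := hnk h4
      have h5 : ((n : ℕ) : ℂ) = ((Fintype.card F + k : ℕ) : ℂ) := by
        push_cast; exact hk
      have h6 : n = Fintype.card F + k := by exact_mod_cast h5
      omega
    · exfalso
      rw [hd] at hn
      have h2 : ((Fintype.card F : ℕ) : ℂ) = ((Fintype.card F + n + 1 : ℕ) : ℂ) := by
        push_cast; linear_combination hn
      have h3 : Fintype.card F = Fintype.card F + n + 1 := by exact_mod_cast h2
      omega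
  obtain ⟨α, rfl⟩ := key
  have hdet : (g : Matrix (Fin 2) (Fin 2) F) 0 0 * (g : Matrix (Fin 2) (Fin 2) F) 1 1 -
      (g : Matrix (Fin 2) (Fin 2) F) 0 1 * (g : Matrix (Fin 2) (Fin 2) F) 1 0 = 1 := by
    have := g.2
    rw [Matrix.det_fin_two] at this
    exact this
  refine ⟨?_, ?_, ?_⟩
  · intro h01 h10 hne
    rw [h01, zero_mul, sub_zero] at hdet
    rw [hval, Cfsg.Agent.Lib.Helper13.stChar_split α _ h01 h10, ← map_mul]
    · change α ((g : Matrix (Fin 2) (Fin 2) F) 0 0 * (g : Matrix (Fin 2) (Fin 2) F) 1 1) = 1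
      rw [hdet, map_one]
    · change (g : Matrix (Fin 2) (Fin 2) F) 0 0 ≠ (g : Matrix (Fin 2) (Fin 2) F) 1 1
      intro heq
      apply hne
      rw [← heq] at hdet
      rw [pow_two]
      exact hdet
  · intro hell
    rw [hval, Cfsg.Agent.Lib.Helper13.stChar_elliptic α _ hell]
    change -α ((g : Matrix (Fin 2) (Fin 2) F).det) = -1
    rw [g.2, map_one]
  · intro h10 h0011 h01
    rw [hval]
    apply Cfsg.Agent.Lib.Helper13.stChar_scal_unip α _ ((g : Matrix (Fin 2) (Fin 2) F) 0 0)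
      ((g : Matrix (Fin 2) (Fin 2) F) 0 1) h01
    change (g : Matrix (Fin 2) (Fin 2) F) = _
    ext i j
    fin_cases i <;> fin_cases j
    · rfl
    · rfl
    · exact h10
    · exact h0011.symm

end Cfsg.Agent.S2321
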