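import Cfsg.Statements.S2322
import Cfsg.Agent.Lib.Helper13.SLNormBound
import Cfsg.Agent.S2309

set_option autoImplicit false
open Cfsg

namespace Cfsg.Agent.S2322

open Matrix Cfsg.Agent.CharLib Cfsg.Agent.Lib.Helper13

/-- Numerical data of an irreducible character of `SL₂` under an irreducible character of `GL₂`. -/
theorem type_nat {F : Type*} [Field F] [Fintype F] [DecidableEq F]
    {X : GL (Fin 2) F → ℂ} (hX : IsIrrCharacter (GL (Fin 2) F) X)
    {θ : SpecialLinearGroup (Fin 2) F → ℂ} (hθ : IsIrrCharacter (SpecialLinearGroup (Fin 2) F) θ)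
    (h1 : classInner (resSL X) θ ≠ 0) :
    ∃ m k d : ℕ, m ≠ 0 ∧ θ 1 = (d : ℂ) ∧ X 1 = ((m * d : ℕ) : ℂ) ∧
      ((m * d = 1 ∧ m * (Fintype.card F * k) = Fintype.card F) ∨
       (m * d = Fintype.card F ∧ m * (Fintype.card F * k) = Fintype.card F) ∨
       (m * d = Fintype.card F + 1 ∧ m * (Fintype.card F * k) = 2 * Fintype.card F) ∨
       (m * d + 1 = Fintype.card F ∧ X 1 = (Fintype.card F : ℂ) - 1 ∧ X (tGL 1) = -1)) := by
  obtain ⟨m, k, hm0, hm, -, hσ⟩ := unip_sum_prop hX hθ h1
  obtain ⟨d, -, hd⟩ := IsIrrCharacter.apply_one_pos hθ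
  have hq : 1 < Fintype.card F := Fintype.one_lt_card
  have hXd : X 1 = ((m * d : ℕ) : ℂ) := by rw [hm, hd]; push_cast; ring
  refine ⟨m, k, d, hm0, hd, hXd, ?_⟩
  rcases irr_GL2_sigma hX with ⟨h1, h2⟩ | ⟨h1, h2⟩ | ⟨h1, h2⟩ | ⟨h1, h2⟩
  · left
    constructor
    · have : ((m * d : ℕ) : ℂ) = ((1 : ℕ) : ℂ) := by rw [← hXd, h1]; simp
      exact_mod_cast this
    · have : ((m * (Fintype.card F * k) : ℕ) : ℂ) = ((Fintype.card F : ℕ) : ℂ) := by
        push_cast; rw [← hσ, h2]
      exact_mod_cast this
  · right; left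
    constructor
    · have : ((m * d : ℕ) : ℂ) = ((Fintype.card F : ℕ) : ℂ) := by rw [← hXd, h1]
      exact_mod_cast this
    · have : ((m * (Fintype.card F * k) : ℕ) : ℂ) = ((Fintype.card F : ℕ) : ℂ) := by
        push_cast; rw [← hσ, h2]
      exact_mod_cast this
  · right; right; left
    constructor
    · have : ((m * d : ℕ) : ℂ) = ((Fintype.card F + 1 : ℕ) : ℂ) := by rw [← hXd, h1]; push_cast; ring
      exact_mod_cast this
    · have : ((m * (Fintype.card F * k) : ℕ) : ℂ) = ((2 * Fintype.card F : ℕ) : ℂ) := by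
        push_cast; rw [← hσ, h2]
      exact_mod_cast this
  · right; right; right
    refine ⟨?_, h1, ?_⟩
    · have : ((m * d + 1 : ℕ) : ℂ) = ((Fintype.card F : ℕ) : ℂ) := by
        rw [Nat.cast_add, ← hXd, h1]; push_cast; ring
      exact_mod_cast this
    · have h5 : (Fintype.card F : ℂ) - 1 ≠ 0 := by
        rw [sub_ne_zero]
        exact_mod_cast hq.ne'
      rw [h1] at h2
      have h6 : ((Fintype.card F : ℂ) - 1) * (1 + X (tGL 1)) = 0 := by linear_combination h2
      rcases mul_eq_zero.mp h6 with h7 | h7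
      · exact absurd h7 h5
      · linear_combination h7

/-- Transfer of a zero from `GL₂` to `SL₂` at a `GL₂`-stable element. -/
theorem zero_of_stable {F : Type*} [Field F] [Fintype F] [DecidableEq F]
    {X : GL (Fin 2) F → ℂ} (hX : IsIrrCharacter (GL (Fin 2) F) X)
    {θ : SpecialLinearGroup (Fin 2) F → ℂ} (hθ : IsIrrCharacter (SpecialLinearGroup (Fin 2) F) θ)
    (h1 : classInner (resSL X) θ ≠ 0) (g : SpecialLinearGroup (Fin 2) F)
    (hst : ∀ x : GL (Fin 2) F, θ (conjSL x g) = θ g)
    (h0 : X (SpecialLinearGroup.toGL g) = 0) : θ g = 0 := by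
  have h := clifford_stable_elt SpecialLinearGroup.toGL SpecialLinearGroup.toGL_injective hX hθ h1
    conjSL toGL_conjSL g hst
  rw [h0, zero_mul] at h
  obtain ⟨n, hn, hn1⟩ := IsIrrCharacter.apply_one_pos hX
  have hX1 : X 1 ≠ 0 := by
    rw [hn1]
    exact Nat.cast_ne_zero.mpr hn.ne'
  exact (mul_eq_zero.mp h.symm).resolve_left hX1

/-- Over a finite field F with q elements, q odd: every irreducible complex character of SL₂ of degree q − 1 or (q − 1)/2 vanishes at every diagonal matrix whose diagonal entry a has a² ≠ 1, and every irreducible complex character of degree q + 1 or (q + 1)/2 vanishes at every element with no eigenvector in F². -/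
theorem result {F : Type*} [Field F] [Fintype F] (hodd : Odd (Fintype.card F)) (χ : Matrix.SpecialLinearGroup (Fin 2) F → ℂ) (hχ : Cfsg.IsIrrCharacter (Matrix.SpecialLinearGroup (Fin 2) F) χ) (g : Matrix.SpecialLinearGroup (Fin 2) F) :
    ((χ 1 = (Fintype.card F : ℂ) - 1 ∨ χ 1 = (((Fintype.card F - 1) / 2 : ℕ) : ℂ)) →
      (g : Matrix (Fin 2) (Fin 2) F) 0 1 = 0 → (g : Matrix (Fin 2) (Fin 2) F) 1 0 = 0 → (g : Matrix (Fin 2) (Fin 2) F) 0 0 ^ 2 ≠ 1 → χ g = 0) ∧
    ((χ 1 = (Fintype.card F : ℂ) + 1 ∨ χ 1 = (((Fintype.card F + 1) / 2 : ℕ) : ℂ)) →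
      (∀ (c : F) (v : Fin 2 → F), v ≠ 0 → (g : Matrix (Fin 2) (Fin 2) F).mulVec v ≠ c • v) → χ g = 0) := by
  classical
  have hq : 1 < Fintype.card F := Fintype.one_lt_card
  obtain ⟨r, hr⟩ := hodd
  have hr1 : 1 ≤ r := by omega
  have hcf : IsClassFunction (SpecialLinearGroup (Fin 2) F) χ :=
    IsCharacter.isClassFunction (IsIrrCharacter.isCharacter hχ)
  obtain ⟨X, hX, hXχ⟩ := exists_irr_over_SL hχ
  obtain ⟨m, k, d, hm0, hd, hXd, htype⟩ := type_nat hX hχ hXχ
  have hqpos : 0 < Fintype.card F := by omega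
  constructor
  · intro hdeg h01 h10 ha
    have hdet : (g : Matrix (Fin 2) (Fin 2) F) 0 0 * (g : Matrix (Fin 2) (Fin 2) F) 1 1 = 1 := by
      have := g.2
      rw [Matrix.det_fin_two, h01, zero_mul, sub_zero] at this
      exact this
    have ha0 : (g : Matrix (Fin 2) (Fin 2) F) 0 0 ≠ 0 := by
      intro h
      rw [h, zero_mul] at hdet
      exact zero_ne_one hdet
    have hr2 : 2 ≤ r := by
      by_contra hlt
      have hr' : r = 1 := by omega
      apply ha
      have := FiniteField.pow_card_sub_one_eq_one _ ha0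
      rw [hr, hr'] at this
      exact this
    have hd' : d = 2 * r ∨ d = r := by
      rcases hdeg with h | h
      · left
        have : ((d : ℕ) : ℂ) = ((2 * r : ℕ) : ℂ) := by
          rw [← hd, h, hr]; push_cast; ring
        exact_mod_cast this
      · right
        have : (Fintype.card F - 1) / 2 = r := by omega
        rw [this, hd] at h
        exact_mod_cast h
    have hX4 : X 1 = (Fintype.card F : ℂ) - 1 := by
      rcases htype with ⟨h1, h2⟩ | ⟨h1, h2⟩ | ⟨h1, h2⟩ | ⟨h1, h2, h3⟩
      · exfalso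
        have hd1 : d = 1 := Nat.eq_one_of_mul_eq_one_left h1
        omega
      · exfalso
        have hmk : m * k = 1 := by
          apply Nat.eq_of_mul_eq_mul_left hqpos
          linarith
        have hm1 : m = 1 := Nat.eq_one_of_mul_eq_one_right hmk
        rw [hm1, one_mul] at h1
        omega
      · exfalso
        have hmk : m * k = 2 := by
          apply Nat.eq_of_mul_eq_mul_left hqpos
          linarith
        have hm2 : m ≤ 2 := Nat.le_of_dvd (by norm_num) ⟨k, hmk.symm⟩
        have hm1 : 1 ≤ m := Nat.one_le_iff_ne_zero.mpr hm0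
        interval_cases m <;> omega
      · exact h2
    have hne : (g : Matrix (Fin 2) (Fin 2) F) 0 0 ≠ (g : Matrix (Fin 2) (Fin 2) F) 1 1 := by
      intro h
      apply ha
      rw [pow_two]
      rw [← h] at hdet
      exact hdet
    have h0 : X (SpecialLinearGroup.toGL g) = 0 :=
      (Cfsg.Agent.S2309.result X hX (SpecialLinearGroup.toGL g)).1 hX4 h01 h10 hne
    apply zero_of_stable hX hχ hXχ g _ h0
    intro x
    obtain ⟨t, ht⟩ := class_conjSL' hcf x g
    rw [ht]
    congr 1
    apply Subtype.ext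
    rw [conjSL_dGL_coe, h01, h10, mul_zero, mul_zero]
    conv_rhs => rw [Matrix.eta_fin_two (g : Matrix (Fin 2) (Fin 2) F), h01, h10]
  · intro hdeg hg
    have hd' : d = 2 * r + 2 ∨ d = r + 1 := by
      rcases hdeg with h | h
      · left
        have : ((d : ℕ) : ℂ) = ((2 * r + 2 : ℕ) : ℂ) := by
          rw [← hd, h, hr]; push_cast; ring
        exact_mod_cast this
      · right
        have : (Fintype.card F + 1) / 2 = r + 1 := by omega
        rw [this, hd] at h
        exact_mod_cast h
    rcases htype with ⟨h1, h2⟩ | ⟨h1, h2⟩ | ⟨h1, h2⟩ | ⟨h1, h2, h3⟩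
    · exfalso
      have hd1 : d = 1 := Nat.eq_one_of_mul_eq_one_left h1
      omega
    · exfalso
      have hmk : m * k = 1 := by
        apply Nat.eq_of_mul_eq_mul_left hqpos
        linarith
      have hm1 : m = 1 := Nat.eq_one_of_mul_eq_one_right hmk
      rw [hm1, one_mul] at h1
      omega
    · have hX3 : X 1 = (Fintype.card F : ℂ) + 1 := by
        rw [hXd, h1]; push_cast; ring
      have h0 : X (SpecialLinearGroup.toGL g) = 0 :=
        (Cfsg.Agent.S2309.result X hX (SpecialLinearGroup.toGL g)).2 hX3 hg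
      exact zero_of_stable hX hχ hXχ g (elliptic_stable ⟨r, hr⟩ hcf g hg) h0
    · -- `q = 3`, `m = 1`
      have hm1 : m = 1 := by
        have hm1 : 1 ≤ m := Nat.one_le_iff_ne_zero.mpr hm0
        by_contra hne
        have hm2 : 2 ≤ m := by omega
        have : 2 * d ≤ m * d := Nat.mul_le_mul_right d hm2
        omega
      rw [hm1, one_mul] at h1
      have hr' : r = 1 := by omega
      have hq3 : Fintype.card F = 3 := by omega
      have hres : resSL X = χ := by
        obtain ⟨n, hn, hn0, -⟩ := under_cases hX hχ hXχ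
        apply hn0
        have : ((d : ℕ) : ℂ) = ((d + n : ℕ) : ℂ) := by
          push_cast
          rw [← hd, ← hn, hXd, hm1, one_mul]
          exact hd
        have : d = d + n := by exact_mod_cast this
        omega
      have h2F : (2 : F) ≠ 0 := by
        intro h
        have h2 : ringChar F ∣ 2 := (ringChar.spec F 2).mp (by exact_mod_cast h)
        have h3 : ringChar F ∣ Fintype.card F := by
          have := (ringChar.spec F (Fintype.card F)).mp (by simp)
          exact this
        rw [hq3] at h3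
        have h4 : ringChar F ∣ 1 := by
          have := Nat.dvd_sub h3 h2
          simpa using this
        have h5 : ringChar F = 1 := Nat.dvd_one.mp h4
        exact CharP.ringChar_ne_one h5
      have hb := cusp_elliptic_bound h2F hX h2 h3 (by rw [hres]; exact hχ) g
        (trace_sq_ne_four_of_elliptic g hg)
      rw [hq3] at hb
      have hb' : ‖X (SpecialLinearGroup.toGL g)‖ ^ 2 ≤ 0 := by
        simp only [Nat.cast_ofNat] at hb
        linarith
      have hz : ‖X (SpecialLinearGroup.toGL g)‖ = 0 := by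
        have := sq_nonneg ‖X (SpecialLinearGroup.toGL g)‖
        exact pow_eq_zero_iff (two_ne_zero) |>.mp (le_antisymm hb' this)
      rw [← hres]
      exact norm_eq_zero.mp hz

end Cfsg.Agent.S2322
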