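import Cfsg.Statements.S2323
import Cfsg.Agent.Lib.Helper13.SLBridge2

set_option autoImplicit false
open Cfsg

namespace Cfsg.Agent.S2323

/-- Over a finite field F with q ≥ 4 elements, let u be the upper unitriangular matrix of SL₂ with off-diagonal entry 1. An irreducible complex character of SL₂ takes at u the value 1 if its degree is q + 1 and the value −1 if its degree is q − 1. -/
theorem result {F : Type*} [Field F] [Fintype F] (hq : 4 ≤ Fintype.card F) (χ : Matrix.SpecialLinearGroup (Fin 2) F → ℂ) (hχ : Cfsg.IsIrrCharacter (Matrix.SpecialLinearGroup (Fin 2) F) χ)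
    (u : Matrix.SpecialLinearGroup (Fin 2) F) (hu : (u : Matrix (Fin 2) (Fin 2) F) = !![1, 1; 0, 1]) :
    (χ 1 = (Fintype.card F : ℂ) + 1 → χ u = 1) ∧ (χ 1 = (Fintype.card F : ℂ) - 1 → χ u = -1) := by
  classical
  open Cfsg.Agent.Lib.Helper13 Cfsg.Agent.CharLib in
  obtain ⟨ψ, hψ, h1⟩ := exists_irr_over_SL hχ
  open Cfsg.Agent.Lib.Helper13 Cfsg.Agent.CharLib in
  obtain ⟨n, hn, hn0, hnk⟩ := under_cases hψ hχ h1
  have htu : Matrix.SpecialLinearGroup.toGL u = Cfsg.Agent.Lib.Helper13.tGL 1 := by
    apply Units.ext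
    rw [Cfsg.Agent.Lib.Helper13.tGL_coe]
    exact hu
  have hval : ∀ g, Cfsg.Agent.Lib.Helper13.resSL ψ g = ψ (Matrix.SpecialLinearGroup.toGL g) :=
    fun g => rfl
  constructor
  · intro hdeg
    rw [hdeg] at hn
    rcases Cfsg.Agent.Lib.Helper13.irr_GL2_cases hψ with ⟨-, hd⟩ | ⟨-, hd⟩ | ⟨⟨α, β, hab, hψe⟩, hd⟩ | ⟨hd, -⟩
    · exfalso
      rw [hd] at hn
      have h2 : ((1 : ℕ) : ℂ) = ((Fintype.card F + 1 + n : ℕ) : ℂ) := by
        push_cast; exact hn
      have h3 : 1 = Fintype.card F + 1 + n := by exact_mod_cast h2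
      omega
    · exfalso
      rw [hd] at hn
      have h2 : ((Fintype.card F : ℕ) : ℂ) = ((Fintype.card F + 1 + n : ℕ) : ℂ) := by
        push_cast; exact hn
      have h3 : Fintype.card F = Fintype.card F + 1 + n := by exact_mod_cast h2
      omega
    · rw [hd] at hn
      have h2 : ((Fintype.card F + 1 : ℕ) : ℂ) = ((Fintype.card F + 1 + n : ℕ) : ℂ) := by
        push_cast; exact hn
      have h3 : Fintype.card F + 1 = Fintype.card F + 1 + n := by exact_mod_cast h2
      have h4 : n = 0 := by omega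
      rw [← hn0 h4, hval, hψe]
      exact Cfsg.Agent.Lib.Helper13.indFun_psChar_unip α β _ 1 one_ne_zero hu
    · exfalso
      rw [hd] at hn
      have h2 : ((Fintype.card F : ℕ) : ℂ) = ((Fintype.card F + 1 + n + 1 : ℕ) : ℂ) := by
        push_cast; linear_combination hn
      have h3 : Fintype.card F = Fintype.card F + 1 + n + 1 := by exact_mod_cast h2
      omega
  · intro hdeg
    rw [hdeg] at hn hnk
    rcases Cfsg.Agent.Lib.Helper13.irr_GL2_cases hψ with ⟨-, hd⟩ | ⟨-, hd⟩ | ⟨-, hd⟩ | ⟨hd, hv⟩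
    · exfalso
      rw [hd] at hn
      have h2 : ((1 + 1 : ℕ) : ℂ) = ((Fintype.card F + n : ℕ) : ℂ) := by
        push_cast; linear_combination hn
      have h3 : 1 + 1 = Fintype.card F + n := by exact_mod_cast h2
      omega
    · exfalso
      rw [hd] at hn
      have h2 : ((Fintype.card F + 1 : ℕ) : ℂ) = ((Fintype.card F + n : ℕ) : ℂ) := by
        push_cast; linear_combination hn
      have h3 : Fintype.card F + 1 = Fintype.card F + n := by exact_mod_cast h2
      have h4 : n ≠ 0 := by omega
      obtain ⟨k, hk⟩ := hnk h4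
      have h5 : ((n + 1 : ℕ) : ℂ) = ((Fintype.card F + k : ℕ) : ℂ) := by
        push_cast; linear_combination hk
      have h6 : n + 1 = Fintype.card F + k := by exact_mod_cast h5
      omega
    · exfalso
      rw [hd] at hn
      have h2 : ((Fintype.card F + 1 + 1 : ℕ) : ℂ) = ((Fintype.card F + n : ℕ) : ℂ) := by
        push_cast; linear_combination hn
      have h3 : Fintype.card F + 1 + 1 = Fintype.card F + n := by exact_mod_cast h2
      have h4 : n ≠ 0 := by omega
      obtain ⟨k, hk⟩ := hnk h4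
      have h5 : ((n + 1 : ℕ) : ℂ) = ((Fintype.card F + k : ℕ) : ℂ) := by
        push_cast; linear_combination hk
      have h6 : n + 1 = Fintype.card F + k := by exact_mod_cast h5
      omega
    · rw [hd] at hn
      have h2 : ((Fintype.card F : ℕ) : ℂ) = ((Fintype.card F + n : ℕ) : ℂ) := by
        push_cast; linear_combination hn
      have h3 : Fintype.card F = Fintype.card F + n := by exact_mod_cast h2
      have h4 : n = 0 := by omega
      rw [← hn0 h4, hval, htu, hv]

end Cfsg.Agent.S2323
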