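import Cfsg.Statements.S2324
import Cfsg.Agent.Lib.Helper13.SL2HalfValues

set_option autoImplicit false
open Cfsg

namespace Cfsg.Agent.S2324

/-- Over a finite field F with q elements, q odd and q ≥ 5, let u be the upper unitriangular matrix of SL₂ with off-diagonal entry 1 and let δ = (−1)^((q−1)/2). Every irreducible complex character χ of SL₂ of degree (q + 1)/2 satisfies (2χ(u) − 1)² = δq, and every irreducible complex character χ of degree (q − 1)/2 satisfies (2χ(u) + 1)² = δq; that is, χ(u) = (1 ± √(δq))/2 in the first case and χ(u) = (−1 ± √(δq))/2 in the second. Moreover two different irreducible characters of degree (q + 1)/2 take the two different values (their values at u add up to 1), and likewise for degree (q − 1)/2 (values adding up to −1). -/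
theorem result {F : Type*} [Field F] [Fintype F] (hodd : Odd (Fintype.card F)) (hq : 5 ≤ Fintype.card F)
    (u : Matrix.SpecialLinearGroup (Fin 2) F) (hu : (u : Matrix (Fin 2) (Fin 2) F) = !![1, 1; 0, 1]) :
    (∀ χ : Matrix.SpecialLinearGroup (Fin 2) F → ℂ, Cfsg.IsIrrCharacter (Matrix.SpecialLinearGroup (Fin 2) F) χ → χ 1 = (((Fintype.card F + 1) / 2 : ℕ) : ℂ) → (2 * χ u - 1) ^ 2 = (-1 : ℂ) ^ ((Fintype.card F - 1) / 2) * (Fintype.card F : ℂ)) ∧
    (∀ χ : Matrix.SpecialLinearGroup (Fin 2) F → ℂ, Cfsg.IsIrrCharacter (Matrix.SpecialLinearGroup (Fin 2) F) χ → χ 1 = (((Fintype.card F - 1) / 2 : ℕ) : ℂ) → (2 * χ u + 1) ^ 2 = (-1 : ℂ) ^ ((Fintype.card F - 1) / 2) * (Fintype.card F : ℂ)) ∧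
    (∀ χ₁ χ₂ : Matrix.SpecialLinearGroup (Fin 2) F → ℂ, Cfsg.IsIrrCharacter (Matrix.SpecialLinearGroup (Fin 2) F) χ₁ → Cfsg.IsIrrCharacter (Matrix.SpecialLinearGroup (Fin 2) F) χ₂ → χ₁ ≠ χ₂ →
      χ₁ 1 = (((Fintype.card F + 1) / 2 : ℕ) : ℂ) → χ₂ 1 = (((Fintype.card F + 1) / 2 : ℕ) : ℂ) → χ₁ u + χ₂ u = 1) ∧
    (∀ χ₁ χ₂ : Matrix.SpecialLinearGroup (Fin 2) F → ℂ, Cfsg.IsIrrCharacter (Matrix.SpecialLinearGroup (Fin 2) F) χ₁ → Cfsg.IsIrrCharacter (Matrix.SpecialLinearGroup (Fin 2) F) χ₂ → χ₁ ≠ χ₂ →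
      χ₁ 1 = (((Fintype.card F - 1) / 2 : ℕ) : ℂ) → χ₂ 1 = (((Fintype.card F - 1) / 2 : ℕ) : ℂ) → χ₁ u + χ₂ u = -1) := by
  classical
  obtain ⟨r, hr⟩ := hodd
  have hodd : Odd (Fintype.card F) := ⟨r, hr⟩
  have hhalf1 : (Fintype.card F + 1) / 2 = r + 1 := by omega
  have hhalf2 : (Fintype.card F - 1) / 2 = r := by omega
  have h2 : (2 : F) ≠ 0 := Cfsg.Agent.Lib.Helper13.two_ne_zero_of_odd_card' hodd
  have hF : ringChar F ≠ 2 := by
    intro h
    apply h2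
    have := ringChar.Nat.cast_ringChar (R := F)
    rw [h] at this
    exact_mod_cast this
  obtain ⟨ε, hε⟩ := FiniteField.exists_nonsquare hF
  have hu' : u = Cfsg.Agent.Lib.Helper13.upSL 1 := Subtype.ext hu
  have hsign := Cfsg.Agent.Lib.Helper13.quadC_neg_one hodd
  have hplus : ∀ χ : Matrix.SpecialLinearGroup (Fin 2) F → ℂ,
      χ 1 = (((Fintype.card F + 1) / 2 : ℕ) : ℂ) → 2 * χ 1 = (Fintype.card F : ℂ) + 1 := by
    intro χ h
    rw [h, hhalf1, hr]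
    push_cast
    ring
  have hminus : ∀ χ : Matrix.SpecialLinearGroup (Fin 2) F → ℂ,
      χ 1 = (((Fintype.card F - 1) / 2 : ℕ) : ℂ) → 2 * χ 1 + 1 = (Fintype.card F : ℂ) := by
    intro χ h
    rw [h, hhalf2, hr]
    push_cast
    ring
  subst hu'
  refine ⟨?_, ?_, ?_, ?_⟩
  · intro χ hχ hd
    rw [← hsign]
    exact (Cfsg.Agent.Lib.Helper13.half_values_plus hodd hq hχ (hplus χ hd) hε).2
  · intro χ hχ hd
    rw [← hsign]
    exact (Cfsg.Agent.Lib.Helper13.half_values_minus hodd hq hχ (hminus χ hd) hε).2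
  · intro χ₁ χ₂ h₁ h₂ hne hd₁ hd₂
    exact Cfsg.Agent.Lib.Helper13.half_plus_sum hodd hq h₁ h₂ hne (hplus χ₁ hd₁) (hplus χ₂ hd₂)
  · intro χ₁ χ₂ h₁ h₂ hne hd₁ hd₂
    exact Cfsg.Agent.Lib.Helper13.half_minus_sum hodd hq h₁ h₂ hne (hminus χ₁ hd₁) (hminus χ₂ hd₂)

end Cfsg.Agent.S2324
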