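-- helper6: S2328 via abstract BN-pair Steinberg theory (Lib/Helper6/BNSt*, ChevSt*) + helper7 Chevalley BN libs
import Mathlib
import Cfsg.Statements.S2328
import Cfsg.Agent.Lib.Helper6.ChevStB
import Cfsg.Agent.Lib.Helper7.ChevSylow
import Cfsg.Agent.Lib.Helper23.DefectZeroIrr

set_option autoImplicit false
open Cfsg

namespace Cfsg.Agent.S2328

/-- In a Chevalley group of type G₂, B₂, D₄, F₄, E₆, E₇ or E₈ over a finite field of characteristic p, the Steinberg character vanishes at every element whose order is divisible by p (every element that is not semisimple). -/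
theorem result {F : Type*} [Field F] [Fintype F] (p : ℕ) [Fact p.Prime] [CharP F p] (D : Cfsg.Lie.ChevalleyDatum) (hD : D ∈ [Cfsg.Lie.chevG2, Cfsg.Lie.chevB2, Cfsg.Lie.chevD4, Cfsg.Lie.chevF4, Cfsg.Lie.chevE6, Cfsg.Lie.chevE7, Cfsg.Lie.chevE8]) (g : ↥(D.group F)) (hg : p ∣ orderOf g) :
    D.steinbergCharacter F g = 0 := by
  classical
  have hfin := Cfsg.Agent.Lib.Helper6.ChevSt.finite_group D F
  have hirr := Cfsg.Agent.Lib.Helper6.ChevSt.isIrrCharacter_steinberg D hD F
  have hone := Cfsg.Agent.Lib.Helper6.ChevSt.steinberg_one D hD F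
  -- the degree
  have hdegree : Cfsg.charDegree (D.steinbergCharacter F) = Fintype.card F ^ (D.nroots / 2) := by
    unfold Cfsg.charDegree
    rw [hone]
    have : ((Fintype.card F : ℂ) ^ (D.nroots / 2)).re = ((Fintype.card F ^ (D.nroots / 2) : ℕ) : ℝ) := by
      rw [← Nat.cast_pow, Complex.natCast_re]
    rw [this, Nat.floor_natCast]
  -- the `p`-part of the group order
  obtain ⟨P, hP⟩ := Cfsg.Agent.Lib.Helper7.posUnipotent_sylow D hD F p
  have hcardP := P.card_eq_multiplicity
  have hUG : D.posUnipotent F ≤ D.group F :=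
    le_trans (Cfsg.Agent.Lib.Helper7.posUnipotent_le_borel D hD F)
      (Cfsg.Agent.Lib.Helper7.borel_le_group D hD F)
  have hcardU : Nat.card (P : Subgroup ↥(D.group F)) = Fintype.card F ^ (D.nroots / 2) := by
    rw [hP, Nat.card_congr (Subgroup.subgroupOfEquivOfLe hUG).toEquiv,
      Cfsg.Agent.Lib.Helper7.card_posUnipotent D hD F]
  have hdvd : p ^ (Nat.card ↥(D.group F)).factorization p ∣
      Cfsg.charDegree (D.steinbergCharacter F) := by
    rw [hdegree, ← hcardU]
    exact dvd_of_eq hcardP.symm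
  exact Cfsg.Agent.Lib.Helper23.irr_eq_zero_of_defect_zero
    (⟨D.steinbergCharacter F, hirr⟩ : Cfsg.IrrCharacter ↥(D.group F)) p (Fact.out) hdvd g hg

end Cfsg.Agent.S2328
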