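import Cfsg.Statements.S2333
-- import your own Cfsg.Agent.* helpers here
import Cfsg.Agent.Lib.Helper11.LSR3
import Cfsg.Agent.Lib.Helper25.LSR4

set_option autoImplicit false
open Cfsg

namespace Cfsg.Agent.S2333

open Cfsg.Agent.Lib.Helper11.LS Cfsg.Agent.Lib.Helper25.LSLeaf

/-- For a finite field F of even order q and n ≥ 2 with (n, q) ≠ (2, 2), every irreducible complex representation of the symplectic group Sp_{2n}(F) of degree at least 2 has degree at least (q^n − 1)(q^n − q)/(2(q + 1)). -/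
theorem result {F : Type*} [Field F] [Fintype F] [DecidableEq F] (n : ℕ) (hn : 2 ≤ n) (heven : Even (Fintype.card F)) (hex : (n, Fintype.card F) ≠ (2, 2)) :
    (∀ (k : ℕ) (ρ : Representation ℂ (Matrix.symplecticGroup (Fin n) F) (Fin k → ℂ)), ρ.IsIrreducible → 2 ≤ k → (Fintype.card F ^ n - 1) * (Fintype.card F ^ n - Fintype.card F) / (2 * (Fintype.card F + 1)) ≤ k) := by
  intro k ρ hρ hk
  obtain ⟨ρ', hker⟩ := exists_hom_of_irreducible hn hex k ρ hρ hk
  have hchar : CharP F 2 := by
    obtain ⟨p, hp⟩ := CharP.exists F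
    obtain ⟨m, hpp, hm⟩ := FiniteField.card F p
    have h2 : 2 ∣ p ^ (m : ℕ) := by rw [← hm]; exact even_iff_two_dvd.mp heven
    have h3 : 2 ∣ p := Nat.Prime.dvd_of_dvd_pow Nat.prime_two h2
    have h4 : p = 2 := ((Nat.prime_dvd_prime_iff_eq Nat.prime_two hpp).mp h3).symm
    rw [h4] at hp
    exact hp
  have hK : ringChar ℂ ≠ ringChar F := by
    rw [ringChar.eq F 2, ringChar.eq_zero]
    norm_num
  have h := main_aux hn hK ρ' hker
  apply Nat.div_le_of_le_mul
  exact h

end Cfsg.Agent.S2333
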