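import Cfsg.Statements.S2335
-- import your own Cfsg.Agent.* helpers here
import Cfsg.Agent.Lib.Helper13.LSUEvenMain
import Cfsg.Agent.Lib.Helper5.PSUSimple
import Cfsg.Agent.Lib.Helper25.LSR4

set_option autoImplicit false
open Cfsg

namespace Cfsg.Agent.S2335

open Cfsg.Agent.Lib.Helper25.LSLeaf Cfsg.Agent.Lib.Helper13.LSU

/-- an irreducible representation of degree at least two of `SU_n(q)` has central kernel -/
theorem ker_le_center {F : Type*} [Field F] [Fintype F] {n q : ℕ} (hF : Fintype.card F = q ^ 2)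
    (hn : 3 ≤ n) (h32 : ¬ (n = 3 ∧ q = 2)) (k : ℕ)
    (ρ : Representation ℂ (Cfsg.SU n F q) (Fin k → ℂ)) (hρ : ρ.IsIrreducible) (hk : 2 ≤ k) :
    (matHom k ρ).ker ≤ Subgroup.center ↥(Cfsg.SU n F q) := by
  rcases Cfsg.Agent.Lib.Helper5.PSUSimple.normal_le_center_or_eq_top hF hn h32 (matHom k ρ).ker
    with h | h
  · exact h
  · exfalso
    apply not_irreducible_of_trivial k hk ρ _ hρ
    intro g
    have hg : g ∈ (matHom k ρ).ker := by
      rw [h]
      trivial
    exact (matHom_eq_one_iff k ρ g).mp (MonoidHom.mem_ker.mp hg)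

theorem ringChar_ne {F : Type*} [Field F] [Fintype F] : ringChar ℂ ≠ ringChar F := by
  intro h
  have h1 := CharP.char_is_prime F (ringChar F)
  rw [← h, ringChar.eq_zero] at h1
  exact Nat.not_prime_zero h1

/-- For even n ≥ 4 and a finite field F with q² elements, (n, q) not (4, 2) or (4, 3), every irreducible complex representation of the special unitary group SU_n(q) (the determinant-one isometries of the standard Hermitian form over F) of degree at least 2 has degree at least (q^n − 1)/(q + 1). -/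
theorem result {F : Type*} [Field F] [Fintype F] [DecidableEq F] (n q : ℕ) (hn : 4 ≤ n) (heven : Even n) (hF : Fintype.card F = q ^ 2) (hex : (n, q) ≠ (4, 2) ∧ (n, q) ≠ (4, 3)) :
    (∀ (k : ℕ) (ρ : Representation ℂ (Cfsg.SU n F q) (Fin k → ℂ)), ρ.IsIrreducible → 2 ≤ k → (q ^ n - 1) / (q + 1) ≤ k) := by
  intro k ρ hρ hk
  obtain ⟨d, rfl⟩ := heven
  obtain ⟨m, rfl⟩ : ∃ m, d = m + 1 + 1 := ⟨d - 2, by omega⟩
  have hker := ker_le_center hF (by omega) (by omega) k ρ hρ hk
  have h1 := main_aux_even hF m (K' := ℂ) ringChar_ne (matHom k ρ) hker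
  apply Nat.div_le_of_le_mul
  rw [hF, ← pow_mul] at h1
  have e1 : 2 * (m + 1 + 1) = m + 1 + 1 + (m + 1 + 1) := by ring
  rw [e1] at h1
  exact h1

end Cfsg.Agent.S2335
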