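import Cfsg.Statements.S2334
-- import your own Cfsg.Agent.* helpers here
import Cfsg.Agent.Lib.Helper13.LSUOddMain
import Cfsg.Agent.S2335

set_option autoImplicit false
open Cfsg

namespace Cfsg.Agent.S2334

open Cfsg.Agent.Lib.Helper25.LSLeaf Cfsg.Agent.Lib.Helper13.LSU

/-- For odd n ≥ 3 and a finite field F with q² elements, (n, q) ≠ (3, 2), every irreducible complex representation of the special unitary group SU_n(q) (the determinant-one isometries of the standard Hermitian form over F) of degree at least 2 has degree at least (q^n − q)/(q + 1). -/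
theorem result {F : Type*} [Field F] [Fintype F] [DecidableEq F] (n q : ℕ) (hn : 3 ≤ n) (hodd : Odd n) (hF : Fintype.card F = q ^ 2) (hex : (n, q) ≠ (3, 2)) :
    (∀ (k : ℕ) (ρ : Representation ℂ (Cfsg.SU n F q) (Fin k → ℂ)), ρ.IsIrreducible → 2 ≤ k → (q ^ n - q) / (q + 1) ≤ k) := by
  intro k ρ hρ hk
  obtain ⟨m, rfl⟩ : ∃ m, n = m + 1 + 1 + (m + 1) := by
    obtain ⟨r, hr⟩ := hodd
    exact ⟨r - 1, by omega⟩
  have h32 : ¬ (m + 1 + 1 + (m + 1) = 3 ∧ q = 2) := by
    rintro ⟨h1, h2⟩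
    apply hex
    rw [h1, h2]
  have hker := Cfsg.Agent.S2335.ker_le_center hF (by omega) h32 k ρ hρ hk
  have h1 := main_aux_odd hF m (K' := ℂ) Cfsg.Agent.S2335.ringChar_ne (matHom k ρ) hker
  apply Nat.div_le_of_le_mul
  rw [hF, ← pow_mul] at h1
  have e1 : q ^ (m + 1 + 1 + (m + 1)) - q = q * (q ^ (2 * (m + 1)) - 1) := by
    rw [Nat.mul_sub, mul_one]
    congr 1
    ring
  rw [e1]
  exact h1

end Cfsg.Agent.S2334
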