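import Cfsg.Statements.S2337
-- import your own Cfsg.Agent.* helpers here
import Cfsg.Agent.Lib.Helper15.TraceChar
import Cfsg.Agent.Lib.Helper15.TraceBound
import Cfsg.Agent.Lib.Helper15.SuzukiElements
import Cfsg.Agent.Lib.Helper15.SuzukiLie
import Cfsg.Agent.S0325

set_option autoImplicit false
open Cfsg

namespace Cfsg.Agent.S2337

open Cfsg.Agent.Lib.Helper15.SuzukiAlg Cfsg.Agent.Lib.Helper15.SuzukiOvoid
  Cfsg.Agent.Lib.Helper15.SuzukiMat
  Cfsg.Agent.Lib.Helper15.SuzukiGroup Cfsg.Agent.Lib.Helper15.SuzukiOrder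
  Cfsg.Agent.Lib.Helper15.SuzukiZassenhaus
  Cfsg.Agent.Lib.Helper15.SuzukiBorel Cfsg.Agent.Lib.Helper15.SuzukiElements
  Cfsg.Agent.Lib.Helper15.TraceChar Cfsg.Agent.Lib.Helper15.TraceBound Module

section

variable {F : Type*} [Field F] [Fintype F] {m : ℕ} (hF : Fintype.card F = 2 ^ (2 * m + 1))
variable {V : Type*} [AddCommGroup V] [Module ℂ V]
variable (ρ : Representation ℂ (Cfsg.Sz F m) V)

/-- the unnormalised isotypic sums of the centre of the Sylow subgroup -/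
noncomputable def Sm (ν : F) : Module.End ℂ V :=
  ∑ b : F, chi (two_eq_zero hF) (ν * b) • ρ (Ts hF 0 b)

/-- the isotypic projections of the centre of the Sylow subgroup -/
noncomputable def Pr (ν : F) : Module.End ℂ V :=
  ((Fintype.card F : ℂ)⁻¹) • Sm hF ρ ν

theorem Z_mul (c b : F) : Ts hF 0 c * Ts hF 0 b = Ts hF 0 (c + b) := by
  rw [Ts_mul, map_zero, zero_mul, add_zero, add_zero]

include hF in
theorem card_ne_zero : (Fintype.card F : ℂ) ≠ 0 := by
  apply Nat.cast_ne_zero.mpr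
  rw [hF]; positivity

theorem Z_mul_Sm (ν c : F) :
    ρ (Ts hF 0 c) * Sm hF ρ ν = chi (two_eq_zero hF) (ν * c) • Sm hF ρ ν := by
  have h2 := two_eq_zero hF
  rw [Sm, Finset.mul_sum, Finset.smul_sum]
  rw [← Equiv.sum_comp (Equiv.addLeft c)
    (fun b => chi h2 (ν * c) • chi h2 (ν * b) • ρ (Ts hF 0 b))]
  apply Finset.sum_congr rfl
  intro b _
  rw [mul_smul_comm, ← map_mul, Z_mul, Equiv.coe_addLeft, smul_smul, ← chi_add, ← mul_add]
  have : c + (c + b) = b := by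
    rw [← add_assoc, add_self h2, zero_add]
  rw [this]

theorem Z_mul_Pr (ν c : F) :
    ρ (Ts hF 0 c) * Pr hF ρ ν = chi (two_eq_zero hF) (ν * c) • Pr hF ρ ν := by
  rw [Pr, mul_smul_comm, Z_mul_Sm, smul_comm]

theorem Pr_idem (ν : F) : Pr hF ρ ν * Pr hF ρ ν = Pr hF ρ ν := by
  have h2 := two_eq_zero hF
  have h1 : Sm hF ρ ν * Pr hF ρ ν = (Fintype.card F : ℂ) • Pr hF ρ ν := by
    conv_lhs => rw [Sm]
    rw [Finset.sum_mul]
    have : ∀ b ∈ (Finset.univ : Finset F),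
        (chi h2 (ν * b) • ρ (Ts hF 0 b)) * Pr hF ρ ν = Pr hF ρ ν := by
      intro b _
      rw [smul_mul_assoc, Z_mul_Pr, smul_smul, chi_mul_self, one_smul]
    rw [Finset.sum_congr rfl this, Finset.sum_const, Finset.card_univ,
      ← Nat.cast_smul_eq_nsmul ℂ]
  nth_rw 1 [Pr]
  rw [smul_mul_assoc, h1, smul_smul, inv_mul_cancel₀ (card_ne_zero hF), one_smul]

theorem Pr_sum : ∑ ν : F, Pr hF ρ ν = 1 := by
  classical
  have h2 := two_eq_zero hF
  simp only [Pr, Sm]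
  rw [← Finset.smul_sum, Finset.sum_comm]
  have : ∀ b ∈ (Finset.univ : Finset F), ∑ ν : F, chi h2 (ν * b) • ρ (Ts hF 0 b) =
      (if b = 0 then (Fintype.card F : ℂ) else 0) • ρ (Ts hF 0 b) := by
    intro b _
    rw [← Finset.sum_smul, chi_sum_ite]
  rw [Finset.sum_congr rfl this]
  simp only [ite_smul, zero_smul, Finset.sum_ite_eq', Finset.mem_univ, if_true]
  rw [smul_smul, inv_mul_cancel₀ (card_ne_zero hF), one_smul, Ts_one, map_one]

theorem Pr_comm (ν a b : F) : ρ (Ts hF a b) * Pr hF ρ ν = Pr hF ρ ν * ρ (Ts hF a b) := by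
  rw [Pr, Sm, mul_smul_comm, smul_mul_assoc, Finset.mul_sum, Finset.sum_mul]
  congr 1
  apply Finset.sum_congr rfl
  intro c _
  rw [mul_smul_comm, smul_mul_assoc, ← map_mul, ← map_mul]
  congr 2
  rw [Ts_mul, Ts_mul, map_zero, zero_mul, mul_zero]
  congr 1
  · rw [add_comm]
  · ring

theorem Pr_conj (ν : F) (μ : Fˣ) :
    ρ (Hs hF μ) * Pr hF ρ (ν * ((μ : F) ^ 2 * sig (two_eq_zero hF) m (μ : F))) =
      Pr hF ρ ν * ρ (Hs hF μ) := by
  have h2 := two_eq_zero hF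
  set κ : F := (μ : F) ^ 2 * sig h2 m (μ : F) with hκ
  have hκ0 : κ ≠ 0 := by
    rw [hκ]
    exact mul_ne_zero (pow_ne_zero _ μ.ne_zero) (fun h => μ.ne_zero ((map_eq_zero _).mp h))
  rw [Pr, Pr, Sm, Sm, mul_smul_comm, smul_mul_assoc, Finset.mul_sum, Finset.sum_mul]
  congr 1
  rw [← Equiv.sum_comp (Equiv.mulLeft₀ κ hκ0)
    (fun b => (chi h2 (ν * b) • ρ (Ts hF 0 b)) * ρ (Hs hF μ))]
  apply Finset.sum_congr rfl
  intro b _
  rw [mul_smul_comm, smul_mul_assoc, ← map_mul, ← map_mul, Hs_mul_Ts, mul_zero,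
    Equiv.mulLeft₀_apply, mul_assoc]

include hF in
theorem exists_kappa {ν : F} (hν : ν ≠ 0) :
    ∃ μ : Fˣ, (μ : F) ^ 2 * sig (two_eq_zero hF) m (μ : F) = ν := by
  have h2 := two_eq_zero hF
  let κ : Fˣ →* Fˣ := powMonoidHom 2 * Units.map (sig h2 m : F →* F)
  have hinj : Function.Injective κ := by
    rw [injective_iff_map_eq_one]
    intro μ hμ
    apply Units.ext
    apply char_two_inj hF
    have := congrArg Units.val hμ
    simpa [κ] using this
  obtain ⟨μ, hμ⟩ := Finite.surjective_of_injective hinj (Units.mk0 ν hν)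
  refine ⟨μ, ?_⟩
  have := congrArg Units.val hμ
  simpa [κ] using this

variable [FiniteDimensional ℂ V]

theorem trace_Pr {ν : F} (hν : ν ≠ 0) :
    LinearMap.trace ℂ V (Pr hF ρ ν) = LinearMap.trace ℂ V (Pr hF ρ 1) := by
  obtain ⟨μ, hμ⟩ := exists_kappa hF hν
  have h1 := Pr_conj hF ρ 1 μ
  rw [one_mul, hμ] at h1
  have h3 : ρ (Hs hF μ)⁻¹ * ρ (Hs hF μ) = 1 := by
    rw [← map_mul, inv_mul_cancel, map_one]
  calc LinearMap.trace ℂ V (Pr hF ρ ν)
      = LinearMap.trace ℂ V (ρ (Hs hF μ)⁻¹ * (ρ (Hs hF μ) * Pr hF ρ ν)) := by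
        rw [← mul_assoc, h3, one_mul]
    _ = LinearMap.trace ℂ V (ρ (Hs hF μ)⁻¹ * (Pr hF ρ 1 * ρ (Hs hF μ))) := by rw [h1]
    _ = LinearMap.trace ℂ V ((Pr hF ρ 1 * ρ (Hs hF μ)) * ρ (Hs hF μ)⁻¹) :=
        LinearMap.trace_mul_comm ℂ _ _
    _ = LinearMap.trace ℂ V (Pr hF ρ 1) := by
        rw [mul_assoc, ← map_mul, mul_inv_cancel, map_one, mul_one]


/-- the character of the translation group on an isotypic component vanishes off the radical -/
theorem trace_vanish {a : F} (h0 : a ≠ 0) (h1 : a ≠ 1) (b : F) :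
    LinearMap.trace ℂ V (ρ (Ts hF a b) * Pr hF ρ 1) = 0 := by
  have h2 := two_eq_zero hF
  obtain ⟨c, hc⟩ := exists_comm hF h0 h1
  set β : F := sig h2 m c * a + sig h2 m a * c with hβ
  have hconj : Ts hF c 0 * Ts hF a b * (Ts hF c 0)⁻¹ = Ts hF 0 β * Ts hF a b := by
    rw [Ts_conj, Ts_mul, map_zero, zero_mul, add_zero, zero_add]
    congr 1
    rw [hβ]; ring
  have e1 : LinearMap.trace ℂ V (ρ (Ts hF c 0 * Ts hF a b * (Ts hF c 0)⁻¹) * Pr hF ρ 1) =
      LinearMap.trace ℂ V (ρ (Ts hF a b) * Pr hF ρ 1) := by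
    have hinv : (Ts hF c 0)⁻¹ = Ts hF c (0 + c * sig h2 m c) := Ts_inv hF c 0
    have hy : ρ (Ts hF c 0)⁻¹ * Pr hF ρ 1 = Pr hF ρ 1 * ρ (Ts hF c 0)⁻¹ := by
      rw [hinv]; exact Pr_comm hF ρ 1 _ _
    calc LinearMap.trace ℂ V (ρ (Ts hF c 0 * Ts hF a b * (Ts hF c 0)⁻¹) * Pr hF ρ 1)
        = LinearMap.trace ℂ V ((ρ (Ts hF c 0) * ρ (Ts hF a b)) * (ρ (Ts hF c 0)⁻¹ * Pr hF ρ 1)) := by
          rw [map_mul ρ, map_mul ρ, mul_assoc]
      _ = LinearMap.trace ℂ V ((ρ (Ts hF c 0) * ρ (Ts hF a b) * Pr hF ρ 1) * ρ (Ts hF c 0)⁻¹) := by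
          rw [hy, ← mul_assoc]
      _ = LinearMap.trace ℂ V (ρ (Ts hF c 0)⁻¹ * (ρ (Ts hF c 0) * ρ (Ts hF a b) * Pr hF ρ 1)) :=
          LinearMap.trace_mul_comm ℂ _ _
      _ = LinearMap.trace ℂ V (ρ (Ts hF a b) * Pr hF ρ 1) := by
          rw [mul_assoc (ρ (Ts hF c 0)), ← mul_assoc, ← map_mul ρ, inv_mul_cancel, map_one, one_mul]
  have e2 : LinearMap.trace ℂ V (ρ (Ts hF 0 β * Ts hF a b) * Pr hF ρ 1) =
      - LinearMap.trace ℂ V (ρ (Ts hF a b) * Pr hF ρ 1) := by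
    have h5 : ρ (Ts hF 0 β * Ts hF a b) * Pr hF ρ 1 = (-1 : ℂ) • (ρ (Ts hF a b) * Pr hF ρ 1) := by
      rw [map_mul ρ, mul_assoc, Pr_comm, ← mul_assoc, Z_mul_Pr, one_mul, hc, smul_mul_assoc,
        ← Pr_comm]
    rw [h5, map_smul]
    simp
  rw [hconj, e2] at e1
  have : (2 : ℂ) * LinearMap.trace ℂ V (ρ (Ts hF a b) * Pr hF ρ 1) = 0 := by
    linear_combination -e1
  exact (mul_eq_zero.mp this).resolve_left two_ne_zero

theorem Pr_comp_idem (ν : F) : Pr hF ρ ν ∘ₗ Pr hF ρ ν = Pr hF ρ ν := Pr_idem hF ρ ν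

/-- the dimension of a non-zero isotypic component -/
theorem rank_bound (hne : Pr hF ρ 1 ≠ 0) :
    2 ^ m ≤ finrank ℂ (LinearMap.range (Pr hF ρ 1)) := by
  classical
  have h2 := two_eq_zero hF
  obtain ⟨S, hS, hS1⟩ := exists_half hF
  set d := finrank ℂ (LinearMap.range (Pr hF ρ 1)) with hd
  have hd0 : (d : ℂ) ≠ 0 := by
    intro h
    apply hne
    have h3 := trace_idem (Pr_comp_idem hF ρ 1)
    rw [← hd, h] at h3
    have h4 : d = 0 := by exact_mod_cast h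
    have h5 : LinearMap.range (Pr hF ρ 1) = ⊥ := by
      apply Submodule.finrank_eq_zero.mp
      rw [← hd]; exact h4
    exact LinearMap.range_eq_bot.mp h5
  have key : Fintype.card {a // a ∈ S} ≤ d ^ 2 := by
    apply card_le_sq_rank (Pr_comp_idem hF ρ 1)
      (fun a : {a // a ∈ S} => ρ (Ts hF a.1 0)) (fun a : {a // a ∈ S} => ρ (Ts hF a.1 0)⁻¹)
    · intro j
      exact Pr_comm hF ρ 1 j.1 0
    · intro i j hij
      show LinearMap.trace ℂ V ((ρ (Ts hF i.1 0)⁻¹ * ρ (Ts hF j.1 0)) * Pr hF ρ 1) = 0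
      rw [← map_mul, Ts_inv, Ts_mul]
      apply trace_vanish
      · intro h
        apply hij
        apply Subtype.ext
        exact eq_of_add_eq_zero h2 h
      · exact hS1 _ i.2 _ j.2
    · intro i
      show LinearMap.trace ℂ V ((ρ (Ts hF i.1 0)⁻¹ * ρ (Ts hF i.1 0)) * Pr hF ρ 1) ≠ 0
      rw [← map_mul, inv_mul_cancel, map_one, one_mul, trace_idem (Pr_comp_idem hF ρ 1)]
      exact hd0
  rw [Fintype.card_coe] at key
  have h6 : S.card = (2 ^ m) ^ 2 := by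
    have : 2 * S.card = 2 * (2 ^ m) ^ 2 := by
      rw [hS, hF]; ring
    omega
  rw [h6] at key
  exact (Nat.pow_le_pow_iff_left (by norm_num)).mp key

theorem finrank_eq_sum :
    finrank ℂ V = ∑ ν : F, finrank ℂ (LinearMap.range (Pr hF ρ ν)) := by
  have h1 : (finrank ℂ V : ℂ) = LinearMap.trace ℂ V 1 := (LinearMap.trace_one ℂ V).symm
  rw [← Pr_sum hF ρ, map_sum] at h1
  rw [Finset.sum_congr rfl (fun ν _ => trace_idem (Pr_comp_idem hF ρ ν))] at h1
  exact_mod_cast h1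

theorem finrank_range_eq {ν : F} (hν : ν ≠ 0) :
    finrank ℂ (LinearMap.range (Pr hF ρ ν)) = finrank ℂ (LinearMap.range (Pr hF ρ 1)) := by
  have h := trace_Pr hF ρ hν
  rw [trace_idem (Pr_comp_idem hF ρ ν), trace_idem (Pr_comp_idem hF ρ 1)] at h
  exact_mod_cast h


/-- if the isotypic component of a non-trivial character vanishes, the representation is trivial -/
theorem trivial_of_Pr_zero (hm : 1 ≤ m) (h0 : Pr hF ρ 1 = 0) : ∀ g, ρ g = 1 := by
  have h1 : ∀ ν : F, ν ≠ 0 → Pr hF ρ ν = 0 := by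
    intro ν hν
    have := finrank_range_eq hF ρ hν
    rw [h0, LinearMap.range_zero, finrank_bot] at this
    exact LinearMap.range_eq_bot.mp (Submodule.finrank_eq_zero.mp this)
  have h3 : Pr hF ρ 0 = 1 := by
    have := Pr_sum hF ρ
    rw [Finset.sum_eq_single 0 (fun ν _ hν => h1 ν hν)
      (fun h => absurd (Finset.mem_univ _) h)] at this
    exact this
  have h4 : ∀ c, ρ (Ts hF 0 c) = 1 := by
    intro c
    have := Z_mul_Pr hF ρ 0 c
    rw [h3, mul_one, zero_mul, chi_zero, one_smul] at this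
    exact this
  have hsimple := Cfsg.Agent.S0325.result hm hF
  have hker : (MonoidHom.ker ρ) = ⊤ := by
    rcases (MonoidHom.normal_ker ρ).eq_bot_or_eq_top with h | h
    · exfalso
      have : Ts hF 0 1 ∈ MonoidHom.ker ρ := h4 1
      rw [h, Subgroup.mem_bot] at this
      have := Ts_inj hF (this.trans (Ts_one hF).symm)
      exact one_ne_zero this.2
    · exact h
  intro g
  have : g ∈ MonoidHom.ker ρ := by rw [hker]; trivial
  exact this

include hF in
theorem main_general (hm : 1 ≤ m)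
    (hirr : ∀ U : Submodule ℂ V, (∀ g, ∀ v ∈ U, ρ g v ∈ U) → U = ⊥ ∨ U = ⊤)
    (hk : 2 ≤ finrank ℂ V) :
    2 ^ m * (2 ^ (2 * m + 1) - 1) ≤ finrank ℂ V := by
  classical
  have hne : Pr hF ρ 1 ≠ 0 := by
    intro h0
    have htriv := trivial_of_Pr_zero hF ρ hm h0
    have : Nontrivial V := Module.nontrivial_of_finrank_pos (R := ℂ) (by omega)
    obtain ⟨v, hv⟩ := exists_ne (0 : V)
    rcases hirr (Submodule.span ℂ {v}) (fun g w hw => by rw [htriv g]; exact hw) with h | h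
    · exact hv (Submodule.span_singleton_eq_bot.mp h)
    · have := finrank_span_singleton (K := ℂ) hv
      rw [h, finrank_top] at this
      omega
  have hd := rank_bound hF ρ hne
  rw [finrank_eq_sum hF ρ]
  calc 2 ^ m * (2 ^ (2 * m + 1) - 1)
      ≤ (Finset.univ.erase (0 : F)).card * finrank ℂ (LinearMap.range (Pr hF ρ 1)) := by
        rw [Finset.card_erase_of_mem (Finset.mem_univ _), Finset.card_univ, hF, mul_comm]
        exact Nat.mul_le_mul_left _ hd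
    _ = ∑ ν ∈ Finset.univ.erase (0 : F), finrank ℂ (LinearMap.range (Pr hF ρ ν)) := by
        rw [Finset.sum_congr rfl (fun ν hν => finrank_range_eq hF ρ (Finset.ne_of_mem_erase hν)),
          Finset.sum_const, smul_eq_mul]
    _ ≤ ∑ ν : F, finrank ℂ (LinearMap.range (Pr hF ρ ν)) :=
        Finset.sum_le_sum_of_subset (Finset.erase_subset _ _)

end

theorem main {F : Type*} [Field F] [Fintype F] (m : ℕ) (hm : 1 ≤ m)
    (hF : Fintype.card F = 2 ^ (2 * m + 1)) :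
    (∀ (k : ℕ) (ρ : Representation ℂ (Cfsg.Lie.Sz F (2 ^ (m + 1))) (Fin k → ℂ)),
      ρ.IsIrreducible → 2 ≤ k → 2 ^ m * (2 ^ (2 * m + 1) - 1) ≤ k) := by
  intro k ρ hirr hk
  let e := Cfsg.Agent.Lib.Helper15.SuzukiLie.equivLie hF hm
  let ρ' : Representation ℂ (Cfsg.Sz F m) (Fin k → ℂ) := ρ.comp e.toMonoidHom
  have h1 : ∀ U : Submodule ℂ (Fin k → ℂ), (∀ g, ∀ v ∈ U, ρ' g v ∈ U) → U = ⊥ ∨ U = ⊤ := by
    intro U hU
    let σ : Subrepresentation ρ := ⟨U, fun g v hv => by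
      have := hU (e.symm g) v hv
      simpa [ρ'] using this⟩
    rcases eq_bot_or_eq_top σ with h | h
    · left; exact congrArg Subrepresentation.toSubmodule h
    · right; exact congrArg Subrepresentation.toSubmodule h
  have := main_general hF ρ' hm h1 (by rw [Module.finrank_fin_fun]; exact hk)
  rwa [Module.finrank_fin_fun] at this

/-- For the Suzuki group Sz(q), q = 2^(2m+1) with m ≥ 1 (realised inside Sp₄ over the field with q elements), every irreducible complex representation of degree at least 2 has degree at least 2^m·(q − 1). -/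
theorem result {F : Type*} [Field F] [Fintype F] (m : ℕ) (hm : 1 ≤ m) (hF : Fintype.card F = 2 ^ (2 * m + 1)) :
    (∀ (k : ℕ) (ρ : Representation ℂ (Cfsg.Lie.Sz F (2 ^ (m + 1))) (Fin k → ℂ)), ρ.IsIrreducible → 2 ≤ k → 2 ^ m * (2 ^ (2 * m + 1) - 1) ≤ k) := by
  exact main m hm hF

end Cfsg.Agent.S2337
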