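import Cfsg.Statements.S2343
-- import your own Cfsg.Agent.* helpers here
import Cfsg.Agent.Lib.Helper7.ReeMinConc
import Cfsg.Agent.Lib.Helper10.ReeMinAbs

set_option autoImplicit false
open Cfsg

namespace Cfsg.Agent.S2343

/-- a trivial representation of degree at least two is not irreducible (own copy) -/
theorem not_irr_of_trivial_ree {G : Type*} [Group G] (k : ℕ) (hk : 2 ≤ k)
    (ρ : Representation ℂ G (Fin k → ℂ)) (h : ∀ g, ρ g = 1) : ¬ ρ.IsIrreducible := by
  intro hρ
  let e0 : Fin k → ℂ := Pi.single ⟨0, by omega⟩ 1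
  let S : Subrepresentation ρ :=
    { toSubmodule := Submodule.span ℂ {e0}
      apply_mem_toSubmodule := by
        intro g v hv
        rw [h g]
        exact hv }
  rcases hρ.eq_bot_or_eq_top S with hS | hS
  · have h0 : e0 ∈ S.toSubmodule := Submodule.subset_span rfl
    rw [hS] at h0
    have h1 : e0 = 0 := h0
    have := congrFun h1 ⟨0, by omega⟩
    simp [e0] at this
  · have h0 : (Pi.single ⟨1, by omega⟩ 1 : Fin k → ℂ) ∈ S.toSubmodule := by
      rw [hS]
      trivial
    obtain ⟨c, hc⟩ := Submodule.mem_span_singleton.mp h0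
    have := congrFun hc ⟨1, by omega⟩
    simp [e0, Fin.ext_iff] at this

/-- For the Ree group ²G₂(q), q = 3^(2m+1) with m ≥ 1 (realised over the field with q elements), every irreducible complex representation of degree at least 2 has degree at least q² − q + 1. -/
theorem result {K : Type*} [Field K] [Fintype K] (m : ℕ) (hm : 1 ≤ m) (hK : Fintype.card K = 3 ^ (2 * m + 1)) :
    (∀ (k : ℕ) (ρ : Representation ℂ (Cfsg.Lie.twistedG2 K (3 ^ m)) (Fin k → ℂ)), ρ.IsIrreducible → 2 ≤ k → (3 ^ (2 * m + 1)) ^ 2 - 3 ^ (2 * m + 1) + 1 ≤ k) := by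
  classical
  intro k ρ hirr hk
  obtain ⟨y, x, a, b, hy, hx, htor, ha, hb, hab, hay, hcb, hcab, hnc⟩ :=
    Cfsg.Agent.Lib.Helper7.ReeMinConc.exists_ree_data hK hm
  have hnt : ∃ g, ρ g ≠ 1 := by
    by_contra hcon
    push Not at hcon
    exact not_irr_of_trivial_ree k hk ρ hcon hirr
  have := Cfsg.Agent.Lib.Helper10.ReeMinAbs.ree_min_abs ρ hnt
    (Cfsg.Agent.Lib.Helper7.ReeMinConc.card_mod_four hK) y hy x hx htor a b ha hb hab hay hcb hcab hnc
  rw [hK, Module.finrank_fin_fun] at this
  exact this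

end Cfsg.Agent.S2343
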