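import Cfsg.Statements.S2344
-- import your own Cfsg.Agent.* helpers here
import Cfsg.Agent.Lib.Helper26.OOMainB

set_option autoImplicit false
open Cfsg

namespace Cfsg.Agent.S2344

/-- For a finite field F of odd order q > 3 and n ≥ 3, every irreducible complex representation of degree at least 2 of Ω_{2n+1}(F) (the commutator subgroup of the isometry group of the quadratic form x₀² + x₁y₁ + ⋯ + x_ny_n) has degree at least (q^{2n} − 1)/(q² − 1). -/
theorem result {F : Type*} [Field F] [Fintype F] (n : ℕ) (hn : 3 ≤ n) (hodd : Odd (Fintype.card F)) (h3 : 3 < Fintype.card F) :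
    (∀ (k : ℕ) (ρ : Representation ℂ (Cfsg.Omega F (Cfsg.quadFormOdd n F)) (Fin k → ℂ)), ρ.IsIrreducible → 2 ≤ k → (Fintype.card F ^ (2 * n) - 1) / (Fintype.card F ^ 2 - 1) ≤ k) := by
  classical
  intro k ρ hρ hk
  obtain ⟨m, rfl⟩ : ∃ m, n = m + 1 := ⟨n - 1, by omega⟩
  have hE : ¬ Cfsg.Agent.Lib.Helper16.SLMinSpine.Exc (m + 1) (Fintype.card F) := by
    obtain ⟨j, hj⟩ := hodd
    rintro (⟨h1, h2⟩ | ⟨h1, h2⟩ | ⟨h1, h2⟩ | ⟨h1, h2⟩) <;> omega
  have hT := Cfsg.Agent.Lib.Helper16.SLMinSpine.tgen_all (F := F) (m + 1) (by omega) hE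
  exact Cfsg.Agent.Lib.Helper26.OOMain.mainO m (by omega) hodd h3
    (fun M₀ _ _ _ σ h => hT (Fin (m + 1)) (Fintype.card_fin (m + 1)) M₀ σ h) k ρ hρ hk

end Cfsg.Agent.S2344
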