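import Cfsg.Statements.S2352
-- import your own Cfsg.Agent.* helpers here

set_option autoImplicit false
open Cfsg

namespace Cfsg.Agent.S2352

open Equiv

/-- A functional and injective relation on a finite type extends to a permutation. -/
theorem exists_perm_of_rel {α : Type*} [Fintype α] (R : α → α → Prop)
    (hf : ∀ a b b', R a b → R a b' → b = b') (hi : ∀ a a' b, R a b → R a' b → a = a') :
    ∃ σ : Perm α, ∀ a b, R a b → σ a = b := by
  classical
  let p : α → Prop := fun a => ∃ b, R a b
  let q : α → Prop := fun b => ∃ a, R a b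
  let f : {a // p a} → {b // q b} := fun a =>
    ⟨Classical.choose a.2, ⟨a.1, Classical.choose_spec a.2⟩⟩
  have hfbij : Function.Bijective f := by
    constructor
    · intro a a' h
      have h1 : Classical.choose a.2 = Classical.choose a'.2 := congrArg Subtype.val h
      apply Subtype.ext
      have h2 := Classical.choose_spec a'.2
      rw [← h1] at h2
      exact hi _ _ _ (Classical.choose_spec a.2) h2
    · rintro ⟨b, a, hab⟩
      refine ⟨⟨a, b, hab⟩, ?_⟩
      apply Subtype.ext
      exact hf _ _ _ (Classical.choose_spec (⟨b, hab⟩ : p a)) hab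
  let e : {a // p a} ≃ {b // q b} := Equiv.ofBijective f hfbij
  refine ⟨e.extendSubtype, ?_⟩
  intro a b hab
  rw [Equiv.extendSubtype_apply_of_mem e a ⟨b, hab⟩]
  exact hf _ _ _ (Classical.choose_spec (⟨b, hab⟩ : p a)) hab

theorem reduced_adjacent {L : List (ℕ × Bool)} (hL : FreeGroup.IsReduced L) {t : ℕ} {x y : ℕ × Bool}
    (hx : L[t]? = some x) (hy : L[t + 1]? = some y) (h1 : x.1 = y.1) : x.2 = y.2 := by
  obtain ⟨ht, rfl⟩ := List.getElem?_eq_some_iff.mp hx
  obtain ⟨ht', rfl⟩ := List.getElem?_eq_some_iff.mp hy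
  exact List.isChain_iff_getElem.mp hL t ht' h1

/-- The demands on the permutation assigned to the generator `i`. -/
def Dem (L : List (ℕ × Bool)) (i : ℕ) (a b : Fin (L.length + 1)) : Prop :=
  ∃ t : ℕ, (L[t]? = some (i, true) ∧ a.val = t + 1 ∧ b.val = t) ∨
    (L[t]? = some (i, false) ∧ a.val = t ∧ b.val = t + 1)

theorem dem_functional {L : List (ℕ × Bool)} (hL : FreeGroup.IsReduced L) (i : ℕ)
    (a b b' : Fin (L.length + 1)) (h : Dem L i a b) (h' : Dem L i a b') : b = b' := by
  obtain ⟨t, h⟩ := h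
  obtain ⟨t', h'⟩ := h'
  apply Fin.ext
  rcases h with ⟨h1, h2, h3⟩ | ⟨h1, h2, h3⟩ <;> rcases h' with ⟨h1', h2', h3'⟩ | ⟨h1', h2', h3'⟩
  · omega
  · exfalso
    have e : t' = t + 1 := by omega
    subst e
    have := reduced_adjacent hL h1 h1' rfl
    simp at this
  · exfalso
    have e : t = t' + 1 := by omega
    subst e
    have := reduced_adjacent hL h1' h1 rfl
    simp at this
  · omega

theorem dem_injective {L : List (ℕ × Bool)} (hL : FreeGroup.IsReduced L) (i : ℕ)
    (a a' b : Fin (L.length + 1)) (h : Dem L i a b) (h' : Dem L i a' b) : a = a' := by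
  obtain ⟨t, h⟩ := h
  obtain ⟨t', h'⟩ := h'
  apply Fin.ext
  rcases h with ⟨h1, h2, h3⟩ | ⟨h1, h2, h3⟩ <;> rcases h' with ⟨h1', h2', h3'⟩ | ⟨h1', h2', h3'⟩
  · omega
  · exfalso
    have e : t = t' + 1 := by omega
    subst e
    have := reduced_adjacent hL h1' h1 rfl
    simp at this
  · exfalso
    have e : t' = t + 1 := by omega
    subst e
    have := reduced_adjacent hL h1 h1' rfl
    simp at this
  · omega

/-- A non-empty reduced word is not a law of a suitable finite symmetric group. -/
theorem exists_perm_eval_ne_one (L : List (ℕ × Bool)) (hL : FreeGroup.IsReduced L) (hne : L ≠ []) :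
    ∃ g : ℕ → Perm (Fin (L.length + 1)),
      (L.map (fun x => cond x.2 (g x.1) (g x.1)⁻¹)).prod ≠ 1 := by
  have hex : ∀ i, ∃ σ : Perm (Fin (L.length + 1)), ∀ a b, Dem L i a b → σ a = b := fun i =>
    exists_perm_of_rel (Dem L i) (dem_functional hL i) (dem_injective hL i)
  choose g hg using hex
  refine ⟨g, ?_⟩
  set φ : ℕ × Bool → Perm (Fin (L.length + 1)) := fun x => cond x.2 (g x.1) (g x.1)⁻¹ with hφ
  -- each letter moves the point `t + 1` to `t`
  have hstep : ∀ t (ht : t < L.length), φ L[t] ⟨t + 1, by omega⟩ = ⟨t, by omega⟩ := by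
    intro t ht
    have hLt : L[t]? = some L[t] := List.getElem?_eq_getElem ht
    rcases hx : L[t] with ⟨i, e⟩
    rw [hx] at hLt
    cases e
    · -- inverse letter
      have hd : Dem L i ⟨t, by omega⟩ ⟨t + 1, by omega⟩ := ⟨t, Or.inr ⟨hLt, rfl, rfl⟩⟩
      have := hg i _ _ hd
      simp only [hφ, cond_false]
      rw [Equiv.Perm.inv_eq_iff_eq]
      exact this.symm
    · have hd : Dem L i ⟨t + 1, by omega⟩ ⟨t, by omega⟩ := ⟨t, Or.inl ⟨hLt, rfl, rfl⟩⟩
      have := hg i _ _ hd
      simp only [hφ, cond_true]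
      exact this
  have hmain : ∀ d (hd : d ≤ L.length),
      ((L.drop (L.length - d)).map φ).prod ⟨L.length, by omega⟩ = ⟨L.length - d, by omega⟩ := by
    intro d
    induction d with
    | zero =>
      intro _
      simp
    | succ d ih =>
      intro hd
      have hlt : L.length - (d + 1) < L.length := by omega
      rw [List.drop_eq_getElem_cons hlt, List.map_cons, List.prod_cons, Equiv.Perm.mul_apply]
      have e : L.length - (d + 1) + 1 = L.length - d := by omega
      rw [e, ih (by omega)]
      have := hstep (L.length - (d + 1)) hlt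
      convert this using 2
      exact Fin.ext e.symm
  have h0 := hmain L.length le_rfl
  simp only [Nat.sub_self, List.drop_zero] at h0
  intro h1
  rw [h1, Equiv.Perm.one_apply] at h0
  have hpos : 0 < L.length := List.length_pos_iff.mpr hne
  have h2 : L.length = 0 := Fin.mk.inj_iff.mp h0
  omega

/-- Doubling embedding of `Perm (Fin m)` into the alternating group of degree `n ≥ 2 m`. -/
theorem exists_embedding_alt (m n : ℕ) (h : 2 * m ≤ n) :
    ∃ Φ : Perm (Fin m) →* alternatingGroup (Fin n), Function.Injective Φ := by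
  obtain ⟨r, rfl⟩ : ∃ r, n = m + m + r := ⟨n - 2 * m, by omega⟩
  let e : (Fin m ⊕ Fin m) ⊕ Fin r ≃ Fin (m + m + r) :=
    (Equiv.sumCongr finSumFinEquiv (Equiv.refl _)).trans finSumFinEquiv
  let Φ₀ : Perm (Fin m) →* Perm (Fin (m + m + r)) :=
    (e.permCongrHom.toMonoidHom).comp
      ((Equiv.Perm.sumCongrHom (Fin m ⊕ Fin m) (Fin r)).comp
        (MonoidHom.prod ((Equiv.Perm.sumCongrHom (Fin m) (Fin m)).comp
          (MonoidHom.prod (MonoidHom.id _) (MonoidHom.id _))) 1))
  have hΦ₀ : ∀ σ, Φ₀ σ = e.permCongr (Equiv.Perm.sumCongr (Equiv.Perm.sumCongr σ σ) 1) := by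
    intro σ
    rfl
  have hsign : ∀ σ, Φ₀ σ ∈ alternatingGroup (Fin (m + m + r)) := by
    intro σ
    rw [Equiv.Perm.mem_alternatingGroup, hΦ₀, Equiv.Perm.sign_permCongr, Equiv.Perm.sign_sumCongr,
      Equiv.Perm.sign_sumCongr, Equiv.Perm.sign_one, mul_one]
    exact Int.units_mul_self _
  have hinj : Function.Injective Φ₀ := by
    intro σ τ hστ
    rw [hΦ₀, hΦ₀] at hστ
    have h1 := (Equiv.permCongr e).injective hστ
    ext x
    have h2 := Equiv.congr_fun h1 (Sum.inl (Sum.inl x))
    simp only [Equiv.Perm.sumCongr_apply, Sum.map_inl] at h2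
    have h3 := Sum.inl.inj (Sum.inl.inj h2)
    rw [h3]
  refine ⟨Φ₀.codRestrict _ hsign, ?_⟩
  intro σ τ hστ
  apply hinj
  exact congrArg Subtype.val hστ

/-- A non-trivial law holds in only finitely many alternating groups: for every non-trivial element w of the free group on countably many generators there is N such that for all n ≥ N some substitution of elements of the alternating group of degree n into w is not the identity. -/
theorem result (w : FreeGroup ℕ) (hw : w ≠ 1) :
    ∃ N : ℕ, ∀ n : ℕ, N ≤ n → ∃ f : ℕ → alternatingGroup (Fin n), FreeGroup.lift f w ≠ 1 := by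
  set L := w.toWord with hL
  have hred : FreeGroup.IsReduced L := FreeGroup.isReduced_toWord
  have hne : L ≠ [] := fun h => hw (FreeGroup.toWord_eq_nil_iff.mp h)
  obtain ⟨g, hg⟩ := exists_perm_eval_ne_one L hred hne
  have hwL : w = FreeGroup.mk L := FreeGroup.mk_toWord.symm
  refine ⟨2 * (L.length + 1), fun n hn => ?_⟩
  obtain ⟨Φ, hΦ⟩ := exists_embedding_alt (L.length + 1) n hn
  refine ⟨fun i => Φ (g i), ?_⟩
  have hcomp : FreeGroup.lift (fun i => Φ (g i)) = Φ.comp (FreeGroup.lift g) := by
    apply FreeGroup.ext_hom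
    intro i
    simp
  rw [hcomp, MonoidHom.comp_apply]
  intro h1
  have h2 : FreeGroup.lift g w = 1 := hΦ (by rw [h1, map_one])
  rw [hwL, FreeGroup.lift_mk] at h2
  exact hg h2

end Cfsg.Agent.S2352
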