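import Cfsg.Statements.S2355
import Cfsg.Agent.S2353
import Cfsg.Agent.Lib.Helper20.LawF

set_option autoImplicit false
open Cfsg

namespace Cfsg.Agent.S2355

open Cfsg.Agent.Lib.Helper20.GLaw

/-- matrices of the elements of `Ω(Q)`. -/
theorem omega_val_injective {ι : Type} [Fintype ι] [DecidableEq ι] (F : Type) [Field F]
    (Q : (ι → F) → F) :
    Function.Injective (fun g : Cfsg.Omega F Q =>
      (((g : Cfsg.isometryGroup F Q) : Matrix.GeneralLinearGroup ι F) : Matrix ι ι F)) := by
  intro a b h
  apply Subtype.ext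
  apply Subtype.ext
  exact Units.ext h

/-- A non-trivial law is satisfied by only finitely many finite simple groups that are alternating or classical, up to isomorphism: for every non-trivial element w of the free group on countably many generators there is a bound N such that every alternating group of degree ≥ 5 and every simple classical group (linear, symplectic, unitary or orthogonal, in this problem's sense) in which w is a law has order at most N. -/
theorem result (w : FreeGroup ℕ) (hw : w ≠ 1) :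
    ∃ N : ℕ, ∀ (G : Type*) [Group G] [Finite G],
      (Cfsg.IsAlternating G ∨ Cfsg.IsPSL G ∨ Cfsg.IsPSp G ∨ Cfsg.IsPSU G ∨ Cfsg.IsPOmegaOdd G ∨
          Cfsg.IsPOmegaPlus G ∨ Cfsg.IsPOmegaMinus G) →
      (∀ f : ℕ → G, FreeGroup.lift f w = 1) → Nat.card G ≤ N := by
  obtain ⟨N₂, hN₂⟩ := Cfsg.Agent.S2353.result.{0} w hw
  have hN : FailsPSL2 w N₂ := fun F _ _ h => hN₂ F h
  obtain ⟨p, hpge, hp⟩ := Nat.exists_infinite_primes (max N₂ 5)
  have : Fact p.Prime := ⟨hp⟩
  have hp5 : 5 ≤ p := le_trans (le_max_right _ _) hpge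
  have hpN : N₂ ≤ p := le_trans (le_max_left _ _) hpge
  refine ⟨max (classBound N₂ (Fintype.card (TestGp p))) (Fintype.card (TestGp p)).factorial, ?_⟩
  intro G _ _ hfam hlaw
  have hlaw' : IsLaw w G := hlaw
  rcases hfam with h | h | h | h | h | h | h
  · -- alternating
    obtain ⟨n, -, ⟨e⟩⟩ := h
    exact le_trans (alternating_bound p hN hp5 hpN e hlaw') (le_max_right _ _)
  · -- linear
    obtain ⟨F, _, _, n, hn, -, ⟨e⟩⟩ := h
    refine le_trans (family_bound p hN hp5 hpN hn (perfEmb_SL F n)
      (fun g : Matrix.SpecialLinearGroup (Fin n) F => (g : Matrix (Fin n) (Fin n) F))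
      Subtype.val_injective ?_ e hlaw') (le_max_left _ _)
    rw [Fintype.card_fin]
    omega
  · -- symplectic
    obtain ⟨F, _, _, m, hm, -, ⟨e⟩⟩ := h
    refine le_trans (family_bound p hN hp5 hpN hm (perfEmb_Sp F m)
      (fun g : Matrix.symplecticGroup (Fin m) F =>
        (g : Matrix (Fin m ⊕ Fin m) (Fin m ⊕ Fin m) F))
      Subtype.val_injective ?_ e hlaw') (le_max_left _ _)
    rw [Fintype.card_sum, Fintype.card_fin]
    omega
  · -- unitary
    obtain ⟨F, _, _, n, q, hF, hn, -, ⟨e⟩⟩ := h
    exact le_trans (unitary_bound p hN hp5 hpN (by omega) hF e hlaw') (le_max_left _ _)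
  · -- odd-dimensional orthogonal
    obtain ⟨F, _, _, m, hm, -, ⟨e⟩⟩ := h
    refine le_trans (family_bound p hN hp5 hpN (r := m) (by omega) (perfEmb_OmegaOdd F m)
      _ (omega_val_injective F (Cfsg.quadFormOdd m F)) ?_ e hlaw') (le_max_left _ _)
    rw [Fintype.card_sum, Fintype.card_sum, Fintype.card_fin, Fintype.card_unit]
    omega
  · -- plus type
    obtain ⟨F, _, _, m, hm, ⟨e⟩⟩ := h
    refine le_trans (family_bound p hN hp5 hpN (r := m) (by omega) (perfEmb_OmegaPlus F m)
      _ (omega_val_injective F (Cfsg.quadFormPlus m F)) ?_ e hlaw') (le_max_left _ _)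
    rw [Fintype.card_sum, Fintype.card_fin]
    omega
  · -- minus type
    obtain ⟨F, _, _, m, a, b, hm, -, ⟨e⟩⟩ := h
    refine le_trans (family_bound p hN hp5 hpN (r := m - 1) (by omega)
      (perfEmb_OmegaMinus F (m - 1) a b)
      _ (omega_val_injective F (Cfsg.quadFormMinus (m - 1) F a b)) ?_ e hlaw') (le_max_left _ _)
    rw [Fintype.card_sum, Fintype.card_sum, Fintype.card_fin, Fintype.card_fin]
    omega

end Cfsg.Agent.S2355
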