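import Cfsg.Statements.S2363
-- import your own Cfsg.Agent.* helpers here
import Cfsg.Agent.Lib.Helper15.LieOrdC
import Cfsg.Agent.Lib.Helper15.LieOrdE
import Cfsg.Agent.S1068
import Cfsg.Agent.S1069

set_option autoImplicit false
open Cfsg

namespace Cfsg.Agent.S2363

open Cfsg.Agent.Lib.Helper15.LieOrd

/-- the conclusion, for a group all of whose relevant bounds hold -/
theorem of_both {G : Type*} [Group G] (p : ℕ)
    (h : Nat.card G < p ^ (3 * (Nat.card G).factorization p) ∧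
      Nat.card G ^ 3 < p ^ (8 * (Nat.card G).factorization p)) :
    Nat.card G < p ^ (3 * (Nat.card G).factorization p) ∧
      ((¬ ∃ (F : Type) (_ : Field F) (_ : Fintype F),
          Fintype.card F = p ^ (Nat.card G).factorization p ∧
          Nonempty (G ≃* Matrix.ProjectiveSpecialLinearGroup (Fin 2) F)) →
        Nat.card G ^ 3 < p ^ (8 * (Nat.card G).factorization p)) :=
  ⟨h.1, fun _ => h.2⟩

theorem main {G : Type*} [Group G] [Finite G] (p : ℕ) (hp : p.Prime)
    (hG : Cfsg.IsLieTypeChar p G)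
    (h2F4 : ∀ (K : Type) [Field K] [Fintype K] (m : ℕ), Fintype.card K = 2 ^ (2 * m + 1) →
      Nat.card ↥(Cfsg.Lie.twistedF4 K (2 ^ m)) =
        (2 ^ (2 * m + 1)) ^ 12 * (2 ^ (2 * m + 1) - 1) * ((2 ^ (2 * m + 1)) ^ 3 + 1) *
          ((2 ^ (2 * m + 1)) ^ 4 - 1) * ((2 ^ (2 * m + 1)) ^ 6 + 1))
    (h2G2 : ∀ (K : Type) [Field K] [Fintype K] (m : ℕ), Fintype.card K = 3 ^ (2 * m + 1) →
      Nat.card ↥(Cfsg.Lie.twistedG2 K (3 ^ m)) =
        (3 ^ (2 * m + 1)) ^ 3 * (3 ^ (2 * m + 1) - 1) * ((3 ^ (2 * m + 1)) ^ 3 + 1)) :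
    Nat.card G < p ^ (3 * (Nat.card G).factorization p) ∧
      ((¬ ∃ (F : Type) (_ : Field F) (_ : Fintype F),
          Fintype.card F = p ^ (Nat.card G).factorization p ∧
          Nonempty (G ≃* Matrix.ProjectiveSpecialLinearGroup (Fin 2) F)) →
        Nat.card G ^ 3 < p ^ (8 * (Nat.card G).factorization p)) := by
  rcases hG with h | h | h | h | h | h | h | h | h | h | h
  · -- PSL
    obtain ⟨F, iF, iT, _, n, hn, -, ⟨e⟩⟩ := h
    obtain ⟨hA, hB, hC⟩ := psl_bound (F := F) hp n hn (Nat.card G) (Nat.card_congr e.toEquiv)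
    refine ⟨hA, fun hno => ?_⟩
    by_cases h3 : 3 ≤ n
    · exact hB h3
    · have h2 : n = 2 := by omega
      subst h2
      have hC' := hC rfl
      exfalso
      apply hno
      refine ⟨F, iF, iT, hC', ?_⟩
      exact ⟨e⟩
  · -- PSp
    obtain ⟨F, _, _, _, m, hm, -, ⟨e⟩⟩ := h
    exact of_both p (psp_bound (F := F) hp m hm _ (Nat.card_congr e.toEquiv))
  · -- PSU
    obtain ⟨F, _, _, _, n, q, hF, hn, -, ⟨e⟩⟩ := h
    exact of_both p (psu_bound (F := F) hp n q hF hn _ (Nat.card_congr e.toEquiv))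
  · -- odd orthogonal
    obtain ⟨F, _, _, _, m, hm, hodd, ⟨e⟩⟩ := h
    exact of_both p (pomega_odd_bound (F := F) hp m hm hodd _ (Nat.card_congr e.toEquiv))
  · -- plus
    obtain ⟨F, _, _, _, m, hm, ⟨e⟩⟩ := h
    exact of_both p (pomega_plus_bound (F := F) hp m hm _ (Nat.card_congr e.toEquiv))
  · -- minus
    obtain ⟨F, _, _, _, m, a, b, hm, hab, ⟨e⟩⟩ := h
    exact of_both p (pomega_minus_bound (F := F) hp m hm a b hab _ (Nat.card_congr e.toEquiv))
  · -- exceptional Chevalley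
    obtain ⟨F, _, _, _, h⟩ := h
    rcases h with ⟨-, ⟨e⟩⟩ | ⟨⟨e⟩⟩ | ⟨⟨e⟩⟩ | ⟨⟨e⟩⟩ | ⟨⟨e⟩⟩
    · exact of_both p (g2_bound (F := F) hp _ (Nat.card_congr e.toEquiv))
    · exact of_both p (f4_bound (F := F) hp _ (Nat.card_congr e.toEquiv))
    · exact of_both p (e6_bound (F := F) hp _ (Nat.card_congr e.toEquiv))
    · exact of_both p (e7_bound (F := F) hp _ (Nat.card_congr e.toEquiv))
    · exact of_both p (e8_bound (F := F) hp _ (Nat.card_congr e.toEquiv))
  · -- twisted E6, D4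
    obtain ⟨K, _, _, _, q, hq, h⟩ := h
    rcases h with ⟨hK, ⟨e⟩⟩ | ⟨hK, ⟨e⟩⟩
    · exact of_both p (tw_e6_bound (F := K) hp q hq hK _ (Nat.card_congr e.toEquiv))
    · exact of_both p (tw_d4_bound (F := K) hp q hq hK _ (Nat.card_congr e.toEquiv))
  · -- Suzuki
    obtain ⟨rfl, F, _, _, m, hm, hF, ⟨e⟩⟩ := h
    exact of_both 2 (sz_bound (F := F) m hm hF _ (Nat.card_congr e.toEquiv))
  · -- large Ree
    obtain ⟨rfl, K, _, _, m, hm, hK, ⟨e⟩⟩ := h
    have hc : Nat.card G = Nat.card ↥(Cfsg.Lie.twistedF4 K (2 ^ m)) := Nat.card_congr e.toEquiv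
    have h := h2F4 K m hK
    rw [← hc] at h
    exact of_both 2 (tw_f4_arith Nat.prime_two (by omega) Nat.card_pos.ne' h)
  · -- small Ree
    obtain ⟨rfl, K, _, _, m, hm, hK, ⟨e⟩⟩ := h
    have hc : Nat.card G = Nat.card ↥(Cfsg.Lie.twistedG2 K (3 ^ m)) := Nat.card_congr e.toEquiv
    have h := h2G2 K m hK
    rw [← hc] at h
    exact of_both 3 (tw_g2_arith Nat.prime_three (by omega) Nat.card_pos.ne' h)

/-- Let G be a finite simple group of Lie type in characteristic p and let p^k be the exact power of p dividing the order of G. Then the order of G is less than p^(3k); and unless G is isomorphic to PSL(2, F) for the field F with p^k elements, the cube of the order of G is less than p^(8k) (that is, the order is below p^(8k/3)). -/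
theorem result {G : Type*} [Group G] [Finite G] (p : ℕ) (hp : p.Prime) (hG : Cfsg.IsLieTypeChar p G) :
    Nat.card G < p ^ (3 * (Nat.card G).factorization p) ∧
      ((¬ ∃ (F : Type) (_ : Field F) (_ : Fintype F), Fintype.card F = p ^ (Nat.card G).factorization p ∧
          Nonempty (G ≃* Matrix.ProjectiveSpecialLinearGroup (Fin 2) F)) →
        Nat.card G ^ 3 < p ^ (8 * (Nat.card G).factorization p)) := by
  exact main p hp hG (fun K _ _ m hK => Cfsg.Agent.S1068.result hK) (fun K _ _ m hK => Cfsg.Agent.S1069.result hK)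

end Cfsg.Agent.S2363
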