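import Cfsg.Statements.S2365
-- import your own Cfsg.Agent.* helpers here
import Cfsg.Agent.Lib.Helper15.HermPair
import Cfsg.Agent.Lib.Helper15.PrimeGraphSL
import Cfsg.Agent.Lib.Helper14.Unitary3

set_option autoImplicit false
open Cfsg

namespace Cfsg.Agent.S2365

open Module Cfsg.Agent.Lib.Helper14 Cfsg.Agent.Lib.Helper15.HermSub
  Cfsg.Agent.Lib.Helper15.HermPair Cfsg.Agent.Lib.Helper12.Elus
open scoped Matrix

section form

variable {F : Type*} [Field F] [Fintype F] {q : ℕ}

theorem isHerm_hermForm (hF : Fintype.card F = q ^ 2) (n : ℕ) :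
    IsHerm q (Cfsg.hermForm n F q) := by
  classical
  exact ⟨hermForm_add_left, hermForm_smul_left, fun v w => (hermForm_conj hF w v).symm⟩

theorem ndOn_hermForm (hF : Fintype.card F = q ^ 2) (n : ℕ) :
    NdOn (Cfsg.hermForm n F q) (⊤ : Submodule F (Fin n → F)) := by
  classical
  have hq := herm_two_le hF
  intro u _ hu0
  obtain ⟨i, hi⟩ : ∃ i, u i ≠ 0 := by
    by_contra hcon
    push Not at hcon
    exact hu0 (funext hcon)
  refine ⟨Pi.single i 1, Submodule.mem_top, ?_⟩
  unfold Cfsg.hermForm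
  rw [Finset.sum_eq_single i]
  · rw [Pi.single_eq_same, one_pow, mul_one]
    exact hi
  · intro j _ hji
    rw [Pi.single_eq_of_ne hji, zero_pow (by omega), mul_zero]
  · intro h
    exact absurd (Finset.mem_univ i) h

/-- the order of `SU_n(q)` without the factor `q + 1` -/
theorem card_SU_eq (hF : Fintype.card F = q ^ 2) (k : ℕ) :
    Nat.card (Cfsg.SU (k + 1) F q) = q ^ ((k + 1) * k / 2) *
      ∏ i ∈ Finset.range k, (if Even (i + 1) then q ^ (i + 2) + 1 else q ^ (i + 2) - 1) := by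
  classical
  have h1 := card_SU_mul hF (k + 1) (by omega)
  rw [card_GU hF, Finset.prod_range_succ'] at h1
  have h2 : (if Even 0 then q ^ (0 + 1) + 1 else q ^ (0 + 1) - 1) = q + 1 := by
    rw [if_pos (by decide : Even 0), zero_add, pow_one]
  rw [h2, ← mul_assoc, mul_comm] at h1
  have h3 := Nat.eq_of_mul_eq_mul_right (by omega : 0 < q + 1) h1
  rw [h3, Nat.add_sub_cancel]

theorem dvd_card_SU (hF : Fintype.card F = q ^ 2) (n : ℕ) (hn : 2 ≤ n) (r : ℕ)
    (h : r ∣ q ∨ ∃ i, 2 ≤ i ∧ i ≤ n ∧ (r : ℤ) ∣ (q : ℤ) ^ i - (-1) ^ i) :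
    r ∣ Nat.card (Cfsg.SU n F q) := by
  classical
  obtain ⟨k, rfl⟩ : ∃ k, n = k + 1 := ⟨n - 1, by omega⟩
  rw [card_SU_eq hF]
  rcases h with h | ⟨i, hi2, hin, hi⟩
  · apply Dvd.dvd.mul_right
    apply dvd_pow h
    have : 2 * 1 ≤ (k + 1) * k := Nat.mul_le_mul (by omega) (by omega)
    omega
  · apply Dvd.dvd.mul_left
    obtain ⟨j, rfl⟩ : ∃ j, i = j + 2 := ⟨i - 2, by omega⟩
    refine Dvd.dvd.trans ?_ (Finset.dvd_prod_of_mem _ (Finset.mem_range.2 (by omega : j < k)))
    have hq1 : 1 ≤ q ^ (j + 2) := Nat.one_le_pow _ _ (by have := herm_two_le hF; omega)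
    rw [← Int.natCast_dvd_natCast]
    split_ifs with hev
    · have hodd : Odd (j + 2) := by
        rcases hev with ⟨c, hc⟩
        exact ⟨c, by omega⟩
      rw [hodd.neg_one_pow, sub_neg_eq_add] at hi
      push_cast
      exact hi
    · have hev2 : Even (j + 2) := by
        rw [Nat.not_even_iff_odd] at hev
        rcases hev with ⟨c, hc⟩
        exact ⟨c + 1, by omega⟩
      rw [hev2.neg_one_pow] at hi
      rw [Nat.cast_sub hq1]
      push_cast
      exact hi

end form

section main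

variable {F : Type*} [Field F] [Fintype F] {q : ℕ}

open Cfsg.Agent.Lib.Helper15.PrimeGraphSL

/-- the linear map of an element of `SU` -/
noncomputable def toE {n : ℕ} (g : Cfsg.SU n F q) : (Fin n → F) →ₗ[F] (Fin n → F) :=
  Matrix.toLin' ((g : Matrix.SpecialLinearGroup (Fin n) F) : Matrix (Fin n) (Fin n) F)

omit [Fintype F] in
theorem toE_apply {n : ℕ} (g : Cfsg.SU n F q) (v : Fin n → F) :
    toE g v = ((g : Matrix.SpecialLinearGroup (Fin n) F) : Matrix (Fin n) (Fin n) F) *ᵥ v :=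
  Matrix.toLin'_apply _ _

omit [Fintype F] in
theorem toE_mul {n : ℕ} (g g' : Cfsg.SU n F q) : toE (g * g') = toE g * toE g' := by
  unfold toE
  rw [Subgroup.coe_mul, Matrix.SpecialLinearGroup.coe_mul, Matrix.toLin'_mul]
  rfl

omit [Fintype F] in
theorem toE_one {n : ℕ} : toE (1 : Cfsg.SU n F q) = 1 := by
  unfold toE
  rw [Subgroup.coe_one, Matrix.SpecialLinearGroup.coe_one, Matrix.toLin'_one]
  rfl

omit [Fintype F] in
theorem toE_pow {n : ℕ} (g : Cfsg.SU n F q) (k : ℕ) : toE (g ^ k) = toE g ^ k := by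
  induction k with
  | zero => rw [pow_zero, pow_zero, toE_one]
  | succ k ih => rw [pow_succ, pow_succ, toE_mul, ih]

omit [Fintype F] in
theorem toE_injective {n : ℕ} : Function.Injective (toE : Cfsg.SU n F q → _) := by
  intro g g' h
  apply Subtype.ext
  apply Subtype.ext
  exact Matrix.toLin'.injective h

omit [Fintype F] in
theorem toE_iso {n : ℕ} (g : Cfsg.SU n F q) (u v : Fin n → F) :
    Cfsg.hermForm n F q (toE g u) (toE g v) = Cfsg.hermForm n F q u v := by
  rw [toE_apply, toE_apply]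
  exact g.2 u v

theorem main (p : ℕ) [hp : Fact p.Prime] [CharP F p] (m q : ℕ) (hm : 4 ≤ m)
    (hF : Fintype.card F = q ^ 2)
    (a b : Cfsg.PSU m F q) (ha : orderOf a = p) (hab : Commute a b) :
    (orderOf b).primeFactors ⊆ (Nat.card ↥(Cfsg.SU (m - 2) F q)).primeFactors := by
  classical
  intro r hr
  rw [Nat.mem_primeFactors] at hr ⊢
  obtain ⟨hrp, hrb, hb0⟩ := hr
  refine ⟨hrp, ?_, Nat.card_pos.ne'⟩
  have : Fact r.Prime := ⟨hrp⟩
  have hq2 := herm_two_le hF
  obtain ⟨k, -, hk⟩ := FiniteField.card F p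
  have hpq : p ∣ q := by
    have h1 : p ∣ q ^ 2 := by rw [← hF, hk]; exact dvd_pow_self p k.pos.ne'
    exact hp.out.dvd_of_dvd_pow h1
  by_cases hrq : r ∣ q
  · exact dvd_card_SU hF (m - 2) (by omega) r (Or.inl hrq)
  by_cases hrq1 : (r : ℤ) ∣ (q : ℤ) + 1
  · apply dvd_card_SU hF (m - 2) (by omega) r (Or.inr ⟨2, le_rfl, by omega, ?_⟩)
    have h1 : (q : ℤ) ^ 2 - (-1) ^ 2 = ((q : ℤ) + 1) * ((q : ℤ) - 1) := by ring
    rw [h1]
    exact Dvd.dvd.mul_right hrq1 _
  have hpr : p ≠ r := by rintro rfl; exact hrq hpq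
  have hr0 : (r : F) ≠ 0 := by
    intro h0
    rw [CharP.cast_eq_zero_iff F p r] at h0
    exact hpr ((Nat.prime_dvd_prime_iff_eq hp.out hrp).1 h0)
  have hZcard : Nat.card (Subgroup.center (Cfsg.SU m F q)) = Nat.gcd m (q + 1) :=
    card_center_SU hF m (by omega)
  have hZp : Nat.Coprime (Nat.card (Subgroup.center (Cfsg.SU m F q))) p := by
    rw [hZcard]
    apply Nat.Coprime.symm
    rw [Nat.Prime.coprime_iff_not_dvd hp.out]
    intro h
    have h1 : p ∣ q + 1 := h.trans (Nat.gcd_dvd_right _ _)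
    have h2 : p ∣ 1 := (Nat.dvd_add_right hpq).1 h1
    exact hp.out.one_lt.ne' (Nat.dvd_one.1 h2)
  have hZr : Nat.Coprime (Nat.card (Subgroup.center (Cfsg.SU m F q))) r := by
    rw [hZcard]
    apply Nat.Coprime.symm
    rw [Nat.Prime.coprime_iff_not_dvd hrp]
    intro h
    apply hrq1
    have h1 : r ∣ q + 1 := h.trans (Nat.gcd_dvd_right _ _)
    exact_mod_cast Int.natCast_dvd_natCast.2 h1
  set c := b ^ (orderOf b / r) with hc
  have hcr : orderOf c = r := orderOf_pow_orderOf_div hb0 hrb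
  have hac : Commute a c := hab.pow_right _
  obtain ⟨a', c', ha', hc', ha'p, hc'r, hcomm⟩ := lift_pair (G := Cfsg.SU m F q) p r
    hp.out.one_lt hrp.one_lt ((Nat.coprime_primes hp.out hrp).2 hpr) hZp hZr a c hac
    (by rw [← ha]; exact pow_orderOf_eq_one a) (by rw [← hcr]; exact pow_orderOf_eq_one c)
  have ha'1 : a' ≠ 1 := by
    rintro rfl
    have h1 : a = 1 := by rw [← ha']; rfl
    rw [h1, orderOf_one] at ha
    exact hp.out.one_lt.ne ha
  have hc'1 : c' ≠ 1 := by
    rintro rfl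
    have h1 : c = 1 := by rw [← hc']; rfl
    rw [h1, orderOf_one] at hcr
    exact hrp.one_lt.ne hcr
  have hfr : finrank F (Fin m → F) = m := Module.finrank_fin_fun F
  obtain ⟨i, hi2, him, hi⟩ := pair_main (isHerm_hermForm hF m) hF p r hr0 hrq hrq1
    (ndOn_hermForm hF m) (toE c') (toE a')
    (fun v => by
      rw [← Module.End.mul_apply, ← Module.End.mul_apply, ← toE_mul, ← toE_mul, hcomm.eq])
    (toE_iso c') (toE_iso a') (by rw [← toE_pow, hc'r, toE_one]) (by rw [← toE_pow, ha'p, toE_one])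
    (fun h => hc'1 (toE_injective (h.trans toE_one.symm)))
    (fun h => ha'1 (toE_injective (h.trans toE_one.symm))) (by rw [hfr]; exact hm)
  rw [hfr] at him
  exact dvd_card_SU hF (m - 2) (by omega) r (Or.inr ⟨i, hi2, by omega, hi⟩)

end main

/-- Let q be a power of the prime p, F the field with q² elements, m ≥ 4, and let a, b be commuting elements of PSU(m, q) with a of order p. Then every prime divisor of the order of b divides the order of SU(m − 2, q). -/
theorem result {F : Type*} [Field F] [Fintype F] (p : ℕ) [Fact p.Prime] [CharP F p] (m q : ℕ) (hm : 4 ≤ m) (hF : Fintype.card F = q ^ 2)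
    (a b : Cfsg.PSU m F q) (ha : orderOf a = p) (hab : Commute a b) :
    (orderOf b).primeFactors ⊆ (Nat.card ↥(Cfsg.SU (m - 2) F q)).primeFactors := by
  exact main p m q hm hF a b ha hab

end Cfsg.Agent.S2365
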