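import Cfsg.Statements.S2366
import Cfsg.Agent.Lib.Helper9.SU3SpecT1
import Cfsg.Agent.Lib.Helper9.SU3SpecD
import Cfsg.Agent.Lib.Helper9.SU3SpecE
import Cfsg.Agent.Lib.Helper9.SU3Local

set_option autoImplicit false
open Cfsg

namespace Cfsg.Agent.S2366

open Cfsg.Agent.Lib.Helper14 Cfsg.Agent.Lib.Helper9 Cfsg.Agent.Lib.Helper9.SU3Local

section asm

variable {F : Type*} [Field F] [Fintype F] [DecidableEq F] {q : ℕ}

/-- an element of `SU_3` from a matrix -/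
def mkSU (M : Matrix (Fin 3) (Fin 3) F) (hM : IsUni F q 3 M) (hdet : M.det = 1) :
    ↥(Cfsg.SU 3 F q) :=
  ⟨(⟨M, hdet⟩ : Matrix.SpecialLinearGroup (Fin 3) F), (mem_SU_iff _).mpr hM⟩

theorem mem_center_iff (hF : Fintype.card F = q ^ 2) (g : ↥(Cfsg.SU 3 F q)) :
    g ∈ Subgroup.center (Cfsg.SU 3 F q) ↔ ∃ c : F, mat g = c • (1 : Matrix (Fin 3) (Fin 3) F) := by
  constructor
  · intro hg
    have := center_eq_scalar (m := 1) hF g hg
    refine ⟨mat g 0 0, ?_⟩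
    rw [Matrix.smul_one_eq_diagonal]
    exact this
  · rintro ⟨c, hc⟩
    rw [Subgroup.mem_center_iff]
    intro h
    apply mat_injective
    rw [mat_mul, mat_mul, hc, Matrix.mul_smul, Matrix.smul_mul, Matrix.mul_one, Matrix.one_mul]

theorem mk_pow_eq_one_iff (hF : Fintype.card F = q ^ 2) (g : ↥(Cfsg.SU 3 F q)) (k : ℕ) :
    (QuotientGroup.mk g : Cfsg.PSU 3 F q) ^ k = 1 ↔
      ∃ c : F, mat g ^ k = c • (1 : Matrix (Fin 3) (Fin 3) F) := by
  rw [← QuotientGroup.mk_pow, QuotientGroup.eq_one_iff, mem_center_iff hF, mat_pow]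

theorem orderOf_mk_eq (hF : Fintype.card F = q ^ 2) (g : ↥(Cfsg.SU 3 F q)) (K : ℕ)
    (h : ∀ k : ℕ, (∃ c : F, mat g ^ k = c • (1 : Matrix (Fin 3) (Fin 3) F)) ↔ K ∣ k) :
    orderOf (QuotientGroup.mk g : Cfsg.PSU 3 F q) = K := by
  apply Nat.dvd_antisymm
  · rw [orderOf_dvd_iff_pow_eq_one, mk_pow_eq_one_iff hF, h]
  · rw [← h, ← mk_pow_eq_one_iff hF]
    exact pow_orderOf_eq_one _

theorem mem_range_of_dvd (hF : Fintype.card F = q ^ 2) (K : ℕ)
    (hex : ∃ M : Matrix (Fin 3) (Fin 3) F, IsUni F q 3 M ∧ M.det = 1 ∧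
      ∀ k : ℕ, (∃ c : F, M ^ k = c • (1 : Matrix (Fin 3) (Fin 3) F)) ↔ K ∣ k)
    (s : ℕ) (hs : s ∣ K) : s ∈ Set.range (orderOf : Cfsg.PSU 3 F q → ℕ) := by
  obtain ⟨M, hM, hdet, h⟩ := hex
  have ho := orderOf_mk_eq hF (mkSU M hM hdet) K h
  obtain ⟨m, hm⟩ := hs
  have hfin : Finite (Cfsg.PSU 3 F q) := by
    unfold Cfsg.PSU
    infer_instance
  have hK0 : 0 < K := by
    rw [← ho]
    exact orderOf_pos _
  have hm0 : m ≠ 0 := by
    rintro rfl
    rw [mul_zero] at hm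
    omega
  refine ⟨(QuotientGroup.mk (mkSU M hM hdet) : Cfsg.PSU 3 F q) ^ m, ?_⟩
  rw [orderOf_pow_of_dvd hm0 (by rw [ho, hm]; exact dvd_mul_left _ _), ho, hm,
    Nat.mul_div_cancel _ (Nat.pos_of_ne_zero hm0)]

end asm

/-- The set of element orders of PSU(3, q) for an odd prime power q = p^n: writing d = gcd(3, q + 1), a positive integer is the order of some element exactly when it divides one of q + 1, p(q + 1)/d, (q² − 1)/d, (q² − q + 1)/d. -/
theorem result {F : Type*} [Field F] [Fintype F] (p : ℕ) [Fact p.Prime] [CharP F p] (hp : p ≠ 2) (q : ℕ) (hF : Fintype.card F = q ^ 2) :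
    Set.range (orderOf : Cfsg.PSU 3 F q → ℕ) =
      {s : ℕ | s ∣ q + 1} ∪ {s : ℕ | s ∣ p * (q + 1) / Nat.gcd 3 (q + 1)} ∪
        {s : ℕ | s ∣ (q ^ 2 - 1) / Nat.gcd 3 (q + 1)} ∪ {s : ℕ | s ∣ (q ^ 2 - q + 1) / Nat.gcd 3 (q + 1)} := by
  classical
  obtain ⟨p', j, hp', hchar, hq⟩ := herm_exists_char hF
  obtain rfl : p' = p := CharP.eq F hchar ‹CharP F p›
  apply Set.eq_of_subset_of_subset
  · rintro s ⟨x, rfl⟩
    obtain ⟨g, rfl⟩ := QuotientGroup.mk_surjective x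
    rcases SU3SpecT1.pow_scalar hp j hq hF (mat g) (mat_isUni g) g.1.2 with h | h | h | h
    · left; left; left
      exact orderOf_dvd_of_pow_eq_one ((mk_pow_eq_one_iff hF g _).mpr h)
    · left; left; right
      exact orderOf_dvd_of_pow_eq_one ((mk_pow_eq_one_iff hF g _).mpr h)
    · left; right
      exact orderOf_dvd_of_pow_eq_one ((mk_pow_eq_one_iff hF g _).mpr h)
    · right
      exact orderOf_dvd_of_pow_eq_one ((mk_pow_eq_one_iff hF g _).mpr h)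
  · rintro s (((hs | hs) | hs) | hs)
    · exact mem_range_of_dvd hF _ (SU3SpecD.exists_E1 hF) s hs
    · exact mem_range_of_dvd hF _ (SU3SpecD.exists_E2 j hq hF) s hs
    · exact mem_range_of_dvd hF _ (SU3SpecD.exists_E3 hF) s hs
    · exact mem_range_of_dvd hF _ (SU3SpecE.exists_E4 j hq hF) s hs

end Cfsg.Agent.S2366
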