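import Cfsg.Statements.S2367
-- import your own Cfsg.Agent.* helpers here
import Mathlib

set_option autoImplicit false
open Cfsg

namespace Cfsg.Agent.S2367

/-- Prime divisors of a product of prime powers. -/
theorem prime_dvd_prod_pow {L : List (ℕ × ℕ)} (hL : ∀ qe ∈ L, Nat.Prime qe.1) {p : ℕ} (hp : p.Prime)
    (h : p ∣ (L.map (fun qe => qe.1 ^ qe.2)).prod) : ∃ qe ∈ L, qe.1 = p := by
  induction L with
  | nil =>
    simp only [List.map_nil, List.prod_nil, Nat.dvd_one] at h
    exact absurd h hp.one_lt.ne'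
  | cons x t ih =>
    rw [List.map_cons, List.prod_cons] at h
    rcases (Nat.Prime.dvd_mul hp).mp h with h1 | h1
    · have h2 := hp.dvd_of_dvd_pow h1
      have h3 := (Nat.prime_dvd_prime_iff_eq hp (hL x List.mem_cons_self)).mp h2
      exact ⟨x, List.mem_cons_self, h3.symm⟩
    · obtain ⟨qe, hqe, hq⟩ := ih (fun qe hqe => hL qe (List.mem_cons_of_mem _ hqe)) h1
      exact ⟨qe, List.mem_cons_of_mem _ hqe, hq⟩

theorem sporadic_aux (N a : ℕ) (L : List (ℕ × ℕ)) (hN : N = (L.map (fun qe => qe.1 ^ qe.2)).prod)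
    (hL : ∀ qe ∈ L, Nat.Prime qe.1) (h2 : 2 ^ a ∣ N)
    (hchk : ∀ qe ∈ L, qe.1 ≠ 2 → qe.1 ^ 3 ∣ N → ¬ qe.1 ^ 4 ∣ N → qe.1 ^ 3 < 2 ^ a)
    (p : ℕ) (hp : p.Prime) (hodd : p ≠ 2) (h3 : N.factorization p = 3) :
    p ^ 3 < 2 ^ N.factorization 2 := by
  have hN0 : N ≠ 0 := by
    rintro rfl
    simp at h3
  have hd3 : p ^ 3 ∣ N := h3 ▸ Nat.ordProj_dvd N p
  have hd4 : ¬ p ^ 4 ∣ N := by
    have := Nat.pow_succ_factorization_not_dvd hN0 hp
    rwa [h3] at this
  have hpN : p ∣ N := (dvd_pow_self p (by norm_num)).trans hd3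
  obtain ⟨qe, hqe, rfl⟩ := prime_dvd_prod_pow hL hp (hN ▸ hpN)
  have h4 := hchk qe hqe hodd hd3 hd4
  have h5 : a ≤ N.factorization 2 := (Nat.prime_two.pow_dvd_iff_le_factorization hN0).mp h2
  exact lt_of_lt_of_le h4 (Nat.pow_le_pow_right (by norm_num) h5)

theorem pow_three_lt_two_pow (p : ℕ) (hp : 5 ≤ p) : p ^ 3 < 2 ^ (2 * p - 1) := by
  induction p, hp using Nat.le_induction with
  | base => norm_num
  | succ k hk ih =>
    have h1 : 2 * (k + 1) - 1 = (2 * k - 1) + 2 := by omega
    rw [h1, pow_add]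
    nlinarith [ih, sq_nonneg (k - 3 : ℤ), pow_pos (show 0 < 2 by norm_num) (2 * k - 1)]

theorem alternating_case (n : ℕ) (hn : 5 ≤ n) (N : ℕ) (hN : 2 * N = n.factorial)
    (p : ℕ) (hp : p.Prime) (hodd : p ≠ 2) (h3 : N.factorization p = 3) :
    p ^ 3 < 2 ^ N.factorization 2 := by
  haveI : Fact p.Prime := ⟨hp⟩
  haveI : Fact (Nat.Prime 2) := ⟨Nat.prime_two⟩
  have hN0 : N ≠ 0 := by
    rintro rfl
    simp at h3
  have hfp : (n.factorial).factorization p = 3 := by
    rw [← hN, Nat.factorization_mul two_ne_zero hN0, Finsupp.add_apply, Nat.prime_two.factorization,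
      Finsupp.single_apply, if_neg (Ne.symm hodd), zero_add, h3]
  have hf2 : (n.factorial).factorization 2 = 1 + N.factorization 2 := by
    rw [← hN, Nat.factorization_mul two_ne_zero hN0, Finsupp.add_apply, Nat.prime_two.factorization,
      Finsupp.single_apply, if_pos rfl]
  rw [Nat.factorization_def _ hp] at hfp
  rw [Nat.factorization_def _ Nat.prime_two] at hf2
  have hp3 : 3 ≤ p := by
    have := hp.two_le
    omega
  -- Step A: 3 p ≤ n
  have hA : 3 * p ≤ n := by
    by_contra hlt
    rw [not_le] at hlt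
    have hnp2 : n < p ^ 2 := by nlinarith
    have hlog : Nat.log p n < 2 := Nat.log_lt_of_lt_pow (by omega) hnp2
    rw [padicValNat_factorial hlog] at hfp
    have : Finset.Ico 1 2 = {1} := by decide
    rw [this, Finset.sum_singleton, pow_one] at hfp
    have h4 : n / p < 3 := (Nat.div_lt_iff_lt_mul hp.pos).mpr hlt
    omega
  -- Step B: p ≠ 3
  have hB : p ≠ 3 := by
    rintro rfl
    have h9 : (9 : ℕ).factorial ∣ n.factorial := Nat.factorial_dvd_factorial (by omega)
    have h81 : 3 ^ 4 ∣ (9 : ℕ).factorial := by decide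
    have h5 : 3 ^ 4 ∣ n.factorial := h81.trans h9
    have h6 := (Nat.prime_three.pow_dvd_iff_le_factorization (Nat.factorial_ne_zero n)).mp h5
    rw [Nat.factorization_def _ Nat.prime_three] at h6
    omega
  have hp5 : 5 ≤ p := by
    rcases Nat.lt_or_ge p 5 with h | h
    · interval_cases p
      · exact absurd rfl hB
      · exact absurd hp (by decide)
    · exact h
  -- Step C: the 2-part
  have hlog2 : Nat.log 2 n < n + 3 := by
    have := Nat.log_le_self 2 n
    omega
  rw [padicValNat_factorial hlog2] at hf2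
  have hsub : ({1, 2} : Finset ℕ) ⊆ Finset.Ico 1 (n + 3) := by
    intro x hx
    simp only [Finset.mem_insert, Finset.mem_singleton] at hx
    rw [Finset.mem_Ico]
    omega
  have hle := Finset.sum_le_sum_of_subset (f := fun i => n / 2 ^ i) hsub
  rw [Finset.sum_pair (by norm_num)] at hle
  norm_num at hle
  have h7 : 2 * p - 1 ≤ N.factorization 2 := by omega
  exact lt_of_lt_of_le (pow_three_lt_two_pow p hp5) (Nat.pow_le_pow_right (by norm_num) h7)

/-- Let G be an alternating group of degree at least 5 or a simple group with the order of one of the 26 sporadic groups, and let p be an odd prime such that p³ is the exact power of p dividing the order of G. Then p³ is less than the 2-part of the order of G. -/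
theorem result {G : Type*} [Group G] [Finite G] (hG : Cfsg.IsAlternating G ∨ Cfsg.IsSporadic G)
    (p : ℕ) (hp : p.Prime) (hodd : p ≠ 2) (h3 : (Nat.card G).factorization p = 3) :
    p ^ 3 < 2 ^ (Nat.card G).factorization 2 := by
  rcases hG with hA | hS
  · obtain ⟨n, hn, ⟨e⟩⟩ := hA
    have hcard : 2 * Nat.card G = n.factorial := by
      haveI : Nontrivial (Fin n) := Fin.nontrivial_iff_two_le.mpr (by omega)
      rw [Nat.card_congr e.toEquiv, Nat.card_eq_fintype_card, two_mul_card_alternatingGroup,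
        Fintype.card_perm, Fintype.card_fin]
    exact alternating_case n hn _ hcard p hp hodd h3
  · unfold Cfsg.IsSporadic at hS
    rcases hS with ⟨-, hc⟩ | ⟨-, hc⟩ | ⟨-, hc⟩ | ⟨-, hc⟩ | ⟨-, hc⟩ | ⟨-, hc⟩ | ⟨-, hc⟩ | ⟨-, hc⟩ | ⟨-, hc⟩ | ⟨-, hc⟩ | ⟨-, hc⟩ | ⟨-, hc⟩ | ⟨-, hc⟩ | ⟨-, hc⟩ | ⟨-, hc⟩ | ⟨-, hc⟩ | ⟨-, hc⟩ | ⟨-, hc⟩ | ⟨-, hc⟩ | ⟨-, hc⟩ | ⟨-, hc⟩ | ⟨-, hc⟩ | ⟨-, hc⟩ | ⟨-, hc⟩ | ⟨-, hc⟩ | ⟨-, hc⟩
    · rw [hc] at h3 ⊢
      exact sporadic_aux 7920 4 [(2, 4), (3, 2), (5, 1), (11, 1)]
        (by decide) (by decide) (by decide) (by decide) p hp hodd h3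
    · rw [hc] at h3 ⊢
      exact sporadic_aux 95040 6 [(2, 6), (3, 3), (5, 1), (11, 1)]
        (by decide) (by decide) (by decide) (by decide) p hp hodd h3
    · rw [hc] at h3 ⊢
      exact sporadic_aux 443520 7 [(2, 7), (3, 2), (5, 1), (7, 1), (11, 1)]
        (by decide) (by decide) (by decide) (by decide) p hp hodd h3
    · rw [hc] at h3 ⊢
      exact sporadic_aux 10200960 7 [(2, 7), (3, 2), (5, 1), (7, 1), (11, 1), (23, 1)]
        (by decide) (by decide) (by decide) (by decide) p hp hodd h3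
    · rw [hc] at h3 ⊢
      exact sporadic_aux 244823040 10 [(2, 10), (3, 3), (5, 1), (7, 1), (11, 1), (23, 1)]
        (by decide) (by decide) (by decide) (by decide) p hp hodd h3
    · rw [hc] at h3 ⊢
      exact sporadic_aux 175560 3 [(2, 3), (3, 1), (5, 1), (7, 1), (11, 1), (19, 1)]
        (by decide) (by decide) (by decide) (by decide) p hp hodd h3
    · rw [hc] at h3 ⊢
      exact sporadic_aux 604800 7 [(2, 7), (3, 3), (5, 2), (7, 1)]
        (by decide) (by decide) (by decide) (by decide) p hp hodd h3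
    · rw [hc] at h3 ⊢
      exact sporadic_aux 50232960 7 [(2, 7), (3, 5), (5, 1), (17, 1), (19, 1)]
        (by decide) (by decide) (by decide) (by decide) p hp hodd h3
    · rw [hc] at h3 ⊢
      exact sporadic_aux 86775571046077562880 21 [(2, 21), (3, 3), (5, 1), (7, 1), (11, 3), (23, 1), (29, 1), (31, 1), (37, 1), (43, 1)]
        (by decide) (by decide) (by decide) (by decide) p hp hodd h3
    · rw [hc] at h3 ⊢
      exact sporadic_aux 4157776806543360000 21 [(2, 21), (3, 9), (5, 4), (7, 2), (11, 1), (13, 1), (23, 1)]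
        (by decide) (by decide) (by decide) (by decide) p hp hodd h3
    · rw [hc] at h3 ⊢
      exact sporadic_aux 42305421312000 18 [(2, 18), (3, 6), (5, 3), (7, 1), (11, 1), (23, 1)]
        (by decide) (by decide) (by decide) (by decide) p hp hodd h3
    · rw [hc] at h3 ⊢
      exact sporadic_aux 495766656000 10 [(2, 10), (3, 7), (5, 3), (7, 1), (11, 1), (23, 1)]
        (by decide) (by decide) (by decide) (by decide) p hp hodd h3
    · rw [hc] at h3 ⊢
      exact sporadic_aux 64561751654400 17 [(2, 17), (3, 9), (5, 2), (7, 1), (11, 1), (13, 1)]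
        (by decide) (by decide) (by decide) (by decide) p hp hodd h3
    · rw [hc] at h3 ⊢
      exact sporadic_aux 4089470473293004800 18 [(2, 18), (3, 13), (5, 2), (7, 1), (11, 1), (13, 1), (17, 1), (23, 1)]
        (by decide) (by decide) (by decide) (by decide) p hp hodd h3
    · rw [hc] at h3 ⊢
      exact sporadic_aux 1255205709190661721292800 21 [(2, 21), (3, 16), (5, 2), (7, 3), (11, 1), (13, 1), (17, 1), (23, 1), (29, 1)]
        (by decide) (by decide) (by decide) (by decide) p hp hodd h3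
    · rw [hc] at h3 ⊢
      exact sporadic_aux 44352000 9 [(2, 9), (3, 2), (5, 3), (7, 1), (11, 1)]
        (by decide) (by decide) (by decide) (by decide) p hp hodd h3
    · rw [hc] at h3 ⊢
      exact sporadic_aux 898128000 7 [(2, 7), (3, 6), (5, 3), (7, 1), (11, 1)]
        (by decide) (by decide) (by decide) (by decide) p hp hodd h3
    · rw [hc] at h3 ⊢
      exact sporadic_aux 4030387200 10 [(2, 10), (3, 3), (5, 2), (7, 3), (17, 1)]
        (by decide) (by decide) (by decide) (by decide) p hp hodd h3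
    · rw [hc] at h3 ⊢
      exact sporadic_aux 145926144000 14 [(2, 14), (3, 3), (5, 3), (7, 1), (13, 1), (29, 1)]
        (by decide) (by decide) (by decide) (by decide) p hp hodd h3
    · rw [hc] at h3 ⊢
      exact sporadic_aux 448345497600 13 [(2, 13), (3, 7), (5, 2), (7, 1), (11, 1), (13, 1)]
        (by decide) (by decide) (by decide) (by decide) p hp hodd h3
    · rw [hc] at h3 ⊢
      exact sporadic_aux 460815505920 9 [(2, 9), (3, 4), (5, 1), (7, 3), (11, 1), (19, 1), (31, 1)]
        (by decide) (by decide) (by decide) (by decide) p hp hodd h3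
    · rw [hc] at h3 ⊢
      exact sporadic_aux 273030912000000 14 [(2, 14), (3, 6), (5, 6), (7, 1), (11, 1), (19, 1)]
        (by decide) (by decide) (by decide) (by decide) p hp hodd h3
    · rw [hc] at h3 ⊢
      exact sporadic_aux 51765179004000000 8 [(2, 8), (3, 7), (5, 6), (7, 1), (11, 1), (31, 1), (37, 1), (67, 1)]
        (by decide) (by decide) (by decide) (by decide) p hp hodd h3
    · rw [hc] at h3 ⊢
      exact sporadic_aux 90745943887872000 15 [(2, 15), (3, 10), (5, 3), (7, 2), (13, 1), (19, 1), (31, 1)]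
        (by decide) (by decide) (by decide) (by decide) p hp hodd h3
    · rw [hc] at h3 ⊢
      exact sporadic_aux 4154781481226426191177580544000000 41 [(2, 41), (3, 13), (5, 6), (7, 2), (11, 1), (13, 1), (17, 1), (19, 1), (23, 1), (31, 1), (47, 1)]
        (by decide) (by decide) (by decide) (by decide) p hp hodd h3
    · rw [hc] at h3 ⊢
      exact sporadic_aux 808017424794512875886459904961710757005754368000000000 46 [(2, 46), (3, 20), (5, 9), (7, 6), (11, 2), (13, 3), (17, 1), (19, 1), (23, 1), (29, 1), (31, 1), (41, 1), (47, 1), (59, 1), (71, 1)]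
        (by decide) (by decide) (by decide) (by decide) p hp hodd h3

end Cfsg.Agent.S2367
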