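import Cfsg.Statements.S2368
-- import your own Cfsg.Agent.* helpers here
import Mathlib

set_option autoImplicit false
open Cfsg

namespace Cfsg.Agent.S2368

open Polynomial in
/-- A nilpotent square matrix over a field has vanishing `card`-th power. -/
theorem nilpotent_pow_card {F : Type*} [Field F] {n : Type*} [Fintype n] [DecidableEq n]
    (M : Matrix n n F) (h : IsNilpotent M) : M ^ Fintype.card n = 0 := by
  have h1 := Matrix.isNilpotent_charpoly_sub_pow_of_isNilpotent h
  have h2 : M.charpoly = X ^ Fintype.card n := sub_eq_zero.mp h1.eq_zero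
  have h3 := Matrix.aeval_self_charpoly M
  rw [h2] at h3
  simpa using h3

/-- The nilpotent shift matrix with ones on the superdiagonal. -/
def shift (F : Type*) [Field F] (m : ℕ) : Matrix (Fin m) (Fin m) F :=
  Matrix.of fun i j => if j.val = i.val + 1 then 1 else 0

theorem shift_pow (F : Type*) [Field F] (m k : ℕ) (i j : Fin m) :
    ((shift F m) ^ k) i j = if j.val = i.val + k then 1 else 0 := by
  induction k generalizing i j with
  | zero =>
    simp only [pow_zero, Matrix.one_apply, add_zero, Fin.ext_iff]
    by_cases h : i.val = j.val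
    · simp [h]
    · have h' : ¬ j.val = i.val := fun h'' => h h''.symm
      simp [h, h']
  | succ k ih =>
    rw [pow_succ, Matrix.mul_apply]
    by_cases h : j.val = i.val + (k + 1)
    · rw [if_pos h]
      have hlt : i.val + k < m := by
        have := j.isLt
        omega
      rw [Finset.sum_eq_single (⟨i.val + k, hlt⟩ : Fin m)]
      · rw [ih]
        simp only [shift, Matrix.of_apply]
        have h5 : j.val = i.val + k + 1 := by omega
        simp [h5]
      · intro l _ hl
        rw [ih]
        have : ¬ l.val = i.val + k := fun h' => hl (Fin.ext h')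
        rw [if_neg this]
        simp
      · intro habs
        exact absurd (Finset.mem_univ _) habs
    · rw [if_neg h]
      apply Finset.sum_eq_zero
      intro l _
      rw [ih]
      simp only [shift, Matrix.of_apply]
      by_cases h1 : l.val = i.val + k
      · have h2 : ¬ j.val = l.val + 1 := by omega
        rw [if_neg h2]
        simp
      · rw [if_neg h1]
        simp

/-- Let F be a finite field of characteristic p and m ≥ 1. Every element of GL(m, F) of p-power order has order less than p·m, and GL(m, F) has an element of p-power order at least m; so the largest order of a p-element of GL(m, F) is the least power of p that is at least m. -/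
theorem result {F : Type*} [Field F] [Fintype F] (p : ℕ) [Fact p.Prime] [CharP F p] (m : ℕ) (hm : 1 ≤ m) :
    (∀ g : Matrix.GeneralLinearGroup (Fin m) F, (∃ j : ℕ, orderOf g = p ^ j) → orderOf g < p * m) ∧
      ∃ g : Matrix.GeneralLinearGroup (Fin m) F, (∃ j : ℕ, orderOf g = p ^ j) ∧ m ≤ orderOf g := by
  classical
  have hp : p.Prime := Fact.out
  obtain ⟨m', rfl⟩ : ∃ m', m = m' + 1 := ⟨m - 1, by omega⟩
  constructor
  · rintro g ⟨j, hj⟩
    rcases j with _ | j'
    · rw [hj, pow_zero]
      have := hp.two_le
      nlinarith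
    · by_contra hcon
      rw [not_lt, hj, pow_succ'] at hcon
      have hle : m' + 1 ≤ p ^ j' := Nat.le_of_mul_le_mul_left hcon hp.pos
      -- the matrix of `g`
      have hA : (g : Matrix (Fin (m' + 1)) (Fin (m' + 1)) F) ^ (p ^ (j' + 1)) = 1 := by
        rw [← Units.val_pow_eq_pow_val, ← hj, pow_orderOf_eq_one]
        rfl
      have hN : ((g : Matrix (Fin (m' + 1)) (Fin (m' + 1)) F) - 1) ^ (p ^ (j' + 1)) = 0 := by
        rw [sub_pow_char_pow_of_commute p (j' + 1) (Commute.one_right _), hA, one_pow, sub_self]
      have hN2 : ((g : Matrix (Fin (m' + 1)) (Fin (m' + 1)) F) - 1) ^ (m' + 1) = 0 := by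
        have := nilpotent_pow_card _ ⟨_, hN⟩
        simpa using this
      have hN3 : ((g : Matrix (Fin (m' + 1)) (Fin (m' + 1)) F) - 1) ^ (p ^ j') = 0 :=
        pow_eq_zero_of_le hle hN2
      have hA2 : (g : Matrix (Fin (m' + 1)) (Fin (m' + 1)) F) ^ (p ^ j') = 1 := by
        have h1 : (g : Matrix (Fin (m' + 1)) (Fin (m' + 1)) F) =
            ((g : Matrix (Fin (m' + 1)) (Fin (m' + 1)) F) - 1) + 1 := by abel
        rw [h1, add_pow_char_pow_of_commute p j' (Commute.one_right _), hN3, one_pow, zero_add]
      have hg : g ^ (p ^ j') = 1 := by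
        apply Units.ext
        rw [Units.val_pow_eq_pow_val, hA2]
        rfl
      have hdvd : orderOf g ∣ p ^ j' := orderOf_dvd_of_pow_eq_one hg
      rw [hj] at hdvd
      have := Nat.le_of_dvd (pow_pos hp.pos _) hdvd
      have h2 : p ^ j' < p ^ (j' + 1) := Nat.pow_lt_pow_right hp.one_lt (Nat.lt_succ_self _)
      omega
  · -- the regular unipotent element
    have hNm : (shift F (m' + 1)) ^ (p ^ (m' + 1)) = 0 := by
      ext i j
      rw [shift_pow]
      have h1 : m' + 1 < p ^ (m' + 1) := Nat.lt_pow_self hp.one_lt
      have := j.isLt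
      rw [if_neg (by omega)]
      rfl
    have hJ : (1 + shift F (m' + 1)) ^ (p ^ (m' + 1)) = 1 := by
      rw [add_pow_char_pow_of_commute p (m' + 1) (Commute.one_left _), hNm, one_pow, add_zero]
    let g : Matrix.GeneralLinearGroup (Fin (m' + 1)) F :=
      Units.ofPowEqOne (1 + shift F (m' + 1)) (p ^ (m' + 1)) hJ (pow_pos hp.pos _).ne'
    have hgval : (g : Matrix (Fin (m' + 1)) (Fin (m' + 1)) F) = 1 + shift F (m' + 1) := rfl
    have hgpow : g ^ (p ^ (m' + 1)) = 1 := Units.pow_ofPowEqOne hJ _
    obtain ⟨j, -, hj⟩ := (Nat.dvd_prime_pow hp).mp (orderOf_dvd_of_pow_eq_one hgpow)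
    refine ⟨g, ⟨j, hj⟩, ?_⟩
    by_contra hlt
    rw [not_le, hj] at hlt
    have h1 : g ^ (p ^ j) = 1 := by rw [← hj]; exact pow_orderOf_eq_one g
    have h2 : (1 + shift F (m' + 1)) ^ (p ^ j) = 1 := by
      rw [← hgval, ← Units.val_pow_eq_pow_val, h1]
      rfl
    rw [add_pow_char_pow_of_commute p j (Commute.one_left _), one_pow] at h2
    have h3 : (shift F (m' + 1)) ^ (p ^ j) = 0 := by
      have := congrArg (fun x => x - 1) h2
      simpa using this
    have h4 := congrFun (congrFun h3 0) ⟨p ^ j, hlt⟩
    rw [shift_pow] at h4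
    simp at h4

end Cfsg.Agent.S2368
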