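import Cfsg.Statements.S2370
import Cfsg.Agent.Lib.Helper11.F4Exp

set_option autoImplicit false
open Cfsg

namespace Cfsg.Agent.S2370

/-- Let q = 2^(2m+1) with m ≥ 1. Every element of 2-power order of the large Ree group ²F₄(q) has order at most 32. -/
theorem result {K : Type*} [Field K] [Fintype K] (m : ℕ) (hm : 1 ≤ m) (hK : Fintype.card K = 2 ^ (2 * m + 1))
    (x : ↥(Cfsg.Lie.twistedF4 K (2 ^ m))) (hx : ∃ j : ℕ, orderOf x = 2 ^ j) : orderOf x ≤ 32 := by
  classical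
  have hchar : CharP K 2 := by
    obtain ⟨p, hp⟩ := CharP.exists K
    have := hp
    obtain ⟨n, hpp, hn⟩ := FiniteField.card K p
    have h1 : p ∣ 2 ^ (2 * m + 1) := by
      rw [← hK, hn]
      exact dvd_pow_self p n.ne_zero
    have h2 : p = 2 := (Nat.prime_dvd_prime_iff_eq hpp Nat.prime_two).mp (hpp.dvd_of_dvd_pow h1)
    rw [← h2]
    exact hp
  obtain ⟨j, hj⟩ := hx
  have hxG : (x : GL Cfsg.Lie.chevF4.Idx K) ∈ Cfsg.Lie.chevF4.group K :=
    Cfsg.Agent.Lib.Helper11.F4E.twistedF4_le_group K (2 ^ m) x.2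
  have hord : orderOf (x : GL Cfsg.Lie.chevF4.Idx K) = orderOf x := Subgroup.orderOf_coe x
  have h1 := Cfsg.Agent.Lib.Helper11.F4E.orderOf_dvd_16 (x : GL Cfsg.Lie.chevF4.Idx K) hxG j
    (by rw [hord, hj])
  rw [hord] at h1
  have := Nat.le_of_dvd (by norm_num) h1
  omega

end Cfsg.Agent.S2370
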