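import Cfsg.Statements.S2384
-- import your own Cfsg.Agent.* helpers here
import Cfsg.Agent.Lib.Helper15.SemisimpleCount
import Cfsg.Agent.S2388

set_option autoImplicit false
open Cfsg

namespace Cfsg.Agent.S2384

open Polynomial Module Cfsg.Agent.Lib.Helper15.SemisimpleCount

universe u

variable {F : Type u} [Field F] [Fintype F]

theorem main {q : ℕ} (hq : Fintype.card F = q) (p : ℕ) [Fact p.Prime] [CharP F p] (n : ℕ)
    (hn : 1 ≤ n) :
    Nat.card {c : ConjClasses (Matrix.SpecialLinearGroup (Fin n) F) //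
      ∃ g : Matrix.SpecialLinearGroup (Fin n) F, ConjClasses.mk g = c ∧ (orderOf g).Coprime p} =
      q ^ (n - 1) := by
  classical
  set i₀ : Fin n := ⟨0, hn⟩ with hi₀
  rw [← hq, ← card_eq n i₀ ((-1 : F) ^ n)]
  let S := {c : ConjClasses (Matrix.SpecialLinearGroup (Fin n) F) //
      ∃ g : Matrix.SpecialLinearGroup (Fin n) F, ConjClasses.mk g = c ∧ (orderOf g).Coprime p}
  let rep : S → Matrix.SpecialLinearGroup (Fin n) F := fun c => Classical.choose c.2
  have hrep : ∀ c : S, ConjClasses.mk (rep c) = c.1 ∧ (orderOf (rep c)).Coprime p :=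
    fun c => Classical.choose_spec c.2
  have hsq : ((-1 : F) ^ n) * ((-1 : F) ^ n) = 1 := by
    rw [← mul_pow]; simp
  have hcoeff0 : ∀ A : Matrix (Fin n) (Fin n) F, A.det = 1 ↔ A.charpoly.coeff 0 = (-1 : F) ^ n := by
    intro A
    have h1 := Matrix.det_eq_sign_charpoly_coeff A
    rw [Fintype.card_fin] at h1
    constructor
    · intro h
      rw [h] at h1
      calc A.charpoly.coeff 0 = ((-1 : F) ^ n * (-1 : F) ^ n) * A.charpoly.coeff 0 := by
            rw [hsq, one_mul]
        _ = (-1 : F) ^ n * ((-1 : F) ^ n * A.charpoly.coeff 0) := by ring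
        _ = (-1 : F) ^ n := by rw [← h1, mul_one]
    · intro h
      rw [h1, h, hsq]
  let Φ : S → {v : Fin n → F // v i₀ = (-1 : F) ^ n} := fun c =>
    ⟨fun i => (rep c : Matrix (Fin n) (Fin n) F).charpoly.coeff i, (hcoeff0 _).1 (rep c).2⟩
  have hmon : ∀ A : Matrix (Fin n) (Fin n) F, A.charpoly.Monic :=
    fun A => Matrix.charpoly_monic _
  have hdeg : ∀ A : Matrix (Fin n) (Fin n) F, A.charpoly.natDegree = n := by
    intro A
    rw [Matrix.charpoly_natDegree_eq_dim, Fintype.card_fin]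
  apply Nat.card_congr
  refine Equiv.ofBijective Φ ⟨?_, ?_⟩
  · intro c₁ c₂ h
    have h1 : (rep c₁ : Matrix (Fin n) (Fin n) F).charpoly =
        (rep c₂ : Matrix (Fin n) (Fin n) F).charpoly := by
      apply eq_of_coeff n _ _ (hmon _) (hmon _) (hdeg _) (hdeg _)
      intro i
      exact congrFun (congrArg Subtype.val h) i
    have h2 : IsConj (rep c₁) (rep c₂) :=
      Cfsg.Agent.S2388.main p n _ _ (hrep c₁).2 (hrep c₂).2 h1
    apply Subtype.ext
    rw [← (hrep c₁).1, ← (hrep c₂).1]
    exact ConjClasses.mk_eq_mk_iff_isConj.2 h2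
  · rintro ⟨v, hv⟩
    obtain ⟨P, hPmon, hPdeg, hPc⟩ := exists_poly n v
    have hP0' : P.coeff 0 = (-1 : F) ^ n := by
      have := hPc i₀
      rw [hi₀] at this
      simp only at this
      rw [this]; exact hv
    have hP0 : P.coeff 0 ≠ 0 := by
      rw [hP0']
      exact pow_ne_zero _ (neg_ne_zero.2 one_ne_zero)
    obtain ⟨M, hM, N, hN, hMN⟩ := exists_matrix_of_charpoly n P hPmon hPdeg hP0
    have hNp : N.Coprime p := by
      apply Nat.Coprime.symm
      rw [Nat.Prime.coprime_iff_not_dvd (Fact.out : p.Prime)]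
      intro hd
      exact hN ((CharP.cast_eq_zero_iff F p N).2 hd)
    have hMdet : M.det = 1 := (hcoeff0 M).2 (by rw [hM, hP0'])
    obtain ⟨g, hg⟩ : ∃ g : Matrix.SpecialLinearGroup (Fin n) F,
        (g : Matrix (Fin n) (Fin n) F) = M := ⟨⟨M, hMdet⟩, rfl⟩
    have hgN : g ^ N = 1 := by
      apply Subtype.ext
      rw [Matrix.SpecialLinearGroup.coe_pow, hg, hMN]
      rfl
    have hgo : (orderOf g).Coprime p :=
      Nat.Coprime.coprime_dvd_left (orderOf_dvd_of_pow_eq_one hgN) hNp
    let c : S := ⟨ConjClasses.mk g, g, rfl, hgo⟩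
    refine ⟨c, ?_⟩
    apply Subtype.ext
    funext i
    show (rep c : Matrix (Fin n) (Fin n) F).charpoly.coeff i = v i
    have h3 : IsConj (rep c) g := ConjClasses.mk_eq_mk_iff_isConj.1 (hrep c).1
    obtain ⟨u, hu⟩ := isConj_iff.1 h3
    have h4 : (rep c : Matrix (Fin n) (Fin n) F).charpoly = M.charpoly := by
      have h5 : (u : Matrix (Fin n) (Fin n) F) * (rep c : Matrix (Fin n) (Fin n) F) =
          M * (u : Matrix (Fin n) (Fin n) F) := by
        rw [← hg, ← Matrix.SpecialLinearGroup.coe_mul, ← Matrix.SpecialLinearGroup.coe_mul, ← hu]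
        rw [inv_mul_cancel_right]
      have hudet : IsUnit (u : Matrix (Fin n) (Fin n) F).det := by
        rw [u.2]; exact isUnit_one
      obtain ⟨U, hU⟩ := (Matrix.isUnit_iff_isUnit_det _).2 hudet
      have h6 : M = U.val * (rep c : Matrix (Fin n) (Fin n) F) * U.val⁻¹ := by
        rw [hU, h5, mul_assoc, Matrix.mul_nonsing_inv _ hudet, mul_one]
      rw [h6, Matrix.charpoly_units_conj]
    rw [h4, hM, hPc]

/-- In `SL_n(q)`, `q` a power of the prime `p`, the number of conjugacy classes of elements of order prime to `p` (the semisimple classes) is `q^(n-1)`. -/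
theorem result {F : Type*} [Field F] [Fintype F] {q : ℕ} (hq : Fintype.card F = q) (p : ℕ) [Fact p.Prime] [CharP F p] (n : ℕ) (hn : 1 ≤ n) :
    Nat.card {c : ConjClasses (Matrix.SpecialLinearGroup (Fin n) F) //
      ∃ g : Matrix.SpecialLinearGroup (Fin n) F, ConjClasses.mk g = c ∧ (orderOf g).Coprime p} = q ^ (n - 1) := by
  exact main hq p n hn

end Cfsg.Agent.S2384
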