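import Cfsg.Statements.S2385
-- import your own Cfsg.Agent.* helpers here
import Cfsg.Agent.Lib.Helper15.StarPoly
import Cfsg.Agent.Lib.Helper15.SpReal
import Cfsg.Agent.Lib.Helper15.SemisimpleCount
import Cfsg.Agent.S0765
import Cfsg.Agent.S0752
import Cfsg.Agent.S2389
import Cfsg.Agent.S2589

set_option autoImplicit false
open Cfsg

namespace Cfsg.Agent.S2385

open Polynomial Cfsg.Agent.Lib.Helper15 Cfsg.Agent.Lib.Helper15.SemisimpleCount
  Cfsg.Agent.Lib.Helper15.SpReal
open scoped Matrix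

universe u

section det

variable {F : Type u} [Field F]

lemma det_sympTransvection (m : ℕ) (w : Fin m ⊕ Fin m → F) (c : F) :
    (Cfsg.sympTransvection m w c).det = 1 := by
  unfold Cfsg.sympTransvection
  rw [← Matrix.vecMulVec_smul, Matrix.vecMulVec_eq Unit,
    Matrix.det_one_add_replicateCol_mul_replicateRow, smul_dotProduct, dotProduct_comm]
  have := Cfsg.Agent.Lib.Helper15.sympForm_eq m w w
  unfold Cfsg.sympForm at this
  rw [this]
  have h0 : ∑ i, (w (Sum.inr i) * w (Sum.inl i) - w (Sum.inl i) * w (Sum.inr i)) = 0 := by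
    apply Finset.sum_eq_zero
    intro i _
    ring
  rw [h0, smul_zero, add_zero]

/-- symplectic matrices have determinant one (via generation by transvections) -/
theorem det_symplectic (m : ℕ) (A : Matrix.symplecticGroup (Fin m) F) :
    (A : Matrix (Fin m ⊕ Fin m) (Fin m ⊕ Fin m) F).det = 1 := by
  have hA : A ∈ Subgroup.closure {A : Matrix.symplecticGroup (Fin m) F |
      ∃ (w : Fin m ⊕ Fin m → F) (c : F),
        (A : Matrix (Fin m ⊕ Fin m) (Fin m ⊕ Fin m) F) = Cfsg.sympTransvection m w c} := by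
    rw [Cfsg.Agent.S0765.result m]
    exact Subgroup.mem_top A
  induction hA using Subgroup.closure_induction with
  | mem x hx =>
    obtain ⟨w, c, hwc⟩ := hx
    rw [hwc, det_sympTransvection]
  | one => exact Matrix.det_one
  | mul x y _ _ hx hy =>
    have : ((x * y : Matrix.symplecticGroup (Fin m) F) :
        Matrix (Fin m ⊕ Fin m) (Fin m ⊕ Fin m) F) =
        (x : Matrix (Fin m ⊕ Fin m) (Fin m ⊕ Fin m) F) * y := rfl
    rw [this, Matrix.det_mul, hx, hy, one_mul]
  | inv x _ hx =>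
    have h1 : ((x⁻¹ : Matrix.symplecticGroup (Fin m) F) :
        Matrix (Fin m ⊕ Fin m) (Fin m ⊕ Fin m) F) *
        (x : Matrix (Fin m ⊕ Fin m) (Fin m ⊕ Fin m) F) = 1 := by
      have := congrArg Subtype.val (inv_mul_cancel x)
      exact this
    have h2 := congrArg Matrix.det h1
    rw [Matrix.det_mul, hx, mul_one, Matrix.det_one] at h2
    exact h2

end det


section real

variable {F : Type u} [Field F]

/-- a nondegenerate alternating space has even dimension -/
lemma finrank_alt_even {W : Type*} [AddCommGroup W] [Module F W] [FiniteDimensional F W]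
    (β : LinearMap.BilinForm F W) (halt : β.IsAlt) (hnd : ∀ u, (∀ v, β u v = 0) → u = 0) :
    ∃ m : ℕ, Module.finrank F W = m + m := by
  classical
  obtain ⟨m, k, b, -, -, -, hrad⟩ := Cfsg.Agent.S0752.result β halt
  have hk : k = 0 := by
    by_contra hne
    have j : Fin k := ⟨0, Nat.pos_of_ne_zero hne⟩
    exact b.ne_zero (Sum.inr j) (hnd _ (hrad j))
  subst hk
  refine ⟨m, ?_⟩
  rw [Module.finrank_eq_card_basis b]
  simp only [Fintype.card_sum, Fintype.card_fin, add_zero]

lemma sympReal_facts {N : ℕ} {f : F[X]} (hf : SympReal N f) :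
    ∃ m : ℕ, f.natDegree = m + m ∧ f.coeff 0 = 1 := by
  obtain ⟨m, hm⟩ : ∃ m : ℕ, f.natDegree = m + m := by
    obtain ⟨W, _, _, _, T, β, halt, hnd, hinv, hpow, hcp⟩ := hf
    obtain ⟨m, hm⟩ := finrank_alt_even β halt hnd
    exact ⟨m, by rw [← hcp, LinearMap.charpoly_natDegree, hm]⟩
  refine ⟨m, hm, ?_⟩
  obtain ⟨B, hBmem, hBcp, -⟩ := exists_symplectic hf m hm
  have h1 := det_symplectic m ⟨B, hBmem⟩
  have h2 := Matrix.det_eq_sign_charpoly_coeff B
  rw [hBcp, Fintype.card_sum, Fintype.card_fin, ← two_mul, pow_mul] at h2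
  have h3 : ((-1 : F) ^ 2) ^ m = 1 := by norm_num
  rw [h3, one_mul] at h2
  rw [← h2]
  exact h1

lemma sympReal_of_dvd {N N' : ℕ} {f : F[X]} (hN : N ∣ N') (hf : SympReal N f) : SympReal N' f := by
  obtain ⟨W, i1, i2, i3, T, β, halt, hnd, hinv, hpow, hcp⟩ := hf
  refine ⟨W, i1, i2, i3, T, β, halt, hnd, hinv, ?_, hcp⟩
  obtain ⟨k, rfl⟩ := hN
  rw [pow_mul, hpow, one_pow]

/-- realisable by a semisimple isometry -/
def SympSS (f : F[X]) : Prop := ∃ N : ℕ, (N : F) ≠ 0 ∧ SympReal N f

lemma sympSS_one : SympSS (1 : F[X]) := ⟨1, by rw [Nat.cast_one]; exact one_ne_zero, sympReal_one 1⟩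

lemma SympSS.mul {f g : F[X]} (hf : SympSS f) (hg : SympSS g) : SympSS (f * g) := by
  obtain ⟨N₁, h1, hf⟩ := hf
  obtain ⟨N₂, h2, hg⟩ := hg
  refine ⟨N₁ * N₂, ?_, (sympReal_of_dvd (dvd_mul_right _ _) hf).mul
    (sympReal_of_dvd (dvd_mul_left _ _) hg)⟩
  rw [Nat.cast_mul]
  exact mul_ne_zero h1 h2

end real


section decomp

variable {F : Type u} [Field F] [Fintype F]

/-- an irreducible monic polynomial with nonzero constant term divides `X^N - 1` for some `N`
prime to the characteristic -/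
lemma exists_dvd_pow_sub_one (p : ℕ) [Fact p.Prime] [CharP F p] (h : F[X]) (hm : h.Monic) (hirr : Irreducible h)
    (h0 : h.coeff 0 ≠ 0) : ∃ N : ℕ, (N : F) ≠ 0 ∧ h ∣ X ^ N - 1 := by
  have : Fact (Irreducible h) := ⟨hirr⟩
  have : Module.Finite F (AdjoinRoot h) := (AdjoinRoot.powerBasis hirr.ne_zero).finite
  have : Finite (AdjoinRoot h) := Module.finite_of_finite F
  let _ : Fintype (AdjoinRoot h) := Fintype.ofFinite _
  have : CharP (AdjoinRoot h) p :=
    charP_of_injective_algebraMap (algebraMap F (AdjoinRoot h)).injective p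
  obtain ⟨ζ, hζ⟩ : ∃ ζ : AdjoinRoot h, ζ = AdjoinRoot.root h := ⟨_, rfl⟩
  have hζ0 : aeval ζ h = 0 := by
    rw [hζ, AdjoinRoot.aeval_eq, AdjoinRoot.mk_self]
  have hζne : ζ ≠ 0 := by
    intro hz
    apply h0
    rw [coeff_zero_eq_eval_zero]
    have h1 : aeval (algebraMap F (AdjoinRoot h) 0) h = 0 := by
      rw [map_zero]
      rw [hz] at hζ0
      exact hζ0
    rw [aeval_algebraMap_apply_eq_algebraMap_eval] at h1
    exact (map_eq_zero_iff _ (algebraMap F (AdjoinRoot h)).injective).1 h1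
  obtain ⟨k, -, hk⟩ := FiniteField.card (AdjoinRoot h) p
  refine ⟨Fintype.card (AdjoinRoot h) - 1, ?_, ?_⟩
  · intro hN
    have h1 : Fintype.card (AdjoinRoot h) - 1 + 1 = Fintype.card (AdjoinRoot h) :=
      Nat.sub_add_cancel Fintype.card_pos
    have h2 : ((Fintype.card (AdjoinRoot h) - 1 + 1 : ℕ) : F) = 0 := by
      rw [h1, hk, Nat.cast_pow, CharP.cast_eq_zero, zero_pow k.ne_zero]
    rw [Nat.cast_add, hN, zero_add, Nat.cast_one] at h2
    exact one_ne_zero h2
  · have h3 : aeval ζ (X ^ (Fintype.card (AdjoinRoot h) - 1) - 1 : F[X]) = 0 := by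
      rw [map_sub, map_pow, aeval_X, map_one, FiniteField.pow_card_sub_one_eq_one ζ hζne, sub_self]
    have h4 := minpoly.dvd F ζ h3
    rw [hζ, AdjoinRoot.minpoly_root hirr.ne_zero, hm.leadingCoeff, inv_one, C_1, mul_one] at h4
    exact h4

lemma sympSS_mul_star (h : F[X]) (hm : h.Monic) (h0 : h.coeff 0 ≠ 0) :
    SympSS (h * StarPoly.star (RingHom.id F) h) := by
  obtain ⟨M, hM, N, hN, hMN⟩ := exists_matrix_of_charpoly h.natDegree h hm rfl h0
  have hN0 : N ≠ 0 := by
    intro hz
    rw [hz, Nat.cast_zero] at hN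
    exact hN rfl
  obtain ⟨N', hN'⟩ : ∃ N', N = N' + 1 := ⟨N - 1, by omega⟩
  have h2 := sympReal_hyperbolic N h.natDegree M (M ^ N') (by rw [← pow_succ', ← hN', hMN]) hMN
  rw [hM] at h2
  exact ⟨N, hN, h2⟩

omit [Fintype F] in
lemma coeff_zero_ne_zero_of_star {f : F[X]} (hf : f ≠ 0)
    (hstar : StarPoly.star (RingHom.id F) f = f) : f.coeff 0 ≠ 0 := by
  intro hc
  have : StarPoly.star (RingHom.id F) f = 0 := by
    unfold StarPoly.star
    rw [Polynomial.map_id, hc, inv_zero, C_0, zero_mul]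
  rw [hstar] at this
  exact hf this

lemma sympSS_selfdual (p : ℕ) [Fact p.Prime] [CharP F p] (h : F[X]) (hm : h.Monic) (hirr : Irreducible h)
    (hstar : StarPoly.star (RingHom.id F) h = h) (hdeg : 2 ≤ h.natDegree) : SympSS h := by
  have h0 := coeff_zero_ne_zero_of_star hirr.ne_zero hstar
  obtain ⟨N, hN, hdvd⟩ := exists_dvd_pow_sub_one p h hm hirr h0
  refine ⟨N, hN, sympReal_selfdual p N h hm hirr hstar hdvd ?_⟩
  intro h2
  have h3 : (X ^ 2 - 1 : F[X]) = (X - C 1) * (X + C 1) := by rw [C_1]; ring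
  rw [h3] at h2
  rcases hirr.prime.dvd_or_dvd h2 with h4 | h4
  · have := natDegree_le_of_dvd h4 (X_sub_C_ne_zero 1)
    rw [natDegree_X_sub_C] at this
    omega
  · have := natDegree_le_of_dvd h4 (X_add_C_ne_zero 1)
    rw [natDegree_X_add_C] at this
    omega

/-- decomposition of a self-reciprocal monic polynomial -/
theorem decomp (p : ℕ) [Fact p.Prime] [CharP F p] : ∀ (d : ℕ) (f : F[X]), f.natDegree = d → f.Monic →
    StarPoly.star (RingHom.id F) f = f →
    ∃ (a b : ℕ) (f₀ : F[X]), a ≤ 1 ∧ b ≤ 1 ∧ f = (X - 1) ^ a * (X + 1) ^ b * f₀ ∧ SympSS f₀ := by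
  intro d
  induction d using Nat.strong_induction_on with
  | _ d ih =>
    intro f hd hfm hfs
    rcases Nat.eq_zero_or_pos d with hd0 | hdpos
    · refine ⟨0, 0, 1, by norm_num, by norm_num, ?_, sympSS_one⟩
      rw [pow_zero, pow_zero, one_mul, one_mul]
      exact Polynomial.eq_one_of_monic_natDegree_zero hfm (hd.trans hd0)
    have hf0 : f ≠ 0 := hfm.ne_zero
    have hfc0 : f.coeff 0 ≠ 0 := coeff_zero_ne_zero_of_star hf0 hfs
    have hnu : ¬ IsUnit f := by
      intro hu
      have := natDegree_eq_zero_of_isUnit hu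
      omega
    obtain ⟨h₀, hh₀irr, hh₀dvd⟩ := WfDvdMonoid.exists_irreducible_factor hnu hf0
    have hu : IsUnit (C (h₀.leadingCoeff)⁻¹) := by
      rw [isUnit_C]
      exact (inv_ne_zero (leadingCoeff_ne_zero.2 hh₀irr.ne_zero)).isUnit
    obtain ⟨h, hh⟩ : ∃ h : F[X], h = h₀ * C (h₀.leadingCoeff)⁻¹ := ⟨_, rfl⟩
    have hm : h.Monic := by rw [hh]; exact monic_mul_leadingCoeff_inv hh₀irr.ne_zero
    have hirr : Irreducible h := by rw [hh]; exact (irreducible_mul_isUnit hu).2 hh₀irr
    have hdvd : h ∣ f := by rw [hh]; exact (IsUnit.mul_right_dvd hu).2 hh₀dvd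
    have hd1 : 0 < h.natDegree := hirr.natDegree_pos
    have hσσ : ∀ c : F, (RingHom.id F) ((RingHom.id F) c) = c := fun c => rfl
    have hhc0 : h.coeff 0 ≠ 0 := by
      obtain ⟨g, hg⟩ := hdvd
      intro hz
      apply hfc0
      rw [hg, mul_coeff_zero, hz, zero_mul]
    by_cases hs : StarPoly.star (RingHom.id F) h = h
    · obtain ⟨f', hf'⟩ := hdvd
      have hf'm : f'.Monic := hm.of_mul_monic_left (hf' ▸ hfm)
      have hf's : StarPoly.star (RingHom.id F) f' = f' := by
        have h1 := hfs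
        rw [hf', StarPoly.star_mul, hs] at h1
        exact mul_left_cancel₀ hm.ne_zero h1
      have hdeg : f.natDegree = h.natDegree + f'.natDegree := by
        rw [hf', hm.natDegree_mul hf'm]
      obtain ⟨a, b, f₀', ha, hb, hfe, hss⟩ := ih f'.natDegree (by omega) f' rfl hf'm hf's
      by_cases hdeg2 : 2 ≤ h.natDegree
      · refine ⟨a, b, h * f₀', ha, hb, ?_, (sympSS_selfdual p h hm hirr hs hdeg2).mul hss⟩
        rw [hf', hfe]
        ring
      · have hdeg1 : h.natDegree = 1 := by omega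
        have hX := hm.eq_X_add_C hdeg1
        obtain ⟨c, hc⟩ : ∃ c : F, c = -h.coeff 0 := ⟨_, rfl⟩
        have hcne : c ≠ 0 := by rw [hc]; exact neg_ne_zero.2 hhc0
        have hXc : h = X - C c := by rw [hc, C_neg, sub_neg_eq_add]; exact hX
        have hroot : aeval c h = 0 := by
          rw [hXc, map_sub, aeval_X, aeval_C]
          exact sub_self c
        have hroot2 := StarPoly.star_root p 0 (RingHom.id F) (L := F)
          (fun x => by rw [pow_zero, pow_one]; rfl) h c hcne hroot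
        rw [pow_zero, pow_one, hs, hXc, map_sub, aeval_X, aeval_C] at hroot2
        have hcc : c * c = 1 := by
          have h1 : c⁻¹ = c := sub_eq_zero.1 hroot2
          nth_rewrite 1 [← h1]
          exact inv_mul_cancel₀ hcne
        rcases mul_self_eq_one_iff.1 hcc with h1 | h1
        · -- h = X - 1
          have hX1 : h = X - 1 := by rw [hXc, h1, C_1]
          have ha' : a = 0 ∨ a = 1 := by omega
          rcases ha' with rfl | rfl
          · refine ⟨1, b, f₀', le_refl 1, hb, ?_, hss⟩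
            rw [hf', hfe, hX1]
            ring
          · refine ⟨0, b, (h * StarPoly.star (RingHom.id F) h) * f₀', by norm_num, hb, ?_,
              (sympSS_mul_star h hm hhc0).mul hss⟩
            rw [hf', hfe, hs, hX1]
            ring
        · -- h = X + 1
          have hX1 : h = X + 1 := by rw [hXc, h1, C_neg, C_1, sub_neg_eq_add]
          have hb' : b = 0 ∨ b = 1 := by omega
          rcases hb' with rfl | rfl
          · refine ⟨a, 1, f₀', ha, le_refl 1, ?_, hss⟩
            rw [hf', hfe, hX1]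
            ring
          · refine ⟨a, 0, (h * StarPoly.star (RingHom.id F) h) * f₀', ha, by norm_num, ?_,
              (sympSS_mul_star h hm hhc0).mul hss⟩
            rw [hf', hfe, hs, hX1]
            ring
    · have hsm : (StarPoly.star (RingHom.id F) h).Monic := StarPoly.monic_star _ h hhc0
      have hsirr : Irreducible (StarPoly.star (RingHom.id F) h) :=
        StarPoly.irreducible_star _ hσσ h hm hhc0 hirr
      have hsdvd : StarPoly.star (RingHom.id F) h ∣ f := by
        have := map_dvd (StarPoly.starHom (RingHom.id F)) hdvd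
        have h2 : StarPoly.starHom (RingHom.id F) f = f := hfs
        rw [h2] at this
        exact this
      have hcop : IsCoprime h (StarPoly.star (RingHom.id F) h) := by
        rw [hirr.coprime_iff_not_dvd]
        intro h1
        apply hs
        exact (eq_of_monic_of_associated hm hsm (hirr.associated_of_dvd hsirr h1)).symm
      obtain ⟨f', hf'⟩ := hcop.mul_dvd hdvd hsdvd
      have hhsm : (h * StarPoly.star (RingHom.id F) h).Monic := hm.mul hsm
      have hf'm : f'.Monic := hhsm.of_mul_monic_left (hf' ▸ hfm)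
      have hf's : StarPoly.star (RingHom.id F) f' = f' := by
        have h1 := hfs
        rw [hf', StarPoly.star_mul, StarPoly.star_mul, StarPoly.star_star _ hσσ h hm hhc0,
          mul_comm (StarPoly.star (RingHom.id F) h) h] at h1
        exact mul_left_cancel₀ hhsm.ne_zero h1
      have hdeg : f.natDegree = (h * StarPoly.star (RingHom.id F) h).natDegree + f'.natDegree := by
        rw [hf', hhsm.natDegree_mul hf'm]
      have hdeg' : (h * StarPoly.star (RingHom.id F) h).natDegree =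
          h.natDegree + (StarPoly.star (RingHom.id F) h).natDegree := hm.natDegree_mul hsm
      obtain ⟨a, b, f₀', ha, hb, hfe, hss⟩ := ih f'.natDegree (by omega) f' rfl hf'm hf's
      refine ⟨a, b, (h * StarPoly.star (RingHom.id F) h) * f₀', ha, hb, ?_,
        (sympSS_mul_star h hm hhc0).mul hss⟩
      rw [hf', hfe]
      ring

/-- palindromic monic polynomials of even degree with constant term one are realisable -/
theorem sympSS_of_palindromic (p : ℕ) [Fact p.Prime] [CharP F p] (n : ℕ) (f : F[X]) (hm : f.Monic) (hdeg : f.natDegree = n + n)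
    (h0 : f.coeff 0 = 1) (hstar : StarPoly.star (RingHom.id F) f = f) : SympSS f := by
  obtain ⟨a, b, f₀, ha, hb, hfe, hss⟩ := decomp p _ f rfl hm hstar
  obtain ⟨N, hN, hreal⟩ := hss
  obtain ⟨m, hm₀, hc₀⟩ := sympReal_facts hreal
  have hX1 : (X - 1 : F[X]).Monic := by rw [← C_1]; exact monic_X_sub_C 1
  have hX2 : (X + 1 : F[X]).Monic := by rw [← C_1]; exact monic_X_add_C 1
  have hd1 : (X - 1 : F[X]).natDegree = 1 := by rw [← C_1]; exact natDegree_X_sub_C 1
  have hd2 : (X + 1 : F[X]).natDegree = 1 := by rw [← C_1]; exact natDegree_X_add_C 1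
  have hf₀m : f₀.Monic := by
    have h1 : ((X - 1 : F[X]) ^ a * (X + 1) ^ b).Monic := (hX1.pow a).mul (hX2.pow b)
    exact h1.of_mul_monic_left (hfe ▸ hm)
  have hdegf : f.natDegree = a + b + (m + m) := by
    rw [hfe, ((hX1.pow a).mul (hX2.pow b)).natDegree_mul hf₀m,
      (hX1.pow a).natDegree_mul (hX2.pow b), hX1.natDegree_pow, hX2.natDegree_pow, hd1, hd2, hm₀]
    ring
  have hab : (a = 0 ∧ b = 0) ∨ (a = 1 ∧ b = 1) := by omega
  rcases hab with ⟨rfl, rfl⟩ | ⟨rfl, rfl⟩
  · rw [pow_zero, pow_zero, one_mul, one_mul] at hfe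
    rw [hfe]
    exact ⟨N, hN, hreal⟩
  · rw [pow_one, pow_one] at hfe
    have h1 : f.coeff 0 = -1 := by
      rw [hfe, mul_coeff_zero, mul_coeff_zero, hc₀, coeff_sub, coeff_add, coeff_X_zero,
        coeff_one_zero]
      ring
    rw [h0] at h1
    have h2 : (X + 1 : F[X]) = X - 1 := by
      rw [sub_eq_add_neg]
      congr 1
      rw [← C_1, ← C_neg, ← h1]
    rw [hfe, h2]
    have h3 := sympSS_mul_star (X - 1 : F[X]) hX1 (by
      rw [coeff_sub, coeff_X_zero, coeff_one_zero, zero_sub]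
      exact neg_ne_zero.2 one_ne_zero)
    rw [StarPoly.star_X_sub_one] at h3
    exact h3.mul ⟨N, hN, hreal⟩

end decomp


section count

variable (F : Type u) [Field F]

/-- monic palindromic polynomials of degree `2n` with constant term one -/
def Pal (n : ℕ) : Type u :=
  {f : F[X] // f.Monic ∧ f.natDegree = n + n ∧ f.coeff 0 = 1 ∧
    StarPoly.star (RingHom.id F) f = f}

variable {F}

lemma pal_symm {n : ℕ} (f : Pal F n) (j : ℕ) (hj : j ≤ n + n) :
    f.1.coeff (n + n - j) = f.1.coeff j := by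
  have h1 := StarPoly.coeff_star (RingHom.id F) f.1 j (by rw [f.2.2.1]; exact hj)
  rw [f.2.2.2.2, f.2.2.2.1, f.2.2.1] at h1
  rw [h1]
  simp

def palCoeff (n : ℕ) (c : ℕ → F) (j : ℕ) : F :=
  if j = 0 ∨ j = n + n then 1 else if j ≤ n then c (j - 1) else
    if j < n + n then c (n + n - j - 1) else 0

lemma palCoeff_symm (n : ℕ) (c : ℕ → F) (j : ℕ) (hj : j ≤ n + n) :
    palCoeff n c (n + n - j) = palCoeff n c j := by
  unfold palCoeff
  split_ifs <;> first | rfl | (exfalso; omega) | (congr 1; omega)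

noncomputable def palPoly (n : ℕ) (c : ℕ → F) : F[X] :=
  ∑ j ∈ Finset.range (n + n + 1), monomial j (palCoeff n c j)

lemma coeff_palPoly (n : ℕ) (c : ℕ → F) (j : ℕ) : (palPoly n c).coeff j = palCoeff n c j := by
  unfold palPoly
  rw [finsetSum_coeff]
  simp only [coeff_monomial]
  rw [Finset.sum_ite_eq']
  by_cases hj : j ∈ Finset.range (n + n + 1)
  · rw [if_pos hj]
  · rw [if_neg hj]
    rw [Finset.mem_range] at hj
    unfold palCoeff
    rw [if_neg (by omega), if_neg (by omega), if_neg (by omega)]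

lemma palPoly_mem (n : ℕ) (c : ℕ → F) :
    (palPoly n c).Monic ∧ (palPoly n c).natDegree = n + n ∧ (palPoly n c).coeff 0 = 1 ∧
      StarPoly.star (RingHom.id F) (palPoly n c) = palPoly n c := by
  have hlead : (palPoly n c).coeff (n + n) = 1 := by
    rw [coeff_palPoly]
    unfold palCoeff
    rw [if_pos (Or.inr rfl)]
  have hdeg : (palPoly n c).natDegree = n + n := by
    apply le_antisymm
    · rw [natDegree_le_iff_coeff_eq_zero]
      intro N hN
      rw [coeff_palPoly]
      unfold palCoeff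
      rw [if_neg (by omega), if_neg (by omega), if_neg (by omega)]
    · apply le_natDegree_of_ne_zero
      rw [hlead]
      exact one_ne_zero
  have h0 : (palPoly n c).coeff 0 = 1 := by
    rw [coeff_palPoly]
    unfold palCoeff
    rw [if_pos (Or.inl rfl)]
  refine ⟨?_, hdeg, h0, ?_⟩
  · unfold Monic leadingCoeff
    rw [hdeg, hlead]
  · ext j
    by_cases hj : j ≤ n + n
    · rw [StarPoly.coeff_star _ _ j (by rw [hdeg]; exact hj), h0, hdeg, coeff_palPoly,
        coeff_palPoly, palCoeff_symm n c j hj]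
      simp
    · rw [StarPoly.coeff_star_of_lt _ _ j (by rw [hdeg]; omega), coeff_palPoly]
      unfold palCoeff
      rw [if_neg (by omega), if_neg (by omega), if_neg (by omega)]

theorem card_pal [Fintype F] (n : ℕ) : Nat.card (Pal F n) = Fintype.card F ^ n := by
  classical
  have h1 : Nat.card (Fin n → F) = Fintype.card F ^ n := by
    rw [Nat.card_eq_fintype_card, Fintype.card_fun, Fintype.card_fin]
  rw [← h1]
  apply Nat.card_congr
  refine Equiv.ofBijective (fun f k => f.1.coeff ((k : ℕ) + 1)) ⟨?_, ?_⟩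
  · intro f f' hff'
    have hk : ∀ k : ℕ, k < n → f.1.coeff (k + 1) = f'.1.coeff (k + 1) := by
      intro k hk
      exact congrFun hff' ⟨k, hk⟩
    have hlow : ∀ j : ℕ, j ≤ n → f.1.coeff j = f'.1.coeff j := by
      intro j hj
      rcases Nat.eq_zero_or_pos j with rfl | hpos
      · rw [f.2.2.2.1, f'.2.2.2.1]
      · have := hk (j - 1) (by omega)
        rw [Nat.sub_add_cancel hpos] at this
        exact this
    apply Subtype.ext
    ext j
    by_cases hj : j ≤ n
    · exact hlow j hj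
    · by_cases hj2 : j ≤ n + n
      · rw [← pal_symm f j hj2, ← pal_symm f' j hj2]
        exact hlow _ (by omega)
      · rw [coeff_eq_zero_of_natDegree_lt (by rw [f.2.2.1]; omega),
          coeff_eq_zero_of_natDegree_lt (by rw [f'.2.2.1]; omega)]
  · intro c
    let c' : ℕ → F := fun k => if h : k < n then c ⟨k, h⟩ else 0
    refine ⟨⟨palPoly n c', palPoly_mem n c'⟩, ?_⟩
    funext k
    show (palPoly n c').coeff ((k : ℕ) + 1) = c k
    rw [coeff_palPoly]
    unfold palCoeff
    have hk := k.2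
    rw [if_neg (by omega), if_pos (by omega)]
    show (if h : (k : ℕ) + 1 - 1 < n then c ⟨(k : ℕ) + 1 - 1, h⟩ else 0) = c k
    rw [dif_pos (by omega)]
    congr 1

end count

section mainsec

theorem main {F : Type u} [Field F] [Fintype F] {q : ℕ} (hq : Fintype.card F = q) (p : ℕ)
    [hp : Fact p.Prime] [CharP F p] (n : ℕ) :
    Nat.card {c : ConjClasses ↥(Matrix.symplecticGroup (Fin n) F) //
      ∃ g : ↥(Matrix.symplecticGroup (Fin n) F), ConjClasses.mk g = c ∧
        (orderOf g).Coprime p} = q ^ n := by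
  classical
  rw [← hq, ← card_pal n]
  symm
  have hSp : ∀ f : Pal F n, ∃ B : ↥(Matrix.symplecticGroup (Fin n) F),
      (B : Matrix (Fin n ⊕ Fin n) (Fin n ⊕ Fin n) F).charpoly = f.1 ∧
        (orderOf B).Coprime p := by
    intro f
    obtain ⟨N, hN, hreal⟩ := sympSS_of_palindromic p n f.1 f.2.1 f.2.2.1 f.2.2.2.1 f.2.2.2.2
    obtain ⟨B, hBmem, hBcp, hBN⟩ := exists_symplectic hreal n f.2.2.1
    refine ⟨⟨B, hBmem⟩, hBcp, ?_⟩
    have h1 : orderOf (⟨B, hBmem⟩ : ↥(Matrix.symplecticGroup (Fin n) F)) ∣ N := by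
      apply orderOf_dvd_of_pow_eq_one
      apply Subtype.ext
      rw [SubmonoidClass.coe_pow]
      exact hBN
    have h2 : N.Coprime p := by
      apply Nat.Coprime.symm
      rw [Nat.Prime.coprime_iff_not_dvd hp.out]
      intro hd
      apply hN
      rw [CharP.cast_eq_zero_iff F p]
      exact hd
    exact Nat.Coprime.coprime_dvd_left h1 h2
  let 𝒞 := {c : ConjClasses ↥(Matrix.symplecticGroup (Fin n) F) //
      ∃ g : ↥(Matrix.symplecticGroup (Fin n) F), ConjClasses.mk g = c ∧ (orderOf g).Coprime p}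
  let Bf : Pal F n → ↥(Matrix.symplecticGroup (Fin n) F) := fun f => Classical.choose (hSp f)
  have hBf : ∀ f : Pal F n, (Bf f : Matrix (Fin n ⊕ Fin n) (Fin n ⊕ Fin n) F).charpoly = f.1 ∧
      (orderOf (Bf f)).Coprime p := fun f => Classical.choose_spec (hSp f)
  let Ψ : Pal F n → 𝒞 := fun f => ⟨ConjClasses.mk (Bf f), Bf f, rfl, (hBf f).2⟩
  apply Nat.card_congr
  refine Equiv.ofBijective Ψ ⟨?_, ?_⟩
  · intro f f' hff'
    have h1 : ConjClasses.mk (Bf f) = ConjClasses.mk (Bf f') := congrArg Subtype.val hff'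
    have h2 := (S2589.main (Bf f) (Bf f') (hBf f).2).1 (ConjClasses.mk_eq_mk_iff_isConj.1 h1)
    obtain ⟨u, hu⟩ := h2
    have hu' : (u : Matrix (Fin n ⊕ Fin n) (Fin n ⊕ Fin n) F) *
        (Bf f : Matrix (Fin n ⊕ Fin n) (Fin n ⊕ Fin n) F) =
        (Bf f' : Matrix (Fin n ⊕ Fin n) (Fin n ⊕ Fin n) F) *
        (u : Matrix (Fin n ⊕ Fin n) (Fin n ⊕ Fin n) F) := hu
    have h3 : (Bf f' : Matrix (Fin n ⊕ Fin n) (Fin n ⊕ Fin n) F).charpoly =
        (Bf f : Matrix (Fin n ⊕ Fin n) (Fin n ⊕ Fin n) F).charpoly := by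
      have h4 : (Bf f' : Matrix (Fin n ⊕ Fin n) (Fin n ⊕ Fin n) F) =
          (u : Matrix (Fin n ⊕ Fin n) (Fin n ⊕ Fin n) F) *
          (Bf f : Matrix (Fin n ⊕ Fin n) (Fin n ⊕ Fin n) F) *
          ((u⁻¹ : (Matrix (Fin n ⊕ Fin n) (Fin n ⊕ Fin n) F)ˣ) :
            Matrix (Fin n ⊕ Fin n) (Fin n ⊕ Fin n) F) := by
        rw [hu', Matrix.mul_assoc, ← Units.val_mul, mul_inv_cancel, Units.val_one,
          Matrix.mul_one]
      rw [h4, Matrix.coe_units_inv, Matrix.charpoly_units_conj]
    rw [(hBf f).1, (hBf f').1] at h3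
    exact Subtype.ext h3.symm
  · rintro ⟨C, g, rfl, hg⟩
    have hdet := det_symplectic n g
    have hcoeff : (g : Matrix (Fin n ⊕ Fin n) (Fin n ⊕ Fin n) F).charpoly.coeff 0 = 1 := by
      have h2 := Matrix.det_eq_sign_charpoly_coeff
        (g : Matrix (Fin n ⊕ Fin n) (Fin n ⊕ Fin n) F)
      rw [Fintype.card_sum, Fintype.card_fin, ← two_mul, pow_mul] at h2
      have h3 : ((-1 : F) ^ 2) ^ n = 1 := by norm_num
      rw [h3, one_mul] at h2
      rw [← h2]
      exact hdet
    have hdeg : (g : Matrix (Fin n ⊕ Fin n) (Fin n ⊕ Fin n) F).charpoly.natDegree = n + n := by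
      rw [Matrix.charpoly_natDegree_eq_dim, Fintype.card_sum, Fintype.card_fin]
    let f : Pal F n := ⟨(g : Matrix (Fin n ⊕ Fin n) (Fin n ⊕ Fin n) F).charpoly,
      Matrix.charpoly_monic _, hdeg, hcoeff, charpoly_symplectic _ g.2⟩
    refine ⟨f, ?_⟩
    apply Subtype.ext
    show ConjClasses.mk (Bf f) = ConjClasses.mk g
    rw [ConjClasses.mk_eq_mk_iff_isConj]
    exact S2389.main p n (Bf f) g (hBf f).2 hg (hBf f).1

end mainsec

/-- In the symplectic group `Sp_{2n}(q)`, `q` a power of the prime `p`, the number of conjugacy classes of elements of order prime to `p` is `q^n`. -/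
theorem result {F : Type*} [Field F] [Fintype F] {q : ℕ} (hq : Fintype.card F = q) (p : ℕ) [Fact p.Prime] [CharP F p] (n : ℕ) :
    Nat.card {c : ConjClasses ↥(Matrix.symplecticGroup (Fin n) F) //
      ∃ g : ↥(Matrix.symplecticGroup (Fin n) F), ConjClasses.mk g = c ∧ (orderOf g).Coprime p} = q ^ n := by
  exact main hq p n

end Cfsg.Agent.S2385
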