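import Cfsg.Statements.S2390
-- import your own Cfsg.Agent.* helpers here
import Cfsg.Agent.Lib.Helper15.UnitaryCent

set_option autoImplicit false
open Cfsg

namespace Cfsg.Agent.S2390

open Polynomial Matrix Cfsg.Agent.Lib.Helper14 Cfsg.Agent.Lib.Helper15
  Cfsg.Agent.Lib.Helper15.SemisimpleCount Cfsg.Agent.Lib.Helper15.UnitaryCent

theorem main {F : Type*} [Field F] [Fintype F] {q : ℕ} (hF : Fintype.card F = q ^ 2) (p : ℕ)
    [hp : Fact p.Prime] [CharP F p] (n : ℕ) (g h : ↥(Cfsg.SU n F q))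
    (hg : (orderOf g).Coprime p) (hh : (orderOf h).Coprime p)
    (hc : ((g : Matrix.SpecialLinearGroup (Fin n) F) : Matrix (Fin n) (Fin n) F).charpoly =
      ((h : Matrix.SpecialLinearGroup (Fin n) F) : Matrix (Fin n) (Fin n) F).charpoly) :
    IsConj g h := by
  classical
  rcases Nat.eq_zero_or_pos n with hn0 | hn
  · subst hn0
    have : g = h := by
      apply Subtype.ext
      apply Subtype.ext
      exact Subsingleton.elim _ _
    rw [this]
  let _ : StarRing F := S2643.frobStar hF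
  have key : ∀ (M : Matrix (Fin n) (Fin n) F), IsUni F q n M ↔ Mᴴ * M = 1 :=
    fun M => S2643.isUni_iff hF M
  obtain ⟨G, hGdef⟩ : ∃ G : Matrix (Fin n) (Fin n) F,
      G = ((g : Matrix.SpecialLinearGroup (Fin n) F) : Matrix (Fin n) (Fin n) F) := ⟨_, rfl⟩
  obtain ⟨H, hHdef⟩ : ∃ H : Matrix (Fin n) (Fin n) F,
      H = ((h : Matrix.SpecialLinearGroup (Fin n) F) : Matrix (Fin n) (Fin n) F) := ⟨_, rfl⟩
  have hGu : IsUni F q n G := by rw [hGdef]; exact (mem_SU_iff g.1).1 g.2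
  have hHu : IsUni F q n H := by rw [hHdef]; exact (mem_SU_iff h.1).1 h.2
  have hN : ((orderOf g * orderOf h : ℕ) : F) ≠ 0 :=
    cast_ne_zero_of_coprime p _ (Nat.Coprime.mul_left hg hh)
  have hpowcoe : ∀ (x : ↥(Cfsg.SU n F q)) (k : ℕ),
      (((x ^ k : ↥(Cfsg.SU n F q)) : Matrix.SpecialLinearGroup (Fin n) F) :
        Matrix (Fin n) (Fin n) F) =
      ((x : Matrix.SpecialLinearGroup (Fin n) F) : Matrix (Fin n) (Fin n) F) ^ k := by
    intro x k
    rw [Subgroup.coe_pow, Matrix.SpecialLinearGroup.coe_pow]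
  have hGN : G ^ (orderOf g * orderOf h) = 1 := by
    rw [hGdef, ← hpowcoe, pow_mul, pow_orderOf_eq_one, one_pow]
    rfl
  have hHN : H ^ (orderOf g * orderOf h) = 1 := by
    rw [hHdef, ← hpowcoe, mul_comm, pow_mul, pow_orderOf_eq_one, one_pow]
    rfl
  have hcp : G.charpoly = H.charpoly := by rw [hGdef, hHdef]; exact hc
  obtain ⟨w, hw⟩ := matrix_conj n G H _ hN hGN hHN hcp
  obtain ⟨τ, hτ⟩ := S2643.exists_not_fixed hF
  have hτ' : τ - star τ ≠ 0 := sub_ne_zero.2 (Ne.symm hτ)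
  obtain ⟨u, huu, huG⟩ := UnitaryConj.unitary_conj_of_conj τ hτ' G H w.val ((key G).1 hGu)
    ((key H).1 hHu) w.isUnit hw
  have hudet : u.det ^ q * u.det = 1 := by
    have h1 := congrArg Matrix.det huu
    rw [Matrix.det_mul, Matrix.det_conjTranspose, Matrix.det_one] at h1
    exact h1
  have hud0 : u.det ≠ 0 := by
    intro h0
    rw [h0, mul_zero] at hudet
    exact zero_ne_one hudet
  have hlam : (u.det)⁻¹ ^ q * (u.det)⁻¹ = 1 := by
    rw [inv_pow, ← mul_inv, hudet, inv_one]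
  obtain ⟨c, hcu, hcG, hcdet⟩ := exists_cent_det hF (starRingEnd F) (fun c => rfl) n hn G hGu
    _ hN hGN (u.det)⁻¹ hlam
  obtain ⟨s, hs⟩ : ∃ s, s = u * c := ⟨_, rfl⟩
  have hsu : IsUni F q n s := by rw [hs]; exact ((key u).2 huu).mul hcu
  have hsdet : s.det = 1 := by
    rw [hs, Matrix.det_mul, hcdet, mul_inv_cancel₀ hud0]
  have hsG : s * G = H * s := by
    rw [hs, Matrix.mul_assoc, hcG, ← Matrix.mul_assoc, huG, Matrix.mul_assoc]
  rw [isConj_iff]
  refine ⟨⟨⟨s, hsdet⟩, (mem_SU_iff _).2 hsu⟩, ?_⟩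
  rw [mul_inv_eq_iff_eq_mul]
  apply Subtype.ext
  apply Subtype.ext
  show s * ((g : Matrix.SpecialLinearGroup (Fin n) F) : Matrix (Fin n) (Fin n) F) =
    ((h : Matrix.SpecialLinearGroup (Fin n) F) : Matrix (Fin n) (Fin n) F) * s
  rw [← hGdef, ← hHdef]
  exact hsG

/-- In the special unitary group `SU_n(q)` (inside `SL_n` over the field with `q²` elements), `q` a power of the prime `p`, two elements of order prime to `p` with the same characteristic polynomial are conjugate in `SU_n(q)`. -/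
theorem result {F : Type*} [Field F] [Fintype F] {q : ℕ} (hF : Fintype.card F = q ^ 2) (p : ℕ) [Fact p.Prime] [CharP F p] (n : ℕ)
    (g h : ↥(Cfsg.SU n F q)) (hg : (orderOf g).Coprime p) (hh : (orderOf h).Coprime p)
    (hc : ((g : Matrix.SpecialLinearGroup (Fin n) F) : Matrix (Fin n) (Fin n) F).charpoly =
      ((h : Matrix.SpecialLinearGroup (Fin n) F) : Matrix (Fin n) (Fin n) F).charpoly) : IsConj g h := by
  exact main hF p n g h hg hh hc

end Cfsg.Agent.S2390
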