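import Cfsg.Statements.S2386
-- import your own Cfsg.Agent.* helpers here
import Cfsg.Agent.Lib.Helper15.UnitaryCent
import Cfsg.Agent.S2390

set_option autoImplicit false
open Cfsg

namespace Cfsg.Agent.S2386

open Polynomial Matrix Cfsg.Agent.Lib.Helper14 Cfsg.Agent.Lib.Helper15
  Cfsg.Agent.Lib.Helper15.SemisimpleCount Cfsg.Agent.Lib.Helper15.UnitaryCent

section fix

variable {K : Type*} [Field K]

/-- fixed points of a semilinear involution of `ι → K`: the square of their number is `|ι → K|` -/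
theorem card_fix_sq (σ : K →+* K) (hσσ : ∀ c, σ (σ c) = c) (ω : K) (hω : σ ω ≠ ω) (ε : K)
    (hε : σ ε = ε) (hεε : ε * ε = 1) {ι : Type*} (ρ : ι → ι) (hρ : ∀ j, ρ (ρ j) = j) :
    Nat.card {c : ι → K // ∀ j, ε * σ (c (ρ j)) = c j} *
      Nat.card {c : ι → K // ∀ j, ε * σ (c (ρ j)) = c j} = Nat.card (ι → K) := by
  rw [← Nat.card_prod]
  refine Nat.card_congr (Nonempty.some ?_)
  obtain ⟨δ, hδ⟩ : ∃ δ, δ = ω - σ ω := ⟨_, rfl⟩
  have hδ0 : δ ≠ 0 := by rw [hδ]; exact sub_ne_zero.2 (Ne.symm hω)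
  have hσδ : σ δ = -δ := by rw [hδ, map_sub, hσσ]; ring
  let θ : (ι → K) → (ι → K) := fun v j => ε * σ (v (ρ j))
  have hθθ : ∀ v, θ (θ v) = v := by
    intro v
    funext j
    show ε * σ (ε * σ (v (ρ (ρ j)))) = v j
    rw [map_mul, hε, hσσ, hρ, ← mul_assoc, hεε, one_mul]
  refine ⟨⟨fun ab j => ab.1.1 j + ω * ab.2.1 j,
    fun v => (⟨fun j => v j - ω * (δ⁻¹ * (v j - θ v j)), ?_⟩,
      ⟨fun j => δ⁻¹ * (v j - θ v j), ?_⟩), ?_, ?_⟩⟩
  · intro j
    have h1 : θ (θ v) j = v j := congrFun (hθθ v) j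
    have h2 : θ (θ v) j = ε * σ (θ v (ρ j)) := rfl
    have h3 : θ v j = ε * σ (v (ρ j)) := rfl
    rw [h2] at h1
    have h5 : σ ω = ω - δ := by rw [hδ]; ring
    simp only [map_sub, map_mul, map_inv₀, hσδ]
    rw [h3, ← h1, h5]
    generalize σ (v (ρ j)) = a
    generalize σ (θ v (ρ j)) = b
    field_simp
    ring
  · intro j
    have h1 : θ (θ v) j = v j := congrFun (hθθ v) j
    have h2 : θ (θ v) j = ε * σ (θ v (ρ j)) := rfl
    have h3 : θ v j = ε * σ (v (ρ j)) := rfl
    rw [h2] at h1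
    simp only [map_sub, map_mul, map_inv₀, hσδ]
    rw [h3, ← h1]
    generalize σ (v (ρ j)) = a
    generalize σ (θ v (ρ j)) = b
    field_simp
    ring
  · rintro ⟨⟨a, ha⟩, ⟨b, hb⟩⟩
    have hab : ∀ j, (a j + ω * b j) - θ (fun j => a j + ω * b j) j = δ * b j := by
      intro j
      show (a j + ω * b j) - ε * σ (a (ρ j) + ω * b (ρ j)) = δ * b j
      rw [map_add, map_mul, mul_add, ha j]
      have : ε * (σ ω * σ (b (ρ j))) = σ ω * (ε * σ (b (ρ j))) := by ring
      rw [this, hb j, hδ]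
      ring
    apply Prod.ext
    · apply Subtype.ext
      funext j
      show (a j + ω * b j) - ω * (δ⁻¹ * ((a j + ω * b j) - θ (fun j => a j + ω * b j) j)) = a j
      rw [hab j, ← mul_assoc δ⁻¹, inv_mul_cancel₀ hδ0, one_mul]
      ring
    · apply Subtype.ext
      funext j
      show δ⁻¹ * ((a j + ω * b j) - θ (fun j => a j + ω * b j) j) = b j
      rw [hab j, ← mul_assoc, inv_mul_cancel₀ hδ0, one_mul]
  · intro v
    funext j
    show v j - ω * (δ⁻¹ * (v j - θ v j)) + ω * (δ⁻¹ * (v j - θ v j)) = v j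
    ring

end fix

section count

variable {K : Type*} [Field K]

/-- monic twisted-self-reciprocal polynomials of degree `n` with constant term `(-1)^n` -/
def UPal (σ : K →+* K) (n : ℕ) : Type _ :=
  {f : K[X] // f.Monic ∧ f.natDegree = n ∧ f.coeff 0 = (-1) ^ n ∧ StarPoly.star σ f = f}

def uCoeff (n : ℕ) (c : ℕ → K) (j : ℕ) : K :=
  if j = 0 then (-1) ^ n else if j = n then 1 else if j < n then c (j - 1) else 0

noncomputable def uPoly (n : ℕ) (c : ℕ → K) : K[X] :=
  ∑ j ∈ Finset.range (n + 1), monomial j (uCoeff n c j)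

lemma coeff_uPoly (n : ℕ) (c : ℕ → K) (j : ℕ) : (uPoly n c).coeff j = uCoeff n c j := by
  unfold uPoly
  rw [finsetSum_coeff]
  simp only [coeff_monomial]
  rw [Finset.sum_ite_eq']
  by_cases hj : j ∈ Finset.range (n + 1)
  · rw [if_pos hj]
  · rw [if_neg hj]
    rw [Finset.mem_range] at hj
    unfold uCoeff
    rw [if_neg (by omega), if_neg (by omega), if_neg (by omega)]

lemma neg_one_pow_facts (σ : K →+* K) (n : ℕ) :
    σ ((-1 : K) ^ n) = (-1) ^ n ∧ ((-1 : K) ^ n) * ((-1) ^ n) = 1 ∧ ((-1 : K) ^ n)⁻¹ = (-1) ^ n := by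
  have h1 : ((-1 : K) ^ n) * ((-1) ^ n) = 1 := by
    rw [← mul_pow]
    norm_num
  refine ⟨?_, h1, ?_⟩
  · rw [map_pow, map_neg, map_one]
  · exact inv_eq_of_mul_eq_one_left h1

lemma uPoly_mem (σ : K →+* K) (n : ℕ) (hn : 1 ≤ n) (c : ℕ → K)
    (hc : ∀ j, 0 < j → j < n → (-1) ^ n * σ (c (n - j - 1)) = c (j - 1)) :
    (uPoly n c).Monic ∧ (uPoly n c).natDegree = n ∧ (uPoly n c).coeff 0 = (-1) ^ n ∧
      StarPoly.star σ (uPoly n c) = uPoly n c := by
  obtain ⟨he1, he2, he3⟩ := neg_one_pow_facts σ n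
  have hlead : (uPoly n c).coeff n = 1 := by
    rw [coeff_uPoly]
    unfold uCoeff
    rw [if_neg (by omega), if_pos rfl]
  have hdeg : (uPoly n c).natDegree = n := by
    apply le_antisymm
    · rw [natDegree_le_iff_coeff_eq_zero]
      intro N hN
      rw [coeff_uPoly]
      unfold uCoeff
      rw [if_neg (by omega), if_neg (by omega), if_neg (by omega)]
    · apply le_natDegree_of_ne_zero
      rw [hlead]
      exact one_ne_zero
  have h0 : (uPoly n c).coeff 0 = (-1) ^ n := by
    rw [coeff_uPoly]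
    unfold uCoeff
    rw [if_pos rfl]
  refine ⟨?_, hdeg, h0, ?_⟩
  · unfold Monic leadingCoeff
    rw [hdeg, hlead]
  · ext j
    by_cases hj : j ≤ n
    · rw [StarPoly.coeff_star _ _ j (by rw [hdeg]; exact hj), h0, hdeg, he1, he3]
      rcases Nat.eq_zero_or_pos j with rfl | hpos
      · rw [Nat.sub_zero, hlead, h0, map_one, mul_one]
      · rcases Nat.lt_or_ge j n with hlt | hge
        · rw [coeff_uPoly, coeff_uPoly]
          unfold uCoeff
          rw [if_neg (by omega), if_neg (by omega), if_pos (by omega), if_neg (by omega),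
            if_neg (by omega), if_pos hlt]
          have := hc j hpos hlt
          rw [← this]
        · have hjn : j = n := le_antisymm hj hge
          subst hjn
          rw [Nat.sub_self, h0, hlead, he1, he2]
    · rw [StarPoly.coeff_star_of_lt _ _ j (by rw [hdeg]; omega), coeff_uPoly]
      unfold uCoeff
      rw [if_neg (by omega), if_neg (by omega), if_neg (by omega)]

theorem card_upal_sq [Fintype K] (σ : K →+* K) (hσσ : ∀ c, σ (σ c) = c) (ω : K) (hω : σ ω ≠ ω)
    (n : ℕ) (hn : 1 ≤ n) :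
    Nat.card (UPal σ n) * Nat.card (UPal σ n) = Fintype.card K ^ (n - 1) := by
  classical
  obtain ⟨he1, he2, he3⟩ := neg_one_pow_facts σ n
  have h1 : Nat.card (Fin (n - 1) → K) = Fintype.card K ^ (n - 1) := by
    rw [Nat.card_eq_fintype_card, Fintype.card_fun, Fintype.card_fin]
  rw [← h1, ← card_fix_sq σ hσσ ω hω ((-1) ^ n) he1 he2 (Fin.rev : Fin (n - 1) → Fin (n - 1))
    Fin.rev_rev]
  have key : Nat.card (UPal σ n) = Nat.card {c : Fin (n - 1) → K //
      ∀ j, (-1) ^ n * σ (c (Fin.rev j)) = c j} := by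
    apply Nat.card_congr
    refine Equiv.ofBijective (fun f => ⟨fun k => f.1.coeff ((k : ℕ) + 1), ?_⟩) ⟨?_, ?_⟩
    · intro k
      have hk := k.2
      have h2 := StarPoly.coeff_star σ f.1 ((k : ℕ) + 1) (by rw [f.2.2.1]; omega)
      rw [f.2.2.2.2, f.2.2.2.1, f.2.2.1, he1, he3] at h2
      show (-1) ^ n * σ (f.1.coeff (((Fin.rev k : Fin (n - 1)) : ℕ) + 1)) = f.1.coeff ((k : ℕ) + 1)
      rw [h2, Fin.val_rev]
      congr 3
      omega
    · intro f f' hff'
      have hk : ∀ k : ℕ, k < n - 1 → f.1.coeff (k + 1) = f'.1.coeff (k + 1) := by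
        intro k hk
        exact congrFun (congrArg Subtype.val hff') ⟨k, hk⟩
      apply Subtype.ext
      ext j
      rcases Nat.eq_zero_or_pos j with rfl | hpos
      · rw [f.2.2.2.1, f'.2.2.2.1]
      · rcases lt_trichotomy j n with hlt | heq | hgt
        · have := hk (j - 1) (by omega)
          rw [Nat.sub_add_cancel hpos] at this
          exact this
        · subst heq
          have h3 := f.2.1
          have h4 := f'.2.1
          unfold Monic leadingCoeff at h3 h4
          rw [f.2.2.1] at h3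
          rw [f'.2.2.1] at h4
          rw [h3, h4]
        · rw [coeff_eq_zero_of_natDegree_lt (by rw [f.2.2.1]; omega),
            coeff_eq_zero_of_natDegree_lt (by rw [f'.2.2.1]; omega)]
    · rintro ⟨c, hc⟩
      let c' : ℕ → K := fun k => if h : k < n - 1 then c ⟨k, h⟩ else 0
      have hc' : ∀ j, 0 < j → j < n → (-1) ^ n * σ (c' (n - j - 1)) = c' (j - 1) := by
        intro j hj0 hjn
        show (-1) ^ n * σ (if h : n - j - 1 < n - 1 then c ⟨n - j - 1, h⟩ else 0) =
          (if h : j - 1 < n - 1 then c ⟨j - 1, h⟩ else 0)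
        rw [dif_pos (by omega), dif_pos (by omega)]
        rw [← hc ⟨j - 1, by omega⟩]
        congr 3
        apply Fin.ext
        rw [Fin.val_rev]
        show n - j - 1 = n - 1 - (j - 1 + 1)
        omega
      refine ⟨⟨uPoly n c', uPoly_mem σ n hn c' hc'⟩, ?_⟩
      apply Subtype.ext
      funext k
      show (uPoly n c').coeff ((k : ℕ) + 1) = c k
      rw [coeff_uPoly]
      unfold uCoeff
      have hk := k.2
      rw [if_neg (by omega), if_neg (by omega), if_pos (by omega)]
      show (if h : (k : ℕ) + 1 - 1 < n - 1 then c ⟨(k : ℕ) + 1 - 1, h⟩ else 0) = c k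
      rw [dif_pos (by omega)]
      congr 1
  rw [key]

end count

section mainsec

theorem main {F : Type*} [Field F] [Fintype F] {q : ℕ} (hF : Fintype.card F = q ^ 2) (p : ℕ)
    [hp : Fact p.Prime] [CharP F p] (n : ℕ) (hn : 1 ≤ n) :
    Nat.card {c : ConjClasses ↥(Cfsg.SU n F q) //
      ∃ g : ↥(Cfsg.SU n F q), ConjClasses.mk g = c ∧ (orderOf g).Coprime p} = q ^ (n - 1) := by
  classical
  let _ : StarRing F := S2643.frobStar hF
  obtain ⟨ω, hω⟩ := S2643.exists_not_fixed hF
  have hσ : ∀ c : F, (starRingEnd F) c = c ^ q := fun c => rfl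
  have hσσ : ∀ c : F, (starRingEnd F) ((starRingEnd F) c) = c := fun c => star_star c
  have hsq := card_upal_sq (starRingEnd F) hσσ ω hω n hn
  have hcard : Nat.card (UPal (starRingEnd F) n) = q ^ (n - 1) := by
    have h1 : Nat.card (UPal (starRingEnd F) n) ^ 2 = (q ^ (n - 1)) ^ 2 := by
      rw [sq, hsq, hF, ← pow_mul, ← pow_mul, mul_comm]
    exact Nat.pow_left_injective (by norm_num : 2 ≠ 0) h1
  rw [← hcard]
  symm
  have hSU : ∀ f : UPal (starRingEnd F) n, ∃ B : ↥(Cfsg.SU n F q),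
      ((B : Matrix.SpecialLinearGroup (Fin n) F) : Matrix (Fin n) (Fin n) F).charpoly = f.1 ∧
        (orderOf B).Coprime p := by
    intro f
    have h0 : f.1.coeff 0 ≠ 0 := by
      rw [f.2.2.2.1]
      exact pow_ne_zero _ (neg_ne_zero.2 one_ne_zero)
    obtain ⟨g, hgU, hgcp, N, hN, hgN⟩ := exists_unitary_of_charpoly hF (starRingEnd F) hσ n f.1
      f.2.1 f.2.2.1 h0 f.2.2.2.2
    have hdet : g.det = 1 := by
      have h2 := Matrix.det_eq_sign_charpoly_coeff g
      rw [Fintype.card_fin, hgcp, f.2.2.2.1, ← mul_pow] at h2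
      rw [h2]
      norm_num
    refine ⟨⟨⟨g, hdet⟩, (mem_SU_iff _).2 hgU⟩, hgcp, ?_⟩
    have h1 : orderOf (⟨⟨g, hdet⟩, (mem_SU_iff _).2 hgU⟩ : ↥(Cfsg.SU n F q)) ∣ N := by
      apply orderOf_dvd_of_pow_eq_one
      apply Subtype.ext
      apply Subtype.ext
      rw [Subgroup.coe_pow, Matrix.SpecialLinearGroup.coe_pow]
      exact hgN
    have h2 : N.Coprime p := by
      apply Nat.Coprime.symm
      rw [Nat.Prime.coprime_iff_not_dvd hp.out]
      intro hd
      apply hN
      rw [CharP.cast_eq_zero_iff F p]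
      exact hd
    exact Nat.Coprime.coprime_dvd_left h1 h2
  let 𝒞 := {c : ConjClasses ↥(Cfsg.SU n F q) //
      ∃ g : ↥(Cfsg.SU n F q), ConjClasses.mk g = c ∧ (orderOf g).Coprime p}
  let Bf : UPal (starRingEnd F) n → ↥(Cfsg.SU n F q) := fun f => Classical.choose (hSU f)
  have hBf : ∀ f : UPal (starRingEnd F) n,
      ((Bf f : Matrix.SpecialLinearGroup (Fin n) F) : Matrix (Fin n) (Fin n) F).charpoly = f.1 ∧
      (orderOf (Bf f)).Coprime p := fun f => Classical.choose_spec (hSU f)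
  let Ψ : UPal (starRingEnd F) n → 𝒞 := fun f => ⟨ConjClasses.mk (Bf f), Bf f, rfl, (hBf f).2⟩
  apply Nat.card_congr
  refine Equiv.ofBijective Ψ ⟨?_, ?_⟩
  · intro f f' hff'
    have h1 : ConjClasses.mk (Bf f) = ConjClasses.mk (Bf f') := congrArg Subtype.val hff'
    obtain ⟨u, hu⟩ := isConj_iff.1 (ConjClasses.mk_eq_mk_iff_isConj.1 h1)
    have hu' : ((u : Matrix.SpecialLinearGroup (Fin n) F) : Matrix (Fin n) (Fin n) F) *
        ((Bf f : Matrix.SpecialLinearGroup (Fin n) F) : Matrix (Fin n) (Fin n) F) =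
        ((Bf f' : Matrix.SpecialLinearGroup (Fin n) F) : Matrix (Fin n) (Fin n) F) *
        ((u : Matrix.SpecialLinearGroup (Fin n) F) : Matrix (Fin n) (Fin n) F) := by
      have h2 : u * Bf f = Bf f' * u := mul_inv_eq_iff_eq_mul.1 hu
      have h3 := congrArg (fun x : ↥(Cfsg.SU n F q) =>
        ((x : Matrix.SpecialLinearGroup (Fin n) F) : Matrix (Fin n) (Fin n) F)) h2
      exact h3
    have hudet : ((u : Matrix.SpecialLinearGroup (Fin n) F) : Matrix (Fin n) (Fin n) F).det = 1 :=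
      (u : Matrix.SpecialLinearGroup (Fin n) F).2
    obtain ⟨U, hU⟩ : ∃ U : (Matrix (Fin n) (Fin n) F)ˣ,
        (U : Matrix (Fin n) (Fin n) F) =
          ((u : Matrix.SpecialLinearGroup (Fin n) F) : Matrix (Fin n) (Fin n) F) := by
      have : IsUnit ((u : Matrix.SpecialLinearGroup (Fin n) F) : Matrix (Fin n) (Fin n) F) := by
        rw [Matrix.isUnit_iff_isUnit_det, hudet]
        exact isUnit_one
      exact ⟨this.unit, rfl⟩
    have h3 : ((Bf f' : Matrix.SpecialLinearGroup (Fin n) F) : Matrix (Fin n) (Fin n) F).charpoly =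
        ((Bf f : Matrix.SpecialLinearGroup (Fin n) F) : Matrix (Fin n) (Fin n) F).charpoly := by
      have h4 : ((Bf f' : Matrix.SpecialLinearGroup (Fin n) F) : Matrix (Fin n) (Fin n) F) =
          (U : Matrix (Fin n) (Fin n) F) *
          ((Bf f : Matrix.SpecialLinearGroup (Fin n) F) : Matrix (Fin n) (Fin n) F) *
          ((U⁻¹ : (Matrix (Fin n) (Fin n) F)ˣ) : Matrix (Fin n) (Fin n) F) := by
        rw [hU, hu', Matrix.mul_assoc, ← hU, ← Units.val_mul, mul_inv_cancel, Units.val_one,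
          Matrix.mul_one]
      rw [h4, Matrix.coe_units_inv, Matrix.charpoly_units_conj]
    rw [(hBf f).1, (hBf f').1] at h3
    exact Subtype.ext h3.symm
  · rintro ⟨C, g, rfl, hg⟩
    have hdet : ((g : Matrix.SpecialLinearGroup (Fin n) F) : Matrix (Fin n) (Fin n) F).det = 1 :=
      (g : Matrix.SpecialLinearGroup (Fin n) F).2
    have hcoeff : ((g : Matrix.SpecialLinearGroup (Fin n) F) :
        Matrix (Fin n) (Fin n) F).charpoly.coeff 0 = (-1) ^ n := by
      have h2 := Matrix.det_eq_sign_charpoly_coeff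
        ((g : Matrix.SpecialLinearGroup (Fin n) F) : Matrix (Fin n) (Fin n) F)
      rw [Fintype.card_fin, hdet] at h2
      have h3 : ((-1 : F) ^ n) * ((-1) ^ n) = 1 := (neg_one_pow_facts (starRingEnd F) n).2.1
      calc _ = ((-1 : F) ^ n) * ((-1) ^ n) * ((g : Matrix.SpecialLinearGroup (Fin n) F) :
              Matrix (Fin n) (Fin n) F).charpoly.coeff 0 := by rw [h3, one_mul]
        _ = (-1) ^ n := by rw [mul_assoc, ← h2, mul_one]
    have hdeg : ((g : Matrix.SpecialLinearGroup (Fin n) F) :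
        Matrix (Fin n) (Fin n) F).charpoly.natDegree = n := by
      rw [Matrix.charpoly_natDegree_eq_dim, Fintype.card_fin]
    let f : UPal (starRingEnd F) n := ⟨((g : Matrix.SpecialLinearGroup (Fin n) F) :
        Matrix (Fin n) (Fin n) F).charpoly,
      Matrix.charpoly_monic _, hdeg, hcoeff,
      charpoly_unitary hF (starRingEnd F) hσ _ ((mem_SU_iff g.1).1 g.2)⟩
    refine ⟨f, ?_⟩
    apply Subtype.ext
    show ConjClasses.mk (Bf f) = ConjClasses.mk g
    rw [ConjClasses.mk_eq_mk_iff_isConj]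
    exact S2390.main hF p n (Bf f) g (hBf f).2 hg (hBf f).1

end mainsec

/-- In the special unitary group `SU_n(q)` (matrices of determinant one over the field with `q²` elements preserving the standard Hermitian form), `q` a power of the prime `p`, the number of conjugacy classes of elements of order prime to `p` is `q^(n-1)`. -/
theorem result {F : Type*} [Field F] [Fintype F] {q : ℕ} (hF : Fintype.card F = q ^ 2) (p : ℕ) [Fact p.Prime] [CharP F p] (n : ℕ) (hn : 1 ≤ n) :
    Nat.card {c : ConjClasses ↥(Cfsg.SU n F q) // ∃ g : ↥(Cfsg.SU n F q), ConjClasses.mk g = c ∧ (orderOf g).Coprime p} = q ^ (n - 1) := by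
  exact main hF p n hn

end Cfsg.Agent.S2386
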