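import Cfsg.Statements.S2387
-- import your own Cfsg.Agent.* helpers here
import Cfsg.Agent.Lib.Helper15.SemisimpleCount

set_option autoImplicit false
open scoped MatrixGroups
open Cfsg

namespace Cfsg.Agent.S2387

open Polynomial Module Cfsg.Agent.Lib.Helper15.SemisimpleCount

universe u

variable {F : Type u} [Field F] [Fintype F]

theorem main {q : ℕ} (hq : Fintype.card F = q) (p : ℕ) [Fact p.Prime] [CharP F p] (n : ℕ)
    (hn : 1 ≤ n) :
    Nat.card {c : ConjClasses (GL (Fin n) F) //
      ∃ g : GL (Fin n) F, ConjClasses.mk g = c ∧ (orderOf g).Coprime p} =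
      (q - 1) * q ^ (n - 1) := by
  classical
  set i₀ : Fin n := ⟨0, hn⟩ with hi₀
  rw [← hq, ← card_ne n i₀]
  -- representatives
  let S := {c : ConjClasses (GL (Fin n) F) //
      ∃ g : GL (Fin n) F, ConjClasses.mk g = c ∧ (orderOf g).Coprime p}
  let rep : S → GL (Fin n) F := fun c => Classical.choose c.2
  have hrep : ∀ c : S, ConjClasses.mk (rep c) = c.1 ∧ (orderOf (rep c)).Coprime p :=
    fun c => Classical.choose_spec c.2
  have hcoeff0 : ∀ g : GL (Fin n) F, (g : Matrix (Fin n) (Fin n) F).charpoly.coeff 0 ≠ 0 := by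
    intro g h0
    have h1 := Matrix.det_eq_sign_charpoly_coeff (g : Matrix (Fin n) (Fin n) F)
    rw [h0, mul_zero] at h1
    have h2 : IsUnit (g : Matrix (Fin n) (Fin n) F).det :=
      (Matrix.isUnit_iff_isUnit_det _).1 g.isUnit
    rw [h1] at h2
    exact not_isUnit_zero h2
  let Φ : S → {v : Fin n → F // v i₀ ≠ 0} := fun c =>
    ⟨fun i => (rep c : Matrix (Fin n) (Fin n) F).charpoly.coeff i, hcoeff0 (rep c)⟩
  have hmon : ∀ g : GL (Fin n) F, (g : Matrix (Fin n) (Fin n) F).charpoly.Monic :=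
    fun g => Matrix.charpoly_monic _
  have hdeg : ∀ g : GL (Fin n) F, (g : Matrix (Fin n) (Fin n) F).charpoly.natDegree = n := by
    intro g
    rw [Matrix.charpoly_natDegree_eq_dim, Fintype.card_fin]
  apply Nat.card_congr
  refine Equiv.ofBijective Φ ⟨?_, ?_⟩
  · intro c₁ c₂ h
    have h1 : (rep c₁ : Matrix (Fin n) (Fin n) F).charpoly =
        (rep c₂ : Matrix (Fin n) (Fin n) F).charpoly := by
      apply eq_of_coeff n _ _ (hmon _) (hmon _) (hdeg _) (hdeg _)
      intro i
      exact congrFun (congrArg Subtype.val h) i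
    have h2 : IsConj (rep c₁) (rep c₂) := gl_conj p n _ _ (hrep c₁).2 (hrep c₂).2 h1
    apply Subtype.ext
    rw [← (hrep c₁).1, ← (hrep c₂).1]
    exact ConjClasses.mk_eq_mk_iff_isConj.2 h2
  · rintro ⟨v, hv⟩
    obtain ⟨P, hPmon, hPdeg, hPc⟩ := exists_poly n v
    have hP0 : P.coeff 0 ≠ 0 := by
      have := hPc i₀
      rw [hi₀] at this
      simp only at this
      rw [this]; exact hv
    obtain ⟨M, hM, N, hN, hMN⟩ := exists_matrix_of_charpoly n P hPmon hPdeg hP0
    have hN0 : N ≠ 0 := by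
      rintro rfl
      simp at hN
    have hNp : N.Coprime p := by
      apply Nat.Coprime.symm
      rw [Nat.Prime.coprime_iff_not_dvd (Fact.out : p.Prime)]
      intro hd
      exact hN ((CharP.cast_eq_zero_iff F p N).2 hd)
    obtain ⟨N', rfl⟩ : ∃ N', N = N' + 1 := ⟨N - 1, by omega⟩
    let g : GL (Fin n) F := ⟨M, M ^ N', by rw [← pow_succ', hMN], by rw [← pow_succ, hMN]⟩
    have hgN : g ^ (N' + 1) = 1 := by
      apply Units.ext
      rw [Units.val_pow_eq_pow_val, Units.val_one]
      exact hMN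
    have hgo : (orderOf g).Coprime p :=
      Nat.Coprime.coprime_dvd_left (orderOf_dvd_of_pow_eq_one hgN) hNp
    let c : S := ⟨ConjClasses.mk g, g, rfl, hgo⟩
    refine ⟨c, ?_⟩
    apply Subtype.ext
    funext i
    show (rep c : Matrix (Fin n) (Fin n) F).charpoly.coeff i = v i
    have h3 : IsConj (rep c) g := ConjClasses.mk_eq_mk_iff_isConj.1 (hrep c).1
    obtain ⟨u, hu⟩ := isConj_iff.1 h3
    have h4 : (rep c : Matrix (Fin n) (Fin n) F).charpoly = M.charpoly := by
      have h5 : (g : Matrix (Fin n) (Fin n) F) =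
          (u : Matrix (Fin n) (Fin n) F) * (rep c : Matrix (Fin n) (Fin n) F) *
            ((u⁻¹ : GL (Fin n) F) : Matrix (Fin n) (Fin n) F) := by
        rw [← hu]; rfl
      have h6 : (g : Matrix (Fin n) (Fin n) F) = M := rfl
      rw [← h6, h5, Matrix.coe_units_inv, Matrix.charpoly_units_conj]
    rw [h4, hM, hPc]

/-- In `GL_n(q)` with `n ≥ 1`, `q` a power of the prime `p`, the number of conjugacy classes of elements of order prime to `p` (diagonalisable over the algebraic closure; determined by the characteristic polynomial) is `(q - 1) q^(n-1)`. -/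
theorem result {F : Type*} [Field F] [Fintype F] {q : ℕ} (hq : Fintype.card F = q) (p : ℕ) [Fact p.Prime] [CharP F p] (n : ℕ) (hn : 1 ≤ n) :
    Nat.card {c : ConjClasses (GL (Fin n) F) // ∃ g : GL (Fin n) F, ConjClasses.mk g = c ∧ (orderOf g).Coprime p} = (q - 1) * q ^ (n - 1) := by
  exact main hq p n hn

end Cfsg.Agent.S2387
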