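import Cfsg.Statements.S2391
-- import your own Cfsg.Agent.* helpers here
import Mathlib
import Cfsg.Agent.Lib.Helper14.FixChain

set_option autoImplicit false
open Cfsg

namespace Cfsg.Agent.S2391

/-- The Borel–Tits property of `SL_n(q)` in flag form: for a field `F` of characteristic `p` with finitely many elements and a non-trivial `p`-subgroup `U` of `SL_n(F)`, there is a flag `0 = V₀ < V₁ < ⋯ < V_{k+1} = F^n` with at least one proper non-zero member such that every element of the normaliser of `U` maps each `V_i` onto itself and every element of `U` acts trivially on each quotient `V_{i+1}/V_i` (so the normaliser lies in the parabolic subgroup of the flag and `U` in its unipotent radical). -/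
theorem result {F : Type*} [Field F] [Fintype F] (p : ℕ) [Fact p.Prime] [CharP F p] (n : ℕ)
    (U : Subgroup (Matrix.SpecialLinearGroup (Fin n) F)) (hU : IsPGroup p ↥U) (hne : U ≠ ⊥) :
    ∃ (k : ℕ) (V : Fin (k + 2) → Submodule F (Fin n → F)), 1 ≤ k ∧ StrictMono V ∧ V 0 = ⊥ ∧ V (Fin.last (k + 1)) = ⊤ ∧
      (∀ g ∈ Subgroup.normalizer (U : Set (Matrix.SpecialLinearGroup (Fin n) F)), ∀ i, (V i).map (Matrix.mulVecLin (g : Matrix (Fin n) (Fin n) F)) = V i) ∧
      (∀ u ∈ U, ∀ i : Fin (k + 1), ∀ v ∈ V i.succ, (u : Matrix (Fin n) (Fin n) F).mulVec v - v ∈ V (Fin.castSucc i)) := by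
  classical
  let ρ : Representation F (Matrix.SpecialLinearGroup (Fin n) F) (Fin n → F) :=
    { toFun := fun g => Matrix.mulVecLin (g : Matrix (Fin n) (Fin n) F)
      map_one' := by
        ext v
        simp
      map_mul' := fun a b => by
        ext v
        simp [Matrix.mulVecLin_mul] }
  have hne' : ∃ u ∈ U, ρ u ≠ 1 := by
    obtain ⟨u, hu, hu1⟩ := U.bot_or_exists_ne_one.resolve_left hne
    refine ⟨u, hu, fun h => hu1 ?_⟩
    apply Subtype.ext
    have h1 : Matrix.toLin' (u : Matrix (Fin n) (Fin n) F) = Matrix.toLin' (1 : Matrix (Fin n) (Fin n) F) := by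
      rw [Matrix.toLin'_one, Matrix.toLin'_apply']
      exact h
    exact Matrix.toLin'.injective h1
  obtain ⟨k, W, hk, hmono, h0, htop, hN, hUW⟩ :=
    Cfsg.Agent.Lib.Helper14.exists_flag_of_isPGroup p ρ U hU hne'
  exact ⟨k, W, hk, hmono, h0, htop, fun g hg i => hN g hg i, fun u hu i v hv => hUW u hu i v hv⟩

end Cfsg.Agent.S2391
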