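import Cfsg.Statements.S2393
-- import your own Cfsg.Agent.* helpers here
import Cfsg.Agent.Lib.Helper15.OrbitBound
import Cfsg.Agent.S2392

set_option autoImplicit false
open scoped MatrixGroups
open Cfsg

namespace Cfsg.Agent.S2393

open Matrix Cfsg.Agent.Lib.Helper15.OrbitBound

section sp

variable {F : Type*} [Field F] {k : ℕ}

/-- the first basis vector -/
def e0 : Fin (k + 1) → F := Pi.single 0 1

theorem e0_dot (r : Fin (k + 1) → F) : (e0 : Fin (k + 1) → F) ⬝ᵥ r = r 0 := by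
  rw [e0, single_dotProduct, one_mul]

theorem dot_e0 (r : Fin (k + 1) → F) : r ⬝ᵥ (e0 : Fin (k + 1) → F) = r 0 := by
  rw [e0, dotProduct_single, mul_one]

/-- symmetric matrices supported on the first row and column -/
def Sy (s : Fin (k + 1) → F) : Matrix (Fin (k + 1)) (Fin (k + 1)) F :=
  vecMulVec e0 s + vecMulVec s e0

theorem Sy_transpose (s : Fin (k + 1) → F) : (Sy s)ᵀ = Sy s := by
  rw [Sy, transpose_add, transpose_vecMulVec, transpose_vecMulVec]
  exact add_comm _ _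

theorem Sy_add (s t : Fin (k + 1) → F) : Sy (s + t) = Sy s + Sy t := by
  rw [Sy, Sy, Sy, vecMulVec_add, add_vecMulVec]
  abel

theorem Sy_zero : Sy (0 : Fin (k + 1) → F) = 0 := by
  rw [Sy, vecMulVec_zero, zero_vecMulVec, add_zero]

theorem Sy_conj (g : Matrix (Fin (k + 1)) (Fin (k + 1)) F) (c : F) (hg : g *ᵥ e0 = c • e0)
    (s : Fin (k + 1) → F) : g * Sy s * gᵀ = Sy (c • (g *ᵥ s)) := by
  rw [Sy, mul_add, add_mul, mul_vecMulVec, mul_vecMulVec, vecMulVec_mul, vecMulVec_mul,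
    vecMul_transpose, vecMul_transpose, hg, Sy, smul_vecMulVec, vecMulVec_smul, smul_vecMulVec,
    vecMulVec_smul]

/-- upper unitriangular symplectic matrices -/
def Xs (S : Matrix (Fin (k + 1)) (Fin (k + 1)) F) (hS : Sᵀ = S) :
    Matrix.symplecticGroup (Fin (k + 1)) F :=
  ⟨fromBlocks 1 S 0 1, by rw [SymplecticGroup.fromBlocks_mem_iff]; simp [hS]⟩

/-- Levi elements -/
def Lv (g h : Matrix (Fin (k + 1)) (Fin (k + 1)) F) (hhg : h * g = 1) :
    Matrix.symplecticGroup (Fin (k + 1)) F :=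
  ⟨fromBlocks g 0 0 hᵀ, by
    rw [SymplecticGroup.fromBlocks_mem_iff]
    refine ⟨by simp, by simp, ?_⟩
    rw [← transpose_mul, hhg]
    simp⟩

theorem Lv_mul_Xs (g h : Matrix (Fin (k + 1)) (Fin (k + 1)) F) (hhg : h * g = 1)
    (S : Matrix (Fin (k + 1)) (Fin (k + 1)) F) (hS : Sᵀ = S) (hS' : (g * S * gᵀ)ᵀ = g * S * gᵀ) :
    Lv g h hhg * Xs S hS = Xs (g * S * gᵀ) hS' * Lv g h hhg := by
  apply Subtype.ext
  show fromBlocks g 0 0 hᵀ * fromBlocks 1 S 0 1 = fromBlocks 1 (g * S * gᵀ) 0 1 * fromBlocks g 0 0 hᵀ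
  rw [fromBlocks_multiply, fromBlocks_multiply]
  have : g * S * gᵀ * hᵀ = g * S := by
    rw [Matrix.mul_assoc (g * S), ← transpose_mul, hhg, transpose_one, Matrix.mul_one]
  simp [this]

/-- the abelian subgroup -/
def X (s : Fin (k + 1) → F) : Matrix.symplecticGroup (Fin (k + 1)) F := Xs (Sy s) (Sy_transpose s)

theorem X_add (s t : Fin (k + 1) → F) : X (s + t) = X s * X t := by
  apply Subtype.ext
  show fromBlocks 1 (Sy (s + t)) 0 1 = fromBlocks 1 (Sy s) 0 1 * fromBlocks 1 (Sy t) 0 1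
  rw [fromBlocks_multiply, Sy_add]
  simp [add_comm]

theorem X_zero : X (0 : Fin (k + 1) → F) = 1 := by
  apply Subtype.ext
  show fromBlocks 1 (Sy (0 : Fin (k + 1) → F)) 0 1 = (1 : Matrix _ _ F)
  rw [Sy_zero, fromBlocks_one]

theorem Lv_mul_X (g h : Matrix (Fin (k + 1)) (Fin (k + 1)) F) (hhg : h * g = 1) (c : F)
    (hg : g *ᵥ e0 = c • e0) (s : Fin (k + 1) → F) :
    Lv g h hhg * X s = X (c • (g *ᵥ s)) * Lv g h hhg := by
  have h1 : (g * Sy s * gᵀ)ᵀ = g * Sy s * gᵀ := by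
    rw [Sy_conj g c hg, Sy_transpose]
  rw [X, Lv_mul_Xs g h hhg (Sy s) (Sy_transpose s) h1]
  congr 1
  apply Subtype.ext
  show fromBlocks 1 (g * Sy s * gᵀ) 0 1 = fromBlocks 1 (Sy (c • (g *ᵥ s))) 0 1
  rw [Sy_conj g c hg]

theorem X_center {s : Fin (k + 1) → F}
    (h : X s ∈ Subgroup.center (Matrix.symplecticGroup (Fin (k + 1)) F)) : Sy s = 0 := by
  have h1 := Subgroup.mem_center_iff.mp h (SymplecticGroup.symJ (Fin (k + 1)) F)
  have h2 : Matrix.J (Fin (k + 1)) F * fromBlocks 1 (Sy s) 0 1 =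
      fromBlocks 1 (Sy s) 0 1 * Matrix.J (Fin (k + 1)) F := congrArg Subtype.val h1
  rw [Matrix.J, fromBlocks_multiply, fromBlocks_multiply, fromBlocks_inj] at h2
  have := h2.1
  simpa using this.symm

theorem pert_sq (r : Fin (k + 1) → F) :
    vecMulVec (e0 : Fin (k + 1) → F) r * vecMulVec e0 r = r 0 • vecMulVec e0 r := by
  rw [vecMulVec_mul_vecMulVec, dot_e0, vecMulVec_smul]

/-- the rank one perturbations `1 + e₀ rᵀ` and their inverses -/
theorem pert_inv (r : Fin (k + 1) → F) (hr : 1 + r 0 ≠ 0) :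
    (1 - (1 + r 0)⁻¹ • vecMulVec (e0 : Fin (k + 1) → F) r) * (1 + vecMulVec e0 r) = 1 := by
  set A := vecMulVec (e0 : Fin (k + 1) → F) r with hA
  have hAA : A * A = r 0 • A := pert_sq r
  calc (1 - (1 + r 0)⁻¹ • A) * (1 + A)
      = 1 + A - (1 + r 0)⁻¹ • A - (1 + r 0)⁻¹ • (A * A) := by
        rw [sub_mul, one_mul, smul_mul_assoc, mul_add, mul_one, smul_add]
        abel
    _ = 1 + (1 - (1 + r 0)⁻¹ * (1 + r 0)) • A := by
        rw [hAA]; module
    _ = 1 := by rw [inv_mul_cancel₀ hr, sub_self, zero_smul, add_zero]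

theorem pert_inv' (r : Fin (k + 1) → F) (hr : 1 + r 0 ≠ 0) :
    (1 + vecMulVec (e0 : Fin (k + 1) → F) r) * (1 - (1 + r 0)⁻¹ • vecMulVec e0 r) = 1 := by
  set A := vecMulVec (e0 : Fin (k + 1) → F) r with hA
  have hAA : A * A = r 0 • A := pert_sq r
  calc (1 + A) * (1 - (1 + r 0)⁻¹ • A)
      = 1 + A - (1 + r 0)⁻¹ • A - (1 + r 0)⁻¹ • (A * A) := by
        rw [add_mul, one_mul, mul_sub, mul_one, mul_smul_comm]
        abel
    _ = 1 + (1 - (1 + r 0)⁻¹ * (1 + r 0)) • A := by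
        rw [hAA]; module
    _ = 1 := by rw [inv_mul_cancel₀ hr, sub_self, zero_smul, add_zero]

theorem pert_e0 (r : Fin (k + 1) → F) (hr : 1 + r 0 ≠ 0) :
    (1 - (1 + r 0)⁻¹ • vecMulVec (e0 : Fin (k + 1) → F) r) *ᵥ e0 = (1 + r 0)⁻¹ • e0 := by
  rw [sub_mulVec, one_mulVec, smul_mulVec, vecMulVec_mulVec, dot_e0]
  ext i
  simp only [Pi.sub_apply, Pi.smul_apply, MulOpposite.smul_eq_mul_unop, MulOpposite.unop_op,
    smul_eq_mul]
  field_simp
  ring

end sp


section main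

variable {F : Type*} [Field F] [Fintype F]

theorem main_aux (k : ℕ) (h2 : (2 : F) ≠ 0) {K : Type*} [Field K] (hK : ringChar K ≠ ringChar F)
    {d : ℕ} (ρ : ↥(Matrix.symplecticGroup (Fin (k + 1 + 1)) F) →* GL (Fin d) K)
    (hker : ρ.ker ≤ Subgroup.center ↥(Matrix.symplecticGroup (Fin (k + 1 + 1)) F)) :
    ∃ Sq : Finset F, Fintype.card F - 1 ≤ 2 * Sq.card ∧ Sq.card * Fintype.card F ^ (k + 1) ≤ d := by
  classical
  let ψ₀ := AddChar.FiniteField.primitiveChar F K hK
  let L := CyclotomicField ψ₀.n K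
  let ψ : AddChar F L := ψ₀.char
  have hψ : ψ.IsPrimitive := ψ₀.prim
  have hinj : Function.Injective (algebraMap K L) := (algebraMap K L).injective
  let σ : ↥(Matrix.symplecticGroup (Fin (k + 1 + 1)) F) →* Matrix (Fin d) (Fin d) L :=
    ((RingHom.mapMatrix (algebraMap K L)).toMonoidHom.comp (Units.coeHom _)).comp ρ
  have hσ1 : ∀ g, σ g = 1 → g ∈ ρ.ker := by
    intro g hg
    rw [MonoidHom.mem_ker]
    apply Units.ext
    have : (RingHom.mapMatrix (algebraMap K L)) ((ρ g : GL (Fin d) K) : Matrix (Fin d) (Fin d) K) =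
        (RingHom.mapMatrix (algebraMap K L)) 1 := by
      rw [map_one]; exact hg
    exact Matrix.map_injective hinj this
  let x : (Fin (k + 1 + 1) → F) → Matrix (Fin d) (Fin d) L := fun v => σ (X v)
  have hxa : ∀ v w, x (v + w) = x v * x w := fun v w => by
    show σ (X (v + w)) = σ (X v) * σ (X w)
    rw [X_add, map_mul]
  have hx0 : x 0 = 1 := by
    show σ (X 0) = 1
    rw [X_zero, map_one]
  have hcard : (Fintype.card (Fin (k + 1 + 1) → F) : L) ≠ 0 := by
    rw [Fintype.card_fun, Fintype.card_fin]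
    push_cast
    exact pow_ne_zero _ (Cfsg.Agent.S2392.card_ne_zero_of_char hK)
  -- closure under the Levi elements
  have hclos : ∀ u r : Fin (k + 1 + 1) → F, 1 + r 0 ≠ 0 → Pr ψ x u ≠ 0 →
      Pr ψ x ((1 + r 0) • (u + u 0 • r)) ≠ 0 := by
    intro u r hr hu
    set c : F := (1 + r 0)⁻¹ with hc
    set g : Matrix (Fin (k + 1 + 1)) (Fin (k + 1 + 1)) F := 1 - c • vecMulVec e0 r with hg
    set h : Matrix (Fin (k + 1 + 1)) (Fin (k + 1 + 1)) F := 1 + vecMulVec e0 r with hh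
    have hhg : h * g = 1 := pert_inv' r hr
    have hgh : g * h = 1 := pert_inv r hr
    have hc0 : c ≠ 0 := inv_ne_zero hr
    let N : (Fin (k + 1 + 1) → F) ≃ (Fin (k + 1 + 1) → F) :=
      { toFun := fun v => c • (g *ᵥ v)
        invFun := fun v => c⁻¹ • (h *ᵥ v)
        left_inv := fun v => by
          show c⁻¹ • (h *ᵥ (c • (g *ᵥ v))) = v
          rw [mulVec_smul, smul_smul, inv_mul_cancel₀ hc0, one_smul, mulVec_mulVec, hhg, one_mulVec]
        right_inv := fun v => by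
          show c • (g *ᵥ (c⁻¹ • (h *ᵥ v))) = v
          rw [mulVec_smul, smul_smul, mul_inv_cancel₀ hc0, one_smul, mulVec_mulVec, hgh,
            one_mulVec] }
    have hunit : IsUnit (σ (Lv g h hhg)) := by
      refine ⟨⟨σ (Lv g h hhg), σ (Lv g h hhg)⁻¹, ?_, ?_⟩, rfl⟩
      · rw [← map_mul, mul_inv_cancel, map_one]
      · rw [← map_mul, inv_mul_cancel, map_one]
    refine Pr_ne_zero_of_conj ψ x hunit (N := N) ?_ ?_ hu
    · intro v
      show σ (Lv g h hhg) * σ (X v) = σ (X (c • (g *ᵥ v))) * σ (Lv g h hhg)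
      rw [← map_mul, ← map_mul, Lv_mul_X g h hhg c (pert_e0 r hr)]
    · intro v
      show u ⬝ᵥ v = ((1 + r 0) • (u + u 0 • r)) ⬝ᵥ (c • (g *ᵥ v))
      have h5 : u ᵥ* h = u + u 0 • r := by
        rw [hh, vecMul_add, vecMul_one, vecMul_vecMulVec, dot_e0]
      rw [← h5, smul_dotProduct, dotProduct_smul, smul_eq_mul, smul_eq_mul, ← mul_assoc, hc,
        mul_inv_cancel₀ hr, one_mul, ← dotProduct_mulVec, mulVec_mulVec, hhg, one_mulVec]
  -- some character non-trivial on the long root subgroup occurs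
  have hne1 : x (Pi.single 0 1) ≠ 1 := by
    intro hx1
    have h1 := hker (hσ1 _ hx1)
    have h3 := X_center h1
    have h4 := congrFun (congrFun h3 0) 0
    simp only [Sy, e0, Matrix.add_apply, vecMulVec_apply, Pi.single_eq_same, mul_one,
      Matrix.zero_apply] at h4
    apply h2
    rw [← h4]; norm_num
  obtain ⟨u₀, hu₀, hu₀'⟩ := exists_of_ne_one ψ x hψ hcard hx0 hne1
  have hu₀0 : u₀ 0 ≠ 0 := by
    rwa [dotProduct_single, mul_one] at hu₀'
  let Sq : Finset F := (Finset.univ.filter (fun e : F => e ≠ 0)).image (fun e => e ^ 2 * u₀ 0)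
  refine ⟨Sq, ?_, ?_⟩
  · have h1 := Finset.card_le_mul_card_image (f := fun e : F => e ^ 2 * u₀ 0)
      (Finset.univ.filter (fun e : F => e ≠ 0)) 2 (by
        intro a ha
        obtain ⟨e₁, _, rfl⟩ := Finset.mem_image.mp ha
        refine le_trans (Finset.card_le_card (t := {e₁, -e₁}) ?_) Finset.card_le_two
        intro e he
        have he2 := (Finset.mem_filter.mp he).2
        have h3 : e ^ 2 = e₁ ^ 2 := mul_right_cancel₀ hu₀0 he2
        rcases sq_eq_sq_iff_eq_or_eq_neg.mp h3 with h4 | h4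
        · rw [h4]; simp
        · rw [h4]; simp)
    have h3 : (Finset.univ.filter (fun e : F => e ≠ 0)).card = Fintype.card F - 1 := by
      rw [Finset.filter_ne' Finset.univ (0 : F), Finset.card_erase_of_mem (Finset.mem_univ _),
        Finset.card_univ]
    rw [h3] at h1
    exact h1
  · have hgood : ∀ (a : F) (t : Fin (k + 1) → F), a ∈ Sq →
        Pr ψ x (Fin.cons a t : Fin (k + 1 + 1) → F) ≠ 0 := by
      intro a t ha
      obtain ⟨e, he, rfl⟩ := Finset.mem_image.mp ha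
      have he0 : e ≠ 0 := (Finset.mem_filter.mp he).2
      set u' : Fin (k + 1 + 1) → F := Fin.cons (e ^ 2 * u₀ 0) t with hu'
      set r : Fin (k + 1 + 1) → F := (u₀ 0)⁻¹ • (e⁻¹ • u' - u₀) with hr
      have hr0 : 1 + r 0 = e := by
        rw [hr, Pi.smul_apply, Pi.sub_apply, Pi.smul_apply, hu', Fin.cons_zero, smul_eq_mul,
          smul_eq_mul]
        field_simp
        ring
      have h1 := hclos u₀ r (by rw [hr0]; exact he0) hu₀
      have h3 : (1 + r 0) • (u₀ + u₀ 0 • r) = u' := by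
        rw [hr0, hr, smul_smul, mul_inv_cancel₀ hu₀0, one_smul, add_sub_cancel, smul_smul,
          mul_inv_cancel₀ he0, one_smul]
      rwa [h3] at h1
    have key := card_le_of_orthogonal (κ := {a : F // a ∈ Sq} × (Fin (k + 1) → F))
      (fun p => Pr ψ x (Fin.cons p.1.1 p.2 : Fin (k + 1 + 1) → F))
      (fun p p' => by
        rw [Pr_mul_Pr ψ x hψ hcard hxa]
        by_cases hpp : p = p'
        · rw [if_pos hpp, if_pos (by rw [hpp])]
        · rw [if_neg hpp, if_neg]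
          intro h
          apply hpp
          have h1 := Fin.cons_injective2 h
          exact Prod.ext (Subtype.ext h1.1) h1.2)
      (fun p => hgood p.1.1 p.2 p.1.2)
    rw [Fintype.card_prod, Fintype.card_coe, Fintype.card_fun, Fintype.card_fin] at key
    exact key

theorem main {q : ℕ} (hq : Fintype.card F = q) (hodd : Odd q) (n : ℕ) (hn : 2 ≤ n)
    {K : Type*} [Field K] (hK : ringChar K ≠ ringChar F) {d : ℕ}
    (ρ : ↥(Matrix.symplecticGroup (Fin n) F) →* GL (Fin d) K)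
    (hker : ρ.ker ≤ Subgroup.center ↥(Matrix.symplecticGroup (Fin n) F)) :
    q ^ (n - 1) * (q - 1) / 2 ≤ d := by
  obtain ⟨k, rfl⟩ : ∃ k, n = k + 1 + 1 := ⟨n - 2, by omega⟩
  have h2 : (2 : F) ≠ 0 := by
    intro h
    have : CharP F 2 := CharTwo.of_one_ne_zero_of_two_eq_zero one_ne_zero h
    obtain ⟨m, _, hm⟩ := FiniteField.card F 2
    rw [hq] at hm
    rw [hm] at hodd
    exact (Nat.not_even_iff_odd.mpr hodd) (Nat.even_pow.mpr ⟨even_two, m.ne_zero⟩)
  obtain ⟨Sq, h1, h3⟩ := main_aux k h2 hK ρ hker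
  rw [hq] at h1 h3
  apply Nat.div_le_of_le_mul
  have e1 : k + 1 + 1 - 1 = k + 1 := by omega
  rw [e1]
  calc q ^ (k + 1) * (q - 1) ≤ q ^ (k + 1) * (2 * Sq.card) := Nat.mul_le_mul_left _ h1
    _ = 2 * (Sq.card * q ^ (k + 1)) := by ring
    _ ≤ 2 * d := Nat.mul_le_mul_left _ h3

end main

/-- A lower bound for representations in cross characteristic: for `n ≥ 2` and a field `F` with `q` elements, `q` odd, every homomorphism from the symplectic group `Sp_{2n}(F)` to `GL_d(K)`, `K` a field of characteristic different from that of `F`, whose kernel is central has `d ≥ q^(n-1)(q-1)/2`. -/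
theorem result {F : Type*} [Field F] [Fintype F] {q : ℕ} (hq : Fintype.card F = q) (hodd : Odd q) (n : ℕ) (hn : 2 ≤ n)
    {K : Type*} [Field K] (hK : ringChar K ≠ ringChar F) {d : ℕ}
    (ρ : ↥(Matrix.symplecticGroup (Fin n) F) →* GL (Fin d) K) (hker : ρ.ker ≤ Subgroup.center ↥(Matrix.symplecticGroup (Fin n) F)) :
    q ^ (n - 1) * (q - 1) / 2 ≤ d := by
  exact main hq hodd n hn hK ρ hker

end Cfsg.Agent.S2393
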