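import Cfsg.Statements.S2394
-- import your own Cfsg.Agent.* helpers here
import Cfsg.Agent.Lib.Helper19.Zsigmondy
import Cfsg.Agent.Lib.Helper14.SympCount

set_option autoImplicit false
open scoped MatrixGroups
open Cfsg

namespace Cfsg.Agent.S2394

open Cfsg.Agent.Lib.Helper19.Zsigmondy

/-- a prime dividing the order of `GL_d(q)` but not `q` divides some `q^j - 1` with `0 < j ≤ d` -/
theorem prime_dvd_GL {q d r : ℕ} (hr : r.Prime) (hq : ¬ r ∣ q)
    (h : r ∣ ∏ i : Fin d, (q ^ d - q ^ (i : ℕ))) : ∃ j, 0 < j ∧ j ≤ d ∧ r ∣ q ^ j - 1 := by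
  obtain ⟨i, _, hi⟩ := (Prime.dvd_finsetProd_iff hr.prime _).mp h
  have hid : (i : ℕ) < d := i.2
  have e : q ^ d - q ^ (i : ℕ) = q ^ (i : ℕ) * (q ^ (d - i) - 1) := by
    rw [Nat.mul_sub, mul_one, ← pow_add]
    congr 2
    omega
  rw [e] at hi
  rcases hr.dvd_mul.mp hi with h1 | h1
  · exact absurd (hr.dvd_of_dvd_pow h1) hq
  · exact ⟨d - i, by omega, by omega, h1⟩

theorem main {F : Type*} [Field F] [Fintype F] (n : ℕ) {d : ℕ}
    (ρ : ↥(Matrix.symplecticGroup (Fin n) F) →* GL (Fin d) F) (hρ : Function.Injective ρ) :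
    2 * n ≤ d := by
  classical
  set q := Fintype.card F with hq
  have hq2 : 2 ≤ q := Fintype.one_lt_card
  have hdvd : Nat.card (Matrix.symplecticGroup (Fin n) F) ∣ Nat.card (GL (Fin d) F) := by
    have h1 := Subgroup.card_subgroup_dvd_card ρ.range
    rwa [← Nat.card_congr (MonoidHom.ofInjective hρ).toEquiv] at h1
  rw [Cfsg.Agent.Lib.Helper14.card_symplectic, Matrix.card_GL_field, ← hq] at hdvd
  rcases Nat.lt_or_ge n 2 with hn | hn
  · -- small cases
    interval_cases n
    · omega
    · by_contra hd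
      have hd1 : d ≤ 1 := by omega
      have hle := Nat.le_of_dvd (Finset.prod_pos (fun i _ => Nat.sub_pos_of_lt
        (Nat.pow_lt_pow_right hq2 i.2))) hdvd
      simp only [one_pow, pow_one, Finset.range_one, Finset.prod_singleton, zero_add,
        mul_one] at hle
      have h3 : q ≤ q ^ 2 - 1 := by nlinarith [Nat.sub_add_cancel (Nat.one_le_two_pow.trans
        (Nat.pow_le_pow_left hq2 2))]
      have h4 : q * q ≤ q * (q ^ 2 - 1) := Nat.mul_le_mul_left _ h3
      interval_cases d
      · simp at hle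
        nlinarith
      · simp at hle
        have : q - 1 < q := by omega
        nlinarith
  · by_cases h6 : q = 2 ∧ 2 * n = 6
    · obtain ⟨hq', hn'⟩ := h6
      have hn3 : n = 3 := by omega
      subst hn3
      by_contra hd
      have hd5 : d ≤ 5 := by omega
      rw [hq'] at hdvd
      interval_cases d <;> simp [Fin.prod_univ_succ, Finset.prod_range_succ] at hdvd
    · obtain ⟨r, hr, hr1, hr2⟩ := zsigmondy q (2 * n) (by omega) (by omega) h6
        (fun h => by omega)
      have hrq : ¬ r ∣ q := by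
        intro h
        have h5 : r ∣ q ^ (2 * n) := dvd_pow h (by omega)
        have h7 : 1 ≤ q ^ (2 * n) := Nat.one_le_pow _ _ (by omega)
        have : r ∣ 1 := by
          have := Nat.dvd_sub h5 hr1
          rwa [Nat.sub_sub_self h7] at this
        exact hr.one_lt.ne' (Nat.dvd_one.mp this)
      have hrS : r ∣ q ^ n ^ 2 * ∏ i ∈ Finset.range n, (q ^ (2 * (i + 1)) - 1) := by
        apply dvd_mul_of_dvd_right
        apply dvd_trans _ (Finset.dvd_prod_of_mem _ (Finset.mem_range.mpr (show n - 1 < n by omega)))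
        have : 2 * (n - 1 + 1) = 2 * n := by omega
        rw [this]
        exact hr1
      obtain ⟨j, hj0, hjd, hj⟩ := prime_dvd_GL hr hrq (dvd_trans hrS hdvd)
      by_contra hlt
      exact hr2 j hj0 (by omega) hj

/-- The smallest degree of a faithful representation of the symplectic group `Sp_{2n}(q)` over its own field `F_q` is `2n`: every injective homomorphism from `Sp_{2n}(F)` to `GL_d(F)`, `F` the field with `q` elements, has `d ≥ 2n`. -/
theorem result {F : Type*} [Field F] [Fintype F] (n : ℕ) {d : ℕ}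
    (ρ : ↥(Matrix.symplecticGroup (Fin n) F) →* GL (Fin d) F) (hρ : Function.Injective ρ) : 2 * n ≤ d := by
  exact main n ρ hρ

end Cfsg.Agent.S2394
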