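import Cfsg.Statements.S2403
-- import your own Cfsg.Agent.* helpers here
import Cfsg.Agent.Lib.Helper2.SLGen

set_option autoImplicit false
open Cfsg

namespace Cfsg.Agent.S2403

open Matrix

section small

variable {K : Type*} [Field K] [Fintype K]

lemma small_field (hK : Fintype.card K ≤ 3) (t : K) : t = 0 ∨ t = 1 ∨ t = -1 := by
  classical
  by_contra h
  push Not at h
  obtain ⟨h0, h1, h2⟩ := h
  by_cases hc : (-1 : K) = 1
  · -- characteristic two
    have h3 : t + 1 ≠ 0 := by
      intro h; apply h2; rw [eq_neg_iff_add_eq_zero]; exact h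
    have h4 : t + 1 ≠ 1 := by
      intro h; apply h0; simpa using h
    have h5 : t + 1 ≠ t := by
      intro h; simp at h
    have hcard : ({0, 1, t, t + 1} : Finset K).card = 4 := by
      rw [Finset.card_insert_of_notMem, Finset.card_insert_of_notMem, Finset.card_insert_of_notMem,
        Finset.card_singleton]
      · simp [h5.symm]
      · simp [h1.symm, h4.symm]
      · simp [h0.symm, h3.symm]
    have := Finset.card_le_univ ({0, 1, t, t + 1} : Finset K)
    omega
  · have hcard : ({0, 1, -1, t} : Finset K).card = 4 := by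
      rw [Finset.card_insert_of_notMem, Finset.card_insert_of_notMem, Finset.card_insert_of_notMem,
        Finset.card_singleton]
      · simp [h2.symm]
      · simp [h1.symm, Ne.symm hc]
      · simp [h0.symm]
    have := Finset.card_le_univ ({0, 1, -1, t} : Finset K)
    omega

end small

section gen

variable {K : Type*} [Field K] {n : ℕ}

/-- the sign attached to row `i` of the monomial matrix -/
def sg (K : Type*) [Field K] (n : ℕ) (i : Fin (n + 1)) : K := if i.val = n then (-1) ^ n else 1

lemma sg_mul_self (i : Fin (n + 1)) : sg K n i * sg K n i = 1 := by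
  unfold sg
  split_ifs
  · rw [← pow_add, ← two_mul, pow_mul]; simp
  · simp

/-- the monomial matrix -/
def Wm (K : Type*) [Field K] (n : ℕ) : Matrix (Fin (n + 1)) (Fin (n + 1)) K :=
  Matrix.of (fun i j => if j.val = i.val + 1 then 1 else if i.val = n ∧ j.val = 0 then (-1) ^ n else 0)

lemma Wm_apply (i j : Fin (n + 1)) : Wm K n i j = if j = i + 1 then sg K n i else 0 := by
  unfold Wm sg
  rw [Matrix.of_apply]
  rcases Nat.lt_or_ge i.val n with h | h
  · have hne : ¬ i.val = n := by omega
    have hne' : i ≠ Fin.last n := by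
      intro e; apply hne; rw [e]; rfl
    have h1 : (i + 1).val = i.val + 1 := by rw [Fin.val_add_one, if_neg hne']
    by_cases hj : j = i + 1
    · rw [if_pos hj, if_neg hne, if_pos (by rw [hj, h1])]
    · rw [if_neg hj, if_neg (by intro e; apply hj; apply Fin.ext; rw [h1]; exact e),
        if_neg (by intro e; exact hne e.1)]
  · have hi : i.val = n := by have := i.isLt; omega
    have hil : i = Fin.last n := Fin.ext hi
    have h1 : i + 1 = 0 := by rw [hil]; exact Fin.last_add_one n
    have hj1 : ¬ j.val = i.val + 1 := by have := j.isLt; omega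
    rw [if_neg hj1, h1, if_pos hi]
    by_cases hj : j = 0
    · rw [if_pos hj, if_pos ⟨hi, by rw [hj]; rfl⟩]
    · rw [if_neg hj, if_neg (by intro e; apply hj; exact Fin.ext e.2)]

lemma Wm_mulVec_single (i : Fin (n + 1)) (c : K) :
    Wm K n *ᵥ Pi.single (i + 1) c = Pi.single i (sg K n i * c) := by
  ext p
  rw [Matrix.mulVec_single, Pi.smul_apply, Matrix.col_apply, Wm_apply, MulOpposite.smul_eq_mul_unop,
    MulOpposite.unop_op]
  by_cases hp : p = i
  · subst hp; rw [if_pos rfl, Pi.single_eq_same]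
  · rw [Pi.single_eq_of_ne hp, if_neg (by intro e; exact hp (add_right_cancel e).symm), zero_mul]

lemma single_vecMul_Wm (j : Fin (n + 1)) :
    Pi.single j (1 : K) ᵥ* Wm K n = Pi.single (j + 1) (sg K n j) := by
  ext q
  rw [Matrix.single_one_vecMul, Matrix.row_apply, Wm_apply]
  by_cases hq : q = j + 1
  · subst hq; rw [if_pos rfl, Pi.single_eq_same]
  · rw [if_neg hq, Pi.single_eq_of_ne hq]

lemma single_eq_vmv (a b : Fin (n + 1)) (c : K) :
    Matrix.single a b c = vecMulVec (Pi.single a c) (Pi.single b 1) := by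
  ext p q
  simp only [Matrix.single_apply, vecMulVec_apply, Pi.single_apply]
  by_cases h1 : a = p <;> by_cases h2 : b = q <;> simp [h1, h2, eq_comm]

lemma vmv_single (a b : Fin (n + 1)) (c d : K) :
    vecMulVec (Pi.single a c) (Pi.single b d) = Matrix.single a b (c * d) := by
  ext p q
  simp only [Matrix.single_apply, vecMulVec_apply, Pi.single_apply]
  by_cases h1 : a = p <;> by_cases h2 : b = q <;> simp [h1, h2, eq_comm]

/-- conjugation by the monomial matrix shifts elementary transvections -/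
lemma Wm_mul_transvection (i j : Fin (n + 1)) (c : K) :
    Wm K n * Matrix.transvection (i + 1) (j + 1) c =
      Matrix.transvection i j (sg K n i * c * sg K n j) * Wm K n := by
  unfold Matrix.transvection
  rw [mul_add, add_mul, mul_one, one_mul]
  congr 1
  rw [single_eq_vmv (i + 1), Matrix.mul_vecMulVec, Wm_mulVec_single, single_eq_vmv i j,
    Matrix.vecMulVec_mul, single_vecMul_Wm, vmv_single, vmv_single, mul_one, mul_assoc, mul_assoc,
    sg_mul_self, mul_one]

end gen

section main

variable {K : Type*} [Field K] {n : ℕ}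

open Matrix.SpecialLinearGroup
open scoped commutatorElement

/-- all elementary transvections in position `(i, j)` lie in `H` -/
def Q (H : Subgroup (SpecialLinearGroup (Fin (n + 1)) K)) (i j : Fin (n + 1)) : Prop :=
  ∀ c : K, ∃ g ∈ H, (g : Matrix (Fin (n + 1)) (Fin (n + 1)) K) = Matrix.transvection i j c

lemma coe_mul_inv (w : SpecialLinearGroup (Fin (n + 1)) K) :
    (w : Matrix (Fin (n + 1)) (Fin (n + 1)) K) * ((w⁻¹ : SpecialLinearGroup (Fin (n + 1)) K) :
      Matrix (Fin (n + 1)) (Fin (n + 1)) K) = 1 := by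
  rw [← Matrix.SpecialLinearGroup.coe_mul, mul_inv_cancel, Matrix.SpecialLinearGroup.coe_one]

lemma coe_inv_mul (w : SpecialLinearGroup (Fin (n + 1)) K) :
    ((w⁻¹ : SpecialLinearGroup (Fin (n + 1)) K) : Matrix (Fin (n + 1)) (Fin (n + 1)) K) *
      (w : Matrix (Fin (n + 1)) (Fin (n + 1)) K) = 1 := by
  rw [← Matrix.SpecialLinearGroup.coe_mul, inv_mul_cancel, Matrix.SpecialLinearGroup.coe_one]

lemma Q_shift_down (H : Subgroup (SpecialLinearGroup (Fin (n + 1)) K))
    (w : SpecialLinearGroup (Fin (n + 1)) K) (hwH : w ∈ H)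
    (hw : (w : Matrix (Fin (n + 1)) (Fin (n + 1)) K) = Wm K n) (i j : Fin (n + 1))
    (h : Q H (i + 1) (j + 1)) : Q H i j := by
  intro c
  obtain ⟨g, hg, hgc⟩ := h (sg K n i * c * sg K n j)
  refine ⟨w * g * w⁻¹, mul_mem (mul_mem hwH hg) (inv_mem hwH), ?_⟩
  rw [Matrix.SpecialLinearGroup.coe_mul, Matrix.SpecialLinearGroup.coe_mul, hgc, hw, Wm_mul_transvection, ← hw,
    Matrix.mul_assoc, coe_mul_inv, Matrix.mul_one]
  congr 1
  calc sg K n i * (sg K n i * c * sg K n j) * sg K n j
      = (sg K n i * sg K n i) * c * (sg K n j * sg K n j) := by ring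
    _ = c := by rw [sg_mul_self, sg_mul_self, one_mul, mul_one]

lemma Q_shift_up (H : Subgroup (SpecialLinearGroup (Fin (n + 1)) K))
    (w : SpecialLinearGroup (Fin (n + 1)) K) (hwH : w ∈ H)
    (hw : (w : Matrix (Fin (n + 1)) (Fin (n + 1)) K) = Wm K n) (i j : Fin (n + 1))
    (h : Q H i j) : Q H (i + 1) (j + 1) := by
  intro c
  obtain ⟨g, hg, hgc⟩ := h (sg K n i * c * sg K n j)
  refine ⟨w⁻¹ * g * w, mul_mem (mul_mem (inv_mem hwH) hg) hwH, ?_⟩
  rw [Matrix.SpecialLinearGroup.coe_mul, Matrix.SpecialLinearGroup.coe_mul, hgc, Matrix.mul_assoc]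
  conv_lhs => rw [hw, ← Wm_mul_transvection, ← hw]
  rw [← Matrix.mul_assoc, coe_inv_mul, Matrix.one_mul]

lemma Q_shift_add (H : Subgroup (SpecialLinearGroup (Fin (n + 1)) K))
    (w : SpecialLinearGroup (Fin (n + 1)) K) (hwH : w ∈ H)
    (hw : (w : Matrix (Fin (n + 1)) (Fin (n + 1)) K) = Wm K n) (a b : Fin (n + 1))
    (h : Q H a b) (k : Fin (n + 1)) : Q H (a + k) (b + k) := by
  induction k using Fin.induction with
  | zero => simpa using h
  | succ k ih =>
    have := Q_shift_up H w hwH hw _ _ ih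
    rw [add_assoc, add_assoc, Fin.coeSucc_eq_succ] at this
    exact this

theorem gen_main [Fintype K] (hK : Fintype.card K ≤ 3) (hn : 1 ≤ n)
    (x w : SpecialLinearGroup (Fin (n + 1)) K)
    (hx : (x : Matrix (Fin (n + 1)) (Fin (n + 1)) K) = Matrix.transvection (0 : Fin (n + 1)) (1 : Fin (n + 1)) 1)
    (hw : (w : Matrix (Fin (n + 1)) (Fin (n + 1)) K) = Wm K n) :
    Subgroup.closure ({x, w} : Set (SpecialLinearGroup (Fin (n + 1)) K)) = ⊤ := by
  classical
  set H := Subgroup.closure ({x, w} : Set (SpecialLinearGroup (Fin (n + 1)) K)) with hH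
  have hxH : x ∈ H := Subgroup.subset_closure (by simp)
  have hwH : w ∈ H := Subgroup.subset_closure (by simp)
  have h01 : (0 : Fin (n + 1)) ≠ 1 := by
    intro e
    have := congrArg Fin.val e
    rw [Fin.val_zero, Fin.val_one', Nat.mod_eq_of_lt (by omega)] at this
    omega
  have hxT : x = SpecialLinearGroup.transvection h01 1 := Subtype.ext hx
  have hQ01 : Q H 0 1 := by
    intro c
    rcases small_field hK c with rfl | rfl | rfl
    · exact ⟨1, one_mem _, by rw [Matrix.SpecialLinearGroup.coe_one, Matrix.transvection_zero]⟩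
    · exact ⟨x, hxH, hx⟩
    · refine ⟨x⁻¹, inv_mem hxH, ?_⟩
      rw [hxT, SpecialLinearGroup.transvection_inv]
      rfl
  -- all `(0, d)`
  have hQ0 : ∀ d : Fin (n + 1), d ≠ 0 → Q H 0 d := by
    intro d
    induction d using Fin.induction with
    | zero => intro h; exact absurd rfl h
    | succ d ih =>
      intro _
      by_cases hd0 : d.castSucc = 0
      · have : d.succ = 1 := by
          rw [← Fin.coeSucc_eq_succ, hd0, zero_add]
        rw [this]; exact hQ01
      · have ih' := ih hd0
        have hstep := Q_shift_add H w hwH hw 0 1 hQ01 d.castSucc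
        rw [zero_add, add_comm, Fin.coeSucc_eq_succ] at hstep
        have h0d : (0 : Fin (n + 1)) ≠ d.castSucc := Ne.symm hd0
        have hdd : d.castSucc ≠ d.succ := (Fin.castSucc_lt_succ (i := d)).ne
        have h0d1 : (0 : Fin (n + 1)) ≠ d.succ := (Fin.succ_ne_zero d).symm
        intro c
        obtain ⟨g₁, hg₁, hg₁c⟩ := ih' c
        obtain ⟨g₂, hg₂, hg₂c⟩ := hstep 1
        have e1 : g₁ = SpecialLinearGroup.transvection h0d c := Subtype.ext hg₁c
        have e2 : g₂ = SpecialLinearGroup.transvection hdd 1 := Subtype.ext hg₂c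
        refine ⟨⁅g₁, g₂⁆, ?_, ?_⟩
        · rw [commutatorElement_def]
          exact mul_mem (mul_mem (mul_mem hg₁ hg₂) (inv_mem hg₁)) (inv_mem hg₂)
        · rw [e1, e2, ← Cfsg.Agent.Lib.Helper2.transvection_eq_commutator h0d1 h0d hdd c]
          rfl
  -- all `(i, j)`
  have hQ : ∀ i j : Fin (n + 1), i ≠ j → Q H i j := by
    intro i j hij
    have hd : j - i ≠ 0 := sub_ne_zero.mpr (Ne.symm hij)
    have h2 := Q_shift_add H w hwH hw 0 (j - i) (hQ0 _ hd) i
    rw [zero_add, sub_add_cancel] at h2
    exact h2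
  have : Nontrivial (Fin (n + 1)) := ⟨⟨0, 1, h01⟩⟩
  rw [eq_top_iff]
  intro g _
  refine Cfsg.Agent.Lib.Helper2.sl_transvection_induction (fun g => g ∈ H) ?_
    (fun a b ha hb => mul_mem ha hb) g
  intro i j hij c
  obtain ⟨g', hg', hg'c⟩ := hQ i j hij c
  have : g' = SpecialLinearGroup.transvection hij c := Subtype.ext hg'c
  rw [← this]
  exact hg'

end main

theorem main {K : Type*} [Field K] [Fintype K] (hK : Fintype.card K ≤ 3) (n : ℕ) (hn : 1 ≤ n)
    (x w : Matrix.SpecialLinearGroup (Fin (n + 1)) K)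
    (hx : (x : Matrix (Fin (n + 1)) (Fin (n + 1)) K) = Matrix.transvection (0 : Fin (n + 1)) (1 : Fin (n + 1)) 1)
    (hw : (w : Matrix (Fin (n + 1)) (Fin (n + 1)) K) =
      Matrix.of (fun i j => if j.val = i.val + 1 then 1 else if i.val = n ∧ j.val = 0 then (-1) ^ n else 0)) :
    Subgroup.closure ({x, w} : Set (Matrix.SpecialLinearGroup (Fin (n + 1)) K)) ⊔
      Subgroup.center (Matrix.SpecialLinearGroup (Fin (n + 1)) K) = ⊤ := by
  rw [gen_main hK hn x w hx hw, top_sup_eq]

/-- Explicit two-element generation of `PSL_{n+1}(K)` over the fields with two or three elements: with `x = 1 + E₁₂` and `w` the monomial matrix with entries `1` in positions `(i, i+1)` and `(−1)^n` in position `(n+1, 1)`, the elements `x` and `w` generate `SL_{n+1}(K)` modulo its centre. -/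
theorem result {K : Type*} [Field K] [Fintype K] (hK : Fintype.card K ≤ 3) (n : ℕ) (hn : 1 ≤ n)
    (x w : Matrix.SpecialLinearGroup (Fin (n + 1)) K)
    (hx : (x : Matrix (Fin (n + 1)) (Fin (n + 1)) K) = Matrix.transvection (0 : Fin (n + 1)) (1 : Fin (n + 1)) 1)
    (hw : (w : Matrix (Fin (n + 1)) (Fin (n + 1)) K) =
      Matrix.of (fun i j => if j.val = i.val + 1 then 1 else if i.val = n ∧ j.val = 0 then (-1) ^ n else 0)) :
    Subgroup.closure ({x, w} : Set (Matrix.SpecialLinearGroup (Fin (n + 1)) K)) ⊔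
      Subgroup.center (Matrix.SpecialLinearGroup (Fin (n + 1)) K) = ⊤ := by
  exact main hK n hn x w hx hw

end Cfsg.Agent.S2403
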