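import Cfsg.Statements.S2402
-- import your own Cfsg.Agent.* helpers here
import Cfsg.Agent.S2403

set_option autoImplicit false
open Cfsg

namespace Cfsg.Agent.S2402

open Matrix Cfsg.Agent.S2403
open Matrix.SpecialLinearGroup
open scoped commutatorElement

section core

variable {K : Type*} [Field K] {n : ℕ}

/-- generation from the monomial element and one full root subgroup -/
theorem gen_core (hn : 1 ≤ n) (H : Subgroup (SpecialLinearGroup (Fin (n + 1)) K))
    (w : SpecialLinearGroup (Fin (n + 1)) K) (hwH : w ∈ H)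
    (hw : (w : Matrix (Fin (n + 1)) (Fin (n + 1)) K) = Wm K n) (hQ01 : Q H 0 1) : H = ⊤ := by
  classical
  have h01 : (0 : Fin (n + 1)) ≠ 1 := by
    intro e
    have := congrArg Fin.val e
    rw [Fin.val_zero, Fin.val_one', Nat.mod_eq_of_lt (by omega)] at this
    omega
  have hQ0 : ∀ d : Fin (n + 1), d ≠ 0 → Q H 0 d := by
    intro d
    induction d using Fin.induction with
    | zero => intro h; exact absurd rfl h
    | succ d ih =>
      intro _
      by_cases hd0 : d.castSucc = 0
      · have : d.succ = 1 := by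
          rw [← Fin.coeSucc_eq_succ, hd0, zero_add]
        rw [this]; exact hQ01
      · have ih' := ih hd0
        have hstep := Q_shift_add H w hwH hw 0 1 hQ01 d.castSucc
        rw [zero_add, add_comm, Fin.coeSucc_eq_succ] at hstep
        have h0d : (0 : Fin (n + 1)) ≠ d.castSucc := Ne.symm hd0
        have hdd : d.castSucc ≠ d.succ := (Fin.castSucc_lt_succ (i := d)).ne
        have h0d1 : (0 : Fin (n + 1)) ≠ d.succ := (Fin.succ_ne_zero d).symm
        intro c
        obtain ⟨g₁, hg₁, hg₁c⟩ := ih' c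
        obtain ⟨g₂, hg₂, hg₂c⟩ := hstep 1
        have e1 : g₁ = SpecialLinearGroup.transvection h0d c := Subtype.ext hg₁c
        have e2 : g₂ = SpecialLinearGroup.transvection hdd 1 := Subtype.ext hg₂c
        refine ⟨⁅g₁, g₂⁆, ?_, ?_⟩
        · rw [commutatorElement_def]
          exact mul_mem (mul_mem (mul_mem hg₁ hg₂) (inv_mem hg₁)) (inv_mem hg₂)
        · rw [e1, e2, ← Cfsg.Agent.Lib.Helper2.transvection_eq_commutator h0d1 h0d hdd c]
          rfl
  have hQ : ∀ i j : Fin (n + 1), i ≠ j → Q H i j := by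
    intro i j hij
    have hd : j - i ≠ 0 := sub_ne_zero.mpr (Ne.symm hij)
    have h2 := Q_shift_add H w hwH hw 0 (j - i) (hQ0 _ hd) i
    rw [zero_add, sub_add_cancel] at h2
    exact h2
  have : Nontrivial (Fin (n + 1)) := ⟨⟨0, 1, h01⟩⟩
  rw [eq_top_iff]
  intro g _
  refine Cfsg.Agent.Lib.Helper2.sl_transvection_induction (fun g => g ∈ H) ?_
    (fun a b ha hb => mul_mem ha hb) g
  intro i j hij c
  obtain ⟨g', hg', hg'c⟩ := hQ i j hij c
  have : g' = SpecialLinearGroup.transvection hij c := Subtype.ext hg'c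
  rw [← this]
  exact hg'

lemma diag_mul_transvection (δ : Fin (n + 1) → K) (i j : Fin (n + 1)) (t : K) (hj : δ j ≠ 0) :
    Matrix.diagonal δ * Matrix.transvection i j t =
      Matrix.transvection i j (δ i * t * (δ j)⁻¹) * Matrix.diagonal δ := by
  unfold Matrix.transvection
  rw [mul_add, add_mul, mul_one, one_mul]
  congr 1
  rw [single_eq_vmv i j t, Matrix.mul_vecMulVec, Matrix.diagonal_mulVec_single,
    single_eq_vmv i j (δ i * t * (δ j)⁻¹), Matrix.vecMulVec_mul, Matrix.single_vecMul_diagonal,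
    vmv_single, vmv_single]
  congr 1
  field_simp

lemma Wm_mul_diagonal (δ : Fin (n + 1) → K) :
    Wm K n * Matrix.diagonal δ = Matrix.diagonal (fun i => δ (i + 1)) * Wm K n := by
  ext i j
  rw [Matrix.mul_diagonal, Matrix.diagonal_mul, Wm_apply]
  split_ifs with hj
  · subst hj; ring
  · simp

end core

section sq

variable {K : Type*} [Field K] [Fintype K]

lemma sum_two_sq (t : K) : ∃ a b : K, a ^ 2 + b ^ 2 = t := by
  classical
  rcases Nat.even_or_odd (Fintype.card K) with h | h
  · have h2 : ringChar K = 2 := FiniteField.even_card_iff_char_two.mpr (Nat.even_iff.mp h)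
    obtain ⟨a, ha⟩ := FiniteField.isSquare_of_char_two h2 t
    exact ⟨a, 0, by rw [ha]; ring⟩
  · obtain ⟨a, b, hab⟩ := FiniteField.exists_root_sum_quadratic (R := K)
      (f := Polynomial.X ^ 2) (g := Polynomial.X ^ 2 - Polynomial.C t)
      (Polynomial.degree_X_pow 2) (Polynomial.degree_X_pow_sub_C (by decide) _) (Nat.odd_iff.mp h)
    refine ⟨a, b, ?_⟩
    simp only [Polynomial.eval_pow, Polynomial.eval_X, Polynomial.eval_sub, Polynomial.eval_C] at hab
    linear_combination hab

end sq

section main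

variable {K : Type*} [Field K] [Fintype K]

theorem main (hK : 3 < Fintype.card K) (n : ℕ) (hn : 1 ≤ n)
    (k : Kˣ) (hk : ∀ u : Kˣ, u ∈ Subgroup.zpowers k)
    (h x w : Matrix.SpecialLinearGroup (Fin (n + 1)) K)
    (hh : (h : Matrix (Fin (n + 1)) (Fin (n + 1)) K) =
      Matrix.diagonal (fun i => if i.val = 0 then (k : K) else if i.val = 1 then ((k⁻¹ : Kˣ) : K) else 1))
    (hx : (x : Matrix (Fin (n + 1)) (Fin (n + 1)) K) = Matrix.transvection (0 : Fin (n + 1)) (1 : Fin (n + 1)) 1)
    (hw : (w : Matrix (Fin (n + 1)) (Fin (n + 1)) K) =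
      Matrix.of (fun i j => if j.val = i.val + 1 then 1 else if i.val = n ∧ j.val = 0 then (-1) ^ n else 0)) :
    Subgroup.closure ({h, x * w} : Set (Matrix.SpecialLinearGroup (Fin (n + 1)) K)) ⊔
      Subgroup.center (Matrix.SpecialLinearGroup (Fin (n + 1)) K) = ⊤ := by
  classical
  set G₁ := Subgroup.closure ({h, x * w} : Set (Matrix.SpecialLinearGroup (Fin (n + 1)) K)) with hG₁
  have hhG : h ∈ G₁ := Subgroup.subset_closure (by simp)
  have hyG : x * w ∈ G₁ := Subgroup.subset_closure (by simp)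
  have hw' : (w : Matrix (Fin (n + 1)) (Fin (n + 1)) K) = Wm K n := hw
  have h01 : (0 : Fin (n + 1)) ≠ 1 := by
    intro e
    have := congrArg Fin.val e
    rw [Fin.val_zero, Fin.val_one', Nat.mod_eq_of_lt (by omega)] at this
    omega
  have hv1 : (1 : Fin (n + 1)).val = 1 := by rw [Fin.val_one', Nat.mod_eq_of_lt (by omega)]
  -- order of `k`
  have hord : orderOf k = Fintype.card K - 1 := by
    rw [orderOf_eq_card_of_forall_mem_zpowers hk, Nat.card_units, Nat.card_eq_fintype_card]
  have hk1 : (k : K) ≠ 1 := by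
    intro e
    have : k = 1 := Units.ext e
    rw [this, orderOf_one] at hord
    omega
  have hk2 : (k : K) ^ 2 ≠ 1 := by
    intro e
    have : k ^ 2 = 1 := Units.ext (by rw [Units.val_pow_eq_pow_val, e]; rfl)
    have := orderOf_le_of_pow_eq_one (by norm_num) this
    omega
  have hk0 : (k : K) ≠ 0 := k.ne_zero
  set δ : Fin (n + 1) → K :=
    fun i => if i.val = 0 then (k : K) else if i.val = 1 then ((k⁻¹ : Kˣ) : K) else 1 with hδ
  have hδ0 : δ 0 = k := by simp [hδ]
  have hδ1 : δ 1 = (k : K)⁻¹ := by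
    show (if (1 : Fin (n + 1)).val = 0 then (k : K) else
      if (1 : Fin (n + 1)).val = 1 then ((k⁻¹ : Kˣ) : K) else 1) = _
    rw [hv1, if_neg one_ne_zero, if_pos rfl, Units.val_inv_eq_inv_val]
  have hδne : ∀ i, δ i ≠ 0 := by
    intro i
    simp only [hδ]
    split_ifs
    · exact hk0
    · exact (k⁻¹).ne_zero
    · exact one_ne_zero
  set δ' : Fin (n + 1) → K := fun i => δ (i + 1) with hδ'
  have hδ'0 : δ' 0 = (k : K)⁻¹ := by
    show δ (0 + 1) = _
    rw [zero_add, hδ1]
  -- the second entry of the shifted diagonal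
  have hδ'1 : δ' 1 = k ∨ δ' 1 = 1 := by
    simp only [hδ', hδ]
    split_ifs with h1 h2
    · left; rfl
    · exfalso
      have h3 := Fin.val_add_one (1 : Fin (n + 1))
      split_ifs at h3 with h4
      · omega
      · omega
    · right; rfl
  set u : K := δ' 0 * (δ' 1)⁻¹ with hu
  have hu0 : u ≠ 0 := mul_ne_zero (hδne _) (inv_ne_zero (hδne _))
  have hu1 : u ≠ 1 := by
    rw [hu, hδ'0]
    rcases hδ'1 with e | e
    · rw [e]
      intro h1
      apply hk2
      have h2 : (k : K) ^ 2 * ((k : K)⁻¹ * (k : K)⁻¹) = 1 := by field_simp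
      rw [h1, mul_one] at h2
      exact h2
    · rw [e, inv_one, mul_one]
      intro h1
      apply hk1
      rw [inv_eq_one] at h1
      exact h1
  -- the elements
  obtain ⟨T, hT⟩ : ∃ T : K → SpecialLinearGroup (Fin (n + 1)) K,
      T = fun t => SpecialLinearGroup.transvection h01 t := ⟨_, rfl⟩
  have hTc : ∀ t, ((T t : SpecialLinearGroup (Fin (n + 1)) K) : Matrix (Fin (n + 1)) (Fin (n + 1)) K) =
      Matrix.transvection 0 1 t := fun t => by rw [hT]; rfl
  have hTadd : ∀ s t, T s * T t = T (s + t) := by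
    intro s t
    apply Subtype.ext
    rw [Matrix.SpecialLinearGroup.coe_mul (T s) (T t), hTc, hTc, hTc]
    exact Matrix.transvection_mul_transvection_same _ _ h01 s t
  have hTinv : ∀ t, (T t)⁻¹ = T (-t) := fun t => by
    rw [hT]; exact SpecialLinearGroup.transvection_inv h01 t
  have hT0 : T 0 = 1 := by rw [hT]; exact SpecialLinearGroup.transvection_coeff_zero h01
  have hxT : x = T 1 := Subtype.ext (by rw [hx, hTc])
  obtain ⟨d', hd'⟩ : ∃ d', d' = w * h * w⁻¹ := ⟨_, rfl⟩
  have hd'c : (d' : Matrix (Fin (n + 1)) (Fin (n + 1)) K) = Matrix.diagonal δ' := by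
    rw [hd', Matrix.SpecialLinearGroup.coe_mul, Matrix.SpecialLinearGroup.coe_mul, hh, hw',
      Wm_mul_diagonal, ← hw', Matrix.mul_assoc, coe_mul_inv, Matrix.mul_one]
  have R1 : ∀ t, h * T t = T ((k : K) ^ 2 * t) * h := by
    intro t
    apply Subtype.ext
    rw [Matrix.SpecialLinearGroup.coe_mul h (T t), Matrix.SpecialLinearGroup.coe_mul (T _) h, hh, hTc, hTc]
    rw [diag_mul_transvection δ 0 1 t (hδne 1), hδ0, hδ1, inv_inv]
    congr 2
    ring
  have R2 : ∀ t, d' * T t = T (u * t) * d' := by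
    intro t
    apply Subtype.ext
    rw [Matrix.SpecialLinearGroup.coe_mul d' (T t), Matrix.SpecialLinearGroup.coe_mul (T (u * t)) d', hd'c,
      hTc, hTc]
    rw [diag_mul_transvection δ' 0 1 t (hδne _)]
    congr 2
    rw [hu]; ring
  have R3 : h * d' = d' * h := by
    apply Subtype.ext
    rw [Matrix.SpecialLinearGroup.coe_mul h d', Matrix.SpecialLinearGroup.coe_mul d' h, hh, hd'c,
      Matrix.diagonal_mul_diagonal, Matrix.diagonal_mul_diagonal]
    congr 1
    funext i
    exact mul_comm _ _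
  -- the conjugate of `h`
  obtain ⟨z, hz⟩ : ∃ z, z = (x * w) * h * (x * w)⁻¹ := ⟨_, rfl⟩
  have hzG : z ∈ G₁ := by rw [hz]; exact mul_mem (mul_mem hyG hhG) (inv_mem hyG)
  set b : K := u⁻¹ - 1 with hb
  have e1 : x * d' = d' * T u⁻¹ := by
    rw [R2 u⁻¹, mul_inv_cancel₀ hu0, hxT]
  have e2 : z = d' * T b := by
    have : z = x * d' * x⁻¹ := by rw [hz, hd']; group
    rw [this, e1, hxT, hTinv, mul_assoc, hTadd, hb, sub_eq_add_neg]
  have e3 : h * z * h⁻¹ = d' * T ((k : K) ^ 2 * b) := by
    rw [e2, ← mul_assoc, R3, mul_assoc d', R1, mul_assoc, mul_assoc, mul_inv_cancel, mul_one]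
  have e4 : ⁅h, z⁆ = T (u * ((k : K) ^ 2 * b - b)) := by
    rw [commutatorElement_def, e3, e2, _root_.mul_inv_rev, hTinv, ← mul_assoc, mul_assoc d', hTadd,
      ← sub_eq_add_neg, R2, mul_assoc, mul_inv_cancel, mul_one]
  set c' : K := u * ((k : K) ^ 2 * b - b) with hc'
  have hc'0 : c' ≠ 0 := by
    have : c' = ((k : K) ^ 2 - 1) * (1 - u) := by
      rw [hc', hb]; field_simp
    rw [this]
    exact mul_ne_zero (sub_ne_zero.mpr hk2) (sub_ne_zero.mpr (Ne.symm hu1))
  have hc'G : T c' ∈ G₁ := by
    rw [← e4, commutatorElement_def]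
    exact mul_mem (mul_mem (mul_mem hhG hzG) (inv_mem hhG)) (inv_mem hzG)
  -- the additive group of parameters
  let A : AddSubgroup K :=
    { carrier := {t | T t ∈ G₁}
      zero_mem' := by
        show T 0 ∈ G₁
        rw [hT0]; exact one_mem _
      add_mem' := by
        intro s t hs ht
        show T (s + t) ∈ G₁
        rw [← hTadd]; exact mul_mem hs ht
      neg_mem' := by
        intro t ht
        show T (-t) ∈ G₁
        rw [← hTinv]; exact inv_mem ht }
  have hA : ∀ t, t ∈ A ↔ T t ∈ G₁ := fun t => Iff.rfl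
  have hAk : ∀ t ∈ A, (k : K) ^ 2 * t ∈ A := by
    intro t ht
    rw [hA] at ht ⊢
    have : T ((k : K) ^ 2 * t) = h * T t * h⁻¹ := by
      rw [R1, mul_assoc, mul_inv_cancel, mul_one]
    rw [this]
    exact mul_mem (mul_mem hhG ht) (inv_mem hhG)
  -- multipliers
  have hB : ∀ s : K, ∀ t ∈ A, s * t ∈ A := by
    have hpow : ∀ j : ℕ, ∀ t ∈ A, ((k : K) ^ 2) ^ j * t ∈ A := by
      intro j
      induction j with
      | zero => intro t ht; simpa using ht
      | succ j ih =>
        intro t ht
        rw [pow_succ, mul_assoc]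
        exact ih _ (hAk t ht)
    have hsq : ∀ a : K, ∀ t ∈ A, a ^ 2 * t ∈ A := by
      intro a t ht
      by_cases ha : a = 0
      · subst ha
        rw [zero_pow (by norm_num), zero_mul]; exact A.zero_mem
      · have hmem := hk (Units.mk0 a ha)
        rw [← mem_powers_iff_mem_zpowers] at hmem
        obtain ⟨j, hj⟩ := hmem
        have : a = (k : K) ^ j := by
          have := congrArg Units.val hj
          rw [Units.val_pow_eq_pow_val] at this
          exact this.symm
        rw [this, ← pow_mul, mul_comm j 2, pow_mul]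
        exact hpow j t ht
    intro s t ht
    obtain ⟨a, b', hab⟩ := sum_two_sq s
    rw [← hab, add_mul]
    exact A.add_mem (hsq a t ht) (hsq b' t ht)
  have hall : ∀ t : K, T t ∈ G₁ := by
    intro t
    rw [← hA]
    have := hB (t / c') c' ((hA c').mpr hc'G)
    rwa [div_mul_cancel₀ _ hc'0] at this
  have hxG : x ∈ G₁ := by rw [hxT]; exact hall 1
  have hwG : w ∈ G₁ := by
    have : w = x⁻¹ * (x * w) := by group
    rw [this]; exact mul_mem (inv_mem hxG) hyG
  have hQ01 : Q G₁ 0 1 := fun c => ⟨T c, hall c, hTc c⟩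
  rw [gen_core hn G₁ w hwG hw' hQ01, top_sup_eq]

end main

/-- Explicit two-element generation of `PSL_{n+1}(K)` for a finite field `K` with more than three elements: let `k` generate the multiplicative group of `K`, `h = diag(k, k⁻¹, 1, …, 1)`, `x = 1 + E₁₂` (the elementary transvection) and `w` the monomial matrix with entries `1` in positions `(i, i+1)` and `(−1)^n` in position `(n+1, 1)`. Then `h` and `x·w` generate `SL_{n+1}(K)` modulo its centre: the subgroup they generate together with the centre is everything. -/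
theorem result {K : Type*} [Field K] [Fintype K] (hK : 3 < Fintype.card K) (n : ℕ) (hn : 1 ≤ n)
    (k : Kˣ) (hk : ∀ u : Kˣ, u ∈ Subgroup.zpowers k)
    (h x w : Matrix.SpecialLinearGroup (Fin (n + 1)) K)
    (hh : (h : Matrix (Fin (n + 1)) (Fin (n + 1)) K) =
      Matrix.diagonal (fun i => if i.val = 0 then (k : K) else if i.val = 1 then ((k⁻¹ : Kˣ) : K) else 1))
    (hx : (x : Matrix (Fin (n + 1)) (Fin (n + 1)) K) = Matrix.transvection (0 : Fin (n + 1)) (1 : Fin (n + 1)) 1)
    (hw : (w : Matrix (Fin (n + 1)) (Fin (n + 1)) K) =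
      Matrix.of (fun i j => if j.val = i.val + 1 then 1 else if i.val = n ∧ j.val = 0 then (-1) ^ n else 0)) :
    Subgroup.closure ({h, x * w} : Set (Matrix.SpecialLinearGroup (Fin (n + 1)) K)) ⊔
      Subgroup.center (Matrix.SpecialLinearGroup (Fin (n + 1)) K) = ⊤ := by
  exact main hK n hn k hk h x w hh hx hw

end Cfsg.Agent.S2402
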