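import Cfsg.Statements.S2405
import Cfsg.Agent.Lib.Helper11.Gen2D
import Cfsg.Agent.Lib.Helper11.Gen2F

set_option autoImplicit false
open Cfsg

namespace Cfsg.Agent.S2405

/-- Each Chevalley group of type G₂, B₂, D₄, F₄, E₆, E₇ or E₈ over a finite field is generated by two of its elements (types B₂ and G₂ over the field with two elements, where the group is not simple, excepted). -/
theorem result {F : Type*} [Field F] [Finite F] (D : Cfsg.Lie.ChevalleyDatum) (hD : D ∈ [Cfsg.Lie.chevG2, Cfsg.Lie.chevB2, Cfsg.Lie.chevD4, Cfsg.Lie.chevF4, Cfsg.Lie.chevE6, Cfsg.Lie.chevE7, Cfsg.Lie.chevE8])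
    (hF : D ∈ [Cfsg.Lie.chevB2, Cfsg.Lie.chevG2] → ∃ x : F, x ≠ 0 ∧ x ≠ 1) :
    ∃ a b : ↥(D.group F), Subgroup.closure ({a, b} : Set ↥(D.group F)) = ⊤ := by
  classical
  haveI := Fintype.ofFinite F
  by_cases hq : ∃ x : F, x ≠ 0 ∧ x ≠ 1
  · exact Cfsg.Agent.Lib.Helper11.Gen2.two_gen_of_three_le D hD F hq
  · have h2 : ∀ x : F, x = 0 ∨ x = 1 := by
      intro x
      by_contra h
      rw [not_or] at h
      exact hq ⟨x, h.1, h.2⟩
    have hD2 : D ∈ [Cfsg.Lie.chevD4, Cfsg.Lie.chevF4, Cfsg.Lie.chevE6, Cfsg.Lie.chevE7, Cfsg.Lie.chevE8] := by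
      have hD' := hD
      simp only [List.mem_cons, List.not_mem_nil, or_false] at hD' ⊢
      rcases hD' with h | h | h | h | h | h | h
      · exact absurd (hF (by rw [h]; simp)) hq
      · exact absurd (hF (by rw [h]; simp)) hq
      · exact Or.inl h
      · exact Or.inr (Or.inl h)
      · exact Or.inr (Or.inr (Or.inl h))
      · exact Or.inr (Or.inr (Or.inr (Or.inl h)))
      · exact Or.inr (Or.inr (Or.inr (Or.inr h)))
    exact Cfsg.Agent.Lib.Helper11.Gen2.two_gen_of_two D hD2 F h2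

end Cfsg.Agent.S2405
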