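-- helper6: S2411, PSp_2m(q) is 2-generated.
-- Generators of Sp_2m(q): the Coxeter monomial element and T_{e_0}(1) * g with g a p'-element
-- commuting with T_{e_0}(1) (Lib/Helper6/SpGenA-D); then pass to the quotient by the centre.
import Mathlib
import Cfsg.Statements.S2411
import Cfsg.Agent.Lib.Helper6.SpGenC
import Cfsg.Agent.Lib.Helper6.SpGenD

set_option autoImplicit false
open Cfsg

namespace Cfsg.Agent.S2411

open Cfsg.Agent.Lib.Helper6.SpGen

theorem sp_two_generated {F : Type*} [Field F] [Fintype F] (m : ℕ) (hm : 2 ≤ m)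
    (hF : m = 2 → 2 < Fintype.card F) :
    ∃ a b : Matrix.symplecticGroup (Fin m) F,
      Subgroup.closure ({a, b} : Set (Matrix.symplecticGroup (Fin m) F)) = ⊤ := by
  classical
  by_cases hq : 2 < Fintype.card F
  · -- a generator of the multiplicative group
    obtain ⟨lam, hlam⟩ := IsCyclic.exists_monoid_generator (α := Fˣ)
    have hne : lam ≠ 1 := by
      intro h1
      have hall : ∀ μ : Fˣ, μ = 1 := by
        intro μ
        obtain ⟨k, hk⟩ := hlam μ
        rw [← hk, h1]
        simp
      have hcard : Fintype.card Fˣ = 1 := by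
        rw [Fintype.card_eq_one_iff]
        exact ⟨1, hall⟩
      rw [Fintype.card_units] at hcard
      omega
    exact ⟨cox F (by omega), bEl hm lam, closure_eq_top_of_three_le hm lam hlam hne⟩
  · have hm3 : 3 ≤ m := by
      by_contra h
      have : m = 2 := by omega
      exact hq (hF this)
    have h1 : 1 < Fintype.card F := Fintype.one_lt_card
    have h2 : Fintype.card F = 2 := by omega
    exact ⟨cox F (by omega), bEl2 F hm3, closure_eq_top_of_two hm3 h2⟩

/-- The projective symplectic group `PSp_{2m}(q)` with `m ≥ 2` (and `q > 2` if `m = 2`) is generated by two of its elements. -/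
theorem result {F : Type*} [Field F] [Fintype F] (m : ℕ) (hm : 2 ≤ m) (hF : m = 2 → 2 < Fintype.card F) :
    ∃ a b : Cfsg.PSp m F, Subgroup.closure ({a, b} : Set (Cfsg.PSp m F)) = ⊤ := by
  obtain ⟨a, b, hab⟩ := sp_two_generated (F := F) m hm hF
  refine ⟨QuotientGroup.mk a, QuotientGroup.mk b, ?_⟩
  have hsurj : Function.Surjective
      (QuotientGroup.mk' (Subgroup.center (Matrix.symplecticGroup (Fin m) F))) :=
    QuotientGroup.mk'_surjective _
  have h1 := MonoidHom.map_closure
    (QuotientGroup.mk' (Subgroup.center (Matrix.symplecticGroup (Fin m) F)))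
    ({a, b} : Set (Matrix.symplecticGroup (Fin m) F))
  rw [hab, Subgroup.map_top_of_surjective _ hsurj, Set.image_pair] at h1
  exact h1.symm

end Cfsg.Agent.S2411
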