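/-
S2412 (helper15): `PSU_n(q)`, `n ≥ 3`, `(n, q) ≠ (3, 2)`, is generated by two elements.  We work in
the general unitary group `GUJ σ n` of the hermitian form with antidiagonal Gram matrix
(`σ x = x^q`).  The two generators are a torus element `h` (a coroot element `h_α(κ⁻¹)`, `κ` a
generator of the multiplicative group of the field) and `b = n x`, where `n` is a monomial matrix
of determinant one representing a Coxeter element of the Weyl group and `x` is a root element (a
short root element in even dimension, an element of a non-abelian root group in odd dimension).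
An abstract lemma (`core_lemma_na`) shows that the subgroup `M` generated by `h` and `b` contains
the root group of `x` and `n`; conjugating by `n` and taking commutators we get all the root
groups, hence the upper and the lower unitriangular subgroups (row reduction), hence the subgroup
`R` they generate, which is normal with `G = R T`; finally the torus elements of determinant one
are products of coroot elements (helper16), which lie in `R` by rank one computations.  The result
is transported to `PSU_n(q)` by helper16's isomorphism.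
-/
import Mathlib
import Cfsg.Statements.S2412
import Cfsg.Agent.Lib.Helper15.UnGenM
import Cfsg.Agent.Lib.Helper15.UnGenN
import Cfsg.Agent.Lib.Helper16.FusSUM

set_option autoImplicit false
open Cfsg

namespace Cfsg.Agent.S2412

open Cfsg.Agent.Lib.Helper16.FusSU Cfsg.Agent.Lib.Helper15.UnBN Cfsg.Agent.Lib.Helper15.UnGen
open Cfsg.Agent.Lib.Helper5.HermBridge (frobHom)

/-- two generators of a group give two generators of a homomorphic image -/
theorem two_gen_of_surj {G H : Type*} [Group G] [Group H] (f : G →* H)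
    (hf : Function.Surjective f) (h : ∃ a b : G, Subgroup.closure ({a, b} : Set G) = ⊤) :
    ∃ a b : H, Subgroup.closure ({a, b} : Set H) = ⊤ := by
  obtain ⟨a, b, hab⟩ := h
  refine ⟨f a, f b, ?_⟩
  have : ({f a, f b} : Set H) = f '' ({a, b} : Set G) := by
    rw [Set.image_pair]
  rw [this, ← MonoidHom.map_closure, hab, ← MonoidHom.range_eq_map,
    MonoidHom.range_eq_top.2 hf]

/-- from the general unitary group to the special unitary group -/
theorem lift_two_gen {K : Type*} [Field K] {σ : K →+* K} {n : ℕ}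
    (a' b' : ↥(GUJ σ n)) (ha' : (mat a').det = 1) (hb' : (mat b').det = 1)
    (hM : ∀ M : Subgroup ↥(GUJ σ n), a' ∈ M → b' ∈ M →
      ∀ g : ↥(GUJ σ n), (mat g).det = 1 → g ∈ M) :
    ∃ a b : ↥(UJ σ n), Subgroup.closure ({a, b} : Set ↥(UJ σ n)) = ⊤ := by
  have hmemA : (⟨mat a', ha'⟩ : Matrix.SpecialLinearGroup (Fin n) K) ∈ UJ σ n :=
    mem_UJ.mpr (mem_GUJ.mp a'.2)
  have hmemB : (⟨mat b', hb'⟩ : Matrix.SpecialLinearGroup (Fin n) K) ∈ UJ σ n :=
    mem_UJ.mpr (mem_GUJ.mp b'.2)
  have eA : toGUJ σ n ⟨⟨mat a', ha'⟩, hmemA⟩ = a' := by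
    apply Subtype.ext
    apply Units.ext
    rfl
  have eB : toGUJ σ n ⟨⟨mat b', hb'⟩, hmemB⟩ = b' := by
    apply Subtype.ext
    apply Units.ext
    rfl
  refine ⟨⟨⟨mat a', ha'⟩, hmemA⟩, ⟨⟨mat b', hb'⟩, hmemB⟩, ?_⟩
  rw [eq_top_iff]
  intro x _
  have h1 := hM ((Subgroup.closure ({⟨⟨mat a', ha'⟩, hmemA⟩, ⟨⟨mat b', hb'⟩, hmemB⟩} :
      Set ↥(UJ σ n))).map (toGUJ σ n))
    ⟨_, Subgroup.subset_closure (by simp), eA⟩ ⟨_, Subgroup.subset_closure (by simp), eB⟩
    (toGUJ σ n x) x.1.2
  obtain ⟨y, hy, hyx⟩ := h1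
  rw [← toGUJ_injective hyx]
  exact hy

/-- the special unitary group is generated by two elements -/
theorem exists_two_gen_UJ {F : Type*} [Field F] [Fintype F] {q : ℕ} (hq : 2 ≤ q)
    (hF : Fintype.card F = q ^ 2) (n : ℕ) (hn : 3 ≤ n) (h32 : n = 3 → q ≠ 2) :
    ∃ a b : ↥(UJ (frobHom hF) n),
      Subgroup.closure ({a, b} : Set ↥(UJ (frobHom hF) n)) = ⊤ := by
  have hσ : InvOK (frobHom hF) := invOK_frob hF
  rcases Nat.even_or_odd' n with ⟨k, rfl | rfl⟩
  · obtain ⟨a', b', ha', hb', hM⟩ := exists_two_gen_even hF hq hσ k (by omega)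
    exact lift_two_gen a' b' ha' hb' hM
  · obtain ⟨a', b', ha', hb', hM⟩ := exists_two_gen_odd hF hq hσ k (by omega)
      (fun hk => by
        have := h32 (by omega)
        omega)
    exact lift_two_gen a' b' ha' hb' hM

/-- The projective special unitary group `PSU_n(q)` with `n ≥ 3`, realised over the field with `q²` elements, `(n, q) ≠ (3, 2)`, is generated by two of its elements. -/
theorem result {F : Type*} [Field F] [Fintype F] {q : ℕ} (hq : IsPrimePow q) (hF : Fintype.card F = q ^ 2) (n : ℕ) (hn : 3 ≤ n) (h32 : n = 3 → q ≠ 2) :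
    ∃ a b : Cfsg.PSU n F q, Subgroup.closure ({a, b} : Set (Cfsg.PSU n F q)) = ⊤ := by
  classical
  obtain ⟨m, rfl⟩ : ∃ m, n = m + 2 := ⟨n - 2, by omega⟩
  obtain ⟨ζ, τ, -, hτ, hζ⟩ := Cfsg.Agent.Lib.Helper18.PSUMod.exists_consts hF
  have e : PGJ (frobHom hF) (m + 2) ≃* Cfsg.PSU (m + 2) F q :=
    (QuotientGroup.congr (Subgroup.center (Cfsg.SU (m + 2) F q)) (ZJ (frobHom hF) (m + 2))
      (suIso hF (m + 2) hζ hτ) (map_center_suIso hF m hζ hτ)).symm
  have h1 := exists_two_gen_UJ hq.two_le hF (m + 2) hn h32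
  have h2 := two_gen_of_surj (piJ (frobHom hF) (m + 2)) (piJ_surjective _ _) h1
  exact two_gen_of_surj e.toMonoidHom e.surjective h2

end Cfsg.Agent.S2412
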