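/-
S2413 (helper15): `PΩ_{2m+1}(q)`, `m ≥ 2`, `q` odd, is generated by two elements.  The isometry
group of `quadFormOdd m F` is isomorphic to the matrix group `GUJ (RingHom.id F) (2m+1)` (helper15
`OrBNE`).  In that group take a torus element `h = diag(κ⁻¹, κ, 1, …, 1, κ⁻¹, κ)` (`κ` a generator
of the multiplicative group; `h` is a commutator) and `b = n x`, where `n` is a monomial element of
the commutator subgroup representing a Coxeter element and `x` is a short root element.  By
helper11's `core_lemma` the subgroup `M` generated by `h` and `b` contains the whole short root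
group of `x` and `n`, hence all the short root groups (the Coxeter element is transitive on the
short roots), hence the long root groups (commutators), hence the unitriangular groups (row
reduction), hence the commutator subgroup.
-/
import Mathlib
import Cfsg.Statements.S2413
import Cfsg.Agent.Lib.Helper15.OrGenG
import Cfsg.Agent.Lib.Helper15.OrBNE
import Cfsg.Agent.Lib.Helper15.OrBNI

set_option autoImplicit false
open Cfsg

namespace Cfsg.Agent.S2413

/-- two generators of a subgroup give two generators of the corresponding group -/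
theorem two_gen_subtype {G : Type*} [Group G] (K : Subgroup G)
    (h : ∃ a b : G, Subgroup.closure ({a, b} : Set G) = K) :
    ∃ a b : ↥K, Subgroup.closure ({a, b} : Set ↥K) = ⊤ := by
  obtain ⟨a, b, hab⟩ := h
  have ha : a ∈ K := by rw [← hab]; exact Subgroup.subset_closure (by simp)
  have hb : b ∈ K := by rw [← hab]; exact Subgroup.subset_closure (by simp)
  refine ⟨⟨a, ha⟩, ⟨b, hb⟩, ?_⟩
  apply Subgroup.map_injective K.subtype_injective
  rw [MonoidHom.map_closure, ← MonoidHom.range_eq_map, Subgroup.range_subtype]
  have : (K.subtype '' ({⟨a, ha⟩, ⟨b, hb⟩} : Set ↥K)) = ({a, b} : Set G) := by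
    rw [Set.image_pair]
    rfl
  rw [this, hab]

/-- two generators of a group give two generators of a homomorphic image -/
theorem two_gen_of_surjective {G H : Type*} [Group G] [Group H] (f : G →* H)
    (hf : Function.Surjective f) (h : ∃ a b : G, Subgroup.closure ({a, b} : Set G) = ⊤) :
    ∃ a b : H, Subgroup.closure ({a, b} : Set H) = ⊤ := by
  obtain ⟨a, b, hab⟩ := h
  refine ⟨f a, f b, ?_⟩
  have : ({f a, f b} : Set H) = f '' ({a, b} : Set G) := by
    rw [Set.image_pair]
  rw [this, ← MonoidHom.map_closure, hab, ← MonoidHom.range_eq_map,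
    MonoidHom.range_eq_top.2 hf]

/-- The simple orthogonal group `PΩ_{2m+1}(q)` (commutator subgroup of the orthogonal group of `x₀² + Σ x_i y_i` modulo its centre) with `m ≥ 2` and `q` odd is generated by two of its elements. -/
theorem result {F : Type*} [Field F] [Fintype F] (hodd : Odd (Fintype.card F)) (m : ℕ) (hm : 2 ≤ m) :
    ∃ a b : Cfsg.POmega F (Cfsg.quadFormOdd m F), Subgroup.closure ({a, b} : Set (Cfsg.POmega F (Cfsg.quadFormOdd m F))) = ⊤ := by
  obtain ⟨p, hpc⟩ := CharP.exists F
  have := hpc
  have hp : p.Prime := CharP.char_is_prime F p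
  have : Fact p.Prime := ⟨hp⟩
  have hp2 : p ≠ 2 := by
    intro h
    obtain ⟨k, -, hk⟩ := FiniteField.card F p
    rw [hk, h] at hodd
    have : Even (2 ^ (k : ℕ)) := (Nat.even_pow.mpr ⟨even_two, k.ne_zero⟩)
    exact (Nat.not_even_iff_odd.mpr hodd) this
  have h2 : (2 : F) ≠ 0 := by
    intro h
    have h' : ((2 : ℕ) : F) = 0 := by exact_mod_cast h
    rw [CharP.cast_eq_zero_iff F p 2] at h'
    exact hp2 ((Nat.prime_dvd_prime_iff_eq hp Nat.prime_two).mp h')
  obtain ⟨e₀⟩ := Cfsg.Agent.Lib.Helper15.OrBN.nonempty_isometry_equiv h2 m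
  have h1 := two_gen_subtype _ (Cfsg.Agent.Lib.Helper15.OrGen.exists_two_gen p hp2 h2 m hm)
  have h3 := two_gen_of_surjective
    (QuotientGroup.mk' (Subgroup.center
      ↥(commutator ↥(Cfsg.Agent.Lib.Helper15.UnBN.GUJ (RingHom.id F) (2 * m + 1)))))
    (QuotientGroup.mk'_surjective _) h1
  exact two_gen_of_surjective
    (Cfsg.Agent.Lib.Helper15.OrBN.centralQuotientCommutatorEquiv e₀).symm.toMonoidHom
    (Cfsg.Agent.Lib.Helper15.OrBN.centralQuotientCommutatorEquiv e₀).symm.surjective h3

end Cfsg.Agent.S2413
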