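-- helper6: S2414, POmega+_2m(q) (m >= 4) is 2-generated.
-- Generators of Omega+_2m(q): a Coxeter type monomial element and T_{e_m, f_{m-1}} * g with g a
-- p'-element of a Levi SL_2 commuting with the Siegel element (Lib/Helper6/OPlusGenA-F, using
-- helper18 OrthAut gen_top and helper25 SpinGL); then pass to the quotient by the centre.
import Mathlib
import Cfsg.Statements.S2414
import Cfsg.Agent.Lib.Helper6.OPlusGenF

set_option autoImplicit false
open Cfsg

namespace Cfsg.Agent.S2414

open Cfsg.Agent.Lib.Helper6.OPlusGen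

/-- The simple orthogonal group `PΩ⁺_{2m}(q)` (commutator subgroup of the orthogonal group of `Σ x_i y_i` modulo its centre) with `m ≥ 4` is generated by two of its elements. -/
theorem result {F : Type*} [Field F] [Fintype F] (m : ℕ) (hm : 4 ≤ m) :
    ∃ a b : Cfsg.POmega F (Cfsg.quadFormPlus m F), Subgroup.closure ({a, b} : Set (Cfsg.POmega F (Cfsg.quadFormPlus m F))) = ⊤ := by
  obtain ⟨n, rfl⟩ : ∃ n, m = n + 1 := ⟨m - 1, by omega⟩
  have hn3 : 3 ≤ n := by omega
  obtain ⟨a, b, hab'⟩ : ∃ a b : ↥(Cfsg.Omega F (Cfsg.quadFormPlus (n + 1) F)),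
      Subgroup.closure ({a, b} : Set ↥(Cfsg.Omega F (Cfsg.quadFormPlus (n + 1) F))) = ⊤ :=
    omega_two_generated (F := F) hn3
  refine ⟨QuotientGroup.mk a, QuotientGroup.mk b, ?_⟩
  have hsurj : Function.Surjective
      (QuotientGroup.mk' (Subgroup.center ↥(Cfsg.Omega F (Cfsg.quadFormPlus (n + 1) F)))) :=
    QuotientGroup.mk'_surjective _
  have h1 := MonoidHom.map_closure
    (QuotientGroup.mk' (Subgroup.center ↥(Cfsg.Omega F (Cfsg.quadFormPlus (n + 1) F))))
    ({a, b} : Set ↥(Cfsg.Omega F (Cfsg.quadFormPlus (n + 1) F)))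
  rw [hab', Subgroup.map_top_of_surjective _ hsurj, Set.image_pair] at h1
  exact h1.symm

end Cfsg.Agent.S2414
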