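import Cfsg.Statements.S2415
import Cfsg.Agent.Lib.Helper11.OmGenK

set_option autoImplicit false
open Cfsg

namespace Cfsg.Agent.S2415

/-- two generators of a group give two generators of a homomorphic image -/
theorem two_gen_of_surj {G H : Type*} [Group G] [Group H] (f : G →* H)
    (hf : Function.Surjective f) (h : ∃ a b : G, Subgroup.closure ({a, b} : Set G) = ⊤) :
    ∃ a b : H, Subgroup.closure ({a, b} : Set H) = ⊤ := by
  obtain ⟨a, b, hab⟩ := h
  refine ⟨f a, f b, ?_⟩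
  have : ({f a, f b} : Set H) = f '' ({a, b} : Set G) := by
    rw [Set.image_pair]
  rw [this, ← MonoidHom.map_closure, hab, ← MonoidHom.range_eq_map,
    MonoidHom.range_eq_top.2 hf]

/-- The simple orthogonal group `PΩ⁻_{2m}(q)` with `m ≥ 4` (commutator subgroup, modulo its centre, of the orthogonal group of `Σ_{i<m−1} x_i y_i + z₁² + a z₁z₂ + b z₂²` with the binary part anisotropic) is generated by two of its elements. -/
theorem result {F : Type*} [Field F] [Fintype F] (m : ℕ) (hm : 4 ≤ m) (a b : F)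
    (hab : ∀ z₁ z₂ : F, z₁ ^ 2 + a * z₁ * z₂ + b * z₂ ^ 2 = 0 → z₁ = 0 ∧ z₂ = 0) :
    ∃ g h : Cfsg.POmega F (Cfsg.quadFormMinus (m - 1) F a b),
      Subgroup.closure ({g, h} : Set (Cfsg.POmega F (Cfsg.quadFormMinus (m - 1) F a b))) = ⊤ := by
  have hab' : Cfsg.Agent.Lib.Helper14.QuadExt.Aniso a b := hab
  have hD : a ^ 2 - 4 * b ≠ 0 := Cfsg.Agent.Lib.Helper14.OrthMinus.disc_ne_zero hab'
  have h1 : ∃ x y : ↥(Cfsg.Omega F (Cfsg.quadFormMinus (m - 1) F a b)),
      Subgroup.closure ({x, y} : Set ↥(Cfsg.Omega F (Cfsg.quadFormMinus (m - 1) F a b))) = ⊤ :=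
    Cfsg.Agent.Lib.Helper11.OmGen.omega_minus_two_gen (n := m - 1) a b hD hab' (by omega)
  exact two_gen_of_surj
    (QuotientGroup.mk' (Subgroup.center ↥(Cfsg.Omega F (Cfsg.quadFormMinus (m - 1) F a b))))
    (QuotientGroup.mk'_surjective _) h1

end Cfsg.Agent.S2415
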