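-- S2425 (helper6): values of the Steinberg character of `GL_n(q)` at elements of order prime to the
-- characteristic.  The alternating sum for `(1,…,1)` is the Steinberg function `stGL` (GLStC), whose
-- value at `x` is `(-1)^n` times the Moebius number of the lattice of `x`-invariant subspaces
-- (GLFlagA-C: flags, Philip Hall's theorem); `x` is semisimple, and the Moebius number of the lattice
-- of invariant subspaces of a semisimple endomorphism is computed from the characteristic polynomial
-- (InvtA-E: Weisner's theorem and induction on the dimension).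
import Mathlib
import Cfsg.Statements.S2425
import Cfsg.Agent.Lib.Helper6.GLStC
import Cfsg.Agent.Lib.Helper6.GLFlagC
import Cfsg.Agent.Lib.Helper6.InvtE

set_option autoImplicit false
open scoped MatrixGroups
open Cfsg

namespace Cfsg.Agent.S2425

open Polynomial UniqueFactorizationMonoid IncidenceAlgebra
open Cfsg.Agent.Lib.Helper6.GLStV Cfsg.Agent.Lib.Helper6.GLFlag Cfsg.Agent.Lib.Helper6.Invt
  Cfsg.Agent.Lib.Helper6.GLSt Cfsg.Agent.Lib.Helper6.GLBN Cfsg.Agent.Lib.Helper18.PSLnAut
open Module (finrank)

attribute [local instance] invtDecEq invtLFO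

/-- an element of order prime to the characteristic acts semisimply -/
theorem endo_semisimple {F : Type*} [Field F] (p : ℕ) [Fact p.Prime] [CharP F p] {n : ℕ}
    (x : GL (Fin n) F) (hx : (orderOf x).Coprime p) : (endo x).IsSemisimple := by
  set m := orderOf x with hm
  have hp : p.Prime := Fact.out
  have hndvd : ¬ p ∣ m := by
    intro h
    have := Nat.dvd_gcd h (dvd_refl p)
    rw [Nat.Coprime] at hx
    rw [hx] at this
    exact hp.one_lt.ne' (Nat.dvd_one.mp this)
  have hm0 : (m : F) ≠ 0 := by
    rw [Ne, CharP.cast_eq_zero_iff F p]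
    exact hndvd
  have hsq : Squarefree (X ^ m - C (1 : F)) :=
    (separable_X_pow_sub_C (1 : F) hm0 one_ne_zero).squarefree
  apply Module.End.isSemisimple_of_squarefree_aeval_eq_zero hsq
  have h1 : endo x = Matrix.toLinAlgEquiv' (x : Matrix (Fin n) (Fin n) F) := rfl
  rw [h1, aeval_algHom_apply]
  have h2 : aeval (x : Matrix (Fin n) (Fin n) F) (X ^ m - C (1 : F)) = 0 := by
    rw [map_sub, map_pow, aeval_X, aeval_C, map_one, ← Units.val_pow_eq_pow_val, hm,
      pow_orderOf_eq_one, Units.val_one, sub_self]
  rw [h2, map_zero]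

/-- the characteristic polynomial on the top invariant subspace -/
theorem cp_top {F V : Type*} [Field F] [AddCommGroup V] [Module F V] [Module.Finite F V]
    (f : Module.End F V) : cp f ⊤ = f.charpoly := by
  unfold cp
  have h : (Submodule.topEquiv (R := F) (M := V)).conj (f.restrict (mapsTo (⊤ : f.invtSubmodule))) =
      f := by
    apply LinearMap.ext
    intro v
    rw [LinearEquiv.conj_apply_apply]
    rfl
  conv_rhs => rw [← h]
  rw [LinearEquiv.charpoly_conj]

/-- the Steinberg function and the Moebius number, all `n` -/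
theorem stGL_eq_mu_all {F : Type*} [Field F] [Finite F] {n : ℕ} (x : GL (Fin n) F) :
    stGL n F x = (-1 : ℂ) ^ n * ((mu ℤ (⊥ : (endo x).invtSubmodule) ⊤ : ℤ) : ℂ) := by
  rcases Nat.eq_zero_or_pos n with hn | hn
  · subst hn
    have hx : x = 1 := Subsingleton.elim _ _
    have h1 : (⊤ : (endo x).invtSubmodule) = ⊥ := by
      apply Subtype.ext
      exact Subsingleton.elim _ _
    rw [h1, mu_self, hx, stGL_one]
    have h2 : Nat.card (unitri 0 F) = 1 := by
      rw [Nat.card_eq_one_iff_unique]
      exact ⟨⟨fun a b => Subtype.ext (Subsingleton.elim _ _)⟩, ⟨1⟩⟩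
    rw [h2]
    simp
  · exact stGL_eq_mu x hn

/-- the arithmetic of the final formula -/
theorem prod_formula {F : Type*} [Field F] [DecidableEq F] (s : Multiset F[X])
    (hs : ∀ g ∈ s, Irreducible g ∧ g.Monic) (q n : ℕ) (hn : s.prod.natDegree = n) :
    (-1 : ℂ) ^ n * ((Fm q s : ℤ) : ℂ) =
      ∏ g ∈ s.toFinset, (-1 : ℂ) ^ ((g.natDegree - 1) * s.count g) *
        (q : ℂ) ^ (g.natDegree * s.count g * (s.count g - 1) / 2) := by
  have h1 : n = ∑ g ∈ s.toFinset, s.count g * g.natDegree := by
    rw [← hn, natDegree_multiset_prod_of_monic s (fun g hg => (hs g hg).2),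
      Finset.sum_multiset_map_count]
    rfl
  rw [h1, ← Finset.prod_pow_eq_pow_sum]
  unfold Fm
  push_cast
  rw [← Finset.prod_mul_distrib]
  apply Finset.prod_congr rfl
  intro g hg
  rw [Multiset.mem_toFinset] at hg
  have hdeg : 1 ≤ g.natDegree := (hs g hg).1.natDegree_pos
  set d := g.natDegree with hd
  set k := s.count g with hk
  unfold phi
  rw [← hd]
  push_cast
  have h2 : d * k * (k - 1) / 2 = d * (k * (k - 1) / 2) := by
    rw [mul_assoc]
    exact Nat.mul_div_assoc d (even_iff_two_dvd.mp (Nat.even_mul_pred_self k))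
  rw [h2]
  have h3 : (-1 : ℂ) ^ (k * d) * (-1 : ℂ) ^ k = (-1 : ℂ) ^ ((d - 1) * k) := by
    obtain ⟨e, he⟩ : ∃ e, d = e + 1 := ⟨d - 1, by omega⟩
    rw [he, Nat.add_sub_cancel, ← pow_add]
    have : k * (e + 1) + k = e * k + 2 * k := by ring
    rw [this, pow_add, pow_mul (-1 : ℂ) 2 k]
    simp
  rw [← h3]
  ring

/-- Values of the Steinberg character of `GL_n(q)` (the partition-indexed character for `ν = (1,…,1)`, of degree `q^(n(n−1)/2)`) at elements of order prime to the characteristic: if the characteristic polynomial of such an element is `∏ f^(m_f)` over distinct monic irreducible `f`, the value is `∏_f (−1)^((deg f − 1) m_f) q^(deg f · m_f (m_f − 1)/2)`. (At elements of order divisible by the characteristic the value is 0; that is not part of this statement.) -/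
theorem result {F : Type*} [Field F] [Fintype F] [DecidableEq F] {q : ℕ} (hq : Fintype.card F = q) (p : ℕ) [Fact p.Prime] [CharP F p]
    {n : ℕ} (x : GL (Fin n) F) (hx : (orderOf x).Coprime p) :
    Cfsg.unipotentCharacterGL n F (fun _ => 1) x =
      ∏ f ∈ (UniqueFactorizationMonoid.normalizedFactors (x : Matrix (Fin n) (Fin n) F).charpoly).toFinset,
        (-1 : ℂ) ^ ((f.natDegree - 1) * (UniqueFactorizationMonoid.normalizedFactors (x : Matrix (Fin n) (Fin n) F).charpoly).count f) *
          (q : ℂ) ^ (f.natDegree * (UniqueFactorizationMonoid.normalizedFactors (x : Matrix (Fin n) (Fin n) F).charpoly).count f *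
            ((UniqueFactorizationMonoid.normalizedFactors (x : Matrix (Fin n) (Fin n) F).charpoly).count f - 1) / 2) := by
  classical
  have : Module.Finite F (Fin n → F) := inferInstance
  rw [unipotent_ones_eq_stGL, stGL_eq_mu_all, mu_semisimple (endo_semisimple p x hx), cp_top,
    show (endo x).charpoly = (x : Matrix (Fin n) (Fin n) F).charpoly from Matrix.charpoly_toLin' _]
  set c := (x : Matrix (Fin n) (Fin n) F).charpoly with hc
  have hc0 : c ≠ 0 := (Matrix.charpoly_monic _).ne_zero
  have hs : ∀ g ∈ normalizedFactors c, Irreducible g ∧ g.Monic := by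
    intro g hg
    have hirr := irreducible_of_normalized_factor g hg
    refine ⟨hirr, ?_⟩
    rw [← normalize_normalized_factor g hg]
    exact monic_normalize hirr.ne_zero
  have hprod : (normalizedFactors c).prod = c := by
    apply eq_of_monic_of_associated _ (Matrix.charpoly_monic _) (prod_normalizedFactors hc0)
    have := monic_multiset_prod_of_monic (normalizedFactors c) id (fun g hg => (hs g hg).2)
    rwa [Multiset.map_id] at this
  have hn : (normalizedFactors c).prod.natDegree = n := by
    rw [hprod, hc, Matrix.charpoly_natDegree_eq_dim, Fintype.card_fin]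
  have hq' : Nat.card F = q := by rw [Nat.card_eq_fintype_card, hq]
  rw [hq']
  exact prod_formula (normalizedFactors c) hs q n hn

end Cfsg.Agent.S2425
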