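import Cfsg.Statements.S2426
import Mathlib
import Cfsg.Agent.Lib.Helper11.SL2Hom
import Cfsg.Agent.Lib.Helper11.Steinberg2
-- import your own Cfsg.Agent.* helpers here

set_option autoImplicit false
open Cfsg

namespace Cfsg.Agent.S2426

open Cfsg.Agent.Lib.Helper11.SL2Hom Cfsg.Agent.Lib.Helper11.Steinberg2 Matrix

variable {K : Type*} [Field K]

local notation:1024 "↑ₘ" A:1024 => ((A : SpecialLinearGroup (Fin 2) K) : Matrix (Fin 2) (Fin 2) K)

/-- the relators of the rank-one Steinberg presentation -/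
def rels (K : Type*) [Field K] : Set (FreeGroup (Bool × K)) :=
  {g : FreeGroup (Bool × K) | ∃ (b : Bool) (t u : K), g = FreeGroup.of (b, t) * FreeGroup.of (b, u) * (FreeGroup.of (b, t + u))⁻¹} ∪
          {g | ∃ (b : Bool) (t u : K), t ≠ 0 ∧
            g = (FreeGroup.of (b, t) * FreeGroup.of (!b, -t⁻¹) * FreeGroup.of (b, t)) * FreeGroup.of (b, u) *
                  (FreeGroup.of (b, t) * FreeGroup.of (!b, -t⁻¹) * FreeGroup.of (b, t))⁻¹ * (FreeGroup.of (!b, -(t⁻¹ ^ 2 * u)))⁻¹}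

theorem xS_mul (t u : K) : xS t * xS u = xS (t + u) := by
  apply Matrix.SpecialLinearGroup.ext
  intro i j
  show (↑ₘ(xS t * xS u)) i j = (↑ₘ(xS (t + u))) i j
  fin_cases i <;> fin_cases j <;>
    simp [coe_xS, Matrix.mul_apply, Fin.sum_univ_two, add_comm]

theorem yS_mul (t u : K) : yS t * yS u = yS (t + u) := by
  apply Matrix.SpecialLinearGroup.ext
  intro i j
  show (↑ₘ(yS t * yS u)) i j = (↑ₘ(yS (t + u))) i j
  fin_cases i <;> fin_cases j <;>
    simp [coe_yS, Matrix.mul_apply, Fin.sum_univ_two, add_comm]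

theorem rel_x (t u : K) (ht : t ≠ 0) :
    (xS t * yS (-t⁻¹) * xS t) * xS u * (xS t * yS (-t⁻¹) * xS t)⁻¹ = yS (-(t⁻¹ ^ 2 * u)) := by
  rw [mul_inv_eq_iff_eq_mul]
  apply Matrix.SpecialLinearGroup.ext
  intro i j
  show (↑ₘ((xS t * yS (-t⁻¹) * xS t) * xS u)) i j = (↑ₘ(yS (-(t⁻¹ ^ 2 * u)) * (xS t * yS (-t⁻¹) * xS t))) i j
  fin_cases i <;> fin_cases j <;>
    simp [coe_xS, coe_yS, Matrix.mul_apply, Fin.sum_univ_two, ht] <;> field_simp

theorem rel_y (t u : K) (ht : t ≠ 0) :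
    (yS t * xS (-t⁻¹) * yS t) * yS u * (yS t * xS (-t⁻¹) * yS t)⁻¹ = xS (-(t⁻¹ ^ 2 * u)) := by
  rw [mul_inv_eq_iff_eq_mul]
  apply Matrix.SpecialLinearGroup.ext
  intro i j
  show (↑ₘ((yS t * xS (-t⁻¹) * yS t) * yS u)) i j = (↑ₘ(xS (-(t⁻¹ ^ 2 * u)) * (yS t * xS (-t⁻¹) * yS t))) i j
  fin_cases i <;> fin_cases j <;>
    simp [coe_xS, coe_yS, Matrix.mul_apply, Fin.sum_univ_two, ht] <;> field_simp

/-- images of the generators in `SL₂(K)` -/
def gen (p : Bool × K) : SpecialLinearGroup (Fin 2) K := if p.1 then xS p.2 else yS p.2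

theorem gen_true (t : K) : gen (true, t) = xS t := rfl
theorem gen_false (t : K) : gen (false, t) = yS t := rfl

theorem gen_rels : ∀ r ∈ rels K, FreeGroup.lift gen r = 1 := by
  intro r hr
  rcases hr with ⟨b, t, u, rfl⟩ | ⟨b, t, u, ht, rfl⟩
  · simp only [map_mul, map_inv, FreeGroup.lift_apply_of]
    cases b
    · rw [gen_false, gen_false, gen_false, yS_mul, mul_inv_cancel]
    · rw [gen_true, gen_true, gen_true, xS_mul, mul_inv_cancel]
  · simp only [map_mul, map_inv, FreeGroup.lift_apply_of]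
    cases b
    · simp only [Bool.not_false, gen_true, gen_false]
      rw [rel_y t u ht, mul_inv_cancel]
    · simp only [Bool.not_true, gen_true, gen_false]
      rw [rel_x t u ht, mul_inv_cancel]

/-- the homomorphism from the presented group to `SL₂(K)` -/
def psi : PresentedGroup (rels K) →* SpecialLinearGroup (Fin 2) K := PresentedGroup.toGroup gen_rels

theorem psi_of (p : Bool × K) : psi (PresentedGroup.of p) = gen p := PresentedGroup.toGroup.of gen_rels

theorem of_add (b : Bool) (t u : K) :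
    (PresentedGroup.of (b, t) : PresentedGroup (rels K)) * PresentedGroup.of (b, u) = PresentedGroup.of (b, t + u) := by
  have h : PresentedGroup.mk (rels K) (FreeGroup.of (b, t) * FreeGroup.of (b, u) * (FreeGroup.of (b, t + u))⁻¹) = 1 :=
    PresentedGroup.one_of_mem (Or.inl ⟨b, t, u, rfl⟩)
  rw [map_mul, map_mul, map_inv] at h
  exact mul_inv_eq_one.mp h

theorem of_rel (b : Bool) (t u : K) (ht : t ≠ 0) :
    ((PresentedGroup.of (b, t) : PresentedGroup (rels K)) * PresentedGroup.of (!b, -t⁻¹) * PresentedGroup.of (b, t)) *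
      PresentedGroup.of (b, u) *
      (PresentedGroup.of (b, t) * PresentedGroup.of (!b, -t⁻¹) * PresentedGroup.of (b, t))⁻¹ =
      PresentedGroup.of (!b, -(t⁻¹ ^ 2 * u)) := by
  have h : PresentedGroup.mk (rels K) ((FreeGroup.of (b, t) * FreeGroup.of (!b, -t⁻¹) * FreeGroup.of (b, t)) * FreeGroup.of (b, u) *
                  (FreeGroup.of (b, t) * FreeGroup.of (!b, -t⁻¹) * FreeGroup.of (b, t))⁻¹ * (FreeGroup.of (!b, -(t⁻¹ ^ 2 * u)))⁻¹) = 1 :=
    PresentedGroup.one_of_mem (Or.inr ⟨b, t, u, ht, rfl⟩)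
  simp only [map_mul, map_inv] at h
  exact mul_inv_eq_one.mp h

/-- the Steinberg pair in the presented group -/
def pair (K : Type*) [Field K] : StPair K (PresentedGroup (rels K)) where
  x := fun t => PresentedGroup.of (true, t)
  y := fun t => PresentedGroup.of (false, t)
  x_add := of_add true
  y_add := of_add false
  rel := fun t u ht => of_rel true t u ht


/-- The rank-one Steinberg presentation of `SL₂` over a finite field `K`: generators `x(t)`, `y(t)` (`t ∈ K`; the two opposite root subgroups) subject to additivity `x(t)x(u) = x(t+u)`, `y(t)y(u) = y(t+u)` and, with `w(t) = x(t) y(−t⁻¹) x(t)` and `w'(t) = y(t) x(−t⁻¹) y(t)` for `t ≠ 0`, the relations `w(t) x(u) w(t)⁻¹ = y(−t⁻² u)` and `w'(t) y(u) w'(t)⁻¹ = x(−t⁻² u)`, present `SL₂(K)`, with `x(t) ↦ (1 t; 0 1)` and `y(t) ↦ (1 0; t 1)`. -/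
theorem result {K : Type*} [Field K] [Finite K] :
    ∃ e : PresentedGroup
        ({g : FreeGroup (Bool × K) | ∃ (b : Bool) (t u : K), g = FreeGroup.of (b, t) * FreeGroup.of (b, u) * (FreeGroup.of (b, t + u))⁻¹} ∪
          {g | ∃ (b : Bool) (t u : K), t ≠ 0 ∧
            g = (FreeGroup.of (b, t) * FreeGroup.of (!b, -t⁻¹) * FreeGroup.of (b, t)) * FreeGroup.of (b, u) *
                  (FreeGroup.of (b, t) * FreeGroup.of (!b, -t⁻¹) * FreeGroup.of (b, t))⁻¹ * (FreeGroup.of (!b, -(t⁻¹ ^ 2 * u)))⁻¹})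
        ≃* Matrix.SpecialLinearGroup (Fin 2) K,
      (∀ t : K, ((e (PresentedGroup.of (true, t)) : Matrix (Fin 2) (Fin 2) K)) = !![1, t; 0, 1]) ∧
      (∀ t : K, ((e (PresentedGroup.of (false, t)) : Matrix (Fin 2) (Fin 2) K)) = !![1, 0; t, 1]) := by
  obtain ⟨φ, hφx, hφy⟩ := (pair K).exists_hom
  have h1 : φ.comp psi = MonoidHom.id _ := by
    apply PresentedGroup.ext
    rintro ⟨b, t⟩
    rw [MonoidHom.comp_apply, psi_of, MonoidHom.id_apply]
    cases b
    · rw [gen_false, hφy]; rfl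
    · rw [gen_true, hφx]; rfl
  have h2 : psi.comp φ = MonoidHom.id _ := by
    apply MonoidHom.eq_of_eqOn_dense (closure_xS_yS (F := K))
    rintro g (⟨t, rfl⟩ | ⟨t, rfl⟩)
    · rw [MonoidHom.comp_apply, hφx, MonoidHom.id_apply]
      exact psi_of (true, t)
    · rw [MonoidHom.comp_apply, hφy, MonoidHom.id_apply]
      exact psi_of (false, t)
  refine ⟨MonoidHom.toMulEquiv psi φ h1 h2, fun t => ?_, fun t => ?_⟩
  · show ((psi (PresentedGroup.of (true, t)) : SpecialLinearGroup (Fin 2) K) : Matrix (Fin 2) (Fin 2) K) = _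
    rw [psi_of, gen_true, coe_xS]
  · show ((psi (PresentedGroup.of (false, t)) : SpecialLinearGroup (Fin 2) K) : Matrix (Fin 2) (Fin 2) K) = _
    rw [psi_of, gen_false, coe_yS]

end Cfsg.Agent.S2426
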