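import Cfsg.Statements.S2428
import Cfsg.Agent.Lib.Helper13.SL2TorusClasses

set_option autoImplicit false
open Cfsg

namespace Cfsg.Agent.S2428

/-- Let F be a finite field with q elements, q odd, and let d be a diagonal element of SL₂ over F whose diagonal entry a has a² ≠ 1 (such d exist exactly when q > 3). Then the centraliser of d is precisely the diagonal subgroup T; the normaliser of T has order 2(q − 1) and exactly (q + 5)/2 conjugacy classes; and every element of that normaliser outside T has square equal to −1. -/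
theorem result {F : Type*} [Field F] [Fintype F] (hodd : Odd (Fintype.card F))
    (d : Matrix.SpecialLinearGroup (Fin 2) F) (hd01 : (d : Matrix (Fin 2) (Fin 2) F) 0 1 = 0) (hd10 : (d : Matrix (Fin 2) (Fin 2) F) 1 0 = 0) (hda : (d : Matrix (Fin 2) (Fin 2) F) 0 0 ^ 2 ≠ 1) :
    (∀ g : Matrix.SpecialLinearGroup (Fin 2) F, g ∈ Subgroup.centralizer ({d} : Set (Matrix.SpecialLinearGroup (Fin 2) F)) ↔ ((g : Matrix (Fin 2) (Fin 2) F) 0 1 = 0 ∧ (g : Matrix (Fin 2) (Fin 2) F) 1 0 = 0)) ∧
    Nat.card (Subgroup.normalizer ((Subgroup.centralizer ({d} : Set (Matrix.SpecialLinearGroup (Fin 2) F))) : Set (Matrix.SpecialLinearGroup (Fin 2) F))) = 2 * (Fintype.card F - 1) ∧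
    Nat.card (ConjClasses (Subgroup.normalizer ((Subgroup.centralizer ({d} : Set (Matrix.SpecialLinearGroup (Fin 2) F))) : Set (Matrix.SpecialLinearGroup (Fin 2) F)))) = (Fintype.card F + 5) / 2 ∧
    ∀ g : Matrix.SpecialLinearGroup (Fin 2) F, g ∈ Subgroup.normalizer ((Subgroup.centralizer ({d} : Set (Matrix.SpecialLinearGroup (Fin 2) F))) : Set (Matrix.SpecialLinearGroup (Fin 2) F)) →
      g ∉ Subgroup.centralizer ({d} : Set (Matrix.SpecialLinearGroup (Fin 2) F)) → ((g * g) : Matrix (Fin 2) (Fin 2) F) = -1 := by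
  classical
  have hq : 2 ≤ Fintype.card F := Fintype.one_lt_card
  have h2 : (2 : F) ≠ 0 := Cfsg.Agent.Lib.Helper13.two_ne_zero_of_odd_card hodd
  set a := (d : Matrix (Fin 2) (Fin 2) F) 0 0 with ha
  set b := (d : Matrix (Fin 2) (Fin 2) F) 1 1 with hb
  have hdet := d.2
  rw [Matrix.det_fin_two, hd01, hd10, ← ha, ← hb] at hdet
  have hab : a * b = 1 := by linear_combination hdet
  have ha0 : a ≠ 0 := by
    intro h
    rw [h, zero_mul] at hab
    exact zero_ne_one hab
  have hanb : a - b ≠ 0 := by
    intro h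
    apply hda
    have : b = a := by linear_combination -h
    rw [this] at hab
    rw [pow_two]
    exact hab
  have htr : (d : Matrix (Fin 2) (Fin 2) F).trace = a + b := by
    rw [Matrix.trace_fin_two]
  have hg : (d : Matrix (Fin 2) (Fin 2) F).trace ^ 2 ≠ 4 := by
    rw [htr]
    intro h
    have : (a - b) ^ 2 = 0 := by linear_combination h - 4 * hab
    exact hanb (pow_eq_zero_iff (by norm_num) |>.mp this)
  have hsplit : a * ((d : Matrix (Fin 2) (Fin 2) F).trace - a) = 1 := by
    rw [htr]
    linear_combination hab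
  have hne : d ≠ d⁻¹ := by
    intro h
    have h1 : d * d = 1 := by
      nth_rewrite 2 [h]
      exact mul_inv_cancel d
    have h3 := congrArg (fun g : Matrix.SpecialLinearGroup (Fin 2) F =>
      (g : Matrix (Fin 2) (Fin 2) F) 0 0) h1
    change ((d : Matrix (Fin 2) (Fin 2) F) * (d : Matrix (Fin 2) (Fin 2) F)) 0 0 =
      (1 : Matrix (Fin 2) (Fin 2) F) 0 0 at h3
    rw [Matrix.mul_apply, Fin.sum_univ_two, hd01, Matrix.one_apply_eq] at h3
    apply hda
    rw [pow_two]
    linear_combination h3
  have hcardT := Cfsg.Agent.Lib.Helper13.card_centralizer_split d hg a hsplit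
  refine ⟨?_, ?_, ?_, ?_⟩
  · intro g
    rw [Cfsg.Agent.Lib.Helper13.mem_centralizer_singleton_comm]
    constructor
    · intro h
      have hm : (g : Matrix (Fin 2) (Fin 2) F) * (d : Matrix (Fin 2) (Fin 2) F) =
          (d : Matrix (Fin 2) (Fin 2) F) * (g : Matrix (Fin 2) (Fin 2) F) :=
        congrArg (fun k : Matrix.SpecialLinearGroup (Fin 2) F => (k : Matrix (Fin 2) (Fin 2) F)) h
      have h01 := congr_fun (congr_fun hm 0) 1
      have h10 := congr_fun (congr_fun hm 1) 0
      simp only [Matrix.mul_apply, Fin.sum_univ_two, hd01, hd10, mul_zero, zero_mul, zero_add,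
        add_zero] at h01 h10
      constructor
      · have : (a - b) * (g : Matrix (Fin 2) (Fin 2) F) 0 1 = 0 := by linear_combination -h01
        exact (mul_eq_zero.mp this).resolve_left hanb
      · have : (a - b) * (g : Matrix (Fin 2) (Fin 2) F) 1 0 = 0 := by linear_combination h10
        exact (mul_eq_zero.mp this).resolve_left hanb
    · rintro ⟨h01, h10⟩
      apply Subtype.ext
      change (g : Matrix (Fin 2) (Fin 2) F) * (d : Matrix (Fin 2) (Fin 2) F) =
          (d : Matrix (Fin 2) (Fin 2) F) * (g : Matrix (Fin 2) (Fin 2) F)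
      ext i j
      fin_cases i <;> fin_cases j <;>
        simp [Matrix.mul_apply, Fin.sum_univ_two, hd01, hd10, h01, h10, mul_comm]
  · rw [Cfsg.Agent.Lib.Helper13.card_normalizer_centralizer d hg hne, hcardT]
  · have h := Cfsg.Agent.Lib.Helper13.two_mul_card_conjClasses_normalizer_torus h2 d hg hne
    rw [hcardT] at h
    omega
  · intro g hgN hgT
    exact Cfsg.Agent.Lib.Helper13.coe_mul_self_of_mem_normalizer_not_mem h2 d hg hne g hgN hgT

end Cfsg.Agent.S2428
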