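import Cfsg.Statements.S2429
import Cfsg.Agent.Lib.Helper13.SL2TorusNorm
import Cfsg.Agent.Lib.Helper13.DicyclicCount

set_option autoImplicit false
open Cfsg

namespace Cfsg.Agent.S2429

/-- Let F be a finite field with q elements, q odd. Then SL₂ over F contains a cyclic subgroup T′ of order q + 1 (a non-split torus) with the following properties: T′ is its own centraliser, and indeed the centraliser of each element of T′ other than 1 and −1 is exactly T′; every element of SL₂ having no eigenvector in F² is conjugate to an element of T′; the normaliser of T′ has order 2(q + 1) and exactly (q + 7)/2 conjugacy classes; and every element of that normaliser outside T′ has square −1. -/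
theorem result {F : Type*} [Field F] [Fintype F] (hodd : Odd (Fintype.card F)) :
    ∃ T' : Subgroup (Matrix.SpecialLinearGroup (Fin 2) F), IsCyclic T' ∧ Nat.card T' = Fintype.card F + 1 ∧
      Subgroup.centralizer ((T' : Set (Matrix.SpecialLinearGroup (Fin 2) F))) = T' ∧
      (∀ g : Matrix.SpecialLinearGroup (Fin 2) F, g ∈ T' → (g : Matrix (Fin 2) (Fin 2) F) ≠ 1 → (g : Matrix (Fin 2) (Fin 2) F) ≠ -1 → Subgroup.centralizer ({g} : Set (Matrix.SpecialLinearGroup (Fin 2) F)) = T') ∧
      (∀ g : Matrix.SpecialLinearGroup (Fin 2) F, (∀ (c : F) (v : Fin 2 → F), v ≠ 0 → (g : Matrix (Fin 2) (Fin 2) F).mulVec v ≠ c • v) → ∃ h : Matrix.SpecialLinearGroup (Fin 2) F, h * g * h⁻¹ ∈ T') ∧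
      Nat.card (Subgroup.normalizer (T' : Set (Matrix.SpecialLinearGroup (Fin 2) F))) = 2 * (Fintype.card F + 1) ∧
      Nat.card (ConjClasses (Subgroup.normalizer (T' : Set (Matrix.SpecialLinearGroup (Fin 2) F)))) = (Fintype.card F + 7) / 2 ∧
      ∀ g : Matrix.SpecialLinearGroup (Fin 2) F, g ∈ Subgroup.normalizer (T' : Set (Matrix.SpecialLinearGroup (Fin 2) F)) → g ∉ T' → ((g * g) : Matrix (Fin 2) (Fin 2) F) = -1 := by
  classical
  have hq : 2 ≤ Fintype.card F := Fintype.one_lt_card
  have h2 : (2 : F) ≠ 0 := by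
    obtain ⟨p, hp⟩ := CharP.exists F
    have := hp
    have : Fact p.Prime := ⟨CharP.char_is_prime F p⟩
    by_contra h
    have hp2 : p = 2 := by
      have : ((2 : ℕ) : F) = 0 := by exact_mod_cast h
      rw [CharP.cast_eq_zero_iff F p] at this
      exact (Nat.prime_dvd_prime_iff_eq (Fact.out) Nat.prime_two).mp this
    subst hp2
    obtain ⟨r, hr⟩ := Cfsg.Agent.Lib.Helper13.even_card_of_char_two (F := F)
    obtain ⟨s, hs⟩ := hodd
    omega
  obtain ⟨τ₀, hτ4, hτns⟩ := Cfsg.Agent.Lib.Helper13.exists_nonsplit_trace (F := F)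
  set g₀ := Cfsg.Agent.Lib.Helper13.traceSL τ₀ with hg₀
  have htr : (g₀ : Matrix (Fin 2) (Fin 2) F).trace = τ₀ := Cfsg.Agent.Lib.Helper13.trace_traceSL τ₀
  have hg : (g₀ : Matrix (Fin 2) (Fin 2) F).trace ^ 2 ≠ 4 := by rw [htr]; exact hτ4
  have hns : ∀ a : F, a * ((g₀ : Matrix (Fin 2) (Fin 2) F).trace - a) ≠ 1 := by rw [htr]; exact hτns
  have hne : g₀ ≠ g₀⁻¹ := by
    intro h
    have h1 : g₀ * g₀ = 1 := by
      nth_rewrite 2 [h]
      exact mul_inv_cancel g₀
    have hc : g₀ ∈ Subgroup.center (Matrix.SpecialLinearGroup (Fin 2) F) := by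
      rcases Cfsg.Agent.Lib.Helper13.sq_eq_one_cases h2 g₀ h1 with h3 | h3
      · rw [h3]; exact Subgroup.one_mem _
      · rw [h3]; exact Cfsg.Agent.Lib.Helper13.zSL_mem_center
    obtain ⟨r, hr⟩ := Cfsg.Agent.Lib.Helper13.scalar_of_mem_center g₀ hc
    apply Cfsg.Agent.Lib.Helper13.nonscalar_of_trace_sq g₀ hg
    rw [hr]
    simp
  set T' := Subgroup.centralizer ({g₀} : Set (Matrix.SpecialLinearGroup (Fin 2) F)) with hT'
  have hcardT : Nat.card T' = Fintype.card F + 1 :=
    Cfsg.Agent.Lib.Helper13.card_centralizer_nonsplit g₀ hg hns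
  have hcc := Cfsg.Agent.Lib.Helper13.centralizer_centralizer_eq g₀ hg
  have hcardN := Cfsg.Agent.Lib.Helper13.card_normalizer_centralizer g₀ hg hne
  -- elements of `N ∖ T'` invert `g₀`
  have hout : ∀ g : Matrix.SpecialLinearGroup (Fin 2) F,
      g ∈ Subgroup.normalizer (T' : Set (Matrix.SpecialLinearGroup (Fin 2) F)) → g ∉ T' →
      g * g₀ * g⁻¹ = g₀⁻¹ := by
    intro g hgN hgT
    rcases (Cfsg.Agent.Lib.Helper13.mem_normalizer_centralizer_iff g₀ hg g).mp hgN with h | h
    · exfalso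
      apply hgT
      rw [hT', Cfsg.Agent.Lib.Helper13.mem_centralizer_singleton_iff']
      exact h
    · exact h
  refine ⟨T', Cfsg.Agent.Lib.Helper13.isCyclic_centralizer g₀ hg, hcardT, hcc, ?_, ?_, ?_, ?_, ?_⟩
  · intro g hgT hg1 hgm1
    exact Cfsg.Agent.Lib.Helper13.centralizer_eq_of_mem g₀ hg g hgT
      (fun hs => (Cfsg.Agent.Lib.Helper13.scalar_cases g hs).elim hg1 hgm1)
  · intro g hnoeig
    have hns' := Cfsg.Agent.Lib.Helper13.nonsplit_of_no_eigenvector g hnoeig
    obtain ⟨h, hhT, hhtr⟩ :=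
      Cfsg.Agent.Lib.Helper13.exists_mem_centralizer_trace_eq g₀ hg hns _ hns'
    have hg4 := Cfsg.Agent.Lib.Helper13.trace_sq_ne_four_of_nonsplit _ hns'
    have hc : IsConj g h := Cfsg.Agent.Lib.Helper13.isConj_of_trace_eq g h hhtr.symm hg4
    obtain ⟨c, hc⟩ := isConj_iff.mp hc
    exact ⟨c, hc ▸ hhT⟩
  · rw [hcardN, hcardT]
  · set N := Subgroup.normalizer (T' : Set (Matrix.SpecialLinearGroup (Fin 2) F)) with hN
    have hTN : T' ≤ N := Subgroup.le_normalizer
    have hzN : Cfsg.Agent.Lib.Helper13.zSL F ∈ N :=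
      hTN (by
        rw [hT', Cfsg.Agent.Lib.Helper13.mem_centralizer_singleton_comm]
        exact ((Subgroup.mem_center_iff.mp Cfsg.Agent.Lib.Helper13.zSL_mem_center) g₀).symm)
    have hzT : Cfsg.Agent.Lib.Helper13.zSL F ∈ T' := by
      rw [hT', Cfsg.Agent.Lib.Helper13.mem_centralizer_singleton_comm]
      exact ((Subgroup.mem_center_iff.mp Cfsg.Agent.Lib.Helper13.zSL_mem_center) g₀).symm
    have hcount := Cfsg.Agent.Lib.Helper13.card_conjClasses_dicyclic (N := ↥N) (T'.subgroupOf N)
      ⟨Cfsg.Agent.Lib.Helper13.zSL F, hzN⟩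
      (by
        rw [Nat.card_congr (Subgroup.subgroupOfEquivOfLe hTN).toEquiv]
        exact hcardN)
      (by
        intro h
        exact Cfsg.Agent.Lib.Helper13.zSL_ne_one h2 (congrArg Subtype.val h))
      (by
        rw [Subgroup.mem_subgroupOf]
        exact hzT)
      (by
        apply Subtype.ext
        exact Cfsg.Agent.Lib.Helper13.zSL_mul_self)
      (by
        intro a ha b hb
        rw [Subgroup.mem_subgroupOf] at ha hb
        apply Subtype.ext
        have hb' : (b : Matrix.SpecialLinearGroup (Fin 2) F) ∈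
            Subgroup.centralizer (T' : Set (Matrix.SpecialLinearGroup (Fin 2) F)) := by
          rw [hcc]; exact hb
        exact Subgroup.mem_centralizer_iff.mp hb' _ ha)
      (by
        intro a ha t ht
        rw [Subgroup.mem_subgroupOf] at ha ht
        apply Subtype.ext
        exact Cfsg.Agent.Lib.Helper13.conj_eq_inv_of_mem_centralizer g₀ hg _ (hout _ a.2 ha) _ ht)
      (by
        intro t _ htt
        have h1 : (t : Matrix.SpecialLinearGroup (Fin 2) F) * (t : Matrix.SpecialLinearGroup (Fin 2) F) = 1 :=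
          congrArg Subtype.val htt
        rcases Cfsg.Agent.Lib.Helper13.sq_eq_one_cases h2 _ h1 with h3 | h3
        · left; exact Subtype.ext h3
        · right; exact Subtype.ext h3)
    rw [Nat.card_congr (Subgroup.subgroupOfEquivOfLe hTN).toEquiv, hcardT] at hcount
    omega
  · intro g hgN hgT
    have h1 := Cfsg.Agent.Lib.Helper13.mul_self_eq_zSL_of_inverting h2 g₀ hg hne g (hout g hgN hgT)
    change ((g * g : Matrix.SpecialLinearGroup (Fin 2) F) : Matrix (Fin 2) (Fin 2) F) = -1
    rw [h1, Cfsg.Agent.Lib.Helper13.zSL_coe]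
    ext i j
    fin_cases i <;> fin_cases j <;> simp

end Cfsg.Agent.S2429
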