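import Cfsg.Statements.S2430
import Cfsg.Agent.Lib.Helper13.SL2SylowOdd

set_option autoImplicit false
open Cfsg

namespace Cfsg.Agent.S2430

/-- Let F be a finite field with q elements, q odd, ℓ an odd prime, and P a Sylow ℓ-subgroup of SL₂ over F. If ℓ divides q − 1, the centraliser of P is cyclic of order q − 1 (a split torus) and the normaliser of P has order 2(q − 1); if ℓ divides q + 1, the centraliser of P is cyclic of order q + 1 (a non-split torus) and the normaliser of P has order 2(q + 1). -/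
theorem result {F : Type*} [Field F] [Fintype F] (hodd : Odd (Fintype.card F)) (ℓ : ℕ) [Fact ℓ.Prime] (hℓ : ℓ ≠ 2)
    (P : Sylow ℓ (Matrix.SpecialLinearGroup (Fin 2) F)) :
    (ℓ ∣ Fintype.card F - 1 →
      Nat.card (Subgroup.centralizer ((P : Subgroup (Matrix.SpecialLinearGroup (Fin 2) F)) : Set (Matrix.SpecialLinearGroup (Fin 2) F))) = Fintype.card F - 1 ∧
      IsCyclic (Subgroup.centralizer ((P : Subgroup (Matrix.SpecialLinearGroup (Fin 2) F)) : Set (Matrix.SpecialLinearGroup (Fin 2) F))) ∧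
      Nat.card (Subgroup.normalizer ((P : Subgroup (Matrix.SpecialLinearGroup (Fin 2) F)) : Set (Matrix.SpecialLinearGroup (Fin 2) F))) = 2 * (Fintype.card F - 1)) ∧
    (ℓ ∣ Fintype.card F + 1 →
      Nat.card (Subgroup.centralizer ((P : Subgroup (Matrix.SpecialLinearGroup (Fin 2) F)) : Set (Matrix.SpecialLinearGroup (Fin 2) F))) = Fintype.card F + 1 ∧
      IsCyclic (Subgroup.centralizer ((P : Subgroup (Matrix.SpecialLinearGroup (Fin 2) F)) : Set (Matrix.SpecialLinearGroup (Fin 2) F))) ∧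
      Nat.card (Subgroup.normalizer ((P : Subgroup (Matrix.SpecialLinearGroup (Fin 2) F)) : Set (Matrix.SpecialLinearGroup (Fin 2) F))) = 2 * (Fintype.card F + 1)) := by
  classical
  have hℓp : ℓ.Prime := Fact.out
  have hq : 2 ≤ Fintype.card F := Fintype.one_lt_card
  have hℓodd : ¬ ℓ ∣ 2 := by
    intro h
    exact hℓ ((Nat.prime_dvd_prime_iff_eq hℓp Nat.prime_two).mp h)
  have hnot : ¬ (ℓ ∣ Fintype.card F - 1 ∧ ℓ ∣ Fintype.card F + 1) := by
    rintro ⟨h1, h2⟩
    apply hℓodd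
    have := Nat.dvd_sub h2 h1
    rwa [show Fintype.card F + 1 - (Fintype.card F - 1) = 2 by omega] at this
  have key : ∀ (hdvd : ℓ ∣ Fintype.card F - 1 ∨ ℓ ∣ Fintype.card F + 1),
      ∃ c : ℕ, (c = Fintype.card F - 1 ∨ c = Fintype.card F + 1) ∧ ℓ ∣ c ∧
      Nat.card (Subgroup.centralizer ((P : Subgroup (Matrix.SpecialLinearGroup (Fin 2) F)) : Set (Matrix.SpecialLinearGroup (Fin 2) F))) = c ∧
      IsCyclic (Subgroup.centralizer ((P : Subgroup (Matrix.SpecialLinearGroup (Fin 2) F)) : Set (Matrix.SpecialLinearGroup (Fin 2) F))) ∧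
      Nat.card (Subgroup.normalizer ((P : Subgroup (Matrix.SpecialLinearGroup (Fin 2) F)) : Set (Matrix.SpecialLinearGroup (Fin 2) F))) = 2 * c := by
    intro hdvd
    obtain ⟨g, hP, hg, hne, hℓg⟩ := Cfsg.Agent.Lib.Helper13.exists_gen_sylow_odd ℓ hℓ hdvd P
    rw [hP, Cfsg.Agent.Lib.Helper13.centralizer_zpowers_eq]
    refine ⟨_, Cfsg.Agent.Lib.Helper13.card_centralizer_cases g hg, ?_, rfl,
      Cfsg.Agent.Lib.Helper13.isCyclic_centralizer g hg,
      Cfsg.Agent.Lib.Helper13.card_normalizer_zpowers' g hg hne⟩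
    have h1 := orderOf_dvd_natCard (⟨g, Cfsg.Agent.Lib.Helper13.self_mem_centralizer g⟩ :
      Subgroup.centralizer ({g} : Set (Matrix.SpecialLinearGroup (Fin 2) F)))
    rw [Subgroup.orderOf_mk] at h1
    exact hℓg.trans h1
  constructor
  · intro h
    obtain ⟨c, hc, hℓc, h1, h2, h3⟩ := key (Or.inl h)
    rcases hc with hc | hc
    · rw [hc] at h1 h3
      exact ⟨h1, h2, h3⟩
    · exfalso
      rw [hc] at hℓc
      exact hnot ⟨h, hℓc⟩
  · intro h
    obtain ⟨c, hc, hℓc, h1, h2, h3⟩ := key (Or.inr h)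
    rcases hc with hc | hc
    · exfalso
      rw [hc] at hℓc
      exact hnot ⟨hℓc, h⟩
    · rw [hc] at h1 h3
      exact ⟨h1, h2, h3⟩

end Cfsg.Agent.S2430
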