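import Cfsg.Statements.S2435
import Cfsg.Agent.Lib.Helper13.SL2CuspF

set_option autoImplicit false
open Cfsg

namespace Cfsg.Agent.S2435

/-- Let F be a finite field with q elements, q odd and q ≥ 5, and χ an irreducible complex character of SL₂ over F. If χ has degree (q + 1)/2, then at a diagonal element with entry a, a² ≠ 1, χ takes the value 1 when a is a square in F and −1 otherwise. If χ has degree (q − 1)/2, then at an element g with no eigenvector in F² (so g has order dividing q + 1), χ takes the value −1 when g raised to the power (q + 1)/2 is the identity and the value 1 otherwise. -/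
theorem result {F : Type*} [Field F] [Fintype F] (hodd : Odd (Fintype.card F)) (hq : 5 ≤ Fintype.card F)
    (χ : Matrix.SpecialLinearGroup (Fin 2) F → ℂ) (hχ : Cfsg.IsIrrCharacter (Matrix.SpecialLinearGroup (Fin 2) F) χ) (g : Matrix.SpecialLinearGroup (Fin 2) F) :
    (χ 1 = (((Fintype.card F + 1) / 2 : ℕ) : ℂ) → (g : Matrix (Fin 2) (Fin 2) F) 0 1 = 0 → (g : Matrix (Fin 2) (Fin 2) F) 1 0 = 0 → (g : Matrix (Fin 2) (Fin 2) F) 0 0 ^ 2 ≠ 1 →
      (IsSquare ((g : Matrix (Fin 2) (Fin 2) F) 0 0) → χ g = 1) ∧ (¬ IsSquare ((g : Matrix (Fin 2) (Fin 2) F) 0 0) → χ g = -1)) ∧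
    (χ 1 = (((Fintype.card F - 1) / 2 : ℕ) : ℂ) → (∀ (c : F) (v : Fin 2 → F), v ≠ 0 → (g : Matrix (Fin 2) (Fin 2) F).mulVec v ≠ c • v) →
      (((g ^ ((Fintype.card F + 1) / 2)) : Matrix (Fin 2) (Fin 2) F) = 1 → χ g = -1) ∧ (((g ^ ((Fintype.card F + 1) / 2)) : Matrix (Fin 2) (Fin 2) F) ≠ 1 → χ g = 1)) := by
  classical
  obtain ⟨r, hr⟩ := hodd
  have hodd : Odd (Fintype.card F) := ⟨r, hr⟩
  have hm1 : (Fintype.card F + 1) / 2 = r + 1 := by omega
  have hm2 : (Fintype.card F - 1) / 2 = r := by omega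
  refine ⟨?_, ?_⟩
  · intro h1 h01 h10 ha
    have h1' : 2 * χ 1 = (Fintype.card F : ℂ) + 1 := by
      rw [h1, hm1, hr]; push_cast; ring
    have hval := Cfsg.Agent.Lib.Helper13.half_plus_split hodd hq hχ h1' g h01 h10 ha
    have hd := g.2
    rw [Matrix.det_fin_two, h01, zero_mul, sub_zero] at hd
    have h00 : (g : Matrix (Fin 2) (Fin 2) F) 0 0 ≠ 0 := left_ne_zero_of_mul_eq_one hd
    refine ⟨fun hs => ?_, fun hs => ?_⟩
    · rw [hval, Cfsg.Agent.Lib.Helper13.quadC_of_isSquare h00 hs]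
    · rw [hval, Cfsg.Agent.Lib.Helper13.quadC_of_not_isSquare hs]
  · intro h1 hg
    have h1' : 2 * χ 1 + 1 = (Fintype.card F : ℂ) := by
      rw [h1, hm2, hr]; push_cast; ring
    obtain ⟨e1, e2⟩ := Cfsg.Agent.Lib.Helper13.half_minus_elliptic hodd hq hχ h1' g hg
    refine ⟨fun h => e1 (Subtype.ext (by rw [Matrix.SpecialLinearGroup.coe_pow, h]; rfl)),
      fun h => e2 (fun h' => h (by rw [← Matrix.SpecialLinearGroup.coe_pow, h']; rfl))⟩

end Cfsg.Agent.S2435
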