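import Cfsg.Statements.S2438
import Cfsg.Agent.Lib.Helper13.SLBridge4

set_option autoImplicit false
open Cfsg

namespace Cfsg.Agent.S2438

theorem arith_core (q r m k d D σ : ℕ) (hq : q = 2 * r + 1) (hr : 2 ≤ r) (hm0 : m ≠ 0)
    (hD : D = m * d) (hS : σ = m * (q * k))
    (hT : (D = 1 ∧ σ = q) ∨ (D = q ∧ σ = q) ∨ (D = q + 1 ∧ σ = 2 * q) ∨ (D + 1 = q ∧ σ = 0)) :
    (d = q + 1 → q * k = 2 * q) ∧ (d = q → q * k = q) ∧ (d + 1 = q → q * k = 0) ∧
      (d = r + 1 → q * k = q) ∧ (d = r → q * k = 0) := by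
  have hm3 : ∀ _ : r ≤ d, m ≤ 3 := by
    intro hd
    by_contra hcon
    have h4 : 4 * d ≤ m * d := Nat.mul_le_mul_right _ (by omega)
    rcases hT with ⟨h1, -⟩ | ⟨h1, -⟩ | ⟨h1, -⟩ | ⟨h1, -⟩ <;> omega
  refine ⟨?_, ?_, ?_, ?_, ?_⟩
  · intro hd
    have := hm3 (by omega)
    interval_cases m
    · exact absurd rfl hm0
    all_goals rcases hT with ⟨h1, h2⟩ | ⟨h1, h2⟩ | ⟨h1, h2⟩ | ⟨h1, h2⟩ <;> omega
  · intro hd
    have := hm3 (by omega)
    interval_cases m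
    · exact absurd rfl hm0
    all_goals rcases hT with ⟨h1, h2⟩ | ⟨h1, h2⟩ | ⟨h1, h2⟩ | ⟨h1, h2⟩ <;> omega
  · intro hd
    have := hm3 (by omega)
    interval_cases m
    · exact absurd rfl hm0
    all_goals rcases hT with ⟨h1, h2⟩ | ⟨h1, h2⟩ | ⟨h1, h2⟩ | ⟨h1, h2⟩ <;> omega
  · intro hd
    have := hm3 (by omega)
    interval_cases m
    · exact absurd rfl hm0
    all_goals rcases hT with ⟨h1, h2⟩ | ⟨h1, h2⟩ | ⟨h1, h2⟩ | ⟨h1, h2⟩ <;> omega
  · intro hd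
    have := hm3 (by omega)
    interval_cases m
    · exact absurd rfl hm0
    all_goals rcases hT with ⟨h1, h2⟩ | ⟨h1, h2⟩ | ⟨h1, h2⟩ | ⟨h1, h2⟩ <;> omega

/-- Let F be a finite field with q elements, q odd, q ≥ 5, U the upper unitriangular subgroup of SL₂ over F, and χ an irreducible complex character. The sum of the values of χ over U equals 2q, q, 0, q, 0 according as the degree of χ is q + 1, q, q − 1, (q + 1)/2, (q − 1)/2; so among these five degrees the sum vanishes exactly for the degrees q − 1 and (q − 1)/2, i.e. the irreducible characters of those two degrees are the ones whose restriction to U does not contain the trivial character (the cuspidal characters), while those of degree q + 1, q and (q + 1)/2 are not cuspidal. -/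
theorem result {F : Type*} [Field F] [Fintype F] [DecidableEq F] (hodd : Odd (Fintype.card F)) (hq : 5 ≤ Fintype.card F)
    (χ : Matrix.SpecialLinearGroup (Fin 2) F → ℂ) (hχ : Cfsg.IsIrrCharacter (Matrix.SpecialLinearGroup (Fin 2) F) χ) :
    (χ 1 = (Fintype.card F : ℂ) + 1 →
      (∑ g : Matrix.SpecialLinearGroup (Fin 2) F, if (g : Matrix (Fin 2) (Fin 2) F) 1 0 = 0 ∧ (g : Matrix (Fin 2) (Fin 2) F) 0 0 = 1 ∧ (g : Matrix (Fin 2) (Fin 2) F) 1 1 = 1 then χ g else 0) = 2 * (Fintype.card F : ℂ)) ∧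
    (χ 1 = (Fintype.card F : ℂ) →
      (∑ g : Matrix.SpecialLinearGroup (Fin 2) F, if (g : Matrix (Fin 2) (Fin 2) F) 1 0 = 0 ∧ (g : Matrix (Fin 2) (Fin 2) F) 0 0 = 1 ∧ (g : Matrix (Fin 2) (Fin 2) F) 1 1 = 1 then χ g else 0) = (Fintype.card F : ℂ)) ∧
    (χ 1 = (Fintype.card F : ℂ) - 1 →
      (∑ g : Matrix.SpecialLinearGroup (Fin 2) F, if (g : Matrix (Fin 2) (Fin 2) F) 1 0 = 0 ∧ (g : Matrix (Fin 2) (Fin 2) F) 0 0 = 1 ∧ (g : Matrix (Fin 2) (Fin 2) F) 1 1 = 1 then χ g else 0) = 0) ∧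
    (χ 1 = (((Fintype.card F + 1) / 2 : ℕ) : ℂ) →
      (∑ g : Matrix.SpecialLinearGroup (Fin 2) F, if (g : Matrix (Fin 2) (Fin 2) F) 1 0 = 0 ∧ (g : Matrix (Fin 2) (Fin 2) F) 0 0 = 1 ∧ (g : Matrix (Fin 2) (Fin 2) F) 1 1 = 1 then χ g else 0) = (Fintype.card F : ℂ)) ∧
    (χ 1 = (((Fintype.card F - 1) / 2 : ℕ) : ℂ) →
      (∑ g : Matrix.SpecialLinearGroup (Fin 2) F, if (g : Matrix (Fin 2) (Fin 2) F) 1 0 = 0 ∧ (g : Matrix (Fin 2) (Fin 2) F) 0 0 = 1 ∧ (g : Matrix (Fin 2) (Fin 2) F) 1 1 = 1 then χ g else 0) = 0) := by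
  obtain ⟨ψ, hψ, h1⟩ := Cfsg.Agent.Lib.Helper13.exists_irr_over_SL hχ
  obtain ⟨m, k, hm0, hm, hk, hσ⟩ := Cfsg.Agent.Lib.Helper13.unip_sum_prop hψ hχ h1
  obtain ⟨d, hd0, hd⟩ := Cfsg.Agent.CharLib.IsIrrCharacter.apply_one_pos hχ
  obtain ⟨r, hr⟩ := hodd
  have hr2 : 2 ≤ r := by omega
  rw [Cfsg.Agent.Lib.Helper13.sum_isUnip χ, hk, hd]
  rw [hd] at hm
  have hq1 : 1 ≤ Fintype.card F := by omega
  obtain ⟨D, σ, hD, hS, hT⟩ : ∃ D σ : ℕ, D = m * d ∧ σ = m * (Fintype.card F * k) ∧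
      ((D = 1 ∧ σ = Fintype.card F) ∨ (D = Fintype.card F ∧ σ = Fintype.card F) ∨
        (D = Fintype.card F + 1 ∧ σ = 2 * Fintype.card F) ∨ (D + 1 = Fintype.card F ∧ σ = 0)) := by
    refine ⟨m * d, m * (Fintype.card F * k), rfl, rfl, ?_⟩
    rcases Cfsg.Agent.Lib.Helper13.irr_GL2_sigma hψ with ⟨h2, h3⟩ | ⟨h2, h3⟩ | ⟨h2, h3⟩ | ⟨h2, h3⟩
    · left
      rw [hm] at h2
      rw [hσ] at h3
      exact ⟨by exact_mod_cast h2, by exact_mod_cast h3⟩
    · right; left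
      rw [hm] at h2
      rw [hσ] at h3
      exact ⟨by exact_mod_cast h2, by exact_mod_cast h3⟩
    · right; right; left
      rw [hm] at h2
      rw [hσ] at h3
      exact ⟨by exact_mod_cast h2, by exact_mod_cast h3⟩
    · right; right; right
      rw [hm] at h2
      rw [hσ] at h3
      refine ⟨?_, by exact_mod_cast h3⟩
      have h4 : ((m * d + 1 : ℕ) : ℂ) = (Fintype.card F : ℂ) := by
        push_cast
        linear_combination h2
      exact_mod_cast h4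
  obtain ⟨g1, g2, g3, g4, g5⟩ := arith_core (Fintype.card F) r m k d D σ hr hr2 hm0 hD hS hT
  have hhalf1 : (Fintype.card F + 1) / 2 = r + 1 := by omega
  have hhalf2 : (Fintype.card F - 1) / 2 = r := by omega
  rw [hhalf1, hhalf2]
  refine ⟨?_, ?_, ?_, ?_, ?_⟩
  · intro h
    have h' : d = Fintype.card F + 1 := by exact_mod_cast h
    exact_mod_cast g1 h'
  · intro h
    have h' : d = Fintype.card F := by exact_mod_cast h
    exact_mod_cast g2 h'
  · intro h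
    have h4 : ((d + 1 : ℕ) : ℂ) = (Fintype.card F : ℂ) := by
      push_cast
      linear_combination h
    have h' : d + 1 = Fintype.card F := by exact_mod_cast h4
    exact_mod_cast g3 h'
  · intro h
    have h' : d = r + 1 := by exact_mod_cast h
    exact_mod_cast g4 h'
  · intro h
    have h' : d = r := by exact_mod_cast h
    exact_mod_cast g5 h'

end Cfsg.Agent.S2438
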