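import Cfsg.Statements.S2459
import Mathlib
import Cfsg.Agent.Lib.Helper4.SourX

set_option autoImplicit false
open Cfsg

namespace Cfsg.Agent.S2459


/-- A form of Thompson's conjecture for PSL(3,q), q > 2 (covering the non-identity elements), with a semisimple class: for F a finite field of characteristic p with more than 2 elements there is an element x of PSL(3,F) of order prime to p such that every non-identity element of PSL(3,F) is a product of two conjugates of x. -/
theorem result {F : Type*} [Field F] [Fintype F] (p : ℕ) [Fact p.Prime] [CharP F p] (h3 : 3 ≤ Fintype.card F) :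
    ∃ x : Matrix.ProjectiveSpecialLinearGroup (Fin 3) F, ¬ p ∣ orderOf x ∧ ∀ g : Matrix.ProjectiveSpecialLinearGroup (Fin 3) F, g ≠ 1 → ∃ u v : Matrix.ProjectiveSpecialLinearGroup (Fin 3) F, g = (u * x * u⁻¹) * (v * x * v⁻¹) := by
  classical
  obtain ⟨n, hp, hcard⟩ := FiniteField.card F p
  have hpq : p ∣ Fintype.card F := by
    rw [hcard]; exact dvd_pow_self p n.ne_zero
  rcases Nat.lt_or_ge 3 (Fintype.card F) with h4 | h3'
  · -- `q ≥ 4`
    obtain ⟨ζ, h0, h1, h2⟩ : ∃ ζ : F, ζ ≠ 0 ∧ ζ ≠ 1 ∧ ζ ^ 2 ≠ 1 := by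
      obtain ⟨g, hg⟩ := IsCyclic.exists_generator (α := Fˣ)
      have hord : orderOf g = Fintype.card F - 1 := by
        rw [orderOf_eq_card_of_forall_mem_zpowers hg, Nat.card_eq_fintype_card, Fintype.card_units]
      refine ⟨(g : F), g.ne_zero, ?_, ?_⟩
      · intro h
        have : g = 1 := Units.ext h
        rw [this, orderOf_one] at hord
        omega
      · intro h
        have : g ^ 2 = 1 := Units.ext (by simpa using h)
        have := orderOf_dvd_of_pow_eq_one this
        have := Nat.le_of_dvd (by norm_num) this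
        omega
    have hdet : (!![1, 0, 0; 0, ζ, 0; 0, 0, ζ⁻¹] : Matrix (Fin 3) (Fin 3) F).det = 1 := by
      simp [Matrix.det_fin_three, h0]
    obtain ⟨X, hX⟩ : ∃ X : Matrix.SpecialLinearGroup (Fin 3) F,
        (X : Matrix (Fin 3) (Fin 3) F) = !![1, 0, 0; 0, ζ, 0; 0, 0, ζ⁻¹] := ⟨⟨_, hdet⟩, rfl⟩
    refine ⟨QuotientGroup.mk X, ?_, fun g hg => ?_⟩
    · have hpow : X ^ (Fintype.card F - 1) = 1 := by
        apply Subtype.ext
        rw [Matrix.SpecialLinearGroup.coe_pow, hX]
        have hd : (!![1, 0, 0; 0, ζ, 0; 0, 0, ζ⁻¹] : Matrix (Fin 3) (Fin 3) F) =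
            Matrix.diagonal ![1, ζ, ζ⁻¹] := by
          ext i j
          fin_cases i <;> fin_cases j <;> simp
        rw [hd, Matrix.diagonal_pow]
        have hz : ζ ^ (Fintype.card F - 1) = 1 := FiniteField.pow_card_sub_one_eq_one ζ h0
        ext i j
        fin_cases i <;> fin_cases j <;> simp [hz]
      have hdvd := Cfsg.Agent.H4Sour.orderOf_mk_dvd X _ hpow
      intro hpo
      have h5 : p ∣ Fintype.card F - 1 := dvd_trans hpo hdvd
      have h6 : p ∣ 1 := by
        have := Nat.dvd_sub hpq h5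
        have e : Fintype.card F - (Fintype.card F - 1) = 1 := by omega
        rwa [e] at this
      exact hp.one_lt.ne' (Nat.dvd_one.mp h6)
    · apply Cfsg.Agent.H4Sour.psl_cover X _ _ _ g hg
      · intro j hj
        rw [hX]; fin_cases j <;> simp at hj ⊢
      · intro i hi
        rw [hX]; fin_cases i <;> simp at hi ⊢
      · intro A hdA hA
        rw [hX]
        exact Cfsg.Agent.H4Sour.good_of_nonscalar ζ h0 h1 h2 A hdA hA
  · -- `q = 3`
    have hF : Fintype.card F = 3 := le_antisymm h3' h3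
    have hp3 : p = 3 := by
      rw [hF] at hpq
      exact (Nat.prime_dvd_prime_iff_eq hp Nat.prime_three).mp hpq
    have hdet : (!![1, 0, 0; 0, 0, -1; 0, 1, 0] : Matrix (Fin 3) (Fin 3) F).det = 1 := by
      simp [Matrix.det_fin_three]
    obtain ⟨X, hX⟩ : ∃ X : Matrix.SpecialLinearGroup (Fin 3) F,
        (X : Matrix (Fin 3) (Fin 3) F) = !![1, 0, 0; 0, 0, -1; 0, 1, 0] := ⟨⟨_, hdet⟩, rfl⟩
    refine ⟨QuotientGroup.mk X, ?_, fun g hg => ?_⟩
    · have hpow : X ^ 4 = 1 := by
        apply Subtype.ext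
        rw [Matrix.SpecialLinearGroup.coe_pow, hX]
        ext i j
        fin_cases i <;> fin_cases j <;> simp [pow_succ, Matrix.mul_apply, Fin.sum_univ_three]
      have hdvd := Cfsg.Agent.H4Sour.orderOf_mk_dvd X _ hpow
      intro hpo
      have h5 : p ∣ 4 := dvd_trans hpo hdvd
      rw [hp3] at h5
      omega
    · apply Cfsg.Agent.H4Sour.psl_cover X _ _ _ g hg
      · intro j hj
        rw [hX]; fin_cases j <;> simp at hj ⊢
      · intro i hi
        rw [hX]; fin_cases i <;> simp at hi ⊢
      · intro A hdA hA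
        rw [hX]
        exact Cfsg.Agent.H4Sour.good3F hF A hdA hA

end Cfsg.Agent.S2459
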