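import Cfsg.Statements.S2467
-- import your own Cfsg.Agent.* helpers here
import Cfsg.Agent.Lib.Helper14.AltSpectrum

set_option autoImplicit false
open Cfsg

namespace Cfsg.Agent.S2467

/-- Adjacency of 2 and an odd prime in the prime graph of the alternating groups: let r be an odd prime at most n, with n ≥ 4. The alternating group of degree n has an element of order 2r if and only if r + 4 ≤ n. -/
theorem result (n r : ℕ) (hn : 4 ≤ n) (hr : r.Prime) (hr2 : r ≠ 2) (hrn : r ≤ n) :
    (2 * r ∈ Set.range (orderOf : alternatingGroup (Fin n) → ℕ)) ↔ r + 4 ≤ n := by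
  rw [Cfsg.Agent.Lib.Helper14.mem_range_orderOf_alternatingGroup_iff]
  have hr3 : 3 ≤ r := by
    have := hr.two_le
    omega
  have hrodd : Odd r := hr.odd_of_ne_two hr2
  constructor
  · rintro ⟨m, h2, hsum, hlcm, hev⟩
    have h2m : 2 ∣ m.lcm := hlcm ▸ Dvd.intro _ rfl
    have hrm : r ∣ m.lcm := hlcm ▸ Dvd.intro_left _ rfl
    obtain ⟨a, ha, h2a⟩ := Cfsg.Agent.Lib.Helper14.exists_mem_dvd_of_prime_dvd_multiset_lcm Nat.prime_two h2m
    obtain ⟨b, hb, hrb⟩ := Cfsg.Agent.Lib.Helper14.exists_mem_dvd_of_prime_dvd_multiset_lcm hr hrm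
    -- every member of `m` is `2`, `r` or `2 * r`
    have hmem : ∀ x ∈ m, x = 2 ∨ x = r ∨ x = 2 * r := by
      intro x hx
      have hx2 := h2 x hx
      have hdvd : x ∣ 2 * r := hlcm ▸ Multiset.dvd_lcm hx
      obtain ⟨k₁, k₂, hk₁, hk₂, rfl⟩ := (Nat.dvd_mul).mp hdvd
      rcases (Nat.dvd_prime Nat.prime_two).mp hk₁ with rfl | rfl <;>
        rcases (Nat.dvd_prime hr).mp hk₂ with rfl | rfl
      · omega
      · right; left; ring
      · left; ring
      · right; right; rfl
    have hsub : m.toFinset ⊆ ({2, r, 2 * r} : Finset ℕ) := by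
      intro x hx
      rw [Multiset.mem_toFinset] at hx
      simp only [Finset.mem_insert, Finset.mem_singleton]
      exact hmem x hx
    have hne1 : (2 : ℕ) ∉ ({r, 2 * r} : Finset ℕ) := by
      simp only [Finset.mem_insert, Finset.mem_singleton]
      omega
    have hne2 : r ∉ ({2 * r} : Finset ℕ) := by
      simp only [Finset.mem_singleton]
      omega
    have hS : m.sum = m.count 2 * 2 + (m.count r * r + m.count (2 * r) * (2 * r)) := by
      rw [Finset.sum_multiset_count_of_subset m _ hsub, Finset.sum_insert hne1,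
        Finset.sum_insert hne2, Finset.sum_singleton]
      simp only [smul_eq_mul]
    have hC : Multiset.card m = m.count 2 + (m.count r + m.count (2 * r)) := by
      rw [← Multiset.toFinset_sum_count_eq m, Finset.sum_subset hsub, Finset.sum_insert hne1,
        Finset.sum_insert hne2, Finset.sum_singleton]
      intro x _ hx
      rw [Multiset.mem_toFinset] at hx
      exact Multiset.count_eq_zero.mpr hx
    -- the member `a` divisible by 2 is `2` or `2 * r`
    have hA : 1 ≤ m.count 2 + m.count (2 * r) := by
      rcases hmem a ha with rfl | rfl | rfl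
      · have := Multiset.count_pos.mpr ha; omega
      · exfalso
        rw [← even_iff_two_dvd] at h2a
        exact (Nat.not_even_iff_odd.mpr hrodd) h2a
      · have := Multiset.count_pos.mpr ha; omega
    have hB : 1 ≤ m.count r + m.count (2 * r) := by
      rcases hmem b hb with rfl | rfl | rfl
      · exfalso
        have := Nat.le_of_dvd (by norm_num) hrb
        omega
      · have := Multiset.count_pos.mpr hb; omega
      · have := Multiset.count_pos.mpr hb; omega
    obtain ⟨x, hx⟩ := hrodd
    generalize m.count 2 = c2 at *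
    generalize m.count r = cr at *
    generalize m.count (2 * r) = c2r at *
    rw [hS, hC] at hev
    -- parity: c2 + c2r is even
    have hpar : Even (c2 + c2r) := by
      have h1 : c2 * 2 + (cr * r + c2r * (2 * r)) + (c2 + (cr + c2r)) =
          (c2 + c2r) + 2 * (c2 + cr * (x + 1) + c2r * r) := by
        subst hx; ring
      rw [h1] at hev
      have h3 : Even (2 * (c2 + cr * (x + 1) + c2r * r)) := even_two_mul _
      exact (Nat.even_add.mp hev).mpr h3
    obtain ⟨y, hy⟩ := hpar
    have hy1 : 1 ≤ y := by omega
    rw [hS] at hsum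
    rcases Nat.eq_zero_or_pos c2r with h0 | h0
    · -- no `2r`-cycle
      subst h0
      have h1 : r ≤ cr * r := Nat.le_mul_of_pos_left r (by omega)
      have h4 : 2 ≤ c2 := by omega
      nlinarith
    · have h1 : 2 * r ≤ c2r * (2 * r) := Nat.le_mul_of_pos_left (2 * r) h0
      rcases Nat.lt_or_ge c2r 2 with h5 | h5
      · have h6 : 1 ≤ c2 := by omega
        nlinarith
      · have h7 : 2 * (2 * r) ≤ c2r * (2 * r) := Nat.mul_le_mul_right (2 * r) h5
        nlinarith
  · intro h
    refine ⟨{r, 2, 2}, ?_, ?_, ?_, ?_⟩
    · intro a ha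
      simp only [Multiset.insert_eq_cons, Multiset.mem_cons, Multiset.mem_singleton] at ha
      rcases ha with rfl | rfl | rfl <;> omega
    · simp only [Multiset.insert_eq_cons, Multiset.sum_cons, Multiset.sum_singleton]
      omega
    · have hcop : Nat.Coprime r 2 := (Nat.coprime_primes hr Nat.prime_two).mpr hr2
      simp only [Multiset.insert_eq_cons, Multiset.lcm_cons, Multiset.lcm_singleton, normalize_eq]
      have : GCDMonoid.lcm 2 2 = (2 : ℕ) := by
        change Nat.lcm 2 2 = 2
        simp
      rw [this]
      change Nat.lcm r 2 = 2 * r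
      rw [hcop.lcm_eq_mul, mul_comm]
    · simp only [Multiset.insert_eq_cons, Multiset.sum_cons, Multiset.sum_singleton,
        Multiset.card_cons, Multiset.card_singleton]
      obtain ⟨x, hx⟩ := hrodd
      exact ⟨x + 4, by omega⟩

end Cfsg.Agent.S2467
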