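import Cfsg.Statements.S2468
-- import your own Cfsg.Agent.* helpers here
import Cfsg.Agent.Lib.Helper15.PrimeGraphSL

set_option autoImplicit false
open Cfsg

namespace Cfsg.Agent.S2468

open Matrix Cfsg.Agent.Lib.Helper15.SylowLarge Cfsg.Agent.Lib.Helper15.PrimeGraphSL

section

variable {F : Type*} [Field F] [Fintype F]

/-- a prime different from the characteristic does not divide `q` -/
lemma not_dvd_card (p : ℕ) [Fact p.Prime] [CharP F p] (r : ℕ) (hr : r.Prime) (hrp : r ≠ p) :
    ¬ r ∣ Fintype.card F := by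
  obtain ⟨f, -, hf⟩ := FiniteField.card F p
  rw [hf]
  intro h
  have := hr.dvd_of_dvd_pow h
  exact hrp ((Nat.prime_dvd_prime_iff_eq hr (Fact.out : p.Prime)).mp this)

/-- a prime dividing `|PSL_n(q)|`, not dividing `q`, has `ord ≤ n` -/
lemma ord_le_of_dvd (n : ℕ) (hn : 2 ≤ n) (s : ℕ) [hs : Fact s.Prime]
    (hsq : ¬ s ∣ Fintype.card F)
    (hsG : s ∣ Nat.card (Matrix.ProjectiveSpecialLinearGroup (Fin n) F)) :
    orderOf ((Fintype.card F : ℕ) : ZMod s) ≤ n := by
  have h1 : s ∣ Nat.card (SpecialLinearGroup (Fin n) F) :=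
    hsG.trans (Subgroup.card_quotient_dvd_card _)
  obtain ⟨k, rfl⟩ : ∃ k, n = k + 1 := ⟨n - 1, by omega⟩
  rw [Cfsg.Agent.S2364.card_SL_eq] at h1
  rcases (Nat.Prime.dvd_mul hs.out).mp h1 with h2 | h2
  · rw [Prime.dvd_finsetProd_iff (Nat.Prime.prime hs.out)] at h2
    obtain ⟨i, -, hi⟩ := h2
    have hi' : (i : ℕ) < k := i.isLt
    have e : Fintype.card F ^ (k + 1) - Fintype.card F ^ (i : ℕ) =
        Fintype.card F ^ (i : ℕ) * (Fintype.card F ^ (k + 1 - (i : ℕ)) - 1) := by
      rw [Nat.mul_sub, mul_one, ← pow_add]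
      congr 2; omega
    rw [e] at hi
    rcases (Nat.Prime.dvd_mul hs.out).mp hi with h3 | h3
    · exact absurd (hs.out.dvd_of_dvd_pow h3) hsq
    · rw [dvd_pow_sub_one_iff hsq] at h3
      exact (Nat.le_of_dvd (by omega) h3).trans (by omega)
  · exact absurd (hs.out.dvd_of_dvd_pow h2) hsq

/-- the constructive direction -/
theorem exists_elt (n : ℕ) (r s : ℕ) [hr : Fact r.Prime] [hs : Fact s.Prime] (hrs : r ≠ s)
    (hrq : ¬ r ∣ Fintype.card F) (hsq : ¬ s ∣ Fintype.card F)
    (k l : ℕ) (hk : k = orderOf ((Fintype.card F : ℕ) : ZMod r))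
    (hl : l = orderOf ((Fintype.card F : ℕ) : ZMod s)) (h2k : 2 ≤ k) (h2l : 2 ≤ l)
    (hln : l ≤ n) (h : k + l ≤ n ∨ k ∣ l) :
    r * s ∈ Set.range (orderOf : Matrix.ProjectiveSpecialLinearGroup (Fin n) F → ℕ) := by
  classical
  set q := Fintype.card F with hq
  have hr1 : ¬ r ∣ q - 1 := by
    intro h1
    have : r ∣ q ^ 1 - 1 := by rwa [pow_one]
    rw [dvd_pow_sub_one_iff hrq, ← hk, Nat.dvd_one] at this
    omega
  have hs1 : ¬ s ∣ q - 1 := by
    intro h1
    have : s ∣ q ^ 1 - 1 := by rwa [pow_one]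
    rw [dvd_pow_sub_one_iff hsq, ← hl, Nat.dvd_one] at this
    omega
  have hn1 : 1 ≤ n := by omega
  rcases h with h | h
  · -- block diagonal elements
    obtain ⟨x, hx⟩ := exists_sl_orderOf (F := F) k h2k r
      (Or.inr ⟨k, h2k, le_rfl, by rw [dvd_pow_sub_one_iff hrq, ← hk]⟩)
    obtain ⟨y, hy⟩ := exists_sl_orderOf (F := F) l h2l s
      (Or.inr ⟨l, h2l, le_rfl, by rw [dvd_pow_sub_one_iff hsq, ← hl]⟩)
    set X := emb (R := F) k l n h (x, 1) with hX
    set Y := emb (R := F) k l n h (1, y) with hY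
    have hXo : orderOf X = r := by
      rw [hX, orderOf_injective _ (emb_injective k l n h), Prod.orderOf_mk, hx, orderOf_one,
        Nat.lcm_one_right]
    have hYo : orderOf Y = s := by
      rw [hY, orderOf_injective _ (emb_injective k l n h), Prod.orderOf_mk, hy, orderOf_one,
        Nat.lcm_one_left]
    have hc : Commute X Y := by
      show X * Y = Y * X
      rw [hX, hY, ← map_mul, ← map_mul]
      congr 1
      ext <;> simp
    exact exists_orderOf_mul _ X Y r s hrs hc (by rw [← hXo]; exact pow_orderOf_eq_one X)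
      (by rw [← hYo]; exact pow_orderOf_eq_one Y)
      (not_mem_center n hn1 r hr1 X hXo) (not_mem_center n hn1 s hs1 Y hYo)
  · -- Singer cycle
    have h1 : r * s ∣ q ^ l - 1 := by
      apply Nat.Coprime.mul_dvd_of_dvd_of_dvd ((Nat.coprime_primes hr.out hs.out).mpr hrs)
      · rw [dvd_pow_sub_one_iff hrq, ← hk]; exact h
      · rw [dvd_pow_sub_one_iff hsq, ← hl]
    have h2 : Nat.Coprime (r * s) (q - 1) := by
      apply Nat.Coprime.mul_left
      · exact (Nat.Prime.coprime_iff_not_dvd hr.out).mpr hr1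
      · exact (Nat.Prime.coprime_iff_not_dvd hs.out).mpr hs1
    obtain ⟨g, hg⟩ := exists_singer (F := F) l (by omega) (r * s) h1 h2
    set G := emb (R := F) l 0 n (by omega) (g, 1) with hG
    have hGo : orderOf G = r * s := by
      rw [hG, orderOf_injective _ (emb_injective l 0 n (by omega)), Prod.orderOf_mk, hg,
        orderOf_one, Nat.lcm_one_right]
    have hXo : orderOf (G ^ s) = r := by
      rw [orderOf_pow_of_dvd hs.out.ne_zero (by rw [hGo]; exact dvd_mul_left s r), hGo,
        Nat.mul_div_cancel _ hs.out.pos]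
    have hYo : orderOf (G ^ r) = s := by
      rw [orderOf_pow_of_dvd hr.out.ne_zero (by rw [hGo]; exact dvd_mul_right r s), hGo,
        Nat.mul_div_cancel_left _ hr.out.pos]
    have hc : Commute (G ^ s) (G ^ r) := (Commute.refl G).pow_pow s r
    exact exists_orderOf_mul _ (G ^ s) (G ^ r) r s hrs hc
      (by rw [← hXo]; exact pow_orderOf_eq_one _)
      (by rw [← hYo]; exact pow_orderOf_eq_one _)
      (not_mem_center n hn1 r hr1 _ hXo) (not_mem_center n hn1 s hs1 _ hYo)

/-- dimension congruence from the fixed point congruence -/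
lemma dim_cong {n : ℕ} (r : ℕ) [hr : Fact r.Prime] (hrq : ¬ r ∣ Fintype.card F)
    (T : Module.End F (Fin n → F)) (hT : T ^ r = 1) (W : Submodule F (Fin n → F))
    (hW : ∀ w ∈ W, T w ∈ W) :
    orderOf ((Fintype.card F : ℕ) : ZMod r) ∣
      Module.finrank F W - Module.finrank F ↥(W ⊓ LinearMap.ker (T - 1)) := by
  have h := Cfsg.Agent.S2364.mod_lemma T hT W hW
  rw [Cfsg.Agent.S2364.card_sub, Cfsg.Agent.S2364.card_sub] at h
  exact Cfsg.Agent.S2364.e_dvd hrq (Submodule.finrank_mono inf_le_left) h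

/-- the non-existence direction -/
theorem no_elt (n : ℕ) (hn : 1 ≤ n) (r s : ℕ) [hr : Fact r.Prime] [hs : Fact s.Prime] (hrs : r ≠ s)
    (hrq : ¬ r ∣ Fintype.card F) (hsq : ¬ s ∣ Fintype.card F)
    (k l : ℕ) (hk : k = orderOf ((Fintype.card F : ℕ) : ZMod r))
    (hl : l = orderOf ((Fintype.card F : ℕ) : ZMod s)) (h2k : 2 ≤ k) (hkl : k ≤ l)
    (hnkl : n < k + l) (hdvd : ¬ k ∣ l)
    (g : Matrix.ProjectiveSpecialLinearGroup (Fin n) F) (hg : orderOf g = r * s) : False := by
  classical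
  set q := Fintype.card F with hq
  have hr1 : ¬ r ∣ q - 1 := by
    intro h1
    have : r ∣ q ^ 1 - 1 := by rwa [pow_one]
    rw [dvd_pow_sub_one_iff hrq, ← hk, Nat.dvd_one] at this
    omega
  have hs1 : ¬ s ∣ q - 1 := by
    intro h1
    have : s ∣ q ^ 1 - 1 := by rwa [pow_one]
    rw [dvd_pow_sub_one_iff hsq, ← hl, Nat.dvd_one] at this
    omega
  -- the two commuting elements
  have hbr : orderOf (g ^ s) = r := by
    rw [orderOf_pow_of_dvd hs.out.ne_zero (by rw [hg]; exact dvd_mul_left s r), hg,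
      Nat.mul_div_cancel _ hs.out.pos]
  have hbs : orderOf (g ^ r) = s := by
    rw [orderOf_pow_of_dvd hr.out.ne_zero (by rw [hg]; exact dvd_mul_right r s), hg,
      Nat.mul_div_cancel_left _ hr.out.pos]
  obtain ⟨Br, Bs, hBr, hBs, hBrr, hBss, hcomm⟩ :=
    lift_pair (G := SpecialLinearGroup (Fin n) F) r s hr.out.one_lt hs.out.one_lt
      ((Nat.coprime_primes hr.out hs.out).mpr hrs)
      (center_coprime n hn r hr.out hr1) (center_coprime n hn s hs.out hs1)
      (g ^ s) (g ^ r) ((Commute.refl g).pow_pow s r)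
      (by rw [← hbr]; exact pow_orderOf_eq_one _) (by rw [← hbs]; exact pow_orderOf_eq_one _)
  have hBr1 : Br ≠ 1 := by
    rintro rfl
    have : g ^ s = 1 := by rw [← hBr]; rfl
    rw [this, orderOf_one] at hbr
    exact hr.out.one_lt.ne hbr
  have hBs1 : Bs ≠ 1 := by
    rintro rfl
    have : g ^ r = 1 := by rw [← hBs]; rfl
    rw [this, orderOf_one] at hbs
    exact hs.out.one_lt.ne hbs
  set R := toEnd Br with hR
  set S := toEnd Bs with hS
  have hRr : R ^ r = 1 := toEnd_pow Br r hBrr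
  have hSs : S ^ s = 1 := toEnd_pow Bs s hBss
  have hRS : Commute R S := toEnd_commute Br Bs hcomm
  have hR1 : R ≠ 1 := fun h => hBr1 (toEnd_eq_one Br h)
  have hS1 : S ≠ 1 := fun h => hBs1 (toEnd_eq_one Bs h)
  set KR := LinearMap.ker (R - 1) with hKR
  set KS := LinearMap.ker (S - 1) with hKS
  have hfr : Module.finrank F (Fin n → F) = n := Module.finrank_fin_fun F
  have htop : Module.finrank F (⊤ : Submodule F (Fin n → F)) = n := by rw [finrank_top, hfr]
  -- stability
  have hKS_R : ∀ w ∈ KS, R w ∈ KS := by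
    intro w hw
    rw [hKS, LinearMap.mem_ker, LinearMap.sub_apply, Module.End.one_apply, sub_eq_zero] at hw ⊢
    have : S (R w) = R (S w) := by
      have := congrArg (fun f : Module.End F (Fin n → F) => f w) hRS.eq
      simpa [Module.End.mul_apply] using this.symm
    rw [this, hw]
  have hKR_S : ∀ w ∈ KR, S w ∈ KR := by
    intro w hw
    rw [hKR, LinearMap.mem_ker, LinearMap.sub_apply, Module.End.one_apply, sub_eq_zero] at hw ⊢
    have : R (S w) = S (R w) := by
      have := congrArg (fun f : Module.End F (Fin n → F) => f w) hRS.eq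
      simpa [Module.End.mul_apply] using this
    rw [this, hw]
  -- the four congruences
  have c1 := dim_cong r hrq R hRr ⊤ (fun w _ => Submodule.mem_top)
  have c2 := dim_cong r hrq R hRr KS hKS_R
  have c3 := dim_cong s hsq S hSs ⊤ (fun w _ => Submodule.mem_top)
  have c4 := dim_cong s hsq S hSs KR hKR_S
  rw [← hk] at c1 c2
  rw [← hl] at c3 c4
  rw [top_inf_eq, htop, ← hKR] at c1
  rw [top_inf_eq, htop, ← hKS] at c3
  rw [← hKR] at c2
  rw [← hKS] at c4
  rw [inf_comm] at c2
  set a := Module.finrank F KR with ha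
  set a' := Module.finrank F KS with ha'
  set c := Module.finrank F ↥(KR ⊓ KS) with hc
  have haN : a < n := by
    rw [← hfr]
    apply Submodule.finrank_lt
    intro h
    apply hR1
    have : R - 1 = 0 := LinearMap.ker_eq_top.mp h
    exact sub_eq_zero.mp this
  have ha'N : a' < n := by
    rw [← hfr]
    apply Submodule.finrank_lt
    intro h
    apply hS1
    have : S - 1 = 0 := LinearMap.ker_eq_top.mp h
    exact sub_eq_zero.mp this
  have hca : c ≤ a := Submodule.finrank_mono inf_le_left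
  have hca' : c ≤ a' := Submodule.finrank_mono inf_le_right
  have hk1 : k ≤ n - a := Nat.le_of_dvd (by omega) c1
  have hl1 : l ≤ n - a' := Nat.le_of_dvd (by omega) c3
  have e1 : c = a' := by
    by_contra hne
    have : k ≤ a' - c := Nat.le_of_dvd (by omega) c2
    omega
  have e2 : c = a := by
    by_contra hne
    have : l ≤ a - c := Nat.le_of_dvd (by omega) c4
    omega
  rw [← e2] at c1
  rw [← e1] at c3
  obtain ⟨t, ht⟩ := c3
  have ht1 : t = 1 := by
    rcases t with _ | _ | t
    · omega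
    · rfl
    · exfalso
      have : l * (t + 1 + 1) = l * t + l + l := by ring
      omega
  rw [ht1, mul_one] at ht
  rw [ht] at c1
  exact hdvd c1

theorem main (p : ℕ) [Fact p.Prime] [CharP F p] (n : ℕ) (hn : 2 ≤ n)
    (r s : ℕ) (hr : r.Prime) (hs : s.Prime) (hrp : r ≠ p) (hsp : s ≠ p) (hrs : r ≠ s)
    (hsG : s ∣ Nat.card (Matrix.ProjectiveSpecialLinearGroup (Fin n) F))
    (k l : ℕ) (hk : k = orderOf ((Fintype.card F : ℕ) : ZMod r))
    (hl : l = orderOf ((Fintype.card F : ℕ) : ZMod s))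
    (h2k : 2 ≤ k) (hkl : k ≤ l) :
    (r * s ∉ Set.range (orderOf : Matrix.ProjectiveSpecialLinearGroup (Fin n) F → ℕ)) ↔
      (n < k + l ∧ ¬ k ∣ l) := by
  have : Fact r.Prime := ⟨hr⟩
  have : Fact s.Prime := ⟨hs⟩
  have hrq := not_dvd_card (F := F) p r hr hrp
  have hsq := not_dvd_card (F := F) p s hs hsp
  have hln : l ≤ n := by rw [hl]; exact ord_le_of_dvd n hn s hsq hsG
  constructor
  · intro h
    by_contra hcon
    apply h
    apply exists_elt n r s hrs hrq hsq k l hk hl h2k (by omega) hln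
    by_cases h1 : k + l ≤ n
    · exact Or.inl h1
    · right
      by_contra h2
      exact hcon ⟨by omega, h2⟩
  · rintro ⟨h1, h2⟩ ⟨g, hg⟩
    exact no_elt n (by omega) r s hrs hrq hsq k l hk hl h2k hkl h1 h2 g hg

end

/-- Adjacency of two odd primes in the prime graph of PSL(n,q): let F be a finite field of characteristic p with q elements, n ≥ 2 with PSL(n,F) simple, and let r ≠ s be odd primes different from p dividing the order of PSL(n,F). Let k and l be the multiplicative orders of q modulo r and modulo s, and suppose 2 ≤ k ≤ l. Then PSL(n,F) has NO element of order r·s if and only if k + l > n and k does not divide l. -/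
theorem result {F : Type*} [Field F] [Fintype F] (p : ℕ) [Fact p.Prime] [CharP F p] (n : ℕ) (hn : 2 ≤ n) (hsmall : n = 2 → 4 ≤ Fintype.card F)
    (r s : ℕ) (hr : r.Prime) (hs : s.Prime) (hr2 : r ≠ 2) (hs2 : s ≠ 2) (hrp : r ≠ p) (hsp : s ≠ p) (hrs : r ≠ s)
    (hrG : r ∣ Nat.card (Matrix.ProjectiveSpecialLinearGroup (Fin n) F)) (hsG : s ∣ Nat.card (Matrix.ProjectiveSpecialLinearGroup (Fin n) F))
    (k l : ℕ) (hk : k = orderOf ((Fintype.card F : ℕ) : ZMod r)) (hl : l = orderOf ((Fintype.card F : ℕ) : ZMod s))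
    (h2k : 2 ≤ k) (hkl : k ≤ l) :
    (r * s ∉ Set.range (orderOf : Matrix.ProjectiveSpecialLinearGroup (Fin n) F → ℕ)) ↔ (n < k + l ∧ ¬ k ∣ l) := by
  exact main p n hn r s hr hs hrp hsp hrs hsG k l hk hl h2k hkl

end Cfsg.Agent.S2468
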