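import Cfsg.Statements.S2470
-- import your own Cfsg.Agent.* helpers here
import Cfsg.Agent.S2468
import Cfsg.Agent.S2475

set_option autoImplicit false
open Cfsg

namespace Cfsg.Agent.S2470

open Matrix Cfsg.Agent.Lib.Helper15.SylowLarge Cfsg.Agent.Lib.Helper15.PrimeGraphSL

section mat3

open Polynomial

variable {F : Type*} [Field F]

/-- shape of the characteristic polynomial of a `3 × 3` matrix of determinant one -/
theorem ch3 (M : Matrix (Fin 3) (Fin 3) F) (hdet : M.det = 1) :
    ∃ c₁ c₂ : F, M.charpoly = X ^ 3 + C c₂ * X ^ 2 + C c₁ * X - 1 := by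
  refine ⟨M.charpoly.coeff 1, M.charpoly.coeff 2, ?_⟩
  have hdeg : M.charpoly.natDegree = 3 := by
    rw [Matrix.charpoly_natDegree_eq_dim, Fintype.card_fin]
  have h3 : M.charpoly.coeff 3 = 1 := by
    have := (Matrix.charpoly_monic M).coeff_natDegree
    rwa [hdeg] at this
  have h0 : M.charpoly.coeff 0 = -1 := by
    have := Matrix.det_eq_sign_charpoly_coeff M
    rw [hdet, Fintype.card_fin] at this
    have e : ((-1 : F)) ^ 3 = -1 := by ring
    rw [e] at this
    linear_combination this
  conv_lhs => rw [Polynomial.as_sum_range_C_mul_X_pow M.charpoly, hdeg]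
  simp only [Finset.sum_range_succ, Finset.sum_range_zero, h0, h3]
  simp only [map_neg, map_one, pow_zero, pow_one, one_mul, mul_one, zero_add]
  ring

theorem case_one (M : Matrix (Fin 3) (Fin 3) F) (hdet : M.det = 1) (h3 : M ^ 3 = 1) :
    (∃ c : F, M = c • (1 : Matrix (Fin 3) (Fin 3) F)) ∨ M.charpoly = X ^ 3 - 1 := by
  obtain ⟨c₁, c₂, hχ⟩ := ch3 M hdet
  have hCH := Matrix.aeval_self_charpoly M
  rw [hχ] at hCH
  simp only [map_add, map_sub, map_mul, map_pow, aeval_X, aeval_C, map_one] at hCH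
  rw [h3] at hCH
  have e1 : c₂ • M ^ 2 + c₁ • M = 0 := by
    have : (1 : Matrix (Fin 3) (Fin 3) F) + (algebraMap F (Matrix (Fin 3) (Fin 3) F)) c₂ * M ^ 2 +
        (algebraMap F (Matrix (Fin 3) (Fin 3) F)) c₁ * M - 1 = 0 := hCH
    rw [Algebra.algebraMap_eq_smul_one, Algebra.algebraMap_eq_smul_one, smul_mul_assoc,
      smul_mul_assoc, one_mul, one_mul] at this
    rw [← this]
    abel
  have e2 : c₂ • M + c₁ • (1 : Matrix (Fin 3) (Fin 3) F) = 0 := by
    have := congrArg (fun X => M ^ 2 * X) e1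
    simp only [mul_add, mul_smul_comm, mul_zero] at this
    have h4 : M ^ 2 * M ^ 2 = M := by
      calc M ^ 2 * M ^ 2 = M ^ 3 * M := by rw [← pow_add, pow_succ]
        _ = M := by rw [h3, one_mul]
    have h5 : M ^ 2 * M = 1 := by rw [← pow_succ, h3]
    rw [h4, h5] at this
    exact this
  by_cases hc2 : c₂ = 0
  · right
    rw [hc2, zero_smul, zero_add] at e2
    have : c₁ = 0 := by
      have := congrFun (congrFun e2 0) 0
      simpa using this
    rw [hχ, hc2, this]
    simp
  · left
    refine ⟨-c₁ / c₂, ?_⟩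
    have : c₂ • M = (-c₁) • (1 : Matrix (Fin 3) (Fin 3) F) := by
      rw [neg_smul]
      exact eq_neg_of_add_eq_zero_left e2
    calc M = c₂⁻¹ • (c₂ • M) := by rw [smul_smul, inv_mul_cancel₀ hc2, one_smul]
      _ = (-c₁ / c₂) • 1 := by rw [this, smul_smul]; congr 1; field_simp

theorem eigvec (M : Matrix (Fin 3) (Fin 3) F) (μ : F) (h : M.charpoly.eval μ = 0) :
    ∃ v : Fin 3 → F, v ≠ 0 ∧ M *ᵥ v = μ • v := by
  rw [Matrix.eval_charpoly] at h
  obtain ⟨v, hv0, hv⟩ := Matrix.exists_mulVec_eq_zero_iff.mpr h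
  refine ⟨v, hv0, ?_⟩
  rw [Matrix.sub_mulVec, sub_eq_zero] at hv
  rw [← hv]
  ext i
  simp [Matrix.scalar_apply, Matrix.mulVec_diagonal]

/-- a matrix with characteristic polynomial `X³ - 1` (split, separable) commutes with no
non-zero nilpotent matrix -/
theorem regular_case (M N : Matrix (Fin 3) (Fin 3) F) (hχ : M.charpoly = X ^ 3 - 1)
    (ω : F) (hω3 : ω ^ 3 = 1) (hω1 : ω ≠ 1) (hMN : M * N = N * M) (t : ℕ) (hN : N ^ t = 0) :
    N = 0 := by
  classical
  -- the three eigenvalues
  have hω0 : ω ≠ 0 := by rintro rfl; simp at hω3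
  have hω2 : ω ^ 2 ≠ 1 := by
    intro h
    apply hω1
    have e : ω ^ 3 = ω ^ 2 * ω := pow_succ ω 2
    rw [hω3, h, one_mul] at e
    exact e.symm
  let μ : Fin 3 → F := fun i => ω ^ (i : ℕ)
  have hμinj : Function.Injective μ := by
    intro i j hij
    have key : ∀ a b : ℕ, a < b → b < 3 → ω ^ a ≠ ω ^ b := by
      intro a b hab hb3 h
      have hd : ω ^ (b - a) = 1 := by
        have : ω ^ a * ω ^ (b - a) = ω ^ a * 1 := by
          rw [← pow_add, mul_one, Nat.add_sub_cancel' hab.le, h]
        exact mul_left_cancel₀ (pow_ne_zero _ hω0) this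
      have : b - a = 1 ∨ b - a = 2 := by omega
      rcases this with e | e
      · rw [e, pow_one] at hd; exact hω1 hd
      · rw [e] at hd; exact hω2 hd
    by_contra hne
    rcases lt_or_gt_of_ne (fun h => hne (Fin.ext h)) with h | h
    · exact key i j h j.isLt hij
    · exact key j i h i.isLt hij.symm
  have hroot : ∀ i, M.charpoly.eval (μ i) = 0 := by
    intro i
    rw [hχ]
    simp only [eval_sub, eval_pow, eval_X, eval_one, μ]
    rw [← pow_mul, mul_comm, pow_mul, hω3, one_pow, sub_self]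
  choose v hv0 hv using fun i => eigvec M (μ i) (hroot i)
  set f : Module.End F (Fin 3 → F) := Matrix.toLin' M with hf
  have hvec : ∀ i, f.HasEigenvector (μ i) (v i) := by
    intro i
    refine ⟨?_, hv0 i⟩
    rw [Module.End.mem_eigenspace_iff, hf, Matrix.toLin'_apply, hv i]
  have hli : LinearIndependent F v := Module.End.eigenvectors_linearIndependent' f μ hμinj v hvec
  let b : Module.Basis (Fin 3) F (Fin 3 → F) :=
    basisOfLinearIndependentOfCardEqFinrank hli (by simp)
  have hb : ∀ i, b i = v i := fun i => by simp [b]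
  -- `N` kills every basis vector
  have hkill : ∀ i, N *ᵥ v i = 0 := by
    intro i
    set w := N *ᵥ v i with hw
    have hMw : M *ᵥ w = μ i • w := by
      rw [hw, Matrix.mulVec_mulVec, hMN, ← Matrix.mulVec_mulVec, hv i, Matrix.mulVec_smul]
    -- coordinates of `w`
    have hrepr := b.sum_repr w
    set a := b.repr w with ha
    have hsum : ∑ j, a j • v j = w := by
      rw [← hrepr]
      apply Finset.sum_congr rfl
      intro j _
      rw [hb]
    have h1 : ∑ j, (a j * (μ j - μ i)) • v j = 0 := by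
      have e1 : M *ᵥ w = ∑ j, (a j * μ j) • v j := by
        rw [← hsum, Matrix.mulVec_sum]
        apply Finset.sum_congr rfl
        intro j _
        rw [Matrix.mulVec_smul, hv j, smul_smul]
      have e2 : μ i • w = ∑ j, (a j * μ i) • v j := by
        rw [← hsum, Finset.smul_sum]
        apply Finset.sum_congr rfl
        intro j _
        rw [smul_smul, mul_comm]
      rw [e1, e2] at hMw
      rw [← sub_eq_zero, ← Finset.sum_sub_distrib] at hMw
      rw [← hMw]
      apply Finset.sum_congr rfl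
      intro j _
      rw [← sub_smul, mul_sub]
    have h2 := Fintype.linearIndependent_iff.mp hli _ h1
    have h3 : ∀ j, j ≠ i → a j = 0 := by
      intro j hji
      have := h2 j
      rcases mul_eq_zero.mp this with h | h
      · exact h
      · exfalso
        exact hji (hμinj (sub_eq_zero.mp h))
    have hw' : w = a i • v i := by
      rw [← hsum]
      apply Finset.sum_eq_single i
      · intro j _ hji
        rw [h3 j hji, zero_smul]
      · intro h; exact absurd (Finset.mem_univ i) h
    -- nilpotency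
    have hpow : ∀ s : ℕ, (N ^ s) *ᵥ v i = a i ^ s • v i := by
      intro s
      induction s with
      | zero => simp
      | succ s ih =>
        rw [pow_succ, ← Matrix.mulVec_mulVec, ← hw, hw', Matrix.mulVec_smul, ih, smul_smul,
          pow_succ, mul_comm]
    have h4 := hpow t
    rw [hN, Matrix.zero_mulVec] at h4
    have h5 : a i ^ t = 0 := by
      rcases smul_eq_zero.mp h4.symm with h | h
      · exact h
      · exact absurd h (hv0 i)
    have h6 : a i = 0 := by
      rcases Nat.eq_zero_or_pos t with rfl | ht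
      · simp at h5
      · exact pow_eq_zero_iff (by omega) |>.mp h5
    rw [hw', h6, zero_smul]
  -- conclude
  have : Matrix.toLin' N = 0 := by
    apply b.ext
    intro i
    rw [hb, Matrix.toLin'_apply, hkill i]
    rfl
  have h0 : Matrix.toLin' N = Matrix.toLin' (0 : Matrix (Fin 3) (Fin 3) F) := by
    rw [this, map_zero]
  exact Matrix.toLin'.injective h0

/-- the case where the cube is a non-trivial scalar without cube roots -/
theorem cne_case (M : Matrix (Fin 3) (Fin 3) F) (hdet : M.det = 1) (c : F) (hc1 : c ≠ 1)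
    (hM3 : M ^ 3 = c • (1 : Matrix (Fin 3) (Fin 3) F)) (hnoroot : ∀ x : F, x ^ 3 ≠ c) : False := by
  obtain ⟨c₁, c₂, hχ⟩ := ch3 M hdet
  have hCH := Matrix.aeval_self_charpoly M
  rw [hχ] at hCH
  set f : F[X] := X ^ 3 - C c with hf
  set g : F[X] := C c₂ * X ^ 2 + C c₁ * X + C (c - 1) with hg
  have hfM : aeval M f = 0 := by
    rw [hf]
    simp only [map_sub, map_pow, aeval_X, aeval_C]
    rw [hM3, Algebra.algebraMap_eq_smul_one, sub_self]
  have hgM : aeval M g = 0 := by
    have e : X ^ 3 + C c₂ * X ^ 2 + C c₁ * X - 1 = f + g := by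
      rw [hf, hg]
      simp only [map_sub, map_one]
      ring
    rw [e, map_add, hfM, zero_add] at hCH
    exact hCH
  have hfdeg : f.natDegree = 3 := by
    rw [hf]
    exact natDegree_X_pow_sub_C
  have hfirr : Irreducible f := by
    apply irreducible_of_degree_le_three_of_not_isRoot
    · rw [hfdeg]; simp
    · intro x hx
      rw [hf, IsRoot, eval_sub, eval_pow, eval_X, eval_C, sub_eq_zero] at hx
      exact hnoroot x hx
  have hg0 : g ≠ 0 := by
    intro h
    have := congrArg (fun p : F[X] => p.coeff 0) h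
    simp [hg] at this
    exact hc1 (sub_eq_zero.mp this)
  have hgdeg : g.natDegree < 3 := by
    have : g.natDegree ≤ 2 := by
      rw [hg]
      compute_degree
    omega
  have hndvd : ¬ f ∣ g := by
    intro h
    have := natDegree_le_of_dvd h hg0
    omega
  have hcop : IsCoprime f g := (Irreducible.coprime_iff_not_dvd hfirr).mpr hndvd
  obtain ⟨u, w, huw⟩ := hcop
  have := congrArg (aeval M) huw
  rw [map_add, map_mul, map_mul, hfM, hgM, mul_zero, mul_zero, add_zero, map_one] at this
  have h00 := congrFun (congrFun this 0) 0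
  simp at h00

end mat3

section

variable {F : Type*} [Field F] [Fintype F]

lemma p_dvd_card (p : ℕ) [Fact p.Prime] [CharP F p] : p ∣ Fintype.card F := by
  obtain ⟨f, -, hf⟩ := FiniteField.card F p
  rw [hf]
  exact dvd_pow_self p f.pos.ne'

lemma p_not_dvd_pred (p : ℕ) [hp : Fact p.Prime] [CharP F p] : ¬ p ∣ Fintype.card F - 1 := by
  intro h
  have hq2 : 2 ≤ Fintype.card F := Fintype.one_lt_card
  have h2 : p ∣ Fintype.card F - (Fintype.card F - 1) := Nat.dvd_sub (p_dvd_card p) h
  have h3 : Fintype.card F - (Fintype.card F - 1) = 1 := by omega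
  rw [h3] at h2
  exact hp.out.one_lt.ne' (Nat.dvd_one.mp h2)

/-- construction for `n ≥ 4` -/
theorem exists_big (p : ℕ) [hp : Fact p.Prime] [CharP F p] (n : ℕ) (hn : 4 ≤ n)
    (r : ℕ) [hr : Fact r.Prime] (hrp : r ≠ p) (hrq : ¬ r ∣ Fintype.card F)
    (k : ℕ) (hk : k = orderOf ((Fintype.card F : ℕ) : ZMod r)) (hkn : k ≤ n - 2) :
    r * p ∈ Set.range (orderOf : Matrix.ProjectiveSpecialLinearGroup (Fin n) F → ℕ) := by
  classical
  set q := Fintype.card F with hq
  have hk0 : 0 < k := by rw [hk]; exact d_pos hrq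
  obtain ⟨k', hk'⟩ : ∃ k', k' = max k 2 := ⟨_, rfl⟩
  have hk'2 : 2 ≤ k' := by rw [hk']; exact le_max_right _ _
  have hk'n : k' + 2 ≤ n := by
    rw [hk']
    rcases le_total k 2 with h | h
    · rw [max_eq_right h]; omega
    · rw [max_eq_left h]; omega
  have hkk' : k ∣ k' := by
    rw [hk']
    rcases le_total k 2 with h | h
    · rw [max_eq_right h]
      interval_cases k
      · exact one_dvd _
      · exact dvd_rfl
    · rw [max_eq_left h]
  obtain ⟨x, hx⟩ := exists_sl_orderOf (F := F) k' hk'2 r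
    (Or.inr ⟨k', hk'2, le_rfl, by rw [dvd_pow_sub_one_iff hrq, ← hk]; exact hkk'⟩)
  obtain ⟨y, hy⟩ := exists_sl_orderOf (F := F) 2 le_rfl p (Or.inl (p_dvd_card p))
  set X := emb (R := F) k' 2 n hk'n (x, 1) with hX
  set Y := emb (R := F) k' 2 n hk'n (1, y) with hY
  have hXo : orderOf X = r := by
    rw [hX, orderOf_injective _ (emb_injective k' 2 n hk'n), Prod.orderOf_mk, hx, orderOf_one,
      Nat.lcm_one_right]
  have hYo : orderOf Y = p := by
    rw [hY, orderOf_injective _ (emb_injective k' 2 n hk'n), Prod.orderOf_mk, hy, orderOf_one,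
      Nat.lcm_one_left]
  have hc : Commute X Y := by
    show X * Y = Y * X
    rw [hX, hY, ← map_mul, ← map_mul]
    congr 1
    ext <;> simp
  have hx1 : x ≠ 1 := by
    rintro rfl
    rw [orderOf_one] at hx
    exact hr.out.one_lt.ne hx
  exact exists_orderOf_mul _ X Y r p hrp hc (by rw [← hXo]; exact pow_orderOf_eq_one X)
    (by rw [← hYo]; exact pow_orderOf_eq_one Y)
    (emb_not_central k' 2 n hk'n (by norm_num) x hx1)
    (not_mem_center n (by omega) p (p_not_dvd_pred p) Y hYo)

/-- non-existence for `n = 2` -/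
theorem no_elt_two (p : ℕ) [hp : Fact p.Prime] [CharP F p] (h4 : 4 ≤ Fintype.card F)
    (r : ℕ) (hr : r.Prime)
    (g : Matrix.ProjectiveSpecialLinearGroup (Fin 2) F) (hg : orderOf g = r * p) : False := by
  have hmem : r * p ∈ Set.range (orderOf : Matrix.ProjectiveSpecialLinearGroup (Fin 2) F → ℕ) :=
    ⟨g, hg⟩
  rw [Cfsg.Agent.S2475.result p h4] at hmem
  have hq2 : 2 ≤ Fintype.card F := Fintype.one_lt_card
  rcases hmem with h | h | h
  · have : r * p ≤ p := Nat.le_of_dvd hp.out.pos h
    have := hr.two_le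
    have := hp.out.pos
    nlinarith
  · have h1 : p ∣ Fintype.card F - 1 :=
      ((dvd_mul_left p r).trans h).trans (Nat.div_dvd_of_dvd (Nat.gcd_dvd_right _ _))
    exact p_not_dvd_pred p h1
  · have hd : Nat.gcd 2 (Fintype.card F - 1) ∣ Fintype.card F + 1 := by
      have h1 : Nat.gcd 2 (Fintype.card F - 1) ∣ Fintype.card F - 1 := Nat.gcd_dvd_right _ _
      have h2 : Nat.gcd 2 (Fintype.card F - 1) ∣ 2 := Nat.gcd_dvd_left _ _
      have e : Fintype.card F + 1 = (Fintype.card F - 1) + 2 := by omega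
      rw [e]
      exact Nat.dvd_add h1 h2
    have h1 : p ∣ Fintype.card F + 1 :=
      ((dvd_mul_left p r).trans h).trans (Nat.div_dvd_of_dvd hd)
    have h2 : p ∣ 1 := (Nat.dvd_add_right (p_dvd_card p)).mp h1
    exact hp.out.one_lt.ne' (Nat.dvd_one.mp h2)

/-- non-existence via the fixed-point congruence -/
theorem no_elt_lin (p : ℕ) [hp : Fact p.Prime] [CharP F p] (n : ℕ) (hn : 1 ≤ n)
    (r : ℕ) [hr : Fact r.Prime] (hrp : r ≠ p) (hrq : ¬ r ∣ Fintype.card F)
    (k : ℕ) (hk : k = orderOf ((Fintype.card F : ℕ) : ZMod r)) (hk2 : 2 ≤ k) (hkn : n - 2 < k)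
    (g : Matrix.ProjectiveSpecialLinearGroup (Fin n) F) (hg : orderOf g = r * p) : False := by
  classical
  set q := Fintype.card F with hq
  have hr1 : ¬ r ∣ q - 1 := by
    intro h1
    have : r ∣ q ^ 1 - 1 := by rwa [pow_one]
    rw [dvd_pow_sub_one_iff hrq, ← hk, Nat.dvd_one] at this
    omega
  have hba : orderOf (g ^ r) = p := by
    rw [orderOf_pow_of_dvd hr.out.ne_zero (by rw [hg]; exact dvd_mul_right r p), hg,
      Nat.mul_div_cancel_left _ hr.out.pos]
  have hbb : orderOf (g ^ p) = r := by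
    rw [orderOf_pow_of_dvd hp.out.ne_zero (by rw [hg]; exact dvd_mul_left p r), hg,
      Nat.mul_div_cancel _ hp.out.pos]
  obtain ⟨A', B', hA', hB', hA'p, hB'r, hcomm⟩ :=
    lift_pair (G := SpecialLinearGroup (Fin n) F) p r hp.out.one_lt hr.out.one_lt
      ((Nat.coprime_primes hp.out hr.out).mpr (Ne.symm hrp))
      (center_coprime n hn p hp.out (p_not_dvd_pred p)) (center_coprime n hn r hr.out hr1)
      (g ^ r) (g ^ p) ((Commute.refl g).pow_pow r p)
      (by rw [← hba]; exact pow_orderOf_eq_one _) (by rw [← hbb]; exact pow_orderOf_eq_one _)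
  have hB1 : B' ≠ 1 := by
    rintro rfl
    have : g ^ p = 1 := by rw [← hB']; rfl
    rw [this, orderOf_one] at hbb
    exact hr.out.one_lt.ne hbb
  have hA1 : A' ≠ 1 := by
    rintro rfl
    have : g ^ r = 1 := by rw [← hA']; rfl
    rw [this, orderOf_one] at hba
    exact hp.out.one_lt.ne hba
  have hfr : Module.finrank F (Fin n → F) = n := Module.finrank_fin_fun F
  have := Cfsg.Agent.S2364.lin_main (F := F) (V := Fin n → F) (Ne.symm hrp) (toEnd A') (toEnd B')
    (toEnd_commute A' B' hcomm) (toEnd_pow A' p hA'p) (toEnd_pow B' r hB'r)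
    (fun h => hB1 (toEnd_eq_one B' h))
    (by rw [hfr, ← hk]; omega) (by rw [hfr, ← hk]; omega)
  exact hA1 (toEnd_eq_one A' this)

/-- construction for `n = 3` -/
theorem exists_three (p : ℕ) [hp : Fact p.Prime] [CharP F p] (r : ℕ) [hr : Fact r.Prime]
    (hrp : r ≠ p) (m : ℕ) (hm1 : m ∣ Fintype.card F - 1) (hm2 : m ∣ 3 * r) (hm3 : ¬ m ∣ 3) :
    r * p ∈ Set.range (orderOf : Matrix.ProjectiveSpecialLinearGroup (Fin 3) F → ℕ) := by
  classical
  set q := Fintype.card F with hq
  have hq2 : 2 ≤ q := Fintype.one_lt_card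
  -- an element of order `m`
  obtain ⟨g₀, hg₀⟩ := IsCyclic.exists_ofOrder_eq_natCard (α := Fˣ)
  have hcardU : Nat.card Fˣ = q - 1 := by rw [Nat.card_units, Nat.card_eq_fintype_card]
  rw [hcardU] at hg₀
  obtain ⟨c, hc⟩ := hm1
  have hc0 : c ≠ 0 := by
    rintro rfl
    rw [mul_zero] at hc
    omega
  obtain ⟨x, hx⟩ : ∃ x : Fˣ, orderOf x = m := by
    refine ⟨g₀ ^ c, ?_⟩
    rw [orderOf_pow_of_dvd hc0 (by rw [hg₀, hc]; exact dvd_mul_left c m), hg₀, hc,
      Nat.mul_div_cancel _ (Nat.pos_of_ne_zero hc0)]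
  have hx3r : x ^ (3 * r) = 1 := by
    rw [← orderOf_dvd_iff_pow_eq_one, hx]; exact hm2
  have hx3 : x ^ 3 ≠ 1 := by
    intro h
    apply hm3
    rw [← hx]
    exact orderOf_dvd_of_pow_eq_one h
  -- the matrices
  set y : Fˣ := (x⁻¹) ^ 2 with hy
  have hxxy : (x : F) * (x : F) * (y : F) = 1 := by
    have : x * x * y = 1 := by rw [hy]; group
    have := congrArg Units.val this
    simpa using this
  have hdetB : (Matrix.diagonal ![(x : F), (x : F), (y : F)]).det = 1 := by
    rw [Matrix.det_diagonal, Fin.prod_univ_three]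
    simpa using hxxy
  have hdetA : (Matrix.transvection (0 : Fin 3) 1 (1 : F)).det = 1 :=
    Matrix.det_transvection_of_ne 0 1 (by decide) 1
  obtain ⟨B, hB⟩ : ∃ B : SpecialLinearGroup (Fin 3) F,
      (B : Matrix (Fin 3) (Fin 3) F) = Matrix.diagonal ![(x : F), (x : F), (y : F)] :=
    ⟨⟨_, hdetB⟩, rfl⟩
  obtain ⟨A, hA⟩ : ∃ A : SpecialLinearGroup (Fin 3) F,
      (A : Matrix (Fin 3) (Fin 3) F) = Matrix.transvection (0 : Fin 3) 1 (1 : F) :=
    ⟨⟨_, hdetA⟩, rfl⟩
  have hcomm : Commute B A := by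
    apply Subtype.ext
    rw [Matrix.SpecialLinearGroup.coe_mul, Matrix.SpecialLinearGroup.coe_mul, hA, hB]
    ext i j
    fin_cases i <;> fin_cases j <;>
      simp [Matrix.transvection, Matrix.mul_apply, Matrix.single, Matrix.diagonal,
        Matrix.one_apply]
  have hpowA : ∀ t : ℕ, (Matrix.transvection (0 : Fin 3) 1 (1 : F)) ^ t =
      Matrix.transvection (0 : Fin 3) 1 (t : F) := by
    intro t
    induction t with
    | zero => simp
    | succ t ih =>
      rw [pow_succ, ih, Matrix.transvection_mul_transvection_same _ _ (by decide)]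
      push_cast
      rfl
  have hAp : A ^ p = 1 := by
    apply Subtype.ext
    rw [Matrix.SpecialLinearGroup.coe_pow, hA, hpowA, CharP.cast_eq_zero, Matrix.transvection_zero,
      Matrix.SpecialLinearGroup.coe_one]
  have hAZ : A ∉ Subgroup.center (SpecialLinearGroup (Fin 3) F) := by
    intro h
    rw [Matrix.SpecialLinearGroup.mem_center_iff] at h
    obtain ⟨c', -, hc'⟩ := h
    have := congrFun (congrFun hc' 0) 1
    rw [hA] at this
    simp [Matrix.transvection, Matrix.single] at this
  have hBZ : B ∉ Subgroup.center (SpecialLinearGroup (Fin 3) F) := by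
    intro h
    rw [Matrix.SpecialLinearGroup.mem_center_iff] at h
    obtain ⟨c', -, hc'⟩ := h
    have h0 := congrFun (congrFun hc' 0) 0
    have h2 := congrFun (congrFun hc' 2) 2
    rw [hB] at h0 h2
    simp at h0 h2
    apply hx3
    have h3 : (x : F) = (y : F) := by rw [← h0, ← h2]
    have h4 : x = y := Units.ext h3
    rw [hy] at h4
    calc x ^ 3 = x * x ^ 2 := by group
      _ = (x⁻¹) ^ 2 * x ^ 2 := by rw [← h4]
      _ = 1 := by group
  have hBr : B ^ r ∈ Subgroup.center (SpecialLinearGroup (Fin 3) F) := by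
    rw [Matrix.SpecialLinearGroup.mem_center_iff]
    refine ⟨(x : F) ^ r, ?_, ?_⟩
    · rw [Fintype.card_fin, ← pow_mul, mul_comm]
      have := congrArg Units.val hx3r
      simpa using this
    · rw [Matrix.SpecialLinearGroup.coe_pow, hB, Matrix.diagonal_pow]
      have hyr : (y : F) ^ r = (x : F) ^ r := by
        have h1 : y ^ r = x ^ r := by
          have e1 : y ^ r * x ^ (3 * r) = x ^ r := by
            rw [hy, mul_comm 3 r, pow_mul x r 3]
            group
          rw [hx3r, mul_one] at e1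
          exact e1
        have := congrArg Units.val h1
        simpa using this
      ext i j
      fin_cases i <;> fin_cases j <;> simp [Matrix.diagonal, hyr]
  set Z := Subgroup.center (SpecialLinearGroup (Fin 3) F) with hZ
  have hoA : orderOf (A : SpecialLinearGroup (Fin 3) F ⧸ Z) = p := orderOf_mk_prime Z A p hAp hAZ
  have hoB : orderOf (B : SpecialLinearGroup (Fin 3) F ⧸ Z) = r := by
    apply orderOf_eq_prime
    · rw [← QuotientGroup.mk_pow]
      exact (QuotientGroup.eq_one_iff _).mpr hBr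
    · intro h
      exact hBZ ((QuotientGroup.eq_one_iff B).mp h)
  have hc' : Commute (B : SpecialLinearGroup (Fin 3) F ⧸ Z) (A : SpecialLinearGroup (Fin 3) F ⧸ Z) := by
    show (B : SpecialLinearGroup (Fin 3) F ⧸ Z) * (A : SpecialLinearGroup (Fin 3) F ⧸ Z) =
      (A : SpecialLinearGroup (Fin 3) F ⧸ Z) * (B : SpecialLinearGroup (Fin 3) F ⧸ Z)
    rw [← QuotientGroup.mk_mul, ← QuotientGroup.mk_mul, hcomm.eq]
  refine ⟨(B : SpecialLinearGroup (Fin 3) F ⧸ Z) * (A : SpecialLinearGroup (Fin 3) F ⧸ Z), ?_⟩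
  rw [hc'.orderOf_mul_eq_mul_orderOf_of_coprime (by
    rw [hoA, hoB]; exact (Nat.coprime_primes hr.out hp.out).mpr hrp), hoA, hoB]

/-- the exceptional non-existence case: `n = 3`, `r = 3`, `3 ∣ q - 1`, `9 ∤ q - 1` -/
theorem no_elt_exc (p : ℕ) [hp : Fact p.Prime] [CharP F p] (hp3 : p ≠ 3)
    (h3 : 3 ∣ Fintype.card F - 1) (h9 : ¬ 9 ∣ Fintype.card F - 1)
    (g : Matrix.ProjectiveSpecialLinearGroup (Fin 3) F) (hg : orderOf g = 3 * p) : False := by
  classical
  set q := Fintype.card F with hq
  have hq2 : 2 ≤ q := Fintype.one_lt_card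
  have hcardU : Nat.card Fˣ = q - 1 := by rw [Nat.card_units, Nat.card_eq_fintype_card]
  set Z := Subgroup.center (SpecialLinearGroup (Fin 3) F) with hZ
  have hba : orderOf (g ^ 3) = p := by
    rw [orderOf_pow_of_dvd (by norm_num) (by rw [hg]; exact dvd_mul_right 3 p), hg,
      Nat.mul_div_cancel_left _ (by norm_num)]
  have hbb : orderOf (g ^ p) = 3 := by
    rw [orderOf_pow_of_dvd hp.out.ne_zero (by rw [hg]; exact dvd_mul_left p 3), hg,
      Nat.mul_div_cancel _ hp.out.pos]
  -- lifts
  obtain ⟨A', hA', hA'p⟩ := Cfsg.Agent.S2364.exists_lift_pow Z p hp.out.one_lt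
    (center_coprime 3 (by norm_num) p hp.out (p_not_dvd_pred p)) (g ^ 3)
    (by rw [← hba]; exact pow_orderOf_eq_one _)
  obtain ⟨B', hB'⟩ := QuotientGroup.mk_surjective (g ^ p)
  have hB3Z : B' ^ 3 ∈ Z := by
    rw [← QuotientGroup.eq_one_iff, QuotientGroup.mk_pow, hB']
    have := pow_orderOf_eq_one (g ^ p)
    rw [hbb] at this
    exact this
  obtain ⟨c, hc3, hc⟩ := Matrix.SpecialLinearGroup.mem_center_iff.mp hB3Z
  rw [Fintype.card_fin] at hc3
  set M : Matrix (Fin 3) (Fin 3) F := (B' : Matrix (Fin 3) (Fin 3) F) with hM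
  have hM3 : M ^ 3 = c • (1 : Matrix (Fin 3) (Fin 3) F) := by
    rw [hM, ← Matrix.SpecialLinearGroup.coe_pow, ← hc, Matrix.scalar_apply,
      Matrix.smul_one_eq_diagonal]
  have hB9 : B' ^ 9 = 1 := by
    apply Subtype.ext
    rw [Matrix.SpecialLinearGroup.coe_pow, Matrix.SpecialLinearGroup.coe_one, ← hM]
    have : M ^ 9 = (M ^ 3) ^ 3 := by rw [← pow_mul]
    rw [this, hM3, smul_pow, one_pow, hc3, one_smul]
  have hcomm : Commute A' B' := by
    apply Cfsg.Agent.S2364.commute_of_central A' B' p 9 hA'p hB9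
    · have : Nat.Coprime p 3 := (Nat.coprime_primes hp.out Nat.prime_three).mpr hp3
      exact Nat.Coprime.pow_right 2 this
    · rw [← hZ, ← QuotientGroup.eq_one_iff]
      rw [QuotientGroup.mk_mul, QuotientGroup.mk_mul, QuotientGroup.mk_mul, QuotientGroup.mk_inv,
        QuotientGroup.mk_inv, hA', hB', ((Commute.refl g).pow_pow 3 p).eq, mul_inv_cancel_right,
        mul_inv_cancel]
  have hA1 : A' ≠ 1 := by
    rintro rfl
    have : g ^ 3 = 1 := by rw [← hA']; rfl
    rw [this, orderOf_one] at hba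
    exact hp.out.one_lt.ne hba
  -- the nilpotent matrix
  set Am : Matrix (Fin 3) (Fin 3) F := (A' : Matrix (Fin 3) (Fin 3) F) with hAm
  set N : Matrix (Fin 3) (Fin 3) F := Am - 1 with hN
  have hAmp : Am ^ p = 1 := by
    rw [hAm, ← Matrix.SpecialLinearGroup.coe_pow, hA'p, Matrix.SpecialLinearGroup.coe_one]
  have hNp : N ^ p = 0 := by
    rw [hN, sub_pow_char_of_commute p (Commute.one_right Am), hAmp, one_pow, sub_self]
  have hN0 : N ≠ 0 := by
    intro h
    apply hA1
    apply Subtype.ext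
    rw [Matrix.SpecialLinearGroup.coe_one, ← hAm]
    exact sub_eq_zero.mp h
  have hMN : M * N = N * M := by
    have h1 : Am * M = M * Am := by
      have := congrArg (fun x : SpecialLinearGroup (Fin 3) F => (x : Matrix (Fin 3) (Fin 3) F))
        hcomm.eq
      simpa using this
    rw [hN, mul_sub, sub_mul, mul_one, one_mul, h1]
  have hdetM : M.det = 1 := B'.2
  -- a primitive cube root of unity
  obtain ⟨g₀, hg₀⟩ := IsCyclic.exists_ofOrder_eq_natCard (α := Fˣ)
  rw [hcardU] at hg₀
  obtain ⟨e, he⟩ := h3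
  have he0 : e ≠ 0 := by
    rintro rfl
    rw [mul_zero] at he
    omega
  have hωo : orderOf (g₀ ^ e) = 3 := by
    rw [orderOf_pow_of_dvd he0 (by rw [hg₀, he]; exact dvd_mul_left e 3), hg₀, he,
      Nat.mul_div_cancel _ (Nat.pos_of_ne_zero he0)]
  set ω : F := ((g₀ ^ e : Fˣ) : F) with hω
  have hω3 : ω ^ 3 = 1 := by
    have := pow_orderOf_eq_one (g₀ ^ e)
    rw [hωo] at this
    have := congrArg Units.val this
    rw [Units.val_pow_eq_pow_val, Units.val_one] at this
    exact this
  have hω1 : ω ≠ 1 := by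
    intro h
    have h1 : g₀ ^ e = 1 := Units.ext h
    rw [h1, orderOf_one] at hωo
    omega
  -- `B'` is central
  have hBZ : B' ∈ Z := by
    by_cases hc1 : c = 1
    · rw [hc1, one_smul] at hM3
      rcases case_one M hdetM hM3 with ⟨c', hc'⟩ | hχ
      · rw [Matrix.SpecialLinearGroup.mem_center_iff]
        refine ⟨c', ?_, ?_⟩
        · rw [Fintype.card_fin]
          have := hdetM
          rw [hc', Matrix.det_smul, Matrix.det_one, mul_one, Fintype.card_fin] at this
          exact this
        · rw [← hM, hc', Matrix.scalar_apply, Matrix.smul_one_eq_diagonal]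
      · exact absurd (regular_case M N hχ ω hω3 hω1 hMN p hNp) hN0
    · exfalso
      apply cne_case M hdetM c hc1 hM3
      intro x hx
      have hx0 : x ≠ 0 := by
        rintro rfl
        rw [zero_pow (by norm_num)] at hx
        rw [← hx, zero_pow (by norm_num)] at hc3
        exact zero_ne_one hc3
      set u : Fˣ := Units.mk0 x hx0 with hu
      have hu9 : u ^ 9 = 1 := by
        apply Units.ext
        rw [Units.val_pow_eq_pow_val, Units.val_one, hu, Units.val_mk0]
        have : x ^ 9 = (x ^ 3) ^ 3 := by rw [← pow_mul]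
        rw [this, hx, hc3]
      have hu3 : u ^ 3 ≠ 1 := by
        intro h
        apply hc1
        have := congrArg Units.val h
        rw [Units.val_pow_eq_pow_val, Units.val_one, hu, Units.val_mk0, hx] at this
        exact this
      have ho : orderOf u = 9 := by
        have h1 : orderOf u ∣ 3 ^ 2 := orderOf_dvd_of_pow_eq_one hu9
        obtain ⟨j, hj, hoj⟩ := (Nat.dvd_prime_pow Nat.prime_three).mp h1
        rcases Nat.lt_or_ge j 2 with hlt | hge
        · exfalso
          apply hu3
          rw [← orderOf_dvd_iff_pow_eq_one, hoj]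
          have : j ≤ 1 := by omega
          calc 3 ^ j ∣ 3 ^ 1 := Nat.pow_dvd_pow 3 this
            _ = 3 := by norm_num
        · have : j = 2 := by omega
          rw [hoj, this]
          norm_num
      apply h9
      rw [← hcardU, ← ho]
      exact orderOf_dvd_natCard u
  have : g ^ p = 1 := by
    rw [← hB']
    exact (QuotientGroup.eq_one_iff B').mpr hBZ
  rw [this, orderOf_one] at hbb
  omega

theorem main (p : ℕ) [Fact p.Prime] [CharP F p] (n : ℕ) (hn : 2 ≤ n)
    (hsmall : n = 2 → 4 ≤ Fintype.card F)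
    (r : ℕ) (hr : r.Prime) (hrp : r ≠ p)
    (k : ℕ) (hk : k = orderOf ((Fintype.card F : ℕ) : ZMod r)) :
    (r * p ∉ Set.range (orderOf : Matrix.ProjectiveSpecialLinearGroup (Fin n) F → ℕ)) ↔
      (n - 2 < k ∨ (n = 3 ∧ r = 3 ∧ 3 ∣ Fintype.card F - 1 ∧ ¬ 9 ∣ Fintype.card F - 1)) := by
  have : Fact r.Prime := ⟨hr⟩
  have hrq := Cfsg.Agent.S2468.not_dvd_card (F := F) p r hr hrp
  have hk0 : 0 < k := by rw [hk]; exact d_pos hrq
  constructor
  · intro h
    by_contra hcon
    push Not at hcon
    obtain ⟨hkn, hexc⟩ := hcon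
    apply h
    by_cases hn4 : 4 ≤ n
    · exact exists_big p n hn4 r hrp hrq k hk hkn
    · have hn3 : n = 3 := by omega
      subst hn3
      have hk1 : k = 1 := by omega
      have hr1 : r ∣ Fintype.card F - 1 := by
        have : r ∣ Fintype.card F ^ 1 - 1 := by
          rw [dvd_pow_sub_one_iff hrq, ← hk, hk1]
        rwa [pow_one] at this
      by_cases hr3 : r = 3
      · subst hr3
        have h9 : 9 ∣ Fintype.card F - 1 := hexc rfl rfl hr1
        exact exists_three p 3 hrp 9 h9 (by norm_num) (by norm_num)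
      · refine exists_three p r hrp r hr1 (dvd_mul_left r 3) ?_
        intro h3
        exact hr3 ((Nat.prime_dvd_prime_iff_eq hr Nat.prime_three).mp h3)
  · rintro (h | ⟨hn3, hr3, h3, h9⟩) ⟨g, hg⟩
    · by_cases hn2 : n = 2
      · subst hn2
        exact no_elt_two p (hsmall rfl) r hr g hg
      · exact no_elt_lin p n (by omega) r hrp hrq k hk (by omega) h g hg
    · subst hn3
      subst hr3
      exact no_elt_exc p (Ne.symm hrp) h3 h9 g hg

end

/-- Adjacency of an odd prime and the characteristic in the prime graph of PSL(n,q): let F be a finite field of characteristic p with q elements, n ≥ 2 with PSL(n,F) simple, and let r ≠ p be an odd prime dividing the order of PSL(n,F), with k the multiplicative order of q modulo r. Then PSL(n,F) has NO element of order r·p if and only if either k > n − 2, or n = 3, r = 3 and 3 divides q − 1 exactly once. -/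
theorem result {F : Type*} [Field F] [Fintype F] (p : ℕ) [Fact p.Prime] [CharP F p] (n : ℕ) (hn : 2 ≤ n) (hsmall : n = 2 → 4 ≤ Fintype.card F)
    (r : ℕ) (hr : r.Prime) (hr2 : r ≠ 2) (hrp : r ≠ p) (hrG : r ∣ Nat.card (Matrix.ProjectiveSpecialLinearGroup (Fin n) F))
    (k : ℕ) (hk : k = orderOf ((Fintype.card F : ℕ) : ZMod r)) :
    (r * p ∉ Set.range (orderOf : Matrix.ProjectiveSpecialLinearGroup (Fin n) F → ℕ)) ↔
      (n - 2 < k ∨ (n = 3 ∧ r = 3 ∧ 3 ∣ Fintype.card F - 1 ∧ ¬ 9 ∣ Fintype.card F - 1)) := by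
  exact main p n hn hsmall r hr hrp k hk

end Cfsg.Agent.S2470
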