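import Cfsg.Statements.S2471
-- import your own Cfsg.Agent.* helpers here
import Mathlib

set_option autoImplicit false
open Cfsg

namespace Cfsg.Agent.S2471

open Matrix in
/-- Cayley–Hamilton for `2 × 2` matrices of determinant one. -/
theorem cayley_two {F : Type*} [Field F] (A : Matrix (Fin 2) (Fin 2) F) (hdet : A.det = 1) :
    A * A = A.trace • A - 1 := by
  rw [Matrix.det_fin_two] at hdet
  ext i j
  fin_cases i <;> fin_cases j <;>
    simp [Matrix.mul_apply, Fin.sum_univ_two, Matrix.trace_fin_two] <;>
    first | ring1 | linear_combination -hdet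

open Matrix in
theorem trace_pow_four {F : Type*} [Field F] (A : Matrix (Fin 2) (Fin 2) F) :
    (A ^ 4).trace = A.trace ^ 4 - 4 * A.trace ^ 2 * A.det + 2 * A.det ^ 2 := by
  rw [Matrix.det_fin_two]
  simp only [pow_succ, pow_zero, one_mul, Matrix.trace_fin_two, Matrix.mul_apply, Fin.sum_univ_two]
  ring

/-- In PSL(2,q) with q odd, the characteristic p is isolated from 2 in the prime graph: for F a finite field of odd characteristic p with at least 5 elements, PSL(2,F) has no element of order 2p. -/
theorem result {F : Type*} [Field F] [Fintype F] (p : ℕ) [Fact p.Prime] [CharP F p] (hp : p ≠ 2) (h5 : 5 ≤ Fintype.card F) (g : Matrix.ProjectiveSpecialLinearGroup (Fin 2) F) :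
    orderOf g ≠ 2 * p := by
  classical
  intro hord
  have hp' : p.Prime := Fact.out
  obtain ⟨G, rfl⟩ := QuotientGroup.mk_surjective g
  have hdet : (G : Matrix (Fin 2) (Fin 2) F).det = 1 := G.2
  -- it is enough to show that `G ^ 4` or `G ^ p` is central
  suffices key : G ^ 4 ∈ Subgroup.center (Matrix.SpecialLinearGroup (Fin 2) F) ∨
      G ^ p ∈ Subgroup.center (Matrix.SpecialLinearGroup (Fin 2) F) by
    rcases key with h4 | hpp
    · have h1 : (QuotientGroup.mk G : Matrix.ProjectiveSpecialLinearGroup (Fin 2) F) ^ 4 = 1 := by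
        rw [← QuotientGroup.mk_pow, QuotientGroup.eq_one_iff]
        exact h4
      have h2 := orderOf_dvd_of_pow_eq_one h1
      rw [hord] at h2
      have h3 := Nat.le_of_dvd (by norm_num) h2
      have h4 := hp'.two_le
      omega
    · have h1 : (QuotientGroup.mk G : Matrix.ProjectiveSpecialLinearGroup (Fin 2) F) ^ p = 1 := by
        rw [← QuotientGroup.mk_pow, QuotientGroup.eq_one_iff]
        exact hpp
      have h2 := orderOf_dvd_of_pow_eq_one h1
      rw [hord] at h2
      have h3 := Nat.le_of_dvd hp'.pos h2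
      have h4 := hp'.pos
      omega
  -- `G ^ (2p)` is central
  have hc : G ^ (2 * p) ∈ Subgroup.center (Matrix.SpecialLinearGroup (Fin 2) F) := by
    have h1 : (QuotientGroup.mk G : Matrix.ProjectiveSpecialLinearGroup (Fin 2) F) ^ (2 * p) = 1 := by
      rw [← hord]
      exact pow_orderOf_eq_one _
    rw [← QuotientGroup.mk_pow, QuotientGroup.eq_one_iff] at h1
    exact h1
  obtain ⟨r, hr, hrG⟩ := Matrix.SpecialLinearGroup.mem_center_iff.mp hc
  simp only [Fintype.card_fin] at hr
  set A : Matrix (Fin 2) (Fin 2) F := (G : Matrix (Fin 2) (Fin 2) F) with hA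
  have hA2p : A ^ (2 * p) = Matrix.scalar (Fin 2) r := by
    rw [hrG, Matrix.SpecialLinearGroup.coe_pow]
  have hA4p : (A ^ 4) ^ p = 1 := by
    rw [← pow_mul, show 4 * p = (2 * p) * 2 by ring, pow_mul, hA2p, ← map_pow, hr, map_one]
  -- `A ^ 4 - 1` is nilpotent, so has trace zero
  have hN : (A ^ 4 - 1) ^ p = 0 := by
    rw [sub_pow_char_of_commute p (Commute.one_right _), hA4p, one_pow, sub_self]
  have htr0 : (A ^ 4 - 1).trace = 0 :=
    (Matrix.isNilpotent_trace_of_isNilpotent ⟨p, hN⟩).eq_zero
  have htr : A.trace ^ 2 * (A.trace ^ 2 - 4) = 0 := by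
    rw [Matrix.trace_sub, trace_pow_four, hdet, Matrix.trace_one] at htr0
    simp only [Fintype.card_fin] at htr0
    linear_combination htr0
  have hCH := cayley_two A hdet
  -- the case where the trace is `2 ε` with `ε ^ 2 = 1`
  have hcase : ∀ ε : F, ε ^ 2 = 1 → A.trace = 2 * ε →
      G ^ p ∈ Subgroup.center (Matrix.SpecialLinearGroup (Fin 2) F) := by
    intro ε hε ht
    have hsq : (A - ε • (1 : Matrix (Fin 2) (Fin 2) F)) ^ 2 = 0 := by
      have hεε : ε * ε = 1 := by rw [← pow_two, hε]
      have h1 : (A - ε • (1 : Matrix (Fin 2) (Fin 2) F)) ^ 2 =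
          A * A - (2 * ε) • A + (ε * ε) • (1 : Matrix (Fin 2) (Fin 2) F) := by
        rw [pow_two, sub_mul, mul_sub, mul_sub]
        simp only [Matrix.smul_mul, Matrix.mul_smul, Matrix.one_mul, Matrix.mul_one, smul_smul]
        module
      rw [h1, hCH, ht, hεε]
      module
    have hpow : (A - ε • (1 : Matrix (Fin 2) (Fin 2) F)) ^ p = 0 :=
      pow_eq_zero_of_le hp'.two_le hsq
    have hAp : A ^ p = Matrix.scalar (Fin 2) (ε ^ p) := by
      have h1 : A = ε • (1 : Matrix (Fin 2) (Fin 2) F) + (A - ε • (1 : Matrix (Fin 2) (Fin 2) F)) := by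
        abel
      have hcomm : Commute (ε • (1 : Matrix (Fin 2) (Fin 2) F)) (A - ε • (1 : Matrix (Fin 2) (Fin 2) F)) := by
        apply Commute.sub_right
        · exact (Commute.one_left A).smul_left ε
        · exact Commute.refl _
      rw [h1, add_pow_char_of_commute p hcomm, hpow, add_zero, smul_pow, one_pow]
      ext i j
      simp [Matrix.one_apply, Matrix.smul_apply, Matrix.diagonal_apply]
    rw [Matrix.SpecialLinearGroup.mem_center_iff]
    refine ⟨ε ^ p, ?_, ?_⟩
    · simp only [Fintype.card_fin]
      rw [← pow_mul, mul_comm, pow_mul, hε, one_pow]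
    · rw [Matrix.SpecialLinearGroup.coe_pow, ← hAp]
  rcases mul_eq_zero.mp htr with h0 | h4
  · -- trace zero: `A ^ 2 = -1`
    left
    have ht : A.trace = 0 := by simpa using h0
    have hA2 : A * A = -1 := by
      rw [hCH, ht]; simp
    have hA4 : A ^ 4 = 1 := by
      have : A ^ 4 = (A * A) * (A * A) := by
        simp only [pow_succ, pow_zero, one_mul, mul_assoc]
      rw [this, hA2]
      simp
    have : G ^ 4 = 1 := by
      apply Subtype.ext
      rw [Matrix.SpecialLinearGroup.coe_pow]
      exact hA4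
    rw [this]
    exact Subgroup.one_mem _
  · right
    have h5 : (A.trace - 2) * (A.trace + 2) = 0 := by linear_combination h4
    rcases mul_eq_zero.mp h5 with h6 | h6
    · exact hcase 1 (by norm_num) (by linear_combination h6)
    · exact hcase (-1) (by norm_num) (by linear_combination h6)

end Cfsg.Agent.S2471
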