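import Cfsg.Statements.S2474
-- import your own Cfsg.Agent.* helpers here
import Cfsg.Agent.Lib.Helper15.BCCaseD

set_option autoImplicit false
open Cfsg

namespace Cfsg.Agent.S2474

open Cfsg.Agent.Lib.Helper15.OrthReal Cfsg.Agent.Lib.Helper15.BCCaseA
  Cfsg.Agent.Lib.Helper15.BCCaseB Cfsg.Agent.Lib.Helper15.BCCaseCS
  Cfsg.Agent.Lib.Helper15.BCCaseD

theorem main {F : Type*} [Field F] [Fintype F] (hodd : Odd (Fintype.card F)) (n : ℕ) (hn : 3 ≤ n)
    (r s : ℕ) (hr : r.Prime) (hs : s.Prime) (hrs : r ≠ s) :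
    (r * s ∈ Set.range (orderOf : Cfsg.POmega F (Cfsg.quadFormOdd n F) → ℕ)) ↔
      (r * s ∈ Set.range (orderOf : Cfsg.PSp n F → ℕ)) := by
  have hQeq : Cfsg.quadFormOdd n F = ⇑(oddQF n (F := F)) :=
    funext (fun v => (oddQF_apply n v).symm)
  rw [hQeq]
  obtain ⟨p, hpc⟩ := CharP.exists F
  have := hpc
  have : Fact p.Prime := ⟨CharP.char_is_prime F p⟩
  have : Fact r.Prime := ⟨hr⟩
  have : Fact s.Prime := ⟨hs⟩
  have hn2 : 2 ≤ n := by omega
  by_cases hr2 : r = 2
  · have hs2 : s ≠ 2 := fun h => hrs (hr2.trans h.symm)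
    rw [hr2]
    by_cases hsp : s = p
    · rw [hsp]
      exact iff_of_true (caseD_omega hodd n hn2) (caseD_sp hodd n hn2)
    · exact caseC hodd n hn2 s hs2 hsp
  · by_cases hs2 : s = 2
    · rw [hs2, mul_comm r 2]
      by_cases hrp : r = p
      · rw [hrp]
        exact iff_of_true (caseD_omega hodd n hn2) (caseD_sp hodd n hn2)
      · exact caseC hodd n hn2 r hr2 hrp
    · by_cases hrp : r = p
      · have hsp : s ≠ p := fun h => hrs (hrp.trans h.symm)
        rw [hrp, mul_comm p s]
        exact caseB hodd n hn2 s hs2 hsp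
      · by_cases hsp : s = p
        · rw [hsp]
          exact caseB hodd n hn2 r hr2 hrp
        · exact caseA hodd n hn2 r s hrs hr2 hs2 hrp hsp

/-- For q odd and n ≥ 3 the simple groups PΩ(2n+1,q) and PSp(2n,q) (which have the same order but different sets of element orders) have the same prime graph: for all distinct primes r, s, one of them has an element of order r·s if and only if the other does. -/
theorem result {F : Type*} [Field F] [Fintype F] (hodd : Odd (Fintype.card F)) (n : ℕ) (hn : 3 ≤ n) (r s : ℕ) (hr : r.Prime) (hs : s.Prime) (hrs : r ≠ s) :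
    (r * s ∈ Set.range (orderOf : Cfsg.POmega F (Cfsg.quadFormOdd n F) → ℕ)) ↔ (r * s ∈ Set.range (orderOf : Cfsg.PSp n F → ℕ)) := by
  exact main hodd n hn r s hr hs hrs

end Cfsg.Agent.S2474
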