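import Cfsg.Statements.S2476
import Cfsg.Agent.Lib.Helper9.SL3SpecA
import Cfsg.Agent.Lib.Helper9.SL3SpecB

set_option autoImplicit false
open Cfsg

namespace Cfsg.Agent.S2476

open Cfsg.Agent.Lib.Helper9 Matrix

section asm

variable {F : Type*} [Field F] [Fintype F] [DecidableEq F]

theorem mem_center_iff' (g : Matrix.SpecialLinearGroup (Fin 3) F) :
    g ∈ Subgroup.center (Matrix.SpecialLinearGroup (Fin 3) F) ↔
      ∃ e : F, (g : Matrix (Fin 3) (Fin 3) F) = e • (1 : Matrix (Fin 3) (Fin 3) F) := by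
  rw [Matrix.SpecialLinearGroup.mem_center_iff]
  constructor
  · rintro ⟨r, _, hr⟩
    refine ⟨r, ?_⟩
    rw [← hr, Matrix.smul_one_eq_diagonal]
    rfl
  · rintro ⟨e, he⟩
    refine ⟨e, ?_, ?_⟩
    · have hdet : (g : Matrix (Fin 3) (Fin 3) F).det = 1 := g.2
      rw [he, Matrix.det_smul, Matrix.det_one, mul_one] at hdet
      exact hdet
    · rw [he, Matrix.smul_one_eq_diagonal]
      rfl

theorem coe_pow' (g : Matrix.SpecialLinearGroup (Fin 3) F) (k : ℕ) :
    ((g ^ k : Matrix.SpecialLinearGroup (Fin 3) F) : Matrix (Fin 3) (Fin 3) F) =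
      (g : Matrix (Fin 3) (Fin 3) F) ^ k :=
  Matrix.SpecialLinearGroup.coe_pow g k

theorem mk_pow_eq_one_iff (g : Matrix.SpecialLinearGroup (Fin 3) F) (k : ℕ) :
    (QuotientGroup.mk g : Matrix.ProjectiveSpecialLinearGroup (Fin 3) F) ^ k = 1 ↔
      ∃ e : F, (g : Matrix (Fin 3) (Fin 3) F) ^ k = e • (1 : Matrix (Fin 3) (Fin 3) F) := by
  rw [← QuotientGroup.mk_pow, QuotientGroup.eq_one_iff, mem_center_iff', coe_pow']

theorem orderOf_mk_eq (g : Matrix.SpecialLinearGroup (Fin 3) F) (K : ℕ)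
    (h : ∀ k : ℕ, (∃ e : F, (g : Matrix (Fin 3) (Fin 3) F) ^ k =
      e • (1 : Matrix (Fin 3) (Fin 3) F)) ↔ K ∣ k) :
    orderOf (QuotientGroup.mk g : Matrix.ProjectiveSpecialLinearGroup (Fin 3) F) = K := by
  apply Nat.dvd_antisymm
  · rw [orderOf_dvd_iff_pow_eq_one, mk_pow_eq_one_iff, h]
  · rw [← h, ← mk_pow_eq_one_iff]
    exact pow_orderOf_eq_one _

theorem mem_range_of_dvd (K : ℕ)
    (hex : ∃ M : Matrix (Fin 3) (Fin 3) F, M.det = 1 ∧
      ∀ k : ℕ, (∃ c : F, M ^ k = c • (1 : Matrix (Fin 3) (Fin 3) F)) ↔ K ∣ k)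
    (s : ℕ) (hs : s ∣ K) :
    s ∈ Set.range (orderOf : Matrix.ProjectiveSpecialLinearGroup (Fin 3) F → ℕ) := by
  obtain ⟨M, hdet, h⟩ := hex
  have ho := orderOf_mk_eq (⟨M, hdet⟩ : Matrix.SpecialLinearGroup (Fin 3) F) K h
  obtain ⟨m, hm⟩ := hs
  have hfin : Finite (Matrix.ProjectiveSpecialLinearGroup (Fin 3) F) := by
    unfold Matrix.ProjectiveSpecialLinearGroup
    infer_instance
  have hK0 : 0 < K := by
    rw [← ho]
    exact orderOf_pos _
  have hm0 : m ≠ 0 := by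
    rintro rfl
    rw [mul_zero] at hm
    omega
  refine ⟨(QuotientGroup.mk (⟨M, hdet⟩ : Matrix.SpecialLinearGroup (Fin 3) F) :
    Matrix.ProjectiveSpecialLinearGroup (Fin 3) F) ^ m, ?_⟩
  rw [orderOf_pow_of_dvd hm0 (by rw [ho, hm]; exact dvd_mul_left _ _), ho, hm,
    Nat.mul_div_cancel _ (Nat.pos_of_ne_zero hm0)]

end asm

/-- The set of element orders of PSL(3,q): let F be a finite field of characteristic p with q elements and d = gcd(3, q − 1). The orders of elements of PSL(3,F) are exactly the divisors of (q² + q + 1)/d, of (q² − 1)/d, of q − 1, of p(q − 1)/d, and, when p = 2, of 4. -/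
theorem result {F : Type*} [Field F] [Fintype F] (p : ℕ) [Fact p.Prime] [CharP F p] :
    Set.range (orderOf : Matrix.ProjectiveSpecialLinearGroup (Fin 3) F → ℕ) =
      {m : ℕ | m ∣ (Fintype.card F ^ 2 + Fintype.card F + 1) / Nat.gcd 3 (Fintype.card F - 1) ∨
        m ∣ (Fintype.card F ^ 2 - 1) / Nat.gcd 3 (Fintype.card F - 1) ∨ m ∣ Fintype.card F - 1 ∨
        m ∣ p * (Fintype.card F - 1) / Nat.gcd 3 (Fintype.card F - 1) ∨ (p = 2 ∧ m ∣ 4)} := by
  classical
  apply Set.eq_of_subset_of_subset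
  · rintro s ⟨x, rfl⟩
    obtain ⟨g, rfl⟩ := QuotientGroup.mk_surjective x
    show _ ∨ _ ∨ _ ∨ _ ∨ _
    rcases SL3SpecA.pow_scalar (p := p) (g : Matrix (Fin 3) (Fin 3) F) g.2 with
      h | h | h | h | ⟨hp, h⟩
    · left
      exact orderOf_dvd_of_pow_eq_one ((mk_pow_eq_one_iff g _).mpr h)
    · right; left
      exact orderOf_dvd_of_pow_eq_one ((mk_pow_eq_one_iff g _).mpr h)
    · right; right; left
      exact orderOf_dvd_of_pow_eq_one ((mk_pow_eq_one_iff g _).mpr h)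
    · right; right; right; left
      exact orderOf_dvd_of_pow_eq_one ((mk_pow_eq_one_iff g _).mpr h)
    · right; right; right; right
      exact ⟨hp, orderOf_dvd_of_pow_eq_one ((mk_pow_eq_one_iff g _).mpr h)⟩
  · rintro s (hs | hs | hs | hs | ⟨hp, hs⟩)
    · exact mem_range_of_dvd _ (SL3SpecB.exists_singer (FiniteField.Extension F p 3)
        (FiniteField.finrank_extension F p 3)) s hs
    · exact mem_range_of_dvd _ (SL3SpecB.exists_quad (FiniteField.Extension F p 2)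
        (FiniteField.finrank_extension F p 2)) s hs
    · exact mem_range_of_dvd _ SL3SpecB.exists_diag s hs
    · exact mem_range_of_dvd _ (SL3SpecB.exists_transv (p := p)) s hs
    · subst hp
      exact mem_range_of_dvd _ SL3SpecB.exists_unip s hs

end Cfsg.Agent.S2476
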