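import Cfsg.Statements.S2477
-- import your own Cfsg.Agent.* helpers here
import Cfsg.Agent.Lib.Helper14.AltSpectrum

set_option autoImplicit false
open Cfsg

namespace Cfsg.Agent.S2477

theorem key (c2 c3 c4 c5 c6 c7 c8 c9 c10 : ℕ)
    (hsum : c2 * 2 + (c3 * 3 + (c4 * 4 + (c5 * 5 + (c6 * 6 + (c7 * 7 + (c8 * 8 + (c9 * 9 + c10 * 10))))))) ≤ 10)
    (hpar : Even (c2 * 2 + (c3 * 3 + (c4 * 4 + (c5 * 5 + (c6 * 6 + (c7 * 7 + (c8 * 8 + (c9 * 9 + c10 * 10))))))) +
      (c2 + (c3 + (c4 + (c5 + (c6 + (c7 + (c8 + (c9 + c10))))))))) ) :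
    Nat.lcm (if c2 = 0 then 1 else 2) (Nat.lcm (if c3 = 0 then 1 else 3) (Nat.lcm (if c4 = 0 then 1 else 4)
      (Nat.lcm (if c5 = 0 then 1 else 5) (Nat.lcm (if c6 = 0 then 1 else 6) (Nat.lcm (if c7 = 0 then 1 else 7)
      (Nat.lcm (if c8 = 0 then 1 else 8) (Nat.lcm (if c9 = 0 then 1 else 9) (if c10 = 0 then 1 else 10))))))))
      ∈ ({1, 2, 3, 4, 5, 6, 7, 8, 9, 10, 12, 15, 21} : Set ℕ) := by
  rw [Nat.even_iff] at hpar
  have h10 : c10 ≤ 1 := by omega
  have h9 : c9 ≤ 1 := by omega
  have h8 : c8 ≤ 1 := by omega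
  have h7 : c7 ≤ 1 := by omega
  have h6 : c6 ≤ 1 := by omega
  have h5 : c5 ≤ 2 := by omega
  have h4 : c4 ≤ 2 := by omega
  have h3 : c3 ≤ 3 := by omega
  have h2 : c2 ≤ 5 := by omega
  interval_cases c10 <;> interval_cases c9 <;> (try omega) <;> interval_cases c8 <;> (try omega) <;>
    interval_cases c7 <;> (try omega) <;> interval_cases c6 <;> (try omega) <;>
    interval_cases c5 <;> (try omega) <;> interval_cases c4 <;> (try omega) <;>
    interval_cases c3 <;> (try omega) <;> interval_cases c2 <;> (try omega) <;> decide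

/-- The lcm of a multiset of naturals whose members lie in a finset `S`, via the counts. -/
theorem lcm_eq_finset_lcm (m : Multiset ℕ) (S : Finset ℕ) (hS : m.toFinset ⊆ S) :
    m.lcm = S.lcm (fun i => if m.count i = 0 then 1 else i) := by
  apply Nat.dvd_antisymm
  · apply Multiset.lcm_dvd.mpr
    intro a ha
    have haS : a ∈ S := hS (Multiset.mem_toFinset.mpr ha)
    have h := Finset.dvd_lcm (f := fun i => if m.count i = 0 then 1 else i) haS
    have hc : m.count a ≠ 0 := (Multiset.count_pos.mpr ha).ne'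
    simpa [hc] using h
  · apply Finset.lcm_dvd
    intro i _
    by_cases hc : m.count i = 0
    · simp [hc]
    · simp only [hc, if_false]
      exact Multiset.dvd_lcm (Multiset.count_pos.mp (Nat.pos_of_ne_zero hc))

theorem subset_dir (m : Multiset ℕ) (h2 : ∀ a ∈ m, 2 ≤ a) (hsum : m.sum ≤ 10)
    (hev : Even (m.sum + Multiset.card m)) :
    m.lcm ∈ ({1, 2, 3, 4, 5, 6, 7, 8, 9, 10, 12, 15, 21} : Set ℕ) := by
  have hsub : m.toFinset ⊆ ({2, 3, 4, 5, 6, 7, 8, 9, 10} : Finset ℕ) := by
    intro x hx
    rw [Multiset.mem_toFinset] at hx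
    have h1 := h2 x hx
    have h3 := Multiset.le_sum_of_mem hx
    have h4 : x ≤ 10 := le_trans h3 hsum
    interval_cases x <;> simp
  have hS : m.sum = m.count 2 * 2 + (m.count 3 * 3 + (m.count 4 * 4 + (m.count 5 * 5 + (m.count 6 * 6 +
      (m.count 7 * 7 + (m.count 8 * 8 + (m.count 9 * 9 + m.count 10 * 10))))))) := by
    rw [Finset.sum_multiset_count_of_subset m _ hsub]
    simp only [smul_eq_mul]
    rw [Finset.sum_insert (by decide), Finset.sum_insert (by decide), Finset.sum_insert (by decide),
      Finset.sum_insert (by decide), Finset.sum_insert (by decide), Finset.sum_insert (by decide),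
      Finset.sum_insert (by decide), Finset.sum_insert (by decide), Finset.sum_singleton]
  have hC : Multiset.card m = m.count 2 + (m.count 3 + (m.count 4 + (m.count 5 + (m.count 6 +
      (m.count 7 + (m.count 8 + (m.count 9 + m.count 10))))))) := by
    rw [← Multiset.toFinset_sum_count_eq m, Finset.sum_subset hsub]
    · rw [Finset.sum_insert (by decide), Finset.sum_insert (by decide), Finset.sum_insert (by decide),
        Finset.sum_insert (by decide), Finset.sum_insert (by decide), Finset.sum_insert (by decide),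
        Finset.sum_insert (by decide), Finset.sum_insert (by decide), Finset.sum_singleton]
    · intro x _ hx
      rw [Multiset.mem_toFinset] at hx
      exact Multiset.count_eq_zero.mpr hx
  have hL := lcm_eq_finset_lcm m _ hsub
  rw [Finset.lcm_insert, Finset.lcm_insert, Finset.lcm_insert, Finset.lcm_insert, Finset.lcm_insert,
    Finset.lcm_insert, Finset.lcm_insert, Finset.lcm_insert, Finset.lcm_singleton] at hL
  simp only [lcm_eq_nat_lcm, normalize_eq] at hL
  rw [hL]
  rw [hS] at hsum
  rw [hS, hC] at hev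
  exact key _ _ _ _ _ _ _ _ _ hsum hev

/-- The set of element orders of the alternating group of degree 10 is {1, 2, 3, 4, 5, 6, 7, 8, 9, 10, 12, 15, 21}. -/
theorem result : Set.range (orderOf : alternatingGroup (Fin 10) → ℕ) = {1, 2, 3, 4, 5, 6, 7, 8, 9, 10, 12, 15, 21} := by
  apply Set.eq_of_subset_of_subset
  · intro k hk
    rw [Cfsg.Agent.Lib.Helper14.mem_range_orderOf_alternatingGroup_iff] at hk
    obtain ⟨m, h2, hsum, hlcm, hev⟩ := hk
    rw [← hlcm]
    exact subset_dir m h2 hsum hev
  · intro k hk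
    rw [Cfsg.Agent.Lib.Helper14.mem_range_orderOf_alternatingGroup_iff]
    simp only [Set.mem_insert_iff, Set.mem_singleton_iff] at hk
    rcases hk with rfl | rfl | rfl | rfl | rfl | rfl | rfl | rfl | rfl | rfl | rfl | rfl | rfl
    · exact ⟨0, by decide, by decide, by decide, by decide⟩
    · exact ⟨{2, 2}, by decide, by decide, by decide, by decide⟩
    · exact ⟨{3}, by decide, by decide, by decide, by decide⟩
    · exact ⟨{4, 2}, by decide, by decide, by decide, by decide⟩
    · exact ⟨{5}, by decide, by decide, by decide, by decide⟩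
    · exact ⟨{3, 2, 2}, by decide, by decide, by decide, by decide⟩
    · exact ⟨{7}, by decide, by decide, by decide, by decide⟩
    · exact ⟨{8, 2}, by decide, by decide, by decide, by decide⟩
    · exact ⟨{9}, by decide, by decide, by decide, by decide⟩
    · exact ⟨{5, 2, 2}, by decide, by decide, by decide, by decide⟩
    · exact ⟨{4, 3, 2}, by decide, by decide, by decide, by decide⟩
    · exact ⟨{5, 3}, by decide, by decide, by decide, by decide⟩
    · exact ⟨{7, 3}, by decide, by decide, by decide, by decide⟩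

end Cfsg.Agent.S2477
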