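import Cfsg.Statements.S2479
-- import your own Cfsg.Agent.* helpers here
import Cfsg.Agent.Lib.Helper22.SLClsL
import Cfsg.Agent.Lib.Helper22.SLClsM
import Cfsg.Agent.Lib.Helper22.SLClsN

set_option autoImplicit false
open Cfsg

namespace Cfsg.Agent.S2479

/-- The number of conjugacy classes of SL(n,q): for F a finite field with q elements, the number k of conjugacy classes of SL(n,F) satisfies q^(n−1) < k and k ≤ (5/2)·q^(n−1) for n ≥ 2, and k ≤ q^(n−1) + 3q^(n−2) for n ≥ 3. -/
theorem result {F : Type*} [Field F] [Fintype F] (n : ℕ) (hn : 2 ≤ n) :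
    Fintype.card F ^ (n - 1) < Nat.card (ConjClasses (Matrix.SpecialLinearGroup (Fin n) F)) ∧ 2 * Nat.card (ConjClasses (Matrix.SpecialLinearGroup (Fin n) F)) ≤ 5 * Fintype.card F ^ (n - 1) ∧
      (3 ≤ n → Nat.card (ConjClasses (Matrix.SpecialLinearGroup (Fin n) F)) ≤ Fintype.card F ^ (n - 1) + 3 * Fintype.card F ^ (n - 2)) := by
  classical
  have hq : 2 ≤ Fintype.card F := Fintype.one_lt_card
  set K : ℕ := Nat.card (ConjClasses (Matrix.SpecialLinearGroup (Fin n) F)) with hK
  have hmain := Cfsg.Agent.Lib.Helper22.SLCls.card_SL_mul_le (F := F) n (by omega)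
  have hnum := Cfsg.Agent.Lib.Helper22.SLCls.numerics (Fintype.card F) hq n hn (K : ℤ)
    (by positivity) (by
      unfold Cfsg.Agent.Lib.Helper22.SLCls.corr
      exact hmain)
  refine ⟨Cfsg.Agent.Lib.Helper22.SLCls.lt_card_conjClasses_SL n hn, ?_, ?_⟩
  · exact_mod_cast hnum.1
  · intro h3
    exact_mod_cast hnum.2 h3

end Cfsg.Agent.S2479
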