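import Cfsg.Statements.S2480
-- import your own Cfsg.Agent.* helpers here
import Cfsg.Agent.Lib.Helper22.SLClsL
import Cfsg.Agent.Lib.Helper22.SLClsN
import Cfsg.Agent.Lib.Helper22.PSLClsI
import Cfsg.Agent.Lib.Helper22.PSLClsJ

set_option autoImplicit false
open Cfsg

namespace Cfsg.Agent.S2480

/-- The number of conjugacy classes of PSL(n,q): for F a finite field with q elements, n ≥ 2 and d = gcd(n, q − 1), the number k of conjugacy classes of PSL(n,F) satisfies q^(n−1) ≤ d·k ≤ q^(n−1) + 5q^(n−2). -/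
theorem result {F : Type*} [Field F] [Fintype F] (n : ℕ) (hn : 2 ≤ n) :
    Fintype.card F ^ (n - 1) ≤ Nat.gcd n (Fintype.card F - 1) * Nat.card (ConjClasses (Matrix.ProjectiveSpecialLinearGroup (Fin n) F)) ∧
      Nat.gcd n (Fintype.card F - 1) * Nat.card (ConjClasses (Matrix.ProjectiveSpecialLinearGroup (Fin n) F)) ≤ Fintype.card F ^ (n - 1) + 5 * Fintype.card F ^ (n - 2) := by
  classical
  haveI : Fintype (Subgroup.center (Matrix.SpecialLinearGroup (Fin n) F)) := Fintype.ofFinite _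
  have hq : 2 ≤ Fintype.card F := Fintype.one_lt_card
  have hd := Cfsg.Agent.Lib.Helper22.PSLCls.card_center_SL (F := F) n (by omega)
  have hlow := Cfsg.Agent.Lib.Helper22.SLCls.lt_card_conjClasses_SL (F := F) n hn
  have h1 := Cfsg.Agent.Lib.Helper22.PSLCls.card_le_center_mul
    (G := Matrix.SpecialLinearGroup (Fin n) F)
  have h2 := Cfsg.Agent.Lib.Helper22.PSLCls.center_mul_card_le
    (G := Matrix.SpecialLinearGroup (Fin n) F)
  rw [← hd]
  refine ⟨le_trans hlow.le h1, ?_⟩
  refine le_trans h2 ?_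
  -- split off z = 1
  set f : Subgroup.center (Matrix.SpecialLinearGroup (Fin n) F) → ℕ := fun z =>
    Nat.card {C : ConjClasses (Matrix.SpecialLinearGroup (Fin n) F) //
      Cfsg.Agent.Lib.Helper22.PSLCls.cmul z C = C} with hf
  have hsplit : ∑ z, f z = f 1 + ∑ z ∈ Finset.univ.erase 1, f z :=
    (Finset.add_sum_erase Finset.univ f (Finset.mem_univ 1)).symm
  have hf1 : f 1 = Nat.card (ConjClasses (Matrix.SpecialLinearGroup (Fin n) F)) := by
    rw [hf]
    apply Nat.card_congr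
    exact Equiv.subtypeUnivEquiv
      (fun C => (Cfsg.Agent.Lib.Helper22.PSLCls.centerAction
        (G := Matrix.SpecialLinearGroup (Fin n) F)).one_smul C)
  have hper : ∀ z ∈ Finset.univ.erase (1 : Subgroup.center (Matrix.SpecialLinearGroup (Fin n) F)),
      (n ≤ 3 → f z ≤ 1) ∧ (2 * (f z : ℤ) ≤ 5 * (Fintype.card F : ℤ) ^ (n / 2 - 1)) := by
    intro z hz
    have hz1 : z ≠ 1 := (Finset.mem_erase.mp hz).1
    obtain ⟨n', hn'1, hn'2, hb⟩ := Cfsg.Agent.Lib.Helper22.PSLCls.fix_le (F := F) n hn z hz1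
    have hnum := Cfsg.Agent.Lib.Helper22.PSLCls.fix_num (Fintype.card F) hq n' hn'1 (f z : ℤ)
      (by positivity) hb
    refine ⟨fun h3 => ?_, ?_⟩
    · have : n' = 1 := by omega
      exact_mod_cast hnum.1 this
    · refine le_trans hnum.2 ?_
      have hq1 : (1 : ℤ) ≤ (Fintype.card F : ℤ) := by exact_mod_cast (by omega : 1 ≤ Fintype.card F)
      have : (Fintype.card F : ℤ) ^ (n' - 1) ≤ (Fintype.card F : ℤ) ^ (n / 2 - 1) :=
        pow_le_pow_right₀ hq1 (by omega)
      linarith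
  set d := Nat.card (Subgroup.center (Matrix.SpecialLinearGroup (Fin n) F)) with hddef
  have hcardE : (Finset.univ.erase
      (1 : Subgroup.center (Matrix.SpecialLinearGroup (Fin n) F))).card = d - 1 := by
    rw [Finset.card_erase_of_mem (Finset.mem_univ _), Finset.card_univ, hddef,
      Nat.card_eq_fintype_card]
  have hd1 : 1 ≤ d := by
    rw [hd]
    exact Nat.gcd_pos_of_pos_left _ (by omega)
  set T : ℕ := ∑ z ∈ Finset.univ.erase
    (1 : Subgroup.center (Matrix.SpecialLinearGroup (Fin n) F)), f z with hT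
  have hT2 : n ≤ 3 → (T : ℤ) ≤ (d : ℤ) - 1 := by
    intro h3
    have : T ≤ d - 1 := by
      rw [hT, ← hcardE, Finset.card_eq_sum_ones]
      exact Finset.sum_le_sum fun z hz => (hper z hz).1 h3
    have h' : (T : ℤ) ≤ ((d - 1 : ℕ) : ℤ) := by exact_mod_cast this
    rw [Nat.cast_sub hd1] at h'
    simpa using h'
  have hTb : 2 * (T : ℤ) ≤ ((d : ℤ) - 1) * (5 * (Fintype.card F : ℤ) ^ (n / 2 - 1)) := by
    have h' : 2 * (T : ℤ) ≤ ∑ _z ∈ Finset.univ.erase
        (1 : Subgroup.center (Matrix.SpecialLinearGroup (Fin n) F)),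
          5 * (Fintype.card F : ℤ) ^ (n / 2 - 1) := by
      rw [hT]
      push_cast
      rw [Finset.mul_sum]
      exact Finset.sum_le_sum fun z hz => (hper z hz).2
    rw [Finset.sum_const, hcardE, nsmul_eq_mul, Nat.cast_sub hd1] at h'
    simpa using h'
  have hKS := Cfsg.Agent.Lib.Helper22.SLCls.card_SL_mul_le (F := F) n (by omega)
  have hfin := Cfsg.Agent.Lib.Helper22.PSLCls.final_num (Fintype.card F) n d hq hn hd1
    (by rw [hd]; exact Nat.gcd_dvd_left _ _) (by rw [hd]; exact Nat.gcd_dvd_right _ _)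
    (Nat.card (ConjClasses (Matrix.SpecialLinearGroup (Fin n) F)) : ℤ) (T : ℤ) (by positivity)
    (by unfold Cfsg.Agent.Lib.Helper22.SLCls.corr; exact hKS) hT2 hTb
  rw [hsplit, hf1]
  exact_mod_cast hfin

end Cfsg.Agent.S2480
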