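import Cfsg.Statements.S2486
import Cfsg.Agent.Lib.Helper9.LU2
import Cfsg.Agent.Lib.Helper9.SylMeet

set_option autoImplicit false
open scoped Pointwise
open Cfsg

namespace Cfsg.Agent.S2486

/-- Let n ≥ 4 and let G be a finite group with a normal subgroup N of index 2 isomorphic to SL(n,2) and with trivial centralizer in G (so G is the extension of the simple group L_n(2) by its inverse-transpose automorphism, its full automorphism group). Then any two Sylow 2-subgroups of G have a non-trivial intersection: for a Sylow 2-subgroup H and every x ∈ G, H ∩ H^x ≠ 1. -/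
theorem result {G : Type*} [Group G] [Finite G] {n : ℕ} (hn : 4 ≤ n) (N : Subgroup G) [N.Normal]
    (e : N ≃* Matrix.SpecialLinearGroup (Fin n) (ZMod 2)) (hidx : N.index = 2)
    (hC : Subgroup.centralizer (N : Set G) = ⊥)
    (H : Sylow 2 G) (x : G) :
    (H : Subgroup G) ⊓ MulAut.conj x • (H : Subgroup G) ≠ ⊥ := by
  have h1n : 1 ≤ n := le_trans (by norm_num) hn
  have : Fact (Nat.Prime 2) := ⟨Nat.prime_two⟩
  have hgood : Cfsg.Agent.Lib.Helper9.SylMeet.Good 2 (Matrix.SpecialLinearGroup (Fin n) (ZMod 2)) := by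
    refine Cfsg.Agent.Lib.Helper9.SylMeet.good_of 2
      (Cfsg.Agent.Lib.Helper18.PSLnAut.sylowUni (F := ZMod 2) 2 h1n) ?_
      (Cfsg.Agent.Lib.Helper9.LU2.lowtri n (ZMod 2)) ?_ ?_
    · rw [Cfsg.Agent.Lib.Helper18.PSLnAut.coe_sylowUni]
      exact Cfsg.Agent.Lib.Helper9.LU2.normalizer_unitri_le
    · rw [Cfsg.Agent.Lib.Helper18.PSLnAut.coe_sylowUni]
      exact Cfsg.Agent.Lib.Helper9.LU2.card_lowtri
    · intro g hg
      have := Cfsg.Agent.Lib.Helper9.LU2.lu_of_opp g (by
        intro u hu hul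
        apply hg u _ hul
        show u ∈ ((Cfsg.Agent.Lib.Helper18.PSLnAut.sylowUni (F := ZMod 2) 2 h1n :
          Sylow 2 (Matrix.SpecialLinearGroup (Fin n) (ZMod 2))) :
          Subgroup (Matrix.SpecialLinearGroup (Fin n) (ZMod 2)))
        rw [Cfsg.Agent.Lib.Helper18.PSLnAut.coe_sylowUni]
        exact hu)
      obtain ⟨u, hu, l, hl, hgul⟩ := this
      refine ⟨u, ?_, l, hl, hgul⟩
      show u ∈ ((Cfsg.Agent.Lib.Helper18.PSLnAut.sylowUni (F := ZMod 2) 2 h1n :
        Sylow 2 (Matrix.SpecialLinearGroup (Fin n) (ZMod 2))) :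
        Subgroup (Matrix.SpecialLinearGroup (Fin n) (ZMod 2)))
      rw [Cfsg.Agent.Lib.Helper18.PSLnAut.coe_sylowUni]
      exact hu
  obtain ⟨φ, hφdef⟩ : ∃ φ : Matrix.SpecialLinearGroup (Fin n) (ZMod 2) →* G,
      φ = N.subtype.comp e.symm.toMonoidHom := ⟨_, rfl⟩
  have hφ : Function.Injective φ := by
    rw [hφdef]
    exact N.subtype_injective.comp e.symm.injective
  have hrange : φ.range = N := by
    ext y
    constructor
    · rintro ⟨s, rfl⟩
      rw [hφdef]
      exact (e.symm s).2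
    · intro hy
      refine ⟨e ⟨y, hy⟩, ?_⟩
      rw [hφdef]
      show ((e.symm (e ⟨y, hy⟩) : N) : G) = y
      rw [MulEquiv.symm_apply_apply]
  have : φ.range.Normal := by rw [hrange]; infer_instance
  exact Cfsg.Agent.Lib.Helper9.SylMeet.main 2 φ hφ (by rw [hrange]; exact hidx) hgood H x

end Cfsg.Agent.S2486
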