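import Cfsg.Statements.S2495
-- import your own Cfsg.Agent.* helpers here
import Cfsg.Agent.Lib.Helper15.SingerNorm

set_option autoImplicit false
open Cfsg

namespace Cfsg.Agent.S2495

open Matrix Cfsg.Agent.Lib.Helper15.SingerNorm Cfsg.Agent.Lib.Helper19.Zsigmondy

section arith

lemma geomS (q : ℕ) (hq : 1 ≤ q) (k : ℕ) :
    (q - 1) * ∑ l ∈ Finset.range k, q ^ l + 1 = q ^ k := by
  induction k with
  | zero => simp
  | succ k ih =>
    rw [Finset.sum_range_succ, mul_add, pow_succ]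
    obtain ⟨r, rfl⟩ : ∃ r, q = r + 1 := ⟨q - 1, by omega⟩
    rw [Nat.add_sub_cancel] at ih ⊢
    nlinarith

lemma sum_double (q m : ℕ) :
    ∑ i ∈ Finset.range (2 * m), q ^ i = (q ^ m + 1) * ∑ i ∈ Finset.range m, q ^ i := by
  rw [two_mul, Finset.sum_range_add, add_mul, one_mul, Finset.mul_sum, add_comm]
  congr 1
  apply Finset.sum_congr rfl
  intro i _
  rw [pow_add]

lemma sum_modEq (q m a : ℕ) (h : a ∣ q - 1) (hq : 1 ≤ q) :
    ∑ i ∈ Finset.range m, q ^ i ≡ m [MOD a] := by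
  have hq1 : q ≡ 1 [MOD a] := by
    have : 1 ≡ q [MOD a] := (Nat.modEq_iff_dvd' hq).2 h
    exact this.symm
  induction m with
  | zero => simp; exact Nat.ModEq.refl _
  | succ m ih =>
    rw [Finset.sum_range_succ]
    have h2 : q ^ m ≡ 1 [MOD a] := by
      have := hq1.pow m
      rwa [one_pow] at this
    exact ih.add h2

lemma arith_forward (q m N : ℕ) (hq : Odd q) (hq3 : 3 ≤ q) (hm : 1 ≤ m)
    (h1 : N ∣ (q ^ m + 1) * ∑ i ∈ Finset.range m, q ^ i) (h2 : N ∣ (q ^ m + 1) * (q - 1))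
    (h3 : ∀ k, N ∣ k * (q - 1) → (q ^ m + 1) ∣ k) :
    padicValNat 2 (q - 1) < padicValNat 2 (2 * m) := by
  set J := ∑ i ∈ Finset.range m, q ^ i with hJ
  set M := q ^ m + 1 with hM
  have h4 : N ∣ M * Nat.gcd J (q - 1) := by
    rw [← Nat.gcd_mul_left]
    exact Nat.dvd_gcd h1 h2
  obtain ⟨h, hh⟩ := Nat.gcd_dvd_right J (q - 1)
  set g := Nat.gcd J (q - 1) with hg
  have hMeven : Even M := by
    rw [hM]
    exact (hq.pow).add_one
  obtain ⟨M', hM'⟩ := hMeven
  have hM'pos : 0 < M' := by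
    have : 0 < M := by rw [hM]; positivity
    omega
  have hodd : Odd h := by
    by_contra hne
    rw [Nat.not_odd_iff_even] at hne
    obtain ⟨h', hh'⟩ := hne
    have h5 : N ∣ M' * (q - 1) := by
      have : M' * (q - 1) = M * g * h' := by
        rw [hh, hh', hM']; ring
      rw [this]
      exact h4.mul_right h'
    have h6 := Nat.le_of_dvd hM'pos (h3 M' h5)
    omega
  set a := padicValNat 2 (q - 1) with ha
  have h7 : 2 ^ a ∣ q - 1 := pow_padicValNat_dvd
  have h8 : 2 ^ a ∣ g := by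
    rw [hh] at h7
    have hc : Nat.Coprime (2 ^ a) h := by
      apply Nat.Coprime.pow_left
      rw [Nat.coprime_two_left]
      exact hodd
    exact hc.dvd_of_dvd_mul_right h7
  have h9 : 2 ^ a ∣ J := h8.trans (Nat.gcd_dvd_left J (q - 1))
  have h10 : 2 ^ a ∣ m := by
    have := sum_modEq q m (2 ^ a) h7 (by omega)
    exact (Nat.modEq_zero_iff_dvd.1 ((this.symm.trans (Nat.modEq_zero_iff_dvd.2 h9))))
  have h11 : 2 ^ (a + 1) ∣ 2 * m := by
    rw [pow_succ, mul_comm]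
    exact Nat.mul_dvd_mul_left 2 h10
  have := (padicValNat_dvd_iff_le (p := 2) (by omega : 2 * m ≠ 0)).1 h11
  omega

lemma arith_backward (q m : ℕ) (hq : Odd q) (hq3 : 3 ≤ q) (hm : 1 ≤ m)
    (h : padicValNat 2 (q - 1) < padicValNat 2 (2 * m)) :
    ∃ a u J₁ : ℕ, q - 1 = 2 ^ a * u ∧ (∑ i ∈ Finset.range m, q ^ i) = 2 ^ a * J₁ ∧
      Nat.Coprime (q ^ m + 1) u := by
  set a := padicValNat 2 (q - 1) with ha
  have h7 : 2 ^ a ∣ q - 1 := pow_padicValNat_dvd
  obtain ⟨u, hu⟩ := h7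
  have hu2 : ¬ 2 ∣ u := by
    rintro ⟨u', rfl⟩
    have h1 : 2 ^ (a + 1) ∣ q - 1 := ⟨u', by rw [hu, pow_succ]; ring⟩
    have := (padicValNat_dvd_iff_le (p := 2) (by omega : q - 1 ≠ 0)).1 h1
    omega
  have h2 : 2 ^ (a + 1) ∣ 2 * m :=
    (padicValNat_dvd_iff_le (p := 2) (by omega : 2 * m ≠ 0)).2 (by omega)
  have h3 : 2 ^ a ∣ m := by
    rw [pow_succ, mul_comm] at h2
    exact Nat.dvd_of_mul_dvd_mul_left (by norm_num) h2
  have h4 : 2 ^ a ∣ ∑ i ∈ Finset.range m, q ^ i := by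
    have := sum_modEq q m (2 ^ a) ⟨u, hu⟩ (by omega)
    exact (Nat.modEq_zero_iff_dvd.1 ((this.trans (Nat.modEq_zero_iff_dvd.2 h3))))
  obtain ⟨J₁, hJ₁⟩ := h4
  refine ⟨a, u, J₁, hu, hJ₁, ?_⟩
  set g := Nat.gcd (q ^ m + 1) u with hg
  have hg1 : g ∣ q ^ m + 1 := Nat.gcd_dvd_left _ _
  have hg2 : g ∣ u := Nat.gcd_dvd_right _ _
  have hg3 : g ∣ q ^ m - 1 := by
    have h5 : q - 1 ∣ q ^ m - 1 := Nat.sub_one_dvd_pow_sub_one q m
    exact (hg2.trans ⟨2 ^ a, by rw [hu]; ring⟩).trans h5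
  have hg4 : g ∣ 2 := by
    have h0 : 1 ≤ q ^ m := Nat.one_le_pow _ _ (by omega)
    have := Nat.dvd_sub hg1 hg3
    have h6 : q ^ m + 1 - (q ^ m - 1) = 2 := by omega
    rwa [h6] at this
  show g = 1
  rcases (Nat.dvd_prime Nat.prime_two).1 hg4 with h5 | h5
  · exact h5
  · exfalso
    apply hu2
    rw [← h5]; exact hg2

lemma arith_key (q m a u J₁ k : ℕ) (hq3 : 3 ≤ q) (hm : 1 ≤ m) (hqa : q - 1 = 2 ^ a * u)
    (hJ : (∑ i ∈ Finset.range m, q ^ i) = 2 ^ a * J₁)
    (hcop : Nat.Coprime (q ^ m + 1) u) :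
    q ^ (2 * m) - 1 ∣ J₁ * (q - 1) * k * (q - 1) ↔ q ^ m + 1 ∣ k := by
  have h1 : q ^ (2 * m) - 1 = (q - 1) * (∑ i ∈ Finset.range m, q ^ i) * (q ^ m + 1) := by
    have := geomS q (by omega) (2 * m)
    rw [sum_double] at this
    rw [← this, Nat.add_sub_cancel]
    ring
  have h2 : J₁ * (q - 1) * k * (q - 1) =
      (q - 1) * (∑ i ∈ Finset.range m, q ^ i) * (k * u) := by
    rw [hJ]
    conv_lhs => rw [hqa]
    rw [hqa]
    ring
  have hpos : 0 < (q - 1) * (∑ i ∈ Finset.range m, q ^ i) := by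
    apply Nat.mul_pos (by omega)
    apply Finset.sum_pos
    · intro i _; positivity
    · exact ⟨0, Finset.mem_range.2 hm⟩
  rw [h1, h2, Nat.mul_dvd_mul_iff_left hpos]
  exact hcop.dvd_mul_right

end arith


section fwd

variable {F : Type*} [Field F] [Fintype F]

omit [Fintype F] in
lemma mk_pow_eq_one_iff {n : ℕ} (g : SpecialLinearGroup (Fin n) F) (k : ℕ) :
    ((QuotientGroup.mk g : Matrix.ProjectiveSpecialLinearGroup (Fin n) F)) ^ k = 1 ↔
      ∃ c : F, (g : Matrix (Fin n) (Fin n) F) ^ k = algebraMap F (Matrix (Fin n) (Fin n) F) c := by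
  rw [← QuotientGroup.mk_pow]
  erw [QuotientGroup.eq_one_iff]
  rw [Matrix.SpecialLinearGroup.mem_center_iff]
  constructor
  · rintro ⟨c, -, hc⟩
    refine ⟨c, ?_⟩
    rw [← Matrix.SpecialLinearGroup.coe_pow, ← hc]
    rfl
  · rintro ⟨c, hc⟩
    refine ⟨c, ?_, ?_⟩
    · have h1 : ((g ^ k : SpecialLinearGroup (Fin n) F) : Matrix (Fin n) (Fin n) F).det = 1 :=
        (g ^ k).2
      rw [Matrix.SpecialLinearGroup.coe_pow, hc, Matrix.algebraMap_eq_diagonal,
        Matrix.det_diagonal] at h1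
      simpa using h1
    · rw [Matrix.SpecialLinearGroup.coe_pow, hc]
      rfl

/-- a scalar matrix of determinant one has `(q-1)`-th power one -/
lemma scalar_pow_card_sub_one {n : ℕ} (hn : 0 < n) (B : Matrix (Fin n) (Fin n) F) (c : F)
    (hB : B = algebraMap F (Matrix (Fin n) (Fin n) F) c) (hdet : B.det ≠ 0) :
    B ^ (Fintype.card F - 1) = 1 := by
  have : Nonempty (Fin n) := ⟨⟨0, hn⟩⟩
  have hc : c ≠ 0 := by
    rintro rfl
    apply hdet
    rw [hB, map_zero, Matrix.det_zero]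
  rw [hB, ← map_pow, FiniteField.pow_card_sub_one_eq_one c hc, map_one]

theorem forward {q : ℕ} (hF : Fintype.card F = q) (hodd : Odd q) {n : ℕ} (hn : 4 ≤ n) (m : ℕ)
    (hnm : n = 2 * m)
    (g : Matrix.ProjectiveSpecialLinearGroup (Fin n) F) (hg : orderOf g = q ^ m + 1) :
    padicValNat 2 (q - 1) < padicValNat 2 n := by
  classical
  obtain ⟨ĝ, rfl⟩ := QuotientGroup.mk_surjective g
  have hq1 : 1 < q := by rw [← hF]; exact Fintype.one_lt_card
  have hq3 : 3 ≤ q := by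
    obtain ⟨t, ht⟩ := hodd
    omega
  have hm : 2 ≤ m := by omega
  obtain ⟨r, hprim⟩ := zsigmondy q n hq1 (by omega) (by
    rintro ⟨h, -⟩
    rw [h] at hodd
    exact absurd hodd (by decide)) (by rintro ⟨h, -⟩; omega)
  have hr := hprim.1
  have : Fact r.Prime := ⟨hr⟩
  set M := q ^ m + 1 with hM
  have hrM : r ∣ M := by
    have h1 : q ^ n - 1 = (q ^ m - 1) * (q ^ m + 1) := by
      have h0 : 1 ≤ q ^ m := Nat.one_le_pow _ _ (by omega)
      rw [hnm, mul_comm 2 m, pow_mul]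
      obtain ⟨t, ht⟩ : ∃ t, q ^ m = t + 1 := ⟨q ^ m - 1, by omega⟩
      rw [ht, Nat.add_sub_cancel]
      have : (t + 1) ^ 2 = t * (t + 1 + 1) + 1 := by ring
      rw [this, Nat.add_sub_cancel]
    have h2 := hprim.2.1
    rw [h1] at h2
    rcases (Nat.Prime.dvd_mul hr).1 h2 with h3 | h3
    · exact absurd h3 (hprim.2.2 m (by omega) (by omega))
    · exact h3
  set N := orderOf ĝ with hN
  have hN0 : 0 < N := orderOf_pos ĝ
  have hMN : M ∣ N := by
    rw [← hg]
    apply orderOf_dvd_of_pow_eq_one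
    rw [← QuotientGroup.mk_pow, hN, pow_orderOf_eq_one]
    rfl
  have hrN : r ∣ N := hrM.trans hMN
  set x := ĝ ^ (N / r) with hx
  have hxr : orderOf x = r := orderOf_pow_orderOf_div hN0.ne' hrN
  set A : Matrix (Fin n) (Fin n) F := (ĝ : Matrix (Fin n) (Fin n) F) with hA
  have hdetA : A.det = 1 := ĝ.2
  have hxB : (x : Matrix (Fin n) (Fin n) F) = A ^ (N / r) := by
    rw [hx, Matrix.SpecialLinearGroup.coe_pow]
  have hB1 : (A ^ (N / r)) ^ r = 1 := by
    rw [← hxB, ← Matrix.SpecialLinearGroup.coe_pow, ← hxr, pow_orderOf_eq_one]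
    rfl
  have hB2 : A ^ (N / r) ≠ 1 := by
    intro h
    have h1 : x = 1 := by
      apply Subtype.ext
      rw [hxB, h]; rfl
    rw [h1, orderOf_one] at hxr
    exact hr.one_lt.ne hxr
  have hirr : ∀ W : Submodule F (Fin n → F), (∀ w ∈ W, A.mulVec w ∈ W) → W = ⊥ ∨ W = ⊤ := by
    intro W hW
    have hpow : ∀ k : ℕ, ∀ w ∈ W, (A ^ k).mulVec w ∈ W := by
      intro k
      induction k with
      | zero => intro w hw; simpa using hw
      | succ k ih =>
        intro w hw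
        rw [pow_succ, ← Matrix.mulVec_mulVec]
        exact ih _ (hW w hw)
    exact irr_of_prim (by omega) (by rw [hF]; exact hprim) _ hB1 hB2 W (hpow _)
  obtain ⟨hc1, hc2⟩ := irr_core (by omega) A hirr
  rw [hdetA, map_one, hF] at hc1
  rw [hF] at hc2
  -- facts about powers
  have hpowA : ∀ k, A ^ k = 1 ↔ N ∣ k := by
    intro k
    rw [hN, orderOf_dvd_iff_pow_eq_one]
    constructor
    · intro h
      apply Subtype.ext
      rw [Matrix.SpecialLinearGroup.coe_pow, h]; rfl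
    · intro h
      have := congrArg (fun y : SpecialLinearGroup (Fin n) F => (y : Matrix (Fin n) (Fin n) F)) h
      simpa using this
  have hscal : ∀ k, (∃ c : F, A ^ k = algebraMap F (Matrix (Fin n) (Fin n) F) c) ↔
      N ∣ k * (q - 1) := by
    intro k
    rw [← hpowA]
    constructor
    · rintro ⟨c, hc⟩
      rw [pow_mul, ← hF]
      apply scalar_pow_card_sub_one (by omega) _ c hc
      rw [Matrix.det_pow, hdetA, one_pow]
      exact one_ne_zero
    · exact hc2 k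
  have h1 : N ∣ (q ^ m + 1) * ∑ i ∈ Finset.range m, q ^ i := by
    rw [← sum_double, ← hnm, ← hpowA]
    exact hc1
  have h2 : N ∣ (q ^ m + 1) * (q - 1) := by
    rw [← hscal, ← mk_pow_eq_one_iff, ← hM, ← hg, pow_orderOf_eq_one]
  have h3 : ∀ k, N ∣ k * (q - 1) → (q ^ m + 1) ∣ k := by
    intro k hk
    rw [← hscal, ← mk_pow_eq_one_iff] at hk
    rw [← hM, ← hg]
    exact orderOf_dvd_of_pow_eq_one hk
  rw [hnm]
  exact arith_forward q m N hodd hq3 (by omega) h1 h2 h3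

theorem backward {q : ℕ} (hF : Fintype.card F = q) (hodd : Odd q) {n : ℕ} (hn : 4 ≤ n) (m : ℕ)
    (hnm : n = 2 * m) (h : padicValNat 2 (q - 1) < padicValNat 2 n) :
    ∃ g : Matrix.ProjectiveSpecialLinearGroup (Fin n) F, orderOf g = q ^ m + 1 := by
  classical
  have hq1 : 1 < q := by rw [← hF]; exact Fintype.one_lt_card
  have hq3 : 3 ≤ q := by
    obtain ⟨t, ht⟩ := hodd
    omega
  have hm : 2 ≤ m := by omega
  rw [hnm] at h
  obtain ⟨a, u, J₁, hqa, hJ, hcop⟩ := arith_backward q m hodd hq3 (by omega) h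
  obtain ⟨p, hp⟩ := CharP.exists F
  have : Fact p.Prime := ⟨CharP.char_is_prime F p⟩
  have : NeZero n := ⟨by omega⟩
  let K := FiniteField.Extension F p n
  have hfr : Module.finrank F K = n := FiniteField.finrank_extension F p n
  have hKcard : Nat.card K = q ^ n := by
    rw [FiniteField.natCard_extension, Nat.card_eq_fintype_card, hF]
  have : Fintype K := Fintype.ofFinite K
  have hKu : Nat.card Kˣ = q ^ n - 1 := by
    rw [Nat.card_units, hKcard]
  obtain ⟨z, hz⟩ := IsCyclic.exists_ofOrder_eq_natCard (α := Kˣ)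
  rw [hKu] at hz
  let b : Module.Basis (Fin n) F K := Module.finBasisOfFinrankEq F K hfr
  let τ : K →ₐ[F] Matrix (Fin n) (Fin n) F := Algebra.leftMulMatrix b
  have hτ : Function.Injective τ := Algebra.leftMulMatrix_injective b
  set y : Kˣ := z ^ (J₁ * (q - 1)) with hy
  set A : Matrix (Fin n) (Fin n) F := τ (y : K) with hA
  have hdet : A.det = 1 := by
    have h1 : A = (τ ((z ^ J₁ : Kˣ) : K)) ^ (q - 1) := by
      rw [hA, hy, pow_mul, Units.val_pow_eq_pow_val, map_pow]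
    have h2 : IsUnit (τ ((z ^ J₁ : Kˣ) : K)) := (Units.isUnit _).map τ
    have h3 : (τ ((z ^ J₁ : Kˣ) : K)).det ≠ 0 := ((Matrix.isUnit_iff_isUnit_det _).1 h2).ne_zero
    rw [h1, Matrix.det_pow, ← hF]
    exact FiniteField.pow_card_sub_one_eq_one _ h3
  have hkey : ∀ k : ℕ, (∃ c : F, A ^ k = algebraMap F (Matrix (Fin n) (Fin n) F) c) ↔
      q ^ m + 1 ∣ k := by
    intro k
    rw [← arith_key q m a u J₁ k hq3 (by omega) hqa hJ hcop, ← hnm, ← hz,
      orderOf_dvd_iff_pow_eq_one]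
    have e1 : z ^ (J₁ * (q - 1) * k * (q - 1)) = (y ^ k) ^ (q - 1) := by
      rw [hy, ← pow_mul, ← pow_mul]
      congr 1
      ring
    rw [e1]
    have e2 : A ^ k = τ ((y ^ k : Kˣ) : K) := by
      rw [hA, ← map_pow, ← Units.val_pow_eq_pow_val]
    rw [e2]
    constructor
    · rintro ⟨c, hc⟩
      rw [← AlgHom.commutes τ] at hc
      have hc' := hτ hc
      have hc0 : c ≠ 0 := by
        rintro rfl
        rw [map_zero] at hc'
        exact (y ^ k).ne_zero hc'
      apply Units.ext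
      rw [Units.val_pow_eq_pow_val, hc', ← map_pow, ← hF,
        FiniteField.pow_card_sub_one_eq_one c hc0, map_one, Units.val_one]
    · intro hk
      have h1 : ((y ^ k : Kˣ) : K) ^ Fintype.card F = ((y ^ k : Kˣ) : K) := by
        have h2 : Fintype.card F = (q - 1) + 1 := by omega
        rw [h2, pow_succ, ← Units.val_pow_eq_pow_val, hk, Units.val_one, one_mul]
      obtain ⟨c, hc⟩ := mem_range_of_pow_card (F := F) _ h1
      exact ⟨c, by rw [← hc, AlgHom.commutes]⟩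
  obtain ⟨ĝ, hĝ⟩ : ∃ ĝ : SpecialLinearGroup (Fin n) F, (ĝ : Matrix (Fin n) (Fin n) F) = A :=
    ⟨⟨A, hdet⟩, rfl⟩
  refine ⟨QuotientGroup.mk ĝ, ?_⟩
  apply Nat.dvd_antisymm
  · apply orderOf_dvd_of_pow_eq_one
    rw [mk_pow_eq_one_iff, hĝ, hkey]
  · rw [← hkey, ← hĝ, ← mk_pow_eq_one_iff]
    exact pow_orderOf_eq_one _


theorem main {q : ℕ} (hF : Fintype.card F = q) (hodd : Odd q)
    {n : ℕ} (hn : 4 ≤ n) (heven : Even n) :
    (∃ g : Matrix.ProjectiveSpecialLinearGroup (Fin n) F, orderOf g = q ^ (n / 2) + 1) ↔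
      padicValNat 2 (q - 1) < padicValNat 2 n := by
  obtain ⟨m, hm⟩ := heven
  have hnm : n = 2 * m := by omega
  have hm2 : n / 2 = m := by omega
  rw [hm2]
  constructor
  · rintro ⟨g, hg⟩
    exact forward hF hodd hn m hnm g hg
  · intro h
    exact backward hF hodd hn m hnm h

end fwd

/-- Let q be an odd prime power, n ≥ 4 even, and L = PSL(n,q). Then L has an element of order q^(n/2) + 1 if and only if the 2-part of n exceeds the 2-part of q − 1. -/
theorem result {F : Type*} [Field F] [Fintype F] {q : ℕ} (hF : Fintype.card F = q) (hodd : Odd q)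
    {n : ℕ} (hn : 4 ≤ n) (heven : Even n) :
    (∃ g : Matrix.ProjectiveSpecialLinearGroup (Fin n) F, orderOf g = q ^ (n / 2) + 1) ↔
      padicValNat 2 (q - 1) < padicValNat 2 n := by
  exact main hF hodd hn heven

end Cfsg.Agent.S2495
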