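import Cfsg.Statements.S2496
import Mathlib
import Cfsg.Agent.Lib.Helper4.PSUSpecN

set_option autoImplicit false
open Cfsg

namespace Cfsg.Agent.S2496


/-- Let q be an odd prime power, n ≥ 4 even, and U = PSU(n,q) (realised over the field with q² elements). Then U has an element of order q^(n/2) + (−1)^(n/2) — that is, q^(n/2) + 1 when n/2 is even and q^(n/2) − 1 when n/2 is odd — if and only if the 2-part of n exceeds the 2-part of q + 1. -/
theorem result {F : Type*} [Field F] [Fintype F] {q : ℕ} (hF : Fintype.card F = q ^ 2) (hodd : Odd q)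
    {n : ℕ} (hn : 4 ≤ n) (heven : Even n) :
    (∃ g : Cfsg.PSU n F q, orderOf g = if Even (n / 2) then q ^ (n / 2) + 1 else q ^ (n / 2) - 1) ↔
      padicValNat 2 (q + 1) < padicValNat 2 n := by
  classical
  obtain ⟨p, hpchar⟩ := CharP.exists F
  haveI := hpchar
  obtain ⟨m, hp, hm⟩ := FiniteField.card F p
  haveI : Fact p.Prime := ⟨hp⟩
  have hqdvd : q ∣ p ^ (m : ℕ) := by
    rw [← hm, hF]
    exact Dvd.intro_left q (by ring)
  obtain ⟨a, -, rfl⟩ := (Nat.dvd_prime_pow hp).1 hqdvd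
  have hF' : Fintype.card F = (p ^ a) ^ 2 := hF
  obtain ⟨k, hk⟩ := heven
  have hnk : n = 2 * k := by omega
  have hk2 : 2 ≤ k := by omega
  haveI : NeZero n := ⟨by omega⟩
  haveI : NeZero k := ⟨by omega⟩
  have hdiv : n / 2 = k := by omega
  rw [hdiv]
  have hq2 := Cfsg.Agent.H4PSUSpec.two_le_q p a hF'
  have hq1 : 1 ≤ p ^ a := by omega
  have ha0 : a ≠ 0 := by
    rintro rfl
    rw [pow_zero] at hq2
    omega
  have hpq : p ∣ p ^ a := dvd_pow_self p ha0
  have hpqk : p ∣ (p ^ a) ^ k := hpq.trans (dvd_pow_self _ (by omega))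
  have hqk1 : 1 ≤ (p ^ a) ^ k := Nat.one_le_pow _ _ hq1
  have hqk2 : 2 ≤ (p ^ a) ^ k := by
    calc 2 ≤ p ^ a := hq2
      _ = (p ^ a) ^ 1 := (pow_one _).symm
      _ ≤ (p ^ a) ^ k := Nat.pow_le_pow_right hq1 (by omega)
  have hM : (p ^ a) ^ n - 1 = (p ^ a + 1) * ((p ^ a - 1) * Cfsg.Agent.H4PSUSpec.S2 (p ^ a) k) := by
    rw [hnk]
    exact Cfsg.Agent.H4PSUSpec.pow_sub_one_eq _ k hq1
  have hM0 : 0 < (p ^ a - 1) * Cfsg.Agent.H4PSUSpec.S2 (p ^ a) k := by
    rcases Nat.eq_zero_or_pos ((p ^ a - 1) * Cfsg.Agent.H4PSUSpec.S2 (p ^ a) k) with h | h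
    · rw [h, mul_zero] at hM
      have : 2 ^ n ≤ (p ^ a) ^ n := Nat.pow_le_pow_left hq2 n
      have : 2 ≤ 2 ^ n := by
        calc 2 = 2 ^ 1 := by norm_num
          _ ≤ 2 ^ n := Nat.pow_le_pow_right (by norm_num) (by omega)
      omega
    · exact h
  have hfact : (p ^ a) ^ (2 * k) - 1 = ((p ^ a) ^ k + 1) * ((p ^ a) ^ k - 1) := by
    obtain ⟨c, hc⟩ : ∃ c, (p ^ a) ^ k = c + 1 := ⟨(p ^ a) ^ k - 1, by omega⟩
    have h2 : (p ^ a) ^ (2 * k) = ((p ^ a) ^ k) ^ 2 := by rw [mul_comm 2 k, pow_mul]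
    rw [h2, hc, Nat.add_sub_cancel]
    have h3 : (c + 1) ^ 2 = (c + 1 + 1) * c + 1 := by ring
    rw [h3, Nat.add_sub_cancel]
  have hq21 : (p ^ a) ^ 2 - 1 = (p ^ a + 1) * (p ^ a - 1) := Cfsg.Agent.H4PSUSpec.qq_eq _ hq1
  by_cases hke : Even k
  · rw [if_pos hke]
    obtain ⟨t, ht⟩ := hke
    have hkt : k = 2 * t := by omega
    obtain ⟨ℓ, hprim⟩ := Cfsg.Agent.Lib.Helper19.Zsigmondy.zsigmondy (p ^ a) n (by omega) (by omega)
      (by
        rintro ⟨h1, -⟩
        rw [h1] at hodd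
        exact absurd hodd (by decide))
      (by rintro ⟨h1, -⟩; omega)
    have hℓ := hprim.1
    have hcrit : ((p ^ a) ^ k + 1) *
        Nat.gcd ((p ^ a - 1) * Cfsg.Agent.H4PSUSpec.S2 (p ^ a) k) (p ^ a + 1) ∣
          (p ^ a - 1) * Cfsg.Agent.H4PSUSpec.S2 (p ^ a) k ↔
        padicValNat 2 (p ^ a + 1) < padicValNat 2 n := by
      have := Cfsg.Agent.H4PSUSpec.crit_even (p ^ a) t hq1 (by omega)
      rw [← hkt, ← hnk] at this
      exact this
    constructor
    · rintro ⟨g, hg⟩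
      apply hcrit.1
      refine Cfsg.Agent.H4PSUSpec.half_torus_necU p a hF' hnk hM (by omega) ?_ hℓ ?_ ?_ ?_ ?_ g hg
      · intro h
        have h2 : p ∣ 1 := (Nat.dvd_add_right hpqk).1 h
        exact hp.one_lt.ne' (Nat.dvd_one.1 h2)
      · have h1 : ℓ ∣ (p ^ a) ^ n - 1 := hprim.2.1
        rw [hnk, hfact] at h1
        rcases hℓ.dvd_mul.1 h1 with h | h
        · exact h
        · exact (hprim.2.2 k (by omega) (by omega) h).elim
      · intro h
        apply hprim.2.2 2 (by omega) (by omega)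
        rw [hq21]
        exact h.mul_right _
      · intro m' hm'
        have h1 : n ∣ 2 * m' :=
          Cfsg.Agent.H4PSUSpec.isPrim_dvd (by omega) (by omega) hprim hm'
        rw [hnk] at h1
        exact (Nat.mul_dvd_mul_iff_left (by norm_num)).1 h1
      · intro hko
        exact absurd hko (Nat.not_odd_iff_even.2 ⟨t, ht⟩)
    · intro h
      exact Cfsg.Agent.H4PSUSpec.half_torus_existsU p a hF' hnk hM hM0 (hcrit.2 h)
  · rw [if_neg hke]
    have hko : Odd k := Nat.not_even_iff_odd.1 hke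
    have hk3 : 3 ≤ k := by
      obtain ⟨c, hc⟩ := hko
      omega
    haveI : Fact (Nat.Prime 2) := ⟨Nat.prime_two⟩
    constructor
    · rintro ⟨g, hg⟩
      exfalso
      obtain ⟨ℓ, hprim⟩ := Cfsg.Agent.Lib.Helper19.Zsigmondy.zsigmondy (p ^ a) k (by omega)
        (by omega)
        (by
          rintro ⟨h1, -⟩
          rw [h1] at hodd
          exact absurd hodd (by decide))
        (by rintro ⟨h1, -⟩; omega)
      have hℓ := hprim.1
      apply Cfsg.Agent.H4PSUSpec.crit_odd (p ^ a) k hodd hq2 hko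
      refine Cfsg.Agent.H4PSUSpec.half_torus_necU p a hF' hnk hM (by omega) ?_ hℓ hprim.2.1 ?_ ?_ ?_
        g hg
      · intro h
        have h2 : p ∣ (p ^ a) ^ k - ((p ^ a) ^ k - 1) := Nat.dvd_sub hpqk h
        have h3 : (p ^ a) ^ k - ((p ^ a) ^ k - 1) = 1 := by omega
        rw [h3] at h2
        exact hp.one_lt.ne' (Nat.dvd_one.1 h2)
      · intro h
        apply hprim.2.2 2 (by omega) (by omega)
        rw [hq21]
        exact h.mul_right _
      · intro m' hm'
        have h1 : k ∣ 2 * m' :=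
          Cfsg.Agent.H4PSUSpec.isPrim_dvd (by omega) (by omega) hprim hm'
        exact (Nat.Coprime.dvd_of_dvd_mul_left (Nat.Coprime.symm (Nat.coprime_two_left.2 hko)) h1)
      · intro _ j
        exact Cfsg.Agent.H4PSUSpec.isPrim_H2 hodd hko hk2 hprim j
    · intro h
      exfalso
      have h1 : padicValNat 2 n = 1 := by
        rw [hnk, padicValNat.mul (by norm_num) (by omega), padicValNat_self,
          padicValNat.eq_zero_of_not_dvd (fun h2 => hke (even_iff_two_dvd.2 h2))]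
      have h2 : 1 ≤ padicValNat 2 (p ^ a + 1) := by
        apply one_le_padicValNat_of_dvd (by omega)
        obtain ⟨c, hc⟩ := hodd
        exact ⟨c + 1, by omega⟩
      omega

end Cfsg.Agent.S2496
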