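import Cfsg.Statements.S2506
import Mathlib
import Cfsg.Agent.Lib.Helper20.AbAltF

set_option autoImplicit false
open scoped Pointwise
open Cfsg

namespace Cfsg.Agent.S2506

open Equiv Equiv.Perm Cfsg.Agent.Lib.Helper20.AbAlt Cfsg.Agent.Lib.Helper19.AltAbelian

/-- a maximal-order abelian subgroup of `A_n` maps to an extremal group -/
theorem ext_of_max (n : ℕ) (C : Subgroup (alternatingGroup (Fin n))) (hC : IsMulCommutative C)
    (hmax : ∀ D : Subgroup (alternatingGroup (Fin n)), IsMulCommutative D →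
      Nat.card D ≤ Nat.card C) :
    Ext (C.map (alternatingGroup (Fin n)).subtype) := by
  refine ⟨?_, ?_, ?_⟩
  · rintro _ ⟨a, ha, rfl⟩ _ ⟨b, hb, rfl⟩
    have := (isMulCommutative_iff.mp hC) ⟨a, ha⟩ ⟨b, hb⟩
    have h2 : a * b = b * a := congrArg Subtype.val this
    rw [← map_mul, ← map_mul, h2]
  · rintro _ ⟨a, ha, rfl⟩
    exact Equiv.Perm.mem_alternatingGroup.mp a.2
  · rw [Subgroup.card_map_of_injective (Subgroup.subtype_injective _), Fintype.card_fin]
    apply le_antisymm (card_le_t_alt n C hC)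
    obtain ⟨D, hD, hDc⟩ := hasAbE_alt (hasAbE_t n)
    rw [← hDc]
    exact hmax D hD

/-- conjugacy by an even permutation -/
theorem exists_even_conj (n : ℕ) (A' B' : Subgroup (Perm (Fin n))) (hA : Ext A') (hB : Ext B') :
    ∃ g : Perm (Fin n), sign g = 1 ∧ ∀ b, b ∈ B' ↔ ∃ a ∈ A', b = g * a * g⁻¹ := by
  obtain ⟨e, he⟩ := conj_all n (Fin n) (Fin n) (by simp) (by simp) A' B' hA hB
  have hmem : ∀ b, b ∈ B' ↔ ∃ a ∈ A', b = e * a * e⁻¹ := by
    intro b
    rw [he]
    constructor
    · rintro ⟨a, ha, rfl⟩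
      exact ⟨a, ha, rfl⟩
    · rintro ⟨a, ha, rfl⟩
      exact ⟨a, ha, rfl⟩
  rcases Int.units_eq_one_or (sign e) with h1 | h1
  · exact ⟨e, h1, hmem⟩
  · have hn : 2 ≤ Fintype.card (Fin n) := by
      by_contra hlt
      have hsub : Subsingleton (Fin n) := by
        rw [← Fintype.card_le_one_iff_subsingleton]; omega
      have : e = 1 := Subsingleton.elim _ _
      rw [this, map_one] at h1
      exact absurd h1 (by decide)
    obtain ⟨w, hw, hnorm⟩ := exists_odd_normalizing A' hA hn
    -- conjugation by `w` is a bijection of `A'`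
    have hsurj : ∀ a ∈ A', ∃ a0 ∈ A', a = w * a0 * w⁻¹ := by
      have hle : A'.map (MulAut.conj w).toMonoidHom ≤ A' := by
        rintro _ ⟨a, ha, rfl⟩
        exact hnorm a ha
      have heq : A'.map (MulAut.conj w).toMonoidHom = A' :=
        Subgroup.eq_of_le_of_card_ge hle
          (by rw [Subgroup.card_map_of_injective (MulAut.conj w).injective])
      intro a ha
      rw [← heq] at ha
      obtain ⟨a0, ha0, rfl⟩ := ha
      exact ⟨a0, ha0, rfl⟩
    refine ⟨e * w, by rw [map_mul, h1, hw]; decide, ?_⟩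
    intro b
    rw [hmem]
    constructor
    · rintro ⟨a, ha, rfl⟩
      obtain ⟨a0, ha0, rfl⟩ := hsurj a ha
      exact ⟨a0, ha0, by group⟩
    · rintro ⟨a, ha, rfl⟩
      exact ⟨w * a * w⁻¹, hnorm a ha, by group⟩

/-- In the alternating group of any degree, any two abelian subgroups of the largest possible order (among abelian subgroups) are conjugate. -/
theorem result (n : ℕ)
    (A B : Subgroup (alternatingGroup (Fin n))) (hA : IsMulCommutative A) (hB : IsMulCommutative B)
    (hAmax : ∀ C : Subgroup (alternatingGroup (Fin n)), IsMulCommutative C → Nat.card C ≤ Nat.card A)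
    (hBmax : ∀ C : Subgroup (alternatingGroup (Fin n)), IsMulCommutative C → Nat.card C ≤ Nat.card B) :
    ∃ g : alternatingGroup (Fin n), B = MulAut.conj g • A := by
  obtain ⟨g, hg, hconj⟩ := exists_even_conj n _ _ (ext_of_max n A hA hAmax) (ext_of_max n B hB hBmax)
  refine ⟨⟨g, mem_alternatingGroup.mpr hg⟩, ?_⟩
  ext b
  rw [Subgroup.mem_smul_pointwise_iff_exists]
  constructor
  · intro hb
    have h1 : (b : Perm (Fin n)) ∈ B.map (alternatingGroup (Fin n)).subtype := ⟨b, hb, rfl⟩
    obtain ⟨a', ⟨a, ha, rfl⟩, hba⟩ := (hconj _).mp h1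
    refine ⟨a, ha, ?_⟩
    apply Subtype.ext
    simp only [MulAut.smul_def, MulAut.conj_apply]
    exact hba.symm
  · rintro ⟨a, ha, rfl⟩
    have h1 : ((MulAut.conj (⟨g, mem_alternatingGroup.mpr hg⟩ : alternatingGroup (Fin n)) • a :
        alternatingGroup (Fin n)) : Perm (Fin n)) ∈ B.map (alternatingGroup (Fin n)).subtype := by
      rw [hconj]
      exact ⟨a, ⟨a, ha, rfl⟩, rfl⟩
    obtain ⟨b, hb, hbe⟩ := h1
    have : b = MulAut.conj (⟨g, mem_alternatingGroup.mpr hg⟩ : alternatingGroup (Fin n)) • a :=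
      Subtype.ext hbe
    rw [← this]
    exact hb

end Cfsg.Agent.S2506
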