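import Cfsg.Statements.S2507
import Cfsg.Agent.Lib.Helper13.PSL2ClassSizeEven

set_option autoImplicit false
open Cfsg

namespace Cfsg.Agent.S2507

/-- Let F be a finite field with q = 2^f ≥ 4 elements. The conjugacy class sizes of PSL(2,F) are exactly 1, q(q − 1), q² − 1 and q(q + 1). -/
theorem result {F : Type*} [Field F] [Fintype F]
    (h2 : 2 ∣ Fintype.card F) (h4 : 4 ≤ Fintype.card F) :
    Set.range (fun g : (Matrix.ProjectiveSpecialLinearGroup (Fin 2) F) => (Subgroup.centralizer ({g} : Set (Matrix.ProjectiveSpecialLinearGroup (Fin 2) F))).index) =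
      {1, Fintype.card F * (Fintype.card F - 1), Fintype.card F ^ 2 - 1, Fintype.card F * (Fintype.card F + 1)} := by
  classical
  have hchar : ringChar F = 2 := FiniteField.even_card_iff_char_two.mpr (Nat.dvd_iff_mod_eq_zero.mp h2)
  have : CharP F 2 := ringChar.of_eq hchar
  have e := Cfsg.Agent.Lib.Helper13.pslEquivSL (F := F)
  rw [← Cfsg.Agent.Lib.Helper13.SL2_even_class_sizes h4]
  ext n
  simp only [Set.mem_range]
  constructor
  · rintro ⟨g, rfl⟩
    exact ⟨e g, (Cfsg.Agent.Lib.Helper13.index_centralizer_mulEquiv e g).symm⟩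
  · rintro ⟨g, rfl⟩
    refine ⟨e.symm g, ?_⟩
    rw [Cfsg.Agent.Lib.Helper13.index_centralizer_mulEquiv e (e.symm g), MulEquiv.apply_symm_apply]

end Cfsg.Agent.S2507
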