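import Cfsg.Statements.S2508
import Cfsg.Agent.Lib.Helper13.PSL2ClassSizeOdd

set_option autoImplicit false
open Cfsg

namespace Cfsg.Agent.S2508

/-- Let F be a finite field with q elements, q odd and q ≥ 7. If q ≡ 1 (mod 4) the conjugacy class sizes of PSL(2,F) are exactly 1, (q² − 1)/2, q(q + 1)/2, q(q − 1) and q(q + 1); if q ≡ 3 (mod 4) they are exactly 1, (q² − 1)/2, q(q − 1)/2, q(q + 1) and q(q − 1). -/
theorem result {F : Type*} [Field F] [Fintype F]
    (hodd : ¬ 2 ∣ Fintype.card F) (h7 : 7 ≤ Fintype.card F) :
    (Fintype.card F % 4 = 1 →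
      Set.range (fun g : (Matrix.ProjectiveSpecialLinearGroup (Fin 2) F) => (Subgroup.centralizer ({g} : Set (Matrix.ProjectiveSpecialLinearGroup (Fin 2) F))).index) =
        {1, (Fintype.card F ^ 2 - 1) / 2, Fintype.card F * (Fintype.card F + 1) / 2,
          Fintype.card F * (Fintype.card F - 1), Fintype.card F * (Fintype.card F + 1)}) ∧
    (Fintype.card F % 4 = 3 →
      Set.range (fun g : (Matrix.ProjectiveSpecialLinearGroup (Fin 2) F) => (Subgroup.centralizer ({g} : Set (Matrix.ProjectiveSpecialLinearGroup (Fin 2) F))).index) =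
        {1, (Fintype.card F ^ 2 - 1) / 2, Fintype.card F * (Fintype.card F - 1) / 2,
          Fintype.card F * (Fintype.card F + 1), Fintype.card F * (Fintype.card F - 1)}) := by
  classical
  obtain ⟨p, hp⟩ := CharP.exists F
  have hpp : Fact p.Prime := ⟨CharP.char_is_prime F p⟩
  have h2 : (2 : F) ≠ 0 := by
    intro h
    apply hodd
    have hchar : ringChar F = 2 := by
      have h3 : ringChar F ∣ 2 := by
        rw [← ringChar.spec F 2]
        exact_mod_cast h
      rcases (Nat.dvd_prime Nat.prime_two).mp h3 with h4 | h4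
      · exact absurd h4 (CharP.ringChar_ne_one)
      · exact h4
    exact Nat.dvd_of_mod_eq_zero (FiniteField.even_card_iff_char_two.mp hchar)
  obtain ⟨e1, e2, e3, e4, e5, e6⟩ := Cfsg.Agent.Lib.Helper13.pslIdx_exists (F := F) p h2 h7
  have hcases := Cfsg.Agent.Lib.Helper13.pslIdx_cases (F := F) h2
  have hsq := FiniteField.isSquare_neg_one_iff (F := F)
  unfold Cfsg.Agent.Lib.Helper13.pslIdx at e1 e2 e3 e4 e5 e6 hcases
  constructor
  · intro h41
    have hs : IsSquare (-1 : F) := hsq.mpr (by omega)
    ext n
    simp only [Set.mem_range, Set.mem_insert_iff, Set.mem_singleton_iff]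
    constructor
    · rintro ⟨x, rfl⟩
      obtain ⟨g, rfl⟩ := QuotientGroup.mk_surjective x
      rcases hcases g with h | h | h | h | ⟨-, h⟩ | ⟨h', -⟩
      · left; exact h
      · right; left; omega
      · right; right; right; right; exact h
      · right; right; right; left; exact h
      · right; right; left; omega
      · exact absurd hs h'
    · rintro (rfl | rfl | rfl | rfl | rfl)
      · exact e1
      · obtain ⟨x, hx⟩ := e2
        exact ⟨x, by omega⟩
      · obtain ⟨x, hx⟩ := e5 hs
        exact ⟨x, by omega⟩
      · exact e4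
      · exact e3
  · intro h43
    have hs : ¬ IsSquare (-1 : F) := by
      rw [hsq]
      omega
    ext n
    simp only [Set.mem_range, Set.mem_insert_iff, Set.mem_singleton_iff]
    constructor
    · rintro ⟨x, rfl⟩
      obtain ⟨g, rfl⟩ := QuotientGroup.mk_surjective x
      rcases hcases g with h | h | h | h | ⟨h', -⟩ | ⟨-, h⟩
      · left; exact h
      · right; left; omega
      · right; right; right; left; exact h
      · right; right; right; right; exact h
      · exact absurd h' hs
      · right; right; left; omega
    · rintro (rfl | rfl | rfl | rfl | rfl)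
      · exact e1
      · obtain ⟨x, hx⟩ := e2
        exact ⟨x, by omega⟩
      · obtain ⟨x, hx⟩ := e6 hs
        exact ⟨x, by omega⟩
      · exact e3
      · exact e4

end Cfsg.Agent.S2508
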