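import Cfsg.Statements.S2510
import Mathlib
import Cfsg.Agent.Lib.Helper4.PSLSpecE

set_option autoImplicit false
open Cfsg

namespace Cfsg.Agent.S2510


/-- Let F be a finite field with q = p^a elements, n ≥ 2 (with q ≥ 4 when n = 2), L = PSL(n, F), and let r be a prime dividing q − 1 and not dividing n. Then for every m the direct product L × L × L × (ℤ/r)^m has the same set of element orders as L × L × L; and if n − 1 ≠ p^j for every j ≥ 0 (so never when n = 2, since 1 = p^0), then already L × L × (ℤ/r)^m has the same set of element orders as L × L. -/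
theorem result {F : Type*} [Field F] [Fintype F] (p a n r m : ℕ) (hp : p.Prime) (ha : 1 ≤ a) (hF : Fintype.card F = p ^ a)
    (hn : 2 ≤ n) (hn2 : n = 2 → 4 ≤ Fintype.card F) (hr : r.Prime) (hrq : r ∣ Fintype.card F - 1) (hrn : ¬ r ∣ n) :
    Set.range (orderOf : Matrix.ProjectiveSpecialLinearGroup (Fin n) F × Matrix.ProjectiveSpecialLinearGroup (Fin n) F × Matrix.ProjectiveSpecialLinearGroup (Fin n) F × Multiplicative (Fin m → ZMod r) → ℕ) =
      Set.range (orderOf : Matrix.ProjectiveSpecialLinearGroup (Fin n) F × Matrix.ProjectiveSpecialLinearGroup (Fin n) F × Matrix.ProjectiveSpecialLinearGroup (Fin n) F → ℕ) ∧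
    ((¬ ∃ j : ℕ, n - 1 = p ^ j) →
      Set.range (orderOf : Matrix.ProjectiveSpecialLinearGroup (Fin n) F × Matrix.ProjectiveSpecialLinearGroup (Fin n) F × Multiplicative (Fin m → ZMod r) → ℕ) =
        Set.range (orderOf : Matrix.ProjectiveSpecialLinearGroup (Fin n) F × Matrix.ProjectiveSpecialLinearGroup (Fin n) F → ℕ)) := by
  classical
  haveI : Fact p.Prime := ⟨hp⟩
  haveI : Fact r.Prime := ⟨hr⟩
  haveI : NeZero n := ⟨by omega⟩
  haveI : CharP F p := by
    obtain ⟨q, hq⟩ := CharP.exists F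
    haveI := hq
    obtain ⟨k, hqp, hk⟩ := FiniteField.card F q
    have h1 : p ∣ q ^ (k : ℕ) := by
      rw [← hk, hF]; exact dvd_pow_self p (by omega)
    have h2 : p = q := (Nat.prime_dvd_prime_iff_eq hp hqp).1 (hp.dvd_of_dvd_pow h1)
    rw [h2]; exact hq
  have hcardU : Fintype.card Fˣ = Fintype.card F - 1 := Fintype.card_units F
  obtain ⟨ζ', hζ'⟩ := exists_prime_orderOf_dvd_card r (hcardU ▸ hrq)
  have hζ : orderOf ((ζ' : Fˣ) : F) = r := by rw [orderOf_units]; exact hζ'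
  have hrp : r ≠ p := by
    rintro rfl
    have h1 : r ∣ r ^ a := dvd_pow_self r (by omega)
    rw [hF] at hrq
    have h2 : r ∣ r ^ a - (r ^ a - 1) := Nat.dvd_sub h1 hrq
    have h3 : r ^ a - (r ^ a - 1) = 1 := by
      have : 1 ≤ r ^ a := Nat.one_le_pow _ _ hr.pos
      omega
    rw [h3] at h2
    exact hr.one_lt.ne' (Nat.dvd_one.1 h2)
  have hv : ∀ v : Multiplicative (Fin m → ZMod r), orderOf v = 1 ∨ orderOf v = r := by
    intro v
    have h1 : v ^ r = 1 := by
      apply Multiplicative.toAdd.injective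
      rw [toAdd_pow, toAdd_one]
      funext i
      simp
    exact (Nat.dvd_prime hr).1 (orderOf_dvd_of_pow_eq_one h1)
  constructor
  · apply Set.eq_of_subset_of_subset
    · rintro _ ⟨⟨g₁, g₂, g₃, v⟩, rfl⟩
      show orderOf (g₁, g₂, g₃, v) ∈ _
      rw [Prod.orderOf_mk, Prod.orderOf_mk, Prod.orderOf_mk]
      rcases hv v with h | h
      · refine ⟨(g₁, g₂, g₃), ?_⟩
        rw [Prod.orderOf_mk, Prod.orderOf_mk, h, Nat.lcm_one_right]
      · obtain ⟨h₁, h₂, h₃, hh⟩ := Cfsg.Agent.H4PSLSpec.core3 p hn hr hrn hζ g₁ g₂ g₃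
        refine ⟨(h₁, h₂, h₃), ?_⟩
        rw [Prod.orderOf_mk, Prod.orderOf_mk, hh, h]
        ac_rfl
    · rintro _ ⟨⟨g₁, g₂, g₃⟩, rfl⟩
      refine ⟨(g₁, g₂, g₃, 1), ?_⟩
      rw [Prod.orderOf_mk, Prod.orderOf_mk, Prod.orderOf_mk, Prod.orderOf_mk, Prod.orderOf_mk,
        orderOf_one, Nat.lcm_one_right]
  · intro hnp
    apply Set.eq_of_subset_of_subset
    · rintro _ ⟨⟨g₁, g₂, v⟩, rfl⟩
      show orderOf (g₁, g₂, v) ∈ _
      rw [Prod.orderOf_mk, Prod.orderOf_mk]
      rcases hv v with h | h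
      · refine ⟨(g₁, g₂), ?_⟩
        rw [Prod.orderOf_mk, h, Nat.lcm_one_right]
      · obtain ⟨h₁, h₂, hh⟩ := Cfsg.Agent.H4PSLSpec.core2 p hn hr hrn hrp hζ hnp g₁ g₂
        refine ⟨(h₁, h₂), ?_⟩
        rw [Prod.orderOf_mk, hh, h]
        ac_rfl
    · rintro _ ⟨⟨g₁, g₂⟩, rfl⟩
      refine ⟨(g₁, g₂, 1), ?_⟩
      rw [Prod.orderOf_mk, Prod.orderOf_mk, Prod.orderOf_mk, orderOf_one, Nat.lcm_one_right]

end Cfsg.Agent.S2510
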