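import Cfsg.Statements.S2511
import Mathlib
import Cfsg.Agent.Lib.Helper4.PSUSpecK

set_option autoImplicit false
open Cfsg

namespace Cfsg.Agent.S2511


/-- Let F be a finite field with q² elements, q = p^a, n ≥ 3 with (n, q) ≠ (3, 2), L = PSU(n, q) realised over F, and let r be a prime dividing q + 1 and not dividing n. Then for every m the direct product L × L × L × (ℤ/r)^m has the same set of element orders as L × L × L; and if n − 1 is not a power of p, then already L × L × (ℤ/r)^m has the same set of element orders as L × L. -/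
theorem result {F : Type*} [Field F] [Fintype F] (p a n q r m : ℕ) (hp : p.Prime) (ha : 1 ≤ a) (hq : q = p ^ a) (hF : Fintype.card F = q ^ 2)
    (hn : 3 ≤ n) (hn3 : ¬ (n = 3 ∧ q = 2)) (hr : r.Prime) (hrq : r ∣ q + 1) (hrn : ¬ r ∣ n) :
    Set.range (orderOf : Cfsg.PSU n F q × Cfsg.PSU n F q × Cfsg.PSU n F q × Multiplicative (Fin m → ZMod r) → ℕ) = Set.range (orderOf : Cfsg.PSU n F q × Cfsg.PSU n F q × Cfsg.PSU n F q → ℕ) ∧
    ((¬ ∃ j : ℕ, n - 1 = p ^ j) →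
      Set.range (orderOf : Cfsg.PSU n F q × Cfsg.PSU n F q × Multiplicative (Fin m → ZMod r) → ℕ) = Set.range (orderOf : Cfsg.PSU n F q × Cfsg.PSU n F q → ℕ)) := by
  classical
  subst hq
  haveI : Fact p.Prime := ⟨hp⟩
  haveI : Fact r.Prime := ⟨hr⟩
  haveI : NeZero n := ⟨by omega⟩
  have hn2 : 2 ≤ n := by omega
  haveI : CharP F p := by
    obtain ⟨q, hq⟩ := CharP.exists F
    haveI := hq
    obtain ⟨k, hqp, hk⟩ := FiniteField.card F q
    have h1 : p ∣ q ^ (k : ℕ) := by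
      rw [← hk, hF, ← pow_mul]; exact dvd_pow_self p (by omega)
    have h2 : p = q := (Nat.prime_dvd_prime_iff_eq hp hqp).1 (hp.dvd_of_dvd_pow h1)
    rw [h2]; exact hq
  have hq1 : 1 ≤ p ^ a := Nat.one_le_pow _ _ hp.pos
  have hcardU : Fintype.card Fˣ = (p ^ a - 1) * (p ^ a + 1) := by
    rw [Fintype.card_units, hF]
    have : 1 ≤ (p ^ a) ^ 2 := Nat.one_le_pow _ _ (by omega)
    zify [this, hq1]
    ring
  obtain ⟨ζ', hζ'⟩ := exists_prime_orderOf_dvd_card r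
    (hcardU ▸ (hrq.trans (Dvd.intro_left _ rfl)))
  have hζ : orderOf ((ζ' : Fˣ) : F) = r := by rw [orderOf_units]; exact hζ'
  have hζσ : ((ζ' : Fˣ) : F) * Cfsg.Agent.H4PSUSpec.sig p a ((ζ' : Fˣ) : F) = 1 := by
    rw [Cfsg.Agent.H4PSUSpec.sig_apply, ← pow_succ']
    obtain ⟨k, hk⟩ := hrq
    rw [hk, pow_mul, ← hζ, pow_orderOf_eq_one, one_pow]
  have hrp : r ≠ p := by
    rintro rfl
    have h1 : r ∣ r ^ a := dvd_pow_self r (by omega)
    have h2 : r ∣ 1 := (Nat.dvd_add_right h1).1 hrq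
    exact hr.one_lt.ne' (Nat.dvd_one.1 h2)
  have hF' : Fintype.card F = (p ^ a) ^ 2 := hF
  have hv : ∀ v : Multiplicative (Fin m → ZMod r), orderOf v = 1 ∨ orderOf v = r := by
    intro v
    have h1 : v ^ r = 1 := by
      apply Multiplicative.toAdd.injective
      rw [toAdd_pow, toAdd_one]
      funext i
      simp
    exact (Nat.dvd_prime hr).1 (orderOf_dvd_of_pow_eq_one h1)
  constructor
  · apply Set.eq_of_subset_of_subset
    · rintro _ ⟨⟨g₁, g₂, g₃, v⟩, rfl⟩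
      show orderOf (g₁, g₂, g₃, v) ∈ _
      rw [Prod.orderOf_mk, Prod.orderOf_mk, Prod.orderOf_mk]
      rcases hv v with h | h
      · refine ⟨(g₁, g₂, g₃), ?_⟩
        rw [Prod.orderOf_mk, Prod.orderOf_mk, h, Nat.lcm_one_right]
      · obtain ⟨h₁, h₂, h₃, hh⟩ :=
          Cfsg.Agent.H4PSUSpec.core3U p a hF' hn2 hr hrn hζ hζσ g₁ g₂ g₃
        refine ⟨(h₁, h₂, h₃), ?_⟩
        rw [Prod.orderOf_mk, Prod.orderOf_mk, hh, h]
        ac_rfl
    · rintro _ ⟨⟨g₁, g₂, g₃⟩, rfl⟩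
      refine ⟨(g₁, g₂, g₃, 1), ?_⟩
      rw [Prod.orderOf_mk, Prod.orderOf_mk, Prod.orderOf_mk, Prod.orderOf_mk, Prod.orderOf_mk,
        orderOf_one, Nat.lcm_one_right]
  · intro hnp
    apply Set.eq_of_subset_of_subset
    · rintro _ ⟨⟨g₁, g₂, v⟩, rfl⟩
      show orderOf (g₁, g₂, v) ∈ _
      rw [Prod.orderOf_mk, Prod.orderOf_mk]
      rcases hv v with h | h
      · refine ⟨(g₁, g₂), ?_⟩
        rw [Prod.orderOf_mk, h, Nat.lcm_one_right]
      · obtain ⟨h₁, h₂, hh⟩ :=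
          Cfsg.Agent.H4PSUSpec.core2U p a hF' hn2 hr hrn hrp hζ hζσ hnp g₁ g₂
        refine ⟨(h₁, h₂), ?_⟩
        rw [Prod.orderOf_mk, hh, h]
        ac_rfl
    · rintro _ ⟨⟨g₁, g₂⟩, rfl⟩
      refine ⟨(g₁, g₂, 1), ?_⟩
      rw [Prod.orderOf_mk, Prod.orderOf_mk, Prod.orderOf_mk, orderOf_one, Nat.lcm_one_right]

end Cfsg.Agent.S2511
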