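import Cfsg.Statements.S2512
import Mathlib
import Cfsg.Agent.Lib.Helper4.PSpSpecN

set_option autoImplicit false
open Cfsg

namespace Cfsg.Agent.S2512


/-- Let F be a finite field of odd order q = p^a, n ≥ 2 (with q ≥ 3 automatic), and L = PSp(2n, F). Then for every m the direct product L × L × L × (ℤ/2)^m has the same set of element orders as L × L × L; and if 2n − 1 is not a power of p, then already L × L × (ℤ/2)^m has the same set of element orders as L × L. -/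
theorem result {F : Type*} [Field F] [Fintype F] (p a n m : ℕ) (hp : p.Prime) (ha : 1 ≤ a) (hF : Fintype.card F = p ^ a) (hodd : Odd (Fintype.card F))
    (hn : 2 ≤ n) :
    Set.range (orderOf : Cfsg.PSp n F × Cfsg.PSp n F × Cfsg.PSp n F × Multiplicative (Fin m → ZMod 2) → ℕ) = Set.range (orderOf : Cfsg.PSp n F × Cfsg.PSp n F × Cfsg.PSp n F → ℕ) ∧
    ((¬ ∃ j : ℕ, 2 * n - 1 = p ^ j) →
      Set.range (orderOf : Cfsg.PSp n F × Cfsg.PSp n F × Multiplicative (Fin m → ZMod 2) → ℕ) = Set.range (orderOf : Cfsg.PSp n F × Cfsg.PSp n F → ℕ)) := by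
  classical
  haveI : Fact p.Prime := ⟨hp⟩
  haveI : CharP F p := by
    obtain ⟨q, hq⟩ := CharP.exists F
    haveI := hq
    obtain ⟨k, hqp, hk⟩ := FiniteField.card F q
    have h1 : p ∣ q ^ (k : ℕ) := by
      rw [← hk, hF]; exact dvd_pow_self p (by omega)
    have h2 : p = q := (Nat.prime_dvd_prime_iff_eq hp hqp).1 (hp.dvd_of_dvd_pow h1)
    rw [h2]; exact hq
  have h2 : (2 : F) ≠ 0 := by
    intro h
    have h3 : ((2 : ℕ) : F) = 0 := by exact_mod_cast h
    rw [CharP.cast_eq_zero_iff F p] at h3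
    have h4 : p = 2 := ((Nat.prime_dvd_prime_iff_eq hp Nat.prime_two).1 h3)
    rw [hF, h4] at hodd
    have : Even (2 ^ a) := (Nat.even_pow.2 ⟨even_two, by omega⟩)
    exact (Nat.not_even_iff_odd.2 hodd) this
  have hv : ∀ v : Multiplicative (Fin m → ZMod 2), orderOf v = 1 ∨ orderOf v = 2 := by
    intro v
    have h1 : v ^ 2 = 1 := by
      apply Multiplicative.toAdd.injective
      rw [toAdd_pow, toAdd_one]
      funext i
      simp only [Pi.smul_apply, Pi.zero_apply, nsmul_eq_mul, Nat.cast_ofNat]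
      have : (2 : ZMod 2) = 0 := by decide
      rw [this, zero_mul]
    exact (Nat.dvd_prime Nat.prime_two).1 (orderOf_dvd_of_pow_eq_one h1)
  constructor
  · apply Set.eq_of_subset_of_subset
    · rintro _ ⟨⟨g₁, g₂, g₃, v⟩, rfl⟩
      show orderOf (g₁, g₂, g₃, v) ∈ _
      rw [Prod.orderOf_mk, Prod.orderOf_mk, Prod.orderOf_mk]
      rcases hv v with h | h
      · refine ⟨(g₁, g₂, g₃), ?_⟩
        rw [Prod.orderOf_mk, Prod.orderOf_mk, h, Nat.lcm_one_right]
      · obtain ⟨h₁, h₂, h₃, hh⟩ := Cfsg.Agent.H4PSpSpec.core3' p h2 hodd hn g₁ g₂ g₃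
        refine ⟨(h₁, h₂, h₃), ?_⟩
        rw [Prod.orderOf_mk, Prod.orderOf_mk, hh, h]
        ac_rfl
    · rintro _ ⟨⟨g₁, g₂, g₃⟩, rfl⟩
      refine ⟨(g₁, g₂, g₃, 1), ?_⟩
      rw [Prod.orderOf_mk, Prod.orderOf_mk, Prod.orderOf_mk, Prod.orderOf_mk, Prod.orderOf_mk,
        orderOf_one, Nat.lcm_one_right]
  · intro hnp
    apply Set.eq_of_subset_of_subset
    · rintro _ ⟨⟨g₁, g₂, v⟩, rfl⟩
      show orderOf (g₁, g₂, v) ∈ _
      rw [Prod.orderOf_mk, Prod.orderOf_mk]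
      rcases hv v with h | h
      · refine ⟨(g₁, g₂), ?_⟩
        rw [Prod.orderOf_mk, h, Nat.lcm_one_right]
      · obtain ⟨h₁, h₂, hh⟩ := Cfsg.Agent.H4PSpSpec.core2' p h2 hodd hn hnp g₁ g₂
        refine ⟨(h₁, h₂), ?_⟩
        rw [Prod.orderOf_mk, hh, h]
        ac_rfl
    · rintro _ ⟨⟨g₁, g₂⟩, rfl⟩
      refine ⟨(g₁, g₂, 1), ?_⟩
      rw [Prod.orderOf_mk, Prod.orderOf_mk, Prod.orderOf_mk, orderOf_one, Nat.lcm_one_right]

end Cfsg.Agent.S2512
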