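import Cfsg.Statements.S2514
-- import your own Cfsg.Agent.* helpers here
import Mathlib

set_option autoImplicit false
open Cfsg

namespace Cfsg.Agent.S2514

section aux
variable {X : Type*} [Group X] [Finite X]

theorem exists_orderOf_eq_of_dvd (x : X) {d : ℕ} (hd : d ∣ orderOf x) : ∃ y : X, orderOf y = d :=
  ⟨x ^ (orderOf x / d), orderOf_pow_orderOf_div (orderOf_pos x).ne' hd⟩

/-- Every element order divides an element order that is maximal under divisibility. -/
theorem exists_maximal_order (x : X) :
    ∃ M, (M ∈ Set.range (orderOf : X → ℕ) ∧ ∀ m ∈ Set.range (orderOf : X → ℕ), M ∣ m → m = M) ∧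
      orderOf x ∣ M := by
  classical
  let P : ℕ → Prop := fun m => m ∈ Set.range (orderOf : X → ℕ) ∧ orderOf x ∣ m
  have hP : P (orderOf x) := ⟨⟨x, rfl⟩, dvd_rfl⟩
  have hle : ∀ m, P m → m ≤ Nat.card X := by
    rintro m ⟨⟨y, rfl⟩, -⟩
    exact Nat.le_of_dvd Nat.card_pos (orderOf_dvd_natCard y)
  have hM : P (Nat.findGreatest P (Nat.card X)) := Nat.findGreatest_spec (hle _ hP) hP
  refine ⟨Nat.findGreatest P (Nat.card X), ⟨hM.1, ?_⟩, hM.2⟩
  rintro m hm hMm
  have hPm : P m := ⟨hm, hM.2.trans hMm⟩
  have h1 : m ≤ Nat.findGreatest P (Nat.card X) := Nat.le_findGreatest (hle m hPm) hPm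
  have hmpos : 0 < m := by
    obtain ⟨y, rfl⟩ := hm
    exact orderOf_pos y
  have h2 : Nat.findGreatest P (Nat.card X) ≤ m := Nat.le_of_dvd hmpos hMm
  omega

end aux

/-- For a finite group X write μ(X) for the set of element orders of X that are maximal under divisibility. Let G and H be finite groups and k ≥ 1 such that μ(H) ⊆ μ(G) and μ(G) has fewer than k elements outside μ(H). Then the direct product of k copies of G has the same set of element orders as the direct product of k − 1 copies of G with H. -/
theorem result {G H : Type*} [Group G] [Finite G] [Group H] [Finite H] (k : ℕ) (hk : 1 ≤ k)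
    (hsub : {n : ℕ | n ∈ Set.range (orderOf : H → ℕ) ∧ ∀ m ∈ Set.range (orderOf : H → ℕ), n ∣ m → m = n} ⊆ {n : ℕ | n ∈ Set.range (orderOf : G → ℕ) ∧ ∀ m ∈ Set.range (orderOf : G → ℕ), n ∣ m → m = n})
    (hfew : ({n : ℕ | n ∈ Set.range (orderOf : G → ℕ) ∧ ∀ m ∈ Set.range (orderOf : G → ℕ), n ∣ m → m = n} \ {n : ℕ | n ∈ Set.range (orderOf : H → ℕ) ∧ ∀ m ∈ Set.range (orderOf : H → ℕ), n ∣ m → m = n}).ncard < k) :
    Set.range (orderOf : (Fin k → G) → ℕ) = Set.range (orderOf : (Fin (k - 1) → G) × H → ℕ) := by
  classical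
  obtain ⟨k', rfl⟩ : ∃ k', k = k' + 1 := ⟨k - 1, by omega⟩
  change Set.range (orderOf : (Fin (k' + 1) → G) → ℕ) = Set.range (orderOf : (Fin k' → G) × H → ℕ)
  -- every element order of `H` is an element order of `G`
  have hHG : ∀ h : H, ∃ g : G, orderOf g = orderOf h := by
    intro h
    obtain ⟨M, hM, hdvd⟩ := exists_maximal_order h
    obtain ⟨⟨g, hg⟩, -⟩ := hsub hM
    exact exists_orderOf_eq_of_dvd g (hg ▸ hdvd)
  -- moving one coordinate of a tuple into the `H`-slot
  have move : ∀ (f : Fin (k' + 1) → G) (j : Fin (k' + 1)) (h : H), orderOf h = orderOf (f j) →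
      orderOf ((fun i => f (j.succAbove i), h) : (Fin k' → G) × H) = orderOf f := by
    intro f j h hh
    rw [orderOf_eq_orderOf_iff]
    intro n
    constructor
    · intro h0
      have h1 : (fun i => f (j.succAbove i)) ^ n = 1 := congrArg Prod.fst h0
      have h2 : h ^ n = 1 := congrArg Prod.snd h0
      funext l
      rcases eq_or_ne l j with rfl | hl
      · rw [Pi.pow_apply, Pi.one_apply, ← orderOf_dvd_iff_pow_eq_one, ← hh,
          orderOf_dvd_iff_pow_eq_one]
        exact h2
      · obtain ⟨i, rfl⟩ := Fin.exists_succAbove_eq hl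
        exact congrFun h1 i
    · intro h1
      have h3 : (f j) ^ n = 1 := congrFun h1 j
      have h4 : h ^ n = 1 := by
        rw [← orderOf_dvd_iff_pow_eq_one, hh, orderOf_dvd_iff_pow_eq_one]
        exact h3
      have h5 : (fun i => f (j.succAbove i)) ^ n = 1 := by
        funext i
        exact congrFun h1 (j.succAbove i)
      exact Prod.ext h5 h4
  apply Set.eq_of_subset_of_subset
  · rintro _ ⟨f, rfl⟩
    choose M hM hdvd using fun i => exists_maximal_order (f i)
    by_cases hB : ∃ j, M j ∈ {n : ℕ | n ∈ Set.range (orderOf : H → ℕ) ∧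
        ∀ m ∈ Set.range (orderOf : H → ℕ), n ∣ m → m = n}
    · obtain ⟨j, hj⟩ := hB
      obtain ⟨y, hy⟩ := hj.1
      obtain ⟨h, hh⟩ := exists_orderOf_eq_of_dvd y (hy ▸ hdvd j)
      exact ⟨(fun i => f (j.succAbove i), h), move f j h hh⟩
    · push_neg at hB
      have hall : ∀ i, M i ∈ ({n : ℕ | n ∈ Set.range (orderOf : G → ℕ) ∧
          ∀ m ∈ Set.range (orderOf : G → ℕ), n ∣ m → m = n} \
          {n : ℕ | n ∈ Set.range (orderOf : H → ℕ) ∧
          ∀ m ∈ Set.range (orderOf : H → ℕ), n ∣ m → m = n}) := fun i => ⟨hM i, hB i⟩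
      have hfin : ({n : ℕ | n ∈ Set.range (orderOf : G → ℕ) ∧
          ∀ m ∈ Set.range (orderOf : G → ℕ), n ∣ m → m = n} \
          {n : ℕ | n ∈ Set.range (orderOf : H → ℕ) ∧
          ∀ m ∈ Set.range (orderOf : H → ℕ), n ∣ m → m = n}).Finite := by
        apply Set.Finite.subset (Set.finite_Iic (Nat.card G))
        rintro n ⟨⟨⟨y, rfl⟩, -⟩, -⟩
        exact Nat.le_of_dvd Nat.card_pos (orderOf_dvd_natCard y)
      rw [Set.ncard_eq_toFinset_card _ hfin] at hfew
      obtain ⟨i, -, j, -, hij, hMij⟩ := Finset.exists_ne_map_eq_of_card_lt_of_maps_to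
        (s := Finset.univ) (t := hfin.toFinset) (f := M)
        (by simpa using hfew) (fun a _ => by simpa using hall a)
      -- merge coordinates `i` and `j`
      have hL : Nat.lcm (orderOf (f i)) (orderOf (f j)) ∣ M i :=
        Nat.lcm_dvd (hdvd i) (hMij ▸ hdvd j)
      obtain ⟨y, hy⟩ := (hM i).1
      obtain ⟨g, hg⟩ := exists_orderOf_eq_of_dvd y (hy ▸ hL)
      have hf' : orderOf (Function.update (Function.update f i g) j 1) = orderOf f := by
        rw [orderOf_eq_orderOf_iff]
        intro n
        constructor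
        · intro h1
          have hgi : g ^ n = 1 := by
            have := congrFun h1 i
            simpa [Function.update_of_ne hij, Function.update_self] using this
          have hLn : Nat.lcm (orderOf (f i)) (orderOf (f j)) ∣ n := by
            rw [← hg, orderOf_dvd_iff_pow_eq_one]
            exact hgi
          funext l
          rcases eq_or_ne l i with rfl | hli
          · rw [Pi.pow_apply, Pi.one_apply, ← orderOf_dvd_iff_pow_eq_one]
            exact (Nat.dvd_lcm_left _ _).trans hLn
          · rcases eq_or_ne l j with rfl | hlj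
            · rw [Pi.pow_apply, Pi.one_apply, ← orderOf_dvd_iff_pow_eq_one]
              exact (Nat.dvd_lcm_right _ _).trans hLn
            · have := congrFun h1 l
              simpa [Function.update_of_ne hlj, Function.update_of_ne hli] using this
        · intro h1
          funext l
          rcases eq_or_ne l j with rfl | hlj
          · simp
          · rcases eq_or_ne l i with rfl | hli
            · have hi : orderOf (f l) ∣ n := by
                rw [orderOf_dvd_iff_pow_eq_one]; exact congrFun h1 l
              have hj : orderOf (f j) ∣ n := by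
                rw [orderOf_dvd_iff_pow_eq_one]; exact congrFun h1 j
              have : g ^ n = 1 := by
                rw [← orderOf_dvd_iff_pow_eq_one, hg]
                exact Nat.lcm_dvd hi hj
              simpa [Function.update_of_ne hlj, Function.update_self] using this
            · have := congrFun h1 l
              simpa [Function.update_of_ne hlj, Function.update_of_ne hli] using this
      refine ⟨(fun l => (Function.update (Function.update f i g) j 1) (j.succAbove l), (1 : H)), ?_⟩
      rw [move _ j 1 (by simp), hf']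
  · rintro _ ⟨⟨f, h⟩, rfl⟩
    obtain ⟨g, hg⟩ := hHG h
    refine ⟨Fin.cons g f, ?_⟩
    have := move (Fin.cons g f) 0 h (by simpa using hg.symm)
    simpa using this.symm

end Cfsg.Agent.S2514
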