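import Cfsg.Statements.S2515
import Mathlib
import Cfsg.Agent.Lib.Helper4.ReeOrd

set_option autoImplicit false
open Cfsg

namespace Cfsg.Agent.S2515


/-- Let q = 3^α with α ≥ 3 odd. There is a finite group H having a non-trivial normal 3-subgroup and whose element orders maximal under divisibility are exactly 6, 9, q − 1 and (q + 1)/2. -/
theorem result (α : ℕ) (hα : 3 ≤ α) (hodd : Odd α) :
    ∃ (H : Type) (_ : Group H) (_ : Fintype H), (∃ P : Subgroup H, P.Normal ∧ P ≠ ⊥ ∧ IsPGroup 3 ↥P) ∧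
      {n : ℕ | n ∈ Set.range (orderOf : H → ℕ) ∧ ∀ m ∈ Set.range (orderOf : H → ℕ), n ∣ m → m = n} = ({6, 9, 3 ^ α - 1, (3 ^ α + 1) / 2} : Set ℕ) := by
  classical
  haveI : Fact (Nat.Prime 3) := ⟨Nat.prime_three⟩
  have hα0 : α ≠ 0 := by omega
  let F := GaloisField 3 α
  haveI : Fintype F := Fintype.ofFinite F
  have hcard : Fintype.card F = 3 ^ α := by
    rw [← Nat.card_eq_fintype_card]
    exact GaloisField.card 3 α hα0
  have hq8 : Fintype.card F % 8 = 3 := by
    rw [hcard]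
    obtain ⟨k, rfl⟩ := hodd
    have : ∀ j : ℕ, 3 ^ (2 * j + 1) % 8 = 3 := by
      intro j
      induction j with
      | zero => norm_num
      | succ j ih =>
        have : 3 ^ (2 * (j + 1) + 1) = 9 * 3 ^ (2 * j + 1) := by ring
        rw [this]
        omega
    exact this k
  have h27 : 27 ≤ Fintype.card F := by
    rw [hcard]
    calc 27 = 3 ^ 3 := by norm_num
      _ ≤ 3 ^ α := Nat.pow_le_pow_right (by norm_num) hα
  have h3 : 3 ∣ Fintype.card F := by
    rw [hcard]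
    exact dvd_pow_self 3 hα0
  let H := Cfsg.Agent.H4Ree.SD (Matrix (Fin 2) (Fin 2) F) (Cfsg.Agent.H4Ree.Gam F)
  haveI : Finite H := inferInstanceAs (Finite (Cfsg.Agent.H4Ree.SD (Matrix (Fin 2) (Fin 2) F) (Cfsg.Agent.H4Ree.Gam F)))
  refine ⟨H, inferInstance, Fintype.ofFinite H, ?_, ?_⟩
  · refine ⟨(Cfsg.Agent.H4Ree.SD.snd : H →* Cfsg.Agent.H4Ree.Gam F).ker, inferInstance, ?_, ?_⟩
    · exact Cfsg.Agent.H4Ree.SD.ker_ne_bot
    · exact Cfsg.Agent.H4Ree.SD.isPGroup_ker 3 (Cfsg.Agent.H4Ree.three_smul_M2 (F := F))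
  · have := Cfsg.Agent.H4Ree.max_orders (F := F) hq8 h27 h3
    rw [hcard] at this
    exact this

end Cfsg.Agent.S2515
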