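import Cfsg.Statements.S2516
-- import your own Cfsg.Agent.* helpers here

set_option autoImplicit false
open Cfsg

namespace Cfsg.Agent.S2516

/-- Let F be a field of characteristic p > 0, V a non-zero finite-dimensional F-vector space, G a finite group and ρ a representation of G on V; form the semidirect product V ⋊ G. For g ∈ G of order k, the coset Vg contains an element of order pk if and only if the minimal polynomial of ρ(g) does not divide 1 + X + ⋯ + X^(k−1). -/
theorem result {F : Type*} [Field F] (p : ℕ) [Fact p.Prime] [CharP F p] {V : Type*} [AddCommGroup V] [Module F V] [FiniteDimensional F V] [Nontrivial V]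
    {G : Type*} [Group G] [Finite G] (ρ : Representation F G V) (g : G) :
    (∃ x : Multiplicative V ⋊[(MulAutMultiplicative V).symm.toMonoidHom.comp
        ((DistribMulAction.toAddAut ((V →ₗ[F] V)ˣ) V).comp ρ.asGroupHom)] G,
        x.right = g ∧ orderOf x = p * orderOf g) ↔
      ¬ (minpoly F (ρ g) ∣ ∑ i ∈ Finset.range (orderOf g), (Polynomial.X : Polynomial F) ^ i) := by
  classical
  have hp : p.Prime := Fact.out
  set φ := (MulAutMultiplicative V).symm.toMonoidHom.comp
    ((DistribMulAction.toAddAut ((V →ₗ[F] V)ˣ) V).comp ρ.asGroupHom) with hφ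
  have hact : ∀ (h : G) (v : V), φ h (Multiplicative.ofAdd v) = Multiplicative.ofAdd (ρ h v) :=
    fun h v => rfl
  -- powers in the semidirect product
  have hpow : ∀ (h : G) (v : V) (j : ℕ),
      (⟨Multiplicative.ofAdd v, h⟩ : Multiplicative V ⋊[φ] G) ^ j =
        ⟨Multiplicative.ofAdd (∑ i ∈ Finset.range j, (ρ h ^ i) v), h ^ j⟩ := by
    intro h v j
    induction j with
    | zero =>
      simp only [pow_zero, Finset.range_zero, Finset.sum_empty, ofAdd_zero]
      rfl
    | succ j ih =>
      rw [pow_succ, ih]
      apply SemidirectProduct.ext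
      · rw [SemidirectProduct.mul_left]
        change Multiplicative.ofAdd (∑ i ∈ Finset.range j, (ρ h ^ i) v) *
          φ (h ^ j) (Multiplicative.ofAdd v) = _
        rw [hact, Finset.sum_range_succ, ofAdd_add, map_pow]
      · rw [SemidirectProduct.mul_right]
        simp only [pow_succ]
  have hk : 0 < orderOf g := orderOf_pos g
  have haeval : Polynomial.aeval (ρ g) (∑ i ∈ Finset.range (orderOf g), (Polynomial.X : Polynomial F) ^ i) =
      ∑ i ∈ Finset.range (orderOf g), (ρ g) ^ i := by
    simp only [map_sum, map_pow, Polynomial.aeval_X]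
  rw [minpoly.dvd_iff, haeval]
  constructor
  · rintro ⟨x, hxg, hord⟩ hN
    have hx : x = ⟨Multiplicative.ofAdd (Multiplicative.toAdd x.left), g⟩ := by
      apply SemidirectProduct.ext
      · simp
      · exact hxg
    have h1 : x ^ orderOf g = 1 := by
      rw [hx, hpow]
      apply SemidirectProduct.ext
      · simp only [SemidirectProduct.one_left]
        have : (∑ i ∈ Finset.range (orderOf g), (ρ g ^ i) (Multiplicative.toAdd x.left)) =
            (∑ i ∈ Finset.range (orderOf g), (ρ g) ^ i) (Multiplicative.toAdd x.left) := by
          rw [LinearMap.sum_apply]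
        rw [this, hN]
        simp
      · simp only [SemidirectProduct.one_right]
        exact pow_orderOf_eq_one g
    have h2 := orderOf_dvd_of_pow_eq_one h1
    rw [hord] at h2
    have h3 := Nat.le_of_dvd hk h2
    have h4 := hp.two_le
    nlinarith
  · intro hN
    obtain ⟨v, hv⟩ : ∃ v : V, (∑ i ∈ Finset.range (orderOf g), (ρ g) ^ i) v ≠ 0 := by
      by_contra hcon
      push Not at hcon
      apply hN
      ext v
      simpa using hcon v
    refine ⟨⟨Multiplicative.ofAdd v, g⟩, rfl, ?_⟩
    set x : Multiplicative V ⋊[φ] G := ⟨Multiplicative.ofAdd v, g⟩ with hx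
    set w : V := (∑ i ∈ Finset.range (orderOf g), (ρ g) ^ i) v with hw
    have hxk : x ^ orderOf g = ⟨Multiplicative.ofAdd w, 1⟩ := by
      rw [hx, hpow, pow_orderOf_eq_one, hw, LinearMap.sum_apply]
    have hy1 : (⟨Multiplicative.ofAdd w, 1⟩ : Multiplicative V ⋊[φ] G) ≠ 1 := by
      intro h
      have := congrArg SemidirectProduct.left h
      simp only [SemidirectProduct.one_left] at this
      exact hv (by simpa using this)
    have hyp : (⟨Multiplicative.ofAdd w, 1⟩ : Multiplicative V ⋊[φ] G) ^ p = 1 := by
      rw [hpow]
      apply SemidirectProduct.ext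
      · simp only [SemidirectProduct.one_left, map_one, one_pow, Module.End.one_apply,
          Finset.sum_const, Finset.card_range]
        rw [← Nat.cast_smul_eq_nsmul F p w, CharP.cast_eq_zero F p, zero_smul]
        rfl
      · simp
    have hordy : orderOf (x ^ orderOf g) = p := by
      rw [hxk]
      exact orderOf_eq_prime hyp hy1
    have hdvd : orderOf g ∣ orderOf x := by
      have h1 : x ^ orderOf x = 1 := pow_orderOf_eq_one x
      rw [hx, hpow] at h1
      have h2 := congrArg SemidirectProduct.right h1
      simp only [SemidirectProduct.one_right] at h2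
      exact orderOf_dvd_of_pow_eq_one h2
    rw [orderOf_pow' x hk.ne', Nat.gcd_eq_right hdvd] at hordy
    rw [← hordy, Nat.div_mul_cancel hdvd]

end Cfsg.Agent.S2516
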