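import Cfsg.Statements.S2518
import Cfsg.Agent.Lib.Helper10.G23Main
import Cfsg.Agent.Lib.Helper10.G23Field
import Cfsg.Agent.Lib.Helper10.PSL213

set_option autoImplicit false
open Cfsg

namespace Cfsg.Agent.S2518

open Cfsg.Agent.Lib.Helper10

/-- the isomorphism with the group over `ZMod 3` -/
noncomputable def toG14 {F : Type*} [Field F] [Fintype F] (hF : Fintype.card F = 3) :
    ↥(Cfsg.Lie.chevG2.group F) ≃* ↥G23.G14 :=
  G23.groupCongr Cfsg.Lie.chevG2 (FiniteField.ringEquivOfCardEq (hF.trans (ZMod.card 3).symm))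

theorem card_g2 {F : Type*} [Field F] [Fintype F] (hF : Fintype.card F = 3) :
    Nat.card ↥(Cfsg.Lie.chevG2.group F) = 4245696 := by
  rw [Nat.card_congr (toG14 hF).toEquiv]
  exact G23.card_G14

theorem prime_cases {r a b : ℕ} (hr : r.Prime) (h : r ∣ 2 ^ a * 3 ^ b * 7 * 13) :
    r = 2 ∨ r = 3 ∨ r = 7 ∨ r = 13 := by
  rcases (Nat.Prime.dvd_mul hr).mp h with h | h
  · rcases (Nat.Prime.dvd_mul hr).mp h with h | h
    · rcases (Nat.Prime.dvd_mul hr).mp h with h | h
      · left
        exact (Nat.prime_dvd_prime_iff_eq hr Nat.prime_two).mp (hr.dvd_of_dvd_pow h)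
      · right; left
        exact (Nat.prime_dvd_prime_iff_eq hr Nat.prime_three).mp (hr.dvd_of_dvd_pow h)
    · right; right; left
      exact (Nat.prime_dvd_prime_iff_eq hr (by norm_num)).mp h
  · right; right; right
    exact (Nat.prime_dvd_prime_iff_eq hr (by norm_num)).mp h

theorem prime_cases_g2 {r : ℕ} (hr : r.Prime) (h : r ∣ 4245696) :
    r = 2 ∨ r = 3 ∨ r = 7 ∨ r = 13 :=
  prime_cases (a := 6) (b := 6) hr (by norm_num; exact h)

theorem prime_dvd_iff (r : ℕ) (hr : r.Prime) : r ∣ 4245696 ↔ r ∣ 1092 := by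
  constructor
  · intro h
    rcases prime_cases_g2 hr h with rfl | rfl | rfl | rfl <;> norm_num
  · intro h
    rcases prime_cases (a := 2) (b := 1) hr (by norm_num; exact h) with rfl | rfl | rfl | rfl <;>
      norm_num

theorem order_iff_g2 {F : Type*} [Field F] [Fintype F] (hF : Fintype.card F = 3) {r s : ℕ}
    (hr : r.Prime) (hs : s.Prime) (hne : r ≠ s) :
    (∃ x : ↥(Cfsg.Lie.chevG2.group F), orderOf x = r * s) ↔
      ((r = 2 ∧ s = 3) ∨ (r = 3 ∧ s = 2)) := by
  constructor
  · rintro ⟨x, hx⟩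
    have hg : orderOf (toG14 hF x) = r * s := by rw [MulEquiv.orderOf_eq]; exact hx
    have hfin : Finite ↥G23.G14 := Nat.finite_of_card_ne_zero (by rw [G23.card_G14]; norm_num)
    have hdvd : r * s ∣ 4245696 := by
      rw [← hg, ← G23.card_G14]
      exact orderOf_dvd_natCard _
    have hR := prime_cases_g2 hr (dvd_trans (dvd_mul_right r s) hdvd)
    have hS := prime_cases_g2 hs (dvd_trans (dvd_mul_left s r) hdvd)
    have h7a : r ≠ 7 := by
      rintro rfl
      exact G23.no7 s hs.one_lt _ hg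
    have h7b : s ≠ 7 := by
      rintro rfl
      rw [mul_comm] at hg
      exact G23.no7 r hr.one_lt _ hg
    have h13a : r ≠ 13 := by
      rintro rfl
      exact G23.no13 s hs.one_lt _ hg
    have h13b : s ≠ 13 := by
      rintro rfl
      rw [mul_comm] at hg
      exact G23.no13 r hr.one_lt _ hg
    rcases hR with rfl | rfl | rfl | rfl
    · rcases hS with rfl | rfl | rfl | rfl
      · exact absurd rfl hne
      · left; exact ⟨rfl, rfl⟩
      · exact absurd rfl h7b
      · exact absurd rfl h13b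
    · rcases hS with rfl | rfl | rfl | rfl
      · right; exact ⟨rfl, rfl⟩
      · exact absurd rfl hne
      · exact absurd rfl h7b
      · exact absurd rfl h13b
    · exact absurd rfl h7a
    · exact absurd rfl h13a
  · intro h
    obtain ⟨g, hg⟩ := G23.exists_order6
    refine ⟨(toG14 hF).symm g, ?_⟩
    rw [MulEquiv.orderOf_eq, hg]
    rcases h with ⟨rfl, rfl⟩ | ⟨rfl, rfl⟩ <;> rfl

/-- Let F₃ be the field with 3 elements and F₁₃ the field with 13 elements. The Chevalley group G₂(F₃) and PSL(2, F₁₃) have the same prime graph: the same prime divisors of their orders, and for distinct primes r, s an element of order rs in one iff in the other. -/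
theorem result {F : Type*} [Field F] [Fintype F] (hF : Fintype.card F = 3) {E : Type*} [Field E] [Fintype E] (hE : Fintype.card E = 13) :
    ((∀ r : ℕ, r.Prime → (r ∣ Nat.card ↥(Cfsg.Lie.chevG2.group F) ↔ r ∣ Nat.card (Matrix.ProjectiveSpecialLinearGroup (Fin 2) E))) ∧
      (∀ r s : ℕ, r.Prime → s.Prime → r ≠ s → ((∃ x : ↥(Cfsg.Lie.chevG2.group F), orderOf x = r * s) ↔ (∃ y : (Matrix.ProjectiveSpecialLinearGroup (Fin 2) E), orderOf y = r * s)))) := by
  refine ⟨fun r hr => ?_, fun r s hr hs hne => ?_⟩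
  · rw [card_g2 hF, Cfsg.Agent.Lib.Helper10.PSL213.card_psl hE]
    exact prime_dvd_iff r hr
  · rw [order_iff_g2 hF hr hs hne, Cfsg.Agent.Lib.Helper10.PSL213.order_iff hE hr hs hne]

end Cfsg.Agent.S2518
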