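import Cfsg.Statements.S2531
-- import your own Cfsg.Agent.* helpers here
import Mathlib
import Cfsg.Agent.Lib.Helper14.Sharp2T

set_option autoImplicit false
open Cfsg

namespace Cfsg.Agent.S2531

open scoped LinearAlgebra.Projectivization
open Cfsg.Agent.Lib.Helper14.Sharp2T

/-- the subspace `{v | v i = 0 ∧ (f v) i = 0}` for a semilinear `f`. -/
def Ws {F : Type*} [Field F] {n : ℕ} (σ : F ≃+* F)
    (f : (Fin n → F) →ₛₗ[(σ : F →+* F)] (Fin n → F)) (i : Fin n) : Submodule F (Fin n → F) where
  carrier := {v | v i = 0 ∧ f v i = 0}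
  add_mem' := by
    intro v w hv hw
    refine ⟨?_, ?_⟩
    · show v i + w i = 0
      rw [hv.1, hw.1, add_zero]
    · show f (v + w) i = 0
      rw [map_add]
      show f v i + f w i = 0
      rw [hv.2, hw.2, add_zero]
  zero_mem' := by
    refine ⟨rfl, ?_⟩
    show f 0 i = 0
    rw [map_zero]; rfl
  smul_mem' := by
    intro c v hv
    refine ⟨?_, ?_⟩
    · show c * v i = 0
      rw [hv.1, mul_zero]
    · show f (c • v) i = 0
      rw [map_smulₛₗ]
      show (σ : F →+* F) c * f v i = 0
      rw [hv.2, mul_zero]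

theorem Ws_ne_bot {F : Type*} [Field F] [Finite F] {n : ℕ} (hn : 3 ≤ n) (σ : F ≃+* F)
    (f : (Fin n → F) →ₛₗ[(σ : F →+* F)] (Fin n → F)) (i : Fin n) : Ws σ f i ≠ ⊥ := by
  intro hbot
  have hinj : Function.Injective (fun v : Fin n → F => (v i, f v i)) := by
    intro v w hvw
    simp only [Prod.mk.injEq] at hvw
    have hmem : v - w ∈ Ws σ f i := by
      refine ⟨?_, ?_⟩
      · show v i - w i = 0
        rw [hvw.1, sub_self]
      · show f (v - w) i = 0
        rw [map_sub]
        show f v i - f w i = 0
        rw [hvw.2, sub_self]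
    rw [hbot, Submodule.mem_bot] at hmem
    exact sub_eq_zero.mp hmem
  have hle := Nat.card_le_card_of_injective _ hinj
  rw [Nat.card_prod, Nat.card_fun, Nat.card_fin] at hle
  have hq : 1 < Nat.card F := Finite.one_lt_card
  have h3 : Nat.card F ^ 3 ≤ Nat.card F ^ n := Nat.pow_le_pow_right (by omega) hn
  have h4 : Nat.card F * Nat.card F < Nat.card F ^ 3 := by
    have : Nat.card F ^ 3 = Nat.card F * Nat.card F * Nat.card F := by ring
    rw [this]
    nlinarith
  omega

/-- Let `F` be a finite field and `n ≥ 3`. No set of permutations of the points of the projective space of `Fⁿ`, each induced by an invertible semilinear transformation of `Fⁿ` (so a subset of the full projective semilinear group), is sharply 2-transitive on the points: it is impossible that for all pairs of distinct points `(a, b)` and `(c, d)` exactly one member of the set sends `a` to `c` and `b` to `d`. -/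
theorem result {F : Type*} [Field F] [Finite F]
    (n : ℕ) (hn : 3 ≤ n) (S : Set (Equiv.Perm (Projectivization F (Fin n → F))))
    (hS : ∀ s ∈ S, ∃ (σ : F ≃+* F) (f : (Fin n → F) →ₛₗ[(σ : F →+* F)] (Fin n → F)) (hf : Function.Injective f),
      ∀ x, s x = Projectivization.map f hf x) :
    ¬ (∀ a b c d : Projectivization F (Fin n → F), a ≠ b → c ≠ d →
        ∃! s, s ∈ S ∧ s a = c ∧ s b = d) := by
  classical
  intro hsharp
  haveI : Fintype (ℙ F (Fin n → F)) := Fintype.ofFinite _
  have hq : 1 < Nat.card F := Finite.one_lt_card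
  -- basic vectors
  set i0 : Fin n := ⟨0, by omega⟩ with hi0
  set i1 : Fin n := ⟨1, by omega⟩ with hi1
  have hi01 : i1 ≠ i0 := by
    intro h
    have := congrArg Fin.val h
    simp [hi0, hi1] at this
  have he0 : (Pi.single i0 (1 : F) : Fin n → F) ≠ 0 := by
    intro h
    have := congrFun h i0
    simp at this
  have he1 : (Pi.single i1 (1 : F) : Fin n → F) ≠ 0 := by
    intro h
    have := congrFun h i1
    simp at this
  set a : ℙ F (Fin n → F) := Projectivization.mk F _ he0 with ha
  set b0 : ℙ F (Fin n → F) := Projectivization.mk F _ he1 with hb0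
  have hab : b0 ≠ a := by
    intro h
    rw [ha, hb0, Projectivization.mk_eq_mk_iff] at h
    obtain ⟨u, hu⟩ := h
    have := congrFun hu i1
    simp [Units.smul_def, Pi.smul_apply, smul_eq_mul, Pi.single_apply, hi01] at this
  have hcard : ∀ W : Submodule F (Fin n → F), (Finset.univ.filter (fun x : ℙ F (Fin n → F) => x.rep ∈ W)).card
      = Nat.card {x : ℙ F (Fin n → F) // x.rep ∈ W} := by
    intro W
    rw [Nat.card_eq_fintype_card, Fintype.card_subtype]
  -- the hyperplane x_{i0} = 0
  set W0 : Submodule F (Fin n → F) := LinearMap.ker (LinearMap.proj i0 : (Fin n → F) →ₗ[F] F) with hW0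
  have hW0mem : ∀ v : Fin n → F, v ∈ W0 ↔ v i0 = 0 := by
    intro v
    rw [hW0, LinearMap.mem_ker]
    rfl
  have hW0ne : W0 ≠ ⊥ := by
    intro h
    have : (Pi.single i1 (1 : F) : Fin n → F) ∈ W0 := by
      rw [hW0mem]
      simp [Pi.single_apply, hi01.symm]
    rw [h, Submodule.mem_bot] at this
    exact he1 this
  set H : Finset (ℙ F (Fin n → F)) := Finset.univ.filter (fun x => x.rep ∈ W0) with hH
  have haH : a ∉ H := by
    rw [hH, Finset.mem_filter, not_and]
    intro _
    rw [ha, rep_mk_mem_iff, hW0mem]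
    simp
  have hSfin : S.Finite := Set.toFinite S
  set S' : Finset (Equiv.Perm (ℙ F (Fin n → F))) := hSfin.toFinset with hS'
  have hmemS' : ∀ s, s ∈ S' ↔ s ∈ S := fun s => Set.Finite.mem_toFinset hSfin
  have hcardH : H.card ≡ 1 [MOD Nat.card F] := by
    have := card_pts_modEq W0 hW0ne
    rwa [← hcard W0] at this
  have hcardP : Fintype.card (ℙ F (Fin n → F)) ≡ 1 [MOD Nat.card F] := by
    have htop : (⊤ : Submodule F (Fin n → F)) ≠ ⊥ := by
      intro h
      have : (Pi.single i0 (1 : F) : Fin n → F) ∈ (⊤ : Submodule F (Fin n → F)) := Submodule.mem_top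
      rw [h, Submodule.mem_bot] at this
      exact he0 this
    have := card_pts_modEq (⊤ : Submodule F (Fin n → F)) htop
    rw [← hcard ⊤] at this
    have h2 : (Finset.univ.filter (fun x : ℙ F (Fin n → F) => x.rep ∈ (⊤ : Submodule F (Fin n → F)))) = Finset.univ := by
      apply Finset.filter_true_of_mem
      intro x _
      exact Submodule.mem_top
    rwa [h2, Finset.card_univ] at this
  have hkey := key S' a b0 hab H haH
    (by
      intro b d hb hd
      obtain ⟨s, hs, hu⟩ := hsharp a b a d (Ne.symm hb) (Ne.symm hd)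
      refine ⟨s, ⟨(hmemS' s).2 hs.1, hs.2.1, hs.2.2⟩, ?_⟩
      intro t ht
      exact hu t ⟨(hmemS' t).1 ht.1, ht.2.1, ht.2.2⟩)
    (Nat.card F)
    (by
      intro s hs _
      obtain ⟨σ, f, hf, hsf⟩ := hS s ((hmemS' s).1 hs)
      have hne := Ws_ne_bot hn σ f i0
      have h1 := card_pts_modEq (Ws σ f i0) hne
      rw [← hcard (Ws σ f i0)] at h1
      have h2 : H.filter (fun b => s b ∈ H)
          = Finset.univ.filter (fun x : ℙ F (Fin n → F) => x.rep ∈ Ws σ f i0) := by
        ext x
        simp only [hH, Finset.mem_filter, Finset.mem_univ, true_and]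
        have hx : s x = Projectivization.mk F (f x.rep)
            (by
              intro h0
              have : f x.rep = f 0 := by rw [h0, map_zero]
              exact x.rep_nonzero (hf this)) := by
          rw [hsf x]
          conv_lhs => rw [← x.mk_rep]
          rw [Projectivization.map_mk]
        rw [hx, rep_mk_mem_iff, hW0mem, hW0mem]
        rfl
      rw [h2]
      exact h1)
  -- arithmetic contradiction
  have h1 : H.card * H.card ≡ 1 [MOD Nat.card F] := by
    have := Nat.ModEq.mul hcardH hcardH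
    simpa using this
  have h2 : Fintype.card (ℙ F (Fin n → F)) - 1 ≡ 0 [MOD Nat.card F] := by
    have hpos : 1 ≤ Fintype.card (ℙ F (Fin n → F)) := Fintype.card_pos_iff.mpr ⟨a⟩
    have := (Nat.modEq_iff_dvd' hpos).1 hcardP.symm
    exact (Nat.modEq_zero_iff_dvd).2 this
  have h3 : (1 : ℕ) ≡ 0 [MOD Nat.card F] := h1.symm.trans (hkey.trans h2)
  have h4 := (Nat.modEq_zero_iff_dvd).1 h3
  have := Nat.le_of_dvd (by norm_num) h4
  omega

end Cfsg.Agent.S2531
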