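import Cfsg.Statements.S2532
-- import your own Cfsg.Agent.* helpers here
import Mathlib
import Cfsg.Agent.Lib.Helper14.CentralizingHom

set_option autoImplicit false
open Cfsg

namespace Cfsg.Agent.S2532

open Cfsg.Agent.Lib.Helper14 in
theorem sign_comp_eq_one {r : ℕ} {A : Type*} [DecidableEq A] [Fintype A]
    (π : Equiv.Perm (Fin r) →* Equiv.Perm A) (σ : Equiv.Perm (Fin r))
    (hσ : σ ∈ alternatingGroup (Fin r)) : Equiv.Perm.sign (π σ) = 1 := by
  have hker : alternatingGroup (Fin r) ≤ (Equiv.Perm.sign.comp π).ker := by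
    rw [← Equiv.Perm.closure_three_cycles_eq_alternating, Subgroup.closure_le]
    intro c hc
    have hc3 : c ^ 3 = 1 := by
      have := hc.orderOf
      rw [← this]
      exact pow_orderOf_eq_one c
    show c ∈ (Equiv.Perm.sign.comp π).ker
    rw [MonoidHom.mem_ker]
    have h3 : ((Equiv.Perm.sign.comp π) c) ^ 3 = 1 := by
      rw [← map_pow, hc3, map_one]
    rcases Int.units_eq_one_or ((Equiv.Perm.sign.comp π) c) with h | h
    · exact h
    · rw [h] at h3
      exact absurd h3 (by decide)
  have := hker hσ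
  rwa [MonoidHom.mem_ker] at this

/-- There is a function `f` of two natural-number arguments such that, whenever `m ≥ f(n, r)`, every subgroup of order `n` of the alternating group of degree `m` centralizes some subgroup of that alternating group isomorphic to the alternating group of degree `r`. -/
theorem result :
    ∃ f : ℕ → ℕ → ℕ, ∀ (m r : ℕ) (H : Subgroup ↥(alternatingGroup (Fin m))), f (Nat.card H) r ≤ m →
      ∃ K : Subgroup ↥(alternatingGroup (Fin m)), Nonempty (↥K ≃* ↥(alternatingGroup (Fin r))) ∧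
        K ≤ Subgroup.centralizer (H : Set ↥(alternatingGroup (Fin m))) := by
  classical
  refine ⟨fun n r => n * (2 ^ n * r + 1), ?_⟩
  intro m r H hm
  have hm' : Nat.card H * (2 ^ Nat.card H * r + 1) ≤ Nat.card (Fin m) := by
    rw [Nat.card_fin]
    exact hm
  obtain ⟨x, hstab, horb⟩ :=
    Cfsg.Agent.Lib.Helper14.exists_points_same_stabilizer (↥H) (Fin m) r hm'
  set π := Cfsg.Agent.Lib.Helper14.permHom x hstab horb with hπ
  have hπinj : Function.Injective π := Cfsg.Agent.Lib.Helper14.permHom_injective x hstab horb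
  have hπeq : ∀ (σ : Equiv.Perm (Fin r)) (h : ↥H) (y : Fin m), π σ (h • y) = h • π σ y :=
    Cfsg.Agent.Lib.Helper14.permHom_smul x hstab horb
  -- restrict to alternating groups
  let Pi0 : ↥(alternatingGroup (Fin r)) →* ↥(alternatingGroup (Fin m)) :=
    (π.comp (alternatingGroup (Fin r)).subtype).codRestrict (alternatingGroup (Fin m))
      (fun σ => by
        rw [Equiv.Perm.mem_alternatingGroup]
        exact sign_comp_eq_one π σ.1 σ.2)
  have hPi0inj : Function.Injective Pi0 := by
    intro σ τ hστ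
    have h1 : ((Pi0 σ : ↥(alternatingGroup (Fin m))) : Equiv.Perm (Fin m)) = (Pi0 τ : ↥(alternatingGroup (Fin m))) := by
      rw [hστ]
    have h2 : π σ.1 = π τ.1 := h1
    exact Subtype.ext (hπinj h2)
  refine ⟨Pi0.range, ⟨(MonoidHom.ofInjective hPi0inj).symm⟩, ?_⟩
  rintro k ⟨σ, rfl⟩
  rw [Subgroup.mem_centralizer_iff]
  intro h hh
  apply Subtype.ext
  ext y
  have key := hπeq σ.1 ⟨h, hh⟩ y
  show ((h : Equiv.Perm (Fin m)) (π σ.1 y) : ℕ) = (π σ.1 ((h : Equiv.Perm (Fin m)) y) : ℕ)
  rw [show (h : Equiv.Perm (Fin m)) y = (⟨h, hh⟩ : ↥H) • y from rfl, key]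
  rfl

end Cfsg.Agent.S2532
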