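import Cfsg.Statements.S2533
-- import your own Cfsg.Agent.* helpers here

set_option autoImplicit false
open Cfsg

namespace Cfsg.Agent.S2533

open Matrix

/-- the generalized dihedral group `(ZMod p)^3 : 2` -/
@[ext] structure HG (p : ℕ) where
  a : Fin 3 → ZMod p
  e : ℤˣ

section grp

variable {p : ℕ}

/-- the sign of a unit of `ℤ` as an element of `ZMod p` -/
def sgn (p : ℕ) (ε : ℤˣ) : ZMod p := ((ε : ℤ) : ZMod p)

theorem sgn_mul (ε δ : ℤˣ) : sgn p (ε * δ) = sgn p ε * sgn p δ := by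
  simp [sgn]

theorem sgn_one : sgn p 1 = 1 := by simp [sgn]

theorem sgn_mul_self (ε : ℤˣ) : sgn p ε * sgn p ε = 1 := by
  rw [← sgn_mul, Int.units_mul_self, sgn_one]

theorem sgn_neg_one : sgn p (-1) = -1 := by simp [sgn]

instance : Mul (HG p) := ⟨fun x y => ⟨x.a + sgn p x.e • y.a, x.e * y.e⟩⟩
instance : One (HG p) := ⟨⟨0, 1⟩⟩
instance : Inv (HG p) := ⟨fun x => ⟨-(sgn p x.e • x.a), x.e⟩⟩

theorem mul_a (x y : HG p) : (x * y).a = x.a + sgn p x.e • y.a := rfl
theorem mul_e (x y : HG p) : (x * y).e = x.e * y.e := rfl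
theorem one_a : (1 : HG p).a = 0 := rfl
theorem one_e : (1 : HG p).e = 1 := rfl
theorem inv_a (x : HG p) : (x⁻¹).a = -(sgn p x.e • x.a) := rfl
theorem inv_e (x : HG p) : (x⁻¹).e = x.e := rfl

instance : Group (HG p) :=
  Group.ofLeftAxioms
    (by
      intro x y z
      apply HG.ext
      · rw [mul_a, mul_a, mul_a, mul_a, mul_e, sgn_mul, smul_add, smul_smul, add_assoc]
      · rw [mul_e, mul_e, mul_e, mul_e, mul_assoc])
    (by
      intro x
      apply HG.ext
      · rw [mul_a, one_a, one_e, sgn_one, one_smul, zero_add]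
      · rw [mul_e, one_e, one_mul])
    (by
      intro x
      apply HG.ext
      · rw [mul_a, inv_a, inv_e, one_a, neg_add_cancel]
      · rw [mul_e, inv_e, one_e, Int.units_mul_self])

/-- the underlying set -/
def equivProd (p : ℕ) : HG p ≃ (Fin 3 → ZMod p) × ℤˣ where
  toFun x := (x.a, x.e)
  invFun y := ⟨y.1, y.2⟩
  left_inv _ := rfl
  right_inv _ := rfl

theorem card_HG (p : ℕ) [Fact p.Prime] : Nat.card (HG p) = 2 * p ^ 3 := by
  rw [Nat.card_congr (equivProd p), Nat.card_prod, Nat.card_eq_fintype_card,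
    Nat.card_eq_fintype_card, Fintype.card_units_int, Fintype.card_fun, ZMod.card, Fintype.card_fin,
    mul_comm]

instance (p : ℕ) [Fact p.Prime] : Finite (HG p) :=
  Finite.of_equiv _ (equivProd p).symm

end grp


section mats

variable {R : Type*} [CommRing R] {m : ℕ}

/-- the first Kronecker map -/
def Xm (R : Type*) [CommRing R] (m : ℕ) : Matrix (Fin (m + 1)) (Fin m) R :=
  Matrix.of fun i j => if i = Fin.castSucc j then 1 else 0

/-- the second Kronecker map -/
def Ym (R : Type*) [CommRing R] (m : ℕ) : Matrix (Fin (m + 1)) (Fin m) R :=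
  Matrix.of fun i j => if i = Fin.succ j then 1 else 0

/-- a third map, independent of the first two -/
def Zm (R : Type*) [CommRing R] (m : ℕ) : Matrix (Fin (m + 1)) (Fin m) R :=
  Matrix.of fun i j => if i = Fin.last m ∧ j.val = 0 then 1 else 0

theorem mul_Xm (D : Matrix (Fin (m + 1)) (Fin (m + 1)) R) (i : Fin (m + 1)) (j : Fin m) :
    (D * Xm R m) i j = D i (Fin.castSucc j) := by
  simp [Matrix.mul_apply, Xm]

theorem mul_Ym (D : Matrix (Fin (m + 1)) (Fin (m + 1)) R) (i : Fin (m + 1)) (j : Fin m) :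
    (D * Ym R m) i j = D i (Fin.succ j) := by
  simp [Matrix.mul_apply, Ym]

theorem Xm_mul_castSucc (A : Matrix (Fin m) (Fin m) R) (i j : Fin m) :
    (Xm R m * A) (Fin.castSucc i) j = A i j := by
  simp [Matrix.mul_apply, Xm]

theorem Xm_mul_last (A : Matrix (Fin m) (Fin m) R) (j : Fin m) :
    (Xm R m * A) (Fin.last m) j = 0 := by
  simp [Matrix.mul_apply, Xm, (Fin.castSucc_lt_last _).ne']

theorem Ym_mul_succ (A : Matrix (Fin m) (Fin m) R) (i j : Fin m) :
    (Ym R m * A) (Fin.succ i) j = A i j := by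
  simp [Matrix.mul_apply, Ym]

theorem Ym_mul_zero (A : Matrix (Fin m) (Fin m) R) (j : Fin m) :
    (Ym R m * A) 0 j = 0 := by
  simp [Matrix.mul_apply, Ym, (Fin.succ_ne_zero _).symm]

/-- the Toeplitz argument -/
theorem toeplitz (D : Matrix (Fin (m + 1)) (Fin (m + 1)) R)
    (h1 : ∀ i j : Fin m, D (Fin.castSucc i) (Fin.castSucc j) = D (Fin.succ i) (Fin.succ j))
    (h2 : ∀ j : Fin m, D (Fin.last m) (Fin.castSucc j) = 0)
    (h3 : ∀ j : Fin m, D 0 (Fin.succ j) = 0) :
    ∀ i j : Fin (m + 1), D i j = if i = j then D 0 0 else 0 := by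
  have hlt : ∀ i j : Fin (m + 1), i < j → D i j = 0 := by
    intro i
    induction i using Fin.induction with
    | zero =>
      intro j hj
      obtain ⟨j', rfl⟩ := Fin.eq_succ_of_ne_zero hj.ne'
      exact h3 j'
    | succ i ih =>
      intro j hj
      have hj0 : j ≠ 0 := by
        intro h0
        rw [h0] at hj
        exact absurd hj (Fin.not_lt_zero _)
      obtain ⟨j', rfl⟩ := Fin.eq_succ_of_ne_zero hj0
      rw [← h1]
      apply ih
      rw [Fin.succ_lt_succ_iff] at hj
      exact Fin.castSucc_lt_castSucc_iff.mpr hj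
  have hgt : ∀ i j : Fin (m + 1), j < i → D i j = 0 := by
    intro i
    induction i using Fin.reverseInduction with
    | last =>
      intro j hj
      obtain ⟨j', rfl⟩ := Fin.eq_castSucc_of_ne_last hj.ne
      exact h2 j'
    | cast i ih =>
      intro j hj
      have hjl : j ≠ Fin.last m := by
        intro hl
        rw [hl] at hj
        exact absurd (Fin.castSucc_lt_last i) (not_lt.mpr hj.le)
      obtain ⟨j', rfl⟩ := Fin.eq_castSucc_of_ne_last hjl
      rw [h1]
      apply ih
      rw [Fin.castSucc_lt_castSucc_iff] at hj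
      exact Fin.succ_lt_succ_iff.mpr hj
  have heq : ∀ i : Fin (m + 1), D i i = D 0 0 := by
    intro i
    induction i using Fin.induction with
    | zero => rfl
    | succ i ih => rw [← h1, ih]
  intro i j
  split_ifs with hij
  · rw [hij]; exact heq j
  · rcases lt_or_gt_of_ne hij with h | h
    · exact hlt i j h
    · exact hgt i j h

/-- the Kronecker module is a brick -/
theorem brick (A : Matrix (Fin m) (Fin m) R) (D : Matrix (Fin (m + 1)) (Fin (m + 1)) R)
    (hX : Xm R m * A = D * Xm R m) (hY : Ym R m * A = D * Ym R m) :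
    A = D 0 0 • (1 : Matrix (Fin m) (Fin m) R) ∧
      D = D 0 0 • (1 : Matrix (Fin (m + 1)) (Fin (m + 1)) R) := by
  have E1 : ∀ i j : Fin m, A i j = D (Fin.castSucc i) (Fin.castSucc j) := by
    intro i j
    rw [← mul_Xm D, ← hX, Xm_mul_castSucc]
  have E2 : ∀ j : Fin m, D (Fin.last m) (Fin.castSucc j) = 0 := by
    intro j
    rw [← mul_Xm D, ← hX, Xm_mul_last]
  have E3 : ∀ i j : Fin m, A i j = D (Fin.succ i) (Fin.succ j) := by
    intro i j
    rw [← mul_Ym D, ← hY, Ym_mul_succ]
  have E4 : ∀ j : Fin m, D 0 (Fin.succ j) = 0 := by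
    intro j
    rw [← mul_Ym D, ← hY, Ym_mul_zero]
  have hD := toeplitz D (fun i j => by rw [← E1, E3]) E2 E4
  constructor
  · ext i j
    rw [E1, hD, Matrix.smul_apply, Matrix.one_apply, smul_eq_mul]
    by_cases hij : i = j
    · rw [if_pos hij, if_pos (by rw [hij]), mul_one]
    · rw [if_neg hij, if_neg (fun h => hij (Fin.castSucc_inj.mp h)), mul_zero]
  · ext i j
    rw [hD, Matrix.smul_apply, Matrix.one_apply, smul_eq_mul]
    split_ifs <;> simp

end mats


section rep

variable {p : ℕ} {m : ℕ}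

/-- the lower left block attached to a vector of parameters -/
def Mb (p m : ℕ) (a : Fin 3 → ZMod p) : Matrix (Fin (m + 1)) (Fin m) (ZMod p) :=
  a 0 • Xm (ZMod p) m + a 1 • Ym (ZMod p) m + a 2 • Zm (ZMod p) m

theorem Mb_add (a b : Fin 3 → ZMod p) : Mb p m (a + b) = Mb p m a + Mb p m b := by
  simp only [Mb, Pi.add_apply, add_smul]
  abel

theorem Mb_smul (c : ZMod p) (a : Fin 3 → ZMod p) : Mb p m (c • a) = c • Mb p m a := by
  simp only [Mb, Pi.smul_apply, smul_eq_mul, smul_add, smul_smul]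

theorem Mb_zero : Mb p m 0 = 0 := by
  simp [Mb]

/-- the matrix of an element -/
def Mat (m : ℕ) (x : HG p) : Matrix (Fin m ⊕ Fin (m + 1)) (Fin m ⊕ Fin (m + 1)) (ZMod p) :=
  Matrix.fromBlocks (sgn p x.e • (1 : Matrix (Fin m) (Fin m) (ZMod p))) 0
    (sgn p x.e • Mb p m x.a) 1

theorem Mat_mul (x y : HG p) : Mat m (x * y) = Mat m x * Mat m y := by
  unfold Mat
  rw [Matrix.fromBlocks_multiply, mul_a, mul_e, Mb_add, Mb_smul, sgn_mul]
  congr 1
  · simp [smul_smul, mul_comm]
  · simp
  · simp only [Matrix.mul_smul, Matrix.mul_one, Matrix.one_mul, smul_add, smul_smul]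
    rw [mul_comm (sgn p x.e) (sgn p y.e), mul_assoc, sgn_mul_self, mul_one]
  · simp

theorem det_Mat (hm : Even m) (x : HG p) : (Mat m x).det = 1 := by
  unfold Mat
  rw [Matrix.det_fromBlocks_zero₁₂, Matrix.det_one, mul_one, Matrix.det_smul, Matrix.det_one,
    mul_one, Fintype.card_fin]
  obtain ⟨k, rfl⟩ := hm
  rw [← two_mul, pow_mul, pow_two, sgn_mul_self, one_pow]

/-- the representation -/
noncomputable def rho (p : ℕ) (m : ℕ) (hm : Even m) :
    HG p →* Matrix.SpecialLinearGroup (Fin m ⊕ Fin (m + 1)) (ZMod p) :=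
  MonoidHom.mk' (fun x => ⟨Mat m x, det_Mat hm x⟩) (by
    intro x y
    apply Subtype.ext
    exact Mat_mul x y)

theorem rho_coe (hm : Even m) (x : HG p) :
    ((rho p m hm x : Matrix.SpecialLinearGroup (Fin m ⊕ Fin (m + 1)) (ZMod p)) :
      Matrix (Fin m ⊕ Fin (m + 1)) (Fin m ⊕ Fin (m + 1)) (ZMod p)) = Mat m x := rfl

end rep


section main

variable {p : ℕ} [Fact p.Prime] {m : ℕ}

theorem two_ne_zero_zmod (hp : p ≠ 2) : (2 : ZMod p) ≠ 0 := by
  intro h
  have h2 : ((2 : ℕ) : ZMod p) = 0 := by exact_mod_cast h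
  rw [ZMod.natCast_eq_zero_iff] at h2
  have := (Nat.prime_dvd_prime_iff_eq (Fact.out : p.Prime) Nat.prime_two).mp h2
  exact hp this

theorem sgn_eq_one (hp : p ≠ 2) (ε : ℤˣ) (h : sgn p ε = 1) : ε = 1 := by
  rcases Int.units_eq_one_or ε with h1 | h1
  · exact h1
  · exfalso
    rw [h1, sgn_neg_one] at h
    apply two_ne_zero_zmod hp
    have : (2 : ZMod p) = 1 - (-1) := by ring
    rw [this, h, sub_self]

theorem Mat_eq_one (hp : p ≠ 2) (hm2 : 2 ≤ m) (x : HG p) (h : Mat m x = 1) : x = 1 := by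
  unfold Mat at h
  rw [← Matrix.fromBlocks_one, Matrix.fromBlocks_inj] at h
  obtain ⟨h1, -, h3, -⟩ := h
  have j0 : Fin m := ⟨0, by omega⟩
  have hs : sgn p x.e = 1 := by
    have := congrFun (congrFun h1 j0) j0
    simpa using this
  have he : x.e = 1 := sgn_eq_one hp _ hs
  rw [hs, one_smul] at h3
  have e0 := congrFun (congrFun h3 0) ⟨0, by omega⟩
  have e1 := congrFun (congrFun h3 (Fin.succ ⟨0, by omega⟩)) ⟨0, by omega⟩
  have e2 := congrFun (congrFun h3 (Fin.last m)) ⟨0, by omega⟩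
  simp [Mb, Xm, Ym, Zm, Fin.ext_iff] at e0 e1 e2
  rw [if_neg (by omega), add_zero] at e0 e1
  rw [if_neg (by omega), if_neg (by omega), zero_add, zero_add] at e2
  apply HG.ext
  · rw [one_a]
    funext i
    fin_cases i
    · exact e0
    · exact e1
    · exact e2
  · rw [one_e]; exact he



theorem rho_injective (hp : p ≠ 2) (hm2 : 2 ≤ m) (hm : Even m) :
    Function.Injective (rho p m hm) := by
  rw [injective_iff_map_eq_one]
  intro x hx
  apply Mat_eq_one hp hm2
  rw [← rho_coe hm, hx, Matrix.SpecialLinearGroup.coe_one]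

/-- anything commuting with the image is scalar -/
theorem comm_scalar (hp : p ≠ 2)
    (g : Matrix (Fin m ⊕ Fin (m + 1)) (Fin m ⊕ Fin (m + 1)) (ZMod p))
    (hc : ∀ x : HG p, Mat m x * g = g * Mat m x) :
    ∃ a : ZMod p, g = a • (1 : Matrix (Fin m ⊕ Fin (m + 1)) (Fin m ⊕ Fin (m + 1)) (ZMod p)) := by
  obtain ⟨A, B, C, D, hg⟩ : ∃ A B C D, g = Matrix.fromBlocks A B C D :=
    ⟨_, _, _, _, (Matrix.fromBlocks_toBlocks g).symm⟩
  have h2 := two_ne_zero_zmod hp
  -- the involution
  have ht := hc ⟨0, -1⟩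
  unfold Mat at ht
  rw [hg, Matrix.fromBlocks_multiply, Matrix.fromBlocks_multiply, Matrix.fromBlocks_inj] at ht
  simp only [sgn_neg_one, Mb_zero, smul_zero, Matrix.zero_mul, Matrix.mul_zero, add_zero,
    zero_add, Matrix.one_mul, Matrix.mul_one, Matrix.smul_mul, Matrix.mul_smul] at ht
  obtain ⟨-, hB, hC, -⟩ := ht
  have hB0 : B = 0 := by
    have : (2 : ZMod p) • B = 0 := by
      rw [two_smul]
      nth_rewrite 1 [← hB]
      rw [neg_one_smul, neg_add_cancel]
    exact (smul_eq_zero.mp this).resolve_left h2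
  have hC0 : C = 0 := by
    have : (2 : ZMod p) • C = 0 := by
      rw [two_smul]
      nth_rewrite 1 [hC]
      rw [neg_one_smul, neg_add_cancel]
    exact (smul_eq_zero.mp this).resolve_left h2
  rw [hB0, hC0] at hg
  -- the two Kronecker maps
  have hX : Xm (ZMod p) m * A = D * Xm (ZMod p) m := by
    have hx := hc ⟨Pi.single 0 1, 1⟩
    unfold Mat at hx
    rw [hg, Matrix.fromBlocks_multiply, Matrix.fromBlocks_multiply, Matrix.fromBlocks_inj] at hx
    have hM : Mb p m (Pi.single 0 1) = Xm (ZMod p) m := by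
      simp [Mb]
    simp only [sgn_one, one_smul, hM, Matrix.zero_mul, Matrix.mul_zero, add_zero,
      zero_add, Matrix.one_mul, Matrix.mul_one] at hx
    exact hx.2.2.1
  have hY : Ym (ZMod p) m * A = D * Ym (ZMod p) m := by
    have hx := hc ⟨Pi.single 1 1, 1⟩
    unfold Mat at hx
    rw [hg, Matrix.fromBlocks_multiply, Matrix.fromBlocks_multiply, Matrix.fromBlocks_inj] at hx
    have hM : Mb p m (Pi.single 1 1) = Ym (ZMod p) m := by
      simp [Mb]
    simp only [sgn_one, one_smul, hM, Matrix.zero_mul, Matrix.mul_zero, add_zero,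
      zero_add, Matrix.one_mul, Matrix.mul_one] at hx
    exact hx.2.2.1
  obtain ⟨hA, hD⟩ := brick A D hX hY
  refine ⟨D 0 0, ?_⟩
  rw [hg, ← Matrix.fromBlocks_one, Matrix.fromBlocks_smul, smul_zero, smul_zero, ← hA, ← hD]


/-- reindexing of special linear groups -/
def slReindex {ι κ R : Type*} [Fintype ι] [DecidableEq ι] [Fintype κ] [DecidableEq κ]
    [CommRing R] (e : ι ≃ κ) :
    Matrix.SpecialLinearGroup ι R ≃* Matrix.SpecialLinearGroup κ R where
  toFun g := ⟨Matrix.reindex e e g.1, by rw [Matrix.det_reindex_self]; exact g.2⟩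
  invFun g := ⟨Matrix.reindex e.symm e.symm g.1, by rw [Matrix.det_reindex_self]; exact g.2⟩
  left_inv g := by
    apply Subtype.ext
    simp
  right_inv g := by
    apply Subtype.ext
    simp
  map_mul' g h := by
    apply Subtype.ext
    show Matrix.reindex e e (g.1 * h.1) = Matrix.reindex e e g.1 * Matrix.reindex e e h.1
    simp only [Matrix.reindex_apply]
    rw [Matrix.submatrix_mul_equiv]

theorem pow_eq_one_zmod (r : ZMod p) (k : ℕ) (h : r ^ (2 * ((p - 1) * k) + 1) = 1) : r = 1 := by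
  have hr0 : r ≠ 0 := by
    intro h0
    rw [h0, zero_pow (by omega)] at h
    exact zero_ne_one h
  have h1 : r ^ (p - 1) = 1 := ZMod.pow_card_sub_one_eq_one hr0
  rw [pow_succ, mul_comm 2, mul_assoc, pow_mul, h1, one_pow, one_mul] at h
  exact h

theorem main (p : ℕ) [Fact p.Prime] (hp : p ≠ 2) :
    ∃ (H : Type) (_ : Group H) (_ : Finite H), Nat.card H = 2 * p ^ 3 ∧
      ∀ N : ℕ, ∃ n, N ≤ n ∧ ∃ φ : H →* Matrix.ProjectiveSpecialLinearGroup (Fin n) (ZMod p),
        Function.Injective φ ∧ Subgroup.centralizer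
          (φ.range : Set (Matrix.ProjectiveSpecialLinearGroup (Fin n) (ZMod p))) = ⊥ := by
  refine ⟨HG p, inferInstance, inferInstance, card_HG p, ?_⟩
  intro N
  have hp2 : 2 ≤ p := (Fact.out : p.Prime).two_le
  have hp3 : 3 ≤ p := by omega
  obtain ⟨m, hm⟩ : ∃ m, m = (p - 1) * (N + 1) := ⟨_, rfl⟩
  have hm2 : 2 ≤ m := by
    rw [hm]
    calc 2 = 2 * 1 := rfl
      _ ≤ (p - 1) * (N + 1) := Nat.mul_le_mul (by omega) (by omega)
  have hmN : N ≤ m := by
    rw [hm]
    calc N ≤ 1 * (N + 1) := by omega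
      _ ≤ (p - 1) * (N + 1) := Nat.mul_le_mul (by omega) le_rfl
  have hmE : Even m := by
    rw [hm]
    exact ((Fact.out : p.Prime).even_sub_one hp).mul_right _
  refine ⟨m + (m + 1), by omega, ?_⟩
  -- the centre is trivial
  have hZ : Subgroup.center (Matrix.SpecialLinearGroup (Fin (m + (m + 1))) (ZMod p)) = ⊥ := by
    rw [Subgroup.eq_bot_iff_forall]
    intro A hA
    rw [Matrix.SpecialLinearGroup.mem_center_iff] at hA
    obtain ⟨r, hr, hrA⟩ := hA
    rw [Fintype.card_fin] at hr
    have : r = 1 := by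
      apply pow_eq_one_zmod r (N + 1)
      rw [← hm]
      rw [← hr]
      congr 1
      ring
    rw [this, map_one] at hrA
    apply Subtype.ext
    rw [← hrA, Matrix.SpecialLinearGroup.coe_one]
  set E := slReindex (R := ZMod p) (finSumFinEquiv : Fin m ⊕ Fin (m + 1) ≃ Fin (m + (m + 1)))
    with hE
  set φ : HG p →* Matrix.ProjectiveSpecialLinearGroup (Fin (m + (m + 1))) (ZMod p) :=
    (QuotientGroup.mk' _).comp (E.toMonoidHom.comp (rho p m hmE)) with hφ
  have hmk : Function.Injective (QuotientGroup.mk' (Subgroup.center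
      (Matrix.SpecialLinearGroup (Fin (m + (m + 1))) (ZMod p)))) := by
    rw [← MonoidHom.ker_eq_bot_iff, QuotientGroup.ker_mk', hZ]
  refine ⟨φ, ?_, ?_⟩
  · rw [hφ]
    intro x y hxy
    apply rho_injective hp hm2 hmE
    apply E.injective
    exact hmk hxy
  · rw [Subgroup.eq_bot_iff_forall]
    intro x hx
    obtain ⟨g, rfl⟩ := QuotientGroup.mk_surjective x
    rw [Subgroup.mem_centralizer_iff] at hx
    have hcomm : ∀ h : HG p, E (rho p m hmE h) * g = g * E (rho p m hmE h) := by
      intro h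
      apply hmk
      have := hx (φ h) ⟨h, rfl⟩
      exact this
    obtain ⟨g₀, hg₀⟩ : ∃ g₀, g₀ = E.symm g := ⟨_, rfl⟩
    have hcomm₀ : ∀ h : HG p, rho p m hmE h * g₀ = g₀ * rho p m hmE h := by
      intro h
      apply E.injective
      rw [map_mul, map_mul, hg₀, MulEquiv.apply_symm_apply]
      exact hcomm h
    obtain ⟨a, ha⟩ := comm_scalar hp g₀.1 (fun h => by
      have := congrArg Subtype.val (hcomm₀ h)
      exact this)
    have hdet := g₀.2
    rw [ha, Matrix.det_smul, Matrix.det_one, mul_one, Fintype.card_sum, Fintype.card_fin,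
      Fintype.card_fin] at hdet
    have ha1 : a = 1 := by
      apply pow_eq_one_zmod a (N + 1)
      rw [← hm, ← hdet]
      congr 1
      ring
    rw [ha1, one_smul] at ha
    have hg1 : g₀ = 1 := Subtype.ext ha
    have : g = 1 := by
      have := congrArg E hg₀
      rw [MulEquiv.apply_symm_apply, hg1, map_one] at this
      exact this.symm
    rw [this]
    rfl

end main

/-- For every odd prime `p` there is a finite group `H` of order `2p³` which, for infinitely many `n`, embeds in the projective special linear group `PSL(n, p)` as a subgroup with trivial centralizer. -/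
theorem result
    (p : ℕ) [Fact p.Prime] (hp : p ≠ 2) :
    ∃ (H : Type) (_ : Group H) (_ : Finite H), Nat.card H = 2 * p ^ 3 ∧
      ∀ N : ℕ, ∃ n, N ≤ n ∧ ∃ φ : H →* Matrix.ProjectiveSpecialLinearGroup (Fin n) (ZMod p),
        Function.Injective φ ∧ Subgroup.centralizer (φ.range : Set (Matrix.ProjectiveSpecialLinearGroup (Fin n) (ZMod p))) = ⊥ := by
  exact main p hp

end Cfsg.Agent.S2533
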