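import Cfsg.Statements.S2534
-- import your own Cfsg.Agent.* helpers here
import Cfsg.Agent.Lib.Helper14.HallD

set_option autoImplicit false
open Cfsg

namespace Cfsg.Agent.S2534

open Cfsg.Agent.Lib.Helper14.Hall in

/-- For `n ≥ 5` and a set of primes `π`, the alternating group of degree `n` satisfies the full Sylow analogue for `π` (its maximal `π`-subgroups are pairwise conjugate; for a finite group this says Hall `π`-subgroups exist, are all conjugate, and contain every `π`-subgroup up to conjugacy) if and only if either at most one prime of `π` divides its order or every prime dividing its order lies in `π`. -/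
theorem result (n : ℕ) (hn : 5 ≤ n) (π : Set ℕ) :
    Cfsg.IsDPiGroup π ↥(alternatingGroup (Fin n)) ↔
      ((∀ r s : ℕ, r.Prime → s.Prime → r ∈ π → s ∈ π → r ∣ Nat.card ↥(alternatingGroup (Fin n)) → s ∣ Nat.card ↥(alternatingGroup (Fin n)) → r = s) ∨
        ∀ r : ℕ, r.Prime → r ∣ Nat.card ↥(alternatingGroup (Fin n)) → r ∈ π) := by
  rw [dpi_alt_iff hn π]
  have hc : Fintype.card (Fin n) = n := Fintype.card_fin n
  have key : ∀ r : ℕ, r.Prime → (r ∣ Nat.card ↥(alternatingGroup (Fin n)) ↔ r ≤ n) := by
    intro r hr
    rw [prime_dvd_card_alt_iff (α := Fin n) (by rw [hc]; omega) hr, hc]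
  constructor
  · rintro (h | h)
    · left
      intro r s hr hs hrπ hsπ hrd hsd
      by_contra hne
      exact h ⟨r, s, hr, hs, hne, hrπ, hsπ, (key r hr).mp hrd, (key s hs).mp hsd⟩
    · right
      intro r hr hrd
      exact h r hr ((key r hr).mp hrd)
  · rintro (h | h)
    · left
      rintro ⟨r, s, hr, hs, hne, hrπ, hsπ, hrn, hsn⟩
      exact hne (h r s hr hs hrπ hsπ ((key r hr).mpr hrn) ((key s hs).mpr hsn))
    · right
      intro r hr hrn
      exact h r hr ((key r hr).mpr hrn)

end Cfsg.Agent.S2534
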