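import Cfsg.Statements.S2536
-- import your own Cfsg.Agent.* helpers here
import Cfsg.Agent.Lib.Helper14.HallExist

set_option autoImplicit false
open Cfsg

namespace Cfsg.Agent.S2536

open Cfsg.Agent.Lib.Helper14.Hall in

/-- Let `π` be a set of primes and `n` a natural number such that at least two primes of `π` divide `n!` but not every prime dividing `n!` lies in `π`. Then the symmetric group of degree `n` has a Hall `π`-subgroup if and only if either `n` is prime and the primes of `π` dividing `n!` are exactly the primes smaller than `n` (a point stabilizer is then such a subgroup), or `n ∈ {7, 8}` and the primes of `π` dividing `n!` are exactly 2 and 3. -/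
theorem result (n : ℕ) (π : Set ℕ)
    (h2 : ∃ r s : ℕ, r.Prime ∧ s.Prime ∧ r ≠ s ∧ r ∈ π ∧ s ∈ π ∧ r ≤ n ∧ s ≤ n)
    (hns : ∃ r : ℕ, r.Prime ∧ r ≤ n ∧ r ∉ π) :
    Cfsg.IsEPiGroup π (Equiv.Perm (Fin n)) ↔
      ((n.Prime ∧ ∀ r : ℕ, r.Prime → r ≤ n → (r ∈ π ↔ r < n)) ∨
       ((n = 7 ∨ n = 8) ∧ ∀ r : ℕ, r.Prime → r ≤ n → (r ∈ π ↔ (r = 2 ∨ r = 3)))) := by
  constructor
  · rintro ⟨H, hH⟩
    have hG := good_of_isPiHall hH
    have h2' : Two π (Fintype.card (Fin n)) := by rw [Fintype.card_fin]; exact h2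
    have hall : ¬ AllIn π (Fintype.card (Fin n)) := by
      rw [Fintype.card_fin]
      obtain ⟨r, hr, hrn, hrπ⟩ := hns
      exact fun h => hrπ (h r hr hrn)
    rcases main_good π H hG h2' hall with h | h | h
    · left
      rw [Fintype.card_fin] at h
      exact ⟨h.1, h.2.1⟩
    · right
      rw [Fintype.card_fin] at h
      obtain ⟨h7, hP, _⟩ := h
      exact ⟨Or.inl h7, h7 ▸ hP⟩
    · right
      rw [Fintype.card_fin] at h
      obtain ⟨h8, hP, _⟩ := h
      exact ⟨Or.inr h8, h8 ▸ hP⟩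
  · rintro (⟨hn, hπ⟩ | ⟨hn | hn, hπ⟩)
    · have hpos : 0 < n := hn.pos
      exact ⟨_, isPiHall_point (α := Fin n) (by rw [Fintype.card_fin]; exact hn)
        (by rw [Fintype.card_fin]; exact hπ) ⟨0, hpos⟩⟩
    · subst hn
      obtain ⟨Δ, _, hΔ⟩ := Finset.exists_subset_card_eq (s := (Finset.univ : Finset (Fin 7)))
        (n := 3) (by simp)
      exact ⟨_, isPiHall_seven (by simp) hπ Δ hΔ⟩
    · subst hn
      obtain ⟨Δ, _, hΔ⟩ := Finset.exists_subset_card_eq (s := (Finset.univ : Finset (Fin 8)))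
        (n := 4) (by simp)
      exact ⟨_, isPiHall_eight (by simp) hπ Δ hΔ⟩

end Cfsg.Agent.S2536
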