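import Cfsg.Statements.S2537
import Cfsg.Agent.Lib.Helper13.DkWrap
import Cfsg.Agent.Lib.Helper13.DkMax
import Cfsg.Agent.Lib.Helper13.DkSolv
import Cfsg.Agent.Lib.Helper13.DkDihExist
import Cfsg.Agent.Lib.Helper1.Hall
import Cfsg.Agent.S0802
import Cfsg.Agent.S0803

set_option autoImplicit false
open Cfsg
open Cfsg.Agent.Lib.Helper13.Dk

namespace Cfsg.Agent.S2537

theorem decomp (N : ℕ) (hN : N ≠ 0) :
    ∃ a b c, a = N.factorization 2 ∧ b = N.factorization 3 ∧ N = 2 ^ a * 3 ^ b * c ∧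
      ¬ 2 ∣ c ∧ ¬ 3 ∣ c := by
  obtain ⟨a, ha⟩ : ∃ a, a = N.factorization 2 := ⟨_, rfl⟩
  obtain ⟨b, hb⟩ : ∃ b, b = N.factorization 3 := ⟨_, rfl⟩
  have h2 : 2 ^ a ∣ N := ha ▸ Nat.ordProj_dvd N 2
  have h3 : 3 ^ b ∣ N := hb ▸ Nat.ordProj_dvd N 3
  have hcop : Nat.Coprime (2 ^ a) (3 ^ b) := Nat.Coprime.pow _ _ (by norm_num)
  obtain ⟨c, hc⟩ := hcop.mul_dvd_of_dvd_of_dvd h2 h3
  refine ⟨a, b, c, ha, hb, hc, ?_, ?_⟩
  · rintro ⟨e, rfl⟩
    have := Nat.pow_succ_factorization_not_dvd hN Nat.prime_two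
    rw [← ha] at this
    apply this
    exact ⟨3 ^ b * e, by rw [hc]; ring⟩
  · rintro ⟨e, rfl⟩
    have := Nat.pow_succ_factorization_not_dvd hN Nat.prime_three
    rw [← hb] at this
    apply this
    exact ⟨2 ^ a * e, by rw [hc]; ring⟩

/-- A prime dividing `2 ^ x * 3 ^ y` is `2` or `3`. -/
theorem prime_dvd_two_three {r x y : ℕ} (hr : r.Prime) (h : r ∣ 2 ^ x * 3 ^ y) : r = 2 ∨ r = 3 := by
  rcases (Nat.Prime.dvd_mul hr).mp h with h | h
  · left
    exact (Nat.prime_dvd_prime_iff_eq hr Nat.prime_two).mp (hr.dvd_of_dvd_pow h)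
  · right
    exact (Nat.prime_dvd_prime_iff_eq hr Nat.prime_three).mp (hr.dvd_of_dvd_pow h)

theorem coprime_two_three {x y n : ℕ} (h2 : ¬ 2 ∣ n) (h3 : ¬ 3 ∣ n) :
    Nat.Coprime (2 ^ x * 3 ^ y) n := by
  apply Nat.coprime_of_dvd
  intro r hr h hn
  rcases prime_dvd_two_three hr h with rfl | rfl
  · exact h2 hn
  · exact h3 hn


/-- Hall `{2,3}`-subgroups are the subgroups of order the `{2,3}`-part. -/
theorem isPiHall_iff_card {G : Type*} [Group G] [Finite G] {x y n : ℕ}
    (hG : Nat.card G = 2 ^ x * 3 ^ y * n) (h2 : ¬ 2 ∣ n) (h3 : ¬ 3 ∣ n) (H : Subgroup G) :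
    Cfsg.IsPiHall ({2, 3} : Set ℕ) H ↔ Nat.card H = 2 ^ x * 3 ^ y := by
  have hmul := H.card_mul_index
  rw [hG] at hmul
  constructor
  · rintro ⟨hA, hB⟩
    have hc1 : Nat.Coprime (Nat.card H) n := by
      apply Nat.coprime_of_dvd
      intro r hr h hn
      have := hA r hr h
      simp only [Set.mem_insert_iff, Set.mem_singleton_iff] at this
      rcases this with rfl | rfl
      · exact h2 hn
      · exact h3 hn
    have hc2 : Nat.Coprime (2 ^ x * 3 ^ y) H.index :=
      coprime_two_three (hB 2 Nat.prime_two (by simp)) (hB 3 Nat.prime_three (by simp))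
    apply Nat.dvd_antisymm
    · exact hc1.dvd_of_dvd_mul_right (Dvd.intro _ hmul)
    · exact hc2.dvd_of_dvd_mul_right ⟨n, hmul⟩
  · intro hH
    rw [hH] at hmul
    have hpos : 0 < 2 ^ x * 3 ^ y := by positivity
    have hidx : H.index = n := Nat.eq_of_mul_eq_mul_left hpos hmul
    refine ⟨?_, ?_⟩
    · intro r hr h
      rw [hH] at h
      simp only [Set.mem_insert_iff, Set.mem_singleton_iff]
      exact prime_dvd_two_three hr h
    · intro r hr hmem
      simp only [Set.mem_insert_iff, Set.mem_singleton_iff] at hmem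
      rw [hidx]
      rcases hmem with rfl | rfl
      · exact h2
      · exact h3


/-- If `2 ^ a ∣ u` and `2 ∣ v` then `2 ^ (a + 1) ∣ u * v`. -/
theorem pow_succ_dvd_mul {a u v : ℕ} (h1 : 2 ^ a ∣ u) (h2 : 2 ∣ v) : 2 ^ (a + 1) ∣ u * v := by
  rw [pow_succ]
  exact Nat.mul_dvd_mul h1 h2

theorem card_alt_five' : Nat.card (alternatingGroup (Fin 5)) = 60 := by
  rw [nat_card_alternatingGroup]
  simp [Nat.factorial]

theorem card_alt_four' : Nat.card (alternatingGroup (Fin 4)) = 12 := by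
  rw [nat_card_alternatingGroup]
  simp [Nat.factorial]

theorem card_perm_four' : Nat.card (Equiv.Perm (Fin 4)) = 24 := by
  rw [Nat.card_eq_fintype_card, Fintype.card_perm, Fintype.card_fin]
  rfl

/-- Let `F` be a finite field with `q` elements of characteristic `p ≥ 5`, and `ε = 1` if `q ≡ 1 (mod 4)`, `ε = -1` otherwise. Then `PSL(2, F)` has a Hall `{2, 3}`-subgroup if and only if `3` divides `q − ε`, or the `{2,3}`-part of `q² − 1` is 24, or the `{2,3}`-part of `q² − 1` is 48 (the `{2,3}`-part of `m` being the largest divisor of `m` with no prime factor other than 2 and 3). -/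
theorem result {F : Type*} [Field F] [Fintype F] {p : ℕ} [Fact p.Prime] [CharP F p]
    (hp : 5 ≤ p) (q : ℕ) (hq : Fintype.card F = q) :
    (∃ H : Subgroup (Matrix.ProjectiveSpecialLinearGroup (Fin 2) F), Cfsg.IsPiHall ({2, 3} : Set ℕ) H) ↔
      (3 ∣ q - 1 ∧ q % 4 = 1) ∨ (3 ∣ q + 1 ∧ q % 4 = 3) ∨
        2 ^ (q ^ 2 - 1).factorization 2 * 3 ^ (q ^ 2 - 1).factorization 3 = 24 ∨
        2 ^ (q ^ 2 - 1).factorization 2 * 3 ^ (q ^ 2 - 1).factorization 3 = 48 := by
  classical
  have hpp : p.Prime := Fact.out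
  obtain ⟨n, -, hn⟩ := FiniteField.card F p
  rw [hq] at hn
  -- basic facts on `q`
  have hrq : ∀ r : ℕ, r.Prime → r ∣ q → r = p := by
    intro r hr h
    rw [hn] at h
    exact (Nat.prime_dvd_prime_iff_eq hr hpp).mp (hr.dvd_of_dvd_pow h)
  have h2q : ¬ 2 ∣ q := fun h => by
    have := hrq 2 Nat.prime_two h
    omega
  have h3q : ¬ 3 ∣ q := fun h => by
    have := hrq 3 Nat.prime_three h
    omega
  have hq5 : 5 ≤ q := by
    rw [hn]
    calc 5 ≤ p := hp
      _ = p ^ 1 := (pow_one p).symm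
      _ ≤ p ^ (n : ℕ) := Nat.pow_le_pow_right hpp.pos n.pos
  have hgcd : Nat.gcd 2 (q - 1) = 2 := Nat.gcd_eq_left (by omega)
  have hGc := card_PSL2_mul_gcd (K := F)
  rw [hq, hgcd] at hGc
  have hQ0 : q ^ 2 - 1 ≠ 0 := by
    have : 5 ^ 2 ≤ q ^ 2 := Nat.pow_le_pow_left hq5 2
    omega
  have hQuv : q ^ 2 - 1 = (q - 1) * (q + 1) := by
    obtain ⟨u, rfl⟩ : ∃ u, q = u + 1 := ⟨q - 1, by omega⟩
    apply Nat.sub_eq_of_eq_add
    simp only [Nat.add_sub_cancel]
    ring
  obtain ⟨a, b, c, ha, hb, hQ, h2c, h3c⟩ := decomp (q ^ 2 - 1) hQ0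
  rw [← ha, ← hb]
  have hnotdvd : ¬ 2 ^ (a + 1) ∣ q ^ 2 - 1 := by
    have := Nat.pow_succ_factorization_not_dvd hQ0 Nat.prime_two
    rwa [← ha] at this
  have hq8 : q ^ 2 % 8 = 1 := by
    have h : q % 8 = 1 ∨ q % 8 = 3 ∨ q % 8 = 5 ∨ q % 8 = 7 := by omega
    rcases h with h | h | h | h <;> rw [Nat.pow_mod, h]
  have hq3 : q ^ 2 % 3 = 1 := by
    have h : q % 3 = 1 ∨ q % 3 = 2 := by omega
    rcases h with h | h <;> rw [Nat.pow_mod, h]
  have ha3 : 3 ≤ a := by
    rw [ha]
    apply (Nat.Prime.pow_dvd_iff_le_factorization Nat.prime_two hQ0).mp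
    have : 5 ^ 2 ≤ q ^ 2 := Nat.pow_le_pow_left hq5 2
    omega
  have hb1 : 1 ≤ b := by
    rw [hb]
    apply (Nat.Prime.pow_dvd_iff_le_factorization Nat.prime_three hQ0).mp
    have : 5 ^ 2 ≤ q ^ 2 := Nat.pow_le_pow_left hq5 2
    omega
  obtain ⟨a', rfl⟩ : ∃ a', a = a' + 1 := ⟨a - 1, by omega⟩
  -- the order of `G`
  have hG : Nat.card (Matrix.ProjectiveSpecialLinearGroup (Fin 2) F) =
      2 ^ a' * 3 ^ b * (q * c) := by
    have : Nat.card (Matrix.ProjectiveSpecialLinearGroup (Fin 2) F) * 2 =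
        (2 ^ a' * 3 ^ b * (q * c)) * 2 := by
      rw [hGc, hQ]
      ring
    exact Nat.eq_of_mul_eq_mul_right (by norm_num) this
  have h2qc : ¬ 2 ∣ q * c := fun h => by
    rcases (Nat.Prime.dvd_mul Nat.prime_two).mp h with h | h
    · exact h2q h
    · exact h2c h
  have h3qc : ¬ 3 ∣ q * c := fun h => by
    rcases (Nat.Prime.dvd_mul Nat.prime_three).mp h with h | h
    · exact h3q h
    · exact h3c h
  have hhall := isPiHall_iff_card hG h2qc h3qc
  have h2N : 2 * (2 ^ a' * 3 ^ b) = 2 ^ (a' + 1) * 3 ^ b := by ring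
  have h3N : 3 ∣ 2 ^ a' * 3 ^ b := Dvd.dvd.mul_left (dvd_pow_self 3 (by omega)) _
  have h2a : 2 ^ a' ∣ 2 ^ a' * 3 ^ b := Dvd.intro _ rfl
  have h2a1 : 2 ^ (a' + 1) ∣ 2 ^ (a' + 1) * 3 ^ b := Dvd.intro _ rfl
  have hev1 : 2 ∣ q - 1 := by omega
  have hev2 : 2 ∣ q + 1 := by omega
  -- `2N` does not divide `q + 1` or `q - 1`
  have hno1 : ¬ 2 ^ (a' + 1) * 3 ^ b ∣ q + 1 := by
    intro h
    apply hnotdvd
    rw [hQuv, mul_comm]
    exact pow_succ_dvd_mul (h2a1.trans h) hev1
  have hno2 : ¬ 2 ^ (a' + 1) * 3 ^ b ∣ q - 1 := by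
    intro h
    apply hnotdvd
    rw [hQuv]
    exact pow_succ_dvd_mul (h2a1.trans h) hev2
  constructor
  · rintro ⟨H, hH⟩
    have hcard : Nat.card H = 2 ^ a' * 3 ^ b := (hhall H).mp hH
    have hD := dickson_subgroup' p H
    rw [hq] at hD
    unfold Concl' ConclN at hD
    rw [hgcd] at hD
    rcases hD with ⟨k, hk, ⟨hcyc, hck⟩ | ⟨⟨e⟩⟩⟩ | hN | ⟨⟨e⟩⟩ | ⟨⟨e⟩⟩ | ⟨⟨e⟩⟩ | ⟨K, hKf, hKt, m, hm, hiso⟩
    · -- cyclic
      exfalso
      rw [hcard] at hck
      rcases hk with hk | hk
      · apply hno1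
        rw [← h2N, hck]
        obtain ⟨t, ht⟩ := hk
        have : q + 1 = 2 * ((q + 1) / 2) := by omega
        rw [this, ht]
        exact ⟨t, by ring⟩
      · apply hno2
        rw [← h2N, hck]
        obtain ⟨t, ht⟩ := hk
        have : q - 1 = 2 * ((q - 1) / 2) := by omega
        rw [this, ht]
        exact ⟨t, by ring⟩
    · -- dihedral
      have hc2 : Nat.card H = 2 * k := by
        rw [Nat.card_congr e.toEquiv, DihedralGroup.nat_card]
      rw [hcard] at hc2
      rcases hk with hk | hk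
      · -- `N ∣ q + 1`
        have hNq : 2 ^ a' * 3 ^ b ∣ q + 1 := by
          rw [hc2]
          obtain ⟨t, ht⟩ := hk
          have : q + 1 = 2 * ((q + 1) / 2) := by omega
          rw [this, ht]
          exact ⟨t, by ring⟩
        right; left
        refine ⟨h3N.trans hNq, ?_⟩
        have h4 : ¬ 4 ∣ q - 1 := by
          intro h4
          apply hnotdvd
          rw [hQuv, mul_comm, pow_succ, pow_succ, mul_assoc]
          exact Nat.mul_dvd_mul (h2a.trans hNq) (by norm_num; exact h4)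
        omega
      · have hNq : 2 ^ a' * 3 ^ b ∣ q - 1 := by
          rw [hc2]
          obtain ⟨t, ht⟩ := hk
          have : q - 1 = 2 * ((q - 1) / 2) := by omega
          rw [this, ht]
          exact ⟨t, by ring⟩
        left
        refine ⟨h3N.trans hNq, ?_⟩
        have h4 : ¬ 4 ∣ q + 1 := by
          intro h4
          apply hnotdvd
          rw [hQuv, pow_succ, pow_succ, mul_assoc]
          exact Nat.mul_dvd_mul (h2a.trans hNq) (by norm_num; exact h4)
        omega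
    · -- triangular
      exfalso
      have h1 := hN.2.1
      rw [hcard, mul_comm, h2N] at h1
      apply hno2
      have hcop : Nat.Coprime (2 ^ (a' + 1) * 3 ^ b) q := coprime_two_three h2q h3q
      exact hcop.dvd_of_dvd_mul_left h1
    · -- `A₄`
      right; right; left
      rw [Nat.card_congr e.toEquiv, card_alt_four'] at hcard
      rw [← h2N, ← hcard]
    · right; right; right
      rw [Nat.card_congr e.toEquiv, card_perm_four'] at hcard
      rw [← h2N, ← hcard]
    · exfalso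
      have h60 : Nat.card H = 60 := by rw [Nat.card_congr e.toEquiv, card_alt_five']
      have := hH.1 5 (by norm_num) (by rw [h60]; norm_num)
      simp at this
    · exfalso
      have hm0 : m ≠ 0 := by
        rintro rfl
        rw [pow_zero] at hm
        omega
      have hpK : p ∣ Fintype.card K := by
        apply hpp.dvd_of_dvd_pow (n := m)
        rw [hm, hn]
        exact dvd_pow_self p (PNat.ne_zero n)
      have hpH : p ∣ Nat.card H := by
        rcases hiso with ⟨⟨e⟩⟩ | ⟨⟨e⟩⟩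
        · rw [Nat.card_congr e.toEquiv]
          have h1 := card_PSL2_mul_gcd (K := K)
          have h2 : p ∣ Nat.card (Matrix.ProjectiveSpecialLinearGroup (Fin 2) K) *
              Nat.gcd 2 (Fintype.card K - 1) := by
            rw [h1]
            exact Dvd.dvd.mul_right hpK _
          rcases (Nat.Prime.dvd_mul hpp).mp h2 with h | h
          · exact h
          · exfalso
            have := Nat.le_of_dvd (Nat.gcd_pos_of_pos_left _ (by norm_num)) h
            have := Nat.le_of_dvd (by norm_num) (Nat.gcd_dvd_left 2 (Fintype.card K - 1))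
            omega
        · rw [Nat.card_congr e.toEquiv, card_PGL2]
          exact Dvd.dvd.mul_right hpK _
      have := hH.1 p hpp hpH
      simp only [Set.mem_insert_iff, Set.mem_singleton_iff] at this
      omega
  · -- existence
    have h4F : 4 ≤ Fintype.card F := by rw [hq]; omega
    -- a Hall subgroup inside a dihedral subgroup of order `w`, `w ∈ {q - 1, q + 1}`
    have hdih : ∀ (w w' : ℕ), w * w' = q ^ 2 - 1 → ¬ 4 ∣ w' → 2 ∣ w' → ¬ 3 ∣ w' →
        (∃ H₀ : Subgroup (Matrix.ProjectiveSpecialLinearGroup (Fin 2) F),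
          Nonempty (H₀ ≃* DihedralGroup (w / 2))) → 2 ∣ w →
        ∃ H : Subgroup (Matrix.ProjectiveSpecialLinearGroup (Fin 2) F),
          Cfsg.IsPiHall ({2, 3} : Set ℕ) H := by
      intro w w' hww h4w h2w h3w hex hw2
      obtain ⟨H₀, ⟨e⟩⟩ := hex
      have hcH₀ : Nat.card H₀ = w := by
        rw [Nat.card_congr e.toEquiv, DihedralGroup.nat_card]
        omega
      obtain ⟨e', rfl⟩ := h2w
      have h2e : ¬ 2 ∣ e' := fun h => h4w (by obtain ⟨t, rfl⟩ := h; exact ⟨t, by ring⟩)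
      have h3e : ¬ 3 ∣ e' := fun h => h3w (Dvd.dvd.mul_left h 2)
      -- `w * e' = N * c`
      have h1 : w * e' = 2 ^ a' * 3 ^ b * c := by
        have : (w * e') * 2 = (2 ^ a' * 3 ^ b * c) * 2 := by
          have h5 : w * e' * 2 = w * (2 * e') := by ring
          rw [h5, hww, hQ]
          ring
        exact Nat.eq_of_mul_eq_mul_right (by norm_num) this
      have hcop : Nat.Coprime (2 ^ a' * 3 ^ b) e' := coprime_two_three h2e h3e
      have hNw : 2 ^ a' * 3 ^ b ∣ w := hcop.dvd_of_dvd_mul_right (Dvd.intro _ h1.symm)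
      obtain ⟨n', hn'⟩ := hNw
      have hn'c : n' * e' = c := by
        have hpos : 0 < 2 ^ a' * 3 ^ b := by positivity
        apply Nat.eq_of_mul_eq_mul_left hpos
        rw [← h1, hn']
        ring
      have h2n' : ¬ 2 ∣ n' := fun h => h2c (hn'c ▸ Dvd.dvd.mul_right h _)
      have h3n' : ¬ 3 ∣ n' := fun h => h3c (hn'c ▸ Dvd.dvd.mul_right h _)
      have hsolv : Group.IsSolvable H₀ := by
        haveI := isSolvable_dihedral (w / 2)
        exact Group.isSolvable_of_isSolvable_injective (f := e.toMonoidHom) e.injective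
      obtain ⟨K, hK⟩ := Cfsg.Agent.Lib.Helper1.hall_exists w H₀ hcH₀ (2 ^ a' * 3 ^ b) n' hn'
        (coprime_two_three h2n' h3n')
      refine ⟨K.map H₀.subtype, (hhall _).mpr ?_⟩
      rw [Subgroup.card_map_of_injective H₀.subtype_injective, hK]
    rintro (⟨h3, h4⟩ | ⟨h3, h4⟩ | h24 | h48)
    · -- `3 ∣ q - 1`, `q ≡ 1 (mod 4)`
      have hex := exists_dihedral_sub_one (F := F) p h4F
      rw [hq, hgcd] at hex
      exact hdih (q - 1) (q + 1) hQuv.symm (by omega) hev2 (by omega) hex hev1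
    · have hex := exists_dihedral_add_one (F := F) p
      rw [hq, hgcd] at hex
      exact hdih (q + 1) (q - 1) (by rw [hQuv, mul_comm]) (by omega) hev1 (by omega) hex hev2
    · -- `A₄`
      have hN12 : 2 ^ a' * 3 ^ b = 12 := by omega
      obtain ⟨H, ⟨e⟩⟩ := (Cfsg.Agent.S0802.result (F := F) p n (hq.trans hn)).mpr
        (fun h => by omega)
      refine ⟨H, (hhall H).mpr ?_⟩
      rw [Nat.card_congr e.toEquiv, card_alt_four', hN12]
    · -- `S₄`
      have hN24 : 2 ^ a' * 3 ^ b = 24 := by omega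
      have h16 : 16 ∣ q ^ 2 - 1 := by
        have ha4 : a' + 1 = 4 := by
          have hle : a' + 1 ≤ 4 := by
            have : 2 ^ (a' + 1) ∣ 48 := Dvd.intro _ h48
            by_contra hcon
            have h32 : 2 ^ 5 ∣ 2 ^ (a' + 1) := Nat.pow_dvd_pow 2 (by omega)
            have := h32.trans this
            omega
          have hble : b ≤ 1 := by
            have : 3 ^ b ∣ 48 := Dvd.intro_left _ h48
            by_contra hcon
            have h9 : 3 ^ 2 ∣ 3 ^ b := Nat.pow_dvd_pow 3 (by omega)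
            have := h9.trans this
            omega
          have hb' : b = 1 := le_antisymm hble hb1
          rw [hb'] at h48
          have h16' : 2 ^ (a' + 1) = 16 := by omega
          have : 2 ^ (a' + 1) = 2 ^ 4 := by rw [h16']; norm_num
          exact Nat.pow_right_injective (le_refl 2) this
        rw [hQ, ha4]
        exact Dvd.dvd.mul_right (Dvd.dvd.mul_right (by norm_num) _) _
      obtain ⟨H, ⟨e⟩⟩ := (Cfsg.Agent.S0803.result (F := F) hq).mpr (by
        have : 5 ^ 2 ≤ q ^ 2 := Nat.pow_le_pow_left hq5 2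
        omega)
      refine ⟨H, (hhall H).mpr ?_⟩
      rw [Nat.card_congr e.toEquiv, card_perm_four', hN24]

end Cfsg.Agent.S2537
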