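import Cfsg.Statements.S2540
import Cfsg.Agent.Lib.Helper2.SLGen
-- import your own Cfsg.Agent.* helpers here

set_option autoImplicit false
open Cfsg

namespace Cfsg.Agent.S2540


open Matrix
open scoped commutatorElement

/-- normal subgroups of a perfect group with simple central quotient are central or everything -/
theorem normal_le_center_or_eq_top_of_simple {H : Type*} [Group H]
    (hs : IsSimpleGroup (H ⧸ Subgroup.center H)) (hperf : commutator H = ⊤) (N : Subgroup H)
    [hN : N.Normal] : N ≤ Subgroup.center H ∨ N = ⊤ := by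
  have hmap : (N.map (QuotientGroup.mk' (Subgroup.center H))).Normal :=
    hN.map _ (QuotientGroup.mk'_surjective _)
  rcases hmap.eq_bot_or_eq_top with h | h
  · left
    intro x hx
    have : QuotientGroup.mk' (Subgroup.center H) x ∈ N.map (QuotientGroup.mk' (Subgroup.center H)) :=
      Subgroup.mem_map_of_mem _ hx
    rw [h, Subgroup.mem_bot, QuotientGroup.mk'_apply, QuotientGroup.eq_one_iff] at this
    exact this
  · right
    have hdec : ∀ a : H, ∃ m ∈ N, ∃ z ∈ Subgroup.center H, a = m * z := by
      intro a
      have : QuotientGroup.mk' (Subgroup.center H) a ∈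
          N.map (QuotientGroup.mk' (Subgroup.center H)) := by rw [h]; trivial
      obtain ⟨m, hm, hma⟩ := this
      refine ⟨m, hm, m⁻¹ * a, ?_, by group⟩
      rw [QuotientGroup.mk'_apply, QuotientGroup.mk'_apply, QuotientGroup.eq] at hma
      exact hma
    rw [eq_top_iff, ← hperf, commutator_def, Subgroup.commutator_le]
    intro a _ b _
    obtain ⟨m, hm, z, hz, rfl⟩ := hdec a
    have hzb : z * b = b * z := (Subgroup.mem_center_iff.mp hz b).symm
    have e : ⁅m * z, b⁆ = m * (b * m⁻¹ * b⁻¹) := by
      rw [commutatorElement_def]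
      have : m * z * b * (m * z)⁻¹ * b⁻¹ = m * (z * b) * z⁻¹ * m⁻¹ * b⁻¹ := by group
      rw [this, hzb]
      group
    rw [e]
    exact N.mul_mem hm (hN.conj_mem _ (N.inv_mem hm) b)

theorem comm_id1 {Γ : Type*} [Group Γ] (a b g : Γ) :
    a * b * g * (a * b)⁻¹ * g⁻¹ = (a * (b * g * b⁻¹ * g⁻¹)) * (g * a⁻¹ * g⁻¹) := by group

theorem comm_id2 {Γ : Type*} [Group Γ] (c a g : Γ) :
    c * a * (g * a⁻¹ * g⁻¹) = c * (a * g * a⁻¹ * g⁻¹) := by group

theorem comm_id3 {Γ : Type*} [Group Γ] (a g : Γ) :
    a * g = (a * g * a⁻¹ * g⁻¹) * (g * a) := by group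

theorem hom_center_eq_one {H : Type*} [Group H] (hperf : commutator H = ⊤)
    (φ : H →* Subgroup.center H) (s : H) : φ s = 1 := by
  have h1 : commutator H ≤ φ.ker := by
    rw [commutator_def, Subgroup.commutator_le]
    intro a _ b _
    rw [MonoidHom.mem_ker, commutatorElement_def, map_mul, map_mul, map_mul, map_inv, map_inv]
    have hc : φ a * φ b = φ b * φ a := by
      apply Subtype.ext
      exact (Subgroup.mem_center_iff.mp (φ b).2 (φ a))
    rw [hc, mul_assoc (φ b), mul_inv_cancel, mul_one, mul_inv_cancel]
  rw [hperf] at h1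
  exact h1 (Subgroup.mem_top s)

/-- Let F be a finite field and n ≥ 1, excluding the case n = 2 with #F ≤ 3. A subgroup of GL_n(F) that is normalized by every element of SL_n(F) either consists of scalar matrices or contains SL_n(F). -/
theorem result {F : Type*} [Field F] [Fintype F] (n : ℕ) (hn : 1 ≤ n) (hex : ¬ (n = 2 ∧ Fintype.card F ≤ 3)) (G : Subgroup (Matrix.GeneralLinearGroup (Fin n) F)) (hG : ∀ s : Matrix.SpecialLinearGroup (Fin n) F, ∀ g ∈ G, (Matrix.SpecialLinearGroup.toGL s) * g * (Matrix.SpecialLinearGroup.toGL s)⁻¹ ∈ G) : (∀ g ∈ G, ∃ c : F, (g : Matrix (Fin n) (Fin n) F) = c • (1 : Matrix (Fin n) (Fin n) F)) ∨ (Matrix.SpecialLinearGroup.toGL : Matrix.SpecialLinearGroup (Fin n) F →* _).range ≤ G := by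
  classical
  -- the two structural facts about `SL_n`
  have hAB : (∀ N : Subgroup (Matrix.SpecialLinearGroup (Fin n) F), N.Normal →
      N ≤ Subgroup.center (Matrix.SpecialLinearGroup (Fin n) F) ∨ N = ⊤) ∧
      commutator (Matrix.SpecialLinearGroup (Fin n) F) = ⊤ := by
    rcases Nat.lt_or_ge n 2 with h2 | h2
    · have hn1 : n = 1 := by omega
      subst hn1
      have hsub : ∀ A : Matrix.SpecialLinearGroup (Fin 1) F, A = 1 := by
        intro A
        ext i j
        have hi : i = 0 := Subsingleton.elim _ _
        have hj : j = 0 := Subsingleton.elim _ _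
        subst hi hj
        have := A.det_coe
        rw [Matrix.det_fin_one] at this
        simp [this]
      refine ⟨fun N _ => Or.inr ?_, ?_⟩
      · rw [eq_top_iff]; intro x _; rw [hsub x]; exact N.one_mem
      · rw [eq_top_iff]; intro x _; rw [hsub x]; exact Subgroup.one_mem _
    · have hs : IsSimpleGroup (Matrix.ProjectiveSpecialLinearGroup (Fin n) F) ∧
          commutator (Matrix.SpecialLinearGroup (Fin n) F) = ⊤ := by
        rcases Nat.lt_or_ge n 3 with h3 | h3
        · have hn2 : n = 2 := by omega
          subst hn2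
          have hF : 4 ≤ Fintype.card F := by
            by_contra hc
            exact hex ⟨rfl, by omega⟩
          have hF' : 4 ≤ Nat.card F := by rw [Nat.card_eq_fintype_card]; exact hF
          refine ⟨Matrix.ProjectiveSpecialLinearGroup.rank_two_simple hF', ?_⟩
          obtain ⟨a, ha⟩ : ∃ a : F, a ∉ ({0, 1, -1} : Finset F) := by
            by_contra hcon
            push Not at hcon
            have h1 : (Finset.univ : Finset F) ⊆ {0, 1, -1} := fun x _ => hcon x
            have h2 := Finset.card_le_card h1
            rw [Finset.card_univ] at h2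
            have h3 : ({0, 1, -1} : Finset F).card ≤ 3 := Finset.card_le_three
            omega
          simp only [Finset.mem_insert, Finset.mem_singleton, not_or] at ha
          exact SL2.commutator_eq_top ha.1 (fun h => by
            rcases sq_eq_one_iff.mp h with h | h
            · exact ha.2.1 h
            · exact ha.2.2 h)
        · have h3' : 3 ≤ Fintype.card (Fin n) := by rw [Fintype.card_fin]; exact h3
          exact ⟨Cfsg.Agent.Lib.Helper2.psl_isSimpleGroup h3',
            Cfsg.Agent.Lib.Helper2.sl_commutator_eq_top h3'⟩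
      exact ⟨fun N hN => normal_le_center_or_eq_top_of_simple hs.1 hs.2 N, hs.2⟩
  obtain ⟨hA, hB⟩ := hAB
  set N : Subgroup (Matrix.SpecialLinearGroup (Fin n) F) :=
    G.comap Matrix.SpecialLinearGroup.toGL with hNdef
  have hNn : N.Normal := ⟨fun x hx s => by
    show Matrix.SpecialLinearGroup.toGL (s * x * s⁻¹) ∈ G
    rw [map_mul, map_mul, map_inv]
    exact hG s _ hx⟩
  rcases hA N hNn with hc | ht
  · left
    intro g hg
    have hcs : ∀ s : Matrix.SpecialLinearGroup (Fin n) F,
        Matrix.SpecialLinearGroup.toGL s * g * (Matrix.SpecialLinearGroup.toGL s)⁻¹ * g⁻¹ ∈ G :=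
      fun s => G.mul_mem (hG s g hg) (G.inv_mem hg)
    have hdet : ∀ s : Matrix.SpecialLinearGroup (Fin n) F,
        ((Matrix.SpecialLinearGroup.toGL s * g * (Matrix.SpecialLinearGroup.toGL s)⁻¹ * g⁻¹ :
          Matrix.GeneralLinearGroup (Fin n) F) : Matrix (Fin n) (Fin n) F).det = 1 := by
      intro s
      rw [← Matrix.GeneralLinearGroup.val_det_apply, map_mul, map_mul, map_mul, map_inv, map_inv,
        mul_right_comm (Matrix.GeneralLinearGroup.det (Matrix.SpecialLinearGroup.toGL s)),
        mul_inv_cancel, one_mul, mul_inv_cancel]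
      rfl
    obtain ⟨t, ht⟩ : ∃ t : Matrix.SpecialLinearGroup (Fin n) F → Matrix.SpecialLinearGroup (Fin n) F,
        ∀ s, Matrix.SpecialLinearGroup.toGL (t s) =
        Matrix.SpecialLinearGroup.toGL s * g * (Matrix.SpecialLinearGroup.toGL s)⁻¹ * g⁻¹ :=
      ⟨fun s => ⟨_, hdet s⟩, fun s => Units.ext rfl⟩
    have htN : ∀ s, t s ∈ N := fun s => by
      show Matrix.SpecialLinearGroup.toGL (t s) ∈ G
      rw [ht]; exact hcs s
    have htc : ∀ s, t s ∈ Subgroup.center (Matrix.SpecialLinearGroup (Fin n) F) :=
      fun s => hc (htN s)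
    have hinj : Function.Injective
        (Matrix.SpecialLinearGroup.toGL : Matrix.SpecialLinearGroup (Fin n) F →* _) := by
      intro a b hab
      ext i j
      have := congrArg (fun x : Matrix.GeneralLinearGroup (Fin n) F =>
        (x : Matrix (Fin n) (Fin n) F) i j) hab
      exact this
    obtain ⟨φ, hφdef⟩ : ∃ φ : Matrix.SpecialLinearGroup (Fin n) F →*
        Subgroup.center (Matrix.SpecialLinearGroup (Fin n) F), ∀ s,
          ((φ s : Subgroup.center (Matrix.SpecialLinearGroup (Fin n) F)) :
            Matrix.SpecialLinearGroup (Fin n) F) = t s := by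
      refine ⟨
      { toFun := fun s => ⟨t s, htc s⟩
        map_one' := by
          apply Subtype.ext
          apply hinj
          show Matrix.SpecialLinearGroup.toGL (t 1) = Matrix.SpecialLinearGroup.toGL 1
          rw [ht]; simp
        map_mul' := by
          intro s s'
          apply Subtype.ext
          apply hinj
          show Matrix.SpecialLinearGroup.toGL (t (s * s')) =
            Matrix.SpecialLinearGroup.toGL (t s * t s')
          have hcomm1 : Matrix.SpecialLinearGroup.toGL s * Matrix.SpecialLinearGroup.toGL (t s') =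
              Matrix.SpecialLinearGroup.toGL (t s') * Matrix.SpecialLinearGroup.toGL s := by
            rw [← map_mul, ← map_mul, Subgroup.mem_center_iff.mp (htc s') s]
          have hcomm2 : t s * t s' = t s' * t s := Subgroup.mem_center_iff.mp (htc s') (t s)
          rw [hcomm2, map_mul (Matrix.SpecialLinearGroup.toGL) (t s') (t s), ht (s * s'), map_mul]
          rw [comm_id1, ← ht s', hcomm1, comm_id2, ← ht s] }, fun s => rfl⟩
    have hφ : ∀ s, φ s = 1 := fun s => hom_center_eq_one hB φ s
    have hcomm : ∀ s : Matrix.SpecialLinearGroup (Fin n) F,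
        Matrix.SpecialLinearGroup.toGL s * g = g * Matrix.SpecialLinearGroup.toGL s := by
      intro s
      have h1 : t s = 1 := by
        rw [← hφdef s, hφ s]; rfl
      have h2 := ht s
      rw [h1, map_one] at h2
      rw [comm_id3 (Matrix.SpecialLinearGroup.toGL s) g, ← h2, one_mul]
    have hsc := Matrix.mem_range_scalar_of_commute_transvectionStruct
      (M := (g : Matrix (Fin n) (Fin n) F)) (fun tr => by
        have h1 := hcomm tr.toSpecialLinearGroup
        have h2 := congrArg (fun x : Matrix.GeneralLinearGroup (Fin n) F =>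
          (x : Matrix (Fin n) (Fin n) F)) h1
        exact h2)
    obtain ⟨c, hc⟩ := hsc
    refine ⟨c, ?_⟩
    rw [← hc]
    ext i j
    simp [Matrix.one_apply, Matrix.diagonal_apply]
  · right
    rintro _ ⟨s, rfl⟩
    have : s ∈ N := by rw [ht]; trivial
    exact this

end Cfsg.Agent.S2540
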