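import Cfsg.Statements.S2541
-- import your own Cfsg.Agent.* helpers here

set_option autoImplicit false
open Cfsg

namespace Cfsg.Agent.S2541

/-- No permutation of six points has order 8. -/
theorem perm_six_orderOf_ne_eight (σ : Equiv.Perm (Fin 6)) : orderOf σ ≠ 8 := by
  intro h
  have hlcm := Equiv.Perm.lcm_cycleType σ
  have hsum := Equiv.Perm.sum_cycleType_le σ
  have hdvd : σ.cycleType.lcm ∣ 4 := by
    apply Multiset.lcm_dvd.mpr
    intro n hn
    have h1 : n ∣ 8 := h ▸ Equiv.Perm.dvd_of_mem_cycleType hn
    have h2 : n ≤ 6 := by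
      have := Multiset.le_sum_of_mem hn
      simp only [Fintype.card_fin] at hsum
      omega
    have h3 : n ≤ 8 := Nat.le_of_dvd (by norm_num) h1
    interval_cases n <;> simp_all
  rw [hlcm, h] at hdvd
  norm_num at hdvd

/-- The diagonal embedding `x ↦ diag(x, 1)` as a monoid hom into matrices. -/
noncomputable def diagHom (F : Type*) [Field F] : F →* Matrix (Fin 2) (Fin 2) F where
  toFun x := Matrix.diagonal ![x, 1]
  map_one' := by
    ext i j
    fin_cases i <;> fin_cases j <;> simp
  map_mul' x y := by
    ext i j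
    fin_cases i <;> fin_cases j <;> simp [Matrix.mul_apply, Fin.sum_univ_two]

theorem diagHom_apply {F : Type*} [Field F] (x : F) : diagHom F x = Matrix.diagonal ![x, 1] := rfl

/-- `u ↦ [diag(u,1)]` from `Fˣ` to `PGL₂(F)`. -/
noncomputable def toPGL (F : Type*) [Field F] : Fˣ →* Matrix.ProjGenLinGroup (Fin 2) F :=
  Matrix.ProjGenLinGroup.mk.comp (Units.map (diagHom F))

theorem toPGL_injective (F : Type*) [Field F] : Function.Injective (toPGL F) := by
  rw [injective_iff_map_eq_one]
  intro u hu
  have h1 : Units.map (diagHom F) u ∈ Subgroup.center (GL (Fin 2) F) := by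
    simpa [toPGL] using hu
  rw [Matrix.GeneralLinearGroup.center_eq_range_scalar] at h1
  obtain ⟨r, hr⟩ := h1
  have h2 : ((Matrix.GeneralLinearGroup.scalar (Fin 2) r : GL (Fin 2) F) : Matrix (Fin 2) (Fin 2) F)
      = Matrix.diagonal ![(u : F), 1] := by
    rw [hr]; rfl
  have h00 := congrFun (congrFun h2 0) 0
  have h11 := congrFun (congrFun h2 1) 1
  simp at h00 h11
  apply Units.ext
  rw [← h00, h11]

/-- Let F be a field with 9 elements. The symmetric group S_6 is not isomorphic to PGL_2(F) (although both have index-2 subgroups isomorphic to A_6). -/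
theorem result {F : Type*} [Field F] [Fintype F] (hF : Fintype.card F = 9) : ¬ Nonempty (Equiv.Perm (Fin 6) ≃* Matrix.ProjGenLinGroup (Fin 2) F) := by
  classical
  rintro ⟨e⟩
  -- a generator of the cyclic group `Fˣ` of order 8
  obtain ⟨a, ha⟩ := IsCyclic.exists_generator (α := Fˣ)
  have hcard : Nat.card Fˣ = 8 := by
    rw [Nat.card_eq_fintype_card, Fintype.card_units, hF]
  have horda : orderOf a = 8 := by
    rw [orderOf_eq_card_of_forall_mem_zpowers ha, hcard]
  have hord : orderOf (toPGL F a) = 8 := by
    rw [orderOf_injective (toPGL F) (toPGL_injective F) a, horda]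
  have hσ : orderOf (e.symm (toPGL F a)) = 8 := by
    rw [MulEquiv.orderOf_eq e.symm, hord]
  exact perm_six_orderOf_ne_eight _ hσ

end Cfsg.Agent.S2541
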