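import Cfsg.Statements.S2543
-- import your own Cfsg.Agent.* helpers here
import Cfsg.Agent.Lib.Helper3.L211.Main
import Cfsg.Agent.Lib.Helper22.PSLCongr

set_option autoImplicit false
open scoped Pointwise
open Cfsg

namespace Cfsg.Agent.S2543

/-- Let F be a field with 11 elements. PSL_2(F) has exactly 22 subgroups isomorphic to the alternating group A_5, and they form two conjugacy classes: there are two such subgroups that are not conjugate, and every such subgroup is conjugate to one of these two. -/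
theorem result {F : Type*} [Field F] [Fintype F] (hF : Fintype.card F = 11) : Nat.card {H : Subgroup (Matrix.ProjectiveSpecialLinearGroup (Fin 2) F) // Nonempty (H ≃* alternatingGroup (Fin 5))} = 22 ∧ ∃ H K : Subgroup (Matrix.ProjectiveSpecialLinearGroup (Fin 2) F), Nonempty (H ≃* alternatingGroup (Fin 5)) ∧ Nonempty (K ≃* alternatingGroup (Fin 5)) ∧ (∀ g : Matrix.ProjectiveSpecialLinearGroup (Fin 2) F, MulAut.conj g • H ≠ K) ∧ ∀ L : Subgroup (Matrix.ProjectiveSpecialLinearGroup (Fin 2) F), Nonempty (L ≃* alternatingGroup (Fin 5)) → ∃ g : Matrix.ProjectiveSpecialLinearGroup (Fin 2) F, MulAut.conj g • L = H ∨ MulAut.conj g • L = K := by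
  haveI : Fact (Nat.Prime 11) := ⟨by norm_num⟩
  obtain ⟨e1⟩ := Cfsg.Agent.Lib.Helper22.PSLCongr.nonempty_pslCongr_of_card_eq (n := Fin 2)
    (K := F) (K' := ZMod 11) (by rw [hF, ZMod.card])
  obtain ⟨e2⟩ := Cfsg.Agent.Lib.Helper10.L211.m11_point_stabilizer_psl2_11
    Cfsg.Agent.Lib.Helper3.L211.dd Cfsg.Agent.Lib.Helper3.L211.dd_mem
    (Cfsg.Agent.Lib.Helper3.Golay.pt 0) (Cfsg.Agent.Lib.Helper3.Golay.pt 5)
    Cfsg.Agent.Lib.Helper3.L211.pt0_mem Cfsg.Agent.Lib.Helper3.L211.pt5_not_mem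
  exact (Cfsg.Agent.Lib.Helper3.L211.modelOfEquiv (e1.trans e2.symm)).main

end Cfsg.Agent.S2543
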