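/-
S2545 (helper15): the Steinberg character of `PSp_{2m}(F)`.  We realise the symplectic group as the
group `SpG m F` of matrices preserving the antidiagonal alternating form, construct its (B,N)-pair
(upper triangular matrices, monomial matrices), take the Steinberg function of that (B,N)-pair
(alternating sum of parabolic permutation characters, helper6), show that it is irreducible, of
degree `|U|`, vanishing on `U \ {1}` for the upper unitriangular group `U`, trivial on the centre,
and that `U` is a Sylow `p`-subgroup (fixed points of `U` on `G/B`).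
-/
import Mathlib
import Cfsg.Statements.S2545
import Cfsg.Agent.Lib.Helper15.SpBNH
import Cfsg.Agent.Lib.Helper13.SLSteinberg
import Cfsg.Agent.Lib.Lead.CharMore

set_option autoImplicit false
open Cfsg

namespace Cfsg.Agent.S2545

open Matrix Equiv Cfsg.Agent.Lib.Helper3.BN Cfsg.Agent.Lib.Helper6.BNSt
  Cfsg.Agent.Lib.Helper6.GLBN Cfsg.Agent.Lib.Helper15.SpBN

section aux

variable {m : ℕ} {F : Type*} [Field F]

/-- the projection of `SpG m F` onto `PSp_{2m}(F)` -/
noncomputable def proj (m : ℕ) (F : Type*) [Field F] : ↥(SpG m F) →* Cfsg.PSp m F :=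
  (QuotientGroup.mk' (Subgroup.center (Matrix.symplecticGroup (Fin m) F))).comp
    (toSpEquiv m F).toMonoidHom

lemma proj_surjective : Function.Surjective (proj m F) := by
  intro x
  obtain ⟨g, rfl⟩ := QuotientGroup.mk_surjective x
  exact ⟨(toSpEquiv m F).symm g, by simp [proj]⟩

lemma proj_apply (g : ↥(SpG m F)) :
    proj m F g = QuotientGroup.mk (toSpEquiv m F g) := rfl

lemma mem_center_of_equiv {g : ↥(SpG m F)}
    (h : toSpEquiv m F g ∈ Subgroup.center (Matrix.symplecticGroup (Fin m) F)) :
    g ∈ Subgroup.center ↥(SpG m F) := by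
  rw [Subgroup.mem_center_iff] at h ⊢
  intro x
  apply (toSpEquiv m F).injective
  rw [map_mul, map_mul]
  exact h _

lemma proj_eq_one_iff {g : ↥(SpG m F)} (h : proj m F g = 1) : g ∈ Subgroup.center ↥(SpG m F) := by
  rw [proj_apply, QuotientGroup.eq_one_iff] at h
  exact mem_center_of_equiv h

end aux

/-- Let F be a finite field of characteristic p and consider the projective symplectic group PSp_{2m}(F) with m ≥ 1. This group has an irreducible complex character χ whose degree equals the order of a Sylow p-subgroup (namely q^(m²) when #F = q) and whose restriction to any Sylow p-subgroup P is the regular character of P: χ vanishes on the non-identity elements of P. (This is the Steinberg character.) -/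
theorem result {F : Type*} [Field F] [Fintype F] (p : ℕ) [Fact p.Prime] [CharP F p] (m : ℕ) (hm : 1 ≤ m) : ∃ χ : Cfsg.PSp m F → ℂ, Cfsg.IsIrrCharacter (Cfsg.PSp m F) χ ∧ ∀ P : Sylow p (Cfsg.PSp m F), χ 1 = Nat.card P ∧ ∀ x : Cfsg.PSp m F, x ∈ P → x ≠ 1 → χ x = 0 := by
  classical
  have : Fintype ↥(SpG m F) := Fintype.ofFinite _
  have : Finite (Matrix.symplecticGroup (Fin m) F) := Finite.of_equiv _ (toSpEquiv m F).toEquiv
  -- the Steinberg function
  have hirrG : IsIrrCharacter ↥(SpG m F) (stSp m F) :=
    isIrrCharacter_stFun (spBN m F) (SfinSp m F) coe_SfinSp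
  have hirr : IsIrrCharacter (Matrix.symplecticGroup (Fin m) F)
      (stSp m F ∘ (toSpEquiv m F).symm) :=
    Cfsg.Agent.CharLib.IsIrrCharacter.comp_mulEquiv hirrG (toSpEquiv m F).symm
  have hcenG : ∀ z ∈ Subgroup.center ↥(SpG m F), stSp m F z = stSp m F 1 := by
    intro z hz
    exact stFun_central (spBN m F) (SfinSp m F) hz (center_le_BG hz)
  have hcen : ∀ z ∈ Subgroup.center (Matrix.symplecticGroup (Fin m) F),
      (stSp m F ∘ (toSpEquiv m F).symm) z = (stSp m F ∘ (toSpEquiv m F).symm) 1 := by
    intro z hz
    rw [Function.comp_apply, Function.comp_apply, map_one]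
    apply hcenG
    apply mem_center_of_equiv
    rw [MulEquiv.apply_symm_apply]
    exact hz
  obtain ⟨χ, hχ, hχθ⟩ := Cfsg.Agent.Lib.Helper13.exists_deflate
    (Subgroup.center (Matrix.symplecticGroup (Fin m) F)) hirr hcen
  have hχproj : ∀ g : ↥(SpG m F), χ (proj m F g) = stSp m F g := by
    intro g
    rw [proj_apply, hχθ, Function.comp_apply, MulEquiv.symm_apply_apply]
  refine ⟨χ, hχ, ?_⟩
  intro P
  have hcl : IsClassFunction _ χ :=
    Cfsg.Agent.CharLib.IsCharacter.isClassFunction (Cfsg.Agent.CharLib.IsIrrCharacter.isCharacter hχ)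
  -- the image of the unitriangular group is a Sylow subgroup
  set P₀ : Sylow p (Cfsg.PSp m F) := (sylowUG m F p).mapSurjective proj_surjective with hP₀
  have hP₀coe : (P₀ : Subgroup (Cfsg.PSp m F)) = (UG m F).map (proj m F) := by
    rw [hP₀, Sylow.coe_mapSurjective, coe_sylowUG]
  obtain ⟨y, hy⟩ := MulAction.exists_smul_eq (Cfsg.PSp m F) P₀ P
  -- the degree is positive
  have hUpos : 0 < Nat.card (UG m F) := Nat.card_pos
  -- `proj` is injective on the unitriangular group
  have hinj : ∀ u ∈ UG m F, proj m F u = 1 → u = 1 := by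
    intro u hu h1
    by_contra hne
    have h2 := stSp_unipotent hu hne
    have h3 := hcenG u (proj_eq_one_iff h1)
    rw [h2, stSp_one] at h3
    have : (Nat.card (UG m F) : ℂ) ≠ 0 := Nat.cast_ne_zero.mpr hUpos.ne'
    exact this h3.symm
  have hcardU : Nat.card ((UG m F).map (proj m F)) = Nat.card (UG m F) := by
    symm
    apply Nat.card_congr
    refine Equiv.ofBijective ((proj m F).subgroupMap (UG m F)) ⟨?_, ?_⟩
    · rw [← MonoidHom.ker_eq_bot_iff, eq_bot_iff]
      intro u hu
      rw [MonoidHom.mem_ker] at hu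
      have h1 : proj m F (u : ↥(SpG m F)) = 1 := congrArg Subtype.val hu
      rw [Subgroup.mem_bot]
      exact Subtype.ext (hinj u u.2 h1)
    · exact MonoidHom.subgroupMap_surjective _ _
  constructor
  · have h1 : χ 1 = stSp m F 1 := by
      have := hχproj 1
      rw [map_one] at this
      exact this
    rw [h1, stSp_one, ← hcardU, ← hP₀coe]
    congr 1
    have e1 := Sylow.card_eq_multiplicity P₀
    have e2 := Sylow.card_eq_multiplicity P
    exact e1.trans e2.symm
  · intro x hx hx1
    have hxP : x ∈ ((y • P₀ : Sylow p _) : Subgroup _) := by rw [hy]; exact hx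
    rw [Sylow.coe_subgroup_smul, Subgroup.mem_pointwise_smul_iff_inv_smul_mem, hP₀coe] at hxP
    obtain ⟨u, hu, hux⟩ := hxP
    have hconj : (MulAut.conj y)⁻¹ • x = y⁻¹ * x * y := by
      rw [MulAut.smul_def, MulAut.conj_inv_apply]
    rw [hconj] at hux
    have hxu : x = y * proj m F u * y⁻¹ := by rw [hux]; group
    rw [hxu, hcl (proj m F u) y, hχproj]
    apply stSp_unipotent hu
    intro h
    apply hx1
    rw [hxu, h, map_one]
    group

end Cfsg.Agent.S2545
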