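/-
S2546 (helper15): the Steinberg character of `PSU_n(q)`.  We work in the general unitary group
`GUJ σ n` of the hermitian form with antidiagonal Gram matrix, construct its (B,N)-pair (upper
triangular matrices, monomial matrices), take the Steinberg function of that (B,N)-pair
(alternating sum of parabolic permutation characters, helper6), restrict it to the special unitary
group (still irreducible), push it down to the projective group (helper16's model `PGJ`, whose
unitriangular image is a Sylow `p`-subgroup), and transfer it to `PSU_n(q)` along helper16's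
isomorphism.
-/
import Mathlib
import Cfsg.Statements.S2546
import Cfsg.Agent.Lib.Helper15.UnBNL
import Cfsg.Agent.Lib.Helper16.FusSUM

set_option autoImplicit false
open Cfsg

namespace Cfsg.Agent.S2546

open Cfsg.Agent.Lib.Helper16.FusSU Cfsg.Agent.Lib.Helper15.UnBN
open Cfsg.Agent.Lib.Helper5.HermBridge (frobHom)

/-- Let F be a finite field of characteristic p and consider the projective special unitary group PSU_n(q), n ≥ 2, realised over the field F with q² elements. This group has an irreducible complex character χ whose degree equals the order of a Sylow p-subgroup (namely q^(n(n−1)/2)) and whose restriction to any Sylow p-subgroup P is the regular character of P: χ vanishes on the non-identity elements of P. (This is the Steinberg character.) -/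
theorem result {F : Type*} [Field F] [Fintype F] (p : ℕ) [Fact p.Prime] [CharP F p] (n q : ℕ) (hn : 2 ≤ n) (hF : Fintype.card F = q ^ 2) : ∃ χ : Cfsg.PSU n F q → ℂ, Cfsg.IsIrrCharacter (Cfsg.PSU n F q) χ ∧ ∀ P : Sylow p (Cfsg.PSU n F q), χ 1 = Nat.card P ∧ ∀ x : Cfsg.PSU n F q, x ∈ P → x ≠ 1 → χ x = 0 := by
  classical
  obtain ⟨m, rfl⟩ : ∃ m, n = m + 2 := ⟨n - 2, by omega⟩
  obtain ⟨ζ, τ, -, hτ, hζ⟩ := Cfsg.Agent.Lib.Helper18.PSUMod.exists_consts hF
  have hσ : InvOK (frobHom hF) := invOK_frob hF
  have e : PGJ (frobHom hF) (m + 2) ≃* Cfsg.PSU (m + 2) F q :=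
    (QuotientGroup.congr (Subgroup.center (Cfsg.SU (m + 2) F q)) (ZJ (frobHom hF) (m + 2))
      (suIso hF (m + 2) hζ hτ) (map_center_suIso hF m hζ hτ)).symm
  obtain ⟨χ₁, hχ₁, h1, h0⟩ := exists_steinberg_PGJ hσ (n := m + 2) (by omega)
  exact steinberg_transfer e p (UbJ (frobHom hF) (m + 2)) (card_UbJ p hσ (by omega)) hχ₁ h1 h0

end Cfsg.Agent.S2546
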