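/-
S2547 (helper15): the Steinberg character of `PΩ_{2m+1}(q)`, `q` odd.  The isometry group of
`quadFormOdd m F` is isomorphic to the group `GUJ (RingHom.id F) (2m+1)` of the matrices preserving
the symmetric bilinear form with antidiagonal Gram matrix (reindexing and a diagonal scaling).  The
(B,N)-pair of that group is the case `σ = id` of the unitary (B,N)-pair (helper15 `UnBN`); the
Steinberg function (helper6) restricted to the commutator subgroup `Ω` is irreducible because
`G = Ω T` (the unitriangular group lies in `Ω` by a coprime action argument with the diagonal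
involutions), it is constant on the centre of `Ω` (scalar matrices), and the unitriangular group is
a Sylow `p`-subgroup (unique fixed point on `G/B`).
-/
import Mathlib
import Cfsg.Statements.S2547
import Cfsg.Agent.Lib.Helper15.OrBNH
import Cfsg.Agent.Lib.Helper15.OrBNE
import Cfsg.Agent.Lib.Helper15.OrBNI

set_option autoImplicit false
open Cfsg

namespace Cfsg.Agent.S2547

/-- Let F be a finite field of characteristic p and consider the group PΩ_{2m+1}(F) of the quadratic form x₀² + Σ x_i y_i, where m ≥ 1 and #F is odd. This group has an irreducible complex character χ whose degree equals the order of a Sylow p-subgroup (namely q^(m²) when #F = q) and whose restriction to any Sylow p-subgroup P is the regular character of P: χ vanishes on the non-identity elements of P. (This is the Steinberg character.) -/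
theorem result {F : Type*} [Field F] [Fintype F] (p : ℕ) [Fact p.Prime] [CharP F p] (hodd : Odd (Fintype.card F)) (m : ℕ) (hm : 1 ≤ m) : ∃ χ : Cfsg.POmega F (Cfsg.quadFormOdd m F) → ℂ, Cfsg.IsIrrCharacter (Cfsg.POmega F (Cfsg.quadFormOdd m F)) χ ∧ ∀ P : Sylow p (Cfsg.POmega F (Cfsg.quadFormOdd m F)), χ 1 = Nat.card P ∧ ∀ x : Cfsg.POmega F (Cfsg.quadFormOdd m F), x ∈ P → x ≠ 1 → χ x = 0 := by
  have hp : p.Prime := Fact.out
  have hp2 : p ≠ 2 := by
    intro h
    obtain ⟨k, -, hk⟩ := FiniteField.card F p
    rw [hk, h] at hodd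
    have : Even (2 ^ (k : ℕ)) := (Nat.even_pow.mpr ⟨even_two, k.ne_zero⟩)
    exact (Nat.not_even_iff_odd.mpr hodd) this
  have h2 : (2 : F) ≠ 0 := by
    intro h
    have h' : ((2 : ℕ) : F) = 0 := by exact_mod_cast h
    rw [CharP.cast_eq_zero_iff F p 2] at h'
    exact hp2 ((Nat.prime_dvd_prime_iff_eq hp Nat.prime_two).mp h')
  obtain ⟨e₀⟩ := Cfsg.Agent.Lib.Helper15.OrBN.nonempty_isometry_equiv h2 m
  exact Cfsg.Agent.Lib.Helper15.OrBN.steinberg_orth p hp2 h2 (n := 2 * m + 1) ⟨m, rfl⟩
    (Cfsg.Agent.Lib.Helper15.OrBN.centralQuotientCommutatorEquiv e₀).symm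

end Cfsg.Agent.S2547
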