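/-
S2548 (helper15): the Steinberg character of `PΩ⁺_{2m}(q)`.  The isometry group of
`quadFormPlus m F` is isomorphic (reindexing) to the group `OQ F (2m)` of the hyperbolic form with
pairs `(i, rev i)`.  The subgroup `SOQ` generated by the upper triangular subgroup and the even
monomial subgroup has a (B,N)-pair of type `D_m` (helper15 `DnBN`, built on the unitary/orthogonal
root elements of `UnBN`); the Steinberg function (helper6) restricted to the commutator subgroup
`Ω` is irreducible because `SOQ = Ω T` (root elements are commutators when `q > 2` or `m ≥ 3`), it
is constant on the centre of `Ω` (scalar matrices), and the unitriangular group is a Sylow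
`p`-subgroup.  Degenerate cases: `m = 1` (`Ω` is commutative, so `PΩ` is trivial) and
`(m, q) = (2, 2)` (`Ω` has order 18 and trivial centre: a Frobenius group with an irreducible
character of degree 2 induced from its abelian kernel of order 9).
-/
import Mathlib
import Cfsg.Statements.S2548
import Cfsg.Agent.Lib.Helper15.DnBNK
import Cfsg.Agent.Lib.Helper15.DnBNL
import Cfsg.Agent.Lib.Helper15.St18C

set_option autoImplicit false
open Cfsg

namespace Cfsg.Agent.S2548

/-- Let F be a finite field of characteristic p and consider the group PΩ⁺_{2m}(F) of the hyperbolic quadratic form Σ x_i y_i with m ≥ 1, where Ω denotes the commutator subgroup of the full isometry group. This group has an irreducible complex character χ whose degree equals the order of a Sylow p-subgroup (equal to q^(m(m−1)) when #F = q, except in the degenerate case m = 2, q = 2, where this commutator subgroup has order 18 and its Sylow 2-subgroups have order 2) and whose restriction to any Sylow p-subgroup P is the regular character of P: χ vanishes on the non-identity elements of P. (This is the Steinberg character.) -/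
theorem result {F : Type*} [Field F] [Fintype F] (p : ℕ) [Fact p.Prime] [CharP F p] (m : ℕ) (hm : 1 ≤ m) : ∃ χ : Cfsg.POmega F (Cfsg.quadFormPlus m F) → ℂ, Cfsg.IsIrrCharacter (Cfsg.POmega F (Cfsg.quadFormPlus m F)) χ ∧ ∀ P : Sylow p (Cfsg.POmega F (Cfsg.quadFormPlus m F)), χ 1 = Nat.card P ∧ ∀ x : Cfsg.POmega F (Cfsg.quadFormPlus m F), x ∈ P → x ≠ 1 → χ x = 0 := by
  classical
  have hp : p.Prime := Fact.out
  rcases Nat.eq_or_lt_of_le hm with h1 | h2
  · subst h1
    exact Cfsg.Agent.Lib.Helper15.DnBN.steinberg_POmega_plus_one p
  · by_cases hgood : Cfsg.Agent.Lib.Helper15.DnBN.GoodD F (2 * m)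
    · exact Cfsg.Agent.Lib.Helper15.DnBN.steinberg_POmega_plus p m h2 hgood
    · unfold Cfsg.Agent.Lib.Helper15.DnBN.GoodD at hgood
      rw [not_or] at hgood
      obtain ⟨hF, hm6⟩ := hgood
      have hm2 : m = 2 := by omega
      subst hm2
      have h01 : ∀ a : F, a = 0 ∨ a = 1 := by
        intro a
        by_contra h
        rw [not_or] at h
        exact hF ⟨a, h.1, h.2⟩
      have hcard : Fintype.card F = 2 := by
        apply le_antisymm
        · have hsub : (Finset.univ : Finset F) ⊆ {0, 1} := by
            intro a _
            rcases h01 a with h | h
            · rw [h]; simp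
            · rw [h]; simp
          calc Fintype.card F = (Finset.univ : Finset F).card := Finset.card_univ.symm
            _ ≤ ({0, 1} : Finset F).card := Finset.card_le_card hsub
            _ ≤ 2 := Finset.card_le_two
        · exact Fintype.one_lt_card
      have hp2 : p = 2 := by
        have h0 : ((2 : ℕ) : F) = 0 := by
          rw [← hcard]
          exact Nat.cast_card_eq_zero F
        rw [CharP.cast_eq_zero_iff F p 2] at h0
        exact (Nat.prime_dvd_prime_iff_eq hp Nat.prime_two).mp h0
      subst hp2
      exact Cfsg.Agent.Lib.Helper15.St18.steinberg_plus_two_two hcard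

end Cfsg.Agent.S2548
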