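import Cfsg.Statements.S2551
import Cfsg.Agent.Lib.Helper19.A7Iso
import Cfsg.Agent.Lib.Helper19.A7Trans

set_option autoImplicit false
open Cfsg

namespace Cfsg.Agent.S2551

/-- Let F be the field with 2 elements. GL_4(F) (≅ A_8) has a subgroup isomorphic to the alternating group A_7, and every such subgroup acts 2-transitively on the 15 non-zero vectors of F⁴: any ordered pair of distinct non-zero vectors is carried to any other by some element of the subgroup. -/
theorem result {F : Type*} [Field F] [Fintype F] (hF : Fintype.card F = 2) : (∃ H : Subgroup (Matrix.GeneralLinearGroup (Fin 4) F), Nonempty (H ≃* alternatingGroup (Fin 7))) ∧ ∀ H : Subgroup (Matrix.GeneralLinearGroup (Fin 4) F), Nonempty (H ≃* alternatingGroup (Fin 7)) → ∀ v w v' w' : Fin 4 → F, v ≠ 0 → w ≠ 0 → v ≠ w → v' ≠ 0 → w' ≠ 0 → v' ≠ w' → ∃ g ∈ H, (g : Matrix (Fin 4) (Fin 4) F).mulVec v = v' ∧ (g : Matrix (Fin 4) (Fin 4) F).mulVec w = w' := by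
  classical
  let ψ : ZMod 2 ≃+* F := ZMod.ringEquivOfPrime F Nat.prime_two hF
  let φ : F ≃+* ZMod 2 := ψ.symm
  let Φ : Matrix.GeneralLinearGroup (Fin 4) F ≃* Matrix.GeneralLinearGroup (Fin 4) (ZMod 2) :=
    Units.mapEquiv (RingEquiv.mapMatrix φ).toMulEquiv
  have hΦ : ∀ g : Matrix.GeneralLinearGroup (Fin 4) F,
      ((Φ g : Matrix.GeneralLinearGroup (Fin 4) (ZMod 2)) : Matrix (Fin 4) (Fin 4) (ZMod 2)) =
        (g : Matrix (Fin 4) (Fin 4) F).map φ := fun g => rfl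
  constructor
  · obtain ⟨H₀, ⟨e₀⟩⟩ := Cfsg.Agent.Lib.Helper19.A7Iso.exists_A7
    exact ⟨H₀.map Φ.symm.toMonoidHom, ⟨(MulEquiv.subgroupMap Φ.symm H₀).symm.trans e₀⟩⟩
  · rintro H ⟨e⟩ v w v' w' hv hw hvw hv' hw' hvw'
    have e₀ : (H.map Φ.toMonoidHom : Subgroup (Matrix.GeneralLinearGroup (Fin 4) (ZMod 2))) ≃*
        alternatingGroup (Fin 7) := (MulEquiv.subgroupMap Φ H).symm.trans e
    have h2 := Cfsg.Agent.Lib.Helper19.A7Trans.main _ e₀
    have hne : ∀ u : Fin 4 → F, u ≠ 0 → (φ ∘ u : Fin 4 → ZMod 2) ≠ 0 := by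
      intro u hu h
      apply hu
      funext i
      have := congrFun h i
      simp only [Function.comp_apply, Pi.zero_apply] at this
      exact (map_eq_zero_iff φ φ.injective).mp this
    have hinj : ∀ u u' : Fin 4 → F, (φ ∘ u : Fin 4 → ZMod 2) = φ ∘ u' → u = u' := by
      intro u u' h
      funext i
      exact φ.injective (congrFun h i)
    obtain ⟨g₀, hg₀, e1, e2⟩ := h2 (φ ∘ v) (φ ∘ w) (φ ∘ v') (φ ∘ w') (hne v hv) (hne w hw)
      (fun h => hvw (hinj v w h)) (hne v' hv') (hne w' hw') (fun h => hvw' (hinj v' w' h))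
    obtain ⟨g, hg, rfl⟩ := Subgroup.mem_map.mp hg₀
    have hmv : ∀ u : Fin 4 → F, Matrix.mulVec ((g : Matrix (Fin 4) (Fin 4) F).map φ) (φ ∘ u) =
        φ ∘ (Matrix.mulVec (g : Matrix (Fin 4) (Fin 4) F) u) := by
      intro u
      funext i
      exact (RingHom.map_mulVec (φ : F →+* ZMod 2) (g : Matrix (Fin 4) (Fin 4) F) u i).symm
    refine ⟨g, hg, ?_, ?_⟩
    · apply hinj
      rw [← hmv]
      exact e1
    · apply hinj
      rw [← hmv]
      exact e2

end Cfsg.Agent.S2551
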