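import Cfsg.Statements.S2552
-- import your own Cfsg.Agent.* helpers here
import Mathlib

set_option autoImplicit false
open Cfsg

namespace Cfsg.Agent.S2552

/-- Let F be a finite field and n ≥ 1. For every k, the special linear group SL_n(F) acts transitively on the set of k-dimensional subspaces of F^n: any two subspaces of the same dimension are carried onto each other by some matrix of determinant 1. -/
theorem result {F : Type*} [Field F] [Fintype F] (n : ℕ) (hn : 1 ≤ n) (U₁ U₂ : Submodule F (Fin n → F)) (h : Module.finrank F U₁ = Module.finrank F U₂) : ∃ g : Matrix.SpecialLinearGroup (Fin n) F, U₁.map ((Matrix.SpecialLinearGroup.toLin' g : (Fin n → F) ≃ₗ[F] (Fin n → F)) : (Fin n → F) →ₗ[F] (Fin n → F)) = U₂ := by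
  classical
  by_cases hU₂ : U₂ = ⊥
  · have hU₁ : U₁ = ⊥ := by
      rw [hU₂, finrank_bot] at h
      exact Submodule.finrank_eq_zero.mp h
    refine ⟨1, ?_⟩
    rw [hU₁, hU₂, Submodule.map_bot]
  -- a linear automorphism carrying `U₁` into `U₂`
  obtain ⟨W₁, hW₁⟩ := Submodule.exists_isCompl U₁
  obtain ⟨W₂, hW₂⟩ := Submodule.exists_isCompl U₂
  have hfW : Module.finrank F W₁ = Module.finrank F W₂ := by
    have h1 := Submodule.finrank_add_eq_of_isCompl hW₁
    have h2 := Submodule.finrank_add_eq_of_isCompl hW₂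
    omega
  let eU : U₁ ≃ₗ[F] U₂ := LinearEquiv.ofFinrankEq _ _ h
  let eW : W₁ ≃ₗ[F] W₂ := LinearEquiv.ofFinrankEq _ _ hfW
  let e : (Fin n → F) ≃ₗ[F] (Fin n → F) :=
    (Submodule.prodEquivOfIsCompl U₁ W₁ hW₁).symm ≪≫ₗ (eU.prodCongr eW) ≪≫ₗ
      (Submodule.prodEquivOfIsCompl U₂ W₂ hW₂)
  have he : ∀ u ∈ U₁, e u ∈ U₂ := by
    intro u hu
    have h1 : e u = (eU ⟨u, hu⟩ : Fin n → F) := by
      have h2 : (Submodule.prodEquivOfIsCompl U₁ W₁ hW₁).symm u = ((⟨u, hu⟩ : ↥U₁), (0 : ↥W₁)) :=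
        Submodule.prodEquivOfIsCompl_symm_apply_left U₁ W₁ hW₁ ⟨u, hu⟩
      simp only [e, LinearEquiv.trans_apply, h2, LinearEquiv.prodCongr_apply, Prod.map_apply,
        map_zero, Submodule.coe_prodEquivOfIsCompl', Submodule.coe_zero, add_zero]
    rw [h1]
    exact (eU ⟨u, hu⟩).2
  -- a non-zero vector of `U₂`
  obtain ⟨v, hvU, hv0⟩ := Submodule.exists_mem_ne_zero_of_ne_bot hU₂
  obtain ⟨i, hi⟩ := Function.ne_iff.mp hv0
  simp only [Pi.zero_apply] at hi
  -- the determinant of `e`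
  have hd : LinearMap.det (e : (Fin n → F) →ₗ[F] (Fin n → F)) ≠ 0 :=
    (LinearEquiv.isUnit_det' e).ne_zero
  set d := LinearMap.det (e : (Fin n → F) →ₗ[F] (Fin n → F)) with hd_def
  -- the correcting matrix
  let H : Matrix (Fin n) (Fin n) F :=
    1 + Matrix.vecMulVec ((d⁻¹ - 1) • v) (Pi.single i (v i)⁻¹)
  have hHdet : H.det = d⁻¹ := by
    have h1 : H = 1 + Matrix.replicateCol Unit ((d⁻¹ - 1) • v) *
        Matrix.replicateRow Unit (Pi.single i (v i)⁻¹) := by
      simp only [H, Matrix.vecMulVec_eq Unit]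
    rw [h1, Matrix.det_one_add_replicateCol_mul_replicateRow]
    simp only [single_dotProduct, Pi.smul_apply, smul_eq_mul]
    field_simp
    ring
  have hHU : ∀ x ∈ U₂, H.mulVec x ∈ U₂ := by
    intro x hx
    simp only [H, Matrix.add_mulVec, Matrix.one_mulVec, Matrix.vecMulVec_mulVec]
    apply U₂.add_mem hx
    rw [op_smul_eq_smul]
    exact U₂.smul_mem _ (U₂.smul_mem _ hvU)
  have hM : (H * LinearMap.toMatrix' (e : (Fin n → F) →ₗ[F] (Fin n → F))).det = 1 := by
    rw [Matrix.det_mul, hHdet, LinearMap.det_toMatrix']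
    exact inv_mul_cancel₀ hd
  let g : Matrix.SpecialLinearGroup (Fin n) F :=
    ⟨H * LinearMap.toMatrix' (e : (Fin n → F) →ₗ[F] (Fin n → F)), hM⟩
  refine ⟨g, ?_⟩
  apply Submodule.eq_of_le_of_finrank_eq
  · rintro _ ⟨u, hu, rfl⟩
    have h1 : (Matrix.SpecialLinearGroup.toLin' g : (Fin n → F) →ₗ[F] (Fin n → F)) u =
        H.mulVec (e u) := by
      change Matrix.toLin' (H * LinearMap.toMatrix' (e : (Fin n → F) →ₗ[F] (Fin n → F))) u = _
      rw [Matrix.toLin'_apply, ← Matrix.mulVec_mulVec]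
      congr 1
      rw [← Matrix.toLin'_apply, Matrix.toLin'_toMatrix']
      rfl
    rw [h1]
    exact hHU _ (he u hu)
  · rw [LinearEquiv.finrank_map_eq, h]

end Cfsg.Agent.S2552
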