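import Cfsg.Statements.S2553
import Cfsg.Agent.Lib.Helper20.A8SubM
import Cfsg.Agent.Lib.Helper20.A8SubF
import Cfsg.Agent.Lib.Helper26.EmbA8

set_option autoImplicit false
open Cfsg

namespace Cfsg.Agent.S2553

open Cfsg.Agent.Lib.Helper20.A8Sub in
/-- Let H be a nontrivial subgroup of GL(4,2) (a group isomorphic to the alternating group of degree 8) whose largest normal 2-subgroup and largest normal subgroup of odd order are both trivial. Then H is isomorphic to an alternating group of degree n for some 5 ≤ n ≤ 8, to the symmetric group of degree 5 or 6, or to GL(3,2). -/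
theorem result (H : Subgroup (GL (Fin 4) (ZMod 2))) (hH : H ≠ ⊥) (hO : Cfsg.pPrimeCore 2 ↥H = ⊥) (hO2 : Cfsg.pCore 2 ↥H = ⊥) :
    (∃ n : ℕ, 5 ≤ n ∧ n ≤ 8 ∧ Nonempty (↥H ≃* alternatingGroup (Fin n))) ∨
    Nonempty (↥H ≃* Equiv.Perm (Fin 5)) ∨ Nonempty (↥H ≃* Equiv.Perm (Fin 6)) ∨ Nonempty (↥H ≃* GL (Fin 3) (ZMod 2)) := by
  obtain ⟨f, hf⟩ := Cfsg.Agent.Lib.Helper26.EmbA8.exists_gl_embed
  let φ : H →* Equiv.Perm (Fin 8) := (alternatingGroup (Fin 8)).subtype.comp (f.comp H.subtype)
  have hφ : Function.Injective φ :=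
    (alternatingGroup (Fin 8)).subtype_injective.comp (hf.comp H.subtype_injective)
  have heven : ∀ h, Equiv.Perm.sign (φ h) = 1 := by
    intro h
    exact Equiv.Perm.mem_alternatingGroup.1 (f (h : GL (Fin 4) (ZMod 2))).2
  haveI : Nontrivial H := (Subgroup.nontrivial_iff_ne_bot H).2 hH
  have hcore : ∀ (p : ℕ) (A : Subgroup H), p.Prime → A.Normal → IsPGroup p A → A = ⊥ := by
    intro p A hp hA hAp
    by_cases hp2 : p = 2
    · subst hp2
      have h1 : A ≤ Cfsg.pCore 2 ↥H := le_sSup ⟨hA, hAp⟩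
      rw [hO2] at h1
      exact le_bot_iff.1 h1
    · have hcop : (Nat.card A).Coprime 2 := by
        haveI : Fact p.Prime := ⟨hp⟩
        obtain ⟨k, hk⟩ := IsPGroup.iff_card.1 hAp
        rw [hk]
        apply Nat.Coprime.pow_left
        exact (Nat.coprime_primes hp Nat.prime_two).2 hp2
      have h1 : A ≤ Cfsg.pPrimeCore 2 ↥H := le_sSup ⟨hA, hcop⟩
      rw [hO] at h1
      exact le_bot_iff.1 h1
  have hsol : ∀ N : Subgroup H, N.Normal → Group.IsSolvable N → N = ⊥ :=
    fun N hN hs => eq_bot_of_solvable_normal hcore N hN hs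
  have h1344 : ∀ K : Subgroup H, Nat.card K = 1344 → ¬ IsSimpleGroup K := by
    intro K hK hsimple
    have e : K ≃* K.map H.subtype := K.equivMapOfInjective H.subtype H.subtype_injective
    haveI : Nontrivial (K.map H.subtype) := e.symm.toEquiv.nontrivial
    have hs2 : IsSimpleGroup (K.map H.subtype) :=
      IsSimpleGroup.isSimpleGroup_of_surjective e.toMonoidHom e.surjective
    refine not_simple_of_card_1344 (K.map H.subtype) ?_ hs2
    rw [← Nat.card_congr e.toEquiv, hK]
  exact main φ hφ heven hsol h1344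

end Cfsg.Agent.S2553
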