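import Cfsg.Statements.S2564
-- import your own Cfsg.Agent.* helpers here
import Cfsg.Agent.Lib.Helper15.ArfSum

set_option autoImplicit false
open Cfsg

namespace Cfsg.Agent.S2564

/-- On the 2m-dimensional space over the field of two elements (m ≥ 1) let f be the alternating form obtained by polarizing the plus-type form Σ xᵢyᵢ, and let q be any quadratic form polarizing to f. For a vector w, the function q + f(·, w) again polarizes to f, and it is equivalent to q under an invertible linear map (that is, has the same type) if and only if q(w) = 0. -/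
theorem result (m : ℕ) (hm : 1 ≤ m) (q : (Fin m ⊕ Fin m → ZMod 2) → ZMod 2) (hq : (∀ u v : (Fin m ⊕ Fin m → ZMod 2), q (u + v) = q u + q v + (Cfsg.quadFormPlus m (ZMod 2) (u + v) - Cfsg.quadFormPlus m (ZMod 2) u - Cfsg.quadFormPlus m (ZMod 2) v))) (w : (Fin m ⊕ Fin m → ZMod 2)) :
    (∀ u v : (Fin m ⊕ Fin m → ZMod 2), (q (u + v) + (Cfsg.quadFormPlus m (ZMod 2) (u + v + w) - Cfsg.quadFormPlus m (ZMod 2) (u + v) - Cfsg.quadFormPlus m (ZMod 2) w)) =
        (q u + (Cfsg.quadFormPlus m (ZMod 2) (u + w) - Cfsg.quadFormPlus m (ZMod 2) u - Cfsg.quadFormPlus m (ZMod 2) w)) + (q v + (Cfsg.quadFormPlus m (ZMod 2) (v + w) - Cfsg.quadFormPlus m (ZMod 2) v - Cfsg.quadFormPlus m (ZMod 2) w)) +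
        (Cfsg.quadFormPlus m (ZMod 2) (u + v) - Cfsg.quadFormPlus m (ZMod 2) u - Cfsg.quadFormPlus m (ZMod 2) v)) ∧
    ((∃ g : (Fin m ⊕ Fin m → ZMod 2) ≃ₗ[ZMod 2] (Fin m ⊕ Fin m → ZMod 2), ∀ v, q v + (Cfsg.quadFormPlus m (ZMod 2) (v + w) - Cfsg.quadFormPlus m (ZMod 2) v - Cfsg.quadFormPlus m (ZMod 2) w) = q (g v)) ↔ q w = 0) := by
  classical
  have hq' : ∀ u v, q (u + v) = q u + q v + Lib.Helper15.plusPolar m u v := hq
  have hfl := Lib.Helper15.plusPolar_add_left m
  have hf0 := Lib.Helper15.plusPolar_self m
  have hfc := Lib.Helper15.plusPolar_comm m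
  have hq0 : q 0 = 0 := by
    have := hq' 0 0
    rw [add_zero, hf0 0, add_zero] at this
    exact left_eq_add.mp this
  have hf0l : ∀ v, Lib.Helper15.plusPolar m 0 v = 0 := by
    intro v
    have := hfl 0 0 v
    rw [add_zero] at this
    exact left_eq_add.mp this
  constructor
  · intro u v
    show q (u + v) + Lib.Helper15.plusPolar m (u + v) w
      = (q u + Lib.Helper15.plusPolar m u w) + (q v + Lib.Helper15.plusPolar m v w)
        + Lib.Helper15.plusPolar m u v
    rw [hq' u v, hfl]
    ring
  · show (∃ g : (Fin m ⊕ Fin m → ZMod 2) ≃ₗ[ZMod 2] (Fin m ⊕ Fin m → ZMod 2),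
      ∀ v, q v + Lib.Helper15.plusPolar m v w = q (g v)) ↔ q w = 0
    constructor
    · rintro ⟨g, hg⟩
      by_contra hw
      have h1 : Lib.Helper15.arfSum (fun v => q v + Lib.Helper15.plusPolar m v w)
          = Lib.Helper15.arfSum q := by
        have : (fun v => q v + Lib.Helper15.plusPolar m v w) = fun v => q (g.toEquiv v) := by
          funext v; exact hg v
        rw [this]
        exact Lib.Helper15.arfSum_comp_equiv q g.toEquiv
      rw [Lib.Helper15.arfSum_shift _ q hq' w, Lib.Helper15.chi2_ne_zero hw] at h1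
      have h2 : Lib.Helper15.arfSum q = 0 := by linarith
      have h3 := Lib.Helper15.arfSum_sq _ q hfl hf0 (Lib.Helper15.plusPolar_nondeg m) hq'
      rw [h2, mul_zero] at h3
      have : (0 : ℤ) < Fintype.card (Fin m ⊕ Fin m → ZMod 2) := by
        exact_mod_cast Fintype.card_pos
      omega
    · intro hw
      let T : (Fin m ⊕ Fin m → ZMod 2) →ₗ[ZMod 2] (Fin m ⊕ Fin m → ZMod 2) :=
        { toFun := fun v => v + Lib.Helper15.plusPolar m v w • w
          map_add' := by
            intro u v
            rw [hfl, add_smul]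
            abel
          map_smul' := by
            intro c v
            have hc : c = 0 ∨ c = 1 := by revert c; decide
            rcases hc with rfl | rfl
            · simp only [zero_smul, hf0l, add_zero, RingHom.id_apply]
            · simp only [one_smul, RingHom.id_apply] }
      have hT : ∀ v, T v = v + Lib.Helper15.plusPolar m v w • w := fun v => rfl
      have hcases : ∀ c : ZMod 2, c = 0 ∨ c = 1 := by decide
      have hinv : Function.Involutive T := by
        intro v
        rw [hT, hT]
        rcases hcases (Lib.Helper15.plusPolar m v w) with h | h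
        · rw [h]; simp [h]
        · rw [h, one_smul, hfl, h, hf0 w, add_zero, one_smul, add_assoc]
          have : w + w = 0 := by
            funext i
            exact CharTwo.add_self_eq_zero _
          rw [this, add_zero]
      refine ⟨LinearEquiv.ofInvolutive T hinv, fun v => ?_⟩
      rw [LinearEquiv.coe_ofInvolutive, hT]
      rcases hcases (Lib.Helper15.plusPolar m v w) with h | h
      · rw [h]; simp
      · rw [h, one_smul, hq' v w, hw, h]; ring

end Cfsg.Agent.S2564
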