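import Cfsg.Statements.S2617
-- import your own Cfsg.Agent.* helpers here
import Cfsg.Agent.Lib.Helper15.WittBound

set_option autoImplicit false
open Cfsg

namespace Cfsg.Agent.S2617

/-- The two standard quadratic forms of even dimension 2m over a finite field are not isometric: there is no linear isomorphism carrying the elliptic form Σ_(i<m−1) x_i y_i + z₁² + z₁z₂ + ζ z₂² (t² + t + ζ without roots) to the hyperbolic form Σ_(i<m) x_i y_i (they have different Witt index). -/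
theorem result {F : Type*} [Field F] [Finite F] {m : ℕ} (hm : 1 ≤ m) (ζ : F) (hζ : ∀ t : F, t ^ 2 + t + ζ ≠ 0) (g : (Fin m ⊕ Fin m → F) ≃ₗ[F] ((Fin (m - 1) ⊕ Fin (m - 1)) ⊕ Fin 2 → F)) : ¬ (∀ v : Fin m ⊕ Fin m → F, Cfsg.quadFormMinus (m - 1) F 1 ζ (g v) = Cfsg.quadFormPlus m F v) := by
  intro hg
  haveI : Fintype F := Fintype.ofFinite F
  obtain ⟨hts, hdim⟩ := Cfsg.Agent.Lib.Helper15.plus_std_ts (F := F) m
  set U₀ := LinearMap.ker (LinearMap.funLeft F F (Sum.inr : Fin m → Fin m ⊕ Fin m)) with hU₀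
  have hU : ∀ u ∈ U₀.map (g : (Fin m ⊕ Fin m → F) →ₗ[F] ((Fin (m - 1) ⊕ Fin (m - 1)) ⊕ Fin 2 → F)),
      Cfsg.quadFormMinus (m - 1) F 1 ζ u = 0 := by
    rintro _ ⟨v, hv, rfl⟩
    rw [LinearEquiv.coe_coe, hg v]
    exact hts v hv
  have hle := Cfsg.Agent.Lib.Helper15.ts_minus_le (m - 1) 1 ζ
    (Cfsg.Agent.Lib.Helper15.aniso_of_noroot ζ hζ) _ hU
  rw [LinearEquiv.finrank_map_eq, hdim] at hle
  omega

end Cfsg.Agent.S2617
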