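import Cfsg.Statements.S2561
-- import your own Cfsg.Agent.* helpers here
import Cfsg.Agent.Lib.Helper15.F2Forms
import Cfsg.Agent.S2564
import Cfsg.Agent.S2617

set_option autoImplicit false
open Cfsg

namespace Cfsg.Agent.S2561

/-- Fix the non-singular alternating form on the 2m-dimensional space over the field of two elements obtained by polarizing the plus-type form Σ xᵢyᵢ (m ≥ 1). The functions q on the space with q(u + v) = q(u) + q(v) + f(u, v) (the quadratic forms polarizing to f) number 2^(2m); each is equivalent under an invertible linear map either to the plus-type form or to the minus-type form Σ xᵢyᵢ + (z₁² + z₁z₂ + z₂²); and those of plus type number 2^(2m−1) + 2^(m−1), those of minus type 2^(2m−1) − 2^(m−1). -/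
theorem result (m : ℕ) (hm : 1 ≤ m) :
    Nat.card {q : (Fin m ⊕ Fin m → ZMod 2) → ZMod 2 // (∀ u v : (Fin m ⊕ Fin m → ZMod 2), q (u + v) = q u + q v + (Cfsg.quadFormPlus m (ZMod 2) (u + v) - Cfsg.quadFormPlus m (ZMod 2) u - Cfsg.quadFormPlus m (ZMod 2) v))} = 2 ^ (2 * m) ∧
    (∀ q : (Fin m ⊕ Fin m → ZMod 2) → ZMod 2, (∀ u v : (Fin m ⊕ Fin m → ZMod 2), q (u + v) = q u + q v + (Cfsg.quadFormPlus m (ZMod 2) (u + v) - Cfsg.quadFormPlus m (ZMod 2) u - Cfsg.quadFormPlus m (ZMod 2) v)) →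
      (∃ g : (Fin m ⊕ Fin m → ZMod 2) ≃ₗ[ZMod 2] (Fin m ⊕ Fin m → ZMod 2), ∀ v, q v = Cfsg.quadFormPlus m (ZMod 2) (g v)) ∨
      (∃ g : (Fin m ⊕ Fin m → ZMod 2) ≃ₗ[ZMod 2] ((Fin (m - 1) ⊕ Fin (m - 1)) ⊕ Fin 2 → ZMod 2), ∀ v, q v = Cfsg.quadFormMinus (m - 1) (ZMod 2) 1 1 (g v))) ∧
    Nat.card {q : (Fin m ⊕ Fin m → ZMod 2) → ZMod 2 // (∀ u v : (Fin m ⊕ Fin m → ZMod 2), q (u + v) = q u + q v + (Cfsg.quadFormPlus m (ZMod 2) (u + v) - Cfsg.quadFormPlus m (ZMod 2) u - Cfsg.quadFormPlus m (ZMod 2) v)) ∧ ∃ g : (Fin m ⊕ Fin m → ZMod 2) ≃ₗ[ZMod 2] (Fin m ⊕ Fin m → ZMod 2), ∀ v, q v = Cfsg.quadFormPlus m (ZMod 2) (g v)} = 2 ^ (2 * m - 1) + 2 ^ (m - 1) ∧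
    Nat.card {q : (Fin m ⊕ Fin m → ZMod 2) → ZMod 2 // (∀ u v : (Fin m ⊕ Fin m → ZMod 2), q (u + v) = q u + q v + (Cfsg.quadFormPlus m (ZMod 2) (u + v) - Cfsg.quadFormPlus m (ZMod 2) u - Cfsg.quadFormPlus m (ZMod 2) v)) ∧ ∃ g : (Fin m ⊕ Fin m → ZMod 2) ≃ₗ[ZMod 2] ((Fin (m - 1) ⊕ Fin (m - 1)) ⊕ Fin 2 → ZMod 2), ∀ v, q v = Cfsg.quadFormMinus (m - 1) (ZMod 2) 1 1 (g v)} = 2 ^ (2 * m - 1) - 2 ^ (m - 1) := by
  classical
  obtain ⟨k, rfl⟩ : ∃ k, m = k + 1 := ⟨m - 1, by omega⟩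
  -- notation
  have hP : ∀ u v : (Fin (k + 1) ⊕ Fin (k + 1) → ZMod 2),
      Cfsg.quadFormPlus (k + 1) (ZMod 2) (u + v) = Cfsg.quadFormPlus (k + 1) (ZMod 2) u
        + Cfsg.quadFormPlus (k + 1) (ZMod 2) v + Lib.Helper15.plusPolar (k + 1) u v := by
    intro u v; unfold Lib.Helper15.plusPolar; ring
  have hfl := Lib.Helper15.plusPolar_add_left (k + 1)
  have hfc := Lib.Helper15.plusPolar_comm (k + 1)
  have hfr : ∀ u v v', Lib.Helper15.plusPolar (k + 1) u (v + v')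
      = Lib.Helper15.plusPolar (k + 1) u v + Lib.Helper15.plusPolar (k + 1) u v' := by
    intro u v v'; rw [hfc, hfl, hfc v u, hfc v' u]
  have hnd := Lib.Helper15.plusPolar_nondeg (k + 1)
  -- the parametrisation
  let Ψ : (Fin (k + 1) ⊕ Fin (k + 1) → ZMod 2) → (Fin (k + 1) ⊕ Fin (k + 1) → ZMod 2) → ZMod 2 :=
    fun w v => Cfsg.quadFormPlus (k + 1) (ZMod 2) v + Lib.Helper15.plusPolar (k + 1) v w
  have hΨ1 : ∀ w u v, Ψ w (u + v) = Ψ w u + Ψ w v + (Cfsg.quadFormPlus (k + 1) (ZMod 2) (u + v)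
      - Cfsg.quadFormPlus (k + 1) (ZMod 2) u - Cfsg.quadFormPlus (k + 1) (ZMod 2) v) := by
    intro w u v
    show Cfsg.quadFormPlus (k + 1) (ZMod 2) (u + v) + Lib.Helper15.plusPolar (k + 1) (u + v) w = _
    rw [hfl]
    show _ = (Cfsg.quadFormPlus (k + 1) (ZMod 2) u + Lib.Helper15.plusPolar (k + 1) u w)
      + (Cfsg.quadFormPlus (k + 1) (ZMod 2) v + Lib.Helper15.plusPolar (k + 1) v w) + _
    ring
  have hΨinj : Function.Injective Ψ := by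
    intro w w' h
    by_contra hne
    have hne' : w - w' ≠ 0 := sub_ne_zero.mpr hne
    obtain ⟨u, hu⟩ := hnd (w - w') hne'
    apply hu
    have h1 := congrFun h u
    have h2 : Lib.Helper15.plusPolar (k + 1) u w = Lib.Helper15.plusPolar (k + 1) u w' :=
      add_left_cancel h1
    have h3 : w = (w - w') + w' := by abel
    rw [h3, hfr] at h2
    linear_combination h2
  have hΨsurj : ∀ q : (Fin (k + 1) ⊕ Fin (k + 1) → ZMod 2) → ZMod 2,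
      (∀ u v, q (u + v) = q u + q v + (Cfsg.quadFormPlus (k + 1) (ZMod 2) (u + v)
        - Cfsg.quadFormPlus (k + 1) (ZMod 2) u - Cfsg.quadFormPlus (k + 1) (ZMod 2) v)) →
      ∃ w, q = Ψ w := by
    intro q hq
    have hq' : ∀ u v, q (u + v) = q u + q v + Lib.Helper15.plusPolar (k + 1) u v := hq
    let d : (Fin (k + 1) ⊕ Fin (k + 1) → ZMod 2) → ZMod 2 :=
      fun v => q v - Cfsg.quadFormPlus (k + 1) (ZMod 2) v
    have hdadd : ∀ u v, d (u + v) = d u + d v := by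
      intro u v
      show q (u + v) - Cfsg.quadFormPlus (k + 1) (ZMod 2) (u + v) = (q u - _) + (q v - _)
      rw [hq', hP]; ring
    have hd0 : d 0 = 0 := by
      have := hdadd 0 0
      rw [add_zero] at this
      exact left_eq_add.mp this
    let dh : (Fin (k + 1) ⊕ Fin (k + 1) → ZMod 2) →+ ZMod 2 :=
      { toFun := d, map_zero' := hd0, map_add' := hdadd }
    have hdsingle : ∀ (i : Fin (k + 1) ⊕ Fin (k + 1)) (c : ZMod 2), d (Pi.single i c) = c * d (Pi.single i 1) := by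
      intro i c
      have hc : c = 0 ∨ c = 1 := by revert c; decide
      rcases hc with rfl | rfl
      · simp [hd0]
      · simp
    have hdsum : ∀ v, d v = ∑ i, v i * d (Pi.single i 1) := by
      intro v
      have h1 : v = ∑ i, Pi.single i (v i) := (Finset.univ_sum_single v).symm
      conv_lhs => rw [h1]
      have h2 : d (∑ i, Pi.single i (v i)) = ∑ i, d (Pi.single i (v i)) := map_sum dh _ _
      rw [h2]
      exact Finset.sum_congr rfl fun i _ => hdsingle i (v i)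
    refine ⟨Sum.elim (fun i => d (Pi.single (Sum.inr i) 1)) (fun i => d (Pi.single (Sum.inl i) 1)), ?_⟩
    funext v
    show q v = Cfsg.quadFormPlus (k + 1) (ZMod 2) v + Lib.Helper15.plusPolar (k + 1) v _
    have h3 : q v = Cfsg.quadFormPlus (k + 1) (ZMod 2) v + d v := by
      show q v = _ + (q v - _); ring
    rw [h3, hdsum v, Lib.Helper15.plusPolar_eq, Fintype.sum_sum_type]
    simp only [Sum.elim_inl, Sum.elim_inr]
    rw [← Finset.sum_add_distrib]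
    congr 1
    refine Finset.sum_congr rfl fun i _ => ?_
    ring
  -- types of Ψ w
  have hplus : ∀ w, (∃ g : (Fin (k + 1) ⊕ Fin (k + 1) → ZMod 2) ≃ₗ[ZMod 2] (Fin (k + 1) ⊕ Fin (k + 1) → ZMod 2),
      ∀ v, Ψ w v = Cfsg.quadFormPlus (k + 1) (ZMod 2) (g v)) ↔ Cfsg.quadFormPlus (k + 1) (ZMod 2) w = 0 := by
    intro w
    exact (Cfsg.Agent.S2564.result (k + 1) hm (Cfsg.quadFormPlus (k + 1) (ZMod 2)) (fun u v => by ring) w).2
  have hcls : ∀ q : (Fin (k + 1) ⊕ Fin (k + 1) → ZMod 2) → ZMod 2,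
      (∀ u v, q (u + v) = q u + q v + (Cfsg.quadFormPlus (k + 1) (ZMod 2) (u + v)
        - Cfsg.quadFormPlus (k + 1) (ZMod 2) u - Cfsg.quadFormPlus (k + 1) (ZMod 2) v)) →
      (∃ g : (Fin (k + 1) ⊕ Fin (k + 1) → ZMod 2) ≃ₗ[ZMod 2] (Fin (k + 1) ⊕ Fin (k + 1) → ZMod 2),
        ∀ v, q v = Cfsg.quadFormPlus (k + 1) (ZMod 2) (g v)) ∨
      (∃ g : (Fin (k + 1) ⊕ Fin (k + 1) → ZMod 2) ≃ₗ[ZMod 2] ((Fin (k + 1 - 1) ⊕ Fin (k + 1 - 1)) ⊕ Fin 2 → ZMod 2),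
        ∀ v, q v = Cfsg.quadFormMinus (k + 1 - 1) (ZMod 2) 1 1 (g v)) := by
    intro q hq
    exact Lib.Helper15.classify_F2 k q hq
  have hexcl : ∀ q : (Fin (k + 1) ⊕ Fin (k + 1) → ZMod 2) → ZMod 2,
      (∃ g : (Fin (k + 1) ⊕ Fin (k + 1) → ZMod 2) ≃ₗ[ZMod 2] (Fin (k + 1) ⊕ Fin (k + 1) → ZMod 2),
        ∀ v, q v = Cfsg.quadFormPlus (k + 1) (ZMod 2) (g v)) →
      (∃ g : (Fin (k + 1) ⊕ Fin (k + 1) → ZMod 2) ≃ₗ[ZMod 2] ((Fin (k + 1 - 1) ⊕ Fin (k + 1 - 1)) ⊕ Fin 2 → ZMod 2),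
        ∀ v, q v = Cfsg.quadFormMinus (k + 1 - 1) (ZMod 2) 1 1 (g v)) → False := by
    rintro q ⟨g₁, h₁⟩ ⟨g₂, h₂⟩
    apply Cfsg.Agent.S2617.result (F := ZMod 2) hm 1 (by decide) (g₁.symm.trans g₂)
    intro v
    have := h₂ (g₁.symm v)
    rw [h₁, LinearEquiv.apply_symm_apply] at this
    exact this.symm
  have hminus : ∀ w, (∃ g : (Fin (k + 1) ⊕ Fin (k + 1) → ZMod 2) ≃ₗ[ZMod 2] ((Fin (k + 1 - 1) ⊕ Fin (k + 1 - 1)) ⊕ Fin 2 → ZMod 2),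
      ∀ v, Ψ w v = Cfsg.quadFormMinus (k + 1 - 1) (ZMod 2) 1 1 (g v)) ↔ Cfsg.quadFormPlus (k + 1) (ZMod 2) w ≠ 0 := by
    intro w
    constructor
    · intro hmin hw
      exact hexcl (Ψ w) ((hplus w).mpr hw) hmin
    · intro hw
      rcases hcls (Ψ w) (hΨ1 w) with h | h
      · exact absurd ((hplus w).mp h) hw
      · exact h
  have hcounts := Lib.Helper15.card_zeros_plus (k + 1) hm
  refine ⟨?_, hcls, ?_, ?_⟩
  · -- all forms
    have e : (Fin (k + 1) ⊕ Fin (k + 1) → ZMod 2) ≃ {q : (Fin (k + 1) ⊕ Fin (k + 1) → ZMod 2) → ZMod 2 //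
        (∀ u v : (Fin (k + 1) ⊕ Fin (k + 1) → ZMod 2), q (u + v) = q u + q v + (Cfsg.quadFormPlus (k + 1) (ZMod 2) (u + v)
          - Cfsg.quadFormPlus (k + 1) (ZMod 2) u - Cfsg.quadFormPlus (k + 1) (ZMod 2) v))} :=
      Equiv.ofBijective (fun w => ⟨Ψ w, hΨ1 w⟩) ⟨fun w w' h => hΨinj (congrArg Subtype.val h),
        fun ⟨q, hq⟩ => by
          obtain ⟨w, rfl⟩ := hΨsurj q hq
          exact ⟨w, rfl⟩⟩
    rw [← Nat.card_congr e, Nat.card_eq_fintype_card]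
    simp
    ring
  · -- plus type
    have e : {w : Fin (k + 1) ⊕ Fin (k + 1) → ZMod 2 // Cfsg.quadFormPlus (k + 1) (ZMod 2) w = 0} ≃
        {q : (Fin (k + 1) ⊕ Fin (k + 1) → ZMod 2) → ZMod 2 //
        (∀ u v : (Fin (k + 1) ⊕ Fin (k + 1) → ZMod 2), q (u + v) = q u + q v + (Cfsg.quadFormPlus (k + 1) (ZMod 2) (u + v)
          - Cfsg.quadFormPlus (k + 1) (ZMod 2) u - Cfsg.quadFormPlus (k + 1) (ZMod 2) v)) ∧
        ∃ g : (Fin (k + 1) ⊕ Fin (k + 1) → ZMod 2) ≃ₗ[ZMod 2] (Fin (k + 1) ⊕ Fin (k + 1) → ZMod 2),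
          ∀ v, q v = Cfsg.quadFormPlus (k + 1) (ZMod 2) (g v)} :=
      Equiv.ofBijective (fun w => ⟨Ψ w.1, hΨ1 w.1, (hplus w.1).mpr w.2⟩)
        ⟨fun w w' h => Subtype.ext (hΨinj (congrArg Subtype.val h)),
        fun ⟨q, hq, hg⟩ => by
          obtain ⟨w, rfl⟩ := hΨsurj q hq
          exact ⟨⟨w, (hplus w).mp hg⟩, rfl⟩⟩
    rw [← Nat.card_congr e]
    exact hcounts.1
  · -- minus type
    have e : {w : Fin (k + 1) ⊕ Fin (k + 1) → ZMod 2 // Cfsg.quadFormPlus (k + 1) (ZMod 2) w ≠ 0} ≃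
        {q : (Fin (k + 1) ⊕ Fin (k + 1) → ZMod 2) → ZMod 2 //
        (∀ u v : (Fin (k + 1) ⊕ Fin (k + 1) → ZMod 2), q (u + v) = q u + q v + (Cfsg.quadFormPlus (k + 1) (ZMod 2) (u + v)
          - Cfsg.quadFormPlus (k + 1) (ZMod 2) u - Cfsg.quadFormPlus (k + 1) (ZMod 2) v)) ∧
        ∃ g : (Fin (k + 1) ⊕ Fin (k + 1) → ZMod 2) ≃ₗ[ZMod 2] ((Fin (k + 1 - 1) ⊕ Fin (k + 1 - 1)) ⊕ Fin 2 → ZMod 2),
          ∀ v, q v = Cfsg.quadFormMinus (k + 1 - 1) (ZMod 2) 1 1 (g v)} :=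
      Equiv.ofBijective (fun w => ⟨Ψ w.1, hΨ1 w.1, (hminus w.1).mpr w.2⟩)
        ⟨fun w w' h => Subtype.ext (hΨinj (congrArg Subtype.val h)),
        fun ⟨q, hq, hg⟩ => by
          obtain ⟨w, rfl⟩ := hΨsurj q hq
          exact ⟨⟨w, (hminus w).mp hg⟩, rfl⟩⟩
    rw [← Nat.card_congr e]
    exact hcounts.2

end Cfsg.Agent.S2561
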