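import Cfsg.Statements.S2562
-- import your own Cfsg.Agent.* helpers here
import Cfsg.Agent.Lib.Helper15.WittBound

set_option autoImplicit false
open Cfsg

namespace Cfsg.Agent.S2562

open Module

theorem finrank_ker_funLeft {F : Type*} [Field F] {α β : Type*} [Fintype α] [Fintype β] (ι : β → α)
    (hι : Function.Injective ι) :
    finrank F (LinearMap.ker (LinearMap.funLeft F F ι)) + Fintype.card β = Fintype.card α := by
  have h := LinearMap.finrank_range_add_finrank_ker (LinearMap.funLeft F F ι)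
  have hsurj : LinearMap.range (LinearMap.funLeft F F ι) = ⊤ :=
    LinearMap.range_eq_top.mpr (LinearMap.funLeft_surjective_of_injective F F ι hι)
  rw [hsurj, finrank_top, Module.finrank_fintype_fun_eq_card, Module.finrank_fintype_fun_eq_card] at h
  omega

/-- Witt indices over the field of two elements, m ≥ 1: for the plus-type form Σ xᵢyᵢ in dimension 2m some m-dimensional subspace is totally singular and no totally singular subspace has larger dimension; for the minus-type form Σ xᵢyᵢ + (z₁² + z₁z₂ + z₂²) in dimension 2m the maximal dimension of a totally singular subspace is m − 1. -/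
theorem result (m : ℕ) (hm : 1 ≤ m) :
    (∃ U : Submodule (ZMod 2) (Fin m ⊕ Fin m → ZMod 2), (∀ u ∈ U, Cfsg.quadFormPlus m (ZMod 2) u = 0) ∧ Module.finrank (ZMod 2) ↥U = m) ∧
    (∀ U : Submodule (ZMod 2) (Fin m ⊕ Fin m → ZMod 2), (∀ u ∈ U, Cfsg.quadFormPlus m (ZMod 2) u = 0) → Module.finrank (ZMod 2) ↥U ≤ m) ∧
    (∃ U : Submodule (ZMod 2) ((Fin (m - 1) ⊕ Fin (m - 1)) ⊕ Fin 2 → ZMod 2), (∀ u ∈ U, Cfsg.quadFormMinus (m - 1) (ZMod 2) 1 1 u = 0) ∧ Module.finrank (ZMod 2) ↥U = m - 1) ∧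
    (∀ U : Submodule (ZMod 2) ((Fin (m - 1) ⊕ Fin (m - 1)) ⊕ Fin 2 → ZMod 2), (∀ u ∈ U, Cfsg.quadFormMinus (m - 1) (ZMod 2) 1 1 u = 0) → Module.finrank (ZMod 2) ↥U ≤ m - 1) := by
  have hno : ∀ t : ZMod 2, t ^ 2 + t + 1 ≠ 0 := by decide
  obtain ⟨hts, hdim⟩ := Cfsg.Agent.Lib.Helper15.plus_std_ts (F := ZMod 2) m
  refine ⟨⟨_, hts, hdim⟩, fun U hU => Cfsg.Agent.Lib.Helper15.ts_plus_le m U hU, ?_,
    fun U hU => Cfsg.Agent.Lib.Helper15.ts_minus_le (m - 1) 1 1
      (Cfsg.Agent.Lib.Helper15.aniso_of_noroot 1 hno) U hU⟩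
  -- the standard totally singular subspace of the minus-type form: y = 0, z = 0
  set ι : Fin (m - 1) ⊕ Fin 2 → (Fin (m - 1) ⊕ Fin (m - 1)) ⊕ Fin 2 :=
    Sum.elim (Sum.inl ∘ Sum.inr) Sum.inr with hι
  have hinj : Function.Injective ι := by
    intro x y hxy
    rcases x with x | x <;> rcases y with y | y <;> simp [hι] at hxy ⊢ <;> exact hxy
  refine ⟨LinearMap.ker (LinearMap.funLeft (ZMod 2) (ZMod 2) ι), ?_, ?_⟩
  · intro u hu
    rw [LinearMap.mem_ker] at hu
    have hy : ∀ i, u (Sum.inl (Sum.inr i)) = 0 := fun i => congrFun hu (Sum.inl i)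
    have hz : ∀ j, u (Sum.inr j) = 0 := fun j => congrFun hu (Sum.inr j)
    simp only [Cfsg.quadFormMinus, hz]
    have : ∑ i : Fin (m - 1), u (Sum.inl (Sum.inl i)) * u (Sum.inl (Sum.inr i)) = 0 := by
      apply Finset.sum_eq_zero
      intro i _
      rw [hy i, mul_zero]
    rw [this]
    ring
  · have h := finrank_ker_funLeft (F := ZMod 2) ι hinj
    simp only [Fintype.card_sum, Fintype.card_fin] at h
    omega

end Cfsg.Agent.S2562
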