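import Cfsg.Statements.S2563
-- import your own Cfsg.Agent.* helpers here
import Cfsg.Agent.Lib.Helper15.EvenWeight

set_option autoImplicit false
open Cfsg

namespace Cfsg.Agent.S2563


open Cfsg.Agent.Lib.Helper15 Cfsg.Agent.Lib.Helper15.EvenWeight Module QuadraticMap

theorem main (k : ℕ) (hk : 1 ≤ k) :
    (Odd k → ∃ φ : Equiv.Perm (Fin (4 * k + 3 + 1)) →*
        ↥(Cfsg.isometryGroup (ZMod 2) (Cfsg.quadFormPlus (2 * k + 1) (ZMod 2))),
        Function.Injective φ) ∧
    (Even k → ∃ φ : Equiv.Perm (Fin (4 * k + 3 + 1)) →*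
        ↥(Cfsg.isometryGroup (ZMod 2) (Cfsg.quadFormMinus (2 * k) (ZMod 2) 1 1)),
        Function.Injective φ) := by
  classical
  obtain ⟨N, hNdef⟩ : ∃ N, N = 4 * k + 3 := ⟨_, rfl⟩
  rw [← hNdef]
  have hN : Even (N + 1) := ⟨2 * k + 2, by omega⟩
  have h4 : 4 ∣ N + 1 := ⟨k + 1, by omega⟩
  have h5 : 5 ≤ N := by omega
  have hfr : finrank (ZMod 2) ↥(E0 N) = 2 * (2 * k + 1) := by
    rw [finrank_E0 (by omega)]
    omega
  have hnd := ndOn_Q0 (N := N) hN
  have harf : arfSum (fun w : ↥(E0 N) => Q0 N w) = -2 * (-4) ^ k := by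
    rw [arfSum_Q0, hNdef, AA_val]
  have hinv : ∀ (σ : Equiv.Perm (Fin (N + 1))) (w : ↥(E0 N)), Q0 N (rho hN σ w) = Q0 N w := by
    intro σ w
    rw [Q0_apply, Q0_apply]
    exact hq_rho h4 hN σ w
  have h4k : (0 : ℤ) < 4 ^ k := by positivity
  rcases even_family (Q0 N) (2 * k) ⊤ hnd (by rw [finrank_top]; exact hfr) with
    ⟨e, f, H⟩ | ⟨e, f, x, y, ζ, H⟩
  · -- plus type
    obtain ⟨b, hb⟩ := plus_coords (Q0 N) e f H hfr
    have hsum : arfSum (fun w : ↥(E0 N) => Q0 N w) = 2 ^ (2 * k + 1) := by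
      rw [← arfSum_plus (2 * k + 1)]
      unfold arfSum
      apply Fintype.sum_equiv b.equivFun.toEquiv
      intro w
      show chi2 (Q0 N w) = chi2 (Cfsg.quadFormPlus (2 * k + 1) (ZMod 2) (b.equivFun w))
      rw [hb]
    rw [harf] at hsum
    constructor
    · intro _
      exact embed_quad_of_basis' b (Cfsg.quadFormPlus (2 * k + 1) (ZMod 2)) (fun w => Q0 N w) hb
        (rho hN) (rho_injective hN h5) hinv
    · intro hev
      exfalso
      rw [hev.neg_pow, pow_succ, pow_mul] at hsum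
      norm_num at hsum
      linarith
  · -- minus type
    obtain ⟨HH, hxW, hyW, hζ, hperp, hQx, hxy, hQy, hne⟩ := H
    have hζ1 : ζ = 1 := by
      rcases z2_cases ζ with h | h
      · exfalso
        have := hζ 0
        rw [h] at this
        simp at this
      · exact h
    subst hζ1
    have hli : LinearIndependent (ZMod 2) ![x, y] :=
      EllFam.pair_indep (Q := Q0 N) (W := ⊤) (e := e) (f := f) (x := x) (y := y) (ζ := 1)
        ⟨HH, hxW, hyW, hζ, hperp, hQx, hxy, hQy, hne⟩
    obtain ⟨b, hb⟩ := minus_coords (Q0 N) e f x y 1 1 HH hli (fun i => (hperp i).1.1)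
      (fun i => (hperp i).1.2) (fun i => (hperp i).2.1) (fun i => (hperp i).2.2) hQx hxy hQy
      (by rw [hfr]; ring)
    have hsum : arfSum (fun w : ↥(E0 N) => Q0 N w) = -(2 ^ (2 * k + 1)) := by
      rw [← arfSum_minus (2 * k)]
      unfold arfSum
      apply Fintype.sum_equiv b.equivFun.toEquiv
      intro w
      show chi2 (Q0 N w) = chi2 (Cfsg.quadFormMinus (2 * k) (ZMod 2) 1 1 (b.equivFun w))
      rw [hb]
    rw [harf] at hsum
    constructor
    · intro hodd
      exfalso
      rw [hodd.neg_pow, pow_succ, pow_mul] at hsum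
      norm_num at hsum
      linarith
    · intro _
      exact embed_quad_of_basis' b (Cfsg.quadFormMinus (2 * k) (ZMod 2) 1 1) (fun w => Q0 N w) hb
        (rho hN) (rho_injective hN h5) hinv

/-- For k ≥ 1 the symmetric group of degree 4k + 4 embeds in a full orthogonal group in dimension 4k + 2 over the field of two elements: in the isometry group of the plus-type form Σ xᵢyᵢ when k is odd, and in that of the minus-type form Σ xᵢyᵢ + (z₁² + z₁z₂ + z₂²) when k is even (through its action on even partitions of a (4k+4)-set, with the form 'half the size of a part, modulo 2'). -/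
theorem result (k : ℕ) (hk : 1 ≤ k) :
    (Odd k → ∃ φ : Equiv.Perm (Fin (4 * k + 4)) →* ↥(Cfsg.isometryGroup (ZMod 2) (Cfsg.quadFormPlus (2 * k + 1) (ZMod 2))), Function.Injective φ) ∧
    (Even k → ∃ φ : Equiv.Perm (Fin (4 * k + 4)) →* ↥(Cfsg.isometryGroup (ZMod 2) (Cfsg.quadFormMinus (2 * k) (ZMod 2) 1 1)), Function.Injective φ) := by
  exact main k hk

end Cfsg.Agent.S2563
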