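import Cfsg.Statements.S2567
-- import your own Cfsg.Agent.* helpers here

set_option autoImplicit false
open Cfsg

namespace Cfsg.Agent.S2567

theorem lift_unique {G : Type*} [Group G] (N : ℕ) (hZ : ∀ z ∈ Subgroup.center G, z ^ N = 1)
    (r : ℕ) (hr : r.Prime) (hcop : r.Coprime N) (x : G ⧸ Subgroup.center G) (hx : orderOf x = r) :
    ∃! g : G, (QuotientGroup.mk g : G ⧸ Subgroup.center G) = x ∧ orderOf g = r := by
  obtain ⟨g₀, rfl⟩ := QuotientGroup.mk_surjective x
  have hx1 : (QuotientGroup.mk g₀ : G ⧸ Subgroup.center G) ≠ 1 := by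
    intro h
    rw [h, orderOf_one] at hx
    exact hr.one_lt.ne hx
  have hz₀ : g₀ ^ r ∈ Subgroup.center G := by
    rw [← QuotientGroup.eq_one_iff, QuotientGroup.mk_pow, ← hx]
    exact pow_orderOf_eq_one _
  have hord : r.Coprime (orderOf (g₀ ^ r)) :=
    Nat.Coprime.coprime_dvd_right (orderOf_dvd_of_pow_eq_one (hZ _ hz₀)) hcop
  obtain ⟨m, hm⟩ := exists_pow_eq_self_of_coprime hord
  have hwZ : ((g₀ ^ r) ^ m)⁻¹ ∈ Subgroup.center G :=
    Subgroup.inv_mem _ (Subgroup.pow_mem _ hz₀ m)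
  have hcomm : Commute g₀ ((g₀ ^ r) ^ m)⁻¹ := by
    have := Subgroup.mem_center_iff.mp hwZ g₀
    exact this
  have hgr : (g₀ * ((g₀ ^ r) ^ m)⁻¹) ^ r = 1 := by
    rw [hcomm.mul_pow, inv_pow, ← pow_mul, mul_comm m r, pow_mul, hm, mul_inv_cancel]
  have hmk : (QuotientGroup.mk (g₀ * ((g₀ ^ r) ^ m)⁻¹) : G ⧸ Subgroup.center G) = QuotientGroup.mk g₀ := by
    rw [QuotientGroup.mk_mul, (QuotientGroup.eq_one_iff _).mpr hwZ, mul_one]
  refine ⟨g₀ * ((g₀ ^ r) ^ m)⁻¹, ⟨hmk, ?_⟩, ?_⟩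
  · have hdvd := orderOf_dvd_of_pow_eq_one hgr
    rcases (Nat.dvd_prime hr).mp hdvd with h1 | h1
    · exfalso
      rw [orderOf_eq_one_iff] at h1
      rw [h1] at hmk
      exact hx1 hmk.symm
    · exact h1
  · rintro g' ⟨hg'mk, hg'ord⟩
    set g := g₀ * ((g₀ ^ r) ^ m)⁻¹ with hg
    have hzmem : g⁻¹ * g' ∈ Subgroup.center G := by
      rw [← QuotientGroup.eq, hmk, hg'mk]
    have hcomm' : Commute g (g⁻¹ * g') := by
      have := Subgroup.mem_center_iff.mp hzmem g
      exact this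
    have hg'eq : g' = g * (g⁻¹ * g') := by group
    have hzr : (g⁻¹ * g') ^ r = 1 := by
      have h1 : g' ^ r = 1 := by rw [← hg'ord]; exact pow_orderOf_eq_one _
      rw [hg'eq, hcomm'.mul_pow, hgr, one_mul] at h1
      exact h1
    have hzN := hZ _ hzmem
    have hgcd := pow_gcd_eq_one.mpr ⟨hzr, hzN⟩
    rw [Nat.Coprime.gcd_eq_one hcop, pow_one] at hgcd
    rw [hg'eq, hgcd, mul_one]

/-- Lifting elements of prime order from PGL to GL: let F be a finite field with q elements, r a prime not dividing q − 1, and x an element of order r in GL_n(F) modulo its centre (the scalar matrices). Then x has exactly one preimage in GL_n(F) of order r. -/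
theorem result {F : Type*} [Field F] [Fintype F] {q n r : ℕ} (hF : Fintype.card F = q) (hr : r.Prime) (hdiv : ¬ r ∣ q - 1) (x : GL (Fin n) F ⧸ Subgroup.center (GL (Fin n) F)) (hx : orderOf x = r) : ∃! g : GL (Fin n) F, (QuotientGroup.mk g : GL (Fin n) F ⧸ Subgroup.center (GL (Fin n) F)) = x ∧ orderOf g = r := by
  classical
  apply lift_unique (q - 1) _ r hr ((Nat.Prime.coprime_iff_not_dvd hr).mpr hdiv) x hx
  intro z hz
  rw [Matrix.GeneralLinearGroup.center_eq_range_scalar] at hz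
  obtain ⟨a, rfl⟩ := hz
  rw [← map_pow]
  have : a ^ (q - 1) = 1 := by
    rw [← hF, ← Fintype.card_units]
    exact pow_card_eq_one
  rw [this, map_one]

end Cfsg.Agent.S2567
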