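import Cfsg.Statements.S2569
-- import your own Cfsg.Agent.* helpers here

set_option autoImplicit false
open Cfsg

namespace Cfsg.Agent.S2569

open Module Polynomial

/-- For a "simple" endomorphism of a nonzero finite-dimensional space over a finite field, every
nonzero scalar is the determinant of some element of `F[φ]`. -/
theorem simple_det_surj {F W : Type*} [Field F] [Finite F] [AddCommGroup W] [Module F W]
    [FiniteDimensional F W] [Nontrivial W] (φ : End F W)
    (hφ : ∀ U : Submodule F W, (∀ u ∈ U, φ u ∈ U) → U = ⊥ ∨ U = ⊤) (δ : F) (hδ : δ ≠ 0) :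
    ∃ c : End F W, c * φ = φ * c ∧ LinearMap.det c = δ := by
  classical
  let A := Algebra.adjoin F ({φ} : Set (End F W))
  have hcommS : ∀ a ∈ ({φ} : Set (End F W)), ∀ b ∈ ({φ} : Set (End F W)), a * b = b * a := by
    intro a ha b hb
    rw [Set.mem_singleton_iff] at ha hb
    rw [ha, hb]
  letI : CommRing A := Algebra.adjoinCommRingOfComm F hcommS
  have hφA : φ ∈ A := Algebra.subset_adjoin (Set.mem_singleton φ)
  -- elements of A commute with φ
  have hcomm : ∀ a : A, (a : End F W) * φ = φ * (a : End F W) := by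
    intro a
    have := mul_comm a ⟨φ, hφA⟩
    exact congrArg Subtype.val this
  -- nonzero elements are injective
  have hinj : ∀ a : A, a ≠ 0 → Function.Injective (a : End F W) := by
    intro a ha
    rw [← LinearMap.ker_eq_bot]
    rcases hφ (LinearMap.ker (a : End F W)) (by
      intro u hu
      rw [LinearMap.mem_ker] at hu ⊢
      have := congrArg (fun g : End F W => g u) (hcomm a)
      simp only [Module.End.mul_apply] at this
      rw [this, hu, map_zero]) with h | h
    · exact h
    · exfalso
      apply ha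
      apply Subtype.ext
      exact LinearMap.ker_eq_top.mp h
  haveI : Finite (End F W) := by
    haveI : Finite W := Module.finite_of_finite F
    exact Finite.of_injective (fun g : End F W => (g : W → W)) DFunLike.coe_injective
  haveI : Finite A := inferInstance
  haveI : NoZeroDivisors A := by
    refine ⟨?_⟩
    intro a b hab
    by_contra hcon
    push Not at hcon
    apply hcon.2
    apply Subtype.ext
    apply LinearMap.ext
    intro w
    have h1 : (a : End F W) ((b : End F W) w) = 0 := by
      have := congrArg (fun g : A => (g : End F W) w) hab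
      simpa using this
    have := hinj a hcon.1 (h1.trans (map_zero _).symm)
    simpa using this
  haveI : IsDomain A := NoZeroDivisors.to_isDomain A
  letI : Fintype A := Fintype.ofFinite A
  letI : Field A := Fintype.fieldOfDomain A
  obtain ⟨v, hv⟩ := exists_ne (0 : W)
  let ev : A →ₗ[F] W := (LinearMap.applyₗ v).comp A.val.toLinearMap
  have hev : ∀ a : A, ev a = (a : End F W) v := fun a => rfl
  have hevinj : Function.Injective ev := by
    rw [← LinearMap.ker_eq_bot, LinearMap.ker_eq_bot']
    intro a ha
    by_contra hne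
    exact hv (hinj a hne (ha.trans (map_zero _).symm))
  have hevsurj : Function.Surjective ev := by
    rw [← LinearMap.range_eq_top]
    rcases hφ (LinearMap.range ev) (by
      rintro _ ⟨a, rfl⟩
      refine ⟨⟨φ, hφA⟩ * a, ?_⟩
      rw [hev, hev]
      rfl) with h | h
    · exfalso
      have : ev 1 ∈ LinearMap.range ev := LinearMap.mem_range_self _ _
      rw [h, Submodule.mem_bot, hev] at this
      exact hv (by simpa using this)
    · exact h
  let e : A ≃ₗ[F] W := LinearEquiv.ofBijective ev ⟨hevinj, hevsurj⟩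
  obtain ⟨a, ha⟩ := FiniteField.norm_surjective F A δ
  refine ⟨(a : End F W), hcomm a, ?_⟩
  have hconj : (a : End F W) = e.conj (Algebra.lmul F A a) := by
    apply LinearMap.ext
    intro w
    obtain ⟨b, rfl⟩ := e.surjective w
    rw [LinearEquiv.conj_apply_apply, LinearEquiv.symm_apply_apply]
    show (a : End F W) (ev b) = ev (a * b)
    rw [hev, hev]
    rfl
  rw [hconj, LinearEquiv.conj_apply, LinearMap.comp_assoc, LinearMap.det_conj, ← Algebra.norm_apply, ha]


theorem semisimple_det_surj {F V : Type*} [Field F] [Finite F] [AddCommGroup V] [Module F V]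
    [FiniteDimensional F V] [Nontrivial V] (f : End F V) (hf : f.IsSemisimple) (δ : F) (hδ : δ ≠ 0) :
    ∃ c : End F V, c * f = f * c ∧ LinearMap.det c = δ := by
  classical
  have hex : ∃ k, ∃ U : Submodule F V, (∀ u ∈ U, f u ∈ U) ∧ U ≠ ⊥ ∧ finrank F U = k :=
    ⟨_, ⊤, fun _ _ => Submodule.mem_top, top_ne_bot, rfl⟩
  obtain ⟨W, hWinv, hWne, hWk⟩ := Nat.find_spec hex
  have hmin : ∀ U : Submodule F V, (∀ u ∈ U, f u ∈ U) → U ≠ ⊥ → finrank F W ≤ finrank F U := by
    intro U h1 h2
    rw [hWk]
    exact Nat.find_min' hex ⟨U, h1, h2, rfl⟩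
  haveI : Nontrivial W := Submodule.nontrivial_iff_ne_bot.mpr hWne
  have hWmem : W ∈ f.invtSubmodule := by
    intro u hu; exact hWinv u hu
  let φ : End F W := f.restrict hWinv
  have hφ : ∀ U : Submodule F W, (∀ u ∈ U, φ u ∈ U) → U = ⊥ ∨ U = ⊤ := by
    intro U hU
    by_cases hUb : U = ⊥
    · exact Or.inl hUb
    · right
      have h1 : ∀ u ∈ U.map W.subtype, f u ∈ U.map W.subtype := by
        rintro _ ⟨u, hu, rfl⟩
        exact ⟨φ u, hU u hu, rfl⟩
      have h2 : U.map W.subtype ≠ ⊥ := by
        intro h
        apply hUb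
        rw [Submodule.eq_bot_iff]
        intro u hu
        have : W.subtype u ∈ U.map W.subtype := Submodule.mem_map_of_mem hu
        rw [h, Submodule.mem_bot] at this
        exact Subtype.ext this
      have h3 := hmin _ h1 h2
      have h4 : finrank F (U.map W.subtype) = finrank F U :=
        (Submodule.equivMapOfInjective W.subtype W.injective_subtype U).finrank_eq.symm
      rw [h4] at h3
      exact Submodule.eq_top_of_finrank_eq (le_antisymm (Submodule.finrank_le U) h3)
  obtain ⟨cW, hcW, hdet⟩ := simple_det_surj φ hφ δ hδ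
  obtain ⟨W', hW'mem, hcompl⟩ := (Module.End.isSemisimple_iff.mp hf) W hWmem
  have hW'inv : ∀ u ∈ W', f u ∈ W' := by
    intro u hu
    exact hW'mem hu
  let φ' : End F W' := f.restrict hW'inv
  let e : (W × W') ≃ₗ[F] V := Submodule.prodEquivOfIsCompl W W' hcompl
  have hfe : f = e.conj (φ.prodMap φ') := by
    apply LinearMap.ext
    intro x
    obtain ⟨⟨w, w'⟩, rfl⟩ := e.surjective x
    rw [LinearEquiv.conj_apply_apply, LinearEquiv.symm_apply_apply]
    simp [e, φ, φ', LinearMap.restrict_apply]
  refine ⟨e.conj (cW.prodMap LinearMap.id), ?_, ?_⟩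
  · rw [hfe, Module.End.mul_eq_comp, Module.End.mul_eq_comp, ← LinearEquiv.conj_comp,
      ← LinearEquiv.conj_comp]
    congr 1
    apply LinearMap.ext
    rintro ⟨w, w'⟩
    have := congrArg (fun g : End F W => g w) hcW
    simp only [Module.End.mul_apply] at this
    simp [this]
  · rw [LinearEquiv.conj_apply, LinearMap.comp_assoc, LinearMap.det_conj, LinearMap.det_prodMap,
      hdet, LinearMap.det_id, mul_one]

/-- In GL_n over a finite field of characteristic p, the conjugacy class of a semisimple element (an element of order prime to p) under the special linear group is its whole GL-conjugacy class: for every such x and every invertible g there is h of determinant one with h x h⁻¹ = g x g⁻¹. -/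
theorem result {F : Type*} [Field F] [Fintype F] {p : ℕ} [Fact p.Prime] [CharP F p] {n : ℕ} (x g : GL (Fin n) F) (hx : (orderOf x).Coprime p) : ∃ h : GL (Fin n) F, (h : Matrix (Fin n) (Fin n) F).det = 1 ∧ h * x * h⁻¹ = g * x * g⁻¹ := by
  classical
  suffices H : ∃ c : GL (Fin n) F, c * x = x * c ∧
      (c : Matrix (Fin n) (Fin n) F).det = (g : Matrix (Fin n) (Fin n) F).det by
    obtain ⟨c, hc, hdet⟩ := H
    refine ⟨g * c⁻¹, ?_, ?_⟩
    · have h1 : ((g * c⁻¹ : GL (Fin n) F) : Matrix (Fin n) (Fin n) F).det
          * (c : Matrix (Fin n) (Fin n) F).det = (g : Matrix (Fin n) (Fin n) F).det := by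
        rw [← Matrix.det_mul, ← Units.val_mul, inv_mul_cancel_right]
      have hc0 : (c : Matrix (Fin n) (Fin n) F).det ≠ 0 := by
        rw [hdet]
        exact (Matrix.isUnits_det_units g).ne_zero
      rw [← hdet] at h1
      exact mul_right_cancel₀ hc0 (h1.trans (one_mul _).symm)
    · have h2 : c⁻¹ * x * c = x := by
        rw [mul_assoc, ← hc, ← mul_assoc, inv_mul_cancel, one_mul]
      calc g * c⁻¹ * x * (g * c⁻¹)⁻¹ = g * (c⁻¹ * x * c) * g⁻¹ := by group
        _ = g * x * g⁻¹ := by rw [h2]
  by_cases hn : n = 0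
  · subst hn
    exact ⟨1, by simp, by simp [Matrix.det_isEmpty]⟩
  haveI : Nonempty (Fin n) := ⟨⟨0, Nat.pos_of_ne_zero hn⟩⟩
  haveI : Nontrivial (Fin n → F) := inferInstance
  obtain ⟨f, hf⟩ : ∃ f : End F (Fin n → F), f = Matrix.toLin' (x : Matrix (Fin n) (Fin n) F) := ⟨_, rfl⟩
  have hpow : f ^ orderOf x = 1 := by
    rw [hf, ← Matrix.toLin'_pow, ← Units.val_pow_eq_pow_val, pow_orderOf_eq_one, Units.val_one,
      Matrix.toLin'_one]
    rfl
  have hss : f.IsSemisimple := by
    apply Module.End.isSemisimple_of_squarefree_aeval_eq_zero (p := X ^ orderOf x - C (1 : F))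
    · apply Polynomial.Separable.squarefree
      apply Polynomial.separable_X_pow_sub_C (1 : F) ?_ one_ne_zero
      intro h0
      rw [CharP.cast_eq_zero_iff F p] at h0
      have hp := (Fact.out : p.Prime)
      exact hp.one_lt.ne' (Nat.eq_one_of_dvd_coprimes hx h0 (dvd_refl p)) 
    · simp [hpow]
  have hg0 : (g : Matrix (Fin n) (Fin n) F).det ≠ 0 := (Matrix.isUnits_det_units g).ne_zero
  obtain ⟨c, hc, hdet⟩ := semisimple_det_surj f hss _ hg0
  have hCdet : (LinearMap.toMatrix' c).det = (g : Matrix (Fin n) (Fin n) F).det := by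
    rw [LinearMap.det_toMatrix']; exact hdet
  have hCx : LinearMap.toMatrix' c * (x : Matrix (Fin n) (Fin n) F)
      = (x : Matrix (Fin n) (Fin n) F) * LinearMap.toMatrix' c := by
    have h1 := congrArg LinearMap.toMatrix' hc
    rw [LinearMap.toMatrix'_mul, LinearMap.toMatrix'_mul, hf, LinearMap.toMatrix'_toLin'] at h1
    exact h1
  refine ⟨Matrix.GeneralLinearGroup.mkOfDetNeZero (LinearMap.toMatrix' c) (hCdet ▸ hg0), ?_, hCdet⟩
  apply Units.ext
  exact hCx

end Cfsg.Agent.S2569
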