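import Cfsg.Statements.S2574
-- import your own Cfsg.Agent.* helpers here
import Cfsg.Agent.S2573

set_option autoImplicit false
open Cfsg

namespace Cfsg.Agent.S2574

open Matrix Module

theorem symp_invariant {F : Type*} [Field F] {m : ℕ} (A : Matrix (Fin m ⊕ Fin m) (Fin m ⊕ Fin m) F)
    (hA : A ∈ Matrix.symplecticGroup (Fin m) F) (x y : Fin m ⊕ Fin m → F) :
    Cfsg.sympForm m F (A *ᵥ x) (A *ᵥ y) = Cfsg.sympForm m F x y := by
  unfold Cfsg.sympForm
  rw [Matrix.mulVec_mulVec, Matrix.dotProduct_mulVec, Matrix.vecMul_mulVec, ← Matrix.dotProduct_mulVec,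
    ← Matrix.mul_assoc, SymplecticGroup.mem_iff'.mp hA]

theorem symp_skew {F : Type*} [Field F] {m : ℕ} (x y : Fin m ⊕ Fin m → F) :
    Cfsg.sympForm m F x y = - Cfsg.sympForm m F y x := by
  unfold Cfsg.sympForm
  rw [Matrix.dotProduct_mulVec, ← Matrix.mulVec_transpose, Matrix.J_transpose, Matrix.neg_mulVec,
    neg_dotProduct, dotProduct_comm]

theorem ker_pow_mono {K V : Type*} [Field K] [AddCommGroup V] [Module K V] (N : End K V) {a b : ℕ} (hab : a ≤ b) :
    LinearMap.ker (N ^ a) ≤ LinearMap.ker (N ^ b) := by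
  intro x hx
  rw [LinearMap.mem_ker] at hx ⊢
  obtain ⟨c, rfl⟩ := Nat.exists_eq_add_of_le hab
  rw [add_comm, pow_add, Module.End.mul_apply, hx, map_zero]

/-- A regular unipotent element of the symplectic group has totally isotropic small invariant subspaces: over a finite field, if u ∈ Sp_2m(F) satisfies (u − 1)^(2m) = 0 and rank(u − 1) = 2m − 1, and W is a u-invariant subspace with 2 dim W ≤ 2m, then the alternating form vanishes identically on W. -/
theorem result {F : Type*} [Field F] [Finite F] {m : ℕ} (u : Matrix.symplecticGroup (Fin m) F) (hnil : ((u : Matrix (Fin m ⊕ Fin m) (Fin m ⊕ Fin m) F) - 1) ^ (2 * m) = 0) (hreg : ((u : Matrix (Fin m ⊕ Fin m) (Fin m ⊕ Fin m) F) - 1).rank = 2 * m - 1) (W : Submodule F (Fin m ⊕ Fin m → F)) (hW : ∀ v ∈ W, (u : Matrix (Fin m ⊕ Fin m) (Fin m ⊕ Fin m) F).mulVec v ∈ W) (hdim : 2 * Module.finrank F W ≤ 2 * m) : ∀ v ∈ W, ∀ w ∈ W, Cfsg.sympForm m F v w = 0 := by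
  classical
  set A : Matrix (Fin m ⊕ Fin m) (Fin m ⊕ Fin m) F := (u : Matrix (Fin m ⊕ Fin m) (Fin m ⊕ Fin m) F) with hAdef
  have hAmem : A ∈ Matrix.symplecticGroup (Fin m) F := u.2
  set B : LinearMap.BilinForm F (Fin m ⊕ Fin m → F) := Matrix.toBilin' (Matrix.J (Fin m) F) with hBdef
  have hBf : ∀ x y, B x y = Cfsg.sympForm m F x y := by
    intro x y
    rw [hBdef, Matrix.toBilin'_apply']
    rfl
  have hBrefl : B.IsRefl := by
    intro x y h
    rw [hBf] at h ⊢
    rw [symp_skew, h, neg_zero]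
  have hfin : Module.finrank F (Fin m ⊕ Fin m → F) = 2 * m := by
    simp; ring
  set N : Module.End F (Fin m ⊕ Fin m → F) := Matrix.toLin' (A - 1) with hNdef
  have hNnil : N ^ (2 * m) = 0 := by
    rw [hNdef, ← Matrix.toLin'_pow, hnil]; simp
  have hNker : Module.finrank F (LinearMap.ker N) ≤ 1 := by
    have h := LinearMap.finrank_range_add_finrank_ker N
    have hr : Module.finrank F (LinearMap.range N) = 2 * m - 1 := hreg
    rw [hr, hfin] at h
    omega
  have hNapp : ∀ v, N v = A *ᵥ v - v := by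
    intro v
    simp [hNdef, Matrix.sub_mulVec]
  have hWN : ∀ v ∈ W, N v ∈ W := by
    intro v hv
    rw [hNapp]
    exact W.sub_mem (hW v hv) hv
  -- A maps W onto W
  have hsurj : ∀ w ∈ W, ∃ w' ∈ W, A *ᵥ w' = w := by
    have hAinv : Function.Injective (Matrix.toLin' A) := by
      have hdet : IsUnit A.det := SymplecticGroup.symplectic_det hAmem
      exact Matrix.mulVec_injective_iff_isUnit.mpr ((Matrix.isUnit_iff_isUnit_det A).mpr hdet)
    have hinjW : Function.Injective ((Matrix.toLin' A).restrict (p := W) (q := W) (fun v hv => by simpa using hW v hv)) := by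
      intro a b hab
      apply Subtype.ext
      apply hAinv
      have := congrArg Subtype.val hab
      simpa using this
    have hsW := LinearMap.surjective_of_injective hinjW
    intro w hw
    obtain ⟨w', hw'⟩ := hsW ⟨w, hw⟩
    refine ⟨w'.1, w'.2, ?_⟩
    have := congrArg Subtype.val hw'
    simpa using this
  have hW'N : ∀ y ∈ B.orthogonal W, N y ∈ B.orthogonal W := by
    intro y hy
    rw [LinearMap.BilinForm.mem_orthogonal_iff] at hy ⊢
    intro w hw
    rw [hNapp, map_sub, hy w hw, sub_zero]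
    obtain ⟨w', hw', rfl⟩ := hsurj w hw
    rw [hBf, symp_invariant A hAmem, ← hBf]
    exact hy w' hw'
  have e1 := Cfsg.Agent.S2573.inv_eq_ker_pow N (2 * m) (le_of_eq hfin) hNnil hNker W hWN
  have e2 := Cfsg.Agent.S2573.inv_eq_ker_pow N (2 * m) (le_of_eq hfin) hNnil hNker (B.orthogonal W) hW'N
  have hdims := LinearMap.BilinForm.finrank_add_finrank_orthogonal hBrefl W
  rw [hfin] at hdims
  have hle : Module.finrank F W ≤ Module.finrank F (B.orthogonal W) := by omega
  have hWW' : W ≤ B.orthogonal W := by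
    calc W = LinearMap.ker (N ^ Module.finrank F W) := e1
      _ ≤ LinearMap.ker (N ^ Module.finrank F (B.orthogonal W)) := ker_pow_mono N hle
      _ = B.orthogonal W := e2.symm
  intro v hv w hw
  have := hWW' hw
  rw [LinearMap.BilinForm.mem_orthogonal_iff] at this
  rw [← hBf]
  exact this v hv

end Cfsg.Agent.S2574
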