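import Cfsg.Statements.S2575
-- import your own Cfsg.Agent.* helpers here
import Cfsg.Agent.Lib.Helper15.FiniteFieldPow

set_option autoImplicit false
open Cfsg

namespace Cfsg.Agent.S2575

theorem prod_signs {F : Type*} [Field F] (n i : ℕ) (hi : i ≤ n) :
    ∏ j : Fin n, (if (j : ℕ) < i then (-1 : F) else 1) = (-1) ^ i := by
  rw [Fin.prod_univ_eq_prod_range (fun j => if j < i then (-1 : F) else 1) n,
    ← Finset.prod_range_mul_prod_Ico _ hi]
  have h1 : ∏ k ∈ Finset.range i, (if k < i then (-1 : F) else 1) = (-1) ^ i := by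
    rw [Finset.prod_congr rfl (fun k hk => if_pos (Finset.mem_range.mp hk))]
    simp
  have h2 : ∏ k ∈ Finset.Ico i n, (if k < i then (-1 : F) else 1) = 1 := by
    apply Finset.prod_eq_one
    intro k hk
    rw [if_neg (not_lt.mpr (Finset.mem_Ico.mp hk).1)]
  rw [h1, h2, mul_one]

/-- Which diagonal involutions of PGL_n(q) lie in PSL_n(q), q odd: for the diagonal matrix t with i entries −1 and n − i entries 1, some non-zero scalar multiple of t has determinant one if and only if i is even or the 2-part of q − 1 exceeds the 2-part of n (that is, −1 is an n-th power in the field exactly in the latter case). -/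
theorem result {F : Type*} [Field F] [Fintype F] {q : ℕ} (hF : Fintype.card F = q) (hq : Odd q) {n : ℕ} (hn : 1 ≤ n) (i : ℕ) (hi : i ≤ n) : (∃ c : F, c ≠ 0 ∧ (c • Matrix.diagonal (fun j : Fin n => if (j : ℕ) < i then (-1 : F) else 1)).det = 1) ↔ (Even i ∨ padicValNat 2 n < padicValNat 2 (q - 1)) := by
  have hn0 : n ≠ 0 := by omega
  have hdet : ∀ c : F, (c • Matrix.diagonal (fun j : Fin n => if (j : ℕ) < i then (-1 : F) else 1)).det
      = c ^ n * (-1) ^ i := by
    intro c
    rw [Matrix.det_smul, Matrix.det_diagonal, prod_signs n i hi, Fintype.card_fin]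
  simp only [hdet]
  constructor
  · rintro ⟨c, hc0, hc⟩
    by_cases hi2 : Even i
    · exact Or.inl hi2
    · right
      rw [Nat.not_even_iff_odd] at hi2
      rw [hi2.neg_one_pow] at hc
      have : c ^ n = -1 := by linear_combination -hc
      exact (Cfsg.Agent.Lib.Helper15.exists_pow_eq_neg_one_iff hF hq n hn0).mp ⟨c, this⟩
  · rintro (hi2 | hlt)
    · exact ⟨1, one_ne_zero, by rw [hi2.neg_one_pow]; simp⟩
    · by_cases hi2 : Even i
      · exact ⟨1, one_ne_zero, by rw [hi2.neg_one_pow]; simp⟩
      · rw [Nat.not_even_iff_odd] at hi2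
        obtain ⟨c, hc⟩ := (Cfsg.Agent.Lib.Helper15.exists_pow_eq_neg_one_iff hF hq n hn0).mpr hlt
        refine ⟨c, ?_, ?_⟩
        · rintro rfl
          rw [zero_pow hn0] at hc
          have : (1 : F) = 0 := by linear_combination hc
          exact one_ne_zero this
        · rw [hc, hi2.neg_one_pow]; ring

end Cfsg.Agent.S2575
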