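import Cfsg.Statements.S2576
-- import your own Cfsg.Agent.* helpers here
import Cfsg.Agent.Lib.Helper15.FiniteFieldPow

set_option autoImplicit false
open Cfsg

namespace Cfsg.Agent.S2576

/-- an element of order `2^a` (`a ≥ 1`) in a field has `μ^(2^(a-1)) = -1`. -/
theorem pow_half_order {F : Type*} [Field F] (μ : F) (a : ℕ) (ha : 1 ≤ a) (hμ : orderOf μ = 2 ^ a) :
    μ ^ (2 ^ (a - 1)) = -1 := by
  have h1 : (μ ^ (2 ^ (a - 1))) * (μ ^ (2 ^ (a - 1))) = 1 := by
    rw [← pow_add, ← two_mul, ← pow_succ']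
    have : a - 1 + 1 = a := by omega
    rw [this, ← hμ]
    exact pow_orderOf_eq_one μ
  have h2 : μ ^ (2 ^ (a - 1)) ≠ 1 := by
    apply pow_ne_one_of_lt_orderOf (by positivity)
    rw [hμ]
    exact Nat.pow_lt_pow_right (by norm_num) (by omega)
  rcases mul_self_eq_one_iff.mp h1 with h | h
  · exact absurd h h2
  · exact h

/-- Which involutions of PGL_2m(q) coming from a scalar of the quadratic extension field lie in PSL_2m(q), q odd: let μ generate the Sylow 2-subgroup of the multiplicative group of the field with q elements (μ has order the 2-part of q − 1) and let t be the block-diagonal matrix with m diagonal blocks [[0, 1], [μ, 0]] (so t² is the scalar μ and t is an involution modulo scalars). Then some non-zero scalar multiple of t has determinant one if and only if q ≡ 3 (mod 4) or the 2-part of q − 1 is less than the 2-part of 2m. -/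
theorem result {F : Type*} [Field F] [Fintype F] {q : ℕ} (hF : Fintype.card F = q) (hq : Odd q) {m : ℕ} (hm : 1 ≤ m) (μ : F) (hμ : orderOf μ = 2 ^ padicValNat 2 (q - 1)) : (∃ c : F, c ≠ 0 ∧ (c • Matrix.blockDiagonal (fun _ : Fin m => !![(0 : F), 1; μ, 0])).det = 1) ↔ (q % 4 = 3 ∨ padicValNat 2 (q - 1) < padicValNat 2 (2 * m)) := by
  classical
  have hq1 : q - 1 ≠ 0 := by
    have : 2 ≤ q := by rw [← hF]; exact Fintype.one_lt_card
    omega
  have hm0 : m ≠ 0 := by omega
  have h2F : (2 : F) ≠ 0 := Cfsg.Agent.Lib.Helper15.two_ne_zero_of_odd_card (hF ▸ hq)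
  have h1ne : (1 : F) ≠ -1 := by
    intro h
    apply h2F
    linear_combination h
  have hdet : ∀ c : F, (c • Matrix.blockDiagonal (fun _ : Fin m => !![(0 : F), 1; μ, 0])).det
      = c ^ (2 * m) * (-μ) ^ m := by
    intro c
    rw [Matrix.det_smul, Matrix.det_blockDiagonal]
    simp [Matrix.det_fin_two_of]
  simp only [hdet]
  have ha1 : 1 ≤ padicValNat 2 (q - 1) := by
    apply (padicValNat_dvd_iff_le hq1).mp
    obtain ⟨k, hk⟩ := hq
    exact ⟨k, by omega⟩
  have hv2m : padicValNat 2 (2 * m) = 1 + padicValNat 2 m := by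
    rw [padicValNat.mul (by norm_num) hm0, padicValNat_self]
  have hcN : ∀ c : F, c ≠ 0 → c ^ (q - 1) = 1 := by
    intro c hc0
    rw [← hF]; exact FiniteField.pow_card_sub_one_eq_one c hc0
  have hμhalf := pow_half_order μ _ ha1 hμ
  have hμpow : μ ^ (2 ^ padicValNat 2 (q - 1)) = 1 := by
    rw [← hμ]; exact pow_orderOf_eq_one μ
  constructor
  · rintro ⟨c, hc0, hc⟩
    by_contra hcon
    push_neg at hcon
    obtain ⟨hq4, hle⟩ := hcon
    rw [hv2m] at hle
    -- a ≥ 2
    have ha2 : 2 ≤ padicValNat 2 (q - 1) := by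
      apply (padicValNat_dvd_iff_le hq1).mp
      obtain ⟨k, hk⟩ := hq
      have : q % 4 = 1 := by omega
      exact ⟨q / 4, by omega⟩
    have hmaxq : ¬ 2 ^ (padicValNat 2 (q - 1) + 1) ∣ q - 1 := by
      intro h
      have := (padicValNat_dvd_iff_le hq1).mp h
      omega
    have hmaxm : ¬ 2 ^ (padicValNat 2 m + 1) ∣ m := by
      intro h
      have := (padicValNat_dvd_iff_le hm0).mp h
      omega
    obtain ⟨t, ht⟩ : 2 ^ padicValNat 2 (q - 1) ∣ q - 1 := pow_padicValNat_dvd
    obtain ⟨s, hs⟩ : 2 ^ padicValNat 2 m ∣ m := pow_padicValNat_dvd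
    generalize padicValNat 2 (q - 1) = a at *
    generalize padicValNat 2 m = b at *
    have htodd : Odd t := by
      rw [← Nat.not_even_iff_odd]
      rintro ⟨r, hr⟩
      exact hmaxq ⟨r, by rw [ht, hr]; ring⟩
    have hsodd : Odd s := by
      rw [← Nat.not_even_iff_odd]
      rintro ⟨r, hr⟩
      exact hmaxm ⟨r, by rw [hs, hr]; ring⟩
    -- raise to the power k = t * 2^(a-1-b)
    have hk := congrArg (fun z : F => z ^ (t * 2 ^ (a - 1 - b))) hc
    simp only [one_pow, mul_pow] at hk
    have e1 : (c ^ (2 * m)) ^ (t * 2 ^ (a - 1 - b)) = 1 := by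
      rw [← pow_mul]
      have : 2 * m * (t * 2 ^ (a - 1 - b)) = (q - 1) * s := by
        rw [ht, hs]
        have h3 : a = (a - 1 - b) + b + 1 := by omega
        conv_rhs => rw [h3]
        ring
      rw [this, pow_mul, hcN c hc0, one_pow]
    have e2 : ((-μ) ^ m) ^ (t * 2 ^ (a - 1 - b)) = -1 := by
      rw [← pow_mul]
      have : m * (t * 2 ^ (a - 1 - b)) = 2 ^ (a - 1) * (s * t) := by
        rw [hs]
        have h3 : a - 1 = (a - 1 - b) + b := by omega
        conv_rhs => rw [h3]
        ring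
      rw [this, pow_mul, neg_pow, hμhalf]
      have hev : Even (2 ^ (a - 1)) := by
        have : a - 1 = (a - 2) + 1 := by omega
        rw [this, pow_succ]; exact even_two.mul_left _
      rw [hev.neg_one_pow, one_mul, (hsodd.mul htodd).neg_one_pow]
    rw [e1, e2] at hk
    exact h1ne (by linear_combination -hk)
  · rintro (hq4 | hlt)
    · -- a = 1, μ = -1
      have ha : padicValNat 2 (q - 1) = 1 := by
        apply le_antisymm _ ha1
        by_contra h
        push_neg at h
        have : 2 ^ 2 ∣ q - 1 := (padicValNat_dvd_iff_le hq1).mpr h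
        obtain ⟨k, hk⟩ := this
        omega
      rw [ha] at hμhalf
      have hμ1 : μ = -1 := by simpa using hμhalf
      refine ⟨1, one_ne_zero, ?_⟩
      rw [hμ1]; simp
    · rw [hv2m] at hlt
      have hdvd : 2 ^ padicValNat 2 (q - 1) ∣ m := (padicValNat_dvd_iff_le hm0).mpr (by omega)
      obtain ⟨u, hu⟩ := hdvd
      refine ⟨1, one_ne_zero, ?_⟩
      rw [one_pow, one_mul, hu, pow_mul, neg_pow, hμpow]
      have hev : Even (2 ^ padicValNat 2 (q - 1)) := by
        have : padicValNat 2 (q - 1) = (padicValNat 2 (q - 1) - 1) + 1 := by omega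
        rw [this, pow_succ]; exact even_two.mul_left _
      rw [hev.neg_one_pow, one_mul, one_pow]

end Cfsg.Agent.S2576
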