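import Cfsg.Statements.S2577
-- import your own Cfsg.Agent.* helpers here
import Cfsg.Agent.Lib.Helper15.PGLInvol

set_option autoImplicit false
open Cfsg

namespace Cfsg.Agent.S2577

open Polynomial Module Cfsg.Agent.Lib.Helper15.SemisimpleConj Cfsg.Agent.Lib.Helper15.PGLInvol

variable {F : Type*} [Field F] {n : ℕ}

lemma scalar_eq (c : F) : Matrix.scalar (Fin n) c = c • (1 : Matrix (Fin n) (Fin n) F) := by
  rw [Matrix.smul_one_eq_diagonal]; rfl

/-- central elements are the scalars -/
lemma mem_center_iff' (g : GL (Fin n) F) :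
    g ∈ Subgroup.center (GL (Fin n) F) ↔ ∃ c : F, tlin g.val = c • (1 : End F (Fin n → F)) := by
  rw [Matrix.GeneralLinearGroup.mem_center_iff_val_mem_range_scalar]
  constructor
  · rintro ⟨c, hc⟩
    refine ⟨c, ?_⟩
    rw [← hc, scalar_eq, tlin_smul, tlin_one]
  · rintro ⟨c, hc⟩
    refine ⟨c, ?_⟩
    rw [scalar_eq]
    apply tlin_injective
    rw [tlin_smul, tlin_one, hc]

lemma tlin_val_mul (g h : GL (Fin n) F) : tlin (g * h).val = tlin g.val * tlin h.val := by
  rw [Units.val_mul, tlin_mul]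

/-- the linear equivalence of an invertible matrix -/
noncomputable def glEquiv (P : GL (Fin n) F) : (Fin n → F) ≃ₗ[F] (Fin n → F) :=
  LinearEquiv.ofLinearMap (tlin P.val) (tlin P⁻¹.val)
    (by rw [← End.mul_eq_comp, ← tlin_val_mul, mul_inv_cancel]; exact tlin_one)
    (by rw [← End.mul_eq_comp, ← tlin_val_mul, inv_mul_cancel]; exact tlin_one)

lemma glEquiv_apply (P : GL (Fin n) F) (v : Fin n → F) : glEquiv P v = tlin P.val v := rfl

lemma order_two_iff (g : GL (Fin n) F) :
    orderOf (QuotientGroup.mk g : GL (Fin n) F ⧸ Subgroup.center (GL (Fin n) F)) = 2 ↔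
      g ∉ Subgroup.center (GL (Fin n) F) ∧ g * g ∈ Subgroup.center (GL (Fin n) F) := by
  constructor
  · intro h
    constructor
    · intro hg
      have : (QuotientGroup.mk g : GL (Fin n) F ⧸ Subgroup.center (GL (Fin n) F)) = 1 :=
        (QuotientGroup.eq_one_iff g).2 hg
      rw [this, orderOf_one] at h
      omega
    · rw [← QuotientGroup.eq_one_iff, QuotientGroup.mk_mul, ← sq, ← h, pow_orderOf_eq_one]
  · rintro ⟨h1, h2⟩
    haveI : Fact (Nat.Prime 2) := ⟨Nat.prime_two⟩
    apply orderOf_eq_prime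
    · rw [sq, ← QuotientGroup.mk_mul]
      exact (QuotientGroup.eq_one_iff _).2 h2
    · intro h
      exact h1 ((QuotientGroup.eq_one_iff g).1 h)

/-- conjugate elements of the quotient have the same label -/
lemma lab_of_isConj (hn : 1 ≤ n) (g g' : GL (Fin n) F)
    (h : IsConj (QuotientGroup.mk g : GL (Fin n) F ⧸ Subgroup.center (GL (Fin n) F))
      (QuotientGroup.mk g')) : lab (tlin g.val) = lab (tlin g'.val) := by
  have : Nonempty (Fin n) := ⟨⟨0, hn⟩⟩
  obtain ⟨c, hc⟩ := isConj_iff.1 h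
  obtain ⟨P, rfl⟩ := QuotientGroup.mk_surjective c
  rw [← QuotientGroup.mk_inv, ← QuotientGroup.mk_mul, ← QuotientGroup.mk_mul,
    QuotientGroup.eq] at hc
  obtain ⟨ζ, hζ⟩ := (mem_center_iff' _).1 hc
  have hζ0 : ζ ≠ 0 := by
    rintro rfl
    rw [zero_smul] at hζ
    have h1 : ((P * g * P⁻¹)⁻¹ * g').val = 0 := tlin_injective (by rw [hζ]; unfold tlin; rw [map_zero])
    have h3 := ((P * g * P⁻¹)⁻¹ * g').isUnit
    rw [h1] at h3
    exact not_isUnit_zero h3
  have h1 : tlin g'.val = ζ • (tlin (P * g * P⁻¹).val) := by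
    have h3 : g' = (P * g * P⁻¹) * ((P * g * P⁻¹)⁻¹ * g') := by group
    conv_lhs => rw [h3]
    rw [tlin_val_mul, hζ, mul_smul_comm, mul_one]
  have h3 : Conj (tlin g.val) (tlin (P * g * P⁻¹).val) := by
    refine ⟨glEquiv P, fun v => ?_⟩
    rw [glEquiv_apply, glEquiv_apply, ← End.mul_apply, ← End.mul_apply, ← tlin_val_mul,
      ← tlin_val_mul]
    congr 2
    group
  rw [h1, lab_smul _ ζ hζ0, lab_conj h3]

/-- intertwining up to a scalar gives conjugacy in the quotient -/
lemma isConj_of_intertwine (g g' : GL (Fin n) F) (e : (Fin n → F) ≃ₗ[F] (Fin n → F)) (ν : F)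
    (hν : ν ≠ 0) (he : ∀ v, e (tlin g.val v) = ν • tlin g'.val (e v)) :
    IsConj (QuotientGroup.mk g : GL (Fin n) F ⧸ Subgroup.center (GL (Fin n) F))
      (QuotientGroup.mk g') := by
  let Q : End F (Fin n → F) := (e : (Fin n → F) →ₗ[F] (Fin n → F))
  let Q' : End F (Fin n → F) := (e.symm : (Fin n → F) →ₗ[F] (Fin n → F))
  have hQQ' : Q * Q' = 1 := by
    apply LinearMap.ext; intro v; exact e.apply_symm_apply v
  have hQ'Q : Q' * Q = 1 := by
    apply LinearMap.ext; intro v; exact e.symm_apply_apply v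
  let P : GL (Fin n) F := ⟨LinearMap.toMatrixAlgEquiv' Q, LinearMap.toMatrixAlgEquiv' Q',
    by rw [← map_mul, hQQ', map_one], by rw [← map_mul, hQ'Q, map_one]⟩
  have hP : tlin P.val = Q := by
    show Matrix.toLinAlgEquiv' (LinearMap.toMatrixAlgEquiv' Q) = Q
    exact Matrix.toLinAlgEquiv'_toMatrixAlgEquiv' Q
  let z : GL (Fin n) F := ⟨ν • 1, ν⁻¹ • 1, by
    rw [smul_mul_smul_comm, mul_inv_cancel₀ hν, one_smul, mul_one], by
    rw [smul_mul_smul_comm, inv_mul_cancel₀ hν, one_smul, mul_one]⟩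
  have hz : z ∈ Subgroup.center (GL (Fin n) F) := by
    rw [mem_center_iff']
    refine ⟨ν, ?_⟩
    show tlin (ν • (1 : Matrix (Fin n) (Fin n) F)) = _
    rw [tlin_smul, tlin_one]
  have hPg : P * g = z * g' * P := by
    apply Units.ext
    apply tlin_injective
    rw [tlin_val_mul, tlin_val_mul, tlin_val_mul, hP]
    show Q * tlin g.val = tlin (ν • (1 : Matrix (Fin n) (Fin n) F)) * tlin g'.val * Q
    rw [tlin_smul, tlin_one]
    apply LinearMap.ext
    intro v
    simp only [End.mul_apply, LinearMap.smul_apply, End.one_apply]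
    exact he v
  rw [isConj_iff]
  refine ⟨QuotientGroup.mk P, ?_⟩
  rw [← QuotientGroup.mk_inv, ← QuotientGroup.mk_mul, ← QuotientGroup.mk_mul, hPg]
  have : z * g' * P * P⁻¹ = z * g' := by group
  rw [this, QuotientGroup.mk_mul, (QuotientGroup.eq_one_iff z).2 hz, one_mul]

/-- data attached to an element whose image has order two -/
lemma sq_data (hn : 1 ≤ n) (g : GL (Fin n) F)
    (h : orderOf (QuotientGroup.mk g : GL (Fin n) F ⧸ Subgroup.center (GL (Fin n) F)) = 2) :
    (∃ lam : F, lam ≠ 0 ∧ tlin g.val * tlin g.val = lam • (1 : End F (Fin n → F)) ∧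
      g.val * g.val = lam • (1 : Matrix (Fin n) (Fin n) F)) ∧
    ∀ c : F, tlin g.val ≠ c • (1 : End F (Fin n → F)) := by
  have : Nonempty (Fin n) := ⟨⟨0, hn⟩⟩
  obtain ⟨h1, h2⟩ := (order_two_iff g).1 h
  obtain ⟨lam, hlam⟩ := (mem_center_iff' _).1 h2
  rw [tlin_val_mul] at hlam
  have hmat : g.val * g.val = lam • (1 : Matrix (Fin n) (Fin n) F) := by
    apply tlin_injective
    rw [tlin_mul, tlin_smul, tlin_one, hlam]
  refine ⟨⟨lam, ?_, hlam, hmat⟩, fun c hc => h1 ((mem_center_iff' g).2 ⟨c, hc⟩)⟩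
  rintro rfl
  rw [zero_smul] at hmat
  have h3 := (g * g).isUnit
  rw [Units.val_mul, hmat] at h3
  exact not_isUnit_zero h3

/-- counting the labels -/
lemma card_labels (n : ℕ) :
    Nat.card {l : ℕ // (1 ≤ l ∧ l ≤ n / 2) ∨ (l = 0 ∧ Even n)} =
      n / 2 + (if Even n then 1 else 0) := by
  classical
  by_cases he : Even n
  · rw [if_pos he]
    have : Nat.card {l : ℕ // (1 ≤ l ∧ l ≤ n / 2) ∨ (l = 0 ∧ Even n)} =
        Nat.card (Fin (n / 2 + 1)) := by
      apply Nat.card_congr
      refine ⟨fun l => ⟨l.1, by rcases l.2 with h | h <;> omega⟩,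
        fun i => ⟨i.1, by
          rcases Nat.eq_zero_or_pos i.1 with h | h
          · right; exact ⟨h, he⟩
          · left; exact ⟨h, by omega⟩⟩, fun l => rfl, fun i => rfl⟩
    rw [this, Nat.card_fin]
  · rw [if_neg he, add_zero]
    have : Nat.card {l : ℕ // (1 ≤ l ∧ l ≤ n / 2) ∨ (l = 0 ∧ Even n)} =
        Nat.card (Fin (n / 2)) := by
      apply Nat.card_congr
      refine ⟨fun l => ⟨l.1 - 1, by
          rcases l.2 with h | h
          · omega
          · exact absurd h.2 he⟩,
        fun i => ⟨i.1 + 1, by left; omega⟩, fun l => ?_, fun i => ?_⟩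
      · apply Subtype.ext
        rcases l.2 with h | h
        · show l.1 - 1 + 1 = l.1
          omega
        · exact absurd h.2 he
      · apply Fin.ext
        show i.1 + 1 - 1 = i.1
        omega
    rw [this, Nat.card_fin]

section mainpart

variable [Fintype F]

/-- the label lies in the label set -/
lemma label_mem (hn : 2 ≤ n) (h2 : (2 : F) ≠ 0) (g : GL (Fin n) F)
    (h : orderOf (QuotientGroup.mk g : GL (Fin n) F ⧸ Subgroup.center (GL (Fin n) F)) = 2) :
    (1 ≤ lab (tlin g.val) ∧ lab (tlin g.val) ≤ n / 2) ∨ (lab (tlin g.val) = 0 ∧ Even n) := by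
  have : Nonempty (Fin n) := ⟨⟨0, by omega⟩⟩
  obtain ⟨⟨lam, hlam0, hlam, hmat⟩, hns⟩ := sq_data (by omega) g h
  by_cases hsq : IsSquare lam
  · left
    obtain ⟨μ, rfl⟩ := hsq
    have hμ : μ ≠ 0 := by
      rintro rfl
      simp at hlam0
    have := lab_bounds h2 (tlin g.val) μ hμ hlam hns
    rwa [Module.finrank_fin_fun] at this
  · right
    refine ⟨lab_of_nonsq _ lam hsq hlam, ?_⟩
    by_contra hodd
    rw [Nat.not_even_iff_odd] at hodd
    obtain ⟨k, hk⟩ := hodd
    apply hsq
    have hdet : g.val.det * g.val.det = lam ^ n := by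
      rw [← Matrix.det_mul, hmat, Matrix.det_smul, Matrix.det_one, mul_one, Fintype.card_fin]
    refine ⟨g.val.det / lam ^ k, ?_⟩
    have hk0 : lam ^ k ≠ 0 := pow_ne_zero _ hlam0
    rw [div_mul_div_comm, hdet, hk, pow_succ, pow_mul, sq]
    field_simp
    ring

/-- equal labels give conjugate elements -/
lemma conj_of_label_eq (hn : 2 ≤ n) (h2 : (2 : F) ≠ 0) (g g' : GL (Fin n) F)
    (h : orderOf (QuotientGroup.mk g : GL (Fin n) F ⧸ Subgroup.center (GL (Fin n) F)) = 2)
    (h' : orderOf (QuotientGroup.mk g' : GL (Fin n) F ⧸ Subgroup.center (GL (Fin n) F)) = 2)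
    (hl : lab (tlin g.val) = lab (tlin g'.val)) :
    IsConj (QuotientGroup.mk g : GL (Fin n) F ⧸ Subgroup.center (GL (Fin n) F))
      (QuotientGroup.mk g') := by
  classical
  have : Nonempty (Fin n) := ⟨⟨0, by omega⟩⟩
  obtain ⟨⟨lam, hlam0, hlam, hmat⟩, hns⟩ := sq_data (by omega) g h
  obtain ⟨⟨lam', hlam0', hlam', hmat'⟩, hns'⟩ := sq_data (by omega) g' h'
  by_cases hsq : IsSquare lam
  · obtain ⟨μ, rfl⟩ := hsq
    have hμ : μ ≠ 0 := by
      rintro rfl
      simp at hlam0
    have hb := lab_bounds h2 (tlin g.val) μ hμ hlam hns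
    by_cases hsq' : IsSquare lam'
    · obtain ⟨μ', rfl⟩ := hsq'
      have hμ' : μ' ≠ 0 := by
        rintro rfl
        simp at hlam0'
      rw [lab_of_sq _ μ hlam, lab_of_sq _ μ' hlam'] at hl
      have hc := Submodule.finrank_add_eq_of_isCompl (eig_isCompl h2 _ μ hμ hlam)
      have hc' := Submodule.finrank_add_eq_of_isCompl (eig_isCompl h2 _ μ' hμ' hlam')
      by_cases hcase : finrank F (eig (tlin g.val) μ) = finrank F (eig (tlin g'.val) μ')
      · obtain ⟨e, he⟩ := conj_of_eig_finrank h2 _ _ μ μ' hμ hμ' hlam hlam' hcase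
        exact isConj_of_intertwine g g' e _ (mul_ne_zero hμ (inv_ne_zero hμ')) he
      · have hcase' : finrank F (eig (tlin g.val) μ) = finrank F (eig (tlin g'.val) (-μ')) := by
          rcases Nat.le_total (finrank F (eig (tlin g.val) μ)) (finrank F (eig (tlin g.val) (-μ)))
            with h1 | h1 <;>
          rcases Nat.le_total (finrank F (eig (tlin g'.val) μ'))
            (finrank F (eig (tlin g'.val) (-μ'))) with h3 | h3
          · rw [min_eq_left h1, min_eq_left h3] at hl; exact absurd hl hcase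
          · rw [min_eq_left h1, min_eq_right h3] at hl; exact hl
          · rw [min_eq_right h1, min_eq_left h3] at hl; omega
          · rw [min_eq_right h1, min_eq_right h3] at hl; omega
        have hlam'' : tlin g'.val * tlin g'.val = ((-μ') * (-μ')) • (1 : End F (Fin n → F)) := by
          rw [neg_mul_neg]; exact hlam'
        obtain ⟨e, he⟩ := conj_of_eig_finrank h2 _ _ μ (-μ') hμ (neg_ne_zero.2 hμ') hlam hlam''
          hcase'
        exact isConj_of_intertwine g g' e _
          (mul_ne_zero hμ (inv_ne_zero (neg_ne_zero.2 hμ'))) he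
    · exfalso
      rw [lab_of_nonsq _ lam' hsq' hlam'] at hl
      omega
  · by_cases hsq' : IsSquare lam'
    · exfalso
      obtain ⟨μ', rfl⟩ := hsq'
      have hμ' : μ' ≠ 0 := by
        rintro rfl
        simp at hlam0'
      have hb := lab_bounds h2 (tlin g'.val) μ' hμ' hlam' hns'
      rw [lab_of_nonsq _ lam hsq hlam] at hl
      omega
    · -- both non-squares
      have hprod : IsSquare (lam * lam') := by
        have hc2 : ringChar F ≠ 2 := by
          intro hc
          apply h2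
          have := ringChar.spec F 2
          rw [hc] at this
          have h3 : ((2 : ℕ) : F) = 0 := this.2 (dvd_refl 2)
          exact_mod_cast h3
        rw [← quadraticChar_one_iff_isSquare (mul_ne_zero hlam0 hlam0'), map_mul,
          quadraticChar_neg_one_iff_not_isSquare.2 hsq, quadraticChar_neg_one_iff_not_isSquare.2 hsq']
        norm_num
      obtain ⟨s, hs⟩ := hprod
      set ν := s / lam' with hν
      have hs0 : s ≠ 0 := by
        rintro rfl
        rw [mul_zero] at hs
        exact mul_ne_zero hlam0 hlam0' hs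
      have hν0 : ν ≠ 0 := div_ne_zero hs0 hlam0'
      have hνlam : ν * ν * lam' = lam := by
        rw [hν, div_mul_div_comm, ← hs]
        field_simp
      have hT' : (ν • tlin g'.val) * (ν • tlin g'.val) = lam • (1 : End F (Fin n → F)) := by
        rw [smul_mul_smul_comm, hlam', smul_smul, hνlam]
      obtain ⟨e, he⟩ := conj_of_nonsq (tlin g.val) (ν • tlin g'.val) lam hsq hlam hT'
      exact isConj_of_intertwine g g' e ν hν0 (fun v => by rw [he]; rfl)

/-- every label is attained -/
lemma exists_of_label (hn : 2 ≤ n) (h2 : (2 : F) ≠ 0) (l : ℕ)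
    (hl : (1 ≤ l ∧ l ≤ n / 2) ∨ (l = 0 ∧ Even n)) :
    ∃ g : GL (Fin n) F,
      orderOf (QuotientGroup.mk g : GL (Fin n) F ⧸ Subgroup.center (GL (Fin n) F)) = 2 ∧
      lab (tlin g.val) = l := by
  classical
  have : Nonempty (Fin n) := ⟨⟨0, by omega⟩⟩
  rcases hl with ⟨hl1, hl2⟩ | ⟨rfl, hev⟩
  · obtain ⟨A, hAA, hAns, hAl⟩ := diag_lab (n := n) h2 l hl1 hl2
    let g : GL (Fin n) F := ⟨A, A, hAA, hAA⟩
    refine ⟨g, ?_, hAl⟩
    rw [order_two_iff]
    constructor
    · intro hg
      obtain ⟨c, hc⟩ := (mem_center_iff' g).1 hg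
      apply hAns c
      apply tlin_injective
      rw [tlin_smul, tlin_one]
      exact hc
    · have : g * g = 1 := Units.ext hAA
      rw [this]
      exact Subgroup.one_mem _
  · obtain ⟨m, hm⟩ := hev
    have hc2 : ringChar F ≠ 2 := by
      intro hc
      apply h2
      have := ringChar.spec F 2
      rw [hc] at this
      have h3 : ((2 : ℕ) : F) = 0 := this.2 (dvd_refl 2)
      exact_mod_cast h3
    obtain ⟨lam, hlam⟩ := FiniteField.exists_nonsquare hc2
    have hlam0 : lam ≠ 0 := by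
      rintro rfl
      exact hlam ⟨0, by simp⟩
    obtain ⟨A, hAA⟩ := nonsq_matrix (n := n) m (by omega) lam hlam
    let g : GL (Fin n) F := ⟨A, lam⁻¹ • A, by
      rw [mul_smul_comm, hAA, smul_smul, inv_mul_cancel₀ hlam0, one_smul], by
      rw [smul_mul_assoc, hAA, smul_smul, inv_mul_cancel₀ hlam0, one_smul]⟩
    have hT : tlin g.val * tlin g.val = lam • (1 : End F (Fin n → F)) := by
      show tlin A * tlin A = _
      rw [← tlin_mul, hAA, tlin_smul, tlin_one]
    refine ⟨g, ?_, lab_of_nonsq _ lam hlam hT⟩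
    rw [order_two_iff]
    constructor
    · intro hg
      obtain ⟨c, hc⟩ := (mem_center_iff' g).1 hg
      apply hlam
      refine ⟨c, ?_⟩
      rw [hc, smul_mul_smul_comm, mul_one] at hT
      obtain ⟨v, hv⟩ := exists_ne (0 : Fin n → F)
      have h3 := congrArg (fun φ : End F (Fin n → F) => φ v) hT
      simp only [LinearMap.smul_apply, End.one_apply] at h3
      exact (smul_left_injective F hv h3).symm
    · rw [mem_center_iff']
      exact ⟨lam, by rw [tlin_val_mul]; exact hT⟩

theorem main {q : ℕ} (hF : Fintype.card F = q) (hq : Odd q) (hn : 2 ≤ n) :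
    Nat.card {C : ConjClasses (GL (Fin n) F ⧸ Subgroup.center (GL (Fin n) F)) //
      ∃ g : GL (Fin n) F ⧸ Subgroup.center (GL (Fin n) F), ConjClasses.mk g = C ∧ orderOf g = 2} =
      n / 2 + (if Even n then 1 else 0) := by
  classical
  have h2 : (2 : F) ≠ 0 := by
    apply Ring.two_ne_zero
    intro hc
    rw [FiniteField.even_card_iff_char_two] at hc
    rw [hF] at hc
    obtain ⟨k, hk⟩ := hq
    omega
  rw [← card_labels n]
  let S := {C : ConjClasses (GL (Fin n) F ⧸ Subgroup.center (GL (Fin n) F)) //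
      ∃ g : GL (Fin n) F ⧸ Subgroup.center (GL (Fin n) F), ConjClasses.mk g = C ∧ orderOf g = 2}
  have hex : ∀ C : S, ∃ g : GL (Fin n) F,
      ConjClasses.mk (QuotientGroup.mk g : GL (Fin n) F ⧸ Subgroup.center (GL (Fin n) F)) = C.1 ∧
      orderOf (QuotientGroup.mk g : GL (Fin n) F ⧸ Subgroup.center (GL (Fin n) F)) = 2 := by
    intro C
    obtain ⟨gb, h1, h3⟩ := C.2
    obtain ⟨g, rfl⟩ := QuotientGroup.mk_surjective gb
    exact ⟨g, h1, h3⟩
  let rep : S → GL (Fin n) F := fun C => Classical.choose (hex C)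
  have hrep : ∀ C : S,
      ConjClasses.mk (QuotientGroup.mk (rep C) :
        GL (Fin n) F ⧸ Subgroup.center (GL (Fin n) F)) = C.1 ∧
      orderOf (QuotientGroup.mk (rep C) :
        GL (Fin n) F ⧸ Subgroup.center (GL (Fin n) F)) = 2 :=
    fun C => Classical.choose_spec (hex C)
  let Φ : S → {l : ℕ // (1 ≤ l ∧ l ≤ n / 2) ∨ (l = 0 ∧ Even n)} := fun C =>
    ⟨lab (tlin (rep C).val), label_mem hn h2 (rep C) (hrep C).2⟩
  apply Nat.card_congr
  refine Equiv.ofBijective Φ ⟨?_, ?_⟩
  · intro C₁ C₂ h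
    have h1 : lab (tlin (rep C₁).val) = lab (tlin (rep C₂).val) := congrArg Subtype.val h
    have h3 := conj_of_label_eq hn h2 (rep C₁) (rep C₂) (hrep C₁).2 (hrep C₂).2 h1
    apply Subtype.ext
    rw [← (hrep C₁).1, ← (hrep C₂).1]
    exact ConjClasses.mk_eq_mk_iff_isConj.2 h3
  · rintro ⟨l, hl⟩
    obtain ⟨g, hg, hgl⟩ := exists_of_label hn h2 l hl
    let C : S := ⟨ConjClasses.mk (QuotientGroup.mk g), QuotientGroup.mk g, rfl, hg⟩
    refine ⟨C, ?_⟩
    apply Subtype.ext
    show lab (tlin (rep C).val) = l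
    rw [← hgl]
    apply lab_of_isConj (by omega)
    exact ConjClasses.mk_eq_mk_iff_isConj.1 (hrep C).1

end mainpart

/-- Number of conjugacy classes of involutions in PGL_n(q) for q odd and n ≥ 2: there are ⌊n/2⌋ classes represented by diagonal matrices with i entries −1 (1 ≤ i ≤ n/2) and, when n is even, one more class represented by a block-diagonal matrix of 2 × 2 blocks [[0, 1], [μ, 0]] with μ a non-square (a matrix squaring to a scalar but having no eigenvalue in the field); in all ⌊n/2⌋ + 1 classes if n is even and ⌊n/2⌋ if n is odd. -/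
theorem result {F : Type*} [Field F] [Fintype F] {q : ℕ} (hF : Fintype.card F = q) (hq : Odd q) {n : ℕ} (hn : 2 ≤ n) : Nat.card {C : ConjClasses (GL (Fin n) F ⧸ Subgroup.center (GL (Fin n) F)) // ∃ g : GL (Fin n) F ⧸ Subgroup.center (GL (Fin n) F), ConjClasses.mk g = C ∧ orderOf g = 2} = n / 2 + (if Even n then 1 else 0) := by
  exact main hF hq hn

end Cfsg.Agent.S2577
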