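import Cfsg.Statements.S2582
-- import your own Cfsg.Agent.* helpers here
import Cfsg.Agent.Lib.Helper15.UniModels
import Cfsg.Agent.Lib.Helper15.UniJordan

set_option autoImplicit false
open Cfsg

namespace Cfsg.Agent.S2582

open Module Cfsg.Agent.Lib.Helper15.SemisimpleConj Cfsg.Agent.Lib.Helper15.NilpotentConj
  Cfsg.Agent.Lib.Helper15.UniForm Cfsg.Agent.Lib.Helper15.UniModels
  Cfsg.Agent.Lib.Helper15.UniJordan
open scoped Matrix

universe u

theorem main {F : Type u} [Field F] [Fintype F] {m t : ℕ} (d : Fin t → ℕ) (hd : ∀ k, 1 ≤ d k)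
    (hsum : ∑ k, d k = 2 * m) :
    (∃ e : ((k : Fin t) × Fin (d k)) ≃ (Fin m ⊕ Fin m),
      ∃ A : Matrix.symplecticGroup (Fin m) F,
        IsConj (Matrix.reindex e e (Cfsg.jordanTypeMatrix d F))
          (A : Matrix (Fin m ⊕ Fin m) (Fin m ⊕ Fin m) F)) ↔
      ∀ j : ℕ, Odd j → Even (Finset.univ.filter (fun k : Fin t => d k = j)).card := by
  classical
  constructor
  · rintro ⟨e, A, hA⟩ j hj
    rw [← count_typeOf]
    apply count_even_of_kapm_even (typeOf d) (2 * m) _ j hj
    intro i
    have hk : ∀ s, kap (Matrix.toLin' A.val - 1) s = kapm (typeOf d) s := fun s => by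
      rw [← kap_of_isConj _ _ hA, kap_jordan]
    have hAmem := A.2
    rw [SymplecticGroup.mem_iff'] at hAmem
    have hβ : ∀ x y, Matrix.toBilin' (Matrix.J (Fin m) F) x y = x ⬝ᵥ (Matrix.J (Fin m) F) *ᵥ y :=
      fun x y => Matrix.toBilin'_apply' _ x y
    have halt : (Matrix.toBilin' (Matrix.J (Fin m) F)).IsAlt := by
      intro x
      rw [hβ, J_alt]
    have hnd : ∀ x, (∀ y, Matrix.toBilin' (Matrix.J (Fin m) F) y x = 0) → x = 0 := by
      intro x hx
      apply J_nondeg m x
      intro v
      rw [← hβ, ← LinearMap.IsAlt.neg halt v x, hx, neg_zero]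
    have h1 : (A⁻¹ : Matrix.symplecticGroup (Fin m) F).val * A.val = 1 := by
      rw [← Submonoid.coe_mul, inv_mul_cancel]
      rfl
    have h2 : A.val * (A⁻¹ : Matrix.symplecticGroup (Fin m) F).val = 1 := by
      rw [← Submonoid.coe_mul, mul_inv_cancel]
      rfl
    obtain ⟨m', hm'⟩ := isometry_alt_rank (Matrix.toBilin' (Matrix.J (Fin m) F)) halt hnd
      (Matrix.toLin' A.val) (Matrix.toLin' (A⁻¹ : Matrix.symplecticGroup (Fin m) F).val)
      (by rw [Module.End.mul_eq_comp, ← Matrix.toLin'_mul, h2, Matrix.toLin'_one]; rfl)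
      (by rw [Module.End.mul_eq_comp, ← Matrix.toLin'_mul, h1, Matrix.toLin'_one]; rfl)
      (by
        intro x y
        rw [hβ, hβ, Matrix.toLin'_apply, Matrix.toLin'_apply,
          Cfsg.Agent.Lib.Helper15.AltGlue.dot_mulVec', Matrix.mulVec_mulVec, hAmem]) i
    refine ⟨m', ?_⟩
    rw [← hk, ← hm', Module.finrank_fintype_fun_eq_card, Fintype.card_sum, Fintype.card_fin]
    omega
  · intro h
    have hSp : SpU F (typeOf d) := by
      apply build_of_parity (P := SpU F) Odd spU_zero (fun _ _ => SpU.add) _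
        (fun j _ _ => spU_pair j) (typeOf d) (mem_typeOf d hd)
      · intro j hj
        rw [count_typeOf]
        exact h j hj
      · intro j hj hodd
        rw [Nat.not_odd_iff_even] at hodd
        obtain ⟨k, rfl⟩ := hodd
        rw [← two_mul]
        exact spU_single k (by omega)
    obtain ⟨W, _, _, _, T, β, halt, hnd, hinv, hnil, hk⟩ := hSp
    have hfr : finrank F W = m + m := by
      rw [finrank_of_kap (T - 1) _ hk hnil, sum_typeOf, hsum]
      ring
    obtain ⟨E, hE⟩ := exists_darboux β halt hnd m hfr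
    have hmem := mem_symplectic_of_isometry β m E hE T hinv
    have hcard : Fintype.card ((k : Fin t) × Fin (d k)) = Fintype.card (Fin m ⊕ Fin m) := by
      rw [Fintype.card_sigma, Fintype.card_sum, Fintype.card_fin]
      simp only [Fintype.card_fin]
      rw [hsum]
      ring
    exact ⟨Fintype.equivOfCardEq hcard, ⟨_, hmem⟩, isConj_of_model d W T hnil hk E _⟩

/-- Which unipotent Jordan types occur in the finite symplectic group: over a finite field, a unipotent matrix with Jordan block sizes d_1, …, d_t (sum 2m, all at least 1) is similar to an element of Sp_2m(F) if and only if every odd block size occurs an even number of times. -/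
theorem result {F : Type*} [Field F] [Fintype F] {m t : ℕ} (d : Fin t → ℕ) (hd : ∀ k, 1 ≤ d k) (hsum : ∑ k, d k = 2 * m) : (∃ e : ((k : Fin t) × Fin (d k)) ≃ (Fin m ⊕ Fin m), ∃ A : Matrix.symplecticGroup (Fin m) F, IsConj (Matrix.reindex e e (Cfsg.jordanTypeMatrix d F)) (A : Matrix (Fin m ⊕ Fin m) (Fin m ⊕ Fin m) F)) ↔ ∀ j : ℕ, Odd j → Even (Finset.univ.filter (fun k : Fin t => d k = j)).card := by
  exact main d hd hsum

end Cfsg.Agent.S2582
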