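import Cfsg.Statements.S2583
-- import your own Cfsg.Agent.* helpers here
import Cfsg.Agent.Lib.Helper15.UniModelsO
import Cfsg.Agent.Lib.Helper15.UniOrth

set_option autoImplicit false
open Cfsg

namespace Cfsg.Agent.S2583

open Module Cfsg.Agent.Lib.Helper15.SemisimpleConj Cfsg.Agent.Lib.Helper15.NilpotentConj
  Cfsg.Agent.Lib.Helper15.UniForm Cfsg.Agent.Lib.Helper15.UniModels
  Cfsg.Agent.Lib.Helper15.UniJordan Cfsg.Agent.Lib.Helper15.UniModelsO
  Cfsg.Agent.Lib.Helper15.UniOrth
open scoped Matrix

universe u

theorem main {F : Type u} [Field F] [Fintype F] (h2 : (2 : F) ≠ 0) {n t : ℕ} (d : Fin t → ℕ)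
    (hd : ∀ k, 1 ≤ d k) (hsum : ∑ k, d k = n) :
    (∃ Q : QuadraticForm F (Fin n → F), (QuadraticMap.polarBilin Q).Nondegenerate ∧
      ∃ e : ((k : Fin t) × Fin (d k)) ≃ Fin n, ∃ A : ↥(Cfsg.isometryGroup F ⇑Q),
        IsConj (Matrix.reindex e e (Cfsg.jordanTypeMatrix d F))
          ((A : Matrix.GeneralLinearGroup (Fin n) F) : Matrix (Fin n) (Fin n) F)) ↔
      ∀ j : ℕ, Even j → 0 < j → Even (Finset.univ.filter (fun k : Fin t => d k = j)).card := by
  classical
  constructor
  · rintro ⟨Q, hnd, e, A, hA⟩ j hj hj0
    rw [← count_typeOf]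
    apply count_even_of_kapm_odd (typeOf d) n _ j hj hj0
    intro i
    obtain ⟨u, v, hu, huv, hvu, -, hinv⟩ := isometry_facts Q A
    have hk : ∀ s, kap (u - 1) s = kapm (typeOf d) s := by
      intro s
      rw [hu]
      exact kap_of_conj_jordan d e _ hA s
    have hfr : finrank F (Fin n → F) = (typeOf d).sum := by
      rw [Module.finrank_fin_fun, sum_typeOf, hsum]
    have hnil : IsNilpotent (u - 1) := nilpotent_of_kap _ _ hk hfr
    have h2unit : IsUnit ((2 : F) • (1 : End F (Fin n → F))) := by
      have := (isUnit_one (M := End F (Fin n → F))).smul (Units.mk0 (2 : F) h2)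
      rwa [Units.smul_def] at this
    have hu1 : IsUnit (u + 1) := by
      have := hnil.isUnit_add_left_of_commute h2unit
        ((Commute.one_right _).smul_right _)
      have e1 : (2 : F) • (1 : End F (Fin n → F)) + (u - 1) = u + 1 := by
        rw [two_smul]
        abel
      rwa [e1] at this
    obtain ⟨m', hm'⟩ := isometry_symm_rank (QuadraticMap.polarBilin Q)
      (fun x y => by
        rw [QuadraticMap.polarBilin_apply_apply, QuadraticMap.polarBilin_apply_apply,
          QuadraticMap.polar_comm])
      hnd.2 u v huv hvu hinv hu1 i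
    refine ⟨m', ?_⟩
    rw [← hk, ← hm', Module.finrank_fin_fun]
  · intro h
    have hO : OU F (typeOf d) := by
      apply build_of_parity (P := OU F) Even oU_zero (fun _ _ => OU.add) _
        (fun j _ _ => oU_pair j) (typeOf d) (mem_typeOf d hd)
      · intro j hj
        rw [count_typeOf]
        rcases Nat.eq_zero_or_pos j with rfl | hj0
        · have : (Finset.univ.filter (fun k : Fin t => d k = 0)) = ∅ := by
            apply Finset.filter_eq_empty_iff.2
            intro k _ hk0
            have := hd k
            omega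
          rw [this]
          simp
        · exact h j hj hj0
      · intro j _ hodd
        rw [Nat.not_even_iff_odd] at hodd
        exact oU_single_odd h2 j hodd
    exact exists_of_OU d hsum hO

/-- Which unipotent Jordan types occur in a finite orthogonal group in odd characteristic: over a finite field of odd order, a unipotent matrix with Jordan block sizes d_1, …, d_t (sum n, all at least 1) is similar to an isometry of some quadratic form on F^n with non-degenerate polar form if and only if every even block size occurs an even number of times. -/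
theorem result {F : Type*} [Field F] [Fintype F] (h2 : (2 : F) ≠ 0) {n t : ℕ} (d : Fin t → ℕ) (hd : ∀ k, 1 ≤ d k) (hsum : ∑ k, d k = n) : (∃ Q : QuadraticForm F (Fin n → F), (QuadraticMap.polarBilin Q).Nondegenerate ∧ ∃ e : ((k : Fin t) × Fin (d k)) ≃ Fin n, ∃ A : ↥(Cfsg.isometryGroup F ⇑Q), IsConj (Matrix.reindex e e (Cfsg.jordanTypeMatrix d F)) ((A : Matrix.GeneralLinearGroup (Fin n) F) : Matrix (Fin n) (Fin n) F)) ↔ ∀ j : ℕ, Even j → 0 < j → Even (Finset.univ.filter (fun k : Fin t => d k = j)).card := by
  exact main h2 d hd hsum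

end Cfsg.Agent.S2583
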