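import Cfsg.Statements.S2584
-- import your own Cfsg.Agent.* helpers here
import Cfsg.Agent.Lib.Helper15.UniModels2
import Cfsg.Agent.Lib.Helper15.UniOrth

set_option autoImplicit false
open Cfsg

namespace Cfsg.Agent.S2584

open Module Cfsg.Agent.Lib.Helper15.SemisimpleConj Cfsg.Agent.Lib.Helper15.NilpotentConj
  Cfsg.Agent.Lib.Helper15.UniForm Cfsg.Agent.Lib.Helper15.UniModels
  Cfsg.Agent.Lib.Helper15.UniJordan Cfsg.Agent.Lib.Helper15.UniModels2
  Cfsg.Agent.Lib.Helper15.UniOrth
open scoped Matrix

universe u

theorem main {F : Type u} [Field F] [Fintype F] [CharP F 2] {m t : ℕ} (d : Fin t → ℕ)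
    (hd : ∀ k, 1 ≤ d k) (hsum : ∑ k, d k = 2 * m) :
    (∃ Q : QuadraticForm F (Fin (2 * m) → F), (QuadraticMap.polarBilin Q).Nondegenerate ∧
      ∃ e : ((k : Fin t) × Fin (d k)) ≃ Fin (2 * m), ∃ A : ↥(Cfsg.isometryGroup F ⇑Q),
        IsConj (Matrix.reindex e e (Cfsg.jordanTypeMatrix d F))
          ((A : Matrix.GeneralLinearGroup (Fin (2 * m)) F) :
            Matrix (Fin (2 * m)) (Fin (2 * m)) F)) ↔
      ∀ j : ℕ, Odd j → Even (Finset.univ.filter (fun k : Fin t => d k = j)).card := by
  classical
  constructor
  · rintro ⟨Q, hnd, e, A, hA⟩ j hj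
    rw [← count_typeOf]
    apply count_even_of_kapm_even (typeOf d) (2 * m) _ j hj
    intro i
    obtain ⟨u, v, hu, huv, hvu, -, hinv⟩ := isometry_facts Q A
    have hk : ∀ s, kap (u - 1) s = kapm (typeOf d) s := by
      intro s
      rw [hu]
      exact kap_of_conj_jordan d e _ hA s
    have halt : (QuadraticMap.polarBilin Q).IsAlt := by
      intro x
      rw [QuadraticMap.polarBilin_apply_apply, QuadraticMap.polar_self, two_nsmul]
      exact CharTwo.add_self_eq_zero _
    obtain ⟨m', hm'⟩ := isometry_alt_rank (QuadraticMap.polarBilin Q) halt hnd.2 u v huv hvu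
      hinv i
    refine ⟨m', ?_⟩
    rw [← hk, ← hm', Module.finrank_fin_fun]
  · intro h
    have hO : OU F (typeOf d) := by
      apply build_of_parity (P := OU F) Odd oU_zero (fun _ _ => OU.add) _
        (fun j _ _ => oU_pair j) (typeOf d) (mem_typeOf d hd)
      · intro j hj
        rw [count_typeOf]
        exact h j hj
      · intro j hj hodd
        rw [Nat.not_odd_iff_even] at hodd
        obtain ⟨k, rfl⟩ := hodd
        rw [← two_mul]
        exact oU_single_char2 k (by omega)
    exact exists_of_OU d hsum hO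

/-- Which unipotent Jordan types occur in a finite orthogonal group in characteristic two: over a finite field of characteristic 2 and in even dimension 2m, a unipotent matrix with Jordan block sizes d_1, …, d_t (sum 2m, all at least 1) is similar to an isometry of some quadratic form on F^(2m) with non-degenerate polar form if and only if every odd block size occurs an even number of times (the same condition as for the symplectic group, which contains these orthogonal groups). -/
theorem result {F : Type*} [Field F] [Fintype F] [CharP F 2] {m t : ℕ} (d : Fin t → ℕ) (hd : ∀ k, 1 ≤ d k) (hsum : ∑ k, d k = 2 * m) : (∃ Q : QuadraticForm F (Fin (2 * m) → F), (QuadraticMap.polarBilin Q).Nondegenerate ∧ ∃ e : ((k : Fin t) × Fin (d k)) ≃ Fin (2 * m), ∃ A : ↥(Cfsg.isometryGroup F ⇑Q), IsConj (Matrix.reindex e e (Cfsg.jordanTypeMatrix d F)) ((A : Matrix.GeneralLinearGroup (Fin (2 * m)) F) : Matrix (Fin (2 * m)) (Fin (2 * m)) F)) ↔ ∀ j : ℕ, Odd j → Even (Finset.univ.filter (fun k : Fin t => d k = j)).card := by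
  exact main d hd hsum

end Cfsg.Agent.S2584
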