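import Cfsg.Statements.S2586
-- import your own Cfsg.Agent.* helpers here
import Cfsg.Agent.Lib.Helper15.ConjTranspose

set_option autoImplicit false
open Cfsg

namespace Cfsg.Agent.S2586

/-- Over a finite field, every element of the symplectic group Sp_2m(F) is conjugate by an invertible matrix to its inverse. -/
theorem result {F : Type*} [Field F] [Finite F] {m : ℕ} (A : Matrix.symplecticGroup (Fin m) F) : IsConj (A : Matrix (Fin m ⊕ Fin m) (Fin m ⊕ Fin m) F) ((A⁻¹ : Matrix.symplecticGroup (Fin m) F) : Matrix (Fin m ⊕ Fin m) (Fin m ⊕ Fin m) F) := by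
  have h1 : IsConj (A : Matrix (Fin m ⊕ Fin m) (Fin m ⊕ Fin m) F)
      (A : Matrix (Fin m ⊕ Fin m) (Fin m ⊕ Fin m) F).transpose :=
    Cfsg.Agent.Lib.Helper15.isConj_transpose _
  refine h1.trans ?_
  have hJ : IsUnit (-(Matrix.J (Fin m) F)) := by
    rw [Matrix.isUnit_iff_isUnit_det, Matrix.det_neg]
    exact (IsUnit.pow _ isUnit_one.neg).mul (Matrix.isUnit_det_J (Fin m) F)
  refine ⟨hJ.unit, ?_⟩
  show -(Matrix.J (Fin m) F) * (A : Matrix (Fin m ⊕ Fin m) (Fin m ⊕ Fin m) F).transpose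
    = ((A⁻¹ : Matrix.symplecticGroup (Fin m) F) : Matrix (Fin m ⊕ Fin m) (Fin m ⊕ Fin m) F)
      * -(Matrix.J (Fin m) F)
  rw [SymplecticGroup.coe_inv, Matrix.mul_assoc, Matrix.mul_neg, Matrix.J_squared, neg_neg,
    Matrix.mul_one]

end Cfsg.Agent.S2586
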