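import Cfsg.Statements.S2591
-- import your own Cfsg.Agent.* helpers here
import Cfsg.Agent.Lib.Helper15.RegCls

set_option autoImplicit false
open Cfsg

namespace Cfsg.Agent.S2591

open Matrix Cfsg.Agent.Lib.Helper15.RegNil Cfsg.Agent.Lib.Helper15.RegUni
  Cfsg.Agent.Lib.Helper15.RegCls

section

variable {F : Type*} [Field F] [Fintype F]

lemma char_ne_two_of_odd {q : ℕ} (hF : Fintype.card F = q) (hq : Odd q) : ringChar F ≠ 2 := by
  intro h
  have := FiniteField.even_card_of_char_two h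
  rw [hF] at this
  rcases hq with ⟨r, hr⟩
  omega

lemma mul_isSquare_of_not' (hF : ringChar F ≠ 2) {a b : F}
    (ha : ¬ IsSquare a) (hb : ¬ IsSquare b) : IsSquare (a * b) := by
  classical
  have ha0 : a ≠ 0 := by rintro rfl; exact ha IsSquare.zero
  have hb0 : b ≠ 0 := by rintro rfl; exact hb IsSquare.zero
  rw [← quadraticChar_one_iff_isSquare (mul_ne_zero ha0 hb0), map_mul,
    quadraticChar_neg_one_iff_not_isSquare.mpr ha, quadraticChar_neg_one_iff_not_isSquare.mpr hb]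
  norm_num

lemma isConj_of_semiconj {m : ℕ} (k a b : Matrix.symplecticGroup (Fin m) F)
    (h : k.1 * a.1 = b.1 * k.1) : IsConj a b := by
  rw [isConj_iff]
  refine ⟨k, ?_⟩
  rw [mul_inv_eq_iff_eq_mul]
  exact Subtype.ext h

lemma semiconj_of_isConj {m : ℕ} (a b : Matrix.symplecticGroup (Fin m) F) (h : IsConj a b) :
    ∃ k : Matrix.symplecticGroup (Fin m) F, k.1 * a.1 = b.1 * k.1 := by
  rw [isConj_iff] at h
  obtain ⟨k, hk⟩ := h
  rw [mul_inv_eq_iff_eq_mul] at hk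
  exact ⟨k, congrArg Subtype.val hk⟩

theorem main {q : ℕ} (hF : Fintype.card F = q) (hq : Odd q) {m : ℕ} (hm : 1 ≤ m) :
    Nat.card {C : ConjClasses ↥(Matrix.symplecticGroup (Fin m) F) //
      ∃ u : Matrix.symplecticGroup (Fin m) F, ConjClasses.mk u = C ∧
        ((u : Matrix (Fin m ⊕ Fin m) (Fin m ⊕ Fin m) F) - 1) ^ (2 * m) = 0 ∧
        ((u : Matrix (Fin m ⊕ Fin m) (Fin m ⊕ Fin m) F) - 1).rank = 2 * m - 1} = 2 := by
  classical
  have hchar : ringChar F ≠ 2 := char_ne_two_of_odd hF hq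
  have h2 : (2 : F) ≠ 0 := Ring.two_ne_zero hchar
  have hn : Fintype.card (Fin m ⊕ Fin m) = 2 * m := by
    rw [Fintype.card_sum, Fintype.card_fin]
    ring
  have hn1 : 0 < 2 * m := by omega
  -- the first representative
  have hreg0 := cay_regular h2 (Y0 m : Matrix _ _ F) (adj_Y0 m) (Y0_pow m)
  have hrank0 : (Y0 m : Matrix _ _ F).rank = 2 * m - 1 :=
    rank_of_cyclic hn hn1 (Y0 m) (Y0_pow m) (chain m 0) (Y0_cyclic m hm)
  obtain ⟨u₀, hu₀⟩ : ∃ u₀ : Matrix.symplecticGroup (Fin m) F, u₀.1 = cay (Y0 m) :=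
    ⟨⟨cay (Y0 m), hreg0.1⟩, rfl⟩
  have hnil0 : (u₀.1 - 1) ^ (2 * m) = 0 := by rw [hu₀]; exact hreg0.2.1
  have hr0 : (u₀.1 - 1).rank = 2 * m - 1 := by rw [hu₀]; exact hreg0.2.2.trans hrank0
  -- the second representative
  obtain ⟨ε, hε⟩ := FiniteField.exists_nonsquare hchar
  have hε0 : ε ≠ 0 := by rintro rfl; exact hε IsSquare.zero
  have hd := adj_dsim_mul (l := Fin m) ε
  have hdi := sim_inv (dsim ε) ε hε0 hd
  obtain ⟨u₁, hu₁⟩ : ∃ u₁ : Matrix.symplecticGroup (Fin m) F,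
      u₁.1 = dsim ε * u₀.1 * (ε⁻¹ • adj (dsim ε)) :=
    ⟨⟨_, sim_conj_mem _ ε hε0 hd _ u₀.2⟩, rfl⟩
  have hreg1 := sim_conj_regular (dsim ε) ε hε0 hd u₀.1 hnil0
  have hnil1 : (u₁.1 - 1) ^ (2 * m) = 0 := by rw [hu₁]; exact hreg1.1
  have hr1 : (u₁.1 - 1).rank = 2 * m - 1 := by rw [hu₁]; exact hreg1.2.trans hr0
  -- the multiplier of inverse of d
  have hdd : adj (ε⁻¹ • adj (dsim ε : Matrix (Fin m ⊕ Fin m) (Fin m ⊕ Fin m) F)) *
      (ε⁻¹ • adj (dsim ε)) = ε⁻¹ • 1 := by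
    rw [adj_smul, adj_adj, Matrix.smul_mul, Matrix.mul_smul, hdi.2.2, smul_smul, smul_smul]
    congr 1
    field_simp
  obtain ⟨D, hDdef⟩ : ∃ D : Matrix (Fin m ⊕ Fin m) (Fin m ⊕ Fin m) F,
      D = ε⁻¹ • adj (dsim ε) := ⟨_, rfl⟩
  rw [← hDdef] at hu₁ hdd hdi
  obtain ⟨d, hddef⟩ : ∃ d : Matrix (Fin m ⊕ Fin m) (Fin m ⊕ Fin m) F, d = dsim ε := ⟨_, rfl⟩
  rw [← hddef] at hu₁ hdi
  have hsc : ∀ x : F, x = 1 → x • (1 : Matrix (Fin m ⊕ Fin m) (Fin m ⊕ Fin m) F) = 1 :=
    fun x hx => by rw [hx, one_smul]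
  -- every regular unipotent is conjugate to one of them
  have key : ∀ u : Matrix.symplecticGroup (Fin m) F, (u.1 - 1) ^ (2 * m) = 0 →
      (u.1 - 1).rank = 2 * m - 1 → IsConj u₀ u ∨ IsConj u₁ u := by
    intro u hnil hreg
    obtain ⟨g, lam, hl, hg, hgu⟩ := exists_sim_conj hn1 hn h2 u₀ u hnil0 hr0 hnil hreg
    by_cases hsq : IsSquare lam
    · left
      obtain ⟨r, hr⟩ := hsq
      have hr0' : r ≠ 0 := by
        rintro rfl
        rw [mul_zero] at hr
        exact hl hr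
      have hk : r⁻¹ • g ∈ Matrix.symplecticGroup (Fin m) F := by
        rw [mem_symp_iff', adj_smul, Matrix.smul_mul, Matrix.mul_smul, hg, smul_smul, smul_smul,
          hr]
        apply hsc
        field_simp
      apply isConj_of_semiconj ⟨_, hk⟩
      show r⁻¹ • g * u₀.1 = u.1 * r⁻¹ • g
      rw [Matrix.smul_mul, Matrix.mul_smul, hgu]
    · right
      obtain ⟨r, hr⟩ := mul_isSquare_of_not' hchar hsq hε
      have hr0' : r ≠ 0 := by
        rintro rfl
        rw [mul_zero] at hr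
        exact mul_ne_zero hl hε0 hr
      have hlam : lam = ε⁻¹ * (r * r) := by
        rw [← hr]
        field_simp
      have hk : (ε * r⁻¹) • (g * D) ∈ Matrix.symplecticGroup (Fin m) F := by
        rw [mem_symp_iff', adj_smul, adj_mul]
        have : adj D * adj g * (g * D) = adj D * ((adj g * g) * D) := by
          simp only [Matrix.mul_assoc]
        rw [Matrix.smul_mul, Matrix.mul_smul, this, hg, Matrix.smul_mul, Matrix.one_mul,
          Matrix.mul_smul, hdd, smul_smul, smul_smul, smul_smul, hlam]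
        apply hsc
        field_simp
      apply isConj_of_semiconj ⟨_, hk⟩
      show (ε * r⁻¹) • (g * D) * u₁.1 = u.1 * (ε * r⁻¹) • (g * D)
      rw [hu₁, Matrix.smul_mul, Matrix.mul_smul]
      congr 1
      have : g * D * (d * u₀.1 * D) = g * ((D * d) * (u₀.1 * D)) := by
        simp only [Matrix.mul_assoc]
      rw [this, hdi.1, Matrix.one_mul, ← Matrix.mul_assoc, hgu, Matrix.mul_assoc]
  -- the two representatives are not conjugate
  have hnot : ¬ IsConj u₀ u₁ := by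
    intro hc
    obtain ⟨c, hcc⟩ := semiconj_of_isConj u₀ u₁ hc
    have hY := adj_Ysk u₀
    have hYn : Ysk u₀ ^ (2 * m) = 0 := Ysk_pow u₀ hnil0
    have hYr : (Ysk u₀).rank = 2 * m - 1 := by rw [Ysk_rank h2 u₀ hnil0, hr0]
    obtain ⟨v, hv⟩ := exists_cyclic hn hn1 (Ysk u₀) hYr
    have hku : D * c.1 * u₀.1 = u₀.1 * (D * c.1) := by
      rw [Matrix.mul_assoc, hcc, hu₁]
      have : D * (d * u₀.1 * D * c.1) = (D * d) * (u₀.1 * (D * c.1)) := by
        simp only [Matrix.mul_assoc]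
      rw [this, hdi.1, Matrix.one_mul]
    have hkY := comm_Ysk_of_comm u₀ _ hku
    obtain ⟨a, ha⟩ := eq_pol_of_comm hn (Ysk u₀) hYn v hv _ hkY
    have hmult : adj (D * c.1) * (D * c.1) = ε⁻¹ • 1 := by
      rw [adj_mul]
      have : adj c.1 * adj D * (D * c.1) = adj c.1 * ((adj D * D) * c.1) := by
        simp only [Matrix.mul_assoc]
      rw [this, hdd, Matrix.smul_mul, Matrix.one_mul, Matrix.mul_smul, (mem_symp_iff' c.1).1 c.2]
    rw [ha] at hmult
    have h0 := sim_const hn1 (Ysk u₀) hY hYn v hv a ε⁻¹ hmult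
    apply hε
    refine ⟨(a ⟨0, hn1⟩)⁻¹, ?_⟩
    rw [← mul_inv, h0, inv_inv]
  -- count
  refine Nat.card_eq_two_iff.2 ⟨⟨ConjClasses.mk u₀, u₀, rfl, hnil0, hr0⟩,
    ⟨ConjClasses.mk u₁, u₁, rfl, hnil1, hr1⟩, ?_, ?_⟩
  · intro h
    have h1 := congrArg Subtype.val h
    simp only [] at h1
    rw [ConjClasses.mk_eq_mk_iff_isConj] at h1
    exact hnot h1
  · rw [Set.eq_univ_iff_forall]
    rintro ⟨C, u, rfl, hu1, hu2⟩
    rcases key u hu1 hu2 with h | h
    · left
      apply Subtype.ext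
      exact (ConjClasses.mk_eq_mk_iff_isConj.2 h).symm
    · right
      apply Subtype.ext
      exact (ConjClasses.mk_eq_mk_iff_isConj.2 h).symm

end

/-- Over a finite field of odd order and for m ≥ 1, the regular unipotent elements of Sp_2m(F) (u − 1 nilpotent of rank 2m − 1, a single Jordan block) form exactly two conjugacy classes of Sp_2m(F) (one class under the similarity group, which splits in two). -/
theorem result {F : Type*} [Field F] [Fintype F] {q : ℕ} (hF : Fintype.card F = q) (hq : Odd q) {m : ℕ} (hm : 1 ≤ m) : Nat.card {C : ConjClasses ↥(Matrix.symplecticGroup (Fin m) F) // ∃ u : Matrix.symplecticGroup (Fin m) F, ConjClasses.mk u = C ∧ ((u : Matrix (Fin m ⊕ Fin m) (Fin m ⊕ Fin m) F) - 1) ^ (2 * m) = 0 ∧ ((u : Matrix (Fin m ⊕ Fin m) (Fin m ⊕ Fin m) F) - 1).rank = 2 * m - 1} = 2 := by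
  exact main hF hq hm

end Cfsg.Agent.S2591
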