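import Cfsg.Statements.S2592
-- import your own Cfsg.Agent.* helpers here
import Cfsg.Agent.Lib.Helper15.RegUni

set_option autoImplicit false
open Cfsg

namespace Cfsg.Agent.S2592

open Matrix Cfsg.Agent.Lib.Helper15.RegNil Cfsg.Agent.Lib.Helper15.RegUni

section

variable {F : Type*} [Field F] [Fintype F]

lemma two_ne_zero_of_odd {q : ℕ} (hF : Fintype.card F = q) (hq : Odd q) : (2 : F) ≠ 0 := by
  apply Ring.two_ne_zero
  intro h
  have := FiniteField.even_card_of_char_two h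
  rw [hF] at this
  rcases hq with ⟨r, hr⟩
  omega

theorem main {q : ℕ} (hF : Fintype.card F = q) (hq : Odd q) {m : ℕ} (hm : 1 ≤ m)
    (u : Matrix.symplecticGroup (Fin m) F)
    (hnil : ((u : Matrix (Fin m ⊕ Fin m) (Fin m ⊕ Fin m) F) - 1) ^ (2 * m) = 0)
    (hreg : ((u : Matrix (Fin m ⊕ Fin m) (Fin m ⊕ Fin m) F) - 1).rank = 2 * m - 1) :
    Nat.card ↥(Subgroup.centralizer ({u} : Set ↥(Matrix.symplecticGroup (Fin m) F))) =
      2 * q ^ m := by
  classical
  have h2 : (2 : F) ≠ 0 := two_ne_zero_of_odd hF hq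
  have hn : Fintype.card (Fin m ⊕ Fin m) = 2 * m := by
    rw [Fintype.card_sum, Fintype.card_fin]
    ring
  have hn1 : 0 < 2 * m := by omega
  have hY := adj_Ysk u
  have hYn : Ysk u ^ (2 * m) = 0 := Ysk_pow u hnil
  have hYr : (Ysk u).rank = 2 * m - 1 := by rw [Ysk_rank h2 u hnil, hreg]
  obtain ⟨v, hv⟩ := exists_cyclic hn (by omega) (Ysk u) hYr
  have hcent : ∀ g : Matrix.symplecticGroup (Fin m) F,
      g ∈ Subgroup.centralizer ({u} : Set ↥(Matrix.symplecticGroup (Fin m) F)) ↔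
        g.1 * u.1 = u.1 * g.1 := by
    intro g
    rw [Subgroup.mem_centralizer_singleton_iff, Subtype.ext_iff]
    rfl
  -- the positive part
  have e1 : {g : ↥(Subgroup.centralizer ({u} : Set ↥(Matrix.symplecticGroup (Fin m) F))) //
      IsUnit (1 + g.1.1)} ≃ {g : Matrix (Fin m ⊕ Fin m) (Fin m ⊕ Fin m) F //
        adj g * g = 1 ∧ g * Ysk u = Ysk u * g ∧ IsUnit (1 + g)} :=
    { toFun := fun g => ⟨g.1.1.1, (mem_symp_iff' _).1 g.1.1.2,
        (comm_iff u hn hnil v hv _).1 ((hcent g.1.1).1 g.1.2), g.2⟩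
      invFun := fun g => ⟨⟨⟨g.1, (mem_symp_iff' _).2 g.2.1⟩,
        (hcent _).2 ((comm_iff u hn hnil v hv _).2 g.2.2.1)⟩, g.2.2.2⟩
      left_inv := fun g => rfl
      right_inv := fun g => rfl }
  have hplus : Nat.card {g : ↥(Subgroup.centralizer
      ({u} : Set ↥(Matrix.symplecticGroup (Fin m) F))) // IsUnit (1 + g.1.1)} = q ^ m := by
    rw [Nat.card_congr e1, card_plus hn1 hn h2 (Ysk u) hY hYn v hv,
      card_skew hn h2 (Ysk u) hY hYn v hv, card_even_zero, Nat.card_eq_fintype_card, hF]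
  -- negation
  have hneg : ∀ g : ↥(Subgroup.centralizer ({u} : Set ↥(Matrix.symplecticGroup (Fin m) F))),
      (⟨-g.1.1, SymplecticGroup.neg_mem g.1.2⟩ : Matrix.symplecticGroup (Fin m) F) ∈
        Subgroup.centralizer ({u} : Set ↥(Matrix.symplecticGroup (Fin m) F)) := by
    intro g
    rw [hcent]
    show -g.1.1 * u.1 = u.1 * -g.1.1
    rw [Matrix.neg_mul, Matrix.mul_neg, (hcent g.1).1 g.2]
  have hdich : ∀ g : ↥(Subgroup.centralizer ({u} : Set ↥(Matrix.symplecticGroup (Fin m) F))),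
      (IsUnit (1 + g.1.1) ∧ ¬ IsUnit (1 - g.1.1)) ∨ (¬ IsUnit (1 + g.1.1) ∧ IsUnit (1 - g.1.1)) :=
    fun g => dich hn1 hn h2 (Ysk u) hY hYn v hv g.1.1 ((mem_symp_iff' _).1 g.1.2)
      ((comm_iff u hn hnil v hv _).1 ((hcent g.1).1 g.2))
  have e2 : {g : ↥(Subgroup.centralizer ({u} : Set ↥(Matrix.symplecticGroup (Fin m) F))) //
      ¬ IsUnit (1 + g.1.1)} ≃ {g : ↥(Subgroup.centralizer
        ({u} : Set ↥(Matrix.symplecticGroup (Fin m) F))) // IsUnit (1 + g.1.1)} :=
    { toFun := fun g => ⟨⟨_, hneg g.1⟩, by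
        show IsUnit (1 + -g.1.1.1)
        rw [← sub_eq_add_neg]
        rcases hdich g.1 with h | h
        · exact absurd h.1 g.2
        · exact h.2⟩
      invFun := fun g => ⟨⟨_, hneg g.1⟩, by
        show ¬ IsUnit (1 + -g.1.1.1)
        rw [← sub_eq_add_neg]
        rcases hdich g.1 with h | h
        · exact h.2
        · exact absurd g.2 h.1⟩
      left_inv := fun g => by
        apply Subtype.ext
        apply Subtype.ext
        apply Subtype.ext
        show - -g.1.1.1 = g.1.1.1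
        rw [neg_neg]
      right_inv := fun g => by
        apply Subtype.ext
        apply Subtype.ext
        apply Subtype.ext
        show - -g.1.1.1 = g.1.1.1
        rw [neg_neg] }
  rw [Nat.card_congr (Equiv.sumCompl (fun g : ↥(Subgroup.centralizer
      ({u} : Set ↥(Matrix.symplecticGroup (Fin m) F))) => IsUnit (1 + g.1.1))).symm,
    Nat.card_sum, Nat.card_congr e2, hplus]
  ring

end

/-- Over a finite field with q elements, q odd, the centraliser in Sp_2m(F) (m ≥ 1) of a regular unipotent element (u − 1 nilpotent of rank 2m − 1) has order 2 q^m. -/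
theorem result {F : Type*} [Field F] [Fintype F] {q : ℕ} (hF : Fintype.card F = q) (hq : Odd q) {m : ℕ} (hm : 1 ≤ m) (u : Matrix.symplecticGroup (Fin m) F) (hnil : ((u : Matrix (Fin m ⊕ Fin m) (Fin m ⊕ Fin m) F) - 1) ^ (2 * m) = 0) (hreg : ((u : Matrix (Fin m ⊕ Fin m) (Fin m ⊕ Fin m) F) - 1).rank = 2 * m - 1) : Nat.card ↥(Subgroup.centralizer ({u} : Set ↥(Matrix.symplecticGroup (Fin m) F))) = 2 * q ^ m := by
  exact main hF hq hm u hnil hreg

end Cfsg.Agent.S2592
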