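import Cfsg.Statements.S2593
import Mathlib
import Cfsg.Agent.Lib.Helper5.Symp
import Cfsg.Agent.Lib.Helper5.SympTrans
import Cfsg.Agent.Lib.Helper5.SympGen
import Cfsg.Agent.Lib.Helper5.SympGen2
import Cfsg.Agent.Lib.Helper5.SpMax
import Cfsg.Agent.S2166

set_option autoImplicit false
open Cfsg

namespace Cfsg.Agent.S2593

section Aux
set_option linter.unusedSectionVars false
set_option linter.unusedVariables false
set_option linter.unusedSimpArgs false
namespace S2593aux
open Cfsg Matrix Cfsg.Agent.Lib.Helper5 Cfsg.Agent.Lib.Helper5.SpMax Cfsg.Agent.S2166.S2166aux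

variable {F : Type*} [Field F] {m : ℕ}

/-- the alternating-type predicate -/
def Alt (a : Matrix.symplecticGroup (Fin m) F) : Prop :=
  ∀ x, Cfsg.sympForm m F (((a : Matrix (Fin m ⊕ Fin m) (Fin m ⊕ Fin m) F) - 1) *ᵥ x) x = 0

theorem conj_of_type [Fintype F] [CharP F 2] (a b : Matrix.symplecticGroup (Fin m) F)
    (ha : orderOf a = 2) (hb : orderOf b = 2)
    (hrk : ((a : Matrix (Fin m ⊕ Fin m) (Fin m ⊕ Fin m) F) - 1).rank =
      ((b : Matrix (Fin m ⊕ Fin m) (Fin m ⊕ Fin m) F) - 1).rank)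
    (htype : Alt a ↔ Alt b) : IsConj a b := by
  classical
  unfold Alt at htype
  have hsq : ∀ x : Matrix.symplecticGroup (Fin m) F, orderOf x = 2 →
      (x : Matrix (Fin m ⊕ Fin m) (Fin m ⊕ Fin m) F) *
      (x : Matrix (Fin m ⊕ Fin m) (Fin m ⊕ Fin m) F) = 1 := by
    intro x hx
    have h1 : x ^ 2 = 1 := by rw [← hx]; exact pow_orderOf_eq_one x
    rw [pow_two] at h1
    exact congrArg Subtype.val h1
  have hGA := good_of_inv (a : Matrix (Fin m ⊕ Fin m) (Fin m ⊕ Fin m) F) a.2 (hsq a ha)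
  have hGB := good_of_inv (b : Matrix (Fin m ⊕ Fin m) (Fin m ⊕ Fin m) F) b.2 (hsq b hb)
  obtain ⟨r, hr⟩ : ∃ r, ((a : Matrix (Fin m ⊕ Fin m) (Fin m ⊕ Fin m) F) - 1).rank = r :=
    ⟨_, rfl⟩
  have hr' : ((b : Matrix (Fin m ⊕ Fin m) (Fin m ⊕ Fin m) F) - 1).rank = r := by
    rw [← hrk, hr]
  by_cases hA : ∀ x, Cfsg.sympForm m F
      (((a : Matrix (Fin m ⊕ Fin m) (Fin m ⊕ Fin m) F) - 1) *ᵥ x) x = 0
  · have hB := htype.mp hA
    obtain ⟨s, hs, e, d, he, hd, hsum⟩ := structure_alt r _ hGA hA hr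
    obtain ⟨s', hs', e', d', he', hd', hsum'⟩ := structure_alt r _ hGB hB hr'
    obtain rfl : s' = s := by omega
    have hrs : ((a : Matrix (Fin m ⊕ Fin m) (Fin m ⊕ Fin m) F) - 1).rank = s' + s' := by omega
    have hrs' : ((b : Matrix (Fin m ⊕ Fin m) (Fin m ⊕ Fin m) F) - 1).rank = s' + s' := by omega
    have hE : ∀ i, ∃ z, Fin.append e d i =
        ((a : Matrix (Fin m ⊕ Fin m) (Fin m ⊕ Fin m) F) - 1) *ᵥ z := fun i =>
      Fin.addCases (motive := fun i => ∃ z, Fin.append e d i =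
        ((a : Matrix (Fin m ⊕ Fin m) (Fin m ⊕ Fin m) F) - 1) *ᵥ z)
        (fun j => by rw [Fin.append_left]; exact he j)
        (fun j => by rw [Fin.append_right]; exact hd j) i
    have hG : ∀ i, ∃ z, Fin.append e' d' i =
        ((b : Matrix (Fin m ⊕ Fin m) (Fin m ⊕ Fin m) F) - 1) *ᵥ z := fun i =>
      Fin.addCases (motive := fun i => ∃ z, Fin.append e' d' i =
        ((b : Matrix (Fin m ⊕ Fin m) (Fin m ⊕ Fin m) F) - 1) *ᵥ z)
        (fun j => by rw [Fin.append_left]; exact he' j)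
        (fun j => by rw [Fin.append_right]; exact hd' j) i
    have hliE : LinearIndependent F (Fin.append e d) := by
      apply li_of_span _ hrs _ hE
      intro x
      rw [hsum x]
      refine Submodule.sum_mem _ fun i _ => Submodule.add_mem _
        (Submodule.smul_mem _ _ (Submodule.subset_span ⟨Fin.castAdd s' i, Fin.append_left e d i⟩))
        (Submodule.smul_mem _ _ (Submodule.subset_span ⟨Fin.natAdd s' i, Fin.append_right e d i⟩))
    have hliG : LinearIndependent F (Fin.append e' d') := by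
      apply li_of_span _ hrs' _ hG
      intro x
      rw [hsum' x]
      refine Submodule.sum_mem _ fun i _ => Submodule.add_mem _
        (Submodule.smul_mem _ _ (Submodule.subset_span
          ⟨Fin.castAdd s' i, Fin.append_left e' d' i⟩))
        (Submodule.smul_mem _ _ (Submodule.subset_span
          ⟨Fin.natAdd s' i, Fin.append_right e' d' i⟩))
    obtain ⟨g, hg⟩ := sp_witt_tuple (s' + s') (Fin.append e d) (Fin.append e' d') hliE hliG
      (fun i j => by rw [gram_zero _ hGA _ hE, gram_zero _ hGB _ hG])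
    have hge : ∀ j, (g : Matrix (Fin m ⊕ Fin m) (Fin m ⊕ Fin m) F) *ᵥ e j = e' j := fun j => by
      have := hg (Fin.castAdd s' j)
      rwa [Fin.append_left, Fin.append_left] at this
    have hgd : ∀ j, (g : Matrix (Fin m ⊕ Fin m) (Fin m ⊕ Fin m) F) *ᵥ d j = d' j := fun j => by
      have := hg (Fin.natAdd s' j)
      rwa [Fin.append_right, Fin.append_right] at this
    have hg' : ∀ i, (g : Matrix (Fin m ⊕ Fin m) (Fin m ⊕ Fin m) F) *ᵥ Fin.append d e i =
        Fin.append d' e' i := fun i =>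
      Fin.addCases (motive := fun i =>
        (g : Matrix (Fin m ⊕ Fin m) (Fin m ⊕ Fin m) F) *ᵥ Fin.append d e i =
        Fin.append d' e' i)
        (fun j => by rw [Fin.append_left, Fin.append_left]; exact hgd j)
        (fun j => by rw [Fin.append_right, Fin.append_right]; exact hge j) i
    refine conj_of_tuples a b (Fin.append e d) (Fin.append d e) (Fin.append e' d')
      (Fin.append d' e') ?_ ?_ g hg hg'
    · intro x
      rw [hsum x, Fin.sum_univ_add]
      simp only [Fin.append_left, Fin.append_right]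
      rw [Finset.sum_add_distrib]
      exact add_comm _ _
    · intro x
      rw [hsum' x, Fin.sum_univ_add]
      simp only [Fin.append_left, Fin.append_right]
      rw [Finset.sum_add_distrib]
      exact add_comm _ _
  · have hB : ¬ ∀ x, Cfsg.sympForm m F
        (((b : Matrix (Fin m ⊕ Fin m) (Fin m ⊕ Fin m) F) - 1) *ᵥ x) x = 0 := fun h =>
      hA (htype.mpr h)
    push Not at hA hB
    obtain ⟨e, he1, he2⟩ := structure_nonalt r _ hGA hr (fun _ => hA)
    obtain ⟨e', he'1, he'2⟩ := structure_nonalt r _ hGB hr' (fun _ => hB)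
    have hli : LinearIndependent F e := by
      apply li_of_span _ hr _ he1
      intro x
      rw [he2 x]
      exact Submodule.sum_mem _ fun i _ =>
        Submodule.smul_mem _ _ (Submodule.subset_span ⟨i, rfl⟩)
    have hli' : LinearIndependent F e' := by
      apply li_of_span _ hr' _ he'1
      intro x
      rw [he'2 x]
      exact Submodule.sum_mem _ fun i _ =>
        Submodule.smul_mem _ _ (Submodule.subset_span ⟨i, rfl⟩)
    obtain ⟨g, hg⟩ := sp_witt_tuple r e e' hli hli'
      (fun i j => by rw [gram_zero _ hGA _ he1, gram_zero _ hGB _ he'1])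
    exact conj_of_tuples a b e e e' e' he2 he'2 g hg hg

lemma inv_of_conj [Fintype F] (a b : Matrix.symplecticGroup (Fin m) F) (h : IsConj a b) :
    ((a : Matrix (Fin m ⊕ Fin m) (Fin m ⊕ Fin m) F) - 1).rank =
      ((b : Matrix (Fin m ⊕ Fin m) (Fin m ⊕ Fin m) F) - 1).rank ∧ (Alt a ↔ Alt b) := by
  obtain ⟨c, hc⟩ := isConj_iff.mp h
  refine ⟨rank_conj a b c hc, ?_⟩
  unfold Alt
  rw [alt_iff_card a, alt_iff_card b, card_conj a b c hc]

lemma sf_sum_left : ∀ (k : ℕ) (v : Fin k → (Fin m ⊕ Fin m → F)) (w : Fin m ⊕ Fin m → F),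
    Cfsg.sympForm m F (∑ i, v i) w = ∑ i, Cfsg.sympForm m F (v i) w := by
  intro k
  induction k with
  | zero => intro v w; simp [sympForm_zero_left]
  | succ k ih =>
    intro v w
    rw [Fin.sum_univ_succ, Fin.sum_univ_succ, sympForm_add_left, ih]

lemma sf_sum_smul_left {k : ℕ} (c : Fin k → F) (v : Fin k → (Fin m ⊕ Fin m → F))
    (w : Fin m ⊕ Fin m → F) :
    Cfsg.sympForm m F (∑ i, c i • v i) w = ∑ i, c i * Cfsg.sympForm m F (v i) w := by
  rw [sf_sum_left]
  apply Finset.sum_congr rfl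
  intro i _
  rw [sympForm_smul_left]

/-- product of the transvections along a tuple -/
noncomputable def prodT {n : ℕ} (G : Fin n → (Fin m ⊕ Fin m → F)) :
    Matrix.symplecticGroup (Fin m) F :=
  (List.ofFn (fun i => (⟨Cfsg.sympTransvection m (G i) 1, sympTransvection_mem m (G i) 1⟩ :
    Matrix.symplecticGroup (Fin m) F))).prod

lemma prodT_apply : ∀ (n : ℕ) (G : Fin n → (Fin m ⊕ Fin m → F)),
    (∀ i j, Cfsg.sympForm m F (G i) (G j) = 0) → ∀ x,
    ((prodT G : Matrix.symplecticGroup (Fin m) F) :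
      Matrix (Fin m ⊕ Fin m) (Fin m ⊕ Fin m) F) *ᵥ x =
      x + ∑ i, Cfsg.sympForm m F x (G i) • G i := by
  intro n
  induction n with
  | zero =>
    intro G _ x
    have h1 : prodT G = 1 := by
      unfold prodT
      rw [List.ofFn_zero, List.prod_nil]
    rw [h1]
    change (1 : Matrix (Fin m ⊕ Fin m) (Fin m ⊕ Fin m) F) *ᵥ x = _
    simp
  | succ n ih =>
    intro G hG x
    have h1 : prodT G = (⟨Cfsg.sympTransvection m (G 0) 1, sympTransvection_mem m (G 0) 1⟩ :
        Matrix.symplecticGroup (Fin m) F) * prodT (fun i => G i.succ) := by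
      unfold prodT
      rw [List.ofFn_succ, List.prod_cons]
    rw [h1]
    change (Cfsg.sympTransvection m (G 0) 1 *
      ((prodT (fun i => G i.succ) : Matrix.symplecticGroup (Fin m) F) :
        Matrix (Fin m ⊕ Fin m) (Fin m ⊕ Fin m) F)) *ᵥ x = _
    rw [← Matrix.mulVec_mulVec, ih _ (fun i j => hG i.succ j.succ), sympTransvection_mulVec,
      one_mul, sympForm_add_left, sf_sum_smul_left, Fin.sum_univ_succ]
    have h2 : ∑ i : Fin n, Cfsg.sympForm m F x (G i.succ) *
        Cfsg.sympForm m F (G i.succ) (G 0) = 0 :=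
      Finset.sum_eq_zero (fun i _ => by rw [hG, mul_zero])
    rw [h2, add_zero]
    abel

lemma prodT_form (n : ℕ) (G : Fin n → (Fin m ⊕ Fin m → F))
    (hG : ∀ i j, Cfsg.sympForm m F (G i) (G j) = 0) (x : Fin m ⊕ Fin m → F) (i : Fin n) :
    Cfsg.sympForm m F (x + ∑ j, Cfsg.sympForm m F x (G j) • G j) (G i) =
      Cfsg.sympForm m F x (G i) := by
  rw [sympForm_add_left, sf_sum_smul_left,
    Finset.sum_eq_zero (fun j _ => by rw [hG, mul_zero]), add_zero]

lemma prodT_sq [CharP F 2] (n : ℕ) (G : Fin n → (Fin m ⊕ Fin m → F))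
    (hG : ∀ i j, Cfsg.sympForm m F (G i) (G j) = 0) : prodT G * prodT G = 1 := by
  have hvv : ∀ v : Fin m ⊕ Fin m → F, v + v = 0 := fun v => by
    funext i
    exact CharTwo.add_self_eq_zero (v i)
  apply Subtype.ext
  change ((prodT G : Matrix.symplecticGroup (Fin m) F) :
      Matrix (Fin m ⊕ Fin m) (Fin m ⊕ Fin m) F) *
    ((prodT G : Matrix.symplecticGroup (Fin m) F) :
      Matrix (Fin m ⊕ Fin m) (Fin m ⊕ Fin m) F) = 1
  apply mat_eq_of_mulVec
  intro x
  rw [← Matrix.mulVec_mulVec, prodT_apply n G hG x, prodT_apply n G hG, Matrix.one_mulVec]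
  simp only [prodT_form n G hG x]
  rw [add_assoc, hvv, add_zero]

lemma rank_eq_of_span (N : Matrix (Fin m ⊕ Fin m) (Fin m ⊕ Fin m) F) {k : ℕ}
    (E' : Fin k → (Fin m ⊕ Fin m → F)) (hli : LinearIndependent F E')
    (hle : ∀ x, N *ᵥ x ∈ Submodule.span F (Set.range E'))
    (hge : ∀ i, ∃ z, E' i = N *ᵥ z) : N.rank = k := by
  have h1 : LinearMap.range (Matrix.toLin' N) = Submodule.span F (Set.range E') := by
    apply le_antisymm
    · rintro _ ⟨x, rfl⟩
      rw [Matrix.toLin'_apply]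
      exact hle x
    · rw [Submodule.span_le]
      rintro _ ⟨i, rfl⟩
      obtain ⟨z, hz⟩ := hge i
      exact ⟨z, by rw [Matrix.toLin'_apply, hz]⟩
  have h2 : N.rank = Module.finrank F (LinearMap.range (Matrix.toLin' N)) := rfl
  rw [h2, h1, finrank_span_eq_card hli, Fintype.card_fin]

lemma rank_le [CharP F 2] (N : Matrix (Fin m ⊕ Fin m) (Fin m ⊕ Fin m) F) (hN : Good N) :
    N.rank ≤ m := by
  have h1 : LinearMap.range (Matrix.toLin' N) ≤ LinearMap.ker (Matrix.toLin' N) := by
    rintro _ ⟨x, rfl⟩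
    rw [LinearMap.mem_ker, Matrix.toLin'_apply, Matrix.toLin'_apply]
    exact hN.1 x
  have h2 := LinearMap.finrank_range_add_finrank_ker (Matrix.toLin' N)
  have h3 := Submodule.finrank_mono h1
  have h4 : Module.finrank F (Fin m ⊕ Fin m → F) = m + m := by simp
  have h5 : N.rank = Module.finrank F (LinearMap.range (Matrix.toLin' N)) := rfl
  omega

section Std
variable {n : ℕ} (hn : n ≤ m)

/-- standard isotropic vectors -/
def stdP (F : Type*) [Field F] {n m : ℕ} (hn : n ≤ m) (j : Fin n) : Fin m ⊕ Fin m → F :=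
  Pi.single (Sum.inl (Fin.castLE hn j)) 1

/-- their duals -/
def stdR (F : Type*) [Field F] {n m : ℕ} (hn : n ≤ m) (j : Fin n) : Fin m ⊕ Fin m → F :=
  Pi.single (Sum.inr (Fin.castLE hn j)) 1

lemma stdP_orth (i j : Fin n) : Cfsg.sympForm m F (stdP F hn i) (stdP F hn j) = 0 := by
  unfold stdP
  rw [sympForm_single_inl]
  simp

lemma stdR_P (i j : Fin n) :
    Cfsg.sympForm m F (stdR F hn j) (stdP F hn i) = if i = j then 1 else 0 := by
  unfold stdP stdR
  rw [sympForm_single_inl]
  by_cases h : i = j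
  · subst h; simp
  · rw [if_neg h, Pi.single_apply, if_neg]
    intro h'
    apply h
    have h2 := Sum.inr_injective h'
    exact Fin.castLE_injective hn h2

lemma stdP_li : LinearIndependent F (stdP F hn : Fin n → (Fin m ⊕ Fin m → F)) := by
  have h1 := (Pi.basisFun F (Fin m ⊕ Fin m)).linearIndependent.comp
    (fun j : Fin n => (Sum.inl (Fin.castLE hn j) : Fin m ⊕ Fin m))
    (fun a b h => Fin.castLE_injective hn (Sum.inl_injective h))
  have h2 : (stdP F hn : Fin n → (Fin m ⊕ Fin m → F)) =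
      (Pi.basisFun F (Fin m ⊕ Fin m)) ∘
        (fun j : Fin n => (Sum.inl (Fin.castLE hn j) : Fin m ⊕ Fin m)) := by
    funext j
    simp [stdP, Pi.basisFun_apply]
  rw [h2]
  exact h1

end Std

lemma one_le_rank (g : Matrix.symplecticGroup (Fin m) F) (hg : orderOf g = 2) :
    1 ≤ ((g : Matrix (Fin m ⊕ Fin m) (Fin m ⊕ Fin m) F) - 1).rank := by
  by_contra hcon
  have hr : ((g : Matrix (Fin m ⊕ Fin m) (Fin m ⊕ Fin m) F) - 1).rank = 0 := by omega
  have h1 : LinearMap.range (Matrix.toLin'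
      ((g : Matrix (Fin m ⊕ Fin m) (Fin m ⊕ Fin m) F) - 1)) = ⊥ :=
    Submodule.finrank_eq_zero.mp hr
  have h0 : (g : Matrix (Fin m ⊕ Fin m) (Fin m ⊕ Fin m) F) - 1 = 0 := by
    apply mat_eq_of_mulVec
    intro x
    have h2 : Matrix.toLin' ((g : Matrix (Fin m ⊕ Fin m) (Fin m ⊕ Fin m) F) - 1) x ∈
        LinearMap.range (Matrix.toLin'
          ((g : Matrix (Fin m ⊕ Fin m) (Fin m ⊕ Fin m) F) - 1)) :=
      LinearMap.mem_range_self _ x
    rw [h1, Submodule.mem_bot, Matrix.toLin'_apply] at h2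
    rw [h2, Matrix.zero_mulVec]
  have h3 : g = 1 := by
    apply Subtype.ext
    exact sub_eq_zero.mp h0
  rw [h3, orderOf_one] at hg
  omega

lemma order_two_of (g : Matrix.symplecticGroup (Fin m) F) (hsq : g * g = 1)
    (hr : 1 ≤ ((g : Matrix (Fin m ⊕ Fin m) (Fin m ⊕ Fin m) F) - 1).rank) : orderOf g = 2 := by
  have : Fact (Nat.Prime 2) := ⟨Nat.prime_two⟩
  apply orderOf_eq_prime
  · rw [pow_two]; exact hsq
  · intro h1
    rw [h1] at hr
    have h2 : ((1 : Matrix.symplecticGroup (Fin m) F) :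
        Matrix (Fin m ⊕ Fin m) (Fin m ⊕ Fin m) F) - 1 = 0 := sub_self _
    rw [h2, Matrix.rank_zero] at hr
    omega

theorem exists_std_nonalt [CharP F 2] (s : ℕ) (hs1 : 1 ≤ s) (hsm : s ≤ m) :
    ∃ g : Matrix.symplecticGroup (Fin m) F, orderOf g = 2 ∧
      ((g : Matrix (Fin m ⊕ Fin m) (Fin m ⊕ Fin m) F) - 1).rank = s ∧ ¬ Alt g := by
  classical
  have hPP := stdP_orth (F := F) hsm
  have hN : ∀ x, (((prodT (stdP F hsm) : Matrix.symplecticGroup (Fin m) F) :
      Matrix (Fin m ⊕ Fin m) (Fin m ⊕ Fin m) F) - 1) *ᵥ x =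
      ∑ i, Cfsg.sympForm m F x (stdP F hsm i) • stdP F hsm i := by
    intro x
    rw [Matrix.sub_mulVec, Matrix.one_mulVec, prodT_apply s _ hPP]
    abel
  have hNR : ∀ j, (((prodT (stdP F hsm) : Matrix.symplecticGroup (Fin m) F) :
      Matrix (Fin m ⊕ Fin m) (Fin m ⊕ Fin m) F) - 1) *ᵥ (stdR F hsm j) = stdP F hsm j := by
    intro j
    rw [hN]
    simp only [stdR_P]
    simp
  have hrank : (((prodT (stdP F hsm) : Matrix.symplecticGroup (Fin m) F) :
      Matrix (Fin m ⊕ Fin m) (Fin m ⊕ Fin m) F) - 1).rank = s := by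
    apply rank_eq_of_span _ (stdP F hsm) (stdP_li hsm)
    · intro x
      rw [hN]
      exact Submodule.sum_mem _ fun i _ =>
        Submodule.smul_mem _ _ (Submodule.subset_span ⟨i, rfl⟩)
    · intro j
      exact ⟨stdR F hsm j, (hNR j).symm⟩
  refine ⟨prodT (stdP F hsm), order_two_of _ (prodT_sq s _ hPP) (by rw [hrank]; exact hs1),
    hrank, ?_⟩
  intro hA
  have h1 := hA (stdR F hsm ⟨0, by omega⟩)
  rw [hNR, sympForm_swap, stdR_P, if_pos rfl] at h1
  have h2 : (-1 : F) ≠ 0 := neg_ne_zero.mpr one_ne_zero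
  exact h2 h1

theorem exists_std_alt [CharP F 2] (k : ℕ) (hk1 : 1 ≤ k) (hkm : 2 * k ≤ m) :
    ∃ g : Matrix.symplecticGroup (Fin m) F, orderOf g = 2 ∧
      ((g : Matrix (Fin m ⊕ Fin m) (Fin m ⊕ Fin m) F) - 1).rank = 2 * k ∧ Alt g := by
  classical
  have h2 : (2 : F) = 0 := CharTwo.two_eq_zero
  have hkk : k + k ≤ m := by omega
  have hvv : ∀ v : Fin m ⊕ Fin m → F, v + v = 0 := fun v => by
    funext i
    exact CharTwo.add_self_eq_zero (v i)
  have hPP := stdP_orth (F := F) hkk
  obtain ⟨B, hBdef⟩ : ∃ B : Fin k → (Fin m ⊕ Fin m → F),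
      B = fun i => stdP F hkk (Fin.castAdd k i) := ⟨_, rfl⟩
  obtain ⟨C, hCdef⟩ : ∃ C : Fin k → (Fin m ⊕ Fin m → F),
      C = fun i => stdP F hkk (Fin.natAdd k i) := ⟨_, rfl⟩
  obtain ⟨A, hAdef⟩ : ∃ A : Fin k → (Fin m ⊕ Fin m → F), A = fun i => B i + C i := ⟨_, rfl⟩
  have hBB : ∀ i j, Cfsg.sympForm m F (B i) (B j) = 0 := fun i j => by rw [hBdef]; exact hPP _ _
  have hCC : ∀ i j, Cfsg.sympForm m F (C i) (C j) = 0 := fun i j => by rw [hCdef]; exact hPP _ _
  have hBC : ∀ i j, Cfsg.sympForm m F (B i) (C j) = 0 := fun i j => by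
    rw [hBdef, hCdef]; exact hPP _ _
  have hCB : ∀ i j, Cfsg.sympForm m F (C i) (B j) = 0 := fun i j => by
    rw [hBdef, hCdef]; exact hPP _ _
  have hAA : ∀ i j, Cfsg.sympForm m F (A i) (A j) = 0 := fun i j => by
    rw [hAdef]
    simp only [sympForm_add_left, sympForm_add_right, hBB, hCC, hBC, hCB, add_zero]
  have hAB : ∀ i j, Cfsg.sympForm m F (B i) (A j) = 0 := fun i j => by
    rw [hAdef]
    simp only [sympForm_add_right, hBB, hBC, add_zero]
  have hAC : ∀ i j, Cfsg.sympForm m F (C i) (A j) = 0 := fun i j => by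
    rw [hAdef]
    simp only [sympForm_add_right, hCB, hCC, add_zero]
  obtain ⟨g, hgdef⟩ : ∃ g : Matrix.symplecticGroup (Fin m) F,
      g = prodT A * (prodT B * prodT C) := ⟨_, rfl⟩
  have hgx : ∀ x, (g : Matrix (Fin m ⊕ Fin m) (Fin m ⊕ Fin m) F) *ᵥ x =
      x + ∑ i, (Cfsg.sympForm m F x (C i) • B i + Cfsg.sympForm m F x (B i) • C i) := by
    intro x
    rw [hgdef]
    change (((prodT A : Matrix.symplecticGroup (Fin m) F) :
        Matrix (Fin m ⊕ Fin m) (Fin m ⊕ Fin m) F) *
      (((prodT B : Matrix.symplecticGroup (Fin m) F) :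
        Matrix (Fin m ⊕ Fin m) (Fin m ⊕ Fin m) F) *
      ((prodT C : Matrix.symplecticGroup (Fin m) F) :
        Matrix (Fin m ⊕ Fin m) (Fin m ⊕ Fin m) F))) *ᵥ x = _
    rw [← Matrix.mulVec_mulVec, ← Matrix.mulVec_mulVec, prodT_apply k C hCC, prodT_apply k B hBB,
      prodT_apply k A hAA]
    have e1 : ∀ i, Cfsg.sympForm m F (x + ∑ j, Cfsg.sympForm m F x (C j) • C j) (B i) =
        Cfsg.sympForm m F x (B i) := by
      intro i
      rw [sympForm_add_left, sf_sum_smul_left,
        Finset.sum_eq_zero (fun j _ => by rw [hCB, mul_zero]), add_zero]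
    simp only [e1]
    have e2 : ∀ i, Cfsg.sympForm m F (x + ∑ j, Cfsg.sympForm m F x (C j) • C j +
        ∑ j, Cfsg.sympForm m F x (B j) • B j) (A i) = Cfsg.sympForm m F x (A i) := by
      intro i
      rw [sympForm_add_left, sympForm_add_left, sf_sum_smul_left, sf_sum_smul_left,
        Finset.sum_eq_zero (fun j _ => by rw [hAC, mul_zero]),
        Finset.sum_eq_zero (fun j _ => by rw [hAB, mul_zero]), add_zero, add_zero]
    simp only [e2]
    rw [add_assoc, add_assoc, ← Finset.sum_add_distrib, ← Finset.sum_add_distrib]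
    congr 1
    apply Finset.sum_congr rfl
    intro i _
    rw [hAdef]
    simp only [sympForm_add_right]
    have key : ∀ (a b : F) (u v : Fin m ⊕ Fin m → F),
        a • v + (b • u + (b + a) • (u + v)) = a • u + b • v := by
      intro a b u v
      have h3 : a • v + (b • u + (b + a) • (u + v)) =
          a • u + b • v + ((2 : F) • (a • v) + (2 : F) • (b • u)) := by module
      rw [h3, h2, zero_smul, zero_smul, add_zero, add_zero]
    exact key _ _ _ _
  have hN : ∀ x, ((g : Matrix (Fin m ⊕ Fin m) (Fin m ⊕ Fin m) F) - 1) *ᵥ x =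
      ∑ i, (Cfsg.sympForm m F x (C i) • B i + Cfsg.sympForm m F x (B i) • C i) := by
    intro x
    rw [Matrix.sub_mulVec, Matrix.one_mulVec, hgx]
    abel
  have hsq : g * g = 1 := by
    apply Subtype.ext
    change (g : Matrix (Fin m ⊕ Fin m) (Fin m ⊕ Fin m) F) *
      (g : Matrix (Fin m ⊕ Fin m) (Fin m ⊕ Fin m) F) = 1
    apply mat_eq_of_mulVec
    intro x
    rw [← Matrix.mulVec_mulVec, hgx x, hgx, Matrix.one_mulVec]
    have e1 : ∀ i, Cfsg.sympForm m F (x + ∑ j, (Cfsg.sympForm m F x (C j) • B j +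
        Cfsg.sympForm m F x (B j) • C j)) (C i) = Cfsg.sympForm m F x (C i) := by
      intro i
      rw [sympForm_add_left, sf_sum_left,
        Finset.sum_eq_zero (fun j _ => by
          rw [sympForm_add_left, sympForm_smul_left, sympForm_smul_left, hBC, hCC, mul_zero,
            mul_zero, add_zero]), add_zero]
    have e2 : ∀ i, Cfsg.sympForm m F (x + ∑ j, (Cfsg.sympForm m F x (C j) • B j +
        Cfsg.sympForm m F x (B j) • C j)) (B i) = Cfsg.sympForm m F x (B i) := by
      intro i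
      rw [sympForm_add_left, sf_sum_left,
        Finset.sum_eq_zero (fun j _ => by
          rw [sympForm_add_left, sympForm_smul_left, sympForm_smul_left, hBB, hCB, mul_zero,
            mul_zero, add_zero]), add_zero]
    simp only [e1, e2]
    rw [add_assoc, hvv, add_zero]
  have hRP := stdR_P (F := F) hkk
  have hBi : ∀ i, B i = stdP F hkk (Fin.castAdd k i) := fun i => by rw [hBdef]
  have hCi : ∀ i, C i = stdP F hkk (Fin.natAdd k i) := fun i => by rw [hCdef]
  have hcn : ∀ i j : Fin k, (Fin.castAdd k i : Fin (k + k)) ≠ Fin.natAdd k j := by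
    intro i j h
    have h' := congrArg Fin.val h
    rw [Fin.val_castAdd, Fin.val_natAdd] at h'
    have := i.2
    omega
  have hnn : ∀ i j : Fin k, (Fin.natAdd k i : Fin (k + k)) = Fin.natAdd k j → i = j := by
    intro i j h
    have h' := congrArg Fin.val h
    rw [Fin.val_natAdd, Fin.val_natAdd] at h'
    exact Fin.ext (by omega)
  have hcc : ∀ i j : Fin k, (Fin.castAdd k i : Fin (k + k)) = Fin.castAdd k j → i = j := by
    intro i j h
    have h' := congrArg Fin.val h
    rw [Fin.val_castAdd, Fin.val_castAdd] at h'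
    exact Fin.ext h'
  have hNR1 : ∀ j : Fin k, ((g : Matrix (Fin m ⊕ Fin m) (Fin m ⊕ Fin m) F) - 1) *ᵥ
      (stdR F hkk (Fin.natAdd k j)) = B j := by
    intro j
    rw [hN]
    simp only [hBi, hCi, hRP]
    rw [Finset.sum_eq_single j]
    · rw [if_pos rfl, if_neg (hcn j j), one_smul, zero_smul, add_zero]
    · intro i _ hij
      rw [if_neg (fun h => hij (hnn i j h)), if_neg (hcn i j), zero_smul, zero_smul, add_zero]
    · intro h
      exact absurd (Finset.mem_univ j) h
  have hNR2 : ∀ j : Fin k, ((g : Matrix (Fin m ⊕ Fin m) (Fin m ⊕ Fin m) F) - 1) *ᵥ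
      (stdR F hkk (Fin.castAdd k j)) = C j := by
    intro j
    rw [hN]
    simp only [hBi, hCi, hRP]
    rw [Finset.sum_eq_single j]
    · rw [if_pos rfl, if_neg (fun h => hcn j j h.symm), one_smul, zero_smul, zero_add]
    · intro i _ hij
      rw [if_neg (fun h => hcn j i h.symm), if_neg (fun h => hij (hcc i j h)), zero_smul,
        zero_smul, add_zero]
    · intro h
      exact absurd (Finset.mem_univ j) h
  have hrank : ((g : Matrix (Fin m ⊕ Fin m) (Fin m ⊕ Fin m) F) - 1).rank = k + k := by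
    apply rank_eq_of_span _ (stdP F hkk) (stdP_li hkk)
    · intro x
      rw [hN]
      refine Submodule.sum_mem _ fun i _ => Submodule.add_mem _
        (Submodule.smul_mem _ _ (Submodule.subset_span ⟨Fin.castAdd k i, ?_⟩))
        (Submodule.smul_mem _ _ (Submodule.subset_span ⟨Fin.natAdd k i, ?_⟩))
      · rw [hBdef]
      · rw [hCdef]
    · intro j
      refine Fin.addCases (motive := fun j => ∃ z, stdP F hkk j =
        ((g : Matrix (Fin m ⊕ Fin m) (Fin m ⊕ Fin m) F) - 1) *ᵥ z) (fun i => ?_) (fun i => ?_) j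
      · refine ⟨stdR F hkk (Fin.natAdd k i), ?_⟩
        rw [hNR1, hBdef]
      · refine ⟨stdR F hkk (Fin.castAdd k i), ?_⟩
        rw [hNR2, hCdef]
  refine ⟨g, order_two_of g hsq (by rw [hrank]; omega), by rw [hrank]; omega, ?_⟩
  intro x
  rw [hN, sf_sum_left]
  apply Finset.sum_eq_zero
  intro i _
  rw [sympForm_add_left, sympForm_smul_left, sympForm_smul_left, sympForm_swap m (B i) x,
    sympForm_swap m (C i) x]
  linear_combination (-(Cfsg.sympForm m F x (C i) * Cfsg.sympForm m F x (B i))) * h2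

theorem main [Fintype F] [CharP F 2] (hm : 1 ≤ m) :
    Nat.card {C : ConjClasses ↥(Matrix.symplecticGroup (Fin m) F) //
      ∃ g : Matrix.symplecticGroup (Fin m) F, ConjClasses.mk g = C ∧ orderOf g = 2} =
      m + m / 2 := by
  classical
  have hstdN : ∀ i : Fin m, ∃ g : Matrix.symplecticGroup (Fin m) F, orderOf g = 2 ∧
      ((g : Matrix (Fin m ⊕ Fin m) (Fin m ⊕ Fin m) F) - 1).rank = i.1 + 1 ∧ ¬ Alt g :=
    fun i => exists_std_nonalt (i.1 + 1) (by omega) (by have := i.2; omega)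
  have hstdA : ∀ j : Fin (m / 2), ∃ g : Matrix.symplecticGroup (Fin m) F, orderOf g = 2 ∧
      ((g : Matrix (Fin m ⊕ Fin m) (Fin m ⊕ Fin m) F) - 1).rank = 2 * (j.1 + 1) ∧ Alt g :=
    fun j => exists_std_alt (j.1 + 1) (by omega) (by have := j.2; omega)
  choose gN hgN using hstdN
  choose gA hgA using hstdA
  let Ψ : Fin m ⊕ Fin (m / 2) → {C : ConjClasses ↥(Matrix.symplecticGroup (Fin m) F) //
      ∃ g : Matrix.symplecticGroup (Fin m) F, ConjClasses.mk g = C ∧ orderOf g = 2} :=
    Sum.elim (fun i => ⟨ConjClasses.mk (gN i), gN i, rfl, (hgN i).1⟩)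
      (fun j => ⟨ConjClasses.mk (gA j), gA j, rfl, (hgA j).1⟩)
  have hbij : Function.Bijective Ψ := by
    constructor
    · intro u v huv
      rcases u with i | j <;> rcases v with i' | j'
      · have h : ConjClasses.mk (gN i) = ConjClasses.mk (gN i') := congrArg Subtype.val huv
        rw [ConjClasses.mk_eq_mk_iff_isConj] at h
        obtain ⟨h1, -⟩ := inv_of_conj _ _ h
        rw [(hgN i).2.1, (hgN i').2.1] at h1
        congr 1
        exact Fin.ext (by omega)
      · exfalso
        have h : ConjClasses.mk (gN i) = ConjClasses.mk (gA j') := congrArg Subtype.val huv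
        rw [ConjClasses.mk_eq_mk_iff_isConj] at h
        obtain ⟨-, h1⟩ := inv_of_conj _ _ h
        exact (hgN i).2.2 (h1.mpr (hgA j').2.2)
      · exfalso
        have h : ConjClasses.mk (gA j) = ConjClasses.mk (gN i') := congrArg Subtype.val huv
        rw [ConjClasses.mk_eq_mk_iff_isConj] at h
        obtain ⟨-, h1⟩ := inv_of_conj _ _ h
        exact (hgN i').2.2 (h1.mp (hgA j).2.2)
      · have h : ConjClasses.mk (gA j) = ConjClasses.mk (gA j') := congrArg Subtype.val huv
        rw [ConjClasses.mk_eq_mk_iff_isConj] at h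
        obtain ⟨h1, -⟩ := inv_of_conj _ _ h
        rw [(hgA j).2.1, (hgA j').2.1] at h1
        congr 1
        exact Fin.ext (by omega)
    · rintro ⟨C, g, rfl, hg⟩
      have hsq : (g : Matrix (Fin m ⊕ Fin m) (Fin m ⊕ Fin m) F) *
          (g : Matrix (Fin m ⊕ Fin m) (Fin m ⊕ Fin m) F) = 1 := by
        have h1 : g ^ 2 = 1 := by rw [← hg]; exact pow_orderOf_eq_one g
        rw [pow_two] at h1
        exact congrArg Subtype.val h1
      have hGood := good_of_inv (g : Matrix (Fin m ⊕ Fin m) (Fin m ⊕ Fin m) F) g.2 hsq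
      have hr1 := one_le_rank g hg
      have hr2 := rank_le _ hGood
      by_cases hA : Alt g
      · obtain ⟨s, hs, -⟩ := structure_alt _ _ hGood hA rfl
        have hj : s - 1 < m / 2 := by omega
        refine ⟨Sum.inr ⟨s - 1, hj⟩, ?_⟩
        apply Subtype.ext
        change ConjClasses.mk (gA ⟨s - 1, hj⟩) = ConjClasses.mk g
        rw [ConjClasses.mk_eq_mk_iff_isConj]
        apply conj_of_type _ _ (hgA ⟨s - 1, hj⟩).1 hg
        · rw [(hgA ⟨s - 1, hj⟩).2.1, hs]
          have : ((⟨s - 1, hj⟩ : Fin (m / 2)) : ℕ) = s - 1 := rfl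
          omega
        · exact iff_of_true (hgA ⟨s - 1, hj⟩).2.2 hA
      · have hi : ((g : Matrix (Fin m ⊕ Fin m) (Fin m ⊕ Fin m) F) - 1).rank - 1 < m := by omega
        refine ⟨Sum.inl ⟨_, hi⟩, ?_⟩
        apply Subtype.ext
        change ConjClasses.mk (gN ⟨_, hi⟩) = ConjClasses.mk g
        rw [ConjClasses.mk_eq_mk_iff_isConj]
        apply conj_of_type _ _ (hgN ⟨_, hi⟩).1 hg
        · rw [(hgN ⟨_, hi⟩).2.1]
          have : ((⟨((g : Matrix (Fin m ⊕ Fin m) (Fin m ⊕ Fin m) F) - 1).rank - 1, hi⟩ :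
            Fin m) : ℕ) = ((g : Matrix (Fin m ⊕ Fin m) (Fin m ⊕ Fin m) F) - 1).rank - 1 := rfl
          omega
        · exact iff_of_false (hgN ⟨_, hi⟩).2.2 hA
  rw [← Nat.card_congr (Equiv.ofBijective Ψ hbij)]
  simp [Nat.card_eq_fintype_card]

end S2593aux
end Aux

/-- Number of conjugacy classes of involutions in the symplectic group Sp_2m(F) over a finite field of characteristic two (m ≥ 1): for each s with 1 ≤ s ≤ m there is one class with rank(t − 1) = s if s is odd and two if s is even (according as v ↦ f(v, tv), f the symplectic form, vanishes identically or not), so m + ⌊m/2⌋ classes in all. -/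
theorem result {F : Type*} [Field F] [Fintype F] [CharP F 2] {m : ℕ} (hm : 1 ≤ m) : Nat.card {C : ConjClasses ↥(Matrix.symplecticGroup (Fin m) F) // ∃ g : Matrix.symplecticGroup (Fin m) F, ConjClasses.mk g = C ∧ orderOf g = 2} = m + m / 2 := by
  exact S2593aux.main hm

end Cfsg.Agent.S2593
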