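import Cfsg.Statements.S2594
-- import your own Cfsg.Agent.* helpers here
import Cfsg.Agent.Lib.Helper5.SympTrans
import Cfsg.Agent.Lib.Helper14.SympCount

set_option autoImplicit false
open Cfsg

namespace Cfsg.Agent.S2594

open Matrix Cfsg.Agent.Lib.Helper5

variable {F : Type*} [Field F] {m : ℕ}

theorem mat_ext_mulVec {A B : Matrix (Fin m ⊕ Fin m) (Fin m ⊕ Fin m) F}
    (h : ∀ v, A *ᵥ v = B *ᵥ v) : A = B := by
  apply Matrix.toLin'.injective
  apply LinearMap.ext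
  intro v
  rw [Matrix.toLin'_apply, Matrix.toLin'_apply, h]

/-- A symplectic matrix `t` with `t - 1` of rank one is a transvection. -/
theorem rank_one_form (t : Matrix.symplecticGroup (Fin m) F)
    (ht : ((t : Matrix (Fin m ⊕ Fin m) (Fin m ⊕ Fin m) F) - 1).rank = 1) :
    ∃ (a : Fin m ⊕ Fin m → F) (κ : F), a ≠ 0 ∧ κ ≠ 0 ∧
      ∀ v, (t : Matrix (Fin m ⊕ Fin m) (Fin m ⊕ Fin m) F) *ᵥ v
        = v + (κ * Cfsg.sympForm m F a v) • a := by
  obtain ⟨N, hN⟩ : ∃ N : Matrix (Fin m ⊕ Fin m) (Fin m ⊕ Fin m) F,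
      N = (t : Matrix (Fin m ⊕ Fin m) (Fin m ⊕ Fin m) F) - 1 := ⟨_, rfl⟩
  rw [← hN] at ht
  have ht' : Module.finrank F (LinearMap.range N.mulVecLin) = 1 := ht
  obtain ⟨⟨a, ha_mem⟩, ha0, hspan⟩ := finrank_eq_one_iff'.mp ht'
  have ha : a ≠ 0 := fun h => ha0 (Subtype.ext h)
  have hφ : ∀ v, ∃ c : F, N *ᵥ v = c • a := by
    intro v
    obtain ⟨c, hc⟩ := hspan ⟨N *ᵥ v, ⟨v, rfl⟩⟩
    exact ⟨c, (congrArg Subtype.val hc).symm⟩
  choose φ hφ using hφ
  have htv : ∀ v, (t : Matrix (Fin m ⊕ Fin m) (Fin m ⊕ Fin m) F) *ᵥ v = v + φ v • a := by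
    intro v
    have : (t : Matrix (Fin m ⊕ Fin m) (Fin m ⊕ Fin m) F) = 1 + N := by rw [hN]; abel
    rw [this, Matrix.add_mulVec, Matrix.one_mulVec, hφ]
  obtain ⟨u₀, hu₀⟩ : ∃ u₀, N *ᵥ u₀ = a := ha_mem
  have hφu₀ : φ u₀ = 1 := by
    have h1 := hφ u₀
    rw [hu₀] at h1
    have h2 : (φ u₀ - 1) • a = 0 := by rw [sub_smul, one_smul, ← h1, sub_self]
    rcases smul_eq_zero.mp h2 with h | h
    · exact sub_eq_zero.mp h
    · exact absurd h ha
  have hsymp : ∀ u v, φ v * Cfsg.sympForm m F u a + φ u * Cfsg.sympForm m F a v = 0 := by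
    intro u v
    have h := sympForm_mulVec_of_mem t.2 u v
    rw [htv, htv, sympForm_add_left, sympForm_add_right, sympForm_add_right, sympForm_smul_left,
      sympForm_smul_left, sympForm_smul_right, sympForm_smul_right, sympForm_self] at h
    linear_combination h
  have hB : ∀ v, Cfsg.sympForm m F a v = -(Cfsg.sympForm m F u₀ a) * φ v := by
    intro v
    have := hsymp u₀ v
    rw [hφu₀] at this
    linear_combination this
  obtain ⟨v₀, hv₀⟩ := sympForm_nondeg a ha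
  have hκ' : -(Cfsg.sympForm m F u₀ a) ≠ 0 := by
    intro h0
    apply hv₀
    rw [hB, h0, zero_mul]
  refine ⟨a, (-(Cfsg.sympForm m F u₀ a))⁻¹, ha, inv_ne_zero hκ', fun v => ?_⟩
  rw [htv, hB, ← mul_assoc, inv_mul_cancel₀ hκ', one_mul]

theorem comm_iff [CharP F 2] (t : Matrix.symplecticGroup (Fin m) F) (a : Fin m ⊕ Fin m → F) (κ : F)
    (ha : a ≠ 0) (hκ : κ ≠ 0)
    (hform : ∀ v, (t : Matrix (Fin m ⊕ Fin m) (Fin m ⊕ Fin m) F) *ᵥ v
        = v + (κ * Cfsg.sympForm m F a v) • a)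
    (g : Matrix.symplecticGroup (Fin m) F) :
    g * t = t * g ↔ (g : Matrix (Fin m ⊕ Fin m) (Fin m ⊕ Fin m) F) *ᵥ a = a := by
  have hkey : g * t = t * g ↔ ∀ v, Cfsg.sympForm m F a v • ((g : Matrix (Fin m ⊕ Fin m) (Fin m ⊕ Fin m) F) *ᵥ a)
      = Cfsg.sympForm m F a ((g : Matrix (Fin m ⊕ Fin m) (Fin m ⊕ Fin m) F) *ᵥ v) • a := by
    have hv : ∀ v, ((g * t : Matrix.symplecticGroup (Fin m) F) : Matrix (Fin m ⊕ Fin m) (Fin m ⊕ Fin m) F) *ᵥ v
        = (g : Matrix (Fin m ⊕ Fin m) (Fin m ⊕ Fin m) F) *ᵥ v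
          + (κ * Cfsg.sympForm m F a v) • ((g : Matrix (Fin m ⊕ Fin m) (Fin m ⊕ Fin m) F) *ᵥ a) := by
      intro v
      show ((g : Matrix (Fin m ⊕ Fin m) (Fin m ⊕ Fin m) F) * (t : Matrix (Fin m ⊕ Fin m) (Fin m ⊕ Fin m) F)) *ᵥ v = _
      rw [← Matrix.mulVec_mulVec, hform, Matrix.mulVec_add, Matrix.mulVec_smul]
    have hv' : ∀ v, ((t * g : Matrix.symplecticGroup (Fin m) F) : Matrix (Fin m ⊕ Fin m) (Fin m ⊕ Fin m) F) *ᵥ v
        = (g : Matrix (Fin m ⊕ Fin m) (Fin m ⊕ Fin m) F) *ᵥ v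
          + (κ * Cfsg.sympForm m F a ((g : Matrix (Fin m ⊕ Fin m) (Fin m ⊕ Fin m) F) *ᵥ v)) • a := by
      intro v
      show ((t : Matrix (Fin m ⊕ Fin m) (Fin m ⊕ Fin m) F) * (g : Matrix (Fin m ⊕ Fin m) (Fin m ⊕ Fin m) F)) *ᵥ v = _
      rw [← Matrix.mulVec_mulVec, hform]
    constructor
    · intro h v
      have h1 := hv v
      rw [h, hv' v] at h1
      have h2 := add_left_cancel h1
      have h3 := congrArg (fun x => κ⁻¹ • x) h2
      simp only [smul_smul, inv_mul_cancel_left₀ hκ] at h3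
      exact h3.symm
    · intro h
      apply Subtype.ext
      apply mat_ext_mulVec
      intro v
      rw [hv, hv', mul_smul, mul_smul, h v]
  rw [hkey]
  constructor
  · intro h
    obtain ⟨v₀, hv₀⟩ := sympForm_nondeg a ha
    obtain ⟨lam, hlam⟩ : ∃ lam : F, (g : Matrix (Fin m ⊕ Fin m) (Fin m ⊕ Fin m) F) *ᵥ a = lam • a := by
      refine ⟨(Cfsg.sympForm m F a v₀)⁻¹ * Cfsg.sympForm m F a ((g : Matrix (Fin m ⊕ Fin m) (Fin m ⊕ Fin m) F) *ᵥ v₀), ?_⟩
      have := congrArg (fun x => (Cfsg.sympForm m F a v₀)⁻¹ • x) (h v₀)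
      simp only [smul_smul, inv_mul_cancel₀ hv₀, one_smul] at this
      exact this
    have h1 : Cfsg.sympForm m F a ((g : Matrix (Fin m ⊕ Fin m) (Fin m ⊕ Fin m) F) *ᵥ v₀)
        = lam * Cfsg.sympForm m F a v₀ := by
      have h2 := h v₀
      rw [hlam, smul_smul] at h2
      have h3 : (Cfsg.sympForm m F a v₀ * lam
          - Cfsg.sympForm m F a ((g : Matrix (Fin m ⊕ Fin m) (Fin m ⊕ Fin m) F) *ᵥ v₀)) • a = 0 := by
        rw [sub_smul, h2, sub_self]
      rcases smul_eq_zero.mp h3 with h4 | h4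
      · linear_combination -h4
      · exact absurd h4 ha
    have h2 := sympForm_mulVec_of_mem g.2 a v₀
    rw [hlam, sympForm_smul_left, h1] at h2
    have h3 : lam * lam = 1 := by
      have : (lam * lam - 1) * Cfsg.sympForm m F a v₀ = 0 := by linear_combination h2
      rcases mul_eq_zero.mp this with h4 | h4
      · exact sub_eq_zero.mp h4
      · exact absurd h4 hv₀
    have h4 : lam = 1 := by
      have h5 : (lam + 1) * (lam + 1) = 0 := by
        have h2' : (2 : F) = 0 := CharTwo.two_eq_zero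
        linear_combination h3 + lam * h2' + h2'
      have h6 : lam + 1 = 0 := mul_self_eq_zero.mp h5
      have h7 : lam = -1 := eq_neg_of_add_eq_zero_left h6
      rw [h7, CharTwo.neg_eq]
    rw [hlam, h4, one_smul]
  · intro h v
    have h2 := sympForm_mulVec_of_mem g.2 a v
    rw [h] at h2
    rw [h, h2]

/-- Over a finite field with q elements, q even, an element t of Sp_2m(F) with rank(t − 1) = 1 (a symplectic transvection) has centraliser in Sp_2m(F) of order q^(2m−1) · |Sp_(2m−2)(q)| = q^(2m−1) · q^((m−1)²) · Π_(i=1)^(m−1) (q^(2i) − 1). -/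
theorem result {F : Type*} [Field F] [Fintype F] [CharP F 2] {q : ℕ} (hF : Fintype.card F = q) {m : ℕ} (hm : 1 ≤ m) (t : Matrix.symplecticGroup (Fin m) F) (ht : ((t : Matrix (Fin m ⊕ Fin m) (Fin m ⊕ Fin m) F) - 1).rank = 1) : Nat.card ↥(Subgroup.centralizer ({t} : Set ↥(Matrix.symplecticGroup (Fin m) F))) = q ^ (2 * m - 1) * (q ^ ((m - 1) ^ 2) * ∏ i : Fin (m - 1), (q ^ (2 * ((i : ℕ) + 1)) - 1)) := by
  classical
  obtain ⟨a, κ, ha, hκ, hform⟩ := rank_one_form t ht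
  letI act : MulAction (Matrix.symplecticGroup (Fin m) F) (Fin m ⊕ Fin m → F) :=
    { smul := fun g v => (g : Matrix (Fin m ⊕ Fin m) (Fin m ⊕ Fin m) F) *ᵥ v
      one_smul := fun v => Matrix.one_mulVec v
      mul_smul := fun g h v => (Matrix.mulVec_mulVec v (g : Matrix (Fin m ⊕ Fin m) (Fin m ⊕ Fin m) F)
        (h : Matrix (Fin m ⊕ Fin m) (Fin m ⊕ Fin m) F)).symm }
  have hsmul : ∀ (g : Matrix.symplecticGroup (Fin m) F) (v : Fin m ⊕ Fin m → F),
      g • v = (g : Matrix (Fin m ⊕ Fin m) (Fin m ⊕ Fin m) F) *ᵥ v := fun _ _ => rfl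
  have hstab : MulAction.stabilizer (Matrix.symplecticGroup (Fin m) F) a
      = Subgroup.centralizer ({t} : Set ↥(Matrix.symplecticGroup (Fin m) F)) := by
    ext g
    rw [MulAction.mem_stabilizer_iff, Subgroup.mem_centralizer_iff, hsmul,
      ← comm_iff t a κ ha hκ hform g]
    constructor
    · intro h x hx
      rw [Set.mem_singleton_iff.mp hx]; exact h.symm
    · intro h; exact (h t rfl).symm
  have horb : MulAction.orbit (Matrix.symplecticGroup (Fin m) F) a = {v | v ≠ 0} := by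
    ext v
    constructor
    · rintro ⟨g, rfl⟩ hzero
      apply ha
      have h1 : g⁻¹ • (g • a) = g⁻¹ • (0 : Fin m ⊕ Fin m → F) := congrArg _ hzero
      rw [inv_smul_smul, hsmul, Matrix.mulVec_zero] at h1
      exact h1
    · intro hv
      obtain ⟨A, -, hA⟩ := transv_trans1 a v ha hv
      exact ⟨A, hA⟩
  have hcardV : Nat.card {v : Fin m ⊕ Fin m → F // v ≠ 0} = q ^ (2 * m) - 1 := by
    rw [Nat.card_eq_fintype_card, Fintype.card_subtype_compl, Fintype.card_subtype_eq]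
    simp [hF, two_mul]
  have h1 : Nat.card (Matrix.symplecticGroup (Fin m) F)
      = (q ^ (2 * m) - 1) * Nat.card ↥(Subgroup.centralizer ({t} : Set ↥(Matrix.symplecticGroup (Fin m) F))) := by
    rw [Subgroup.card_eq_card_quotient_mul_card_subgroup
      (MulAction.stabilizer (Matrix.symplecticGroup (Fin m) F) a),
      ← Nat.card_congr (MulAction.orbitEquivQuotientStabilizer (Matrix.symplecticGroup (Fin m) F) a),
      horb, hstab]
    congr 1
  rw [Cfsg.Agent.Lib.Helper14.card_symplectic, hF] at h1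
  obtain ⟨k, rfl⟩ : ∃ k, m = k + 1 := ⟨m - 1, by omega⟩
  rw [Finset.prod_range_succ] at h1
  have hq : 2 ≤ q := by rw [← hF]; exact Fintype.one_lt_card
  have hpos : 0 < q ^ (2 * (k + 1)) - 1 := by
    have : 2 ^ (2 * (k + 1)) ≤ q ^ (2 * (k + 1)) := Nat.pow_le_pow_left hq _
    have : 2 ≤ 2 ^ (2 * (k + 1)) := by
      calc 2 = 2 ^ 1 := by norm_num
        _ ≤ 2 ^ (2 * (k + 1)) := Nat.pow_le_pow_right (by norm_num) (by omega)
    omega
  have h2 : (q ^ (2 * (k + 1)) - 1) * Nat.card ↥(Subgroup.centralizer ({t} : Set ↥(Matrix.symplecticGroup (Fin (k + 1)) F)))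
      = (q ^ (2 * (k + 1)) - 1) * (q ^ ((k + 1) ^ 2) * ∏ x ∈ Finset.range k, (q ^ (2 * (x + 1)) - 1)) := by
    rw [← h1]; ring
  have h3 := Nat.eq_of_mul_eq_mul_left hpos h2
  rw [h3, Nat.add_sub_cancel, Fin.prod_univ_eq_prod_range (fun i => q ^ (2 * (i + 1)) - 1) k, ← mul_assoc,
    ← pow_add]
  congr 2
  have : 2 * (k + 1) - 1 = 2 * k + 1 := by omega
  rw [this]; ring

end Cfsg.Agent.S2594
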