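import Cfsg.Statements.S2595
import Mathlib
import Cfsg.Agent.S0832
import Cfsg.Agent.Lib.Helper5.OrthBridge
import Cfsg.Agent.Lib.Helper5.OrthStd

set_option autoImplicit false
open Cfsg

namespace Cfsg.Agent.S2595

section Aux
set_option linter.unusedSectionVars false
set_option linter.unusedVariables false
set_option linter.unusedSimpArgs false
namespace S2595aux
open Cfsg Cfsg.Agent.S0832.S0832aux Cfsg.Agent.Lib.Helper5.OrthStd
  Cfsg.Agent.Lib.Helper5.OrthBridge

theorem main {F : Type*} [Field F] [Fintype F] [CharP F 2] (m : ℕ) :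
    Nat.card {C : ConjClasses ↥(Cfsg.isometryGroup F (Cfsg.quadFormPlus m F)) //
      ∃ g : ↥(Cfsg.isometryGroup F (Cfsg.quadFormPlus m F)),
        ConjClasses.mk g = C ∧ orderOf g = 2} = m + m / 2 :=
  count_inv' (plusQ F m) (plusQ_nondeg m) (Cfsg.quadFormPlus m F)
    (fun x => (plusQ_apply m x).symm) m m
    (by rw [Fintype.card_sum, Fintype.card_fin]; omega) (plus_ts m)
    (plusE F m) (plusE_li m) (plusE_orth m) (plusE_Q m)
    (plusP F m) (plusP_li m) (plusP_orth m) (plusP_Q m)

end S2595aux
end Aux

/-- Number of conjugacy classes of involutions in the full orthogonal group O⁺_2m(F) of the hyperbolic quadratic form Σ x_i y_i over a finite field of characteristic two (m ≥ 1): one class for each odd s ≤ m and two for each even s with 2 ≤ s ≤ m, where s = rank(t − 1); in all m + ⌊m/2⌋. -/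
theorem result {F : Type*} [Field F] [Fintype F] [CharP F 2] {m : ℕ} (hm : 1 ≤ m) : Nat.card {C : ConjClasses ↥(Cfsg.isometryGroup F (Cfsg.quadFormPlus m F)) // ∃ g : ↥(Cfsg.isometryGroup F (Cfsg.quadFormPlus m F)), ConjClasses.mk g = C ∧ orderOf g = 2} = m + m / 2 := by
  exact S2595aux.main m

end Cfsg.Agent.S2595
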