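import Cfsg.Statements.S2596
import Mathlib
import Cfsg.Agent.Lib.Helper5.OrthBridge
import Cfsg.Agent.Lib.Helper5.OrthStd

set_option autoImplicit false
open Cfsg

namespace Cfsg.Agent.S2596

section Aux
set_option linter.unusedSectionVars false
set_option linter.unusedVariables false
set_option linter.unusedSimpArgs false
namespace S2596aux
open Cfsg Cfsg.Agent.Lib.Helper5.OrthStd Cfsg.Agent.Lib.Helper5.OrthBridge

theorem main {F : Type*} [Field F] [Fintype F] [CharP F 2] (k : ℕ) (a b : F)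
    (hab : ∀ z₁ z₂ : F, z₁ ^ 2 + a * z₁ * z₂ + b * z₂ ^ 2 = 0 → z₁ = 0 ∧ z₂ = 0) :
    Nat.card {C : ConjClasses ↥(Cfsg.isometryGroup F (Cfsg.quadFormMinus k F a b)) //
      ∃ g : ↥(Cfsg.isometryGroup F (Cfsg.quadFormMinus k F a b)),
        ConjClasses.mk g = C ∧ orderOf g = 2} = (k + 1) + k / 2 :=
  count_inv' (minusQ F k a b) (minusQ_nondeg k a b hab) (Cfsg.quadFormMinus k F a b)
    (fun x => (minusQ_apply k a b x).symm) (k + 1) k
    (by rw [Fintype.card_sum, Fintype.card_sum, Fintype.card_fin, Fintype.card_fin]; omega)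
    (minus_ts k a b hab)
    (minusE F k) (minusE_li k) (minusE_orth k a b) (minusE_Q k a b)
    (minusP F k) (minusP_li k) (minusP_orth k a b) (minusP_Q k a b)

theorem main' {F : Type*} [Field F] [Fintype F] [CharP F 2] {m : ℕ} (hm : 1 ≤ m) (a b : F)
    (hab : ∀ z₁ z₂ : F, z₁ ^ 2 + a * z₁ * z₂ + b * z₂ ^ 2 = 0 → z₁ = 0 ∧ z₂ = 0) :
    Nat.card {C : ConjClasses ↥(Cfsg.isometryGroup F (Cfsg.quadFormMinus (m - 1) F a b)) //
      ∃ g : ↥(Cfsg.isometryGroup F (Cfsg.quadFormMinus (m - 1) F a b)),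
        ConjClasses.mk g = C ∧ orderOf g = 2} = m + (m - 1) / 2 := by
  rw [main (m - 1) a b hab]
  omega

end S2596aux
end Aux

/-- Number of conjugacy classes of involutions in the full orthogonal group O⁻_2m(F) of an elliptic quadratic form (Σ_(i<m−1) x_i y_i plus an anisotropic binary form) over a finite field of characteristic two (m ≥ 1): one class for each odd s ≤ m, two for each even s with 2 ≤ s < m and one for s = m when m is even, where s = rank(t − 1); in all m + ⌊(m − 1)/2⌋. -/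
theorem result {F : Type*} [Field F] [Fintype F] [CharP F 2] {m : ℕ} (hm : 1 ≤ m) (a b : F) (hab : ∀ z₁ z₂ : F, z₁ ^ 2 + a * z₁ * z₂ + b * z₂ ^ 2 = 0 → z₁ = 0 ∧ z₂ = 0) : Nat.card {C : ConjClasses ↥(Cfsg.isometryGroup F (Cfsg.quadFormMinus (m - 1) F a b)) // ∃ g : ↥(Cfsg.isometryGroup F (Cfsg.quadFormMinus (m - 1) F a b)), ConjClasses.mk g = C ∧ orderOf g = 2} = m + (m - 1) / 2 := by
  exact S2596aux.main' hm a b hab

end Cfsg.Agent.S2596
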