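import Cfsg.Statements.S2598
import Mathlib
import Cfsg.Agent.Lib.Helper5.MinusMid
import Cfsg.Agent.Lib.Helper5.OrthBridge
import Cfsg.Agent.Lib.Helper5.OrthStd

set_option autoImplicit false
open Cfsg

namespace Cfsg.Agent.S2598

section Aux
set_option linter.unusedSectionVars false
set_option linter.unusedVariables false
set_option linter.unusedSimpArgs false
namespace S2598aux
open Module QuadraticMap Matrix
  Cfsg.Agent.Lib.Helper5 Cfsg.Agent.Lib.Helper5.DicksonRank Cfsg.Agent.Lib.Helper5.OmegaInvSplit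
  Cfsg.Agent.Lib.Helper5.OrthInv Cfsg.Agent.Lib.Helper5.OrthStd Cfsg.Agent.Lib.Helper5.MinusMid

variable {F : Type*} [Field F] (k : ℕ) (a b : F)

local notation "QM" => (minusQ F k a b)
local notation "II" => ((Fin k ⊕ Fin k) ⊕ Fin 2)

abbrev OO := ↥(Cfsg.isometryGroup F ⇑(minusQ F k a b))

abbrev mat (g : OO k a b) : Matrix ((Fin k ⊕ Fin k) ⊕ Fin 2) ((Fin k ⊕ Fin k) ⊕ Fin 2) F :=
  ((g : GL ((Fin k ⊕ Fin k) ⊕ Fin 2) F) :
    Matrix ((Fin k ⊕ Fin k) ⊕ Fin 2) ((Fin k ⊕ Fin k) ⊕ Fin 2) F)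

lemma tl_sub_id (t : OO k a b) :
    (OrthBridge.tl QM t - LinearMap.id : (II → F) →ₗ[F] (II → F)) =
      (mat k a b t - 1).mulVecLin := by
  apply LinearMap.ext
  intro x
  rw [LinearMap.sub_apply, LinearMap.id_apply, OrthBridge.tl_apply, Matrix.mulVecLin_apply,
    Matrix.sub_mulVec, Matrix.one_mulVec]

lemma rk_eq (t : OO k a b) : OrthBridge.rk QM t = (mat k a b t - 1).rank := by
  unfold OrthBridge.rk
  rw [tl_sub_id]
  rfl

section Fin
variable [Fintype F] [CharP F 2]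
  (hab : ∀ z₁ z₂ : F, z₁ ^ 2 + a * z₁ * z₂ + b * z₂ ^ 2 = 0 → z₁ = 0 ∧ z₂ = 0)
include hab

lemma inv_facts (t : OO k a b) (ht : orderOf t = 2) :
    1 ≤ OrthBridge.rk QM t ∧ OrthBridge.rk QM t ≤ k + 1 ∧
      (OrthBridge.al QM t → OrthBridge.rk QM t ≤ k) := by
  obtain ⟨h1, h2, -, h4⟩ := OrthBridge.bounds QM (minusQ_nondeg k a b hab) t ht
  simp only [Fintype.card_sum, Fintype.card_fin] at h2
  refine ⟨h1, by omega, fun hal => ?_⟩
  exact minus_ts k a b hab _ (h4 hal)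

lemma mem_omega_iff_rk (t : OO k a b) :
    t ∈ Cfsg.Omega F ⇑QM ↔ Even (OrthBridge.rk QM t) := by
  rw [rk_eq]
  exact minus_mem_omega_iff_even_rank k a b hab _ rfl t

lemma exists_nonal (s : ℕ) (hs1 : 1 ≤ s) (hsm : s ≤ k + 1) :
    ∃ t : OO k a b, orderOf t = 2 ∧ OrthBridge.rk QM t = s ∧ ¬ OrthBridge.al QM t := by
  have hQ := minusQ_nondeg k a b hab
  obtain ⟨T, hT, hTT, hTr, hTa⟩ := exists_nonalt QM hQ
      (fun i : Fin s => minusE F k (Fin.castLE hsm i))
      ((minusE_li k).comp _ (Fin.castLE_injective hsm)) (fun i j => minusE_orth k a b _ _)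
      (fun i => minusE_Q k a b _)
  obtain ⟨t, ht⟩ := OrthBridge.exists_elt QM T hT hTT
  have hne : OrthBridge.tl QM t ≠ LinearMap.id := by
    intro h0
    rw [ht] at h0
    rw [h0, sub_self, LinearMap.range_zero, finrank_bot] at hTr
    omega
  refine ⟨t, OrthBridge.order_two_of QM t (by rw [ht]; exact hTT) hne, ?_, ?_⟩
  · unfold OrthBridge.rk
    rw [ht]
    exact hTr
  · unfold OrthBridge.al
    rw [ht]
    exact hTa (by omega)

lemma exists_al (j : ℕ) (hj1 : 1 ≤ j) (hjk : 2 * j ≤ k) :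
    ∃ t : OO k a b, orderOf t = 2 ∧ OrthBridge.rk QM t = 2 * j ∧ OrthBridge.al QM t := by
  have hQ := minusQ_nondeg k a b hab
  have hjj : j + j ≤ k := by omega
  obtain ⟨T, hT, hTT, hTr, hTa⟩ := exists_alt QM hQ
      (fun i : Fin (j + j) => minusP F k (Fin.castLE hjj i))
      ((minusP_li k).comp _ (Fin.castLE_injective hjj)) (fun i i' => minusP_orth k a b _ _)
      (fun i => minusP_Q k a b _)
  obtain ⟨t, ht⟩ := OrthBridge.exists_elt QM T hT hTT
  have hne : OrthBridge.tl QM t ≠ LinearMap.id := by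
    intro h0
    rw [ht] at h0
    rw [h0, sub_self, LinearMap.range_zero, finrank_bot] at hTr
    omega
  refine ⟨t, OrthBridge.order_two_of QM t (by rw [ht]; exact hTT) hne, ?_, ?_⟩
  · unfold OrthBridge.rk
    rw [ht, hTr]
    omega
  · unfold OrthBridge.al
    rw [ht]
    exact hTa

open Classical in
/-- a complete invariant of the `Ω`-classes of involutions of `Ω` -/
noncomputable def code (x : ↥(Cfsg.Omega F ⇑(minusQ F k a b))) : ℕ :=
  if OrthBridge.al QM (x : OO k a b) then OrthBridge.rk QM (x : OO k a b)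
  else OrthBridge.rk QM (x : OO k a b) - 1

omit hab in
lemma isConj_omega_iff (x y : ↥(Cfsg.Omega F ⇑(minusQ F k a b))) :
    IsConj x y ↔ ∃ g ∈ Cfsg.Omega F ⇑QM, g * (x : OO k a b) * g⁻¹ = (y : OO k a b) := by
  rw [isConj_iff]
  constructor
  · rintro ⟨c, hc⟩
    refine ⟨c.1, c.2, ?_⟩
    have := congrArg Subtype.val hc
    simpa using this
  · rintro ⟨g, hg, h⟩
    refine ⟨⟨g, hg⟩, ?_⟩
    apply Subtype.ext
    simpa using h

lemma inv_omega_facts (x : ↥(Cfsg.Omega F ⇑(minusQ F k a b))) (hx : orderOf x = 2) :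
    orderOf (x : OO k a b) = 2 ∧ OrthBridge.rk QM (x : OO k a b) % 2 = 0 ∧
      2 ≤ OrthBridge.rk QM (x : OO k a b) ∧ OrthBridge.rk QM (x : OO k a b) ≤ k + 1 ∧
      (OrthBridge.al QM (x : OO k a b) → OrthBridge.rk QM (x : OO k a b) ≤ k) := by
  have h1 : orderOf (x : OO k a b) = 2 := by rw [Subgroup.orderOf_coe]; exact hx
  have h2 := (mem_omega_iff_rk k a b hab (x : OO k a b)).mp x.2
  obtain ⟨h3, h4, h5⟩ := inv_facts k a b hab (x : OO k a b) h1
  rw [Nat.even_iff] at h2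
  exact ⟨h1, h2, by omega, h4, h5⟩

lemma conj_iff_code (x y : ↥(Cfsg.Omega F ⇑(minusQ F k a b))) (hx : orderOf x = 2)
    (hy : orderOf y = 2) : IsConj x y ↔ code k a b x = code k a b y := by
  obtain ⟨hx2, hxe, hx3, hx4, hx5⟩ := inv_omega_facts k a b hab x hx
  obtain ⟨hy2, hye, hy3, hy4, hy5⟩ := inv_omega_facts k a b hab y hy
  have hgc := OrthBridge.group_conj_iff QM (minusQ_nondeg k a b hab) (x : OO k a b) (y : OO k a b)
    hx2 hy2
  rw [isConj_omega_iff]
  constructor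
  · rintro ⟨g, hgO, hg⟩
    obtain ⟨hrk, hal⟩ := hgc.mp (isConj_iff.mpr ⟨g, hg⟩)
    unfold code
    by_cases h1 : OrthBridge.al QM (x : OO k a b)
    · rw [if_pos h1, if_pos (hal.mp h1), hrk]
    · rw [if_neg h1, if_neg (fun h => h1 (hal.mpr h)), hrk]
  · intro hc
    unfold code at hc
    have hO : IsConj (x : OO k a b) (y : OO k a b) := by
      apply hgc.mpr
      by_cases h1 : OrthBridge.al QM (x : OO k a b) <;>
        by_cases h1b : OrthBridge.al QM (y : OO k a b)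
      · rw [if_pos h1, if_pos h1b] at hc
        exact ⟨hc, iff_of_true h1 h1b⟩
      · rw [if_pos h1, if_neg h1b] at hc
        omega
      · rw [if_neg h1, if_pos h1b] at hc
        omega
      · rw [if_neg h1, if_neg h1b] at hc
        exact ⟨by omega, iff_of_false h1 h1b⟩
    exact minus_conj_in_omega k a b hab _ _ hx2 hO

lemma code_bounds (x : ↥(Cfsg.Omega F ⇑(minusQ F k a b))) (hx : orderOf x = 2) :
    1 ≤ code k a b x ∧ code k a b x ≤ k := by
  obtain ⟨hx2, hxe, hx3, hx4, hx5⟩ := inv_omega_facts k a b hab x hx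
  unfold code
  by_cases h1 : OrthBridge.al QM (x : OO k a b)
  · rw [if_pos h1]
    have := hx5 h1
    omega
  · rw [if_neg h1]
    omega

lemma exists_code (v : ℕ) (hv1 : 1 ≤ v) (hv : v ≤ k) :
    ∃ x : ↥(Cfsg.Omega F ⇑(minusQ F k a b)), orderOf x = 2 ∧ code k a b x = v := by
  have key : ∀ t : OO k a b, orderOf t = 2 → Even (OrthBridge.rk QM t) →
      ∃ x : ↥(Cfsg.Omega F ⇑(minusQ F k a b)), orderOf x = 2 ∧ (x : OO k a b) = t := by
    intro t ht he
    refine ⟨⟨t, (mem_omega_iff_rk k a b hab t).mpr he⟩, ?_, rfl⟩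
    rw [← Subgroup.orderOf_coe]
    exact ht
  rcases Nat.even_or_odd v with ⟨j, hj⟩ | ⟨j, hj⟩
  · obtain ⟨t, ht, hrk, hal⟩ := exists_al k a b hab j (by omega) (by omega)
    obtain ⟨x, hx, rfl⟩ := key t ht (by rw [hrk]; exact ⟨j, by omega⟩)
    refine ⟨x, hx, ?_⟩
    unfold code
    rw [if_pos hal, hrk]
    omega
  · obtain ⟨t, ht, hrk, hal⟩ := exists_nonal k a b hab (2 * j + 2) (by omega) (by omega)
    obtain ⟨x, hx, rfl⟩ := key t ht (by rw [hrk]; exact ⟨j + 1, by omega⟩)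
    refine ⟨x, hx, ?_⟩
    unfold code
    rw [if_neg hal, hrk]
    omega

theorem main_aux (q : (((Fin k ⊕ Fin k) ⊕ Fin 2) → F) → F) (hq : ⇑(minusQ F k a b) = q) :
    Nat.card {C : ConjClasses ↥(Cfsg.Omega F q) //
      ∃ g : ↥(Cfsg.Omega F q), ConjClasses.mk g = C ∧ orderOf g = 2} = (k + 1) / 2 + k / 2 := by
  subst hq
  have h := OrthBridge.count_classes (G := ↥(Cfsg.Omega F ⇑(minusQ F k a b))) (code k a b)
    (fun _ => False) k 0
    (fun t s ht hs => ⟨fun hc => ⟨(conj_iff_code k a b hab t s ht hs).mp hc, Iff.rfl⟩,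
      fun hc => (conj_iff_code k a b hab t s ht hs).mpr hc.1⟩)
    (fun t ht => ⟨(code_bounds k a b hab t ht).1, (code_bounds k a b hab t ht).2,
      fun hf => hf.elim⟩)
    (fun s hs1 hs2 => by
      obtain ⟨x, hx, hc⟩ := exists_code k a b hab s hs1 hs2
      exact ⟨x, hx, hc, not_false⟩)
    (fun j hj1 hj2 => by omega)
  rw [h]
  omega

end Fin

end S2598aux
end Aux

/-- Number of conjugacy classes of involutions in Ω⁻_2m(F) (the commutator subgroup of the orthogonal group of an elliptic quadratic form, Σ_(i<m−1) x_i y_i plus an anisotropic binary form) over a finite field F of characteristic two, m ≥ 1: the involutions of Ω are those with s = rank(t − 1) even, one O-class for each even s with 2 ≤ s ≤ m on which v ↦ f(v, tv) is not identically zero and one for each even s with 2 ≤ s < m on which it is zero (f the polar form; in characteristic 2, f(v, tv) = Q(v + tv)), none of which splits in Ω; in all ⌊m/2⌋ + ⌊(m − 1)/2⌋. -/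
theorem result {F : Type*} [Field F] [Fintype F] [CharP F 2] {m : ℕ} (hm : 1 ≤ m) (a b : F) (hab : ∀ z₁ z₂ : F, z₁ ^ 2 + a * z₁ * z₂ + b * z₂ ^ 2 = 0 → z₁ = 0 ∧ z₂ = 0) : Nat.card {C : ConjClasses ↥(Cfsg.Omega F (Cfsg.quadFormMinus (m - 1) F a b)) // ∃ g : ↥(Cfsg.Omega F (Cfsg.quadFormMinus (m - 1) F a b)), ConjClasses.mk g = C ∧ orderOf g = 2} = m / 2 + (m - 1) / 2 := by
  rw [S2598aux.main_aux (m - 1) a b hab _ (funext (fun x => Cfsg.Agent.Lib.Helper5.OrthStd.minusQ_apply (m - 1) a b x)), Nat.sub_add_cancel hm]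

end Cfsg.Agent.S2598
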