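import Cfsg.Statements.S2599
-- import your own Cfsg.Agent.* helpers here

set_option autoImplicit false
open Cfsg

namespace Cfsg.Agent.S2599

open Matrix

/-- An irreducible invariant subspace of a semisimple isometry is non-degenerate or totally singular: let Q be a quadratic form on F^n (F finite of characteristic p) with non-degenerate polar form f, x an isometry of Q of order prime to p, and U a non-zero x-invariant subspace containing no x-invariant subspace other than 0 and U. Then U meets its f-orthogonal trivially, or Q vanishes on U, or p = 2, U is a line spanned by a non-singular vector and x fixes U pointwise. -/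
theorem result {F : Type*} [Field F] [Fintype F] {p : ℕ} [Fact p.Prime] [CharP F p] {n : ℕ} (Q : QuadraticForm F (Fin n → F)) (hQ : (QuadraticMap.polarBilin Q).Nondegenerate) (x : ↥(Cfsg.isometryGroup F ⇑Q)) (hx : (orderOf x).Coprime p) (U : Submodule F (Fin n → F)) (hU0 : U ≠ ⊥) (hUx : ∀ u ∈ U, ((x : Matrix.GeneralLinearGroup (Fin n) F) : Matrix (Fin n) (Fin n) F).mulVec u ∈ U) (hirr : ∀ W : Submodule F (Fin n → F), W ≤ U → (∀ w ∈ W, ((x : Matrix.GeneralLinearGroup (Fin n) F) : Matrix (Fin n) (Fin n) F).mulVec w ∈ W) → W = ⊥ ∨ W = U) : U ⊓ LinearMap.BilinForm.orthogonal (QuadraticMap.polarBilin Q) U = ⊥ ∨ (∀ u ∈ U, Q u = 0) ∨ (p = 2 ∧ Module.finrank F U = 1 ∧ (∃ u ∈ U, Q u ≠ 0) ∧ ∀ u ∈ U, ((x : Matrix.GeneralLinearGroup (Fin n) F) : Matrix (Fin n) (Fin n) F).mulVec u = u) := by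
  classical
  set X : Matrix (Fin n) (Fin n) F := ((x : Matrix.GeneralLinearGroup (Fin n) F) : Matrix (Fin n) (Fin n) F) with hX
  have hiso : ∀ v, Q (X *ᵥ v) = Q v := fun v => x.2 v v
  set B := QuadraticMap.polarBilin Q with hB
  have hBapp : ∀ u v, B u v = Q (u + v) - Q u - Q v := by
    intro u v
    rw [hB, QuadraticMap.polarBilin_apply_apply, QuadraticMap.polar]
  have hBX : ∀ u v, B (X *ᵥ u) (X *ᵥ v) = B u v := by
    intro u v
    rw [hBapp, hBapp, ← Matrix.mulVec_add, hiso, hiso, hiso]
  -- X maps U onto U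
  have hXinj : Function.Injective (Matrix.toLin' X) := by
    have hunit : IsUnit X := ⟨(x : Matrix.GeneralLinearGroup (Fin n) F), rfl⟩
    exact Matrix.mulVec_injective_iff_isUnit.mpr hunit
  have hsurj : ∀ w ∈ U, ∃ w' ∈ U, X *ᵥ w' = w := by
    have hinjU : Function.Injective ((Matrix.toLin' X).restrict (p := U) (q := U) (fun v hv => by simpa using hUx v hv)) := by
      intro a b hab
      apply Subtype.ext
      apply hXinj
      have := congrArg Subtype.val hab
      simpa using this
    have hsU := LinearMap.surjective_of_injective hinjU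
    intro w hw
    obtain ⟨w', hw'⟩ := hsU ⟨w, hw⟩
    refine ⟨w'.1, w'.2, ?_⟩
    have := congrArg Subtype.val hw'
    simpa using this
  -- the radical is invariant
  have hRinv : ∀ w ∈ U ⊓ LinearMap.BilinForm.orthogonal B U, X *ᵥ w ∈ U ⊓ LinearMap.BilinForm.orthogonal B U := by
    rintro w ⟨hwU, hwO⟩
    refine ⟨hUx w hwU, ?_⟩
    rw [SetLike.mem_coe, LinearMap.BilinForm.mem_orthogonal_iff] at hwO ⊢
    intro u hu
    obtain ⟨u', hu', rfl⟩ := hsurj u hu
    rw [hBX]
    exact hwO u' hu'
  rcases hirr (U ⊓ LinearMap.BilinForm.orthogonal B U) inf_le_left hRinv with hR | hR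
  · exact Or.inl hR
  right
  have hUO : U ≤ LinearMap.BilinForm.orthogonal B U := inf_eq_left.mp hR
  have hBU : ∀ u ∈ U, ∀ v ∈ U, B u v = 0 := by
    intro u hu v hv
    have := hUO hv
    rw [LinearMap.BilinForm.mem_orthogonal_iff] at this
    exact this u hu
  have hQadd : ∀ u ∈ U, ∀ v ∈ U, Q (u + v) = Q u + Q v := by
    intro u hu v hv
    have := hBU u hu v hv
    rw [hBapp] at this
    linear_combination this
  -- the singular vectors of U form an invariant submodule
  let U₀ : Submodule F (Fin n → F) :=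
    { carrier := {u | u ∈ U ∧ Q u = 0}
      add_mem' := by
        rintro u v ⟨hu, hu0⟩ ⟨hv, hv0⟩
        exact ⟨U.add_mem hu hv, by rw [hQadd u hu v hv, hu0, hv0, add_zero]⟩
      zero_mem' := ⟨U.zero_mem, by simp⟩
      smul_mem' := by
        rintro a u ⟨hu, hu0⟩
        exact ⟨U.smul_mem a hu, by rw [QuadraticMap.map_smul, hu0, smul_zero]⟩ }
  have hU₀mem : ∀ u, u ∈ U₀ ↔ (u ∈ U ∧ Q u = 0) := fun u => Iff.rfl
  have hU₀le : U₀ ≤ U := fun u hu => hu.1
  have hU₀inv : ∀ w ∈ U₀, X *ᵥ w ∈ U₀ := by
    rintro w ⟨hw, hw0⟩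
    exact ⟨hUx w hw, by rw [hiso, hw0]⟩
  rcases hirr U₀ hU₀le hU₀inv with h0 | h0
  · right
    -- every nonzero vector of U is nonsingular
    have hns : ∀ u ∈ U, Q u = 0 → u = 0 := by
      intro u hu hu0
      have : u ∈ U₀ := ⟨hu, hu0⟩
      rw [h0] at this
      simpa using this
    obtain ⟨u₀, hu₀U, hu₀ne⟩ := (Submodule.ne_bot_iff U).mp hU0
    have hQu₀ : Q u₀ ≠ 0 := fun h => hu₀ne (hns u₀ hu₀U h)
    have hp2 : p = 2 := by
      by_contra hp
      have h2 : (2 : F) ≠ 0 := by
        intro h
        have : (p : ℕ) ∣ 2 := by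
          rw [← CharP.cast_eq_zero_iff F p]; exact_mod_cast h
        have hp' : p.Prime := Fact.out
        rcases (Nat.dvd_prime Nat.prime_two).mp this with h1 | h1
        · exact hp'.one_lt.ne' h1
        · exact hp h1
      have := hBU u₀ hu₀U u₀ hu₀U
      rw [hBapp] at this
      have h4 : Q (u₀ + u₀) = 4 * Q u₀ := by
        rw [← two_smul F u₀, QuadraticMap.map_smul, smul_eq_mul]; norm_num
      rw [h4] at this
      have : (2 : F) * Q u₀ = 0 := by linear_combination this
      rcases mul_eq_zero.mp this with h | h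
      · exact h2 h
      · exact hQu₀ h
    subst hp2
    have two : (2 : F) = 0 := CharTwo.two_eq_zero
    have hneg : ∀ v : Fin n → F, -v = v := by
      intro v
      rw [← neg_one_smul F v, CharTwo.neg_eq (1 : F), one_smul]
    have hspan : ∀ u ∈ U, ∃ a : F, u = a • u₀ := by
      intro u hu
      obtain ⟨a, ha⟩ := FiniteField.isSquare_of_char_two (CharP.ringChar_of_prime_eq_zero Nat.prime_two two) (Q u / Q u₀)
      refine ⟨a, ?_⟩
      have hmem : u + a • u₀ ∈ U := U.add_mem hu (U.smul_mem a hu₀U)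
      have hz : Q (u + a • u₀) = 0 := by
        rw [hQadd u hu _ (U.smul_mem a hu₀U), QuadraticMap.map_smul, smul_eq_mul, ← ha]
        field_simp
        linear_combination (Q u) * two
      have := hns _ hmem hz
      have h3 : u = -(a • u₀) := eq_neg_of_add_eq_zero_left this
      rw [h3, hneg]
    refine ⟨rfl, ?_, ⟨u₀, hu₀U, hQu₀⟩, ?_⟩
    · have hUspan : U = Submodule.span F {u₀} := by
        apply le_antisymm
        · intro u hu
          obtain ⟨a, rfl⟩ := hspan u hu
          exact Submodule.smul_mem _ a (Submodule.mem_span_singleton_self u₀)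
        · rw [Submodule.span_singleton_le_iff_mem]; exact hu₀U
      rw [hUspan]
      exact finrank_span_singleton hu₀ne
    · intro u hu
      have hXu := hUx u hu
      have hz : Q (X *ᵥ u + u) = 0 := by
        rw [hQadd _ hXu u hu, hiso]
        linear_combination (Q u) * two
      have := hns _ (U.add_mem hXu hu) hz
      have h3 : X *ᵥ u = -u := eq_neg_of_add_eq_zero_left this
      rw [h3, hneg]
  · left
    intro u hu
    have : u ∈ U₀ := by rw [h0]; exact hu
    exact this.2

end Cfsg.Agent.S2599
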