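import Cfsg.Statements.S2604
import Cfsg.Agent.Lib.Helper25.AutOut3
import Cfsg.Agent.Lib.Helper18.PSL2AutOut
-- import your own Cfsg.Agent.* helpers here

set_option autoImplicit false
open Cfsg

namespace Cfsg.Agent.S2604

/-- Outer automorphism group of the simple orthogonal group Ω_(2m+1)(q), m ≥ 3, q = p^f odd: it is the direct product of a group of order 2 (diagonal automorphisms, from SO) and a cyclic group of order f (field automorphisms). -/
theorem result {F : Type*} [Field F] [Fintype F] {p f m : ℕ} [Fact p.Prime] (hf : 1 ≤ f) (hF : Fintype.card F = p ^ f) (hp : p ≠ 2) (hm : 3 ≤ m) : Nonempty (Cfsg.Out (Cfsg.POmega F (Cfsg.quadFormOdd m F)) ≃* Multiplicative (ZMod 2 × ZMod f)) := by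
  have hoddp : Odd p := (Fact.out : p.Prime).odd_of_ne_two hp
  have hoddF : Odd (Fintype.card F) := by rw [hF]; exact hoddp.pow
  have h2 := Cfsg.Agent.Lib.Helper25.Spin.two_ne_zero_of_odd_card hoddF
  have hn : 7 ≤ Fintype.card (Unit ⊕ (Fin m ⊕ Fin m)) := by
    simp; omega
  have hcard : Fintype.card (Unit ⊕ (Fin m ⊕ Fin m)) = 2 * m + 1 := by
    simp; omega
  haveI : CharP F p := charP_of_card_eq_prime_pow hF
  have hstd : ∀ σ : F ≃+* F,
      Cfsg.IsSemisimilarityPair (Cfsg.quadFormOdd m F)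
        (1 : Matrix.GeneralLinearGroup (Unit ⊕ (Fin m ⊕ Fin m)) F) σ := by
    intro σ
    refine ⟨1, fun v => ?_⟩
    rw [Units.val_one, Matrix.one_mulVec, Units.val_one, one_mul]
    unfold Cfsg.quadFormOdd
    rw [map_add, map_pow, map_sum]
    congr 1
    apply Finset.sum_congr rfl
    intro i _
    rw [map_mul]
  have hQ := Cfsg.Agent.Lib.Helper25.Spin.qfOf_nondeg
    (Cfsg.Agent.Lib.Helper14.isQF_odd (F := F) (m := m) h2)
  have hAll := Cfsg.Agent.Lib.Helper25.AutOut.hAll_of_noD4 _ hQ hn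
      (Cfsg.Agent.Lib.Helper25.AutO.noD4_odd hm h2)
  obtain ⟨u₀, hu₀⟩ := Cfsg.Agent.Lib.Helper25.Spin.exists_rep
    (Cfsg.Agent.Lib.Helper25.Spin.qfOf (Cfsg.Agent.Lib.Helper14.isQF_odd (F := F) (m := m) h2)) hQ
    (by rw [Module.finrank_fintype_fun_eq_card]; omega) 1
  have hidx := Cfsg.Agent.Lib.Helper25.AutOut.relIndex_inn_pso_odd
    (Cfsg.Agent.Lib.Helper25.Spin.qfOf (Cfsg.Agent.Lib.Helper14.isQF_odd (F := F) (m := m) h2))
    h2 hQ hn ⟨m, hcard⟩
  rw [← Cfsg.Agent.Lib.Helper25.AutOut.pgoAut_eq_psoAut_odd _ hQ hcard u₀ hu₀] at hidx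
  exact Cfsg.Agent.Lib.Helper25.AutOut.out_of_relIndex_two
    (Cfsg.Agent.Lib.Helper25.Spin.qfOf (Cfsg.Agent.Lib.Helper14.isQF_odd (F := F) (m := m) h2))
    hQ hn hAll hstd (Cfsg.Agent.Lib.Helper18.PSL2Aut.ringAut_cyclic p)
    (Cfsg.Agent.Lib.Helper18.PSL2Aut.ringAut_card p hF) hidx

end Cfsg.Agent.S2604
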