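import Cfsg.Statements.S2606
import Cfsg.Agent.Lib.Helper25.AutOut12
-- import your own Cfsg.Agent.* helpers here

set_option autoImplicit false
open Cfsg

namespace Cfsg.Agent.S2606

/-- Outer automorphism group of PΩ⁻_2m(q), m ≥ 4, q = p^f odd: it is dihedral of order 8 times cyclic of order f when q ≡ 3 (mod 4) and m is odd, and otherwise the direct product of a group of order 2 with a cyclic group of order 2f. -/
theorem result {F : Type*} [Field F] [Fintype F] {p f m : ℕ} [Fact p.Prime] (hf : 1 ≤ f) (hF : Fintype.card F = p ^ f) (hp : p ≠ 2) (hm : 4 ≤ m) (a b : F) (hab : ∀ z₁ z₂ : F, z₁ ^ 2 + a * z₁ * z₂ + b * z₂ ^ 2 = 0 → z₁ = 0 ∧ z₂ = 0) : if p ^ f % 4 = 3 ∧ Odd m then Nonempty (Cfsg.Out (Cfsg.POmega F (Cfsg.quadFormMinus (m - 1) F a b)) ≃* DihedralGroup 4 × Multiplicative (ZMod f)) else Nonempty (Cfsg.Out (Cfsg.POmega F (Cfsg.quadFormMinus (m - 1) F a b)) ≃* Multiplicative (ZMod 2 × ZMod (2 * f))) := by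
  haveI : CharP F p := charP_of_card_eq_prime_pow hF
  have hoddp : Odd p := (Fact.out : p.Prime).odd_of_ne_two hp
  have hoddF : Odd (Fintype.card F) := by rw [hF]; exact hoddp.pow
  have hk : 3 ≤ m - 1 := by omega
  obtain ⟨k1, k2⟩ := Cfsg.Agent.Lib.Helper25.AutOut.out_minus_odd (F := F) p hoddF hab hk hf hF
  have e : m - 1 + 1 = m := by omega
  rw [e, hF] at k1 k2
  have hq : Odd (p ^ f) := hoddp.pow
  have hiff : (p ^ f % 4 = 3 ∧ Odd m) ↔ ¬ Even (m * (p ^ f - 1) / 2) := by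
    rw [← Cfsg.Agent.Lib.Helper25.AutOut.pow_mod_four_iff hq m,
      Cfsg.Agent.Lib.Helper25.AutOut.pow_mod_four_eq_three_iff hq m]
  by_cases hc : p ^ f % 4 = 3 ∧ Odd m
  · rw [if_pos hc]
    exact k2 (hiff.1 hc)
  · rw [if_neg hc]
    apply k1
    by_contra hne
    exact hc (hiff.2 hne)

end Cfsg.Agent.S2606
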