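import Cfsg.Statements.S2607
import Cfsg.Agent.Lib.Helper25.Tri7
import Cfsg.Agent.Lib.Helper18.PSL2AutOut
-- import your own Cfsg.Agent.* helpers here

set_option autoImplicit false
open Cfsg

namespace Cfsg.Agent.S2607

/-- Outer automorphism group of PΩ⁺_2m(q), q = 2^f: for m ≥ 5 it is the direct product of a group of order 2 (graph automorphism, an orthogonal transvection) and a cyclic group of order f (field automorphisms); for m = 4 triality enlarges it to S_3 × C_f. -/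
theorem result {F : Type*} [Field F] [Fintype F] {f m : ℕ} (hf : 1 ≤ f) (hF : Fintype.card F = 2 ^ f) (hm : 4 ≤ m) : if m = 4 then Nonempty (Cfsg.Out (Cfsg.POmega F (Cfsg.quadFormPlus m F)) ≃* Equiv.Perm (Fin 3) × Multiplicative (ZMod f)) else Nonempty (Cfsg.Out (Cfsg.POmega F (Cfsg.quadFormPlus m F)) ≃* Multiplicative (ZMod 2 × ZMod f)) := by
  haveI : CharP F 2 := charP_of_card_eq_prime_pow hF
  have hcyc : IsCyclic (RingAut F) := Cfsg.Agent.Lib.Helper18.PSL2Aut.ringAut_cyclic 2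
  have hcardR : Nat.card (RingAut F) = f := Cfsg.Agent.Lib.Helper18.PSL2Aut.ringAut_card 2 hF
  by_cases h4 : m = 4
  · subst h4
    rw [if_pos rfl]
    have hcardA := Cfsg.Agent.Lib.Helper25.Tri.card_aut_plus4 (F := F) 2 f hF
    rw [if_pos rfl] at hcardA
    have hf0 : f ≠ 0 := by omega
    haveI : Finite (MulAut (Cfsg.POmega F ⇑(Cfsg.Agent.Lib.Helper25.Spin.Qp 4 F))) := by
      apply Nat.finite_of_card_ne_zero
      rw [hcardA]
      have : Nat.card (Cfsg.POmega F ⇑(Cfsg.Agent.Lib.Helper25.Spin.Qp 4 F)) ≠ 0 :=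
        Nat.card_pos.ne'
      positivity
    haveI : Finite (RingAut F) := Nat.finite_of_card_ne_zero (by rw [hcardR]; exact hf0)
    have hidx : Nat.card (MulAut (Cfsg.POmega F ⇑(Cfsg.Agent.Lib.Helper25.Spin.Qp 4 F)) ⧸
        Cfsg.gammaPOmega F ⇑(Cfsg.Agent.Lib.Helper25.Spin.Qp 4 F)) = 3 :=
      Cfsg.Agent.Lib.Helper25.Tri.index_gamma4 (F := F) 2
    have hcard : Nat.card (MulAut (Cfsg.POmega F ⇑(Cfsg.Agent.Lib.Helper25.Spin.Qp 4 F))) =
        Nat.card (Cfsg.Inn (Cfsg.POmega F ⇑(Cfsg.Agent.Lib.Helper25.Spin.Qp 4 F))) *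
          Nat.card (Equiv.Perm (MulAut (Cfsg.POmega F ⇑(Cfsg.Agent.Lib.Helper25.Spin.Qp 4 F)) ⧸
            Cfsg.gammaPOmega F ⇑(Cfsg.Agent.Lib.Helper25.Spin.Qp 4 F)) × RingAut F) := by
      rw [Nat.card_prod, Nat.card_perm, hidx, hcardR, hcardA,
        Cfsg.Agent.Lib.Helper25.AutOut.card_inn _ Cfsg.Agent.Lib.Helper25.Tri.hQ4
          Cfsg.Agent.Lib.Helper25.Tri.hn4]
      have : Nat.factorial 3 = 6 := rfl
      rw [this]
      ring
    obtain ⟨e⟩ := Cfsg.Agent.Lib.Helper25.Tri.quot_equiv_of_ker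
      (Cfsg.Inn (Cfsg.POmega F ⇑(Cfsg.Agent.Lib.Helper25.Spin.Qp 4 F)))
      (Cfsg.Agent.Lib.Helper25.Tri.ThetaA (F := F) 2)
      Cfsg.Agent.Lib.Helper25.Tri.ker_ThetaA_two hcard
    subst hcardR
    exact ⟨e.trans (MulEquiv.prodCongr (Finite.equivFinOfCardEq hidx).permCongrHom
      (zmodCyclicMulEquiv hcyc).symm)⟩
  · rw [if_neg h4]
    have hm5 : 5 ≤ m := by omega
    have hn : 7 ≤ Fintype.card (Fin m ⊕ Fin m) := by
      rw [Cfsg.Agent.Lib.Helper25.AutPlus.card_idx_plus]; omega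
    have hQ : (QuadraticMap.polarBilin (Cfsg.Agent.Lib.Helper25.Spin.Qp m F)).Nondegenerate :=
      Cfsg.Agent.Lib.Helper25.Spin.qfOf_nondeg _
    have hAll := Cfsg.Agent.Lib.Helper25.AutOut.hAll_of_noD4 _ hQ hn
      (Cfsg.Agent.Lib.Helper25.AutO.noD4_plus hm5)
    have hstd : ∀ σ : F ≃+* F,
        Cfsg.IsSemisimilarityPair (⇑(Cfsg.Agent.Lib.Helper25.Spin.Qp m F))
          (1 : Matrix.GeneralLinearGroup (Fin m ⊕ Fin m) F) σ := fun σ =>
      Cfsg.Agent.Lib.Helper18.OrthFld.pair_one _ (Cfsg.Agent.Lib.Helper25.GFld.qfix_plus m σ)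
    have hidx := Cfsg.Agent.Lib.Helper25.AutPlus.relIndex_plus (F := F) (m := m) 2 f hF hm
    rw [if_pos rfl] at hidx
    exact Cfsg.Agent.Lib.Helper25.AutOut.out_of_relIndex_two
      (Cfsg.Agent.Lib.Helper25.Spin.Qp m F) hQ hn hAll hstd hcyc hcardR hidx

end Cfsg.Agent.S2607
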