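import Cfsg.Statements.S2614
import Cfsg.Agent.Lib.Helper25.SpinForms
-- import your own Cfsg.Agent.* helpers here

set_option autoImplicit false
open Cfsg

namespace Cfsg.Agent.S2614

/-- For the form x_0² + Σ x_j y_j on F^(2m+1), F finite with q elements, q odd, and 1 ≤ i ≤ m: the involution of determinant one negating the first i hyperbolic pairs (and fixing x_0 and the other pairs) lies in Ω_(2m+1)(q) (commutator subgroup of the orthogonal group) if and only if q^i ≡ 1 (mod 4); its (−1)-eigenspace is a hyperbolic 2i-space. -/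
theorem result {F : Type*} [Field F] [Fintype F] {q : ℕ} (hF : Fintype.card F = q) (hq : Odd q) {m : ℕ} (i : ℕ) (hi : 1 ≤ i) (him : i ≤ m) : (∃ g : ↥(Cfsg.isometryGroup F (Cfsg.quadFormOdd m F)), g ∈ Cfsg.Omega F (Cfsg.quadFormOdd m F) ∧ ((g : Matrix.GeneralLinearGroup (Unit ⊕ (Fin m ⊕ Fin m)) F) : Matrix (Unit ⊕ (Fin m ⊕ Fin m)) (Unit ⊕ (Fin m ⊕ Fin m)) F) = Matrix.diagonal (fun k : Unit ⊕ (Fin m ⊕ Fin m) => if (Sum.elim (fun _ : Unit => i) (Sum.elim (fun j : Fin m => (j : ℕ)) (fun j : Fin m => (j : ℕ))) k) < i then (-1 : F) else 1)) ↔ q ^ i % 4 = 1 := by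
  have hoddF : Odd (Fintype.card F) := by rw [hF]; exact hq
  have h2 := Cfsg.Agent.Lib.Helper25.Spin.two_ne_zero_of_odd_card hoddF
  have hT : (Finset.univ.filter (fun j : Fin m => (j : ℕ) < i)).card = i := by
    rw [Fin.card_filter_val_lt]
    exact min_eq_right him
  have key := Cfsg.Agent.Lib.Helper25.Spin.std_hyp_mem_omega_iff
    (Cfsg.Agent.Lib.Helper25.Spin.qfOf (Cfsg.Agent.Lib.Helper14.isQF_odd (F := F) (m := m) h2)) h2
    (Cfsg.Agent.Lib.Helper25.Spin.qfOf_nondeg _) (K := Fin m)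
    (fun j => Sum.inr (Sum.inl j)) (fun j => Sum.inr (Sum.inr j))
    (fun j j' h => Sum.inl_injective (Sum.inr_injective h))
    (fun j j' h => Sum.inr_injective (Sum.inr_injective h))
    (fun j j' h => Sum.inl_ne_inr (Sum.inr_injective h)) ?_ ?_
    (Finset.univ.filter (fun j : Fin m => (j : ℕ) < i))
    (fun k : Unit ⊕ (Fin m ⊕ Fin m) => if (Sum.elim (fun _ : Unit => i) (Sum.elim (fun j : Fin m => (j : ℕ)) (fun j : Fin m => (j : ℕ))) k) < i then (-1 : F) else 1) ?_
  · rw [hT, Cfsg.Agent.Lib.Helper25.Spin.isSquare_neg_one_pow_iff hF hq] at key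
    exact key
  · intro j x
    rw [Cfsg.Agent.Lib.Helper25.Spin.polar_qfOf]
    unfold Cfsg.Agent.Lib.Helper14.oddPolar
    simp [Pi.single_apply]
  · intro j x
    rw [Cfsg.Agent.Lib.Helper25.Spin.polar_qfOf]
    unfold Cfsg.Agent.Lib.Helper14.oddPolar
    simp [Pi.single_apply]
  · intro c
    rcases c with c | c | c
    · simp
    · by_cases h : (c : ℕ) < i <;> simp [h]
    · by_cases h : (c : ℕ) < i <;> simp [h]

end Cfsg.Agent.S2614
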