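import Cfsg.Statements.S2619
-- import your own Cfsg.Agent.* helpers here

set_option autoImplicit false
open Cfsg

namespace Cfsg.Agent.S2619

/-- Over a finite field of characteristic two, given an alternating bilinear form B on a finite-dimensional space, a basis (v_i) and scalars (λ_i), there is exactly one quadratic form whose polar form is B and whose value at each v_i is λ_i. -/
theorem result {F V ι : Type*} [Field F] [Finite F] [CharP F 2] [AddCommGroup V] [Module F V] [Fintype ι] (b : Module.Basis ι F V) (B : LinearMap.BilinForm F V) (hB : B.IsAlt) (c : ι → F) : ∃! Q : QuadraticForm F V, QuadraticMap.polarBilin Q = B ∧ ∀ i, Q (b i) = c i := by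
  classical
  set e := Fintype.equivFin ι with he
  set M : Matrix ι ι F := fun i j => if e i < e j then B (b i) (b j) else if i = j then c i else 0 with hM
  set A : LinearMap.BilinForm F V := Matrix.toBilin b M with hAdef
  have hA : ∀ i j, A (b i) (b j) = M i j := by
    intro i j
    rw [← LinearMap.BilinForm.toMatrix_apply b A i j, hAdef, LinearMap.BilinForm.toMatrix_toBilin]
  have two : (2 : F) = 0 := CharTwo.two_eq_zero
  have hBself : ∀ x, B x x = 0 := fun x => hB x
  have hBsymm : ∀ x y, B y x = B x y := by
    intro x y
    rw [← LinearMap.IsAlt.neg hB x y, CharTwo.neg_eq]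
  refine ⟨A.toQuadraticMap, ⟨?_, ?_⟩, ?_⟩
  · rw [LinearMap.BilinMap.polarBilin_toQuadraticMap]
    apply LinearMap.BilinForm.ext_basis b
    intro i j
    rw [LinearMap.add_apply, LinearMap.add_apply, LinearMap.flip_apply, hA, hA]
    simp only [hM]
    rcases lt_trichotomy (e i) (e j) with h | h | h
    · have hne : j ≠ i := by rintro rfl; exact lt_irrefl _ h
      simp [h, not_lt_of_gt h, hne]
    · have hij : i = j := e.injective h
      subst hij
      simp only [lt_irrefl, if_false, if_true]
      rw [hBself]
      linear_combination (c i) * two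
    · have hne : i ≠ j := by rintro rfl; exact lt_irrefl _ h
      simp [h, not_lt_of_gt h, hne, hBsymm]
  · intro i
    rw [LinearMap.BilinMap.toQuadraticMap_apply, hA]
    simp [hM]
  · rintro Q' ⟨hQ'B, hQ'c⟩
    -- D = Q' - A.toQuadraticMap is additive, vanishes on the basis
    set Q₀ : QuadraticForm F V := A.toQuadraticMap with hQ₀
    have hQ₀B : QuadraticMap.polarBilin Q₀ = B := by
      rw [hQ₀, LinearMap.BilinMap.polarBilin_toQuadraticMap]
      apply LinearMap.BilinForm.ext_basis b
      intro i j
      rw [LinearMap.add_apply, LinearMap.add_apply, LinearMap.flip_apply, hA, hA]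
      simp only [hM]
      rcases lt_trichotomy (e i) (e j) with h | h | h
      · have hne : j ≠ i := by rintro rfl; exact lt_irrefl _ h
        simp [h, not_lt_of_gt h, hne]
      · have hij : i = j := e.injective h
        subst hij
        simp only [lt_irrefl, if_false, if_true]
        rw [hBself]
        linear_combination (c i) * two
      · have hne : i ≠ j := by rintro rfl; exact lt_irrefl _ h
        simp [h, not_lt_of_gt h, hne, hBsymm]
    have hQ₀c : ∀ i, Q₀ (b i) = c i := by
      intro i
      rw [hQ₀, LinearMap.BilinMap.toQuadraticMap_apply, hA]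
      simp [hM]
    have hadd : ∀ x y, Q' (x + y) - Q₀ (x + y) = (Q' x - Q₀ x) + (Q' y - Q₀ y) := by
      intro x y
      have h1 : QuadraticMap.polar Q' x y = B x y := by
        rw [← QuadraticMap.polarBilin_apply_apply, hQ'B]
      have h2 : QuadraticMap.polar Q₀ x y = B x y := by
        rw [← QuadraticMap.polarBilin_apply_apply, hQ₀B]
      simp only [QuadraticMap.polar] at h1 h2
      linear_combination h1 - h2
    let D : V →+ F := AddMonoidHom.mk' (fun x => Q' x - Q₀ x) hadd
    have hD : ∀ x, D x = 0 := by
      intro x
      rw [← b.sum_repr x, map_sum]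
      apply Finset.sum_eq_zero
      intro i _
      show Q' (b.repr x i • b i) - Q₀ (b.repr x i • b i) = 0
      rw [QuadraticMap.map_smul, QuadraticMap.map_smul, hQ'c, hQ₀c, sub_self]
    apply QuadraticMap.ext
    intro x
    have := hD x
    exact sub_eq_zero.mp this

end Cfsg.Agent.S2619
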