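import Cfsg.Statements.S2620
-- import your own Cfsg.Agent.* helpers here
import Cfsg.Agent.Lib.Helper15.Gram

set_option autoImplicit false
open Cfsg

namespace Cfsg.Agent.S2620

open Matrix Module

theorem polar_plus {F : Type*} [Field F] (m : ℕ) (u v : Fin m ⊕ Fin m → F) :
    QuadraticMap.polar (Cfsg.quadFormPlus m F) u v =
      u ⬝ᵥ (Matrix.fromBlocks (0 : Matrix (Fin m) (Fin m) F) 1 1 0) *ᵥ v := by
  rw [Matrix.fromBlocks_mulVec]
  simp only [QuadraticMap.polar, Cfsg.quadFormPlus, dotProduct, Fintype.sum_sum_type, Pi.add_apply,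
    Matrix.zero_mulVec, Matrix.one_mulVec, zero_add, add_zero, Sum.elim_inl, Sum.elim_inr, Function.comp]
  rw [← Finset.sum_sub_distrib, ← Finset.sum_sub_distrib, ← Finset.sum_add_distrib]
  refine Finset.sum_congr rfl fun i _ => ?_
  ring

theorem det_swap_blocks {F : Type*} [Field F] (m : ℕ) :
    (Matrix.fromBlocks (0 : Matrix (Fin m) (Fin m) F) (1 : Matrix (Fin m) (Fin m) F) (1 : Matrix (Fin m) (Fin m) F) (0 : Matrix (Fin m) (Fin m) F)).det = (-1) ^ m := by
  have h1 : (Matrix.fromBlocks (1 : Matrix (Fin m) (Fin m) F) (0 : Matrix (Fin m) (Fin m) F) (1 : Matrix (Fin m) (Fin m) F) (1 : Matrix (Fin m) (Fin m) F)) * (Matrix.fromBlocks (0 : Matrix (Fin m) (Fin m) F) (1 : Matrix (Fin m) (Fin m) F) (1 : Matrix (Fin m) (Fin m) F) (0 : Matrix (Fin m) (Fin m) F))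
      = Matrix.fromBlocks (0 : Matrix (Fin m) (Fin m) F) (1 : Matrix (Fin m) (Fin m) F) (1 : Matrix (Fin m) (Fin m) F) (1 : Matrix (Fin m) (Fin m) F) := by
    rw [Matrix.fromBlocks_multiply]
    simp
  have h2 := congrArg Matrix.det h1
  rw [Matrix.det_mul, Matrix.det_fromBlocks_zero₁₂, Matrix.det_one, one_mul, one_mul,
    Matrix.det_fromBlocks_one₂₂] at h2
  rw [h2]
  simp [Matrix.det_neg]

/-- Discriminant of the hyperbolic quadratic form Σ_(i<m) x_i y_i over a field with q elements, q odd, m ≥ 1: the determinant of the Gram matrix of its polar form in any basis is a square if and only if m(q − 1)/2 is even (equivalently q^m ≡ 1 (mod 4)). -/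
theorem result {F : Type*} [Field F] [Fintype F] {q : ℕ} (hF : Fintype.card F = q) (hq : Odd q) {m : ℕ} (hm : 1 ≤ m) {ι : Type*} [Fintype ι] [DecidableEq ι] (b : Module.Basis ι F (Fin m ⊕ Fin m → F)) : IsSquare (Matrix.of (fun i j : ι => QuadraticMap.polar (Cfsg.quadFormPlus m F) (b i) (b j))).det ↔ Even (m * (q - 1) / 2) := by
  classical
  obtain ⟨d, hd0, hdet⟩ := Cfsg.Agent.Lib.Helper15.gram_det
    (fun u v => QuadraticMap.polar (Cfsg.quadFormPlus m F) u v)
    (Matrix.fromBlocks (0 : Matrix (Fin m) (Fin m) F) 1 1 0) (polar_plus m) b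
  rw [hdet, Cfsg.Agent.Lib.Helper15.isSquare_mul_sq_iff d _ hd0, det_swap_blocks,
    Cfsg.Agent.Lib.Helper15.isSquare_neg_one_pow_iff hF hq]

end Cfsg.Agent.S2620
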