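import Cfsg.Statements.S2621
-- import your own Cfsg.Agent.* helpers here
import Cfsg.Agent.Lib.Helper15.Gram
import Cfsg.Agent.S2620

set_option autoImplicit false
open Cfsg

namespace Cfsg.Agent.S2621

open Matrix Module

theorem polar_minus {F : Type*} [Field F] (k : ℕ) (a c : F) (u v : (Fin k ⊕ Fin k) ⊕ Fin 2 → F) :
    QuadraticMap.polar (Cfsg.quadFormMinus k F a c) u v =
      u ⬝ᵥ (Matrix.fromBlocks (Matrix.fromBlocks (0 : Matrix (Fin k) (Fin k) F) (1 : Matrix (Fin k) (Fin k) F)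
          (1 : Matrix (Fin k) (Fin k) F) (0 : Matrix (Fin k) (Fin k) F))
        (0 : Matrix (Fin k ⊕ Fin k) (Fin 2) F) (0 : Matrix (Fin 2) (Fin k ⊕ Fin k) F) !![2, a; a, 2 * c]) *ᵥ v := by
  rw [Matrix.fromBlocks_mulVec, Matrix.fromBlocks_mulVec]
  simp only [QuadraticMap.polar, Cfsg.quadFormMinus, dotProduct, Fintype.sum_sum_type, Pi.add_apply,
    Matrix.zero_mulVec, Matrix.one_mulVec, zero_add, add_zero, Sum.elim_inl, Sum.elim_inr, Function.comp,
    Fin.sum_univ_two, Matrix.mulVec, Matrix.of_apply, Matrix.cons_val', Matrix.cons_val_zero, Matrix.cons_val_one,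
    Matrix.empty_val', Matrix.cons_val_fin_one, Fin.isValue]
  have e1 : ∑ x : Fin k, (u (Sum.inl (Sum.inl x)) + v (Sum.inl (Sum.inl x))) * (u (Sum.inl (Sum.inr x)) + v (Sum.inl (Sum.inr x)))
      = ∑ x : Fin k, u (Sum.inl (Sum.inl x)) * u (Sum.inl (Sum.inr x)) + ∑ x : Fin k, v (Sum.inl (Sum.inl x)) * v (Sum.inl (Sum.inr x))
        + (∑ x : Fin k, u (Sum.inl (Sum.inl x)) * v (Sum.inl (Sum.inr x)) + ∑ x : Fin k, u (Sum.inl (Sum.inr x)) * v (Sum.inl (Sum.inl x))) := by
    rw [← Finset.sum_add_distrib, ← Finset.sum_add_distrib, ← Finset.sum_add_distrib]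
    refine Finset.sum_congr rfl fun i _ => ?_
    ring
  rw [e1]
  ring

theorem disc_nonsquare {F : Type*} [Field F] (h2 : (2 : F) ≠ 0) (a c : F)
    (hac : ∀ z₁ z₂ : F, z₁ ^ 2 + a * z₁ * z₂ + c * z₂ ^ 2 = 0 → z₁ = 0 ∧ z₂ = 0) : ¬ IsSquare (a ^ 2 - 4 * c) := by
  rintro ⟨r, hr⟩
  have := hac ((r - a) / 2) 1 (by
    field_simp
    linear_combination (-1 : F) * hr)
  exact one_ne_zero this.2

theorem isSquare_mul_nonsquare {F : Type*} [Field F] [Fintype F] (hodd : Odd (Fintype.card F)) (x y : F)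
    (hx : ¬ IsSquare x) (hy : y ≠ 0) : IsSquare (y * x) ↔ ¬ IsSquare y := by
  have hchar : ringChar F ≠ 2 := by
    intro h
    rw [FiniteField.even_card_iff_char_two] at h
    rw [Nat.odd_iff] at hodd
    omega
  have hx0 : x ≠ 0 := by
    rintro rfl
    exact hx ⟨0, by simp⟩
  have h1ne : (1 : F) ≠ -1 := by
    intro h
    have : (2 : F) = 0 := by linear_combination h
    exact (Ring.two_ne_zero hchar) this
  rw [FiniteField.isSquare_iff hchar (mul_ne_zero hy hx0), FiniteField.isSquare_iff hchar hy, mul_pow]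
  rw [FiniteField.isSquare_iff hchar hx0] at hx
  have hxm : x ^ (Fintype.card F / 2) = -1 := (FiniteField.pow_dichotomy hchar hx0).resolve_left hx
  rw [hxm]
  rcases FiniteField.pow_dichotomy hchar hy with h | h
  · rw [h]; simp [h1ne.symm]
  · rw [h]; simp [h1ne.symm]

/-- Discriminant of an elliptic quadratic form Σ_(i<m−1) x_i y_i + z₁² + a z₁z₂ + c z₂² (binary part anisotropic) in dimension 2m over a field with q elements, q odd, m ≥ 1: the determinant of the Gram matrix of its polar form in any basis is a square if and only if m(q − 1)/2 is odd (equivalently q^m ≡ 3 (mod 4)). -/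
theorem result {F : Type*} [Field F] [Fintype F] {q : ℕ} (hF : Fintype.card F = q) (hq : Odd q) {m : ℕ} (hm : 1 ≤ m) (a c : F) (hac : ∀ z₁ z₂ : F, z₁ ^ 2 + a * z₁ * z₂ + c * z₂ ^ 2 = 0 → z₁ = 0 ∧ z₂ = 0) {ι : Type*} [Fintype ι] [DecidableEq ι] (b : Module.Basis ι F ((Fin (m - 1) ⊕ Fin (m - 1)) ⊕ Fin 2 → F)) : IsSquare (Matrix.of (fun i j : ι => QuadraticMap.polar (Cfsg.quadFormMinus (m - 1) F a c) (b i) (b j))).det ↔ ¬ Even (m * (q - 1) / 2) := by
  classical
  obtain ⟨d, hd0, hdet⟩ := Cfsg.Agent.Lib.Helper15.gram_det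
    (fun u v => QuadraticMap.polar (Cfsg.quadFormMinus (m - 1) F a c) u v) _ (polar_minus (m - 1) a c) b
  have hodd : Odd (Fintype.card F) := hF ▸ hq
  have h2 : (2 : F) ≠ 0 := by
    have hchar : ringChar F ≠ 2 := by
      intro h
      rw [FiniteField.even_card_iff_char_two] at h
      rw [Nat.odd_iff] at hodd
      omega
    exact Ring.two_ne_zero hchar
  rw [hdet, Cfsg.Agent.Lib.Helper15.isSquare_mul_sq_iff d _ hd0, Matrix.det_fromBlocks_zero₁₂,
    Cfsg.Agent.S2620.det_swap_blocks, Matrix.det_fin_two_of]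
  have hm' : m = (m - 1) + 1 := by omega
  have e : (-1 : F) ^ (m - 1) * (2 * (2 * c) - a * a) = (-1) ^ m * (a ^ 2 - 4 * c) := by
    conv_rhs => rw [hm', pow_succ]
    ring
  rw [e, isSquare_mul_nonsquare hodd _ _ (disc_nonsquare h2 a c hac) (by simp),
    Cfsg.Agent.Lib.Helper15.isSquare_neg_one_pow_iff hF hq]

end Cfsg.Agent.S2621
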