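import Cfsg.Statements.S2622
-- import your own Cfsg.Agent.* helpers here
import Cfsg.Agent.Lib.Helper15.OrthoChar2

set_option autoImplicit false
open Cfsg

namespace Cfsg.Agent.S2622

/-- Over a finite field of characteristic two, a non-degenerate symmetric bilinear form that is not alternating (some vector v has B(v, v) ≠ 0) admits an orthonormal basis. -/
theorem result {F V : Type*} [Field F] [Finite F] [CharP F 2] [AddCommGroup V] [Module F V] [FiniteDimensional F V] {n : ℕ} (hV : Module.finrank F V = n) (B : LinearMap.BilinForm F V) (hS : B.IsSymm) (hB : B.Nondegenerate) (hna : ∃ v : V, B v v ≠ 0) : ∃ b : Module.Basis (Fin n) F V, ∀ i j, B (b i) (b j) = if i = j then 1 else 0 := by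
  classical
  cases n with
  | zero =>
    exfalso
    obtain ⟨v, hv⟩ := hna
    have : Subsingleton V := Module.finrank_zero_iff.mp hV
    apply hv
    rw [Subsingleton.elim v 0]
    simp
  | succ k =>
    obtain ⟨b, -, hb⟩ := Lib.Helper15.orthonormal_family B hS k ⊤ (Lib.Helper15.ndB_top B hB)
      (by rw [finrank_top, hV]) (by obtain ⟨v, hv⟩ := hna; exact ⟨v, Submodule.mem_top, hv⟩)
    have hli := Lib.Helper15.orthonormal_linearIndependent B b hb
    have hcard : Fintype.card (Fin (k + 1)) = Module.finrank F V := by
      rw [hV, Fintype.card_fin]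
    refine ⟨basisOfLinearIndependentOfCardEqFinrank' _ hli hcard, ?_⟩
    rw [coe_basisOfLinearIndependentOfCardEqFinrank']
    exact hb

end Cfsg.Agent.S2622
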