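import Cfsg.Statements.S2626
-- import your own Cfsg.Agent.* helpers here

set_option autoImplicit false
open Cfsg

namespace Cfsg.Agent.S2626

open Matrix

theorem comp_inl {F : Type*} [Field F] {k l : ℕ} (A : Matrix (Fin k) (Fin k) F) (B : Matrix (Fin l) (Fin l) F)
    (v : Fin k ⊕ Fin l → F) : (Matrix.fromBlocks A 0 0 B *ᵥ v) ∘ Sum.inl = A *ᵥ (v ∘ Sum.inl) := by
  rw [Matrix.fromBlocks_mulVec]
  simp

theorem comp_inr {F : Type*} [Field F] {k l : ℕ} (A : Matrix (Fin k) (Fin k) F) (B : Matrix (Fin l) (Fin l) F)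
    (v : Fin k ⊕ Fin l → F) : (Matrix.fromBlocks A 0 0 B *ᵥ v) ∘ Sum.inr = B *ᵥ (v ∘ Sum.inr) := by
  rw [Matrix.fromBlocks_mulVec]
  simp

noncomputable def blockGL {F : Type*} [Field F] (k l : ℕ) :
    GL (Fin k) F × GL (Fin l) F →* GL (Fin k ⊕ Fin l) F where
  toFun p := ⟨Matrix.fromBlocks (p.1 : Matrix (Fin k) (Fin k) F) 0 0 (p.2 : Matrix (Fin l) (Fin l) F),
    Matrix.fromBlocks ((p.1⁻¹ : GL (Fin k) F) : Matrix (Fin k) (Fin k) F) 0 0 ((p.2⁻¹ : GL (Fin l) F) : Matrix (Fin l) (Fin l) F),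
    by rw [Matrix.fromBlocks_multiply]; simp [Matrix.fromBlocks_one],
    by rw [Matrix.fromBlocks_multiply]; simp [Matrix.fromBlocks_one]⟩
  map_one' := by
    apply Units.ext
    simp [Matrix.fromBlocks_one]
  map_mul' p q := by
    apply Units.ext
    simp [Matrix.fromBlocks_multiply]

theorem blockGL_coe {F : Type*} [Field F] (k l : ℕ) (p : GL (Fin k) F × GL (Fin l) F) :
    ((blockGL k l p : GL (Fin k ⊕ Fin l) F) : Matrix (Fin k ⊕ Fin l) (Fin k ⊕ Fin l) F) =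
      Matrix.fromBlocks (p.1 : Matrix (Fin k) (Fin k) F) 0 0 (p.2 : Matrix (Fin l) (Fin l) F) := rfl

noncomputable def blockIso {F : Type*} [Field F] {k l : ℕ} (Q₁ : (Fin k → F) → F) (Q₂ : (Fin l → F) → F) :
    ↥(Cfsg.isometryGroup F Q₁) × ↥(Cfsg.isometryGroup F Q₂) →*
      ↥(Cfsg.isometryGroup F (fun v : Fin k ⊕ Fin l → F => Q₁ (v ∘ Sum.inl) + Q₂ (v ∘ Sum.inr))) where
  toFun p := ⟨blockGL k l (p.1.1, p.2.1), by
    intro u v
    show Q₁ ((Matrix.fromBlocks _ 0 0 _ *ᵥ u) ∘ Sum.inl) + Q₂ ((Matrix.fromBlocks _ 0 0 _ *ᵥ u) ∘ Sum.inr) = _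
    rw [comp_inl, comp_inr]
    have h1 := p.1.2 (u ∘ Sum.inl) (u ∘ Sum.inl)
    have h2 := p.2.2 (u ∘ Sum.inr) (u ∘ Sum.inr)
    simp only [Units.coeHom_apply] at h1 h2
    rw [h1, h2]⟩
  map_one' := by
    apply Subtype.ext
    show blockGL k l ((1 : GL (Fin k) F), (1 : GL (Fin l) F)) = 1
    exact map_one (blockGL k l)
  map_mul' p q := by
    apply Subtype.ext
    show blockGL k l ((p.1.1 * q.1.1 : GL (Fin k) F), (p.2.1 * q.2.1 : GL (Fin l) F)) = blockGL k l (p.1.1, p.2.1) * blockGL k l (q.1.1, q.2.1)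
    rw [← map_mul]
    rfl

/-- Ω of an orthogonal direct sum contains the product of the Ω's: for quadratic forms Q₁ on F^k and Q₂ on F^l with non-degenerate polar forms (F finite) and Q = Q₁ ⊕ Q₂ on F^(k+l), if g₁ lies in Ω(Q₁) and g₂ in Ω(Q₂) (commutator subgroups of the orthogonal groups) then the block-diagonal isometry diag(g₁, g₂) lies in Ω(Q). -/
theorem result {F : Type*} [Field F] [Fintype F] {k l : ℕ} (Q₁ : QuadraticForm F (Fin k → F)) (Q₂ : QuadraticForm F (Fin l → F)) (h₁ : (QuadraticMap.polarBilin Q₁).Nondegenerate) (h₂ : (QuadraticMap.polarBilin Q₂).Nondegenerate) (g₁ : ↥(Cfsg.isometryGroup F ⇑Q₁)) (g₂ : ↥(Cfsg.isometryGroup F ⇑Q₂)) (hg₁ : g₁ ∈ Cfsg.Omega F ⇑Q₁) (hg₂ : g₂ ∈ Cfsg.Omega F ⇑Q₂) : ∃ g : ↥(Cfsg.isometryGroup F (fun v : Fin k ⊕ Fin l → F => Q₁ (v ∘ Sum.inl) + Q₂ (v ∘ Sum.inr))), g ∈ Cfsg.Omega F (fun v : Fin k ⊕ Fin l → F => Q₁ (v ∘ Sum.inl)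 + Q₂ (v ∘ Sum.inr)) ∧ ((g : Matrix.GeneralLinearGroup (Fin k ⊕ Fin l) F) : Matrix (Fin k ⊕ Fin l) (Fin k ⊕ Fin l) F) = Matrix.fromBlocks ((g₁ : Matrix.GeneralLinearGroup (Fin k) F) : Matrix (Fin k) (Fin k) F) 0 0 ((g₂ : Matrix.GeneralLinearGroup (Fin l) F) : Matrix (Fin l) (Fin l) F) := by
  refine ⟨blockIso (⇑Q₁) (⇑Q₂) (g₁, g₂), ?_, rfl⟩
  have hmem : (g₁, g₂) ∈ commutator (↥(Cfsg.isometryGroup F ⇑Q₁) × ↥(Cfsg.isometryGroup F ⇑Q₂)) := by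
    rw [commutator_def, ← Subgroup.top_prod_top, Subgroup.commutator_prod_prod]
    exact ⟨hg₁, hg₂⟩
  have h2 := Subgroup.mem_map_of_mem (blockIso (⇑Q₁) (⇑Q₂)) hmem
  rw [commutator_def, Subgroup.map_commutator] at h2
  exact Subgroup.commutator_mono le_top le_top h2

end Cfsg.Agent.S2626
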