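import Cfsg.Statements.S2629
import Cfsg.Agent.Lib.Helper25.OrthDet
-- import your own Cfsg.Agent.* helpers here

set_option autoImplicit false
open Cfsg

namespace Cfsg.Agent.S2629

/-- For the hyperbolic form Σ x_i y_i on F^(2m) over a finite field of odd order (m ≥ 1), an isometry g preserves the class of the maximal totally singular subspace U₀ = {y = 0} (that is, m − dim(U₀ ∩ gU₀) is even) if and only if det g = 1: the stabiliser of each of the two classes of maximal totally singular subspaces is SO. -/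
theorem result {F : Type*} [Field F] [Fintype F] (h2 : (2 : F) ≠ 0) {m : ℕ} (hm : 1 ≤ m) (g : ↥(Cfsg.isometryGroup F (Cfsg.quadFormPlus m F))) : Even (m - Module.finrank F ↥(LinearMap.ker (LinearMap.funLeft F F (Sum.inr : Fin m → Fin m ⊕ Fin m)) ⊓ (LinearMap.ker (LinearMap.funLeft F F (Sum.inr : Fin m → Fin m ⊕ Fin m))).map (Matrix.mulVecLin ((g : Matrix.GeneralLinearGroup (Fin m ⊕ Fin m) F) : Matrix (Fin m ⊕ Fin m) (Fin m ⊕ Fin m) F)))) ↔ ((g : Matrix.GeneralLinearGroup (Fin m ⊕ Fin m) F) : Matrix (Fin m ⊕ Fin m) (Fin m ⊕ Fin m) F).det = 1 := by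
  classical
  have hM : Cfsg.Agent.Lib.Helper25.OrthDet.IsIsoM m
      ((g : Matrix.GeneralLinearGroup (Fin m ⊕ Fin m) F) : Matrix (Fin m ⊕ Fin m) (Fin m ⊕ Fin m) F) := by
    intro v
    rw [Cfsg.Agent.Lib.Helper25.MaxTS.plusQ_apply, Cfsg.Agent.Lib.Helper25.MaxTS.plusQ_apply]
    exact g.2 v v
  have hdet := Cfsg.Agent.Lib.Helper25.OrthDet.det_eq h2 _ _ hM rfl
  unfold Cfsg.Agent.Lib.Helper25.MaxTS.stdE at hdet
  constructor
  · intro he
    rw [hdet]
    exact he.neg_one_pow
  · intro h1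
    rw [hdet] at h1
    by_contra hne
    rw [Nat.not_even_iff_odd] at hne
    rw [hne.neg_one_pow] at h1
    exact h2 (by linear_combination (-1 : F) * h1)

end Cfsg.Agent.S2629
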