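import Cfsg.Statements.S2637
-- import your own Cfsg.Agent.* helpers here
import Cfsg.Agent.Lib.Helper15.GUinSp
import Cfsg.Agent.Lib.Helper14.Unitary
import Cfsg.Agent.S0277
import Cfsg.Agent.S2389
import Cfsg.Agent.S2645

set_option autoImplicit false
open Cfsg

namespace Cfsg.Agent.S2637

open Matrix Module Polynomial
open Cfsg.Agent.Lib.Helper15 Cfsg.Agent.Lib.Helper15.GUinSp

section model

variable {K F : Type*} [Field K] [Field F] [Algebra F K] {m : ℕ}

/-- the matrix over `F` of the `F`-linear map `x ↦ M x` of `K^m` in the basis `B` -/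
noncomputable def Phi (B : Basis (Fin m ⊕ Fin m) F (Fin m → K)) (M : Matrix (Fin m) (Fin m) K) :
    Matrix (Fin m ⊕ Fin m) (Fin m ⊕ Fin m) F :=
  LinearMap.toMatrix B B ((Matrix.toLin' M).restrictScalars F)

lemma Phi_mulVec (B : Basis (Fin m ⊕ Fin m) F (Fin m → K)) (M : Matrix (Fin m) (Fin m) K)
    (x : Fin m → K) : Phi B M *ᵥ B.equivFun x = B.equivFun (M *ᵥ x) := by
  have := LinearMap.toMatrix_mulVec_repr B B ((Matrix.toLin' M).restrictScalars F) x
  simpa [Phi] using this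

lemma Phi_one (B : Basis (Fin m ⊕ Fin m) F (Fin m → K)) : Phi B 1 = 1 := by
  unfold Phi
  have : ((Matrix.toLin' (1 : Matrix (Fin m) (Fin m) K)).restrictScalars F) = LinearMap.id := by
    ext x : 1
    simp
  rw [this, LinearMap.toMatrix_id]

lemma Phi_mul (B : Basis (Fin m ⊕ Fin m) F (Fin m → K)) (M N : Matrix (Fin m) (Fin m) K) :
    Phi B (M * N) = Phi B M * Phi B N := by
  unfold Phi
  have : ((Matrix.toLin' (M * N)).restrictScalars F) =
      ((Matrix.toLin' M).restrictScalars F).comp ((Matrix.toLin' N).restrictScalars F) := by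
    ext x : 1
    simp
  rw [this, LinearMap.toMatrix_comp B B B]

lemma Phi_injective (B : Basis (Fin m ⊕ Fin m) F (Fin m → K)) : Function.Injective (Phi B) := by
  intro M N h
  have h2 : (Matrix.toLin' M).restrictScalars F = (Matrix.toLin' N).restrictScalars F :=
    (LinearMap.toMatrix B B).injective h
  have h3 : Matrix.toLin' M = Matrix.toLin' N := LinearMap.restrictScalars_injective F h2
  exact Matrix.toLin'.injective h3

lemma Phi_ext (B : Basis (Fin m ⊕ Fin m) F (Fin m → K))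
    (g g' : Matrix (Fin m ⊕ Fin m) (Fin m ⊕ Fin m) F)
    (h : ∀ x : Fin m → K, g *ᵥ B.equivFun x = g' *ᵥ B.equivFun x) : g = g' := by
  apply Matrix.toLin'.injective
  apply LinearMap.ext
  intro u
  obtain ⟨x, rfl⟩ := B.equivFun.surjective u
  rw [Matrix.toLin'_apply, Matrix.toLin'_apply, h]

end model


section cent

variable {K F : Type*} [Field K] [Field F] [Algebra F K] {q m : ℕ}

lemma symp_preserved (G : Matrix (Fin m ⊕ Fin m) (Fin m ⊕ Fin m) F)
    (hG : G ∈ Matrix.symplecticGroup (Fin m) F) (u v : Fin m ⊕ Fin m → F) :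
    Cfsg.sympForm m F (G *ᵥ u) (G *ᵥ v) = Cfsg.sympForm m F u v := by
  unfold Cfsg.sympForm
  rw [SymplecticGroup.mem_iff'] at hG
  rw [AltGlue.dot_mulVec', Matrix.mulVec_mulVec, hG]

lemma hermForm_smul_left (c : K) (x y : Fin m → K) :
    Cfsg.hermForm m K q (c • x) y = c * Cfsg.hermForm m K q x y := by
  unfold Cfsg.hermForm
  rw [Finset.mul_sum]
  apply Finset.sum_congr rfl
  intro i _
  rw [Pi.smul_apply, smul_eq_mul, mul_assoc]

lemma hermForm_single_right (hq : 0 < q) (x : Fin m → K) (i : Fin m) :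
    Cfsg.hermForm m K q x (Pi.single i 1) = x i := by
  classical
  unfold Cfsg.hermForm
  rw [Finset.sum_eq_single i]
  · rw [Pi.single_eq_same, one_pow, mul_one]
  · intro j _ hj
    rw [Pi.single_eq_of_ne hj]
    rw [zero_pow hq.ne', mul_zero]
  · intro h
    exact absurd (Finset.mem_univ i) h


theorem exists_GU_of_cent [FiniteDimensional F K] [Algebra.IsSeparable F K] (lam : K) (hlam : lam ≠ 0)
    (B : Basis (Fin m ⊕ Fin m) F (Fin m → K))
    (hB : ∀ x y, Cfsg.sympForm m F (B.equivFun x) (B.equivFun y) =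
        Algebra.trace F K (lam * Cfsg.hermForm m K q x y))
    (ω : K) (hωF : ∀ c : K, ∃ a b : F, c = algebraMap F K a + algebraMap F K b * ω)
    (G : Matrix (Fin m ⊕ Fin m) (Fin m ⊕ Fin m) F) (hG : G ∈ Matrix.symplecticGroup (Fin m) F)
    (hcomm : Phi B (ω • (1 : Matrix (Fin m) (Fin m) K)) * G =
      G * Phi B (ω • (1 : Matrix (Fin m) (Fin m) K))) :
    ∃ M : Matrix (Fin m) (Fin m) K, Phi B M = G ∧
      (∀ x y, Cfsg.hermForm m K q (M *ᵥ x) (M *ᵥ y) = Cfsg.hermForm m K q x y) := by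
  classical
  let E : (Fin m → K) ≃ₗ[F] (Fin m ⊕ Fin m → F) := B.equivFun
  let gL : (Fin m → K) →ₗ[F] (Fin m → K) :=
    E.symm.toLinearMap ∘ₗ (Matrix.toLin' G) ∘ₗ E.toLinearMap
  have hgL : ∀ x, gL x = E.symm (G *ᵥ E x) := by
    intro x
    show E.symm ((Matrix.toLin' G) (E x)) = _
    rw [Matrix.toLin'_apply]
  have hEg : ∀ x, E (gL x) = G *ᵥ E x := by
    intro x
    rw [hgL, LinearEquiv.apply_symm_apply]
  have hωx : ∀ x : Fin m → K, (ω • (1 : Matrix (Fin m) (Fin m) K)) *ᵥ x = ω • x := by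
    intro x
    rw [Matrix.smul_mulVec, Matrix.one_mulVec]
  have hω : ∀ x, gL (ω • x) = ω • gL x := by
    intro x
    apply E.injective
    rw [hEg, ← hωx, ← hωx]
    show G *ᵥ B.equivFun ((ω • (1 : Matrix (Fin m) (Fin m) K)) *ᵥ x) =
      B.equivFun ((ω • (1 : Matrix (Fin m) (Fin m) K)) *ᵥ gL x)
    rw [← Phi_mulVec, ← Phi_mulVec, Matrix.mulVec_mulVec, ← hcomm, ← Matrix.mulVec_mulVec]
    congr 1
    exact (hEg x).symm
  have hsm : ∀ (a : F) (x : Fin m → K), (algebraMap F K a) • x = a • x := by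
    intro a x
    rw [algebraMap_smul]
  have hKlin : ∀ (c : K) (x : Fin m → K), gL (c • x) = c • gL x := by
    intro c x
    obtain ⟨a, b, rfl⟩ := hωF c
    rw [add_smul, add_smul, mul_smul, mul_smul, map_add, hsm, hsm, hsm, hsm, map_smul, map_smul,
      hω]
  let gK : (Fin m → K) →ₗ[K] (Fin m → K) :=
    { toFun := gL, map_add' := gL.map_add, map_smul' := hKlin }
  have hgK : ∀ x, gK x = gL x := fun x => rfl
  obtain ⟨M, hMdef⟩ : ∃ M, M = LinearMap.toMatrix' gK := ⟨_, rfl⟩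
  have hM : ∀ x, M *ᵥ x = gL x := by
    intro x
    rw [hMdef, ← Matrix.toLin'_apply, Matrix.toLin'_toMatrix', hgK]
  have hPhi : Phi B M = G := by
    apply Phi_ext B
    intro x
    rw [Phi_mulVec, hM]
    exact hEg x
  refine ⟨M, hPhi, ?_⟩
  intro x y
  have htr : ∀ x y, Algebra.trace F K (lam * Cfsg.hermForm m K q (M *ᵥ x) (M *ᵥ y)) =
      Algebra.trace F K (lam * Cfsg.hermForm m K q x y) := by
    intro x y
    rw [← hB, ← hB, ← Phi_mulVec, ← Phi_mulVec, hPhi, symp_preserved G hG]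
  obtain ⟨d, hd⟩ : ∃ d, d = Cfsg.hermForm m K q (M *ᵥ x) (M *ᵥ y) - Cfsg.hermForm m K q x y :=
    ⟨_, rfl⟩
  have h1 : ∀ c : K, Algebra.traceForm F K (lam * d) c = 0 := by
    intro c
    rw [Algebra.traceForm_apply, hd]
    have h2 := htr (c • x) y
    rw [Matrix.mulVec_smul, hermForm_smul_left, hermForm_smul_left] at h2
    have h3 : lam * (Cfsg.hermForm m K q (M *ᵥ x) (M *ᵥ y) - Cfsg.hermForm m K q x y) * c =
        lam * (c * Cfsg.hermForm m K q (M *ᵥ x) (M *ᵥ y)) -
          lam * (c * Cfsg.hermForm m K q x y) := by ring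
    rw [h3, map_sub, h2, sub_self]
  have h4 := (traceForm_nondegenerate F K).1 (lam * d) h1
  rcases mul_eq_zero.1 h4 with h5 | h5
  · exact absurd h5 hlam
  · rw [hd, sub_eq_zero] at h5
    exact h5


theorem card_cent_model [FiniteDimensional F K] [Algebra.IsSeparable F K] (hq : 0 < q) (lam : K)
    (hlam : lam ≠ 0) (B : Basis (Fin m ⊕ Fin m) F (Fin m → K))
    (hB : ∀ x y, Cfsg.sympForm m F (B.equivFun x) (B.equivFun y) =
        Algebra.trace F K (lam * Cfsg.hermForm m K q x y))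
    (ω : K) (hω1 : ω ^ (q + 1) = 1)
    (hωF : ∀ c : K, ∃ a b : F, c = algebraMap F K a + algebraMap F K b * ω) :
    ∃ x₀ : Matrix.symplecticGroup (Fin m) F,
      (x₀ : Matrix (Fin m ⊕ Fin m) (Fin m ⊕ Fin m) F) =
        Phi B (ω • (1 : Matrix (Fin m) (Fin m) K)) ∧
      Nat.card ↥(Subgroup.centralizer ({x₀} : Set ↥(Matrix.symplecticGroup (Fin m) F))) =
        Nat.card ↥(Cfsg.GU m K q) := by
  classical
  have hPhiSp : ∀ M : Matrix (Fin m) (Fin m) K,
      (∀ x y, Cfsg.hermForm m K q (M *ᵥ x) (M *ᵥ y) = Cfsg.hermForm m K q x y) →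
      Phi B M ∈ Matrix.symplecticGroup (Fin m) F := by
    intro M hM
    apply mem_symplectic_of_preserves
    intro u v
    obtain ⟨x, rfl⟩ := B.equivFun.surjective u
    obtain ⟨y, rfl⟩ := B.equivFun.surjective v
    rw [Phi_mulVec, Phi_mulVec, hB, hB, hM]
  have hωpres : ∀ x y : Fin m → K,
      Cfsg.hermForm m K q ((ω • (1 : Matrix (Fin m) (Fin m) K)) *ᵥ x)
        ((ω • (1 : Matrix (Fin m) (Fin m) K)) *ᵥ y) = Cfsg.hermForm m K q x y := by
    intro x y
    rw [Matrix.smul_mulVec, Matrix.one_mulVec, Matrix.smul_mulVec, Matrix.one_mulVec]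
    unfold Cfsg.hermForm
    apply Finset.sum_congr rfl
    intro i _
    rw [Pi.smul_apply, Pi.smul_apply, smul_eq_mul, smul_eq_mul, mul_pow]
    have : ω * x i * (ω ^ q * y i ^ q) = ω ^ (q + 1) * (x i * y i ^ q) := by ring
    rw [this, hω1, one_mul]
  let x₀ : Matrix.symplecticGroup (Fin m) F :=
    ⟨Phi B (ω • (1 : Matrix (Fin m) (Fin m) K)), hPhiSp _ hωpres⟩
  refine ⟨x₀, rfl, ?_⟩
  symm
  have hcommM : ∀ M : Matrix (Fin m) (Fin m) K,
      Phi B M * Phi B (ω • (1 : Matrix (Fin m) (Fin m) K)) =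
        Phi B (ω • (1 : Matrix (Fin m) (Fin m) K)) * Phi B M := by
    intro M
    rw [← Phi_mul, ← Phi_mul, Matrix.mul_smul, Matrix.smul_mul, Matrix.mul_one, Matrix.one_mul]
  let f : ↥(Cfsg.GU m K q) →
      ↥(Subgroup.centralizer ({x₀} : Set ↥(Matrix.symplecticGroup (Fin m) F))) :=
    fun M => ⟨⟨Phi B ((M : Matrix.GeneralLinearGroup (Fin m) K) : Matrix (Fin m) (Fin m) K),
      hPhiSp _ M.2⟩, by
        rw [Subgroup.mem_centralizer_singleton_iff]
        apply Subtype.ext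
        exact hcommM _⟩
  apply Nat.card_congr
  refine Equiv.ofBijective f ⟨?_, ?_⟩
  · intro M N hMN
    have h1 : Phi B ((M : Matrix.GeneralLinearGroup (Fin m) K) : Matrix (Fin m) (Fin m) K) =
        Phi B ((N : Matrix.GeneralLinearGroup (Fin m) K) : Matrix (Fin m) (Fin m) K) :=
      congrArg (fun z : ↥(Subgroup.centralizer
        ({x₀} : Set ↥(Matrix.symplecticGroup (Fin m) F))) =>
        ((z : ↥(Matrix.symplecticGroup (Fin m) F)) :
          Matrix (Fin m ⊕ Fin m) (Fin m ⊕ Fin m) F)) hMN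
    apply Subtype.ext
    apply Units.ext
    exact Phi_injective B h1
  · rintro ⟨⟨G, hG⟩, hGc⟩
    rw [Subgroup.mem_centralizer_singleton_iff] at hGc
    have hcomm : Phi B (ω • (1 : Matrix (Fin m) (Fin m) K)) * G =
        G * Phi B (ω • (1 : Matrix (Fin m) (Fin m) K)) := by
      have := congrArg (fun z : ↥(Matrix.symplecticGroup (Fin m) F) =>
        (z : Matrix (Fin m ⊕ Fin m) (Fin m ⊕ Fin m) F)) hGc
      exact this.symm
    obtain ⟨M, hPhi, hMpres⟩ := exists_GU_of_cent lam hlam B hB ω hωF G hG hcomm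
    have hMinj : Function.Injective M.mulVec := by
      intro x y hxy
      have h0 : M *ᵥ (x - y) = 0 := by rw [Matrix.mulVec_sub, hxy, sub_self]
      have h1 : x - y = 0 := by
        funext i
        have h2 := hMpres (x - y) (Pi.single i 1)
        rw [h0, hermForm_single_right hq] at h2
        rw [← h2]
        unfold Cfsg.hermForm
        simp
      exact sub_eq_zero.1 h1
    have hMu : IsUnit M := Matrix.mulVec_injective_iff_isUnit.1 hMinj
    obtain ⟨Mu, hMu'⟩ := hMu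
    have hmem : Mu ∈ Cfsg.GU m K q := by
      intro u v
      show Cfsg.hermForm m K q ((Mu : Matrix (Fin m) (Fin m) K) *ᵥ u)
        ((Mu : Matrix (Fin m) (Fin m) K) *ᵥ v) = _
      rw [hMu']
      exact hMpres u v
    refine ⟨⟨Mu, hmem⟩, ?_⟩
    apply Subtype.ext
    apply Subtype.ext
    show Phi B ((Mu : Matrix (Fin m) (Fin m) K)) = G
    rw [hMu', hPhi]

end cent


section mainsec

open Cfsg.Agent.S2645

lemma card_centralizer_conj {G : Type*} [Group G] (x x₀ : G) (h : IsConj x x₀) :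
    Nat.card ↥(Subgroup.centralizer ({x} : Set G)) =
      Nat.card ↥(Subgroup.centralizer ({x₀} : Set G)) := by
  obtain ⟨c, hc⟩ := isConj_iff.1 h
  apply Nat.card_congr
  refine Equiv.subtypeEquiv (MulAut.conj c).toEquiv ?_
  intro g
  show g ∈ Subgroup.centralizer {x} ↔ (MulAut.conj c) g ∈ Subgroup.centralizer {x₀}
  rw [Subgroup.mem_centralizer_singleton_iff, Subgroup.mem_centralizer_singleton_iff,
    MulAut.conj_apply, ← hc]
  have e1 : c * g * c⁻¹ * (c * x * c⁻¹) = c * (g * x) * c⁻¹ := by group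
  have e2 : c * x * c⁻¹ * (c * g * c⁻¹) = c * (x * g) * c⁻¹ := by group
  rw [e1, e2]
  constructor
  · intro h1
    rw [h1]
  · intro h1
    exact mul_left_cancel (mul_right_cancel h1)

theorem main {F : Type*} [Field F] [Fintype F] {q : ℕ} (hF : Fintype.card F = q) (hq : q % 3 = 2)
    {m : ℕ} (hm : 1 ≤ m) (x : Matrix.symplecticGroup (Fin m) F) (hx3 : x ^ 3 = 1)
    (hfpf : IsUnit ((x : Matrix (Fin m ⊕ Fin m) (Fin m ⊕ Fin m) F) - 1)) :
    (Nat.card ↥(Subgroup.centralizer ({x} : Set ↥(Matrix.symplecticGroup (Fin m) F))) : ℤ) =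
      (q : ℤ) ^ (m * (m - 1) / 2) * ∏ i : Fin m, ((q : ℤ) ^ ((i : ℕ) + 1) - (-1) ^ ((i : ℕ) + 1)) := by
  classical
  obtain ⟨p, hpc⟩ := CharP.exists F
  have hp : Fact p.Prime := ⟨CharP.char_is_prime F p⟩
  have hq0 : 0 < q := by omega
  have hp3 : p ≠ 3 := by
    intro h3
    obtain ⟨n, -, hn⟩ := FiniteField.card F p
    rw [hF, h3] at hn
    have : 3 ∣ q := by
      rw [hn]
      exact dvd_pow_self 3 n.ne_zero
    omega
  have h3F : (3 : F) ≠ 0 := by
    intro h
    have h1 : ((3 : ℕ) : F) = 0 := by rw [Nat.cast_ofNat]; exact h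
    rw [CharP.cast_eq_zero_iff F p] at h1
    exact hp3 ((Nat.prime_dvd_prime_iff_eq hp.out Nat.prime_three).1 h1)
  -- no primitive cube roots of unity in F
  have hnoroot : ∀ t : F, t ^ 2 + t + 1 ≠ 0 := by
    intro t ht
    have ht3 : t ^ 3 = 1 := by
      have : t ^ 3 - 1 = (t - 1) * (t ^ 2 + t + 1) := by ring
      rw [ht, mul_zero, sub_eq_zero] at this
      exact this
    have ht1 : t ≠ 1 := by
      rintro rfl
      apply h3F
      rw [← ht]; ring
    have ht0 : t ≠ 0 := by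
      rintro rfl
      rw [zero_pow (by norm_num)] at ht3
      exact zero_ne_one ht3
    have h3 : Fact (Nat.Prime 3) := ⟨Nat.prime_three⟩
    have hord : orderOf t = 3 := orderOf_eq_prime ht3 ht1
    have hdvd : orderOf t ∣ q - 1 := by
      apply orderOf_dvd_of_pow_eq_one
      rw [← hF]
      exact FiniteField.pow_card_sub_one_eq_one t ht0
    rw [hord] at hdvd
    omega
  -- the cyclotomic polynomial
  obtain ⟨Φ, hΦ⟩ : ∃ Φ : F[X], Φ = X ^ 2 + X + 1 := ⟨_, rfl⟩
  have hΦdeg : Φ.natDegree = 2 := by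
    rw [hΦ]
    compute_degree!
  have hΦmon : Φ.Monic := by
    rw [hΦ]
    monicity!
  have hΦirr : Irreducible Φ := by
    rw [hΦmon.irreducible_iff_roots_eq_zero_of_degree_le_three (by omega) (by omega),
      Multiset.eq_zero_iff_forall_notMem]
    intro t ht
    rw [mem_roots hΦmon.ne_zero, IsRoot.def, hΦ] at ht
    simp only [eval_add, eval_pow, eval_X, eval_one] at ht
    exact hnoroot t ht
  have hcp : ∀ A : Matrix (Fin m ⊕ Fin m) (Fin m ⊕ Fin m) F, A ^ 2 + A + 1 = 0 →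
      A.charpoly = Φ ^ m := by
    intro A hA
    have hprodΦ : ∏ _o : Unit, Φ = Φ := by
      rw [Fintype.prod_unique]
    obtain ⟨e, he⟩ := matrix_charpoly_of_family' (fun _ : Unit => Φ) (fun _ => hΦmon)
      (fun _ => hΦirr) (by rw [hprodΦ]; exact hΦirr.squarefree) A (by
        rw [hprodΦ, hΦ]
        simp only [map_add, map_pow, aeval_X, map_one]
        exact hA)
    rw [Fintype.prod_unique] at he
    have hd := congrArg natDegree he
    rw [Matrix.charpoly_natDegree_eq_dim, natDegree_pow, hΦdeg, Fintype.card_sum,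
      Fintype.card_fin] at hd
    have : e default = m := by omega
    rw [he, this]
  -- x satisfies Φ
  obtain ⟨Xm, hXm⟩ : ∃ Xm, Xm = (x : Matrix (Fin m ⊕ Fin m) (Fin m ⊕ Fin m) F) := ⟨_, rfl⟩
  have hX3 : Xm ^ 3 = 1 := by
    rw [hXm, ← SubmonoidClass.coe_pow, hx3]
    rfl
  have hXΦ : Xm ^ 2 + Xm + 1 = 0 := by
    rw [← hXm] at hfpf
    obtain ⟨u, hu⟩ := hfpf
    have h1 : (Xm - 1) * (Xm ^ 2 + Xm + 1) = 0 := by
      have : (Xm - 1) * (Xm ^ 2 + Xm + 1) = Xm ^ 3 - 1 := by noncomm_ring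
      rw [this, hX3, sub_self]
    rw [← hu] at h1
    have h2 := congrArg (fun z => (u⁻¹ : (Matrix (Fin m ⊕ Fin m) (Fin m ⊕ Fin m) F)ˣ).val * z) h1
    simp only [mul_zero] at h2
    rw [← mul_assoc, ← Units.val_mul, inv_mul_cancel, Units.val_one, one_mul] at h2
    exact h2
  -- the quadratic extension
  obtain ⟨K, _, _, _, hK⟩ : ∃ (K : Type) (_ : Field K) (_ : Fintype K) (_ : Algebra F K),
      Fintype.card K = q ^ 2 := by
    let _ : Fintype (FiniteField.Extension F p 2) := Fintype.ofFinite _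
    refine ⟨FiniteField.Extension F p 2, inferInstance, inferInstance, inferInstance, ?_⟩
    rw [Fintype.card_eq_nat_card, FiniteField.natCard_extension, Nat.card_eq_fintype_card, hF]
  have h2K : finrank F K = 2 := finrank_eq_two_of_card_sq (by rw [hK, hF])
  have hfd : FiniteDimensional F K := Module.finite_of_finrank_pos (by rw [h2K]; norm_num)
  -- a primitive cube root of unity in K
  obtain ⟨ω, hω3, hω1⟩ : ∃ ω : K, ω ^ 3 = 1 ∧ ω ≠ 1 := by
    have h3 : Fact (Nat.Prime 3) := ⟨Nat.prime_three⟩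
    have hdvd : 3 ∣ Fintype.card Kˣ := by
      rw [Fintype.card_units, hK]
      obtain ⟨k, hk⟩ : ∃ k, q = 3 * k + 2 := ⟨q / 3, by omega⟩
      refine ⟨3 * k ^ 2 + 4 * k + 1, ?_⟩
      rw [hk]
      have : (3 * k + 2) ^ 2 = 3 * (3 * k ^ 2 + 4 * k + 1) + 1 := by ring
      rw [this, Nat.add_sub_cancel]
    obtain ⟨g, hg⟩ := exists_prime_orderOf_dvd_card 3 hdvd
    refine ⟨(g : K), ?_, ?_⟩
    · rw [← Units.val_pow_eq_pow_val, ← hg, pow_orderOf_eq_one, Units.val_one]
    · intro h1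
      have : g = 1 := Units.ext h1
      rw [this, orderOf_one] at hg
      omega
  have hωΦ : ω ^ 2 + ω + 1 = 0 := by
    have h1 : (ω - 1) * (ω ^ 2 + ω + 1) = 0 := by
      have : (ω - 1) * (ω ^ 2 + ω + 1) = ω ^ 3 - 1 := by ring
      rw [this, hω3, sub_self]
    rcases mul_eq_zero.1 h1 with h | h
    · exact absurd (sub_eq_zero.1 h) hω1
    · exact h
  have hωq : ω ^ (q + 1) = 1 := by
    obtain ⟨k, hk⟩ : ∃ k, q + 1 = 3 * k := ⟨(q + 1) / 3, by omega⟩
    rw [hk, pow_mul, hω3, one_pow]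
  have hωnot : ∀ a : F, algebraMap F K a ≠ ω := by
    intro a ha
    apply hnoroot a
    apply (algebraMap F K).injective
    rw [map_add, map_add, map_pow, map_one, map_zero, ha, hωΦ]
  have hωF : ∀ c : K, ∃ a b : F, c = algebraMap F K a + algebraMap F K b * ω := by
    have hli : LinearIndependent F ![(1 : K), ω] := by
      rw [LinearIndependent.pair_iff]
      intro s t hst
      have ht : t = 0 := by
        by_contra ht
        apply hωnot (-(s / t))
        have h1 : t • ω = -(s • (1 : K)) := eq_neg_of_add_eq_zero_right hst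
        rw [Algebra.smul_def, Algebra.smul_def, mul_one] at h1
        have h2 : algebraMap F K t ≠ 0 := by
          rw [Ne, map_eq_zero_iff _ (algebraMap F K).injective]
          exact ht
        rw [map_neg, map_div₀]
        field_simp
        rw [← h1, mul_comm]
      subst ht
      rw [zero_smul, add_zero, Algebra.smul_def, mul_one,
        map_eq_zero_iff _ (algebraMap F K).injective] at hst
      exact ⟨hst, rfl⟩
    let c : Basis (Fin 2) F K := basisOfLinearIndependentOfCardEqFinrank hli (by simp [h2K])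
    have hc0 : c 0 = 1 := by simp [c]
    have hc1 : c 1 = ω := by simp [c]
    intro u
    refine ⟨c.repr u 0, c.repr u 1, ?_⟩
    have hu : c.repr u 0 • (1 : K) + c.repr u 1 • ω = u := by
      rw [← hc0, ← hc1, ← Fin.sum_univ_two (f := fun s => c.repr u s • c s)]; exact c.sum_repr u
    rw [Algebra.smul_def, Algebra.smul_def, mul_one] at hu
    exact hu.symm
  -- the model
  obtain ⟨lam, B, hlam, hB⟩ := exists_adapted hK hF m
  obtain ⟨x₀, hx₀, hcard⟩ := card_cent_model hq0 lam hlam B hB ω hωq hωF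
  have hX₀Φ : (x₀ : Matrix (Fin m ⊕ Fin m) (Fin m ⊕ Fin m) F) ^ 2 +
      (x₀ : Matrix (Fin m ⊕ Fin m) (Fin m ⊕ Fin m) F) + 1 = 0 := by
    rw [hx₀]
    apply Phi_ext B
    intro v
    have hωv : ∀ v : Fin m → K, (ω • (1 : Matrix (Fin m) (Fin m) K)) *ᵥ v = ω • v := by
      intro v
      rw [Matrix.smul_mulVec, Matrix.one_mulVec]
    rw [Matrix.add_mulVec, Matrix.add_mulVec, sq, ← Matrix.mulVec_mulVec, Phi_mulVec, Phi_mulVec,
      Matrix.one_mulVec, Matrix.zero_mulVec, hωv, hωv, ← map_add, ← map_add]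
    have : ω • ω • v + ω • v + v = (ω ^ 2 + ω + 1) • v := by
      rw [add_smul, add_smul, one_smul, sq, mul_smul]
    rw [this, hωΦ, zero_smul, map_zero]
  have hx₀3 : x₀ ^ 3 = 1 := by
    apply Subtype.ext
    rw [SubmonoidClass.coe_pow]
    show (x₀ : Matrix (Fin m ⊕ Fin m) (Fin m ⊕ Fin m) F) ^ 3 = 1
    have : (x₀ : Matrix (Fin m ⊕ Fin m) (Fin m ⊕ Fin m) F) ^ 3 - 1 =
        ((x₀ : Matrix (Fin m ⊕ Fin m) (Fin m ⊕ Fin m) F) - 1) *
          ((x₀ : Matrix (Fin m ⊕ Fin m) (Fin m ⊕ Fin m) F) ^ 2 +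
            (x₀ : Matrix (Fin m ⊕ Fin m) (Fin m ⊕ Fin m) F) + 1) := by noncomm_ring
    rw [hX₀Φ, mul_zero, sub_eq_zero] at this
    exact this
  have hcop3 : Nat.Coprime 3 p := (Nat.coprime_primes Nat.prime_three hp.out).2 (Ne.symm hp3)
  have hconj : IsConj x x₀ := by
    apply S2389.main p m x x₀
    · exact Nat.Coprime.coprime_dvd_left (orderOf_dvd_of_pow_eq_one hx3) hcop3
    · exact Nat.Coprime.coprime_dvd_left (orderOf_dvd_of_pow_eq_one hx₀3) hcop3
    · rw [← hXm, hcp Xm hXΦ, hcp _ hX₀Φ]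
  rw [card_centralizer_conj x x₀ hconj, hcard, S0277.result hK m, Nat.cast_mul, Nat.cast_pow,
    Nat.cast_prod, Fin.prod_univ_eq_prod_range
      (fun i : ℕ => ((q : ℤ) ^ (i + 1) - (-1) ^ (i + 1))) m]
  congr 1
  apply Finset.prod_congr rfl
  intro i _
  have hq1 : 1 ≤ q ^ (i + 1) := Nat.one_le_pow _ _ hq0
  rcases Nat.even_or_odd i with he | ho
  · rw [if_pos he, Nat.cast_add, Nat.cast_pow, Nat.cast_one, Odd.neg_one_pow (Even.add_one he)]
    ring
  · rw [if_neg (Nat.not_even_iff_odd.2 ho), Nat.cast_sub hq1, Nat.cast_pow, Nat.cast_one,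
      Even.neg_one_pow (Odd.add_one ho)]

end mainsec

/-- Centraliser of a fixed-point-free element of order three in Sp_2m(q) when q ≡ 2 (mod 3): if x ∈ Sp_2m(F) (|F| = q, m ≥ 1) satisfies x³ = 1 and x − 1 is invertible, then its centraliser in Sp_2m(F) has the order of the unitary group GU_m(q), namely q^(m(m−1)/2) Π_(i=1)^m (q^i − (−1)^i) (x lies in the centre of a subgroup GU_m(q) of Sp_2m(q)). -/
theorem result {F : Type*} [Field F] [Fintype F] {q : ℕ} (hF : Fintype.card F = q) (hq : q % 3 = 2) {m : ℕ} (hm : 1 ≤ m) (x : Matrix.symplecticGroup (Fin m) F) (hx3 : x ^ 3 = 1) (hfpf : IsUnit ((x : Matrix (Fin m ⊕ Fin m) (Fin m ⊕ Fin m) F) - 1)) : (Nat.card ↥(Subgroup.centralizer ({x} : Set ↥(Matrix.symplecticGroup (Fin m) F))) : ℤ) = (q : ℤ) ^ (m * (m - 1) / 2) * ∏ i : Fin m, ((q : ℤ) ^ ((i : ℕ) + 1) - (-1) ^ ((i : ℕ) + 1)) := by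
  exact main hF hq hm x hx3 hfpf

end Cfsg.Agent.S2637
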