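import Cfsg.Statements.S2639
-- import your own Cfsg.Agent.* helpers here
import Cfsg.Agent.Lib.Helper15.FieldExt

set_option autoImplicit false
open Cfsg

namespace Cfsg.Agent.S2639

open Matrix Module
open Cfsg.Agent.Lib.Helper15

def idx (m : ℕ) : (Σ _ : Fin m, Fin 2) ≃ Fin m ⊕ Fin m where
  toFun p := if p.2 = 0 then Sum.inl p.1 else Sum.inr p.1
  invFun := Sum.elim (fun i => ⟨i, 0⟩) (fun i => ⟨i, 1⟩)
  left_inv := by rintro ⟨i, s⟩; fin_cases s <;> simp
  right_inv := by rintro (i | i) <;> simp

/-- The unitary group embeds in the symplectic group of twice the dimension over the subfield: for a field K with q² elements and a field F with q elements (isomorphic to the subfield of K of order q), there is an injective homomorphism GU_m(q) → Sp_2m(F). -/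
theorem result {K F : Type*} [Field K] [Fintype K] [Field F] [Fintype F] {q : ℕ} (hK : Fintype.card K = q ^ 2) (hF : Fintype.card F = q) (m : ℕ) : ∃ φ : ↥(Cfsg.GU m K q) →* ↥(Matrix.symplecticGroup (Fin m) F), Function.Injective φ := by
  classical
  obtain ⟨ι⟩ := exists_ringHom_of_card_sq (F := F) (K := K) (by rw [hK, hF])
  let _ : Algebra F K := ι.toAlgebra
  have h2 : finrank F K = 2 := finrank_eq_two_of_card_sq (by rw [hK, hF])
  have : FiniteDimensional F K := Module.finite_of_finrank_pos (by rw [h2]; norm_num)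
  -- Frobenius
  obtain ⟨σ, hσ⟩ : ∃ σ : K ≃ₐ[F] K, ∀ x, σ x = x ^ q :=
    ⟨FiniteField.frobeniusAlgEquivOfAlgebraic F K, fun x => by
      rw [FiniteField.coe_frobeniusAlgEquivOfAlgebraic, hF]⟩
  have hσσ : ∀ x, σ (σ x) = x := by
    intro x
    rw [hσ, hσ, ← pow_mul, ← sq, ← hK, FiniteField.pow_card]
  have htrσ : ∀ x, Algebra.trace F K (σ x) = Algebra.trace F K x :=
    fun x => Algebra.trace_eq_of_algEquiv σ x
  have htr : ∀ x, algebraMap F K (Algebra.trace F K x) = x + σ x := by
    intro x
    rw [FiniteField.algebraMap_trace_eq_sum_pow, h2, Finset.sum_range_succ, Finset.sum_range_one,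
      pow_zero, pow_one, pow_one, hσ, Nat.card_eq_fintype_card, hF]
  have hnorm : ∀ x, algebraMap F K (Algebra.norm F x) = x * σ x := by
    intro x
    rw [FiniteField.algebraMap_norm_eq_pow_sum, h2, Finset.sum_range_succ, Finset.sum_range_one,
      pow_zero, pow_one, pow_add, pow_one, hσ, Nat.card_eq_fintype_card, hF]
  -- lam
  obtain ⟨lam, hlam0, hlamtr⟩ : ∃ lam : K, lam ≠ 0 ∧ Algebra.trace F K lam = 0 := by
    have h1 := LinearMap.finrank_range_add_finrank_ker (Algebra.trace F K)
    have h3 : finrank F (LinearMap.range (Algebra.trace F K)) ≤ 1 := by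
      have := Submodule.finrank_le (LinearMap.range (Algebra.trace F K))
      rwa [finrank_self] at this
    have h4 : 0 < finrank F (LinearMap.ker (Algebra.trace F K)) := by omega
    obtain ⟨⟨x, hx⟩, hx0⟩ := Module.finrank_pos_iff_exists_ne_zero.mp h4
    exact ⟨x, fun h => hx0 (Subtype.ext h), hx⟩
  have hσlam : σ lam = -lam := by
    have := htr lam
    rw [hlamtr, map_zero] at this
    exact (neg_eq_of_add_eq_zero_right this.symm).symm
  obtain ⟨θ, hθ⟩ : ∃ θ : K, Algebra.trace F K (lam * σ θ) = 1 := by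
    obtain ⟨w, hw⟩ := Algebra.trace_surjective F K 1
    refine ⟨σ (lam⁻¹ * w), ?_⟩
    rw [hσσ, mul_inv_cancel_left₀ hlam0, hw]
  have hθ' : Algebra.trace F K (lam * θ) = -1 := by
    rw [← htrσ, map_mul, hσlam, neg_mul, map_neg, hθ]
  have hθN : Algebra.trace F K (lam * (θ * σ θ)) = 0 := by
    rw [← hnorm, mul_comm, ← Algebra.smul_def, map_smul, hlamtr, smul_zero]
  have hli : LinearIndependent F ![θ, 1] := by
    rw [LinearIndependent.pair_iff]
    intro s t hst
    have h1 := congrArg (fun z => Algebra.trace F K (lam * z)) hst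
    simp only [mul_add, mul_smul_comm, map_add, map_smul, hθ', mul_one, hlamtr, mul_zero,
      map_zero, smul_eq_mul] at h1
    have hs : s = 0 := by linear_combination -h1
    subst hs
    simp at hst
    exact ⟨rfl, hst⟩
  let c : Basis (Fin 2) F K := basisOfLinearIndependentOfCardEqFinrank hli (by simp [h2])
  have hc0 : c 0 = θ := by simp [c]
  have hc1 : c 1 = 1 := by simp [c]
  have hgen : ∀ ξ0 ξ1 η0 η1 : F, Algebra.trace F K
      (lam * ((ξ0 • θ + ξ1 • (1:K)) * σ (η0 • θ + η1 • (1:K)))) = ξ1 * η0 - ξ0 * η1 := by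
    intro ξ0 ξ1 η0 η1
    have expand : lam * ((ξ0 • θ + ξ1 • (1:K)) * σ (η0 • θ + η1 • (1:K))) =
        (ξ0 * η0) • (lam * (θ * σ θ)) + (ξ0 * η1) • (lam * θ) + (ξ1 * η0) • (lam * σ θ)
          + (ξ1 * η1) • lam := by
      rw [map_add, map_smul, map_smul, map_one]
      simp only [Algebra.smul_def, map_mul]
      ring
    rw [expand, map_add, map_add, map_add, map_smul, map_smul, map_smul, map_smul, hθN, hθ', hθ,
      hlamtr]
    simp only [smul_eq_mul]; ring
  have hpair : ∀ u w : K, Algebra.trace F K (lam * (u * σ w)) =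
      c.repr u 1 * c.repr w 0 - c.repr u 0 * c.repr w 1 := by
    intro u w
    have hu : c.repr u 0 • θ + c.repr u 1 • (1:K) = u := by
      rw [← hc0, ← hc1, ← Fin.sum_univ_two (f := fun s => c.repr u s • c s)]; exact c.sum_repr u
    have hw : c.repr w 0 • θ + c.repr w 1 • (1:K) = w := by
      rw [← hc0, ← hc1, ← Fin.sum_univ_two (f := fun s => c.repr w s • c s)]; exact c.sum_repr w
    have := hgen (c.repr u 0) (c.repr u 1) (c.repr w 0) (c.repr w 1)
    rw [hu, hw] at this; exact this
  let B0 : Basis (Σ _ : Fin m, Fin 2) F (Fin m → K) := Pi.basis (fun _ : Fin m => c)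
  let B := B0.reindex (idx m)
  let Ψ : (Fin m → K) → (Fin m → K) → F :=
    fun x y => Algebra.trace F K (lam * Cfsg.hermForm m K q x y)
  have hBl : ∀ (x : Fin m → K) (i : Fin m), B.equivFun x (Sum.inl i) = c.repr (x i) 0 := by
    intro x i
    show (B0.reindex (idx m)).repr x (Sum.inl i) = _
    rw [Basis.repr_reindex_apply]
    exact Pi.basis_repr _ x ⟨i, 0⟩
  have hBr : ∀ (x : Fin m → K) (i : Fin m), B.equivFun x (Sum.inr i) = c.repr (x i) 1 := by
    intro x i
    show (B0.reindex (idx m)).repr x (Sum.inr i) = _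
    rw [Basis.repr_reindex_apply]
    exact Pi.basis_repr _ x ⟨i, 1⟩
  apply embed_of_basis B Ψ ?_ ((Units.coeHom _).comp (Cfsg.GU m K q).subtype) ?_ ?_
  · intro x y
    show _ = Algebra.trace F K (lam * Cfsg.hermForm m K q x y)
    rw [sympForm_eq]
    unfold Cfsg.hermForm
    rw [Finset.mul_sum, map_sum]
    apply Finset.sum_congr rfl
    intro i _
    rw [hBl, hBl, hBr, hBr, ← hσ, hpair]
  · intro g h hgh
    apply Subtype.ext
    apply Units.ext
    exact hgh
  · intro g x y
    show Algebra.trace F K _ = Algebra.trace F K _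
    congr 2
    exact g.2 x y

end Cfsg.Agent.S2639
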