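import Cfsg.Statements.S2642
-- import your own Cfsg.Agent.* helpers here
import Cfsg.Agent.S2587
import Cfsg.Agent.S2570
import Cfsg.Agent.Lib.Helper15.UnitaryType

set_option autoImplicit false
open Cfsg

namespace Cfsg.Agent.S2642

open Matrix Cfsg.Agent.Lib.Helper14 Cfsg.Agent.Lib.Helper15
  Cfsg.Agent.Lib.Helper15.NilpotentConj

theorem main {K : Type*} [Field K] [Fintype K] {p q n : ℕ} [Fact p.Prime] [CharP K p] (hK : Fintype.card K = q ^ 2) : Nat.card {C : ConjClasses ↥(Cfsg.GU n K q) // ∃ g : ↥(Cfsg.GU n K q), ConjClasses.mk g = C ∧ orderOf g = p} = (Finset.univ.filter (fun μ : Nat.Partition n => ∀ a ∈ μ.parts, a ≤ p)).card - 1 := by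
  classical
  have hp : 1 ≤ p := (Fact.out : p.Prime).one_lt.le
  let _ : StarRing K := S2643.frobStar hK
  have key : ∀ M : Matrix (Fin n) (Fin n) K, IsUni K q n M ↔ Mᴴ * M = 1 :=
    fun M => S2643.isUni_iff hK M
  have hex : ∀ μ : Nat.Partition n, ∃ g : ↥(Cfsg.GU n K q),
      IsNilpotent ((g.1 : Matrix (Fin n) (Fin n) K) - 1) ∧
      ∀ k, mkap ((g.1 : Matrix (Fin n) (Fin n) K) - 1) k = kapm μ.parts k := by
    intro μ
    obtain ⟨g, hgu, hgn, hgk⟩ := UnitaryType.exists_unitary_of_type (S2643.frob_T hK)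
      (S2643.frob_N hK) (S2643.frob_S hK) μ.parts (fun a ha => μ.parts_pos ha) n μ.parts_sum
    have hdet : g.det ≠ 0 := (Matrix.isUnit_det_of_left_inverse hgu).ne_zero
    refine ⟨⟨Matrix.GeneralLinearGroup.mkOfDetNeZero g hdet, ?_⟩, hgn, hgk⟩
    rw [mem_GU_iff]
    exact (key g).2 hgu
  choose G hG1 hG2 using hex
  obtain ⟨Q, hQ⟩ : ∃ Q : Nat.Partition n → Prop,
      Q = fun μ => (∀ a ∈ μ.parts, a ≤ p) ∧ μ ≠ S2570.ones n := ⟨_, rfl⟩
  have hRQ : ∀ (g : GL (Fin n) K) (μ : Nat.Partition n),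
      IsNilpotent ((g : Matrix (Fin n) (Fin n) K) - 1) →
      (∀ k, mkap ((g : Matrix (Fin n) (Fin n) K) - 1) k = kapm μ.parts k) →
      (orderOf g = p ↔ Q μ) := by
    intro g μ hnil hk
    rw [order_p_iff p g, hQ]
    have e1 : ((g : Matrix (Fin n) (Fin n) K) - 1) ^ p = 0 ↔ ∀ a ∈ μ.parts, a ≤ p := by
      rw [pow_eq_zero_iff_mkap, hk, ← kapm_eq_sum_iff, μ.parts_sum]
    have e2 : (g : Matrix (Fin n) (Fin n) K) - 1 ≠ 0 ↔ μ ≠ S2570.ones n := by
      rw [Ne, Ne, ← S2570.card_parts_eq_iff, ← kapm_one μ.parts (fun a ha => μ.parts_pos ha), ← hk,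
        ← pow_eq_zero_iff_mkap, pow_one]
    rw [e1, e2, and_comm]
  let Ψ : {μ : Nat.Partition n // Q μ} → {C : ConjClasses ↥(Cfsg.GU n K q) //
      ∃ g : ↥(Cfsg.GU n K q), ConjClasses.mk g = C ∧ orderOf g = p} :=
    fun μ => ⟨ConjClasses.mk (G μ.1), G μ.1, rfl, by
      rw [← Subgroup.orderOf_coe]
      exact (hRQ (G μ.1).1 μ.1 (hG1 μ.1) (hG2 μ.1)).2 μ.2⟩
  have hΨ : Function.Bijective Ψ := by
    constructor
    · rintro ⟨μ, hμ⟩ ⟨ν, hν⟩ h
      have h1 : ConjClasses.mk (G μ) = ConjClasses.mk (G ν) := congrArg Subtype.val h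
      rw [ConjClasses.mk_eq_mk_iff_isConj] at h1
      have h1' : IsConj (G μ).1 (G ν).1 := MonoidHom.map_isConj (Cfsg.GU n K q).subtype h1
      rw [isConj_iff] at h1'
      obtain ⟨c, hc⟩ := h1'
      have h2 := mkap_eq_of_conj _ _ c (conj_sub_one (G μ).1 (G ν).1 c hc)
      have h3 : μ.parts = ν.parts := by
        apply type_unique _ _ (fun a ha => μ.parts_pos ha) (fun a ha => ν.parts_pos ha)
        intro k
        rw [← hG2 μ k, ← hG2 ν k, h2 k]
      apply Subtype.ext
      exact Nat.Partition.ext h3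
    · rintro ⟨C, g, rfl, hg⟩
      have hg' : orderOf g.1 = p := by rw [Subgroup.orderOf_coe]; exact hg
      have hnil : IsNilpotent ((g.1 : Matrix (Fin n) (Fin n) K) - 1) :=
        (unip_iff p g.1).1 ⟨1, by rw [pow_one]; exact hg'⟩
      obtain ⟨μ', hpos, hsum, hk⟩ := exists_type_matrix _ hnil
      let μ : Nat.Partition n := ⟨μ', fun {i} hi => hpos i hi, hsum⟩
      have hQμ : Q μ := (hRQ g.1 μ hnil hk).1 hg'
      refine ⟨⟨μ, hQμ⟩, ?_⟩
      apply Subtype.ext
      show ConjClasses.mk (G μ) = ConjClasses.mk g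
      rw [ConjClasses.mk_eq_mk_iff_isConj]
      obtain ⟨M, hM⟩ := matrix_conj_of_mkap_eq _ _ hnil (hG1 μ) (fun k => by
        rw [hk k, hG2 μ k])
      exact (S2587.conj_of_gl_conj hK g (G μ) (isConj_of_sub_one g.1 (G μ).1 M hM)).symm
  have h2 : Nat.card {μ : Nat.Partition n // Q μ} =
      (Finset.univ.filter (fun μ : Nat.Partition n => ∀ a ∈ μ.parts, a ≤ p)).card - 1 := by
    rw [hQ, Nat.card_eq_fintype_card, Fintype.card_subtype]
    have h3 : Finset.univ.filter (fun μ : Nat.Partition n => (∀ a ∈ μ.parts, a ≤ p) ∧ μ ≠ S2570.ones n) =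
        (Finset.univ.filter (fun μ : Nat.Partition n => ∀ a ∈ μ.parts, a ≤ p)).erase (S2570.ones n) := by
      ext μ
      simp only [Finset.mem_filter, Finset.mem_univ, true_and, Finset.mem_erase]
      tauto
    rw [h3, Finset.card_erase_of_mem]
    simp only [Finset.mem_filter, Finset.mem_univ, true_and]
    intro a ha
    rw [Multiset.eq_of_mem_replicate ha]
    exact hp
  rw [← h2]
  exact (Nat.card_congr (Equiv.ofBijective Ψ hΨ)).symm

/-- Number of conjugacy classes of elements of order p in the general unitary group GU_n(q), q a power of p: every unipotent Jordan type occurs and the classes correspond to the partitions of n with all parts at most p other than the all-ones partition, exactly as in GL_n; so there are (number of partitions of n with parts ≤ p) − 1 classes. -/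
theorem result {K : Type*} [Field K] [Fintype K] {p q n : ℕ} [Fact p.Prime] [CharP K p] (hK : Fintype.card K = q ^ 2) : Nat.card {C : ConjClasses ↥(Cfsg.GU n K q) // ∃ g : ↥(Cfsg.GU n K q), ConjClasses.mk g = C ∧ orderOf g = p} = (Finset.univ.filter (fun μ : Nat.Partition n => ∀ a ∈ μ.parts, a ≤ p)).card - 1 := by
  exact main hK

end Cfsg.Agent.S2642
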