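import Cfsg.Statements.S2646
-- import your own Cfsg.Agent.* helpers here
import Cfsg.Agent.Lib.Helper15.GUCentD

set_option autoImplicit false
open Cfsg

namespace Cfsg.Agent.S2646


open Cfsg.Agent.S2581 Cfsg.Agent.Lib.Helper14 Cfsg.Agent.Lib.Helper15.GUCent in
lemma card_GU_int {K : Type*} [Field K] [Fintype K] {q : ℕ} (hK : Fintype.card K = q ^ 2)
    (m : ℕ) : (Nat.card ↥(Cfsg.GU m K q) : ℤ) = (q : ℤ) ^ (m * (m - 1) / 2) *
      ∏ j : Fin m, ((q : ℤ) ^ ((j : ℕ) + 1) - (-1) ^ ((j : ℕ) + 1)) := by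
  classical
  rw [card_GU hK m, Fin.prod_univ_eq_prod_range (fun j => (q : ℤ) ^ (j + 1) - (-1) ^ (j + 1)) m,
    Nat.cast_mul, Nat.cast_pow, Nat.cast_prod]
  congr 1
  apply Finset.prod_congr rfl
  intro i _
  have hq : 1 ≤ q ^ (i + 1) := Nat.one_le_pow _ _ (by have := herm_two_le hK; omega)
  split_ifs with h
  · rw [Odd.neg_one_pow h.add_one]
    push_cast
    ring
  · rw [Even.neg_one_pow (Nat.not_even_iff_odd.1 h).add_one, Nat.cast_sub hq]
    push_cast
    ring

/-- Order of the centraliser in the general unitary group GU_n(q) of a unipotent element of given Jordan type: if u ∈ GU_n(q) (isometries of Σ u_i v_i^q over the field with q² elements) is similar to the unipotent matrix with a_i Jordan blocks of size i (all sizes at least 1), then its centraliser in GU_n(q) has order q^γ · Π_i |GU_(a_i)(q)| with γ = 2 Σ_(i<j) i a_i a_j + Σ_i (i − 1) a_i², the same exponent as in GL_n(q), where |GU_a(q)| = q^(a(a−1)/2) Π_(k=1)^a (q^k − (−1)^k). -/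
theorem result {K : Type*} [Field K] [Fintype K] {q n t : ℕ} (hK : Fintype.card K = q ^ 2) (d : Fin t → ℕ) (hd : ∀ k, 1 ≤ d k) (e : ((k : Fin t) × Fin (d k)) ≃ Fin n) (u : ↥(Cfsg.GU n K q)) (hu : IsConj (Matrix.reindex e e (Cfsg.jordanTypeMatrix d K)) ((u : GL (Fin n) K) : Matrix (Fin n) (Fin n) K)) : (Nat.card ↥(Subgroup.centralizer ({u} : Set ↥(Cfsg.GU n K q))) : ℤ) = (q : ℤ) ^ (2 * (∑ i ∈ Finset.range (Finset.univ.sup d + 1), ∑ j ∈ Finset.range (Finset.univ.sup d + 1), if i < j then i * (Finset.univ.filter (fun k : Fin t => d k = i)).card * (Finset.univ.filter (fun k : Fin t => d k = j)).card else 0) + ∑ i ∈ Finset.range (Finset.univ.sup d + 1), (i - 1) * (Finset.univ.filter (fun k : Fin t => d k = i)).card ^ 2) * ∏ i ∈ Finset.range (Finset.univ.sup d + 1), ((q : ℤ) ^ ((Finset.univ.filter (fun k : Fin t => d k = i)).card * ((Finset.univ.filter (fun k : Fin t => d k = i)).card - 1) / 2) * ∏ j : Fin (Finset.univ.filter (fun k : Fin t => d k = i)).card,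 ((q : ℤ) ^ ((j : ℕ) + 1) - (-1) ^ ((j : ℕ) + 1))) := by
  letI : StarRing K := Cfsg.Agent.S2643.frobStar hK
  have hstar : ∀ x : K, star x = x ^ q := fun x => rfl
  have h := Cfsg.Agent.Lib.Helper15.GUCent.card_centralizer_nat d hK hstar hd e u hu
  rw [h, Nat.cast_mul, Nat.cast_pow, Nat.cast_prod]
  congr 1
  apply Finset.prod_congr rfl
  intro i _
  rw [card_GU_int hK]
  rfl

end Cfsg.Agent.S2646
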