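import Cfsg.Statements.S2652
import Cfsg.Agent.Lib.Helper28.TCFi23SylMain

set_option autoImplicit false
set_option maxRecDepth 100000
open Cfsg

namespace Cfsg.Agent.S2652

theorem factorization_two : (4089470473293004800 : ℕ).factorization 2 = 18 := by
  have e : (4089470473293004800 : ℕ) = 2 ^ 18 * 15600091832325 := by norm_num
  rw [e, Nat.factorization_mul (by norm_num) (by norm_num), Nat.Prime.factorization_pow Nat.prime_two]
  have h0 : (15600091832325 : ℕ).factorization 2 = 0 := Nat.factorization_eq_zero_of_not_dvd (by norm_num)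
  simp [h0]

/-- Let T be a Sylow 2-subgroup of the Fischer group Fi₂₃ (the finitely presented group `Spor.Fi23`; T has order 2¹⁸). Then every elementary abelian subgroup of Fi₂₃ contained in T and normal in T has order at most 2¹¹, and there is exactly one such subgroup of order 2¹¹. -/
theorem result
    (T : Sylow 2 Cfsg.Spor.Fi23) :
    (∀ A : Subgroup Cfsg.Spor.Fi23, A ≤ T → (A.subgroupOf T).Normal → Cfsg.IsElementaryAbelian 2 A →
        Nat.card A ≤ 2 ^ 11) ∧
    ∃! A : Subgroup Cfsg.Spor.Fi23, A ≤ T ∧ (A.subgroupOf T).Normal ∧ Cfsg.IsElementaryAbelian 2 A ∧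
        Nat.card A = 2 ^ 11 := by
  obtain ⟨S, V, K, hS, hVS, hV, hVc, hV2, hVn, hK, hJ⟩ := Cfsg.Agent.Lib.Helper28.TCFi23SylMain.core
  obtain ⟨hfin, hcard, _⟩ := Cfsg.Agent.Lib.Helper28.TCFi23Model.exists_model
  haveI : Finite Cfsg.Spor.Fi23 := hfin
  have hfac : (Nat.card Cfsg.Spor.Fi23).factorization 2 = 18 := by
    have : Nat.card Cfsg.Spor.Fi23 = 4089470473293004800 := hcard
    rw [this]; exact factorization_two
  exact Cfsg.Agent.Lib.Helper28.Syl2Abs.main S V K 18 11 hS hfac hVS hV hVc hV2 hVn hK hJ T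

end Cfsg.Agent.S2652
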