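import Cfsg.Statements.S2665
-- import your own Cfsg.Agent.* helpers here

set_option autoImplicit false
open scoped MatrixGroups
open Cfsg

namespace Cfsg.Agent.S2665

open Polynomial

section poly
variable {K : Type*} [Field K] [IsAlgClosed K]

/-- Artin–Schreier-type equations are solvable in an algebraically closed field. -/
theorem exists_AS (q : ℕ) (hq : 2 ≤ q) (a : K) : ∃ c : K, c ^ q - c = a := by
  have hdeg : (X ^ q - X - C a : K[X]).natDegree = q := by
    rw [natDegree_sub_C]
    exact FiniteField.X_pow_card_sub_X_natDegree_eq K (by omega)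
  have hne : (X ^ q - X - C a : K[X]).degree ≠ 0 := by
    have : 0 < (X ^ q - X - C a : K[X]).natDegree := by omega
    exact ne_of_gt (natDegree_pos_iff_degree_pos.mp this)
  obtain ⟨c, hc⟩ := IsAlgClosed.exists_root _ hne
  refine ⟨c, ?_⟩
  simp only [IsRoot.def, eval_sub, eval_pow, eval_X, eval_C] at hc
  exact sub_eq_zero.mp hc

/-- A polynomial without constant term, with nonzero linear coefficient and of degree at least two
has a nonzero root. -/
theorem exists_ne_zero_root (P : K[X]) (h0 : P.coeff 0 = 0) (h1 : P.coeff 1 ≠ 0)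
    (h2 : 2 ≤ P.natDegree) : ∃ t : K, t ≠ 0 ∧ P.eval t = 0 := by
  have hP : P = P.divX * X := by
    have := divX_mul_X_add P
    rw [h0, C_0, add_zero] at this
    exact this.symm
  have hc0 : P.divX.coeff 0 = P.coeff 1 := by rw [coeff_divX]
  have hdeg : P.divX.natDegree = P.natDegree - 1 := natDegree_divX_eq_natDegree_tsub_one
  have hne : P.divX.degree ≠ 0 := by
    have : 0 < P.divX.natDegree := by omega
    exact ne_of_gt (natDegree_pos_iff_degree_pos.mp this)
  obtain ⟨t, ht⟩ := IsAlgClosed.exists_root _ hne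
  refine ⟨t, ?_, ?_⟩
  · rintro rfl
    rw [IsRoot.def, ← coeff_zero_eq_eval_zero, hc0] at ht
    exact h1 ht
  · rw [hP, eval_mul, ht, zero_mul]

/-- the polynomials expressing the coefficients of a fixed vector -/
noncomputable def cpoly (q : ℕ) (a : ℕ → K) : ℕ → K[X]
  | 0 => C (a 0) * X ^ q
  | (i+1) => (cpoly q a i) ^ q + C (a (i+1)) * X ^ q

omit [IsAlgClosed K] in
theorem X_pow_dvd_cpoly (q : ℕ) (hq : 2 ≤ q) (a : ℕ → K) (i : ℕ) : X ^ q ∣ cpoly q a i := by
  induction i with
  | zero => exact Dvd.intro_left _ rfl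
  | succ i ih =>
    rw [cpoly]
    apply dvd_add
    · exact dvd_pow ih (by omega)
    · exact Dvd.intro_left _ rfl

omit [IsAlgClosed K] in
theorem cpoly_eq_zero (q : ℕ) (hq : 2 ≤ q) (a : ℕ → K) :
    ∀ i, cpoly q a i = 0 → ∀ j ≤ i, a j = 0 := by
  intro i
  induction i with
  | zero =>
    intro h j hj
    obtain rfl : j = 0 := by omega
    rw [cpoly] at h
    have := congrArg (fun P : K[X] => P.coeff q) h
    simpa using this
  | succ i ih =>
    intro h j hj
    rw [cpoly] at h
    obtain ⟨D, hD⟩ := X_pow_dvd_cpoly q hq a i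
    have hcoef : ((cpoly q a i) ^ q).coeff q = 0 := by
      rw [hD, mul_pow, ← pow_mul, coeff_X_pow_mul', if_neg]
      have : q < q * q := by nlinarith
      omega
    have h1 := congrArg (fun P : K[X] => P.coeff q) h
    simp only [coeff_add, hcoef, zero_add, coeff_C_mul, coeff_X_pow, if_pos, mul_one, coeff_zero] at h1
    have h2 : cpoly q a i = 0 := by
      rw [h1, C_0, zero_mul, add_zero] at h
      exact pow_eq_zero_iff (by omega) |>.mp h
    rcases Nat.lt_or_ge j (i + 1) with hlt | hge
    · exact ih h2 j (by omega)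
    · obtain rfl : j = i + 1 := by omega
      exact h1

theorem exists_coeffs (q : ℕ) (hq : 2 ≤ q) (a : ℕ → K) (m : ℕ) (ha : ∃ j ≤ m, a j ≠ 0) :
    ∃ c : ℕ → K, c m ≠ 0 ∧ c 0 = a 0 * (c m) ^ q ∧
      ∀ i < m, c (i + 1) = (c i) ^ q + a (i + 1) * (c m) ^ q := by
  have hne : cpoly q a m ≠ 0 := by
    intro h
    obtain ⟨j, hj, hj'⟩ := ha
    exact hj' (cpoly_eq_zero q hq a m h j hj)
  obtain ⟨D, hD⟩ := X_pow_dvd_cpoly q hq a m
  have hdegc : q ≤ (cpoly q a m).natDegree := by
    have := natDegree_le_of_dvd (X_pow_dvd_cpoly q hq a m) hne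
    rwa [natDegree_X_pow] at this
  have hc0 : (cpoly q a m).coeff 0 = 0 := by
    rw [hD, coeff_X_pow_mul', if_neg (by omega)]
  have hc1 : (cpoly q a m).coeff 1 = 0 := by
    rw [hD, coeff_X_pow_mul', if_neg (by omega)]
  have hP0 : (cpoly q a m - X).coeff 0 = 0 := by
    rw [coeff_sub, hc0, coeff_X_zero, sub_zero]
  have hP1 : (cpoly q a m - X).coeff 1 ≠ 0 := by
    rw [coeff_sub, hc1, coeff_X_one, zero_sub]
    exact neg_ne_zero.mpr one_ne_zero
  have hP2 : 2 ≤ (cpoly q a m - X).natDegree := by
    rw [natDegree_sub_eq_left_of_natDegree_lt]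
    · omega
    · rw [natDegree_X]; omega
  obtain ⟨t, ht0, ht⟩ := exists_ne_zero_root _ hP0 hP1 hP2
  rw [eval_sub, eval_X, sub_eq_zero] at ht
  refine ⟨fun i => (cpoly q a i).eval t, ?_, ?_, ?_⟩
  · show (cpoly q a m).eval t ≠ 0
    rw [ht]; exact ht0
  · show (cpoly q a 0).eval t = a 0 * ((cpoly q a m).eval t) ^ q
    rw [ht, cpoly]
    simp
  · intro i _
    show (cpoly q a (i + 1)).eval t = ((cpoly q a i).eval t) ^ q + a (i + 1) * ((cpoly q a m).eval t) ^ q
    rw [ht, cpoly]
    simp

end poly

section semilin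
variable {K : Type*} [Field K] [IsAlgClosed K] {q : ℕ} {σ : K →+* K}
variable {V : Type*} [AddCommGroup V] [Module K V]

/-- An injective `q`-semilinear endomorphism of a nonzero finite-dimensional space over an algebraically
closed field has a nonzero fixed vector. -/
theorem exists_fixed_ne_zero [FiniteDimensional K V] (hq : 2 ≤ q) (hσ : ∀ c, σ c = c ^ q)
    (φ : V →ₛₗ[σ] V) (hinj : Function.Injective φ) (v : V) (hv : v ≠ 0) :
    ∃ w, w ≠ 0 ∧ φ w = w := by
  classical
  obtain ⟨b, hb⟩ : ∃ b : ℕ → V, b = fun i => φ^[i] v := ⟨_, rfl⟩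
  have hb0 : b 0 = v := by rw [hb]; rfl
  have hbs : ∀ i, b (i + 1) = φ (b i) := by
    intro i; rw [hb]; exact Function.iterate_succ_apply' φ i v
  -- find the first dependency
  obtain ⟨m, hLI, hnLI⟩ : ∃ m, LinearIndependent K (fun i : Fin m => b i) ∧
      ¬ LinearIndependent K (fun i : Fin (m + 1) => b i) := by
    by_contra hcon
    push Not at hcon
    have hall : ∀ m, LinearIndependent K (fun i : Fin m => b i) := by
      intro m
      induction m with
      | zero => exact linearIndependent_empty_type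
      | succ m ih => exact hcon m ih
    have := (hall (Module.finrank K V + 1)).fintype_card_le_finrank
    simp at this
  have hsnoc : (fun i : Fin (m + 1) => b i) = Fin.snoc (fun i : Fin m => b i) (b m) := by
    funext i
    refine Fin.lastCases ?_ (fun j => ?_) i
    · simp
    · simp
  rw [hsnoc, linearIndependent_finSnoc] at hnLI
  have hmem : b m ∈ Submodule.span K (Set.range (fun i : Fin m => b i)) := by
    by_contra h
    exact hnLI ⟨hLI, h⟩
  obtain ⟨a', ha'⟩ := (Submodule.mem_span_range_iff_exists_fun K).mp hmem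
  obtain ⟨a, ha⟩ : ∃ a : ℕ → K, a = fun i => if h : i < m then a' ⟨i, h⟩ else 0 := ⟨_, rfl⟩
  have hbm : b m = ∑ i ∈ Finset.range m, a i • b i := by
    rw [← ha', ← Fin.sum_univ_eq_sum_range (fun i => a i • b i) m]
    apply Finset.sum_congr rfl
    intro i _
    rw [ha]
    simp
  have hm0 : m ≠ 0 := by
    rintro rfl
    rw [Finset.range_zero, Finset.sum_empty, hb0] at hbm
    exact hv hbm
  obtain ⟨m', rfl⟩ : ∃ m', m = m' + 1 := ⟨m - 1, by omega⟩
  have hex : ∃ j ≤ m', a j ≠ 0 := by
    by_contra hcon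
    push Not at hcon
    have h0 : b (m' + 1) = 0 := by
      rw [hbm]
      apply Finset.sum_eq_zero
      intro i hi
      rw [hcon i (by have := Finset.mem_range.mp hi; omega), zero_smul]
    have h1 : φ^[m' + 1] v = φ^[m' + 1] 0 := by
      have : φ^[m' + 1] v = 0 := by rw [← h0, hb]
      rw [this]
      clear this h0 hbm ha' hmem hnLI hsnoc hLI
      induction (m' + 1) with
      | zero => rfl
      | succ k ih => rw [Function.iterate_succ_apply', ← ih, map_zero]
    exact hv ((hinj.iterate (m' + 1)) h1)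
  obtain ⟨c, hcm, hc0, hcs⟩ := exists_coeffs q hq a m' hex
  refine ⟨∑ i ∈ Finset.range (m' + 1), c i • b i, ?_, ?_⟩
  · intro h0
    rw [← Fin.sum_univ_eq_sum_range (fun i => c i • b i) (m' + 1)] at h0
    have := Fintype.linearIndependent_iff.mp hLI (fun i => c i) h0 (Fin.last m')
    exact hcm (by simpa using this)
  · have e1 : φ (∑ i ∈ Finset.range (m' + 1), c i • b i)
        = ∑ i ∈ Finset.range m', (c i) ^ q • b (i + 1)
          + (c m') ^ q • (∑ i ∈ Finset.range m', a (i + 1) • b (i + 1) + a 0 • b 0) := by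
      rw [map_sum, Finset.sum_range_succ]
      simp only [map_smulₛₗ, hσ, ← hbs]
      rw [hbm, Finset.sum_range_succ' (fun i => a i • b i)]
    have e2 : ∑ i ∈ Finset.range (m' + 1), c i • b i
        = ∑ i ∈ Finset.range m', ((c i) ^ q + (c m') ^ q * a (i + 1)) • b (i + 1)
          + ((c m') ^ q * a 0) • b 0 := by
      rw [Finset.sum_range_succ' (fun i => c i • b i), hc0, mul_comm (a 0)]
      congr 1
      apply Finset.sum_congr rfl
      intro i hi
      rw [hcs i (Finset.mem_range.mp hi), mul_comm (a (i + 1))]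
    rw [e1, e2]
    simp only [add_smul, Finset.sum_add_distrib, smul_add, Finset.smul_sum, mul_smul]
    abel

universe u

/-- An injective `q`-semilinear endomorphism of a finite-dimensional space over an algebraically closed
field: the fixed vectors span. -/
theorem span_fixed_eq_top (hq : 2 ≤ q) (hσ : ∀ c, σ c = c ^ q) :
    ∀ (d : ℕ) (V : Type u) [AddCommGroup V] [Module K V] [FiniteDimensional K V]
      (φ : V →ₛₗ[σ] V), Function.Injective φ → Module.finrank K V = d →
      Submodule.span K {w | φ w = w} = ⊤ := by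
  intro d
  induction d with
  | zero =>
    intro V _ _ _ φ _ hd
    have : Subsingleton V := Module.finrank_zero_iff.mp hd
    rw [eq_top_iff]
    intro x _
    rw [Subsingleton.elim x 0]
    exact zero_mem _
  | succ d ih =>
    intro V _ _ _ φ hinj hd
    obtain ⟨v, hv⟩ : ∃ v : V, v ≠ 0 := Module.finrank_pos_iff_exists_ne_zero.mp (by rw [hd]; omega)
    obtain ⟨v₁, hv₁, hfix⟩ := exists_fixed_ne_zero hq hσ φ hinj v hv
    obtain ⟨W, hWdef⟩ : ∃ W : Submodule K V, W = Submodule.span K {v₁} := ⟨_, rfl⟩
    have hmemW : ∀ x, x ∈ W ↔ ∃ c : K, c • v₁ = x := by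
      intro x; rw [hWdef]; exact Submodule.mem_span_singleton
    have hW : W ≤ W.comap φ := by
      intro x hx
      obtain ⟨c, rfl⟩ := (hmemW x).mp hx
      rw [Submodule.mem_comap, map_smulₛₗ, hfix]
      exact (hmemW _).mpr ⟨_, rfl⟩
    have hinj' : Function.Injective (W.mapQ W φ hW) := by
      rw [injective_iff_map_eq_zero]
      intro xbar hx
      obtain ⟨x, rfl⟩ := Submodule.Quotient.mk_surjective W xbar
      rw [Submodule.mapQ_apply, Submodule.Quotient.mk_eq_zero] at hx
      obtain ⟨c, hc⟩ := (hmemW _).mp hx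
      obtain ⟨c', hc'⟩ := IsAlgClosed.exists_pow_nat_eq c (by omega : 0 < q)
      have : φ (c' • v₁) = φ x := by
        rw [map_smulₛₗ, hσ, hc', hfix, hc]
      rw [Submodule.Quotient.mk_eq_zero, ← hinj this]
      exact (hmemW _).mpr ⟨_, rfl⟩
    have hdim : Module.finrank K (V ⧸ W) = d := by
      have h1 := Submodule.finrank_quotient_add_finrank W
      have h2 : Module.finrank K W = 1 := by rw [hWdef]; exact finrank_span_singleton hv₁
      omega
    have hIH := ih (V ⧸ W) (W.mapQ W φ hW) hinj' hdim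
    have hlift : ∀ wbar : V ⧸ W, W.mapQ W φ hW wbar = wbar → ∃ w, W.mkQ w = wbar ∧ φ w = w := by
      intro wbar hw
      obtain ⟨w₀, rfl⟩ := Submodule.Quotient.mk_surjective W wbar
      rw [Submodule.mapQ_apply] at hw
      have hmem : φ w₀ - w₀ ∈ W := by
        rw [← Submodule.Quotient.mk_eq_zero, Submodule.Quotient.mk_sub, hw, sub_self]
      obtain ⟨a, ha⟩ := (hmemW _).mp hmem
      obtain ⟨c, hc⟩ := exists_AS q hq (-a)
      refine ⟨w₀ + c • v₁, ?_, ?_⟩
      · rw [map_add]
        have : W.mkQ (c • v₁) = 0 := by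
          rw [Submodule.mkQ_apply, Submodule.Quotient.mk_eq_zero]
          exact (hmemW _).mpr ⟨_, rfl⟩
        rw [this, add_zero]; rfl
      · rw [map_add, map_smulₛₗ, hσ, hfix]
        have h1 : φ w₀ = w₀ + a • v₁ := by rw [ha]; abel
        rw [h1, add_assoc, ← add_smul]
        congr 2
        linear_combination hc
    have hWle : W ≤ Submodule.span K {w | φ w = w} := by
      rw [hWdef, Submodule.span_le]
      intro x hx
      rw [Set.mem_singleton_iff.mp hx]
      exact Submodule.subset_span hfix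
    have hmap : Submodule.map W.mkQ (Submodule.span K {w | φ w = w}) = ⊤ := by
      rw [eq_top_iff, ← hIH, Submodule.span_le]
      intro wbar hw
      obtain ⟨w, hw1, hw2⟩ := hlift wbar hw
      exact ⟨w, Submodule.subset_span hw2, hw1⟩
    have := (Submodule.map_mkQ_eq_top (p := W) (p' := Submodule.span K {w | φ w = w})).1 hmap
    rwa [sup_eq_right.mpr hWle] at this

end semilin

/-- The Lang–Steinberg Theorem for the general linear group. Let `K` be an algebraically closed field of prime characteristic `p`, let `q = p^f` with `f ≥ 1`, and let `σ` be the endomorphism of GL_n(K) raising every matrix entry to the `q`-th power. Then every element `g` of GL_n(K) can be written `g = x · σ(x)⁻¹` for some `x` in GL_n(K): the map `x ↦ x σ(x)⁻¹` is surjective. -/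
theorem result {K : Type*} [Field K] [IsAlgClosed K] (p : ℕ) [Fact p.Prime] [CharP K p]
    (f : ℕ) (hf : 1 ≤ f) (n : ℕ) (g : GL (Fin n) K) :
    ∃ x : GL (Fin n) K, g = x * (Matrix.GeneralLinearGroup.map (iterateFrobenius K p f) x)⁻¹ := by
  classical
  have hσ : ∀ c, iterateFrobenius K p f c = c ^ (p ^ f) := fun c => iterateFrobenius_def p f c
  have hq : 2 ≤ p ^ f := by
    have hp : 2 ≤ p := (Fact.out : p.Prime).two_le
    calc 2 ≤ p := hp
      _ = p ^ 1 := (pow_one p).symm
      _ ≤ p ^ f := Nat.pow_le_pow_right (by omega) hf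
  let F₀ : (Fin n → K) →ₛₗ[iterateFrobenius K p f] (Fin n → K) :=
    { toFun := fun v i => iterateFrobenius K p f (v i)
      map_add' := by intro v w; funext i; simp
      map_smul' := by intro c v; funext i; simp }
  let φ : (Fin n → K) →ₛₗ[iterateFrobenius K p f] (Fin n → K) :=
    (Matrix.toLin' (g : Matrix (Fin n) (Fin n) K)).comp F₀
  have hφ : ∀ v, φ v = (g : Matrix (Fin n) (Fin n) K).mulVec (fun i => iterateFrobenius K p f (v i)) := by
    intro v; rfl
  have hinj : Function.Injective φ := by
    intro v w hvw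
    rw [hφ, hφ] at hvw
    have h1 := congrArg (fun u => ((g⁻¹ : GL (Fin n) K) : Matrix (Fin n) (Fin n) K).mulVec u) hvw
    simp only [Matrix.mulVec_mulVec] at h1
    rw [← Units.val_mul, inv_mul_cancel, Units.val_one, Matrix.one_mulVec, Matrix.one_mulVec] at h1
    funext i
    exact (iterateFrobenius K p f).injective (congrFun h1 i)
  have hspan := span_fixed_eq_top hq hσ n (Fin n → K) φ hinj (by simp)
  obtain ⟨b, hbS, hbspan, hli⟩ := exists_linearIndependent K {w | φ w = w}
  rw [hspan] at hbspan
  have hfin : b.Finite := hli.setFinite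
  let _ : Fintype ↥b := hfin.fintype
  let B : Module.Basis ↥b K (Fin n → K) := Module.Basis.mk hli (by rw [Subtype.range_coe, hbspan])
  have hcard : Fintype.card ↥b = n := by
    rw [← Module.finrank_eq_card_basis B]; simp
  let e : Fin n ≃ ↥b := (Fintype.equivFinOfCardEq hcard).symm
  obtain ⟨x₀, hx₀⟩ : ∃ x₀ : Matrix (Fin n) (Fin n) K, x₀ = Matrix.of (fun i j => (e j : Fin n → K) i) :=
    ⟨_, rfl⟩
  have hunit : IsUnit x₀ := by
    rw [← Matrix.linearIndependent_cols_iff_isUnit]
    have : x₀.col = fun j => ((e j : ↥b) : Fin n → K) := by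
      funext j i
      rw [hx₀]; rfl
    rw [this]
    exact hli.comp e e.injective
  have hfix : (g : Matrix (Fin n) (Fin n) K) * x₀.map (iterateFrobenius K p f) = x₀ := by
    ext i j
    have h1 : φ (e j : Fin n → K) = (e j : Fin n → K) := hbS (e j).2
    have h2 := congrFun h1 i
    rw [hφ] at h2
    rw [Matrix.mul_apply, hx₀]
    simpa [Matrix.mulVec, dotProduct] using h2
  refine ⟨hunit.unit, ?_⟩
  rw [eq_mul_inv_iff_mul_eq]
  apply Units.ext
  rw [Units.val_mul]
  have : ((Matrix.GeneralLinearGroup.map (iterateFrobenius K p f) hunit.unit : GL (Fin n) K) :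
      Matrix (Fin n) (Fin n) K) = x₀.map (iterateFrobenius K p f) := rfl
  rw [this, hfix]; rfl

end Cfsg.Agent.S2665
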