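import Cfsg.Statements.S2666
-- import your own Cfsg.Agent.* helpers here

set_option autoImplicit false
open Cfsg

namespace Cfsg.Agent.S2666

theorem fix_pow {X : Type*} [Group X] (σ : MulAut X) (e : ℕ) (x : X) (h : σ x = x) : (σ ^ e) x = x := by
  induction e with
  | zero => simp
  | succ n ih => rw [pow_succ, MulAut.mul_apply, h, ih]

theorem prod_range {X : Type*} [Group X] (σ : MulAut X) (g a : X) (ha : g = a * (σ a)⁻¹) (d : ℕ) :
    ((List.range d).map (fun i => (σ ^ i) g)).prod = a * ((σ ^ d) a)⁻¹ := by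
  induction d with
  | zero => simp
  | succ n ih =>
    rw [List.range_succ, List.map_append, List.prod_append, ih]
    simp only [List.map_cons, List.map_nil, List.prod_cons, List.prod_nil, mul_one]
    rw [ha, map_mul, map_inv, pow_succ', MulAut.mul_apply]
    have : (σ ^ n) (σ a) = σ ((σ ^ n) a) := by
      rw [← MulAut.mul_apply, ← MulAut.mul_apply, ← pow_succ, ← pow_succ']
    rw [this]
    group

theorem comm_pow {X : Type*} [Group X] (σ : MulAut X) (e : ℕ) (y : X) : (σ ^ e) (σ y) = σ ((σ ^ e) y) := by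
  rw [← MulAut.mul_apply, ← MulAut.mul_apply, ← pow_succ, ← pow_succ']

theorem x_fixed {X : Type*} [Group X] (σ : MulAut X) (e : ℕ) (g a : X) (hgG : (σ ^ e) g = g) (ha : g = a * (σ a)⁻¹) :
    σ (((σ ^ e) a)⁻¹ * a) = ((σ ^ e) a)⁻¹ * a := by
  rw [ha, map_mul, map_inv, comm_pow] at hgG
  rw [map_mul, map_inv]
  calc (σ ((σ ^ e) a))⁻¹ * σ a = ((σ ^ e) a)⁻¹ * ((σ ^ e) a * (σ ((σ ^ e) a))⁻¹) * σ a := by group
    _ = ((σ ^ e) a)⁻¹ * (a * (σ a)⁻¹) * σ a := by rw [hgG]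
    _ = ((σ ^ e) a)⁻¹ * a := by group

/-- Shintani descent, in an abstract form. Let `σ` be an automorphism of a group `X` such that the maps `a ↦ a·σ(a)⁻¹` and `a ↦ a·σᵉ(a)⁻¹` are surjective on `X` (the Lang–Steinberg property, which holds when `X` is a connected algebraic group and `σ` a Steinberg endomorphism), where `e ≥ 1`. Write `G` for the subgroup of fixed points of `σᵉ` and `H` for the subgroup of fixed points of `σ`. The `G`-conjugacy classes in the coset `G σ` of the semidirect product of `G` by `σ` correspond to the orbits of `G` on itself under twisted conjugation `g ↦ k g σ(k)⁻¹`, and the `e`-th power of `g σ` has `G`-part the norm `g σ(g) ⋯ σ^(e-1)(g)`. For `g` in `G` and any `a` with `g = a σ(a)⁻¹`, put `x = σᵉ(a)⁻¹ a`. Then: (1) `x` lies in `H`, and `a⁻¹ · (g σ(g) ⋯ σ^(e-1)(g)) · a = x`; (2) for `g, g'` in `G` with such elements `a, b` and `x, x'`, the elements `g, g'` are twisted-conjugate under `G` if and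 only if `x, x'` are conjugate in `H`; (3) every element of `H` arises as such an `x`. So `g ↦ x` induces a well-defined bijection from the twisted `G`-classes of `G` onto the conjugacy classes of `H` (the Shintani map). -/
theorem result {X : Type*} [Group X] (σ : MulAut X) (e : ℕ) (he : 1 ≤ e)
    (hL : ∀ g : X, ∃ a : X, g = a * (σ a)⁻¹) (hLe : ∀ g : X, ∃ a : X, g = a * ((σ ^ e) a)⁻¹) :
    (∀ g ∈ (MulEquiv.toMonoidHom (σ ^ e)).eqLocus (MonoidHom.id X), ∀ a : X, g = a * (σ a)⁻¹ →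
        ((σ ^ e) a)⁻¹ * a ∈ (MulEquiv.toMonoidHom σ).eqLocus (MonoidHom.id X) ∧
          a⁻¹ * ((List.range e).map (fun i => (σ ^ i) g)).prod * a = ((σ ^ e) a)⁻¹ * a) ∧
    (∀ g ∈ (MulEquiv.toMonoidHom (σ ^ e)).eqLocus (MonoidHom.id X), ∀ g' ∈ (MulEquiv.toMonoidHom (σ ^ e)).eqLocus (MonoidHom.id X), ∀ a b : X,
        g = a * (σ a)⁻¹ → g' = b * (σ b)⁻¹ →
          ((∃ k ∈ (MulEquiv.toMonoidHom (σ ^ e)).eqLocus (MonoidHom.id X), g' = k * g * (σ k)⁻¹) ↔
            (∃ h ∈ (MulEquiv.toMonoidHom σ).eqLocus (MonoidHom.id X), ((σ ^ e) b)⁻¹ * b = h * (((σ ^ e) a)⁻¹ * a) * h⁻¹))) ∧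
    (∀ x ∈ (MulEquiv.toMonoidHom σ).eqLocus (MonoidHom.id X), ∃ g ∈ (MulEquiv.toMonoidHom (σ ^ e)).eqLocus (MonoidHom.id X), ∃ a : X,
        g = a * (σ a)⁻¹ ∧ ((σ ^ e) a)⁻¹ * a = x) := by
  have memG : ∀ y : X, y ∈ (MulEquiv.toMonoidHom (σ ^ e)).eqLocus (MonoidHom.id X) ↔ (σ ^ e) y = y := by
    intro y; simp [MonoidHom.eqLocus]
  have memH : ∀ y : X, y ∈ (MulEquiv.toMonoidHom σ).eqLocus (MonoidHom.id X) ↔ σ y = y := by
    intro y; simp [MonoidHom.eqLocus]
  refine ⟨?_, ?_, ?_⟩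
  · intro g hg a ha
    rw [memG] at hg
    rw [memH]
    refine ⟨x_fixed σ e g a hg ha, ?_⟩
    rw [prod_range σ g a ha e]
    group
  · intro g hg g' hg' a b ha hb
    rw [memG] at hg hg'
    have hx := x_fixed σ e g a hg ha
    have hx' := x_fixed σ e g' b hg' hb
    constructor
    · rintro ⟨k, hk, hkg⟩
      rw [memG] at hk
      -- c = (k a)⁻¹ b ∈ H
      have hc : σ ((k * a)⁻¹ * b) = (k * a)⁻¹ * b := by
        rw [map_mul, map_inv, map_mul]
        have h1 : b * (σ b)⁻¹ = k * (a * (σ a)⁻¹) * (σ k)⁻¹ := by rw [← hb, ← ha, hkg]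
        calc (σ k * σ a)⁻¹ * σ b = (k * a)⁻¹ * (k * (a * (σ a)⁻¹) * (σ k)⁻¹)  * σ b := by group
          _ = (k * a)⁻¹ * (b * (σ b)⁻¹) * σ b := by rw [h1]
          _ = (k * a)⁻¹ * b := by group
      refine ⟨((k * a)⁻¹ * b)⁻¹, ?_, ?_⟩
      · rw [memH, map_inv, hc]
      · have hce := fix_pow σ e _ hc
        rw [map_mul, map_inv, map_mul, hk] at hce
        -- σ^e b = k * σ^e a * c
        have hb' : (σ ^ e) b = k * (σ ^ e) a * ((k * a)⁻¹ * b) := by
          rw [← hce]; group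
        rw [hb']
        group
    · rintro ⟨h, hh, hxx⟩
      rw [memH] at hh
      refine ⟨b * h * a⁻¹, ?_, ?_⟩
      · rw [memG, map_mul, map_mul, map_inv, fix_pow σ e h hh]
        calc (σ ^ e) b * h * ((σ ^ e) a)⁻¹
            = (σ ^ e) b * (h * (((σ ^ e) a)⁻¹ * a) * h⁻¹) * h * a⁻¹ := by group
          _ = (σ ^ e) b * (((σ ^ e) b)⁻¹ * b) * h * a⁻¹ := by rw [hxx]
          _ = b * h * a⁻¹ := by group
      · rw [hb, ha, map_mul, map_mul, map_inv, hh]
        group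
  · intro x hx
    rw [memH] at hx
    obtain ⟨c, hc⟩ := hLe x⁻¹
    have hxc : ((σ ^ e) c⁻¹)⁻¹ * c⁻¹ = x := by
      rw [map_inv, inv_inv]
      calc (σ ^ e) c * c⁻¹ = (c * ((σ ^ e) c)⁻¹)⁻¹ := by group
        _ = x := by rw [← hc, inv_inv]
    generalize c⁻¹ = d at hxc
    refine ⟨d * (σ d)⁻¹, ?_, d, rfl, hxc⟩
    rw [memG]
    have h1 : (σ ^ e) d = d * x⁻¹ := by
      rw [← hxc]; group
    rw [map_mul, map_inv, comm_pow, h1, map_mul, map_inv, hx]
    group

end Cfsg.Agent.S2666
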