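import Cfsg.Statements.S2668
-- import your own Cfsg.Agent.* helpers here

set_option autoImplicit false
open Cfsg

namespace Cfsg.Agent.S2668

theorem fix_pow {X : Type*} [Group X] (σ : MulAut X) (e : ℕ) (x : X) (h : σ x = x) : (σ ^ e) x = x := by
  induction e with
  | zero => simp
  | succ n ih => rw [pow_succ, MulAut.mul_apply, h, ih]

theorem prod_range {X : Type*} [Group X] (σ : MulAut X) (g a : X) (ha : g = a * (σ a)⁻¹) (d : ℕ) :
    ((List.range d).map (fun i => (σ ^ i) g)).prod = a * ((σ ^ d) a)⁻¹ := by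
  induction d with
  | zero => simp
  | succ n ih =>
    rw [List.range_succ, List.map_append, List.prod_append, ih]
    simp only [List.map_cons, List.map_nil, List.prod_cons, List.prod_nil, mul_one]
    rw [ha, map_mul, map_inv, pow_succ', MulAut.mul_apply]
    have : (σ ^ n) (σ a) = σ ((σ ^ n) a) := by
      rw [← MulAut.mul_apply, ← MulAut.mul_apply, ← pow_succ, ← pow_succ']
    rw [this]
    group

theorem prod_fixed {X : Type*} [Group X] (σ τ : MulAut X) (hc : ∀ y, τ (σ y) = σ (τ y)) (g : X) (hg : τ g = g) (d : ℕ) :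
    τ (((List.range d).map (fun i => (σ ^ i) g)).prod) = ((List.range d).map (fun i => (σ ^ i) g)).prod := by
  have hci : ∀ i : ℕ, ∀ y, τ ((σ ^ i) y) = (σ ^ i) (τ y) := by
    intro i
    induction i with
    | zero => intro y; simp
    | succ n ih => intro y; rw [pow_succ', MulAut.mul_apply, hc, ih, ← MulAut.mul_apply, ← pow_succ']
  induction d with
  | zero => simp
  | succ n ih =>
    rw [List.range_succ, List.map_append, List.prod_append, map_mul, ih]
    simp only [List.map_cons, List.map_nil, List.prod_cons, List.prod_nil, mul_one]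
    rw [hci, hg]

theorem pow_descent {X : Type*} [Group X] (τ : MulAut X) (a : X) (hx : τ ((τ a)⁻¹ * a) = (τ a)⁻¹ * a) (j : ℕ) :
    ((τ ^ j) a)⁻¹ * a = ((τ a)⁻¹ * a) ^ j := by
  induction j with
  | zero => simp
  | succ n ih =>
    have h1 : (τ ^ (n + 1)) a = (τ ^ n) (τ a) := by
      rw [pow_succ, MulAut.mul_apply]
    have h2 : (τ ^ n) ((τ a)⁻¹ * a) = (τ a)⁻¹ * a := fix_pow τ n _ hx
    rw [map_mul, map_inv] at h2
    rw [h1, pow_succ', ← ih]
    calc ((τ ^ n) (τ a))⁻¹ * a = (((τ ^ n) (τ a))⁻¹ * (τ ^ n) a) * (((τ ^ n) a)⁻¹ * a) := by group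
      _ = ((τ a)⁻¹ * a) * (((τ ^ n) a)⁻¹ * a) := by rw [h2]

/-- Shintani descent and powers (abstract form). Let `σ` be an automorphism of a group `X`, `e ≥ 1` and `d ≥ 1`, let `g` be fixed by `σᵉ` and let `a` satisfy `g = a σ(a)⁻¹`, so that the Shintani map of `(X, σ, e)` sends the class of `g σ` to the class of `x = σᵉ(a)⁻¹ a`. Put `h = g σ(g) ⋯ σ^(d-1)(g)`, the part in `X` of the `d`-th power `(g σ)^d = h σ^d`. Then `h = a σ^d(a)⁻¹` (so `a` also serves for `h` with respect to `σ^d`), `h` is fixed by `(σ^d)ᵉ`, and `(σ^d)ᵉ(a)⁻¹ a = x^d`: the Shintani map of `(X, σ^d, e)` sends the class of `(g σ)^d` to the class of `x^d`. (When `d` divides `e`, the Shintani map of `(X, σ^d, e/d)` sends it to the class of `x` itself, since `(σ^d)^(e/d) = σᵉ`.) -/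
theorem result {X : Type*} [Group X] (σ : MulAut X) (e d : ℕ) (he : 1 ≤ e) (hd : 1 ≤ d)
    (g : X) (hg : g ∈ (MulEquiv.toMonoidHom (σ ^ e)).eqLocus (MonoidHom.id X)) (a : X) (ha : g = a * (σ a)⁻¹) :
    ((List.range d).map (fun i => (σ ^ i) g)).prod = a * ((σ ^ d) a)⁻¹ ∧
      ((List.range d).map (fun i => (σ ^ i) g)).prod ∈ (MulEquiv.toMonoidHom ((σ ^ d) ^ e)).eqLocus (MonoidHom.id X) ∧
      (((σ ^ d) ^ e) a)⁻¹ * a = (((σ ^ e) a)⁻¹ * a) ^ d := by
  have hgG : (σ ^ e) g = g := by simpa [MonoidHom.eqLocus] using hg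
  have hcomm : ∀ y, (σ ^ e) (σ y) = σ ((σ ^ e) y) := by
    intro y
    rw [← MulAut.mul_apply, ← MulAut.mul_apply, ← pow_succ, ← pow_succ']
  have hpe : (σ ^ d) ^ e = (σ ^ e) ^ d := by
    rw [← pow_mul, ← pow_mul, mul_comm]
  refine ⟨prod_range σ g a ha d, ?_, ?_⟩
  · have h1 := prod_fixed σ (σ ^ e) hcomm g hgG d
    have h2 := fix_pow (σ ^ e) d _ h1
    simpa [MonoidHom.eqLocus, hpe] using h2
  · rw [hpe]
    apply pow_descent
    -- σ^e fixes x
    have hx : σ (((σ ^ e) a)⁻¹ * a) = ((σ ^ e) a)⁻¹ * a := by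
      rw [ha, map_mul, map_inv, hcomm] at hgG
      rw [map_mul, map_inv]
      calc (σ ((σ ^ e) a))⁻¹ * σ a = ((σ ^ e) a)⁻¹ * ((σ ^ e) a * (σ ((σ ^ e) a))⁻¹) * σ a := by group
        _ = ((σ ^ e) a)⁻¹ * (a * (σ a)⁻¹) * σ a := by rw [hgG]
        _ = ((σ ^ e) a)⁻¹ * a := by group
    exact fix_pow σ e _ hx

end Cfsg.Agent.S2668
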