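import Cfsg.Statements.S2669
-- import your own Cfsg.Agent.* helpers here

set_option autoImplicit false
open Cfsg

namespace Cfsg.Agent.S2669

theorem fix_pow {X : Type*} [Group X] (σ : MulAut X) (e : ℕ) (x : X) (h : σ x = x) : (σ ^ e) x = x := by
  induction e with
  | zero => simp
  | succ n ih => rw [pow_succ, MulAut.mul_apply, h, ih]

theorem double_count {A B : Type*} [Finite A] [Finite B] (R : A → B → Prop) (c d : ℕ)
    (hc : ∀ a, Nat.card {b // R a b} = c) (hd : ∀ b, Nat.card {a // R a b} = d) :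
    Nat.card A * c = Nat.card B * d := by
  classical
  haveI := Fintype.ofFinite A
  haveI := Fintype.ofFinite B
  have e : (Σ a, {b // R a b}) ≃ (Σ b, {a // R a b}) :=
    { toFun := fun p => ⟨p.2.1, ⟨p.1, p.2.2⟩⟩
      invFun := fun p => ⟨p.2.1, ⟨p.1, p.2.2⟩⟩
      left_inv := fun _ => rfl
      right_inv := fun _ => rfl }
  have h1 : Nat.card (Σ a, {b // R a b}) = Nat.card A * c := by
    rw [Nat.card_sigma, Finset.sum_congr rfl (fun a _ => hc a), Finset.sum_const, Finset.card_univ,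
      smul_eq_mul, Nat.card_eq_fintype_card]
  have h2 : Nat.card (Σ b, {a // R a b}) = Nat.card B * d := by
    rw [Nat.card_sigma, Finset.sum_congr rfl (fun b _ => hd b), Finset.sum_const, Finset.card_univ,
      smul_eq_mul, Nat.card_eq_fintype_card]
  rw [← h1, ← h2, Nat.card_congr e]

theorem card_torsor {X : Type*} [Group X] (K : Subgroup X) (P : X → Prop) (s₀ : X)
    (h : ∀ t, P t ↔ s₀⁻¹ * t ∈ K) : Nat.card {t : X // P t} = Nat.card K := by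
  apply Nat.card_congr
  exact
    { toFun := fun t => ⟨s₀⁻¹ * t.1, (h t.1).mp t.2⟩
      invFun := fun y => ⟨s₀ * y.1, (h _).mpr (by simp)⟩
      left_inv := fun t => by simp
      right_inv := fun y => by simp }

/-- telescoping: if `w⁻¹ σ(w) ∈ Y` with `Y` σ-stable then `w⁻¹ σ^j(w) ∈ Y`. -/
theorem telescope {X : Type*} [Group X] (σ : MulAut X) (Y : Subgroup X) (hY : ∀ y : X, y ∈ Y ↔ σ y ∈ Y)
    (w : X) (hw : w⁻¹ * σ w ∈ Y) (j : ℕ) : w⁻¹ * (σ ^ j) w ∈ Y := by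
  induction j with
  | zero => simp
  | succ n ih =>
    have h1 : σ (w⁻¹ * (σ ^ n) w) ∈ Y := (hY _).mp ih
    have h2 : w⁻¹ * (σ ^ (n + 1)) w = (w⁻¹ * σ w) * σ (w⁻¹ * (σ ^ n) w) := by
      rw [pow_succ', MulAut.mul_apply, map_mul, map_inv]; group
    rw [h2]
    exact Y.mul_mem hw h1

/-- Shintani descent preserves numbers of fixed points on coset spaces (abstract form). Let `σ` be an automorphism of a group `X` and `e ≥ 1`; write `G` for the fixed points of `σᵉ` and `H` for the fixed points of `σ`, and assume `G` is finite. Let `Y` be a `σ`-stable subgroup of `X` on which the maps `a ↦ a σ(a)⁻¹` and `a ↦ a σᵉ(a)⁻¹` are surjective (as for a closed connected `σ`-stable subgroup of an algebraic group). Let `g ∈ G`, let `a ∈ X` satisfy `g = a σ(a)⁻¹` and put `x = σᵉ(a)⁻¹ a` (the Shintani image, an element of `H`). The element `g σ` of the semidirect product acts on the cosets of `Y ∩ G` in `G`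 by `k (Y ∩ G) ↦ g σ(k) (Y ∩ G)`, fixing that coset exactly when `k⁻¹ g σ(k) ∈ Y`; and `x` fixes the coset `h (Y ∩ H)` of `H` exactly when `h⁻¹ x h ∈ Y`. Then the two numbers of fixed cosets agree; in cross-multiplied form, `#{k ∈ G : k⁻¹ g σ(k) ∈ Y} · |Y ∩ H| = #{h ∈ H : h⁻¹ x h ∈ Y} · |Y ∩ G|`. -/
theorem result {X : Type*} [Group X] (σ : MulAut X) (e : ℕ) (he : 1 ≤ e)
    [Finite ↥((MulEquiv.toMonoidHom (σ ^ e)).eqLocus (MonoidHom.id X))]
    (Y : Subgroup X) (hY : ∀ y : X, y ∈ Y ↔ σ y ∈ Y)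
    (hYL : ∀ y ∈ Y, ∃ a ∈ Y, y = a * (σ a)⁻¹) (hYLe : ∀ y ∈ Y, ∃ a ∈ Y, y = a * ((σ ^ e) a)⁻¹)
    (g : X) (hg : g ∈ (MulEquiv.toMonoidHom (σ ^ e)).eqLocus (MonoidHom.id X)) (a : X) (ha : g = a * (σ a)⁻¹) :
    Nat.card {k : ↥((MulEquiv.toMonoidHom (σ ^ e)).eqLocus (MonoidHom.id X)) // (k : X)⁻¹ * g * σ k ∈ Y} *
        Nat.card ↥(Y ⊓ (MulEquiv.toMonoidHom σ).eqLocus (MonoidHom.id X)) =
      Nat.card {h : ↥((MulEquiv.toMonoidHom σ).eqLocus (MonoidHom.id X)) // (h : X)⁻¹ * (((σ ^ e) a)⁻¹ * a) * h ∈ Y} *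
        Nat.card ↥(Y ⊓ (MulEquiv.toMonoidHom (σ ^ e)).eqLocus (MonoidHom.id X)) := by
  classical
  set G : Subgroup X := (MulEquiv.toMonoidHom (σ ^ e)).eqLocus (MonoidHom.id X) with hGdef
  set H : Subgroup X := (MulEquiv.toMonoidHom σ).eqLocus (MonoidHom.id X) with hHdef
  set x : X := ((σ ^ e) a)⁻¹ * a with hxdef
  have memG : ∀ y : X, y ∈ G ↔ (σ ^ e) y = y := by
    intro y; simp [hGdef, MonoidHom.eqLocus]
  have memH : ∀ y : X, y ∈ H ↔ σ y = y := by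
    intro y; simp [hHdef, MonoidHom.eqLocus]
  have hHG : H ≤ G := by
    intro y hy
    rw [memH] at hy
    rw [memG]
    exact fix_pow σ e y hy
  haveI : Finite ↥H := Finite.of_injective (Subgroup.inclusion hHG) (Subgroup.inclusion_injective hHG)
  have hgG : (σ ^ e) g = g := (memG g).mp hg
  have hYinv : ∀ y : X, y ∈ Y → ∀ j : ℕ, (σ ^ j) y ∈ Y := by
    intro y hy j
    induction j with
    | zero => simpa using hy
    | succ n ih => rw [pow_succ', MulAut.mul_apply]; exact (hY _).mp ih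
  -- flatten the subtypes
  have eA : Nat.card {k : ↥G // (k : X)⁻¹ * g * σ k ∈ Y} = Nat.card {k : X // k ∈ G ∧ k⁻¹ * g * σ k ∈ Y} :=
    Nat.card_congr (Equiv.subtypeSubtypeEquivSubtypeInter (fun k : X => k ∈ G) (fun k : X => k⁻¹ * g * σ k ∈ Y))
  have eB : Nat.card {h : ↥H // (h : X)⁻¹ * x * h ∈ Y} = Nat.card {h : X // h ∈ H ∧ h⁻¹ * x * h ∈ Y} :=
    Nat.card_congr (Equiv.subtypeSubtypeEquivSubtypeInter (fun h : X => h ∈ H) (fun h : X => h⁻¹ * x * h ∈ Y))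
  haveI : Finite {k : X // k ∈ G ∧ k⁻¹ * g * σ k ∈ Y} :=
    Finite.of_equiv _ (Equiv.subtypeSubtypeEquivSubtypeInter (fun k : X => k ∈ G) (fun k : X => k⁻¹ * g * σ k ∈ Y))
  haveI : Finite {h : X // h ∈ H ∧ h⁻¹ * x * h ∈ Y} :=
    Finite.of_equiv _ (Equiv.subtypeSubtypeEquivSubtypeInter (fun h : X => h ∈ H) (fun h : X => h⁻¹ * x * h ∈ Y))
  rw [eA, eB]
  apply double_count (fun (k : {k : X // k ∈ G ∧ k⁻¹ * g * σ k ∈ Y}) (h : {h : X // h ∈ H ∧ h⁻¹ * x * h ∈ Y}) =>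
    (a * h.1)⁻¹ * k.1 ∈ Y)
  · -- fibre over k
    rintro ⟨k, hkG, hkY⟩
    rw [memG] at hkG
    rw [Nat.card_congr (Equiv.subtypeSubtypeEquivSubtypeInter (fun h : X => h ∈ H ∧ h⁻¹ * x * h ∈ Y)
      (fun h : X => (a * h)⁻¹ * k ∈ Y))]
    -- base point
    have hw : (a⁻¹ * k)⁻¹ * σ (a⁻¹ * k) ∈ Y := by
      have : (a⁻¹ * k)⁻¹ * σ (a⁻¹ * k) = k⁻¹ * g * σ k := by
        rw [ha, map_mul, map_inv]; group
      rw [this]; exact hkY
    obtain ⟨y, hyY, hy⟩ := hYL _ hw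
    have hwe := telescope σ Y hY (a⁻¹ * k) hw e
    have hh₀H : σ (a⁻¹ * k * y) = a⁻¹ * k * y := by
      have : σ (a⁻¹ * k) = (a⁻¹ * k) * ((a⁻¹ * k)⁻¹ * σ (a⁻¹ * k)) := by group
      rw [map_mul, this, hy]; group
    have hh₀x : (a⁻¹ * k * y)⁻¹ * x * (a⁻¹ * k * y) ∈ Y := by
      have : (a⁻¹ * k * y)⁻¹ * x * (a⁻¹ * k * y) = y⁻¹ * ((a⁻¹ * k)⁻¹ * (σ ^ e) (a⁻¹ * k)) * y := by
        rw [map_mul, map_inv, hkG, hxdef]; group
      rw [this]
      exact Y.mul_mem (Y.mul_mem (Y.inv_mem hyY) hwe) hyY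
    have hh₀R : (a * (a⁻¹ * k * y))⁻¹ * k ∈ Y := by
      have : (a * (a⁻¹ * k * y))⁻¹ * k = y⁻¹ := by group
      rw [this]; exact Y.inv_mem hyY
    apply card_torsor (Y ⊓ H) _ (a⁻¹ * k * y)
    intro t
    constructor
    · rintro ⟨⟨htH, htx⟩, htR⟩
      refine ⟨?_, H.mul_mem (H.inv_mem ((memH _).mpr hh₀H)) htH⟩
      have : (a⁻¹ * k * y)⁻¹ * t = ((a * (a⁻¹ * k * y))⁻¹ * k) * ((a * t)⁻¹ * k)⁻¹ := by group
      rw [this]
      exact Y.mul_mem hh₀R (Y.inv_mem htR)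
    · rintro ⟨htY, htH⟩
      have htH' : t ∈ H := by
        have h3 := H.mul_mem ((memH _).mpr hh₀H) htH
        have h4 : (a⁻¹ * k * y) * ((a⁻¹ * k * y)⁻¹ * t) = t := by group
        rwa [h4] at h3
      refine ⟨⟨htH', ?_⟩, ?_⟩
      · have : t⁻¹ * x * t = ((a⁻¹ * k * y)⁻¹ * t)⁻¹ * ((a⁻¹ * k * y)⁻¹ * x * (a⁻¹ * k * y)) * ((a⁻¹ * k * y)⁻¹ * t) := by
          group
        rw [this]
        exact Y.mul_mem (Y.mul_mem (Y.inv_mem htY) hh₀x) htY
      · have : (a * t)⁻¹ * k = ((a⁻¹ * k * y)⁻¹ * t)⁻¹ * ((a * (a⁻¹ * k * y))⁻¹ * k) := by group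
        rw [this]
        exact Y.mul_mem (Y.inv_mem htY) hh₀R
  · -- fibre over h
    rintro ⟨h, hhH, hhY⟩
    rw [memH] at hhH
    have hhG : (σ ^ e) h = h := fix_pow σ e h hhH
    rw [Nat.card_congr (Equiv.subtypeSubtypeEquivSubtypeInter (fun k : X => k ∈ G ∧ k⁻¹ * g * σ k ∈ Y)
      (fun k : X => (a * h)⁻¹ * k ∈ Y))]
    have hz : (a * h)⁻¹ * (σ ^ e) (a * h) ∈ Y := by
      have : (a * h)⁻¹ * (σ ^ e) (a * h) = (h⁻¹ * x * h)⁻¹ := by
        rw [map_mul, hhG, hxdef]; group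
      rw [this]; exact Y.inv_mem hhY
    obtain ⟨y, hyY, hy⟩ := hYLe _ hz
    have hk₀G : (σ ^ e) (a * h * y) = a * h * y := by
      have : (σ ^ e) (a * h) = (a * h) * ((a * h)⁻¹ * (σ ^ e) (a * h)) := by group
      rw [map_mul, this, hy]; group
    have hk₀Y : (a * h * y)⁻¹ * g * σ (a * h * y) ∈ Y := by
      have : (a * h * y)⁻¹ * g * σ (a * h * y) = y⁻¹ * σ y := by
        rw [ha, map_mul, map_mul, hhH]; group
      rw [this]
      exact Y.mul_mem (Y.inv_mem hyY) ((hY y).mp hyY)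
    have hk₀R : (a * h)⁻¹ * (a * h * y) ∈ Y := by
      have : (a * h)⁻¹ * (a * h * y) = y := by group
      rw [this]; exact hyY
    apply card_torsor (Y ⊓ G) _ (a * h * y)
    intro t
    constructor
    · rintro ⟨⟨htG, htY⟩, htR⟩
      refine ⟨?_, G.mul_mem (G.inv_mem ((memG _).mpr hk₀G)) htG⟩
      have : (a * h * y)⁻¹ * t = ((a * h)⁻¹ * (a * h * y))⁻¹ * ((a * h)⁻¹ * t) := by group
      rw [this]
      exact Y.mul_mem (Y.inv_mem hk₀R) htR
    · rintro ⟨htY, htG⟩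
      have htG' : t ∈ G := by
        have h3 := G.mul_mem ((memG _).mpr hk₀G) htG
        have h4 : (a * h * y) * ((a * h * y)⁻¹ * t) = t := by group
        rwa [h4] at h3
      refine ⟨⟨htG', ?_⟩, ?_⟩
      · have h5 : σ ((a * h * y)⁻¹ * t) = (σ (a * h * y))⁻¹ * σ t := by rw [map_mul, map_inv]
        have : t⁻¹ * g * σ t = ((a * h * y)⁻¹ * t)⁻¹ * ((a * h * y)⁻¹ * g * σ (a * h * y)) * σ ((a * h * y)⁻¹ * t) := by
          rw [h5]; group
        rw [this]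
        exact Y.mul_mem (Y.mul_mem (Y.inv_mem htY) hk₀Y) ((hY _).mp htY)
      · have : (a * h)⁻¹ * t = ((a * h)⁻¹ * (a * h * y)) * ((a * h * y)⁻¹ * t) := by group
        rw [this]
        exact Y.mul_mem hk₀R htY

end Cfsg.Agent.S2669
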