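import Cfsg.Statements.S2670
-- import your own Cfsg.Agent.* helpers here
import Cfsg.Agent.S2577
import Cfsg.Agent.Lib.Helper15.PGLPrime
import Cfsg.Agent.Lib.Helper15.RotCount

set_option autoImplicit false
open Cfsg

namespace Cfsg.Agent.S2670

open Polynomial Module Cfsg.Agent.Lib.Helper15.SemisimpleConj Cfsg.Agent.Lib.Helper15.PGLInvol
  Cfsg.Agent.Lib.Helper15.PGLPrime Cfsg.Agent.Lib.Helper15.RotCount Cfsg.Agent.S2577

variable {F : Type*} [Field F] {n r : ℕ}

lemma tlin_pow (A : Matrix (Fin n) (Fin n) F) (k : ℕ) : tlin (A ^ k) = tlin A ^ k := by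
  unfold tlin; rw [map_pow]

lemma tlin_val_pow (g : GL (Fin n) F) (k : ℕ) : tlin (g ^ k).val = tlin g.val ^ k := by
  rw [Units.val_pow_eq_pow_val, tlin_pow]

lemma order_prime_iff (hr : r.Prime) (g : GL (Fin n) F) :
    orderOf (QuotientGroup.mk g : GL (Fin n) F ⧸ Subgroup.center (GL (Fin n) F)) = r ↔
      g ∉ Subgroup.center (GL (Fin n) F) ∧ g ^ r ∈ Subgroup.center (GL (Fin n) F) := by
  constructor
  · intro h
    constructor
    · intro hg
      have : (QuotientGroup.mk g : GL (Fin n) F ⧸ Subgroup.center (GL (Fin n) F)) = 1 :=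
        (QuotientGroup.eq_one_iff g).2 hg
      rw [this, orderOf_one] at h
      exact hr.ne_one h.symm
    · rw [← QuotientGroup.eq_one_iff, QuotientGroup.mk_pow, ← h, pow_orderOf_eq_one]
  · rintro ⟨h1, h2⟩
    have : Fact r.Prime := ⟨hr⟩
    apply orderOf_eq_prime
    · rw [← QuotientGroup.mk_pow]
      exact (QuotientGroup.eq_one_iff _).2 h2
    · intro h
      exact h1 ((QuotientGroup.eq_one_iff g).1 h)

lemma smul_one_pow {V : Type*} [AddCommGroup V] [Module F V] (c : F) (k : ℕ) :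
    (c • (1 : End F V)) ^ k = c ^ k • (1 : End F V) := by
  rw [_root_.smul_pow, one_pow]

lemma scalar_inj (hn : 1 ≤ n) (c d : F)
    (h : c • (1 : End F (Fin n → F)) = d • (1 : End F (Fin n → F))) : c = d := by
  have : Nonempty (Fin n) := ⟨⟨0, hn⟩⟩
  obtain ⟨v, hv⟩ := exists_ne (0 : Fin n → F)
  have h3 := congrArg (fun φ : End F (Fin n → F) => φ v) h
  simp only [LinearMap.smul_apply, End.one_apply] at h3
  exact smul_left_injective F hv h3

lemma tlin_val_ne_zero_smul (g : GL (Fin n) F) (hn : 1 ≤ n) (lam : F) (k : ℕ)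
    (h : tlin g.val ^ k = lam • (1 : End F (Fin n → F))) : lam ≠ 0 := by
  rintro rfl
  rw [zero_smul, ← tlin_val_pow] at h
  have h1 : (g ^ k).val = 0 := tlin_injective (by rw [h]; unfold tlin; rw [map_zero])
  have h3 := (g ^ k).isUnit
  rw [h1] at h3
  have : Nonempty (Fin n) := ⟨⟨0, hn⟩⟩
  exact not_isUnit_zero h3

/-- data attached to an element whose image has prime order -/
lemma pow_data (hn : 1 ≤ n) (hr : r.Prime) (g : GL (Fin n) F)
    (h : orderOf (QuotientGroup.mk g : GL (Fin n) F ⧸ Subgroup.center (GL (Fin n) F)) = r) :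
    (∃ lam : F, lam ≠ 0 ∧ tlin g.val ^ r = lam • (1 : End F (Fin n → F))) ∧
    ∀ c : F, tlin g.val ≠ c • (1 : End F (Fin n → F)) := by
  obtain ⟨h1, h2⟩ := (order_prime_iff hr g).1 h
  obtain ⟨lam, hlam⟩ := (mem_center_iff' _).1 h2
  rw [tlin_val_pow] at hlam
  exact ⟨⟨lam, tlin_val_ne_zero_smul g hn lam r hlam, hlam⟩,
    fun c hc => h1 ((mem_center_iff' g).2 ⟨c, hc⟩)⟩

/-- conjugacy in the quotient gives an intertwiner up to a scalar -/
lemma intertwine_of_isConj (hn : 1 ≤ n) (g g' : GL (Fin n) F)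
    (h : IsConj (QuotientGroup.mk g : GL (Fin n) F ⧸ Subgroup.center (GL (Fin n) F))
      (QuotientGroup.mk g')) :
    ∃ (e : (Fin n → F) ≃ₗ[F] (Fin n → F)) (ζ : F), ζ ≠ 0 ∧
      ∀ v, tlin g'.val (e v) = ζ • e (tlin g.val v) := by
  have : Nonempty (Fin n) := ⟨⟨0, hn⟩⟩
  obtain ⟨c, hc⟩ := isConj_iff.1 h
  obtain ⟨P, rfl⟩ := QuotientGroup.mk_surjective c
  rw [← QuotientGroup.mk_inv, ← QuotientGroup.mk_mul, ← QuotientGroup.mk_mul,
    QuotientGroup.eq] at hc
  obtain ⟨ζ, hζ⟩ := (mem_center_iff' _).1 hc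
  have hζ0 : ζ ≠ 0 := by
    rintro rfl
    rw [zero_smul] at hζ
    have h1 : ((P * g * P⁻¹)⁻¹ * g').val = 0 := tlin_injective (by rw [hζ]; unfold tlin; rw [map_zero])
    have h3 := ((P * g * P⁻¹)⁻¹ * g').isUnit
    rw [h1] at h3
    exact not_isUnit_zero h3
  have h1 : tlin g'.val = ζ • (tlin (P * g * P⁻¹).val) := by
    have h3 : g' = (P * g * P⁻¹) * ((P * g * P⁻¹)⁻¹ * g') := by group
    conv_lhs => rw [h3]
    rw [tlin_val_mul, hζ, mul_smul_comm, mul_one]
  refine ⟨glEquiv P, ζ, hζ0, fun v => ?_⟩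
  rw [h1, LinearMap.smul_apply, glEquiv_apply, glEquiv_apply, ← End.mul_apply, ← End.mul_apply,
    ← tlin_val_mul, ← tlin_val_mul]
  congr 3
  group

section inter

variable {V : Type*} [AddCommGroup V] [Module F V]

lemma intertwine_pow (T T' : End F V) (e : V ≃ₗ[F] V) (ζ : F)
    (h : ∀ v, T' (e v) = ζ • e (T v)) (k : ℕ) :
    ∀ v, (T' ^ k) (e v) = ζ ^ k • e ((T ^ k) v) := by
  induction k with
  | zero => intro v; simp
  | succ k ih =>
    intro v
    have h1 : (T' ^ (k + 1)) (e v) = (T' ^ k) (T' (e v)) := by rw [pow_succ, End.mul_apply]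
    have h2 : (T ^ (k + 1)) v = (T ^ k) (T v) := by rw [pow_succ, End.mul_apply]
    rw [h1, h2, h, map_smul, ih, smul_smul, pow_succ, mul_comm]

lemma intertwine_eig (T T' : End F V) (e : V ≃ₗ[F] V) (ζ : F) (hζ : ζ ≠ 0)
    (h : ∀ v, T' (e v) = ζ • e (T v)) (μ : F) :
    finrank F (eig T' (ζ * μ)) = finrank F (eig T μ) := by
  have : eig T' (ζ * μ) = (eig T μ).map (e : V →ₗ[F] V) := by
    ext w
    rw [mem_eig, Submodule.mem_map]
    constructor
    · intro hw
      refine ⟨e.symm w, ?_, by simp⟩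
      rw [mem_eig]
      apply e.injective
      have h1 := h (e.symm w)
      rw [e.apply_symm_apply, hw, mul_smul] at h1
      rw [map_smul, e.apply_symm_apply]
      exact (smul_right_injective V hζ h1).symm
    · rintro ⟨v, hv, rfl⟩
      rw [mem_eig] at hv
      rw [LinearEquiv.coe_coe, h, hv, map_smul, mul_smul]
  rw [this, LinearEquiv.finrank_map_eq]

end inter

section partA

variable [NeZero r] (ω : F) (hω : IsPrimitiveRoot ω r)

/-- the eigen-dimension tuple of an element -/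
noncomputable def mult (r : ℕ) [NeZero r] (ω : F) (g : GL (Fin n) F) (j : ZMod r) : ℕ :=
  finrank F (eig (tlin g.val) (zp ω j))

omit [NeZero r] in
lemma tlin_pow_eq_one (g : GL (Fin n) F) (hg : g ^ r = 1) : tlin g.val ^ r = 1 := by
  rw [← tlin_val_pow, hg, Units.val_one, tlin_one]

lemma finrank_eig_lt (g : GL (Fin n) F) (hns : ∀ c : F, tlin g.val ≠ c • (1 : End F (Fin n → F)))
    (ν : F) : finrank F (eig (tlin g.val) ν) < n := by
  have h0 : finrank F (eig (tlin g.val) ν) ≤ finrank F (Fin n → F) := Submodule.finrank_le _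
  rw [Module.finrank_fin_fun] at h0
  apply lt_of_le_of_ne h0
  intro h
  have h3 : eig (tlin g.val) ν = ⊤ := by
    apply Submodule.eq_top_of_finrank_eq
    rw [h, Module.finrank_fin_fun]
  apply hns ν
  apply LinearMap.ext
  intro v
  have : v ∈ eig (tlin g.val) ν := by rw [h3]; trivial
  rw [mem_eig] at this
  rw [this]; simp

include hω

/-- every tuple is realised -/
lemma exists_D (a : ZMod r → ℕ) (ha : ∑ j, a j = n) :
    ∃ g : GL (Fin n) F, g ^ r = 1 ∧ mult r ω g = a := by
  classical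
  obtain ⟨w, hw, hwa⟩ := exists_diag (n := n) ω hω a ha
  have hr1 : 1 ≤ r := NeZero.pos r
  have h1 : Matrix.diagonal w * Matrix.diagonal (fun i => w i ^ (r - 1)) = 1 := by
    rw [Matrix.diagonal_mul_diagonal, ← Matrix.diagonal_one]
    congr 1
    funext i
    rw [← pow_succ', Nat.sub_add_cancel hr1, hw]
  have h2 : Matrix.diagonal (fun i => w i ^ (r - 1)) * Matrix.diagonal w = 1 := by
    rw [Matrix.diagonal_mul_diagonal, ← Matrix.diagonal_one]
    congr 1
    funext i
    rw [← pow_succ, Nat.sub_add_cancel hr1, hw]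
  refine ⟨⟨Matrix.diagonal w, Matrix.diagonal (fun i => w i ^ (r - 1)), h1, h2⟩, ?_, ?_⟩
  · apply Units.ext
    rw [Units.val_pow_eq_pow_val, Units.val_one]
    show Matrix.diagonal w ^ r = 1
    rw [Matrix.diagonal_pow, ← Matrix.diagonal_one]
    congr 1
    funext i
    exact hw i
  · funext j
    exact hwa j

lemma sum_mult (g : GL (Fin n) F) (hg : g ^ r = 1) : ∑ j, mult r ω g j = n := by
  have := sum_eig_finrank ω hω (tlin g.val) (tlin_pow_eq_one g hg)
  rw [Module.finrank_fin_fun] at this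
  exact this

/-- scalars of order dividing `r` are not of the non-scalar tuple type -/
lemma order_of_tuple (hn : 1 ≤ n) (hr : r.Prime) (g : GL (Fin n) F) (hg : g ^ r = 1)
    (hlt : ∀ j, mult r ω g j < n) :
    orderOf (QuotientGroup.mk g : GL (Fin n) F ⧸ Subgroup.center (GL (Fin n) F)) = r := by
  rw [order_prime_iff hr]
  constructor
  · intro hc
    obtain ⟨c, hc⟩ := (mem_center_iff' g).1 hc
    have h1 := tlin_pow_eq_one g hg
    rw [hc, smul_one_pow, ← one_smul F (1 : End F (Fin n → F)), smul_smul, mul_one] at h1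
    have h2 : c ^ r = 1 := scalar_inj hn _ _ h1
    obtain ⟨j, rfl⟩ := exists_zp ω hω c h2
    have h3 := hlt j
    unfold mult at h3
    have h4 : eig (tlin g.val) (zp ω j) = ⊤ := by
      rw [eq_top_iff]
      intro v _
      rw [mem_eig, hc]
      simp
    rw [h4, finrank_top, Module.finrank_fin_fun] at h3
    omega
  · rw [hg]
    exact Subgroup.one_mem _

lemma conj_of_same_mult (g g' : GL (Fin n) F) (hg : g ^ r = 1) (hg' : g' ^ r = 1)
    (h : mult r ω g = mult r ω g') :
    IsConj (QuotientGroup.mk g : GL (Fin n) F ⧸ Subgroup.center (GL (Fin n) F))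
      (QuotientGroup.mk g') := by
  obtain ⟨e, he⟩ := conj_of_eig_eq ω hω (tlin g.val) (tlin g'.val) (tlin_pow_eq_one g hg)
    (tlin_pow_eq_one g' hg') (fun j => congrFun h j)
  exact isConj_of_intertwine g g' e 1 one_ne_zero (fun v => by rw [he, one_smul])

/-- conjugate elements have rotated tuples -/
lemma rot_of_isConj (hn : 1 ≤ n) (g g' : GL (Fin n) F) (hg : g ^ r = 1) (hg' : g' ^ r = 1)
    (h : IsConj (QuotientGroup.mk g : GL (Fin n) F ⧸ Subgroup.center (GL (Fin n) F))
      (QuotientGroup.mk g')) :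
    ∃ k : ZMod r, ∀ j, mult r ω g' (j + k) = mult r ω g j := by
  have : Nonempty (Fin n) := ⟨⟨0, hn⟩⟩
  obtain ⟨e, ζ, hζ0, he⟩ := intertwine_of_isConj hn g g' h
  have h1 := intertwine_pow _ _ e ζ he r
  rw [tlin_pow_eq_one g hg, tlin_pow_eq_one g' hg'] at h1
  have h2 : ζ ^ r = 1 := by
    obtain ⟨v, hv⟩ := exists_ne (0 : Fin n → F)
    have h3 := h1 v
    rw [End.one_apply, End.one_apply] at h3
    have h4 : e v ≠ 0 := by
      intro h0
      exact hv (e.map_eq_zero_iff.1 h0)
    have h5 : (1 : F) • e v = ζ ^ r • e v := by rw [one_smul]; exact h3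
    exact (smul_left_injective F h4 h5).symm
  obtain ⟨k, rfl⟩ := exists_zp ω hω ζ h2
  refine ⟨k, fun j => ?_⟩
  unfold mult
  rw [add_comm, zp_add ω hω.pow_eq_one]
  exact intertwine_eig _ _ e _ hζ0 he _

/-- rotated tuples give conjugate elements -/
lemma isConj_of_rot (g g' : GL (Fin n) F) (hg : g ^ r = 1) (hg' : g' ^ r = 1) (k : ZMod r)
    (h : ∀ j, mult r ω g' (j + k) = mult r ω g j) :
    IsConj (QuotientGroup.mk g : GL (Fin n) F ⧸ Subgroup.center (GL (Fin n) F))
      (QuotientGroup.mk g') := by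
  have hk0 : zp ω (-k) ≠ 0 := zp_ne_zero ω hω.pow_eq_one _
  have hT' : (zp ω (-k) • tlin g'.val) ^ r = 1 := by
    rw [_root_.smul_pow, tlin_pow_eq_one g' hg', zp_pow ω hω.pow_eq_one, one_smul]
  have hd : ∀ j : ZMod r, finrank F (eig (tlin g.val) (zp ω j)) =
      finrank F (eig (zp ω (-k) • tlin g'.val) (zp ω j)) := by
    intro j
    have h1 : zp ω j = zp ω (-k) * zp ω (j + k) := by
      rw [← zp_add ω hω.pow_eq_one]
      congr 1
      ring
    have h2 : eig (zp ω (-k) • tlin g'.val) (zp ω (-k) * zp ω (j + k)) =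
        eig (tlin g'.val) (zp ω (j + k)) := eig_smul _ _ _ hk0
    rw [← h1] at h2
    rw [h2]
    exact (h j).symm
  obtain ⟨e, he⟩ := conj_of_eig_eq ω hω (tlin g.val) (zp ω (-k) • tlin g'.val)
    (tlin_pow_eq_one g hg) hT' hd
  exact isConj_of_intertwine g g' e _ hk0 (fun v => by rw [he]; rfl)

end partA

lemma orderOf_of_isConj {G : Type*} [Group G] (a b : G) (h : IsConj a b) : orderOf a = orderOf b := by
  obtain ⟨c, hc⟩ := isConj_iff.1 h
  rw [← hc, ← MulAut.conj_apply, MulEquiv.orderOf_eq]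

lemma card_eq_card_quotient {X Y : Type*} (s : Setoid X) (f : X → Y)
    (hsurj : Function.Surjective f) (h : ∀ x x', f x = f x' ↔ s.r x x') :
    Nat.card Y = Nat.card (Quotient s) := by
  apply Nat.card_congr
  symm
  refine Equiv.ofBijective (Quotient.lift f (fun a b hab => (h a b).2 hab)) ⟨?_, ?_⟩
  · intro a b
    induction a using Quotient.inductionOn
    induction b using Quotient.inductionOn
    intro hab
    exact Quotient.sound ((h _ _).1 hab)
  · intro y
    obtain ⟨x, rfl⟩ := hsurj y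
    exact ⟨Quotient.mk _ x, rfl⟩

/-- the classes of elements of order `r` -/
abbrev Cls (F : Type*) [Field F] (n r : ℕ) : Type _ :=
  {C : ConjClasses (GL (Fin n) F ⧸ Subgroup.center (GL (Fin n) F)) //
    ∃ g : GL (Fin n) F ⧸ Subgroup.center (GL (Fin n) F), ConjClasses.mk g = C ∧ orderOf g = r}

/-- classes containing an element of order `r` upstairs -/
def IsA (C : Cls F n r) : Prop :=
  ∃ g : GL (Fin n) F, g ^ r = 1 ∧
    ConjClasses.mk (QuotientGroup.mk g : GL (Fin n) F ⧸ Subgroup.center (GL (Fin n) F)) = C.1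

theorem card_A [Fact r.Prime] (hn : 1 ≤ n) (ω : F) (hω : IsPrimitiveRoot ω r) :
    Nat.card {C : Cls F n r // IsA C} =
      Nat.card (Quotient (MulAction.orbitRel (Multiplicative (ZMod r)) (Tup n r))) := by
  classical
  have hr : r.Prime := Fact.out
  have : NeZero r := ⟨hr.ne_zero⟩
  choose D hD1 hD2 using (fun a : Tup n r => exists_D (n := n) ω hω a.1 a.2.1)
  have hDo : ∀ a : Tup n r,
      orderOf (QuotientGroup.mk (D a) : GL (Fin n) F ⧸ Subgroup.center (GL (Fin n) F)) = r :=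
    fun a => order_of_tuple ω hω hn hr (D a) (hD1 a) (by rw [hD2 a]; exact a.2.2)
  let fA : Tup n r → {C : Cls F n r // IsA C} := fun a =>
    ⟨⟨ConjClasses.mk (QuotientGroup.mk (D a)), ⟨QuotientGroup.mk (D a), rfl, hDo a⟩⟩,
      ⟨D a, hD1 a, rfl⟩⟩
  apply card_eq_card_quotient (MulAction.orbitRel (Multiplicative (ZMod r)) (Tup n r)) fA
  · rintro ⟨⟨C, gb, hgb, hgbo⟩, ⟨g, hg, hgC⟩⟩
    have hC : ConjClasses.mk (QuotientGroup.mk g : GL (Fin n) F ⧸ Subgroup.center (GL (Fin n) F)) =
        C := hgC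
    have hgo : orderOf (QuotientGroup.mk g : GL (Fin n) F ⧸ Subgroup.center (GL (Fin n) F)) = r := by
      rw [← hgbo]
      apply orderOf_of_isConj
      rw [← ConjClasses.mk_eq_mk_iff_isConj, hC, hgb]
    obtain ⟨-, hns⟩ := pow_data hn hr g hgo
    let a : Tup n r := ⟨mult r ω g, sum_mult ω hω g hg, fun j => finrank_eig_lt g hns _⟩
    refine ⟨a, ?_⟩
    apply Subtype.ext
    apply Subtype.ext
    show ConjClasses.mk (QuotientGroup.mk (D a)) = C
    rw [← hC, ConjClasses.mk_eq_mk_iff_isConj]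
    exact conj_of_same_mult ω hω (D a) g (hD1 a) hg (hD2 a)
  · intro a a'
    have h1 : fA a = fA a' ↔ IsConj (QuotientGroup.mk (D a) :
        GL (Fin n) F ⧸ Subgroup.center (GL (Fin n) F)) (QuotientGroup.mk (D a')) := by
      rw [← ConjClasses.mk_eq_mk_iff_isConj]
      constructor
      · intro h
        exact congrArg (fun C => C.1.1) h
      · intro h
        apply Subtype.ext
        apply Subtype.ext
        exact h
    rw [h1]
    show _ ↔ MulAction.orbitRel (Multiplicative (ZMod r)) (Tup n r) a a'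
    rw [MulAction.orbitRel_apply, MulAction.mem_orbit_iff]
    constructor
    · intro h
      obtain ⟨k, hk⟩ := rot_of_isConj ω hω hn (D a) (D a') (hD1 a) (hD1 a') h
      refine ⟨Multiplicative.ofAdd k, ?_⟩
      apply Subtype.ext
      funext j
      rw [Cfsg.Agent.Lib.Helper15.RotCount.smul_apply, toAdd_ofAdd]
      have := hk j
      rw [hD2, hD2] at this
      exact this
    · rintro ⟨k, hk⟩
      apply isConj_of_rot ω hω (D a) (D a') (hD1 a) (hD1 a') (Multiplicative.toAdd k) ?_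
      intro j
      rw [hD2, hD2, ← hk, Cfsg.Agent.Lib.Helper15.RotCount.smul_apply]

section partB

/-- the subgroup of `r`-th powers -/
abbrev Rpow (F : Type*) [Field F] (r : ℕ) : Subgroup Fˣ := (powMonoidHom r : Fˣ →* Fˣ).range

lemma card_Q [Fintype F] (hrq : r ∣ Fintype.card F - 1) : Nat.card (Fˣ ⧸ Rpow F r) = r := by
  rw [← Subgroup.index_eq_card, IsCyclic.index_powMonoidHom_range, Nat.card_units,
    Nat.card_eq_fintype_card]
  exact Nat.gcd_eq_right hrq

lemma not_pow (hr : r.Prime) (lam : Fˣ) (h : (QuotientGroup.mk lam : Fˣ ⧸ Rpow F r) ≠ 1) :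
    ∀ b : F, b ^ r ≠ (lam : F) := by
  intro b hb
  apply h
  rw [QuotientGroup.eq_one_iff]
  have hb0 : b ≠ 0 := by
    rintro rfl
    rw [zero_pow hr.ne_zero] at hb
    exact lam.ne_zero hb.symm
  refine ⟨Units.mk0 b hb0, ?_⟩
  apply Units.ext
  rw [powMonoidHom_apply, Units.val_pow_eq_pow_val, Units.val_mk0, hb]

/-- the scalar matrix of a unit -/
def scal (c : Fˣ) : GL (Fin n) F :=
  ⟨(c : F) • 1, ((c⁻¹ : Fˣ) : F) • 1, by
    rw [smul_mul_smul_comm, ← Units.val_mul, mul_inv_cancel, Units.val_one, one_smul, mul_one], by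
    rw [smul_mul_smul_comm, ← Units.val_mul, inv_mul_cancel, Units.val_one, one_smul, mul_one]⟩

lemma tlin_scal (c : Fˣ) : tlin (scal (n := n) c).val = (c : F) • (1 : End F (Fin n → F)) := by
  show tlin ((c : F) • (1 : Matrix (Fin n) (Fin n) F)) = _
  rw [tlin_smul, tlin_one]

lemma scal_mem_center (c : Fˣ) : scal (n := n) c ∈ Subgroup.center (GL (Fin n) F) := by
  rw [mem_center_iff']
  exact ⟨c, tlin_scal c⟩

lemma mk_scal_mul (c : Fˣ) (g : GL (Fin n) F) :
    (QuotientGroup.mk (scal c * g) : GL (Fin n) F ⧸ Subgroup.center (GL (Fin n) F)) =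
      QuotientGroup.mk g := by
  rw [QuotientGroup.mk_mul, (QuotientGroup.eq_one_iff _).2 (scal_mem_center c), one_mul]

lemma tlin_scal_mul_pow (c : Fˣ) (g : GL (Fin n) F) (lam : F)
    (h : tlin g.val ^ r = lam • (1 : End F (Fin n → F))) :
    tlin (scal c * g).val ^ r = ((c : F) ^ r * lam) • (1 : End F (Fin n → F)) := by
  rw [tlin_val_mul, tlin_scal, smul_mul_assoc, one_mul, _root_.smul_pow, h, smul_smul]

/-- the class of the `r`-th power scalar is a conjugacy invariant -/
lemma mk_eq_of_isConj (hn : 1 ≤ n) (g g' : GL (Fin n) F) (lam lam' : Fˣ)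
    (hg : tlin g.val ^ r = (lam : F) • (1 : End F (Fin n → F)))
    (hg' : tlin g'.val ^ r = (lam' : F) • (1 : End F (Fin n → F)))
    (h : IsConj (QuotientGroup.mk g : GL (Fin n) F ⧸ Subgroup.center (GL (Fin n) F))
      (QuotientGroup.mk g')) :
    (QuotientGroup.mk lam : Fˣ ⧸ Rpow F r) = QuotientGroup.mk lam' := by
  have : Nonempty (Fin n) := ⟨⟨0, hn⟩⟩
  obtain ⟨e, ζ, hζ0, he⟩ := intertwine_of_isConj hn g g' h
  have h1 := intertwine_pow _ _ e ζ he r
  rw [hg, hg'] at h1
  have h2 : (lam' : F) = ζ ^ r * lam := by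
    obtain ⟨v, hv⟩ := exists_ne (0 : Fin n → F)
    have h3 := h1 v
    simp only [LinearMap.smul_apply, End.one_apply, map_smul, smul_smul] at h3
    have h4 : e v ≠ 0 := by
      intro h0
      exact hv (e.map_eq_zero_iff.1 h0)
    exact smul_left_injective F h4 h3
  rw [QuotientGroup.eq]
  refine ⟨Units.mk0 ζ hζ0, ?_⟩
  apply Units.ext
  rw [powMonoidHom_apply, Units.val_pow_eq_pow_val, Units.val_mk0, Units.val_mul, h2,
    Units.val_inv_eq_inv_val]
  field_simp

/-- elements of non-power type with the same class of scalars are conjugate -/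
lemma isConj_of_mk_eq (hr : r.Prime) (g g' : GL (Fin n) F) (lam lam' : Fˣ)
    (hg : tlin g.val ^ r = (lam : F) • (1 : End F (Fin n → F)))
    (hg' : tlin g'.val ^ r = (lam' : F) • (1 : End F (Fin n → F)))
    (hlam' : (QuotientGroup.mk lam' : Fˣ ⧸ Rpow F r) ≠ 1)
    (h : (QuotientGroup.mk lam : Fˣ ⧸ Rpow F r) = QuotientGroup.mk lam') :
    IsConj (QuotientGroup.mk g : GL (Fin n) F ⧸ Subgroup.center (GL (Fin n) F))
      (QuotientGroup.mk g') := by
  rw [QuotientGroup.eq] at h
  obtain ⟨c, hc⟩ := h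
  have hc' : (c : F) ^ r * lam = lam' := by
    have := congrArg (fun u : Fˣ => (u : F)) hc
    simp only [powMonoidHom_apply, Units.val_pow_eq_pow_val, Units.val_mul,
      Units.val_inv_eq_inv_val] at this
    rw [this]
    field_simp
  have hT : ((c : F) • tlin g.val) ^ r = (lam' : F) • (1 : End F (Fin n → F)) := by
    rw [_root_.smul_pow, hg, smul_smul, hc']
  obtain ⟨e, he⟩ := conj_of_nonpow hr (tlin g'.val) ((c : F) • tlin g.val) (lam' : F)
    (not_pow hr lam' hlam') hg' hT
  exact (isConj_of_intertwine g' g e c c.ne_zero (fun v => by rw [he]; rfl)).symm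

/-- representatives for classes not of type A -/
lemma class_B_data (hn : 1 ≤ n) (hr : r.Prime) (C : Cls F n r) (hC : ¬ IsA C) :
    ∃ (g : GL (Fin n) F) (lam : Fˣ),
      ConjClasses.mk (QuotientGroup.mk g : GL (Fin n) F ⧸ Subgroup.center (GL (Fin n) F)) = C.1 ∧
      tlin g.val ^ r = (lam : F) • (1 : End F (Fin n → F)) ∧
      (QuotientGroup.mk lam : Fˣ ⧸ Rpow F r) ≠ 1 := by
  obtain ⟨gb, hgb, hgbo⟩ := C.2
  obtain ⟨g, rfl⟩ := QuotientGroup.mk_surjective gb
  obtain ⟨⟨lam, hlam0, hlam⟩, hns⟩ := pow_data hn hr g hgbo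
  refine ⟨g, Units.mk0 lam hlam0, hgb, hlam, ?_⟩
  intro h1
  rw [QuotientGroup.eq_one_iff] at h1
  obtain ⟨c, hc⟩ := h1
  have hc' : (c : F) ^ r = lam := by
    have := congrArg (fun u : Fˣ => (u : F)) hc
    simpa using this
  apply hC
  refine ⟨scal c⁻¹ * g, ?_, ?_⟩
  · apply Units.ext
    apply tlin_injective
    rw [tlin_val_pow, tlin_scal_mul_pow c⁻¹ g lam hlam, Units.val_one, tlin_one, ← hc',
      ← mul_pow, ← Units.val_mul, inv_mul_cancel, Units.val_one, one_pow, one_smul]
  · rw [mk_scal_mul, hgb]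

theorem card_B [Fintype F] [Fact r.Prime] (hn : 1 ≤ n) (hrq : r ∣ Fintype.card F - 1) :
    Nat.card {C : Cls F n r // ¬ IsA C} = if r ∣ n then r - 1 else 0 := by
  classical
  have hr : r.Prime := Fact.out
  by_cases hrn : r ∣ n
  · rw [if_pos hrn]
    obtain ⟨m, hm⟩ := hrn
    have hex : ∀ x : {x : Fˣ ⧸ Rpow F r // x ≠ 1}, ∃ (g : GL (Fin n) F) (lam : Fˣ),
        (QuotientGroup.mk lam : Fˣ ⧸ Rpow F r) = x.1 ∧
        tlin g.val ^ r = (lam : F) • (1 : End F (Fin n → F)) := by
      intro x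
      obtain ⟨lam, hlam⟩ := QuotientGroup.mk_surjective x.1
      have hne : (QuotientGroup.mk lam : Fˣ ⧸ Rpow F r) ≠ 1 := by rw [hlam]; exact x.2
      obtain ⟨A, hA⟩ := nonpow_matrix (n := n) hr m hm (lam : F) (not_pow hr lam hne)
      have hr1 : 1 ≤ r := hr.one_lt.le
      have h1 : A * (((lam⁻¹ : Fˣ) : F) • A ^ (r - 1)) = 1 := by
        rw [mul_smul_comm, ← pow_succ', Nat.sub_add_cancel hr1, hA, smul_smul, ← Units.val_mul,
          inv_mul_cancel, Units.val_one, one_smul]
      have h2 : (((lam⁻¹ : Fˣ) : F) • A ^ (r - 1)) * A = 1 := by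
        rw [smul_mul_assoc, ← pow_succ, Nat.sub_add_cancel hr1, hA, smul_smul, ← Units.val_mul,
          inv_mul_cancel, Units.val_one, one_smul]
      refine ⟨⟨A, _, h1, h2⟩, lam, hlam, ?_⟩
      show tlin A ^ r = _
      rw [← tlin_pow, hA, tlin_smul, tlin_one]
    choose G L hL hG using hex
    have hLne : ∀ x, (QuotientGroup.mk (L x) : Fˣ ⧸ Rpow F r) ≠ 1 := fun x => by
      rw [hL x]; exact x.2
    have hGo : ∀ x, orderOf (QuotientGroup.mk (G x) :
        GL (Fin n) F ⧸ Subgroup.center (GL (Fin n) F)) = r := by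
      intro x
      rw [order_prime_iff hr]
      constructor
      · intro hc
        obtain ⟨c, hc⟩ := (mem_center_iff' _).1 hc
        have h1 := hG x
        rw [hc, smul_one_pow] at h1
        exact not_pow hr (L x) (hLne x) c (scalar_inj hn _ _ h1)
      · rw [mem_center_iff']
        exact ⟨L x, by rw [tlin_val_pow]; exact hG x⟩
    have hnotA : ∀ x, ¬ IsA (⟨ConjClasses.mk (QuotientGroup.mk (G x)),
        ⟨QuotientGroup.mk (G x), rfl, hGo x⟩⟩ : Cls F n r) := by
      rintro x ⟨g, hg, hgC⟩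
      have h1 : IsConj (QuotientGroup.mk g : GL (Fin n) F ⧸ Subgroup.center (GL (Fin n) F))
          (QuotientGroup.mk (G x)) := ConjClasses.mk_eq_mk_iff_isConj.1 hgC
      have h2 := mk_eq_of_isConj hn g (G x) 1 (L x)
        (by rw [tlin_pow_eq_one g hg, Units.val_one, one_smul]) (hG x) h1
      exact hLne x h2.symm
    let fB : {x : Fˣ ⧸ Rpow F r // x ≠ 1} → {C : Cls F n r // ¬ IsA C} := fun x =>
      ⟨⟨ConjClasses.mk (QuotientGroup.mk (G x)), ⟨QuotientGroup.mk (G x), rfl, hGo x⟩⟩, hnotA x⟩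
    have hbij : Function.Bijective fB := by
      constructor
      · intro x y hxy
        have h1 : IsConj (QuotientGroup.mk (G x) :
            GL (Fin n) F ⧸ Subgroup.center (GL (Fin n) F)) (QuotientGroup.mk (G y)) :=
          ConjClasses.mk_eq_mk_iff_isConj.1 (congrArg (fun C => C.1.1) hxy)
        have h2 := mk_eq_of_isConj hn (G x) (G y) (L x) (L y) (hG x) (hG y) h1
        apply Subtype.ext
        rw [← hL x, ← hL y, h2]
      · rintro ⟨C, hC⟩
        obtain ⟨g, lam, hgC, hglam, hne⟩ := class_B_data hn hr C hC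
        refine ⟨⟨QuotientGroup.mk lam, hne⟩, ?_⟩
        apply Subtype.ext
        apply Subtype.ext
        show ConjClasses.mk (QuotientGroup.mk (G ⟨QuotientGroup.mk lam, hne⟩)) = C.1
        rw [← hgC, ConjClasses.mk_eq_mk_iff_isConj]
        exact isConj_of_mk_eq hr _ g (L ⟨QuotientGroup.mk lam, hne⟩) lam (hG _) hglam hne (hL _)
    rw [← Nat.card_congr (Equiv.ofBijective fB hbij)]
    have hQ := card_Q (F := F) hrq
    have : Finite (Fˣ ⧸ Rpow F r) := Nat.finite_of_card_ne_zero (by rw [hQ]; exact hr.ne_zero)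
    have : Fintype (Fˣ ⧸ Rpow F r) := Fintype.ofFinite _
    rw [Nat.card_eq_fintype_card, Fintype.card_subtype_compl, Fintype.card_subtype_eq,
      ← Nat.card_eq_fintype_card, hQ]
  · rw [if_neg hrn]
    rw [Nat.card_eq_zero]
    left
    constructor
    rintro ⟨C, hC⟩
    obtain ⟨g, lam, hgC, hglam, hne⟩ := class_B_data hn hr C hC
    have := dvd_of_nonpow hr (tlin g.val) (lam : F) (not_pow hr lam hne) hglam
    rw [Module.finrank_fin_fun] at this
    exact hrn this

end partB

theorem main [Fintype F] {q : ℕ} (hF : Fintype.card F = q) (hn : 2 ≤ n) (hr : r.Prime)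
    (hrq : r ∣ q - 1) :
    Nat.card (Cls F n r) = ((n + r - 1).choose (r - 1) - r - (if r ∣ n then 1 else 0)) / r +
      r * (if r ∣ n then 1 else 0) := by
  classical
  have : Fact r.Prime := ⟨hr⟩
  have : NeZero r := ⟨hr.ne_zero⟩
  subst hF
  obtain ⟨x, hx⟩ := exists_prime_orderOf_dvd_card r (G := Fˣ) (by rw [Fintype.card_units]; exact hrq)
  have hω : IsPrimitiveRoot ((x : Fˣ) : F) r := by
    rw [IsPrimitiveRoot.coe_units_iff, ← hx]
    exact IsPrimitiveRoot.orderOf x
  have hfin : Finite (Cls F n r) := inferInstance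
  rw [← Nat.card_congr (Equiv.sumCompl (fun C : Cls F n r => IsA C)), Nat.card_sum,
    card_A (by omega) _ hω, card_B (by omega) hrq]
  exact count_formula (by omega)

/-- Number of conjugacy classes of elements of prime order r in PGL_n(q) = GL_n(q)/scalars when r divides q − 1 (n ≥ 2): the classes of elements with a diagonalisable lift correspond to the orbits of the cyclic rotation on the r-tuples of eigenvalue multiplicities (a_0, …, a_(r−1)) summing to n with every a_j < n, and when r divides n there are r − 1 further classes (lifts acting irreducibly on blocks of size r); in all (C(n+r−1, r−1) − r − [r ∣ n])/r + r·[r ∣ n] classes. -/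
theorem result {F : Type*} [Field F] [Fintype F] {q : ℕ} (hF : Fintype.card F = q) {n r : ℕ} (hn : 2 ≤ n) (hr : r.Prime) (hrq : r ∣ q - 1) : Nat.card {C : ConjClasses (GL (Fin n) F ⧸ Subgroup.center (GL (Fin n) F)) // ∃ g : GL (Fin n) F ⧸ Subgroup.center (GL (Fin n) F), ConjClasses.mk g = C ∧ orderOf g = r} = (Nat.choose (n + r - 1) (r - 1) - r - (if r ∣ n then 1 else 0)) / r + r * (if r ∣ n then 1 else 0) := by
  exact main hF hn hr hrq

end Cfsg.Agent.S2670
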