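import Cfsg.Statements.S2672
-- import your own Cfsg.Agent.* helpers here
import Cfsg.Agent.S2670
import Cfsg.Agent.S2587
import Cfsg.Agent.S2588
import Cfsg.Agent.Lib.Helper5.GUCenter

set_option autoImplicit false
open Cfsg

namespace Cfsg.Agent.S2672

open Polynomial Module Cfsg.Agent.Lib.Helper15.SemisimpleConj Cfsg.Agent.Lib.Helper15.PGLInvol
  Cfsg.Agent.Lib.Helper15.PGLPrime Cfsg.Agent.Lib.Helper15.RotCount Cfsg.Agent.S2577
  Cfsg.Agent.S2670 Cfsg.Agent.Lib.Helper14 Cfsg.Agent.Lib.Helper5.GUCenter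

lemma order_prime_iff' {G : Type*} [Group G] {r : ℕ} (hr : r.Prime) (g : G) :
    orderOf (QuotientGroup.mk g : G ⧸ Subgroup.center G) = r ↔
      g ∉ Subgroup.center G ∧ g ^ r ∈ Subgroup.center G := by
  constructor
  · intro h
    constructor
    · intro hg
      have : (QuotientGroup.mk g : G ⧸ Subgroup.center G) = 1 :=
        (QuotientGroup.eq_one_iff g).2 hg
      rw [this, orderOf_one] at h
      exact hr.ne_one h.symm
    · rw [← QuotientGroup.eq_one_iff, QuotientGroup.mk_pow, ← h, pow_orderOf_eq_one]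
  · rintro ⟨h1, h2⟩
    have : Fact r.Prime := ⟨hr⟩
    apply orderOf_eq_prime
    · rw [← QuotientGroup.mk_pow]
      exact (QuotientGroup.eq_one_iff _).2 h2
    · intro h
      exact h1 ((QuotientGroup.eq_one_iff g).1 h)

variable {K : Type*} [Field K] [Fintype K] {q n r : ℕ}

/-- the endomorphism of an element of the unitary group -/
noncomputable abbrev tl (g : ↥(Cfsg.GU n K q)) : End K (Fin n → K) := tlin g.1.val

lemma tl_mul (g h : ↥(Cfsg.GU n K q)) : tl (g * h) = tl g * tl h := by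
  unfold tl
  rw [Subgroup.coe_mul, tlin_val_mul]

lemma tl_one : tl (1 : ↥(Cfsg.GU n K q)) = 1 := by
  unfold tl
  rw [Subgroup.coe_one, Units.val_one, tlin_one]

lemma tl_pow (g : ↥(Cfsg.GU n K q)) (k : ℕ) : tl (g ^ k) = tl g ^ k := by
  unfold tl
  rw [Subgroup.coe_pow, tlin_val_pow]

lemma tl_injective : Function.Injective (tl : ↥(Cfsg.GU n K q) → _) := by
  intro g h hgh
  apply Subtype.ext
  apply Units.ext
  exact tlin_injective hgh

lemma tlin_diag_const (c : K) :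
    tlin (Matrix.diagonal (fun _ : Fin n => c)) = c • (1 : End K (Fin n → K)) := by
  have : Matrix.diagonal (fun _ : Fin n => c) = c • (1 : Matrix (Fin n) (Fin n) K) := by
    rw [Matrix.smul_one_eq_diagonal]
  rw [this, tlin_smul, tlin_one]

/-- unitary scalars have norm one -/
lemma norm_of_scalar (hK : Fintype.card K = q ^ 2) (hn : 2 ≤ n) (g : ↥(Cfsg.GU n K q)) (c : K)
    (h : tl g = c • (1 : End K (Fin n → K))) : c * c ^ q = 1 := by
  classical
  obtain ⟨m, rfl⟩ : ∃ m, n = m + 2 := ⟨n - 2, by omega⟩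
  have hU : IsUni K q (m + 2) (g.1 : Matrix (Fin (m + 2)) (Fin (m + 2)) K) := (mem_GU_iff _).mp g.2
  have h1 : (g.1 : Matrix (Fin (m + 2)) (Fin (m + 2)) K) = Matrix.diagonal (fun _ => c) := by
    apply tlin_injective
    rw [tlin_diag_const]
    exact h
  rw [h1] at hU
  exact scalar_norm hK c hU

/-- the scalar element of the unitary group -/
lemma exists_scalU (c : K) (hc : c * c ^ q = 1) :
    ∃ s : ↥(Cfsg.GU n K q), tl s = c • (1 : End K (Fin n → K)) := by
  classical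
  rcases Nat.eq_zero_or_pos n with h0 | hpos
  · subst h0
    refine ⟨1, ?_⟩
    apply LinearMap.ext
    intro v
    exact Subsingleton.elim _ _
  have hc0 : c ≠ 0 := by
    rintro rfl
    rw [zero_mul] at hc
    exact zero_ne_one hc
  have hdet0 : (Matrix.diagonal (fun _ : Fin n => c)).det ≠ 0 := by
    rw [Matrix.det_diagonal, Finset.prod_const]
    exact pow_ne_zero _ hc0
  have hU : IsUni K q n (Matrix.diagonal (fun _ : Fin n => c)) :=
    isUni_diagonal _ (fun _ => hc)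
  refine ⟨⟨Matrix.GeneralLinearGroup.mkOfDetNeZero _ hdet0, (mem_GU_iff _).mpr hU⟩, ?_⟩
  show tlin (Matrix.diagonal (fun _ : Fin n => c)) = _
  exact tlin_diag_const c

lemma mem_center_of_scalar (g : ↥(Cfsg.GU n K q)) (c : K)
    (h : tl g = c • (1 : End K (Fin n → K))) : g ∈ Subgroup.center ↥(Cfsg.GU n K q) := by
  rw [Subgroup.mem_center_iff]
  intro k
  apply tl_injective
  rw [tl_mul, tl_mul, h, mul_smul_comm, smul_mul_assoc, mul_one, one_mul]

/-- central elements are scalar -/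
lemma scalar_of_mem_center (hK : Fintype.card K = q ^ 2) (hn : 2 ≤ n) (g : ↥(Cfsg.GU n K q))
    (hg : g ∈ Subgroup.center ↥(Cfsg.GU n K q)) :
    ∃ c : K, tl g = c • (1 : End K (Fin n → K)) := by
  classical
  obtain ⟨m, rfl⟩ : ∃ m, n = m + 2 := ⟨n - 2, by omega⟩
  set Z : Matrix (Fin (m + 2)) (Fin (m + 2)) K := (g.1 : Matrix (Fin (m + 2)) (Fin (m + 2)) K)
    with hZdef
  have hZ : ∀ M : Matrix (Fin (m + 2)) (Fin (m + 2)) K, M.det = 1 → IsUni K q (m + 2) M →
      M * Z = Z * M := by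
    intro M hM1 hMU
    have hdet0 : M.det ≠ 0 := by rw [hM1]; exact one_ne_zero
    have h := Subgroup.mem_center_iff.mp hg
      ⟨Matrix.GeneralLinearGroup.mkOfDetNeZero M hdet0, (mem_GU_iff _).mpr hMU⟩
    have h2 := congrArg (fun x : ↥(Cfsg.GU (m + 2) K q) =>
      ((x.1 : Matrix.GeneralLinearGroup (Fin (m + 2)) K) :
        Matrix (Fin (m + 2)) (Fin (m + 2)) K)) h
    exact h2
  have hsc := comm_scalar hK Z hZ
  refine ⟨Z 0 0, ?_⟩
  show tlin Z = _
  rw [hsc, tlin_diag_const]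
  simp

/-- conjugacy in the quotient gives an intertwiner up to a norm-one scalar -/
lemma intertwine_of_isConj_U (hK : Fintype.card K = q ^ 2) (hn : 2 ≤ n) (g g' : ↥(Cfsg.GU n K q))
    (h : IsConj (QuotientGroup.mk g : ↥(Cfsg.GU n K q) ⧸ Subgroup.center ↥(Cfsg.GU n K q))
      (QuotientGroup.mk g')) :
    ∃ (e : (Fin n → K) ≃ₗ[K] (Fin n → K)) (ζ : K), ζ * ζ ^ q = 1 ∧
      ∀ v, tl g' (e v) = ζ • e (tl g v) := by
  obtain ⟨c, hc⟩ := isConj_iff.1 h
  obtain ⟨P, rfl⟩ := QuotientGroup.mk_surjective c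
  rw [← QuotientGroup.mk_inv, ← QuotientGroup.mk_mul, ← QuotientGroup.mk_mul,
    QuotientGroup.eq] at hc
  obtain ⟨ζ, hζ⟩ := scalar_of_mem_center hK hn _ hc
  have hζ1 := norm_of_scalar hK hn _ ζ hζ
  have h1 : tl g' = ζ • tl (P * g * P⁻¹) := by
    have h3 : g' = (P * g * P⁻¹) * ((P * g * P⁻¹)⁻¹ * g') := by group
    conv_lhs => rw [h3]
    rw [tl_mul, hζ, mul_smul_comm, mul_one]
  refine ⟨glEquiv P.1, ζ, hζ1, fun v => ?_⟩
  rw [h1, LinearMap.smul_apply, glEquiv_apply, glEquiv_apply]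
  show ζ • (tl (P * g * P⁻¹)) ((tl P) v) = ζ • (tl P) ((tl g) v)
  rw [← End.mul_apply, ← End.mul_apply, ← tl_mul, ← tl_mul]
  congr 3
  group

/-- an intertwiner up to a norm-one scalar gives conjugacy in the quotient -/
lemma isConj_of_intertwine_U (hK : Fintype.card K = q ^ 2) (g g' : ↥(Cfsg.GU n K q))
    (e : (Fin n → K) ≃ₗ[K] (Fin n → K)) (ν : K) (hν : ν * ν ^ q = 1)
    (he : ∀ v, e (tl g v) = ν • tl g' (e v)) :
    IsConj (QuotientGroup.mk g : ↥(Cfsg.GU n K q) ⧸ Subgroup.center ↥(Cfsg.GU n K q))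
      (QuotientGroup.mk g') := by
  obtain ⟨s, hs⟩ := exists_scalU (n := n) (q := q) ν hν
  have hsc := mem_center_of_scalar s ν hs
  let Q : End K (Fin n → K) := (e : (Fin n → K) →ₗ[K] (Fin n → K))
  let Q' : End K (Fin n → K) := (e.symm : (Fin n → K) →ₗ[K] (Fin n → K))
  have hQQ' : Q * Q' = 1 := by
    apply LinearMap.ext; intro v; exact e.apply_symm_apply v
  have hQ'Q : Q' * Q = 1 := by
    apply LinearMap.ext; intro v; exact e.symm_apply_apply v
  let P : GL (Fin n) K := ⟨LinearMap.toMatrixAlgEquiv' Q, LinearMap.toMatrixAlgEquiv' Q',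
    by rw [← map_mul, hQQ', map_one], by rw [← map_mul, hQ'Q, map_one]⟩
  have hP : tlin P.val = Q := by
    show Matrix.toLinAlgEquiv' (LinearMap.toMatrixAlgEquiv' Q) = Q
    exact Matrix.toLinAlgEquiv'_toMatrixAlgEquiv' Q
  have hPg : P * g.1 = (s * g').1 * P := by
    apply Units.ext
    apply tlin_injective
    rw [tlin_val_mul, tlin_val_mul, hP]
    show Q * tl g = tl (s * g') * Q
    rw [tl_mul, hs, smul_mul_assoc, one_mul]
    apply LinearMap.ext
    intro v
    simp only [End.mul_apply, LinearMap.smul_apply]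
    exact he v
  have hGL : IsConj (g.1 : GL (Fin n) K) ((s * g').1 : GL (Fin n) K) := by
    rw [isConj_iff]
    refine ⟨P, ?_⟩
    rw [hPg]
    group
  have hU : IsConj g (s * g') := (S2587.result hK g (s * g')).2 hGL
  obtain ⟨R, hR⟩ := isConj_iff.1 hU
  rw [isConj_iff]
  refine ⟨QuotientGroup.mk R, ?_⟩
  rw [← QuotientGroup.mk_inv, ← QuotientGroup.mk_mul, ← QuotientGroup.mk_mul, hR,
    QuotientGroup.mk_mul, (QuotientGroup.eq_one_iff s).2 hsc, one_mul]

lemma norm_one_of_pow (hrq : r ∣ q + 1) (c : K) (hc : c ^ r = 1) : c * c ^ q = 1 := by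
  obtain ⟨t, ht⟩ := hrq
  rw [← pow_succ', ht, pow_mul, hc, one_pow]

lemma tl_pow_eq_one (g : ↥(Cfsg.GU n K q)) (hg : g ^ r = 1) : tl g ^ r = 1 := by
  rw [← tl_pow, hg, tl_one]

lemma val_pow_eq_one (g : ↥(Cfsg.GU n K q)) (hg : g ^ r = 1) : g.1 ^ r = 1 := by
  rw [← Subgroup.coe_pow, hg, Subgroup.coe_one]


section partA

variable [NeZero r] (ω : K) (hω : IsPrimitiveRoot ω r)

include hω

/-- every tuple is realised by a unitary diagonal matrix -/
lemma exists_D_U (hrq : r ∣ q + 1) (a : ZMod r → ℕ) (ha : ∑ j, a j = n) :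
    ∃ g : ↥(Cfsg.GU n K q), g ^ r = 1 ∧ mult r ω g.1 = a := by
  classical
  obtain ⟨w, hw, hwa⟩ := exists_diag (n := n) ω hω a ha
  have hw0 : ∀ i, w i ≠ 0 := by
    intro i h0
    have := hw i
    rw [h0, zero_pow (NeZero.ne r)] at this
    exact zero_ne_one this
  have hdet0 : (Matrix.diagonal w).det ≠ 0 := by
    rw [Matrix.det_diagonal]
    exact Finset.prod_ne_zero_iff.2 (fun i _ => hw0 i)
  have hU : IsUni K q n (Matrix.diagonal w) :=
    isUni_diagonal _ (fun i => norm_one_of_pow hrq _ (hw i))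
  refine ⟨⟨Matrix.GeneralLinearGroup.mkOfDetNeZero _ hdet0, (mem_GU_iff _).mpr hU⟩, ?_, ?_⟩
  · apply tl_injective
    rw [tl_pow, tl_one]
    show tlin (Matrix.diagonal w) ^ r = 1
    rw [← S2670.tlin_pow, Matrix.diagonal_pow, ← tlin_one, ← Matrix.diagonal_one]
    congr 2
    funext i
    exact hw i
  · funext j
    exact hwa j

lemma not_scalar_of_mult_lt (hn : 1 ≤ n) (hr : r.Prime) (g : GL (Fin n) K) (hg : g ^ r = 1)
    (hlt : ∀ j, mult r ω g j < n) : ∀ c : K, tlin g.val ≠ c • (1 : End K (Fin n → K)) :=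
  (pow_data hn hr g (order_of_tuple ω hω hn hr g hg hlt)).2

lemma order_of_tuple_U (hK : Fintype.card K = q ^ 2) (hn : 2 ≤ n) (hr : r.Prime)
    (g : ↥(Cfsg.GU n K q)) (hg : g ^ r = 1) (hlt : ∀ j, mult r ω g.1 j < n) :
    orderOf (QuotientGroup.mk g : ↥(Cfsg.GU n K q) ⧸ Subgroup.center ↥(Cfsg.GU n K q)) = r := by
  rw [order_prime_iff' hr]
  constructor
  · intro hc
    obtain ⟨c, hc⟩ := scalar_of_mem_center hK hn g hc
    exact not_scalar_of_mult_lt ω hω (by omega) hr g.1 (val_pow_eq_one g hg) hlt c hc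
  · rw [hg]
    exact Subgroup.one_mem _

lemma conj_of_same_mult_U (hK : Fintype.card K = q ^ 2) (g g' : ↥(Cfsg.GU n K q))
    (hg : g ^ r = 1) (hg' : g' ^ r = 1) (h : mult r ω g.1 = mult r ω g'.1) :
    IsConj (QuotientGroup.mk g : ↥(Cfsg.GU n K q) ⧸ Subgroup.center ↥(Cfsg.GU n K q))
      (QuotientGroup.mk g') := by
  obtain ⟨e, he⟩ := conj_of_eig_eq ω hω (tl g) (tl g') (tl_pow_eq_one g hg)
    (tl_pow_eq_one g' hg') (fun j => congrFun h j)
  exact isConj_of_intertwine_U hK g g' e 1 (by rw [one_pow, mul_one])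
    (fun v => by rw [he, one_smul])

/-- conjugate elements have rotated tuples -/
lemma rot_of_isConj_U (hK : Fintype.card K = q ^ 2) (hn : 2 ≤ n) (g g' : ↥(Cfsg.GU n K q))
    (hg : g ^ r = 1) (hg' : g' ^ r = 1)
    (h : IsConj (QuotientGroup.mk g : ↥(Cfsg.GU n K q) ⧸ Subgroup.center ↥(Cfsg.GU n K q))
      (QuotientGroup.mk g')) :
    ∃ k : ZMod r, ∀ j, mult r ω g'.1 (j + k) = mult r ω g.1 j := by
  have : Nonempty (Fin n) := ⟨⟨0, by omega⟩⟩
  obtain ⟨e, ζ, hζ1, he⟩ := intertwine_of_isConj_U hK hn g g' h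
  have hζ0 : ζ ≠ 0 := by
    rintro rfl
    rw [zero_mul] at hζ1
    exact zero_ne_one hζ1
  have h1 := intertwine_pow _ _ e ζ he r
  rw [tl_pow_eq_one g hg, tl_pow_eq_one g' hg'] at h1
  have h2 : ζ ^ r = 1 := by
    obtain ⟨v, hv⟩ := exists_ne (0 : Fin n → K)
    have h3 := h1 v
    rw [End.one_apply, End.one_apply] at h3
    have h4 : e v ≠ 0 := by
      intro h0
      exact hv (e.map_eq_zero_iff.1 h0)
    have h5 : (1 : K) • e v = ζ ^ r • e v := by rw [one_smul]; exact h3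
    exact (smul_left_injective K h4 h5).symm
  obtain ⟨k, rfl⟩ := exists_zp ω hω ζ h2
  refine ⟨k, fun j => ?_⟩
  unfold mult
  rw [add_comm, zp_add ω hω.pow_eq_one]
  exact intertwine_eig _ _ e _ hζ0 he _

/-- rotated tuples give conjugate elements -/
lemma isConj_of_rot_U (hK : Fintype.card K = q ^ 2) (hrq : r ∣ q + 1) (g g' : ↥(Cfsg.GU n K q))
    (hg : g ^ r = 1) (hg' : g' ^ r = 1) (k : ZMod r)
    (h : ∀ j, mult r ω g'.1 (j + k) = mult r ω g.1 j) :
    IsConj (QuotientGroup.mk g : ↥(Cfsg.GU n K q) ⧸ Subgroup.center ↥(Cfsg.GU n K q))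
      (QuotientGroup.mk g') := by
  have hk0 : zp ω (-k) ≠ 0 := zp_ne_zero ω hω.pow_eq_one _
  have hT' : (zp ω (-k) • tl g') ^ r = 1 := by
    rw [_root_.smul_pow, tl_pow_eq_one g' hg', zp_pow ω hω.pow_eq_one, one_smul]
  have hd : ∀ j : ZMod r, finrank K (eig (tl g) (zp ω j)) =
      finrank K (eig (zp ω (-k) • tl g') (zp ω j)) := by
    intro j
    have h1 : zp ω j = zp ω (-k) * zp ω (j + k) := by
      rw [← zp_add ω hω.pow_eq_one]
      congr 1
      ring
    have h2 : eig (zp ω (-k) • tl g') (zp ω (-k) * zp ω (j + k)) =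
        eig (tl g') (zp ω (j + k)) := eig_smul _ _ _ hk0
    rw [← h1] at h2
    rw [h2]
    exact (h j).symm
  obtain ⟨e, he⟩ := conj_of_eig_eq ω hω (tl g) (zp ω (-k) • tl g')
    (tl_pow_eq_one g hg) hT' hd
  exact isConj_of_intertwine_U hK g g' e _
    (norm_one_of_pow hrq _ (zp_pow ω hω.pow_eq_one _)) (fun v => by rw [he]; rfl)

end partA

/-- the classes of elements of order `r` -/
abbrev ClsU (K : Type*) [Field K] (q n r : ℕ) : Type _ :=
  {C : ConjClasses (↥(Cfsg.GU n K q) ⧸ Subgroup.center ↥(Cfsg.GU n K q)) //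
    ∃ g : ↥(Cfsg.GU n K q) ⧸ Subgroup.center ↥(Cfsg.GU n K q),
      ConjClasses.mk g = C ∧ orderOf g = r}

/-- classes containing an element of order `r` upstairs -/
def IsAU (C : ClsU K q n r) : Prop :=
  ∃ g : ↥(Cfsg.GU n K q), g ^ r = 1 ∧
    ConjClasses.mk (QuotientGroup.mk g :
      ↥(Cfsg.GU n K q) ⧸ Subgroup.center ↥(Cfsg.GU n K q)) = C.1

/-- non-scalar elements -/
lemma not_scalar_of_order (hn : 2 ≤ n) (hr : r.Prime) (g : ↥(Cfsg.GU n K q))
    (h : orderOf (QuotientGroup.mk g :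
      ↥(Cfsg.GU n K q) ⧸ Subgroup.center ↥(Cfsg.GU n K q)) = r) :
    ∀ c : K, tl g ≠ c • (1 : End K (Fin n → K)) := by
  intro c hc
  exact ((order_prime_iff' hr g).1 h).1 (mem_center_of_scalar g c hc)

theorem card_A_U [Fact r.Prime] (hK : Fintype.card K = q ^ 2) (hn : 2 ≤ n) (hrq : r ∣ q + 1)
    (ω : K) (hω : IsPrimitiveRoot ω r) :
    Nat.card {C : ClsU K q n r // IsAU C} =
      Nat.card (Quotient (MulAction.orbitRel (Multiplicative (ZMod r)) (Tup n r))) := by
  classical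
  have hr : r.Prime := Fact.out
  have : NeZero r := ⟨hr.ne_zero⟩
  choose D hD1 hD2 using (fun a : Tup n r => exists_D_U (n := n) (q := q) ω hω hrq a.1 a.2.1)
  have hDo : ∀ a : Tup n r,
      orderOf (QuotientGroup.mk (D a) :
        ↥(Cfsg.GU n K q) ⧸ Subgroup.center ↥(Cfsg.GU n K q)) = r :=
    fun a => order_of_tuple_U ω hω hK hn hr (D a) (hD1 a) (by rw [hD2 a]; exact a.2.2)
  let fA : Tup n r → {C : ClsU K q n r // IsAU C} := fun a =>
    ⟨⟨ConjClasses.mk (QuotientGroup.mk (D a)), ⟨QuotientGroup.mk (D a), rfl, hDo a⟩⟩,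
      ⟨D a, hD1 a, rfl⟩⟩
  apply card_eq_card_quotient (MulAction.orbitRel (Multiplicative (ZMod r)) (Tup n r)) fA
  · rintro ⟨⟨C, gb, hgb, hgbo⟩, ⟨g, hg, hgC⟩⟩
    have hC : ConjClasses.mk (QuotientGroup.mk g :
        ↥(Cfsg.GU n K q) ⧸ Subgroup.center ↥(Cfsg.GU n K q)) = C := hgC
    have hgo : orderOf (QuotientGroup.mk g :
        ↥(Cfsg.GU n K q) ⧸ Subgroup.center ↥(Cfsg.GU n K q)) = r := by
      rw [← hgbo]
      apply orderOf_of_isConj
      rw [← ConjClasses.mk_eq_mk_iff_isConj, hC, hgb]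
    have hns := not_scalar_of_order hn hr g hgo
    let a : Tup n r := ⟨mult r ω g.1, sum_mult ω hω g.1 (val_pow_eq_one g hg),
      fun j => finrank_eig_lt g.1 hns _⟩
    refine ⟨a, ?_⟩
    apply Subtype.ext
    apply Subtype.ext
    show ConjClasses.mk (QuotientGroup.mk (D a)) = C
    rw [← hC, ConjClasses.mk_eq_mk_iff_isConj]
    exact conj_of_same_mult_U ω hω hK (D a) g (hD1 a) hg (hD2 a)
  · intro a a'
    have h1 : fA a = fA a' ↔ IsConj (QuotientGroup.mk (D a) :
        ↥(Cfsg.GU n K q) ⧸ Subgroup.center ↥(Cfsg.GU n K q)) (QuotientGroup.mk (D a')) := by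
      rw [← ConjClasses.mk_eq_mk_iff_isConj]
      constructor
      · intro h
        exact congrArg (fun C => C.1.1) h
      · intro h
        apply Subtype.ext
        apply Subtype.ext
        exact h
    rw [h1]
    show _ ↔ MulAction.orbitRel (Multiplicative (ZMod r)) (Tup n r) a a'
    rw [MulAction.orbitRel_apply, MulAction.mem_orbit_iff]
    constructor
    · intro h
      obtain ⟨k, hk⟩ := rot_of_isConj_U ω hω hK hn (D a) (D a') (hD1 a) (hD1 a') h
      refine ⟨Multiplicative.ofAdd k, ?_⟩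
      apply Subtype.ext
      funext j
      rw [Cfsg.Agent.Lib.Helper15.RotCount.smul_apply, toAdd_ofAdd]
      have := hk j
      rw [hD2, hD2] at this
      exact this
    · rintro ⟨k, hk⟩
      apply isConj_of_rot_U ω hω hK hrq (D a) (D a') (hD1 a) (hD1 a') (Multiplicative.toAdd k) ?_
      intro j
      rw [hD2, hD2, ← hk, Cfsg.Agent.Lib.Helper15.RotCount.smul_apply]

section partB

/-- `r`-th powers of norm-one elements -/
abbrev RpowU (K : Type*) [Field K] (q r : ℕ) : Subgroup ↥(normOne K q) :=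
  (powMonoidHom r : ↥(normOne K q) →* ↥(normOne K q)).range

lemma card_QU (hK : Fintype.card K = q ^ 2) (hrq : r ∣ q + 1) :
    Nat.card (↥(normOne K q) ⧸ RpowU K q r) = r := by
  classical
  rw [← Subgroup.index_eq_card, IsCyclic.index_powMonoidHom_range, card_normOne hK]
  exact Nat.gcd_eq_right hrq

/-- the value of a norm-one unit -/
abbrev nv (lam : ↥(normOne K q)) : K := ((lam.1 : Kˣ) : K)

lemma nv_norm (lam : ↥(normOne K q)) : nv lam * nv lam ^ q = 1 := by
  have h := (mem_normOne lam.1).1 lam.2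
  have h2 := congrArg Units.val h
  rw [Units.val_pow_eq_pow_val, Units.val_one, pow_succ'] at h2
  exact h2

/-- make a norm-one unit -/
def mkN (c : K) (hc : c * c ^ q = 1) : ↥(normOne K q) :=
  ⟨Units.mk0 c (by rintro rfl; rw [zero_mul] at hc; exact zero_ne_one hc), by
    rw [mem_normOne]
    apply Units.ext
    rw [Units.val_pow_eq_pow_val, Units.val_one, Units.val_mk0, pow_succ']
    exact hc⟩

lemma nv_mkN (c : K) (hc : c * c ^ q = 1) : nv (mkN (q := q) c hc) = c := rfl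

lemma not_pow_U (hK : Fintype.card K = q ^ 2) (hr : r.Prime) (hr2 : r ≠ 2)
    (lam : ↥(normOne K q))
    (h : (QuotientGroup.mk lam : ↥(normOne K q) ⧸ RpowU K q r) ≠ 1) :
    ∀ b : K, b ^ r ≠ nv lam := by
  intro b hb
  apply h
  rw [QuotientGroup.eq_one_iff]
  have hq1 : 1 ≤ q := by
    rcases Nat.eq_zero_or_pos q with h0 | h0
    · subst h0
      have : Fintype.card K = 0 := by rw [hK]; norm_num
      exact absurd this Fintype.card_ne_zero
    · exact h0
  have hb0 : b ≠ 0 := by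
    rintro rfl
    rw [zero_pow hr.ne_zero] at hb
    exact lam.1.ne_zero hb.symm
  obtain ⟨k, hk⟩ : ∃ k, r = 2 * k + 1 := by
    rcases hr.eq_two_or_odd with h2 | h2
    · exact absurd h2 hr2
    · exact ⟨r / 2, by omega⟩
  have hlam : nv lam ^ (q + 1) = 1 := by
    rw [pow_succ']; exact nv_norm lam
  have hbq : b ^ (q ^ 2 - 1) = 1 := by
    rw [← hK]; exact FiniteField.pow_card_sub_one_eq_one b hb0
  have hqq : (q - 1) * (q + 1) = q ^ 2 - 1 := by
    obtain ⟨t, rfl⟩ : ∃ t, q = t + 1 := ⟨q - 1, by omega⟩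
    have : (t + 1) ^ 2 = (t + 1 - 1) * (t + 1 + 1) + 1 := by
      simp only [Nat.add_sub_cancel]; ring
    omega
  set c : K := (b ^ (q - 1)) ^ k * nv lam with hc
  have hcn : c * c ^ q = 1 := by
    rw [← pow_succ', hc, mul_pow, hlam, mul_one, ← pow_mul, ← pow_mul, mul_comm k, ← mul_assoc,
      hqq, pow_mul, hbq, one_pow]
  have hcr : c ^ r = nv lam := by
    have e1 : ((b ^ (q - 1)) ^ k) ^ r = (b ^ r) ^ ((q - 1) * k) := by
      rw [← pow_mul, ← pow_mul, ← pow_mul]
      congr 1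
      ring
    have e2 : (q - 1) * k + r = (q + 1) * k + 1 := by
      obtain ⟨t, rfl⟩ : ∃ t, q = t + 1 := ⟨q - 1, by omega⟩
      rw [hk, Nat.add_sub_cancel]
      ring
    rw [hc, mul_pow, e1, hb, ← pow_add, e2, pow_succ, pow_mul, hlam, one_pow, one_mul]
  refine ⟨mkN c hcn, ?_⟩
  apply Subtype.ext
  apply Units.ext
  show (c : K) ^ r = nv lam
  exact hcr

open Matrix in
/-- a unitary element with prescribed `r`-th power -/
lemma exists_gB_U (hK : Fintype.card K = q ^ 2) (hr : r.Prime) (hr2 : r ≠ 2) (m : ℕ)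
    (hnm : n = r * m) (lam : ↥(normOne K q))
    (hne : (QuotientGroup.mk lam : ↥(normOne K q) ⧸ RpowU K q r) ≠ 1) :
    ∃ g : ↥(Cfsg.GU n K q), tl g ^ r = nv lam • (1 : End K (Fin n → K)) := by
  classical
  have hnp := not_pow_U hK hr hr2 lam hne
  obtain ⟨A, hA⟩ := nonpow_matrix (n := n) hr m hnm (nv lam) hnp
  have hr1 : 1 ≤ r := hr.one_lt.le
  have hl0 : nv lam ≠ 0 := lam.1.ne_zero
  have hA1 : A * ((nv lam)⁻¹ • A ^ (r - 1)) = 1 := by
    rw [mul_smul_comm, ← pow_succ', Nat.sub_add_cancel hr1, hA, smul_smul, inv_mul_cancel₀ hl0,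
      one_smul]
  have hA2 : ((nv lam)⁻¹ • A ^ (r - 1)) * A = 1 := by
    rw [smul_mul_assoc, ← pow_succ, Nat.sub_add_cancel hr1, hA, smul_smul, inv_mul_cancel₀ hl0,
      one_smul]
  let AG : GL (Fin n) K := ⟨A, _, hA1, hA2⟩
  let _ : StarRing K := S2643.frobStar hK
  have hAH : (A.map (fun x : K => x ^ q)).transpose = Aᴴ := rfl
  have hstar : star (nv lam) = (nv lam) ^ q := rfl
  have h1 : Aᴴ ^ r = ((nv lam) ^ q) • (1 : Matrix (Fin n) (Fin n) K) := by
    rw [← Matrix.conjTranspose_pow, hA, Matrix.conjTranspose_smul, Matrix.conjTranspose_one, hstar]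
  have h2 : (Aᴴ)⁻¹ ^ r = nv lam • (1 : Matrix (Fin n) (Fin n) K) := by
    rw [Matrix.inv_pow', h1]
    apply Matrix.inv_eq_left_inv
    rw [smul_mul_smul_comm, mul_one, nv_norm, one_smul]
  have hT : tlin A ^ r = nv lam • (1 : End K (Fin n → K)) := by
    rw [← S2670.tlin_pow, hA, tlin_smul, tlin_one]
  have hT' : tlin ((Aᴴ)⁻¹) ^ r = nv lam • (1 : End K (Fin n → K)) := by
    rw [← S2670.tlin_pow, h2, tlin_smul, tlin_one]
  obtain ⟨e, he⟩ := conj_of_nonpow hr (tlin A) (tlin ((Aᴴ)⁻¹)) (nv lam) hnp hT hT'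
  let Q : End K (Fin n → K) := (e : (Fin n → K) →ₗ[K] (Fin n → K))
  let Q' : End K (Fin n → K) := (e.symm : (Fin n → K) →ₗ[K] (Fin n → K))
  have hQQ' : Q * Q' = 1 := by
    apply LinearMap.ext; intro v; exact e.apply_symm_apply v
  have hQ'Q : Q' * Q = 1 := by
    apply LinearMap.ext; intro v; exact e.symm_apply_apply v
  let c : (Matrix (Fin n) (Fin n) K)ˣ := ⟨LinearMap.toMatrixAlgEquiv' Q,
    LinearMap.toMatrixAlgEquiv' Q', by rw [← map_mul, hQQ', map_one],
    by rw [← map_mul, hQ'Q, map_one]⟩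
  have hc : tlin c.val = Q := by
    show Matrix.toLinAlgEquiv' (LinearMap.toMatrixAlgEquiv' Q) = Q
    exact Matrix.toLinAlgEquiv'_toMatrixAlgEquiv' Q
  have hsemi : (c : Matrix (Fin n) (Fin n) K) * A = (Aᴴ)⁻¹ * (c : Matrix (Fin n) (Fin n) K) := by
    apply tlin_injective
    rw [tlin_mul, tlin_mul, hc]
    apply LinearMap.ext
    intro v
    exact he v
  have hconj : IsConj ((AG : GL (Fin n) K) : Matrix (Fin n) (Fin n) K)
      ((((AG : GL (Fin n) K) : Matrix (Fin n) (Fin n) K).map (fun x : K => x ^ q)).transpose)⁻¹ :=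
    ⟨c, hsemi⟩
  obtain ⟨B, hB⟩ := (S2588.result hK AG).2 hconj
  obtain ⟨d, hd⟩ := isConj_iff.1 hB
  refine ⟨B, ?_⟩
  show tlin (B.1 : GL (Fin n) K).val ^ r = _
  rw [← hd, ← tlin_val_pow, conj_pow, tlin_val_mul, tlin_val_mul, tlin_val_pow]
  show tlin d.val * tlin A ^ r * tlin d⁻¹.val = _
  rw [hT, mul_smul_comm, mul_one, smul_mul_assoc, ← tlin_val_mul, mul_inv_cancel, Units.val_one,
    tlin_one]

/-- the class of the `r`-th power scalar is a conjugacy invariant -/
lemma mk_eq_of_isConj_U (hK : Fintype.card K = q ^ 2) (hn : 2 ≤ n) (g g' : ↥(Cfsg.GU n K q))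
    (lam lam' : ↥(normOne K q))
    (hg : tl g ^ r = nv lam • (1 : End K (Fin n → K)))
    (hg' : tl g' ^ r = nv lam' • (1 : End K (Fin n → K)))
    (h : IsConj (QuotientGroup.mk g : ↥(Cfsg.GU n K q) ⧸ Subgroup.center ↥(Cfsg.GU n K q))
      (QuotientGroup.mk g')) :
    (QuotientGroup.mk lam : ↥(normOne K q) ⧸ RpowU K q r) = QuotientGroup.mk lam' := by
  have : Nonempty (Fin n) := ⟨⟨0, by omega⟩⟩
  obtain ⟨e, ζ, hζ1, he⟩ := intertwine_of_isConj_U hK hn g g' h
  have h1 := intertwine_pow _ _ e ζ he r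
  rw [hg, hg'] at h1
  have h2 : nv lam' = ζ ^ r * nv lam := by
    obtain ⟨v, hv⟩ := exists_ne (0 : Fin n → K)
    have h3 := h1 v
    simp only [LinearMap.smul_apply, End.one_apply, map_smul, smul_smul] at h3
    have h4 : e v ≠ 0 := by
      intro h0
      exact hv (e.map_eq_zero_iff.1 h0)
    exact smul_left_injective K h4 h3
  rw [QuotientGroup.eq]
  refine ⟨mkN ζ hζ1, ?_⟩
  apply Subtype.ext
  apply Units.ext
  show (ζ : K) ^ r = ((lam⁻¹ * lam' : ↥(normOne K q)).1 : Kˣ)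
  rw [Subgroup.coe_mul, Subgroup.coe_inv, Units.val_mul, Units.val_inv_eq_inv_val]
  show ζ ^ r = (nv lam)⁻¹ * nv lam'
  rw [h2]
  have : nv lam ≠ 0 := lam.1.ne_zero
  field_simp

/-- elements of non-power type with the same class of scalars are conjugate -/
lemma isConj_of_mk_eq_U (hK : Fintype.card K = q ^ 2) (hr : r.Prime) (hr2 : r ≠ 2)
    (g g' : ↥(Cfsg.GU n K q)) (lam lam' : ↥(normOne K q))
    (hg : tl g ^ r = nv lam • (1 : End K (Fin n → K)))
    (hg' : tl g' ^ r = nv lam' • (1 : End K (Fin n → K)))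
    (hlam' : (QuotientGroup.mk lam' : ↥(normOne K q) ⧸ RpowU K q r) ≠ 1)
    (h : (QuotientGroup.mk lam : ↥(normOne K q) ⧸ RpowU K q r) = QuotientGroup.mk lam') :
    IsConj (QuotientGroup.mk g : ↥(Cfsg.GU n K q) ⧸ Subgroup.center ↥(Cfsg.GU n K q))
      (QuotientGroup.mk g') := by
  rw [QuotientGroup.eq] at h
  obtain ⟨c, hc⟩ := h
  have hc' : nv c ^ r * nv lam = nv lam' := by
    have h1 := congrArg (fun u : ↥(normOne K q) => nv u) hc
    simp only [powMonoidHom_apply] at h1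
    have h2 : nv (c ^ r) = nv c ^ r := by
      show (((c ^ r : ↥(normOne K q)).1 : Kˣ) : K) = _
      rw [Subgroup.coe_pow, Units.val_pow_eq_pow_val]
    have h3 : nv (lam⁻¹ * lam') = (nv lam)⁻¹ * nv lam' := by
      show (((lam⁻¹ * lam' : ↥(normOne K q)).1 : Kˣ) : K) = _
      rw [Subgroup.coe_mul, Subgroup.coe_inv, Units.val_mul, Units.val_inv_eq_inv_val]
    rw [h2, h3] at h1
    rw [h1]
    have : nv lam ≠ 0 := lam.1.ne_zero
    field_simp
  have hT : (nv c • tl g) ^ r = nv lam' • (1 : End K (Fin n → K)) := by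
    rw [_root_.smul_pow, hg, smul_smul, hc']
  obtain ⟨e, he⟩ := conj_of_nonpow hr (tl g') (nv c • tl g) (nv lam')
    (not_pow_U hK hr hr2 lam' hlam') hg' hT
  exact (isConj_of_intertwine_U hK g' g e (nv c) (nv_norm c) (fun v => by rw [he]; rfl)).symm

/-- representatives for classes not of type A -/
lemma class_B_data_U (hK : Fintype.card K = q ^ 2) (hn : 2 ≤ n) (hr : r.Prime)
    (C : ClsU K q n r) (hC : ¬ IsAU C) :
    ∃ (g : ↥(Cfsg.GU n K q)) (lam : ↥(normOne K q)),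
      ConjClasses.mk (QuotientGroup.mk g :
        ↥(Cfsg.GU n K q) ⧸ Subgroup.center ↥(Cfsg.GU n K q)) = C.1 ∧
      tl g ^ r = nv lam • (1 : End K (Fin n → K)) ∧
      (QuotientGroup.mk lam : ↥(normOne K q) ⧸ RpowU K q r) ≠ 1 := by
  obtain ⟨gb, hgb, hgbo⟩ := C.2
  obtain ⟨g, rfl⟩ := QuotientGroup.mk_surjective gb
  obtain ⟨-, h2⟩ := (order_prime_iff' hr g).1 hgbo
  obtain ⟨lam, hlam⟩ := scalar_of_mem_center hK hn _ h2
  have hlam1 := norm_of_scalar hK hn _ lam hlam
  rw [tl_pow] at hlam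
  refine ⟨g, mkN lam hlam1, hgb, hlam, ?_⟩
  intro h1
  rw [QuotientGroup.eq_one_iff] at h1
  obtain ⟨c, hc⟩ := h1
  have hc' : nv c ^ r = lam := by
    have h3 := congrArg (fun u : ↥(normOne K q) => nv u) hc
    simp only [powMonoidHom_apply] at h3
    have h4 : nv (c ^ r) = nv c ^ r := by
      show (((c ^ r : ↥(normOne K q)).1 : Kˣ) : K) = _
      rw [Subgroup.coe_pow, Units.val_pow_eq_pow_val]
    rw [h4] at h3
    exact h3
  apply hC
  obtain ⟨s, hs⟩ := exists_scalU (n := n) (q := q) (nv c⁻¹) (nv_norm c⁻¹)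
  refine ⟨s * g, ?_, ?_⟩
  · apply tl_injective
    rw [tl_pow, tl_mul, hs, smul_mul_assoc, one_mul, _root_.smul_pow, hlam, smul_smul, tl_one,
      ← hc', ← mul_pow]
    have : nv c⁻¹ * nv c = 1 := by
      show (((c⁻¹ : ↥(normOne K q)).1 : Kˣ) : K) * ((c.1 : Kˣ) : K) = 1
      rw [Subgroup.coe_inv, ← Units.val_mul, inv_mul_cancel, Units.val_one]
    rw [this, one_pow, one_smul]
  · rw [QuotientGroup.mk_mul, (QuotientGroup.eq_one_iff s).2 (mem_center_of_scalar s _ hs),
      one_mul, hgb]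

theorem card_B_U [Fact r.Prime] (hK : Fintype.card K = q ^ 2) (hn : 2 ≤ n) (hr2 : r ≠ 2)
    (hrq : r ∣ q + 1) :
    Nat.card {C : ClsU K q n r // ¬ IsAU C} = if r ∣ n then r - 1 else 0 := by
  classical
  have hr : r.Prime := Fact.out
  by_cases hrn : r ∣ n
  · rw [if_pos hrn]
    obtain ⟨m, hm⟩ := hrn
    have hex : ∀ x : {x : ↥(normOne K q) ⧸ RpowU K q r // x ≠ 1},
        ∃ (g : ↥(Cfsg.GU n K q)) (lam : ↥(normOne K q)),
        (QuotientGroup.mk lam : ↥(normOne K q) ⧸ RpowU K q r) = x.1 ∧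
        tl g ^ r = nv lam • (1 : End K (Fin n → K)) := by
      intro x
      obtain ⟨lam, hlam⟩ := QuotientGroup.mk_surjective x.1
      have hne : (QuotientGroup.mk lam : ↥(normOne K q) ⧸ RpowU K q r) ≠ 1 := by
        rw [hlam]; exact x.2
      obtain ⟨g, hg⟩ := exists_gB_U hK hr hr2 m hm lam hne
      exact ⟨g, lam, hlam, hg⟩
    choose G L hL hG using hex
    have hLne : ∀ x, (QuotientGroup.mk (L x) : ↥(normOne K q) ⧸ RpowU K q r) ≠ 1 := fun x => by
      rw [hL x]; exact x.2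
    have hGo : ∀ x, orderOf (QuotientGroup.mk (G x) :
        ↥(Cfsg.GU n K q) ⧸ Subgroup.center ↥(Cfsg.GU n K q)) = r := by
      intro x
      rw [order_prime_iff' hr]
      constructor
      · intro hc
        obtain ⟨c, hc⟩ := scalar_of_mem_center hK hn _ hc
        have h1 := hG x
        rw [hc, smul_one_pow] at h1
        exact not_pow_U hK hr hr2 (L x) (hLne x) c (scalar_inj (by omega) _ _ h1)
      · apply mem_center_of_scalar _ (nv (L x))
        rw [tl_pow]
        exact hG x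
    have hnotA : ∀ x, ¬ IsAU (⟨ConjClasses.mk (QuotientGroup.mk (G x)),
        ⟨QuotientGroup.mk (G x), rfl, hGo x⟩⟩ : ClsU K q n r) := by
      rintro x ⟨g, hg, hgC⟩
      have h1 : IsConj (QuotientGroup.mk g :
          ↥(Cfsg.GU n K q) ⧸ Subgroup.center ↥(Cfsg.GU n K q))
          (QuotientGroup.mk (G x)) := ConjClasses.mk_eq_mk_iff_isConj.1 hgC
      have h2 := mk_eq_of_isConj_U hK hn g (G x) 1 (L x)
        (by rw [tl_pow_eq_one g hg]
            show (1 : End K (Fin n → K)) = (((1 : ↥(normOne K q)).1 : Kˣ) : K) • 1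
            rw [Subgroup.coe_one, Units.val_one, one_smul]) (hG x) h1
      exact hLne x h2.symm
    let fB : {x : ↥(normOne K q) ⧸ RpowU K q r // x ≠ 1} → {C : ClsU K q n r // ¬ IsAU C} :=
      fun x => ⟨⟨ConjClasses.mk (QuotientGroup.mk (G x)), ⟨QuotientGroup.mk (G x), rfl, hGo x⟩⟩,
        hnotA x⟩
    have hbij : Function.Bijective fB := by
      constructor
      · intro x y hxy
        have h1 : IsConj (QuotientGroup.mk (G x) :
            ↥(Cfsg.GU n K q) ⧸ Subgroup.center ↥(Cfsg.GU n K q)) (QuotientGroup.mk (G y)) :=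
          ConjClasses.mk_eq_mk_iff_isConj.1 (congrArg (fun C => C.1.1) hxy)
        have h2 := mk_eq_of_isConj_U hK hn (G x) (G y) (L x) (L y) (hG x) (hG y) h1
        apply Subtype.ext
        rw [← hL x, ← hL y, h2]
      · rintro ⟨C, hC⟩
        obtain ⟨g, lam, hgC, hglam, hne⟩ := class_B_data_U hK hn hr C hC
        refine ⟨⟨QuotientGroup.mk lam, hne⟩, ?_⟩
        apply Subtype.ext
        apply Subtype.ext
        show ConjClasses.mk (QuotientGroup.mk (G ⟨QuotientGroup.mk lam, hne⟩)) = C.1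
        rw [← hgC, ConjClasses.mk_eq_mk_iff_isConj]
        exact isConj_of_mk_eq_U hK hr hr2 _ g (L ⟨QuotientGroup.mk lam, hne⟩) lam (hG _) hglam
          hne (hL _)
    rw [← Nat.card_congr (Equiv.ofBijective fB hbij)]
    have hQ := card_QU (K := K) (r := r) hK hrq
    have : Finite (↥(normOne K q) ⧸ RpowU K q r) :=
      Nat.finite_of_card_ne_zero (by rw [hQ]; exact hr.ne_zero)
    have : Fintype (↥(normOne K q) ⧸ RpowU K q r) := Fintype.ofFinite _
    rw [Nat.card_eq_fintype_card, Fintype.card_subtype_compl, Fintype.card_subtype_eq,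
      ← Nat.card_eq_fintype_card, hQ]
  · rw [if_neg hrn]
    rw [Nat.card_eq_zero]
    left
    constructor
    rintro ⟨C, hC⟩
    obtain ⟨g, lam, hgC, hglam, hne⟩ := class_B_data_U hK hn hr C hC
    have := dvd_of_nonpow hr (tl g) (nv lam) (not_pow_U hK hr hr2 lam hne) hglam
    rw [Module.finrank_fin_fun] at this
    exact hrn this

end partB

theorem main (hK : Fintype.card K = q ^ 2) (hn : 3 ≤ n) (hr : r.Prime) (hr2 : r ≠ 2)
    (hrq : r ∣ q + 1) :
    Nat.card (ClsU K q n r) = ((n + r - 1).choose (r - 1) - r - (if r ∣ n then 1 else 0)) / r +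
      r * (if r ∣ n then 1 else 0) := by
  classical
  have : Fact r.Prime := ⟨hr⟩
  have : NeZero r := ⟨hr.ne_zero⟩
  have hq1 : 1 ≤ q := by
    rcases Nat.eq_zero_or_pos q with h0 | h0
    · subst h0
      have : Fintype.card K = 0 := by rw [hK]; norm_num
      exact absurd this Fintype.card_ne_zero
    · exact h0
  have hdiv : r ∣ Fintype.card Kˣ := by
    rw [Fintype.card_units, hK]
    have : q ^ 2 - 1 = (q + 1) * (q - 1) := by
      obtain ⟨t, rfl⟩ : ∃ t, q = t + 1 := ⟨q - 1, by omega⟩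
      have : (t + 1) ^ 2 = (t + 1 + 1) * (t + 1 - 1) + 1 := by
        simp only [Nat.add_sub_cancel]; ring
      omega
    rw [this]
    exact Dvd.dvd.mul_right hrq _
  obtain ⟨x, hx⟩ := exists_prime_orderOf_dvd_card r (G := Kˣ) hdiv
  have hω : IsPrimitiveRoot ((x : Kˣ) : K) r := by
    rw [IsPrimitiveRoot.coe_units_iff, ← hx]
    exact IsPrimitiveRoot.orderOf x
  have hfin : Finite (ClsU K q n r) := inferInstance
  rw [← Nat.card_congr (Equiv.sumCompl (fun C : ClsU K q n r => IsAU C)), Nat.card_sum,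
    card_A_U hK (by omega) hrq _ hω, card_B_U hK (by omega) hr2 hrq]
  exact count_formula (by omega)

/-- Number of conjugacy classes of elements of odd prime order r in PGU_n(q) = GU_n(q)/scalars (n ≥ 3) when r divides q + 1: as in the linear case with q − 1 replaced by q + 1, the classes correspond to the rotation orbits on r-tuples of eigenvalue multiplicities summing to n with every entry < n, plus r − 1 further classes when r divides n; in all (C(n+r−1, r−1) − r − [r ∣ n])/r + r·[r ∣ n]. -/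
theorem result {K : Type*} [Field K] [Fintype K] {q n r : ℕ} (hK : Fintype.card K = q ^ 2) (hn : 3 ≤ n) (hr : r.Prime) (hr2 : r ≠ 2) (hrq : r ∣ q + 1) : Nat.card {C : ConjClasses (↥(Cfsg.GU n K q) ⧸ Subgroup.center ↥(Cfsg.GU n K q)) // ∃ g : ↥(Cfsg.GU n K q) ⧸ Subgroup.center ↥(Cfsg.GU n K q), ConjClasses.mk g = C ∧ orderOf g = r} = (Nat.choose (n + r - 1) (r - 1) - r - (if r ∣ n then 1 else 0)) / r + r * (if r ∣ n then 1 else 0) := by
  exact main hK hn hr hr2 hrq

end Cfsg.Agent.S2672
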