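import Cfsg.Statements.S2673
-- import your own Cfsg.Agent.* helpers here
import Cfsg.Agent.Lib.Helper15.StarPoly
import Cfsg.Agent.Lib.Helper15.OrthReal
import Cfsg.Agent.Lib.Helper15.PrimeOrderClasses
import Cfsg.Agent.Lib.Helper15.IsometryTransport
import Cfsg.Agent.S2568
import Cfsg.Agent.S2389
import Cfsg.Agent.S2671
import Cfsg.Agent.S2645

set_option autoImplicit false
open Cfsg

namespace Cfsg.Agent.S2673

open Polynomial Cfsg.Agent.Lib.Helper15 Cfsg.Agent.Lib.Helper15.PrimeOrderClasses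
  Cfsg.Agent.Lib.Helper15.SemisimpleCount Cfsg.Agent.Lib.Helper15.OrthReal
open scoped Matrix

section mainsec

open Cfsg.Agent.S2568 Cfsg.Agent.S2671 Cfsg.Agent.S2645

theorem main {F : Type*} [Field F] [Fintype F] {p q : ℕ} [hp : Fact p.Prime] [CharP F p]
    (hF : Fintype.card F = q) (hq : Odd q) (m r i t : ℕ) (hr : r.Prime) (hr2 : r ≠ 2) (hrp : r ≠ p)
    (hi : i = orderOf (q : ZMod r)) (ht : t * i = r - 1) :
    Nat.card {C : ConjClasses ↥(Cfsg.isometryGroup F (Cfsg.quadFormOdd m F)) //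
      ∃ g : ↥(Cfsg.isometryGroup F (Cfsg.quadFormOdd m F)), ConjClasses.mk g = C ∧ orderOf g = r} =
      if Odd i then Nat.choose (m / i + t / 2) (t / 2) - 1
      else Nat.choose ((2 * m + 1) / i + t) t - 1 := by
  classical
  have hi0 : 0 < i := by
    rcases Nat.eq_zero_or_pos i with h0 | h0
    · rw [h0, mul_zero] at ht
      have := hr.two_le
      omega
    · exact h0
  have h2F : (2 : F) ≠ 0 := by
    intro h2
    have h3 : ((2 : ℕ) : F) = 0 := by rw [Nat.cast_ofNat]; exact h2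
    rw [CharP.cast_eq_zero_iff F p] at h3
    have hp2 : p = 2 := (Nat.prime_dvd_prime_iff_eq hp.out Nat.prime_two).1 h3
    obtain ⟨n, hn⟩ := FiniteField.card F p
    rw [hF, hp2] at hn
    have : Even q := by
      rw [hn.2]
      exact (Nat.even_pow' n.ne_zero).2 even_two
    exact (Nat.not_even_iff_odd.2 hq) this
  have hrodd : Odd r := hr.odd_of_ne_two hr2
  obtain ⟨h, hmon, hirr, hnone, hdeg, hprod⟩ := exists_factor_family hF r i t hr hrp hi ht
  have hrF : (r : F) ≠ 0 := by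
    rw [Ne, CharP.cast_eq_zero_iff F p]
    intro hd
    exact hrp ((Nat.prime_dvd_prime_iff_eq hp.out hr).1 hd).symm
  have hsq : Squarefree (∏ o, h o) := by
    rw [hprod]
    have := (separable_X_pow_sub_C (1 : F) hrF one_ne_zero).squarefree
    rwa [map_one] at this
  have hcop := family_coprime h hmon hirr hsq
  have hinj : Function.Injective h := by
    intro o o' hoo'
    by_contra hne
    have h1 := hcop o o' hne
    rw [hoo'] at h1
    exact (hirr o').not_isUnit (isCoprime_self.1 h1)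
  obtain ⟨σ, hσdef⟩ : ∃ σ : F →+* F, σ = RingHom.id F := ⟨_, rfl⟩
  have hσ : ∀ c, σ c = c ^ (p ^ 0) := by
    intro c
    rw [hσdef, pow_zero, pow_one]
    rfl
  have hσσ : ∀ c, σ (σ c) = c := by
    intro c
    rw [hσdef]
    rfl
  obtain ⟨τ', hτ', hinv'⟩ := exists_tau σ hσσ r hr.pos h hmon hirr hprod hinj
  have hτnone : τ' none = none := by
    apply hinj
    rw [← hτ', hnone, StarPoly.star_X_sub_one]
  have hτsome : ∀ j, ∃ j', τ' (some j) = some j' := by
    intro j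
    cases hj : τ' (some j) with
    | none =>
      exfalso
      have := hinv' (some j)
      rw [hj, hτnone] at this
      exact absurd this.symm (Option.some_ne_none j)
    | some j' => exact ⟨j', rfl⟩
  choose τ hτ using hτsome
  have hinv : Function.Involutive τ := by
    intro j
    have := hinv' (some j)
    rw [hτ, hτ] at this
    exact Option.some.inj this
  have hdvdj : ∀ o, h o ∣ X ^ r - 1 := by
    intro o
    rw [← hprod]
    exact Finset.dvd_prod_of_mem h (Finset.mem_univ _)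
  have hnej : ∀ j, h (some j) ≠ X - 1 := by
    intro j
    rw [← hnone]
    intro h1
    exact absurd (hinj h1) (Option.some_ne_none j)
  have hdich : ∀ j, τ j = j ↔ Even i := by
    intro j
    have h1 := StarPoly.star_eq_self_iff p 0 σ hσ hσσ r hr (h (some j)) (hmon _) (hirr _)
      (hdvdj _) (hnej j)
    rw [hτ', hτ] at h1
    have h2 : (∃ m : ℕ, ((p ^ 0 + Nat.card F ^ m : ℕ) : ZMod r) = 0) ↔ Even i := by
      rw [Nat.card_eq_fintype_card, hF, pow_zero]
      exact arith_even r q i hr hr2 hi hi0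
    rw [← h2, ← h1]
    constructor
    · intro h3
      rw [h3]
    · intro h3
      exact Option.some.inj (hinj h3)
  have hstarex : ∀ e : Option (Fin t) → ℕ,
      StarPoly.star σ (∏ o, h o ^ e o) = ∏ o, h o ^ e (τ' o) :=
    star_family σ h τ' hτ' hinv'
  obtain ⟨K, hK⟩ : ∃ K, K = (2 * m + 1) / i := ⟨_, rfl⟩
  have hKle : ∀ s : ℕ, s ≤ K ↔ i * s ≤ 2 * m + 1 := by
    intro s
    rw [hK, Nat.le_div_iff_mul_le hi0, mul_comm]
  let ex : (Fin t → ℕ) → Option (Fin t) → ℕ :=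
    fun a o => Option.casesOn o (2 * m + 1 - i * ∑ j, a j) a
  have hdegsum : ∀ e : Option (Fin t) → ℕ,
      (∏ o, h o ^ e o).natDegree = e none + i * ∑ j, e (some j) := by
    intro e
    have hX1 : (X - 1 : F[X]).natDegree = 1 := by
      rw [← C_1]; exact natDegree_X_sub_C 1
    rw [natDegree_family h hmon, Fintype.sum_option, hnone, hX1, mul_one,
      Finset.mul_sum]
    congr 1
    apply Finset.sum_congr rfl
    intro j _
    rw [hdeg j, mul_comm]
  have hdegex : ∀ a : Fin t → ℕ, (∑ j, a j) ≤ K →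
      (∏ o, h o ^ ex a o).natDegree = 2 * m + 1 := by
    intro a ha
    rw [hdegsum]
    show 2 * m + 1 - i * ∑ j, a j + i * ∑ j, a j = 2 * m + 1
    have h1 : i * ∑ j, a j ≤ 2 * m + 1 := (hKle _).1 ha
    omega
  -- realisation
  have hreal : ∀ a : Fin t → ℕ, (∑ j, a j) ≤ K → (∀ j, a (τ j) = a j) →
      OrthReal r (∏ o, h o ^ ex a o) := by
    intro a ha hainv
    rw [Fintype.prod_option]
    apply OrthReal.mul
    · show OrthReal r (h none ^ (2 * m + 1 - i * ∑ j, a j))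
      rw [hnone]
      exact orthReal_fixed r _
    show OrthReal r (∏ j, h (some j) ^ a j)
    by_cases hev : Even i
    · -- all factors self-dual
      have hτid : ∀ j, τ j = j := fun j => (hdich j).2 hev
      apply OrthReal.prod
      intro j _
      apply OrthReal.pow
      apply orthReal_selfdual p r (h (some j)) (hmon _) (hirr _) _ (hdvdj _)
      have := hτ' (some j)
      rw [hτ, hτid, hσdef] at this
      exact this
    · -- dual pairs
      have hfpf : ∀ j, τ j ≠ j := fun j hj => hev ((hdich j).1 hj)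
      let ek : Option (Fin t) → ℕ :=
        fun o => Option.casesOn o 0 (fun j => if j < τ j then a j else 0)
      have hek : ∀ j, ek (some j) + ek (τ' (some j)) = a j := by
        intro j
        rw [hτ]
        show (if j < τ j then a j else 0) + (if τ j < τ (τ j) then a (τ j) else 0) = a j
        rw [hinv j, hainv j]
        by_cases hj : j < τ j
        · rw [if_pos hj, if_neg (lt_asymm hj), add_zero]
        · have hj' : τ j < j := lt_of_le_of_ne (not_lt.1 hj) (hfpf j)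
          rw [if_neg hj, if_pos hj', zero_add]
      obtain ⟨g, hg⟩ : ∃ g : F[X], g = ∏ o, h o ^ ek o := ⟨_, rfl⟩
      have hgmon : g.Monic := by
        rw [hg]
        exact monic_prod_of_monic _ _ (fun o _ => (hmon o).pow _)
      have hgdvd : g ∣ (X ^ r - 1) ^ (∑ o, ek o) := by
        rw [hg, ← hprod]
        exact family_dvd_pow h ek
      obtain ⟨C, hC, hCr⟩ := exists_matrix_pow_eq_one g.natDegree r (∑ o, ek o) hr.pos g hgmon
        rfl hgdvd
      obtain ⟨r', hr'⟩ : ∃ r', r = r' + 1 := ⟨r - 1, by have := hr.pos; omega⟩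
      have h2 := orthReal_hyperbolic r g.natDegree C (C ^ r') (by rw [← pow_succ', ← hr', hCr]) hCr
      rw [hC, ← hσdef, hg, hstarex, ← Finset.prod_mul_distrib, Fintype.prod_option] at h2
      have h3 : h none ^ ek none * h none ^ ek (τ' none) = 1 := by
        rw [hτnone]
        show h none ^ 0 * h none ^ 0 = 1
        rw [pow_zero, one_mul]
      have h4 : ∀ j, h (some j) ^ ek (some j) * h (some j) ^ ek (τ' (some j)) =
          h (some j) ^ a j := by
        intro j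
        rw [← pow_add, hek]
      rw [h3, one_mul, Finset.prod_congr rfl (fun j _ => h4 j)] at h2
      exact h2
  have hstruct : ∀ A : Matrix (Unit ⊕ (Fin m ⊕ Fin m)) (Unit ⊕ (Fin m ⊕ Fin m)) F, A ^ r = 1 →
      ∃ e : Option (Fin t) → ℕ, A.charpoly = ∏ o, h o ^ e o := by
    intro A hA
    apply matrix_charpoly_of_family' h hmon hirr hsq A
    rw [hprod, map_sub, map_pow, aeval_X, map_one, hA, sub_self]
  have hcardι : Fintype.card (Unit ⊕ (Fin m ⊕ Fin m)) = 2 * m + 1 := by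
    rw [Fintype.card_sum, Fintype.card_sum, Fintype.card_fin, Fintype.card_unit]
    omega
  have hone : ∀ A : Matrix (Unit ⊕ (Fin m ⊕ Fin m)) (Unit ⊕ (Fin m ⊕ Fin m)) F, A ^ r = 1 →
      ∀ e : Option (Fin t) → ℕ,
      A.charpoly = ∏ o, h o ^ e o → (∀ j, e (some j) = 0) → A = 1 := by
    intro A hA e he hz
    have h1 : A.charpoly =
        (1 : Matrix (Unit ⊕ (Fin m ⊕ Fin m)) (Unit ⊕ (Fin m ⊕ Fin m)) F).charpoly := by
      have hd := hdegsum e
      rw [← he, Matrix.charpoly_natDegree_eq_dim] at hd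
      have h0 : ∑ j, e (some j) = 0 := Finset.sum_eq_zero (fun j _ => hz j)
      rw [h0, mul_zero, add_zero] at hd
      rw [he, Fintype.prod_option, Matrix.charpoly_one, hnone, ← hd]
      have : ∏ j, h (some j) ^ e (some j) = 1 := by
        apply Finset.prod_eq_one
        intro j _
        rw [hz j, pow_zero]
      rw [this, mul_one]
    obtain ⟨M, hM⟩ := S2389.matrix_conj' A 1 r hrF hA (one_pow r) h1
    rw [one_mul] at hM
    have h3 : (M⁻¹ : (Matrix (Unit ⊕ (Fin m ⊕ Fin m)) (Unit ⊕ (Fin m ⊕ Fin m)) F)ˣ).val *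
        (M.val * A) =
        (M⁻¹ : (Matrix (Unit ⊕ (Fin m ⊕ Fin m)) (Unit ⊕ (Fin m ⊕ Fin m)) F)ˣ).val * M.val := by
      rw [hM]
    rw [← mul_assoc, ← Units.val_mul, inv_mul_cancel, Units.val_one, one_mul] at h3
    exact h3
  have hex_inj : ∀ a a' : Fin t → ℕ, ex a = ex a' → a = a' := by
    intro a a' haa'
    funext j
    exact congrFun haa' (some j)
  -- facts on the group
  have hQeq : ∀ v, oddQF m v = Cfsg.quadFormOdd m F v := oddQF_apply m
  have hQnd := oddQF_nondegenerate h2F m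
  have hmemiff : ∀ g : Matrix.GeneralLinearGroup (Unit ⊕ (Fin m ⊕ Fin m)) F,
      g ∈ Cfsg.isometryGroup F (Cfsg.quadFormOdd m F) ↔
        ∀ u, oddQF m ((g : Matrix (Unit ⊕ (Fin m ⊕ Fin m)) (Unit ⊕ (Fin m ⊕ Fin m)) F) *ᵥ u) =
          oddQF m u := by
    intro g
    rw [mem_isometryGroup_iff]
    constructor
    · intro hg u
      rw [hQeq, hQeq, hg]
    · intro hg u
      rw [← hQeq, ← hQeq, hg]
  have hpowcoe : ∀ (x : ↥(Cfsg.isometryGroup F (Cfsg.quadFormOdd m F))) (k : ℕ),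
      (((x ^ k : ↥(Cfsg.isometryGroup F (Cfsg.quadFormOdd m F))) :
        Matrix.GeneralLinearGroup (Unit ⊕ (Fin m ⊕ Fin m)) F) :
        Matrix (Unit ⊕ (Fin m ⊕ Fin m)) (Unit ⊕ (Fin m ⊕ Fin m)) F) =
      ((x : Matrix.GeneralLinearGroup (Unit ⊕ (Fin m ⊕ Fin m)) F) :
        Matrix (Unit ⊕ (Fin m ⊕ Fin m)) (Unit ⊕ (Fin m ⊕ Fin m)) F) ^ k := by
    intro x k
    rw [Subgroup.coe_pow, Units.val_pow_eq_pow_val]
  -- existence inside O
  have hO : ∀ a : Fin t → ℕ, (∑ j, a j) ≤ K → (∀ j, a (τ j) = a j) → a ≠ 0 →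
      ∃ B : ↥(Cfsg.isometryGroup F (Cfsg.quadFormOdd m F)),
        ((B : Matrix.GeneralLinearGroup (Unit ⊕ (Fin m ⊕ Fin m)) F) :
          Matrix (Unit ⊕ (Fin m ⊕ Fin m)) (Unit ⊕ (Fin m ⊕ Fin m)) F).charpoly =
          ∏ o, h o ^ ex a o ∧ orderOf B = r := by
    intro a ha hainv ha0
    obtain ⟨B, hBiso, hBcp, hBr⟩ := exists_orthogonal_odd h2F (hreal a ha hainv) m (hdegex a ha)
    obtain ⟨r', hr'⟩ : ∃ r', r = r' + 1 := ⟨r - 1, by have := hr.pos; omega⟩
    obtain ⟨gB, hgB⟩ : ∃ gB : Matrix.GeneralLinearGroup (Unit ⊕ (Fin m ⊕ Fin m)) F,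
        (gB : Matrix (Unit ⊕ (Fin m ⊕ Fin m)) (Unit ⊕ (Fin m ⊕ Fin m)) F) = B :=
      ⟨⟨B, B ^ r', by rw [← pow_succ', ← hr', hBr], by rw [← pow_succ, ← hr', hBr]⟩, rfl⟩
    have hgBmem : gB ∈ Cfsg.isometryGroup F (Cfsg.quadFormOdd m F) := by
      rw [mem_isometryGroup_iff, hgB]
      exact hBiso
    refine ⟨⟨gB, hgBmem⟩, by rw [← hBcp, ← hgB], ?_⟩
    have hr1 : Fact r.Prime := ⟨hr⟩
    apply orderOf_eq_prime
    · apply Subtype.ext
      apply Units.ext
      rw [hpowcoe]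
      show (gB : Matrix (Unit ⊕ (Fin m ⊕ Fin m)) (Unit ⊕ (Fin m ⊕ Fin m)) F) ^ r = 1
      rw [hgB, hBr]
    · intro h2
      apply ha0
      have hM1 : B = 1 := by
        rw [← hgB]
        have := congrArg (fun x : ↥(Cfsg.isometryGroup F (Cfsg.quadFormOdd m F)) =>
          ((x : Matrix.GeneralLinearGroup (Unit ⊕ (Fin m ⊕ Fin m)) F) :
            Matrix (Unit ⊕ (Fin m ⊕ Fin m)) (Unit ⊕ (Fin m ⊕ Fin m)) F)) h2
        exact this
      have h3 : B.charpoly = ∏ o, h o ^ ex (0 : Fin t → ℕ) o := by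
        rw [hM1, Matrix.charpoly_one, Fintype.prod_option, hnone]
        have : ∏ j, h (some j) ^ ex (0 : Fin t → ℕ) (some j) = 1 := by
          apply Finset.prod_eq_one
          intro j _
          show h (some j) ^ (0 : ℕ) = 1
          rw [pow_zero]
        rw [this, mul_one, hcardι]
        show (X - 1 : F[X]) ^ (2 * m + 1) =
          (X - 1) ^ (2 * m + 1 - i * ∑ j, (0 : Fin t → ℕ) j)
        simp
      rw [hBcp] at h3
      exact hex_inj _ _ (exp_unique h hirr hcop _ _ h3)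
  -- conjugacy from equal characteristic polynomials
  have hconj : ∀ A B : ↥(Cfsg.isometryGroup F (Cfsg.quadFormOdd m F)),
      orderOf A = r → orderOf B = r →
      ((A : Matrix.GeneralLinearGroup (Unit ⊕ (Fin m ⊕ Fin m)) F) :
        Matrix (Unit ⊕ (Fin m ⊕ Fin m)) (Unit ⊕ (Fin m ⊕ Fin m)) F).charpoly =
      ((B : Matrix.GeneralLinearGroup (Unit ⊕ (Fin m ⊕ Fin m)) F) :
        Matrix (Unit ⊕ (Fin m ⊕ Fin m)) (Unit ⊕ (Fin m ⊕ Fin m)) F).charpoly → IsConj A B := by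
    intro A B hAr hBr hcp
    have hAr' : ((A : Matrix.GeneralLinearGroup (Unit ⊕ (Fin m ⊕ Fin m)) F) :
        Matrix (Unit ⊕ (Fin m ⊕ Fin m)) (Unit ⊕ (Fin m ⊕ Fin m)) F) ^ r = 1 := by
      rw [← hpowcoe, ← hAr, pow_orderOf_eq_one]
      rfl
    have hBr' : ((B : Matrix.GeneralLinearGroup (Unit ⊕ (Fin m ⊕ Fin m)) F) :
        Matrix (Unit ⊕ (Fin m ⊕ Fin m)) (Unit ⊕ (Fin m ⊕ Fin m)) F) ^ r = 1 := by
      rw [← hpowcoe, ← hBr, pow_orderOf_eq_one]
      rfl
    obtain ⟨c, hc⟩ := S2389.matrix_conj' _ _ r hrF hAr' hBr' hcp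
    obtain ⟨g, gi, hg1, hg2, hgQ, hgAB⟩ := core' (oddQF m) hQnd _ _ ((hmemiff A.1).1 A.2)
      ((hmemiff B.1).1 B.2) r hAr' hrF hrodd c.val
      ((c⁻¹ : (Matrix (Unit ⊕ (Fin m ⊕ Fin m)) (Unit ⊕ (Fin m ⊕ Fin m)) F)ˣ) :
        Matrix (Unit ⊕ (Fin m ⊕ Fin m)) (Unit ⊕ (Fin m ⊕ Fin m)) F)
      (by rw [← Units.val_mul, mul_inv_cancel, Units.val_one])
      (by rw [← Units.val_mul, inv_mul_cancel, Units.val_one]) hc
    obtain ⟨k, hk⟩ : ∃ k : Matrix.GeneralLinearGroup (Unit ⊕ (Fin m ⊕ Fin m)) F,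
        (k : Matrix (Unit ⊕ (Fin m ⊕ Fin m)) (Unit ⊕ (Fin m ⊕ Fin m)) F) = g :=
      ⟨⟨g, gi, hg1, hg2⟩, rfl⟩
    have hkm : k ∈ Cfsg.isometryGroup F (Cfsg.quadFormOdd m F) := by
      rw [hmemiff, hk]
      exact hgQ
    rw [isConj_iff]
    refine ⟨⟨k, hkm⟩, ?_⟩
    rw [mul_inv_eq_iff_eq_mul]
    apply Subtype.ext
    apply Units.ext
    show (k : Matrix (Unit ⊕ (Fin m ⊕ Fin m)) (Unit ⊕ (Fin m ⊕ Fin m)) F) * _ =
      _ * (k : Matrix (Unit ⊕ (Fin m ⊕ Fin m)) (Unit ⊕ (Fin m ⊕ Fin m)) F)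
    rw [hk]
    exact hgAB
  -- the bijection
  let 𝒯 := {a : Fin t → ℕ // ∑ j, a j ≤ K ∧ a ≠ 0 ∧ ∀ j, a (τ j) = a j}
  let 𝒞 := {C : ConjClasses ↥(Cfsg.isometryGroup F (Cfsg.quadFormOdd m F)) //
      ∃ g : ↥(Cfsg.isometryGroup F (Cfsg.quadFormOdd m F)), ConjClasses.mk g = C ∧ orderOf g = r}
  have hcount : Nat.card 𝒞 = Nat.card 𝒯 := by
    symm
    let Ba : 𝒯 → ↥(Cfsg.isometryGroup F (Cfsg.quadFormOdd m F)) :=
      fun a => Classical.choose (hO a.1 a.2.1 a.2.2.2 a.2.2.1)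
    have hBa : ∀ a : 𝒯, ((Ba a : Matrix.GeneralLinearGroup (Unit ⊕ (Fin m ⊕ Fin m)) F) :
          Matrix (Unit ⊕ (Fin m ⊕ Fin m)) (Unit ⊕ (Fin m ⊕ Fin m)) F).charpoly =
        ∏ o, h o ^ ex a.1 o ∧ orderOf (Ba a) = r :=
      fun a => Classical.choose_spec (hO a.1 a.2.1 a.2.2.2 a.2.2.1)
    let Ψ : 𝒯 → 𝒞 := fun a => ⟨ConjClasses.mk (Ba a), Ba a, rfl, (hBa a).2⟩
    apply Nat.card_congr
    refine Equiv.ofBijective Ψ ⟨?_, ?_⟩
    · intro a a' haa'
      have h1 : ConjClasses.mk (Ba a) = ConjClasses.mk (Ba a') := congrArg Subtype.val haa'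
      obtain ⟨u, hu⟩ := isConj_iff.1 (ConjClasses.mk_eq_mk_iff_isConj.1 h1)
      have hu' : ((u : Matrix.GeneralLinearGroup (Unit ⊕ (Fin m ⊕ Fin m)) F) :
            Matrix (Unit ⊕ (Fin m ⊕ Fin m)) (Unit ⊕ (Fin m ⊕ Fin m)) F) *
          ((Ba a : Matrix.GeneralLinearGroup (Unit ⊕ (Fin m ⊕ Fin m)) F) :
            Matrix (Unit ⊕ (Fin m ⊕ Fin m)) (Unit ⊕ (Fin m ⊕ Fin m)) F) =
          ((Ba a' : Matrix.GeneralLinearGroup (Unit ⊕ (Fin m ⊕ Fin m)) F) :
            Matrix (Unit ⊕ (Fin m ⊕ Fin m)) (Unit ⊕ (Fin m ⊕ Fin m)) F) *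
          ((u : Matrix.GeneralLinearGroup (Unit ⊕ (Fin m ⊕ Fin m)) F) :
            Matrix (Unit ⊕ (Fin m ⊕ Fin m)) (Unit ⊕ (Fin m ⊕ Fin m)) F) := by
        have h2 : u * Ba a = Ba a' * u := mul_inv_eq_iff_eq_mul.1 hu
        have h3 := congrArg (fun x : ↥(Cfsg.isometryGroup F (Cfsg.quadFormOdd m F)) =>
          ((x : Matrix.GeneralLinearGroup (Unit ⊕ (Fin m ⊕ Fin m)) F) :
            Matrix (Unit ⊕ (Fin m ⊕ Fin m)) (Unit ⊕ (Fin m ⊕ Fin m)) F)) h2
        exact h3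
      have h3 : ((Ba a' : Matrix.GeneralLinearGroup (Unit ⊕ (Fin m ⊕ Fin m)) F) :
            Matrix (Unit ⊕ (Fin m ⊕ Fin m)) (Unit ⊕ (Fin m ⊕ Fin m)) F).charpoly =
          ((Ba a : Matrix.GeneralLinearGroup (Unit ⊕ (Fin m ⊕ Fin m)) F) :
            Matrix (Unit ⊕ (Fin m ⊕ Fin m)) (Unit ⊕ (Fin m ⊕ Fin m)) F).charpoly := by
        have h4 : ((Ba a' : Matrix.GeneralLinearGroup (Unit ⊕ (Fin m ⊕ Fin m)) F) :
              Matrix (Unit ⊕ (Fin m ⊕ Fin m)) (Unit ⊕ (Fin m ⊕ Fin m)) F) =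
            ((u : Matrix.GeneralLinearGroup (Unit ⊕ (Fin m ⊕ Fin m)) F) :
              Matrix (Unit ⊕ (Fin m ⊕ Fin m)) (Unit ⊕ (Fin m ⊕ Fin m)) F) *
            ((Ba a : Matrix.GeneralLinearGroup (Unit ⊕ (Fin m ⊕ Fin m)) F) :
              Matrix (Unit ⊕ (Fin m ⊕ Fin m)) (Unit ⊕ (Fin m ⊕ Fin m)) F) *
            (((u : Matrix.GeneralLinearGroup (Unit ⊕ (Fin m ⊕ Fin m)) F)⁻¹ :
              Matrix.GeneralLinearGroup (Unit ⊕ (Fin m ⊕ Fin m)) F) :
              Matrix (Unit ⊕ (Fin m ⊕ Fin m)) (Unit ⊕ (Fin m ⊕ Fin m)) F) := by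
          rw [hu', Matrix.mul_assoc, ← Units.val_mul, mul_inv_cancel, Units.val_one,
            Matrix.mul_one]
        rw [h4, Matrix.coe_units_inv, Matrix.charpoly_units_conj]
      rw [(hBa a).1, (hBa a').1] at h3
      apply Subtype.ext
      exact (hex_inj _ _ (exp_unique h hirr hcop _ _ h3)).symm
    · rintro ⟨C, g, rfl, hg⟩
      have hgr : ((g : Matrix.GeneralLinearGroup (Unit ⊕ (Fin m ⊕ Fin m)) F) :
          Matrix (Unit ⊕ (Fin m ⊕ Fin m)) (Unit ⊕ (Fin m ⊕ Fin m)) F) ^ r = 1 := by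
        rw [← hpowcoe, ← hg, pow_orderOf_eq_one]
        rfl
      have hg1 : ((g : Matrix.GeneralLinearGroup (Unit ⊕ (Fin m ⊕ Fin m)) F) :
          Matrix (Unit ⊕ (Fin m ⊕ Fin m)) (Unit ⊕ (Fin m ⊕ Fin m)) F) ≠ 1 := by
        intro h1
        have : g = 1 := by
          apply Subtype.ext
          apply Units.ext
          exact h1
        rw [this, orderOf_one] at hg
        exact hr.one_lt.ne hg
      obtain ⟨e, he⟩ := hstruct _ hgr
      have hd := hdegsum e
      rw [← he, Matrix.charpoly_natDegree_eq_dim, hcardι] at hd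
      let a : Fin t → ℕ := fun j => e (some j)
      have hsum : ∑ j, a j = ∑ j, e (some j) := rfl
      have ha1 : ∑ j, a j ≤ K := by
        rw [hKle, hsum]
        omega
      have ha2 : a ≠ 0 := by
        intro h0
        apply hg1
        apply hone _ hgr e he
        intro j
        exact congrFun h0 j
      have hea : ex a = e := by
        funext o
        cases o with
        | none =>
          show 2 * m + 1 - i * ∑ j, a j = e none
          rw [hsum]
          omega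
        | some j => rfl
      have ha3 : ∀ j, a (τ j) = a j := by
        obtain ⟨r', hr'⟩ : ∃ r', r = r' + 1 := ⟨r - 1, by have := hr.pos; omega⟩
        have h3 := charpoly_isometry (oddQF m) hQnd
          ((g : Matrix.GeneralLinearGroup (Unit ⊕ (Fin m ⊕ Fin m)) F) :
            Matrix (Unit ⊕ (Fin m ⊕ Fin m)) (Unit ⊕ (Fin m ⊕ Fin m)) F)
          (((g : Matrix.GeneralLinearGroup (Unit ⊕ (Fin m ⊕ Fin m)) F) :
            Matrix (Unit ⊕ (Fin m ⊕ Fin m)) (Unit ⊕ (Fin m ⊕ Fin m)) F) ^ r')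
          (by rw [← pow_succ', ← hr', hgr]) ((hmemiff g.1).1 g.2)
        rw [← hσdef, he, hstarex] at h3
        have h4 := exp_unique h hirr hcop _ _ h3
        intro j
        have := congrFun h4 (some j)
        rw [hτ] at this
        exact this
      refine ⟨⟨a, ha1, ha2, ha3⟩, ?_⟩
      apply Subtype.ext
      show ConjClasses.mk (Ba ⟨a, ha1, ha2, ha3⟩) = ConjClasses.mk g
      rw [ConjClasses.mk_eq_mk_iff_isConj]
      apply hconj _ _ (hBa ⟨a, ha1, ha2, ha3⟩).2 hg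
      rw [(hBa ⟨a, ha1, ha2, ha3⟩).1, he]
      show ∏ o, h o ^ ex a o = _
      rw [hea]
  rw [hcount]
  by_cases hodd : Odd i
  · rw [if_pos hodd]
    have hfpf : ∀ j, τ j ≠ j := fun j hj => (Nat.not_even_iff_odd.2 hodd) ((hdich j).1 hj)
    have h5 : m / i = K / 2 := by
      rw [hK, Nat.div_div_eq_div_mul]
      obtain ⟨k, ρ, hkρ, hρ⟩ : ∃ k ρ, m = i * k + ρ ∧ ρ < i :=
        ⟨m / i, m % i, (Nat.div_add_mod m i).symm, Nat.mod_lt m hi0⟩
      have h6 : m / i = k := by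
        rw [hkρ, Nat.mul_add_div hi0, Nat.div_eq_of_lt hρ, add_zero]
      have h7 : (2 * m + 1) / (i * 2) = k := by
        have : 2 * m + 1 = (i * 2) * k + (2 * ρ + 1) := by rw [hkρ]; ring
        rw [this, Nat.mul_add_div (by omega), Nat.div_eq_of_lt (by omega), add_zero]
      rw [h6, h7]
    rw [h5]
    exact card_invariant_fpf t K τ hinv hfpf
  · rw [if_neg hodd]
    have hτid : ∀ j, τ j = j := fun j => (hdich j).2 (Nat.not_odd_iff_even.1 hodd)
    rw [← hK, ← card_nonzero_bounded_tuples t K]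
    apply Nat.card_congr
    refine Equiv.subtypeEquivRight ?_
    intro a
    constructor
    · rintro ⟨h1, h2, -⟩
      exact ⟨h1, h2⟩
    · rintro ⟨h1, h2⟩
      refine ⟨h1, h2, ?_⟩
      intro j
      rw [hτid]

end mainsec

/-- Number of conjugacy classes of elements of odd prime order r ≠ p in the orthogonal group O_(2m+1)(q) of x_0² + Σ x_j y_j, q odd: with i the multiplicative order of q mod r and t = (r − 1)/i, there are C(⌊m/i⌋ + t/2, t/2) − 1 classes if i is odd (dual pairs of totally singular i-blocks) and C(⌊(2m+1)/i⌋ + t, t) − 1 if i is even (elliptic i-blocks). -/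
theorem result {F : Type*} [Field F] [Fintype F] {p q : ℕ} [Fact p.Prime] [CharP F p] (hF : Fintype.card F = q) (hq : Odd q) (m r i t : ℕ) (hr : r.Prime) (hr2 : r ≠ 2) (hrp : r ≠ p) (hi : i = orderOf (q : ZMod r)) (ht : t * i = r - 1) : Nat.card {C : ConjClasses ↥(Cfsg.isometryGroup F (Cfsg.quadFormOdd m F)) // ∃ g : ↥(Cfsg.isometryGroup F (Cfsg.quadFormOdd m F)), ConjClasses.mk g = C ∧ orderOf g = r} = if Odd i then Nat.choose (m / i + t / 2) (t / 2) - 1 else Nat.choose ((2 * m + 1) / i + t) t - 1 := by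
  exact main hF hq m r i t hr hr2 hrp hi ht

end Cfsg.Agent.S2673
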