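import Cfsg.Statements.S2674
-- import your own Cfsg.Agent.* helpers here
import Cfsg.Agent.Lib.Helper15.QuadClasses

set_option autoImplicit false
open Cfsg

namespace Cfsg.Agent.S2674

open Cfsg.Agent.Lib.Helper15 Cfsg.Agent.Lib.Helper15.QuadType Cfsg.Agent.Lib.Helper15.QuadClasses

theorem main {F : Type*} [Field F] [Fintype F] {p q : ℕ} [Fact p.Prime] [CharP F p]
    (hF : Fintype.card F = q) (m r i t : ℕ) (hm : 1 ≤ m) (hr : r.Prime) (hr2 : r ≠ 2)
    (hrp : r ≠ p) (hi : i = orderOf (q : ZMod r)) (ht : t * i = r - 1) :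
    Nat.card {C : ConjClasses ↥(Cfsg.isometryGroup F (Cfsg.quadFormPlus m F)) //
      ∃ g : ↥(Cfsg.isometryGroup F (Cfsg.quadFormPlus m F)), ConjClasses.mk g = C ∧ orderOf g = r} =
    if Odd i then Nat.choose (m / i + t / 2) (t / 2) - 1
    else Nat.choose (2 * m / i + t) t - 1 -
      (if i ∣ 2 * m ∧ Odd (2 * m / i) then Nat.choose (2 * m / i + t - 1) (t - 1) else 0) := by
  classical
  have hr1 : Fact r.Prime := ⟨hr⟩
  have hi0 : 0 < i := by
    rcases Nat.eq_zero_or_pos i with h0 | h0
    · rw [h0, mul_zero] at ht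
      have := hr.two_le
      omega
    · exact h0
  have hcount := count_classes hF m r i t hm hr hr2 hrp hi ht (plusQF m) (Cfsg.quadFormPlus m F)
    (plusQF_eq m) (plusQF_nondegenerate m)
    (by rw [Fintype.card_sum, Fintype.card_fin]; ring) 1 (Or.inl rfl) (hasType_plus m)
    (fun W _ _ _ Q hnd hdim ht => univ_plus Q hnd m hm hdim ht)
  rw [hcount, Int.cast_one]
  by_cases hodd : Odd i
  · rw [if_pos hodd, if_pos hodd, if_pos hodd]
    have h0 : (if ((q : ℕ) : ZMod r) ^ m = 1 then 0 else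
        if i ∣ m then Nat.choose (m / i + t / 2 - 1) (t / 2 - 1) else 0) = 0 := by
      by_cases hd : i ∣ m
      · have hP : ((q : ℕ) : ZMod r) ^ m = 1 := by
          rw [hi] at hd
          exact orderOf_dvd_iff_pow_eq_one.1 hd
        rw [if_pos hP]
      · rw [if_neg hd, ite_self]
    rw [h0, Nat.sub_zero]
  · rw [if_neg hodd, if_neg hodd, if_neg hodd]
    have hev : Even i := Nat.not_odd_iff_even.1 hodd
    congr 1
    by_cases hd : i ∣ 2 * m
    · have hx := pow_of_even_order ((q : ℕ) : ZMod r) i m hi0 hi hev hd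
      have hpar := neg_one_pow_zmod r hr2 (2 * m / i)
      by_cases hs : Odd (2 * m / i)
      · have hP : ¬ ((q : ℕ) : ZMod r) ^ m = 1 := by
          rw [hx, hpar.1]
          exact Nat.not_even_iff_odd.2 hs
        rw [if_neg hP, if_pos hd, if_pos ⟨hd, hs⟩]
      · have hP : ((q : ℕ) : ZMod r) ^ m = 1 := by
          rw [hx, hpar.1]
          exact Nat.not_odd_iff_even.1 hs
        rw [if_pos hP, if_neg (fun h => hs h.2)]
    · rw [if_neg hd, ite_self, if_neg (fun h => hd h.1)]

/-- Number of conjugacy classes of elements of odd prime order r ≠ p in the orthogonal group O⁺_2m(q) of Σ x_j y_j (m ≥ 1): with i the multiplicative order of q mod r and t = (r − 1)/i — if i is odd, C(⌊m/i⌋ + t/2, t/2) − 1; if i is even, C(⌊2m/i⌋ + t, t) − 1 minus, when i divides 2m with odd quotient, the C(2m/i + t − 1, t − 1) tuples using the whole space (an odd number of elliptic i-blocks fills an elliptic, not a hyperbolic, space). -/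
theorem result {F : Type*} [Field F] [Fintype F] {p q : ℕ} [Fact p.Prime] [CharP F p] (hF : Fintype.card F = q) (m r i t : ℕ) (hm : 1 ≤ m) (hr : r.Prime) (hr2 : r ≠ 2) (hrp : r ≠ p) (hi : i = orderOf (q : ZMod r)) (ht : t * i = r - 1) : Nat.card {C : ConjClasses ↥(Cfsg.isometryGroup F (Cfsg.quadFormPlus m F)) // ∃ g : ↥(Cfsg.isometryGroup F (Cfsg.quadFormPlus m F)), ConjClasses.mk g = C ∧ orderOf g = r} = if Odd i then Nat.choose (m / i + t / 2) (t / 2) - 1 else Nat.choose (2 * m / i + t) t - 1 - (if i ∣ 2 * m ∧ Odd (2 * m / i) then Nat.choose (2 * m / i + t - 1) (t - 1) else 0) := by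
  exact main hF m r i t hm hr hr2 hrp hi ht

end Cfsg.Agent.S2674
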