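import Cfsg.Statements.S2675
-- import your own Cfsg.Agent.* helpers here
import Cfsg.Agent.Lib.Helper15.QuadClasses

set_option autoImplicit false
open Cfsg

namespace Cfsg.Agent.S2675

open Cfsg.Agent.Lib.Helper15 Cfsg.Agent.Lib.Helper15.QuadType Cfsg.Agent.Lib.Helper15.QuadClasses

theorem main {F : Type*} [Field F] [Fintype F] {p q : ℕ} [Fact p.Prime] [CharP F p]
    (hF : Fintype.card F = q) (m r i t : ℕ) (hm : 1 ≤ m) (a c : F)
    (hac : ∀ z₁ z₂ : F, z₁ ^ 2 + a * z₁ * z₂ + c * z₂ ^ 2 = 0 → z₁ = 0 ∧ z₂ = 0)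
    (hr : r.Prime) (hr2 : r ≠ 2) (hrp : r ≠ p) (hi : i = orderOf (q : ZMod r))
    (ht : t * i = r - 1) :
    Nat.card {C : ConjClasses ↥(Cfsg.isometryGroup F (Cfsg.quadFormMinus (m - 1) F a c)) //
      ∃ g : ↥(Cfsg.isometryGroup F (Cfsg.quadFormMinus (m - 1) F a c)),
        ConjClasses.mk g = C ∧ orderOf g = r} =
    if Odd i then Nat.choose (m / i + t / 2) (t / 2) - 1 -
      (if i ∣ m then Nat.choose (m / i + t / 2 - 1) (t / 2 - 1) else 0)
    else Nat.choose (2 * m / i + t) t - 1 -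
      (if i ∣ 2 * m ∧ Even (2 * m / i) then Nat.choose (2 * m / i + t - 1) (t - 1) else 0) := by
  classical
  have hr1 : Fact r.Prime := ⟨hr⟩
  have hi0 : 0 < i := by
    rcases Nat.eq_zero_or_pos i with h0 | h0
    · rw [h0, mul_zero] at ht
      have := hr.two_le
      omega
    · exact h0
  have hac' : Cfsg.Agent.Lib.Helper14.QuadExt.Aniso a c := hac
  have hcount := count_classes hF m r i t hm hr hr2 hrp hi ht (minusQFab (m - 1) a c)
    (Cfsg.quadFormMinus (m - 1) F a c) (minusQFab_eq (m - 1) a c)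
    (minusQFab_nondegenerate (m - 1) a c (Cfsg.Agent.Lib.Helper14.OrthMinus.disc_ne_zero hac'))
    (by rw [Fintype.card_sum, Fintype.card_sum, Fintype.card_fin, Fintype.card_fin]; omega)
    (-1) (Or.inr rfl)
    (by have := hasType_minus hac' (m - 1); rwa [Nat.sub_add_cancel hm] at this)
    (fun W _ _ _ Q hnd hdim ht => univ_minus Q hnd (m - 1) (by rw [hdim]; omega)
      (by rwa [Nat.sub_add_cancel hm]) hac')
  rw [hcount, Int.cast_neg, Int.cast_one]
  have hne : (1 : ZMod r) ≠ -1 := by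
    have := (neg_one_pow_zmod r hr2 0).2
    rw [pow_zero] at this
    intro h
    have h2 := this.1 h
    exact absurd h2 (by decide)
  by_cases hodd : Odd i
  · rw [if_pos hodd, if_pos hodd, if_pos hodd]
    congr 1
    by_cases hd : i ∣ m
    · have hP : ¬ ((q : ℕ) : ZMod r) ^ m = -1 := by
        have h1 : ((q : ℕ) : ZMod r) ^ m = 1 := by
          rw [hi] at hd
          exact orderOf_dvd_iff_pow_eq_one.1 hd
        rw [h1]
        exact hne
      rw [if_neg hP]
    · rw [if_neg hd, ite_self]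
  · rw [if_neg hodd, if_neg hodd, if_neg hodd]
    have hev : Even i := Nat.not_odd_iff_even.1 hodd
    congr 1
    by_cases hd : i ∣ 2 * m
    · have hx := pow_of_even_order ((q : ℕ) : ZMod r) i m hi0 hi hev hd
      have hpar := neg_one_pow_zmod r hr2 (2 * m / i)
      by_cases hs : Even (2 * m / i)
      · have hP : ¬ ((q : ℕ) : ZMod r) ^ m = -1 := by
          rw [hx, hpar.2]
          exact Nat.not_odd_iff_even.2 hs
        rw [if_neg hP, if_pos hd, if_pos ⟨hd, hs⟩]
      · have hP : ((q : ℕ) : ZMod r) ^ m = -1 := by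
          rw [hx, hpar.2]
          exact Nat.not_even_iff_odd.1 hs
        rw [if_pos hP, if_neg (fun h => hs h.2)]
    · rw [if_neg hd, ite_self, if_neg (fun h => hd h.1)]

/-- Number of conjugacy classes of elements of odd prime order r ≠ p in the orthogonal group O⁻_2m(q) of an elliptic form Σ_(j<m−1) x_j y_j + z₁² + a z₁z₂ + c z₂² (binary part anisotropic, m ≥ 1): with i the multiplicative order of q mod r and t = (r − 1)/i — if i is odd, C(⌊m/i⌋ + t/2, t/2) − 1 minus, when i divides m, the C(m/i + t/2 − 1, t/2 − 1) tuples filling the whole space (dual pairs of totally singular blocks fill a hyperbolic space); if i is even, C(⌊2m/i⌋ + t, t) − 1 minus, when i divides 2m with even quotient, the C(2m/i + t − 1, t − 1) tuples filling the whole space with an even number of elliptic blocks. -/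
theorem result {F : Type*} [Field F] [Fintype F] {p q : ℕ} [Fact p.Prime] [CharP F p] (hF : Fintype.card F = q) (m r i t : ℕ) (hm : 1 ≤ m) (a c : F) (hac : ∀ z₁ z₂ : F, z₁ ^ 2 + a * z₁ * z₂ + c * z₂ ^ 2 = 0 → z₁ = 0 ∧ z₂ = 0) (hr : r.Prime) (hr2 : r ≠ 2) (hrp : r ≠ p) (hi : i = orderOf (q : ZMod r)) (ht : t * i = r - 1) : Nat.card {C : ConjClasses ↥(Cfsg.isometryGroup F (Cfsg.quadFormMinus (m - 1) F a c)) // ∃ g : ↥(Cfsg.isometryGroup F (Cfsg.quadFormMinus (m - 1) F a c)), ConjClasses.mk g = C ∧ orderOf g = r} = if Odd i then Nat.choose (m / i + t / 2) (t / 2) - 1 - (if i ∣ m then Nat.choose (m / i + t / 2 - 1) (t / 2 - 1) else 0) else Nat.choose (2 * m / i + t) t - 1 - (if i ∣ 2 * m ∧ Even (2 * m / i) then Nat.choose (2 * m / i + t - 1) (t - 1) else 0) := by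
  exact main hF m r i t hm a c hac hr hr2 hrp hi ht

end Cfsg.Agent.S2675
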