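import Cfsg.Statements.S2676
-- import your own Cfsg.Agent.* helpers here
import Cfsg.Agent.Lib.Helper15.SpUniI

set_option autoImplicit false
open Classical
open Cfsg

namespace Cfsg.Agent.S2676

open Matrix Module Cfsg.Agent.Lib.Helper15.NilpotentConj Cfsg.Agent.Lib.Helper15.UniJordan
  Cfsg.Agent.Lib.Helper15.SpUni

universe u

lemma pow_p_eq_zero {F : Type u} [Field F] {p : ℕ} [Fact p.Prime] [CharP F p] {m : ℕ}
    (g : ↥(Matrix.symplecticGroup (Fin m) F)) (hg : orderOf g = p) :
    (Matrix.toLin' g.1 - 1) ^ p = 0 := by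
  have h1 : g ^ p = 1 := by rw [← hg]; exact pow_orderOf_eq_one g
  have h2 : g.1 ^ p = 1 := by
    have := congrArg Subtype.val h1
    rw [SubmonoidClass.coe_pow] at this
    exact this
  rw [toLin_sub_one, ← Matrix.toLin'_pow, sub_one_pow_char', h2, sub_self, map_zero]

lemma exists_partition {F : Type u} [Field F] {p : ℕ} [Fact p.Prime] [CharP F p] {m : ℕ}
    (g : ↥(Matrix.symplecticGroup (Fin m) F)) (hg : orderOf g = p) :
    ∃ μ : Nat.Partition (2 * m), ∀ s, kap (Matrix.toLin' g.1 - 1) s = kapm μ.parts s := by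
  obtain ⟨μ', hpos, hsum, hk⟩ := exists_type (2 * m) (Fin m ⊕ Fin m → F)
    (Matrix.toLin' g.1 - 1) finrank_L ⟨p, pow_p_eq_zero g hg⟩
  exact ⟨⟨μ', fun {i} hi => hpos i hi, hsum⟩, hk⟩

lemma card_type {F : Type u} [Field F] [Fintype F] {p : ℕ} [Fact p.Prime] [CharP F p]
    (hp : p ≠ 2) (m : ℕ) (μ : Nat.Partition (2 * m))
    (hadm : ∀ j : ℕ, Odd j → Even (μ.parts.count j)) :
    Nat.card {C : ConjClasses ↥(Matrix.symplecticGroup (Fin m) F) //
      ∃ u : ↥(Matrix.symplecticGroup (Fin m) F), ConjClasses.mk u = C ∧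
        ∀ s, kap (Matrix.toLin' u.1 - 1) s = kapm μ.parts s} =
    2 ^ (μ.parts.toFinset.filter (fun j : ℕ => Even j)).card := by
  obtain ⟨t, d, hd⟩ := exists_d μ.parts
  have hd1 : ∀ k, 1 ≤ d k := by
    intro k
    have h : d k ∈ typeOf d := by
      unfold typeOf
      exact Multiset.mem_map_of_mem _ (Finset.mem_univ_val k)
    rw [hd] at h
    exact μ.parts_pos h
  have hsum : ∑ k, d k = 2 * m := by rw [← sum_typeOf, hd, μ.parts_sum]
  have hcard : Fintype.card ((k : Fin t) × Fin (d k)) = Fintype.card (Fin m ⊕ Fin m) := by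
    rw [Fintype.card_sigma, Fintype.card_sum, Fintype.card_fin]
    simp only [Fintype.card_fin]
    rw [hsum, two_mul]
  have h := card_classes_type (F := F) d hd1 (Fintype.equivOfCardEq hcard) hp
    (by intro j hj; rw [← count_typeOf, hd]; exact hadm j hj)
  rw [hd] at h
  convert h using 2

theorem main {F : Type u} [Field F] [Fintype F] {p : ℕ} [Fact p.Prime] [CharP F p] (hp : p ≠ 2) (m : ℕ) : Nat.card {C : ConjClasses ↥(Matrix.symplecticGroup (Fin m) F) // ∃ g : Matrix.symplecticGroup (Fin m) F, ConjClasses.mk g = C ∧ orderOf g = p} = (∑ μ ∈ Finset.univ.filter (fun μ : Nat.Partition (2 * m) => (∀ a ∈ μ.parts, a ≤ p) ∧ ∀ j : ℕ, Odd j → Even (μ.parts.count j)), 2 ^ ((μ.parts.toFinset.filter (fun j : ℕ => Even j)).card)) - 1 := by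
  have : Fintype (ConjClasses ↥(Matrix.symplecticGroup (Fin m) F)) := Fintype.ofFinite _
  have hp1 : 1 ≤ p := (Fact.out : p.Prime).one_lt.le
  obtain ⟨Adm, hAdm⟩ : ∃ A : Finset (Nat.Partition (2 * m)), A = Finset.univ.filter (fun μ : Nat.Partition (2 * m) => (∀ a ∈ μ.parts, a ≤ p) ∧ ∀ j : ℕ, Odd j → Even (μ.parts.count j)) := ⟨_, rfl⟩
  rw [← hAdm]
  have hmemAdm : ∀ μ : Nat.Partition (2 * m), μ ∈ Adm ↔
      ((∀ a ∈ μ.parts, a ≤ p) ∧ ∀ j : ℕ, Odd j → Even (μ.parts.count j)) := by
    intro μ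
    rw [hAdm, Finset.mem_filter]
    simp only [Finset.mem_univ, true_and]
  -- the all-ones partition
  have hones : Cfsg.Agent.S2570.ones (2 * m) ∈ Adm := by
    rw [hmemAdm]
    constructor
    · intro a ha
      have : a ∈ Multiset.replicate (2 * m) 1 := ha
      rw [Multiset.eq_of_mem_replicate this]
      exact hp1
    · intro j _
      have : (Cfsg.Agent.S2570.ones (2 * m)).parts.count j =
          (Multiset.replicate (2 * m) 1).count j := rfl
      rw [this, Multiset.count_replicate]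
      split_ifs
      · exact even_two_mul m
      · exact Even.zero
  have hfones : ((Cfsg.Agent.S2570.ones (2 * m)).parts.toFinset.filter
      (fun j : ℕ => Even j)).card = 0 := by
    rw [Finset.card_eq_zero, Finset.filter_eq_empty_iff]
    intro x hx
    rw [Multiset.mem_toFinset] at hx
    have : x ∈ Multiset.replicate (2 * m) 1 := hx
    rw [Multiset.eq_of_mem_replicate this]
    exact Nat.not_even_one
  -- the class sets
  obtain ⟨S, hS⟩ : ∃ S : Nat.Partition (2 * m) →
      Finset (ConjClasses ↥(Matrix.symplecticGroup (Fin m) F)),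
      S = fun μ => Finset.univ.filter (fun C => ∃ u : ↥(Matrix.symplecticGroup (Fin m) F),
        ConjClasses.mk u = C ∧ ∀ s, kap (Matrix.toLin' u.1 - 1) s = kapm μ.parts s) := ⟨_, rfl⟩
  have hmemS : ∀ μ C, C ∈ S μ ↔ ∃ u : ↥(Matrix.symplecticGroup (Fin m) F),
        ConjClasses.mk u = C ∧ ∀ s, kap (Matrix.toLin' u.1 - 1) s = kapm μ.parts s := by
    intro μ C
    rw [hS, Finset.mem_filter]
    simp only [Finset.mem_univ, true_and]
  have hcardS : ∀ μ ∈ Adm, (S μ).card =
      2 ^ (μ.parts.toFinset.filter (fun j : ℕ => Even j)).card := by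
    intro μ hμ
    rw [← card_type (F := F) hp m μ ((hmemAdm μ).1 hμ).2]
    symm
    apply Nat.subtype_card
    intro C
    exact hmemS μ C
  have hdisj : ((Adm.erase (Cfsg.Agent.S2570.ones (2 * m)) : Finset _) : Set _).PairwiseDisjoint S := by
    intro μ _ ν _ hne
    rw [Function.onFun, Finset.disjoint_left]
    intro C hCμ hCν
    apply hne
    obtain ⟨u, hu, hku⟩ := (hmemS μ C).1 hCμ
    obtain ⟨u', hu', hku'⟩ := (hmemS ν C).1 hCν
    have hconj : IsConj u u' := by
      rw [← ConjClasses.mk_eq_mk_iff_isConj, hu, hu']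
    apply Nat.Partition.ext
    apply type_unique _ _ (fun a ha => μ.parts_pos ha) (fun a ha => ν.parts_pos ha)
    intro s
    rw [← hku s, ← hku' s]
    exact kap_of_isConj_sp u u' hconj s
  have hL : Nat.card {C : ConjClasses ↥(Matrix.symplecticGroup (Fin m) F) // ∃ g : Matrix.symplecticGroup (Fin m) F, ConjClasses.mk g = C ∧ orderOf g = p} =
      ((Adm.erase (Cfsg.Agent.S2570.ones (2 * m))).biUnion S).card := by
    apply Nat.subtype_card
    intro C
    rw [Finset.mem_biUnion]
    constructor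
    · rintro ⟨μ, hμ, hC⟩
      rw [Finset.mem_erase, hmemAdm] at hμ
      obtain ⟨u, hu, hku⟩ := (hmemS μ C).1 hC
      exact ⟨u, hu, (order_p_iff_type u μ hku).2 ⟨hμ.2.1, hμ.1⟩⟩
    · rintro ⟨g, hg, hgo⟩
      obtain ⟨μ, hk⟩ := exists_partition g hgo
      have h1 := (order_p_iff_type g μ hk).1 hgo
      refine ⟨μ, ?_, (hmemS μ C).2 ⟨g, hg, hk⟩⟩
      rw [Finset.mem_erase, hmemAdm]
      exact ⟨h1.2, h1.1, adm_of_sp g μ.parts hk⟩
  rw [hL, Finset.card_biUnion hdisj]
  have h3 : ∑ μ ∈ Adm.erase (Cfsg.Agent.S2570.ones (2 * m)), (S μ).card =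
      ∑ μ ∈ Adm.erase (Cfsg.Agent.S2570.ones (2 * m)),
        2 ^ (μ.parts.toFinset.filter (fun j : ℕ => Even j)).card := by
    apply Finset.sum_congr rfl
    intro μ hμ
    exact hcardS μ (Finset.mem_of_mem_erase hμ)
  rw [h3]
  have h4 := Finset.add_sum_erase Adm
    (fun μ : Nat.Partition (2 * m) => 2 ^ (μ.parts.toFinset.filter (fun j : ℕ => Even j)).card) hones
  rw [hfones, pow_zero] at h4
  omega

/-- Number of conjugacy classes of elements of order p in Sp_2m(q), q a power of the odd prime p: the classes correspond to the signed partitions of 2m — partitions with all parts at most p in which every odd part has even multiplicity, each even part size that occurs carrying a sign — other than the all-ones partition; so the count is the sum over such partitions of 2^(number of distinct even parts), minus one. -/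
theorem result {F : Type*} [Field F] [Fintype F] {p : ℕ} [Fact p.Prime] [CharP F p] (hp : p ≠ 2) (m : ℕ) : Nat.card {C : ConjClasses ↥(Matrix.symplecticGroup (Fin m) F) // ∃ g : Matrix.symplecticGroup (Fin m) F, ConjClasses.mk g = C ∧ orderOf g = p} = (∑ μ ∈ Finset.univ.filter (fun μ : Nat.Partition (2 * m) => (∀ a ∈ μ.parts, a ≤ p) ∧ ∀ j : ℕ, Odd j → Even (μ.parts.count j)), 2 ^ ((μ.parts.toFinset.filter (fun j : ℕ => Even j)).card)) - 1 := by
  exact main hp m

end Cfsg.Agent.S2676
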