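import Cfsg.Statements.S2677
-- import your own Cfsg.Agent.* helpers here
import Cfsg.Agent.S2636
import Cfsg.Agent.Lib.Helper14.Unitary3

set_option autoImplicit false
open Cfsg

namespace Cfsg.Agent.S2677

open Matrix Cfsg.Agent.Lib.Helper14

theorem mem_GU_iff_orthoN {F : Type*} [Field F] [Fintype F] [DecidableEq F] {q n : ℕ}
    (hF : Fintype.card F = q ^ 2) (g : GL (Fin n) F) :
    g ∈ Cfsg.GU n F q ↔ OrthoN F q n n (fun j i => (g : Matrix (Fin n) (Fin n) F) i j) :=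
  ⟨orthoN_cols_of_mem_GU hF g, fun h => (mem_GU_iff g).mpr (hermForm_mulVec_of_orthoN hF _ h)⟩

section sub
variable {K : Type*} [Field K] (K₀ : Subfield K) [Fintype K₀] {q₀ r : ℕ}

theorem pow_q_eq (hK₀ : Fintype.card K₀ = q₀ ^ 2) (hr : Odd r) (x : K₀) :
    x ^ (q₀ ^ r) = x ^ q₀ := by
  obtain ⟨s, rfl⟩ := hr
  have : q₀ ^ (2 * s + 1) = (Fintype.card K₀) ^ s * q₀ := by
    rw [hK₀, ← pow_mul, pow_succ]
  rw [this, pow_mul, FiniteField.pow_card_pow]

theorem coe_pow_q_eq (hK₀ : Fintype.card K₀ = q₀ ^ 2) (hr : Odd r) (x : K₀) :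
    (x : K) ^ (q₀ ^ r) = ((x ^ q₀ : K₀) : K) := by
  rw [← pow_q_eq K₀ hK₀ hr x]
  rfl

/-- the Hermitian sums of a scaled matrix over the subfield -/
theorem herm_scaled (hK₀ : Fintype.card K₀ = q₀ ^ 2) (hr : Odd r) {n : ℕ}
    (h : Matrix (Fin n) (Fin n) K₀) (d : K) (j l : Fin n) :
    ∑ i, (d * (h i j : K)) * (d * (h i l : K)) ^ (q₀ ^ r)
      = d ^ (q₀ ^ r + 1) * ((∑ i, h i j * (h i l) ^ q₀ : K₀) : K) := by
  push_cast
  rw [Finset.mul_sum]
  apply Finset.sum_congr rfl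
  intro i _
  rw [mul_pow, coe_pow_q_eq K₀ hK₀ hr]
  push_cast
  ring

theorem orthoN_scaled (hK₀ : Fintype.card K₀ = q₀ ^ 2) (hr : Odd r) {n : ℕ}
    (h : Matrix (Fin n) (Fin n) K₀) (d : K) (hd : d ^ (q₀ ^ r + 1) = 1)
    (hh : OrthoN K₀ q₀ n n (fun j i => h i j)) :
    OrthoN K (q₀ ^ r) n n (fun j i => d * (h i j : K)) := by
  intro j l
  have h1 := herm_scaled K₀ hK₀ hr h d j l
  have h2 : (∑ i, h i j * (h i l) ^ q₀ : K₀) = if j = l then 1 else 0 := hh j l
  unfold Cfsg.hermForm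
  rw [h1, h2, hd, one_mul]
  split_ifs <;> simp

theorem exists_rescale [DecidableEq K₀] (hK₀ : Fintype.card K₀ = q₀ ^ 2) (hr : Odd r) {n : ℕ} (hn : 1 ≤ n)
    (h : Matrix (Fin n) (Fin n) K₀) (d : K)
    (hO : OrthoN K (q₀ ^ r) n n (fun j i => d * (h i j : K))) :
    ∃ e : K₀, e ≠ 0 ∧ (d * (e : K)) ^ (q₀ ^ r + 1) = 1 ∧
      OrthoN K₀ q₀ n n (fun j i => e⁻¹ * h i j) := by
  have hsum : ∀ j l, d ^ (q₀ ^ r + 1) * ((∑ i, h i j * (h i l) ^ q₀ : K₀) : K)
      = if j = l then 1 else 0 := by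
    intro j l
    rw [← herm_scaled K₀ hK₀ hr h d j l]
    exact hO j l
  obtain ⟨s, hs⟩ : ∃ s : K₀, s = ∑ i, h i ⟨0, by omega⟩ * (h i ⟨0, by omega⟩) ^ q₀ := ⟨_, rfl⟩
  have hs1 : d ^ (q₀ ^ r + 1) * (s : K) = 1 := by
    have := hsum ⟨0, by omega⟩ ⟨0, by omega⟩
    rw [if_pos rfl] at this
    rw [hs]; exact this
  have hs0 : s ≠ 0 := by
    intro h0
    rw [h0] at hs1
    simp at hs1
  have hsfix : s ^ q₀ = s := by
    rw [hs]
    exact hermForm_self_pow hK₀ (fun i => h i ⟨0, by omega⟩)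
  have hmem : s ∈ fixStar K₀ q₀ := mem_fixStar.mpr ⟨hs0, hsfix⟩
  have hfib := normFiber_of_mem hK₀ s hmem
  obtain ⟨e, he⟩ : ∃ e : K₀, e * e ^ q₀ = s := by
    unfold normFiber at hfib
    have hpos : 0 < (Finset.univ.filter (fun w : K₀ => w * w ^ q₀ = s)).card := by omega
    obtain ⟨e, he⟩ := Finset.card_pos.mp hpos
    exact ⟨e, (Finset.mem_filter.mp he).2⟩
  have he0 : e ≠ 0 := by
    intro h0
    rw [h0, zero_mul] at he
    exact hs0 he.symm
  refine ⟨e, he0, ?_, ?_⟩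
  · rw [mul_pow, pow_succ (e : K), coe_pow_q_eq K₀ hK₀ hr, ← hs1, ← he]
    push_cast
    ring
  · intro j l
    unfold Cfsg.hermForm
    have h1 : ∑ i, e⁻¹ * h i j * (e⁻¹ * h i l) ^ q₀ = s⁻¹ * ∑ i, h i j * (h i l) ^ q₀ := by
      rw [Finset.mul_sum]
      apply Finset.sum_congr rfl
      intro i _
      rw [← he, mul_pow, inv_pow]
      field_simp
    rw [h1]
    have h2 : ((∑ i, h i j * (h i l) ^ q₀ : K₀) : K) = (s : K) * (if j = l then 1 else 0) := by
      have hd0 : d ^ (q₀ ^ r + 1) ≠ 0 := by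
        intro h0; rw [h0, zero_mul] at hs1; exact zero_ne_one hs1
      apply mul_left_cancel₀ hd0
      rw [hsum j l, ← mul_assoc, hs1, one_mul]
    have h3 : (∑ i, h i j * (h i l) ^ q₀ : K₀) = s * (if j = l then 1 else 0) := by
      apply Subtype.val_injective
      rw [h2]
      split_ifs <;> simp
    rw [h3, ← mul_assoc, inv_mul_cancel₀ hs0, one_mul]

end sub

section grp
variable {K : Type*} [Field K] [Fintype K] [DecidableEq K] {q₀ r n : ℕ} (σ : K ≃+* K)
  [Fintype (S2636.fixF σ)] [DecidableEq (S2636.fixF σ)]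

theorem mem_map_iff (hK : Fintype.card K = (q₀ ^ r) ^ 2) (hK₀ : Fintype.card (S2636.fixF σ) = q₀ ^ 2)
    (hr : Odd r) (hn : 1 ≤ n) (g : GL (Fin n) K) :
    (g ∈ Cfsg.GU n K (q₀ ^ r) ∧ ∃ c : K, c ≠ 0 ∧
        (g : Matrix (Fin n) (Fin n) K).map σ = c • (g : Matrix (Fin n) (Fin n) K)) ↔
      g ∈ ((normOne K (q₀ ^ r)).prod (Cfsg.GU n (S2636.fixF σ) q₀)).map (S2636.prodHom σ n) := by
  constructor
  · rintro ⟨hgU, hc⟩
    obtain ⟨⟨d₀, h₀⟩, hg⟩ := (S2636.mem_range_iff σ hn g).mp hc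
    have hent : ∀ i j, (g : Matrix (Fin n) (Fin n) K) i j
        = (d₀ : K) * (((h₀ : Matrix (Fin n) (Fin n) (S2636.fixF σ)) i j : S2636.fixF σ) : K) := by
      intro i j
      rw [← hg, S2636.prodHom_apply]
    have hO := (mem_GU_iff_orthoN hK g).mp hgU
    have hO' : OrthoN K (q₀ ^ r) n n (fun j i => (d₀ : K) *
        (((h₀ : Matrix (Fin n) (Fin n) (S2636.fixF σ)) i j : S2636.fixF σ) : K)) := by
      convert hO using 3
      rw [hent]
    obtain ⟨e, he0, he1, he2⟩ := exists_rescale (S2636.fixF σ) hK₀ hr hn _ _ hO'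
    refine ⟨(d₀ * Units.map (S2636.fixF σ).subtype.toMonoidHom (Units.mk0 e he0),
      (Matrix.GeneralLinearGroup.scalar (Fin n) (Units.mk0 e he0))⁻¹ * h₀), ?_, ?_⟩
    · rw [SetLike.mem_coe, Subgroup.mem_prod]
      constructor
      · rw [mem_normOne]
        apply Units.ext
        rw [Units.val_pow_eq_pow_val, Units.val_mul]
        exact he1
      · rw [mem_GU_iff_orthoN hK₀]
        convert he2 using 3
        rw [← map_inv, Units.val_mul, Matrix.GeneralLinearGroup.coe_scalar, Matrix.scalar_apply,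
          Matrix.diagonal_mul]
        rfl
    · apply Units.ext
      ext i j
      rw [S2636.prodHom_apply, hent, Units.val_mul]
      have : ((((Matrix.GeneralLinearGroup.scalar (Fin n) (Units.mk0 e he0))⁻¹ * h₀ :
          GL (Fin n) (S2636.fixF σ)) : Matrix (Fin n) (Fin n) (S2636.fixF σ)) i j)
          = e⁻¹ * (h₀ : Matrix (Fin n) (Fin n) (S2636.fixF σ)) i j := by
        rw [← map_inv, Units.val_mul, Matrix.GeneralLinearGroup.coe_scalar, Matrix.scalar_apply,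
          Matrix.diagonal_mul]
        rfl
      rw [this]
      have he0' : (e : K) ≠ 0 := fun h => he0 (Subtype.ext h)
      push_cast
      show (d₀ : K) * (e : K) * ((e : K)⁻¹ * _) = _
      field_simp
  · rintro ⟨⟨d, h⟩, hP, rfl⟩
    rw [SetLike.mem_coe, Subgroup.mem_prod] at hP
    obtain ⟨hd, hh⟩ := hP
    refine ⟨?_, (S2636.mem_range_iff σ hn _).mpr ⟨(d, h), rfl⟩⟩
    rw [mem_GU_iff_orthoN hK]
    have hd' : (d : K) ^ (q₀ ^ r + 1) = 1 := by
      have := (mem_normOne d).mp hd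
      rw [← Units.val_pow_eq_pow_val, this, Units.val_one]
    have hO := orthoN_scaled (S2636.fixF σ) hK₀ hr (h : Matrix (Fin n) (Fin n) (S2636.fixF σ)) (d : K) hd'
      ((mem_GU_iff_orthoN hK₀ h).mp hh)
    convert hO using 3
    rw [S2636.prodHom_apply]

theorem comap_kerHom (hK₀ : Fintype.card (S2636.fixF σ) = q₀ ^ 2) (hr : Odd r) :
    ((normOne K (q₀ ^ r)).prod (Cfsg.GU n (S2636.fixF σ) q₀)).comap (S2636.kerHom σ n)
      = normOne (S2636.fixF σ) q₀ := by
  ext eu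
  rw [Subgroup.mem_comap, Subgroup.mem_prod, mem_normOne]
  have hfst : (S2636.kerHom σ n eu).1 = (Units.map (S2636.fixF σ).subtype.toMonoidHom eu)⁻¹ := rfl
  have hsnd : (S2636.kerHom σ n eu).2 = Matrix.GeneralLinearGroup.scalar (Fin n) eu := rfl
  rw [hfst, hsnd, mem_normOne]
  have hpow : ((eu : S2636.fixF σ) : K) ^ (q₀ ^ r + 1) = (((eu ^ (q₀ + 1) : (S2636.fixF σ)ˣ) : S2636.fixF σ) : K) := by
    rw [pow_succ, coe_pow_q_eq (S2636.fixF σ) hK₀ hr]
    push_cast
    rw [pow_succ]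
  constructor
  · rintro ⟨h1, -⟩
    have h2 := congrArg (fun x : Kˣ => (x : K)) h1
    simp only [inv_pow, Units.val_inv_eq_inv_val, Units.val_pow_eq_pow_val, Units.val_one,
      inv_eq_one] at h2
    have h3 : ((eu : S2636.fixF σ) : K) ^ (q₀ ^ r + 1) = 1 := h2
    rw [hpow] at h3
    apply Units.ext
    apply Subtype.val_injective
    rw [h3]; rfl
  · intro h
    constructor
    · apply Units.ext
      simp only [inv_pow, Units.val_inv_eq_inv_val, Units.val_pow_eq_pow_val, Units.val_one,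
        inv_eq_one]
      show ((eu : S2636.fixF σ) : K) ^ (q₀ ^ r + 1) = 1
      rw [hpow, h]; rfl
    · have hU : IsUni (S2636.fixF σ) q₀ n (Matrix.diagonal (fun _ : Fin n => (eu : S2636.fixF σ))) := by
        apply isUni_diagonal
        intro i
        have := congrArg (fun x : (S2636.fixF σ)ˣ => (x : S2636.fixF σ)) h
        simp only [Units.val_pow_eq_pow_val, Units.val_one] at this
        rw [← this, pow_succ, mul_comm]
      have hcoe : ((Matrix.GeneralLinearGroup.scalar (Fin n) eu : GL (Fin n) (S2636.fixF σ)) :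
          Matrix (Fin n) (Fin n) (S2636.fixF σ)) = Matrix.diagonal (fun _ : Fin n => (eu : S2636.fixF σ)) := by
        rw [Matrix.GeneralLinearGroup.coe_scalar, Matrix.scalar_apply]
      rw [mem_GU_iff]
      intro u v
      have := hU u v
      rw [← hcoe] at this
      exact this

theorem card_ker (hK₀ : Fintype.card (S2636.fixF σ) = q₀ ^ 2) (hr : Odd r) (hn : 1 ≤ n) :
    Nat.card ((S2636.prodHom σ n).ker.subgroupOf
      ((normOne K (q₀ ^ r)).prod (Cfsg.GU n (S2636.fixF σ) q₀))) = q₀ + 1 := by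
  rw [← Subgroup.inf_subgroupOf_right,
    Nat.card_congr (Subgroup.subgroupOfEquivOfLe (inf_le_right :
      (S2636.prodHom σ n).ker ⊓ ((normOne K (q₀ ^ r)).prod (Cfsg.GU n (S2636.fixF σ) q₀)) ≤ _)).toEquiv,
    ← S2636.range_kerHom σ hn, ← Subgroup.map_comap_eq,
    ← Nat.card_congr (Subgroup.equivMapOfInjective _ _ (S2636.kerHom_injective σ n)).toEquiv,
    comap_kerHom σ hK₀ hr, card_normOne hK₀]

end grp

/-- Centraliser of a field automorphism of odd prime order in PGU_n(q): let q = q₀^r with r an odd prime, K the field with q² elements and σ a field automorphism of K of order r (fixed field of order q₀²). The elements g of GU_n(q) whose entrywise image under σ is a scalar multiple of g — those whose coset modulo the q + 1 unitary scalars is fixed by σ — number (q + 1)/(q₀ + 1) · |GU_n(q₀)|; equivalently the centraliser in PGU_n(q) of the induced automorphism has the order of PGU_n(q₀). -/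
theorem result {K : Type*} [Field K] [Fintype K] {q₀ q r n : ℕ} (hr : r.Prime) (hr2 : r ≠ 2) (hn : 1 ≤ n) (hq : q = q₀ ^ r) (hK : Fintype.card K = q ^ 2) (σ : K ≃+* K) (hσ : orderOf σ = r) : (Nat.card {g : ↥(Cfsg.GU n K q) // ∃ c : K, c ≠ 0 ∧ ((g : GL (Fin n) K) : Matrix (Fin n) (Fin n) K).map σ = c • ((g : GL (Fin n) K) : Matrix (Fin n) (Fin n) K)} : ℤ) = ((q + 1) / (q₀ + 1) : ℕ) * ((q₀ : ℤ) ^ (n * (n - 1) / 2) * ∏ i : Fin n, ((q₀ : ℤ) ^ ((i : ℕ) + 1) - (-1) ^ ((i : ℕ) + 1))) := by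
  classical
  subst hq
  have hrodd : Odd r := hr.odd_of_ne_two hr2
  have hKcard : Fintype.card K = (q₀ ^ 2) ^ r := by rw [hK, ← pow_mul, ← pow_mul, mul_comm]
  have hc0 := S2636.card_fixF σ hr hKcard hσ
  let _ : Fintype (S2636.fixF σ) := Fintype.ofFinite _
  have hK₀ : Fintype.card (S2636.fixF σ) = q₀ ^ 2 := by rw [← Nat.card_eq_fintype_card]; exact hc0
  have hq0 : 2 ≤ q₀ := herm_two_le hK₀
  -- the set as a range
  have h1 : Nat.card {g : ↥(Cfsg.GU n K (q₀ ^ r)) // ∃ c : K, c ≠ 0 ∧ ((g : GL (Fin n) K) : Matrix (Fin n) (Fin n) K).map σ = c • ((g : GL (Fin n) K) : Matrix (Fin n) (Fin n) K)}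
      = Nat.card ↥(((normOne K (q₀ ^ r)).prod (Cfsg.GU n (S2636.fixF σ) q₀)).map (S2636.prodHom σ n)) := by
    apply Nat.card_congr
    refine (Equiv.subtypeSubtypeEquivSubtypeInter (fun g : GL (Fin n) K => g ∈ Cfsg.GU n K (q₀ ^ r))
      (fun g : GL (Fin n) K => ∃ c : K, c ≠ 0 ∧ (g : Matrix (Fin n) (Fin n) K).map σ = c • (g : Matrix (Fin n) (Fin n) K))).trans ?_
    exact Equiv.subtypeEquivRight (fun g => mem_map_iff σ hK hK₀ hrodd hn g)
  have h2 := Subgroup.card_mul_index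
    ((S2636.prodHom σ n).domRestrict ((normOne K (q₀ ^ r)).prod (Cfsg.GU n (S2636.fixF σ) q₀))).ker
  rw [Subgroup.index_ker, MonoidHom.domRestrict_range, MonoidHom.ker_domRestrict,
    card_ker σ hK₀ hrodd hn,
    Nat.card_congr (Subgroup.prodEquiv (normOne K (q₀ ^ r)) (Cfsg.GU n (S2636.fixF σ) q₀)).toEquiv,
    Nat.card_prod, card_normOne hK, card_GU hK₀, ← h1] at h2
  obtain ⟨t, ht⟩ : (q₀ + 1) ∣ (q₀ ^ r + 1) := by
    have := Odd.nat_add_dvd_pow_add_pow q₀ 1 hrodd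
    simpa using this
  have hpos : 0 < q₀ + 1 := by omega
  rw [ht, Nat.mul_div_cancel_left _ hpos]
  rw [ht, mul_assoc] at h2
  have h3 := Nat.eq_of_mul_eq_mul_left hpos h2
  rw [h3]
  push_cast
  congr 2
  rw [← Fin.prod_univ_eq_prod_range (fun x => if Even x then (q₀ : ℤ) ^ (x + 1) + 1 else ((q₀ ^ (x + 1) - 1 : ℕ) : ℤ)) n]
  apply Finset.prod_congr rfl
  intro i _
  by_cases hi : Even (i : ℕ)
  · rw [if_pos hi]
    have : Odd ((i : ℕ) + 1) := hi.add_one
    rw [this.neg_one_pow]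
    push_cast
    ring
  · rw [if_neg hi]
    have hi' : Odd (i : ℕ) := Nat.not_even_iff_odd.mp hi
    have : Even ((i : ℕ) + 1) := hi'.add_one
    rw [this.neg_one_pow]
    have h1le : 1 ≤ q₀ ^ ((i : ℕ) + 1) := Nat.one_le_pow _ _ (by omega)
    push_cast [Nat.cast_sub h1le]
    ring

end Cfsg.Agent.S2677
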