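import Cfsg.Statements.S2678
-- import your own Cfsg.Agent.* helpers here
import Cfsg.Agent.Lib.Helper15.FieldExt

set_option autoImplicit false
open Cfsg

namespace Cfsg.Agent.S2678

open Matrix Module
open Cfsg.Agent.Lib.Helper15

/-- Field-extension embedding of symplectic groups: for a field K with q² elements and a field F with q elements there is an injective homomorphism Sp_2a(K) → Sp_4a(F). -/
theorem result {K F : Type*} [Field K] [Fintype K] [Field F] [Fintype F] {q : ℕ} (hK : Fintype.card K = q ^ 2) (hF : Fintype.card F = q) (a : ℕ) : ∃ φ : ↥(Matrix.symplecticGroup (Fin a) K) →* ↥(Matrix.symplecticGroup (Fin (2 * a)) F), Function.Injective φ := by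
  classical
  obtain ⟨ι⟩ := exists_ringHom_of_card_sq (F := F) (K := K) (by rw [hK, hF])
  let _ : Algebra F K := ι.toAlgebra
  have h2 : finrank F K = 2 := finrank_eq_two_of_card_sq (by rw [hK, hF])
  have : FiniteDimensional F K := Module.finite_of_finrank_pos (by rw [h2]; norm_num)
  let b : Basis (Fin 2) F K := Module.finBasisOfFinrankEq F K h2
  let bd : Basis (Fin 2) F K := (Algebra.traceForm F K).dualBasis (traceForm_nondegenerate F K) b
  let pair : Fin a × Fin 2 ≃ Fin (2 * a) := finProdFinEquiv.trans (finCongr (mul_comm a 2))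
  let e : (Σ _ : Fin a ⊕ Fin a, Fin 2) ≃ Fin (2 * a) ⊕ Fin (2 * a) :=
    (Equiv.sigmaEquivProd _ _).trans ((Equiv.sumProdDistrib _ _ _).trans (Equiv.sumCongr pair pair))
  let B0 : Basis (Σ _ : Fin a ⊕ Fin a, Fin 2) F (Fin a ⊕ Fin a → K) :=
    Pi.basis (fun j : Fin a ⊕ Fin a => Sum.elim (fun _ => b) (fun _ => bd) j)
  let B := B0.reindex e
  let Ψ : (Fin a ⊕ Fin a → K) → (Fin a ⊕ Fin a → K) → F :=
    fun x y => Algebra.trace F K (Cfsg.sympForm a K x y)
  have hBl : ∀ (x : Fin a ⊕ Fin a → K) (k : Fin (2 * a)),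
      B.equivFun x (Sum.inl k) = b.repr (x (Sum.inl (pair.symm k).1)) (pair.symm k).2 := by
    intro x k
    show (B0.reindex e).repr x (Sum.inl k) = _
    rw [Basis.repr_reindex_apply]
    have : e.symm (Sum.inl k) = ⟨Sum.inl (pair.symm k).1, (pair.symm k).2⟩ := by
      rw [Equiv.symm_apply_eq]; simp [e]
    rw [this, Pi.basis_repr]; rfl
  have hBr : ∀ (x : Fin a ⊕ Fin a → K) (k : Fin (2 * a)),
      B.equivFun x (Sum.inr k) = bd.repr (x (Sum.inr (pair.symm k).1)) (pair.symm k).2 := by
    intro x k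
    show (B0.reindex e).repr x (Sum.inr k) = _
    rw [Basis.repr_reindex_apply]
    have : e.symm (Sum.inr k) = ⟨Sum.inr (pair.symm k).1, (pair.symm k).2⟩ := by
      rw [Equiv.symm_apply_eq]; simp [e]
    rw [this, Pi.basis_repr]; rfl
  apply embed_of_basis B Ψ ?_ (Matrix.symplecticGroup (Fin a) K).subtype Subtype.val_injective ?_
  · intro x y
    show _ = Algebra.trace F K (Cfsg.sympForm a K x y)
    rw [sympForm_eq, sympForm_eq, map_sum]
    simp only [hBl, hBr]
    rw [← Equiv.sum_comp pair, Fintype.sum_prod_type]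
    apply Finset.sum_congr rfl
    intro i _
    simp only [Equiv.symm_apply_apply, map_sub]
    rw [Finset.sum_sub_distrib]
    congr 1
    · rw [mul_comm (x (Sum.inr i)), ← dual_pairing b (y (Sum.inl i)) (x (Sum.inr i))]
      apply Finset.sum_congr rfl; intro s _; rw [mul_comm]
    · rw [← dual_pairing b (x (Sum.inl i)) (y (Sum.inr i))]
  · intro g x y
    show Algebra.trace F K _ = Algebra.trace F K _
    rw [Submonoid.subtype_apply, sympForm_invariant]

end Cfsg.Agent.S2678
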