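import Cfsg.Statements.S2679
-- import your own Cfsg.Agent.* helpers here
import Cfsg.Agent.Lib.Helper15.IsometryTransport

set_option autoImplicit false
open Cfsg

namespace Cfsg.Agent.S2679

/-- An elliptic orthogonal group embeds in the hyperbolic orthogonal group of the same dimension over the quadratic extension: for a field F with q elements and a field K with q² elements there is an injective homomorphism from O⁻_2m(F) (isometries of Σ_(j<m−1) x_j y_j + z₁² + a z₁z₂ + c z₂², binary part anisotropic) to O⁺_2m(K) (isometries of Σ_(j<m) x_j y_j over K). -/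
theorem result {F K : Type*} [Field F] [Fintype F] [Field K] [Fintype K] {q : ℕ} (hF : Fintype.card F = q) (hK : Fintype.card K = q ^ 2) {m : ℕ} (hm : 1 ≤ m) (a c : F) (hac : ∀ z₁ z₂ : F, z₁ ^ 2 + a * z₁ * z₂ + c * z₂ ^ 2 = 0 → z₁ = 0 ∧ z₂ = 0) : ∃ φ : ↥(Cfsg.isometryGroup F (Cfsg.quadFormMinus (m - 1) F a c)) →* ↥(Cfsg.isometryGroup K (Cfsg.quadFormPlus m K)), Function.Injective φ := by
  obtain ⟨k, rfl⟩ : ∃ k, m = k + 1 := ⟨m - 1, by omega⟩
  show ∃ φ : ↥(Cfsg.isometryGroup F (Cfsg.quadFormMinus k F a c)) →*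
      ↥(Cfsg.isometryGroup K (Cfsg.quadFormPlus (k + 1) K)), Function.Injective φ
  have hroot : ∀ z : F, z ^ 2 + a * z + c ≠ 0 := by
    intro z hz
    have := hac z 1 (by simpa using hz)
    exact one_ne_zero this.2
  obtain ⟨ι, α, hα, hne⟩ := Lib.Helper15.exists_embedding_root (K := K) (by rw [hK, hF]) a c hroot
  -- base change
  obtain ⟨Φ₁, h₁⟩ := Lib.Helper15.basechange_isometry ι (Lib.Helper15.minusMat k F a c)
    (Cfsg.quadFormMinus k F a c) (Cfsg.quadFormMinus k K (ι a) (ι c))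
    (Lib.Helper15.quadFormMinus_eq_mat k a c)
    (fun v => by rw [Lib.Helper15.minusMat_map]; exact Lib.Helper15.quadFormMinus_eq_mat k _ _ v)
  -- change of variables
  set M : Matrix (Fin 2) (Fin 2) K := !![1, -α; 1, -(-ι a - α)] with hM
  have hdet : IsUnit M.det := by
    rw [hM, Matrix.det_fin_two_of]
    apply IsUnit.mk0
    intro h
    apply hne
    linear_combination h
  obtain ⟨Φ₂, h₂⟩ := Lib.Helper15.transport_isometry (Cfsg.quadFormMinus k K (ι a) (ι c))
    (Lib.Helper15.hypForm k K)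
    (Matrix.fromBlocks 1 0 0 M) (Matrix.fromBlocks 1 0 0 M⁻¹)
    (by rw [Matrix.fromBlocks_multiply]
        simp only [Matrix.mul_one, Matrix.mul_zero, Matrix.zero_mul, add_zero, zero_add,
          Matrix.mul_nonsing_inv M hdet, Matrix.fromBlocks_one])
    (by rw [Matrix.fromBlocks_multiply]
        simp only [Matrix.mul_one, Matrix.mul_zero, Matrix.zero_mul, add_zero, zero_add,
          Matrix.nonsing_inv_mul M hdet, Matrix.fromBlocks_one])
    (fun w => Lib.Helper15.hypForm_change k (ι a) (ι c) α (-ι a - α) (by ring)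
      (by linear_combination -hα) w)
  -- reindexing
  obtain ⟨Φ₃, h₃⟩ := Lib.Helper15.transport_isometry (Lib.Helper15.hypForm k K)
    (Cfsg.quadFormPlus (k + 1) K)
    ((1 : Matrix ((Fin k ⊕ Fin k) ⊕ Fin 2) ((Fin k ⊕ Fin k) ⊕ Fin 2) K).submatrix
      (Lib.Helper15.idxEquiv k) (Equiv.refl _))
    ((1 : Matrix ((Fin k ⊕ Fin k) ⊕ Fin 2) ((Fin k ⊕ Fin k) ⊕ Fin 2) K).submatrix
      (Equiv.refl _) (Lib.Helper15.idxEquiv k))
    (by rw [Matrix.submatrix_mul_equiv, Matrix.one_mul, Matrix.submatrix_one_equiv])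
    (by rw [Matrix.submatrix_mul_equiv, Matrix.one_mul]
        exact Matrix.submatrix_one_equiv (Equiv.refl _))
    (fun w => by
      rw [Matrix.submatrix_mulVec_equiv, Matrix.one_mulVec]
      exact Lib.Helper15.quadFormPlus_comp_idx k w)
  exact ⟨Φ₃.comp (Φ₂.comp Φ₁), h₃.comp (h₂.comp h₁)⟩

end Cfsg.Agent.S2679
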