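import Cfsg.Statements.S2683
-- import your own Cfsg.Agent.* helpers here
import Cfsg.Agent.Lib.Helper15.OrthInvOmega
import Cfsg.Agent.Lib.Helper15.OrthInvArith

set_option autoImplicit false
open Cfsg

namespace Cfsg.Agent.S2683

open Module Matrix Finset Cfsg.Agent.Lib.Helper14 Cfsg.Agent.Lib.Helper15
  Cfsg.Agent.Lib.Helper15.SymIso Cfsg.Agent.Lib.Helper15.SpInvCent
  Cfsg.Agent.Lib.Helper15.PlusFrames Cfsg.Agent.Lib.Helper15.OrthInvCent
  Cfsg.Agent.Lib.Helper15.OrthInvOmega Cfsg.Agent.Lib.Helper15.OrthInvArith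

theorem main {F : Type*} [Field F] [Fintype F] [CharP F 2] {q : ℕ} (hF : Fintype.card F = q)
    {m s : ℕ} (h : Fintype.card F ≠ 2 ∨ m ≠ 2) (x : OO m F) (hx : x ^ 2 = 1)
    (hs : (mat x - 1).rank = s) (hodd : Odd s) :
    Nat.card {g : ↥(Cfsg.Omega F (Cfsg.quadFormPlus m F)) //
      (g : OO m F) * x = x * (g : OO m F)} =
      q ^ (2 * m * (s - 1) - (3 * s ^ 2 - 3 * s) / 2) *
        ((q : ℕ) ^ (((s - 1) / 2) ^ 2) * ∏ i : Fin ((s - 1) / 2), (q ^ (2 * ((i : ℕ) + 1)) - 1)) *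
        ((q : ℕ) ^ ((m - s) ^ 2) * ∏ i : Fin (m - s), (q ^ (2 * ((i : ℕ) + 1)) - 1)) := by
  classical
  have hq : 2 ≤ q := by rw [← hF]; exact Fintype.one_lt_card
  have hxx : x * x = 1 := by rw [← pow_two]; exact hx
  have ht := toSp_sq x hxx
  have hfr : finrank F (WW x) = s := by rw [SpInvCent.finrank_Wt]; exact hs
  have hsm : s ≤ m := by rw [← hfr]; exact SpInvCent.finrank_Wt_le (toSp x) ht
  obtain ⟨a, ha⟩ := hodd
  obtain ⟨k, hk⟩ : ∃ k, s = k + 1 := ⟨2 * a, by omega⟩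
  obtain ⟨j, hj⟩ : ∃ j, m = k + j + 1 := ⟨m - s, by omega⟩
  subst hj
  have hna : ∃ w ∈ WW x, Cfsg.quadFormPlus (k + j + 1) F w ≠ 0 := by
    by_contra hcon
    push Not at hcon
    have halt : ∀ w : WW x, gam (toSp x) w w = 0 := fun w => by
      rw [← Q_eq_gam x hxx]; exact hcon w.1 w.2
    obtain ⟨k', φ, hk', -⟩ := exists_symp_equiv (WW x) (gam (toSp x)) halt
      (gam_nondeg (toSp x) ht)
    omega
  have h1 := card_cent_na k j x hxx (by rw [hfr, hk]) hna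
  have h2 := card_omega_cent_odd h x (by rw [hs]; exact ⟨a, ha⟩)
  have hOg : Nat.card (Og (gam (toSp x))) = Nat.card (Matrix.symplecticGroup (Fin a) F) :=
    card_Og_odd (gam (toSp x)) (gam_symm _ ht) (gam_nondeg _ ht) a (by rw [hfr, ha])
  rw [card_tsf (k + j + 1) k (by omega), card_isometry_plus (k + j), hOg, card_symplectic, hF]
    at h1
  have h3 := solve_na q k j _ _ _ hq h2 h1
  have e1 : (s - 1) / 2 = a := by omega
  have e2 : k + j + 1 - s = j := by omega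
  rw [← SpInvCent.sp_prod, ← SpInvCent.sp_prod, e1]
  apply Nat.eq_of_mul_eq_mul_right (pow_pos (by omega : 0 < q) ((∑ i ∈ range k, i) + j + k))
  rw [h3, ← exp_b (k + j + 1) s k j _ hk rfl (tri k), pow_add, pow_add, e2]
  unfold PP
  ring

/-- For the hyperbolic form Σ x_j y_j on F^(2m) over a finite field with q elements, q even (excluding m = 2 over the field of two elements), and an involution x of the orthogonal group with s = rank(x − 1) odd (type b_s; such x lie outside Ω): the elements of Ω (the commutator subgroup of the orthogonal group) commuting with x number q^(2m(s−1) − (3s² − 3s)/2) · |Sp_(s−1)(q)| · |Sp_(2m−2s)(q)|, where |Sp_2k(q)| = q^(k²) Π_(i=1)^k (q^(2i) − 1). -/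
theorem result {F : Type*} [Field F] [Fintype F] [CharP F 2] {q : ℕ} (hF : Fintype.card F = q) {m s : ℕ} (h : Fintype.card F ≠ 2 ∨ m ≠ 2) (x : ↥(Cfsg.isometryGroup F (Cfsg.quadFormPlus m F))) (hx : x ^ 2 = 1) (hs : (((x : Matrix.GeneralLinearGroup (Fin m ⊕ Fin m) F) : Matrix (Fin m ⊕ Fin m) (Fin m ⊕ Fin m) F) - 1).rank = s) (hodd : Odd s) : Nat.card {g : ↥(Cfsg.Omega F (Cfsg.quadFormPlus m F)) // (g : ↥(Cfsg.isometryGroup F (Cfsg.quadFormPlus m F))) * x = x * (g : ↥(Cfsg.isometryGroup F (Cfsg.quadFormPlus m F)))} = q ^ (2 * m * (s - 1) - (3 * s ^ 2 - 3 * s) / 2) * ((q : ℕ) ^ (((s - 1) / 2) ^ 2) * ∏ i : Fin ((s - 1) / 2), (q ^ (2 * ((i : ℕ) + 1)) - 1)) * ((q : ℕ) ^ ((m - s) ^ 2) * ∏ i : Fin (m - s), (q ^ (2 * ((i : ℕ) + 1)) - 1)) := by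
  exact main hF h x hx hs hodd

end Cfsg.Agent.S2683
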