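import Cfsg.Statements.S2684
-- import your own Cfsg.Agent.* helpers here
import Cfsg.Agent.Lib.Helper15.OrthInvOmega
import Cfsg.Agent.Lib.Helper15.OrthInvArith

set_option autoImplicit false
open Cfsg

namespace Cfsg.Agent.S2684

open Module Matrix Finset Cfsg.Agent.Lib.Helper14 Cfsg.Agent.Lib.Helper15
  Cfsg.Agent.Lib.Helper15.SymIso Cfsg.Agent.Lib.Helper15.SpInvCent
  Cfsg.Agent.Lib.Helper15.PlusFrames Cfsg.Agent.Lib.Helper15.OrthInvCent
  Cfsg.Agent.Lib.Helper15.OrthInvOmega Cfsg.Agent.Lib.Helper15.OrthInvArith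

theorem main {F : Type*} [Field F] [Fintype F] [CharP F 2] {q : ℕ} (hF : Fintype.card F = q)
    {m s : ℕ} (h : Fintype.card F ≠ 2 ∨ m ≠ 2) (x : OO m F) (hx : x ^ 2 = 1) (hx1 : x ≠ 1)
    (hs : (mat x - 1).rank = s) (heven : Even s)
    (halt : ∀ v : Fin m ⊕ Fin m → F, Cfsg.quadFormPlus m F ((mat x - 1).mulVec v) = 0) :
    Nat.card {g : ↥(Cfsg.Omega F (Cfsg.quadFormPlus m F)) //
      (g : OO m F) * x = x * (g : OO m F)} =
      q ^ (2 * m * s - (3 * s ^ 2 + s) / 2) *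
        ((q : ℕ) ^ ((s / 2) ^ 2) * ∏ i : Fin (s / 2), (q ^ (2 * ((i : ℕ) + 1)) - 1)) *
        (if s = m then 1 else q ^ ((m - s) * (m - s - 1)) * (q ^ (m - s) - 1) *
          ∏ i : Fin (m - s - 1), (q ^ (2 * ((i : ℕ) + 1)) - 1)) := by
  classical
  have hq : 2 ≤ q := by rw [← hF]; exact Fintype.one_lt_card
  have hxx : x * x = 1 := by rw [← pow_two]; exact hx
  have ht := toSp_sq x hxx
  have hfr : finrank F (WW x) = s := by rw [SpInvCent.finrank_Wt]; exact hs
  have hsm : s ≤ m := by rw [← hfr]; exact SpInvCent.finrank_Wt_le (toSp x) ht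
  have halt' : ∀ w ∈ WW x, Cfsg.quadFormPlus m F w = 0 := by
    intro w hw
    obtain ⟨u, rfl⟩ := (SpInvCent.mem_Wt (toSp x) w).1 hw
    exact halt u
  have halt'' : ∀ w : WW x, gam (toSp x) w w = 0 := fun w => by
    rw [← Q_eq_gam x hxx]; exact halt' w.1 w.2
  have hm : 1 ≤ m := by
    by_contra hm0
    have hm0' : m = 0 := by omega
    subst hm0'
    apply hx1
    apply mat_inj
    exact Subsingleton.elim _ _
  obtain ⟨a, ha⟩ := heven
  have e1 : s / 2 = a := by omega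
  have hOg : Nat.card (Og (gam (toSp x))) = Nat.card (Matrix.symplecticGroup (Fin a) F) :=
    card_Og_alt (WW x) (gam (toSp x)) halt'' (gam_nondeg _ ht) a (by rw [hfr, ha]; ring)
  have h1 := card_cent_a x hxx hfr halt'
  by_cases hsm' : s = m
  · rw [if_pos hsm', mul_one]
    subst hsm'
    obtain ⟨k, hk⟩ : ∃ k, s = k + 1 := ⟨s - 1, by omega⟩
    subst hk
    have h2 := card_omega_cent_max hm h x hs halt'
    rw [card_tsf (k + 1) (k + 1) le_rfl, card_isometry_plus k, hOg, card_symplectic, hF] at h1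
    have h3 := solve_max q k _ _ hq h1
    rw [← SpInvCent.sp_prod, e1, h2]
    apply Nat.eq_of_mul_eq_mul_right (pow_pos (by omega : 0 < q) (∑ i ∈ range (k + 1), i))
    rw [h3, ← exp_max k _ (tri (k + 1)), pow_add]
    ring
  · rw [if_neg hsm']
    obtain ⟨j, hj⟩ : ∃ j, m = s + j + 1 := ⟨m - s - 1, by omega⟩
    subst hj
    have h2 := card_omega_cent_a hm h x hxx (by rw [hs]; omega)
    rw [card_tsf (s + j + 1) s (by omega), card_isometry_plus (s + j), hOg, card_symplectic, hF]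
      at h1
    have h3 := solve_a q s j _ _ _ hq h2 h1
    have e2 : s + j + 1 - s = j + 1 := by omega
    have e3 : j + 1 - 1 = j := by omega
    rw [← SpInvCent.sp_prod, ← SpInvCent.sp_prod, e1]
    apply Nat.eq_of_mul_eq_mul_right (pow_pos (by omega : 0 < q) (∑ i ∈ range s, i))
    rw [h3, ← exp_a (s + j + 1) s j _ rfl (tri s), pow_add, pow_add, e2, e3]
    unfold PP
    ring

/-- For the hyperbolic form Q = Σ x_j y_j on F^(2m) over a finite field with q elements, q even (excluding m = 2 over the field of two elements), and an involution x ≠ 1 of the orthogonal group with s = rank(x − 1) even and Q vanishing on the image of x − 1 (equivalently f(v, xv) = 0 for all v, where f(u, w) = Q(u + w) − Q(u) − Q(w) is the bilinear form of Q; type a_s, which lies in Ω): its centraliser in Ω (the commutator subgroup of the orthogonal group) has order q^(2ms − (3s² + s)/2) · |Sp_s(q)| · |Ω⁺_(2m−2s)(q)|, where |Ω⁺_2k(q)| = q^(k(k−1)) (q^k −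 1) Π_(i=1)^(k−1) (q^(2i) − 1) for k ≥ 1 and the last factor is 1 when s = m. -/
theorem result {F : Type*} [Field F] [Fintype F] [CharP F 2] {q : ℕ} (hF : Fintype.card F = q) {m s : ℕ} (h : Fintype.card F ≠ 2 ∨ m ≠ 2) (x : ↥(Cfsg.isometryGroup F (Cfsg.quadFormPlus m F))) (hx : x ^ 2 = 1) (hx1 : x ≠ 1) (hs : (((x : Matrix.GeneralLinearGroup (Fin m ⊕ Fin m) F) : Matrix (Fin m ⊕ Fin m) (Fin m ⊕ Fin m) F) - 1).rank = s) (heven : Even s) (halt : ∀ v : Fin m ⊕ Fin m → F, Cfsg.quadFormPlus m F ((((x : Matrix.GeneralLinearGroup (Fin m ⊕ Fin m) F) : Matrix (Fin m ⊕ Fin m) (Fin m ⊕ Fin m) F) - 1).mulVec v) = 0) : Nat.card {g : ↥(Cfsg.Omega F (Cfsg.quadFormPlus m F)) // (g : ↥(Cfsg.isometryGroup F (Cfsg.quadFormPlus m F))) * x = x * (g : ↥(Cfsg.isometryGroup F (Cfsg.quadFormPlus m F)))} = q ^ (2 * m * s - (3 * s ^ 2 + s) / 2) * ((q : ℕ) ^ ((s / 2) ^ 2) * ∏ i : Fin (s / 2), (q ^ (2 * ((i : ℕ) + 1)) - 1)) * (if s = m then 1 else q ^ ((m - s) *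 (m - s - 1)) * (q ^ (m - s) - 1) * ∏ i : Fin (m - s - 1), (q ^ (2 * ((i : ℕ) + 1)) - 1)) := by
  exact main hF h x hx hx1 hs heven halt

end Cfsg.Agent.S2684
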