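import Cfsg.Statements.S2685
-- import your own Cfsg.Agent.* helpers here
import Cfsg.Agent.Lib.Helper15.OrthInvOmega
import Cfsg.Agent.Lib.Helper15.OrthInvArith

set_option autoImplicit false
open Cfsg

namespace Cfsg.Agent.S2685

open Module Matrix Finset Cfsg.Agent.Lib.Helper14 Cfsg.Agent.Lib.Helper15
  Cfsg.Agent.Lib.Helper15.SymIso Cfsg.Agent.Lib.Helper15.SpInvCent
  Cfsg.Agent.Lib.Helper15.PlusFrames Cfsg.Agent.Lib.Helper15.OrthInvCent
  Cfsg.Agent.Lib.Helper15.OrthInvOmega Cfsg.Agent.Lib.Helper15.OrthInvArith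

theorem main {F : Type*} [Field F] [Fintype F] [CharP F 2] {q : ℕ} (hF : Fintype.card F = q)
    {m s : ℕ} (h : Fintype.card F ≠ 2 ∨ m ≠ 2) (x : OO m F) (hx : x ^ 2 = 1)
    (hs : (mat x - 1).rank = s) (heven : Even s)
    (hna : ∃ v : Fin m ⊕ Fin m → F, Cfsg.quadFormPlus m F ((mat x - 1).mulVec v) ≠ 0) :
    Nat.card {g : ↥(Cfsg.Omega F (Cfsg.quadFormPlus m F)) //
      (g : OO m F) * x = x * (g : OO m F)} =
      q ^ (2 * m * (s - 1) - (3 * s ^ 2 - 5 * s) / 2 - 1) *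
        ((q : ℕ) ^ (((s - 2) / 2) ^ 2) * ∏ i : Fin ((s - 2) / 2), (q ^ (2 * ((i : ℕ) + 1)) - 1)) *
        ((q : ℕ) ^ ((m - s) ^ 2) * ∏ i : Fin (m - s), (q ^ (2 * ((i : ℕ) + 1)) - 1)) := by
  classical
  have hq : 2 ≤ q := by rw [← hF]; exact Fintype.one_lt_card
  have hxx : x * x = 1 := by rw [← pow_two]; exact hx
  have ht := toSp_sq x hxx
  have hfr : finrank F (WW x) = s := by rw [SpInvCent.finrank_Wt]; exact hs
  have hsm : s ≤ m := by rw [← hfr]; exact SpInvCent.finrank_Wt_le (toSp x) ht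
  have hna' : ∃ w ∈ WW x, Cfsg.quadFormPlus m F w ≠ 0 := by
    obtain ⟨v, hv⟩ := hna
    exact ⟨_, SpInvCent.Nm_mem (toSp x) v, hv⟩
  have hna'' : ∃ w : WW x, gam (toSp x) w w ≠ 0 := by
    obtain ⟨w, hw, hQw⟩ := hna'
    refine ⟨⟨w, hw⟩, ?_⟩
    rw [← Q_eq_gam x hxx]
    exact hQw
  have hs0 : s ≠ 0 := by
    intro h0
    rw [h0] at hfr
    obtain ⟨w, hw⟩ := hna''
    have : w = 0 := by
      have := Module.finrank_zero_iff.1 hfr
      exact Subsingleton.elim _ _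
    apply hw
    rw [this, map_zero]
  obtain ⟨a', ha'⟩ := heven
  obtain ⟨a, ha⟩ : ∃ a, s = 2 * a + 2 := ⟨a' - 1, by omega⟩
  obtain ⟨k, hk2⟩ : ∃ k, k = 2 * a + 1 := ⟨_, rfl⟩
  have hk : s = k + 1 := by omega
  obtain ⟨j, hj⟩ : ∃ j, m = k + j + 1 := ⟨m - s, by omega⟩
  subst hj
  have h1 := card_cent_na k j x hxx (by rw [hfr, hk]) hna'
  have h2 := card_omega_cent_c (by omega) h x hxx hna'
  have hOg := card_Og_even (gam (toSp x)) (gam_symm _ ht) (gam_nondeg _ ht) hna'' a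
    (by rw [hfr, ha])
  rw [card_tsf (k + j + 1) k (by omega), card_isometry_plus (k + j), hOg, card_symplectic,
    Nat.card_eq_fintype_card (α := F), hF] at h1
  have h3 := solve_na q k j _ _ _ hq h2 h1
  have e1 : (s - 2) / 2 = a := by omega
  have e2 : k + j + 1 - s = j := by omega
  have hexp := exp_c (k + j + 1) s k j _ hk (by omega) rfl (tri k)
  rw [← SpInvCent.sp_prod, ← SpInvCent.sp_prod, e1]
  apply Nat.eq_of_mul_eq_mul_right (pow_pos (by omega : 0 < q) ((∑ i ∈ range k, i) + j + k))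
  rw [h3]
  have h4 : q ^ ((k + j + 1) * (k + j)) * (q ^ (2 * a + 1) * (q ^ a ^ 2 *
      ∏ i ∈ range a, (q ^ (2 * (i + 1)) - 1))) * PP q j =
      q ^ ((k + j + 1) * (k + j) + k) * (q ^ a ^ 2 *
      ∏ i ∈ range a, (q ^ (2 * (i + 1)) - 1)) * PP q j := by
    rw [pow_add, hk2]
    ring
  rw [h4, ← hexp, pow_add, pow_add, e2]
  unfold PP
  ring

/-- For the hyperbolic form Q = Σ x_j y_j on F^(2m) over a finite field with q elements, q even (excluding m = 2 over the field of two elements), and an involution x of the orthogonal group with s = rank(x − 1) even and Q not vanishing on the image of x − 1 (f(v, xv) ≠ 0 for some v, where f(u, w) = Q(u + w) − Q(u) − Q(w) is the bilinear form of Q; type c_s, which lies in Ω): its centraliser in Ω (the commutator subgroup of the orthogonal group) has order q^(2m(s−1) − (3s² − 5s)/2 − 1) · |Sp_(s−2)(q)| · |Sp_(2m−2s)(q)|. -/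
theorem result {F : Type*} [Field F] [Fintype F] [CharP F 2] {q : ℕ} (hF : Fintype.card F = q) {m s : ℕ} (h : Fintype.card F ≠ 2 ∨ m ≠ 2) (x : ↥(Cfsg.isometryGroup F (Cfsg.quadFormPlus m F))) (hx : x ^ 2 = 1) (hs : (((x : Matrix.GeneralLinearGroup (Fin m ⊕ Fin m) F) : Matrix (Fin m ⊕ Fin m) (Fin m ⊕ Fin m) F) - 1).rank = s) (heven : Even s) (hna : ∃ v : Fin m ⊕ Fin m → F, Cfsg.quadFormPlus m F ((((x : Matrix.GeneralLinearGroup (Fin m ⊕ Fin m) F) : Matrix (Fin m ⊕ Fin m) (Fin m ⊕ Fin m) F) - 1).mulVec v) ≠ 0) : Nat.card {g : ↥(Cfsg.Omega F (Cfsg.quadFormPlus m F)) // (g : ↥(Cfsg.isometryGroup F (Cfsg.quadFormPlus m F))) * x = x * (g : ↥(Cfsg.isometryGroup F (Cfsg.quadFormPlus m F)))} = q ^ (2 * m * (s - 1) - (3 * s ^ 2 - 5 * s) / 2 - 1) * ((q : ℕ) ^ (((s - 2) / 2) ^ 2) * ∏ i : Fin ((s - 2) / 2), (q ^ (2 * ((i : ℕ) + 1)) - 1)) * ((q : ℕ) ^ ((m - s) ^ 2) * ∏ i : Fin (m - s), (q ^ (2 * ((i : ℕ) + 1)) -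 1)) := by
  exact main hF h x hx hs heven hna

end Cfsg.Agent.S2685
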