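import Cfsg.Statements.S2689
-- import your own Cfsg.Agent.* helpers here
import Mathlib
import Cfsg.Agent.Lib.Helper18.PSLnMain

set_option autoImplicit false
open Cfsg

namespace Cfsg.Agent.S2689

/-- The automorphism group of a simple projective special linear group PSL_n(F) over a finite field (n ≥ 2; |F| ≥ 4 when n = 2) is generated by the automorphisms induced by invertible semilinear maps of F^n (the image of the projective semilinear group) together with the inverse-transpose automorphism. -/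
theorem result {F : Type*} [Field F] [Fintype F] {p f : ℕ} [Fact p.Prime] (hF : Fintype.card F = p ^ f) (hf : 1 ≤ f) {n : ℕ} (hn : 2 ≤ n) (hs : n = 2 → 4 ≤ Fintype.card F) :
    Cfsg.gammaPSL n F ⊔ Cfsg.autSubgroupOf (fun β : Matrix.ProjectiveSpecialLinearGroup (Fin n) F ≃* Matrix.ProjectiveSpecialLinearGroup (Fin n) F => Cfsg.IsInverseTransposeAutPSL β) = ⊤ := by
  classical
  have : CharP F p := charP_of_card_eq_prime_pow hF
  rw [eq_top_iff]
  intro β _
  obtain ⟨g, σ, γ, hγ, hβ⟩ := Cfsg.Agent.Lib.Helper18.PSLnAut.aut_decomp_all p hn β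
  have hβ' : β = Cfsg.Agent.Lib.Helper18.PSLnAut.conjA g *
      Cfsg.Agent.Lib.Helper18.PSLnAut.fieldA σ * γ := by
    ext x
    exact hβ x
  rw [hβ']
  have h1 : Cfsg.Agent.Lib.Helper18.PSLnAut.conjA g ∈ Cfsg.gammaPSL n F := by
    apply Subgroup.subset_closure
    refine ⟨g, RingEquiv.refl F, fun s s' h => ?_⟩
    obtain ⟨g', hg'⟩ := Cfsg.Agent.Lib.Helper18.PSLnAut.isInnerDiagonal_conjA g
    have hmap : (s : Matrix (Fin n) (Fin n) F).map (RingEquiv.refl F) =
        (s : Matrix (Fin n) (Fin n) F) := by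
      ext i j
      rfl
    rw [hmap] at h
    change Cfsg.Agent.Lib.Helper18.PSLnAut.conjA g (Cfsg.Agent.Lib.Helper18.PSLnAut.pi s) =
      Cfsg.Agent.Lib.Helper18.PSLnAut.pi s'
    rw [Cfsg.Agent.Lib.Helper18.PSLnAut.conjA_pi]
    congr 1
    apply Subtype.ext
    rw [h, Cfsg.Agent.Lib.Helper18.PSLnAut.conjMat_coe]
  have h2 : Cfsg.Agent.Lib.Helper18.PSLnAut.fieldA σ ∈ Cfsg.gammaPSL n F := by
    apply Subgroup.subset_closure
    refine ⟨1, σ, fun s s' h => ?_⟩
    rw [inv_one, Units.val_one, Matrix.one_mul, Matrix.mul_one] at h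
    exact Cfsg.Agent.Lib.Helper18.PSLnAut.isStdField_fieldA σ s s' h
  have h3 : γ ∈ Cfsg.autSubgroupOf (fun β : Matrix.ProjectiveSpecialLinearGroup (Fin n) F ≃*
      Matrix.ProjectiveSpecialLinearGroup (Fin n) F => Cfsg.IsInverseTransposeAutPSL β) := by
    rcases hγ with rfl | rfl
    · exact Subgroup.one_mem _
    · exact Subgroup.subset_closure Cfsg.Agent.Lib.Helper18.PSLnAut.isInverseTranspose_itA
  exact Subgroup.mul_mem _ (Subgroup.mem_sup_left (Subgroup.mul_mem _ h1 h2))
    (Subgroup.mem_sup_right h3)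

end Cfsg.Agent.S2689
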