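import Cfsg.Statements.S2692
-- import your own Cfsg.Agent.* helpers here
import Mathlib
import Cfsg.Agent.Lib.Helper18.PSUModY
import Cfsg.Agent.Lib.Helper25.PSUGraph1

set_option autoImplicit false
open Cfsg

namespace Cfsg.Agent.S2692

/-- Every automorphism of a simple PSU_n(q), n ≥ 3, (n, q) ≠ (3, 2), realised over the field F with q² elements, is a product δ φ of an inner-diagonal automorphism δ (induced by a general unitary matrix) and a standard field automorphism φ (one automorphism of F applied to every entry, possibly the identity; the standard field automorphisms of even order are the graph automorphisms here). -/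
theorem result {F : Type*} [Field F] [Fintype F] {p f q : ℕ} [Fact p.Prime] (hq : q = p ^ f) (hf : 1 ≤ f) (hF : Fintype.card F = q ^ 2) {n : ℕ} (hn : 3 ≤ n) (hs : ¬ (n = 3 ∧ q = 2)) (β : MulAut (Cfsg.PSU n F q)) :
    ∃ (δ φ : MulAut (Cfsg.PSU n F q)) (σ : F ≃+* F), Cfsg.IsInnerDiagonalAutPSU δ ∧ Cfsg.IsFieldAutPSUOf σ φ ∧ β = δ * φ := by
  obtain ⟨g, σ, hg, hI⟩ := Cfsg.Agent.Lib.Helper18.PSUMod.PSU_aut_induced hF hn hs β
  let gs : ↥(Cfsg.Agent.Lib.Helper25.PSUG.GUs n F q) :=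
    ⟨g, Cfsg.Agent.Lib.Helper25.PSUG.GU_le_GUs hg⟩
  refine ⟨Cfsg.Agent.Lib.Helper25.PSUG.conjUHom gs,
    Cfsg.Agent.Lib.Helper25.PSUG.fieldUHom (σ : RingAut F), σ, ?_, ?_, ?_⟩
  · exact (Cfsg.Agent.Lib.Helper25.PSUG.isInnerDiagonal_iff _).2 ⟨gs, hg, rfl⟩
  · exact (Cfsg.Agent.Lib.Helper25.PSUG.isFieldAut_iff σ _).2 rfl
  · ext x
    obtain ⟨s, rfl⟩ := Cfsg.Agent.Lib.Helper25.PSUG.piU_surjective x
    show β (QuotientGroup.mk s) = Cfsg.Agent.Lib.Helper25.PSUG.conjU gs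
      (Cfsg.Agent.Lib.Helper25.PSUG.fieldU σ (Cfsg.Agent.Lib.Helper25.PSUG.piU s))
    rw [Cfsg.Agent.Lib.Helper25.PSUG.fieldU_piU, Cfsg.Agent.Lib.Helper25.PSUG.conjU_piU]
    apply hI
    rw [Cfsg.Agent.Lib.Helper25.PSUG.conjMatU_coe, Cfsg.Agent.Lib.Helper25.PSUG.fieldSU_coe]

end Cfsg.Agent.S2692
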