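import Cfsg.Statements.S2693
-- import your own Cfsg.Agent.* helpers here
import Mathlib
import Cfsg.Agent.Lib.Helper18.PSpAutE

set_option autoImplicit false
open Cfsg

namespace Cfsg.Agent.S2693

/-- The automorphism group of a simple projective symplectic group PSp_{2m}(F) over a finite field of characteristic p, with m ≥ 2 and (2m, p) ≠ (4, 2), is generated by the automorphisms induced by the semilinear maps v ↦ g σ(v) with g conformal symplectic and σ an automorphism of F (the image of the projective semilinear symplectic group). For (2m, p) = (4, 2) the statement fails: a duality of the underlying polar space gives a further automorphism. -/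
theorem result {F : Type*} [Field F] [Fintype F] {p : ℕ} [Fact p.Prime] [CharP F p] {m : ℕ} (hm : 2 ≤ m) (h4 : m = 2 → p ≠ 2) :
    Cfsg.gammaPSp m F = ⊤ := by
  rw [eq_top_iff]
  intro β _
  apply Subgroup.subset_closure
  show ∃ (g : Matrix.GeneralLinearGroup (Fin m ⊕ Fin m) F) (σ : F ≃+* F),
    g ∈ Cfsg.GSp m F ∧ Cfsg.IsInducedBySemilinearPSp g σ β
  have key : ∃ (g : Cfsg.GSp m F) (σ : F ≃+* F), ∀ x, β x =
      Cfsg.Agent.Lib.Helper18.PSpAut.conjA g (Cfsg.Agent.Lib.Helper18.PSpAut.fieldA σ x) := by
    by_cases hp : p = 2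
    · subst hp
      have hm3 : 3 ≤ m := by
        rcases Nat.lt_or_ge m 3 with h | h
        · exact absurd rfl (h4 (by omega))
        · exact h
      exact Cfsg.Agent.Lib.Helper18.PSpAut.exists_semilinear_of_two hm3 β
    · have h2 : (2 : F) ≠ 0 := by
        intro h
        have h' : ((2 : ℕ) : F) = 0 := by exact_mod_cast h
        rw [CharP.cast_eq_zero_iff F p] at h'
        have hp' : p.Prime := Fact.out
        exact hp ((Nat.prime_dvd_prime_iff_eq hp' Nat.prime_two).1 h')
      exact Cfsg.Agent.Lib.Helper18.PSpAut.exists_semilinear_of_odd p hm h2 β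
  obtain ⟨g, σ, h⟩ := key
  exact ⟨g, σ, g.2, (Cfsg.Agent.Lib.Helper18.PSpAut.isInduced_iff g σ β).2 h⟩

end Cfsg.Agent.S2693
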