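import Cfsg.Statements.S2695
import Cfsg.Agent.Lib.Helper25.AutO18
import Cfsg.Agent.Lib.Helper18.OrthAutP
-- import your own Cfsg.Agent.* helpers here

set_option autoImplicit false
open Cfsg

namespace Cfsg.Agent.S2695

/-- For m ≥ 5 and a finite field F, the automorphism group of PΩ⁺_{2m}(F) (the form Σ xᵢ yᵢ) is generated by the automorphisms induced by the semisimilarities v ↦ g σ(v) of the form (the image of the projective semisimilarity group). The case 2m = 8 is excluded: there triality gives further automorphisms. -/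
theorem result {F : Type*} [Field F] [Fintype F] {m : ℕ} (hm : 5 ≤ m) :
    Cfsg.gammaPOmega F (Cfsg.quadFormPlus m F) = ⊤ := by
  have hn : 7 ≤ Fintype.card (Fin m ⊕ Fin m) := by
    simp; omega
  exact Cfsg.Agent.Lib.Helper18.OrthAut.gammaPOmega_eq_top
    (Cfsg.Agent.Lib.Helper25.Spin.qfOf (Cfsg.Agent.Lib.Helper14.isQF_plus (m := m) (F := F)))
    (Cfsg.Agent.Lib.Helper25.Spin.qfOf_nondeg _) hn
    (fun β u hu0 hu => by
      obtain ⟨u', hu', hu0', h⟩ := Cfsg.Agent.Lib.Helper25.AutO.aut_permutes_RB' _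
        (Cfsg.Agent.Lib.Helper25.Spin.qfOf_nondeg _) hn
        (Cfsg.Agent.Lib.Helper25.AutO.noD4_plus hm) β u hu0 hu
      exact ⟨u', hu0', hu', h⟩)

end Cfsg.Agent.S2695
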