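import Cfsg.Statements.S2698
-- import your own Cfsg.Agent.* helpers here
import Mathlib
import Cfsg.Agent.Lib.Helper18.PSLnFldF

set_option autoImplicit false
open Cfsg

namespace Cfsg.Agent.S2698

/-- Let T = PSL_n(F) be simple over the field F with p^f elements (n ≥ 2; p^f ≥ 4 when n = 2), G = Inndiag(T) the image of PGL_n(F) in Aut(T), and x a field automorphism of T of prime order r. Then r divides f; the centralizer C_G(x) is isomorphic to PGL_n(F₀) for the subfield size |F₀| = p^(f/r); and the G-class of x is the union of exactly gcd(n, (p^f − 1)/(p^(f/r) − 1)) classes under conjugation by T (the inner automorphism group). -/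
theorem result {F : Type*} [Field F] [Fintype F] {p f : ℕ} [Fact p.Prime] (hF : Fintype.card F = p ^ f) (hf : 1 ≤ f) {n : ℕ} (hn : 2 ≤ n) (hs : n = 2 → 4 ≤ Fintype.card F) (x : MulAut (Matrix.ProjectiveSpecialLinearGroup (Fin n) F)) (hx : Cfsg.IsFieldAutClassPSL x) {r : ℕ} (hr : r.Prime) (hxr : orderOf x = r) (F₀ : Type*) [Field F₀] [Fintype F₀] (hF₀ : Fintype.card F₀ = p ^ (f / r)) :
    r ∣ f ∧ Nonempty (↥(Cfsg.inndiagPSL n F ⊓ Subgroup.centralizer {x}) ≃* Matrix.ProjGenLinGroup (Fin n) F₀) ∧ Cfsg.splitClassCount (Cfsg.inndiagPSL n F) (Cfsg.Inn (Matrix.ProjectiveSpecialLinearGroup (Fin n) F)) x = Nat.gcd n ((p ^ f - 1) / (p ^ (f / r) - 1)) := by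
  have : CharP F p := charP_of_card_eq_prime_pow hF
  obtain ⟨α, σ, -, hstd⟩ := hx
  rw [Cfsg.Agent.Lib.Helper18.PSLnFld.isStdField_iff] at hstd
  have hoσ : orderOf (σ : RingAut F) = r := by
    rw [← Cfsg.Agent.Lib.Helper18.PSLnFld.orderOf_fieldAHom p hn σ, ← hstd, ← hxr]
    have e2 : α * x * α⁻¹ = MulAut.conj α x := rfl
    rw [e2, MulEquiv.orderOf_eq]
  obtain ⟨hdvd, ι, hι⟩ := Cfsg.Agent.Lib.Helper18.PSLnFld.exists_fixed_embedding hF σ r hoσ hr.pos
    F₀ hF₀
  have hnormal : (Cfsg.inndiagPSL n F).Normal :=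
    Cfsg.Agent.Lib.Helper18.PSLnFld.inndiag_normal p hn
  refine ⟨hdvd, ?_, ?_⟩
  · obtain ⟨e1⟩ := Cfsg.Agent.Lib.Helper18.PSLnFld.nonempty_centralizer_conj
      (Cfsg.inndiagPSL n F) α x
    rw [hstd, Cfsg.Agent.Lib.Helper18.PSLnFld.inndiag_eq] at e1
    obtain ⟨e2⟩ := Cfsg.Agent.Lib.Helper18.PSLnFld.nonempty_centralizer_equiv hn σ r hoσ hr.pos ι hι
    rw [Cfsg.Agent.Lib.Helper18.PSLnFld.inndiag_eq]
    exact ⟨e1.trans e2⟩
  · have h1 := Cfsg.Agent.Lib.Helper18.PSLnFld.splitClassCount_conj (Cfsg.inndiagPSL n F)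
      (Cfsg.Inn (Matrix.ProjectiveSpecialLinearGroup (Fin n) F)) α x
      (fun h => ⟨fun hh => hnormal.conj_mem h hh α, fun hh => by
        have := hnormal.conj_mem _ hh α⁻¹
        rw [inv_inv] at this
        have e : α⁻¹ * (α * h * α⁻¹) * α = h := by group
        rwa [e] at this⟩)
      (fun k => ⟨fun hk => (Cfsg.innNormal _).conj_mem k hk α, fun hk => by
        have := (Cfsg.innNormal _).conj_mem _ hk α⁻¹
        rw [inv_inv] at this
        have e : α⁻¹ * (α * k * α⁻¹) * α = k := by group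
        rwa [e] at this⟩)
    rw [← h1, hstd, Cfsg.Agent.Lib.Helper18.PSLnFld.inndiag_eq,
      Cfsg.Agent.Lib.Helper18.PSLnFld.splitClassCount_field hn σ r hoσ hr.pos ι hι, hF, hF₀]

end Cfsg.Agent.S2698
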