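import Cfsg.Statements.S2699
import Cfsg.Agent.Lib.Helper25.GraphInv8
import Cfsg.Agent.Lib.Helper14.OrthOdd
-- import your own Cfsg.Agent.* helpers here

set_option autoImplicit false
open Cfsg

namespace Cfsg.Agent.S2699

set_option maxHeartbeats 1600000

/-- Let T = PSL_n(F) over the field with p^f elements with n ≥ 3 odd, n = 2m + 1, and G = Inndiag(T) the image of PGL_n(F). Every involutory graph automorphism γ of T (an inner-diagonal automorphism followed by inverse-transpose, of order 2) has centralizer C_G(γ) isomorphic to the projective conformal orthogonal group of the form x₀² + Σ xᵢ yᵢ in dimension n (for q even this group is isomorphic to Sp_{n−1}(q)), and any two involutory graph automorphisms are G-conjugate. -/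
theorem result {F : Type*} [Field F] [Fintype F] {p f : ℕ} [Fact p.Prime] (hF : Fintype.card F = p ^ f) (hf : 1 ≤ f) {n : ℕ} (hn : 3 ≤ n) {m : ℕ} (hnm : n = 2 * m + 1) (γ γ' : MulAut (Matrix.ProjectiveSpecialLinearGroup (Fin n) F)) (hγ : Cfsg.IsGraphAutClassPSL γ) (hγ2 : orderOf γ = 2) (hγ' : Cfsg.IsGraphAutClassPSL γ') (hγ'2 : orderOf γ' = 2) :
    Nonempty (↥(Cfsg.inndiagPSL n F ⊓ Subgroup.centralizer {γ}) ≃* Cfsg.PGO F (Cfsg.quadFormOdd m F)) ∧ Cfsg.IsConjUnder (Cfsg.inndiagPSL n F) γ γ' := by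
  obtain ⟨M, rfl⟩ := Cfsg.Agent.Lib.Helper25.GraphInv.exists_tauG_of_graph γ hγ
  obtain ⟨M', rfl⟩ := Cfsg.Agent.Lib.Helper25.GraphInv.exists_tauG_of_graph γ' hγ'
  have hn2 : 2 ≤ n := by omega
  have hodd : Odd n := ⟨m, hnm⟩
  by_cases h2 : (2 : F) = 0
  · haveI : CharP F 2 := CharTwo.of_one_ne_zero_of_two_eq_zero one_ne_zero h2
    have hsym : ∀ N : GL (Fin n) F,
        orderOf (Cfsg.Agent.Lib.Helper25.GraphInv.tauG N) = 2 → (N.1).transpose = N.1 := by
      intro N hN
      rcases Cfsg.Agent.Lib.Helper25.GraphInv.transpose_eq_of_orderOf hn2 N hN with h | h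
      · exact h
      · rw [h]
        ext i j
        rw [Matrix.neg_apply, CharTwo.neg_eq]
    exact ⟨Cfsg.Agent.Lib.Helper25.GraphInv.nonempty_centralizer_char2_odd hn2 hnm M (hsym M hγ2),
      Cfsg.Agent.Lib.Helper25.GraphInv.conj_char2_odd hnm M M' (hsym M hγ2) (hsym M' hγ'2)⟩
  · have hsym : ∀ N : GL (Fin n) F,
        orderOf (Cfsg.Agent.Lib.Helper25.GraphInv.tauG N) = 2 → (N.1).transpose = N.1 := by
      intro N hN
      rcases Cfsg.Agent.Lib.Helper25.GraphInv.transpose_eq_of_orderOf hn2 N hN with h | h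
      · exact h
      · exact (Cfsg.Agent.Lib.Helper25.GraphInv.not_skew_of_odd h2 hodd N h).elim
    refine ⟨?_, Cfsg.Agent.Lib.Helper25.GraphInv.conj_of_sym_odd hn2 h2 hodd M M' (hsym M hγ2)
      (hsym M' hγ'2)⟩
    exact Cfsg.Agent.Lib.Helper25.GraphInv.nonempty_centralizer_sym_odd hn2 h2
      (Cfsg.Agent.Lib.Helper25.Spin.qfOf (Cfsg.Agent.Lib.Helper14.isQF_odd (F := F) (m := m) h2))
      (Cfsg.Agent.Lib.Helper25.Spin.qfOf_nondeg _)
      (by simp only [Fintype.card_sum, Fintype.card_fin, Fintype.card_unit]; omega) hodd M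
      (hsym M hγ2)

end Cfsg.Agent.S2699
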