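import Cfsg.Statements.S2700
import Cfsg.Agent.Lib.Helper25.GraphInv4
-- import your own Cfsg.Agent.* helpers here

set_option autoImplicit false
open Cfsg

namespace Cfsg.Agent.S2700

set_option maxHeartbeats 1600000

/-- Let T = PSL_n(F) over a finite field of odd order with n = 2m ≥ 4 even, and G = Inndiag(T) the image of PGL_n(F). The involutory graph automorphisms of T fall into exactly three G-classes, with representatives γ₁, γ₂, γ₃ whose centralizers in G are isomorphic respectively to the projective conformal symplectic group PGSp_n(F), the projective conformal orthogonal group of the plus-type form Σ xᵢ yᵢ, and that of a minus-type form Σ xᵢ yᵢ + z₁² + a z₁ z₂ + b z₂² (anisotropic binary part) in dimension n. -/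
theorem result {F : Type*} [Field F] [Fintype F] (hodd : Odd (Fintype.card F)) {n m : ℕ} (hm : 2 ≤ m) (hnm : n = 2 * m) :
    ∃ (γ₁ γ₂ γ₃ : MulAut (Matrix.ProjectiveSpecialLinearGroup (Fin n) F)) (a b : F), (∀ z₁ z₂ : F, z₁ ^ 2 + a * z₁ * z₂ + b * z₂ ^ 2 = 0 → z₁ = 0 ∧ z₂ = 0) ∧ Cfsg.IsGraphAutClassPSL γ₁ ∧ orderOf γ₁ = 2 ∧ Cfsg.IsGraphAutClassPSL γ₂ ∧ orderOf γ₂ = 2 ∧ Cfsg.IsGraphAutClassPSL γ₃ ∧ orderOf γ₃ = 2 ∧ ¬ Cfsg.IsConjUnder (Cfsg.inndiagPSL n F) γ₁ γ₂ ∧ ¬ Cfsg.IsConjUnder (Cfsg.inndiagPSL n F) γ₁ γ₃ ∧ ¬ Cfsg.IsConjUnder (Cfsg.inndiagPSL n F) γ₂ γ₃ ∧ (∀ γ : MulAut (Matrix.ProjectiveSpecialLinearGroup (Fin n) F), Cfsg.IsGraphAutClassPSL γ → orderOf γ = 2 → Cfsg.IsConjUnder (Cfsg.inndiagPSL n F) γ₁ γ ∨ Cfsg.IsConjUnder (Cfsg.inndiagPSL n F) γ₂ γ ∨ Cfsg.IsConjUnder (Cfsg.inndiagPSL n F) γ₃ γ) ∧ Nonempty (↥(Cfsg.inndiagPSL n F ⊓ Subgroup.centralizer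 {γ₁}) ≃* Cfsg.PGSp m F) ∧ Nonempty (↥(Cfsg.inndiagPSL n F ⊓ Subgroup.centralizer {γ₂}) ≃* Cfsg.PGO F (Cfsg.quadFormPlus m F)) ∧ Nonempty (↥(Cfsg.inndiagPSL n F ⊓ Subgroup.centralizer {γ₃}) ≃* Cfsg.PGO F (Cfsg.quadFormMinus (m - 1) F a b)) := by
  subst hnm
  have h2 := Cfsg.Agent.Lib.Helper25.Spin.two_ne_zero_of_odd_card hodd
  have hn2 : 2 ≤ 2 * m := by omega
  have hn3 : 3 ≤ 2 * m := by omega
  have heven : Even (2 * m) := ⟨m, by ring⟩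
  obtain ⟨ν, hν⟩ := FiniteField.exists_nonsquare (Cfsg.Agent.Lib.Helper25.Spin.ringChar_ne_two h2)
  have hν0 : ν ≠ 0 := by
    rintro rfl
    exact hν ⟨0, by simp⟩
  have hab : ∀ z₁ z₂ : F, z₁ ^ 2 + 0 * z₁ * z₂ + (-ν) * z₂ ^ 2 = 0 → z₁ = 0 ∧ z₂ = 0 := by
    intro z₁ z₂ h
    have h' : z₁ ^ 2 = ν * z₂ ^ 2 := by linear_combination h
    by_cases hz : z₂ = 0
    · rw [hz] at h'
      refine ⟨?_, hz⟩
      have : z₁ ^ 2 = 0 := by rw [h']; ring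
      exact pow_eq_zero_iff (by norm_num) |>.1 this
    · exfalso
      apply hν
      refine ⟨z₁ / z₂, ?_⟩
      field_simp
      linear_combination -h'
  have hDns : ¬ IsSquare ((0 : F) ^ 2 - 4 * (-ν)) :=
    Cfsg.Agent.Lib.Helper25.Spin.not_isSquare_disc h2 hab
  have hD : (0 : F) ^ 2 - 4 * (-ν) ≠ 0 := by
    intro h
    rw [h] at hDns
    exact hDns ⟨0, by simp⟩
  have hcardS : Fintype.card (Fin m ⊕ Fin m) = Fintype.card (Fin (2 * m)) := by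
    simp only [Fintype.card_sum, Fintype.card_fin]
    ring
  obtain ⟨P, P', h1, h1', -⟩ := Cfsg.Agent.Lib.Helper25.GraphInv.exists_mat_of_linearEquiv
    (LinearEquiv.funCongrLeft F F (Fintype.equivOfCardEq hcardS))
  obtain ⟨M₁, hM₁, hM₁s⟩ := Cfsg.Agent.Lib.Helper25.GraphInv.exists_skew m P P' h1 h1'
  have hd2 : ((-1 : F)) ^ m ≠ 0 := pow_ne_zero _ (neg_ne_zero.2 one_ne_zero)
  obtain ⟨M₂, hM₂s, hM₂d⟩ := Cfsg.Agent.Lib.Helper25.GraphInv.exists_sym_of_det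
    (n := 2 * m) (by omega) ((-1 : F) ^ m) hd2
  obtain ⟨M₃, hM₃s, hM₃d⟩ := Cfsg.Agent.Lib.Helper25.GraphInv.exists_sym_of_det
    (n := 2 * m) (by omega) ((-1 : F) ^ m * ((0 : F) ^ 2 - 4 * (-ν))) (mul_ne_zero hd2 hD)
  have hsq1 : (-1 : F) ^ m * (-1) ^ m = 1 := by
    rw [← mul_pow]
    norm_num
  refine ⟨Cfsg.Agent.Lib.Helper25.GraphInv.tauG M₁, Cfsg.Agent.Lib.Helper25.GraphInv.tauG M₂,
    Cfsg.Agent.Lib.Helper25.GraphInv.tauG M₃, 0, -ν, hab,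
    Cfsg.Agent.Lib.Helper25.GraphInv.isGraph_tauG hn3 M₁,
    Cfsg.Agent.Lib.Helper25.GraphInv.orderOf_tauG hn3 M₁ (Or.inr hM₁s),
    Cfsg.Agent.Lib.Helper25.GraphInv.isGraph_tauG hn3 M₂,
    Cfsg.Agent.Lib.Helper25.GraphInv.orderOf_tauG hn3 M₂ (Or.inl hM₂s),
    Cfsg.Agent.Lib.Helper25.GraphInv.isGraph_tauG hn3 M₃,
    Cfsg.Agent.Lib.Helper25.GraphInv.orderOf_tauG hn3 M₃ (Or.inl hM₃s),
    Cfsg.Agent.Lib.Helper25.GraphInv.not_conj_skew_sym hn2 h2 M₁ M₂ hM₁s hM₂s,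
    Cfsg.Agent.Lib.Helper25.GraphInv.not_conj_skew_sym hn2 h2 M₁ M₃ hM₁s hM₃s, ?_, ?_, ?_, ?_, ?_⟩
  · intro h
    have h3 := Cfsg.Agent.Lib.Helper25.GraphInv.isSquare_det_of_conj hn2 heven M₂ M₃ h
    rw [hM₂d, hM₃d, ← mul_assoc, hsq1, one_mul] at h3
    exact hDns h3
  · intro γ hγ hγ2
    exact Cfsg.Agent.Lib.Helper25.GraphInv.classify h2 hn3 M₁ M₂ M₃ hM₁s hM₂s hM₃s _ hDns (by rw [hM₃d, hM₂d]) γ hγ hγ2
  · exact Cfsg.Agent.Lib.Helper25.GraphInv.nonempty_centralizer_symp hn2 m P P' h1 h1' M₁ hM₁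
  · have h3 := Cfsg.Agent.Lib.Helper25.GraphInv.nonempty_centralizer_sym hn2 h2
      (Cfsg.Agent.Lib.Helper25.MaxTS.plusQ m (F := F))
      (Cfsg.Agent.Lib.Helper25.MaxTS.plusQ_nondegenerate m)
      (n := 2 * m) (by simp only [Fintype.card_sum, Fintype.card_fin]; ring) heven M₂ hM₂s
      (by
        rw [Cfsg.Agent.Lib.Helper25.InvTrans.gram_plus,
          Cfsg.Agent.Lib.Helper19.OrthoType.det_swapB, hM₂d, hsq1]
        exact ⟨1, by simp⟩)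
    have e : (⇑(Cfsg.Agent.Lib.Helper25.MaxTS.plusQ m (F := F)) : (Fin m ⊕ Fin m → F) → F) =
        Cfsg.quadFormPlus m F := by
      funext w
      rw [Cfsg.Agent.Lib.Helper25.MaxTS.plusQ_apply]
    rw [e] at h3
    exact h3
  · have hm1 : m - 1 + 1 = m := by omega
    exact Cfsg.Agent.Lib.Helper25.GraphInv.nonempty_centralizer_sym hn2 h2
      (Cfsg.Agent.Lib.Helper25.Spin.qfOf
        (Cfsg.Agent.Lib.Helper14.OrthMinus.isQF_minus (F := F) (n := m - 1) hD))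
      (Cfsg.Agent.Lib.Helper25.Spin.qfOf_nondeg _)
      (n := 2 * m) (by simp only [Fintype.card_sum, Fintype.card_fin]; omega) heven M₃ hM₃s
      (by
        rw [Cfsg.Agent.Lib.Helper25.Spin.det_gram_minus hD, hm1, hM₃d]
        exact ⟨(-1 : F) ^ m * ((0 : F) ^ 2 - 4 * (-ν)), rfl⟩)

end Cfsg.Agent.S2700
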