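import Cfsg.Statements.S2702
import Cfsg.Agent.Lib.Helper25.GraphInv17
-- import your own Cfsg.Agent.* helpers here

set_option autoImplicit false
open Cfsg

namespace Cfsg.Agent.S2702

open Matrix Cfsg.Agent.Lib.Helper25.GraphInv Cfsg.Agent.Lib.Helper18.PSLnFld

/-- Let T = PSL_n(F) over the field with q = p^f elements, n ≥ 3, G = Inndiag(T) the image of PGL_n(F), and γ an involutory graph automorphism of T. The G-class of γ is the union of exactly c T-classes, where: if n is even and q is odd, c = gcd(n/2, q − 1) when C_G(γ) is isomorphic to the projective conformal symplectic group PGSp_n(F) (symplectic type) and c = gcd(n, q − 1)/2 otherwise; and c = gcd(n, q − 1) when n is odd or q is even. -/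
theorem result {F : Type*} [Field F] [Fintype F] {p f : ℕ} [Fact p.Prime] (hF : Fintype.card F = p ^ f) (hf : 1 ≤ f) {n : ℕ} (hn : 3 ≤ n) (γ : MulAut (Matrix.ProjectiveSpecialLinearGroup (Fin n) F)) (hγ : Cfsg.IsGraphAutClassPSL γ) (hγ2 : orderOf γ = 2) :
    ((Even n ∧ Odd p ∧ Nonempty (↥(Cfsg.inndiagPSL n F ⊓ Subgroup.centralizer {γ}) ≃* Cfsg.PGSp (n / 2) F)) → Cfsg.splitClassCount (Cfsg.inndiagPSL n F) (Cfsg.Inn (Matrix.ProjectiveSpecialLinearGroup (Fin n) F)) γ = Nat.gcd (n / 2) (p ^ f - 1)) ∧ ((Even n ∧ Odd p ∧ ¬ Nonempty (↥(Cfsg.inndiagPSL n F ⊓ Subgroup.centralizer {γ}) ≃* Cfsg.PGSp (n / 2) F)) → Cfsg.splitClassCount (Cfsg.inndiagPSL n F) (Cfsg.Inn (Matrix.ProjectiveSpecialLinearGroup (Fin n) F)) γ = Nat.gcd n (p ^ f - 1) / 2) ∧ (¬ (Even n ∧ Odd p) → Cfsg.splitClassCount (Cfsg.inndiagPSL n F) (Cfsg.Inn (Matrix.ProjectiveSpecialLinearGroup (Fin n) F)) γ = Nat.gcd n (p ^ f - 1)) := by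
  have hn2 : 2 ≤ n := by omega
  obtain ⟨M, rfl⟩ := exists_tauG_of_graph γ hγ
  rw [splitClassCount_tauG hn2 M]
  have hq : Fintype.card F - 1 = p ^ f - 1 := by rw [hF]
  have hp : Nat.Prime p := Fact.out
  have hp0 : ((p : ℕ) : F) = 0 := by
    have h1 : ((p ^ f : ℕ) : F) = 0 := by
      rw [← hF]
      exact Nat.cast_card_eq_zero F
    rw [Nat.cast_pow] at h1
    exact pow_eq_zero_iff (by omega) |>.1 h1
  by_cases hE : Even n ∧ Odd p
  · obtain ⟨hev, hodd⟩ := hE
    have h2 : (2 : F) ≠ 0 := by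
      intro h
      obtain ⟨k, hk⟩ := hodd
      rw [hk] at hp0
      push_cast at hp0
      rw [h, zero_mul, zero_add] at hp0
      exact one_ne_zero hp0
    obtain ⟨m, hm⟩ := hev
    have hnm : n = 2 * m := by omega
    have hm2 : 2 ≤ m := by omega
    have hdiv : n / 2 = m := by omega
    have hevn : Even n := ⟨m, hm⟩
    rcases transpose_eq_of_orderOf hn2 M hγ2 with hM | hM
    · -- symmetric type
      have hnot := not_pgsp_of_sym h2 hnm hm2 M hM
      have hidx : (detSub M).index = Nat.gcd n (p ^ f - 1) / 2 := by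
        rw [detSub_eq_of_sym h2 hnm (by omega) M hM, index_neg_one_sup h2 m, hq]
        have hoddq : Odd (p ^ f) := hodd.pow
        obtain ⟨t, ht⟩ := hoddq
        have e1 : p ^ f - 1 = 2 * t := by omega
        rw [e1, hnm, Nat.gcd_mul_left, Nat.mul_div_cancel_left _ (by norm_num : 0 < 2),
          Nat.mul_div_cancel_left _ (by norm_num : 0 < 2), Nat.gcd_comm]
      refine ⟨fun h => ?_, fun _ => hidx, fun h => absurd ⟨hevn, hodd⟩ h⟩
      have h3 := h.2.2
      rw [hdiv] at h3
      exact absurd h3 hnot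
    · -- symplectic type
      have halt : ∀ v, v ⬝ᵥ M.1 *ᵥ v = 0 := by
        intro x
        have h3 : x ⬝ᵥ M.1 *ᵥ x = -(x ⬝ᵥ M.1 *ᵥ x) := by
          nth_rewrite 1 [Matrix.dotProduct_mulVec, ← Matrix.mulVec_transpose, hM,
            Matrix.neg_mulVec, neg_dotProduct, dotProduct_comm]
          rfl
        have h4 : (2 : F) * (x ⬝ᵥ M.1 *ᵥ x) = 0 := by linear_combination h3
        exact (mul_eq_zero.1 h4).resolve_left h2
      have hdet : M.1.det ≠ 0 := Matrix.GeneralLinearGroup.det_ne_zero M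
      have hpg : Nonempty (↥(Cfsg.inndiagPSL n F ⊓ Subgroup.centralizer {tauG M}) ≃*
          Cfsg.PGSp m F) := by
        obtain ⟨P, P', h1, h1', hMeq⟩ := exists_canon_even_alt hnm M.1 hdet halt
        exact nonempty_centralizer_symp hn2 m P P' h1 h1' M hMeq
      have hidx : (detSub M).index = Nat.gcd m (p ^ f - 1) := by
        unfold detSub
        rw [map_det_simG_alt hnm M halt, range_pow_sup, index_powRange, hq, hnm,
          Nat.gcd_eq_right (dvd_mul_left m 2)]
      refine ⟨fun _ => ?_, fun h => ?_, fun h => absurd ⟨hevn, hodd⟩ h⟩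
      · rw [hdiv]
        exact hidx
      · have h3 := h.2.2
        rw [hdiv] at h3
        exact absurd hpg h3
  · have hidx : (detSub M).index = Nat.gcd n (p ^ f - 1) := by
      rcases not_and_or.1 hE with h | h
      · rw [detSub_eq_of_odd (Nat.not_even_iff_odd.1 h) M, index_powRange, hq]
      · have hp2 : p = 2 := by
          rcases hp.eq_two_or_odd' with h3 | h3
          · exact h3
          · exact absurd h3 h
        rw [hp2] at hp0
        have h20 : (2 : F) = 0 := by exact_mod_cast hp0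
        haveI : CharP F 2 := CharTwo.of_one_ne_zero_of_two_eq_zero one_ne_zero h20
        rw [detSub_eq_of_char2 M, index_powRange, hq]
    exact ⟨fun h => absurd ⟨h.1, h.2.1⟩ hE, fun h => absurd ⟨h.1, h.2.1⟩ hE, fun _ => hidx⟩

end Cfsg.Agent.S2702
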