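import Cfsg.Statements.S2703
import Cfsg.Agent.Lib.Helper25.InvTrans2
-- import your own Cfsg.Agent.* helpers here

set_option autoImplicit false
open Cfsg

namespace Cfsg.Agent.S2703

set_option maxHeartbeats 1600000

/-- Let T = PSL_n(F) over the field with q elements, q odd, n = 2m ≥ 4 even, and ι the inverse-transpose automorphism. Its centralizer in G = Inndiag(T) (the image of PGL_n(F)) is isomorphic to the projective conformal orthogonal group of the plus-type form Σ xᵢ yᵢ in dimension n when n(q − 1)/4 is even, and to that of a minus-type form (Σ xᵢ yᵢ + z₁² + a z₁ z₂ + b z₂² with anisotropic binary part) when n(q − 1)/4 is odd. -/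
theorem result {F : Type*} [Field F] [Fintype F] (hodd : Odd (Fintype.card F)) {n m : ℕ} (hm : 2 ≤ m) (hnm : n = 2 * m) (ι : MulAut (Matrix.ProjectiveSpecialLinearGroup (Fin n) F)) (hι : Cfsg.IsInverseTransposeAutPSL ι) :
    (Even (n * (Fintype.card F - 1) / 4) → Nonempty (↥(Cfsg.inndiagPSL n F ⊓ Subgroup.centralizer {ι}) ≃* Cfsg.PGO F (Cfsg.quadFormPlus m F))) ∧ (¬ Even (n * (Fintype.card F - 1) / 4) → ∃ a b : F, (∀ z₁ z₂ : F, z₁ ^ 2 + a * z₁ * z₂ + b * z₂ ^ 2 = 0 → z₁ = 0 ∧ z₂ = 0) ∧ Nonempty (↥(Cfsg.inndiagPSL n F ⊓ Subgroup.centralizer {ι}) ≃* Cfsg.PGO F (Cfsg.quadFormMinus (m - 1) F a b))) := by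
  subst hnm
  have h2 := Cfsg.Agent.Lib.Helper25.Spin.two_ne_zero_of_odd_card hodd
  have hn : 2 ≤ 2 * m := by omega
  obtain ⟨k, hk⟩ := hodd
  have harith : 2 * m * (Fintype.card F - 1) / 4 = m * k := by
    rw [hk]
    have e : 2 * m * (2 * k + 1 - 1) = 4 * (m * k) := by
      rw [Nat.add_sub_cancel]
      ring
    rw [e, Nat.mul_div_cancel_left _ (by norm_num : 0 < 4)]
  constructor
  · intro hE
    rw [harith, Nat.even_mul] at hE
    have hsq : IsSquare ((-1 : F) ^ m) := by
      rcases hE with hm' | hk'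
      · rw [hm'.neg_one_pow]
        exact ⟨1, by simp⟩
      · have h3 : IsSquare (-1 : F) := by
          rw [FiniteField.isSquare_neg_one_iff, hk]
          obtain ⟨j, hj⟩ := hk'
          omega
        exact h3.pow m
    obtain ⟨P, P', h1, h1', hP⟩ := Cfsg.Agent.Lib.Helper25.InvTrans.exists_change_of_dot h2
      (Cfsg.Agent.Lib.Helper25.MaxTS.plusQ m (F := F))
      (Cfsg.Agent.Lib.Helper25.MaxTS.plusQ_nondegenerate m)
      (n := 2 * m) (by simp only [Fintype.card_sum, Fintype.card_fin]; ring) ⟨m, by ring⟩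
      (by
        rw [Cfsg.Agent.Lib.Helper25.InvTrans.gram_plus,
          Cfsg.Agent.Lib.Helper19.OrthoType.det_swapB]
        exact hsq)
    exact Cfsg.Agent.Lib.Helper25.InvTrans.nonempty_centralizer_equiv hn h2
      (Cfsg.quadFormPlus m F) P P' h1 h1' 1 one_ne_zero
      (fun w => by rw [one_mul, ← hP w, Cfsg.Agent.Lib.Helper25.MaxTS.plusQ_apply]) ι hι
  · intro hE
    rw [harith, Nat.even_mul] at hE
    push Not at hE
    obtain ⟨hm', hk'⟩ := hE
    rw [Nat.not_even_iff_odd] at hm' hk'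
    have hns : ¬ IsSquare (-1 : F) := by
      rw [FiniteField.isSquare_neg_one_iff, hk]
      obtain ⟨j, hj⟩ := hk'
      omega
    refine ⟨0, 1, ?_, ?_⟩
    · intro z₁ z₂ h
      have h' : z₁ ^ 2 + z₂ ^ 2 = 0 := by linear_combination h
      by_cases hz : z₂ = 0
      · rw [hz] at h'
        refine ⟨?_, hz⟩
        have : z₁ ^ 2 = 0 := by linear_combination h'
        exact pow_eq_zero_iff (by norm_num) |>.1 this
      · exfalso
        apply hns
        refine ⟨z₁ / z₂, ?_⟩
        field_simp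
        linear_combination -h'
    · have hD : (0 : F) ^ 2 - 4 * 1 ≠ 0 := by
        have h4 : (4 : F) = 2 * 2 := by norm_num
        rw [h4]
        intro h
        have : (2 : F) * 2 = 0 := by linear_combination -h
        rcases mul_eq_zero.1 this with h | h <;> exact h2 h
      have hm1 : m - 1 + 1 = m := by omega
      obtain ⟨P, P', h1, h1', hP⟩ := Cfsg.Agent.Lib.Helper25.InvTrans.exists_change_of_dot h2
        (Cfsg.Agent.Lib.Helper25.Spin.qfOf
          (Cfsg.Agent.Lib.Helper14.OrthMinus.isQF_minus (F := F) (n := m - 1) hD))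
        (Cfsg.Agent.Lib.Helper25.Spin.qfOf_nondeg _)
        (n := 2 * m) (by simp only [Fintype.card_sum, Fintype.card_fin]; omega) ⟨m, by ring⟩
        (by
          rw [Cfsg.Agent.Lib.Helper25.Spin.det_gram_minus hD, hm1, hm'.neg_one_pow]
          exact ⟨2, by ring⟩)
      exact Cfsg.Agent.Lib.Helper25.InvTrans.nonempty_centralizer_equiv hn h2
        (Cfsg.quadFormMinus (m - 1) F 0 1) P P' h1 h1' 1 one_ne_zero
        (fun w => by rw [one_mul, ← hP w]; rfl) ι hι

end Cfsg.Agent.S2703
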