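import Cfsg.Statements.S2704
-- import your own Cfsg.Agent.* helpers here
import Mathlib
import Cfsg.Agent.Lib.Helper18.PSLnFldG

set_option autoImplicit false
open Cfsg

namespace Cfsg.Agent.S2704

/-- Let T = PSL_n(F) over the field F with p^f elements, n ≥ 3, and G = Inndiag(T) the image of PGL_n(F). If x is an involutory graph-field automorphism of T then f is even; x is G-conjugate to every other involutory graph-field automorphism; C_G(x) is isomorphic to the projective general unitary group PGU_n(q₀) with q₀² = p^f, realised over F itself through the Hermitian form Σ uᵢ vᵢ^{q₀}; and the G-class of x is the union of exactly gcd(n, q₀ − 1) T-classes. -/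
theorem result {F : Type*} [Field F] [Fintype F] {p f : ℕ} [Fact p.Prime] (hF : Fintype.card F = p ^ f) (hf : 1 ≤ f) {n : ℕ} (hn : 3 ≤ n) (x : MulAut (Matrix.ProjectiveSpecialLinearGroup (Fin n) F)) (hx : Cfsg.IsGraphFieldAutClassPSL x) (hx2 : orderOf x = 2) :
    Even f ∧ (∀ y : MulAut (Matrix.ProjectiveSpecialLinearGroup (Fin n) F), Cfsg.IsGraphFieldAutClassPSL y → orderOf y = 2 → Cfsg.IsConjUnder (Cfsg.inndiagPSL n F) x y) ∧ Nonempty (↥(Cfsg.inndiagPSL n F ⊓ Subgroup.centralizer {x}) ≃* Cfsg.PGU n F (p ^ (f / 2))) ∧ Cfsg.splitClassCount (Cfsg.inndiagPSL n F) (Cfsg.Inn (Matrix.ProjectiveSpecialLinearGroup (Fin n) F)) x = Nat.gcd n (p ^ (f / 2) - 1) := by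
  have : CharP F p := charP_of_card_eq_prime_pow hF
  have hn2 : 2 ≤ n := by omega
  obtain ⟨-, α, σ, hσ, hstd⟩ := Cfsg.Agent.Lib.Helper18.PSLnFld.gf_class_std p hn x hx
    Nat.prime_two hx2
  obtain ⟨hev, hσa⟩ := Cfsg.Agent.Lib.Helper18.PSLnFld.involution_apply hF σ hσ
  have hnormal : (Cfsg.inndiagPSL n F).Normal :=
    Cfsg.Agent.Lib.Helper18.PSLnFld.inndiag_normal p hn2
  have hq : Fintype.card F = (p ^ (f / 2)) ^ 2 := by
    rw [hF, ← pow_mul, Nat.div_mul_cancel hev.two_dvd]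
  have hq0 : 2 ≤ p ^ (f / 2) := by
    have hp := (Fact.out : p.Prime)
    obtain ⟨k, hk⟩ := hev
    have hk0 : 0 < f / 2 := by omega
    calc 2 ≤ p := hp.two_le
      _ = p ^ 1 := (pow_one p).symm
      _ ≤ p ^ (f / 2) := Nat.pow_le_pow_right hp.pos hk0
  refine ⟨hev, ?_, ?_, ?_⟩
  · intro y hy hy2
    exact Cfsg.Agent.Lib.Helper18.PSLnFld.gf_involutions_conj p hn x y hx hx2 hy hy2
  · obtain ⟨e1⟩ := Cfsg.Agent.Lib.Helper18.PSLnFld.nonempty_centralizer_conj
      (Cfsg.inndiagPSL n F) α x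
    rw [hstd, Cfsg.Agent.Lib.Helper18.PSLnFld.inndiag_eq] at e1
    obtain ⟨e2⟩ := Cfsg.Agent.Lib.Helper18.PSLnFld.nonempty_centralizer_equiv_U hn2 σ hσ
      (p ^ (f / 2)) hσa
    rw [Cfsg.Agent.Lib.Helper18.PSLnFld.inndiag_eq]
    exact ⟨e1.trans e2⟩
  · have h1 := Cfsg.Agent.Lib.Helper18.PSLnFld.splitClassCount_conj (Cfsg.inndiagPSL n F)
      (Cfsg.Inn (Matrix.ProjectiveSpecialLinearGroup (Fin n) F)) α x
      (fun h => ⟨fun hh => hnormal.conj_mem h hh α, fun hh => by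
        have := hnormal.conj_mem _ hh α⁻¹
        rw [inv_inv] at this
        have e : α⁻¹ * (α * h * α⁻¹) * α = h := by group
        rwa [e] at this⟩)
      (fun k => ⟨fun hk => (Cfsg.innNormal _).conj_mem k hk α, fun hk => by
        have := (Cfsg.innNormal _).conj_mem _ hk α⁻¹
        rw [inv_inv] at this
        have e : α⁻¹ * (α * k * α⁻¹) * α = k := by group
        rwa [e] at this⟩)
    rw [← h1, hstd, Cfsg.Agent.Lib.Helper18.PSLnFld.inndiag_eq,
      Cfsg.Agent.Lib.Helper18.PSLnFld.splitClassCount_gf hn2 σ hσ (p ^ (f / 2)) hσa hq hq0]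

end Cfsg.Agent.S2704
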