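import Cfsg.Statements.S2705
-- import your own Cfsg.Agent.* helpers here
import Mathlib
import Cfsg.Agent.Lib.Helper18.PSUFldC

set_option autoImplicit false
open Cfsg

namespace Cfsg.Agent.S2705

/-- Let T = PSU_n(q) be simple (n ≥ 3, (n, q) ≠ (3, 2), q = p^f), realised over the field F with q² elements, G = Inndiag(T) the image of PGU_n(q) in Aut(T), and x a field automorphism of T (conjugate to a standard field automorphism of odd order) of odd prime order r. Then r divides f; C_G(x) is isomorphic to PGU_n(q₀) with q₀ = p^(f/r), realised over a field F₀ with q₀² elements; and the G-class of x is the union of exactly gcd(n, (q + 1)/(q₀ + 1)) T-classes. -/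
theorem result {F : Type*} [Field F] [Fintype F] {p f q : ℕ} [Fact p.Prime] (hq : q = p ^ f) (hf : 1 ≤ f) (hF : Fintype.card F = q ^ 2) {n : ℕ} (hn : 3 ≤ n) (hs : ¬ (n = 3 ∧ q = 2)) (x : MulAut (Cfsg.PSU n F q)) (hx : Cfsg.IsFieldAutClassPSU x) {r : ℕ} (hr : r.Prime) (hro : Odd r) (hxr : orderOf x = r) (F₀ : Type*) [Field F₀] [Fintype F₀] (hF₀ : Fintype.card F₀ = p ^ (2 * (f / r))) :
    r ∣ f ∧ Nonempty (↥(Cfsg.inndiagPSU n F q ⊓ Subgroup.centralizer {x}) ≃* Cfsg.PGU n F₀ (p ^ (f / r))) ∧ Cfsg.splitClassCount (Cfsg.inndiagPSU n F q) (Cfsg.Inn (Cfsg.PSU n F q)) x = Nat.gcd n ((q + 1) / (p ^ (f / r) + 1)) := by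
  classical
  obtain ⟨α, σ, hoσ, -, -, hstd⟩ := Cfsg.Agent.Lib.Helper18.PSUFld.field_class_std hF hn hs x hx
  rw [hxr] at hoσ
  obtain ⟨hdvd, ι, hι, hιq⟩ :=
    Cfsg.Agent.Lib.Helper18.PSUFld.exists_subfield_data hq hF σ r hoσ hro F₀ hF₀
  have hF₀' : Fintype.card F₀ = (p ^ (f / r)) ^ 2 := by
    rw [hF₀, ← pow_mul, mul_comm]
  obtain ⟨ρ, hρ⟩ : ∃ ρ : RingAut F, ∀ a, ρ a = a ^ q :=
    ⟨Cfsg.Agent.Lib.Helper5.HermBridge.frobQ hF,
      fun a => Cfsg.Agent.Lib.Helper5.HermBridge.frobQ_apply hF a⟩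
  obtain ⟨ρ₀, hρ₀⟩ : ∃ ρ₀ : RingAut F₀, ∀ a, ρ₀ a = a ^ (p ^ (f / r)) :=
    ⟨Cfsg.Agent.Lib.Helper5.HermBridge.frobQ hF₀',
      fun a => Cfsg.Agent.Lib.Helper5.HermBridge.frobQ_apply hF₀' a⟩
  have hρ₀o : orderOf ρ₀ = 2 := Cfsg.Agent.Lib.Helper25.PSUG.orderOf_frob hF₀' ρ₀ hρ₀
  have hιρ : ∀ b, ρ (ι b) = ι (ρ₀ b) := by
    intro b
    rw [hρ, hρ₀, hιq]
  have hnormal : (Cfsg.inndiagPSU n F q).Normal :=
    Cfsg.Agent.Lib.Helper18.PSUFld.inndiagU_normal hF hn hs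
  have hqq : q = (p ^ (f / r)) ^ r := by
    rw [hq, ← pow_mul, Nat.div_mul_cancel hdvd]
  have hdvd' : p ^ (f / r) + 1 ∣ q + 1 := by
    have := Odd.nat_add_dvd_pow_add_pow (p ^ (f / r)) 1 hro
    rw [one_pow, ← hqq] at this
    exact this
  refine ⟨hdvd, ?_, ?_⟩
  · obtain ⟨e1⟩ := Cfsg.Agent.Lib.Helper18.PSLnFld.nonempty_centralizer_conj
      (Cfsg.inndiagPSU n F q) α x
    rw [hstd] at e1
    obtain ⟨e2⟩ := Cfsg.Agent.Lib.Helper18.PSUFld.nonempty_centralizer_equiv_GU hF hn hs σ r hoσ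
      hr.pos ρ hρ ρ₀ hρ₀ hρ₀o ι hι hιρ
    exact ⟨e1.trans e2⟩
  · have h1 := Cfsg.Agent.Lib.Helper18.PSLnFld.splitClassCount_conj (Cfsg.inndiagPSU n F q)
      (Cfsg.Inn (Cfsg.PSU n F q)) α x
      (fun h => ⟨fun hh => hnormal.conj_mem h hh α, fun hh => by
        have := hnormal.conj_mem _ hh α⁻¹
        rw [inv_inv] at this
        have e : α⁻¹ * (α * h * α⁻¹) * α = h := by group
        rwa [e] at this⟩)
      (fun k => ⟨fun hk => (Cfsg.innNormal _).conj_mem k hk α, fun hk => by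
        have := (Cfsg.innNormal _).conj_mem _ hk α⁻¹
        rw [inv_inv] at this
        have e : α⁻¹ * (α * k * α⁻¹) * α = k := by group
        rwa [e] at this⟩)
    rw [← h1, hstd]
    exact Cfsg.Agent.Lib.Helper18.PSUFld.splitClassCount_fieldU hF hF₀' hn hs σ r hoσ hr.pos
      ρ hρ ρ₀ hρ₀ hρ₀o ι hι hιρ hιq hdvd'

end Cfsg.Agent.S2705
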