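import Cfsg.Statements.S2708
import Cfsg.Agent.Lib.Helper25.PSUGraph11
import Cfsg.Agent.S2701
-- import your own Cfsg.Agent.* helpers here

set_option autoImplicit false
open Cfsg

namespace Cfsg.Agent.S2708

/-- Let T = PSU_n(q) with n = 2m ≥ 4 even and q even, realised over the field F (of characteristic 2) with q² elements, and G = Inndiag(T) the image of PGU_n(q). The involutory graph automorphisms of T fall into exactly two G-classes, with representatives whose centralizers in G are isomorphic respectively to the symplectic group Sp_n(F₀) and to the centralizer in Sp_n(F₀) of a symplectic transvection, F₀ a field with q elements. -/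
theorem result {F : Type*} [Field F] [Fintype F] [CharP F 2] {q : ℕ} (hF : Fintype.card F = q ^ 2) {n m : ℕ} (hm : 2 ≤ m) (hnm : n = 2 * m) (F₀ : Type*) [Field F₀] [Fintype F₀] (hF₀ : Fintype.card F₀ = q) :
    ∃ (γ₁ γ₃ : MulAut (Cfsg.PSU n F q)) (t : ↥(Matrix.symplecticGroup (Fin m) F₀)), Cfsg.IsTransvection (t : Matrix (Fin m ⊕ Fin m) (Fin m ⊕ Fin m) F₀) ∧ Cfsg.IsGraphAutClassPSU γ₁ ∧ orderOf γ₁ = 2 ∧ Cfsg.IsGraphAutClassPSU γ₃ ∧ orderOf γ₃ = 2 ∧ ¬ Cfsg.IsConjUnder (Cfsg.inndiagPSU n F q) γ₁ γ₃ ∧ (∀ γ : MulAut (Cfsg.PSU n F q), Cfsg.IsGraphAutClassPSU γ → orderOf γ = 2 → Cfsg.IsConjUnder (Cfsg.inndiagPSU n F q) γ₁ γ ∨ Cfsg.IsConjUnder (Cfsg.inndiagPSU n F q) γ₃ γ) ∧ Nonempty (↥(Cfsg.inndiagPSU n F q ⊓ Subgroup.centralizer {γ₁}) ≃* ↥(Matrix.symplecticGroup (Fin m) F₀)) ∧ Nonempty (↥(Cfsg.inndiagPSU n F q ⊓ Subgroup.centralizer {γ₃}) ≃*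 ↥(Subgroup.centralizer ({t} : Set ↥(Matrix.symplecticGroup (Fin m) F₀)))) := by
  have hn : 3 ≤ n := by omega
  have hs : ¬ (n = 3 ∧ q = 2) := by omega
  haveI : CharP F₀ 2 := by
    obtain ⟨ρ, -, -, ι, -⟩ := Cfsg.Agent.Lib.Helper25.PSUG.exists_frob_data hF F₀ hF₀
    apply CharTwo.of_one_ne_zero_of_two_eq_zero one_ne_zero
    apply ι.injective
    rw [map_ofNat, map_zero]
    exact CharTwo.two_eq_zero
  obtain ⟨R, hC1, hC2, hC3, hC4⟩ := Cfsg.Agent.Lib.Helper25.PSUG.transfer hF hn hs F₀ hF₀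
  obtain ⟨δ₁, δ₃, t, ht, hg1, ho1, hg3, ho3, hn13, hall, ⟨e1⟩, ⟨e3⟩⟩ :=
    Cfsg.Agent.S2701.result (F := F₀) hm hnm
  obtain ⟨γ₁, hγ1, hγ1o, hR1⟩ := hC2 δ₁ hg1 ho1
  obtain ⟨γ₃, hγ3, hγ3o, hR3⟩ := hC2 δ₃ hg3 ho3
  obtain ⟨f1⟩ := hC4 γ₁ δ₁ hR1
  obtain ⟨f3⟩ := hC4 γ₃ δ₃ hR3
  refine ⟨γ₁, γ₃, t, ht, hγ1, hγ1o, hγ3, hγ3o, ?_, ?_, ⟨f1.trans e1⟩, ⟨f3.trans e3⟩⟩
  · exact fun h => hn13 ((hC3 _ _ _ _ hR1 hR3).1 h)
  · intro γ hγ hγo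
    obtain ⟨δ, hδ, hδo, hRδ⟩ := hC1 γ hγ hγo
    rcases hall δ hδ hδo with h | h
    · exact Or.inl ((hC3 _ _ _ _ hR1 hRδ).2 h)
    · exact Or.inr ((hC3 _ _ _ _ hR3 hRδ).2 h)

end Cfsg.Agent.S2708
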