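import Cfsg.Statements.S2709
import Cfsg.Agent.Lib.Helper25.PSUSplit4
-- import your own Cfsg.Agent.* helpers here

set_option autoImplicit false
open Cfsg

namespace Cfsg.Agent.S2709

open Matrix Cfsg.Agent.Lib.Helper25.GraphInv Cfsg.Agent.Lib.Helper18.PSLnFld
  Cfsg.Agent.Lib.Helper25.PSUG Cfsg.Agent.Lib.Helper14

/-- Let T = PSU_n(q) be simple (n ≥ 3, (n,q) ≠ (3,2), q = p^f), realised over the field F with q² elements, G = Inndiag(T) the image of PGU_n(q), and γ an involutory graph automorphism of T. The G-class of γ is the union of exactly c T-classes, where: if n is even and q is odd, c = gcd(n/2, q + 1) when C_G(γ) is isomorphic to PGSp_n(F₀) for a field F₀ with q elements (symplectic type) and c = gcd(n, q + 1)/2 otherwise; and c = gcd(n, q + 1) when n is odd or q is even. -/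
theorem result {F : Type*} [Field F] [Fintype F] {p f q : ℕ} [Fact p.Prime] (hq : q = p ^ f) (hf : 1 ≤ f) (hF : Fintype.card F = q ^ 2) {n : ℕ} (hn : 3 ≤ n) (hs : ¬ (n = 3 ∧ q = 2)) (F₀ : Type*) [Field F₀] [Fintype F₀] (hF₀ : Fintype.card F₀ = q) (γ : MulAut (Cfsg.PSU n F q)) (hγ : Cfsg.IsGraphAutClassPSU γ) (hγ2 : orderOf γ = 2) :
    ((Even n ∧ Odd q ∧ Nonempty (↥(Cfsg.inndiagPSU n F q ⊓ Subgroup.centralizer {γ}) ≃* Cfsg.PGSp (n / 2) F₀)) → Cfsg.splitClassCount (Cfsg.inndiagPSU n F q) (Cfsg.Inn (Cfsg.PSU n F q)) γ = Nat.gcd (n / 2) (q + 1)) ∧ ((Even n ∧ Odd q ∧ ¬ Nonempty (↥(Cfsg.inndiagPSU n F q ⊓ Subgroup.centralizer {γ}) ≃* Cfsg.PGSp (n / 2) F₀)) → Cfsg.splitClassCount (Cfsg.inndiagPSU n F q) (Cfsg.Inn (Cfsg.PSU n F q)) γ = Nat.gcd n (q + 1) / 2) ∧ (¬ (Even n ∧ Odd q) → Cfsg.splitClassCount (Cfsg.inndiagPSU n F q) (Cfsg.Inn (Cfsg.PSU n F q)) γ = Nat.gcd n (q + 1)) := by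
  classical
  have h32 := hs
  have hn2 : 2 ≤ n := by omega
  obtain ⟨ρ, hρ, hρo, ι, hι⟩ := exists_frob_data hF F₀ hF₀
  obtain ⟨A₀, hA, hD⟩ := exists_datum_of_graph hF hn h32 ρ hρ hρo ι hι γ hγ hγ2
  rw [splitClassCount_U hF hn h32 γ]
  have hcardN : Nat.card ↥(normOne F q) = q + 1 := card_normOne hF
  have hidx : ∀ d : ℕ, (powMonoidHom d : ↥(normOne F q) →* ↥(normOne F q)).range.index =
      Nat.gcd d (q + 1) := by
    intro d
    rw [IsCyclic.index_powMonoidHom_range, hcardN, Nat.gcd_comm]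
  have hp : Nat.Prime p := Fact.out
  have hp0 : ((p : ℕ) : F₀) = 0 := by
    have h1 : ((p ^ f : ℕ) : F₀) = 0 := by
      rw [← hq, ← hF₀]
      exact Nat.cast_card_eq_zero F₀
    rw [Nat.cast_pow] at h1
    exact pow_eq_zero_iff (by omega) |>.1 h1
  obtain ⟨e1⟩ := hD.nonempty_equiv hF hn h32 ρ hρ hρo ι hι
  obtain ⟨e2⟩ := nonempty_centralizer_bil hn2 A₀.1 1 1 (one_mul 1) (one_mul 1) A₀ (by simp)
  by_cases hE : Even n ∧ Odd q
  · obtain ⟨hev, hodd⟩ := hE
    have hoddp : Odd p := by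
      rw [hq] at hodd
      exact (Nat.odd_pow_iff (by omega)).1 hodd
    have h2 : (2 : F₀) ≠ 0 := by
      intro h
      obtain ⟨k, hk⟩ := hoddp
      rw [hk] at hp0
      push_cast at hp0
      rw [h, zero_mul, zero_add] at hp0
      exact one_ne_zero hp0
    obtain ⟨m, hm⟩ := hev
    have hnm : n = 2 * m := by omega
    have hm2 : 2 ≤ m := by omega
    have hdiv : n / 2 = m := by omega
    have hevn : Even n := ⟨m, hm⟩
    rcases hA with hM | hM
    · -- symmetric type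
      have hnot : ¬ Nonempty (↥(Cfsg.inndiagPSU n F q ⊓ Subgroup.centralizer {γ}) ≃*
          Cfsg.PGSp m F₀) := by
        rintro ⟨e3⟩
        exact not_pgsp_of_sym h2 hnm hm2 A₀ hM ⟨(e2.trans e1.symm).trans e3⟩
      have h2F : (2 : F) ≠ 0 := by
        have := (map_ne_zero ι).2 h2
        rwa [map_ofNat] at this
      have hz : (-1 : Fˣ) ∈ normOne F q := by
        rw [mem_normOne]
        exact Even.neg_one_pow hodd.add_one
      have hne : (-1 : Fˣ) ≠ 1 := by
        intro h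
        have h3 := congrArg Units.val h
        rw [Units.val_neg, Units.val_one] at h3
        apply h2F
        linear_combination -h3
      have ho : orderOf (-1 : Fˣ) = 2 := by
        haveI : Fact (Nat.Prime 2) := ⟨Nat.prime_two⟩
        exact orderOf_eq_prime (by rw [neg_one_sq]) hne
      have hzo : orderOf (⟨-1, hz⟩ : ↥(normOne F q)) = 2 := by
        rw [Subgroup.orderOf_mk, ho]
      have hidx' : (detSubU hF γ).index = Nat.gcd n (q + 1) / 2 := by
        rw [detSubU_eq_of_sym hF hn h32 ρ hρ hρo ι hι hD h2 hnm hM ⟨-1, hz⟩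
          (by rw [Units.val_neg, Units.val_one]), index_zpowers_sup _ hzo m, hcardN]
        obtain ⟨t, ht⟩ := hodd
        have e1 : q + 1 = 2 * (t + 1) := by omega
        rw [e1, hnm, Nat.gcd_mul_left, Nat.mul_div_cancel_left _ (by norm_num : 0 < 2),
          Nat.mul_div_cancel_left _ (by norm_num : 0 < 2), Nat.gcd_comm]
      refine ⟨fun h => ?_, fun _ => hidx', fun h => absurd ⟨hevn, hodd⟩ h⟩
      have h3 := h.2.2
      rw [hdiv] at h3
      exact absurd h3 hnot
    · -- symplectic type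
      have halt : ∀ v, v ⬝ᵥ A₀.1 *ᵥ v = 0 := by
        intro x
        have h3 : x ⬝ᵥ A₀.1 *ᵥ x = -(x ⬝ᵥ A₀.1 *ᵥ x) := by
          nth_rewrite 1 [Matrix.dotProduct_mulVec, ← Matrix.mulVec_transpose, hM,
            Matrix.neg_mulVec, neg_dotProduct, dotProduct_comm]
          rfl
        have h4 : (2 : F₀) * (x ⬝ᵥ A₀.1 *ᵥ x) = 0 := by linear_combination h3
        exact (mul_eq_zero.1 h4).resolve_left h2
      have hdet : A₀.1.det ≠ 0 := Matrix.GeneralLinearGroup.det_ne_zero A₀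
      have hpg : Nonempty (↥(Cfsg.inndiagPSU n F q ⊓ Subgroup.centralizer {γ}) ≃*
          Cfsg.PGSp m F₀) := by
        obtain ⟨P, P', h1, h1', hMeq⟩ := exists_canon_even_alt hnm A₀.1 hdet halt
        obtain ⟨e3⟩ := nonempty_centralizer_symp hn2 m P P' h1 h1' A₀ hMeq
        exact ⟨(e1.trans e2.symm).trans e3⟩
      have hidx' : (detSubU hF γ).index = Nat.gcd m (q + 1) := by
        rw [detSubU_eq_of_alt hF hn h32 ρ hρ hρo ι hι hD hnm halt, hidx]
      refine ⟨fun _ => ?_, fun h => ?_, fun h => absurd ⟨hevn, hodd⟩ h⟩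
      · rw [hdiv]
        exact hidx'
      · have h3 := h.2.2
        rw [hdiv] at h3
        exact absurd hpg h3
  · have hidx' : (detSubU hF γ).index = Nat.gcd n (q + 1) := by
      have hroot : ∀ (x₀ : GL (Fin n) F₀) (c₀ : F₀ˣ),
          (x₀.1)ᵀ * A₀.1 * x₀.1 = (c₀ : F₀) • A₀.1 →
          ∃ r : F₀, r * r = c₀ ∧ r ^ n = x₀.1.det := by
        intro x₀ c₀ hx
        have h1 := det_mul_self_of_sim A₀ x₀ c₀ hx
        obtain ⟨D, hDd⟩ : ∃ D : F₀, D = x₀.1.det := ⟨_, rfl⟩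
        rw [← hDd] at h1 ⊢
        rcases not_and_or.1 hE with h | h
        · obtain ⟨j, hj⟩ := Nat.not_even_iff_odd.1 h
          have hcj : ((c₀ : F₀) ^ j) ≠ 0 := pow_ne_zero _ c₀.ne_zero
          have hrr : D / (c₀ : F₀) ^ j * (D / (c₀ : F₀) ^ j) = c₀ := by
            rw [div_mul_div_comm, h1, hj, pow_succ, ← pow_add, two_mul]
            field_simp
          refine ⟨D / (c₀ : F₀) ^ j, hrr, ?_⟩
          rw [hj, pow_succ, pow_mul, pow_two, hrr]
          field_simp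
        · have hp2 : p = 2 := by
            rcases hp.eq_two_or_odd' with h3 | h3
            · exact h3
            · exact absurd (hq ▸ h3.pow) h
          rw [hp2] at hp0
          have h20 : (2 : F₀) = 0 := by exact_mod_cast hp0
          haveI : CharP F₀ 2 := CharTwo.of_one_ne_zero_of_two_eq_zero one_ne_zero h20
          refine ⟨Cfsg.Agent.Lib.Helper15.SymIso.sqrt2 (c₀ : F₀),
            Cfsg.Agent.Lib.Helper15.SymIso.sqrt2_mul_self _, ?_⟩
          apply Cfsg.Agent.Lib.Helper15.SymIso.sq_inj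
          rw [h1, ← mul_pow, Cfsg.Agent.Lib.Helper15.SymIso.sqrt2_mul_self]
      rw [detSubU_eq_of_root hF hn h32 ρ hρ hρo ι hι hD hroot, hidx]
    exact ⟨fun h => absurd ⟨h.1, h.2.1⟩ hE, fun h => absurd ⟨h.1, h.2.1⟩ hE, fun _ => hidx'⟩

end Cfsg.Agent.S2709
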