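import Cfsg.Statements.S2710
import Cfsg.Agent.Lib.Helper25.PSUGraph6
import Cfsg.Agent.S2703
-- import your own Cfsg.Agent.* helpers here

set_option autoImplicit false
open Cfsg

namespace Cfsg.Agent.S2710

open Matrix Cfsg.Agent.Lib.Helper25.PSUG Cfsg.Agent.Lib.Helper25.GraphInv Cfsg.Agent.Lib.Helper18.PSLnAut Cfsg.Agent.Lib.Helper18.PSLnFld

/-- Let T = PSU_n(q) with n ≥ 4 divisible by 4 (n = 2m) and q odd, realised over the field F with q² elements, G = Inndiag(T) the image of PGU_n(q), and φ the standard field automorphism of T attached to the q-th power map of F (it induces inverse-transpose on the unitary matrices and is a graph automorphism). Its centralizer in G is isomorphic to the projective conformal orthogonal group of the plus-type form Σ xᵢ yᵢ in dimension n over a field F₀ with q elements. (Dimensions n ≡ 2 (mod 4) are not covered.) -/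
theorem result {F : Type*} [Field F] [Fintype F] {q : ℕ} (hodd : Odd q) (hF : Fintype.card F = q ^ 2) {n m : ℕ} (hm : 2 ≤ m) (hnm : n = 2 * m) (h4 : 4 ∣ n) (F₀ : Type*) [Field F₀] [Fintype F₀] (hF₀ : Fintype.card F₀ = q) (σ : F ≃+* F) (hσ : ∀ a : F, σ a = a ^ q) (φ : MulAut (Cfsg.PSU n F q)) (hφ : Cfsg.IsFieldAutPSUOf σ φ) :
    Nonempty (↥(Cfsg.inndiagPSU n F q ⊓ Subgroup.centralizer {φ}) ≃* Cfsg.PGO F₀ (Cfsg.quadFormPlus m F₀)) := by
  obtain ⟨ρ, hρ, hρo, ι, hι⟩ := exists_frob_data hF F₀ hF₀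
  have hσρ : σ = ρ := by
    ext a
    rw [hσ, hρ]
  have hφ' : φ = fieldUHom ρ := by
    rw [← hσρ]
    exact (isFieldAut_iff σ φ).1 hφ
  rw [hφ']
  obtain ⟨e1⟩ := nonempty_centralizer_field (n := n) hF (by omega) (by omega) ρ hρ hρo ι hι
  obtain ⟨e2⟩ := nonempty_centralizer_bil (n := n) (F := F₀) (by omega)
    ((1 : GL (Fin n) F₀).1) 1 1 (Matrix.one_mul 1) (Matrix.one_mul 1) (1 : GL (Fin n) F₀)
    (by rw [Matrix.transpose_one, Matrix.one_mul, Matrix.mul_one])
  have ht1 : tauG (1 : GL (Fin n) F₀) = itA := by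
    unfold tauG
    rw [inv_one, map_one, one_mul]
  have hit : Cfsg.IsInverseTransposeAutPSL (tauG (1 : GL (Fin n) F₀)) := by
    rw [ht1]
    exact (isInverseTranspose_iff _).2 rfl
  have hoddF₀ : Odd (Fintype.card F₀) := by rw [hF₀]; exact hodd
  have heven : Even (n * (Fintype.card F₀ - 1) / 4) := by
    obtain ⟨j, hj⟩ := h4
    obtain ⟨i, hi⟩ := hodd
    rw [hF₀, hj, hi]
    have e : 4 * j * (2 * i + 1 - 1) / 4 = 2 * (j * i) := by
      have : 4 * j * (2 * i + 1 - 1) = 4 * (2 * (j * i)) := by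
        rw [Nat.add_sub_cancel]
        ring
      rw [this, Nat.mul_div_cancel_left _ (by norm_num : 0 < 4)]
    rw [e]
    exact even_two_mul _
  obtain ⟨e3⟩ := (Cfsg.Agent.S2703.result (F := F₀) hoddF₀ hm hnm _ hit).1 heven
  exact ⟨e1.trans (e2.symm.trans e3)⟩

end Cfsg.Agent.S2710
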