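import Cfsg.Statements.S2718
import Cfsg.Agent.Lib.Helper25.InndiagPlus2
import Cfsg.Agent.Lib.Helper25.GraphSplit3
import Cfsg.Agent.S2613
-- import your own Cfsg.Agent.* helpers here

set_option autoImplicit false
open Cfsg

namespace Cfsg.Agent.S2718

set_option maxHeartbeats 1600000

/-- Let T = PΩ⁺_{2m}(F) with m ≥ 4 and |F| = q odd, G = Inndiag(T), and γ an involutory graph automorphism of T induced by a similarity (one interchanging the two classes of maximal totally singular subspaces). Then the G-class of γ is either a single T-class or the union of exactly two T-classes, and it is the union of two unless m is odd and q ≡ 3 (mod 4). -/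
theorem result {F : Type*} [Field F] [Fintype F] (hodd : Odd (Fintype.card F)) {m : ℕ} (hm : 4 ≤ m) (γ : MulAut (Cfsg.POmega F (Cfsg.quadFormPlus m F))) (hγ : Cfsg.IsSimilarityGraphAutPOmegaPlus m γ) (hγ2 : orderOf γ = 2) :
    (Cfsg.splitClassCount (Cfsg.inndiagPOmegaPlus m F) (Cfsg.Inn (Cfsg.POmega F (Cfsg.quadFormPlus m F))) γ = 1 ∨ Cfsg.splitClassCount (Cfsg.inndiagPOmegaPlus m F) (Cfsg.Inn (Cfsg.POmega F (Cfsg.quadFormPlus m F))) γ = 2) ∧ (¬ (Odd m ∧ Fintype.card F % 4 = 3) → Cfsg.splitClassCount (Cfsg.inndiagPOmegaPlus m F) (Cfsg.Inn (Cfsg.POmega F (Cfsg.quadFormPlus m F))) γ = 2) := by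
  have h2 := Cfsg.Agent.Lib.Helper25.Spin.two_ne_zero_of_odd_card hodd
  have hQ : (QuadraticMap.polarBilin (Cfsg.Agent.Lib.Helper25.Spin.Qp m F)).Nondegenerate :=
    Cfsg.Agent.Lib.Helper25.Spin.qfOf_nondeg _
  have hfin : 2 ≤ Module.finrank F (Fin m ⊕ Fin m → F) := by
    rw [Module.finrank_fintype_fun_eq_card, Cfsg.Agent.Lib.Helper25.PSim.card_plus]
    omega
  obtain ⟨u₀, hu₀⟩ := Cfsg.Agent.Lib.Helper25.Spin.exists_rep
    (Cfsg.Agent.Lib.Helper25.Spin.Qp m F) hQ hfin 1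
  obtain ⟨ν, hν⟩ := FiniteField.exists_nonsquare (F := F)
    (Cfsg.Agent.Lib.Helper25.Spin.ringChar_ne_two h2)
  have hν0 : ν ≠ 0 := by
    rintro rfl
    exact hν ⟨0, by simp⟩
  obtain ⟨δ, hδ⟩ := Cfsg.Agent.Lib.Helper25.PSim.exists_delta m ν hν0
  obtain ⟨hmult, hδp, hrel⟩ := Cfsg.Agent.Lib.Helper25.PSim.delta_facts m u₀ hu₀ h2 ν hν0 δ hδ
  have hn : 7 ≤ Fintype.card (Fin m ⊕ Fin m) := by
    rw [Cfsg.Agent.Lib.Helper25.PSim.card_plus]
    omega
  have hδns : ¬ IsSquare (Cfsg.Agent.Lib.Helper25.PSim.mult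
      (Cfsg.Agent.Lib.Helper25.Spin.Qp m F) u₀ hu₀ δ : F) := by rw [hmult]; exact hν
  obtain ⟨g, hg, hpres, hind⟩ := hγ
  have hβ := (Cfsg.Agent.Lib.Helper25.PSim.induced_iff
    (⇑(Cfsg.Agent.Lib.Helper25.Spin.Qp m F)) g hg γ).1 hind
  have himp : ¬ Cfsg.Agent.Lib.Helper25.PSim.IsProper
      (Cfsg.Agent.Lib.Helper25.Spin.Qp m F) u₀ hu₀ m ⟨g, hg⟩ := by
    intro h
    apply hpres
    exact (Cfsg.Agent.Lib.Helper25.PSim.preserves_iff m h2 g _
      (Units.ne_zero (Cfsg.Agent.Lib.Helper25.PSim.mult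
        (Cfsg.Agent.Lib.Helper25.Spin.Qp m F) u₀ hu₀ ⟨g, hg⟩))
      (fun v => Cfsg.Agent.Lib.Helper25.PSim.Q_sim
        (Cfsg.Agent.Lib.Helper25.Spin.Qp m F) u₀ hu₀ ⟨g, hg⟩ v)).2 h
  have hγγ : γ * γ = 1 := by rw [← pow_two, ← hγ2, pow_orderOf_eq_one]
  subst hβ
  have hγ2' : Cfsg.Agent.Lib.Helper25.PSim.theta (⇑(Cfsg.Agent.Lib.Helper25.Spin.Qp m F)) ⟨g, hg⟩ *
      Cfsg.Agent.Lib.Helper25.PSim.theta (⇑(Cfsg.Agent.Lib.Helper25.Spin.Qp m F)) ⟨g, hg⟩ = 1 := hγγ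
  have main := Cfsg.Agent.Lib.Helper25.GraphSplit.split_main
    (Cfsg.Agent.Lib.Helper25.Spin.Qp m F) u₀ hu₀ h2 hQ
    (Cfsg.Agent.Lib.Helper25.PSim.card_plus m) hn δ hδns ⟨g, hg⟩ himp hγ2'
  rw [Cfsg.Agent.Lib.Helper25.PSim.inndiag_eq m u₀ hu₀ h2]
  refine ⟨main.1, fun hc => main.2 ?_⟩
  have hS := Cfsg.Agent.S2613.result (F := F) (q := Fintype.card F) rfl hodd (m := m) m
    (by omega) le_rfl
  have hdiag : Matrix.diagonal (fun k : Fin m ⊕ Fin m =>
      if (Sum.elim (fun j : Fin m => (j : ℕ)) (fun j : Fin m => (j : ℕ)) k) < m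
        then (-1 : F) else 1) = -1 := by
    have e : (fun k : Fin m ⊕ Fin m =>
        if (Sum.elim (fun j : Fin m => (j : ℕ)) (fun j : Fin m => (j : ℕ)) k) < m
          then (-1 : F) else 1) = fun _ => (-1 : F) := by
      funext k
      rcases k with j | j
      · simp [j.2]
      · simp [j.2]
    rw [e]
    ext i j
    by_cases hij : i = j
    · subst hij
      simp
    · simp [hij]
  rw [hdiag] at hS
  have hnum : Fintype.card F ^ m % 4 = 1 ↔ ¬ (Odd m ∧ Fintype.card F % 4 = 3) := by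
    obtain ⟨k, hk⟩ := hodd
    rcases Nat.even_or_odd m with ⟨j, hj⟩ | ⟨j, hj⟩
    · subst hj
      rw [Cfsg.Agent.Lib.Helper25.Spin.pow_mod_four_even ⟨k, hk⟩]
      constructor
      · intro _ h
        obtain ⟨h1, -⟩ := h
        rcases h1 with ⟨i, hi⟩
        omega
      · intro _
        rfl
    · subst hj
      rw [Cfsg.Agent.Lib.Helper25.Spin.pow_mod_four_odd ⟨k, hk⟩]
      constructor
      · intro h1 h
        omega
      · intro h
        by_contra h1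
        apply h
        refine ⟨⟨j, rfl⟩, ?_⟩
        omega
  exact hS.2 (hnum.2 hc)

end Cfsg.Agent.S2718
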