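import Cfsg.Statements.S2719
import Cfsg.Agent.Lib.Helper25.InndiagMinus3
import Cfsg.Agent.Lib.Helper25.GraphSplit7
import Cfsg.Agent.Lib.Helper25.GraphSplit8
import Cfsg.Agent.Lib.Helper25.SpinMinus
-- import your own Cfsg.Agent.* helpers here

set_option autoImplicit false
open Cfsg

namespace Cfsg.Agent.S2719

set_option maxHeartbeats 1600000

/-- Let T = PΩ⁻_{2m+2}(F) with m ≥ 3 and |F| = q odd (form with anisotropic binary part z₁² + a z₁ z₂ + b z₂²), G = Inndiag(T), and γ an involutory graph automorphism of T (an automorphism in the image of the semisimilarity group, not inner-diagonal, of order 2). Then the G-class of γ is either a single T-class or the union of exactly two T-classes, and it is the union of two unless m is even and q ≡ 1 (mod 4). -/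
theorem result {F : Type*} [Field F] [Fintype F] (hodd : Odd (Fintype.card F)) {m : ℕ} (hm : 3 ≤ m) (a b : F) (hab : (∀ z₁ z₂ : F, z₁ ^ 2 + a * z₁ * z₂ + b * z₂ ^ 2 = 0 → z₁ = 0 ∧ z₂ = 0)) (γ : MulAut (Cfsg.POmega F (Cfsg.quadFormMinus m F a b))) (hγ : Cfsg.IsGraphAutClassPOmegaMinus m a b γ) (hγ2 : orderOf γ = 2) :
    (Cfsg.splitClassCount (Cfsg.inndiagPOmegaMinus m F a b) (Cfsg.Inn (Cfsg.POmega F (Cfsg.quadFormMinus m F a b))) γ = 1 ∨ Cfsg.splitClassCount (Cfsg.inndiagPOmegaMinus m F a b) (Cfsg.Inn (Cfsg.POmega F (Cfsg.quadFormMinus m F a b))) γ = 2) ∧ (¬ (Even m ∧ Fintype.card F % 4 = 1) → Cfsg.splitClassCount (Cfsg.inndiagPOmegaMinus m F a b) (Cfsg.Inn (Cfsg.POmega F (Cfsg.quadFormMinus m F a b))) γ = 2) := by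
  have h2 := Cfsg.Agent.Lib.Helper25.Spin.two_ne_zero_of_odd_card hodd
  have hD : a ^ 2 - 4 * b ≠ 0 := Cfsg.Agent.Lib.Helper14.OrthMinus.disc_ne_zero hab
  have hQ : (QuadraticMap.polarBilin (Cfsg.Agent.Lib.Helper25.Spin.qfOf
      (Cfsg.Agent.Lib.Helper14.OrthMinus.isQF_minus (F := F) (n := m) hD))).Nondegenerate :=
    Cfsg.Agent.Lib.Helper25.Spin.qfOf_nondeg _
  have hc1 := Cfsg.Agent.Lib.Helper25.PSim.card_minus m
  have hfin : 2 ≤ Module.finrank F (Cfsg.Agent.Lib.Helper14.OrthMinus.Idx m → F) := by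
    rw [Module.finrank_fintype_fun_eq_card, hc1]
    omega
  obtain ⟨u₀, hu₀⟩ := Cfsg.Agent.Lib.Helper25.Spin.exists_rep
    (Cfsg.Agent.Lib.Helper25.Spin.qfOf
      (Cfsg.Agent.Lib.Helper14.OrthMinus.isQF_minus (F := F) (n := m) hD)) hQ hfin 1
  have hn : 7 ≤ Fintype.card (Cfsg.Agent.Lib.Helper14.OrthMinus.Idx m) := by
    rw [hc1]
    omega
  have hodd' : Fintype.card F % 2 = 1 := Nat.odd_iff.1 hodd
  obtain ⟨ν, hν⟩ := FiniteField.exists_nonsquare (F := F)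
    (Cfsg.Agent.Lib.Helper25.Spin.ringChar_ne_two h2)
  have hν0 : ν ≠ 0 := by
    rintro rfl
    exact hν ⟨0, by simp⟩
  obtain ⟨x, y, hxy⟩ := Cfsg.Agent.Lib.Helper25.PSim.binary_universal a b hodd' h2 hD ν
  obtain ⟨δ, hδ⟩ := Cfsg.Agent.Lib.Helper25.PSim.exists_delta_minus m a b hD x y
    (by rw [hxy]; exact hν0)
  obtain ⟨hmult, -⟩ := Cfsg.Agent.Lib.Helper25.PSim.delta_minus_facts m a b hD u₀ hu₀ x y δ hδ
  have hδns : ¬ IsSquare (Cfsg.Agent.Lib.Helper25.PSim.mult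
      (Cfsg.Agent.Lib.Helper25.Spin.qfOf
        (Cfsg.Agent.Lib.Helper14.OrthMinus.isQF_minus (F := F) (n := m) hD)) u₀ hu₀ δ : F) := by
    rw [hmult, hxy]
    exact hν
  obtain ⟨hγΓ, hγI, -⟩ := hγ
  have hγγ : γ * γ = 1 := by
    have h3 := pow_orderOf_eq_one γ
    rw [hγ2, pow_two] at h3
    exact h3
  have hns : IsSquare (-1 : F) → ¬ IsSquare (Matrix.of (fun i j : Cfsg.Agent.Lib.Helper14.OrthMinus.Idx m =>
      QuadraticMap.polar ⇑(Cfsg.Agent.Lib.Helper25.Spin.qfOf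
        (Cfsg.Agent.Lib.Helper14.OrthMinus.isQF_minus (F := F) (n := m) hD))
        (Pi.single i 1) (Pi.single j 1))).det := by
    intro hsq1 hsq
    rw [Cfsg.Agent.Lib.Helper25.Spin.det_gram_minus hD] at hsq
    have hne : ((-1 : F)) ^ (m + 1) ≠ 0 := pow_ne_zero _ (neg_ne_zero.2 one_ne_zero)
    rw [Cfsg.Agent.Lib.Helper25.Spin.isSquare_mul_iff hne hD] at hsq
    exact Cfsg.Agent.Lib.Helper25.Spin.not_isSquare_disc h2 hab (hsq.1 (hsq1.pow _))
  obtain ⟨g, hg⟩ := Cfsg.Agent.Lib.Helper25.GraphSplit.exists_sim_of_gamma_invol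
    (Cfsg.Agent.Lib.Helper25.Spin.qfOf
      (Cfsg.Agent.Lib.Helper14.OrthMinus.isQF_minus (F := F) (n := m) hD)) hodd hQ hn
    ⟨m + 1, by rw [hc1]; ring⟩ hns hγΓ hγγ
  rw [Cfsg.Agent.Lib.Helper25.PSim.inndiag_minus_eq m a b hD u₀ hu₀ h2 hodd hab] at hγI ⊢
  subst hg
  have himp : ¬ Cfsg.Agent.Lib.Helper25.PSim.IsProper
      (Cfsg.Agent.Lib.Helper25.Spin.qfOf
        (Cfsg.Agent.Lib.Helper14.OrthMinus.isQF_minus (F := F) (n := m) hD)) u₀ hu₀ (m + 1) g := by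
    intro h
    apply hγI
    exact ⟨g, (Cfsg.Agent.Lib.Helper25.PSim.mem_properSub_iff _ u₀ hu₀ h2 hQ hc1 g).2 h, rfl⟩
  have main := Cfsg.Agent.Lib.Helper25.GraphSplit.split_main
    (Cfsg.Agent.Lib.Helper25.Spin.qfOf
      (Cfsg.Agent.Lib.Helper14.OrthMinus.isQF_minus (F := F) (n := m) hD)) u₀ hu₀ h2 hQ
    hc1 hn δ hδns g himp hγγ
  refine ⟨main.1, fun hc => ?_⟩
  rcases Nat.even_or_odd m with hme | hmo
  · apply main.2
    have hS := Cfsg.Agent.Lib.Helper25.Spin.neg_one_mem_omega_minus (F := F)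
      (q := Fintype.card F) rfl hodd m a b hab
    apply hS.2
    obtain ⟨j, hj⟩ := hme
    obtain ⟨k, hk⟩ := hodd
    subst hj
    have e : j + j + 1 = 2 * j + 1 := by ring
    rw [e, Cfsg.Agent.Lib.Helper25.Spin.pow_mod_four_odd ⟨k, hk⟩]
    by_contra h3
    apply hc
    refine ⟨⟨j, rfl⟩, ?_⟩
    omega
  · exact Cfsg.Agent.Lib.Helper25.GraphSplit.split_main_even
      (Cfsg.Agent.Lib.Helper25.Spin.qfOf
        (Cfsg.Agent.Lib.Helper14.OrthMinus.isQF_minus (F := F) (n := m) hD)) u₀ hu₀ h2 hQ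
      hc1 hn (Nat.even_add_one.2 (Nat.not_even_iff_odd.2 hmo)) δ hδns g himp hγγ

end Cfsg.Agent.S2719
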