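import Cfsg.Statements.S2723
import Cfsg.Agent.Lib.Helper25.POmegaAut
import Cfsg.Agent.S2613
-- import your own Cfsg.Agent.* helpers here

set_option autoImplicit false
open Cfsg

namespace Cfsg.Agent.S2723

/-- Let T = PΩ⁺_{2m}(F) with m ≥ 4 and |F| = q odd. The image of the special orthogonal group in Aut(T) contains the inner automorphism group T with index 1 (they coincide) when m is odd and q ≡ 3 (mod 4), and with index 2 otherwise (the index is 2 exactly when the discriminant of the form is a square). -/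
theorem result {F : Type*} [Field F] [Fintype F] (hodd : Odd (Fintype.card F)) {m : ℕ} (hm : 4 ≤ m) :
    ((Odd m ∧ Fintype.card F % 4 = 3) → (Cfsg.Inn (Cfsg.POmega F (Cfsg.quadFormPlus m F))).relIndex (Cfsg.psoAut F (Cfsg.quadFormPlus m F)) = 1) ∧ (¬ (Odd m ∧ Fintype.card F % 4 = 3) → (Cfsg.Inn (Cfsg.POmega F (Cfsg.quadFormPlus m F))).relIndex (Cfsg.psoAut F (Cfsg.quadFormPlus m F)) = 2) := by
  have h2 := Cfsg.Agent.Lib.Helper25.Spin.two_ne_zero_of_odd_card hodd
  have key := Cfsg.Agent.Lib.Helper25.PAut.relIndex_inn_pso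
    (Cfsg.Agent.Lib.Helper25.Spin.qfOf (Cfsg.Agent.Lib.Helper14.isQF_plus (F := F) (m := m))) h2
    (Cfsg.Agent.Lib.Helper25.Spin.qfOf_nondeg _)
    (by simp only [Fintype.card_sum, Fintype.card_fin]; omega)
    (by simp only [Fintype.card_sum, Fintype.card_fin]; exact ⟨m, rfl⟩)
  have hS := Cfsg.Agent.S2613.result (F := F) (q := Fintype.card F) rfl hodd (m := m) m
    (by omega) le_rfl
  have hdiag : Matrix.diagonal (fun k : Fin m ⊕ Fin m =>
      if (Sum.elim (fun j : Fin m => (j : ℕ)) (fun j : Fin m => (j : ℕ)) k) < m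
        then (-1 : F) else 1) = -1 := by
    have e : (fun k : Fin m ⊕ Fin m =>
        if (Sum.elim (fun j : Fin m => (j : ℕ)) (fun j : Fin m => (j : ℕ)) k) < m
          then (-1 : F) else 1) = fun _ => (-1 : F) := by
      funext k
      rcases k with j | j
      · simp [j.2]
      · simp [j.2]
    rw [e]
    ext i j
    by_cases hij : i = j
    · subst hij
      simp
    · simp [hij]
  rw [hdiag] at hS
  have hnum : Fintype.card F ^ m % 4 = 1 ↔ ¬ (Odd m ∧ Fintype.card F % 4 = 3) := by
    obtain ⟨k, hk⟩ := hodd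
    rcases Nat.even_or_odd m with ⟨j, hj⟩ | ⟨j, hj⟩
    · subst hj
      rw [Cfsg.Agent.Lib.Helper25.Spin.pow_mod_four_even ⟨k, hk⟩]
      constructor
      · intro _ h
        obtain ⟨h1, -⟩ := h
        rcases h1 with ⟨i, hi⟩
        omega
      · intro _
        rfl
    · subst hj
      rw [Cfsg.Agent.Lib.Helper25.Spin.pow_mod_four_odd ⟨k, hk⟩]
      constructor
      · intro h1 h
        omega
      · intro h
        by_contra h1
        apply h
        refine ⟨⟨j, rfl⟩, ?_⟩
        omega
  constructor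
  · intro hc
    apply key.2
    intro hex
    exact (hnum.1 (hS.1 hex)) hc
  · intro hc
    apply key.1
    exact hS.2 (hnum.2 hc)

end Cfsg.Agent.S2723
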