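import Cfsg.Statements.S2724
import Cfsg.Agent.Lib.Helper25.POmegaSim4
import Cfsg.Agent.S2613
-- import your own Cfsg.Agent.* helpers here

set_option autoImplicit false
open Cfsg

namespace Cfsg.Agent.S2724

set_option maxHeartbeats 800000

/-- Let T = PΩ⁺_{2m}(F) with m ≥ 4 and |F| = q odd. The image G̃ of the conformal orthogonal group in Aut(T), taken modulo the inner automorphism group T, is elementary abelian of order 4 when m is odd and q ≡ 3 (mod 4), and dihedral of order 8 otherwise. -/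
theorem result {F : Type*} [Field F] [Fintype F] (hodd : Odd (Fintype.card F)) {m : ℕ} (hm : 4 ≤ m) :
    ((Odd m ∧ Fintype.card F % 4 = 3) → (∃ φ : ↥(Cfsg.pgoAut F (Cfsg.quadFormPlus m F)) →* Multiplicative (ZMod 2 × ZMod 2), Function.Surjective φ ∧ φ.ker = (Cfsg.Inn (Cfsg.POmega F (Cfsg.quadFormPlus m F))).subgroupOf (Cfsg.pgoAut F (Cfsg.quadFormPlus m F)))) ∧ (¬ (Odd m ∧ Fintype.card F % 4 = 3) → (∃ φ : ↥(Cfsg.pgoAut F (Cfsg.quadFormPlus m F)) →* DihedralGroup 4, Function.Surjective φ ∧ φ.ker = (Cfsg.Inn (Cfsg.POmega F (Cfsg.quadFormPlus m F))).subgroupOf (Cfsg.pgoAut F (Cfsg.quadFormPlus m F)))) := by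
  have h2 := Cfsg.Agent.Lib.Helper25.Spin.two_ne_zero_of_odd_card hodd
  obtain ⟨ν, hν⟩ := FiniteField.exists_nonsquare (F := F)
    (Cfsg.Agent.Lib.Helper25.Spin.ringChar_ne_two h2)
  have hc1 : Fintype.card (Fin m ⊕ Fin m) = 2 * m := by
    simp only [Fintype.card_sum, Fintype.card_fin]; ring
  have hc2 : 7 ≤ Fintype.card (Fin m ⊕ Fin m) := by
    simp only [Fintype.card_sum, Fintype.card_fin]; omega
  have keyD := Cfsg.Agent.Lib.Helper25.PSim.exists_hom_pgo_inn_D8'
    (Cfsg.Agent.Lib.Helper25.Spin.qfOf (Cfsg.Agent.Lib.Helper14.isQF_plus (F := F) (m := m))) h2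
    (Cfsg.Agent.Lib.Helper25.Spin.qfOf_nondeg _) hc1 hc2
    _ ν hν (Cfsg.Agent.Lib.Helper25.PSim.plus_sim m ν)
  have keyK := Cfsg.Agent.Lib.Helper25.PSim.exists_hom_pgo_inn_klein
    (Cfsg.Agent.Lib.Helper25.Spin.qfOf (Cfsg.Agent.Lib.Helper14.isQF_plus (F := F) (m := m))) h2
    (Cfsg.Agent.Lib.Helper25.Spin.qfOf_nondeg _) hc1 hc2
    _ ν hν (Cfsg.Agent.Lib.Helper25.PSim.plus_sim m ν)
  have hS := Cfsg.Agent.S2613.result (F := F) (q := Fintype.card F) rfl hodd (m := m) m
    (by omega) le_rfl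
  have hdiag : Matrix.diagonal (fun k : Fin m ⊕ Fin m =>
      if (Sum.elim (fun j : Fin m => (j : ℕ)) (fun j : Fin m => (j : ℕ)) k) < m
        then (-1 : F) else 1) = -1 := by
    have e : (fun k : Fin m ⊕ Fin m =>
        if (Sum.elim (fun j : Fin m => (j : ℕ)) (fun j : Fin m => (j : ℕ)) k) < m
          then (-1 : F) else 1) = fun _ => (-1 : F) := by
      funext k
      rcases k with j | j
      · simp [j.2]
      · simp [j.2]
    rw [e]
    ext i j
    by_cases hij : i = j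
    · subst hij
      simp
    · simp [hij]
  rw [hdiag] at hS
  have hnum : Fintype.card F ^ m % 4 = 1 ↔ ¬ (Odd m ∧ Fintype.card F % 4 = 3) := by
    obtain ⟨k, hk⟩ := hodd
    rcases Nat.even_or_odd m with ⟨j, hj⟩ | ⟨j, hj⟩
    · subst hj
      rw [Cfsg.Agent.Lib.Helper25.Spin.pow_mod_four_even ⟨k, hk⟩]
      constructor
      · intro _ h
        obtain ⟨h1, -⟩ := h
        rcases h1 with ⟨i, hi⟩
        omega
      · intro _
        rfl
    · subst hj
      rw [Cfsg.Agent.Lib.Helper25.Spin.pow_mod_four_odd ⟨k, hk⟩]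
      constructor
      · intro h1 h
        omega
      · intro h
        by_contra h1
        apply h
        refine ⟨⟨j, rfl⟩, ?_⟩
        omega
  constructor
  · intro hc
    apply keyK
    intro hex
    exact (hnum.1 (hS.1 hex)) hc
  · intro hc
    apply keyD
    exact hS.2 (hnum.2 hc)

end Cfsg.Agent.S2724
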