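import Cfsg.Statements.S2725
import Cfsg.Agent.Lib.Helper25.InndiagPlus2
import Cfsg.Agent.S2613
-- import your own Cfsg.Agent.* helpers here

set_option autoImplicit false
open Cfsg

namespace Cfsg.Agent.S2725

/-- Let T = PΩ⁺_{2m}(F) with m ≥ 4 and |F| = q odd. The inner-diagonal group G = Inndiag(T) (image of the class-preserving similarities) taken modulo the inner automorphism group T is cyclic of order 2 when m is odd and q ≡ 3 (mod 4), cyclic of order 4 when m is odd and q ≡ 1 (mod 4), and elementary abelian of order 4 when m is even. -/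
theorem result {F : Type*} [Field F] [Fintype F] (hodd : Odd (Fintype.card F)) {m : ℕ} (hm : 4 ≤ m) :
    ((Odd m ∧ Fintype.card F % 4 = 3) → (∃ φ : ↥(Cfsg.inndiagPOmegaPlus m F) →* Multiplicative (ZMod 2), Function.Surjective φ ∧ φ.ker = (Cfsg.Inn (Cfsg.POmega F (Cfsg.quadFormPlus m F))).subgroupOf (Cfsg.inndiagPOmegaPlus m F))) ∧ ((Odd m ∧ Fintype.card F % 4 = 1) → (∃ φ : ↥(Cfsg.inndiagPOmegaPlus m F) →* Multiplicative (ZMod 4), Function.Surjective φ ∧ φ.ker = (Cfsg.Inn (Cfsg.POmega F (Cfsg.quadFormPlus m F))).subgroupOf (Cfsg.inndiagPOmegaPlus m F))) ∧ (Even m → (∃ φ : ↥(Cfsg.inndiagPOmegaPlus m F) →* Multiplicative (ZMod 2 × ZMod 2), Function.Surjective φ ∧ φ.ker = (Cfsg.Inn (Cfsg.POmega F (Cfsg.quadFormPlus m F))).subgroupOf (Cfsg.inndiagPOmegaPlus m F))) := by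
  have h2 := Cfsg.Agent.Lib.Helper25.Spin.two_ne_zero_of_odd_card hodd
  obtain ⟨kA, kB, kC⟩ := Cfsg.Agent.Lib.Helper25.PSim.inndiag_plus_cases (F := F) m h2 hm
  have hS := Cfsg.Agent.S2613.result (F := F) (q := Fintype.card F) rfl hodd (m := m) m
    (by omega) le_rfl
  have hdiag : Matrix.diagonal (fun k : Fin m ⊕ Fin m =>
      if (Sum.elim (fun j : Fin m => (j : ℕ)) (fun j : Fin m => (j : ℕ)) k) < m
        then (-1 : F) else 1) = -1 := by
    have e : (fun k : Fin m ⊕ Fin m =>
        if (Sum.elim (fun j : Fin m => (j : ℕ)) (fun j : Fin m => (j : ℕ)) k) < m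
          then (-1 : F) else 1) = fun _ => (-1 : F) := by
      funext k
      rcases k with j | j
      · simp [j.2]
      · simp [j.2]
    rw [e]
    ext i j
    by_cases hij : i = j
    · subst hij
      simp
    · simp [hij]
  rw [hdiag] at hS
  have hnum : Fintype.card F ^ m % 4 = 1 ↔ ¬ (Odd m ∧ Fintype.card F % 4 = 3) := by
    obtain ⟨k, hk⟩ := hodd
    rcases Nat.even_or_odd m with ⟨j, hj⟩ | ⟨j, hj⟩
    · subst hj
      rw [Cfsg.Agent.Lib.Helper25.Spin.pow_mod_four_even ⟨k, hk⟩]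
      constructor
      · intro _ h
        obtain ⟨h1, -⟩ := h
        rcases h1 with ⟨i, hi⟩
        omega
      · intro _
        rfl
    · subst hj
      rw [Cfsg.Agent.Lib.Helper25.Spin.pow_mod_four_odd ⟨k, hk⟩]
      constructor
      · intro h1 h
        omega
      · intro h
        by_contra h1
        apply h
        refine ⟨⟨j, rfl⟩, ?_⟩
        omega
  refine ⟨?_, ?_, ?_⟩
  · intro hc
    apply kA
    intro hex
    exact (hnum.1 (hS.1 hex)) hc
  · rintro ⟨hmo, hq⟩
    apply kB _ hmo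
    apply hS.2
    apply hnum.2
    rintro ⟨-, h3⟩
    omega
  · intro hme
    apply kC _ hme
    apply hS.2
    apply hnum.2
    rintro ⟨hmo, -⟩
    exact (Nat.not_even_iff_odd.2 hmo) hme

end Cfsg.Agent.S2725
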