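import Cfsg.Statements.S2726
import Cfsg.Agent.Lib.Helper25.POmegaSimForms
-- import your own Cfsg.Agent.* helpers here

set_option autoImplicit false
open Cfsg

namespace Cfsg.Agent.S2726

set_option maxHeartbeats 800000

/-- Let T = PΩ⁻_{2m+2}(F) with m ≥ 3 and |F| = q odd (form with anisotropic binary part). Inside Aut(T), the image G̃ of the conformal orthogonal group of the form modulo the image of the special orthogonal group is elementary abelian of order 4. -/
theorem result {F : Type*} [Field F] [Fintype F] (hodd : Odd (Fintype.card F)) {m : ℕ} (hm : 3 ≤ m) (a b : F) (hab : (∀ z₁ z₂ : F, z₁ ^ 2 + a * z₁ * z₂ + b * z₂ ^ 2 = 0 → z₁ = 0 ∧ z₂ = 0)) :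
    (∃ φ : ↥(Cfsg.pgoAut F (Cfsg.quadFormMinus m F a b)) →* Multiplicative (ZMod 2 × ZMod 2), Function.Surjective φ ∧ φ.ker = (Cfsg.psoAut F (Cfsg.quadFormMinus m F a b)).subgroupOf (Cfsg.pgoAut F (Cfsg.quadFormMinus m F a b))) := by
  have h2 := Cfsg.Agent.Lib.Helper25.Spin.two_ne_zero_of_odd_card hodd
  have hD : a ^ 2 - 4 * b ≠ 0 := Cfsg.Agent.Lib.Helper14.OrthMinus.disc_ne_zero hab
  obtain ⟨ν, hν⟩ := FiniteField.exists_nonsquare (F := F)
    (Cfsg.Agent.Lib.Helper25.Spin.ringChar_ne_two h2)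
  have hodd' : Fintype.card F % 2 = 1 := Nat.odd_iff.1 hodd
  obtain ⟨x, y, hxy⟩ := Cfsg.Agent.Lib.Helper25.PSim.binary_universal a b hodd' h2 hD ν
  have hA : ∀ v, Cfsg.quadFormMinus m F a b
      (Matrix.mulVec (Cfsg.Agent.Lib.Helper25.PSim.minusSimMatrix m a b x y) v) =
      ν * Cfsg.quadFormMinus m F a b v := by
    intro v
    have := Cfsg.Agent.Lib.Helper25.PSim.minus_sim m a b x y v
    rw [hxy] at this
    exact this
  have hc1 : Fintype.card ((Fin m ⊕ Fin m) ⊕ Fin 2) = 2 * (m + 1) := by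
    simp only [Fintype.card_sum, Fintype.card_fin]; ring
  have hc2 : 7 ≤ Fintype.card ((Fin m ⊕ Fin m) ⊕ Fin 2) := by
    simp only [Fintype.card_sum, Fintype.card_fin]; omega
  have key := Cfsg.Agent.Lib.Helper25.PSim.exists_hom_pgo_pso'
    (Cfsg.Agent.Lib.Helper25.Spin.qfOf
      (Cfsg.Agent.Lib.Helper14.OrthMinus.isQF_minus (F := F) (n := m) hD)) h2
    (Cfsg.Agent.Lib.Helper25.Spin.qfOf_nondeg _) hc1 hc2
    (Cfsg.Agent.Lib.Helper25.PSim.minusSimMatrix m a b x y) ν hν hA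
  exact key

end Cfsg.Agent.S2726
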