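import Cfsg.Statements.S2727
import Cfsg.Agent.Lib.Helper25.POmegaAut
import Cfsg.Agent.Lib.Helper25.SpinMinus
-- import your own Cfsg.Agent.* helpers here

set_option autoImplicit false
open Cfsg

namespace Cfsg.Agent.S2727

/-- Let T = PΩ⁻_{2m+2}(F) with m ≥ 3 and |F| = q odd (form with anisotropic binary part). The image of the special orthogonal group in Aut(T) contains the inner automorphism group T with index 2 when m is even and q ≡ 3 (mod 4), and coincides with it otherwise (the index is 2 exactly when the discriminant of the form is a square). -/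
theorem result {F : Type*} [Field F] [Fintype F] (hodd : Odd (Fintype.card F)) {m : ℕ} (hm : 3 ≤ m) (a b : F) (hab : (∀ z₁ z₂ : F, z₁ ^ 2 + a * z₁ * z₂ + b * z₂ ^ 2 = 0 → z₁ = 0 ∧ z₂ = 0)) :
    ((Even m ∧ Fintype.card F % 4 = 3) → (Cfsg.Inn (Cfsg.POmega F (Cfsg.quadFormMinus m F a b))).relIndex (Cfsg.psoAut F (Cfsg.quadFormMinus m F a b)) = 2) ∧ (¬ (Even m ∧ Fintype.card F % 4 = 3) → (Cfsg.Inn (Cfsg.POmega F (Cfsg.quadFormMinus m F a b))).relIndex (Cfsg.psoAut F (Cfsg.quadFormMinus m F a b)) = 1) := by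
  have h2 := Cfsg.Agent.Lib.Helper25.Spin.two_ne_zero_of_odd_card hodd
  have hD : a ^ 2 - 4 * b ≠ 0 := Cfsg.Agent.Lib.Helper14.OrthMinus.disc_ne_zero hab
  have key := Cfsg.Agent.Lib.Helper25.PAut.relIndex_inn_pso
    (Cfsg.Agent.Lib.Helper25.Spin.qfOf
      (Cfsg.Agent.Lib.Helper14.OrthMinus.isQF_minus (F := F) (n := m) hD)) h2
    (Cfsg.Agent.Lib.Helper25.Spin.qfOf_nondeg _)
    (by simp only [Fintype.card_sum, Fintype.card_fin]; omega)
    (by simp only [Fintype.card_sum, Fintype.card_fin]; exact ⟨m + 1, by ring⟩)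
  have hS := Cfsg.Agent.Lib.Helper25.Spin.neg_one_mem_omega_minus (F := F)
    (q := Fintype.card F) rfl hodd m a b hab
  have hnum : Fintype.card F ^ (m + 1) % 4 = 3 ↔ (Even m ∧ Fintype.card F % 4 = 3) := by
    obtain ⟨k, hk⟩ := hodd
    rcases Nat.even_or_odd m with ⟨j, hj⟩ | ⟨j, hj⟩
    · subst hj
      have e : j + j + 1 = 2 * j + 1 := by ring
      rw [e, Cfsg.Agent.Lib.Helper25.Spin.pow_mod_four_odd ⟨k, hk⟩]
      constructor
      · intro h
        exact ⟨⟨j, rfl⟩, h⟩
      · intro h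
        exact h.2
    · subst hj
      have e : 2 * j + 1 + 1 = (j + 1) + (j + 1) := by ring
      rw [e, Cfsg.Agent.Lib.Helper25.Spin.pow_mod_four_even ⟨k, hk⟩]
      constructor
      · intro h
        omega
      · intro h
        obtain ⟨⟨i, hi⟩, -⟩ := h
        omega
  constructor
  · intro hc
    apply key.1
    exact hS.2 (hnum.2 hc)
  · intro hc
    apply key.2
    intro hex
    exact hc (hnum.1 (hS.1 hex))

end Cfsg.Agent.S2727
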