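import Cfsg.Statements.S2728
import Cfsg.Agent.Lib.Helper25.POmegaSim4
import Cfsg.Agent.Lib.Helper25.SpinMinus
-- import your own Cfsg.Agent.* helpers here

set_option autoImplicit false
open Cfsg

namespace Cfsg.Agent.S2728

set_option maxHeartbeats 1600000

/-- Let T = PΩ⁻_{2m+2}(F) with m ≥ 3 and |F| = q odd (form with anisotropic binary part). The image G̃ of the conformal orthogonal group in Aut(T), taken modulo the inner automorphism group T, is dihedral of order 8 when m is even and q ≡ 3 (mod 4), and elementary abelian of order 4 otherwise. -/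
theorem result {F : Type*} [Field F] [Fintype F] (hodd : Odd (Fintype.card F)) {m : ℕ} (hm : 3 ≤ m) (a b : F) (hab : (∀ z₁ z₂ : F, z₁ ^ 2 + a * z₁ * z₂ + b * z₂ ^ 2 = 0 → z₁ = 0 ∧ z₂ = 0)) :
    ((Even m ∧ Fintype.card F % 4 = 3) → (∃ φ : ↥(Cfsg.pgoAut F (Cfsg.quadFormMinus m F a b)) →* DihedralGroup 4, Function.Surjective φ ∧ φ.ker = (Cfsg.Inn (Cfsg.POmega F (Cfsg.quadFormMinus m F a b))).subgroupOf (Cfsg.pgoAut F (Cfsg.quadFormMinus m F a b)))) ∧ (¬ (Even m ∧ Fintype.card F % 4 = 3) → (∃ φ : ↥(Cfsg.pgoAut F (Cfsg.quadFormMinus m F a b)) →* Multiplicative (ZMod 2 × ZMod 2), Function.Surjective φ ∧ φ.ker = (Cfsg.Inn (Cfsg.POmega F (Cfsg.quadFormMinus m F a b))).subgroupOf (Cfsg.pgoAut F (Cfsg.quadFormMinus m F a b)))) := by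
  have h2 := Cfsg.Agent.Lib.Helper25.Spin.two_ne_zero_of_odd_card hodd
  have hD : a ^ 2 - 4 * b ≠ 0 := Cfsg.Agent.Lib.Helper14.OrthMinus.disc_ne_zero hab
  obtain ⟨ν, hν⟩ := FiniteField.exists_nonsquare (F := F)
    (Cfsg.Agent.Lib.Helper25.Spin.ringChar_ne_two h2)
  have hodd' : Fintype.card F % 2 = 1 := Nat.odd_iff.1 hodd
  obtain ⟨x, y, hxy⟩ := Cfsg.Agent.Lib.Helper25.PSim.binary_universal a b hodd' h2 hD ν
  have hA : ∀ v, Cfsg.quadFormMinus m F a b
      (Matrix.mulVec (Cfsg.Agent.Lib.Helper25.PSim.minusSimMatrix m a b x y) v) =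
      ν * Cfsg.quadFormMinus m F a b v := by
    intro v
    have := Cfsg.Agent.Lib.Helper25.PSim.minus_sim m a b x y v
    rw [hxy] at this
    exact this
  have hc1 : Fintype.card ((Fin m ⊕ Fin m) ⊕ Fin 2) = 2 * (m + 1) := by
    simp only [Fintype.card_sum, Fintype.card_fin]; ring
  have hc2 : 7 ≤ Fintype.card ((Fin m ⊕ Fin m) ⊕ Fin 2) := by
    simp only [Fintype.card_sum, Fintype.card_fin]; omega
  have keyD := Cfsg.Agent.Lib.Helper25.PSim.exists_hom_pgo_inn_D8'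
    (Cfsg.Agent.Lib.Helper25.Spin.qfOf
      (Cfsg.Agent.Lib.Helper14.OrthMinus.isQF_minus (F := F) (n := m) hD)) h2
    (Cfsg.Agent.Lib.Helper25.Spin.qfOf_nondeg _) hc1 hc2
    (Cfsg.Agent.Lib.Helper25.PSim.minusSimMatrix m a b x y) ν hν hA
  have keyK := Cfsg.Agent.Lib.Helper25.PSim.exists_hom_pgo_inn_klein
    (Cfsg.Agent.Lib.Helper25.Spin.qfOf
      (Cfsg.Agent.Lib.Helper14.OrthMinus.isQF_minus (F := F) (n := m) hD)) h2
    (Cfsg.Agent.Lib.Helper25.Spin.qfOf_nondeg _) hc1 hc2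
    (Cfsg.Agent.Lib.Helper25.PSim.minusSimMatrix m a b x y) ν hν hA
  have hS := Cfsg.Agent.Lib.Helper25.Spin.neg_one_mem_omega_minus (F := F)
    (q := Fintype.card F) rfl hodd m a b hab
  have hnum : Fintype.card F ^ (m + 1) % 4 = 3 ↔ (Even m ∧ Fintype.card F % 4 = 3) := by
    obtain ⟨k, hk⟩ := hodd
    rcases Nat.even_or_odd m with ⟨j, hj⟩ | ⟨j, hj⟩
    · subst hj
      have e : j + j + 1 = 2 * j + 1 := by ring
      rw [e, Cfsg.Agent.Lib.Helper25.Spin.pow_mod_four_odd ⟨k, hk⟩]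
      constructor
      · intro h
        exact ⟨⟨j, rfl⟩, h⟩
      · intro h
        exact h.2
    · subst hj
      have e : 2 * j + 1 + 1 = (j + 1) + (j + 1) := by ring
      rw [e, Cfsg.Agent.Lib.Helper25.Spin.pow_mod_four_even ⟨k, hk⟩]
      constructor
      · intro h
        omega
      · intro h
        obtain ⟨⟨i, hi⟩, -⟩ := h
        omega
  constructor
  · intro hc
    apply keyD
    exact hS.2 (hnum.2 hc)
  · intro hc
    apply keyK
    intro hex
    exact hc (hnum.1 (hS.1 hex))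

end Cfsg.Agent.S2728
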