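import Cfsg.Statements.S2729
import Cfsg.Agent.Lib.Helper25.InndiagMinus3
-- import your own Cfsg.Agent.* helpers here

set_option autoImplicit false
open Cfsg

namespace Cfsg.Agent.S2729

set_option maxHeartbeats 1600000

/-- Let T = PΩ⁻_{2m+2}(F) with m ≥ 3 and |F| = q odd (form with anisotropic binary part). The inner-diagonal group G = Inndiag(T) (image of the class-preserving similarities) taken modulo the inner automorphism group T is cyclic of order 4 when m is even and q ≡ 3 (mod 4), and of order 2 otherwise. -/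
theorem result {F : Type*} [Field F] [Fintype F] (hodd : Odd (Fintype.card F)) {m : ℕ} (hm : 3 ≤ m) (a b : F) (hab : (∀ z₁ z₂ : F, z₁ ^ 2 + a * z₁ * z₂ + b * z₂ ^ 2 = 0 → z₁ = 0 ∧ z₂ = 0)) :
    ((Even m ∧ Fintype.card F % 4 = 3) → (∃ φ : ↥(Cfsg.inndiagPOmegaMinus m F a b) →* Multiplicative (ZMod 4), Function.Surjective φ ∧ φ.ker = (Cfsg.Inn (Cfsg.POmega F (Cfsg.quadFormMinus m F a b))).subgroupOf (Cfsg.inndiagPOmegaMinus m F a b))) ∧ (¬ (Even m ∧ Fintype.card F % 4 = 3) → (∃ φ : ↥(Cfsg.inndiagPOmegaMinus m F a b) →* Multiplicative (ZMod 2), Function.Surjective φ ∧ φ.ker = (Cfsg.Inn (Cfsg.POmega F (Cfsg.quadFormMinus m F a b))).subgroupOf (Cfsg.inndiagPOmegaMinus m F a b))) := by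
  have hcases := Cfsg.Agent.Lib.Helper25.PSim.inndiag_minus_cases m a b hodd hm hab
  have hS := Cfsg.Agent.Lib.Helper25.Spin.neg_one_mem_omega_minus (F := F)
    (q := Fintype.card F) rfl hodd m a b hab
  have hnum : Fintype.card F ^ (m + 1) % 4 = 3 ↔ (Even m ∧ Fintype.card F % 4 = 3) := by
    obtain ⟨k, hk⟩ := hodd
    rcases Nat.even_or_odd m with ⟨j, hj⟩ | ⟨j, hj⟩
    · subst hj
      have e : j + j + 1 = 2 * j + 1 := by ring
      rw [e, Cfsg.Agent.Lib.Helper25.Spin.pow_mod_four_odd ⟨k, hk⟩]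
      constructor
      · intro h
        exact ⟨⟨j, rfl⟩, h⟩
      · intro h
        exact h.2
    · subst hj
      have e : 2 * j + 1 + 1 = (j + 1) + (j + 1) := by ring
      rw [e, Cfsg.Agent.Lib.Helper25.Spin.pow_mod_four_even ⟨k, hk⟩]
      constructor
      · intro h
        omega
      · intro h
        obtain ⟨⟨i, hi⟩, -⟩ := h
        omega
  constructor
  · intro hc
    apply hcases.2 (hS.2 (hnum.2 hc))
    rw [FiniteField.isSquare_neg_one_iff]
    intro h
    exact h hc.2
  · intro hc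
    apply hcases.1
    intro hex
    exact hc (hnum.1 (hS.1 hex))

end Cfsg.Agent.S2729
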