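import Cfsg.Statements.S2731
-- import your own Cfsg.Agent.* helpers here
import Mathlib
import Cfsg.Agent.S2694
import Cfsg.Agent.S0292
import Cfsg.Agent.Lib.Helper18.OrthBalF

set_option autoImplicit false
open Cfsg

namespace Cfsg.Agent.S2731

theorem four_dvd_prod {q : ℕ} (hq : Odd q) {m : ℕ} (hm : 3 ≤ m) :
    4 ∣ q ^ (m ^ 2) * ∏ i ∈ Finset.range m, (q ^ (2 * (i + 1)) - 1) := by
  obtain ⟨k, rfl⟩ : ∃ k, m = k + 1 := ⟨m - 1, by omega⟩
  rw [Finset.prod_range_succ']
  apply Dvd.dvd.mul_left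
  apply Dvd.dvd.mul_left
  obtain ⟨t, rfl⟩ := hq
  refine ⟨t * (t + 1), ?_⟩
  have : (2 * t + 1) ^ (2 * (0 + 1)) = 4 * (t * (t + 1)) + 1 := by ring
  rw [this]
  omega

theorem odd_card_of_two_ne_zero' {F₀ : Type*} [Field F₀] [Fintype F₀] (h2 : (2 : F₀) ≠ 0) :
    Odd (Fintype.card F₀) := by
  rw [Nat.odd_iff]
  apply FiniteField.odd_card_of_char_ne_two
  intro hc
  apply h2
  have h : ((ringChar F₀ : ℕ) : F₀) = 0 := ringChar.Nat.cast_ringChar
  rw [hc] at h
  exact_mod_cast h

theorem even_card_odd {F₀ : Type*} [Field F₀] [Fintype F₀] (h2 : (2 : F₀) ≠ 0)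
    {m : ℕ} (hm : 3 ≤ m) : Even (Nat.card (Cfsg.POmega F₀ (Cfsg.quadFormOdd m F₀))) := by
  have hodd := odd_card_of_two_ne_zero' h2
  have h := Cfsg.Agent.S0292.result (F := F₀) rfl hodd m hm
  have h4 := four_dvd_prod hodd hm
  rw [← h] at h4
  rw [even_iff_two_dvd]
  omega


/-- A criterion for the failure of local balance in almost simple groups whose socle is an odd-dimensional orthogonal group Ω_{2m+1}(F) (m ≥ 3, |F| odd; the form x₀² + Σ xᵢ yᵢ). Let F be a finite field of characteristic r and K the (simple) group in question; let A be a group of automorphisms of K containing all inner automorphisms, and x ∈ A an automorphism of prime order p ≠ r that is not inner-diagonal (not induced by a similarity of the form). Then the largest normal subgroup of C_A(x) of order prime to p is nontrivial if and only if x is a field automorphism of K (conjugate under Aut(K) to a non-identity standard field automorphism) and p does not divide the number of fixed points of x on K.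 -/
theorem result {F : Type*} [Field F] [Fintype F] {r : ℕ} [Fact r.Prime] [CharP F r] (hodd : Odd (Fintype.card F)) {m : ℕ} (hm : 3 ≤ m) (hK : IsSimpleGroup (Cfsg.POmega F (Cfsg.quadFormOdd m F))) (A : Subgroup (MulAut (Cfsg.POmega F (Cfsg.quadFormOdd m F)))) (hinn : ∀ k : Cfsg.POmega F (Cfsg.quadFormOdd m F), MulAut.conj k ∈ A) {p : ℕ} [Fact p.Prime] (hpr : p ≠ r) (x : MulAut (Cfsg.POmega F (Cfsg.quadFormOdd m F))) (hxA : x ∈ A) (hord : orderOf x = p) (hnot : ¬ Cfsg.IsInnerDiagonalAutPOmegaOdd m x) :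
    Cfsg.pPrimeCore p ↥(A ⊓ Subgroup.centralizer {x}) ≠ ⊥ ↔ (Cfsg.IsFieldAutClassPOmega (Cfsg.quadFormOdd m F) x ∧ Nat.Coprime p (Nat.card ↥(MonoidHom.eqLocus x.toMonoidHom (MonoidHom.id (Cfsg.POmega F (Cfsg.quadFormOdd m F)))))) := by
  exact Cfsg.Agent.Lib.Helper18.OrthBal.odd_balance_main hodd hm
    (Cfsg.Agent.S2694.result hodd hm) (fun F₀ _ _ h2₀ => even_card_odd h2₀ hm) A hinn x hord hnot

end Cfsg.Agent.S2731
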