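import Cfsg.Statements.S2734
import Cfsg.Agent.Lib.Helper7.D4G2c
-- import your own Cfsg.Agent.* helpers here

set_option autoImplicit false
open Cfsg

namespace Cfsg.Agent.S2734

/-- In the Chevalley group of type D₄ over a finite field F (the matrix group generated by the root elements), a graph automorphism attached to a symmetry π of the Dynkin diagram (sending each fundamental root element x_p(t) to x_{π(p)}(t) and each x_{−p}(t) to x_{−π(p)}(t)) that has order 3 — a standard triality graph automorphism, π being a 3-cycle of the three outer nodes — has fixed-point subgroup isomorphic to the Chevalley group of type G₂ over F. -/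
theorem result {F : Type*} [Field F] [Fintype F] (τ : MulAut ↥(Cfsg.Lie.chevD4.group F)) (hτ : Cfsg.Lie.chevD4.IsGraphAut τ) (hτ3 : orderOf τ = 3) :
    Nonempty (↥(MonoidHom.eqLocus τ.toMonoidHom (MonoidHom.id ↥(Cfsg.Lie.chevD4.group F))) ≃* ↥(Cfsg.Lie.chevG2.group F)) := by
  obtain ⟨π, hπsym, hπ⟩ := hτ
  have hτ' : ∀ (g : ↥(Cfsg.Lie.chevD4.group F)) (i : Fin Cfsg.Lie.chevD4.rank) (t : F),
      (((g : GL Cfsg.Lie.chevD4.Idx F) : Matrix Cfsg.Lie.chevD4.Idx Cfsg.Lie.chevD4.Idx F) =
          Cfsg.Lie.chevD4.x F (Cfsg.Lie.chevD4.simple i) t →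
        ((τ g : GL Cfsg.Lie.chevD4.Idx F) : Matrix Cfsg.Lie.chevD4.Idx Cfsg.Lie.chevD4.Idx F) =
          Cfsg.Lie.chevD4.x F (Cfsg.Lie.chevD4.simple (π i)) t) ∧
      (((g : GL Cfsg.Lie.chevD4.Idx F) : Matrix Cfsg.Lie.chevD4.Idx Cfsg.Lie.chevD4.Idx F) =
          Cfsg.Lie.chevD4.x F (Cfsg.Lie.chevD4.neg (Cfsg.Lie.chevD4.simple i)) t →
        ((τ g : GL Cfsg.Lie.chevD4.Idx F) : Matrix Cfsg.Lie.chevD4.Idx Cfsg.Lie.chevD4.Idx F) =
          Cfsg.Lie.chevD4.x F (Cfsg.Lie.chevD4.neg (Cfsg.Lie.chevD4.simple (π i))) t) := by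
    intro g i t
    have h := hπ g i t
    rw [Cfsg.Agent.Lib.Helper7.D4G2.d4_graphExp _ _ _ i.isLt (π i).isLt, pow_one] at h
    exact h
  -- an involutory permutation is impossible
  have hinv : (∀ i, π (π i) = i) → False := by
    intro hππ
    have h2 : τ ^ 2 = 1 := by
      apply MulEquiv.ext
      intro y
      rw [pow_two]
      exact Cfsg.Agent.Lib.Helper7.D4G2.aut_sq_eq_one F τ π hππ hτ' y
    have := orderOf_dvd_of_pow_eq_one h2
    rw [hτ3] at this
    omega
  have hmem := Cfsg.Agent.Lib.Helper7.permVals_mem_of_allExt Cfsg.Lie.chevD4 _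
    Cfsg.Agent.Lib.Helper7.symAll_D4 π hπsym
  simp only [List.mem_cons, List.not_mem_nil, or_false] at hmem
  have hsq : ∀ pv : List ℕ, (∀ i < 4, pv.getD (pv.getD i 0) 0 = i) →
      (List.range Cfsg.Lie.chevD4.rank).map (Cfsg.Agent.Lib.Helper7.permVals π) = pv → False := by
    intro pv hpv h
    apply hinv
    intro i
    have h1 := Cfsg.Agent.Lib.Helper7.permVals_eq_of_map_eq π _ h
    apply Fin.ext
    rw [h1 (π i), h1 i]
    exact hpv i.val i.isLt
  rcases hmem with h | h | h | h | h | h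
  · exact (hsq _ (by decide) h).elim
  · exact Cfsg.Agent.Lib.Helper7.D4G2.fix_equiv_g2 F τ π
      (Cfsg.Agent.Lib.Helper7.permVals_eq_of_map_eq π _ h) hτ'
  · have h1 := Cfsg.Agent.Lib.Helper7.permVals_eq_of_map_eq π _ h
    have hsymm : ∀ i : Fin Cfsg.Lie.chevD4.rank,
        (π.symm i).val = Cfsg.Agent.Lib.Helper7.grPv_D4_1.getD i.val 0 := by
      intro i
      have hlt : Cfsg.Agent.Lib.Helper7.grPv_D4_1.getD i.val 0 < Cfsg.Lie.chevD4.rank := by
        have : ∀ j < 4, Cfsg.Agent.Lib.Helper7.grPv_D4_1.getD j 0 < 4 := by decide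
        exact this i.val i.isLt
      have e : π ⟨Cfsg.Agent.Lib.Helper7.grPv_D4_1.getD i.val 0, hlt⟩ = i := by
        apply Fin.ext
        rw [h1]
        have : ∀ j < 4, Cfsg.Agent.Lib.Helper7.grPv_D4_2.getD
            (Cfsg.Agent.Lib.Helper7.grPv_D4_1.getD j 0) 0 = j := by decide
        exact this i.val i.isLt
      rw [← e, Equiv.symm_apply_apply, e]
    obtain ⟨e⟩ := Cfsg.Agent.Lib.Helper7.D4G2.fix_equiv_g2 F τ.symm π.symm hsymm
      (Cfsg.Agent.Lib.Helper7.D4G2.aut_symm F τ π hτ')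
    have heq : MonoidHom.eqLocus τ.toMonoidHom (MonoidHom.id ↥(Cfsg.Lie.chevD4.group F)) =
        MonoidHom.eqLocus τ.symm.toMonoidHom (MonoidHom.id ↥(Cfsg.Lie.chevD4.group F)) := by
      ext y
      constructor
      · intro hy
        have hy' : τ y = y := hy
        show τ.symm y = y
        rw [MulEquiv.symm_apply_eq, hy']
      · intro hy
        have hy' : τ.symm y = y := hy
        show τ y = y
        have := congrArg τ hy'
        rw [MulEquiv.apply_symm_apply] at this
        exact this.symm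
    exact ⟨(MulEquiv.subgroupCongr heq).trans e⟩
  · exact (hsq _ (by decide) h).elim
  · exact (hsq _ (by decide) h).elim
  · exact (hsq _ (by decide) h).elim

end Cfsg.Agent.S2734
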