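import Cfsg.Statements.S2738
-- import your own Cfsg.Agent.* helpers here

set_option autoImplicit false
open Cfsg

namespace Cfsg.Agent.S2738

open Matrix

theorem comm_central {G : Type*} [Group G] (z₁ z₂ a b : G) (h1 : z₁ ∈ Subgroup.center G) (h2 : z₂ ∈ Subgroup.center G) :
    (z₁ * a) * (z₂ * b) * (z₁ * a)⁻¹ * (z₂ * b)⁻¹ = a * b * a⁻¹ * b⁻¹ := by
  have c1 : ∀ g, g * z₁ = z₁ * g := fun g => Subgroup.mem_center_iff.mp h1 g
  have c2 : ∀ g, g * z₂ = z₂ * g := fun g => Subgroup.mem_center_iff.mp h2 g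
  have e1 : z₁ * a * (z₂ * b) = z₁ * z₂ * (a * b) := by
    rw [mul_assoc, ← mul_assoc a z₂ b, c2 a]; group
  have e2 : (z₁ * a)⁻¹ = z₁⁻¹ * a⁻¹ := by
    rw [← c1 a, _root_.mul_inv_rev]
  have e3 : (z₂ * b)⁻¹ = z₂⁻¹ * b⁻¹ := by
    rw [← c2 b, _root_.mul_inv_rev]
  have c1' : ∀ g, g * z₁⁻¹ = z₁⁻¹ * g := fun g => Subgroup.mem_center_iff.mp (Subgroup.inv_mem _ h1) g
  have c2' : ∀ g, g * z₂⁻¹ = z₂⁻¹ * g := fun g => Subgroup.mem_center_iff.mp (Subgroup.inv_mem _ h2) g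
  rw [e1, e2, e3]
  calc z₁ * z₂ * (a * b) * (z₁⁻¹ * a⁻¹) * (z₂⁻¹ * b⁻¹)
      = z₁ * z₂ * ((a * b) * z₁⁻¹) * a⁻¹ * z₂⁻¹ * b⁻¹ := by group
    _ = z₁ * z₂ * (z₁⁻¹ * (a * b)) * a⁻¹ * z₂⁻¹ * b⁻¹ := by rw [c1']
    _ = z₁ * (z₂ * z₁⁻¹) * ((a * b * a⁻¹) * z₂⁻¹) * b⁻¹ := by group
    _ = z₁ * (z₁⁻¹ * z₂) * (z₂⁻¹ * (a * b * a⁻¹)) * b⁻¹ := by rw [c1', c2']
    _ = a * b * a⁻¹ * b⁻¹ := by group

theorem detA {F : Type*} [Field F] (ω : F) (h3 : ω ^ 3 = 1) :
    (!![1, 0, 0; 0, ω, 0; 0, 0, ω ^ 2] : Matrix (Fin 3) (Fin 3) F).det = 1 := by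
  rw [Matrix.det_fin_three]
  simp
  linear_combination h3

theorem detB {F : Type*} [Field F] :
    (!![0, 1, 0; 0, 0, 1; 1, 0, 0] : Matrix (Fin 3) (Fin 3) F).det = 1 := by
  rw [Matrix.det_fin_three]
  simp

theorem detC {F : Type*} [Field F] (ω : F) (h3 : ω ^ 3 = 1) :
    (ω ^ 2 • (1 : Matrix (Fin 3) (Fin 3) F)).det = 1 := by
  rw [Matrix.det_smul, Matrix.det_one, mul_one, Fintype.card_fin, ← pow_mul]
  have : 2 * 3 = 3 * 2 := by norm_num
  rw [this, pow_mul, h3, one_pow]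

theorem weyl {F : Type*} [Field F] (ω : F) (h3 : ω ^ 3 = 1) :
    (!![1, 0, 0; 0, ω, 0; 0, 0, ω ^ 2] : Matrix (Fin 3) (Fin 3) F) * !![0, 1, 0; 0, 0, 1; 1, 0, 0]
     = (ω ^ 2 • (1 : Matrix (Fin 3) (Fin 3) F)) * !![0, 1, 0; 0, 0, 1; 1, 0, 0] * !![1, 0, 0; 0, ω, 0; 0, 0, ω ^ 2] := by
  ext i j
  fin_cases i <;> fin_cases j <;> simp [Matrix.mul_apply, Fin.sum_univ_three] <;>
    first | linear_combination -h3 | linear_combination (-ω) * h3

/-- The special linear group SL(3, 4) has centre of order 3 and does not split over it: no subgroup is a complement to the centre (so SL(3, 4) is a non-split central extension of PSL(3, 4) by a group of order 3). -/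
theorem result (F : Type*) [Field F] [Fintype F] (hF : Fintype.card F = 4) : Nat.card ↥(Subgroup.center (Matrix.SpecialLinearGroup (Fin 3) F)) = 3 ∧ ¬ ∃ K : Subgroup (Matrix.SpecialLinearGroup (Fin 3) F), Subgroup.IsComplement' (Subgroup.center (Matrix.SpecialLinearGroup (Fin 3) F)) K := by
  classical
  have hunits : Fintype.card Fˣ = 3 := by rw [Fintype.card_units, hF]
  have hcube : ∀ u : Fˣ, u ^ 3 = 1 := by
    intro u
    rw [← hunits]; exact pow_card_eq_one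
  constructor
  · rw [Nat.card_congr (Matrix.SpecialLinearGroup.center_equiv_rootsOfUnity (n := Fin 3) (R := F)).toEquiv]
    have h3 : max (Fintype.card (Fin 3)) 1 = 3 := by simp
    rw [h3]
    have htop : rootsOfUnity 3 F = ⊤ := by
      ext u
      simp only [mem_rootsOfUnity, Subgroup.mem_top, iff_true]
      exact hcube u
    rw [htop, Nat.card_congr Subgroup.topEquiv.toEquiv, Nat.card_eq_fintype_card, hunits]
  · rintro ⟨K, hK⟩
    -- a primitive cube root of unity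
    obtain ⟨u, hu1⟩ : ∃ u : Fˣ, u ≠ 1 := by
      by_contra h
      push_neg at h
      have : Fintype.card Fˣ ≤ 1 := Fintype.card_le_one_iff.mpr (fun a b => by rw [h a, h b])
      omega
    set ω : F := (u : F) with hω
    have h3 : ω ^ 3 = 1 := by
      have := congrArg (fun v : Fˣ => (v : F)) (hcube u)
      simpa using this
    have hω1 : ω ≠ 1 := by
      intro h
      apply hu1
      apply Units.ext
      rw [Units.val_one]
      exact h
    set A : Matrix.SpecialLinearGroup (Fin 3) F := ⟨!![1, 0, 0; 0, ω, 0; 0, 0, ω ^ 2], detA ω h3⟩ with hA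
    set B : Matrix.SpecialLinearGroup (Fin 3) F := ⟨!![0, 1, 0; 0, 0, 1; 1, 0, 0], detB⟩ with hB
    set C : Matrix.SpecialLinearGroup (Fin 3) F := ⟨ω ^ 2 • (1 : Matrix (Fin 3) (Fin 3) F), detC ω h3⟩ with hC
    have hABC : A * B = C * B * A := by
      apply Subtype.ext
      exact weyl ω h3
    have hCcomm : C = A * B * A⁻¹ * B⁻¹ := by
      rw [hABC]; group
    have hCcenter : C ∈ Subgroup.center (Matrix.SpecialLinearGroup (Fin 3) F) := by
      rw [Matrix.SpecialLinearGroup.mem_center_iff]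
      refine ⟨ω ^ 2, ?_, ?_⟩
      · rw [Fintype.card_fin, ← pow_mul]
        have : 2 * 3 = 3 * 2 := by norm_num
        rw [this, pow_mul, h3, one_pow]
      · rw [hC]
        simp [Matrix.smul_one_eq_diagonal]
    -- decompose A and B
    obtain ⟨⟨z₁, k₁⟩, h1⟩ := hK.2 A
    obtain ⟨⟨z₂, k₂⟩, h2⟩ := hK.2 B
    simp only at h1 h2
    have hCK : C ∈ K := by
      rw [hCcomm, ← h1, ← h2, comm_central _ _ _ _ z₁.2 z₂.2]
      exact K.mul_mem (K.mul_mem (K.mul_mem k₁.2 k₂.2) (K.inv_mem k₁.2)) (K.inv_mem k₂.2)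
    have hC1 : C = 1 := by
      have := hK.disjoint
      rw [Subgroup.disjoint_def] at this
      exact this hCcenter hCK
    -- so ω^2 = 1, contradiction
    have hentry := congrArg (fun M : Matrix.SpecialLinearGroup (Fin 3) F => (M : Matrix (Fin 3) (Fin 3) F) 0 0) hC1
    simp [hC] at hentry
    rcases hentry with h | h
    · exact hω1 h
    · apply hω1
      rw [h] at h3
      rw [h]
      linear_combination h3

end Cfsg.Agent.S2738
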