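import Cfsg.Statements.S2752
-- import your own Cfsg.Agent.* helpers here
import Cfsg.Agent.Lib.Helper16.SFMain
import Cfsg.Agent.Lib.Helper17.SFconjBridge
import Cfsg.Agent.Lib.Helper4.SFdual

set_option autoImplicit false
universe u
open Cfsg

namespace Cfsg.Agent.S2752

/-- Let M be an elementary abelian 2-subgroup of a finite group L and G a subgroup of L acting faithfully on M by conjugation (G normalizes M and meets C(M) trivially). Assume O₂(G) = 1, the symmetric group of degree 3 is not involved in G, and every non-abelian composition factor of G is a Suzuki group Sz(2^(2n+1)) or a group PSL₂(3^(2n+1)). Then every elementary abelian 2-subgroup A of G satisfies |M / C_M(A)| ≥ |A|² and |[M, A]| ≥ |A|². -/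
theorem result {L : Type u} [Group L] [Finite L] (M G : Subgroup L) (hM : Cfsg.IsElementaryAbelian 2 M) (hGM : G ≤ Subgroup.normalizer (M : Set L)) (hf : G ⊓ Subgroup.centralizer (M : Set L) = ⊥) (ha : Cfsg.pCore 2 ↥G = ⊥) (hb : ¬ Cfsg.Involves (Equiv.Perm (Fin 3)) ↥G) (hc : Cfsg.IsCompositionKGroupWith Cfsg.IsSuzukiOrPSL2OddPowerThree ↥G) (A : Subgroup L) (hA : A ≤ G) (hAe : Cfsg.IsElementaryAbelian 2 A) : Nat.card A ^ 2 * Nat.card ↥(M ⊓ Subgroup.centralizer (A : Set L)) ≤ Nat.card M ∧ Nat.card A ^ 2 ≤ Nat.card ↥⁅M, A⁆ := by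
  letI := Cfsg.Agent.Lib.Helper16.SF.conjMDMA M G hGM
  obtain ⟨hfaith, hbr⟩ := Cfsg.Agent.Lib.Helper17.SFLeaf.conjBridge M G hGM hf
  have hVc : ∀ a b : ↥M, a * b = b * a := fun a b => hM.1.is_comm.comm a b
  have hV2 : ∀ v : ↥M, v ^ 2 = 1 := fun v => Subtype.ext (by simpa using hM.2 v.1 v.2)
  have hA' : Cfsg.IsElementaryAbelian 2 (A.subgroupOf G) := by
    refine ⟨⟨⟨fun x y => ?_⟩⟩, fun b hb => ?_⟩
    · have := hAe.1.is_comm.comm ⟨x.1.1, x.2⟩ ⟨y.1.1, y.2⟩
      apply Subtype.ext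
      apply Subtype.ext
      simpa using congrArg Subtype.val this
    · have := hAe.2 b.1 hb
      exact Subtype.ext (by simpa using this)
  obtain ⟨h1, h2⟩ := hbr A hA
  have hcardA : Nat.card ↥(A.subgroupOf G) = Nat.card A := Cfsg.Agent.Lib.Helper8.ThTwo.card_subgroupOf_le hA
  constructor
  · have := Cfsg.Agent.Lib.Helper16.SFMain.main_abs (V := ↥M) hVc hV2 hfaith ha hb hc (A.subgroupOf G) hA'
    rw [h1, hcardA] at this
    exact this
  · obtain ⟨V', _, _, _, hVc', hV2', hfaith', hcard', hdual⟩ := Cfsg.Agent.Lib.Helper4.SFLeaf.dual (V := ↥M) hVc hV2 hfaith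
    have hmain := Cfsg.Agent.Lib.Helper16.SFMain.main_abs (V := V') hVc' hV2' hfaith' ha hb hc (A.subgroupOf G) hA'
    have hd := hdual (A.subgroupOf G)
    rw [hcard', ← hd, hcardA, h2, mul_comm] at hmain
    exact Nat.le_of_mul_le_mul_left hmain Nat.card_pos

end Cfsg.Agent.S2752
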