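import Cfsg.Statements.S2770
import Cfsg.Agent.Lib.Helper27.JT1

set_option autoImplicit false
open Cfsg Cfsg.Agent.Lib.Helper27.KQ Cfsg.Agent.Lib.Helper27.KL

namespace Cfsg.Agent.S2770

/-- Let G be a finite group and p a prime with C_G(O_p(G)) ≤ O_p(G), S a Sylow p-subgroup lying in exactly one maximal subgroup of G, and G/K ≅ PSL₂(p^n) for some normal K and n ≥ 1. If Z(S) is not elementary abelian, then either ℧¹(Z(S)) (the subgroup generated by the p-th powers of the elements of Z(S)) is normal in G or C_S(Z(J(S))) is normal in G, J(S) being generated by the abelian subgroups of S of largest order. -/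
theorem result {G : Type*} [Group G] [Finite G] {p : ℕ} [Fact p.Prime] (S : Sylow p G) (hE₁ : Subgroup.centralizer (Cfsg.pCore p G : Set G) ≤ Cfsg.pCore p G) (hE₂ : ∃! M : Subgroup G, IsCoatom M ∧ (S : Subgroup G) ≤ M) (K : Subgroup G) [K.Normal] (F : Type) [Field F] [Fintype F] (n : ℕ) (hn : 1 ≤ n) (hF : Fintype.card F = p ^ n) (hE₃ : Nonempty (G ⧸ K ≃* Matrix.ProjectiveSpecialLinearGroup (Fin 2) F)) (h : ¬ Cfsg.IsElementaryAbelian p ((S : Subgroup G) ⊓ Subgroup.centralizer ((S : Subgroup G) : Set G))) : (Cfsg.powerClosure p 1 ((S : Subgroup G) ⊓ Subgroup.centralizer ((S : Subgroup G) : Set G))).Normal ∨ (((S : Subgroup G) ⊓ Subgroup.centralizer (Cfsg.centerThompsonAOf (S : Subgroup G) : Set G))).Normal := by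
  classical
  have hW := posChar_JT.{u_1} p
  have hq := quadProp_JT.{u_1} p
  have hsup := group_eq_sup hW hq S hE₁
  have hXeq : agemoCenter p (S : Subgroup G) =
      Cfsg.powerClosure p 1 ((S : Subgroup G) ⊓ Subgroup.centralizer ((S : Subgroup G) : Set G)) := by
    unfold agemoCenter Cfsg.powerClosure
    congr 1
    ext y
    constructor
    · rintro ⟨z, hz, rfl⟩
      exact ⟨z, hz, by rw [pow_one]⟩
    · rintro ⟨z, hz, rfl⟩
      exact ⟨z, hz, by rw [pow_one]⟩
  rw [map_JT_eq, hXeq] at hsup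
  set X : Subgroup G :=
    Cfsg.powerClosure p 1 ((S : Subgroup G) ⊓ Subgroup.centralizer ((S : Subgroup G) : Set G)) with hX
  set Wt : Subgroup G :=
    (S : Subgroup G) ⊓ Subgroup.centralizer (Cfsg.centerThompsonAOf (S : Subgroup G) : Set G) with hWt
  -- both subgroups contain `S`
  have hSC : (S : Subgroup G) ≤ Subgroup.centralizer (X : Set G) := by
    intro s hs
    rw [Subgroup.mem_centralizer_iff]
    intro q hq
    have hq' : q ∈ agemoCenter p (S : Subgroup G) := by rw [hXeq]; exact hq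
    obtain ⟨z, hzS, hzc, rfl⟩ := exists_of_mem_agemoCenter hq'
    have hc : Commute s z := hzc s hs
    exact (hc.pow_right p).eq.symm
  have hSN : (S : Subgroup G) ≤ Subgroup.normalizer (Wt : Set G) := by
    intro s hs
    haveI : Finite ↥Wt := inferInstance
    apply Cfsg.Agent.Lib.Helper26.mem_normalizer_of_conj_mem_finite
    intro u hu
    have hu' : u ∈ WS JT (S : Subgroup G) := by
      show u ∈ (JT ↥(S : Subgroup G)).map (S : Subgroup G).subtype
      rw [map_JT_eq]; exact hu
    have := hW.conj_mem (T := (S : Subgroup G)) S.isPGroup' (Subgroup.le_normalizer hs) hu'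
    have h2 : s * u * s⁻¹ ∈ (JT ↥(S : Subgroup G)).map (S : Subgroup G).subtype := this
    rw [map_JT_eq] at h2
    exact h2
  by_cases hC : Subgroup.centralizer (X : Set G) = ⊤
  · left
    constructor
    intro x hx g
    have hg : g ∈ Subgroup.centralizer (X : Set G) := by rw [hC]; trivial
    have := Subgroup.mem_centralizer_iff.mp hg x hx
    have e : g * x * g⁻¹ = x := by rw [← this]; group
    rw [e]
    exact hx
  by_cases hN : Subgroup.normalizer (Wt : Set G) = ⊤
  · right
    exact Subgroup.normalizer_eq_top_iff.mp hN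
  exfalso
  obtain ⟨M, ⟨hM, hSM⟩, huniq⟩ := hE₂
  obtain ⟨M₁, hM₁, hCM₁⟩ := (eq_top_or_exists_le_coatom _).resolve_left hC
  obtain ⟨M₂, hM₂, hNM₂⟩ := (eq_top_or_exists_le_coatom _).resolve_left hN
  have e1 : M₁ = M := huniq M₁ ⟨hM₁, hSC.trans hCM₁⟩
  have e2 : M₂ = M := huniq M₂ ⟨hM₂, hSN.trans hNM₂⟩
  have hle : Subgroup.centralizer (X : Set G) ⊔ Subgroup.normalizer (Wt : Set G) ≤ M :=
    sup_le (e1 ▸ hCM₁) (e2 ▸ hNM₂)
  rw [hsup] at hle
  exact hM.1 (eq_top_iff.mpr hle)

end Cfsg.Agent.S2770
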