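import Cfsg.Statements.S2779
import Cfsg.Agent.Lib.Helper13.NaturalSL2

set_option autoImplicit false
open Cfsg

namespace Cfsg.Agent.S2779

/-- Let L act on the elementary abelian p-group V (inside a finite group, by conjugation, faithfully) as SL₂(F) on its natural module, F a field with p^n elements, and let S be a Sylow p-subgroup of L. Then [V, S, S] = 1; |V| = p^(2n) and |C_V(S)| = p^n; and for every nonidentity s ∈ S and every v ∈ V outside C_V(S): C_V(s) = C_V(S) = [V, S] = [V, s] = the subgroup generated by the commutators [v, t], t ∈ S. -/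
theorem result {G : Type*} [Group G] [Finite G] {p : ℕ} [Fact p.Prime] {F : Type*} [Field F] [Fintype F] (n : ℕ) (hF : Fintype.card F = p ^ n) (V L : Subgroup G) (hnat : Cfsg.IsNaturalSL2Module F V L) (hf : L ⊓ Subgroup.centralizer (V : Set G) = ⊥) (S : Sylow p ↥L) (T : Subgroup G) (hT : T = ((S : Subgroup ↥L).map L.subtype)) : ⁅⁅V, T⁆, T⁆ = ⊥ ∧ Nat.card V = p ^ (2 * n) ∧ Nat.card ↥(V ⊓ Subgroup.centralizer ((T : Subgroup G) : Set G)) = p ^ n ∧ ∀ s ∈ T, s ≠ 1 → (V ⊓ Subgroup.centralizer ({s} : Set G)) = (V ⊓ Subgroup.centralizer ((T : Subgroup G) : Set G)) ∧ ⁅V, T⁆ = (V ⊓ Subgroup.centralizer ((T : Subgroup G) : Set G)) ∧ ⁅V, Subgroup.zpowers s⁆ = (V ⊓ Subgroup.centralizer ((T : Subgroup G) : Set G)) ∧ ∀ v ∈ V, v ∉ Subgroup.centralizer (T : Set G) → Subgroup.closure {x : G | ∃ t ∈ T, x = v * t * v⁻¹ * t⁻¹} = (V ⊓ Subgroup.centralizer ((T : Subgroup G) : Set G)) := by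
  open scoped commutatorElement in
  open Cfsg.Agent.Lib.Helper13.NatSL2 in
  classical
  have : CharP F p := charP_of_card n hF
  obtain ⟨ρ, φ, h⟩ := exists_std_model V L hnat hf S
  subst hT
  have hfixle : ∀ s ∈ (S : Subgroup ↥L).map L.subtype, s ≠ 1 →
      V ⊓ Subgroup.centralizer ((((S : Subgroup ↥L).map L.subtype : Subgroup G)) : Set G) ≤
        ⁅V, Subgroup.zpowers s⁆ := by
    intro s hs hs1 w hw
    obtain ⟨v, hv, rfl⟩ := h.exists_commutator_eq' s hs hs1 w hw
    exact Subgroup.commutator_mem_commutator hv (Subgroup.mem_zpowers s)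
  refine ⟨?_, ?_, ?_, ?_⟩
  · exact Subgroup.commutator_eq_bot_iff_le_centralizer.mpr (h.commutator_le_fix.trans inf_le_right)
  · rw [h.card_V, hF, ← pow_mul, mul_comm]
  · rw [h.card_fix, hF]
  · intro s hs hs1
    have hzT : ⁅V, Subgroup.zpowers s⁆ ≤ ⁅V, (S : Subgroup ↥L).map L.subtype⁆ :=
      Subgroup.commutator_mono le_rfl (Subgroup.zpowers_le.mpr hs)
    refine ⟨?_, ?_, ?_, ?_⟩
    · ext v
      rw [h.mem_fix_single_iff s hs hs1, h.mem_fix_iff]
    · exact le_antisymm h.commutator_le_fix ((hfixle s hs hs1).trans hzT)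
    · exact le_antisymm (hzT.trans h.commutator_le_fix) (hfixle s hs hs1)
    · intro v hv hvT
      apply le_antisymm
      · rw [Subgroup.closure_le]
        rintro x ⟨t, ht, rfl⟩
        apply h.commutator_le_fix
        have : v * t * v⁻¹ * t⁻¹ = ⁅v, t⁆ := (commutatorElement_def v t).symm
        rw [this]
        exact Subgroup.commutator_mem_commutator hv ht
      · intro w hw
        obtain ⟨t, ht, rfl⟩ := h.exists_commutator_eq v hv hvT w hw
        exact Subgroup.subset_closure ⟨t, ht, commutatorElement_def v t⟩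

end Cfsg.Agent.S2779
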