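import Cfsg.Statements.S2788
-- import your own Cfsg.Agent.* helpers here
import Mathlib
import Cfsg.Agent.Lib.Helper18.SLQuadB
import Cfsg.Agent.Lib.Helper18.SLQuadD
import Cfsg.Agent.Lib.Helper13.NaturalSL2
import Cfsg.Agent.Lib.Helper13.SL2b

set_option autoImplicit false
open Cfsg

namespace Cfsg.Agent.S2788

/-- Let H act faithfully by conjugation on the elementary abelian p-subgroup V of a finite group with H ≅ SL₂(F), F a field with p^n elements, S a Sylow p-subgroup of H, and A ≤ S a subgroup of order at least 3 acting quadratically on V ([V, A, A] = 1). Then |V/C_V(a)| ≥ p^n for every nonidentity a ∈ A. -/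
theorem result {G : Type*} [Group G] [Finite G] {p : ℕ} [Fact p.Prime] (V H : Subgroup G) (hV : Cfsg.IsElementaryAbelian p V) (hHV : H ≤ Subgroup.normalizer (V : Set G)) (hf : H ⊓ Subgroup.centralizer (V : Set G) = ⊥) {F : Type*} [Field F] [Fintype F] (n : ℕ) (hF : Fintype.card F = p ^ n) (hiso : Nonempty (↥H ≃* Matrix.SpecialLinearGroup (Fin 2) F)) (S : Sylow p ↥H) (T : Subgroup G) (hT : T = ((S : Subgroup ↥H).map H.subtype)) (A : Subgroup G) (hA : A ≤ T) (hA3 : 3 ≤ Nat.card A) (hquad : ⁅⁅V, A⁆, A⁆ = ⊥) : ∀ a ∈ A, a ≠ 1 → p ^ n ≤ ((V ⊓ Subgroup.centralizer ({a} : Set G))).relIndex V := by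
  classical
  intro a haA ha1
  have hp : p.Prime := Fact.out
  have hVp : IsPGroup p V := by
    intro v
    refine ⟨1, ?_⟩
    rw [pow_one]
    apply Subtype.ext
    rw [Subgroup.coe_pow]
    exact hV.2 v v.2
  have hn0 : n ≠ 0 := by
    rintro rfl
    rw [pow_zero] at hF
    have := Fintype.one_lt_card (α := F)
    omega
  -- `a` comes from the Sylow subgroup
  have haT : a ∈ T := hA haA
  rw [hT] at haT
  obtain ⟨a₀, ha₀S, ha₀⟩ := Subgroup.mem_map.mp haT
  have ha₀ : (a₀ : G) = a := ha₀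
  have haH : a ∈ H := by rw [← ha₀]; exact a₀.2
  -- faithfulness
  have hfaith : ∀ x : G, x ∈ H → x ≠ 1 → ¬ V ≤ Subgroup.centralizer ({x} : Set G) := by
    intro x hxH hx1 hle
    apply hx1
    have hxC : x ∈ Subgroup.centralizer (V : Set G) := by
      rw [Subgroup.mem_centralizer_iff]
      intro v hv
      have := hle hv
      rw [Subgroup.mem_centralizer_singleton_iff] at this
      exact this
    have : x ∈ H ⊓ Subgroup.centralizer (V : Set G) := ⟨hxH, hxC⟩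
    rw [hf] at this
    exact Subgroup.mem_bot.mp this
  have hpos : ∀ K : Subgroup G, 0 < K.relIndex V := by
    intro K
    apply Nat.pos_of_dvd_of_pos (Subgroup.relIndex_dvd_card K V)
    exact Nat.card_pos
  change p ^ n ≤ (Cfsg.Agent.Lib.Helper18.SLQuad.cV V a).relIndex V
  by_cases hn1 : n = 1
  · -- the case `q = p`
    subst hn1
    rw [pow_one]
    obtain ⟨kV, hkV⟩ := IsPGroup.iff_card.mp hVp
    have hRdvd : (Cfsg.Agent.Lib.Helper18.SLQuad.cV V a).relIndex V ∣ p ^ kV := by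
      rw [← hkV]
      exact Subgroup.relIndex_dvd_card _ _
    obtain ⟨m, -, hm⟩ := (Nat.dvd_prime_pow hp).mp hRdvd
    rcases Nat.eq_zero_or_pos m with h | h
    · exfalso
      rw [h, pow_zero, Subgroup.relIndex_eq_one, Cfsg.Agent.Lib.Helper18.SLQuad.cV_eq_iff] at hm
      exact hfaith a haH ha1 hm
    · rw [hm]
      calc p = p ^ 1 := (pow_one p).symm
        _ ≤ p ^ m := Nat.pow_le_pow_right hp.pos h
  have hn2 : 2 ≤ n := by omega
  have hchar : CharP F p := Cfsg.Agent.Lib.Helper13.NatSL2.charP_of_card n hF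
  obtain ⟨e⟩ := hiso
  -- replace `a₀` by a power of order `p`
  have ha₀1 : a₀ ≠ 1 := by
    intro h
    apply ha1
    rw [← ha₀, h]
    rfl
  obtain ⟨k', hk'⟩ := (IsPGroup.iff_orderOf.mp S.isPGroup') ⟨a₀, ha₀S⟩
  have hk'' : orderOf a₀ = p ^ k' := by
    rw [← hk']
    exact (Subgroup.orderOf_mk a₀ ha₀S).symm
  have hk'pos : 0 < k' := by
    rcases Nat.eq_zero_or_pos k' with h | h
    · exfalso
      rw [h, pow_zero, orderOf_eq_one_iff] at hk''
      exact ha₀1 hk''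
    · exact h
  set b₀ : ↥H := a₀ ^ p ^ (k' - 1) with hb₀
  have hb₀ord : orderOf b₀ = p := by
    rw [hb₀, orderOf_pow_of_dvd (pow_pos hp.pos _).ne' (by rw [hk'']; exact pow_dvd_pow p (by omega)),
      hk'']
    have : p ^ k' = p ^ (k' - 1) * p := by rw [← pow_succ]; congr 1; omega
    rw [this, Nat.mul_div_cancel_left _ (pow_pos hp.pos _)]
  have hMord : orderOf (e b₀) = p := by rw [MulEquiv.orderOf_eq]; exact hb₀ord
  obtain ⟨t, ht, hconj⟩ := Cfsg.Agent.Lib.Helper13.exists_isConj_tSL_of_orderOf p (e b₀) hMord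
  obtain ⟨c, hc⟩ := isConj_iff.mp hconj
  obtain ⟨s, hs⟩ := Cfsg.Agent.Lib.Helper18.SLQuad.exists_commutator_order (F := F) p t ht
  set y₀ : ↥H := e.symm (c⁻¹ * Cfsg.Agent.Lib.Helper13.lSL s * c) with hy₀
  have hey : e y₀ = c⁻¹ * Cfsg.Agent.Lib.Helper13.lSL s * c := by rw [hy₀, MulEquiv.apply_symm_apply]
  have heb : e b₀ = c⁻¹ * Cfsg.Agent.Lib.Helper13.tSL t * c := by rw [← hc]; group
  have hecomm : e (b₀ * y₀ * b₀⁻¹ * y₀⁻¹) =
      c⁻¹ * (Cfsg.Agent.Lib.Helper13.tSL t * Cfsg.Agent.Lib.Helper13.lSL s *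
        (Cfsg.Agent.Lib.Helper13.tSL t)⁻¹ * (Cfsg.Agent.Lib.Helper13.lSL s)⁻¹) * c := by
    rw [map_mul, map_mul, map_mul, map_inv, map_inv, hey, heb]
    group
  have hordH : orderOf (b₀ * y₀ * b₀⁻¹ * y₀⁻¹) =
      orderOf (Cfsg.Agent.Lib.Helper13.tSL t * Cfsg.Agent.Lib.Helper13.lSL s *
        (Cfsg.Agent.Lib.Helper13.tSL t)⁻¹ * (Cfsg.Agent.Lib.Helper13.lSL s)⁻¹) := by
    rw [← MulEquiv.orderOf_eq e, hecomm]
    apply SemiconjBy.orderOf_eq c
    change c * _ = _ * c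
    group
  have hordG : orderOf ((b₀ : G) * (y₀ : G) * (b₀ : G)⁻¹ * (y₀ : G)⁻¹) =
      orderOf (b₀ * y₀ * b₀⁻¹ * y₀⁻¹) := by
    rw [← Subgroup.orderOf_coe]
    rfl
  have hdvd : (p ^ n + 1) ∣ orderOf ((b₀ : G) * (y₀ : G) * (b₀ : G)⁻¹ * (y₀ : G)⁻¹) := by
    rw [hordG, hordH, ← hF]
    exact hs
  have hbN : (b₀ : G) ∈ Subgroup.normalizer (V : Set G) := hHV b₀.2
  have hyN : (y₀ : G) ∈ Subgroup.normalizer (V : Set G) := hHV y₀.2
  have key := Cfsg.Agent.Lib.Helper18.SLQuad.relIndex_bound p n hn2 V hVp hbN hyN hdvd (by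
    intro k hk
    apply hfaith _ _ hk
    apply Subgroup.pow_mem
    exact H.mul_mem (H.mul_mem (H.mul_mem b₀.2 y₀.2) (H.inv_mem b₀.2)) (H.inv_mem y₀.2))
  refine key.trans ?_
  apply Nat.le_of_dvd (hpos _)
  apply Subgroup.relIndex_dvd_of_le_left
  have : (b₀ : G) = a ^ p ^ (k' - 1) := by
    rw [hb₀, Subgroup.coe_pow, ha₀]
  rw [this]
  exact Cfsg.Agent.Lib.Helper18.SLQuad.cV_le_pow V a _

end Cfsg.Agent.S2788
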