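import Cfsg.Statements.S2792
import Cfsg.Agent.Lib.Helper25.WYGlobal
-- import your own Cfsg.Agent.* helpers here

set_option autoImplicit false
open Cfsg

namespace Cfsg.Agent.S2792

/-- Let S be a Sylow p-subgroup of the finite group G and W a subgroup of S weakly closed in S with respect to G. If S ∩ G' ≠ S ∩ (N_G(W))', then there are x ∈ S, z ∈ W and a maximal subgroup W₀ of W such that the iterated commutator [x, z; p−1] (with [x, z] = x⁻¹z⁻¹xz and [x, z; i+1] = [[x, z; i], z]) lies in W₀ but not in the Frattini subgroup of W₀; in particular [x, z; p−1] ≠ 1. -/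
theorem result {G : Type*} [Group G] [Finite G] {p : ℕ} [Fact p.Prime] (S : Sylow p G) (W : Subgroup G) (hW : Cfsg.IsWeaklyClosed W (S : Subgroup G)) (h : (S : Subgroup G) ⊓ commutator G ≠ (S : Subgroup G) ⊓ ⁅Subgroup.normalizer (W : Set G), Subgroup.normalizer (W : Set G)⁆) : ∃ x ∈ (S : Subgroup G), ∃ z ∈ W, ∃ W₀ : Subgroup ↥W, IsCoatom W₀ ∧ (fun y : G => y⁻¹ * z⁻¹ * y * z)^[p - 1] x ∈ W₀.map W.subtype ∧ (fun y : G => y⁻¹ * z⁻¹ * y * z)^[p - 1] x ∉ ((frattini ↥W₀).map W₀.subtype).map W.subtype := by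
  classical
  by_contra hcon
  push Not at hcon
  apply h
  have hWS : W ≤ (S : Subgroup G) := hW.1
  have hSN : (S : Subgroup G) ≤ Subgroup.normalizer (W : Set G) := by
    intro y hy
    apply Cfsg.Agent.Lib.Helper17.mem_normalizer_of_map_conj_le
    have h1 : W.map (MulAut.conj y).toMonoidHom ≤ (S : Subgroup G) := by
      rintro _ ⟨q, hq, rfl⟩
      simp only [MulEquiv.coe_toMonoidHom, MulAut.conj_apply]
      exact (S : Subgroup G).mul_mem ((S : Subgroup G).mul_mem hy (hWS hq)) ((S : Subgroup G).inv_mem hy)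
    rw [hW.2 y h1]
  have hwc : ∀ x : G, (∀ z ∈ W, x⁻¹ * z * x ∈ (S : Subgroup G)) →
      x ∈ Subgroup.normalizer (W : Set G) := by
    intro x hx
    have h1 : W.map (MulAut.conj x⁻¹).toMonoidHom ≤ (S : Subgroup G) := by
      rintro _ ⟨q, hq, rfl⟩
      simp only [MulEquiv.coe_toMonoidHom, MulAut.conj_apply, inv_inv]
      exact hx q hq
    have h2 : x⁻¹ ∈ Subgroup.normalizer (W : Set G) := by
      apply Cfsg.Agent.Lib.Helper17.mem_normalizer_of_map_conj_le
      rw [hW.2 x⁻¹ h1]
    simpa using (Subgroup.normalizer (W : Set G)).inv_mem h2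
  apply le_antisymm
  · refine le_inf inf_le_left
      (Cfsg.Agent.Lib.Helper25.focal_of_local S (Subgroup.normalizer (W : Set G)) hSN ?_)
    intro A _ x hx ν hν u' hK _inst
    haveI hWn : (W.subgroupOf (S : Subgroup G)).Normal :=
      (Subgroup.normal_subgroupOf_iff_le_normalizer hWS).mpr hSN
    apply Cfsg.Agent.Lib.Helper25.prod_cosetFn_eq_one_of_engel_normal S.2
      (W.subgroupOf (S : Subgroup G)) (MulAction.stabilizer (S : Subgroup G) x) ?_ ν hν u' hK
    · intro Q₁ n hnW hnN hnQ₁ hnp hWsup τ hτ b hb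
      exact Cfsg.Agent.Lib.Helper25.engel_hyp_of_frattini (S : Subgroup G) W hWS hcon Q₁ n hnW hnN
        hnQ₁ hnp hWsup τ hτ b hb
    · intro hle
      apply hx
      apply hwc
      intro z hz
      exact (Cfsg.Agent.Lib.Helper25.mem_stabilizer_coset_iff (S : Subgroup G) x ⟨z, hWS hz⟩).mp
        (hle (Subgroup.mem_subgroupOf.mpr hz))
  · exact inf_le_inf_left _ (by
      rw [commutator_def]
      exact Subgroup.commutator_mono le_top le_top)

end Cfsg.Agent.S2792
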