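import Cfsg.Statements.S2809
import Cfsg.Agent.Lib.Helper16.PCore

set_option autoImplicit false
open Cfsg

namespace Cfsg.Agent.S2809

open scoped commutatorElement
open Cfsg.Agent.Lib.Helper16

theorem aux {H : Type*} [Group H] [Finite H] {p : ℕ} [Fact p.Prime] (R : Subgroup H) (hR : IsPGroup p ↥R)
    (L : Subgroup H) (hL : L ≤ Subgroup.normalizer (R : Set H)) (c : H) (hc : c ∈ L)
    (hcop : (orderOf c).Coprime p) :
    ∀ n : ℕ, ∀ B : Subgroup H, B ≤ R → Cfsg.iterCommutator B L n = ⊥ → ∀ x ∈ B, c * x = x * c := by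
  intro n
  induction n with
  | zero =>
    intro B _ hB x hx
    have : B = ⊥ := hB
    rw [this, Subgroup.mem_bot] at hx
    rw [hx]; simp
  | succ n ih =>
    intro B hBR hB x hx
    rw [iterCommutator_succ'] at hB
    have hBL : ⁅B, L⁆ ≤ R := by
      rw [Subgroup.commutator_le]
      intro b hb l hl
      -- b l b⁻¹ l⁻¹ with b ∈ R, l normalizes R
      have hbR := hBR hb
      have hl' := hL hl
      rw [Subgroup.mem_normalizer_iff] at hl'
      have : l * b⁻¹ * l⁻¹ ∈ R := (hl' b⁻¹).mp (R.inv_mem hbR)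
      have h2 : ⁅b, l⁆ = b * (l * b⁻¹ * l⁻¹) := by rw [commutatorElement_def]; group
      rw [h2]
      exact R.mul_mem hbR this
    have ih' := ih ⁅B, L⁆ hBL hB
    have hz : c * x * c⁻¹ * x⁻¹ ∈ ⁅B, L⁆ := by
      rw [Subgroup.commutator_comm]
      exact Subgroup.commutator_mem_commutator hc hx
    have hcz := ih' _ hz
    have hzp : ∃ k : ℕ, (c * x * c⁻¹ * x⁻¹) ^ (p ^ k) = 1 := by
      obtain ⟨k, hk⟩ := hR ⟨_, hBL hz⟩
      exact ⟨k, by simpa using congrArg Subtype.val hk⟩
    exact commute_of_comm_eq_one (coprime_step (p := p) c x hcop hcz hzp)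

/-- Let H be a finite group, p a prime, R a p-subgroup of H with C_H(R) ≤ R, and L a subgroup of N_H(R) acting nilpotently on R (some iterated commutator [R, L, …, L] is trivial). Then L is a p-group. -/
theorem result {H : Type*} [Group H] [Finite H] {p : ℕ} [Fact p.Prime] (R : Subgroup H) (hR : IsPGroup p ↥R) (hC : Subgroup.centralizer (R : Set H) ≤ R) (L : Subgroup H) (hL : L ≤ Subgroup.normalizer (R : Set H)) (hnil : ∃ n : ℕ, Cfsg.iterCommutator R L n = ⊥) : IsPGroup p ↥L := by
  apply isPGroup_of_coprime_trivial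
  intro c hc hcop
  obtain ⟨n, hn⟩ := hnil
  have h1 := aux R hR L hL c hc hcop n R le_rfl hn
  have h2 : c ∈ Subgroup.centralizer (R : Set H) := by
    rw [Subgroup.mem_centralizer_iff]
    intro x hx
    exact (h1 x hx).symm
  exact eq_one_of_mem_pgroup_of_coprime hR (hC h2) hcop

end Cfsg.Agent.S2809
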