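import Cfsg.Statements.S2810
import Cfsg.Agent.Lib.Helper16.PCore

set_option autoImplicit false
open Cfsg

namespace Cfsg.Agent.S2810

open scoped commutatorElement
open Cfsg.Agent.Lib.Helper16

/-- The subgroup of elements stabilizing the chain. -/
def stabChain {H : Type*} [Group H] (n : ℕ) (A : Fin (n + 1) → Subgroup H) (hnorm : ∀ i, (A i).Normal) :
    Subgroup H where
  carrier := {h | ∀ i : Fin n, ∀ x ∈ A i.succ, h * x * h⁻¹ * x⁻¹ ∈ A i.castSucc}
  one_mem' := by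
    intro i x _
    simp
  mul_mem' := by
    intro h k hh hk i x hx
    have h1 := hh i x hx
    have h2 := hk i x hx
    have h3 : h * (k * x * k⁻¹ * x⁻¹) * h⁻¹ ∈ A i.castSucc := (hnorm i.castSucc).conj_mem _ h2 h
    have : h * k * x * (h * k)⁻¹ * x⁻¹ = (h * (k * x * k⁻¹ * x⁻¹) * h⁻¹) * (h * x * h⁻¹ * x⁻¹) := by group
    rw [this]
    exact (A i.castSucc).mul_mem h3 h1
  inv_mem' := by
    intro h hh i x hx
    have h1 := hh i x hx
    have h2 : h⁻¹ * (h * x * h⁻¹ * x⁻¹)⁻¹ * h⁻¹⁻¹ ∈ A i.castSucc :=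
      (hnorm i.castSucc).conj_mem _ ((A i.castSucc).inv_mem h1) h⁻¹
    have : h⁻¹ * x * h⁻¹⁻¹ * x⁻¹ = h⁻¹ * (h * x * h⁻¹ * x⁻¹)⁻¹ * h⁻¹⁻¹ := by group
    rw [this]
    exact h2

theorem stabChain_normal {H : Type*} [Group H] (n : ℕ) (A : Fin (n + 1) → Subgroup H) (hnorm : ∀ i, (A i).Normal) :
    (stabChain n A hnorm).Normal := by
  constructor
  intro h hh g i x hx
  have hx' : g⁻¹ * x * g⁻¹⁻¹ ∈ A i.succ := (hnorm i.succ).conj_mem _ hx g⁻¹
  have h1 := hh i _ hx'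
  have h2 : g * (h * (g⁻¹ * x * g⁻¹⁻¹) * h⁻¹ * (g⁻¹ * x * g⁻¹⁻¹)⁻¹) * g⁻¹ ∈ A i.castSucc :=
    (hnorm i.castSucc).conj_mem _ h1 g
  have : g * h * g⁻¹ * x * (g * h * g⁻¹)⁻¹ * x⁻¹ =
      g * (h * (g⁻¹ * x * g⁻¹⁻¹) * h⁻¹ * (g⁻¹ * x * g⁻¹⁻¹)⁻¹) * g⁻¹ := by group
  rw [this]
  exact h2

/-- Let H be a finite group of characteristic p and L a subgroup of H centralizing every factor of some H-invariant chain 1 = A₀ ≤ A₁ ≤ … ≤ Aₙ = O_p(H) of normal subgroups (that is, [A_{i+1}, L] ≤ Aᵢ for each i). Then L ≤ O_p(H). -/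
theorem result {H : Type*} [Group H] [Finite H] {p : ℕ} [Fact p.Prime] (hchar : Subgroup.centralizer (Cfsg.pCore p H : Set H) ≤ Cfsg.pCore p H) (L : Subgroup H) (n : ℕ) (A : Fin (n + 1) → Subgroup H) (h0 : A 0 = ⊥) (hn : A (Fin.last n) = Cfsg.pCore p H) (hmono : Monotone A) (hnorm : ∀ i, (A i).Normal) (hcent : ∀ i : Fin n, ⁅A i.succ, L⁆ ≤ A i.castSucc) : L ≤ Cfsg.pCore p H := by
  have hLC : L ≤ stabChain n A hnorm := by
    intro l hl i x hx
    have h1 : ⁅x, l⁆ ∈ A i.castSucc := hcent i (Subgroup.commutator_mem_commutator hx hl)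
    have h2 : l * x * l⁻¹ * x⁻¹ = (⁅x, l⁆)⁻¹ := by rw [commutatorElement_def]; group
    rw [h2]
    exact (A i.castSucc).inv_mem h1
  refine hLC.trans ?_
  apply le_pCore (stabChain_normal n A hnorm)
  apply isPGroup_of_coprime_trivial
  intro c hc hcop
  -- c centralizes every A i
  have hAp : ∀ i, A i ≤ pCore p H := fun i => hn ▸ hmono (Fin.le_last i)
  have key : ∀ i : Fin (n + 1), ∀ x ∈ A i, c * x = x * c := by
    intro i
    induction i using Fin.induction with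
    | zero =>
      intro x hx
      rw [h0, Subgroup.mem_bot] at hx
      rw [hx]; simp
    | succ i ih =>
      intro x hx
      have hz := hc i x hx
      have hcz := ih _ hz
      have hzp : ∃ k : ℕ, (c * x * c⁻¹ * x⁻¹) ^ (p ^ k) = 1 := by
        obtain ⟨k, hk⟩ := (pCore_isPGroup (G := H) (p := p)) ⟨_, hAp _ hz⟩
        exact ⟨k, by simpa using congrArg Subtype.val hk⟩
      exact commute_of_comm_eq_one (coprime_step (p := p) c x hcop hcz hzp)
  have h2 : c ∈ Subgroup.centralizer (pCore p H : Set H) := by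
    rw [Subgroup.mem_centralizer_iff]
    intro x hx
    rw [← hn] at hx
    exact (key _ x hx).symm
  exact eq_one_of_mem_pgroup_of_coprime pCore_isPGroup (hchar h2) hcop

end Cfsg.Agent.S2810
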