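import Cfsg.Statements.S2813
import Cfsg.Agent.Lib.Helper16.PCore

set_option autoImplicit false
open Cfsg

namespace Cfsg.Agent.S2813

open scoped commutatorElement
open Cfsg.Agent.Lib.Helper16

/-- Let K be a subgroup of the finite group H with O_p(K) = 1 and Y a p-subgroup of N_H(K) with [K, Y, Y] = 1. Then [K, Y] = 1. -/
theorem result {H : Type*} [Group H] [Finite H] {p : ℕ} [Fact p.Prime] (K : Subgroup H) (hO : Cfsg.pCore p ↥K = ⊥) (Y : Subgroup H) (hY : IsPGroup p ↥Y) (hYK : Y ≤ Subgroup.normalizer (K : Set H)) (hq : ⁅⁅K, Y⁆, Y⁆ = ⊥) : ⁅K, Y⁆ = ⊥ := by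
  set N : Subgroup H := ⁅K, Y⁆ with hN
  -- 1. N ≤ K
  have hNK : N ≤ K := by
    rw [hN, Subgroup.commutator_le]
    intro k hk y hy
    have hy' := hYK hy
    rw [Subgroup.mem_normalizer_iff] at hy'
    have : y * k⁻¹ * y⁻¹ ∈ K := (hy' k⁻¹).mp (K.inv_mem hk)
    have h2 : ⁅k, y⁆ = k * (y * k⁻¹ * y⁻¹) := by rw [commutatorElement_def]; group
    rw [h2]; exact K.mul_mem hk this
  -- 2. K normalizes N
  have hKN : ∀ k' ∈ K, ∀ n ∈ N, k' * n * k'⁻¹ ∈ N := by
    intro k' hk' n hn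
    rw [hN, Subgroup.commutator_def] at hn
    induction hn using Subgroup.closure_induction with
    | mem x hx =>
      obtain ⟨k, hk, y, hy, rfl⟩ := hx
      have : k' * ⁅k, y⁆ * k'⁻¹ = ⁅k' * k, y⁆ * (⁅k', y⁆)⁻¹ := by
        simp only [commutatorElement_def]; group
      rw [this]
      exact N.mul_mem (Subgroup.commutator_mem_commutator (K.mul_mem hk' hk) hy)
        (N.inv_mem (Subgroup.commutator_mem_commutator hk' hy))
    | one => simp
    | mul a b _ _ iha ihb =>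
      have : k' * (a * b) * k'⁻¹ = (k' * a * k'⁻¹) * (k' * b * k'⁻¹) := by group
      rw [this]; exact N.mul_mem iha ihb
    | inv a _ iha =>
      have : k' * a⁻¹ * k'⁻¹ = (k' * a * k'⁻¹)⁻¹ := by group
      rw [this]; exact N.inv_mem iha
  -- 3. Y centralizes N
  have hYN : ∀ n ∈ N, ∀ y ∈ Y, y * n = n * y := by
    have := Subgroup.commutator_eq_bot_iff_le_centralizer.mp hq
    intro n hn y hy
    have h1 := this hn
    rw [Subgroup.mem_centralizer_iff] at h1
    exact h1 y hy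
  -- 4. generators of N centralize N
  have hgen_cent : ∀ k ∈ K, ∀ y ∈ Y, ∀ n ∈ N, ⁅k, y⁆ * n = n * ⁅k, y⁆ := by
    intro k hk y hy n hn
    -- k y k⁻¹ centralizes N
    have h1 : k⁻¹ * n * k⁻¹⁻¹ ∈ N := hKN k⁻¹ (K.inv_mem hk) n hn
    have h2 := hYN _ h1 y hy
    have h3 : (k * y * k⁻¹) * n = n * (k * y * k⁻¹) := by
      have : (k * y * k⁻¹) * n = k * (y * (k⁻¹ * n * k⁻¹⁻¹)) * k⁻¹ := by group
      rw [this, h2]; group
    have h4 := hYN n hn y⁻¹ (Y.inv_mem hy)
    have h5 : ⁅k, y⁆ = (k * y * k⁻¹) * y⁻¹ := by rw [commutatorElement_def]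
    rw [h5, mul_assoc, h4, ← mul_assoc, h3, mul_assoc]
  -- N is abelian
  have hNab : ∀ a ∈ N, ∀ b ∈ N, a * b = b * a := by
    intro a ha b hb
    rw [hN, Subgroup.commutator_def] at ha
    induction ha using Subgroup.closure_induction with
    | mem x hx =>
      obtain ⟨k, hk, y, hy, rfl⟩ := hx
      exact hgen_cent k hk y hy b hb
    | one => simp
    | mul a c _ _ iha ihc =>
      rw [mul_assoc, ihc, ← mul_assoc, iha, mul_assoc]
    | inv a _ iha =>
      have : a⁻¹ * b = a⁻¹ * (b * a) * a⁻¹ := by group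
      rw [this, ← iha]; group
  -- 5. generators have p-power order
  have hgen_p : ∀ k ∈ K, ∀ y ∈ Y, ∃ i : ℕ, (⁅k, y⁆) ^ (p ^ i) = 1 := by
    intro k hk y hy
    obtain ⟨i, hi⟩ := hY ⟨y, hy⟩
    have hi' : y ^ (p ^ i) = 1 := by simpa using congrArg Subtype.val hi
    refine ⟨i, ?_⟩
    have hn : ⁅k, y⁆ ∈ N := Subgroup.commutator_mem_commutator hk hy
    have hcomm : Commute (⁅k, y⁆) y := (hYN _ hn y hy).symm
    have h1 : k * y * k⁻¹ = ⁅k, y⁆ * y := by rw [commutatorElement_def]; group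
    have h2 : (k * y * k⁻¹) ^ (p ^ i) = 1 := by
      rw [conj_pow, hi']; simp
    rw [h1, hcomm.mul_pow, hi', mul_one] at h2
    exact h2
  -- 6. N is a p-group
  have hNp : ∀ n ∈ N, ∃ i : ℕ, n ^ (p ^ i) = 1 := by
    intro n hn
    have hn' := hn
    rw [hN, Subgroup.commutator_def] at hn'
    induction hn' using Subgroup.closure_induction with
    | mem x hx =>
      obtain ⟨k, hk, y, hy, rfl⟩ := hx
      exact hgen_p k hk y hy
    | one => exact ⟨0, by simp⟩
    | mul a b ha hb iha ihb =>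
      have ha' : a ∈ N := by rw [hN, Subgroup.commutator_def]; exact ha
      have hb' : b ∈ N := by rw [hN, Subgroup.commutator_def]; exact hb
      obtain ⟨i, hi⟩ := iha ha'
      obtain ⟨j, hj⟩ := ihb hb'
      refine ⟨i + j, ?_⟩
      have hc : Commute a b := hNab a ha' b hb'
      rw [hc.mul_pow, pow_add, pow_mul, hi, one_pow, one_mul, mul_comm (p ^ i), pow_mul, hj, one_pow]
    | inv a ha iha =>
      have ha' : a ∈ N := by rw [hN, Subgroup.commutator_def]; exact ha
      obtain ⟨i, hi⟩ := iha ha'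
      exact ⟨i, by rw [inv_pow, hi, inv_one]⟩
  -- 7. conclude
  have hnorm : (N.subgroupOf K).Normal := by
    constructor
    intro n hn k
    rw [Subgroup.mem_subgroupOf] at hn ⊢
    have := hKN k k.2 n hn
    simpa using this
  have hpg : IsPGroup p (N.subgroupOf K) := by
    intro ⟨n, hn⟩
    rw [Subgroup.mem_subgroupOf] at hn
    obtain ⟨i, hi⟩ := hNp _ hn
    exact ⟨i, Subtype.ext (Subtype.ext (by simpa using hi))⟩
  have h7 : N.subgroupOf K ≤ pCore p K := le_pCore hnorm hpg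
  rw [hO, le_bot_iff] at h7
  rw [Subgroup.subgroupOf_eq_bot] at h7
  rw [eq_bot_iff]
  intro x hx
  have : x ∈ N ⊓ K := ⟨hx, hNK hx⟩
  rw [h7.eq_bot] at this
  exact this

end Cfsg.Agent.S2813
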