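import Cfsg.Statements.S2818
import Cfsg.Agent.Lib.Helper16.Frattini

set_option autoImplicit false
open Cfsg

namespace Cfsg.Agent.S2818

open scoped commutatorElement
open Cfsg.Agent.Lib.Helper16

/-- Let P be a finite p-subgroup of a group G and H a subgroup of N_G(P) with [P, H] ≤ Ω₁(Z(P)) (the elements of order dividing p in the centre of P). Then H centralizes the Frattini subgroup of P. -/
theorem result {G : Type*} [Group G] [Finite G] {p : ℕ} [Fact p.Prime] (P : Subgroup G) (hP : IsPGroup p ↥P) (H : Subgroup G) (hH : H ≤ Subgroup.normalizer (P : Set G)) (h : ⁅P, H⁆ ≤ Cfsg.omegaOne p (P ⊓ Subgroup.centralizer (P : Set G))) : ⁅(frattini ↥P).map P.subtype, H⁆ = ⊥ := by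
  set Z1 : Subgroup G := Cfsg.omegaOne p (P ⊓ Subgroup.centralizer (P : Set G)) with hZ1
  have hZ1le : Z1 ≤ P ⊓ Subgroup.centralizer (P : Set G) := by
    rw [hZ1]; unfold Cfsg.omegaOne
    rw [Subgroup.closure_le]
    intro x hx; exact hx.1
  have hcommG : ∀ a ∈ Z1, ∀ b ∈ Z1, a * b = b * a := by
    intro a ha b hb
    have h1 := (hZ1le ha).2
    have h2 := (hZ1le hb).1
    exact ((Subgroup.mem_centralizer_iff.mp h1) b h2).symm
  have hpow : ∀ e ∈ Z1, e ^ p = 1 := by
    intro e he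
    rw [hZ1] at he; unfold Cfsg.omegaOne at he
    induction he using Subgroup.closure_induction with
    | mem x hx => exact hx.2
    | one => exact one_pow p
    | mul x y hx hy hx' hy' =>
      have hc : Commute x y := hcommG x hx y hy
      rw [hc.mul_pow, hx', hy', one_mul]
    | inv x _ hx' => rw [inv_pow, hx', inv_one]
  rw [eq_bot_iff, Subgroup.commutator_le]
  rintro _ ⟨x, hx, rfl⟩ k hk
  rw [Subgroup.mem_bot]
  have hmem : ∀ y : P, ⁅(y : G), k⁆ ∈ Z1 := fun y => h (Subgroup.commutator_mem_commutator y.2 hk)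
  let φ : ↥P →* ↥Z1 := MonoidHom.mk' (fun y => ⟨⁅(y : G), k⁆, hmem y⟩) (by
    intro a b
    apply Subtype.ext
    show ⁅((a * b : P) : G), k⁆ = ⁅(a : G), k⁆ * ⁅(b : G), k⁆
    rw [Subgroup.coe_mul, commutatorElement_mul_left_eq_conj_mul]
    have h1 := (hZ1le (hmem b)).2
    have h2 : (a : G) * ⁅(b : G), k⁆ = ⁅(b : G), k⁆ * (a : G) :=
      (Subgroup.mem_centralizer_iff.mp h1) a a.2
    have h3 := hcommG _ (hmem a) _ (hmem b)
    calc (a : G) * ⁅(b : G), k⁆ * (a : G)⁻¹ * ⁅(a : G), k⁆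
        = ⁅(b : G), k⁆ * (a : G) * (a : G)⁻¹ * ⁅(a : G), k⁆ := by rw [h2]
      _ = ⁅(b : G), k⁆ * ⁅(a : G), k⁆ := by group
      _ = ⁅(a : G), k⁆ * ⁅(b : G), k⁆ := h3.symm)
  have hker := frattini_le_ker' (p := p) (E := ↥Z1)
    (fun a b => Subtype.ext (hcommG a a.2 b b.2))
    (fun e => Subtype.ext (by simpa using hpow e e.2)) φ hx
  rw [MonoidHom.mem_ker] at hker
  have := congrArg Subtype.val hker
  simpa [φ] using this

end Cfsg.Agent.S2818
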