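import Cfsg.Statements.S2829
import Cfsg.Agent.Lib.Helper16.PCore

set_option autoImplicit false
open Cfsg

namespace Cfsg.Agent.S2829

open scoped commutatorElement
open Cfsg.Agent.Lib.Helper16

/-- Every strongly p-irreducible finite group is p-irreducible. -/
theorem result {H : Type*} [Group H] [Finite H] {p : ℕ} [Fact p.Prime] (hH : Cfsg.IsStronglyPIrreducible p H) : Cfsg.IsPIrreducible p H := by
  obtain ⟨h1, h2⟩ := hH
  refine ⟨h1, ?_⟩
  intro N hN hNc
  apply h2 N hN
  intro hcomm
  apply hNc
  -- N is p-closed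
  intro P
  -- Q = O_p(H) ∩ N as a subgroup of N is a normal p-subgroup of N, so lies in P
  have hQP : (pCore p H).subgroupOf N ≤ (P : Subgroup N) := by
    have hQp : IsPGroup p ((pCore p H).subgroupOf N) :=
      (pCore_isPGroup (G := H) (p := p)).comap_subtype
    exact hQp.le_sylow_of_normal P
  constructor
  intro x hx n
  have hc : ⁅(n : H), (x : H)⁆ ∈ pCore p H := by
    apply hcomm
    exact Subgroup.commutator_mem_commutator n.2 (Subgroup.mem_top _)
  have hc' : ⁅n, x⁆ ∈ (pCore p H).subgroupOf N := by
    rw [Subgroup.mem_subgroupOf]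
    simpa [commutatorElement_def] using hc
  have h3 : n * x * n⁻¹ = ⁅n, x⁆ * x := by rw [commutatorElement_def]; group
  rw [h3]
  exact Subgroup.mul_mem _ (hQP hc') hx

end Cfsg.Agent.S2829
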