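import Cfsg.Statements.S2833
import Cfsg.Agent.Lib.Helper16.Comm

set_option autoImplicit false
open Cfsg

namespace Cfsg.Agent.S2833

open scoped Pointwise commutatorElement
open Cfsg.Agent.Lib.Helper16

/-- Let V be a subgroup of a finite group G normalized by the subgroup L, let X ≤ L and g ∈ L with [V, X, X] = 1 and L generated by X and gXg⁻¹. Put W = [V, L]. Then W = [V, X]·[V, gXg⁻¹], C_W(X) = [V, X], and C_W(L) = [V, X] ∩ [V, gXg⁻¹]. -/
theorem result {G : Type*} [Group G] [Finite G] (V L : Subgroup G) (hLV : L ≤ Subgroup.normalizer (V : Set G)) (X : Subgroup G) (hX : X ≤ L) (g : G) (hg : g ∈ L) (hq : ⁅⁅V, X⁆, X⁆ = ⊥) (hgen : X ⊔ X.map (MulAut.conj g).toMonoidHom = L) (W : Subgroup G) (hW : W = ⁅V, L⁆) : ⁅V, X⁆ ⊔ ⁅V, X.map (MulAut.conj g).toMonoidHom⁆ = W ∧ W ⊓ Subgroup.centralizer (X : Set G) = ⁅V, X⁆ ∧ W ⊓ Subgroup.centralizer (L : Set G) = ⁅V, X⁆ ⊓ ⁅V, X.map (MulAut.conj g).toMonoidHom⁆ := by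
  set Y : Subgroup G := X.map (MulAut.conj g).toMonoidHom with hY
  set A : Subgroup G := ⁅V, X⁆ with hA
  set B : Subgroup G := ⁅V, Y⁆ with hB
  have hYL : Y ≤ L := by rw [← hgen]; exact le_sup_right
  have hXV : X ≤ Subgroup.normalizer (V : Set G) := hX.trans hLV
  have hYV : Y ≤ Subgroup.normalizer (V : Set G) := hYL.trans hLV
  have hAV : A ≤ V := Subgroup.le_normalizer_iff_commutator_le_left.mp hXV
  have hBV : B ≤ V := Subgroup.le_normalizer_iff_commutator_le_left.mp hYV
  have hVA : V ≤ Subgroup.normalizer (A : Set G) := Subgroup.normalizer_commutator_ge_left V X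
  have hVB : V ≤ Subgroup.normalizer (B : Set G) := Subgroup.normalizer_commutator_ge_left V Y
  have hXA : X ≤ Subgroup.normalizer (A : Set G) := Subgroup.normalizer_commutator_ge_right V X
  have hYB : Y ≤ Subgroup.normalizer (B : Set G) := Subgroup.normalizer_commutator_ge_right V Y
  have hVg : V.map (MulAut.conj g).toMonoidHom = V :=
    (Subgroup.mem_normalizer_iff_map_conj_eq).mp (hLV hg)
  have hBA : B = A.map (MulAut.conj g).toMonoidHom := by
    rw [hA, Subgroup.map_commutator, hVg]
  -- quadratic action of Y on V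
  have hqY : ⁅B, Y⁆ = ⊥ := by
    have := congrArg (Subgroup.map (MulAut.conj g).toMonoidHom) hq
    rw [Subgroup.map_commutator, Subgroup.map_commutator, hVg, Subgroup.map_bot] at this
    exact this
  have hAC : A ≤ Subgroup.centralizer (X : Set G) :=
    Subgroup.commutator_eq_bot_iff_le_centralizer.mp hq
  have hBC : B ≤ Subgroup.centralizer (Y : Set G) :=
    Subgroup.commutator_eq_bot_iff_le_centralizer.mp hqY
  -- X and Y normalize A ⊔ B
  have hXN : X ≤ Subgroup.normalizer ((A ⊔ B : Subgroup G) : Set G) := by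
    intro x hx
    apply mem_normalizer_of_map_conj_le
    rw [Subgroup.map_sup]
    apply sup_le
    · have e : A.map (MulAut.conj x).toMonoidHom = A :=
        (Subgroup.mem_normalizer_iff_map_conj_eq).mp (hXA hx)
      rw [e]
      exact le_sup_left
    · rintro _ ⟨b, hb, rfl⟩
      simp only [MulEquiv.coe_toMonoidHom, MulAut.conj_apply]
      have h1 : ⁅x, b⁆ ∈ A := by
        rw [← commutatorElement_inv]
        exact A.inv_mem (Subgroup.commutator_mem_commutator (hBV hb) hx)
      have e : x * b * x⁻¹ = ⁅x, b⁆ * b := by rw [commutatorElement_def]; group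
      rw [e]
      exact Subgroup.mul_mem _ (Subgroup.mem_sup_left h1) (Subgroup.mem_sup_right hb)
  have hYN : Y ≤ Subgroup.normalizer ((A ⊔ B : Subgroup G) : Set G) := by
    intro x hx
    apply mem_normalizer_of_map_conj_le
    rw [Subgroup.map_sup]
    apply sup_le
    · rintro _ ⟨b, hb, rfl⟩
      simp only [MulEquiv.coe_toMonoidHom, MulAut.conj_apply]
      have h1 : ⁅x, b⁆ ∈ B := by
        rw [← commutatorElement_inv]
        exact B.inv_mem (Subgroup.commutator_mem_commutator (hAV hb) hx)
      have e : x * b * x⁻¹ = ⁅x, b⁆ * b := by rw [commutatorElement_def]; group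
      rw [e]
      exact Subgroup.mul_mem _ (Subgroup.mem_sup_right h1) (Subgroup.mem_sup_left hb)
    · have e : B.map (MulAut.conj x).toMonoidHom = B :=
        (Subgroup.mem_normalizer_iff_map_conj_eq).mp (hYB hx)
      rw [e]
      exact le_sup_right
  have h1 : A ⊔ B = W := by
    apply le_antisymm
    · rw [hW]
      exact sup_le (Subgroup.commutator_mono le_rfl hX) (Subgroup.commutator_mono le_rfl hYL)
    · rw [hW, ← hgen]
      exact commutator_sup_le hXN hYN le_sup_left le_sup_right
  have hAW : A ≤ W := by rw [← h1]; exact le_sup_left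
  have h2 : W ⊓ Subgroup.centralizer (X : Set G) = A := by
    apply le_antisymm
    · rintro w ⟨hwW, hwC⟩
      have hwW' : w ∈ ((A ⊔ B : Subgroup G) : Set G) := by rw [h1]; exact hwW
      rw [Subgroup.coe_mul_of_right_le_normalizer_left A B (hBV.trans hVA)] at hwW'
      obtain ⟨a, ha, b, hb, rfl⟩ := hwW'
      have hbX : b ∈ Subgroup.centralizer (X : Set G) := by
        have : b = a⁻¹ * (a * b) := by group
        rw [this]
        exact Subgroup.mul_mem _ (Subgroup.inv_mem _ (hAC ha)) hwC
      have hbL : b ∈ Subgroup.centralizer (L : Set G) := by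
        rw [← hgen]
        exact sup_le_centralizer_singleton hbX (hBC hb)
      have hgb : g * b = b * g := (Subgroup.mem_centralizer_iff.mp hbL) g hg
      have hbA : b ∈ A := by
        have h3 : b ∈ A.map (MulAut.conj g).toMonoidHom := by rw [← hBA]; exact hb
        rw [mem_map_conj_iff] at h3
        have e : g⁻¹ * b * g = b := by
          calc g⁻¹ * b * g = g⁻¹ * (b * g) := by group
            _ = g⁻¹ * (g * b) := by rw [hgb]
            _ = b := by group
        rwa [e] at h3
      exact A.mul_mem ha hbA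
    · exact le_inf hAW hAC
  refine ⟨h1, h2, ?_⟩
  apply le_antisymm
  · rintro u ⟨huW, huL⟩
    have huW : u ∈ W := huW
    have huL : u ∈ Subgroup.centralizer (L : Set G) := huL
    have huX : u ∈ Subgroup.centralizer (X : Set G) := Subgroup.centralizer_le hX huL
    have huA : u ∈ A := by rw [← h2]; exact ⟨huW, huX⟩
    refine ⟨huA, ?_⟩
    show u ∈ B
    rw [hBA, mem_map_conj_iff]
    have hgu : g * u = u * g := (Subgroup.mem_centralizer_iff.mp huL) g hg
    have e : g⁻¹ * u * g = u := by
      calc g⁻¹ * u * g = g⁻¹ * (u * g) := by group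
        _ = g⁻¹ * (g * u) := by rw [hgu]
        _ = u := by group
    rw [e]; exact huA
  · rintro u ⟨huA, huB⟩
    have huA : u ∈ A := huA
    have huB : u ∈ B := huB
    refine ⟨hAW huA, ?_⟩
    show u ∈ Subgroup.centralizer (L : Set G)
    rw [← hgen]
    exact sup_le_centralizer_singleton (hAC huA) (hBC huB)

end Cfsg.Agent.S2833
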