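import Cfsg.Statements.S2834
import Cfsg.Agent.Lib.Helper26.LLemD

set_option autoImplicit false
open Cfsg

namespace Cfsg.Agent.S2834

/-- The L-Lemma: let H be a finite group with Sylow p-subgroup T such that H is T-minimal (generated by the conjugates of T, T in exactly one maximal subgroup M), and let A ≤ T with A not contained in O_p(H). Then there is a subgroup L of H containing A·O_p(H) such that (a) A·O_p(L) lies in exactly one maximal subgroup L₀ of L, and L₀ = L ∩ gMg⁻¹ for some g ∈ H; (b) L = ⟨A, xAx⁻¹⟩·O_p(L) for every x ∈ L outside L₀. -/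
theorem result {H : Type*} [Group H] [Finite H] {p : ℕ} [Fact p.Prime] (T : Sylow p H) (hmin : Cfsg.IsMinimalOver (T : Subgroup H)) (M : Subgroup H) (hM : IsCoatom M ∧ (T : Subgroup H) ≤ M) (A : Subgroup H) (hAT : A ≤ (T : Subgroup H)) (hA : ¬ A ≤ Cfsg.pCore p H) : ∃ L : Subgroup H, A ⊔ Cfsg.pCore p H ≤ L ∧ ∃ L₀ : Subgroup H, A ⊔ (Cfsg.pCoreOf p L) ≤ L₀ ∧ L₀ < L ∧ (∀ X : Subgroup H, A ⊔ (Cfsg.pCoreOf p L) ≤ X → X < L → X ≤ L₀) ∧ (∃ g : H, L₀ = L ⊓ ((M : Subgroup H).map (MulAut.conj (g : H)).toMonoidHom)) ∧ ∀ x ∈ L, x ∉ L₀ → (A ⊔ ((A : Subgroup H).map (MulAut.conj (x : H)).toMonoidHom)) ⊔ (Cfsg.pCoreOf p L) = L := by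
  classical
  have hPM : Cfsg.Agent.Lib.Helper26.LLem.PMin p (⊤ : Subgroup H) (T : Subgroup H) M := by
    refine ⟨⟨le_top, T.isPGroup', fun P _ hP hTP => T.is_maximal' hP hTP⟩, hM.2, hM.1.lt_top, ?_, ?_⟩
    · intro X hTX hXt
      rcases eq_top_or_exists_le_coatom X with h | ⟨M', hM', hXM'⟩
      · exact absurd h hXt.ne
      · have := hmin.2.unique ⟨hM', hTX.trans hXM'⟩ hM
        rw [← this]; exact hXM'
    · intro k _ hkM
      have hkN : k ∈ Subgroup.normalizer (M : Set H) :=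
        Cfsg.Agent.Lib.Helper26.LLem.mem_normalizer_iff_cj.mpr hkM
      have hN : Subgroup.normalizer (M : Set H) = M := by
        rcases hM.1.le_iff.mp (Subgroup.le_normalizer (H := M)) with h | h
        · exfalso
          have hn : M.Normal := Subgroup.normalizer_eq_top_iff.mp h
          have h1 : Subgroup.normalClosure ((T : Subgroup H) : Set H) ≤ M :=
            Subgroup.normalClosure_le_normal hM.2
          rw [hmin.1] at h1
          exact hM.1.1 (top_le_iff.mp h1)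
        · exact h
      rwa [hN] at hkN
  have hQ : Cfsg.pCoreOf p (⊤ : Subgroup H) = Cfsg.pCore p H := by
    have := Cfsg.Agent.Lib.Helper16.pCoreOf_eq_of_normal (p := p) (⊤ : Subgroup H)
    rw [inf_top_eq] at this
    exact this
  have hA' : ¬ A ≤ Cfsg.pCoreOf p (⊤ : Subgroup H) := by rwa [hQ]
  obtain ⟨L, L₀, g, hG⟩ := Cfsg.Agent.Lib.Helper26.LLem.main (p := p) _ (⊤ : Subgroup H) rfl _
    (T : Subgroup H) M A hPM hAT hA' rfl
  refine ⟨L, ?_, L₀, hG.hB, hG.hlt, hG.hmax, ⟨g, hG.heq⟩, hG.hgen⟩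
  rw [← hQ]; exact hG.hAQ

end Cfsg.Agent.S2834
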