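import Cfsg.Statements.S2837
import Cfsg.Agent.Lib.Helper16.YMinComm

set_option autoImplicit false
open Cfsg

namespace Cfsg.Agent.S2837

/-- Let L be a finite group of characteristic p, L₀ a maximal subgroup, Y an elementary abelian p-subgroup of L₀ with L Y-minimal and O_p(L) ≤ N_L(Y). Put A = the normal closure of O_p(L) ∩ Y in L. Then for every g ∈ L outside L₀: Φ(A) = A' = [A ∩ Y, A] = [A ∩ Y, A ∩ gYg⁻¹] ≤ C_Y(L), and Y ∩ gYg⁻¹ = (A ∩ Y) ∩ (A ∩ gYg⁻¹) = C_Y(L) = C_A(L). -/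
theorem result {L : Type*} [Group L] [Finite L] {p : ℕ} [Fact p.Prime] (hchar : Subgroup.centralizer (Cfsg.pCore p L : Set L) ≤ Cfsg.pCore p L) (L₀ : Subgroup L) (hL₀ : IsCoatom L₀) (Y : Subgroup L) (hYL₀ : Y ≤ L₀) (hYel : Cfsg.IsElementaryAbelian p Y) (hmin : Cfsg.IsMinimalOver Y) (hOY : Cfsg.pCore p L ≤ Subgroup.normalizer (Y : Set L)) (A : Subgroup L) (hA : A = Subgroup.normalClosure (((Cfsg.pCore p L ⊓ Y : Subgroup L)) : Set L)) (g : L) (hg : g ∉ L₀) : (frattini ↥A).map A.subtype = ⁅A, A⁆ ∧ ⁅A, A⁆ = ⁅A ⊓ Y, A⁆ ∧ ⁅A ⊓ Y, A⁆ = ⁅A ⊓ Y, A ⊓ Y.map (MulAut.conj g).toMonoidHom⁆ ∧ ⁅A ⊓ Y, A⁆ ≤ Y ⊓ Subgroup.center L ∧ Y ⊓ Y.map (MulAut.conj g).toMonoidHom = Y ⊓ Subgroup.center L ∧ (A ⊓ Y) ⊓ (A ⊓ Y.map (MulAut.conj g).toMonoidHom) = Y ⊓ Subgroup.center L ∧ A ⊓ Subgroup.center L = Y ⊓ Subgroup.center L := by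
  obtain ⟨hYc, hYp⟩ := hYel
  have hYc' : ∀ x ∈ Y, ∀ y ∈ Y, x * y = y * x := by
    intro x hx y hy
    exact congrArg Subtype.val (hYc.is_comm.comm ⟨x, hx⟩ ⟨y, hy⟩)
  have hYpg : IsPGroup p Y := by
    intro ⟨y, hy⟩
    refine ⟨1, ?_⟩
    ext
    simpa using hYp y hy
  have hYsub : IsPGroup p (Y.subgroupOf L₀) := hYpg.comap_subtype
  obtain ⟨T, hT⟩ := hYsub.exists_le_sylow
  have hYT : Y ≤ (T : Subgroup ↥L₀).map L₀.subtype := by
    have h1 : (Y.subgroupOf L₀).map L₀.subtype = Y := Subgroup.map_subgroupOf_eq_of_le hYL₀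
    calc Y = (Y.subgroupOf L₀).map L₀.subtype := h1.symm
      _ ≤ _ := Subgroup.map_mono hT
  obtain ⟨-, -, -, -, h5, h6⟩ :=
    Cfsg.Agent.Lib.Helper16.minimalOver_structure L₀ hL₀ T Y hYT hmin
  have hgen := h5 g hg
  have hint := h6 hYc g hg
  obtain ⟨hAK, hAD, hBBg, hAA, hYZ, hAZ⟩ :=
    Cfsg.Agent.Lib.Helper16.yMin_structure hYc' hYp hgen hint hOY A hA
  have hBA : Cfsg.pCore p L ⊓ Y ≤ A := by rw [hAK]; exact le_sup_left
  have hBgA : Cfsg.pCore p L ⊓ Y.map (MulAut.conj g).toMonoidHom ≤ A := by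
    rw [hAK]; exact le_sup_right
  have hAY : A ⊓ Y = Cfsg.pCore p L ⊓ Y :=
    le_antisymm (le_inf (inf_le_left.trans hAD) inf_le_right) (le_inf hBA inf_le_right)
  have hAYg : A ⊓ Y.map (MulAut.conj g).toMonoidHom =
      Cfsg.pCore p L ⊓ Y.map (MulAut.conj g).toMonoidHom :=
    le_antisymm (le_inf (inf_le_left.trans hAD) inf_le_right) (le_inf hBgA inf_le_right)
  rw [hAY, hAYg]
  have e1 : ⁅Cfsg.pCore p L ⊓ Y, A⁆ ≤ ⁅A, A⁆ := Subgroup.commutator_mono hBA le_rfl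
  have e2 : ⁅Cfsg.pCore p L ⊓ Y, Cfsg.pCore p L ⊓ Y.map (MulAut.conj g).toMonoidHom⁆ ≤
      ⁅Cfsg.pCore p L ⊓ Y, A⁆ := Subgroup.commutator_mono le_rfl hBgA
  refine ⟨?_, le_antisymm (hAA.trans e2) e1, le_antisymm (e1.trans hAA) e2,
    (e1.trans hAA).trans hBBg, hint, ?_, le_antisymm (le_inf hAZ inf_le_right)
      (le_inf (hYZ.trans hBA) inf_le_right)⟩
  · -- Frattini
    rw [← Subgroup.map_subtype_commutator]
    congr 1
    have hAp : IsPGroup p ↥A :=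
      (Cfsg.Agent.Lib.Helper16.pCore_isPGroup (G := L) (p := p)).to_le hAD
    apply Cfsg.Agent.Lib.Helper16.frattini_eq_commutator_of_generated hAp
      {x : ↥A | (x : L) ∈ Cfsg.pCore p L ⊓ Y ∨
        (x : L) ∈ Cfsg.pCore p L ⊓ Y.map (MulAut.conj g).toMonoidHom}
    · rw [eq_top_iff]
      have h1 : (Cfsg.pCore p L ⊓ Y).subgroupOf A ⊔
          (Cfsg.pCore p L ⊓ Y.map (MulAut.conj g).toMonoidHom).subgroupOf A = ⊤ := by
        rw [← Subgroup.subgroupOf_sup hBA hBgA, ← hAK]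
        exact Subgroup.subgroupOf_self A
      rw [← h1]
      apply sup_le
      · intro x hx
        exact Subgroup.subset_closure (Or.inl (Subgroup.mem_subgroupOf.mp hx))
      · intro x hx
        exact Subgroup.subset_closure (Or.inr (Subgroup.mem_subgroupOf.mp hx))
    · rintro ⟨s, hsA⟩ (hs | hs)
      · ext
        simpa using hYp s hs.2
      · obtain ⟨y, hy, rfl⟩ := hs.2
        ext
        simp only [MulEquiv.coe_toMonoidHom, MulAut.conj_apply, SubmonoidClass.mk_pow,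
          conj_pow, hYp y hy, OneMemClass.coe_one]
        group
  · -- (A ⊓ Y) ⊓ (A ⊓ Yg)
    apply le_antisymm
    · rw [← hint]
      exact le_inf (inf_le_left.trans inf_le_right) (inf_le_right.trans inf_le_right)
    · apply le_inf hYZ
      rw [← hint]
      exact le_inf (by rw [hint]; exact hYZ.trans inf_le_left) inf_le_right

end Cfsg.Agent.S2837
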