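import Cfsg.Statements.S2846
import Cfsg.Agent.Lib.Helper16.FrakMExists
import Cfsg.Agent.Lib.Helper16.LargeChar
import Cfsg.Agent.Lib.Helper16.Large2
import Cfsg.Agent.Lib.Helper16.PReduced2
import Cfsg.Agent.Lib.Helper16.FrakM

set_option autoImplicit false
open Cfsg

namespace Cfsg.Agent.S2846

/-- Let Q be a nontrivial large p-subgroup of the finite group H, S a Sylow p-subgroup containing Q, and L a subgroup containing S with O_p(L) ≠ 1 and C_H(O_p(L)) ≤ O_p(L). Then there are a subgroup M containing S having the basic property (M ∈ 𝔐_H, writing Y_X for the largest p-reduced normal subgroup of X and 𝓛_H for the set of subgroups X with O_p(X) ≠ 1 and C_H(O_p(X)) ≤ O_p(X): M ∈ 𝓛_H, M·C_H(Y_M) is the only maximal member of 𝓛_H containing M and its largest p-reduced normal subgroup is again Y_M, C_M(Y_M) is p-closed, and the image of C_M(Y_M) in M/O_p(M) lies in the Frattini subgroup of M/O_p(M)) and a subgroup L* with S ≤ L* ≤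 M, O_p(L*) ≠ 1, C_H(O_p(L*)) ≤ O_p(L*), such that L·C_H(Y_L) = L*·C_H(Y_L), the weak closures of Q in L and in L* agree and lie in that of M, and Y_L = Y_{L*} ≤ Y_M. If moreover Q is not normal in L, then Q is normal in neither L* nor M. -/
theorem result {H : Type*} [Group H] [Finite H] {p : ℕ} [Fact p.Prime] (Q : Subgroup H) (hQp : IsPGroup p ↥Q) (hQ1 : Q ≠ ⊥) (hLg : Cfsg.IsLarge Q) (S : Sylow p H) (hQS : Q ≤ (S : Subgroup H)) (L : Subgroup H) (hSL : (S : Subgroup H) ≤ L) (hL : L ∈ Cfsg.charPSubgroups p H) : ∃ M Ls : Subgroup H, (S : Subgroup H) ≤ M ∧ Cfsg.IsInFrakM p M ∧ (S : Subgroup H) ≤ Ls ∧ Ls ≤ M ∧ Ls ∈ Cfsg.charPSubgroups p H ∧ L ⊔ Subgroup.centralizer (((Cfsg.largestPReducedOf p L) : Subgroup H) : Set H) = Ls ⊔ Subgroup.centralizer (((Cfsg.largestPReducedOf p L) : Subgroup H) : Set H) ∧ Cfsg.weakClosure Q L = Cfsg.weakClosure Q Ls ∧ Cfsg.weakClosure Q Ls ≤ Cfsg.weakClosure Q M ∧ (Cfsg.largestPReducedOf p L) = (Cfsg.largestPReducedOf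 p Ls) ∧ (Cfsg.largestPReducedOf p Ls) ≤ (Cfsg.largestPReducedOf p M) ∧ (¬ L ≤ Subgroup.normalizer ((Q : Subgroup H) : Set H) → ¬ Ls ≤ Subgroup.normalizer ((Q : Subgroup H) : Set H) ∧ ¬ M ≤ Subgroup.normalizer ((Q : Subgroup H) : Set H)) := by
  have hPC : Cfsg.Agent.Lib.Helper16.ParabolicCharP p H := fun X hX h1 =>
    Cfsg.Agent.Lib.Helper16.large_parabolic_centralizer_le hQp hLg hX h1
  obtain ⟨M, Ls, h1, h2, h3, h4, h5, h6, h7, h8⟩ :=
    Cfsg.Agent.Lib.Helper16.exists_frakM hPC S L hSL hL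
  have hLc := Cfsg.Agent.Lib.Helper16.charP_of_mem_charPSubgroups hL
  have hLsc := Cfsg.Agent.Lib.Helper16.charP_of_mem_charPSubgroups h5
  have hS1 : (S : Subgroup H) ≠ ⊥ := by
    intro h
    apply hQ1
    rw [eq_bot_iff, ← h]
    exact hQS
  set Y : Subgroup H := largestPReducedOf p L with hY
  have hY1 : Y ≠ ⊥ := Cfsg.Agent.Lib.Helper16.largestPReducedOf_ne_bot S hSL hLc hS1
  obtain ⟨_, hapr, _, _, _⟩ := Cfsg.Agent.Lib.Helper16.largestPReducedOf_spec L hLc
  obtain ⟨_, hapr', _, _, _⟩ := Cfsg.Agent.Lib.Helper16.largestPReducedOf_spec Ls hLsc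
  rw [← h6] at hapr'
  have hLY : L ≤ Subgroup.normalizer (Y : Set H) := hapr.1
  have hLsY : Ls ≤ Subgroup.normalizer (Y : Set H) := hapr'.1
  have hYp : IsPGroup p ↥Y := by
    intro y
    refine ⟨1, ?_⟩
    apply Subtype.ext
    have := hapr.2.1.2 (y : H) y.2
    simpa using this
  have e1 := (Cfsg.Agent.Lib.Helper16.large_weakClosure Q hQp hQ1 hLg L (hQS.trans hSL) Y hYp hY1 hLY).1
  have e2 := (Cfsg.Agent.Lib.Helper16.large_weakClosure Q hQp hQ1 hLg Ls (hQS.trans h3) Y hYp hY1 hLsY).1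
  have hwc : weakClosure Q L = weakClosure Q Ls := by rw [e1, e2, h8]
  have hCN : Subgroup.centralizer (Y : Set H) ≤ Subgroup.normalizer (Q : Set H) :=
    Cfsg.Agent.Lib.Helper16.large_centralizer_le_normalizer hQp hLg hYp hY1
      ((hQS.trans hSL).trans hLY)
  refine ⟨M, Ls, h1, h2, h3, h4, h5, h8, hwc, ?_, h6, ?_, ?_⟩
  · unfold weakClosure
    apply iSup_le
    rintro ⟨g, hg⟩
    exact le_iSup (fun g : {g : H // Q.map (MulAut.conj g).toMonoidHom ≤ M} =>
      Q.map (MulAut.conj (g : H)).toMonoidHom) ⟨g, hg.trans h4⟩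
  · rw [← h6]; exact h7
  · intro hLN
    have hLs : ¬ Ls ≤ Subgroup.normalizer (Q : Set H) := by
      intro hLsN
      apply hLN
      calc L ≤ L ⊔ Subgroup.centralizer (Y : Set H) := le_sup_left
        _ = Ls ⊔ Subgroup.centralizer (Y : Set H) := h8
        _ ≤ Subgroup.normalizer (Q : Set H) := sup_le hLsN hCN
    exact ⟨hLs, fun hMN => hLs (h4.trans hMN)⟩

end Cfsg.Agent.S2846
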