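import Cfsg.Statements.S2847
import Cfsg.Agent.Lib.Helper16.FrakMExists
import Cfsg.Agent.Lib.Helper16.Trace3
import Cfsg.Agent.Lib.Helper16.Large2
import Cfsg.Agent.Lib.Helper16.PReduced2

set_option autoImplicit false
open Cfsg

namespace Cfsg.Agent.S2847

/-- Let H be a finite group of parabolic characteristic p, T a Sylow p-subgroup and L a subgroup containing T with O_p(L) ≠ 1 and C_H(O_p(L)) ≤ O_p(L). Then there are M ≥ T with the basic property (M ∈ 𝔐_H) and L* with T ≤ L* ≤ M, O_p(L*) ≠ 1, C_H(O_p(L*)) ≤ O_p(L*), such that Y_L = Y_{L*} ≤ Y_M and L·C_H(Y_L) = L*·C_H(Y_L), Y denoting largest p-reduced normal subgroups. -/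
theorem result {H : Type*} [Group H] [Finite H] {p : ℕ} [Fact p.Prime] (hH : Cfsg.IsOfParabolicCharacteristic p H) (T : Sylow p H) (L : Subgroup H) (hTL : (T : Subgroup H) ≤ L) (hL : L ∈ Cfsg.charPSubgroups p H) : ∃ M Ls : Subgroup H, (T : Subgroup H) ≤ M ∧ Cfsg.IsInFrakM p M ∧ (T : Subgroup H) ≤ Ls ∧ Ls ≤ M ∧ Ls ∈ Cfsg.charPSubgroups p H ∧ (Cfsg.largestPReducedOf p L) = (Cfsg.largestPReducedOf p Ls) ∧ (Cfsg.largestPReducedOf p L) ≤ (Cfsg.largestPReducedOf p M) ∧ L ⊔ Subgroup.centralizer (((Cfsg.largestPReducedOf p L) : Subgroup H) : Set H) = Ls ⊔ Subgroup.centralizer (((Cfsg.largestPReducedOf p L) : Subgroup H) : Set H) := by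
  have hPC : Cfsg.Agent.Lib.Helper16.ParabolicCharP p H := by
    intro X hX hR1
    obtain ⟨T', hT'X⟩ := hX
    set R : Subgroup H := pCoreOf p X with hR
    have hRp : IsPGroup p ↥R := Cfsg.Agent.Lib.Helper16.pCoreOf_isPGroup X
    set N : Subgroup H := Subgroup.normalizer (R : Set H) with hN
    have hXN : X ≤ N := Cfsg.Agent.Lib.Helper16.le_normalizer_pCoreOf X
    have hNpar : IsParabolic p N := ⟨T', hT'X.trans hXN⟩
    have hchar := hH R hRp hR1 hNpar
    have hamb := Cfsg.Agent.Lib.Helper16.charP_ambient N hchar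
    -- O_p(N) ≤ R
    have h1 : pCoreOf p N ≤ R := by
      have h2 : pCoreOf p N ≤ (T' : Subgroup H) :=
        Cfsg.Agent.Lib.Helper16.pCoreOf_le_sylow T' (hT'X.trans hXN)
      have h3 : pCoreOf p N ≤ X := h2.trans hT'X
      have h4 : X ≤ Subgroup.normalizer ((pCoreOf p N : Subgroup H) : Set H) :=
        hXN.trans (Cfsg.Agent.Lib.Helper16.le_normalizer_pCoreOf N)
      exact Cfsg.Agent.Lib.Helper16.le_pCoreOf h3 h4 (Cfsg.Agent.Lib.Helper16.pCoreOf_isPGroup N)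
    -- R ≤ O_p(N)
    have h5 : R ≤ pCoreOf p N :=
      Cfsg.Agent.Lib.Helper16.le_pCoreOf Subgroup.le_normalizer le_rfl hRp
    have h6 : pCoreOf p N = R := le_antisymm h1 h5
    intro x hx
    have hxN : x ∈ N := Subgroup.centralizer_le_normalizer _ hx
    have := hamb ⟨hxN, by rw [h6]; exact hx⟩
    rw [h6] at this
    exact this
  obtain ⟨M, Ls, h1, h2, h3, h4, h5, h6, h7, h8⟩ :=
    Cfsg.Agent.Lib.Helper16.exists_frakM hPC T L hTL hL
  exact ⟨M, Ls, h1, h2, h3, h4, h5, h6, h7, h8⟩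

end Cfsg.Agent.S2847
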