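import Cfsg.Statements.S2859
import Cfsg.Agent.Lib.Helper16.WCPair

set_option autoImplicit false
open Cfsg

namespace Cfsg.Agent.S2859

/-- Let Q be a nontrivial p-subgroup of the finite group H that is a weakly closed subgroup, H° the weak closure of Q in H (generated by the conjugates of Q) and H_∘ = O^p(H°). Suppose H₁, H₂ are normal subgroups of H° with H° = H₁H₂ and [H₁, H₂] ≤ N_H(Q), and put Kᵢ = O^p of the weak closure of Q in HᵢQ. Then for i = 1, 2: Kᵢ = [Kᵢ, Q] = [Kᵢ, Hᵢ] ≤ Hᵢ′ and Kᵢ is normal in H°; H_∘ = K₁K₂; and [K₁, K₂] ≤ O_p(H°). -/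
theorem result {G : Type*} [Group G] [Finite G] {p : ℕ} [Fact p.Prime] (Q : Subgroup G) (hQp : IsPGroup p ↥Q) (hQ1 : Q ≠ ⊥) (hwc : Cfsg.IsWeaklyClosedSubgroup p Q) (Hc : Subgroup G) (hHc : Hc = Cfsg.weakClosure Q ⊤) (H₁ H₂ : Subgroup G) (hn₁ : H₁ ≤ Hc ∧ Hc ≤ Subgroup.normalizer ((H₁ : Subgroup G) : Set G)) (hn₂ : H₂ ≤ Hc ∧ Hc ≤ Subgroup.normalizer ((H₂ : Subgroup G) : Set G)) (hprod : H₁ ⊔ H₂ = Hc) (hcomm : ⁅H₁, H₂⁆ ≤ Subgroup.normalizer ((Q : Subgroup G) : Set G)) (K₁ K₂ : Subgroup G) (hK₁ : K₁ = ((Cfsg.pResidual p ↥(Cfsg.weakClosure Q (H₁ ⊔ Q))).map ((Cfsg.weakClosure Q (H₁ ⊔ Q))).subtype)) (hK₂ : K₂ = ((Cfsg.pResidual p ↥(Cfsg.weakClosure Q (H₂ ⊔ Q))).map ((Cfsg.weakClosure Q (H₂ ⊔ Q))).subtype)) : (⁅K₁, Q⁆ = K₁ ∧ ⁅K₁, H₁⁆ = K₁ ∧ K₁ ≤ ⁅H₁, H₁⁆ ∧ Hc ≤ Subgroup.normalizer ((K₁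 : Subgroup G) : Set G)) ∧ (⁅K₂, Q⁆ = K₂ ∧ ⁅K₂, H₂⁆ = K₂ ∧ K₂ ≤ ⁅H₂, H₂⁆ ∧ Hc ≤ Subgroup.normalizer ((K₂ : Subgroup G) : Set G)) ∧ K₁ ⊔ K₂ = ((Cfsg.pResidual p ↥Hc).map (Hc).subtype) ∧ ⁅K₁, K₂⁆ ≤ (Cfsg.pCoreOf p Hc) := by
  have hK₁' : K₁ = Cfsg.Agent.Lib.Helper16.OpOf p (Cfsg.weakClosure Q (H₁ ⊔ Q)) := by
    rw [hK₁, Cfsg.Agent.Lib.Helper16.pResidual_map_subtype]
  have hK₂' : K₂ = Cfsg.Agent.Lib.Helper16.OpOf p (Cfsg.weakClosure Q (H₂ ⊔ Q)) := by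
    rw [hK₂, Cfsg.Agent.Lib.Helper16.pResidual_map_subtype]
  have hcomm' : ⁅H₂, H₁⁆ ≤ Subgroup.normalizer (Q : Set G) := by
    rw [Subgroup.commutator_comm]; exact hcomm
  have hprod' : H₂ ⊔ H₁ = Hc := by rw [sup_comm]; exact hprod
  have hQHc : Q ≤ Hc := by rw [hHc]; exact Cfsg.Agent.Lib.Helper16.le_weakClosure le_top
  obtain ⟨-, hK₁H, -, -⟩ := Cfsg.Agent.Lib.Helper16.wc_K_basic hQp hQHc hn₁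
  obtain ⟨-, hK₂H, -, -⟩ := Cfsg.Agent.Lib.Helper16.wc_K_basic hQp hQHc hn₂
  have hE₁ := Cfsg.Agent.Lib.Helper16.wc_pair_comm_H hQp hwc hHc hn₁ hn₂ hprod hcomm
  have hE₂ := Cfsg.Agent.Lib.Helper16.wc_pair_comm_H hQp hwc hHc hn₂ hn₁ hprod' hcomm'
  have hHD : Hc ≤ Subgroup.normalizer ((⁅H₁, H₂⁆ : Subgroup G) : Set G) :=
    Cfsg.Agent.Lib.Helper16.le_normalizer_commutator hn₁.2 hn₂.2
  have hDHc : ⁅H₁, H₂⁆ ≤ Hc :=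
    (Subgroup.le_normalizer_iff_commutator_le_left.mp (hn₂.1.trans hn₁.2)).trans hn₁.1
  rw [hK₁', hK₂', Cfsg.Agent.Lib.Helper16.pResidual_map_subtype]
  refine ⟨⟨Cfsg.Agent.Lib.Helper16.wc_residual_comm hQp hwc le_sup_right, hE₁, ?_,
      Cfsg.Agent.Lib.Helper16.wc_pair_normal hQp hwc hHc hn₁ hn₂ hprod hcomm⟩,
    ⟨Cfsg.Agent.Lib.Helper16.wc_residual_comm hQp hwc le_sup_right, hE₂, ?_,
      Cfsg.Agent.Lib.Helper16.wc_pair_normal hQp hwc hHc hn₂ hn₁ hprod' hcomm'⟩,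
    Cfsg.Agent.Lib.Helper16.wc_pair_sup hQp hwc hHc hn₁ hn₂ hprod hcomm,
    (Cfsg.Agent.Lib.Helper16.wc_pair_commutator hQp hwc hHc hn₁ hn₂ hprod hcomm).trans
      (Cfsg.Agent.Lib.Helper16.pCoreOf_le_pCoreOf_of_normal hDHc hHD)⟩
  · calc Cfsg.Agent.Lib.Helper16.OpOf p (Cfsg.weakClosure Q (H₁ ⊔ Q))
        = ⁅Cfsg.Agent.Lib.Helper16.OpOf p (Cfsg.weakClosure Q (H₁ ⊔ Q)), H₁⁆ := hE₁.symm
      _ ≤ ⁅H₁, H₁⁆ := Subgroup.commutator_mono hK₁H le_rfl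
  · calc Cfsg.Agent.Lib.Helper16.OpOf p (Cfsg.weakClosure Q (H₂ ⊔ Q))
        = ⁅Cfsg.Agent.Lib.Helper16.OpOf p (Cfsg.weakClosure Q (H₂ ⊔ Q)), H₂⁆ := hE₂.symm
      _ ≤ ⁅H₂, H₂⁆ := Subgroup.commutator_mono hK₂H le_rfl

end Cfsg.Agent.S2859
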