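import Cfsg.Statements.S2860
import Cfsg.Agent.Lib.Helper16.LargeQS

set_option autoImplicit false
open Cfsg

namespace Cfsg.Agent.S2860

/-- Let Q be a nontrivial large p-subgroup of the finite group H, U a nontrivial elementary abelian p-subgroup of H, and Q ≤ E ≤ N_H(U) with Q not normal in E. Suppose O_p(E/C_E(U)) = 1 and O^p(E)·C_E(U)/C_E(U) is quasisimple. Let E° be the weak closure of Q in E (generated by the conjugates of Q inside E) and E_∘ = O^p(E°). Then O^p(E)·C_E(U) = E_∘·C_E(U); E_∘ is perfect and equals O^p(E_∘); E_∘/C_{E_∘}(U) and E_∘/O_p(E_∘) are quasisimple; and E_∘ = [E_∘, Y] for every p-subgroup Y of E not centralizing U. -/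
theorem result {G : Type*} [Group G] [Finite G] {p : ℕ} [Fact p.Prime] (Q : Subgroup G) (hQp : IsPGroup p ↥Q) (hQ1 : Q ≠ ⊥) (hQ : Cfsg.IsLarge Q) (U : Subgroup G) (hU : Cfsg.IsElementaryAbelian p U) (hU1 : U ≠ ⊥) (E : Subgroup G) (hQE : Q ≤ E) (hEU : E ≤ Subgroup.normalizer ((U : Subgroup G) : Set G)) (hQn : ¬ E ≤ Subgroup.normalizer ((Q : Subgroup G) : Set G)) [hn : ((Subgroup.centralizer ((U : Subgroup G) : Set G)).subgroupOf E).Normal] (hred : Cfsg.pCore p (↥E ⧸ (Subgroup.centralizer ((U : Subgroup G) : Set G)).subgroupOf E) = ⊥) (hqs : Cfsg.IsQuasisimple ↥(((Cfsg.pResidual p ↥E) ⊔ (Subgroup.centralizer ((U : Subgroup G) : Set G)).subgroupOf E).map (QuotientGroup.mk' ((Subgroup.centralizer ((U : Subgroup G) : Set G)).subgroupOf E)))) (Er : Subgroup G) (hEr : Er = ((Cfsg.pResidual p ↥(Cfsg.weakClosure Q E)).map ((Cfsg.weakClosure Q E)).subtype)) [hn2 : ((Subgroup.centralizer ((U : Subgroup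 G) : Set G)).subgroupOf Er).Normal] : ((Cfsg.pResidual p ↥E).map (E).subtype) ⊔ (E ⊓ Subgroup.centralizer ((U : Subgroup G) : Set G)) = Er ⊔ (E ⊓ Subgroup.centralizer ((U : Subgroup G) : Set G)) ∧ ⁅Er, Er⁆ = Er ∧ ((Cfsg.pResidual p ↥Er).map (Er).subtype) = Er ∧ Cfsg.IsQuasisimple (↥Er ⧸ (Subgroup.centralizer ((U : Subgroup G) : Set G)).subgroupOf Er) ∧ Cfsg.IsQuasisimple (↥Er ⧸ Cfsg.pCore p ↥Er) ∧ ∀ Y : Subgroup G, Y ≤ E → IsPGroup p ↥Y → ¬ Y ≤ Subgroup.centralizer ((U : Subgroup G) : Set G) → ⁅Er, Y⁆ = Er := by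
  obtain ⟨hUc, hUpow⟩ := hU
  have hUp : IsPGroup p U := by
    intro ⟨u, hu⟩
    refine ⟨1, ?_⟩
    ext
    simpa using hUpow u hu
  have hEr' : Er = Cfsg.Agent.Lib.Helper16.OpOf p (Cfsg.weakClosure Q E) := by
    rw [hEr, Cfsg.Agent.Lib.Helper16.pResidual_map_subtype]
  obtain ⟨hErE, ho1, ho4, ho5, ho6, ho2, ho7⟩ :=
    Cfsg.Agent.Lib.Helper16.large_quasisimple_core Q hQp hQ1 hQ U hUp hU1 E hQE hEU hQn hred hqs
  have hidem := Cfsg.Agent.Lib.Helper16.OpOf_idem (p := p) (Cfsg.weakClosure Q E)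
  rw [← hEr'] at hErE ho1 ho4 ho5 ho6 ho2 ho7 hidem
  have h4 := Cfsg.Agent.Lib.Helper16.isQuasisimple_quotient_of_barOf hErE _ ho4 hqs
  refine ⟨?_, ho2, ?_, h4,
    Cfsg.Agent.Lib.Helper16.isQuasisimple_quotient_pCore ho2 ho5 ho6 h4, ho7⟩
  · rw [Cfsg.Agent.Lib.Helper16.pResidual_map_subtype]; exact ho1
  · rw [Cfsg.Agent.Lib.Helper16.pResidual_map_subtype]; exact hidem

end Cfsg.Agent.S2860
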