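import Cfsg.Statements.S2873
import Cfsg.Agent.Lib.Helper16.DihedralQuotient
import Cfsg.Agent.Lib.Helper16.PCore

set_option autoImplicit false
open Cfsg

namespace Cfsg.Agent.S2873

/-- Let G be a finite group and r an odd prime such that G ⧸ O₂(G) is dihedral of order 2r, and let R be a Sylow r-subgroup of G with C_{O₂(G)}(R) = 1. Then N_G(R) is dihedral of order 2r; for any involution a of N_G(R), every involution of G outside O₂(G) is conjugate to a; and |C_{O₂(G)}(a)|² = |O₂(G)|. -/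
theorem result {G : Type*} [Group G] [Finite G] {r : ℕ} [Fact r.Prime] (hr : r ≠ 2) [hN : (Cfsg.pCore 2 G).Normal] (hquot : Nonempty (G ⧸ Cfsg.pCore 2 G ≃* DihedralGroup r)) (R : Sylow r G) (hC : Cfsg.pCore 2 G ⊓ Subgroup.centralizer ((R : Subgroup G) : Set G) = ⊥) : Nonempty (↥(Subgroup.normalizer ((R : Subgroup G) : Set G)) ≃* DihedralGroup r) ∧ ∀ a : G, a ∈ Subgroup.normalizer ((R : Subgroup G) : Set G) → orderOf a = 2 → (∀ b : G, orderOf b = 2 → b ∉ Cfsg.pCore 2 G → ∃ g : G, g * a * g⁻¹ = b) ∧ Nat.card ↥(Cfsg.pCore 2 G ⊓ Subgroup.centralizer ({a} : Set G)) ^ 2 = Nat.card ↥(Cfsg.pCore 2 G) := by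
  classical
  haveI : Fact (Nat.Prime 2) := ⟨Nat.prime_two⟩
  obtain ⟨e⟩ := hquot
  set Q : Subgroup G := Cfsg.pCore 2 G with hQ
  set π : G →* DihedralGroup r := e.toMonoidHom.comp (QuotientGroup.mk' Q) with hπ
  have hπs : Function.Surjective π := by
    intro d
    obtain ⟨x, hx⟩ := QuotientGroup.mk'_surjective Q (e.symm d)
    refine ⟨x, ?_⟩
    rw [hπ, MonoidHom.comp_apply, hx]
    exact e.apply_symm_apply d
  have hker : π.ker = Q := by
    ext x
    rw [MonoidHom.mem_ker, hπ, MonoidHom.comp_apply]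
    constructor
    · intro h
      have h1 : (QuotientGroup.mk' Q) x = 1 := by
        apply e.injective
        rw [map_one]; exact h
      exact (QuotientGroup.eq_one_iff x).mp h1
    · intro h
      have h1 : (QuotientGroup.mk' Q) x = 1 := (QuotientGroup.eq_one_iff x).mpr h
      rw [h1]; exact map_one _
  have hQ2 : IsPGroup 2 ↥Q := Cfsg.Agent.Lib.Helper16.pCore_isPGroup
  have H : Cfsg.Agent.Lib.Helper16.DQHyp Q π :=
    Cfsg.Agent.Lib.Helper16.dqHyp_of hr hQ2 hπs hker R hC
  have hinv : ∀ x : G, orderOf x = 2 → x * x = 1 ∧ x ≠ 1 := by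
    intro x hx
    constructor
    · have := pow_orderOf_eq_one x
      rw [hx, sq] at this
      exact this
    · rintro rfl
      rw [orderOf_one] at hx
      omega
  refine ⟨?_, ?_⟩
  · refine ⟨MulEquiv.ofBijective
      (π.comp (Subgroup.normalizer ((R : Subgroup G) : Set G)).subtype) ⟨?_, ?_⟩⟩
    · intro x y hxy
      apply Subtype.ext
      exact H.inj R x x.2 y y.2 hxy
    · intro d
      obtain ⟨n, hn, hnd⟩ := H.surj R d
      exact ⟨⟨n, hn⟩, hnd⟩
  · intro a haN ha2
    obtain ⟨ha, ha1⟩ := hinv a ha2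
    refine ⟨?_, ?_⟩
    · intro b hb2 hbQ
      obtain ⟨hb, -⟩ := hinv b hb2
      apply H.involution_conj hr R a haN ha ha1 b hb
      intro h
      apply hbQ
      rw [← hker, MonoidHom.mem_ker]; exact h
    · exact H.card_centralizer_sq hr R a haN ha ha1

end Cfsg.Agent.S2873
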