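import Cfsg.Statements.S2874
import Cfsg.Agent.Lib.Helper16.A4GL2Main

set_option autoImplicit false
open Cfsg

namespace Cfsg.Agent.S2874

/-- For k ≥ 2, any two subgroups of GL₂(ℤ/2ᵏℤ) (the automorphism group of the homocyclic group ℤ/2ᵏ × ℤ/2ᵏ) that are isomorphic to the alternating group of degree 4 are conjugate. -/
theorem result (k : ℕ) (hk : 2 ≤ k) (H₁ H₂ : Subgroup (GL (Fin 2) (ZMod (2 ^ k)))) (h₁ : Nonempty (↥H₁ ≃* ↥(alternatingGroup (Fin 4)))) (h₂ : Nonempty (↥H₂ ≃* ↥(alternatingGroup (Fin 4)))) : ∃ g : GL (Fin 2) (ZMod (2 ^ k)), H₂ = H₁.map (MulAut.conj g).toMonoidHom := by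
  obtain ⟨g₁, hg₁⟩ := Cfsg.Agent.Lib.Helper16.A4GL2.exists_conj_eq_S0 k hk H₁ h₁
  obtain ⟨g₂, hg₂⟩ := Cfsg.Agent.Lib.Helper16.A4GL2.exists_conj_eq_S0 k hk H₂ h₂
  refine ⟨g₂⁻¹ * g₁, ?_⟩
  ext x
  rw [Subgroup.mem_map]
  constructor
  · intro hx
    refine ⟨(g₂⁻¹ * g₁)⁻¹ * x * (g₂⁻¹ * g₁), ?_, ?_⟩
    · rw [hg₁]
      have := (hg₂ x).mp hx
      have e : g₁ * ((g₂⁻¹ * g₁)⁻¹ * x * (g₂⁻¹ * g₁)) * g₁⁻¹ = g₂ * x * g₂⁻¹ := by group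
      rw [e]; exact this
    · change (g₂⁻¹ * g₁) * ((g₂⁻¹ * g₁)⁻¹ * x * (g₂⁻¹ * g₁)) * (g₂⁻¹ * g₁)⁻¹ = x
      group
  · rintro ⟨y, hy, rfl⟩
    rw [hg₂]
    have := (hg₁ y).mp hy
    change g₂ * ((g₂⁻¹ * g₁) * y * (g₂⁻¹ * g₁)⁻¹) * g₂⁻¹ ∈ _
    have e : g₂ * ((g₂⁻¹ * g₁) * y * (g₂⁻¹ * g₁)⁻¹) * g₂⁻¹ = g₁ * y * g₁⁻¹ := by group
    rw [e]; exact this

end Cfsg.Agent.S2874
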