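import Cfsg.Statements.S2879
import Cfsg.Agent.Lib.Helper29.Q8Odd
import Cfsg.Agent.Lib.Helper29.DihedralLike
import Cfsg.Agent.Lib.Helper18.QDFrobenius
import Cfsg.Agent.Lib.Helper12.HallHigman
import Cfsg.Agent.Lib.Helper12.Cores
import Cfsg.Agent.Lib.Helper25.PSolvableOfSolvable
import Cfsg.Agent.Lib.Helper4.FourGraph1
import Cfsg.Agent.Lib.Helper24.PSolvable

set_option autoImplicit false
set_option linter.unusedSectionVars false
set_option linter.style.haveILetI false
open Cfsg

namespace Cfsg.Agent.S2879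

open Subgroup Cfsg.Agent.Lib.Helper29 Cfsg.Agent.Lib.Helper18

/-- the 24 possible images of the generators of `Q₈` under an automorphism -/
def q8Pairs : Finset (QuaternionGroup 2 × QuaternionGroup 2) :=
  Finset.univ.filter (fun p => p.1 ^ 2 ≠ 1 ∧ p.2 ^ 2 ≠ 1 ∧ p.2 ≠ p.1 ∧ p.2 ≠ p.1⁻¹)

theorem card_q8Pairs : q8Pairs.card = 24 := by decide

theorem card_mulAut_q8_le : Nat.card (MulAut (QuaternionGroup 2)) ≤ 24 := by
  classical
  rw [← card_q8Pairs, ← Nat.card_eq_finsetCard]
  apply Nat.card_le_card_of_injective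
    (fun α : MulAut (QuaternionGroup 2) =>
      (⟨(α (QuaternionGroup.a 1), α (QuaternionGroup.xa 0)), by
        rw [q8Pairs, Finset.mem_filter]
        refine ⟨Finset.mem_univ _, ?_, ?_, ?_, ?_⟩
        · show (α (QuaternionGroup.a 1)) ^ 2 ≠ 1
          rw [← map_pow]
          intro h
          have := α.injective (h.trans (map_one α).symm)
          revert this; decide
        · show (α (QuaternionGroup.xa 0)) ^ 2 ≠ 1
          rw [← map_pow]
          intro h
          have := α.injective (h.trans (map_one α).symm)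
          revert this; decide
        · show α (QuaternionGroup.xa 0) ≠ α (QuaternionGroup.a 1)
          intro h
          have := α.injective h
          revert this; decide
        · show α (QuaternionGroup.xa 0) ≠ (α (QuaternionGroup.a 1))⁻¹
          rw [← map_inv]
          intro h
          have := α.injective h
          revert this; decide⟩ : q8Pairs))
  intro α β h
  have h1 : (α (QuaternionGroup.a 1), α (QuaternionGroup.xa 0)) =
      (β (QuaternionGroup.a 1), β (QuaternionGroup.xa 0)) := congrArg Subtype.val h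
  have h2 := (Prod.mk.injEq _ _ _ _).mp h1
  have h3 : α.toMonoidHom = β.toMonoidHom := q8_hom_ext h2.1 h2.2
  ext u
  exact DFunLike.congr_fun h3 u

theorem q8_center : ∀ u : QuaternionGroup 2, (∀ v, u * v = v * u) →
    u = 1 ∨ u = QuaternionGroup.a 2 := by decide


theorem q8_cover : ∀ u : QuaternionGroup 2, ∃ i : Fin 4,
    u = (QuaternionGroup.a 1) ^ (i : ℕ) ∨ u = QuaternionGroup.xa 0 * (QuaternionGroup.a 1) ^ (i : ℕ) := by
  decide

/-- quaternion data from an isomorphism with `QuaternionGroup 2` -/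
theorem isQ8Data_of_mulEquiv {G : Type*} [Group G] (Q : Subgroup G)
    (e : ↥Q ≃* QuaternionGroup 2) :
    IsQ8Data Q (e.symm (QuaternionGroup.a 1) : G) (e.symm (QuaternionGroup.xa 0) : G) := by
  refine ⟨(e.symm _).2, (e.symm _).2, ?_, ?_, ?_, ?_, ?_⟩
  · rw [Subgroup.orderOf_coe, MulEquiv.orderOf_eq, QuaternionGroup.orderOf_a_one]
  · intro hmem
    obtain ⟨k, hk⟩ := Subgroup.mem_zpowers_iff.mp hmem
    have hcomm : (e.symm (QuaternionGroup.xa 0) : G) * (e.symm (QuaternionGroup.a 1) : G) =
        (e.symm (QuaternionGroup.a 1) : G) * (e.symm (QuaternionGroup.xa 0) : G) := by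
      rw [← hk]
      exact ((Commute.refl _).zpow_left k).eq
    have h2 : e.symm (QuaternionGroup.xa 0) * e.symm (QuaternionGroup.a 1) =
        e.symm (QuaternionGroup.a 1) * e.symm (QuaternionGroup.xa 0) := Subtype.ext (by simpa using hcomm)
    rw [← map_mul, ← map_mul] at h2
    have h3 := e.symm.injective h2
    revert h3; decide
  · have h1 : (QuaternionGroup.xa 0 : QuaternionGroup 2) * QuaternionGroup.a 1 * (QuaternionGroup.xa 0)⁻¹ =
        (QuaternionGroup.a 1)⁻¹ := by decide
    have h2 : e.symm (QuaternionGroup.xa 0) * e.symm (QuaternionGroup.a 1) *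
        (e.symm (QuaternionGroup.xa 0))⁻¹ = (e.symm (QuaternionGroup.a 1))⁻¹ := by
      rw [← map_inv, ← map_mul, ← map_mul, ← map_inv, h1]
    exact congrArg Subtype.val h2
  · have h1 : (QuaternionGroup.xa 0 : QuaternionGroup 2) * QuaternionGroup.xa 0 =
        (QuaternionGroup.a 1) ^ 2 := by decide
    have h2 : e.symm (QuaternionGroup.xa 0) * e.symm (QuaternionGroup.xa 0) =
        (e.symm (QuaternionGroup.a 1)) ^ 2 := by
      rw [← map_mul, ← map_pow, h1]
    exact congrArg Subtype.val h2
  · intro q hq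
    obtain ⟨i, hi⟩ := q8_cover (e ⟨q, hq⟩)
    have hq' : q = ((e.symm (e ⟨q, hq⟩) : ↥Q) : G) := by simp
    rcases hi with hi | hi
    · left
      rw [hq', hi, map_pow, Subgroup.coe_pow]
      exact pow_mem (mem_zpowers _) _
    · right
      refine ⟨(e.symm (QuaternionGroup.a 1) : G) ^ (i : ℕ), pow_mem (mem_zpowers _) _, ?_⟩
      rw [hq', hi, map_mul, map_pow, Subgroup.coe_mul, Subgroup.coe_pow]


theorem card_q8_center : Fintype.card {u : QuaternionGroup 2 // ∀ v, u * v = v * u} = 2 := by
  decide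

/-- the relations of an adapted pair force `g³` to centralize `a` and `b` -/
theorem adapted_pow_three {G : Type*} [Group G] {a b g : G} (hbb : b * b = a ^ 2)
    (hba : b * a * b⁻¹ = a⁻¹) (hga : g * a * g⁻¹ = b) (hgb : g * b * g⁻¹ = a * b) :
    g ^ 3 * a * (g ^ 3)⁻¹ = a ∧ g ^ 3 * b * (g ^ 3)⁻¹ = b := by
  have hza : g ^ 3 * a * (g ^ 3)⁻¹ = a := by
    have h1 : g ^ 3 * a * (g ^ 3)⁻¹ = g * (g * (g * a * g⁻¹) * g⁻¹) * g⁻¹ := by
      rw [pow_succ, pow_two]; group
    have h2 : g * (a * b) * g⁻¹ = (g * a * g⁻¹) * (g * b * g⁻¹) := by group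
    have h3 : b * a = a⁻¹ * b := by
      calc b * a = (b * a * b⁻¹) * b := by group
        _ = a⁻¹ * b := by rw [hba]
    rw [h1, hga, hgb, h2, hga, hgb]
    calc b * (a * b) = (b * a) * b := by group
      _ = a⁻¹ * (b * b) := by rw [h3]; group
      _ = a⁻¹ * a ^ 2 := by rw [hbb]
      _ = a := by group
  refine ⟨hza, ?_⟩
  have h1 : g ^ 3 * b * (g ^ 3)⁻¹ = g * (g ^ 3 * a * (g ^ 3)⁻¹) * g⁻¹ := by
    rw [← hga, pow_succ, pow_two]; group
  rw [h1, hza, hga]


theorem result {G : Type*} [Group G] [Finite G] (hsol : IsSolvable G) (hO : Cfsg.oddCore G = ⊥) (T : Sylow 2 G) (hT : (∃ n : ℕ, 4 ≤ n ∧ Nonempty (↥(T : Subgroup G) ≃* DihedralGroup n)) ∨ Cfsg.IsQuasiDihedral ↥(T : Subgroup G)) (hne : (T : Subgroup G) ≠ ⊤) (hZ : ((T : Subgroup G) ⊓ Subgroup.centralizer ((T : Subgroup G) : Set G)).Normal) : ∃ U : Subgroup G, U.Normal ∧ Nonempty (↥U ≃* Matrix.SpecialLinearGroup (Fin 2) (ZMod 3)) := by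
  haveI : Fact (Nat.Prime 2) := ⟨Nat.prime_two⟩
  set R := Cfsg.pCore 2 G with hRdef
  haveI hRn : R.Normal := Cfsg.Agent.Lib.Helper24.pCore_normal' 2
  have hR2 : IsPGroup 2 R := Cfsg.Agent.Lib.Helper12.pCore_isPGroup' 2
  have hCR : centralizer (R : Set G) ≤ R :=
    Cfsg.Agent.Lib.Helper12.centralizer_pCore_le_pCore 2
      (Cfsg.Agent.Lib.Helper25.isPSolvable_of_isSolvable' 2 Nat.prime_two hsol) hO
  -- `R ≤ T`
  have hRT : R ≤ T := by
    obtain ⟨S, hS⟩ := hR2.exists_le_sylow
    obtain ⟨y, rfl⟩ := MulAction.exists_smul_eq G T S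
    intro r hr
    have h1 : y * r * y⁻¹ ∈ R := hRn.conj_mem r hr y
    have h2 := (mem_smul_sylow_iff y _ T).mp (hS h1)
    have h3 : y⁻¹ * (y * r * y⁻¹) * y = r := by group
    rwa [h3] at h2
  -- an element of odd prime order
  obtain ⟨g, q, hq, hq2, hgq⟩ : ∃ g : G, ∃ q : ℕ, q.Prime ∧ q ≠ 2 ∧ orderOf g = q := by
    have hidx : (T : Subgroup G).index ≠ 1 := fun h => hne (Subgroup.index_eq_one.mp h)
    obtain ⟨q, hq, hqd⟩ := Nat.exists_prime_and_dvd hidx
    have hq2 : q ≠ 2 := by
      rintro rfl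
      exact T.not_dvd_index hqd
    haveI : Fact q.Prime := ⟨hq⟩
    obtain ⟨g, hg⟩ := exists_prime_orderOf_dvd_card' q
      (hqd.trans (Subgroup.index_dvd_card _))
    exact ⟨g, q, hq, hq2, hg⟩
  have hcop : (orderOf g).Coprime 2 := by
    rw [hgq]; exact (Nat.coprime_primes hq Nat.prime_two).mpr hq2
  have hodd : Odd (orderOf g) := Nat.Coprime.odd_of_right hcop
  have hgN : g ∈ normalizer (R : Set G) := by
    rw [Subgroup.normalizer_eq_top]; exact mem_top g
  have hnotR : ∀ k : ℕ, g ^ k ∈ R → g ^ k = 1 := by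
    intro k hk
    obtain ⟨j, hj⟩ := (IsPGroup.iff_orderOf.mp hR2) ⟨g ^ k, hk⟩
    rw [Subgroup.orderOf_mk] at hj
    have h1 : orderOf (g ^ k) ∣ q := hgq ▸ orderOf_pow_dvd k
    have h2 : orderOf (g ^ k) = 1 := by
      rcases (Nat.dvd_prime hq).mp h1 with h | h
      · exact h
      · exfalso
        rw [h] at hj
        have : q ∣ 2 ^ j := hj ▸ dvd_refl q
        exact hq2 ((Nat.prime_dvd_prime_iff_eq hq Nat.prime_two).mp (hq.dvd_of_dvd_pow this))
    exact orderOf_eq_one_iff.mp h2
  have hg1 : g ≠ 1 := by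
    intro h
    rw [h, orderOf_one] at hgq
    exact hq.one_lt.ne hgq
  have hgc : g ∉ centralizer (R : Set G) := by
    intro h
    have := hnotR 1 (by simpa using hCR h)
    exact hg1 (by simpa using this)
  -- the order of `T`
  have hT8 : 8 ≤ Nat.card (T : Subgroup G) := by
    rcases hT with ⟨n, hn, ⟨e⟩⟩ | ⟨n, hn, hc, -⟩
    · rw [Nat.card_congr e.toEquiv, DihedralGroup.nat_card]; omega
    · rw [hc]
      calc 8 ≤ 2 ^ (3 + 1) := by norm_num
        _ ≤ 2 ^ (n + 1) := Nat.pow_le_pow_right (by norm_num) (by omega)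
  -- the centre of `T` lies in `R`
  set Z := (T : Subgroup G) ⊓ Subgroup.centralizer ((T : Subgroup G) : Set G) with hZdef
  have hZR : Z ≤ R :=
    Cfsg.Agent.Lib.Helper12.le_pCore' 2 Z hZ (IsPGroup.to_le T.isPGroup' inf_le_left)
  have hZ1 : Z ≠ ⊥ := by
    haveI : Nontrivial ↥(T : Subgroup G) := by
      rw [← Finite.one_lt_card_iff_nontrivial]; omega
    haveI := IsPGroup.center_nontrivial T.isPGroup'
    obtain ⟨z, hz⟩ := exists_ne (1 : center ↥(T : Subgroup G))
    intro hbot
    apply hz
    have hzZ : ((z : ↥(T : Subgroup G)) : G) ∈ Z := by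
      refine ⟨(z : ↥(T : Subgroup G)).2, ?_⟩
      show ((z : ↥(T : Subgroup G)) : G) ∈ centralizer ((T : Subgroup G) : Set G)
      rw [mem_centralizer_iff]
      intro t ht
      have := (mem_center_iff.mp z.2) ⟨t, ht⟩
      exact congrArg Subtype.val this
    rw [hbot, mem_bot] at hzZ
    exact Subtype.ext (Subtype.ext hzZ)
  -- the four-group case is impossible
  have hnoklein : ¬ IsKleinFour ↥R := by
    intro hK
    have hR4 : Nat.card R = 4 := hK.card_four
    have hZne : Z ≠ R := by
      intro hZR'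
      have hTC : (T : Subgroup G) ≤ centralizer (R : Set G) := by
        intro t ht
        rw [mem_centralizer_iff]
        intro r hr
        have hrZ : r ∈ Z := hZR' ▸ hr
        exact (mem_centralizer_iff.mp hrZ.2 t ht).symm
      have := Subgroup.card_le_of_le (hTC.trans hCR)
      omega
    have hZ2 : Nat.card Z = 2 := by
      have h1 : Nat.card Z ∣ 4 := hR4 ▸ Subgroup.card_dvd_of_le hZR
      have h2 : Nat.card Z ≠ 1 := fun h => hZ1 (Subgroup.card_eq_one.mp h)
      have h3 : Nat.card Z ≠ 4 := by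
        intro h
        exact hZne (Subgroup.eq_of_le_of_card_ge hZR (by rw [h, hR4]))
      have h4 : Nat.card Z ≤ 4 := Nat.le_of_dvd (by norm_num) h1
      interval_cases (Nat.card Z) <;> simp_all
    obtain ⟨z, hzZ, hz1⟩ : ∃ z ∈ Z, z ≠ 1 := by
      by_contra hcon
      push Not at hcon
      exact hZ1 ((Subgroup.eq_bot_iff_forall Z).mpr hcon)
    have hgz : g * z * g⁻¹ = z := by
      have h1 : g * z * g⁻¹ ∈ Z := hZ.conj_mem z hzZ g
      have h2 : g * z * g⁻¹ ≠ 1 := by
        intro h
        apply hz1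
        have : z = g⁻¹ * (g * z * g⁻¹) * g := by group
        rw [this, h]; group
      obtain ⟨w, -, hw⟩ := (Nat.card_eq_two_iff' (1 : ↥Z)).mp hZ2
      have e1 := hw ⟨z, hzZ⟩ (fun h => hz1 (congrArg Subtype.val h))
      have e2 := hw ⟨g * z * g⁻¹, h1⟩ (fun h => h2 (congrArg Subtype.val h))
      exact congrArg Subtype.val (e2.trans e1.symm)
    apply hgc
    apply mem_centralizer_of_card_four_of_fixed R hR4 g hgN hcop z (hZR hzZ) hz1
    calc g * z = (g * z * g⁻¹) * g := by group
      _ = z * g := by rw [hgz]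
  -- `R` is a quaternion group of order 8
  have hQ8 : Nonempty (↥R ≃* QuaternionGroup 2) := by
    rcases hT with ⟨n, hn, ⟨e⟩⟩ | hQD
    · exfalso
      have hD : DihLike R := (dihLike_of_mulEquiv_dihedralGroup (T : Subgroup G) n e).of_le hRT
      rcases mem_centralizer_or_isKleinFour R hR2 hD g hgN hcop with h | h
      · exact hgc h
      · exact hnoklein h
    · obtain ⟨m, x, y, hqd⟩ := exists_isQD hQD
      rcases hqd.subgroup_trichotomy (R.subgroupOf (T : Subgroup G)) with h | h | h
      · exfalso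
        apply hgc
        exact mem_centralizer_of_oddAutTrivial R (h.of_mulEquiv (subgroupOfEquivOfLe hRT)) g hgN
          hcop
      · exfalso
        apply hnoklein
        exact Cfsg.Agent.Lib.Helper4.isKleinFour_of_mulEquiv (subgroupOfEquivOfLe hRT) h
      · obtain ⟨e⟩ := h
        exact ⟨(subgroupOfEquivOfLe hRT).symm.trans e⟩
  obtain ⟨e⟩ := hQ8
  have hdata := isQ8Data_of_mulEquiv R e
  have hg' : ∀ r ∈ R, g * r * g⁻¹ ∈ R := fun r hr => hRn.conj_mem r hr g
  have hgc' : ∃ r ∈ R, g * r * g⁻¹ ≠ r := by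
    by_contra hcon
    push Not at hcon
    apply hgc
    rw [mem_centralizer_iff]
    intro r hr
    have := hcon r hr
    calc r * g = (g * r * g⁻¹) * g := by rw [this]
      _ = g * r := by group
  obtain ⟨a, b, haR, hbR, hord, hbb, hba, hga, hgb, hcl⟩ := hdata.exists_adapted g hg' hodd hgc'
  obtain ⟨hza, hzb⟩ := adapted_pow_three hbb hba hga hgb
  -- `g³ = 1`
  have hg3 : g ^ 3 = 1 := by
    apply hnotR 3
    apply hCR
    have hle : closure ({a, b} : Set G) ≤ centralizer {g ^ 3} := by
      rw [closure_le]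
      intro w hw
      rw [SetLike.mem_coe, mem_centralizer_iff]
      intro v hv
      rw [Set.mem_singleton_iff] at hv
      subst hv
      rcases hw with rfl | hw
      · calc g ^ 3 * w = (g ^ 3 * w * (g ^ 3)⁻¹) * g ^ 3 := by group
          _ = w * g ^ 3 := by rw [hza]
      · rw [Set.mem_singleton_iff] at hw
        subst hw
        calc g ^ 3 * w = (g ^ 3 * w * (g ^ 3)⁻¹) * g ^ 3 := by group
          _ = w * g ^ 3 := by rw [hzb]
    rw [mem_centralizer_iff]
    intro r hr
    have := mem_centralizer_iff.mp (hle (hcl hr)) (g ^ 3) (Set.mem_singleton _)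
    exact this.symm
  have hordg : orderOf g = 3 := orderOf_eq_prime hg3 hg1
  -- the subgroup `U`
  let U : Subgroup G := closure {a, b, g}
  have haU : a ∈ U := subset_closure (by simp)
  have hbU : b ∈ U := subset_closure (by simp)
  have hgU : g ∈ U := subset_closure (by simp)
  have heU : Nonempty (↥U ≃* Matrix.SpecialLinearGroup (Fin 2) (ZMod 3)) := by
    apply nonempty_mulEquiv_SL23_of_closure (a := (⟨a, haU⟩ : ↥U)) (b := ⟨b, hbU⟩) (t := ⟨g, hgU⟩)
    · rw [Subgroup.orderOf_mk]; exact hord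
    · exact Subtype.ext (by simpa using hbb)
    · exact Subtype.ext (by simpa using hba)
    · rw [Subgroup.orderOf_mk]; exact hordg
    · exact Subtype.ext (by simpa using hga)
    · exact Subtype.ext (by simpa using hgb)
    · have h1 : closure (((↑) : ↥U → G) ⁻¹' {a, b, g}) = ⊤ := Subgroup.closure_closure_coe_preimage
      rw [eq_top_iff, ← h1]
      apply Subgroup.closure_mono
      intro y hy
      have hy' : (y : G) ∈ ({a, b, g} : Set G) := hy
      rcases hy' with hy' | hy' | hy'
      · left; exact Subtype.ext hy'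
      · right; left; exact Subtype.ext hy'
      · right; right
        rw [Set.mem_singleton_iff] at hy' ⊢
        exact Subtype.ext hy'
  obtain ⟨eU⟩ := heU
  have hUcard : Nat.card U = 24 := by
    rw [Nat.card_congr eU.toEquiv, card_SL23]
  -- the order of `G`
  have hidxC : (centralizer (R : Set G)).index ≤ 24 := by
    have h1 : (centralizer (R : Set G)).index =
        (R.normalizerMonoidHom.ker).index := by
      rw [Subgroup.normalizerMonoidHom_ker]
      show _ = (centralizer (R : Set G)).relIndex (normalizer (R : Set G))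
      rw [Subgroup.normalizer_eq_top, Subgroup.relIndex_top_right]
    rw [h1, Subgroup.index_ker]
    calc Nat.card R.normalizerMonoidHom.range ≤ Nat.card (MulAut ↥R) :=
          Nat.card_le_card_of_injective _ Subtype.val_injective
      _ = Nat.card (MulAut (QuaternionGroup 2)) := Nat.card_congr (MulAut.congr e).toEquiv
      _ ≤ 24 := card_mulAut_q8_le
  have hcardC : Nat.card (centralizer (R : Set G)) ≤ 2 := by
    rw [← card_q8_center, ← Nat.card_eq_fintype_card]
    apply Nat.card_le_card_of_injective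
      (fun c : centralizer (R : Set G) =>
        (⟨e ⟨(c : G), hCR c.2⟩, by
          intro v
          obtain ⟨r, rfl⟩ := e.surjective v
          rw [← map_mul, ← map_mul]
          congr 1
          apply Subtype.ext
          show (c : G) * (r : G) = (r : G) * (c : G)
          exact (mem_centralizer_iff.mp c.2 (r : G) r.2).symm⟩ :
          {u : QuaternionGroup 2 // ∀ v, u * v = v * u}))
    intro c d hcd
    have h1 : e ⟨(c : G), hCR c.2⟩ = e ⟨(d : G), hCR d.2⟩ := congrArg Subtype.val hcd
    have h2 := e.injective h1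
    have h3 : (c : G) = (d : G) := by
      have := congrArg (fun w : ↥R => (w : G)) h2
      simpa using this
    exact Subtype.ext h3
  have hGcard : Nat.card G ≤ 48 := by
    rw [← Subgroup.card_mul_index (centralizer (R : Set G))]
    calc Nat.card (centralizer (R : Set G)) * (centralizer (R : Set G)).index ≤ 2 * 24 :=
          Nat.mul_le_mul hcardC hidxC
      _ = 48 := by norm_num
  have hUidx : U.index = 1 ∨ U.index = 2 := by
    have h1 := Subgroup.card_mul_index U
    rw [hUcard] at h1
    have h2 : U.index ≠ 0 := Subgroup.index_ne_zero_of_finite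
    have h3 : U.index ≤ 2 := by nlinarith
    omega
  refine ⟨U, ?_, ⟨eU⟩⟩
  rcases hUidx with h | h
  · rw [Subgroup.index_eq_one.mp h]; infer_instance
  · exact Subgroup.normal_of_index_eq_two h

end Cfsg.Agent.S2879
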