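import Cfsg.Statements.S5604
import Cfsg.Agent.Lib.Helper28.M24Trio
import Cfsg.Agent.Lib.Helper3.Golay.M24Order
import Cfsg.Agent.S5607

set_option autoImplicit false
open scoped Pointwise
open Cfsg

namespace Cfsg.Agent.S5604
open Cfsg.Agent.Lib.Helper28.GolayCode Cfsg.Agent.Lib.Helper28.M24Pairs
  Cfsg.Agent.Lib.Helper28.M24OctadFix Cfsg.Agent.Lib.Helper28.M24Fam Cfsg.Agent.Lib.Helper28.StabLib

/-! ### Generic group lemmas -/

section generic
variable {G : Type*} [Group G]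

theorem rel_pow_right {n x : G} {k : ℕ} (h : n * x = x ^ k * n) (e : ℕ) :
    n * x ^ e = x ^ (k * e) * n := by
  induction e with
  | zero => simp
  | succ e ih =>
    rw [pow_succ, ← mul_assoc, ih, mul_assoc, h, ← mul_assoc, ← pow_add, Nat.mul_succ]

theorem rel_pow_left {n x : G} {k : ℕ} (h : n * x = x ^ k * n) (j : ℕ) :
    n ^ j * x = x ^ (k ^ j) * n ^ j := by
  induction j with
  | zero => simp
  | succ j ih =>
    rw [pow_succ' n, mul_assoc, ih, ← mul_assoc, rel_pow_right h, mul_assoc, pow_succ' k]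

theorem mem_normalizer_zpowers {x n : G} {k k' : ℕ} (h1 : n * x * n⁻¹ = x ^ k)
    (h2 : n⁻¹ * x * n = x ^ k') : n ∈ Subgroup.normalizer (Subgroup.zpowers x : Set G) := by
  rw [Subgroup.mem_normalizer_iff]
  intro h
  constructor
  · intro hh
    obtain ⟨z, rfl⟩ := Subgroup.mem_zpowers_iff.mp hh
    rw [← conj_zpow, h1]
    exact Subgroup.zpow_mem _ (Subgroup.pow_mem _ (Subgroup.mem_zpowers x) k) z
  · intro hh
    obtain ⟨z, hz⟩ := Subgroup.mem_zpowers_iff.mp hh
    have e0 : h = n⁻¹ * x ^ z * n := by rw [hz]; group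
    have e : n⁻¹ * x ^ z * n = (n⁻¹ * x * n) ^ z := by
      have := conj_zpow (a := n⁻¹) (b := x) (i := z)
      rw [inv_inv] at this
      exact this.symm
    rw [e0, e, h2]
    exact Subgroup.zpow_mem _ (Subgroup.pow_mem _ (Subgroup.mem_zpowers x) k') z

theorem mem_normalizer_conj {S S0 : Subgroup G} {g : G} (hS : ∀ s, s ∈ S ↔ g * s * g⁻¹ ∈ S0)
    (c : G) : c ∈ Subgroup.normalizer (S : Set G) ↔
      g * c * g⁻¹ ∈ Subgroup.normalizer (S0 : Set G) := by
  rw [Subgroup.mem_normalizer_iff, Subgroup.mem_normalizer_iff]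
  constructor
  · intro h x
    have h1 := h (g⁻¹ * x * g)
    rw [hS, hS] at h1
    have e1 : g * (g⁻¹ * x * g) * g⁻¹ = x := by group
    have e2 : g * (c * (g⁻¹ * x * g) * c⁻¹) * g⁻¹ = g * c * g⁻¹ * x * (g * c * g⁻¹)⁻¹ := by group
    rw [e1, e2] at h1
    exact h1
  · intro h s
    rw [hS, hS]
    have h1 := h (g * s * g⁻¹)
    have e2 : g * c * g⁻¹ * (g * s * g⁻¹) * (g * c * g⁻¹)⁻¹ = g * (c * s * c⁻¹) * g⁻¹ := by group
    rw [e2] at h1
    exact h1

theorem mem_centralizer_conj {S S0 : Subgroup G} {g : G} (hS : ∀ s, s ∈ S ↔ g * s * g⁻¹ ∈ S0)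
    (c : G) : c ∈ Subgroup.centralizer (S : Set G) ↔
      g * c * g⁻¹ ∈ Subgroup.centralizer (S0 : Set G) := by
  rw [Subgroup.mem_centralizer_iff, Subgroup.mem_centralizer_iff]
  constructor
  · intro h x hx
    have hx' : g⁻¹ * x * g ∈ S := by
      rw [hS]
      have e : g * (g⁻¹ * x * g) * g⁻¹ = x := by group
      rw [e]
      exact hx
    have h1 := h _ hx'
    have e1 : x * (g * c * g⁻¹) = g * ((g⁻¹ * x * g) * c) * g⁻¹ := by group
    rw [e1, h1]
    group
  · intro h s hs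
    have h1 := h _ ((hS s).mp hs)
    have e1 : s * c = g⁻¹ * ((g * s * g⁻¹) * (g * c * g⁻¹)) * g := by group
    rw [e1, h1]
    group

end generic

/-! ### Packed data -/

def ra : ℕ := 0x2b26b7a029b00d4aa8f06ca24b89c3
def pwl : List ℕ := [0xbdab49ca307b9ac5a928398a418820, 0x2b26b7a029b00d4aa8f06ca24b89c3, 0x8d1f5b41c760e4b9a9a93202428817, 0xaed36240da5d157a8c7941c488865, 0x7558fa1c6659613b2a4d4240408af1, 0x4e965b6f2ac52f6290681c64708a1, 0x1bd6ca98a8984f6a2a124b6e400a2e]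
def pw (k : ℕ) : ℕ := pwl.getD (k % 7) 0
def rc12 : ℕ := 0x594011c267bda51729a9322a2a11ec
def rc13 : ℕ := 0x6b26b7ba43b4234a8ae0284c43a909
def rc23 : ℕ := 0x29d0684c364816d9118fa562ab89c3
def rn2 : ℕ := 0x8b293ab4707850bb28f2325c4b88a0
def rn4 : ℕ := 0x1ae75a22f079656628cd49c24889c0
def rm : ℕ := 0x9e56628a683a69791b442e3518ae0

def mulP (r s t : ℕ) : Bool := (List.range 24).all fun i => Nat.beq (img r (img s i)) (img t i)

theorem mul_of_mulP {r s t : ℕ} (hr : isPerm r = true) (hs : isPerm s = true)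
    (ht : isPerm t = true) (h : mulP r s t = true) : permOf r * permOf s = permOf t := by
  apply Equiv.ext
  intro p
  rw [Equiv.Perm.mul_apply, ← dec_enc p]
  have hi := enc_lt p
  rw [permOf_apply_dec s hs _ hi, permOf_apply_dec r hr _ (img_lt_of_isPerm s hs _ hi),
    permOf_apply_dec t ht _ hi]
  unfold mulP at h
  have := List.all_eq_true.mp h (enc p) (List.mem_range.mpr hi)
  rw [nat_beq_iff] at this
  rw [this]

theorem ra_inM24 : inM24 ra = true := by decide +kernel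
theorem ra_perm : isPerm ra = true := isPerm_of_inM24 _ ra_inM24

theorem pw_inM24_lt : ∀ k < 7, inM24 (pw k) = true := by decide +kernel
theorem pw_succ_lt : ∀ k < 7, mulP (pw k) ra (pw (k + 1)) = true := by decide +kernel

theorem pw_mod (k : ℕ) : pw (k % 7) = pw k := by
  unfold pw
  rw [Nat.mod_mod]

theorem pw_inM24 (k : ℕ) : inM24 (pw k) = true := by
  rw [← pw_mod]
  exact pw_inM24_lt _ (Nat.mod_lt _ (by norm_num))

theorem pw_perm (k : ℕ) : isPerm (pw k) = true := isPerm_of_inM24 _ (pw_inM24 k)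

/-- the element of order seven. -/
noncomputable def a : Equiv.Perm GolayPt := permOf ra

theorem a_mem : a ∈ M24 := permOf_mem_M24 _ ra_inM24

theorem a_pow (k : ℕ) : a ^ k = permOf (pw k) := by
  induction k with
  | zero =>
    rw [pow_zero]
    exact permOf_idP.symm
  | succ k ih =>
    rw [pow_succ, ih]
    have h7 : k % 7 < 7 := Nat.mod_lt _ (by norm_num)
    have e2 : pw (k + 1) = pw (k % 7 + 1) := by
      rw [← pw_mod (k + 1), ← pw_mod (k % 7 + 1)]
      congr 1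
      omega
    rw [← pw_mod k, e2]
    exact mul_of_mulP (pw_perm _) ra_perm (pw_perm _) (pw_succ_lt _ h7)

theorem a_pow_mod (k : ℕ) : a ^ k = a ^ (k % 7) := by
  rw [a_pow, a_pow, pw_mod]

theorem a_pow_seven : a ^ 7 = 1 := by
  rw [a_pow_mod]
  simp

theorem a_apply (i : ℕ) (hi : i < 24) : a (dec i) = dec (img ra i) :=
  permOf_apply_dec ra ra_perm i hi

theorem a_pow_apply (k i : ℕ) (hi : i < 24) : (a ^ k) (dec i) = dec (img (pw k) i) := by
  rw [a_pow]
  exact permOf_apply_dec _ (pw_perm k) i hi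

theorem dec_inj {i j : ℕ} (hi : i < 24) (hj : j < 24) (h : dec i = dec j) : i = j := by
  have := congrArg enc h
  rwa [enc_dec i hi, enc_dec j hj] at this

theorem a_ne_one : a ≠ 1 := by
  intro h
  have h1 := a_apply 0 (by norm_num)
  rw [h, Equiv.Perm.one_apply] at h1
  have := dec_inj (by norm_num) (img_lt_of_isPerm ra ra_perm 0 (by norm_num)) h1
  revert this
  decide +kernel

/-- the element of order seven in the group. -/
noncomputable def a' : ↥M24 := ⟨a, a_mem⟩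

theorem a'_ne_one : a' ≠ 1 := by
  intro h
  exact a_ne_one (congrArg Subtype.val h)

theorem orderOf_a' : orderOf a' = 7 := by
  have : Fact (Nat.Prime 7) := ⟨by norm_num⟩
  apply orderOf_eq_prime
  · apply Subtype.ext
    rw [Subgroup.coe_pow]
    exact a_pow_seven
  · exact a'_ne_one

/-- the standard subgroup of order seven. -/
noncomputable def S0 : Subgroup ↥M24 := Subgroup.zpowers a'

theorem card_S0 : Nat.card S0 = 7 := by
  unfold S0
  rw [Nat.card_zpowers, orderOf_a']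

/-- elements of the normaliser conjugate `a` to a non-trivial power. -/
theorem nor_rel {n : ↥M24} (hn : n ∈ Subgroup.normalizer (S0 : Set ↥M24)) :
    ∃ k, 1 ≤ k ∧ k ≤ 6 ∧ (n : Equiv.Perm GolayPt) * a = a ^ k * (n : Equiv.Perm GolayPt) := by
  classical
  have h := (Subgroup.mem_normalizer_iff.mp hn a').mp (Subgroup.mem_zpowers a')
  unfold S0 at h
  rw [mem_zpowers_iff_mem_range_orderOf, Finset.mem_image] at h
  obtain ⟨k, hk, hk2⟩ := h
  rw [Finset.mem_range, orderOf_a'] at hk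
  have hk3 : a' ^ k = n * a' * n⁻¹ := hk2
  have hk0 : k ≠ 0 := by
    rintro rfl
    rw [pow_zero] at hk3
    apply a'_ne_one
    have := congrArg (fun x => n⁻¹ * x * n) hk3
    simp only [mul_one, inv_mul_cancel] at this
    rw [this]
    group
  refine ⟨k, by omega, by omega, ?_⟩
  have h4 : n * a' = a' ^ k * n := mul_inv_eq_iff_eq_mul.mp hk3.symm
  have := congrArg Subtype.val h4
  rw [Subgroup.coe_mul, Subgroup.coe_mul, Subgroup.coe_pow] at this
  exact this


/-- the normaliser and the centraliser of the standard subgroup. -/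
noncomputable abbrev N0 : Subgroup ↥M24 := Subgroup.normalizer (S0 : Set ↥M24)
noncomputable abbrev C0 : Subgroup ↥M24 := Subgroup.centralizer (S0 : Set ↥M24)

theorem mem_N0_of_rel {n : ↥M24} {k k' : ℕ}
    (h1 : (n : Equiv.Perm GolayPt) * a = a ^ k * (n : Equiv.Perm GolayPt))
    (h2 : (n : Equiv.Perm GolayPt) * a ^ k' = a * (n : Equiv.Perm GolayPt)) : n ∈ N0 := by
  apply mem_normalizer_zpowers (k := k) (k' := k')
  · have h1' : n * a' = a' ^ k * n := Subtype.ext h1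
    exact mul_inv_eq_iff_eq_mul.mpr h1'
  · have h3 : a' * n = n * a' ^ k' := Subtype.ext h2.symm
    rw [mul_assoc, inv_mul_eq_iff_eq_mul]
    exact h3

theorem mem_C0_iff (c : ↥M24) :
    c ∈ C0 ↔ (c : Equiv.Perm GolayPt) * a = a * (c : Equiv.Perm GolayPt) := by
  unfold C0 S0
  rw [Subgroup.zpowers_eq_closure, Subgroup.centralizer_closure,
    Subgroup.mem_centralizer_singleton_iff]
  constructor
  · intro h
    exact congrArg Subtype.val h
  · intro h
    exact Subtype.ext h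

theorem C0_le_N0 : C0 ≤ N0 := Subgroup.centralizer_le_normalizer _

/-! ### Fixed points and invariant octads -/

theorem nor_fixed {X : Type*} [MulAction (Equiv.Perm GolayPt) X] {n : ↥M24} (hn : n ∈ N0) {x : X}
    (hx : a • x = x) : a • ((n : Equiv.Perm GolayPt) • x) = (n : Equiv.Perm GolayPt) • x := by
  obtain ⟨k, -, -, hk⟩ := nor_rel (Subgroup.inv_mem _ hn)
  have hk' : (n : Equiv.Perm GolayPt)⁻¹ * a = a ^ k * (n : Equiv.Perm GolayPt)⁻¹ := hk
  have hpow : a ^ k • x = x := by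
    have : a ∈ MulAction.stabilizer (Equiv.Perm GolayPt) x := hx
    exact Subgroup.pow_mem _ this k
  have h1 : ((n : Equiv.Perm GolayPt)⁻¹ * a) • ((n : Equiv.Perm GolayPt) • x) = x := by
    rw [hk', mul_smul, inv_smul_smul, hpow]
  rw [mul_smul, inv_smul_eq_iff] at h1
  exact h1

theorem ra_fix : ∀ i < 24, img ra i = i → (0x414 : ℕ).testBit i = true := by decide +kernel

theorem a_fixed_mem {p : GolayPt} (hp : a p = p) : p ∈ bset 0x414 := by
  rw [mem_bset]
  apply ra_fix _ (enc_lt p)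
  have h1 := a_apply (enc p) (enc_lt p)
  rw [dec_enc, hp] at h1
  have := congrArg enc h1
  rw [enc_dec _ (img_lt_of_isPerm ra ra_perm _ (enc_lt p))] at this
  exact this.symm

theorem a_fix2 : a (dec 2) = dec 2 := by
  rw [a_apply 2 (by norm_num)]
  congr 1

theorem a_fix4 : a (dec 4) = dec 4 := by
  rw [a_apply 4 (by norm_num)]
  congr 1

theorem inv_octads : octadList.all (fun m => !(Nat.beq (applyMask ra m) m) ||
    (Nat.beq m 0x82402f || Nat.beq m 0x527c0 || Nat.beq m 0x789810)) = true := by decide +kernel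

theorem T0_inv : T0list.all (fun m => Nat.beq (applyMask ra m) m && decide (m ∈ octadList)) = true := by
  decide +kernel

theorem inv_octad {O : Finset GolayPt} (hO : O ∈ octads) (h : a • O = O) : O ∈ fam T0list := by
  obtain ⟨m, hm, rfl⟩ := (mem_octads_iff_exists O).mp hO
  have hlt := Cfsg.Agent.Lib.Helper28.M24Fam.octadList_lt m hm
  unfold a at h
  rw [permOf_smul_bset ra ra_perm] at h
  have h1 := bset_inj _ _ (applyMask_lt ra ra_perm m) hlt h
  have := List.all_eq_true.mp inv_octads m hm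
  rw [h1] at this
  simp only [nat_beq_iff, Bool.or_eq_true, Bool.not_eq_true'] at this
  rw [mem_fam]
  refine ⟨m, ?_, rfl⟩
  unfold T0list
  simp only [List.mem_cons, List.not_mem_nil, or_false]
  rcases this with h | (h | h) | h
  · exact absurd h (by simp)
  · exact Or.inl h
  · exact Or.inr (Or.inl h)
  · exact Or.inr (Or.inr h)

theorem T0_spec {O : Finset GolayPt} (hO : O ∈ fam T0list) : O ∈ octads ∧ a • O = O := by
  obtain ⟨m, hm, rfl⟩ := mem_fam.mp hO
  have := List.all_eq_true.mp T0_inv m hm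
  simp only [Bool.and_eq_true, nat_beq_iff, decide_eq_true_eq] at this
  refine ⟨(mem_octads_iff_exists _).mpr ⟨m, this.2, rfl⟩, ?_⟩
  unfold a
  rw [permOf_smul_bset ra ra_perm, this.1]

/-- the normaliser maps the invariant trio to itself. -/
theorem nor_smul_T0 {n : ↥M24} (hn : n ∈ N0) :
    (n : Equiv.Perm GolayPt) • fam T0list = fam T0list := by
  apply Finset.eq_of_subset_of_card_le
  · intro O' hO'
    obtain ⟨O, hO, rfl⟩ := Finset.mem_smul_finset.mp hO'
    obtain ⟨h1, h2⟩ := T0_spec hO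
    exact inv_octad (smul_mem_octads n.2 h1) (nor_fixed hn h2)
  · rw [Finset.card_smul_finset]

theorem T0_of_2 : T0list.all (fun m => !(m.testBit 2) || Nat.beq m O0) = true := by decide +kernel

theorem O0_mem_T0 : bset O0 ∈ fam T0list := mem_fam.mpr ⟨O0, by decide, rfl⟩

/-- an element of the normaliser fixing `dec 2` fixes the base octad. -/
theorem nor_smul_O0 {n : ↥M24} (hn : n ∈ N0) (h2 : (n : Equiv.Perm GolayPt) (dec 2) = dec 2) :
    (n : Equiv.Perm GolayPt) • bset O0 = bset O0 := by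
  have h1 : (n : Equiv.Perm GolayPt) • bset O0 ∈ fam T0list := by
    rw [← nor_smul_T0 hn]
    exact Finset.smul_mem_smul_finset O0_mem_T0
  obtain ⟨m, hm, hmeq⟩ := mem_fam.mp h1
  have h3 : dec 2 ∈ bset m := by
    rw [hmeq, ← h2]
    apply Finset.smul_mem_smul_finset
    rw [mem_bset, enc_dec 2 (by norm_num)]
    decide
  rw [mem_bset, enc_dec 2 (by norm_num)] at h3
  have := List.all_eq_true.mp T0_of_2 m hm
  rw [h3] at this
  simp only [Bool.not_true, Bool.false_or, nat_beq_iff] at this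
  rw [← hmeq, this]


/-! ### Certificates -/

noncomputable def certOK (fixed : List ℕ) (b i k : ℕ) : Bool :=
  inM24 k && Cfsg.Agent.S5607.commP k ra && (fixed.all fun f => Nat.beq (img k f) f) &&
    Nat.beq (img k b) i

theorem certOK_spec {fixed : List ℕ} {b i k : ℕ} (hb : b < 24) (hfix : ∀ f ∈ fixed, f < 24)
    (h : certOK fixed b i k = true) :
    ∃ c : ↥M24, c ∈ C0 ∧ (∀ f ∈ fixed, (c : Equiv.Perm GolayPt) (dec f) = dec f) ∧
      (c : Equiv.Perm GolayPt) (dec b) = dec i := by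
  unfold certOK at h
  simp only [Bool.and_eq_true, nat_beq_iff, List.all_eq_true] at h
  obtain ⟨⟨⟨h1, h2⟩, h3⟩, h4⟩ := h
  have hk := isPerm_of_inM24 _ h1
  refine ⟨⟨permOf k, permOf_mem_M24 _ h1⟩,
    (mem_C0_iff _).mpr (Cfsg.Agent.S5607.comm_of_commP hk ra_perm h2), ?_, ?_⟩
  · intro f hf
    show permOf k (dec f) = dec f
    rw [permOf_apply_dec k hk f (hfix f hf), h3 f hf]
  · show permOf k (dec b) = dec i
    rw [permOf_apply_dec k hk b hb, h4]

noncomputable def coverOK (L : List ℕ) (fixed : List ℕ) (b m : ℕ) : Bool :=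
  (List.range 24).all fun i => !(m.testBit i) || L.any fun k => certOK fixed b i k

theorem coverOK_spec {L fixed : List ℕ} {b m : ℕ} (hb : b < 24) (hfix : ∀ f ∈ fixed, f < 24)
    (h : coverOK L fixed b m = true) (q : GolayPt) (hq : q ∈ bset m) :
    ∃ c : ↥M24, c ∈ C0 ∧ (∀ f ∈ fixed, (c : Equiv.Perm GolayPt) (dec f) = dec f) ∧
      (c : Equiv.Perm GolayPt) (dec b) = q := by
  unfold coverOK at h
  rw [mem_bset] at hq
  have := List.all_eq_true.mp h (enc q) (List.mem_range.mpr (enc_lt q))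
  rw [hq] at this
  simp only [Bool.not_true, Bool.false_or, List.any_eq_true] at this
  obtain ⟨k, -, hk⟩ := this
  obtain ⟨c, h1, h2, h3⟩ := certOK_spec hb hfix hk
  exact ⟨c, h1, h2, by rw [h3, dec_enc]⟩

theorem L1_ok : coverOK [idP, rc12, rc13] [] 2 0x414 = true := by decide +kernel
theorem L2_ok : coverOK [idP, rc23] [2] 4 0x410 = true := by decide +kernel
theorem L3_ok : coverOK pwl [2, 4] 0 0x82402b = true := by decide +kernel

/-! ### The common part of the two stabiliser chains -/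

/-- point stabilisers in the group. -/
noncomputable abbrev st (i : ℕ) : Subgroup ↥M24 := MulAction.stabilizer ↥M24 (dec i)

theorem mem_st (g : ↥M24) (i : ℕ) : g ∈ st i ↔ (g : Equiv.Perm GolayPt) (dec i) = dec i :=
  MulAction.mem_stabilizer_iff

theorem mask1 : ∀ i < 24, (0x414 : ℕ).testBit i = true → i ≠ 2 → (0x410 : ℕ).testBit i = true := by
  decide

theorem mask2 : ∀ i < 24, O0.testBit i = true → i ≠ 2 → (0x82402b : ℕ).testBit i = true := by
  decide

theorem ne_of_fix {g : Equiv.Perm GolayPt} {i j : ℕ} (hi : i < 24) (hj : j < 24) (hij : j ≠ i)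
    (h : g (dec i) = dec i) : enc (g (dec j)) ≠ i := by
  intro hcon
  have : g (dec j) = g (dec i) := by rw [h, ← hcon, dec_enc]
  exact hij (dec_inj hj hi (g.injective this))

section chain
variable {H : Subgroup ↥M24}

theorem orb1 (hC : C0 ≤ H) (hN : H ≤ N0) :
    MulAction.orbit H (dec 2) = ((bset 0x414 : Finset GolayPt) : Set GolayPt) := by
  ext q
  rw [mem_orbit_subgroup_iff, Finset.mem_coe]
  constructor
  · rintro ⟨g, hg, rfl⟩
    exact a_fixed_mem (nor_fixed (hN hg) a_fix2)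
  · intro hq
    obtain ⟨c, hc, -, h⟩ := coverOK_spec (by norm_num) (by simp) L1_ok q hq
    exact ⟨c, hC hc, h⟩

theorem orb2 (hC : C0 ≤ H) (hN : H ≤ N0) :
    MulAction.orbit ↥(H ⊓ st 2) (dec 4) = ((bset 0x410 : Finset GolayPt) : Set GolayPt) := by
  ext q
  rw [mem_orbit_subgroup_iff, Finset.mem_coe]
  constructor
  · rintro ⟨g, hg, rfl⟩
    obtain ⟨hgH, hg2⟩ := Subgroup.mem_inf.mp hg
    rw [mem_st] at hg2
    have h1 : (g : Equiv.Perm GolayPt) (dec 4) ∈ bset 0x414 :=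
      a_fixed_mem (nor_fixed (hN hgH) a_fix4)
    show (g : Equiv.Perm GolayPt) (dec 4) ∈ bset 0x410
    rw [mem_bset] at h1 ⊢
    exact mask1 _ (enc_lt _) h1 (ne_of_fix (by norm_num) (by norm_num) (by norm_num) hg2)
  · intro hq
    obtain ⟨c, hc, hf, h⟩ := coverOK_spec (by norm_num) (by simp) L2_ok q hq
    exact ⟨c, Subgroup.mem_inf.mpr ⟨hC hc, (mem_st c 2).mpr (hf 2 (by simp))⟩, h⟩

theorem orb3 (hC : C0 ≤ H) (hN : H ≤ N0) :
    MulAction.orbit ↥(H ⊓ st 2 ⊓ st 4) (dec 0) =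
      ((bset 0x82402b : Finset GolayPt) : Set GolayPt) := by
  ext q
  rw [mem_orbit_subgroup_iff, Finset.mem_coe]
  constructor
  · rintro ⟨g, hg, rfl⟩
    obtain ⟨hg1, hg4⟩ := Subgroup.mem_inf.mp hg
    obtain ⟨hgH, hg2⟩ := Subgroup.mem_inf.mp hg1
    rw [mem_st] at hg2
    have hO := nor_smul_O0 (hN hgH) hg2
    have h1 : (g : Equiv.Perm GolayPt) (dec 0) ∈ bset O0 := by
      rw [← hO]
      apply Finset.smul_mem_smul_finset
      rw [mem_bset, enc_dec 0 (by norm_num)]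
      decide
    show (g : Equiv.Perm GolayPt) (dec 0) ∈ bset 0x82402b
    rw [mem_bset] at h1 ⊢
    exact mask2 _ (enc_lt _) h1 (ne_of_fix (by norm_num) (by norm_num) (by norm_num) hg2)
  · intro hq
    obtain ⟨c, hc, hf, h⟩ := coverOK_spec (by norm_num) (by simp) L3_ok q hq
    exact ⟨c, Subgroup.mem_inf.mpr ⟨Subgroup.mem_inf.mpr ⟨hC hc, (mem_st c 2).mpr (hf 2 (by simp))⟩,
      (mem_st c 4).mpr (hf 4 (by simp))⟩, h⟩

theorem card_orbit_bset {K : Subgroup ↥M24} {x : GolayPt} {m : ℕ}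
    (h : MulAction.orbit K x = ((bset m : Finset GolayPt) : Set GolayPt)) :
    Nat.card (MulAction.orbit K x) = popc m := by
  rw [h, Nat.card_coe_set_eq, Set.ncard_coe_finset, card_bset]

theorem pops : popc 0x414 = 3 ∧ popc 0x410 = 2 ∧ popc 0x82402b = 7 ∧ popc 0x820008 = 3 := by
  decide +kernel

theorem card_H (hC : C0 ≤ H) (hN : H ≤ N0) :
    Nat.card H = 42 * Nat.card ↥(H ⊓ st 2 ⊓ st 4 ⊓ st 0) := by
  have e1 := card_orbit_mul_card_inf H (dec 2)
  have e2 := card_orbit_mul_card_inf (H ⊓ st 2) (dec 4)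
  have e3 := card_orbit_mul_card_inf (H ⊓ st 2 ⊓ st 4) (dec 0)
  rw [card_orbit_bset (orb1 hC hN), pops.1] at e1
  rw [card_orbit_bset (orb2 hC hN), pops.2.1] at e2
  rw [card_orbit_bset (orb3 hC hN), pops.2.2.1] at e3
  change 7 * Nat.card ↥(H ⊓ st 2 ⊓ st 4 ⊓ st 0) = Nat.card ↥(H ⊓ st 2 ⊓ st 4) at e3
  change 2 * Nat.card ↥(H ⊓ st 2 ⊓ st 4) = Nat.card ↥(H ⊓ st 2) at e2
  change 3 * Nat.card ↥(H ⊓ st 2) = Nat.card ↥H at e1
  omega

end chain


/-! ### The centraliser -/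

theorem O0_pts : ∀ j < 24, O0.testBit j = true → j = 2 ∨ ∃ i < 7, img (pw i) 0 = j := by
  decide +kernel

theorem eq_one_of_comm {c : ↥M24}
    (hc : (c : Equiv.Perm GolayPt) * a = a * (c : Equiv.Perm GolayPt))
    (h2 : (c : Equiv.Perm GolayPt) (dec 2) = dec 2) (h4 : (c : Equiv.Perm GolayPt) (dec 4) = dec 4)
    (h0 : (c : Equiv.Perm GolayPt) (dec 0) = dec 0) : c = 1 := by
  apply Subtype.ext
  apply eq_one_of_fix_O0_x0 c.2 ?_ h4
  intro p hp
  rw [mem_bset] at hp
  rcases O0_pts _ (enc_lt p) hp with h | ⟨i, -, h⟩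
  · rw [← dec_enc p, h]
    exact h2
  · have hp' : p = (a ^ i) (dec 0) := by
      rw [a_pow_apply i 0 (by norm_num), h, dec_enc]
    have hcomm : (c : Equiv.Perm GolayPt) * a ^ i = a ^ i * (c : Equiv.Perm GolayPt) :=
      Commute.pow_right hc i
    have := congrArg (fun f : Equiv.Perm GolayPt => f (dec 0)) hcomm
    simp only [Equiv.Perm.mul_apply] at this
    rw [hp', this, h0]

theorem C3_eq_bot : C0 ⊓ st 2 ⊓ st 4 ⊓ st 0 = ⊥ := by
  rw [Subgroup.eq_bot_iff_forall]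
  intro c hc
  obtain ⟨hc1, h0⟩ := Subgroup.mem_inf.mp hc
  obtain ⟨hc2, h4⟩ := Subgroup.mem_inf.mp hc1
  obtain ⟨hcC, h2⟩ := Subgroup.mem_inf.mp hc2
  rw [mem_st] at h0 h4 h2
  exact eq_one_of_comm ((mem_C0_iff c).mp hcC) h2 h4 h0

theorem card_C0 : Nat.card C0 = 42 := by
  have h := card_H (H := C0) le_rfl C0_le_N0
  rw [C3_eq_bot, Subgroup.card_bot] at h
  omega

/-! ### The normaliser -/

theorem nor_apply {n : ↥M24} {k : ℕ}
    (hk : (n : Equiv.Perm GolayPt) * a = a ^ k * (n : Equiv.Perm GolayPt))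
    (h0 : (n : Equiv.Perm GolayPt) (dec 0) = dec 0) (i : ℕ) :
    (n : Equiv.Perm GolayPt) (dec (img (pw i) 0)) = dec (img (pw (k * i)) 0) := by
  have h1 := rel_pow_right hk i
  have := congrArg (fun f : Equiv.Perm GolayPt => f (dec 0)) h1
  simp only [Equiv.Perm.mul_apply] at this
  rw [h0, a_pow_apply i 0 (by norm_num), a_pow_apply (k * i) 0 (by norm_num)] at this
  exact this

theorem fix_O0_of_six {c : Equiv.Perm GolayPt} (hc : c ∈ M24) (F : Finset GolayPt)
    (hF : ∀ p ∈ F, c p = p) (h6 : 6 ≤ (bset O0 ∩ F).card) : ∀ p ∈ bset O0, c p = p := by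
  obtain ⟨h, hh, hho, q, hq, hconj⟩ := exists_conj_Plist hc O0_mem F hF h6
  intro p hp
  have hhp : h p ∈ bset O0 := by
    rw [← hho]
    exact Finset.smul_mem_smul_finset hp
  have := Plist_fix hq (h p) hhp
  rw [← hconj] at this
  simp only [Equiv.Perm.mul_apply, EmbeddingLike.apply_eq_iff_eq] at this
  have e : h⁻¹ (h p) = p := by simp
  rwa [e] at this

theorem rm_inM24 : inM24 rm = true := by decide +kernel

theorem F_pts : ∀ j < 24, (0x820027 : ℕ).testBit j = true →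
    (j = 2 ∧ img rm 2 = 2) ∨ ∃ i < 7, j = img (pw i) 0 ∧ img rm j = img (pw (6 * i)) 0 := by
  decide +kernel

theorem F_card : popc (Nat.land O0 0x820027) = 6 := by decide +kernel

theorem pw_vals : img (pw 1) 0 = 3 ∧ img (pw (6 * 1)) 0 = 14 ∧ img rm 3 = 3 := by decide +kernel

theorem no_k6 {n : ↥M24}
    (hk : (n : Equiv.Perm GolayPt) * a = a ^ 6 * (n : Equiv.Perm GolayPt))
    (h2 : (n : Equiv.Perm GolayPt) (dec 2) = dec 2)
    (h0 : (n : Equiv.Perm GolayPt) (dec 0) = dec 0) : False := by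
  classical
  have hmP := isPerm_of_inM24 _ rm_inM24
  have hmM : permOf rm ∈ M24 := permOf_mem_M24 _ rm_inM24
  have hy : (permOf rm)⁻¹ * (n : Equiv.Perm GolayPt) ∈ M24 := M24.mul_mem (M24.inv_mem hmM) n.2
  have hF : ∀ p ∈ bset 0x820027, ((permOf rm)⁻¹ * (n : Equiv.Perm GolayPt)) p = p := by
    intro p hp
    rw [mem_bset] at hp
    rw [Equiv.Perm.mul_apply, Equiv.Perm.inv_eq_iff_eq]
    rcases F_pts _ (enc_lt p) hp with ⟨h, hm2⟩ | ⟨i, -, h, hm'⟩
    · rw [← dec_enc p, h, h2, permOf_apply_dec rm hmP 2 (by norm_num), hm2]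
    · have e1 := nor_apply hk h0 i
      rw [← h, dec_enc] at e1
      rw [e1, ← dec_enc p, permOf_apply_dec rm hmP _ (enc_lt p), hm']
  have h6 : 6 ≤ (bset O0 ∩ bset 0x820027).card := by
    rw [← bset_and, card_bset]
    exact le_of_eq F_card.symm
  have hfix := fix_O0_of_six hy (bset 0x820027) hF h6
  have h3 := hfix (dec 3) (by rw [mem_bset, enc_dec 3 (by norm_num)]; decide)
  rw [Equiv.Perm.mul_apply, Equiv.Perm.inv_eq_iff_eq] at h3
  have e1 := nor_apply hk h0 1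
  rw [pw_vals.1, pw_vals.2.1] at e1
  rw [e1, permOf_apply_dec rm hmP 3 (by norm_num), pw_vals.2.2] at h3
  exact absurd (dec_inj (by norm_num) (by norm_num) h3) (by norm_num)

/-- the normaliser part of the chain. -/
noncomputable abbrev N3 : Subgroup ↥M24 := N0 ⊓ st 2 ⊓ st 4 ⊓ st 0

theorem mem_N3 (n : ↥M24) : n ∈ N3 ↔ n ∈ N0 ∧ (n : Equiv.Perm GolayPt) (dec 2) = dec 2 ∧
    (n : Equiv.Perm GolayPt) (dec 4) = dec 4 ∧ (n : Equiv.Perm GolayPt) (dec 0) = dec 0 := by
  unfold N3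
  rw [Subgroup.mem_inf, Subgroup.mem_inf, Subgroup.mem_inf, mem_st, mem_st, mem_st, and_assoc,
    and_assoc]

def relP (k r r' : ℕ) : Bool :=
  (List.range 24).all fun i => Nat.beq (img k (img r i)) (img r' (img k i))

theorem rel_of_relP {k r r' : ℕ} (hk : isPerm k = true) (hr : isPerm r = true)
    (hr' : isPerm r' = true) (h : relP k r r' = true) :
    permOf k * permOf r = permOf r' * permOf k := by
  apply Cfsg.Agent.S5601.permOf_mul_comm_of_img hk hr hr'
  intro i hi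
  unfold relP at h
  have := List.all_eq_true.mp h i (List.mem_range.mpr hi)
  rwa [nat_beq_iff] at this

noncomputable def norOK (e : ℕ × ℕ × ℕ × ℕ) : Bool :=
  inM24 e.1 && relP e.1 ra (pw e.2.1) && relP e.1 (pw e.2.2.1) ra && Nat.beq (img e.1 2) 2 &&
    Nat.beq (img e.1 4) 4 && Nat.beq (img e.1 0) 0 && Nat.beq (img e.1 3) e.2.2.2

theorem norOK_spec {e : ℕ × ℕ × ℕ × ℕ} (h : norOK e = true) :
    ∃ n : ↥M24, n ∈ N3 ∧ (n : Equiv.Perm GolayPt) (dec 3) = dec e.2.2.2 := by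
  unfold norOK at h
  simp only [Bool.and_eq_true, nat_beq_iff] at h
  obtain ⟨⟨⟨⟨⟨⟨h1, h2⟩, h3⟩, h4⟩, h5⟩, h6⟩, h7⟩ := h
  have hk := isPerm_of_inM24 _ h1
  refine ⟨⟨permOf e.1, permOf_mem_M24 _ h1⟩, (mem_N3 _).mpr ⟨?_, ?_, ?_, ?_⟩, ?_⟩
  · apply mem_N0_of_rel (k := e.2.1) (k' := e.2.2.1)
    · rw [a_pow]
      exact rel_of_relP hk ra_perm (pw_perm _) h2
    · rw [a_pow]
      exact rel_of_relP hk (pw_perm _) ra_perm h3
  · show permOf e.1 (dec 2) = dec 2
    rw [permOf_apply_dec _ hk 2 (by norm_num), h4]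
  · show permOf e.1 (dec 4) = dec 4
    rw [permOf_apply_dec _ hk 4 (by norm_num), h5]
  · show permOf e.1 (dec 0) = dec 0
    rw [permOf_apply_dec _ hk 0 (by norm_num), h6]
  · show permOf e.1 (dec 3) = dec e.2.2.2
    rw [permOf_apply_dec _ hk 3 (by norm_num), h7]

theorem L4_ok : norOK (idP, 1, 1, 3) = true ∧ norOK (rn2, 2, 4, 23) = true ∧
    norOK (rn4, 4, 2, 17) = true := by decide +kernel

theorem mask4 : ∀ i < 24, (0x820008 : ℕ).testBit i = true → i = 3 ∨ i = 23 ∨ i = 17 := by decide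

theorem pw_k : ∀ k, 1 ≤ k → k ≤ 6 → (k = 1 ∨ k = 2 ∨ k = 4) →
    (0x820008 : ℕ).testBit (img (pw (k * 1)) 0) = true := by decide +kernel

theorem pw_k1 : ∀ k, 1 ≤ k → k ≤ 6 → img (pw (k * 1)) 0 = 3 → k = 1 := by decide +kernel

theorem coe_pow3 (n : ↥M24) : ((n ^ 3 : ↥M24) : Equiv.Perm GolayPt) = (n : Equiv.Perm GolayPt) ^ 3 :=
  rfl

theorem pow3_fix {g : Equiv.Perm GolayPt} {p : GolayPt} (h : g p = p) : (g ^ 3) p = p := by
  simp only [pow_succ, pow_zero, one_mul, Equiv.Perm.mul_apply, h]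

theorem orb4 : MulAction.orbit N3 (dec 3) = ((bset 0x820008 : Finset GolayPt) : Set GolayPt) := by
  ext q
  rw [mem_orbit_subgroup_iff, Finset.mem_coe]
  constructor
  · rintro ⟨n, hn, rfl⟩
    obtain ⟨hnN, h2, h4, h0⟩ := (mem_N3 n).mp hn
    obtain ⟨k, hk1, hk6, hk⟩ := nor_rel hnN
    have e := nor_apply hk h0 1
    rw [pw_vals.1] at e
    show (n : Equiv.Perm GolayPt) (dec 3) ∈ bset 0x820008
    by_cases hbad : k = 3 ∨ k = 5 ∨ k = 6
    · exfalso
      have h3 := rel_pow_left hk 3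
      rw [a_pow_mod (k ^ 3)] at h3
      have hk3 : k ^ 3 % 7 = 6 := by
        rcases hbad with rfl | rfl | rfl <;> norm_num
      rw [hk3] at h3
      exact no_k6 (n := n ^ 3) h3 (pow3_fix h2) (pow3_fix h0)
    · have hgood : k = 1 ∨ k = 2 ∨ k = 4 := by omega
      rw [e, mem_bset, enc_dec _ (img_lt_of_isPerm _ (pw_perm _) 0 (by norm_num))]
      exact pw_k k hk1 hk6 hgood
  · intro hq
    rw [mem_bset] at hq
    have hq' : q = dec (enc q) := (dec_enc q).symm
    rcases mask4 _ (enc_lt q) hq with h | h | h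
    · obtain ⟨n, hn, hn3⟩ := norOK_spec L4_ok.1
      exact ⟨n, hn, by rw [hq', h]; exact hn3⟩
    · obtain ⟨n, hn, hn3⟩ := norOK_spec L4_ok.2.1
      exact ⟨n, hn, by rw [hq', h]; exact hn3⟩
    · obtain ⟨n, hn, hn3⟩ := norOK_spec L4_ok.2.2
      exact ⟨n, hn, by rw [hq', h]; exact hn3⟩

theorem N4_eq_bot : N3 ⊓ st 3 = ⊥ := by
  rw [Subgroup.eq_bot_iff_forall]
  intro n hn
  obtain ⟨hn3, h3⟩ := Subgroup.mem_inf.mp hn
  rw [mem_st] at h3
  obtain ⟨hnN, h2, h4, h0⟩ := (mem_N3 n).mp hn3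
  obtain ⟨k, hk1, hk6, hk⟩ := nor_rel hnN
  have e := nor_apply hk h0 1
  rw [pw_vals.1, h3] at e
  have hk' := pw_k1 k hk1 hk6
    (dec_inj (by norm_num) (img_lt_of_isPerm _ (pw_perm _) 0 (by norm_num)) e).symm
  subst hk'
  rw [pow_one] at hk
  exact eq_one_of_comm hk h2 h4 h0

theorem card_N0 : Nat.card N0 = 126 := by
  have h := card_H (H := N0) C0_le_N0 le_rfl
  have e4 := card_orbit_mul_card_inf N3 (dec 3)
  rw [card_orbit_bset orb4, pops.2.2.2] at e4
  change 3 * Nat.card ↥(N3 ⊓ st 3) = Nat.card ↥N3 at e4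
  rw [N4_eq_bot, Subgroup.card_bot] at e4
  change Nat.card ↥N0 = 42 * Nat.card ↥N3 at h
  omega


/-! ### Non-commuting elements of the centraliser -/

theorem cc_ok : inM24 rc12 = true ∧ Cfsg.Agent.S5607.commP rc12 ra = true ∧ inM24 rc23 = true ∧
    Cfsg.Agent.S5607.commP rc23 ra = true ∧ img rc12 (img rc23 0) ≠ img rc23 (img rc12 0) := by
  decide +kernel

theorem exists_noncomm : ∃ x ∈ C0, ∃ y ∈ C0, x * y ≠ y * x := by
  obtain ⟨h1, h2, h3, h4, h5⟩ := cc_ok
  have p1 := isPerm_of_inM24 _ h1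
  have p3 := isPerm_of_inM24 _ h3
  refine ⟨⟨permOf rc12, permOf_mem_M24 _ h1⟩,
    (mem_C0_iff _).mpr (Cfsg.Agent.S5607.comm_of_commP p1 ra_perm h2),
    ⟨permOf rc23, permOf_mem_M24 _ h3⟩,
    (mem_C0_iff _).mpr (Cfsg.Agent.S5607.comm_of_commP p3 ra_perm h4), ?_⟩
  intro h
  have h' : permOf rc12 * permOf rc23 = permOf rc23 * permOf rc12 := congrArg Subtype.val h
  have := congrArg (fun f : Equiv.Perm GolayPt => f (dec 0)) h'
  simp only [Equiv.Perm.mul_apply] at this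
  have l1 := img_lt_of_isPerm rc23 p3 0 (by norm_num)
  have l2 := img_lt_of_isPerm rc12 p1 0 (by norm_num)
  rw [permOf_apply_dec rc23 p3 0 (by norm_num), permOf_apply_dec rc12 p1 _ l1,
    permOf_apply_dec rc12 p1 0 (by norm_num), permOf_apply_dec rc23 p3 _ l2] at this
  exact h5 (dec_inj (img_lt_of_isPerm rc12 p1 _ l1) (img_lt_of_isPerm rc23 p3 _ l2) this)

/-! ### Sylow conjugacy -/

theorem fact7 : (Nat.card ↥M24).factorization 7 = 1 := by
  rw [Cfsg.Agent.Lib.Helper3.Golay.card_M24]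
  rw [show (244823040 : ℕ) = 7 * 34974720 by norm_num,
    Nat.factorization_mul (by norm_num) (by norm_num)]
  have h1 : (7 : ℕ).factorization 7 = 1 := Nat.Prime.factorization_self (by norm_num)
  have h2 : (34974720 : ℕ).factorization 7 = 0 :=
    Nat.factorization_eq_zero_of_not_dvd (by norm_num)
  rw [Finsupp.add_apply, h1, h2]

theorem exists_conj (S : Subgroup ↥M24) (hS : Nat.card S = 7) :
    ∃ g : ↥M24, ∀ s, s ∈ S ↔ g * s * g⁻¹ ∈ S0 := by
  have : Fact (Nat.Prime 7) := ⟨by norm_num⟩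
  let P : Sylow 7 ↥M24 := Sylow.ofCard S (by rw [hS, fact7, pow_one])
  let P0 : Sylow 7 ↥M24 := Sylow.ofCard S0 (by rw [card_S0, fact7, pow_one])
  obtain ⟨g, hg⟩ := MulAction.exists_smul_eq ↥M24 P P0
  refine ⟨g, fun s => ?_⟩
  have hP : (P0 : Subgroup ↥M24) = MulAut.conj g • (P : Subgroup ↥M24) := by
    rw [← hg]
    rfl
  change S0 = MulAut.conj g • S at hP
  rw [hP]
  exact (Subgroup.smul_mem_pointwise_smul_iff (a := MulAut.conj g)).symm

/-! ### The statement -/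

theorem result (S : Subgroup ↥Cfsg.M24) (hS : Nat.card S = 7) : Nat.card ↥(Subgroup.normalizer (S : Set ↥Cfsg.M24)) = 126 ∧ Nat.card ↥(Subgroup.centralizer (S : Set ↥Cfsg.M24)) = 42 ∧ (∃ x ∈ Subgroup.centralizer (S : Set ↥Cfsg.M24), ∃ y ∈ Subgroup.centralizer (S : Set ↥Cfsg.M24), x * y ≠ y * x) ∧ ∃ T ∈ Cfsg.trios, ∀ n ∈ Subgroup.normalizer (S : Set ↥Cfsg.M24), ((n : ↥Cfsg.M24) : Equiv.Perm Cfsg.GolayPt) • T = T := by
  obtain ⟨g, hg⟩ := exists_conj S hS
  have hN := mem_normalizer_conj hg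
  have hC := mem_centralizer_conj hg
  refine ⟨?_, ?_, ?_, ?_⟩
  · rw [← card_N0]
    apply Nat.card_congr
    exact Equiv.subtypeEquiv (MulAut.conj g).toEquiv (fun c => hN c)
  · rw [← card_C0]
    apply Nat.card_congr
    exact Equiv.subtypeEquiv (MulAut.conj g).toEquiv (fun c => hC c)
  · obtain ⟨x, hx, y, hy, hxy⟩ := exists_noncomm
    have ex : g * (g⁻¹ * x * g) * g⁻¹ = x := by group
    have ey : g * (g⁻¹ * y * g) * g⁻¹ = y := by group
    refine ⟨g⁻¹ * x * g, (hC _).mpr (by rw [ex]; exact hx), g⁻¹ * y * g,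
      (hC _).mpr (by rw [ey]; exact hy), ?_⟩
    intro h
    apply hxy
    have := congrArg (fun z => g * z * g⁻¹) h
    change g * (g⁻¹ * x * g * (g⁻¹ * y * g)) * g⁻¹ = g * (g⁻¹ * y * g * (g⁻¹ * x * g)) * g⁻¹ at this
    have e1 : g * (g⁻¹ * x * g * (g⁻¹ * y * g)) * g⁻¹ = x * y := by group
    have e2 : g * (g⁻¹ * y * g * (g⁻¹ * x * g)) * g⁻¹ = y * x := by group
    rw [e1, e2] at this
    exact this
  · refine ⟨(g : Equiv.Perm GolayPt)⁻¹ • fam T0list,
      smul_mem_trios (M24.inv_mem g.2) T0_mem_trios, ?_⟩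
    intro n hn
    have h1 := nor_smul_T0 ((hN n).mp hn)
    have e : ((g * n * g⁻¹ : ↥M24) : Equiv.Perm GolayPt) =
        (g : Equiv.Perm GolayPt) * (n : Equiv.Perm GolayPt) * (g : Equiv.Perm GolayPt)⁻¹ := rfl
    rw [e, mul_smul, mul_smul, smul_eq_iff_eq_inv_smul] at h1
    exact h1

end Cfsg.Agent.S5604
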