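import Cfsg.Statements.S2882
import Cfsg.Agent.S5604

set_option autoImplicit false
open Cfsg

namespace Cfsg.Agent.S2882
open scoped Pointwise
open Cfsg.Agent.Lib.Helper28.GolayCode Cfsg.Agent.Lib.Helper28.M24Pairs
  Cfsg.Agent.Lib.Helper28.M24OctadFix Cfsg.Agent.Lib.Helper28.M24Fam Cfsg.Agent.Lib.Helper28.StabLib
open Cfsg.Agent.S5607 (commP comm_of_commP commP_of_comm apply_mem_of_smul_eq)
open Cfsg.Agent.S5604 (mulP mul_of_mulP dec_inj ne_of_fix fix_O0_of_six mem_normalizer_conj)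

/-! ### Packed data -/

def rz : ℕ := 0xb926faa22da3a0b6255231cb618820
def rh : ℕ := 0x8da6fac2f2a390c59ccd524a410c20
def S1list : List ℕ := [0x2d, 0x12600, 0x401c0, 0x281800, 0x508010, 0x824002]
def gens : List ℕ := [0xa4d03bdcc6dd72456742580a18a25, 0x736494303455de73588baccb018a20, 0x159945c067780d59a24d4aae4704b1]
def C1 : List ℕ := [0x728f0354246ded243e9362ca918a20, 0x149474d86c315706d664a3dc88dc01, 0xbd68c7ca2958556241a831c73015c2, 0x721275102c35d706ceb6a3c5201623, 0x8bd8459aeab05359c1a74481410dc5, 0x1d48cb2846580efa224983433bc4ae, 0x14e8b7a46861656218ea6c2f50b811, 0x152a49c869b154b641a831e2f70417]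
def C3 : List ℕ := [0xbdab49ca307b9ac5a928398a418820, 0xbdaaf9aa27a04cb64909834a410dc0, 0xd98f5a5c8a5e53a98ea6c0a410e20, 0x7596f63426a44f59a2504a8a410ee0]
def L18 : List ℕ := [0x73e5435629b5da742a0b64ca410c20, 0xbd24f3aa33b39664558d8244428c20, 0x8d0f694eea7b9a64412bab04419420, 0x8bcd6925d5a5d674326d540a418820, 0xbbd5685627a39096c8cb9b06411420, 0x73e7661ee9a45b55c1483484428c20, 0xbd8cf3b1d0a45b24254b9d46428820, 0x752b662a267dd135c8ed4c06428820, 0x7520f4cee6b450a69e4b654a418820, 0x8da6fac2f2a390c59ccd524a410c20, 0x8be1451ef5b39696cd889186428820, 0xbd136819d37c56a6b2a83c8a410c20, 0xbbd949a5c7b451559a4d8284419420, 0x8d18fa99cab5db35a60891c6411420, 0x758f4342ec7c57244ead4a86411420, 0xbdab49ca307b9ac5a928398a418820, 0x7594f4ca2ca5d706d66831c4419420, 0x8d934531d27dd10698ebacc4428c20]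

theorem T0list_lt : ∀ m ∈ T0list, m < 2 ^ 24 := by decide
theorem S1list_lt : ∀ m ∈ S1list, m < 2 ^ 24 := by decide

theorem S1_mem_data : S1list ∈ sextetData := by decide +kernel
theorem S1_mem : fam S1list ∈ sextets := sextetFamData.sound S1list S1_mem_data

theorem rz_mem_Plist : rz ∈ Plist := by decide
theorem rz_inM24 : inM24 rz = true := Plist_inM24 rz_mem_Plist
theorem rz_perm : isPerm rz = true := isPerm_of_inM24 _ rz_inM24

/-- the central involution. -/
noncomputable def z : Equiv.Perm GolayPt := permOf rz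

theorem z_mem : z ∈ M24 := permOf_mem_M24 _ rz_inM24

noncomputable def z' : ↥M24 := ⟨z, z_mem⟩

theorem z_fix : ∀ p ∈ bset O0, z p = p := Plist_fix rz_mem_Plist

theorem z_ne_one : z ≠ 1 := by
  intro h
  have h1 : z (dec 4) = dec (img rz 4) := permOf_apply_dec rz rz_perm 4 (by norm_num)
  rw [h, Equiv.Perm.one_apply] at h1
  have := dec_inj (by norm_num) (img_lt_of_isPerm rz rz_perm 4 (by norm_num)) h1
  revert this
  decide +kernel

/-! ### The Sylow subgroup -/

/-- the standard Sylow 2-subgroup. -/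
noncomputable def P0 : Subgroup ↥M24 :=
  MulAction.stabilizer ↥M24 (bset O0) ⊓ MulAction.stabilizer ↥M24 (fam T0list) ⊓
    MulAction.stabilizer ↥M24 (fam S1list) ⊓ Subgroup.centralizer {z'}

theorem mem_P0 (g : ↥M24) : g ∈ P0 ↔ (g : Equiv.Perm GolayPt) • bset O0 = bset O0 ∧
    (g : Equiv.Perm GolayPt) • fam T0list = fam T0list ∧
    (g : Equiv.Perm GolayPt) • fam S1list = fam S1list ∧
    (g : Equiv.Perm GolayPt) * z = z * (g : Equiv.Perm GolayPt) := by
  unfold P0
  rw [Subgroup.mem_inf, Subgroup.mem_inf, Subgroup.mem_inf, MulAction.mem_stabilizer_iff,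
    MulAction.mem_stabilizer_iff, MulAction.mem_stabilizer_iff,
    Subgroup.mem_centralizer_singleton_iff, and_assoc, and_assoc]
  constructor
  · rintro ⟨h1, h2, h3, h4⟩
    exact ⟨h1, h2, h3, congrArg Subtype.val h4⟩
  · rintro ⟨h1, h2, h3, h4⟩
    exact ⟨h1, h2, h3, Subtype.ext h4⟩

noncomputable def inP (k : ℕ) : Bool :=
  inM24 k && Nat.beq (applyMask k O0) O0 && fixF k T0list && fixF k S1list && commP k rz

theorem inP_spec {k : ℕ} (h : inP k = true) :
    ∃ g : ↥M24, g ∈ P0 ∧ (g : Equiv.Perm GolayPt) = permOf k := by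
  unfold inP at h
  simp only [Bool.and_eq_true, nat_beq_iff] at h
  obtain ⟨⟨⟨⟨h1, h2⟩, h3⟩, h4⟩, h5⟩ := h
  have hk := isPerm_of_inM24 _ h1
  refine ⟨⟨permOf k, permOf_mem_M24 _ h1⟩, (mem_P0 _).mpr ⟨?_, ?_, ?_, ?_⟩, rfl⟩
  · show permOf k • bset O0 = bset O0
    rw [permOf_smul_bset k hk, h2]
  · exact (fixF_iff k hk T0list T0list_lt).mpr h3
  · exact (fixF_iff k hk S1list S1list_lt).mpr h4
  · exact comm_of_commP hk rz_perm h5

noncomputable def certOK (fixed : List ℕ) (b i k : ℕ) : Bool :=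
  inP k && (fixed.all fun f => Nat.beq (img k f) f) && Nat.beq (img k b) i

theorem certOK_spec {fixed : List ℕ} {b i k : ℕ} (hb : b < 24) (hfix : ∀ f ∈ fixed, f < 24)
    (h : certOK fixed b i k = true) :
    ∃ c : ↥M24, c ∈ P0 ∧ (∀ f ∈ fixed, (c : Equiv.Perm GolayPt) (dec f) = dec f) ∧
      (c : Equiv.Perm GolayPt) (dec b) = dec i := by
  unfold certOK at h
  simp only [Bool.and_eq_true, nat_beq_iff, List.all_eq_true] at h
  obtain ⟨⟨h1, h3⟩, h4⟩ := h
  have hM : inM24 k = true := by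
    unfold inP at h1
    simp only [Bool.and_eq_true] at h1
    exact h1.1.1.1.1
  have hk := isPerm_of_inM24 _ hM
  obtain ⟨c, hc, hck⟩ := inP_spec h1
  refine ⟨c, hc, ?_, ?_⟩
  · intro f hf
    rw [hck, permOf_apply_dec k hk f (hfix f hf), h3 f hf]
  · rw [hck, permOf_apply_dec k hk b hb, h4]

noncomputable def coverOK (L : List ℕ) (fixed : List ℕ) (b m : ℕ) : Bool :=
  (List.range 24).all fun i => !(m.testBit i) || L.any fun k => certOK fixed b i k

theorem coverOK_spec {L fixed : List ℕ} {b m : ℕ} (hb : b < 24) (hfix : ∀ f ∈ fixed, f < 24)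
    (h : coverOK L fixed b m = true) (q : GolayPt) (hq : q ∈ bset m) :
    ∃ c : ↥M24, c ∈ P0 ∧ (∀ f ∈ fixed, (c : Equiv.Perm GolayPt) (dec f) = dec f) ∧
      (c : Equiv.Perm GolayPt) (dec b) = q := by
  unfold coverOK at h
  rw [mem_bset] at hq
  have := List.all_eq_true.mp h (enc q) (List.mem_range.mpr (enc_lt q))
  rw [hq] at this
  simp only [Bool.not_true, Bool.false_or, List.any_eq_true] at this
  obtain ⟨k, -, hk⟩ := this
  obtain ⟨c, h1, h2, h3⟩ := certOK_spec hb hfix hk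
  exact ⟨c, h1, h2, by rw [h3, dec_enc]⟩

theorem L1_ok : coverOK C1 [] 0 O0 = true := by decide +kernel
theorem L2_ok : coverOK Plist [0] 4 0x7dbfd0 = true := by decide +kernel
theorem L3_ok : coverOK C3 [0, 4] 1 0x824002 = true := by decide +kernel


/-! ### The stabiliser chain -/

noncomputable abbrev st (i : ℕ) : Subgroup ↥M24 := MulAction.stabilizer ↥M24 (dec i)

theorem mem_st (g : ↥M24) (i : ℕ) : g ∈ st i ↔ (g : Equiv.Perm GolayPt) (dec i) = dec i :=
  MulAction.mem_stabilizer_iff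

theorem maskc : ∀ i < 24, O0.testBit i = false → (0x7dbfd0 : ℕ).testBit i = true := by decide
theorem maskt : ∀ i < 24, O0.testBit i = true → (0x2d : ℕ).testBit i = false →
    (0x824002 : ℕ).testBit i = true := by decide

theorem S1_of_0 : S1list.all (fun m => !(m.testBit 0) || Nat.beq m 0x2d) = true := by decide

/-- an element fixing the sextet and the point `dec 0` fixes the tetrad through it. -/
theorem smul_t1 {g : Equiv.Perm GolayPt} (hS : g • fam S1list = fam S1list)
    (h0 : g (dec 0) = dec 0) : g • bset 0x2d = bset 0x2d := by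
  have h1 : g • bset 0x2d ∈ fam S1list := by
    rw [← hS]
    exact Finset.smul_mem_smul_finset (mem_fam.mpr ⟨0x2d, by decide, rfl⟩)
  obtain ⟨m, hm, hmeq⟩ := mem_fam.mp h1
  have h3 : dec 0 ∈ bset m := by
    rw [hmeq, ← h0]
    apply Finset.smul_mem_smul_finset
    rw [mem_bset, enc_dec 0 (by norm_num)]
    decide
  rw [mem_bset, enc_dec 0 (by norm_num)] at h3
  have := List.all_eq_true.mp S1_of_0 m hm
  rw [h3] at this
  simp only [Bool.not_true, Bool.false_or, nat_beq_iff] at this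
  rw [← hmeq, this]

theorem orb1 : MulAction.orbit P0 (dec 0) = ((bset O0 : Finset GolayPt) : Set GolayPt) := by
  ext q
  rw [mem_orbit_subgroup_iff, Finset.mem_coe]
  constructor
  · rintro ⟨g, hg, rfl⟩
    obtain ⟨hO, -⟩ := (mem_P0 g).mp hg
    show (g : Equiv.Perm GolayPt) (dec 0) ∈ bset O0
    rw [apply_mem_of_smul_eq hO, mem_bset, enc_dec 0 (by norm_num)]
    decide
  · intro hq
    obtain ⟨c, hc, -, h⟩ := coverOK_spec (by norm_num) (by simp) L1_ok q hq
    exact ⟨c, hc, h⟩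

theorem orb2 : MulAction.orbit ↥(P0 ⊓ st 0) (dec 4) =
    ((bset 0x7dbfd0 : Finset GolayPt) : Set GolayPt) := by
  ext q
  rw [mem_orbit_subgroup_iff, Finset.mem_coe]
  constructor
  · rintro ⟨g, hg, rfl⟩
    obtain ⟨hgP, -⟩ := Subgroup.mem_inf.mp hg
    obtain ⟨hO, -⟩ := (mem_P0 g).mp hgP
    have h1 : (g : Equiv.Perm GolayPt) (dec 4) ∉ bset O0 := by
      rw [apply_mem_of_smul_eq hO, mem_bset, enc_dec 4 (by norm_num)]
      decide
    show (g : Equiv.Perm GolayPt) (dec 4) ∈ bset 0x7dbfd0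
    rw [mem_bset] at h1 ⊢
    exact maskc _ (enc_lt _) (by simpa using h1)
  · intro hq
    obtain ⟨c, hc, hf, h⟩ := coverOK_spec (by norm_num) (by simp) L2_ok q hq
    exact ⟨c, Subgroup.mem_inf.mpr ⟨hc, (mem_st c 0).mpr (hf 0 (by simp))⟩, h⟩

theorem orb3 : MulAction.orbit ↥(P0 ⊓ st 0 ⊓ st 4) (dec 1) =
    ((bset 0x824002 : Finset GolayPt) : Set GolayPt) := by
  ext q
  rw [mem_orbit_subgroup_iff, Finset.mem_coe]
  constructor
  · rintro ⟨g, hg, rfl⟩
    obtain ⟨hg1, -⟩ := Subgroup.mem_inf.mp hg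
    obtain ⟨hgP, hg0⟩ := Subgroup.mem_inf.mp hg1
    rw [mem_st] at hg0
    obtain ⟨hO, -, hS, -⟩ := (mem_P0 g).mp hgP
    have ht := smul_t1 hS hg0
    have h1 : (g : Equiv.Perm GolayPt) (dec 1) ∈ bset O0 := by
      rw [apply_mem_of_smul_eq hO, mem_bset, enc_dec 1 (by norm_num)]
      decide
    have h2 : (g : Equiv.Perm GolayPt) (dec 1) ∉ bset 0x2d := by
      rw [apply_mem_of_smul_eq ht, mem_bset, enc_dec 1 (by norm_num)]
      decide
    show (g : Equiv.Perm GolayPt) (dec 1) ∈ bset 0x824002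
    rw [mem_bset] at h1 h2 ⊢
    exact maskt _ (enc_lt _) h1 (by simpa using h2)
  · intro hq
    obtain ⟨c, hc, hf, h⟩ := coverOK_spec (by norm_num) (by simp) L3_ok q hq
    exact ⟨c, Subgroup.mem_inf.mpr ⟨Subgroup.mem_inf.mpr ⟨hc, (mem_st c 0).mpr (hf 0 (by simp))⟩,
      (mem_st c 4).mpr (hf 4 (by simp))⟩, h⟩

/-! ### Classification of the elements fixing three base points -/

noncomputable def L18entry (l : ℕ) : Bool :=
  inM24 l && Nat.beq (applyMask l O0) O0 && Nat.beq (applyMask l 0x2d) 0x2d &&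
    Nat.beq (img l 0) 0 && Nat.beq (img l 1) 1 && Nat.beq (img l 4) 4

theorem L18_ok : L18.all L18entry = true := by decide +kernel

def coverB : Bool :=
  (List.range 24).all fun i => (List.range 24).all fun j => (List.range 24).all fun k =>
    !((0x2c : ℕ).testBit i) || !((0x2c : ℕ).testBit j) || Nat.beq i j ||
      !((0x824000 : ℕ).testBit k) ||
      L18.any fun l => Nat.beq (img l 2) i && Nat.beq (img l 3) j && Nat.beq (img l 14) k

theorem coverB_ok : coverB = true := by decide +kernel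

theorem L18_cover {i j k : ℕ} (hi : i < 24) (hj : j < 24) (hk : k < 24)
    (h1 : (0x2c : ℕ).testBit i = true) (h2 : (0x2c : ℕ).testBit j = true) (hij : i ≠ j)
    (h3 : (0x824000 : ℕ).testBit k = true) :
    ∃ l ∈ L18, img l 2 = i ∧ img l 3 = j ∧ img l 14 = k := by
  have h := coverB_ok
  unfold coverB at h
  have := List.all_eq_true.mp (List.all_eq_true.mp (List.all_eq_true.mp h i (List.mem_range.mpr hi))
    j (List.mem_range.mpr hj)) k (List.mem_range.mpr hk)
  rw [h1, h2, h3] at this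
  have hne : Nat.beq i j = false := by
    rw [← Bool.not_eq_true, nat_beq_iff]
    exact hij
  rw [hne] at this
  simp only [Bool.not_true, Bool.false_or, List.any_eq_true, Bool.and_eq_true, nat_beq_iff] at this
  obtain ⟨l, hl, ⟨e1, e2⟩, e3⟩ := this
  exact ⟨l, hl, e1, e2, e3⟩

theorem L18_spec {l : ℕ} (hl : l ∈ L18) : inM24 l = true ∧ permOf l • bset O0 = bset O0 ∧
    permOf l • bset 0x2d = bset 0x2d ∧ permOf l (dec 0) = dec 0 ∧ permOf l (dec 1) = dec 1 ∧
    permOf l (dec 4) = dec 4 := by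
  have h := List.all_eq_true.mp L18_ok l hl
  unfold L18entry at h
  simp only [Bool.and_eq_true, nat_beq_iff] at h
  obtain ⟨⟨⟨⟨⟨h1, h2⟩, h3⟩, h4⟩, h5⟩, h6⟩ := h
  have hp := isPerm_of_inM24 _ h1
  refine ⟨h1, ?_, ?_, ?_, ?_, ?_⟩
  · rw [permOf_smul_bset l hp, h2]
  · rw [permOf_smul_bset l hp, h3]
  · rw [permOf_apply_dec l hp 0 (by norm_num), h4]
  · rw [permOf_apply_dec l hp 1 (by norm_num), h5]
  · rw [permOf_apply_dec l hp 4 (by norm_num), h6]

theorem mask_t1 : ∀ i < 24, (0x2d : ℕ).testBit i = true → i ≠ 0 → (0x2c : ℕ).testBit i = true := by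
  decide
theorem mask_t2 : ∀ i < 24, O0.testBit i = true → (0x2d : ℕ).testBit i = false → i ≠ 1 →
    (0x824000 : ℕ).testBit i = true := by decide
theorem mask_5 : ∀ i < 24, (0x2d : ℕ).testBit i = true → i ≠ 0 → i ≠ 2 → i ≠ 3 → i = 5 := by
  decide
theorem F6_card : popc (Nat.land O0 0x402f) = 6 := by decide +kernel
theorem F6_sub : ∀ i < 24, (0x402f : ℕ).testBit i = true →
    i = 0 ∨ i = 1 ∨ i = 2 ∨ i = 3 ∨ i = 5 ∨ i = 14 := by decide

theorem mem_L18 {g : Equiv.Perm GolayPt} (hg : g ∈ M24) (hO : g • bset O0 = bset O0)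
    (ht : g • bset 0x2d = bset 0x2d) (h0 : g (dec 0) = dec 0) (h1 : g (dec 1) = dec 1)
    (h4 : g (dec 4) = dec 4) : ∃ l ∈ L18, g = permOf l := by
  classical
  have hin1 : ∀ i, i < 24 → (0x2d : ℕ).testBit i = true → i ≠ 0 →
      (0x2c : ℕ).testBit (enc (g (dec i))) = true := by
    intro i hi hb hne
    apply mask_t1 _ (enc_lt _)
    · have : g (dec i) ∈ bset 0x2d := by
        rw [apply_mem_of_smul_eq ht, mem_bset, enc_dec i hi]
        exact hb
      rwa [mem_bset] at this
    · exact ne_of_fix (by norm_num) hi hne h0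
  have e2 := hin1 2 (by norm_num) (by decide) (by norm_num)
  have e3 := hin1 3 (by norm_num) (by decide) (by norm_num)
  have e23 : enc (g (dec 2)) ≠ enc (g (dec 3)) := by
    intro h
    have : g (dec 2) = g (dec 3) := by rw [← dec_enc (g (dec 2)), h, dec_enc]
    exact absurd (dec_inj (by norm_num) (by norm_num) (g.injective this)) (by norm_num)
  have e14 : (0x824000 : ℕ).testBit (enc (g (dec 14))) = true := by
    apply mask_t2 _ (enc_lt _)
    · have : g (dec 14) ∈ bset O0 := by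
        rw [apply_mem_of_smul_eq hO, mem_bset, enc_dec 14 (by norm_num)]
        decide
      rwa [mem_bset] at this
    · have : g (dec 14) ∉ bset 0x2d := by
        rw [apply_mem_of_smul_eq ht, mem_bset, enc_dec 14 (by norm_num)]
        decide
      rw [mem_bset] at this
      simpa using this
    · exact ne_of_fix (by norm_num) (by norm_num) (by norm_num) h1
  obtain ⟨l, hl, hl2, hl3, hl14⟩ := L18_cover (enc_lt _) (enc_lt _) (enc_lt _) e2 e3 e23 e14
  refine ⟨l, hl, ?_⟩
  obtain ⟨hlM, hlO, hlt, hl0, hl1, hl4⟩ := L18_spec hl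
  have hlP := isPerm_of_inM24 _ hlM
  set y := (permOf l)⁻¹ * g with hy
  have hyM : y ∈ M24 := M24.mul_mem (M24.inv_mem (permOf_mem_M24 _ hlM)) hg
  have hfixy : ∀ i : ℕ, i < 24 → permOf l (dec i) = g (dec i) → y (dec i) = dec i := by
    intro i _ h
    rw [hy, Equiv.Perm.mul_apply, Equiv.Perm.inv_eq_iff_eq]
    exact h.symm
  have y0 := hfixy 0 (by norm_num) (by rw [hl0, h0])
  have y1 := hfixy 1 (by norm_num) (by rw [hl1, h1])
  have y4 := hfixy 4 (by norm_num) (by rw [hl4, h4])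
  have y2 := hfixy 2 (by norm_num) (by rw [permOf_apply_dec l hlP 2 (by norm_num), hl2, dec_enc])
  have y3 := hfixy 3 (by norm_num) (by rw [permOf_apply_dec l hlP 3 (by norm_num), hl3, dec_enc])
  have y14 := hfixy 14 (by norm_num)
    (by rw [permOf_apply_dec l hlP 14 (by norm_num), hl14, dec_enc])
  have hyt : y • bset 0x2d = bset 0x2d := by
    rw [hy, mul_smul, ht, inv_smul_eq_iff, hlt]
  have y5 : y (dec 5) = dec 5 := by
    have hm : y (dec 5) ∈ bset 0x2d := by
      rw [apply_mem_of_smul_eq hyt, mem_bset, enc_dec 5 (by norm_num)]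
      decide
    rw [mem_bset] at hm
    have := mask_5 _ (enc_lt _) hm (ne_of_fix (by norm_num) (by norm_num) (by norm_num) y0)
      (ne_of_fix (by norm_num) (by norm_num) (by norm_num) y2)
      (ne_of_fix (by norm_num) (by norm_num) (by norm_num) y3)
    rw [← dec_enc (y (dec 5)), this]
  have hF : ∀ p ∈ bset 0x402f, y p = p := by
    intro p hp
    rw [mem_bset] at hp
    rcases F6_sub _ (enc_lt p) hp with h | h | h | h | h | h <;>
      (rw [← dec_enc p, h]; assumption)
  have h6 : 6 ≤ (bset O0 ∩ bset 0x402f).card := by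
    rw [← bset_and, card_bset]
    exact le_of_eq F6_card.symm
  have hfix := fix_O0_of_six hyM (bset 0x402f) hF h6
  have hy1 : y = 1 := eq_one_of_fix_O0_x0 hyM hfix y4
  rw [hy] at hy1
  exact (inv_mul_eq_one.mp hy1).symm


/-! ### The order of the Sylow subgroup -/

theorem L18_filter : L18.all (fun l => !(fixF l T0list && fixF l S1list && commP l rz) ||
    Nat.beq l idP || Nat.beq l rh) = true := by decide +kernel

theorem rh_ok : inP rh = true ∧ mulP rh rh idP = true ∧ Nat.beq (img rh 0) 0 = true ∧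
    Nat.beq (img rh 4) 4 = true ∧ Nat.beq (img rh 1) 1 = true ∧ img rh 2 ≠ 2 := by
  decide +kernel

theorem rh_inM24 : inM24 rh = true := by
  have := rh_ok.1
  unfold inP at this
  simp only [Bool.and_eq_true] at this
  exact this.1.1.1.1

theorem rh_perm : isPerm rh = true := isPerm_of_inM24 _ rh_inM24

/-- the involution generating the last stabiliser. -/
noncomputable def h' : ↥M24 := ⟨permOf rh, permOf_mem_M24 _ rh_inM24⟩

theorem h'_mem : h' ∈ P0 ⊓ st 0 ⊓ st 4 ⊓ st 1 := by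
  obtain ⟨h1, -, h3, h4, h5, -⟩ := rh_ok
  rw [nat_beq_iff] at h3 h4 h5
  obtain ⟨g, hg, hgk⟩ := inP_spec h1
  have hgh : g = h' := Subtype.ext hgk
  rw [hgh] at hg
  refine Subgroup.mem_inf.mpr ⟨Subgroup.mem_inf.mpr ⟨Subgroup.mem_inf.mpr ⟨hg, ?_⟩, ?_⟩, ?_⟩
  · rw [mem_st]
    show permOf rh (dec 0) = dec 0
    rw [permOf_apply_dec rh rh_perm 0 (by norm_num), h3]
  · rw [mem_st]
    show permOf rh (dec 4) = dec 4
    rw [permOf_apply_dec rh rh_perm 4 (by norm_num), h4]
  · rw [mem_st]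
    show permOf rh (dec 1) = dec 1
    rw [permOf_apply_dec rh rh_perm 1 (by norm_num), h5]

theorem h'_sq : h' ^ 2 = 1 := by
  apply Subtype.ext
  show permOf rh ^ 2 = 1
  rw [pow_two, mul_of_mulP rh_perm rh_perm (isPerm_of_inM24 _ (Plist_inM24 idP_mem)) rh_ok.2.1,
    permOf_idP]

theorem h'_ne_one : h' ≠ 1 := by
  intro h
  have h1 : permOf rh = 1 := congrArg Subtype.val h
  have h2 := permOf_apply_dec rh rh_perm 2 (by norm_num)
  rw [h1, Equiv.Perm.one_apply] at h2
  exact rh_ok.2.2.2.2.2 (dec_inj (by norm_num) (img_lt_of_isPerm rh rh_perm 2 (by norm_num)) h2).symm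

theorem orderOf_h' : orderOf h' = 2 := by
  have : Fact (Nat.Prime 2) := ⟨Nat.prime_two⟩
  exact orderOf_eq_prime h'_sq h'_ne_one

theorem H3_eq : P0 ⊓ st 0 ⊓ st 4 ⊓ st 1 = Subgroup.zpowers h' := by
  apply le_antisymm
  · intro g hg
    obtain ⟨hg1, h1⟩ := Subgroup.mem_inf.mp hg
    obtain ⟨hg2, h4⟩ := Subgroup.mem_inf.mp hg1
    obtain ⟨hgP, h0⟩ := Subgroup.mem_inf.mp hg2
    rw [mem_st] at h0 h1 h4
    obtain ⟨hO, hT, hS, hz⟩ := (mem_P0 g).mp hgP
    obtain ⟨l, hl, hgl⟩ := mem_L18 g.2 hO (smul_t1 hS h0) h0 h1 h4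
    have hlP := isPerm_of_inM24 _ (L18_spec hl).1
    rw [hgl] at hT hS hz
    have f1 := (fixF_iff l hlP T0list T0list_lt).mp hT
    have f2 := (fixF_iff l hlP S1list S1list_lt).mp hS
    have f3 := commP_of_comm hlP rz_perm hz
    have := List.all_eq_true.mp L18_filter l hl
    rw [f1, f2, f3] at this
    simp only [Bool.and_self, Bool.not_true, Bool.false_or, Bool.or_eq_true, nat_beq_iff] at this
    rcases this with h | h
    · have : g = 1 := by
        apply Subtype.ext
        rw [hgl, h, permOf_idP]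
        rfl
      rw [this]
      exact Subgroup.one_mem _
    · have : g = h' := by
        apply Subtype.ext
        rw [hgl, h]
        rfl
      rw [this]
      exact Subgroup.mem_zpowers h'
  · rw [Subgroup.zpowers_le]
    exact h'_mem

theorem card_orbit_bset {K : Subgroup ↥M24} {x : GolayPt} {m : ℕ}
    (h : MulAction.orbit K x = ((bset m : Finset GolayPt) : Set GolayPt)) :
    Nat.card (MulAction.orbit K x) = popc m := by
  rw [h, Nat.card_coe_set_eq, Set.ncard_coe_finset, card_bset]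

theorem pops : popc O0 = 8 ∧ popc 0x7dbfd0 = 16 ∧ popc 0x824002 = 4 := by decide +kernel

theorem card_P0 : Nat.card P0 = 1024 := by
  have e1 := card_orbit_mul_card_inf P0 (dec 0)
  have e2 := card_orbit_mul_card_inf (P0 ⊓ st 0) (dec 4)
  have e3 := card_orbit_mul_card_inf (P0 ⊓ st 0 ⊓ st 4) (dec 1)
  rw [card_orbit_bset orb1, pops.1] at e1
  rw [card_orbit_bset orb2, pops.2.1] at e2
  rw [card_orbit_bset orb3, pops.2.2] at e3
  change 4 * Nat.card ↥(P0 ⊓ st 0 ⊓ st 4 ⊓ st 1) = Nat.card ↥(P0 ⊓ st 0 ⊓ st 4) at e3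
  change 16 * Nat.card ↥(P0 ⊓ st 0 ⊓ st 4) = Nat.card ↥(P0 ⊓ st 0) at e2
  change 8 * Nat.card ↥(P0 ⊓ st 0) = Nat.card ↥P0 at e1
  rw [H3_eq, Nat.card_zpowers, orderOf_h'] at e3
  omega


/-! ### The normaliser -/

theorem gens_ok : gens.all inP = true := by decide +kernel

theorem uniqO : octadList.all (fun m => !(gens.all fun p => fixS p m) || Nat.beq m O0) = true := by
  decide +kernel

theorem uniqT : trioData.all (fun l => !(gens.all fun p => fixF p l) || famEq l T0list) = true := by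
  decide +kernel

theorem uniqS : sextetData.all (fun l => !(gens.all fun p => fixF p l) || famEq l S1list) = true := by
  decide +kernel

theorem uniqZ : Plist.all (fun t => !(gens.all fun p => commP p t) || Nat.beq t idP ||
    Nat.beq t rz) = true := by decide +kernel

theorem gens_spec {p : ℕ} (hp : p ∈ gens) :
    ∃ g : ↥M24, g ∈ P0 ∧ (g : Equiv.Perm GolayPt) = permOf p ∧ isPerm p = true := by
  have h := List.all_eq_true.mp gens_ok p hp
  obtain ⟨g, hg, hgp⟩ := inP_spec h
  refine ⟨g, hg, hgp, ?_⟩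
  unfold inP at h
  simp only [Bool.and_eq_true] at h
  exact isPerm_of_inM24 _ h.1.1.1.1

theorem conj_mem {n : ↥M24} (hn : n ∈ Subgroup.normalizer (P0 : Set ↥M24)) {g : ↥M24}
    (hg : g ∈ P0) : n⁻¹ * g * n ∈ P0 :=
  (Subgroup.mem_normalizer_iff''.mp hn g).mp hg

theorem nor_fixed {X : Type*} [MulAction (Equiv.Perm GolayPt) X] {n : ↥M24}
    (hn : n ∈ Subgroup.normalizer (P0 : Set ↥M24)) {x : X}
    (hx : ∀ g ∈ P0, ((g : ↥M24) : Equiv.Perm GolayPt) • x = x) {g : ↥M24} (hg : g ∈ P0) :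
    (g : Equiv.Perm GolayPt) • ((n : Equiv.Perm GolayPt) • x) = (n : Equiv.Perm GolayPt) • x := by
  have h1 := hx _ (conj_mem hn hg)
  have e : ((n⁻¹ * g * n : ↥M24) : Equiv.Perm GolayPt) =
      (n : Equiv.Perm GolayPt)⁻¹ * (g : Equiv.Perm GolayPt) * (n : Equiv.Perm GolayPt) := rfl
  rw [e, mul_smul, mul_smul, inv_smul_eq_iff] at h1
  exact h1

section nor
variable {n : ↥M24} (hn : n ∈ Subgroup.normalizer (P0 : Set ↥M24))
include hn

theorem nor_smul_O0 : (n : Equiv.Perm GolayPt) • bset O0 = bset O0 := by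
  have hoct : (n : Equiv.Perm GolayPt) • bset O0 ∈ octads := smul_mem_octads n.2 O0_mem
  obtain ⟨m, hm, hmeq⟩ := (mem_octads_iff_exists _).mp hoct
  have hlt := octadList_lt m hm
  have hall : (gens.all fun p => fixS p m) = true := by
    rw [List.all_eq_true]
    intro p hp
    obtain ⟨g, hg, hgp, hpP⟩ := gens_spec hp
    have := nor_fixed hn (x := bset O0) (fun g hg => ((mem_P0 g).mp hg).1) hg
    rw [hgp, ← hmeq] at this
    exact (fixS_iff p hpP m hlt).mp this
  have := List.all_eq_true.mp uniqO m hm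
  rw [hall] at this
  simp only [Bool.not_true, Bool.false_or, nat_beq_iff] at this
  rw [← hmeq, this]

theorem nor_smul_T0 : (n : Equiv.Perm GolayPt) • fam T0list = fam T0list := by
  have hT : (n : Equiv.Perm GolayPt) • fam T0list ∈ trios := smul_mem_trios n.2 T0_mem_trios
  obtain ⟨l, hl, hleq⟩ := trioFamData.complete _ hT
  have hlt := trioData_lt l hl
  have hall : (gens.all fun p => fixF p l) = true := by
    rw [List.all_eq_true]
    intro p hp
    obtain ⟨g, hg, hgp, hpP⟩ := gens_spec hp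
    have := nor_fixed hn (x := fam T0list) (fun g hg => ((mem_P0 g).mp hg).2.1) hg
    rw [hgp, hleq] at this
    exact (fixF_iff p hpP l hlt).mp this
  have := List.all_eq_true.mp uniqT l hl
  rw [hall] at this
  simp only [Bool.not_true, Bool.false_or] at this
  rw [hleq]
  exact fam_eq_of_famEq this

theorem nor_smul_S1 : (n : Equiv.Perm GolayPt) • fam S1list = fam S1list := by
  have hT : (n : Equiv.Perm GolayPt) • fam S1list ∈ sextets := smul_mem_sextets n.2 S1_mem
  obtain ⟨l, hl, hleq⟩ := sextetFamData.complete _ hT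
  have hlt := sextetData_lt l hl
  have hall : (gens.all fun p => fixF p l) = true := by
    rw [List.all_eq_true]
    intro p hp
    obtain ⟨g, hg, hgp, hpP⟩ := gens_spec hp
    have := nor_fixed hn (x := fam S1list) (fun g hg => ((mem_P0 g).mp hg).2.2.1) hg
    rw [hgp, hleq] at this
    exact (fixF_iff p hpP l hlt).mp this
  have := List.all_eq_true.mp uniqS l hl
  rw [hall] at this
  simp only [Bool.not_true, Bool.false_or] at this
  rw [hleq]
  exact fam_eq_of_famEq this

theorem nor_comm_z : (n : Equiv.Perm GolayPt) * z = z * (n : Equiv.Perm GolayPt) := by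
  set N : Equiv.Perm GolayPt := (n : Equiv.Perm GolayPt) with hN
  have hO := nor_smul_O0 hn
  have hO' : N⁻¹ • bset O0 = bset O0 := by
    rw [inv_smul_eq_iff, hO]
  have hwM : N * z * N⁻¹ ∈ M24 := M24.mul_mem (M24.mul_mem n.2 z_mem) (M24.inv_mem n.2)
  have hwfix : ∀ q ∈ bset O0, (N * z * N⁻¹) q = q := by
    intro q hq
    have h1 : N⁻¹ q ∈ bset O0 := (apply_mem_of_smul_eq hO' q).mpr hq
    rw [Equiv.Perm.mul_apply, Equiv.Perm.mul_apply, z_fix _ h1]
    simp
  obtain ⟨t, ht, hwt⟩ := mem_Plist_of_fix hwM hwfix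
  have htP := isPerm_of_inM24 _ (Plist_inM24 ht)
  have hall : (gens.all fun p => commP p t) = true := by
    rw [List.all_eq_true]
    intro p hp
    obtain ⟨g, hg, hgp, hpP⟩ := gens_spec hp
    have hc := ((mem_P0 _).mp (conj_mem hn hg)).2.2.2
    have e : ((n⁻¹ * g * n : ↥M24) : Equiv.Perm GolayPt) = N⁻¹ * permOf p * N := by
      rw [← hgp]
      rfl
    rw [e] at hc
    apply commP_of_comm hpP htP
    rw [← hwt]
    have e1 : permOf p * (N * z * N⁻¹) = N * (N⁻¹ * permOf p * N * z) * N⁻¹ := by group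
    have e2 : N * z * N⁻¹ * permOf p = N * (z * (N⁻¹ * permOf p * N)) * N⁻¹ := by group
    rw [e1, e2, hc]
  have := List.all_eq_true.mp uniqZ t ht
  rw [hall] at this
  simp only [Bool.not_true, Bool.false_or, Bool.or_eq_true, nat_beq_iff] at this
  rcases this with h | h
  · exfalso
    rw [h, permOf_idP] at hwt
    apply z_ne_one
    have : z = N⁻¹ * (N * z * N⁻¹) * N := by group
    rw [this, hwt]
    group
  · rw [h] at hwt
    have : N * z * N⁻¹ = z := hwt
    rw [mul_inv_eq_iff_eq_mul] at this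
    exact this

end nor

theorem normalizer_P0 : Subgroup.normalizer (P0 : Set ↥M24) = P0 := by
  apply le_antisymm
  · intro n hn
    rw [mem_P0]
    exact ⟨nor_smul_O0 hn, nor_smul_T0 hn, nor_smul_S1 hn, nor_comm_z hn⟩
  · exact Subgroup.le_normalizer

/-! ### The statement -/

theorem fact2 : (Nat.card ↥M24).factorization 2 = 10 := by
  rw [Cfsg.Agent.Lib.Helper3.Golay.card_M24, show (244823040 : ℕ) = 2 ^ 10 * 239085 by norm_num,
    Nat.factorization_mul (by norm_num) (by norm_num), Nat.factorization_pow]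
  have h1 : (2 : ℕ).factorization 2 = 1 := Nat.Prime.factorization_self Nat.prime_two
  have h2 : (239085 : ℕ).factorization 2 = 0 :=
    Nat.factorization_eq_zero_of_not_dvd (by norm_num)
  simp [h1, h2]

theorem result (S : Sylow 2 ↥Cfsg.M24) : Subgroup.normalizer ((S : Subgroup ↥Cfsg.M24) : Set ↥Cfsg.M24) = (S : Subgroup ↥Cfsg.M24) := by
  have : Fact (Nat.Prime 2) := ⟨Nat.prime_two⟩
  let Q : Sylow 2 ↥M24 := Sylow.ofCard P0 (by rw [card_P0, fact2]; norm_num)
  obtain ⟨g, hg⟩ := MulAction.exists_smul_eq ↥M24 S Q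
  have hP : (Q : Subgroup ↥M24) = MulAut.conj g • (S : Subgroup ↥M24) := by
    rw [← hg]
    rfl
  change P0 = MulAut.conj g • (S : Subgroup ↥M24) at hP
  have hS : ∀ s, s ∈ (S : Subgroup ↥M24) ↔ g * s * g⁻¹ ∈ P0 := by
    intro s
    rw [hP]
    exact (Subgroup.smul_mem_pointwise_smul_iff (a := MulAut.conj g)).symm
  ext n
  rw [mem_normalizer_conj hS n, normalizer_P0, hS]

end Cfsg.Agent.S2882
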