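import Cfsg.Statements.S2907
import Mathlib.GroupTheory.Index
import Mathlib.GroupTheory.Commutator.Basic
import Mathlib.Tactic

set_option autoImplicit false
open Cfsg

namespace Cfsg.Agent.S2907

open scoped commutatorElement

/-- Let X be a finite semi-extraspecial p-group and x an element of X outside the centre. Then the index of C_X(x) in X equals the order of Z(X), and the commutators [x, y], y ∈ X, form exactly the centre Z(X). -/
theorem result {X : Type*} [Group X] [Finite X] {p : ℕ} [Fact p.Prime] (hX : Cfsg.IsSemiExtraspecial p X) (x : X) (hx : x ∉ Subgroup.center X) : (Subgroup.centralizer ({x} : Set X)).index = Nat.card ↥(Subgroup.center X) ∧ {z : X | ∃ y : X, z = x * y * x⁻¹ * y⁻¹} = (Subgroup.center X : Set X) := by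
  obtain ⟨⟨hXp, hfr, hcomm⟩, hquot⟩ := hX
  have hcen : ∀ y : X, ⁅x, y⁆ ∈ Subgroup.center X := by
    intro y
    rw [← hcomm, commutator_def]
    exact Subgroup.commutator_mem_commutator (Subgroup.mem_top x) (Subgroup.mem_top y)
  let φ : X →* X := MonoidHom.mk' (fun y => ⁅x, y⁆) (by
    intro a b
    show ⁅x, a * b⁆ = ⁅x, a⁆ * ⁅x, b⁆
    rw [commutatorElement_mul_right_eq_mul_conj]
    have h1 := Subgroup.mem_center_iff.mp (hcen b) a
    calc ⁅x, a⁆ * a * ⁅x, b⁆ * a⁻¹ = ⁅x, a⁆ * (a * ⁅x, b⁆) * a⁻¹ := by group
      _ = ⁅x, a⁆ * (⁅x, b⁆ * a) * a⁻¹ := by rw [h1]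
      _ = ⁅x, a⁆ * ⁅x, b⁆ := by group)
  have hφ : ∀ y, φ y = ⁅x, y⁆ := fun y => rfl
  have hker : φ.ker = Subgroup.centralizer ({x} : Set X) := by
    ext y
    rw [MonoidHom.mem_ker, hφ, commutatorElement_eq_one_iff_mul_comm, Subgroup.mem_centralizer_iff]
    constructor
    · intro h z hz
      rw [Set.mem_singleton_iff] at hz; subst hz; exact h
    · intro h; exact h x (Set.mem_singleton x)
  have hrange_le : φ.range ≤ Subgroup.center X := by
    rintro _ ⟨y, rfl⟩
    exact hcen y
  have hrange : φ.range = Subgroup.center X := by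
    by_contra hne
    have hne' : φ.range.subgroupOf (Subgroup.center X) ≠ ⊤ := by
      intro h
      rw [Subgroup.subgroupOf_eq_top] at h
      exact hne (le_antisymm hrange_le h)
    rcases eq_top_or_exists_le_coatom (φ.range.subgroupOf (Subgroup.center X)) with h | ⟨Y', hY'co, hY'le⟩
    · exact hne' h
    · set Y : Subgroup X := Y'.map (Subgroup.center X).subtype with hY
      have hYle : Y ≤ Subgroup.center X := Subgroup.map_subtype_le _
      have hYsub : Y.subgroupOf (Subgroup.center X) = Y' := by
        rw [hY]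
        exact Subgroup.comap_map_eq_self_of_injective (Subgroup.subtype_injective _) Y'
      have hrY : φ.range ≤ Y := by
        intro z hz
        exact ⟨⟨z, hrange_le hz⟩, hY'le (by rw [Subgroup.mem_subgroupOf]; exact hz), rfl⟩
      obtain ⟨hYn, ⟨hQp, hQfr, hQcomm⟩, hQcard⟩ := hquot Y hYle (by rw [hYsub]; exact hY'co)
      -- image of x is central in X ⧸ Y
      have hxc : (QuotientGroup.mk' Y x) ∈ Subgroup.center (X ⧸ Y) := by
        rw [Subgroup.mem_center_iff]
        intro q
        obtain ⟨y, rfl⟩ := QuotientGroup.mk'_surjective Y q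
        have h1 : ⁅x, y⁆ ∈ Y := hrY ⟨y, rfl⟩
        have h2 : (QuotientGroup.mk' Y) ⁅x, y⁆ = 1 := by
          rw [QuotientGroup.mk'_apply, QuotientGroup.eq_one_iff]; exact h1
        rw [map_commutatorElement, commutatorElement_eq_one_iff_mul_comm] at h2
        exact h2.symm
      rw [← hQcomm, commutator_def, ← Subgroup.map_top_of_surjective _ (QuotientGroup.mk'_surjective Y),
        ← Subgroup.map_commutator, ← commutator_def, hcomm] at hxc
      obtain ⟨z, hz, hzx⟩ := hxc
      apply hx
      have h3 : z⁻¹ * x ∈ Y := by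
        rw [← QuotientGroup.eq_one_iff, ← QuotientGroup.mk'_apply, map_mul, map_inv, hzx]
        simp
      have h4 : z⁻¹ * x ∈ Subgroup.center X := hYle h3
      have : x = z * (z⁻¹ * x) := by group
      rw [this]
      exact Subgroup.mul_mem _ hz h4
  constructor
  · rw [← hker, Subgroup.index_ker, hrange]
  · ext z
    constructor
    · rintro ⟨y, rfl⟩
      have := hcen y
      rw [commutatorElement_def] at this
      exact this
    · intro hz
      have hz' : z ∈ φ.range := by rw [hrange]; exact hz
      obtain ⟨y, hy⟩ := hz'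
      refine ⟨y, ?_⟩
      rw [← hy, hφ, commutatorElement_def]

end Cfsg.Agent.S2907
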