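import Cfsg.Statements.S2911
import Mathlib
import Cfsg.Agent.S2872
import Cfsg.Agent.Lib.Helper12.Residual
-- import your own Cfsg.Agent.* helpers here

set_option autoImplicit false
open Cfsg

namespace Cfsg.Agent.S2911

/-- automorphisms of `C₂ × D₈` act on the centre with square one -/
theorem autD_sq_center (γ : (Multiplicative (ZMod 2) × DihedralGroup 4) ≃* (Multiplicative (ZMod 2) × DihedralGroup 4))
    (d : Multiplicative (ZMod 2) × DihedralGroup 4)
    (hd : ∀ y : Multiplicative (ZMod 2) × DihedralGroup 4, d * y = y * d) : γ (γ d) = d := by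
  set c : Multiplicative (ZMod 2) × DihedralGroup 4 := (1, DihedralGroup.r 2) with hcdef
  set a : Multiplicative (ZMod 2) × DihedralGroup 4 := (Multiplicative.ofAdd 1, 1) with hadef
  have hsq : ∀ x : Multiplicative (ZMod 2) × DihedralGroup 4, x * x = 1 ∨ x * x = c := by decide
  have hcen : ∀ x : Multiplicative (ZMod 2) × DihedralGroup 4,
      (∀ y : Multiplicative (ZMod 2) × DihedralGroup 4, x * y = y * x) →
      x = 1 ∨ x = c ∨ x = a ∨ x = a * c := by decide
  have hc1 : c ≠ 1 := by decide
  have hcsq : c = ((1, DihedralGroup.r 1) : Multiplicative (ZMod 2) × DihedralGroup 4) * (1, DihedralGroup.r 1) := by decide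
  have hγc : γ c = c := by
    rcases hsq (γ (1, DihedralGroup.r 1)) with h | h
    · exfalso
      apply hc1
      apply γ.injective
      rw [map_one, hcsq, map_mul]; exact h
    · rw [hcsq, map_mul]; exact h
  have hcentral : ∀ x : Multiplicative (ZMod 2) × DihedralGroup 4,
      (∀ y, x * y = y * x) → ∀ y, γ x * y = y * γ x := by
    intro x hx y
    obtain ⟨y', rfl⟩ := γ.surjective y
    rw [← map_mul, ← map_mul, hx]
  have hacen : ∀ y : Multiplicative (ZMod 2) × DihedralGroup 4, a * y = y * a := by decide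
  have ha1 : a ≠ 1 := by decide
  have hac : a ≠ c := by decide
  have hcc : c * c = 1 := by decide
  have hγa : γ a = a ∨ γ a = a * c := by
    rcases hcen (γ a) (hcentral a hacen) with h | h | h | h
    · exfalso; apply ha1; apply γ.injective; rw [h, map_one]
    · exfalso; apply hac; apply γ.injective; rw [h, hγc]
    · left; exact h
    · right; exact h
  rcases hcen d hd with h | h | h | h
  · rw [h, map_one, map_one]
  · rw [h, hγc, hγc]
  · rcases hγa with h' | h'
    · rw [h, h', h']
    · rw [h]; simp only [h', map_mul, hγc, mul_assoc, hcc, mul_one]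
  · rcases hγa with h' | h'
    · rw [h]; simp only [h', map_mul, hγc]
    · rw [h]; simp only [h', map_mul, hγc, mul_assoc, hcc, mul_one]

theorem aut_sq_center {P : Type*} [Group P] (e : P ≃* Multiplicative (ZMod 2) × DihedralGroup 4)
    (β : P ≃* P) (x : P) (hx : ∀ y : P, x * y = y * x) : β (β x) = x := by
  have h := autD_sq_center ((e.symm.trans β).trans e) (e x) (by
    intro y
    obtain ⟨y', rfl⟩ := e.surjective y
    rw [← map_mul, ← map_mul, hx])
  simp only [MulEquiv.trans_apply, MulEquiv.symm_apply_apply] at h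
  exact e.injective h

theorem isCoatom_of_index_two {P : Type*} [Group P] (M : Subgroup P) (hM : M.index = 2) : IsCoatom M := by
  constructor
  · intro h
    rw [h, Subgroup.index_top] at hM
    omega
  · intro K hK
    have h1 := Subgroup.relIndex_mul_index hK.le
    rw [hM] at h1
    have h2 : K.index ∣ 2 := Dvd.intro_left _ h1
    rcases (Nat.dvd_prime Nat.prime_two).mp h2 with h3 | h3
    · exact Subgroup.index_eq_one.mp h3
    · exfalso
      rw [h3] at h1
      have h4 : M.relIndex K = 1 := by omega
      have h5 : K ≤ M := Subgroup.relIndex_eq_one.mp h4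
      exact (not_le_of_gt hK) h5


/-- A finite group whose Sylow 2-subgroups are isomorphic to the direct product of a group of order 2 and a dihedral group of order 8 has a subgroup of index two. -/
theorem result {G : Type*} [Group G] [Finite G] (S : Sylow 2 G) (hS : Nonempty (↥(S : Subgroup G) ≃* Multiplicative (ZMod 2) × DihedralGroup 4)) : ∃ H : Subgroup G, H.index = 2 := by
  classical
  obtain ⟨e⟩ := hS
  rcases Cfsg.Agent.S2872.result S with h1 | h2 | h3
  · -- O^2(G) ≠ G
    haveI hn : (Cfsg.pResidual 2 G).Normal := Cfsg.Agent.Lib.Helper12.pResidual_normal' 2 G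
    obtain ⟨k, hk⟩ := Cfsg.Agent.Lib.Helper12.pResidual_index_eq_pow 2 G
    have hk0 : k ≠ 0 := by
      rintro rfl
      rw [pow_zero, Subgroup.index_eq_one] at hk
      exact h1 hk
    obtain ⟨k', rfl⟩ := Nat.exists_eq_succ_of_ne_zero hk0
    have hcard : Nat.card (G ⧸ Cfsg.pResidual 2 G) = 2 ^ (k' + 1) := by
      rw [← Subgroup.index_eq_card, hk]
    have hdvd : 2 ^ k' ∣ Nat.card (G ⧸ Cfsg.pResidual 2 G) := by
      rw [hcard]; exact pow_dvd_pow 2 (Nat.le_succ k')
    obtain ⟨K, hK⟩ := Sylow.exists_subgroup_card_pow_prime 2 hdvd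
    refine ⟨K.comap (QuotientGroup.mk' (Cfsg.pResidual 2 G)), ?_⟩
    rw [Subgroup.index_comap_of_surjective K (QuotientGroup.mk'_surjective _)]
    have h4 := K.card_mul_index
    rw [hK, hcard, pow_succ] at h4
    have h5 : 0 < 2 ^ k' := by positivity
    exact Nat.eq_of_mul_eq_mul_left h5 h4
  · -- Ω₁(Z(S)) ≤ Φ(S): impossible
    exfalso
    set a' : ↥(S : Subgroup G) := e.symm (Multiplicative.ofAdd 1, 1) with ha'
    have hacen : ∀ y : Multiplicative (ZMod 2) × DihedralGroup 4,
        ((Multiplicative.ofAdd 1, 1) : Multiplicative (ZMod 2) × DihedralGroup 4) * y = y * (Multiplicative.ofAdd 1, 1) := by decide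
    have ha'cen : ∀ s : ↥(S : Subgroup G), a' * s = s * a' := by
      intro s
      apply e.injective
      rw [map_mul, map_mul, ha', MulEquiv.apply_symm_apply]
      exact hacen _
    have ha'2 : a' ^ 2 = 1 := by
      apply e.injective
      rw [map_pow, ha', MulEquiv.apply_symm_apply, map_one e]
      decide
    have hmem : (a' : G) ∈ Cfsg.omegaOne 2 ((S : Subgroup G) ⊓ Subgroup.centralizer ((S : Subgroup G) : Set G)) := by
      apply Subgroup.subset_closure
      refine ⟨Subgroup.mem_inf.mpr ⟨a'.2, ?_⟩, ?_⟩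
      · rw [Subgroup.mem_centralizer_iff]
        intro s hs
        have := ha'cen ⟨s, hs⟩
        exact (congrArg Subtype.val this).symm
      · have := congrArg Subtype.val ha'2
        simpa using this
    obtain ⟨b, hb, hba⟩ := h2 hmem
    have hba' : b = a' := Subtype.ext hba
    rw [hba'] at hb
    -- the maximal subgroup ⊥ × ⊤ pulled back
    set M : Subgroup ↥(S : Subgroup G) := (Subgroup.prod (⊥ : Subgroup (Multiplicative (ZMod 2))) (⊤ : Subgroup (DihedralGroup 4))).comap e.toMonoidHom with hMdef
    have hMidx : M.index = 2 := by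
      rw [hMdef, Subgroup.index_comap_of_surjective _ e.surjective]
      rw [Subgroup.index_eq_card]
      have h4 := (Subgroup.prod (⊥ : Subgroup (Multiplicative (ZMod 2))) (⊤ : Subgroup (DihedralGroup 4))).card_mul_index
      rw [Subgroup.index_eq_card] at h4
      have h5 : Nat.card ↥(Subgroup.prod (⊥ : Subgroup (Multiplicative (ZMod 2))) (⊤ : Subgroup (DihedralGroup 4))) = 8 := by
        rw [Nat.card_congr (Subgroup.prodEquiv _ _).toEquiv, Nat.card_prod, Subgroup.card_bot, Subgroup.card_top,
          DihedralGroup.nat_card]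
      have h6 : Nat.card (Multiplicative (ZMod 2) × DihedralGroup 4) = 16 := by
        rw [Nat.card_prod, DihedralGroup.nat_card, Nat.card_eq_fintype_card]
        rfl
      rw [h5, h6] at h4
      omega
    have hMco := isCoatom_of_index_two M hMidx
    have hfr := frattini_le_coatom hMco hb
    rw [hMdef, Subgroup.mem_comap, Subgroup.mem_prod] at hfr
    have h7 := hfr.1
    rw [Subgroup.mem_bot] at h7
    have h8 : (e.toMonoidHom a').1 = Multiplicative.ofAdd 1 := by
      show (e a').1 = _
      rw [ha', MulEquiv.apply_symm_apply]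
    rw [h8] at h7
    revert h7
    decide
  · -- N_G(S) acts nontrivially on Ω₁(Z(S)): impossible
    exfalso
    obtain ⟨g, hgN, z, hzΩ, hgz⟩ := h3
    have hzZ : z ∈ (S : Subgroup G) ⊓ Subgroup.centralizer ((S : Subgroup G) : Set G) := by
      have hle : Cfsg.omegaOne 2 ((S : Subgroup G) ⊓ Subgroup.centralizer ((S : Subgroup G) : Set G)) ≤
          (S : Subgroup G) ⊓ Subgroup.centralizer ((S : Subgroup G) : Set G) := by
        rw [Cfsg.omegaOne, Subgroup.closure_le]
        intro x hx
        exact hx.1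
      exact hle hzΩ
    have hzS : z ∈ (S : Subgroup G) := (Subgroup.mem_inf.mp hzZ).1
    have hzC : z ∈ Subgroup.centralizer ((S : Subgroup G) : Set G) := (Subgroup.mem_inf.mp hzZ).2
    rw [Subgroup.mem_centralizer_iff] at hzC
    -- g² centralizes z
    have hg2 : g ^ 2 * z = z * g ^ 2 := by
      set β : ↥(S : Subgroup G) ≃* ↥(S : Subgroup G) := (S : Subgroup G).normalizerMonoidHom ⟨g, hgN⟩ with hβ
      have hβapp : ∀ s : ↥(S : Subgroup G), ((β s : ↥(S : Subgroup G)) : G) = g * s * g⁻¹ := by
        intro s; rfl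
      have hzc : ∀ y : ↥(S : Subgroup G), (⟨z, hzS⟩ : ↥(S : Subgroup G)) * y = y * ⟨z, hzS⟩ := by
        intro y
        apply Subtype.ext
        exact (hzC y y.2).symm
      have h := aut_sq_center e β ⟨z, hzS⟩ hzc
      have h' := congrArg Subtype.val h
      rw [hβapp, hβapp] at h'
      simp only at h'
      calc g ^ 2 * z = (g * (g * z * g⁻¹) * g⁻¹) * g ^ 2 := by rw [pow_two]; group
        _ = z * g ^ 2 := by rw [h']
    -- the odd part
    obtain ⟨k, m, hmodd, hkm⟩ := Nat.exists_eq_two_pow_mul_odd (orderOf_pos g).ne'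
    have hgm2 : (g ^ m) ^ (2 ^ k) = 1 := by
      rw [← pow_mul, mul_comm, ← hkm, pow_orderOf_eq_one]
    have hZp : IsPGroup 2 ↥(Subgroup.zpowers (g ^ m)) := by
      rintro ⟨x, hx⟩
      refine ⟨k, ?_⟩
      obtain ⟨j, rfl⟩ := Subgroup.mem_zpowers_iff.mp hx
      apply Subtype.ext
      show ((g ^ m) ^ j) ^ (2 ^ k) = 1
      rw [← zpow_natCast, ← zpow_mul, mul_comm, zpow_mul, zpow_natCast, hgm2, one_zpow]
    have hZN : Subgroup.zpowers (g ^ m) ≤ Subgroup.normalizer ((S : Subgroup G) : Set G) := by
      rw [Subgroup.zpowers_le]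
      exact Subgroup.pow_mem _ hgN m
    have hsup : IsPGroup 2 ↥(Subgroup.zpowers (g ^ m) ⊔ (S : Subgroup G)) :=
      IsPGroup.to_sup_of_normal_right' hZp S.2 hZN
    have heq := S.is_maximal' hsup le_sup_right
    have hgmS : g ^ m ∈ (S : Subgroup G) := by
      rw [← heq]
      exact Subgroup.mem_sup_left (Subgroup.mem_zpowers _)
    have hgm : g ^ m * z = z * g ^ m := hzC _ hgmS
    -- combine
    have hC2 : g ^ 2 ∈ Subgroup.centralizer ({z} : Set G) := by
      rw [Subgroup.mem_centralizer_singleton_iff]; exact hg2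
    have hCm : g ^ m ∈ Subgroup.centralizer ({z} : Set G) := by
      rw [Subgroup.mem_centralizer_singleton_iff]; exact hgm
    obtain ⟨j, hj⟩ := hmodd
    have hgC : g ∈ Subgroup.centralizer ({z} : Set G) := by
      have h8 : g ^ m = (g ^ 2) ^ j * g := by rw [← pow_mul, hj, pow_succ]
      have h9 : g = ((g ^ 2) ^ j)⁻¹ * g ^ m := by
        rw [h8, inv_mul_cancel_left]
      rw [h9]
      exact Subgroup.mul_mem _ (Subgroup.inv_mem _ (Subgroup.pow_mem _ hC2 j)) hCm
    rw [Subgroup.mem_centralizer_singleton_iff] at hgC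
    apply hgz
    rw [hgC]; group

end Cfsg.Agent.S2911
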