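import Cfsg.Statements.S2912
import Mathlib
import Cfsg.Agent.Lib.Helper20.ESFaith

set_option autoImplicit false
open Cfsg

namespace Cfsg.Agent.S2912

/-- Let p and r be distinct primes, let E be an extraspecial subgroup of order p^(2w+1) of a finite group, and let A be an elementary abelian r-subgroup normalized by E on which E acts faithfully (C_E(A) = 1). If n ≥ 1 is least with p dividing rⁿ − 1 (the smallest dimension of a faithful representation of a group of order p over the field with r elements), then the order of A is at least r^(n·p^w). -/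
theorem result {G : Type*} [Group G] [Finite G] {p r : ℕ} [Fact p.Prime] [hr : Fact r.Prime] (hpr : p ≠ r) (E A : Subgroup G) (w : ℕ) (hE : Cfsg.IsExtraspecial p ↥E) (hEcard : Nat.card ↥E = p ^ (2 * w + 1)) (hA : Cfsg.IsElementaryAbelian r A) (hnorm : E ≤ Subgroup.normalizer (A : Set G)) (hfaith : E ⊓ Subgroup.centralizer (A : Set G) = ⊥) (n : ℕ) (hn : 1 ≤ n) (hdiv : p ∣ r ^ n - 1) (hmin : ∀ k : ℕ, 1 ≤ k → p ∣ r ^ k - 1 → n ≤ k) : r ^ (n * p ^ w) ≤ Nat.card ↥A := by
  classical
  open Cfsg.Agent.Lib.Helper20.ES Cfsg.Agent.Lib.Helper20.ESMod in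
  obtain ⟨z, hz⟩ := exists_esData hE
  haveI : IsMulCommutative A := hA.1
  letI : CommGroup A := { (inferInstance : Group A) with mul_comm := fun a b => mul_comm' a b }
  let ρ : ↥E →* MulAut ↥A := (A.normalizerMonoidHom).comp (Subgroup.inclusion hnorm)
  have hρ : ∀ (e : ↥E) (a : ↥A), ((ρ e a : ↥A) : G) = (e : G) * a * (e : G)⁻¹ := by
    intro e a
    exact Subgroup.normalizerMonoidHom_apply_apply_coe A _ a
  have hζ : (ρ z) ^ p = 1 := by rw [← map_pow, hz.z_pow, map_one]
  have hzc : ∀ g : ↥E, Commute (ρ z) (ρ g) := by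
    intro g
    have := Subgroup.mem_center_iff.mp hz.z_central g
    show ρ z * ρ g = ρ g * ρ z
    rw [← map_mul, ← map_mul, this]
  have hAp : ∀ v : ↥A, v ^ p = 1 → v = 1 := by
    intro v hv
    have hvr : v ^ r = 1 := Subtype.ext (by rw [Subgroup.coe_pow]; exact hA.2 v v.2)
    have h1 : orderOf v ∣ p := orderOf_dvd_of_pow_eq_one hv
    have h2 : orderOf v ∣ r := orderOf_dvd_of_pow_eq_one hvr
    have hcop : Nat.Coprime p r := (Nat.coprime_primes (Fact.out) hr.1).mpr hpr
    exact orderOf_eq_one_iff.mp (Nat.eq_one_of_dvd_coprimes hcop h1 h2)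
  -- the kernel of the norm
  let W : Subgroup ↥A := (nrm (ρ z) p).ker
  have hinv : ∀ e, ∀ v ∈ W, ρ e v ∈ W := by
    intro e v hv
    rw [MonoidHom.mem_ker] at hv ⊢
    rw [← nrm_comm (hzc e), hv, map_one]
  have hfpf : ∀ v : ↥W, (restr ρ W hinv) z v = v → v = 1 := by
    intro v hv
    have h1 : ρ z (v : ↥A) = v := congrArg Subtype.val hv
    have h2 : nrm (ρ z) p (v : ↥A) = 1 := v.2
    rw [nrm_of_fixed h1] at h2
    exact Subtype.ext (hAp _ h2)
  have hnt : Nontrivial ↥W := by
    have hex : ∃ a : ↥A, ρ z a ≠ a := by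
      by_contra hcon
      push Not at hcon
      have hzmem : (z : G) ∈ E ⊓ Subgroup.centralizer (A : Set G) := by
        refine Subgroup.mem_inf.mpr ⟨z.2, ?_⟩
        rw [Subgroup.mem_centralizer_iff]
        intro a ha
        have h1 := hρ z ⟨a, ha⟩
        rw [hcon ⟨a, ha⟩] at h1
        have h2 : a = (z : G) * a * (z : G)⁻¹ := h1
        calc a * (z : G) = ((z : G) * a * (z : G)⁻¹) * (z : G) := by rw [← h2]
          _ = (z : G) * a := by group
      rw [hfaith, Subgroup.mem_bot] at hzmem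
      exact hz.z_ne (Subtype.ext hzmem)
    obtain ⟨a, ha⟩ := hex
    have hu : a⁻¹ * ρ z a ∈ W := by
      rw [MonoidHom.mem_ker, map_mul, map_inv, ← nrm_comm (Commute.refl (ρ z)), nrm_fixed hζ,
        inv_mul_cancel]
    refine ⟨⟨⟨a⁻¹ * ρ z a, hu⟩, 1, ?_⟩⟩
    intro h
    have h1 : a⁻¹ * ρ z a = 1 := congrArg Subtype.val h
    exact ha (inv_mul_eq_one.mp h1).symm
  have hWp : IsPGroup r ↥W := by
    intro v
    refine ⟨1, ?_⟩
    rw [pow_one]
    apply Subtype.ext
    apply Subtype.ext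
    rw [Subgroup.coe_pow, Subgroup.coe_pow]
    exact hA.2 _ (v : ↥A).2
  have key := Cfsg.Agent.Lib.Helper20.ESFaith.main hpr n hmin hn w ↥E ↥W z hz hEcard
    (restr ρ W hinv) hWp hfpf hnt
  exact key.trans (Nat.card_le_card_of_injective W.subtype W.subtype_injective)

end Cfsg.Agent.S2912
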