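import Cfsg.Statements.S2925
import Mathlib
import Cfsg.Agent.Lib.Helper8.FStar
import Cfsg.Agent.Lib.Helper8.Layer
import Cfsg.Agent.Lib.Helper4.Basic
import Cfsg.Agent.Lib.Helper17.Basic

set_option autoImplicit false
set_option linter.style.haveILetI false
open Cfsg

namespace Cfsg.Agent.S2925

/-- the commutator of two elements of `T ∩ K` is central in `K` -/
theorem comm_central {X : Type*} [Group X] [Finite X] (K : Subgroup X) (hK : Cfsg.IsComponent K)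
    (T : Subgroup X) (Y : Subgroup X)
    (hYn : ∀ t ∈ T, ∀ y ∈ Y, t * y * t⁻¹ ∈ Y)
    (hYab : ∀ a ∈ Y, ∀ b ∈ Y, a * b = b * a)
    (hnot : ¬ Y ≤ Subgroup.normalizer (K : Set X))
    (t s : X) (htT : t ∈ T) (htK : t ∈ K) (hsT : s ∈ T) (hsK : s ∈ K) :
    ∀ k ∈ K, (t * s * t⁻¹ * s⁻¹) * k = k * (t * s * t⁻¹ * s⁻¹) := by
  -- y ∈ Y not normalizing K
  obtain ⟨y, hyY, hyN⟩ : ∃ y ∈ Y, y ∉ Subgroup.normalizer (K : Set X) := by
    by_contra h
    push Not at h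
    exact hnot h
  have hne : K ≠ K.map (MulAut.conj y).toMonoidHom := by
    intro h
    apply hyN
    apply Lib.Helper17.mem_normalizer_of_map_conj_le
    rw [← h]
  have hKy : Cfsg.IsComponent (K.map (MulAut.conj y).toMonoidHom) :=
    Lib.Helper8.isComponent_map_conj hK y
  have hcommKK := Lib.Helper8.commute_of_commutator_eq_bot
    (Lib.Helper8.components_commute hK hKy hne)
  -- conjugates by y of elements of K commute with K
  have hc : ∀ a ∈ K, ∀ k ∈ K, k * (y * a * y⁻¹) = (y * a * y⁻¹) * k := by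
    intro a ha k hk
    exact hcommKK k hk _ ⟨a, ha, by simp [MulAut.conj_apply]⟩
  -- the two commutators with y
  have hwt : t⁻¹ * y * t * y⁻¹ ∈ Y := by
    have h1 := hYn t⁻¹ (T.inv_mem htT) y hyY
    rw [inv_inv] at h1
    exact Y.mul_mem h1 (Y.inv_mem hyY)
  have hws : s⁻¹ * y * s * y⁻¹ ∈ Y := by
    have h1 := hYn s⁻¹ (T.inv_mem hsT) y hyY
    rw [inv_inv] at h1
    exact Y.mul_mem h1 (Y.inv_mem hyY)
  have hab := hYab _ hwt _ hws
  -- rewrite both sides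
  have e1 : (t⁻¹ * y * t * y⁻¹) * (s⁻¹ * y * s * y⁻¹) =
      t⁻¹ * s⁻¹ * (y * (t * s) * y⁻¹) := by
    have h1 : (y * t * y⁻¹) * s⁻¹ = s⁻¹ * (y * t * y⁻¹) := (hc t htK s⁻¹ (K.inv_mem hsK)).symm
    calc (t⁻¹ * y * t * y⁻¹) * (s⁻¹ * y * s * y⁻¹)
        = t⁻¹ * ((y * t * y⁻¹) * s⁻¹) * (y * s * y⁻¹) := by group
      _ = t⁻¹ * (s⁻¹ * (y * t * y⁻¹)) * (y * s * y⁻¹) := by rw [h1]
      _ = t⁻¹ * s⁻¹ * (y * (t * s) * y⁻¹) := by group
  have e2 : (s⁻¹ * y * s * y⁻¹) * (t⁻¹ * y * t * y⁻¹) =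
      s⁻¹ * t⁻¹ * (y * (s * t) * y⁻¹) := by
    have h1 : (y * s * y⁻¹) * t⁻¹ = t⁻¹ * (y * s * y⁻¹) := (hc s hsK t⁻¹ (K.inv_mem htK)).symm
    calc (s⁻¹ * y * s * y⁻¹) * (t⁻¹ * y * t * y⁻¹)
        = s⁻¹ * ((y * s * y⁻¹) * t⁻¹) * (y * t * y⁻¹) := by group
      _ = s⁻¹ * (t⁻¹ * (y * s * y⁻¹)) * (y * t * y⁻¹) := by rw [h1]
      _ = s⁻¹ * t⁻¹ * (y * (s * t) * y⁻¹) := by group
  rw [e1, e2] at hab
  -- so t s t⁻¹ s⁻¹ = y (s t)(t s)⁻¹ y⁻¹
  have hkey : t * s * t⁻¹ * s⁻¹ = y * ((s * t) * (t * s)⁻¹) * y⁻¹ := by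
    have h2 : t * s * t⁻¹ * s⁻¹ = (s⁻¹ * t⁻¹)⁻¹ * (t⁻¹ * s⁻¹) := by group
    rw [h2]
    have h3 : t⁻¹ * s⁻¹ = (s⁻¹ * t⁻¹ * (y * (s * t) * y⁻¹)) * (y * (t * s) * y⁻¹)⁻¹ := by
      rw [← hab]; group
    rw [h3]; group
  intro k hk
  rw [hkey]
  exact (hc _ (K.mul_mem (K.mul_mem hsK htK) (K.inv_mem (K.mul_mem htK hsK))) k hk).symm

/-- Let K be a component of the finite group X and T a Sylow 2-subgroup of X. If some abelian normal subgroup Y of T does not normalize K, then K ⧸ Z(K) has abelian Sylow 2-subgroups. -/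
theorem result {X : Type*} [Group X] [Finite X] (K : Subgroup X) (hK : Cfsg.IsComponent K) (T : Sylow 2 X) (Y : Subgroup X) (hYT : Y ≤ (T : Subgroup X)) (hYn : (Y.subgroupOf (T : Subgroup X)).Normal) (hYab : IsMulCommutative ↥Y) (hnot : ¬ Y ≤ Subgroup.normalizer (K : Set X)) (P : Sylow 2 (↥K ⧸ Subgroup.center ↥K)) : IsMulCommutative ↥(P : Subgroup (↥K ⧸ Subgroup.center ↥K)) := by
  haveI : Fact (Nat.Prime 2) := ⟨Nat.prime_two⟩
  have hYn' : ∀ t ∈ (T : Subgroup X), ∀ y ∈ Y, t * y * t⁻¹ ∈ Y := by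
    intro t ht y hy
    have := hYn.conj_mem ⟨y, hYT hy⟩ (Subgroup.mem_subgroupOf.mpr hy) ⟨t, ht⟩
    rw [Subgroup.mem_subgroupOf] at this
    simpa using this
  have hYab' : ∀ a ∈ Y, ∀ b ∈ Y, a * b = b * a := by
    intro a ha b hb
    have := (isMulCommutative_iff.mp hYab) ⟨a, ha⟩ ⟨b, hb⟩
    exact congrArg Subtype.val this
  obtain ⟨D0, hD0⟩ : ∃ D0 : Subgroup ↥K, D0 = ((T : Subgroup X) ⊓ K).subgroupOf K := ⟨_, rfl⟩
  obtain ⟨D, hD⟩ : ∃ D : Subgroup (↥K ⧸ Subgroup.center ↥K),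
      D = D0.map (QuotientGroup.mk' (Subgroup.center ↥K)) := ⟨_, rfl⟩
  have hDcomm : ∀ a ∈ D, ∀ b ∈ D, a * b = b * a := by
    intro a' ha' b' hb'
    rw [hD] at ha' hb'
    obtain ⟨a, ha, rfl⟩ := ha'
    obtain ⟨b, hb, rfl⟩ := hb'
    rw [hD0, SetLike.mem_coe, Subgroup.mem_subgroupOf] at ha hb
    rw [← map_mul, ← map_mul]
    show (QuotientGroup.mk (a * b) : ↥K ⧸ Subgroup.center ↥K) = QuotientGroup.mk (b * a)
    rw [QuotientGroup.eq, Subgroup.mem_center_iff]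
    intro k
    apply Subtype.ext
    have h1 := comm_central K hK (T : Subgroup X) Y hYn' hYab' hnot (b : X)⁻¹ (a : X)⁻¹
      (Subgroup.inv_mem _ hb.1) (Subgroup.inv_mem _ hb.2) (Subgroup.inv_mem _ ha.1)
      (Subgroup.inv_mem _ ha.2) (k : X) k.2
    simp only [Subgroup.coe_mul, Subgroup.coe_inv]
    have h2 : ((a : X) * (b : X))⁻¹ * ((b : X) * (a : X)) =
        (b : X)⁻¹ * (a : X)⁻¹ * (b : X)⁻¹⁻¹ * (a : X)⁻¹⁻¹ := by group
    rw [h2]
    exact h1.symm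
  have hD2 : IsPGroup 2 ↥D := by
    rw [hD, hD0]
    exact ((T.isPGroup'.to_le inf_le_left).comap_subtype).map _
  have hDidx : ¬ 2 ∣ D.index := by
    intro h
    have h1 : D.index ∣ D0.index := by
      rw [hD]
      exact Subgroup.index_map_dvd D0 (QuotientGroup.mk'_surjective _)
    have h2 : D0.index = (T : Subgroup X).relIndex K := by
      rw [hD0, ← Subgroup.inf_relIndex_right (T : Subgroup X) K]
      rfl
    rw [h2] at h1
    exact Lib.Helper4.not_dvd_relIndex_of_isSubnormal hK.1 T (h.trans h1)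
  obtain ⟨P₀, hP₀⟩ := hD2.exists_le_sylow
  have hP₀D : (P₀ : Subgroup (↥K ⧸ Subgroup.center ↥K)) ≤ D := by
    rw [← Subgroup.relIndex_eq_one]
    have h1 : D.relIndex (P₀ : Subgroup (↥K ⧸ Subgroup.center ↥K)) ∣ D.index := by
      rw [← Subgroup.relIndex_mul_index hP₀]
      exact Dvd.intro _ rfl
    have h2 : D.relIndex (P₀ : Subgroup (↥K ⧸ Subgroup.center ↥K)) ∣
        Nat.card ↥(P₀ : Subgroup (↥K ⧸ Subgroup.center ↥K)) := Subgroup.index_dvd_card _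
    obtain ⟨k, hk⟩ := IsPGroup.iff_card.mp P₀.isPGroup'
    rw [hk] at h2
    obtain ⟨j, -, hj⟩ := (Nat.dvd_prime_pow Nat.prime_two).mp h2
    rcases Nat.eq_zero_or_pos j with rfl | hjpos
    · rw [hj, pow_zero]
    · exfalso
      apply hDidx
      refine dvd_trans ?_ h1
      rw [hj]
      exact dvd_pow_self 2 (Nat.pos_iff_ne_zero.mp hjpos)
  have e : ↥P ≃* ↥P₀ := Sylow.equiv P P₀
  rw [isMulCommutative_iff]
  intro a b
  apply e.injective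
  rw [map_mul, map_mul]
  apply Subtype.ext
  exact hDcomm _ (hP₀D (e a).2) _ (hP₀D (e b).2)

end Cfsg.Agent.S2925
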