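import Cfsg.Statements.S2928
-- import your own Cfsg.Agent.* helpers here
import Cfsg.Agent.Lib.Helper8.FStar
import Cfsg.Agent.Lib.Helper20.Syl2OverL

set_option autoImplicit false
open Cfsg

namespace Cfsg.Agent.S2928

/-- Let n ≥ 8 and let H be a subgroup of the symmetric group of degree n whose generalized Fitting subgroup F*(H) is quasisimple. If H contains a Sylow 2-subgroup of the alternating group of degree n, then F*(H) is isomorphic to an alternating group of degree m for some m ∈ {n − 3, n − 2, n − 1, n}. -/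
theorem result (n : ℕ) (hn : 8 ≤ n) (H : Subgroup (Equiv.Perm (Fin n))) (hF : Cfsg.IsQuasisimple ↥(Cfsg.generalizedFittingSubgroup ↥H)) (hS : ∃ P : Sylow 2 ↥(alternatingGroup (Fin n)), ((P : Subgroup ↥(alternatingGroup (Fin n))).map (alternatingGroup (Fin n)).subtype) ≤ H) : ∃ m : ℕ, (m = n - 3 ∨ m = n - 2 ∨ m = n - 1 ∨ m = n) ∧ Nonempty (↥(Cfsg.generalizedFittingSubgroup ↥H) ≃* ↥(alternatingGroup (Fin m))) := by
  obtain ⟨P, hP⟩ := hS
  set Fs := Cfsg.generalizedFittingSubgroup ↥H with hFs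
  let L : Subgroup (Equiv.Perm (Fin n)) := Fs.map H.subtype
  have e : ↥Fs ≃* ↥L := Fs.equivMapOfInjective H.subtype H.subtype_injective
  have hq : Cfsg.IsQuasisimple ↥L := Cfsg.Agent.Lib.Helper8.isQuasisimple_of_mulEquiv e hF
  have hLH : L ≤ H := Subgroup.map_subtype_le Fs
  have hFn : Fs.Normal := Cfsg.Agent.Lib.Helper8.generalizedFittingSubgroup_normal ↥H
  have hnorm : ∀ h ∈ H, ∀ l ∈ L, h * l * h⁻¹ ∈ L := by
    rintro h hh l ⟨x, hx, rfl⟩
    exact ⟨⟨h, hh⟩ * x * ⟨h, hh⟩⁻¹, hFn.conj_mem x hx ⟨h, hh⟩, rfl⟩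
  have hcent : ∀ g ∈ H, (∀ l ∈ L, g * l = l * g) → g ∈ L := by
    intro g hg hc
    have h1 : (⟨g, hg⟩ : H) ∈ Subgroup.centralizer (Fs : Set H) := by
      rw [Subgroup.mem_centralizer_iff]
      intro x hx
      apply Subtype.ext
      exact (hc x ⟨x, hx, rfl⟩).symm
    exact ⟨⟨g, hg⟩, Cfsg.Agent.Lib.Helper8.centralizer_fstar_le h1, rfl⟩
  obtain ⟨m, hm, ⟨f⟩⟩ := Cfsg.Agent.Lib.Helper20.Syl2Over.main hn H L P hP
    ⟨hLH, hnorm, hcent, hq⟩
  exact ⟨m, hm, ⟨e.trans f⟩⟩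

end Cfsg.Agent.S2928
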