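import Cfsg.Statements.S2929
-- import your own Cfsg.Agent.* helpers here
import Cfsg.Agent.Lib.Helper8.FStar
import Cfsg.Agent.Lib.Helper14.Syl3OverB

set_option autoImplicit false
open Cfsg

namespace Cfsg.Agent.S2929

/-- Let n ≥ 5 and let H be a subgroup of the symmetric group of degree n whose generalized Fitting subgroup F*(H) is quasisimple. If H contains a Sylow 3-subgroup of the symmetric group, then F*(H) is isomorphic to an alternating group of degree m for some m ∈ {n − 2, n − 1, n}. -/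
theorem result (n : ℕ) (hn : 5 ≤ n) (H : Subgroup (Equiv.Perm (Fin n))) (hF : Cfsg.IsQuasisimple ↥(Cfsg.generalizedFittingSubgroup ↥H)) (hS : ∃ P : Sylow 3 (Equiv.Perm (Fin n)), (P : Subgroup (Equiv.Perm (Fin n))) ≤ H) : ∃ m : ℕ, (m = n - 2 ∨ m = n - 1 ∨ m = n) ∧ Nonempty (↥(Cfsg.generalizedFittingSubgroup ↥H) ≃* ↥(alternatingGroup (Fin m))) := by
  obtain ⟨P, hP⟩ := hS
  set Fs := Cfsg.generalizedFittingSubgroup ↥H with hFs
  let L : Subgroup (Equiv.Perm (Fin n)) := Fs.map H.subtype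
  have e : ↥Fs ≃* ↥L := Fs.equivMapOfInjective H.subtype H.subtype_injective
  have hq : Cfsg.IsQuasisimple ↥L := Cfsg.Agent.Lib.Helper8.isQuasisimple_of_mulEquiv e hF
  have hLH : L ≤ H := Subgroup.map_subtype_le Fs
  haveI hFn : Fs.Normal := Cfsg.Agent.Lib.Helper8.generalizedFittingSubgroup_normal ↥H
  have hnorm : ∀ h ∈ H, ∀ l ∈ L, h * l * h⁻¹ ∈ L := by
    rintro h hh l ⟨x, hx, rfl⟩
    exact ⟨⟨h, hh⟩ * x * ⟨h, hh⟩⁻¹, hFn.conj_mem x hx ⟨h, hh⟩, rfl⟩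
  have hcent : ∀ g ∈ H, (∀ l ∈ L, g * l = l * g) → g ∈ L := by
    intro g hg hc
    have h1 : (⟨g, hg⟩ : H) ∈ Subgroup.centralizer (Fs : Set H) := by
      rw [Subgroup.mem_centralizer_iff]
      intro x hx
      apply Subtype.ext
      exact (hc x ⟨x, hx, rfl⟩).symm
    exact ⟨⟨g, hg⟩, Cfsg.Agent.Lib.Helper8.centralizer_fstar_le h1, rfl⟩
  obtain ⟨m, hm, ⟨f⟩⟩ := Cfsg.Agent.Lib.Helper14.Syl3Over.main (by omega) H L P hP hLH hnorm hcent hq
  exact ⟨m, hm, ⟨e.trans f⟩⟩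

end Cfsg.Agent.S2929
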