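import Cfsg.Statements.S2930
import Cfsg.Agent.Lib.Helper20.Syl3AltH
import Cfsg.Agent.Lib.Helper8.FStar

set_option autoImplicit false
open Cfsg

namespace Cfsg.Agent.S2930

/-- Let X be a finite 3-minimal group (a Sylow 3-subgroup is not normal and lies in a unique maximal subgroup) whose generalized Fitting subgroup is isomorphic to an alternating group of degree n ≥ 5. Then X = F*(X), and n = 6, n = 9, or n = 3ᵃ + 1 for some a ≥ 2. -/
theorem result {X : Type*} [Group X] [Finite X] (hX : Cfsg.IsPMinimal 3 X) (n : ℕ) (hn : 5 ≤ n) (hF : Nonempty (↥(Cfsg.generalizedFittingSubgroup X) ≃* ↥(alternatingGroup (Fin n)))) : Cfsg.generalizedFittingSubgroup X = ⊤ ∧ (n = 6 ∨ n = 9 ∨ ∃ a : ℕ, 2 ≤ a ∧ n = 3 ^ a + 1) := by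
  obtain ⟨e⟩ := hF
  have := Cfsg.Agent.Lib.Helper8.generalizedFittingSubgroup_normal X
  have h5 : 5 ≤ Fintype.card (Fin n) := by simpa using hn
  obtain S : Sylow 3 X := default
  have htop : Cfsg.generalizedFittingSubgroup X = ⊤ :=
    Cfsg.Agent.Lib.Helper20.Syl3Alt.eq_top_of_unique_coatom _
      Cfsg.Agent.Lib.Helper8.centralizer_fstar_le e h5 S (hX S).1 (hX S).2
  refine ⟨htop, ?_⟩
  let e0 : X ≃* Cfsg.generalizedFittingSubgroup X :=
    Subgroup.topEquiv.symm.trans (MulEquiv.subgroupCongr htop.symm)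
  let ι : X →* Equiv.Perm (Fin n) :=
    (alternatingGroup (Fin n)).subtype.comp (e.toMonoidHom.comp e0.toMonoidHom)
  have hinj : Function.Injective ι :=
    Subtype.val_injective.comp (e.injective.comp e0.injective)
  have hrange : ι.range = alternatingGroup (Fin n) := by
    ext σ
    constructor
    · rintro ⟨x, rfl⟩
      exact (e (e0 x)).2
    · intro hσ
      refine ⟨e0.symm (e.symm ⟨σ, hσ⟩), ?_⟩
      show ((e (e0 (e0.symm (e.symm ⟨σ, hσ⟩))) : alternatingGroup (Fin n)) : Equiv.Perm (Fin n)) = σ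
      rw [MulEquiv.apply_symm_apply, MulEquiv.apply_symm_apply]
  have := Cfsg.Agent.Lib.Helper20.Syl3Alt.card_of_unique_coatom ι hinj hrange h5
    (S : Subgroup X) S.isPGroup' (hX S).2
  simpa using this

end Cfsg.Agent.S2930
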