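import Cfsg.Statements.S2934
import Cfsg.Agent.Lib.Helper12.OddTwoF

set_option autoImplicit false
open Cfsg
open Cfsg.Agent.Lib.Helper12

namespace Cfsg.Agent.S2934

/-- Let p be an odd prime, W a finite 2-group and E a non-cyclic abelian p-subgroup of Aut(W) such that, for every nontrivial e ∈ E, the fixed points of e in W contain at most one involution. Then E has order 9, W is extraspecial of order 2⁵, 2⁷ or 2⁹, and the common fixed points of E in W form exactly the centre Z(W). -/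
theorem result {W : Type*} [Group W] [Finite W] (hW : IsPGroup 2 W) {p : ℕ} [Fact p.Prime] (hp : p ≠ 2) (E : Subgroup (MulAut W)) (hE : IsPGroup p ↥E) (hab : IsMulCommutative ↥E) (hnc : ¬ IsCyclic ↥E) (hfix : ∀ e ∈ E, e ≠ 1 → ∀ x y : W, orderOf x = 2 → orderOf y = 2 → e x = x → e y = y → x = y) : Nat.card ↥E = 9 ∧ Cfsg.IsExtraspecial 2 W ∧ (Nat.card W = 2 ^ 5 ∨ Nat.card W = 2 ^ 7 ∨ Nat.card W = 2 ^ 9) ∧ {x : W | ∀ e ∈ E, e x = x} = (Subgroup.center W : Set W) := by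
  classical
  have hab' : ∀ a ∈ E, ∀ b ∈ E, a * b = b * a := by
    intro a ha b hb
    have := mul_comm' (⟨a, ha⟩ : ↥E) ⟨b, hb⟩
    exact congrArg Subtype.val this
  have hpodd : Odd p := (Fact.out : p.Prime).odd_of_ne_two hp
  have hodd : ∀ e ∈ E, Odd (orderOf e) := by
    intro e he
    obtain ⟨k, hk⟩ := (IsPGroup.iff_orderOf.mp hE) ⟨e, he⟩
    rw [← Subgroup.orderOf_coe] at hk
    rw [show orderOf e = p ^ k from hk]
    exact Odd.pow hpodd
  have hcop : ∀ X : Subgroup W, (Nat.card ↥E).Coprime (Nat.card ↥X) := by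
    intro X
    obtain ⟨a, ha⟩ := IsPGroup.iff_card.mp hE
    obtain ⟨b, hb⟩ := IsPGroup.iff_card.mp (hW.to_subgroup X)
    rw [ha, hb]
    apply Nat.Coprime.pow
    exact (Nat.coprime_primes (Fact.out : p.Prime) Nat.prime_two).mpr hp
  have huniq : ∀ e ∈ E, e ≠ 1 → ∀ x ∈ OddTwo.fixOf e, ∀ y ∈ OddTwo.fixOf e,
      orderOf x = 2 → orderOf y = 2 → x = y :=
    fun e he he1 x hx y hy hx2 hy2 => hfix e he he1 x y hx2 hy2 hx hy
  -- some fixed point group is not fixed by `E`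
  have hex : ∃ e₀ ∈ E, e₀ ≠ 1 ∧ ¬ OddTwo.fixOf e₀ ≤ OddTwo.fixAll E := by
    by_contra hno
    push Not at hno
    have htop : (⊤ : Subgroup W) ≤ OddTwo.fixAll E :=
      OddTwo.le_of_forall_inf_fixOf_le E hab' hnc ⊤ _ OddTwo.inv_top (hcop ⊤)
        (fun e he he1 => le_trans inf_le_right (hno e he he1))
    apply hnc
    haveI : Subsingleton ↥E := by
      refine ⟨fun a b => ?_⟩
      apply Subtype.ext
      apply MulEquiv.ext
      intro x
      rw [htop (Subgroup.mem_top x) a a.2, htop (Subgroup.mem_top x) b b.2]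
    exact isCyclic_of_subsingleton
  obtain ⟨e₀, he₀, he₀1, hnt⟩ := hex
  have hinv₀ : OddTwo.Inv E (OddTwo.fixOf e₀) := OddTwo.inv_fixOf hab' he₀
  rcases OddTwo.le_fixAll_or_isQ8 hW E hodd _ hinv₀ (huniq e₀ he₀ he₀1) with h | ⟨z, hq⟩
  · exact absurd h hnt
  have hp3 : p = 3 := hq.p_eq_three hp E hE hinv₀ hnt
  subst hp3
  have hfixall : ∀ x, x ∈ OddTwo.fixAll E ↔ x = 1 ∨ x = z := by
    intro x
    constructor
    · intro hx
      by_contra hne
      push Not at hne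
      exact hnt (hq.le_fixAll_of_fixed hp E hE hinv₀ x (OddTwo.Ctx.fixAll_le_fixOf he₀ hx)
        hne.1 hne.2 hx)
    · rintro (rfl | rfl)
      · exact one_mem _
      · exact hq.z_fixed hinv₀
  have c : OddTwo.Ctx E z := ⟨hW, hE, hab', hnc, huniq, hq.orderOf_z, hfixall⟩
  have h₀ : OddTwo.Good E z (OddTwo.fixOf e₀) := ⟨hq, hinv₀, hnt, e₀, he₀, he₀1, rfl⟩
  have hE9 := c.card_E h₀
  obtain ⟨S, hS, hS4⟩ := c.exists_finset hE9
  have hS2 : 2 ≤ S.card := by
    by_contra hlt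
    push Not at hlt
    apply c.false_of_unique h₀
    intro Q hQ
    exact Finset.card_le_one.mp (by omega) Q ((hS Q).mpr hQ) _ ((hS _).mpr h₀)
  have hcardW : Nat.card W = 2 * 4 ^ S.card := by
    have h1 := c.card_sup S (fun Q hQ => (hS Q).mp hQ)
    rw [c.top_eq S (fun Q hQ => (hS Q).mpr hQ), Subgroup.card_top] at h1
    exact h1
  have hcen := c.center_eq
  refine ⟨hE9, ⟨⟨hW, ?_, ?_⟩, ?_⟩, ?_, ?_⟩
  · rw [hcen, c.frattini_eq h₀]
  · rw [hcen, c.commutator_eq h₀]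
  · rw [hcen, Nat.card_zpowers, c.hz2]
  · rw [hcardW]
    have : S.card = 2 ∨ S.card = 3 ∨ S.card = 4 := by omega
    rcases this with h | h | h <;> rw [h] <;> norm_num
  · show ((OddTwo.fixAll E : Subgroup W) : Set W) = _
    rw [c.fixAll_eq, hcen]

end Cfsg.Agent.S2934
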