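import Cfsg.Statements.S2939
import Cfsg.Agent.Lib.Helper17.FusionChain

set_option autoImplicit false
open Cfsg

namespace Cfsg.Agent.S2939

/-- Let p be a prime dividing the order of the finite group G and 𝓕 a family of subgroups of G closed under conjugation, with conjugates taken as X^g = g⁻¹Xg. Then 𝓕 controls Sylow p-intersections in G (any two distinct Sylow p-subgroups S and T with S ∩ T ≠ 1 are joined by a chain S = S₀, S₁, …, Sₙ = T of Sylow p-subgroups where, for each i, some member Xᵢ of 𝓕 meets both S_{i-1} and Sᵢ in Sylow p-subgroups of Xᵢ, satisfies S ∩ T ≤ Sᵢ ∩ Xᵢ, and contains an element xᵢ with Sᵢ^{xᵢ} = S_{i-1}) if and only if 𝓕 strongly controls p-fusion in G (whenever A is a subset of a Sylow p-subgroup S, A contains an element other than 1, and A^g ⊆ S, the element g factorises as g = y₁⋯yₙy with y ∈ N_G(S) and each yᵢ in a member Yᵢ of 𝓕 that meets S in a Sylow p-subgroup of Yᵢ, with A^{y₁⋯yᵢ} ⊆ S ∩ Yᵢ for each i). -/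
theorem result {G : Type*} [Group G] [Finite G] {p : ℕ} [Fact p.Prime] (hdiv : p ∣ Nat.card G) (𝓕 : Set (Subgroup G)) (h𝓕 : Cfsg.IsNormalSet 𝓕) : Cfsg.ControlsSylowIntersections p 𝓕 ↔ Cfsg.FamilyStronglyControlsFusion p 𝓕 := by
  constructor
  · -- chains ⇒ factorisation
    intro hC S A g hAS hne hAg
    obtain ⟨a, haA, ha1⟩ := hne
    have hAg' : ∀ a' ∈ A, g⁻¹ * a' * g ∈ (S : Subgroup G) := by
      intro a' ha'
      exact hAg ⟨a', ha', rfl⟩
    by_cases hT : g • S = S
    · refine ⟨0, fun i => i.elim0, fun i => i.elim0, g, ?_, fun i => i.elim0, ?_, fun i => i.elim0⟩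
      · exact Sylow.smul_eq_iff_mem_normalizer.1 hT
      · simp
    · have hDne : (S : Subgroup G) ⊓ ((g • S : Sylow p G) : Subgroup G) ≠ ⊥ := by
        intro hb
        have : a ∈ (S : Subgroup G) ⊓ ((g • S : Sylow p G) : Subgroup G) := by
          refine Subgroup.mem_inf.2 ⟨hAS haA, ?_⟩
          rw [Lib.Helper17.mem_sylow_smul_iff]
          exact hAg' a haA
        rw [hb, Subgroup.mem_bot] at this
        exact ha1 this
      have hlink : Lib.Helper17.Link p 𝓕 ((S : Subgroup G) ⊓ ((g • S : Sylow p G) : Subgroup G))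
          S (g • S) :=
        Lib.Helper17.link_of_chain inf_le_left (hC S (g • S) (Ne.symm hT) hDne)
      obtain ⟨n, Y, y, hY, hgu, hD⟩ := Lib.Helper17.exists_factorization_of_link h𝓕 hlink
      refine ⟨n, Y, y, (List.ofFn y).prod⁻¹ * g, ?_, hY, ?_, ?_⟩
      · apply Sylow.smul_eq_iff_mem_normalizer.1
        rw [← smul_smul, hgu, inv_smul_smul]
      · group
      · intro i
        rintro _ ⟨a', ha', rfl⟩
        have hmem : a' ∈ (S : Subgroup G) ⊓ ((g • S : Sylow p G) : Subgroup G) := by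
          refine Subgroup.mem_inf.2 ⟨hAS ha', ?_⟩
          rw [Lib.Helper17.mem_sylow_smul_iff]
          exact hAg' a' ha'
        have := hD i a' hmem
        exact ⟨(Subgroup.mem_inf.1 this).1, (Subgroup.mem_inf.1 this).2⟩
  · -- factorisation ⇒ chains
    intro hF
    apply Lib.Helper17.controls_of_link
    intro S T hST hI
    obtain ⟨g, hg⟩ := MulAction.exists_smul_eq G S T
    obtain ⟨a, haD, ha1⟩ : ∃ a : G, a ∈ (S : Subgroup G) ⊓ (T : Subgroup G) ∧ a ≠ 1 := by
      obtain ⟨a, h⟩ := (Subgroup.ne_bot_iff_exists_ne_one).1 hI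
      exact ⟨(a : G), a.2, fun h1 => h (Subtype.ext h1)⟩
    have hAS : (((S : Subgroup G) ⊓ (T : Subgroup G) : Subgroup G) : Set G) ⊆ (S : Set G) :=
      fun d hd => (Subgroup.mem_inf.1 hd).1
    have hAg : Cfsg.conjRight g (((S : Subgroup G) ⊓ (T : Subgroup G) : Subgroup G) : Set G) ⊆
        (S : Set G) := by
      rintro _ ⟨d, hd, rfl⟩
      have h2 : d ∈ (T : Subgroup G) := (Subgroup.mem_inf.1 hd).2
      rw [← hg, Lib.Helper17.mem_sylow_smul_iff] at h2
      exact h2
    obtain ⟨n, Y, y, y₀, hy₀, hY, hgy, htake⟩ := hF S _ g hAS ⟨a, haD, ha1⟩ hAg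
    have hD : ∀ i : Fin n, ∀ d ∈ (S : Subgroup G) ⊓ (T : Subgroup G),
        (((List.ofFn y).take (i.val + 1)).prod)⁻¹ * d * ((List.ofFn y).take (i.val + 1)).prod ∈
          (S : Subgroup G) ⊓ Y i := by
      intro i d hd
      have := htake i ⟨d, hd, rfl⟩
      exact Subgroup.mem_inf.2 ⟨this.1, this.2⟩
    obtain ⟨hlink, -⟩ := Lib.Helper17.link_of_factorization h𝓕 S inf_le_left n Y y hY hD
    have hT : (List.ofFn y).prod • S = T := by
      rw [← hg, hgy, ← smul_smul, Sylow.smul_eq_iff_mem_normalizer.2 hy₀]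
    rw [hT] at hlink
    exact hlink

end Cfsg.Agent.S2939
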