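import Cfsg.Statements.S2947
import Cfsg.Agent.Lib.Helper27.Basic
import Cfsg.Agent.Lib.Helper27.Thompson

set_option autoImplicit false
open Cfsg

namespace Cfsg.Agent.S2947

open Cfsg.Agent.Lib.Helper27

section aux
variable {G : Type*} [Group G] [Finite G]

/-- Normalizers grow in `p`-groups (element form). -/
theorem exists_mem_normalizer_not_mem {p : ℕ} [Fact p.Prime] {R T : Subgroup G}
    (hR : IsPGroup p R) (hTR : T ≤ R) (hne : T ≠ R) :
    ∃ x ∈ R, x ∈ Subgroup.normalizer (T : Set G) ∧ x ∉ T := by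
  haveI : Group.IsNilpotent R := hR.isNilpotent
  have hlt : T.subgroupOf R < ⊤ := by
    rw [lt_top_iff_ne_top]
    intro h
    apply hne
    apply le_antisymm hTR
    intro x hx
    have : (⟨x, hx⟩ : R) ∈ T.subgroupOf R := by rw [h]; trivial
    exact this
  have hnc := Group.normalizerCondition_of_isNilpotent (G := R) _ hlt
  obtain ⟨x, hxN, hxP⟩ := SetLike.exists_of_lt hnc
  refine ⟨x, x.2, ?_, fun h => hxP h⟩
  rw [Subgroup.mem_normalizer_iff] at hxN ⊢
  intro y
  constructor
  · intro hy
    exact (hxN ⟨y, hTR hy⟩).mp hy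
  · intro hy
    have hyS : y ∈ R := by
      have h1 : y = (x : G)⁻¹ * ((x : G) * y * (x : G)⁻¹) * (x : G) := by group
      rw [h1]
      exact R.mul_mem (R.mul_mem (R.inv_mem x.2) (hTR hy)) x.2
    exact (hxN ⟨y, hyS⟩).mpr hy

theorem mem_normalizer_of_conj_mem {T : Subgroup G} {a : G} (h : ∀ t ∈ T, a * t * a⁻¹ ∈ T) :
    a ∈ Subgroup.normalizer (T : Set G) := by
  let f : T → T := fun t => ⟨a * t * a⁻¹, h t t.2⟩
  have hinj : Function.Injective f := by
    intro s t hst
    have h1 : a * (s : G) * a⁻¹ = a * (t : G) * a⁻¹ := congrArg Subtype.val hst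
    apply Subtype.ext
    have h2 : (s : G) = a⁻¹ * (a * (s : G) * a⁻¹) * a := by group
    rw [h2, h1]; group
  have hsurj : Function.Surjective f := Finite.injective_iff_surjective.mp hinj
  rw [Subgroup.mem_normalizer_iff]
  intro y
  constructor
  · intro hy; exact h y hy
  · intro hy
    obtain ⟨t, ht⟩ := hsurj ⟨_, hy⟩
    have h1 : a * (t : G) * a⁻¹ = a * y * a⁻¹ := congrArg Subtype.val ht
    have h2 : y = a⁻¹ * (a * y * a⁻¹) * a := by group
    rw [h2, ← h1]
    have h3 : a⁻¹ * (a * (t : G) * a⁻¹) * a = t := by group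
    rw [h3]; exact t.2

theorem eq_bot_of_isPGroup_two_of_le_odd {T K : Subgroup G} (hT : IsPGroup 2 T) (hTK : T ≤ K)
    (hK : Odd (Nat.card K)) : T = ⊥ := by
  rw [Subgroup.eq_bot_iff_forall]
  intro x hx
  obtain ⟨k, hk⟩ := hT ⟨x, hx⟩
  have h1 : x ^ 2 ^ k = 1 := by
    have := congrArg Subtype.val hk
    simpa using this
  exact eq_one_of_mem_odd_of_pow_two K hK (hTK hx) h1

/-- In a strongly embedded subgroup `M`, normalizers of nontrivial 2-subgroups lie in `M`. -/
theorem normalizer_le_of_stronglyEmbedded {M : Subgroup G} (hSE : Cfsg.IsStronglyEmbedded M)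
    {T : Subgroup G} (hT : IsPGroup 2 T) (hT1 : T ≠ ⊥) (hTM : T ≤ M) :
    Subgroup.normalizer (T : Set G) ≤ M := by
  intro x hx
  by_contra hxM
  have hodd := hSE.2.2 x hxM
  apply hT1
  refine eq_bot_of_isPGroup_two_of_le_odd hT (le_inf hTM ?_) hodd
  intro t ht
  rw [Subgroup.mem_map]
  refine ⟨x⁻¹ * t * x, hTM ?_, ?_⟩
  · have h1 := (Subgroup.mem_normalizer_iff.mp hx (x⁻¹ * t * x))
    apply h1.mpr
    have h2 : x * (x⁻¹ * t * x) * x⁻¹ = t := by group
    rw [h2]; exact ht
  · simp only [MulEquiv.coe_toMonoidHom, MulAut.conj_apply]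
    group

/-- If normalizers of nontrivial 2-subgroups of `M` lie in `M`, then every 2-group meeting `M`
in a nontrivial subgroup... more precisely: every 2-subgroup `R` containing a nontrivial
2-subgroup `T ≤ M` lies in `M`. -/
theorem le_of_normalizer_le {M : Subgroup G}
    (hN : ∀ T : Subgroup G, IsPGroup 2 T → T ≠ ⊥ → T ≤ M → Subgroup.normalizer (T : Set G) ≤ M)
    {T R : Subgroup G} (hR : IsPGroup 2 R) (hT1 : T ≠ ⊥) (hTM : T ≤ M) (hTR : T ≤ R) : R ≤ M := by
  haveI : Fact (Nat.Prime 2) := ⟨Nat.prime_two⟩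
  by_contra hRM
  have hT' : IsPGroup 2 ↥(R ⊓ M) := hR.to_le inf_le_left
  have hT'1 : R ⊓ M ≠ ⊥ := by
    intro h
    apply hT1
    rw [eq_bot_iff, ← h]
    exact le_inf hTR hTM
  have hne : R ⊓ M ≠ R := by
    intro h
    apply hRM
    rw [← h]; exact inf_le_right
  obtain ⟨x, hxR, hxN, hxT⟩ := exists_mem_normalizer_not_mem hR inf_le_left hne
  apply hxT
  exact Subgroup.mem_inf.mpr ⟨hxR, hN _ hT' hT'1 inf_le_right hxN⟩

end aux

/-- Let G be a finite group of characteristic 2 type in which every 2-local subgroup is solvable and the centralizer of Ω₁(Z(S)) lies in N_G(S) for every Sylow 2-subgroup S; suppose O₂(G) = 1, fix a Sylow 2-subgroup S and a 2-local subgroup M containing N_G(J(S)) (J the Thompson subgroup generated by the elementary abelian 2-subgroups of largest order). Then M is strongly embedded in G (a proper subgroup of even order whose intersection with each conjugate by an element outside M has odd order) if and only if no nontrivial 2-subgroup of M lies in a 2-local subgroup of G not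 contained in M. -/
theorem result {G : Type*} [Group G] [Finite G] (hL : Cfsg.IsCharacteristicTwoType G) (hN : ∀ N : Subgroup G, Cfsg.IsTwoLocal N → Group.IsSolvable ↥N)
    (hZ : ∀ S : Sylow 2 G, Subgroup.centralizer (Cfsg.omegaCenterOf (S : Subgroup G) : Set G) ≤ Subgroup.normalizer ((S : Subgroup G) : Set G)) (hO : Cfsg.pCore 2 G = ⊥) (S : Sylow 2 G) (M : Subgroup G) (hM : Cfsg.IsTwoLocal M)
    (hMJ : Subgroup.normalizer (Cfsg.thompsonSubgroupOf 2 (S : Subgroup G) : Set G) ≤ M) :
    Cfsg.IsStronglyEmbedded M ↔ Cfsg.straddlingTwoSubgroups M = ∅ := by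
  haveI : Fact (Nat.Prime 2) := ⟨Nat.prime_two⟩
  constructor
  · -- strongly embedded ⇒ no straddling subgroups
    intro hSE
    rw [Set.eq_empty_iff_forall_notMem]
    rintro T ⟨hT, hT1, hTM, L, ⟨Q, hQ, hQ1, rfl⟩, hTL, hLM⟩
    apply hLM
    have hNle := fun (T : Subgroup G) (hT : IsPGroup 2 T) (hT1 : T ≠ ⊥) (hTM : T ≤ M) =>
      normalizer_le_of_stronglyEmbedded hSE hT hT1 hTM
    have hTQ : IsPGroup 2 ↥(T ⊔ Q) := IsPGroup.to_sup_of_normal_right' hT hQ hTL
    have hTQM : T ⊔ Q ≤ M := le_of_normalizer_le hNle hTQ hT1 hTM le_sup_left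
    exact hNle Q hQ hQ1 (le_sup_right.trans hTQM)
  · -- no straddling subgroups ⇒ strongly embedded
    intro hE
    have hNle : ∀ T : Subgroup G, IsPGroup 2 T → T ≠ ⊥ → T ≤ M →
        Subgroup.normalizer (T : Set G) ≤ M := by
      intro T hT hT1 hTM
      by_contra hnot
      have hmem : T ∈ Cfsg.straddlingTwoSubgroups M :=
        ⟨hT, hT1, hTM, _, ⟨T, hT, hT1, rfl⟩, Subgroup.le_normalizer, hnot⟩
      rw [hE] at hmem
      exact hmem
    obtain ⟨Q, hQ, hQ1, hMQ⟩ := hM
    have hQM : Q ≤ M := by rw [hMQ]; exact Subgroup.le_normalizer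
    refine ⟨?_, ?_, ?_⟩
    · intro htop
      apply hQ1
      have hQn : Q.Normal := by
        rw [← Subgroup.normalizer_eq_top_iff, ← hMQ, htop]
      have := le_pCore hQn hQ
      rw [hO] at this
      exact eq_bot_iff.mpr this
    · have h2 : 2 ∣ Nat.card Q := by
        rcases hQ.card_eq_or_dvd with h | h
        · exact absurd (Subgroup.card_eq_one.mp h) hQ1
        · exact h
      exact even_iff_two_dvd.mpr (h2.trans (Subgroup.card_dvd_of_le hQM))
    · intro g hgM
      by_contra hodd
      rw [Nat.not_odd_iff_even, even_iff_two_dvd] at hodd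
      set D : Subgroup G := M ⊓ M.map (MulAut.conj g).toMonoidHom with hD
      -- a Sylow 2-subgroup of D
      obtain ⟨P₀⟩ : Nonempty (Sylow 2 ↥D) := inferInstance
      set T : Subgroup G := (P₀ : Subgroup ↥D).map D.subtype with hTdef
      have hT : IsPGroup 2 T := P₀.2.map _
      have hTD : T ≤ D := by
        rw [hTdef]
        intro x hx
        obtain ⟨y, _, rfl⟩ := Subgroup.mem_map.mp hx
        exact y.2
      have hT1 : T ≠ ⊥ := by
        intro h
        have h1 : (P₀ : Subgroup ↥D) = ⊥ := by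
          rw [hTdef] at h
          exact (Subgroup.map_eq_bot_iff_of_injective _ D.subtype_injective).mp h
        exact P₀.ne_bot_of_dvd_card hodd h1
      have hTM : T ≤ M := hTD.trans inf_le_left
      have hTMg : T ≤ M.map (MulAut.conj g).toMonoidHom := hTD.trans inf_le_right
      -- maximality of T among 2-subgroups of D
      have hmax : ∀ X : Subgroup G, IsPGroup 2 X → T ≤ X → X ≤ D → X = T := by
        intro X hX hTX hXD
        have h1 : IsPGroup 2 ↥(X.subgroupOf D) := hX.comap_subtype
        have h2 : (P₀ : Subgroup ↥D) ≤ X.subgroupOf D := by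
          intro y hy
          rw [Subgroup.mem_subgroupOf]
          apply hTX
          rw [hTdef]
          exact Subgroup.mem_map_of_mem _ hy
        have h3 := P₀.is_maximal' h1 h2
        apply le_antisymm _ hTX
        intro x hx
        rw [hTdef, Subgroup.mem_map]
        refine ⟨⟨x, hXD hx⟩, ?_, rfl⟩
        rw [← h3, Subgroup.mem_subgroupOf]
        exact hx
      -- the conjugate g⁻¹ T g lies in M
      set T' : Subgroup G := T.map (MulAut.conj g⁻¹).toMonoidHom with hT'def
      have hT' : IsPGroup 2 T' := hT.map _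
      have hT'M : T' ≤ M := by
        intro y hy
        obtain ⟨t, ht, rfl⟩ := Subgroup.mem_map.mp hy
        obtain ⟨m, hm, hmt⟩ := Subgroup.mem_map.mp (hTMg ht)
        have h1 : (MulAut.conj g⁻¹).toMonoidHom t = m := by
          rw [← hmt]
          simp only [MulEquiv.coe_toMonoidHom, MulAut.conj_apply]
          group
        rw [h1]; exact hm
      have hT'1 : T' ≠ ⊥ := by
        intro h
        apply hT1
        rw [hT'def] at h
        exact (Subgroup.map_eq_bot_iff_of_injective _ (MulAut.conj g⁻¹).injective).mp h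
      have hNT : Subgroup.normalizer (T : Set G) ≤ M := hNle T hT hT1 hTM
      have hNT' : Subgroup.normalizer (T' : Set G) ≤ M := hNle T' hT' hT'1 hT'M
      have hNTg : Subgroup.normalizer (T : Set G) ≤ M.map (MulAut.conj g).toMonoidHom := by
        intro x hx
        rw [Subgroup.mem_map]
        refine ⟨g⁻¹ * x * g, hNT' ?_, ?_⟩
        · apply mem_normalizer_of_conj_mem
          intro y hy
          obtain ⟨t, ht, rfl⟩ := Subgroup.mem_map.mp hy
          rw [hT'def, Subgroup.mem_map]
          refine ⟨x * t * x⁻¹, (Subgroup.mem_normalizer_iff.mp hx t).mp ht, ?_⟩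
          simp only [MulEquiv.coe_toMonoidHom, MulAut.conj_apply]
          group
        · simp only [MulEquiv.coe_toMonoidHom, MulAut.conj_apply]
          group
      have hND : Subgroup.normalizer (T : Set G) ≤ D := le_inf hNT hNTg
      -- T is a Sylow 2-subgroup of G
      obtain ⟨P, hTP⟩ := hT.exists_le_sylow
      have hTeq : T = (P : Subgroup G) := by
        by_contra hne
        obtain ⟨x, hxP, hxN, hxT⟩ := exists_mem_normalizer_not_mem P.2 hTP hne
        apply hxT
        have h1 := hmax ((P : Subgroup G) ⊓ Subgroup.normalizer (T : Set G)) (P.2.to_le inf_le_left)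
          (le_inf hTP Subgroup.le_normalizer) (inf_le_right.trans hND)
        rw [← h1]
        exact Subgroup.mem_inf.mpr ⟨hxP, hxN⟩
      -- conjugate T and T' inside M
      have hPM : (P : Subgroup G) ≤ M := hTeq ▸ hTM
      have hP'M : ((g⁻¹ • P : Sylow 2 G) : Subgroup G) ≤ M := by
        rw [sylow_smul_eq_map, ← hTeq]
        exact hT'M
      obtain ⟨m, hm⟩ := MulAction.exists_smul_eq ↥M (P.subtype hPM) ((g⁻¹ • P).subtype hP'M)
      have hgm : g * (m : G) ∈ Subgroup.normalizer (T : Set G) := by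
        apply mem_normalizer_of_conj_mem
        intro t ht
        have h1 : (⟨t, hTM ht⟩ : ↥M) ∈ ((P.subtype hPM : Sylow 2 ↥M) : Subgroup ↥M) := by
          rw [Sylow.coe_subtype, Subgroup.mem_subgroupOf, ← hTeq]
          exact ht
        have h2 : (MulAut.conj m).toMonoidHom ⟨t, hTM ht⟩ ∈
            (((g⁻¹ • P).subtype hP'M : Sylow 2 ↥M) : Subgroup ↥M) := by
          rw [← hm, sylow_smul_eq_map]
          exact Subgroup.mem_map_of_mem _ h1
        rw [Sylow.coe_subtype, Subgroup.mem_subgroupOf, sylow_smul_eq_map, ← hTeq] at h2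
        obtain ⟨t₂, ht₂, h3⟩ := Subgroup.mem_map.mp h2
        have h4 : g⁻¹ * t₂ * g = (m : G) * t * (m : G)⁻¹ := by
          simpa using h3
        have h5 : g * (m : G) * t * (g * (m : G))⁻¹ = t₂ := by
          have : g * (m : G) * t * (g * (m : G))⁻¹ = g * ((m : G) * t * (m : G)⁻¹) * g⁻¹ := by group
          rw [this, ← h4]; group
        rw [h5]; exact ht₂
      apply hgM
      have h6 : g * (m : G) ∈ M := hNT hgm
      have h7 : g = g * (m : G) * (m : G)⁻¹ := by group
      rw [h7]
      exact M.mul_mem h6 (M.inv_mem m.2)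

end Cfsg.Agent.S2947
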