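import Cfsg.Statements.S2955
import Cfsg.Agent.Lib.Helper17.SylowControl

set_option autoImplicit false
open Cfsg

namespace Cfsg.Agent.S2955

/-- Let p be a prime dividing the order of the finite group G and 𝓕 a conjugation-closed family of subgroups that controls Sylow p-intersections in G. Suppose the Sylow p-subgroups of G are chain-connected: any two of them are joined by a chain of Sylow p-subgroups, consecutive ones distinct with nontrivial intersection, all containing the intersection of the two ends (equivalently, the graph on the Sylow p-subgroups whose edges are the distinct pairs meeting nontrivially is connected). Then for every Sylow p-subgroup S, G is generated by N_G(S) together with the members of 𝓕 that meet S in a Sylow p-subgroup of themselves. -/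
theorem result {G : Type*} [Group G] [Finite G] (p : ℕ) [Fact p.Prime] (hdiv : p ∣ Nat.card G)
    (𝓕 : Set (Subgroup G)) (h𝓕 : Cfsg.IsNormalSet 𝓕) (hc : Cfsg.ControlsSylowIntersections p 𝓕)
    (hconn : Cfsg.IsSylowChainConnected p G) (S : Sylow p G) :
    (⨆ X ∈ Cfsg.sylowMembers p 𝓕 (S : Subgroup G), X) ⊔ Subgroup.normalizer ((S : Subgroup G) : Set G) = ⊤ := by
  classical
  have hXL : ∀ X ∈ Cfsg.sylowMembers p 𝓕 (S : Subgroup G),
      X ≤ (⨆ X ∈ Cfsg.sylowMembers p 𝓕 (S : Subgroup G), X) ⊔
        Subgroup.normalizer ((S : Subgroup G) : Set G) :=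
    fun X hX => le_sup_of_le_left (le_iSup₂_of_le X hX le_rfl)
  have key : ∀ T : Sylow p G, ∃ l ∈ (⨆ X ∈ Cfsg.sylowMembers p 𝓕 (S : Subgroup G), X) ⊔
        Subgroup.normalizer ((S : Subgroup G) : Set G), l • S = T := by
    intro T
    have hconn' := Lib.Helper17.sylConn_of_isSylowChainConnected hconn S T
    unfold Lib.Helper17.SylConn at hconn'
    induction hconn' with
    | refl => exact ⟨1, Subgroup.one_mem _, one_smul _ _⟩
    | tail _ hbc ih =>
      obtain ⟨l, hl, rfl⟩ := ih
      obtain ⟨n, ch, X, x, h0, hlast, hstep⟩ := hc _ _ hbc.1 hbc.2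
      have hall : ∀ i : Fin (n + 1), ∃ l' ∈ (⨆ X ∈ Cfsg.sylowMembers p 𝓕 (S : Subgroup G), X) ⊔
          Subgroup.normalizer ((S : Subgroup G) : Set G), l' • S = ch i := by
        intro i
        induction i using Fin.induction with
        | zero => exact ⟨l, hl, h0.symm⟩
        | succ j ih2 =>
          obtain ⟨l', hl', hl'S⟩ := ih2
          obtain ⟨hX1, -, hxX, hconj, -⟩ := hstep j
          rw [← hl'S] at hX1
          have hmem := Lib.Helper17.sylowMembers_conj h𝓕 hX1
          have hxL : l'⁻¹ * x j * l' ∈ (⨆ X ∈ Cfsg.sylowMembers p 𝓕 (S : Subgroup G), X) ⊔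
              Subgroup.normalizer ((S : Subgroup G) : Set G) := by
            apply hXL _ hmem
            rw [Lib.Helper17.mem_subgroupConjRight_iff]
            have : l' * (l'⁻¹ * x j * l') * l'⁻¹ = x j := by group
            rw [this]; exact hxX
          have hxL' : x j ∈ (⨆ X ∈ Cfsg.sylowMembers p 𝓕 (S : Subgroup G), X) ⊔
              Subgroup.normalizer ((S : Subgroup G) : Set G) := by
            have : x j = l' * (l'⁻¹ * x j * l') * l'⁻¹ := by group
            rw [this]
            exact Subgroup.mul_mem _ (Subgroup.mul_mem _ hl' hxL) (Subgroup.inv_mem _ hl')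
          refine ⟨x j * l', Subgroup.mul_mem _ hxL' hl', ?_⟩
          rw [mul_smul, hl'S]
          apply Sylow.ext
          ext z
          rw [Lib.Helper17.mem_sylow_smul_iff, ← hconj, Lib.Helper17.mem_subgroupConjRight_iff]
          have : x j * ((x j)⁻¹ * z * x j) * (x j)⁻¹ = z := by group
          rw [this]
      obtain ⟨l', hl', h⟩ := hall (Fin.last n)
      exact ⟨l', hl', h.trans hlast⟩
  rw [eq_top_iff]
  intro g _
  obtain ⟨l, hl, hlS⟩ := key (g • S)
  have h1 : (l⁻¹ * g) • S = S := by rw [mul_smul, ← hlS, inv_smul_smul]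
  have hN : l⁻¹ * g ∈ Subgroup.normalizer ((S : Subgroup G) : Set G) :=
    Sylow.smul_eq_iff_mem_normalizer.mp h1
  have : g = l * (l⁻¹ * g) := by group
  rw [this]
  exact Subgroup.mul_mem _ hl ((le_sup_right : Subgroup.normalizer ((S : Subgroup G) : Set G) ≤ _) hN)

end Cfsg.Agent.S2955
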