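import Cfsg.Statements.S2958
-- import your own Cfsg.Agent.* helpers here

set_option autoImplicit false
open Cfsg

namespace Cfsg.Agent.S2958

/-- Let X, A, B be subgroups of a group G such that G is generated by the conjugates of X and every conjugate of X is contained in A or in B. Then A = G or B = G. -/
theorem result {G : Type*} [Group G] (X A B : Subgroup G) (hgen : (⨆ g : G, X.map (MulAut.conj g).toMonoidHom) = ⊤) (hcover : ∀ g : G, X.map (MulAut.conj g).toMonoidHom ≤ A ∨ X.map (MulAut.conj g).toMonoidHom ≤ B) : A = ⊤ ∨ B = ⊤ := by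
  classical
  by_contra hcon
  push Not at hcon
  obtain ⟨hA, hB⟩ := hcon
  -- conjugation of conjugates
  have hmul : ∀ a g : G, (X.map (MulAut.conj g).toMonoidHom).map (MulAut.conj a).toMonoidHom
      = X.map (MulAut.conj (a * g)).toMonoidHom := by
    intro a g
    rw [Subgroup.map_map]
    congr 1
    ext x
    simp [mul_assoc]
  -- some conjugate is not inside A
  have hex : ∃ g₀ : G, ¬ X.map (MulAut.conj g₀).toMonoidHom ≤ A := by
    by_contra h
    push Not at h
    apply hA
    rw [eq_top_iff, ← hgen]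
    exact iSup_le h
  obtain ⟨g₀, hg₀⟩ := hex
  -- N = join of the conjugates not inside A
  set N : Subgroup G := ⨆ g : {g : G // ¬ X.map (MulAut.conj g).toMonoidHom ≤ A},
    X.map (MulAut.conj (g : G)).toMonoidHom with hN
  have hNB : N ≤ B := by
    apply iSup_le
    rintro ⟨g, hg⟩
    rcases hcover g with h | h
    · exact absurd h hg
    · exact h
  have hleN : ∀ g : G, ¬ X.map (MulAut.conj g).toMonoidHom ≤ A →
      X.map (MulAut.conj g).toMonoidHom ≤ N := by
    intro g hg
    exact le_iSup (fun g : {g : G // ¬ X.map (MulAut.conj g).toMonoidHom ≤ A} =>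
      X.map (MulAut.conj (g : G)).toMonoidHom) ⟨g, hg⟩
  -- A normalizes N (in the sense that conjugation by a ∈ A maps N into N)
  have hAN : ∀ a ∈ A, N.map (MulAut.conj a).toMonoidHom ≤ N := by
    intro a ha
    rw [hN, Subgroup.map_iSup]
    apply iSup_le
    rintro ⟨g, hg⟩
    rw [hmul]
    apply hleN
    intro h
    apply hg
    -- X^g = a⁻¹ X^{ag} a ≤ A
    have h2 : (X.map (MulAut.conj (a * g)).toMonoidHom).map (MulAut.conj a⁻¹).toMonoidHom ≤ A := by
      rintro _ ⟨y, hy, rfl⟩
      have hyA : y ∈ A := h hy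
      simp only [MulEquiv.coe_toMonoidHom, MulAut.conj_apply, inv_inv]
      exact A.mul_mem (A.mul_mem (A.inv_mem ha) hyA) ha
    rw [hmul] at h2
    simpa using h2
  -- the set of elements conjugating N into N, as a subgroup
  let M : Subgroup G :=
    { carrier := {a | N.map (MulAut.conj a).toMonoidHom ≤ N ∧ N.map (MulAut.conj a⁻¹).toMonoidHom ≤ N}
      one_mem' := by
        constructor <;> (rintro _ ⟨y, hy, rfl⟩; simpa using hy)
      mul_mem' := by
        rintro a b ⟨ha1, ha2⟩ ⟨hb1, hb2⟩
        constructor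
        · have : N.map (MulAut.conj (a * b)).toMonoidHom
              = (N.map (MulAut.conj b).toMonoidHom).map (MulAut.conj a).toMonoidHom := by
            rw [Subgroup.map_map]; congr 1
            ext x; simp [mul_assoc]
          rw [this]
          exact (Subgroup.map_mono hb1).trans ha1
        · have : N.map (MulAut.conj (a * b)⁻¹).toMonoidHom
              = (N.map (MulAut.conj a⁻¹).toMonoidHom).map (MulAut.conj b⁻¹).toMonoidHom := by
            rw [Subgroup.map_map]; congr 1
            ext x; simp [mul_assoc]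
          rw [this]
          exact (Subgroup.map_mono ha2).trans hb2
      inv_mem' := by
        rintro a ⟨ha1, ha2⟩
        exact ⟨ha2, by simpa using ha1⟩ }
  have hmemM : ∀ a, a ∈ M ↔ (N.map (MulAut.conj a).toMonoidHom ≤ N ∧ N.map (MulAut.conj a⁻¹).toMonoidHom ≤ N) :=
    fun a => Iff.rfl
  have hAM : A ≤ M := by
    intro a ha
    exact ⟨hAN a ha, hAN a⁻¹ (A.inv_mem ha)⟩
  have hNM : N ≤ M := by
    intro n hn
    constructor
    · rintro _ ⟨y, hy, rfl⟩
      simp only [MulEquiv.coe_toMonoidHom, MulAut.conj_apply]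
      exact N.mul_mem (N.mul_mem hn hy) (N.inv_mem hn)
    · rintro _ ⟨y, hy, rfl⟩
      simp only [MulEquiv.coe_toMonoidHom, MulAut.conj_apply, inv_inv]
      exact N.mul_mem (N.mul_mem (N.inv_mem hn) hy) hn
  have hMtop : M = ⊤ := by
    rw [eq_top_iff, ← hgen]
    apply iSup_le
    intro g
    by_cases hg : X.map (MulAut.conj g).toMonoidHom ≤ A
    · exact hg.trans hAM
    · exact (hleN g hg).trans hNM
  -- every conjugate of X lies in N
  have hall : ∀ g : G, X.map (MulAut.conj g).toMonoidHom ≤ N := by
    intro g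
    have hmem : g * g₀⁻¹ ∈ M := by rw [hMtop]; trivial
    have h1 := (hmemM _).1 hmem
    have h2 : (X.map (MulAut.conj g₀).toMonoidHom).map (MulAut.conj (g * g₀⁻¹)).toMonoidHom ≤ N :=
      (Subgroup.map_mono (hleN g₀ hg₀)).trans h1.1
    rw [hmul] at h2
    simpa using h2
  apply hB
  rw [eq_top_iff]
  calc (⊤ : Subgroup G) = ⨆ g : G, X.map (MulAut.conj g).toMonoidHom := hgen.symm
    _ ≤ N := iSup_le hall
    _ ≤ B := hNB

end Cfsg.Agent.S2958
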