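import Cfsg.Statements.S2959
import Cfsg.Agent.Lib.Helper17.CharP

set_option autoImplicit false
open Cfsg

namespace Cfsg.Agent.S2959

open Cfsg.Agent.Lib.Helper17
open scoped commutatorElement

/-- Let G be a finite group of characteristic p, that is C_G(O_p(G)) ≤ O_p(G), with p prime, and let L be a subgroup of G normalized by O_p(G). Then L has characteristic p: C_L(O_p(L)) ≤ O_p(L). -/
theorem result {G : Type*} [Group G] [Finite G] {p : ℕ} [Fact p.Prime] (hG : Subgroup.centralizer (Cfsg.pCore p G : Set G) ≤ Cfsg.pCore p G) (L : Subgroup G) (hL : Cfsg.pCore p G ≤ Subgroup.normalizer (L : Set G)) : Subgroup.centralizer (Cfsg.pCore p ↥L : Set ↥L) ≤ Cfsg.pCore p ↥L := by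
  have hRn : (Cfsg.pCore p G).Normal := pCore_normal p G
  have hRp := pCore_isPGroup p G
  have hOLn : (Cfsg.pCore p ↥L).Normal := pCore_normal p ↥L
  -- R ∩ L ≤ O_p(L)
  have hRL : (Cfsg.pCore p G).subgroupOf L ≤ Cfsg.pCore p ↥L :=
    le_pCore _ inferInstance (hRp.comap_of_injective L.subtype (Subgroup.subtype_injective L))
  have hXn : (Subgroup.centralizer (Cfsg.pCore p ↥L : Set ↥L)).Normal := inferInstance
  apply le_pCore _ hXn
  apply isPGroup_of_pprime_trivial
  intro a ha hcop
  -- view a in G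
  have hcop' : (orderOf (a : G)).Coprime p := by rw [Subgroup.orderOf_coe]; exact hcop
  have h1 : (a : G) = 1 := by
    apply eq_one_of_stabilizes_pCore hG (a : G) hcop' (Cfsg.pCore p G ⊓ L) inf_le_left
    · intro k hk
      have hk' : (⟨k, hk.2⟩ : ↥L) ∈ Cfsg.pCore p ↥L := hRL (by rw [Subgroup.mem_subgroupOf]; exact hk.1)
      have := (Subgroup.mem_centralizer_iff.1 ha) _ hk'
      exact (congrArg Subtype.val this).symm
    · intro h hh
      constructor
      · have h2 : (a : G) * h⁻¹ * (a : G)⁻¹ ∈ Cfsg.pCore p G :=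
          hRn.conj_mem _ (Subgroup.inv_mem _ hh) _
        have h3 : ⁅h, (a : G)⁆ = h * ((a : G) * h⁻¹ * (a : G)⁻¹) := by
          rw [commutatorElement_def]; group
        rw [h3]; exact Subgroup.mul_mem _ hh h2
      · have h2 : h * (a : G) * h⁻¹ ∈ L := conj_mem_of_mem_normalizer (hL hh) a.2
        rw [commutatorElement_def]
        exact L.mul_mem h2 (L.inv_mem a.2)
  exact Subtype.ext h1

end Cfsg.Agent.S2959
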