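import Cfsg.Statements.S2960
import Cfsg.Agent.Lib.Helper17.CharP

set_option autoImplicit false
open Cfsg

namespace Cfsg.Agent.S2960

open Cfsg.Agent.Lib.Helper17
open scoped commutatorElement

/-- Let G be a finite group of characteristic p (C_G(O_p(G)) ≤ O_p(G)), p prime, T a Sylow p-subgroup of G and Q a normal subgroup of T with C_T(Q) ≤ Q. Then C_G(Q) ≤ Q. -/
theorem result {G : Type*} [Group G] [Finite G] {p : ℕ} [Fact p.Prime] (hG : Subgroup.centralizer (Cfsg.pCore p G : Set G) ≤ Cfsg.pCore p G) (T : Sylow p G) (Q : Subgroup G) (hQT : Q ≤ (T : Subgroup G)) (hQn : (T : Subgroup G) ≤ Subgroup.normalizer (Q : Set G)) (hC : (T : Subgroup G) ⊓ Subgroup.centralizer (Q : Set G) ≤ Q) : Subgroup.centralizer (Q : Set G) ≤ Q := by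
  have hRn : (Cfsg.pCore p G).Normal := pCore_normal p G
  have hRp := pCore_isPGroup p G
  -- O_p(G) ≤ T
  have hRT : Cfsg.pCore p G ≤ (T : Subgroup G) := by
    have h1 : IsPGroup p ↥((T : Subgroup G) ⊔ Cfsg.pCore p G) :=
      T.isPGroup'.to_sup_of_normal_right' hRp (by
        intro x _
        exact Subgroup.normalizer_eq_top (Cfsg.pCore p G) ▸ Subgroup.mem_top x)
    have h2 := T.is_maximal' h1 le_sup_left
    rw [← h2]; exact le_sup_right
  set C := Subgroup.centralizer (Q : Set G) with hCdef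
  -- N_G(Q) normalizes C
  have hNC : ∀ n ∈ Subgroup.normalizer (Q : Set G), ∀ c ∈ C, n * c * n⁻¹ ∈ C := by
    intro n hn c hc
    rw [hCdef, Subgroup.mem_centralizer_iff]
    intro q hq
    have hq' : n⁻¹ * q * n ∈ Q := conj_inv_mem_of_mem_normalizer hn hq
    have h1 := (Subgroup.mem_centralizer_iff.1 hc) _ hq'
    calc q * (n * c * n⁻¹) = n * ((n⁻¹ * q * n) * c) * n⁻¹ := by group
      _ = n * (c * (n⁻¹ * q * n)) * n⁻¹ := by rw [h1]
      _ = n * c * n⁻¹ * q := by group
  -- every p'-element of C is trivial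
  have hCp : IsPGroup p C := by
    apply isPGroup_of_pprime_trivial
    intro a ha hcop
    apply eq_one_of_stabilizes_pCore hG a hcop (Cfsg.pCore p G ⊓ C) inf_le_left
    · intro k hk
      have hkQ : k ∈ Q := hC ⟨hRT hk.1, hk.2⟩
      exact ((Subgroup.mem_centralizer_iff.1 ha) k hkQ).symm
    · intro h hh
      constructor
      · have h2 : a * h⁻¹ * a⁻¹ ∈ Cfsg.pCore p G := hRn.conj_mem _ (Subgroup.inv_mem _ hh) _
        have h3 : ⁅h, a⁆ = h * (a * h⁻¹ * a⁻¹) := by
          rw [commutatorElement_def]; group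
        rw [h3]; exact Subgroup.mul_mem _ hh h2
      · have h2 : h * a * h⁻¹ ∈ C := hNC h (hQn (hRT hh)) a ha
        rw [commutatorElement_def]
        exact C.mul_mem h2 (C.inv_mem ha)
  -- so T C is a p-group and C ≤ T
  have hTC : IsPGroup p ↥((T : Subgroup G) ⊔ C) := by
    apply T.isPGroup'.to_sup_of_normal_right' hCp
    intro t ht
    apply mem_normalizer_of_forall_conj_mem
    intro c hc
    exact hNC t (hQn ht) c hc
  have h2 := T.is_maximal' hTC le_sup_left
  intro c hc
  have hcT : c ∈ (T : Subgroup G) := by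
    rw [← h2]; exact (le_sup_right : C ≤ (T : Subgroup G) ⊔ C) hc
  exact hC ⟨hcT, hc⟩

end Cfsg.Agent.S2960
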