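import Cfsg.Statements.S2961
import Cfsg.Agent.S0028
import Cfsg.Agent.Lib.Helper17.Basic
import Cfsg.Agent.Lib.Helper17.CharP

set_option autoImplicit false
open Cfsg
open scoped commutatorElement

namespace Cfsg.Agent.S2961

/-- Let G be a finite group of characteristic p (C_G(O_p(G)) ≤ O_p(G)), p prime, T a Sylow p-subgroup of G and Q a normal subgroup of T with C_T(Q) ≤ Q. Then every subgroup L of G containing Q has characteristic p: C_L(O_p(L)) ≤ O_p(L). -/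
theorem result {G : Type*} [Group G] [Finite G] {p : ℕ} [Fact p.Prime] (hG : Subgroup.centralizer (Cfsg.pCore p G : Set G) ≤ Cfsg.pCore p G) (T : Sylow p G) (Q : Subgroup G) (hQT : Q ≤ (T : Subgroup G)) (hQn : (T : Subgroup G) ≤ Subgroup.normalizer (Q : Set G)) (hC : (T : Subgroup G) ⊓ Subgroup.centralizer (Q : Set G) ≤ Q) (L : Subgroup G) (hQL : Q ≤ L) : Subgroup.centralizer (Cfsg.pCore p ↥L : Set ↥L) ≤ Cfsg.pCore p ↥L := by
  classical
  have hp : p.Prime := Fact.out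
  have hRn : (Cfsg.pCore p G).Normal := Lib.Helper17.pCore_normal p G
  have hRp : IsPGroup p ↥(Cfsg.pCore p G) := Lib.Helper17.pCore_isPGroup p G
  have hRT : Cfsg.pCore p G ≤ (T : Subgroup G) := hRp.le_sylow_of_normal T
  have hQp : IsPGroup p Q := T.isPGroup'.to_le hQT
  -- Step 1: p'-elements centralizing Q are trivial
  have step1 : ∀ x : G, (orderOf x).Coprime p → (∀ q ∈ Q, x * q = q * x) → x = 1 := by
    intro x hx hxQ
    have hzQ : Subgroup.zpowers x ≤ Subgroup.centralizer (Q : Set G) := by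
      rw [Subgroup.zpowers_le, Subgroup.mem_centralizer_iff]
      intro q hq
      exact (hxQ q hq).symm
    have hQz : Q ≤ Subgroup.centralizer ((Subgroup.zpowers x : Subgroup G) : Set G) :=
      Subgroup.le_centralizer_iff.mp hzQ
    have h1 := Cfsg.Agent.S0028.result p Q (Subgroup.zpowers x) (Cfsg.pCore p G) hQp
      (by rw [Nat.card_zpowers]; exact hx) hRp hQz Subgroup.le_normalizer_of_normal
      Subgroup.le_normalizer_of_normal
      (by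
        intro u hu
        exact hQz (hC ⟨hRT hu.1, hu.2⟩))
    have hxR : x ∈ Cfsg.pCore p G :=
      hG (h1 (Subgroup.mem_zpowers x))
    obtain ⟨k, hk⟩ := (IsPGroup.iff_orderOf.mp hRp) ⟨x, hxR⟩
    rw [Subgroup.orderOf_mk] at hk
    rw [hk] at hx
    have hk0 : k = 0 := by
      by_contra hk0
      have : p ∣ Nat.gcd (p ^ k) p := Nat.dvd_gcd (dvd_pow_self p hk0) dvd_rfl
      rw [Nat.Coprime] at hx
      rw [hx] at this
      exact hp.one_lt.ne' (Nat.dvd_one.mp this)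
    rw [hk0, pow_zero] at hk
    exact orderOf_eq_one_iff.mp hk
  -- D = R ∩ L lies in O_p(L)
  have hDP : ∀ d : G, d ∈ Cfsg.pCore p G → ∀ hd : d ∈ L, (⟨d, hd⟩ : ↥L) ∈ Cfsg.pCore p ↥L := by
    intro d hdR hdL
    have hle : (Cfsg.pCore p G).subgroupOf L ≤ Cfsg.pCore p ↥L :=
      Lib.Helper17.le_pCore _ inferInstance hRp.comap_subtype
    exact hle (by rw [Subgroup.mem_subgroupOf]; exact hdR)
  have hPn : (Cfsg.pCore p ↥L).Normal := Lib.Helper17.pCore_normal p ↥L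
  have hPp : IsPGroup p ↥(Cfsg.pCore p ↥L) := Lib.Helper17.pCore_isPGroup p ↥L
  have hCn : (Subgroup.centralizer (Cfsg.pCore p ↥L : Set ↥L)).Normal := inferInstance
  -- the subgroup K₁ of L of elements acting trivially on R / (R ∩ L)
  have hDconj : ∀ g : G, g ∈ L → ∀ d : G, d ∈ Cfsg.pCore p G ⊓ L → g * d * g⁻¹ ∈ Cfsg.pCore p G ⊓ L :=
    fun g hg d hd => ⟨hRn.conj_mem d hd.1 g, L.mul_mem (L.mul_mem hg hd.2) (L.inv_mem hg)⟩
  let K₁ : Subgroup ↥L :=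
    { carrier := {g : ↥L | ∀ r ∈ Cfsg.pCore p G, ⁅r, (g : G)⁆ ∈ Cfsg.pCore p G ⊓ L}
      one_mem' := by
        intro r _
        simp only [Subgroup.coe_one, commutatorElement_def]
        have : r * 1 * r⁻¹ * (1 : G)⁻¹ = 1 := by group
        rw [this]; exact Subgroup.one_mem _
      mul_mem' := by
        intro a b ha hb r hr
        have e : ⁅r, ((a * b : ↥L) : G)⁆ = ⁅r, (a : G)⁆ * ((a : G) * ⁅r, (b : G)⁆ * (a : G)⁻¹) := by
          simp only [Subgroup.coe_mul, commutatorElement_def]; group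
        rw [e]
        exact Subgroup.mul_mem _ (ha r hr) (hDconj _ a.2 _ (hb r hr))
      inv_mem' := by
        intro a ha r hr
        have e : ⁅r, ((a⁻¹ : ↥L) : G)⁆ = (a : G)⁻¹ * (⁅r, (a : G)⁆)⁻¹ * ((a : G)⁻¹)⁻¹ := by
          simp only [Subgroup.coe_inv, commutatorElement_def]; group
        rw [e]
        exact hDconj _ (L.inv_mem a.2) _ (Subgroup.inv_mem _ (ha r hr)) }
  have hK₁mem : ∀ g : ↥L, g ∈ K₁ ↔ ∀ r ∈ Cfsg.pCore p G, ⁅r, (g : G)⁆ ∈ Cfsg.pCore p G ⊓ L :=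
    fun g => Iff.rfl
  have hK₁n : K₁.Normal := by
    constructor
    intro g hg h
    rw [hK₁mem] at hg ⊢
    intro r hr
    have e : ⁅r, ((h * g * h⁻¹ : ↥L) : G)⁆ =
        (h : G) * ⁅(h : G)⁻¹ * r * ((h : G)⁻¹)⁻¹, (g : G)⁆ * (h : G)⁻¹ := by
      simp only [Subgroup.coe_mul, Subgroup.coe_inv, commutatorElement_def]; group
    rw [e]
    exact hDconj _ h.2 _ (hg _ (hRn.conj_mem r hr _))
  -- Q lies in K₁
  have hQK₁ : ∀ q : G, ∀ hq : q ∈ Q, (⟨q, hQL hq⟩ : ↥L) ∈ K₁ := by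
    intro q hq
    rw [hK₁mem]
    intro r hr
    rw [commutatorElement_def]
    constructor
    · have : r * q * r⁻¹ * q⁻¹ = r * (q * r⁻¹ * q⁻¹) := by group
      rw [this]
      exact Subgroup.mul_mem _ hr (hRn.conj_mem _ (Subgroup.inv_mem _ hr) q)
    · have h1 : r * q * r⁻¹ ∈ Q := Lib.Helper17.conj_mem_of_mem_normalizer (hQn (hRT hr)) hq
      exact L.mul_mem (hQL h1) (L.inv_mem (hQL hq))
  -- K₂ = K₁ ⊓ C is a normal p-subgroup of L
  have hK₂n : (K₁ ⊓ Subgroup.centralizer (Cfsg.pCore p ↥L : Set ↥L)).Normal := inferInstance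
  have hK₂p : IsPGroup p ↥(K₁ ⊓ Subgroup.centralizer (Cfsg.pCore p ↥L : Set ↥L)) := by
    apply Lib.Helper17.isPGroup_of_pprime_trivial
    intro g hg hcop
    have hcop' : (orderOf (g : G)).Coprime p := by rw [Subgroup.orderOf_coe]; exact hcop
    have h1 : (g : G) = 1 := by
      apply Lib.Helper17.eq_one_of_stabilizes_pCore hG (g : G) hcop' (Cfsg.pCore p G ⊓ L) inf_le_left
      · intro k hk
        have hkP := hDP k hk.1 hk.2
        have := (Subgroup.mem_centralizer_iff.mp hg.2) ⟨k, hk.2⟩ hkP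
        have h2 := congrArg Subtype.val this
        simpa using h2.symm
      · exact (hK₁mem g).mp hg.1
    exact Subtype.ext h1
  have hK₂P : K₁ ⊓ Subgroup.centralizer (Cfsg.pCore p ↥L : Set ↥L) ≤ Cfsg.pCore p ↥L :=
    Lib.Helper17.le_pCore _ hK₂n hK₂p
  -- the centralizer of O_p(L) is a p-group
  have hCp : IsPGroup p ↥(Subgroup.centralizer (Cfsg.pCore p ↥L : Set ↥L)) := by
    apply Lib.Helper17.isPGroup_of_pprime_trivial
    intro c hc hcop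
    have hcop' : (orderOf (c : G)).Coprime p := by rw [Subgroup.orderOf_coe]; exact hcop
    have h1 : (c : G) = 1 := by
      apply step1 _ hcop'
      intro q hq
      -- z = c q c⁻¹ q⁻¹
      have hq' := hQK₁ q hq
      have hzK₁ : c * ⟨q, hQL hq⟩ * c⁻¹ * (⟨q, hQL hq⟩ : ↥L)⁻¹ ∈ K₁ :=
        K₁.mul_mem (hK₁n.conj_mem _ hq' c) (K₁.inv_mem hq')
      have hzC : c * ⟨q, hQL hq⟩ * c⁻¹ * (⟨q, hQL hq⟩ : ↥L)⁻¹ ∈
          Subgroup.centralizer (Cfsg.pCore p ↥L : Set ↥L) := by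
        have : c * ⟨q, hQL hq⟩ * c⁻¹ * (⟨q, hQL hq⟩ : ↥L)⁻¹ =
            c * (⟨q, hQL hq⟩ * c⁻¹ * (⟨q, hQL hq⟩ : ↥L)⁻¹) := by group
        rw [this]
        exact Subgroup.mul_mem _ hc (hCn.conj_mem _ (Subgroup.inv_mem _ hc) _)
      have hzP := hK₂P ⟨hzK₁, hzC⟩
      have hcomm : c * (c * ⟨q, hQL hq⟩ * c⁻¹ * (⟨q, hQL hq⟩ : ↥L)⁻¹) =
          (c * ⟨q, hQL hq⟩ * c⁻¹ * (⟨q, hQL hq⟩ : ↥L)⁻¹) * c :=
        ((Subgroup.mem_centralizer_iff.mp hc) _ hzP).symm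
      -- q c q⁻¹ = z⁻¹ c
      have hconj : (⟨q, hQL hq⟩ : ↥L) * c * (⟨q, hQL hq⟩ : ↥L)⁻¹ =
          (c * ⟨q, hQL hq⟩ * c⁻¹ * (⟨q, hQL hq⟩ : ↥L)⁻¹)⁻¹ * c := by group
      have hord : orderOf ((⟨q, hQL hq⟩ : ↥L) * c * (⟨q, hQL hq⟩ : ↥L)⁻¹) = orderOf c := by
        have : (⟨q, hQL hq⟩ : ↥L) * c * (⟨q, hQL hq⟩ : ↥L)⁻¹ = MulAut.conj (⟨q, hQL hq⟩ : ↥L) c := by
          simp [MulAut.conj_apply]
        rw [this, MulEquiv.orderOf_eq]
      have hpow : ((c * ⟨q, hQL hq⟩ * c⁻¹ * (⟨q, hQL hq⟩ : ↥L)⁻¹)⁻¹ * c) ^ orderOf c = 1 := by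
        rw [← hconj, ← hord]; exact pow_orderOf_eq_one _
      have hcomm' : Commute ((c * ⟨q, hQL hq⟩ * c⁻¹ * (⟨q, hQL hq⟩ : ↥L)⁻¹)⁻¹) c :=
        (Commute.inv_left (show Commute (c * ⟨q, hQL hq⟩ * c⁻¹ * (⟨q, hQL hq⟩ : ↥L)⁻¹) c from
          hcomm.symm))
      rw [hcomm'.mul_pow, pow_orderOf_eq_one, mul_one, inv_pow, inv_eq_one] at hpow
      -- z has p-power order dividing orderOf c
      have hzdvd := orderOf_dvd_of_pow_eq_one hpow
      obtain ⟨k, hk⟩ := (IsPGroup.iff_orderOf.mp hPp) ⟨_, hzP⟩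
      rw [Subgroup.orderOf_mk] at hk
      have hz1 : orderOf (c * ⟨q, hQL hq⟩ * c⁻¹ * (⟨q, hQL hq⟩ : ↥L)⁻¹) = 1 := by
        have h3 : (orderOf (c * ⟨q, hQL hq⟩ * c⁻¹ * (⟨q, hQL hq⟩ : ↥L)⁻¹)).Coprime p :=
          Nat.Coprime.coprime_dvd_left hzdvd hcop
        rw [hk] at h3 ⊢
        by_contra hne
        have hk0 : k ≠ 0 := by
          intro h0; apply hne; rw [h0, pow_zero]
        have : p ∣ Nat.gcd (p ^ k) p := Nat.dvd_gcd (dvd_pow_self p hk0) dvd_rfl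
        rw [Nat.Coprime] at h3
        rw [h3] at this
        exact hp.one_lt.ne' (Nat.dvd_one.mp this)
      have hz : c * ⟨q, hQL hq⟩ * c⁻¹ * (⟨q, hQL hq⟩ : ↥L)⁻¹ = 1 := orderOf_eq_one_iff.mp hz1
      have hcq : c * ⟨q, hQL hq⟩ = ⟨q, hQL hq⟩ * c := by
        have : c * ⟨q, hQL hq⟩ = (c * ⟨q, hQL hq⟩ * c⁻¹ * (⟨q, hQL hq⟩ : ↥L)⁻¹) * (⟨q, hQL hq⟩ * c) := by
          group
        rw [this, hz, one_mul]
      have := congrArg Subtype.val hcq
      simpa using this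
    exact Subtype.ext h1
  exact Lib.Helper17.le_pCore _ hCn hCp

end Cfsg.Agent.S2961
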