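import Cfsg.Statements.S2963
-- import your own Cfsg.Agent.* helpers here

set_option autoImplicit false
open Cfsg

namespace Cfsg.Agent.S2963

/-- Let n be odd. If the symmetric group of degree n is a minimal parabolic group for the prime 2, that is, a Sylow 2-subgroup is not normal and lies in exactly one maximal subgroup, then n = 2^m + 1 for some natural number m. -/
theorem result (n : ℕ) (hn : Odd n) (h : Cfsg.IsPMinimal 2 (Equiv.Perm (Fin n))) : ∃ m : ℕ, n = 2 ^ m + 1 := by
  classical
  obtain ⟨S⟩ : Nonempty (Sylow 2 (Equiv.Perm (Fin n))) := inferInstance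
  obtain ⟨hnn, M, ⟨hMco, hSM⟩, hMuniq⟩ := h S
  have hS2 : IsPGroup 2 ↥(S : Subgroup (Equiv.Perm (Fin n))) := S.isPGroup'
  have hodd : ¬ 2 ∣ Nat.card (Fin n) := by
    rw [Nat.card_eq_fintype_card, Fintype.card_fin]; exact hn.not_two_dvd_nat
  obtain ⟨x, hx⟩ := hS2.nonempty_fixed_point_of_prime_not_dvd_card (Fin n) hodd
  have hxfix : ∀ σ ∈ (S : Subgroup (Equiv.Perm (Fin n))), σ x = x := fun σ hσ => hx ⟨σ, hσ⟩
  -- there is a second point
  obtain ⟨y, hyx⟩ : ∃ y : Fin n, y ≠ x := by
    by_contra hall
    push Not at hall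
    apply hnn
    have hsub : Subsingleton (Equiv.Perm (Fin n)) :=
      ⟨fun a b => by ext z; rw [hall (a z), hall (b z)]⟩
    exact ⟨fun a ha g => by rw [Subsingleton.elim (g * a * g⁻¹) a]; exact ha⟩
  -- coatoms containing S are equal to M
  have hleM : ∀ K : Subgroup (Equiv.Perm (Fin n)), (S : Subgroup (Equiv.Perm (Fin n))) ≤ K →
      K ≠ ⊤ → K ≤ M := by
    intro K hSK hK
    obtain ⟨M', hM', hle⟩ := (eq_top_or_exists_le_coatom K).resolve_left hK
    have := hMuniq M' ⟨hM', hSK.trans hle⟩
    rw [← this]; exact hle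
  -- the point stabilizer
  have hK₁M : MulAction.stabilizer (Equiv.Perm (Fin n)) x ≤ M := by
    apply hleM
    · intro σ hσ
      rw [MulAction.mem_stabilizer_iff, Equiv.Perm.smul_def]
      exact hxfix σ hσ
    · intro htop
      have : Equiv.swap x y ∈ MulAction.stabilizer (Equiv.Perm (Fin n)) x := by
        rw [htop]; exact Subgroup.mem_top _
      rw [MulAction.mem_stabilizer_iff, Equiv.Perm.smul_def, Equiv.swap_apply_left] at this
      exact hyx this
  -- the orbit of y
  have hxO : x ∉ MulAction.orbit ↥(S : Subgroup (Equiv.Perm (Fin n))) y := by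
    rintro ⟨s, hs⟩
    apply hyx
    have h1 : s⁻¹ • x = y := by
      have hs' : s • y = x := hs
      rw [← hs', inv_smul_smul]
    rw [← h1]; exact hx s⁻¹
  by_cases hO : ∀ z, z ≠ x → z ∈ MulAction.orbit ↥(S : Subgroup (Equiv.Perm (Fin n))) y
  · obtain ⟨m, hm⟩ := hS2.card_orbit y
    refine ⟨m, ?_⟩
    have hOeq : MulAction.orbit ↥(S : Subgroup (Equiv.Perm (Fin n))) y = ({x} : Set (Fin n))ᶜ := by
      ext z
      simp only [Set.mem_compl_iff, Set.mem_singleton_iff]
      constructor
      · intro hz hzx
        exact hxO (hzx ▸ hz)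
      · exact hO z
    have hcard : Nat.card ↥(MulAction.orbit ↥(S : Subgroup (Equiv.Perm (Fin n))) y) = n - 1 := by
      rw [hOeq, Nat.card_coe_set_eq, Set.ncard_compl, Set.ncard_singleton,
        Nat.card_eq_fintype_card, Fintype.card_fin]
    have hnpos : 0 < n := Fin.pos x
    omega
  · exfalso
    push Not at hO
    obtain ⟨z, hzx, hzO⟩ := hO
    -- forward invariance of the orbit
    have hfwd : ∀ σ ∈ (S : Subgroup (Equiv.Perm (Fin n))), ∀ a : Fin n,
        a ∈ MulAction.orbit ↥(S : Subgroup (Equiv.Perm (Fin n))) y →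
        σ a ∈ MulAction.orbit ↥(S : Subgroup (Equiv.Perm (Fin n))) y := by
      rintro σ hσ a ⟨s, rfl⟩
      exact ⟨⟨σ, hσ⟩ * s, by show (⟨σ, hσ⟩ * s) • y = σ (s • y); rw [mul_smul]; rfl⟩
    -- the setwise stabilizer of A = insert x O
    let K : Subgroup (Equiv.Perm (Fin n)) :=
      { carrier := {σ | ∀ a : Fin n,
          (a = x ∨ a ∈ MulAction.orbit ↥(S : Subgroup (Equiv.Perm (Fin n))) y) ↔
          (σ a = x ∨ σ a ∈ MulAction.orbit ↥(S : Subgroup (Equiv.Perm (Fin n))) y)}
        one_mem' := fun a => by simp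
        mul_mem' := by
          intro σ τ hσ hτ a
          rw [Equiv.Perm.mul_apply, hτ a, hσ (τ a)]
        inv_mem' := by
          intro σ hσ a
          have := hσ (σ⁻¹ a)
          have e : σ (σ⁻¹ a) = a := by simp
          rw [e] at this
          exact this.symm }
    have hKM : K ≤ M := by
      apply hleM
      · intro σ hσ a
        constructor
        · rintro (rfl | ha)
          · exact Or.inl (hxfix σ hσ)
          · exact Or.inr (hfwd σ hσ a ha)
        · rintro (ha | ha)
          · left
            have h1 : σ⁻¹ (σ a) = x := by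
              rw [ha]; exact hxfix σ⁻¹ (Subgroup.inv_mem _ hσ)
            have e : σ⁻¹ (σ a) = a := by simp
            rwa [e] at h1
          · right
            have := hfwd σ⁻¹ (Subgroup.inv_mem _ hσ) _ ha
            have e : σ⁻¹ (σ a) = a := by simp
            rwa [e] at this
      · intro htop
        have hmem : Equiv.swap x z ∈ K := by rw [htop]; exact Subgroup.mem_top _
        have h1 := (hmem x).mp (Or.inl rfl)
        rw [Equiv.swap_apply_left] at h1
        rcases h1 with h1 | h1
        · exact hzx h1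
        · exact hzO h1
    have hyO : y ∈ MulAction.orbit ↥(S : Subgroup (Equiv.Perm (Fin n))) y :=
      MulAction.mem_orbit_self y
    have hswapK : Equiv.swap x y ∈ K := by
      intro a
      by_cases hax : a = x
      · subst hax
        rw [Equiv.swap_apply_left]
        exact ⟨fun _ => Or.inr hyO, fun _ => Or.inl rfl⟩
      · by_cases hay : a = y
        · subst hay
          rw [Equiv.swap_apply_right]
          exact ⟨fun _ => Or.inl rfl, fun _ => Or.inr hyO⟩
        · rw [Equiv.swap_apply_of_ne_of_ne hax hay]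
    have hswapM : Equiv.swap x y ∈ M := hKM hswapK
    -- M contains all transpositions
    have hxb : ∀ b : Fin n, b ≠ x → Equiv.swap x b ∈ M := by
      intro b hbx
      by_cases hby : b = y
      · rw [hby]; exact hswapM
      · have hf : Equiv.swap y b ∈ M := by
          apply hK₁M
          rw [MulAction.mem_stabilizer_iff, Equiv.Perm.smul_def]
          exact Equiv.swap_apply_of_ne_of_ne hyx.symm (Ne.symm hbx)
        have h1 := Equiv.swap_apply_apply (Equiv.swap y b) x y
        rw [Equiv.swap_apply_of_ne_of_ne hyx.symm (Ne.symm hbx), Equiv.swap_apply_left] at h1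
        rw [h1]
        exact M.mul_mem (M.mul_mem hf hswapM) (M.inv_mem hf)
    have hMtop : M = ⊤ := by
      rw [eq_top_iff, ← Equiv.Perm.closure_isSwap, Subgroup.closure_le]
      rintro σ ⟨a, b, hab, rfl⟩
      by_cases hax : a = x
      · subst hax; exact hxb b (Ne.symm hab)
      · by_cases hbx : b = x
        · subst hbx; rw [Equiv.swap_comm]; exact hxb a hax
        · apply hK₁M
          rw [MulAction.mem_stabilizer_iff, Equiv.Perm.smul_def]
          exact Equiv.swap_apply_of_ne_of_ne (Ne.symm hax) (Ne.symm hbx)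
    exact hMco.1 hMtop

end Cfsg.Agent.S2963
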