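import Cfsg.Statements.S2968
import Cfsg.Agent.Lib.Helper17.Isolated

set_option autoImplicit false
open Cfsg

namespace Cfsg.Agent.S2968

/-- Let G be a finite group, p a prime, P a Sylow p-subgroup of G and x ∈ P an element of p-power order which is isolated in G (the only conjugate of x commuting with x is x itself). Then x lies in the centre of P, and the subgroup generated by x is both strongly closed and weakly closed in P with respect to G. -/
theorem result {G : Type*} [Group G] [Finite G] {p : ℕ} [Fact p.Prime] (P : Sylow p G) (x : G) (hxP : x ∈ (P : Subgroup G)) (hx : ∃ k : ℕ, orderOf x = p ^ k) (hiso : Cfsg.IsIsolated x) : x ∈ (P : Subgroup G) ⊓ Subgroup.centralizer ((P : Subgroup G) : Set G) ∧ Cfsg.IsStronglyClosed (Subgroup.zpowers x) (P : Subgroup G) ∧ Cfsg.IsWeaklyClosed (Subgroup.zpowers x) (P : Subgroup G) := by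
  have hPp : IsPGroup p ↥(P : Subgroup G) := P.isPGroup'
  have hcen := Cfsg.Agent.Lib.Helper17.isolated_comm_of_pgroup hiso (P : Subgroup G) hPp hxP
  have hzP : Subgroup.zpowers x ≤ (P : Subgroup G) := by
    rw [Subgroup.zpowers_le]; exact hxP
  refine ⟨⟨hxP, ?_⟩, ⟨hzP, ?_⟩, ⟨hzP, ?_⟩⟩
  · show x ∈ Subgroup.centralizer ((P : Subgroup G) : Set G)
    rw [Subgroup.mem_centralizer_iff]
    intro r hr
    exact hcen r hr
  · -- strongly closed
    intro y hy g hw
    obtain ⟨k, rfl⟩ := Subgroup.mem_zpowers_iff.1 hy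
    set w := g * x ^ k * g⁻¹ with hwdef
    have hw' : w = (g * x * g⁻¹) ^ k := by
      rw [hwdef, conj_zpow]
    have hxK : x ∈ Subgroup.centralizer ({w} : Set G) := by
      rw [Subgroup.mem_centralizer_singleton_iff]
      exact (hcen w hw).symm
    have hx'K : g * x * g⁻¹ ∈ Subgroup.centralizer ({w} : Set G) := by
      rw [Subgroup.mem_centralizer_singleton_iff, hw']
      exact ((Commute.refl (g * x * g⁻¹)).zpow_right k).eq
    obtain ⟨c, hc, hcx⟩ := Cfsg.Agent.Lib.Helper17.isolated_fusion hx hiso _ hxK g hx'K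
    rw [Subgroup.mem_centralizer_singleton_iff] at hc
    have h1 : w = c * x ^ k * c⁻¹ := by
      rw [hw', hcx, conj_zpow]
    have h2 : w = x ^ k := by
      calc w = c⁻¹ * (c * w) := by group
        _ = c⁻¹ * (w * c) := by rw [hc]
        _ = c⁻¹ * (c * x ^ k * c⁻¹ * c) := by rw [← h1]
        _ = x ^ k := by group
    rw [h2]
    exact Subgroup.zpow_mem_zpowers x k
  · -- weakly closed
    intro g hg
    have h1 : g * x * g⁻¹ ∈ (P : Subgroup G) := by
      apply hg
      exact ⟨x, Subgroup.mem_zpowers x, by simp⟩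
    have h2 : Commute x (g * x * g⁻¹) := (hcen _ h1).symm
    have h3 := hiso g h2
    rw [MonoidHom.map_zpowers]
    simp only [MulEquiv.toMonoidHom_eq_coe, MonoidHom.coe_coe, MulAut.conj_apply]
    rw [h3]

end Cfsg.Agent.S2968
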