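import Cfsg.Statements.S2969
import Cfsg.Agent.Lib.Helper17.Isolated

set_option autoImplicit false
open Cfsg

namespace Cfsg.Agent.S2969

/-- Let G be a finite group, p a prime and x ∈ G an element of p-power order which is isolated in G. If R is a p-subgroup of G containing x, then N_G(R) ≤ C_G(x); in particular x lies in the centre of R. Moreover, if x lies in a normal subgroup N of a subgroup H of G, then H = N·C_H(x). -/
theorem result {G : Type*} [Group G] [Finite G] {p : ℕ} [Fact p.Prime] (x : G) (hx : ∃ k : ℕ, orderOf x = p ^ k) (hiso : Cfsg.IsIsolated x) : (∀ R : Subgroup G, IsPGroup p ↥R → x ∈ R → Subgroup.normalizer (R : Set G) ≤ Subgroup.centralizer ({x} : Set G)) ∧ (∀ H N : Subgroup G, N ≤ H → H ≤ Subgroup.normalizer (N : Set G) → x ∈ N → N ⊔ (H ⊓ Subgroup.centralizer ({x} : Set G)) = H) := by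
  refine ⟨fun R hR hxR => Cfsg.Agent.Lib.Helper17.isolated_normalizer_le hiso R hR hxR, ?_⟩
  intro H N hNH hHN hxN
  apply le_antisymm (sup_le hNH inf_le_left)
  intro h hh
  have hy : h * x * h⁻¹ ∈ N := Cfsg.Agent.Lib.Helper17.conj_mem_of_mem_normalizer (hHN hh) hxN
  obtain ⟨c, hc, hcy⟩ := Cfsg.Agent.Lib.Helper17.isolated_fusion hx hiso N hxN h hy
  have h1 : c⁻¹ * h ∈ H ⊓ Subgroup.centralizer ({x} : Set G) := by
    refine ⟨H.mul_mem (H.inv_mem (hNH hc)) hh, ?_⟩
    show c⁻¹ * h ∈ Subgroup.centralizer ({x} : Set G)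
    rw [Subgroup.mem_centralizer_singleton_iff]
    calc c⁻¹ * h * x = c⁻¹ * (h * x * h⁻¹) * h := by group
      _ = c⁻¹ * (c * x * c⁻¹) * h := by rw [hcy]
      _ = x * (c⁻¹ * h) := by group
  have h2 : h = c * (c⁻¹ * h) := by group
  rw [h2]
  exact Subgroup.mul_mem _ ((le_sup_left : N ≤ N ⊔ _) hc) ((le_sup_right : _ ≤ N ⊔ _) h1)

end Cfsg.Agent.S2969
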