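import Cfsg.Statements.S2970
import Cfsg.Agent.Lib.Helper17.Isolated
import Cfsg.Agent.Lib.Helper17.Coprime
import Mathlib.GroupTheory.Transfer

set_option autoImplicit false
open Cfsg

namespace Cfsg.Agent.S2970

/-- Let G be a finite group, p a prime and x ∈ G an element of p-power order which is isolated in G. Then the image of x in any quotient G ⧸ N is isolated in G ⧸ N; and if x ≠ 1 and the Sylow p-subgroups of G are cyclic, then G has a normal p-complement. -/
theorem result {G : Type*} [Group G] [Finite G] {p : ℕ} [Fact p.Prime] (x : G) (hx : ∃ k : ℕ, orderOf x = p ^ k) (hiso : Cfsg.IsIsolated x) : (∀ (N : Subgroup G) [N.Normal], Cfsg.IsIsolated (QuotientGroup.mk x : G ⧸ N)) ∧ (x ≠ 1 → (∀ P : Sylow p G, IsCyclic ↥(P : Subgroup G)) → Cfsg.HasNormalPComplement p G) := by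
  refine ⟨?_, ?_⟩
  · intro N _ q hq
    obtain ⟨g, rfl⟩ := QuotientGroup.mk_surjective q
    set K : Subgroup G :=
      (Subgroup.zpowers (QuotientGroup.mk x : G ⧸ N) ⊔
        Subgroup.zpowers ((QuotientGroup.mk g : G ⧸ N) * QuotientGroup.mk x * (QuotientGroup.mk g)⁻¹)).comap
          (QuotientGroup.mk' N) with hK
    have hxK : x ∈ K := by
      rw [hK, Subgroup.mem_comap]
      exact (le_sup_left : Subgroup.zpowers (QuotientGroup.mk x : G ⧸ N) ≤ _) (Subgroup.mem_zpowers _)
    have hyK : g * x * g⁻¹ ∈ K := by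
      rw [hK, Subgroup.mem_comap]
      have : (QuotientGroup.mk' N) (g * x * g⁻¹)
          = (QuotientGroup.mk g : G ⧸ N) * QuotientGroup.mk x * (QuotientGroup.mk g)⁻¹ := by
        simp
      rw [this]
      exact (le_sup_right : Subgroup.zpowers _ ≤ _) (Subgroup.mem_zpowers _)
    obtain ⟨c, hc, hcy⟩ := Cfsg.Agent.Lib.Helper17.isolated_fusion hx hiso K hxK g hyK
    have hle : Subgroup.zpowers (QuotientGroup.mk x : G ⧸ N) ⊔
        Subgroup.zpowers ((QuotientGroup.mk g : G ⧸ N) * QuotientGroup.mk x * (QuotientGroup.mk g)⁻¹)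
        ≤ Subgroup.centralizer ({(QuotientGroup.mk x : G ⧸ N)} : Set (G ⧸ N)) := by
      apply sup_le
      · rw [Subgroup.zpowers_le, Subgroup.mem_centralizer_singleton_iff]
      · rw [Subgroup.zpowers_le, Subgroup.mem_centralizer_singleton_iff]
        exact hq.symm.eq
    have hcK : (QuotientGroup.mk c : G ⧸ N) ∈
        Subgroup.centralizer ({(QuotientGroup.mk x : G ⧸ N)} : Set (G ⧸ N)) := by
      apply hle
      rw [hK, Subgroup.mem_comap] at hc
      exact hc
    rw [Subgroup.mem_centralizer_singleton_iff] at hcK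
    have h1 : (QuotientGroup.mk g : G ⧸ N) * QuotientGroup.mk x * (QuotientGroup.mk g)⁻¹
        = (QuotientGroup.mk c : G ⧸ N) * QuotientGroup.mk x * (QuotientGroup.mk c)⁻¹ := by
      have := congrArg (QuotientGroup.mk' N) hcy
      simpa using this
    rw [h1, hcK]
    group
  · intro hx1 hcyc
    obtain ⟨P, hP⟩ := (Cfsg.Agent.Lib.Helper17.isPGroup_zpowers_of_orderOf hx).exists_le_sylow
    have hxP : x ∈ (P : Subgroup G) := hP (Subgroup.mem_zpowers x)
    have hN := Cfsg.Agent.Lib.Helper17.isolated_normalizer_le hiso (P : Subgroup G) P.isPGroup' hxP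
    have hNC := Cfsg.Agent.Lib.Helper17.normalizer_le_centralizer_of_cyclic_sylow P (hcyc P) x hxP hx1 hN
    have hcompl := MonoidHom.ker_transferSylow_isComplement' P hNC
    exact ⟨P, _, inferInstance, hcompl⟩

end Cfsg.Agent.S2970
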