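import Cfsg.Statements.S2971
import Mathlib
import Cfsg.Agent.Lib.Helper17.RankOne
import Cfsg.Agent.Lib.Helper17.Coprime
import Cfsg.Agent.Lib.Helper12.Cores

set_option autoImplicit false
set_option linter.style.haveILetI false
open Cfsg

namespace Cfsg.Agent.S2971

/-- Let G be a finite group and p an odd prime such that G has p-rank at most 1 (no elementary abelian subgroup of order p²). If x ∈ G is an isolated element of order p, then x is central modulo the largest normal subgroup of G of order prime to p. -/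
theorem result {G : Type*} [Group G] [Finite G] {p : ℕ} [Fact p.Prime] (hp : p ≠ 2) (hrk : Cfsg.PRankLE p 1 G) (x : G) (hx : orderOf x = p) (hiso : Cfsg.IsIsolated x) : Cfsg.InZStar p x := by
  have hpp : p.Prime := Fact.out
  have hx1 : x ≠ 1 := by
    intro h; rw [h, orderOf_one] at hx; exact hpp.one_lt.ne hx
  -- a Sylow p-subgroup containing x
  have hzp : IsPGroup p ↥(Subgroup.zpowers x) :=
    IsPGroup.of_card (n := 1) (by rw [Nat.card_zpowers, hx, pow_one])
  obtain ⟨P, hP⟩ := hzp.exists_le_sylow
  have hxP : x ∈ (P : Subgroup G) := hP (Subgroup.mem_zpowers x)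
  have hPc : IsCyclic ↥(P : Subgroup G) :=
    Lib.Helper17.isCyclic_of_pRankLE_one hp hrk (P : Subgroup G) P.isPGroup'
  have hPcomm : ∀ u ∈ (P : Subgroup G), ∀ v ∈ (P : Subgroup G), u * v = v * u := by
    intro u hu v hv
    have hc : IsMulCommutative ↥(P : Subgroup G) := IsCyclic.isMulCommutative
    exact congrArg Subtype.val (hc.is_comm.comm ⟨u, hu⟩ ⟨v, hv⟩)
  -- N(P) centralizes x
  have hN : Subgroup.normalizer ((P : Subgroup G) : Set G) ≤ Subgroup.centralizer ({x} : Set G) := by
    intro n hn
    rw [Subgroup.mem_centralizer_singleton_iff]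
    have h1 : n * x * n⁻¹ ∈ (P : Subgroup G) := (Subgroup.mem_normalizer_iff.mp hn x).mp hxP
    have h2 : n * x * n⁻¹ = x := hiso n (hPcomm x hxP _ h1)
    calc n * x = (n * x * n⁻¹) * n := by group
      _ = x * n := by rw [h2]
  have hNC := Lib.Helper17.normalizer_le_centralizer_of_cyclic_sylow P hPc x hxP hx1 hN
  -- Burnside transfer
  have hKcop : (Nat.card ↥(MonoidHom.transferSylow P hNC).ker).Coprime p :=
    ((Nat.Prime.coprime_iff_not_dvd hpp).mpr (MonoidHom.not_dvd_card_ker_transferSylow P hNC)).symm
  have hKle : (MonoidHom.transferSylow P hNC).ker ≤ Cfsg.pPrimeCore p G :=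
    Lib.Helper12.le_pPrimeCore p _ inferInstance hKcop
  intro g
  apply hKle
  rw [MonoidHom.mem_ker, map_mul, map_mul, map_mul, map_inv, map_inv]
  have hc : IsMulCommutative ↥(P : Subgroup G) := IsCyclic.isMulCommutative
  have h3 := hc.is_comm.comm (MonoidHom.transferSylow P hNC g) (MonoidHom.transferSylow P hNC x)
  rw [h3]; group

end Cfsg.Agent.S2971
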