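import Cfsg.Statements.S2972
import Mathlib
import Cfsg.Agent.Lib.Helper12.Cores
import Cfsg.Agent.Lib.Helper12.HallHigman
import Cfsg.Agent.Lib.Helper24.PSolvable
import Cfsg.Agent.Lib.Helper4.Basic
import Cfsg.Agent.Lib.Helper17.Basic
import Cfsg.Agent.Lib.Helper17.Isolated

set_option autoImplicit false
set_option linter.style.haveILetI false
set_option linter.unusedSectionVars false
open Cfsg
open scoped commutatorElement

namespace Cfsg.Agent.S2972

section
variable {G : Type*} [Group G] [Finite G] {p : ℕ} [Fact p.Prime]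

/-- L1: if `O_{p'}(G) = 1`, normal subgroups of `G` have trivial `p'`-core. -/
theorem pPrimeCore_normal_eq_bot (hO : Cfsg.pPrimeCore p G = ⊥) (N : Subgroup G) [N.Normal] :
    Cfsg.pPrimeCore p ↥N = ⊥ := by
  haveI : (Cfsg.pPrimeCore p ↥N).Characteristic := Lib.Helper12.pPrimeCore_characteristic p
  have hn : ((Cfsg.pPrimeCore p ↥N).map N.subtype).Normal := inferInstance
  have hc : (Nat.card ↥((Cfsg.pPrimeCore p ↥N).map N.subtype)).Coprime p := by
    rw [Subgroup.card_map_of_injective N.subtype_injective]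
    exact Lib.Helper12.pPrimeCore_coprime p
  have hle := Lib.Helper12.le_pPrimeCore p _ hn hc
  rw [hO, le_bot_iff] at hle
  exact (Subgroup.map_eq_bot_iff_of_injective _ N.subtype_injective).mp hle

/-- L2: a `p'`-subgroup `W` normalized by `M`, intersected with a subgroup `M` having trivial `p'`-core,
is trivial. -/
theorem inf_eq_bot_of_pPrimeCore_eq_bot (M : Subgroup G) (hM : Cfsg.pPrimeCore p ↥M = ⊥)
    (W : Subgroup G) (hW : (Nat.card ↥W).Coprime p) (hMW : M ≤ Subgroup.normalizer (W : Set G)) :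
    W ⊓ M = ⊥ := by
  have hn : ((W ⊓ M).subgroupOf M).Normal := by
    constructor
    intro a ha m
    rw [Subgroup.mem_subgroupOf] at ha ⊢
    refine ⟨?_, M.mul_mem (M.mul_mem m.2 ha.2) (M.inv_mem m.2)⟩
    exact (Subgroup.mem_normalizer_iff.mp (hMW m.2) a).mp ha.1
  have hc : (Nat.card ↥((W ⊓ M).subgroupOf M)).Coprime p := by
    rw [Nat.card_congr (Subgroup.subgroupOfEquivOfLe (inf_le_right : W ⊓ M ≤ M)).toEquiv]
    exact Nat.Coprime.coprime_dvd_left (Subgroup.card_dvd_of_le inf_le_left) hW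
  have hle := Lib.Helper12.le_pPrimeCore p _ hn hc
  rw [hM, le_bot_iff, Subgroup.subgroupOf_eq_bot] at hle
  have := disjoint_iff.mp hle
  rwa [inf_assoc, inf_idem] at this

/-- (A) `O_{p'}(G) = 1`. -/
theorem pPrimeCore_eq_bot (x : G) (hnz : ¬ Cfsg.InZStar p x)
    (hquot : ∀ (N : Subgroup G) [N.Normal], N ≠ ⊥ → Cfsg.InZStar p (QuotientGroup.mk x : G ⧸ N)) :
    Cfsg.pPrimeCore p G = ⊥ := by
  by_contra hO
  apply hnz
  intro g
  have h := hquot (Cfsg.pPrimeCore p G) hO (QuotientGroup.mk g)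
  rw [Lib.Helper24.pPrimeCore_quotient_eq_bot', Subgroup.mem_bot] at h
  have h2 : ((g * x * g⁻¹ * x⁻¹ : G) : G ⧸ Cfsg.pPrimeCore p G) = 1 := h
  exact (QuotientGroup.eq_one_iff _).mp h2

/-- (B) `x` is not central. -/
theorem exists_conj_ne (x : G) (hnz : ¬ Cfsg.InZStar p x) : ∃ g : G, g * x * g⁻¹ ≠ x := by
  by_contra hcon
  push Not at hcon
  apply hnz
  intro g
  rw [hcon g, mul_inv_cancel]
  exact Subgroup.one_mem _

/-- (F) the centre of `G` is trivial. -/
theorem center_eq_bot (x : G) (hiso : Cfsg.IsIsolated x) (hO : Cfsg.pPrimeCore p G = ⊥)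
    (hnc : ∃ g : G, g * x * g⁻¹ ≠ x)
    (hquot : ∀ (N : Subgroup G) [N.Normal], N ≠ ⊥ → Cfsg.InZStar p (QuotientGroup.mk x : G ⧸ N)) :
    Subgroup.center G = ⊥ := by
  have hp : p.Prime := Fact.out
  by_contra hZ
  have hcard : Nat.card ↥(Subgroup.center G) ≠ 1 := fun h => hZ (Subgroup.eq_bot_of_card_eq _ h)
  obtain ⟨q, hq, hqd⟩ := Nat.exists_prime_and_dvd hcard
  haveI := Fact.mk hq
  obtain ⟨z, hz⟩ := exists_prime_orderOf_dvd_card' q hqd
  have hzc : (z : G) ∈ Subgroup.center G := z.2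
  have hzord : orderOf (z : G) = q := by rw [Subgroup.orderOf_coe]; exact hz
  -- N = ⟨z⟩
  have hNle : Subgroup.zpowers (z : G) ≤ Subgroup.center G := by
    rw [Subgroup.zpowers_le]; exact hzc
  haveI hNn : (Subgroup.zpowers (z : G)).Normal := by
    constructor
    intro n hn g
    have : g * n = n * g := (Subgroup.mem_center_iff.mp (hNle hn) g)
    rw [this, mul_inv_cancel_right]
    exact hn
  have hNcard : Nat.card ↥(Subgroup.zpowers (z : G)) = q := by rw [Nat.card_zpowers, hzord]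
  have hNne : Subgroup.zpowers (z : G) ≠ ⊥ := by
    intro h
    rw [h, Subgroup.card_bot] at hNcard
    exact hq.one_lt.ne hNcard
  have hqp : q = p := by
    by_contra hqp
    have hc : (Nat.card ↥(Subgroup.zpowers (z : G))).Coprime p := by
      rw [hNcard]; exact (Nat.coprime_primes hq hp).mpr hqp
    have := Lib.Helper12.le_pPrimeCore p _ hNn hc
    rw [hO, le_bot_iff] at this
    exact hNne this
  subst hqp
  obtain ⟨N, hN⟩ : ∃ N : Subgroup G, N = Subgroup.zpowers (z : G) := ⟨_, rfl⟩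
  rw [← hN] at hNle hNn hNcard hNne
  have hNp : IsPGroup q ↥N := IsPGroup.of_card (n := 1) (by rw [hNcard, pow_one])
  have hq' := hquot N hNne
  -- K = preimage of O_{p'}(G/N)
  obtain ⟨K, hK⟩ : ∃ K : Subgroup G, K = (Cfsg.pPrimeCore q (G ⧸ N)).comap (QuotientGroup.mk' N) :=
    ⟨_, rfl⟩
  haveI hKn : K.Normal := by rw [hK]; infer_instance
  have hKcard : Nat.card ↥K = Nat.card ↥N * Nat.card ↥(Cfsg.pPrimeCore q (G ⧸ N)) := by
    rw [hK]; exact Lib.Helper12.card_comap_mk' N _
  have hNK : N ≤ K := by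
    intro n hn
    rw [hK, Subgroup.mem_comap]
    have : QuotientGroup.mk' N n = 1 := (QuotientGroup.eq_one_iff n).mpr hn
    rw [this]; exact Subgroup.one_mem _
  have hcomK : ∀ g : G, g * x * g⁻¹ * x⁻¹ ∈ K := by
    intro g
    rw [hK, Subgroup.mem_comap]
    exact hq' (QuotientGroup.mk g)
  -- D = N as a subgroup of K
  have hD : N.subgroupOf K ≤ Subgroup.center ↥K := by
    intro d hd
    rw [Subgroup.mem_subgroupOf] at hd
    rw [Subgroup.mem_center_iff]
    intro k
    apply Subtype.ext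
    exact Subgroup.mem_center_iff.mp (hNle hd) (k : G)
  have hDp : IsPGroup q ↥(N.subgroupOf K) := hNp.comap_subtype
  have hDcard : Nat.card ↥(N.subgroupOf K) = Nat.card ↥N :=
    Nat.card_congr (Subgroup.subgroupOfEquivOfLe hNK).toEquiv
  have hidx : (N.subgroupOf K).index = Nat.card ↥(Cfsg.pPrimeCore q (G ⧸ N)) := by
    have h1 := (N.subgroupOf K).card_mul_index
    rw [hDcard, hKcard] at h1
    exact Nat.eq_of_mul_eq_mul_left Nat.card_pos h1
  have hidxc : (N.subgroupOf K).index.Coprime q := by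
    rw [hidx]; exact Lib.Helper12.pPrimeCore_coprime q
  obtain ⟨K₀, hK₀card, hK₀mem⟩ := Lib.Helper12.exists_complement_of_central (N.subgroupOf K) hD hDp hidxc
  have hK₀n : (K₀.map K.subtype).Normal := by
    constructor
    rintro _ ⟨y, hy, rfl⟩ g
    have hmem : g * (y : G) * g⁻¹ ∈ K := hKn.conj_mem _ y.2 g
    refine ⟨⟨g * (y : G) * g⁻¹, hmem⟩, ?_, rfl⟩
    show (⟨g * (y : G) * g⁻¹, hmem⟩ : ↥K) ∈ K₀
    rw [hK₀mem]
    apply Subtype.ext
    have h1 : (y : G) ^ (N.subgroupOf K).index = 1 := by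
      have := (hK₀mem y).mp hy
      have h2 := congrArg Subtype.val this
      simpa using h2
    simp only [Subgroup.coe_pow, Subgroup.coe_one]
    rw [conj_pow, h1, mul_one, mul_inv_cancel]
  have hK₀c : (Nat.card ↥(K₀.map K.subtype)).Coprime q := by
    rw [Subgroup.card_map_of_injective K.subtype_injective, hK₀card]; exact hidxc
  have hK₀bot := Lib.Helper12.le_pPrimeCore q _ hK₀n hK₀c
  rw [hO, le_bot_iff] at hK₀bot
  have hK₀bot' : K₀ = ⊥ := (Subgroup.map_eq_bot_iff_of_injective _ K.subtype_injective).mp hK₀bot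
  rw [hK₀bot', Subgroup.card_bot] at hK₀card
  have hKN : K ≤ N := Subgroup.subgroupOf_eq_top.mp (Subgroup.index_eq_one.mp hK₀card.symm)
  obtain ⟨g, hg⟩ := hnc
  apply hg
  apply hiso g
  have hc : g * x * g⁻¹ * x⁻¹ ∈ Subgroup.center G := hNle (hKN (hcomK g))
  have h1 := Subgroup.mem_center_iff.mp hc x
  -- x * c = c * x, where c x = g x g⁻¹
  have h2 : g * x * g⁻¹ * x⁻¹ * x = g * x * g⁻¹ := by group
  show x * (g * x * g⁻¹) = g * x * g⁻¹ * x
  rw [← h2, ← mul_assoc, h1]

theorem comm_mem_commutator (g h : G) : g * h * g⁻¹ * h⁻¹ ∈ commutator G := by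
  rw [commutator_def]
  exact Subgroup.commutator_mem_commutator (Subgroup.mem_top g) (Subgroup.mem_top h)

/-- (D) the normal closure of `x` is `G`. -/
theorem normalClosure_eq_top (x : G) (hiso : Cfsg.IsIsolated x) (hO : Cfsg.pPrimeCore p G = ⊥)
    (hnc : ∃ g : G, g * x * g⁻¹ ≠ x)
    (hmin : ∀ (H : Subgroup G) (hxH : x ∈ H), H ≠ ⊤ → Cfsg.InZStar p (⟨x, hxH⟩ : ↥H)) :
    Subgroup.normalClosure ({x} : Set G) = ⊤ := by
  by_contra hN
  have hxN : x ∈ Subgroup.normalClosure ({x} : Set G) := Subgroup.subset_normalClosure rfl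
  have h := hmin _ hxN hN
  have hb := pPrimeCore_normal_eq_bot (p := p) hO (Subgroup.normalClosure ({x} : Set G))
  obtain ⟨g, hg⟩ := hnc
  have hgx : g * x * g⁻¹ ∈ Subgroup.normalClosure ({x} : Set G) :=
    Subgroup.normalClosure_normal.conj_mem _ hxN g
  have h1 := h ⟨g * x * g⁻¹, hgx⟩
  rw [hb, Subgroup.mem_bot] at h1
  have h2 := congrArg Subtype.val h1
  simp only [Subgroup.coe_mul, Subgroup.coe_inv, Subgroup.coe_one] at h2
  apply hg
  apply hiso g
  show x * (g * x * g⁻¹) = g * x * g⁻¹ * x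
  have h3 : g * x * g⁻¹ * x * (g * x * g⁻¹)⁻¹ = x := by
    rw [mul_inv_eq_one] at h2; exact h2
  calc x * (g * x * g⁻¹) = g * x * g⁻¹ * x * (g * x * g⁻¹)⁻¹ * (g * x * g⁻¹) := by rw [h3]
    _ = g * x * g⁻¹ * x := by group

/-- (E) `G = G'⟨x⟩`. -/
theorem commutator_sup_zpowers_eq_top (x : G)
    (hD : Subgroup.normalClosure ({x} : Set G) = ⊤) :
    commutator G ⊔ Subgroup.zpowers x = ⊤ := by
  haveI hn : (commutator G ⊔ Subgroup.zpowers x).Normal := by
    constructor
    intro n hn g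
    have h1 : g * n * g⁻¹ * n⁻¹ ∈ commutator G ⊔ Subgroup.zpowers x :=
      (le_sup_left : commutator G ≤ _) (comm_mem_commutator g n)
    have h2 := Subgroup.mul_mem _ h1 hn
    rwa [inv_mul_cancel_right] at h2
  rw [eq_top_iff, ← hD]
  apply Subgroup.normalClosure_le_normal
  rw [Set.singleton_subset_iff]
  exact (le_sup_right : Subgroup.zpowers x ≤ _) (Subgroup.mem_zpowers x)

/-- (H) `G' ≠ 1`. -/
theorem commutator_ne_bot (x : G) (hnc : ∃ g : G, g * x * g⁻¹ ≠ x) : commutator G ≠ ⊥ := by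
  intro h
  obtain ⟨g, hg⟩ := hnc
  have h1 := comm_mem_commutator g x
  rw [h, Subgroup.mem_bot, mul_inv_eq_one] at h1
  exact hg h1

/-- (G) a normal subgroup of `G` properly contained in `G'` is trivial. -/
theorem normal_lt_commutator_eq_bot (x : G) (hO : Cfsg.pPrimeCore p G = ⊥)
    (hZ : Subgroup.center G = ⊥) (hD : Subgroup.normalClosure ({x} : Set G) = ⊤)
    (hmin : ∀ (H : Subgroup G) (hxH : x ∈ H), H ≠ ⊤ → Cfsg.InZStar p (⟨x, hxH⟩ : ↥H))
    (M : Subgroup G) [hMn : M.Normal] (hM : M ≤ commutator G) (hne : M ≠ commutator G) : M = ⊥ := by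
  have hxH : x ∈ M ⊔ Subgroup.zpowers x :=
    (le_sup_right : Subgroup.zpowers x ≤ _) (Subgroup.mem_zpowers x)
  have hH : M ⊔ Subgroup.zpowers x ≠ ⊤ := by
    intro hH
    apply hne
    apply le_antisymm hM
    rw [commutator_def, Subgroup.commutator_le]
    intro a _ b _
    have hmap : ∀ c : G, QuotientGroup.mk' M c ∈ Subgroup.zpowers (QuotientGroup.mk' M x) := by
      intro c
      have hc : c ∈ M ⊔ Subgroup.zpowers x := by rw [hH]; exact Subgroup.mem_top c
      have h1 : QuotientGroup.mk' M c ∈ (M ⊔ Subgroup.zpowers x).map (QuotientGroup.mk' M) :=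
        Subgroup.mem_map_of_mem _ hc
      rw [Subgroup.map_sup, MonoidHom.map_zpowers] at h1
      rwa [QuotientGroup.map_mk'_self, bot_sup_eq] at h1
    obtain ⟨i, hi⟩ := Subgroup.mem_zpowers_iff.mp (hmap a)
    obtain ⟨j, hj⟩ := Subgroup.mem_zpowers_iff.mp (hmap b)
    have h3 : QuotientGroup.mk' M ⁅a, b⁆ = 1 := by
      rw [map_commutatorElement, ← hi, ← hj, commutatorElement_def]
      have : Commute ((QuotientGroup.mk' M x) ^ i) ((QuotientGroup.mk' M x) ^ j) :=
        (Commute.refl _).zpow_zpow i j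
      rw [this.eq, mul_inv_cancel_right, mul_inv_cancel]
    exact (QuotientGroup.eq_one_iff _).mp h3
  have hz := hmin _ hxH hH
  -- W = O_{p'}(H) as a subgroup of G
  obtain ⟨W, hW⟩ : ∃ W : Subgroup G, W = (Cfsg.pPrimeCore p ↥(M ⊔ Subgroup.zpowers x)).map
      (M ⊔ Subgroup.zpowers x).subtype := ⟨_, rfl⟩
  have hWc : (Nat.card ↥W).Coprime p := by
    rw [hW, Subgroup.card_map_of_injective (Subgroup.subtype_injective _)]
    exact Lib.Helper12.pPrimeCore_coprime p
  have hWn : M ⊔ Subgroup.zpowers x ≤ Subgroup.normalizer (W : Set G) := by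
    have h1 := Subgroup.le_normalizer_map (H := Cfsg.pPrimeCore p ↥(M ⊔ Subgroup.zpowers x))
      (M ⊔ Subgroup.zpowers x).subtype
    rw [Subgroup.normalizer_eq_top, ← MonoidHom.range_eq_map, Subgroup.range_subtype, ← hW] at h1
    exact h1
  have hMb := pPrimeCore_normal_eq_bot (p := p) hO M
  have hWM := inf_eq_bot_of_pPrimeCore_eq_bot M hMb W hWc (le_sup_left.trans hWn)
  have hcomm : ∀ m ∈ M, m * x = x * m := by
    intro m hm
    have h1 := hz ⟨m, (le_sup_left : M ≤ M ⊔ Subgroup.zpowers x) hm⟩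
    have h2 : m * x * m⁻¹ * x⁻¹ ∈ W := by
      rw [hW]
      exact ⟨_, h1, rfl⟩
    have h3 : m * x * m⁻¹ * x⁻¹ ∈ M := by
      have := hMn.conj_mem _ (M.inv_mem hm) x
      have h4 := M.mul_mem hm this
      rwa [← mul_assoc, ← mul_assoc] at h4
    have h5 : m * x * m⁻¹ * x⁻¹ ∈ W ⊓ M := ⟨h2, h3⟩
    rw [hWM, Subgroup.mem_bot, mul_inv_eq_one, mul_inv_eq_iff_eq_mul] at h5
    exact h5
  have hC : Subgroup.centralizer (M : Set G) = ⊤ := by
    rw [eq_top_iff, ← hD]
    apply Subgroup.normalClosure_le_normal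
    rw [Set.singleton_subset_iff]
    show x ∈ Subgroup.centralizer (M : Set G)
    rw [Subgroup.mem_centralizer_iff]
    intro m hm
    exact hcomm m hm
  rw [eq_bot_iff, ← hZ]
  intro m hm
  rw [Subgroup.mem_center_iff]
  intro g
  have hg : g ∈ Subgroup.centralizer (M : Set G) := by rw [hC]; exact Subgroup.mem_top g
  exact ((Subgroup.mem_centralizer_iff.mp hg) m hm).symm

/-- (J) `G'` is simple. -/
theorem isSimpleGroup_commutator (x : G) (hx : orderOf x = p) (hiso : Cfsg.IsIsolated x)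
    (hO : Cfsg.pPrimeCore p G = ⊥)
    (hE : commutator G ⊔ Subgroup.zpowers x = ⊤)
    (hG : ∀ (M : Subgroup G) [M.Normal], M ≤ commutator G → M ≠ commutator G → M = ⊥)
    (hH : commutator G ≠ ⊥) : IsSimpleGroup ↥(commutator G) := by
  have hp : p.Prime := Fact.out
  haveI : Nontrivial ↥(commutator G) := (Subgroup.nontrivial_iff_ne_bot _).mpr hH
  refine ⟨fun H hHn => ?_⟩
  by_cases hHb : H = ⊥
  · exact Or.inl hHb
  right
  -- the family of nontrivial G'-invariant subgroups of H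
  obtain ⟨T₀, ⟨hT₀le, hT₀ne, hT₀n⟩, hT₀min⟩ := (wellFounded_lt (α := Subgroup G)).has_min
    {T : Subgroup G | T ≤ H.map (commutator G).subtype ∧ T ≠ ⊥ ∧
      commutator G ≤ Subgroup.normalizer (T : Set G)}
    ⟨H.map (commutator G).subtype, le_rfl,
      fun h => hHb ((Subgroup.map_eq_bot_iff_of_injective _ (Subgroup.subtype_injective _)).mp h), by
        have h1 := Subgroup.le_normalizer_map (H := H) (commutator G).subtype
        rw [Subgroup.normalizer_eq_top, ← MonoidHom.range_eq_map, Subgroup.range_subtype] at h1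
        exact h1⟩
  have hT₀G' : T₀ ≤ commutator G := hT₀le.trans (Subgroup.map_subtype_le H)
  -- p divides |T₀|
  have hpT : p ∣ Nat.card ↥T₀ := by
    by_contra hnd
    have hc : (Nat.card ↥T₀).Coprime p := ((Nat.Prime.coprime_iff_not_dvd hp).mpr hnd).symm
    have hb := pPrimeCore_normal_eq_bot (p := p) hO (commutator G)
    have := inf_eq_bot_of_pPrimeCore_eq_bot (commutator G) hb T₀ hc hT₀n
    rw [inf_eq_left.mpr hT₀G'] at this
    exact hT₀ne this
  -- Sylow p-subgroup containing x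
  have hxp : IsPGroup p ↥(Subgroup.zpowers x) :=
    Lib.Helper17.isPGroup_zpowers_of_orderOf ⟨1, by rw [hx, pow_one]⟩
  obtain ⟨P, hP⟩ := hxp.exists_le_sylow
  have hxP : x ∈ (P : Subgroup G) := hP (Subgroup.mem_zpowers x)
  have hxc := Lib.Helper17.isolated_comm_of_pgroup hiso (P : Subgroup G) P.isPGroup' hxP
  -- T₀ is subnormal
  have hsub : T₀.IsSubnormal :=
    Subgroup.IsSubnormal.step T₀ (commutator G) hT₀G'
      (Subgroup.Normal.isSubnormal inferInstance)
      ((Subgroup.normal_subgroupOf_iff_le_normalizer hT₀G').mpr hT₀n)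
  have hrel := Lib.Helper4.not_dvd_relIndex_of_isSubnormal hsub P
  have hPT : (P : Subgroup G) ⊓ T₀ ≠ ⊥ := by
    intro h
    rw [← Subgroup.inf_relIndex_right, h, Subgroup.relIndex_bot_left] at hrel
    exact hrel hpT
  obtain ⟨⟨d, hdP, hdT⟩, hd1⟩ := (Subgroup.ne_bot_iff_exists_ne_one).mp hPT
  have hd1' : d ≠ 1 := fun h => hd1 (Subtype.ext h)
  have hdx : d * x = x * d := hxc d hdP
  -- conjugate of T₀ by x
  obtain ⟨T₁, hT₁⟩ : ∃ T₁ : Subgroup G, T₁ = T₀.map (MulAut.conj x).toMonoidHom := ⟨_, rfl⟩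
  have hmemT₁ : ∀ a, a ∈ T₁ ↔ x⁻¹ * a * x ∈ T₀ := by
    intro a
    rw [hT₁, Subgroup.mem_map_equiv]
    simp [MulAut.conj_symm_apply]
  have hdT₁ : d ∈ T₁ := by
    rw [hmemT₁]
    have : x⁻¹ * d * x = d := by rw [mul_assoc, hdx, ← mul_assoc, inv_mul_cancel, one_mul]
    rw [this]; exact hdT
  -- T₀ ⊓ T₁ is in the family
  have hxG' : ∀ g ∈ commutator G, x⁻¹ * g * x ∈ commutator G := by
    intro g hg
    have := (inferInstance : (commutator G).Normal).conj_mem g hg x⁻¹
    rwa [inv_inv] at this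
  have hn : commutator G ≤ Subgroup.normalizer ((T₀ ⊓ T₁ : Subgroup G) : Set G) := by
    intro g hg
    rw [Subgroup.mem_normalizer_iff]
    intro n
    have h1 := Subgroup.mem_normalizer_iff.mp (hT₀n hg) n
    have h2 := Subgroup.mem_normalizer_iff.mp (hT₀n (hxG' g hg)) (x⁻¹ * n * x)
    rw [Subgroup.mem_inf, Subgroup.mem_inf, hmemT₁, hmemT₁, h1, h2]
    have : x⁻¹ * g * x * (x⁻¹ * n * x) * (x⁻¹ * g * x)⁻¹ = x⁻¹ * (g * n * g⁻¹) * x := by group
    rw [this]
  have hfam : T₀ ⊓ T₁ ≤ H.map (commutator G).subtype ∧ T₀ ⊓ T₁ ≠ ⊥ ∧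
      commutator G ≤ Subgroup.normalizer ((T₀ ⊓ T₁ : Subgroup G) : Set G) := by
    refine ⟨inf_le_left.trans hT₀le, fun h => hd1' ?_, hn⟩
    have : d ∈ T₀ ⊓ T₁ := ⟨hdT, hdT₁⟩
    rwa [h, Subgroup.mem_bot] at this
  have hnlt := hT₀min _ hfam
  have heq : T₀ ⊓ T₁ = T₀ := eq_of_le_of_not_lt inf_le_left hnlt
  have hle : T₀ ≤ T₁ := inf_eq_left.mp heq
  have hcard : Nat.card ↥T₁ = Nat.card ↥T₀ := by
    rw [hT₁]; exact Subgroup.card_map_of_injective (MulAut.conj x).injective
  have hTeq : T₀ = T₁ := Subgroup.eq_of_le_of_card_ge hle (le_of_eq hcard)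
  -- x normalizes T₀
  have hxn : x ∈ Subgroup.normalizer (T₀ : Set G) := by
    rw [Subgroup.mem_normalizer_iff_map_conj_eq]
    exact (hTeq.trans hT₁).symm
  have hnorm : Subgroup.normalizer (T₀ : Set G) = ⊤ := by
    rw [eq_top_iff, ← hE]
    apply sup_le hT₀n
    rw [Subgroup.zpowers_le]; exact hxn
  haveI hT₀normal : T₀.Normal := Subgroup.normalizer_eq_top_iff.mp hnorm
  have hT₀eq : T₀ = commutator G := by
    by_contra hne
    exact hT₀ne (hG T₀ hT₀G' hne)
  -- so H = ⊤
  rw [eq_top_iff]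
  intro a _
  have ha : (a : G) ∈ H.map (commutator G).subtype := hT₀le (hT₀eq ▸ a.2)
  obtain ⟨b, hb, hba⟩ := ha
  have : b = a := Subtype.ext hba
  rw [← this]; exact hb

/-- (I) `G'` is not abelian. -/
theorem not_isMulCommutative_commutator (x : G) (hx : orderOf x = p) (hiso : Cfsg.IsIsolated x)
    (hO : Cfsg.pPrimeCore p G = ⊥) (hnc : ∃ g : G, g * x * g⁻¹ ≠ x)
    (hE : commutator G ⊔ Subgroup.zpowers x = ⊤)
    (hH : commutator G ≠ ⊥) (hS : IsSimpleGroup ↥(commutator G)) :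
    ¬ IsMulCommutative ↥(commutator G) := by
  have hp : p.Prime := Fact.out
  intro hc
  have hprime : (Nat.card ↥(commutator G)).Prime := (Group.is_simple_iff_prime_card).mp hS
  by_cases hq : Nat.card ↥(commutator G) = p
  · have h1 : IsPGroup p ↥(commutator G) := IsPGroup.of_card (n := 1) (by rw [hq, pow_one])
    have hxp : IsPGroup p ↥(Subgroup.zpowers x) :=
      Lib.Helper17.isPGroup_zpowers_of_orderOf ⟨1, by rw [hx, pow_one]⟩
    have h2 : IsPGroup p ↥(commutator G ⊔ Subgroup.zpowers x) := IsPGroup.to_sup_of_normal_left h1 hxp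
    rw [hE] at h2
    obtain ⟨g, hg⟩ := hnc
    apply hg
    have := Lib.Helper17.isolated_comm_of_pgroup hiso ⊤ h2 (Subgroup.mem_top x) g (Subgroup.mem_top g)
    rw [this, mul_inv_cancel_right]
  · have hcop : (Nat.card ↥(commutator G)).Coprime p := (Nat.coprime_primes hprime hp).mpr hq
    have := Lib.Helper12.le_pPrimeCore p _ (inferInstance : (commutator G).Normal) hcop
    rw [hO, le_bot_iff] at this
    exact hH this

end

/-- Let G be a finite group, p a prime and x ∈ G an isolated element of order p (the only conjugate of x commuting with x is x) which is not central modulo the largest normal subgroup of order prime to p, while x is central modulo the largest normal subgroup of order prime to p in every proper subgroup containing x, and the image of x is so in every quotient of G by a nontrivial normal subgroup (a minimal counterexample to the Z*_p statement). Then the derived subgroup G' is a non-abelian simple group and G = G'⟨x⟩. -/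
theorem result {G : Type*} [Group G] [Finite G] {p : ℕ} [Fact p.Prime] (x : G) (hx : orderOf x = p) (hiso : Cfsg.IsIsolated x) (hnz : ¬ Cfsg.InZStar p x) (hmin : ∀ (H : Subgroup G) (hxH : x ∈ H), H ≠ ⊤ → Cfsg.InZStar p (⟨x, hxH⟩ : ↥H)) (hquot : ∀ (N : Subgroup G) [N.Normal], N ≠ ⊥ → Cfsg.InZStar p (QuotientGroup.mk x : G ⧸ N)) : IsSimpleGroup ↥(commutator G) ∧ ¬ IsMulCommutative ↥(commutator G) ∧ commutator G ⊔ Subgroup.zpowers x = ⊤ := by
  have hO := pPrimeCore_eq_bot x hnz hquot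
  have hnc := exists_conj_ne x hnz
  have hZ := center_eq_bot x hiso hO hnc hquot
  have hD := normalClosure_eq_top x hiso hO hnc hmin
  have hE := commutator_sup_zpowers_eq_top x hD
  have hH := commutator_ne_bot x hnc
  have hS := isSimpleGroup_commutator x hx hiso hO hE
    (fun M _ hM hne => normal_lt_commutator_eq_bot x hO hZ hD hmin M hM hne) hH
  exact ⟨hS, not_isMulCommutative_commutator x hx hiso hO hnc hE hH hS, hE⟩

end Cfsg.Agent.S2972
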