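import Cfsg.Statements.S2975
import Mathlib
import Cfsg.Agent.S2972
import Cfsg.Agent.S0023
import Cfsg.Agent.Lib.Helper17.Basic
import Cfsg.Agent.Lib.Helper17.Isolated
import Cfsg.Agent.Lib.Helper12.Cores
import Cfsg.Agent.Lib.Helper24.PSolvable

set_option autoImplicit false
set_option linter.unusedSectionVars false
set_option linter.style.haveILetI false
open Cfsg

namespace Cfsg.Agent.S2975

open Cfsg.Agent.Lib.Helper17

section
variable {G : Type*} [Group G] [Finite G] {p : ℕ} [Fact p.Prime]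

theorem mem_map_conj (H : Subgroup G) (g y : G) :
    y ∈ H.map (MulAut.conj g).toMonoidHom ↔ g⁻¹ * y * g ∈ H := by
  rw [Subgroup.mem_map_equiv]
  simp [MulAut.conj_symm_apply]

/-- (b) `C_G(x)` is transitive on the `x`-invariant Sylow `q`-subgroups. -/
theorem part_b (x : G) (hx : orderOf x = p) (hiso : Cfsg.IsIsolated x) {q : ℕ} [Fact q.Prime]
    (S₁ S₂ : Sylow q G) (h₁ : x ∈ Subgroup.normalizer ((S₁ : Subgroup G) : Set G))
    (h₂ : x ∈ Subgroup.normalizer ((S₂ : Subgroup G) : Set G)) :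
    ∃ c ∈ Subgroup.centralizer ({x} : Set G),
      (S₁ : Subgroup G).map (MulAut.conj c).toMonoidHom = (S₂ : Subgroup G) := by
  obtain ⟨g, hg⟩ := MulAction.exists_smul_eq G S₁ S₂
  have hmem : ∀ y, y ∈ (S₂ : Subgroup G) ↔ g⁻¹ * y * g ∈ (S₁ : Subgroup G) := by
    intro y
    rw [← hg, Sylow.coe_subgroup_smul, ← mem_map_conj]
    rfl
  have h3 : g * x * g⁻¹ ∈ Subgroup.normalizer ((S₂ : Subgroup G) : Set G) := by
    apply mem_normalizer_of_forall_conj_mem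
    intro n hn
    rw [hmem] at hn ⊢
    have := conj_mem_of_mem_normalizer h₁ hn
    have e : g⁻¹ * (g * x * g⁻¹ * n * (g * x * g⁻¹)⁻¹) * g = x * (g⁻¹ * n * g) * x⁻¹ := by group
    rw [e]; exact this
  obtain ⟨c, hc, hceq⟩ := isolated_fusion ⟨1, by rw [hx, pow_one]⟩ hiso _ h₂ g h3
  refine ⟨c⁻¹ * g, ?_, ?_⟩
  · rw [Subgroup.mem_centralizer_singleton_iff]
    have e1 : c⁻¹ * g * x = c⁻¹ * (g * x * g⁻¹) * g := by group
    rw [e1, hceq]
    group
  · ext y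
    rw [mem_map_conj]
    have e : (c⁻¹ * g)⁻¹ * y * (c⁻¹ * g) = g⁻¹ * (c * y * c⁻¹) * g := by group
    rw [e, ← hmem]
    exact (Subgroup.mem_normalizer_iff.mp hc y).symm

/-- (a), case `q = p`. -/
theorem part_a_p (x : G) (hx : orderOf x = p) (Q : Subgroup G) (hQ : IsPGroup p ↥Q)
    (hxQ : x ∈ Subgroup.normalizer (Q : Set G))
    (hmax : ∀ R : Subgroup G, IsPGroup p ↥R → x ∈ Subgroup.normalizer (R : Set G) → Q ≤ R → R = Q) :
    ∃ S : Sylow p G, (S : Subgroup G) = Q := by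
  have hxp : IsPGroup p ↥(Subgroup.zpowers x) :=
    isPGroup_zpowers_of_orderOf ⟨1, by rw [hx, pow_one]⟩
  have hsup : IsPGroup p ↥(Subgroup.zpowers x ⊔ Q) :=
    IsPGroup.to_sup_of_normal_right' hxp hQ (by rw [Subgroup.zpowers_le]; exact hxQ)
  have hxN : x ∈ Subgroup.normalizer ((Subgroup.zpowers x ⊔ Q : Subgroup G) : Set G) :=
    Subgroup.normalizer_inf_normalizer_le_normalizer_sup _ _
      ⟨Subgroup.le_normalizer (Subgroup.mem_zpowers x), hxQ⟩
  have h1 := hmax _ hsup hxN le_sup_right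
  have hxQ' : x ∈ Q := by
    rw [← h1]; exact (le_sup_left : Subgroup.zpowers x ≤ _) (Subgroup.mem_zpowers x)
  obtain ⟨S, hS⟩ := hQ.exists_le_sylow
  have hxS : x ∈ Subgroup.normalizer ((S : Subgroup G) : Set G) := Subgroup.le_normalizer (hS hxQ')
  exact ⟨S, hmax S S.isPGroup' hxS hS⟩

/-- (a), case `q ≠ p`. -/
theorem part_a_q (x : G) (hx : orderOf x = p) (hO : Cfsg.pPrimeCore p G = ⊥)
    (hmin : ∀ (H : Subgroup G) (hxH : x ∈ H), H ≠ ⊤ → Cfsg.InZStar p (⟨x, hxH⟩ : ↥H))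
    {q : ℕ} [Fact q.Prime] (hqp : q ≠ p) (Q : Subgroup G) (hQ : IsPGroup q ↥Q)
    (hxQ : x ∈ Subgroup.normalizer (Q : Set G))
    (hmax : ∀ R : Subgroup G, IsPGroup q ↥R → x ∈ Subgroup.normalizer (R : Set G) → Q ≤ R → R = Q)
    (hQ1 : Q ≠ ⊥) : ∃ S : Sylow q G, (S : Subgroup G) = Q := by
  have hp : p.Prime := Fact.out
  have hq : q.Prime := Fact.out
  have hqcop : ∀ k : ℕ, (q ^ k).Coprime p := fun k =>
    Nat.Coprime.pow_left k ((Nat.coprime_primes hq hp).mpr hqp)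
  -- N = N_G(Q) is proper
  obtain ⟨N, hNdef⟩ : ∃ N : Subgroup G, N = Subgroup.normalizer (Q : Set G) := ⟨_, rfl⟩
  have hxN : x ∈ N := by rw [hNdef]; exact hxQ
  have hN : N ≠ ⊤ := by
    intro h
    have hn : Q.Normal := Subgroup.normalizer_eq_top_iff.mp (hNdef ▸ h)
    obtain ⟨k, hk⟩ := IsPGroup.iff_card.mp hQ
    have hc : (Nat.card ↥Q).Coprime p := by rw [hk]; exact hqcop k
    have := Lib.Helper12.le_pPrimeCore p Q hn hc
    rw [hO, le_bot_iff] at this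
    exact hQ1 this
  have hz := hmin N hxN hN
  have hQN : Q ≤ N := by rw [hNdef]; exact Subgroup.le_normalizer
  haveI hQNn : (Q.subgroupOf N).Normal := by rw [hNdef]; infer_instance
  -- inside N
  obtain ⟨S₀⟩ : Nonempty (Sylow q ↥N) := inferInstance
  haveI hOn : (Cfsg.pPrimeCore p ↥N).Normal := Lib.Helper24.pPrimeCore_normal' p
  obtain ⟨H, hH⟩ : ∃ H : Subgroup ↥N, H = (S₀ : Subgroup ↥N) ⊔ Cfsg.pPrimeCore p ↥N := ⟨_, rfl⟩
  have hS₀H : (S₀ : Subgroup ↥N) ≤ H := by rw [hH]; exact le_sup_left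
  have hOH : Cfsg.pPrimeCore p ↥N ≤ H := by rw [hH]; exact le_sup_right
  have hHcop : (Nat.card ↥H).Coprime p := by
    have h1 : Nat.card ↥H ∣ Nat.card ↥(S₀ : Subgroup ↥N) * Nat.card ↥(Cfsg.pPrimeCore p ↥N) := by
      rw [hH]; exact Lib.Helper12.card_sup_dvd_of_normal _ _
    refine Nat.Coprime.coprime_dvd_left h1 (Nat.Coprime.mul_left ?_ (Lib.Helper12.pPrimeCore_coprime p))
    obtain ⟨k, hk⟩ := IsPGroup.iff_card.mp S₀.isPGroup'
    rw [hk]; exact hqcop k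
  have hxH : (⟨x, hxN⟩ : ↥N) ∈ Subgroup.normalizer (H : Set ↥N) := by
    apply mem_normalizer_of_forall_conj_mem
    intro h hh
    have h1 := hz h
    have h2 : (⟨x, hxN⟩ : ↥N) * h * (⟨x, hxN⟩ : ↥N)⁻¹ * h⁻¹ ∈ Cfsg.pPrimeCore p ↥N := by
      have h3 := Subgroup.inv_mem _ h1
      have e : (h * (⟨x, hxN⟩ : ↥N) * h⁻¹ * (⟨x, hxN⟩ : ↥N)⁻¹)⁻¹ =
          (⟨x, hxN⟩ : ↥N) * h * (⟨x, hxN⟩ : ↥N)⁻¹ * h⁻¹ := by group
      rwa [e] at h3
    have h4 := H.mul_mem (hOH h2) hh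
    rwa [inv_mul_cancel_right] at h4
  have hAK : Subgroup.zpowers (⟨x, hxN⟩ : ↥N) ≤ Subgroup.normalizer (H : Set ↥N) := by
    rw [Subgroup.zpowers_le]; exact hxH
  have hcardA : Nat.card ↥(Subgroup.zpowers (⟨x, hxN⟩ : ↥N)) = p := by
    rw [Nat.card_zpowers, Subgroup.orderOf_mk, hx]
  have hcop : (Nat.card ↥(Subgroup.zpowers (⟨x, hxN⟩ : ↥N))).Coprime (Nat.card ↥H) := by
    rw [hcardA]; exact hHcop.symm
  have hsolv : Group.IsSolvable ↥(Subgroup.zpowers (⟨x, hxN⟩ : ↥N)) ∨ Group.IsSolvable ↥H := by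
    left
    haveI : IsCyclic ↥(Subgroup.zpowers (⟨x, hxN⟩ : ↥N)) := inferInstance
    open scoped IsMulCommutative in exact inferInstance
  obtain ⟨P, hP⟩ := Cfsg.Agent.S0023.result _ H hAK hcop hsolv q
  -- T
  obtain ⟨T_N, hT_N⟩ : ∃ T_N : Subgroup ↥N, T_N = (P : Subgroup ↥H).map H.subtype := ⟨_, rfl⟩
  rw [← hT_N] at hP
  have hT_Nq : IsPGroup q ↥T_N := by rw [hT_N]; exact P.isPGroup'.map _
  obtain ⟨T, hT⟩ : ∃ T : Subgroup G, T = T_N.map N.subtype := ⟨_, rfl⟩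
  have hTq : IsPGroup q ↥T := by rw [hT]; exact hT_Nq.map _
  have hxT : x ∈ Subgroup.normalizer (T : Set G) := by
    have h1 := Subgroup.le_normalizer_map (H := T_N) N.subtype
    rw [← hT] at h1
    exact h1 ⟨⟨x, hxN⟩, hP (Subgroup.mem_zpowers _), rfl⟩
  -- Q ≤ T
  have hQ_N : IsPGroup q ↥(Q.subgroupOf N) := hQ.comap_subtype
  have hQS₀ : Q.subgroupOf N ≤ S₀ := Lib.Helper24.normal_pgroup_le_sylow _ hQ_N S₀
  haveI : ((Q.subgroupOf N).subgroupOf H).Normal := inferInstance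
  have hQP : (Q.subgroupOf N).subgroupOf H ≤ P :=
    Lib.Helper24.normal_pgroup_le_sylow _ hQ_N.comap_subtype P
  have hQT : Q ≤ T := by
    intro y hy
    rw [hT, hT_N]
    have h1 : (⟨y, hQN hy⟩ : ↥N) ∈ Q.subgroupOf N := by rw [Subgroup.mem_subgroupOf]; exact hy
    have h2 : (⟨y, hQN hy⟩ : ↥N) ∈ H := hS₀H (hQS₀ h1)
    have h3 : (⟨⟨y, hQN hy⟩, h2⟩ : ↥H) ∈ (Q.subgroupOf N).subgroupOf H := by
      rw [Subgroup.mem_subgroupOf]; exact h1
    exact ⟨⟨y, hQN hy⟩, ⟨⟨⟨y, hQN hy⟩, h2⟩, hQP h3, rfl⟩, rfl⟩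
  have hTQ : T = Q := hmax T hTq hxT hQT
  -- cardinalities
  have hcardT : Nat.card ↥T = Nat.card ↥(P : Subgroup ↥H) := by
    rw [hT, Subgroup.card_map_of_injective N.subtype_injective, hT_N,
      Subgroup.card_map_of_injective H.subtype_injective]
  have hS₀_H : IsPGroup q ↥((S₀ : Subgroup ↥N).subgroupOf H) := S₀.isPGroup'.comap_subtype
  obtain ⟨P', hP'⟩ := hS₀_H.exists_le_sylow
  have hcard1 : Nat.card ↥(S₀ : Subgroup ↥N) ≤ Nat.card ↥(P : Subgroup ↥H) := by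
    calc Nat.card ↥(S₀ : Subgroup ↥N) = Nat.card ↥((S₀ : Subgroup ↥N).subgroupOf H) :=
          (Nat.card_congr (Subgroup.subgroupOfEquivOfLe hS₀H).toEquiv).symm
      _ ≤ Nat.card ↥(P' : Subgroup ↥H) := Subgroup.card_le_of_le hP'
      _ = Nat.card ↥(P : Subgroup ↥H) := by
          rw [Sylow.card_eq_multiplicity, Sylow.card_eq_multiplicity]
  have hcardQ : Nat.card ↥(Q.subgroupOf N) = Nat.card ↥Q :=
    Nat.card_congr (Subgroup.subgroupOfEquivOfLe hQN).toEquiv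
  have hQS₀eq : Q.subgroupOf N = S₀ :=
    Subgroup.eq_of_le_of_card_ge hQS₀ (by rw [hcardQ, ← hTQ, hcardT]; exact hcard1)
  -- Q is Sylow in G
  obtain ⟨S, hS⟩ := hQ.exists_le_sylow
  refine ⟨S, ?_⟩
  symm
  apply eq_of_normalizer_inf_le Q S S.isPGroup' hS
  intro y hy
  have hyN : y ∈ N := by rw [hNdef]; exact hy.1
  have hR : IsPGroup q ↥((N ⊓ S : Subgroup G).subgroupOf N) :=
    (S.isPGroup'.to_le inf_le_right).comap_subtype
  have hle : (S₀ : Subgroup ↥N) ≤ (N ⊓ S : Subgroup G).subgroupOf N := by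
    rw [← hQS₀eq]
    intro z hz
    rw [Subgroup.mem_subgroupOf] at hz ⊢
    exact ⟨z.2, hS hz⟩
  have hmaxS := S₀.is_maximal' hR hle
  have hy' : (⟨y, hyN⟩ : ↥N) ∈ (N ⊓ S : Subgroup G).subgroupOf N := by
    rw [Subgroup.mem_subgroupOf]; exact ⟨hyN, hy.2⟩
  rw [hmaxS, ← hQS₀eq, Subgroup.mem_subgroupOf] at hy'
  exact hy'

end

/-- Let G be a finite group, p a prime and x ∈ G an isolated element of order p (the only conjugate of x commuting with x is x) which is not central modulo the largest normal subgroup of order prime to p, while x is central modulo the largest normal subgroup of order prime to p in every proper subgroup containing x, and the image of x is so in every quotient of G by a nontrivial normal subgroup (a minimal counterexample to the Z*_p statement). Then for every prime q, every q-subgroup of G that is normalized by x and maximal among the q-subgroups normalized by x is either trivial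 or a Sylow q-subgroup of G; and C_G(x) permutes the x-invariant Sylow q-subgroups of G transitively by conjugation. -/
theorem result {G : Type*} [Group G] [Finite G] {p : ℕ} [Fact p.Prime] (x : G) (hx : orderOf x = p) (hiso : Cfsg.IsIsolated x) (hnz : ¬ Cfsg.InZStar p x) (hmin : ∀ (H : Subgroup G) (hxH : x ∈ H), H ≠ ⊤ → Cfsg.InZStar p (⟨x, hxH⟩ : ↥H)) (hquot : ∀ (N : Subgroup G) [N.Normal], N ≠ ⊥ → Cfsg.InZStar p (QuotientGroup.mk x : G ⧸ N)) (q : ℕ) [Fact q.Prime] : (∀ Q : Subgroup G, IsPGroup q ↥Q → x ∈ Subgroup.normalizer (Q : Set G) → (∀ R : Subgroup G, IsPGroup q ↥R → x ∈ Subgroup.normalizer (R : Set G) → Q ≤ R → R = Q) → Q = ⊥ ∨ ∃ S : Sylow q G, (S : Subgroup G) = Q) ∧ (∀ S₁ S₂ : Sylow q G, x ∈ Subgroup.normalizer ((S₁ : Subgroup G) : Set G) → x ∈ Subgroup.normalizer ((S₂ : Subgroup G) : Set G) → ∃ c ∈ Subgroup.centralizer ({x} : Set G), (S₁ : Subgroup G).map (MulAut.conj c).toMonoidHom = (S₂ : Subgroup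 G)) := by
  have hO := Cfsg.Agent.S2972.pPrimeCore_eq_bot x hnz hquot
  refine ⟨?_, fun S₁ S₂ h₁ h₂ => part_b x hx hiso S₁ S₂ h₁ h₂⟩
  intro Q hQ hxQ hmax
  by_cases hqp : q = p
  · subst hqp
    exact Or.inr (part_a_p x hx Q hQ hxQ hmax)
  · by_cases hQ1 : Q = ⊥
    · exact Or.inl hQ1
    · exact Or.inr (part_a_q x hx hO hmin hqp Q hQ hxQ hmax hQ1)

end Cfsg.Agent.S2975

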