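import Cfsg.Statements.S2998
import Cfsg.Agent.Lib.Helper16.StronglyEmbedded

set_option autoImplicit false
open Cfsg

namespace Cfsg.Agent.S2998

/-- Let G be a finite group, p a prime, P a Sylow p-subgroup of G and x ∈ P an element such that N_G(R) ≤ C_G(x) for every nontrivial subgroup R of P. Then P ≤ C_G(x); every G-conjugate of x lying in P equals x (so g ∈ C_G(x) whenever g x g⁻¹ ∈ P); and for every normal subgroup N of G, the image of x in G ⧸ N has the same property with respect to the image of P: the normalizer of every nontrivial subgroup of the image of P centralizes the image of x. -/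
theorem result {G : Type*} [Group G] [Finite G] {p : ℕ} [Fact p.Prime] (P : Sylow p G) (x : G) (hxP : x ∈ (P : Subgroup G)) (hlc : ∀ R : Subgroup G, R ≤ (P : Subgroup G) → R ≠ ⊥ → Subgroup.normalizer (R : Set G) ≤ Subgroup.centralizer ({x} : Set G)) : (P : Subgroup G) ≤ Subgroup.centralizer ({x} : Set G) ∧ (∀ g : G, g * x * g⁻¹ ∈ (P : Subgroup G) → g * x * g⁻¹ = x) ∧ ∀ (N : Subgroup G) [N.Normal], ∀ R : Subgroup (G ⧸ N), R ≤ (P : Subgroup G).map (QuotientGroup.mk' N) → R ≠ ⊥ → Subgroup.normalizer (R : Set (G ⧸ N)) ≤ Subgroup.centralizer ({(QuotientGroup.mk x : G ⧸ N)} : Set (G ⧸ N)) := by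
  classical
  have hp : p.Prime := Fact.out
  -- Part 1
  have hPM : (P : Subgroup G) ≤ Subgroup.centralizer ({x} : Set G) := by
    by_cases hP : (P : Subgroup G) = ⊥
    · rw [hP]; exact bot_le
    · exact Subgroup.le_normalizer.trans (hlc P le_rfl hP)
  refine ⟨hPM, ?_, ?_⟩
  · -- Part 2
    intro g hgP
    by_cases hMtop : Subgroup.centralizer ({x} : Set G) = ⊤
    · have hg : g ∈ Subgroup.centralizer ({x} : Set G) := by rw [hMtop]; exact Subgroup.mem_top g
      rw [Subgroup.mem_centralizer_singleton_iff] at hg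
      rw [hg]; group
    · have hx1 : x ≠ 1 := by
        intro hx
        apply hMtop
        rw [hx, Subgroup.centralizer_eq_top_iff_subset]
        intro z hz
        rw [Set.mem_singleton_iff.mp hz]
        exact Subgroup.one_mem _
      have hPne : (P : Subgroup G) ≠ ⊥ := by
        intro hb
        apply hx1
        rw [hb, Subgroup.mem_bot] at hxP
        exact hxP
      have hdiv : p ∣ Nat.card G :=
        (Lib.Helper16.dvd_card_of_isPGroup_ne_bot P.isPGroup' hPne).trans
          (Subgroup.card_subgroup_dvd_card _)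
      have hΓ : kGeneratedCore p 1 (P : Subgroup G) ≤ Subgroup.centralizer ({x} : Set G) :=
        (Lib.Helper16.kGeneratedCore_one_le_iff P.isPGroup' _).mpr (fun Q hQP hQ1 => hlc Q hQP hQ1)
      have hspe : IsStronglyPEmbedded p (Subgroup.centralizer ({x} : Set G)) :=
        ⟨hdiv, hMtop, P, hΓ⟩
      have hg : g ∈ Subgroup.centralizer ({x} : Set G) := by
        by_contra hgM
        apply Lib.Helper16.spe_inter_conj hspe hgM
        have hy1 : g * x * g⁻¹ ≠ 1 := by
          intro h
          apply hx1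
          have : x = g⁻¹ * (g * x * g⁻¹) * g := by group
          rw [this, h]; group
        have hzp : IsPGroup p (Subgroup.zpowers (g * x * g⁻¹)) :=
          P.isPGroup'.to_le (by rw [Subgroup.zpowers_le]; exact hgP)
        have hz1 : Subgroup.zpowers (g * x * g⁻¹) ≠ ⊥ := by
          rw [Ne, Subgroup.zpowers_eq_bot]; exact hy1
        have hle : Subgroup.zpowers (g * x * g⁻¹) ≤
            Subgroup.centralizer ({x} : Set G) ⊓
              (Subgroup.centralizer ({x} : Set G)).map (MulAut.conj g).toMonoidHom := by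
          rw [Subgroup.zpowers_le]
          refine ⟨hPM hgP, ?_⟩
          show g * x * g⁻¹ ∈ (Subgroup.centralizer ({x} : Set G)).map (MulAut.conj g).toMonoidHom
          rw [Lib.Helper16.mem_map_conj_iff]
          have : g⁻¹ * (g * x * g⁻¹) * g = x := by group
          rw [this, Subgroup.mem_centralizer_singleton_iff]
        exact (Lib.Helper16.dvd_card_of_isPGroup_ne_bot hzp hz1).trans (Subgroup.card_dvd_of_le hle)
      rw [Subgroup.mem_centralizer_singleton_iff] at hg
      rw [hg]; group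
  · -- Part 3
    intro N hN R hRP hR1 gbar hgbar
    obtain ⟨g, rfl⟩ := QuotientGroup.mk_surjective gbar
    have hQP : (P : Subgroup G) ⊓ R.comap (QuotientGroup.mk' N) ≤ P := inf_le_left
    have hQp : IsPGroup p ↥((P : Subgroup G) ⊓ R.comap (QuotientGroup.mk' N)) :=
      P.isPGroup'.to_le hQP
    have hRQ : ∀ r ∈ R, ∃ q ∈ (P : Subgroup G) ⊓ R.comap (QuotientGroup.mk' N),
        (QuotientGroup.mk' N) q = r := by
      intro r hr
      obtain ⟨u, hu, rfl⟩ := hRP hr
      exact ⟨u, ⟨hu, hr⟩, rfl⟩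
    have hQ1 : (P : Subgroup G) ⊓ R.comap (QuotientGroup.mk' N) ≠ ⊥ := by
      intro hb
      apply hR1
      rw [eq_bot_iff]
      intro r hr
      obtain ⟨q, hq, rfl⟩ := hRQ r hr
      rw [hb, Subgroup.mem_bot] at hq
      rw [hq, map_one]; exact Subgroup.one_mem _
    have hNQ := hlc _ hQP hQ1
    have hNL : N ≤ R.comap (QuotientGroup.mk' N) := by
      intro z hz
      show (QuotientGroup.mk' N) z ∈ R
      have : (QuotientGroup.mk' N) z = 1 := (QuotientGroup.eq_one_iff z).mpr hz
      rw [this]; exact R.one_mem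
    -- g normalizes L
    have hgL : ∀ l ∈ R.comap (QuotientGroup.mk' N), g * l * g⁻¹ ∈ R.comap (QuotientGroup.mk' N) := by
      intro l hl
      show (QuotientGroup.mk' N) (g * l * g⁻¹) ∈ R
      rw [map_mul, map_mul, map_inv]
      exact (Subgroup.mem_normalizer_iff.mp hgbar ((QuotientGroup.mk' N) l)).mp hl
    -- P ⊓ N is a maximal p-subgroup of N
    have hPN : ∀ T : Subgroup G, IsPGroup p T → (P : Subgroup G) ⊓ N ≤ T → T ≤ N →
        T = (P : Subgroup G) ⊓ N := by
      intro T hT hle hTN
      obtain ⟨y, -, hy⟩ := Lib.Helper16.exists_conj_le_sylow P le_top (le_top : T ≤ ⊤) hT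
      have h1 : T.map (MulAut.conj y).toMonoidHom ≤ (P : Subgroup G) ⊓ N := by
        refine le_inf hy ?_
        rintro _ ⟨t, ht, rfl⟩
        exact hN.conj_mem t (hTN ht) y
      symm
      apply Subgroup.eq_of_le_of_card_ge hle
      rw [← Lib.Helper16.card_map_conj T y]
      exact Subgroup.card_le_of_le h1
    -- Q is a maximal p-subgroup of L
    have hmax : ∀ Q' : Subgroup G, IsPGroup p Q' →
        (P : Subgroup G) ⊓ R.comap (QuotientGroup.mk' N) ≤ Q' →
        Q' ≤ R.comap (QuotientGroup.mk' N) →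
        Q' = (P : Subgroup G) ⊓ R.comap (QuotientGroup.mk' N) := by
      intro Q' hQ' hle hQ'L
      have hN' : Q' ⊓ N = (P : Subgroup G) ⊓ N := by
        apply hPN _ (hQ'.to_le inf_le_left) _ inf_le_right
        intro z hz
        exact ⟨hle ⟨hz.1, hNL hz.2⟩, hz.2⟩
      apply le_antisymm _ hle
      intro q' hq'
      obtain ⟨q, hq, hqq⟩ := hRQ ((QuotientGroup.mk' N) q') (hQ'L hq')
      have h2 : q⁻¹ * q' ∈ Q' ⊓ N := by
        refine ⟨Q'.mul_mem (Q'.inv_mem (hle hq)) hq', ?_⟩
        have : (QuotientGroup.mk' N) (q⁻¹ * q') = 1 := by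
          rw [map_mul, map_inv, hqq]; group
        exact (QuotientGroup.eq_one_iff _).mp this
      rw [hN'] at h2
      have h3 : q⁻¹ * q' ∈ (P : Subgroup G) ⊓ R.comap (QuotientGroup.mk' N) :=
        ⟨h2.1, hNL h2.2⟩
      have : q' = q * (q⁻¹ * q') := by group
      rw [this]; exact Subgroup.mul_mem _ hq h3
    have hQg : ((P : Subgroup G) ⊓ R.comap (QuotientGroup.mk' N)).map (MulAut.conj g).toMonoidHom ≤
        R.comap (QuotientGroup.mk' N) := by
      rintro _ ⟨q, hq, rfl⟩
      exact hgL q hq.2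
    obtain ⟨c, hcL, hc⟩ := Lib.Helper16.exists_conj_le_of_maximal hQg
      (Lib.Helper16.isPGroup_map_conj hQp g) (inf_le_right) hQp hmax
    rw [Lib.Helper16.map_conj_map_conj] at hc
    have hcg : c * g ∈ Subgroup.centralizer ({x} : Set G) :=
      hNQ (Lib.Helper16.mem_normalizer_of_map_conj_le hc)
    obtain ⟨u, huQ, hu⟩ := hRQ ((QuotientGroup.mk' N) c) hcL
    have huM : u ∈ Subgroup.centralizer ({x} : Set G) := hPM (hQP huQ)
    have hm : u⁻¹ * (c * g) ∈ Subgroup.centralizer ({x} : Set G) :=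
      Subgroup.mul_mem _ (Subgroup.inv_mem _ huM) hcg
    have hπ : (QuotientGroup.mk g : G ⧸ N) = (QuotientGroup.mk' N) (u⁻¹ * (c * g)) := by
      rw [map_mul, map_mul, map_inv, hu]
      simp
    rw [hπ]
    rw [Subgroup.mem_centralizer_singleton_iff] at hm ⊢
    show (QuotientGroup.mk' N) (u⁻¹ * (c * g)) * (QuotientGroup.mk' N) x =
      (QuotientGroup.mk' N) x * (QuotientGroup.mk' N) (u⁻¹ * (c * g))
    rw [← map_mul, ← map_mul, hm]

end Cfsg.Agent.S2998
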