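import Cfsg.Statements.S3003
import Cfsg.Agent.Lib.Helper17.Basic
import Cfsg.Agent.Lib.Helper16.StronglyEmbedded
import Cfsg.Agent.Lib.Helper8.Hyperplane
import Cfsg.Agent.Lib.Helper4.Basic
import Cfsg.Agent.Lib.Helper20.PGroupBasics

set_option autoImplicit false
open Cfsg

namespace Cfsg.Agent.S3003

/-- Let G be a finite group, p a prime and Q a large p-subgroup of G: C_G(Q) ≤ Q and N_G(U) ≤ N_G(Q) for every nontrivial subgroup U of C_G(Q). Let Q ≤ G₁ ≤ G, let R be a subgroup of order prime to p normalized by G₁, and let U ≤ G₁ be a p-subgroup. If U contains a nontrivial element which is G₁-conjugate to an element of Z(Q), then C_R(U) = 1. In particular, if U is elementary abelian of order at least p² and every maximal subgroup of U contains a nontrivial element G₁-conjugate into Z(Q), then R = 1. -/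
theorem result {G : Type*} [Group G] [Finite G] {p : ℕ} [Fact p.Prime] (Q : Subgroup G) (hQp : IsPGroup p ↥Q) (hlarge : Cfsg.IsLarge Q) (G₁ : Subgroup G) (hQG : Q ≤ G₁) (R : Subgroup G) (hR : (Nat.card ↥R).Coprime p) (hGR : G₁ ≤ Subgroup.normalizer (R : Set G)) (U : Subgroup G) (hUG : U ≤ G₁) (hUp : IsPGroup p ↥U) : ((∃ x ∈ U, x ≠ 1 ∧ ∃ g ∈ G₁, g * x * g⁻¹ ∈ Q ⊓ Subgroup.centralizer (Q : Set G)) → R ⊓ Subgroup.centralizer (U : Set G) = ⊥) ∧ (Cfsg.IsElementaryAbelian p U → p ^ 2 ≤ Nat.card ↥U → (∀ U₀ : Subgroup G, U₀ ≤ U → IsCoatom (U₀.subgroupOf U) → ∃ x ∈ U₀, x ≠ 1 ∧ ∃ g ∈ G₁, g * x * g⁻¹ ∈ Q ⊓ Subgroup.centralizer (Q : Set G)) → R = ⊥) := by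
  classical
  have hp : p.Prime := Fact.out
  obtain ⟨hCQ, hQbang⟩ := hlarge
  -- `Q ⊓ R = ⊥`
  have hQR : ∀ y : G, y ∈ Q → y ∈ R → y = 1 := by
    intro y hyQ hyR
    have h1 : IsPGroup p ↥(Q ⊓ R : Subgroup G) := hQp.to_le inf_le_left
    obtain ⟨k, hk⟩ := IsPGroup.iff_card.mp h1
    have h2 : Nat.card ↥(Q ⊓ R : Subgroup G) ∣ Nat.card ↥R := Subgroup.card_dvd_of_le inf_le_right
    have h3 : (Nat.card ↥(Q ⊓ R : Subgroup G)).Coprime p := Nat.Coprime.coprime_dvd_left h2 hR
    have h4 : Nat.card ↥(Q ⊓ R : Subgroup G) = 1 := by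
      rcases Nat.eq_zero_or_pos k with rfl | hkpos
      · simpa using hk
      · exfalso
        rw [hk] at h3
        have h5 : p ∣ Nat.gcd (p ^ k) p := Nat.dvd_gcd (dvd_pow_self p hkpos.ne') dvd_rfl
        rw [Nat.Coprime] at h3
        rw [h3] at h5
        exact hp.one_lt.ne' (Nat.dvd_one.mp h5)
    have h5 := Subgroup.card_eq_one.mp h4
    have h6 : y ∈ Q ⊓ R := ⟨hyQ, hyR⟩
    rw [h5, Subgroup.mem_bot] at h6
    exact h6
  -- key lemma
  have key : ∀ U' : Subgroup G,
      (∃ x ∈ U', x ≠ 1 ∧ ∃ g ∈ G₁, g * x * g⁻¹ ∈ Q ⊓ Subgroup.centralizer (Q : Set G)) →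
      R ⊓ Subgroup.centralizer (U' : Set G) = ⊥ := by
    rintro U' ⟨x, hxU, hx1, g, hg, hz⟩
    rw [eq_bot_iff]
    intro r hr
    rw [Subgroup.mem_bot]
    obtain ⟨hrR, hrC⟩ := hr
    have hrx : x * r = r * x := Subgroup.mem_centralizer_iff.mp hrC x hxU
    obtain ⟨z, hzdef⟩ : ∃ z, z = g * x * g⁻¹ := ⟨_, rfl⟩
    rw [← hzdef] at hz
    obtain ⟨r', hr'def⟩ : ∃ r', r' = g * r * g⁻¹ := ⟨_, rfl⟩
    have hz1 : z ≠ 1 := by
      intro h
      apply hx1
      have : x = g⁻¹ * z * g := by rw [hzdef]; group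
      rw [this, h]; group
    have hr'R : r' ∈ R := by
      rw [hr'def]
      exact Cfsg.Agent.Lib.Helper17.conj_mem_of_mem_normalizer (hGR hg) hrR
    have hr'z : r' * z = z * r' := by
      rw [hr'def, hzdef]
      calc g * r * g⁻¹ * (g * x * g⁻¹) = g * (r * x) * g⁻¹ := by group
        _ = g * (x * r) * g⁻¹ := by rw [hrx]
        _ = g * x * g⁻¹ * (g * r * g⁻¹) := by group
    have hr'N : r' ∈ Subgroup.normalizer (Q : Set G) := by
      apply hQbang (Subgroup.zpowers z)
      · rw [Subgroup.zpowers_le]; exact hz.2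
      · intro h
        apply hz1
        have : z ∈ Subgroup.zpowers z := Subgroup.mem_zpowers z
        rw [h, Subgroup.mem_bot] at this
        exact this
      · apply Cfsg.Agent.Lib.Helper16.centralizer_singleton_le_normalizer_zpowers z
        rw [Subgroup.mem_centralizer_singleton_iff]
        exact hr'z
    have hr'C : r' ∈ Subgroup.centralizer (Q : Set G) := by
      rw [Subgroup.mem_centralizer_iff]
      intro q hq
      have h1 : r' * q * r'⁻¹ * q⁻¹ ∈ Q :=
        Q.mul_mem (Cfsg.Agent.Lib.Helper17.conj_mem_of_mem_normalizer hr'N hq) (Q.inv_mem hq)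
      have h2 : r' * q * r'⁻¹ * q⁻¹ ∈ R := by
        have h3 : q * r'⁻¹ * q⁻¹ ∈ R :=
          Cfsg.Agent.Lib.Helper17.conj_mem_of_mem_normalizer (hGR (hQG hq)) (R.inv_mem hr'R)
        have h4 : r' * q * r'⁻¹ * q⁻¹ = r' * (q * r'⁻¹ * q⁻¹) := by group
        rw [h4]
        exact R.mul_mem hr'R h3
      have h5 := hQR _ h1 h2
      calc q * r' = (r' * q * r'⁻¹ * q⁻¹)⁻¹ * (r' * q) := by group
        _ = r' * q := by rw [h5]; group
    have hr'1 : r' = 1 := hQR r' (hCQ hr'C) hr'R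
    have : r = g⁻¹ * r' * g := by rw [hr'def]; group
    rw [this, hr'1]; group
  refine ⟨key U, ?_⟩
  intro hUel hUcard hhyp
  by_contra hR1
  have hUN : U ≤ Subgroup.normalizer (R : Set G) := hUG.trans hGR
  have hcop : (Nat.card ↥U).Coprime (Nat.card ↥R) := by
    obtain ⟨k, hk⟩ := IsPGroup.iff_card.mp hUp
    rw [hk]
    exact Nat.Coprime.pow_left k hR.symm
  have hRbot : ¬ R ≤ ⊥ := fun h => hR1 (le_bot_iff.mp h)
  obtain ⟨B, hBU, hBcard, hBC⟩ :=
    Cfsg.Agent.Lib.Helper8.exists_hyperplane_centralizer_not_le p U R ⊥ hUel hUN hcop hRbot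
  -- find a coatom `U₀` of `U` with `U₀ ≤ B` or `B ≤ ...`: we need `U₀ ≤ U`, coatom, and `C_R(B) ≤ C_R(U₀)`
  have hex : ∃ U₀ : Subgroup G, U₀ ≤ B ∧ U₀ ≤ U ∧ IsCoatom (U₀.subgroupOf U) := by
    by_cases hBeq : B = U
    · -- any coatom
      haveI : Nontrivial ↥U := by
        rw [← Finite.one_lt_card_iff_nontrivial]
        calc 1 < p ^ 2 := Nat.one_lt_pow (by norm_num) hp.one_lt
          _ ≤ Nat.card ↥U := hUcard
      obtain ⟨C', hC'⟩ : ∃ C' : Subgroup ↥U, IsCoatom C' := by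
        rcases eq_top_or_exists_le_coatom (⊥ : Subgroup ↥U) with h | ⟨C', hC', -⟩
        · exact absurd h bot_ne_top
        · exact ⟨C', hC'⟩
      refine ⟨C'.map U.subtype, ?_, Subgroup.map_subtype_le _, ?_⟩
      · rw [hBeq]; exact Subgroup.map_subtype_le _
      · have : (C'.map U.subtype).subgroupOf U = C' := by
          ext y
          rw [Subgroup.mem_subgroupOf]
          constructor
          · rintro ⟨y', hy', hyy'⟩
            have : y' = y := Subtype.ext hyy'
            rw [← this]; exact hy'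
          · intro hy
            exact ⟨y, hy, rfl⟩
        rw [this]; exact hC'
    · refine ⟨B, le_rfl, hBU, ?_⟩
      have h1 := Cfsg.Agent.Lib.Helper4.card_mul_relIndex hBU
      have hne1 : B.relIndex U ≠ 1 := by
        intro h
        apply hBeq
        apply le_antisymm hBU
        exact Subgroup.relIndex_eq_one.mp h
      have hle : B.relIndex U ≤ p := by
        have hBpos : 0 < Nat.card ↥B := Nat.card_pos
        rw [← h1, mul_comm] at hBcard
        exact Nat.le_of_mul_le_mul_right hBcard hBpos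
      have hdvd : B.relIndex U ∣ Nat.card ↥U := Dvd.intro_left _ h1
      obtain ⟨k, hk⟩ := IsPGroup.iff_card.mp hUp
      rw [hk] at hdvd
      obtain ⟨j, -, hj⟩ := (Nat.dvd_prime_pow hp).1 hdvd
      have hidx : B.relIndex U = p := by
        rcases j with _ | _ | j
        · exact absurd (by simpa using hj) hne1
        · simpa using hj
        · exfalso
          rw [hj] at hle
          have : p ^ 2 ≤ p ^ (j + 1 + 1) := Nat.pow_le_pow_right hp.pos (by omega)
          have h2 : p < p ^ 2 := by nlinarith [hp.two_le]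
          omega
      have hidx' : (B.subgroupOf U).index = p := hidx
      refine ⟨?_, fun C' hlt => ?_⟩
      · intro htop
        rw [htop, Subgroup.index_top] at hidx'
        exact hp.one_lt.ne hidx'
      · exact Cfsg.Agent.Lib.Helper20.eq_top_of_index_prime hp hidx' hlt.le (not_le_of_gt hlt)
  obtain ⟨U₀, hU₀B, hU₀U, hU₀co⟩ := hex
  have h1 := key U₀ (hhyp U₀ hU₀U hU₀co)
  apply hBC
  rw [← h1]
  exact inf_le_inf_left _ (Subgroup.centralizer_le (fun y hy => hU₀B hy))

end Cfsg.Agent.S3003
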