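import Cfsg.Statements.S3005
import Cfsg.Agent.Lib.Helper17.CDBridge
import Mathlib.Tactic

set_option autoImplicit false
open scoped Pointwise
open Cfsg

namespace Cfsg.Agent.S3005

open Cfsg.Agent.Lib.Helper17
open scoped Pointwise

theorem cl_sup {P : Type*} [Group P] [Finite P] (Q R : Subgroup P) (hQ : Cfsg.IsCentrallyLarge Q)
    (hR : Cfsg.IsCentrallyLarge R) :
    ((Q ⊔ R : Subgroup P) : Set P) = (Q : Set P) * (R : Set P) ∧ Cfsg.IsCentrallyLarge (Q ⊔ R) := by
  rw [isCentrallyLarge_iff] at hQ hR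
  obtain ⟨h1, -, h3, -, -⟩ := hQ.1.sup_inf hR.1
  refine ⟨h3, ?_⟩
  rw [isCentrallyLarge_iff]
  refine ⟨h1, ?_⟩
  rw [centralizer_sup_eq]
  exact inf_le_left.trans (hQ.2.trans le_sup_left)

theorem cl_supClosed (P : Type*) [Group P] [Finite P] :
    SupClosed {R : Subgroup P | Cfsg.IsCentrallyLarge R} :=
  fun _ ha _ hb => (cl_sup _ _ ha hb).2

theorem exists_cl (P : Type*) [Group P] [Finite P] : ∃ R : Subgroup P, Cfsg.IsCentrallyLarge R := by
  obtain ⟨R, h1, h2⟩ := exists_isCDMax_centralizer_le P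
  exact ⟨R, (isCentrallyLarge_iff R).2 ⟨h1, h2⟩⟩

theorem exists_mcl (P : Type*) [Group P] [Finite P] :
    ∃ R : Subgroup P, Cfsg.IsMinimalCentrallyLarge R := by
  obtain ⟨R₀, hR₀⟩ := exists_cl P
  have hne : Nonempty {R : Subgroup P // Cfsg.IsCentrallyLarge R} := ⟨⟨R₀, hR₀⟩⟩
  obtain ⟨⟨R, hR⟩, hmin⟩ := Finite.exists_min
    (fun R : {R : Subgroup P // Cfsg.IsCentrallyLarge R} => Nat.card R.1)
  refine ⟨R, hR, fun R' hle hR' => ?_⟩
  exact Subgroup.eq_of_le_of_card_ge hle (hmin ⟨R', hR'⟩)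

/-- Let P be a finite p-group; call R ≤ P centrally large if |R|·|Z(R)| is as large as possible among subgroups of P, and measure-largest if |R|·|C_P(R)| is as large as possible. Then: a centrally large Q is measure-largest with C_P(Q) = Z(Q); a measure-largest Q is centrally large if and only if C_P(Q) ≤ Q; if Q and R are centrally large then QR = RQ is a centrally large subgroup; and the subgroups generated by all centrally large subgroups, respectively by all minimal centrally large subgroups, are themselves centrally large. -/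
theorem result {p : ℕ} [Fact p.Prime] (P : Type*) [Group P] [Finite P] (hP : IsPGroup p P) : (∀ Q : Subgroup P, Cfsg.IsCentrallyLarge Q → Cfsg.IsCentralizerLarge Q ∧ Subgroup.centralizer (Q : Set P) = Q ⊓ Subgroup.centralizer (Q : Set P)) ∧ (∀ Q : Subgroup P, Cfsg.IsCentralizerLarge Q → (Cfsg.IsCentrallyLarge Q ↔ Subgroup.centralizer (Q : Set P) ≤ Q)) ∧ (∀ Q R : Subgroup P, Cfsg.IsCentrallyLarge Q → Cfsg.IsCentrallyLarge R → ((Q ⊔ R : Subgroup P) : Set P) = (Q : Set P) * (R : Set P) ∧ Cfsg.IsCentrallyLarge (Q ⊔ R)) ∧ Cfsg.IsCentrallyLarge (Cfsg.centrallyLargeJoin P) ∧ Cfsg.IsCentrallyLarge (Cfsg.minimalCentrallyLargeJoin P) := by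
  refine ⟨?_, ?_, ?_, ?_, ?_⟩
  · intro Q hQ
    rw [isCentrallyLarge_iff] at hQ
    refine ⟨(isCentralizerLarge_iff_isCDMax Q).2 hQ.1, ?_⟩
    exact (inf_eq_right.2 hQ.2).symm
  · intro Q hQ
    rw [isCentralizerLarge_iff_isCDMax] at hQ
    rw [isCentrallyLarge_iff]
    exact ⟨fun h => h.2, fun h => ⟨hQ, h⟩⟩
  · intro Q R hQ hR
    exact cl_sup Q R hQ hR
  · unfold Cfsg.centrallyLargeJoin
    obtain ⟨R, hR⟩ := exists_cl P
    exact (cl_supClosed P).sSup_mem_of_nonempty (Set.toFinite _) ⟨R, hR⟩ (fun _ h => h)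
  · unfold Cfsg.minimalCentrallyLargeJoin
    obtain ⟨R, hR⟩ := exists_mcl P
    exact (cl_supClosed P).sSup_mem_of_nonempty (Set.toFinite _) ⟨R, hR⟩ (fun _ h => h.1)

end Cfsg.Agent.S3005
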