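import Cfsg.Statements.S3006
import Cfsg.Agent.Lib.Helper17.CentrallyLarge
import Mathlib.Tactic

set_option autoImplicit false
open scoped Pointwise
open Cfsg

namespace Cfsg.Agent.S3006

open Cfsg.Agent.Lib.Helper17
open scoped Pointwise

/-- Let P be a finite p-group, Q a centrally large subgroup of P (|Q|·|Z(Q)| maximal among subgroups of P) and A an abelian subgroup of P of largest order. Then QA = AQ is a centrally large subgroup of P, C_{QA}(Q ∩ A) = Z(Q)·A, and the subgroup generated by all centrally large subgroups of P contains C_P(Z(J(P))), where J(P) is generated by the abelian subgroups of largest order. -/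
theorem result {p : ℕ} [Fact p.Prime] (P : Type*) [Group P] [Finite P] (hP : IsPGroup p P) (Q A : Subgroup P) (hQ : Cfsg.IsCentrallyLarge Q) (hA : A ∈ Cfsg.maxAbelianSubgroups P) : ((Q ⊔ A : Subgroup P) : Set P) = (Q : Set P) * (A : Set P) ∧ Cfsg.IsCentrallyLarge (Q ⊔ A) ∧ (Q ⊔ A) ⊓ Subgroup.centralizer ((Q ⊓ A : Subgroup P) : Set P) = (Q ⊓ Subgroup.centralizer (Q : Set P)) ⊔ A ∧ (((Q ⊓ Subgroup.centralizer (Q : Set P)) ⊔ A : Subgroup P) : Set P) = ((Q ⊓ Subgroup.centralizer (Q : Set P)) : Set P) * (A : Set P) ∧ Subgroup.centralizer ((Cfsg.thompsonSubgroupA P ⊓ Subgroup.centralizer (Cfsg.thompsonSubgroupA P : Set P) : Subgroup P) : Set P) ≤ Cfsg.centrallyLargeJoin P := by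
  obtain ⟨h1, h2, h3, h4⟩ := cl_sup_maxAbelian Q A hQ hA
  have hCB := centralizer_eq_of_mem_maxAbelian h3
  have hCA := centralizer_eq_of_mem_maxAbelian hA
  have hAle : A ≤ Subgroup.centralizer (A : Set P) := le_of_eq hCA.symm
  have hQ' := (isCentrallyLarge_iff Q).1 hQ
  have hZQ : Q ⊓ Subgroup.centralizer (Q : Set P) = Subgroup.centralizer (Q : Set P) :=
    inf_eq_right.2 hQ'.2
  rw [hZQ]
  set Z := Subgroup.centralizer (Q : Set P) with hZ
  -- three inclusions
  have ha : (Z : Set P) * (A : Set P) ⊆ ((Z ⊔ A : Subgroup P) : Set P) := by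
    rintro _ ⟨z, hz, a, ha, rfl⟩
    exact (Z ⊔ A).mul_mem ((le_sup_left : Z ≤ Z ⊔ A) hz) ((le_sup_right : A ≤ Z ⊔ A) ha)
  have hb : Z ⊔ A ≤ (Q ⊔ A) ⊓ Subgroup.centralizer ((Q ⊓ A : Subgroup P) : Set P) := by
    apply sup_le
    · exact le_inf (hQ'.2.trans le_sup_left) (Subgroup.centralizer_le (fun x hx => hx.1))
    · exact le_inf le_sup_right (hAle.trans (Subgroup.centralizer_le (fun x hx => hx.2)))
  have hc : (((Q ⊔ A) ⊓ Subgroup.centralizer ((Q ⊓ A : Subgroup P) : Set P) : Subgroup P) : Set P)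
      ⊆ (Z : Set P) * (A : Set P) := by
    intro x hx
    have hx1 : x ∈ ((Q ⊔ A : Subgroup P) : Set P) := hx.1
    have hx2 : x ∈ Subgroup.centralizer ((Q ⊓ A : Subgroup P) : Set P) := hx.2
    rw [h1] at hx1
    obtain ⟨q, hq, a, ha', rfl⟩ := hx1
    have haC : a ∈ Subgroup.centralizer ((Q ⊓ A : Subgroup P) : Set P) :=
      (hAle.trans (Subgroup.centralizer_le (fun x hx => hx.2))) ha'
    have hqC : q ∈ Subgroup.centralizer ((Q ⊓ A : Subgroup P) : Set P) := by
      have := (Subgroup.centralizer ((Q ⊓ A : Subgroup P) : Set P)).mul_mem hx2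
        ((Subgroup.centralizer ((Q ⊓ A : Subgroup P) : Set P)).inv_mem haC)
      simpa using this
    have hqZ : q ∈ Subgroup.centralizer (Z : Set P) := le_centralizer_centralizer' Q hq
    have hqB : q ∈ Subgroup.centralizer ((Z ⊔ (Q ⊓ A) : Subgroup P) : Set P) := by
      rw [centralizer_sup_eq]
      exact ⟨hqZ, hqC⟩
    rw [hCB] at hqB
    have hqB' : q ∈ ((Z ⊔ (Q ⊓ A) : Subgroup P) : Set P) := hqB
    rw [h4] at hqB'
    obtain ⟨z, hz, c, hc, rfl⟩ := hqB'
    refine ⟨z, hz, c * a, A.mul_mem hc.2 ha', ?_⟩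
    group
  have e1 : (((Q ⊔ A) ⊓ Subgroup.centralizer ((Q ⊓ A : Subgroup P) : Set P) : Subgroup P) : Set P)
      = ((Z ⊔ A : Subgroup P) : Set P) :=
    Set.Subset.antisymm (hc.trans ha) hb
  refine ⟨h1, h2, SetLike.coe_injective e1, ?_, ?_⟩
  · have hset : ((Q : Set P) ⊓ (Z : Set P)) = (Z : Set P) := inf_eq_right.2 (fun x hx => hQ'.2 hx)
    rw [hset]
    exact Set.Subset.antisymm (e1 ▸ hc) ha
  · -- C(Z(J)) ≤ P_CL
    have hT := centrallyLargeJoin_isCL P
    set T := Cfsg.centrallyLargeJoin P with hTdef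
    have hT' := (isCentrallyLarge_iff T).1 hT
    have hAT : ∀ A' ∈ Cfsg.maxAbelianSubgroups P, A' ≤ T := by
      intro A' hA'
      have h5 := (cl_sup_maxAbelian T A' hT hA').2.1
      have h6 : T ⊔ A' ≤ T := le_sSup h5
      exact le_sup_right.trans h6
    have hJT : Cfsg.thompsonSubgroupA P ≤ T := sSup_le hAT
    have hCT1 : Subgroup.centralizer (T : Set P)
        ≤ Subgroup.centralizer (Cfsg.thompsonSubgroupA P : Set P) :=
      Subgroup.centralizer_le (fun x hx => hJT hx)
    have hCT2 : Subgroup.centralizer (T : Set P) ≤ Cfsg.thompsonSubgroupA P := by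
      have h7 : Subgroup.centralizer (T : Set P) ≤ Subgroup.centralizer (A : Set P) :=
        Subgroup.centralizer_le (fun x hx => hAT A hA hx)
      rw [hCA] at h7
      exact h7.trans (le_sSup hA)
    have h8 : Subgroup.centralizer ((Cfsg.thompsonSubgroupA P ⊓
        Subgroup.centralizer (Cfsg.thompsonSubgroupA P : Set P) : Subgroup P) : Set P)
        ≤ Subgroup.centralizer ((Subgroup.centralizer (T : Set P) : Subgroup P) : Set P) :=
      Subgroup.centralizer_le (fun x hx => ⟨hCT2 hx, hCT1 hx⟩)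
    rw [← hT'.1.centralizer.2] at h8
    exact h8

end Cfsg.Agent.S3006
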