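import Cfsg.Statements.S3007
import Cfsg.Agent.Lib.Helper17.CentrallyLarge
import Mathlib.Tactic
import Mathlib.GroupTheory.Commutator.Basic

set_option autoImplicit false
open Cfsg

namespace Cfsg.Agent.S3007

open Cfsg.Agent.Lib.Helper17
open scoped Pointwise
open scoped commutatorElement

theorem mcl_decomp {P : Type*} [Group P] [Finite P] (Q R : Subgroup P)
    (hQ : Cfsg.IsMinimalCentrallyLarge Q) (hR : Cfsg.IsCentrallyLarge R) :
    (Q ⊓ R) ⊔ Subgroup.centralizer (Q : Set P) = Q ∧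
    (Q : Set P) = ((Q ⊓ R : Subgroup P) : Set P) * (Subgroup.centralizer (Q : Set P) : Set P) ∧
    Nat.card ↥(Q ⊓ R) * Nat.card ↥(Subgroup.centralizer (Q : Set P))
      = Nat.card Q * Nat.card ↥(R ⊓ Subgroup.centralizer (Q : Set P)) := by
  obtain ⟨hQcl, hQmin⟩ := hQ
  have hQ' := (isCentrallyLarge_iff Q).1 hQcl
  have hR' := (isCentrallyLarge_iff R).1 hR
  obtain ⟨-, hI, -, hCI, hCprod⟩ := hQ'.1.sup_inf hR'.1
  obtain ⟨hZmax, hQCC⟩ := hQ'.1.centralizer
  set ZQ := Subgroup.centralizer (Q : Set P) with hZQ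
  set ZR := Subgroup.centralizer (R : Set P) with hZR
  obtain ⟨hTmax, -, hTprod, -, -⟩ := hI.sup_inf hZmax
  have hTle : (Q ⊓ R) ⊔ ZQ ≤ Q := sup_le inf_le_left hQ'.2
  have hTcl : Cfsg.IsCentrallyLarge ((Q ⊓ R) ⊔ ZQ) := by
    rw [isCentrallyLarge_iff]
    refine ⟨hTmax, ?_⟩
    rw [centralizer_sup_eq, hCI, ← hQCC]
    intro x hx
    have hx1 : x ∈ ((ZQ ⊔ ZR : Subgroup P) : Set P) := hx.1
    have hx2 : x ∈ Q := hx.2
    rw [hCprod] at hx1
    obtain ⟨a, ha, b, hb, rfl⟩ := hx1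
    have hbQ : b ∈ Q := by
      have := Q.mul_mem (Q.inv_mem (hQ'.2 ha)) hx2
      simpa using this
    have h1 : a ∈ (Q ⊓ R) ⊔ ZQ := (le_sup_right : ZQ ≤ (Q ⊓ R) ⊔ ZQ) ha
    have h2 : b ∈ (Q ⊓ R) ⊔ ZQ := (le_sup_left : Q ⊓ R ≤ (Q ⊓ R) ⊔ ZQ) ⟨hbQ, hR'.2 hb⟩
    exact ((Q ⊓ R) ⊔ ZQ).mul_mem h1 h2
  have hT : (Q ⊓ R) ⊔ ZQ = Q := hQmin _ hTle hTcl
  refine ⟨hT, ?_, ?_⟩
  · rw [← hTprod, hT]
  · have h := hI.card_mul_card_eq hZmax
    rw [hT] at h
    have h3 : (Q ⊓ R) ⊓ ZQ = R ⊓ ZQ := by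
      rw [inf_comm Q R, inf_assoc, inf_eq_right.2 hQ'.2]
    rw [h3] at h
    exact h

theorem commutator_mul_left_of_commute {P : Type*} [Group P] (a z y : P) (h : Commute z y) :
    ⁅a * z, y⁆ = ⁅a, y⁆ := by
  rw [commutatorElement_def, commutatorElement_def]
  calc a * z * y * (a * z)⁻¹ * y⁻¹ = a * (z * y) * z⁻¹ * a⁻¹ * y⁻¹ := by group
    _ = a * (y * z) * z⁻¹ * a⁻¹ * y⁻¹ := by rw [h.eq]
    _ = a * y * a⁻¹ * y⁻¹ := by group

theorem commutator_mul_right_of_commute {P : Type*} [Group P] (x a z : P) (h : Commute z x) :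
    ⁅x, a * z⁆ = ⁅x, a⁆ := by
  rw [← commutatorElement_inv (a * z) x, ← commutatorElement_inv a x,
    commutator_mul_left_of_commute a z x h]

theorem nat_solve {a b x y i w : ℕ} (ha : 0 < a) (hw : 0 < w) (hx : 0 < x) (hy : 0 < y)
    (k1 : i * x = a * w) (k2 : i * y = b * w) (hM : a * x = b * y) : a = b ∧ x = y := by
  have A : a * y = b * x := by
    have : w * (a * y) = w * (b * x) := by
      calc w * (a * y) = (a * w) * y := by ring
        _ = (i * x) * y := by rw [k1]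
        _ = (i * y) * x := by ring
        _ = (b * w) * x := by rw [k2]
        _ = w * (b * x) := by ring
    exact Nat.eq_of_mul_eq_mul_left hw this
  have B : a * a * (x * y) = b * b * (x * y) := by
    calc a * a * (x * y) = (a * x) * (a * y) := by ring
      _ = (b * y) * (b * x) := by rw [hM, A]
      _ = b * b * (x * y) := by ring
  have C : a * a = b * b := Nat.eq_of_mul_eq_mul_right (Nat.mul_pos hx hy) B
  have D : a = b := Nat.mul_self_inj.1 C
  refine ⟨D, ?_⟩
  rw [← D] at hM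
  exact Nat.eq_of_mul_eq_mul_left ha hM

theorem mcl_card {P : Type*} [Group P] [Finite P] (Q R : Subgroup P)
    (hQ : Cfsg.IsMinimalCentrallyLarge Q) (hR : Cfsg.IsMinimalCentrallyLarge R) :
    Nat.card Q = Nat.card R ∧
    Nat.card ↥(Subgroup.centralizer (Q : Set P)) = Nat.card ↥(Subgroup.centralizer (R : Set P)) := by
  have hQcl := hQ.1
  have hRcl := hR.1
  have hQ' := (isCentrallyLarge_iff Q).1 hQcl
  have hR' := (isCentrallyLarge_iff R).1 hRcl
  obtain ⟨d1, -, k1⟩ := mcl_decomp Q R hQ hRcl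
  obtain ⟨d2, -, k2⟩ := mcl_decomp R Q hR hQcl
  have hRZ : R ⊓ Subgroup.centralizer (Q : Set P)
      = Subgroup.centralizer (Q : Set P) ⊓ Subgroup.centralizer (R : Set P) := by
    apply le_antisymm
    · intro x hx
      refine ⟨hx.2, ?_⟩
      have h1 : x ∈ Subgroup.centralizer (((R ⊓ Q) ⊔ Subgroup.centralizer (R : Set P) : Subgroup P) : Set P) := by
        rw [centralizer_sup_eq]
        exact ⟨Subgroup.centralizer_le (fun y hy => hy.2) hx.2, le_centralizer_centralizer' R hx.1⟩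
      rw [d2] at h1
      exact h1
    · exact le_inf (inf_le_right.trans hR'.2) inf_le_left
  have hQZ : Q ⊓ Subgroup.centralizer (R : Set P)
      = Subgroup.centralizer (Q : Set P) ⊓ Subgroup.centralizer (R : Set P) := by
    apply le_antisymm
    · intro x hx
      refine ⟨?_, hx.2⟩
      have h1 : x ∈ Subgroup.centralizer (((Q ⊓ R) ⊔ Subgroup.centralizer (Q : Set P) : Subgroup P) : Set P) := by
        rw [centralizer_sup_eq]
        exact ⟨Subgroup.centralizer_le (fun y hy => hy.2) hx.2, le_centralizer_centralizer' Q hx.1⟩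
      rw [d1] at h1
      exact h1
    · exact le_inf (inf_le_left.trans hQ'.2) inf_le_right
  rw [hRZ] at k1
  rw [hQZ, inf_comm R Q] at k2
  have hM : cdm Q = cdm R := hQ'.1.cdm_eq hR'.1
  unfold cdm at hM
  exact nat_solve Nat.card_pos Nat.card_pos Nat.card_pos Nat.card_pos k1 k2 hM

theorem mcl_commutator {P : Type*} [Group P] [Finite P] (Q R : Subgroup P)
    (hQ : Cfsg.IsMinimalCentrallyLarge Q) (hR : Cfsg.IsCentrallyLarge R) :
    ⁅Q, Q⁆ = ⁅Q ⊓ R, Q ⊓ R⁆ := by
  obtain ⟨-, hset, -⟩ := mcl_decomp Q R hQ hR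
  apply le_antisymm
  · rw [Subgroup.commutator_le]
    intro q hq q' hq'
    have hq1 : q ∈ (Q : Set P) := hq
    have hq1' : q' ∈ (Q : Set P) := hq'
    rw [hset] at hq1 hq1'
    obtain ⟨a, ha, z, hz, rfl⟩ := hq1
    obtain ⟨a', ha', z', hz', rfl⟩ := hq1'
    have c1 : Commute z (a' * z') := ((Subgroup.mem_centralizer_iff.1 hz) _ hq').symm
    have c2 : Commute z' a := ((Subgroup.mem_centralizer_iff.1 hz') _ ha.1).symm
    rw [commutator_mul_left_of_commute a z _ c1, commutator_mul_right_of_commute a a' z' c2]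
    exact Subgroup.commutator_mem_commutator ha ha'
  · exact Subgroup.commutator_mono inf_le_left inf_le_left

/-- Let P be a finite p-group and Q, R minimal centrally large subgroups of P (centrally large: |Q|·|Z(Q)| maximal among subgroups of P; minimal among such under inclusion). Then Q = (Q ∩ R)·Z(Q), the derived subgroups [Q, Q] and [R, R] coincide, |Q| = |R| and |Z(Q)| = |Z(R)|; and if Q is abelian then the minimal centrally large subgroups of P are exactly the abelian subgroups of P of largest order. -/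
theorem result {p : ℕ} [Fact p.Prime] (P : Type*) [Group P] [Finite P] (hP : IsPGroup p P) (Q R : Subgroup P) (hQ : Cfsg.IsMinimalCentrallyLarge Q) (hR : Cfsg.IsMinimalCentrallyLarge R) : (Q ⊓ R) ⊔ (Q ⊓ Subgroup.centralizer (Q : Set P)) = Q ∧ ⁅Q, Q⁆ = ⁅R, R⁆ ∧ Nat.card ↥Q = Nat.card ↥R ∧ Nat.card ↥(Q ⊓ Subgroup.centralizer (Q : Set P)) = Nat.card ↥(R ⊓ Subgroup.centralizer (R : Set P)) ∧ (IsMulCommutative ↥Q → ∀ X : Subgroup P, Cfsg.IsMinimalCentrallyLarge X ↔ X ∈ Cfsg.maxAbelianSubgroups P) := by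
  have hQcl := hQ.1
  have hRcl := hR.1
  have hQ' := (isCentrallyLarge_iff Q).1 hQcl
  have hR' := (isCentrallyLarge_iff R).1 hRcl
  have hZQ : Q ⊓ Subgroup.centralizer (Q : Set P) = Subgroup.centralizer (Q : Set P) :=
    inf_eq_right.2 hQ'.2
  have hZR : R ⊓ Subgroup.centralizer (R : Set P) = Subgroup.centralizer (R : Set P) :=
    inf_eq_right.2 hR'.2
  rw [hZQ, hZR]
  obtain ⟨d1, -, -⟩ := mcl_decomp Q R hQ hRcl
  obtain ⟨c1, c2⟩ := mcl_card Q R hQ hR
  refine ⟨d1, ?_, c1, c2, ?_⟩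
  · rw [mcl_commutator Q R hQ hRcl, mcl_commutator R Q hR hQcl, inf_comm]
  · intro hQab
    have hQC : Subgroup.centralizer (Q : Set P) = Q :=
      le_antisymm hQ'.2 (Subgroup.le_centralizer_iff_isMulCommutative.2 hQab)
    have hcdmQ : cdm Q = Nat.card Q * Nat.card Q := by
      unfold cdm; rw [hQC]
    -- every abelian subgroup has order at most |Q|
    have hab : ∀ B : Subgroup P, IsMulCommutative B → Nat.card B ≤ Nat.card Q := by
      intro B hB
      have h1 : Nat.card B * Nat.card B ≤ cdm B := by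
        unfold cdm
        exact Nat.mul_le_mul_left _
          (Subgroup.card_le_of_le (Subgroup.le_centralizer_iff_isMulCommutative.2 hB))
      have h2 : cdm B ≤ cdm Q := hQ'.1 B
      rw [hcdmQ] at h2
      exact Nat.mul_self_le_mul_self_iff.1 (h1.trans h2)
    intro X
    constructor
    · intro hX
      obtain ⟨e1, e2⟩ := mcl_card X Q hX hQ
      have hX' := (isCentrallyLarge_iff X).1 hX.1
      rw [hQC] at e2
      have hXC : Subgroup.centralizer (X : Set P) = X :=
        Subgroup.eq_of_le_of_card_ge hX'.2 (le_of_eq (e1.trans e2.symm))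
      refine ⟨Subgroup.le_centralizer_iff_isMulCommutative.1 (le_of_eq hXC.symm), fun B hB => ?_⟩
      rw [e1]
      exact hab B hB
    · intro hX
      have hXC := centralizer_eq_of_mem_maxAbelian hX
      have hXQ : Nat.card X = Nat.card Q := le_antisymm (hab X hX.1) (hX.2 Q hQab)
      have hXmax : IsCDMax X := by
        apply hQ'.1.of_cdm_eq
        rw [hcdmQ]
        unfold cdm
        rw [hXC, hXQ]
      have hXcl : Cfsg.IsCentrallyLarge X :=
        (isCentrallyLarge_iff X).2 ⟨hXmax, le_of_eq hXC⟩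
      refine ⟨hXcl, fun R' hle hR' => ?_⟩
      have hR'' := (isCentrallyLarge_iff R').1 hR'
      apply le_antisymm hle
      calc X = Subgroup.centralizer (X : Set P) := hXC.symm
        _ ≤ Subgroup.centralizer (R' : Set P) := Subgroup.centralizer_le (fun y hy => hle hy)
        _ ≤ R' := hR''.2

end Cfsg.Agent.S3007
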