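import Cfsg.Statements.S3011
import Mathlib
import Cfsg.Agent.S0200

set_option autoImplicit false
open Cfsg

namespace Cfsg.Agent.S3011

theorem eq_one_of_sq_of_odd {G : Type*} [Group G] {x : G} (hx : Odd (orderOf x))
    (h : x * x = 1) : x = 1 := by
  have h2 : x ^ 2 = 1 := by rw [pow_two]; exact h
  have h3 : orderOf x ∣ 2 := orderOf_dvd_of_pow_eq_one h2
  rcases (Nat.dvd_prime Nat.prime_two).1 h3 with h4 | h4
  · exact orderOf_eq_one_iff.1 h4
  · rw [h4] at hx; exact absurd hx (by decide)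

theorem commute_of_pow_commute {G : Type*} [Group G] {x y : G} (n : ℕ)
    (hcop : Nat.Coprime n (orderOf y)) (h : y ^ n * x = x * y ^ n) : y * x = x * y := by
  obtain ⟨m, hm⟩ := exists_pow_eq_self_of_coprime hcop
  have h1 : Commute (y ^ n) x := h
  have h2 : Commute ((y ^ n) ^ m) x := h1.pow_left m
  rw [hm] at h2
  exact h2

/-- If `a` (in `V`) both centralizes and inverts an odd-order element, it is trivial. -/
theorem eq_one_of_inv_of_comm {G : Type*} [Group G] {a h : G} (hh : Odd (orderOf h))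
    (hinv : a * h * a⁻¹ = h⁻¹) (hcomm : a * h = h * a) : h = 1 := by
  apply eq_one_of_sq_of_odd hh
  have h1 : h⁻¹ = h := by
    rw [← hinv, hcomm]; group
  calc h * h = h * h⁻¹ := by rw [h1]
    _ = 1 := by group

theorem sq_comm_of_inverts {G : Type*} [Group G] {u x : G} (hu : u * x⁻¹ * u⁻¹ = x) :
    (u * u) * x = x * (u * u) := by
  have hu' : u * x * u⁻¹ = x⁻¹ := by
    calc u * x * u⁻¹ = (u * x⁻¹ * u⁻¹)⁻¹ := by group
      _ = x⁻¹ := by rw [hu]
  calc u * u * x = u * (u * x * u⁻¹) * u := by group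
    _ = u * x⁻¹ * u := by rw [hu']
    _ = (u * x⁻¹ * u⁻¹) * (u * u) := by group
    _ = x * (u * u) := by rw [hu]

/-- Commuting version: a nonidentity odd-order element centralized by `b` and inverted by `a`
cannot commute with one centralized by `a` and inverted by `b`. -/
theorem sidki_comm {G : Type*} [Group G] (V : Subgroup G) (hS : Cfsg.IsSidkiPair V) (a b : G)
    (ha : a ∈ V) (hb : b ∈ V)
    (hcover : ∀ w ∈ V, w = 1 ∨ w = a ∨ w = b ∨ w = a * b)
    (x y : G) (hx : Odd (orderOf x)) (hy : Odd (orderOf y)) (hx1 : x ≠ 1) (hy1 : y ≠ 1)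
    (hbx : b * x * b⁻¹ = x) (hax : a * x * a⁻¹ = x⁻¹) (hay : a * y * a⁻¹ = y)
    (hby : b * y * b⁻¹ = y⁻¹) (hxy : x * y = y * x) : False := by
  have hodd : Odd (orderOf (x * y)) := by
    have h1 : orderOf (x * y) ∣ Nat.lcm (orderOf x) (orderOf y) :=
      (show Commute x y from hxy).orderOf_mul_dvd_lcm
    have h2 : Nat.lcm (orderOf x) (orderOf y) ∣ orderOf x * orderOf y := Nat.lcm_dvd_mul _ _
    exact Odd.of_dvd_nat (hx.mul hy) (h1.trans h2)
  have hc : (a * b) * (x * y) * (a * b)⁻¹ = (x * y)⁻¹ := by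
    calc (a * b) * (x * y) * (a * b)⁻¹
        = a * ((b * x * b⁻¹) * (b * y * b⁻¹)) * a⁻¹ := by group
      _ = a * (x * y⁻¹) * a⁻¹ := by rw [hbx, hby]
      _ = (a * x * a⁻¹) * (a * y * a⁻¹)⁻¹ := by group
      _ = x⁻¹ * y⁻¹ := by rw [hax, hay]
      _ = (y * x)⁻¹ := by group
      _ = (x * y)⁻¹ := by rw [hxy]
  obtain ⟨w, hwV, hw1, hwz⟩ := hS (x * y) (a * b) (V.mul_mem ha hb) hodd hc
  rcases hcover w hwV with rfl | rfl | rfl | rfl
  · exact hw1 rfl
  · -- `a` centralizes `x * y`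
    have h1 : w * (x * y) * w⁻¹ = x⁻¹ * y := by
      calc w * (x * y) * w⁻¹ = (w * x * w⁻¹) * (w * y * w⁻¹) := by group
        _ = x⁻¹ * y := by rw [hax, hay]
    have h2 : w * (x * y) * w⁻¹ = x * y := by rw [hwz]; group
    rw [h2] at h1
    have h3 : x = x⁻¹ := mul_right_cancel h1
    apply hx1
    apply eq_one_of_sq_of_odd hx
    calc x * x = x * x⁻¹ := by rw [← h3]
      _ = 1 := by group
  · -- `b` centralizes `x * y`
    have h1 : w * (x * y) * w⁻¹ = x * y⁻¹ := by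
      calc w * (x * y) * w⁻¹ = (w * x * w⁻¹) * (w * y * w⁻¹) := by group
        _ = x * y⁻¹ := by rw [hbx, hby]
    have h2 : w * (x * y) * w⁻¹ = x * y := by rw [hwz]; group
    rw [h2] at h1
    have h3 : y = y⁻¹ := mul_left_cancel h1
    apply hy1
    apply eq_one_of_sq_of_odd hy
    calc y * y = y * y⁻¹ := by rw [← h3]
      _ = 1 := by group
  · -- `a * b` centralizes `x * y`
    have h1 : x * y = 1 := eq_one_of_inv_of_comm hodd hc hwz
    have h2 : y = x⁻¹ := by
      calc y = x⁻¹ * (x * y) := by group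
        _ = x⁻¹ := by rw [h1, mul_one]
    rw [h2] at hay
    have h3 : (a * x * a⁻¹)⁻¹ = x⁻¹ := by rw [← hay]; group
    rw [hax, inv_inv] at h3
    apply hx1
    apply eq_one_of_sq_of_odd hx
    calc x * x = x * x⁻¹ := by rw [← h3]
      _ = 1 := by group

/-- Key lemma: the sets `I_a` and `I_b` cannot both be nonempty. -/
theorem sidki_key {G : Type*} [Group G] (V : Subgroup G) (hS : Cfsg.IsSidkiPair V) (a b : G)
    (ha : a ∈ V) (hb : b ∈ V)
    (hcover : ∀ w ∈ V, w = 1 ∨ w = a ∨ w = b ∨ w = a * b)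
    (x y : G) (hx : Odd (orderOf x)) (hy : Odd (orderOf y)) (hx1 : x ≠ 1) (hy1 : y ≠ 1)
    (hbx : b * x * b⁻¹ = x) (hax : a * x * a⁻¹ = x⁻¹) (hay : a * y * a⁻¹ = y)
    (hby : b * y * b⁻¹ = y⁻¹) : False := by
  have hzodd : Odd (orderOf (y⁻¹ * x * y)) := by
    have : y⁻¹ * x * y = MulAut.conj y⁻¹ x := by simp
    rw [this, MulEquiv.orderOf_eq]
    exact hx
  have haz : a * (y⁻¹ * x * y) * a⁻¹ = (y⁻¹ * x * y)⁻¹ := by
    calc a * (y⁻¹ * x * y) * a⁻¹ = (a * y * a⁻¹)⁻¹ * (a * x * a⁻¹) * (a * y * a⁻¹) := by group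
      _ = y⁻¹ * x⁻¹ * y := by rw [hay, hax]
      _ = (y⁻¹ * x * y)⁻¹ := by group
  have hz1 : y⁻¹ * x * y ≠ 1 := by
    intro h
    apply hx1
    calc x = y * (y⁻¹ * x * y) * y⁻¹ := by group
      _ = 1 := by rw [h]; group
  obtain ⟨w, hwV, hw1, hwz⟩ := hS (y⁻¹ * x * y) a ha hzodd haz
  rcases hcover w hwV with rfl | rfl | rfl | rfl
  · exact hw1 rfl
  · exact hz1 (eq_one_of_inv_of_comm hzodd haz hwz)
  · -- `b` centralizes `z`
    have h1 : w * (y⁻¹ * x * y) * w⁻¹ = y * x * y⁻¹ := by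
      calc w * (y⁻¹ * x * y) * w⁻¹ = (w * y * w⁻¹)⁻¹ * (w * x * w⁻¹) * (w * y * w⁻¹) := by group
        _ = y * x * y⁻¹ := by rw [hby, hbx, inv_inv]
    have h2 : w * (y⁻¹ * x * y) * w⁻¹ = y⁻¹ * x * y := by rw [hwz]; group
    rw [h2] at h1
    have h3 : y ^ 2 * x = x * y ^ 2 := by
      rw [pow_two]
      calc y * y * x = y * (y * x * y⁻¹) * y := by group
        _ = y * (y⁻¹ * x * y) * y := by rw [← h1]
        _ = x * (y * y) := by group
    have h4 : y * x = x * y := commute_of_pow_commute 2 (Nat.coprime_two_left.2 hy) h3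
    exact sidki_comm V hS a w ha hb hcover x y hx hy hx1 hy1 hbx hax hay hby h4.symm
  · -- `a * b` centralizes `z`
    have h1 : (a * b) * (y⁻¹ * x * y) * (a * b)⁻¹ = y * x⁻¹ * y⁻¹ := by
      calc (a * b) * (y⁻¹ * x * y) * (a * b)⁻¹
          = a * ((b * y * b⁻¹)⁻¹ * (b * x * b⁻¹) * (b * y * b⁻¹)) * a⁻¹ := by group
        _ = a * (y * x * y⁻¹) * a⁻¹ := by rw [hby, hbx, inv_inv]
        _ = (a * y * a⁻¹) * (a * x * a⁻¹) * (a * y * a⁻¹)⁻¹ := by group
        _ = y * x⁻¹ * y⁻¹ := by rw [hay, hax]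
    have h2 : (a * b) * (y⁻¹ * x * y) * (a * b)⁻¹ = y⁻¹ * x * y := by rw [hwz]; group
    rw [h2] at h1
    -- `y ^ 2` inverts `x`
    have h3 : (y * y) * x⁻¹ * (y * y)⁻¹ = x := by
      calc (y * y) * x⁻¹ * (y * y)⁻¹ = y * (y * x⁻¹ * y⁻¹) * y⁻¹ := by
            simp only [mul_inv_rev, mul_assoc]
        _ = y * (y⁻¹ * x * y) * y⁻¹ := by rw [← h1]
        _ = x := by group
    have h5 := sq_comm_of_inverts h3
    have h5' : y ^ 4 * x = x * y ^ 4 := by
      have e4 : y ^ 4 = y * y * (y * y) := by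
        simp only [pow_succ, pow_zero, one_mul, mul_assoc]
      rw [e4]; exact h5
    have hcop : Nat.Coprime 4 (orderOf y) := by
      have : Nat.Coprime (2 ^ 2) (orderOf y) := Nat.Coprime.pow_left 2 (Nat.coprime_two_left.2 hy)
      simpa using this
    have h6 : y * x = x * y := commute_of_pow_commute 4 hcop h5'
    have h7 : (y * y) * x⁻¹ * (y * y)⁻¹ = x⁻¹ := by
      have h6' : y * x⁻¹ = x⁻¹ * y := by
        calc y * x⁻¹ = x⁻¹ * (x * y) * x⁻¹ := by group
          _ = x⁻¹ * (y * x) * x⁻¹ := by rw [h6]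
          _ = x⁻¹ * y := by group
      calc (y * y) * x⁻¹ * (y * y)⁻¹ = y * (y * x⁻¹) * (y * y)⁻¹ := by
            simp only [mul_assoc]
        _ = y * (x⁻¹ * y) * (y * y)⁻¹ := by rw [h6']
        _ = (y * x⁻¹) * y * (y * y)⁻¹ := by simp only [mul_assoc]
        _ = (x⁻¹ * y) * y * (y * y)⁻¹ := by rw [h6']
        _ = x⁻¹ := by simp only [mul_inv_rev, mul_assoc]; group
    rw [h7] at h3
    apply hx1
    apply eq_one_of_sq_of_odd hx
    calc x * x = x * x⁻¹ := by rw [h3]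
      _ = 1 := by group

theorem cover_of_card {G : Type*} [Group G] [Finite G] (V : Subgroup G)
    (hV : Cfsg.IsElementaryAbelian 2 V) (h4 : Nat.card V ≤ 4) (a b : G) (ha : a ∈ V) (hb : b ∈ V)
    (ha1 : a ≠ 1) (hb1 : b ≠ 1) (hab : a ≠ b) :
    ∀ w ∈ V, w = 1 ∨ w = a ∨ w = b ∨ w = a * b := by
  classical
  intro w hw
  by_contra hcon
  push Not at hcon
  obtain ⟨hw1, hwa, hwb, hwab⟩ := hcon
  have ha2 : a * a = 1 := by have := hV.2 a ha; rwa [pow_two] at this
  have hab1 : a * b ≠ 1 := by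
    intro h
    apply hab
    calc a = a * (a * b) := by rw [h, mul_one]
      _ = (a * a) * b := by group
      _ = b := by rw [ha2, one_mul]
  have haba : a * b ≠ a := by
    intro h
    apply hb1
    calc b = a⁻¹ * (a * b) := by group
      _ = 1 := by rw [h]; group
  have habb : a * b ≠ b := by
    intro h
    apply ha1
    calc a = (a * b) * b⁻¹ := by group
      _ = 1 := by rw [h]; group
  let T : Finset G := {1, a, b, a * b, w}
  have hTcard : T.card = 5 := by
    have e1 : w ∉ (∅ : Finset G) := by simp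
    have e2 : a * b ∉ ({w} : Finset G) := by
      simp only [Finset.mem_singleton]; exact fun h => hwab h.symm
    have e3 : b ∉ ({a * b, w} : Finset G) := by
      simp only [Finset.mem_insert, Finset.mem_singleton, not_or]
      exact ⟨fun h => habb h.symm, fun h => hwb h.symm⟩
    have e4 : a ∉ ({b, a * b, w} : Finset G) := by
      simp only [Finset.mem_insert, Finset.mem_singleton, not_or]
      exact ⟨hab, fun h => haba h.symm, fun h => hwa h.symm⟩
    have e5 : (1 : G) ∉ ({a, b, a * b, w} : Finset G) := by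
      simp only [Finset.mem_insert, Finset.mem_singleton, not_or]
      exact ⟨fun h => ha1 h.symm, fun h => hb1 h.symm, fun h => hab1 h.symm, fun h => hw1 h.symm⟩
    show (insert 1 (insert a (insert b (insert (a * b) ({w} : Finset G))))).card = 5
    rw [Finset.card_insert_of_notMem e5, Finset.card_insert_of_notMem e4,
      Finset.card_insert_of_notMem e3, Finset.card_insert_of_notMem e2, Finset.card_singleton]
  have hTV : ∀ t ∈ T, t ∈ V := by
    intro t ht
    simp only [T, Finset.mem_insert, Finset.mem_singleton] at ht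
    rcases ht with rfl | rfl | rfl | rfl | rfl
    · exact V.one_mem
    · exact ha
    · exact hb
    · exact V.mul_mem ha hb
    · exact hw
  let f : ↥T → ↥V := fun t => ⟨t.1, hTV t.1 t.2⟩
  have hinj : Function.Injective f := by
    intro s t hst
    apply Subtype.ext
    have h := congrArg (fun z : ↥V => (z : G)) hst
    exact h
  have h5 : Nat.card ↥T ≤ Nat.card V := Nat.card_le_card_of_injective f hinj
  rw [Nat.card_eq_fintype_card, Fintype.card_coe, hTcard] at h5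
  omega

/-- Let G be a finite group and V a nontrivial elementary abelian 2-subgroup of G of order at most 4 such that, whenever an element of V inverts an element h of G of odd order, some nontrivial element of V commutes with h. Then V meets O₂(G) nontrivially. (The case of order at most 4 has a short argument from the Baer–Suzuki theorem.) -/
theorem result {G : Type*} [Group G] [Finite G] (V : Subgroup G) (hV : Cfsg.IsElementaryAbelian 2 V) (hV1 : V ≠ ⊥) (hS : Cfsg.IsSidkiPair V) (h4 : Nat.card V ≤ 4) : V ⊓ Cfsg.pCore 2 G ≠ ⊥ := by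
  have hcomm : ∀ u ∈ V, ∀ v ∈ V, u * v = v * u := by
    intro u hu v hv
    have := hV.1.is_comm.comm ⟨u, hu⟩ ⟨v, hv⟩
    exact congrArg Subtype.val this
  have hsq : ∀ u ∈ V, u * u = 1 := by
    intro u hu
    have := hV.2 u hu
    rwa [pow_two] at this
  have hinv : ∀ u ∈ V, u⁻¹ = u := by
    intro u hu
    exact inv_eq_of_mul_eq_one_left (hsq u hu)
  -- it suffices to find a nonidentity element of `V` inverting no nontrivial odd-order element
  suffices hmain : ∃ v ∈ V, v ≠ 1 ∧ ∀ h : G, Odd (orderOf h) → v * h * v⁻¹ = h⁻¹ → h = 1 by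
    obtain ⟨v, hvV, hv1, hP⟩ := hmain
    have hv2 : orderOf v = 2 := by
      apply orderOf_eq_prime
      · rw [pow_two]; exact hsq v hvV
      · exact hv1
    have hN : ∃ N : Subgroup G, N.Normal ∧ IsPGroup 2 N ∧ v ∈ N := by
      by_contra hcon
      push Not at hcon
      obtain ⟨h, hne, hodd, hh⟩ := Cfsg.Agent.S0200.result v hv2 hcon
      exact hne (hP h hodd hh)
    obtain ⟨N, hNn, hNp, hvN⟩ := hN
    have hle : N ≤ Cfsg.pCore 2 G := le_sSup ⟨hNn, hNp⟩
    intro hbot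
    have : v ∈ V ⊓ Cfsg.pCore 2 G := Subgroup.mem_inf.mpr ⟨hvV, hle hvN⟩
    rw [hbot, Subgroup.mem_bot] at this
    exact hv1 this
  by_contra hcon
  push Not at hcon
  -- a nonidentity element `a`
  obtain ⟨⟨a, haV⟩, ha1'⟩ := (Subgroup.ne_bot_iff_exists_ne_one).1 hV1
  have ha1 : a ≠ 1 := fun h => ha1' (Subtype.ext h)
  -- `a` inverts some `h₁`, centralized by `u₁ ≠ a`
  obtain ⟨h₁, hodd₁, hinv₁, hne₁⟩ := hcon a haV ha1
  obtain ⟨u₁, hu₁V, hu₁1, hu₁c⟩ := hS h₁ a haV hodd₁ hinv₁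
  have hu₁a : u₁ ≠ a := by
    rintro rfl
    exact hne₁ (eq_one_of_inv_of_comm hodd₁ hinv₁ hu₁c)
  -- `u₁` inverts some `h₂`, centralized by `u₂ ≠ u₁`
  obtain ⟨h₂, hodd₂, hinv₂, hne₂⟩ := hcon u₁ hu₁V hu₁1
  obtain ⟨u₂, hu₂V, hu₂1, hu₂c⟩ := hS h₂ u₁ hu₁V hodd₂ hinv₂
  have hu₂u₁ : u₂ ≠ u₁ := by
    rintro rfl
    exact hne₂ (eq_one_of_inv_of_comm hodd₂ hinv₂ hu₂c)
  have hcover := cover_of_card V hV h4 u₂ u₁ hu₂V hu₁V hu₂1 hu₁1 hu₂u₁
  -- conjugation forms of centralizing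
  have hc1 : u₁ * h₁ * u₁⁻¹ = h₁ := by rw [hu₁c]; group
  have hc2 : u₂ * h₂ * u₂⁻¹ = h₂ := by rw [hu₂c]; group
  -- `u₂` inverts `h₁`
  have hi1 : u₂ * h₁ * u₂⁻¹ = h₁⁻¹ := by
    rcases hcover a haV with h | h | h | h
    · exact absurd h ha1
    · rw [← h]; exact hinv₁
    · exact absurd h.symm hu₁a
    · -- a = u₂ * u₁
      have e : u₂ = a * u₁ := by
        rw [h]
        calc u₂ = u₂ * (u₁ * u₁) := by rw [hsq u₁ hu₁V, mul_one]
          _ = u₂ * u₁ * u₁ := by group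
      rw [e]
      calc a * u₁ * h₁ * (a * u₁)⁻¹ = a * (u₁ * h₁ * u₁⁻¹) * a⁻¹ := by group
        _ = a * h₁ * a⁻¹ := by rw [hc1]
        _ = h₁⁻¹ := hinv₁
  exact sidki_key V hS u₂ u₁ hu₂V hu₁V hcover h₁ h₂ hodd₁ hodd₂ hne₁ hne₂ hc1 hi1 hc2 hinv₂

end Cfsg.Agent.S3011
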