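import Cfsg.Statements.S3013
-- import your own Cfsg.Agent.* helpers here

set_option autoImplicit false
open Cfsg

namespace Cfsg.Agent.S3013

/-- Let G be a finite group and V a nontrivial elementary abelian 2-subgroup of G satisfying the Sidki pair condition. Let v ∈ V and let x be an element of odd order inverted by v, and put C = C_G(v) ∩ C_G(x), the centralizer of the dihedral subgroup generated by v and x. Then C ∩ V is nontrivial and satisfies the Sidki pair condition inside C: every odd-order element of C inverted by an element of C ∩ V commutes with a nontrivial element of C ∩ V. -/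
theorem result {G : Type*} [Group G] [Finite G] (V : Subgroup G) (hV : Cfsg.IsElementaryAbelian 2 V) (hV1 : V ≠ ⊥) (hS : Cfsg.IsSidkiPair V) (v x : G) (hv : v ∈ V) (hx : Odd (orderOf x)) (hinv : v * x * v⁻¹ = x⁻¹) (C : Subgroup G) (hC : C = Subgroup.centralizer ({v} : Set G) ⊓ Subgroup.centralizer ({x} : Set G)) : C ⊓ V ≠ ⊥ ∧ Cfsg.IsSidkiPair ((C ⊓ V).subgroupOf C) := by
  have hV1' := hV.1
  have hcomV : ∀ {a b : G}, a ∈ V → b ∈ V → a * b = b * a := fun ha hb =>
    setLike_mul_comm ha hb
  have hmemC : ∀ g : G, g ∈ C ↔ (g * v = v * g ∧ g * x = x * g) := by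
    intro g
    rw [hC, Subgroup.mem_inf, Subgroup.mem_centralizer_singleton_iff,
      Subgroup.mem_centralizer_singleton_iff]
  constructor
  · obtain ⟨w, hwV, hw1, hwx⟩ := hS x v hv hx hinv
    intro hbot
    apply hw1
    have : w ∈ C ⊓ V := ⟨(hmemC w).2 ⟨hcomV hwV hv, hwx⟩, hwV⟩
    rw [hbot] at this
    exact Subgroup.mem_bot.1 this
  · intro h u hu hodd hinvh
    rw [Subgroup.mem_subgroupOf] at hu
    have huV : (u : G) ∈ V := hu.2
    obtain ⟨hhv, hhx⟩ := (hmemC h).1 h.2
    obtain ⟨huv, hux⟩ := (hmemC u).1 u.2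
    have hoddG : Odd (orderOf (h : G)) := by rwa [Subgroup.orderOf_coe]
    have hinvG : (u : G) * (h : G) * (u : G)⁻¹ = (h : G)⁻¹ := by
      have := congrArg (Subtype.val) hinvh
      simpa using this
    have hxh : Commute x (h : G) := hhx.symm
    -- y = x * h has odd order
    have hyodd : Odd (orderOf (x * (h : G))) := by
      have h1 : orderOf (x * (h : G)) ∣ orderOf x * orderOf (h : G) :=
        (hxh.orderOf_mul_dvd_lcm).trans (Nat.lcm_dvd_mul _ _)
      exact Odd.of_dvd_nat (hx.mul hoddG) h1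
    -- u * v inverts y
    have huvV : (u : G) * v ∈ V := V.mul_mem huV hv
    have hvh : v * (h : G) * v⁻¹ = (h : G) := by
      rw [← hhv, mul_inv_cancel_right]
    have hux' : (u : G) * x⁻¹ * (u : G)⁻¹ = x⁻¹ := by
      have : (u : G) * x * (u : G)⁻¹ = x := by rw [hux, mul_inv_cancel_right]
      calc (u : G) * x⁻¹ * (u : G)⁻¹ = ((u : G) * x * (u : G)⁻¹)⁻¹ := by simp [mul_assoc]
        _ = x⁻¹ := by rw [this]
    have hvy : v * (x * (h : G)) * v⁻¹ = x⁻¹ * (h : G) := by
      calc v * (x * (h : G)) * v⁻¹ = (v * x * v⁻¹) * (v * (h : G) * v⁻¹) := by simp [mul_assoc]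
        _ = x⁻¹ * (h : G) := by rw [hinv, hvh]
    have hyinv : ((u : G) * v) * (x * (h : G)) * ((u : G) * v)⁻¹ = (x * (h : G))⁻¹ := by
      calc ((u : G) * v) * (x * (h : G)) * ((u : G) * v)⁻¹
          = (u : G) * (v * (x * (h : G)) * v⁻¹) * (u : G)⁻¹ := by simp [mul_assoc]
        _ = (u : G) * (x⁻¹ * (h : G)) * (u : G)⁻¹ := by rw [hvy]
        _ = ((u : G) * x⁻¹ * (u : G)⁻¹) * ((u : G) * (h : G) * (u : G)⁻¹) := by simp [mul_assoc]
        _ = x⁻¹ * (h : G)⁻¹ := by rw [hux', hinvG]
        _ = (x * (h : G))⁻¹ := by rw [mul_inv_rev, (hxh.inv_inv).eq]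
    obtain ⟨w, hwV, hw1, hwy⟩ := hS (x * (h : G)) ((u : G) * v) huvV hyodd hyinv
    have hwv : w * v = v * w := hcomV hwV hv
    have hwy' : Commute w (x * (h : G)) := hwy
    -- conjugating by v: w commutes with x⁻¹ * h
    have hwy2 : Commute w (x⁻¹ * (h : G)) := by
      have hcv : Commute w v := hwv
      have : Commute w (v * (x * (h : G)) * v⁻¹) := (hcv.mul_right hwy').mul_right hcv.inv_right
      rwa [hvy] at this
    -- hence with h ^ 2
    have hwh2 : Commute w ((h : G) ^ 2) := by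
      have h3 : (x * (h : G)) * (x⁻¹ * (h : G)) = (h : G) ^ 2 := by
        calc (x * (h : G)) * (x⁻¹ * (h : G)) = x * ((h : G) * x⁻¹) * (h : G) := by simp [mul_assoc]
          _ = x * (x⁻¹ * (h : G)) * (h : G) := by rw [(hxh.inv_left).eq]
          _ = (h : G) ^ 2 := by simp [pow_two]
      rw [← h3]
      exact hwy'.mul_right hwy2
    have hwh : Commute w (h : G) := by
      have hcop : (2 : ℕ).Coprime (orderOf (h : G)) := Nat.coprime_two_left.2 hoddG
      obtain ⟨j, hj⟩ := exists_pow_eq_self_of_coprime hcop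
      have := hwh2.pow_right j
      rwa [hj] at this
    have hwx : Commute w x := by
      have : Commute w ((x * (h : G)) * (h : G)⁻¹) := hwy'.mul_right hwh.inv_right
      rwa [mul_inv_cancel_right] at this
    have hwC : w ∈ C := (hmemC w).2 ⟨hwv, hwx.eq⟩
    refine ⟨⟨w, hwC⟩, ?_, ?_, ?_⟩
    · rw [Subgroup.mem_subgroupOf]
      exact ⟨hwC, hwV⟩
    · intro h1
      apply hw1
      exact congrArg Subtype.val h1
    · apply Subtype.ext
      simpa using hwh.eq

end Cfsg.Agent.S3013
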