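import Cfsg.Statements.S3014
import Mathlib

set_option autoImplicit false
open Cfsg

namespace Cfsg.Agent.S3014

variable {G : Type*} [Group G]

theorem mem_conjMap (X : Subgroup G) (g y : G) :
    y ∈ X.map (MulAut.conj g).toMonoidHom ↔ g⁻¹ * y * g ∈ X := by
  rw [Subgroup.mem_map_equiv, MulAut.conj_symm_apply]

/-- intermediate subgroups between `H` and `M` when `H` is maximal in `M`. -/
theorem eq_or_eq_of_coatom {H M : Subgroup G} (hmaxH : IsCoatom (H.subgroupOf M))
    (X : Subgroup G) (hHX : H ≤ X) (hXM : X ≤ M) : X = H ∨ X = M := by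
  have h1 : H.subgroupOf M ≤ X.subgroupOf M := by
    intro x hx
    exact hHX hx
  rcases eq_or_lt_of_le h1 with h | h
  · left
    apply le_antisymm _ hHX
    intro x hx
    have : (⟨x, hXM hx⟩ : M) ∈ X.subgroupOf M := hx
    rw [← h] at this
    exact this
  · right
    have := hmaxH.2 _ h
    apply le_antisymm hXM
    intro x hx
    have h2 : (⟨x, hx⟩ : M) ∈ X.subgroupOf M := by rw [this]; exact Subgroup.mem_top _
    exact h2

/-- `H ∩ gMg⁻¹ ≤ gHg⁻¹` -/
theorem key_a (H M : Subgroup G)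
    (hcl : ∀ g : G, (H ⊔ H.map (MulAut.conj g).toMonoidHom) ⊓ M = H)
    (g x : G) (hx : x ∈ H) (hxM : g⁻¹ * x * g ∈ M) : g⁻¹ * x * g ∈ H := by
  have h1 := hcl g⁻¹
  have h2 : g⁻¹ * x * g ∈ H.map (MulAut.conj g⁻¹).toMonoidHom := by
    rw [mem_conjMap]
    simpa [mul_assoc] using hx
  have h3 : g⁻¹ * x * g ∈ (H ⊔ H.map (MulAut.conj g⁻¹).toMonoidHom) ⊓ M :=
    ⟨(le_sup_right : _ ≤ H ⊔ H.map (MulAut.conj g⁻¹).toMonoidHom) h2, hxM⟩
  rw [h1] at h3
  exact h3

/-- the final step: a normal subgroup `K ≥ H` with `K ∩ M ≤ H` gives the result. -/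
theorem finish (H M : Subgroup G) (hHM : H ≤ M) (K : Subgroup G) [K.Normal] (hHK : H ≤ K)
    (hKM : K ⊓ M ≤ H) : Subgroup.normalClosure (H : Set G) ⊓ M = H := by
  apply le_antisymm
  · refine le_trans (inf_le_inf_right M ?_) hKM
    exact Subgroup.normalClosure_le_normal hHK
  · exact le_inf Subgroup.le_normalClosure hHM

theorem conjMap_eq_self (X : Subgroup G) (m : G) (h1 : ∀ x ∈ X, m⁻¹ * x * m ∈ X)
    (h2 : ∀ x ∈ X, m * x * m⁻¹ ∈ X) : X.map (MulAut.conj m).toMonoidHom = X := by
  ext y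
  rw [mem_conjMap]
  constructor
  · intro h
    have := h2 _ h
    have e : m * (m⁻¹ * y * m) * m⁻¹ = y := by group
    rwa [e] at this
  · exact h1 y

theorem caseA (H M : Subgroup G) (hHM : H ≤ M)
    (hcl : ∀ g : G, (H ⊔ H.map (MulAut.conj g).toMonoidHom) ⊓ M = H)
    (hmaxH : IsCoatom (H.subgroupOf M)) (hmaxM : IsCoatom M)
    (hnorm : ∀ m ∈ M, ∀ x ∈ H, m⁻¹ * x * m ∈ H)
    (hNH : ∀ g : G, (∀ x ∈ H, g⁻¹ * x * g ∈ H) → g ∈ M)
    (g m : G) (hg : g ∉ M) (hm : m ∈ M) (hgm : g⁻¹ * m * g ∈ M) (hmH : m ∉ H) :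
    Subgroup.normalClosure (H : Set G) ⊓ M = H := by
  set H' := H.map (MulAut.conj g).toMonoidHom with hH'
  set L := H ⊔ H' with hL
  -- `m` normalizes `H`
  have e1 : H.map (MulAut.conj m).toMonoidHom = H := by
    apply conjMap_eq_self H m (hnorm m hm)
    intro x hx
    have := hnorm m⁻¹ (M.inv_mem hm) x hx
    simpa using this
  -- `m` normalizes `H'`
  have e2 : H'.map (MulAut.conj m).toMonoidHom = H' := by
    have hm' := hgm
    have hm'' : (g⁻¹ * m * g)⁻¹ ∈ M := M.inv_mem hgm
    apply conjMap_eq_self H' m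
    · intro x hx
      rw [hH', mem_conjMap] at hx ⊢
      have := hnorm _ hgm _ hx
      have e : g⁻¹ * (m⁻¹ * x * m) * g = (g⁻¹ * m * g)⁻¹ * (g⁻¹ * x * g) * (g⁻¹ * m * g) := by group
      rw [e]; exact this
    · intro x hx
      rw [hH', mem_conjMap] at hx ⊢
      have := hnorm _ hm'' _ hx
      have e : g⁻¹ * (m * x * m⁻¹) * g = (g⁻¹ * m * g)⁻¹⁻¹ * (g⁻¹ * x * g) * (g⁻¹ * m * g)⁻¹ := by
        group
      rw [e]; exact this
  have e3 : L.map (MulAut.conj m).toMonoidHom = L := by
    rw [hL, Subgroup.map_sup, e1, e2]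
  have hmN : m ∈ Subgroup.normalizer (L : Set G) := by
    rw [Subgroup.mem_normalizer_iff]
    intro x
    constructor
    · intro hx
      have : m * x * m⁻¹ ∈ L.map (MulAut.conj m).toMonoidHom := by
        rw [mem_conjMap]
        have e : m⁻¹ * (m * x * m⁻¹) * m = x := by group
        rw [e]; exact hx
      rwa [e3] at this
    · intro hx
      rw [← e3, mem_conjMap] at hx
      have e : m⁻¹ * (m * x * m⁻¹) * m = x := by group
      rwa [e] at hx
  have hK : L ⊔ Subgroup.zpowers m ≤ Subgroup.normalizer (L : Set G) :=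
    sup_le Subgroup.le_normalizer ((Subgroup.zpowers_le).mpr hmN)
  have hMK : M ≤ L ⊔ Subgroup.zpowers m := by
    have h1 : H ⊔ Subgroup.zpowers m ≤ M := sup_le hHM ((Subgroup.zpowers_le).mpr hm)
    rcases eq_or_eq_of_coatom hmaxH (H ⊔ Subgroup.zpowers m) le_sup_left h1 with h | h
    · exfalso
      apply hmH
      rw [← h]
      exact (le_sup_right : Subgroup.zpowers m ≤ H ⊔ Subgroup.zpowers m) (Subgroup.mem_zpowers m)
    · rw [← h]
      exact sup_le_sup_right le_sup_left _
  have hKtop : L ⊔ Subgroup.zpowers m = ⊤ := by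
    rcases eq_or_lt_of_le hMK with h | h
    · exfalso
      have hLM : L ≤ M := by rw [h]; exact le_sup_left
      have hLH : L = H := by
        have := hcl g
        rw [← hH', ← hL, inf_eq_left.mpr hLM] at this
        exact this
      have hH'H : H' ≤ H := by rw [← hLH]; exact le_sup_right
      apply hg
      have : g⁻¹ ∈ M := by
        apply hNH
        intro x hx
        apply hH'H
        rw [hH', mem_conjMap]
        have e : g⁻¹ * (g⁻¹⁻¹ * x * g⁻¹) * g = x := by group
        rw [e]; exact hx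
      simpa using M.inv_mem this
    · exact hmaxM.2 _ h
  have hLnormal : L.Normal := by
    rw [← Subgroup.normalizer_eq_top_iff]
    exact top_le_iff.mp (hKtop ▸ hK)
  exact finish H M hHM L le_sup_left (le_of_eq (hcl g))

theorem caseB [Finite G] (H M : Subgroup G) (hHM : H ≤ M)
    (hcl : ∀ g : G, (H ⊔ H.map (MulAut.conj g).toMonoidHom) ⊓ M = H)
    (hmaxH : IsCoatom (H.subgroupOf M))
    (hnorm : ∀ m ∈ M, ∀ x ∈ H, m⁻¹ * x * m ∈ H)
    (hB : ∀ g m : G, g ∉ M → m ∈ M → g⁻¹ * m * g ∈ M → m ∈ H) :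
    Subgroup.normalClosure (H : Set G) ⊓ M = H := by
  classical
  have hN : (H.subgroupOf M).Normal := by
    constructor
    intro n hn g
    rw [Subgroup.mem_subgroupOf] at hn ⊢
    have := hnorm ((g⁻¹ : M) : G) (g⁻¹ : M).2 n hn
    simpa using this
  -- subgroups of the quotient
  have hsub : ∀ X : Subgroup (M ⧸ H.subgroupOf M), X = ⊥ ∨ X = ⊤ := by
    intro X
    have hsurj : Function.Surjective (QuotientGroup.mk' (H.subgroupOf M)) :=
      QuotientGroup.mk'_surjective _
    have hle : H.subgroupOf M ≤ X.comap (QuotientGroup.mk' (H.subgroupOf M)) := by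
      intro x hx
      rw [Subgroup.mem_comap, QuotientGroup.mk'_apply, (QuotientGroup.eq_one_iff x).mpr hx]
      exact X.one_mem
    rcases eq_or_lt_of_le hle with h | h
    · left
      rw [← Subgroup.map_comap_eq_self_of_surjective hsurj X, ← h, Subgroup.map_eq_bot_iff,
        QuotientGroup.ker_mk']
    · right
      rw [← Subgroup.map_comap_eq_self_of_surjective hsurj X, hmaxH.2 _ h,
        Subgroup.map_top_of_surjective _ hsurj]
  have hcomm : ∀ a b : M ⧸ H.subgroupOf M, a * b = b * a := by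
    intro a b
    by_cases ha : a = 1
    · rw [ha, one_mul, mul_one]
    · rcases hsub (Subgroup.zpowers a) with h | h
      · exact absurd (Subgroup.zpowers_eq_bot.mp h) ha
      · have hb : b ∈ Subgroup.zpowers a := by rw [h]; exact Subgroup.mem_top b
        obtain ⟨k, rfl⟩ := Subgroup.mem_zpowers_iff.mp hb
        exact (Commute.self_zpow a k).eq
  let _ : CommGroup (M ⧸ H.subgroupOf M) :=
    { (inferInstance : Group (M ⧸ H.subgroupOf M)) with mul_comm := hcomm }
  let ϕ : M →* (M ⧸ H.subgroupOf M) := QuotientGroup.mk' (H.subgroupOf M)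
  have hϕ1 : ∀ x : M, ϕ x = 1 ↔ (x : G) ∈ H := by
    intro x
    exact QuotientGroup.eq_one_iff x
  have hV1 : ∀ h ∈ H, MonoidHom.transfer ϕ h = 1 := by
    intro h hh
    have : Fintype (Quotient (MulAction.orbitRel (Subgroup.zpowers h) (G ⧸ M))) :=
      Fintype.ofFinite _
    rw [MonoidHom.transfer_eq_prod_quotient_orbitRel_zpowers_quot]
    apply Finset.prod_eq_one
    intro q _
    rw [hϕ1]
    exact key_a H M hcl q.out.out (h ^ _) (H.pow_mem hh _)
      (QuotientGroup.out_conj_pow_minimalPeriod_mem M h q.out)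
  have hV2 : ∀ (m : G) (hm : m ∈ M), m ∉ H → MonoidHom.transfer ϕ m = ϕ ⟨m, hm⟩ := by
    intro m hm hmH
    have : Fintype (Quotient (MulAction.orbitRel (Subgroup.zpowers m) (G ⧸ M))) :=
      Fintype.ofFinite _
    rw [MonoidHom.transfer_eq_prod_quotient_orbitRel_zpowers_quot]
    let q₀ : Quotient (MulAction.orbitRel (Subgroup.zpowers m) (G ⧸ M)) :=
      Quotient.mk'' ((1 : G) : G ⧸ M)
    have hfix : ∀ z ∈ Subgroup.zpowers m, z • ((1 : G) : G ⧸ M) = ((1 : G) : G ⧸ M) := by
      intro z hz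
      have hzM : z ∈ M := (Subgroup.zpowers_le.mpr hm) hz
      rw [MulAction.Quotient.smul_mk, QuotientGroup.eq]
      simpa using M.inv_mem hzM
    have hq₀ : q₀.out = ((1 : G) : G ⧸ M) := by
      have h1 : MulAction.orbitRel (Subgroup.zpowers m) (G ⧸ M) q₀.out ((1 : G) : G ⧸ M) :=
        Quotient.exact' (Quotient.out_eq' q₀)
      rw [MulAction.orbitRel_apply] at h1
      obtain ⟨⟨z, hz⟩, hz'⟩ := h1
      rw [← hz']
      exact hfix z hz
    have hterm : ∀ (j : ℕ) (k : G) (_ : k ∈ M) (hmem : k⁻¹ * m ^ j * k ∈ M), j = 1 →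
        ϕ ⟨k⁻¹ * m ^ j * k, hmem⟩ = ϕ ⟨m, hm⟩ := by
      intro j k hk hmem hj
      subst hj
      have e : (⟨k⁻¹ * m ^ 1 * k, hmem⟩ : M) = (⟨k, hk⟩ : M)⁻¹ * ⟨m, hm⟩ * ⟨k, hk⟩ := by
        apply Subtype.ext
        simp
      rw [e, map_mul, map_mul, map_inv, mul_comm, ← mul_assoc, mul_inv_cancel, one_mul]
    rw [Finset.prod_eq_single q₀]
    · apply hterm
      · have h1 : ((q₀.out.out : G) : G ⧸ M) = ((1 : G) : G ⧸ M) := by
          rw [QuotientGroup.out_eq', hq₀]
        rw [QuotientGroup.eq] at h1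
        simpa using M.inv_mem h1
      · rw [Function.minimalPeriod_eq_one_iff_isFixedPt, hq₀]
        exact hfix m (Subgroup.mem_zpowers m)
    · intro q _ hq
      rw [hϕ1]
      have hk : q.out.out ∉ M := by
        intro hk
        apply hq
        have h1 : q.out = ((1 : G) : G ⧸ M) := by
          rw [← QuotientGroup.out_eq' q.out, QuotientGroup.eq]
          simpa using M.inv_mem hk
        calc q = Quotient.mk'' q.out := (Quotient.out_eq' q).symm
          _ = q₀ := by rw [h1]
      have hmem := QuotientGroup.out_conj_pow_minimalPeriod_mem M m q.out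
      have hmj : m ^ Function.minimalPeriod (m • ·) q.out ∈ H :=
        hB q.out.out _ hk (M.pow_mem hm _) hmem
      exact key_a H M hcl q.out.out _ hmj hmem
    · intro h; exact absurd (Finset.mem_univ _) h
  refine finish H M hHM (MonoidHom.transfer ϕ).ker ?_ ?_
  · intro h hh
    exact MonoidHom.mem_ker.mpr (hV1 h hh)
  · rintro x ⟨hxK, hxM⟩
    by_contra hxH
    have h1 := hV2 x hxM hxH
    rw [MonoidHom.mem_ker.mp hxK] at h1
    exact hxH ((hϕ1 ⟨x, hxM⟩).mp h1.symm)


/-- Let G be a finite group and H ≤ M ≤ G subgroups such that for every g ∈ G the subgroup generated by H and g H g⁻¹ meets M exactly in H. If H is a maximal subgroup of M and M is a maximal subgroup of G, then the normal closure of H in G meets M exactly in H. -/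
theorem result {G : Type*} [Group G] [Finite G] (H M : Subgroup G) (hHM : H ≤ M) (hcl : ∀ g : G, (H ⊔ H.map (MulAut.conj g).toMonoidHom) ⊓ M = H) (hmaxH : IsCoatom (H.subgroupOf M)) (hmaxM : IsCoatom M) : Subgroup.normalClosure (H : Set G) ⊓ M = H := by
  have hnorm : ∀ m ∈ M, ∀ x ∈ H, m⁻¹ * x * m ∈ H := by
    intro m hm x hx
    exact key_a H M hcl m x hx (M.mul_mem (M.mul_mem (M.inv_mem hm) (hHM hx)) hm)
  by_cases hN : H.Normal
  · exact finish H M hHM H le_rfl inf_le_left
  have hMN : M ≤ Subgroup.normalizer (H : Set G) := by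
    intro m hm
    rw [Subgroup.mem_normalizer_iff]
    intro x
    constructor
    · intro hx
      have := hnorm m⁻¹ (M.inv_mem hm) x hx
      simpa using this
    · intro hx
      have := hnorm m hm _ hx
      have e : m⁻¹ * (m * x * m⁻¹) * m = x := by group
      rwa [e] at this
  have hNM : Subgroup.normalizer (H : Set G) = M := by
    rcases eq_or_lt_of_le hMN with h | h
    · exact h.symm
    · exfalso
      apply hN
      rw [← Subgroup.normalizer_eq_top_iff]
      exact hmaxM.2 _ h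
  have hNH : ∀ g : G, (∀ x ∈ H, g⁻¹ * x * g ∈ H) → g ∈ M := by
    intro g hg
    rw [← hNM]
    have hle : H.map (MulAut.conj g⁻¹).toMonoidHom ≤ H := by
      intro y hy
      obtain ⟨x, hx, rfl⟩ := Subgroup.mem_map.mp hy
      have := hg x hx
      simpa [MulAut.conj_apply] using this
    have hcard : Nat.card (H.map (MulAut.conj g⁻¹).toMonoidHom) = Nat.card H :=
      Subgroup.card_map_of_injective (MulAut.conj g⁻¹).injective
    have heq : H.map (MulAut.conj g⁻¹).toMonoidHom = H :=
      Subgroup.eq_of_le_of_card_ge hle (le_of_eq hcard.symm)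
    rw [Subgroup.mem_normalizer_iff]
    intro x
    constructor
    · intro hx
      rw [← heq, mem_conjMap] at hx
      simpa using hx
    · intro hx
      have := hg _ hx
      have e : g⁻¹ * (g * x * g⁻¹) * g = x := by group
      rwa [e] at this
  by_cases hA : ∃ g m : G, g ∉ M ∧ m ∈ M ∧ g⁻¹ * m * g ∈ M ∧ m ∉ H
  · obtain ⟨g, m, hg, hm, hgm, hmH⟩ := hA
    exact caseA H M hHM hcl hmaxH hmaxM hnorm hNH g m hg hm hgm hmH
  · apply caseB H M hHM hcl hmaxH hnorm
    intro g m hg hm hgm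
    by_contra hmH
    exact hA ⟨g, m, hg, hm, hgm, hmH⟩

end Cfsg.Agent.S3014
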