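import Cfsg.Statements.S3015
import Cfsg.Agent.S3014

set_option autoImplicit false
open Cfsg

namespace Cfsg.Agent.S3015

open Cfsg.Agent.S3014

variable {G : Type*} [Group G]

local notation:max "cj(" g ", " X ")" => Subgroup.map (MulEquiv.toMonoidHom (MulAut.conj g)) X

theorem conjMap_conjMap (a b : G) (X : Subgroup G) : cj(a, cj(b, X)) = cj(a * b, X) := by
  ext y
  rw [mem_conjMap, mem_conjMap, mem_conjMap]
  have e : b⁻¹ * (a⁻¹ * y * a) * b = (a * b)⁻¹ * y * (a * b) := by group
  rw [e]

theorem conjMap_one (X : Subgroup G) : cj((1 : G), X) = X := by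
  ext y
  rw [mem_conjMap]
  simp

theorem card_conjMap (g : G) (X : Subgroup G) : Nat.card cj(g, X) = Nat.card X :=
  Subgroup.card_map_of_injective (MulAut.conj g).injective

theorem conjMap_eq_of_le [Finite G] (g : G) (X : Subgroup G) (h : cj(g, X) ≤ X) : cj(g, X) = X :=
  Subgroup.eq_of_le_of_card_ge h (le_of_eq (card_conjMap g X).symm)

theorem conjMap_le_of_mem (k : G) (X L : Subgroup G) (hk : k ∈ L) (hX : X ≤ L) : cj(k, X) ≤ L := by
  intro y hy
  rw [mem_conjMap] at hy
  have := L.mul_mem (L.mul_mem hk (hX hy)) (L.inv_mem hk)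
  have e : k * (k⁻¹ * y * k) * k⁻¹ = y := by group
  rwa [e] at this

theorem conjMap_le_iff (g : G) (X Y : Subgroup G) : cj(g, X) ≤ Y ↔ X ≤ cj(g⁻¹, Y) := by
  constructor
  · intro h x hx
    rw [mem_conjMap]
    apply h
    rw [mem_conjMap]
    have e : g⁻¹ * (g⁻¹⁻¹ * x * g⁻¹) * g = x := by group
    rw [e]; exact hx
  · intro h y hy
    rw [mem_conjMap] at hy
    have := h hy
    rw [mem_conjMap] at this
    have e : g⁻¹⁻¹ * (g⁻¹ * y * g) * g⁻¹ = y := by group
    rwa [e] at this

theorem coatom_of_prime_relIndex {H M : Subgroup G} (hidx : (H.relIndex M).Prime) :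
    IsCoatom (H.subgroupOf M) := by
  constructor
  · intro h
    rw [Subgroup.relIndex, h, Subgroup.index_top] at hidx
    exact Nat.not_prime_one hidx
  · intro X hX
    have h1 := Subgroup.relIndex_mul_index hX.le
    rw [Subgroup.relIndex] at hidx
    rw [← h1] at hidx
    rcases Nat.prime_mul_iff.mp hidx with ⟨_, h2⟩ | ⟨_, h2⟩
    · exact Subgroup.index_eq_one.mp h2
    · exfalso
      rw [Subgroup.relIndex_eq_one] at h2
      exact not_le_of_gt hX h2

/-- A non-commutative finite simple group has no maximal subgroup of prime order. -/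
theorem no_prime_order_maximal [Finite G] [IsSimpleGroup G] (hnc : ¬ ∀ a b : G, a * b = b * a)
    (M : Subgroup G) (hmaxM : IsCoatom M) (q : ℕ) (hq : q.Prime) (hM : Nat.card M = q) : False := by
  have : Fact q.Prime := ⟨hq⟩
  have hMp : IsPGroup q M := IsPGroup.of_card (n := 1) (by rw [hM, pow_one])
  obtain ⟨P, hP⟩ := hMp.exists_le_sylow
  have hPM : (P : Subgroup G) = M := by
    rcases eq_or_lt_of_le hP with h | h
    · exact h.symm
    · exfalso
      have htop := hmaxM.2 _ h
      -- G is a q-group, hence solvable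
      apply hnc
      rw [IsSimpleGroup.comm_iff_isSolvable]
      have hG : IsPGroup q G := by
        have := P.2
        rw [htop] at this
        exact this.of_equiv (Subgroup.topEquiv (G := G))
      have : Group.IsNilpotent G := hG.isNilpotent
      infer_instance
  -- normalizer of P is M
  have hnorm : Subgroup.normalizer ((P : Subgroup G) : Set G) = M := by
    have hle : M ≤ Subgroup.normalizer ((P : Subgroup G) : Set G) := by
      rw [hPM]; exact Subgroup.le_normalizer
    rcases eq_or_lt_of_le hle with h | h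
    · exact h.symm
    · exfalso
      have htop := hmaxM.2 _ h
      have hN : (P : Subgroup G).Normal := Subgroup.normalizer_eq_top_iff.mp htop
      rcases hN.eq_bot_or_eq_top with h1 | h1
      · rw [hPM] at h1
        rw [h1, Subgroup.card_bot] at hM
        exact hq.one_lt.ne hM
      · rw [hPM] at h1
        exact hmaxM.1 h1
  have hcyc : IsCyclic (P : Subgroup G) := by
    have : Nat.card (P : Subgroup G) = q := by rw [hPM, hM]
    exact isCyclic_of_prime_card this
  have hcent : Subgroup.normalizer ((P : Subgroup G) : Set G) ≤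
      Subgroup.centralizer ((P : Subgroup G) : Set G) := by
    rw [hnorm, ← hPM]
    have : IsMulCommutative (P : Subgroup G) := ⟨⟨fun a b => by
      obtain ⟨c, hc⟩ := hcyc
      obtain ⟨i, rfl⟩ := Subgroup.mem_zpowers_iff.mp (hc a)
      obtain ⟨j, rfl⟩ := Subgroup.mem_zpowers_iff.mp (hc b)
      rw [← zpow_add, ← zpow_add, add_comm]⟩⟩
    exact Subgroup.le_centralizer (P : Subgroup G)
  have hcomp := MonoidHom.ker_transferSylow_isComplement' P hcent
  rcases (inferInstance : (MonoidHom.transferSylow P hcent).ker.Normal).eq_bot_or_eq_top with h | h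
  · rw [h, Subgroup.isComplement'_bot_left, hPM] at hcomp
    exact hmaxM.1 hcomp
  · rw [h, Subgroup.isComplement'_top_left, hPM] at hcomp
    rw [hcomp, Subgroup.card_bot] at hM
    exact hq.one_lt.ne hM

/-- if `x ∉ M` normalizes a nontrivial subgroup `X ≤ M` that `M` also normalizes, contradiction -/
theorem not_normalizes [IsSimpleGroup G] (M X : Subgroup G) (hmaxM : IsCoatom M) (hXM : X ≤ M)
    (hX1 : X ≠ ⊥) (hMX : ∀ m ∈ M, cj(m, X) = X) (x : G) (hx : cj(x, X) = X) : x ∈ M := by
  by_contra hxM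
  have key : ∀ y : G, cj(y, X) = X → y ∈ Subgroup.normalizer (X : Set G) := by
    intro y hy
    rw [Subgroup.mem_normalizer_iff]
    intro h
    have h1 : y * h * y⁻¹ ∈ X ↔ y * h * y⁻¹ ∈ cj(y, X) := by rw [hy]
    rw [h1, mem_conjMap]
    have e : y⁻¹ * (y * h * y⁻¹) * y = h := by group
    rw [e]
  have hle : M ≤ Subgroup.normalizer (X : Set G) := fun m hm => key m (hMX m hm)
  have hlt : M < Subgroup.normalizer (X : Set G) := by
    refine lt_of_le_of_ne hle ?_
    intro h
    apply hxM
    rw [h]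
    exact key x hx
  have htop := hmaxM.2 _ hlt
  have hN : X.Normal := Subgroup.normalizer_eq_top_iff.mp htop
  rcases hN.eq_bot_or_eq_top with h | h
  · exact hX1 h
  · apply hmaxM.1
    rw [eq_top_iff, ← h]
    exact hXM

theorem case1 [Finite G] [IsSimpleGroup G] (M H : Subgroup G) (hmaxM : IsCoatom M) (hHM : H ≤ M)
    (hHn : (H.subgroupOf M).Normal) (hidx : (H.relIndex M).Prime) (hH1 : H ≠ ⊥)
    (g : G) (hK : cj(g, H) ≤ M) (hKH : cj(g, H) ≠ H) :
    cj(g, H) ⊔ cj(g⁻¹, H) = ⊤ := by
  have hmaxH := coatom_of_prime_relIndex hidx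
  have hM1 : M ≠ ⊥ := by
    intro h
    apply hH1
    rw [eq_bot_iff, ← h]
    exact hHM
  -- (i) `M` normalizes `H`
  have hconjM : ∀ m ∈ M, ∀ x ∈ H, m * x * m⁻¹ ∈ H := by
    intro m hm x hx
    have := hHn.conj_mem ⟨x, hHM hx⟩ (Subgroup.mem_subgroupOf.mpr hx) ⟨m, hm⟩
    rw [Subgroup.mem_subgroupOf] at this
    simpa using this
  have hnormM : ∀ m ∈ M, cj(m, H) = H := by
    intro m hm
    apply conjMap_eq_self H m
    · intro x hx
      have := hconjM m⁻¹ (M.inv_mem hm) x hx
      simpa using this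
    · exact hconjM m hm
  have hMM : ∀ m ∈ M, cj(m, M) = M := by
    intro m hm
    apply conjMap_eq_self M m
    · intro x hx
      exact M.mul_mem (M.mul_mem (M.inv_mem hm) hx) hm
    · intro x hx
      exact M.mul_mem (M.mul_mem hm hx) (M.inv_mem hm)
  -- (iii)
  have hgM : g ∉ M := fun h => hKH (hnormM g h)
  -- (iv)
  have hHK : H ⊔ cj(g, H) = M := by
    rcases eq_or_eq_of_coatom hmaxH (H ⊔ cj(g, H)) le_sup_left (sup_le hHM hK) with h | h
    · exfalso
      apply hKH
      apply conjMap_eq_of_le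
      exact le_trans le_sup_right (le_of_eq h)
    · exact h
  -- (v)
  have hH2 : ¬ cj(g⁻¹, H) ≤ M := by
    intro hle
    by_cases heq : cj(g⁻¹, H) = H
    · have := not_normalizes M H hmaxM hHM hH1 hnormM g⁻¹ heq
      exact hgM (by simpa using M.inv_mem this)
    · have h1 : H ⊔ cj(g⁻¹, H) = M := by
        rcases eq_or_eq_of_coatom hmaxH (H ⊔ cj(g⁻¹, H)) le_sup_left (sup_le hHM hle) with h | h
        · exfalso
          apply heq
          apply conjMap_eq_of_le
          exact le_trans le_sup_right (le_of_eq h)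
        · exact h
      have h2 : H ≤ cj(g⁻¹, M) := (conjMap_le_iff g H M).mp hK
      have h3 : cj(g⁻¹, H) ≤ cj(g⁻¹, M) := Subgroup.map_mono hHM
      have h4 : M ≤ cj(g⁻¹, M) := by
        calc M = H ⊔ cj(g⁻¹, H) := h1.symm
          _ ≤ cj(g⁻¹, M) := sup_le h2 h3
      have h5 : cj(g⁻¹, M) = M :=
        (Subgroup.eq_of_le_of_card_ge h4 (le_of_eq (card_conjMap g⁻¹ M))).symm
      have := not_normalizes M M hmaxM le_rfl hM1 hMM g⁻¹ h5
      exact hgM (by simpa using M.inv_mem this)
  -- (vi)
  obtain ⟨T, hT⟩ : ∃ T : Subgroup G, T = ⨆ m : M, cj((m : G) * g⁻¹, H) := ⟨_, rfl⟩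
  have hleT : ∀ m : M, cj((m : G) * g⁻¹, H) ≤ T := by
    intro m
    rw [hT]
    exact le_iSup (fun m : M => cj((m : G) * g⁻¹, H)) m
  have hH2T : cj(g⁻¹, H) ≤ T := by
    have := hleT (1 : M)
    rw [Subgroup.coe_one, one_mul] at this
    exact this
  have hTM : ∀ m ∈ M, cj(m, T) = T := by
    intro m hm
    apply conjMap_eq_of_le
    have h1 : cj(m, T) = ⨆ m' : M, cj(m, cj((m' : G) * g⁻¹, H)) := by
      rw [hT, Subgroup.map_iSup]
    rw [h1]
    apply iSup_le
    intro m'
    rw [conjMap_conjMap]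
    have := hleT (⟨m, hm⟩ * m')
    rw [Subgroup.coe_mul, mul_assoc] at this
    exact this
  have hTtop : T = ⊤ := by
    have key : ∀ y : G, cj(y, T) = T → y ∈ Subgroup.normalizer (T : Set G) := by
      intro y hy
      rw [Subgroup.mem_normalizer_iff]
      intro h
      have h1 : y * h * y⁻¹ ∈ T ↔ y * h * y⁻¹ ∈ cj(y, T) := by rw [hy]
      rw [h1, mem_conjMap]
      have e : y⁻¹ * (y * h * y⁻¹) * y = h := by group
      rw [e]
    have hle : M ⊔ T ≤ Subgroup.normalizer (T : Set G) :=
      sup_le (fun m hm => key m (hTM m hm)) Subgroup.le_normalizer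
    have hlt : M < M ⊔ T := by
      refine lt_of_le_of_ne le_sup_left ?_
      intro h
      apply hH2
      rw [h]
      exact le_trans hH2T le_sup_right
    have htop : Subgroup.normalizer (T : Set G) = ⊤ := by
      rw [eq_top_iff, ← hmaxM.2 _ hlt]
      exact hle
    have hN : T.Normal := Subgroup.normalizer_eq_top_iff.mp htop
    rcases hN.eq_bot_or_eq_top with h | h
    · exfalso
      apply hH1
      have h1 : cj(g⁻¹, H) = ⊥ := by
        rw [eq_bot_iff, ← h]; exact hH2T
      have h2 : Nat.card cj(g⁻¹, H) = 1 := by rw [h1, Subgroup.card_bot]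
      rw [card_conjMap] at h2
      exact Subgroup.card_eq_one.mp h2
    · exact h
  -- (vii)
  rw [eq_top_iff, ← hTtop]
  have h0 : T ≤ ⨆ m : M, cj((m : G) * g⁻¹, H) := le_of_eq hT
  refine le_trans h0 ?_
  apply iSup_le
  intro m
  -- decompose m = k * h
  have hNormal : (H.subgroupOf M).Normal := hHn
  have hsup : (cj(g, H)).subgroupOf M ⊔ H.subgroupOf M = ⊤ := by
    rw [← Subgroup.subgroupOf_sup hK hHM, sup_comm, hHK, Subgroup.subgroupOf_self]
  have hm : m ∈ ((cj(g, H)).subgroupOf M ⊔ H.subgroupOf M : Subgroup M) := by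
    rw [hsup]; exact Subgroup.mem_top m
  rw [← SetLike.mem_coe, Subgroup.mul_normal] at hm
  obtain ⟨k, hk, h, hh, hkh⟩ := Set.mem_mul.mp hm
  have hk' : (k : G) ∈ cj(g, H) := hk
  have hh' : (h : G) ∈ H := hh
  have e1 : (m : G) * g⁻¹ = (k : G) * ((h : G) * g⁻¹) := by
    rw [← hkh]; simp [mul_assoc]
  have e2 : (h : G) * g⁻¹ = g⁻¹ * (g * (h : G) * g⁻¹) := by group
  have hghg : g * (h : G) * g⁻¹ ∈ M := by
    apply hK
    rw [mem_conjMap]
    have e : g⁻¹ * (g * (h : G) * g⁻¹) * g = (h : G) := by group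
    rw [e]; exact hh'
  rw [e1, ← conjMap_conjMap, e2, ← conjMap_conjMap, hnormM _ hghg]
  exact conjMap_le_of_mem (k : G) _ _ (le_sup_left (a := cj(g, H)) hk') le_sup_right


/-- Let G be a finite non-abelian simple group, M a maximal subgroup of G and H a normal subgroup of M of prime index in M. Then G is generated by H together with one of its conjugates. -/
theorem result {G : Type*} [Group G] [Finite G] [IsSimpleGroup G] (hG : ¬ IsMulCommutative G) (M H : Subgroup G) (hmaxM : IsCoatom M) (hHM : H ≤ M) (hHn : (H.subgroupOf M).Normal) (hidx : (H.relIndex M).Prime) : ∃ g : G, H ⊔ H.map (MulAut.conj g).toMonoidHom = ⊤ := by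
  have hnc : ¬ ∀ a b : G, a * b = b * a := fun h => hG ⟨⟨h⟩⟩
  have hmaxH := coatom_of_prime_relIndex hidx
  have hHneM : H ≠ M := by
    intro h
    apply hmaxH.1
    rw [h]
    exact M.subgroupOf_self
  by_cases hH1 : H = ⊥
  · exfalso
    have hcard : Nat.card M = H.relIndex M := by
      rw [hH1, Subgroup.relIndex_bot_left]
    exact no_prime_order_maximal hnc M hmaxM _ hidx hcard
  by_cases hc1 : ∃ g : G, cj(g, H) ≤ M ∧ cj(g, H) ≠ H
  · obtain ⟨g, hK, hKH⟩ := hc1
    have h := case1 M H hmaxM hHM hHn hidx hH1 g hK hKH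
    refine ⟨g⁻¹ * g⁻¹, ?_⟩
    have h2 : cj(g⁻¹, cj(g, H) ⊔ cj(g⁻¹, H)) = cj(g⁻¹, (⊤ : Subgroup G)) := by rw [h]
    rw [Subgroup.map_sup, conjMap_conjMap, conjMap_conjMap, inv_mul_cancel, conjMap_one,
      Subgroup.map_top_of_surjective _ (MulAut.conj g⁻¹).surjective] at h2
    exact h2
  · by_contra hno
    have hcl : ∀ g : G, (H ⊔ cj(g, H)) ⊓ M = H := by
      intro g
      have h1 : H ≤ (H ⊔ cj(g, H)) ⊓ M := le_inf le_sup_left hHM
      rcases eq_or_eq_of_coatom hmaxH _ h1 inf_le_right with h | h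
      · exact h
      · exfalso
        have hM : M ≤ H ⊔ cj(g, H) := inf_eq_right.mp h
        rcases eq_or_lt_of_le hM with h2 | h2
        · have h3 : cj(g, H) ≤ M := le_trans le_sup_right (le_of_eq h2.symm)
          have h4 : cj(g, H) = H := by
            by_contra h4
            exact hc1 ⟨g, h3, h4⟩
          have h5 : M = H := by
            calc M = H ⊔ cj(g, H) := h2
              _ = H := by rw [h4, sup_idem]
          exact hHneM h5.symm
        · exact hno ⟨g, hmaxM.2 _ h2⟩
    have h14 := Cfsg.Agent.S3014.result H M hHM hcl hmaxH hmaxM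
    rcases (Subgroup.normalClosure_normal (s := (H : Set G))).eq_bot_or_eq_top with h | h
    · apply hH1
      rw [eq_bot_iff, ← h]; exact Subgroup.le_normalClosure
    · rw [h, top_inf_eq] at h14
      exact hHneM h14.symm

end Cfsg.Agent.S3015
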