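import Cfsg.Statements.S3020
import Cfsg.Agent.Lib.Helper12.Cores
import Cfsg.Agent.Lib.Helper17.Basic

set_option autoImplicit false
open Cfsg

namespace Cfsg.Agent.S3020

/-- Let G be a finite group, p a prime and H an abelian p-subgroup of G that is extremely closed (for every g, the subgroup generated by H and g H g⁻¹ meets N_G(H) exactly in H). Then for every g ∈ G, the subgroup T generated by H and g H g⁻¹ is the product of H with O_{p'}(T), and H meets O_{p'}(T) trivially; that is, O_{p'}(T) is a normal p-complement of H in T. -/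
theorem result {G : Type*} [Group G] [Finite G] {p : ℕ} [Fact p.Prime] (H : Subgroup G) (hHp : IsPGroup p H) (hHab : IsMulCommutative H) (hcl : Cfsg.IsExtremelyClosed H) (g : G) (T : Subgroup G) (hT : T = H ⊔ H.map (MulAut.conj g).toMonoidHom) : H ⊔ (Cfsg.pPrimeCore p ↥T).map T.subtype = T ∧ H ⊓ (Cfsg.pPrimeCore p ↥T).map T.subtype = ⊥ := by
  classical
  have hp : p.Prime := Fact.out
  have hHT : H ≤ T := by rw [hT]; exact le_sup_left
  have hTN : T ⊓ Subgroup.normalizer (H : Set G) = H := by rw [hT]; exact hcl g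
  have hHTp : IsPGroup p (H.subgroupOf T) := hHp.comap_subtype
  -- `H` is a maximal `p`-subgroup of `T`
  have hmax : ∀ Q : Subgroup T, IsPGroup p Q → H.subgroupOf T ≤ Q → Q = H.subgroupOf T := by
    intro Q hQ hle
    have hQ'p : IsPGroup p (Q.map T.subtype) := hQ.map _
    have hQ'T : Q.map T.subtype ≤ T := Subgroup.map_subtype_le _
    have hHQ' : H ≤ Q.map T.subtype := by
      intro h hh
      exact ⟨⟨h, hHT hh⟩, hle (by rw [Subgroup.mem_subgroupOf]; exact hh), rfl⟩
    have hEq : H = Q.map T.subtype := by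
      apply Lib.Helper17.eq_of_normalizer_inf_le H _ hQ'p hHQ'
      intro x hx
      rw [← hTN]
      exact ⟨hQ'T hx.2, hx.1⟩
    apply le_antisymm _ hle
    intro q hq
    rw [Subgroup.mem_subgroupOf, hEq]
    exact ⟨q, hq, rfl⟩
  let P : Sylow p T :=
    { toSubgroup := H.subgroupOf T
      isPGroup' := hHTp
      is_maximal' := fun {Q} hQ hle => hmax Q hQ hle }
  have hPcoe : (P : Subgroup T) = H.subgroupOf T := rfl
  have hNC : Subgroup.normalizer ((P : Subgroup T) : Set T) ≤
      Subgroup.centralizer ((P : Subgroup T) : Set T) := by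
    intro t ht
    have htH : (t : G) ∈ H := by
      rw [← hTN]
      refine ⟨t.2, ?_⟩
      apply Lib.Helper17.mem_normalizer_of_forall_conj_mem
      intro h hh
      have h1 : (⟨h, hHT hh⟩ : T) ∈ (P : Subgroup T) := by
        rw [hPcoe, Subgroup.mem_subgroupOf]; exact hh
      have h2 := (Subgroup.mem_normalizer_iff.mp ht ⟨h, hHT hh⟩).mp h1
      rw [hPcoe, Subgroup.mem_subgroupOf] at h2
      simpa using h2
    rw [Subgroup.mem_centralizer_iff]
    intro u hu
    have huH : (u : G) ∈ H := by
      have : u ∈ H.subgroupOf T := hu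
      rwa [Subgroup.mem_subgroupOf] at this
    apply Subtype.ext
    have := hHab.is_comm.comm (⟨(u : G), huH⟩ : H) ⟨(t : G), htH⟩
    have h3 := congrArg Subtype.val this
    simpa using h3
  have hcompl := MonoidHom.ker_transferSylow_isComplement' P hNC
  have hnd := MonoidHom.not_dvd_card_ker_transferSylow P hNC
  have hKcop : (Nat.card (MonoidHom.transferSylow P hNC).ker).Coprime p :=
    ((Nat.Prime.coprime_iff_not_dvd hp).mpr hnd).symm
  have hKle : (MonoidHom.transferSylow P hNC).ker ≤ Cfsg.pPrimeCore p ↥T :=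
    Lib.Helper12.le_pPrimeCore p _ inferInstance hKcop
  have hOcop := Lib.Helper12.pPrimeCore_coprime (X := ↥T) p
  have hsup : H.subgroupOf T ⊔ Cfsg.pPrimeCore p ↥T = ⊤ := by
    rw [eq_top_iff, ← hcompl.sup_eq_top, sup_comm]
    exact sup_le_sup le_rfl hKle
  have hinf : H.subgroupOf T ⊓ Cfsg.pPrimeCore p ↥T = ⊥ := by
    apply disjoint_iff.mp
    apply Subgroup.disjoint_of_coprime_natCard
    obtain ⟨k, hk⟩ := IsPGroup.iff_card.mp hHTp
    rw [hk]
    exact (Nat.Coprime.pow_right k hOcop).symm
  have hmapH : (H.subgroupOf T).map T.subtype = H := Subgroup.map_subgroupOf_eq_of_le hHT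
  constructor
  · have := congrArg (Subgroup.map T.subtype) hsup
    rw [Subgroup.map_sup, hmapH, ← MonoidHom.range_eq_map, Subgroup.range_subtype] at this
    exact this
  · have := congrArg (Subgroup.map T.subtype) hinf
    rw [Subgroup.map_inf _ _ _ T.subtype_injective, hmapH, Subgroup.map_bot] at this
    exact this

end Cfsg.Agent.S3020
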