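import Cfsg.Statements.S3021
import Cfsg.Agent.Lib.Helper17.Basic

set_option autoImplicit false
open Cfsg

namespace Cfsg.Agent.S3021

/-- Let G be a finite group, p a prime and H a p-subgroup of G that is extremely closed (for every g, the subgroup generated by H and g H g⁻¹ meets N_G(H) exactly in H). Then every p-subgroup Q of G containing H has N_G(Q) ≤ N_G(H); in particular every Sylow p-subgroup P of G containing H normalizes H, and H is strongly closed in P with respect to G. -/
theorem result {G : Type*} [Group G] [Finite G] {p : ℕ} [Fact p.Prime] (H : Subgroup G) (hHp : IsPGroup p H) (hcl : Cfsg.IsExtremelyClosed H) : (∀ Q : Subgroup G, IsPGroup p Q → H ≤ Q → Subgroup.normalizer (Q : Set G) ≤ Subgroup.normalizer (H : Set G)) ∧ ∀ P : Sylow p G, H ≤ (P : Subgroup G) → (P : Subgroup G) ≤ Subgroup.normalizer (H : Set G) ∧ Cfsg.IsStronglyClosed H (P : Subgroup G) := by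
  have key : ∀ Q : Subgroup G, IsPGroup p Q → H ≤ Q →
      Subgroup.normalizer (Q : Set G) ≤ Subgroup.normalizer (H : Set G) := by
    intro Q hQ hHQ n hn
    apply Lib.Helper17.mem_normalizer_of_map_conj_le
    -- T = ⟨H, H^n⟩ ≤ Q is a p-group in which H is self-normalizing
    have hHn : H.map (MulAut.conj n).toMonoidHom ≤ Q := by
      rintro _ ⟨x, hx, rfl⟩
      exact Lib.Helper17.conj_mem_of_mem_normalizer hn (hHQ hx)
    have hTQ : H ⊔ H.map (MulAut.conj n).toMonoidHom ≤ Q := sup_le hHQ hHn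
    have hT : IsPGroup p ↥(H ⊔ H.map (MulAut.conj n).toMonoidHom) := hQ.to_le hTQ
    have hEq : H = H ⊔ H.map (MulAut.conj n).toMonoidHom := by
      apply Lib.Helper17.eq_of_normalizer_inf_le H _ hT le_sup_left
      rw [inf_comm]
      exact le_of_eq (hcl n)
    calc H.map (MulAut.conj n).toMonoidHom ≤ H ⊔ H.map (MulAut.conj n).toMonoidHom := le_sup_right
      _ = H := hEq.symm
  refine ⟨key, ?_⟩
  intro P hHP
  have hPN : (P : Subgroup G) ≤ Subgroup.normalizer (H : Set G) :=
    (Subgroup.le_normalizer).trans (key P P.2 hHP)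
  refine ⟨hPN, hHP, ?_⟩
  intro x hx g hgx
  have h1 : g * x * g⁻¹ ∈ H ⊔ H.map (MulAut.conj g).toMonoidHom := by
    apply (le_sup_right : H.map (MulAut.conj g).toMonoidHom ≤ _)
    exact ⟨x, hx, rfl⟩
  have h2 : g * x * g⁻¹ ∈ (H ⊔ H.map (MulAut.conj g).toMonoidHom) ⊓ Subgroup.normalizer (H : Set G) :=
    ⟨h1, hPN hgx⟩
  rw [hcl g] at h2
  exact h2

end Cfsg.Agent.S3021
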