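import Cfsg.Statements.S3023
-- import your own Cfsg.Agent.* helpers here
import Mathlib
import Cfsg.Agent.Lib.Helper29.SubnormalSylow

set_option autoImplicit false
open Cfsg

namespace Cfsg.Agent.S3023

open scoped Pointwise
open Cfsg.Agent.Lib.Helper16 Cfsg.Agent.Lib.Helper29

/-- Let p be a prime, G a finite group of parabolic characteristic p (every p-local subgroup containing a Sylow p-subgroup of G has characteristic p), S a Sylow p-subgroup of G and G₁ a subnormal subgroup of G. If the centre of S ∩ G₁ is nontrivial and contained in the centre of S, then G₁ has parabolic characteristic p. -/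
theorem result {G : Type*} [Group G] [Finite G] {p : ℕ} [Fact p.Prime] (hG : Cfsg.IsOfParabolicCharacteristic p G) (S : Sylow p G) (G₁ : Subgroup G) (hsn : G₁.IsSubnormal) (hne : ((S : Subgroup G) ⊓ G₁) ⊓ Subgroup.centralizer (((S : Subgroup G) ⊓ G₁ : Subgroup G) : Set G) ≠ ⊥) (hle : ((S : Subgroup G) ⊓ G₁) ⊓ Subgroup.centralizer (((S : Subgroup G) ⊓ G₁ : Subgroup G) : Set G) ≤ (S : Subgroup G) ⊓ Subgroup.centralizer ((S : Subgroup G) : Set G)) : Cfsg.IsOfParabolicCharacteristic p ↥G₁ := by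
  have hp : p.Prime := Fact.out
  -- the Sylow subgroup `S ⊓ G₁` of `G₁`
  have hQ₀p : IsPGroup p (((S : Subgroup G) ⊓ G₁).subgroupOf G₁) :=
    (S.2.to_le inf_le_left).comap_subtype
  have hQ₀i : ¬ p ∣ (((S : Subgroup G) ⊓ G₁).subgroupOf G₁).index := by
    have := not_dvd_relIndex_of_isSubnormal S G₁ hsn
    rwa [← Subgroup.inf_relIndex_right] at this
  obtain ⟨Q, hQ₀⟩ : ∃ Q : Sylow p ↥G₁, (Q : Subgroup ↥G₁) = ((S : Subgroup G) ⊓ G₁).subgroupOf G₁ :=
    ⟨hQ₀p.toSylow hQ₀i, rfl⟩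
  have hQ : (Q : Subgroup ↥G₁).map G₁.subtype = (S : Subgroup G) ⊓ G₁ := by
    rw [hQ₀, Subgroup.map_subgroupOf_eq_of_le inf_le_right]
  -- `p` divides the orders
  have hdiv₁ : p ∣ Nat.card ↥G₁ := by
    obtain ⟨k, hk⟩ := IsPGroup.iff_card.mp hQ₀p
    have hk0 : k ≠ 0 := by
      rintro rfl
      rw [pow_zero, Subgroup.card_eq_one] at hk
      apply hne
      rw [eq_bot_iff]
      intro x hx
      have hx' : (⟨x, hx.1.2⟩ : ↥G₁) ∈ ((S : Subgroup G) ⊓ G₁).subgroupOf G₁ := hx.1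
      rw [hk, Subgroup.mem_bot] at hx'
      rw [Subgroup.mem_bot]
      exact congrArg Subtype.val hx'
    have h1 : p ∣ Nat.card (((S : Subgroup G) ⊓ G₁).subgroupOf G₁) := by
      rw [hk]; exact dvd_pow_self p hk0
    exact h1.trans (Subgroup.card_subgroup_dvd_card _)
  have hdiv : p ∣ Nat.card G := hdiv₁.trans (Subgroup.card_subgroup_dvd_card G₁)
  have hmainG := (parabolic_local_char_main hdiv S ⊥ bot_le).2.1
  apply (parabolic_local_char_main hdiv₁ Q ⊥ bot_le).2.1.mpr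
  intro z hz1 hzΩ
  -- transport z to G
  have hzG : (z : G) ∈ Cfsg.omegaOne p (((S : Subgroup G) ⊓ G₁) ⊓
      Subgroup.centralizer (((S : Subgroup G) ⊓ G₁ : Subgroup G) : Set G)) := by
    have hmap : (Cfsg.omegaOne p ((Q : Subgroup ↥G₁) ⊓
        Subgroup.centralizer ((Q : Subgroup ↥G₁) : Set ↥G₁))).map G₁.subtype ≤
        Cfsg.omegaOne p (((S : Subgroup G) ⊓ G₁) ⊓
          Subgroup.centralizer (((S : Subgroup G) ⊓ G₁ : Subgroup G) : Set G)) := by
      unfold Cfsg.omegaOne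
      rw [MonoidHom.map_closure, Subgroup.closure_le]
      rintro _ ⟨x, ⟨hx1, hxp⟩, rfl⟩
      apply Subgroup.subset_closure
      refine ⟨Subgroup.mem_inf.mpr ⟨?_, ?_⟩, ?_⟩
      · rw [← hQ]; exact ⟨x, (Subgroup.mem_inf.mp hx1).1, rfl⟩
      · rw [Subgroup.mem_centralizer_iff]
        intro y hy
        rw [SetLike.mem_coe, ← hQ] at hy
        obtain ⟨y', hy', rfl⟩ := hy
        have := (Subgroup.mem_centralizer_iff.mp (Subgroup.mem_inf.mp hx1).2) y' hy'
        exact congrArg Subtype.val this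
      · have := congrArg Subtype.val hxp
        simpa using this
    exact hmap ⟨z, hzΩ, rfl⟩
  have hzG' : (z : G) ∈ Cfsg.omegaOne p ((S : Subgroup G) ⊓
      Subgroup.centralizer ((S : Subgroup G) : Set G)) := by
    have hmono : Cfsg.omegaOne p (((S : Subgroup G) ⊓ G₁) ⊓
        Subgroup.centralizer (((S : Subgroup G) ⊓ G₁ : Subgroup G) : Set G)) ≤
        Cfsg.omegaOne p ((S : Subgroup G) ⊓ Subgroup.centralizer ((S : Subgroup G) : Set G)) := by
      unfold Cfsg.omegaOne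
      apply Subgroup.closure_mono
      rintro x ⟨hx1, hx2⟩
      exact ⟨hle hx1, hx2⟩
    exact hmono hzG
  have hzG1 : (z : G) ≠ 1 := fun h => hz1 (Subtype.ext h)
  have hFG := hmainG.mp hG (z : G) hzG1 hzG'
  rw [fstar_eq_pCore_iff] at hFG ⊢
  -- C_G(z) ⊓ G₁ has char p
  obtain ⟨C, hC⟩ : ∃ C : Subgroup G, C = Subgroup.centralizer ({(z : G)} : Set G) := ⟨_, rfl⟩
  rw [← hC] at hFG
  have hCG₁ : Subgroup.centralizer (Cfsg.pCore p ↥(C ⊓ G₁) : Set ↥(C ⊓ G₁)) ≤ Cfsg.pCore p ↥(C ⊓ G₁) := by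
    have hs : ((C ⊓ G₁).subgroupOf C).IsSubnormal := by
      rw [Subgroup.inf_subgroupOf_left]
      exact hsn.subgroupOf
    have h1 := charP_of_isSubnormal _ hs hFG
    exact charP_of_equiv (Subgroup.subgroupOfEquivOfLe inf_le_left) h1
  have hmapC := Cfsg.Agent.Lib.Helper9.map_subtype_centralizer_singleton G₁ z
  rw [← hC] at hmapC
  have e1 : ↥(Subgroup.centralizer ({z} : Set ↥G₁)) ≃*
      ↥((Subgroup.centralizer ({z} : Set ↥G₁)).map G₁.subtype) :=
    Subgroup.equivMapOfInjective _ _ G₁.subtype_injective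
  have e2 : ↥((Subgroup.centralizer ({z} : Set ↥G₁)).map G₁.subtype) ≃* ↥(C ⊓ G₁) :=
    MulEquiv.subgroupCongr hmapC
  exact charP_of_equiv (e1.trans e2).symm hCG₁

end Cfsg.Agent.S3023
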