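import Cfsg.Statements.S3025
import Mathlib
import Cfsg.Agent.S0016
import Cfsg.Agent.Lib.Helper17.Basic

set_option autoImplicit false
set_option linter.style.haveILetI false
open Cfsg

namespace Cfsg.Agent.S3025

open Cfsg.Agent.Lib.Helper17 in
theorem exists_minimal {F : Type*} [Group F] [Finite F] (H : Subgroup F) (hH : H ≠ ⊥)
    (hmin : ∀ R : Subgroup F, R ≠ ⊥ → H ≤ Subgroup.normalizer (R : Set F) → H ≤ R) :
    ∃ N : Subgroup F, N.Normal ∧ N ≠ ⊥ ∧ H ≤ N ∧
      (∀ M : Subgroup F, M.Normal → M ≠ ⊥ → N ≤ M) := by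
  have hle : H ≤ sInf {M : Subgroup F | M.Normal ∧ M ≠ ⊥} := by
    apply le_sInf
    rintro M ⟨hMn, hM⟩
    apply hmin M hM
    have := hMn
    rw [Subgroup.normalizer_eq_top]
    exact le_top
  refine ⟨sInf {M : Subgroup F | M.Normal ∧ M ≠ ⊥}, ?_, ?_, hle, ?_⟩
  · constructor
    intro n hn g
    rw [Subgroup.mem_sInf] at hn ⊢
    intro M hM
    exact hM.1.conj_mem n (hn M hM) g
  · intro h
    apply hH
    rw [eq_bot_iff, ← h]
    exact hle
  · intro M hMn hM
    exact sInf_le ⟨hMn, hM⟩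

open Cfsg.Agent.Lib.Helper17 in
theorem simple_of_minimal {F : Type*} [Group F] [Finite F] (H N : Subgroup F) (hH : H ≠ ⊥)
    (hmin : ∀ R : Subgroup F, R ≠ ⊥ → H ≤ Subgroup.normalizer (R : Set F) → H ≤ R)
    (hNn : N.Normal) (hN : N ≠ ⊥) (hHN : H ≤ N)
    (hNmin : ∀ M : Subgroup F, M.Normal → M ≠ ⊥ → N ≤ M) : IsSimpleGroup ↥N := by
  have : Nontrivial ↥N := (Subgroup.nontrivial_iff_ne_bot N).mpr hN
  refine ⟨fun T hT => ?_⟩
  by_cases hTb : T = ⊥
  · exact Or.inl hTb
  right
  -- T' := image of T in F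
  obtain ⟨T', hT'⟩ : ∃ T' : Subgroup F, T' = T.map N.subtype := ⟨_, rfl⟩
  have hT'N : T' ≤ N := by
    rw [hT']; exact Subgroup.map_subtype_le T
  have hT'conj : ∀ n ∈ N, ∀ t ∈ T', n * t * n⁻¹ ∈ T' := by
    intro n hn t ht
    rw [hT'] at ht ⊢
    obtain ⟨t0, ht0, rfl⟩ := ht
    refine ⟨⟨n, hn⟩ * t0 * ⟨n, hn⟩⁻¹, hT.conj_mem t0 ht0 ⟨n, hn⟩, ?_⟩
    simp
  have hT'ne : ∃ t ∈ T', t ≠ 1 := by
    obtain ⟨a, ha⟩ := Subgroup.ne_bot_iff_exists_ne_one.mp hTb
    refine ⟨((a : ↥N) : F), ?_, ?_⟩
    · rw [hT']; exact ⟨a, a.2, rfl⟩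
    · intro h; apply ha; exact Subtype.ext (Subtype.ext h)
  -- H ≤ normalCore T'
  have hHcore : H ≤ T'.normalCore := by
    intro h hh b
    -- R := comap of T' under conjugation by b
    have hR : H ≤ T'.comap (MulAut.conj b).toMonoidHom := by
      apply hmin
      · obtain ⟨t, ht, ht1⟩ := hT'ne
        intro hbot
        have : b⁻¹ * t * b ∈ T'.comap (MulAut.conj b).toMonoidHom := by
          rw [Subgroup.mem_comap]
          simp only [MulEquiv.coe_toMonoidHom, MulAut.conj_apply]
          have : b * (b⁻¹ * t * b) * b⁻¹ = t := by group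
          rw [this]; exact ht
        rw [hbot, Subgroup.mem_bot] at this
        apply ht1
        have h2 : t = b * (b⁻¹ * t * b) * b⁻¹ := by group
        rw [h2, this]; group
      · intro x hx
        apply mem_normalizer_of_forall_conj_mem
        intro a ha
        rw [Subgroup.mem_comap] at ha ⊢
        simp only [MulEquiv.coe_toMonoidHom, MulAut.conj_apply] at ha ⊢
        have h3 : b * (x * a * x⁻¹) * b⁻¹ = (b * x * b⁻¹) * (b * a * b⁻¹) * (b * x * b⁻¹)⁻¹ := by
          group
        rw [h3]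
        exact hT'conj _ (hNn.conj_mem x (hHN hx) b) _ ha
    have := hR hh
    rw [Subgroup.mem_comap] at this
    simpa using this
  have hcore_ne : T'.normalCore ≠ ⊥ := by
    intro h
    apply hH
    rw [eq_bot_iff, ← h]; exact hHcore
  have hNT' : N ≤ T' := (hNmin _ inferInstance hcore_ne).trans (Subgroup.normalCore_le T')
  rw [eq_top_iff]
  intro x _
  have hx : (x : F) ∈ T' := hNT' x.2
  rw [hT'] at hx
  obtain ⟨t0, ht0, ht0x⟩ := hx
  have : t0 = x := Subtype.ext ht0x
  rw [← this]; exact ht0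

theorem ker_conjNormal {F : Type*} [Group F] (N : Subgroup F) [N.Normal] :
    (MulAut.conjNormal : F →* MulAut ↥N).ker = Subgroup.centralizer (N : Set F) := by
  ext g
  rw [MonoidHom.mem_ker, Subgroup.mem_centralizer_iff]
  constructor
  · intro h x hx
    have h1 : ((MulAut.conjNormal g : MulAut ↥N) ⟨x, hx⟩ : F) = x := by rw [h]; rfl
    rw [MulAut.conjNormal_apply] at h1
    simp only at h1
    calc x * g = (g * x * g⁻¹) * g := by rw [h1]
      _ = g * x := by group
  · intro h
    ext ⟨x, hx⟩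
    rw [MulAut.conjNormal_apply]
    simp only [MulAut.one_apply]
    rw [← h x hx]; group

theorem abelian_case {F : Type*} [Group F] [Finite F] (H N : Subgroup F) (hH : H ≠ ⊥)
    (hmin : ∀ R : Subgroup F, R ≠ ⊥ → H ≤ Subgroup.normalizer (R : Set F) → H ≤ R)
    (hNn : N.Normal) (hHN : H ≤ N) (hsimple : IsSimpleGroup ↥N)
    (hab : ∀ a ∈ N, ∀ b ∈ N, a * b = b * a) :
    (H = N ∧ (Nat.card N).Prime ∧ IsCyclic ↥(Subgroup.centralizer (N : Set F)) ∧
          (∃ k : ℕ, 1 ≤ k ∧ Nat.card ↥(Subgroup.centralizer (N : Set F)) = Nat.card N ^ k) ∧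
          (∃ g : F, Subgroup.centralizer (N : Set F) ⊔ Subgroup.zpowers g = ⊤) ∧
          (Subgroup.centralizer (N : Set F)).index ∣ Nat.card N - 1) ∨
       (H = N ∧ Nat.card N = 2 ∧ Subgroup.centralizer (N : Set F) = ⊤ ∧
          ∃ k : ℕ, 1 ≤ k ∧ Nonempty (F ≃* QuaternionGroup (2 ^ k))) := by
  have hp : (Nat.card ↥N).Prime := by
    letI : CommGroup ↥N := { (inferInstance : Group ↥N) with
      mul_comm := fun a b => Subtype.ext (hab a a.2 b b.2) }
    exact IsSimpleGroup.prime_card
  obtain ⟨p, hpdef⟩ : ∃ p, p = Nat.card ↥N := ⟨_, rfl⟩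
  rw [← hpdef] at hp ⊢
  haveI : Fact p.Prime := ⟨hp⟩
  haveI : Fact (Nat.card ↥N).Prime := ⟨hpdef ▸ hp⟩
  obtain ⟨C, hC⟩ : ∃ C, C = Subgroup.centralizer (N : Set F) := ⟨_, rfl⟩
  rw [← hC]
  have hHeq : H = N := by
    apply le_antisymm hHN
    rcases Subgroup.eq_bot_or_eq_top_of_prime_card (H.subgroupOf N) with h | h
    · exfalso; apply hH
      rw [Subgroup.subgroupOf_eq_bot] at h
      exact h.eq_bot_of_le hHN
    · rwa [Subgroup.subgroupOf_eq_top] at h
  have key : ∀ R : Subgroup F, R ≠ ⊥ → R ≤ C → N ≤ R := by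
    intro R hR hRC
    rw [← hHeq]
    apply hmin R hR
    rw [hHeq]
    rw [hC] at hRC
    exact (Subgroup.le_centralizer_iff.mp hRC).trans (Subgroup.centralizer_le_normalizer _)
  have hNC : N ≤ C := by
    rw [hC]
    intro a ha
    rw [Subgroup.mem_centralizer_iff]
    intro b hb
    exact hab b hb a ha
  have hq : ∀ {q : ℕ}, q.Prime → q ∣ Nat.card ↥C → q = p := by
    intro q hq hdvd
    haveI : Fact q.Prime := ⟨hq⟩
    obtain ⟨x, hx⟩ := exists_prime_orderOf_dvd_card' q hdvd
    have hxo : orderOf (x : F) = q := by rw [Subgroup.orderOf_coe]; exact hx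
    have hx1 : Subgroup.zpowers (x : F) ≠ ⊥ := by
      rw [Ne, Subgroup.zpowers_eq_bot]
      intro h
      rw [h, orderOf_one] at hxo
      exact hq.one_lt.ne hxo
    have hle : N ≤ Subgroup.zpowers (x : F) :=
      key _ hx1 (by rw [Subgroup.zpowers_le]; exact x.2)
    have hdv : p ∣ q := by
      have := Subgroup.card_dvd_of_le hle
      rwa [Nat.card_zpowers, hxo, ← hpdef] at this
    exact ((Nat.prime_dvd_prime_iff_eq hp hq).mp hdv).symm
  have hcardC := Nat.eq_prime_pow_of_unique_prime_dvd (Nat.card_pos (α := ↥C)).ne' hq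
  have hCp : IsPGroup p ↥C := IsPGroup.of_card hcardC
  have huniq : ∀ A B : Subgroup ↥C, Nat.card A = p → Nat.card B = p → A = B := by
    have h1 : ∀ A : Subgroup ↥C, Nat.card A = p → A.map C.subtype = N := by
      intro A hA
      have hcard : Nat.card ↥(A.map C.subtype) = p := by
        rw [Subgroup.card_map_of_injective C.subtype_injective]; exact hA
      have hne : A.map C.subtype ≠ ⊥ := by
        intro h
        rw [h, Subgroup.card_bot] at hcard
        exact hp.one_lt.ne hcard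
      have hle := key _ hne (Subgroup.map_subtype_le A)
      exact (Subgroup.eq_of_le_of_card_ge hle (by rw [hcard, hpdef])).symm
    intro A B hA hB
    apply Subgroup.map_injective C.subtype_injective
    rw [h1 A hA, h1 B hB]
  haveI : IsCyclic ↥N := isCyclic_of_prime_card (p := p) hpdef.symm
  have hcardAut : Nat.card (MulAut ↥N) = p - 1 := by
    rw [IsCyclic.card_mulAut, ← hpdef, Nat.totient_prime hp]
  have hker : (MulAut.conjNormal : F →* MulAut ↥N).ker = C := by
    rw [hC]; exact ker_conjNormal N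
  by_cases hcyc : IsCyclic ↥C
  · left
    refine ⟨hHeq, hp, hcyc, ⟨_, ?_, hcardC⟩, ?_, ?_⟩
    · by_contra hk
      have hk0 : (Nat.card ↥C).primeFactorsList.length = 0 := by omega
      rw [hk0, pow_zero] at hcardC
      have := Subgroup.card_dvd_of_le hNC
      rw [hcardC, ← hpdef] at this
      exact hp.one_lt.ne' (Nat.dvd_one.mp this)
    · haveI : IsCyclic (MulAut ↥N) :=
        isCyclic_of_surjective (IsCyclic.mulAutMulEquiv ↥N).symm
          (IsCyclic.mulAutMulEquiv ↥N).symm.surjective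
      obtain ⟨y, hy⟩ := IsCyclic.exists_generator
        (α := ↥(MulAut.conjNormal : F →* MulAut ↥N).range)
      obtain ⟨g, hg⟩ := y.2
      refine ⟨g, ?_⟩
      rw [eq_top_iff]
      intro f _
      obtain ⟨k, hk⟩ := Subgroup.mem_zpowers_iff.mp
        (hy ⟨(MulAut.conjNormal : F →* MulAut ↥N) f, ⟨f, rfl⟩⟩)
      have hk' : ((MulAut.conjNormal : F →* MulAut ↥N) g) ^ k
          = (MulAut.conjNormal : F →* MulAut ↥N) f := by
        have h2 := congrArg Subtype.val hk
        rw [Subgroup.coe_zpow, ← hg] at h2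
        exact h2
      have hmem : f * (g ^ k)⁻¹ ∈ C := by
        rw [← hker, MonoidHom.mem_ker, map_mul, map_inv, map_zpow, hk', mul_inv_cancel]
      have : f = (f * (g ^ k)⁻¹) * g ^ k := by group
      rw [this]
      exact Subgroup.mul_mem_sup hmem (Subgroup.zpow_mem_zpowers g k)
    · rw [← hker, Subgroup.index_ker, ← hcardAut]
      exact Subgroup.card_subgroup_dvd_card _
  · right
    obtain ⟨hp2, n, ⟨e⟩⟩ := (Cfsg.Agent.S0016.result p hCp huniq).resolve_left hcyc
    subst hp2
    have hCtop : C = ⊤ := by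
      rw [← hker, eq_top_iff]
      intro g _
      rw [MonoidHom.mem_ker]
      have : Subsingleton (MulAut ↥N) := by
        apply (Nat.card_eq_one_iff_unique.mp (by rw [hcardAut])).1
      exact Subsingleton.elim _ _
    refine ⟨hHeq, rfl, hCtop, n, ?_, ⟨?_⟩⟩
    · by_contra hn
      have hn0 : n = 0 := by omega
      subst hn0
      apply hcyc
      have : IsCyclic (QuaternionGroup (2 ^ 0)) := QuaternionGroup.quaternionGroup_one_isCyclic
      exact isCyclic_of_surjective e.symm e.symm.surjective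
    · exact (Subgroup.topEquiv.symm.trans (MulEquiv.subgroupCongr hCtop.symm)).trans e

/-- Let F be a finite group and H a nontrivial subgroup of F that is contained in every nontrivial subgroup of F which H normalizes. Then F has a nontrivial normal subgroup N contained in every nontrivial normal subgroup of F (a unique minimal normal subgroup), N is simple, and one of the following holds: C_F(N) = 1; or H = N has prime order p, C_F(N) is cyclic of order a power of p, and F/C_F(N) is cyclic of order dividing p − 1; or H = N has order 2, N is central in F, and F is a generalized quaternion group. -/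
theorem result {F : Type*} [Group F] [Finite F] (H : Subgroup F) (hH : H ≠ ⊥)
    (hmin : ∀ R : Subgroup F, R ≠ ⊥ → H ≤ Subgroup.normalizer (R : Set F) → H ≤ R) :
    ∃ N : Subgroup F, N.Normal ∧ N ≠ ⊥ ∧ (∀ M : Subgroup F, M.Normal → M ≠ ⊥ → N ≤ M) ∧ IsSimpleGroup ↥N ∧
      (Subgroup.centralizer (N : Set F) = ⊥ ∨
       (H = N ∧ (Nat.card N).Prime ∧ IsCyclic ↥(Subgroup.centralizer (N : Set F)) ∧
          (∃ k : ℕ, 1 ≤ k ∧ Nat.card ↥(Subgroup.centralizer (N : Set F)) = Nat.card N ^ k) ∧
          (∃ g : F, Subgroup.centralizer (N : Set F) ⊔ Subgroup.zpowers g = ⊤) ∧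
          (Subgroup.centralizer (N : Set F)).index ∣ Nat.card N - 1) ∨
       (H = N ∧ Nat.card N = 2 ∧ Subgroup.centralizer (N : Set F) = ⊤ ∧
          ∃ k : ℕ, 1 ≤ k ∧ Nonempty (F ≃* QuaternionGroup (2 ^ k)))) := by
  obtain ⟨N, hNn, hN, hHN, hNmin⟩ := exists_minimal H hH hmin
  have hsimple := simple_of_minimal H N hH hmin hNn hN hHN hNmin
  refine ⟨N, hNn, hN, hNmin, hsimple, ?_⟩
  by_cases hCb : Subgroup.centralizer (N : Set F) = ⊥
  · exact Or.inl hCb
  right
  have := hNn
  have hNC : N ≤ Subgroup.centralizer (N : Set F) := hNmin _ inferInstance hCb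
  apply abelian_case H N hH hmin hNn hHN hsimple
  intro a ha b hb
  exact Subgroup.mem_centralizer_iff.mp (hNC hb) a ha

end Cfsg.Agent.S3025
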