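import Cfsg.Statements.S3033
import Mathlib
import Cfsg.Agent.S0132
import Cfsg.Agent.Lib.Helper4.Huppert4
import Cfsg.Agent.Lib.Helper4.Supersolvable2
import Cfsg.Agent.Lib.Helper29.SupersolvableHall
import Cfsg.Agent.Lib.Helper12.PNilpotent
import Cfsg.Agent.Lib.Helper1.MinNormal
import Cfsg.Agent.Lib.Helper11.HomologyCore
-- import your own Cfsg.Agent.* helpers here

set_option autoImplicit false
open Cfsg

namespace Cfsg.Agent.S3033
open Cfsg.Agent.Lib.Helper4 Cfsg.Agent.Lib.Helper1 Cfsg.Agent.Lib.Helper11.HomologyCore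
open scoped Pointwise
universe u

/-- the hypothesis of the statement -/
def Hyp (G : Type u) [Group G] : Prop :=
  ∀ (p q : ℕ), p.Prime → q.Prime → p ≠ q → ∀ (x g : G), (∃ a : ℕ, orderOf x = p ^ a) →
    (∃ b : ℕ, orderOf g = q ^ b) →
      ¬ q ^ 2 ∣ Nat.card ↥(Subgroup.zpowers x ⊔ Subgroup.zpowers (g * x * g⁻¹))

theorem hyp_of_injective {G H : Type u} [Group G] [Group H] (f : H →* G)
    (hf : Function.Injective f) (hyp : Hyp G) : Hyp H := by
  intro p q hp hq hpq x g hx hg hdvd
  apply hyp p q hp hq hpq (f x) (f g) (by rwa [orderOf_injective f hf]) (by rwa [orderOf_injective f hf])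
  have h1 : (Subgroup.zpowers x ⊔ Subgroup.zpowers (g * x * g⁻¹)).map f =
      Subgroup.zpowers (f x) ⊔ Subgroup.zpowers (f g * f x * (f g)⁻¹) := by
    rw [Subgroup.map_sup, MonoidHom.map_zpowers, MonoidHom.map_zpowers, map_mul, map_mul, map_inv]
  rw [← h1, Subgroup.card_map_of_injective hf]
  exact hdvd

theorem exists_lift_prime_pow {G G' : Type*} [Group G] [Finite G] [Group G'] (f : G →* G')
    (hf : Function.Surjective f) (p : ℕ) (hp : p.Prime) (x' : G')
    (hx' : ∃ a : ℕ, orderOf x' = p ^ a) : ∃ x : G, f x = x' ∧ ∃ b : ℕ, orderOf x = p ^ b := by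
  obtain ⟨a, ha⟩ := hx'
  obtain ⟨y, rfl⟩ := hf x'
  have hpos : 0 < orderOf y := orderOf_pos y
  obtain ⟨k, m, hm, hkm⟩ := Nat.exists_eq_pow_mul_and_not_dvd hpos.ne' p hp.ne_one
  have hcop : Nat.Coprime (p ^ k) m :=
    Nat.Coprime.pow_left k ((Nat.Prime.coprime_iff_not_dvd hp).mpr hm)
  obtain ⟨u, hu1, hu2⟩ := Nat.chineseRemainder hcop 1 0
  refine ⟨y ^ u, ?_, ?_⟩
  · rw [map_pow]
    have hdvd : p ^ a ∣ p ^ k := by
      have h1 : p ^ a ∣ p ^ k * m := by rw [← hkm, ← ha]; exact orderOf_map_dvd f y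
      exact Nat.Coprime.dvd_of_dvd_mul_right
        (Nat.Coprime.pow_left a ((Nat.Prime.coprime_iff_not_dvd hp).mpr hm)) h1
    have h2 : u ≡ 1 [MOD orderOf (f y)] := by
      rw [ha]
      exact hu1.of_dvd hdvd
    calc f y ^ u = f y ^ 1 := pow_eq_pow_iff_modEq.mpr h2
      _ = f y := pow_one _
  · have h1 : orderOf (y ^ u) ∣ p ^ k := by
      apply orderOf_dvd_of_pow_eq_one
      rw [← pow_mul]
      apply orderOf_dvd_iff_pow_eq_one.mp
      rw [hkm, mul_comm u]
      exact Nat.mul_dvd_mul_left _ ((Nat.modEq_zero_iff_dvd).mp hu2)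
    obtain ⟨b, -, hb⟩ := (Nat.dvd_prime_pow hp).mp h1
    exact ⟨b, hb⟩

theorem hyp_of_surjective {G G' : Type u} [Group G] [Finite G] [Group G'] (f : G →* G')
    (hf : Function.Surjective f) (hyp : Hyp G) : Hyp G' := by
  intro p q hp hq hpq x' g' hx' hg' hdvd
  obtain ⟨x, rfl, hx⟩ := exists_lift_prime_pow f hf p hp x' hx'
  obtain ⟨g, rfl, hg⟩ := exists_lift_prime_pow f hf q hq g' hg'
  apply hyp p q hp hq hpq x g hx hg
  have h1 : (Subgroup.zpowers x ⊔ Subgroup.zpowers (g * x * g⁻¹)).map f =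
      Subgroup.zpowers (f x) ⊔ Subgroup.zpowers (f g * f x * (f g)⁻¹) := by
    rw [Subgroup.map_sup, MonoidHom.map_zpowers, MonoidHom.map_zpowers, map_mul, map_mul, map_inv]
  rw [← h1] at hdvd
  exact hdvd.trans (Subgroup.card_map_dvd _ f)

/-- a supersolvable group is `p`-nilpotent for the smallest prime `p` -/
theorem npc_of_supersolvable_min (p : ℕ) [hp : Fact p.Prime] :
    ∀ (n : ℕ) (H : Type u) [Group H] [Finite H], Nat.card H = n → IsSupersolvable H →
      (∀ q : ℕ, q.Prime → q ∣ Nat.card H → p ≤ q) → Cfsg.HasNormalPComplement p H := by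
  intro n
  induction n using Nat.strong_induction_on with
  | _ n ih =>
  intro H _ _ hn hH hmin
  by_cases h1 : Nat.card H = 1
  · apply Cfsg.Agent.Lib.Helper12.hasNormalPComplement_of_coprime_card
    rw [h1]
    exact Nat.coprime_one_left p
  have hpos : 0 < Nat.card H := Nat.card_pos
  have hne : (Nat.card H).primeFactors.Nonempty := by
    rw [Nat.nonempty_primeFactors]; omega
  set q := (Nat.card H).primeFactors.max' hne with hq
  have hqmem : q ∈ (Nat.card H).primeFactors := Finset.max'_mem _ hne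
  have hqprime : q.Prime := Nat.prime_of_mem_primeFactors hqmem
  have hqdvd : q ∣ Nat.card H := Nat.dvd_of_mem_primeFactors hqmem
  have : Fact q.Prime := ⟨hqprime⟩
  have hmax : ∀ s : ℕ, s.Prime → s ∣ Nat.card H → s ≤ q := by
    intro s hs hsd
    apply Finset.le_max'
    exact Nat.mem_primeFactors.mpr ⟨hs, hsd, by omega⟩
  by_cases hqp : q = p
  · -- `H` is a `p`-group
    apply Cfsg.Agent.Lib.Helper12.hasNormalPComplement_of_isPGroup
    rw [IsPGroup.iff_card]
    exact ⟨_,
      (Nat.eq_prime_pow_of_unique_prime_dvd (p := p) hpos.ne' (fun {s} hs hsd => by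
        have h2 := hmax s hs hsd
        have h3 := hmin s hs hsd
        omega))⟩
  · let Q : Sylow q H := default
    have hQn : (Q : Subgroup H).Normal :=
      Cfsg.Agent.Lib.Helper29.sylow_normal_of_isSupersolvable hH hmax Q
    have hQne : (Q : Subgroup H) ≠ ⊥ := Q.ne_bot_of_dvd_card hqdvd
    have hQcop : (Nat.card (Q : Subgroup H)).Coprime p := by
      obtain ⟨k, hk⟩ := IsPGroup.iff_card.mp Q.isPGroup'
      rw [hk]
      exact Nat.Coprime.pow_left k ((Nat.coprime_primes hqprime hp.out).mpr hqp)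
    have hlt : Nat.card (H ⧸ (Q : Subgroup H)) < n := by
      rw [← hn]
      exact card_quotient_lt_of_ne_bot' _ hQne
    have hquo := ih _ hlt (H ⧸ (Q : Subgroup H)) rfl (isSupersolvable_quotient hH _) (by
      intro s hs hsd
      apply hmin s hs
      exact hsd.trans (Subgroup.card_quotient_dvd_card _))
    exact Cfsg.Agent.Lib.Helper12.hasNormalPComplement_of_quotient (Q : Subgroup H) hQcop hquo


theorem isSolvable_of_isSupersolvable {G : Type u} [Group G] [Finite G] (h : IsSupersolvable G) :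
    Group.IsSolvable G :=
  isSolvable_of_prime_index (prime_index_of_isSupersolvable h)

/-- a finite group all of whose proper subgroups are supersolvable is not nonabelian simple -/
theorem not_simple_of_proper_supersolvable {G : Type u} [Group G] [Finite G] [IsSimpleGroup G]
    (hsub : ∀ H : Subgroup G, H ≠ ⊤ → IsSupersolvable H) (hnc : ¬ ∀ a b : G, a * b = b * a) :
    False := by
  classical
  have hpos : 0 < Nat.card G := Nat.card_pos
  have h1 : Nat.card G ≠ 1 := by
    intro h
    have : Subsingleton G := (Nat.card_eq_one_iff_unique.mp h).1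
    exact hnc (fun a b => Subsingleton.elim _ _)
  have hne : (Nat.card G).primeFactors.Nonempty := by
    rw [Nat.nonempty_primeFactors]; omega
  set p := (Nat.card G).primeFactors.min' hne with hp
  have hpmem : p ∈ (Nat.card G).primeFactors := Finset.min'_mem _ hne
  have hpprime : p.Prime := Nat.prime_of_mem_primeFactors hpmem
  have hpdvd : p ∣ Nat.card G := Nat.dvd_of_mem_primeFactors hpmem
  have : Fact p.Prime := ⟨hpprime⟩
  have hmin : ∀ q : ℕ, q.Prime → q ∣ Nat.card G → p ≤ q := by
    intro q hq hqd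
    apply Finset.min'_le
    exact Nat.mem_primeFactors.mpr ⟨hq, hqd, by omega⟩
  -- a normal Sylow `p`-subgroup is impossible
  have hnosyl : ∀ P : Sylow p G, ¬ (P : Subgroup G).Normal := by
    intro P hPn
    rcases hPn.eq_bot_or_eq_top with h | h
    · exact P.ne_bot_of_dvd_card hpdvd h
    · -- `G` is a `p`-group, hence has nontrivial centre
      have hpg : IsPGroup p G := by
        intro g
        have hg : g ∈ (P : Subgroup G) := h ▸ Subgroup.mem_top g
        obtain ⟨k, hk⟩ := P.isPGroup' ⟨g, hg⟩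
        exact ⟨k, by simpa using congrArg Subtype.val hk⟩
      have : Nontrivial G := IsSimpleGroup.toNontrivial
      have hZ : Subgroup.center G ≠ ⊥ := by
        intro hZ
        have := hpg.center_nontrivial
        rw [Subgroup.nontrivial_iff_ne_bot] at this
        exact this hZ
      rcases (inferInstance : (Subgroup.center G).Normal).eq_bot_or_eq_top with h' | h'
      · exact hZ h'
      · apply hnc
        intro a b
        have ha : a ∈ Subgroup.center G := h' ▸ Subgroup.mem_top a
        exact ((Subgroup.mem_center_iff.mp ha) b).symm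
  have h2 : ∀ H : Subgroup G, H ≠ ⊤ → Cfsg.HasNormalPComplement p H := by
    intro H hH
    apply npc_of_supersolvable_min p _ H rfl (hsub H hH)
    intro q hq hqd
    exact hmin q hq (hqd.trans (Subgroup.card_subgroup_dvd_card H))
  by_cases h3 : Cfsg.HasNormalPComplement p G
  · obtain ⟨P, K, hKn, hK⟩ := h3
    rcases hKn.eq_bot_or_eq_top with h | h
    · -- `P = ⊤`
      apply hnosyl P
      have : (P : Subgroup G) = ⊤ := by
        have h4 := hK.symm.sup_eq_top
        rwa [h, sup_bot_eq] at h4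
      rw [this]
      infer_instance
    · -- `P = ⊥`
      apply P.ne_bot_of_dvd_card hpdvd
      have h4 := hK.disjoint.eq_bot
      rwa [h, top_inf_eq] at h4
  · obtain ⟨-, -, h4⟩ := Cfsg.Agent.S0132.result h3 h2
    exact hnosyl default (h4 default)


/-- (F1): the hypothesis forces a `p`-element to normalise the cyclic subgroups generated by its
commutators with elements of an elementary abelian normal `r`-subgroup -/
theorem f1_of_hyp {G : Type u} [Group G] [Finite G] (hyp : Hyp G) (N : Subgroup G) [hNn : N.Normal]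
    (r : ℕ) (hr : r.Prime) (hNr : ∀ a ∈ N, a ^ r = 1) (p : ℕ) (hp : p.Prime) (hpr : p ≠ r)
    (x : G) (hx : ∃ a : ℕ, orderOf x = p ^ a) (n : G) (hn : n ∈ N) :
    x * (x * n * x⁻¹ * n⁻¹) * x⁻¹ ∈ Subgroup.zpowers (x * n * x⁻¹ * n⁻¹) := by
  by_contra hnot
  set c := x * n * x⁻¹ * n⁻¹ with hc
  have hcN : c ∈ N := N.mul_mem (hNn.conj_mem n hn x) (N.inv_mem hn)
  have hc1 : c ≠ 1 := by
    intro h
    apply hnot
    rw [h, mul_one, mul_inv_cancel]
    exact Subgroup.one_mem _
  have hdN : x * c * x⁻¹ ∈ N := hNn.conj_mem c hcN x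
  have hnord : ∃ b : ℕ, orderOf n = r ^ b := by
    have h1 : orderOf n ∣ r := orderOf_dvd_of_pow_eq_one (hNr n hn)
    rcases (Nat.dvd_prime hr).mp h1 with h | h
    · exact ⟨0, by rw [h, pow_zero]⟩
    · exact ⟨1, by rw [h, pow_one]⟩
  have hL := hyp p r hp hr hpr x n hx hnord
  set L := Subgroup.zpowers x ⊔ Subgroup.zpowers (n * x * n⁻¹) with hLdef
  have hxL : x ∈ L := Subgroup.mem_sup_left (Subgroup.mem_zpowers x)
  have hcL : c ∈ L := by
    have h1 : c⁻¹ ∈ L := by
      have h2 : c⁻¹ = (n * x * n⁻¹) * x⁻¹ := by rw [hc]; group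
      rw [h2]
      exact L.mul_mem (Subgroup.mem_sup_right (Subgroup.mem_zpowers _)) (L.inv_mem hxL)
    simpa using L.inv_mem h1
  have hdL : x * c * x⁻¹ ∈ L := L.mul_mem (L.mul_mem hxL hcL) (L.inv_mem hxL)
  set D := Subgroup.zpowers c ⊔ Subgroup.zpowers (x * c * x⁻¹) with hD
  have hDL : D ≤ L := sup_le (by rwa [Subgroup.zpowers_le]) (by rwa [Subgroup.zpowers_le])
  have hDN : D ≤ N := sup_le (by rwa [Subgroup.zpowers_le]) (by rwa [Subgroup.zpowers_le])
  have : Fact r.Prime := ⟨hr⟩
  have hDp : IsPGroup r D := by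
    intro g
    refine ⟨1, ?_⟩
    rw [pow_one]
    exact Subtype.ext (by simpa using hNr g (hDN g.2))
  obtain ⟨k, hk⟩ := IsPGroup.iff_card.mp hDp
  have hcard_c : Nat.card (Subgroup.zpowers c) = r := by
    rw [Nat.card_zpowers]
    exact orderOf_eq_prime (hNr c hcN) hc1
  have hlt : Subgroup.zpowers c < D := by
    refine lt_of_le_of_ne le_sup_left ?_
    intro h
    apply hnot
    rw [h]
    exact Subgroup.mem_sup_right (Subgroup.mem_zpowers _)
  have hcardlt : Nat.card (Subgroup.zpowers c) < Nat.card D := by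
    by_contra hcon
    push Not at hcon
    exact hlt.ne (Subgroup.eq_of_le_of_card_ge hlt.le hcon)
  rw [hcard_c, hk] at hcardlt
  have hk2 : 2 ≤ k := by
    by_contra hcon
    push Not at hcon
    have : r ^ k ≤ r ^ 1 := Nat.pow_le_pow_right hr.pos (by omega)
    rw [pow_one] at this
    omega
  apply hL
  have h1 : r ^ 2 ∣ Nat.card D := by
    rw [hk]
    exact pow_dvd_pow r hk2
  exact h1.trans (Subgroup.card_dvd_of_le hDL)

theorem prime_index_of_corefree {G : Type u} [Group G] [Finite G] [Group.IsSolvable G]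
    (hyp : Hyp G) (hsub : ∀ H : Subgroup G, H ≠ ⊤ → IsSupersolvable H) (M : Subgroup G)
    (hM : IsCoatom M) (hcore : M.normalCore = ⊥) : M.index.Prime := by
  classical
  have hnt : Nontrivial G := by
    by_contra h
    rw [not_nontrivial_iff_subsingleton] at h
    exact hM.1 (Subsingleton.elim _ _)
  obtain ⟨N, hN⟩ := exists_isMinNormal (G := G)
  have hNn : N.Normal := hN.1
  have hN1 : N ≠ ⊥ := hN.2.1
  have hNcomm : IsMulCommutative N := hN.isMulCommutative
  have hNc : ∀ a ∈ N, ∀ b ∈ N, a * b = b * a := fun a ha b hb =>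
    congrArg Subtype.val (mul_comm' (⟨a, ha⟩ : N) ⟨b, hb⟩)
  obtain ⟨r, hr, hNr⟩ := hN.exists_prime_pow_eq_one
  have : Fact r.Prime := ⟨hr⟩
  have hNM : ¬ N ≤ M := by
    intro h
    have h1 : N ≤ M.normalCore := Subgroup.normal_le_normalCore.mpr h
    rw [hcore] at h1
    exact hN1 (le_bot_iff.mp h1)
  have hcard : Nat.card N = M.index := card_eq_index_of_minNormal_not_le hN hNc M hM hNM
  have hsup : N ⊔ M = ⊤ := by
    by_contra hne
    have h1 : M < N ⊔ M := lt_of_le_of_ne le_sup_right (fun h => hNM (h ▸ le_sup_left))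
    exact hne (hM.2 _ h1)
  have hdecomp : ∀ g : G, ∃ n ∈ N, ∃ m ∈ M, g = n * m := by
    intro g
    have h1 : g ∈ N ⊔ M := hsup ▸ Subgroup.mem_top g
    rw [← SetLike.mem_coe, Subgroup.normal_mul] at h1
    obtain ⟨n, hn, m, hm, rfl⟩ := Set.mem_mul.mp h1
    exact ⟨n, hn, m, hm, rfl⟩
  have hnormal : ∀ W : Subgroup G, W ≤ N → (∀ m ∈ M, ∀ w ∈ W, m * w * m⁻¹ ∈ W) → W.Normal := by
    intro W hWN hW
    constructor
    intro w hw g
    obtain ⟨n, hn, m, hm, rfl⟩ := hdecomp g
    have h1 : m * w * m⁻¹ ∈ W := hW m hm w hw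
    have h2 : n * m * w * (n * m)⁻¹ = n * (m * w * m⁻¹) * n⁻¹ := by group
    rw [h2, hNc n hn _ (hWN h1), mul_inv_cancel_right]
    exact h1
  have hfaith : ∀ m ∈ M, (∀ n ∈ N, m * n * m⁻¹ = n) → m = 1 := by
    intro m hm hmN
    have hCn : (M ⊓ Subgroup.centralizer (N : Set G)).Normal := by
      constructor
      intro c hc g
      obtain ⟨hcM, hcC⟩ := Subgroup.mem_inf.mp hc
      obtain ⟨n, hn, m', hm', rfl⟩ := hdecomp g
      have h1 : m' * c * m'⁻¹ ∈ Subgroup.centralizer (N : Set G) := by
        rw [Subgroup.mem_centralizer_iff]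
        intro x hx
        have hx' : m'⁻¹ * x * m' ∈ N := by simpa using hNn.conj_mem x hx m'⁻¹
        have h3 := (Subgroup.mem_centralizer_iff.mp hcC) _ hx'
        calc x * (m' * c * m'⁻¹) = m' * ((m'⁻¹ * x * m') * c) * m'⁻¹ := by group
          _ = m' * (c * (m'⁻¹ * x * m')) * m'⁻¹ := by rw [h3]
          _ = m' * c * m'⁻¹ * x := by group
      have h2 : n * m' * c * (n * m')⁻¹ = n * (m' * c * m'⁻¹) * n⁻¹ := by group
      have h4 : n * (m' * c * m'⁻¹) * n⁻¹ = m' * c * m'⁻¹ := by
        rw [(Subgroup.mem_centralizer_iff.mp h1) n hn, mul_inv_cancel_right]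
      rw [h2, h4]
      exact Subgroup.mem_inf.mpr ⟨M.mul_mem (M.mul_mem hm' hcM) (M.inv_mem hm'), h1⟩
    have hCM : M ⊓ Subgroup.centralizer (N : Set G) ≤ M.normalCore :=
      Subgroup.normal_le_normalCore.mpr inf_le_left
    have hmC : m ∈ M ⊓ Subgroup.centralizer (N : Set G) := by
      refine Subgroup.mem_inf.mpr ⟨hm, ?_⟩
      rw [Subgroup.mem_centralizer_iff]
      intro n hn
      have h1 := hmN n hn
      calc n * m = (m * n * m⁻¹) * m := by rw [h1]
        _ = m * n := by group
    have h5 := hCM hmC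
    rwa [hcore, Subgroup.mem_bot] at h5
  have hirr : ∀ W : Subgroup G, W ≤ N → (∀ m ∈ M, ∀ w ∈ W, m * w * m⁻¹ ∈ W) →
      W = ⊥ ∨ W = N := fun W hWN hW => hN.2.2 W (hnormal W hWN hW) hWN
  have hF1 : ∀ p : ℕ, p.Prime → p ≠ r → ∀ x ∈ M, (∃ a : ℕ, orderOf x = p ^ a) → ∀ n ∈ N,
      x * (x * n * x⁻¹ * n⁻¹) * x⁻¹ ∈ Subgroup.zpowers (x * n * x⁻¹ * n⁻¹) :=
    fun p hp hpr x _ hx n hn => f1_of_hyp hyp N r hr hNr p hp hpr x hx n hn
  obtain ⟨c, hcN, hc1, hc⟩ := exists_normal_cyclic N M r hNc hNr hN1 (hsub M hM.1) hfaith hirr hF1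
  have hWN : Subgroup.zpowers c ≤ N := by rwa [Subgroup.zpowers_le]
  have hWinv : ∀ m ∈ M, ∀ w ∈ Subgroup.zpowers c, m * w * m⁻¹ ∈ Subgroup.zpowers c := by
    intro m hm w hw
    obtain ⟨k, rfl⟩ := Subgroup.mem_zpowers_iff.mp hw
    rw [← conj_zpow]
    exact Subgroup.zpow_mem _ (hc m hm) k
  rcases hirr _ hWN hWinv with h | h
  · exfalso
    apply hc1
    have h1 : c ∈ Subgroup.zpowers c := Subgroup.mem_zpowers c
    rwa [h, Subgroup.mem_bot] at h1
  · rw [← hcard, ← h, Nat.card_zpowers, orderOf_eq_prime (hNr c hcN) hc1]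
    exact hr


theorem main_aux : ∀ (n : ℕ) (G : Type u) [Group G] [Finite G], Nat.card G = n → Hyp G →
    IsSupersolvable G := by
  intro n
  induction n using Nat.strong_induction_on with
  | _ n ih =>
  intro G _ _ hn hyp
  classical
  have hsub : ∀ H : Subgroup G, H ≠ ⊤ → IsSupersolvable H := by
    intro H hH
    have hlt : Nat.card H < n := by
      rw [← hn]
      by_contra hcon
      push Not at hcon
      exact hH (Subgroup.eq_top_of_card_eq H (le_antisymm (Subgroup.card_le_card_group H) hcon))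
    exact ih _ hlt H rfl (hyp_of_injective H.subtype H.subtype_injective hyp)
  have hquo : ∀ (K : Subgroup G) [K.Normal], K ≠ ⊥ → IsSupersolvable (G ⧸ K) := by
    intro K _ hK
    have hlt : Nat.card (G ⧸ K) < n := by
      rw [← hn]
      exact card_quotient_lt_of_ne_bot' K hK
    exact ih _ hlt (G ⧸ K) rfl
      (hyp_of_surjective (QuotientGroup.mk' K) (QuotientGroup.mk'_surjective K) hyp)
  apply isSupersolvable_of_prime_index
  intro M hM
  by_cases hK : M.normalCore = ⊥
  · -- core-free case: first solvability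
    have hsolv : Group.IsSolvable G := by
      by_cases hex : ∃ K : Subgroup G, K.Normal ∧ K ≠ ⊥ ∧ K ≠ ⊤
      · obtain ⟨K, hKn, hK1, hK2⟩ := hex
        have h1 : Group.IsSolvable K := isSolvable_of_isSupersolvable (hsub K hK2)
        have h2 : Group.IsSolvable (G ⧸ K) := isSolvable_of_isSupersolvable (hquo K hK1)
        exact Group.isSolvable_of_ker_le_range K.subtype (QuotientGroup.mk' K) (by
          rw [QuotientGroup.ker_mk', Subgroup.range_subtype])
      · push Not at hex
        have hnt : Nontrivial G := by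
          by_contra h
          rw [not_nontrivial_iff_subsingleton] at h
          exact hM.1 (Subsingleton.elim _ _)
        have hsimple : IsSimpleGroup G :=
          { exists_pair_ne := hnt.exists_pair_ne
            eq_bot_or_eq_top_of_normal := fun K hKn => by
              by_contra hcon
              push Not at hcon
              exact hcon.2 (hex K hKn hcon.1) }
        by_cases hc : ∀ a b : G, a * b = b * a
        · let _ : CommGroup G := { (inferInstance : Group G) with mul_comm := hc }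
          infer_instance
        · exact (not_simple_of_proper_supersolvable hsub hc).elim
    exact prime_index_of_corefree hyp hsub M hM hK
  · have hQ : IsSupersolvable (G ⧸ M.normalCore) := hquo M.normalCore hK
    have hker : (QuotientGroup.mk' M.normalCore).ker ≤ M := by
      rw [QuotientGroup.ker_mk']
      exact Subgroup.normalCore_le M
    have hco : IsCoatom (M.map (QuotientGroup.mk' M.normalCore)) :=
      isCoatom_map_of_ker_le _ (QuotientGroup.mk'_surjective _) hM hker
    have hpr := prime_index_of_isSupersolvable hQ _ hco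
    rwa [Subgroup.index_map_eq M (QuotientGroup.mk'_surjective _) hker] at hpr


/-- Let G be a finite group such that for every pair of distinct primes p and q, every p-element x and every q-element g of G, the order of the subgroup generated by x and g x g⁻¹ is not divisible by q². Then G is supersolvable. -/
theorem result {G : Type*} [Group G] [Finite G]
    (h : ∀ (p q : ℕ), p.Prime → q.Prime → p ≠ q → ∀ (x g : G), (∃ a : ℕ, orderOf x = p ^ a) → (∃ b : ℕ, orderOf g = q ^ b) →
      ¬ q ^ 2 ∣ Nat.card ↥(Subgroup.zpowers x ⊔ Subgroup.zpowers (g * x * g⁻¹))) :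
    Cfsg.IsSupersolvable G := by
  exact main_aux _ G rfl h

end Cfsg.Agent.S3033
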