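import Cfsg.Statements.S3036
import Cfsg.Agent.Lib.Helper17.ChermakDelgado
import Mathlib.Tactic

set_option autoImplicit false
open Cfsg

namespace Cfsg.Agent.S3036

open Cfsg.Agent.Lib.Helper17
open scoped Pointwise

theorem center_eq_bot {G : Type*} [Group G] [IsSimpleGroup G] (hG : ¬ IsMulCommutative G) :
    Subgroup.center G = ⊥ := by
  rcases IsSimpleGroup.eq_bot_or_eq_top_of_normal (Subgroup.center G) inferInstance with h | h
  · exact h
  · exfalso
    apply hG
    refine ⟨⟨fun a b => ?_⟩⟩
    have ha : a ∈ Subgroup.center G := by rw [h]; exact Subgroup.mem_top a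
    exact ((Subgroup.mem_center_iff.1 ha) b).symm

theorem cdm_top {G : Type*} [Group G] [IsSimpleGroup G] (hG : ¬ IsMulCommutative G) :
    cdm (⊤ : Subgroup G) = Nat.card G := by
  unfold cdm
  have : Subgroup.centralizer (((⊤ : Subgroup G) : Subgroup G) : Set G) = ⊥ := by
    rw [Subgroup.coe_top, Subgroup.centralizer_univ, center_eq_bot hG]
  rw [this, Subgroup.card_bot, mul_one, Subgroup.card_top]

theorem cdmax_trivial {G : Type*} [Group G] [Finite G] [IsSimpleGroup G] (hG : ¬ IsMulCommutative G) :
    ∀ n : ℕ, ∀ H : Subgroup G, IsCDMax H → Nat.card H = n → H ≠ ⊥ → H = ⊤ := by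
  intro n
  induction n using Nat.strong_induction_on with
  | _ n ih =>
    intro H hH hn hne
    by_cases hnorm : ∀ g : G, H ≤ H.map (MulAut.conj g).toMonoidHom
    · -- H is normal
      have hN : H.Normal := by
        refine ⟨fun x hx g => ?_⟩
        obtain ⟨y, hy, hyx⟩ := hnorm g⁻¹ hx
        have : g * x * g⁻¹ = y := by
          rw [← hyx]
          simp only [MulEquiv.toMonoidHom_eq_coe, MonoidHom.coe_coe, MulAut.conj_apply, inv_inv]
          group
        rw [this]; exact hy
      rcases IsSimpleGroup.eq_bot_or_eq_top_of_normal H hN with h | h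
      · exact absurd h hne
      · exact h
    · exfalso
      push Not at hnorm
      obtain ⟨g, hg⟩ := hnorm
      set K := H.map (MulAut.conj g).toMonoidHom with hK
      have hKmax : IsCDMax K := hH.map_equiv (MulAut.conj g)
      obtain ⟨-, hinf, -, hcent, hprod⟩ := hH.sup_inf hKmax
      have hlt : H ⊓ K < H := lt_of_le_of_ne inf_le_left (fun h => hg (h ▸ inf_le_right))
      have hcardlt : Nat.card ↥(H ⊓ K) < n := by
        rw [← hn]
        by_contra hge
        push Not at hge
        exact hlt.ne (Subgroup.eq_of_le_of_card_ge inf_le_left hge)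
      have hbot : H ⊓ K = ⊥ := by
        by_contra hne'
        have := ih _ hcardlt (H ⊓ K) hinf rfl hne'
        rw [this] at hlt
        exact not_top_lt hlt
      -- C(H) * C(K) = G
      rw [hbot] at hcent
      have htop : Subgroup.centralizer (((⊥ : Subgroup G) : Subgroup G) : Set G) = ⊤ := by
        rw [Subgroup.centralizer_eq_top_iff_subset]
        intro x hx
        rw [SetLike.mem_coe, Subgroup.mem_bot] at hx
        subst hx
        exact (Subgroup.center G).one_mem
      rw [htop] at hcent
      rw [← hcent] at hprod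
      have hCK : Subgroup.centralizer (K : Set G)
          = (Subgroup.centralizer (H : Set G)).map (MulAut.conj g).toMonoidHom :=
        centralizer_map_equiv H (MulAut.conj g)
      have hX : Subgroup.centralizer (H : Set G) = ⊤ := by
        apply eq_top_of_mul_conj_eq_univ _ g
        intro y
        have hy : y ∈ ((⊤ : Subgroup G) : Set G) := Set.mem_univ y
        rw [hprod] at hy
        obtain ⟨a, ha, b, hb, hab⟩ := hy
        rw [SetLike.mem_coe, hCK] at hb
        obtain ⟨c, hc, hcb⟩ := hb
        refine ⟨a, ha, c, hc, ?_⟩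
        rw [← hab, ← hcb]
        simp
      have hHZ : H ≤ Subgroup.center G := by
        rw [Subgroup.centralizer_eq_top_iff_subset] at hX
        exact hX
      rw [center_eq_bot hG] at hHZ
      exact hne (le_bot_iff.1 hHZ)

/-- Let G be a finite non-abelian simple group and A a proper nontrivial subgroup of G. Then |G| > |A| · |C_G(A)|. In particular |G| > |A|² for every nontrivial abelian subgroup A of G. -/
theorem result {G : Type*} [Group G] [Finite G] [IsSimpleGroup G] (hG : ¬ IsMulCommutative G) (A : Subgroup G) (hA1 : A ≠ ⊥) (hA2 : A ≠ ⊤) : Nat.card A * Nat.card ↥(Subgroup.centralizer (A : Set G)) < Nat.card G := by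
  obtain ⟨H₀, hH₀⟩ := exists_isCDMax G
  have h0 : cdm H₀ = Nat.card G := by
    by_cases hb : H₀ = ⊥
    · rw [hb, cdm_bot]
    · rw [cdmax_trivial hG _ H₀ hH₀ rfl hb, cdm_top hG]
  have hle : cdm A ≤ Nat.card G := h0 ▸ hH₀ A
  show cdm A < Nat.card G
  apply lt_of_le_of_ne hle
  intro heq
  have hAmax : IsCDMax A := hH₀.of_cdm_eq (heq.trans h0.symm)
  exact hA2 (cdmax_trivial hG _ A hAmax rfl hA1)

end Cfsg.Agent.S3036
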