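import Cfsg.Statements.S3037
import Cfsg.Agent.Lib.Helper17.RealCD

set_option autoImplicit false
open Cfsg

namespace Cfsg.Agent.S3037

/-- Let V and G be subgroups of a finite group with V an elementary abelian p-group (p prime) on which G acts faithfully and irreducibly by conjugation: G normalizes V, G ∩ C(V) = 1, and the only subgroups of V normalized by G are 1 and V. If for some nontrivial subgroup A of G and some real α > 0 one has |V| ≤ |A|^α · |C_V(A)|, then |V| ≤ |G|^α. -/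
theorem result {X : Type*} [Group X] [Finite X] {p : ℕ} [Fact p.Prime] (V G : Subgroup X) (hV : Cfsg.IsElementaryAbelian p V)
    (hGV : G ≤ Subgroup.normalizer (V : Set X)) (hfaith : G ⊓ Subgroup.centralizer (V : Set X) = ⊥)
    (hirr : ∀ W : Subgroup X, W ≤ V → G ≤ Subgroup.normalizer (W : Set X) → W = ⊥ ∨ W = V)
    (A : Subgroup X) (hA : A ≤ G) (hA1 : A ≠ ⊥) (α : ℝ) (hα : 0 < α)
    (hbig : (Nat.card V : ℝ) ≤ (Nat.card A : ℝ) ^ α * (Nat.card ↥(V ⊓ Subgroup.centralizer (A : Set X)) : ℝ)) :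
    (Nat.card V : ℝ) ≤ (Nat.card G : ℝ) ^ α := by
  classical
  have hα0 : 0 ≤ α := hα.le
  -- the family of nontrivial subgroups of G
  have hfin : Set.Finite {B : Subgroup X | B ≤ G ∧ B ≠ ⊥} := Set.toFinite _
  obtain ⟨A₁, ⟨hA₁G, hA₁1⟩, hA₁max⟩ := Set.exists_max_image {B : Subgroup X | B ≤ G ∧ B ≠ ⊥}
    (fun B => Lib.Helper17.wcd V α B) hfin ⟨A, hA, hA1⟩
  have hm : (Nat.card V : ℝ) ≤ Lib.Helper17.wcd V α A₁ := hbig.trans (hA₁max A ⟨hA, hA1⟩)
  -- among the maximizers take one of largest order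
  have hfin' : Set.Finite {B : Subgroup X | (B ≤ G ∧ B ≠ ⊥) ∧
      Lib.Helper17.wcd V α B = Lib.Helper17.wcd V α A₁} := Set.toFinite _
  obtain ⟨A₂, ⟨⟨hA₂G, hA₂1⟩, hA₂m⟩, hA₂max⟩ := Set.exists_max_image _
    (fun B : Subgroup X => Nat.card B) hfin' ⟨A₁, ⟨hA₁G, hA₁1⟩, rfl⟩
  have hmpos : 0 < Lib.Helper17.wcd V α A₁ := Lib.Helper17.wcd_pos V α A₁
  -- A₂ is normalized by G
  have hnorm : G ≤ Subgroup.normalizer (A₂ : Set X) := by
    intro g hg
    apply Lib.Helper17.mem_normalizer_of_map_conj_le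
    have hBG : A₂.map (MulAut.conj g).toMonoidHom ≤ G := by
      rintro _ ⟨a, ha, rfl⟩
      exact G.mul_mem (G.mul_mem hg (hA₂G ha)) (G.inv_mem hg)
    have hBm : Lib.Helper17.wcd V α (A₂.map (MulAut.conj g).toMonoidHom) =
        Lib.Helper17.wcd V α A₁ := by
      rw [Lib.Helper17.wcd_map_conj V α A₂ (hGV hg)]; exact hA₂m
    have hD1 : A₂ ⊔ A₂.map (MulAut.conj g).toMonoidHom ≠ ⊥ := by
      intro hb
      apply hA₂1
      rw [eq_bot_iff, ← hb]; exact le_sup_left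
    have hDG : A₂ ⊔ A₂.map (MulAut.conj g).toMonoidHom ≤ G := sup_le hA₂G hBG
    have hDle := hA₁max _ ⟨hDG, hD1⟩
    have hIle : Lib.Helper17.wcd V α (A₂ ⊓ A₂.map (MulAut.conj g).toMonoidHom) ≤
        Lib.Helper17.wcd V α A₁ := by
      by_cases hI : A₂ ⊓ A₂.map (MulAut.conj g).toMonoidHom = ⊥
      · rw [hI, Lib.Helper17.wcd_bot]; exact hm
      · exact hA₁max _ ⟨inf_le_left.trans hA₂G, hI⟩
    have hineq := Lib.Helper17.wcd_mul_le V hα0 A₂ (A₂.map (MulAut.conj g).toMonoidHom)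
    rw [hA₂m, hBm] at hineq
    have hDpos := Lib.Helper17.wcd_pos V α (A₂ ⊔ A₂.map (MulAut.conj g).toMonoidHom)
    have hDeq : Lib.Helper17.wcd V α (A₂ ⊔ A₂.map (MulAut.conj g).toMonoidHom) =
        Lib.Helper17.wcd V α A₁ := by
      apply le_antisymm hDle
      have h1 : Lib.Helper17.wcd V α A₁ * Lib.Helper17.wcd V α A₁ ≤
          Lib.Helper17.wcd V α (A₂ ⊔ A₂.map (MulAut.conj g).toMonoidHom) *
            Lib.Helper17.wcd V α A₁ :=
        hineq.trans (mul_le_mul_of_nonneg_left hIle hDpos.le)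
      exact le_of_mul_le_mul_right h1 hmpos
    have hcard := hA₂max _ ⟨⟨hDG, hD1⟩, hDeq⟩
    have hEq : A₂ = A₂ ⊔ A₂.map (MulAut.conj g).toMonoidHom :=
      Subgroup.eq_of_le_of_card_ge le_sup_left hcard
    exact le_sup_right.trans hEq.symm.le
  -- C_V(A₂) is G-invariant
  have hWnorm : G ≤ Subgroup.normalizer ((V ⊓ Subgroup.centralizer (A₂ : Set X) : Subgroup X) : Set X) := by
    intro g hg
    apply Lib.Helper17.mem_normalizer_of_forall_conj_mem
    rintro x ⟨hxV, hxC⟩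
    refine ⟨Lib.Helper17.conj_mem_of_mem_normalizer (hGV hg) hxV, ?_⟩
    show g * x * g⁻¹ ∈ Subgroup.centralizer (A₂ : Set X)
    rw [Subgroup.mem_centralizer_iff]
    intro a ha
    have ha' : g⁻¹ * a * g ∈ A₂ := Lib.Helper17.conj_inv_mem_of_mem_normalizer (hnorm hg) ha
    have hc := (Subgroup.mem_centralizer_iff.mp hxC) _ ha'
    calc a * (g * x * g⁻¹) = g * ((g⁻¹ * a * g) * x) * g⁻¹ := by group
      _ = g * (x * (g⁻¹ * a * g)) * g⁻¹ := by rw [hc]
      _ = g * x * g⁻¹ * a := by group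
  rcases hirr _ inf_le_left hWnorm with hW | hW
  · -- C_V(A₂) = 1
    have h1 : Lib.Helper17.wcd V α A₂ = (Nat.card A₂ : ℝ) ^ α := by
      unfold Lib.Helper17.wcd
      rw [hW, Subgroup.card_bot, Nat.cast_one, mul_one]
    rw [hA₂m] at h1
    rw [h1] at hm
    refine hm.trans (Real.rpow_le_rpow (Nat.cast_nonneg _) ?_ hα0)
    exact_mod_cast Subgroup.card_le_of_le hA₂G
  · -- C_V(A₂) = V contradicts faithfulness
    exfalso
    apply hA₂1
    rw [eq_bot_iff, ← hfaith]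
    refine le_inf hA₂G ?_
    rw [Subgroup.le_centralizer_iff]
    exact inf_eq_left.mp hW

end Cfsg.Agent.S3037
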