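import Cfsg.Statements.S3048
import Cfsg.Agent.Lib.Helper17.SidkiRedF

set_option autoImplicit false
universe u
open Cfsg

namespace Cfsg.Agent.S3048

open Cfsg.Agent.Lib.Helper17.SidkiRed

/-- Minimal counterexample reduction for the Sidki pair problem. Let G be a finite group and V a nontrivial elementary abelian 2-subgroup satisfying the Sidki pair condition with V ∩ O₂(G) = 1. Suppose that for every finite group H of smaller order, every nontrivial elementary abelian 2-subgroup W of H satisfying the Sidki pair condition meets O₂(H) nontrivially, and that the same holds in G for every such subgroup W of order smaller than that of V. Then the generalized Fitting subgroup F*(G) is a non-abelian simple group and G = V F*(G). -/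
theorem result {G : Type u} [Group G] [Finite G] (V : Subgroup G) (hV : Cfsg.IsElementaryAbelian 2 V) (hV1 : V ≠ ⊥) (hS : Cfsg.IsSidkiPair V) (hVO : V ⊓ Cfsg.pCore 2 G = ⊥) (hminG : ∀ (H : Type u) [Group H] [Finite H] (W : Subgroup H), Nat.card H < Nat.card G → Cfsg.IsElementaryAbelian 2 W → W ≠ ⊥ → Cfsg.IsSidkiPair W → W ⊓ Cfsg.pCore 2 H ≠ ⊥) (hminV : ∀ W : Subgroup G, Nat.card W < Nat.card V → Cfsg.IsElementaryAbelian 2 W → W ≠ ⊥ → Cfsg.IsSidkiPair W → W ⊓ Cfsg.pCore 2 G ≠ ⊥) : IsSimpleGroup ↥(Cfsg.generalizedFittingSubgroup G) ∧ ¬ IsMulCommutative ↥(Cfsg.generalizedFittingSubgroup G) ∧ V ⊔ Cfsg.generalizedFittingSubgroup G = ⊤ := by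
  classical
  have hminG' : MinG G := hminG
  have hcore : Cfsg.pCore 2 G = ⊥ := core_eq_bot V hV hV1 hS hVO hminG'
  have h : MC V :=
    { ea := hV
      ne := hV1
      sidki := hS
      core := hcore
      minG := hminG'
      minV := by
        intro W hW hWea hW1 hWS
        have := hminV W hW hWea hW1 hWS
        rw [hcore, inf_bot_eq] at this
        exact this rfl }
  -- a minimal normal subgroup
  have htop : (⊤ : Subgroup G) ≠ ⊥ := by
    intro h0
    apply hV1
    rw [eq_bot_iff, ← h0]
    exact le_top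
  obtain ⟨N, ⟨hNn, hN1⟩, hNmin⟩ := exists_minimal_subgroup
    (fun N : Subgroup G => N.Normal ∧ N ≠ ⊥) ⟨⊤, inferInstance, htop⟩
  haveI := hNn
  have hmin : ∀ M : Subgroup G, M.Normal → M ≤ N → M = ⊥ ∨ M = N := by
    intro M hM hMN
    by_cases hM1 : M = ⊥
    · exact Or.inl hM1
    · exact Or.inr (hNmin M ⟨hM, hM1⟩ hMN)
  by_cases hab : ∀ a ∈ N, ∀ b ∈ N, a * b = b * a
  · exact (h.caseA N hN1 hmin hab).elim
  · -- `Z(N) = 1`
    have hZ : ∀ n ∈ N, (∀ m ∈ N, n * m = m * n) → n = 1 := by
      intro n hn hc
      haveI : (Subgroup.centralizer (N : Set G)).Normal := Subgroup.normal_centralizer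
      have hZn : (N ⊓ Subgroup.centralizer (N : Set G)).Normal := inferInstance
      rcases hmin _ hZn inf_le_left with h0 | h0
      · have : n ∈ N ⊓ Subgroup.centralizer (N : Set G) := by
          refine Subgroup.mem_inf.2 ⟨hn, ?_⟩
          rw [Subgroup.mem_centralizer_iff]
          intro m hm
          exact (hc m hm).symm
        rw [h0, Subgroup.mem_bot] at this
        exact this
      · exfalso
        apply hab
        intro a ha b hb
        have : a ∈ N ⊓ Subgroup.centralizer (N : Set G) := by rw [h0]; exact ha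
        exact (Subgroup.mem_centralizer_iff.1 this.2 b hb).symm
    by_cases hNV : N ⊔ V = ⊤
    · haveI hs : IsSimpleGroup ↥N := h.caseC N hN1 hmin hZ hNV
      have hcent := h.centralizer_trivial N hZ hNV
      have hF : Cfsg.generalizedFittingSubgroup G = N := fstar_eq_of_simple_normal N hab hcent
      rw [hF]
      refine ⟨hs, ?_, ?_⟩
      · intro hc
        apply hab
        intro a ha b hb
        have h1 : (⟨a, ha⟩ : N) * ⟨b, hb⟩ = ⟨b, hb⟩ * ⟨a, ha⟩ := mul_comm' _ _
        exact congrArg Subtype.val h1
      · rw [sup_comm]; exact hNV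
    · exact (h.caseB N hN1 hZ hNV).elim

end Cfsg.Agent.S3048
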