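import Cfsg.Statements.S3056
import Cfsg.Agent.Lib.Helper16.StronglyEmbedded
import Cfsg.Agent.Lib.Helper8.PResidual
import Cfsg.Agent.Lib.Helper17.SylowGraph

set_option autoImplicit false
open Cfsg

namespace Cfsg.Agent.S3056

/-- Let G be a finite group and p a prime. Join two Sylow p-subgroups when they are distinct and meet nontrivially. This graph on the Sylow p-subgroups is disconnected (the Sylow p-subgroups are not chain-connected through nontrivial intersections) if and only if G has a strongly p-embedded subgroup in the classical sense: a proper subgroup H of order divisible by p such that H ∩ gHg⁻¹ has order prime to p for every g outside H. -/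
theorem result {G : Type*} [Group G] [Finite G]
    (p : ℕ) [Fact p.Prime] :
    ¬ Cfsg.IsSylowChainConnected p G ↔
      ∃ H : Subgroup G, H ≠ ⊤ ∧ p ∣ Nat.card H ∧
        ∀ g : G, g ∉ H → ¬ p ∣ Nat.card ↥(H ⊓ H.map (MulAut.conj g).toMonoidHom) := by
  classical
  have hp : p.Prime := Fact.out
  constructor
  · -- disconnected ⇒ strongly p-embedded subgroup
    intro hnc
    obtain ⟨S₀, T₀, hST⟩ : ∃ S T : Sylow p G, ¬ Lib.Helper17.SylConn p S T := by
      by_contra hall
      push Not at hall
      exact hnc (Lib.Helper17.isSylowChainConnected_of_sylConn hall)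
    have hS₀H := Lib.Helper17.le_compStab S₀
    -- p divides |G|
    have hdiv : p ∣ Nat.card G := by
      by_contra hnd
      apply hST
      have h0 : (Nat.card G).factorization p = 0 := Nat.factorization_eq_zero_of_not_dvd hnd
      have hS : (S₀ : Subgroup G) = ⊥ := by
        rw [← Subgroup.card_eq_one, Sylow.card_eq_multiplicity, h0, pow_zero]
      have hT : (T₀ : Subgroup G) = ⊥ := by
        rw [← Subgroup.card_eq_one, Sylow.card_eq_multiplicity, h0, pow_zero]
      have : S₀ = T₀ := Sylow.ext (hS.trans hT.symm)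
      rw [this]; exact Lib.Helper17.SylConn.refl T₀
    refine ⟨Lib.Helper17.compStab p S₀, ?_, ?_, ?_⟩
    · intro htop
      obtain ⟨g, hg⟩ := MulAction.exists_smul_eq G S₀ T₀
      apply hST
      rw [← hg]
      have : g ∈ Lib.Helper17.compStab p S₀ := by rw [htop]; exact Subgroup.mem_top g
      exact this
    · exact (S₀.dvd_card_of_dvd_card hdiv).trans (Subgroup.card_dvd_of_le hS₀H)
    · intro g hg hdvd
      apply hg
      obtain ⟨x, hx⟩ := exists_prime_orderOf_dvd_card' p hdvd
      have hxo : orderOf (x : G) = p := by rw [Subgroup.orderOf_coe]; exact hx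
      have hx1 : (x : G) ≠ 1 := by
        intro h1
        rw [h1, orderOf_one] at hxo
        exact hp.one_lt.ne hxo
      have hxH : (x : G) ∈ Lib.Helper17.compStab p S₀ := x.2.1
      have hxHg : g⁻¹ * (x : G) * g ∈ Lib.Helper17.compStab p S₀ :=
        (Lib.Helper16.mem_map_conj_iff _ g (x : G)).mp x.2.2
      -- a p-element of H lies in an H-conjugate of S₀
      have key : ∀ z : G, z ∈ Lib.Helper17.compStab p S₀ → orderOf z = p →
          ∃ y ∈ Lib.Helper17.compStab p S₀, y * z * y⁻¹ ∈ (S₀ : Subgroup G) := by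
        intro z hz hzo
        have hzp : IsPGroup p (Subgroup.zpowers z) :=
          IsPGroup.of_card (n := 1) (by rw [Nat.card_zpowers, hzo, pow_one])
        have hzH : Subgroup.zpowers z ≤ Lib.Helper17.compStab p S₀ := by
          rw [Subgroup.zpowers_le]; exact hz
        obtain ⟨y, hy, hle⟩ := Lib.Helper16.exists_conj_le_sylow S₀ hS₀H hzH hzp
        exact ⟨y, hy, hle ⟨z, Subgroup.mem_zpowers z, by simp⟩⟩
      obtain ⟨y, hy, hyx⟩ := key (x : G) hxH hxo
      have hxo' : orderOf (g⁻¹ * (x : G) * g) = p := by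
        have := Lib.Helper8.orderOf_conj' g⁻¹ (x : G)
        rw [inv_inv] at this
        rw [this]; exact hxo
      obtain ⟨y', hy', hyx'⟩ := key _ hxHg hxo'
      -- x ∈ y⁻¹ • S₀ and x ∈ (g * y'⁻¹) • S₀
      have h1 : (x : G) ∈ ((y⁻¹ • S₀ : Sylow p G) : Subgroup G) := by
        rw [Lib.Helper17.mem_sylow_smul_iff, inv_inv]; exact hyx
      have h2 : (x : G) ∈ (((g * y'⁻¹) • S₀ : Sylow p G) : Subgroup G) := by
        rw [Lib.Helper17.mem_sylow_smul_iff]
        have : (g * y'⁻¹)⁻¹ * (x : G) * (g * y'⁻¹) = y' * (g⁻¹ * (x : G) * g) * y'⁻¹ := by group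
        rw [this]; exact hyx'
      have hc1 : Lib.Helper17.SylConn p S₀ (y⁻¹ • S₀) :=
        Lib.Helper17.mem_compStab.mp (Subgroup.inv_mem _ hy)
      have hc2 : Lib.Helper17.SylConn p (y⁻¹ • S₀) ((g * y'⁻¹) • S₀) :=
        Lib.Helper17.SylConn.of_mem h1 h2 hx1
      have hgy : g * y'⁻¹ ∈ Lib.Helper17.compStab p S₀ :=
        Lib.Helper17.mem_compStab.mpr (hc1.trans hc2)
      have : g = (g * y'⁻¹) * y' := by group
      rw [this]; exact Subgroup.mul_mem _ hgy hy'
  · -- strongly p-embedded subgroup ⇒ disconnected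
    rintro ⟨H, hH, hpH, hse⟩ hconn
    have F2 : ∀ Q : Subgroup G, Q ≤ H → IsPGroup p Q → Q ≠ ⊥ →
        Subgroup.normalizer (Q : Set G) ≤ H := by
      intro Q hQH hQp hQ1 g hg
      by_contra hgH
      apply hse g hgH
      have hQle : Q ≤ H ⊓ H.map (MulAut.conj g).toMonoidHom := by
        refine le_inf hQH ?_
        intro x hx
        rw [Lib.Helper16.mem_map_conj_iff]
        have h1 := (Subgroup.mem_normalizer_iff.mp (Subgroup.inv_mem _ hg) x).mp hx
        rw [inv_inv] at h1
        exact hQH h1
      exact (Lib.Helper16.dvd_card_of_isPGroup_ne_bot hQp hQ1).trans (Subgroup.card_dvd_of_le hQle)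
    have hspe : IsStronglyPEmbedded p H := Lib.Helper16.spe_of_normalizers hH hpH F2
    obtain ⟨S, hSH⟩ := Lib.Helper16.spe_exists_sylow_le hspe
    have hdiv : p ∣ Nat.card G := hpH.trans (Subgroup.card_subgroup_dvd_card H)
    -- a Sylow subgroup meeting H nontrivially lies in H
    have key : ∀ T' : Sylow p G, (T' : Subgroup G) ⊓ H ≠ ⊥ → (T' : Subgroup G) ≤ H := by
      intro T' hT'
      obtain ⟨k, hk⟩ := MulAction.exists_smul_eq G S T'
      have hT'k : (T' : Subgroup G) ≤ H.map (MulAut.conj k).toMonoidHom := by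
        intro z hz
        rw [← hk, Lib.Helper17.mem_sylow_smul_iff] at hz
        rw [Lib.Helper16.mem_map_conj_iff]
        exact hSH hz
      by_cases hkH : k ∈ H
      · rwa [Lib.Helper16.map_conj_eq_self_of_mem hkH] at hT'k
      · exfalso
        apply hse k hkH
        have hle : (T' : Subgroup G) ⊓ H ≤ H ⊓ H.map (MulAut.conj k).toMonoidHom :=
          le_inf inf_le_right (inf_le_left.trans hT'k)
        exact (Lib.Helper16.dvd_card_of_isPGroup_ne_bot (T'.isPGroup'.to_le inf_le_left) hT').trans
          (Subgroup.card_dvd_of_le hle)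
    obtain ⟨g, hg⟩ : ∃ g : G, g ∉ H := by
      by_contra hall
      push Not at hall
      exact hH (eq_top_iff.mpr (fun z _ => hall z))
    obtain ⟨n, c, h0, hl, -, hc⟩ := hconn S (g • S)
    have hall : ∀ i : Fin (n + 1), (c i : Subgroup G) ≤ H := by
      intro i
      induction i using Fin.induction with
      | zero => rw [h0]; exact hSH
      | succ j ih =>
        apply key
        intro hb
        apply (hc j).2
        rw [eq_bot_iff, ← hb]
        exact le_inf inf_le_right (inf_le_left.trans ih)
    have hgS : ((g • S : Sylow p G) : Subgroup G) ≤ H := by rw [← hl]; exact hall _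
    apply hse g hg
    have hle : ((g • S : Sylow p G) : Subgroup G) ≤ H ⊓ H.map (MulAut.conj g).toMonoidHom := by
      refine le_inf hgS ?_
      intro z hz
      rw [Lib.Helper17.mem_sylow_smul_iff] at hz
      rw [Lib.Helper16.mem_map_conj_iff]
      exact hSH hz
    exact ((g • S : Sylow p G).dvd_card_of_dvd_card hdiv).trans (Subgroup.card_dvd_of_le hle)

end Cfsg.Agent.S3056
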