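import Cfsg.Statements.S3057
import Mathlib
import Cfsg.Agent.S3056
import Cfsg.Agent.S0058
import Cfsg.Agent.S0016
import Cfsg.Agent.Lib.Helper9.Cyclic
import Cfsg.Agent.Lib.Helper12.PPrimeP
import Cfsg.Agent.Lib.Helper24.PSolvable
import Cfsg.Agent.Lib.Helper17.SylowGraph
import Cfsg.Agent.Lib.Helper17.CentrallyLarge

set_option autoImplicit false
set_option linter.style.haveILetI false
open Cfsg

namespace Cfsg.Agent.S3057

/-- A subgroup containing the normalizers of its nontrivial `p`-subgroups and a noncyclic abelian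
`p`-subgroup of rank two contains every normal `p'`-subgroup. -/
theorem le_of_noncyclic {G : Type*} [Group G] [Finite G] {p : ℕ} [Fact p.Prime]
    (H : Subgroup G)
    (F2 : ∀ Q : Subgroup G, Q ≤ H → IsPGroup p Q → Q ≠ ⊥ → Subgroup.normalizer (Q : Set G) ≤ H)
    (S : Sylow p G) (hSH : (S : Subgroup G) ≤ H)
    (a b : G) (haS : a ∈ (S : Subgroup G)) (hbS : b ∈ (S : Subgroup G))
    (hao : orderOf a = p) (hbo : orderOf b = p)
    (hab : a * b = b * a) (hne : Subgroup.zpowers a ≠ Subgroup.zpowers b)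
    (K : Subgroup G) [K.Normal] (hK : (Nat.card K).Coprime p) : K ≤ H := by
  have hEle : Subgroup.zpowers a ⊔ Subgroup.zpowers b ≤ (S : Subgroup G) :=
    sup_le (by rw [Subgroup.zpowers_le]; exact haS) (by rw [Subgroup.zpowers_le]; exact hbS)
  have hEcomm : IsMulCommutative ↥(Subgroup.zpowers a ⊔ Subgroup.zpowers b) := by
    apply Lib.Helper17.isMulCommutative_sup _ _ inferInstance inferInstance
    rw [Subgroup.zpowers_le, Subgroup.mem_centralizer_iff]
    intro y hy
    obtain ⟨k, rfl⟩ := Subgroup.mem_zpowers_iff.mp hy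
    have hcm : Commute b a := hab.symm
    exact (hcm.zpow_left k).eq
  have hEnc : ¬ IsCyclic ↥(Subgroup.zpowers a ⊔ Subgroup.zpowers b) := by
    intro hcyc
    exact hne (Cfsg.Agent.Lib.Helper9.eq_of_card_eq_of_le_isCyclic
        (Subgroup.zpowers a ⊔ Subgroup.zpowers b) _ _ le_sup_left le_sup_right
        (by rw [Nat.card_zpowers, Nat.card_zpowers, hao, hbo]))
  have hEcop : (Nat.card ↥(Subgroup.zpowers a ⊔ Subgroup.zpowers b)).Coprime (Nat.card ↥K) := by
    obtain ⟨k, hk⟩ := IsPGroup.iff_card.mp (S.isPGroup'.to_le hEle)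
    rw [hk]
    exact Nat.Coprime.pow_left k hK.symm
  have hgen := Cfsg.Agent.S0058.result (Subgroup.zpowers a ⊔ Subgroup.zpowers b) K hEnc
    Subgroup.le_normalizer_of_normal hEcop
  rw [← hgen]
  apply iSup₂_le
  rintro e ⟨heE, he1⟩
  have heS : e ∈ (S : Subgroup G) := hEle heE
  have hzp : IsPGroup p (Subgroup.zpowers e) :=
    S.isPGroup'.to_le (by rw [Subgroup.zpowers_le]; exact heS)
  have hz1 : Subgroup.zpowers e ≠ ⊥ := by
    rw [Ne, Subgroup.zpowers_eq_bot]; exact he1
  have hzH : Subgroup.zpowers e ≤ H := by rw [Subgroup.zpowers_le]; exact hSH heS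
  exact inf_le_right.trans ((Lib.Helper16.centralizer_singleton_le_normalizer_zpowers e).trans
    (F2 _ hzH hzp hz1))

/-- In a `p`-solvable group of order divisible by `p`, `O_{p',p}(G)` has order divisible by `p`
and is generated by `O_{p'}(G)` and its intersection with any Sylow `p`-subgroup. -/
theorem dvd_card_pPrimePCore {G : Type*} [Group G] [Finite G] (p : ℕ) [Fact p.Prime]
    (hdiv : p ∣ Nat.card G) (hsol : Cfsg.IsPSolvable p G) :
    p ∣ Nat.card ↥(Cfsg.pPrimePCore p G) := by
  have hp : p.Prime := Fact.out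
  have hKcop := Lib.Helper12.pPrimeCore_coprime (X := G) p
  have hKtop : Cfsg.pPrimeCore p G ≠ ⊤ := by
    intro h
    rw [h, Subgroup.card_top] at hKcop
    exact hp.one_lt.ne' (Nat.dvd_one.mp (hKcop ▸ Nat.dvd_gcd hdiv dvd_rfl))
  haveI : Nontrivial (G ⧸ Cfsg.pPrimeCore p G) := by
    rw [← not_subsingleton_iff_nontrivial]
    intro hs
    apply hKtop
    exact QuotientGroup.subgroup_eq_top_of_subsingleton _ hs
  have hsolQ : Cfsg.IsPSolvable p (G ⧸ Cfsg.pPrimeCore p G) :=
    Lib.Helper24.isPSolvable_of_surjective p (QuotientGroup.mk' _) (QuotientGroup.mk'_surjective _) hsol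
  have hne := Lib.Helper24.pCore_ne_bot_of_isPSolvable p hsolQ (Lib.Helper24.pPrimeCore_quotient_eq_bot' p)
  -- card of comap
  have h1 := Lib.Helper12.card_comap_mk' (Cfsg.pPrimeCore p G) (Cfsg.pCore p (G ⧸ Cfsg.pPrimeCore p G))
  have h3 : Nat.card ↥(Cfsg.pPrimePCore p G) =
      Nat.card ↥(Cfsg.pPrimeCore p G) * Nat.card ↥(Cfsg.pCore p (G ⧸ Cfsg.pPrimeCore p G)) := h1
  rw [h3]
  exact Dvd.dvd.mul_left (Lib.Helper16.dvd_card_of_isPGroup_ne_bot (Lib.Helper12.pCore_isPGroup' p) hne) _

theorem forward {G : Type*} [Group G] [Finite G] (p : ℕ) [Fact p.Prime] (hdiv : p ∣ Nat.card G)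
    (hsol : Cfsg.IsPSolvable p G) (P : Sylow p G) (hG : ¬ Cfsg.IsSylowChainConnected p G) :
    Cfsg.pCore p G = ⊥ ∧
      (IsCyclic ↥P ∨ (p = 2 ∧ ∃ n : ℕ, Nonempty (↥P ≃* QuaternionGroup (2 ^ n)))) := by
  have hp : p.Prime := Fact.out
  constructor
  · by_contra hne
    apply hG
    apply Lib.Helper17.isSylowChainConnected_of_sylConn
    intro S T
    obtain ⟨x, hx⟩ := Subgroup.ne_bot_iff_exists_ne_one.mp hne
    haveI : (Cfsg.pCore p G).Normal := Lib.Helper24.pCore_normal' p
    have hle : ∀ S : Sylow p G, Cfsg.pCore p G ≤ (S : Subgroup G) := fun S =>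
      Lib.Helper24.normal_pgroup_le_sylow _ (Lib.Helper12.pCore_isPGroup' p) S
    exact Lib.Helper17.SylConn.of_mem (hle S x.2) (hle T x.2) (fun h => hx (Subtype.ext h))
  · obtain ⟨H, hH, hpH, hse⟩ := (Cfsg.Agent.S3056.result p).mp hG
    have F2 : ∀ Q : Subgroup G, Q ≤ H → IsPGroup p Q → Q ≠ ⊥ →
        Subgroup.normalizer (Q : Set G) ≤ H := by
      intro Q hQH hQp hQ1 g hg
      by_contra hgH
      apply hse g hgH
      have hQle : Q ≤ H ⊓ H.map (MulAut.conj g).toMonoidHom := by
        refine le_inf hQH ?_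
        intro x hx
        rw [Lib.Helper16.mem_map_conj_iff]
        have h1 := (Subgroup.mem_normalizer_iff.mp (Subgroup.inv_mem _ hg) x).mp hx
        rw [inv_inv] at h1
        exact hQH h1
      exact (Lib.Helper16.dvd_card_of_isPGroup_ne_bot hQp hQ1).trans (Subgroup.card_dvd_of_le hQle)
    have hspe : IsStronglyPEmbedded p H := Lib.Helper16.spe_of_normalizers hH hpH F2
    obtain ⟨S, hSH⟩ := Lib.Helper16.spe_exists_sylow_le hspe
    suffices hS : IsCyclic ↥S ∨ (p = 2 ∧ ∃ n : ℕ, Nonempty (↥S ≃* QuaternionGroup (2 ^ n))) by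
      have e : ↥S ≃* ↥P := Sylow.equiv S P
      rcases hS with h | ⟨h2, n, ⟨f⟩⟩
      · left
        haveI := h
        exact isCyclic_of_surjective e e.surjective
      · right
        exact ⟨h2, n, ⟨e.symm.trans f⟩⟩
    apply Cfsg.Agent.S0016.result p S.isPGroup'
    intro A B hA hB
    by_contra hAB
    have hSne : (S : Subgroup G) ≠ ⊥ := S.ne_bot_of_dvd_card hdiv
    haveI : Nontrivial ↥S := (Subgroup.nontrivial_iff_ne_bot _).mpr hSne
    haveI : Nontrivial ↥(Subgroup.center ↥S) := S.isPGroup'.center_nontrivial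
    have hcdvd : p ∣ Nat.card ↥(Subgroup.center ↥S) :=
      Lib.Helper16.dvd_card_of_isPGroup_ne_bot (S.isPGroup'.to_subgroup _)
        ((Subgroup.nontrivial_iff_ne_bot _).mp inferInstance)
    obtain ⟨z, hz⟩ := exists_prime_orderOf_dvd_card' p hcdvd
    obtain ⟨A', hA', hA'Z⟩ : ∃ A' : Subgroup ↥S, Nat.card A' = p ∧
        A' ≠ Subgroup.zpowers (z : ↥S) := by
      by_cases h : A = Subgroup.zpowers (z : ↥S)
      · exact ⟨B, hB, fun hB' => hAB (h.trans hB'.symm)⟩
      · exact ⟨A, hA, h⟩
    obtain ⟨a, ha⟩ := exists_prime_orderOf_dvd_card' p (show p ∣ Nat.card A' by rw [hA'])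
    have hzo : orderOf (z : ↥S) = p := by rw [Subgroup.orderOf_coe]; exact hz
    have hao : orderOf (a : ↥S) = p := by rw [Subgroup.orderOf_coe]; exact ha
    have hAeq : Subgroup.zpowers (a : ↥S) = A' :=
      Subgroup.eq_of_le_of_card_ge (by rw [Subgroup.zpowers_le]; exact a.2)
        (by rw [Nat.card_zpowers, hao, hA'])
    have hzo' : orderOf (((z : ↥S) : G)) = p := by rw [Subgroup.orderOf_coe]; exact hzo
    have hao' : orderOf (((a : ↥S) : G)) = p := by rw [Subgroup.orderOf_coe]; exact hao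
    have hcomm : ((z : ↥S) : G) * ((a : ↥S) : G) = ((a : ↥S) : G) * ((z : ↥S) : G) := by
      have := Subgroup.mem_center_iff.mp z.2 (a : ↥S)
      exact (congrArg Subtype.val this).symm
    have hne : Subgroup.zpowers (((z : ↥S) : G)) ≠ Subgroup.zpowers (((a : ↥S) : G)) := by
      intro h
      apply hA'Z
      rw [← hAeq]
      apply Subgroup.map_injective (S : Subgroup G).subtype_injective
      rw [MonoidHom.map_zpowers, MonoidHom.map_zpowers]
      exact h.symm
    have hKH : Cfsg.pPrimeCore p G ≤ H :=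
      le_of_noncyclic H F2 S hSH _ _ (z : ↥S).2 (a : ↥S).2 hzo' hao' hcomm hne _
        (Lib.Helper12.pPrimeCore_coprime p)
    have hLH : Cfsg.pPrimePCore p G ≤ H := by
      rw [← Lib.Helper12.pPrimeCore_sup_sylow_inf S]
      exact sup_le hKH (inf_le_left.trans hSH)
    have hLdvd := dvd_card_pPrimePCore p hdiv hsol
    obtain ⟨g, hg⟩ : ∃ g : G, g ∉ H := by
      by_contra hall
      push Not at hall
      exact hH (eq_top_iff.mpr fun x _ => hall x)
    apply hse g hg
    refine hLdvd.trans (Subgroup.card_dvd_of_le (le_inf hLH ?_))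
    intro x hx
    rw [Lib.Helper16.mem_map_conj_iff]
    have := (Lib.Helper12.pPrimePCore_normal' (G := G) p).conj_mem x hx g⁻¹
    rw [inv_inv] at this
    exact hLH this

theorem zmod_two_mul_aux (m : ℕ) [NeZero m] (i j : ZMod (2 * m)) (hi : i + i = 0) (hj : j + j = 0)
    (hi0 : i ≠ 0) (hj0 : j ≠ 0) : i = j := by
  have hm : 0 < m := Nat.pos_of_ne_zero (NeZero.ne m)
  have key : ∀ k : ZMod (2 * m), k + k = 0 → k ≠ 0 → k.val = m := by
    intro k hk hk0
    have h1 : (k + k).val = 0 := by rw [hk]; exact ZMod.val_zero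
    rw [ZMod.val_add] at h1
    have hlt : k.val < 2 * m := ZMod.val_lt k
    have hpos : 0 < k.val := by
      rcases Nat.eq_zero_or_pos k.val with h | h
      · exact absurd ((ZMod.val_eq_zero k).mp h) hk0
      · exact h
    have h2 : 2 * m ∣ k.val + k.val := Nat.dvd_of_mod_eq_zero h1
    obtain ⟨c, hc⟩ := h2
    have hc1 : c = 1 := by
      have hc_pos : 0 < c := by
        rcases Nat.eq_zero_or_pos c with h | h
        · rw [h] at hc; omega
        · exact h
      have hc_lt : c < 2 := by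
        by_contra hge
        have hge' : 2 ≤ c := by omega
        have : 2 * m * 2 ≤ 2 * m * c := Nat.mul_le_mul_left _ hge'
        omega
      omega
    rw [hc1] at hc
    omega
  apply ZMod.val_injective
  rw [key i hi hi0, key j hj hj0]

theorem quaternion_involution_unique (m : ℕ) [NeZero m] (g h : QuaternionGroup m)
    (hg : orderOf g = 2) (hh : orderOf h = 2) : g = h := by
  have key : ∀ g : QuaternionGroup m, orderOf g = 2 →
      ∃ i : ZMod (2 * m), g = QuaternionGroup.a i ∧ i + i = 0 ∧ i ≠ 0 := by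
    intro g hg
    cases g with
    | a i =>
      refine ⟨i, rfl, ?_, ?_⟩
      · have h1 : (QuaternionGroup.a i : QuaternionGroup m) ^ 2 = 1 := by
          rw [← hg]; exact pow_orderOf_eq_one _
        rw [pow_two, QuaternionGroup.a_mul_a, QuaternionGroup.one_def] at h1
        exact QuaternionGroup.a.inj h1
      · intro h0
        rw [h0, ← QuaternionGroup.one_def, orderOf_one] at hg
        omega
    | xa i =>
      rw [QuaternionGroup.orderOf_xa] at hg
      omega
  obtain ⟨i, rfl, hi, hi0⟩ := key g hg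
  obtain ⟨j, rfl, hj, hj0⟩ := key h hh
  rw [zmod_two_mul_aux m i j hi hj hi0 hj0]


theorem backward {G : Type*} [Group G] [Finite G] (p : ℕ) [Fact p.Prime] (hdiv : p ∣ Nat.card G)
    (P : Sylow p G) (hO : Cfsg.pCore p G = ⊥)
    (hP : IsCyclic ↥P ∨ (p = 2 ∧ ∃ n : ℕ, Nonempty (↥P ≃* QuaternionGroup (2 ^ n)))) :
    ¬ Cfsg.IsSylowChainConnected p G := by
  intro hconn
  have hp : p.Prime := Fact.out
  have hU : ∀ a b : G, a ∈ (P : Subgroup G) → b ∈ (P : Subgroup G) → orderOf a = p →
      orderOf b = p → Subgroup.zpowers a = Subgroup.zpowers b := by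
    intro a b ha hb hao hbo
    rcases hP with hc | ⟨h2, n, ⟨e⟩⟩
    · haveI := hc
      exact Lib.Helper9.eq_of_card_eq_of_le_isCyclic (P : Subgroup G) _ _
        (Subgroup.zpowers_le.mpr ha) (Subgroup.zpowers_le.mpr hb)
        (by rw [Nat.card_zpowers, Nat.card_zpowers, hao, hbo])
    · subst h2
      have h1 : orderOf (e ⟨a, ha⟩) = 2 := by
        rw [MulEquiv.orderOf_eq, Subgroup.orderOf_mk]; exact hao
      have h2 : orderOf (e ⟨b, hb⟩) = 2 := by
        rw [MulEquiv.orderOf_eq, Subgroup.orderOf_mk]; exact hbo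
      have h3 := quaternion_involution_unique (2 ^ n) _ _ h1 h2
      have hab : a = b := congrArg Subtype.val (e.injective h3)
      rw [hab]
  have hUall : ∀ T : Sylow p G, ∀ a b : G, a ∈ (T : Subgroup G) → b ∈ (T : Subgroup G) →
      orderOf a = p → orderOf b = p → Subgroup.zpowers a = Subgroup.zpowers b := by
    intro T a b ha hb hao hbo
    obtain ⟨g, rfl⟩ := MulAction.exists_smul_eq G P T
    rw [Lib.Helper17.mem_sylow_smul_iff] at ha hb
    have hc : ∀ x : G, orderOf (g⁻¹ * x * g) = orderOf x := by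
      intro x
      have : g⁻¹ * x * g = g⁻¹ * x * g⁻¹⁻¹ := by rw [inv_inv]
      rw [this, Lib.Helper8.orderOf_conj']
    have h := hU _ _ ha hb (by rw [hc, hao]) (by rw [hc, hbo])
    have h' := congrArg (Subgroup.map (MulAut.conj g).toMonoidHom) h
    rw [MonoidHom.map_zpowers, MonoidHom.map_zpowers] at h'
    have e1 : ∀ x : G, (MulAut.conj g).toMonoidHom (g⁻¹ * x * g) = x := by
      intro x
      simp only [MulEquiv.coe_toMonoidHom, MulAut.conj_apply]
      group
    rw [e1, e1] at h'
    exact h'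
  -- an element of order p in P
  have hPne : (P : Subgroup G) ≠ ⊥ := P.ne_bot_of_dvd_card hdiv
  have hPdvd : p ∣ Nat.card ↥(P : Subgroup G) :=
    Lib.Helper16.dvd_card_of_isPGroup_ne_bot P.isPGroup' hPne
  obtain ⟨z0, hz0⟩ := exists_prime_orderOf_dvd_card' p hPdvd
  have hzo : orderOf (z0 : G) = p := by rw [Subgroup.orderOf_coe]; exact hz0
  have hzall : ∀ T : Sylow p G, Lib.Helper17.SylConn p P T → (z0 : G) ∈ (T : Subgroup G) := by
    intro T hT
    unfold Lib.Helper17.SylConn at hT
    induction hT with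
    | refl => exact z0.2
    | @tail b c _ hbc ih =>
      obtain ⟨-, hne⟩ := hbc
      have hpg : IsPGroup p ↥((b : Subgroup G) ⊓ (c : Subgroup G)) := b.isPGroup'.to_le inf_le_left
      have hdvd := Lib.Helper16.dvd_card_of_isPGroup_ne_bot hpg hne
      obtain ⟨y, hy⟩ := exists_prime_orderOf_dvd_card' p hdvd
      have hyo : orderOf (y : G) = p := by rw [Subgroup.orderOf_coe]; exact hy
      have heq := hUall b _ _ ih y.2.1 hzo hyo
      have : (z0 : G) ∈ Subgroup.zpowers (y : G) := by
        rw [← heq]; exact Subgroup.mem_zpowers _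
      exact (Subgroup.zpowers_le.mpr y.2.2) this
  have hzcore : (z0 : G) ∈ (P : Subgroup G).normalCore := by
    intro g
    have h1 := hzall (g⁻¹ • P) (Lib.Helper17.sylConn_of_isSylowChainConnected hconn P _)
    rw [Lib.Helper17.mem_sylow_smul_iff, inv_inv] at h1
    exact h1
  have hle : (P : Subgroup G).normalCore ≤ Cfsg.pCore p G :=
    Lib.Helper12.le_pCore' p _ inferInstance (P.isPGroup'.to_le (Subgroup.normalCore_le _))
  have hz1 := hle hzcore
  rw [hO, Subgroup.mem_bot] at hz1
  rw [hz1, orderOf_one] at hzo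
  exact hp.one_lt.ne hzo

/-- Let p be a prime and G a finite p-solvable group of order divisible by p, with Sylow p-subgroup P. Then the Sylow p-subgroups of G fail to be chain-connected through nontrivial intersections (equivalently, G has a strongly p-embedded subgroup) if and only if O_p(G) = 1 and P is cyclic or, for p = 2, generalized quaternion. -/
theorem result {G : Type*} [Group G] [Finite G]
    (p : ℕ) [Fact p.Prime] (hdiv : p ∣ Nat.card G) (hsol : Cfsg.IsPSolvable p G) (P : Sylow p G) :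
    ¬ Cfsg.IsSylowChainConnected p G ↔
      Cfsg.pCore p G = ⊥ ∧ (IsCyclic ↥P ∨ (p = 2 ∧ ∃ n : ℕ, Nonempty (↥P ≃* QuaternionGroup (2 ^ n)))) := by
  constructor
  · exact forward p hdiv hsol P
  · rintro ⟨hO, hP⟩
    exact backward p hdiv P hO hP

end Cfsg.Agent.S3057
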