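import Cfsg.Statements.S3059
import Cfsg.Agent.Lib.Helper16.StronglyEmbedded
import Cfsg.Agent.Lib.Helper8.PResidual

set_option autoImplicit false
open Cfsg

namespace Cfsg.Agent.S3059

/-- Let p be a prime and H a strongly p-embedded subgroup of the finite group G in the classical sense: H is proper, p divides the order of H, and H ∩ gHg⁻¹ has order prime to p for every g outside H. Then for every normal subgroup N of G of order divisible by p, G = H · O^p(N), where O^p(N) is the subgroup generated by the elements of N of order prime to p. -/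
theorem result {G : Type*} [Group G] [Finite G]
    (p : ℕ) [Fact p.Prime] (H : Subgroup G) (hH : H ≠ ⊤) (hpH : p ∣ Nat.card H)
    (hse : ∀ g : G, g ∉ H → ¬ p ∣ Nat.card ↥(H ⊓ H.map (MulAut.conj g).toMonoidHom))
    (N : Subgroup G) [N.Normal] (hN : p ∣ Nat.card N) :
    H ⊔ Subgroup.closure {g : G | g ∈ N ∧ (orderOf g).Coprime p} = ⊤ := by
  classical
  have hp : p.Prime := Fact.out
  -- F2 : normalizers of nontrivial p-subgroups of H lie in H
  have F2 : ∀ Q : Subgroup G, Q ≤ H → IsPGroup p Q → Q ≠ ⊥ →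
      Subgroup.normalizer (Q : Set G) ≤ H := by
    intro Q hQH hQp hQ1 g hg
    by_contra hgH
    apply hse g hgH
    have hQle : Q ≤ H ⊓ H.map (MulAut.conj g).toMonoidHom := by
      refine le_inf hQH ?_
      intro x hx
      rw [Lib.Helper16.mem_map_conj_iff]
      have h1 := (Subgroup.mem_normalizer_iff.mp (Subgroup.inv_mem _ hg) x).mp hx
      rw [inv_inv] at h1
      exact hQH h1
    exact (Lib.Helper16.dvd_card_of_isPGroup_ne_bot hQp hQ1).trans (Subgroup.card_dvd_of_le hQle)
  have hspe : IsStronglyPEmbedded p H := Lib.Helper16.spe_of_normalizers hH hpH F2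
  obtain ⟨S, hSH⟩ := Lib.Helper16.spe_exists_sylow_le hspe
  -- a Sylow subgroup of N
  obtain ⟨P₀⟩ : Nonempty (Sylow p N) := inferInstance
  have hP₁p : IsPGroup p ((P₀ : Subgroup N).map N.subtype) := P₀.isPGroup'.map _
  have hP₁1 : (P₀ : Subgroup N).map N.subtype ≠ ⊥ := by
    intro hb
    rw [Subgroup.map_eq_bot_iff_of_injective _ N.subtype_injective] at hb
    exact P₀.ne_bot_of_dvd_card hN hb
  obtain ⟨y, -, hy⟩ := Lib.Helper16.exists_conj_le_sylow S le_top
    (le_top : (P₀ : Subgroup N).map N.subtype ≤ ⊤) hP₁p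
  have h1 := F2 _ (hy.trans hSH) (Lib.Helper16.isPGroup_map_conj hP₁p y)
    (Lib.Helper16.map_conj_ne_bot hP₁1 y)
  rw [Lib.Helper16.normalizer_map_conj] at h1
  -- Frattini
  have hFr : Subgroup.normalizer (((P₀ : Subgroup N).map N.subtype : Subgroup G) : Set G) ⊔ N = ⊤ :=
    Sylow.normalizer_sup_eq_top P₀
  -- K is normal
  have hKn : (Subgroup.closure {g : G | g ∈ N ∧ (orderOf g).Coprime p}).Normal := by
    apply Lib.Helper8.closure_normal_of_conj_invariant
    rintro g s ⟨hsN, hs⟩
    refine ⟨‹N.Normal›.conj_mem s hsN g, ?_⟩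
    rw [Lib.Helper8.orderOf_conj']; exact hs
  -- N = P₁ K
  have hNle : N ≤ (P₀ : Subgroup N).map N.subtype ⊔
      Subgroup.closure {g : G | g ∈ N ∧ (orderOf g).Coprime p} := by
    have := Lib.Helper8.pResidual_normal p ↥N
    have hquot : IsPGroup p (↥N ⧸ Cfsg.pResidual p ↥N) :=
      Lib.Helper8.isPGroup_quotient_pResidual p _ le_rfl
    have htop : (P₀ : Subgroup N) ⊔ Cfsg.pResidual p ↥N = ⊤ := by
      rw [← Subgroup.index_eq_one]
      have hd1 : ((P₀ : Subgroup N) ⊔ Cfsg.pResidual p ↥N).index ∣ (P₀ : Subgroup N).index :=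
        Subgroup.index_dvd_of_le le_sup_left
      have hd2 : ((P₀ : Subgroup N) ⊔ Cfsg.pResidual p ↥N).index ∣ (Cfsg.pResidual p ↥N).index :=
        Subgroup.index_dvd_of_le le_sup_right
      obtain ⟨k, hk⟩ := IsPGroup.iff_card.mp hquot
      rw [Subgroup.index_eq_card (Cfsg.pResidual p ↥N), hk] at hd2
      obtain ⟨j, -, hj⟩ := (Nat.dvd_prime_pow hp).mp hd2
      rcases Nat.eq_zero_or_pos j with hj0 | hjpos
      · rw [hj, hj0, pow_zero]
      · exfalso
        apply P₀.not_dvd_index
        refine dvd_trans ?_ hd1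
        rw [hj]
        exact dvd_pow_self p hjpos.ne'
    have hmap : ((P₀ : Subgroup N) ⊔ Cfsg.pResidual p ↥N).map N.subtype = N := by
      rw [htop, ← MonoidHom.range_eq_map, Subgroup.range_subtype]
    rw [Subgroup.map_sup] at hmap
    have hRle : (Cfsg.pResidual p ↥N).map N.subtype ≤
        Subgroup.closure {g : G | g ∈ N ∧ (orderOf g).Coprime p} := by
      unfold Cfsg.pResidual
      rw [MonoidHom.map_closure, Subgroup.closure_le]
      rintro _ ⟨h, hh, rfl⟩
      apply Subgroup.subset_closure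
      refine ⟨h.2, ?_⟩
      show Nat.Coprime (orderOf (h : G)) p
      rw [Subgroup.orderOf_coe]; exact hh
    calc N = _ := hmap.symm
      _ ≤ _ := sup_le_sup le_rfl hRle
  have h2 : Subgroup.normalizer (((P₀ : Subgroup N).map N.subtype : Subgroup G) : Set G) ⊔
      Subgroup.closure {g : G | g ∈ N ∧ (orderOf g).Coprime p} = ⊤ := by
    rw [eq_top_iff, ← hFr]
    refine sup_le le_sup_left (hNle.trans (sup_le ?_ le_sup_right))
    exact Subgroup.le_normalizer.trans le_sup_left
  rw [eq_top_iff]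
  have h3 : (⊤ : Subgroup G) = (⊤ : Subgroup G).map (MulAut.conj y).toMonoidHom := by
    rw [← MonoidHom.range_eq_map]
    exact (MonoidHom.range_eq_top.mpr (MulAut.conj y).surjective).symm
  rw [h3, ← h2, Subgroup.map_sup]
  refine sup_le_sup h1 ?_
  rintro _ ⟨k, hk, rfl⟩
  exact hKn.conj_mem k hk y

end Cfsg.Agent.S3059
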