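import Cfsg.Statements.S3058
import Cfsg.Agent.S3056
import Cfsg.Agent.S3059
import Cfsg.Agent.S0058
import Cfsg.Agent.Lib.Helper9.Cyclic
import Cfsg.Agent.Lib.Helper17.CentrallyLarge

set_option autoImplicit false
open Cfsg

namespace Cfsg.Agent.S3058

/-- Let p be a prime and G a finite group whose Sylow p-subgroups are not chain-connected through nontrivial intersections (so G has a strongly p-embedded subgroup). If N and M are normal subgroups of G whose orders are both divisible by p, then the order of N ∩ M is divisible by p. Consequently, among the normal subgroups of G whose order is divisible by p there is a smallest one (the intersection of all of them). -/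
theorem result {G : Type*} [Group G] [Finite G]
    (p : ℕ) [Fact p.Prime] (hG : ¬ Cfsg.IsSylowChainConnected p G)
    (N M : Subgroup G) [N.Normal] [M.Normal] (hN : p ∣ Nat.card N) (hM : p ∣ Nat.card M) :
    p ∣ Nat.card ↥(N ⊓ M) := by
  classical
  have hp : p.Prime := Fact.out
  obtain ⟨H, hH, hpH, hse⟩ := (Cfsg.Agent.S3056.result p).mp hG
  -- F2
  have F2 : ∀ Q : Subgroup G, Q ≤ H → IsPGroup p Q → Q ≠ ⊥ →
      Subgroup.normalizer (Q : Set G) ≤ H := by
    intro Q hQH hQp hQ1 g hg
    by_contra hgH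
    apply hse g hgH
    have hQle : Q ≤ H ⊓ H.map (MulAut.conj g).toMonoidHom := by
      refine le_inf hQH ?_
      intro x hx
      rw [Lib.Helper16.mem_map_conj_iff]
      have h1 := (Subgroup.mem_normalizer_iff.mp (Subgroup.inv_mem _ hg) x).mp hx
      rw [inv_inv] at h1
      exact hQH h1
    exact (Lib.Helper16.dvd_card_of_isPGroup_ne_bot hQp hQ1).trans (Subgroup.card_dvd_of_le hQle)
  have hspe : IsStronglyPEmbedded p H := Lib.Helper16.spe_of_normalizers hH hpH F2
  obtain ⟨S, hSH⟩ := Lib.Helper16.spe_exists_sylow_le hspe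
  -- elements of order p in S ∩ N and S ∩ M
  have hex : ∀ N' : Subgroup G, N'.Normal → p ∣ Nat.card N' →
      ∃ x : G, x ∈ (S : Subgroup G) ∧ x ∈ N' ∧ orderOf x = p := by
    intro N' hN' hdvd
    obtain ⟨x, hx⟩ := exists_prime_orderOf_dvd_card' p hdvd
    have hxo : orderOf (x : G) = p := by rw [Subgroup.orderOf_coe]; exact hx
    have hzp : IsPGroup p (Subgroup.zpowers (x : G)) :=
      IsPGroup.of_card (n := 1) (by rw [Nat.card_zpowers, hxo, pow_one])
    obtain ⟨y, -, hle⟩ := Lib.Helper16.exists_conj_le_sylow S le_top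
      (le_top : Subgroup.zpowers (x : G) ≤ ⊤) hzp
    refine ⟨y * (x : G) * y⁻¹, hle ⟨(x : G), Subgroup.mem_zpowers _, by simp⟩,
      hN'.conj_mem _ x.2 y, ?_⟩
    rw [Lib.Helper8.orderOf_conj']; exact hxo
  obtain ⟨a, haS, haN, hao⟩ := hex N inferInstance hN
  obtain ⟨b, hbS, hbM, hbo⟩ := hex M inferInstance hM
  by_contra hK
  have hKcop : (Nat.card ↥(N ⊓ M)).Coprime p :=
    ((Nat.Prime.coprime_iff_not_dvd hp).mpr hK).symm
  -- p-elements of N ⊓ M are trivial
  have hKtriv : ∀ z : G, z ∈ N ⊓ M → z ∈ (S : Subgroup G) → z = 1 := by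
    intro z hzK hzS
    obtain ⟨k, hk⟩ := (IsPGroup.iff_orderOf.mp S.isPGroup') ⟨z, hzS⟩
    rw [Subgroup.orderOf_mk] at hk
    have hdvd : orderOf z ∣ Nat.card ↥(N ⊓ M) := by
      have := orderOf_dvd_natCard (⟨z, hzK⟩ : ↥(N ⊓ M))
      rwa [Subgroup.orderOf_mk] at this
    have hc : (orderOf z).Coprime p := Nat.Coprime.coprime_dvd_left hdvd hKcop
    rw [hk] at hc
    have hk0 : k = 0 := by
      by_contra hk0
      have : p ∣ Nat.gcd (p ^ k) p := Nat.dvd_gcd (dvd_pow_self p hk0) dvd_rfl
      rw [Nat.Coprime] at hc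
      rw [hc] at this
      exact hp.one_lt.ne' (Nat.dvd_one.mp this)
    rw [hk0, pow_zero] at hk
    exact orderOf_eq_one_iff.mp hk
  have ha1 : a ≠ 1 := by
    intro h; rw [h, orderOf_one] at hao; exact hp.one_lt.ne hao
  have hb1 : b ≠ 1 := by
    intro h; rw [h, orderOf_one] at hbo; exact hp.one_lt.ne hbo
  -- a and b commute
  have hab : a * b = b * a := by
    have hc : a * b * a⁻¹ * b⁻¹ = 1 := by
      apply hKtriv
      · constructor
        · have : a * b * a⁻¹ * b⁻¹ = a * (b * a⁻¹ * b⁻¹) := by group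
          rw [this]
          exact N.mul_mem haN (‹N.Normal›.conj_mem _ (N.inv_mem haN) b)
        · exact M.mul_mem (‹M.Normal›.conj_mem _ hbM a) (M.inv_mem hbM)
      · exact Subgroup.mul_mem _ (Subgroup.mul_mem _ (Subgroup.mul_mem _ haS hbS)
          (Subgroup.inv_mem _ haS)) (Subgroup.inv_mem _ hbS)
    have : a * b = (a * b * a⁻¹ * b⁻¹) * (b * a) := by group
    rw [this, hc, one_mul]
  -- E = ⟨a⟩⟨b⟩
  have hEle : Subgroup.zpowers a ⊔ Subgroup.zpowers b ≤ (S : Subgroup G) :=
    sup_le (by rw [Subgroup.zpowers_le]; exact haS) (by rw [Subgroup.zpowers_le]; exact hbS)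
  have hEcomm : IsMulCommutative ↥(Subgroup.zpowers a ⊔ Subgroup.zpowers b) := by
    apply Lib.Helper17.isMulCommutative_sup _ _ inferInstance inferInstance
    rw [Subgroup.zpowers_le, Subgroup.mem_centralizer_iff]
    intro y hy
    obtain ⟨k, rfl⟩ := Subgroup.mem_zpowers_iff.mp hy
    have hcm : Commute b a := hab.symm
    exact (hcm.zpow_left k).eq
  have hEnc : ¬ IsCyclic ↥(Subgroup.zpowers a ⊔ Subgroup.zpowers b) := by
    intro hcyc
    have heq : Subgroup.zpowers a = Subgroup.zpowers b :=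
      Cfsg.Agent.Lib.Helper9.eq_of_card_eq_of_le_isCyclic
        (Subgroup.zpowers a ⊔ Subgroup.zpowers b) _ _ le_sup_left le_sup_right
        (by rw [Nat.card_zpowers, Nat.card_zpowers, hao, hbo])
    have haM : a ∈ M := by
      have : a ∈ Subgroup.zpowers b := by rw [← heq]; exact Subgroup.mem_zpowers a
      exact (Subgroup.zpowers_le.mpr hbM) this
    exact ha1 (hKtriv a ⟨haN, haM⟩ haS)
  have hEcop : (Nat.card ↥(Subgroup.zpowers a ⊔ Subgroup.zpowers b)).Coprime (Nat.card ↥(N ⊓ M)) := by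
    obtain ⟨k, hk⟩ := IsPGroup.iff_card.mp (S.isPGroup'.to_le hEle)
    rw [hk]
    exact Nat.Coprime.pow_left k hKcop.symm
  have hgen := Cfsg.Agent.S0058.result (Subgroup.zpowers a ⊔ Subgroup.zpowers b) (N ⊓ M) hEnc
    Subgroup.le_normalizer_of_normal hEcop
  -- K ≤ H
  have hKH : N ⊓ M ≤ H := by
    rw [← hgen]
    apply iSup₂_le
    rintro e ⟨heE, he1⟩
    have heS : e ∈ (S : Subgroup G) := hEle heE
    have hzp : IsPGroup p (Subgroup.zpowers e) :=
      S.isPGroup'.to_le (by rw [Subgroup.zpowers_le]; exact heS)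
    have hz1 : Subgroup.zpowers e ≠ ⊥ := by
      rw [Ne, Subgroup.zpowers_eq_bot]; exact he1
    have hzH : Subgroup.zpowers e ≤ H := by rw [Subgroup.zpowers_le]; exact hSH heS
    exact inf_le_right.trans ((Lib.Helper16.centralizer_singleton_le_normalizer_zpowers e).trans
      (F2 _ hzH hzp hz1))
  -- M ≤ H
  have hMH : M ≤ H := by
    intro m hm
    by_contra hmH
    apply hse m hmH
    have hzo : orderOf (m * a * m⁻¹) = p := by rw [Lib.Helper8.orderOf_conj']; exact hao
    have hle : Subgroup.zpowers (m * a * m⁻¹) ≤ H ⊓ H.map (MulAut.conj m).toMonoidHom := by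
      rw [Subgroup.zpowers_le]
      constructor
      · have hk : m * a * m⁻¹ * a⁻¹ ∈ N ⊓ M := by
          constructor
          · exact N.mul_mem (‹N.Normal›.conj_mem _ haN m) (N.inv_mem haN)
          · have : m * a * m⁻¹ * a⁻¹ = m * (a * m⁻¹ * a⁻¹) := by group
            rw [this]
            exact M.mul_mem hm (‹M.Normal›.conj_mem _ (M.inv_mem hm) a)
        have : m * a * m⁻¹ = (m * a * m⁻¹ * a⁻¹) * a := by group
        rw [this]
        exact H.mul_mem (hKH hk) (hSH haS)
      · show m * a * m⁻¹ ∈ H.map (MulAut.conj m).toMonoidHom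
        rw [Lib.Helper16.mem_map_conj_iff]
        have : m⁻¹ * (m * a * m⁻¹) * m = a := by group
        rw [this]; exact hSH haS
    have hcard : Nat.card (Subgroup.zpowers (m * a * m⁻¹)) = p := by rw [Nat.card_zpowers, hzo]
    rw [← hcard]
    exact Subgroup.card_dvd_of_le hle
  -- G = H M
  have htop := Cfsg.Agent.S3059.result p H hH hpH hse M hM
  apply hH
  rw [eq_top_iff, ← htop]
  refine sup_le le_rfl ?_
  rw [Subgroup.closure_le]
  rintro g ⟨hgM, -⟩
  exact hMH hgM

end Cfsg.Agent.S3058
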