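import Cfsg.Statements.S3062
import Cfsg.Agent.Lib.Helper17.DStar2

set_option autoImplicit false
open Cfsg

namespace Cfsg.Agent.S3062

/-- Let S be a finite p-group, J(S) the subgroup generated by the abelian subgroups of S of largest order and Z(J(S)) its centre. Then Z(S) ≤ D*(S) ≤ Z(J(S)), and every maximal normal abelian subgroup of S contains D*(S). -/
theorem result {S : Type*} [Group S] [Finite S] {p : ℕ} [Fact p.Prime]
    (hS : IsPGroup p S) :
    Subgroup.center S ≤ Cfsg.dStar S ∧
    Cfsg.dStar S ≤ Cfsg.thompsonSubgroupA S ⊓ Subgroup.centralizer (Cfsg.thompsonSubgroupA S : Set S) ∧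
    ∀ A : Subgroup S, A.Normal → IsMulCommutative A →
      (∀ B : Subgroup S, B.Normal → IsMulCommutative B → A ≤ B → B = A) → Cfsg.dStar S ≤ A := by
  refine ⟨?_, ?_, ?_⟩
  · -- Z(S) is a member of the family
    apply le_sSup
    refine ⟨inferInstance, ?_⟩
    intro x _ a ha
    exact ((Subgroup.mem_center_iff.1 ha) x).symm
  · obtain ⟨A₀, hA₀⟩ := Cfsg.Agent.Lib.Helper17.exists_maxAbelian S
    have hle : ∀ A ∈ Cfsg.maxAbelianSubgroups S, Cfsg.dStar S ≤ A :=
      fun A hA => Cfsg.Agent.Lib.Helper17.dStar_le_of_mem_maxAbelian hS A hA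
    apply le_inf
    · exact (hle A₀ hA₀).trans (le_sSup hA₀)
    · rw [Subgroup.le_centralizer_iff]
      apply sSup_le
      intro A hA
      have hAc : IsMulCommutative A := hA.1
      exact (Subgroup.le_centralizer_iff_isMulCommutative.2 hAc).trans
        (Subgroup.centralizer_le (fun y hy => hle A hA hy))
  · intro A hAn hAc hmax
    exact Cfsg.Agent.Lib.Helper17.dStar_le_of_maximal_normal_abelian hS A hAn hAc hmax

end Cfsg.Agent.S3062
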