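import Cfsg.Statements.S3063
import Mathlib
import Cfsg.Agent.Lib.Helper17.Replacement2

set_option autoImplicit false
open Cfsg
open scoped commutatorElement

namespace Cfsg.Agent.S3063

open Cfsg.Agent.Lib.Helper17 in
theorem aux {S : Type*} [Group S] [Finite S] {p : ℕ} [Fact p.Prime]
    (hS : IsPGroup p S) (hmeta : IsMulCommutative ↥(commutator S)) (N₀ : Subgroup S) [N₀.Normal] :
    ∀ (n : ℕ) (A : Subgroup S), A ∈ Cfsg.maxAbelianSubgroups S → A ≤ N₀ →
      Nat.card S - Nat.card ↥(A ⊓ commutator S) = n →
      ∃ B ∈ Cfsg.maxAbelianSubgroups S, B.Normal ∧ B ≤ N₀ := by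
  intro n
  induction n using Nat.strong_induction_on with
  | _ n ih =>
    intro A hA hAN hn
    by_cases hnorm : Subgroup.normalizer (A : Set S) = ⊤
    · exact ⟨A, hA, Subgroup.normalizer_eq_top_iff.mp hnorm, hAN⟩
    · -- an element of N(N(A)) outside N(A)
      have h1 : ¬ (Subgroup.normalizer ((Subgroup.normalizer (A : Set S) : Subgroup S) : Set S) ⊓ ⊤ ≤
          Subgroup.normalizer (A : Set S)) := by
        intro h
        exact hnorm (eq_of_normalizer_inf_le _ ⊤ (hS.to_subgroup _) le_top h)
      obtain ⟨x, hx, hxT⟩ := SetLike.not_le_iff_exists.1 h1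
      have hfB : ∀ a ∈ A, ⁅x, a⁆ ∈ commutator S := by
        intro a _
        rw [commutator_def]
        exact Subgroup.commutator_mem_commutator (Subgroup.mem_top x) (Subgroup.mem_top a)
      obtain ⟨A', hA', hlt, -, hnc⟩ := replacement_core A hA (commutator S) hmeta x hxT hx.1 hfB
      have hA'N : A' ≤ N₀ := hnc.trans (Subgroup.normalClosure_le_normal hAN)
      have hcardlt : Nat.card ↥(A ⊓ commutator S) < Nat.card ↥(A' ⊓ commutator S) := by
        apply lt_of_le_of_ne (Subgroup.card_le_of_le hlt.le)
        intro h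
        exact hlt.ne (Subgroup.eq_of_le_of_card_ge hlt.le h.ge)
      have hle : Nat.card ↥(A' ⊓ commutator S) ≤ Nat.card S :=
        Subgroup.card_le_card_group _
      exact ih (Nat.card S - Nat.card ↥(A' ⊓ commutator S)) (by omega) A' hA' hA'N rfl

/-- A weak replacement Theorem for metabelian p-groups: let S be a finite p-group whose derived subgroup is abelian and A an abelian subgroup of S of largest possible order. Then the normal closure of A in S contains an abelian subgroup B of the same order as A that is normal in S. -/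
theorem result {S : Type*} [Group S] [Finite S] {p : ℕ} [Fact p.Prime]
    (hS : IsPGroup p S) (hmeta : IsMulCommutative ↥(commutator S))
    (A : Subgroup S) (hA : A ∈ Cfsg.maxAbelianSubgroups S) :
    ∃ B ∈ Cfsg.maxAbelianSubgroups S, B.Normal ∧ B ≤ Subgroup.normalClosure (A : Set S) := by
  exact aux hS hmeta (Subgroup.normalClosure (A : Set S)) _ A hA Subgroup.le_normalClosure rfl

end Cfsg.Agent.S3063
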