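import Cfsg.Statements.S3064
import Cfsg.Agent.Lib.Helper8.Conj
import Cfsg.Agent.Lib.Lead.FrobThm3

set_option autoImplicit false
open Cfsg

namespace Cfsg.Agent.S3064

universe u
open Cfsg.Agent.Lib.Helper8
open scoped Pointwise

theorem central_aux : ∀ (n : ℕ) (G : Type u) [Group G] [Finite G] (p : ℕ) [Fact p.Prime]
    (S : Sylow p G) (x : G), Nat.card G = n → x ∈ S →
    (∀ g : G, g⁻¹ * x * g ∈ S → g⁻¹ * x * g = x) →
    (∀ H : Subgroup G, (Nat.card H).Coprime p → (∀ h ∈ H, x * h * x⁻¹ ∈ H) →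
      ∀ h ∈ H, x * h = h * x) →
    ∀ g : G, x * g = g * x := by
  intro n
  induction n using Nat.strong_induction_on with
  | _ n ih =>
  intro G _ _ p _ S x hn hx hU hb
  classical
  have hpp : p.Prime := Fact.out
  -- Step 1: x is central in every proper subgroup containing it
  have step1 : ∀ H : Subgroup G, H ≠ ⊤ → x ∈ H → ∀ h ∈ H, x * h = h * x := by
    intro H hHtop hxH
    have hcard : Nat.card H < n := by
      rw [← hn]
      by_contra hc
      exact hHtop (Subgroup.eq_top_of_le_card H (not_lt.mp hc))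
    obtain ⟨T, hT⟩ := (S.2.comap_subtype (K := H)).exists_le_sylow
    have hx'T : (⟨x, hxH⟩ : H) ∈ T := hT (Subgroup.mem_subgroupOf.mpr hx)
    have hTp : IsPGroup p ((T : Subgroup H).map H.subtype) := T.2.map _
    obtain ⟨S', hS'⟩ := hTp.exists_le_sylow
    obtain ⟨g, hg⟩ := MulAction.exists_smul_eq G S S'
    have key : ∀ y : G, y ∈ (S' : Subgroup G) → g⁻¹ * y * g ∈ (S : Subgroup G) := by
      intro y hy
      rw [← hg, sylow_smul_coe, mem_map_conj] at hy
      exact hy
    have hxS' : x ∈ (S' : Subgroup G) := hS' ⟨⟨x, hxH⟩, hx'T, rfl⟩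
    have hgx : g⁻¹ * x * g = x := hU g (key x hxS')
    have hgx' : g * x * g⁻¹ = x := by
      calc g * x * g⁻¹ = g * (g⁻¹ * x * g) * g⁻¹ := by rw [hgx]
        _ = x := by group
    have hmain := ih (Nat.card H) hcard H p T ⟨x, hxH⟩ rfl hx'T ?_ ?_
    · intro h hh
      exact congrArg Subtype.val (hmain ⟨h, hh⟩)
    · intro h hmem
      have h1 : (h : G)⁻¹ * x * h ∈ (S' : Subgroup G) := hS' ⟨_, hmem, rfl⟩
      have h2 := key _ h1
      have h3 : ((h : G) * g)⁻¹ * x * ((h : G) * g) ∈ (S : Subgroup G) := by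
        have : ((h : G) * g)⁻¹ * x * ((h : G) * g) = g⁻¹ * ((h:G)⁻¹ * x * h) * g := by group
        rw [this]; exact h2
      have h4 := hU _ h3
      apply Subtype.ext
      show (h:G)⁻¹ * x * h = x
      have : (h:G)⁻¹ * x * h = g * (((h : G) * g)⁻¹ * x * ((h : G) * g)) * g⁻¹ := by group
      rw [this, h4, hgx']
    · intro K hK hinv k hk
      have h1 := hb (K.map H.subtype) ?_ ?_ k ⟨k, hk, rfl⟩
      · exact Subtype.ext h1
      · rwa [Subgroup.card_map_of_injective H.subtype_injective]
      · rintro _ ⟨k', hk', rfl⟩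
        exact ⟨_, hinv k' hk', rfl⟩
  -- Step 2: the centralizer M of x contains S
  set M : Subgroup G := Subgroup.centralizer {x} with hMdef
  have hM : ∀ g : G, g ∈ M ↔ x * g = g * x := by
    intro g
    rw [hMdef, Subgroup.mem_centralizer_iff]
    constructor
    · intro h; exact h x rfl
    · intro h y hy
      rw [Set.mem_singleton_iff.mp hy]; exact h
  have hSM : (S : Subgroup G) ≤ M := by
    intro s hs
    rw [hM]
    have h1 := hU s (S.mul_mem (S.mul_mem (S.inv_mem hs) hx) hs)
    calc x * s = s * (s⁻¹ * x * s) := by group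
      _ = s * x := by rw [h1]
  by_contra hcontra
  push Not at hcontra
  obtain ⟨g₀, hg₀⟩ := hcontra
  have hg₀M : g₀ ∉ M := fun h => hg₀ ((hM g₀).mp h)
  -- Step 3: x commutes with no other conjugate
  have step3 : ∀ g : G, x * (g⁻¹ * x * g) = (g⁻¹ * x * g) * x → g⁻¹ * x * g = x := by
    intro g hcomm
    have hyM : g⁻¹ * x * g ∈ M := (hM _).mpr hcomm
    have hyS : g⁻¹ * x * g ∈ ((g⁻¹ • S : Sylow p G) : Subgroup G) := by
      rw [sylow_smul_coe, mem_map_conj]
      have : g⁻¹⁻¹ * (g⁻¹ * x * g) * g⁻¹ = x := by group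
      rw [this]; exact hx
    obtain ⟨Q, hQ⟩ := ((g⁻¹ • S : Sylow p G).2.comap_subtype (K := M)).exists_le_sylow
    have hyQ : (⟨g⁻¹ * x * g, hyM⟩ : M) ∈ Q := hQ (Subgroup.mem_subgroupOf.mpr hyS)
    obtain ⟨m, hm⟩ := MulAction.exists_smul_eq M (S.subtype hSM) Q
    rw [← hm, ← SetLike.mem_coe, ← Sylow.coe_coe, sylow_smul_coe, SetLike.mem_coe, mem_map_conj] at hyQ
    have h1 : (m : G)⁻¹ * (g⁻¹ * x * g) * m ∈ (S : Subgroup G) := by
      have := hyQ
      rw [Sylow.coe_subtype, Subgroup.mem_subgroupOf] at this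
      simpa using this
    have h2 : (g * m)⁻¹ * x * (g * m) ∈ (S : Subgroup G) := by
      have : (g * (m:G))⁻¹ * x * (g * m) = (m : G)⁻¹ * (g⁻¹ * x * g) * m := by group
      rw [this]; exact h1
    have h3 := hU _ h2
    have hmx : x * (m:G) = m * x := (hM _).mp m.2
    calc g⁻¹ * x * g = (m:G) * ((g * (m:G))⁻¹ * x * (g * m)) * (m:G)⁻¹ := by group
      _ = (m:G) * x * (m:G)⁻¹ := by rw [h3]
      _ = x := by rw [← hmx]; group
  -- Step 4: x and a conjugate by g ∉ M generate G
  have step4 : ∀ g : G, g ∉ M → Subgroup.closure {x, g⁻¹ * x * g} = ⊤ := by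
    intro g hg
    by_contra hne
    have hxH : x ∈ Subgroup.closure {x, g⁻¹ * x * g} :=
      Subgroup.subset_closure (Set.mem_insert _ _)
    have hyH : g⁻¹ * x * g ∈ Subgroup.closure {x, g⁻¹ * x * g} :=
      Subgroup.subset_closure (Set.mem_insert_of_mem _ rfl)
    have h1 := step1 _ hne hxH _ hyH
    have h2 := step3 g h1
    apply hg
    rw [hM]
    calc x * g = g * (g⁻¹ * x * g) := by group
      _ = g * x := by rw [h2]
  -- Step 5
  have step5 : ∀ g : G, g ∉ M → ∀ u ∈ M, g⁻¹ * u * g ∈ M → u ∈ Subgroup.center G := by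
    intro g hg u hu hgu
    have hg' : g⁻¹ ∉ M := fun h => hg (by simpa using M.inv_mem h)
    have h4 := step4 g⁻¹ hg'
    rw [inv_inv] at h4
    have hle : Subgroup.closure {x, g * x * g⁻¹} ≤ Subgroup.centralizer {u} := by
      rw [Subgroup.closure_le]
      intro y hy
      rw [SetLike.mem_coe, Subgroup.mem_centralizer_iff]
      intro v hv
      rw [Set.mem_singleton_iff.mp hv]
      rcases hy with rfl | hy
      · exact ((hM u).mp hu).symm
      · rw [Set.mem_singleton_iff.mp hy]
        have h5 := (hM _).mp hgu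
        calc u * (g * x * g⁻¹) = g * ((g⁻¹ * u * g) * x) * g⁻¹ := by group
          _ = g * (x * (g⁻¹ * u * g)) * g⁻¹ := by rw [h5]
          _ = g * x * g⁻¹ * u := by group
    rw [h4] at hle
    rw [Subgroup.mem_center_iff]
    intro v
    have := hle (Subgroup.mem_top v)
    rw [Subgroup.mem_centralizer_iff] at this
    exact (this u rfl).symm
  -- Step 6: quotient by the center
  have hZM : Subgroup.center G ≤ M := by
    intro z hz
    rw [hM]
    exact Subgroup.mem_center_iff.mp hz x
  have hxZ : x ∉ Subgroup.center G := by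
    intro h
    exact hg₀ ((Subgroup.mem_center_iff.mp h g₀).symm)
  set Mb : Subgroup (G ⧸ Subgroup.center G) := M.map (QuotientGroup.mk' (Subgroup.center G)) with hMb
  have hmemMb : ∀ g : G, (QuotientGroup.mk g : G ⧸ Subgroup.center G) ∈ Mb ↔ g ∈ M := by
    intro g
    constructor
    · rintro ⟨m, hm, hmg⟩
      have h1 : m⁻¹ * g ∈ Subgroup.center G := QuotientGroup.eq.mp hmg
      have : g = m * (m⁻¹ * g) := by group
      rw [this]
      exact M.mul_mem hm (hZM h1)
    · intro hg
      exact ⟨g, hg, rfl⟩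
  have hFrob : Cfsg.IsFrobeniusComplement Mb := by
    refine ⟨?_, ?_, ?_⟩
    · intro hbot
      have h1 : (QuotientGroup.mk x : G ⧸ Subgroup.center G) ∈ Mb :=
        (hmemMb x).mpr ((hM x).mpr rfl)
      rw [hbot, Subgroup.mem_bot] at h1
      exact hxZ ((QuotientGroup.eq_one_iff x).mp h1)
    · intro htop
      have h1 : (QuotientGroup.mk g₀ : G ⧸ Subgroup.center G) ∈ Mb := by
        rw [htop]; exact Subgroup.mem_top _
      exact hg₀M ((hmemMb g₀).mp h1)
    · intro gb hgb
      obtain ⟨g, rfl⟩ := QuotientGroup.mk_surjective gb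
      have hgM : g ∉ M := fun h => hgb ((hmemMb g).mpr h)
      rw [eq_bot_iff]
      rintro ub ⟨h1, h2⟩
      obtain ⟨u, rfl⟩ := QuotientGroup.mk_surjective ub
      have huM : u ∈ M := (hmemMb u).mp h1
      have h2' : (QuotientGroup.mk u : G ⧸ Subgroup.center G) ∈
          MulAut.conj (QuotientGroup.mk g : G ⧸ Subgroup.center G) • Mb := h2
      rw [Subgroup.mem_pointwise_smul_iff_inv_smul_mem] at h2'
      have h3 : (QuotientGroup.mk (g⁻¹ * u * g) : G ⧸ Subgroup.center G) ∈ Mb := by
        simpa [MulAut.smul_def, MulAut.conj_inv_apply] using h2'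
      have h4 := step5 g hgM u huM ((hmemMb _).mp h3)
      rw [Subgroup.mem_bot]
      exact (QuotientGroup.eq_one_iff u).mpr h4
  -- Step 7: Frobenius' theorem
  obtain ⟨Nb, -, hNn, hcompl⟩ := Cfsg.Agent.CharLib.frobenius_kernel_normal_complement Mb hFrob
  have hNcop : (Nat.card Nb).Coprime p := by
    have h1 : Mb.index = Nat.card Nb := hcompl.index_eq_card
    have h2 : Mb.index = M.index := by
      rw [hMb, Subgroup.index_map, QuotientGroup.ker_mk', sup_eq_left.mpr hZM,
        MonoidHom.range_eq_top.mpr (QuotientGroup.mk'_surjective _), Subgroup.index_top, mul_one]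
    have h3 : M.index ∣ (S : Subgroup G).index := Subgroup.index_dvd_of_le hSM
    have h4 : ¬ p ∣ (S : Subgroup G).index := S.not_dvd_index
    rw [← h1, h2]
    exact ((Nat.Prime.coprime_iff_not_dvd hpp).mpr (fun h => h4 (h.trans h3))).symm
  -- Step 8: the preimage F of the kernel is centralized by x
  set F : Subgroup G := Nb.comap (QuotientGroup.mk' (Subgroup.center G)) with hF
  have hFn : F.Normal := hNn.comap _
  obtain ⟨P⟩ : Nonempty (Sylow p F) := inferInstance
  have hPZ : ∀ u : F, u ∈ P → (u : G) ∈ Subgroup.center G := by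
    intro u hu
    obtain ⟨k, hk⟩ := P.2 ⟨u, hu⟩
    have hk' : (u : G) ^ p ^ k = 1 := by
      have := congrArg (fun z : P => ((z : F) : G)) hk
      simpa using this
    have hmem : (QuotientGroup.mk (u : G) : G ⧸ Subgroup.center G) ∈ Nb := u.2
    have h1 : orderOf (QuotientGroup.mk (u : G) : G ⧸ Subgroup.center G) ∣ p ^ k := by
      apply orderOf_dvd_of_pow_eq_one
      rw [← QuotientGroup.mk_pow, hk']; rfl
    have h2 : orderOf (QuotientGroup.mk (u : G) : G ⧸ Subgroup.center G) ∣ Nat.card Nb := by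
      have := orderOf_dvd_natCard (⟨_, hmem⟩ : Nb)
      rwa [Subgroup.orderOf_mk] at this
    have h3 : orderOf (QuotientGroup.mk (u : G) : G ⧸ Subgroup.center G) = 1 :=
      Nat.Coprime.eq_one_of_dvd (Nat.Coprime.coprime_dvd_left h2 (hNcop.pow_right k)) h1
    exact (QuotientGroup.eq_one_iff _).mp (orderOf_eq_one_iff.mp h3)
  have hP : Subgroup.normalizer ((P : Subgroup F) : Set F) ≤ Subgroup.centralizer ((P : Subgroup F) : Set F) := by
    intro f _
    rw [Subgroup.mem_centralizer_iff]
    intro u hu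
    apply Subtype.ext
    show (u : G) * f = f * u
    exact (Subgroup.mem_center_iff.mp (hPZ u hu) f).symm
  have hK := MonoidHom.ker_transferSylow_isComplement' P hP
  set K : Subgroup F := (MonoidHom.transferSylow P hP).ker with hKdef
  have hKcop : (Nat.card K).Coprime p := by
    have h1 : (P : Subgroup F).index = Nat.card K := hK.index_eq_card
    rw [← h1]
    exact ((Nat.Prime.coprime_iff_not_dvd hpp).mpr P.not_dvd_index).symm
  have hKx : ∀ h ∈ K.map F.subtype, x * h = h * x := by
    apply hb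
    · rwa [Subgroup.card_map_of_injective F.subtype_injective]
    · rintro _ ⟨k, hk, rfl⟩
      have hyF : x * (k : G) * x⁻¹ ∈ F := hFn.conj_mem k.1 k.2 x
      refine ⟨⟨_, hyF⟩, ?_, rfl⟩
      show (⟨x * (k : G) * x⁻¹, hyF⟩ : F) ∈ (MonoidHom.transferSylow P hP).ker
      rw [MonoidHom.mem_ker]
      set φ := MonoidHom.transferSylow P hP
      set y : F := ⟨x * (k : G) * x⁻¹, hyF⟩ with hy
      have ho1 : orderOf (φ y) ∣ orderOf y := orderOf_map_dvd φ y
      have ho2 : orderOf y = orderOf k := by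
        rw [← Subgroup.orderOf_coe, ← Subgroup.orderOf_coe k]
        exact (MulAut.conj x).orderOf_eq (k : G)
      have ho3 : orderOf k ∣ Nat.card K := by
        have := orderOf_dvd_natCard (⟨k, hk⟩ : K)
        rwa [Subgroup.orderOf_mk] at this
      obtain ⟨j, hj⟩ := P.2 (φ y)
      have ho4 : orderOf (φ y) ∣ p ^ j := orderOf_dvd_of_pow_eq_one hj
      have ho5 : orderOf (φ y) = 1 := by
        rw [ho2] at ho1
        exact Nat.Coprime.eq_one_of_dvd
          (Nat.Coprime.coprime_dvd_left (ho1.trans ho3) (hKcop.pow_right j)) ho4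
      exact orderOf_eq_one_iff.mp ho5
  have hFM : F ≤ M := by
    intro f hf
    rw [hM]
    obtain ⟨⟨k, u⟩, hku, -⟩ := (Subgroup.isComplement'_def.mp hK).existsUnique (⟨f, hf⟩ : F)
    have hfe : f = ((k : F) : G) * ((u : F) : G) := by
      have := congrArg Subtype.val hku
      simpa using this.symm
    have h1 : x * ((k : F) : G) = ((k : F) : G) * x := hKx _ ⟨k, k.2, rfl⟩
    have h2 : x * ((u : F) : G) = ((u : F) : G) * x :=
      Subgroup.mem_center_iff.mp (hPZ u u.2) x
    rw [hfe, ← mul_assoc, h1, mul_assoc, h2, mul_assoc]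
  have hNM : Nb ≤ Mb := by
    intro nb hnb
    obtain ⟨f, rfl⟩ := QuotientGroup.mk_surjective nb
    exact (hmemMb f).mpr (hFM hnb)
  have hNbot : Nb = ⊥ := by
    have := hcompl.disjoint
    rw [disjoint_iff, inf_eq_left.mpr hNM] at this
    exact this
  have := hcompl.sup_eq_top
  rw [hNbot, bot_sup_eq] at this
  exact hFrob.2.1 this

/-- Let S be a Sylow p-subgroup of the finite group G and x an element of S such that (i) x is the only G-conjugate of x lying in S, and (ii) x centralizes every subgroup of order prime to p that it normalizes. Then x lies in the centre of G. -/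
theorem result {G : Type*} [Group G] [Finite G] {p : ℕ} [Fact p.Prime]
    (S : Sylow p G) (x : G) (hx : x ∈ S)
    (hU : ∀ g : G, g⁻¹ * x * g ∈ S → g⁻¹ * x * g = x)
    (hb : ∀ H : Subgroup G, (Nat.card H).Coprime p → (∀ h ∈ H, x * h * x⁻¹ ∈ H) → ∀ h ∈ H, x * h = h * x) :
    x ∈ Subgroup.center G := by
  rw [Subgroup.mem_center_iff]
  intro g
  exact (central_aux (Nat.card G) G p S x rfl hx hU hb g).symm

end Cfsg.Agent.S3064
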