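import Cfsg.Statements.S3073
-- import your own Cfsg.Agent.* helpers here
import Cfsg.Agent.Lib.Helper29.CFunC
import Cfsg.Agent.Lib.Helper29.Frobenius
import Cfsg.Agent.Lib.Helper12.PComplement

set_option autoImplicit false
universe u
open Cfsg

namespace Cfsg.Agent.S3073

open Cfsg.Agent.Lib.Helper29.CFun in
theorem normalizer_le_normalizer_kIn {G : Type*} [Group G] (P : Subgroup G) :
    Subgroup.normalizer (P : Set G) ≤ Subgroup.normalizer ((kIn P : Subgroup G) : Set G) := by
  intro t ht
  apply mem_normalizer_of_map_conj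
  rw [kIn_map _ (MulAut.conj t).injective, map_conj_of_mem_normalizer P t ht]

open Cfsg.Agent.Lib.Helper29.CFun in
theorem npc_normalizer {G : Type u} [Group G] [Finite G] {p : ℕ} [Fact p.Prime] (P : Sylow p G)
    (h : ∀ g ∈ Subgroup.normalizer ((kIn (P : Subgroup G) : Subgroup G) : Set G),
      (orderOf g).Coprime p → g ∈ Subgroup.centralizer ((kIn (P : Subgroup G) : Subgroup G) : Set G)) :
    Cfsg.HasNormalPComplement p
      ↥(Subgroup.normalizer ((kIn (P : Subgroup G) : Subgroup G) : Set G)) := by
  have hPN : (P : Subgroup G) ≤ Subgroup.normalizer ((kIn (P : Subgroup G) : Subgroup G) : Set G) :=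
    Subgroup.le_normalizer.trans (normalizer_le_normalizer_kIn _)
  have hKN : kIn (P : Subgroup G) ≤
      Subgroup.normalizer ((kIn (P : Subgroup G) : Subgroup G) : Set G) := (kIn_le _).trans hPN
  have : ((kIn (P : Subgroup G)).subgroupOf
      (Subgroup.normalizer ((kIn (P : Subgroup G) : Subgroup G) : Set G))).Normal :=
    Subgroup.normal_in_normalizer
  apply Cfsg.Agent.Lib.Helper12.hasNormalPComplement_of_self_centralizing (P.subtype hPN)
    ((kIn (P : Subgroup G)).subgroupOf
      (Subgroup.normalizer ((kIn (P : Subgroup G) : Subgroup G) : Set G)))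
  · intro x hx
    obtain ⟨hxP, hxC⟩ := Subgroup.mem_inf.mp hx
    rw [Sylow.coe_subtype, Subgroup.mem_subgroupOf] at hxP
    rw [Subgroup.mem_subgroupOf]
    apply kIn_centric P.2
    refine ⟨hxP, Subgroup.mem_centralizer_iff.mpr ?_⟩
    intro k hk
    have := Subgroup.mem_centralizer_iff.mp hxC ⟨k, hKN hk⟩ (by rw [SetLike.mem_coe, Subgroup.mem_subgroupOf]; exact hk)
    exact congrArg Subtype.val this
  · intro g hg
    have hg' : (orderOf (g : G)).Coprime p := by rwa [Subgroup.orderOf_coe]
    have h1 := h g.1 g.2 hg'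
    rw [Subgroup.mem_centralizer_iff]
    intro k hk
    rw [SetLike.mem_coe, Subgroup.mem_subgroupOf] at hk
    apply Subtype.ext
    exact Subgroup.mem_centralizer_iff.mp h1 _ hk


/-- For an odd prime p, every finite p-group S has a characteristic subgroup K with C_S(K) ≤ K such that, whenever S is (isomorphic to) a Sylow p-subgroup of a finite group G, G has a normal p-complement if and only if N_G(K)/C_G(K) is a p-group, i.e. every element of N_G(K) of order prime to p centralizes K (K transported into G along the isomorphism). -/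
theorem result (p : ℕ) [Fact p.Prime] (hp : p ≠ 2)
    (S : Type u) [Group S] [Finite S] (hS : IsPGroup p S) :
    ∃ K : Subgroup S, K.Characteristic ∧ Subgroup.centralizer (K : Set S) ≤ K ∧
      ∀ (G : Type u) [Group G] [Finite G] (P : Sylow p G) (e : ↥(P : Subgroup G) ≃* S),
        Cfsg.HasNormalPComplement p G ↔
          ∀ g ∈ Subgroup.normalizer (((K.comap (e : ↥(P : Subgroup G) →* S)).map (P : Subgroup G).subtype : Subgroup G) : Set G),
            (orderOf g).Coprime p →
              g ∈ Subgroup.centralizer (((K.comap (e : ↥(P : Subgroup G) →* S)).map (P : Subgroup G).subtype : Subgroup G) : Set G) := by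
  refine ⟨Cfsg.Agent.Lib.Helper29.CFun.kFun S, Cfsg.Agent.Lib.Helper29.CFun.kFun_characteristic S,
    Cfsg.Agent.Lib.Helper29.CFun.kFun_centric S hS, ?_⟩
  intro G _ _ P e
  have hK : ((Cfsg.Agent.Lib.Helper29.CFun.kFun S).comap (e : ↥(P : Subgroup G) →* S)).map
      (P : Subgroup G).subtype = Cfsg.Agent.Lib.Helper29.CFun.kIn (P : Subgroup G) := by
    have h1 : (Cfsg.Agent.Lib.Helper29.CFun.kFun ↥(P : Subgroup G)).map e.toMonoidHom =
        Cfsg.Agent.Lib.Helper29.CFun.kFun S := Cfsg.Agent.Lib.Helper29.CFun.kFun_map_equiv e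
    have h2 : (Cfsg.Agent.Lib.Helper29.CFun.kFun S).comap (e : ↥(P : Subgroup G) →* S) =
        Cfsg.Agent.Lib.Helper29.CFun.kFun ↥(P : Subgroup G) := by
      rw [← h1]
      exact Subgroup.comap_map_eq_self_of_injective e.injective _
    rw [h2]
    exact Cfsg.Agent.Lib.Helper29.CFun.inducedFunctor_kFun (P : Subgroup G)
  rw [hK]
  constructor
  · rintro ⟨P', N, hNn, hN⟩ g hg hcop
    exact Cfsg.Agent.Lib.Helper29.frobCond_of_normal_complement P' N hN _
      ((P.2.to_le (Cfsg.Agent.Lib.Helper29.CFun.kIn_le _))) g hg hcop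
  · intro h
    exact Cfsg.Agent.Lib.Helper29.CFun.npc_of_normalizer_kIn hp P (npc_normalizer P h)

end Cfsg.Agent.S3073
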