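import Cfsg.Statements.S3074
import Mathlib
import Cfsg.Agent.Lib.Helper20.QdSylow

set_option autoImplicit false
open Cfsg

namespace Cfsg.Agent.S3074

/-- Let p be an odd prime. A Sylow p-subgroup of Qd(p), the split extension of an elementary abelian group of order p² by SL₂(p) acting naturally, is extraspecial of order p³ and exponent p. -/
theorem result (p : ℕ) [Fact p.Prime] (hp : p ≠ 2) (P : Sylow p ↥(Cfsg.qd p)) :
    Cfsg.IsExtraspecial p ↥P ∧ Nat.card P = p ^ 3 ∧ Monoid.exponent ↥P = p := by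
  obtain ⟨e⟩ := Cfsg.Agent.Lib.Helper20.Qd.sylow_equiv p P
  have hexp : ∀ x : ↥P, x ^ p = 1 := by
    intro x
    obtain ⟨y, rfl⟩ := e.surjective x
    rw [← map_pow, Cfsg.Agent.Lib.Helper4.HeisG.pow_p_zmod p hp, map_one]
  have hcard : Nat.card P = p ^ 3 :=
    (Nat.card_congr e.toEquiv).symm.trans (Cfsg.Agent.Lib.Helper4.HeisG.card_zmod p)
  refine ⟨?_, hcard, ?_⟩
  · apply Cfsg.Agent.Lib.Helper4.isExtraspecial_of_exponent hexp
    · exact Cfsg.Agent.Lib.Helper4.commutator_eq_center_of_mulEquiv e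
        (Cfsg.Agent.Lib.Helper4.HeisG.commutator_eq_center le_rfl)
    · rw [← Nat.card_congr (Subgroup.centerCongr e).toEquiv]
      exact Cfsg.Agent.Lib.Helper4.HeisG.card_center_zmod p
  · have hp' : p.Prime := Fact.out
    have hdvd : Monoid.exponent ↥P ∣ p := Monoid.exponent_dvd_of_forall_pow_eq_one hexp
    rcases (Nat.dvd_prime hp').mp hdvd with h | h
    · exfalso
      have hsub : Subsingleton ↥P := Monoid.exp_eq_one_iff.mp h
      have h1 : Nat.card ↥P = 1 := Nat.card_eq_one_iff_unique.mpr ⟨hsub, ⟨1⟩⟩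
      have h2 : Nat.card ↥P = p ^ 3 := hcard
      rw [h1] at h2
      have : 1 < p ^ 3 := Nat.one_lt_pow (by norm_num) hp'.one_lt
      omega
    · exact h

end Cfsg.Agent.S3074
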