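import Cfsg.Statements.S3075
import Mathlib
import Cfsg.Agent.S3025
import Cfsg.Agent.Lib.Helper17.ChermakDelgado
import Cfsg.Agent.Lib.Helper17.Card
import Cfsg.Agent.Lib.Helper17.Timmesfeld

set_option autoImplicit false
set_option linter.style.haveILetI false
open Cfsg
open scoped commutatorElement

namespace Cfsg.Agent.S3075

theorem two_ne_zero_of_card {F : Type*} [Field F] [Fintype F] {p : ℕ} [Fact p.Prime] (hp : p ≠ 2)
    (hF : Fintype.card F = p) : (2 : F) ≠ 0 := by
  have hpp : p.Prime := Fact.out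
  obtain ⟨n, hr, hcard⟩ := FiniteField.card F (ringChar F)
  apply Ring.two_ne_zero
  intro h2
  rw [hF, h2] at hcard
  have : 2 ∣ p := by rw [hcard]; exact dvd_pow_self 2 n.ne_zero
  exact hp ((Nat.prime_dvd_prime_iff_eq Nat.prime_two hpp).mp this).symm

theorem neg_one_ne_one {F : Type*} [Field F] (h2 : (2 : F) ≠ 0) :
    (-1 : Matrix.SpecialLinearGroup (Fin 2) F) ≠ 1 := by
  intro h
  have h1 := congrArg (fun g : Matrix.SpecialLinearGroup (Fin 2) F => (g : Matrix (Fin 2) (Fin 2) F) 0 0) h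
  simp only [Matrix.SpecialLinearGroup.coe_neg, Matrix.SpecialLinearGroup.coe_one, Matrix.neg_apply,
    Matrix.one_apply_eq] at h1
  apply h2
  have : (2 : F) = 1 - (-1) := by ring
  rw [this, h1]; ring

theorem sl2_not_comm (F : Type*) [Field F] :
    ∃ g h : Matrix.SpecialLinearGroup (Fin 2) F, g * h ≠ h * g := by
  refine ⟨⟨!![1, 1; 0, 1], by simp [Matrix.det_fin_two]⟩, ⟨!![1, 0; 1, 1], by simp [Matrix.det_fin_two]⟩, ?_⟩
  intro h
  have h1 := congrArg (fun g : Matrix.SpecialLinearGroup (Fin 2) F => (g : Matrix (Fin 2) (Fin 2) F) 0 0) h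
  change (!![1, 1; 0, 1] * !![1, 0; 1, 1] : Matrix (Fin 2) (Fin 2) F) 0 0 =
    (!![1, 0; 1, 1] * !![1, 1; 0, 1] : Matrix (Fin 2) (Fin 2) F) 0 0 at h1
  simp [Matrix.mul_apply, Fin.sum_univ_two] at h1

/-- the derived subgroup centralizes every normal subgroup of prime order -/
theorem commutator_le_centralizer_of_prime {N : Type*} [Group N] [Finite N] (D : Subgroup N) [D.Normal]
    (hD : (Nat.card ↥D).Prime) : commutator N ≤ Subgroup.centralizer (D : Set N) := by
  haveI : Fact (Nat.card ↥D).Prime := ⟨hD⟩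
  haveI : IsCyclic ↥D := isCyclic_of_prime_card (p := Nat.card ↥D) rfl
  rw [← Cfsg.Agent.S3025.ker_conjNormal D, commutator_def, Subgroup.commutator_le]
  intro a _ b _
  rw [MonoidHom.mem_ker, map_commutatorElement, commutatorElement_eq_one_iff_mul_comm]
  apply (IsCyclic.mulAutMulEquiv ↥D).injective
  rw [map_mul, map_mul, mul_comm]

/-- the splitting, in elementwise form -/
theorem split_aux {N : Type*} [Group N] [Finite N] {p : ℕ} [Fact p.Prime] (hp : p ≠ 2)
    (A : Subgroup N) [A.Normal] (hAab : ∀ a ∈ A, ∀ b ∈ A, a * b = b * a)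
    (hApow : ∀ a ∈ A, a ^ p = 1) (t : N) (ht2 : t * t = 1)
    (hcentral : ∀ n : N, n * t * n⁻¹ * t⁻¹ ∈ A)
    (hC : A ⊓ Subgroup.centralizer ({t} : Set N) = ⊥) :
    A ⊔ Subgroup.centralizer ({t} : Set N) = ⊤ := by
  have hpp : p.Prime := Fact.out
  have hodd : Odd p := hpp.odd_of_ne_two hp
  have htinv : t⁻¹ = t := inv_eq_of_mul_eq_one_left ht2
  -- t inverts A
  have hinv : ∀ a ∈ A, t * a * t⁻¹ = a⁻¹ := by
    intro a ha
    have hta : t * a * t⁻¹ ∈ A := ‹A.Normal›.conj_mem a ha t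
    have hmem : a * (t * a * t⁻¹) ∈ A ⊓ Subgroup.centralizer ({t} : Set N) := by
      refine Subgroup.mem_inf.mpr ⟨A.mul_mem ha hta, ?_⟩
      rw [Subgroup.mem_centralizer_singleton_iff]
      have h1 : a * (t * a * t⁻¹) = (t * a * t⁻¹) * a := hAab a ha _ hta
      rw [htinv] at h1 ⊢
      calc a * (t * a * t) * t = a * t * a * (t * t) := by group
        _ = a * t * a := by rw [ht2, mul_one]
        _ = (t * t) * a * t * a := by rw [ht2, one_mul]
        _ = t * ((t * a * t) * a) := by group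
        _ = t * (a * (t * a * t)) := by rw [← h1]
    rw [hC, Subgroup.mem_bot] at hmem
    exact (inv_eq_of_mul_eq_one_right hmem).symm
  rw [eq_top_iff]
  intro n _
  obtain ⟨k, hk⟩ := hodd
  have hc : n⁻¹ * t * n * t⁻¹ ∈ A := by
    have := hcentral n⁻¹
    rwa [inv_inv] at this
  obtain ⟨c, hcdef⟩ : ∃ c, c = n⁻¹ * t * n * t⁻¹ := ⟨_, rfl⟩
  rw [← hcdef] at hc
  obtain ⟨b, hbdef⟩ : ∃ b, b = c ^ (k + 1) := ⟨_, rfl⟩
  have hb : b ∈ A := by rw [hbdef]; exact A.pow_mem hc _
  have hbb : b * b = c := by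
    rw [hbdef, ← pow_add]
    have : k + 1 + (k + 1) = p + 1 := by omega
    rw [this, pow_succ, hApow c hc, one_mul]
  have hu : n * b ∈ Subgroup.centralizer ({t} : Set N) := by
    rw [Subgroup.mem_centralizer_singleton_iff]
    have h1 : n⁻¹ * t * n = c * t := by rw [hcdef]; group
    have h2 : t * b * t⁻¹ = b⁻¹ := hinv b hb
    have h3 : t * b = b⁻¹ * t := by
      calc t * b = (t * b * t⁻¹) * t := by group
        _ = b⁻¹ * t := by rw [h2]
    have h4 : c * b⁻¹ = b := by rw [← hbb]; group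
    calc n * b * t = n * (b * t) := by group
      _ = n * ((c * b⁻¹) * t) := by rw [h4]
      _ = n * (c * (b⁻¹ * t)) := by group
      _ = n * (c * (t * b)) := by rw [h3]
      _ = n * ((c * t) * b) := by group
      _ = n * ((n⁻¹ * t * n) * b) := by rw [h1]
      _ = t * (n * b) := by group
  have : n = (n * b) * b⁻¹ := by group
  rw [this]
  exact Subgroup.mul_mem _ (Subgroup.mem_sup_right hu) (Subgroup.mem_sup_left (A.inv_mem hb))

/-- the fixed points of `t` on `A` are trivial -/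
theorem fixed_eq_bot {N : Type*} [Group N] [Finite N] {p : ℕ} [Fact p.Prime] (hp : p ≠ 2)
    (A : Subgroup N) [hAn : A.Normal] (hAab : ∀ a ∈ A, ∀ b ∈ A, a * b = b * a)
    (hAcard : Nat.card A = p ^ 2) (hApow : ∀ a ∈ A, a ^ p = 1)
    (hAself : Subgroup.centralizer (A : Set N) = A) (t : N) (ht2 : t * t = 1) (htA : t ∉ A)
    (hcentral : ∀ n : N, n * t * n⁻¹ * t⁻¹ ∈ A) (hnc : ¬ commutator N ≤ A) :
    A ⊓ Subgroup.centralizer ({t} : Set N) = ⊥ := by
  have hpp : p.Prime := Fact.out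
  have hodd : Odd p := hpp.odd_of_ne_two hp
  have htinv : t⁻¹ = t := inv_eq_of_mul_eq_one_left ht2
  by_contra hCne
  obtain ⟨C, hCdef⟩ : ∃ C : Subgroup N, C = A ⊓ Subgroup.centralizer ({t} : Set N) := ⟨_, rfl⟩
  rw [← hCdef] at hCne
  have hCA : C ≤ A := by rw [hCdef]; exact inf_le_left
  have hCt : ∀ a ∈ C, a * t = t * a := by
    intro a ha
    rw [hCdef] at ha
    exact Subgroup.mem_centralizer_singleton_iff.mp ha.2
  -- n⁻¹ t n = c t with c ∈ A
  have hct : ∀ n : N, ∃ c ∈ A, n⁻¹ * t * n = c * t := by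
    intro n
    refine ⟨n⁻¹ * t * n * t⁻¹, ?_, by group⟩
    have := hcentral n⁻¹
    rwa [inv_inv] at this
  -- C is normal
  have hCn : C.Normal := by
    constructor
    intro a ha n
    have haA : a ∈ A := hCA ha
    rw [hCdef]
    refine Subgroup.mem_inf.mpr ⟨hAn.conj_mem a haA n, ?_⟩
    rw [Subgroup.mem_centralizer_singleton_iff]
    obtain ⟨c, hc, hcn⟩ := hct n
    have h1 := hCt a ha
    calc n * a * n⁻¹ * t = n * (a * (n⁻¹ * t * n)) * n⁻¹ := by group
      _ = n * (a * (c * t)) * n⁻¹ := by rw [hcn]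
      _ = n * ((a * c) * t) * n⁻¹ := by group
      _ = n * ((c * a) * t) * n⁻¹ := by rw [hAab a haA c hc]
      _ = n * (c * (a * t)) * n⁻¹ := by group
      _ = n * (c * (t * a)) * n⁻¹ := by rw [h1]
      _ = n * ((c * t) * a) * n⁻¹ := by group
      _ = n * ((n⁻¹ * t * n) * a) * n⁻¹ := by rw [hcn]
      _ = t * (n * a * n⁻¹) := by group
  -- the inverted subgroup
  let I : Subgroup N :=
    { carrier := {a | a ∈ A ∧ t * a * t⁻¹ = a⁻¹}
      one_mem' := ⟨A.one_mem, by group⟩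
      mul_mem' := by
        rintro a b ⟨ha, hta⟩ ⟨hb, htb⟩
        refine ⟨A.mul_mem ha hb, ?_⟩
        have : t * (a * b) * t⁻¹ = (t * a * t⁻¹) * (t * b * t⁻¹) := by group
        rw [this, hta, htb, hAab a ha b hb]
        group
      inv_mem' := by
        rintro a ⟨ha, hta⟩
        refine ⟨A.inv_mem ha, ?_⟩
        have : t * a⁻¹ * t⁻¹ = (t * a * t⁻¹)⁻¹ := by group
        rw [this, hta] }
  have hIA : I ≤ A := fun a ha => ha.1
  have hIt : ∀ a ∈ I, t * a * t⁻¹ = a⁻¹ := fun a ha => ha.2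
  have hIn : I.Normal := by
    constructor
    intro a ha n
    have haA : a ∈ A := hIA ha
    refine ⟨hAn.conj_mem a haA n, ?_⟩
    obtain ⟨c, hc, hcn⟩ := hct n
    have h1 := hIt a ha
    calc t * (n * a * n⁻¹) * t⁻¹ = n * ((n⁻¹ * t * n) * a * (n⁻¹ * t * n)⁻¹) * n⁻¹ := by group
      _ = n * ((c * t) * a * (c * t)⁻¹) * n⁻¹ := by rw [hcn]
      _ = n * (c * (t * a * t⁻¹) * c⁻¹) * n⁻¹ := by group
      _ = n * (c * a⁻¹ * c⁻¹) * n⁻¹ := by rw [h1]
      _ = n * (a⁻¹ * c * c⁻¹) * n⁻¹ := by rw [hAab c hc a⁻¹ (A.inv_mem haA)]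
      _ = (n * a * n⁻¹)⁻¹ := by group
  -- C ⊓ I = ⊥
  have hCI : C ⊓ I = ⊥ := by
    rw [eq_bot_iff]
    intro x hx
    rw [Subgroup.mem_bot]
    have h1 := hCt x hx.1
    have h2 := hIt x hx.2
    have h3 : x⁻¹ = x := by
      calc x⁻¹ = t * x * t⁻¹ := h2.symm
        _ = (x * t) * t⁻¹ := by rw [h1]
        _ = x := by group
    have hx2 : x * x = 1 := by
      nth_rewrite 1 [← h3]
      exact inv_mul_cancel x
    obtain ⟨k, hk⟩ := hodd
    have h4 := hApow x (hCA hx.1)
    rw [hk, pow_succ, pow_mul, pow_two, hx2, one_pow, one_mul] at h4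
    exact h4
  -- counting: |A| ≤ |C| |I|
  have hcount : Nat.card ↥A * Nat.card ↥(⊥ : Subgroup N) ≤ Nat.card ↥C * Nat.card ↥I := by
    apply Lib.Helper17.card_mul_le_of_fibres A C I ⊥ hCA bot_le (fun a => a * (t * a * t⁻¹)⁻¹)
    · intro a ha
      have hta : t * a * t⁻¹ ∈ A := hAn.conj_mem a ha t
      refine ⟨A.mul_mem ha (A.inv_mem hta), ?_⟩
      have e1 : t * (a * (t * a * t⁻¹)⁻¹) * t⁻¹ = (t * a * t⁻¹) * (t * t) * a⁻¹ * (t * t)⁻¹ := by group
      rw [e1, ht2]
      group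
    · intro a ha b hb hab
      rw [Subgroup.mem_bot] at hab
      have hab' : a * (t * a * t⁻¹)⁻¹ = b * (t * b * t⁻¹)⁻¹ := by
        have := eq_of_inv_mul_eq_one hab
        exact this
      rw [hCdef]
      refine Subgroup.mem_inf.mpr ⟨A.mul_mem (A.inv_mem ha) hb, ?_⟩
      rw [Subgroup.mem_centralizer_singleton_iff]
      have e2 : a⁻¹ * b = t * (a⁻¹ * b) * t⁻¹ := by
        calc a⁻¹ * b = a⁻¹ * (b * (t * b * t⁻¹)⁻¹) * (t * b * t⁻¹) := by group
          _ = a⁻¹ * (a * (t * a * t⁻¹)⁻¹) * (t * b * t⁻¹) := by rw [hab']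
          _ = t * (a⁻¹ * b) * t⁻¹ := by group
      calc a⁻¹ * b * t = (t * (a⁻¹ * b) * t⁻¹) * t := by rw [← e2]
        _ = t * (a⁻¹ * b) := by group
  rw [Subgroup.card_bot, mul_one, hAcard] at hcount
  -- C ≠ A
  have hCneA : C ≠ A := by
    intro h
    apply htA
    rw [← hAself, Subgroup.mem_centralizer_iff]
    intro a ha
    rw [← h] at ha
    exact hCt a ha
  have hCcard_lt : Nat.card ↥C < p ^ 2 := by
    by_contra hge
    push Not at hge
    exact hCneA (Subgroup.eq_of_le_of_card_ge hCA (by rw [hAcard]; exact hge))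
  have hCcard : Nat.card ↥C = p := by
    have hdvd : Nat.card ↥C ∣ p ^ 2 := by rw [← hAcard]; exact Subgroup.card_dvd_of_le hCA
    obtain ⟨k, hk2, hk⟩ := (Nat.dvd_prime_pow hpp).mp hdvd
    interval_cases k
    · exfalso; apply hCne
      rw [pow_zero] at hk
      exact Subgroup.card_eq_one.mp hk
    · rw [hk, pow_one]
    · rw [hk] at hCcard_lt; exact absurd hCcard_lt (lt_irrefl _)
  -- C ⊔ I = A and |I| = p
  have hsup_le : C ⊔ I ≤ A := sup_le hCA hIA
  have h5 := Lib.Helper17.card_mul_card_le_card_sup_mul_card_inf C I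
  rw [hCI, Subgroup.card_bot, mul_one] at h5
  have h6 : Nat.card ↥(C ⊔ I) ≤ p ^ 2 := by
    rw [← hAcard]; exact Subgroup.card_le_of_le hsup_le
  have hsup : C ⊔ I = A :=
    Subgroup.eq_of_le_of_card_ge hsup_le (by rw [hAcard]; exact hcount.trans h5)
  have hIcard : Nat.card ↥I = p := by
    rw [hCcard] at hcount h5
    have h7 : p * Nat.card ↥I = p * p := by
      have : p * Nat.card ↥I ≤ p ^ 2 := h5.trans h6
      rw [pow_two] at this hcount
      exact le_antisymm this hcount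
    exact Nat.eq_of_mul_eq_mul_left hpp.pos h7
  -- the derived subgroup centralizes A
  apply hnc
  have h8 : commutator N ≤ Subgroup.centralizer (C : Set N) :=
    commutator_le_centralizer_of_prime C (by rw [hCcard]; exact hpp)
  have h9 : commutator N ≤ Subgroup.centralizer (I : Set N) :=
    commutator_le_centralizer_of_prime I (by rw [hIcard]; exact hpp)
  rw [← hAself, ← hsup, Lib.Helper17.centralizer_sup_eq]
  exact le_inf h8 h9

/-- Let p be an odd prime and N a finite group with a normal elementary abelian subgroup A of order p² that is its own centralizer in N, such that N/A is isomorphic to SL₂(p) (over any field F with p elements). Then N splits over A: some subgroup U of N satisfies A ∩ U = 1 and AU = N. -/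
theorem result {N : Type*} [Group N] [Finite N] {p : ℕ} [Fact p.Prime] (hp : p ≠ 2)
    (A : Subgroup N) [A.Normal] (hAcomm : IsMulCommutative A) (hAcard : Nat.card A = p ^ 2) (hAexp : Monoid.exponent ↥A = p)
    (hAself : Subgroup.centralizer (A : Set N) = A)
    {F : Type*} [Field F] [Fintype F] (hF : Fintype.card F = p) (e : N ⧸ A ≃* Matrix.SpecialLinearGroup (Fin 2) F) :
    ∃ U : Subgroup N, A ⊓ U = ⊥ ∧ A ⊔ U = ⊤ := by
  have hpp : p.Prime := Fact.out
  have hodd : Odd p := hpp.odd_of_ne_two hp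
  have h2F : (2 : F) ≠ 0 := two_ne_zero_of_card hp hF
  have hAab : ∀ a ∈ A, ∀ b ∈ A, a * b = b * a := fun a ha b hb =>
    congrArg Subtype.val (hAcomm.is_comm.comm ⟨a, ha⟩ ⟨b, hb⟩)
  have hApow : ∀ a ∈ A, a ^ p = 1 := by
    intro a ha
    have := Monoid.pow_exponent_eq_one (⟨a, ha⟩ : ↥A)
    rw [hAexp] at this
    exact congrArg Subtype.val this
  -- the involution t
  obtain ⟨q, hq⟩ := e.surjective (-1)
  obtain ⟨n₀, rfl⟩ := QuotientGroup.mk_surjective q
  have hn₀2 : n₀ ^ 2 ∈ A := by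
    rw [← QuotientGroup.eq_one_iff, QuotientGroup.mk_pow, ← e.map_eq_one_iff, map_pow, hq]
    simp
  obtain ⟨t, htdef⟩ : ∃ t : N, t = n₀ ^ p := ⟨_, rfl⟩
  have het : e (QuotientGroup.mk t) = -1 := by
    rw [htdef, QuotientGroup.mk_pow, map_pow, hq, Odd.neg_one_pow hodd]
  have htA : t ∉ A := by
    intro h
    have h1 : (QuotientGroup.mk t : N ⧸ A) = 1 := (QuotientGroup.eq_one_iff t).mpr h
    rw [h1, map_one] at het
    exact neg_one_ne_one h2F het.symm
  have ht2 : t * t = 1 := by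
    have h1 : t * t = (n₀ ^ 2) ^ p := by
      rw [htdef, ← pow_add, ← pow_mul, two_mul]
    rw [h1]
    exact hApow _ hn₀2
  have hcentral : ∀ n : N, n * t * n⁻¹ * t⁻¹ ∈ A := by
    intro n
    rw [← QuotientGroup.eq_one_iff, ← e.map_eq_one_iff]
    simp only [QuotientGroup.mk_mul, QuotientGroup.mk_inv, map_mul, map_inv, het]
    simp
  -- SL₂(F) is not abelian
  have hnc : ¬ commutator N ≤ A := by
    intro hle
    obtain ⟨g, h, hgh⟩ := sl2_not_comm F
    apply hgh
    obtain ⟨qa, rfl⟩ := e.surjective g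
    obtain ⟨qb, rfl⟩ := e.surjective h
    obtain ⟨a, rfl⟩ := QuotientGroup.mk_surjective qa
    obtain ⟨b, rfl⟩ := QuotientGroup.mk_surjective qb
    rw [← map_mul, ← map_mul, ← QuotientGroup.mk_mul, ← QuotientGroup.mk_mul]
    congr 1
    rw [QuotientGroup.eq]
    apply hle
    have h1 : (a * b)⁻¹ * (b * a) = ⁅b⁻¹, a⁻¹⁆ := by
      rw [commutatorElement_def]; group
    rw [h1, commutator_def]
    exact Subgroup.commutator_mem_commutator (Subgroup.mem_top _) (Subgroup.mem_top _)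
  have hC := fixed_eq_bot hp A hAab hAcard hApow hAself t ht2 htA hcentral hnc
  exact ⟨Subgroup.centralizer ({t} : Set N), hC, split_aux hp A hAab hApow t ht2 hcentral hC⟩

end Cfsg.Agent.S3075
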