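import Cfsg.Statements.S3076
-- import your own Cfsg.Agent.* helpers here
import Cfsg.Agent.Lib.Helper1.CentricRadical

set_option autoImplicit false
open Cfsg

namespace Cfsg.Agent.S3076

/-- Let P be a Sylow p-subgroup of the finite group G and H ≤ P a subgroup with N_P(H) a Sylow p-subgroup of N_G(H). Let N be the preimage in N_G(H) of O_p(N_G(H)/C_G(H)). Then H is a Sylow p-subgroup of N if and only if C_P(H) ≤ H and O_{p',p}(N_G(H)) = H·C_G(H). -/
theorem result {G : Type*} [Group G] [Finite G] {p : ℕ} [Fact p.Prime]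
    (P : Sylow p G) (H : Subgroup G) (hHP : H ≤ (P : Subgroup G))
    (hSyl : ¬ p ∣ ((P : Subgroup G) ⊓ Subgroup.normalizer (H : Set G)).relIndex (Subgroup.normalizer (H : Set G)))
    [hC : ((Subgroup.centralizer (H : Set G)).subgroupOf (Subgroup.normalizer (H : Set G))).Normal] :
    (H ≤ ((Cfsg.pCore p (↥(Subgroup.normalizer (H : Set G)) ⧸
              (Subgroup.centralizer (H : Set G)).subgroupOf (Subgroup.normalizer (H : Set G)))).comap
            (QuotientGroup.mk' _)).map (Subgroup.normalizer (H : Set G)).subtype ∧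
      ¬ p ∣ H.relIndex (((Cfsg.pCore p (↥(Subgroup.normalizer (H : Set G)) ⧸
              (Subgroup.centralizer (H : Set G)).subgroupOf (Subgroup.normalizer (H : Set G)))).comap
            (QuotientGroup.mk' _)).map (Subgroup.normalizer (H : Set G)).subtype)) ↔
    ((P : Subgroup G) ⊓ Subgroup.centralizer (H : Set G) ≤ H ∧
      (Cfsg.pPrimePCore p ↥(Subgroup.normalizer (H : Set G))).map (Subgroup.normalizer (H : Set G)).subtype =
        H ⊔ Subgroup.centralizer (H : Set G)) := by
  classical
  obtain ⟨N, hN⟩ : ∃ N : Subgroup G, N = Subgroup.normalizer (H : Set G) := ⟨_, rfl⟩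
  have hHN : H ≤ Subgroup.normalizer (H : Set G) := Subgroup.le_normalizer
  have hCN : Subgroup.centralizer (H : Set G) ≤ Subgroup.normalizer (H : Set G) :=
    Subgroup.centralizer_le_normalizer _
  haveI hH0n : (H.subgroupOf (Subgroup.normalizer (H : Set G))).Normal :=
    Subgroup.normal_in_normalizer
  have hH0 : IsPGroup p ↥(H.subgroupOf (Subgroup.normalizer (H : Set G))) :=
    (P.2.to_le hHP).comap_subtype
  have hS0 : IsPGroup p ↥(((P : Subgroup G) ⊓ Subgroup.normalizer (H : Set G)).subgroupOf
      (Subgroup.normalizer (H : Set G))) :=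
    (P.2.to_le inf_le_left).comap_subtype
  have hHS : H.subgroupOf (Subgroup.normalizer (H : Set G)) ≤
      ((P : Subgroup G) ⊓ Subgroup.normalizer (H : Set G)).subgroupOf
        (Subgroup.normalizer (H : Set G)) := by
    intro x hx
    rw [Subgroup.mem_subgroupOf] at hx ⊢
    exact ⟨hHP hx, x.2⟩
  have hc1 : ∀ c ∈ (Subgroup.centralizer (H : Set G)).subgroupOf (Subgroup.normalizer (H : Set G)),
      ∀ h ∈ H.subgroupOf (Subgroup.normalizer (H : Set G)), c * h = h * c := by
    intro c hc h hh
    rw [Subgroup.mem_subgroupOf] at hc hh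
    apply Subtype.ext
    exact (Subgroup.mem_centralizer_iff.mp hc h.1 hh).symm
  have hc2 : ∀ x : ↥(Subgroup.normalizer (H : Set G)),
      (∀ h ∈ H.subgroupOf (Subgroup.normalizer (H : Set G)), x * h = h * x) →
      x ∈ (Subgroup.centralizer (H : Set G)).subgroupOf (Subgroup.normalizer (H : Set G)) := by
    intro x hx
    rw [Subgroup.mem_subgroupOf, Subgroup.mem_centralizer_iff]
    intro h hh
    have := hx ⟨h, hHN hh⟩ (by rw [Subgroup.mem_subgroupOf]; exact hh)
    exact (congrArg Subtype.val this).symm
  obtain ⟨hA, hB⟩ := Cfsg.Agent.Lib.Helper1.CentricRadical.main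
    (H.subgroupOf (Subgroup.normalizer (H : Set G)))
    ((Subgroup.centralizer (H : Set G)).subgroupOf (Subgroup.normalizer (H : Set G)))
    (((P : Subgroup G) ⊓ Subgroup.normalizer (H : Set G)).subgroupOf
      (Subgroup.normalizer (H : Set G))) hH0 hS0 hSyl hHS hc1 hc2
  have hHmap : (H.subgroupOf (Subgroup.normalizer (H : Set G))).map
      (Subgroup.normalizer (H : Set G)).subtype = H := Subgroup.map_subgroupOf_eq_of_le hHN
  have hCmap : ((Subgroup.centralizer (H : Set G)).subgroupOf (Subgroup.normalizer (H : Set G))).map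
      (Subgroup.normalizer (H : Set G)).subtype = Subgroup.centralizer (H : Set G) :=
    Subgroup.map_subgroupOf_eq_of_le hCN
  have hle : H ≤ ((Cfsg.pCore p (↥(Subgroup.normalizer (H : Set G)) ⧸
      (Subgroup.centralizer (H : Set G)).subgroupOf (Subgroup.normalizer (H : Set G)))).comap
        (QuotientGroup.mk' _)).map (Subgroup.normalizer (H : Set G)).subtype := by
    have := Subgroup.map_mono (f := (Subgroup.normalizer (H : Set G)).subtype) hA
    rw [hHmap] at this
    exact this
  have hrel : H.relIndex (((Cfsg.pCore p (↥(Subgroup.normalizer (H : Set G)) ⧸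
      (Subgroup.centralizer (H : Set G)).subgroupOf (Subgroup.normalizer (H : Set G)))).comap
        (QuotientGroup.mk' _)).map (Subgroup.normalizer (H : Set G)).subtype) =
      (H.subgroupOf (Subgroup.normalizer (H : Set G))).relIndex
        ((Cfsg.pCore p (↥(Subgroup.normalizer (H : Set G)) ⧸
      (Subgroup.centralizer (H : Set G)).subgroupOf (Subgroup.normalizer (H : Set G)))).comap
        (QuotientGroup.mk' _)) := by
    have := Subgroup.relIndex_map_map_of_injective
      (H.subgroupOf (Subgroup.normalizer (H : Set G)))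
      ((Cfsg.pCore p (↥(Subgroup.normalizer (H : Set G)) ⧸
      (Subgroup.centralizer (H : Set G)).subgroupOf (Subgroup.normalizer (H : Set G)))).comap
        (QuotientGroup.mk' _)) (Subgroup.normalizer (H : Set G)).subtype_injective
    rw [hHmap] at this
    exact this
  have h3 : ((P : Subgroup G) ⊓ Subgroup.centralizer (H : Set G) ≤ H) ↔
      (((P : Subgroup G) ⊓ Subgroup.normalizer (H : Set G)).subgroupOf
        (Subgroup.normalizer (H : Set G)) ⊓
        (Subgroup.centralizer (H : Set G)).subgroupOf (Subgroup.normalizer (H : Set G)) ≤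
        H.subgroupOf (Subgroup.normalizer (H : Set G))) := by
    constructor
    · intro h x hx
      rw [Subgroup.mem_subgroupOf]
      exact h ⟨hx.1.1, hx.2⟩
    · intro h g hg
      have hgN : g ∈ Subgroup.normalizer (H : Set G) := hCN hg.2
      have := h (show (⟨g, hgN⟩ : ↥(Subgroup.normalizer (H : Set G))) ∈ _ from
        ⟨⟨hg.1, hgN⟩, hg.2⟩)
      exact this
  have h4 : ((Cfsg.pPrimePCore p ↥(Subgroup.normalizer (H : Set G))).map
      (Subgroup.normalizer (H : Set G)).subtype = H ⊔ Subgroup.centralizer (H : Set G)) ↔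
      (Cfsg.pPrimePCore p ↥(Subgroup.normalizer (H : Set G)) =
        H.subgroupOf (Subgroup.normalizer (H : Set G)) ⊔
        (Subgroup.centralizer (H : Set G)).subgroupOf (Subgroup.normalizer (H : Set G))) := by
    have hm : (H.subgroupOf (Subgroup.normalizer (H : Set G)) ⊔
        (Subgroup.centralizer (H : Set G)).subgroupOf (Subgroup.normalizer (H : Set G))).map
        (Subgroup.normalizer (H : Set G)).subtype = H ⊔ Subgroup.centralizer (H : Set G) := by
      rw [Subgroup.map_sup, hHmap, hCmap]
    rw [← hm]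
    exact (Subgroup.map_injective (Subgroup.normalizer (H : Set G)).subtype_injective).eq_iff
  rw [hrel, h3, h4]
  constructor
  · intro h
    exact hB.mp h.2
  · intro h
    exact ⟨hle, hB.mpr h⟩

end Cfsg.Agent.S3076
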