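import Cfsg.Statements.S3078
import Mathlib
import Cfsg.Agent.Lib.Helper17.GlaubRank

set_option autoImplicit false
open Cfsg
open scoped commutatorElement

namespace Cfsg.Agent.S3078

open Cfsg.Agent.Lib.Helper17

/-- transport of `omegaSub` along the inclusion of a subgroup -/
theorem card_omegaSub_map {G : Type*} [Group G] (H : Subgroup G) (K : Subgroup ↥H)
    (hK : ∀ x ∈ K, ∀ y ∈ K, x * y = y * x)
    (hK' : ∀ x ∈ K.map H.subtype, ∀ y ∈ K.map H.subtype, x * y = y * x) (e : ℕ) :
    Nat.card (omegaSub (K.map H.subtype) hK' e) = Nat.card (omegaSub K hK e) := by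
  have hmap : omegaSub (K.map H.subtype) hK' e = (omegaSub K hK e).map H.subtype := by
    ext x
    constructor
    · rintro ⟨⟨x', hx', rfl⟩, hxe⟩
      refine ⟨x', ⟨hx', ?_⟩, rfl⟩
      apply Subtype.ext
      simpa using hxe
    · rintro ⟨x', ⟨hx', hxe⟩, rfl⟩
      refine ⟨⟨x', hx', rfl⟩, ?_⟩
      have := congrArg Subtype.val hxe
      simpa using this
  rw [hmap]
  exact Subgroup.card_map_of_injective (Subgroup.subtype_injective H)

/-- A replacement Theorem for abelian subgroups of p-groups, p odd. Let G be a finite p-group with p odd, A an abelian subgroup of G, and B a subgroup of nilpotency class at most 2 with [B, B] ≤ A, such that A normalizes B but B does not normalize A. Then there is an abelian subgroup A* of G of the same order as A with A ∩ B strictly contained in A* ∩ B, A* contained in N_G(A) and in the normal closure of A, the exponent of A* dividing the exponent of A, and with the subgroup generated by the elements of order dividing p in A of order at most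 that of the corresponding subgroup of A* (the rank of A is at most the rank of A*). -/
theorem result {G : Type*} [Group G] [Finite G] {p : ℕ} [Fact p.Prime] (hp : p ≠ 2) (hG : IsPGroup p G) (A B : Subgroup G) (hA : IsMulCommutative A) (hB2 : ⁅⁅B, B⁆, B⁆ = ⊥) (hBA : ⁅B, B⁆ ≤ A) (hAB : A ≤ Subgroup.normalizer (B : Set G)) (hBnA : ¬ B ≤ Subgroup.normalizer (A : Set G)) : ∃ Astar : Subgroup G, IsMulCommutative Astar ∧ Nat.card Astar = Nat.card A ∧ A ⊓ B < Astar ⊓ B ∧ Astar ≤ Subgroup.normalizer (A : Set G) ∧ Astar ≤ Subgroup.normalClosure (A : Set G) ∧ Monoid.exponent Astar ∣ Monoid.exponent A ∧ Nat.card (Cfsg.omegaOne p A) ≤ Nat.card (Cfsg.omegaOne p Astar) := by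
  classical
  have hAc : ∀ x ∈ A, ∀ y ∈ A, x * y = y * x := fun x hx y hy => setLike_mul_comm hx hy
  obtain ⟨H, hHdef⟩ : ∃ H, H = A ⊔ B := ⟨_, rfl⟩
  have hAH : A ≤ H := hHdef ▸ le_sup_left
  have hBH : B ≤ H := hHdef ▸ le_sup_right
  have hHN : H ≤ Subgroup.normalizer (B : Set G) := hHdef ▸ sup_le hAB Subgroup.le_normalizer
  have hBn : (B.subgroupOf H).Normal := (Subgroup.normal_subgroupOf_iff_le_normalizer hBH).mpr hHN
  have hA' : ∀ x ∈ A.subgroupOf H, ∀ y ∈ A.subgroupOf H, x * y = y * x := by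
    intro x hx y hy
    apply Subtype.ext
    exact hAc _ (Subgroup.mem_subgroupOf.mp hx) _ (Subgroup.mem_subgroupOf.mp hy)
  have hBA' : ⁅B.subgroupOf H, B.subgroupOf H⁆ ≤ A.subgroupOf H := by
    rw [Subgroup.commutator_le]
    intro x hx y hy
    rw [Subgroup.mem_subgroupOf]
    apply hBA
    have : ((⁅x, y⁆ : ↥H) : G) = ⁅(x : G), (y : G)⁆ := by
      simp [commutatorElement_def]
    rw [this]
    exact Subgroup.commutator_mem_commutator (Subgroup.mem_subgroupOf.mp hx)
      (Subgroup.mem_subgroupOf.mp hy)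
  -- normalizer in `H` versus normalizer in `G`
  have hnormH : ∀ y : ↥H, y ∈ Subgroup.normalizer ((A.subgroupOf H : Subgroup ↥H) : Set ↥H) →
      (y : G) ∈ Subgroup.normalizer (A : Set G) := by
    intro y hy
    rw [Subgroup.mem_normalizer_iff] at hy ⊢
    intro g
    constructor
    · intro hg
      have := (hy ⟨g, hAH hg⟩).mp (Subgroup.mem_subgroupOf.mpr hg)
      exact Subgroup.mem_subgroupOf.mp this
    · intro hg
      have hgH : g ∈ H := by
        have h1 : (y : G)⁻¹ * ((y : G) * g * (y : G)⁻¹) * (y : G) ∈ H :=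
          H.mul_mem (H.mul_mem (H.inv_mem y.2) (hAH hg)) y.2
        have e : (y : G)⁻¹ * ((y : G) * g * (y : G)⁻¹) * (y : G) = g := by group
        rwa [e] at h1
      have := (hy ⟨g, hgH⟩).mpr (Subgroup.mem_subgroupOf.mpr hg)
      exact Subgroup.mem_subgroupOf.mp this
  have hnot' : ¬ B.subgroupOf H ≤ Subgroup.normalizer ((A.subgroupOf H : Subgroup ↥H) : Set ↥H) := by
    intro hle
    apply hBnA
    intro x hx
    exact hnormH ⟨x, hBH hx⟩ (hle (Subgroup.mem_subgroupOf.mpr hx))
  obtain ⟨A'', hA''c, hcard, hlt, hN, hexp, hD, hrank⟩ :=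
    replacement_step_rank (hG.to_subgroup H) hp (A.subgroupOf H) (B.subgroupOf H) hA' hBA' hnot'
  have hmapA : (A.subgroupOf H).map H.subtype = A := Subgroup.map_subgroupOf_eq_of_le hAH
  have hSc : ∀ x ∈ A''.map H.subtype, ∀ y ∈ A''.map H.subtype, x * y = y * x := by
    rintro _ ⟨x, hx, rfl⟩ _ ⟨y, hy, rfl⟩
    have := hA''c x hx y hy
    exact congrArg Subtype.val this
  have hAc' : ∀ x ∈ (A.subgroupOf H).map H.subtype, ∀ y ∈ (A.subgroupOf H).map H.subtype,
      x * y = y * x := by
    rw [hmapA]; exact hAc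
  refine ⟨A''.map H.subtype, ⟨⟨fun x y => Subtype.ext (hSc x x.2 y y.2)⟩⟩, ?_, ?_, ?_, ?_, ?_, ?_⟩
  · rw [Subgroup.card_map_of_injective (Subgroup.subtype_injective H), hcard]
    exact Nat.card_congr (Subgroup.subgroupOfEquivOfLe hAH).toEquiv
  · refine lt_of_le_not_ge ?_ ?_
    · intro x hx
      have h1 : (⟨x, hAH hx.1⟩ : ↥H) ∈ A.subgroupOf H ⊓ B.subgroupOf H :=
        ⟨Subgroup.mem_subgroupOf.mpr hx.1, Subgroup.mem_subgroupOf.mpr hx.2⟩
      have h2 := hlt.le h1
      exact ⟨⟨_, h2.1, rfl⟩, hx.2⟩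
    · intro hge
      apply not_le_of_gt hlt
      intro y hy
      have h1 : (y : G) ∈ A''.map H.subtype ⊓ B := ⟨⟨y, hy.1, rfl⟩, Subgroup.mem_subgroupOf.mp hy.2⟩
      have h2 := hge h1
      exact ⟨Subgroup.mem_subgroupOf.mpr h2.1, hy.2⟩
  · rintro _ ⟨y, hy, rfl⟩
    exact hnormH y (hN hy)
  · have hDn : ((Subgroup.normalClosure (A : Set G)).subgroupOf H).Normal := inferInstance
    have hAD : A.subgroupOf H ≤ (Subgroup.normalClosure (A : Set G)).subgroupOf H := by
      intro a ha
      rw [Subgroup.mem_subgroupOf] at ha ⊢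
      exact Subgroup.le_normalClosure ha
    rintro _ ⟨y, hy, rfl⟩
    exact Subgroup.mem_subgroupOf.mp (hD _ hDn hAD hy)
  · obtain ⟨k, hk⟩ := IsPGroup.iff_card.mp (hG.to_subgroup A)
    have hpp := (Fact.out : p.Prime)
    have hdvd : Monoid.exponent ↥A ∣ p ^ k := hk ▸ Group.exponent_dvd_nat_card
    obtain ⟨j, -, hj⟩ := (Nat.dvd_prime_pow hpp).mp hdvd
    have hodd : Odd (Monoid.exponent ↥A) := by rw [hj]; exact (hpp.odd_of_ne_two hp).pow
    apply Monoid.exponent_dvd_of_forall_pow_eq_one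
    rintro ⟨_, ⟨y, hy, rfl⟩⟩
    apply Subtype.ext
    have h1 := hexp _ hodd (fun a ha => by
      apply Subtype.ext
      have := Monoid.pow_exponent_eq_one (⟨(a : G), Subgroup.mem_subgroupOf.mp ha⟩ : ↥A)
      have h2 := congrArg Subtype.val this
      simpa using h2) y hy
    have h3 := congrArg Subtype.val h1
    simpa using h3
  · rw [omegaOne_eq_omegaSub A hAc p, omegaOne_eq_omegaSub _ hSc p,
      card_omegaSub_map H A'' hA''c hSc p]
    have e1 : Nat.card (omegaSub A hAc p) = Nat.card (omegaSub (A.subgroupOf H) hA' p) := by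
      rw [← card_omegaSub_map H (A.subgroupOf H) hA' hAc' p]
      have e2 : omegaSub A hAc p = omegaSub ((A.subgroupOf H).map H.subtype) hAc' p := by
        ext x
        rw [mem_omegaSub, mem_omegaSub, hmapA]
      rw [e2]
    rw [e1]
    exact hrank

end Cfsg.Agent.S3078
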