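import Cfsg.Statements.S3087
import Cfsg.Agent.Lib.Helper17.Card
import Mathlib.Tactic

set_option autoImplicit false
open Cfsg

namespace Cfsg.Agent.S3087

/-- Fixed points of `X` on `V` as an additive subgroup. -/
def fixV {G V : Type*} [Group G] [AddCommGroup V] {p : ℕ} [Module (ZMod p) V]
    (ρ : Representation (ZMod p) G V) (X : Subgroup G) : AddSubgroup V where
  carrier := {v | ∀ b ∈ X, ρ b v = v}
  zero_mem' := by intro b _; simp
  add_mem' := by
    intro x y hx hy b hb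
    simp only [Set.mem_ofPred_eq] at hx hy
    rw [map_add, hx b hb, hy b hb]
  neg_mem' := by
    intro x hx b hb
    simp only [Set.mem_ofPred_eq] at hx
    rw [map_neg, hx b hb]

theorem mem_fixV {G V : Type*} [Group G] [AddCommGroup V] {p : ℕ} [Module (ZMod p) V]
    (ρ : Representation (ZMod p) G V) (X : Subgroup G) (v : V) :
    v ∈ fixV ρ X ↔ ∀ b ∈ X, ρ b v = v := Iff.rfl

theorem fixV_anti {G V : Type*} [Group G] [AddCommGroup V] {p : ℕ} [Module (ZMod p) V]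
    (ρ : Representation (ZMod p) G V) {X Y : Subgroup G} (h : X ≤ Y) : fixV ρ Y ≤ fixV ρ X :=
  fun _ hv b hb => hv b (h hb)

theorem card_fixV {G V : Type*} [Group G] [AddCommGroup V] {p : ℕ} [Module (ZMod p) V]
    (ρ : Representation (ZMod p) G V) (X : Subgroup G) :
    Nat.card {v : V // ∀ b ∈ X, ρ b v = v} = Nat.card ↥(fixV ρ X) := rfl

theorem card_fixW {G V : Type*} [Group G] [AddCommGroup V] {p : ℕ} [Module (ZMod p) V]
    (ρ : Representation (ZMod p) G V) (W : Submodule (ZMod p) V) (X : Subgroup G) :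
    Nat.card {w : W // ∀ b ∈ X, ρ b w = w} = Nat.card ↥(fixV ρ X ⊓ W.toAddSubgroup) := by
  apply Nat.card_congr
  refine ⟨fun w => ⟨w.1.1, ⟨w.2, w.1.2⟩⟩, fun v => ⟨⟨v.1, v.2.2⟩, v.2.1⟩, ?_, ?_⟩
  · intro w; rfl
  · intro v; rfl

/-- Let p be a prime, G a finite group acting linearly on a finite vector space V over the field with p elements, W a G-invariant subspace, and A a subgroup of G with |A|·|C_V(A)| ≥ |B|·|C_V(B)| for every subgroup B of A. Then |A|·|C_W(A)| ≥ |B|·|C_W(B)| for every subgroup B of A that contains C_A(W); that is, the image of A in the group induced on W satisfies the same maximality condition. -/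
theorem result {G V : Type*} [Group G] [Finite G] [AddCommGroup V] [Finite V] (p : ℕ) [Fact p.Prime] [Module (ZMod p) V]
    (ρ : Representation (ZMod p) G V) (W : Submodule (ZMod p) V) (hW : ∀ g : G, ∀ w ∈ W, ρ g w ∈ W)
    (A : Subgroup G)
    (hP : ∀ B : Subgroup G, B ≤ A →
      Nat.card ↥B * Nat.card {v : V // ∀ b ∈ B, ρ b v = v} ≤ Nat.card ↥A * Nat.card {v : V // ∀ a ∈ A, ρ a v = v})
    (B : Subgroup G) (hBA : B ≤ A) (hCB : ∀ a ∈ A, (∀ w ∈ W, ρ a w = w) → a ∈ B) :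
    Nat.card ↥B * Nat.card {w : W // ∀ b ∈ B, ρ b w = w} ≤ Nat.card ↥A * Nat.card {w : W // ∀ a ∈ A, ρ a w = w} := by
  rw [card_fixW, card_fixW]
  have h1 := hP B hBA
  rw [card_fixV, card_fixV] at h1
  set CA := fixV ρ A
  set CB := fixV ρ B
  set Wa := W.toAddSubgroup
  have hAB : CA ≤ CB := fixV_anti ρ hBA
  have h2 := Cfsg.Agent.Lib.Helper17.add_card_mul_card_le_card_sup_mul_card_inf CA (CB ⊓ Wa)
  have h3 : CA ⊔ (CB ⊓ Wa) ≤ CB := sup_le hAB inf_le_left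
  have h4 : CA ⊓ (CB ⊓ Wa) = CA ⊓ Wa := by
    rw [← inf_assoc, inf_eq_left.2 hAB]
  rw [h4] at h2
  have h5 : Nat.card ↥(CA ⊔ (CB ⊓ Wa)) ≤ Nat.card ↥CB :=
    Nat.card_le_card_of_injective (AddSubgroup.inclusion h3) (AddSubgroup.inclusion_injective h3)
  have hpos : 0 < Nat.card ↥CA := Nat.card_pos
  have h6 : Nat.card ↥CA * (Nat.card ↥B * Nat.card ↥(CB ⊓ Wa))
      ≤ Nat.card ↥CA * (Nat.card ↥A * Nat.card ↥(CA ⊓ Wa)) := by
    calc Nat.card ↥CA * (Nat.card ↥B * Nat.card ↥(CB ⊓ Wa))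
        = Nat.card ↥B * (Nat.card ↥CA * Nat.card ↥(CB ⊓ Wa)) := by ring
      _ ≤ Nat.card ↥B * (Nat.card ↥(CA ⊔ (CB ⊓ Wa)) * Nat.card ↥(CA ⊓ Wa)) := by gcongr
      _ ≤ Nat.card ↥B * (Nat.card ↥CB * Nat.card ↥(CA ⊓ Wa)) := by gcongr
      _ = (Nat.card ↥B * Nat.card ↥CB) * Nat.card ↥(CA ⊓ Wa) := by ring
      _ ≤ (Nat.card ↥A * Nat.card ↥CA) * Nat.card ↥(CA ⊓ Wa) := by gcongr
      _ = Nat.card ↥CA * (Nat.card ↥A * Nat.card ↥(CA ⊓ Wa)) := by ring
  exact Nat.le_of_mul_le_mul_left h6 hpos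

end Cfsg.Agent.S3087
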