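import Cfsg.Statements.S3103
import Cfsg.Agent.Lib.Helper26.EmbA8
import Cfsg.Agent.Lib.Helper26.FratAct

set_option autoImplicit false
open Cfsg

namespace Cfsg.Agent.S3103

/-- Let X be a finite 2-constrained group with no nontrivial normal subgroup of odd order such that O₂(X) has sectional 2-rank at most 4. Then X/O₂(X) is isomorphic to a subgroup of the alternating group of degree 8. -/
theorem result {X : Type*} [Group X] [Finite X] (hc : Cfsg.IsPConstrained 2 X) (hO : Cfsg.oddCore X = ⊥)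
    (h4 : Cfsg.SectionalPRankLE 2 4 ↥(Cfsg.pCore 2 X)) :
    ∃ f : X ⧸ Cfsg.pCore 2 X →* ↥(alternatingGroup (Fin 8)), Function.Injective f := by
  classical
  have : Fact (Nat.Prime 2) := ⟨Nat.prime_two⟩
  -- O_{2',2}(X) = O_2(X)
  have hcomap : ∀ (N : Subgroup X) [N.Normal], N = ⊥ →
      (Cfsg.pCore 2 (X ⧸ N)).comap (QuotientGroup.mk' N) = Cfsg.pCore 2 X := by
    intro N _ hN
    subst hN
    have h := Cfsg.Agent.Lib.Helper12.pCore_map_equiv' 2 (QuotientGroup.quotientBot (G := X)).symm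
    rw [← h]
    ext x
    rw [Subgroup.mem_comap, Subgroup.mem_map_equiv]
    rfl
  have hPP : Cfsg.pPrimePCore 2 X = Cfsg.pCore 2 X := hcomap _ hO
  have hQ : IsPGroup 2 (Cfsg.pCore 2 X) := Cfsg.Agent.Lib.Helper1.pCore_isPGroup 2 X
  -- C_X(O_2(X)) ≤ O_2(X)
  have hC : Subgroup.centralizer ((Cfsg.pCore 2 X : Subgroup X) : Set X) ≤ Cfsg.pCore 2 X := by
    have hP : IsPGroup 2 (Cfsg.pPrimePCore 2 X) := by rw [hPP]; exact hQ
    obtain ⟨P⟩ : Nonempty (Sylow 2 ↥(Cfsg.pPrimePCore 2 X)) := inferInstance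
    have hPtop : (P : Subgroup ↥(Cfsg.pPrimePCore 2 X)) = ⊤ :=
      (P.is_maximal' (hP.to_subgroup ⊤) le_top).symm
    have h := hc P
    rw [hPtop] at h
    have h2 : ((⊤ : Subgroup ↥(Cfsg.pPrimePCore 2 X)).map (Cfsg.pPrimePCore 2 X).subtype : Subgroup X)
        = Cfsg.pPrimePCore 2 X := by
      rw [← MonoidHom.range_eq_map, Subgroup.range_subtype]
    rw [h2, hPP] at h
    exact h
  obtain ⟨f1, hf1⟩ := Cfsg.Agent.Lib.Helper26.FratAct.exists_embed (X := X) (p := 2) hC
  -- the Frattini quotient is elementary abelian of order ≤ 16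
  set Q := Cfsg.pCore 2 X with hQdef
  have hcomm : ∀ a b : ↥Q ⧸ frattini ↥Q, a * b = b * a := by
    have : IsMulCommutative (↥Q ⧸ frattini ↥Q) :=
      Subgroup.Normal.quotient_commutative_iff_commutator_le.mpr
        (Cfsg.Agent.Lib.Helper1.IsPGroup.commutator_le_frattini hQ)
    intro a b
    exact this.is_comm.comm a b
  have hexp : ∀ a : ↥Q ⧸ frattini ↥Q, a ^ 2 = 1 := by
    intro a
    induction a using QuotientGroup.induction_on with
    | H q =>
      rw [← QuotientGroup.mk_pow, QuotientGroup.eq_one_iff]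
      exact Cfsg.Agent.Lib.Helper1.IsPGroup.pow_mem_frattini hQ q
  have hcard : Nat.card (↥Q ⧸ frattini ↥Q) ≤ 16 := by
    let N : Subgroup ↥(⊤ : Subgroup ↥Q) := (frattini ↥Q).comap (⊤ : Subgroup ↥Q).subtype
    have : N.Normal := Subgroup.Normal.comap inferInstance _
    let e : (↥(⊤ : Subgroup ↥Q) ⧸ N) ≃* (↥Q ⧸ frattini ↥Q) :=
      QuotientGroup.congr N (frattini ↥Q) Subgroup.topEquiv (by
        rw [Subgroup.map_equiv_eq_comap_symm]
        ext x
        rfl)
    have h := h4 ⊤ N ⊤ ⟨⟨fun a b => by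
        apply Subtype.ext
        apply e.injective
        simp only [Subgroup.coe_mul, map_mul]
        exact hcomm _ _⟩⟩ (fun a _ => by
        apply e.injective
        rw [map_pow, map_one]
        exact hexp _)
    rw [Subgroup.card_top, Nat.card_congr e.toEquiv] at h
    norm_num at h
    exact h
  obtain ⟨f2, hf2⟩ := Cfsg.Agent.Lib.Helper26.EmbA8.exists_embed_A8 hcomm hexp hcard
  exact ⟨f2.comp f1, hf2.comp hf1⟩

end Cfsg.Agent.S3103
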