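import Cfsg.Statements.S3125
-- import your own Cfsg.Agent.* helpers here
import Cfsg.Agent.S1991
import Cfsg.Agent.Lib.Lead.CharBurnside

set_option autoImplicit false
open Cfsg

namespace Cfsg.Agent.S3125

/-- Let G be a finite group such that, for every prime p dividing the order of G, every Sylow p-subgroup of G is its own normalizer. Then G is not a non-abelian simple group. -/
theorem result {G : Type*} [Group G] [Finite G]
    (h : ∀ p : ℕ, p.Prime → p ∣ Nat.card G → ∀ P : Sylow p G, Subgroup.normalizer ((P : Subgroup G) : Set G) = P) :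
    ¬ (IsSimpleGroup G ∧ ¬ IsMulCommutative G) := by
  rintro ⟨hs, hnc⟩
  by_cases hbig : ∃ p, p.Prime ∧ 5 ≤ p ∧ p ∣ Nat.card G
  · obtain ⟨p, hp, hp5, hpd⟩ := hbig
    haveI : Fact p.Prime := ⟨hp⟩
    let S : Sylow p G := default
    have hS : (S : Subgroup G) ≠ ⊥ := Sylow.ne_bot_of_dvd_card S hpd
    have hN : ∀ g ∈ Subgroup.normalizer (((S : Subgroup G) : Subgroup G) : Set G),
        (orderOf g).Coprime p → g ∈ Subgroup.centralizer (((S : Subgroup G) : Subgroup G) : Set G) := by
      intro g hg hcop
      rw [h p hp hpd S] at hg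
      obtain ⟨k, hk⟩ := (IsPGroup.iff_orderOf.mp S.isPGroup') ⟨g, hg⟩
      have hk' : orderOf g = p ^ k := by
        rw [← hk]; exact (Subgroup.orderOf_mk g hg).symm
      have hk0 : k = 0 := by
        by_contra hne
        rw [hk'] at hcop
        have : p ∣ Nat.gcd (p ^ k) p := Nat.dvd_gcd (dvd_pow_self p hne) dvd_rfl
        rw [Nat.Coprime] at hcop
        rw [hcop] at this
        exact hp.one_lt.ne' (Nat.dvd_one.mp this)
      rw [hk0, pow_zero, orderOf_eq_one_iff] at hk'
      rw [hk']; exact Subgroup.one_mem _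
    obtain ⟨N, hNn, hNi⟩ := Cfsg.Agent.S1991.result hp5 S hS hN
    rcases hNn.eq_bot_or_eq_top with hN0 | hN1
    · rw [hN0, Subgroup.index_bot] at hNi
      haveI : Fact (Nat.card G).Prime := ⟨hNi ▸ hp⟩
      have hcyc : IsCyclic G := isCyclic_of_prime_card (p := Nat.card G) rfl
      exact hnc hcyc.commutative
    · rw [hN1, Subgroup.index_top] at hNi
      exact hp.one_lt.ne hNi
  · push Not at hbig
    have hn : Nat.card G ≠ 0 := Nat.card_pos.ne'
    have hsupp : (Nat.card G).factorization.support ⊆ ({2, 3} : Finset ℕ) := by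
      intro q hq
      have hqp : q.Prime := Nat.prime_of_mem_primeFactors (by simpa using hq)
      have hqd : q ∣ Nat.card G := Nat.dvd_of_mem_primeFactors (by simpa using hq)
      have hlt : q < 5 := by
        by_contra hge
        exact hbig q hqp (not_lt.mp hge) hqd
      have h2 : 2 ≤ q := hqp.two_le
      interval_cases q
      · simp
      · simp
      · exact absurd hqp (by norm_num)
    have hcard : Nat.card G = 2 ^ (Nat.card G).factorization 2 * 3 ^ (Nat.card G).factorization 3 := by
      conv_lhs => rw [← Nat.prod_factorization_pow_eq_self hn]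
      rw [Finsupp.prod_of_support_subset _ hsupp _ (by intro i _; simp)]
      rw [Finset.prod_pair (by norm_num)]
    have hsol : Group.IsSolvable G :=
      Cfsg.Agent.CharLib.isSolvable_of_card_pq 2 3 _ _ Nat.prime_two Nat.prime_three hcard
    have := hs
    have hcomm := (IsSimpleGroup.comm_iff_isSolvable (G := G)).mpr hsol
    exact hnc ⟨⟨hcomm⟩⟩

end Cfsg.Agent.S3125
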