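import Cfsg.Statements.S3155
import Mathlib.LinearAlgebra.Determinant
import Mathlib.Algebra.Module.ZMod
import Mathlib.LinearAlgebra.Dimension.Constructions
import Mathlib.LinearAlgebra.Dimension.Finrank
import Mathlib.LinearAlgebra.FreeModule.StrongRankCondition
-- import your own Cfsg.Agent.* helpers here

set_option autoImplicit false
open Cfsg

namespace Cfsg.Agent.S3155

/-- Let B be the direct product of three cyclic groups of order 4. Then the automorphism of B inverting every element is not the square of any automorphism of B. -/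
theorem result {B : Type*} [CommGroup B] [Finite B] (hB : Nonempty (B ≃* Multiplicative (ZMod 4 × ZMod 4 × ZMod 4)))
    (τ : B ≃* B) : τ.trans τ ≠ MulEquiv.inv B := by
  obtain ⟨e⟩ := hB
  intro h
  have : Fact (1 < 4) := ⟨by norm_num⟩
  have : Nontrivial (ZMod 4) := ZMod.nontrivial 4
  have hτ : ∀ b : B, τ (τ b) = b⁻¹ := by
    intro b
    have := congrArg (fun f : B ≃* B => f b) h
    simpa using this
  -- transport to the additive group M = (ZMod 4)^3
  let σm : Multiplicative (ZMod 4 × ZMod 4 × ZMod 4) →* Multiplicative (ZMod 4 × ZMod 4 × ZMod 4) :=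
    (e.symm.trans (τ.trans e)).toMonoidHom
  let σ : (ZMod 4 × ZMod 4 × ZMod 4) →+ (ZMod 4 × ZMod 4 × ZMod 4) :=
    AddMonoidHom.toMultiplicative.symm σm
  have hσ : ∀ x : ZMod 4 × ZMod 4 × ZMod 4, σ (σ x) = -x := by
    intro x
    change Multiplicative.toAdd (σm (Multiplicative.ofAdd (Multiplicative.toAdd (σm (Multiplicative.ofAdd x))))) = -x
    simp only [ofAdd_toAdd]
    change Multiplicative.toAdd (e (τ (e.symm (e (τ (e.symm (Multiplicative.ofAdd x))))))) = -x
    rw [MulEquiv.symm_apply_apply, hτ, map_inv, MulEquiv.apply_symm_apply]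
    rfl
  let f : (ZMod 4 × ZMod 4 × ZMod 4) →ₗ[ZMod 4] (ZMod 4 × ZMod 4 × ZMod 4) := σ.toZModLinearMap 4
  have hf : f.comp f = (-1 : ZMod 4) • LinearMap.id := by
    apply LinearMap.ext
    intro x
    simp [f, hσ]
  have hdet := congrArg LinearMap.det hf
  rw [LinearMap.det_comp, LinearMap.det_smul, LinearMap.det_id] at hdet
  have hrank : Module.finrank (ZMod 4) (ZMod 4 × ZMod 4 × ZMod 4) = 3 := by
    rw [Module.finrank_prod, Module.finrank_prod, Module.finrank_self]
  rw [hrank] at hdet
  have key : ∀ d : ZMod 4, d * d ≠ (-1) ^ 3 * 1 := by decide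
  exact key _ hdet

end Cfsg.Agent.S3155
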