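import Cfsg.Statements.S3157


import Mathlib
import Cfsg.Agent.Lib.Helper6.Fpf3J

set_option autoImplicit false
open Cfsg

namespace Cfsg.Agent.S3157

/-- Let T be a non-abelian group of order 64 admitting automorphisms ρ of order 3 and x of order 2 with x ρ x⁻¹ = ρ⁻¹ (so they generate a symmetric group of degree 3), where ρ fixes only the identity. Then T is isomorphic to a Sylow 2-subgroup of the projective special linear group of dimension 3 over the field with 4 elements, and the subgroup of fixed points of x is dihedral of order 8 or quaternion of order 8. -/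
theorem result {T : Type*} [Group T] [Finite T] (hT : Nat.card T = 64) (hna : ¬ IsMulCommutative T) (ρ x : MulAut T) (hρ : orderOf ρ = 3) (hx : orderOf x = 2)
    (hxr : x * ρ * x⁻¹ = ρ⁻¹) (hfp : ∀ y : T, ρ y = y → y = 1) (C : Subgroup T) (hC : ∀ y : T, y ∈ C ↔ x y = y) :
    (∃ (F : Type) (_ : Field F) (_ : Fintype F), Fintype.card F = 4 ∧
        ∃ S : Sylow 2 (Matrix.ProjectiveSpecialLinearGroup (Fin 3) F), Nonempty (T ≃* ↥(S : Subgroup (Matrix.ProjectiveSpecialLinearGroup (Fin 3) F)))) ∧
      (Nonempty (↥C ≃* DihedralGroup 4) ∨ Nonempty (↥C ≃* QuaternionGroup 2)) := by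
  open Cfsg.Agent.Lib.Helper6.Fpf3 Cfsg.Agent.Lib.Helper10.M21 in
  have hρ3 : IsFpf3 ρ := IsFpf3.of_orderOf hρ hfp
  have hs : IsSpecial64 ρ := isSpecial64 hρ3 hT hna
  have hx' : IsInv ρ x := IsInv.of_orderOf hρ3 hx hxr
  refine ⟨?_, ?_⟩
  · obtain ⟨e⟩ := nonempty_heis_equiv hs hx'
    have : Fact (Nat.Prime 2) := ⟨Nat.prime_two⟩
    have hfin : Finite (Matrix.ProjectiveSpecialLinearGroup (Fin 3) K4) :=
      Nat.finite_of_card_ne_zero (by rw [Heis.card_psl]; norm_num)
    obtain ⟨S⟩ := (inferInstance : Nonempty (Sylow 2 (Matrix.ProjectiveSpecialLinearGroup (Fin 3) K4)))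
    exact ⟨K4, inferInstance, inferInstance, K4.card, S, Heis.nonempty_sylow_equiv e S⟩
  · have hCeq : C = fixedSub x := by
      ext y
      rw [hC, mem_fixedSub]
    rw [hCeq]
    exact fixedSub_dihedral_or_quaternion hs hx'

end Cfsg.Agent.S3157
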