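import Cfsg.Statements.S3158
import Cfsg.Agent.Lib.Helper10.PGroupBasic

set_option autoImplicit false
open Cfsg

namespace Cfsg.Agent.S3158

/-- powers of an automorphism preserve an invariant subgroup -/
theorem pow_mem_of_invariant {U : Type*} [Group U] (y : MulAut U) (V : Subgroup U)
    (hyV : ∀ v ∈ V, y v ∈ V) (k : ℕ) : ∀ v ∈ V, (y ^ k) v ∈ V := by
  induction k with
  | zero => intro v hv; simpa using hv
  | succ k ih =>
    intro v hv
    rw [pow_succ', MulAut.mul_apply]
    exact hyV _ (ih v hv)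

/-- a cyclic group of automorphisms of order `|V| - 1` all of whose non-identity elements are fixed
point free is transitive on the non-identity elements of `V` -/
theorem trans_of_fpf {U : Type*} [Group U] [Finite U] (m : ℕ) (y : MulAut U) (hy : orderOf y = m)
    (hfp : ∀ k : ℕ, y ^ k ≠ 1 → ∀ u : U, (y ^ k) u = u → u = 1)
    (V : Subgroup U) (hyV : ∀ v ∈ V, y v ∈ V) (hV : Nat.card V = m + 1)
    {v₀ : U} (hv₀ : v₀ ∈ V) (h1 : v₀ ≠ 1) : ∀ v ∈ V, v ≠ 1 → ∃ k : ℕ, (y ^ k) v₀ = v := by
  classical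
  have hne : ∀ k : ℕ, (y ^ k) v₀ ≠ 1 := by
    intro k h
    apply h1
    have : (y ^ k) v₀ = (y ^ k) 1 := by rw [h, map_one]
    exact (y ^ k).injective this
  let f : Fin m → {v : V // v ≠ 1} := fun k =>
    ⟨⟨(y ^ (k : ℕ)) v₀, pow_mem_of_invariant y V hyV k v₀ hv₀⟩, fun h => hne k (congrArg Subtype.val h)⟩
  have key : ∀ i j : ℕ, i ≤ j → j < m → (y ^ i) v₀ = (y ^ j) v₀ → i = j := by
    intro i j hij hj h
    by_contra hne'
    have hlt : 0 < j - i := by omega
    have h2 : y ^ (j - i) ≠ 1 := by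
      apply pow_ne_one_of_lt_orderOf (by omega)
      rw [hy]
      omega
    apply h1
    apply hfp (j - i) h2
    have h3 : (y ^ j) v₀ = (y ^ i) ((y ^ (j - i)) v₀) := by
      rw [← MulAut.mul_apply, ← pow_add]
      congr 2
      omega
    rw [h3] at h
    exact ((y ^ i).injective h).symm
  have finj : Function.Injective f := by
    intro i j hij
    have h : (y ^ (i : ℕ)) v₀ = (y ^ (j : ℕ)) v₀ := congrArg (fun t => ((t : {v : V // v ≠ 1}) : U)) hij
    apply Fin.ext
    rcases le_total (i : ℕ) j with hle | hle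
    · exact key i j hle j.2 h
    · exact (key j i hle i.2 h.symm).symm
  have hcard : Nat.card {v : V // v ≠ 1} = m := by
    have h1 := Nat.card_congr (Equiv.optionSubtypeNe (1 : V))
    rw [Finite.card_option, hV] at h1
    omega
  have fbij : Function.Bijective f := by
    apply finj.bijective_of_nat_card_le
    rw [hcard, Nat.card_fin]
  intro v hv hv1
  obtain ⟨k, hk⟩ := fbij.2 ⟨⟨v, hv⟩, fun h => hv1 (congrArg Subtype.val h)⟩
  exact ⟨k, congrArg (fun t => ((t : {v : V // v ≠ 1}) : U)) hk⟩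

/-- automorphisms preserve the centre -/
theorem aut_mem_center {U : Type*} [Group U] (α : MulAut U) {x : U} (hx : x ∈ Subgroup.center U) :
    α x ∈ Subgroup.center U := by
  rw [Subgroup.mem_center_iff] at hx ⊢
  intro g
  have h := hx (α⁻¹ g)
  have h2 := congrArg α h
  rw [map_mul, map_mul, MulAut.apply_inv_self] at h2
  exact h2

/-- Let U be a group of order q² with q = 2^n ≥ 2, and y an automorphism of U of order q − 1 all of whose nontrivial powers fix only the identity. Let V be a proper normal y-invariant subgroup of U such that V and U/V are elementary abelian 2-groups and there is an isomorphism from V to U/V commuting with the actions of y. Then U is abelian. -/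
theorem result {U : Type*} [Group U] [Finite U] (n : ℕ) (hn : 1 ≤ n) (hU : Nat.card U = (2 ^ n) ^ 2)
    (y : MulAut U) (hy : orderOf y = 2 ^ n - 1) (hfp : ∀ k : ℕ, y ^ k ≠ 1 → ∀ u : U, (y ^ k) u = u → u = 1)
    (V : Subgroup U) [V.Normal] (hV : V ≠ ⊤) (hyV : ∀ v ∈ V, y v ∈ V)
    (hVe : ∀ v ∈ V, v ^ 2 = 1) (hQe : ∀ u : U, u ^ 2 ∈ V) (hQc : ∀ u w : U, u * w * u⁻¹ * w⁻¹ ∈ V)
    (φ : ↥V ≃* U ⧸ V) (hφ : ∀ (v : ↥V) (u : U), (QuotientGroup.mk u : U ⧸ V) = φ v → φ ⟨y v, hyV v v.2⟩ = QuotientGroup.mk (y u)) :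
    IsMulCommutative U := by
  classical
  have hcardV : Nat.card V = 2 ^ n := by
    have h1 := V.card_mul_index
    rw [Subgroup.index_eq_card, ← Nat.card_congr φ.toEquiv, hU, ← sq] at h1
    exact Nat.pow_left_injective (by norm_num) h1
  have hpos : 1 ≤ 2 ^ n := Nat.one_le_two_pow
  have hcardV' : Nat.card V = (2 ^ n - 1) + 1 := by omega
  have hP : IsPGroup 2 U := IsPGroup.of_card (n := n * 2) (by rw [hU, pow_mul])
  have hVbot : V ≠ ⊥ := by
    intro h
    rw [h, Subgroup.card_bot] at hcardV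
    have : 2 ≤ 2 ^ n := by
      calc 2 = 2 ^ 1 := by norm_num
        _ ≤ 2 ^ n := Nat.pow_le_pow_right (by norm_num) hn
    omega
  have htr := fun {v₀ : U} (hv₀ : v₀ ∈ V) (h1 : v₀ ≠ 1) =>
    trans_of_fpf (2 ^ n - 1) y hy hfp V hyV hcardV' hv₀ h1
  -- `V` is central
  have hVZ : V ≤ Subgroup.center U := by
    obtain ⟨x, hxV, hxZ, hx1⟩ :=
      Cfsg.Agent.Lib.Helper10.exists_mem_center_of_normal_ne_bot 2 hP V hVbot
    intro v hv
    by_cases hv1 : v = 1
    · rw [hv1]; exact Subgroup.one_mem _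
    · obtain ⟨k, hk⟩ := htr hxV hx1 v hv hv1
      rw [← hk]
      exact aut_mem_center _ hxZ
  -- the projection onto `V`
  let ψ : U →* V := φ.symm.toMonoidHom.comp (QuotientGroup.mk' V)
  have hψ : ∀ u : U, φ (ψ u) = QuotientGroup.mk u := fun u => φ.apply_symm_apply _
  have hψker : ∀ u : U, ψ u = 1 ↔ u ∈ V := by
    intro u
    constructor
    · intro h
      have h2 := hψ u
      rw [h, map_one] at h2
      exact (QuotientGroup.eq_one_iff u).mp h2.symm
    · intro h
      apply φ.injective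
      rw [hψ, map_one]
      exact (QuotientGroup.eq_one_iff u).mpr h
  have hψy : ∀ u : U, ((ψ (y u) : V) : U) = y (ψ u : U) := by
    intro u
    have h := hφ (ψ u) u (hψ u).symm
    have h2 : ψ (y u) = ⟨y (ψ u : U), hyV _ (ψ u).2⟩ := by
      apply φ.injective
      rw [hψ, h]
    rw [h2]
  have hψyk : ∀ (k : ℕ) (u : U), ((ψ ((y ^ k) u) : V) : U) = (y ^ k) (ψ u : U) := by
    intro k
    induction k with
    | zero => intro u; simp
    | succ k ih =>
      intro u
      rw [pow_succ', MulAut.mul_apply, hψy, ih, MulAut.mul_apply]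
  obtain ⟨u₀, hu₀⟩ : ∃ u₀ : U, u₀ ∉ V := by
    by_contra h
    push Not at h
    exact hV (top_unique fun x _ => h x)
  have hv₀1 : ((ψ u₀ : V) : U) ≠ 1 := by
    intro h
    exact hu₀ ((hψker u₀).mp (Subtype.ext h))
  -- every element outside `V` is a translate of an image of `u₀`
  have hdecomp : ∀ u : U, u ∉ V → ∃ k : ℕ, ∃ w ∈ V, u = (y ^ k) u₀ * w := by
    intro u hu
    have hu1 : ((ψ u : V) : U) ≠ 1 := by
      intro h
      exact hu ((hψker u).mp (Subtype.ext h))
    obtain ⟨k, hk⟩ := htr (ψ u₀).2 hv₀1 _ (ψ u).2 hu1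
    refine ⟨k, ((y ^ k) u₀)⁻¹ * u, ?_, by group⟩
    rw [← hψker, map_mul, map_inv]
    have : ψ ((y ^ k) u₀) = ψ u := by
      apply Subtype.ext
      rw [hψyk, hk]
    rw [this, inv_mul_cancel]
  have hsqdec : ∀ (k : ℕ) (w : U), w ∈ V → ((y ^ k) u₀ * w) ^ 2 = (y ^ k) (u₀ ^ 2) := by
    intro k w hw
    have hc : Commute ((y ^ k) u₀) w := ((Subgroup.mem_center_iff.mp (hVZ hw)) _)
    rw [hc.mul_pow, hVe w hw, mul_one, map_pow]
  -- squaring is a homomorphism
  have hsq : ∀ a b : U, (a * b) ^ 2 = a ^ 2 * b ^ 2 := by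
    by_cases hz : u₀ ^ 2 = 1
    · have hall : ∀ u : U, u ^ 2 = 1 := by
        intro u
        by_cases hu : u ∈ V
        · exact hVe u hu
        · obtain ⟨k, w, hw, rfl⟩ := hdecomp u hu
          rw [hsqdec k w hw, hz, map_one]
      intro a b
      rw [hall, hall, hall, mul_one]
    · obtain ⟨k₀, hk₀⟩ := htr (ψ u₀).2 hv₀1 _ (hQe u₀) hz
      have hall : ∀ u : U, u ^ 2 = (y ^ k₀) (ψ u : U) := by
        intro u
        by_cases hu : u ∈ V
        · rw [hVe u hu, (hψker u).mpr hu]
          simp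
        · obtain ⟨k, w, hw, rfl⟩ := hdecomp u hu
          rw [hsqdec k w hw, ← hk₀, map_mul, (hψker w).mpr hw, mul_one, hψyk,
            ← MulAut.mul_apply, ← MulAut.mul_apply, pow_mul_comm]
      intro a b
      rw [hall, hall, hall, map_mul, Subgroup.coe_mul, map_mul]
  refine ⟨⟨fun a b => ?_⟩⟩
  have h := hsq a b
  rw [pow_two, pow_two, pow_two] at h
  have h2 : a * (b * a) * b = a * (a * b) * b := by
    calc a * (b * a) * b = a * b * (a * b) := by group
      _ = a * a * (b * b) := h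
      _ = a * (a * b) * b := by group
  exact (mul_left_cancel (mul_right_cancel h2)).symm

end Cfsg.Agent.S3158
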