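import Cfsg.Statements.S3163
-- import your own Cfsg.Agent.* helpers here
import Mathlib
import Cfsg.Agent.Lib.Helper17.Card

set_option autoImplicit false
open Cfsg

namespace Cfsg.Agent.S3163

theorem aux {S : Type*} [Group S] [Finite S] (hna : ¬ IsMulCommutative S) (A B : Subgroup S)
    (hA : Cfsg.IsElementaryAbelian 2 A) (hB : Cfsg.IsElementaryAbelian 2 B)
    (hAB : ∀ s : S, ∃ a ∈ A, ∃ b ∈ B, s = a * b)
    (hC : ∀ a ∈ A, a ∉ B → Subgroup.centralizer ({a} : Set S) = A) :
    (∃ a ∈ A, a ∉ B) ∧
    (∀ b ∈ B, b ∉ A → Subgroup.centralizer ({b} : Set S) = B) ∧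
    (∀ E' : Subgroup S, Cfsg.IsElementaryAbelian 2 E' → A ≤ E' → E' = A) ∧
    (∀ x : S, x ∉ A → x ∉ B →
      Nat.card ↥(Subgroup.centralizer ({x} : Set S)) ≤ Nat.card ↥B) := by
  classical
  have hAc : ∀ a ∈ A, ∀ a' ∈ A, a * a' = a' * a := by
    intro a ha a' ha'
    have := hA.1
    exact setLike_mul_comm ha ha'
  have hBc : ∀ b ∈ B, ∀ b' ∈ B, b * b' = b' * b := by
    intro b hb b' hb'
    have := hB.1
    exact setLike_mul_comm hb hb'
  have hex : ∃ a ∈ A, a ∉ B := by
    by_contra hcon
    apply hna
    have hAB' : ∀ a ∈ A, a ∈ B := by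
      intro a ha
      by_contra h
      exact hcon ⟨a, ha, h⟩
    have hall : ∀ s : S, s ∈ B := by
      intro s
      obtain ⟨a, ha, b, hb, rfl⟩ := hAB s
      exact B.mul_mem (hAB' a ha) hb
    exact ⟨⟨fun x y => hBc x (hall x) y (hall y)⟩⟩
  have h1 : ∀ b ∈ B, b ∉ A → Subgroup.centralizer ({b} : Set S) = B := by
    intro b hb hbA
    ext s
    rw [Subgroup.mem_centralizer_singleton_iff]
    constructor
    · intro hs
      obtain ⟨a, ha, b', hb', rfl⟩ := hAB s
      have hab : a * b = b * a := by
        have e1 : a * b' * b = a * b * b' := by rw [mul_assoc, hBc b' hb' b hb, ← mul_assoc]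
        rw [e1] at hs
        have : a * b * b' = b * a * b' := by rw [hs]; group
        exact mul_right_cancel this
      by_cases haB : a ∈ B
      · exact B.mul_mem haB hb'
      · exfalso
        have := hC a ha haB
        apply hbA
        rw [← this, Subgroup.mem_centralizer_singleton_iff]
        exact hab.symm
    · intro hs
      exact hBc s hs b hb
  refine ⟨hex, h1, ?_, ?_⟩
  · intro E' hE' hAE'
    obtain ⟨a, ha, haB⟩ := hex
    apply le_antisymm _ hAE'
    intro e he
    rw [← hC a ha haB, Subgroup.mem_centralizer_singleton_iff]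
    have := hE'.1
    exact setLike_mul_comm he (hAE' ha)
  · intro x hxA hxB
    set C := Subgroup.centralizer ({x} : Set S) with hCdef
    have hCA : C ⊓ A ≤ A ⊓ B := by
      intro c hc
      rw [Subgroup.mem_inf] at hc ⊢
      refine ⟨hc.2, ?_⟩
      by_contra hcB
      apply hxA
      rw [← hC c hc.2 hcB, Subgroup.mem_centralizer_singleton_iff]
      have hc1 : c ∈ Subgroup.centralizer ({x} : Set S) := hc.1
      rw [Subgroup.mem_centralizer_singleton_iff] at hc1
      exact hc1.symm
    have hineq1 := Cfsg.Agent.Lib.Helper17.card_mul_card_le_card_sup_mul_card_inf C A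
    have hineq2 : Nat.card ↥(C ⊔ A) ≤ Nat.card S := Subgroup.card_le_card_group _
    have hineq3 : Nat.card ↥(C ⊓ A) ≤ Nat.card ↥(A ⊓ B) := Subgroup.card_le_of_le hCA
    have hineq4 : Nat.card S * Nat.card ↥(A ⊓ B) ≤ Nat.card A * Nat.card B := by
      choose fa hfa fb hfb hfab using hAB
      let ι : S × ↥(A ⊓ B) → A × B := fun sd =>
        (⟨fa sd.1 * sd.2.1, A.mul_mem (hfa sd.1) sd.2.2.1⟩,
         ⟨sd.2.1⁻¹ * fb sd.1, B.mul_mem (B.inv_mem sd.2.2.2) (hfb sd.1)⟩)
      have hι : Function.Injective ι := by
        rintro ⟨s, d⟩ ⟨s', d'⟩ h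
        have e1 : fa s * d.1 = fa s' * d'.1 := congrArg (fun z => (z.1 : S)) h
        have e2 : d.1⁻¹ * fb s = d'.1⁻¹ * fb s' := congrArg (fun z => (z.2 : S)) h
        have es : s = s' := by
          rw [hfab s, hfab s']
          calc fa s * fb s = (fa s * d.1) * (d.1⁻¹ * fb s) := by group
            _ = (fa s' * d'.1) * (d'.1⁻¹ * fb s') := by rw [e1, e2]
            _ = fa s' * fb s' := by group
        subst es
        have ed : d.1 = d'.1 := mul_left_cancel e1
        rw [Subtype.ext ed]
      have := Nat.card_le_card_of_injective ι hι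
      rwa [Nat.card_prod, Nat.card_prod] at this
    have hApos : 0 < Nat.card A := Nat.card_pos
    have : Nat.card C * Nat.card A ≤ Nat.card B * Nat.card A := by
      calc Nat.card C * Nat.card A ≤ Nat.card ↥(C ⊔ A) * Nat.card ↥(C ⊓ A) := hineq1
        _ ≤ Nat.card S * Nat.card ↥(A ⊓ B) := Nat.mul_le_mul hineq2 hineq3
        _ ≤ Nat.card A * Nat.card B := hineq4
        _ = Nat.card B * Nat.card A := mul_comm _ _
    exact Nat.le_of_mul_le_mul_right this hApos


/-- Let S be a non-abelian finite 2-group which is the product S = AB of two elementary abelian subgroups A and B, and suppose that the centralizer in S of every element of A outside B is exactly A. Then the centralizer of every element of B outside A is exactly B; A and B are maximal elementary abelian subgroups of S and the only ones; the centre of S is A ∩ B; and every element of S outside A ∪ B has centralizer of order at most min(|A|, |B|). -/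
theorem result {S : Type*} [Group S] [Finite S] (hS : IsPGroup 2 S) (hna : ¬ IsMulCommutative S) (A B : Subgroup S)
    (hA : Cfsg.IsElementaryAbelian 2 A) (hB : Cfsg.IsElementaryAbelian 2 B) (hAB : ∀ s : S, ∃ a ∈ A, ∃ b ∈ B, s = a * b)
    (hC : ∀ a ∈ A, a ∉ B → Subgroup.centralizer ({a} : Set S) = A) :
    (∀ b ∈ B, b ∉ A → Subgroup.centralizer ({b} : Set S) = B) ∧
      (∀ E : Subgroup S, Cfsg.IsElementaryAbelian 2 E → (∀ E' : Subgroup S, Cfsg.IsElementaryAbelian 2 E' → E ≤ E' → E' = E) → E = A ∨ E = B) ∧
      (∀ E' : Subgroup S, Cfsg.IsElementaryAbelian 2 E' → A ≤ E' → E' = A) ∧ (∀ E' : Subgroup S, Cfsg.IsElementaryAbelian 2 E' → B ≤ E' → E' = B) ∧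
      Subgroup.center S = A ⊓ B ∧
      (∀ x : S, x ∉ A → x ∉ B → Nat.card ↥(Subgroup.centralizer ({x} : Set S)) ≤ min (Nat.card ↥A) (Nat.card ↥B)) := by
  classical
  have hBA : ∀ s : S, ∃ b ∈ B, ∃ a ∈ A, s = b * a := by
    intro s
    obtain ⟨a, ha, b, hb, h⟩ := hAB s⁻¹
    refine ⟨b⁻¹, B.inv_mem hb, a⁻¹, A.inv_mem ha, ?_⟩
    rw [← mul_inv_rev, ← h, inv_inv]
  obtain ⟨hexA, h1, h3, h6⟩ := aux hna A B hA hB hAB hC
  obtain ⟨hexB, -, h4, h6'⟩ := aux hna B A hB hA hBA h1
  have hAc : ∀ a ∈ A, ∀ a' ∈ A, a * a' = a' * a := by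
    intro a ha a' ha'
    have := hA.1
    exact setLike_mul_comm ha ha'
  have hBc : ∀ b ∈ B, ∀ b' ∈ B, b * b' = b' * b := by
    intro b hb b' hb'
    have := hB.1
    exact setLike_mul_comm hb hb'
  refine ⟨h1, ?_, h3, h4, ?_, ?_⟩
  · -- maximal elementary abelian subgroups
    intro E hE hmaxE
    have hEc : ∀ e ∈ E, ∀ e' ∈ E, e * e' = e' * e := by
      intro e he e' he'
      have := hE.1
      exact setLike_mul_comm he he'
    by_cases hc1 : ∃ a ∈ E, a ∈ A ∧ a ∉ B
    · left
      obtain ⟨a, haE, haA, haB⟩ := hc1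
      have hEA : E ≤ A := by
        intro e he
        rw [← hC a haA haB, Subgroup.mem_centralizer_singleton_iff]
        exact hEc e he a haE
      exact (hmaxE A hA hEA).symm
    · by_cases hc2 : ∃ b ∈ E, b ∈ B ∧ b ∉ A
      · right
        obtain ⟨b, hbE, hbB, hbA⟩ := hc2
        have hEB : E ≤ B := by
          intro e he
          rw [← h1 b hbB hbA, Subgroup.mem_centralizer_singleton_iff]
          exact hEc e he b hbE
        exact (hmaxE B hB hEB).symm
      · left
        rw [not_exists] at hc1 hc2
        have hEA : E ≤ A := by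
          intro x hx
          obtain ⟨a, ha, b, hb, hxab⟩ := hAB x
          by_cases haB : a ∈ B
          · have hxB : x ∈ B := by rw [hxab]; exact B.mul_mem haB hb
            by_contra hxA
            exact hc2 x ⟨hx, hxB, hxA⟩
          · -- a ∉ B: a and b commute since x^2 = 1
            have hx2 : a * b * (a * b) = 1 := by
              rw [← pow_two, ← hxab]; exact hE.2 x hx
            have ha2 : a * a = 1 := by rw [← pow_two]; exact hA.2 a ha
            have hb2 : b * b = 1 := by rw [← pow_two]; exact hB.2 b hb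
            have hab : b * a = a * b := by
              calc b * a = (a * a) * (b * a) * (b * b) := by rw [ha2, hb2]; group
                _ = a * (a * b * (a * b)) * b := by group
                _ = a * b := by rw [hx2]; group
            have hbA : b ∈ A := by
              rw [← hC a ha haB, Subgroup.mem_centralizer_singleton_iff]
              exact hab
            rw [hxab]; exact A.mul_mem ha hbA
        exact (hmaxE A hA hEA).symm
  · -- the centre
    ext z
    rw [Subgroup.mem_center_iff, Subgroup.mem_inf]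
    constructor
    · intro hz
      obtain ⟨a, ha, haB⟩ := hexA
      obtain ⟨b, hb, hbA⟩ := hexB
      constructor
      · rw [← hC a ha haB, Subgroup.mem_centralizer_singleton_iff]
        exact (hz a).symm
      · rw [← h1 b hb hbA, Subgroup.mem_centralizer_singleton_iff]
        exact (hz b).symm
    · rintro ⟨hzA, hzB⟩ g
      obtain ⟨a, ha, b, hb, rfl⟩ := hAB g
      calc a * b * z = a * (b * z) := by group
        _ = a * (z * b) := by rw [hBc b hb z hzB]
        _ = (a * z) * b := by group
        _ = (z * a) * b := by rw [hAc a ha z hzA]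
        _ = z * (a * b) := by group
  · intro x hxA hxB
    exact le_min (h6' x hxB hxA) (h6 x hxA hxB)

end Cfsg.Agent.S3163
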