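import Cfsg.Statements.S3165
-- import your own Cfsg.Agent.* helpers here
import Mathlib

set_option autoImplicit false
open Cfsg

namespace Cfsg.Agent.S3165

/-- Let a group X act on a group Y by automorphisms and let z be an element of Y all of whose Y-conjugates are fixed by X. Then every element of the form (x·y)y⁻¹, x ∈ X, y ∈ Y (these generate the commutator [X, Y]) commutes with z. -/
theorem result {X Y : Type*} [Group X] [Group Y] [MulDistribMulAction X Y] (z : Y)
    (hz : ∀ y : Y, ∀ x : X, x • (y * z * y⁻¹) = y * z * y⁻¹) :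
    ∀ x : X, ∀ y : Y, Commute ((x • y) * y⁻¹) z := by
  intro x y
  have h1 : x • z = z := by
    have := hz 1 x
    simpa using this
  have h4 := hz y⁻¹ x
  simp only [smul_mul', smul_inv', h1, inv_inv] at h4
  generalize x • y = w at h4 ⊢
  -- h4 : w⁻¹ * z * w = y⁻¹ * z * y
  show w * y⁻¹ * z = z * (w * y⁻¹)
  have e1 : w * y⁻¹ * z = w * (y⁻¹ * z * y) * y⁻¹ := by group
  rw [e1, ← h4]
  group

end Cfsg.Agent.S3165
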