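import Cfsg.Statements.S3166
-- import your own Cfsg.Agent.* helpers here
import Mathlib

set_option autoImplicit false
open Cfsg

namespace Cfsg.Agent.S3166

theorem even_case (q r : ℤ) (hq : 2 ≤ q) (hr : 0 ≤ r)
    (h : r ^ 2 + q ^ 3 + q = q ^ 4 + q ^ 2 + 1) : False := by
  have h1 : 2 * q ^ 2 - q < 2 * r := by
    by_contra hcon
    rw [not_lt] at hcon
    have h0 : 0 ≤ 2 * r := by linarith
    have := mul_self_le_mul_self h0 hcon
    nlinarith [sq_nonneg (q - 2), sq_nonneg q]
  have h2 : 2 * r < 2 * q ^ 2 - q + 1 := by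
    by_contra hcon
    rw [not_lt] at hcon
    have h0 : 0 ≤ 2 * q ^ 2 - q + 1 := by nlinarith
    have := mul_self_le_mul_self h0 hcon
    nlinarith [sq_nonneg (q - 2), sq_nonneg q]
  omega

theorem cube_case (q k : ℕ) (hq : 2 ≤ q) (hk : 1 ≤ k)
    (h : (1 + q * k) ^ 3 + q ^ 3 + q = q ^ 4 + q ^ 2 + 1) : False := by
  have hqpos : 0 < q := by omega
  have E : 3 * k + 3 * q * k ^ 2 + q ^ 2 * k ^ 3 + q ^ 2 + 1 = q ^ 3 + q := by
    apply Nat.eq_of_mul_eq_mul_left hqpos
    nlinarith [h]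
  have hdvd : q ∣ 3 * k + 1 := by
    have h1 : q ∣ (3 * k + 1) + q * (3 * k ^ 2 + q * k ^ 3 + q) := by
      refine ⟨q ^ 2 + 1, ?_⟩
      nlinarith [E]
    exact (Nat.dvd_add_left (Dvd.intro _ rfl)).mp h1
  have hle : q ≤ 3 * k + 1 := Nat.le_of_dvd (by omega) hdvd
  have hk3 : k ^ 3 < q := by
    have : q ^ 2 * k ^ 3 < q ^ 2 * q := by nlinarith [E]
    exact Nat.lt_of_mul_lt_mul_left this
  have hk1 : k = 1 := by
    by_contra hne
    have hk2 : 2 ≤ k := by omega
    have : 4 * k ≤ k ^ 3 := by nlinarith [Nat.mul_le_mul hk2 hk2]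
    omega
  subst hk1
  have hq4 : q ≤ 4 := by omega
  interval_cases q <;> omega


/-- Let q = 2^n with n ≥ 1. If q⁴ − q³ + q² − q + 1 is a power p^m of a prime p, then m = 1: the value is never a prime power with exponent greater than 1. -/
theorem result (n p m : ℕ) (hn : 1 ≤ n) (hp : p.Prime) (h : (2 ^ n) ^ 4 - (2 ^ n) ^ 3 + (2 ^ n) ^ 2 - 2 ^ n + 1 = p ^ m) : m = 1 := by
  have hq2 : 2 ≤ 2 ^ n := by
    calc 2 = 2 ^ 1 := by norm_num
      _ ≤ 2 ^ n := Nat.pow_le_pow_right (by norm_num) hn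
  have hqeven : 2 ∣ 2 ^ n := dvd_pow_self 2 (by omega)
  obtain ⟨q, hqdef⟩ : ∃ q, q = 2 ^ n := ⟨_, rfl⟩
  rw [← hqdef] at h hq2 hqeven
  have hΦ : p ^ m + q ^ 3 + q = q ^ 4 + q ^ 2 + 1 := by
    have h1 : q ^ 3 ≤ q ^ 4 := Nat.pow_le_pow_right (by omega) (by norm_num)
    have h2 : q ≤ q ^ 2 := by nlinarith
    omega
  have hp2 : 2 ≤ p := hp.two_le
  rcases Nat.lt_or_ge m 2 with hm | hm
  · -- m = 0 or 1
    interval_cases m
    · exfalso
      rw [pow_zero] at hΦ
      nlinarith [Nat.pow_le_pow_left hq2 2, Nat.pow_le_pow_left hq2 3]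
    · rfl
  · exfalso
    rcases Nat.even_or_odd m with ⟨k, hk⟩ | hmodd
    · -- even case
      have hk' : m = 2 * k := by omega
      apply even_case (q : ℤ) ((p : ℤ) ^ k) (by exact_mod_cast hq2) (by positivity)
      have : ((p ^ m + q ^ 3 + q : ℕ) : ℤ) = ((q ^ 4 + q ^ 2 + 1 : ℕ) : ℤ) := by rw [hΦ]
      push_cast at this
      rw [← pow_mul, mul_comm k 2, ← hk']
      exact this
    · -- odd case
      -- p is odd
      have hpodd : Odd p := by
        rcases hp.eq_two_or_odd' with h2 | hodd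
        · exfalso
          subst h2
          have hqe : Even q := even_iff_two_dvd.mpr hqeven
          obtain ⟨a, ha⟩ : Even (2 ^ m) := Nat.even_pow.mpr ⟨even_two, by omega⟩
          obtain ⟨b4, hb4⟩ : Even (q ^ 4) := Nat.even_pow.mpr ⟨hqe, by norm_num⟩
          obtain ⟨b3, hb3⟩ : Even (q ^ 3) := Nat.even_pow.mpr ⟨hqe, by norm_num⟩
          obtain ⟨b2, hb2⟩ : Even (q ^ 2) := Nat.even_pow.mpr ⟨hqe, by norm_num⟩
          obtain ⟨b1, hb1⟩ := hqe
          omega
        · exact hodd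
      -- geometric sum
      obtain ⟨x, hx⟩ : ∃ x, p = x + 1 := ⟨p - 1, by omega⟩
      have hgeom := geom_sum_mul_add x m
      rw [← hx] at hgeom
      set S := ∑ i ∈ Finset.range m, p ^ i with hS
      have hSodd : Odd S := by
        rw [hS, Finset.odd_sum_iff_odd_card_odd]
        have : (Finset.range m).filter (fun i => Odd (p ^ i)) = Finset.range m := by
          apply Finset.filter_true_of_mem
          intro i _
          exact hpodd.pow
        rw [this, Finset.card_range]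
        exact hmodd
      have hqdvd : q ∣ S * x := by
        refine ⟨q ^ 3 + q - q ^ 2 - 1, ?_⟩
        have h1 : q ^ 2 + 1 ≤ q ^ 3 + q := by nlinarith [Nat.pow_le_pow_left hq2 2]
        have h3 : q * (q ^ 3 + q - q ^ 2 - 1) + q ^ 3 + q = q ^ 4 + q ^ 2 := by
          have : q ^ 3 + q - q ^ 2 - 1 = q ^ 3 + q - (q ^ 2 + 1) := by omega
          rw [this]
          zify [h1]
          ring
        omega
      have hcop : Nat.Coprime q S := by
        rw [hqdef]
        exact Nat.Coprime.pow_left n (Nat.coprime_two_left.mpr hSodd)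
      have hqx : q ∣ x := hcop.dvd_of_dvd_mul_left hqdvd
      obtain ⟨k, hk⟩ := hqx
      have hk1 : 1 ≤ k := by
        rcases Nat.eq_zero_or_pos k with h0 | h0
        · subst h0; omega
        · exact h0
      have hpk : p = 1 + q * k := by omega
      rcases Nat.lt_or_ge m 4 with hm4 | hm4
      · have hm3 : m = 3 := by
          obtain ⟨j, hj⟩ := hmodd
          omega
        subst hm3
        rw [hpk] at hΦ
        exact cube_case q k hq2 hk1 hΦ
      · have h1 : (q + 1) ^ 4 ≤ p ^ m := by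
          calc (q + 1) ^ 4 ≤ p ^ 4 := Nat.pow_le_pow_left (by nlinarith) 4
            _ ≤ p ^ m := Nat.pow_le_pow_right (by omega) hm4
        nlinarith [Nat.pow_le_pow_left hq2 2, Nat.pow_le_pow_left hq2 3]

end Cfsg.Agent.S3166
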