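import Cfsg.Statements.S3171
-- import your own Cfsg.Agent.* helpers here
import Cfsg.Agent.Lib.Helper3.Syl24.Main
import Cfsg.Agent.Lib.Helper3.Golay.M24Order

set_option autoImplicit false
open Cfsg

namespace Cfsg.Agent.S3171

/-- Let P be a Sylow 2-subgroup of the Mathieu group of degree 24 and S the quotient of P by its centre. Then the centre of every maximal subgroup of S has order at most 8; S has an elementary abelian subgroup of order 64; and S has only one abelian subgroup of order 64. -/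
theorem result (P : Sylow 2 ↥Cfsg.M24) :
    (∀ M : Subgroup (↥(P : Subgroup ↥Cfsg.M24) ⧸ Subgroup.center ↥(P : Subgroup ↥Cfsg.M24)), IsCoatom M →
        Nat.card ↥(Subgroup.center ↥M) ≤ 8) ∧
      (∃ A : Subgroup (↥(P : Subgroup ↥Cfsg.M24) ⧸ Subgroup.center ↥(P : Subgroup ↥Cfsg.M24)),
        Cfsg.IsElementaryAbelian 2 A ∧ Nat.card ↥A = 64) ∧
      ∀ A B : Subgroup (↥(P : Subgroup ↥Cfsg.M24) ⧸ Subgroup.center ↥(P : Subgroup ↥Cfsg.M24)),
        IsMulCommutative ↥A → Nat.card ↥A = 64 → IsMulCommutative ↥B → Nat.card ↥B = 64 → A = B := by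
  have : Fact (Nat.Prime 2) := ⟨Nat.prime_two⟩
  have hcard : Nat.card Cfsg.M24 = 2 ^ 10 * 239085 := by
    rw [Cfsg.Agent.Lib.Helper3.Golay.card_M24]; norm_num
  have hodd : Odd 239085 := by decide
  have hfac := Cfsg.Agent.Lib.Helper3.Fus.factorization_two_eq hcard hodd
  have hcardS : Nat.card (Cfsg.Agent.Lib.Helper3.FusM24.D.S.subgroupOf Cfsg.M24) =
      2 ^ (Nat.card Cfsg.M24).factorization 2 := by
    rw [hfac, Nat.card_congr (Subgroup.subgroupOfEquivOfLe
      Cfsg.Agent.Lib.Helper3.FusM24.D.S_le).toEquiv, Cfsg.Agent.Lib.Helper3.FusM24.D.card]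
    rfl
  have e : ↥(P : Subgroup ↥Cfsg.M24) ≃* ↥Cfsg.Agent.Lib.Helper3.FusM24.D.S :=
    (Sylow.equiv P (Sylow.ofCard _ hcardS)).trans
      (Subgroup.subgroupOfEquivOfLe Cfsg.Agent.Lib.Helper3.FusM24.D.S_le)
  exact Cfsg.Agent.Lib.Helper3.Syl24.main (Cfsg.Agent.Lib.Helper3.Syl24.codedOf e)

end Cfsg.Agent.S3171
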