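import Cfsg.Statements.S3175
import Cfsg.Agent.Lib.Helper20.RuSylN
import Cfsg.Agent.Lib.Helper20.RuSylO
import Cfsg.Agent.Lib.Helper12.PComplement

set_option autoImplicit false
open Cfsg

namespace Cfsg.Agent.S3175

/-- Let G be a finite group whose Sylow 2-subgroup T has order at least 2^14 and whose upper central series has fourth term of order 16; let W be the centralizer in T of the third term, and suppose the Frattini subgroup of W has order at most 8 and lies in every subgroup of W of index at most 16. Then the normalizer of T in G has a normal 2-complement, and W is weakly closed in T with respect to G. -/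
theorem result {G : Type*} [Group G] [Finite G]
    (T : Sylow 2 G) (ha : 2 ^ 14 ≤ Nat.card ↥(T : Subgroup G))
    (hb : Nat.card ↥(Subgroup.upperCentralSeries ↥(T : Subgroup G) 4) = 16)
    (W : Subgroup ↥(T : Subgroup G))
    (hW : W = Subgroup.centralizer ((Subgroup.upperCentralSeries ↥(T : Subgroup G) 3 : Subgroup ↥(T : Subgroup G)) : Set ↥(T : Subgroup G)))
    (hc : Nat.card ↥(frattini ↥W) ≤ 8)
    (hd : ∀ U : Subgroup ↥W, U.index ≤ 16 → frattini ↥W ≤ U) :
    Cfsg.HasNormalPComplement 2 ↥(Subgroup.normalizer ((T : Subgroup G) : Set G)) ∧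
      Cfsg.IsWeaklyClosed (W.map (T : Subgroup G).subtype) (T : Subgroup G) := by
  have hF2 : Fact (Nat.Prime 2) := ⟨Nat.prime_two⟩
  have h : Cfsg.Agent.Lib.Helper20.RuSyl.Ctx ↥(T : Subgroup G) W :=
    ⟨T.isPGroup', ha, hb, hW, hc, hd⟩
  constructor
  · -- the normaliser of `T` has a normal `2`-complement
    let S : Sylow 2 ↥(Subgroup.normalizer ((T : Subgroup G) : Set G)) :=
      T.subtype Subgroup.le_normalizer
    have hn : ((T : Subgroup G).subgroupOf (Subgroup.normalizer ((T : Subgroup G) : Set G))).Normal :=
      Subgroup.normal_in_normalizer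
    refine Cfsg.Agent.Lib.Helper12.hasNormalPComplement_of_self_centralizing S
      ((T : Subgroup G).subgroupOf (Subgroup.normalizer ((T : Subgroup G) : Set G))) ?_ ?_
    · intro x hx
      have h1 := hx.1
      rwa [Sylow.coe_subtype] at h1
    · intro g hg
      set α : MulAut ↥(T : Subgroup G) := (T : Subgroup G).normalizerMonoidHom g with hα
      have hodd : Odd (orderOf g) := Nat.Coprime.odd_of_right hg
      have hαm : α ^ orderOf g = 1 := by
        rw [hα, ← map_pow, pow_orderOf_eq_one, map_one]
      have hfix := h.aut_eq_one α hodd hαm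
      rw [Subgroup.mem_centralizer_iff]
      intro x hx
      rw [SetLike.mem_coe, Subgroup.mem_subgroupOf] at hx
      have h1 := hfix ⟨(x : G), hx⟩
      have h2 := congrArg Subtype.val h1
      rw [hα, Subgroup.normalizerMonoidHom_apply_apply_coe] at h2
      apply Subtype.ext
      rw [Subgroup.coe_mul, Subgroup.coe_mul]
      calc (x : G) * (g : G) = ((g : G) * (x : G) * (g : G)⁻¹) * (g : G) := by rw [h2]
        _ = (g : G) * (x : G) := by group
  · -- `W` is weakly closed in `T`
    refine ⟨Subgroup.map_subtype_le W, fun g hg => ?_⟩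
    set ι := (T : Subgroup G).subtype with hι
    set c := (MulAut.conj g).toMonoidHom with hc'
    have hιinj : Function.Injective ι := Subgroup.subtype_injective _
    have hcinj : Function.Injective c := (MulAut.conj g).injective
    have hZ3le : ((Subgroup.upperCentralSeries ↥(T : Subgroup G) 3).map ι).map c ≤ (T : Subgroup G) :=
      le_trans (Subgroup.map_mono (Subgroup.map_mono h.Z3_le_W)) hg
    have hW1 : ((W.map ι).map c).comap ι = W := by
      refine h.eq_W_of_like _ ((((Subgroup.upperCentralSeries ↥(T : Subgroup G) 3).map ι).map c).comap ι)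
        ?_ ?_ ?_ ?_
      · have e1 : Nat.card ↥(((W.map ι).map c).comap ι) = Nat.card ↥((W.map ι).map c) :=
          Nat.card_congr (Subgroup.subgroupOfEquivOfLe hg).toEquiv
        rw [e1, Subgroup.card_map_of_injective hcinj, Subgroup.card_map_of_injective hιinj]
      · have e1 : Nat.card ↥((((Subgroup.upperCentralSeries ↥(T : Subgroup G) 3).map ι).map c).comap ι) =
            Nat.card ↥(((Subgroup.upperCentralSeries ↥(T : Subgroup G) 3).map ι).map c) :=
          Nat.card_congr (Subgroup.subgroupOfEquivOfLe hZ3le).toEquiv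
        rw [e1, Subgroup.card_map_of_injective hcinj, Subgroup.card_map_of_injective hιinj, h.card_Z3]
      · intro a haW
        rw [Subgroup.mem_comap] at haW ⊢
        obtain ⟨y, ⟨w0, hw0, rfl⟩, hya⟩ := haW
        refine ⟨ι (w0 * w0), ⟨w0 * w0, h.sq_mem_Z3 hw0, rfl⟩, ?_⟩
        rw [map_mul ι a a, ← hya, map_mul ι, map_mul c]
      · intro z hz w hw
        rw [Subgroup.mem_comap] at hz hw
        obtain ⟨y, ⟨z0, hz0, rfl⟩, hyz⟩ := hz
        obtain ⟨y', ⟨w0, hw0, rfl⟩, hyw⟩ := hw
        apply hιinj
        rw [map_mul ι, map_mul ι, ← hyz, ← hyw, ← map_mul c, ← map_mul c, ← map_mul ι, ← map_mul ι,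
          h.Z_comm_of_mem_W hz0 hw0]
    have hrange : (W.map ι).map c ≤ ι.range := by
      rw [hι, Subgroup.range_subtype]; exact hg
    calc (W.map ι).map c = (((W.map ι).map c).comap ι).map ι := (Subgroup.map_comap_eq_self hrange).symm
      _ = W.map ι := by rw [hW1]

end Cfsg.Agent.S3175
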