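import Cfsg.Statements.S3179
-- import your own Cfsg.Agent.* helpers here
import Mathlib
import Cfsg.Agent.Lib.Helper18.GL52
import Cfsg.Agent.Lib.Helper13.PSL2Spectrum
import Cfsg.Agent.Lib.Helper13.SL2
import Cfsg.Agent.Lib.Helper15.SuzukiLie
import Cfsg.Agent.Lib.Helper15.SuzukiOrder
import Cfsg.Agent.Lib.Helper14.Unitary3

set_option autoImplicit false
open Cfsg Cfsg.Agent.Lib.Helper18 Subgroup

namespace Cfsg.Agent.S3179

/-- Let X be a section of the general linear group GL(5, 2), that is, a quotient of a subgroup of it. If X is isomorphic to PSL(2, 2^n) for some n ≥ 2, to a Suzuki group over the field with 2^(2m+1) elements for some m ≥ 1, or to PSU(3, 2^n) for some n ≥ 2, then X is isomorphic to PSL(2, 4). -/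
theorem result {H : Subgroup (GL (Fin 5) (ZMod 2))}
    {K : Subgroup ↥H} [K.Normal]
    (hX : (∃ (n : ℕ) (F : Type) (_ : Field F) (_ : Fintype F), 2 ≤ n ∧ Fintype.card F = 2 ^ n ∧
        Nonempty (↥H ⧸ K ≃* Matrix.ProjectiveSpecialLinearGroup (Fin 2) F)) ∨
      (∃ (m : ℕ) (F : Type) (_ : Field F) (_ : Fintype F), 1 ≤ m ∧ Fintype.card F = 2 ^ (2 * m + 1) ∧
        Nonempty (↥H ⧸ K ≃* ↥(Cfsg.Lie.Sz F (2 ^ (m + 1))))) ∨
      (∃ (n : ℕ) (F : Type) (_ : Field F) (_ : Fintype F), 2 ≤ n ∧ Fintype.card F = 4 ^ n ∧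
        Nonempty (↥H ⧸ K ≃* Cfsg.PSU 3 F (2 ^ n)))) :
    ∃ (F : Type) (_ : Field F) (_ : Fintype F), Fintype.card F = 4 ∧
      Nonempty (↥H ⧸ K ≃* Matrix.ProjectiveSpecialLinearGroup (Fin 2) F) := by
  classical
  have hdvd : Nat.card (↥H ⧸ K) ∣ 9999360 := by
    rw [← card_GL52]; exact card_section_dvd H K
  rcases hX with ⟨n, F, _, _, hn, hF, ⟨e⟩⟩ | ⟨m, F, _, _, hm, hF, ⟨e⟩⟩ | ⟨n, F, _, _, hn, hF, ⟨e⟩⟩
  · have hchar : CharP F 2 := charP_two_of_card_two_pow hF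
    have hcard : Nat.card (↥H ⧸ K) = 2 ^ n * ((2 ^ n) ^ 2 - 1) := by
      rw [Nat.card_congr e.toEquiv, Nat.card_congr (pslTwoEquivSL (F := F)).toEquiv,
        Cfsg.Agent.Lib.Helper13.card_SL2, hF]
    rw [hcard] at hdvd
    have hn10 : n ≤ 10 := by
      by_contra h
      rw [not_le] at h
      have h1 : 2 ^ 11 ∣ 9999360 :=
        (Nat.pow_dvd_pow 2 h).trans ((dvd_mul_right _ _).trans hdvd)
      norm_num at h1
    interval_cases n
    · exact ⟨F, inferInstance, inferInstance, by rw [hF]; norm_num, ⟨e⟩⟩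
    · exfalso
      have : Fact (Nat.Prime 2) := ⟨Nat.prime_two⟩
      obtain ⟨x, hx⟩ := Cfsg.Agent.Lib.Helper13.exists_orderOf_eq_nonsplit (F := F) 2
      rw [hF] at hx
      have hx9 : orderOf x = 9 := by rw [hx]; norm_num
      obtain ⟨g, hg⟩ := exists_orderOf_eq_of_section H K (e.symm x)
      rw [MulEquiv.orderOf_eq, hx9] at hg
      exact orderOf_ne_nine_GL52 g hg
    all_goals (exfalso; norm_num at hdvd)
  · have hcard : Nat.card (↥H ⧸ K) =
        (2 ^ (2 * m + 1)) ^ 2 * ((2 ^ (2 * m + 1)) ^ 2 + 1) * (2 ^ (2 * m + 1) - 1) := by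
      rw [Nat.card_congr e.toEquiv,
        ← Nat.card_congr (Cfsg.Agent.Lib.Helper15.SuzukiLie.equivLie hF hm).toEquiv,
        Cfsg.Agent.Lib.Helper15.SuzukiOrder.card_Sz hF hm]
    rw [hcard] at hdvd
    have hm2 : m ≤ 2 := by
      by_contra h
      rw [not_le] at h
      have h0 : 2 ^ 11 ∣ (2 ^ (2 * m + 1)) ^ 2 := by
        rw [← pow_mul]; exact Nat.pow_dvd_pow 2 (by omega)
      have h1 : 2 ^ 11 ∣ 9999360 :=
        h0.trans ((dvd_mul_right _ _).trans ((dvd_mul_right _ _).trans hdvd))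
      norm_num at h1
    interval_cases m <;> (exfalso; norm_num at hdvd)
  · have hF' : Fintype.card F = (2 ^ n) ^ 2 := by
      rw [hF, ← pow_mul, mul_comm, pow_mul]; norm_num
    have hSU := Cfsg.Agent.Lib.Helper14.card_SU_mul hF' 3 (by norm_num)
    have hGU := Cfsg.Agent.Lib.Helper14.card_GU hF' 3
    have hZ := Cfsg.Agent.Lib.Helper14.card_center_SU hF' 3 (by norm_num)
    have hPSU : Nat.card (Cfsg.PSU 3 F (2 ^ n)) *
        Nat.card (Subgroup.center (Cfsg.SU 3 F (2 ^ n))) = Nat.card (Cfsg.SU 3 F (2 ^ n)) :=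
      (Subgroup.card_eq_card_quotient_mul_card_subgroup _).symm
    rw [hZ] at hPSU
    have hcardX : Nat.card (↥H ⧸ K) = Nat.card (Cfsg.PSU 3 F (2 ^ n)) :=
      Nat.card_congr e.toEquiv
    -- `|SU| ∣ 3 * 9999360`
    have hd3 : Nat.gcd 3 (2 ^ n + 1) ∣ 3 := Nat.gcd_dvd_left _ _
    have hSUdvd : Nat.card (Cfsg.SU 3 F (2 ^ n)) ∣ 29998080 := by
      rw [← hPSU, ← hcardX]
      exact (Nat.mul_dvd_mul hdvd hd3).trans (by norm_num)
    -- `|SU| = q³ (q² - 1)(q³ + 1)`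
    have hSUeq : Nat.card (Cfsg.SU 3 F (2 ^ n)) =
        (2 ^ n) ^ 3 * (((2 ^ n) ^ 2 - 1) * ((2 ^ n) ^ 3 + 1)) := by
      apply Nat.eq_of_mul_eq_mul_left (show 0 < 2 ^ n + 1 by positivity)
      rw [hSU, hGU]
      simp [Finset.prod_range_succ]
      ring
    rw [hSUeq] at hSUdvd
    have hn3 : n ≤ 3 := by
      by_contra h
      rw [not_le] at h
      have h0 : 2 ^ 11 ∣ (2 ^ n) ^ 3 := by
        rw [← pow_mul]; exact Nat.pow_dvd_pow 2 (by omega)
      have h1 : 2 ^ 11 ∣ 29998080 := h0.trans ((dvd_mul_right _ _).trans hSUdvd)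
      norm_num at h1
    interval_cases n <;> (exfalso; norm_num at hSUdvd)

end Cfsg.Agent.S3179
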