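import Cfsg.Statements.S3180
-- import your own Cfsg.Agent.* helpers here
import Mathlib
import Cfsg.Agent.Lib.Helper18.Basic

set_option autoImplicit false
open Cfsg

namespace Cfsg.Agent.S3180

/-- Let P be a Sylow p-subgroup of a finite group J and P₁ a subgroup of P that is weakly closed in P with respect to J. If J acts on a set and two points, each fixed by every element of P₁, lie in one J-orbit, then they lie in one orbit of the normalizer of P₁ in J. -/
theorem result {J : Type*} [Group J] [Finite J]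
    {p : ℕ} [Fact p.Prime] (P : Sylow p J) (P₁ : Subgroup J) (hW : Cfsg.IsWeaklyClosed P₁ (P : Subgroup J))
    {Ω : Type*} [MulAction J Ω] (x y : Ω) (hx : ∀ g ∈ P₁, g • x = x) (hy : ∀ g ∈ P₁, g • y = y)
    (hc : ∃ g : J, g • x = y) :
    ∃ g ∈ Subgroup.normalizer (P₁ : Set J), g • x = y := by
  obtain ⟨g, hg⟩ := hc
  obtain ⟨hP₁P, hwc⟩ := hW
  have hP₁ : IsPGroup p P₁ := P.2.to_le hP₁P
  set S : Subgroup J := MulAction.stabilizer J y with hS
  set B : Subgroup J := P₁.map (MulAut.conj g).toMonoidHom with hB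
  have hAS : P₁ ≤ S := fun u hu => by
    rw [hS, MulAction.mem_stabilizer_iff]; exact hy u hu
  have hBS : B ≤ S := by
    rintro _ ⟨u, hu, rfl⟩
    rw [hS, MulAction.mem_stabilizer_iff]
    show (g * u * g⁻¹) • y = y
    rw [← hg, mul_smul, mul_smul, inv_smul_smul, hx u hu]
  have hBp : IsPGroup p B := hP₁.map _
  obtain ⟨h, hhS, Q, hQp, -, hAQ, hBQ⟩ :=
    Cfsg.Agent.Lib.Helper18.exists_conj_pgroup_of_le S P₁ B hAS hBS hP₁ hBp
  obtain ⟨R, hR⟩ := hQp.exists_le_sylow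
  obtain ⟨k, hk⟩ := MulAction.exists_smul_eq J P R
  -- conjugation by k⁻¹ sends P₁ into P
  have h1 : P₁.map (MulAut.conj k⁻¹).toMonoidHom ≤ (P : Subgroup J) := by
    rintro _ ⟨u, hu, rfl⟩
    have : u ∈ ((k • P : Sylow p J) : Subgroup J) := by rw [hk]; exact hR (hAQ hu)
    rw [Cfsg.Agent.Lib.Helper18.mem_sylow_smul_iff] at this
    simpa using this
  have h2 : P₁.map (MulAut.conj (k⁻¹ * h * g)).toMonoidHom ≤ (P : Subgroup J) := by
    rintro _ ⟨u, hu, rfl⟩
    have hb : g * u * g⁻¹ ∈ B := ⟨u, hu, rfl⟩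
    have : h * (g * u * g⁻¹) * h⁻¹ ∈ ((k • P : Sylow p J) : Subgroup J) := by
      rw [hk]; exact hR (hBQ _ hb)
    rw [Cfsg.Agent.Lib.Helper18.mem_sylow_smul_iff] at this
    have e : (MulAut.conj (k⁻¹ * h * g)).toMonoidHom u = k⁻¹ * (h * (g * u * g⁻¹) * h⁻¹) * k := by
      simp only [MulEquiv.coe_toMonoidHom, MulAut.conj_apply]; group
    rw [e]; exact this
  have n1 : k⁻¹ ∈ Subgroup.normalizer (P₁ : Set J) :=
    Subgroup.mem_normalizer_iff_map_conj_eq.mpr (hwc _ h1)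
  have n2 : k⁻¹ * h * g ∈ Subgroup.normalizer (P₁ : Set J) :=
    Subgroup.mem_normalizer_iff_map_conj_eq.mpr (hwc _ h2)
  refine ⟨h * g, ?_, ?_⟩
  · have : h * g = (k⁻¹)⁻¹ * (k⁻¹ * h * g) := by group
    rw [this]
    exact Subgroup.mul_mem _ (Subgroup.inv_mem _ n1) n2
  · rw [mul_smul, hg]
    exact MulAction.mem_stabilizer_iff.mp hhS

end Cfsg.Agent.S3180
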