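import Cfsg.Statements.S3183
-- import your own Cfsg.Agent.* helpers here
import Mathlib
import Cfsg.Agent.Lib.Helper18.Basic

set_option autoImplicit false
open Cfsg

namespace Cfsg.Agent.S3183

/-- Elementwise form of the hypothesis. -/
theorem hyp_elementwise {G : Type*} [Group G]
    (hCI : ∀ S T : Sylow 2 G, S ≠ T → ∃ U : Sylow 2 G,
      (S : Subgroup G) ⊓ (T : Subgroup G) ≤ (Subgroup.center ↥(U : Subgroup G)).map (U : Subgroup G).subtype)
    (S T : Sylow 2 G) (hST : S ≠ T) :
    ∃ U : Sylow 2 G, ∀ d ∈ (S : Subgroup G) ⊓ (T : Subgroup G),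
      d ∈ (U : Subgroup G) ∧ ∀ u ∈ (U : Subgroup G), u * d = d * u := by
  obtain ⟨U, hU⟩ := hCI S T hST
  refine ⟨U, fun d hd => ?_⟩
  obtain ⟨z, hz, rfl⟩ := hU hd
  refine ⟨z.2, fun u hu => ?_⟩
  have := Subgroup.mem_center_iff.mp hz ⟨u, hu⟩
  exact congrArg Subtype.val this

theorem mem_map_center {G : Type*} [Group G] (S : Subgroup G) (d : G) (hd : d ∈ S)
    (h : ∀ s ∈ S, s * d = d * s) : d ∈ (Subgroup.center ↥S).map S.subtype := by
  refine ⟨⟨d, hd⟩, ?_, rfl⟩
  show (⟨d, hd⟩ : S) ∈ Subgroup.center S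
  rw [Subgroup.mem_center_iff]
  intro g
  exact Subtype.ext (h g.1 g.2)

/-- Key lemma: the intersection of two distinct Sylow 2-subgroups is central in the first. -/
theorem key {G : Type*} [Group G] [Finite G]
    (hCI : ∀ S T : Sylow 2 G, S ≠ T → ∃ U : Sylow 2 G,
      (S : Subgroup G) ⊓ (T : Subgroup G) ≤ (Subgroup.center ↥(U : Subgroup G)).map (U : Subgroup G).subtype) :
    ∀ (n : ℕ) (S T : Sylow 2 G), S ≠ T →
      Nat.card G - Nat.card ↥((S : Subgroup G) ⊓ (T : Subgroup G)) = n →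
      ∀ d ∈ (S : Subgroup G) ⊓ (T : Subgroup G), ∀ s ∈ (S : Subgroup G), s * d = d * s := by
  have : Fact (Nat.Prime 2) := ⟨Nat.prime_two⟩
  intro n
  induction n using Nat.strong_induction_on with
  | _ n ih =>
  intro S T hST hn d hd s hs
  set D : Subgroup G := (S : Subgroup G) ⊓ (T : Subgroup G) with hD
  obtain ⟨U, hU⟩ := hyp_elementwise hCI S T hST
  set N : Subgroup G := Subgroup.normalizer (D : Set G) with hN
  have hDS : D ≤ (S : Subgroup G) := inf_le_left
  have hDp : IsPGroup 2 D := S.2.to_le hDS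
  -- D ≠ S
  have hDneS : ¬ ((S : Subgroup G) ≤ D) := by
    intro hle
    apply hST
    have h1 : (S : Subgroup G) ≤ (T : Subgroup G) := hle.trans inf_le_right
    exact Sylow.ext (S.is_maximal' T.2 h1).symm
  -- S ⊓ N properly contains D
  have hmod := Cfsg.Agent.Lib.Helper18.relIndex_inf_normalizer_modEq (p := 2) hDp hDS
  have hrel_ne_one : D.relIndex (S : Subgroup G) ≠ 1 := by
    intro h1
    exact hDneS (Subgroup.relIndex_eq_one.mp h1)
  have hrel_even : 2 ∣ D.relIndex (S : Subgroup G) := by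
    obtain ⟨k, hk⟩ := S.2.exists_card_eq
    have hdvd : D.relIndex (S : Subgroup G) ∣ 2 ^ k := by
      rw [← hk]; exact Subgroup.relIndex_dvd_card D (S : Subgroup G)
    obtain ⟨j, -, hj⟩ := (Nat.dvd_prime_pow Nat.prime_two).mp hdvd
    rw [hj] at hrel_ne_one ⊢
    cases j with
    | zero => exact absurd rfl hrel_ne_one
    | succ j => exact dvd_pow_self 2 (Nat.succ_ne_zero j)
  have hrelN_even : 2 ∣ D.relIndex ((S : Subgroup G) ⊓ N) := by
    rw [← Nat.modEq_zero_iff_dvd] at hrel_even ⊢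
    exact hmod.trans hrel_even
  have hSN_not_le : ¬ ((S : Subgroup G) ⊓ N ≤ D) := by
    intro hle
    have : D.relIndex ((S : Subgroup G) ⊓ N) = 1 := Subgroup.relIndex_eq_one.mpr hle
    rw [this] at hrelN_even
    norm_num at hrelN_even
  -- U ≤ N and U centralizes D
  have hUN : (U : Subgroup G) ≤ N := by
    intro u hu
    rw [hN, Subgroup.mem_normalizer_iff]
    intro x
    constructor
    · intro hx
      have : u * x * u⁻¹ = x := by
        rw [(hU x hx).2 u hu]; group
      rw [this]; exact hx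
    · intro hx
      have h2 := (hU _ hx).2 u hu
      have : x = u * x * u⁻¹ := by
        have h3 : u * (u * x * u⁻¹) = (u * x * u⁻¹) * u := h2
        have : u * x = u * x * u⁻¹ * u := by group
        have h4 : u * (u * x * u⁻¹) = u * x := by rw [h3]; group
        exact (mul_left_cancel h4).symm
      rw [this]; exact hx
  -- find S₂
  obtain ⟨h, hhN, Q, hQp, hQN, hAQ, hBQ⟩ :=
    Cfsg.Agent.Lib.Helper18.exists_conj_pgroup_of_le N ((S : Subgroup G) ⊓ N) (U : Subgroup G)
      inf_le_right hUN (S.2.to_le inf_le_left) U.2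
  set S₂ : Sylow 2 G := h • U with hS₂
  have hS₂Q : (S₂ : Subgroup G) ≤ Q := by
    intro x hx
    rw [hS₂, Cfsg.Agent.Lib.Helper18.mem_sylow_smul_iff] at hx
    have := hBQ _ hx
    have e : h * (h⁻¹ * x * h) * h⁻¹ = x := by group
    rwa [e] at this
  have hQS₂ : Q = (S₂ : Subgroup G) := S₂.is_maximal' hQp hS₂Q
  have hSN_S₂ : (S : Subgroup G) ⊓ N ≤ (S₂ : Subgroup G) := hQS₂ ▸ hAQ
  -- S₂ centralizes D
  have hS₂cent : ∀ x ∈ (S₂ : Subgroup G), ∀ e ∈ D, x * e = e * x := by
    intro x hx e he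
    rw [hS₂, Cfsg.Agent.Lib.Helper18.mem_sylow_smul_iff] at hx
    -- h⁻¹ e h ∈ D since h ∈ N
    have he' : h⁻¹ * e * h ∈ D := by
      have := (Subgroup.mem_normalizer_iff.mp (Subgroup.inv_mem _ hhN) e).mp he
      simpa using this
    have hc := (hU _ he').2 _ hx
    -- hc : h⁻¹ x h * (h⁻¹ e h) = (h⁻¹ e h) * (h⁻¹ x h)
    have e1 : x * e = h * ((h⁻¹ * x * h) * (h⁻¹ * e * h)) * h⁻¹ := by group
    have e2 : e * x = h * ((h⁻¹ * e * h) * (h⁻¹ * x * h)) * h⁻¹ := by group
    rw [e1, e2, hc]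
  by_cases hS₂S : S₂ = S
  · have := hS₂cent s (hS₂S ▸ hs) d hd
    exact this
  · -- induction
    have hDle : D ≤ (S : Subgroup G) ⊓ (S₂ : Subgroup G) :=
      le_inf hDS ((le_inf hDS Subgroup.le_normalizer).trans hSN_S₂)
    have hlt : Nat.card D < Nat.card ↥((S : Subgroup G) ⊓ (S₂ : Subgroup G)) := by
      have hle1 : (S : Subgroup G) ⊓ N ≤ (S : Subgroup G) ⊓ (S₂ : Subgroup G) := le_inf inf_le_left hSN_S₂
      by_contra hcon
      rw [not_lt] at hcon
      have := Subgroup.eq_of_le_of_card_ge hDle hcon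
      apply hSN_not_le
      rw [this]; exact hle1
    have hcardle : Nat.card ↥((S : Subgroup G) ⊓ (S₂ : Subgroup G)) ≤ Nat.card G :=
      Subgroup.card_le_card_group _
    have hmeasure : Nat.card G - Nat.card ↥((S : Subgroup G) ⊓ (S₂ : Subgroup G)) < n := by
      rw [← hn]; omega
    exact ih _ hmeasure S S₂ (fun h => hS₂S h.symm) rfl d (hDle hd) s hs


/-- Let G be a finite group in which the intersection of any two distinct Sylow 2-subgroups is contained in the centre of some Sylow 2-subgroup, and let S be a Sylow 2-subgroup. Then for every x in S the centralizer of x in S is a Sylow 2-subgroup of the centralizer of x in G (no 2-subgroup centralizing x is larger), and for every other Sylow 2-subgroup T the intersection S ∩ T lies in both the centre of S and the centre of T. -/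
theorem result {G : Type*} [Group G] [Finite G]
    (hCI : ∀ S T : Sylow 2 G, S ≠ T → ∃ U : Sylow 2 G,
      (S : Subgroup G) ⊓ (T : Subgroup G) ≤ (Subgroup.center ↥(U : Subgroup G)).map (U : Subgroup G).subtype)
    (S : Sylow 2 G) :
    (∀ x ∈ (S : Subgroup G), ∀ P : Subgroup G, IsPGroup 2 ↥P → P ≤ Subgroup.centralizer ({x} : Set G) →
        Nat.card ↥P ≤ Nat.card ↥((S : Subgroup G) ⊓ Subgroup.centralizer ({x} : Set G))) ∧
    (∀ T : Sylow 2 G, T ≠ S →
        (S : Subgroup G) ⊓ (T : Subgroup G) ≤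
          (Subgroup.center ↥(S : Subgroup G)).map (S : Subgroup G).subtype ⊓
            (Subgroup.center ↥(T : Subgroup G)).map (T : Subgroup G).subtype) := by
  have : Fact (Nat.Prime 2) := ⟨Nat.prime_two⟩
  have K := key hCI
  constructor
  · intro x hx P hP hPC
    -- Sylow of G containing a conjugate... choose Sylow T ⊇ P' where P' ⊇ P joined with C_S(x)
    set C : Subgroup G := Subgroup.centralizer ({x} : Set G) with hC
    obtain ⟨h, hhC, Q, hQp, hQC, hAQ, hBQ⟩ :=
      Cfsg.Agent.Lib.Helper18.exists_conj_pgroup_of_le C ((S : Subgroup G) ⊓ C) P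
        inf_le_right hPC (S.2.to_le inf_le_left) hP
    -- |P| ≤ |Q|
    have hPQ : Nat.card P ≤ Nat.card Q := by
      have hmap : P.map (MulAut.conj h).toMonoidHom ≤ Q := by
        rintro _ ⟨b, hb, rfl⟩
        exact hBQ b hb
      have h1 : Nat.card (P.map (MulAut.conj h).toMonoidHom) = Nat.card P :=
        Nat.card_congr (P.equivMapOfInjective _ (MulAut.conj h).injective).toEquiv.symm
      rw [← h1]
      exact Subgroup.card_le_of_le hmap
    refine hPQ.trans ?_
    obtain ⟨T, hT⟩ := hQp.exists_le_sylow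
    have hxC : x ∈ C := Subgroup.mem_centralizer_iff.mpr (fun y hy => by rw [Set.mem_singleton_iff.mp hy])
    have hxQ : x ∈ Q := hAQ ⟨hx, hxC⟩
    by_cases hTS : T = S
    · apply Subgroup.card_le_of_le
      exact le_inf (hTS ▸ hT) hQC
    · -- x ∈ S ⊓ T central in both
      have hxST : x ∈ (S : Subgroup G) ⊓ (T : Subgroup G) := ⟨hx, hT hxQ⟩
      have hxTS : x ∈ (T : Subgroup G) ⊓ (S : Subgroup G) := ⟨hT hxQ, hx⟩
      have c1 := K _ S T (fun h => hTS h.symm) rfl x hxST
      have hSC : (S : Subgroup G) ≤ C := by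
        intro s hs
        rw [hC, Subgroup.mem_centralizer_iff]
        intro y hy
        rw [Set.mem_singleton_iff] at hy
        rw [hy]; exact (c1 s hs).symm
      have hcard : Nat.card Q ≤ Nat.card (T : Subgroup G) := Subgroup.card_le_of_le hT
      have hST : Nat.card (T : Subgroup G) = Nat.card (S : Subgroup G) := by
        rw [Sylow.card_eq_multiplicity, Sylow.card_eq_multiplicity]
      rw [inf_eq_left.mpr hSC, ← hST]
      exact hcard
  · intro T hTS d hd
    have hd' : d ∈ (T : Subgroup G) ⊓ (S : Subgroup G) := ⟨hd.2, hd.1⟩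
    exact ⟨mem_map_center _ d hd.1 (K _ S T (fun h => hTS h.symm) rfl d hd),
      mem_map_center _ d hd.2 (K _ T S hTS rfl d hd')⟩

end Cfsg.Agent.S3183
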