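import Cfsg.Statements.S3184
import Cfsg.Agent.S0215
import Cfsg.Agent.Lib.Helper29.ZStarCor
import Cfsg.Agent.Lib.Helper29.Frobenius

set_option autoImplicit false
open Cfsg Subgroup
open scoped Pointwise

namespace Cfsg.Agent.S3184

universe u
variable {G : Type u} [Group G]

/-- in a cyclic group an element of order two is unique -/
theorem eq_of_orderOf_two_of_isCyclic {C : Type*} [Group C] [Finite C] [IsCyclic C] (x y : C)
    (hx : orderOf x = 2) (hy : orderOf y = 2) : x = y := by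
  classical
  haveI : Fintype C := Fintype.ofFinite C
  have h := IsCyclic.card_pow_eq_one_le (α := C) (n := 2) (by norm_num)
  by_contra hne
  have hx1 : x ≠ 1 := by rintro rfl; rw [orderOf_one] at hx; omega
  have hy1 : y ≠ 1 := by rintro rfl; rw [orderOf_one] at hy; omega
  have hsub : ({1, x, y} : Finset C) ⊆ Finset.univ.filter (fun a : C => a ^ 2 = 1) := by
    intro a ha
    simp only [Finset.mem_insert, Finset.mem_singleton] at ha
    simp only [Finset.mem_filter, Finset.mem_univ, true_and]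
    rcases ha with rfl | rfl | rfl
    · simp
    · rw [← hx]; exact pow_orderOf_eq_one _
    · rw [← hy]; exact pow_orderOf_eq_one _
  have hcard : ({1, x, y} : Finset C).card = 3 := by
    rw [Finset.card_insert_of_notMem, Finset.card_insert_of_notMem, Finset.card_singleton]
    · simpa using hne
    · simp only [Finset.mem_insert, Finset.mem_singleton, not_or]
      exact ⟨fun h => hx1 h.symm, fun h => hy1 h.symm⟩
  have := Finset.card_le_card hsub
  omega

section
variable [Finite G] (S : Sylow 2 G) (C : Subgroup ↥(S : Subgroup G)) (hCc : IsCyclic ↥C)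
  (hCh : C.Characteristic) (c : ↥(S : Subgroup G)) (hc : c ∈ C) (hc2 : orderOf c = 2)
include hCc hCh hc hc2

/-- `N_G(S)` fixes `c`. -/
theorem conj_eq_of_mem_normalizer (n : G) (hn : n ∈ normalizer ((S : Subgroup G) : Set G)) :
    n * (c : G) * n⁻¹ = c := by
  set φ : MulAut ↥(S : Subgroup G) := (S : Subgroup G).normalizerMonoidHom ⟨n, hn⟩ with hφ
  have h1 : φ c ∈ C := by
    have h := hCh.fixed φ
    rw [← h] at hc
    exact Subgroup.mem_comap.mp hc
  have h2 : orderOf (φ c) = 2 := by rw [MulEquiv.orderOf_eq]; exact hc2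
  have h3 : (⟨φ c, h1⟩ : C) = ⟨c, hc⟩ :=
    eq_of_orderOf_two_of_isCyclic _ _ (by rw [Subgroup.orderOf_mk]; exact h2)
      (by rw [Subgroup.orderOf_mk]; exact hc2)
  have h4 : φ c = c := congrArg Subtype.val h3
  have h5 : ((φ c : ↥(S : Subgroup G)) : G) = c := congrArg Subtype.val h4
  have h6 : ((φ c : ↥(S : Subgroup G)) : G) = n * c * n⁻¹ := rfl
  rw [← h6, h5]

/-- `c` is central in `S`. -/
theorem comm_of_mem (s : G) (hs : s ∈ (S : Subgroup G)) : s * (c : G) = c * s := by
  have h := conj_eq_of_mem_normalizer S C hCc hCh c hc hc2 s (le_normalizer hs)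
  calc s * (c : G) = (s * c * s⁻¹) * s := by group
    _ = c * s := by rw [h]

variable (hCI : ∀ S T : Sylow 2 G, S ≠ T → ∃ U : Sylow 2 G,
      (S : Subgroup G) ⊓ (T : Subgroup G) ≤
        (Subgroup.center ↥(U : Subgroup G)).map (U : Subgroup G).subtype)
include hCI

theorem key_aux (g : G) (hcT : (c : G) ∈ (g • S : Sylow 2 G))
    (hdS : g * (c : G) * g⁻¹ ∈ (S : Subgroup G)) : g * (c : G) * g⁻¹ = c := by
  have : Fact (Nat.Prime 2) := ⟨Nat.prime_two⟩
  by_cases hTS : g • S = S
  · exact conj_eq_of_mem_normalizer S C hCc hCh c hc hc2 g (Sylow.smul_eq_iff_mem_normalizer.mp hTS)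
  · obtain ⟨U, hU⟩ := hCI S (g • S) (fun h => hTS h.symm)
    have hdT : g * (c : G) * g⁻¹ ∈ (g • S : Sylow 2 G) := by
      rw [Cfsg.Agent.Lib.Helper29.mem_smul_sylow_iff]
      have : g⁻¹ * (g * (c : G) * g⁻¹) * g = c := by group
      rw [this]; exact c.2
    -- elements of the image of the centre of `U` centralize `U`
    have hcen : ∀ x : G, x ∈ (Subgroup.center ↥(U : Subgroup G)).map (U : Subgroup G).subtype →
        x ∈ centralizer ((U : Subgroup G) : Set G) := by
      rintro _ ⟨x', hx', rfl⟩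
      rw [mem_centralizer_iff]
      intro u hu
      have := Subgroup.mem_center_iff.mp hx' ⟨u, hu⟩
      exact congrArg Subtype.val this
    have hcU : (c : G) ∈ centralizer ((U : Subgroup G) : Set G) :=
      hcen _ (hU (Subgroup.mem_inf.mpr ⟨c.2, hcT⟩))
    have hdU : g * (c : G) * g⁻¹ ∈ centralizer ((U : Subgroup G) : Set G) :=
      hcen _ (hU (Subgroup.mem_inf.mpr ⟨hdS, hdT⟩))
    obtain ⟨h, hh⟩ := MulAction.exists_smul_eq G S U
    -- the characteristic involution of `U`
    have hfix : ∀ m ∈ normalizer ((U : Subgroup G) : Set G),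
        m * (h * (c : G) * h⁻¹) * m⁻¹ = h * (c : G) * h⁻¹ := by
      intro m hm
      have hm' : h⁻¹ * m * h ∈ normalizer ((S : Subgroup G) : Set G) := by
        apply Sylow.smul_eq_iff_mem_normalizer.mp
        have h1 : m • U = U := Sylow.smul_eq_iff_mem_normalizer.mpr hm
        rw [← hh] at h1
        calc (h⁻¹ * m * h) • S = h⁻¹ • (m • (h • S)) := by rw [mul_smul, mul_smul]
          _ = h⁻¹ • (h • S) := by rw [h1]
          _ = S := by rw [inv_smul_smul]
      have h2 := conj_eq_of_mem_normalizer S C hCc hCh c hc hc2 _ hm'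
      calc m * (h * (c : G) * h⁻¹) * m⁻¹ = h * ((h⁻¹ * m * h) * c * (h⁻¹ * m * h)⁻¹) * h⁻¹ := by group
        _ = h * (c : G) * h⁻¹ := by rw [h2]
    have hcUc : h * (c : G) * h⁻¹ ∈ centralizer ((U : Subgroup G) : Set G) := by
      rw [mem_centralizer_iff]
      intro u hu
      have hu' : h⁻¹ * u * h ∈ (S : Subgroup G) := by
        rw [← hh] at hu
        exact (Cfsg.Agent.Lib.Helper29.mem_smul_sylow_iff h u S).mp hu
      have h3 := comm_of_mem S C hCc hCh c hc hc2 _ hu'
      calc u * (h * (c : G) * h⁻¹) = h * ((h⁻¹ * u * h) * c) * h⁻¹ := by group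
        _ = h * (c * (h⁻¹ * u * h)) * h⁻¹ := by rw [h3]
        _ = h * (c : G) * h⁻¹ * u := by group
    -- Burnside
    have hb1 : (c : G) = h * (c : G) * h⁻¹ := by
      obtain ⟨n, hn, hn'⟩ := Sylow.conj_eq_normalizer_conj_of_mem_centralizer U
        (h * (c : G) * h⁻¹) h hcUc (by
          have : h⁻¹ * (h * (c : G) * h⁻¹) * h = c := by group
          rw [this]; exact hcU)
      have h4 : h⁻¹ * (h * (c : G) * h⁻¹) * h = c := by group
      rw [h4] at hn'
      have h5 := hfix n⁻¹ (inv_mem hn)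
      rw [inv_inv] at h5
      exact hn'.trans h5
    have hb2 : g * (c : G) * g⁻¹ = h * (c : G) * h⁻¹ := by
      obtain ⟨n, hn, hn'⟩ := Sylow.conj_eq_normalizer_conj_of_mem_centralizer U
        (h * (c : G) * h⁻¹) (h * g⁻¹) hcUc (by
          have : (h * g⁻¹)⁻¹ * (h * (c : G) * h⁻¹) * (h * g⁻¹) = g * c * g⁻¹ := by group
          rw [this]; exact hdU)
      have h4 : (h * g⁻¹)⁻¹ * (h * (c : G) * h⁻¹) * (h * g⁻¹) = g * c * g⁻¹ := by group
      rw [h4] at hn'
      have h5 := hfix n⁻¹ (inv_mem hn)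
      rw [inv_inv] at h5
      exact hn'.trans h5
    rw [hb2, ← hb1]

theorem key (g : G) (hdS : g * (c : G) * g⁻¹ ∈ (S : Subgroup G)) : g * (c : G) * g⁻¹ = c := by
  have : Fact (Nat.Prime 2) := ⟨Nat.prime_two⟩
  set d : G := g * (c : G) * g⁻¹ with hd
  -- `c` commutes with `d`
  have hcd : d * (c : G) = c * d := comm_of_mem S C hCc hCh c hc hc2 d hdS
  set K : Subgroup G := centralizer ({d} : Set G) with hK
  have hKmem : ∀ x : G, x ∈ K ↔ x * d = d * x := fun x => by
    rw [hK]; exact mem_centralizer_singleton_iff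
  have hcK : (c : G) ∈ K := by
    rw [hKmem]; exact hcd.symm
  have hTK : ((g • S : Sylow 2 G) : Subgroup G) ≤ K := by
    intro t ht
    have ht' : g⁻¹ * t * g ∈ (S : Subgroup G) :=
      (Cfsg.Agent.Lib.Helper29.mem_smul_sylow_iff g t S).mp ht
    have h3 := comm_of_mem S C hCc hCh c hc hc2 _ ht'
    rw [hKmem]
    calc t * d = g * ((g⁻¹ * t * g) * c) * g⁻¹ := by rw [hd]; group
      _ = g * (c * (g⁻¹ * t * g)) * g⁻¹ := by rw [h3]
      _ = d * t := by rw [hd]; group
  -- Sylow theory inside `K`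
  have hc2G : orderOf (c : G) = 2 := by rw [Subgroup.orderOf_coe]; exact hc2
  have hP0 : IsPGroup 2 (zpowers (⟨c, hcK⟩ : K)) := by
    apply IsPGroup.of_card (n := 1)
    rw [Nat.card_zpowers, pow_one, Subgroup.orderOf_mk (c : G) hcK]
    exact hc2G
  obtain ⟨Q, hQ⟩ := hP0.exists_le_sylow
  obtain ⟨k, hk⟩ := MulAction.exists_smul_eq K ((g • S : Sylow 2 G).subtype hTK) Q
  have hcQ0 : (⟨c, hcK⟩ : K) ∈ (Q : Subgroup K) := hQ (mem_zpowers _)
  have hcQ : k⁻¹ * (⟨c, hcK⟩ : K) * k ∈ ((g • S : Sylow 2 G).subtype hTK) := by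
    rw [← hk] at hcQ0
    exact (Cfsg.Agent.Lib.Helper29.mem_smul_sylow_iff k _ _).mp hcQ0
  have hcQ' : ((k : G))⁻¹ * (c : G) * (k : G) ∈ ((g • S : Sylow 2 G) : Subgroup G) := by
    have h0 : k⁻¹ * (⟨c, hcK⟩ : K) * k ∈
        ((g • S : Sylow 2 G) : Subgroup G).subgroupOf K := hcQ
    exact Subgroup.mem_subgroupOf.mp h0
  have hkd : (k : G) * d = d * k := (hKmem _).mp k.2
  -- apply `key_aux` to `k * g`
  have h1 : (c : G) ∈ (((k : G) * g) • S : Sylow 2 G) := by
    rw [Cfsg.Agent.Lib.Helper29.mem_smul_sylow_iff]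
    have h2 := (Cfsg.Agent.Lib.Helper29.mem_smul_sylow_iff g _ S).mp hcQ'
    have : ((k : G) * g)⁻¹ * (c : G) * ((k : G) * g) = g⁻¹ * ((k : G)⁻¹ * c * k) * g := by group
    rw [this]; exact h2
  have h3 : ((k : G) * g) * (c : G) * ((k : G) * g)⁻¹ = d := by
    calc ((k : G) * g) * (c : G) * ((k : G) * g)⁻¹ = (k : G) * d * (k : G)⁻¹ := by rw [hd]; group
      _ = d := by rw [hkd]; group
  have h4 := key_aux S C hCc hCh c hc hc2 hCI ((k : G) * g) h1 (by rw [h3]; exact hdS)
  rw [h3] at h4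
  exact h4

end

/-- Let G be a finite group in which the intersection of any two distinct Sylow 2-subgroups is contained in the centre of some Sylow 2-subgroup, and let S be a Sylow 2-subgroup. If C is a nontrivial cyclic characteristic subgroup of S, then the involution of C is central modulo the largest normal subgroup of odd order of G: each of its conjugates has the same image in G/O(G). -/
theorem result {G : Type*} [Group G] [Finite G]
    (hCI : ∀ S T : Sylow 2 G, S ≠ T → ∃ U : Sylow 2 G,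
      (S : Subgroup G) ⊓ (T : Subgroup G) ≤ (Subgroup.center ↥(U : Subgroup G)).map (U : Subgroup G).subtype)
    (S : Sylow 2 G) (C : Subgroup ↥(S : Subgroup G)) (hC : C ≠ ⊥) (hCc : IsCyclic ↥C) (hCh : C.Characteristic)
    (c : ↥(S : Subgroup G)) (hc : c ∈ C) (hc2 : orderOf c = 2) :
    ∀ g : G, (QuotientGroup.mk (s := Cfsg.oddCore G) (g * (c : G) * g⁻¹)) =
      QuotientGroup.mk (s := Cfsg.oddCore G) (c : G) := by
  intro g
  have hc2G : orderOf (c : G) = 2 := by rw [Subgroup.orderOf_coe]; exact hc2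
  obtain ⟨N, hNn, hNodd, hN⟩ := Cfsg.Agent.S0215.result S (c : G) hc2G c.2
    (fun g hg => key S C hCc hCh c hc hc2 hCI g hg)
  have hle := Cfsg.Agent.Lib.Helper29.ZStar.le_oddCore N hNn hNodd
  rw [QuotientGroup.eq]
  have hcc : (c : G) * c = 1 := by
    have h := pow_orderOf_eq_one (c : G)
    rw [hc2G, pow_two] at h
    exact h
  have hcinv : (c : G)⁻¹ = c := inv_eq_of_mul_eq_one_left hcc
  have h1 := hle (hN g)
  have h2 : (g * (c : G) * g⁻¹)⁻¹ * c = ((c : G) * g * (c : G)⁻¹ * g⁻¹)⁻¹ := by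
    have e1 : (g * (c : G) * g⁻¹)⁻¹ * c = g * (c : G)⁻¹ * g⁻¹ * c := by group
    have e2 : ((c : G) * g * (c : G)⁻¹ * g⁻¹)⁻¹ = g * (c : G) * g⁻¹ * (c : G)⁻¹ := by group
    rw [e1, e2, hcinv]
  rw [h2]
  exact inv_mem h1

end Cfsg.Agent.S3184
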