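import Cfsg.Statements.S3190
-- import your own Cfsg.Agent.* helpers here
import Mathlib
import Cfsg.Agent.Lib.Helper18.Basic

set_option autoImplicit false
open Cfsg

namespace Cfsg.Agent.S3190

/-- Let p be an odd prime and, inside a finite group, let P be a p-subgroup normalized by a Klein four-group T. Let R be a subgroup of P, normal in P and normalized by T, such that P is the product of R with the centralizer of T in P. If T centralizes the centre of P, then T centralizes the centre of R. -/
theorem result {X : Type*} [Group X] [Finite X]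
    {p : ℕ} (hp : p.Prime) (hodd : Odd p) (P T R : Subgroup X) (hP : IsPGroup p ↥P) (hT : IsKleinFour ↥T)
    (hTP : T ≤ Subgroup.normalizer (P : Set X)) (hRP : R ≤ P) (hRn : (R.subgroupOf P).Normal)
    (hTR : T ≤ Subgroup.normalizer (R : Set X)) (hfac : R ⊔ (P ⊓ Subgroup.centralizer (T : Set X)) = P)
    (hZ : T ≤ Subgroup.centralizer (((Subgroup.center ↥P).map P.subtype : Subgroup X) : Set X)) :
    T ≤ Subgroup.centralizer (((Subgroup.center ↥R).map R.subtype : Subgroup X) : Set X) := by
  have : Fact p.Prime := ⟨hp⟩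
  intro t ht
  rw [Subgroup.mem_centralizer_iff]
  intro z hz
  -- notation
  set ZR : Subgroup X := (Subgroup.center ↥R).map R.subtype with hZR
  -- t squares to one
  have ht2 : t * t = 1 := by
    have h1 : (⟨t, ht⟩ : T) ^ 2 = 1 := by
      have := Monoid.pow_exponent_eq_one (⟨t, ht⟩ : T)
      rwa [hT.exponent_two] at this
    have := congrArg Subtype.val h1
    simpa [pow_two] using this
  have htinv : t⁻¹ = t := inv_eq_of_mul_eq_one_right ht2
  have hPR : P ≤ Subgroup.normalizer (R : Set X) :=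
    (Subgroup.normal_subgroupOf_iff_le_normalizer hRP).mp hRn
  -- ZR is commutative
  have hZRcomm : ∀ a ∈ ZR, ∀ b ∈ ZR, a * b = b * a := by
    intro a ha b hb
    rw [hZR, Cfsg.Agent.Lib.Helper18.mem_map_center_iff] at ha hb
    exact hb.2 a ha.1
  -- the subgroup of elements of ZR inverted by t
  let W : Subgroup X :=
    { carrier := {w | w ∈ ZR ∧ t * w * t⁻¹ = w⁻¹}
      one_mem' := ⟨ZR.one_mem, by simp⟩
      mul_mem' := by
        rintro a b ⟨ha, ha'⟩ ⟨hb, hb'⟩
        refine ⟨ZR.mul_mem ha hb, ?_⟩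
        have : t * (a * b) * t⁻¹ = (t * a * t⁻¹) * (t * b * t⁻¹) := by group
        rw [this, ha', hb', mul_inv_rev]
        exact hZRcomm a⁻¹ (ZR.inv_mem ha) b⁻¹ (ZR.inv_mem hb)
      inv_mem' := by
        rintro a ⟨ha, ha'⟩
        refine ⟨ZR.inv_mem ha, ?_⟩
        have : t * a⁻¹ * t⁻¹ = (t * a * t⁻¹)⁻¹ := by group
        rw [this, ha'] }
  have hWmem : ∀ w, w ∈ W ↔ w ∈ ZR ∧ t * w * t⁻¹ = w⁻¹ := fun w => Iff.rfl
  have hZR_R : ZR ≤ R := by
    intro w hw
    rw [hZR, Cfsg.Agent.Lib.Helper18.mem_map_center_iff] at hw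
    exact hw.1
  have hW_R : W ≤ R := fun w hw => hZR_R hw.1
  set C : Subgroup X := P ⊓ Subgroup.centralizer (T : Set X) with hC
  have hCnorm : C ≤ Subgroup.normalizer (W : Set X) := by
    rw [Subgroup.le_normalizer_iff]
    intro c hc w hw
    obtain ⟨hw1, hw2⟩ := hw
    refine ⟨Cfsg.Agent.Lib.Helper18.conj_mem_map_center_of_mem_normalizer (hPR hc.1) hw1, ?_⟩
    have hct : t * c = c * t := (Subgroup.mem_centralizer_iff.mp hc.2) t ht
    calc t * (c * w * c⁻¹) * t⁻¹ = (t * c) * w * (t * c)⁻¹ := by group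
      _ = (c * t) * w * (c * t)⁻¹ := by rw [hct]
      _ = c * (t * w * t⁻¹) * c⁻¹ := by group
      _ = c * w⁻¹ * c⁻¹ := by rw [hw2]
      _ = (c * w * c⁻¹)⁻¹ := by group
  have hWp : IsPGroup p W := hP.to_le (hW_R.trans hRP)
  have hCp : IsPGroup p C := hP.to_le inf_le_left
  have hWbot : W = ⊥ := by
    by_contra hne
    obtain ⟨w, hwW, hw1, hwC⟩ :=
      Cfsg.Agent.Lib.Helper18.exists_ne_one_fixed_of_pgroup_normalizes W C hWp hCp hne hCnorm
    -- w commutes with all of P
    have hwR : ∀ r ∈ R, r * w = w * r := by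
      have := hwW.1
      rw [hZR, Cfsg.Agent.Lib.Helper18.mem_map_center_iff] at this
      exact this.2
    have hPcent : P ≤ Subgroup.centralizer ({w} : Set X) := by
      rw [← hfac]
      apply sup_le
      · intro r hr
        rw [Subgroup.mem_centralizer_iff]
        intro y hy
        rw [Set.mem_singleton_iff.mp hy]
        exact (hwR r hr).symm
      · intro c hc
        rw [Subgroup.mem_centralizer_iff]
        intro y hy
        rw [Set.mem_singleton_iff.mp hy]
        exact (hwC c hc).symm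
    have hwZP : w ∈ (Subgroup.center ↥P).map P.subtype := by
      rw [Cfsg.Agent.Lib.Helper18.mem_map_center_iff]
      refine ⟨hRP (hW_R hwW), fun r hr => ?_⟩
      have := Subgroup.mem_centralizer_iff.mp (hPcent hr) w (Set.mem_singleton w)
      exact this.symm
    have htw : w * t = t * w := Subgroup.mem_centralizer_iff.mp (hZ ht) w hwZP
    have hinv : w = w⁻¹ := by
      have h1 : t * w * t⁻¹ = w := by rw [← htw]; group
      rw [← hwW.2, h1]
    have hw2 : w ^ 2 = 1 := by
      rw [pow_two]
      calc w * w = w * w⁻¹ := by rw [← hinv]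
        _ = 1 := mul_inv_cancel w
    -- order of w divides 2 and a power of p
    have hwP : w ∈ P := hRP (hW_R hwW)
    obtain ⟨k, hk⟩ := (hP.to_le (le_refl P)) ⟨w, hwP⟩
    have hk' : w ^ p ^ k = 1 := by
      have := congrArg Subtype.val hk
      simpa using this
    have hcop : Nat.Coprime 2 (p ^ k) := by
      apply Nat.Coprime.pow_right
      rw [Nat.coprime_comm]
      exact (Nat.Prime.coprime_iff_not_dvd hp).mpr (fun h2 => by
        have h3 := hodd
        rw [Nat.odd_iff] at h3
        have h4 := Nat.le_of_dvd (by norm_num) h2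
        have h5 := hp.two_le
        omega)
    have : orderOf w ∣ Nat.gcd 2 (p ^ k) := Nat.dvd_gcd (orderOf_dvd_of_pow_eq_one hw2) (orderOf_dvd_of_pow_eq_one hk')
    rw [hcop] at this
    have : orderOf w = 1 := Nat.dvd_one.mp this
    exact hw1 (orderOf_eq_one_iff.mp this)
  -- conclude
  have hzconj : t * z * t⁻¹ ∈ ZR :=
    Cfsg.Agent.Lib.Helper18.conj_mem_map_center_of_mem_normalizer (hTR ht) hz
  have hu : (t * z * t⁻¹) * z⁻¹ ∈ W := by
    refine ⟨ZR.mul_mem hzconj (ZR.inv_mem hz), ?_⟩
    have e1 : t * ((t * z * t⁻¹) * z⁻¹) * t⁻¹ = (t * t) * z * (t * t)⁻¹ * (t * z * t⁻¹)⁻¹ := by group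
    rw [e1, ht2]
    group
  rw [hWbot, Subgroup.mem_bot] at hu
  have : t * z * t⁻¹ = z := by
    have := mul_inv_eq_one.mp hu
    exact this
  calc z * t = (t * z * t⁻¹) * t := by rw [this]
    _ = t * z := by group

end Cfsg.Agent.S3190
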