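import Cfsg.Statements.S3195
import Cfsg.Agent.Lib.Helper25.KleinBS
-- import your own Cfsg.Agent.* helpers here

set_option autoImplicit false
open Cfsg

namespace Cfsg.Agent.S3195

open Cfsg.Agent.Lib.Helper25

/-- Let A be a Klein four-subgroup of a finite group G. If every G-conjugate of every involution of A commutes with some involution of A (its centralizer meets A nontrivially), then A meets the largest normal 2-subgroup O₂(G) nontrivially. -/
theorem result {G : Type*} [Group G] [Finite G]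
    (A : Subgroup G) (hA : IsKleinFour ↥A)
    (h : ∀ a ∈ A, a ≠ 1 → ∀ g : G, A ⊓ Subgroup.centralizer ({g * a * g⁻¹} : Set G) ≠ ⊥) :
    A ⊓ Cfsg.pCore 2 G ≠ ⊥ := by
  classical
  by_contra hbot
  have hnot : ∀ x ∈ A, x ≠ 1 → x ∉ Cfsg.pCore 2 G := by
    intro x hx hx1 hxO
    apply hx1
    have : x ∈ A ⊓ Cfsg.pCore 2 G := ⟨hx, hxO⟩
    rw [hbot] at this
    exact this
  have hsq : ∀ x ∈ A, x * x = 1 := by
    intro x hx
    have := IsKleinFour.mul_self (⟨x, hx⟩ : A)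
    exact congrArg Subtype.val this
  have hcommA : ∀ x ∈ A, ∀ y ∈ A, x * y = y * x := by
    intro x hx y hy
    have := mul_comm_of_exponent_two (IsKleinFour.exponent_two (G := A)) (⟨x, hx⟩ : A) ⟨y, hy⟩
    exact congrArg Subtype.val this
  have hthird : ∀ x ∈ A, ∀ y ∈ A, ∀ z ∈ A, x ≠ 1 → y ≠ 1 → x ≠ y → z ≠ 1 → z ≠ x → z ≠ y →
      z = x * y := by
    intro x hx y hy z hz hx1 hy1 hxy hz1 hzx hzy
    have := IsKleinFour.eq_mul_of_ne_all (G := A) (x := ⟨x, hx⟩) (y := ⟨y, hy⟩) (z := ⟨z, hz⟩)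
      (fun h => hx1 (congrArg Subtype.val h)) (fun h => hy1 (congrArg Subtype.val h))
      (fun h => hxy (congrArg Subtype.val h)) (fun h => hz1 (congrArg Subtype.val h))
      (fun h => hzx (congrArg Subtype.val h)) (fun h => hzy (congrArg Subtype.val h))
    exact congrArg Subtype.val this
  have hinvA : ∀ x ∈ A, x⁻¹ = x := fun x hx => inv_eq_of_mul_eq_one_left (hsq x hx)
  -- Step 1
  have step1 : ∀ x ∈ A, x ≠ 1 → ∃ hh x', hh ≠ 1 ∧ Odd (orderOf hh) ∧ x * hh * x⁻¹ = hh⁻¹ ∧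
      x' ∈ A ∧ x' ≠ 1 ∧ x' ≠ x ∧ x' * hh * x'⁻¹ = hh := by
    intro x hx hx1
    obtain ⟨g, hg⟩ := exists_conj_not_two_pow (hsq x hx) (hnot x hx hx1)
    have hd : (g * x * g⁻¹) * (g * x * g⁻¹) = 1 := by
      have : (g * x * g⁻¹) * (g * x * g⁻¹) = g * (x * x) * g⁻¹ := by group
      rw [this, hsq x hx]; group
    obtain ⟨x', hx'mem, hx'1⟩ := (Subgroup.bot_or_exists_ne_one _).resolve_left (h x hx hx1 g)
    rw [Subgroup.mem_inf] at hx'mem
    obtain ⟨hx'A, hx'c⟩ := hx'mem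
    rw [Subgroup.mem_centralizer_singleton_iff] at hx'c
    obtain ⟨hh, hh1, hodd, hinv, hmem⟩ := exists_odd_inverted (hsq x hx) hd hg
    refine ⟨hh, x', hh1, hodd, hinv, hx'A, hx'1, ?_, ?_⟩
    · rintro rfl
      apply hg
      have h2 : (x' * (g * x' * g⁻¹)) ^ 2 = 1 := by
        rw [pow_two]
        calc x' * (g * x' * g⁻¹) * (x' * (g * x' * g⁻¹))
            = x' * ((g * x' * g⁻¹) * x') * (g * x' * g⁻¹) := by group
          _ = x' * (x' * (g * x' * g⁻¹)) * (g * x' * g⁻¹) := by rw [hx'c]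
          _ = (x' * x') * ((g * x' * g⁻¹) * (g * x' * g⁻¹)) := by group
          _ = 1 := by rw [hsq x' hx, hd, one_mul]
      have hdvd := orderOf_dvd_of_pow_eq_one h2
      rcases (Nat.dvd_prime Nat.prime_two).1 hdvd with h3 | h3
      · exact ⟨0, by rw [h3, pow_zero]⟩
      · exact ⟨1, by rw [h3, pow_one]⟩
    · have hle : Subgroup.zpowers (x * (g * x * g⁻¹)) ≤ Subgroup.centralizer ({x'} : Set G) := by
        rw [Subgroup.zpowers_le, Subgroup.mem_centralizer_singleton_iff]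
        calc x * (g * x * g⁻¹) * x' = x * ((g * x * g⁻¹) * x') := by group
          _ = x * (x' * (g * x * g⁻¹)) := by rw [hx'c]
          _ = (x * x') * (g * x * g⁻¹) := by group
          _ = (x' * x) * (g * x * g⁻¹) := by rw [hcommA x hx x' hx'A]
          _ = x' * (x * (g * x * g⁻¹)) := by group
      have := hle hmem
      rw [Subgroup.mem_centralizer_singleton_iff] at this
      rw [← this, mul_inv_cancel_right]
  -- H for an element c ∈ A#
  have Hgen : ∀ e ∈ A, ∀ b ∈ A, e ≠ 1 → b ≠ 1 → e ≠ b → ∀ c ∈ A, c ≠ 1 → c = e * b →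
      ∀ g : G, ∃ x', (x' = e ∨ x' = b ∨ x' = c) ∧ x' * (g * c * g⁻¹) = (g * c * g⁻¹) * x' := by
    intro e he b hb he1 hb1 heb c hc hc1 hceb g
    obtain ⟨x', hx'mem, hx'1⟩ := (Subgroup.bot_or_exists_ne_one _).resolve_left (h c hc hc1 g)
    rw [Subgroup.mem_inf] at hx'mem
    obtain ⟨hx'A, hx'c⟩ := hx'mem
    rw [Subgroup.mem_centralizer_singleton_iff] at hx'c
    refine ⟨x', ?_, hx'c⟩
    by_cases h1 : x' = e
    · exact Or.inl h1
    by_cases h2 : x' = b
    · exact Or.inr (Or.inl h2)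
    right; right
    rw [hceb]
    exact hthird e he b hb x' hx'A he1 hb1 heb hx'1 h1 h2
  -- Step 2
  obtain ⟨a, ha, ha1⟩ : ∃ a ∈ A, a ≠ 1 := by
    refine (Subgroup.bot_or_exists_ne_one A).resolve_left ?_
    intro hA'
    have hc4 := IsKleinFour.card_four (G := A)
    rw [hA'] at hc4
    simp at hc4
  obtain ⟨h₁, a', h₁1, h₁odd, hah₁, ha', ha'1, ha'a, ha'h₁⟩ := step1 a ha ha1
  obtain ⟨h₂, a'', h₂1, h₂odd, ha'h₂, ha'', ha''1, ha''a', ha''h₂⟩ := step1 a' ha' ha'1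
  have ht : a * a' ∈ A := A.mul_mem ha ha'
  have ht1 : a * a' ≠ 1 := by
    intro h0
    apply ha'a
    have : a' = a⁻¹ := (inv_eq_of_mul_eq_one_right h0).symm
    rw [this, hinvA a ha]
  have hta : a * a' ≠ a := by
    intro h0
    exact ha'1 (mul_left_cancel (h0.trans (mul_one a).symm))
  have hta' : a * a' ≠ a' := by
    intro h0
    exact ha1 (mul_right_cancel (h0.trans (one_mul a').symm))
  have hth₁ : (a * a') * h₁ * (a * a')⁻¹ = h₁⁻¹ := by
    have : (a * a') * h₁ * (a * a')⁻¹ = a * (a' * h₁ * a'⁻¹) * a⁻¹ := by group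
    rw [this, ha'h₁, hah₁]
  by_cases hcase : a'' = a
  · -- a fixes h₂
    rw [hcase] at ha''h₂
    have hth₂ : (a * a') * h₂ * (a * a')⁻¹ = h₂⁻¹ := by
      have : (a * a') * h₂ * (a * a')⁻¹ = a * (a' * h₂ * a'⁻¹) * a⁻¹ := by group
      rw [this, ha'h₂, conj_inv_of_conj_fix ha''h₂]
    exact klein_contra (e := a) (b := a') (c := a * a') (hcommA _ ht a ha) (hcommA _ ht a' ha')
      hth₁ hth₂ ha'h₁ ha'h₂ hah₁ ha''h₂ h₁odd h₂odd h₁1 h₂1
      (Hgen a ha a' ha' ha1 ha'1 (Ne.symm ha'a) (a * a') ht ht1 rfl)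
  · -- a'' = a * a' fixes h₂
    have ha''t : a'' = a * a' :=
      hthird a ha a' ha' a'' ha'' ha1 ha'1 (Ne.symm ha'a) ha''1 hcase ha''a'
    rw [ha''t] at ha''h₂
    have haeq : a = (a * a') * a' := by
      rw [mul_assoc, hsq a' ha', mul_one]
    have hah₂ : a * h₂ * a⁻¹ = h₂⁻¹ := by
      have : a * h₂ * a⁻¹ = (a * a') * (a' * h₂ * a'⁻¹) * (a * a')⁻¹ := by
        conv_lhs => rw [haeq]
        group
      rw [this, ha'h₂, conj_inv_of_conj_fix ha''h₂]
    exact klein_contra (e := a * a') (b := a') (c := a) (hcommA a ha _ ht) (hcommA a ha a' ha')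
      hah₁ hah₂ ha'h₁ ha'h₂ hth₁ ha''h₂ h₁odd h₂odd h₁1 h₂1
      (Hgen (a * a') ht a' ha' ht1 ha'1 hta' a ha ha1 haeq)

end Cfsg.Agent.S3195
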