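import Cfsg.Statements.S3196


import Mathlib

set_option autoImplicit false
open Cfsg

namespace Cfsg.Agent.S3196

section
variable {G : Type*} [Group G]

/-- element-level point predicate -/
def Pt (K : Set (Subgroup G)) (x : G) : Prop := x ≠ 1 ∧ Subgroup.zpowers x ∈ K

theorem conj_fix {E f : G} (h : Commute E f) : E * f * E⁻¹ = f := by
  rw [h.eq, mul_inv_cancel_right]

theorem conj_split (E L f f' : G) (hEL : Commute E L) (hLf : Commute L f) (hEf' : Commute E f')
    (hau : Commute (E * L) (f * f')) : (E * f * E⁻¹) * (L * f' * L⁻¹) = f * f' := by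
  have h1 : (E * L) * (f * f') * (E * L)⁻¹ = f * f' := conj_fix hau
  have h2 : (E * L) * (f * f') * (E * L)⁻¹ =
      (E * (L * f * L⁻¹) * E⁻¹) * ((E * L) * f' * (E * L)⁻¹) := by group
  have h3 : (E * L) * f' * (E * L)⁻¹ = L * (E * f' * E⁻¹) * L⁻¹ := by
    rw [hEL.eq]; group
  rw [h2, conj_fix hLf, h3, conj_fix hEf'] at h1
  exact h1

theorem key_id (E f C1 C2 : G) (h1 : Commute C1 f) (h2 : Commute C1 C2) (h3 : Commute E C2)
    (h4 : Commute C2 (f⁻¹ * (E * f * E⁻¹))) :
    (f * C2)⁻¹ * ((E * C1) * (f * C2) * (E * C1)⁻¹) = f⁻¹ * (E * f * E⁻¹) := by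
  have e1 : C1 * (f * C2) * C1⁻¹ = f * C2 := conj_fix (h1.mul_right h2)
  have e2 : E * C2 * E⁻¹ = C2 := conj_fix h3
  have e3 : (E * C1) * (f * C2) * (E * C1)⁻¹ = E * (C1 * (f * C2) * C1⁻¹) * E⁻¹ := by group
  have e4 : E * (f * C2) * E⁻¹ = (E * f * E⁻¹) * (E * C2 * E⁻¹) := by group
  rw [e3, e1, e4, e2]
  have e5 : (f * C2)⁻¹ * (E * f * E⁻¹ * C2) = C2⁻¹ * (f⁻¹ * (E * f * E⁻¹)) * C2 := by group
  rw [e5, mul_assoc, ← h4.eq, inv_mul_cancel_left]

theorem mem_sup_zpowers {x y g : G} (hxy : Commute x y)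
    (hg : g ∈ Subgroup.zpowers x ⊔ Subgroup.zpowers y) : ∃ i j : ℤ, g = x ^ i * y ^ j := by
  have h : Subgroup.zpowers x ⊔ Subgroup.zpowers y = Subgroup.closure ({x} ∪ {y}) := by
    rw [Subgroup.closure_union, Subgroup.zpowers_eq_closure, Subgroup.zpowers_eq_closure]
  rw [h] at hg
  induction hg using Subgroup.closure_induction with
  | mem a ha =>
    rcases ha with ha | ha
    · exact ⟨1, 0, by rw [Set.mem_singleton_iff.1 ha]; simp⟩
    · exact ⟨0, 1, by rw [Set.mem_singleton_iff.1 ha]; simp⟩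
  | one => exact ⟨0, 0, by simp⟩
  | mul a b _ _ iha ihb =>
    obtain ⟨i, j, rfl⟩ := iha
    obtain ⟨i', j', rfl⟩ := ihb
    refine ⟨i + i', j + j', ?_⟩
    have hc : Commute (y ^ j) (x ^ i') := (hxy.zpow_zpow i' j).symm
    rw [zpow_add, zpow_add, mul_assoc, ← mul_assoc (y ^ j), hc.eq]
    simp [mul_assoc]
  | inv a _ iha =>
    obtain ⟨i, j, rfl⟩ := iha
    refine ⟨-i, -j, ?_⟩
    have hc : Commute (y ^ j) (x ^ i) := (hxy.zpow_zpow i j).symm
    rw [mul_inv_rev, ← zpow_neg, ← zpow_neg]
    exact ((hxy.zpow_zpow (-i) (-j)).symm).eq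

end

section
variable {G : Type*} [Group G] [Finite G]

structure Hyp (p : ℕ) (K : Set (Subgroup G)) : Prop where
  hp : p.Prime
  hK : ∀ X ∈ K, Nat.card ↥X = p
  hKc : ∀ X ∈ K, ∀ g : G, X.map (MulAut.conj g).toMonoidHom ∈ K
  ha : ∀ X ∈ K, ∀ Y ∈ K, X ≠ Y → (∀ x ∈ X, ∀ y ∈ Y, x * y = y * x) →
      ∀ Z : Subgroup G, Z ≤ X ⊔ Y → Nat.card ↥Z = p → Z ∈ K
  hb : ∀ X ∈ K, ∀ Y ∈ K, X ≠ Y → (∀ x ∈ X, ∀ y ∈ Y, x * y = y * x) →
      ∀ W ∈ K, (X ⊔ Y) ⊓ Subgroup.centralizer (W : Set G) ≠ ⊥

variable {p : ℕ} {K : Set (Subgroup G)}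

theorem Hyp.orderOf_eq (h : Hyp p K) {x : G} (hx : Pt K x) : orderOf x = p := by
  have := h.hK _ hx.2
  rwa [Nat.card_zpowers] at this

theorem Hyp.pow_eq_one (h : Hyp p K) {x : G} (hx : Pt K x) : x ^ p = 1 := by
  rw [← h.orderOf_eq hx]; exact pow_orderOf_eq_one x

theorem Hyp.exists_gen (h : Hyp p K) {X : Subgroup G} (hX : X ∈ K) :
    ∃ x, Pt K x ∧ X = Subgroup.zpowers x := by
  have hc := h.hK X hX
  have hne : X ≠ ⊥ := by
    intro hbot
    rw [hbot, Subgroup.card_bot] at hc
    exact h.hp.one_lt.ne hc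
  obtain ⟨x, hxX, hx1⟩ := (Subgroup.ne_bot_iff_exists_ne_one.1 hne |>.imp fun a ha => ha) |> fun ⟨a, ha⟩ =>
    (⟨(a : G), a.2, fun h1 => ha (Subtype.ext h1)⟩ : ∃ x : G, x ∈ X ∧ x ≠ 1)
  have hle : Subgroup.zpowers x ≤ X := Subgroup.zpowers_le.2 hxX
  have hd : orderOf x ∣ p := by
    rw [← hc, ← Nat.card_zpowers]; exact Subgroup.card_dvd_of_le hle
  have ho : orderOf x = p := by
    rcases (Nat.dvd_prime h.hp).1 hd with h1 | h1
    · exact absurd (orderOf_eq_one_iff.1 h1) hx1
    · exact h1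
  have heq : Subgroup.zpowers x = X := by
    apply Subgroup.eq_of_le_of_card_ge hle
    rw [Nat.card_zpowers, ho, hc]
  exact ⟨x, ⟨hx1, by rw [heq]; exact hX⟩, heq.symm⟩

theorem commS_iff {x y : G} :
    (∀ a ∈ Subgroup.zpowers x, ∀ b ∈ Subgroup.zpowers y, a * b = b * a) ↔ Commute x y := by
  constructor
  · intro h
    exact h x (Subgroup.mem_zpowers x) y (Subgroup.mem_zpowers y)
  · intro h a ha b hb
    obtain ⟨i, rfl⟩ := Subgroup.mem_zpowers_iff.1 ha
    obtain ⟨j, rfl⟩ := Subgroup.mem_zpowers_iff.1 hb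
    exact (h.zpow_zpow i j).eq

theorem Hyp.zpowers_eq (h : Hyp p K) {x y : G} (hx : Pt K x) (hy : Pt K y)
    (hm : x ∈ Subgroup.zpowers y) : Subgroup.zpowers x = Subgroup.zpowers y := by
  apply Subgroup.eq_of_le_of_card_ge (Subgroup.zpowers_le.2 hm)
  rw [Nat.card_zpowers, Nat.card_zpowers, h.orderOf_eq hx, h.orderOf_eq hy]

/-- points of a line -/
theorem Hyp.line_pt (h : Hyp p K) {x y : G} (hx : Pt K x) (hy : Pt K y) (hxy : Commute x y)
    (hne : Subgroup.zpowers x ≠ Subgroup.zpowers y) (i j : ℤ) (hg : x ^ i * y ^ j ≠ 1) :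
    Pt K (x ^ i * y ^ j) := by
  refine ⟨hg, ?_⟩
  have hmem : x ^ i * y ^ j ∈ Subgroup.zpowers x ⊔ Subgroup.zpowers y :=
    Subgroup.mul_mem _ (Subgroup.mem_sup_left (Subgroup.zpow_mem_zpowers x i))
      (Subgroup.mem_sup_right (Subgroup.zpow_mem_zpowers y j))
  have hle : Subgroup.zpowers (x ^ i * y ^ j) ≤ Subgroup.zpowers x ⊔ Subgroup.zpowers y :=
    Subgroup.zpowers_le.2 hmem
  have hpow : (x ^ i * y ^ j) ^ p = 1 := by
    rw [(hxy.zpow_zpow i j).mul_pow, ← zpow_natCast, ← zpow_natCast, ← zpow_mul, ← zpow_mul,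
      mul_comm i, mul_comm j, zpow_mul, zpow_mul, zpow_natCast, zpow_natCast,
      h.pow_eq_one hx, h.pow_eq_one hy]
    simp
  have hd : orderOf (x ^ i * y ^ j) ∣ p := orderOf_dvd_of_pow_eq_one hpow
  have ho : orderOf (x ^ i * y ^ j) = p := by
    rcases (Nat.dvd_prime h.hp).1 hd with h1 | h1
    · exact absurd (orderOf_eq_one_iff.1 h1) hg
    · exact h1
  exact h.ha _ hx.2 _ hy.2 hne (commS_iff.2 hxy) _ hle (by rw [Nat.card_zpowers, ho])


/-- axiom (b) at element level -/
theorem Hyp.exists_comm (h : Hyp p K) {x y w : G} (hx : Pt K x) (hy : Pt K y) (hxy : Commute x y)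
    (hne : Subgroup.zpowers x ≠ Subgroup.zpowers y) (hw : Pt K w) :
    ∃ i j : ℤ, x ^ i * y ^ j ≠ 1 ∧ Commute (x ^ i * y ^ j) w := by
  have hb := h.hb _ hx.2 _ hy.2 hne (commS_iff.2 hxy) _ hw.2
  obtain ⟨g, hg1⟩ := Subgroup.ne_bot_iff_exists_ne_one.1 hb
  have hgm := g.2
  rw [Subgroup.mem_inf] at hgm
  obtain ⟨i, j, hij⟩ := mem_sup_zpowers hxy hgm.1
  refine ⟨i, j, ?_, ?_⟩
  · rw [← hij]; intro h1; exact hg1 (Subtype.ext h1)
  · rw [← hij]
    have := (Subgroup.mem_centralizer_iff.1 hgm.2) w (Subgroup.mem_zpowers w)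
    exact this.symm

theorem exists_zpow_eq {x : G} (hp : p.Prime) (ho : orderOf x = p) {i : ℤ} (hi : x ^ i ≠ 1) :
    ∃ s : ℤ, (x ^ i) ^ s = x := by
  have hnd : ¬ ((p : ℤ) ∣ i) := by
    intro hd
    apply hi
    rw [← ho] at hd
    exact orderOf_dvd_iff_zpow_eq_one.1 hd
  have hcop : IsCoprime (p : ℤ) i :=
    (Nat.prime_iff_prime_int.1 hp).coprime_iff_not_dvd.2 hnd
  obtain ⟨a, b, hab⟩ := hcop
  refine ⟨b, ?_⟩
  have h1 : x ^ (a * (p : ℤ)) = 1 := by
    rw [zpow_mul, zpow_natCast, ← ho]
    rw [show (x ^ a) ^ orderOf x = (x ^ orderOf x) ^ a by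
      rw [← zpow_natCast, ← zpow_mul, mul_comm, zpow_mul, zpow_natCast]]
    rw [pow_orderOf_eq_one, one_zpow]
  calc (x ^ i) ^ b = x ^ (b * i) := by rw [← zpow_mul, mul_comm]
    _ = x ^ (a * (p : ℤ)) * x ^ (b * i) := by rw [h1, one_mul]
    _ = x ^ (a * (p : ℤ) + b * i) := (zpow_add x _ _).symm
    _ = x := by rw [hab, zpow_one]

theorem Hyp.one_or (h : Hyp p K) {x y w : G} (hx : Pt K x) (hy : Pt K y) (hxy : Commute x y)
    (hne : Subgroup.zpowers x ≠ Subgroup.zpowers y) (hw : Pt K w) :
    Commute y w ∨ ∃ j : ℤ, Commute (x * y ^ j) w := by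
  obtain ⟨i, j, hg, hc⟩ := h.exists_comm hx hy hxy hne hw
  by_cases hxi : x ^ i = 1
  · left
    rw [hxi, one_mul] at hg hc
    obtain ⟨s, hs⟩ := exists_zpow_eq h.hp (h.orderOf_eq hy) hg
    rw [← hs]
    exact hc.zpow_left s
  · right
    obtain ⟨s, hs⟩ := exists_zpow_eq h.hp (h.orderOf_eq hx) hxi
    refine ⟨j * s, ?_⟩
    have h1 : (x ^ i * y ^ j) ^ s = x * y ^ (j * s) := by
      rw [(hxy.zpow_zpow i j).mul_zpow, hs, ← zpow_mul]
    rw [← h1]
    exact hc.zpow_left s

/-- case B: common neighbours of non-commuting points always commute -/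
theorem Hyp.caseB (h : Hyp p K)
    (hB : ∀ e f : G, Pt K e → Pt K f → ¬ Commute e f → ∀ a b : G, Pt K a → Pt K b →
      Commute a e → Commute a f → Commute b e → Commute b f → Commute a b)
    {e f z : G} (he : Pt K e) (hf : Pt K f) (hef : ¬ Commute e f) (hz : Pt K z)
    (hze : Commute z e) (hzf : Commute z f) : ∀ w, Pt K w → Commute z w := by
  intro w hw
  by_contra hzw
  have hne1 : Subgroup.zpowers e ≠ Subgroup.zpowers z := by
    intro heq
    have : e ∈ Subgroup.zpowers z := by rw [← heq]; exact Subgroup.mem_zpowers e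
    obtain ⟨i, hi⟩ := Subgroup.mem_zpowers_iff.1 this
    exact hef (by rw [← hi]; exact hzf.zpow_left i)
  have hne2 : Subgroup.zpowers f ≠ Subgroup.zpowers z := by
    intro heq
    have : f ∈ Subgroup.zpowers z := by rw [← heq]; exact Subgroup.mem_zpowers f
    obtain ⟨i, hi⟩ := Subgroup.mem_zpowers_iff.1 this
    exact hef (by rw [← hi]; exact (hze.zpow_left i).symm)
  rcases h.one_or he hz hze.symm hne1 hw with h1 | ⟨j, hj⟩
  · exact hzw h1
  rcases h.one_or hf hz hzf.symm hne2 hw with h1 | ⟨j', hj'⟩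
  · exact hzw h1
  have hp1 : Pt K (e * z ^ j) := by
    have := h.line_pt he hz hze.symm hne1 1 j
    rw [zpow_one] at this
    apply this
    intro h1
    apply hne1
    apply h.zpowers_eq he hz
    have : e = (z ^ j)⁻¹ := eq_inv_of_mul_eq_one_left h1
    rw [this]
    exact Subgroup.inv_mem _ (Subgroup.zpow_mem_zpowers z j)
  have hp2 : Pt K (f * z ^ j') := by
    have := h.line_pt hf hz hzf.symm hne2 1 j'
    rw [zpow_one] at this
    apply this
    intro h1
    apply hne2
    apply h.zpowers_eq hf hz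
    have : f = (z ^ j')⁻¹ := eq_inv_of_mul_eq_one_left h1
    rw [this]
    exact Subgroup.inv_mem _ (Subgroup.zpow_mem_zpowers z j')
  have hnc : ¬ Commute (e * z ^ j) (f * z ^ j') := by
    intro hc
    apply hef
    have hzz : Commute (z ^ j) (z ^ j') := (Commute.refl z).zpow_zpow j j'
    have a1 : Commute (z ^ j) (f * z ^ j') := (hzf.zpow_left j).mul_right hzz
    have a2 : Commute (e * z ^ j) (z ^ j') := ((hze.zpow_left j').symm).mul_left hzz
    have a3 : Commute e (f * z ^ j') := by
      have := hc.mul_left (a1.inv_left)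
      rwa [mul_inv_cancel_right] at this
    have a4 : Commute e (z ^ j') := (hze.zpow_left j').symm
    have := a3.mul_right a4.inv_right
    rwa [mul_inv_cancel_right] at this
  have hzc1 : Commute z (e * z ^ j) := hze.mul_right ((Commute.refl z).zpow_right j)
  have hzc2 : Commute z (f * z ^ j') := hzf.mul_right ((Commute.refl z).zpow_right j')
  exact hzw (hB _ _ hp1 hp2 hnc z w hz hw hzc1 hzc2 hj.symm hj'.symm)


/-- case A: opposite lines give a universal point -/
theorem Hyp.caseA (h : Hyp p K) {e f e' f' : G} (he : Pt K e) (hf : Pt K f) (he' : Pt K e')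
    (hf' : Pt K f') (hef : ¬ Commute e f) (hee' : Commute e e') (hff' : Commute f f')
    (hef' : Commute e f') (he'f : Commute e' f) (hne : ¬ Commute e' f') :
    ∃ c, Pt K c ∧ ∀ w, Pt K w → Commute c w := by
  -- the two lines
  have hneF : Subgroup.zpowers f ≠ Subgroup.zpowers f' := by
    intro heq
    have : f ∈ Subgroup.zpowers f' := by rw [← heq]; exact Subgroup.mem_zpowers f
    obtain ⟨i, hi⟩ := Subgroup.mem_zpowers_iff.1 this
    exact hef (by rw [← hi]; exact hef'.zpow_right i)
  have hneE : Subgroup.zpowers e ≠ Subgroup.zpowers e' := by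
    intro heq
    have : e ∈ Subgroup.zpowers e' := by rw [← heq]; exact Subgroup.mem_zpowers e
    obtain ⟨i, hi⟩ := Subgroup.mem_zpowers_iff.1 this
    exact hef (by rw [← hi]; exact he'f.zpow_left i)
  have hu : Pt K (f * f') := by
    have := h.line_pt hf hf' hff' hneF 1 1
    rw [zpow_one, zpow_one] at this
    apply this
    intro h1
    apply hneF
    apply h.zpowers_eq hf hf'
    have : f = f'⁻¹ := eq_inv_of_mul_eq_one_left h1
    rw [this]
    exact Subgroup.inv_mem _ (Subgroup.mem_zpowers f')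
  obtain ⟨k, l, ha1, hau⟩ := h.exists_comm he he' hee' hneE hu
  set E := e ^ k with hE
  set L := e' ^ l with hL
  have hEL : Commute E L := hee'.zpow_zpow k l
  have hLf : Commute L f := he'f.zpow_left l
  have hEf' : Commute E f' := hef'.zpow_left k
  have hsplit := conj_split E L f f' hEL hLf hEf' hau
  set c := f⁻¹ * (E * f * E⁻¹) with hc
  have hc2 : c = f' * (L * f' * L⁻¹)⁻¹ := by
    rw [hc]
    have : E * f * E⁻¹ = f * f' * (L * f' * L⁻¹)⁻¹ := by
      rw [← hsplit, mul_inv_cancel_right]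
    rw [this]; group
  have hc1 : c ≠ 1 := by
    intro h1
    have hEf : Commute E f := by
      have h2 : E * f * E⁻¹ = f := by
        have := h1
        rw [hc] at this
        have h3 : f * (f⁻¹ * (E * f * E⁻¹)) = f * 1 := by rw [this]
        rwa [mul_inv_cancel_left, mul_one] at h3
      have h3 : E * f = f * E := by
        calc E * f = E * f * E⁻¹ * E := by group
          _ = f * E := by rw [h2]
      exact h3
    have hLf' : Commute L f' := by
      have h2 : L * f' * L⁻¹ = f' := by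
        have := h1
        rw [hc2] at this
        have h3 : f' = L * f' * L⁻¹ := by
          have h4 := mul_eq_one_iff_eq_inv.1 this
          rwa [inv_inv] at h4
        exact h3.symm
      have h3 : L * f' = f' * L := by
        calc L * f' = L * f' * L⁻¹ * L := by group
          _ = f' * L := by rw [h2]
      exact h3
    by_cases hE1 : E = 1
    · have hL1 : L ≠ 1 := by
        intro hL1
        apply ha1
        rw [hE1, hL1, one_mul]
      obtain ⟨s, hs⟩ := exists_zpow_eq h.hp (h.orderOf_eq he') hL1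
      exact hne (by rw [← hs]; exact hLf'.zpow_left s)
    · obtain ⟨s, hs⟩ := exists_zpow_eq h.hp (h.orderOf_eq he) hE1
      exact hef (by rw [← hs]; exact hEf.zpow_left s)
  -- c commutes with e, e', f, f'
  have hce' : Commute c e' := by
    rw [hc]
    have a1 : Commute f e' := he'f.symm
    have a2 : Commute E e' := hee'.zpow_left k
    exact (a1.inv_left).mul_left (((a2.mul_left a1)).mul_left a2.inv_left)
  have hcf' : Commute c f' := by
    rw [hc]
    exact (hff'.inv_left).mul_left (((hEf'.mul_left hff')).mul_left hEf'.inv_left)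
  have hLe : Commute L e := (hee'.zpow_right l).symm
  have hce : Commute c e := by
    rw [hc2]
    have a1 : Commute f' e := hef'.symm
    exact a1.mul_left ((((hLe.mul_left a1)).mul_left hLe.inv_left)).inv_left
  have hcf : Commute c f := by
    rw [hc2]
    have a1 : Commute f' f := hff'.symm
    exact a1.mul_left ((((hLf.mul_left a1)).mul_left hLf.inv_left)).inv_left
  -- the conjugate point P = f * c
  set P := E * f * E⁻¹ with hP
  have hPfc : P = f * c := by rw [hc, mul_inv_cancel_left]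
  have hPpt : Pt K P := by
    refine ⟨?_, ?_⟩
    · intro h1
      apply hf.1
      have : f = E⁻¹ * (E * f * E⁻¹) * E := by group
      rw [this, ← hP, h1]; group
    · have := h.hKc _ hf.2 E
      have heq : (Subgroup.zpowers f).map (MulAut.conj E).toMonoidHom = Subgroup.zpowers P := by
        rw [MonoidHom.map_zpowers]
        rfl
      rwa [heq] at this
  have hfP : Commute f P := by
    rw [hPfc]; exact (Commute.refl f).mul_right hcf.symm
  have hnefP : Subgroup.zpowers f ≠ Subgroup.zpowers P := by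
    intro heq
    have hPm : P ∈ Subgroup.zpowers f := by rw [heq]; exact Subgroup.mem_zpowers P
    have hcm : c ∈ Subgroup.zpowers f := by
      have : c = f⁻¹ * P := by rw [hPfc, inv_mul_cancel_left]
      rw [this]
      exact Subgroup.mul_mem _ (Subgroup.inv_mem _ (Subgroup.mem_zpowers f)) hPm
    obtain ⟨m, hm⟩ := Subgroup.mem_zpowers_iff.1 hcm
    have hm1 : f ^ m ≠ 1 := by rw [hm]; exact hc1
    obtain ⟨s, hs⟩ := exists_zpow_eq h.hp (h.orderOf_eq hf) hm1
    apply hef
    have : Commute f e := by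
      rw [← hs, hm]; exact hce.zpow_left s
    exact this.symm
  have hcpt : Pt K c := by
    have := h.line_pt hf hPpt hfP hnefP (-1) 1
    have heq : f ^ (-1 : ℤ) * P ^ (1 : ℤ) = c := by
      rw [zpow_neg, zpow_one, zpow_one, hPfc, inv_mul_cancel_left]
    rw [heq] at this
    exact this hc1
  refine ⟨c, hcpt, ?_⟩
  intro w hw
  by_contra hcw
  have hne1 : Subgroup.zpowers e ≠ Subgroup.zpowers c := by
    intro heq
    have : e ∈ Subgroup.zpowers c := by rw [← heq]; exact Subgroup.mem_zpowers e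
    obtain ⟨i, hi⟩ := Subgroup.mem_zpowers_iff.1 this
    exact hef (by rw [← hi]; exact hcf.zpow_left i)
  have hne2 : Subgroup.zpowers f ≠ Subgroup.zpowers c := by
    intro heq
    have : f ∈ Subgroup.zpowers c := by rw [← heq]; exact Subgroup.mem_zpowers f
    obtain ⟨i, hi⟩ := Subgroup.mem_zpowers_iff.1 this
    exact hef (by rw [← hi]; exact (hce.zpow_left i).symm)
  rcases h.one_or he hcpt hce.symm hne1 hw with h1 | ⟨j, hj⟩
  · exact hcw h1
  rcases h.one_or hf hcpt hcf.symm hne2 hw with h1 | ⟨j', hj'⟩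
  · exact hcw h1
  -- c as a word in e c^j, f c^j'
  have hCj : Commute (c ^ j) e := hce.zpow_left j
  have hkey := key_id E f ((c ^ j) ^ k) (c ^ j') ((hcf.zpow_left j).zpow_left k)
    ((((Commute.refl c).zpow_zpow j j')).zpow_left k)
    ((hce.zpow_left j').symm.zpow_left k)
    (by
      rw [← hc]
      exact (Commute.refl c).zpow_left j')
  have hpow : (e * c ^ j) ^ k = E * (c ^ j) ^ k := by
    rw [(hCj.symm).mul_zpow]
  rw [← hpow] at hkey
  apply hcw
  rw [hc, ← hkey]
  have hw1 : Commute (e * c ^ j) w := hj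
  have hw2 : Commute (f * c ^ j') w := hj'
  have hw3 : Commute ((e * c ^ j) ^ k) w := hw1.zpow_left k
  exact (hw2.inv_left).mul_left (((hw3.mul_left hw2)).mul_left hw3.inv_left)


/-- a universal point gives a normal elementary abelian p-subgroup -/
theorem Hyp.normal_of_universal (h : Hyp p K) {v : G} (hv : Pt K v)
    (huniv : ∀ w, Pt K w → Commute v w) :
    (∀ a ∈ Subgroup.normalClosure ({v} : Set G), ∀ b ∈ Subgroup.normalClosure ({v} : Set G),
      Commute a b) ∧ IsPGroup p ↥(Subgroup.normalClosure ({v} : Set G)) := by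
  set S : Set G := Group.conjugatesOfSet ({v} : Set G) with hS
  have hSpt : ∀ s ∈ S, Pt K s ∧ ∀ w, Pt K w → Commute s w := by
    intro s hs
    rw [hS, Group.mem_conjugatesOfSet_iff] at hs
    obtain ⟨b, hb, hbs⟩ := hs
    rw [Set.mem_singleton_iff] at hb
    subst hb
    obtain ⟨g, hg⟩ := isConj_iff.1 hbs
    have hspt : Pt K s := by
      refine ⟨?_, ?_⟩
      · intro h1
        apply hv.1
        rw [h1] at hg
        have : b = g⁻¹ * (g * b * g⁻¹) * g := by group
        rw [this, hg]; group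
      · have := h.hKc _ hv.2 g
        have heq : (Subgroup.zpowers b).map (MulAut.conj g).toMonoidHom = Subgroup.zpowers s := by
          rw [MonoidHom.map_zpowers, ← hg]
          rfl
        rwa [heq] at this
    refine ⟨hspt, ?_⟩
    intro w hw
    -- g⁻¹ w g is a point
    have hw' : Pt K (g⁻¹ * w * g) := by
      refine ⟨?_, ?_⟩
      · intro h1
        apply hw.1
        have : w = g * (g⁻¹ * w * g) * g⁻¹ := by group
        rw [this, h1]; group
      · have := h.hKc _ hw.2 g⁻¹
        have heq : (Subgroup.zpowers w).map (MulAut.conj g⁻¹).toMonoidHom =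
            Subgroup.zpowers (g⁻¹ * w * g) := by
          rw [MonoidHom.map_zpowers]
          congr 1
          simp [MulAut.conj_apply]
        rwa [heq] at this
    have hc := huniv _ hw'
    rw [← hg]
    have h1 : g * b * g⁻¹ * w = g * (b * (g⁻¹ * w * g)) * g⁻¹ := by group
    have h2 : w * (g * b * g⁻¹) = g * ((g⁻¹ * w * g) * b) * g⁻¹ := by group
    show g * b * g⁻¹ * w = w * (g * b * g⁻¹)
    rw [h1, h2, hc.eq]
  have hNcl : Subgroup.normalClosure ({v} : Set G) = Subgroup.closure S := rfl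
  -- closure S centralizes S
  have h1 : ∀ a ∈ Subgroup.closure S, ∀ s ∈ S, Commute a s := by
    intro a ha s hs
    have hle : Subgroup.closure S ≤ Subgroup.centralizer ({s} : Set G) := by
      rw [Subgroup.closure_le]
      intro t ht
      rw [SetLike.mem_coe, Subgroup.mem_centralizer_iff]
      intro x hx
      rw [Set.mem_singleton_iff] at hx
      subst hx
      exact ((hSpt t ht).2 x (hSpt x hs).1).symm.eq
    have := hle ha
    rw [Subgroup.mem_centralizer_iff] at this
    exact (this s (Set.mem_singleton s)).symm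
  have h2 : ∀ a ∈ Subgroup.closure S, ∀ b ∈ Subgroup.closure S, Commute a b := by
    intro a ha b hb
    have hle : Subgroup.closure S ≤ Subgroup.centralizer ({a} : Set G) := by
      rw [Subgroup.closure_le]
      intro t ht
      rw [SetLike.mem_coe, Subgroup.mem_centralizer_iff]
      intro x hx
      rw [Set.mem_singleton_iff] at hx
      subst hx
      exact (h1 x ha t ht).eq
    have := hle hb
    rw [Subgroup.mem_centralizer_iff] at this
    exact (this a (Set.mem_singleton a))
  refine ⟨by rw [hNcl]; exact h2, ?_⟩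
  rw [hNcl]
  have h3 : ∀ a ∈ Subgroup.closure S, a ^ p = 1 := by
    intro a ha
    induction ha using Subgroup.closure_induction with
    | mem s hs => exact h.pow_eq_one (hSpt s hs).1
    | one => exact one_pow p
    | mul x y hx hy ihx ihy => rw [(h2 x hx y hy).mul_pow, ihx, ihy, one_mul]
    | inv x _ ihx => rw [inv_pow, ihx, inv_one]
  intro a
  refine ⟨1, ?_⟩
  apply Subtype.ext
  rw [pow_one]
  exact h3 a.1 a.2

end

/-- Let p be a prime and K a set of subgroups of order p of a finite group G, closed under conjugation, such that at least two distinct members of K commute elementwise, and whenever two distinct members X, Y of K commute: every subgroup of order p of the group XY they generate belongs to K, and every member W of K has centralizer meeting XY nontrivially. Then some member V of K commutes elementwise with every member of K and lies in O_p(G); in particular G is not simple. -/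
theorem result {G : Type*} [Group G] [Finite G]
    {p : ℕ} (hp : p.Prime) (K : Set (Subgroup G)) (hK : ∀ X ∈ K, Nat.card ↥X = p)
    (hKc : ∀ X ∈ K, ∀ g : G, X.map (MulAut.conj g).toMonoidHom ∈ K)
    (hex : ∃ X ∈ K, ∃ Y ∈ K, X ≠ Y ∧ ∀ x ∈ X, ∀ y ∈ Y, x * y = y * x)
    (ha : ∀ X ∈ K, ∀ Y ∈ K, X ≠ Y → (∀ x ∈ X, ∀ y ∈ Y, x * y = y * x) →
      ∀ Z : Subgroup G, Z ≤ X ⊔ Y → Nat.card ↥Z = p → Z ∈ K)
    (hb : ∀ X ∈ K, ∀ Y ∈ K, X ≠ Y → (∀ x ∈ X, ∀ y ∈ Y, x * y = y * x) →
      ∀ W ∈ K, (X ⊔ Y) ⊓ Subgroup.centralizer (W : Set G) ≠ ⊥) :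
    (∃ V ∈ K, (∀ W ∈ K, ∀ v ∈ V, ∀ w ∈ W, v * w = w * v) ∧ V ≤ Cfsg.pCore p G) ∧ ¬ IsSimpleGroup G := by
  have h : Hyp p K := ⟨hp, hK, hKc, ha, hb⟩
  -- the initial line
  obtain ⟨X₀, hX₀, Y₀, hY₀, hXY, hcomm⟩ := hex
  obtain ⟨x₀, hx₀, rfl⟩ := h.exists_gen hX₀
  obtain ⟨y₀, hy₀, rfl⟩ := h.exists_gen hY₀
  have hxy₀ : Commute x₀ y₀ := commS_iff.1 hcomm
  -- existence of a universal point
  have huniv : ∃ v, Pt K v ∧ ∀ w, Pt K w → Commute v w := by
    by_cases hall : ∀ a b : G, Pt K a → Pt K b → Commute a b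
    · exact ⟨x₀, hx₀, fun w hw => hall _ _ hx₀ hw⟩
    push Not at hall
    obtain ⟨e, f, he, hf, hef⟩ := hall
    by_cases hB : ∀ e f : G, Pt K e → Pt K f → ¬ Commute e f → ∀ a b : G, Pt K a → Pt K b →
        Commute a e → Commute a f → Commute b e → Commute b f → Commute a b
    · -- find a common neighbour z of e and f
      -- first a point e' ≠ e commuting with e
      have hline : ∃ e', Pt K e' ∧ Commute e e' ∧ Subgroup.zpowers e' ≠ Subgroup.zpowers e := by
        have hq : ∃ q, Pt K q ∧ Commute q e ∧ q ∈ Subgroup.zpowers x₀ ⊔ Subgroup.zpowers y₀ := by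
          rcases h.one_or hx₀ hy₀ hxy₀ hXY he with h1 | ⟨j, hj⟩
          · exact ⟨y₀, hy₀, h1, Subgroup.mem_sup_right (Subgroup.mem_zpowers y₀)⟩
          · refine ⟨x₀ * y₀ ^ j, ?_, hj, ?_⟩
            · have := h.line_pt hx₀ hy₀ hxy₀ hXY 1 j
              rw [zpow_one] at this
              apply this
              intro h1
              apply hXY
              apply h.zpowers_eq hx₀ hy₀
              have : x₀ = (y₀ ^ j)⁻¹ := eq_inv_of_mul_eq_one_left h1
              rw [this]
              exact Subgroup.inv_mem _ (Subgroup.zpow_mem_zpowers y₀ j)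
            · exact Subgroup.mul_mem _ (Subgroup.mem_sup_left (Subgroup.mem_zpowers x₀))
                (Subgroup.mem_sup_right (Subgroup.zpow_mem_zpowers y₀ j))
        obtain ⟨q, hq, hqe, hqm⟩ := hq
        by_cases hqz : Subgroup.zpowers q = Subgroup.zpowers e
        · -- e lies on the line
          have hem : e ∈ Subgroup.zpowers x₀ ⊔ Subgroup.zpowers y₀ := by
            have : e ∈ Subgroup.zpowers q := by rw [hqz]; exact Subgroup.mem_zpowers e
            obtain ⟨i, hi⟩ := Subgroup.mem_zpowers_iff.1 this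
            rw [← hi]
            exact Subgroup.zpow_mem _ hqm i
          obtain ⟨i, j, hij⟩ := mem_sup_zpowers hxy₀ hem
          have hex₀ : Commute e x₀ := by
            rw [hij]
            exact ((Commute.refl x₀).zpow_left i).mul_left (hxy₀.symm.zpow_left j)
          have hey₀ : Commute e y₀ := by
            rw [hij]
            exact (hxy₀.zpow_left i).mul_left ((Commute.refl y₀).zpow_left j)
          by_cases hx0e : Subgroup.zpowers x₀ = Subgroup.zpowers e
          · refine ⟨y₀, hy₀, hey₀, ?_⟩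
            intro h1
            exact hXY (hx0e.trans h1.symm)
          · exact ⟨x₀, hx₀, hex₀, hx0e⟩
        · exact ⟨q, hq, hqe.symm, hqz⟩
      obtain ⟨e', he', hee', hne'⟩ := hline
      rcases h.one_or he' he hee'.symm hne' hf with h1 | ⟨j, hj⟩
      · exact absurd h1 hef
      have hz : Pt K (e' * e ^ j) := by
        have := h.line_pt he' he hee'.symm hne' 1 j
        rw [zpow_one] at this
        apply this
        intro h1
        apply hne'
        apply h.zpowers_eq he' he
        have : e' = (e ^ j)⁻¹ := eq_inv_of_mul_eq_one_left h1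
        rw [this]
        exact Subgroup.inv_mem _ (Subgroup.zpow_mem_zpowers e j)
      have hze : Commute (e' * e ^ j) e := hee'.symm.mul_left ((Commute.refl e).zpow_left j)
      exact ⟨_, hz, h.caseB hB he hf hef hz hze hj⟩
    · push Not at hB
      obtain ⟨e₁, f₁, he₁, hf₁, hef₁, a, b, hapt, hbpt, hae, haf, hbe, hbf, hab⟩ := hB
      exact h.caseA he₁ hf₁ hapt hbpt hef₁ hae.symm hbf.symm hbe.symm haf hab
  obtain ⟨v, hv, hvu⟩ := huniv
  obtain ⟨hNc, hNp⟩ := h.normal_of_universal hv hvu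
  have hvN : v ∈ Subgroup.normalClosure ({v} : Set G) :=
    Subgroup.subset_normalClosure (Set.mem_singleton v)
  refine ⟨⟨Subgroup.zpowers v, hv.2, ?_, ?_⟩, ?_⟩
  · intro W hW a ha w hw
    obtain ⟨w₀, hw₀, rfl⟩ := h.exists_gen hW
    exact commS_iff.2 (hvu w₀ hw₀) a ha w hw
  · have hle : Subgroup.zpowers v ≤ Subgroup.normalClosure ({v} : Set G) :=
      Subgroup.zpowers_le.2 hvN
    refine hle.trans ?_
    unfold Cfsg.pCore
    exact le_sSup ⟨Subgroup.normalClosure_normal, hNp⟩
  · intro hsimple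
    have hNtop : Subgroup.normalClosure ({v} : Set G) = ⊤ := by
      rcases (Subgroup.normalClosure_normal (s := ({v} : Set G))).eq_bot_or_eq_top with h1 | h1
      · exfalso
        rw [h1, Subgroup.mem_bot] at hvN
        exact hv.1 hvN
      · exact h1
    have hcomm : ∀ a b : G, Commute a b := by
      intro a b
      exact hNc a (by rw [hNtop]; trivial) b (by rw [hNtop]; trivial)
    -- every subgroup is normal, so the two points coincide
    have hXn : (Subgroup.zpowers x₀).Normal := ⟨fun n hn g => by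
      rw [(hcomm g n).eq, mul_inv_cancel_right]; exact hn⟩
    have hYn : (Subgroup.zpowers y₀).Normal := ⟨fun n hn g => by
      rw [(hcomm g n).eq, mul_inv_cancel_right]; exact hn⟩
    have hX : Subgroup.zpowers x₀ = ⊤ := by
      rcases hXn.eq_bot_or_eq_top with h1 | h1
      · exfalso
        have := Subgroup.mem_zpowers x₀
        rw [h1, Subgroup.mem_bot] at this
        exact hx₀.1 this
      · exact h1
    have hY : Subgroup.zpowers y₀ = ⊤ := by
      rcases hYn.eq_bot_or_eq_top with h1 | h1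
      · exfalso
        have := Subgroup.mem_zpowers y₀
        rw [h1, Subgroup.mem_bot] at this
        exact hy₀.1 this
      · exact h1
    exact hXY (hX.trans hY.symm)

end Cfsg.Agent.S3196
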