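import Cfsg.Statements.S3200
-- import your own Cfsg.Agent.* helpers here
import Mathlib
import Cfsg.Agent.S0143
import Cfsg.Agent.Lib.Helper1.Hall
import Cfsg.Agent.Lib.Helper1.Transport
import Cfsg.Agent.Lib.Helper12.Cores
import Cfsg.Agent.Lib.Helper18.Conj

set_option autoImplicit false
open Cfsg

namespace Cfsg.Agent.S3200

universe u

open scoped Pointwise

open scoped Pointwise in
theorem relIndex_dvd_index_of_normal_right {G : Type*} [Group G] [Finite G] (C N : Subgroup G)
    [N.Normal] : C.relIndex N ∣ C.index := by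
  have h1 : Nat.card ↥(C ⊓ N) * C.relIndex N = Nat.card ↥N := by
    have := Subgroup.relIndex_mul_relIndex ⊥ (C ⊓ N) N bot_le inf_le_right
    rwa [Subgroup.relIndex_bot_left, Subgroup.relIndex_bot_left, Subgroup.inf_relIndex_right] at this
  have h2 : Nat.card ↥(C ⊓ N) * N.relIndex C = Nat.card ↥C := by
    have := Subgroup.relIndex_mul_relIndex ⊥ (C ⊓ N) C bot_le inf_le_left
    rwa [Subgroup.relIndex_bot_left, Subgroup.relIndex_bot_left, Subgroup.inf_relIndex_left] at this
  have h3 : Nat.card ↥(C ⊔ N) = Nat.card ↥N * N.relIndex C :=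
    Cfsg.Agent.Lib.Helper12.card_sup_eq_of_normal C N
  have h4 : Nat.card ↥C * C.relIndex (C ⊔ N) = Nat.card ↥(C ⊔ N) := by
    have := Subgroup.relIndex_mul_relIndex ⊥ C (C ⊔ N) bot_le le_sup_left
    rwa [Subgroup.relIndex_bot_left, Subgroup.relIndex_bot_left] at this
  have h5 : C.relIndex (C ⊔ N) * (C ⊔ N).index = C.index :=
    Subgroup.relIndex_mul_index le_sup_left
  have hC : 0 < Nat.card ↥C := Nat.card_pos
  have h6 : C.relIndex (C ⊔ N) = C.relIndex N := by
    apply Nat.eq_of_mul_eq_mul_left hC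
    rw [h4, h3, ← h1, ← h2]; ring
  rw [← h5, h6]
  exact Dvd.intro _ rfl

theorem solvable_of_abelian_index_two_pow : ∀ (n : ℕ) (H : Type u) [Group H] [Finite H],
    Nat.card H ≤ n → ∀ (C : Subgroup H), IsMulCommutative ↥C → (∃ k, C.index = 2 ^ k) →
    Group.IsSolvable H := by
  intro n
  induction n using Nat.strong_induction_on with
  | _ n ih =>
    intro H _ _ hn C hC ⟨k, hk⟩
    by_cases hCbot : C = ⊥
    · -- H is a 2-group
      subst hCbot
      rw [Subgroup.index_bot] at hk
      haveI : Fact (Nat.Prime 2) := ⟨Nat.prime_two⟩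
      have hP : IsPGroup 2 H := IsPGroup.of_card hk
      haveI := hP.isNilpotent
      infer_instance
    · obtain ⟨c, hcC, hc1⟩ : ∃ c, c ∈ C ∧ c ≠ 1 := by
        by_contra hcon
        push Not at hcon
        exact hCbot ((Subgroup.eq_bot_iff_forall C).mpr hcon)
      have hle : C ≤ Subgroup.centralizer ({c} : Set H) := by
        intro x hx
        rw [Subgroup.mem_centralizer_iff]
        intro y hy
        rw [Set.mem_singleton_iff] at hy
        subst hy
        exact setLike_mul_comm hcC hx
      have hdvd : (Subgroup.centralizer ({c} : Set H)).index ∣ 2 ^ k := by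
        rw [← hk]; exact Subgroup.index_dvd_of_le hle
      obtain ⟨j, -, hj⟩ := (Nat.dvd_prime_pow Nat.prime_two).mp hdvd
      by_cases hsimple : ∀ N : Subgroup H, N.Normal → N = ⊥ ∨ N = ⊤
      · haveI : Nontrivial H := ⟨⟨c, 1, hc1⟩⟩
        haveI : IsSimpleGroup H := ⟨fun N hN => hsimple N hN⟩
        have hprime := Cfsg.Agent.S0143.result 2 j Nat.prime_two c hc1 hj
        haveI : Fact (Nat.card H).Prime := ⟨hprime⟩
        haveI : IsCyclic H := isCyclic_of_prime_card rfl
        exact Group.isSolvable_of_comm (fun a b => mul_comm' a b)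
      · push Not at hsimple
        obtain ⟨N, hN, hNbot, hNtop⟩ := hsimple
        haveI := hN
        have hcardN : Nat.card ↥N < Nat.card H := by
          rcases lt_or_eq_of_le (Subgroup.card_le_card_group N) with h | h
          · exact h
          · exact absurd ((Subgroup.card_eq_iff_eq_top N).mp h) hNtop
        have hcardQ : Nat.card (H ⧸ N) < Nat.card H := by
          have h1 := Subgroup.card_eq_card_quotient_mul_card_subgroup N
          have h2 : 1 < Nat.card ↥N := (Subgroup.one_lt_card_iff_ne_bot N).mpr hNbot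
          have h3 : 0 < Nat.card (H ⧸ N) := Nat.card_pos
          rw [h1]
          nlinarith
        have hsN : Group.IsSolvable ↥N := by
          refine ih (Nat.card ↥N) (lt_of_lt_of_le hcardN hn) ↥N le_rfl (C.subgroupOf N) ?_ ?_
          · exact Subgroup.subgroupOf_isMulCommutative _ _
          · have h1 : (C.subgroupOf N).index ∣ 2 ^ k := by
              rw [← hk]; exact relIndex_dvd_index_of_normal_right C N
            obtain ⟨i, -, hi⟩ := (Nat.dvd_prime_pow Nat.prime_two).mp h1
            exact ⟨i, hi⟩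
        have hsQ : Group.IsSolvable (H ⧸ N) := by
          refine ih (Nat.card (H ⧸ N)) (lt_of_lt_of_le hcardQ hn) (H ⧸ N) le_rfl
            (C.map (QuotientGroup.mk' N)) ?_ ?_
          · exact Subgroup.map_isMulCommutative _ _
          · have h1 : (C.map (QuotientGroup.mk' N)).index ∣ 2 ^ k := by
              rw [← hk]; exact Subgroup.index_map_dvd C (QuotientGroup.mk'_surjective N)
            obtain ⟨i, -, hi⟩ := (Nat.dvd_prime_pow Nat.prime_two).mp h1
            exact ⟨i, hi⟩
        exact Group.isSolvable_of_ker_le_range (N.subtype) (QuotientGroup.mk' N)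
          (by rw [QuotientGroup.ker_mk', Subgroup.range_subtype])


/-- Let H be a finite group in which a Sylow 2-subgroup has an abelian complement (an abelian subgroup meeting it trivially whose product with it is all of H). Then H is solvable, and every subgroup and every quotient group of H again has a Sylow 2-subgroup with an abelian complement. -/
theorem result {H : Type*} [Group H] [Finite H]
    (S : Sylow 2 H) (C : Subgroup H) (hC : IsMulCommutative ↥C) (hSC : Subgroup.IsComplement' (S : Subgroup H) C) :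
    Group.IsSolvable H ∧
    (∀ L : Subgroup H, ∃ (P : Sylow 2 ↥L) (D : Subgroup ↥L), IsMulCommutative ↥D ∧ Subgroup.IsComplement' (P : Subgroup ↥L) D) ∧
    (∀ (N : Subgroup H) [N.Normal], ∃ (P : Sylow 2 (H ⧸ N)) (D : Subgroup (H ⧸ N)),
      IsMulCommutative ↥D ∧ Subgroup.IsComplement' (P : Subgroup (H ⧸ N)) D) := by
  classical
  haveI : Fact (Nat.Prime 2) := ⟨Nat.prime_two⟩
  obtain ⟨k, hk⟩ : ∃ k, Nat.card ↥(S : Subgroup H) = 2 ^ k := by
    obtain ⟨k, hk⟩ := (IsPGroup.iff_card.mp S.isPGroup')
    exact ⟨k, hk⟩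
  have hCidx : C.index = 2 ^ k := by rw [← hk]; exact hSC.index_eq_card
  have hsolv : Group.IsSolvable H :=
    solvable_of_abelian_index_two_pow (Nat.card H) H le_rfl C hC ⟨k, hCidx⟩
  have hCodd : ¬ 2 ∣ Nat.card ↥C := by
    rw [← hSC.symm.index_eq_card]
    exact S.not_dvd_index
  have hcopSC : Nat.Coprime (Nat.card ↥(S : Subgroup H)) (Nat.card ↥C) := by
    rw [hk]
    exact Nat.Coprime.pow_left _ ((Nat.Prime.coprime_iff_not_dvd Nat.prime_two).mpr hCodd)
  refine ⟨hsolv, ?_, ?_⟩
  · intro L
    haveI := hsolv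
    obtain ⟨P⟩ : Nonempty (Sylow 2 ↥L) := inferInstance
    have hmul : Nat.card ↥L = (P : Subgroup ↥L).index * Nat.card ↥(P : Subgroup ↥L) :=
      ((P : Subgroup ↥L).index_mul_card).symm
    have hcop : ((P : Subgroup ↥L).index).Coprime (Nat.card ↥(P : Subgroup ↥L)) :=
      (Sylow.card_coprime_index P).symm
    obtain ⟨D, hD⟩ := Cfsg.Agent.Lib.Helper1.hall_exists (Nat.card ↥L) ↥L rfl _ _ hmul hcop
    have hDodd : ¬ 2 ∣ Nat.card ↥D := by rw [hD]; exact P.not_dvd_index
    -- D maps into a conjugate of C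
    have hcardmap : Nat.card ↥(D.map L.subtype) = Nat.card ↥D :=
      Subgroup.card_map_of_injective L.subtype_injective
    obtain ⟨g, hg⟩ := Cfsg.Agent.Lib.Helper1.hall_dominance (Nat.card H) H rfl C (D.map L.subtype)
      (by rw [hCidx]; exact Nat.Coprime.pow_right _ ((Nat.coprime_comm.mp ((Nat.Prime.coprime_iff_not_dvd Nat.prime_two).mpr hCodd))))
      (by rw [hCidx, hcardmap]; exact Nat.Coprime.pow_right _ ((Nat.coprime_comm.mp ((Nat.Prime.coprime_iff_not_dvd Nat.prime_two).mpr hDodd))))
    have hDcomm : IsMulCommutative ↥D := by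
      refine ⟨⟨fun a b => ?_⟩⟩
      have ha : ((a : ↥L) : H) ∈ MulAut.conj g • C := hg ⟨a, a.2, rfl⟩
      have hb : ((b : ↥L) : H) ∈ MulAut.conj g • C := hg ⟨b, b.2, rfl⟩
      rw [Cfsg.Agent.Lib.Helper18.mem_conj_smul_iff'] at ha hb
      have := setLike_mul_comm ha hb
      apply Subtype.ext
      apply Subtype.ext
      have h2 : ((a : ↥L) : H) * (b : ↥L) = (b : ↥L) * (a : ↥L) := by
        have h3 : g * (g⁻¹ * ((a : ↥L) : H) * g * (g⁻¹ * ((b : ↥L) : H) * g)) * g⁻¹
            = g * (g⁻¹ * ((b : ↥L) : H) * g * (g⁻¹ * ((a : ↥L) : H) * g)) * g⁻¹ := by rw [this]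
        simpa [mul_assoc] using h3
      exact h2
    refine ⟨P, D, hDcomm, ?_⟩
    apply Subgroup.isComplement'_of_coprime
    · rw [hD, mul_comm]; exact hmul.symm
    · rw [hD]; exact hcop.symm
  · intro N _
    refine ⟨S.mapSurjective (QuotientGroup.mk'_surjective N), C.map (QuotientGroup.mk' N),
      Subgroup.map_isMulCommutative _ _, ?_⟩
    rw [Sylow.coe_mapSurjective]
    exact Cfsg.Agent.Lib.Helper1.isComplement'_map hSC hcopSC _ (QuotientGroup.mk'_surjective N)

end Cfsg.Agent.S3200
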