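import Cfsg.Statements.S3201
-- import your own Cfsg.Agent.* helpers here
import Mathlib
import Cfsg.Agent.Lib.Helper18.QuaternionSplit

set_option autoImplicit false
open Cfsg

namespace Cfsg.Agent.S3201

/-- Let S be a finite 2-group whose centre Z(S) has n ≥ 2 distinct maximal subgroups C₁, …, Cₙ with trivial intersection such that each quotient S/Cᵢ is a non-abelian group with exactly one involution (a generalized quaternion group). Then S is the internal direct product of an elementary abelian subgroup and a non-abelian subgroup with exactly one involution. -/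
theorem result {S : Type*} [Group S] [Finite S]
    (hS : IsPGroup 2 S) (n : ℕ) (hn : 2 ≤ n) (C : Fin n → Subgroup ↥(Subgroup.center S))
    (hCmax : ∀ i, IsCoatom (C i)) (hCinj : Function.Injective C) (hCint : ⨅ i, C i = ⊥)
    (hCq : ∀ i, ∃ (_ : ((C i).map (Subgroup.center S).subtype).Normal),
      ¬ IsMulCommutative (S ⧸ (C i).map (Subgroup.center S).subtype) ∧
      ∃! x : S ⧸ (C i).map (Subgroup.center S).subtype, orderOf x = 2) :
    ∃ E Q : Subgroup S, Cfsg.IsInternalDirectProduct E Q ⊤ ∧ Cfsg.IsElementaryAbelian 2 E ∧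
      ¬ IsMulCommutative ↥Q ∧ ∃! x : ↥Q, orderOf x = 2 := by
  classical
  haveI : Fact (Nat.Prime 2) := ⟨Nat.prime_two⟩
  obtain ⟨Z, hZdef⟩ : ∃ Z : Subgroup S, Z = Subgroup.center S := ⟨_, rfl⟩
  subst hZdef
  have hZp : IsPGroup 2 (Subgroup.center S) := hS.to_subgroup _
  have hZcomm : ∀ u v : Subgroup.center S, u * v = v * u := by
    intro u v
    apply Subtype.ext
    exact (Subgroup.mem_center_iff.mp v.2 u)
  -- Z has exponent two
  have hZexp : ∀ z : Subgroup.center S, z ^ 2 = 1 := by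
    intro z
    have h1 : z ^ 2 ∈ ⨅ i, C i := by
      rw [Subgroup.mem_iInf]
      intro i
      exact Cfsg.Agent.Lib.Helper18.sq_mem_of_isCoatom_of_comm hZp hZcomm (C i) (hCmax i) z
    rw [hCint, Subgroup.mem_bot] at h1
    exact h1
  obtain ⟨N, hNdef⟩ : ∃ N : Fin n → Subgroup S, N = fun i => (C i).map (Subgroup.center S).subtype :=
    ⟨_, rfl⟩
  have hNmem : ∀ j (g : S), g ∈ N j ↔ ∃ z : Subgroup.center S, z ∈ C j ∧ (z : S) = g := by
    intro j g
    rw [hNdef]
    exact Subgroup.mem_map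
  have hNcentral : ∀ j, ∀ c ∈ N j, ∀ g : S, g * c = c * g := by
    intro j c hc g
    obtain ⟨z, _, rfl⟩ := (hNmem j c).mp hc
    exact Subgroup.mem_center_iff.mp z.2 g
  have hcardN : ∀ j, Nat.card (Subgroup.center S) = 2 * Nat.card (N j) := by
    intro j
    rw [hNdef]
    show _ = 2 * Nat.card ((C j).map (Subgroup.center S).subtype)
    rw [Subgroup.card_map_of_injective (Subgroup.subtype_injective _)]
    exact Cfsg.Agent.Lib.Helper18.card_eq_two_mul_of_isCoatom_of_comm hZp hZcomm (C j) (hCmax j)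
  have hcard : ∀ i j, Nat.card (N i) = Nat.card (N j) := by
    intro i j
    have h1 := hcardN i
    have h2 := hcardN j
    omega
  have hexp : ∀ j, ∀ c ∈ N j, c ^ 2 = 1 := by
    intro j c hc
    obtain ⟨z, _, rfl⟩ := (hNmem j c).mp hc
    have := hZexp z
    exact congrArg Subtype.val this
  have i₀ : Fin n := ⟨0, by omega⟩
  have hint : ∀ g : S, (∀ j, g ∈ N j) → g = 1 := by
    intro g hg
    obtain ⟨z, _, rfl⟩ := (hNmem i₀ g).mp (hg i₀)
    have h1 : z ∈ ⨅ i, C i := by
      rw [Subgroup.mem_iInf]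
      intro i
      obtain ⟨z', hz', hzz⟩ := (hNmem i (z : S)).mp (hg i)
      have : z' = z := Subtype.ext hzz
      rw [← this]; exact hz'
    rw [hCint, Subgroup.mem_bot] at h1
    rw [h1]; rfl
  have hq : ∀ j, ∃ (_ : (N j).Normal), ¬ IsMulCommutative (S ⧸ N j) ∧
      ∃! x : S ⧸ N j, orderOf x = 2 := by
    intro j
    rw [hNdef]
    exact hCq j
  obtain ⟨Q, hQN, hQNtop, hQna, hQinv⟩ :=
    Cfsg.Agent.Lib.Helper18.exists_quaternion_complement hS N hcard hexp hint hq i₀
  refine ⟨N i₀, Q, ⟨le_top, le_top, ?_, ?_, ?_⟩, ⟨?_, ?_⟩, hQna, hQinv⟩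
  · intro c hc b _
    exact (hNcentral i₀ c hc b).symm
  · rw [inf_comm]; exact hQN
  · rw [sup_comm]; exact hQNtop
  · refine ⟨⟨fun u v => ?_⟩⟩
    apply Subtype.ext
    exact (hNcentral i₀ v.1 v.2 u.1)
  · exact hexp i₀

end Cfsg.Agent.S3201
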