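import Cfsg.Statements.S3202
-- import your own Cfsg.Agent.* helpers here
import Mathlib
import Cfsg.Agent.Lib.Helper18.UniqueInvolution

set_option autoImplicit false
open Cfsg

namespace Cfsg.Agent.S3202

open scoped commutatorElement

/-- Let S be a finite 2-group of 2-rank exactly 2 and D a maximal subgroup of the centre of S such that S/D is a non-abelian group with exactly one involution (a generalized quaternion group). Then S has a nontrivial cyclic characteristic subgroup. -/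
theorem result {S : Type*} [Group S]
    [Finite S] (hS : IsPGroup 2 S) (hr2 : Cfsg.PRankLE 2 2 S) (hr1 : ¬ Cfsg.PRankLE 2 1 S)
    (D : Subgroup ↥(Subgroup.center S)) (hD : IsCoatom D)
    (hq : ∃ (_ : (D.map (Subgroup.center S).subtype).Normal),
      ¬ IsMulCommutative (S ⧸ D.map (Subgroup.center S).subtype) ∧
      ∃! x : S ⧸ D.map (Subgroup.center S).subtype, orderOf x = 2) :
    ∃ C : Subgroup S, C ≠ ⊥ ∧ IsCyclic ↥C ∧ C.Characteristic := by
  classical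
  obtain ⟨hNn, hna, x₀, hx₀, hx₀u⟩ := hq
  obtain ⟨N, hN⟩ : ∃ N : Subgroup S, N = D.map (Subgroup.center S).subtype := ⟨_, rfl⟩
  subst hN
  have hNc : ∀ d ∈ D.map (Subgroup.center S).subtype, ∀ g : S, g * d = d * g := by
    intro d hd g
    obtain ⟨z, _, rfl⟩ := hd
    exact Subgroup.mem_center_iff.mp z.2 g
  have hQ2 : IsPGroup 2 (S ⧸ D.map (Subgroup.center S).subtype) := hS.to_quotient _
  have huniq : ∀ s t : S ⧸ D.map (Subgroup.center S).subtype, orderOf s = 2 → orderOf t = 2 → s = t := by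
    intro s t hs ht
    rw [hx₀u s hs, hx₀u t ht]
  rcases Cfsg.Agent.Lib.Helper18.cyclic_or_quaternion_data hQ2 huniq with hcyc | ⟨ab, xb, m, hm, hord, hxnot, hxinv, hx2, hall⟩
  · exfalso
    apply hna
    haveI := hcyc
    infer_instance
  obtain ⟨a, rfl⟩ := QuotientGroup.mk_surjective ab
  obtain ⟨x, rfl⟩ := QuotientGroup.mk_surjective xb
  -- the abelian subgroup of index 2
  obtain ⟨A₁, hA₁⟩ : ∃ A₁ : Subgroup S, A₁ = (Subgroup.zpowers (QuotientGroup.mk a : S ⧸ D.map (Subgroup.center S).subtype)).comap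
      (QuotientGroup.mk' (D.map (Subgroup.center S).subtype)) := ⟨_, rfl⟩
  have hA₁mem : ∀ u : S, u ∈ A₁ ↔ (QuotientGroup.mk u : S ⧸ D.map (Subgroup.center S).subtype) ∈
      Subgroup.zpowers (QuotientGroup.mk a : S ⧸ D.map (Subgroup.center S).subtype) := by
    intro u; rw [hA₁]; rfl
  have hdecomp : ∀ u ∈ A₁, ∃ k : ℤ, ∃ d ∈ D.map (Subgroup.center S).subtype, u = a ^ k * d := by
    intro u hu
    obtain ⟨k, hk⟩ := Subgroup.mem_zpowers_iff.mp ((hA₁mem u).mp hu)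
    have h1 : (QuotientGroup.mk (a ^ k) : S ⧸ D.map (Subgroup.center S).subtype) = QuotientGroup.mk u := by
      rw [← hk]; rfl
    have h2 := QuotientGroup.eq.mp h1
    exact ⟨k, _, h2, by group⟩
  have haA : a ∈ A₁ := (hA₁mem a).mpr (Subgroup.mem_zpowers _)
  have hA₁comm : ∀ u ∈ A₁, ∀ v ∈ A₁, u * v = v * u := by
    intro u hu v hv
    obtain ⟨k, d, hd, rfl⟩ := hdecomp u hu
    obtain ⟨l, e, he, rfl⟩ := hdecomp v hv
    have h1 : Commute (a ^ k) (a ^ l) := ((Commute.refl a).zpow_left k).zpow_right l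
    calc a ^ k * d * (a ^ l * e) = a ^ k * (d * a ^ l) * e := by group
      _ = a ^ k * (a ^ l * d) * e := by rw [← hNc d hd (a ^ l)]
      _ = (a ^ k * a ^ l) * (d * e) := by group
      _ = (a ^ l * a ^ k) * (e * d) := by rw [h1.eq, ← hNc d hd e]
      _ = a ^ l * (a ^ k * e) * d := by group
      _ = a ^ l * (e * a ^ k) * d := by rw [hNc e he (a ^ k)]
      _ = a ^ l * e * (a ^ k * d) := by group
  have hcover : ∀ g : S, g ∈ A₁ ∨ ∃ u ∈ A₁, g = x * u := by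
    intro g
    rcases hall (QuotientGroup.mk g) with h | ⟨hb, hh, hg⟩
    · exact Or.inl ((hA₁mem g).mpr h)
    · right
      refine ⟨x⁻¹ * g, ?_, by group⟩
      rw [hA₁mem]
      have : (QuotientGroup.mk (x⁻¹ * g) : S ⧸ D.map (Subgroup.center S).subtype)
          = (QuotientGroup.mk x)⁻¹ * QuotientGroup.mk g := rfl
      rw [this, hg, inv_mul_cancel_left]
      exact hh
  have hxaA : x * a * x⁻¹ ∈ A₁ := by
    rw [hA₁mem]
    have : (QuotientGroup.mk (x * a * x⁻¹) : S ⧸ D.map (Subgroup.center S).subtype)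
        = QuotientGroup.mk x * QuotientGroup.mk a * (QuotientGroup.mk x)⁻¹ := rfl
    rw [this, hxinv]
    exact Subgroup.inv_mem _ (Subgroup.mem_zpowers _)
  have hx2A : x * x ∈ A₁ := by
    rw [hA₁mem]
    have : (QuotientGroup.mk (x * x) : S ⧸ D.map (Subgroup.center S).subtype)
        = (QuotientGroup.mk x) ^ 2 := by rw [pow_two]; rfl
    rw [this, hx2]
    exact Subgroup.pow_mem _ (Subgroup.mem_zpowers _) _
  obtain ⟨c, hc⟩ : ∃ c, c = x * a * x⁻¹ * a⁻¹ := ⟨_, rfl⟩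
  -- ψ(u) = x u x⁻¹ u⁻¹ ∈ ⟨c⟩ and x u x⁻¹ ∈ A₁
  have hconjA : ∀ u ∈ A₁, x * u * x⁻¹ ∈ A₁ := by
    intro u hu
    obtain ⟨k, d, hd, rfl⟩ := hdecomp u hu
    have h1 : x * (a ^ k * d) * x⁻¹ = (x * a * x⁻¹) ^ k * d := by
      rw [conj_zpow]
      calc x * (a ^ k * d) * x⁻¹ = x * a ^ k * (d * x⁻¹) := by group
        _ = x * a ^ k * (x⁻¹ * d) := by rw [hNc d hd x⁻¹]
        _ = x * a ^ k * x⁻¹ * d := by group
    rw [h1]
    refine A₁.mul_mem (A₁.zpow_mem hxaA k) ?_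
    rw [hA₁mem]
    have : (QuotientGroup.mk d : S ⧸ D.map (Subgroup.center S).subtype) = 1 :=
      (QuotientGroup.eq_one_iff d).mpr hd
    rw [this]; exact Subgroup.one_mem _
  have hpsi : ∀ u ∈ A₁, x * u * x⁻¹ * u⁻¹ ∈ Subgroup.zpowers c := by
    intro u hu
    obtain ⟨k, d, hd, rfl⟩ := hdecomp u hu
    refine Subgroup.mem_zpowers_iff.mpr ⟨k, ?_⟩
    have h1 : x * (a ^ k * d) * x⁻¹ = (x * a * x⁻¹) ^ k * d := by
      rw [conj_zpow]
      calc x * (a ^ k * d) * x⁻¹ = x * a ^ k * (d * x⁻¹) := by group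
        _ = x * a ^ k * (x⁻¹ * d) := by rw [hNc d hd x⁻¹]
        _ = x * a ^ k * x⁻¹ * d := by group
    have h2 : Commute (x * a * x⁻¹) a⁻¹ := hA₁comm _ hxaA _ (A₁.inv_mem haA)
    rw [h1, hc, h2.mul_zpow]
    calc (x * a * x⁻¹) ^ k * a⁻¹ ^ k = (x * a * x⁻¹) ^ k * (d * (a ^ k * d)⁻¹) := by
          rw [inv_zpow]; group
      _ = (x * a * x⁻¹) ^ k * d * (a ^ k * d)⁻¹ := by group
  -- all commutators lie in ⟨c⟩
  have hcomm_le : commutator S ≤ Subgroup.zpowers c := by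
    rw [commutator_def, Subgroup.commutator_le]
    intro g _ h _
    rw [commutatorElement_def]
    rcases hcover g with hg | ⟨u, hu, rfl⟩ <;> rcases hcover h with hh | ⟨v, hv, rfl⟩
    · have : g * h * g⁻¹ * h⁻¹ = 1 := by
        rw [hA₁comm g hg h hh]; group
      rw [this]; exact Subgroup.one_mem _
    · -- g = u ∈ A₁, h = x v
      have hgi : g⁻¹ ∈ A₁ := A₁.inv_mem hg
      have h1 : g * (x * v) * g⁻¹ * (x * v)⁻¹ = x * g⁻¹ * x⁻¹ * (g⁻¹)⁻¹ := by
        have hvg : v * g⁻¹ = g⁻¹ * v := hA₁comm v hv g⁻¹ hgi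
        have hgc : g * (x * g⁻¹ * x⁻¹) = (x * g⁻¹ * x⁻¹) * g := hA₁comm g hg _ (hconjA _ hgi)
        calc g * (x * v) * g⁻¹ * (x * v)⁻¹ = g * x * (v * g⁻¹) * v⁻¹ * x⁻¹ := by group
          _ = g * x * (g⁻¹ * v) * v⁻¹ * x⁻¹ := by rw [hvg]
          _ = g * (x * g⁻¹ * x⁻¹) := by group
          _ = (x * g⁻¹ * x⁻¹) * g := hgc
          _ = x * g⁻¹ * x⁻¹ * (g⁻¹)⁻¹ := by rw [inv_inv]
      rw [h1]
      exact hpsi _ hgi
    · -- g = x u, h ∈ A₁
      have h1 : x * u * h * (x * u)⁻¹ * h⁻¹ = x * h * x⁻¹ * h⁻¹ := by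
        have huh : u * h = h * u := hA₁comm u hu h hh
        calc x * u * h * (x * u)⁻¹ * h⁻¹ = x * (u * h) * u⁻¹ * x⁻¹ * h⁻¹ := by group
          _ = x * (h * u) * u⁻¹ * x⁻¹ * h⁻¹ := by rw [huh]
          _ = x * h * x⁻¹ * h⁻¹ := by group
      rw [h1]; exact hpsi h hh
    · -- g = x u, h = x v
      have hw : (x * x) * (v * u⁻¹) = (v * u⁻¹) * (x * x) :=
        hA₁comm _ hx2A _ (A₁.mul_mem hv (A₁.inv_mem hu))
      have hU := hconjA u hu
      have hV := hconjA v hv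
      have h1 : x * u * (x * v) * (x * u)⁻¹ * (x * v)⁻¹
          = (x * u * x⁻¹ * u⁻¹) * (x * v * x⁻¹ * v⁻¹)⁻¹ := by
        have e1 : (x * u * x⁻¹) * (v * u⁻¹) = (v * u⁻¹) * (x * u * x⁻¹) :=
          hA₁comm _ hU _ (A₁.mul_mem hv (A₁.inv_mem hu))
        have e2 : u⁻¹ * v = v * u⁻¹ := hA₁comm _ (A₁.inv_mem hu) _ hv
        calc x * u * (x * v) * (x * u)⁻¹ * (x * v)⁻¹
            = (x * u * x⁻¹) * ((x * x) * (v * u⁻¹)) * (x * x)⁻¹ * (x * v * x⁻¹)⁻¹ := by group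
          _ = (x * u * x⁻¹) * ((v * u⁻¹) * (x * x)) * (x * x)⁻¹ * (x * v * x⁻¹)⁻¹ := by rw [hw]
          _ = (x * u * x⁻¹) * (v * u⁻¹) * (x * v * x⁻¹)⁻¹ := by group
          _ = (x * u * x⁻¹) * (u⁻¹ * v) * (x * v * x⁻¹)⁻¹ := by rw [e2]
          _ = (x * u * x⁻¹ * u⁻¹) * (x * v * x⁻¹ * v⁻¹)⁻¹ := by group
      rw [h1]
      exact Subgroup.mul_mem _ (hpsi u hu) (Subgroup.inv_mem _ (hpsi v hv))
  refine ⟨commutator S, ?_, ?_, ?_⟩
  · intro hbot
    apply hna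
    refine ⟨⟨?_⟩⟩
    intro s t
    obtain ⟨g, rfl⟩ := QuotientGroup.mk_surjective s
    obtain ⟨h, rfl⟩ := QuotientGroup.mk_surjective t
    have h1 : ⁅g, h⁆ ∈ commutator S :=
      Subgroup.commutator_mem_commutator (Subgroup.mem_top g) (Subgroup.mem_top h)
    rw [hbot, Subgroup.mem_bot, commutatorElement_def] at h1
    have h2 : g * h = h * g := by
      calc g * h = (g * h * g⁻¹ * h⁻¹) * (h * g) := by group
        _ = h * g := by rw [h1, one_mul]
    show (QuotientGroup.mk (g * h) : S ⧸ D.map (Subgroup.center S).subtype) = QuotientGroup.mk (h * g)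
    rw [h2]
  · have h1 : IsCyclic ((commutator S).subgroupOf (Subgroup.zpowers c)) := inferInstance
    exact (Subgroup.subgroupOfEquivOfLe hcomm_le).isCyclic.mp h1
  · rw [commutator_def]; infer_instance

end Cfsg.Agent.S3202
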