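import Cfsg.Statements.S3203
-- import your own Cfsg.Agent.* helpers here
import Mathlib
import Cfsg.Agent.Lib.Helper18.Conj

set_option autoImplicit false
open Cfsg

namespace Cfsg.Agent.S3203

open scoped Pointwise
open Cfsg.Agent.Lib.Helper18 in
/-- Elements of `S` normalize `A`. -/
theorem conj_eq_self_of_mem {G : Type*} [Group G] [Finite G] (S A B : Subgroup G)
    (hAS : A ≤ S) (hBS : B ≤ S) (hne : A ≠ B)
    (hAel : Cfsg.IsElementaryAbelian 2 A) (hBel : Cfsg.IsElementaryAbelian 2 B)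
    (hAmax : ∀ C : Subgroup G, C ≤ S → Cfsg.IsElementaryAbelian 2 C → A ≤ C → C = A)
    (hcover : ∀ C : Subgroup G, C ≤ S → Cfsg.IsElementaryAbelian 2 C → C ≤ A ∨ C ≤ B)
    (hprod : ∀ s ∈ S, ∃ a ∈ A, ∃ b ∈ B, a * b = s) (s : G) (hs : s ∈ S) :
    MulAut.conj s • A = A := by
  have hCS : MulAut.conj s • A ≤ S := Subgroup.conj_smul_le_of_le hAS ⟨s, hs⟩
  have hCel := isElementaryAbelian_conj_smul 2 s A hAel
  rcases hcover _ hCS hCel with h | h
  · exact Subgroup.eq_of_le_of_card_ge h (card_conj_smul s A).ge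
  · exfalso
    obtain ⟨a', ha', b', hb', hab⟩ := hprod s⁻¹ (S.inv_mem hs)
    have hs' : s = b'⁻¹ * a'⁻¹ := by
      rw [← mul_inv_rev, hab, inv_inv]
    have hAB : A ≤ B := by
      intro y hy
      have hx : a' * y * a'⁻¹ ∈ A := A.mul_mem (A.mul_mem ha' hy) (A.inv_mem ha')
      have h1 := h (conj_mem_conj_smul A s _ hx)
      have e : s * (a' * y * a'⁻¹) * s⁻¹ = b'⁻¹ * y * b' := by rw [hs']; group
      rw [e] at h1
      have : y = b' * (b'⁻¹ * y * b') * b'⁻¹ := by group
      rw [this]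
      exact B.mul_mem (B.mul_mem hb' h1) (B.inv_mem hb')
    exact hne (hAmax B hBS hBel hAB).symm

open Cfsg.Agent.Lib.Helper18 in
theorem weaklyClosed_aux {G : Type*} [Group G] [Finite G] (S : Sylow 2 G) (A B : Subgroup G)
    (hAS : A ≤ S) (hBS : B ≤ S) (hne : A ≠ B)
    (hAel : Cfsg.IsElementaryAbelian 2 A) (hBel : Cfsg.IsElementaryAbelian 2 B)
    (hAmax : ∀ C : Subgroup G, C ≤ S → Cfsg.IsElementaryAbelian 2 C → A ≤ C → C = A)
    (hBmax : ∀ C : Subgroup G, C ≤ S → Cfsg.IsElementaryAbelian 2 C → B ≤ C → C = B)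
    (hcover : ∀ C : Subgroup G, C ≤ S → Cfsg.IsElementaryAbelian 2 C → C ≤ A ∨ C ≤ B)
    (hprod : ∀ s ∈ (S : Subgroup G), ∃ a ∈ A, ∃ b ∈ B, a * b = s)
    (hprod' : ∀ s ∈ (S : Subgroup G), ∃ b ∈ B, ∃ a ∈ A, b * a = s) :
    ∀ g : G, MulAut.conj g • A ≤ S → MulAut.conj g • A = A := by
  intro g hg
  have hnormA : ∀ s ∈ (S : Subgroup G), MulAut.conj s • A = A :=
    conj_eq_self_of_mem S A B hAS hBS hne hAel hBel hAmax hcover hprod
  have hcover' : ∀ C : Subgroup G, C ≤ S → Cfsg.IsElementaryAbelian 2 C → C ≤ B ∨ C ≤ A :=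
    fun C h1 h2 => (hcover C h1 h2).symm
  have hnormB : ∀ s ∈ (S : Subgroup G), MulAut.conj s • B = B :=
    conj_eq_self_of_mem S B A hBS hAS hne.symm hBel hAel hBmax hcover' hprod'
  have hA₁el := isElementaryAbelian_conj_smul 2 g A hAel
  have hcardA₁ := card_conj_smul g A
  rcases hcover _ hg hA₁el with h | h
  · exact Subgroup.eq_of_le_of_card_ge h hcardA₁.ge
  · exfalso
    -- notation
    set A₁ := MulAut.conj g • A with hA₁
    have hS₁ : ((g • S : Sylow 2 G) : Subgroup G) = MulAut.conj g • (S : Subgroup G) := rfl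
    have hBp : IsPGroup 2 B := S.2.to_le hBS
    have hBc : ∀ x ∈ B, ∀ y ∈ B, x * y = y * x := by
      intro x hx y hy
      have := hBel.1
      exact setLike_mul_comm hx hy
    -- S₁ and B normalize A₁
    have hS₁N : ((g • S : Sylow 2 G) : Subgroup G) ≤ Subgroup.normalizer (A₁ : Set G) := by
      intro y hy
      rw [hS₁, mem_conj_smul_iff'] at hy
      apply mem_normalizer_of_conj_smul_le
      apply le_of_eq
      have e : y = g * (g⁻¹ * y * g) * g⁻¹ := by group
      rw [e, hA₁, conj_smul_mul, conj_smul_mul, conj_inv_smul_conj_smul, hnormA _ hy]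
    have hBN : B ≤ Subgroup.normalizer (A₁ : Set G) := by
      intro b hb
      apply Cfsg.Agent.Lib.Helper17.mem_normalizer_of_forall_conj_mem
      intro x hx
      have : b * x * b⁻¹ = x := by
        rw [hBc b hb x (h hx)]; group
      rw [this]; exact hx
    obtain ⟨n, hnN, Q, hQp, -, hS₁Q, hnB⟩ :=
      exists_conj_pgroup_of_le (Subgroup.normalizer (A₁ : Set G)) ((g • S : Sylow 2 G) : Subgroup G) B
        hS₁N hBN (g • S : Sylow 2 G).2 hBp
    have hQS₁ : Q = ((g • S : Sylow 2 G) : Subgroup G) := (g • S : Sylow 2 G).is_maximal' hQp hS₁Q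
    -- the conjugate B₂ of B by g⁻¹ n lies in S and contains A
    have hB₂S : MulAut.conj (g⁻¹ * n) • B ≤ S := by
      intro x hx
      rw [mem_conj_smul_iff'] at hx
      have h1 := hnB _ hx
      rw [hQS₁, hS₁, mem_conj_smul_iff'] at h1
      have e : g⁻¹ * (n * ((g⁻¹ * n)⁻¹ * x * (g⁻¹ * n)) * n⁻¹) * g = x := by group
      rw [e] at h1
      exact h1
    have hAB₂ : A ≤ MulAut.conj (g⁻¹ * n) • B := by
      have e : A = MulAut.conj (g⁻¹ * n) • A₁ := by
        rw [conj_smul_mul, conj_smul_eq_of_mem_normalizer n A₁ hnN, hA₁, conj_inv_smul_conj_smul]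
      rw [e]
      exact Subgroup.pointwise_smul_le_pointwise_smul_iff.mpr h
    have hB₂A : MulAut.conj (g⁻¹ * n) • B = A :=
      hAmax _ hB₂S (isElementaryAbelian_conj_smul 2 _ B hBel) hAB₂
    have hcardAB : Nat.card A = Nat.card B := by
      rw [← hB₂A, card_conj_smul]
    have hA₁B : A₁ = B := Subgroup.eq_of_le_of_card_ge h (by rw [hcardA₁, hcardAB])
    -- Burnside: a conjugating element normalizing S
    have hSN' : (S : Subgroup G) ≤ Subgroup.normalizer (B : Set G) := by
      intro s hs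
      apply mem_normalizer_of_conj_smul_le
      exact le_of_eq (hnormB s hs)
    have hS₁N' : ((g • S : Sylow 2 G) : Subgroup G) ≤ Subgroup.normalizer (B : Set G) := by
      rw [← hA₁B]; exact hS₁N
    obtain ⟨n', hn'N, Q', hQ'p, -, hSQ', hn'S₁⟩ :=
      exists_conj_pgroup_of_le (Subgroup.normalizer (B : Set G)) (S : Subgroup G)
        ((g • S : Sylow 2 G) : Subgroup G) hSN' hS₁N' S.2 (g • S : Sylow 2 G).2
    have hQ'S : Q' = (S : Subgroup G) := S.is_maximal' hQ'p hSQ'
    set m := n' * g with hm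
    have hmS : ∀ s ∈ (S : Subgroup G), m * s * m⁻¹ ∈ (S : Subgroup G) := by
      intro s hs
      have h1 : g * s * g⁻¹ ∈ ((g • S : Sylow 2 G) : Subgroup G) := by
        rw [hS₁]; exact conj_mem_conj_smul _ g s hs
      have h2 := hn'S₁ _ h1
      rw [hQ'S] at h2
      have e : m * s * m⁻¹ = n' * (g * s * g⁻¹) * n'⁻¹ := by rw [hm]; group
      rw [e]; exact h2
    have hmN : m ∈ Subgroup.normalizer ((S : Subgroup G) : Set G) :=
      Cfsg.Agent.Lib.Helper17.mem_normalizer_of_forall_conj_mem _ m hmS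
    have hmA : MulAut.conj m • A = B := by
      rw [hm, conj_smul_mul, ← hA₁, hA₁B, conj_smul_eq_of_mem_normalizer n' B hn'N]
    have hmB : MulAut.conj m • B = A := by
      have hCS : MulAut.conj m • B ≤ S := by
        intro x hx
        rw [mem_conj_smul_iff'] at hx
        have := hmS _ (hBS hx)
        have e : m * (m⁻¹ * x * m) * m⁻¹ = x := by group
        rw [e] at this
        exact this
      rcases hcover _ hCS (isElementaryAbelian_conj_smul 2 m B hBel) with h' | h'
      · exact Subgroup.eq_of_le_of_card_ge h' (by rw [card_conj_smul, hcardAB])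
      · exfalso
        have : MulAut.conj m • B = B := Subgroup.eq_of_le_of_card_ge h' (card_conj_smul m B).ge
        have h2 : MulAut.conj m • B = MulAut.conj m • A := this.trans hmA.symm
        exact hne (smul_left_cancel _ h2).symm
    -- odd power of m
    obtain ⟨e, r, hr, hor⟩ := Nat.exists_eq_two_pow_mul_odd (orderOf_pos m).ne'
    have heven : ∀ i : ℕ, MulAut.conj (m ^ (2 * i)) • A = A := by
      intro i
      induction i with
      | zero => simp
      | succ i ih =>
        rw [show 2 * (i + 1) = 2 * i + 1 + 1 by ring, pow_succ, pow_succ, mul_assoc, conj_smul_mul,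
          conj_smul_mul, hmA, hmB, ih]
    obtain ⟨i, hi⟩ := hr
    have hodd : MulAut.conj (m ^ r) • A = B := by
      rw [hi, pow_succ', conj_smul_mul, heven i, hmA]
    -- m ^ r is a 2-element normalizing S, hence in S
    have hxN : m ^ r ∈ Subgroup.normalizer ((S : Subgroup G) : Set G) :=
      Subgroup.pow_mem _ hmN r
    have hxord : orderOf (m ^ r) = 2 ^ e := by
      have hr0 : r ≠ 0 := by omega
      rw [orderOf_pow_of_dvd hr0 ⟨2 ^ e, by rw [hor]; ring⟩, hor]
      exact Nat.mul_div_cancel _ (Nat.pos_of_ne_zero hr0)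
    have hxp : IsPGroup 2 (Subgroup.zpowers (m ^ r)) := by
      apply IsPGroup.of_card (n := e)
      rw [Nat.card_zpowers, hxord]
    have hsup : IsPGroup 2 (Subgroup.zpowers (m ^ r) ⊔ (S : Subgroup G) : Subgroup G) := by
      apply IsPGroup.to_sup_of_normal_right' hxp S.2
      rw [Subgroup.zpowers_le]
      exact hxN
    have hxS : m ^ r ∈ (S : Subgroup G) := by
      have := S.is_maximal' hsup le_sup_right
      rw [← this]
      exact Subgroup.mem_sup_left (Subgroup.mem_zpowers _)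
    rw [hnormA _ hxS] at hodd
    exact hne hodd


/-- Let S be a Sylow 2-subgroup of a finite group G having exactly two subgroups A ≠ B that are maximal among its elementary abelian subgroups, with S = AB. Then A and B are each weakly closed in S with respect to G, and the normalizer of S normalizes both A and B. -/
theorem result {G : Type*} [Group G] [Finite G] (S : Sylow 2 G)
    (A B : Subgroup ↥(S : Subgroup G)) (hAB : A ≠ B)
    (hA : Cfsg.IsElementaryAbelian 2 A ∧ ∀ C : Subgroup ↥(S : Subgroup G), Cfsg.IsElementaryAbelian 2 C → A ≤ C → C = A)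
    (hB : Cfsg.IsElementaryAbelian 2 B ∧ ∀ C : Subgroup ↥(S : Subgroup G), Cfsg.IsElementaryAbelian 2 C → B ≤ C → C = B)
    (honly : ∀ C : Subgroup ↥(S : Subgroup G), Cfsg.IsElementaryAbelian 2 C →
      (∀ D : Subgroup ↥(S : Subgroup G), Cfsg.IsElementaryAbelian 2 D → C ≤ D → D = C) → C = A ∨ C = B)
    (hprod : ∀ s : ↥(S : Subgroup G), ∃ a ∈ A, ∃ b ∈ B, a * b = s)
    (A' B' : Subgroup G) (hA' : A' = A.map (S : Subgroup G).subtype) (hB' : B' = B.map (S : Subgroup G).subtype) :
    Cfsg.IsWeaklyClosed A' (S : Subgroup G) ∧ Cfsg.IsWeaklyClosed B' (S : Subgroup G) ∧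
      Subgroup.normalizer ((S : Subgroup G) : Set G) ≤ Subgroup.normalizer (A' : Set G) ⊓ Subgroup.normalizer (B' : Set G) := by
  classical
  -- abbreviations
  have hmapEl : ∀ D : Subgroup ↥(S : Subgroup G), Cfsg.IsElementaryAbelian 2 D →
      Cfsg.IsElementaryAbelian 2 (D.map (S : Subgroup G).subtype) := by
    intro D hD
    refine ⟨⟨⟨?_⟩⟩, ?_⟩
    · rintro ⟨x, hx⟩ ⟨y, hy⟩
      apply Subtype.ext
      obtain ⟨a, ha, rfl⟩ := hx
      obtain ⟨b, hb, rfl⟩ := hy
      show (S : Subgroup G).subtype a * (S : Subgroup G).subtype b = (S : Subgroup G).subtype b * (S : Subgroup G).subtype a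
      have := hD.1
      have hab : a * b = b * a := setLike_mul_comm ha hb
      rw [← map_mul, ← map_mul, hab]
    · rintro _ ⟨a, ha, rfl⟩
      rw [← map_pow, hD.2 a ha, map_one]
  have hsubEl : ∀ C : Subgroup G, Cfsg.IsElementaryAbelian 2 C →
      Cfsg.IsElementaryAbelian 2 (C.subgroupOf (S : Subgroup G)) := by
    intro C hC
    refine ⟨⟨⟨?_⟩⟩, ?_⟩
    · rintro ⟨x, hx⟩ ⟨y, hy⟩
      apply Subtype.ext
      apply Subtype.ext
      have := hC.1
      exact setLike_mul_comm (Subgroup.mem_subgroupOf.mp hx) (Subgroup.mem_subgroupOf.mp hy)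
    · intro a ha
      apply Subtype.ext
      have := hC.2 _ (Subgroup.mem_subgroupOf.mp ha)
      simpa using this
  -- Step 0: every elementary abelian subgroup of S lies in A or B
  have hcover0 : ∀ C : Subgroup ↥(S : Subgroup G), Cfsg.IsElementaryAbelian 2 C → C ≤ A ∨ C ≤ B := by
    intro C hC
    have hne : Nonempty {D : Subgroup ↥(S : Subgroup G) // Cfsg.IsElementaryAbelian 2 D ∧ C ≤ D} :=
      ⟨⟨C, hC, le_refl C⟩⟩
    obtain ⟨⟨D, hDel, hCD⟩, hDmax⟩ := Finite.exists_max
      (fun D : {D : Subgroup ↥(S : Subgroup G) // Cfsg.IsElementaryAbelian 2 D ∧ C ≤ D} => Nat.card D.1)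
    have hDmax' : ∀ D' : Subgroup ↥(S : Subgroup G), Cfsg.IsElementaryAbelian 2 D' → D ≤ D' → D' = D := by
      intro D' hD' hDD'
      have := hDmax ⟨D', hD', hCD.trans hDD'⟩
      exact (Subgroup.eq_of_le_of_card_ge hDD' this).symm
    rcases honly D hDel hDmax' with h | h
    · left; rw [← h]; exact hCD
    · right; rw [← h]; exact hCD
  have hA'S : A' ≤ (S : Subgroup G) := by rw [hA']; exact Subgroup.map_subtype_le _
  have hB'S : B' ≤ (S : Subgroup G) := by rw [hB']; exact Subgroup.map_subtype_le _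
  have hA'el : Cfsg.IsElementaryAbelian 2 A' := by rw [hA']; exact hmapEl A hA.1
  have hB'el : Cfsg.IsElementaryAbelian 2 B' := by rw [hB']; exact hmapEl B hB.1
  have hne' : A' ≠ B' := by
    rw [hA', hB']
    intro h
    exact hAB (Subgroup.map_injective (S : Subgroup G).subtype_injective h)
  have hmaxG : ∀ (X : Subgroup ↥(S : Subgroup G)),
      (∀ C : Subgroup ↥(S : Subgroup G), Cfsg.IsElementaryAbelian 2 C → X ≤ C → C = X) →
      ∀ C : Subgroup G, C ≤ (S : Subgroup G) → Cfsg.IsElementaryAbelian 2 C → X.map (S : Subgroup G).subtype ≤ C →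
        C = X.map (S : Subgroup G).subtype := by
    intro X hX C hCT hCel hXC
    have hle : X ≤ C.subgroupOf (S : Subgroup G) := by
      intro x hx
      rw [Subgroup.mem_subgroupOf]
      exact hXC ⟨x, hx, rfl⟩
    have := hX _ (hsubEl C hCel) hle
    rw [← this, Subgroup.map_subgroupOf_eq_of_le hCT]
  have hcoverG : ∀ C : Subgroup G, C ≤ (S : Subgroup G) → Cfsg.IsElementaryAbelian 2 C → C ≤ A' ∨ C ≤ B' := by
    intro C hCT hCel
    rcases hcover0 _ (hsubEl C hCel) with h | h
    · left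
      rw [hA', ← Subgroup.map_subgroupOf_eq_of_le hCT]
      exact Subgroup.map_mono h
    · right
      rw [hB', ← Subgroup.map_subgroupOf_eq_of_le hCT]
      exact Subgroup.map_mono h
  have hprodG : ∀ s ∈ (S : Subgroup G), ∃ a ∈ A', ∃ b ∈ B', a * b = s := by
    intro s hs
    obtain ⟨a, ha, b, hb, hab⟩ := hprod ⟨s, hs⟩
    refine ⟨a.1, ?_, b.1, ?_, ?_⟩
    · rw [hA']; exact ⟨a, ha, rfl⟩
    · rw [hB']; exact ⟨b, hb, rfl⟩
    · have := congrArg Subtype.val hab
      exact this
  have hprodG' : ∀ s ∈ (S : Subgroup G), ∃ b ∈ B', ∃ a ∈ A', b * a = s := by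
    intro s hs
    obtain ⟨a, ha, b, hb, hab⟩ := hprodG s⁻¹ ((S : Subgroup G).inv_mem hs)
    refine ⟨b⁻¹, B'.inv_mem hb, a⁻¹, A'.inv_mem ha, ?_⟩
    rw [← mul_inv_rev, hab, inv_inv]
  have hAmaxG := hmaxG A hA.2
  have hBmaxG := hmaxG B hB.2
  rw [← hA'] at hAmaxG
  rw [← hB'] at hBmaxG
  have wcA := weaklyClosed_aux S A' B' hA'S hB'S hne' hA'el hB'el hAmaxG hBmaxG hcoverG hprodG hprodG'
  have wcB := weaklyClosed_aux S B' A' hB'S hA'S hne'.symm hB'el hA'el hBmaxG hAmaxG
    (fun C h1 h2 => (hcoverG C h1 h2).symm) hprodG' hprodG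
  refine ⟨⟨hA'S, wcA⟩, ⟨hB'S, wcB⟩, ?_⟩
  intro m hm
  have hmS : ∀ X : Subgroup G, X ≤ (S : Subgroup G) → MulAut.conj m • X ≤ (S : Subgroup G) := by
    intro X hX x hx
    rw [Cfsg.Agent.Lib.Helper18.mem_conj_smul_iff'] at hx
    have h1 := hX hx
    have h2 := (Subgroup.mem_normalizer_iff.mp hm _).mp h1
    have e : m * (m⁻¹ * x * m) * m⁻¹ = x := by group
    rw [e] at h2
    exact h2
  constructor
  · apply Cfsg.Agent.Lib.Helper18.mem_normalizer_of_conj_smul_le
    exact le_of_eq (wcA m (hmS A' hA'S))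
  · apply Cfsg.Agent.Lib.Helper18.mem_normalizer_of_conj_smul_le
    exact le_of_eq (wcB m (hmS B' hB'S))

end Cfsg.Agent.S3203
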