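import Cfsg.Statements.S3206
import Cfsg.Agent.Lib.Helper20.JanRA
import Cfsg.Agent.Lib.Helper20.JanRE
import Cfsg.Agent.Lib.Helper20.JanRF

set_option autoImplicit false
open Cfsg

namespace Cfsg.Agent.S3206

open Cfsg.Agent.Lib.Helper20.JanR
open scoped commutatorElement

/-- Let G be a non-abelian finite simple group with abelian Sylow 2-subgroups, and let t be an involution of G whose centralizer is a maximal subgroup of G and is the direct product of the subgroup generated by t with a subgroup E having a normal subgroup isomorphic to PSL(2, q), q odd and greater than 3, with trivial centralizer in E. Then every finite perfect group having a central 2-subgroup with quotient isomorphic to G has that central subgroup trivial (G has no nontrivial perfect central extension by a 2-group), and every automorphism of G of 2-power order that fixes every element of some Sylow 2-subgroup of G is inner. -/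
theorem result {G : Type*} [Group G] [Finite G] [IsSimpleGroup G]
    (hG : ¬ IsMulCommutative G) (hab : ∀ S : Sylow 2 G, IsMulCommutative ↥(S : Subgroup G))
    (t : G) (ht : orderOf t = 2) (hmax : IsCoatom (Subgroup.centralizer ({t} : Set G)))
    (E : Subgroup G) (hE : Cfsg.IsInternalDirectProduct (Subgroup.zpowers t) E (Subgroup.centralizer ({t} : Set G)))
    {F : Type*} [Field F] [Fintype F] (hFo : Odd (Fintype.card F)) (hF3 : 3 < Fintype.card F)
    (N : Subgroup ↥E) [N.Normal] (hN : Nonempty (↥N ≃* Matrix.ProjectiveSpecialLinearGroup (Fin 2) F))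
    (hNc : Subgroup.centralizer (N : Set ↥E) = ⊥) :
    (∀ (L : Type) (_ : Group L) (_ : Finite L) (Z : Subgroup L) (_ : Z.Normal), commutator L = ⊤ → Z ≤ Subgroup.center L →
        IsPGroup 2 ↥Z → Nonempty (L ⧸ Z ≃* G) → Z = ⊥) ∧
    (∀ (φ : G ≃* G) (k : ℕ), φ ^ (2 ^ k) = 1 → (∃ S : Sylow 2 G, ∀ s ∈ (S : Subgroup G), φ s = s) →
        ∃ g : G, ∀ x : G, φ x = g * x * g⁻¹) := by
  have hab' : ∀ S : Sylow 2 G, ∀ a ∈ S, ∀ b ∈ S, a * b = b * a := by
    intro S a ha b hb
    have := hab S
    have h1 := mul_comm' (⟨a, ha⟩ : ↥(S : Subgroup G)) ⟨b, hb⟩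
    exact congrArg Subtype.val h1
  have heven : 2 ∣ Nat.card G := by
    rw [← ht]; exact orderOf_dvd_natCard t
  have hO : Cfsg.pPrimeCore 2 G = ⊥ := pPrimeCore_two_eq_bot_of_simple heven
  have hperfG : commutator G = ⊤ := by
    rcases (inferInstance : (commutator G).Normal).eq_bot_or_eq_top with h | h
    · exfalso
      apply hG
      refine ⟨⟨fun a b => ?_⟩⟩
      have h1 : ⁅a, b⁆ ∈ commutator G :=
        Subgroup.commutator_mem_commutator (Subgroup.mem_top a) (Subgroup.mem_top b)
      rw [h, Subgroup.mem_bot] at h1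
      exact commutatorElement_eq_one_iff_mul_comm.mp h1
    · exact h
  obtain ⟨e⟩ := hN
  have hstr := sylow_two_structure hab' t ht E hE hFo hF3 N e hNc
  refine ⟨?_, ?_⟩
  · intro L _ _ Z _ hperf hZc hZ2 ⟨eL⟩
    exact no_two_cover hperfG hab' hstr Z hperf hZc hZ2 eL
  · intro φ k hφ ⟨S, hS⟩
    obtain ⟨s, -, hs⟩ := inner_of_fixes_abelian_sylow hO S (hab' S) φ k hφ hS
    exact ⟨s, hs⟩

end Cfsg.Agent.S3206
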