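import Cfsg.Statements.S3208
-- import your own Cfsg.Agent.* helpers here
import Mathlib
import Cfsg.Agent.Lib.Helper18.Basic

set_option autoImplicit false
open Cfsg

namespace Cfsg.Agent.S3208

/-- Let j be an involution of a finite group G, H a subgroup of G, and T a Sylow 2-subgroup of H ∩ C_G(j) containing j such that ⟨j⟩ is a characteristic subgroup of T. Then T is a Sylow 2-subgroup of H. -/
theorem result {G : Type*} [Group G] [Finite G]
    (j : G) (hj : orderOf j = 2) (H T : Subgroup G) (hT : T ≤ H ⊓ Subgroup.centralizer ({j} : Set G)) (h2 : IsPGroup 2 ↥T)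
    (hSyl : ¬ 2 ∣ T.relIndex (H ⊓ Subgroup.centralizer ({j} : Set G))) (hjT : j ∈ T)
    (hchar : ((Subgroup.zpowers j).subgroupOf T).Characteristic) :
    ¬ 2 ∣ T.relIndex H := by
  intro hdvd
  have : Fact (Nat.Prime 2) := ⟨Nat.prime_two⟩
  have hTH : T ≤ H := hT.trans inf_le_left
  have hmod := Cfsg.Agent.Lib.Helper18.relIndex_inf_normalizer_modEq (p := 2) h2 hTH
  have hle : H ⊓ Subgroup.normalizer (T : Set G) ≤ H ⊓ Subgroup.centralizer ({j} : Set G) := by
    intro x hx
    exact ⟨hx.1, Cfsg.Agent.Lib.Helper18.mem_centralizer_of_characteristic_zpowers_involution hj hjT hchar hx.2⟩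
  have hTN : T ≤ H ⊓ Subgroup.normalizer (T : Set G) := le_inf hTH Subgroup.le_normalizer
  have hd : T.relIndex (H ⊓ Subgroup.normalizer (T : Set G)) ∣ T.relIndex (H ⊓ Subgroup.centralizer ({j} : Set G)) := by
    rw [← Subgroup.relIndex_mul_relIndex T _ _ hTN hle]
    exact dvd_mul_right _ _
  have h3 : 2 ∣ T.relIndex (H ⊓ Subgroup.normalizer (T : Set G)) := by
    rw [← Nat.modEq_zero_iff_dvd] at hdvd ⊢
    exact hmod.trans hdvd
  exact hSyl (h3.trans hd)

end Cfsg.Agent.S3208
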