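import Cfsg.Statements.S3209
import Cfsg.Agent.Lib.Helper13.SL2CentralProd
import Cfsg.Agent.Lib.Helper13.SL2TorusClasses

set_option autoImplicit false
open Cfsg

namespace Cfsg.Agent.S3209

/-- Let L₁ ≅ SL₂(q₁) and L₂ ≅ SL₂(q₂), q₁ and q₂ odd, be elementwise-commuting subgroups of a finite group meeting in ⟨j⟩ for an involution j. Then L₁L₂ has exactly two conjugacy classes of involutions: the central involution j, and one further class (there is an involution x ≠ j in L₁L₂, and every involution of L₁L₂ other than j is conjugate to x by an element of L₁L₂). -/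
theorem result {G : Type*} [Group G] [Finite G]
    {F₁ : Type*} [Field F₁] [Fintype F₁] {F₂ : Type*} [Field F₂] [Fintype F₂]
    (hF₁ : Odd (Fintype.card F₁)) (hF₂ : Odd (Fintype.card F₂)) (L₁ L₂ : Subgroup G)
    (e₁ : ↥L₁ ≃* Matrix.SpecialLinearGroup (Fin 2) F₁) (e₂ : ↥L₂ ≃* Matrix.SpecialLinearGroup (Fin 2) F₂)
    (hc : ∀ x ∈ L₁, ∀ y ∈ L₂, x * y = y * x) (j : G) (hj : orderOf j = 2) (hm : L₁ ⊓ L₂ = Subgroup.zpowers j) :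
    ∃ x ∈ L₁ ⊔ L₂, orderOf x = 2 ∧ x ≠ j ∧
      ∀ y ∈ L₁ ⊔ L₂, orderOf y = 2 → y = j ∨ ∃ g ∈ L₁ ⊔ L₂, g * x * g⁻¹ = y := by
  classical
  have h2₁ : (2 : F₁) ≠ 0 := Cfsg.Agent.Lib.Helper13.two_ne_zero_of_odd_card hF₁
  have h2₂ : (2 : F₂) ≠ 0 := Cfsg.Agent.Lib.Helper13.two_ne_zero_of_odd_card hF₂
  have hjmem : j ∈ L₁ ⊓ L₂ := by rw [hm]; exact Subgroup.mem_zpowers j
  have hj₁ : j ∈ L₁ := (Subgroup.mem_inf.mp hjmem).1
  have hj₂ : j ∈ L₂ := (Subgroup.mem_inf.mp hjmem).2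
  have hjj : j * j = 1 := by rw [← pow_two, ← hj]; exact pow_orderOf_eq_one j
  have hj1 : j ≠ 1 := by
    intro h
    rw [h, orderOf_one] at hj
    omega
  obtain ⟨a₁, ha₁, haa₁⟩ := Cfsg.Agent.Lib.Helper13.exists_sqrt_involution h2₁ L₁ e₁ j hj₁ hjj hj1
  obtain ⟨a₂, ha₂, haa₂⟩ := Cfsg.Agent.Lib.Helper13.exists_sqrt_involution h2₂ L₂ e₂ j hj₂ hjj hj1
  -- elements of `L₁ ∩ L₂` square to `1`
  have hsq_inter : ∀ c, c ∈ L₁ → c ∈ L₂ → c * c = 1 := by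
    intro c hc₁ hc₂
    have : c ∈ L₁ ⊓ L₂ := Subgroup.mem_inf.mpr ⟨hc₁, hc₂⟩
    rw [hm] at this
    rcases Cfsg.Agent.Lib.Helper13.mem_zpowers_of_mul_self_eq_one j c hjj this with h | h
    · rw [h, mul_one]
    · rw [h, hjj]
  have hcomm : Commute a₁ a₂ := hc a₁ ha₁ a₂ ha₂
  have hxx : (a₁ * a₂) * (a₁ * a₂) = 1 := by
    rw [hcomm.symm.mul_mul_mul_comm, haa₁, haa₂, hjj]
  -- `a₁ ∉ L₂`
  have ha₁L₂ : a₁ ∉ L₂ := by
    intro h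
    have := hsq_inter a₁ ha₁ h
    rw [haa₁] at this
    exact hj1 this
  have hx1 : a₁ * a₂ ≠ 1 := by
    intro h
    apply ha₁L₂
    have : a₁ = a₂⁻¹ := eq_inv_of_mul_eq_one_left h
    rw [this]
    exact inv_mem ha₂
  have hxj : a₁ * a₂ ≠ j := by
    intro h
    apply ha₁L₂
    have : a₁ = j * a₂⁻¹ := by rw [← h, mul_inv_cancel_right]
    rw [this]
    exact mul_mem hj₂ (inv_mem ha₂)
  refine ⟨a₁ * a₂, mul_mem (Subgroup.mem_sup_left ha₁) (Subgroup.mem_sup_right ha₂), ?_, hxj, ?_⟩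
  · apply orderOf_eq_prime
    · rw [pow_two]; exact hxx
    · exact hx1
  · intro y hy hy2
    obtain ⟨b₁, hb₁, b₂, hb₂, rfl⟩ :=
      Cfsg.Agent.Lib.Helper13.exists_mul_of_mem_sup_of_commute L₁ L₂ hc y hy
    have hbcomm : Commute b₁ b₂ := hc b₁ hb₁ b₂ hb₂
    have hyy : (b₁ * b₂) * (b₁ * b₂) = 1 := by
      rw [← pow_two, ← hy2]; exact pow_orderOf_eq_one _
    have hy1 : b₁ * b₂ ≠ 1 := by
      intro h
      rw [h, orderOf_one] at hy2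
      omega
    rw [hbcomm.symm.mul_mul_mul_comm] at hyy
    -- `b₁² = (b₂²)⁻¹ ∈ L₁ ∩ L₂`
    have hb₁sq : b₁ * b₁ = (b₂ * b₂)⁻¹ := eq_inv_of_mul_eq_one_left hyy
    have hmem₂ : b₁ * b₁ ∈ L₂ := by rw [hb₁sq]; exact inv_mem (mul_mem hb₂ hb₂)
    have hmem : b₁ * b₁ ∈ L₁ ⊓ L₂ := Subgroup.mem_inf.mpr ⟨mul_mem hb₁ hb₁, hmem₂⟩
    rw [hm] at hmem
    rcases Cfsg.Agent.Lib.Helper13.mem_zpowers_of_mul_self_eq_one j _ hjj hmem with h | h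
    · left
      have hb₂sq : b₂ * b₂ = 1 := by
        rw [h] at hb₁sq
        have := inv_eq_one.mp hb₁sq.symm
        exact this
      rcases Cfsg.Agent.Lib.Helper13.eq_one_or_eq_involution h2₁ L₁ e₁ j hj₁ hjj hj1 b₁ hb₁ h
        with h₁ | h₁ <;>
      rcases Cfsg.Agent.Lib.Helper13.eq_one_or_eq_involution h2₂ L₂ e₂ j hj₂ hjj hj1 b₂ hb₂ hb₂sq
        with h₂ | h₂
      · exfalso; apply hy1; rw [h₁, h₂, mul_one]
      · rw [h₁, h₂, one_mul]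
      · rw [h₁, h₂, mul_one]
      · exfalso; apply hy1; rw [h₁, h₂, hjj]
    · right
      have hb₂sq : b₂ * b₂ = j := by
        rw [h] at hb₁sq
        have : (b₂ * b₂)⁻¹⁻¹ = j⁻¹ := by rw [← hb₁sq]
        rw [inv_inv] at this
        rw [this]
        exact inv_eq_of_mul_eq_one_left hjj
      obtain ⟨g₁, hg₁, hga₁⟩ := Cfsg.Agent.Lib.Helper13.conj_of_sqrt_involution h2₁ L₁ e₁ j hj₁ hjj hj1
        a₁ b₁ ha₁ hb₁ haa₁ h
      obtain ⟨g₂, hg₂, hga₂⟩ := Cfsg.Agent.Lib.Helper13.conj_of_sqrt_involution h2₂ L₂ e₂ j hj₂ hjj hj1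
        a₂ b₂ ha₂ hb₂ haa₂ hb₂sq
      refine ⟨g₁ * g₂, mul_mem (Subgroup.mem_sup_left hg₁) (Subgroup.mem_sup_right hg₂), ?_⟩
      have c1 : Commute g₂ a₁ := (hc a₁ ha₁ g₂ hg₂).symm
      have c2 : Commute (g₂ * a₂) g₁⁻¹ := (hc g₁⁻¹ (inv_mem hg₁) (g₂ * a₂) (mul_mem hg₂ ha₂)).symm
      have c3 : Commute g₁⁻¹ g₂⁻¹ := hc g₁⁻¹ (inv_mem hg₁) g₂⁻¹ (inv_mem hg₂)
      calc g₁ * g₂ * (a₁ * a₂) * (g₁ * g₂)⁻¹
          = (g₁ * a₁) * (g₂ * a₂) * (g₁⁻¹ * g₂⁻¹) := by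
            rw [c1.mul_mul_mul_comm, _root_.mul_inv_rev, c3.eq]
        _ = (g₁ * a₁ * g₁⁻¹) * (g₂ * a₂ * g₂⁻¹) := by
            rw [mul_assoc (g₁ * a₁), ← mul_assoc (g₂ * a₂), c2.eq, mul_assoc g₁⁻¹, ← mul_assoc (g₁ * a₁)]
        _ = b₁ * b₂ := by rw [hga₁, hga₂]

end Cfsg.Agent.S3209
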