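import Cfsg.Statements.S3210
-- import your own Cfsg.Agent.* helpers here
import Mathlib
import Cfsg.Agent.Lib.Helper13.SL2CentralProd
import Cfsg.Agent.Lib.Helper13.SL2
import Cfsg.Agent.Lib.Helper18.SL2Swap

set_option autoImplicit false
open Cfsg Cfsg.Agent.Lib.Helper13 Cfsg.Agent.Lib.Helper18.SL2Swap

namespace Cfsg.Agent.S3210

theorem two_ne_zero_of_odd {F : Type*} [Field F] [Fintype F] (hF : Odd (Fintype.card F)) :
    (2 : F) ≠ 0 := by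
  intro h
  have h1 : ringChar F = 2 := CharP.ringChar_of_prime_eq_zero Nat.prime_two (by exact_mod_cast h)
  have h2 := FiniteField.even_card_of_char_two h1
  rcases hF with ⟨k, hk⟩
  omega

theorem card_inj {a b : ℕ} (h : a * (a ^ 2 - 1) = b * (b ^ 2 - 1)) (ha : 2 ≤ a) (hb : 2 ≤ b) :
    a = b := by
  have mono : ∀ x y : ℕ, 2 ≤ x → x < y → x * (x ^ 2 - 1) < y * (y ^ 2 - 1) := by
    intro x y hx hxy
    have h1 : x ^ 2 - 1 < y ^ 2 - 1 := by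
      have : x ^ 2 < y ^ 2 := Nat.pow_lt_pow_left hxy (by norm_num)
      have : 1 ≤ x ^ 2 := Nat.one_le_pow _ _ (by omega)
      omega
    exact Nat.mul_lt_mul'' hxy h1
  rcases lt_trichotomy a b with hlt | heq | hgt
  · exact absurd h (ne_of_lt (mono a b ha hlt))
  · exact heq
  · exact absurd h.symm (ne_of_lt (mono b a hb hgt))

theorem not_map_le_zpowers {G : Type*} [Group G] {F : Type*} [Field F] (h2 : (2 : F) ≠ 0)
    (X : Subgroup G) (e : ↥X ≃* Matrix.SpecialLinearGroup (Fin 2) F) (j : G) (hjX : j ∈ X)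
    (hjj : j * j = 1) (hj1 : j ≠ 1) (n : G) (hn : n ∈ Subgroup.centralizer ({j} : Set G))
    (Y : Subgroup G) (hY : Y = Subgroup.zpowers j) :
    ¬ (X.map (MulAut.conj n).toMonoidHom ≤ Y) := by
  intro hle'
  obtain ⟨a, ha, haa⟩ := exists_sqrt_involution h2 X e j hjX hjj hj1
  have h1 : n * a * n⁻¹ ∈ Y := hle' ⟨a, ha, by simp [MulAut.conj_apply]⟩
  rw [hY] at h1
  have hcomm := (Subgroup.mem_centralizer_iff.mp hn) j (Set.mem_singleton j)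
  have ha1 : a = 1 ∨ a = j := by
    rcases mem_zpowers_of_mul_self_eq_one j _ hjj h1 with h | h
    · left
      have : a = n⁻¹ * (n * a * n⁻¹) * n := by group
      rw [this, h]; group
    · right
      have : a = n⁻¹ * (n * a * n⁻¹) * n := by group
      rw [this, h, mul_assoc, hcomm]; group
  rcases ha1 with h | h
  · rw [h, one_mul] at haa; exact hj1 haa.symm
  · rw [h, hjj] at haa; exact hj1 haa.symm


/-- Let G be a finite group with subgroups L₁ ≅ SL₂(q₁) and L₂ ≅ SL₂(q₂), q₁ and q₂ odd prime powers, which commute elementwise and meet in ⟨j⟩ for an involution j, and suppose L₁L₂ has index 2 in C_G(j). Then every element n of C_G(j) outside L₁L₂ either normalizes both L₁ and L₂, or conjugates L₁ onto L₂; in the second case q₁ = q₂ and there is an element n′ of C_G(j) outside L₁L₂ conjugating L₁ onto L₂ with n′² ∈ ⟨j⟩. -/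
theorem result {G : Type*} [Group G] [Finite G]
    {F₁ : Type*} [Field F₁] [Fintype F₁] {F₂ : Type*} [Field F₂] [Fintype F₂]
    (hF₁ : Odd (Fintype.card F₁)) (hF₂ : Odd (Fintype.card F₂)) (L₁ L₂ : Subgroup G)
    (e₁ : ↥L₁ ≃* Matrix.SpecialLinearGroup (Fin 2) F₁) (e₂ : ↥L₂ ≃* Matrix.SpecialLinearGroup (Fin 2) F₂)
    (hc : ∀ x ∈ L₁, ∀ y ∈ L₂, x * y = y * x) (j : G) (hj : orderOf j = 2) (hm : L₁ ⊓ L₂ = Subgroup.zpowers j)
    (hle : L₁ ⊔ L₂ ≤ Subgroup.centralizer ({j} : Set G)) (hi : (L₁ ⊔ L₂).relIndex (Subgroup.centralizer ({j} : Set G)) = 2) (n : G) (hn : n ∈ Subgroup.centralizer ({j} : Set G)) (hn' : n ∉ L₁ ⊔ L₂) :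
    (L₁.map (MulAut.conj n).toMonoidHom = L₁ ∧ L₂.map (MulAut.conj n).toMonoidHom = L₂) ∨
      (L₁.map (MulAut.conj n).toMonoidHom = L₂ ∧ Fintype.card F₁ = Fintype.card F₂ ∧
        ∃ n' ∈ Subgroup.centralizer ({j} : Set G), n' ∉ L₁ ⊔ L₂ ∧ L₁.map (MulAut.conj n').toMonoidHom = L₂ ∧ n' ^ 2 ∈ Subgroup.zpowers j) := by
  classical
  have hjj : j * j = 1 := by rw [← sq, ← hj]; exact pow_orderOf_eq_one j
  have hj1 : j ≠ 1 := by
    intro h
    rw [h, orderOf_one] at hj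
    norm_num at hj
  have h2₁ : (2 : F₁) ≠ 0 := two_ne_zero_of_odd hF₁
  have h2₂ : (2 : F₂) ≠ 0 := two_ne_zero_of_odd hF₂
  have hjmem : j ∈ L₁ ⊓ L₂ := by rw [hm]; exact Subgroup.mem_zpowers j
  have hjL₁ : j ∈ L₁ := hjmem.1
  have hjL₂ : j ∈ L₂ := hjmem.2
  have hc' : ∀ x ∈ L₂, ∀ y ∈ L₁, x * y = y * x := fun x hx y hy => (hc y hy x hx).symm
  have hm' : L₂ ⊓ L₁ = Subgroup.zpowers j := by rw [inf_comm]; exact hm
  -- conjugation by elements of `C(j)` preserves `L`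
  have hLn : ∀ c ∈ Subgroup.centralizer ({j} : Set G), ∀ x ∈ L₁ ⊔ L₂, c * x * c⁻¹ ∈ L₁ ⊔ L₂ := by
    have hidx : ((L₁ ⊔ L₂).subgroupOf (Subgroup.centralizer ({j} : Set G))).index = 2 := hi
    have hnorm := Subgroup.normal_of_index_eq_two hidx
    intro c hcC x hx
    have := hnorm.conj_mem ⟨x, hle hx⟩ (Subgroup.mem_subgroupOf.mpr hx) ⟨c, hcC⟩
    exact Subgroup.mem_subgroupOf.mp this
  have hninv : n⁻¹ ∈ Subgroup.centralizer ({j} : Set G) := Subgroup.inv_mem _ hn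
  -- `L` normalizes `L₁` and `L₂`
  have hLnorm : ∀ (X Y : Subgroup G), (∀ x ∈ X, ∀ y ∈ Y, x * y = y * x) →
      ∀ g ∈ X ⊔ Y, ∀ y ∈ X, g * y * g⁻¹ ∈ X := by
    intro X Y hXY g hg y hy
    obtain ⟨a, ha, b, hb, rfl⟩ := exists_mul_of_mem_sup_of_commute X Y hXY g hg
    have h1 := hXY y hy b hb
    have : a * b * y * (a * b)⁻¹ = a * y * a⁻¹ := by
      calc a * b * y * (a * b)⁻¹ = a * (b * y) * b⁻¹ * a⁻¹ := by group
        _ = a * (y * b) * b⁻¹ * a⁻¹ := by rw [h1]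
        _ = a * y * a⁻¹ := by group
    rw [this]
    exact mul_mem (mul_mem ha hy) (inv_mem ha)
  have hLnorm₁ := hLnorm L₁ L₂ hc
  have hLnorm₂ : ∀ g ∈ L₁ ⊔ L₂, ∀ y ∈ L₂, g * y * g⁻¹ ∈ L₂ := by
    intro g hg y hy
    exact hLnorm L₂ L₁ hc' g (by rw [sup_comm]; exact hg) y hy
  -- the conjugates
  set M₁ : Subgroup G := L₁.map (MulAut.conj n).toMonoidHom with hM₁def
  set M₂ : Subgroup G := L₂.map (MulAut.conj n).toMonoidHom with hM₂def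
  have hmemM : ∀ (X : Subgroup G) (y : G), y ∈ X.map (MulAut.conj n).toMonoidHom ↔
      ∃ x ∈ X, n * x * n⁻¹ = y := by
    intro X y
    simp [Subgroup.mem_map, MulAut.conj_apply]
  have hM₁L : M₁ ≤ L₁ ⊔ L₂ := by
    intro y hy
    obtain ⟨x, hx, rfl⟩ := (hmemM L₁ y).mp hy
    exact hLn n hn x (le_sup_left (a := L₁) hx)
  have hM₂L : M₂ ≤ L₁ ⊔ L₂ := by
    intro y hy
    obtain ⟨x, hx, rfl⟩ := (hmemM L₂ y).mp hy
    exact hLn n hn x (le_sup_right (b := L₂) hx)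
  have hLM : L₁ ⊔ L₂ ≤ M₁ ⊔ M₂ := by
    intro x hx
    have hx' := hLn n⁻¹ hninv x hx
    rw [inv_inv] at hx'
    obtain ⟨a, ha, b, hb, hab⟩ := exists_mul_of_mem_sup_of_commute L₁ L₂ hc _ hx'
    have : x = (n * a * n⁻¹) * (n * b * n⁻¹) := by
      have : x = n * (n⁻¹ * x * n) * n⁻¹ := by group
      rw [this, hab]; group
    rw [this]
    exact Subgroup.mul_mem_sup ((hmemM L₁ _).mpr ⟨a, ha, rfl⟩) ((hmemM L₂ _).mpr ⟨b, hb, rfl⟩)
  have hcM : ∀ x ∈ M₁, ∀ y ∈ M₂, x * y = y * x := by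
    intro x hx y hy
    obtain ⟨a, ha, rfl⟩ := (hmemM L₁ x).mp hx
    obtain ⟨b, hb, rfl⟩ := (hmemM L₂ y).mp hy
    have h := hc a ha b hb
    calc n * a * n⁻¹ * (n * b * n⁻¹) = n * (a * b) * n⁻¹ := by group
      _ = n * (b * a) * n⁻¹ := by rw [h]
      _ = n * b * n⁻¹ * (n * a * n⁻¹) := by group
  have hcM' : ∀ x ∈ M₂, ∀ y ∈ M₁, x * y = y * x := fun x hx y hy => (hcM y hy x hx).symm
  have hnM : ∀ (X : Subgroup G), (∀ g ∈ L₁ ⊔ L₂, ∀ y ∈ X, g * y * g⁻¹ ∈ X) →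
      ∀ g ∈ L₁ ⊔ L₂, ∀ m ∈ X.map (MulAut.conj n).toMonoidHom,
        g * m * g⁻¹ ∈ X.map (MulAut.conj n).toMonoidHom := by
    intro X hX g hg m hmX
    obtain ⟨y, hy, rfl⟩ := (hmemM X m).mp hmX
    have hg' := hLn n⁻¹ hninv g hg
    rw [inv_inv] at hg'
    refine (hmemM X _).mpr ⟨(n⁻¹ * g * n) * y * (n⁻¹ * g * n)⁻¹, hX _ hg' y hy, ?_⟩
    group
  have hnM₁ := hnM L₁ hLnorm₁
  have hnM₂ := hnM L₂ hLnorm₂
  have hjM₁ : j ∈ M₁ := by
    refine (hmemM L₁ j).mpr ⟨j, hjL₁, ?_⟩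
    have := (Subgroup.mem_centralizer_iff.mp hn) j (Set.mem_singleton j)
    rw [← this]; group
  have hjM₂ : j ∈ M₂ := by
    refine (hmemM L₂ j).mpr ⟨j, hjL₂, ?_⟩
    have := (Subgroup.mem_centralizer_iff.mp hn) j (Set.mem_singleton j)
    rw [← this]; group
  -- the two applications of the key lemma
  have P1 : M₁ ≤ L₂ ∨ M₂ ≤ L₂ :=
    le_right_or_le_right h2₁ L₁ L₂ e₁ hc j hjj hj1 hm M₁ M₂ hM₁L hM₂L
      ((le_sup_left : L₁ ≤ L₁ ⊔ L₂).trans hLM) hcM (fun x hx => hnM₁ x (le_sup_left (a := L₁) hx))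
      (fun x hx => hnM₂ x (le_sup_left (a := L₁) hx))
  have P2 : M₁ ≤ L₁ ∨ M₂ ≤ L₁ :=
    le_right_or_le_right h2₂ L₂ L₁ e₂ hc' j hjj hj1 hm' M₁ M₂
      (by rw [sup_comm]; exact hM₁L) (by rw [sup_comm]; exact hM₂L)
      ((le_sup_right : L₂ ≤ L₁ ⊔ L₂).trans hLM) hcM (fun x hx => hnM₁ x (le_sup_right (b := L₂) hx))
      (fun x hx => hnM₂ x (le_sup_right (b := L₂) hx))
  have hbig₁ := not_map_le_zpowers h2₁ L₁ e₁ j hjL₁ hjj hj1 n hn (L₁ ⊓ L₂) hm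
  have hbig₂ := not_map_le_zpowers h2₂ L₂ e₂ j hjL₂ hjj hj1 n hn (L₁ ⊓ L₂) hm
  -- equality from inclusion
  have haux : ∀ (X Y M M' : Subgroup G), (∀ x ∈ M, ∀ y ∈ M', x * y = y * x) → M ≤ X → M' ≤ Y →
      X ≤ M ⊔ M' → X ⊓ Y ≤ M → M = X := by
    intro X Y M M' hMM hMX hM'Y hX hXY
    apply le_antisymm hMX
    intro x hx
    obtain ⟨m, hm₁, m', hm₂, hxe⟩ := exists_mul_of_mem_sup_of_commute M M' hMM x (hX hx)
    have hm'X : m' ∈ X := by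
      have : m' = m⁻¹ * x := by rw [hxe]; group
      rw [this]; exact mul_mem (inv_mem (hMX hm₁)) hx
    have : m' ∈ M := hXY ⟨hm'X, hM'Y hm₂⟩
    rw [hxe]; exact mul_mem hm₁ this
  have hinfM₁ : L₁ ⊓ L₂ ≤ M₁ := by rw [hm]; exact (Subgroup.zpowers_le).mpr hjM₁
  have hinfM₂ : L₁ ⊓ L₂ ≤ M₂ := by rw [hm]; exact (Subgroup.zpowers_le).mpr hjM₂
  have hLM' : L₁ ⊔ L₂ ≤ M₂ ⊔ M₁ := by rw [sup_comm M₂ M₁]; exact hLM
  have hL₁LM : L₁ ≤ M₁ ⊔ M₂ := (le_sup_left : L₁ ≤ L₁ ⊔ L₂).trans hLM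
  have hL₂LM : L₂ ≤ M₁ ⊔ M₂ := (le_sup_right : L₂ ≤ L₁ ⊔ L₂).trans hLM
  have hL₁LM' : L₁ ≤ M₂ ⊔ M₁ := (le_sup_left : L₁ ≤ L₁ ⊔ L₂).trans hLM'
  have hL₂LM' : L₂ ≤ M₂ ⊔ M₁ := (le_sup_right : L₂ ≤ L₁ ⊔ L₂).trans hLM'
  have hinfM₁' : L₂ ⊓ L₁ ≤ M₁ := by rw [inf_comm]; exact hinfM₁
  have hinfM₂' : L₂ ⊓ L₁ ≤ M₂ := by rw [inf_comm]; exact hinfM₂
  rcases P1 with h1 | h1 <;> rcases P2 with h2 | h2
  · exact absurd (le_inf h2 h1) hbig₁
  · -- the swap case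
    right
    have hM₁eq : M₁ = L₂ := haux L₂ L₁ M₁ M₂ hcM h1 h2 hL₂LM hinfM₁'
    have hM₂eq : M₂ = L₁ := haux L₁ L₂ M₂ M₁ hcM' h2 h1 hL₁LM' hinfM₂
    refine ⟨hM₁eq, ?_, ?_⟩
    · -- equality of the field sizes
      have hcard₁ : Nat.card ↥L₁ = Nat.card ↥L₂ := by
        rw [← hM₁eq, hM₁def]
        exact (Subgroup.card_map_of_injective (MulAut.conj n).injective).symm
      rw [Nat.card_congr e₁.toEquiv, Nat.card_congr e₂.toEquiv, card_SL2, card_SL2] at hcard₁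
      exact card_inj hcard₁ Fintype.one_lt_card Fintype.one_lt_card
    · -- the element n'
      have hidx : ((L₁ ⊔ L₂).subgroupOf (Subgroup.centralizer ({j} : Set G))).index = 2 := hi
      have hnn : n * n ∈ L₁ ⊔ L₂ := by
        have := Subgroup.mul_self_mem_of_index_two hidx ⟨n, hn⟩
        exact Subgroup.mem_subgroupOf.mp this
      obtain ⟨a, ha, b, hb, hab⟩ := exists_mul_of_mem_sup_of_commute L₁ L₂ hc _ hnn
      have ha'mem : n * a * n⁻¹ ∈ L₂ := by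
        rw [← hM₁eq]; exact (hmemM L₁ _).mpr ⟨a, ha, rfl⟩
      have hb'mem : n * b * n⁻¹ ∈ L₁ := by
        rw [← hM₂eq]; exact (hmemM L₂ _).mpr ⟨b, hb, rfl⟩
      have hrel : (n * a * n⁻¹) * (n * b * n⁻¹) = a * b := by
        calc (n * a * n⁻¹) * (n * b * n⁻¹) = n * (a * b) * n⁻¹ := by group
          _ = n * (n * n) * n⁻¹ := by rw [hab]
          _ = n * n := by group
          _ = a * b := hab
      have hcomm1 : a⁻¹ * (n * a * n⁻¹)⁻¹ = (n * a * n⁻¹)⁻¹ * a⁻¹ :=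
        hc a⁻¹ (inv_mem ha) _ (inv_mem ha'mem)
      have hsq1 : (a⁻¹ * n) ^ 2 = (n * a * n⁻¹)⁻¹ * b := by
        calc (a⁻¹ * n) ^ 2 = a⁻¹ * (n * a * n⁻¹)⁻¹ * (n * n) := by rw [pow_two]; group
          _ = (n * a * n⁻¹)⁻¹ * a⁻¹ * (a * b) := by rw [hcomm1, hab]
          _ = (n * a * n⁻¹)⁻¹ * b := by group
      have hsq2 : (n * a * n⁻¹)⁻¹ * b = a⁻¹ * (n * b * n⁻¹) := by
        have h3 : n * b * n⁻¹ = (n * a * n⁻¹)⁻¹ * (a * b) := by rw [← hrel]; group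
        rw [h3, ← mul_assoc, hcomm1]; group
      refine ⟨a⁻¹ * n, mul_mem (inv_mem (hle (le_sup_left (a := L₁) ha))) hn, ?_, ?_, ?_⟩
      · intro hmem
        apply hn'
        have : n = a * (a⁻¹ * n) := by group
        rw [this]
        exact mul_mem (le_sup_left (a := L₁) ha) hmem
      · ext x
        simp only [Subgroup.mem_map, MulEquiv.coe_toMonoidHom, MulAut.conj_apply]
        constructor
        · rintro ⟨y, hy, rfl⟩
          have hy' : n * y * n⁻¹ ∈ L₂ := by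
            rw [← hM₁eq]; exact (hmemM L₁ _).mpr ⟨y, hy, rfl⟩
          have hcomm2 := hc a⁻¹ (inv_mem ha) _ hy'
          have : a⁻¹ * n * y * (a⁻¹ * n)⁻¹ = n * y * n⁻¹ := by
            calc a⁻¹ * n * y * (a⁻¹ * n)⁻¹ = a⁻¹ * (n * y * n⁻¹) * a := by group
              _ = (n * y * n⁻¹) * a⁻¹ * a := by rw [hcomm2]
              _ = n * y * n⁻¹ := by group
          rw [this]; exact hy'
        · intro hx
          have hx' : x ∈ M₁ := by rw [hM₁eq]; exact hx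
          obtain ⟨y, hy, rfl⟩ := (hmemM L₁ x).mp hx'
          refine ⟨y, hy, ?_⟩
          have hcomm2 := hc a⁻¹ (inv_mem ha) _ hx
          calc a⁻¹ * n * y * (a⁻¹ * n)⁻¹ = a⁻¹ * (n * y * n⁻¹) * a := by group
            _ = (n * y * n⁻¹) * a⁻¹ * a := by rw [hcomm2]
            _ = n * y * n⁻¹ := by group
      · rw [← hm]
        refine Subgroup.mem_inf.mpr ⟨?_, ?_⟩
        · rw [hsq1, hsq2]
          exact mul_mem (inv_mem ha) hb'mem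
        · rw [hsq1]
          exact mul_mem (inv_mem ha'mem) hb
  · left
    exact ⟨haux L₁ L₂ M₁ M₂ hcM h2 h1 hL₁LM hinfM₁,
      haux L₂ L₁ M₂ M₁ hcM' h1 h2 hL₂LM' hinfM₂'⟩
  · exact absurd (le_inf h2 h1) hbig₂

end Cfsg.Agent.S3210
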