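import Cfsg.Statements.S3213
-- import your own Cfsg.Agent.* helpers here
import Mathlib
import Cfsg.Agent.Lib.Helper18.Sp4LinAlg
import Cfsg.Agent.Lib.Helper18.Sp4Five
import Cfsg.Agent.Lib.Helper18.Sp4SL2

set_option autoImplicit false
open Cfsg

namespace Cfsg.Agent.S3213

/-- Let F be the field with 3 elements and K the field with 5 elements. For every injective homomorphism φ from SL₂(K) into the symplectic group Sp₄(F) (4 × 4 matrices g with g J gᵀ = J for the standard alternating matrix J) and every element x of order 3 of SL₂(K), the vectors of F⁴ fixed by φ(x) form a 2-dimensional subspace that is totally isotropic for the alternating form defined by J. -/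
theorem result {F : Type*} [Field F] [Fintype F] (hF : Fintype.card F = 3)
    {K : Type*} [Field K] [Fintype K] (hK : Fintype.card K = 5)
    (φ : Matrix.SpecialLinearGroup (Fin 2) K →* ↥(Matrix.symplecticGroup (Fin 2) F)) (hφ : Function.Injective φ)
    (x : Matrix.SpecialLinearGroup (Fin 2) K) (hx : orderOf x = 3) :
    Module.finrank F ↥(LinearMap.ker (Matrix.toLin' ((φ x : Matrix (Fin 2 ⊕ Fin 2) (Fin 2 ⊕ Fin 2) F)) - LinearMap.id)) = 2 ∧
      ∀ v w : Fin 2 ⊕ Fin 2 → F, (φ x : Matrix (Fin 2 ⊕ Fin 2) (Fin 2 ⊕ Fin 2) F).mulVec v = v →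
        (φ x : Matrix (Fin 2 ⊕ Fin 2) (Fin 2 ⊕ Fin 2) F).mulVec w = w →
          dotProduct v ((Matrix.J (Fin 2) F).mulVec w) = 0 := by
  classical
  have hV : Module.finrank F (Fin 2 ⊕ Fin 2 → F) = 4 := by
    rw [Module.finrank_fintype_fun_eq_card]; simp
  -- the action on `F⁴`
  let ψ : Matrix.SpecialLinearGroup (Fin 2) K →* Module.End F (Fin 2 ⊕ Fin 2 → F) :=
    ((Matrix.toLinAlgEquiv' : Matrix (Fin 2 ⊕ Fin 2) (Fin 2 ⊕ Fin 2) F ≃ₐ[F] _) :
      Matrix (Fin 2 ⊕ Fin 2) (Fin 2 ⊕ Fin 2) F →* _).comp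
      ((Matrix.symplecticGroup (Fin 2) F).subtype.comp φ)
  have hψ : ∀ g, ψ g = Matrix.toLin' ((φ g : Matrix (Fin 2 ⊕ Fin 2) (Fin 2 ⊕ Fin 2) F)) :=
    fun g => rfl
  have hψinj : Function.Injective ψ := by
    intro g h hgh
    apply hφ
    apply Subtype.ext
    exact (Matrix.toLinAlgEquiv' : Matrix (Fin 2 ⊕ Fin 2) (Fin 2 ⊕ Fin 2) F ≃ₐ[F] _).injective hgh
  obtain ⟨y, hyx, hyy⟩ := Cfsg.Agent.Lib.Helper18.Sp4Fixed.exists_inverting hK x hx
  obtain ⟨u, hu5, hu1⟩ := Cfsg.Agent.Lib.Helper18.Sp4Fixed.exists_order_five hK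
  have hx3 : x * x * x = 1 := by
    have h3 : x ^ 3 = 1 := by rw [← hx]; exact pow_orderOf_eq_one x
    rw [← h3, pow_succ, pow_two]
  have hx1 : x ≠ 1 := by
    intro h; rw [h, orderOf_one] at hx; omega
  have hxinv : x⁻¹ = x * x := by
    rw [inv_eq_iff_mul_eq_one, ← mul_assoc]; exact hx3
  have h5 : (5 : K) = 0 := by
    have := FiniteField.cast_card_eq_zero K
    rw [hK] at this
    exact_mod_cast this
  -- `z = y * y` is the central involution
  set z := y * y with hz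
  have hzz : z * z = 1 := by
    apply Subtype.ext
    show (z : Matrix (Fin 2) (Fin 2) K) * (z : Matrix (Fin 2) (Fin 2) K) = 1
    rw [hyy]; simp
  have hz1 : z ≠ 1 := by
    intro h
    have h1 := congrArg (fun m : Matrix.SpecialLinearGroup (Fin 2) K =>
      (m : Matrix (Fin 2) (Fin 2) K) 0 0) h
    simp only [hyy] at h1
    simp at h1
    -- `-1 = 1` in `K`
    have h2 : (2 : K) = 0 := by linear_combination -h1
    have h3 : (1 : K) = 0 := by linear_combination h5 - 2 * h2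
    exact one_ne_zero h3
  have hzc : ∀ g : Matrix.SpecialLinearGroup (Fin 2) K, g * z = z * g := by
    intro g
    apply Subtype.ext
    show (g : Matrix (Fin 2) (Fin 2) K) * (z : Matrix (Fin 2) (Fin 2) K) =
      (z : Matrix (Fin 2) (Fin 2) K) * (g : Matrix (Fin 2) (Fin 2) K)
    rw [hyy]; simp
  have hZ : ψ z = -1 := by
    apply Cfsg.Agent.Lib.Helper18.Sp4Fixed.eq_neg_one_of_central hF hV (ψ z) (ψ u)
    · rw [← map_mul, hzz, map_one]
    · intro h; exact hz1 (hψinj (h.trans (map_one ψ).symm))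
    · rw [← map_pow, hu5, map_one]
    · intro h; exact hu1 (hψinj (h.trans (map_one ψ).symm))
    · rw [← map_mul, ← map_mul, hzc]
  obtain ⟨hdim, hker⟩ := Cfsg.Agent.Lib.Helper18.Sp4Fixed.ker_eq_range hF hV (ψ x) (ψ y)
    (by rw [← map_mul, ← map_mul, hx3, map_one])
    (by intro h; exact hx1 (hψinj (h.trans (map_one ψ).symm)))
    (by rw [← map_mul, ← hz, hZ])
    (by rw [← map_mul, ← map_mul, ← map_mul, hyx, hxinv])
  have hone : (1 : Module.End F (Fin 2 ⊕ Fin 2 → F)) = LinearMap.id := rfl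
  rw [hψ, hone] at hdim hker
  refine ⟨hdim, ?_⟩
  intro v w hv hw
  set A : Matrix (Fin 2 ⊕ Fin 2) (Fin 2 ⊕ Fin 2) F :=
    (φ x : Matrix (Fin 2 ⊕ Fin 2) (Fin 2 ⊕ Fin 2) F) with hA
  have hw' : w ∈ LinearMap.ker (Matrix.toLin' A - LinearMap.id) := by
    rw [LinearMap.mem_ker, LinearMap.sub_apply, Matrix.toLin'_apply, hw]
    simp
  rw [hker] at hw'
  obtain ⟨w', rfl⟩ := hw'
  have hsymp : A.transpose * Matrix.J (Fin 2) F * A = Matrix.J (Fin 2) F :=
    (SymplecticGroup.mem_iff' (A := A)).mp (φ x).2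
  rw [LinearMap.sub_apply, Matrix.toLin'_apply, LinearMap.id_apply, Matrix.mulVec_sub,
    dotProduct_sub]
  have h1 : dotProduct v ((Matrix.J (Fin 2) F).mulVec (A.mulVec w')) =
      dotProduct v ((Matrix.J (Fin 2) F).mulVec w') := by
    conv_lhs => rw [← hv]
    rw [dotProduct_comm, Matrix.dotProduct_mulVec, ← Matrix.mulVec_transpose, dotProduct_comm,
      Matrix.mulVec_mulVec, Matrix.mulVec_mulVec, hsymp]
  rw [h1, sub_self]

end Cfsg.Agent.S3213
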