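import Cfsg.Statements.S3215
-- import your own Cfsg.Agent.* helpers here
import Mathlib
import Cfsg.Agent.S0028
import Cfsg.Agent.S0044
import Cfsg.Agent.Lib.Helper1.Fitting
import Cfsg.Agent.Lib.Helper1.Hall
import Cfsg.Agent.Lib.Helper12.Cores
import Cfsg.Agent.Lib.Helper4.SupersolvableComm
import Cfsg.Agent.Lib.Helper18.Basic
import Cfsg.Agent.Lib.Helper18.Conj
import Cfsg.Agent.Lib.Helper18.Fpf

set_option autoImplicit false
open Cfsg

namespace Cfsg.Agent.S3215

open scoped Pointwise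

theorem centralizer_pCore_le {X : Type*} [Group X] [Finite X] [Group.IsSolvable X] (p : ℕ)
    [hp : Fact p.Prime] (hO : Cfsg.pPrimeCore p X = ⊥) :
    Subgroup.centralizer (Cfsg.pCore p X : Set X) ≤ Cfsg.pCore p X := by
  have hodd : ∀ q : Nat.Primes, (q : ℕ) ≠ p → Cfsg.pCore (q : ℕ) X = ⊥ := by
    intro q hq
    have : Fact (Nat.Prime (q : ℕ)) := ⟨q.2⟩
    rw [eq_bot_iff, ← hO]
    apply Cfsg.Agent.Lib.Helper12.le_pPrimeCore p _ (Cfsg.Agent.Lib.Helper1.pCore_normal _ X)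
    obtain ⟨n, hn⟩ := IsPGroup.iff_card.mp (Cfsg.Agent.Lib.Helper1.pCore_isPGroup (q : ℕ) X)
    rw [hn]
    apply Nat.Coprime.pow_left
    exact (Nat.coprime_primes q.2 hp.out).mpr hq
  have hF : Cfsg.fittingSubgroup X = Cfsg.pCore p X := by
    rw [Cfsg.Agent.Lib.Helper1.fittingSubgroup_eq_iSup_pCore]
    apply le_antisymm
    · apply iSup_le
      intro q
      by_cases hq : (q : ℕ) = p
      · rw [hq]
      · rw [hodd q hq]; exact bot_le
    · exact le_iSup_of_le (⟨p, hp.out⟩ : Nat.Primes) le_rfl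
  have := Cfsg.Agent.S0044.result (G := X)
  rwa [hF] at this

theorem pCore_quotient_eq_bot {X : Type*} [Group X] [Finite X] (p : ℕ) [hp : Fact p.Prime]
    [hn : (Cfsg.pCore p X).Normal] :
    Cfsg.pCore p (X ⧸ Cfsg.pCore p X) = ⊥ := by
  set O := Cfsg.pCore p X with hO
  set Nb := Cfsg.pCore p (X ⧸ O) with hNb
  haveI : Nb.Normal := Cfsg.Agent.Lib.Helper1.pCore_normal p _
  have hN : Nb.comap (QuotientGroup.mk' O) ≤ O := by
    apply Cfsg.Agent.Lib.Helper1.le_pCore
    · infer_instance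
    · obtain ⟨a, ha⟩ := IsPGroup.iff_card.mp (Cfsg.Agent.Lib.Helper1.pCore_isPGroup p X)
      obtain ⟨b, hb⟩ := IsPGroup.iff_card.mp (Cfsg.Agent.Lib.Helper1.pCore_isPGroup p (X ⧸ O))
      apply IsPGroup.of_card (n := a + b)
      rw [Cfsg.Agent.Lib.Helper12.card_comap_mk', ha, hb, pow_add]
  rw [eq_bot_iff]
  intro x hx
  obtain ⟨y, rfl⟩ := QuotientGroup.mk'_surjective O x
  have : y ∈ O := hN hx
  rw [Subgroup.mem_bot]
  exact (QuotientGroup.eq_one_iff y).mpr this

theorem zpowers_le_centralizer_zpowers {G : Type*} [Group G] {a b : G} (h : Commute a b) :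
    Subgroup.zpowers a ≤ Subgroup.centralizer (Subgroup.zpowers b : Set G) := by
  rw [Subgroup.zpowers_le, Subgroup.mem_centralizer_iff]
  intro z hz
  obtain ⟨k, rfl⟩ := Subgroup.mem_zpowers_iff.mp hz
  exact ((h.zpow_right k).eq).symm

theorem stepB {H : Type*} [Group H] [Finite H] (Y : Subgroup H) [hYn : Y.Normal]
    (hYp : IsPGroup 2 Y) (t : H)
    (hcomp : Cfsg.HasNormalPComplement 2 ↥(Subgroup.centralizer ({t} : Set H)))
    (x : H) (hx : Odd (orderOf x)) (hxt : x * t = t * x) (y : H) (hy : y ∈ Y)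
    (hyt : y * t = t * y) : x * y = y * x := by
  classical
  haveI hp2 : Fact (Nat.Prime 2) := ⟨Nat.prime_two⟩
  obtain ⟨P, N, hNn, hcompl⟩ := hcomp
  haveI := hNn
  have hxC : x ∈ Subgroup.centralizer ({t} : Set H) := by
    rw [Subgroup.mem_centralizer_iff]
    intro z hz
    rw [Set.mem_singleton_iff] at hz
    subst hz
    exact hxt.symm
  have hyC : y ∈ Subgroup.centralizer ({t} : Set H) := by
    rw [Subgroup.mem_centralizer_iff]
    intro z hz
    rw [Set.mem_singleton_iff] at hz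
    subst hz
    exact hyt.symm
  set x' : ↥(Subgroup.centralizer ({t} : Set H)) := ⟨x, hxC⟩ with hx'
  set y' : ↥(Subgroup.centralizer ({t} : Set H)) := ⟨y, hyC⟩ with hy'
  have hidx : N.index = Nat.card (P : Subgroup ↥(Subgroup.centralizer ({t} : Set H))) :=
    hcompl.symm.index_eq_card
  obtain ⟨a, ha⟩ := IsPGroup.iff_card.mp P.isPGroup'
  have hx'N : x' ∈ N := by
    rw [← QuotientGroup.eq_one_iff]
    have h1 : (QuotientGroup.mk x' : _ ⧸ N) ^ (2 ^ a) = 1 := by
      rw [← ha, ← hidx, Subgroup.index_eq_card]; exact pow_card_eq_one'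
    have h2 : (QuotientGroup.mk x' : _ ⧸ N) ^ (orderOf x) = 1 := by
      rw [← QuotientGroup.mk_pow]
      have : x' ^ (orderOf x) = 1 := Subtype.ext (by simp [hx', pow_orderOf_eq_one])
      rw [this]; rfl
    have h3 : orderOf (QuotientGroup.mk x' : _ ⧸ N) ∣ Nat.gcd (2 ^ a) (orderOf x) :=
      Nat.dvd_gcd (orderOf_dvd_of_pow_eq_one h1) (orderOf_dvd_of_pow_eq_one h2)
    have h4 : Nat.gcd (2 ^ a) (orderOf x) = 1 := Nat.Coprime.pow_left a hx.coprime_two_left
    rw [h4, Nat.dvd_one] at h3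
    exact orderOf_eq_one_iff.mp h3
  set c := x' * y' * x'⁻¹ * y'⁻¹ with hc
  have hcN : c ∈ N := by
    have : c = x' * (y' * x'⁻¹ * y'⁻¹) := by rw [hc]; group
    rw [this]
    exact N.mul_mem hx'N (hNn.conj_mem x'⁻¹ (N.inv_mem hx'N) y')
  have hcY : (c : H) ∈ Y := by
    have : (c : H) = (x * y * x⁻¹) * y⁻¹ := by simp [hc, hx', hy']
    rw [this]
    exact Y.mul_mem (hYn.conj_mem y hy x) (Y.inv_mem hy)
  have hNodd : ¬ 2 ∣ Nat.card N := by
    rw [← hcompl.index_eq_card]; exact P.not_dvd_index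
  have hc1 : c = 1 := by
    obtain ⟨k, hk⟩ := hYp ⟨(c : H), hcY⟩
    have hk' : c ^ (2 ^ k) = 1 := by
      apply Subtype.ext
      have := congrArg Subtype.val hk
      simpa using this
    have h1 : orderOf c ∣ 2 ^ k := orderOf_dvd_of_pow_eq_one hk'
    have h2 : orderOf c ∣ Nat.card N := by
      have : orderOf (⟨c, hcN⟩ : N) = orderOf c := Subgroup.orderOf_mk c hcN
      rw [← this]; exact orderOf_dvd_natCard _
    obtain ⟨j, -, hj⟩ := (Nat.dvd_prime_pow Nat.prime_two).mp h1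
    rcases Nat.eq_zero_or_pos j with h0 | h0
    · rw [h0, pow_zero] at hj; exact orderOf_eq_one_iff.mp hj
    · exfalso; apply hNodd
      exact (dvd_pow_self 2 (by omega)).trans (hj ▸ h2)
  have h5 : x * y * x⁻¹ * y⁻¹ = 1 := by
    have := congrArg Subtype.val hc1
    simpa [hc, hx', hy'] using this
  calc x * y = (x * y * x⁻¹ * y⁻¹) * y * x := by group
    _ = y * x := by rw [h5, one_mul]

theorem stepC {H : Type*} [Group H] [Finite H] (Y : Subgroup H) [hYn : Y.Normal]
    (hYp : IsPGroup 2 Y) (hCY : Subgroup.centralizer (Y : Set H) ≤ Y)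
    (hI : ∀ t : H, orderOf t = 2 → Cfsg.HasNormalPComplement 2 ↥(Subgroup.centralizer ({t} : Set H)))
    (x : H) (hx : Odd (orderOf x)) (hx1 : x ≠ 1) (y : H) (hy : y ∈ Y) (hy1 : y ≠ 1) :
    x * y ≠ y * x := by
  classical
  haveI hp2 : Fact (Nat.Prime 2) := ⟨Nat.prime_two⟩
  intro hxy
  set D := Y ⊓ Subgroup.centralizer ({x} : Set H) with hD
  have hyD : y ∈ D := by
    refine Subgroup.mem_inf.mpr ⟨hy, ?_⟩
    rw [Subgroup.mem_centralizer_iff]
    intro z hz
    rw [Set.mem_singleton_iff] at hz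
    subst hz
    exact hxy
  have hDp : IsPGroup 2 D := hYp.to_le inf_le_left
  have hDne : D ≠ ⊥ := fun h => hy1 ((Subgroup.eq_bot_iff_forall D).mp h y hyD)
  have h2D : 2 ∣ Nat.card D := by
    rcases hDp.card_eq_or_dvd with h | h
    · exact absurd (Subgroup.eq_bot_of_card_eq D h) hDne
    · exact h
  obtain ⟨t', ht'⟩ := exists_prime_orderOf_dvd_card' 2 h2D
  set t : H := (t' : H) with ht
  have hto : orderOf t = 2 := by rw [ht, Subgroup.orderOf_coe]; exact ht'
  have htY : t ∈ Y := (Subgroup.mem_inf.mp t'.2).1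
  have hxt : x * t = t * x := by
    have := (Subgroup.mem_inf.mp t'.2).2
    rw [Subgroup.mem_centralizer_iff] at this
    exact this x rfl
  have hB := stepB Y hYp t (hI t hto) x hx hxt
  have hQ : Subgroup.zpowers x ≤ Subgroup.centralizer (Y : Set H) := by
    apply Cfsg.Agent.S0028.result 2 (Subgroup.zpowers t) (Subgroup.zpowers x) Y
    · apply IsPGroup.of_card (n := 1)
      rw [Nat.card_zpowers, hto, pow_one]
    · rw [Nat.card_zpowers]; exact hx.coprime_two_right
    · exact hYp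
    · exact zpowers_le_centralizer_zpowers (show Commute t x from hxt.symm)
    · rw [Subgroup.normalizer_eq_top]; exact le_top
    · rw [Subgroup.normalizer_eq_top]; exact le_top
    · rintro y' ⟨hy'Y, hy'c⟩
      have h1 : t * y' = y' * t :=
        (Subgroup.mem_centralizer_iff.mp hy'c) t (Subgroup.mem_zpowers t)
      have h2 : x * y' = y' * x := hB y' hy'Y h1.symm
      rw [Subgroup.mem_centralizer_iff]
      intro z hz
      obtain ⟨k, rfl⟩ := Subgroup.mem_zpowers_iff.mp hz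
      exact ((show Commute x y' from h2).zpow_left k).eq
  have hxY : x ∈ Y := hCY (hQ (Subgroup.mem_zpowers x))
  obtain ⟨k, hk⟩ := hYp ⟨x, hxY⟩
  have hk' : x ^ (2 ^ k) = 1 := by
    have := congrArg Subtype.val hk
    simpa using this
  have h1 : orderOf x ∣ 2 ^ k := orderOf_dvd_of_pow_eq_one hk'
  have h2 : orderOf x = 1 := by
    have h3 : Nat.Coprime (orderOf x) (2 ^ k) := Nat.Coprime.pow_right k hx.coprime_two_right
    exact Nat.Coprime.eq_one_of_dvd h3 h1
  exact hx1 (orderOf_eq_one_iff.mp h2)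

theorem subsingleton_of_pCore_eq_bot {H : Type*} [Group H] (Y : Subgroup H)
    (hCY : Subgroup.centralizer (Y : Set H) ≤ Y) (hYbot : Y = ⊥) : Subsingleton H := by
  have h0 : ∀ h : H, h = 1 := fun h => by
    have h1 : h ∈ Subgroup.centralizer (Y : Set H) := by
      rw [Subgroup.mem_centralizer_iff]
      intro z hz
      rw [hYbot, Subgroup.coe_bot, Set.mem_singleton_iff] at hz
      subst hz
      simp
    have := hCY h1
    rw [hYbot, Subgroup.mem_bot] at this
    exact this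
  exact ⟨fun a b => by rw [h0 a, h0 b]⟩

theorem cyclic_of_odd_pgroup {H : Type*} [Group H] [Finite H] (Y : Subgroup H) [hYn : Y.Normal]
    (hYp : IsPGroup 2 Y) (hCY : Subgroup.centralizer (Y : Set H) ≤ Y)
    (hI : ∀ t : H, orderOf t = 2 → Cfsg.HasNormalPComplement 2 ↥(Subgroup.centralizer ({t} : Set H)))
    (p : ℕ) [hp : Fact p.Prime] (hp2 : p ≠ 2) (Q : Subgroup H) (hQ : IsPGroup p Q) :
    IsCyclic Q := by
  classical
  haveI hF2 : Fact (Nat.Prime 2) := ⟨Nat.prime_two⟩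
  by_cases hYbot : Y = ⊥
  · haveI := subsingleton_of_pCore_eq_bot Y hCY hYbot
    exact isCyclic_of_subsingleton
  · set V := Y ⊓ Subgroup.centralizer (Y : Set H) with hVdef
    haveI hVn : V.Normal := inferInstance
    haveI hVc : IsMulCommutative V := by
      refine ⟨⟨fun a b => Subtype.ext ?_⟩⟩
      have ha : (a : H) ∈ Y := (Subgroup.mem_inf.mp a.2).1
      have hb : (b : H) ∈ Subgroup.centralizer (Y : Set H) := (Subgroup.mem_inf.mp b.2).2
      exact (Subgroup.mem_centralizer_iff.mp hb) a ha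
    have hV : V ≠ ⊥ := by
      haveI : Nontrivial Y := (Subgroup.nontrivial_iff_ne_bot Y).mpr hYbot
      haveI := hYp.center_nontrivial
      obtain ⟨z, hz⟩ := exists_ne (1 : Subgroup.center Y)
      intro hbot
      apply hz
      have hzV : ((z : Y) : H) ∈ V := by
        refine Subgroup.mem_inf.mpr ⟨(z : Y).2, ?_⟩
        rw [Subgroup.mem_centralizer_iff]
        intro y hy
        have := (Subgroup.mem_center_iff.mp z.2) ⟨y, hy⟩
        exact congrArg Subtype.val this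
      rw [hbot, Subgroup.mem_bot] at hzV
      apply Subtype.ext
      apply Subtype.ext
      simpa using hzV
    have hVp : ∀ v ∈ V, v ^ p = 1 → v = 1 := by
      intro v hv hvp
      have hvY : v ∈ Y := (Subgroup.mem_inf.mp hv).1
      obtain ⟨k, hk⟩ := hYp ⟨v, hvY⟩
      have hk' : v ^ (2 ^ k) = 1 := by
        have := congrArg Subtype.val hk
        simpa using this
      have h1 : orderOf v ∣ 2 ^ k := orderOf_dvd_of_pow_eq_one hk'
      have h2 : orderOf v ∣ p := orderOf_dvd_of_pow_eq_one hvp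
      have h3 : Nat.Coprime (2 ^ k) p :=
        Nat.Coprime.pow_left k ((Nat.coprime_primes Nat.prime_two hp.out).mpr (Ne.symm hp2))
      have h4 : orderOf v = 1 := Nat.eq_one_of_dvd_coprimes h3 h1 h2
      exact orderOf_eq_one_iff.mp h4
    have hfpf : ∀ x : H, x ≠ 1 → x ^ p = 1 → ∀ v ∈ V, x * v = v * x → v = 1 := by
      intro x hx1 hxp v hv hxv
      by_contra hv1
      have hord : orderOf x = p := orderOf_eq_prime hxp hx1
      have hodd : Odd (orderOf x) := by rw [hord]; exact hp.out.odd_of_ne_two hp2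
      exact stepC Y hYp hCY hI x hodd hx1 v (Subgroup.mem_inf.mp hv).1 hv1 hxv
    exact Cfsg.Agent.Lib.Helper18.isCyclic_of_fpf_odd V hV hp2 hVp hfpf Q hQ

theorem no_invol_commutes {H : Type*} [Group H] [Finite H] (Y : Subgroup H) [hYn : Y.Normal]
    (hYp : IsPGroup 2 Y) (hCY : Subgroup.centralizer (Y : Set H) ≤ Y)
    (hI : ∀ t : H, orderOf t = 2 → Cfsg.HasNormalPComplement 2 ↥(Subgroup.centralizer ({t} : Set H)))
    (t x : H) (ht : orderOf t = 2) (hx : Odd (orderOf x)) (hx1 : x ≠ 1) : x * t ≠ t * x := by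
  classical
  haveI hF2 : Fact (Nat.Prime 2) := ⟨Nat.prime_two⟩
  intro hxt
  have hYbot : Y ≠ ⊥ := by
    intro h
    haveI := subsingleton_of_pCore_eq_bot Y hCY h
    exact hx1 (Subsingleton.elim x 1)
  have htp : IsPGroup 2 (Subgroup.zpowers t) := by
    apply IsPGroup.of_card (n := 1)
    rw [Nat.card_zpowers, ht, pow_one]
  obtain ⟨w, hwY, hw1, hwc⟩ := Cfsg.Agent.Lib.Helper18.exists_ne_one_fixed_of_pgroup_normalizes
    Y (Subgroup.zpowers t) hYp htp hYbot (by rw [Subgroup.normalizer_eq_top]; exact le_top)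
  have hwt : w * t = t * w := (hwc t (Subgroup.mem_zpowers t)).symm
  have h1 := stepB Y hYp t (hI t ht) x hx hxt w hwY hwt
  exact stepC Y hYp hCY hI x hx hx1 w hwY hw1 h1

theorem partCD {H : Type*} [Group H] [Finite H] [Group.IsSolvable H] (Y : Subgroup H)
    [hYn : Y.Normal] (hYp : IsPGroup 2 Y) (hYq : Cfsg.pCore 2 (H ⧸ Y) = ⊥)
    (hcyc : ∀ (p : ℕ) [Fact p.Prime], p ≠ 2 → ∀ Q : Subgroup H, IsPGroup p Q → IsCyclic Q)
    (hinv : ∀ t x : H, orderOf t = 2 → Odd (orderOf x) → x ≠ 1 → x * t ≠ t * x)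
    (X : Subgroup H) (hXodd : Odd (Nat.card X)) (kX : ℕ) (hkX : X.index = 2 ^ kX) :
    (X ⊔ Y).Normal ∧ ∀ hN : (X ⊔ Y).Normal, IsCyclic (H ⧸ (X ⊔ Y)) := by
  classical
  haveI hF2 : Fact (Nat.Prime 2) := ⟨Nat.prime_two⟩
  set π := QuotientGroup.mk' Y with hπ
  have hπs : Function.Surjective π := QuotientGroup.mk'_surjective Y
  set Xb := X.map π with hXb
  have hXbodd : Odd (Nat.card Xb) := Odd.of_dvd_nat hXodd (Subgroup.card_map_dvd X π)
  obtain ⟨kb, hkb⟩ : ∃ k, Xb.index = 2 ^ k := by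
    have h1 : Xb.index ∣ 2 ^ kX := hkX ▸ Subgroup.index_map_dvd X hπs
    obtain ⟨k, -, hk⟩ := (Nat.dvd_prime_pow Nat.prime_two).mp h1
    exact ⟨k, hk⟩
  -- X ∩ Y = 1
  have hXY1 : ∀ z, z ∈ X → z ∈ Y → z = 1 := by
    intro z hzX hzY
    have h1 : orderOf (⟨z, hzX⟩ : X) ∣ Nat.card X := orderOf_dvd_natCard _
    rw [Subgroup.orderOf_mk] at h1
    have hodd : Odd (orderOf z) := Odd.of_dvd_nat hXodd h1
    obtain ⟨k, hk⟩ := hYp ⟨z, hzY⟩
    have hk' : z ^ (2 ^ k) = 1 := by
      have := congrArg Subtype.val hk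
      simpa using this
    have h2 : orderOf z ∣ 2 ^ k := orderOf_dvd_of_pow_eq_one hk'
    have h3 : Nat.Coprime (orderOf z) (2 ^ k) := Nat.Coprime.pow_right k hodd.coprime_two_right
    exact orderOf_eq_one_iff.mp (Nat.Coprime.eq_one_of_dvd h3 h2)
  -- normal odd-order subgroups of the quotient lie in the image of X
  have hQ3 : ∀ N : Subgroup (H ⧸ Y), N.Normal → Odd (Nat.card N) → N ≤ Xb := by
    intro N hN hNodd
    obtain ⟨g, hg⟩ := Cfsg.Agent.Lib.Helper1.hall_dominance (Nat.card (H ⧸ Y)) (H ⧸ Y) rfl Xb N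
      (by rw [hkb]; exact Nat.Coprime.pow_right kb hXbodd.coprime_two_right)
      (by rw [hkb]; exact Nat.Coprime.pow_right kb hNodd.coprime_two_right)
    intro n hn
    have h1 : g * n * g⁻¹ ∈ N := hN.conj_mem n hn g
    have h2 := hg h1
    rw [Cfsg.Agent.Lib.Helper18.mem_conj_smul_iff'] at h2
    have h3 : g⁻¹ * (g * n * g⁻¹) * g = n := by group
    rwa [h3] at h2
  -- odd cores of the quotient
  have hNq : ∀ (q : ℕ) [Fact q.Prime], q ≠ 2 →
      Cfsg.pCore q (H ⧸ Y) ≤ Xb ∧ IsCyclic (Cfsg.pCore q (H ⧸ Y)) := by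
    intro q hq hq2
    have hNqn : (Cfsg.pCore q (H ⧸ Y)).Normal := Cfsg.Agent.Lib.Helper1.pCore_normal q _
    have hNqp : IsPGroup q (Cfsg.pCore q (H ⧸ Y)) := Cfsg.Agent.Lib.Helper1.pCore_isPGroup q _
    obtain ⟨e, he⟩ := IsPGroup.iff_card.mp hNqp
    have hNqodd : Odd (Nat.card (Cfsg.pCore q (H ⧸ Y))) := by
      rw [he]; exact Odd.pow (hq.out.odd_of_ne_two hq2)
    have hle := hQ3 _ hNqn hNqodd
    refine ⟨hle, ?_⟩
    set Q := (Cfsg.pCore q (H ⧸ Y)).comap π ⊓ X with hQdef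
    have hQp : IsPGroup q Q := by
      rintro ⟨x, hx⟩
      refine ⟨e, Subtype.ext ?_⟩
      have hxN : π x ∈ Cfsg.pCore q (H ⧸ Y) := (Subgroup.mem_inf.mp hx).1
      have hxX : x ∈ X := (Subgroup.mem_inf.mp hx).2
      have h1 : (π x) ^ (q ^ e) = 1 := by
        have h0 : (⟨π x, hxN⟩ : Cfsg.pCore q (H ⧸ Y)) ^ Nat.card (Cfsg.pCore q (H ⧸ Y)) = 1 :=
          pow_card_eq_one'
        rw [he] at h0
        have := congrArg Subtype.val h0
        simpa using this
      have h2 : x ^ (q ^ e) ∈ Y := by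
        rw [← QuotientGroup.eq_one_iff, QuotientGroup.mk_pow]
        exact h1
      have h3 : x ^ (q ^ e) ∈ X := X.pow_mem hxX _
      have h4 := hXY1 _ h3 h2
      simpa using h4
    haveI := hcyc q hq2 Q hQp
    have hmap : Q.map π = Cfsg.pCore q (H ⧸ Y) := by
      apply le_antisymm
      · rintro _ ⟨x, hx, rfl⟩
        exact (Subgroup.mem_inf.mp hx).1
      · intro n hn
        obtain ⟨x, hxX, rfl⟩ := hle hn
        exact ⟨x, Subgroup.mem_inf.mpr ⟨hn, hxX⟩, rfl⟩
    have hc : IsCyclic ↥(Q.map π) :=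
      isCyclic_of_surjective (π.subgroupMap Q) (π.subgroupMap_surjective Q)
    exact hmap ▸ hc
  -- the image of X contains the Fitting subgroup of the quotient
  have hFle : Cfsg.fittingSubgroup (H ⧸ Y) ≤ Xb := by
    rw [Cfsg.Agent.Lib.Helper1.fittingSubgroup_eq_iSup_pCore]
    apply iSup_le
    intro q
    haveI : Fact (Nat.Prime (q : ℕ)) := ⟨q.2⟩
    by_cases hq2 : (q : ℕ) = 2
    · rw [hq2, hYq]; exact bot_le
    · exact (hNq q hq2).1
  have hcomm : commutator (H ⧸ Y) ≤ Cfsg.fittingSubgroup (H ⧸ Y) := by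
    intro g hg
    apply Cfsg.Agent.S0044.result (G := H ⧸ Y)
    have h1 : Cfsg.fittingSubgroup (H ⧸ Y) ≤ Subgroup.centralizer ({g} : Set (H ⧸ Y)) := by
      rw [Cfsg.Agent.Lib.Helper1.fittingSubgroup_eq_iSup_pCore]
      apply iSup_le
      intro q
      haveI : Fact (Nat.Prime (q : ℕ)) := ⟨q.2⟩
      by_cases hq2 : (q : ℕ) = 2
      · rw [hq2, hYq]; exact bot_le
      · haveI := (hNq q hq2).2
        haveI : (Cfsg.pCore (q : ℕ) (H ⧸ Y)).Normal := Cfsg.Agent.Lib.Helper1.pCore_normal _ _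
        have h2 := Cfsg.Agent.Lib.Helper4.commutator_le_centralizer_of_cyclic_normal
          (Cfsg.pCore (q : ℕ) (H ⧸ Y)) hg
        intro n hn
        rw [Subgroup.mem_centralizer_iff]
        intro z hz
        rw [Set.mem_singleton_iff] at hz
        subst hz
        exact ((Subgroup.mem_centralizer_iff.mp h2) n hn).symm
    rw [Subgroup.mem_centralizer_iff]
    intro n hn
    exact ((Subgroup.mem_centralizer_iff.mp (h1 hn)) g rfl).symm
  have hXbn : Xb.Normal := by
    constructor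
    intro x hx g
    have h1 : g * x * g⁻¹ * x⁻¹ ∈ commutator (H ⧸ Y) := by
      rw [commutator_def]
      exact Subgroup.commutator_mem_commutator (Subgroup.mem_top g) (Subgroup.mem_top x)
    have h2 := hFle (hcomm h1)
    have : g * x * g⁻¹ = (g * x * g⁻¹ * x⁻¹) * x := by group
    rw [this]
    exact Xb.mul_mem h2 hx
  have hXYeq : X ⊔ Y = Xb.comap π := by
    rw [hXb, Subgroup.comap_map_eq, hπ, QuotientGroup.ker_mk']
  have hnorm : (X ⊔ Y).Normal := by
    rw [hXYeq]; exact hXbn.comap π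
  refine ⟨hnorm, fun hN => ?_⟩
  by_cases hall : ∀ q : Nat.Primes, Cfsg.pCore (q : ℕ) (H ⧸ Y) = ⊥
  · -- the quotient by Y is trivial
    have hF : Cfsg.fittingSubgroup (H ⧸ Y) = ⊥ := by
      rw [Cfsg.Agent.Lib.Helper1.fittingSubgroup_eq_iSup_pCore, eq_bot_iff]
      apply iSup_le
      intro q
      rw [hall q]
    haveI : Subsingleton (H ⧸ Y) :=
      subsingleton_of_pCore_eq_bot (Cfsg.fittingSubgroup (H ⧸ Y))
        (Cfsg.Agent.S0044.result (G := H ⧸ Y)) hF
    have htop : X ⊔ Y = ⊤ := by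
      rw [eq_top_iff]
      intro h _
      have h1 : (QuotientGroup.mk h : H ⧸ Y) = 1 := Subsingleton.elim _ _
      exact (le_sup_right : Y ≤ X ⊔ Y) ((QuotientGroup.eq_one_iff h).mp h1)
    haveI : Subsingleton (H ⧸ (X ⊔ Y)) := by
      constructor
      intro a b
      obtain ⟨a', rfl⟩ := QuotientGroup.mk_surjective a
      obtain ⟨b', rfl⟩ := QuotientGroup.mk_surjective b
      rw [QuotientGroup.eq, htop]
      exact Subgroup.mem_top _
    exact isCyclic_of_subsingleton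
  · push Not at hall
    obtain ⟨q, hq⟩ := hall
    haveI hqF : Fact (Nat.Prime (q : ℕ)) := ⟨q.2⟩
    have hq2 : (q : ℕ) ≠ 2 := by
      intro h
      rw [h] at hq
      exact hq hYq
    haveI hNqn : (Cfsg.pCore (q : ℕ) (H ⧸ Y)).Normal := Cfsg.Agent.Lib.Helper1.pCore_normal _ _
    have hNqp : IsPGroup (q : ℕ) (Cfsg.pCore (q : ℕ) (H ⧸ Y)) :=
      Cfsg.Agent.Lib.Helper1.pCore_isPGroup _ _
    haveI hNqc : IsCyclic (Cfsg.pCore (q : ℕ) (H ⧸ Y)) := (hNq q hq2).2
    let ψ : (H ⧸ Y) →* MulAut (Cfsg.pCore (q : ℕ) (H ⧸ Y)) := MulAut.conjNormal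
    let φ : H →* MulAut (Cfsg.pCore (q : ℕ) (H ⧸ Y)) := ψ.comp π
    have hAutCyc : IsCyclic (MulAut (Cfsg.pCore (q : ℕ) (H ⧸ Y))) := by
      obtain ⟨e, he⟩ := IsPGroup.iff_card.mp hNqp
      have h1 : IsCyclic (ZMod (Nat.card (Cfsg.pCore (q : ℕ) (H ⧸ Y))))ˣ := by
        rw [he]; exact ZMod.isCyclic_units_of_prime_pow (q : ℕ) q.2 hq2 e
      exact isCyclic_of_surjective (IsCyclic.mulAutMulEquiv (Cfsg.pCore (q : ℕ) (H ⧸ Y))).symm
        (MulEquiv.surjective _)
    have hQC : IsCyclic (H ⧸ φ.ker) := by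
      haveI : IsCyclic φ.range := inferInstance
      exact isCyclic_of_surjective (QuotientGroup.quotientKerEquivRange φ).symm
        (MulEquiv.surjective _)
    have hCbn : ψ.ker.Normal := MonoidHom.normal_ker ψ
    have hCbodd : Odd (Nat.card ψ.ker) := by
      by_contra heven
      rw [Nat.not_odd_iff_even, even_iff_two_dvd] at heven
      obtain ⟨wb', hwb'⟩ := exists_prime_orderOf_dvd_card' 2 heven
      have hwbo : orderOf (wb' : H ⧸ Y) = 2 := by rw [Subgroup.orderOf_coe]; exact hwb'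
      obtain ⟨xb, hxbN, hxb1⟩ : ∃ xb, xb ∈ Cfsg.pCore (q : ℕ) (H ⧸ Y) ∧ xb ≠ 1 := by
        by_contra hcon
        push Not at hcon
        exact hq ((Subgroup.eq_bot_iff_forall _).mpr hcon)
      have hcomm' : (wb' : H ⧸ Y) * xb = xb * (wb' : H ⧸ Y) := by
        have h0 := wb'.2
        rw [MonoidHom.mem_ker] at h0
        have h1 : (ψ (wb' : H ⧸ Y)) ⟨xb, hxbN⟩ = ⟨xb, hxbN⟩ := by rw [h0]; rfl
        have h2 := congrArg Subtype.val h1
        rw [MulAut.conjNormal_apply] at h2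
        calc (wb' : H ⧸ Y) * xb = ((wb' : H ⧸ Y) * xb * (wb' : H ⧸ Y)⁻¹) * (wb' : H ⧸ Y) := by group
          _ = xb * (wb' : H ⧸ Y) := by rw [h2]
      obtain ⟨j, hj⟩ := (IsPGroup.iff_orderOf.mp hNqp) ⟨xb, hxbN⟩
      rw [Subgroup.orderOf_mk] at hj
      have hxbodd : Odd (orderOf xb) := by
        rw [hj]; exact Odd.pow (q.2.odd_of_ne_two hq2)
      have hxbne : orderOf xb ≠ 1 := fun h => hxb1 (orderOf_eq_one_iff.mp h)
      have hubo : orderOf (xb * (wb' : H ⧸ Y)) = orderOf xb * 2 := by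
        rw [← hwbo]
        exact Commute.orderOf_mul_eq_mul_orderOf_of_coprime (show Commute xb _ from hcomm'.symm)
          (by rw [hwbo]; exact hxbodd.coprime_two_right)
      obtain ⟨u, hu⟩ := hπs (xb * (wb' : H ⧸ Y))
      have hdvd : orderOf xb * 2 ∣ orderOf u := by
        rw [← hubo, ← hu]; exact orderOf_map_dvd π u
      have hn0 : orderOf u ≠ 0 := (orderOf_pos u).ne'
      have h2n : 2 ∣ orderOf u := (Dvd.intro_left _ rfl).trans hdvd
      have hmn : orderOf xb ∣ orderOf u := (Dvd.intro _ rfl).trans hdvd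
      have ht : orderOf (u ^ (orderOf u / 2)) = 2 := orderOf_pow_orderOf_div hn0 h2n
      have hx : orderOf (u ^ (orderOf u / orderOf xb)) = orderOf xb :=
        orderOf_pow_orderOf_div hn0 hmn
      refine hinv (u ^ (orderOf u / 2)) (u ^ (orderOf u / orderOf xb)) ht (by rw [hx]; exact hxbodd) ?_ ?_
      · intro h
        rw [h, orderOf_one] at hx
        exact hxbne hx.symm
      · rw [← pow_add, ← pow_add, add_comm]
    have hCble : ψ.ker ≤ Xb := hQ3 _ hCbn hCbodd
    have hker : φ.ker ≤ X ⊔ Y := by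
      intro c hc
      rw [hXYeq, Subgroup.mem_comap]
      apply hCble
      rw [MonoidHom.mem_ker] at hc ⊢
      exact hc
    have hker' : φ.ker ≤ (X ⊔ Y).comap (MonoidHom.id H) := hker
    refine isCyclic_of_surjective (QuotientGroup.map φ.ker (X ⊔ Y) (MonoidHom.id H) hker') ?_
    intro y
    obtain ⟨h, rfl⟩ := QuotientGroup.mk_surjective y
    exact ⟨QuotientGroup.mk h, rfl⟩


/-- Let H be a finite solvable group with no nontrivial normal subgroup of odd order in which the centralizer of every involution has a normal 2-complement. Let X be a Hall 2'-subgroup of H (odd order, index a power of 2) and Y = O₂(H). Then no non-identity element of X commutes with a non-identity element of Y (so for X ≠ 1 the group XY is a Frobenius group with kernel Y), every Sylow subgroup of X is cyclic, XY is normal in H, and H/XY is a cyclic 2-group. -/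
theorem result {H : Type*} [Group H] [Finite H] (hsol : Group.IsSolvable H)
    (hO : Cfsg.oddCore H = ⊥)
    (hI : ∀ t : H, orderOf t = 2 → Cfsg.HasNormalPComplement 2 ↥(Subgroup.centralizer ({t} : Set H)))
    (X : Subgroup H) (hXodd : Odd (Nat.card X)) (hXidx : ∃ k : ℕ, X.index = 2 ^ k) :
    (∀ x ∈ X, x ≠ 1 → ∀ y ∈ Cfsg.pCore 2 H, y ≠ 1 → x * y ≠ y * x) ∧
      (∀ (p : ℕ) [Fact p.Prime] (P : Sylow p ↥X), IsCyclic ↥(P : Subgroup ↥X)) ∧
      (X ⊔ Cfsg.pCore 2 H).Normal ∧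
      ∀ hN : (X ⊔ Cfsg.pCore 2 H).Normal, IsCyclic (H ⧸ (X ⊔ Cfsg.pCore 2 H)) ∧ IsPGroup 2 (H ⧸ (X ⊔ Cfsg.pCore 2 H)) := by
  classical
  haveI := hsol
  haveI hF2 : Fact (Nat.Prime 2) := ⟨Nat.prime_two⟩
  set Y := Cfsg.pCore 2 H with hY
  haveI hYn : Y.Normal := Cfsg.Agent.Lib.Helper1.pCore_normal 2 H
  have hYp : IsPGroup 2 Y := Cfsg.Agent.Lib.Helper1.pCore_isPGroup 2 H
  have hCY : Subgroup.centralizer (Y : Set H) ≤ Y := centralizer_pCore_le 2 hO
  have hcyc := cyclic_of_odd_pgroup Y hYp hCY hI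
  obtain ⟨kX, hkX⟩ := hXidx
  -- elements of X have odd order
  have hXelt : ∀ x ∈ X, Odd (orderOf x) := by
    intro x hx
    have h1 : orderOf (⟨x, hx⟩ : X) ∣ Nat.card X := orderOf_dvd_natCard _
    rw [Subgroup.orderOf_mk] at h1
    exact Odd.of_dvd_nat hXodd h1
  have partA : ∀ x ∈ X, x ≠ 1 → ∀ y ∈ Y, y ≠ 1 → x * y ≠ y * x := by
    intro x hx hx1 y hy hy1
    exact stepC Y hYp hCY hI x (hXelt x hx) hx1 y hy hy1
  have partB : ∀ (p : ℕ) [Fact p.Prime] (P : Sylow p ↥X), IsCyclic ↥(P : Subgroup ↥X) := by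
    intro p hp P
    by_cases hp2 : p = 2
    · subst hp2
      obtain ⟨k, hk⟩ := IsPGroup.iff_card.mp P.isPGroup'
      have h1 : Nat.card (P : Subgroup X) ∣ Nat.card X := Subgroup.card_subgroup_dvd_card _
      have h2 : Nat.card (P : Subgroup X) = 1 := by
        rcases Nat.eq_zero_or_pos k with h0 | h0
        · rw [hk, h0, pow_zero]
        · exfalso
          have h3 : 2 ∣ Nat.card X := (dvd_pow_self 2 (by omega)).trans (hk ▸ h1)
          exact (Nat.not_even_iff_odd.mpr hXodd) (even_iff_two_dvd.mpr h3)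
      haveI : Subsingleton (P : Subgroup X) := (Nat.card_eq_one_iff_unique.mp h2).1
      exact isCyclic_of_subsingleton
    · have hQ : IsPGroup p ((P : Subgroup X).map X.subtype) := P.isPGroup'.map X.subtype
      haveI := hcyc p hp2 _ hQ
      let e := Subgroup.equivMapOfInjective (P : Subgroup X) X.subtype X.subtype_injective
      exact isCyclic_of_surjective e.symm e.symm.surjective
  have hYq : Cfsg.pCore 2 (H ⧸ Y) = ⊥ := pCore_quotient_eq_bot 2
  obtain ⟨hc, hd⟩ := partCD Y hYp hYq hcyc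
    (fun t x ht hx hx1 => no_invol_commutes Y hYp hCY hI t x ht hx hx1) X hXodd kX hkX
  refine ⟨partA, partB, hc, fun hN => ⟨hd hN, ?_⟩⟩
  have h1 : (X ⊔ Y).index ∣ 2 ^ kX := hkX ▸ Subgroup.index_dvd_of_le (le_sup_left : X ≤ X ⊔ Y)
  obtain ⟨k, -, hk⟩ := (Nat.dvd_prime_pow Nat.prime_two).mp h1
  apply IsPGroup.of_card (n := k)
  rw [← Subgroup.index_eq_card, hk]


end Cfsg.Agent.S3215
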