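import Cfsg.Statements.S3222


import Mathlib
import Cfsg.Agent.Lib.Helper6.S6G
import Cfsg.Agent.Lib.Helper6.S6I
import Cfsg.Agent.Lib.Lead.CharBurnside
import Cfsg.Agent.Lib.Helper18.SylowTransport

set_option autoImplicit false
open Cfsg

namespace Cfsg.Agent.S3222

open Cfsg.Agent.Lib.Helper6.S6Rec Equiv

theorem fact48 : (48 : ℕ).factorization 2 = 4 := by
  rw [show (48:ℕ) = 2 ^ 4 * 3 from by norm_num, Nat.factorization_mul (by norm_num) (by norm_num),
    Finsupp.add_apply, Nat.Prime.factorization_pow Nat.prime_two, Finsupp.single_eq_same,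
    Nat.factorization_eq_zero_of_not_dvd (by norm_num : ¬ 2 ∣ 3)]

/-- normalising the isomorphism `C(t) ≃* Z₂ × S₄` -/
theorem exists_cfg {G : Type*} [Group G] [Finite G] (t : G) (ht : orderOf t = 2) (T : Sylow 2 G)
    (htc : ∀ s ∈ (T : Subgroup G), s * t = t * s)
    (e : ↥(Subgroup.centralizer ({t} : Set G)) ≃* E)
    (h2 : Subgroup.centralizer ((⁅(T : Subgroup G), (T : Subgroup G)⁆ : Subgroup G) : Set G) =
      (T : Subgroup G)) :
    ∃ K : Cfg G, K.t = t ∧ K.T = T := by
  have : Fact (Nat.Prime 2) := ⟨Nat.prime_two⟩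
  have hTC : (T : Subgroup G) ≤ Subgroup.centralizer ({t} : Set G) := fun s hs =>
    Subgroup.mem_centralizer_singleton_iff.mpr (htc s hs)
  have hC48 : Nat.card (Subgroup.centralizer ({t} : Set G)) = 48 := by
    rw [Nat.card_congr e.toEquiv, card_E]
  have hT16 : Nat.card (T : Subgroup G) = 16 := by
    have h1 : Nat.card (T : Subgroup G) ∣ 48 := hC48 ▸ Subgroup.card_dvd_of_le hTC
    have h3 := T.card_eq_multiplicity
    have h16 : 2 ^ 4 ∣ Nat.card G := by
      refine dvd_trans ?_ (Subgroup.card_subgroup_dvd_card (Subgroup.centralizer ({t} : Set G)))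
      rw [hC48]; norm_num
    have hk4 : 4 ≤ (Nat.card G).factorization 2 :=
      (Nat.Prime.pow_dvd_iff_le_factorization Nat.prime_two Nat.card_pos.ne').mp h16
    have hk4' : (Nat.card G).factorization 2 ≤ 4 := by
      by_contra hcon
      push Not at hcon
      have : 2 ^ 5 ∣ 2 ^ (Nat.card G).factorization 2 := pow_dvd_pow 2 hcon
      rw [← h3] at this
      have := dvd_trans this h1
      omega
    have hk : (Nat.card G).factorization 2 = 4 := le_antisymm hk4' hk4
    rw [h3, hk]; norm_num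
  let S₁ : Subgroup E := ((T : Subgroup G).subgroupOf (Subgroup.centralizer ({t} : Set G))).map
    e.toMonoidHom
  have hS₁ : Nat.card S₁ = 16 := by
    rw [Subgroup.card_map_of_injective e.injective,
      Nat.card_congr (Subgroup.subgroupOfEquivOfLe hTC).toEquiv, hT16]
  let S₂ : Subgroup E := Subgroup.centralizer ({zE} : Set E)
  have hS₂ : Nat.card S₂ = 16 := by
    rw [Nat.card_congr (Equiv.subtypeEquivRight
      (fun x => (Subgroup.mem_centralizer_singleton_iff : x ∈ S₂ ↔ x * zE = zE * x))),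
      Nat.card_eq_fintype_card, card_centE]
  let P₁ : Sylow 2 E := Sylow.ofCard S₁ (by rw [hS₁, card_E, fact48]; norm_num)
  let P₂ : Sylow 2 E := Sylow.ofCard S₂ (by rw [hS₂, card_E, fact48]; norm_num)
  obtain ⟨g, hg⟩ := MulAction.exists_smul_eq E P₁ P₂
  refine ⟨⟨t, ht, T, e.trans (MulAut.conj g), ?_, hTC, h2⟩, rfl, rfl⟩
  intro y
  have h1 : (e.trans (MulAut.conj g)).symm y = e.symm (g⁻¹ * y * g) := by
    rw [MulEquiv.symm_trans_apply, MulAut.conj_symm_apply]
  rw [h1]
  have h3 : ((e.symm (g⁻¹ * y * g) : Subgroup.centralizer ({t} : Set G)) : G) ∈ (T : Subgroup G) ↔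
      g⁻¹ * y * g ∈ (P₁ : Subgroup E) := by
    show _ ↔ g⁻¹ * y * g ∈ S₁
    rw [Subgroup.mem_map_equiv, Subgroup.mem_subgroupOf]
  rw [h3, ← Cfsg.Agent.Lib.Helper18.mem_smul_sylow_iff, hg]
  show y ∈ S₂ ↔ _
  exact Subgroup.mem_centralizer_singleton_iff

/-- Let G be a finite group of even order such that (1) some involution t lying in the centre of a Sylow 2-subgroup of G has C_G(t) ≅ Z₂ × S₄, and (2) every Sylow 2-subgroup S of G satisfies C_G(S′) = S, where S′ is the derived subgroup of S. Then G = C_G(t) if G is solvable, and G ≅ S₆ otherwise. -/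
theorem result {G : Type*} [Group G] [Finite G] (hev : Even (Nat.card G))
    (t : G) (ht : orderOf t = 2) (T : Sylow 2 G) (htT : t ∈ (T : Subgroup G)) (htc : ∀ s ∈ (T : Subgroup G), s * t = t * s)
    (e : ↥(Subgroup.centralizer ({t} : Set G)) ≃* (Multiplicative (ZMod 2) × Equiv.Perm (Fin 4)))
    (h2 : ∀ S : Sylow 2 G, Subgroup.centralizer ((⁅(S : Subgroup G), (S : Subgroup G)⁆ : Subgroup G) : Set G) = (S : Subgroup G)) :
    (Group.IsSolvable G → Subgroup.centralizer ({t} : Set G) = ⊤) ∧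
      (¬ Group.IsSolvable G → Nonempty (G ≃* Equiv.Perm (Fin 6))) := by
  classical
  obtain ⟨K, hKt, hKT⟩ := exists_cfg t ht T htc e (h2 T)
  obtain ⟨Z, hZt, hZT⟩ := K.exists_cfg0
  have hZt' : Z.K.t = t := hZt.trans hKt
  -- the two outcomes
  have key : Subgroup.centralizer ({t} : Set G) = ⊤ ∨ Nonempty (G ≃* Equiv.Perm (Fin 6)) := by
    by_cases h1 : IsConj Z.ctx.t (Z.ctx.gm (DihedralGroup.sr 1))
    · rcases Z.ctx.simple_case Z.h0 h1 with ⟨⟨f⟩⟩ | ⟨⟨f⟩⟩
      · exact (Z.not_sl32 f).elim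
      · exact Or.inr (Z.perm_six f)
    · rcases Z.ctx.mixed Z.h0 h1 with ⟨⟨f⟩⟩ | ⟨⟨f⟩⟩
      · left
        have hc : Nat.card Z.G₀ = 24 := by
          rw [Nat.card_congr f.toEquiv, Nat.card_eq_fintype_card, Fintype.card_perm,
            Fintype.card_fin]
          rfl
        have : Subgroup.centralizer ({Z.K.t} : Set G) = ⊤ := Z.C_eq_top_of_card hc
        rwa [hZt'] at this
      · exact (Z.not_perm_five f).elim
  rcases key with hC | ⟨⟨φ⟩⟩
  · refine ⟨fun _ => hC, fun hns => (hns ?_).elim⟩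
    have h48 : Nat.card G = 2 ^ 4 * 3 ^ 1 := by
      have h := Nat.card_congr e.toEquiv
      rw [hC, card_E] at h
      rw [← Subgroup.card_top (G := G), h]
      norm_num
    exact Cfsg.Agent.CharLib.isSolvable_of_card_pq 2 3 4 1 Nat.prime_two Nat.prime_three h48
  · refine ⟨fun hs => ?_, fun _ => ⟨φ⟩⟩
    exfalso
    haveI := hs
    have : Group.IsSolvable (Equiv.Perm (Fin 6)) :=
      Group.isSolvable_of_surjective (f := φ.toMonoidHom) φ.surjective
    exact Equiv.Perm.not_isSolvable (Fin 6)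
      (by rw [Cardinal.mk_fin]; exact_mod_cast (by norm_num : (5 : ℕ) ≤ 6)) this

end Cfsg.Agent.S3222
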