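import Cfsg.Statements.S3225
-- import your own Cfsg.Agent.* helpers here
import Mathlib

set_option autoImplicit false
open Cfsg

namespace Cfsg.Agent.S3225

/-- Let G be a finite group of even order with no subgroup of index 2, S a Sylow 2-subgroup of G and M a subgroup of index 2 in S such that, for some n ≥ 1, every element of S outside M has order greater than 2^(n−1). Then every element of S of order 2ⁿ is conjugate in G to an element of M. -/
theorem result {G : Type*} [Group G] [Finite G] (hev : Even (Nat.card G))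
    (hG : ∀ H : Subgroup G, H.index ≠ 2) (S : Sylow 2 G) (M : Subgroup G) (hMS : M ≤ (S : Subgroup G)) (hM : M.relIndex (S : Subgroup G) = 2)
    (n : ℕ) (hn : 1 ≤ n) (hord : ∀ y ∈ (S : Subgroup G), y ∉ M → 2 ^ (n - 1) < orderOf y)
    (x : G) (hx : x ∈ (S : Subgroup G)) (hxn : orderOf x = 2 ^ n) :
    ∃ g : G, g * x * g⁻¹ ∈ M := by
  classical
  by_contra hcon
  rw [not_exists] at hcon
  -- the index-2 subgroup of ↥S
  set M' : Subgroup ↥(S : Subgroup G) := M.subgroupOf (S : Subgroup G) with hM'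
  have hM'2 : M'.index = 2 := hM
  -- the hom S → ℤˣ with kernel M
  let φ : ↥(S : Subgroup G) →* ℤˣ := MonoidHom.mk' (fun s => if s ∈ M' then 1 else -1) (by
    intro a b
    have := Subgroup.mul_mem_iff_of_index_two hM'2 (a := a) (b := b)
    by_cases ha : a ∈ M' <;> by_cases hb : b ∈ M' <;> simp [this, ha, hb])
  have hφ1 : ∀ s : ↥(S : Subgroup G), (s : G) ∈ M → φ s = 1 := by
    intro s hs
    have : s ∈ M' := Subgroup.mem_subgroupOf.mpr hs
    show (if s ∈ M' then (1 : ℤˣ) else -1) = 1
    rw [if_pos this]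
  have hφ2 : ∀ s : ↥(S : Subgroup G), (s : G) ∉ M → φ s = -1 := by
    intro s hs
    have : s ∉ M' := fun h => hs (Subgroup.mem_subgroupOf.mp h)
    show (if s ∈ M' then (1 : ℤˣ) else -1) = -1
    rw [if_neg this]
  let _ : Fintype (Quotient (MulAction.orbitRel (Subgroup.zpowers x) (G ⧸ (S : Subgroup G)))) :=
    Fintype.ofFinite _
  have hper : ∀ q : Quotient (MulAction.orbitRel (Subgroup.zpowers x) (G ⧸ (S : Subgroup G))),
      Function.minimalPeriod (x • ·) q.out ∣ 2 ^ n := by
    intro q
    apply MulAction.pow_smul_eq_iff_minimalPeriod_dvd.mp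
    rw [← hxn, pow_orderOf_eq_one, one_smul]
  have aux : ∀ (k : G) (m : ℕ), m ∣ 2 ^ n → ∀ hmem : k⁻¹ * x ^ m * k ∈ (S : Subgroup G),
      φ ⟨k⁻¹ * x ^ m * k, hmem⟩ = (-1 : ℤˣ) ^ m := by
    intro k m hmd hyS
    obtain ⟨j, hj, hmj⟩ := (Nat.dvd_prime_pow Nat.prime_two).1 hmd
    rcases Nat.eq_zero_or_pos j with hj0 | hjpos
    · -- m = 1
      have hm1 : m = 1 := by rw [hmj, hj0, pow_zero]
      subst hm1
      rw [pow_one (-1 : ℤˣ)]
      apply hφ2
      show k⁻¹ * x ^ 1 * k ∉ M
      rw [pow_one]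
      have := hcon k⁻¹
      rwa [inv_inv] at this
    · -- m even
      have hmeven : Even m := by
        rw [hmj]; exact (Nat.even_pow' (Nat.pos_iff_ne_zero.mp hjpos)).mpr even_two
      rw [hmeven.neg_one_pow]
      apply hφ1
      show k⁻¹ * x ^ m * k ∈ M
      by_contra hnot
      have hlt := hord _ hyS hnot
      have hpow : (k⁻¹ * x ^ m * k) ^ (2 ^ (n - 1)) = 1 := by
        have e : (k⁻¹ * x ^ m * k) ^ (2 ^ (n - 1)) = k⁻¹ * (x ^ m) ^ (2 ^ (n - 1)) * k := by
          have := conj_pow (a := k⁻¹) (b := x ^ m) (i := 2 ^ (n - 1))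
          rw [inv_inv] at this
          exact this
        rw [e, ← pow_mul]
        obtain ⟨m', hm'⟩ := hmeven
        have e2 : m * 2 ^ (n - 1) = 2 ^ n * m' := by
          have : 2 ^ n = 2 ^ (n - 1) * 2 := by
            rw [← pow_succ]; congr 1; omega
          rw [this, hm']; ring
        rw [e2, pow_mul, ← hxn, pow_orderOf_eq_one, one_pow]
        group
      have hle : orderOf (k⁻¹ * x ^ m * k) ≤ 2 ^ (n - 1) :=
        Nat.le_of_dvd (by positivity) (orderOf_dvd_of_pow_eq_one hpow)
      omega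
  have key : MonoidHom.transfer φ x = -1 := by
    rw [MonoidHom.transfer_eq_prod_quotient_orbitRel_zpowers_quot]
    rw [Finset.prod_congr rfl (fun q _ => aux _ _ (hper q) _), Finset.prod_pow_eq_pow_sum,
      ← Subgroup.index_eq_sum_minimalPeriod]
    have hodd : Odd (S : Subgroup G).index := by
      rw [← Nat.not_even_iff_odd, even_iff_two_dvd]
      exact S.not_dvd_index
    exact hodd.neg_one_pow
  -- the kernel of the transfer has index 2
  apply hG (MonoidHom.transfer φ).ker
  rw [Subgroup.index_eq_two_iff]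
  refine ⟨x, fun b => ?_⟩
  simp only [MonoidHom.mem_ker, map_mul, key]
  rcases Int.units_eq_one_or (MonoidHom.transfer φ b) with h | h <;> rw [h] <;> simp

end Cfsg.Agent.S3225
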