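import Cfsg.Statements.S3246
import Mathlib
import Cfsg.Agent.Lib.Helper4.CharTwoCrit
import Cfsg.Agent.Lib.Helper9.PConstrainedLocal

set_option autoImplicit false
open Cfsg

namespace Cfsg.Agent.S3246


/-- Let G be a finite group whose Sylow 2-subgroup S has a self-centralizing normal subgroup of rank at least 3. Suppose that either every maximal 2-local subgroup of G is 2-constrained with no nontrivial normal subgroup of odd order, or the centralizer of every involution of G is 2-constrained with no nontrivial normal subgroup of odd order. Then S normalizes no nontrivial subgroup of G of odd order and every 2-local subgroup of G is 2-constrained. -/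
theorem result {G : Type*} [Group G] [Finite G]
    (S : Sylow 2 G) (A : Subgroup G) (hA : Cfsg.IsSCN (S : Subgroup G) A) (hA3 : ¬ Cfsg.PRankLE 2 2 ↥A)
    (h : (∀ M : Subgroup G, Cfsg.IsMaximalTwoLocal M → Cfsg.IsPConstrained 2 ↥M ∧ Cfsg.oddCore ↥M = ⊥) ∨
      (∀ t : G, orderOf t = 2 → Cfsg.IsPConstrained 2 ↥(Subgroup.centralizer ({t} : Set G)) ∧
        Cfsg.oddCore ↥(Subgroup.centralizer ({t} : Set G)) = ⊥)) :
    (∀ X : Subgroup G, Odd (Nat.card ↥X) → (S : Subgroup G) ≤ Subgroup.normalizer (X : Set G) → X = ⊥) ∧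
      (∀ T : Subgroup G, IsPGroup 2 ↥T → T ≠ ⊥ → Cfsg.IsPConstrained 2 ↥(Subgroup.normalizer (T : Set G))) := by
  refine ⟨fun X hXodd hSX => ?_, fun T hT hT1 => ?_⟩
  · exact Cfsg.Agent.Lib.Helper4.CharTwoCrit.no_odd_invariant S A hA hA3
      (fun t ht => Cfsg.Agent.Lib.Helper4.CharTwoCrit.exists_local h t ht) X hXodd hSX
  · haveI : Fact (Nat.Prime 2) := ⟨Nat.prime_two⟩
    rcases h with h | h
    · let 𝒮 : Set (Subgroup G) := {M | Cfsg.IsTwoLocal M ∧ Subgroup.normalizer (T : Set G) ≤ M}
      have hne : 𝒮.Nonempty := ⟨Subgroup.normalizer (T : Set G), ⟨T, hT, hT1, rfl⟩, le_rfl⟩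
      obtain ⟨M, hMS, hMmax⟩ := (wellFounded_gt (α := Subgroup G)).has_min 𝒮 hne
      have hMmax' : Cfsg.IsMaximalTwoLocal M := by
        refine ⟨hMS.1, fun N hN hle => ?_⟩
        have hNS : N ∈ 𝒮 := ⟨hN, hMS.2.trans hle⟩
        rcases eq_or_lt_of_le hle with h' | h'
        · exact h'.symm
        · exact absurd h' (hMmax N hNS)
      exact Cfsg.Agent.Lib.Helper9.isPConstrained_normalizer_of_le hT hMS.2 (h M hMmax').1
    · haveI : Nontrivial ↥T := (Subgroup.nontrivial_iff_ne_bot T).mpr hT1
      haveI hcnt : Nontrivial ↥(Subgroup.center ↥T) := IsPGroup.center_nontrivial hT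
      have hpc : IsPGroup 2 ↥(Subgroup.center ↥T) := hT.to_subgroup _
      obtain ⟨n, hn⟩ := IsPGroup.iff_card.mp hpc
      have hdvd : 2 ∣ Nat.card ↥(Subgroup.center ↥T) := by
        rw [hn]
        apply dvd_pow_self
        intro h0
        rw [h0, pow_zero] at hn
        have := Finite.one_lt_card_iff_nontrivial.mpr hcnt
        omega
      obtain ⟨z, hz⟩ := exists_prime_orderOf_dvd_card' 2 hdvd
      have hzp : orderOf ((z : ↥T) : G) = 2 := by
        rw [Subgroup.orderOf_coe, Subgroup.orderOf_coe, hz]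
      have hzT : ((z : ↥T) : G) ∈ T := (z : ↥T).2
      have hzZ : T ≤ Subgroup.centralizer ({((z : ↥T) : G)} : Set G) := by
        intro x hx
        rw [Subgroup.mem_centralizer_singleton_iff]
        have := (Subgroup.mem_center_iff.mp z.2) ⟨x, hx⟩
        exact (congrArg Subtype.val this)
      exact Cfsg.Agent.Lib.Helper9.isPConstrained_normalizer_of_centralizer hT hzT hzp hzZ
        (h _ hzp).1

end Cfsg.Agent.S3246
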