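import Cfsg.Statements.S3247
import Cfsg.Agent.Lib.Helper9.PConstrainedLocal

set_option autoImplicit false
open Cfsg

namespace Cfsg.Agent.S3247

/-- Let G be a finite group and p a prime; here a p-local subgroup means the normalizer of a nontrivial p-subgroup, other than G itself. If every p-local subgroup of G that is maximal among p-local subgroups is p-constrained, or if the centralizer of every element of order p of G is p-constrained, then every p-local subgroup of G is p-constrained. -/
theorem result {G : Type*} [Group G] [Finite G] (p : ℕ) [hp : Fact p.Prime]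
    (h : (∀ M : Subgroup G, (∃ T : Subgroup G, IsPGroup p ↥T ∧ T ≠ ⊥ ∧ M = Subgroup.normalizer (T : Set G)) → M ≠ ⊤ →
        (∀ M' : Subgroup G, (∃ T' : Subgroup G, IsPGroup p ↥T' ∧ T' ≠ ⊥ ∧ M' = Subgroup.normalizer (T' : Set G)) → M' ≠ ⊤ → M ≤ M' → M = M') →
        Cfsg.IsPConstrained p ↥M) ∨
      (∀ x : G, orderOf x = p → Cfsg.IsPConstrained p ↥(Subgroup.centralizer ({x} : Set G))))
    (T : Subgroup G) (hT : IsPGroup p ↥T) (hT1 : T ≠ ⊥) (hTG : Subgroup.normalizer (T : Set G) ≠ ⊤) :
    Cfsg.IsPConstrained p ↥(Subgroup.normalizer (T : Set G)) := by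
  rcases h with h | h
  · let S : Set (Subgroup G) := {M | (∃ T' : Subgroup G, IsPGroup p ↥T' ∧ T' ≠ ⊥ ∧
      M = Subgroup.normalizer (T' : Set G)) ∧ M ≠ ⊤ ∧ Subgroup.normalizer (T : Set G) ≤ M}
    have hne : S.Nonempty := ⟨Subgroup.normalizer (T : Set G), ⟨T, hT, hT1, rfl⟩, hTG, le_rfl⟩
    obtain ⟨M, hMS, hMmax⟩ := (wellFounded_gt (α := Subgroup G)).has_min S hne
    have hM := h M hMS.1 hMS.2.1 (fun M' hM' hM'top hle => by
      have hM'S : M' ∈ S := ⟨hM', hM'top, hMS.2.2.trans hle⟩
      rcases eq_or_lt_of_le hle with h' | h'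
      · exact h'
      · exact absurd h' (hMmax M' hM'S))
    exact Cfsg.Agent.Lib.Helper9.isPConstrained_normalizer_of_le hT hMS.2.2 hM
  · haveI : Nontrivial ↥T := (Subgroup.nontrivial_iff_ne_bot T).mpr hT1
    haveI hcnt : Nontrivial ↥(Subgroup.center ↥T) := IsPGroup.center_nontrivial hT
    have hpc : IsPGroup p ↥(Subgroup.center ↥T) := hT.to_subgroup _
    obtain ⟨n, hn⟩ := IsPGroup.iff_card.mp hpc
    have hdvd : p ∣ Nat.card ↥(Subgroup.center ↥T) := by
      rw [hn]
      apply dvd_pow_self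
      intro h0
      rw [h0, pow_zero] at hn
      have := Finite.one_lt_card_iff_nontrivial.mpr hcnt
      omega
    obtain ⟨z, hz⟩ := exists_prime_orderOf_dvd_card' p hdvd
    have hzp : orderOf ((z : ↥T) : G) = p := by
      rw [Subgroup.orderOf_coe, Subgroup.orderOf_coe, hz]
    have hzT : ((z : ↥T) : G) ∈ T := (z : ↥T).2
    have hzZ : T ≤ Subgroup.centralizer ({((z : ↥T) : G)} : Set G) := by
      intro x hx
      rw [Subgroup.mem_centralizer_singleton_iff]
      have := (Subgroup.mem_center_iff.mp z.2) ⟨x, hx⟩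
      exact (congrArg Subtype.val this)
    exact Cfsg.Agent.Lib.Helper9.isPConstrained_normalizer_of_centralizer hT hzT hzp hzZ
      (h _ hzp)

end Cfsg.Agent.S3247
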