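import Cfsg.Statements.S3266
import Cfsg.Agent.Lib.Helper15.OddGraphA
import Cfsg.Agent.Lib.Helper15.OddGraphE
import Cfsg.Agent.Lib.Helper15.OddGraphF

set_option autoImplicit false
open Cfsg

namespace Cfsg.Agent.S3266

open Cfsg.Agent.Lib.Helper15.OddGraph in
/-- Let F be a finite field with at least 4 elements and let X be a conjugacy class of involutions of PSL(2, F). The graph on X joining two distinct involutions whose product has odd order is connected and has diameter exactly 2. -/
theorem result {F : Type*} [Field F] [Fintype F] (hF : 4 ≤ Fintype.card F)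
    (t : Matrix.ProjectiveSpecialLinearGroup (Fin 2) F) (ht : orderOf t = 2) :
    (SimpleGraph.fromRel fun x y : {x : Matrix.ProjectiveSpecialLinearGroup (Fin 2) F // IsConj t x} =>
        Odd (orderOf (x.1 * y.1))).Connected ∧
      (SimpleGraph.fromRel fun x y : {x : Matrix.ProjectiveSpecialLinearGroup (Fin 2) F // IsConj t x} =>
        Odd (orderOf (x.1 * y.1))).diam = 2 := by
  by_cases h2 : (2 : F) = 0
  · have : CharP F 2 := CharTwo.of_one_ne_zero_of_two_eq_zero one_ne_zero h2
    exact oddGraph_connected_and_diam t ht
      (fun x hx => isConj_of_orderOf_two_even t x ht hx)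
      (fun x y hx hy _ => exists_common_neighbour_even hF x y hx hy)
      (exists_nonadjacent_even hF)
  · exact oddGraph_connected_and_diam t ht
      (fun x hx => Cfsg.Agent.Lib.Helper13.isConj_of_orderOf_two h2 t x ht hx)
      (fun x y hx hy hxy => exists_common_neighbour_odd h2 hF x y hx hy hxy)
      (exists_nonadjacent_odd h2)

end Cfsg.Agent.S3266
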