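import Cfsg.Statements.S3269
import Mathlib
import Cfsg.Agent.Lib.Helper2.QuatProd
import Cfsg.Agent.S0215

set_option autoImplicit false
open Cfsg

namespace Cfsg.Agent.S3269

/-- Let G be a finite group whose Sylow 2-subgroup S is an internal direct product Q × R with Q generalized quaternion (of order at least 8) and R a subgroup all of whose involutions are central in R. Then G is not simple. In particular no finite simple group has a Sylow 2-subgroup that is a direct product of one or more generalized quaternion groups. -/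
theorem result {G : Type*} [Group G] [Finite G]
    (S : Sylow 2 G) (Q R : Subgroup G) (hQR : Cfsg.IsInternalDirectProduct Q R (S : Subgroup G))
    (n : ℕ) (hn : 1 ≤ n) (eQ : ↥Q ≃* QuaternionGroup (2 ^ n))
    (hR : ∀ r ∈ R, orderOf r = 2 → ∀ s ∈ R, r * s = s * r) :
    ¬ IsSimpleGroup G := by
  classical
  obtain ⟨hQ, hRS, hcomm, hinf, hsup⟩ := hQR
  have h : Cfsg.Agent.Lib.Helper2.QuatProd.DP Q R (S : Subgroup G) := ⟨hQ, hRS, hcomm, hinf, hsup⟩
  obtain ⟨k, rfl⟩ : ∃ k, n = k + 1 := ⟨n - 1, by omega⟩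
  have : NeZero (2 ^ (k + 1)) := ⟨by positivity⟩
  obtain ⟨a, b, hq⟩ := Cfsg.Agent.Lib.Helper2.exists_quatData eQ
  have hm0 : 0 < 2 ^ (k + 1) := by positivity
  have hzQ : a ^ (2 ^ (k + 1)) ∈ Q := pow_mem hq.ha _
  have hz2 : orderOf (a ^ (2 ^ (k + 1))) = 2 := hq.orderOf_pow_m hm0
  have hsq : ∀ x : G, x ^ 2 = 1 → x = 1 ∨ orderOf x = 2 := by
    intro x hx
    by_cases hx1 : x = 1
    · exact Or.inl hx1
    · exact Or.inr (orderOf_eq_prime hx hx1)
  have hQc : ∀ q ∈ Q, q ^ 2 = 1 → ∀ t ∈ Q, q * t = t * q := by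
    intro q hq' hq2 t ht
    rcases hsq q hq2 with rfl | h2
    · rw [one_mul, mul_one]
    · have h3 := hq.unique_involution hm0 q hq' h2
      have h4 : orderOf (t * q * t⁻¹) = 2 := by
        have : t * q * t⁻¹ = MulAut.conj t q := by simp [MulAut.conj_apply]
        rw [this, MulEquiv.orderOf_eq, h2]
      have h5 := hq.unique_involution hm0 _ (mul_mem (mul_mem ht hq') (inv_mem ht)) h4
      rw [← h3] at h5
      calc q * t = (t * q * t⁻¹) * t := by rw [h5]
        _ = t * q := by group
  have hRc : ∀ r ∈ R, r ^ 2 = 1 → ∀ t ∈ R, r * t = t * r := by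
    intro r hr hr2 t ht
    rcases hsq r hr2 with rfl | h2
    · rw [one_mul, mul_one]
    · exact hR r hr h2 t ht
  have hcent := h.sq_one_central hQc hRc
  have hkey : ∀ n ∈ Subgroup.normalizer ((S : Subgroup G) : Set G),
      n * a ^ (2 ^ (k + 1)) * n⁻¹ ∈ R ∨ n * a ^ (2 ^ (k + 1)) * n⁻¹ = a ^ (2 ^ (k + 1)) :=
    fun n hn => Cfsg.Agent.Lib.Helper2.QuatProd.conj_invol_mem_or_eq h S.isPGroup' hq k rfl n hn
  have hzR : a ^ (2 ^ (k + 1)) ∉ R := by
    intro hzR
    exact hq.pow_m_ne_one hm0 (h.eq_one_of_mem hzQ hzR)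
  obtain ⟨w, hw2, hwS, hiso⟩ := Cfsg.Agent.Lib.Helper2.QuatProd.exists_isolated S R _
    (hQ hzQ) hz2 hzR hcent hkey
  obtain ⟨N, hNn, hNodd, hNc⟩ := Cfsg.Agent.S0215.result S w hw2 hwS hiso
  intro hsimple
  rcases hsimple.eq_bot_or_eq_top_of_normal N hNn with h1 | h1
  · -- `w` is central
    have hwc : w ∈ Subgroup.center G := by
      rw [Subgroup.mem_center_iff]
      intro g
      have h2 := hNc g
      rw [h1, Subgroup.mem_bot] at h2
      have : w * g = (w * g * w⁻¹ * g⁻¹) * (g * w) := by group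
      rw [this, h2, one_mul]
    have hw1 : w ≠ 1 := by
      rintro rfl
      rw [orderOf_one] at hw2
      omega
    rcases hsimple.eq_bot_or_eq_top_of_normal (Subgroup.center G) inferInstance with h2 | h2
    · rw [h2, Subgroup.mem_bot] at hwc
      exact hw1 hwc
    · have hb : b ∈ Subgroup.center G := by rw [h2]; exact Subgroup.mem_top b
      have h3 := (Subgroup.mem_center_iff.mp hb) a
      have h4 := hq.conj
      rw [← h3, mul_inv_cancel_right] at h4
      have h5 : a ^ 2 = 1 := by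
        rw [pow_two]
        nth_rewrite 1 [h4]
        exact inv_mul_cancel a
      have h6 := orderOf_dvd_of_pow_eq_one h5
      rw [hq.order_a] at h6
      have h7 := Nat.le_of_dvd (by norm_num) h6
      have h8 : 2 ≤ 2 ^ (k + 1) := by
        calc 2 = 2 ^ 1 := by norm_num
          _ ≤ 2 ^ (k + 1) := Nat.pow_le_pow_right (by norm_num) (by omega)
      omega
  · -- `N = ⊤` has odd order, but `w` has order two
    rw [h1, Subgroup.card_top] at hNodd
    have h2 : orderOf w ∣ Nat.card G := orderOf_dvd_natCard w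
    rw [hw2] at h2
    exact (Nat.not_even_iff_odd.mpr hNodd) (even_iff_two_dvd.mpr h2)

end Cfsg.Agent.S3269
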