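import Cfsg.Statements.S3294
-- import your own Cfsg.Agent.* helpers here
import Cfsg.Agent.Lib.Helper1.QuaternionSylowSolvable

set_option autoImplicit false
open Cfsg

namespace Cfsg.Agent.S3294

/-- A finite solvable group whose Sylow 2-subgroups are generalized quaternion of order at least 32 has a normal 2-complement. -/
theorem result {G : Type*} [Group G] [Finite G] (hsol : Group.IsSolvable G) (T : Sylow 2 G) (n : ℕ) (hn : 3 ≤ n) (hT : Nonempty ((T : Subgroup G) ≃* QuaternionGroup (2 ^ n))) : Cfsg.HasNormalPComplement 2 G := by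
  have hN : ¬ (2 * 2 ^ n ∣ 8) := by
    intro h
    have h1 : 2 ^ 3 ≤ 2 ^ n := Nat.pow_le_pow_right (by norm_num) hn
    have := Nat.le_of_dvd (by norm_num) h
    omega
  exact Cfsg.Agent.Lib.Helper1.hasNormalPComplement_of_solvable_quaternion_sylow hsol T hN hT

end Cfsg.Agent.S3294
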