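import Cfsg.Statements.S3305
-- import your own Cfsg.Agent.* helpers here
import Mathlib
import Cfsg.Agent.Lib.Helper18.Basic

set_option autoImplicit false
open Cfsg

namespace Cfsg.Agent.S3305

/-- If any two distinct Sylow 2-subgroups of the finite group G intersect in a cyclic group, then the same holds in every quotient group G/H, H a normal subgroup of G. -/
theorem result {G : Type*} [Group G] [Finite G]
    (hC : ∀ S T : Sylow 2 G, S ≠ T → IsCyclic ↥((S : Subgroup G) ⊓ (T : Subgroup G))) (H : Subgroup G) [H.Normal] :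
    ∀ S T : Sylow 2 (G ⧸ H), S ≠ T → IsCyclic ↥((S : Subgroup (G ⧸ H)) ⊓ (T : Subgroup (G ⧸ H))) := by
  intro S' T' hne
  obtain ⟨S, T, hS, hT, hST⟩ :=
    Cfsg.Agent.Lib.Helper18.exists_sylow_lift_pair (f := QuotientGroup.mk' H)
      (QuotientGroup.mk'_surjective H) S' T'
  have hneST : S ≠ T := by
    intro h
    apply hne
    apply Sylow.ext
    rw [← hS, ← hT, h]
  have hcyc := hC S T hneST
  have : IsCyclic ↥(((S : Subgroup G) ⊓ (T : Subgroup G)).map (QuotientGroup.mk' H)) :=
    isCyclic_of_surjective ((QuotientGroup.mk' H).subgroupMap _)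
      ((QuotientGroup.mk' H).subgroupMap_surjective _)
  rw [hST] at this
  exact this

end Cfsg.Agent.S3305
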