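import Cfsg.Statements.S3303
-- import your own Cfsg.Agent.* helpers here
import Mathlib
import Cfsg.Agent.S3305
import Cfsg.Agent.S0044
import Cfsg.Agent.Lib.Helper1.Fitting
import Cfsg.Agent.Lib.Helper12.Cores

set_option autoImplicit false
open Cfsg

namespace Cfsg.Agent.S3303

theorem pPrimeCore_quotient_eq_bot {X : Type*} [Group X] [Finite X] (p : ℕ) :
    Cfsg.pPrimeCore p (X ⧸ Cfsg.pPrimeCore p X) = ⊥ := by
  set O := Cfsg.pPrimeCore p X with hO
  set Nb := Cfsg.pPrimeCore p (X ⧸ O) with hNb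
  have hN : Nb.comap (QuotientGroup.mk' O) ≤ O := by
    apply Cfsg.Agent.Lib.Helper12.le_pPrimeCore
    · infer_instance
    · rw [Cfsg.Agent.Lib.Helper12.card_comap_mk']
      exact Nat.Coprime.mul_left (Cfsg.Agent.Lib.Helper12.pPrimeCore_coprime p)
        (Cfsg.Agent.Lib.Helper12.pPrimeCore_coprime p)
  rw [eq_bot_iff]
  intro x hx
  obtain ⟨y, rfl⟩ := QuotientGroup.mk'_surjective O x
  have : y ∈ O := hN hx
  rw [Subgroup.mem_bot]
  exact (QuotientGroup.eq_one_iff y).mpr this

/-- A finite solvable group with trivial odd core and cyclic Sylow 2-intersections has a normal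
Sylow 2-subgroup. -/
theorem normal_sylow_of_oddCore_eq_bot {X : Type*} [Group X] [Finite X] [Group.IsSolvable X]
    (hO : Cfsg.pPrimeCore 2 X = ⊥)
    (hC : ∀ S T : Sylow 2 X, S ≠ T → IsCyclic ↥((S : Subgroup X) ⊓ (T : Subgroup X))) :
    ∃ P : Sylow 2 X, (P : Subgroup X).Normal := by
  classical
  by_cases hST : ∃ S T : Sylow 2 X, S ≠ T
  · exfalso
    obtain ⟨S, T, hne⟩ := hST
    -- odd p-cores are trivial
    have hodd : ∀ p : Nat.Primes, (p : ℕ) ≠ 2 → Cfsg.pCore (p : ℕ) X = ⊥ := by
      intro p hp2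
      have : Fact (Nat.Prime (p : ℕ)) := ⟨p.2⟩
      rw [eq_bot_iff, ← hO]
      apply Cfsg.Agent.Lib.Helper12.le_pPrimeCore 2 _ (Cfsg.Agent.Lib.Helper1.pCore_normal _ X)
      obtain ⟨n, hn⟩ := IsPGroup.iff_card.mp (Cfsg.Agent.Lib.Helper1.pCore_isPGroup (p : ℕ) X)
      rw [hn]
      apply Nat.Coprime.pow_left
      exact (Nat.coprime_primes p.2 Nat.prime_two).mpr hp2
    have hF : Cfsg.fittingSubgroup X = Cfsg.pCore 2 X := by
      rw [Cfsg.Agent.Lib.Helper1.fittingSubgroup_eq_iSup_pCore]
      apply le_antisymm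
      · apply iSup_le
        intro p
        by_cases hp2 : (p : ℕ) = 2
        · rw [hp2]
        · rw [hodd p hp2]; exact bot_le
      · exact le_iSup_of_le (⟨2, Nat.prime_two⟩ : Nat.Primes) le_rfl
    set Q₂ := Cfsg.pCore 2 X with hQ₂
    have hQn : Q₂.Normal := Cfsg.Agent.Lib.Helper1.pCore_normal 2 X
    have hCQ : Subgroup.centralizer (Q₂ : Set X) ≤ Q₂ := by
      have := Cfsg.Agent.S0044.result (G := X)
      rwa [hF] at this
    have hQST : Q₂ ≤ (S : Subgroup X) ⊓ (T : Subgroup X) :=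
      le_inf (Cfsg.Agent.Lib.Helper1.pCore_le_sylow S) (Cfsg.Agent.Lib.Helper1.pCore_le_sylow T)
    have hcycST := hC S T hne
    have hQcyc : IsCyclic Q₂ := by
      have h1 : IsCyclic (Q₂.subgroupOf ((S : Subgroup X) ⊓ (T : Subgroup X))) := inferInstance
      exact isCyclic_of_surjective (Subgroup.subgroupOfEquivOfLe hQST)
        (Subgroup.subgroupOfEquivOfLe hQST).surjective
    have hQp : IsPGroup 2 Q₂ := Cfsg.Agent.Lib.Helper1.pCore_isPGroup 2 X
    obtain ⟨a, ha⟩ := IsPGroup.iff_card.mp hQp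
    -- the conjugation action
    let φ : X →* MulAut Q₂ := MulAut.conjNormal
    have hker : φ.ker ≤ Q₂ := by
      intro g hg
      apply hCQ
      rw [Subgroup.mem_centralizer_iff]
      intro q hq
      have h1 : φ g ⟨q, hq⟩ = ⟨q, hq⟩ := by
        rw [MonoidHom.mem_ker] at hg
        rw [hg]; rfl
      have h2 : g * q * g⁻¹ = q := by
        have := congrArg Subtype.val h1
        simpa [φ, MulAut.conjNormal_apply] using this
      calc q * g = (g * q * g⁻¹) * g := by rw [h2]
        _ = g * q := by group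
    have hcardker : Nat.card φ.ker ∣ 2 ^ a := by
      rw [← ha]; exact Subgroup.card_dvd_of_le hker
    have hcardrange : Nat.card φ.range ∣ 2 ^ a := by
      have h1 : Nat.card φ.range ∣ Nat.card (MulAut Q₂) := Subgroup.card_subgroup_dvd_card _
      rw [IsCyclic.card_mulAut, ha] at h1
      rcases Nat.eq_zero_or_pos a with h0 | hpos
      · rw [h0, pow_zero] at h1 ⊢
        simpa using h1
      · rw [Nat.totient_prime_pow Nat.prime_two hpos] at h1
        have h2 : 2 ^ (a - 1) * (2 - 1) ∣ 2 ^ a := by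
          rw [show (2 - 1 : ℕ) = 1 by norm_num, mul_one]
          exact pow_dvd_pow 2 (Nat.sub_le a 1)
        exact h1.trans h2
    have hcardX : Nat.card X ∣ 2 ^ (a + a) := by
      rw [← Subgroup.card_mul_index φ.ker, Subgroup.index_ker, pow_add]
      exact Nat.mul_dvd_mul hcardker hcardrange
    obtain ⟨b, -, hb⟩ := (Nat.dvd_prime_pow Nat.prime_two).1 hcardX
    have hXp : IsPGroup 2 X := IsPGroup.of_card hb
    have htop : IsPGroup 2 (⊤ : Subgroup X) := hXp.to_subgroup ⊤
    have hS : (S : Subgroup X) = ⊤ := (S.is_maximal' htop le_top).symm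
    have hT : (T : Subgroup X) = ⊤ := (T.is_maximal' htop le_top).symm
    exact hne (Sylow.ext (hS.trans hT.symm))
  · rw [not_exists] at hST
    have hsub : Subsingleton (Sylow 2 X) := by
      constructor
      intro S T
      by_contra h
      exact hST S ⟨T, h⟩
    obtain ⟨P⟩ : Nonempty (Sylow 2 X) := inferInstance
    exact ⟨P, Sylow.normal_of_subsingleton P⟩


/-- Let G be a finite solvable group in which the intersection of any two distinct Sylow 2-subgroups is cyclic. Then G/O(G) has a normal Sylow 2-subgroup, where O(G) is the largest normal subgroup of odd order. -/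
theorem result {G : Type*} [Group G] [Finite G] (hs : Group.IsSolvable G)
    (hC : ∀ S T : Sylow 2 G, S ≠ T → IsCyclic ↥((S : Subgroup G) ⊓ (T : Subgroup G))) :
    ∃ P : Sylow 2 (G ⧸ Cfsg.oddCore G), (P : Subgroup (G ⧸ Cfsg.oddCore G)).Normal := by
  have hQC := Cfsg.Agent.S3305.result hC (Cfsg.oddCore G)
  have hsol : Group.IsSolvable (G ⧸ Cfsg.oddCore G) := inferInstance
  exact normal_sylow_of_oddCore_eq_bot (pPrimeCore_quotient_eq_bot 2) hQC

end Cfsg.Agent.S3303
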