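import Cfsg.Statements.S3304
import Mathlib
import Cfsg.Agent.S3303
import Cfsg.Agent.S0016
import Cfsg.Agent.S0044
import Cfsg.Agent.Lib.Helper1.Fitting
import Cfsg.Agent.Lib.Helper12.Cores
import Cfsg.Agent.Lib.Helper18.Basic
import Cfsg.Agent.Lib.Helper23.Q8Case
import Cfsg.Agent.Lib.Helper23.QuatOdd

set_option autoImplicit false
open Cfsg

namespace Cfsg.Agent.S3304

open Cfsg.Agent.Lib.Helper23.Q8Aut Cfsg.Agent.Lib.Helper23.RankOne in
/-- the core case: trivial odd core -/
theorem core {X : Type*} [Group X] [Finite X] [Group.IsSolvable X]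
    (hO : Cfsg.pPrimeCore 2 X = ⊥)
    (hI : ∀ S T : Sylow 2 X, S ≠ T → ∀ A : Subgroup X, A ≤ (S : Subgroup X) ⊓ (T : Subgroup X) →
      (∀ a ∈ A, ∀ b ∈ A, a * b = b * a) → (∀ a ∈ A, a * a = 1) → Nat.card A ≤ 2) :
    (∃ P : Sylow 2 X, (P : Subgroup X).Normal) ∨
    Nonempty (X ≃* GL (Fin 2) (ZMod 3)) ∨
    (Nat.card X = 48 ∧ Nat.card ↥(Subgroup.center X) = 2 ∧
      Nonempty (X ⧸ Subgroup.center X ≃* Equiv.Perm (Fin 4)) ∧
      ∀ P : Sylow 2 X, Nonempty (↥(P : Subgroup X) ≃* QuaternionGroup 4)) := by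
  classical
  by_cases hST : ∃ S T : Sylow 2 X, S ≠ T
  · right
    obtain ⟨S, T, hne⟩ := hST
    -- odd p-cores are trivial
    have hodd : ∀ p : Nat.Primes, (p : ℕ) ≠ 2 → Cfsg.pCore (p : ℕ) X = ⊥ := by
      intro p hp2
      have : Fact (Nat.Prime (p : ℕ)) := ⟨p.2⟩
      rw [eq_bot_iff, ← hO]
      apply Cfsg.Agent.Lib.Helper12.le_pPrimeCore 2 _ (Cfsg.Agent.Lib.Helper1.pCore_normal _ X)
      obtain ⟨n, hn⟩ := IsPGroup.iff_card.mp (Cfsg.Agent.Lib.Helper1.pCore_isPGroup (p : ℕ) X)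
      rw [hn]
      apply Nat.Coprime.pow_left
      exact (Nat.coprime_primes p.2 Nat.prime_two).mpr hp2
    have hF : Cfsg.fittingSubgroup X = Cfsg.pCore 2 X := by
      rw [Cfsg.Agent.Lib.Helper1.fittingSubgroup_eq_iSup_pCore]
      apply le_antisymm
      · apply iSup_le
        intro p
        by_cases hp2 : (p : ℕ) = 2
        · rw [hp2]
        · rw [hodd p hp2]; exact bot_le
      · exact le_iSup_of_le (⟨2, Nat.prime_two⟩ : Nat.Primes) le_rfl
    set R := Cfsg.pCore 2 X with hR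
    have hRn : R.Normal := Cfsg.Agent.Lib.Helper1.pCore_normal 2 X
    have hCQ : Subgroup.centralizer (R : Set X) ≤ R := by
      have := Cfsg.Agent.S0044.result (G := X)
      rwa [hF] at this
    have hRS : ∀ P : Sylow 2 X, R ≤ (P : Subgroup X) :=
      fun P => Cfsg.Agent.Lib.Helper1.pCore_le_sylow P
    have hRp : IsPGroup 2 R := Cfsg.Agent.Lib.Helper1.pCore_isPGroup 2 X
    -- rank one
    have hr : ∀ A : Subgroup R, (∀ a ∈ A, ∀ b ∈ A, a * b = b * a) → (∀ a ∈ A, a * a = 1) →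
        Nat.card A ≤ 2 := by
      intro A hAc hAe
      rw [← Subgroup.card_map_of_injective (K := A) R.subtype_injective]
      apply hI S T hne
      · rintro _ ⟨x, -, rfl⟩
        exact ⟨hRS S x.2, hRS T x.2⟩
      · rintro _ ⟨x, hx, rfl⟩ _ ⟨y, hy, rfl⟩
        rw [← map_mul, ← map_mul, hAc x hx y hy]
      · rintro _ ⟨x, hx, rfl⟩
        rw [← map_mul, hAe x hx, map_one]
    obtain ⟨c, hc⟩ := involution_unique_of_rank hRp hr
    have hfinal : IsPGroup 2 X → Nonempty (X ≃* GL (Fin 2) (ZMod 3)) ∨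
        (Nat.card X = 48 ∧ Nat.card ↥(Subgroup.center X) = 2 ∧
        Nonempty (X ⧸ Subgroup.center X ≃* Equiv.Perm (Fin 4)) ∧
        ∀ P : Sylow 2 X, Nonempty (↥(P : Subgroup X) ≃* QuaternionGroup 4)) :=
      fun hX => absurd (sylow_eq_of_isPGroup hX S T) hne
    rcases Cfsg.Agent.S0016.result 2 hRp (subgroup_unique_of_involution_unique c hc) with
      hcyc | ⟨-, n, ⟨ε⟩⟩
    · exact hfinal (isPGroup_of_odd_aut_trivial R hRp hCQ (cyclic_odd_aut hRp))
    · rcases n with _ | _ | n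
      · -- cyclic of order 4
        have hcyc : IsCyclic R := by
          have h1 : IsCyclic (QuaternionGroup (2 ^ 0)) := by
            show IsCyclic (QuaternionGroup 1)
            exact QuaternionGroup.quaternionGroup_one_isCyclic
          exact isCyclic_of_surjective ε.symm ε.symm.surjective
        exact hfinal (isPGroup_of_odd_aut_trivial R hRp hCQ (cyclic_odd_aut hRp))
      · -- Q8
        have e : R ≃* Q := ε
        exact Cfsg.Agent.Lib.Helper23.Q8Case.q8_case R e hCQ hRS S T hne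
      · -- larger quaternion
        apply hfinal
        apply isPGroup_of_odd_aut_trivial R hRp hCQ
        apply odd_aut_congr ε
        intro θ k hk hθ
        exact Cfsg.Agent.Lib.Helper23.QuatOdd.mulAut_eq_one_of_odd (n := n + 1 + 1) (by omega) θ k hk hθ
  · left
    rw [not_exists] at hST
    have hsub : Subsingleton (Sylow 2 X) := by
      constructor
      intro S T
      by_contra h
      exact hST S ⟨T, h⟩
    obtain ⟨P⟩ : Nonempty (Sylow 2 X) := inferInstance
    exact ⟨P, Sylow.normal_of_subsingleton P⟩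

/-- lifting the rank condition to the quotient by the odd core -/
theorem lift_hyp {G : Type*} [Group G] [Finite G]
    (hI : ∀ S T : Sylow 2 G, S ≠ T → Cfsg.PRankLE 2 1 ↥((S : Subgroup G) ⊓ (T : Subgroup G))) :
    ∀ S' T' : Sylow 2 (G ⧸ Cfsg.oddCore G), S' ≠ T' → ∀ A : Subgroup (G ⧸ Cfsg.oddCore G),
      A ≤ (S' : Subgroup (G ⧸ Cfsg.oddCore G)) ⊓ (T' : Subgroup (G ⧸ Cfsg.oddCore G)) →
      (∀ a ∈ A, ∀ b ∈ A, a * b = b * a) → (∀ a ∈ A, a * a = 1) → Nat.card A ≤ 2 := by
  intro S' T' hne A hA hAc hAe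
  set O := Cfsg.oddCore G with hO
  set f := QuotientGroup.mk' O with hf
  obtain ⟨S, T, hS, hT, hST⟩ :=
    Cfsg.Agent.Lib.Helper18.exists_sylow_lift_pair (f := f)
      (QuotientGroup.mk'_surjective O) S' T'
  have hneST : S ≠ T := by
    intro h
    apply hne
    apply Sylow.ext
    rw [← hS, ← hT, h]
  set D := (S : Subgroup G) ⊓ (T : Subgroup G) with hD
  -- f is injective on D
  have finj : ∀ x ∈ D, f x = 1 → x = 1 := by
    intro x hx hfx
    have hxO : x ∈ O := by
      rw [← QuotientGroup.ker_mk' O]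
      exact hfx
    obtain ⟨k, hk⟩ := S.isPGroup' ⟨x, hx.1⟩
    have hk' : x ^ (2 ^ k) = 1 := by
      have := congrArg Subtype.val hk
      simpa using this
    have hd1 : orderOf x ∣ 2 ^ k := orderOf_dvd_of_pow_eq_one hk'
    have hd2 : orderOf x ∣ Nat.card O := by
      have := orderOf_dvd_natCard (⟨x, hxO⟩ : O)
      rwa [Subgroup.orderOf_mk] at this
    have hcop : Nat.Coprime (Nat.card O) (2 ^ k) :=
      Nat.Coprime.pow_right k (Cfsg.Agent.Lib.Helper12.pPrimeCore_coprime 2)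
    have : orderOf x = 1 := Nat.eq_one_of_dvd_coprimes hcop hd2 hd1
    exact orderOf_eq_one_iff.mp this
  have finj' : ∀ x ∈ D, ∀ y ∈ D, f x = f y → x = y := by
    intro x hx y hy hxy
    have h1 : f (x * y⁻¹) = 1 := by rw [map_mul, map_inv, hxy, mul_inv_cancel]
    have h2 := finj _ (D.mul_mem hx (D.inv_mem hy)) h1
    exact mul_inv_eq_one.mp h2
  set B : Subgroup G := A.comap f ⊓ D with hB
  have hBD : B ≤ D := inf_le_right
  have hBc : ∀ a ∈ B, ∀ b ∈ B, a * b = b * a := by
    intro a ha b hb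
    apply finj' _ (D.mul_mem (hBD ha) (hBD hb)) _ (D.mul_mem (hBD hb) (hBD ha))
    rw [map_mul, map_mul]
    exact hAc _ ha.1 _ hb.1
  have hBe : ∀ a ∈ B, a * a = 1 := by
    intro a ha
    apply finj _ (D.mul_mem (hBD ha) (hBD ha))
    rw [map_mul]
    exact hAe _ ha.1
  have hBA : B.map f = A := by
    apply le_antisymm
    · rintro _ ⟨x, hx, rfl⟩
      exact hx.1
    · intro a' ha'
      have h1 : a' ∈ D.map f := by rw [hST]; exact hA ha'
      obtain ⟨x, hx, rfl⟩ := h1
      exact ⟨x, ⟨ha', hx⟩, rfl⟩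
  have hcard1 : Nat.card A ≤ Nat.card B := by
    rw [← hBA]
    exact Nat.card_le_card_of_surjective _ (f.subgroupMap_surjective B)
  have hcard2 : Nat.card (B.subgroupOf D) = Nat.card B :=
    Nat.card_congr (Subgroup.subgroupOfEquivOfLe hBD).toEquiv
  have hcomm : IsMulCommutative (B.subgroupOf D) := by
    refine ⟨⟨fun a b => ?_⟩⟩
    apply Subtype.ext
    apply Subtype.ext
    exact hBc _ a.2 _ b.2
  have hexp : ∀ a ∈ B.subgroupOf D, a ^ 2 = 1 := by
    intro a ha
    apply Subtype.ext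
    rw [sq]
    exact hBe _ ha
  have := hI S T hneST (B.subgroupOf D) hcomm hexp
  rw [hcard2] at this
  omega


/-- Let G be a finite solvable group in which the intersection of any two distinct Sylow 2-subgroups has 2-rank at most 1 (contains no Klein four-group). Write Q = G/O(G), O(G) the largest normal subgroup of odd order. Then Q has a normal Sylow 2-subgroup; or Q is isomorphic to GL(2,3); or Q has order 48, centre of order 2 with central quotient isomorphic to the symmetric group of degree 4, and generalized quaternion Sylow 2-subgroups of order 16 (the binary octahedral group). The last two are the two representation groups of the symmetric group of degree 4. -/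
theorem result {G : Type*} [Group G] [Finite G] (hs : Group.IsSolvable G)
    (hI : ∀ S T : Sylow 2 G, S ≠ T → Cfsg.PRankLE 2 1 ↥((S : Subgroup G) ⊓ (T : Subgroup G))) :
    (∃ P : Sylow 2 (G ⧸ Cfsg.oddCore G), (P : Subgroup (G ⧸ Cfsg.oddCore G)).Normal) ∨
    Nonempty ((G ⧸ Cfsg.oddCore G) ≃* GL (Fin 2) (ZMod 3)) ∨
    (Nat.card (G ⧸ Cfsg.oddCore G) = 48 ∧ Nat.card ↥(Subgroup.center (G ⧸ Cfsg.oddCore G)) = 2 ∧
      Nonempty ((G ⧸ Cfsg.oddCore G) ⧸ Subgroup.center (G ⧸ Cfsg.oddCore G) ≃* Equiv.Perm (Fin 4)) ∧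
      ∀ P : Sylow 2 (G ⧸ Cfsg.oddCore G), Nonempty (↥(P : Subgroup (G ⧸ Cfsg.oddCore G)) ≃* QuaternionGroup 4)) := by
  have := hs
  exact core (Cfsg.Agent.S3303.pPrimeCore_quotient_eq_bot 2) (lift_hyp hI)

end Cfsg.Agent.S3304
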