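import Cfsg.Statements.S3341
import Cfsg.Agent.Lib.Helper8.S3341G
import Cfsg.Agent.Lib.Helper8.S3341H
import Cfsg.Agent.Lib.Helper20.S3341L4
import Cfsg.Agent.S0497

set_option autoImplicit false
open Cfsg

namespace Cfsg.Agent.S3341

/-- a proper nontrivial subgroup whose normalizer has the order of the group contradicts simplicity -/
theorem false_of_card_normalizer {G : Type*} [Group G] [Finite G] [IsSimpleGroup G]
    (S : Subgroup G) (hcard : Nat.card S = 9) (m : ℕ) (hm : m ≠ 9)
    (hN : Nat.card (Subgroup.normalizer (S : Set G)) = m) (hG : Nat.card G = m) : False := by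
  have hN' : Subgroup.normalizer (S : Set G) = ⊤ :=
    Subgroup.eq_top_of_card_eq _ (by rw [hN, hG])
  have hnorm : S.Normal := Subgroup.normalizer_eq_top_iff.mp hN'
  rcases hnorm.eq_bot_or_eq_top with hb | ht
  · rw [hb, Subgroup.card_bot] at hcard
    omega
  · rw [ht, Subgroup.card_top, hG] at hcard
    exact hm hcard

/-- Let G be a finite simple group whose Sylow 3-subgroup S is elementary abelian of order 9, such that G has more than one conjugacy class of elements of order 3 and C_G(s) = S for every non-identity s in S. Then G is isomorphic to the alternating group of degree 6. -/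
theorem result {G : Type*} [Group G] [Finite G] [IsSimpleGroup G]
    (P : Sylow 3 G) (S : Subgroup G) (hSP : S = P) (hcomm : IsMulCommutative S) (hexp : ∀ a ∈ S, a ^ 3 = 1)
    (hcard : Nat.card S = 9)
    (hclasses : ∃ a b : G, orderOf a = 3 ∧ orderOf b = 3 ∧ ∀ g : G, g * a * g⁻¹ ≠ b)
    (hcent : ∀ s ∈ S, s ≠ 1 → Subgroup.centralizer ({s} : Set G) = S) :
    Nonempty (G ≃* alternatingGroup (Fin 6)) := by
  rcases Cfsg.Agent.Lib.Helper20.S3341Leaf.exists_data P S hSP hcomm hexp hcard hclasses hcent with
    ⟨x, y, t, h⟩ | ⟨x, y, n, h⟩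
  · exfalso
    exact false_of_card_normalizer S hcard 18 (by norm_num) h.cardN
      (Cfsg.Agent.Lib.Helper8.S3341.card_eq_18_of_D2 h)
  · rcases Cfsg.Agent.Lib.Helper8.S3341.card_of_D4 h with h36 | h360
    · exfalso
      exact false_of_card_normalizer S hcard 36 (by norm_num) h.cardN h36
    · exact Cfsg.Agent.S0497.result h360

end Cfsg.Agent.S3341
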