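import Cfsg.Statements.S3349
-- import your own Cfsg.Agent.* helpers here
import Mathlib

set_option autoImplicit false
open Cfsg

namespace Cfsg.Agent.S3349

/-- Let Q be a finite extraspecial p-group and α an automorphism of Q fixing every element of some maximal abelian subgroup of Q. Then the order of α is a power of p. -/
theorem result {Q : Type*} [Group Q] [Finite Q]
    (p : ℕ) [Fact p.Prime] (hQ : Cfsg.IsExtraspecial p Q) (α : MulAut Q)
    (A : Subgroup Q) (hA : IsMulCommutative A) (hmax : ∀ B : Subgroup Q, A ≤ B → IsMulCommutative B → B = A)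
    (hfix : ∀ a ∈ A, α a = a) :
    ∃ k : ℕ, orderOf α = p ^ k := by
  classical
  obtain ⟨⟨hpQ, -, hcomm⟩, -⟩ := hQ
  have hAcomm : ∀ a ∈ A, ∀ b ∈ A, a * b = b * a := by
    intro a ha b hb
    exact setLike_mul_comm ha hb
  -- C_Q(A) ≤ A
  have hCA : ∀ x : Q, (∀ a ∈ A, x * a = a * x) → x ∈ A := by
    intro x hx
    have hB : IsMulCommutative (Subgroup.closure ((A : Set Q) ∪ {x})) := by
      apply Subgroup.isMulCommutative_closure
      intro u hu v hv
      rcases hu with hu | hu <;> rcases hv with hv | hv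
      · exact hAcomm u hu v hv
      · rw [Set.mem_singleton_iff.mp hv]; exact (hx u hu).symm
      · rw [Set.mem_singleton_iff.mp hu]; exact hx v hv
      · rw [Set.mem_singleton_iff.mp hu, Set.mem_singleton_iff.mp hv]
    have hAB : A ≤ Subgroup.closure ((A : Set Q) ∪ {x}) :=
      fun a ha => Subgroup.subset_closure (Or.inl ha)
    have := hmax _ hAB hB
    rw [← this]
    exact Subgroup.subset_closure (Or.inr rfl)
  -- the centre lies in A
  have hZA : Subgroup.center Q ≤ A := by
    intro z hz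
    apply hCA
    intro a _
    exact (Subgroup.mem_center_iff.mp hz a).symm
  -- commutators lie in A
  have hcommA : ∀ x a : Q, x * a * x⁻¹ * a⁻¹ ∈ A := by
    intro x a
    apply hZA
    rw [← hcomm]
    exact Subgroup.commutator_mem_commutator (Subgroup.mem_top x) (Subgroup.mem_top a)
  -- A is normal
  have hAnorm : ∀ x : Q, ∀ a ∈ A, x * a * x⁻¹ ∈ A := by
    intro x a ha
    have := A.mul_mem (hcommA x a) ha
    simpa using this
  -- x⁻¹ α(x) ∈ A
  have hc : ∀ x : Q, x⁻¹ * α x ∈ A := by
    intro x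
    apply hCA
    intro a ha
    have h1 : α (x * a * x⁻¹) = x * a * x⁻¹ := hfix _ (hAnorm x a ha)
    rw [map_mul, map_mul, map_inv, hfix a ha] at h1
    -- α x * a * (α x)⁻¹ = x * a * x⁻¹
    have h2 : α x * a = x * a * x⁻¹ * α x := by
      rw [← h1]; group
    calc x⁻¹ * α x * a = x⁻¹ * (α x * a) := by group
      _ = x⁻¹ * (x * a * x⁻¹ * α x) := by rw [h2]
      _ = a * (x⁻¹ * α x) := by group
  -- α^k x = x * (x⁻¹ α x)^k
  have hpow : ∀ (k : ℕ) (x : Q), (α ^ k) x = x * (x⁻¹ * α x) ^ k := by
    intro k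
    induction k with
    | zero => intro x; simp
    | succ k ih =>
      intro x
      rw [pow_succ', MulAut.mul_apply, ih, map_mul, map_pow, hfix _ (hc x), pow_succ',
        ← mul_assoc x, mul_inv_cancel_left]
  have hαpow : α ^ Nat.card Q = 1 := by
    ext x
    rw [hpow, pow_card_eq_one', mul_one]
    rfl
  obtain ⟨n, hn⟩ := IsPGroup.iff_card.mp hpQ
  have hdvd : orderOf α ∣ p ^ n := by
    rw [← hn]; exact orderOf_dvd_of_pow_eq_one hαpow
  obtain ⟨k, -, hk⟩ := (Nat.dvd_prime_pow Fact.out).1 hdvd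
  exact ⟨k, hk⟩

end Cfsg.Agent.S3349
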