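import Cfsg.Statements.S3356
-- import your own Cfsg.Agent.* helpers here
import Cfsg.Agent.Lib.Helper21.HalfTrans

set_option autoImplicit false
open Cfsg
open Cfsg.Agent.Lib.Helper21

namespace Cfsg.Agent.S3356

/-- Let G be a finite 3/2-transitive permutation group: G acts faithfully and transitively on a finite set, the point stabilizers are non-trivial, and for each point a all orbits of G_a on the remaining points have the same size. Suppose G has a regular normal subgroup N and G is not a Frobenius group (some two-point stabilizer is non-trivial). Then N is an elementary abelian p-group for some prime p, and every non-trivial normal subgroup of G contains N (so N is the unique minimal normal subgroup). -/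
theorem result {G Ω : Type*} [Group G] [Finite G]
    [MulAction G Ω] [FaithfulSMul G Ω] [Finite Ω] (htrans : MulAction.IsPretransitive G Ω)
    (hne : ∀ a : Ω, MulAction.stabilizer G a ≠ ⊥)
    (hhalf : ∀ a b c : Ω, b ≠ a → c ≠ a →
      Nat.card (MulAction.orbit (MulAction.stabilizer G a) b) = Nat.card (MulAction.orbit (MulAction.stabilizer G a) c))
    (N : Subgroup G) [hN : N.Normal] (hNt : MulAction.IsPretransitive N Ω) (hNr : ∀ a : Ω, MulAction.stabilizer N a = ⊥)
    (hnotF : ∃ a b : Ω, a ≠ b ∧ MulAction.stabilizer G a ⊓ MulAction.stabilizer G b ≠ ⊥) :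
    (∃ p : ℕ, p.Prime ∧ IsMulCommutative N ∧ ∀ x ∈ N, x ^ p = 1) ∧
    (∀ M : Subgroup G, M.Normal → M ≠ ⊥ → N ≤ M) := by
  classical
  obtain ⟨a, b, hab, hst⟩ := hnotF
  set A : Subgroup G := MulAction.stabilizer G a with hA
  have hreg : ∀ n ∈ N, ∀ ω : Ω, n • ω = ω → n = 1 := by
    intro n hn ω hω
    have h1 : (⟨n, hn⟩ : N) ∈ MulAction.stabilizer N ω := by
      rw [MulAction.mem_stabilizer_iff]
      exact hω
    rw [hNr ω, Subgroup.mem_bot] at h1
    exact congrArg Subtype.val h1
  have htr : ∀ ω : Ω, ∃ n ∈ N, n • a = ω := by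
    intro ω
    obtain ⟨n, hn⟩ := MulAction.exists_smul_eq N a ω
    exact ⟨n, n.2, hn⟩
  have hG : ∀ g : G, ∃ n ∈ N, n⁻¹ * g ∈ A := by
    intro g
    obtain ⟨n, hn, hna⟩ := htr (g • a)
    refine ⟨n, hn, ?_⟩
    rw [hA, MulAction.mem_stabilizer_iff, mul_smul, ← hna, inv_smul_smul]
  have hconj : ∀ g ∈ A, ∀ x : G, g • x • a = (g * x * g⁻¹) • a := by
    intro g hg x
    have hga : g • a = a := MulAction.mem_stabilizer_iff.1 hg
    calc g • x • a = (g * x * g⁻¹) • g • a := by simp [mul_smul]
      _ = (g * x * g⁻¹) • a := by rw [hga]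
  have hfaith : ∀ g ∈ A, (∀ n ∈ N, g * n * g⁻¹ = n) → g = 1 := by
    intro g hg hcent
    apply FaithfulSMul.eq_of_smul_eq_smul (α := Ω)
    intro ω
    obtain ⟨n, hn, rfl⟩ := htr ω
    rw [hconj g hg n, hcent n hn, one_smul]
  have hkey : ∀ x ∈ N, HalfTrans.Bx A x = A ⊓ MulAction.stabilizer G (x • a) := by
    intro x hx
    ext g
    rw [HalfTrans.mem_Bx, Subgroup.mem_inf]
    constructor
    · rintro ⟨hg, hgx⟩
      refine ⟨hg, ?_⟩
      rw [MulAction.mem_stabilizer_iff, hconj g hg x, hgx]
    · rintro ⟨hg, hgx⟩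
      refine ⟨hg, ?_⟩
      rw [MulAction.mem_stabilizer_iff, hconj g hg x] at hgx
      have h1 : (x⁻¹ * (g * x * g⁻¹)) • a = a := by
        rw [mul_smul, hgx, inv_smul_smul]
      have h2 := hreg _ (N.mul_mem (N.inv_mem hx) (hN.conj_mem x hx g)) a h1
      exact (inv_mul_eq_one.1 h2).symm
  have hos : ∀ c : Ω, Nat.card ↥(A ⊓ MulAction.stabilizer G c) *
      Nat.card (MulAction.orbit (MulAction.stabilizer G a) c) = Nat.card A := by
    intro c
    have h1 := Subgroup.card_mul_index (MulAction.stabilizer (↥A) c)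
    rw [MulAction.index_stabilizer] at h1
    have h2 : MulAction.stabilizer (↥A) c = (A ⊓ MulAction.stabilizer G c).subgroupOf A := by
      ext g
      rw [MulAction.mem_stabilizer_iff, Subgroup.mem_subgroupOf, Subgroup.mem_inf,
        MulAction.mem_stabilizer_iff]
      constructor
      · intro hg; exact ⟨g.2, hg⟩
      · rintro ⟨-, hg⟩; exact hg
    rw [h2, Nat.card_congr (Subgroup.subgroupOfEquivOfLe
      (inf_le_left : A ⊓ MulAction.stabilizer G c ≤ A)).toEquiv] at h1
    rw [Nat.card_coe_set_eq]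
    exact h1
  set s : ℕ := Nat.card ↥(A ⊓ MulAction.stabilizer G b) with hs
  have hcard : ∀ c : Ω, c ≠ a → Nat.card ↥(A ⊓ MulAction.stabilizer G c) = s := by
    intro c hc
    have h1 := hos c
    have h2 := hos b
    rw [hhalf a c b hc (Ne.symm hab), ← h2] at h1
    have hpos : 0 < Nat.card (MulAction.orbit (MulAction.stabilizer G a) b) := by
      haveI : Nonempty (MulAction.orbit (MulAction.stabilizer G a) b) :=
        ⟨⟨b, MulAction.mem_orbit_self b⟩⟩
      exact Nat.card_pos
    exact Nat.eq_of_mul_eq_mul_right hpos h1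
  have hyp : HalfTrans.Hyp N A s := by
    refine ⟨hN, ?_, hfaith, ?_, ?_⟩
    · have : 1 < s := (Subgroup.one_lt_card_iff_ne_bot _).2 hst
      omega
    · intro x hx hx1
      rw [hkey x hx]
      refine hcard _ (fun hc => hx1 (hreg x hx a hc))
    · intro hbot
      obtain ⟨n, hn, hna⟩ := htr b
      rw [hbot, Subgroup.mem_bot] at hn
      rw [hn, one_smul] at hna
      exact hab hna
  exact hyp.main hG

end Cfsg.Agent.S3356
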