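import Cfsg.Statements.S3357
import Cfsg.Agent.Lib.Helper13.FrobRepD
import Cfsg.Agent.Lib.Helper13.FrobRepE
import Cfsg.Agent.Lib.Helper13.FrobRepF
import Cfsg.Agent.Lib.Helper13.FrobRepG

set_option autoImplicit false
open Cfsg

namespace Cfsg.Agent.S3357

/-- Let G be a finite group that occurs as a Frobenius complement. Then G has a faithful irreducible representation over an algebraic closure of the rationals in which no non-identity element of G has 1 as an eigenvalue: there are n ≥ 1 and an injective homomorphism ρ from G to GL(n) over that field, with no invariant subspace other than 0 and the whole space, such that for g ≠ 1 the only vector fixed by ρ(g) is 0. -/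
theorem result {G : Type*} [Group G] [Finite G]
    (hFC : ∃ (L : Type) (_ : Group L) (_ : Finite L) (H : Subgroup L), Cfsg.IsFrobeniusComplement H ∧ Nonempty (G ≃* H)) :
    ∃ (n : ℕ) (ρ : G →* GL (Fin n) (AlgebraicClosure ℚ)), 0 < n ∧ Function.Injective ρ ∧
      (∀ W : Submodule (AlgebraicClosure ℚ) (Fin n → AlgebraicClosure ℚ),
        (∀ g : G, ∀ w ∈ W, ((ρ g : GL (Fin n) (AlgebraicClosure ℚ)) : Matrix (Fin n) (Fin n) (AlgebraicClosure ℚ)).mulVec w ∈ W) → W = ⊥ ∨ W = ⊤) ∧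
      ∀ g : G, g ≠ 1 → ∀ v : Fin n → AlgebraicClosure ℚ,
        ((ρ g : GL (Fin n) (AlgebraicClosure ℚ)) : Matrix (Fin n) (Fin n) (AlgebraicClosure ℚ)).mulVec v = v → v = 0 := by
  classical
  obtain ⟨L, _, _, H, hH, ⟨e⟩⟩ := hFC
  obtain ⟨p, hpf, H₁, V, ⟨e₁⟩, hcop, hVne, hVc, hVe, hnorm, hfpf⟩ :=
    Cfsg.Agent.Lib.Helper13.FrobRep.frob_data H hH
  haveI := hpf
  obtain ⟨χ, hχ, hχfpf⟩ := Cfsg.Agent.Lib.Helper13.FrobRep.exists_irr_fpf H₁ p hcop
    (fun k _ _ => Cfsg.Agent.Lib.Helper13.FrobRep.exists_modular_of_conj p H₁ V hVne hVc hVe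
      hnorm hfpf k)
  obtain ⟨n, ρ, hn, hinj, hirr, hfix⟩ :=
    Cfsg.Agent.Lib.Helper13.FrobRep.exists_fpf_matrix_rep H₁ hχ hχfpf
  let ε : G ≃* H₁ := e.trans e₁
  refine ⟨n, ρ.comp ε.toMonoidHom, hn, hinj.comp ε.injective, ?_, ?_⟩
  · intro W hW
    apply hirr W
    intro h w hw
    have h1 := hW (ε.symm h) w hw
    have h2 : (ρ.comp ε.toMonoidHom) (ε.symm h) = ρ h := by
      show ρ (ε (ε.symm h)) = ρ h
      rw [MulEquiv.apply_symm_apply]
    rw [h2] at h1
    exact h1
  · intro g hg v hv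
    have hg' : ε g ≠ 1 := fun h => hg (by
      have := congrArg ε.symm h
      simpa using this)
    exact hfix (ε g) hg' v hv

end Cfsg.Agent.S3357
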