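import Cfsg.Statements.S3358
import Mathlib
import Cfsg.Agent.S0068
import Cfsg.Agent.Lib.Lead.FrobConj
import Cfsg.Agent.Lib.Helper18.FrobComp
import Cfsg.Agent.Lib.Helper19.ZPresB
import Cfsg.Agent.Lib.Helper19.FrobSolvA

set_option autoImplicit false
open Cfsg

namespace Cfsg.Agent.S3358

/-- Structure of solvable Frobenius complements. Let G be a finite solvable group that occurs as a Frobenius complement. Then G has a normal subgroup G₀ such that G/G₀ is isomorphic to a subgroup of Sym(4) (G₀ is the kernel of a homomorphism to Sym(4)), all Sylow subgroups of G₀ are cyclic, and G₀ has a presentation ⟨x, y | x^n = 1, y^m = 1, x⁻¹ y x = y^r⟩ with n, m ≥ 1, gcd(r − 1, m) = gcd(n, m) = 1 and r^(n/n′) ≡ 1 (mod m), where n′ is the product of the distinct primes dividing n. -/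
theorem result {G : Type*} [Group G] [Finite G] (hsol : Group.IsSolvable G)
    (hFC : ∃ (L : Type) (_ : Group L) (_ : Finite L) (H : Subgroup L), Cfsg.IsFrobeniusComplement H ∧ Nonempty (G ≃* H)) :
    ∃ G₀ : Subgroup G, G₀.Normal ∧
      (∃ f : G →* Equiv.Perm (Fin 4), f.ker = G₀) ∧
      (∀ (p : ℕ) [Fact p.Prime] (P : Sylow p G₀), IsCyclic P) ∧
      ∃ n m r : ℕ, 0 < n ∧ 0 < m ∧ Nat.Coprime (r - 1) m ∧ Nat.Coprime n m ∧ 1 ≤ r ∧
        r ^ (n / ∏ p ∈ n.primeFactors, p) % m = 1 % m ∧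
        Nonempty (G₀ ≃* PresentedGroup
          ({FreeGroup.of (0 : Fin 2) ^ n, FreeGroup.of (1 : Fin 2) ^ m,
            (FreeGroup.of (0 : Fin 2))⁻¹ * FreeGroup.of 1 * FreeGroup.of 0 * (FreeGroup.of (1 : Fin 2) ^ r)⁻¹} :
            Set (FreeGroup (Fin 2)))) := by
  obtain ⟨L, iL, fL, H, hH, ⟨e⟩⟩ := hFC
  obtain ⟨K, hK, hKn, hc, hKne, hfpf⟩ := Cfsg.Agent.CharLib.frob_setup H hH
  haveI := hKn
  haveI hsolH : Group.IsSolvable H := solvable_of_surjective (f := e.toMonoidHom) e.surjective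
  -- odd Sylow subgroups are cyclic
  have hodd : ∀ (p : ℕ) [Fact p.Prime], p ≠ 2 → ∀ P : Sylow p H, IsCyclic P := by
    intro p _ hp2 P
    exact Cfsg.Agent.Lib.Helper18.isCyclic_sylow_of_fpf K H hKne hfpf p hp2 P
  -- at most one involution
  have huniq : ∀ s t : H, orderOf s = 2 → orderOf t = 2 → s = t := by
    intro s t hs ht
    have heven : 2 ∣ Nat.card H := by rw [← hs]; exact orderOf_dvd_natCard s
    obtain ⟨⟨s0, _, _, hs0u, _⟩, _⟩ := Cfsg.Agent.S0068.result K H hc hKne hfpf heven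
    apply Subtype.ext
    rw [hs0u s s.2 (by rw [Subgroup.orderOf_coe]; exact hs),
      hs0u t t.2 (by rw [Subgroup.orderOf_coe]; exact ht)]
  -- subgroups of order pq are cyclic
  have hpq : ∀ (p q : ℕ), p.Prime → q.Prime → p ≠ q → ∀ a b : H, orderOf a = q → orderOf b = p →
      b * a * b⁻¹ ∈ Subgroup.zpowers a → b * a * b⁻¹ = a := by
    intro p q hp hq hne a b ha hb hn
    apply Subtype.ext
    have := Cfsg.Agent.Lib.Helper18.conj_eq_of_fpf_pq K H hKne hfpf hsolH p q hp hq hne (a : L) (b : L)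
      a.2 b.2 (by rw [Subgroup.orderOf_coe]; exact ha) (by rw [Subgroup.orderOf_coe]; exact hb)
      (by
        obtain ⟨k, hk⟩ := Subgroup.mem_zpowers_iff.mp hn
        refine Subgroup.mem_zpowers_iff.mpr ⟨k, ?_⟩
        have := congrArg Subtype.val hk
        simpa using this)
    simpa using this
  obtain ⟨f', hZ⟩ := Cfsg.Agent.Lib.Helper19.FrobSolv.main hodd huniq
  have hpq' : ∀ (p q : ℕ), p.Prime → q.Prime → p ≠ q → ∀ a b : f'.ker, orderOf a = q → orderOf b = p →
      b * a * b⁻¹ ∈ Subgroup.zpowers a → b * a * b⁻¹ = a := by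
    intro p q hp hq hne a b ha hb hn
    apply Subtype.ext
    have := hpq p q hp hq hne (a : H) (b : H) (by rw [Subgroup.orderOf_coe]; exact ha)
      (by rw [Subgroup.orderOf_coe]; exact hb)
      (by
        obtain ⟨k, hk⟩ := Subgroup.mem_zpowers_iff.mp hn
        refine Subgroup.mem_zpowers_iff.mpr ⟨k, ?_⟩
        have := congrArg Subtype.val hk
        simpa using this)
    simpa using this
  haveI := hZ
  obtain ⟨n, m, r, hn0, hm0, hrm, hcop, hr1, hpow, ⟨ψ⟩⟩ :=
    Cfsg.Agent.Lib.Helper19.ZPres.zgroup_presentation f'.ker hpq'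
  -- transfer to G
  let f : G →* Equiv.Perm (Fin 4) := f'.comp e.toMonoidHom
  let φ : f.ker →* f'.ker := (e.toMonoidHom.comp f.ker.subtype).codRestrict f'.ker (fun u => by
    have := u.2
    rw [MonoidHom.mem_ker] at this
    rw [MonoidHom.mem_ker]
    exact this)
  have hφinj : Function.Injective φ := by
    intro u v huv
    have h1 := congrArg Subtype.val huv
    have h2 : e (u : G) = e (v : G) := h1
    exact Subtype.ext (e.injective h2)
  have hφsurj : Function.Surjective φ := by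
    intro v
    have hv : e.symm (v : H) ∈ f.ker := by
      rw [MonoidHom.mem_ker]
      show f' (e (e.symm (v : H))) = 1
      rw [MulEquiv.apply_symm_apply]
      exact MonoidHom.mem_ker.mp v.2
    refine ⟨⟨e.symm (v : H), hv⟩, ?_⟩
    apply Subtype.ext
    show e (e.symm (v : H)) = (v : H)
    exact MulEquiv.apply_symm_apply e _
  haveI : IsZGroup f.ker := IsZGroup.of_injective (f := φ) hφinj
  refine ⟨f.ker, inferInstance, ⟨f, rfl⟩, ?_, n, m, r, hn0, hm0, hrm, hcop, hr1, hpow, ?_⟩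
  · intro p _ P
    infer_instance
  · exact ⟨(MulEquiv.ofBijective φ ⟨hφinj, hφsurj⟩).trans ψ⟩

end Cfsg.Agent.S3358
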