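import Cfsg.Statements.S3360
-- import your own Cfsg.Agent.* helpers here
import Cfsg.Agent.Lib.Helper17.TransLinMain

set_option autoImplicit false
set_option linter.style.haveILetI false
open Cfsg

namespace Cfsg.Agent.S3360

/-- Let q be a prime and V a non-trivial finite vector space over the field with q elements, and let G be a finite solvable group acting faithfully and linearly on V and transitively on the non-zero vectors. Then either V can be identified with the additive group of a finite field F in such a way that every element of G acts as x ↦ a·σ(x) for some a ∈ F and some field automorphism σ, or the number of elements of V is one of 3^2, 5^2, 7^2, 11^2, 23^2, 3^4. -/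
theorem result
    (q : ℕ) [Fact q.Prime] {V : Type*} [AddCommGroup V] [Module (ZMod q) V] [Finite V] [Nontrivial V]
    {G : Type*} [Group G] [Finite G] (hsol : Group.IsSolvable G)
    (ρ : G →* (V ≃ₗ[ZMod q] V)) (hρ : Function.Injective ρ)
    (htrans : ∀ v w : V, v ≠ 0 → w ≠ 0 → ∃ g : G, ρ g v = w) :
    (∃ (F : Type) (_ : Field F) (_ : Fintype F) (e : V ≃+ F),
        ∀ g : G, ∃ (a : F) (σ : F ≃+* F), ∀ v : V, e (ρ g v) = a * σ (e v)) ∨
    Nat.card V ∈ ({9, 25, 49, 121, 529, 81} : Set ℕ) := by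
  classical
  haveI : Finite (V ≃ₗ[ZMod q] V) := Finite.of_injective (fun f => (f : V → V)) DFunLike.coe_injective
  obtain ⟨H, hH⟩ : ∃ H : Subgroup (V ≃ₗ[ZMod q] V), H = ρ.range := ⟨_, rfl⟩
  obtain ⟨ρ', hρ'⟩ : ∃ ρ' : G ≃* H, ∀ g, ((ρ' g : H) : V ≃ₗ[ZMod q] V) = ρ g := by
    subst hH
    exact ⟨MonoidHom.ofInjective hρ, fun g => rfl⟩
  have htrH : ∀ v w : V, v ≠ 0 → w ≠ 0 → ∃ h : H, h • v = w := by
    intro v w hv hw
    obtain ⟨g, hg⟩ := htrans v w hv hw
    refine ⟨ρ' g, ?_⟩
    show ((ρ' g : H) : V ≃ₗ[ZMod q] V) v = w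
    rw [hρ', hg]
  haveI hsolH : Group.IsSolvable H :=
    Group.isSolvable_of_surjective (f := ρ'.toMonoidHom) ρ'.surjective
  rcases Cfsg.Agent.Lib.Helper17.TransLin.huppert htrH with ⟨F, iF, iFt, e, hsemi⟩ | hS
  · left
    refine ⟨F, iF, iFt, e, ?_⟩
    intro g
    obtain ⟨a, σ, h⟩ := hsemi (ρ' g)
    refine ⟨a, σ, fun v => ?_⟩
    rw [← h v, ← hρ']
    rfl
  · right
    unfold Cfsg.Agent.Lib.Helper17.HuppertArith.Sgood at hS
    simp only [Set.mem_insert_iff, Set.mem_singleton_iff]
    omega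

end Cfsg.Agent.S3360
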