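import Cfsg.Statements.S3361
-- import your own Cfsg.Agent.* helpers here
import Cfsg.Agent.S0688
import Cfsg.Agent.Lib.Helper17.RegLinSemi
import Cfsg.Agent.Lib.Helper17.SemiIndexTwo
import Cfsg.Agent.Lib.Helper17.SolvNoIndexTwo

set_option autoImplicit false
set_option linter.style.haveILetI false
open Cfsg
open Cfsg.Agent.Lib.Helper29.RegLin

namespace Cfsg.Agent.S3361

/-- Let q be a prime and V a non-trivial finite vector space over the field with q elements, and let G be a finite solvable group acting faithfully and linearly on V and regularly on the non-zero vectors (transitively, with only the identity fixing a non-zero vector). Then either V can be identified with the additive group of a finite field F so that every element of G acts as x ↦ a·σ(x) (a ∈ F, σ a field automorphism), or V has 5^2, 7^2, 11^2 or 23^2 elements. Moreover, if q ≠ 2 then G has a normal subgroup of index 2, except that when V has 25 elements G may be isomorphic to SL(2,3) and when V has 121 elements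 G may be isomorphic to SL(2,3) × C₅. -/
theorem result
    (q : ℕ) [Fact q.Prime] {V : Type*} [AddCommGroup V] [Module (ZMod q) V] [Finite V] [Nontrivial V]
    {G : Type*} [Group G] [Finite G] (hsol : Group.IsSolvable G)
    (ρ : G →* (V ≃ₗ[ZMod q] V)) (hρ : Function.Injective ρ)
    (htrans : ∀ v w : V, v ≠ 0 → w ≠ 0 → ∃ g : G, ρ g v = w)
    (hreg : ∀ v : V, v ≠ 0 → ∀ g : G, ρ g v = v → g = 1) :
    ((∃ (F : Type) (_ : Field F) (_ : Fintype F) (e : V ≃+ F),
        ∀ g : G, ∃ (a : F) (σ : F ≃+* F), ∀ v : V, e (ρ g v) = a * σ (e v)) ∨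
      Nat.card V ∈ ({25, 49, 121, 529} : Set ℕ)) ∧
    (q ≠ 2 → (∃ N : Subgroup G, N.Normal ∧ N.index = 2) ∨
      (Nat.card V = 25 ∧ Nonempty (G ≃* Matrix.SpecialLinearGroup (Fin 2) (ZMod 3))) ∨
      (Nat.card V = 121 ∧ Nonempty (G ≃* Matrix.SpecialLinearGroup (Fin 2) (ZMod 3) × Multiplicative (ZMod 5)))) := by
  classical
  haveI : Finite (V ≃ₗ[ZMod q] V) := Finite.of_injective (fun f => (f : V → V)) DFunLike.coe_injective
  obtain ⟨H, hH⟩ : ∃ H : Subgroup (V ≃ₗ[ZMod q] V), H = ρ.range := ⟨_, rfl⟩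
  have hρH : ∀ g : G, ρ g ∈ H := fun g => hH ▸ ⟨g, rfl⟩
  obtain ⟨ρ', hρ'⟩ : ∃ ρ' : G ≃* H, ∀ g, ((ρ' g : H) : V ≃ₗ[ZMod q] V) = ρ g := by
    subst hH
    exact ⟨MonoidHom.ofInjective hρ, fun g => rfl⟩
  -- regularity of `H`
  have hregH : ∀ v w : V, v ≠ 0 → w ≠ 0 → ∃! h : H, h • v = w := by
    intro v w hv hw
    obtain ⟨g, hg⟩ := htrans v w hv hw
    refine ⟨ρ' g, ?_, ?_⟩
    · show ((ρ' g : H) : V ≃ₗ[ZMod q] V) v = w
      rw [hρ', hg]
    · intro h hh
      obtain ⟨g', rfl⟩ := ρ'.surjective h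
      have h1 : ρ g' v = w := by rw [← hρ']; exact hh
      have h2 : ρ (g⁻¹ * g') v = v := by
        rw [map_mul, LinearEquiv.mul_apply, h1, ← hg, ← LinearEquiv.mul_apply, ← map_mul,
          inv_mul_cancel, map_one]
        rfl
      have h3 := hreg v hv _ h2
      have h4 : g' = g := by
        have := congrArg (fun x => g * x) h3
        simpa using this
      rw [h4]
  have hregH' : ∀ v w : V, v ≠ 0 → w ≠ 0 → ∃! h : H, (h : V ≃ₗ[ZMod q] V) v = w := hregH
  haveI hsolH : Group.IsSolvable H := Group.isSolvable_of_surjective (f := ρ'.toMonoidHom) ρ'.surjective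
  obtain ⟨v₀, hv₀⟩ := exists_ne (0 : V)
  have hcardH : Nat.card G + 1 = Nat.card V := by
    rw [Nat.card_congr ρ'.toEquiv]
    exact card_H_add_one hregH hv₀
  by_cases hI : ∀ A : Subgroup H, A.Normal → IsCyclic A → ∃ W : Submodule (ZMod q) V,
      W ≠ ⊥ ∧ W ≠ ⊤ ∧ ∀ a ∈ A, ∀ v ∈ W, ((a : H) : V ≃ₗ[ZMod q] V) v ∈ W
  · -- exceptional degrees
    have hB := Cfsg.Agent.S0688.result H hregH' hI hsolH
    refine ⟨Or.inr ?_, ?_⟩
    · rcases hB with h | h | h | h <;> simp [h]
    · intro _
      by_cases hidx : ∃ N : Subgroup G, N.Normal ∧ N.index = 2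
      · exact Or.inl hidx
      · right
        have huniq : ∀ s t : G, orderOf s = 2 → orderOf t = 2 → s = t := by
          intro s t hs ht
          apply ρ'.injective
          apply Cfsg.Agent.Lib.Helper17.RegLinSylow.involution_unique hregH hv₀
          · rw [MulEquiv.orderOf_eq, hs]
          · rw [MulEquiv.orderOf_eq, ht]
        have hcardG : Nat.card G = 24 ∨ Nat.card G = 48 ∨ Nat.card G = 120 ∨ Nat.card G = 528 := by
          rcases hB with h | h | h | h <;> omega
        rcases Cfsg.Agent.Lib.Helper17.SolvNoIndexTwo.classify huniq hcardG hidx with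
          ⟨h24, hiso⟩ | ⟨h120, hiso⟩
        · exact Or.inl ⟨by omega, hiso⟩
        · exact Or.inr ⟨by omega, hiso⟩
  · -- an irreducible cyclic normal subgroup
    push Not at hI
    obtain ⟨A, hAn, hAcyc, hAirr⟩ := hI
    haveI := hAn
    have hAc : ∀ a b : A, a * b = b * a := by
      intro a b
      obtain ⟨g, hg⟩ := hAcyc.exists_generator
      obtain ⟨i, rfl⟩ := Subgroup.mem_zpowers_iff.mp (hg a)
      obtain ⟨j, rfl⟩ := Subgroup.mem_zpowers_iff.mp (hg b)
      rw [← zpow_add, ← zpow_add, add_comm]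
    have htop : Wv A v₀ = ⊤ := by
      by_contra hne
      have hbot : Wv A v₀ ≠ ⊥ := by
        intro h
        have := mem_Wv_self A v₀
        rw [h] at this
        exact hv₀ ((Submodule.mem_bot _).mp this)
      obtain ⟨a, ha, v, hv, hnot⟩ := hAirr (Wv A v₀) hbot hne
      exact hnot (Wv_invariant A v₀ ⟨a, ha⟩ hv)
    obtain ⟨F, iF, iFt, e, he1, hsemi⟩ :=
      Cfsg.Agent.Lib.Helper17.RegLinSemi.exists_semilinear hregH A hAc hv₀ htop
    have hsemiG : ∀ g : G, ∃ (a : F) (σ : F ≃+* F), ∀ v : V, e (ρ g v) = a * σ (e v) := by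
      intro g
      obtain ⟨a, σ, h⟩ := hsemi (ρ' g)
      refine ⟨a, σ, fun v => ?_⟩
      rw [← h v, ← hρ']
      rfl
    refine ⟨Or.inl ⟨F, iF, iFt, e, hsemiG⟩, ?_⟩
    intro hq2
    left
    have hqF : (q : F) = 0 := by
      have h1 : q • v₀ = 0 := by
        rw [← Nat.cast_smul_eq_nsmul (ZMod q), ZMod.natCast_self, zero_smul]
      have h2 := congrArg e h1
      rw [map_nsmul, he1, map_zero, nsmul_eq_mul, mul_one] at h2
      exact h2
    have hF : ringChar F ≠ 2 := by
      intro h2
      have h3 : ringChar F ∣ q := ringChar.dvd hqF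
      rw [h2] at h3
      have hqp : q.Prime := Fact.out
      exact hq2 ((Nat.prime_dvd_prime_iff_eq Nat.prime_two hqp).mp h3).symm
    exact Cfsg.Agent.Lib.Helper17.SemiIndexTwo.exists_index_two hF (fun g v => ρ g v)
      (fun v => by rw [map_one]; rfl) (fun g h v => by rw [map_mul]; rfl) e v₀ he1 hsemiG
      (fun w hw => htrans v₀ w hv₀ hw)

end Cfsg.Agent.S3361
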