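import Cfsg.Statements.S3366
import Cfsg.Agent.Lib.Helper26.X648K

set_option autoImplicit false
open Cfsg

namespace Cfsg.Agent.S3366

/-- Let X be a finite group with O₃(X) extraspecial of order 27 and exponent 3, X/O₃(X) isomorphic to SL(2,3), O₂(X) = 1, and a Sylow 3-subgroup of X containing an elementary abelian subgroup of order 27. Then X is isomorphic to the centralizer in PSp(4,3) of a 3-central element of order 3 (an element of order 3 in the centre of a Sylow 3-subgroup). -/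
theorem result {X : Type*} [Group X] [Finite X]
    (hR : Cfsg.IsExtraspecial 3 (Cfsg.pCore 3 X)) (hRcard : Nat.card (Cfsg.pCore 3 X) = 27)
    (hRexp : ∀ r ∈ Cfsg.pCore 3 X, r ^ 3 = 1)
    (e : X ⧸ Cfsg.pCore 3 X ≃* Matrix.SpecialLinearGroup (Fin 2) (ZMod 3))
    (hO2 : Cfsg.pCore 2 X = ⊥)
    (hE : ∃ E : Subgroup X, IsMulCommutative E ∧ (∀ a ∈ E, a ^ 3 = 1) ∧ Nat.card E = 27)
    (F : Type*) [Field F] [Fintype F] (hF : Fintype.card F = 3) :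
    ∃ (c : Cfsg.PSp 2 F) (S : Sylow 3 (Cfsg.PSp 2 F)), orderOf c = 3 ∧ c ∈ (S : Subgroup (Cfsg.PSp 2 F)) ∧
      c ∈ Subgroup.centralizer ((S : Subgroup (Cfsg.PSp 2 F)) : Set (Cfsg.PSp 2 F)) ∧
      Nonempty (X ≃* Subgroup.centralizer ({c} : Set (Cfsg.PSp 2 F))) := by
  classical
  have hRn : (Cfsg.pCore 3 X).Normal := Cfsg.Agent.Lib.Helper1.pCore_normal 3 X
  let π : X →* Matrix.SpecialLinearGroup (Fin 2) (ZMod 3) :=
    e.toMonoidHom.comp (QuotientGroup.mk' (Cfsg.pCore 3 X))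
  have hπ : Function.Surjective π :=
    e.surjective.comp (QuotientGroup.mk'_surjective (Cfsg.pCore 3 X))
  have hker : π.ker = Cfsg.pCore 3 X := by
    ext x
    rw [MonoidHom.mem_ker]
    show e (QuotientGroup.mk x) = 1 ↔ _
    rw [map_eq_one_iff e e.injective, QuotientGroup.eq_one_iff]
  have H := Cfsg.Agent.Lib.Helper26.X648.isHeis_of_extraspecial (Cfsg.pCore 3 X) hR hRcard hRexp
    π hπ hker
  obtain ⟨r₁, h₁, r₂, h₂, hne⟩ := Cfsg.Agent.Lib.Helper26.X648.exists_basis H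
  obtain ⟨z, hz2, hzπ⟩ := Cfsg.Agent.Lib.Helper26.X648.exists_invol H π hπ hker
  obtain ⟨i₁, hi₁R, i₂, hi₂R, hne', hi₁, hi₂⟩ :=
    Cfsg.Agent.Lib.Helper26.X648.exists_inverted_basis H π hπ hker hz2 hzπ hO2 h₁ h₂ hne
  obtain ⟨T, hT8, hzT⟩ :=
    Cfsg.Agent.Lib.Helper26.X648.exists_T H π hπ hker hz2 hzπ hO2 hi₁R hi₂R hne'
  obtain ⟨E, hEcomm, hE3, hEcard⟩ := hE
  have hEc : ∀ a ∈ E, ∀ b ∈ E, a * b = b * a := by
    intro a ha b hb
    have := hEcomm.is_comm.comm (⟨a, ha⟩ : E) ⟨b, hb⟩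
    exact congrArg Subtype.val this
  obtain ⟨d, hd3, hdz, hdR⟩ :=
    Cfsg.Agent.Lib.Helper26.X648.exists_d H π hπ hker hz2 hzπ hO2 hi₁R hi₂R hne' E hEc hE3 hEcard
  obtain ⟨σ, hσM, hσz⟩ :=
    Cfsg.Agent.Lib.Helper26.X648.exists_section H π hπ hker hz2 hzπ hO2 hi₁R hi₂R hne' hT8 hzT
      hd3 hdz hdR
  obtain ⟨iso⟩ :=
    Cfsg.Agent.Lib.Helper26.X648.exists_iso H π hπ hker hz2 hzπ hO2 hi₁R hi₂R hne' hi₁ hi₂
      hσM hσz hF
  have hC : Nat.card (Subgroup.centralizer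
      ({Cfsg.Agent.Lib.Helper26.X648.cBar F} : Set (Cfsg.PSp 2 F))) = 648 := by
    rw [← Nat.card_congr iso.toEquiv]
    exact Cfsg.Agent.Lib.Helper26.X648.card_X H π hπ hker
  have : Finite (Cfsg.PSp 2 F) :=
    Nat.finite_of_card_ne_zero (by rw [Cfsg.Agent.Lib.Helper26.X648.card_PSp hF]; norm_num)
  obtain ⟨S, hcS, hcC⟩ := Cfsg.Agent.Lib.Helper26.X648.exists_sylow
    (Cfsg.Agent.Lib.Helper26.X648.card_PSp hF) (Cfsg.Agent.Lib.Helper26.X648.cBar F)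
    (Cfsg.Agent.Lib.Helper26.X648.cBar_pow_three hF) hC
  exact ⟨Cfsg.Agent.Lib.Helper26.X648.cBar F, S, Cfsg.Agent.Lib.Helper26.X648.orderOf_cBar hF,
    hcS, hcC, ⟨iso⟩⟩

end Cfsg.Agent.S3366
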