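import Cfsg.Statements.S3375
-- import your own Cfsg.Agent.* helpers here
import Mathlib

set_option autoImplicit false
open Cfsg

namespace Cfsg.Agent.S3375

/-- If `γ` is an involutive automorphism, `A` a subgroup containing all `x * (γ x)⁻¹`, and
`|A| * |Fix γ| ≤ |H|`, then `γ` inverts `A`. -/
theorem inverted_of_card {H : Type*} [Group H] [Finite H] (γ : MulAut H)
    (hγ2 : ∀ h : H, γ (γ h) = h) (A : Subgroup H) (hA : ∀ x : H, x * (γ x)⁻¹ ∈ A)
    (hcard : Nat.card A * Nat.card {h : H // γ h = h} ≤ Nat.card H) :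
    ∀ a ∈ A, γ a = a⁻¹ := by
  classical
  let Fx : Subgroup H :=
    { carrier := {h | γ h = h}
      one_mem' := map_one γ
      mul_mem' := by
        intro a b ha hb
        show γ (a * b) = a * b
        rw [map_mul, ha, hb]
      inv_mem' := by
        intro a ha
        show γ a⁻¹ = a⁻¹
        rw [map_inv, ha] }
  have hFxmem : ∀ h : H, h ∈ Fx ↔ γ h = h := fun h => Iff.rfl
  have hFxcard : Nat.card Fx = Nat.card {h : H // γ h = h} := rfl
  let F : H ⧸ Fx → A := Quotient.lift (fun x : H => (⟨x * (γ x)⁻¹, hA x⟩ : A)) (by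
    intro x y hxy
    have h1 : x⁻¹ * y ∈ Fx := QuotientGroup.leftRel_apply.mp hxy
    have h2 : γ (x⁻¹ * y) = x⁻¹ * y := (hFxmem _).mp h1
    rw [map_mul, map_inv] at h2
    apply Subtype.ext
    show x * (γ x)⁻¹ = y * (γ y)⁻¹
    have : (γ x)⁻¹ = x⁻¹ * y * (γ y)⁻¹ := by rw [← h2]; group
    rw [this]; group)
  have hFinj : Function.Injective F := by
    intro q₁ q₂
    induction q₁ using QuotientGroup.induction_on with | _ x => ?_
    induction q₂ using QuotientGroup.induction_on with | _ y => ?_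
    intro hxy
    have h1 : x * (γ x)⁻¹ = y * (γ y)⁻¹ := congrArg Subtype.val hxy
    apply QuotientGroup.eq.mpr
    rw [hFxmem, map_mul, map_inv]
    have : (γ x)⁻¹ = x⁻¹ * (y * (γ y)⁻¹) := by rw [← h1]; group
    rw [this]; group
  have hidx : Fx.index * Nat.card Fx = Nat.card H := Subgroup.index_mul_card Fx
  have hFxpos : 0 < Nat.card Fx := Nat.card_pos
  have hle : Nat.card A ≤ Nat.card (H ⧸ Fx) := by
    have : Nat.card A * Nat.card Fx ≤ Fx.index * Nat.card Fx := by
      rw [hidx, hFxcard]; exact hcard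
    exact Nat.le_of_mul_le_mul_right this hFxpos
  have hFbij : Function.Bijective F := hFinj.bijective_of_nat_card_le hle
  intro a ha
  obtain ⟨q, hq⟩ := hFbij.2 ⟨a, ha⟩
  induction q using QuotientGroup.induction_on with | _ x => ?_
  have h1 : x * (γ x)⁻¹ = a := congrArg Subtype.val hq
  rw [← h1, map_mul, map_inv, hγ2]
  group

theorem comm_of_inverted {H : Type*} [Group H] (γ : MulAut H) (A : Subgroup H)
    (h : ∀ a ∈ A, γ a = a⁻¹) : ∀ a ∈ A, ∀ b ∈ A, a * b = b * a := by
  intro a ha b hb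
  have h1 : γ (a * b) = (a * b)⁻¹ := h _ (A.mul_mem ha hb)
  rw [map_mul, h a ha, h b hb] at h1
  have h2 : (a⁻¹ * b⁻¹)⁻¹ = ((a * b)⁻¹)⁻¹ := by rw [h1]
  simpa using h2.symm


/-- Let γ be an automorphism of order 2 of a finite group H. (i) If γ fixes only the identity, then H is abelian and γ inverts every element. (ii) If γ has exactly two fixed points and H has a subgroup of index 2, then H has a γ-invariant abelian subgroup of index 2 on which γ acts by inversion. -/
theorem result {H : Type*} [Group H] [Finite H] (γ : MulAut H) (hγ : orderOf γ = 2) :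
    ((∀ h : H, γ h = h → h = 1) → (∀ a b : H, a * b = b * a) ∧ ∀ h : H, γ h = h⁻¹) ∧
    ((Nat.card {h : H // γ h = h} = 2 ∧ ∃ M : Subgroup H, M.index = 2) →
      ∃ A : Subgroup H, A.index = 2 ∧ IsMulCommutative A ∧ (∀ a ∈ A, γ a ∈ A) ∧ ∀ a ∈ A, γ a = a⁻¹) := by
  have hγ2 : ∀ h : H, γ (γ h) = h := by
    intro h
    have : γ ^ 2 = 1 := by rw [← hγ]; exact pow_orderOf_eq_one γ
    have h2 : (γ ^ 2) h = h := by rw [this]; rfl
    simpa [pow_two] using h2
  refine ⟨?_, ?_⟩
  · intro hfpf
    have hcard1 : Nat.card {h : H // γ h = h} = 1 := by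
      rw [Nat.card_eq_one_iff_unique]
      refine ⟨⟨?_⟩, ⟨⟨1, map_one γ⟩⟩⟩
      intro a b
      apply Subtype.ext
      rw [hfpf a.1 a.2, hfpf b.1 b.2]
    have hinv := inverted_of_card γ hγ2 ⊤ (fun x => Subgroup.mem_top _) (by
      rw [hcard1, mul_one, Subgroup.card_top])
    refine ⟨fun a b => comm_of_inverted γ ⊤ hinv a (Subgroup.mem_top _) b (Subgroup.mem_top _),
      fun h => hinv h (Subgroup.mem_top _)⟩
  · rintro ⟨hcard2, M, hM⟩
    -- Step 1: a γ-invariant subgroup of index 2
    have step1 : ∃ A : Subgroup H, A.index = 2 ∧ ∀ x : H, γ x ∈ A ↔ x ∈ A := by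
      by_cases hinv : ∀ x : H, γ x ∈ M ↔ x ∈ M
      · exact ⟨M, hM, hinv⟩
      · rw [not_forall] at hinv
        obtain ⟨a, ha⟩ := hinv
        have hmul : ∀ x y : H, x * y ∈ M ↔ (x ∈ M ↔ y ∈ M) :=
          fun x y => Subgroup.mul_mem_iff_of_index_two hM
        let A : Subgroup H :=
          { carrier := {x | γ x ∈ M ↔ x ∈ M}
            one_mem' := by
              show γ 1 ∈ M ↔ (1 : H) ∈ M
              rw [map_one]
            mul_mem' := by
              intro x y hx hy
              show γ (x * y) ∈ M ↔ x * y ∈ M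
              have hx' : γ x ∈ M ↔ x ∈ M := hx
              have hy' : γ y ∈ M ↔ y ∈ M := hy
              rw [map_mul, hmul, hmul, hx', hy']
            inv_mem' := by
              intro x hx
              show γ x⁻¹ ∈ M ↔ x⁻¹ ∈ M
              have hx' : γ x ∈ M ↔ x ∈ M := hx
              rw [map_inv, inv_mem_iff, inv_mem_iff, hx'] }
        have hAmem : ∀ x : H, x ∈ A ↔ (γ x ∈ M ↔ x ∈ M) := fun x => Iff.rfl
        refine ⟨A, ?_, ?_⟩
        · rw [Subgroup.index_eq_two_iff]
          refine ⟨a, fun b => ?_⟩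
          rw [hAmem, hAmem, map_mul, hmul, hmul]
          by_cases h1 : γ a ∈ M <;> by_cases h2 : a ∈ M <;> by_cases h3 : γ b ∈ M <;>
            by_cases h4 : b ∈ M <;> simp_all [Xor]
        · intro x
          rw [hAmem, hAmem, hγ2]
          tauto
    obtain ⟨A, hA2, hAinv⟩ := step1
    have hAmul : ∀ x y : H, x * y ∈ A ↔ (x ∈ A ↔ y ∈ A) :=
      fun x y => Subgroup.mul_mem_iff_of_index_two hA2
    have hAf : ∀ x : H, x * (γ x)⁻¹ ∈ A := by
      intro x
      rw [hAmul, inv_mem_iff, hAinv]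
    have hcardA : Nat.card A * Nat.card {h : H // γ h = h} ≤ Nat.card H := by
      rw [hcard2, ← Subgroup.card_mul_index A, hA2]
    have hinv := inverted_of_card γ hγ2 A hAf hcardA
    refine ⟨A, hA2, ?_, fun a ha => (hAinv a).mpr ha, hinv⟩
    constructor
    constructor
    intro a b
    apply Subtype.ext
    exact comm_of_inverted γ A hinv a.1 a.2 b.1 b.2

end Cfsg.Agent.S3375
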