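import Cfsg.Statements.S3376
import Mathlib
import Cfsg.Agent.Lib.Helper20.MaschkeGroup
import Cfsg.Agent.Lib.Helper4.Basic
import Cfsg.Agent.Lib.Helper7.SimpleTools
import Cfsg.Agent.S0065

set_option autoImplicit false
open Cfsg

namespace Cfsg.Agent.S3376

open Equiv in
theorem cycleType_of_fpf (σ : Perm (Fin 9)) (h3 : σ ^ 3 = 1) (hf : ∀ i, σ i ≠ i) :
    σ.cycleType = {3, 3, 3} := by
  have hne : σ ≠ 1 := by
    intro h
    exact hf 0 (by rw [h]; rfl)
  have : Fact (Nat.Prime 3) := ⟨by norm_num⟩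
  have ho : orderOf σ = 3 := orderOf_eq_prime h3 hne
  obtain ⟨n, hn⟩ := Equiv.Perm.cycleType_prime_order (σ := σ) (by rw [ho]; norm_num)
  have hsum := Equiv.Perm.sum_cycleType σ
  have hsupp : σ.support = Finset.univ := by
    ext i
    simp [Equiv.Perm.mem_support, hf i]
  rw [hsupp, hn, ho] at hsum
  simp at hsum
  have hn2 : n = 2 := by omega
  rw [hn, ho, hn2]
  rfl

open Equiv in
theorem card_centralizer_of_cycleType (c : Perm (Fin 9)) (hc : c.cycleType = {3, 3, 3}) :
    Nat.card (Subgroup.centralizer ({c} : Set (Perm (Fin 9)))) = 162 := by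
  rw [Equiv.Perm.nat_card_centralizer, hc]
  simp
  decide

open Subgroup in
theorem main {G : Type*} [Group G] [Finite G] (hG : Nat.card G = 162)
    (S : Sylow 3 G) (T : Sylow 2 G) (J : Subgroup G) [hJn : J.Normal] (hJcomm : IsMulCommutative J)
    (hJexp : ∀ a ∈ J, a ^ 3 = 1) (hJcard : Nat.card J = 27)
    (Z : Subgroup G) (hZ : Z = (S : Subgroup G) ⊓ Subgroup.centralizer ((S : Subgroup G) : Set G)) (hZcard : Nat.card Z = 3)
    (hZT : Z ≤ Subgroup.centralizer ((T : Subgroup G) : Set G))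
    (hST : (S : Subgroup G) ⊓ Subgroup.centralizer ((T : Subgroup G) : Set G) ≠ S)
    (c : Equiv.Perm (Fin 9)) (hc3 : c ^ 3 = 1) (hcf : ∀ i, c i ≠ i) :
    Nonempty (G ≃* Subgroup.centralizer ({c} : Set (Equiv.Perm (Fin 9)))) := by
  classical
  have hp3 : Fact (Nat.Prime 3) := ⟨by norm_num⟩
  have hp2 : Fact (Nat.Prime 2) := ⟨by norm_num⟩
  have hScard : Nat.card (S : Subgroup G) = 81 ∧ (S : Subgroup G).index = 2 := by
    have := Cfsg.Agent.Lib.Helper7.sylow_card_index_of_pow (G := G) (p := 3) (k := 4) (m := 2)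
      (by rw [hG]; norm_num) (by norm_num) S
    simpa using this
  have hTcard : Nat.card (T : Subgroup G) = 2 :=
    (Cfsg.Agent.Lib.Helper7.sylow_card_index_of_exact (G := G) (p := 2) (m := 81)
      (by rw [hG]) (by norm_num) T).1
  haveI hSn : (S : Subgroup G).Normal := Subgroup.normal_of_index_eq_two hScard.2
  -- J ≤ S
  have hJ3 : IsPGroup 3 J := IsPGroup.of_card (n := 3) (by rw [hJcard]; norm_num)
  have hJS : J ≤ S := by
    obtain ⟨Q, hQ⟩ := hJ3.exists_le_sylow
    obtain ⟨g, hg⟩ := MulAction.exists_smul_eq G S Q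
    rw [Sylow.smul_eq_of_normal] at hg
    rw [hg]; exact hQ
  have hZS : Z ≤ S := hZ ▸ inf_le_left
  have hZC : Z ≤ centralizer ((S : Subgroup G) : Set G) := hZ ▸ inf_le_right
  have hJJ : J ≤ centralizer (J : Set G) := by
    intro x hx
    rw [mem_centralizer_iff]
    intro y hy
    have := hJcomm.is_comm.comm (⟨y, hy⟩ : ↥J) ⟨x, hx⟩
    exact congrArg Subtype.val this
  -- Z ≤ J
  have hZJ : Z ≤ J := by
    by_contra hnot
    obtain ⟨z, hzZ, hzJ⟩ := SetLike.not_le_iff_exists.mp hnot
    have hK1 : J ≤ J ⊔ zpowers z := le_sup_left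
    have hK2 : J ⊔ zpowers z ≤ S := sup_le hJS ((zpowers_le).mpr (hZS hzZ))
    have hKne : J ⊔ zpowers z ≠ J := fun h =>
      hzJ (h ▸ (le_sup_right : zpowers z ≤ J ⊔ zpowers z) (mem_zpowers z))
    have hd1 := Subgroup.card_dvd_of_le hK1
    have hd2 := Subgroup.card_dvd_of_le hK2
    rw [hJcard] at hd1
    rw [hScard.1] at hd2
    have hne27 : Nat.card ↥(J ⊔ zpowers z) ≠ 27 := by
      intro h
      apply hKne
      exact (Subgroup.eq_of_le_of_card_ge hK1 (by rw [h, hJcard])).symm
    have hK81 : Nat.card ↥(J ⊔ zpowers z) = 81 := by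
      obtain ⟨a, ha⟩ := hd1
      obtain ⟨b, hb⟩ := hd2
      rw [ha] at hb hne27 ⊢
      have hab : a * b = 3 := by nlinarith
      have ha3 : a ∣ 3 := ⟨b, hab.symm⟩
      have : a = 1 ∨ a = 3 := (Nat.dvd_prime (by norm_num)).mp ha3
      rcases this with rfl | rfl
      · exact absurd rfl hne27
      · rfl
    have hKS : J ⊔ zpowers z = S := Subgroup.eq_of_le_of_card_ge hK2 (by rw [hK81, hScard.1])
    have hSCJ : (S : Subgroup G) ≤ centralizer (J : Set G) := by
      rw [← hKS]
      refine sup_le hJJ ((zpowers_le).mpr ?_)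
      exact Subgroup.centralizer_le (fun x hx => hJS hx) (hZC hzZ)
    have hJCS : J ≤ centralizer ((S : Subgroup G) : Set G) := Subgroup.le_centralizer_iff.mp hSCJ
    have hSCS : (S : Subgroup G) ≤ centralizer ((S : Subgroup G) : Set G) := by
      conv_lhs => rw [← hKS]
      exact sup_le hJCS ((zpowers_le).mpr (hZC hzZ))
    have hZeq : Z = S := by rw [hZ]; exact inf_eq_left.mpr hSCS
    rw [hZeq, hScard.1] at hZcard
    omega
  -- Maschke: a T-invariant complement of Z in J
  letI : CommGroup ↥J :=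
    { (inferInstance : Group ↥J) with mul_comm := fun a b => hJcomm.is_comm.comm a b }
  let φ : ↥(T : Subgroup G) → (↥J →* ↥J) := fun a =>
    (MulAut.conjNormal (a : G) : MulAut ↥J).toMonoidHom
  have hφ : ∀ (a : ↥(T : Subgroup G)) (x : ↥J), ((φ a x : ↥J) : G) = (a : G) * x * (a : G)⁻¹ :=
    fun a x => rfl
  have h1 : φ 1 = MonoidHom.id ↥J := by
    ext x
    rw [hφ]
    simp
  have hmul : ∀ a b, φ (a * b) = (φ a).comp (φ b) := by
    intro a b
    ext x
    rw [MonoidHom.comp_apply, hφ, hφ, hφ]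
    simp [mul_assoc]
  have hexp : ∀ x : ↥J, x ^ 3 = 1 := fun x => Subtype.ext (by simpa using hJexp x x.2)
  obtain ⟨W, hUW, hsup⟩ := Cfsg.Agent.Lib.Helper20.exists_compl_of_exponent_prime (p := 3)
    (by norm_num) hexp (Z.subgroupOf J)
  have hcop : (Nat.card ↥(T : Subgroup G)).Coprime (Nat.card ↥J) := by
    rw [hTcard, hJcard]; norm_num
  have hU : ∀ a, ∀ x ∈ Z.subgroupOf J, φ a x ∈ Z.subgroupOf J := by
    intro a x hx
    have hxZ : (x : G) ∈ Z := Subgroup.mem_subgroupOf.mp hx
    have hcomm := (mem_centralizer_iff.mp (hZT hxZ)) (a : G) a.2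
    have : φ a x = x := by
      apply Subtype.ext
      rw [hφ, hcomm]
      simp
    rw [this]; exact hx
  obtain ⟨W', hW'inv, hUW', hsup'⟩ := Cfsg.Agent.Lib.Helper20.exists_invariant_compl φ h1 hmul hcop
    (Z.subgroupOf J) W hU hUW hsup
  have hUcard : Nat.card ↥(Z.subgroupOf J) = 3 := by
    rw [Nat.card_congr (Subgroup.subgroupOfEquivOfLe hZJ).toEquiv, hZcard]
  have hW'card : Nat.card ↥W' = 9 := by
    have h := Cfsg.Agent.Lib.Helper4.card_sup_mul_card_inf (Z.subgroupOf J) W'
      (by rw [Subgroup.normalizer_eq_top]; exact le_top)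
    rw [hUW', hsup', Subgroup.card_top, Subgroup.card_bot, hUcard] at h
    have hJc : Nat.card ↥J = 27 := hJcard
    rw [hJc] at h
    omega
  -- the subgroup J0
  set J0 : Subgroup G := W'.map J.subtype with hJ0
  have hJ0card : Nat.card ↥J0 = 9 := by
    rw [hJ0, Subgroup.card_map_of_injective J.subtype_injective, hW'card]
  have hJ0J : J0 ≤ J := Subgroup.map_subtype_le W'
  have hZJ0 : Z ⊓ J0 = ⊥ := by
    rw [eq_bot_iff]
    rintro x ⟨hxZ, hxJ0⟩
    obtain ⟨y, hy, rfl⟩ := hxJ0
    have hyU : y ∈ Z.subgroupOf J := Subgroup.mem_subgroupOf.mpr hxZ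
    have : y ∈ Z.subgroupOf J ⊓ W' := ⟨hyU, hy⟩
    rw [hUW', Subgroup.mem_bot] at this
    rw [this]; exact Subgroup.one_mem _
  have hTinv : ∀ a ∈ (T : Subgroup G), ∀ x ∈ J0, a * x * a⁻¹ ∈ J0 := by
    rintro a ha _ ⟨y, hy, rfl⟩
    exact ⟨φ ⟨a, ha⟩ y, hW'inv ⟨a, ha⟩ y hy, rfl⟩
  have hTN : (T : Subgroup G) ≤ normalizer (J0 : Set G) := by
    intro a ha
    rw [Subgroup.mem_normalizer_iff]
    intro x
    refine ⟨fun hx => hTinv a ha x hx, fun hx => ?_⟩
    have := hTinv a⁻¹ (Subgroup.inv_mem _ ha) _ hx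
    simpa [mul_assoc] using this
  set H : Subgroup G := (T : Subgroup G) ⊔ J0 with hH
  have hHcard : Nat.card ↥H = 18 := by
    have h := Cfsg.Agent.Lib.Helper4.card_sup_mul_card_inf (T : Subgroup G) J0 hTN
    have hdisj : (T : Subgroup G) ⊓ J0 = ⊥ :=
      (Subgroup.disjoint_of_coprime_natCard (by rw [hTcard, hJ0card]; norm_num)).eq_bot
    rw [hdisj, Subgroup.card_bot, hTcard, hJ0card, ← hH] at h
    omega
  -- Z meets H trivially
  have hZH : ∀ z ∈ Z, z ∈ H → z = 1 := by
    intro z hzZ hzH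
    by_contra hz1
    have hz3 : z ^ 3 = 1 := by
      have := pow_card_eq_one' (x := (⟨z, hzZ⟩ : ↥Z))
      rw [hZcard] at this
      exact congrArg Subtype.val this
    have ho : orderOf z = 3 := orderOf_eq_prime hz3 hz1
    have hzN : zpowers z ≤ normalizer (J0 : Set G) := by
      rw [zpowers_le, Subgroup.mem_normalizer_iff]
      intro x
      have key : ∀ y ∈ J0, z * y * z⁻¹ = y := by
        intro y hy
        have := mem_centralizer_iff.mp (hJJ (hZJ hzZ)) y (hJ0J hy)
        rw [← this]; group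
      have key' : ∀ y ∈ J0, z⁻¹ * y * z = y := by
        intro y hy
        have := key y hy
        calc z⁻¹ * y * z = z⁻¹ * (z * y * z⁻¹) * z := by rw [this]
          _ = y := by group
      refine ⟨fun hx => by rw [key x hx]; exact hx, fun hx => ?_⟩
      have e : z⁻¹ * (z * x * z⁻¹) * z = x := by group
      rw [key' _ hx] at e
      rw [← e]; exact hx
    have h := Cfsg.Agent.Lib.Helper4.card_sup_mul_card_inf (zpowers z) J0 hzN
    have hdisj : zpowers z ⊓ J0 = ⊥ := by
      rw [eq_bot_iff, ← hZJ0]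
      exact inf_le_inf_right _ ((zpowers_le).mpr hzZ)
    rw [hdisj, Subgroup.card_bot, Nat.card_zpowers, ho, hJ0card] at h
    have hle : zpowers z ⊔ J0 ≤ H := sup_le ((zpowers_le).mpr hzH) le_sup_right
    have hd := Subgroup.card_dvd_of_le hle
    rw [hHcard] at hd
    have : Nat.card ↥(zpowers z ⊔ J0) = 27 := by omega
    rw [this] at hd
    omega
  -- Z is central in G
  have hZcent : ∀ z ∈ Z, ∀ g : G, g * z = z * g := by
    have hSC : (S : Subgroup G) ≤ centralizer (Z : Set G) := Subgroup.le_centralizer_iff.mp hZC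
    have hTC : (T : Subgroup G) ≤ centralizer (Z : Set G) := Subgroup.le_centralizer_iff.mp hZT
    have hd1 := Subgroup.card_dvd_of_le hSC
    have hd2 := Subgroup.card_dvd_of_le hTC
    rw [hScard.1] at hd1
    rw [hTcard] at hd2
    have hd : 81 * 2 ∣ Nat.card ↥(centralizer (Z : Set G)) :=
      Nat.Coprime.mul_dvd_of_dvd_of_dvd (by norm_num) hd1 hd2
    have htop : centralizer (Z : Set G) = ⊤ := by
      rw [← Subgroup.card_eq_iff_eq_top, hG]
      have h3 := Subgroup.card_subgroup_dvd_card (centralizer (Z : Set G))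
      rw [hG] at h3
      exact Nat.dvd_antisymm h3 hd
    intro z hz g
    have hg : g ∈ centralizer (Z : Set G) := htop ▸ Subgroup.mem_top g
    exact ((mem_centralizer_iff.mp hg) z hz).symm
  -- the core of H is trivial
  have hcore : H.normalCore = ⊥ := by
    by_contra hN
    by_cases hNS : H.normalCore ⊓ S = ⊥
    · -- the core has order 2 and equals T
      have h := Cfsg.Agent.Lib.Helper4.card_sup_mul_card_inf H.normalCore (S : Subgroup G)
        (by rw [Subgroup.normalizer_eq_top]; exact le_top)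
      rw [hNS, Subgroup.card_bot, hScard.1, mul_one] at h
      have hdvd := Subgroup.card_subgroup_dvd_card (H.normalCore ⊔ (S : Subgroup G))
      rw [h, hG] at hdvd
      have hN2 : Nat.card ↥H.normalCore ∣ 2 := by
        have : Nat.card ↥H.normalCore * 81 ∣ 2 * 81 := hdvd
        exact Nat.dvd_of_mul_dvd_mul_right (by norm_num) this
      have hN1 : Nat.card ↥H.normalCore ≠ 1 := fun h1 => hN (Subgroup.card_eq_one.mp h1)
      have hN2' : Nat.card ↥H.normalCore = 2 := by
        rcases (Nat.dvd_prime (by norm_num)).mp hN2 with h1 | h2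
        · exact absurd h1 hN1
        · exact h2
      have hNp : IsPGroup 2 ↥H.normalCore := IsPGroup.of_card (n := 1) (by rw [hN2']; norm_num)
      obtain ⟨Q, hQ⟩ := hNp.exists_le_sylow
      have hQcard : Nat.card ↥(Q : Subgroup G) = 2 :=
        (Cfsg.Agent.Lib.Helper7.sylow_card_index_of_exact (G := G) (p := 2) (m := 81)
          (by rw [hG]) (by norm_num) Q).1
      have hNQ : H.normalCore = Q := Subgroup.eq_of_le_of_card_ge hQ (by rw [hQcard, hN2'])
      obtain ⟨g, hg⟩ := MulAction.exists_smul_eq G Q T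
      have hTN' : (T : Subgroup G) = H.normalCore := by
        rw [← hg, Sylow.coe_subgroup_smul, ← hNQ]
        exact Subgroup.Normal.conj_smul_eq_self g H.normalCore
      have hcomm : ∀ x ∈ H.normalCore, ∀ y ∈ (S : Subgroup G), Commute x y :=
        fun x hx y hy => Subgroup.commute_of_normal_of_disjoint _ _ inferInstance hSn
          (disjoint_iff.mpr hNS) x y hx hy
      apply hST
      rw [inf_eq_left]
      intro y hy
      rw [mem_centralizer_iff]
      intro x hx
      rw [SetLike.mem_coe, hTN'] at hx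
      exact (hcomm x hx y hy).eq
    · -- the core meets the centre of S
      haveI : (H.normalCore ⊓ (S : Subgroup G)).Normal := inferInstance
      have hnil : Group.IsNilpotent ↥(S : Subgroup G) := S.isPGroup'.isNilpotent
      have hne : (H.normalCore ⊓ (S : Subgroup G)).subgroupOf (S : Subgroup G) ≠ ⊥ := by
        intro h
        apply hNS
        rw [Subgroup.subgroupOf_eq_bot] at h
        have := h.eq_bot
        rwa [inf_assoc, inf_idem] at this
      have hmeet := Cfsg.Agent.S0065.result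
        ((H.normalCore ⊓ (S : Subgroup G)).subgroupOf (S : Subgroup G)) hne
      obtain ⟨⟨x, hx⟩, hx1⟩ := (Subgroup.ne_bot_iff_exists_ne_one).mp hmeet
      have hxN : (x : G) ∈ H.normalCore := (Subgroup.mem_subgroupOf.mp hx.1).1
      have hxc : (x : G) ∈ centralizer ((S : Subgroup G) : Set G) := by
        rw [mem_centralizer_iff]
        intro y hy
        have := (Subgroup.mem_center_iff.mp hx.2) ⟨y, hy⟩
        exact congrArg Subtype.val this
      have hxZ : (x : G) ∈ Z := by rw [hZ]; exact ⟨x.2, hxc⟩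
      have hx1' : (x : G) = 1 := hZH _ hxZ (H.normalCore_le hxN)
      apply hx1
      apply Subtype.ext
      apply Subtype.ext
      exact hx1'
  -- the action on the cosets of H
  have hΩ : Nat.card (G ⧸ H) = 9 := by
    have := H.card_mul_index
    rw [hHcard, hG] at this
    rw [← Subgroup.index_eq_card]
    omega
  let π : G →* Equiv.Perm (G ⧸ H) := MulAction.toPermHom G (G ⧸ H)
  have hπinj : Function.Injective π := by
    rw [← MonoidHom.ker_eq_bot_iff, ← Subgroup.normalCore_eq_ker, hcore]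
  obtain ⟨⟨z, hzZ⟩, hz1⟩ : ∃ a : ↥Z, a ≠ 1 := by
    rw [← Subgroup.ne_bot_iff_exists_ne_one]
    intro h
    rw [h, Subgroup.card_bot] at hZcard
    omega
  have hz1' : z ≠ 1 := fun h => hz1 (Subtype.ext h)
  have hz3 : z ^ 3 = 1 := by
    have := pow_card_eq_one' (x := (⟨z, hzZ⟩ : ↥Z))
    rw [hZcard] at this
    exact congrArg Subtype.val this
  have hzH : ∀ g : G, g⁻¹ * z * g ∉ H := by
    intro g hg
    have : g⁻¹ * z * g = z := by
      rw [mul_assoc, ← hZcent z hzZ g, ← mul_assoc, inv_mul_cancel, one_mul]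
    rw [this] at hg
    exact hz1' (hZH z hzZ hg)
  let e₀ : (G ⧸ H) ≃ Fin 9 := Finite.equivFinOfCardEq hΩ
  let Ψ : Equiv.Perm (G ⧸ H) ≃* Equiv.Perm (Fin 9) := e₀.permCongrHom
  have hp3' : (Ψ (π z)) ^ 3 = 1 := by
    rw [← map_pow, ← map_pow, hz3, map_one, map_one]
  have hpf : ∀ i, (Ψ (π z)) i ≠ i := by
    intro i hi
    have h1 : e₀ ((π z) (e₀.symm i)) = i := hi
    have h2 : (π z) (e₀.symm i) = e₀.symm i := by
      have := congrArg e₀.symm h1
      rwa [Equiv.symm_apply_apply] at this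
    obtain ⟨g, hg⟩ := QuotientGroup.mk_surjective (e₀.symm i)
    rw [← hg] at h2
    have h3 : ((z * g : G) : G ⧸ H) = (g : G ⧸ H) := h2
    rw [QuotientGroup.eq] at h3
    apply hzH g
    have : g⁻¹ * z * g = ((z * g)⁻¹ * g)⁻¹ := by group
    rw [this]
    exact H.inv_mem h3
  have hct1 := cycleType_of_fpf (Ψ (π z)) hp3' hpf
  have hct2 := cycleType_of_fpf c hc3 hcf
  have hconj : IsConj (Ψ (π z)) c := by
    rw [Equiv.Perm.isConj_iff_cycleType_eq, hct1, hct2]
  obtain ⟨τ, hτ⟩ := isConj_iff.mp hconj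
  let Φ : G →* Equiv.Perm (Fin 9) :=
    (MulAut.conj τ).toMonoidHom.comp (Ψ.toMonoidHom.comp π)
  have hΦ : ∀ g, Φ g = τ * Ψ (π g) * τ⁻¹ := fun g => rfl
  have hΦinj : Function.Injective Φ := by
    intro a b hab
    rw [hΦ, hΦ] at hab
    have : Ψ (π a) = Ψ (π b) := by
      have := congrArg (fun u => τ⁻¹ * u * τ) hab
      simpa [mul_assoc] using this
    exact hπinj (Ψ.injective this)
  have hΦz : Φ z = c := by rw [hΦ, hτ]
  have hrange : Φ.range ≤ centralizer ({c} : Set (Equiv.Perm (Fin 9))) := by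
    rintro _ ⟨g, rfl⟩
    rw [mem_centralizer_iff]
    intro h hh
    rw [Set.mem_singleton_iff] at hh
    rw [hh, ← hΦz, ← map_mul, ← map_mul, hZcent z hzZ g]
  have hrcard : Nat.card ↥Φ.range = 162 := by
    rw [← hG]
    exact Nat.card_congr (MonoidHom.ofInjective hΦinj).toEquiv.symm
  have hreq : Φ.range = centralizer ({c} : Set (Equiv.Perm (Fin 9))) :=
    Subgroup.eq_of_le_of_card_ge hrange
      (by rw [hrcard, card_centralizer_of_cycleType c hct2])
  exact ⟨(MonoidHom.ofInjective hΦinj).trans (MulEquiv.subgroupCongr hreq)⟩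


/-- Let G be a group of order 162 = 3⁴·2 with Sylow 3-subgroup S and Sylow 2-subgroup T, having an elementary abelian normal subgroup J of order 27, such that Z = Z(S) has order 3, Z centralizes T, and C_S(T) ≠ S. Then G is isomorphic to the centralizer in Sym(9) of a product of three disjoint 3-cycles. -/
theorem result {G : Type*} [Group G] [Finite G] (hG : Nat.card G = 162)
    (S : Sylow 3 G) (T : Sylow 2 G) (J : Subgroup G) [hJn : J.Normal] (hJcomm : IsMulCommutative J)
    (hJexp : ∀ a ∈ J, a ^ 3 = 1) (hJcard : Nat.card J = 27)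
    (Z : Subgroup G) (hZ : Z = (S : Subgroup G) ⊓ Subgroup.centralizer ((S : Subgroup G) : Set G)) (hZcard : Nat.card Z = 3)
    (hZT : Z ≤ Subgroup.centralizer ((T : Subgroup G) : Set G))
    (hST : (S : Subgroup G) ⊓ Subgroup.centralizer ((T : Subgroup G) : Set G) ≠ S) :
    Nonempty (G ≃* Subgroup.centralizer ({Equiv.swap (0 : Fin 9) 1 * Equiv.swap 1 2 * Equiv.swap 3 4 * Equiv.swap 4 5 * Equiv.swap 6 7 * Equiv.swap 7 8} : Set (Equiv.Perm (Fin 9)))) := by
  exact main hG S T J hJcomm hJexp hJcard Z hZ hZcard hZT hST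
    (Equiv.swap (0 : Fin 9) 1 * Equiv.swap 1 2 * Equiv.swap 3 4 * Equiv.swap 4 5 * Equiv.swap 6 7 * Equiv.swap 7 8)
    (by decide) (by decide)

end Cfsg.Agent.S3376
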