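import Cfsg.Statements.S3379
-- import your own Cfsg.Agent.* helpers here
import Mathlib

set_option autoImplicit false
open Cfsg

namespace Cfsg.Agent.S3379

/-- Let G be a finite group all of whose Sylow subgroups are cyclic. Then G is generated by two elements x and y of coprime orders n and m with x⁻¹yx = y^r, where gcd(r − 1, m) = 1 and r^n ≡ 1 (mod m). -/
theorem result {G : Type*} [Group G] [Finite G]
    (hZ : ∀ (p : ℕ) [Fact p.Prime] (P : Sylow p G), IsCyclic (P : Subgroup G)) :
    ∃ (x y : G) (n m r : ℕ), Subgroup.closure {x, y} = ⊤ ∧ orderOf x = n ∧ orderOf y = m ∧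
      x⁻¹ * y * x = y ^ r ∧ Nat.Coprime (r - 1) m ∧ Nat.Coprime n m ∧ 1 ≤ r ∧ r ^ n % m = 1 % m := by
  classical
  have hZG : IsZGroup G := ⟨fun p hp P => by
    have := Fact.mk hp
    exact hZ p P⟩
  set N : Subgroup G := commutator G with hNdef
  have hNnormal : N.Normal := by rw [hNdef]; infer_instance
  have hNcyc : IsCyclic N := IsZGroup.isCyclic_commutator G
  have hcop : (Nat.card N).Coprime N.index := IsZGroup.coprime_commutator_index G
  obtain ⟨H, hH⟩ := Subgroup.exists_right_complement'_of_coprime hcop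
  have h1 : G ⧸ N ≃* H := hH.symm.QuotientMulEquiv
  have hGNcyc : IsCyclic (G ⧸ N) := by
    have : IsCyclic (Abelianization G) := inferInstance
    exact this
  have hHcyc : IsCyclic H := isCyclic_of_surjective h1 h1.surjective
  obtain ⟨⟨y, hyN⟩, hy⟩ := IsCyclic.exists_generator (α := N)
  obtain ⟨⟨x, hxH⟩, hx⟩ := IsCyclic.exists_generator (α := H)
  have hym : orderOf y = Nat.card N := by
    rw [← orderOf_eq_card_of_forall_mem_zpowers hy, Subgroup.orderOf_mk]
  have hxn : orderOf x = Nat.card H := by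
    rw [← orderOf_eq_card_of_forall_mem_zpowers hx, Subgroup.orderOf_mk]
  have hNy : ∀ z ∈ N, z ∈ Subgroup.zpowers y := by
    intro z hz
    obtain ⟨k, hk⟩ := Subgroup.mem_zpowers_iff.mp (hy ⟨z, hz⟩)
    rw [Subgroup.mem_zpowers_iff]
    refine ⟨k, ?_⟩
    have := congrArg Subtype.val hk
    simpa using this
  have hHx : ∀ z ∈ H, z ∈ Subgroup.zpowers x := by
    intro z hz
    obtain ⟨k, hk⟩ := Subgroup.mem_zpowers_iff.mp (hx ⟨z, hz⟩)
    rw [Subgroup.mem_zpowers_iff]
    refine ⟨k, ?_⟩
    have := congrArg Subtype.val hk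
    simpa using this
  have hmpos : 0 < orderOf y := orderOf_pos y
  -- conjugate of y by x is a power of y
  have hconjN : x⁻¹ * y * x ∈ N := by
    have := hNnormal.conj_mem y hyN x⁻¹
    simpa using this
  obtain ⟨k, hk⟩ := Subgroup.mem_zpowers_iff.mp (hNy _ hconjN)
  set r₀ : ℕ := (k % (orderOf y : ℤ)).toNat with hr₀
  have hr₀k : y ^ r₀ = y ^ k := by
    have h0 : 0 ≤ k % (orderOf y : ℤ) := Int.emod_nonneg k (by exact_mod_cast hmpos.ne')
    have : ((r₀ : ℕ) : ℤ) = k % (orderOf y : ℤ) := Int.toNat_of_nonneg h0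
    rw [← zpow_natCast, this, zpow_mod_orderOf]
  set r : ℕ := r₀ + orderOf y with hr
  have hr1 : 1 ≤ r := by omega
  have hyr : x⁻¹ * y * x = y ^ r := by
    rw [hr, pow_add, pow_orderOf_eq_one, mul_one, hr₀k, hk]
  refine ⟨x, y, orderOf x, orderOf y, r, ?_, rfl, rfl, hyr, ?_, ?_, hr1, ?_⟩
  · -- generation
    rw [eq_top_iff, ← hH.sup_eq_top, sup_le_iff]
    constructor
    · intro z hz
      have := hNy z hz
      exact (Subgroup.zpowers_le.mpr (Subgroup.subset_closure (by simp))) this
    · intro z hz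
      have := hHx z hz
      exact (Subgroup.zpowers_le.mpr (Subgroup.subset_closure (by simp))) this
  · -- gcd(r - 1, m) = 1
    set K : Subgroup G := Subgroup.zpowers (y ^ (r - 1)) with hK
    have hKN : K ≤ N := by
      rw [hK, Subgroup.zpowers_le]
      exact N.pow_mem hyN _
    have hKnormal : K.Normal := by
      constructor
      intro z hz g
      obtain ⟨j, hj⟩ := Subgroup.mem_zpowers_iff.mp hz
      have hg : g * y * g⁻¹ ∈ N := hNnormal.conj_mem y hyN g
      obtain ⟨s, hs⟩ := Subgroup.mem_zpowers_iff.mp (hNy _ hg)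
      rw [Subgroup.mem_zpowers_iff]
      refine ⟨s * j, ?_⟩
      have e1 : g * z * g⁻¹ = (g * y * g⁻¹) ^ (((r - 1 : ℕ) : ℤ) * j) := by
        rw [← hj, ← zpow_natCast, ← zpow_mul]
        have := (MulAut.conj g).toMonoidHom.map_zpow y (((r - 1 : ℕ) : ℤ) * j)
        simpa [MulAut.conj_apply] using this
      calc (y ^ (r - 1)) ^ (s * j) = y ^ (((r - 1 : ℕ) : ℤ) * (s * j)) := by
            rw [← zpow_natCast y (r - 1), ← zpow_mul]
        _ = y ^ (s * (((r - 1 : ℕ) : ℤ) * j)) := by congr 1; ring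
        _ = (y ^ s) ^ (((r - 1 : ℕ) : ℤ) * j) := by rw [zpow_mul]
        _ = g * z * g⁻¹ := by rw [hs, e1]
    -- the quotient by K is commutative
    have hyK : ((y : G) : G ⧸ K) * (x : G ⧸ K) = (x : G ⧸ K) * (y : G ⧸ K) := by
      have e1 : ((x⁻¹ * y * x : G) : G ⧸ K) = ((y ^ r : G) : G ⧸ K) := by rw [hyr]
      have e2 : ((y ^ r : G) : G ⧸ K) = (y : G ⧸ K) := by
        have : y ^ r = y * y ^ (r - 1) := by
          rw [← pow_succ']; congr 1; omega
        rw [this, QuotientGroup.mk_mul]
        have : ((y ^ (r - 1) : G) : G ⧸ K) = 1 := by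
          rw [QuotientGroup.eq_one_iff]
          exact Subgroup.mem_zpowers _
        rw [this, mul_one]
      rw [e2] at e1
      have e3 : ((x⁻¹ * y * x : G) : G ⧸ K) = (x : G ⧸ K)⁻¹ * (y : G ⧸ K) * (x : G ⧸ K) := by
        simp
      rw [e3] at e1
      calc ((y : G) : G ⧸ K) * (x : G ⧸ K)
          = (x : G ⧸ K) * ((x : G ⧸ K)⁻¹ * (y : G ⧸ K) * (x : G ⧸ K)) := by group
        _ = (x : G ⧸ K) * (y : G ⧸ K) := by rw [e1]
    have hgen : Subgroup.closure ({x, y} : Set G) = ⊤ := by
      rw [eq_top_iff, ← hH.sup_eq_top, sup_le_iff]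
      constructor
      · intro z hz
        exact (Subgroup.zpowers_le.mpr (Subgroup.subset_closure (by simp))) (hNy z hz)
      · intro z hz
        exact (Subgroup.zpowers_le.mpr (Subgroup.subset_closure (by simp))) (hHx z hz)
    have hQcomm : ∀ a b : G ⧸ K, a * b = b * a := by
      have htop : Subgroup.closure ({(x : G ⧸ K), (y : G ⧸ K)} : Set (G ⧸ K)) = ⊤ := by
        have := congrArg (Subgroup.map (QuotientGroup.mk' K)) hgen
        rw [MonoidHom.map_closure, Subgroup.map_top_of_surjective _ (QuotientGroup.mk'_surjective K)]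
          at this
        rw [← this]
        congr 1
        ext q
        simp [Set.image_pair]
      have hcomm : IsMulCommutative (Subgroup.closure ({(x : G ⧸ K), (y : G ⧸ K)} : Set (G ⧸ K))) := by
        apply Subgroup.isMulCommutative_closure
        intro a ha b hb
        rcases ha with rfl | ha <;> rcases hb with rfl | hb
        · rfl
        · rw [Set.mem_singleton_iff.mp hb]; exact hyK.symm
        · rw [Set.mem_singleton_iff.mp ha]; exact hyK
        · rw [Set.mem_singleton_iff.mp ha, Set.mem_singleton_iff.mp hb]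
      intro a b
      have ha : a ∈ Subgroup.closure ({(x : G ⧸ K), (y : G ⧸ K)} : Set (G ⧸ K)) := by
        rw [htop]; trivial
      have hb : b ∈ Subgroup.closure ({(x : G ⧸ K), (y : G ⧸ K)} : Set (G ⧸ K)) := by
        rw [htop]; trivial
      exact setLike_mul_comm ha hb
    have hNK : N ≤ K := by
      rw [hNdef, commutator_def, Subgroup.commutator_le]
      intro g₁ _ g₂ _
      rw [commutatorElement_def, ← QuotientGroup.eq_one_iff]
      have : ((g₁ * g₂ * g₁⁻¹ * g₂⁻¹ : G) : G ⧸ K) =
          (g₁ : G ⧸ K) * (g₂ : G ⧸ K) * (g₁ : G ⧸ K)⁻¹ * (g₂ : G ⧸ K)⁻¹ := by simp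
      rw [this, hQcomm (g₁ : G ⧸ K) (g₂ : G ⧸ K)]
      group
    have hKeq : K = Subgroup.zpowers y := by
      apply le_antisymm
      · rw [hK, Subgroup.zpowers_le]
        exact Subgroup.pow_mem _ (Subgroup.mem_zpowers y) _
      · rw [Subgroup.zpowers_le]
        exact hNK hyN
    have hord : orderOf (y ^ (r - 1)) = orderOf y := by
      rw [← Nat.card_zpowers, ← Nat.card_zpowers y, ← hK, hKeq]
    rw [orderOf_pow] at hord
    have hd : Nat.gcd (orderOf y) (r - 1) = 1 := by
      rcases Nat.div_eq_self.mp hord with h0 | h1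
      · omega
      · exact h1
    rw [Nat.coprime_comm]
    exact hd
  · -- coprime orders
    rw [hxn, hym, ← hH.symm.index_eq_card]
    exact hcop.symm
  · -- r ^ n ≡ 1 mod m
    have hiter : ∀ j : ℕ, (x⁻¹) ^ j * y * x ^ j = y ^ (r ^ j) := by
      intro j
      induction j with
      | zero => simp
      | succ j ih =>
        have e : (x⁻¹) ^ (j + 1) * y * x ^ (j + 1) = x⁻¹ * ((x⁻¹) ^ j * y * x ^ j) * x := by
          rw [pow_succ', pow_succ]; group
        rw [e, ih]
        have e2 : x⁻¹ * y ^ (r ^ j) * x = (x⁻¹ * y * x) ^ (r ^ j) := by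
          have := conj_pow (a := x⁻¹) (b := y) (i := r ^ j)
          rw [inv_inv] at this
          exact this.symm
        rw [e2, hyr, ← pow_mul, ← pow_succ']
    have h2 := hiter (orderOf x)
    rw [inv_pow, pow_orderOf_eq_one, inv_one, one_mul, mul_one] at h2
    have h3 : y ^ 1 = y ^ (r ^ orderOf x) := by rw [pow_one]; exact h2
    rw [pow_eq_pow_iff_modEq] at h3
    exact h3.symm

end Cfsg.Agent.S3379
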