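import Cfsg.Statements.S3382
-- import your own Cfsg.Agent.* helpers here
import Mathlib
import Cfsg.Agent.Lib.Helper18.FermatMono

set_option autoImplicit false
open Cfsg Cfsg.Agent.Lib.Helper18 Subgroup

namespace Cfsg.Agent.S3382

/-- Let q = 2^m + 1 be a prime other than 5. Then the automorphism group of the group of linear maps of F_q² of the forms (x, y) ↦ (a x, ± a⁻¹ y) and (x, y) ↦ (± a⁻¹ y, a x) with a ≠ 0 is itself a 2-group. -/
theorem result (q m : ℕ) [Fact q.Prime] (hq : q = 2 ^ m + 1) (hq5 : q ≠ 5)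
    (T : Subgroup ((Fin 2 → ZMod q) ≃ₗ[ZMod q] (Fin 2 → ZMod q)))
    (hT : ∀ f, f ∈ T ↔ ∃ a s : ZMod q, a ≠ 0 ∧ (s = 1 ∨ s = -1) ∧
      ((∀ v, f v = ![a * v 0, s * a⁻¹ * v 1]) ∨ (∀ v, f v = ![s * a⁻¹ * v 1, a * v 0]))) :
    IsPGroup 2 (MulAut T) := by
  classical
  have hfin : Finite ((Fin 2 → ZMod q) ≃ₗ[ZMod q] (Fin 2 → ZMod q)) :=
    Finite.of_injective (fun f => (f : (Fin 2 → ZMod q) → (Fin 2 → ZMod q))) DFunLike.coe_injective
  have hT' : ∀ f, f ∈ T ↔ ∃ a s : (ZMod q)ˣ, (s = 1 ∨ s = -1) ∧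
      (f = dgLin a (s * a⁻¹) ∨ f = dgLin (s * a⁻¹) a * swLin) := fun f =>
    (hT f).trans (mono_bridge f)
  have hK : Nat.card (ZMod q)ˣ = 2 ^ m := by
    rw [Nat.card_eq_fintype_card, ZMod.card_units, hq, Nat.add_sub_cancel]
  by_cases hm0 : m = 0
  · -- `q = 2`, `T` has at most two elements
    have hall : ∀ φ : MulAut T, φ = 1 := by
      apply mulAut_eq_one_of_subsingleton_ne_one
      have hone : ∀ a : (ZMod q)ˣ, a = 1 := by
        intro a
        have h1 : Nat.card (ZMod q)ˣ = 1 := by rw [hK, hm0, pow_zero]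
        have : Subsingleton (ZMod q)ˣ := (Nat.card_eq_one_iff_unique.mp h1).1
        exact Subsingleton.elim _ _
      have hsw : ∀ x : T, x ≠ 1 → (x : (Fin 2 → ZMod q) ≃ₗ[ZMod q] (Fin 2 → ZMod q)) = swLin := by
        intro x hx
        obtain ⟨a, s, -, h | h⟩ := (hT' x.1).mp x.2
        · exfalso
          apply hx
          apply Subtype.ext
          rw [h, hone a, hone s, inv_one, mul_one, dgLin_one]
          rfl
        · rw [h, hone a, hone s, inv_one, mul_one, dgLin_one, one_mul]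
      intro x y hx hy
      apply Subtype.ext
      rw [hsw x hx, hsw y hy]
    intro φ
    exact ⟨0, by rw [hall φ, pow_zero, pow_one]⟩
  · have hm1 : 1 ≤ m := Nat.one_le_iff_ne_zero.mpr hm0
    obtain ⟨d, e, w, D⟩ := fermatData_of_mono m hm1 hK T hT'
    have hm2 : m ≠ 2 := by
      rintro rfl
      exact hq5 (by rw [hq]; norm_num)
    by_cases hm3 : 3 ≤ m
    · exact isPGroup_two_mulAut_of_odd_trivial (fun φ n hn hφ => D.aut_eq_one_of_odd hm3 φ n hn hφ)
    · have hm1' : m = 1 := by omega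
      subst hm1'
      exact isPGroup_two_mulAut_of_odd_trivial (fun φ n hn hφ => D.aut_eq_one_of_odd_one φ n hn hφ)

end Cfsg.Agent.S3382
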