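import Cfsg.Statements.S3389
-- import your own Cfsg.Agent.* helpers here
import Mathlib
import Cfsg.Agent.Lib.Helper18.Basic
import Cfsg.Agent.Lib.Helper18.FixityP

set_option autoImplicit false
open Cfsg

namespace Cfsg.Agent.S3389

/-- Let G be a finite group acting faithfully and transitively on a finite set Ω with fixity k ≥ 1: every non-identity element fixes at most k points and some non-identity element fixes exactly k points. Then |Z(G)| divides k; if k = 2 then |G| is even; and for every prime p > k dividing |G| and every point α, either p does not divide |G_α| or G_α contains a Sylow p-subgroup of G. -/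
theorem result {G : Type*} [Group G] [Finite G] {Ω : Type*} [Fintype Ω] [MulAction G Ω] [FaithfulSMul G Ω]
    (htr : MulAction.IsPretransitive G Ω) (k : ℕ) (hk : 1 ≤ k)
    (hfix : ∀ g : G, g ≠ 1 → Nat.card (MulAction.fixedBy Ω g) ≤ k) (hex : ∃ g : G, g ≠ 1 ∧ Nat.card (MulAction.fixedBy Ω g) = k) :
    Nat.card (Subgroup.center G) ∣ k ∧ (k = 2 → 2 ∣ Nat.card G) ∧
      ∀ (p : ℕ), p.Prime → k < p → p ∣ Nat.card G → ∀ α : Ω,
        ¬ p ∣ Nat.card (MulAction.stabilizer G α) ∨ ¬ p ∣ (MulAction.stabilizer G α).index := by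
  classical
  obtain ⟨g, hg1, hgk⟩ := hex
  refine ⟨?_, ?_, ?_⟩
  · -- |Z(G)| divides k
    let F : SubMulAction (Subgroup.center G) Ω :=
      { carrier := MulAction.fixedBy Ω g
        smul_mem' := by
          intro z ω hω
          rw [MulAction.mem_fixedBy] at hω ⊢
          have hz : g * (z : G) = (z : G) * g := Subgroup.mem_center_iff.mp z.2 g
          calc g • (z • ω) = (g * (z : G)) • ω := by rw [mul_smul]; rfl
            _ = ((z : G) * g) • ω := by rw [hz]
            _ = z • ω := by rw [mul_smul, hω]; rfl }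
    have hfree : ∀ b : F, MulAction.stabilizer (Subgroup.center G) b = ⊥ := by
      intro b
      rw [eq_bot_iff]
      intro z hz
      rw [MulAction.mem_stabilizer_iff] at hz
      have hz' : (z : G) • (b : Ω) = (b : Ω) := congrArg Subtype.val hz
      rw [Subgroup.mem_bot]
      apply Subtype.ext
      apply FaithfulSMul.eq_of_smul_eq_smul (α := Ω)
      intro ω
      obtain ⟨h, hh⟩ := MulAction.exists_smul_eq G (b : Ω) ω
      have hzc : h * (z : G) = (z : G) * h := Subgroup.mem_center_iff.mp z.2 h
      show (z : G) • ω = (1 : G) • ω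
      rw [one_smul, ← hh, ← mul_smul, ← hzc, mul_smul, hz']
    have e := MulAction.selfEquivOrbitsQuotientProd hfree
    have hcard : Nat.card F = Nat.card (Quotient (MulAction.orbitRel (Subgroup.center G) F)) *
        Nat.card (Subgroup.center G) := by
      rw [Nat.card_congr e, Nat.card_prod]
    have hF : Nat.card F = k := by
      rw [← hgk]; rfl
    rw [← hF, hcard]
    exact Dvd.intro_left _ rfl
  · -- k = 2 → |G| even
    intro hk2
    subst hk2
    by_contra hodd
    -- the two fixed points
    have hnc : (MulAction.fixedBy Ω g).ncard = 2 := by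
      rw [← Nat.card_coe_set_eq]; exact hgk
    obtain ⟨α, β, hαβ, hfixg⟩ := Set.ncard_eq_two.mp hnc
    have hgα : g • α = α := by
      have : α ∈ MulAction.fixedBy Ω g := by rw [hfixg]; simp
      exact this
    have hgβ : g • β = β := by
      have : β ∈ MulAction.fixedBy Ω g := by rw [hfixg]; simp
      exact this
    -- a prime p dividing the order of g
    have hog : orderOf g ≠ 1 := by
      intro h; exact hg1 (orderOf_eq_one_iff.mp h)
    obtain ⟨p, hp, hpg⟩ := Nat.exists_prime_and_dvd hog
    have hpG : p ∣ Nat.card G := hpg.trans (orderOf_dvd_natCard g)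
    have hp2 : 2 < p := by
      have h2 : p ≠ 2 := by
        intro h; rw [h] at hpG; exact hodd hpG
      have := hp.two_le
      omega
    have _ : Fact p.Prime := ⟨hp⟩
    set K : Subgroup G := MulAction.stabilizer G α ⊓ MulAction.stabilizer G β with hKdef
    have hKmem : ∀ x : G, x ∈ K ↔ ∀ δ ∈ ({α, β} : Set Ω), x • δ = δ := by
      intro x
      rw [hKdef, Subgroup.mem_inf, MulAction.mem_stabilizer_iff, MulAction.mem_stabilizer_iff]
      constructor
      · rintro ⟨h1, h2⟩ δ hδ
        rcases hδ with rfl | rfl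
        · exact h1
        · exact h2
      · intro h
        exact ⟨h α (by simp), h β (by simp)⟩
    have hgK : g ∈ K := by
      rw [hKmem]
      intro δ hδ
      rcases hδ with rfl | rfl
      · exact hgα
      · exact hgβ
    have hpK : p ∣ Nat.card K := by
      have h1 : orderOf (⟨g, hgK⟩ : K) ∣ Nat.card K := orderOf_dvd_natCard _
      have h2 : orderOf (⟨g, hgK⟩ : K) = orderOf g := Subgroup.orderOf_mk g hgK
      rw [h2] at h1
      exact hpg.trans h1
    obtain ⟨P, hPp, hPK, hP1, hPmax⟩ := Cfsg.Agent.Lib.Helper18.exists_maximal_pgroup_le p K hpK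
    have hPmaxG : ∀ Q : Subgroup G, IsPGroup p Q → P ≤ Q → Q = P :=
      fun Q hQ hPQ => Cfsg.Agent.Lib.Helper18.eq_of_le_pgroup_of_fixity 2 p hp2 hfix K {α, β} hKmem
        P hPK hP1 hPmax Q hQ hPQ
    -- the common fixed points of P are α and β
    obtain ⟨⟨g₀, hg₀P⟩, hg₀⟩ := (Subgroup.ne_bot_iff_exists_ne_one).mp hP1
    have hg₀1 : g₀ ≠ 1 := fun h => hg₀ (Subtype.ext h)
    have hPfix : ∀ ω : Ω, (∀ x ∈ P, x • ω = ω) → ω = α ∨ ω = β := by
      intro ω hω
      have hsub : ({α, β} : Set Ω) ⊆ MulAction.fixedBy Ω g₀ := by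
        intro δ hδ
        exact (hKmem g₀).mp (hPK hg₀P) δ hδ
      have hcard : (MulAction.fixedBy Ω g₀).ncard ≤ ({α, β} : Set Ω).ncard := by
        rw [Set.ncard_pair hαβ, ← Nat.card_coe_set_eq]
        exact hfix g₀ hg₀1
      have heq := Set.eq_of_subset_of_ncard_le hsub hcard (Set.toFinite _)
      have : ω ∈ MulAction.fixedBy Ω g₀ := hω g₀ hg₀P
      rw [← heq] at this
      simpa using this
    have hPα : ∀ x ∈ P, x • α = α := fun x hx => (hKmem x).mp (hPK hx) α (by simp)
    have hPβ : ∀ x ∈ P, x • β = β := fun x hx => (hKmem x).mp (hPK hx) β (by simp)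
    -- transitivity
    obtain ⟨h, hh⟩ := MulAction.exists_smul_eq G α β
    set B : Subgroup G := P.map (MulAut.conj h⁻¹).toMonoidHom with hB
    have hBp : IsPGroup p B := hPp.map _
    have hBα : B ≤ MulAction.stabilizer G α := by
      rintro _ ⟨x, hx, rfl⟩
      rw [MulAction.mem_stabilizer_iff]
      show (h⁻¹ * x * h⁻¹⁻¹) • α = α
      rw [inv_inv, mul_smul, mul_smul, hh, hPβ x hx, ← hh, inv_smul_smul]
    have hPα' : P ≤ MulAction.stabilizer G α := fun x hx => hPα x hx
    obtain ⟨c, hcα, Q, hQp, -, hPQ, hcB⟩ :=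
      Cfsg.Agent.Lib.Helper18.exists_conj_pgroup_of_le (MulAction.stabilizer G α) P B hPα' hBα hPp hBp
    have hQP : Q = P := hPmaxG Q hQp hPQ
    rw [MulAction.mem_stabilizer_iff] at hcα
    -- the element m = h c⁻¹
    set m := h * c⁻¹ with hm
    have hmnorm : ∀ x ∈ P, m⁻¹ * x * m ∈ P := by
      intro x hx
      have hb : h⁻¹ * x * h ∈ B := by
        refine ⟨x, hx, ?_⟩
        show h⁻¹ * x * h⁻¹⁻¹ = h⁻¹ * x * h
        rw [inv_inv]
      have := hcB _ hb
      rw [hQP] at this
      have e : m⁻¹ * x * m = c * (h⁻¹ * x * h) * c⁻¹ := by rw [hm]; group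
      rw [e]; exact this
    have hmα : m • α = β := by
      rw [hm, mul_smul]
      have : c⁻¹ • α = α := by
        rw [inv_smul_eq_iff, hcα]
      rw [this, hh]
    have hmfix : ∀ ω : Ω, (∀ x ∈ P, x • ω = ω) → ∀ x ∈ P, x • (m • ω) = m • ω := by
      intro ω hω x hx
      have h1 := hω _ (hmnorm x hx)
      calc x • (m • ω) = (m * (m⁻¹ * x * m)) • ω := by rw [← mul_smul]; congr 1; group
        _ = m • ω := by rw [mul_smul, h1]
    have hmβ : m • β = α := by
      rcases hPfix (m • β) (hmfix β hPβ) with h1 | h1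
      · exact h1
      · exfalso
        apply hαβ
        have : m • β = m • α := by rw [h1, hmα]
        exact (MulAction.injective m this).symm
    -- m has odd order, contradiction
    have hmodd : Odd (orderOf m) := by
      rw [← Nat.not_even_iff_odd, even_iff_two_dvd]
      intro h2
      exact hodd (h2.trans (orderOf_dvd_natCard m))
    obtain ⟨j, hj⟩ := hmodd
    have hm2 : ∀ i : ℕ, m ^ (2 * i) • α = α := by
      intro i
      induction i with
      | zero => simp
      | succ i ih =>
        rw [show 2 * (i + 1) = 2 * i + 2 by ring, pow_add, mul_smul, pow_two, mul_smul, hmα, hmβ, ih]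
    have h1 : m ^ (2 * j + 1) • α = β := by
      rw [pow_succ', mul_smul, hm2 j, hmα]
    rw [← hj, pow_orderOf_eq_one, one_smul] at h1
    exact hαβ h1
  · -- Sylow p-subgroups of point stabilizers, p > k
    intro p hp hkp hpG α
    by_contra hcon
    rw [not_or, not_not, not_not] at hcon
    obtain ⟨hpK, hpI⟩ := hcon
    have _ : Fact p.Prime := ⟨hp⟩
    set K : Subgroup G := MulAction.stabilizer G α with hKdef
    have hKmem : ∀ x : G, x ∈ K ↔ ∀ δ ∈ ({α} : Set Ω), x • δ = δ := by
      intro x
      rw [hKdef, MulAction.mem_stabilizer_iff]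
      simp
    obtain ⟨P, hPp, hPK, hP1, hPmax⟩ := Cfsg.Agent.Lib.Helper18.exists_maximal_pgroup_le p K hpK
    obtain ⟨Q, hQ⟩ := hPp.exists_le_sylow
    have hQP : (Q : Subgroup G) = P :=
      Cfsg.Agent.Lib.Helper18.eq_of_le_pgroup_of_fixity k p hkp hfix K {α} hKmem
        P hPK hP1 hPmax Q Q.2 hQ
    have h1 : ¬ p ∣ (Q : Subgroup G).index := Q.not_dvd_index
    rw [hQP] at h1
    exact h1 (hpI.trans (Subgroup.index_dvd_of_le hPK))

end Cfsg.Agent.S3389
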