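import Cfsg.Statements.S3419
import Mathlib
import Cfsg.Agent.Lib.Helper2.AltSpec
import Cfsg.Agent.Lib.Helper1.Hall

set_option autoImplicit false
open Cfsg

namespace Cfsg.Agent.S3419

/-- Let n ≥ 5 and let G be a finite group with the same order and the same set of element orders as the alternating group of degree n. Then G is not solvable. -/
theorem result {G : Type*} [Group G] [Finite G] (n : ℕ) (hn : 5 ≤ n)
    (hcard : Nat.card G = Nat.card ↥(alternatingGroup (Fin n)))
    (hspec : Set.range (orderOf : G → ℕ) = Set.range (orderOf : ↥(alternatingGroup (Fin n)) → ℕ)) :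
    ¬ Group.IsSolvable G := by
  intro hsolv
  have := hsolv
  obtain ⟨p, q, a, b, k, hp, hq, hpq, ha, hb, hN, hcop, h1, h2, hnpq⟩ :=
    Cfsg.Agent.Lib.Helper2.AltSpec.key_arith n hn
  have hcardA : Nat.card (alternatingGroup (Fin n)) = n.factorial / 2 := by
    obtain ⟨j, rfl⟩ : ∃ j, n = j + 2 := ⟨n - 2, by omega⟩
    rw [nat_card_alternatingGroup]
    simp
  obtain ⟨H, hH⟩ := Cfsg.Agent.Lib.Helper1.hall_exists _ G rfl (p ^ a * q ^ b) k
    (by rw [hcard, hcardA, hN]) hcop
  have := Fact.mk hp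
  have := Fact.mk hq
  obtain ⟨x, hx⟩ := Cfsg.Agent.Lib.Helper2.AltSpec.exists_orderOf_eq_mul (H := H) hpq ha hb hH h1 h2
  have hxG : orderOf (x : G) = p * q := by
    rw [Subgroup.orderOf_coe]
    exact hx
  have hmem : p * q ∈ Set.range (orderOf : G → ℕ) := ⟨x, hxG⟩
  rw [hspec] at hmem
  obtain ⟨σ, hσ⟩ := hmem
  have hσ' : orderOf (σ : Equiv.Perm (Fin n)) = p * q := by
    rw [Subgroup.orderOf_coe]
    exact hσ
  exact Cfsg.Agent.Lib.Helper2.AltSpec.perm_orderOf_ne_mul hp hq hpq hnpq σ hσ'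

end Cfsg.Agent.S3419
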