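import Cfsg.Statements.S3420
import Mathlib
import Cfsg.Agent.Lib.Helper2.AltSpec
import Cfsg.Agent.Lib.Helper2.ChiefSimple

set_option autoImplicit false
open Cfsg

namespace Cfsg.Agent.S3420

open Cfsg.Agent.Lib.Helper2 in
theorem two_primes_range (n : ℕ) (hn : 11 ≤ n) :
    ∃ p q : ℕ, p.Prime ∧ q.Prime ∧ p < q ∧ n < 2 * p ∧ q ≤ n := by
  rcases Nat.lt_or_ge n 12 with h | h
  · have : n = 11 := by omega
    subst this
    exact ⟨7, 11, by norm_num, by norm_num, by norm_num, by norm_num, by norm_num⟩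
  · obtain ⟨p, q, hp, hq, h1, h2, h3⟩ := TwoPrimes.exists_two_primes (n / 2) (by omega)
    exact ⟨p, q, hp, hq, h2, by omega, by omega⟩


/-- Let n ≥ 11 and let G be a finite group with the same order and the same set of element orders as the alternating group of degree n. Then G has normal subgroups N < H such that H/N is a non-abelian simple group whose order is divisible by every prime p with n/2 < p ≤ n. -/
theorem result {G : Type*} [Group G] [Finite G] (n : ℕ) (hn : 11 ≤ n)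
    (hcard : Nat.card G = Nat.card ↥(alternatingGroup (Fin n)))
    (hspec : Set.range (orderOf : G → ℕ) = Set.range (orderOf : ↥(alternatingGroup (Fin n)) → ℕ)) :
    ∃ (N H : Subgroup G) (_ : N.Normal), H.Normal ∧ N < H ∧
      IsSimpleGroup (↥H ⧸ N.subgroupOf H) ∧ ¬ IsMulCommutative (↥H ⧸ N.subgroupOf H) ∧
      ∀ p : ℕ, p.Prime → n < 2 * p → p ≤ n → p ∣ Nat.card (↥H ⧸ N.subgroupOf H) := by
  classical
  have hcardA : Nat.card (alternatingGroup (Fin n)) = n.factorial / 2 := by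
    obtain ⟨j, rfl⟩ : ∃ j, n = j + 2 := ⟨n - 2, by omega⟩
    rw [nat_card_alternatingGroup]
    simp
  have hG : Nat.card G = n.factorial / 2 := hcard.trans hcardA
  have hfacts : ∀ p : ℕ, p.Prime → n < 2 * p → p ≤ n →
      p ∣ Nat.card G ∧ ¬ p ^ 2 ∣ Nat.card G := by
    intro p hp h1 h2
    rw [hG]
    exact Cfsg.Agent.Lib.Helper2.AltSpec.half_factorial_facts (by omega) hp (by omega) h2 h1
  have hno : ∀ p q : ℕ, p.Prime → q.Prime → p ≠ q → n < p + q →
      ¬ ∃ z : G, orderOf z = p * q := by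
    rintro p q hp hq hpq hn' ⟨z, hz⟩
    have hmem : p * q ∈ Set.range (orderOf : G → ℕ) := ⟨z, hz⟩
    rw [hspec] at hmem
    obtain ⟨σ, hσ⟩ := hmem
    exact Cfsg.Agent.Lib.Helper2.AltSpec.perm_orderOf_ne_mul hp hq hpq hn' σ
      (by rw [Subgroup.orderOf_coe]; exact hσ)
  have hnd : ∀ p q : ℕ, p.Prime → q.Prime → p ≠ q → n < 2 * p → p ≤ n → n < 2 * q → q ≤ n →
      ¬ p ∣ q - 1 := by
    rintro p q hp hq hpq h1 h2 h3 h4 ⟨c, hc⟩
    obtain ⟨i, hi⟩ := hp.odd_of_ne_two (by omega)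
    obtain ⟨j, hj⟩ := hq.odd_of_ne_two (by omega)
    have hq2 := hq.two_le
    have hc2 : c < 2 := by
      by_contra hcc
      have : 2 * p ≤ p * c := by nlinarith
      omega
    interval_cases c <;> omega
  obtain ⟨p₀, q₀, hp₀, hq₀, hlt, hn2p, hqn⟩ := two_primes_range n hn
  have hq₀facts := hfacts q₀ hq₀ (by omega) hqn
  obtain ⟨N, H, hc, hqr⟩ := Cfsg.Agent.Lib.Helper2.ChiefSimple.exists_chief hq₀ hq₀facts.1
  have hNn := hc.nN
  have hHn := hc.nH
  have hsimple := Cfsg.Agent.Lib.Helper2.ChiefSimple.simple_of_chief hc hq₀ hqr hq₀facts.2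
  have hcardQ : Nat.card (↥H ⧸ N.subgroupOf H) = N.relIndex H := rfl
  have hdiv : ∀ p : ℕ, p.Prime → n < 2 * p → p ≤ n → p ∣ N.relIndex H := by
    intro p hp h1 h2
    by_cases hpq : p = q₀
    · rw [hpq]
      exact hqr
    by_contra hcon
    have hpG := hfacts p hp h1 h2
    have e1 : Nat.card N * N.relIndex H = Nat.card H :=
      Cfsg.Agent.Lib.Helper4.card_mul_relIndex hc.lt.le
    have e2 : Nat.card H * H.index = Nat.card G := H.card_mul_index
    have hdvd : p ∣ Nat.card N * N.relIndex H * H.index := by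
      rw [e1, e2]
      exact hpG.1
    rcases (Nat.Prime.dvd_mul hp).mp hdvd with h | h
    · rcases (Nat.Prime.dvd_mul hp).mp h with h | h
      · have h2' : ¬ p ^ 2 ∣ Nat.card N := fun hh =>
          hpG.2 (hh.trans (Subgroup.card_subgroup_dvd_card N))
        have h3 : q₀ ∣ N.index := by
          rw [← Subgroup.relIndex_mul_index hc.lt.le]
          exact Dvd.dvd.mul_right hqr _
        obtain ⟨z, hz⟩ := Cfsg.Agent.Lib.Helper2.ChiefSimple.exists_orderOf_mul_of_frattini N hp hq₀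
          (Ne.symm hpq) h h2' h3 (hnd q₀ p hq₀ hp (Ne.symm hpq) (by omega) hqn h1 h2)
        exact hno q₀ p hq₀ hp (Ne.symm hpq) (by omega) ⟨z, hz⟩
      · exact hcon h
    · have h1' : q₀ ∣ Nat.card H := by
        rw [← e1]
        exact Dvd.dvd.mul_left hqr _
      have h2' : ¬ q₀ ^ 2 ∣ Nat.card H := fun hh =>
        hq₀facts.2 (hh.trans (Subgroup.card_subgroup_dvd_card H))
      obtain ⟨z, hz⟩ := Cfsg.Agent.Lib.Helper2.ChiefSimple.exists_orderOf_mul_of_frattini H hq₀ hp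
        hpq h1' h2' h (hnd p q₀ hp hq₀ hpq h1 h2 (by omega) hqn)
      exact hno p q₀ hp hq₀ hpq (by omega) ⟨z, hz⟩
  refine ⟨N, H, hc.nN, hc.nH, hc.lt, hsimple, ?_, ?_⟩
  · intro hcomm
    let _ : CommGroup (↥H ⧸ N.subgroupOf H) :=
      { (inferInstance : Group (↥H ⧸ N.subgroupOf H)) with mul_comm := hcomm.is_comm.comm }
    have hprime : (Nat.card (↥H ⧸ N.subgroupOf H)).Prime := IsSimpleGroup.prime_card
    rw [hcardQ] at hprime
    have hp0 : p₀ ∣ N.relIndex H := hdiv p₀ hp₀ hn2p (by omega)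
    have h1 := (Nat.Prime.eq_one_or_self_of_dvd hprime p₀ hp0).resolve_left hp₀.one_lt.ne'
    have h2 := (Nat.Prime.eq_one_or_self_of_dvd hprime q₀ hqr).resolve_left hq₀.one_lt.ne'
    omega
  · intro p hp h1 h2
    rw [hcardQ]
    exact hdiv p hp h1 h2

end Cfsg.Agent.S3420
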