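import Cfsg.Statements.S3431
import Cfsg.Agent.Lib.Helper12.NseC
import Cfsg.Agent.Lib.Helper12.NseD
import Cfsg.Agent.Lib.Helper12.NseE
import Cfsg.Agent.Lib.Helper12.NseF
import Cfsg.Agent.Lib.Helper12.NseH
import Cfsg.Agent.S0494
import Cfsg.Agent.S0497

set_option autoImplicit false
open Cfsg

namespace Cfsg.Agent.S3431

/-- Let n be 4, 5 or 6 and let G be a finite group whose set of sizes of same-order classes (the set of numbers #{g : o(g) = m} over the element orders m of G) equals that of the alternating group of degree n. Then G is isomorphic to that alternating group. -/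
theorem result {G : Type*} [Group G] [Finite G] (n : ℕ) (hn : n = 4 ∨ n = 5 ∨ n = 6)
    (h : ((fun m : ℕ => Nat.card {g : G // orderOf g = m}) '' Set.range (orderOf : G → ℕ)) = ((fun m : ℕ => Nat.card {g : ↥(alternatingGroup (Fin n)) // orderOf g = m}) '' Set.range (orderOf : ↥(alternatingGroup (Fin n)) → ℕ))) :
    Nonempty (G ≃* ↥(alternatingGroup (Fin n))) := by
  have hsys := Cfsg.Agent.Lib.Helper12.Nse.nseSys_of_group G
  rcases hn with rfl | rfl | rfl
  · rw [Cfsg.Agent.Lib.Helper12.Nse.a4_nse] at h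
    obtain ⟨hS, hatt⟩ := Cfsg.Agent.Lib.Helper12.Nse.nse_unpack _ h
    have hS' : ∀ k, Nat.card {g : G // orderOf g = k} = 0 ∨ Nat.card {g : G // orderOf g = k} = 1 ∨
        Nat.card {g : G // orderOf g = k} = 3 ∨ Nat.card {g : G // orderOf g = k} = 8 := by
      intro k
      rcases hS k with h' | h'
      · exact Or.inl h'
      · simpa using Or.inr h'
    obtain ⟨hN, h3⟩ := Cfsg.Agent.Lib.Helper12.Nse.arith_A4 hsys hS' (hatt 3 (by simp))
      (hatt 8 (by simp))
    exact Cfsg.Agent.Lib.Helper12.Nse.alt4_of_counts hN h3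
  · rw [Cfsg.Agent.Lib.Helper12.Nse.a5_nse] at h
    obtain ⟨hS, hatt⟩ := Cfsg.Agent.Lib.Helper12.Nse.nse_unpack _ h
    have hS' : ∀ k, Nat.card {g : G // orderOf g = k} = 0 ∨ Nat.card {g : G // orderOf g = k} = 1 ∨
        Nat.card {g : G // orderOf g = k} = 15 ∨ Nat.card {g : G // orderOf g = k} = 20 ∨
        Nat.card {g : G // orderOf g = k} = 24 := by
      intro k
      rcases hS k with h' | h'
      · exact Or.inl h'
      · simpa using Or.inr h'
    obtain ⟨hN, h3, h5, hspec⟩ := Cfsg.Agent.Lib.Helper12.Nse.arith_A5 hsys hS' (hatt 15 (by simp))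
      (hatt 20 (by simp)) (hatt 24 (by simp))
    have := Cfsg.Agent.Lib.Helper12.Nse.isSimpleGroup_of_counts_60 hN hspec h3 h5
    exact Cfsg.Agent.S0494.result hN
  · rw [Cfsg.Agent.Lib.Helper12.Nse.a6_nse] at h
    obtain ⟨hS, hatt⟩ := Cfsg.Agent.Lib.Helper12.Nse.nse_unpack _ h
    have hS' : ∀ k, Nat.card {g : G // orderOf g = k} = 0 ∨ Nat.card {g : G // orderOf g = k} = 1 ∨
        Nat.card {g : G // orderOf g = k} = 45 ∨ Nat.card {g : G // orderOf g = k} = 80 ∨
        Nat.card {g : G // orderOf g = k} = 90 ∨ Nat.card {g : G // orderOf g = k} = 144 := by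
      intro k
      rcases hS k with h' | h'
      · exact Or.inl h'
      · simpa using Or.inr h'
    obtain ⟨hN, h3, h5, hspec⟩ := Cfsg.Agent.Lib.Helper12.Nse.arith_A6 hsys hS' (hatt 45 (by simp))
      (hatt 80 (by simp)) (hatt 90 (by simp)) (hatt 144 (by simp))
    have := Cfsg.Agent.Lib.Helper12.Nse.isSimpleGroup_of_counts_360 hN hspec h3 h5
    exact Cfsg.Agent.S0497.result hN

end Cfsg.Agent.S3431
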