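import Cfsg.Statements.S3443
-- import your own Cfsg.Agent.* helpers here

set_option autoImplicit false
open Cfsg

namespace Cfsg.Agent.S3443

/-- number theory: if `n = lcm a b`, `n ∣ a * p`, `n ∣ b * p` then `n = a` or `n = b`. -/
theorem lcm_case (a b p : ℕ) (hp : p.Prime) (ha : 0 < a) (hb : 0 < b)
    (h1 : Nat.lcm a b ∣ a * p) (h2 : Nat.lcm a b ∣ b * p) : Nat.lcm a b = a ∨ Nat.lcm a b = b := by
  set n := Nat.lcm a b with hn
  have han : a ∣ n := Nat.dvd_lcm_left a b
  have hbn : b ∣ n := Nat.dvd_lcm_right a b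
  by_contra hcon
  push_neg at hcon
  obtain ⟨c, hc⟩ := han
  obtain ⟨d, hd⟩ := hbn
  have hcp : c ∣ p := by
    rw [hc] at h1
    exact (Nat.mul_dvd_mul_iff_left ha).mp h1
  have hdp : d ∣ p := by
    rw [hd] at h2
    exact (Nat.mul_dvd_mul_iff_left hb).mp h2
  have hc1 : c = p := by
    rcases (Nat.dvd_prime hp).mp hcp with h | h
    · exfalso; apply hcon.1; rw [hc, h, mul_one]
    · exact h
  have hd1 : d = p := by
    rcases (Nat.dvd_prime hp).mp hdp with h | h
    · exfalso; apply hcon.2; rw [hd, h, mul_one]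
    · exact h
  have hab : a = b := by
    have : a * p = b * p := by rw [← hc1, ← hc]; rw [hc1, ← hd1, ← hd]
    exact Nat.eq_of_mul_eq_mul_right hp.pos this
  apply hcon.1
  rw [hn, hab, Nat.lcm_self]


/-- Let G be a finite group and V a normal elementary abelian subgroup of G (abelian of prime exponent p, possibly trivial). Then the semidirect product V ⋊ G, with G acting on V by conjugation, has exactly the same set of element orders as G. -/
theorem result {G : Type*} [Group G] [Finite G] (V : Subgroup G) [V.Normal] (p : ℕ) (hp : p.Prime)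
    (hcomm : ∀ x y : V, x * y = y * x) (hexp : ∀ x : V, x ^ p = 1) :
    Set.range (orderOf : V ⋊[MulAut.conjNormal] G → ℕ) = Set.range (orderOf : G → ℕ) := by
  classical
  -- the homomorphism (v, g) ↦ v * g
  let ψ : V ⋊[MulAut.conjNormal] G →* G :=
    SemidirectProduct.lift V.subtype (MonoidHom.id G) (by
      intro g
      ext v
      simp [MulAut.conjNormal_apply])
  let π : V ⋊[MulAut.conjNormal] G →* G := SemidirectProduct.rightHom
  have hψ : ∀ x : V ⋊[MulAut.conjNormal] G, ψ x = (x.left : G) * x.right := fun x => rfl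
  have hπ : ∀ x : V ⋊[MulAut.conjNormal] G, π x = x.right := fun x => rfl
  let Ψ : V ⋊[MulAut.conjNormal] G →* G × G := ψ.prod π
  have hΨinj : Function.Injective Ψ := by
    intro x y hxy
    have h1 : ψ x = ψ y := congrArg Prod.fst hxy
    have h2 : π x = π y := congrArg Prod.snd hxy
    rw [hψ, hψ] at h1
    rw [hπ, hπ] at h2
    rw [h2] at h1
    have h3 : (x.left : G) = y.left := mul_right_cancel h1
    exact SemidirectProduct.ext (Subtype.ext h3) h2
  apply Set.eq_of_subset_of_subset
  · rintro n ⟨x, rfl⟩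
    have hord : orderOf x = Nat.lcm (orderOf (ψ x)) (orderOf (π x)) := by
      rw [← orderOf_injective Ψ hΨinj x, Prod.orderOf]
      rfl
    have hA : x ^ (orderOf (ψ x) * p) = 1 := by
      apply hΨinj
      rw [map_pow, map_one]
      refine Prod.ext ?_ ?_
      · show (ψ x) ^ (orderOf (ψ x) * p) = 1
        rw [pow_mul, pow_orderOf_eq_one, one_pow]
      · show (π x) ^ (orderOf (ψ x) * p) = 1
        rw [pow_mul, ← map_pow]
        set y := x ^ orderOf (ψ x) with hy
        have hy1 : ψ y = 1 := by rw [hy, map_pow, pow_orderOf_eq_one]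
        rw [hψ] at hy1
        have hy2 : y.right = ((y.left⁻¹ : V) : G) := by
          rw [Subgroup.coe_inv]
          exact eq_inv_of_mul_eq_one_right hy1
        rw [hπ, hy2, ← Subgroup.coe_pow, hexp]
        rfl
    have hB : x ^ (orderOf (π x) * p) = 1 := by
      apply hΨinj
      rw [map_pow, map_one]
      refine Prod.ext ?_ ?_
      · show (ψ x) ^ (orderOf (π x) * p) = 1
        rw [pow_mul, ← map_pow]
        set y := x ^ orderOf (π x) with hy
        have hy1 : π y = 1 := by rw [hy, map_pow, pow_orderOf_eq_one]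
        rw [hπ] at hy1
        rw [hψ, hy1, mul_one, ← Subgroup.coe_pow, hexp]
        rfl
      · show (π x) ^ (orderOf (π x) * p) = 1
        rw [pow_mul, pow_orderOf_eq_one, one_pow]
    have h1 : orderOf x ∣ orderOf (ψ x) * p := orderOf_dvd_of_pow_eq_one hA
    have h2 : orderOf x ∣ orderOf (π x) * p := orderOf_dvd_of_pow_eq_one hB
    rw [hord] at h1 h2
    rcases lcm_case _ _ p hp (orderOf_pos _) (orderOf_pos _) h1 h2 with h | h
    · exact ⟨ψ x, by rw [hord, h]⟩
    · exact ⟨π x, by rw [hord, h]⟩
  · rintro n ⟨g, rfl⟩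
    exact ⟨SemidirectProduct.inr g, orderOf_injective _ SemidirectProduct.inr_injective g⟩

end Cfsg.Agent.S3443
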