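import Cfsg.Statements.S3449
import Cfsg.Agent.Lib.Helper19.A5Spec

set_option autoImplicit false
open Cfsg

namespace Cfsg.Agent.S3449

/-- The direct product of three copies of the alternating group of degree 5 has exactly the same set of element orders as the cyclic group of order 30, namely the divisors of 30; in particular a direct power of a non-abelian simple group need not be determined by its element orders. -/
theorem result : Set.range (orderOf : alternatingGroup (Fin 5) × alternatingGroup (Fin 5) × alternatingGroup (Fin 5) → ℕ) =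
      Set.range (orderOf : Multiplicative (ZMod 30) → ℕ) := by
  have hL : Set.range (orderOf : alternatingGroup (Fin 5) × alternatingGroup (Fin 5) ×
      alternatingGroup (Fin 5) → ℕ) = {n | n ∣ 30} := by
    ext n
    simp only [Set.mem_range, Set.mem_setOf_eq]
    constructor
    · rintro ⟨⟨a, b, c⟩, rfl⟩
      rw [Prod.orderOf, Prod.orderOf]
      rcases Cfsg.Agent.Lib.Helper19.a5_orderOf a with ha | ha | ha | ha <;>
      rcases Cfsg.Agent.Lib.Helper19.a5_orderOf b with hb | hb | hb | hb <;>
      rcases Cfsg.Agent.Lib.Helper19.a5_orderOf c with hc | hc | hc | hc <;>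
      simp only [ha, hb, hc] <;> decide
    · intro hn
      have key : ∀ x y z : ℕ, (x = 1 ∨ x = 2 ∨ x = 3 ∨ x = 5) → (y = 1 ∨ y = 2 ∨ y = 3 ∨ y = 5) →
          (z = 1 ∨ z = 2 ∨ z = 3 ∨ z = 5) →
          ∃ g : alternatingGroup (Fin 5) × alternatingGroup (Fin 5) × alternatingGroup (Fin 5),
            orderOf g = Nat.lcm x (Nat.lcm y z) := by
        intro x y z hx hy hz
        obtain ⟨a, ha⟩ := Cfsg.Agent.Lib.Helper19.a5_exists_order x hx
        obtain ⟨b, hb⟩ := Cfsg.Agent.Lib.Helper19.a5_exists_order y hy
        obtain ⟨c, hc⟩ := Cfsg.Agent.Lib.Helper19.a5_exists_order z hz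
        exact ⟨(a, b, c), by rw [Prod.orderOf, Prod.orderOf, ha, hb, hc]⟩
      have hmem : n ∈ Nat.divisors 30 := Nat.mem_divisors.mpr ⟨hn, by norm_num⟩
      have hdiv : Nat.divisors 30 = {1, 2, 3, 5, 6, 10, 15, 30} := by decide
      rw [hdiv] at hmem
      simp only [Finset.mem_insert, Finset.mem_singleton] at hmem
      rcases hmem with rfl | rfl | rfl | rfl | rfl | rfl | rfl | rfl
      · exact key 1 1 1 (by decide) (by decide) (by decide)
      · exact key 2 1 1 (by decide) (by decide) (by decide)
      · exact key 1 3 1 (by decide) (by decide) (by decide)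
      · exact key 1 1 5 (by decide) (by decide) (by decide)
      · exact key 2 3 1 (by decide) (by decide) (by decide)
      · exact key 2 1 5 (by decide) (by decide) (by decide)
      · exact key 1 3 5 (by decide) (by decide) (by decide)
      · exact key 2 3 5 (by decide) (by decide) (by decide)
  have hR : Set.range (orderOf : Multiplicative (ZMod 30) → ℕ) = {n | n ∣ 30} := by
    ext n
    simp only [Set.mem_range, Set.mem_setOf_eq]
    constructor
    · rintro ⟨x, rfl⟩
      have h := orderOf_dvd_natCard x
      rwa [Nat.card_eq_fintype_card, Fintype.card_multiplicative, ZMod.card] at h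
    · intro hn
      have hg : orderOf (Multiplicative.ofAdd (1 : ZMod 30)) = 30 := by
        rw [orderOf_ofAdd_eq_addOrderOf, ZMod.addOrderOf_one]
      refine ⟨(Multiplicative.ofAdd (1 : ZMod 30)) ^ (30 / n), ?_⟩
      have hn0 : 30 / n ≠ 0 := by
        have : 0 < 30 / n := Nat.div_pos (Nat.le_of_dvd (by norm_num) hn)
          (Nat.pos_of_dvd_of_pos hn (by norm_num))
        omega
      rw [orderOf_pow_of_dvd hn0 (by rw [hg]; exact Nat.div_dvd_of_dvd hn), hg]
      exact Nat.div_div_self hn (by norm_num)
  rw [hL, hR]

end Cfsg.Agent.S3449
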