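import Cfsg.Statements.S3452
import Cfsg.Agent.Lib.Helper13.IsoPSL2F
import Cfsg.Agent.Lib.Helper13.IsoFrobInst
import Cfsg.Agent.Lib.Helper13.IsoPGL2Spec

set_option autoImplicit false
open Cfsg

namespace Cfsg.Agent.S3452

open Cfsg.Agent.Lib.Helper13.Iso

theorem set_two : {m : ℕ | m ∣ 2 ∨ m ∣ 2 - 1 ∨ m ∣ 2 + 1} = ↑({1, 2, 3} : Finset ℕ) := by
  ext m
  simp only [Set.mem_ofPred_eq, Finset.coe_insert, Finset.coe_singleton, Set.mem_insert_iff,
    Set.mem_singleton_iff]
  constructor
  · rintro (h | h | h) <;>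
    · have := Nat.le_of_dvd (by norm_num) h
      interval_cases m <;> simp_all
  · rintro (rfl | rfl | rfl) <;> decide

theorem set_three : {m : ℕ | m ∣ 3 ∨ m ∣ 3 - 1 ∨ m ∣ 3 + 1} = ↑({1, 2, 3, 4} : Finset ℕ) := by
  ext m
  simp only [Set.mem_ofPred_eq, Finset.coe_insert, Finset.coe_singleton, Set.mem_insert_iff,
    Set.mem_singleton_iff]
  constructor
  · rintro (h | h | h) <;>
    · have := Nat.le_of_dvd (by norm_num) h
      interval_cases m <;> simp_all
  · rintro (rfl | rfl | rfl | rfl) <;> decide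

theorem set_nine : {m : ℕ | m ∣ 3 ∨ m ∣ 9 - 1 ∨ m ∣ 9 + 1} = ↑({1, 2, 3, 4, 5, 8, 10} : Finset ℕ) := by
  ext m
  simp only [Set.mem_ofPred_eq, Finset.coe_insert, Finset.coe_singleton, Set.mem_insert_iff,
    Set.mem_singleton_iff]
  constructor
  · rintro (h | h | h) <;>
    · have := Nat.le_of_dvd (by norm_num) h
      interval_cases m <;> simp_all
  · rintro (rfl | rfl | rfl | rfl | rfl | rfl | rfl) <;> decide

/-- For F a finite field whose number of elements is a prime or equals 9, the group PGL(2,F) = GL(2,F)/Z(GL(2,F)) is not determined by its set of element orders: for every bound N there is a finite group of order greater than N with exactly the same set of element orders as PGL(2,F). -/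
theorem result {F : Type*} [Field F] [Fintype F] (hF : (Fintype.card F).Prime ∨ Fintype.card F = 9) (N : ℕ) :
    ∃ (H : Type) (_ : Group H) (_ : Fintype H), N < Fintype.card H ∧
      Set.range (orderOf : H → ℕ) = Set.range (orderOf : Matrix.GeneralLinearGroup (Fin 2) F ⧸ Subgroup.center (Matrix.GeneralLinearGroup (Fin 2) F) → ℕ) := by
  obtain ⟨p, hchar⟩ := CharP.exists F
  have hpF : Fact p.Prime := ⟨CharP.char_is_prime F p⟩
  rw [PGL2_spectrum p]
  obtain ⟨n, -, hn⟩ := FiniteField.card F p
  rcases hF with hF | hF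
  · have hpq : Fintype.card F = p := by
      rw [hn] at hF
      have h1 : (n : ℕ) = 1 := by
        by_contra h1
        exact Nat.Prime.not_prime_pow' (x := p) (n := n) h1 hF
      rw [hn, h1, pow_one]
    by_cases h5 : 5 ≤ Fintype.card F
    · obtain ⟨H, i1, i2, h1, h2⟩ := large_PGL2_prime hF h5 N
      refine ⟨H, i1, i2, h1, ?_⟩
      rw [h2, hpq]
    · have hp2 : 2 ≤ Fintype.card F := hF.two_le
      have h23 : Fintype.card F = 2 ∨ Fintype.card F = 3 := by
        have h4 : Fintype.card F ≠ 4 := by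
          intro h
          rw [h] at hF
          exact absurd hF (by decide)
        omega
      rcases h23 with h | h
      · obtain ⟨H, i1, i2, h1, h2⟩ := large_123 N
        refine ⟨H, i1, i2, h1, ?_⟩
        rw [h2, ← hpq, h, set_two]
      · obtain ⟨H, i1, i2, h1, h2⟩ := large_1234 N
        refine ⟨H, i1, i2, h1, ?_⟩
        rw [h2, ← hpq, h, set_three]
  · have hp3 : p = 3 := by
      rw [hF] at hn
      have h1 : p ∣ 9 := by rw [hn]; exact dvd_pow_self p n.ne_zero
      have h2 : p ∣ 3 := by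
        have : (9 : ℕ) = 3 ^ 2 := by norm_num
        rw [this] at h1
        exact hpF.out.dvd_of_dvd_pow h1
      exact (Nat.prime_dvd_prime_iff_eq hpF.out Nat.prime_three).mp h2
    obtain ⟨H, i1, i2, h1, h2⟩ := large_PGL29 N
    refine ⟨H, i1, i2, h1, ?_⟩
    rw [h2, hp3, hF, set_nine]

end Cfsg.Agent.S3452
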