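import Cfsg.Statements.S3485
-- import your own Cfsg.Agent.* helpers here
import Cfsg.Agent.Lib.Helper14.J2Sp6
import Cfsg.Agent.Lib.Helper14.J2Sp7
import Cfsg.Agent.Lib.Helper14.J2Link

set_option autoImplicit false
open Cfsg

namespace Cfsg.Agent.S3485

/-- The symmetric group of degree 8 and the Hall–Janko sporadic group J₂ have exactly the same set of element orders (namely 1, 2, 3, 4, 5, 6, 7, 8, 10, 12, 15); in particular J₂ is not determined by its element orders. -/
theorem result : Set.range (orderOf : Equiv.Perm (Fin 8) → ℕ) = Set.range (orderOf : Cfsg.Spor.J2 → ℕ) := by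
  open Cfsg.Agent.Lib.Helper14.J2 in
  have h1 : Set.range (orderOf : Cfsg.Spor.J2 → ℕ) = Set.range (orderOf : ↥PJ → ℕ) := by
    ext n
    constructor
    · rintro ⟨g, rfl⟩
      exact ⟨j2Equiv g, j2Equiv.orderOf_eq g⟩
    · rintro ⟨g, rfl⟩
      exact ⟨j2Equiv.symm g, j2Equiv.symm.orderOf_eq g⟩
  rw [h1, Cfsg.Agent.Lib.Helper14.J2.range_orderOf_PJ, Cfsg.Agent.Lib.Helper14.J2.range_orderOf_S8]
  rfl

end Cfsg.Agent.S3485
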