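import Cfsg.Statements.S3486
-- import your own Cfsg.Agent.* helpers here
import Cfsg.Agent.S3485
import Cfsg.Agent.Lib.Helper14.J2FamD

set_option autoImplicit false
open Cfsg

namespace Cfsg.Agent.S3486

open Cfsg.Agent.Lib.Helper14.J2Fam in
theorem aux (N : ℕ) : ∃ (H : Type) (_ : Group H) (_ : Fintype H), N < Fintype.card H ∧
    Set.range (orderOf : H → ℕ) = {n | n ∈ specF} := by
  let C : Type := Multiplicative (Fin (N + 1) → ZMod 2)
  have hC : ∀ c : C, c * c = 1 := by
    intro c
    show Multiplicative.ofAdd (Multiplicative.toAdd c + Multiplicative.toAdd c) = 1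
    have : Multiplicative.toAdd c + Multiplicative.toAdd c = 0 := by
      funext i
      exact CharTwo.add_self_eq_zero _
    rw [this]
    rfl
  let c0 : C := Multiplicative.ofAdd (fun _ => 1)
  have hc0 : c0 ≠ 1 := by
    intro h
    have h1 : (fun _ : Fin (N + 1) => (1 : ZMod 2)) = 0 := Multiplicative.ofAdd.injective h
    have h2 := congrFun h1 0
    exact one_ne_zero h2
  have : Finite (GG C) := Finite.of_equiv _ SemidirectProduct.equivProd.symm
  refine ⟨↥(HH C), inferInstance, Fintype.ofFinite _, ?_, range_orderOf hC hc0⟩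
  rw [Fintype.card_eq_nat_card]
  have h1 : Nat.card C ≤ Nat.card ↥(HH C) := Nat.card_le_card_of_injective _ (emb_injective hC)
  have h2 : Nat.card C = 2 ^ (N + 1) := by
    rw [Nat.card_eq_fintype_card]
    show Fintype.card (Multiplicative (Fin (N + 1) → ZMod 2)) = 2 ^ (N + 1)
    rw [Fintype.card_multiplicative, Fintype.card_fun, ZMod.card, Fintype.card_fin]
  have h3 : N < 2 ^ (N + 1) :=
    (Nat.lt_two_pow_self).trans_le (Nat.pow_le_pow_right (by norm_num) (Nat.le_succ N))
  omega

/-- The Hall–Janko sporadic group J₂ is not determined by its set of element orders, not even up to finitely many groups: for every bound N there is a finite group of order greater than N with exactly the same set of element orders as J₂. -/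
theorem result (N : ℕ) : ∃ (H : Type) (_ : Group H) (_ : Fintype H), N < Fintype.card H ∧ Set.range (orderOf : H → ℕ) = Set.range (orderOf : Cfsg.Spor.J2 → ℕ) := by
  obtain ⟨H, i1, i2, h1, h2⟩ := aux N
  refine ⟨H, i1, i2, h1, ?_⟩
  rw [h2, ← Cfsg.Agent.S3485.result, Cfsg.Agent.Lib.Helper14.J2.range_orderOf_S8]
  rfl

end Cfsg.Agent.S3486
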