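import Cfsg.Statements.S3496
import Cfsg.Agent.Lib.Helper19.ExtPrimSolv
import Cfsg.Agent.S3495

set_option autoImplicit false
open Cfsg

namespace Cfsg.Agent.S3496

/-- The soluble extremely primitive groups. Let a finite solvable group G act faithfully and primitively on a finite set Ω with p ^ d points (p prime), with non-trivial point stabilizers each acting primitively on every one of its orbits. Then there is a prime q such that every orbit of a point stabilizer G_α other than {α} has exactly q points, q divides p ^ d − 1 but no p ^ i − 1 with 0 < i < d, and G_α has a normal subgroup T of order q with G_α generated by T and one further element and the order of G_α dividing q·d (so G_α is cyclic of order q, or an extension of T by a cyclic group of order dividing d). -/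
theorem result {G : Type*} [Group G] [Finite G] {Ω : Type*} [Fintype Ω] [MulAction G Ω] [FaithfulSMul G Ω] [Group.IsSolvable G] (p d : ℕ) (hp : p.Prime) (hcard : Fintype.card Ω = p ^ d)
    (hprim : MulAction.IsPreprimitive G Ω) (hH : ∀ α : Ω, MulAction.stabilizer G α ≠ ⊥) (hep : ∀ (α : Ω) (ω : Ω), MulAction.IsPreprimitive (MulAction.stabilizer G α) (MulAction.orbit (MulAction.stabilizer G α) ω)) (α : Ω) :
    ∃ q : ℕ, q.Prime ∧ (∀ ω : Ω, ω ≠ α → Nat.card (MulAction.orbit (MulAction.stabilizer G α) ω) = q) ∧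
      q ∣ p ^ d - 1 ∧ (∀ i : ℕ, 0 < i → i < d → ¬ q ∣ p ^ i - 1) ∧
      ∃ T : Subgroup G, T ≤ MulAction.stabilizer G α ∧ MulAction.stabilizer G α ≤ Subgroup.normalizer (T : Set G) ∧ Nat.card T = q ∧
        (∃ h : G, MulAction.stabilizer G α = T ⊔ Subgroup.zpowers h) ∧ Nat.card (MulAction.stabilizer G α) ∣ q * d := by
  classical
  have htr := hprim.toIsPretransitive
  have hEP : Cfsg.Agent.Lib.Helper19.ExtPrim.EP G Ω := ⟨hprim, hH, hep⟩
  obtain ⟨ω₀, hω₀⟩ := Cfsg.Agent.Lib.Helper19.ExtPrim.exists_ne α (hH α)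
  haveI : Nontrivial Ω := ⟨⟨ω₀, α, hω₀⟩⟩
  haveI hpf := Fact.mk hp
  have hd0 : 0 < d := by
    rcases Nat.eq_zero_or_pos d with h0 | h0
    · exfalso
      rw [h0, pow_zero] at hcard
      have := Fintype.one_lt_card (α := Ω)
      omega
    · exact h0
  have hpd1 : 1 ≤ p ^ d := Nat.one_le_pow _ _ hp.pos
  -- regular normal subgroup
  obtain ⟨N, r, hNn, hN1, hr, hNc, hNexp, hNtr, hNreg⟩ :=
    Cfsg.Agent.Lib.Helper19.ExtPrim.exists_regular_normal hprim
  haveI := hNn
  have hNcomm : ∀ a ∈ N, ∀ b ∈ N, a * b = b * a := by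
    intro a ha b hb
    have := hNc.is_comm.comm (⟨a, ha⟩ : N) ⟨b, hb⟩
    exact congrArg Subtype.val this
  have hNfix : ∀ v ∈ N, v • α = α → v = 1 := by
    intro v hv hfix
    have h3 : (⟨v, hv⟩ : N) ∈ MulAction.stabilizer N α := by
      rw [MulAction.mem_stabilizer_iff]; exact hfix
    rw [hNreg α, Subgroup.mem_bot] at h3
    exact congrArg Subtype.val h3
  have hNcard : Nat.card N = p ^ d := by
    rw [← hcard, ← Nat.card_eq_fintype_card]
    apply Nat.card_congr
    refine Equiv.ofBijective (fun n : N => n • α) ⟨?_, ?_⟩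
    · intro n₁ n₂ h
      have h1 : (n₂⁻¹ * n₁ : N) • α = α := by
        rw [mul_smul]
        show n₂⁻¹ • n₁ • α = α
        rw [show n₁ • α = n₂ • α from h, inv_smul_smul]
      have h2 := hNfix _ (n₂⁻¹ * n₁).2 h1
      have h3 : n₂⁻¹ * n₁ = 1 := Subtype.ext h2
      exact (inv_mul_eq_one.1 h3).symm
    · intro ω
      exact MulAction.exists_smul_eq N α ω
  have hrp : r = p := by
    obtain ⟨n, hn, hn1⟩ : ∃ n ∈ N, n ≠ 1 := by
      by_contra hcon
      push Not at hcon
      exact hN1 ((Subgroup.eq_bot_iff_forall N).2 hcon)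
    have h1 : orderOf n = r := by
      rcases (Nat.dvd_prime hr).1 (orderOf_dvd_of_pow_eq_one (hNexp n hn)) with h | h
      · exact absurd (orderOf_eq_one_iff.1 h) hn1
      · exact h
    have h2 : orderOf (⟨n, hn⟩ : N) ∣ Nat.card N := orderOf_dvd_natCard _
    rw [Subgroup.orderOf_mk, h1, hNcard] at h2
    exact (Nat.prime_dvd_prime_iff_eq hr hp).1 (hr.dvd_of_dvd_pow h2)
  rw [hrp] at hNexp
  -- minimal normal subgroup of the stabilizer
  have hHnt : Nontrivial (MulAction.stabilizer G α) := (Subgroup.nontrivial_iff_ne_bot _).2 (hH α)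
  obtain ⟨M, hM⟩ := Cfsg.Agent.Lib.Helper1.exists_isMinNormal (G := MulAction.stabilizer G α)
  haveI hMn : M.Normal := hM.1
  have hM1 : M ≠ ⊥ := hM.2.1
  have hMc' : IsMulCommutative M := hM.isMulCommutative
  obtain ⟨q, hq, hMexp⟩ := hM.exists_prime_pow_eq_one
  have hMab : ∀ x ∈ M, ∀ y ∈ M, x * y = y * x := fun x hx y hy =>
    congrArg Subtype.val (hMc'.is_comm.comm (⟨x, hx⟩ : M) ⟨y, hy⟩)
  have hreg : ∀ x ∈ M, ∀ ω : Ω, ω ≠ α → (x : G) • ω = ω → x = 1 := fun x hx ω hω hfix =>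
    hEP.eq_one_of_centralizes M hM1 x (fun y hy => hMab x hx y hy) ω hω hfix
  have hself : ∀ g : MulAction.stabilizer G α, (∀ m ∈ M, g * m = m * g) → g ∈ M :=
    fun g hg => hEP.mem_of_centralizes M hM1 hMab g hg
  have horb : ∀ ω : Ω, ω ≠ α →
      Nat.card (MulAction.orbit (MulAction.stabilizer G α) ω) = Nat.card M :=
    fun ω hω => hEP.card_orbit M hM1 hMab ω hω
  have hdvd : Nat.card M ∣ p ^ d - 1 := by
    have := Cfsg.Agent.Lib.Helper19.ExtPrim.card_dvd_card_sub_one M hreg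
    rwa [Nat.card_eq_fintype_card (α := Ω), hcard] at this
  have hpnd : ¬ p ∣ p ^ d - 1 := by
    intro h
    have h1 : p ∣ p ^ d := dvd_pow_self p hd0.ne'
    have h2 : p ∣ p ^ d - (p ^ d - 1) := Nat.dvd_sub h1 h
    have h3 : p ^ d - (p ^ d - 1) = 1 := by omega
    rw [h3] at h2
    exact hp.one_lt.ne' (Nat.dvd_one.1 h2)
  have hcop : (Nat.card M).Coprime p := by
    apply Nat.Coprime.coprime_dvd_left hdvd
    exact ((Nat.Prime.coprime_iff_not_dvd hp).2 hpnd).symm
  -- M as a subgroup of G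
  set MG : Subgroup G := M.map (MulAction.stabilizer G α).subtype with hMG
  have hMGcard : Nat.card MG = Nat.card M :=
    Subgroup.card_map_of_injective (Subgroup.subtype_injective _)
  have hMGc : ∀ a ∈ MG, ∀ b ∈ MG, a * b = b * a := by
    rintro _ ⟨a, ha, rfl⟩ _ ⟨b, hb, rfl⟩
    exact congrArg Subtype.val (hMab a ha b hb)
  have hfpf : ∀ m ∈ MG, m ≠ 1 → ∀ v ∈ N, m * v * m⁻¹ = v → v = 1 := by
    rintro _ ⟨x, hx, rfl⟩ hx1 v hv hconj
    by_contra hv1
    have hvα : v • α ≠ α := fun h => hv1 (hNfix v hv h)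
    apply hx1
    have hxα : (x : G) • α = α := x.2
    have hconj' : (x : G) * v * (x : G)⁻¹ = v := hconj
    have h1 : (x : G) * v = v * (x : G) := by
      calc (x : G) * v = (x : G) * v * (x : G)⁻¹ * (x : G) := by group
        _ = v * (x : G) := by rw [hconj']
    have h2 : (x : G) • (v • α) = v • α := by
      rw [← mul_smul, h1, mul_smul, hxα]
    have := hreg x hx (v • α) hvα h2
    rw [this]; rfl
  have hMGcyc : IsCyclic MG := by
    apply Cfsg.Agent.Lib.Helper19.ExtPrim.isCyclic_of_fpf N hN1 hNcomm p hp hNexp MG hMGc _ hfpf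
    rw [hMGcard]; exact hcop
  -- |M| = q
  have hMq : Nat.card M = q := by
    rw [← hMGcard]
    obtain ⟨g, hg⟩ := hMGcyc.exists_generator
    have h1 : orderOf g = Nat.card MG := orderOf_eq_card_of_forall_mem_zpowers hg
    obtain ⟨g', hg', rfl⟩ : ∃ g' : MulAction.stabilizer G α, ∃ h : g' ∈ M,
        g = ⟨(g' : G), ⟨g', h, rfl⟩⟩ := by
      obtain ⟨g', hg', hgg⟩ := g.2
      exact ⟨g', hg', Subtype.ext hgg.symm⟩
    have h2 : (⟨(g' : G), ⟨g', hg', rfl⟩⟩ : MG) ^ q = 1 := by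
      apply Subtype.ext
      have := hMexp g' hg'
      have h3 : ((g' : G)) ^ q = 1 := by
        have := congrArg Subtype.val this
        rwa [Subgroup.coe_pow] at this
      rw [Subgroup.coe_pow]; exact h3
    have h4 : Nat.card MG ∣ q := by rw [← h1]; exact orderOf_dvd_of_pow_eq_one h2
    rcases (Nat.dvd_prime hq).1 h4 with h | h
    · exfalso
      rw [hMGcard] at h
      have : M = ⊥ := (Subgroup.card_le_one_iff_eq_bot M).1 h.le
      exact hM1 this
    · exact h
  haveI hqf := Fact.mk hq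
  have hpq : p ≠ q := by
    rintro rfl
    rw [hMq] at hcop
    exact hp.one_lt.ne' ((Nat.coprime_self p).1 hcop)
  have hqd : q ∣ p ^ d - 1 := hMq ▸ hdvd
  -- a generator
  obtain ⟨x, hxM, hx1⟩ : ∃ x ∈ M, x ≠ 1 := by
    by_contra hcon
    push Not at hcon
    exact hM1 ((Subgroup.eq_bot_iff_forall M).2 hcon)
  have hgen : ∀ m ∈ M, ∃ j : ℕ, m = x ^ j := by
    intro m hm
    have hx1' : (⟨x, hxM⟩ : M) ≠ 1 := fun h => hx1 (congrArg Subtype.val h)
    have := mem_powers_of_prime_card (G := M) hMq (g := ⟨x, hxM⟩) (g' := ⟨m, hm⟩) hx1'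
    obtain ⟨j, hj⟩ := this
    refine ⟨j, ?_⟩
    have := congrArg Subtype.val hj
    rw [Subgroup.coe_pow] at this
    exact this.symm
  have hxq : (x : G) ^ q = 1 := by
    have := congrArg Subtype.val (hMexp x hxM)
    rwa [Subgroup.coe_pow] at this
  have hxG1 : (x : G) ≠ 1 := fun h => hx1 (Subtype.ext h)
  have hnorm : ∀ (A K : Subgroup G), (∀ c ∈ A, ∀ y ∈ K, c * y * c⁻¹ ∈ K) →
      A ≤ Subgroup.normalizer (K : Set G) := by
    intro A K key c hc
    rw [Subgroup.mem_normalizer_iff]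
    intro y
    refine ⟨key c hc y, fun h => ?_⟩
    have := key c⁻¹ (A.inv_mem hc) _ h
    simpa [mul_assoc] using this
  have hMG1 : MG ≠ ⊥ := by
    intro h
    have : (x : G) ∈ MG := ⟨x, hxM, rfl⟩
    rw [h, Subgroup.mem_bot] at this
    exact hxG1 this
  have hMGle : MG ≤ MulAction.stabilizer G α := by
    rintro _ ⟨y, _, rfl⟩
    exact y.2
  have hHnorm : MulAction.stabilizer G α ≤ Subgroup.normalizer (MG : Set G) := by
    apply hnorm
    rintro c hc _ ⟨y, hy, rfl⟩
    exact ⟨(⟨c, hc⟩ : MulAction.stabilizer G α) * y * (⟨c, hc⟩ : MulAction.stabilizer G α)⁻¹,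
      hMn.conj_mem y hy _, rfl⟩
  have hMGgen : ∀ m ∈ MG, ∃ j : ℕ, m = (x : G) ^ j := by
    rintro _ ⟨y, hy, rfl⟩
    obtain ⟨j, rfl⟩ := hgen y hy
    exact ⟨j, by rw [Subgroup.coe_subtype, Subgroup.coe_pow]⟩
  have h3495 := (Cfsg.Agent.S3495.result hprim hH hep N hNc p hp hNexp hNtr hNreg α MG hMG1 hMGle
    hHnorm).2
  have hirr : ∀ L : Subgroup G, L ≤ N → (∀ l ∈ L, (x : G) * l * (x : G)⁻¹ ∈ L) →
      L = ⊥ ∨ L = N := by
    intro L hLN hLx
    apply h3495 L hLN
    apply hnorm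
    intro c hc y hy
    obtain ⟨j, rfl⟩ := hMGgen c hc
    induction j with
    | zero => simpa using hy
    | succ j ih =>
      have h1 : (x : G) ^ j ∈ MG := by
        have : ((x ^ j : MulAction.stabilizer G α) : G) ∈ MG := ⟨x ^ j, M.pow_mem hxM j, rfl⟩
        rwa [Subgroup.coe_pow] at this
      have h2 := hLx _ (ih h1)
      have h3 : (x : G) ^ (j + 1) * y * ((x : G) ^ (j + 1))⁻¹ =
          (x : G) * ((x : G) ^ j * y * ((x : G) ^ j)⁻¹) * (x : G)⁻¹ := by
        rw [pow_succ']; group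
      rw [h3]; exact h2
  obtain ⟨v₀, hv₀, hv₀1⟩ : ∃ v ∈ N, v ≠ 1 := by
    by_contra hcon
    push Not at hcon
    exact hN1 ((Subgroup.eq_bot_iff_forall N).2 hcon)
  have hact : ∃ v ∈ N, (x : G) * v * (x : G)⁻¹ ≠ v :=
    ⟨v₀, hv₀, fun h => hv₀1 (hfpf _ ⟨x, hxM, rfl⟩ hxG1 v₀ hv₀ h)⟩
  have hdord : d = orderOf (p : ZMod q) := by
    have h1 := Cfsg.Agent.Lib.Helper19.ExtPrim.card_eq_pow_orderOf N hN1 hNcomm p hNexp (x : G) hirr
      q hpq hxq hact
    rw [hNcard] at h1
    exact Nat.pow_right_injective hp.two_le h1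
  have hnum : ∀ i : ℕ, 0 < i → i < d → ¬ q ∣ p ^ i - 1 := by
    intro i hi0 hid hqi
    have h1 : ((p ^ i - 1 : ℕ) : ZMod q) = 0 := (ZMod.natCast_eq_zero_iff _ _).2 hqi
    rw [Nat.cast_sub (Nat.one_le_pow _ _ hp.pos), Nat.cast_pow, Nat.cast_one, sub_eq_zero] at h1
    have h2 := orderOf_dvd_of_pow_eq_one h1
    rw [← hdord] at h2
    exact absurd (Nat.le_of_dvd hi0 h2) (not_le.2 hid)
  have hfrob : ∀ g : MulAction.stabilizer G α, ∃ n : ℕ, ∀ m ∈ M, g * m * g⁻¹ = m ^ (p ^ n) := by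
    intro g
    obtain ⟨k, hk⟩ := hgen _ (hMn.conj_mem x hxM g)
    have hkG : (g : G) * (x : G) * (g : G)⁻¹ = (x : G) ^ k := by
      have := congrArg Subtype.val hk
      rwa [Subgroup.coe_pow] at this
    obtain ⟨n, hn⟩ := Cfsg.Agent.Lib.Helper19.ExtPrim.conj_acts_like_frobenius_pow N hN1 hNcomm p
      hNexp (x : G) hirr (g : G) k hkG
    -- the quotient acts trivially on N, hence is trivial
    have hy : ((x : G) ^ (p ^ n))⁻¹ * ((g : G) * (x : G) * (g : G)⁻¹) = 1 := by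
      by_contra hy1
      apply hv₀1
      apply hfpf _ _ hy1 v₀ hv₀
      · have h1 := hn v₀ hv₀
        calc ((x : G) ^ (p ^ n))⁻¹ * ((g : G) * (x : G) * (g : G)⁻¹) * v₀ *
              (((x : G) ^ (p ^ n))⁻¹ * ((g : G) * (x : G) * (g : G)⁻¹))⁻¹
            = ((x : G) ^ (p ^ n))⁻¹ * (((g : G) * (x : G) * (g : G)⁻¹) * v₀ *
              ((g : G) * (x : G) * (g : G)⁻¹)⁻¹) * (x : G) ^ (p ^ n) := by group
          _ = v₀ := by rw [h1]; group
      · rw [hkG]
        have h1 : (x : G) ^ k ∈ MG := by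
          have : ((x ^ k : MulAction.stabilizer G α) : G) ∈ MG := ⟨x ^ k, M.pow_mem hxM k, rfl⟩
          rwa [Subgroup.coe_pow] at this
        have h2 : (x : G) ^ (p ^ n) ∈ MG := by
          have : ((x ^ (p ^ n) : MulAction.stabilizer G α) : G) ∈ MG :=
            ⟨x ^ (p ^ n), M.pow_mem hxM _, rfl⟩
          rwa [Subgroup.coe_pow] at this
        exact MG.mul_mem (MG.inv_mem h2) h1
    have hconj : g * x * g⁻¹ = x ^ (p ^ n) := by
      apply Subtype.ext
      have h1 : (g : G) * (x : G) * (g : G)⁻¹ = (x : G) ^ (p ^ n) := by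
        have := congrArg (fun t => (x : G) ^ (p ^ n) * t) hy
        simpa using this
      rw [Subgroup.coe_pow]
      exact h1
    refine ⟨n, fun m hm => ?_⟩
    obtain ⟨j, rfl⟩ := hgen m hm
    rw [← conj_pow, hconj, ← pow_mul, ← pow_mul, mul_comm]
  obtain ⟨⟨h, hh⟩, hcardH⟩ := Cfsg.Agent.Lib.Helper19.ExtPrim.cyclic_quotient_of_frobenius_conj M
    q p d hq hMq hqd hd0 hp.pos hself hfrob
  refine ⟨q, hq, fun ω hω => by rw [horb ω hω, hMq], hqd, hnum, MG, hMGle, hHnorm,
    by rw [hMGcard, hMq], ⟨(h : G), ?_⟩, hcardH⟩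
  have := congrArg (Subgroup.map (MulAction.stabilizer G α).subtype) hh
  rw [Subgroup.map_sup, MonoidHom.map_zpowers, ← MonoidHom.range_eq_map,
    Subgroup.range_subtype] at this
  exact this

end Cfsg.Agent.S3496
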