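import Cfsg.Statements.S3497
import Cfsg.Agent.Lib.Helper19.ExtPrimFit

set_option autoImplicit false
open Cfsg

namespace Cfsg.Agent.S3497

/-- Restrictions on the point stabilizer of an extremely primitive group. Let a finite group G act faithfully and primitively on a finite set Ω with point stabilizers H = G_α whose order is neither 1 nor a prime, each acting primitively on every one of its orbits. Then H has trivial center, the Fitting subgroup F(H) is an elementary abelian p-group for some prime p, and if F(H) ≠ 1 has order p ^ e then p ^ e divides the number of points minus one and H / F(H) embeds in GL_e(p) (there is a homomorphism from H to GL_e(p) with kernel exactly F(H)). -/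
theorem result {G : Type*} [Group G] [Finite G] {Ω : Type*} [Fintype Ω] [MulAction G Ω] [FaithfulSMul G Ω] (hprim : MulAction.IsPreprimitive G Ω) (hep : ∀ (α : Ω) (ω : Ω), MulAction.IsPreprimitive (MulAction.stabilizer G α) (MulAction.orbit (MulAction.stabilizer G α) ω)) (α : Ω)
    (hH1 : MulAction.stabilizer G α ≠ ⊥) (hHp : ¬ (Nat.card (MulAction.stabilizer G α)).Prime) :
    Subgroup.center (MulAction.stabilizer G α) = ⊥ ∧
    IsMulCommutative (Cfsg.fittingSubgroup (MulAction.stabilizer G α)) ∧
    ∃ p e : ℕ, p.Prime ∧ Nat.card (Cfsg.fittingSubgroup (MulAction.stabilizer G α)) = p ^ e ∧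
      (∀ x ∈ Cfsg.fittingSubgroup (MulAction.stabilizer G α), x ^ p = 1) ∧
      (Cfsg.fittingSubgroup (MulAction.stabilizer G α) ≠ ⊥ →
        p ^ e ∣ Fintype.card Ω - 1 ∧
        ∃ φ : MulAction.stabilizer G α →* GL (Fin e) (ZMod p), φ.ker = Cfsg.fittingSubgroup (MulAction.stabilizer G α)) := by
  classical
  have htr := hprim.toIsPretransitive
  have hnonreg : ∀ β : Ω, MulAction.stabilizer G β ≠ ⊥ := by
    intro β hβ
    obtain ⟨g, rfl⟩ := MulAction.exists_smul_eq G α β
    apply hH1
    rw [Subgroup.eq_bot_iff_forall]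
    intro x hx
    have h1 : g * x * g⁻¹ ∈ MulAction.stabilizer G (g • α) := by
      rw [MulAction.mem_stabilizer_iff, mul_smul, mul_smul, inv_smul_smul,
        MulAction.mem_stabilizer_iff.1 hx]
    rw [hβ, Subgroup.mem_bot] at h1
    have h2 : x = g⁻¹ * (g * x * g⁻¹) * g := by group
    rw [h2, h1]; group
  have hEP : Cfsg.Agent.Lib.Helper19.ExtPrim.EP G Ω := ⟨hprim, hnonreg, hep⟩
  refine ⟨hEP.center_eq_bot α hHp, ?_⟩
  by_cases hF : Cfsg.fittingSubgroup (MulAction.stabilizer G α) = ⊥
  · have hone : ∀ x ∈ Cfsg.fittingSubgroup (MulAction.stabilizer G α), x = 1 := by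
      intro x hx
      rw [hF, Subgroup.mem_bot] at hx
      exact hx
    refine ⟨⟨⟨fun a b => ?_⟩⟩, 2, 0, Nat.prime_two, ?_, ?_, fun h => absurd hF h⟩
    · apply Subtype.ext
      show (a : MulAction.stabilizer G α) * b = b * a
      rw [hone a a.2, hone b b.2]
    · rw [hF, Subgroup.card_bot, pow_zero]
    · intro x hx
      rw [hone x hx, one_pow]
  · obtain ⟨hab, hcc, hreg, p, e, hp, hcard, hexp⟩ := hEP.fitting α hF
    refine ⟨⟨⟨fun a b => Subtype.ext (hab a a.2 b b.2)⟩⟩, p, e, hp, hcard, hexp, fun _ => ⟨?_, ?_⟩⟩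
    · have := Cfsg.Agent.Lib.Helper19.ExtPrim.card_dvd_card_sub_one
        (Cfsg.fittingSubgroup (MulAction.stabilizer G α)) hreg
      rw [hcard, Nat.card_eq_fintype_card] at this
      exact this
    · haveI := Fact.mk hp
      haveI : (Cfsg.fittingSubgroup (MulAction.stabilizer G α)).Normal :=
        Cfsg.Agent.Lib.Helper1.fittingSubgroup_normal _
      obtain ⟨φ, hφ⟩ := Cfsg.Agent.Lib.Helper19.ExtPrim.exists_hom_GL
        (Cfsg.fittingSubgroup (MulAction.stabilizer G α)) p e hab hexp hcard
      refine ⟨φ, ?_⟩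
      ext g
      rw [hφ]
      constructor
      · intro hg
        exact hcc g hg
      · intro hg x hx
        exact hab g hg x hx

end Cfsg.Agent.S3497
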