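import Cfsg.Statements.S3498
-- import your own Cfsg.Agent.* helpers here

set_option autoImplicit false
open Cfsg

namespace Cfsg.Agent.S3498

theorem not_isPGroup_of_simple {T : Type*} [Group T] [Finite T] [IsSimpleGroup T]
    (h : ¬ IsMulCommutative T) (r : ℕ) [Fact r.Prime] : ¬ IsPGroup r T := by
  intro hT
  haveI : Nontrivial (Subgroup.center T) := hT.center_nontrivial
  rcases (inferInstance : (Subgroup.center T).Normal).eq_bot_or_eq_top with h0 | h1
  · exact (Subgroup.nontrivial_iff_ne_bot _).mp inferInstance h0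
  · apply h
    rw [isMulCommutative_iff]
    intro a b
    have hb : b ∈ Subgroup.center T := by rw [h1]; trivial
    exact (Subgroup.mem_center_iff.mp hb a)

/-- the B2 case: `H` a `p`-group with `H ⊓ T = ⊥`, `p ∤ |T|`, `H` maximal. -/
theorem caseB2 {G : Type*} [Group G] [Finite G] (T : Subgroup G) [T.Normal] [IsSimpleGroup T]
    (hTc : ¬ IsMulCommutative T) (H : Subgroup G) (hmax : IsCoatom H) (p : ℕ) [Fact p.Prime]
    (hHp : IsPGroup p H) (hHT : H ⊓ T = ⊥) (hpT : ¬ p ∣ Nat.card T) : False := by
  classical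
  have hT1 : Nat.card T ≠ 1 := by
    have := Finite.one_lt_card (α := T)
    omega
  obtain ⟨r, hr, hrT⟩ := Nat.exists_prime_and_dvd hT1
  have : Fact r.Prime := ⟨hr⟩
  let act : MulAction H (Sylow r T) := MulAction.compHom (Sylow r T)
    ((ConjAct.toConjAct (G := G)).toMonoidHom.comp H.subtype)
  have hcard : ¬ p ∣ Nat.card (Sylow r T) := by
    intro hdvd
    obtain ⟨R0⟩ : Nonempty (Sylow r T) := inferInstance
    exact hpT (hdvd.trans ((R0.card_dvd_index).trans (Subgroup.index_dvd_card _)))
  obtain ⟨R, hR⟩ := hHp.nonempty_fixed_point_of_prime_not_dvd_card (Sylow r T) hcard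
  rw [MulAction.mem_fixedPoints] at hR
  set K : Subgroup G := (R : Subgroup T).map T.subtype with hK
  have hinv : ∀ h ∈ H, ∀ x ∈ K, h * x * h⁻¹ ∈ K := by
    intro h hh x hx
    obtain ⟨y, hy, rfl⟩ := hx
    have h1 : (ConjAct.toConjAct h) • R = R := hR ⟨h, hh⟩
    have h2 : (ConjAct.toConjAct h) • y ∈ ((ConjAct.toConjAct h) • R : Sylow r T) := by
      rw [← SetLike.mem_coe, ← Sylow.coe_coe, Sylow.pointwise_smul_def]
      exact Subgroup.smul_mem_pointwise_smul _ _ _ hy
    rw [h1] at h2
    refine ⟨(ConjAct.toConjAct h) • y, h2, ?_⟩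
    rw [Subgroup.coe_subtype, ConjAct.Subgroup.val_conj_smul, ConjAct.toConjAct_smul]
  have hHN : H ≤ Subgroup.normalizer (K : Set G) := by
    intro h hh
    rw [Subgroup.mem_normalizer_iff]
    intro x
    constructor
    · exact hinv h hh x
    · intro hx
      have := hinv h⁻¹ (H.inv_mem hh) _ hx
      simpa [mul_assoc] using this
  have hKN : K ≤ Subgroup.normalizer (K : Set G) := Subgroup.le_normalizer
  have hKT : K ≤ T := Subgroup.map_subtype_le _
  have hRbot : (R : Subgroup T) ≠ ⊥ := R.ne_bot_of_dvd_card hrT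
  have hKbot : K ≠ ⊥ := by
    intro h
    apply hRbot
    exact (Subgroup.map_eq_bot_iff_of_injective _ (Subgroup.subtype_injective T)).mp h
  have hlt : H < H ⊔ K := by
    apply lt_of_le_of_ne le_sup_left
    intro h
    apply hKbot
    have hKH : K ≤ H := by rw [h]; exact le_sup_right
    rw [eq_bot_iff, ← hHT]
    exact le_inf hKH hKT
  have htop : H ⊔ K = ⊤ := hmax.2 _ hlt
  have hNtop : Subgroup.normalizer (K : Set G) = ⊤ := by
    rw [eq_top_iff, ← htop]
    exact sup_le hHN hKN
  have hKnormal : K.Normal := Subgroup.normalizer_eq_top_iff.mp hNtop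
  have hRK : K.subgroupOf T = (R : Subgroup T) := by
    rw [hK]
    exact Subgroup.comap_map_eq_self_of_injective (Subgroup.subtype_injective T) _
  have hRn : (R : Subgroup T).Normal := by
    rw [← hRK]; infer_instance
  rcases hRn.eq_bot_or_eq_top with h0 | h1
  · exact hRbot h0
  · apply not_isPGroup_of_simple hTc r
    intro t
    have ht : t ∈ (R : Subgroup T) := by rw [h1]; trivial
    obtain ⟨k, hk⟩ := R.isPGroup' ⟨t, ht⟩
    exact ⟨k, congrArg Subtype.val hk⟩


open scoped Pointwise in
theorem sylow_conj_mem {G : Type*} [Group G] [Finite G] (p : ℕ) [Fact p.Prime] (P Q : Sylow p G)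
    (t : G) (ht : t ∈ (Q : Subgroup G)) : ∃ g s : G, s ∈ (P : Subgroup G) ∧ g * s * g⁻¹ = t := by
  obtain ⟨g, hg⟩ := MulAction.exists_smul_eq G P Q
  have h3 : ((g • P : Sylow p G) : Subgroup G) = MulAut.conj g • (P : Subgroup G) := by
    rw [Sylow.smul_def, Sylow.pointwise_smul_def]
  rw [← hg, h3, Subgroup.mem_smul_pointwise_iff_exists] at ht
  obtain ⟨s, hsP, hst⟩ := ht
  rw [MulAut.smul_def, MulAut.conj_apply] at hst
  exact ⟨g, s, hsP, hst⟩

/-- A maximal subgroup of a finite almost simple group does not have prime order. Here G is almost simple in the sense that it has a non-abelian simple normal subgroup T with trivial centralizer. -/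
theorem result {G : Type*} [Group G] [Finite G] (T : Subgroup G) [T.Normal] (hT : IsSimpleGroup T) (hTc : ¬ IsMulCommutative T)
    (hC : Subgroup.centralizer (T : Set G) = ⊥) (H : Subgroup G) (hmax : IsCoatom H) : ¬ (Nat.card H).Prime := by
  classical
  intro hprime
  haveI : IsSimpleGroup T := hT
  set p := Nat.card H with hp
  haveI : Fact p.Prime := ⟨hprime⟩
  have hHp : IsPGroup p H := IsPGroup.of_card (n := 1) (by rw [pow_one])
  have hTnot : ¬ IsPGroup p T := not_isPGroup_of_simple hTc p
  have hTH : ¬ T ≤ H := fun h => hTnot (hHp.to_le h)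
  obtain ⟨P, hHP⟩ := hHp.exists_le_sylow
  have hPH : (P : Subgroup G) = H := by
    by_contra hne
    have hlt : H < (P : Subgroup G) := lt_of_le_of_ne hHP (Ne.symm hne)
    have htop : (P : Subgroup G) = ⊤ := hmax.2 _ hlt
    have hG : IsPGroup p G := by
      intro g
      have hg : g ∈ (P : Subgroup G) := by rw [htop]; trivial
      obtain ⟨k, hk⟩ := P.isPGroup' ⟨g, hg⟩
      exact ⟨k, congrArg Subtype.val hk⟩
    exact hTnot (hG.to_subgroup T)
  by_cases hpT : p ∣ Nat.card T
  · -- H ≤ T
    obtain ⟨t, ht⟩ := exists_prime_orderOf_dvd_card' (G := T) p hpT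
    have htG : orderOf (t : G) = p := by rw [Subgroup.orderOf_coe]; exact ht
    have hzp : IsPGroup p (Subgroup.zpowers (t : G)) :=
      IsPGroup.of_card (n := 1) (by rw [pow_one, Nat.card_zpowers, htG])
    obtain ⟨Q, hQ⟩ := hzp.exists_le_sylow
    have htQ : (t : G) ∈ (Q : Subgroup G) := hQ (Subgroup.mem_zpowers _)
    obtain ⟨g, s, hsP, hst⟩ := sylow_conj_mem p P Q (t : G) htQ
    have hsH : s ∈ H := by rw [← hPH]; exact hsP
    have hsT : s ∈ T := by
      have h1 : s = g⁻¹ * (t : G) * g⁻¹⁻¹ := by rw [← hst]; group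
      rw [h1]
      exact Subgroup.Normal.conj_mem inferInstance _ t.2 _
    have hs1 : s ≠ 1 := by
      intro h
      rw [h] at hst
      have : (t : G) = 1 := by rw [← hst]; group
      rw [this, orderOf_one] at htG
      exact hprime.one_lt.ne htG
    have hHleT : H ≤ T := by
      haveI : Fact (Nat.card H).Prime := ⟨hprime⟩
      rcases Subgroup.eq_bot_or_eq_top_of_prime_card (T.subgroupOf H) with h0 | h1
      · exfalso
        have : (⟨s, hsH⟩ : H) ∈ T.subgroupOf H := Subgroup.mem_subgroupOf.mpr hsT
        rw [h0, Subgroup.mem_bot] at this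
        exact hs1 (congrArg Subtype.val this)
      · exact Subgroup.subgroupOf_eq_top.mp h1
    have hTtop : T = ⊤ := by
      apply hmax.2
      exact lt_of_le_of_ne hHleT (fun h => hTH (h ▸ le_refl _))
    haveI : IsSimpleGroup G := by
      have e : T ≃* G := (MulEquiv.subgroupCongr hTtop).trans Subgroup.topEquiv
      exact e.symm.isSimpleGroup
    have hHbot : H ≠ ⊥ := by
      intro h
      have : Nat.card H = 1 := by rw [h]; exact Subgroup.card_bot
      rw [← hp] at this
      exact hprime.one_lt.ne' this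
    have hNP : Subgroup.normalizer ((P : Subgroup G) : Set G) = (P : Subgroup G) := by
      have hle : (P : Subgroup G) ≤ Subgroup.normalizer ((P : Subgroup G) : Set G) :=
        Subgroup.le_normalizer
      by_contra hne
      have hlt : (P : Subgroup G) < Subgroup.normalizer ((P : Subgroup G) : Set G) :=
        lt_of_le_of_ne hle (Ne.symm hne)
      rw [hPH] at hlt
      have htop := hmax.2 _ hlt
      have hn : H.Normal := Subgroup.normalizer_eq_top_iff.mp htop
      rcases hn.eq_bot_or_eq_top with h0 | h1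
      · exact hHbot h0
      · exact hmax.1 h1
    have hcomm : ∀ x ∈ H, ∀ y ∈ H, y * x = x * y := by
      haveI : Fact (Nat.card H).Prime := ⟨hprime⟩
      haveI : IsCyclic H := isCyclic_of_prime_card rfl
      intro x hx y hy
      have := mul_comm' (⟨y, hy⟩ : H) ⟨x, hx⟩
      exact congrArg Subtype.val this
    have hP : Subgroup.normalizer ((P : Subgroup G) : Set G) ≤
        Subgroup.centralizer ((P : Subgroup G) : Set G) := by
      rw [hNP, hPH]
      intro x hx
      rw [Subgroup.mem_centralizer_iff]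
      intro y hy
      exact hcomm x hx y hy
    have hcompl := MonoidHom.ker_transferSylow_isComplement' P hP
    rcases (inferInstance : (MonoidHom.transferSylow P hP).ker.Normal).eq_bot_or_eq_top with h0 | h1
    · rw [h0, Subgroup.isComplement'_bot_left, hPH] at hcompl
      exact hmax.1 hcompl
    · rw [h1, Subgroup.isComplement'_top_left, hPH] at hcompl
      exact hHbot hcompl
  · -- coprime case
    have hHT : H ⊓ T = ⊥ := by
      have h1 : Nat.card (H ⊓ T : Subgroup G) ∣ p := Subgroup.card_dvd_of_le inf_le_left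
      have h2 : Nat.card (H ⊓ T : Subgroup G) ∣ Nat.card T := Subgroup.card_dvd_of_le inf_le_right
      rcases (Nat.dvd_prime hprime).mp h1 with h | h
      · exact Subgroup.card_eq_one.mp h
      · exact absurd (h ▸ h2) hpT
    exact caseB2 T hTc H hmax p hHp hHT hpT

end Cfsg.Agent.S3498
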