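import Cfsg.Statements.S3501
import Cfsg.Agent.Lib.Helper19.UniqueDer

set_option autoImplicit false
open Cfsg

namespace Cfsg.Agent.S3501

/-- Let a finite group G act faithfully and primitively on a finite set Ω with at least two points, and suppose G is not almost simple (it has no non-abelian simple normal subgroup with trivial centralizer). Then the derangements of G form a single conjugacy class if and only if G is sharply 2-transitive (2-transitive, and no non-identity element fixes two points). -/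
theorem result {G : Type*} [Group G] [Finite G] {Ω : Type*} [Fintype Ω] [MulAction G Ω] [FaithfulSMul G Ω] (hΩ : 2 ≤ Fintype.card Ω) (hprim : MulAction.IsPreprimitive G Ω) (hnas : ¬ ∃ T : Subgroup G, T.Normal ∧ IsSimpleGroup T ∧ ¬ IsMulCommutative T ∧ Subgroup.centralizer (T : Set G) = ⊥) :
    Nat.card {c : ConjClasses G // ∃ g : G, ConjClasses.mk g = c ∧ ∀ ω : Ω, g • ω ≠ ω} = 1 ↔ (MulAction.IsMultiplyPretransitive G Ω 2 ∧ ∀ g : G, g ≠ 1 → ∀ a b : Ω, a ≠ b → g • a = a → g • b ≠ b) := by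
  classical
  have hΩ' : 2 ≤ Nat.card Ω := by rw [Nat.card_eq_fintype_card]; exact hΩ
  haveI : MulAction.IsPretransitive G Ω := hprim.toIsPretransitive
  constructor
  · intro hcard
    rw [Nat.card_eq_one_iff_unique] at hcard
    obtain ⟨hsub, ⟨⟨c, x₀, hc, hx₀⟩⟩⟩ := hcard
    have hD : ∀ y : G, (∀ ω : Ω, y • ω ≠ ω) → ∃ g : G, y = g * x₀ * g⁻¹ := by
      intro y hy
      have := hsub.elim ⟨ConjClasses.mk y, y, rfl, hy⟩ ⟨c, x₀, hc, hx₀⟩
      have h2 : ConjClasses.mk y = c := congrArg Subtype.val this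
      rw [← hc, ConjClasses.mk_eq_mk_iff_isConj, isConj_comm, isConj_iff] at h2
      obtain ⟨g, hg⟩ := h2
      exact ⟨g, hg.symm⟩
    obtain ⟨h2, hs⟩ := Cfsg.Agent.Lib.Helper19.UniqueDer.forward hΩ' hprim hnas x₀ hx₀ hD
    refine ⟨?_, hs⟩
    rw [MulAction.is_two_pretransitive_iff]
    intro a b c d hab hcd
    obtain ⟨t, ht⟩ := MulAction.exists_smul_eq G a c
    have htb : t • b ≠ c := by
      intro h
      rw [← ht] at h
      exact hab (smul_left_cancel _ h).symm
    obtain ⟨h, hhc, hhb⟩ := h2 c (t • b) d htb (Ne.symm hcd)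
    refine ⟨h * t, ?_, ?_⟩
    · rw [mul_smul, ht, hhc]
    · rw [mul_smul, hhb]
  · rintro ⟨h2t, hs⟩
    rw [MulAction.is_two_pretransitive_iff] at h2t
    have h2 : ∀ a b c : Ω, b ≠ a → c ≠ a → ∃ h : G, h • a = a ∧ h • b = c := by
      intro a b c hba hca
      exact h2t (Ne.symm hba) (Ne.symm hca)
    obtain ⟨x₀, hx₀, hD⟩ := Cfsg.Agent.Lib.Helper19.UniqueDer.backward hΩ' h2 hs
    rw [Nat.card_eq_one_iff_unique]
    refine ⟨⟨?_⟩, ⟨⟨ConjClasses.mk x₀, x₀, rfl, hx₀⟩⟩⟩
    rintro ⟨c, y, rfl, hy⟩ ⟨c', y', rfl, hy'⟩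
    apply Subtype.ext
    show ConjClasses.mk y = ConjClasses.mk y'
    obtain ⟨g, hg⟩ := hD y hy
    obtain ⟨g', hg'⟩ := hD y' hy'
    rw [ConjClasses.mk_eq_mk_iff_isConj, isConj_iff]
    refine ⟨g' * g⁻¹, ?_⟩
    rw [hg, hg']
    group

end Cfsg.Agent.S3501
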