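import Cfsg.Statements.S3504
-- import your own Cfsg.Agent.* helpers here

set_option autoImplicit false
open Cfsg

namespace Cfsg.Agent.S3504

theorem lcm_replicate_succ (k p : ℕ) : (Multiset.replicate (k + 1) p).lcm = p := by
  induction k with
  | zero =>
    rw [zero_add, Multiset.replicate_one, ← Multiset.cons_zero, Multiset.lcm_cons, Multiset.lcm_zero]
    exact Nat.lcm_one_right p
  | succ k ih =>
    rw [Multiset.replicate_succ, Multiset.lcm_cons, ih]
    exact Nat.lcm_self p

/-- a fixed-point-free permutation of prime order `p ∣ n`. -/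
theorem exists_derangement (n p : ℕ) (hn : 0 < n) (hp : p.Prime) (hpn : p ∣ n) :
    ∃ g : Equiv.Perm (Fin n), g.cycleType = Multiset.replicate (n / p) p ∧ orderOf g = p ∧
      ∀ i : Fin n, g i ≠ i := by
  have hk : 0 < n / p := Nat.div_pos (Nat.le_of_dvd hn hpn) hp.pos
  obtain ⟨g, hg⟩ := (Equiv.Perm.exists_with_cycleType_iff (Fin n)
    (m := Multiset.replicate (n / p) p)).2 ⟨by
      rw [Multiset.sum_replicate, smul_eq_mul, Fintype.card_fin, Nat.div_mul_cancel hpn],
    fun a ha => by rw [Multiset.eq_of_mem_replicate ha]; exact hp.two_le⟩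
  refine ⟨g, hg, ?_, ?_⟩
  · rw [← Equiv.Perm.lcm_cycleType, hg]
    obtain ⟨k, hk'⟩ := Nat.exists_eq_succ_of_ne_zero hk.ne'
    rw [hk']
    exact lcm_replicate_succ k p
  · have hsupp : g.support.card = n := by
      rw [← Equiv.Perm.sum_cycleType, hg, Multiset.sum_replicate, smul_eq_mul,
        Nat.div_mul_cancel hpn]
    have huniv : g.support = Finset.univ := by
      apply Finset.eq_univ_of_card
      rw [hsupp, Fintype.card_fin]
    intro i
    have : i ∈ g.support := by rw [huniv]; exact Finset.mem_univ i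
    exact Equiv.Perm.mem_support.1 this

/-- the cycle type of a fixed-point-free permutation of prime order. -/
theorem cycleType_of_derangement (n : ℕ) (g : Equiv.Perm (Fin n)) (hg : (orderOf g).Prime)
    (hfix : ∀ i : Fin n, g i ≠ i) :
    orderOf g ∣ n ∧ g.cycleType = Multiset.replicate (n / orderOf g) (orderOf g) := by
  obtain ⟨k, hk⟩ := Equiv.Perm.cycleType_prime_order hg
  have huniv : g.support = Finset.univ := by
    ext i
    simp only [Equiv.Perm.mem_support, Finset.mem_univ, iff_true]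
    exact hfix i
  have hsum : (k + 1) * orderOf g = n := by
    have := Equiv.Perm.sum_cycleType g
    rw [hk, Multiset.sum_replicate, smul_eq_mul, huniv, Finset.card_univ, Fintype.card_fin] at this
    exact this
  set q := orderOf g with hq
  have hsum' : n = q * (k + 1) := by rw [mul_comm]; exact hsum.symm
  refine ⟨⟨k + 1, hsum'⟩, ?_⟩
  rw [hk]
  congr 1
  exact (Nat.div_eq_of_eq_mul_right hg.pos hsum').symm

/-- For n ≥ 5, the fixed-point-free permutations of prime order in the symmetric group of degree n form a single conjugacy class if and only if n is a prime power. -/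
theorem result (n : ℕ) (hn : 5 ≤ n) :
    Nat.card {c : ConjClasses (Equiv.Perm (Fin n)) // ∃ g : Equiv.Perm (Fin n), ConjClasses.mk g = c ∧ (orderOf g).Prime ∧ ∀ i : Fin n, g i ≠ i} = 1 ↔ IsPrimePow n := by
  have hn0 : 0 < n := by omega
  constructor
  · intro hcard
    obtain ⟨hsub, _⟩ := Nat.card_eq_one_iff_unique.1 hcard
    rw [isPrimePow_iff_unique_prime_dvd]
    obtain ⟨p, hp, hpn⟩ := Nat.exists_prime_and_dvd (show n ≠ 1 by omega)
    refine ⟨p, ⟨hp, hpn⟩, ?_⟩
    rintro q ⟨hq, hqn⟩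
    obtain ⟨g, hgt, hgo, hgf⟩ := exists_derangement n p hn0 hp hpn
    obtain ⟨h, hht, hho, hhf⟩ := exists_derangement n q hn0 hq hqn
    have e := hsub.elim
      (⟨ConjClasses.mk g, g, rfl, by rw [hgo]; exact hp, hgf⟩ :
        {c : ConjClasses (Equiv.Perm (Fin n)) // ∃ g : Equiv.Perm (Fin n),
          ConjClasses.mk g = c ∧ (orderOf g).Prime ∧ ∀ i : Fin n, g i ≠ i})
      ⟨ConjClasses.mk h, h, rfl, by rw [hho]; exact hq, hhf⟩
    have e' : ConjClasses.mk g = ConjClasses.mk h := congrArg Subtype.val e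
    rw [ConjClasses.mk_eq_mk_iff_isConj, Equiv.Perm.isConj_iff_cycleType_eq, hgt, hht] at e'
    have hk : 0 < n / q := Nat.div_pos (Nat.le_of_dvd hn0 hqn) hq.pos
    have hmem : q ∈ Multiset.replicate (n / q) q := by
      rw [Multiset.mem_replicate]; exact ⟨hk.ne', rfl⟩
    rw [← e'] at hmem
    exact Multiset.eq_of_mem_replicate hmem
  · intro hpp
    rw [isPrimePow_iff_unique_prime_dvd] at hpp
    obtain ⟨p, ⟨hp, hpn⟩, huniq⟩ := hpp
    rw [Nat.card_eq_one_iff_unique]
    constructor
    · constructor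
      rintro ⟨c₁, g₁, rfl, hg₁, hf₁⟩ ⟨c₂, g₂, rfl, hg₂, hf₂⟩
      apply Subtype.ext
      show ConjClasses.mk g₁ = ConjClasses.mk g₂
      rw [ConjClasses.mk_eq_mk_iff_isConj, Equiv.Perm.isConj_iff_cycleType_eq]
      obtain ⟨hd₁, ht₁⟩ := cycleType_of_derangement n g₁ hg₁ hf₁
      obtain ⟨hd₂, ht₂⟩ := cycleType_of_derangement n g₂ hg₂ hf₂
      have e₁ : orderOf g₁ = p := huniq _ ⟨hg₁, hd₁⟩
      have e₂ : orderOf g₂ = p := huniq _ ⟨hg₂, hd₂⟩
      rw [ht₁, ht₂, e₁, e₂]
    · obtain ⟨g, hgt, hgo, hgf⟩ := exists_derangement n p hn0 hp hpn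
      exact ⟨⟨ConjClasses.mk g, g, rfl, by rw [hgo]; exact hp, hgf⟩⟩

end Cfsg.Agent.S3504
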