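import Cfsg.Statements.S3508
-- import your own Cfsg.Agent.* helpers here
import Mathlib
import Cfsg.Agent.Lib.Helper1.AffineOrder

set_option autoImplicit false
open Cfsg

namespace Cfsg.Agent.S3508

/-- Let a finite group G act faithfully on a set Ω with p ^ m points (p prime) and have an elementary abelian normal p-subgroup N acting regularly on Ω (so G is a group of affine transformations of an m-dimensional space over the field with p elements). If G contains an element of order p ^ r with r ≥ 1, then p ^ (r − 1) ≤ m. In particular an element of order p ^ m forces m ≤ 2, and m ≤ 1 when p is odd. -/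
theorem result {G : Type*} [Group G] [Finite G] {Ω : Type*} [Fintype Ω] [MulAction G Ω] [FaithfulSMul G Ω] (p m : ℕ) (hp : p.Prime) (hcard : Fintype.card Ω = p ^ m)
    (N : Subgroup G) [N.Normal] (hNc : IsMulCommutative N) (hNp : ∀ n ∈ N, n ^ p = 1)
    (hNtr : MulAction.IsPretransitive N Ω) (hNreg : ∀ ω : Ω, MulAction.stabilizer N ω = ⊥)
    (g : G) (r : ℕ) (hr : 1 ≤ r) (hg : orderOf g = p ^ r) :
    p ^ (r - 1) ≤ m ∧ (r = m → m ≤ 2 ∧ (2 < p → m ≤ 1)) := by
  haveI : Fact p.Prime := ⟨hp⟩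
  have hΩne : Nonempty Ω := by
    rw [← Fintype.card_pos_iff, hcard]
    exact Nat.pow_pos hp.pos
  obtain ⟨ω₀⟩ := hΩne
  -- N has order p ^ m
  have hNcard : Nat.card N = p ^ m := by
    rw [← hcard, ← Nat.card_eq_fintype_card]
    apply Nat.card_congr
    refine Equiv.ofBijective (fun n : N => n • ω₀) ⟨?_, ?_⟩
    · intro a b hab
      have h1 : (a⁻¹ * b) • ω₀ = ω₀ := by
        rw [mul_smul, ← (show a • ω₀ = b • ω₀ from hab), inv_smul_smul]
      have h2 : a⁻¹ * b ∈ MulAction.stabilizer N ω₀ := h1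
      rw [hNreg ω₀, Subgroup.mem_bot] at h2
      exact inv_mul_eq_one.mp h2
    · intro ω
      exact MulAction.exists_smul_eq N ω₀ ω
  have hgpow : g ^ (p ^ r) = 1 := by rw [← hg]; exact pow_orderOf_eq_one g
  have main : p ^ (r - 1) ≤ m := by
    by_contra hcon
    have hk : m + 1 ≤ p ^ (r - 1) := by omega
    have key := Cfsg.Agent.Lib.Helper1.conj_geom_prod N hNc hNp m hNcard g r hgpow (r - 1) hk
    obtain ⟨n₀, hn₀⟩ := MulAction.exists_smul_eq N ω₀ (g • ω₀)
    have hn₀' : (n₀ : G) • ω₀ = g • ω₀ := hn₀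
    -- h = n₀⁻¹ g fixes ω₀
    have hfix : ((n₀ : G)⁻¹ * g) • ω₀ = ω₀ := by
      rw [mul_smul, ← hn₀', inv_smul_smul]
    have hfixk : ∀ k : ℕ, (((n₀ : G)⁻¹ * g) ^ k) • ω₀ = ω₀ := by
      intro k
      induction k with
      | zero => simp
      | succ k ih => rw [pow_succ, mul_smul, hfix, ih]
    have h1 := Cfsg.Agent.Lib.Helper1.mul_pow_eq_conjProd g ((n₀ : G)⁻¹) (p ^ (r - 1))
    rw [(key _ (N.inv_mem n₀.2)).1, one_mul] at h1
    have hgk : (g ^ (p ^ (r - 1))) • ω₀ = ω₀ := by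
      rw [← h1]; exact hfixk _
    have htriv : g ^ (p ^ (r - 1)) = 1 := by
      apply FaithfulSMul.eq_of_smul_eq_smul (α := Ω)
      intro ω
      obtain ⟨n, hn⟩ := MulAction.exists_smul_eq N ω₀ ω
      have hn' : (n : G) • ω₀ = ω := hn
      have hc := (key _ n.2).2
      have hc' : g ^ (p ^ (r - 1)) * (n : G) = (n : G) * g ^ (p ^ (r - 1)) := by
        calc g ^ (p ^ (r - 1)) * (n : G)
            = (g ^ (p ^ (r - 1)) * (n : G) * (g ^ (p ^ (r - 1)))⁻¹) * g ^ (p ^ (r - 1)) := by group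
          _ = (n : G) * g ^ (p ^ (r - 1)) := by rw [hc]
      rw [one_smul, ← hn', ← mul_smul, hc', mul_smul, hgk]
    have hdvd : orderOf g ∣ p ^ (r - 1) := orderOf_dvd_of_pow_eq_one htriv
    rw [hg] at hdvd
    have := (Nat.pow_dvd_pow_iff_le_right hp.one_lt).mp hdvd
    omega
  refine ⟨main, ?_⟩
  intro hrm
  subst hrm
  have h2 : ∀ j : ℕ, j < 2 ^ j := fun j => Nat.lt_two_pow_self
  constructor
  · by_contra hcon
    obtain ⟨j, rfl⟩ : ∃ j, r = j + 3 := ⟨r - 3, by omega⟩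
    have h3 : 2 ^ (j + 3 - 1) ≤ p ^ (j + 3 - 1) := Nat.pow_le_pow_left hp.two_le _
    have h4 : 2 ^ (j + 3 - 1) = 4 * 2 ^ j := by
      rw [show j + 3 - 1 = j + 2 by omega, pow_add]; ring
    have := h2 j
    omega
  · intro hp3
    by_contra hcon
    obtain ⟨j, rfl⟩ : ∃ j, r = j + 2 := ⟨r - 2, by omega⟩
    have h3 : 3 ^ (j + 2 - 1) ≤ p ^ (j + 2 - 1) := Nat.pow_le_pow_left (by omega) _
    have h4 : 3 ^ (j + 2 - 1) = 3 * 3 ^ j := by
      rw [show j + 2 - 1 = j + 1 by omega, pow_succ]; ring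
    have h5 : 2 ^ j ≤ 3 ^ j := Nat.pow_le_pow_left (by norm_num) _
    have := h2 j
    omega

end Cfsg.Agent.S3508
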