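import Cfsg.Statements.S3511
-- import your own Cfsg.Agent.* helpers here

set_option autoImplicit false
open Cfsg

namespace Cfsg.Agent.S3511

/-- Let a finite group G act faithfully on a set Ω. If every element of G of square-free order has a regular cycle (an orbit of the cyclic group it generates with trivial stabilizer), then every element of G has a regular cycle. -/
theorem result {G : Type*} [Group G] [Finite G] {Ω : Type*} [MulAction G Ω] [FaithfulSMul G Ω]
    (h : ∀ g : G, Squarefree (orderOf g) → ∃ ω : Ω, MulAction.stabilizer (Subgroup.zpowers g) ω = ⊥) (g : G) :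
    ∃ ω : Ω, MulAction.stabilizer (Subgroup.zpowers g) ω = ⊥ := by
  classical
  set n := orderOf g with hn
  have hn0 : 0 < n := orderOf_pos g
  set r := ∏ p ∈ n.primeFactors, p with hr
  have hrn : r ∣ n := Nat.prod_primeFactors_dvd n
  have hr0 : 0 < r := Nat.pos_of_dvd_of_pos hrn hn0
  obtain ⟨m, hm⟩ := hrn
  have hm0 : 0 < m := by
    rcases Nat.eq_zero_or_pos m with h0 | h0
    · rw [h0, mul_zero] at hm; omega
    · exact h0
  have hsq : Squarefree r := by
    rw [hr, ← Nat.radical_eq_prod_primeFactors]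
    exact UniqueFactorizationMonoid.squarefree_radical
  have hord : orderOf (g ^ m) = r := by
    have h1 : orderOf (g ^ m) = n / Nat.gcd n m := orderOf_pow g
    rw [h1, hm, Nat.gcd_mul_left_left, Nat.mul_div_cancel _ hm0]
  obtain ⟨ω, hω⟩ := h (g ^ m) (by rw [hord]; exact hsq)
  refine ⟨ω, ?_⟩
  rw [Subgroup.eq_bot_iff_forall]
  intro y hy
  by_contra hy1
  have hyω : (y : G) • ω = ω := by
    have := MulAction.mem_stabilizer_iff.mp hy
    simpa [Subgroup.smul_def] using this
  have hd1 : orderOf (y : G) ≠ 1 := by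
    intro h1
    apply hy1
    have := orderOf_eq_one_iff.mp h1
    exact Subtype.ext this
  obtain ⟨p, hp, hpd⟩ := Nat.exists_prime_and_dvd hd1
  set y' : G := (y : G) ^ (orderOf (y : G) / p) with hy'
  have hy'ord : orderOf y' = p := orderOf_pow_orderOf_div (orderOf_pos _).ne' hpd
  have hy'ω : y' • ω = ω := by
    have : y' ∈ MulAction.stabilizer G ω :=
      Subgroup.pow_mem _ (MulAction.mem_stabilizer_iff.mpr hyω) _
    exact MulAction.mem_stabilizer_iff.mp this
  have hy'g : y' ∈ Subgroup.zpowers g := Subgroup.pow_mem _ y.2 _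
  obtain ⟨k, hk⟩ := Subgroup.mem_zpowers_iff.mp hy'g
  -- p ∣ n
  have hpn : p ∣ n := by
    have : orderOf y' ∣ orderOf g := orderOf_dvd_of_mem_zpowers hy'g
    rwa [hy'ord] at this
  have hpr : p ∣ r := by
    rw [hr]
    exact Finset.dvd_prod_of_mem (fun p => p) (Nat.mem_primeFactors.mpr ⟨hp, hpn, hn0.ne'⟩)
  have hy'r : y' ^ r = 1 := by
    obtain ⟨c, hc⟩ := hpr
    rw [hc, pow_mul, ← hy'ord, pow_orderOf_eq_one, one_pow]
  have hdvd : (n : ℤ) ∣ k * r := by
    rw [hn, orderOf_dvd_iff_zpow_eq_one, zpow_mul, hk]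
    exact_mod_cast hy'r
  have hmk : (m : ℤ) ∣ k := by
    rw [hm] at hdvd
    push_cast at hdvd
    have hr0' : (r : ℤ) ≠ 0 := by exact_mod_cast hr0.ne'
    rw [mul_comm (r : ℤ) (m : ℤ)] at hdvd
    exact (mul_dvd_mul_iff_right hr0').mp hdvd
  obtain ⟨l, hl⟩ := hmk
  have hmem : y' ∈ Subgroup.zpowers (g ^ m) := by
    rw [Subgroup.mem_zpowers_iff]
    refine ⟨l, ?_⟩
    rw [← hk, hl, zpow_mul, zpow_natCast]
  have hstab : (⟨y', hmem⟩ : Subgroup.zpowers (g ^ m)) ∈ MulAction.stabilizer (Subgroup.zpowers (g ^ m)) ω := by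
    rw [MulAction.mem_stabilizer_iff]
    simpa [Subgroup.smul_def] using hy'ω
  rw [hω, Subgroup.mem_bot] at hstab
  have hy'1 : y' = 1 := congrArg Subtype.val hstab
  rw [hy'1, orderOf_one] at hy'ord
  exact hp.one_lt.ne hy'ord

end Cfsg.Agent.S3511
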