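import Cfsg.Statements.S3515
import Cfsg.Agent.Lib.Helper19.Aff3

set_option autoImplicit false
open Cfsg

namespace Cfsg.Agent.S3515

/-- Every primitive affine permutation group of degree p² is 3-closed. Let p be a prime and G a group of permutations of the plane V = F_p² consisting of affine maps x ↦ Ax + b, containing all translations, and acting primitively on V. Then any permutation σ of V that agrees on every triple of points with some element of G (σ preserves every G-orbit on ordered triples) already lies in G. -/
theorem result (p : ℕ) [Fact p.Prime] (G : Subgroup (Equiv.Perm (Fin 2 → ZMod p)))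
    (haff : (G : Set (Equiv.Perm (Fin 2 → ZMod p))) ⊆ {τ : Equiv.Perm (Fin 2 → ZMod p) | ∃ (A : (Fin 2 → ZMod p) ≃ₗ[ZMod p] (Fin 2 → ZMod p)) (b : Fin 2 → ZMod p), ∀ x, τ x = A x + b})
    (htrans : ∀ b : Fin 2 → ZMod p, ∃ g ∈ G, ∀ x, g x = x + b) (hprim : MulAction.IsPreprimitive G (Fin 2 → ZMod p))
    (σ : Equiv.Perm (Fin 2 → ZMod p)) (hσ : (∀ t : Fin 3 → (Fin 2 → ZMod p), ∃ g ∈ G, ∀ i, σ (t i) = g (t i))) : σ ∈ G := by
  classical
  obtain ⟨g, hg, hgt⟩ := hσ ![0, ![1, 0], ![0, 1]]
  have h0 : σ 0 = g 0 := hgt 0
  have h1 : σ ![1, 0] = g ![1, 0] := hgt 1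
  have h2 : σ ![0, 1] = g ![0, 1] := hgt 2
  suffices hsg : σ = g by rw [hsg]; exact hg
  by_cases hp : p = 2
  · subst hp
    have hall := Cfsg.Agent.Lib.Helper19.Aff3.f2_cases
    have hne : ∀ v : Fin 2 → ZMod 2, v ≠ ![1, 1] → σ v = g v := by
      intro v hv
      rcases hall v with rfl | rfl | rfl | rfl
      · exact h0
      · exact h1
      · exact h2
      · exact absurd rfl hv
    ext1 v
    by_cases hv : v = ![1, 1]
    · subst hv
      -- g⁻¹ (σ w) must be w
      have hw : g.symm (σ ![1, 1]) = ![1, 1] := by
        by_contra hcon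
        have h3 := hne _ hcon
        rw [Equiv.apply_symm_apply] at h3
        have h4 := σ.injective h3
        exact hcon h4
      have := congrArg g hw
      rwa [Equiv.apply_symm_apply] at this
    · exact hne v hv
  · obtain ⟨A, b, hA⟩ := Cfsg.Agent.Lib.Helper19.Aff3.affine_of_combo hp σ (by
      intro x y c
      obtain ⟨g', hg', hgt'⟩ := hσ ![x, y, (1 - c) • x + c • y]
      obtain ⟨A', b', hA'⟩ := haff hg'
      have e0 := hgt' 0
      have e1 := hgt' 1
      have e2 := hgt' 2
      simp only [Matrix.cons_val_zero, Matrix.cons_val_one, Matrix.cons_val_two, Matrix.head_cons,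
        Matrix.tail_cons] at e0 e1 e2
      rw [e0, e1, e2, hA', hA', hA', map_add, map_smul, map_smul]
      simp only [smul_add, sub_smul, one_smul]
      abel)
    obtain ⟨A', b', hA'⟩ := haff hg
    have hb : b = b' := by
      have := h0
      rw [hA, hA', map_zero, map_zero, zero_add, zero_add] at this
      exact this
    subst hb
    have e1 : A ![1, 0] = A' ![1, 0] := by
      have := h1
      rw [hA, hA'] at this
      exact add_right_cancel this
    have e2 : A ![0, 1] = A' ![0, 1] := by
      have := h2
      rw [hA, hA'] at this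
      exact add_right_cancel this
    ext1 v
    rw [hA, hA']
    congr 1
    have hv : v = v 0 • ![1, 0] + v 1 • ![0, 1] := by
      ext i; fin_cases i <;> simp
    rw [hv, map_add, map_add, map_smul, map_smul, map_smul, map_smul, e1, e2]

end Cfsg.Agent.S3515
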