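import Cfsg.Statements.S3516
import Cfsg.Agent.Lib.Helper19.Aff3

set_option autoImplicit false
open Cfsg

namespace Cfsg.Agent.S3516

/-- Let p be an odd prime, d ≥ 3, and G a group of affine permutations x ↦ Ax + b of V = F_p^d containing all translations and all maps x ↦ Ax with A of determinant 1. Then the 3-closure of G is the full affine group: a permutation σ of V agrees on every triple of points with some element of G if and only if σ is an affine map. -/
theorem result (p : ℕ) [Fact p.Prime] (hp : p ≠ 2) (d : ℕ) (hd : 3 ≤ d) (G : Subgroup (Equiv.Perm (Fin d → ZMod p)))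
    (haff : (G : Set (Equiv.Perm (Fin d → ZMod p))) ⊆ {τ : Equiv.Perm (Fin d → ZMod p) | ∃ (A : (Fin d → ZMod p) ≃ₗ[ZMod p] (Fin d → ZMod p)) (b : Fin d → ZMod p), ∀ x, τ x = A x + b})
    (htrans : ∀ b : Fin d → ZMod p, ∃ g ∈ G, ∀ x, g x = x + b)
    (hsl : ∀ A : (Fin d → ZMod p) ≃ₗ[ZMod p] (Fin d → ZMod p), LinearMap.det (A : (Fin d → ZMod p) →ₗ[ZMod p] (Fin d → ZMod p)) = 1 → ∃ g ∈ G, ∀ x, g x = A x)
    (σ : Equiv.Perm (Fin d → ZMod p)) :
    (∀ t : Fin 3 → (Fin d → ZMod p), ∃ g ∈ G, ∀ i, σ (t i) = g (t i)) ↔ σ ∈ {τ : Equiv.Perm (Fin d → ZMod p) | ∃ (A : (Fin d → ZMod p) ≃ₗ[ZMod p] (Fin d → ZMod p)) (b : Fin d → ZMod p), ∀ x, τ x = A x + b} := by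
  classical
  constructor
  · intro h
    apply Cfsg.Agent.Lib.Helper19.Aff3.affine_of_combo hp σ
    intro x y c
    obtain ⟨g, hg, hgt⟩ := h ![x, y, (1 - c) • x + c • y]
    obtain ⟨A, b, hA⟩ := haff hg
    have h0 := hgt 0
    have h1 := hgt 1
    have h2 := hgt 2
    simp only [Matrix.cons_val_zero, Matrix.cons_val_one, Matrix.cons_val_two, Matrix.head_cons,
      Matrix.tail_cons, Matrix.cons_val] at h0 h1 h2
    rw [h0, h1, h2, hA, hA, hA, map_add, map_smul, map_smul]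
    simp only [smul_add, sub_smul, one_smul]
    abel
  · rintro ⟨A, b, hA⟩ t
    have hfr : 3 ≤ Module.finrank (ZMod p) (Fin d → ZMod p) := by
      rw [Module.finrank_fin_fun]; exact hd
    obtain ⟨B, hBdet, hBu, hBv⟩ := Cfsg.Agent.Lib.Helper19.Aff3.exists_det_one_agree hfr A
      (t 1 - t 0) (t 2 - t 0)
    obtain ⟨g₁, hg₁, hg₁'⟩ := hsl B hBdet
    obtain ⟨g₂, hg₂, hg₂'⟩ := htrans (A (t 0) + b - B (t 0))
    refine ⟨g₂ * g₁, G.mul_mem hg₂ hg₁, ?_⟩
    have key : ∀ x, (g₂ * g₁) x = B (x - t 0) + (A (t 0) + b) := by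
      intro x
      rw [Equiv.Perm.mul_apply, hg₁', hg₂', map_sub]
      abel
    intro i
    rw [key, hA]
    fin_cases i
    · simp
    · show A (t 1) + b = B (t 1 - t 0) + (A (t 0) + b)
      rw [hBu, map_sub]; abel
    · show A (t 2) + b = B (t 2 - t 0) + (A (t 0) + b)
      rw [hBv, map_sub]; abel

end Cfsg.Agent.S3516
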