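import Cfsg.Statements.S3517
import Cfsg.Agent.Lib.Helper19.LinRel

set_option autoImplicit false
open Cfsg

namespace Cfsg.Agent.S3517

/-- For d ≥ 3, the 3-closure of the affine group AGL_d(2) acting on F_2^d is the full symmetric group: every permutation of F_2^d agrees on every ordered triple of points with some affine map (AGL_d(2) is 3-transitive). -/
theorem result (d : ℕ) (hd : 3 ≤ d) (σ : Equiv.Perm (Fin d → ZMod 2)) (t : Fin 3 → (Fin d → ZMod 2)) :
    ∃ (A : (Fin d → ZMod 2) ≃ₗ[ZMod 2] (Fin d → ZMod 2)) (b : Fin d → ZMod 2), ∀ i, σ (t i) = A (t i) + b := by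
  classical
  set x : Fin 3 → (Fin d → ZMod 2) := t with hx
  set y : Fin 3 → (Fin d → ZMod 2) := fun i => σ (t i) with hy
  have hinj : ∀ i j, y i = y j ↔ x i = x j := fun i j => σ.injective.eq_iff
  let u : Fin 2 → (Fin d → ZMod 2) := fun i => x i.succ - x 0
  let v : Fin 2 → (Fin d → ZMod 2) := fun i => y i.succ - y 0
  -- characteristic two identity
  have hchar : ∀ a b c : Fin d → ZMod 2, (a - c) + (b - c) = a - b := by
    intro a b c
    funext k
    simp only [Pi.add_apply, Pi.sub_apply]
    generalize a k = α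
    generalize b k = β
    generalize c k = γ
    revert α β γ
    decide
  have hker : LinearMap.ker (Fintype.linearCombination (ZMod 2) u) =
      LinearMap.ker (Fintype.linearCombination (ZMod 2) v) := by
    ext c
    simp only [LinearMap.mem_ker, Fintype.linearCombination_apply, Fin.sum_univ_two]
    have h0 : ∀ a : ZMod 2, a = 0 ∨ a = 1 := by decide
    have e0 : u 0 = 0 ↔ v 0 = 0 := by
      simp only [u, v, sub_eq_zero]
      exact (hinj _ _).symm
    have e1 : u 1 = 0 ↔ v 1 = 0 := by
      simp only [u, v, sub_eq_zero]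
      exact (hinj _ _).symm
    have e2 : u 0 + u 1 = 0 ↔ v 0 + v 1 = 0 := by
      simp only [u, v]
      rw [hchar, hchar, sub_eq_zero, sub_eq_zero]
      exact (hinj _ _).symm
    rcases h0 (c 0) with h | h <;> rcases h0 (c 1) with h' | h' <;>
      simp only [h, h', zero_smul, one_smul, add_zero, zero_add]
    · exact e1
    · exact e0
    · exact e2
  obtain ⟨A, hA⟩ := Cfsg.Agent.Lib.Helper19.exists_linearEquiv_of_ker_eq u v hker
  refine ⟨A, y 0 - A (x 0), ?_⟩
  intro i
  have key : ∀ j : Fin 2, A (x j.succ) + (y 0 - A (x 0)) = y j.succ := by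
    intro j
    have := hA j
    simp only [u, v, map_sub] at this
    have e : A (x j.succ) + (y 0 - A (x 0)) = (A (x j.succ) - A (x 0)) + y 0 := by abel
    rw [e, this]
    abel
  fin_cases i
  · show y 0 = A (x 0) + (y 0 - A (x 0))
    abel
  · exact (key 0).symm
  · exact (key 1).symm

end Cfsg.Agent.S3517
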