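import Cfsg.Statements.S3518
import Cfsg.Agent.Lib.Helper19.Carlitz

set_option autoImplicit false
open Cfsg

namespace Cfsg.Agent.S3518

/-- Closures of subgroups of the one-dimensional affine group. Let p be a prime and G a group of permutations of F_p lying in the affine group AGL₁(p) = {x ↦ ax + b, a ≠ 0} and containing all translations. (1) If G is a proper subgroup of AGL₁(p), then G is 2-closed: a permutation of F_p agreeing on every ordered pair of points with some element of G lies in G. (2) Every permutation of F_p agrees on every ordered pair with some element of AGL₁(p) (the 2-closure of AGL₁(p) is the symmetric group). (3) AGL₁(p) is 3-closed: a permutation agreeing on every ordered triple with some affine map is affine. -/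
theorem result (p : ℕ) [Fact p.Prime] (G : Subgroup (Equiv.Perm (ZMod p))) (hG : G ≤ Cfsg.affineGroup (ZMod p))
    (htrans : ∀ b : ZMod p, ∃ g ∈ G, ∀ x, g x = x + b) :
    (G ≠ Cfsg.affineGroup (ZMod p) → ∀ σ : Equiv.Perm (ZMod p), (∀ t : Fin 2 → ZMod p, ∃ g ∈ G, ∀ i, σ (t i) = g (t i)) → σ ∈ G) ∧
    (∀ σ : Equiv.Perm (ZMod p), (∀ t : Fin 2 → ZMod p, ∃ g ∈ Cfsg.affineGroup (ZMod p), ∀ i, σ (t i) = g (t i))) ∧
    (∀ σ : Equiv.Perm (ZMod p), (∀ t : Fin 3 → ZMod p, ∃ g ∈ Cfsg.affineGroup (ZMod p), ∀ i, σ (t i) = g (t i)) → σ ∈ Cfsg.affineGroup (ZMod p)) := by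
  classical
  have hp : 2 ≤ p := (Fact.out : p.Prime).two_le
  have h01 : (0 : ZMod p) ≠ 1 := zero_ne_one
  refine ⟨?_, ?_, ?_⟩
  · -- part 1
    intro hne σ hσ
    -- the subgroup of multipliers
    let ψ : (ZMod p)ˣ →* Equiv.Perm (ZMod p) := MulAction.toPermHom (ZMod p)ˣ (ZMod p)
    have hψ : ∀ (a : (ZMod p)ˣ) (x : ZMod p), ψ a x = (a : ZMod p) * x := fun a x => rfl
    let D : Subgroup (ZMod p)ˣ := G.comap ψ
    -- an element of G has multiplier in D
    have hGD : ∀ g ∈ G, ∀ (a : (ZMod p)ˣ) (b : ZMod p), (∀ x, g x = (a : ZMod p) * x + b) → a ∈ D := by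
      intro g hg a b hgab
      obtain ⟨t, ht, htx⟩ := htrans (-b)
      have : ψ a = t * g := by
        ext x
        rw [hψ, Equiv.Perm.mul_apply, htx, hgab]; ring
      show ψ a ∈ G
      rw [this]; exact G.mul_mem ht hg
    have hDG : ∀ (a : (ZMod p)ˣ) (b : ZMod p) (τ : Equiv.Perm (ZMod p)), a ∈ D →
        (∀ x, τ x = (a : ZMod p) * x + b) → τ ∈ G := by
      intro a b τ ha hτ
      obtain ⟨t, ht, htx⟩ := htrans b
      have : τ = t * ψ a := by
        ext x
        rw [Equiv.Perm.mul_apply, htx, hψ, hτ]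
      rw [this]; exact G.mul_mem ht ha
    have hDtop : D ≠ ⊤ := by
      intro hD
      apply hne
      apply le_antisymm hG
      rintro τ ⟨a, b, hτ⟩
      exact hDG a b τ (by rw [hD]; trivial) hτ
    set d := Nat.card D with hd
    have hd1 : 1 ≤ d := Nat.card_pos
    have hcardU : Nat.card (ZMod p)ˣ = p - 1 := by
      rw [Nat.card_eq_fintype_card, ZMod.card_units]
    have hdvd : d ∣ p - 1 := by
      rw [← hcardU]; exact Subgroup.card_subgroup_dvd_card D
    have hdne : d ≠ p - 1 := by
      intro e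
      apply hDtop
      rw [← Subgroup.card_eq_iff_eq_top, ← hd, e, hcardU]
    have hd2 : 2 * d ≤ p - 1 := by
      obtain ⟨c, hc⟩ := hdvd
      have hc0 : c ≠ 0 := by rintro rfl; omega
      have hc1 : c ≠ 1 := by rintro rfl; omega
      have : 2 ≤ c := by omega
      calc 2 * d = d * 2 := by ring
        _ ≤ d * c := Nat.mul_le_mul_left d this
        _ = p - 1 := hc.symm
    have hpowD : ∀ a ∈ D, a ^ d = 1 := by
      intro a ha
      have : (⟨a, ha⟩ : D) ^ d = 1 := pow_card_eq_one'
      exact congrArg Subtype.val this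
    have hDpow : ∀ a : (ZMod p)ˣ, a ^ d = 1 → a ∈ D := by
      intro a ha
      haveI : IsCyclic (ZMod p)ˣ := inferInstance
      have hle : (Finset.univ.filter (fun a : (ZMod p)ˣ => a ^ d = 1)).card ≤ d :=
        IsCyclic.card_pow_eq_one_le hd1
      have hsub : (Finset.univ.filter (fun a : (ZMod p)ˣ => a ∈ D)) ⊆
          (Finset.univ.filter (fun a : (ZMod p)ˣ => a ^ d = 1)) := by
        intro x hx
        rw [Finset.mem_filter] at hx ⊢
        exact ⟨hx.1, hpowD x hx.2⟩
      have hcD : (Finset.univ.filter (fun a : (ZMod p)ˣ => a ∈ D)).card = d := by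
        rw [hd, Nat.card_eq_fintype_card, Fintype.card_subtype]
      have := Finset.eq_of_subset_of_card_le hsub (by rw [hcD]; exact hle)
      have hmem : a ∈ Finset.univ.filter (fun a : (ZMod p)ˣ => a ^ d = 1) := by
        rw [Finset.mem_filter]; exact ⟨Finset.mem_univ _, ha⟩
      rw [← this, Finset.mem_filter] at hmem
      exact hmem.2
    -- the difference condition
    have hdiff : ∀ u v, (σ u - σ v) ^ d = (u - v) ^ d := by
      intro u v
      obtain ⟨g, hg, hgt⟩ := hσ ![u, v]
      have h0 := hgt 0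
      have h1 := hgt 1
      simp only [Matrix.cons_val_zero, Matrix.cons_val_one] at h0 h1
      obtain ⟨a, b, hgab⟩ := hG hg
      have ha := hpowD a (hGD g hg a b hgab)
      rw [h0, h1, hgab, hgab]
      have : (a : ZMod p) * u + b - ((a : ZMod p) * v + b) = (a : ZMod p) * (u - v) := by ring
      rw [this, mul_pow]
      have : ((a : ZMod p)) ^ d = 1 := by
        have := congrArg Units.val ha
        simpa using this
      rw [this, one_mul]
    obtain ⟨a, b, hab⟩ := Lib.Helper19.Carlitz.affine_of_pow_diff (fun x => σ x) σ.injective d hd1 hd2 hdiff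
    replace hab : ∀ x, σ x = a * x + b := hab
    have had : a ^ d = 1 := by
      have := hdiff 1 0
      rw [hab, hab] at this
      have e : a * 1 + b - (a * 0 + b) = a := by ring
      rw [e] at this
      rw [this]; simp
    have ha0 : a ≠ 0 := by
      rintro rfl
      rw [zero_pow (by omega)] at had
      exact h01 had
    have haD : Units.mk0 a ha0 ∈ D := by
      apply hDpow
      ext
      simp [had]
    exact hDG (Units.mk0 a ha0) b σ haD (fun x => by rw [hab]; rfl)
  · -- part 2
    intro σ t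
    by_cases ht : t 0 = t 1
    · refine ⟨Equiv.addRight (σ (t 0) - t 0), ⟨1, σ (t 0) - t 0, fun x => by simp⟩, fun i => ?_⟩
      have : t i = t 0 := by
        fin_cases i
        · rfl
        · exact ht.symm
      rw [this]; simp
    · have hne : t 1 - t 0 ≠ 0 := sub_ne_zero.2 (Ne.symm ht)
      have hσne : σ (t 1) - σ (t 0) ≠ 0 := sub_ne_zero.2 (fun e => ht (σ.injective e).symm)
      let a : (ZMod p)ˣ := Units.mk0 ((σ (t 1) - σ (t 0)) / (t 1 - t 0)) (div_ne_zero hσne hne)
      let b : ZMod p := σ (t 0) - (a : ZMod p) * t 0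
      refine ⟨(MulAction.toPermHom (ZMod p)ˣ (ZMod p) a).trans (Equiv.addRight b),
        ⟨a, b, fun x => rfl⟩, fun i => ?_⟩
      fin_cases i
      · show σ (t 0) = (a : ZMod p) * t 0 + b
        simp [b]
      · show σ (t 1) = (a : ZMod p) * t 1 + b
        simp only [b, a, Units.val_mk0]
        field_simp
        ring
  · -- part 3
    intro σ hσ
    have hne : σ 1 - σ 0 ≠ 0 := sub_ne_zero.2 (fun e => h01 (σ.injective e).symm)
    refine ⟨Units.mk0 (σ 1 - σ 0) hne, σ 0, fun x => ?_⟩
    obtain ⟨g, ⟨a, b, hgab⟩, hgt⟩ := hσ ![0, 1, x]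
    have h0 := hgt 0
    have h1 := hgt 1
    have h2 := hgt 2
    simp only [Matrix.cons_val_zero, Matrix.cons_val_one, Matrix.cons_val_two, Matrix.tail_cons,
      Matrix.head_cons] at h0 h1 h2
    rw [hgab] at h0 h1 h2
    rw [Units.val_mk0, h2, h1, h0]
    ring

end Cfsg.Agent.S3518
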