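import Cfsg.Statements.S3547
import Cfsg.Agent.Lib.Helper19.Derangement

set_option autoImplicit false
open Cfsg

namespace Cfsg.Agent.S3547

/-- Let G act faithfully and transitively on a finite set Ω, let D be the subgroup generated by the derangements, and let r_G and r_D be the numbers of orbits of G and of D on ordered pairs of points (the permutation ranks). Then r_D − 1 = (r_G − 1)·[G : D]. -/
theorem result {G Ω : Type*} [Group G] [Finite G] [MulAction G Ω] [FaithfulSMul G Ω] [Finite Ω]
    (htrans : MulAction.IsPretransitive G Ω) :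
    Nat.card (MulAction.orbitRel.Quotient ↥(Subgroup.closure {g : G | ∀ ω : Ω, g • ω ≠ ω}) (Ω × Ω)) - 1 =
      (Nat.card (MulAction.orbitRel.Quotient G (Ω × Ω)) - 1) * (Subgroup.closure {g : G | ∀ ω : Ω, g • ω ≠ ω}).index := by
  classical
  have hS : ∀ g : G, (∀ ω : Ω, g • ω ≠ ω) → g ∈ Subgroup.closure {g : G | ∀ ω : Ω, g • ω ≠ ω} :=
    fun g hg => Subgroup.subset_closure hg
  rcases isEmpty_or_nonempty Ω with hΩ | hΩ
  · haveI : IsEmpty (Ω × Ω) := inferInstance
    haveI : IsEmpty (MulAction.orbitRel.Quotient G (Ω × Ω)) := by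
      constructor
      intro q
      induction q using Quotient.inductionOn with
      | h x => exact isEmptyElim x
    haveI : IsEmpty (MulAction.orbitRel.Quotient
        ↥(Subgroup.closure {g : G | ∀ ω : Ω, g • ω ≠ ω}) (Ω × Ω)) := by
      constructor
      intro q
      induction q using Quotient.inductionOn with
      | h x => exact isEmptyElim x
    simp
  haveI := Fintype.ofFinite G
  set D := Subgroup.closure {g : G | ∀ ω : Ω, g • ω ≠ ω} with hD
  haveI : Fintype D := Fintype.ofFinite _
  have key := Cfsg.Agent.Lib.Helper19.rank_formula_add (Ω := Ω) D hS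
  have hidx : Nat.card G = Nat.card D * D.index := (Subgroup.card_mul_index D).symm
  have hDpos : 0 < Nat.card D := Nat.card_pos
  have hrG : 0 < Nat.card (MulAction.orbitRel.Quotient G (Ω × Ω)) := by
    haveI : Nonempty (MulAction.orbitRel.Quotient G (Ω × Ω)) :=
      (nonempty_quotient_iff _).mpr inferInstance
    exact Nat.card_pos
  have hrD : 0 < Nat.card (MulAction.orbitRel.Quotient D (Ω × Ω)) := by
    haveI : Nonempty (MulAction.orbitRel.Quotient D (Ω × Ω)) :=
      (nonempty_quotient_iff _).mpr inferInstance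
    exact Nat.card_pos
  obtain ⟨a, ha⟩ : ∃ a, Nat.card (MulAction.orbitRel.Quotient G (Ω × Ω)) = a + 1 :=
    ⟨_, (Nat.succ_pred_eq_of_pos hrG).symm⟩
  obtain ⟨b, hb⟩ : ∃ b, Nat.card (MulAction.orbitRel.Quotient D (Ω × Ω)) = b + 1 :=
    ⟨_, (Nat.succ_pred_eq_of_pos hrD).symm⟩
  rw [ha, hb] at key ⊢
  rw [hidx] at key
  simp only [Nat.add_sub_cancel]
  have h3 : Nat.card D * (a * D.index) = Nat.card D * b := by
    nlinarith [key]
  exact (Nat.eq_of_mul_eq_mul_left hDpos h3).symm

end Cfsg.Agent.S3547
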