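import Cfsg.Statements.S3549
import Cfsg.Agent.Lib.Helper19.DerangementImprimitive

set_option autoImplicit false
open Cfsg

namespace Cfsg.Agent.S3549

/-- Let G act faithfully, transitively but imprimitively on a finite set with n points, and let D be the subgroup generated by the derangements. Then the index of D in G is at most √n − 1. -/
theorem result {G Ω : Type*} [Group G] [Finite G] [MulAction G Ω] [FaithfulSMul G Ω] [Finite Ω]
    (htrans : MulAction.IsPretransitive G Ω) (himp : ¬ MulAction.IsPreprimitive G Ω) :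
    ((Subgroup.closure {g : G | ∀ ω : Ω, g • ω ≠ ω}).index : ℝ) ≤ Real.sqrt (Nat.card Ω) - 1 := by
  classical
  have hS : ∀ g : G, (∀ ω : Ω, g • ω ≠ ω) → g ∈ Subgroup.closure {g : G | ∀ ω : Ω, g • ω ≠ ω} :=
    fun g hg => Subgroup.subset_closure hg
  haveI := Fintype.ofFinite G
  haveI : Fintype (Subgroup.closure {g : G | ∀ ω : Ω, g • ω ≠ ω}) := Fintype.ofFinite _
  haveI : (Subgroup.closure {g : G | ∀ ω : Ω, g • ω ≠ ω}).Normal :=
    Cfsg.Agent.Lib.Helper19.derangements_closure_normal (G := G) (Ω := Ω)
  exact Cfsg.Agent.Lib.Helper19.index_le_sqrt_sub_one himp _ hS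

end Cfsg.Agent.S3549
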