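import Cfsg.Statements.S3554
-- import your own Cfsg.Agent.* helpers here

set_option autoImplicit false
open Cfsg

namespace Cfsg.Agent.S3554

/-- Let G act faithfully and transitively on a finite set and suppose G has a non-trivial cyclic normal subgroup. Then some element of G of prime order fixes no point. -/
theorem result {G Ω : Type*} [Group G] [Finite G] [MulAction G Ω] [FaithfulSMul G Ω] [Finite Ω]
    (htrans : MulAction.IsPretransitive G Ω) (C : Subgroup G) (hC : C.Normal) (hC1 : C ≠ ⊥) (hcyc : IsCyclic ↥C) :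
    ∃ g : G, (orderOf g).Prime ∧ ∀ ω : Ω, g • ω ≠ ω := by
  classical
  obtain ⟨c, hc⟩ := hcyc.exists_generator
  have hcard : Nat.card C ≠ 1 := by
    intro h
    exact hC1 (Subgroup.card_eq_one.mp h)
  obtain ⟨p, hp, hpd⟩ := Nat.exists_prime_and_dvd hcard
  have : Fact p.Prime := ⟨hp⟩
  obtain ⟨x, hx⟩ := exists_prime_orderOf_dvd_card' (G := C) p hpd
  have hxG : orderOf (x : G) = p := by rw [Subgroup.orderOf_coe]; exact hx
  refine ⟨(x : G), by rw [hxG]; exact hp, ?_⟩
  intro ω hω
  -- x fixes everything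
  have hall : ∀ ω' : Ω, (x : G) • ω' = ω' := by
    intro ω'
    obtain ⟨g, rfl⟩ := MulAction.exists_smul_eq G ω ω'
    -- g⁻¹ x g is a power of x
    obtain ⟨i, hi⟩ := hc x
    have hconj : g⁻¹ * (c : G) * g ∈ C := by
      have := hC.conj_mem (c : G) c.2 g⁻¹
      simpa using this
    obtain ⟨j, hj⟩ := hc ⟨g⁻¹ * (c : G) * g, hconj⟩
    have hj' : (c : G) ^ j = g⁻¹ * (c : G) * g := by
      have := congrArg (Subtype.val) hj
      simpa using this
    have hi' : (c : G) ^ i = (x : G) := by
      have := congrArg (Subtype.val) hi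
      simpa using this
    have hxj : g⁻¹ * (x : G) * g = (x : G) ^ j := by
      rw [← hi', ← zpow_mul, mul_comm i j, zpow_mul, hj']
      have h5 : (g⁻¹ * (c : G) * g) ^ i = g⁻¹ * (c : G) ^ i * g := by
        have := conj_zpow (a := g⁻¹) (b := (c : G)) (i := i)
        simpa using this
      rw [h5]
    have hmem : (x : G) ^ j ∈ MulAction.stabilizer G ω :=
      Subgroup.zpow_mem _ (MulAction.mem_stabilizer_iff.mpr hω) j
    have h3 : (g⁻¹ * (x : G) * g) • ω = ω := by
      rw [hxj]; exact MulAction.mem_stabilizer_iff.mp hmem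
    have h4 : (x : G) • g • ω = g • ((g⁻¹ * (x : G) * g) • ω) := by
      simp [mul_smul]
    rw [h4, h3]
  have hx1 : (x : G) = 1 := by
    apply FaithfulSMul.eq_of_smul_eq_smul (α := Ω)
    intro a
    rw [hall a, one_smul]
  rw [hx1, orderOf_one] at hxG
  exact hp.one_lt.ne hxG

end Cfsg.Agent.S3554
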