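import Cfsg.Statements.S3555
import Cfsg.Agent.Lib.Helper19.DerInv

set_option autoImplicit false
open Cfsg

namespace Cfsg.Agent.S3555

/-- Let G act faithfully and transitively on a finite set and suppose every element of G fixing no point is an involution. Then either G is an elementary abelian 2-group, or G is a Frobenius group whose Frobenius kernel is an elementary abelian 2-group: G has a Frobenius complement H, and the elements lying in no conjugate of H, together with the identity, pairwise commute and square to the identity. -/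
theorem result {G Ω : Type*} [Group G] [Finite G] [MulAction G Ω] [FaithfulSMul G Ω] [Finite Ω]
    (htrans : MulAction.IsPretransitive G Ω) (hinv : ∀ g : G, (∀ ω : Ω, g • ω ≠ ω) → orderOf g = 2) :
    (IsMulCommutative G ∧ ∀ g : G, g ^ 2 = 1) ∨
    (∃ H : Subgroup G, Cfsg.IsFrobeniusComplement H ∧
      (∀ x ∈ Cfsg.frobeniusKernel H, x ^ 2 = 1) ∧
      ∀ x ∈ Cfsg.frobeniusKernel H, ∀ y ∈ Cfsg.frobeniusKernel H, x * y = y * x) := by
  open scoped Pointwise in
  (
    classical
    haveI := Fintype.ofFinite G
    haveI := Fintype.ofFinite Ω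
    rcases isEmpty_or_nonempty Ω with hΩ | hΩ
    · left
      have htriv : ∀ g : G, g = 1 := fun g =>
        FaithfulSMul.eq_of_smul_eq_smul (α := Ω) (fun ω => (hΩ.false ω).elim)
      refine ⟨⟨⟨fun x y => by rw [htriv x, htriv y]⟩⟩, fun g => by rw [htriv g, one_pow]⟩
    have hinv' : ∀ g : G, (∀ ω : Ω, g • ω ≠ ω) → g * g = 1 := fun g hg => by
      rw [← sq, ← hinv g hg, pow_orderOf_eq_one]
    have hfix : ∀ g : G, g ≠ 1 → ∀ a b : Ω, g • a = a → g • b = b → a = b := by
      intro g hg1 a b ha hb
      have hgD : g ∉ Lib.Helper19.DerInv.Der G Ω := fun h => Lib.Helper19.DerInv.mem_Der.1 h a ha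
      rcases Lib.Helper19.DerInv.card_Fix_eq_one_or hinv' g hgD with h | h
      · exact Finset.card_le_one.1 h.le a (Lib.Helper19.DerInv.mem_Fix.2 ha) b
          (Lib.Helper19.DerInv.mem_Fix.2 hb)
      · exfalso; apply hg1
        have hu : Lib.Helper19.DerInv.Fix (Ω := Ω) g = Finset.univ := Finset.eq_univ_of_card _ h
        apply FaithfulSMul.eq_of_smul_eq_smul (α := Ω)
        intro ω
        rw [one_smul]
        exact Lib.Helper19.DerInv.mem_Fix.1 (hu ▸ Finset.mem_univ ω)
    have hprod : ∀ x y : G, (∀ ω : Ω, x • ω ≠ ω) → (∀ ω : Ω, y • ω ≠ ω) →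
        x * y = 1 ∨ ∀ ω : Ω, (x * y) • ω ≠ ω := by
      intro x y hx hy
      by_cases h1 : x * y = 1
      · left; exact h1
      right
      intro b hb
      have hxb : x • b = y • b := by
        have h2 : x • (x • (y • b)) = y • b := by rw [← mul_smul, hinv' x hx, one_smul]
        rw [← h2, ← mul_smul x y, hb]
      have hc : (x * y) • (x • b) = x • b := by
        rw [mul_smul, hxb, ← mul_smul y y, hinv' y hy, one_smul, ← hxb]
      exact hx b (hfix (x * y) h1 _ _ hc hb)
    have hcomm : ∀ x y : G, (∀ ω : Ω, x • ω ≠ ω) → (∀ ω : Ω, y • ω ≠ ω) → x * y = y * x := by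
      intro x y hx hy
      have hxy : (x * y) * (x * y) = 1 := by
        rcases hprod x y hx hy with h | h
        · rw [h, one_mul]
        · exact hinv' _ h
      have e1 : x * y = (x * y)⁻¹ := eq_inv_of_mul_eq_one_left hxy
      have e2 : x = x⁻¹ := eq_inv_of_mul_eq_one_left (hinv' x hx)
      have e3 : y = y⁻¹ := eq_inv_of_mul_eq_one_left (hinv' y hy)
      rw [e1, mul_inv_rev, ← e2, ← e3]
    obtain ⟨a⟩ := hΩ
    set H := MulAction.stabilizer G a with hH
    -- elements with a fixed point are conjugate into H
    have hconj : ∀ (x : G) (b : Ω), x • b = b → ∃ g : G, x ∈ MulAut.conj g • H := by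
      intro x b hxb
      obtain ⟨g, rfl⟩ := MulAction.exists_smul_eq G a b
      refine ⟨g, ?_⟩
      rw [Subgroup.mem_pointwise_smul_iff_inv_smul_mem, MulAut.smul_def, ← map_inv,
        MulAut.conj_apply, inv_inv, hH, MulAction.mem_stabilizer_iff, mul_smul, mul_smul, hxb,
        inv_smul_smul]
    by_cases hbot : H = ⊥
    · left
      have hder : ∀ x : G, x ≠ 1 → ∀ ω : Ω, x • ω ≠ ω := by
        intro x hx1 ω hxω
        obtain ⟨g, hg⟩ := hconj x ω hxω
        rw [hbot, Subgroup.smul_bot, Subgroup.mem_bot] at hg
        exact hx1 hg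
      refine ⟨⟨⟨fun x y => ?_⟩⟩, fun g => ?_⟩
      · by_cases hx1 : x = 1
        · rw [hx1, one_mul, mul_one]
        by_cases hy1 : y = 1
        · rw [hy1, one_mul, mul_one]
        exact hcomm x y (hder x hx1) (hder y hy1)
      · by_cases hg1 : g = 1
        · rw [hg1, one_pow]
        · rw [sq]; exact hinv' g (hder g hg1)
    · right
      have hker : ∀ x ∈ Cfsg.frobeniusKernel H, x = 1 ∨ ∀ ω : Ω, x • ω ≠ ω := by
        intro x hx
        rcases hx with h | h
        · left; exact h
        · right
          intro ω hxω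
          obtain ⟨g, hg⟩ := hconj x ω hxω
          exact h g hg
      refine ⟨H, ⟨hbot, ?_, ?_⟩, ?_, ?_⟩
      · intro htop
        obtain ⟨h, hhH, hh1⟩ : ∃ h : G, h ∈ H ∧ h ≠ 1 := by
          by_contra hcon
          push Not at hcon
          exact hbot ((Subgroup.eq_bot_iff_forall _).2 hcon)
        have : ∃ b : Ω, h • b ≠ b := by
          by_contra hcon
          push Not at hcon
          exact hh1 (FaithfulSMul.eq_of_smul_eq_smul (α := Ω) (fun ω => by rw [hcon, one_smul]))
        obtain ⟨b, hb⟩ := this
        obtain ⟨k, hk⟩ := MulAction.exists_smul_eq G a b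
        have hkH : k ∈ H := by rw [htop]; trivial
        rw [hH, MulAction.mem_stabilizer_iff] at hkH hhH
        rw [← hk, hkH] at hb
        exact hb hhH
      · intro g hg
        rw [eq_bot_iff]
        rintro x ⟨hx1, hx2⟩
        rw [Subgroup.mem_bot]
        by_contra hx
        have hxa : x • a = a := hx1
        have hxga : x • (g • a) = g • a := by
          have h2 : x ∈ MulAut.conj g • H := hx2
          rw [Subgroup.mem_pointwise_smul_iff_inv_smul_mem, MulAut.smul_def, ← map_inv,
            MulAut.conj_apply, inv_inv, hH, MulAction.mem_stabilizer_iff, mul_smul, mul_smul] at h2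
          have := congrArg (fun ω => g • ω) h2
          simp only [smul_inv_smul] at this
          exact this
        have := hfix x hx a (g • a) hxa hxga
        apply hg
        rw [hH, MulAction.mem_stabilizer_iff]
        exact this.symm
      · intro x hx
        rcases hker x hx with h | h
        · rw [h, one_pow]
        · rw [sq]; exact hinv' x h
      · intro x hx y hy
        rcases hker x hx with h | h
        · rw [h, one_mul, mul_one]
        rcases hker y hy with h' | h'
        · rw [h', one_mul, mul_one]
        exact hcomm x y h h'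
  )

end Cfsg.Agent.S3555
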