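import Cfsg.Statements.S3557
import Mathlib
import Cfsg.Agent.Lib.Helper2.DissectC

set_option autoImplicit false
open Cfsg

namespace Cfsg.Agent.S3557

/-- Let G act faithfully and transitively on a finite set with 2p² points, p a prime, and suppose G is 2-closed: every permutation of the set which, on each ordered pair of points, agrees with some element of G, is itself induced by an element of G. Then some element of G of prime order fixes no point. -/
theorem result {G Ω : Type*} [Group G] [Finite G] [MulAction G Ω] [FaithfulSMul G Ω] [Finite Ω]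
    (htrans : MulAction.IsPretransitive G Ω) (p : ℕ) (hp : p.Prime) (hcard : Nat.card Ω = 2 * p ^ 2)
    (hcl : ∀ σ : Equiv.Perm Ω, (∀ a b : Ω, ∃ g : G, σ a = g • a ∧ σ b = g • b) → ∃ g : G, ∀ a : Ω, σ a = g • a) :
    ∃ g : G, (orderOf g).Prime ∧ ∀ ω : Ω, g • ω ≠ ω := by
  classical
  have : Fact p.Prime := ⟨hp⟩
  obtain ⟨P⟩ : Nonempty (Sylow p G) := inferInstance
  have hQ : IsPGroup p ↥(P : Subgroup G) := P.isPGroup'
  have hidx2 := Cfsg.Agent.Lib.Helper2.Dissect.sq_dvd_index_stabilizer htrans p hcard P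
  -- a central element of order p
  obtain ⟨z, hzc, hzord⟩ := Cfsg.Agent.Lib.Helper2.Dissect.exists_central_order_p htrans p hcard P
  have hzp : z ^ p = 1 := by
    have := pow_orderOf_eq_one z
    rwa [hzord] at this
  by_cases hΔ : ∃ α : Ω, z • α = α
  swap
  · push Not at hΔ
    refine ⟨(z : G), ?_, fun ω => hΔ ω⟩
    rw [Subgroup.orderOf_coe, hzord]
    exact hp
  have hΓ : ∃ β : Ω, z • β ≠ β := by
    by_contra hcon
    push Not at hcon
    have h1 : (z : G) = 1 := by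
      apply FaithfulSMul.eq_of_smul_eq_smul (α := Ω)
      intro ω
      rw [one_smul]
      exact hcon ω
    have h2 : z = 1 := Subtype.ext h1
    rw [h2, orderOf_one] at hzord
    exact hp.one_lt.ne hzord
  obtain ⟨htΔ, htΓ, hidx⟩ :=
    Cfsg.Agent.Lib.Helper2.Dissect.two_orbits p hcard hzc hidx2 hΔ hΓ
  obtain ⟨w, hw1, hw2, hw3⟩ :=
    Cfsg.Agent.Lib.Helper2.Dissect.exists_w p hQ hzc htΔ htΓ hidx hΔ hΓ
  obtain ⟨g₀, hg₀⟩ := hcl (Cfsg.Agent.Lib.Helper2.Dissect.sigmaPerm hzc w) (by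
    intro a b
    by_cases ha : z • a = a <;> by_cases hb : z • b = b
    · exact ⟨(w : G), by rw [Cfsg.Agent.Lib.Helper2.Dissect.sigmaPerm_fixed hzc w ha]; rfl,
        by rw [Cfsg.Agent.Lib.Helper2.Dissect.sigmaPerm_fixed hzc w hb]; rfl⟩
    · obtain ⟨g, hg1, hg2⟩ := hw3 a b ha hb
      exact ⟨(g : G), by rw [Cfsg.Agent.Lib.Helper2.Dissect.sigmaPerm_fixed hzc w ha, ← hg1]; rfl,
        by rw [Cfsg.Agent.Lib.Helper2.Dissect.sigmaPerm_moved hzc w hb, ← hg2]; rfl⟩
    · obtain ⟨g, hg1, hg2⟩ := hw3 b a hb ha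
      exact ⟨(g : G), by rw [Cfsg.Agent.Lib.Helper2.Dissect.sigmaPerm_moved hzc w ha, ← hg2]; rfl,
        by rw [Cfsg.Agent.Lib.Helper2.Dissect.sigmaPerm_fixed hzc w hb, ← hg1]; rfl⟩
    · exact ⟨(z : G), by rw [Cfsg.Agent.Lib.Helper2.Dissect.sigmaPerm_moved hzc w ha]; rfl,
        by rw [Cfsg.Agent.Lib.Helper2.Dissect.sigmaPerm_moved hzc w hb]; rfl⟩)
  have hfix : ∀ ω : Ω, z • ω = ω → g₀ • ω = w • ω := fun ω hω => by
    rw [← hg₀, Cfsg.Agent.Lib.Helper2.Dissect.sigmaPerm_fixed hzc w hω]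
  have hmov : ∀ ω : Ω, z • ω ≠ ω → g₀ • ω = z • ω := fun ω hω => by
    rw [← hg₀, Cfsg.Agent.Lib.Helper2.Dissect.sigmaPerm_moved hzc w hω]
  have hnofix : ∀ ω : Ω, g₀ • ω ≠ ω := by
    intro ω
    by_cases hω : z • ω = ω
    · rw [hfix ω hω]; exact hw1 ω hω
    · rw [hmov ω hω]; exact hω
  have hpowfix : ∀ n : ℕ, ∀ ω : Ω, z • ω = ω → g₀ ^ n • ω = w ^ n • ω := by
    intro n
    induction n with
    | zero => intro ω _; simp
    | succ n ih =>
      intro ω hω
      rw [pow_succ, mul_smul, hfix ω hω,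
        ih (w • ω) (Cfsg.Agent.Lib.Helper2.Dissect.fixed_smul hzc w hω), pow_succ, mul_smul]
  have hpowmov : ∀ n : ℕ, ∀ ω : Ω, z • ω ≠ ω → g₀ ^ n • ω = z ^ n • ω := by
    intro n
    induction n with
    | zero => intro ω _; simp
    | succ n ih =>
      intro ω hω
      rw [pow_succ, mul_smul, hmov ω hω,
        ih (z • ω) (Cfsg.Agent.Lib.Helper2.Dissect.moved_smul hzc z hω), pow_succ, mul_smul]
  have hg₀p : g₀ ^ p = 1 := by
    apply FaithfulSMul.eq_of_smul_eq_smul (α := Ω)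
    intro ω
    rw [one_smul]
    by_cases hω : z • ω = ω
    · rw [hpowfix p ω hω]; exact hw2 ω hω
    · rw [hpowmov p ω hω, hzp, one_smul]
  refine ⟨g₀, ?_, hnofix⟩
  have hdvd : orderOf g₀ ∣ p := orderOf_dvd_of_pow_eq_one hg₀p
  rcases (Nat.dvd_prime hp).mp hdvd with h | h
  · exfalso
    obtain ⟨α, _⟩ := hΔ
    have := orderOf_eq_one_iff.mp h
    apply hnofix α
    rw [this, one_smul]
  · rw [h]; exact hp

end Cfsg.Agent.S3557
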