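import Cfsg.Statements.S3559
import Cfsg.Agent.Lib.Helper19.SchurCyclic

set_option autoImplicit false
open Cfsg

namespace Cfsg.Agent.S3559

/-- Let G act faithfully and transitively on a finite set whose number of points n ≥ 2 is not a prime power, and suppose G has a cyclic subgroup acting regularly (transitively with trivial point stabilizers). Then G is imprimitive or doubly transitive. -/
theorem result {G Ω : Type*} [Group G] [Finite G] [MulAction G Ω] [FaithfulSMul G Ω] [Finite Ω]
    (htrans : MulAction.IsPretransitive G Ω) (hn : 2 ≤ Nat.card Ω) (hnp : ¬ IsPrimePow (Nat.card Ω))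
    (C : Subgroup G) (hcyc : IsCyclic ↥C) (hC : MulAction.IsPretransitive ↥C Ω ∧ ∀ a : Ω, MulAction.stabilizer ↥C a = ⊥) :
    ¬ MulAction.IsPreprimitive G Ω ∨ MulAction.IsMultiplyPretransitive G Ω 2 := by
  by_cases hprim : MulAction.IsPreprimitive G Ω
  · right
    have hp := Nat.minFac_prime (n := Nat.card Ω) (by omega)
    have hpd := Nat.minFac_dvd (Nat.card Ω)
    have hne : Nat.card Ω ≠ Nat.minFac (Nat.card Ω) := by
      intro h
      apply hnp
      rw [h]
      exact hp.isPrimePow
    have hne' : Nonempty Ω := (Nat.card_pos_iff.1 (by omega)).1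
    obtain ⟨ω₀⟩ := hne'
    exact Cfsg.Agent.Lib.Helper19.SchurCyclic.schur_two_transitive hprim C hcyc hC.1 hC.2 _ hp hpd
      hne ω₀
  · left
    exact hprim

end Cfsg.Agent.S3559
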