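import Cfsg.Statements.S3560
import Cfsg.Agent.Lib.Helper19.Hamming

set_option autoImplicit false
open Cfsg

namespace Cfsg.Agent.S3560

/-- Let K be a finite group isomorphic to a direct product of r ≥ 2 groups all of the same order m ≥ 3. Then K is not a B-group: there is a primitive but not doubly transitive permutation group (on some finite set) containing a regular subgroup isomorphic to K. -/
theorem result {K : Type*} [Group K] [Finite K] {ι : Type*} [Fintype ι] (F : ι → Type*) [∀ i, Group (F i)]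
    (hr : 2 ≤ Fintype.card ι) (m : ℕ) (hm : 3 ≤ m) (hcard : ∀ i, Nat.card (F i) = m) (e : K ≃* (∀ i, F i)) :
    ∃ (n : ℕ) (G R : Subgroup (Equiv.Perm (Fin n))), R ≤ G ∧ Nonempty (↥R ≃* K) ∧
      MulAction.IsPretransitive ↥R (Fin n) ∧ (∀ a : Fin n, MulAction.stabilizer ↥R a = ⊥) ∧
      MulAction.IsPreprimitive ↥G (Fin n) ∧ ¬ MulAction.IsMultiplyPretransitive ↥G (Fin n) 2 := by
  classical
  have hfin : ∀ i, Finite (F i) := fun i =>
    Nat.finite_of_card_ne_zero (by rw [hcard i]; omega)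
  let o₀ : Fin m := ⟨0, by omega⟩
  let θ₀ : ∀ i, F i ≃ Fin m := fun i => Finite.equivFinOfCardEq (hcard i)
  let θ : ∀ i, F i ≃ Fin m := fun i => (θ₀ i).trans (Equiv.swap (θ₀ i 1) o₀)
  have hθ : ∀ i, θ i 1 = o₀ := by
    intro i
    show Equiv.swap (θ₀ i 1) o₀ (θ₀ i 1) = o₀
    exact Equiv.swap_apply_left _ _
  let f : (ι → Fin m) ≃ Fin (Fintype.card (ι → Fin m)) := Fintype.equivFin _
  refine ⟨Fintype.card (ι → Fin m),
    Cfsg.Agent.Lib.Helper19.transportSubgroup f (Cfsg.Agent.Lib.Helper19.hammingAut ι m),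
    Cfsg.Agent.Lib.Helper19.transportSubgroup f (Cfsg.Agent.Lib.Helper19.translSubgroup F θ),
    ?_, ?_, ?_, ?_, ?_, ?_⟩
  · exact Cfsg.Agent.Lib.Helper19.transport_mono f
      (Cfsg.Agent.Lib.Helper19.translSubgroup_le F θ)
  · exact ⟨(Cfsg.Agent.Lib.Helper19.transportEquiv f _).symm.trans
      ((Cfsg.Agent.Lib.Helper19.translEquiv F θ).symm.trans e.symm)⟩
  · exact (Cfsg.Agent.Lib.Helper19.transport_isPretransitive f _).mp
      (Cfsg.Agent.Lib.Helper19.translSubgroup_isPretransitive F θ)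
  · exact Cfsg.Agent.Lib.Helper19.transport_stabilizer_eq_bot f _
      (Cfsg.Agent.Lib.Helper19.translSubgroup_stabilizer F θ)
  · exact (Cfsg.Agent.Lib.Helper19.transport_isPreprimitive f _).mp
      (Cfsg.Agent.Lib.Helper19.hammingAut_isPreprimitive F θ hm o₀ hθ)
  · intro h
    exact Cfsg.Agent.Lib.Helper19.hammingAut_not_two_transitive hr (by omega)
      ((Cfsg.Agent.Lib.Helper19.transport_isMultiplyPretransitive f _ 2).mpr h)

end Cfsg.Agent.S3560
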