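import Cfsg.Statements.S3575
import Cfsg.Agent.Lib.Helper9.UPartA
import Cfsg.Agent.Lib.Helper9.UPartD

set_option autoImplicit false
open Cfsg

namespace Cfsg.Agent.S3575

/-- Let a, b ≥ 2 and consider the symmetric group of degree a·b acting on the partitions of an (a·b)-set into b parts of size a (encoded as maps onto a b-element set all of whose fibres have a elements; a permutation fixes such a partition when it permutes the fibres). Let r be a prime dividing the number (ab)!/((a!)^b·b!) of such partitions, and let ℓ and k be the remainders of a and b modulo r. Then every permutation of order r fixes some such partition if and only if r ≤ a and one of the following holds: ℓ = 0; or k = 0 and ℓ = 1; or ℓ and k are non-zero, k·ℓ < r, and either b < r or (k + r)·ℓ ≤ k·a + r. -/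
theorem result (a b : ℕ) (ha : 2 ≤ a) (hb : 2 ≤ b) (r : ℕ) (hr : r.Prime)
    (hrd : r ∣ (a * b).factorial / (a.factorial ^ b * b.factorial)) :
    (∀ σ : Equiv.Perm (Fin (a * b)), orderOf σ = r →
        ∃ f : Fin (a * b) → Fin b, (∀ j : Fin b, Nat.card {x : Fin (a * b) // f x = j} = a) ∧
          ∃ π : Equiv.Perm (Fin b), ∀ x : Fin (a * b), f (σ x) = π (f x)) ↔
      (r ≤ a ∧ (a % r = 0 ∨ (b % r = 0 ∧ a % r = 1) ∨
        (a % r ≠ 0 ∧ b % r ≠ 0 ∧ (b % r) * (a % r) < r ∧ (b < r ∨ (b % r + r) * (a % r) ≤ (b % r) * a + r)))) := by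
  classical
  have : Fact r.Prime := ⟨hr⟩
  have hr2 : 2 ≤ r := hr.two_le
  have hrab : r ≤ a * b := Lib.Helper9.UPartA.prime_le_of_dvd a b r (by omega) hr hrd
  have hst : (r ≤ a ∧ (a % r = 0 ∨ (b % r = 0 ∧ a % r = 1) ∨
        (a % r ≠ 0 ∧ b % r ≠ 0 ∧ (b % r) * (a % r) < r ∧
          (b < r ∨ (b % r + r) * (a % r) ≤ (b % r) * a + r)))) ↔
      Lib.Helper9.UPartA.Cond a b r := Lib.Helper9.UPartA.stmt_iff_cond a b r hb hr2
  rw [hst]
  constructor
  · intro h
    apply Lib.Helper9.UPartA.cond_of_rep a b r ha hr2 hrab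
    intro j hj hjr
    obtain ⟨σ, hσo, hσs⟩ := Lib.Helper9.UPartD.exists_perm (a * b) r j hj hjr
    obtain ⟨f, hf, π, hπ⟩ := h σ hσo
    have hf' : ∀ j : Fin b, (Finset.univ.filter (fun x => f x = j)).card = a := by
      intro j
      have h0 := hf j
      rw [Nat.card_eq_fintype_card, Fintype.card_subtype] at h0
      exact h0
    have hσr : σ ^ r = 1 := by rw [← hσo]; exact pow_orderOf_eq_one σ
    obtain ⟨u, s, h1, h2, h3⟩ :=
      Lib.Helper9.UPartB.rep_of_invariant a r (by omega) σ hσr f hf' π hπ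
    rw [Fintype.card_fin] at h1 h2
    refine ⟨u, s, h1, h2, ?_⟩
    rw [hσs, mul_comm] at h3
    exact Nat.eq_of_mul_eq_mul_left (by omega) h3
  · intro hc σ hσ
    have hσr : σ ^ r = 1 := by rw [← hσ]; exact pow_orderOf_eq_one σ
    have hσ1 : σ ≠ 1 := by
      intro h
      rw [h, orderOf_one] at hσ
      omega
    obtain ⟨k, hk, hk1⟩ := Lib.Helper9.UPartB.card_support_of_pow_eq_one r σ hσr
    have hkle : k * r ≤ a * b := by
      rw [← hk]
      calc σ.support.card ≤ Fintype.card (Fin (a * b)) := Finset.card_le_univ _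
        _ = a * b := Fintype.card_fin _
    obtain ⟨u, s, h1, h2, h3⟩ := Lib.Helper9.UPartA.rep_of_cond a b r hr2 hc k hkle
    obtain ⟨f, hf, π, hπ⟩ := Lib.Helper9.UPartD.exists_partition a b r (by simp) σ hσ u s h1 h2
      (by rw [hk, h3, mul_comm])
    refine ⟨f, fun j => ?_, π, hπ⟩
    rw [Nat.card_eq_fintype_card]
    convert hf j

end Cfsg.Agent.S3575
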