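import Cfsg.Statements.S3592
-- import your own Cfsg.Agent.* helpers here
import Cfsg.Agent.Lib.Helper1.M11RecC
import Cfsg.Agent.Lib.Helper1.M11RecE
import Cfsg.Agent.Lib.Helper5.M11NseC

set_option autoImplicit false
open Cfsg

namespace Cfsg.Agent.S3592

/-- Let M be the Mathieu group M₁₁ (order 7920). If a finite group G has the same order as M and the same set of values of the function 'number of elements of order n' (taken over the element orders n that occur), then G is isomorphic to M. -/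
theorem result {G : Type*} [Group G] [Finite G]
    (hcard : Nat.card G = Nat.card ↥Cfsg.Spor.M11)
    (hnse : {c : ℕ | 0 < c ∧ ∃ n : ℕ, c = Nat.card {g : G // orderOf g = n}} =
      {c : ℕ | 0 < c ∧ ∃ n : ℕ, c = Nat.card {g : ↥Cfsg.Spor.M11 // orderOf g = n}}) :
    Nonempty (G ≃* ↥Cfsg.Spor.M11) := by
  haveI : Finite ↥Cfsg.Spor.M11 := Cfsg.Agent.Lib.Helper1.M11Rec.finite_sporM11
  haveI : IsSimpleGroup ↥Cfsg.Spor.M11 := Cfsg.Agent.Lib.Helper1.M11Rec.isSimpleGroup_sporM11
  have hM : Nat.card ↥Cfsg.Spor.M11 = 7920 := Cfsg.Agent.Lib.Helper1.M11Rec.card_sporM11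
  rw [Cfsg.Agent.Lib.Helper5.M11.nse_7920 hM] at hnse
  have hord : Nat.card G = 7920 := hcard.trans hM
  have hs : IsSimpleGroup G := Cfsg.Agent.Lib.Helper1.M11Rec.isSimpleGroup_of_nse hord (by
    intro n hn
    rw [← hnse]
    exact ⟨hn, n, rfl⟩)
  exact Cfsg.Agent.Lib.Helper1.M11Rec.iso_sporM11_of_isM11 ⟨hs, hord⟩

end Cfsg.Agent.S3592
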