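import Cfsg.Statements.S3611
import Cfsg.Agent.Lib.Helper6.PDDefs
import Cfsg.Agent.Lib.Helper6.PDCORE
import Cfsg.Agent.Lib.Helper8.PDINV
import Cfsg.Agent.Lib.Helper8.PD2T
import Cfsg.Agent.Lib.Helper23.PDCOORD
import Cfsg.Agent.Lib.Helper23.PDGE3
import Cfsg.Agent.Lib.Helper23.PD3T
import Cfsg.Agent.Lib.Helper27.PDAFF
import Cfsg.Agent.Lib.Helper27.PDCOVER

set_option autoImplicit false
open Cfsg

namespace Cfsg.Agent.S3611

/-- Let G be an insoluble group acting faithfully and transitively on a finite set of prime size p, and suppose the normalizer of a Sylow p-subgroup of G has order p(p-1)/2. If p ≡ 3 (mod 4), then G is triply transitive, or for any two distinct points the stabilizer of both has exactly four orbits on the set (the two fixed points and exactly two orbits on the remaining p - 2 points). -/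
theorem result {G Ω : Type*} [Group G] [Finite G] [MulAction G Ω] [FaithfulSMul G Ω] [Finite Ω]
    (p : ℕ) (hp : p.Prime) (hΩ : Nat.card Ω = p) (htrans : MulAction.IsPretransitive G Ω)
    (hins : ¬ Group.IsSolvable G) (P : Sylow p G)
    (hN : 2 * Nat.card ↥(Subgroup.normalizer ((P : Subgroup G) : Set G)) = p * (p - 1))
    (hp3 : p % 4 = 3) :
    MulAction.IsMultiplyPretransitive G Ω 3 ∨
    ∀ α β : Ω, α ≠ β →
      Nat.card (MulAction.orbitRel.Quotient ↥(MulAction.stabilizer G α ⊓ MulAction.stabilizer G β) Ω) = 4 := by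
  classical
  have : Fact p.Prime := ⟨hp⟩
  have : Fintype Ω := Fintype.ofFinite Ω
  have hΩ' : Fintype.card Ω = p := by rw [← Nat.card_eq_fintype_card]; exact hΩ
  have hp2 : p ≠ 2 := by rintro rfl; omega
  have hp3' : 3 ≤ p := by omega
  have hinv := Cfsg.Agent.Lib.Helper8.PDINV.PDINV hΩ' htrans hins
  have h2 := Cfsg.Agent.Lib.Helper8.PD2T.PD2T hΩ' htrans hins
  obtain ⟨x, e, hxP, hPgen, hx⟩ := Cfsg.Agent.Lib.Helper23.PDCOORD.PDCOORD hΩ' htrans P
  have hNaff : ∀ n ∈ Subgroup.normalizer ((P : Subgroup G) : Set G),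
      ∃ u b : ZMod p, ∀ j : ZMod p, n • e j = e (u * j + b) :=
    fun n hn => Cfsg.Agent.Lib.Helper27.PDAFF.PDAFF x e hx P hxP hPgen n hn
  have hle : ∀ α β : Ω, α ≠ β →
      Nat.card (MulAction.orbitRel.Quotient
        ↥(MulAction.stabilizer G α ⊓ MulAction.stabilizer G β) Ω) ≤ 4 := by
    intro α β hαβ
    obtain ⟨g₂, hcov⟩ := Cfsg.Agent.Lib.Helper27.PDCOVER.PDCOVER hΩ' h2 e _ hNaff hN α β hαβ
    refine Cfsg.Agent.Lib.Helper6.PDCORE.PDCORE hp2 e hinv _ hNaff _ 1 g₂ ?_
    intro g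
    obtain ⟨h, hh, n, hn, hg⟩ := hcov g
    exact ⟨h, hh, n, hn, by simpa using hg⟩
  by_cases h : ∀ α β : Ω, α ≠ β →
      Nat.card (MulAction.orbitRel.Quotient
        ↥(MulAction.stabilizer G α ⊓ MulAction.stabilizer G β) Ω) = 4
  · exact Or.inr h
  · left
    push Not at h
    obtain ⟨α, β, hαβ, hne⟩ := h
    have h3 := Cfsg.Agent.Lib.Helper23.PDGE3.PDGE3 (G := G) (by rw [hΩ]; exact hp3') α β hαβ
    have h4 := hle α β hαβ
    exact Cfsg.Agent.Lib.Helper23.PD3T.PD3T h2 α β hαβ (by omega)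

end Cfsg.Agent.S3611
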