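import Cfsg.Statements.S3622
-- import your own Cfsg.Agent.* helpers here

set_option autoImplicit false
open Cfsg

namespace Cfsg.Agent.S3622

/-- Let G be a group of permutations of a finite set, m ≥ 2, and α a point. Say a permutation σ is k-approximated by a set S of permutations if for every k points there is a member of S agreeing with σ at those points. Suppose every permutation that is (m-1)-approximated by the stabilizer of α in G lies in that stabilizer (the stabilizer is (m-1)-closed). Then every permutation that is m-approximated by G lies in G (G is m-closed). -/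
theorem result {Ω : Type*} [Finite Ω] (G : Subgroup (Equiv.Perm Ω)) (m : ℕ) (hm : 2 ≤ m) (α : Ω)
    (hclosed : ∀ σ : Equiv.Perm Ω,
      (∀ t : Fin (m - 1) → Ω, ∃ g ∈ MulAction.stabilizer ↥G α, ∀ i, (g : Equiv.Perm Ω) (t i) = σ (t i)) →
      σ ∈ G ∧ σ α = α) :
    ∀ σ : Equiv.Perm Ω, (∀ t : Fin m → Ω, ∃ g ∈ G, ∀ i, g (t i) = σ (t i)) → σ ∈ G := by
  intro σ hσ
  obtain ⟨k, rfl⟩ : ∃ k, m = k + 1 := ⟨m - 1, by omega⟩
  have hclosed' : ∀ σ : Equiv.Perm Ω,
      (∀ t : Fin k → Ω, ∃ g ∈ MulAction.stabilizer ↥G α, ∀ i, (g : Equiv.Perm Ω) (t i) = σ (t i)) →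
      σ ∈ G ∧ σ α = α := hclosed
  obtain ⟨g₀, hg₀, hg₀α⟩ := hσ (fun _ => α)
  have hg₀α' : g₀ α = σ α := hg₀α 0
  have hτ : ∀ t : Fin (k + 1) → Ω, ∃ g ∈ G, ∀ i, g (t i) = (g₀⁻¹ * σ) (t i) := by
    intro t
    obtain ⟨g, hg, hgt⟩ := hσ t
    refine ⟨g₀⁻¹ * g, G.mul_mem (G.inv_mem hg₀) hg, ?_⟩
    intro i
    simp only [Equiv.Perm.mul_apply, hgt i]
  have hτG : (g₀⁻¹ * σ) ∈ G := by
    refine (hclosed' (g₀⁻¹ * σ) ?_).1
    intro t
    obtain ⟨g, hg, hgt⟩ := hτ (Fin.cons α t)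
    have h0 : g α = α := by
      have := hgt 0
      simp only [Fin.cons_zero, Equiv.Perm.mul_apply] at this
      rw [this, ← hg₀α']
      simp
    refine ⟨⟨g, hg⟩, ?_, ?_⟩
    · rw [MulAction.mem_stabilizer_iff]
      exact h0
    · intro i
      have := hgt i.succ
      simpa using this
  have : σ = g₀ * (g₀⁻¹ * σ) := by group
  rw [this]
  exact G.mul_mem hg₀ hτG

end Cfsg.Agent.S3622
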