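import Cfsg.Statements.S3639
-- import your own Cfsg.Agent.* helpers here
import Cfsg.Agent.S2238
import Cfsg.Agent.Lib.Helper15.SuzukiLie
import Cfsg.Agent.Lib.Helper15.SemidirectOrders

set_option autoImplicit false
open Cfsg

namespace Cfsg.Agent.S3639

open Cfsg.Agent.Lib.Helper15.SuzukiAlg Cfsg.Agent.Lib.Helper15.SuzukiOvoid
  Cfsg.Agent.Lib.Helper15.SuzukiMat
  Cfsg.Agent.Lib.Helper15.SuzukiGroup Cfsg.Agent.Lib.Helper15.SuzukiOrder
  Cfsg.Agent.Lib.Helper15.SuzukiZassenhaus Cfsg.Agent.Lib.Helper15.SuzukiBorel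
  Cfsg.Agent.Lib.Helper15.SuzukiElements
  Cfsg.Agent.Lib.Helper15.SuzukiFpf Cfsg.Agent.Lib.Helper15.SuzukiLie
  Cfsg.Agent.Lib.Helper15.SemidirectOrders
  Cfsg.Agent.S2410 Cfsg.Agent.S2247 Cfsg.Agent.S0331 Matrix
open scoped Pointwise

variable {F : Type*} [Field F] [Fintype F] {m : ℕ}

/-- non-trivial torus elements fix no non-zero vector -/
theorem Hm_fix (hF : Fintype.card F = 2 ^ (2 * m + 1)) {μ : F} (hμ0 : μ ≠ 0) (hμ : μ ≠ 1)
    {c : Fin 4 → F} (hc : Hm (sig (two_eq_zero hF) m) μ *ᵥ c = c) : c = 0 := by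
  have h2 := two_eq_zero hF
  have hσ := sig_sig h2 hF
  rw [Hm_mulVec] at hc
  have hsμ : μ * sig h2 m μ ≠ 1 := by
    intro h
    apply hμ
    have h1 : sig h2 m μ = μ⁻¹ := eq_inv_of_mul_eq_one_right h
    have h3 := congrArg (sig h2 m) h1
    rw [hσ, map_inv₀, h1, inv_inv] at h3
    have : μ * μ = μ * 1 := by rw [mul_one, ← sq]; exact h3
    exact mul_left_cancel₀ hμ0 this
  have hμi : μ⁻¹ ≠ 1 := fun h => hμ (inv_eq_one.mp h)
  have hsμi : (μ * sig h2 m μ)⁻¹ ≠ 1 := fun h => hsμ (inv_eq_one.mp h)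
  have key : ∀ (d x : F), d ≠ 1 → d * x = x → x = 0 := by
    intro d x hd hx
    have : (d - 1) * x = 0 := by rw [sub_mul, hx, one_mul, sub_self]
    rcases mul_eq_zero.mp this with h | h
    · exact absurd (sub_eq_zero.mp h) hd
    · exact h
  have e0 := congrFun hc 0
  have e1 := congrFun hc 1
  have e2 := congrFun hc 2
  have e3 := congrFun hc 3
  simp only [Matrix.cons_val_zero, Matrix.cons_val_one, Matrix.cons_val] at e0 e1 e2 e3
  funext i
  fin_cases i
  · exact key _ _ hsμ e0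
  · exact key _ _ hμ e1
  · exact key _ _ hμi e2
  · exact key _ _ hsμi e3

/-- elements of odd prime order fix no non-zero vector -/
theorem vec_fix_zero (hm : 1 ≤ m) (hF : Fintype.card F = 2 ^ (2 * m + 1)) {g : Cfsg.Sz F m} {p : ℕ}
    (hp : p.Prime) (hp2 : p ≠ 2) (hg : orderOf g = p) {c : Fin 4 → F} (hc : mat g *ᵥ c = c) :
    c = 0 := by
  have : Fact p.Prime := ⟨hp⟩
  have hg1 : g ≠ 1 := by
    rintro rfl
    rw [orderOf_one] at hg
    exact hp.one_lt.ne' hg.symm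
  rcases Cfsg.Agent.S2238.classify hm hF hg1 with hfpf | ⟨k, a, b, hab, hk⟩ | ⟨k, ν, hν, hk⟩
  · have hpN : p ∣ (2 ^ (2 * m + 1)) ^ 2 + 1 := by rw [← hg]; exact hfpf.order_dvd hF hm
    have hy : orderOf (g : Matrix.SpecialLinearGroup (Fin 4) F) = p := by
      rw [Subgroup.orderOf_coe]; exact hg
    exact fpf_of_order hF hp2 hpN _ hy c hc
  · exfalso
    have hQ : IsPGroup 2 (Qz hF) := (QSyl hF hm).isPGroup'
    obtain ⟨j, hj⟩ := hQ ⟨Ts hF a b, Ts_mem_Qz hF a b⟩
    have h1 : (Ts hF a b) ^ (2 ^ j) = 1 := congrArg Subtype.val hj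
    have h2 : orderOf (Ts hF a b) = p := by rw [← hk, orderOf_conj', hg]
    have h3 : p ∣ 2 ^ j := by rw [← h2]; exact orderOf_dvd_of_pow_eq_one h1
    exact not_dvd_two_pow hp hp2 j h3
  · have hν1 : (ν : F) ≠ 1 := fun h => hν (Units.ext h)
    have hg' : mat g = mat k⁻¹ * mat (Hs hF ν) * mat k := by
      rw [← mat_mul, ← mat_mul, ← hk]
      congr 1
      group
    have h1 : mat (Hs hF ν) *ᵥ (mat k *ᵥ c) = mat k *ᵥ c := by
      have : mat k *ᵥ (mat g *ᵥ c) = mat k *ᵥ c := by rw [hc]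
      rw [hg', Matrix.mulVec_mulVec, ← mul_assoc, ← mul_assoc, ← mat_mul, mul_inv_cancel] at this
      rw [Matrix.mulVec_mulVec]
      rw [Cfsg.Agent.Lib.Helper15.SuzukiField.mat_one, Matrix.one_mul] at this
      exact this
    have h2 : mat k *ᵥ c = 0 := Hm_fix hF ν.ne_zero hν1 h1
    have h3 : mat k⁻¹ *ᵥ (mat k *ᵥ c) = 0 := by rw [h2, Matrix.mulVec_zero]
    rw [Matrix.mulVec_mulVec, ← mat_mul, inv_mul_cancel,
      Cfsg.Agent.Lib.Helper15.SuzukiField.mat_one, Matrix.one_mulVec] at h3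
    exact h3

/-- the action on `n` copies of the natural module -/
@[reducible] def actV (n : ℕ) : DistribMulAction (Cfsg.Sz F m) (Matrix (Fin 4) (Fin n) F) where
  smul g M := mat g * M
  one_smul M := Matrix.one_mul M
  mul_smul _ _ _ := Matrix.mul_assoc _ _ _
  smul_zero _ := Matrix.mul_zero _
  smul_add _ _ _ := Matrix.mul_add _ _ _

/-- a model in the lowest universe -/
theorem exists_small_model (H₀ : Type*) [Group H₀] [Finite H₀] :
    ∃ (H : Type) (_ : Group H) (_ : Fintype H), Nonempty (H ≃* H₀) := by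
  classical
  have := Fintype.ofFinite H₀
  let e : Fin (Fintype.card H₀) ≃ H₀ := (Fintype.equivFin H₀).symm
  exact ⟨Fin (Fintype.card H₀), e.group, inferInstance, ⟨e.mulEquiv⟩⟩

theorem exists_order_iff {A B : Type*} [Group A] [Group B] (e : A ≃* B) (k : ℕ) :
    (∃ x : A, orderOf x = k) ↔ (∃ y : B, orderOf y = k) := by
  constructor
  · rintro ⟨x, hx⟩
    exact ⟨e x, by rw [MulEquiv.orderOf_eq, hx]⟩
  · rintro ⟨y, hy⟩
    exact ⟨e.symm y, by rw [MulEquiv.orderOf_eq, hy]⟩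

theorem main (hm : 1 ≤ m) (hF : Fintype.card F = 2 ^ (2 * m + 1)) (N : ℕ) :
    ∃ (H : Type) (_ : Group H) (_ : Fintype H), N < Fintype.card H ∧ ((∀ r : ℕ, r.Prime → (r ∣ Nat.card ↥(Cfsg.Lie.Sz F (2 ^ (m + 1))) ↔ r ∣ Nat.card H)) ∧
      (∀ r s : ℕ, r.Prime → s.Prime → r ≠ s → ((∃ x : ↥(Cfsg.Lie.Sz F (2 ^ (m + 1))), orderOf x = r * s) ↔ (∃ y : H, orderOf y = r * s)))) := by
  classical
  have h2 := two_eq_zero hF
  letI := actV (F := F) (m := m) (N + 1)
  have hV2 : ∀ v : Matrix (Fin 4) (Fin (N + 1)) F, v + v = 0 := by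
    intro v
    ext i j
    exact add_self h2 (v i j)
  have hfpf : ∀ (g : Cfsg.Sz F m) (p : ℕ), p.Prime → p ≠ 2 → orderOf g = p →
      ∀ v : Matrix (Fin 4) (Fin (N + 1)) F, g • v = v → v = 0 := by
    intro g p hp hp2 hg v hv
    have hv' : mat g * v = v := hv
    ext i j
    have hcol : mat g *ᵥ (fun i => v i j) = fun i => v i j := by
      funext i'
      have := congrFun (congrFun hv' i') j
      rw [Matrix.mul_apply] at this
      exact this
    have := vec_fix_zero hm hF hp hp2 hg hcol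
    exact congrFun this i
  have hfin : Finite (Multiplicative (Matrix (Fin 4) (Fin (N + 1)) F) ⋊[(phi : Cfsg.Sz F m →*
      MulAut (Multiplicative (Matrix (Fin 4) (Fin (N + 1)) F)))] Cfsg.Sz F m) :=
    Finite.of_equiv _ SemidirectProduct.equivProd.symm
  obtain ⟨H, instG, instF, ⟨eH⟩⟩ := exists_small_model
    (Multiplicative (Matrix (Fin 4) (Fin (N + 1)) F) ⋊[(phi : Cfsg.Sz F m →*
      MulAut (Multiplicative (Matrix (Fin 4) (Fin (N + 1)) F)))] Cfsg.Sz F m)
  have eL := equivLie hF hm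
  have hcardV : Nat.card (Multiplicative (Matrix (Fin 4) (Fin (N + 1)) F)) =
      2 ^ ((2 * m + 1) * (N + 1) * 4) := by
    have : Nat.card (Multiplicative (Matrix (Fin 4) (Fin (N + 1)) F)) =
        Nat.card (Fin 4 → Fin (N + 1) → F) := rfl
    rw [this, Nat.card_eq_fintype_card, Fintype.card_fun, Fintype.card_fun, Fintype.card_fin,
      Fintype.card_fin, hF, ← pow_mul, ← pow_mul, mul_assoc]
  have hcardH : Nat.card H = 2 ^ ((2 * m + 1) * (N + 1) * 4) * Nat.card (Cfsg.Sz F m) := by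
    rw [Nat.card_congr eH.toEquiv, SemidirectProduct.card, hcardV]
  have hcardL : Nat.card ↥(Cfsg.Lie.Sz F (2 ^ (m + 1))) = Nat.card (Cfsg.Sz F m) :=
    (Nat.card_congr eL.toEquiv).symm
  refine ⟨H, instG, instF, ?_, ?_, ?_⟩
  · rw [← Nat.card_eq_fintype_card, hcardH]
    have h1 : 0 < Nat.card (Cfsg.Sz F m) := Nat.card_pos
    have h3 : N + 1 ≤ (2 * m + 1) * (N + 1) * 4 := by nlinarith
    calc N < 2 ^ N := Nat.lt_two_pow_self
      _ ≤ 2 ^ ((2 * m + 1) * (N + 1) * 4) := Nat.pow_le_pow_right (by norm_num) (by omega)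
      _ ≤ 2 ^ ((2 * m + 1) * (N + 1) * 4) * Nat.card (Cfsg.Sz F m) := Nat.le_mul_of_pos_right _ h1
  · intro r hr
    rw [hcardL, hcardH]
    constructor
    · intro h
      exact dvd_mul_of_dvd_right h _
    · intro h
      rcases (Nat.Prime.dvd_mul hr).mp h with h | h
      · have hr2 : r = 2 := (Nat.prime_dvd_prime_iff_eq hr Nat.prime_two).mp (hr.dvd_of_dvd_pow h)
        rw [hr2, card_Sz hF hm]
        apply dvd_mul_of_dvd_left
        apply dvd_mul_of_dvd_left
        rw [← pow_mul]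
        exact dvd_pow_self 2 (by omega)
      · exact h
  · intro r s hr hs hrs
    rw [← exists_order_iff eL (r * s), exists_order_iff eH (r * s)]
    constructor
    · rintro ⟨x, hx⟩
      refine ⟨SemidirectProduct.inr x, ?_⟩
      rw [orderOf_injective _ SemidirectProduct.inr_injective, hx]
    · rintro ⟨y, hy⟩
      exact ⟨y.right, order_right hV2 hfpf hr hs hrs y hy⟩

/-- Let S be the Suzuki group over the field with q = 2^(2m+1) ≥ 8 elements. Then there are finite groups of arbitrarily large order with the same prime graph as S. -/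
theorem result {F : Type*} [Field F] [Fintype F] {m : ℕ} (hm : 1 ≤ m) (hF : Fintype.card F = 2 ^ (2 * m + 1)) (N : ℕ) :
    ∃ (H : Type) (_ : Group H) (_ : Fintype H), N < Fintype.card H ∧ ((∀ r : ℕ, r.Prime → (r ∣ Nat.card ↥(Cfsg.Lie.Sz F (2 ^ (m + 1))) ↔ r ∣ Nat.card H)) ∧
      (∀ r s : ℕ, r.Prime → s.Prime → r ≠ s → ((∃ x : ↥(Cfsg.Lie.Sz F (2 ^ (m + 1))), orderOf x = r * s) ↔ (∃ y : H, orderOf y = r * s)))) := by
  exact main hm hF N

end Cfsg.Agent.S3639
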