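import Cfsg.Statements.S3663
import Cfsg.Agent.Lib.Helper6.PGU34E
import Cfsg.Agent.Lib.Helper19.SUCongr

set_option autoImplicit false
open Cfsg

namespace Cfsg.Agent.S3663

open Cfsg.Agent.Lib.Helper6.PGU34 Cfsg.Agent.Lib.Helper6.PGF16 Cfsg.Agent.Lib.Helper14
  Cfsg.Agent.Lib.Helper19.SUCongr

/-- The prime graph of a finite group has the prime divisors of its order as vertices, two distinct primes p, q being joined when the group has an element of order pq; two groups have the same prime graph when they have the same prime divisors and the same joined pairs. Let F be the field with 16 elements and L = PSU(3,4) realised over F. There are finite groups of arbitrarily large order with the same prime graph as L. -/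
theorem result {F : Type*} [Field F] [Fintype F] (hF : Fintype.card F = 16) (N : ℕ) :
    ∃ (H : Type) (_ : Group H) (_ : Finite H), N < Nat.card H ∧
      ((∀ p : ℕ, p.Prime → (p ∣ Nat.card (Cfsg.PSU 3 F 4) ↔ p ∣ Nat.card H)) ∧
      (∀ p q : ℕ, p.Prime → q.Prime → p ≠ q → ((∃ g : (Cfsg.PSU 3 F 4), orderOf g = p * q) ↔ (∃ g : H, orderOf g = p * q)))) := by
  classical
  have hF4 : Fintype.card F = 4 ^ 2 := by rw [hF]; norm_num
  let φ : F ≃+* F16 := FiniteField.ringEquivOfCardEq (by rw [hF, card_F16])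
  have hc : Subgroup.center (Cfsg.SU 3 F 4) = ⊥ := by
    rw [← Subgroup.card_eq_one, card_center_SU hF4 3 (by norm_num)]
    norm_num
  have hinj : Function.Injective (QuotientGroup.mk' (Subgroup.center (Cfsg.SU 3 F 4))) := by
    rw [← MonoidHom.ker_eq_bot_iff, QuotientGroup.ker_mk', hc]
  let π : Cfsg.SU 3 F 4 ≃* Cfsg.PSU 3 F 4 :=
    MulEquiv.ofBijective (QuotientGroup.mk' (Subgroup.center (Cfsg.SU 3 F 4)))
      ⟨hinj, QuotientGroup.mk'_surjective _⟩
  let e : Cfsg.PSU 3 F 4 ≃* L34 := π.symm.trans (suCongr φ)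
  obtain ⟨H, hg, hf, hN, hpr, hed⟩ := model_large N
  refine ⟨H, hg, hf, hN, ?_, ?_⟩
  · intro p hp
    rw [← hpr p hp, Nat.card_congr e.toEquiv]
  · intro p q hp hq hpq
    rw [← hed p q hp hq hpq]
    constructor
    · rintro ⟨g, hg⟩
      exact ⟨e g, by rw [e.orderOf_eq, hg]⟩
    · rintro ⟨g, hg⟩
      exact ⟨e.symm g, by rw [e.symm.orderOf_eq, hg]⟩

end Cfsg.Agent.S3663
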