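import Cfsg.Statements.S3669
import Cfsg.Agent.Lib.Helper19.Order60
import Cfsg.Agent.Lib.Helper19.SylowTwoTrans
import Cfsg.Agent.Lib.Helper2.Ito

set_option autoImplicit false
open Cfsg

namespace Cfsg.Agent.S3669

/-- The character degree graph of a finite group has as vertices the primes dividing some irreducible complex character degree, two distinct primes being joined when their product divides some irreducible character degree; two groups have the same character degree graph when they have the same vertices and the same joined pairs. A finite group of order 60 with the same character degree graph as the alternating group A₅ (whose character degrees are 1, 3, 4, 5, so the graph has vertices 2, 3, 5 and no edges) is isomorphic to A₅. -/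
theorem result {G : Type*} [Group G] [Finite G] (hcard : Nat.card G = 60)
    (hΓ : Cfsg.degreePrimes G = Cfsg.degreePrimes (alternatingGroup (Fin 5)) ∧ Cfsg.degreeGraph G = Cfsg.degreeGraph (alternatingGroup (Fin 5))) : Nonempty (G ≃* alternatingGroup (Fin 5)) := by
  classical
  have h5 : 5 ∈ Cfsg.degreePrimes G := by
    rw [hΓ.1]; exact Cfsg.Agent.Lib.Helper19.five_mem_degreePrimes_A5
  obtain ⟨-, d, ⟨χ, hχd⟩, h5d⟩ := h5
  apply Cfsg.Agent.Lib.Helper19.mulEquiv_A5_of_card_sixty hcard
  rintro ⟨Q, hQ⟩
  haveI := hQ
  have hQc : Nat.card (Q : Subgroup G) = 5 := by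
    have h := Q.card_eq_multiplicity
    rw [hcard] at h
    have h2 : (60 : ℕ).factorization 5 = 1 := by decide +kernel
    rw [h2, pow_one] at h
    exact h
  have hab : ∀ a ∈ (Q : Subgroup G), ∀ b ∈ (Q : Subgroup G), a * b = b * a := by
    haveI : IsCyclic (Q : Subgroup G) := isCyclic_of_prime_card hQc
    letI : CommGroup (Q : Subgroup G) := IsCyclic.commGroup
    intro a ha b hb
    have := mul_comm (⟨a, ha⟩ : (Q : Subgroup G)) ⟨b, hb⟩
    exact congrArg Subtype.val this
  let _ := Fintype.ofFinite G
  obtain ⟨d', hd1, hd2⟩ := Cfsg.Agent.Lib.Helper2.ito_aux (Fintype.card G) G rfl χ χ.2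
    (Q : Subgroup G) hab
  have hdd : d' = d := by
    have h1 := Cfsg.Agent.Lib.Helper24.irr_apply_one χ
    rw [hd1, hχd] at h1
    exact_mod_cast h1
  have hidx : (Q : Subgroup G).index = 12 := by
    have := Subgroup.card_mul_index (Q : Subgroup G)
    rw [hQc, hcard] at this
    omega
  rw [hdd, hidx] at hd2
  have : 5 ∣ 12 := h5d.trans hd2
  omega

end Cfsg.Agent.S3669
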