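import Cfsg.Statements.S3670
import Cfsg.Agent.Lib.Helper6.ICU33
import Cfsg.Agent.Lib.Helper6.ICSolv
import Cfsg.Agent.Lib.Helper6.ICGraph
import Cfsg.Agent.Lib.Helper13.DegreeSets
import Cfsg.Agent.Lib.Helper19.SUCongr
import Cfsg.Agent.Lib.Helper14.Unitary3

set_option autoImplicit false
open Cfsg

namespace Cfsg.Agent.S3670

open Cfsg.Agent.Lib.Helper6.ICF9 Cfsg.Agent.Lib.Helper6.ICCode Cfsg.Agent.Lib.Helper6.ICU33
  Cfsg.Agent.Lib.Helper6.ICSolv Cfsg.Agent.Lib.Helper6.ICGraph Cfsg.Agent.Lib.Helper14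
  Cfsg.Agent.Lib.Helper19.SUCongr Cfsg.Agent.Lib.Helper13

/-- The character degree graph of a finite group has as vertices the primes dividing some irreducible complex character degree, two distinct primes being joined when their product divides some irreducible character degree; two groups have the same character degree graph when they have the same vertices and the same joined pairs. Let F be the field with 9 elements and L = PSU(3,3) realised over F (order 6048). There is a finite solvable group of order 6048 with the same character degree graph as L; so L is not determined by its order together with its character degree graph. -/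
theorem result {F : Type*} [Field F] [Fintype F] (hF : Fintype.card F = 9) :
    ∃ (H : Type) (_ : Group H) (_ : Fintype H), Group.IsSolvable H ∧ Nat.card H = 6048 ∧ Cfsg.degreePrimes H = Cfsg.degreePrimes (Cfsg.PSU 3 F 3) ∧ Cfsg.degreeGraph H = Cfsg.degreeGraph (Cfsg.PSU 3 F 3) := by
  classical
  have hF3 : Fintype.card F = 3 ^ 2 := by rw [hF]; norm_num
  let φ : F ≃+* F9 := FiniteField.ringEquivOfCardEq (by rw [hF, card_F9])
  have hc : Subgroup.center (Cfsg.SU 3 F 3) = ⊥ := by
    rw [← Subgroup.card_eq_one, card_center_SU hF3 3 (by norm_num)]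
    norm_num
  have hinj : Function.Injective (QuotientGroup.mk' (Subgroup.center (Cfsg.SU 3 F 3))) := by
    rw [← MonoidHom.ker_eq_bot_iff, QuotientGroup.ker_mk', hc]
  let π : Cfsg.SU 3 F 3 ≃* Cfsg.PSU 3 F 3 :=
    MulEquiv.ofBijective (QuotientGroup.mk' (Subgroup.center (Cfsg.SU 3 F 3)))
      ⟨hinj, QuotientGroup.mk'_surjective _⟩
  let e : Cfsg.PSU 3 F 3 ≃* G33 := π.symm.trans (suCongr φ)
  -- the unitary group
  obtain ⟨χ6, h6, h6'⟩ := exists_irr6
  obtain ⟨χ21, h21, h21'⟩ := exists_irr21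
  obtain ⟨χ28, h28, h28'⟩ := exists_irr28
  have g6 : ∃ d ∈ charDegrees G33, 6 ∣ d :=
    ⟨6, mem_charDegrees_of_irr h6 (by rw [h6']; norm_num), dvd_refl _⟩
  have g14 : ∃ d ∈ charDegrees G33, 14 ∣ d :=
    ⟨28, mem_charDegrees_of_irr h28 (by rw [h28']; norm_num), by norm_num⟩
  have g21 : ∃ d ∈ charDegrees G33, 21 ∣ d :=
    ⟨21, mem_charDegrees_of_irr h21 (by rw [h21']; norm_num), dvd_refl _⟩
  -- the solvable group
  obtain ⟨χ42, h42, h42'⟩ := exists_irr42
  have m42 : 42 ∈ charDegrees Cfsg.Agent.Lib.Helper6.ICSolv.H :=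
    mem_charDegrees_of_irr h42 (by rw [h42']; norm_num)
  have s6 : ∃ d ∈ charDegrees Cfsg.Agent.Lib.Helper6.ICSolv.H, 6 ∣ d := ⟨42, m42, by norm_num⟩
  have s14 : ∃ d ∈ charDegrees Cfsg.Agent.Lib.Helper6.ICSolv.H, 14 ∣ d := ⟨42, m42, by norm_num⟩
  have s21 : ∃ d ∈ charDegrees Cfsg.Agent.Lib.Helper6.ICSolv.H, 21 ∣ d := ⟨42, m42, by norm_num⟩
  refine ⟨Cfsg.Agent.Lib.Helper6.ICSolv.H, inferInstance, Fintype.ofFinite _, inferInstance,
    card_H, ?_, ?_⟩
  · rw [degreePrimes_congr e, degreePrimes_eq card_H s6 s14, degreePrimes_eq card_G33 g6 g14]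
  · ext p q
    rw [degreeGraph_adj_congr e, adj_iff card_H s6 s14 s21, adj_iff card_G33 g6 g14 g21]

end Cfsg.Agent.S3670
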