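import Cfsg.Statements.S3680
import Cfsg.Agent.Lib.Helper19.PrimSocle

set_option autoImplicit false
open Cfsg

namespace Cfsg.Agent.S3680

/-- The socle of a finite primitive permutation group. Let a finite group G act faithfully and primitively on a set Ω, and let N be the subgroup generated by the minimal normal subgroups of G. Then either N is an elementary abelian p-group for some prime p and acts regularly on Ω (transitively with trivial point stabilizers), or N is isomorphic to a direct product of m ≥ 1 copies of a non-abelian simple group. -/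
theorem result {G Ω : Type*} [Group G] [Finite G] [MulAction G Ω] [FaithfulSMul G Ω] [Finite Ω]
    (hprim : MulAction.IsPreprimitive G Ω) (N : Subgroup G)
    (hN : N = sSup {V : Subgroup G | V.Normal ∧ V ≠ ⊥ ∧ ∀ M : Subgroup G, M.Normal → M ≤ V → M = ⊥ ∨ M = V}) :
    (∃ p : ℕ, p.Prime ∧ IsMulCommutative N ∧ (∀ x : N, x ^ p = 1) ∧
      MulAction.IsPretransitive N Ω ∧ ∀ ω : Ω, MulAction.stabilizer N ω = ⊥) ∨
    (∃ (T : Type) (_ : Group T) (m : ℕ), 1 ≤ m ∧ IsSimpleGroup T ∧ ¬ IsMulCommutative T ∧ Nonempty (N ≃* (Fin m → T))) := by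
  classical
  by_cases hG : Subsingleton G
  · left
    refine ⟨2, Nat.prime_two, ⟨⟨fun a b => Subsingleton.elim _ _⟩⟩, fun x => Subsingleton.elim _ _, ?_, ?_⟩
    · constructor
      intro a b
      obtain ⟨g, hg⟩ := hprim.toIsPretransitive.exists_smul_eq a b
      have h1 : g = 1 := Subsingleton.elim _ _
      subst h1
      rw [one_smul] at hg
      exact ⟨1, by rw [one_smul]; exact hg⟩
    · intro ω
      exact Subsingleton.elim _ _
  · rw [not_subsingleton_iff_nontrivial] at hG
    have hne : Nonempty Ω := by
      by_contra h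
      rw [not_nonempty_iff] at h
      obtain ⟨g, hg⟩ := exists_ne (1 : G)
      apply hg
      apply FaithfulSMul.eq_of_smul_eq_smul (α := Ω)
      intro a
      exact isEmptyElim a
    obtain ⟨ω₀⟩ := hne
    have htop : (⊤ : Subgroup G) ≠ ⊥ := top_ne_bot
    obtain ⟨hU, hcore⟩ := Cfsg.Agent.Lib.Helper4.primitive_setup hprim ⊤ htop ω₀
    rcases Cfsg.Agent.Lib.Helper19.socle_of_coreFree_coatom _ hU hcore N hN with
      ⟨p, hp, hNn, hNne, hNc, hpow, -⟩ | h
    · left
      refine ⟨p, hp, ⟨⟨fun a b => Subtype.ext (hNc a a.2 b b.2)⟩⟩,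
        fun x => Subtype.ext (by simpa using hpow x x.2), ?_, ?_⟩
      · haveI := hNn
        apply MulAction.IsQuasiPreprimitive.isPretransitive_of_normal (G := G)
        intro hfix
        apply hNne
        rw [eq_bot_iff]
        intro x hx
        rw [Subgroup.mem_bot]
        apply FaithfulSMul.eq_of_smul_eq_smul (α := Ω)
        intro a
        have h1 : a ∈ MulAction.fixedPoints N Ω := by rw [hfix]; trivial
        rw [one_smul]
        exact h1 ⟨x, hx⟩
      · intro ω
        obtain ⟨hU', hcore'⟩ := Cfsg.Agent.Lib.Helper4.primitive_setup hprim ⊤ htop ω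
        have h0 := Cfsg.Agent.Lib.Helper4.coreFree_inf_abelian _ hU' hcore' N hNn hNne hNc
        rw [eq_bot_iff]
        intro x hx
        rw [Subgroup.mem_bot]
        have h1 : (x : G) ∈ MulAction.stabilizer G ω ⊓ N := by
          refine Subgroup.mem_inf.mpr ⟨?_, x.2⟩
          rw [MulAction.mem_stabilizer_iff] at hx ⊢
          exact hx
        rw [h0, Subgroup.mem_bot] at h1
        exact Subtype.ext h1
    · right
      exact h

end Cfsg.Agent.S3680
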