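import Cfsg.Statements.S3683
-- import your own Cfsg.Agent.* helpers here

set_option autoImplicit false
open Cfsg

namespace Cfsg.Agent.S3683

/-- Let a finite group G act faithfully and primitively on a set Ω, and suppose the stabilizer of a point a fixes a second point b ≠ a (a suborbit of length 1 other than {a}). Then the stabilizer of a is trivial and G is cyclic of prime order. -/
theorem result {G Ω : Type*} [Group G] [Finite G] [MulAction G Ω] [FaithfulSMul G Ω] [Finite Ω]
    (hprim : MulAction.IsPreprimitive G Ω) (a b : Ω) (hab : a ≠ b) (hfix : ∀ g : G, g • a = a → g • b = b) :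
    MulAction.stabilizer G a = ⊥ ∧ IsCyclic G ∧ (Nat.card G).Prime := by
  classical
  haveI : Nontrivial Ω := ⟨⟨a, b, hab⟩⟩
  haveI := hprim
  have hmax_a : IsCoatom (MulAction.stabilizer G a) :=
    MulAction.IsPreprimitive.isCoatom_stabilizer_of_isPreprimitive G a
  have hmax_b : IsCoatom (MulAction.stabilizer G b) :=
    MulAction.IsPreprimitive.isCoatom_stabilizer_of_isPreprimitive G b
  have hle : MulAction.stabilizer G a ≤ MulAction.stabilizer G b := by
    intro g hg
    rw [MulAction.mem_stabilizer_iff] at hg ⊢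
    exact hfix g hg
  have heq : MulAction.stabilizer G a = MulAction.stabilizer G b := by
    rcases eq_or_lt_of_le hle with h | h
    · exact h
    · exact absurd (hmax_a.2 _ h) hmax_b.1
  haveI : MulAction.IsPretransitive G Ω := hprim.toIsPretransitive
  obtain ⟨g, hg⟩ := MulAction.exists_smul_eq G a b
  -- stabilizer is normal
  have hgn : g ∈ Subgroup.normalizer (MulAction.stabilizer G a : Set G) := by
    rw [Subgroup.mem_normalizer_iff]
    intro h
    have h1 : g * h * g⁻¹ ∈ MulAction.stabilizer G b ↔ h ∈ MulAction.stabilizer G a := by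
      rw [MulAction.mem_stabilizer_iff, MulAction.mem_stabilizer_iff, ← hg]
      simp [mul_smul]
    rw [heq] at h1 ⊢
    rw [h1]
  have hgnot : g ∉ MulAction.stabilizer G a := by
    intro h
    rw [MulAction.mem_stabilizer_iff] at h
    exact hab (h.symm.trans hg)
  have hnorm : Subgroup.normalizer (MulAction.stabilizer G a : Set G) = ⊤ := by
    apply hmax_a.2
    apply lt_of_le_of_ne Subgroup.le_normalizer
    intro h
    apply hgnot
    rw [h]; exact hgn
  have hbot : MulAction.stabilizer G a = ⊥ := by
    rw [Subgroup.eq_bot_iff_forall]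
    intro h hh
    apply FaithfulSMul.eq_of_smul_eq_smul (α := Ω)
    intro x
    obtain ⟨k, rfl⟩ := MulAction.exists_smul_eq G a x
    have hk : k⁻¹ ∈ Subgroup.normalizer (MulAction.stabilizer G a : Set G) := by
      rw [hnorm]; trivial
    have h2 : k⁻¹ * h * k⁻¹⁻¹ ∈ MulAction.stabilizer G a :=
      (Subgroup.mem_normalizer_iff.mp hk h).mp hh
    rw [MulAction.mem_stabilizer_iff] at h2
    have h3 : h • k • a = k • ((k⁻¹ * h * k⁻¹⁻¹) • a) := by
      simp [mul_smul]
    rw [h3, h2, one_smul]
  refine ⟨hbot, ?_⟩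
  rw [hbot] at hmax_a
  have hg1 : g ≠ 1 := by
    intro h
    apply hgnot
    rw [h]; exact Subgroup.one_mem _
  have hz : ∀ y : G, y ≠ 1 → Subgroup.zpowers y = ⊤ := by
    intro y hy
    apply hmax_a.2
    rw [bot_lt_iff_ne_bot]
    intro h
    exact hy (Subgroup.zpowers_eq_bot.mp h)
  have hcyc : IsCyclic G := by
    rw [isCyclic_iff_exists_zpowers_eq_top]
    exact ⟨g, hz g hg1⟩
  refine ⟨hcyc, ?_⟩
  have hcard : Nat.card G ≠ 1 := by
    intro h
    haveI := (Nat.card_eq_one_iff_unique.mp h).1
    exact hg1 (Subsingleton.elim _ _)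
  obtain ⟨p, hp, hpd⟩ := Nat.exists_prime_and_dvd hcard
  have : Fact p.Prime := ⟨hp⟩
  obtain ⟨y, hy⟩ := exists_prime_orderOf_dvd_card' (G := G) p hpd
  have hy1 : y ≠ 1 := by
    intro h
    rw [h, orderOf_one] at hy
    exact hp.one_lt.ne hy
  have := hz y hy1
  have h5 : Nat.card (Subgroup.zpowers y) = Nat.card G := by
    rw [this]; exact Subgroup.card_top
  rw [Nat.card_zpowers, hy] at h5
  rw [← h5]; exact hp

end Cfsg.Agent.S3683
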