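import Cfsg.Statements.S3696
import Cfsg.Agent.Lib.Helper27.AbelPermBound

set_option autoImplicit false
open Cfsg

namespace Cfsg.Agent.S3696

/-- Let p be a prime, Ω a finite set with n ≥ p elements, and A an abelian p-subgroup of the symmetric group on Ω whose elements of order dividing p number p^k (so k is the rank of A). Then |A| · k^k ≤ n^k, that is, |A| ≤ (n/k)^k. -/
theorem result {Ω : Type*} [Fintype Ω] [DecidableEq Ω]
    (p : ℕ) (hp : p.Prime) (hn : p ≤ Fintype.card Ω) (A : Subgroup (Equiv.Perm Ω)) (hA : IsPGroup p A) (hab : IsMulCommutative A)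
    (k : ℕ) (hk : Nat.card {x : A // x ^ p = 1} = p ^ k) :
    Nat.card A * k ^ k ≤ Fintype.card Ω ^ k := by
  classical
  haveI := Fact.mk hp
  have hcomm : ∀ a b : ↥A, a * b = b * a := fun a b => hab.is_comm.comm a b
  haveI : Fintype (MulAction.orbitRel.Quotient ↥A Ω) := Fintype.ofFinite _
  have htriv : ∀ g : ↥A, (∀ i ∈ (Finset.univ : Finset (MulAction.orbitRel.Quotient ↥A Ω)),
      g ∈ MulAction.stabilizer ↥A (Quotient.out i)) → g = 1 := by
    intro g hg
    apply Subtype.ext
    apply Equiv.ext
    intro ω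
    show (g : Equiv.Perm Ω) ω = ω
    have hmem : ω ∈ MulAction.orbit ↥A
        (Quotient.out (Quotient.mk'' ω : MulAction.orbitRel.Quotient ↥A Ω)) := by
      rw [← MulAction.orbitRel_apply]
      exact Quotient.exact' (Quotient.out_eq' _).symm
    obtain ⟨h, hh⟩ := hmem
    have hfix := hg (Quotient.mk'' ω) (Finset.mem_univ _)
    rw [MulAction.mem_stabilizer_iff] at hfix
    have e1 : g • ω = ω := by
      rw [← hh]
      show g • h • _ = h • _
      rw [smul_smul, hcomm g h, ← smul_smul, hfix]
    exact e1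
  have hsum : ∑ i : MulAction.orbitRel.Quotient ↥A Ω,
      (MulAction.stabilizer ↥A (Quotient.out i)).index = Fintype.card Ω := by
    simp_rw [MulAction.index_stabilizer]
    have e := MulAction.selfEquivSigmaOrbits ↥A Ω
    rw [← Nat.card_eq_fintype_card, Nat.card_congr e, Nat.card_sigma]
    exact Finset.sum_congr rfl (fun i _ => (Nat.card_coe_set_eq _).symm)
  have key := Cfsg.Agent.Lib.Helper27.AbelPermBound.star p
    (Finset.univ : Finset (MulAction.orbitRel.Quotient ↥A Ω)).card ↥A hcomm hA Finset.univ
    (fun i => MulAction.stabilizer ↥A (Quotient.out i)) rfl htriv k hk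
  rw [hsum] at key
  exact key


end Cfsg.Agent.S3696
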