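import Cfsg.Statements.S3704
import Cfsg.Agent.Lib.Helper19.PermCharTwo

set_option autoImplicit false
open Cfsg

namespace Cfsg.Agent.S3704

/-- Let G be a finite group acting faithfully and 2-transitively on a finite set Ω of size n, and let H be a subgroup of index n in G which is not transitive on Ω and fixes no point of Ω. Then H has exactly two orbits on Ω. -/
theorem result {G Ω : Type*} [Group G] [Finite G] [MulAction G Ω] [FaithfulSMul G Ω] [Finite Ω] (h2 : MulAction.IsMultiplyPretransitive G Ω 2) (H : Subgroup G) (hidx : H.index = Nat.card Ω) (hnt : ¬ MulAction.IsPretransitive H Ω) (hfix : ∀ a : Ω, ∃ h : H, h • a ≠ a) : Nat.card (MulAction.orbitRel.Quotient H Ω) = 2 := by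
  have hQ : Nat.card (MulAction.orbitRel.Quotient H Ω) ≠ 1 := by
    intro h1
    apply hnt
    rw [MulAction.pretransitive_iff_subsingleton_quotient]
    exact (Nat.card_eq_one_iff_unique.mp h1).1
  have hne : Nonempty Ω := by
    by_contra hcon
    rw [not_nonempty_iff] at hcon
    exact hnt ⟨fun a => isEmptyElim a⟩
  have hn : 2 ≤ Nat.card Ω := by
    by_contra hcon
    push Not at hcon
    have hpos : 0 < Nat.card Ω := Nat.card_pos
    have h1 : Nat.card Ω = 1 := by omega
    have hsub : Subsingleton Ω := (Nat.card_eq_one_iff_unique.mp h1).1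
    exact hnt ⟨fun a b => ⟨1, Subsingleton.elim _ _⟩⟩
  have hle := Cfsg.Agent.Lib.Helper19.card_orbits_le_two_of_index_eq_degree h2 H hidx hn
  have hpos : 0 < Nat.card (MulAction.orbitRel.Quotient H Ω) := by
    have : Nonempty (MulAction.orbitRel.Quotient H Ω) := (nonempty_quotient_iff _).mpr hne
    exact Nat.card_pos
  omega

end Cfsg.Agent.S3704
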