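import Cfsg.Statements.S3713
import Cfsg.Agent.Lib.Helper18.SPAsm6

set_option autoImplicit false
open Cfsg

namespace Cfsg.Agent.S3713

/-- A presentation of the symplectic group as the universal completion of an amalgam of small subgroups. Let F be a field with more than two elements, n ≥ 2, and Sp the group of 2n × 2n matrices over F preserving the standard alternating form, acting on column vectors; write e_k, f_k for the standard basis vectors of the two halves (a hyperbolic basis). For each k let S_k be the subgroup of Sp fixing e_l and f_l for all l ≠ k (a copy of SL(2, F) on the plane of e_k, f_k), and for each i with i + 1 < n let M_i be the subgroup fixing every e_l and fixing f_l for all l other than i, i+1 (an abelian group isomorphic to the additive group of F³). Then Sp is the universal completion of the amalgam formed by the S_k, the M_i and the subgroups generated by two of them: for every group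 H and homomorphisms σ_k : S_k → H, μ_i : M_i → H such that for each pair of these subgroups some homomorphism on the subgroup they generate restricts to the given ones, there is exactly one homomorphism Sp → H restricting to every σ_k and μ_i. -/
theorem result
    (F : Type*) [Field F] (hF : ∃ a : F, a ≠ 0 ∧ a ≠ 1) (n : ℕ) (hn : 2 ≤ n)
    (S M : Fin n → Subgroup ↥(Matrix.symplecticGroup (Fin n) F))
    (hS : ∀ j : Fin n, S j = Subgroup.closure {A : ↥(Matrix.symplecticGroup (Fin n) F) | ∀ k : Fin n, k ≠ j →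
      ((A : ↥(Matrix.symplecticGroup (Fin n) F)) : Matrix (Fin n ⊕ Fin n) (Fin n ⊕ Fin n) F).mulVec (Pi.single (Sum.inl k) (1 : F)) = (Pi.single (Sum.inl k) (1 : F)) ∧ ((A : ↥(Matrix.symplecticGroup (Fin n) F)) : Matrix (Fin n ⊕ Fin n) (Fin n ⊕ Fin n) F).mulVec (Pi.single (Sum.inr k) (1 : F)) = (Pi.single (Sum.inr k) (1 : F))})
    (hM : ∀ i : Fin n, (i : ℕ) + 1 < n → M i = Subgroup.closure {A : ↥(Matrix.symplecticGroup (Fin n) F) |
      (∀ k : Fin n, ((A : ↥(Matrix.symplecticGroup (Fin n) F)) : Matrix (Fin n ⊕ Fin n) (Fin n ⊕ Fin n) F).mulVec (Pi.single (Sum.inl k) (1 : F)) = (Pi.single (Sum.inl k) (1 : F))) ∧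
        ∀ k : Fin n, (k : ℕ) ≠ i → (k : ℕ) ≠ (i : ℕ) + 1 → ((A : ↥(Matrix.symplecticGroup (Fin n) F)) : Matrix (Fin n ⊕ Fin n) (Fin n ⊕ Fin n) F).mulVec (Pi.single (Sum.inr k) (1 : F)) = (Pi.single (Sum.inr k) (1 : F))})
    {H : Type*} [Group H] (σ : ∀ j : Fin n, ↥(S j) →* H) (μ : ∀ i : Fin n, ↥(M i) →* H)
    (hSS : ∀ j l : Fin n, j ≠ l → ∃ Ψ : ↥(S j ⊔ S l) →* H,
      (∀ (g : ↥(Matrix.symplecticGroup (Fin n) F)) (hg : g ∈ S j), Ψ ⟨g, Subgroup.mem_sup_left hg⟩ = σ j ⟨g, hg⟩) ∧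
        (∀ (g : ↥(Matrix.symplecticGroup (Fin n) F)) (hg : g ∈ S l), Ψ ⟨g, Subgroup.mem_sup_right hg⟩ = σ l ⟨g, hg⟩))
    (hMM : ∀ i i' : Fin n, i ≠ i' → (i : ℕ) + 1 < n → (i' : ℕ) + 1 < n → ∃ Ψ : ↥(M i ⊔ M i') →* H,
      (∀ (g : ↥(Matrix.symplecticGroup (Fin n) F)) (hg : g ∈ M i), Ψ ⟨g, Subgroup.mem_sup_left hg⟩ = μ i ⟨g, hg⟩) ∧
        (∀ (g : ↥(Matrix.symplecticGroup (Fin n) F)) (hg : g ∈ M i'), Ψ ⟨g, Subgroup.mem_sup_right hg⟩ = μ i' ⟨g, hg⟩))
    (hMS : ∀ i j : Fin n, (i : ℕ) + 1 < n → ∃ Ψ : ↥(M i ⊔ S j) →* H,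
      (∀ (g : ↥(Matrix.symplecticGroup (Fin n) F)) (hg : g ∈ M i), Ψ ⟨g, Subgroup.mem_sup_left hg⟩ = μ i ⟨g, hg⟩) ∧
        (∀ (g : ↥(Matrix.symplecticGroup (Fin n) F)) (hg : g ∈ S j), Ψ ⟨g, Subgroup.mem_sup_right hg⟩ = σ j ⟨g, hg⟩)) :
    ∃! Φ : ↥(Matrix.symplecticGroup (Fin n) F) →* H,
      (∀ (j : Fin n) (g : ↥(Matrix.symplecticGroup (Fin n) F)) (hg : g ∈ S j), Φ g = σ j ⟨g, hg⟩) ∧
        (∀ (i : Fin n), (i : ℕ) + 1 < n → ∀ (g : ↥(Matrix.symplecticGroup (Fin n) F)) (hg : g ∈ M i), Φ g = μ i ⟨g, hg⟩) := by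
  classical
  -- identify the members
  have eSS : ∀ j : Fin n, S j = Cfsg.Agent.Lib.Helper18.SP.SS n F j := by
    intro j
    rw [hS j]
    exact Subgroup.closure_eq (Cfsg.Agent.Lib.Helper18.SP.SS n F j)
  have eMM : ∀ i p : Fin n, Cfsg.Agent.Lib.Helper18.SP.nx i p → M i = Cfsg.Agent.Lib.Helper18.SP.MM n F i p := by
    intro i p hip
    have hi : (i : ℕ) + 1 < n := by
      unfold Cfsg.Agent.Lib.Helper18.SP.nx at hip
      have := p.2
      omega
    rw [hM i hi]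
    have : {A : ↥(Matrix.symplecticGroup (Fin n) F) |
        (∀ k : Fin n, ((A : ↥(Matrix.symplecticGroup (Fin n) F)) : Matrix (Fin n ⊕ Fin n) (Fin n ⊕ Fin n) F).mulVec (Pi.single (Sum.inl k) (1 : F)) = (Pi.single (Sum.inl k) (1 : F))) ∧
          ∀ k : Fin n, (k : ℕ) ≠ i → (k : ℕ) ≠ (i : ℕ) + 1 → ((A : ↥(Matrix.symplecticGroup (Fin n) F)) : Matrix (Fin n ⊕ Fin n) (Fin n ⊕ Fin n) F).mulVec (Pi.single (Sum.inr k) (1 : F)) = (Pi.single (Sum.inr k) (1 : F))}
        = (Cfsg.Agent.Lib.Helper18.SP.MM n F i p : Set _) := by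
      ext A
      constructor
      · rintro ⟨h1, h2⟩
        refine ⟨h1, fun k hki hkp => h2 k (fun h => hki (Fin.ext h)) (fun h => hkp (Fin.ext (h.trans hip.symm)))⟩
      · rintro ⟨h1, h2⟩
        refine ⟨h1, fun k hki hkp => h2 k (fun h => hki (congrArg Fin.val h)) (fun h => hkp ((congrArg Fin.val h).trans hip))⟩
    rw [this]
    exact Subgroup.closure_eq _
  -- the total functions
  let σ' : Fin n → ↥(Matrix.symplecticGroup (Fin n) F) → H := fun j => Cfsg.Agent.Lib.Helper18.SP.extendHom (σ j)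
  let μ' : Fin n → ↥(Matrix.symplecticGroup (Fin n) F) → H := fun i => Cfsg.Agent.Lib.Helper18.SP.extendHom (μ i)
  have hσ' : ∀ (j : Fin n) (g : ↥(Matrix.symplecticGroup (Fin n) F)) (hg : g ∈ S j), σ' j g = σ j ⟨g, hg⟩ :=
    fun j g hg => Cfsg.Agent.Lib.Helper18.SP.extendHom_apply (σ j) hg
  have hμ' : ∀ (i : Fin n) (g : ↥(Matrix.symplecticGroup (Fin n) F)) (hg : g ∈ M i), μ' i g = μ i ⟨g, hg⟩ :=
    fun i g hg => Cfsg.Agent.Lib.Helper18.SP.extendHom_apply (μ i) hg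
  have hi_of : ∀ i p : Fin n, Cfsg.Agent.Lib.Helper18.SP.nx i p → (i : ℕ) + 1 < n := by
    intro i p hip
    unfold Cfsg.Agent.Lib.Helper18.SP.nx at hip
    have := p.2
    omega
  have A : Cfsg.Agent.Lib.Helper18.SP.IsAmalgam σ' μ' := by
    refine ⟨?_, ?_, ?_, ?_, ?_⟩
    · intro j
      rw [← eSS j]
      exact Cfsg.Agent.Lib.Helper18.SP.extendHom_homOn (σ j)
    · intro i p hip
      rw [← eMM i p hip]
      exact Cfsg.Agent.Lib.Helper18.SP.extendHom_homOn (μ i)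
    · intro j l hjl
      obtain ⟨Ψ, h1, h2⟩ := hSS j l hjl
      refine ⟨Cfsg.Agent.Lib.Helper18.SP.extendHom Ψ, ?_, ?_, ?_⟩
      · rw [← eSS j, ← eSS l]
        exact Cfsg.Agent.Lib.Helper18.SP.extendHom_homOn Ψ
      · intro g hg
        rw [← eSS j] at hg
        rw [Cfsg.Agent.Lib.Helper18.SP.extendHom_apply Ψ (Subgroup.mem_sup_left hg), h1 g hg, hσ' j g hg]
      · intro g hg
        rw [← eSS l] at hg
        rw [Cfsg.Agent.Lib.Helper18.SP.extendHom_apply Ψ (Subgroup.mem_sup_right hg), h2 g hg, hσ' l g hg]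
    · intro i p i' p' hip hip' hii
      obtain ⟨Ψ, h1, h2⟩ := hMM i i' hii (hi_of i p hip) (hi_of i' p' hip')
      refine ⟨Cfsg.Agent.Lib.Helper18.SP.extendHom Ψ, ?_, ?_, ?_⟩
      · rw [← eMM i p hip, ← eMM i' p' hip']
        exact Cfsg.Agent.Lib.Helper18.SP.extendHom_homOn Ψ
      · intro g hg
        rw [← eMM i p hip] at hg
        rw [Cfsg.Agent.Lib.Helper18.SP.extendHom_apply Ψ (Subgroup.mem_sup_left hg), h1 g hg, hμ' i g hg]
      · intro g hg
        rw [← eMM i' p' hip'] at hg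
        rw [Cfsg.Agent.Lib.Helper18.SP.extendHom_apply Ψ (Subgroup.mem_sup_right hg), h2 g hg, hμ' i' g hg]
    · intro i p j hip
      obtain ⟨Ψ, h1, h2⟩ := hMS i j (hi_of i p hip)
      refine ⟨Cfsg.Agent.Lib.Helper18.SP.extendHom Ψ, ?_, ?_, ?_⟩
      · rw [← eMM i p hip, ← eSS j]
        exact Cfsg.Agent.Lib.Helper18.SP.extendHom_homOn Ψ
      · intro g hg
        rw [← eMM i p hip] at hg
        rw [Cfsg.Agent.Lib.Helper18.SP.extendHom_apply Ψ (Subgroup.mem_sup_left hg), h1 g hg, hμ' i g hg]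
      · intro g hg
        rw [← eSS j] at hg
        rw [Cfsg.Agent.Lib.Helper18.SP.extendHom_apply Ψ (Subgroup.mem_sup_right hg), h2 g hg, hσ' j g hg]
  have hn1 : 1 ≤ n := by omega
  obtain ⟨Φ, hΦS, hΦM⟩ := Cfsg.Agent.Lib.Helper18.SP.sp_universal hF hn1 A
  refine ⟨Φ, ⟨?_, ?_⟩, ?_⟩
  · intro j g hg
    rw [← hσ' j g hg]
    exact hΦS j g (eSS j ▸ hg)
  · intro i hi g hg
    rw [← hμ' i g hg]
    have hip : Cfsg.Agent.Lib.Helper18.SP.nx i (⟨(i : ℕ) + 1, hi⟩ : Fin n) := rfl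
    exact hΦM i _ hip g (eMM i _ hip ▸ hg)
  · rintro Φ' ⟨hS', hM'⟩
    refine Cfsg.Agent.Lib.Helper18.SP.sp_unique hn1 Φ' Φ ?_ ?_
    · intro j g hg
      have hg' : g ∈ S j := (eSS j).symm ▸ hg
      rw [hS' j g hg', hΦS j g hg, hσ' j g hg']
    · intro i p hip g hg
      have hg' : g ∈ M i := (eMM i p hip).symm ▸ hg
      rw [hM' i (hi_of i p hip) g hg', hΦM i p hip g hg, hμ' i g hg']

end Cfsg.Agent.S3713
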