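import Cfsg.Statements.S3733
-- import your own Cfsg.Agent.* helpers here

set_option autoImplicit false
open Cfsg

namespace Cfsg.Agent.S3733

open scoped IsMulCommutative in
theorem aux {G : Type*} [Group G] [Finite G] (A V : Subgroup G) [IsMulCommutative V]
    (hAV : A ≤ Subgroup.normalizer (V : Set G)) (𝒜 : Finset (Subgroup G)) (hne : 𝒜.Nonempty)
    (hprop : ∀ B ∈ 𝒜, B < A) (hpart : ∀ a ∈ A, a ≠ 1 → ∃! B, B ∈ 𝒜 ∧ a ∈ B)
    (hcon : ∀ B ∈ 𝒜, V ⊓ Subgroup.centralizer (B : Set G) = ⊥) (v : V) :
    v ^ (𝒜.card - 1) = 1 := by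
  classical
  haveI := Fintype.ofFinite G
  set N := Subgroup.normalizer (V : Set G) with hN
  haveI : Fintype N := Fintype.ofFinite N
  let S : Subgroup G → Finset N := fun B => Finset.univ.filter (fun x : N => (x : G) ∈ B)
  let F : N → V := fun x => x • v
  have hnorm : ∀ B : Subgroup G, B ≤ N → V ⊓ Subgroup.centralizer (B : Set G) = ⊥ →
      ∏ x ∈ S B, F x = 1 := by
    intro B hBN hB
    have hinv : ∀ c : N, (c : G) ∈ B → c • (∏ x ∈ S B, F x) = ∏ x ∈ S B, F x := by
      intro c hc
      rw [Finset.smul_prod']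
      apply Finset.prod_equiv (Equiv.mulLeft c)
      · intro x
        simp only [S, Finset.mem_filter, Finset.mem_univ, true_and, Equiv.coe_mulLeft]
        constructor
        · intro hx; exact B.mul_mem hc hx
        · intro hx
          have := B.mul_mem (B.inv_mem hc) hx
          simpa using this
      · intro x _
        simp only [F, Equiv.coe_mulLeft, mul_smul]
    have hmem : ((∏ x ∈ S B, F x : V) : G) ∈ V ⊓ Subgroup.centralizer (B : Set G) := by
      rw [Subgroup.mem_inf]
      refine ⟨(∏ x ∈ S B, F x).2, ?_⟩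
      rw [Subgroup.mem_centralizer_iff]
      intro b hb
      have h1 := hinv ⟨b, hBN hb⟩ hb
      have h2 : b * ((∏ x ∈ S B, F x : V) : G) * b⁻¹ = ((∏ x ∈ S B, F x : V) : G) :=
        congrArg (Subtype.val) h1
      have h3 := congrArg (· * b) h2
      simpa [mul_assoc] using h3
    rw [hB, Subgroup.mem_bot] at hmem
    exact Subtype.ext hmem
  have hAN : A ≤ N := hAV
  have hA1 : ∏ x ∈ S A, F x = 1 := by
    obtain ⟨B₀, hB₀⟩ := hne
    apply hnorm A hAN
    rw [eq_bot_iff, ← hcon B₀ hB₀]
    exact inf_le_inf_left V (Subgroup.centralizer_le (hprop B₀ hB₀).le)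
  have hB1 : ∀ B ∈ 𝒜, ∏ x ∈ S B, F x = 1 :=
    fun B hB => hnorm B ((hprop B hB).le.trans hAN) (hcon B hB)
  have hdc : ∏ B ∈ 𝒜, ∏ x ∈ S B, F x = (∏ x ∈ S A, F x) * v ^ (𝒜.card - 1) := by
    have h1 : ∀ B ∈ 𝒜, ∏ x ∈ S B, F x = ∏ x ∈ S A, if (x : G) ∈ B then F x else 1 := by
      intro B hB
      rw [← Finset.prod_filter]
      apply Finset.prod_congr _ (fun _ _ => rfl)
      ext x
      simp only [S, Finset.mem_filter, Finset.mem_univ, true_and]
      constructor
      · intro hx; exact ⟨(hprop B hB).le hx, hx⟩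
      · intro hx; exact hx.2
    rw [Finset.prod_congr rfl h1, Finset.prod_comm]
    have h2 : ∀ x ∈ S A, ∏ B ∈ 𝒜, (if (x : G) ∈ B then F x else 1) =
        F x * (if x = 1 then v ^ (𝒜.card - 1) else 1) := by
      intro x hx
      rw [Finset.prod_ite, Finset.prod_const_one, mul_one, Finset.prod_const]
      by_cases hx1 : x = 1
      · subst hx1
        have hfil : 𝒜.filter (fun B => ((1 : N) : G) ∈ B) = 𝒜 := by
          apply Finset.filter_true_of_mem
          intro B _
          exact B.one_mem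
        rw [hfil, if_pos rfl]
        have hF1 : F 1 = v := one_smul _ _
        rw [hF1, ← pow_succ']
        congr 1
        have := hne.card_pos
        omega
      · rw [if_neg hx1, mul_one]
        have hxA : (x : G) ∈ A := by simpa [S] using hx
        have hx1' : (x : G) ≠ 1 := fun h => hx1 (Subtype.ext h)
        obtain ⟨B, ⟨hB, hxB⟩, huniq⟩ := hpart x hxA hx1'
        have hfil : 𝒜.filter (fun B => (x : G) ∈ B) = {B} := by
          ext B'
          simp only [Finset.mem_filter, Finset.mem_singleton]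
          constructor
          · intro h; exact huniq B' h
          · intro h; subst h; exact ⟨hB, hxB⟩
        rw [hfil, Finset.card_singleton, pow_one]
    rw [Finset.prod_congr rfl h2, Finset.prod_mul_distrib]
    congr 1
    rw [Finset.prod_ite_eq']
    have h1A : (1 : N) ∈ S A := by simp [S, A.one_mem]
    rw [if_pos h1A]
  rw [Finset.prod_congr rfl hB1, Finset.prod_const_one, hA1, one_mul] at hdc
  exact hdc.symm


/-- Let A and V be subgroups of a finite group with V abelian and nontrivial and A normalizing V. Suppose a nonempty finite family of proper subgroups of A partitions A: every non-identity element of A lies in exactly one member. If the number of members minus one is coprime to the order of V, then some member B of the family has a non-identity fixed point on V, that is V ∩ C(B) ≠ 1. -/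
theorem result {G : Type*} [Group G] [Finite G] (A V : Subgroup G) (hVab : IsMulCommutative V) (hV : V ≠ ⊥) (hAV : A ≤ Subgroup.normalizer (V : Set G)) (𝒜 : Finset (Subgroup G)) (hne : 𝒜.Nonempty) (hprop : ∀ B ∈ 𝒜, B < A) (hpart : ∀ a ∈ A, a ≠ 1 → ∃! B, B ∈ 𝒜 ∧ a ∈ B) (hk : (𝒜.card - 1).Coprime (Nat.card V)) : ∃ B ∈ 𝒜, V ⊓ Subgroup.centralizer (B : Set G) ≠ ⊥ := by
  classical
  by_contra hcon
  push_neg at hcon
  haveI := hVab
  apply hV
  rw [Subgroup.eq_bot_iff_forall]
  intro x hx
  have h1 := aux A V hAV 𝒜 hne hprop hpart hcon ⟨x, hx⟩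
  have h2 : orderOf (⟨x, hx⟩ : V) ∣ 𝒜.card - 1 := orderOf_dvd_of_pow_eq_one h1
  have h3 : orderOf (⟨x, hx⟩ : V) ∣ Nat.card V := orderOf_dvd_natCard _
  have h4 : orderOf (⟨x, hx⟩ : V) ∣ 1 := by
    have := Nat.dvd_gcd h2 h3
    rwa [Nat.Coprime.gcd_eq_one hk] at this
  have h5 : (⟨x, hx⟩ : V) = 1 := orderOf_eq_one_iff.mp (Nat.dvd_one.mp h4)
  exact congrArg Subtype.val h5

end Cfsg.Agent.S3733
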