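import Cfsg.Statements.S3734
import Mathlib
import Cfsg.Agent.Lib.Helper17.CoprimeGen
import Cfsg.Agent.Lib.Helper1.Noncyclic
import Cfsg.Agent.Lib.Helper17.Basic

set_option autoImplicit false
set_option linter.unusedSectionVars false
open Cfsg
open scoped commutatorElement

namespace Cfsg.Agent.S3734

open Cfsg.Agent.Lib.Helper1 Cfsg.Agent.Lib.Helper17 Subgroup

/-- noncyclic pair modulo a subgroup of a finite abelian group -/
theorem exists_pair_mod {A : Type*} [CommGroup A] [Finite A] (C : Subgroup A)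
    (h : ¬ ∃ a : A, C ⊔ zpowers a = ⊤) :
    ∃ q : ℕ, q.Prime ∧ q ∣ Nat.card A ∧ ∃ a b : A, a ^ q ∈ C ∧ b ^ q ∈ C ∧ b ∉ C ∧
      ∀ j : ℕ, a * b ^ j ∉ C := by
  have hnc : ¬ IsCyclic (A ⧸ C) := by
    rintro ⟨⟨g, hg⟩⟩
    obtain ⟨a, rfl⟩ := QuotientGroup.mk_surjective g
    apply h
    refine ⟨a, ?_⟩
    rw [eq_top_iff]
    intro x _
    obtain ⟨k, hk⟩ := Subgroup.mem_zpowers_iff.mp (hg (QuotientGroup.mk x))
    have h1 : ((a ^ k : A) : A ⧸ C) = (x : A ⧸ C) := by rw [QuotientGroup.mk_zpow]; exact hk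
    have h2 : (a ^ k)⁻¹ * x ∈ C := QuotientGroup.eq.mp h1
    have h3 : x = (a ^ k)⁻¹ * x * a ^ k := by rw [mul_comm, mul_inv_cancel_left]
    rw [h3]
    exact Subgroup.mul_mem _ ((le_sup_left : C ≤ C ⊔ zpowers a) h2)
      ((le_sup_right : zpowers a ≤ C ⊔ zpowers a) (Subgroup.zpow_mem _ (Subgroup.mem_zpowers a) k))
  obtain ⟨q, hq, a', b', haq, hbq, hb1, hab⟩ := exists_noncyclic_pair hnc
  obtain ⟨a, rfl⟩ := QuotientGroup.mk_surjective a'
  obtain ⟨b, rfl⟩ := QuotientGroup.mk_surjective b'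
  refine ⟨q, hq, ?_, a, b, ?_, ?_, ?_, ?_⟩
  · have : Fact q.Prime := ⟨hq⟩
    have h1 : orderOf (b : A ⧸ C) = q := orderOf_eq_prime hbq hb1
    rw [← h1]
    exact (_root_.orderOf_dvd_natCard _).trans (Subgroup.card_quotient_dvd_card C)
  · rw [← QuotientGroup.mk_pow] at haq
    exact (QuotientGroup.eq_one_iff _).mp haq
  · rw [← QuotientGroup.mk_pow] at hbq
    exact (QuotientGroup.eq_one_iff _).mp hbq
  · exact fun h => hb1 ((QuotientGroup.eq_one_iff b).mpr h)
  · intro j h
    apply hab j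
    rw [← QuotientGroup.mk_pow, ← QuotientGroup.mk_mul]
    exact (QuotientGroup.eq_one_iff _).mpr h

/-- internal version -/
theorem exists_pair_mod_internal {X : Type*} [Group X] [Finite X] (A C : Subgroup X)
    [hAab : IsMulCommutative A] (hCA : C ≤ A) (h : ¬ ∃ a ∈ A, C ⊔ zpowers a = A) :
    ∃ q : ℕ, q.Prime ∧ q ∣ Nat.card A ∧ ∃ a ∈ A, ∃ b ∈ A, a ^ q ∈ C ∧ b ^ q ∈ C ∧ b ∉ C ∧
      ∀ j : ℕ, a * b ^ j ∉ C := by
  open scoped IsMulCommutative in
  have h' : ¬ ∃ a : ↥A, C.subgroupOf A ⊔ zpowers a = ⊤ := by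
    rintro ⟨a, ha⟩
    apply h
    refine ⟨a, a.2, ?_⟩
    have h1 := congrArg (Subgroup.map A.subtype) ha
    rw [Subgroup.map_sup, Subgroup.subgroupOf_map_subtype, MonoidHom.map_zpowers,
      ← MonoidHom.range_eq_map, Subgroup.range_subtype, inf_eq_left.mpr hCA] at h1
    exact h1
  open scoped IsMulCommutative in
  obtain ⟨q, hq, hqA, a, b, haq, hbq, hb, hab⟩ := exists_pair_mod (C.subgroupOf A) h'
  refine ⟨q, hq, hqA, a, a.2, b, b.2, ?_, ?_, ?_, ?_⟩
  · exact haq
  · exact hbq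
  · exact hb
  · exact hab

/-- Part 1, by induction on `|G|`. -/
theorem le_iSup_centralizer {X : Type*} [Group X] [Finite X] (A : Subgroup X)
    [hAab : IsMulCommutative A] : ∀ (n : ℕ) (G : Subgroup X), Nat.card G ≤ n →
    A ≤ Subgroup.normalizer (G : Set X) → (Nat.card A).Coprime (Nat.card G) →
    G ≤ ⨆ B ∈ {B : Subgroup X | B ≤ A ∧ ∃ a ∈ A, B ⊔ Subgroup.zpowers a = A},
      G ⊓ Subgroup.centralizer (B : Set X) := by
  intro n
  induction n with
  | zero =>
    intro G hG
    exact absurd hG (by have : 0 < Nat.card G := Nat.card_pos; omega)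
  | succ n ih =>
    intro G hGn hAG hcop
    by_cases hcyc : ∃ a ∈ A, (A ⊓ centralizer (G : Set X)) ⊔ zpowers a = A
    · have hmem : (A ⊓ centralizer (G : Set X)) ∈
          {B : Subgroup X | B ≤ A ∧ ∃ a ∈ A, B ⊔ Subgroup.zpowers a = A} := ⟨inf_le_left, hcyc⟩
      have h1 : G ≤ G ⊓ centralizer ((A ⊓ centralizer (G : Set X) : Subgroup X) : Set X) := by
        apply le_inf le_rfl
        rw [Subgroup.le_centralizer_iff]
        exact inf_le_right
      exact h1.trans (le_iSup₂ (f := fun B (_ : B ∈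
        {B : Subgroup X | B ≤ A ∧ ∃ a ∈ A, B ⊔ Subgroup.zpowers a = A}) =>
          G ⊓ Subgroup.centralizer (B : Set X)) _ hmem)
    · obtain ⟨q, hq, hqA, a, ha, b, hb, haq, hbq, hbC, habC⟩ :=
        exists_pair_mod_internal A (A ⊓ centralizer (G : Set X)) inf_le_left hcyc
      have : Fact q.Prime := ⟨hq⟩
      have hqG : ¬ q ∣ Nat.card G := by
        have h1 : q.Coprime (Nat.card G) := Nat.Coprime.coprime_dvd_left hqA hcop
        exact (Nat.Prime.coprime_iff_not_dvd hq).mp h1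
      have hgen := le_iSup_centralizer_pair A G hAG hcop q hqG a b ha hb haq.2 hbq.2
      -- each centralizer of an element acting nontrivially is handled by induction
      have hstep : ∀ c ∈ A, c ∉ A ⊓ centralizer (G : Set X) →
          G ⊓ centralizer {c} ≤ ⨆ B ∈ {B : Subgroup X | B ≤ A ∧ ∃ a ∈ A, B ⊔ Subgroup.zpowers a = A},
            G ⊓ Subgroup.centralizer (B : Set X) := by
        intro c hcA hcC
        have hlt : Nat.card ↥(G ⊓ centralizer {c}) < Nat.card G := by
          by_contra hge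
          push Not at hge
          have heq : G ⊓ centralizer {c} = G := Subgroup.eq_of_le_of_card_ge inf_le_left hge
          apply hcC
          refine ⟨hcA, ?_⟩
          show c ∈ centralizer (G : Set X)
          rw [Subgroup.mem_centralizer_iff]
          intro g hg
          have : g ∈ G ⊓ centralizer {c} := by rw [heq]; exact hg
          exact Subgroup.mem_centralizer_singleton_iff.mp this.2
        have hAc : A ≤ centralizer ({c} : Set X) := by
          intro a' ha'
          rw [Subgroup.mem_centralizer_singleton_iff]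
          exact setLike_mul_comm ha' hcA
        have hAN : A ≤ normalizer ((G ⊓ centralizer {c} : Subgroup X) : Set X) := by
          intro a' ha'
          apply Lib.Helper17.mem_normalizer_of_forall_conj_mem
          intro x hx
          refine ⟨Lib.Helper17.conj_mem_of_mem_normalizer (hAG ha') hx.1, ?_⟩
          exact Subgroup.mul_mem _ (Subgroup.mul_mem _ (hAc ha') hx.2) (Subgroup.inv_mem _ (hAc ha'))
        have hcop' : (Nat.card A).Coprime (Nat.card ↥(G ⊓ centralizer {c})) :=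
          Nat.Coprime.coprime_dvd_right (Subgroup.card_dvd_of_le inf_le_left) hcop
        have h1 := ih (G ⊓ centralizer {c}) (by omega) hAN hcop'
        refine h1.trans ?_
        exact iSup₂_mono fun B _ => inf_le_inf_right _ inf_le_left
      refine hgen.trans (sup_le (iSup_le fun j => ?_) ?_)
      · exact hstep _ (A.mul_mem ha (A.pow_mem hb j)) (habC j)
      · exact hstep b hb hbC

theorem le_normalizer_commutator' {X : Type*} [Group X] {H U V : Subgroup X}
    (hU : H ≤ normalizer (U : Set X)) (hV : H ≤ normalizer (V : Set X)) :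
    H ≤ normalizer ((⁅U, V⁆ : Subgroup X) : Set X) := by
  intro g hg
  rw [mem_normalizer_iff_map_conj_eq, Subgroup.map_commutator,
    mem_normalizer_iff_map_conj_eq.mp (hU hg), mem_normalizer_iff_map_conj_eq.mp (hV hg)]

theorem le_normalizer_biSup {X : Type*} [Group X] {ι : Type*} (fam : Set ι) (S : ι → Subgroup X)
    {H : Subgroup X} (h : ∀ B ∈ fam, H ≤ normalizer (S B : Set X)) :
    H ≤ normalizer ((⨆ B ∈ fam, S B : Subgroup X) : Set X) := by
  intro g hg
  apply iInf_normalizer_le_normalizer_iSup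
  rw [mem_iInf]; intro B
  apply iInf_normalizer_le_normalizer_iSup
  rw [mem_iInf]; intro hB
  exact h B hB hg

/-- Part 2. -/
theorem commutator_le_iSup {X : Type*} [Group X] [Finite X] (A G : Subgroup X)
    [hAab : IsMulCommutative A] (hAG : A ≤ Subgroup.normalizer (G : Set X))
    (hcop : (Nat.card A).Coprime (Nat.card G)) :
    ⁅G, A⁆ ≤ ⨆ B ∈ {B : Subgroup X | B ≤ A ∧ ∃ a ∈ A, B ⊔ Subgroup.zpowers a = A},
      ⁅G ⊓ Subgroup.centralizer (B : Set X), A⁆ := by
  obtain ⟨R₂, hR₂⟩ : ∃ R₂ : Subgroup X, R₂ = ⨆ B ∈ {B : Subgroup X | B ≤ A ∧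
      ∃ a ∈ A, B ⊔ Subgroup.zpowers a = A}, ⁅G ⊓ Subgroup.centralizer (B : Set X), A⁆ := ⟨_, rfl⟩
  rw [← hR₂]
  have hsolvA : Group.IsSolvable A := by
    open scoped IsMulCommutative in exact inferInstance
  have hAcent : ∀ B : Subgroup X, B ≤ A → A ≤ centralizer (B : Set X) := by
    intro B hB a ha
    rw [Subgroup.mem_centralizer_iff]
    intro b hb
    exact setLike_mul_comm (hB hb) ha
  have hAD : ∀ B : Subgroup X, B ≤ A →
      A ≤ normalizer ((G ⊓ centralizer (B : Set X) : Subgroup X) : Set X) := by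
    intro B hB a' ha'
    apply Lib.Helper17.mem_normalizer_of_forall_conj_mem
    intro x hx
    refine ⟨Lib.Helper17.conj_mem_of_mem_normalizer (hAG ha') hx.1, ?_⟩
    exact Subgroup.mul_mem _ (Subgroup.mul_mem _ (hAcent B hB ha') hx.2)
      (Subgroup.inv_mem _ (hAcent B hB ha'))
  -- (a)
  have hD : ∀ B ∈ {B : Subgroup X | B ≤ A ∧ ∃ a ∈ A, B ⊔ Subgroup.zpowers a = A},
      G ⊓ centralizer (B : Set X) ≤ (G ⊓ centralizer (A : Set X)) ⊔ R₂ := by
    intro B hB
    have hcopD : (Nat.card A).Coprime (Nat.card ↥(G ⊓ centralizer (B : Set X))) :=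
      Nat.Coprime.coprime_dvd_right (Subgroup.card_dvd_of_le inf_le_left) hcop
    have h1 := le_centralizer_sup_commutator A (G ⊓ centralizer (B : Set X)) (hAD B hB.1) hcopD
      (Or.inl hsolvA)
    refine h1.trans (sup_le_sup (inf_le_inf_right _ inf_le_left) ?_)
    rw [hR₂]
    exact le_iSup₂ (f := fun B (_ : B ∈
        {B : Subgroup X | B ≤ A ∧ ∃ a ∈ A, B ⊔ Subgroup.zpowers a = A}) =>
          ⁅G ⊓ Subgroup.centralizer (B : Set X), A⁆) B hB
  -- (b)
  have hG : G ≤ (G ⊓ centralizer (A : Set X)) ⊔ R₂ :=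
    (le_iSup_centralizer A _ G le_rfl hAG hcop).trans (iSup₂_le hD)
  -- (c)
  have hCN : G ⊓ centralizer (A : Set X) ≤ normalizer (R₂ : Set X) := by
    rw [hR₂]
    apply le_normalizer_biSup
    intro B hB
    apply le_normalizer_commutator'
    · refine le_trans ?_ Subgroup.le_normalizer
      exact inf_le_inf_left _ (Subgroup.centralizer_le hB.1)
    · exact inf_le_right.trans (Subgroup.centralizer_le_normalizer _)
  -- (e)
  have hAN : A ≤ normalizer (R₂ : Set X) := by
    rw [hR₂]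
    apply le_normalizer_biSup
    intro B hB
    exact le_normalizer_commutator_right _ A
  -- (f)
  rw [Subgroup.commutator_le]
  intro g hg a ha
  have hg' : g ∈ ((G ⊓ centralizer (A : Set X)) ⊔ R₂ : Subgroup X) := hG hg
  rw [← SetLike.mem_coe, Subgroup.coe_mul_of_left_le_normalizer_right _ _ hCN] at hg'
  obtain ⟨c, hc, r, hr, hcr⟩ := hg'
  have hcr' : c * r = g := hcr
  have hca : a * c = c * a := (Subgroup.mem_centralizer_iff.mp hc.2) a ha
  have h1 : a * r⁻¹ * a⁻¹ ∈ R₂ :=
    Lib.Helper17.conj_mem_of_mem_normalizer (hAN ha) (R₂.inv_mem hr)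
  have h2 : r * (a * r⁻¹ * a⁻¹) ∈ R₂ := R₂.mul_mem hr h1
  have h3 := Lib.Helper17.conj_mem_of_mem_normalizer (hCN hc) h2
  have h4 : ⁅g, a⁆ = c * (r * (a * r⁻¹ * a⁻¹)) * c⁻¹ := by
    rw [← hcr', commutatorElement_def]
    have h5 : c⁻¹ * a⁻¹ = a⁻¹ * c⁻¹ := by
      rw [← mul_inv_rev, ← mul_inv_rev, hca]
    calc c * r * a * (c * r)⁻¹ * a⁻¹ = c * r * a * r⁻¹ * (c⁻¹ * a⁻¹) := by group
      _ = c * r * a * r⁻¹ * (a⁻¹ * c⁻¹) := by rw [h5]
      _ = c * (r * (a * r⁻¹ * a⁻¹)) * c⁻¹ := by group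
  rw [h4]
  exact h3

/-- Let A and G be subgroups of a finite group with A abelian, A normalizing G and the orders of A and G coprime. Then G is generated by the fixed-point subgroups C_G(B) of those subgroups B of A for which A/B is cyclic (that is, A = ⟨B, a⟩ for some a), and [G, A] is generated by the commutator subgroups [C_G(B), A] over the same subgroups B. -/
theorem result {X : Type*} [Group X] [Finite X] (A G : Subgroup X) (hAab : IsMulCommutative A) (hAG : A ≤ Subgroup.normalizer (G : Set X)) (hcop : (Nat.card A).Coprime (Nat.card G)) : (⨆ B ∈ {B : Subgroup X | B ≤ A ∧ ∃ a ∈ A, B ⊔ Subgroup.zpowers a = A}, G ⊓ Subgroup.centralizer (B : Set X)) = G ∧ (⨆ B ∈ {B : Subgroup X | B ≤ A ∧ ∃ a ∈ A, B ⊔ Subgroup.zpowers a = A}, ⁅G ⊓ Subgroup.centralizer (B : Set X), A⁆) = ⁅G, A⁆ := by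
  refine ⟨le_antisymm (iSup₂_le fun B _ => inf_le_left) (le_iSup_centralizer A _ G le_rfl hAG hcop),
    le_antisymm (iSup₂_le fun B _ => Subgroup.commutator_mono inf_le_left le_rfl)
      (commutator_le_iSup A G hAG hcop)⟩

end Cfsg.Agent.S3734
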