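import Cfsg.Statements.S3735
import Cfsg.Agent.Lib.Helper19.Clifford

set_option autoImplicit false
open Cfsg

namespace Cfsg.Agent.S3735

/-- Clifford's Theorem for actions on finite abelian groups, first part. Let H and V be subgroups of a finite group with V abelian and H normalizing V, and let A be a normal subgroup of H. If every H-invariant subgroup of V has an H-invariant complement in V, then every A-invariant subgroup of V has an A-invariant complement in V. -/
theorem result {G : Type*} [Group G] [Finite G] (H A V : Subgroup G) (hVab : IsMulCommutative V) (hHV : H ≤ Subgroup.normalizer (V : Set G)) (hAH : A ≤ H) (hAn : H ≤ Subgroup.normalizer (A : Set G)) (hss : ∀ U : Subgroup G, U ≤ V → H ≤ Subgroup.normalizer (U : Set G) → ∃ W : Subgroup G, W ≤ V ∧ H ≤ Subgroup.normalizer (W : Set G) ∧ U ⊓ W = ⊥ ∧ U ⊔ W = V) (U : Subgroup G) (hUV : U ≤ V) (hAU : A ≤ Subgroup.normalizer (U : Set G)) : ∃ W : Subgroup G, W ≤ V ∧ A ≤ Subgroup.normalizer (W : Set G) ∧ U ⊓ W = ⊥ ∧ U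 ⊔ W = V := by
  have hV : ∀ x ∈ V, ∀ y ∈ V, x * y = y * x := by
    intro x hx y hy
    have := hVab.is_comm.comm (⟨x, hx⟩ : V) ⟨y, hy⟩
    exact congrArg Subtype.val this
  have key := Cfsg.Agent.Lib.Helper19.clifford_complement H A V hV
    ((Cfsg.Agent.Lib.Helper19.inv_iff_le_normalizer H V).mpr hHV) hAH hAn
    (fun U hU hHU => by
      obtain ⟨W, h1, h2, h3, h4⟩ := hss U hU
        ((Cfsg.Agent.Lib.Helper19.inv_iff_le_normalizer H U).mp hHU)
      exact ⟨W, h1, (Cfsg.Agent.Lib.Helper19.inv_iff_le_normalizer H W).mpr h2, h3, h4⟩)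
    U hUV ((Cfsg.Agent.Lib.Helper19.inv_iff_le_normalizer A U).mpr hAU)
  obtain ⟨W, h1, h2, h3, h4⟩ := key
  exact ⟨W, h1, (Cfsg.Agent.Lib.Helper19.inv_iff_le_normalizer A W).mp h2, h3, h4⟩

end Cfsg.Agent.S3735
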