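import Cfsg.Statements.S3738
import Mathlib
import Cfsg.Agent.Lib.Helper20.Rank2Fpf

set_option autoImplicit false
open Cfsg

namespace Cfsg.Agent.S3738

/-- Let d be a non-identity 3-element of a finite group and P a 2-subgroup normalized by d on which ⟨d⟩ acts faithfully (no non-identity power of d centralizes P) and without non-identity fixed points (C_P(d) = 1). If every abelian subgroup of P has 2-rank at most 2, then d has order 3. -/
theorem result {X : Type*} [Group X] [Finite X] (d : X) (n : ℕ) (hn : 1 ≤ n) (hd : orderOf d = 3 ^ n) (P : Subgroup X) (hP : IsPGroup 2 P) (hdP : d ∈ Subgroup.normalizer (P : Set X)) (hfaith : Subgroup.zpowers d ⊓ Subgroup.centralizer (P : Set X) = ⊥) (hfpf : P ⊓ Subgroup.centralizer {d} = ⊥) (hrank : ∀ V : Subgroup X, V ≤ P → IsMulCommutative V → Cfsg.PRankLE 2 2 V) : orderOf d = 3 := by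
  classical
  have hd1 : d ^ 3 ^ n = 1 := by rw [← hd]; exact pow_orderOf_eq_one d
  have hS : Cfsg.Agent.Lib.Helper20.Rank2Fpf.Setup d P :=
    { pgrp := hP
      norm := by
        intro x hx
        exact (Subgroup.mem_normalizer_iff.mp hdP x).mp hx
      fpf := by
        intro x hx hfix
        have hc : x ∈ Subgroup.centralizer ({d} : Set X) := by
          rw [Subgroup.mem_centralizer_iff]
          intro h hh
          rw [Set.mem_singleton_iff] at hh
          rw [hh]
          calc d * x = (d * x * d⁻¹) * d := by group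
            _ = x * d := by rw [hfix]
        have : x ∈ P ⊓ Subgroup.centralizer ({d} : Set X) := Subgroup.mem_inf.mpr ⟨hx, hc⟩
        rw [hfpf, Subgroup.mem_bot] at this
        exact this
      rank := by
        intro A hA hAe
        have hcomm : IsMulCommutative A := hAe.1
        have h1 := hrank A hA hcomm (⊤ : Subgroup A)
          ⟨⟨fun a b => Subtype.ext (hcomm.is_comm.comm (a : A) (b : A))⟩⟩
          (fun a _ => Subtype.ext (by
            have := hAe.2 (a : X) a.2
            simpa using this))
        rw [Subgroup.card_top] at h1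
        simpa using h1 }
  have hcent := hS.cube_central n hd1
  have h3 : d ^ 3 ∈ Subgroup.zpowers d ⊓ Subgroup.centralizer (P : Set X) := by
    refine Subgroup.mem_inf.mpr ⟨Subgroup.pow_mem _ (Subgroup.mem_zpowers d) 3, ?_⟩
    rw [Subgroup.mem_centralizer_iff]
    intro h hh
    have := hcent h hh
    calc h * d ^ 3 = (d ^ 3 * h * (d ^ 3)⁻¹) * d ^ 3 := by rw [this]
      _ = d ^ 3 * h := by group
  rw [hfaith, Subgroup.mem_bot] at h3
  have hdvd : orderOf d ∣ 3 := orderOf_dvd_of_pow_eq_one h3
  rcases (Nat.Prime.eq_one_or_self_of_dvd Nat.prime_three _ hdvd) with h | h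
  · exfalso
    rw [hd] at h
    have : n = 0 := by
      by_contra hn0
      have : 3 ^ 1 ≤ 3 ^ n := Nat.pow_le_pow_right (by norm_num) hn
      omega
    omega
  · exact h

end Cfsg.Agent.S3738
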