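import Cfsg.Statements.S3739
import Mathlib
import Cfsg.Agent.Lib.Helper20.Rank2Six
import Cfsg.Agent.Lib.Helper17.CharP
import Cfsg.Agent.Lib.Helper4.ElemAb

set_option autoImplicit false
open Cfsg

namespace Cfsg.Agent.S3739

/-- Let G be a finite group with C_G(O₂(G)) ≤ O₂(G) containing an element of order 6, and let d be a non-identity 3-element of G normalizing a nontrivial elementary abelian 2-subgroup W with C_W(d) = 1. Then G has an elementary abelian subgroup of order 8. -/
theorem result {G : Type*} [Group G] [Finite G] (hchar : Subgroup.centralizer (Cfsg.pCore 2 G : Set G) ≤ Cfsg.pCore 2 G) (hsix : ∃ g : G, orderOf g = 6) (d : G) (hd1 : d ≠ 1) (hd : IsPGroup 3 ↥(Subgroup.zpowers d)) (W : Subgroup G) (hW : Cfsg.IsElementaryAbelian 2 W) (hW1 : W ≠ ⊥) (hdW : d ∈ Subgroup.normalizer (W : Set G)) (hfpf : W ⊓ Subgroup.centralizer {d} = ⊥) : ∃ E : Subgroup G, Cfsg.IsElementaryAbelian 2 E ∧ Nat.card E = 8 := by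
  classical
  by_contra hno
  haveI : Fact (Nat.Prime 2) := ⟨Nat.prime_two⟩
  have hrank : ∀ A : Subgroup G, Cfsg.IsElementaryAbelian 2 A → Nat.card A ≤ 4 := by
    intro A hA
    by_contra hcon
    push Not at hcon
    have hAp : IsPGroup 2 A := Cfsg.Agent.Lib.Helper4.elemAb_isPGroup hA
    obtain ⟨k, hk⟩ := IsPGroup.iff_card.mp hAp
    have hk3 : 3 ≤ k := by
      by_contra hk3
      push Not at hk3
      have : 2 ^ k ≤ 2 ^ 2 := Nat.pow_le_pow_right (by norm_num) (by omega)
      omega
    obtain ⟨B, hB⟩ := Sylow.exists_subgroup_card_pow_prime (G := A) 2 (n := 3)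
      (by rw [hk]; exact pow_dvd_pow 2 hk3)
    apply hno
    refine ⟨B.map A.subtype,
      Cfsg.Agent.Lib.Helper4.elemAb_mono (Subgroup.map_subtype_le B) hA, ?_⟩
    rw [Subgroup.card_map_of_injective A.subtype_injective, hB]
    norm_num
  obtain ⟨n, hn⟩ := hd ⟨d, Subgroup.mem_zpowers d⟩
  have hdn : d ^ 3 ^ n = 1 := by
    have := congrArg Subtype.val hn
    simpa using this
  have hH : Cfsg.Agent.Lib.Helper20.Rank2Six.Hyp (Cfsg.pCore 2 G) W d n :=
    { normal := Cfsg.Agent.Lib.Helper17.pCore_normal 2 G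
      pgrp := Cfsg.Agent.Lib.Helper17.pCore_isPGroup 2 G
      selfc := hchar
      rank := hrank
      hd := hdn
      elem := hW
      ne := hW1
      norm := fun w hw => (Subgroup.mem_normalizer_iff.mp hdW w).mp hw
      fpf := by
        intro w hw hfix
        have hc : w ∈ Subgroup.centralizer ({d} : Set G) := by
          rw [Subgroup.mem_centralizer_iff]
          intro h hh
          rw [Set.mem_singleton_iff] at hh
          rw [hh]
          calc d * w = (d * w * d⁻¹) * d := by group
            _ = w * d := by rw [hfix]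
        have : w ∈ W ⊓ Subgroup.centralizer ({d} : Set G) := Subgroup.mem_inf.mpr ⟨hw, hc⟩
        rw [hfpf, Subgroup.mem_bot] at this
        exact this }
  obtain ⟨g, hg⟩ := hsix
  exact hH.false hg

end Cfsg.Agent.S3739
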