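import Cfsg.Statements.S3741
import Mathlib
import Cfsg.Agent.Lib.Helper20.ChainCount
import Cfsg.Agent.Lib.Helper20.PGroupBasics

set_option autoImplicit false
open Cfsg

namespace Cfsg.Agent.S3741

open scoped commutatorElement
open Cfsg.Agent.Lib.Helper20

/-- Let A and B be subgroups of a finite p-group with [A, B] ≤ A ∩ B and [A, B] of order at most p. Then |A : C_A(B)| = |B : C_B(A)|. -/
theorem result {G : Type*} [Group G] [Finite G] {p : ℕ} [Fact p.Prime] (hG : IsPGroup p G) (A B : Subgroup G) (hAB : ⁅A, B⁆ ≤ A ⊓ B) (hcard : Nat.card ↥⁅A, B⁆ ≤ p) : (A ⊓ Subgroup.centralizer (B : Set G)).relIndex A = (B ⊓ Subgroup.centralizer (A : Set G)).relIndex B := by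
  classical
  have hp : p.Prime := Fact.out
  -- commutators lie in Z
  have hc1 : ∀ a ∈ A, ∀ b ∈ B, ⁅a, b⁆ ∈ ⁅A, B⁆ := fun a ha b hb =>
    Subgroup.commutator_mem_commutator ha hb
  have hc2 : ∀ a ∈ A, ∀ b ∈ B, ⁅b, a⁆ ∈ ⁅A, B⁆ := fun a ha b hb => by
    rw [← commutatorElement_inv]; exact Subgroup.inv_mem _ (hc1 a ha b hb)
  -- Z is centralized by A ⊔ B
  have hcent : ∀ g ∈ A ⊔ B, ∀ z ∈ ⁅A, B⁆, g * z = z * g := by
    have hZL : ⁅A, B⁆ ≤ A ⊔ B := Subgroup.commutator_le_sup A B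
    have hNcard : Nat.card (⁅A, B⁆.subgroupOf (A ⊔ B)) = Nat.card ↥⁅A, B⁆ := by
      rw [← Subgroup.card_map_of_injective (A ⊔ B).subtype_injective, Subgroup.subgroupOf_map_subtype,
        inf_eq_left.mpr hZL]
    obtain ⟨n, hn⟩ := IsPGroup.iff_card.mp (hG.to_subgroup ⁅A, B⁆)
    rcases Nat.eq_zero_or_pos n with hn0 | hn0
    · -- trivial
      rw [hn0, pow_zero] at hn
      have hbot := Subgroup.card_eq_one.mp hn
      intro g _ z hz
      rw [hbot, Subgroup.mem_bot] at hz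
      rw [hz, mul_one, one_mul]
    · have hcardp : Nat.card ↥⁅A, B⁆ = p := by
        apply le_antisymm hcard
        rw [hn]
        calc p = p ^ 1 := (pow_one p).symm
          _ ≤ p ^ n := Nat.pow_le_pow_right hp.pos hn0
      have hcen := le_center_of_normal_of_card_eq_prime (hG.to_subgroup (A ⊔ B))
        (⁅A, B⁆.subgroupOf (A ⊔ B)) (by rw [hNcard, hcardp])
      intro g hg z hz
      have hzmem : (⟨z, hZL hz⟩ : ↥(A ⊔ B)) ∈ ⁅A, B⁆.subgroupOf (A ⊔ B) :=
        Subgroup.mem_subgroupOf.mpr hz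
      have := Subgroup.mem_center_iff.mp (hcen hzmem) ⟨g, hg⟩
      exact congrArg Subtype.val this
  have hZA : ⁅A, B⁆ ≤ A := hAB.trans inf_le_left
  have h3 : ∀ z ∈ ⁅A, B⁆, ∀ w ∈ ⁅A, B⁆, z * w = w * z := fun z hz w hw =>
    hcent z (Subgroup.mem_sup_left (hZA hz)) w hw
  have ineq1 := card_mul_card_centralizer_le hp hG A B ⁅A, B⁆ hcard hc2
    (fun b hb z hz => hcent b (Subgroup.mem_sup_right hb) z hz) h3
  have ineq2 := card_mul_card_centralizer_le hp hG B A ⁅A, B⁆ hcard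
    (fun b hb a ha => hc1 a ha b hb)
    (fun a ha z hz => hcent a (Subgroup.mem_sup_left ha) z hz) h3
  have hA := Subgroup.relIndex_mul_relIndex (⊥ : Subgroup G) (A ⊓ Subgroup.centralizer (B : Set G)) A
    bot_le inf_le_left
  have hB := Subgroup.relIndex_mul_relIndex (⊥ : Subgroup G) (B ⊓ Subgroup.centralizer (A : Set G)) B
    bot_le inf_le_left
  rw [Subgroup.relIndex_bot_left, Subgroup.relIndex_bot_left] at hA hB
  have hcApos : 0 < Nat.card ↥(A ⊓ Subgroup.centralizer (B : Set G)) := Nat.card_pos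
  have hcBpos : 0 < Nat.card ↥(B ⊓ Subgroup.centralizer (A : Set G)) := Nat.card_pos
  have heq : Nat.card B * Nat.card ↥(A ⊓ Subgroup.centralizer (B : Set G))
      = Nat.card ↥(B ⊓ Subgroup.centralizer (A : Set G)) * Nat.card A :=
    le_antisymm ineq1 (by
      calc Nat.card ↥(B ⊓ Subgroup.centralizer (A : Set G)) * Nat.card A
          = Nat.card A * Nat.card ↥(B ⊓ Subgroup.centralizer (A : Set G)) := mul_comm _ _
        _ ≤ Nat.card ↥(A ⊓ Subgroup.centralizer (B : Set G)) * Nat.card B := ineq2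
        _ = Nat.card B * Nat.card ↥(A ⊓ Subgroup.centralizer (B : Set G)) := mul_comm _ _)
  rw [← hA, ← hB] at heq
  have h5 : (Nat.card ↥(B ⊓ Subgroup.centralizer (A : Set G)) * Nat.card ↥(A ⊓ Subgroup.centralizer (B : Set G)))
      * (B ⊓ Subgroup.centralizer (A : Set G)).relIndex B
      = (Nat.card ↥(B ⊓ Subgroup.centralizer (A : Set G)) * Nat.card ↥(A ⊓ Subgroup.centralizer (B : Set G)))
      * (A ⊓ Subgroup.centralizer (B : Set G)).relIndex A := by
    calc _ = Nat.card ↥(B ⊓ Subgroup.centralizer (A : Set G)) * (B ⊓ Subgroup.centralizer (A : Set G)).relIndex B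
          * Nat.card ↥(A ⊓ Subgroup.centralizer (B : Set G)) := by ring
      _ = Nat.card ↥(B ⊓ Subgroup.centralizer (A : Set G)) *
          (Nat.card ↥(A ⊓ Subgroup.centralizer (B : Set G)) * (A ⊓ Subgroup.centralizer (B : Set G)).relIndex A) := heq
      _ = _ := by ring
  exact (Nat.eq_of_mul_eq_mul_left (Nat.mul_pos hcBpos hcApos) h5).symm

end Cfsg.Agent.S3741
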