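import Cfsg.Statements.S3745
import Mathlib
import Cfsg.Agent.Lib.Helper20.CoprimeHall

set_option autoImplicit false
open Cfsg

namespace Cfsg.Agent.S3745

open Pointwise
open Cfsg.Agent.Lib.Helper20

/-- Coprime action on a solvable group and Hall subgroups. Let A and G be subgroups of a finite group with A normalizing G, the orders of A and G coprime, and G solvable, and let π be a set of primes. Then (a) G has an A-invariant Hall π-subgroup; (b) any two A-invariant Hall π-subgroups of G are conjugate by an element of C_G(A); (c) every A-invariant π-subgroup of G lies in an A-invariant Hall π-subgroup of G. -/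
theorem result {X : Type*} [Group X] [Finite X] (A G : Subgroup X) (hAG : A ≤ Subgroup.normalizer (G : Set X)) (hcop : (Nat.card A).Coprime (Nat.card G)) (hsolv : Group.IsSolvable G) (π : Set ℕ) : (∃ H : Subgroup X, Cfsg.IsPiHallOf π H G ∧ A ≤ Subgroup.normalizer (H : Set X)) ∧ (∀ H₁ H₂ : Subgroup X, Cfsg.IsPiHallOf π H₁ G → A ≤ Subgroup.normalizer (H₁ : Set X) → Cfsg.IsPiHallOf π H₂ G → A ≤ Subgroup.normalizer (H₂ : Set X) → ∃ c ∈ G ⊓ Subgroup.centralizer (A : Set X), H₂ = H₁.map (MulAut.conj c).toMonoidHom) ∧ (∀ U : Subgroup X, U ≤ G → A ≤ Subgroup.normalizer (U : Set X) → (∀ p : ℕ, p.Prime → p ∣ Nat.card U → p ∈ π) → ∃ H : Subgroup X, Cfsg.IsPiHallOf π H G ∧ A ≤ Subgroup.normalizer (H : Set X) ∧ U ≤ H) := by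
  classical
  obtain ⟨m, n, hmn, hm, hn⟩ := exists_pi_decomp π (Nat.card G) Nat.card_pos.ne'
  have hmncop : m.Coprime n := coprime_of_isPiNum hm hn
  have hiff : ∀ H : Subgroup X, Cfsg.IsPiHallOf π H G ↔ H ≤ G ∧ Nat.card H = m :=
    fun H => isPiHallOf_iff hmn hm hn
  refine ⟨?_, ?_, ?_⟩
  · obtain ⟨H, hHG, hHcard, hAH⟩ := exists_invariant_hall A G hAG hcop hsolv m n hmn hmncop
    exact ⟨H, (hiff H).mpr ⟨hHG, hHcard⟩, hAH⟩
  · intro H₁ H₂ hH₁ hA₁ hH₂ hA₂
    obtain ⟨h₁, c₁⟩ := (hiff H₁).mp hH₁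
    obtain ⟨h₂, c₂⟩ := (hiff H₂).mp hH₂
    obtain ⟨c, hc, hcH⟩ := invariant_hall_conj A G hAG hcop hsolv m n hmn hmncop H₁ H₂ h₁ h₂ c₁ c₂
      hA₁ hA₂
    exact ⟨c, hc, hcH.symm⟩
  · intro U hUG hAU hUπ
    have hUn : (Nat.card U).Coprime n := coprime_of_isPiNum hUπ hn
    obtain ⟨H, hHG, hHcard, hAH, hUH⟩ :=
      invariant_hall_ge A G hAG hcop hsolv m n hmn hmncop U hUG hAU hUn
    exact ⟨H, (hiff H).mpr ⟨hHG, hHcard⟩, hAH, hUH⟩

end Cfsg.Agent.S3745
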