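import Cfsg.Statements.S3746
import Mathlib
import Cfsg.Agent.Lib.Helper8.Layer
import Cfsg.Agent.Lib.Helper9.Quasisimple

set_option autoImplicit false
open Cfsg

namespace Cfsg.Agent.S3746

open scoped commutatorElement
open Cfsg.Agent.Lib.Helper8 Cfsg.Agent.Lib.Helper9

theorem commutator_self_le {G : Type*} [Group G] (A : Subgroup G) : ⁅A, A⁆ ≤ A := by
  rw [Subgroup.commutator_le]
  intro a ha b hb
  rw [commutatorElement_def]
  exact A.mul_mem (A.mul_mem (A.mul_mem ha hb) (A.inv_mem ha)) (A.inv_mem hb)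

theorem commutator_sup_central_le {G : Type*} [Group G] (Z : Subgroup G)
    (hZ : Z ≤ Subgroup.center G) (A : Subgroup G) : ⁅A ⊔ Z, A ⊔ Z⁆ ≤ ⁅A, A⁆ := by
  have hcomm : ∀ a ∈ A, ∀ b ∈ Z, a * b = b * a := fun a _ b hb =>
    (Subgroup.mem_center_iff.mp (hZ hb) a)
  rw [Subgroup.commutator_le]
  intro x hx y hy
  obtain ⟨a, ha, z, hz, rfl⟩ := mem_sup_of_commute hcomm hx
  obtain ⟨a', ha', z', hz', rfl⟩ := mem_sup_of_commute hcomm hy
  rw [commutatorElement_mul_central_left _ _ _ (hZ hz),
    commutatorElement_mul_central_right _ _ _ (hZ hz')]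
  exact Subgroup.commutator_mem_commutator ha ha'

/-- Let Z ≤ Z(G) be a central subgroup of a finite group G and E a subgroup of G containing Z whose image E/Z is a component of G/Z (subnormal and quasisimple). Then the derived subgroup [E, E] is a component of G. -/
theorem result {G : Type*} [Group G] [Finite G] (Z : Subgroup G) (hZ : Z ≤ Subgroup.center G) [Z.Normal] (E : Subgroup G) (hZE : Z ≤ E) (hE : Cfsg.IsComponent (E.map (QuotientGroup.mk' Z))) : Cfsg.IsComponent ⁅E, E⁆ := by
  classical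
  set π := QuotientGroup.mk' Z with hπ
  set Q := E.map π with hQ
  set D : Subgroup G := ⁅E, E⁆ with hD
  have hker : π.ker = Z := QuotientGroup.ker_mk' Z
  have hEcomap : Q.comap π = E := by
    rw [hQ, Subgroup.comap_map_eq, hker, sup_of_le_left hZE]
  have hEsn : E.IsSubnormal := by
    rw [← hEcomap]; exact hE.1.comap π
  have hDE : D ≤ E := commutator_self_le E
  have hDn : (D.subgroupOf E).Normal := by
    have : D.subgroupOf E = commutator ↥E := by
      rw [hD, ← Subgroup.map_subtype_commutator, Subgroup.subgroupOf,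
        Subgroup.comap_map_eq_self_of_injective E.subtype_injective]
    rw [this]; infer_instance
  have hDsn : D.IsSubnormal := Subgroup.IsSubnormal.step D E hDE hEsn hDn
  -- Q perfect, so D maps onto Q
  have hQperf : ⁅Q, Q⁆ = Q := Subgroup.isPerfect_iff.mp hE.2.1
  have hDmap : D.map π = Q := by
    rw [hD, Subgroup.map_commutator]; exact hQperf
  have hEDZ : E ≤ D ⊔ Z := by
    have h1 : E ≤ (E.map π).comap π := Subgroup.le_comap_map π E
    have h2 : (D.map π).comap π = D ⊔ Z := by rw [Subgroup.comap_map_eq, hker]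
    rw [← h2, hDmap]; exact h1
  -- (1) D perfect
  have hDperf : ⁅D, D⁆ = D := by
    apply le_antisymm (commutator_self_le D)
    calc D = ⁅E, E⁆ := hD
      _ ≤ ⁅D ⊔ Z, D ⊔ Z⁆ := Subgroup.commutator_mono hEDZ hEDZ
      _ ≤ ⁅D, D⁆ := commutator_sup_central_le Z hZ D
  have hQnt : Nontrivial ↥Q := IsQuasisimple_nontrivial hE.2
  have hDne : D ≠ ⊥ := by
    intro h
    rw [h, Subgroup.map_bot] at hDmap
    have : Subsingleton ↥Q := by rw [← hDmap]; infer_instance
    exact not_subsingleton ↥Q this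
  refine ⟨hDsn, ?_⟩
  apply isQuasisimple_of_normal_le_center (Subgroup.isPerfect_iff.mpr hDperf)
  · -- centre is proper
    intro hc
    apply hDne
    rw [← hDperf, Subgroup.commutator_eq_bot_iff_le_centralizer]
    intro d hd
    rw [Subgroup.mem_centralizer_iff]
    intro d' hd'
    have h1 : (⟨d, hd⟩ : ↥D) ∈ Subgroup.center ↥D := by rw [hc]; exact Subgroup.mem_top _
    have h2 := Subgroup.mem_center_iff.mp h1 ⟨d', hd'⟩
    exact congrArg Subtype.val h2
  · intro N hN hNtop
    set N' := N.map D.subtype with hN'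
    have hN'D : N' ≤ D := Subgroup.map_subtype_le N
    -- E normalizes N'
    have hEN' : ∀ e ∈ E, ∀ n ∈ N', e * n * e⁻¹ ∈ N' := by
      intro e he n hn
      have hcomm : ∀ a ∈ D, ∀ b ∈ Z, a * b = b * a := fun a _ b hb =>
        (Subgroup.mem_center_iff.mp (hZ hb) a)
      obtain ⟨d, hd, z, hz, rfl⟩ := mem_sup_of_commute hcomm (hEDZ he)
      obtain ⟨n₀, hn₀, rfl⟩ := Subgroup.mem_map.mp hn
      have hzc : ∀ g : G, g * z = z * g := Subgroup.mem_center_iff.mp (hZ hz)
      have e1 : d * z * D.subtype n₀ * (d * z)⁻¹ = d * D.subtype n₀ * d⁻¹ := by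
        calc d * z * D.subtype n₀ * (d * z)⁻¹ = d * (z * D.subtype n₀) * z⁻¹ * d⁻¹ := by group
          _ = d * (D.subtype n₀ * z) * z⁻¹ * d⁻¹ := by rw [hzc]
          _ = d * D.subtype n₀ * d⁻¹ := by group
      rw [e1]
      refine Subgroup.mem_map.mpr ⟨⟨d, hd⟩ * n₀ * ⟨d, hd⟩⁻¹, hN.conj_mem n₀ hn₀ ⟨d, hd⟩, ?_⟩
      simp
    -- the image of N' in Q
    set Nq := (N'.map π).subgroupOf Q with hNq
    have hNqn : Nq.Normal := by
      refine ⟨fun n hn g => ?_⟩
      rw [hNq, Subgroup.mem_subgroupOf] at hn ⊢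
      obtain ⟨n', hn', hnn'⟩ := Subgroup.mem_map.mp hn
      obtain ⟨e, he, hge⟩ := Subgroup.mem_map.mp g.2
      refine Subgroup.mem_map.mpr ⟨e * n' * e⁻¹, hEN' e he n' hn', ?_⟩
      rw [map_mul, map_mul, map_inv, hnn', hge]
      simp
    have hNqne : Nq ≠ ⊤ := by
      intro htop
      rw [hNq, Subgroup.subgroupOf_eq_top] at htop
      have h1 : E ≤ N' ⊔ Z := by
        have h2 : (N'.map π).comap π = N' ⊔ Z := by rw [Subgroup.comap_map_eq, hker]
        rw [← h2]
        exact (Subgroup.le_comap_map π E).trans (Subgroup.comap_mono htop)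
      have h3 : D ≤ N' := by
        calc D = ⁅E, E⁆ := hD
          _ ≤ ⁅N' ⊔ Z, N' ⊔ Z⁆ := Subgroup.commutator_mono h1 h1
          _ ≤ ⁅N', N'⁆ := commutator_sup_central_le Z hZ N'
          _ ≤ N' := commutator_self_le N'
      apply hNtop
      rw [eq_top_iff]
      intro x _
      obtain ⟨y, hy, hyx⟩ := Subgroup.mem_map.mp (h3 x.2)
      have : y = x := Subtype.ext hyx
      rwa [← this]
    have hcen := IsQuasisimple_normal_le_center hE.2 Nq hNqne
    -- commutators of N' with E lie in Z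
    have hNEZ : ∀ n ∈ N', ∀ e ∈ E, ⁅n, e⁆ ∈ Z := by
      intro n hn e he
      have hn1 : π n ∈ Q := Subgroup.mem_map_of_mem π (hDE (hN'D hn))
      have he1 : π e ∈ Q := Subgroup.mem_map_of_mem π he
      have h1 : (⟨π n, hn1⟩ : ↥Q) ∈ Nq := by
        rw [hNq, Subgroup.mem_subgroupOf]; exact Subgroup.mem_map_of_mem π hn
      have h2 := Subgroup.mem_center_iff.mp (hcen h1) ⟨π e, he1⟩
      have h3 : π e * π n = π n * π e := congrArg Subtype.val h2
      rw [← hker, MonoidHom.mem_ker, commutatorElement_def, map_mul, map_mul, map_mul, map_inv,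
        map_inv, ← h3]
      group
    have h1 : ⁅⁅N', D⁆, D⁆ = ⊥ := by
      have h2 : ⁅N', D⁆ ≤ Z :=
        Subgroup.commutator_le.mpr fun n hn d hd => hNEZ n hn d (hDE hd)
      have h3 : ⁅Z, D⁆ = ⊥ := by
        rw [Subgroup.commutator_eq_bot_iff_le_centralizer]
        exact hZ.trans (Subgroup.center_le_centralizer _)
      exact le_bot_iff.mp (h3 ▸ Subgroup.commutator_mono h2 le_rfl)
    have h4 : ⁅N', D⁆ = ⊥ := commutator_eq_bot_of_perfect D N' hDperf h1
    intro n hn
    rw [Subgroup.mem_center_iff]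
    intro d
    apply Subtype.ext
    have := commute_of_commutator_eq_bot h4 (n : G) (Subgroup.mem_map_of_mem D.subtype hn)
      (d : G) d.2
    exact this.symm

end Cfsg.Agent.S3746
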