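import Cfsg.Statements.S3748
import Cfsg.Agent.Lib.Helper20.Wielandt
import Cfsg.Agent.Lib.Helper1.Fitting
import Cfsg.Agent.Lib.Helper8.Conj
import Cfsg.Agent.Lib.Helper17.Basic

set_option autoImplicit false
open Cfsg

namespace Cfsg.Agent.S3748

open Cfsg.Agent.Lib.Helper8 Cfsg.Agent.Lib.Helper1 Cfsg.Agent.Lib.Helper20

/-- every subgroup of a finite nilpotent group is subnormal -/
theorem subnormal_of_nilpotent {G : Type*} [Group G] [Finite G] [hnil : Group.IsNilpotent G]
    (H : Subgroup G) : H.IsSubnormal := by
  have hNC : NormalizerCondition G := Group.normalizerCondition_of_isNilpotent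
  induction H using WellFoundedGT.induction with
  | ind H ih =>
    by_cases hH : H = ⊤
    · rw [hH]; exact Subgroup.IsSubnormal.top
    · have hlt : H < Subgroup.normalizer (H : Set G) := hNC H (lt_top_iff_ne_top.mpr hH)
      exact Subgroup.IsSubnormal.step H _ Subgroup.le_normalizer (ih _ hlt)
        Subgroup.normal_in_normalizer

/-- Call a proper subgroup M of G primitive when M = N_G(N) for every non-trivial normal subgroup N of M. If M is a primitive subgroup of the finite group G, then no non-trivial subnormal subgroup of G is contained in M; in particular M ∩ F(G) = 1. -/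
theorem result {G : Type*} [Group G] [Finite G] (M : Subgroup G) (hM : M ≠ ⊤) (hprim : ∀ N : Subgroup G, N ≤ M → M ≤ Subgroup.normalizer (N : Set G) → N ≠ ⊥ → Subgroup.normalizer (N : Set G) = M) : (∀ L : Subgroup G, L.IsSubnormal → L ≤ M → L = ⊥) ∧ M ⊓ Cfsg.fittingSubgroup G = ⊥ := by
  classical
  have part1 : ∀ L : Subgroup G, L.IsSubnormal → L ≤ M → L = ⊥ := by
    intro L hL hLM
    by_contra hL1
    set Y : Subgroup G := ⨆ m : M, L.map (MulAut.conj (m : G)).toMonoidHom with hY
    have hLY : L ≤ Y := by
      have := le_iSup (fun m : M => L.map (MulAut.conj (m : G)).toMonoidHom) (1 : M)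
      have h2 : L.map (MulAut.conj (((1 : M) : G))).toMonoidHom = L := by
        rw [Subgroup.coe_one]; exact map_conj_one L
      rw [h2] at this
      exact this
    have hYM : Y ≤ M := by
      apply iSup_le
      rintro m _ ⟨l, hl, rfl⟩
      simp only [MulEquiv.coe_toMonoidHom, MulAut.conj_apply]
      exact M.mul_mem (M.mul_mem m.2 (hLM hl)) (M.inv_mem m.2)
    have hY1 : Y ≠ ⊥ := fun h => hL1 (le_bot_iff.mp (h ▸ hLY))
    have hMY : M ≤ Subgroup.normalizer (Y : Set G) := by
      intro m₀ hm₀
      apply Cfsg.Agent.Lib.Helper17.mem_normalizer_of_map_conj_le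
      rw [hY, Subgroup.map_iSup]
      apply iSup_le
      intro m
      rw [map_conj_map_conj]
      exact le_iSup (fun m : M => L.map (MulAut.conj (m : G)).toMonoidHom) (⟨m₀, hm₀⟩ * m)
    have hNY : Subgroup.normalizer (Y : Set G) = M := hprim Y hYM hMY hY1
    haveI : Nontrivial G := by
      by_contra h
      rw [not_nontrivial_iff_subsingleton] at h
      exact hM (Subsingleton.elim _ _)
    obtain ⟨N, hN⟩ := exists_isMinNormal (G := G)
    have hNle : N ≤ Subgroup.normalizer (Y : Set G) := by
      intro n hn
      rw [mem_normalizer_iff_map_conj, hY, Subgroup.map_iSup]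
      congr 1
      funext m
      have hsub : (L.map (MulAut.conj (m : G)).toMonoidHom).IsSubnormal :=
        hL.map (MulAut.conj (m : G)).surjective
      have := minNormal_le_normalizer_of_subnormal G _ N hsub hN hn
      exact mem_normalizer_iff_map_conj.mp this
    rw [hNY] at hNle
    haveI := hN.1
    have h1 : Subgroup.normalizer (N : Set G) = M :=
      hprim N hNle (Subgroup.le_normalizer_of_normal) hN.2.1
    rw [Subgroup.normalizer_eq_top_iff.mpr hN.1] at h1
    exact hM h1.symm
  refine ⟨part1, ?_⟩
  apply part1 _ _ inf_le_left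
  -- M ⊓ F(G) is subnormal
  set F := Cfsg.fittingSubgroup G with hF
  haveI : F.Normal := fittingSubgroup_normal G
  haveI : Group.IsNilpotent F := fittingSubgroup_isNilpotent G
  have h1 : ((M ⊓ F).subgroupOf F).IsSubnormal := subnormal_of_nilpotent _
  exact h1.trans inf_le_right (Subgroup.Normal.isSubnormal inferInstance)

end Cfsg.Agent.S3748
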