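import Cfsg.Statements.S3749
import Cfsg.Agent.Lib.Helper9.CoprimeSylow
import Cfsg.Agent.Lib.Helper9.FpfAction
import Cfsg.Agent.Lib.Helper1.Fitting

set_option autoImplicit false
open Cfsg

namespace Cfsg.Agent.S3749

/-- Call a proper subgroup M of G primitive when M = N_G(N) for every non-trivial normal subgroup N of M. Let M be a primitive subgroup of the finite group G, p a prime with O_p(M) ≠ 1, and N a normal subgroup of G with M ∩ N = 1. Then p does not divide the order of N; for every prime q there is exactly one Sylow q-subgroup of N normalized by M; and if the order of N has at least two prime divisors then M is not a maximal subgroup of G. -/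
theorem result {G : Type*} [Group G] [Finite G] (M : Subgroup G) (hM : M ≠ ⊤) (hprim : ∀ N : Subgroup G, N ≤ M → M ≤ Subgroup.normalizer (N : Set G) → N ≠ ⊥ → Subgroup.normalizer (N : Set G) = M) {p : ℕ} [Fact p.Prime] (hOp : Cfsg.pCore p ↥M ≠ ⊥) (N : Subgroup G) [N.Normal] (hMN : M ⊓ N = ⊥) : ¬ p ∣ Nat.card N ∧ (∀ q : ℕ, [Fact q.Prime] → ∃! Q : Sylow q ↥N, M ≤ Subgroup.normalizer ((Q : Subgroup ↥N).map N.subtype : Set G)) ∧ ((∃ q r : ℕ, q.Prime ∧ r.Prime ∧ q ≠ r ∧ q ∣ Nat.card N ∧ r ∣ Nat.card N) → ¬ IsCoatom M) := by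
  classical
  open Cfsg.Agent.Lib.Helper9 Cfsg.Agent.Lib.Helper1 in
  open scoped Pointwise in
  -- `P₀ = O_p(M)` as a subgroup of `G`
  set P₀ := (Cfsg.pCore p ↥M).map M.subtype with hP₀
  have hP₀M : P₀ ≤ M := Subgroup.map_subtype_le _
  have hP₀ne : P₀ ≠ ⊥ := by
    rw [hP₀, Ne, Subgroup.map_eq_bot_iff_of_injective _ (Subgroup.subtype_injective _)]
    exact hOp
  have hMnP₀ : M ≤ Subgroup.normalizer (P₀ : Set G) := by
    haveI : (Cfsg.pCore p ↥M).Normal := pCore_normal p ↥M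
    have h1 := Subgroup.le_normalizer_map (H := Cfsg.pCore p ↥M) M.subtype
    rw [Subgroup.normalizer_eq_top, ← MonoidHom.range_eq_map, Subgroup.range_subtype] at h1
    exact h1
  have hNP₀ : Subgroup.normalizer (P₀ : Set G) = M := hprim P₀ hP₀M hMnP₀ hP₀ne
  have hfix : N ⊓ Subgroup.centralizer (P₀ : Set G) = ⊥ := by
    rw [eq_bot_iff, ← hMN]
    refine le_inf ?_ inf_le_left
    rw [← hNP₀]
    exact inf_le_right.trans (Subgroup.centralizer_le_normalizer _)
  have hP₀N : P₀ ≤ Subgroup.normalizer (N : Set G) := by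
    rw [Subgroup.normalizer_eq_top]; exact le_top
  have hMN' : M ≤ Subgroup.normalizer (N : Set G) := by
    rw [Subgroup.normalizer_eq_top]; exact le_top
  have hP₀p : IsPGroup p ↥P₀ := (pCore_isPGroup p ↥M).map M.subtype
  -- (1)
  have h1 : ¬ p ∣ Nat.card N := by
    intro hdvd
    letI := conjMulDistribMulAction P₀ N hP₀N
    have hmod := hP₀p.card_modEq_card_fixedPoints ↥N
    have hfp : MulAction.fixedPoints ↥P₀ ↥N = {1} := by
      rw [Set.eq_singleton_iff_unique_mem]
      refine ⟨fun a => smul_one a, ?_⟩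
      intro v hv
      have hvc : (v : G) ∈ N ⊓ Subgroup.centralizer (P₀ : Set G) := by
        refine ⟨v.2, ?_⟩
        show (v : G) ∈ Subgroup.centralizer (P₀ : Set G)
        rw [Subgroup.mem_centralizer_iff]
        intro h hh
        have h2 : (⟨h, hh⟩ : ↥P₀) • v = v := hv ⟨h, hh⟩
        have h3 : h * (v : G) * h⁻¹ = (v : G) := congrArg Subtype.val h2
        have : h * (v : G) * h⁻¹ * h = (v : G) * h := by rw [h3]
        simpa [mul_assoc] using this
      rw [hfix, Subgroup.mem_bot] at hvc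
      exact Subtype.ext hvc
    rw [hfp] at hmod
    have hc1 : Nat.card ↥({1} : Set ↥N) = 1 := by
      simp
    rw [hc1] at hmod
    have h0 : Nat.card ↥N ≡ 0 [MOD p] := (Nat.modEq_zero_iff_dvd).mpr hdvd
    have h01 : 0 ≡ 1 [MOD p] := h0.symm.trans hmod
    have hp1 : p ∣ 1 := by
      have := (Nat.modEq_iff_dvd' (by norm_num : 0 ≤ 1)).mp h01
      simpa using this
    exact (Fact.out : p.Prime).one_lt.ne' (Nat.dvd_one.mp hp1)
  have hcop : (Nat.card ↥P₀).Coprime (Nat.card ↥N) := by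
    obtain ⟨k, hk⟩ := IsPGroup.iff_card.mp hP₀p
    rw [hk]
    exact Nat.Coprime.pow_left _ (((Fact.out : p.Prime).coprime_iff_not_dvd).mpr h1)
  have hsolv : Group.IsSolvable ↥P₀ ∨ Group.IsSolvable ↥N := by
    left
    haveI := hP₀p.isNilpotent
    infer_instance
  -- (2)
  have h2 : ∀ q : ℕ, [Fact q.Prime] → ∃! Q : Sylow q ↥N,
      M ≤ Subgroup.normalizer ((Q : Subgroup ↥N).map N.subtype : Set G) := by
    intro q hq
    obtain ⟨Q, hQ⟩ := exists_invariant_sylow P₀ N hP₀N hcop hsolv q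
    refine ⟨Q, ?_, ?_⟩
    · intro m hm
      set γ : ↥(Subgroup.normalizer (N : Set G)) := ⟨m, hMN' hm⟩ with hγ
      have hmap := map_subtype_normalizer_smul_sylow γ Q
      have hinv : P₀ ≤ Subgroup.normalizer
          ((((γ • Q : Sylow q ↥N) : Subgroup ↥N)).map N.subtype : Set G) := by
        rw [hmap, ← conj_smul_normalizer]
        intro a ha
        rw [mem_conj_smul_iff]
        apply hQ
        have hm' : m⁻¹ ∈ Subgroup.normalizer (P₀ : Set G) := Subgroup.inv_mem _ (hMnP₀ hm)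
        have := (Subgroup.mem_normalizer_iff.mp hm' a).mp ha
        simpa using this
      have heq := invariant_sylow_unique P₀ N hP₀N hcop hsolv hfix q (γ • Q) Q hinv hQ
      rw [heq] at hmap
      rw [Subgroup.mem_normalizer_iff_map_conj_eq]
      exact hmap.symm
    · intro Q₂ hQ₂
      exact invariant_sylow_unique P₀ N hP₀N hcop hsolv hfix q Q₂ Q (hP₀M.trans hQ₂) hQ
  refine ⟨h1, h2, ?_⟩
  -- (3)
  rintro ⟨q, r, hq, hr, hqr, hqN, hrN⟩ hco
  haveI : Fact q.Prime := ⟨hq⟩
  obtain ⟨Q, hQ, -⟩ := h2 q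
  set Q' := (Q : Subgroup ↥N).map N.subtype with hQ'
  have hQ'N : Q' ≤ N := Subgroup.map_subtype_le _
  have hQ'ne : Q' ≠ ⊥ := by
    rw [hQ', Ne, Subgroup.map_eq_bot_iff_of_injective _ (Subgroup.subtype_injective _)]
    exact Sylow.ne_bot_of_dvd_card Q hqN
  have hlt : M < M ⊔ Q' := by
    refine lt_of_le_of_ne le_sup_left ?_
    intro heq
    have hQM : Q' ≤ M := by rw [heq]; exact le_sup_right
    have : Q' ≤ M ⊓ N := le_inf hQM hQ'N
    rw [hMN] at this
    exact hQ'ne (le_bot_iff.mp this)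
  have htop : M ⊔ Q' = ⊤ := hco.2 _ hlt
  -- then `N ≤ Q'`
  have hNQ : N ≤ Q' := by
    intro n hn
    have hn' : n ∈ M ⊔ Q' := by rw [htop]; exact Subgroup.mem_top n
    have hmul : ((M ⊔ Q' : Subgroup G) : Set G) = (M : Set G) * (Q' : Set G) := by
      apply Subgroup.coe_mul_of_left_le_normalizer_right
      exact hQ
    have hn'' : n ∈ (M : Set G) * (Q' : Set G) := by
      rw [← hmul]; exact hn'
    obtain ⟨m, hm, x, hx, rfl⟩ := Set.mem_mul.mp hn''
    have hmN : m ∈ N := by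
      have := N.mul_mem hn (N.inv_mem (hQ'N hx))
      simpa using this
    have hm1 : m ∈ M ⊓ N := ⟨hm, hmN⟩
    rw [hMN, Subgroup.mem_bot] at hm1
    rw [hm1, one_mul]; exact hx
  have hcard : Nat.card ↥N ∣ Nat.card ↥Q' := Subgroup.card_dvd_of_le hNQ
  have hQ'p : IsPGroup q ↥Q' := Q.isPGroup'.map N.subtype
  obtain ⟨k, hk⟩ := IsPGroup.iff_card.mp hQ'p
  rw [hk] at hcard
  have hrq : r ∣ q ^ k := hrN.trans hcard
  have := (Nat.prime_dvd_prime_iff_eq hr hq).mp (hr.dvd_of_dvd_pow hrq)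
  exact hqr this.symm

end Cfsg.Agent.S3749
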