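import Cfsg.Statements.S3750
import Cfsg.Agent.Lib.Helper9.FStar4
import Cfsg.Agent.Lib.Helper9.FStar2
import Cfsg.Agent.Lib.Helper9.Quasisimple
import Cfsg.Agent.Lib.Helper1.Fitting

set_option autoImplicit false
open Cfsg

namespace Cfsg.Agent.S3750

/-- Call a proper subgroup M of G primitive when M = N_G(N) for every non-trivial normal subgroup N of M. Let M be a primitive subgroup of the finite group G and N a normal subgroup of G with M ∩ F*(N) ≠ 1. Then F(G) = 1 and F*(N) = F*(G) = E(G); in particular every minimal normal subgroup of G is contained in N. -/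
theorem result {G : Type*} [Group G] [Finite G] (M : Subgroup G) (hM : M ≠ ⊤) (hprim : ∀ N : Subgroup G, N ≤ M → M ≤ Subgroup.normalizer (N : Set G) → N ≠ ⊥ → Subgroup.normalizer (N : Set G) = M) (N : Subgroup G) [N.Normal] (hMF : M ⊓ (Cfsg.generalizedFittingSubgroup ↥N).map N.subtype ≠ ⊥) : Cfsg.fittingSubgroup G = ⊥ ∧ (Cfsg.generalizedFittingSubgroup ↥N).map N.subtype = Cfsg.generalizedFittingSubgroup G ∧ Cfsg.generalizedFittingSubgroup G = Cfsg.layer G ∧ ∀ K : Subgroup G, K.Normal → K ≠ ⊥ → (∀ K' : Subgroup G, K'.Normal → K' ≤ K → K' = ⊥ ∨ K' = K) → K ≤ N := by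
  classical
  open Cfsg.Agent.Lib.Helper9 in
  -- notation
  have hFnEq := generalizedFittingSubgroup_inf_normal (G := G) N
  set Fn := (Cfsg.generalizedFittingSubgroup ↥N).map N.subtype with hFn
  have hFnN : Fn.Normal := by
    rw [← hFnEq]
    exact Subgroup.normal_inf_normal _ _
  have hFnle : Fn ≤ Cfsg.generalizedFittingSubgroup G := by
    rw [← hFnEq]; exact inf_le_left
  have hFnleN : Fn ≤ N := by
    rw [← hFnEq]; exact inf_le_right
  set L := M ⊓ Fn with hL
  have hLM : L ≤ M := inf_le_left
  have hMnL : M ≤ Subgroup.normalizer (L : Set G) := by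
    intro m hm
    rw [Subgroup.mem_normalizer_iff]
    intro x
    constructor
    · rintro ⟨hx1, hx2⟩
      exact ⟨M.mul_mem (M.mul_mem hm hx1) (M.inv_mem hm), hFnN.conj_mem x hx2 m⟩
    · rintro ⟨hx1, hx2⟩
      refine ⟨?_, ?_⟩
      · have := M.mul_mem (M.mul_mem (M.inv_mem hm) hx1) hm
        simpa [mul_assoc] using this
      · have := hFnN.conj_mem _ hx2 m⁻¹
        simpa [mul_assoc] using this
  have hNL : Subgroup.normalizer (L : Set G) = M := hprim L hLM hMnL hMF
  -- key: a normal subgroup of `G` centralizing `Fn` is trivial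
  have key : ∀ K : Subgroup G, K.Normal → K ≤ Subgroup.centralizer (Fn : Set G) → K = ⊥ := by
    intro K hKn hKc
    by_contra hne
    have hKM : K ≤ M := by
      rw [← hNL]
      refine le_trans ?_ (Subgroup.centralizer_le_normalizer _)
      exact hKc.trans (Subgroup.centralizer_le (by
        intro x hx; exact (inf_le_right : L ≤ Fn) hx))
    have hMK : M ≤ Subgroup.normalizer (K : Set G) := by
      rw [Subgroup.normalizer_eq_top]; exact le_top
    have := hprim K hKM hMK hne
    rw [Subgroup.normalizer_eq_top] at this
    exact hM this.symm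
  -- (a) F(G) = 1
  have hF : Cfsg.fittingSubgroup G = ⊥ := by
    by_contra hne
    haveI hnil : Group.IsNilpotent ↥(Cfsg.fittingSubgroup G) :=
      Cfsg.Agent.Lib.Helper1.fittingSubgroup_isNilpotent G
    haveI : Nontrivial ↥(Cfsg.fittingSubgroup G) := by
      rw [Subgroup.nontrivial_iff_ne_bot]; exact hne
    have hZne : Subgroup.center ↥(Cfsg.fittingSubgroup G) ≠ ⊥ :=
      Group.IsNilpotent.center_ne_bot _
    set Z := (Subgroup.center ↥(Cfsg.fittingSubgroup G)).map (Cfsg.fittingSubgroup G).subtype with hZ
    have hZn : Z.Normal := by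
      have hchar : (Subgroup.center ↥(Cfsg.fittingSubgroup G)).Characteristic := inferInstance
      exact ConjAct.normal_of_characteristic_of_normal
    have hZc : Z ≤ Subgroup.centralizer (Fn : Set G) := by
      refine le_trans ?_ (Subgroup.centralizer_le hFnle)
      unfold Cfsg.generalizedFittingSubgroup
      rintro _ ⟨⟨z, hzF⟩, hz, rfl⟩
      replace hz : (⟨z, hzF⟩ : ↥(Cfsg.fittingSubgroup G)) ∈ Subgroup.center ↥(Cfsg.fittingSubgroup G) := hz
      rw [Subgroup.mem_center_iff] at hz
      rw [Subgroup.mem_centralizer_iff]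
      intro y hy
      have hy' : y ∈ Subgroup.centralizer ({z} : Set G) := by
        revert y
        show Cfsg.layer G ⊔ Cfsg.fittingSubgroup G ≤ Subgroup.centralizer ({z} : Set G)
        apply sup_le
        · refine le_trans layer_le_centralizer_fittingSubgroup (Subgroup.centralizer_le ?_)
          intro w hw
          rw [Set.mem_singleton_iff] at hw
          rw [hw]; exact hzF
        · intro w hw
          rw [Subgroup.mem_centralizer_singleton_iff]
          have := hz ⟨w, hw⟩
          have h2 := congrArg Subtype.val this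
          simpa using h2
      rw [Subgroup.mem_centralizer_singleton_iff] at hy'
      exact hy'
    have := key Z hZn hZc
    rw [hZ, Subgroup.map_eq_bot_iff_of_injective _ (Subgroup.subtype_injective _)] at this
    exact hZne this
  refine ⟨hF, ?_, ?_, ?_⟩
  · -- (b)
    apply le_antisymm hFnle
    unfold Cfsg.generalizedFittingSubgroup
    rw [hF, sup_bot_eq]
    apply layer_le_of_forall_component_le
    intro K hK
    rcases component_le_or_le_centralizer hK hFnN.isSubnormal with h | h
    · exact h
    · exfalso
      have hCn : (Subgroup.centralizer (Fn : Set G)).Normal := Subgroup.normal_centralizer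
      have hCbot := key _ hCn le_rfl
      rw [hCbot] at h
      have hKbot : K = ⊥ := le_bot_iff.mp h
      have := IsQuasisimple_nontrivial hK.2
      rw [Subgroup.nontrivial_iff_ne_bot] at this
      exact this hKbot
  · unfold Cfsg.generalizedFittingSubgroup
    rw [hF, sup_bot_eq]
  · intro K hKn hKne hKmin
    have hKNn : (K ⊓ N).Normal := Subgroup.normal_inf_normal _ _
    rcases hKmin (K ⊓ N) hKNn inf_le_left with h | h
    · exfalso
      apply hKne
      apply key K hKn
      refine le_trans ?_ (Subgroup.centralizer_le hFnleN)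
      rw [← Subgroup.commutator_eq_bot_iff_le_centralizer]
      rw [eq_bot_iff, ← h]
      refine le_inf ?_ ?_
      · haveI := hKn
        exact Subgroup.commutator_le_left K N
      · exact Subgroup.commutator_le_right K N
    · rw [← h]; exact inf_le_right

end Cfsg.Agent.S3750
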