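import Cfsg.Statements.S3751
import Cfsg.Agent.Lib.Helper17.PrimPair

set_option autoImplicit false
open Cfsg

namespace Cfsg.Agent.S3751

open Cfsg.Agent.Lib.Helper17 Cfsg.Agent.Lib.Helper1 Cfsg.Agent.Lib.Helper8

/-- Two distinct subgroups M₁, M₂ of G form a primitive pair when, for {i, j} = {1, 2}, every non-trivial normal subgroup A of M_i contained in M₁ ∩ M₂ satisfies N_{M_j}(A) = M₁ ∩ M₂; the pair has characteristic p when moreover C_{M_i}(O_p(M_i)) ≤ O_p(M_i) for both i and O_p(M₁)O_p(M₂) ≤ M₁ ∩ M₂. Let G be a finite group, p a prime dividing its order, with O_p(G) = 1 and every p-local subgroup of characteristic p. Then either G has a primitive pair of characteristic p, or every maximal p-local subgroup M of G is strongly p-embedded in G: M is a proper subgroup, p divides its order, and for every g ∉ M the order of M ∩ gMg⁻¹ is prime to p. -/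
theorem result {G : Type*} [Group G] [Finite G] {p : ℕ} [Fact p.Prime] (hloc : Cfsg.IsOfLocalCharacteristic p G) (hOp : Cfsg.pCore p G = ⊥) : (∃ M₁ M₂ : Subgroup G, M₁ ≠ M₂ ∧ (∀ A : Subgroup G, A ≠ ⊥ → A ≤ M₁ ⊓ M₂ → (M₁ ≤ Subgroup.normalizer (A : Set G) → M₂ ⊓ Subgroup.normalizer (A : Set G) = M₁ ⊓ M₂) ∧ (M₂ ≤ Subgroup.normalizer (A : Set G) → M₁ ⊓ Subgroup.normalizer (A : Set G) = M₁ ⊓ M₂)) ∧ Subgroup.centralizer (Cfsg.pCore p ↥M₁ : Set ↥M₁) ≤ Cfsg.pCore p ↥M₁ ∧ Subgroup.centralizer (Cfsg.pCore p ↥M₂ : Set ↥M₂) ≤ Cfsg.pCore p ↥M₂ ∧ (Cfsg.pCore p ↥M₁).map M₁.subtype ⊔ (Cfsg.pCore p ↥M₂).map M₂.subtype ≤ M₁ ⊓ M₂) ∨ (∀ M : Subgroup G, (∃ T : Subgroup G, IsPGroup p T ∧ T ≠ ⊥ ∧ M = Subgroup.normalizer (T : Set G)) → (∀ L : Subgroup G, (∃ T : Subgroup G, IsPGroup p T ∧ T ≠ ⊥ ∧ L = Subgroup.normalizer (T : Set G)) → M ≤ L → L = M) → M ≠ ⊤ ∧ p ∣ Nat.card M ∧ ∀ g : G, g ∉ M → ¬ p ∣ Nat.card ↥(M ⊓ M.map (MulAut.conj g).toMonoidHom))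 := by
  by_cases hall : ∀ M : Subgroup G, IsMaxPLocal p M → ∀ g : G, g ∉ M →
      ¬ p ∣ Nat.card ↥(M ⊓ M.map (MulAut.conj g).toMonoidHom)
  · right
    intro M hloc1 hmax
    have hM : IsMaxPLocal p M := ⟨hloc1, hmax⟩
    obtain ⟨T, hT, hTne, hMT⟩ := hloc1
    refine ⟨?_, ?_, hall M hM⟩
    · intro htop
      rw [htop] at hMT
      have hn : T.Normal := Subgroup.normalizer_eq_top_iff.mp hMT.symm
      have := le_pCore hn hT
      rw [hOp, le_bot_iff] at this
      exact hTne this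
    · have hTM : T ≤ M := by rw [hMT]; exact Subgroup.le_normalizer
      obtain ⟨k, hk⟩ := IsPGroup.iff_card.mp hT
      have hk0 : k ≠ 0 := by
        rintro rfl
        rw [pow_zero] at hk
        exact hTne (Subgroup.card_eq_one.mp hk)
      have h1 : p ∣ Nat.card ↥T := by rw [hk]; exact dvd_pow_self p hk0
      exact h1.trans (Subgroup.card_dvd_of_le hTM)
  · left
    push Not at hall
    obtain ⟨M, hM, g, hg, hdvd⟩ := hall
    have hMg : M ≠ M.map (MulAut.conj g).toMonoidHom := by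
      intro heq
      apply hg
      rw [← hM.normalizer_eq, mem_normalizer_iff_map_conj]
      exact heq.symm
    obtain ⟨L₁, L₂, S, hLne, hpair⟩ := exists_maxPair hM (hM.map_conj g) hMg hdvd
    obtain ⟨K₁, K₂, hK₁, hK₂, hKne, hsup⟩ := hpair.exists_good hLne
    have hc₁ := centralizer_pCore_le_of_isPLocal hloc hK₁.1
    have hc₂ := centralizer_pCore_le_of_isPLocal hloc hK₂.1
    refine ⟨K₁, K₂, hKne, ?_, hc₁, hc₂, hsup⟩
    intro A hA hAD
    constructor
    · intro hn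
      rw [hK₁.normalizer_eq_of_normal hc₁ hA (hAD.trans inf_le_left) hn, inf_comm]
    · intro hn
      rw [hK₂.normalizer_eq_of_normal hc₂ hA (hAD.trans inf_le_right) hn]

end Cfsg.Agent.S3751
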