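import Cfsg.Statements.S3755
import Cfsg.Agent.Lib.Helper17.TwoConj
import Cfsg.Agent.Lib.Helper17.SmallOffender
import Cfsg.Agent.Lib.Helper16.DihedralInvolved
import Cfsg.Agent.Lib.Helper3.Dihedral

set_option autoImplicit false

open Cfsg

namespace Cfsg.Agent.S3755

/-- Let M and V be subgroups of a finite group with V an elementary abelian 2-group, M normalizing V and acting faithfully on it (M ∩ C(V) = 1), and C_M(O_{2'}(M)) ≤ O_{2'}(M). If some elementary abelian 2-subgroup A of M satisfies |V : C_V(A)| < |A|², then M has a section isomorphic to the symmetric group of degree 3. -/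
theorem result {X : Type*} [Group X] [Finite X] (M V : Subgroup X) (hV : Cfsg.IsElementaryAbelian 2 V) (hMV : M ≤ Subgroup.normalizer (V : Set X)) (hfaith : M ⊓ Subgroup.centralizer (V : Set X) = ⊥) (hcon : Subgroup.centralizer (Cfsg.pPrimeCore 2 ↥M : Set ↥M) ≤ Cfsg.pPrimeCore 2 ↥M) (A : Subgroup X) (hAM : A ≤ M) (hA : Cfsg.IsElementaryAbelian 2 A) (hsmall : (V ⊓ Subgroup.centralizer (A : Set X)).relIndex V < Nat.card A ^ 2) : Cfsg.Involves (Equiv.Perm (Fin 3)) ↥M := by
  classical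
  haveI h2 : Fact (Nat.Prime 2) := ⟨Nat.prime_two⟩
  set K : Subgroup X := (Cfsg.pPrimeCore 2 ↥M).map M.subtype with hK
  haveI hKn : (Cfsg.pPrimeCore 2 ↥M).Normal := Cfsg.Agent.Lib.Helper24.pPrimeCore_normal' 2
  have hKM : K ≤ M := Subgroup.map_subtype_le _
  have hKcop : (Nat.card K).Coprime 2 := by
    rw [hK, Subgroup.card_map_of_injective M.subtype_injective]
    exact Cfsg.Agent.Lib.Helper12.pPrimeCore_coprime 2
  have hKodd : Odd (Nat.card K) := Nat.coprime_two_left.mp hKcop.symm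
  have hKV : K ≤ Subgroup.normalizer (V : Set X) := hKM.trans hMV
  have hKfaith : K ⊓ Subgroup.centralizer (V : Set X) = ⊥ := by
    rw [eq_bot_iff, ← hfaith]
    exact inf_le_inf_right _ hKM
  have hAK : A ≤ Subgroup.normalizer (K : Set X) :=
    hAM.trans (Cfsg.Agent.Lib.Helper17.le_normalizer_map_subtype_of_normal M _)
  have hAp : IsPGroup 2 A := Cfsg.Agent.Lib.Helper17.isPGroup_of_isElementaryAbelian hA
  have hAfaith : A ⊓ Subgroup.centralizer (K : Set X) = ⊥ := by
    rw [eq_bot_iff]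
    intro x hx
    obtain ⟨hxA, hxK⟩ := Subgroup.mem_inf.mp hx
    have hxM : x ∈ M := hAM hxA
    have h1 : (⟨x, hxM⟩ : M) ∈ Subgroup.centralizer (Cfsg.pPrimeCore 2 ↥M : Set ↥M) := by
      rw [Subgroup.mem_centralizer_iff]
      intro k hk
      apply Subtype.ext
      exact Subgroup.mem_centralizer_iff.mp hxK k.1 ⟨k, hk, rfl⟩
    have h2' : x ∈ K := ⟨⟨x, hxM⟩, hcon h1, rfl⟩
    rw [Subgroup.mem_bot]
    exact Cfsg.Agent.Lib.Helper17.eq_one_of_mem_isPGroup_of_mem_coprime hAp hKcop hxA h2'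
  obtain ⟨a, haA, e, heK, he3, hinv⟩ := Cfsg.Agent.Lib.Helper17.exists_inverted_order_three V K hV hKodd
    hKV hKfaith (Nat.card A) A rfl hA hAK (hAM.trans hMV) hAfaith hsmall
  have haM : a ∈ M := hAM haA
  have heM : e ∈ M := hKM heK
  haveI h3 : Fact (Nat.Prime 3) := ⟨Nat.prime_three⟩
  have hD : Cfsg.Involves (DihedralGroup 3) ↥M := by
    apply Cfsg.Agent.Lib.Helper16.involves_dihedral_of_inverting (p := 3) (by norm_num)
      (⟨a, haM⟩ : M) ⟨e, heM⟩
    · have ha2 : a ^ 2 = 1 := hA.2 a haA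
      have hdvd : orderOf a ∣ 2 := orderOf_dvd_of_pow_eq_one ha2
      rw [Subgroup.orderOf_mk]
      rcases (Nat.dvd_prime Nat.prime_two).mp hdvd with h | h
      · exact ⟨0, by rw [h, pow_zero]⟩
      · exact ⟨1, by rw [h, pow_one]⟩
    · rw [Subgroup.orderOf_mk]; exact he3
    · apply Subtype.ext
      simpa using hinv
  obtain ⟨K', R', hn, ⟨φ⟩⟩ := hD
  exact ⟨K', R', hn, ⟨φ.trans Cfsg.Agent.Lib.Helper3.d3Equiv⟩⟩

end Cfsg.Agent.S3755
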