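import Cfsg.Statements.S3760
-- import your own Cfsg.Agent.* helpers here

set_option autoImplicit false
open Cfsg

namespace Cfsg.Agent.S3760

theorem conj_map_eq_iff {G : Type*} [Group G] (K : Subgroup G) (g h : G) :
    K.map (MulAut.conj g).toMonoidHom = K.map (MulAut.conj h).toMonoidHom ↔
      h⁻¹ * g ∈ Subgroup.normalizer (K : Set G) := by
  constructor
  · intro heq
    rw [Subgroup.mem_normalizer_iff]
    intro n
    constructor
    · intro hn
      have h1 : g * n * g⁻¹ ∈ K.map (MulAut.conj g).toMonoidHom :=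
        ⟨n, hn, by simp [MulAut.conj_apply]⟩
      rw [heq] at h1
      obtain ⟨m, hm, hme⟩ := h1
      simp only [MulEquiv.coe_toMonoidHom, MulAut.conj_apply] at hme
      have : h⁻¹ * g * n * (h⁻¹ * g)⁻¹ = m := by
        have : h⁻¹ * g * n * (h⁻¹ * g)⁻¹ = h⁻¹ * (g * n * g⁻¹) * h := by group
        rw [this, ← hme]; group
      rw [this]; exact hm
    · intro hn
      have h1 : h * (h⁻¹ * g * n * (h⁻¹ * g)⁻¹) * h⁻¹ ∈ K.map (MulAut.conj h).toMonoidHom :=
        ⟨_, hn, by simp [MulAut.conj_apply]⟩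
      rw [← heq] at h1
      obtain ⟨m, hm, hme⟩ := h1
      simp only [MulEquiv.coe_toMonoidHom, MulAut.conj_apply] at hme
      have : n = m := by
        have e2 : h * (h⁻¹ * g * n * (h⁻¹ * g)⁻¹) * h⁻¹ = g * n * g⁻¹ := by group
        rw [e2] at hme
        have := congrArg (fun z => g⁻¹ * z * g) hme
        have e3 : g⁻¹ * (g * m * g⁻¹) * g = m := by group
        have e4 : g⁻¹ * (g * n * g⁻¹) * g = n := by group
        rw [e3, e4] at this
        exact this.symm
      rw [this]; exact hm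
  · intro hN
    rw [Subgroup.mem_normalizer_iff] at hN
    ext z
    constructor
    · rintro ⟨n, hn, rfl⟩
      refine ⟨h⁻¹ * g * n * (h⁻¹ * g)⁻¹, (hN n).mp hn, ?_⟩
      simp only [MulEquiv.coe_toMonoidHom, MulAut.conj_apply]
      group
    · rintro ⟨n, hn, rfl⟩
      have hn' : (h⁻¹ * g)⁻¹ * n * (h⁻¹ * g) ∈ K := by
        rw [hN]
        have : h⁻¹ * g * ((h⁻¹ * g)⁻¹ * n * (h⁻¹ * g)) * (h⁻¹ * g)⁻¹ = n := by group
        rw [this]; exact hn
      refine ⟨(h⁻¹ * g)⁻¹ * n * (h⁻¹ * g), hn', ?_⟩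
      simp only [MulEquiv.coe_toMonoidHom, MulAut.conj_apply]
      group

/-- Let the group G act transitively on a set X, let x ∈ X with stabilizer H = G_x, and let K ≤ H. Then N_G(K) acts transitively on the set of fixed points of K if and only if every G-conjugate of K contained in H is already an H-conjugate of K. -/
theorem result {G : Type*} [Group G] {X : Type*} [MulAction G X] (htrans : ∀ a b : X, ∃ g : G, g • a = b) (x : X) (K : Subgroup G) (hK : K ≤ MulAction.stabilizer G x) : (∀ a b : X, (∀ k ∈ K, k • a = a) → (∀ k ∈ K, k • b = b) → ∃ g ∈ Subgroup.normalizer (K : Set G), g • a = b) ↔ ∀ g : G, K.map (MulAut.conj g).toMonoidHom ≤ MulAction.stabilizer G x → ∃ h ∈ MulAction.stabilizer G x, K.map (MulAut.conj g).toMonoidHom = K.map (MulAut.conj h).toMonoidHom := by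
  constructor
  · intro hT g hg
    -- g⁻¹ • x is fixed by K
    have hfix1 : ∀ k ∈ K, k • (g⁻¹ • x) = g⁻¹ • x := by
      intro k hk
      have : g * k * g⁻¹ ∈ MulAction.stabilizer G x :=
        hg ⟨k, hk, by simp [MulAut.conj_apply]⟩
      rw [MulAction.mem_stabilizer_iff] at this
      have h2 : k • g⁻¹ • x = g⁻¹ • ((g * k * g⁻¹) • x) := by
        simp only [← mul_smul]; congr 1; group
      rw [h2, this]
    have hfix2 : ∀ k ∈ K, k • x = x := fun k hk => MulAction.mem_stabilizer_iff.mp (hK hk)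
    obtain ⟨n, hn, hnx⟩ := hT (g⁻¹ • x) x hfix1 hfix2
    -- h := g * n⁻¹ ... we need h ∈ stabilizer with h⁻¹ * g ∈ N(K). take h = g * n⁻¹
    refine ⟨g * n⁻¹, ?_, ?_⟩
    · rw [MulAction.mem_stabilizer_iff]
      have : n⁻¹ • x = g⁻¹ • x := by
        conv_lhs => rw [← hnx]
        rw [← mul_smul, inv_mul_cancel, one_smul]
      rw [mul_smul, this, ← mul_smul, mul_inv_cancel, one_smul]
    · rw [conj_map_eq_iff]
      have : (g * n⁻¹)⁻¹ * g = n := by group
      rw [this]; exact hn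
  · intro hF a b ha hb
    have key : ∀ c : X, (∀ k ∈ K, k • c = c) → ∃ n ∈ Subgroup.normalizer (K : Set G), n • x = c := by
      intro c hc
      obtain ⟨g, hg⟩ := htrans x c
      have hle : K.map (MulAut.conj g⁻¹).toMonoidHom ≤ MulAction.stabilizer G x := by
        rintro z ⟨k, hk, rfl⟩
        simp only [MulEquiv.coe_toMonoidHom, MulAut.conj_apply, inv_inv]
        rw [MulAction.mem_stabilizer_iff, mul_smul, mul_smul, hg, hc k hk, ← hg, ← mul_smul,
          inv_mul_cancel, one_smul]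
      obtain ⟨h, hh, heq⟩ := hF g⁻¹ hle
      rw [conj_map_eq_iff] at heq
      -- h⁻¹ * g⁻¹ ∈ N(K); take n = (h⁻¹ * g⁻¹)⁻¹ = g * h
      refine ⟨(h⁻¹ * g⁻¹)⁻¹, Subgroup.inv_mem _ heq, ?_⟩
      have : (h⁻¹ * g⁻¹)⁻¹ = g * h := by group
      rw [this, mul_smul, MulAction.mem_stabilizer_iff.mp hh, hg]
    obtain ⟨n₁, hn₁, h1⟩ := key a ha
    obtain ⟨n₂, hn₂, h2⟩ := key b hb
    refine ⟨n₂ * n₁⁻¹, Subgroup.mul_mem _ hn₂ (Subgroup.inv_mem _ hn₁), ?_⟩
    rw [← h1, ← mul_smul, inv_mul_cancel_right, h2]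

end Cfsg.Agent.S3760
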