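import Cfsg.Statements.S3763
import Mathlib
import Cfsg.Agent.Lib.Helper20.ESRank

set_option autoImplicit false
open Cfsg

namespace Cfsg.Agent.S3763

/-- Let E be an extraspecial 2-group of order 2^(2n+1). Then the largest elementary abelian subgroups of E have order 2^n or 2^(n+1); and two extraspecial 2-groups of the same order whose largest elementary abelian subgroups have the same order are isomorphic. -/
theorem result {E : Type*} [Group E] [Finite E] (hE : Cfsg.IsExtraspecial 2 E) (n : ℕ) (hn : Nat.card E = 2 ^ (2 * n + 1)) : ((Cfsg.PRankLE 2 n E ∧ ¬ Cfsg.PRankLE 2 (n - 1) E) ∨ (Cfsg.PRankLE 2 (n + 1) E ∧ ¬ Cfsg.PRankLE 2 n E)) ∧ ∀ (E' : Type*) [Group E'] [Finite E'], Cfsg.IsExtraspecial 2 E' → Nat.card E' = Nat.card E → (∀ k : ℕ, Cfsg.PRankLE 2 k E ↔ Cfsg.PRankLE 2 k E') → Nonempty (E ≃* E') := by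
  haveI : Fact (Nat.Prime 2) := ⟨Nat.prime_two⟩
  obtain ⟨z, hz⟩ := Cfsg.Agent.Lib.Helper20.ES.exists_esData hE
  have hna := Cfsg.Agent.Lib.Helper20.ES.exists_comm_ne_one hE
  have hsucc := Cfsg.Agent.Lib.Helper20.ES.prankLE_succ hE n hn
  refine ⟨?_, ?_⟩
  · by_cases hP : Cfsg.PRankLE 2 n E
    · left
      refine ⟨hP, ?_⟩
      intro hP'
      obtain ⟨m, A, hm1, hcm, -, hAc, hA2, hcase⟩ :=
        Cfsg.Agent.Lib.Helper20.ES.exists_elemAb (Nat.card E) z hz hna rfl
      have hmn : m = n := Cfsg.Agent.Lib.Helper20.ES.pow_two_injective' (hcm.symm.trans hn)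
      subst hmn
      have hle := hP' A (Cfsg.Agent.Lib.Helper20.ES.isMulCommutative_of A hAc) hA2
      have hlt : (2 : ℕ) ^ (m - 1) < 2 ^ m := Nat.pow_lt_pow_right (by norm_num) (by omega)
      rcases hcase with ⟨-, h2⟩ | ⟨-, h2⟩
      · rw [h2, pow_succ] at hle
        omega
      · rw [h2] at hle
        omega
    · right
      exact ⟨hsucc, hP⟩
  · intro E' _ _ hE' hcard hprof
    obtain ⟨z', hz'⟩ := Cfsg.Agent.Lib.Helper20.ES.exists_esData hE'
    have hna' := Cfsg.Agent.Lib.Helper20.ES.exists_comm_ne_one hE'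
    have hn' : Nat.card E' = 2 ^ (2 * n + 1) := hcard.trans hn
    have h1 := Cfsg.Agent.Lib.Helper20.ES.plus_iff_not_prankLE hE n hn
    have h2 := Cfsg.Agent.Lib.Helper20.ES.plus_iff_not_prankLE hE' n hn'
    obtain ⟨m, -, hcm, hN⟩ := Cfsg.Agent.Lib.Helper20.ES.card_and_count (Nat.card E) z hz hna rfl
    obtain ⟨m', -, hcm', hN'⟩ :=
      Cfsg.Agent.Lib.Helper20.ES.card_and_count (Nat.card E') z' hz' hna' rfl
    have hmn : m = n := Cfsg.Agent.Lib.Helper20.ES.pow_two_injective' (hcm.symm.trans hn)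
    have hmn' : m' = n := Cfsg.Agent.Lib.Helper20.ES.pow_two_injective' (hcm'.symm.trans hn')
    subst hmn
    subst hmn'
    have hNeq : Nat.card {e : E // e ^ 2 = 1} = Nat.card {e : E' // e ^ 2 = 1} := by
      by_cases hP : Cfsg.PRankLE 2 m' E
      · have hP' : Cfsg.PRankLE 2 m' E' := (hprof m').mp hP
        have a1 : Nat.card {e : E // e ^ 2 = 1} = 2 ^ (2 * m') - 2 ^ m' := by
          rcases hN with h | h
          · exact absurd hP (h1.mp h)
          · exact h
        have a2 : Nat.card {e : E' // e ^ 2 = 1} = 2 ^ (2 * m') - 2 ^ m' := by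
          rcases hN' with h | h
          · exact absurd hP' (h2.mp h)
          · exact h
        rw [a1, a2]
      · have hP' : ¬ Cfsg.PRankLE 2 m' E' := fun hh => hP ((hprof m').mpr hh)
        rw [h1.mpr hP, h2.mpr hP']
    obtain ⟨φ, -⟩ := Cfsg.Agent.Lib.Helper20.ES.equiv_of_count (Nat.card E) z z' hz hz' hna hna'
      rfl hcard hNeq
    exact ⟨φ⟩

end Cfsg.Agent.S3763
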