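import Cfsg.Statements.S3764
import Cfsg.Agent.Lib.Helper17.ESMod9
import Cfsg.Agent.Lib.Helper17.ESMod10

set_option autoImplicit false
open Cfsg

namespace Cfsg.Agent.S3764

open scoped commutatorElement

/-- Let p, q, r be distinct primes and let X, Q, V be subgroups of a finite group with X of order r, Q an extraspecial q-group normalized by X with C_Q(X) = Z(Q), and V an elementary abelian p-group normalized by X and Q on which XQ acts faithfully ((X ⊔ Q) ∩ C(V) = 1). If C_V(X) = 1, then q = 2, r = 2^n + 1 for some n, and Q has order 2^(2n+1). -/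
theorem result {G : Type*} [Group G] [Finite G] {p q r : ℕ} (hp : p.Prime) (hq : q.Prime) (hr : r.Prime) (hpq : p ≠ q) (hpr : p ≠ r) (hqr : q ≠ r) (X Q V : Subgroup G) (hX : Nat.card X = r) (hQ : Cfsg.IsExtraspecial q ↥Q) (hXQ : X ≤ Subgroup.normalizer (Q : Set G)) (hCQ : Q ⊓ Subgroup.centralizer (X : Set G) = (Subgroup.center ↥Q).map Q.subtype) (hV : Cfsg.IsElementaryAbelian p V) (hXV : X ≤ Subgroup.normalizer (V : Set G)) (hQV : Q ≤ Subgroup.normalizer (V : Set G)) (hfaith : (X ⊔ Q) ⊓ Subgroup.centralizer (V : Set G) = ⊥) (hCV : V ⊓ Subgroup.centralizer (X : Set G) = ⊥) : q = 2 ∧ ∃ n : ℕ, r = 2 ^ n + 1 ∧ Nat.card Q = 2 ^ (2 * n + 1) := by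
  classical
  have hpF : Fact p.Prime := ⟨hp⟩
  have hrF : Fact r.Prime := ⟨hr⟩
  have hqF : Fact q.Prime := ⟨hq⟩
  obtain ⟨⟨hQp, hfrat, hcomm⟩, hcen⟩ := hQ
  -- a generator of X
  have hX1 : 1 < Nat.card ↥X := by rw [hX]; exact hr.one_lt
  have hXnt : Nontrivial ↥X := Finite.one_lt_card_iff_nontrivial.mp hX1
  obtain ⟨x₀, hx₀⟩ := exists_ne (1 : ↥X)
  obtain ⟨x, hxdef⟩ : ∃ x : G, x = (x₀ : G) := ⟨_, rfl⟩
  have hxX : x ∈ X := by rw [hxdef]; exact x₀.2
  have hx1 : x ≠ 1 := by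
    rw [hxdef]
    exact fun h => hx₀ (Subtype.ext h)
  have hxr : x ^ r = 1 := by
    have h1 : x₀ ^ Nat.card ↥X = 1 := pow_card_eq_one'
    rw [hX] at h1
    have h2 := congrArg Subtype.val h1
    rw [Subgroup.coe_pow, Subgroup.coe_one] at h2
    rw [hxdef]
    exact h2
  have hXz : Subgroup.zpowers x = X := by
    apply Subgroup.eq_of_le_of_card_ge ((Subgroup.zpowers_le).mpr hxX)
    rw [Nat.card_zpowers, hX, orderOf_eq_prime hxr hx1]
  have hxnQ : ∀ s ∈ Q, x * s * x⁻¹ ∈ Q := by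
    intro s hs
    exact (Subgroup.mem_normalizer_iff.mp (hXQ hxX) s).mp hs
  -- facts on Q
  let ZQ : Subgroup G := (Subgroup.center ↥Q).map Q.subtype
  have hZQcard : Nat.card ↥ZQ = q := by
    rw [Subgroup.card_map_of_injective Q.subtype_injective]
    exact hcen
  have hZQmem : ∀ z, z ∈ ZQ ↔ z ∈ Q ∧ ∀ u ∈ Q, u * z = z * u := by
    intro z
    constructor
    · rintro ⟨z', hz', rfl⟩
      refine ⟨z'.2, fun u hu => ?_⟩
      have := Subgroup.mem_center_iff.mp hz' ⟨u, hu⟩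
      exact congrArg Subtype.val this
    · rintro ⟨hz, hz'⟩
      refine ⟨⟨z, hz⟩, ?_, rfl⟩
      rw [SetLike.mem_coe, Subgroup.mem_center_iff]
      intro g
      exact Subtype.ext (hz' g g.2)
  have hZQQ : ZQ ≤ Q := fun z hz => ((hZQmem z).mp hz).1
  have hcommZ : ∀ s ∈ Q, ∀ t ∈ Q, ⁅s, t⁆ ∈ ZQ := by
    intro s hs t ht
    have h1 : ⁅(⟨s, hs⟩ : ↥Q), (⟨t, ht⟩ : ↥Q)⁆ ∈ commutator ↥Q :=
      Subgroup.commutator_mem_commutator (Subgroup.mem_top _) (Subgroup.mem_top _)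
    rw [hcomm] at h1
    exact ⟨_, h1, rfl⟩
  have hcl : ∀ s ∈ Q, ∀ t ∈ Q, ∀ u ∈ Q, ⁅s, t⁆ * u = u * ⁅s, t⁆ := by
    intro s hs t ht u hu
    exact (((hZQmem _).mp (hcommZ s hs t ht)).2 u hu).symm
  have hnonab : ∃ s ∈ Q, ∃ t ∈ Q, ⁅s, t⁆ ≠ 1 := by
    by_contra hcon
    push Not at hcon
    have h1 : commutator ↥Q = ⊥ := by
      rw [commutator_def, Subgroup.commutator_eq_bot_iff_le_centralizer]
      intro s _
      rw [Subgroup.mem_centralizer_iff]
      intro t _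
      have h2 := hcon t t.2 s s.2
      rw [commutatorElement_eq_one_iff_mul_comm] at h2
      exact Subtype.ext h2
    rw [hcomm] at h1
    rw [h1, Subgroup.card_bot] at hcen
    exact hq.one_lt.ne hcen
  -- elements of ZQ generate it
  have hZQgen : ∀ z ∈ ZQ, z ≠ 1 → ∀ w ∈ ZQ, w ∈ Subgroup.zpowers z := by
    intro z hz hz1 w hw
    have hle : Subgroup.zpowers z ≤ ZQ := (Subgroup.zpowers_le).mpr hz
    have hzq : z ^ q = 1 := by
      have h1 : (⟨z, hz⟩ : ↥ZQ) ^ Nat.card ↥ZQ = 1 := pow_card_eq_one'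
      rw [hZQcard] at h1
      have h2 := congrArg Subtype.val h1
      rw [Subgroup.coe_pow, Subgroup.coe_one] at h2
      exact h2
    have heq : Subgroup.zpowers z = ZQ := by
      apply Subgroup.eq_of_le_of_card_ge hle
      rw [Nat.card_zpowers, hZQcard, orderOf_eq_prime hzq hz1]
    rw [heq]
    exact hw
  -- C_Q(x) = ZQ
  have hCx : ∀ f ∈ Q, x * f = f * x → f ∈ ZQ := by
    intro f hf hxf
    have : f ∈ Q ⊓ Subgroup.centralizer (X : Set G) := by
      refine Subgroup.mem_inf.mpr ⟨hf, ?_⟩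
      rw [Subgroup.mem_centralizer_iff]
      intro h hh
      rw [SetLike.mem_coe, ← hXz] at hh
      obtain ⟨j, rfl⟩ := Subgroup.mem_zpowers_iff.mp hh
      have : Commute x f := hxf
      exact (this.zpow_left j).eq
    rw [hCQ] at this
    exact this
  have hZQx : ∀ z ∈ ZQ, x * z = z * x := by
    intro z hz
    have : z ∈ Q ⊓ Subgroup.centralizer (X : Set G) := by rw [hCQ]; exact hz
    have h2 := (Subgroup.mem_inf.mp this).2
    rw [Subgroup.mem_centralizer_iff] at h2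
    exact h2 x hxX
  have hxQ : x ∉ Q := by
    intro hxQ'
    obtain ⟨a, ha⟩ := hQp ⟨x, hxQ'⟩
    have hxa : x ^ (q ^ a) = 1 := by
      have h2 := congrArg Subtype.val ha
      rw [Subgroup.coe_pow, Subgroup.coe_one] at h2
      exact h2
    have hcop : Nat.Coprime (q ^ a) r :=
      Nat.Coprime.pow_left a ((Nat.coprime_primes hq hr).mpr hqr)
    have h2 : orderOf x ∣ Nat.gcd (q ^ a) r :=
      Nat.dvd_gcd (orderOf_dvd_of_pow_eq_one hxa) (orderOf_dvd_of_pow_eq_one hxr)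
    rw [hcop.gcd_eq_one, Nat.dvd_one, orderOf_eq_one_iff] at h2
    exact hx1 h2
  -- the representation
  have hc : ∀ a ∈ V, ∀ b ∈ V, a * b = b * a := by
    intro a ha b hb
    exact congrArg Subtype.val (hV.1.is_comm.comm (⟨a, ha⟩ : ↥V) ⟨b, hb⟩)
  obtain ⟨W, iA, iM, iF, ρ, hker, hfixρ⟩ :=
    Cfsg.Agent.Lib.Helper17.ESMod.exists_conj_rep (p := p) V hc hV.2
  have hfd : FiniteDimensional (ZMod p) W := Module.Finite.of_finite
  have hqk : (q : ZMod p) ≠ 0 := by
    intro h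
    rw [ZMod.natCast_eq_zero_iff] at h
    exact hpq ((Nat.prime_dvd_prime_iff_eq hp hq).mp h)
  have hrk : (r : ZMod p) ≠ 0 := by
    intro h
    rw [ZMod.natCast_eq_zero_iff] at h
    exact hpr ((Nat.prime_dvd_prime_iff_eq hp hr).mp h)
  obtain ⟨a, ha⟩ := IsPGroup.iff_card.mp hQp
  -- the group P = Q⟨x⟩
  have hPNV : Q ⊔ Subgroup.zpowers x ≤ Subgroup.normalizer (V : Set G) := by
    rw [hXz]
    exact sup_le hQV hXV
  have hPXQ : Q ⊔ Subgroup.zpowers x = X ⊔ Q := by rw [hXz, sup_comm]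
  have hQP : Q ≤ Q ⊔ Subgroup.zpowers x := le_sup_left
  have hxP : x ∈ Q ⊔ Subgroup.zpowers x :=
    (le_sup_right : Subgroup.zpowers x ≤ _) (Subgroup.mem_zpowers x)
  have hn2 := Cfsg.Agent.Lib.Helper17.ESMod.normal_subgroupOf_sup Q x hr.pos hxr hxnQ
  let ρP : Representation (ZMod p) ↥(Q ⊔ Subgroup.zpowers x) W :=
    ρ.comp (Subgroup.inclusion hPNV)
  have hρP1 : ∀ g : ↥(Q ⊔ Subgroup.zpowers x), ρP g = 1 → g = 1 := by
    intro g hg
    have h1 := hker (Subgroup.inclusion hPNV g) hg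
    have h2 : (g : G) ∈ (X ⊔ Q) ⊓ Subgroup.centralizer (V : Set G) := by
      refine Subgroup.mem_inf.mpr ⟨?_, h1⟩
      rw [← hPXQ]
      exact g.2
    rw [hfaith, Subgroup.mem_bot] at h2
    exact Subtype.ext h2
  have hcardQ' : Nat.card ↥(Q.subgroupOf (Q ⊔ Subgroup.zpowers x)) = Nat.card ↥Q :=
    Nat.card_congr (Subgroup.subgroupOfEquivOfLe hQP).toEquiv
  have hQk : (Nat.card ↥(Q.subgroupOf (Q ⊔ Subgroup.zpowers x)) : ZMod p) ≠ 0 := by
    rw [hcardQ', ha, Nat.cast_pow]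
    exact pow_ne_zero _ hqk
  have hcoe : ∀ s t : ↥(Q ⊔ Subgroup.zpowers x), ((⁅s, t⁆ : ↥(Q ⊔ Subgroup.zpowers x)) : G)
      = ⁅(s : G), (t : G)⁆ := fun s t => rfl
  have hres := Cfsg.Agent.Lib.Helper17.ESMod.core_gen' ρP (Q.subgroupOf (Q ⊔ Subgroup.zpowers x))
    ⟨x, hxP⟩ hr
    (by
      apply Subtype.ext
      rw [Subgroup.coe_pow, Subgroup.coe_one]
      exact hxr)
    (by
      intro h
      exact hxQ (Subgroup.mem_subgroupOf.mp h))
    hrk hQk
    (by
      intro g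
      obtain ⟨s, hs, j, hg⟩ :=
        Cfsg.Agent.Lib.Helper17.ESMod.sup_zpowers_gen Q x hr.pos hxr hxnQ g.1 g.2
      refine ⟨⟨s, hQP hs⟩, Subgroup.mem_subgroupOf.mpr hs, j, ?_⟩
      apply Subtype.ext
      rw [Subgroup.coe_mul, Subgroup.coe_pow]
      exact hg)
    (by
      apply hfixρ (Subgroup.inclusion hPNV ⟨x, hxP⟩)
      intro v hv hvx
      have hvx' : x * v = v * x := hvx
      have hmem : v ∈ V ⊓ Subgroup.centralizer (X : Set G) := by
        refine Subgroup.mem_inf.mpr ⟨hv, ?_⟩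
        rw [Subgroup.mem_centralizer_iff]
        intro h hh
        rw [SetLike.mem_coe, ← hXz] at hh
        obtain ⟨j, rfl⟩ := Subgroup.mem_zpowers_iff.mp hh
        have : Commute x v := hvx'
        exact (this.zpow_left j).eq
      rw [hCV, Subgroup.mem_bot] at hmem
      exact hmem)
    (by
      intro s hs t ht u hu
      rw [Subgroup.mem_subgroupOf] at hs ht hu
      apply Subtype.ext
      rw [Subgroup.coe_mul, Subgroup.coe_mul, hcoe]
      exact hcl _ hs _ ht _ hu)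
    (by
      obtain ⟨s, hs, t, ht, hst⟩ := hnonab
      refine ⟨⟨s, hQP hs⟩, Subgroup.mem_subgroupOf.mpr hs, ⟨t, hQP ht⟩,
        Subgroup.mem_subgroupOf.mpr ht, fun h => hst ?_⟩
      have := hρP1 _ h
      have h2 := congrArg Subtype.val this
      rw [hcoe] at h2
      exact h2)
    (by
      intro N hNn hNQ hNex f hf hxf
      obtain ⟨s₁, hs₁, t₁, ht₁, hst₁⟩ := hNex
      rw [Subgroup.mem_subgroupOf] at hs₁ ht₁ hf
      -- nontrivial elements of ZQ are not in N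
      have hK1 : ∀ z : ↥(Q ⊔ Subgroup.zpowers x), (z : G) ∈ ZQ → z ∈ N → z = 1 := by
        intro z hz hzN
        by_contra hz1
        have hz1' : (z : G) ≠ 1 := fun h => hz1 (Subtype.ext h)
        have hw := hZQgen z hz hz1' _ (hcommZ _ hs₁ _ ht₁)
        obtain ⟨j, hj⟩ := Subgroup.mem_zpowers_iff.mp hw
        apply hst₁
        have : ⁅s₁, t₁⁆ = z ^ j := by
          apply Subtype.ext
          rw [hcoe, Subgroup.coe_zpow]
          exact hj.symm
        rw [this]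
        exact N.zpow_mem hzN j
      have hcQ : ⁅x, (f : G)⁆ ∈ Q := by
        rw [commutatorElement_def]
        exact Q.mul_mem (hxnQ _ hf) (Q.inv_mem hf)
      have hcZ : ⁅x, (f : G)⁆ ∈ ZQ := by
        rw [hZQmem]
        refine ⟨hcQ, fun u hu => ?_⟩
        have h1 := hxf ⟨u, hQP hu⟩ (Subgroup.mem_subgroupOf.mpr hu)
        have h2 := hK1 _ (by rw [hcoe]; exact hcommZ _ (by rw [hcoe]; exact hcQ) _ hu) h1
        have h3 := congrArg Subtype.val h2
        rw [hcoe, hcoe, Subgroup.coe_one, commutatorElement_eq_one_iff_mul_comm] at h3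
        exact h3.symm
      have hc1 : ⁅x, (f : G)⁆ = 1 :=
        Cfsg.Agent.Lib.Helper17.ESMod.comm_eq_one_of_comm hq hr hqr Q hQp x hxr f hcQ
          (hZQx _ hcZ)
      rw [commutatorElement_eq_one_iff_mul_comm] at hc1
      have hfZ := hCx f hf hc1
      intro t ht
      rw [Subgroup.mem_subgroupOf] at ht
      have h1 : ⁅f, t⁆ = 1 := by
        apply Subtype.ext
        rw [hcoe, Subgroup.coe_one, commutatorElement_eq_one_iff_mul_comm]
        exact (((hZQmem _).mp hfZ).2 t ht).symm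
      rw [h1]
      exact N.one_mem)
  obtain ⟨N, hNn, hNQ, ⟨s₁, hs₁, t₁, ht₁, hst₁⟩, Z, hZ, hcardZ⟩ := hres
  rw [Subgroup.mem_subgroupOf] at hs₁ ht₁
  -- Z corresponds to ZQ
  have hK1 : ∀ z : ↥(Q ⊔ Subgroup.zpowers x), (z : G) ∈ ZQ → z ∈ N → z = 1 := by
    intro z hz hzN
    by_contra hz1
    have hz1' : (z : G) ≠ 1 := fun h => hz1 (Subtype.ext h)
    have hw := hZQgen z hz hz1' _ (hcommZ _ hs₁ _ ht₁)
    obtain ⟨j, hj⟩ := Subgroup.mem_zpowers_iff.mp hw
    apply hst₁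
    have : ⁅s₁, t₁⁆ = z ^ j := by
      apply Subtype.ext
      rw [hcoe, Subgroup.coe_zpow]
      exact hj.symm
    rw [this]
    exact N.zpow_mem hzN j
  have hZmap : Z.map (Subgroup.subtype _) = ZQ := by
    ext g
    constructor
    · rintro ⟨z, hz, rfl⟩
      obtain ⟨hzQ, hz'⟩ := (hZ z).mp hz
      rw [Subgroup.mem_subgroupOf] at hzQ
      rw [hZQmem]
      refine ⟨hzQ, fun u hu => ?_⟩
      have h1 := hz' ⟨u, hQP hu⟩ (Subgroup.mem_subgroupOf.mpr hu)
      have h2 := hK1 _ (by rw [hcoe]; exact hcommZ _ hzQ _ hu) h1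
      have h3 := congrArg Subtype.val h2
      rw [hcoe, Subgroup.coe_one, commutatorElement_eq_one_iff_mul_comm] at h3
      exact h3.symm
    · intro hg
      obtain ⟨hgQ, hg'⟩ := (hZQmem g).mp hg
      refine ⟨⟨g, hQP hgQ⟩, ?_, rfl⟩
      rw [SetLike.mem_coe, hZ]
      refine ⟨Subgroup.mem_subgroupOf.mpr hgQ, fun t ht => ?_⟩
      rw [Subgroup.mem_subgroupOf] at ht
      have h1 : ⁅(⟨g, hQP hgQ⟩ : ↥(Q ⊔ Subgroup.zpowers x)), t⁆ = 1 := by
        apply Subtype.ext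
        rw [hcoe, Subgroup.coe_one, commutatorElement_eq_one_iff_mul_comm]
        exact (hg' t ht).symm
      rw [h1]
      exact N.one_mem
  have hZcard : Nat.card ↥Z = q := by
    rw [← hZQcard, ← hZmap, Subgroup.card_map_of_injective (Subgroup.subtype_injective _)]
  rw [hcardQ', hZcard, ha] at hcardZ
  -- arithmetic
  have hdvd : (r - 1) ∣ q ^ a := by
    rw [hcardZ]
    exact Dvd.dvd.mul_right (dvd_pow_self _ two_ne_zero) _
  obtain ⟨m, hma, hm⟩ := (Nat.dvd_prime_pow hq).mp hdvd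
  have hQcard : Nat.card ↥Q = q ^ (2 * m + 1) := by
    rw [ha, hcardZ, hm]
    ring
  have hm0 : m ≠ 0 := by
    rintro rfl
    rw [Nat.mul_zero, Nat.zero_add, pow_one] at hQcard
    have hZeq : ZQ = Q := Subgroup.eq_of_le_of_card_ge hZQQ (by rw [hQcard, hZQcard])
    obtain ⟨s, hs, t, ht, hst⟩ := hnonab
    apply hst
    rw [commutatorElement_eq_one_iff_mul_comm]
    have : s ∈ ZQ := by rw [hZeq]; exact hs
    exact (((hZQmem s).mp this).2 t ht).symm
  have hq2 : q = 2 := by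
    by_contra hq2
    have hodd : Odd q := hq.odd_of_ne_two hq2
    have hodd2 : Odd (r - 1) := by rw [hm]; exact hodd.pow
    have hr2 : r = 2 := by
      rcases hr.eq_two_or_odd' with h | h
      · exact h
      · exfalso
        have := hr.two_le
        obtain ⟨c, hc⟩ := h
        obtain ⟨d, hd⟩ := hodd2
        omega
    rw [hr2] at hm
    have h1 : q ^ m = 1 := by omega
    have hq1 : 1 < q := hq.one_lt
    have h2 : 1 < q ^ m := Nat.one_lt_pow hm0 hq1
    omega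
  refine ⟨hq2, m, ?_, ?_⟩
  · have := hr.two_le
    rw [hq2] at hm
    omega
  · rw [hQcard, hq2]

end Cfsg.Agent.S3764
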