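import Cfsg.Statements.S3765
import Cfsg.Agent.Lib.Helper17.ESMod9
import Cfsg.Agent.Lib.Helper17.ESMod10

set_option autoImplicit false
open Cfsg

namespace Cfsg.Agent.S3765

/-- Let p, q, r be distinct primes and let X, Q, V be subgroups of a finite group with X of order r normalizing the q-group Q and acting faithfully on it (X ∩ C(Q) = 1), and V a nontrivial elementary abelian p-group normalized by X and Q on which XQ acts faithfully. If q = 2 and r has the form 2^n + 1, assume in addition that Q is abelian. Then C_V(X) ≠ 1. -/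
theorem result {G : Type*} [Group G] [Finite G] {p q r : ℕ} (hp : p.Prime) (hq : q.Prime) (hr : r.Prime) (hpq : p ≠ q) (hpr : p ≠ r) (hqr : q ≠ r) (X Q V : Subgroup G) (hX : Nat.card X = r) (hQ : IsPGroup q Q) (hXQ : X ≤ Subgroup.normalizer (Q : Set G)) (hXfaith : X ⊓ Subgroup.centralizer (Q : Set G) = ⊥) (hV : Cfsg.IsElementaryAbelian p V) (hV1 : V ≠ ⊥) (hXV : X ≤ Subgroup.normalizer (V : Set G)) (hQV : Q ≤ Subgroup.normalizer (V : Set G)) (hfaith : (X ⊔ Q) ⊓ Subgroup.centralizer (V : Set G) = ⊥) (hexc : q = 2 → (∃ n : ℕ, r = 2 ^ n + 1) → IsMulCommutative Q) : V ⊓ Subgroup.centralizer (X : Set G) ≠ ⊥ := by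
  classical
  intro hCV
  have hpF : Fact p.Prime := ⟨hp⟩
  have hrF : Fact r.Prime := ⟨hr⟩
  -- a generator of X
  have hX1 : 1 < Nat.card ↥X := by rw [hX]; exact hr.one_lt
  have hXnt : Nontrivial ↥X := Finite.one_lt_card_iff_nontrivial.mp hX1
  obtain ⟨x₀, hx₀⟩ := exists_ne (1 : ↥X)
  have hxX : (x₀ : G) ∈ X := x₀.2
  have hx1 : (x₀ : G) ≠ 1 := fun h => hx₀ (Subtype.ext h)
  have hxr : (x₀ : G) ^ r = 1 := by
    have h1 : x₀ ^ Nat.card ↥X = 1 := pow_card_eq_one'
    rw [hX] at h1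
    have := congrArg Subtype.val h1
    simpa using this
  have hXz : Subgroup.zpowers (x₀ : G) = X := by
    apply Subgroup.eq_of_le_of_card_ge ((Subgroup.zpowers_le).mpr hxX)
    rw [Nat.card_zpowers, hX, orderOf_eq_prime hxr hx1]
  -- the conjugation representation
  have hc : ∀ a ∈ V, ∀ b ∈ V, a * b = b * a := by
    intro a ha b hb
    exact congrArg Subtype.val (hV.1.is_comm.comm (⟨a, ha⟩ : ↥V) ⟨b, hb⟩)
  obtain ⟨W, iA, iM, iF, ρ, hker, hfixρ⟩ :=
    Cfsg.Agent.Lib.Helper17.ESMod.exists_conj_rep (p := p) V hc hV.2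
  have hfd : FiniteDimensional (ZMod p) W := Module.Finite.of_finite
  have hqk : (q : ZMod p) ≠ 0 := by
    intro h
    rw [ZMod.natCast_eq_zero_iff] at h
    exact hpq ((Nat.prime_dvd_prime_iff_eq hp hq).mp h)
  have hrk : (r : ZMod p) ≠ 0 := by
    intro h
    rw [ZMod.natCast_eq_zero_iff] at h
    exact hpr ((Nat.prime_dvd_prime_iff_eq hp hr).mp h)
  let x' : ↥(Subgroup.normalizer (V : Set G)) := ⟨x₀, hXV hxX⟩
  have hQ' : IsPGroup q ↥(Q.subgroupOf (Subgroup.normalizer (V : Set G))) :=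
    hQ.of_equiv (Subgroup.subgroupOfEquivOfLe hQV).symm
  have hx' : x' ^ r = 1 := by
    apply Subtype.ext
    simpa using hxr
  have hxnQ : ∀ s ∈ Q, (x₀ : G) * s * (x₀ : G)⁻¹ ∈ Q := by
    intro s hs
    exact (Subgroup.mem_normalizer_iff.mp (hXQ hxX) s).mp hs
  have hcomm := Cfsg.Agent.Lib.Helper17.ESMod.comm_of_fixed_zero (k := ZMod p) hq hr hqr hqk hrk ρ
    (Q.subgroupOf (Subgroup.normalizer (V : Set G))) x' hQ' hx'
    (by
      intro s hs
      rw [Subgroup.mem_subgroupOf] at hs ⊢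
      exact hxnQ _ hs)
    (by
      intro h2 hm s hs t ht
      have hcQ := hexc h2 hm
      rw [Subgroup.mem_subgroupOf] at hs ht
      have h1 : (s : G) * t = t * s :=
        congrArg Subtype.val (hcQ.is_comm.comm (⟨s, hs⟩ : ↥Q) ⟨t, ht⟩)
      have h3 : s * t = t * s := Subtype.ext h1
      rw [h3])
    (by
      apply hfixρ x'
      intro v hv hvx
      have hmem : v ∈ V ⊓ Subgroup.centralizer (X : Set G) := by
        refine Subgroup.mem_inf.mpr ⟨hv, ?_⟩
        rw [Subgroup.mem_centralizer_iff]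
        intro h hh
        rw [SetLike.mem_coe, ← hXz] at hh
        obtain ⟨j, rfl⟩ := Subgroup.mem_zpowers_iff.mp hh
        have : Commute (x₀ : G) v := hvx
        exact (this.zpow_left j).eq
      rw [hCV, Subgroup.mem_bot] at hmem
      exact hmem)
  -- x centralizes Q
  have hxQ : ∀ f ∈ Q, (x₀ : G) * f = f * x₀ := by
    intro f hf
    let f' : ↥(Subgroup.normalizer (V : Set G)) := ⟨f, hQV hf⟩
    have hf' : f' ∈ Q.subgroupOf (Subgroup.normalizer (V : Set G)) :=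
      Subgroup.mem_subgroupOf.mpr hf
    have h1 := hcomm f' hf'
    have h2 : ρ ((x' * f') * (f' * x')⁻¹) = 1 := by
      rw [map_mul, h1, ← map_mul, mul_inv_cancel, map_one]
    have h3 := hker _ h2
    have h4 : (((x' * f') * (f' * x')⁻¹ : ↥(Subgroup.normalizer (V : Set G))) : G)
        ∈ X ⊔ Q := by
      have hx'' : (x₀ : G) ∈ X ⊔ Q := (le_sup_left : X ≤ X ⊔ Q) hxX
      have hf'' : f ∈ X ⊔ Q := (le_sup_right : Q ≤ X ⊔ Q) hf
      show ((x₀ : G) * f) * (f * (x₀ : G))⁻¹ ∈ X ⊔ Q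
      exact (X ⊔ Q).mul_mem ((X ⊔ Q).mul_mem hx'' hf'')
        ((X ⊔ Q).inv_mem ((X ⊔ Q).mul_mem hf'' hx''))
    have h5 : (((x' * f') * (f' * x')⁻¹ : ↥(Subgroup.normalizer (V : Set G))) : G)
        ∈ (X ⊔ Q) ⊓ Subgroup.centralizer (V : Set G) := Subgroup.mem_inf.mpr ⟨h4, h3⟩
    rw [hfaith, Subgroup.mem_bot] at h5
    have h6 : ((x₀ : G) * f) * (f * (x₀ : G))⁻¹ = 1 := h5
    exact mul_inv_eq_one.mp h6
  have hxC : (x₀ : G) ∈ X ⊓ Subgroup.centralizer (Q : Set G) := by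
    refine Subgroup.mem_inf.mpr ⟨hxX, ?_⟩
    rw [Subgroup.mem_centralizer_iff]
    intro f hf
    exact (hxQ f hf).symm
  rw [hXfaith, Subgroup.mem_bot] at hxC
  exact hx1 hxC

end Cfsg.Agent.S3765
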