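import Cfsg.Statements.S3766
import Mathlib
import Cfsg.Agent.S1326
import Cfsg.Agent.Lib.Helper1.Fitting
import Cfsg.Agent.Lib.Helper9.FStar2
import Cfsg.Agent.Lib.Helper9.FStar4
import Cfsg.Agent.Lib.Helper16.PCore

set_option autoImplicit false
open Cfsg

namespace Cfsg.Agent.S3766


/-- If `M ≤ [M, K]` with `K` a nilpotent normal subgroup, then `M = 1`. -/
theorem eq_bot_of_le_commutator {X : Type*} [Group X] (K M : Subgroup X) [K.Normal]
    (hK : Group.IsNilpotent ↥K) (hM : M ≤ ⁅M, K⁆) : M = ⊥ := by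
  obtain ⟨n, hn⟩ := (Subgroup.isNilpotent_iff_lowerCentralSeries K).mp hK
  have key : ∀ n, M ≤ K.lowerCentralSeries n := by
    intro n
    induction n with
    | zero => exact hM.trans (Subgroup.commutator_le_right M K)
    | succ n ih =>
      rw [Subgroup.lowerCentralSeries_succ]
      exact hM.trans (Subgroup.commutator_mono ih le_rfl)
  exact le_bot_iff.mp (hn ▸ key n)

/-- If `U ≤ V [U, F]` with `F` a nilpotent normal subgroup and `V` normal, then `U ≤ V`. -/
theorem le_of_le_sup_commutator {G : Type*} [Group G] (F U V : Subgroup G) [F.Normal] [V.Normal]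
    (hF : Group.IsNilpotent ↥F) (h : U ≤ V ⊔ ⁅U, F⁆) : U ≤ V := by
  haveI hKn : (F.map (QuotientGroup.mk' V)).Normal :=
    Subgroup.Normal.map inferInstance _ (QuotientGroup.mk'_surjective V)
  have hKnil : Group.IsNilpotent ↥(F.map (QuotientGroup.mk' V)) := by
    obtain ⟨n, hn⟩ := (Subgroup.isNilpotent_iff_lowerCentralSeries F).mp hF
    rw [Subgroup.isNilpotent_iff_lowerCentralSeries]
    exact ⟨n, by rw [← Subgroup.map_lowerCentralSeries, hn, Subgroup.map_bot]⟩
  have hV : V.map (QuotientGroup.mk' V) = ⊥ := by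
    rw [Subgroup.map_eq_bot_iff, QuotientGroup.ker_mk']
  have h1 : U.map (QuotientGroup.mk' V) ≤
      ⁅U.map (QuotientGroup.mk' V), F.map (QuotientGroup.mk' V)⁆ := by
    rw [← Subgroup.map_commutator]
    have := Subgroup.map_mono (f := QuotientGroup.mk' V) h
    rwa [Subgroup.map_sup, hV, bot_sup_eq] at this
  have h2 := eq_bot_of_le_commutator _ _ hKnil h1
  rw [Subgroup.map_eq_bot_iff, QuotientGroup.ker_mk'] at h2
  exact h2

/-- The elements of `N` centralizing all chief factors below `F`. -/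
def chiefCentralizer {G : Type*} [Group G] (N F : Subgroup G) [N.Normal] : Subgroup G where
  carrier := {x | x ∈ N ∧ ∀ U V : Subgroup G, (U.Normal ∧ V.Normal ∧ V < U ∧
    ∀ W : Subgroup G, W.Normal → V ≤ W → W ≤ U → W = V ∨ W = U) → U ≤ F →
    ∀ u ∈ U, u * x * u⁻¹ * x⁻¹ ∈ V}
  one_mem' := by
    refine ⟨N.one_mem, fun U V _ _ u _ => ?_⟩
    have : u * 1 * u⁻¹ * 1⁻¹ = 1 := by group
    rw [this]; exact V.one_mem
  mul_mem' := by
    rintro x y ⟨hxN, hx⟩ ⟨hyN, hy⟩
    refine ⟨N.mul_mem hxN hyN, fun U V hUV hUF u hu => ?_⟩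
    have h1 := hx U V hUV hUF u hu
    have h2 := hy U V hUV hUF u hu
    have h3 : x * (u * y * u⁻¹ * y⁻¹) * x⁻¹ ∈ V := hUV.2.1.conj_mem _ h2 x
    have : u * (x * y) * u⁻¹ * (x * y)⁻¹ = (u * x * u⁻¹ * x⁻¹) * (x * (u * y * u⁻¹ * y⁻¹) * x⁻¹) := by
      group
    rw [this]; exact V.mul_mem h1 h3
  inv_mem' := by
    rintro x ⟨hxN, hx⟩
    refine ⟨N.inv_mem hxN, fun U V hUV hUF u hu => ?_⟩
    have h1 := hx U V hUV hUF u hu
    have h3 : x⁻¹ * (u * x * u⁻¹ * x⁻¹)⁻¹ * x⁻¹⁻¹ ∈ V := hUV.2.1.conj_mem _ (V.inv_mem h1) x⁻¹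
    have : u * x⁻¹ * u⁻¹ * x⁻¹⁻¹ = x⁻¹ * (u * x * u⁻¹ * x⁻¹)⁻¹ * x⁻¹⁻¹ := by group
    rw [this]; exact h3

theorem chiefCentralizer_normal {G : Type*} [Group G] (N F : Subgroup G) [hN : N.Normal] :
    (chiefCentralizer N F).Normal := by
  refine ⟨fun x hx h => ?_⟩
  obtain ⟨hxN, hx⟩ := hx
  refine ⟨hN.conj_mem x hxN h, fun U V hUV hUF u hu => ?_⟩
  have hu' : h⁻¹ * u * h⁻¹⁻¹ ∈ U := hUV.1.conj_mem u hu h⁻¹
  have h1 := hx U V hUV hUF _ hu'
  have h2 := hUV.2.1.conj_mem _ h1 h
  have : u * (h * x * h⁻¹) * u⁻¹ * (h * x * h⁻¹)⁻¹ =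
      h * ((h⁻¹ * u * h⁻¹⁻¹) * x * (h⁻¹ * u * h⁻¹⁻¹)⁻¹ * x⁻¹) * h⁻¹ := by group
  rw [this]; exact h2

/-- Among normal subgroups properly contained in `U ≠ ⊥` there is a maximal one. -/
theorem exists_max_normal_lt {G : Type*} [Group G] [Finite G] (U : Subgroup G) (hU : U ≠ ⊥) :
    ∃ V : Subgroup G, V.Normal ∧ V < U ∧ ∀ W : Subgroup G, W.Normal → V ≤ W → W < U → W = V := by
  classical
  have hfin : Set.Finite {V : Subgroup G | V.Normal ∧ V < U} := Set.toFinite _
  have hne : {V : Subgroup G | V.Normal ∧ V < U}.Nonempty :=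
    ⟨⊥, inferInstance, bot_lt_iff_ne_bot.mpr hU⟩
  obtain ⟨V, hV, hmax⟩ := hfin.exists_maximal hne
  refine ⟨V, hV.1, hV.2, fun W hWn hVW hWU => ?_⟩
  exact le_antisymm (hmax ⟨hWn, hWU⟩ hVW) hVW

/-- Let G be a finite solvable group and N a normal subgroup of G. Call a pair V < U of normal subgroups of G a chief factor of G when no normal subgroup of G lies strictly between them; an element g centralizes the chief factor U/V when u g u⁻¹ g⁻¹ ∈ V for all u ∈ U. Then an element of G lies in the Fitting subgroup F(N) if and only if it lies in N and centralizes every chief factor of G; and also if and only if it lies in N and centralizes every chief factor U/V of G with U ≤ F(N). -/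
theorem result {G : Type*} [Group G] [Finite G] (hG : Group.IsSolvable G) (N : Subgroup G) [N.Normal] (g : G) : (g ∈ (Cfsg.fittingSubgroup ↥N).map N.subtype ↔ g ∈ N ∧ ∀ U V : Subgroup G, (U.Normal ∧ V.Normal ∧ V < U ∧ ∀ W : Subgroup G, W.Normal → V ≤ W → W ≤ U → W = V ∨ W = U) → ∀ u ∈ U, u * g * u⁻¹ * g⁻¹ ∈ V) ∧ (g ∈ (Cfsg.fittingSubgroup ↥N).map N.subtype ↔ g ∈ N ∧ ∀ U V : Subgroup G, (U.Normal ∧ V.Normal ∧ V < U ∧ ∀ W : Subgroup G, W.Normal → V ≤ W → W ≤ U → W = V ∨ W = U) → U ≤ (Cfsg.fittingSubgroup ↥N).map N.subtype → ∀ u ∈ U, u * g * u⁻¹ * g⁻¹ ∈ V) := by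
  classical
  haveI : Group.IsSolvable G := hG
  obtain ⟨FG, hFG⟩ : ∃ FG : Subgroup G, FG = Cfsg.fittingSubgroup G := ⟨_, rfl⟩
  have hNn : N.Normal := inferInstance
  have hFeq : (Cfsg.fittingSubgroup ↥N).map N.subtype = FG ⊓ N := by
    rw [hFG]
    exact Cfsg.Agent.Lib.Helper9.fittingSubgroup_map_subtype_eq_inf hNn.isSubnormal
  haveI hFGn : FG.Normal := by rw [hFG]; exact Cfsg.Agent.Lib.Helper1.fittingSubgroup_normal G
  have hFGnil : Group.IsNilpotent ↥FG := by
    rw [hFG]; exact Cfsg.Agent.Lib.Helper1.fittingSubgroup_isNilpotent G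
  rw [hFeq]
  -- Part (I)
  have partI : ∀ x ∈ FG, ∀ U V : Subgroup G, (U.Normal ∧ V.Normal ∧ V < U ∧
      ∀ W : Subgroup G, W.Normal → V ≤ W → W ≤ U → W = V ∨ W = U) →
      ∀ u ∈ U, u * x * u⁻¹ * x⁻¹ ∈ V := by
    intro x hx U V hUV u hu
    obtain ⟨hUn, hVn, hVU, hmin⟩ := hUV
    haveI := hUn
    haveI := hVn
    have hWn : (V ⊔ ⁅U, FG⁆).Normal := inferInstance
    have hWU : V ⊔ ⁅U, FG⁆ ≤ U := sup_le hVU.le (Subgroup.commutator_le_left U FG)
    have hcomm : ⁅U, FG⁆ ≤ V := by
      rcases hmin _ hWn le_sup_left hWU with h | h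
      · rw [← h]; exact le_sup_right
      · exfalso
        have : U ≤ V := le_of_le_sup_commutator FG U V hFGnil h.ge
        exact (lt_irrefl _ (lt_of_lt_of_le hVU this))
    have := Subgroup.commutator_mem_commutator hu hx
    exact hcomm this
  -- Part (II)
  have partII : chiefCentralizer N (FG ⊓ N) ≤ FG := by
    obtain ⟨C, hC⟩ : ∃ C : Subgroup G, C = chiefCentralizer N (FG ⊓ N) := ⟨_, rfl⟩
    rw [← hC]
    haveI hCn : C.Normal := by rw [hC]; exact chiefCentralizer_normal _ _
    have hCN : C ≤ N := by rw [hC]; exact fun x hx => hx.1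
    have hCprop : ∀ x ∈ C, ∀ U V : Subgroup G, (U.Normal ∧ V.Normal ∧ V < U ∧
        ∀ W : Subgroup G, W.Normal → V ≤ W → W ≤ U → W = V ∨ W = U) → U ≤ FG ⊓ N →
        ∀ u ∈ U, u * x * u⁻¹ * x⁻¹ ∈ V := by
      intro x hx; rw [hC] at hx; exact hx.2
    obtain ⟨P, hP⟩ : ∃ P : Nat.Primes → Subgroup G,
        P = fun p : Nat.Primes => Cfsg.pCore (p : ℕ) G ⊓ N := ⟨_, rfl⟩
    haveI hPn : ∀ p, (P p).Normal := by
      intro p; rw [hP]
      haveI := Cfsg.Agent.Lib.Helper1.pCore_normal (p : ℕ) G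
      infer_instance
    have hPp : ∀ p : Nat.Primes, IsPGroup (p : ℕ) (P p) := by
      intro p
      haveI : Fact (Nat.Prime (p : ℕ)) := ⟨p.2⟩
      rw [hP]
      exact (Cfsg.Agent.Lib.Helper1.pCore_isPGroup (p : ℕ) G).to_le inf_le_left
    have hFGsup : FG = ⨆ p : Nat.Primes, Cfsg.pCore (p : ℕ) G := by
      rw [hFG]; exact Cfsg.Agent.Lib.Helper1.fittingSubgroup_eq_iSup_pCore G
    have hPF : ∀ p, P p ≤ FG ⊓ N := by
      intro p; rw [hP]
      refine inf_le_inf_right N ?_
      rw [hFGsup]; exact le_iSup (fun p : Nat.Primes => Cfsg.pCore (p : ℕ) G) p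
    have hFsup : FG ⊓ N = ⨆ p : Nat.Primes, P p := by
      rw [← hFeq, Cfsg.Agent.Lib.Helper1.fittingSubgroup_eq_iSup_pCore ↥N, Subgroup.map_iSup]
      congr 1
      funext p
      haveI : Fact (Nat.Prime (p : ℕ)) := ⟨p.2⟩
      rw [hP]
      exact Cfsg.Agent.Lib.Helper16.pCoreOf_eq_of_normal N
    -- coprime elements of C centralize P p
    have hcent : ∀ (p : Nat.Primes) (y : G), y ∈ C → (orderOf y).Coprime (p : ℕ) →
        ∀ d ∈ P p, d * y = y * d := by
      intro p y hy hcop
      haveI : Fact (Nat.Prime (p : ℕ)) := ⟨p.2⟩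
      have main : ∀ n : ℕ, ∀ U : Subgroup G, U.Normal → U ≤ P p → Nat.card U = n →
          ∀ d ∈ U, d * y = y * d := by
        intro n
        induction n using Nat.strong_induction_on with
        | _ n ih =>
          intro U hUn hUP hcard d hd
          by_cases hU : U = ⊥
          · rw [hU, Subgroup.mem_bot] at hd; rw [hd, one_mul, mul_one]
          · obtain ⟨V, hVn, hVU, hVmax⟩ := exists_max_normal_lt U hU
            have hcardV : Nat.card V < n := by
              rw [← hcard]
              by_contra hcon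
              exact hVU.ne (Subgroup.eq_of_le_of_card_ge hVU.le (not_lt.mp hcon))
            have hVy : ∀ v ∈ V, v * y = y * v := ih _ hcardV V hVn (hVU.le.trans hUP) rfl
            have hchief : U.Normal ∧ V.Normal ∧ V < U ∧
                ∀ W : Subgroup G, W.Normal → V ≤ W → W ≤ U → W = V ∨ W = U := by
              refine ⟨hUn, hVn, hVU, fun W hWn hVW hWU => ?_⟩
              rcases eq_or_lt_of_le hWU with h | h
              · right; exact h
              · left; exact hVmax W hWn hVW h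
            have h1 := hCprop y hy U V hchief (hUP.trans (hPF p)) d hd
            have hz : y * d * y⁻¹ * d⁻¹ ∈ V := by
              have : y * d * y⁻¹ * d⁻¹ = (d * y * d⁻¹ * y⁻¹)⁻¹ := by group
              rw [this]; exact V.inv_mem h1
            have hzy : y * (y * d * y⁻¹ * d⁻¹) = (y * d * y⁻¹ * d⁻¹) * y := (hVy _ hz).symm
            have hzp : ∃ k : ℕ, (y * d * y⁻¹ * d⁻¹) ^ ((p : ℕ) ^ k) = 1 := by
              obtain ⟨k, hk⟩ := hPp p ⟨_, hUP (hVU.le hz)⟩
              exact ⟨k, by simpa using congrArg Subtype.val hk⟩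
            have h2 := Cfsg.Agent.Lib.Helper16.coprime_step (p := (p : ℕ)) y d hcop hzy hzp
            have h3 : y * d * y⁻¹ * d⁻¹ * (d * y) = d * y := by rw [h2, one_mul]
            rw [← h3]; group
      intro d hd
      exact main _ (P p) (hPn p) le_rfl rfl d hd
    -- C_N(F(N)) ≤ F(N)
    have hCF : Subgroup.centralizer (Cfsg.fittingSubgroup ↥N : Set ↥N) ≤
        Cfsg.fittingSubgroup ↥N := by
      apply (Cfsg.Agent.S1326.result).mpr
      exact Cfsg.Agent.Lib.Helper9.layer_eq_bot_of_le_isSolvable (Y := ⊤) inferInstance le_top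
    have hCF' : ∀ y ∈ N, (∀ f ∈ FG ⊓ N, f * y = y * f) → y ∈ FG ⊓ N := by
      intro y hyN hyc
      have h1 : (⟨y, hyN⟩ : ↥N) ∈ Subgroup.centralizer (Cfsg.fittingSubgroup ↥N : Set ↥N) := by
        rw [Subgroup.mem_centralizer_iff]
        intro f hf
        have hfF : (f : G) ∈ FG ⊓ N := by
          rw [← hFeq]; exact Subgroup.mem_map_of_mem _ hf
        apply Subtype.ext
        exact hyc _ hfF
      have h2 := hCF h1
      rw [← hFeq]
      exact ⟨⟨y, hyN⟩, h2, rfl⟩
    -- key: prime power order elements of C lie in FG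
    have key : ∀ (q : Nat.Primes) (x : G), x ∈ C → (∃ k, orderOf x = (q : ℕ) ^ k) → x ∈ FG := by
      intro q x hxC hxq
      haveI : Fact (Nat.Prime (q : ℕ)) := ⟨q.2⟩
      obtain ⟨F', hF'⟩ : ∃ F' : Subgroup G,
          F' = ⨆ (p : Nat.Primes) (_ : p ≠ q), P p := ⟨_, rfl⟩
      haveI hF'n : F'.Normal := by rw [hF']; infer_instance
      have hpF' : ∀ p : Nat.Primes, p ≠ q → P p ≤ F' := by
        intro p hp
        rw [hF']
        exact le_iSup₂ (f := fun (p : Nat.Primes) (_ : p ≠ q) => P p) p hp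
      have hFle : FG ⊓ N ≤ P q ⊔ F' := by
        rw [hFsup]
        apply iSup_le
        intro p
        by_cases hp : p = q
        · rw [hp]; exact le_sup_left
        · exact (hpF' p hp).trans le_sup_right
      obtain ⟨D, hD⟩ : ∃ D : Subgroup G,
          D = C ⊓ Subgroup.centralizer (F' : Set G) := ⟨_, rfl⟩
      have hDn : D.Normal := by rw [hD]; infer_instance
      have hcentF' : ∀ y : G, y ∈ C →
          (∀ p : Nat.Primes, p ≠ q → (orderOf y).Coprime (p : ℕ)) →
          y ∈ Subgroup.centralizer (F' : Set G) := by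
        intro y hy hcop
        have : F' ≤ Subgroup.centralizer ({y} : Set G) := by
          rw [hF']
          apply iSup₂_le
          intro p hp d hd
          rw [Subgroup.mem_centralizer_singleton_iff]
          exact hcent p y hy (hcop p hp) d hd
        rw [Subgroup.mem_centralizer_iff]
        intro d hd
        exact Subgroup.mem_centralizer_singleton_iff.mp (this hd)
      have hxD : x ∈ D := by
        rw [hD]
        refine Subgroup.mem_inf.mpr ⟨hxC, hcentF' x hxC ?_⟩
        intro p hp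
        obtain ⟨k, hk⟩ := hxq
        rw [hk]
        apply Nat.Coprime.pow_left
        exact (Nat.coprime_primes q.2 p.2).mpr (fun h => hp (Subtype.ext h.symm))
      have hcentral : ∀ y ∈ D, (orderOf y).Coprime (q : ℕ) → ∀ d ∈ D, d * y = y * d := by
        intro y hyD hcop d hdD
        rw [hD] at hyD hdD
        obtain ⟨hyC, hyF'⟩ := Subgroup.mem_inf.mp hyD
        obtain ⟨hdC, hdF'⟩ := Subgroup.mem_inf.mp hdD
        have hyF : y ∈ FG ⊓ N := by
          apply hCF' y (hCN hyC)
          intro f hf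
          have : FG ⊓ N ≤ Subgroup.centralizer ({y} : Set G) := by
            refine hFle.trans (sup_le ?_ ?_)
            · intro d hd
              rw [Subgroup.mem_centralizer_singleton_iff]
              exact hcent q y hyC hcop d hd
            · intro d hd
              rw [Subgroup.mem_centralizer_singleton_iff]
              exact Subgroup.mem_centralizer_iff.mp hyF' d hd
          exact Subgroup.mem_centralizer_singleton_iff.mp (this hf)
        have hyF'' : y ∈ F' := by
          have hy2 := hFle hyF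
          rw [← SetLike.mem_coe, Subgroup.mul_normal] at hy2
          obtain ⟨a, ha, b, hb, hab⟩ := hy2
          have hπ : (QuotientGroup.mk' F') y = (QuotientGroup.mk' F') a := by
            have hb1 : (QuotientGroup.mk' F') b = 1 := (QuotientGroup.eq_one_iff b).mpr hb
            rw [← hab]
            show (QuotientGroup.mk' F') (a * b) = _
            rw [map_mul, hb1, mul_one]
          have h1 : orderOf ((QuotientGroup.mk' F') y) ∣ orderOf y := orderOf_map_dvd _ y
          have h2 : orderOf ((QuotientGroup.mk' F') a) ∣ orderOf a := orderOf_map_dvd _ a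
          obtain ⟨k, hk⟩ := (hPp q) ⟨a, ha⟩
          have h3 : orderOf a ∣ (q : ℕ) ^ k := by
            apply orderOf_dvd_of_pow_eq_one
            have := congrArg Subtype.val hk
            simpa using this
          rw [← hπ] at h2
          have h4 : orderOf ((QuotientGroup.mk' F') y) = 1 := by
            apply Nat.eq_one_of_dvd_coprimes (hcop.pow_right k) h1 (h2.trans h3)
          rw [orderOf_eq_one_iff] at h4
          exact (QuotientGroup.eq_one_iff y).mp h4
        exact (Subgroup.mem_centralizer_iff.mp hdF' y hyF'').symm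
      have hDp : IsPGroup (q : ℕ) (↥D ⧸ Subgroup.center ↥D) := by
        intro gq
        obtain ⟨d, rfl⟩ := QuotientGroup.mk_surjective gq
        have hd0 : orderOf (d : G) ≠ 0 := (orderOf_pos (d : G)).ne'
        obtain ⟨a, m, hm, hnm⟩ := Nat.exists_eq_pow_mul_and_not_dvd hd0 (q : ℕ) q.2.ne_one
        refine ⟨a, ?_⟩
        rw [← QuotientGroup.mk_pow, QuotientGroup.eq_one_iff, Subgroup.mem_center_iff]
        intro e
        apply Subtype.ext
        have hpow : orderOf ((d : G) ^ ((q : ℕ) ^ a)) = m := by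
          rw [orderOf_pow_of_dvd (pow_ne_zero _ q.2.ne_zero) (by rw [hnm]; exact dvd_mul_right _ _),
            hnm, Nat.mul_div_cancel_left _ (pow_pos q.2.pos a)]
        have hcopm : (orderOf ((d : G) ^ ((q : ℕ) ^ a))).Coprime (q : ℕ) := by
          rw [hpow]
          exact ((Nat.Prime.coprime_iff_not_dvd q.2).mpr hm).symm
        have := hcentral ((d : G) ^ ((q : ℕ) ^ a)) (D.pow_mem d.2 _) hcopm (e : G) e.2
        simpa using this
      have hDnil : Group.IsNilpotent ↥D := by
        haveI : Group.IsNilpotent (↥D ⧸ Subgroup.center ↥D) := hDp.isNilpotent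
        exact Group.of_quotient_center_nilpotent inferInstance
      have hDF : D ≤ FG := by
        rw [hFG]; exact Cfsg.Agent.Lib.Helper1.le_fittingSubgroup hDn hDnil
      exact hDF hxD
    -- induction on the order
    have main : ∀ n : ℕ, ∀ x : G, x ∈ C → orderOf x = n → x ∈ FG := by
      intro n
      induction n using Nat.strong_induction_on with
      | _ n ih =>
        intro x hxC hxn
        by_cases h1 : n = 1
        · rw [h1, orderOf_eq_one_iff] at hxn; rw [hxn]; exact one_mem _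
        · have hn0 : n ≠ 0 := by rw [← hxn]; exact (orderOf_pos x).ne'
          obtain ⟨q, hq, hqn⟩ := Nat.exists_prime_and_dvd h1
          obtain ⟨a, m, hm, hnm⟩ := Nat.exists_eq_pow_mul_and_not_dvd hn0 q hq.ne_one
          have ha : a ≠ 0 := by
            intro ha
            rw [ha, pow_zero, one_mul] at hnm
            rw [hnm] at hqn
            exact hm hqn
          have hm0 : m ≠ 0 := by
            intro hm0; rw [hm0, mul_zero] at hnm; exact hn0 hnm
          have hmn : m < n := by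
            rw [hnm]
            have : 2 ≤ q ^ a := le_trans hq.two_le (Nat.le_self_pow ha q)
            nlinarith [Nat.pos_of_ne_zero hm0]
          have ho1 : orderOf (x ^ (q ^ a)) = m := by
            rw [orderOf_pow_of_dvd (pow_ne_zero _ hq.ne_zero)
              (by rw [hxn, hnm]; exact dvd_mul_right _ _),
              hxn, hnm, Nat.mul_div_cancel_left _ (pow_pos hq.pos a)]
          have ho2 : orderOf (x ^ m) = q ^ a := by
            rw [orderOf_pow_of_dvd hm0 (by rw [hxn, hnm]; exact dvd_mul_left _ _),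
              hxn, hnm, Nat.mul_div_cancel _ (Nat.pos_of_ne_zero hm0)]
          have hx1 : x ^ (q ^ a) ∈ FG :=
            ih m hmn _ (Subgroup.pow_mem _ hxC _) ho1
          have hx2 : x ^ m ∈ FG :=
            key ⟨q, hq⟩ _ (Subgroup.pow_mem _ hxC _) ⟨a, ho2⟩
          have hcop : Nat.Coprime (q ^ a) m :=
            Nat.Coprime.pow_left a ((Nat.Prime.coprime_iff_not_dvd hq).mpr hm)
          obtain ⟨u, v, huv⟩ := Nat.isCoprime_iff_coprime.mpr hcop
          have : x = (x ^ (q ^ a)) ^ u * (x ^ m) ^ v := by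
            rw [← zpow_natCast, ← zpow_natCast, ← zpow_mul, ← zpow_mul, ← zpow_add]
            have : ((q ^ a : ℕ) : ℤ) * u + (m : ℤ) * v = 1 := by rw [← huv]; ring
            rw [this, zpow_one]
          rw [this]
          exact FG.mul_mem (FG.zpow_mem hx1 u) (FG.zpow_mem hx2 v)
    intro x hx
    exact main _ x hx rfl
  refine ⟨⟨fun h => ⟨h.2, fun U V hUV u hu => partI g h.1 U V hUV u hu⟩, fun h => ?_⟩,
    ⟨fun h => ⟨h.2, fun U V hUV _ u hu => partI g h.1 U V hUV u hu⟩, fun h => ?_⟩⟩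
  · exact ⟨partII ⟨h.1, fun U V hUV _ u hu => h.2 U V hUV u hu⟩, h.1⟩
  · exact ⟨partII ⟨h.1, fun U V hUV hUF u hu => h.2 U V hUV hUF u hu⟩, h.1⟩

end Cfsg.Agent.S3766
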