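import Cfsg.Statements.S3769
import Cfsg.Agent.Lib.Helper17.ESMod9
import Cfsg.Agent.Lib.Helper17.ESMod10
import Cfsg.Agent.Lib.Helper9.CoprimeSylow

set_option autoImplicit false
open Cfsg

namespace Cfsg.Agent.S3769

open scoped Pointwise commutatorElement

/-- Let G and V be subgroups of a finite group with G solvable of odd order normalizing V, V an elementary abelian ℓ-group for a prime ℓ not dividing the order of G, and suppose G has a normal Hall subgroup K with a complement R of prime order. If C_V(R) = 1, then [R, K] centralizes V. -/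
theorem result {X : Type*} [Group X] [Finite X] (G : Subgroup X) (hsolv : Group.IsSolvable G) (hodd : Odd (Nat.card G)) (V : Subgroup X) {ℓ : ℕ} (hℓ : ℓ.Prime) (hV : Cfsg.IsElementaryAbelian ℓ V) (hℓG : ¬ ℓ ∣ Nat.card G) (hGV : G ≤ Subgroup.normalizer (V : Set X)) (K R : Subgroup X) (hKG : K ≤ G) (hKn : G ≤ Subgroup.normalizer (K : Set X)) (hHall : (Nat.card K).Coprime (K.relIndex G)) (hRG : R ≤ G) (hR : (Nat.card R).Prime) (hKR : K ⊓ R = ⊥) (hKRG : K ⊔ R = G) (hCV : V ⊓ Subgroup.centralizer (R : Set X) = ⊥) : ⁅R, K⁆ ≤ Subgroup.centralizer (V : Set X) := by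
  classical
  have hℓF : Fact ℓ.Prime := ⟨hℓ⟩
  have hrF : Fact (Nat.card ↥R).Prime := ⟨hR⟩
  -- the index of K in G
  have hrel : K.relIndex G = Nat.card ↥R := by
    have hKn' : (K.subgroupOf G).Normal :=
      (Subgroup.normal_subgroupOf_iff_le_normalizer hKG).mpr hKn
    have hdisj : Disjoint (R.subgroupOf G) (K.subgroupOf G) := by
      rw [disjoint_iff, eq_bot_iff]
      intro g hg
      obtain ⟨hg1, hg2⟩ := Subgroup.mem_inf.mp hg
      rw [Subgroup.mem_subgroupOf] at hg1 hg2
      have : (g : X) ∈ K ⊓ R := Subgroup.mem_inf.mpr ⟨hg2, hg1⟩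
      rw [hKR, Subgroup.mem_bot] at this
      rw [Subgroup.mem_bot]
      exact Subtype.ext this
    have hsup : R.subgroupOf G ⊔ K.subgroupOf G = ⊤ := by
      rw [← Subgroup.subgroupOf_sup hRG hKG, sup_comm, hKRG, Subgroup.subgroupOf_self]
    have hmul : ((R.subgroupOf G : Subgroup ↥G) : Set ↥G) * ((K.subgroupOf G : Subgroup ↥G) : Set ↥G)
        = Set.univ := by
      rw [← Subgroup.mul_normal, hsup, Subgroup.coe_top]
    have hcompl := Subgroup.isComplement'_of_disjoint_and_mul_eq_univ hdisj hmul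
    have h1 := hcompl.index_eq_card
    rw [Subgroup.relIndex, h1]
    exact Nat.card_congr (Subgroup.subgroupOfEquivOfLe hRG).toEquiv
  have hcopRK : (Nat.card ↥R).Coprime (Nat.card ↥K) := by
    rw [hrel] at hHall
    exact hHall.symm
  have hRK : R ≤ Subgroup.normalizer (K : Set X) := hRG.trans hKn
  have hKsolv : Group.IsSolvable ↥K := by
    have := hsolv
    exact Group.isSolvable_of_isSolvable_injective (Subgroup.inclusion_injective hKG)
  have hcardG : Nat.card ↥G ≠ 0 := Nat.card_pos.ne'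
  have hKdvd : Nat.card ↥K ∣ Nat.card ↥G := Subgroup.card_dvd_of_le hKG
  have hRdvd : Nat.card ↥R ∣ Nat.card ↥G := Subgroup.card_dvd_of_le hRG
  -- the conjugation representation
  have hc : ∀ a ∈ V, ∀ b ∈ V, a * b = b * a := by
    intro a ha b hb
    exact congrArg Subtype.val (hV.1.is_comm.comm (⟨a, ha⟩ : ↥V) ⟨b, hb⟩)
  obtain ⟨W, iA, iM, iF, ρ, hker, hfixρ⟩ :=
    Cfsg.Agent.Lib.Helper17.ESMod.exists_conj_rep (p := ℓ) V hc hV.2
  have hfd : FiniteDimensional (ZMod ℓ) W := Module.Finite.of_finite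
  have hrk : ((Nat.card ↥R : ℕ) : ZMod ℓ) ≠ 0 := by
    intro h
    rw [ZMod.natCast_eq_zero_iff] at h
    exact hℓG (h.trans hRdvd)
  -- conjugation by the normalizer preserves the centralizer
  have hconjC : ∀ k ∈ Subgroup.normalizer (V : Set X), ∀ c ∈ Subgroup.centralizer (V : Set X),
      k * c * k⁻¹ ∈ Subgroup.centralizer (V : Set X) := by
    intro k hk c hc'
    rw [Subgroup.mem_centralizer_iff] at hc' ⊢
    intro v hv
    have hk' : k⁻¹ ∈ Subgroup.normalizer (V : Set X) := Subgroup.inv_mem _ hk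
    have hv' : k⁻¹ * v * k⁻¹⁻¹ ∈ V := (Subgroup.mem_normalizer_iff.mp hk' v).mp hv
    have h1 := hc' _ hv'
    calc v * (k * c * k⁻¹) = k * ((k⁻¹ * v * k⁻¹⁻¹) * c) * k⁻¹ := by group
      _ = k * (c * (k⁻¹ * v * k⁻¹⁻¹)) * k⁻¹ := by rw [h1]
      _ = k * c * k⁻¹ * v := by group
  rw [Subgroup.commutator_le]
  intro y hy k hk
  by_cases hy1 : y = 1
  · rw [hy1, commutatorElement_one_left]
    exact Subgroup.one_mem _
  -- y generates R
  have hyr : y ^ Nat.card ↥R = 1 := by
    have h1 : (⟨y, hy⟩ : ↥R) ^ Nat.card ↥R = 1 := pow_card_eq_one'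
    have h2 := congrArg Subtype.val h1
    rw [Subgroup.coe_pow, Subgroup.coe_one] at h2
    exact h2
  have hRz : Subgroup.zpowers y = R := by
    apply Subgroup.eq_of_le_of_card_ge ((Subgroup.zpowers_le).mpr hy)
    rw [Nat.card_zpowers, orderOf_eq_prime hyr hy1]
  have hyNV : y ∈ Subgroup.normalizer (V : Set X) := hGV (hRG hy)
  let y' : ↥(Subgroup.normalizer (V : Set X)) := ⟨y, hyNV⟩
  have hy' : y' ^ Nat.card ↥R = 1 := by
    apply Subtype.ext
    rw [Subgroup.coe_pow, Subgroup.coe_one]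
    exact hyr
  have hfixy : ∀ w, ρ y' w = w → w = 0 := by
    apply hfixρ y'
    intro v hv hvx
    have hmem : v ∈ V ⊓ Subgroup.centralizer (R : Set X) := by
      refine Subgroup.mem_inf.mpr ⟨hv, ?_⟩
      rw [Subgroup.mem_centralizer_iff]
      intro h hh
      rw [SetLike.mem_coe, ← hRz] at hh
      obtain ⟨j, rfl⟩ := Subgroup.mem_zpowers_iff.mp hh
      have : Commute y v := hvx
      exact (this.zpow_left j).eq
    rw [hCV, Subgroup.mem_bot] at hmem
    exact hmem
  -- the subgroup of K on which y acts trivially modulo C(V)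
  let T : Subgroup X :=
    { carrier := {k | k ∈ K ∧ ⁅y, k⁆ ∈ Subgroup.centralizer (V : Set X)}
      mul_mem' := by
        rintro a b ⟨ha, ha'⟩ ⟨hb, hb'⟩
        refine ⟨K.mul_mem ha hb, ?_⟩
        have : ⁅y, a * b⁆ = ⁅y, a⁆ * (a * ⁅y, b⁆ * a⁻¹) := by
          simp only [commutatorElement_def]; group
        rw [this]
        exact Subgroup.mul_mem _ ha' (hconjC a (hGV (hKG ha)) _ hb')
      one_mem' := ⟨K.one_mem, by rw [commutatorElement_one_right]; exact Subgroup.one_mem _⟩
      inv_mem' := by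
        rintro a ⟨ha, ha'⟩
        refine ⟨K.inv_mem ha, ?_⟩
        have : ⁅y, a⁻¹⁆ = a⁻¹ * ⁅y, a⁆⁻¹ * a⁻¹⁻¹ := by
          simp only [commutatorElement_def]; group
        rw [this]
        exact hconjC a⁻¹ (Subgroup.inv_mem _ (hGV (hKG ha))) _ (Subgroup.inv_mem _ ha') }
  have hTK : T ≤ K := fun k hk => hk.1
  have hTeq : T = K := by
    apply Subgroup.eq_of_le_of_card_ge hTK
    apply Nat.le_of_dvd Nat.card_pos
    rw [← Nat.factorization_prime_le_iff_dvd Nat.card_pos.ne' Nat.card_pos.ne']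
    intro q hq
    have hqF : Fact q.Prime := ⟨hq⟩
    by_cases hqK : q ∣ Nat.card ↥K
    swap
    · rw [Nat.factorization_eq_zero_of_not_dvd hqK]
      exact Nat.zero_le _
    -- an invariant Sylow q-subgroup
    obtain ⟨S, hS⟩ := Cfsg.Agent.Lib.Helper9.exists_invariant_sylow R K hRK hcopRK
      (Or.inr hKsolv) q
    let Qq : Subgroup X := (S : Subgroup ↥K).map K.subtype
    have hQqK : Qq ≤ K := by
      rintro _ ⟨s, _, rfl⟩
      exact s.2
    have hQqNV : Qq ≤ Subgroup.normalizer (V : Set X) := hQqK.trans (hKG.trans hGV)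
    have hQqP : IsPGroup q ↥Qq := S.isPGroup'.map K.subtype
    have hQqcard : Nat.card ↥Qq = q ^ (Nat.card ↥K).factorization q := by
      rw [Subgroup.card_map_of_injective K.subtype_injective]
      exact S.card_eq_multiplicity
    have hqG : q ∣ Nat.card ↥G := hqK.trans hKdvd
    have hqr : q ≠ Nat.card ↥R := by
      intro h
      rw [h] at hqK
      have := Nat.Coprime.eq_one_of_dvd hcopRK hqK
      exact hR.one_lt.ne' this
    have hqk : (q : ZMod ℓ) ≠ 0 := by
      intro h
      rw [ZMod.natCast_eq_zero_iff] at h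
      exact hℓG (h.trans hqG)
    have hq2 : q ≠ 2 := by
      intro h
      rw [h] at hqG
      exact (Nat.not_even_iff_odd.mpr hodd) (even_iff_two_dvd.mpr hqG)
    have hQ' : IsPGroup q ↥(Qq.subgroupOf (Subgroup.normalizer (V : Set X))) :=
      hQqP.of_equiv (Subgroup.subgroupOfEquivOfLe hQqNV).symm
    have hynQ : ∀ s ∈ Qq, y * s * y⁻¹ ∈ Qq := by
      intro s hs
      exact (Subgroup.mem_normalizer_iff.mp (hS hy) s).mp hs
    have hcomm := Cfsg.Agent.Lib.Helper17.ESMod.comm_of_fixed_zero (k := ZMod ℓ) hq hR hqr hqk hrk ρ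
      (Qq.subgroupOf (Subgroup.normalizer (V : Set X))) y' hQ' hy'
      (by
        intro s hs
        rw [Subgroup.mem_subgroupOf] at hs ⊢
        exact hynQ _ hs)
      (by
        intro h2
        exact absurd h2 hq2)
      hfixy
    have hQqT : Qq ≤ T := by
      intro f hf
      refine ⟨hQqK hf, ?_⟩
      let f' : ↥(Subgroup.normalizer (V : Set X)) := ⟨f, hQqNV hf⟩
      have hf' : f' ∈ Qq.subgroupOf (Subgroup.normalizer (V : Set X)) :=
        Subgroup.mem_subgroupOf.mpr hf
      have h1 := hcomm f' hf'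
      have h2 : ρ ((y' * f') * (f' * y')⁻¹) = 1 := by
        rw [map_mul, h1, ← map_mul, mul_inv_cancel, map_one]
      have h3 := hker _ h2
      have h4 : (((y' * f') * (f' * y')⁻¹ : ↥(Subgroup.normalizer (V : Set X))) : X) = ⁅y, f⁆ := by
        show (y * f) * (f * y)⁻¹ = ⁅y, f⁆
        rw [commutatorElement_def]; group
      rw [h4] at h3
      exact h3
    have hdvd : q ^ (Nat.card ↥K).factorization q ∣ Nat.card ↥T := by
      rw [← hQqcard]
      exact Subgroup.card_dvd_of_le hQqT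
    exact (hq.pow_dvd_iff_le_factorization Nat.card_pos.ne').mp hdvd
  have hkT : k ∈ T := by rw [hTeq]; exact hk
  exact hkT.2

end Cfsg.Agent.S3769
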