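import Cfsg.Statements.S3770
-- import your own Cfsg.Agent.* helpers here
import Cfsg.Agent.Lib.Helper1.FM3
import Cfsg.Agent.Lib.Lead.FrobConj

set_option autoImplicit false
open Cfsg

namespace Cfsg.Agent.S3770

/-- Let G and V be subgroups of a finite group with G a Frobenius group with complement R of prime order and kernel K, G normalizing V, and V an elementary abelian ℓ-group for a prime ℓ not dividing the order of G. If C_V(R) has order ℓ, then the derived subgroup of K centralizes V. -/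
theorem result {X : Type*} [Group X] [Finite X] (G : Subgroup X) (V : Subgroup X) {ℓ : ℕ} (hℓ : ℓ.Prime) (hV : Cfsg.IsElementaryAbelian ℓ V) (hℓG : ¬ ℓ ∣ Nat.card G) (hGV : G ≤ Subgroup.normalizer (V : Set X)) (R : Subgroup ↥G) (hR : Cfsg.IsFrobeniusComplement R) (hRp : (Nat.card R).Prime) (hCV : Nat.card ↥(V ⊓ Subgroup.centralizer ((R.map G.subtype : Subgroup X) : Set X)) = ℓ) : ⁅Subgroup.closure (Subtype.val '' Cfsg.frobeniusKernel R), Subgroup.closure (Subtype.val '' Cfsg.frobeniusKernel R)⁆ ≤ Subgroup.centralizer (V : Set X) := by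
  classical
  obtain ⟨K, hKset, hKn, hc, hK1, hfp⟩ := Cfsg.Agent.CharLib.frob_setup R hR
  -- the kernel is nilpotent
  have hfpf0 : ∀ e ∈ R, e ≠ 1 → ∀ u ∈ K, e * u = u * e → u = 1 := by
    intro e he e1 u hu hc'
    have : u ∈ K ⊓ Subgroup.centralizer ({e} : Set ↥G) := by
      refine Subgroup.mem_inf.mpr ⟨hu, ?_⟩
      rw [Subgroup.mem_centralizer_iff]
      intro h hh
      rw [Set.mem_singleton_iff] at hh
      rw [hh]
      exact hc'
    rw [hfp e he e1] at this
    exact Subgroup.mem_bot.mp this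
  have hnil : Group.IsNilpotent ↥K :=
    Cfsg.Agent.Lib.Helper17.FrobCount.kernel_nilpotent K R hR.1
      (fun e _ u hu => hKn.conj_mem u hu e) hfpf0
  -- the action on V
  let act : ↥G →* MulAut ↥V := V.normalizerMonoidHom.comp (Subgroup.inclusion hGV)
  have hact : ∀ (g : ↥G) (v : ↥V), ((act g v : ↥V) : X) = g * v * (g : X)⁻¹ := fun _ _ => rfl
  have hcomm : ∀ a b : ↥V, a * b = b * a := fun a b => hV.1.is_comm.comm a b
  have hexp : ∀ a : ↥V, a ^ ℓ = 1 := by
    intro a
    apply Subtype.ext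
    rw [Subgroup.coe_pow]
    exact hV.2 a.1 a.2
  have hpF : ¬ ℓ ∣ Nat.card ↥K := fun h => hℓG (h.trans (Subgroup.card_subgroup_dvd_card K))
  have hfpf : ∀ h ∈ R, h ≠ 1 → ∀ f ∈ K, h * f * h⁻¹ = f → f = 1 := by
    intro h hh h1 f hf hc'
    apply hfpf0 h hh h1 f hf
    calc h * f = (h * f * h⁻¹) * h := by group
      _ = f * h := by rw [hc']
  have hfix : Nat.card {a : ↥V // ∀ g ∈ R, act g a = a} ≤ ℓ := by
    have : Nat.card {a : ↥V // ∀ g ∈ R, act g a = a}
        = Nat.card ↥(V ⊓ Subgroup.centralizer ((R.map G.subtype : Subgroup X) : Set X)) := by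
      refine Nat.card_congr
        { toFun := fun a => ⟨a.1.1, Subgroup.mem_inf.mpr ⟨a.1.2, ?_⟩⟩
          invFun := fun b => ⟨⟨b.1, (Subgroup.mem_inf.mp b.2).1⟩, ?_⟩
          left_inv := fun a => rfl
          right_inv := fun b => rfl }
      · rw [Subgroup.mem_centralizer_iff]
        rintro _ ⟨r, hr, rfl⟩
        have h1 := congrArg Subtype.val (a.2 r hr)
        rw [hact] at h1
        show (r : X) * a.1.1 = a.1.1 * (r : X)
        calc (r : X) * a.1.1 = ((r : X) * a.1.1 * (r : X)⁻¹) * r := by group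
          _ = a.1.1 * (r : X) := by rw [h1]
      · intro g hg
        apply Subtype.ext
        rw [hact]
        have h1 := (Subgroup.mem_inf.mp b.2).2
        rw [Subgroup.mem_centralizer_iff] at h1
        have h2 := h1 (g : X) ⟨g, hg, rfl⟩
        show (g : X) * b.1 * (g : X)⁻¹ = b.1
        rw [h2]; group
    rw [this, hCV]
  have key := Cfsg.Agent.Lib.Helper1.FM.act_comm_of_fix_le hcomm hℓ hexp act K R hnil hpF hfpf hfix
  -- translate
  have hcl : Subgroup.closure (Subtype.val '' Cfsg.frobeniusKernel R) = K.map G.subtype := by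
    rw [← hKset]
    have : (Subtype.val '' (K : Set ↥G)) = ((K.map G.subtype : Subgroup X) : Set X) := by
      rw [Subgroup.coe_map]
      rfl
    rw [this, Subgroup.closure_eq]
  rw [hcl, Subgroup.commutator_le]
  rintro _ ⟨x, hx, rfl⟩ _ ⟨y, hy, rfl⟩
  rw [Subgroup.mem_centralizer_iff]
  intro v hv
  have hinv : ∀ (g : ↥G) (b : ↥V), act g (act g⁻¹ b) = b := by
    intro g b
    rw [← MulAut.mul_apply, ← map_mul, mul_inv_cancel, map_one]
    rfl
  have h1 := key x hx y hy (act x⁻¹ (act y⁻¹ ⟨v, hv⟩))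
  rw [hinv x, hinv y] at h1
  have h2 := congrArg Subtype.val h1
  rw [hact, hact, hact, hact] at h2
  simp only [Subgroup.coe_inv, Subgroup.coe_subtype] at h2 ⊢
  rw [commutatorElement_def]
  calc v * ((x : X) * y * (x : X)⁻¹ * (y : X)⁻¹)
      = ((x : X) * ((y : X) * ((x : X)⁻¹ * ((y : X)⁻¹ * v * (y : X)⁻¹⁻¹) * (x : X)⁻¹⁻¹) * (y : X)⁻¹)
          * (x : X)⁻¹) * ((x : X) * y * (x : X)⁻¹ * (y : X)⁻¹) := by rw [h2]
    _ = (x : X) * y * (x : X)⁻¹ * (y : X)⁻¹ * v := by group

end Cfsg.Agent.S3770
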