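import Cfsg.Statements.S3771
import Mathlib
import Cfsg.Agent.Lib.Helper20.PGroupBasics
import Cfsg.Agent.Lib.Helper20.PGroupCard

set_option autoImplicit false
open Cfsg

namespace Cfsg.Agent.S3771

open scoped commutatorElement
open Cfsg.Agent.Lib.Helper20

/-- Let p be a prime and R a finite p-group of p-rank at most 2 (no elementary abelian subgroup of order p³) in which every element has order dividing p. Then R has order at most p³. -/
theorem result {R : Type*} [Group R] [Finite R] {p : ℕ} [Fact p.Prime] (hR : IsPGroup p R) (hrank : Cfsg.PRankLE p 2 R) (hexp : ∀ x : R, x ^ p = 1) : Nat.card R ≤ p ^ 3 := by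
  classical
  have hp : p.Prime := Fact.out
  by_contra hlt
  have hlt' : p ^ 3 < Nat.card R := Nat.lt_of_not_ge hlt
  obtain ⟨n, hn⟩ := IsPGroup.iff_card.mp hR
  have hn4 : 4 ≤ n := by
    by_contra h
    have h3 : n ≤ 3 := by omega
    have := Nat.pow_le_pow_right hp.pos h3
    rw [← hn] at this
    omega
  haveI : Nontrivial R := by
    rw [← Finite.one_lt_card_iff_nontrivial, hn]
    exact Nat.one_lt_pow (by omega) hp.one_lt
  haveI := hR.center_nontrivial
  obtain ⟨zz, hzz⟩ := exists_ne (1 : Subgroup.center R)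
  have hzc : (zz : R) ∈ Subgroup.center R := zz.2
  have hz1 : (zz : R) ≠ 1 := fun h => hzz (Subtype.ext h)
  generalize (zz : R) = z at hzc hz1
  have hZ₀c : Subgroup.zpowers z ≤ Subgroup.center R := Subgroup.zpowers_le.mpr hzc
  haveI hZ₀n : (Subgroup.zpowers z).Normal := by
    constructor
    intro a ha g
    have := Subgroup.mem_center_iff.mp (hZ₀c ha) g
    rw [this, mul_assoc, mul_inv_cancel, mul_one]
    exact ha
  have hZ₀card : Nat.card (Subgroup.zpowers z) = p := by
    rw [Nat.card_zpowers, orderOf_eq_prime (hexp z) hz1]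
  have hquotcard : Nat.card (R ⧸ Subgroup.zpowers z) * p = p ^ n := by
    rw [← hn, Subgroup.card_eq_card_quotient_mul_card_subgroup (Subgroup.zpowers z), hZ₀card]
  haveI : Nontrivial (R ⧸ Subgroup.zpowers z) := by
    rw [← Finite.one_lt_card_iff_nontrivial]
    by_contra hle
    have h1 : Nat.card (R ⧸ Subgroup.zpowers z) ≤ 1 := Nat.le_of_not_gt hle
    have h2 : p ^ n ≤ p := by
      rw [← hquotcard]
      calc Nat.card (R ⧸ Subgroup.zpowers z) * p ≤ 1 * p := Nat.mul_le_mul_right p h1
        _ = p := one_mul p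
    have h3 : p ^ 4 ≤ p ^ n := Nat.pow_le_pow_right hp.pos hn4
    have h4 : p ^ 1 < p ^ 4 := Nat.pow_lt_pow_right hp.one_lt (by norm_num)
    rw [pow_one] at h4
    omega
  have hRq : IsPGroup p (R ⧸ Subgroup.zpowers z) := hR.to_quotient _
  haveI := hRq.center_nontrivial
  obtain ⟨xx, hxx⟩ := exists_ne (1 : Subgroup.center (R ⧸ Subgroup.zpowers z))
  obtain ⟨x, hx⟩ := QuotientGroup.mk_surjective (xx : R ⧸ Subgroup.zpowers z)
  have hxZ₀ : x ∉ Subgroup.zpowers z := by
    intro h
    apply hxx
    apply Subtype.ext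
    rw [← hx]
    exact (QuotientGroup.eq_one_iff x).mpr h
  have hcomm : ∀ g : R, ⁅g, x⁆ ∈ Subgroup.zpowers z := by
    intro g
    rw [← QuotientGroup.eq_one_iff]
    have hc := Subgroup.mem_center_iff.mp xx.2 (QuotientGroup.mk g)
    rw [← hx] at hc
    simp only [commutatorElement_def, QuotientGroup.mk_mul, QuotientGroup.mk_inv]
    rw [hc]; group
  have hCidx : (Subgroup.centralizer ({x} : Set R)).index ∣ p := by
    have := relIndex_centralizer_dvd_card (Subgroup.zpowers z) hZ₀c x hcomm ⊤
    rwa [Subgroup.relIndex_top_right, hZ₀card] at this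
  have hCcard : p ^ 3 ≤ Nat.card (Subgroup.centralizer ({x} : Set R)) := by
    have h1 := Subgroup.card_mul_index (Subgroup.centralizer ({x} : Set R))
    have h2 : (Subgroup.centralizer ({x} : Set R)).index ≤ p := Nat.le_of_dvd hp.pos hCidx
    have h3 : p ^ 4 ≤ p ^ n := Nat.pow_le_pow_right hp.pos hn4
    rw [hn] at h1
    have h4 : p ^ 3 * p ≤ Nat.card (Subgroup.centralizer ({x} : Set R)) * p := by
      calc p ^ 3 * p = p ^ 4 := by ring
        _ ≤ p ^ n := h3
        _ = Nat.card (Subgroup.centralizer ({x} : Set R)) * (Subgroup.centralizer ({x} : Set R)).index := h1.symm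
        _ ≤ Nat.card (Subgroup.centralizer ({x} : Set R)) * p := Nat.mul_le_mul_left _ h2
    exact Nat.le_of_mul_le_mul_right h4 hp.pos
  have hzall : ∀ g : R, z * g = g * z := fun g => (Subgroup.mem_center_iff.mp hzc g).symm
  -- A = closure {z, x}
  have hAcomm : IsMulCommutative (Subgroup.closure ({z, x} : Set R)) := by
    apply Subgroup.isMulCommutative_closure
    intro a ha b hb
    simp only [Set.mem_insert_iff, Set.mem_singleton_iff] at ha hb
    rcases ha with rfl | rfl
    · exact hzall b
    · rcases hb with rfl | rfl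
      · exact (hzall a).symm
      · rfl
  have hAcard : Nat.card (Subgroup.closure ({z, x} : Set R)) ≤ p ^ 2 :=
    hrank _ hAcomm (fun a _ => hexp a)
  have hAC : Subgroup.closure ({z, x} : Set R) ≤ Subgroup.centralizer ({x} : Set R) := by
    rw [Subgroup.closure_le]
    intro a ha
    simp only [Set.mem_insert_iff, Set.mem_singleton_iff] at ha
    rw [SetLike.mem_coe, mem_centralizer_singleton_iff']
    rcases ha with rfl | rfl
    · exact (hzall x).symm
    · rfl
  obtain ⟨y, hyC, hyA⟩ : ∃ y ∈ Subgroup.centralizer ({x} : Set R), y ∉ Subgroup.closure ({z, x} : Set R) := by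
    by_contra hcon
    have hle : Subgroup.centralizer ({x} : Set R) ≤ Subgroup.closure ({z, x} : Set R) := by
      intro y hy
      by_contra hyA
      exact hcon ⟨y, hy, hyA⟩
    have h1 := Subgroup.card_le_of_le hle
    have h2 : p ^ 2 < p ^ 3 := Nat.pow_lt_pow_right hp.one_lt (by norm_num)
    omega
  have hxy : x * y = y * x := (mem_centralizer_singleton_iff' x y).mp hyC
  have hBcomm : IsMulCommutative (Subgroup.closure ({z, x, y} : Set R)) := by
    apply Subgroup.isMulCommutative_closure
    intro a ha b hb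
    simp only [Set.mem_insert_iff, Set.mem_singleton_iff] at ha hb
    rcases ha with rfl | rfl | rfl
    · exact hzall b
    · rcases hb with rfl | rfl | rfl
      · exact (hzall a).symm
      · rfl
      · exact hxy
    · rcases hb with rfl | rfl | rfl
      · exact (hzall a).symm
      · exact hxy.symm
      · rfl
  have hBcard : Nat.card (Subgroup.closure ({z, x, y} : Set R)) ≤ p ^ 2 :=
    hrank _ hBcomm (fun a _ => hexp a)
  have hZA : Subgroup.zpowers z ≤ Subgroup.closure ({z, x} : Set R) := by
    rw [Subgroup.zpowers_le]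
    exact Subgroup.subset_closure (by simp)
  have hAZ : ¬ Subgroup.closure ({z, x} : Set R) ≤ Subgroup.zpowers z := fun h =>
    hxZ₀ (h (Subgroup.subset_closure (by simp)))
  have hAB : Subgroup.closure ({z, x} : Set R) ≤ Subgroup.closure ({z, x, y} : Set R) := by
    apply Subgroup.closure_mono
    intro a ha
    simp only [Set.mem_insert_iff, Set.mem_singleton_iff] at ha ⊢
    rcases ha with rfl | rfl
    · left; rfl
    · right; left; rfl
  have hBA : ¬ Subgroup.closure ({z, x, y} : Set R) ≤ Subgroup.closure ({z, x} : Set R) := fun h =>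
    hyA (h (Subgroup.subset_closure (by simp)))
  have h1 := card_mul_le_card_of_lt hp hR hZA hAZ
  have h2 := card_mul_le_card_of_lt hp hR hAB hBA
  rw [hZ₀card] at h1
  have h3 : p * (p * p) ≤ p ^ 2 := (Nat.mul_le_mul_left p h1).trans (h2.trans hBcard)
  have hp2 := hp.two_le
  nlinarith

end Cfsg.Agent.S3771
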