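import Cfsg.Statements.S3772
import Mathlib
import Cfsg.Agent.Lib.Helper11.QuadCount
import Cfsg.Agent.Lib.Helper11.TIFamily
-- import your own Cfsg.Agent.* helpers here

set_option autoImplicit false
open Cfsg

namespace Cfsg.Agent.S3772

open Subgroup
open Cfsg.Agent.Lib.Helper11
open scoped BigOperators

lemma quad_setting {G : Type*} [Group G] [Finite G] (hG : IsPGroup 2 G)
    (hΦ : Nat.card (frattini G) = 2) :
    ∃ z : G, QuadSetting z ∧ ∀ x, x ∈ frattini G ↔ x = 1 ∨ x = z := by
  have : Fact (Nat.Prime 2) := ⟨Nat.prime_two⟩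
  obtain ⟨⟨z, hzΦ⟩, hz1, huniq⟩ := (Nat.card_eq_two_iff' (1 : frattini G)).mp hΦ
  have hz1' : z ≠ 1 := fun h => hz1 (Subtype.ext h)
  have hmem : ∀ x, x ∈ frattini G ↔ x = 1 ∨ x = z := by
    intro x
    constructor
    · intro hx
      by_cases hx1 : x = 1
      · exact Or.inl hx1
      · right
        have := huniq ⟨x, hx⟩ (fun h => hx1 (congrArg Subtype.val h))
        exact congrArg Subtype.val this
    · rintro (rfl | rfl)
      · exact one_mem _
      · exact hzΦ
  have hnorm : (frattini G).Normal := inferInstance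
  refine ⟨z, ⟨?_, hz1', ?_, ?_, ?_⟩, hmem⟩
  · intro g
    have h1 : g * z * g⁻¹ ∈ frattini G := hnorm.conj_mem z hzΦ g
    rcases (hmem _).mp h1 with h | h
    · exfalso
      apply hz1'
      have : z = g⁻¹ * (g * z * g⁻¹) * g := by group
      rw [this, h]; group
    · calc g * z = (g * z * g⁻¹) * g := by group
        _ = z * g := by rw [h]
  · have h1 : z * z ∈ frattini G := mul_mem hzΦ hzΦ
    rcases (hmem _).mp h1 with h | h
    · exact h
    · exfalso
      apply hz1'
      have : z * z = z * 1 := by rw [mul_one]; exact h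
      exact mul_left_cancel this
  · intro a b
    have h1 : a * b * a⁻¹ * b⁻¹ ∈ frattini G := by
      apply Cfsg.Agent.Lib.Helper1.IsPGroup.commutator_le_frattini hG
      rw [commutator_def]
      exact Subgroup.commutator_mem_commutator (Subgroup.mem_top a) (Subgroup.mem_top b)
    rcases (hmem _).mp h1 with h | h
    · left
      calc a * b = (a * b * a⁻¹ * b⁻¹) * (b * a) := by group
        _ = b * a := by rw [h, one_mul]
    · right
      calc a * b = (a * b * a⁻¹ * b⁻¹) * (b * a) := by group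
        _ = z * (b * a) := by rw [h]
  · intro a
    have h1 : a * a ∈ frattini G := by
      have := Cfsg.Agent.Lib.Helper1.IsPGroup.pow_mem_frattini hG a
      rwa [pow_two] at this
    exact (hmem _).mp h1

/-- the key numerical dichotomy -/
lemma key {G : Type*} [Group G] [Finite G] (hG : IsPGroup 2 G)
    (hΦ : Nat.card (frattini G) = 2) (d : ℕ) (hd : (frattini G).index = 2 ^ d) :
    Nat.card {x : G // x ^ 2 = 1} = 2 ^ d ∨
    ∃ c k : ℕ, Nat.card (Subgroup.center G) = 2 ^ c ∧ 1 ≤ c ∧ c ≤ d ∧ 2 * k = d + 1 + c ∧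
      (Nat.card {x : G // x ^ 2 = 1} = 2 ^ d + 2 ^ (k - 1) ∨
        Nat.card {x : G // x ^ 2 = 1} + 2 ^ (k - 1) = 2 ^ d) := by
  classical
  have : Fact (Nat.Prime 2) := ⟨Nat.prime_two⟩
  have : Fintype G := Fintype.ofFinite G
  obtain ⟨z, hq, hmem⟩ := quad_setting hG hΦ
  have hcardG : Nat.card G = 2 ^ (d + 1) := by
    rw [← Subgroup.card_mul_index (frattini G), hΦ, hd, pow_succ, mul_comm]
  have hZp : IsPGroup 2 (Subgroup.center G) := hG.to_subgroup _
  obtain ⟨c, hc⟩ := IsPGroup.iff_card.mp hZp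
  have hzZ : z ∈ Subgroup.center G := by
    rw [Subgroup.mem_center_iff]; exact hq.central
  have hc1 : 1 ≤ c := by
    rcases Nat.eq_zero_or_pos c with h0 | h0
    · exfalso
      rw [h0, pow_zero] at hc
      have := (Subgroup.card_eq_one.mp hc)
      rw [this, Subgroup.mem_bot] at hzZ
      exact hq.ne_one hzZ
    · exact h0
  have hcd : c ≤ d + 1 := by
    have h1 : Nat.card (Subgroup.center G) ∣ Nat.card G := Subgroup.card_subgroup_dvd_card _
    rw [hc, hcardG] at h1
    exact (Nat.pow_dvd_pow_iff_le_right (by norm_num)).mp h1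
  have hS := sum_sqSign_eq (G := G)
  have hSS := hq.sq_sum_sqSign
  have hFG : (Fintype.card G : ℤ) = 2 ^ (d + 1) := by
    rw [← Nat.card_eq_fintype_card, hcardG]; push_cast; rfl
  rw [hFG] at hS hSS
  obtain ⟨N0, hN0⟩ : ∃ N0 : ℕ, N0 = Nat.card {x : G // x ^ 2 = 1} := ⟨_, rfl⟩
  rw [← hN0] at hS ⊢
  obtain ⟨S, hSdef⟩ : ∃ S : ℤ, S = ∑ x : G, sqSign x := ⟨_, rfl⟩
  rw [← hSdef] at hS hSS
  rcases hq.sum_center with ⟨hT, hall⟩ | hT
  · right
    have hFZ : (Fintype.card (Subgroup.center G) : ℤ) = 2 ^ c := by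
      rw [← Nat.card_eq_fintype_card, hc]; push_cast; rfl
    rw [hT, hFZ, ← pow_add] at hSS
    have hcd' : c ≤ d := by
      by_contra hlt
      have hceq : c = d + 1 := by omega
      have htop : Subgroup.center G = ⊤ := by
        apply Subgroup.eq_top_of_card_eq
        rw [hc, hcardG, hceq]
      have hfr : frattini G ≠ ⊥ := by
        intro hb
        rw [hb] at hΦ
        simp at hΦ
      obtain ⟨t, ht⟩ := exists_sq_ne_one_of_frattini_ne_bot hfr
      exact ht (hall t (htop ▸ Subgroup.mem_top t))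
    -- natAbs
    have hnat : S.natAbs ^ 2 = 2 ^ (d + 1 + c) := by
      have := congrArg Int.natAbs hSS
      rw [Int.natAbs_pow, Int.natAbs_pow] at this
      simpa using this
    have hdvd : S.natAbs ∣ 2 ^ (d + 1 + c) := by
      rw [← hnat, pow_two]; exact dvd_mul_right _ _
    obtain ⟨k, -, hk⟩ := (Nat.dvd_prime_pow Nat.prime_two).mp hdvd
    have h2k : 2 * k = d + 1 + c := by
      rw [hk, ← pow_mul] at hnat
      have := Nat.pow_right_injective (le_refl 2) hnat
      omega
    refine ⟨c, k, hc, hc1, hcd', h2k, ?_⟩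
    have hk1 : 1 ≤ k := by omega
    obtain ⟨A, hA⟩ : ∃ A : ℕ, A = 2 ^ d := ⟨_, rfl⟩
    obtain ⟨B, hB⟩ : ∃ B : ℕ, B = 2 ^ (k - 1) := ⟨_, rfl⟩
    have hA2 : (2 : ℤ) ^ (d + 1) = 2 * (A : ℤ) := by rw [hA, pow_succ]; push_cast; ring
    have hB2 : (2 : ℕ) ^ k = 2 * B := by
      rw [hB, ← pow_succ']; congr 1; omega
    rw [← hA, ← hB]
    rw [hA2] at hS
    rcases Int.natAbs_eq S with hpos | hneg
    · left
      rw [hk, hB2] at hpos
      push_cast at hpos
      omega
    · right
      rw [hk, hB2] at hneg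
      push_cast at hneg
      omega
  · left
    rw [hT, mul_zero] at hSS
    have hS0 : S = 0 := by
      have := pow_eq_zero_iff (n := 2) (by norm_num) |>.mp hSS
      exact this
    rw [hS0] at hS
    have hA2 : (2 : ℤ) ^ (d + 1) = 2 * ((2 ^ d : ℕ) : ℤ) := by rw [pow_succ]; push_cast; ring
    rw [hA2] at hS
    omega


/-- Let G be a finite 2-group whose Frattini subgroup Φ(G) has order 2, with |G : Φ(G)| = 2^d, and let j be the number of elements x of G with x² = 1. Then j = 2^d, or j = 2^d + 2^(d−r) or j = 2^d − 2^(d−r) for some positive integer r with 2r ≤ d. Moreover if d = 2r and j is 2^d + 2^r or 2^d − 2^r, then G is extraspecial. -/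
theorem result {G : Type*} [Group G] [Finite G] (hG : IsPGroup 2 G) (hΦ : Nat.card (frattini G) = 2) (d : ℕ) (hd : (frattini G).index = 2 ^ d) : (Nat.card {x : G // x ^ 2 = 1} = 2 ^ d ∨ ∃ r : ℕ, 1 ≤ r ∧ 2 * r ≤ d ∧ (Nat.card {x : G // x ^ 2 = 1} = 2 ^ d + 2 ^ (d - r) ∨ Nat.card {x : G // x ^ 2 = 1} + 2 ^ (d - r) = 2 ^ d)) ∧ (∀ r : ℕ, d = 2 * r → (Nat.card {x : G // x ^ 2 = 1} = 2 ^ d + 2 ^ r ∨ Nat.card {x : G // x ^ 2 = 1} + 2 ^ r = 2 ^ d) → Cfsg.IsExtraspecial 2 G) := by
  have : Fact (Nat.Prime 2) := ⟨Nat.prime_two⟩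
  have hkey := key hG hΦ d hd
  constructor
  · rcases hkey with h | ⟨c, k, hc, hc1, hcd, h2k, hN⟩
    · exact Or.inl h
    · right
      refine ⟨d + 1 - k, by omega, by omega, ?_⟩
      have : d - (d + 1 - k) = k - 1 := by omega
      rw [this]; exact hN
  · intro r hdr hN
    have hpos : ∀ m : ℕ, 0 < 2 ^ m := fun m => Nat.pos_of_ne_zero (by positivity)
    rcases hkey with h | ⟨c, k, hc, hc1, hcd, h2k, hN'⟩
    · exfalso
      have := hpos r
      omega
    · have hkr : k - 1 = r := by
        have h1 : 2 ^ (k - 1) = 2 ^ r := by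
          have := hpos r
          have := hpos (k - 1)
          rcases hN with h | h <;> rcases hN' with h' | h' <;> omega
        exact Nat.pow_right_injective (le_refl 2) h1
      have hc_eq : c = 1 := by omega
      rw [hc_eq, pow_one] at hc
      -- extraspecial
      obtain ⟨z, hq, hmem⟩ := quad_setting hG hΦ
      have hle : frattini G ≤ Subgroup.center G := by
        intro x hx
        rcases (hmem x).mp hx with rfl | rfl
        · exact one_mem _
        · rw [Subgroup.mem_center_iff]; exact hq.central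
      have hfr : frattini G = Subgroup.center G :=
        Subgroup.eq_of_le_of_card_ge hle (by rw [hc, hΦ])
      have hcardG : Nat.card G = 2 ^ (d + 1) := by
        rw [← Subgroup.card_mul_index (frattini G), hΦ, hd, pow_succ, mul_comm]
      have hco : commutator G = Subgroup.center G := by
        have hle2 : commutator G ≤ Subgroup.center G :=
          hfr ▸ Cfsg.Agent.Lib.Helper1.IsPGroup.commutator_le_frattini hG
        apply Subgroup.eq_of_le_of_card_ge hle2
        rw [hc]
        have hne : commutator G ≠ ⊥ := by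
          intro hb
          have htop := (_root_.commutator_eq_bot_iff_center_eq_top (G := G)).mp hb
          have : Nat.card (Subgroup.center G) = Nat.card G := by rw [htop, Subgroup.card_top]
          rw [hc, hcardG] at this
          have h4 : 2 ^ (d + 1) = 2 ^ 1 := by rw [pow_one]; exact this.symm
          have := Nat.pow_right_injective (le_refl 2) h4
          omega
        have hdv : Nat.card (commutator G) ∣ 2 := by
          rw [← hc]; exact Subgroup.card_dvd_of_le hle2
        rcases (Nat.dvd_prime Nat.prime_two).mp hdv with h1 | h2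
        · exact absurd (Subgroup.card_eq_one.mp h1) hne
        · rw [h2]
      exact ⟨⟨hG, hfr, hco⟩, hc⟩

end Cfsg.Agent.S3772
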