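import Cfsg.Statements.S3774
import Mathlib
-- import your own Cfsg.Agent.* helpers here

set_option autoImplicit false
open Cfsg

namespace Cfsg.Agent.S3774

/-- number theory: `2^n - 1 ∣ 2^M - 1` with `n ≥ 1` gives `n ∣ M`. -/
theorem dvd_of_mersenne_dvd {n M : ℕ} (h : 2 ^ n - 1 ∣ 2 ^ M - 1) : n ∣ M := by
  have h1 : Nat.gcd (2 ^ n - 1) (2 ^ M - 1) = 2 ^ n - 1 := Nat.gcd_eq_left h
  rw [Nat.pow_sub_one_gcd_pow_sub_one] at h1
  have h2 : 1 ≤ 2 ^ (Nat.gcd n M) := Nat.one_le_two_pow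
  have h3 : 1 ≤ 2 ^ n := Nat.one_le_two_pow
  have h4 : 2 ^ (Nat.gcd n M) = 2 ^ n := by omega
  have h5 : Nat.gcd n M = n := Nat.pow_right_injective (le_refl 2) h4
  rw [← h5]
  exact Nat.gcd_dvd_right n M

/-- fiber counting -/
theorem card_eq_mul_of_fibers {α β : Type*} [Finite α] [Finite β] (f : α → β) (r : ℕ)
    (h : ∀ b : β, Nat.card {a : α // f a = b} = r) : Nat.card α = Nat.card β * r := by
  classical
  haveI := Fintype.ofFinite α
  haveI := Fintype.ofFinite β
  rw [Nat.card_congr (Equiv.sigmaFiberEquiv f).symm, Nat.card_sigma]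
  simp only [h, Finset.sum_const, Finset.card_univ, smul_eq_mul, Nat.card_eq_fintype_card]


/-- removing one point -/
theorem card_ne {A : Type*} [Finite A] (a : A) : Nat.card {x : A // x ≠ a} = Nat.card A - 1 := by
  classical
  haveI := Fintype.ofFinite A
  rw [Nat.card_eq_fintype_card, Nat.card_eq_fintype_card, Fintype.card_subtype_compl,
    Fintype.card_subtype_eq]

/-- the involution in `⟨x⟩` -/
theorem orderOf_pow_half {G : Type*} [Group G] (hG : IsPGroup 2 G) {x : G} (hx : x ≠ 1) :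
    orderOf (x ^ (orderOf x / 2)) = 2 := by
  obtain ⟨k, hk⟩ := (IsPGroup.iff_orderOf.mp hG) x
  have hk0 : k ≠ 0 := by
    intro h0
    rw [h0, pow_zero, orderOf_eq_one_iff] at hk
    exact hx hk
  have h2 : 2 ∣ orderOf x := by rw [hk]; exact dvd_pow_self 2 hk0
  have hne : orderOf x ≠ 0 := by rw [hk]; positivity
  exact orderOf_pow_orderOf_div hne h2


/-- Let G be a nontrivial finite 2-group whose automorphism group permutes the involutions of G transitively. Then every involution of G is central, so that the involutions together with 1 form the subgroup Ω₁(Z(G)), and if this subgroup has order q then |G| is a power of q. -/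
theorem result {G : Type*} [Group G] [Finite G] [Nontrivial G] (hG : IsPGroup 2 G) (htrans : ∀ x y : G, x ≠ 1 → x ^ 2 = 1 → y ≠ 1 → y ^ 2 = 1 → ∃ a : MulAut G, a x = y) : (∀ x : G, x ^ 2 = 1 → x ∈ Subgroup.center G) ∧ ∃ m : ℕ, Nat.card G = Nat.card {z : G // z ^ 2 = 1} ^ m := by
  classical
  haveI : Fact (Nat.Prime 2) := ⟨Nat.prime_two⟩
  -- a central involution
  obtain ⟨t, htZ, ht1, ht2⟩ : ∃ t : G, t ∈ Subgroup.center G ∧ t ≠ 1 ∧ t ^ 2 = 1 := by
    haveI : Nontrivial (Subgroup.center G) := hG.center_nontrivial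
    obtain ⟨k, hk⟩ := IsPGroup.iff_card.mp (hG.to_subgroup (Subgroup.center G))
    have hk0 : k ≠ 0 := by
      intro h0
      rw [h0, pow_zero] at hk
      have := (Subgroup.card_eq_one.mp hk)
      exact absurd this (Subgroup.nontrivial_iff_ne_bot _ |>.mp inferInstance)
    have h2 : 2 ∣ Nat.card (Subgroup.center G) := by
      rw [hk]; exact dvd_pow_self 2 hk0
    obtain ⟨z, hz⟩ := exists_prime_orderOf_dvd_card' 2 h2
    refine ⟨(z : G), z.2, ?_, ?_⟩
    · intro h1
      have : z = 1 := Subtype.ext h1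
      rw [this, orderOf_one] at hz
      omega
    · have := pow_orderOf_eq_one z
      rw [hz] at this
      exact_mod_cast congrArg Subtype.val this
  -- part 1
  have hcen : ∀ x : G, x ^ 2 = 1 → x ∈ Subgroup.center G := by
    intro x hx
    by_cases hx1 : x = 1
    · rw [hx1]; exact Subgroup.one_mem _
    · obtain ⟨a, ha⟩ := htrans t x ht1 ht2 hx1 hx
      rw [← ha]
      have hchar : (Subgroup.center G).Characteristic := inferInstance
      exact (Subgroup.characteristic_iff_map_le.mp hchar) a ⟨t, htZ, rfl⟩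
  refine ⟨hcen, ?_⟩
  -- the subgroup of elements with `z^2 = 1`
  let Ω : Subgroup G :=
    { carrier := {z | z ^ 2 = 1}
      one_mem' := one_pow 2
      mul_mem' := by
        intro a b ha hb
        have hc : Commute a b := ((Subgroup.mem_center_iff.mp (hcen a ha)) b).symm
        show (a * b) ^ 2 = 1
        rw [hc.mul_pow, ha, hb, one_mul]
      inv_mem' := by
        intro a ha
        show (a⁻¹) ^ 2 = 1
        rw [inv_pow, ha, inv_one] }
  have hΩ : ∀ z : G, z ∈ Ω ↔ z ^ 2 = 1 := fun z => Iff.rfl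
  have hq : Nat.card {z : G // z ^ 2 = 1} = Nat.card Ω :=
    Nat.card_congr (Equiv.subtypeEquivRight (fun z => (hΩ z).symm))
  have hfmem : ∀ x : {x : G // x ≠ 1}, x.1 ^ (orderOf x.1 / 2) ∈ Ω := by
    intro x
    show (x.1 ^ (orderOf x.1 / 2)) ^ 2 = 1
    have h2 := orderOf_pow_half hG x.2
    have h3 := pow_orderOf_eq_one (x.1 ^ (orderOf x.1 / 2))
    rw [h2] at h3
    exact h3
  have hfne : ∀ x : {x : G // x ≠ 1}, (⟨x.1 ^ (orderOf x.1 / 2), hfmem x⟩ : Ω) ≠ 1 := by
    intro x h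
    have h1 : x.1 ^ (orderOf x.1 / 2) = 1 := congrArg Subtype.val h
    have := orderOf_pow_half hG x.2
    rw [h1, orderOf_one] at this
    omega
  let f : {x : G // x ≠ 1} → {s : Ω // s ≠ 1} := fun x =>
    ⟨⟨x.1 ^ (orderOf x.1 / 2), hfmem x⟩, hfne x⟩
  have hf : ∀ x, ((f x).1 : G) = x.1 ^ (orderOf x.1 / 2) := fun x => rfl
  -- fibers
  have hfib : ∀ s s' : {s : Ω // s ≠ 1},
      Nat.card {x // f x = s} ≤ Nat.card {x // f x = s'} := by
    intro s s'
    have hs1 : (s.1 : G) ≠ 1 := fun h => s.2 (Subtype.ext h)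
    have hs'1 : (s'.1 : G) ≠ 1 := fun h => s'.2 (Subtype.ext h)
    obtain ⟨a, ha⟩ := htrans s.1.1 s'.1.1 hs1 s.1.2 hs'1 s'.1.2
    have hax : ∀ x : {x : G // x ≠ 1}, a x.1 ≠ 1 := by
      intro x h
      apply x.2
      have := a.injective (h.trans (map_one a).symm)
      exact this
    have key : ∀ x : {x // f x = s}, f ⟨a x.1.1, hax x.1⟩ = s' := by
      intro x
      apply Subtype.ext
      apply Subtype.ext
      rw [hf]
      show (a x.1.1) ^ (orderOf (a x.1.1) / 2) = s'.1.1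
      rw [MulEquiv.orderOf_eq, ← map_pow, ← hf x.1, x.2, ha]
    apply Nat.card_le_card_of_injective
      (fun x : {x // f x = s} => (⟨⟨a x.1.1, hax x.1⟩, key x⟩ : {x // f x = s'}))
    intro x y hxy
    have h1 : a x.1.1 = a y.1.1 := congrArg (fun z : {x // f x = s'} => z.1.1) hxy
    exact Subtype.ext (Subtype.ext (a.injective h1))
  -- the base point of `Ω`
  have htΩ : (⟨t, ht2⟩ : Ω) ≠ 1 := fun h => ht1 (congrArg Subtype.val h)
  have hcount := card_eq_mul_of_fibers f (Nat.card {x // f x = ⟨⟨t, ht2⟩, htΩ⟩})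
    (fun s => le_antisymm (hfib _ _) (hfib _ _))
  rw [card_ne, card_ne] at hcount
  -- orders
  obtain ⟨M, hM⟩ := IsPGroup.iff_card.mp hG
  obtain ⟨n, hn⟩ := IsPGroup.iff_card.mp (hG.to_subgroup Ω)
  rw [hM, hn] at hcount
  have hdvd : 2 ^ n - 1 ∣ 2 ^ M - 1 := ⟨_, hcount⟩
  have hnM := dvd_of_mersenne_dvd hdvd
  obtain ⟨m, hm⟩ := hnM
  refine ⟨m, ?_⟩
  rw [hq, hM, hn, hm, pow_mul]

end Cfsg.Agent.S3774
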