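import Cfsg.Statements.S3780
import Mathlib
import Cfsg.Agent.Lib.Helper1.PGroup

set_option autoImplicit false
open Cfsg

namespace Cfsg.Agent.S3780

def itr {A : Type*} [AddCommGroup A] (f : A →+ A) : ℕ → (A →+ A)
  | 0 => AddMonoidHom.id A
  | (n+1) => (itr f n).comp f

def toEnd {A : Type*} [AddCommGroup A] (f : A →+ A) : AddMonoid.End A := f

theorem toEnd_apply {A : Type*} [AddCommGroup A] (f : A →+ A) (x : A) : toEnd f x = f x := rfl

theorem itr_apply {A : Type*} [AddCommGroup A] (f : A →+ A) (i : ℕ) (x : A) :
    itr f i x = ((toEnd f) ^ i) x := by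
  induction i generalizing x with
  | zero => simp [itr]
  | succ i ih => simp [itr, pow_succ, ih, toEnd_apply]

theorem card_ker_itr_le {A : Type*} [AddCommGroup A] [Finite A] (f : A →+ A) (i : ℕ) :
    Nat.card (itr f i).ker ≤ Nat.card f.ker ^ i := by
  induction i with
  | zero =>
    have : (itr f 0).ker = ⊥ := by
      ext x
      simp [itr]
    rw [this]
    simp
  | succ i ih =>
    have hmem : ∀ x : A, x ∈ (itr f (i + 1)).ker → f x ∈ (itr f i).ker := by
      intro x hx
      rw [AddMonoidHom.mem_ker] at hx ⊢
      exact hx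
    let g : ↥((itr f (i + 1)).ker) →+ ↥((itr f i).ker) :=
      { toFun := fun x => ⟨f x.1, hmem x.1 x.2⟩
        map_zero' := by ext; simp
        map_add' := by intro x y; ext; simp }
    have h1 : Nat.card g.ker * Nat.card g.range = Nat.card ↥((itr f (i + 1)).ker) := by
      rw [← AddSubgroup.index_ker, AddSubgroup.card_mul_index]
    have h2 : Nat.card g.ker ≤ Nat.card f.ker := by
      apply Nat.card_le_card_of_injective (fun x : g.ker => (⟨x.1.1, by
        have := x.2
        rw [AddMonoidHom.mem_ker] at this ⊢
        have h3 := congrArg Subtype.val this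
        simpa [g] using h3⟩ : f.ker))
      intro x y hxy
      have := congrArg Subtype.val hxy
      exact Subtype.ext (Subtype.ext this)
    have h3 : Nat.card g.range ≤ Nat.card ↥((itr f i).ker) :=
      Nat.card_le_card_of_injective (fun x => x.1) Subtype.val_injective
    calc Nat.card ↥((itr f (i + 1)).ker) = Nat.card g.ker * Nat.card g.range := h1.symm
      _ ≤ Nat.card f.ker * Nat.card f.ker ^ i :=
          Nat.mul_le_mul h2 (h3.trans ih)
      _ = Nat.card f.ker ^ (i + 1) := by ring

/-- an additive group of exponent `p` with an automorphism `a`, `a^p = 1`: `|A| ≤ |C_A(a)|^p` -/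
theorem card_le_card_fixed_pow {A : Type*} [AddCommGroup A] [Finite A] {p : ℕ} (hp : p.Prime)
    (hA : ∀ x : A, p • x = 0) (a : A →+ A) (ha : (toEnd a) ^ p = 1) :
    Nat.card A ≤ Nat.card {x : A // a x = x} ^ p := by
  rcases subsingleton_or_nontrivial A with hs | hn
  · have : Nat.card A = 1 := Nat.card_eq_one_iff_unique.mpr ⟨hs, ⟨0⟩⟩
    rw [this]
    have : Nat.card {x : A // a x = x} = 1 := by
      haveI : Unique {x : A // a x = x} := ⟨⟨⟨0, by simp⟩⟩, fun x => Subsingleton.elim _ _⟩
      exact Nat.card_unique
    rw [this]; simp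
  · haveI : Nontrivial (AddMonoid.End A) := by
      obtain ⟨x, hx⟩ := exists_ne (0 : A)
      refine ⟨⟨0, 1, fun h => hx ?_⟩⟩
      have := congrArg (fun g : AddMonoid.End A => g x) h
      simpa using this.symm
    haveI : Fact p.Prime := ⟨hp⟩
    haveI : CharP (AddMonoid.End A) p := by
      rw [CharP.charP_iff_prime_eq_zero hp]
      ext x
      simp [hA]
    set f : A →+ A := a - AddMonoidHom.id A with hf
    have hfp : (toEnd f) ^ p = 0 := by
      have h1 : toEnd f = toEnd a - 1 := rfl
      rw [h1, sub_pow_char_of_commute p (Commute.one_right _), ha, one_pow, sub_self]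
    have hker : (itr f p).ker = ⊤ := by
      ext x
      simp only [AddMonoidHom.mem_ker, AddSubgroup.mem_top, iff_true]
      rw [itr_apply, hfp]
      rfl
    have h1 := card_ker_itr_le f p
    rw [hker] at h1
    have h2 : Nat.card (⊤ : AddSubgroup A) = Nat.card A := by
      simp
    rw [h2] at h1
    refine h1.trans (Nat.pow_le_pow_left ?_ p)
    apply Nat.card_le_card_of_injective (fun x : f.ker => (⟨x.1, by
      have h5 : f x.1 = 0 := x.2
      have h6 : f x.1 = a x.1 - x.1 := rfl
      rw [h6, sub_eq_zero] at h5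
      exact h5⟩ : {x : A // a x = x}))
    intro x y hxy
    have := congrArg Subtype.val hxy
    exact Subtype.ext this



theorem exists_finset_sup_eq_top {V : Type*} [Group V] [Finite V] {p : ℕ} [Fact p.Prime]
    (hV : IsPGroup p V) :
    ∀ (k : ℕ) (H : Subgroup V), H.index = k →
      ∃ S : Finset V, Subgroup.closure (S : Set V) ⊔ H = ⊤ ∧ p ^ S.card ≤ H.index := by
  classical
  have hp : p.Prime := Fact.out
  intro k
  induction k using Nat.strong_induction_on with
  | _ k ih =>
    intro H hk
    by_cases hH : H = ⊤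
    · refine ⟨∅, ?_, ?_⟩
      · rw [hH]; simp
      · rw [hH]; simp
    · obtain ⟨x, hx⟩ : ∃ x : V, x ∉ H := by
        by_contra hcon
        push Not at hcon
        exact hH (eq_top_iff.mpr fun x _ => hcon x)
      set H' := H ⊔ Subgroup.zpowers x with hH'
      have hle : H ≤ H' := le_sup_left
      have hxH' : x ∈ H' := (le_sup_right : Subgroup.zpowers x ≤ H') (Subgroup.mem_zpowers x)
      have hlt : H < H' := lt_of_le_of_ne hle (fun h => hx (h ▸ hxH'))
      have hidx : H'.index < H.index := Subgroup.index_strictAnti hlt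
      have hmul : H.relIndex H' * H'.index = H.index := Subgroup.relIndex_mul_index hle
      obtain ⟨j, hj⟩ := (hV.to_subgroup H').index (H.subgroupOf H')
      have hj' : H.relIndex H' = p ^ j := hj
      have hj0 : j ≠ 0 := by
        rintro rfl
        rw [pow_zero, Subgroup.relIndex_eq_one] at hj'
        exact hx (hj' hxH')
      have hpl : p ≤ H.relIndex H' := by
        rw [hj']
        exact Nat.le_self_pow hj0 p
      obtain ⟨S, hS1, hS2⟩ := ih H'.index (hk ▸ hidx) H' rfl
      refine ⟨insert x S, ?_, ?_⟩
      · rw [Finset.coe_insert, Set.insert_eq, Subgroup.closure_union, ← Subgroup.zpowers_eq_closure]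
        rw [← hS1, hH']
        rw [sup_comm (Subgroup.zpowers x), sup_assoc, sup_comm (Subgroup.zpowers x)]
      · calc p ^ (insert x S).card ≤ p ^ (S.card + 1) :=
              Nat.pow_le_pow_right hp.pos (Finset.card_insert_le x S)
          _ = p * p ^ S.card := by ring
          _ ≤ H.relIndex H' * H'.index := Nat.mul_le_mul hpl hS2
          _ = H.index := hmul

/-- Let V be a finite abelian p-group and α an automorphism of V of order p whose fixed-point subgroup has order p^n. Then V can be generated by pn elements: some subset of V with at most pn elements generates V. -/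
theorem result {V : Type*} [CommGroup V] [Finite V] {p : ℕ} [Fact p.Prime] (hV : IsPGroup p V) (α : MulAut V) (hα : orderOf α = p) (n : ℕ) (hfix : Nat.card {v : V // α v = v} = p ^ n) : ∃ S : Finset V, S.card ≤ p * n ∧ Subgroup.closure (S : Set V) = ⊤ := by
  classical
  have hp : p.Prime := Fact.out
  set π : V →* V := powMonoidHom p with hπ
  set W : Subgroup V := π.ker with hW
  have hWmem : ∀ w : V, w ∈ W ↔ w ^ p = 1 := by
    intro w
    rw [hW, MonoidHom.mem_ker, hπ, powMonoidHom_apply]
  have hαW : ∀ w : V, w ∈ W → α w ∈ W := by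
    intro w hw
    rw [hWmem] at hw ⊢
    rw [← map_pow, hw, map_one]
  let β : ↥W →* ↥W := (α.toMonoidHom.comp W.subtype).codRestrict W (fun w => hαW w.1 w.2)
  have hβ : ∀ w : ↥W, (β w : V) = α w.1 := fun w => rfl
  let a : Additive ↥W →+ Additive ↥W := MonoidHom.toAdditive β
  have haβ : ∀ x : Additive ↥W, a x = Additive.ofMul (β (Additive.toMul x)) := fun x => rfl
  have hA : ∀ x : Additive ↥W, p • x = 0 := by
    intro x
    have h1 : p • x = Additive.ofMul ((Additive.toMul x) ^ p) := rfl
    rw [h1]
    have h2 : (Additive.toMul x) ^ p = 1 := by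
      apply Subtype.ext
      rw [Subgroup.coe_pow, Subgroup.coe_one]
      exact (hWmem _).mp (Additive.toMul x).2
    rw [h2]; rfl
  have hpow : ∀ (k : ℕ) (x : Additive ↥W),
      ((Additive.toMul ((⇑a)^[k] x) : ↥W) : V) = (α ^ k) ((Additive.toMul x : ↥W) : V) := by
    intro k
    induction k with
    | zero => intro x; simp
    | succ k ih =>
      intro x
      rw [Function.iterate_succ_apply, ih, pow_succ, MulAut.mul_apply]
      rfl
  have ha : toEnd a ^ p = 1 := by
    ext x
    have h1 := hpow p x
    have h2 : α ^ p = 1 := by rw [← hα]; exact pow_orderOf_eq_one α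
    rw [h2, MulAut.one_apply] at h1
    exact h1
  have h1 := card_le_card_fixed_pow hp hA a ha
  have h2 : Nat.card {x : Additive ↥W // a x = x} ≤ p ^ n := by
    rw [← hfix]
    apply Nat.card_le_card_of_injective (fun x : {x : Additive ↥W // a x = x} =>
      (⟨((Additive.toMul x.1 : ↥W) : V), by
        have h5 := x.2
        rw [haβ] at h5
        have h6 : β (Additive.toMul x.1) = Additive.toMul x.1 := Additive.ofMul.injective h5
        have h7 := congrArg Subtype.val h6
        rw [hβ] at h7
        exact h7⟩ : {v : V // α v = v}))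
    intro x y hxy
    have h5 := congrArg Subtype.val hxy
    apply Subtype.ext
    apply Additive.toMul.injective
    exact Subtype.ext h5
  have h3 : Nat.card ↥W ≤ p ^ (p * n) := by
    have h4 : Nat.card (Additive ↥W) = Nat.card ↥W := Nat.card_congr Additive.toMul
    rw [← h4]
    calc Nat.card (Additive ↥W) ≤ Nat.card {x : Additive ↥W // a x = x} ^ p := h1
      _ ≤ (p ^ n) ^ p := Nat.pow_le_pow_left h2 p
      _ = p ^ (p * n) := by rw [← pow_mul, mul_comm]
  set M : Subgroup V := π.range with hM
  have h4 : M.index = Nat.card ↥W := by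
    have e1 : Nat.card ↥W * W.index = Nat.card V := Subgroup.card_mul_index W
    have e2 : W.index = Nat.card ↥M := Subgroup.index_ker π
    have e3 : Nat.card ↥M * M.index = Nat.card V := Subgroup.card_mul_index M
    have e4 : 0 < Nat.card ↥M := Nat.card_pos
    rw [e2, ← e3, mul_comm] at e1
    exact (Nat.eq_of_mul_eq_mul_left e4 e1).symm
  have hMF : M ≤ frattini V := by
    rintro x ⟨y, rfl⟩
    rw [hπ, powMonoidHom_apply]
    exact Cfsg.Agent.Lib.Helper1.IsPGroup.pow_mem_frattini hV y
  obtain ⟨S, hS1, hS2⟩ := exists_finset_sup_eq_top hV M.index M rfl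
  refine ⟨S, ?_, ?_⟩
  · rw [h4] at hS2
    exact (Nat.pow_le_pow_iff_right hp.one_lt).mp (hS2.trans h3)
  · apply frattini_nongenerating
    apply top_le_iff.mp
    rw [← hS1]
    exact sup_le_sup_left hMF _

end Cfsg.Agent.S3780
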