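import Cfsg.Statements.S3781
import Cfsg.Agent.Lib.Helper22.Commutator

set_option autoImplicit false
open Cfsg

namespace Cfsg.Agent.S3781

open Subgroup

/-- the chain `H, [H,G], [[H,G],G], …` -/
def chain {G : Type*} [Group G] (H : Subgroup G) : ℕ → Subgroup G
  | 0 => H
  | j + 1 => ⁅chain H j, (⊤ : Subgroup G)⁆

theorem chain_normal {G : Type*} [Group G] (H : Subgroup G) [hH : H.Normal] (j : ℕ) :
    (chain H j).Normal := by
  induction j with
  | zero => exact hH
  | succ j ih =>
    have := ih
    change (⁅chain H j, (⊤ : Subgroup G)⁆).Normal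
    infer_instance

theorem chain_succ_le {G : Type*} [Group G] (H : Subgroup G) [H.Normal] (j : ℕ) :
    chain H (j + 1) ≤ chain H j := by
  have := chain_normal H j
  exact Subgroup.commutator_le_left _ _

theorem chain_shift {G : Type*} [Group G] (H : Subgroup G) (j : ℕ) :
    chain (chain H 1) j = chain H (j + 1) := by
  induction j with
  | zero => rfl
  | succ j ih =>
    change ⁅chain (chain H 1) j, (⊤ : Subgroup G)⁆ = ⁅chain H (j + 1), (⊤ : Subgroup G)⁆
    rw [ih]

theorem commutator_lcs_le_chain {G : Type*} [Group G] (j : ℕ) :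
    ∀ (H : Subgroup G) [H.Normal],
      ⁅H, (⊤ : Subgroup G).lowerCentralSeries j⁆ ≤ chain H (j + 1) := by
  induction j with
  | zero =>
    intro H _
    exact le_refl _
  | succ j ih =>
    intro H hH
    have hN : (chain H (j + 2)).Normal := chain_normal H (j + 2)
    have h1N : (chain H 1).Normal := chain_normal H 1
    rw [Subgroup.lowerCentralSeries_succ, Subgroup.commutator_comm]
    apply Cfsg.Agent.Lib.Helper22.three_subgroups_normal
    · -- ⁅⁅⊤, H⁆, lcs j⁆ ≤ N
      rw [Subgroup.commutator_comm ⊤ H]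
      have := ih (chain H 1)
      rw [chain_shift] at this
      exact this
    · -- ⁅⁅H, lcs j⁆, ⊤⁆ ≤ N
      exact Subgroup.commutator_mono (ih H) (le_refl _)

theorem commutator_top_lt {G : Type*} [Group G] [hnil : Group.IsNilpotent G] (H : Subgroup G)
    [H.Normal] (hne : H ≠ ⊥) : ⁅H, (⊤ : Subgroup G)⁆ < H := by
  refine lt_of_le_of_ne (Subgroup.commutator_le_left _ _) (fun heq => hne ?_)
  obtain ⟨k, hk⟩ := Subgroup.nilpotent_iff_lowerCentralSeries.mp hnil
  have : ∀ k, H ≤ (⊤ : Subgroup G).lowerCentralSeries k := by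
    intro k
    induction k with
    | zero => exact le_top
    | succ k ih =>
      rw [Subgroup.lowerCentralSeries_succ, ← heq]
      exact Subgroup.commutator_mono ih (le_refl _)
  exact le_bot_iff.mp (hk ▸ this k)

theorem pow_le_relIndex_chain {G : Type*} [Group G] [Finite G] {p : ℕ} [hp : Fact p.Prime]
    (hG : IsPGroup p G) (H : Subgroup G) [H.Normal] (n : ℕ) (hne : chain H n ≠ ⊥) :
    p ^ n ≤ (chain H n).relIndex H := by
  have hnil : Group.IsNilpotent G := hG.isNilpotent
  induction n with
  | zero =>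
    change _ ≤ H.relIndex H
    simp
  | succ n ih =>
    have hn : chain H n ≠ ⊥ := by
      intro h
      apply hne
      have := chain_succ_le H n
      rw [h] at this
      exact le_bot_iff.mp this
    have hN := chain_normal H n
    have hlt : chain H (n + 1) < chain H n := commutator_top_lt (chain H n) hn
    have hle : chain H n ≤ H := by
      clear ih hlt hn hne
      induction n with
      | zero => exact le_refl _
      | succ n ih2 =>
        have := chain_normal H n
        exact (chain_succ_le H n).trans (ih2 this)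
    have hmul := Subgroup.relIndex_mul_relIndex _ _ _ hlt.le hle
    rw [← hmul, pow_succ, mul_comm]
    refine Nat.mul_le_mul ?_ (ih hn)
    -- the index is a nontrivial power of p
    have hd : (chain H (n + 1)).relIndex (chain H n) ∣ Nat.card G :=
      (Subgroup.relIndex_dvd_card _ _).trans (Subgroup.card_subgroup_dvd_card _)
    obtain ⟨m, hm⟩ := IsPGroup.iff_card.mp hG
    rw [hm] at hd
    obtain ⟨t, _, ht⟩ := (Nat.dvd_prime_pow hp.out).mp hd
    have ht0 : t ≠ 0 := by
      rintro rfl
      rw [pow_zero, Subgroup.relIndex_eq_one] at ht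
      exact absurd ht (not_le_of_gt hlt)
    rw [ht]
    exact Nat.le_self_pow ht0 p

/-- Let G be a finite p-group and n ≥ 1, and write γ_1(G) = G, γ_{k+1}(G) = [γ_k(G), G], and likewise γ_k(N) for a subgroup N. Let N be a normal subgroup of G contained in γ_n(G). If i > 1 and γ_{i+1}(N) ≠ 1, then |γ_i(N) : γ_{i+1}(N)| ≥ p^n. -/
theorem result {G : Type*} [Group G] [Finite G] {p : ℕ} [Fact p.Prime] (hG : IsPGroup p G) (n : ℕ) (hn : 1 ≤ n) (N : Subgroup G) [N.Normal] (hN : N ≤ (⊤ : Subgroup G).lowerCentralSeries (n - 1)) (i : ℕ) (hi : 1 < i) (hne : N.lowerCentralSeries i ≠ ⊥) : p ^ n ≤ (N.lowerCentralSeries i).relIndex (N.lowerCentralSeries (i - 1)) := by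
  obtain ⟨i, rfl⟩ : ∃ i', i = i' + 1 := ⟨i - 1, by omega⟩
  obtain ⟨n, rfl⟩ : ∃ n', n = n' + 1 := ⟨n - 1, by omega⟩
  simp only [Nat.add_sub_cancel] at hN ⊢
  have hM : (N.lowerCentralSeries i).Normal := Cfsg.Agent.Lib.Helper22.lowerCentralSeries_normal N i
  have hL : N.lowerCentralSeries (i + 1) ≤ chain (N.lowerCentralSeries i) (n + 1) := by
    rw [Subgroup.lowerCentralSeries_succ]
    exact (Subgroup.commutator_mono (le_refl _) hN).trans
      (commutator_lcs_le_chain n (N.lowerCentralSeries i))
  have hcne : chain (N.lowerCentralSeries i) (n + 1) ≠ ⊥ := by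
    intro h
    rw [h] at hL
    exact hne (le_bot_iff.mp hL)
  have h1 := pow_le_relIndex_chain hG (N.lowerCentralSeries i) (n + 1) hcne
  have h2 : (chain (N.lowerCentralSeries i) (n + 1)).relIndex (N.lowerCentralSeries i) ∣
      (N.lowerCentralSeries (i + 1)).relIndex (N.lowerCentralSeries i) :=
    Subgroup.relIndex_dvd_of_le_left _ hL
  have h3 : (N.lowerCentralSeries (i + 1)).relIndex (N.lowerCentralSeries i) ≠ 0 := by
    intro h0
    have := Subgroup.relIndex_dvd_card (N.lowerCentralSeries (i + 1)) (N.lowerCentralSeries i)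
    rw [h0] at this
    exact (Nat.card_pos (α := N.lowerCentralSeries i)).ne' (Nat.eq_zero_of_zero_dvd this)
  exact h1.trans (Nat.le_of_dvd (Nat.pos_of_ne_zero h3) h2)

end Cfsg.Agent.S3781
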