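import Cfsg.Statements.S3783
import Mathlib
import Cfsg.Agent.Lib.Helper20.ExpPLenF

set_option autoImplicit false
open Cfsg

namespace Cfsg.Agent.S3783

/-- Let G be a finite p-soluble group in which, for every prime q ≠ p, the Sylow q-subgroups are abelian. If the Sylow p-subgroups of G have exponent dividing p^n, then G has p-length at most n. -/
theorem result {G : Type*} [Group G] [Finite G] {p : ℕ} [Fact p.Prime] (hG : Cfsg.IsPSolvable p G) (hab : ∀ (q : ℕ) [Fact q.Prime], q ≠ p → ∀ Q : Sylow q G, IsMulCommutative (Q : Subgroup G)) (n : ℕ) (hexp : ∀ (P : Sylow p G), ∀ x ∈ (P : Subgroup G), x ^ p ^ n = 1) : Cfsg.PLengthLE p n G := by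
  open Cfsg.Agent.Lib.Helper20.ExpPLen in
  apply plength_le_exp p n G hG
  · intro q hq hqp B hB
    haveI : Fact q.Prime := ⟨hq⟩
    obtain ⟨Q, hQ⟩ := hB.exists_le_sylow
    haveI := hab q hqp Q
    intro a ha b hb
    have h1 : (⟨a, hQ ha⟩ : ↥(Q : Subgroup G)) * ⟨b, hQ hb⟩ = ⟨b, hQ hb⟩ * ⟨a, hQ ha⟩ := mul_comm' _ _
    exact congrArg Subtype.val h1
  · intro x hx
    have hz : IsPGroup p (Subgroup.zpowers x) := by
      obtain ⟨j, hj⟩ := hx
      rintro ⟨w, hw⟩
      obtain ⟨k, rfl⟩ := Subgroup.mem_zpowers_iff.mp hw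
      refine ⟨j, Subtype.ext ?_⟩
      show (x ^ k) ^ p ^ j = 1
      rw [← zpow_natCast, ← zpow_mul, mul_comm, zpow_mul, zpow_natCast, hj, one_zpow]
    obtain ⟨P, hP⟩ := hz.exists_le_sylow
    exact hexp P x (hP (Subgroup.mem_zpowers x))

end Cfsg.Agent.S3783
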