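import Cfsg.Statements.S3784
import Mathlib

set_option autoImplicit false
open Cfsg

namespace Cfsg.Agent.S3784

theorem two_pow_dvd_add_one (x n k : ℕ) (hx : Odd x) (hn : Odd n) (h : 2 ^ k ∣ x ^ n + 1) :
    2 ^ k ∣ x + 1 := by
  have h2 : Prime (2 : ℤ) := Int.prime_two
  have hx' : ¬ (2 : ℤ) ∣ (x : ℤ) := by
    intro hd
    have : (2:ℕ) ∣ x := by exact_mod_cast hd
    exact (Nat.not_even_iff_odd.mpr hx) (even_iff_two_dvd.mpr this)
  have hn' : ¬ (2 : ℤ) ∣ (n : ℤ) := by
    intro hd
    have : (2:ℕ) ∣ n := by exact_mod_cast hd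
    exact (Nat.not_even_iff_odd.mpr hn) (even_iff_two_dvd.mpr this)
  have hxy : (2 : ℤ) ∣ (x : ℤ) - (-1) := by
    rw [sub_neg_eq_add]
    have : (2:ℕ) ∣ x + 1 := even_iff_two_dvd.mp hx.add_one
    exact_mod_cast this
  have key := emultiplicity_pow_sub_pow_of_prime h2 hxy hx' hn'
  rw [hn.neg_one_pow, sub_neg_eq_add, sub_neg_eq_add] at key
  have h3 : (2:ℤ)^k ∣ (x:ℤ)^n + 1 := by exact_mod_cast (Int.natCast_dvd_natCast.mpr h)
  rw [pow_dvd_iff_le_emultiplicity, key, ← pow_dvd_iff_le_emultiplicity] at h3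
  exact_mod_cast h3

theorem two_pow_dvd_sub_one (x n k : ℕ) (hx : Odd x) (hn : Odd n) (h : 2 ^ k ∣ x ^ n - 1) :
    2 ^ k ∣ x - 1 := by
  have h2 : Prime (2 : ℤ) := Int.prime_two
  have hx1 : 1 ≤ x := hx.pos
  have hxn1 : 1 ≤ x ^ n := Nat.one_le_pow _ _ hx1
  have hx' : ¬ (2 : ℤ) ∣ (x : ℤ) := by
    intro hd
    have : (2:ℕ) ∣ x := by exact_mod_cast hd
    exact (Nat.not_even_iff_odd.mpr hx) (even_iff_two_dvd.mpr this)
  have hn' : ¬ (2 : ℤ) ∣ (n : ℤ) := by
    intro hd
    have : (2:ℕ) ∣ n := by exact_mod_cast hd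
    exact (Nat.not_even_iff_odd.mpr hn) (even_iff_two_dvd.mpr this)
  have hxy : (2 : ℤ) ∣ (x : ℤ) - 1 := by
    have : (2:ℕ) ∣ x - 1 := even_iff_two_dvd.mp (Nat.Odd.sub_odd hx odd_one)
    have := Int.natCast_dvd_natCast.mpr this
    rwa [Nat.cast_sub hx1] at this
  have key := emultiplicity_pow_sub_pow_of_prime h2 hxy hx' hn'
  rw [one_pow] at key
  have h3 : (2:ℤ)^k ∣ (x:ℤ)^n - 1 := by
    have := Int.natCast_dvd_natCast.mpr h
    rw [Nat.cast_sub hxn1] at this
    exact_mod_cast this
  rw [pow_dvd_iff_le_emultiplicity, key, ← pow_dvd_iff_le_emultiplicity] at h3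
  have h4 : ((2 ^ k : ℕ) : ℤ) ∣ ((x - 1 : ℕ) : ℤ) := by
    rw [Nat.cast_sub hx1]; exact_mod_cast h3
  exact Int.natCast_dvd_natCast.mp h4

/-- Let p, q be primes and a, b positive integers with p^a = q^b + 1. Then either p = 2, b = 1, a is prime and q = 2^a − 1; or q = 2, a = 1, b is a power of 2 and p = 2^b + 1; or p^a = 9 and q^b = 8. -/
theorem result (p q a b : ℕ) (hp : p.Prime) (hq : q.Prime) (ha : 1 ≤ a) (hb : 1 ≤ b) (h : p ^ a = q ^ b + 1) : (p = 2 ∧ b = 1 ∧ a.Prime ∧ q + 1 = 2 ^ a) ∨ (q = 2 ∧ a = 1 ∧ (∃ m : ℕ, b = 2 ^ m) ∧ p = 2 ^ b + 1) ∨ (p ^ a = 9 ∧ q ^ b = 8) := by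
  rcases hp.eq_two_or_odd' with rfl | hpo
  · -- p = 2
    rcases hq.eq_two_or_odd' with rfl | hqo
    · exfalso
      have h1 : 2 ∣ 2 ^ a := dvd_pow_self 2 (by omega)
      have h2 : 2 ∣ 2 ^ b := dvd_pow_self 2 (by omega)
      omega
    · left
      rcases Nat.even_or_odd b with hbe | hbo
      · exfalso
        obtain ⟨c, rfl⟩ := hbe
        have hqc : Odd (q ^ c) := hqo.pow
        have h4 : (q ^ c) ^ 2 % 4 = 1 := by
          obtain ⟨k, hk⟩ := hqc
          rw [hk]
          have : (2 * k + 1) ^ 2 = 4 * (k * k + k) + 1 := by ring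
          rw [this]; omega
        have e : q ^ (c + c) = (q ^ c) ^ 2 := by ring
        rw [e] at h
        rcases Nat.lt_or_ge a 2 with ha2 | ha2
        · have ha1 : a = 1 := by omega
          subst ha1
          have h5 : (q ^ c) ^ 2 = 1 := by omega
          have hc : 1 ≤ c := by omega
          have h6 : q ^ 1 ≤ q ^ c := Nat.pow_le_pow_right hq.pos hc
          have h7 := hq.two_le
          rw [pow_one] at h6
          nlinarith
        · have h8 : 4 ∣ 2 ^ a := by
            obtain ⟨d, rfl⟩ := Nat.exists_eq_add_of_le ha2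
            rw [pow_add]; exact dvd_mul_right _ _
          omega
      · have hd : 2 ^ a ∣ q + 1 := two_pow_dvd_add_one q b a hqo hbo (by rw [h])
        have hle : q ^ b + 1 ≤ q + 1 := h ▸ Nat.le_of_dvd (by omega) hd
        have hb1 : b = 1 := by
          by_contra hne
          have h2b : 2 ≤ b := by omega
          have h3 : q ^ 2 ≤ q ^ b := Nat.pow_le_pow_right hq.pos h2b
          have h4 := hq.two_le
          nlinarith
        subst hb1
        rw [pow_one] at h
        refine ⟨rfl, rfl, ?_, h.symm⟩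
        have hP : (2 ^ a - 1).Prime := by rw [h]; simpa using hq
        by_cases ha1 : a = 1
        · subst ha1
          exfalso
          have := hq.two_le
          omega
        · exact (Nat.prime_of_pow_sub_one_prime ha1 hP).2
  · rcases hq.eq_two_or_odd' with rfl | hqo
    · right
      rcases Nat.even_or_odd a with hae | hao
      · right
        obtain ⟨c, rfl⟩ := hae
        have hy2 : p ^ (c + c) = (p ^ c) ^ 2 := by ring
        rw [hy2] at h ⊢
        have hyo : Odd (p ^ c) := hpo.pow
        generalize p ^ c = y at h hyo ⊢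
        have hy1 : 1 ≤ y := hyo.pos
        have hfac : (y - 1) * (y + 1) = 2 ^ b := by
          obtain ⟨z, rfl⟩ := Nat.exists_eq_add_of_le hy1
          have : (1 + z - 1) = z := by omega
          rw [this]
          have : 2 ^ b = (1 + z) ^ 2 - 1 := by rw [h, Nat.add_sub_cancel]
          rw [this]
          have : (1 + z) ^ 2 = z * (1 + z + 1) + 1 := by ring
          rw [this]; simp
        obtain ⟨i, _, hi⟩ := (Nat.dvd_prime_pow Nat.prime_two).mp (Dvd.intro _ hfac)
        obtain ⟨j, _, hj⟩ := (Nat.dvd_prime_pow Nat.prime_two).mp (Dvd.intro_left _ hfac)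
        have hij : 2 ^ j = 2 ^ i + 2 := by omega
        have hi1 : i = 1 := by
          rcases Nat.lt_or_ge i 2 with hi2 | hi2
          · interval_cases i
            · exfalso
              have : y = 2 := by simp at hi; omega
              rw [this] at hyo
              exact absurd hyo (by decide)
            · rfl
          · exfalso
            have h4i : 4 ∣ 2 ^ i := by
              obtain ⟨d, rfl⟩ := Nat.exists_eq_add_of_le hi2
              rw [pow_add]; exact dvd_mul_right _ _
            rcases Nat.lt_or_ge j 2 with hj2 | hj2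
            · have : 2 ^ j ≤ 2 := by interval_cases j <;> simp
              have : 0 < 2 ^ i := by positivity
              omega
            · have h4j : 4 ∣ 2 ^ j := by
                obtain ⟨d, rfl⟩ := Nat.exists_eq_add_of_le hj2
                rw [pow_add]; exact dvd_mul_right _ _
              omega
        subst hi1
        have hy3 : y = 3 := by omega
        subst hy3
        constructor
        · norm_num
        · norm_num at h; omega
      · left
        have hd : 2 ^ b ∣ p - 1 := two_pow_dvd_sub_one p a b hpo hao (by rw [h]; simp)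
        have hp2 := hp.two_le
        have hle : 2 ^ b ≤ p - 1 := Nat.le_of_dvd (by omega) hd
        have ha1 : a = 1 := by
          by_contra hne
          have h2a : 2 ≤ a := by omega
          have h3 : p ^ 2 ≤ p ^ a := Nat.pow_le_pow_right hp.pos h2a
          have hle' : 2 ^ b + 1 ≤ p := by omega
          nlinarith
        subst ha1
        rw [pow_one] at h
        refine ⟨rfl, rfl, ?_, h⟩
        exact Nat.pow_of_pow_add_prime (by norm_num) (by omega) (h ▸ hp)
    · exfalso
      have h1 : Odd (p ^ a) := hpo.pow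
      have h2 : Odd (q ^ b) := hqo.pow
      rw [h] at h1
      exact (Nat.not_even_iff_odd.mpr h1) h2.add_one

end Cfsg.Agent.S3784
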