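import Cfsg.Statements.S3785
import Mathlib
import Cfsg.Agent.S1326
import Cfsg.Agent.Lib.Helper9.OmegaOdd
import Cfsg.Agent.Lib.Helper9.FStar2
import Cfsg.Agent.Lib.Helper1.Fitting
-- import your own Cfsg.Agent.* helpers here

set_option autoImplicit false
open Cfsg

namespace Cfsg.Agent.S3785

/-- Let G be a finite solvable group whose Fitting subgroup F(G) has odd order. If an element g of G commutes with every element of prime order of F(G), then g ∈ F(G). -/
theorem result {G : Type*} [Group G] [Finite G] (hG : Group.IsSolvable G) (hodd : Odd (Nat.card (Cfsg.fittingSubgroup G))) (g : G) (hg : ∀ x ∈ Cfsg.fittingSubgroup G, (orderOf x).Prime → g * x = x * g) : g ∈ Cfsg.fittingSubgroup G := by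
  classical
  obtain ⟨F, hF⟩ : ∃ F : Subgroup G, F = Cfsg.fittingSubgroup G := ⟨_, rfl⟩
  rw [← hF] at hodd hg ⊢
  have hFsup : F = ⨆ p : Nat.Primes, Cfsg.pCore (p : ℕ) G := by
    rw [hF]; exact Cfsg.Agent.Lib.Helper1.fittingSubgroup_eq_iSup_pCore G
  have hCF : Subgroup.centralizer (F : Set G) ≤ F := by
    rw [hF]
    apply (Cfsg.Agent.S1326.result).mpr
    exact Cfsg.Agent.Lib.Helper9.layer_eq_bot_of_le_isSolvable (Y := ⊤) inferInstance le_top
  have hpF : ∀ p : Nat.Primes, Cfsg.pCore (p : ℕ) G ≤ F := by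
    intro p; rw [hFsup]; exact le_iSup (fun p : Nat.Primes => Cfsg.pCore (p : ℕ) G) p
  have hFn : F.Normal := by rw [hF]; exact Cfsg.Agent.Lib.Helper1.fittingSubgroup_normal G
  haveI hpn : ∀ p : Nat.Primes, (Cfsg.pCore (p : ℕ) G).Normal :=
    fun p => Cfsg.Agent.Lib.Helper1.pCore_normal _ G
  -- O_2(G) is trivial
  have h2core : Cfsg.pCore 2 G = ⊥ := by
    haveI : Fact (Nat.Prime 2) := ⟨Nat.prime_two⟩
    obtain ⟨n, hn⟩ := IsPGroup.iff_card.mp (Cfsg.Agent.Lib.Helper1.pCore_isPGroup 2 G)
    have hle : Cfsg.pCore 2 G ≤ F := hpF ⟨2, Nat.prime_two⟩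
    have hdvd : Nat.card (Cfsg.pCore 2 G) ∣ Nat.card F := Subgroup.card_dvd_of_le hle
    rcases Nat.eq_zero_or_pos n with h0 | hpos
    · rw [h0, pow_zero] at hn
      exact Subgroup.card_eq_one.mp hn
    · exfalso
      rw [hn] at hdvd
      have h2 : 2 ∣ Nat.card F := dvd_trans (dvd_pow_self 2 hpos.ne') hdvd
      exact (Nat.not_even_iff_odd.mpr hodd) (even_iff_two_dvd.mpr h2)
  -- the set Ω of elements of prime order of F
  obtain ⟨Ω, hΩ⟩ : ∃ Ω : Set G, Ω = {x : G | x ∈ F ∧ (orderOf x).Prime} := ⟨_, rfl⟩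
  have hΩconj : ∀ h x : G, x ∈ Ω → h * x * h⁻¹ ∈ Ω := by
    intro h x hx
    rw [hΩ] at hx ⊢
    refine ⟨hFn.conj_mem x hx.1 h, ?_⟩
    have : orderOf (h * x * h⁻¹) = orderOf x := (MulAut.conj h).orderOf_eq x
    rw [this]; exact hx.2
  have hnormal : ∀ S : Set G, (∀ h x : G, x ∈ S → h * x * h⁻¹ ∈ S) →
      (Subgroup.centralizer S).Normal := by
    intro S hS
    refine ⟨fun c hc h => ?_⟩
    rw [Subgroup.mem_centralizer_iff] at hc ⊢
    intro x hx
    have := hc (h⁻¹ * x * h⁻¹⁻¹) (hS h⁻¹ x hx)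
    calc x * (h * c * h⁻¹) = h * ((h⁻¹ * x * h⁻¹⁻¹) * c) * h⁻¹ := by group
      _ = h * (c * (h⁻¹ * x * h⁻¹⁻¹)) * h⁻¹ := by rw [this]
      _ = h * c * h⁻¹ * x := by group
  have hCn : (Subgroup.centralizer Ω).Normal := hnormal Ω hΩconj
  have hgC : g ∈ Subgroup.centralizer Ω := by
    rw [Subgroup.mem_centralizer_iff]
    intro x hx
    rw [hΩ] at hx
    exact (hg x hx.1 hx.2).symm
  -- elements of C of order prime to p centralize O_p(G)
  have hcent : ∀ (p : Nat.Primes) (y : G), y ∈ Subgroup.centralizer Ω → (orderOf y).Coprime (p : ℕ) →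
      ∀ d ∈ Cfsg.pCore (p : ℕ) G, d * y = y * d := by
    intro p y hy hcop d hd
    by_cases hp2 : (p : ℕ) = 2
    · rw [hp2, h2core, Subgroup.mem_bot] at hd
      rw [hd, one_mul, mul_one]
    · haveI : Fact (Nat.Prime (p : ℕ)) := ⟨p.2⟩
      have hmem := Cfsg.Agent.Lib.Helper9.mem_centralizer_of_centralizes_omega (p := (p : ℕ)) hp2
        (D := Cfsg.pCore (p : ℕ) G) (Cfsg.Agent.Lib.Helper1.pCore_isPGroup (p : ℕ) G) (x := y)
        (by rw [Subgroup.normalizer_eq_top_iff.mpr (hpn p)]; exact Subgroup.mem_top y) hcop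
        (by
          intro e he hep
          by_cases he1 : e = 1
          · rw [he1, one_mul, mul_one]
          · have hord : orderOf e = (p : ℕ) := orderOf_eq_prime hep he1
            have heΩ : e ∈ Ω := by
              rw [hΩ]; exact ⟨hpF p he, by rw [hord]; exact p.2⟩
            exact (Subgroup.mem_centralizer_iff.mp hy e heΩ).symm)
      exact Subgroup.mem_centralizer_iff.mp hmem d hd
  -- key: prime power order elements of C lie in F
  have key : ∀ (q : Nat.Primes) (x : G), x ∈ Subgroup.centralizer Ω →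
      (∃ k, orderOf x = (q : ℕ) ^ k) → x ∈ F := by
    intro q x hxC hxq
    haveI : Fact (Nat.Prime (q : ℕ)) := ⟨q.2⟩
    obtain ⟨F', hF'⟩ : ∃ F' : Subgroup G,
        F' = ⨆ (p : Nat.Primes) (_ : p ≠ q), Cfsg.pCore (p : ℕ) G := ⟨_, rfl⟩
    have hF'n : F'.Normal := by rw [hF']; infer_instance
    have hpF' : ∀ p : Nat.Primes, p ≠ q → Cfsg.pCore (p : ℕ) G ≤ F' := by
      intro p hp
      rw [hF']
      exact le_iSup₂ (f := fun (p : Nat.Primes) (_ : p ≠ q) => Cfsg.pCore (p : ℕ) G) p hp
    have hFle : F ≤ Cfsg.pCore (q : ℕ) G ⊔ F' := by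
      rw [hFsup]
      apply iSup_le
      intro p
      by_cases hp : p = q
      · rw [hp]; exact le_sup_left
      · exact (hpF' p hp).trans le_sup_right
    have hF'conj : ∀ h y : G, y ∈ (F' : Set G) → h * y * h⁻¹ ∈ (F' : Set G) :=
      fun h y hy => hF'n.conj_mem y hy h
    have hC'n : (Subgroup.centralizer (F' : Set G)).Normal := hnormal _ hF'conj
    obtain ⟨D, hD⟩ : ∃ D : Subgroup G,
        D = Subgroup.centralizer Ω ⊓ Subgroup.centralizer (F' : Set G) := ⟨_, rfl⟩
    have hDn : D.Normal := by rw [hD]; infer_instance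
    -- membership in the centralizer of F'
    have hcentF' : ∀ y : G, y ∈ Subgroup.centralizer Ω →
        (∀ p : Nat.Primes, p ≠ q → (orderOf y).Coprime (p : ℕ)) →
        y ∈ Subgroup.centralizer (F' : Set G) := by
      intro y hy hcop
      have : F' ≤ Subgroup.centralizer ({y} : Set G) := by
        rw [hF']
        apply iSup₂_le
        intro p hp d hd
        rw [Subgroup.mem_centralizer_singleton_iff]
        exact hcent p y hy (hcop p hp) d hd
      rw [Subgroup.mem_centralizer_iff]
      intro d hd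
      exact Subgroup.mem_centralizer_singleton_iff.mp (this hd)
    -- x ∈ D
    have hxD : x ∈ D := by
      rw [hD]
      refine Subgroup.mem_inf.mpr ⟨hxC, hcentF' x hxC ?_⟩
      intro p hp
      obtain ⟨k, hk⟩ := hxq
      rw [hk]
      apply Nat.Coprime.pow_left
      exact (Nat.coprime_primes q.2 p.2).mpr (fun h => hp (Subtype.ext h.symm))
    -- q'-elements of D are central in D
    have hcentral : ∀ y ∈ D, (orderOf y).Coprime (q : ℕ) → ∀ d ∈ D, d * y = y * d := by
      intro y hyD hcop d hdD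
      rw [hD] at hyD hdD
      obtain ⟨hyC, hyF'⟩ := Subgroup.mem_inf.mp hyD
      obtain ⟨hdC, hdF'⟩ := Subgroup.mem_inf.mp hdD
      -- y centralizes F
      have hyF : y ∈ F := by
        apply hCF
        have : F ≤ Subgroup.centralizer ({y} : Set G) := by
          refine hFle.trans (sup_le ?_ ?_)
          · intro d hd
            rw [Subgroup.mem_centralizer_singleton_iff]
            exact hcent q y hyC hcop d hd
          · intro d hd
            rw [Subgroup.mem_centralizer_singleton_iff]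
            exact Subgroup.mem_centralizer_iff.mp hyF' d hd
        rw [Subgroup.mem_centralizer_iff]
        intro d hd
        exact Subgroup.mem_centralizer_singleton_iff.mp (this hd)
      -- y ∈ F'
      have hyF'' : y ∈ F' := by
        have hy2 := hFle hyF
        rw [← SetLike.mem_coe, Subgroup.mul_normal] at hy2
        obtain ⟨a, ha, b, hb, hab⟩ := hy2
        have hπ : (QuotientGroup.mk' F') y = (QuotientGroup.mk' F') a := by
          have hb1 : (QuotientGroup.mk' F') b = 1 := (QuotientGroup.eq_one_iff b).mpr hb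
          rw [← hab]
          show (QuotientGroup.mk' F') (a * b) = _
          rw [map_mul, hb1, mul_one]
        have h1 : orderOf ((QuotientGroup.mk' F') y) ∣ orderOf y := orderOf_map_dvd _ y
        have h2 : orderOf ((QuotientGroup.mk' F') a) ∣ orderOf a := orderOf_map_dvd _ a
        obtain ⟨k, hk⟩ := (Cfsg.Agent.Lib.Helper1.pCore_isPGroup (q : ℕ) G) ⟨a, ha⟩
        have h3 : orderOf a ∣ (q : ℕ) ^ k := by
          apply orderOf_dvd_of_pow_eq_one
          have := congrArg Subtype.val hk
          simpa using this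
        rw [← hπ] at h2
        have h4 : orderOf ((QuotientGroup.mk' F') y) = 1 := by
          apply Nat.eq_one_of_dvd_coprimes (hcop.pow_right k) h1 (h2.trans h3)
        rw [orderOf_eq_one_iff] at h4
        exact (QuotientGroup.eq_one_iff y).mp h4
      exact (Subgroup.mem_centralizer_iff.mp hdF' y hyF'').symm
    -- D / Z(D) is a q-group
    have hDp : IsPGroup (q : ℕ) (↥D ⧸ Subgroup.center ↥D) := by
      intro gq
      obtain ⟨d, rfl⟩ := QuotientGroup.mk_surjective gq
      have hd0 : orderOf (d : G) ≠ 0 := (orderOf_pos (d : G)).ne'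
      obtain ⟨a, m, hm, hnm⟩ := Nat.exists_eq_pow_mul_and_not_dvd hd0 (q : ℕ) q.2.ne_one
      refine ⟨a, ?_⟩
      rw [← QuotientGroup.mk_pow, QuotientGroup.eq_one_iff, Subgroup.mem_center_iff]
      intro e
      apply Subtype.ext
      have hpow : orderOf ((d : G) ^ ((q : ℕ) ^ a)) = m := by
        rw [orderOf_pow_of_dvd (pow_ne_zero _ q.2.ne_zero) (by rw [hnm]; exact dvd_mul_right _ _),
          hnm, Nat.mul_div_cancel_left _ (pow_pos q.2.pos a)]
      have hcopm : (orderOf ((d : G) ^ ((q : ℕ) ^ a))).Coprime (q : ℕ) := by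
        rw [hpow]
        exact ((Nat.Prime.coprime_iff_not_dvd q.2).mpr hm).symm
      have := hcentral ((d : G) ^ ((q : ℕ) ^ a)) (D.pow_mem d.2 _) hcopm (e : G) e.2
      simpa using this
    have hDnil : Group.IsNilpotent ↥D := by
      haveI : Group.IsNilpotent (↥D ⧸ Subgroup.center ↥D) := hDp.isNilpotent
      exact Group.of_quotient_center_nilpotent inferInstance
    have hDF : D ≤ F := by
      rw [hF]; exact Cfsg.Agent.Lib.Helper1.le_fittingSubgroup hDn hDnil
    exact hDF hxD
  -- induction on the order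
  have main : ∀ n : ℕ, ∀ x : G, x ∈ Subgroup.centralizer Ω → orderOf x = n → x ∈ F := by
    intro n
    induction n using Nat.strong_induction_on with
    | _ n ih =>
      intro x hxC hxn
      by_cases h1 : n = 1
      · rw [h1, orderOf_eq_one_iff] at hxn; rw [hxn]; exact one_mem _
      · have hn0 : n ≠ 0 := by rw [← hxn]; exact (orderOf_pos x).ne'
        obtain ⟨q, hq, hqn⟩ := Nat.exists_prime_and_dvd h1
        obtain ⟨a, m, hm, hnm⟩ := Nat.exists_eq_pow_mul_and_not_dvd hn0 q hq.ne_one
        have ha : a ≠ 0 := by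
          intro ha
          rw [ha, pow_zero, one_mul] at hnm
          rw [hnm] at hqn
          exact hm hqn
        have hm0 : m ≠ 0 := by
          intro hm0; rw [hm0, mul_zero] at hnm; exact hn0 hnm
        have hmn : m < n := by
          rw [hnm]
          have : 2 ≤ q ^ a := le_trans hq.two_le (Nat.le_self_pow ha q)
          nlinarith [Nat.pos_of_ne_zero hm0]
        have ho1 : orderOf (x ^ (q ^ a)) = m := by
          rw [orderOf_pow_of_dvd (pow_ne_zero _ hq.ne_zero) (by rw [hxn, hnm]; exact dvd_mul_right _ _),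
            hxn, hnm, Nat.mul_div_cancel_left _ (pow_pos hq.pos a)]
        have ho2 : orderOf (x ^ m) = q ^ a := by
          rw [orderOf_pow_of_dvd hm0 (by rw [hxn, hnm]; exact dvd_mul_left _ _),
            hxn, hnm, Nat.mul_div_cancel _ (Nat.pos_of_ne_zero hm0)]
        have hx1 : x ^ (q ^ a) ∈ F :=
          ih m hmn _ (Subgroup.pow_mem _ hxC _) ho1
        have hx2 : x ^ m ∈ F :=
          key ⟨q, hq⟩ _ (Subgroup.pow_mem _ hxC _) ⟨a, ho2⟩
        have hcop : Nat.Coprime (q ^ a) m :=
          Nat.Coprime.pow_left a ((Nat.Prime.coprime_iff_not_dvd hq).mpr hm)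
        obtain ⟨u, v, huv⟩ := Nat.isCoprime_iff_coprime.mpr hcop
        have : x = (x ^ (q ^ a)) ^ u * (x ^ m) ^ v := by
          rw [← zpow_natCast, ← zpow_natCast, ← zpow_mul, ← zpow_mul, ← zpow_add]
          have : ((q ^ a : ℕ) : ℤ) * u + (m : ℤ) * v = 1 := by rw [← huv]; ring
          rw [this, zpow_one]
        rw [this]
        exact F.mul_mem (F.zpow_mem hx1 u) (F.zpow_mem hx2 v)
  exact main _ g hgC rfl

end Cfsg.Agent.S3785
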