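import Cfsg.Statements.S3787
-- import your own Cfsg.Agent.* helpers here
import Cfsg.Agent.Lib.Helper1.HW6
import Cfsg.Agent.Lib.Helper1.HW7
import Cfsg.Agent.Lib.Helper1.PLenSeries
import Cfsg.Agent.Lib.Helper12.Cores

set_option autoImplicit false
open Cfsg

namespace Cfsg.Agent.S3787

/-- Let G be a finite p-soluble group, p an odd prime not of the form 2^k + 1, and suppose the wreath product C_p ≀ C_p (of order p^(p+1)) is not involved in a Sylow p-subgroup of G: no section of a Sylow p-subgroup is isomorphic to it. Then G has p-length at most 1. -/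
theorem result {G : Type*} [Group G] [Finite G] {p : ℕ} [Fact p.Prime] (hp2 : p ≠ 2) (hnf : (¬ ∃ k : ℕ, p = 2 ^ k + 1)) (hG : Cfsg.IsPSolvable p G) (P : Sylow p G) (hwr : ∀ (W : Type) [Group W] [Finite W], (∃ (B : Subgroup W) (t : W), B.Normal ∧ IsMulCommutative B ∧ (∀ b ∈ B, b ^ p = 1) ∧ Nat.card B = p ^ p ∧ orderOf t = p ∧ t ∉ B ∧ Nat.card W = p ^ (p + 1) ∧ Nat.card ↥(B ⊓ Subgroup.centralizer ({t} : Set W)) = p) → ¬ Cfsg.Involves W ↥(P : Subgroup G)) : Cfsg.PLengthLE p 1 G := by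
  classical
  have hpp : p.Prime := Fact.out
  haveI hKn : (pPrimeCore p G).Normal := Cfsg.Agent.Lib.Helper24.pPrimeCore_normal' p
  have hsolX : IsPSolvable p (G ⧸ pPrimeCore p G) :=
    Cfsg.Agent.Lib.Helper24.isPSolvable_of_surjective p _ (QuotientGroup.mk'_surjective _) hG
  have hOX : pPrimeCore p (G ⧸ pPrimeCore p G) = ⊥ :=
    Cfsg.Agent.Lib.Helper24.pPrimeCore_quotient_eq_bot' p
  haveI hOn : (pCore p (G ⧸ pPrimeCore p G)).Normal := Cfsg.Agent.Lib.Helper24.pCore_normal' p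
  have hR : IsPGroup p ↥(pCore p (G ⧸ pPrimeCore p G)) := Cfsg.Agent.Lib.Helper1.pCore_isPGroup p _
  -- main claim
  have hcop : (Nat.card ((G ⧸ pPrimeCore p G) ⧸ pCore p (G ⧸ pPrimeCore p G))).Coprime p := by
    by_contra hcon
    have hdvd : p ∣ Nat.card ((G ⧸ pPrimeCore p G) ⧸ pCore p (G ⧸ pPrimeCore p G)) := by
      by_contra h
      exact hcon ((Nat.Prime.coprime_iff_not_dvd hpp).mpr h).symm
    set πK : G →* G ⧸ pPrimeCore p G := QuotientGroup.mk' (pPrimeCore p G) with hπK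
    have hπKs : Function.Surjective πK := QuotientGroup.mk'_surjective _
    set S : Sylow p (G ⧸ pPrimeCore p G) := P.mapSurjective hπKs with hSdef
    set S' : Subgroup (G ⧸ pPrimeCore p G) := (P : Subgroup G).map πK with hS'
    have hS : (S : Subgroup (G ⧸ pPrimeCore p G)) = S' := Sylow.coe_mapSurjective hπKs P
    have hOS : pCore p (G ⧸ pPrimeCore p G) ≤ S' := by
      rw [← hS]
      exact Cfsg.Agent.Lib.Helper1.pCore_le_sylow S
    -- an element of `S'` outside `O_p`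
    have hex : ∃ y₀ ∈ S', y₀ ∉ pCore p (G ⧸ pPrimeCore p G) := by
      by_contra hcon2
      push Not at hcon2
      have h1 : S' = pCore p (G ⧸ pPrimeCore p G) := le_antisymm hcon2 hOS
      have h2 := S.not_dvd_index
      rw [hS, h1] at h2
      apply h2
      rw [Subgroup.index_eq_card]
      exact hdvd
    obtain ⟨y₀, hy₀S, hy₀O⟩ := hex
    have hS'p : IsPGroup p ↥S' := by
      rw [← hS]
      exact S.isPGroup'
    obtain ⟨j, hj⟩ := hS'p ⟨y₀, hy₀S⟩
    have hj' : y₀ ^ p ^ j = 1 := congrArg Subtype.val hj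
    set yb₀ : (G ⧸ pPrimeCore p G) ⧸ pCore p (G ⧸ pPrimeCore p G) := QuotientGroup.mk y₀ with hyb₀
    have hyb₀1 : yb₀ ≠ 1 := fun h => hy₀O ((QuotientGroup.eq_one_iff y₀).mp h)
    have hyb₀p : yb₀ ^ p ^ j = 1 := by
      rw [hyb₀, ← QuotientGroup.mk_pow, hj']
      rfl
    obtain ⟨k, hkj, hk⟩ := (Nat.dvd_prime_pow hpp).mp (orderOf_dvd_of_pow_eq_one hyb₀p)
    have hk0 : k ≠ 0 := by
      rintro rfl
      rw [pow_zero, orderOf_eq_one_iff] at hk
      exact hyb₀1 hk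
    obtain ⟨k', rfl⟩ : ∃ k', k = k' + 1 := ⟨k - 1, by omega⟩
    set y : G ⧸ pPrimeCore p G := y₀ ^ p ^ k' with hy
    have hyS : y ∈ S' := S'.pow_mem hy₀S _
    have hord : orderOf (QuotientGroup.mk y : (G ⧸ pPrimeCore p G) ⧸ pCore p (G ⧸ pPrimeCore p G)) = p := by
      rw [hy, QuotientGroup.mk_pow, orderOf_pow_of_dvd (pow_pos hpp.pos k').ne', ← hyb₀, hk,
        pow_succ, Nat.mul_div_cancel_left _ (pow_pos hpp.pos k')]
      rw [← hyb₀, hk, pow_succ]
      exact Dvd.intro _ rfl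
    have hyp : y ^ p ∈ pCore p (G ⧸ pPrimeCore p G) := by
      rw [← QuotientGroup.eq_one_iff, QuotientGroup.mk_pow]
      have h1 := pow_orderOf_eq_one
        (QuotientGroup.mk y : (G ⧸ pPrimeCore p G) ⧸ pCore p (G ⧸ pPrimeCore p G))
      rwa [hord] at h1
    have hne : ¬ ∃ n₀ q m : ℕ, 1 ≤ n₀ ∧ n₀ ≤ 1 ∧ q.Prime ∧ 1 ≤ m ∧ p ^ n₀ - 1 = q ^ m ∧
        ∀ Q' : Sylow q ((G ⧸ pPrimeCore p G) ⧸ pCore p (G ⧸ pPrimeCore p G)), ¬ IsMulCommutative Q' := by
      rintro ⟨n₀, q, m, h1, h2, hq, hm, hpq, _⟩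
      have hn₀ : n₀ = 1 := by omega
      subst hn₀
      rw [pow_one] at hpq
      have hodd : Odd p := hpp.odd_of_ne_two hp2
      have heven : Even (q ^ m) := by
        rw [← hpq]
        exact Nat.Odd.sub_odd hodd odd_one
      have hq2 : q = 2 := by
        have h3 : 2 ∣ q ^ m := even_iff_two_dvd.mp heven
        have h4 : 2 ∣ q := Nat.Prime.dvd_of_dvd_pow Nat.prime_two h3
        exact ((Nat.prime_dvd_prime_iff_eq Nat.prime_two hq).mp h4).symm
      apply hnf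
      refine ⟨m, ?_⟩
      have h5 : 1 ≤ p := hpp.one_lt.le
      rw [hq2] at hpq
      omega
    obtain ⟨u, hu⟩ := Cfsg.Agent.Lib.Helper1.HW.exists_conjProd_notMem p hsolX hOX y 1 le_rfl
      (by rw [pow_one]; exact hord) hne
    set M : Subgroup (G ⧸ pPrimeCore p G) :=
      (frattini ↥(pCore p (G ⧸ pPrimeCore p G))).map (pCore p (G ⧸ pPrimeCore p G)).subtype with hM
    haveI hMn : M.Normal := ConjAct.normal_of_characteristic_of_normal
    have hmemM : ∀ g, g ∈ M ↔ ∃ h : g ∈ pCore p (G ⧸ pPrimeCore p G),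
        (⟨g, h⟩ : ↥(pCore p (G ⧸ pPrimeCore p G))) ∈ frattini ↥(pCore p (G ⧸ pPrimeCore p G)) := by
      intro g
      constructor
      · rintro ⟨b, hb, rfl⟩
        exact ⟨b.2, hb⟩
      · rintro ⟨h, hb⟩
        exact ⟨⟨g, h⟩, hb, rfl⟩
    have hcomm : ∀ a ∈ pCore p (G ⧸ pPrimeCore p G), ∀ b ∈ pCore p (G ⧸ pPrimeCore p G),
        (a * b)⁻¹ * (b * a) ∈ M := by
      intro a ha b hb
      have h1 := Cfsg.Agent.Lib.Helper26.fq_comm hR (QuotientGroup.mk ⟨a, ha⟩) (QuotientGroup.mk ⟨b, hb⟩)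
      rw [← QuotientGroup.mk_mul, ← QuotientGroup.mk_mul, QuotientGroup.eq] at h1
      rw [hmemM]
      exact ⟨_, h1⟩
    have hpow : ∀ a ∈ pCore p (G ⧸ pPrimeCore p G), a ^ p ∈ M := by
      intro a ha
      have h1 := Cfsg.Agent.Lib.Helper26.fq_pow hR (QuotientGroup.mk ⟨a, ha⟩)
      rw [← QuotientGroup.mk_pow, QuotientGroup.eq_one_iff] at h1
      rw [hmemM]
      exact ⟨_, h1⟩
    have hN : Cfsg.Agent.Lib.Helper20.ExpPLen.conjProd (u : G ⧸ pPrimeCore p G) y p ∉ M := by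
      intro h
      rw [hmemM] at h
      obtain ⟨h1, h2⟩ := h
      apply hu
      have h3 : (⟨Cfsg.Agent.Lib.Helper20.ExpPLen.conjProd (u : G ⧸ pPrimeCore p G) y (p ^ 1),
          Cfsg.Agent.Lib.Helper20.ExpPLen.conjProd_mem (pCore p (G ⧸ pPrimeCore p G))
            (u : G ⧸ pPrimeCore p G) y u.2 (p ^ 1)⟩ : ↥(pCore p (G ⧸ pPrimeCore p G)))
          = ⟨_, h1⟩ := by
        apply Subtype.ext
        show Cfsg.Agent.Lib.Helper20.ExpPLen.conjProd (u : G ⧸ pPrimeCore p G) y (p ^ 1) = _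
        rw [pow_one]
      rw [h3]
      exact h2
    obtain ⟨W, gW, fW, hWr, hInv⟩ := Cfsg.Agent.Lib.Helper1.HW.exists_wrSection
      (pCore p (G ⧸ pPrimeCore p G)) M S' hOS hcomm hpow y hyS hyp (u : G ⧸ pPrimeCore p G) u.2 hN
    -- shrink to universe 0
    let e : Shrink.{0} W ≃* W := Shrink.mulEquiv
    haveI : Finite (Shrink.{0} W) := Finite.of_equiv W e.symm.toEquiv
    have hWr' : Cfsg.Agent.Lib.Helper1.HW.WrCond p (Shrink.{0} W) := hWr.of_mulEquiv e.symm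
    have hInv' : Involves (Shrink.{0} W) ↥S' := Cfsg.Agent.Lib.Helper1.HW.involves_congr e.symm hInv
    have hInv'' : Involves (Shrink.{0} W) ↥(P : Subgroup G) :=
      Cfsg.Agent.Lib.Helper1.HW.involves_pullback (πK.subgroupMap (P : Subgroup G))
        (πK.subgroupMap_surjective (P : Subgroup G)) hInv'
    exact hwr (Shrink.{0} W) hWr' hInv''
  -- assemble the `p`-length
  have h2 : PLengthLE p 0 ((G ⧸ pPrimeCore p G) ⧸ pCore p (G ⧸ pPrimeCore p G)) :=
    Cfsg.Agent.Lib.Helper1.PLen.pLengthLE_zero_of_coprime p hcop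
  have h3 : PLengthLE p 1 ↥(pCore p (G ⧸ pPrimeCore p G)) :=
    Cfsg.Agent.Lib.Helper1.PLen.pLengthLE_one_of_isPGroup p hR
  have h4 : PLengthLE p (1 + 0) (G ⧸ pPrimeCore p G) :=
    Cfsg.Agent.Lib.Helper1.PLen.pLengthLE_of_extension p (pCore p (G ⧸ pPrimeCore p G)) h3 h2
  have h5 : PLengthLE p 0 ↥(pPrimeCore p G) :=
    Cfsg.Agent.Lib.Helper1.PLen.pLengthLE_zero_of_coprime p (Cfsg.Agent.Lib.Helper12.pPrimeCore_coprime p)
  have h6 : PLengthLE p (0 + (1 + 0)) G :=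
    Cfsg.Agent.Lib.Helper1.PLen.pLengthLE_of_extension p (pPrimeCore p G) h5 h4
  exact h6

end Cfsg.Agent.S3787
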