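import Cfsg.Statements.S3790
-- import your own Cfsg.Agent.* helpers here
import Cfsg.Agent.Lib.Helper1.PLenSeries

set_option autoImplicit false
open Cfsg

namespace Cfsg.Agent.S3790

open Cfsg.Agent.Lib.Helper1.PLen Cfsg.Agent.Lib.Helper12 Cfsg.Agent.Lib.Helper25 in
theorem aux.{u} (p : ℕ) [hp : Fact p.Prime] : ∀ (r : ℕ) (G : Type u) [Group G] [Finite G]
    (q : Fin r → ℕ), (∀ i, (q i).Prime ∧ q i ≠ p) →
    (∀ s : ℕ, s.Prime → s ∣ Nat.card G → s ≠ p → ∃ i, q i = s) →
    ∀ (l : Fin r → ℕ), (∀ i, Cfsg.PLengthLE (q i) (l i) G) →
      Cfsg.PLengthLE p (Finset.univ.prod fun i => 1 + l i) G := by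
  intro r
  induction r with
  | zero =>
    intro G _ _ q hq hcover l hl
    have hcard : ∃ n, Nat.card G = p ^ n := by
      refine ⟨_, Nat.eq_prime_pow_of_unique_prime_dvd Nat.card_pos.ne' ?_⟩
      intro d hd hdvd
      by_contra hne
      obtain ⟨i, _⟩ := hcover d hd hdvd hne
      exact i.elim0
    obtain ⟨n, hn⟩ := hcard
    have h1 : Cfsg.PLengthLE p 1 G := pLengthLE_one_of_isPGroup p (IsPGroup.of_card hn)
    simpa using h1
  | succ r ih =>
    intro G _ _ q hq hcover l hl
    set s := q (Fin.last r) with hs
    haveI : Fact s.Prime := ⟨(hq (Fin.last r)).1⟩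
    have hsp : s ≠ p := (hq (Fin.last r)).2
    set M := Finset.univ.prod (fun i : Fin r => 1 + l i.castSucc) with hM
    -- apply the induction hypothesis to a group of order prime to `s`
    have key : ∀ (H : Type u) [Group H] [Finite H],
        (∀ t : ℕ, t.Prime → t ∣ Nat.card H → t ≠ p → ∃ i, q i = t) →
        (∀ i : Fin r, Cfsg.PLengthLE (q i.castSucc) (l i.castSucc) H) →
        (Nat.card H).Coprime s → Cfsg.PLengthLE p M H := by
      intro H _ _ hcov hlen hcop
      apply ih H (fun i => q i.castSucc) (fun i => hq i.castSucc) _ (fun i => l i.castSucc) hlen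
      intro t ht hdvd htp
      obtain ⟨i, hi⟩ := hcov t ht hdvd htp
      rcases Fin.eq_castSucc_or_eq_last i with ⟨j, rfl⟩ | rfl
      · exact ⟨j, hi⟩
      · exfalso
        have h1 : s ∣ Nat.card H := by rw [hs, hi]; exact hdvd
        have h2 : s ∣ Nat.gcd (Nat.card H) s := Nat.dvd_gcd h1 dvd_rfl
        rw [hcop] at h2
        exact (Fact.out : s.Prime).one_lt.ne' (Nat.dvd_one.mp h2)
    have claim : ∀ (k : ℕ) (H : Type u) [Group H] [Finite H],
        (∀ t : ℕ, t.Prime → t ∣ Nat.card H → t ≠ p → ∃ i, q i = t) →
        (∀ i : Fin r, Cfsg.PLengthLE (q i.castSucc) (l i.castSucc) H) →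
        Cfsg.PLengthLE s k H → Cfsg.PLengthLE p (M * (1 + k)) H := by
      intro k
      induction k with
      | zero =>
        intro H _ _ hcov hlen hs0
        have h1 : Cfsg.pPrimeCore s H = ⊤ := by
          rw [← upperPSeries_one_eq]; exact hs0
        have h2 : (Nat.card H).Coprime s := by
          have := pPrimeCore_coprime (X := H) s
          rwa [h1, Subgroup.card_top] at this
        have := key H hcov hlen h2
        simpa using this
      | succ k ihk =>
        intro H _ _ hcov hlen hsk
        set A := (Cfsg.upperPSeries s H 1).1 with hA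
        set B := (Cfsg.upperPSeries s H 2).1 with hB
        have hAB : A ≤ B := upperPSeries_le_succ s 1
        -- the quotient
        have hQ : Cfsg.PLengthLE p (M * (1 + k)) (H ⧸ B) := by
          apply ihk (H ⧸ B)
          · intro t ht hdvd htp
            exact hcov t ht (dvd_trans hdvd (Subgroup.card_quotient_dvd_card B)) htp
          · intro i
            haveI : Fact (q i.castSucc).Prime := ⟨(hq i.castSucc).1⟩
            exact pLengthLE_quotient _ B (hlen i)
          · apply pLengthLE_of_surjective_shift s (QuotientGroup.mk' B)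
              (QuotientGroup.mk'_surjective B) _ hsk
            rw [QuotientGroup.ker_mk']
        -- the subgroup `A`
        have hAcop : (Nat.card A).Coprime s := by
          have := pPrimeCore_coprime (X := H) s
          rwa [← upperPSeries_one_eq] at this
        have hA' : Cfsg.PLengthLE p M A := by
          apply key A
          · intro t ht hdvd htp
            exact hcov t ht (dvd_trans hdvd (Subgroup.card_subgroup_dvd_card A)) htp
          · intro i
            haveI : Fact (q i.castSucc).Prime := ⟨(hq i.castSucc).1⟩
            exact pLengthLE_subgroup _ A (hlen i)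
          · exact hAcop
        have hA'' : Cfsg.PLengthLE p M (A.subgroupOf B) :=
          pLengthLE_of_mulEquiv p (Subgroup.subgroupOfEquivOfLe hAB).symm hA'
        haveI : (A.subgroupOf B).Normal := Subgroup.normal_subgroupOf
        have hBA : Cfsg.PLengthLE p 0 (↥B ⧸ A.subgroupOf B) := by
          apply pLengthLE_zero_of_coprime
          have hPG : IsPGroup s (↥B ⧸ A.subgroupOf B) := by
            intro y
            obtain ⟨x, rfl⟩ := QuotientGroup.mk'_surjective (A.subgroupOf B) y
            obtain ⟨n, hn⟩ := exists_pow_mem_of_odd (G := H) s (by decide : ¬ Even 1) x.1 x.2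
            refine ⟨n, ?_⟩
            rw [← map_pow]
            apply (QuotientGroup.eq_one_iff _).mpr
            rw [Subgroup.mem_subgroupOf]
            exact hn
          obtain ⟨n, hn⟩ := (IsPGroup.iff_card).mp hPG
          rw [hn]
          apply Nat.Coprime.pow_left
          exact (Nat.coprime_primes (Fact.out : s.Prime) hp.out).mpr hsp
        have hB' : Cfsg.PLengthLE p (M + 0) B := pLengthLE_of_extension p (A.subgroupOf B) hA'' hBA
        have hfin := pLengthLE_of_extension p B hB' hQ
        rw [show M * (1 + (k + 1)) = M + 0 + M * (1 + k) by ring]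
        exact hfin
    have hres := claim (l (Fin.last r)) G hcover (fun i => hl i.castSucc) (hl (Fin.last r))
    rw [Fin.prod_univ_castSucc]
    exact hres

/-- Let G be a finite solvable group and p a prime. Suppose p₁, …, p_r are distinct primes, all different from p, that include every prime dividing the order of G other than p, and that G has p_i-length at most l_i for each i. Then G has p-length at most the product of the numbers 1 + l_i. -/
theorem result {G : Type*} [Group G] [Finite G] (hG : Group.IsSolvable G) (p : ℕ) [Fact p.Prime] (r : ℕ) (q : Fin r → ℕ) (hq : ∀ i, (q i).Prime ∧ q i ≠ p) (hinj : Function.Injective q) (hcover : ∀ s : ℕ, s.Prime → s ∣ Nat.card G → s ≠ p → ∃ i, q i = s) (l : Fin r → ℕ) (hl : ∀ i, Cfsg.PLengthLE (q i) (l i) G) : Cfsg.PLengthLE p (Finset.univ.prod fun i => 1 + l i) G := by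
  exact aux p r G q hq hcover l hl

end Cfsg.Agent.S3790
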