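import Cfsg.Statements.S3791
-- import your own Cfsg.Agent.* helpers here
import Cfsg.Agent.Lib.Helper1.PLenSeries
import Cfsg.Agent.Lib.Helper1.DerivedSub
import Cfsg.Agent.Lib.Helper1.Fitting

set_option autoImplicit false
open Cfsg

namespace Cfsg.Agent.S3791

open Cfsg.Agent.Lib.Helper1.PLen Cfsg.Agent.Lib.Helper12 Cfsg.Agent.Lib.Helper25 in
theorem aux.{u} (r : ℕ) (q : Fin r → ℕ) (hq : ∀ i, (q i).Prime) (d : Fin r → ℕ) :
    ∀ (t : ℕ) (G : Type u) [Group G] [Finite G] (l : Fin r → ℕ),
    (Finset.univ.sum fun i => l i) = t →
    (∀ s : ℕ, s.Prime → s ∣ Nat.card G → ∃ i, q i = s) →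
    (∀ i, ∀ S : Sylow (q i) G, dser (S : Subgroup G) (d i) = ⊥) →
    (∀ i, Cfsg.PLengthLE (q i) (l i) G) →
    derivedSeries G (Finset.univ.sum fun i => d i * l i) = ⊥ := by
  intro t
  induction t using Nat.strong_induction_on with
  | _ t IH =>
  intro G _ _ l hsum hcover hd hl
  set n := Finset.univ.sum (fun i => d i * l i) with hn
  have main : ∀ i, derivedSeries G n ≤ Cfsg.pPrimeCore (q i) G := by
    intro i
    haveI : Fact (q i).Prime := ⟨hq i⟩
    rcases Nat.eq_zero_or_eq_succ_pred (l i) with h0 | hsucc
    · have h1 : Cfsg.PLengthLE (q i) 0 G := by rw [← h0]; exact hl i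
      have h2 : Cfsg.pPrimeCore (q i) G = ⊤ := by
        rw [← upperPSeries_one_eq]; exact h1
      rw [h2]; exact le_top
    · set k := (l i).pred with hk
      set A := (Cfsg.upperPSeries (q i) G 1).1 with hA
      set B := (Cfsg.upperPSeries (q i) G 2).1 with hB
      set l' := Function.update l i k with hl'
      have hl'i : l' i = k := Function.update_self i k l
      have hl'j : ∀ j, j ≠ i → l' j = l j := fun j hj => Function.update_of_ne hj k l
      -- sums
      have hsum1 : (Finset.univ.sum fun j => l' j) + 1 = Finset.univ.sum fun j => l j := by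
        rw [← Finset.add_sum_erase Finset.univ (fun j => l' j) (Finset.mem_univ i),
          ← Finset.add_sum_erase Finset.univ (fun j => l j) (Finset.mem_univ i)]
        have : (Finset.univ.erase i).sum (fun j => l' j) = (Finset.univ.erase i).sum (fun j => l j) := by
          apply Finset.sum_congr rfl
          intro j hj
          exact hl'j j (Finset.ne_of_mem_erase hj)
        rw [this, hl'i, hsucc]
        simp only [Nat.succ_eq_add_one]
        omega
      have hsum2 : (Finset.univ.sum fun j => d j * l' j) + d i = n := by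
        rw [hn, ← Finset.add_sum_erase Finset.univ (fun j => d j * l' j) (Finset.mem_univ i),
          ← Finset.add_sum_erase Finset.univ (fun j => d j * l j) (Finset.mem_univ i)]
        have : (Finset.univ.erase i).sum (fun j => d j * l' j) =
            (Finset.univ.erase i).sum (fun j => d j * l j) := by
          apply Finset.sum_congr rfl
          intro j hj
          rw [hl'j j (Finset.ne_of_mem_erase hj)]
        rw [this, hl'i, hsucc]
        simp only [Nat.succ_eq_add_one]
        ring
      set n' := Finset.univ.sum (fun j => d j * l' j) with hn'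
      have hf := QuotientGroup.mk'_surjective B
      have hquot : derivedSeries (G ⧸ B) n' = ⊥ := by
        apply IH (Finset.univ.sum fun j => l' j) (by omega) (G ⧸ B) l' rfl
        · intro s hs hdvd
          exact hcover s hs (dvd_trans hdvd (Subgroup.card_quotient_dvd_card B))
        · intro j Sb
          haveI : Fact (q j).Prime := ⟨hq j⟩
          obtain ⟨S, rfl⟩ := Sylow.mapSurjective_surjective hf (q j) Sb
          rw [Sylow.coe_mapSurjective, ← map_dser, hd j S, Subgroup.map_bot]
        · intro j
          haveI : Fact (q j).Prime := ⟨hq j⟩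
          by_cases hji : j = i
          · subst hji
            rw [hl'i]
            apply pLengthLE_of_surjective_shift (q j) (QuotientGroup.mk' B) hf
            · rw [QuotientGroup.ker_mk']
            · have := hl j
              rwa [hsucc] at this
          · rw [hl'j j hji]
            exact pLengthLE_quotient _ B (hl j)
      have hle1 : derivedSeries G n' ≤ B := by
        have h1 := map_derivedSeries_le_derivedSeries (QuotientGroup.mk' B) n'
        rw [hquot, le_bot_iff] at h1
        intro x hx
        have h2 : QuotientGroup.mk' B x ∈ (derivedSeries G n').map (QuotientGroup.mk' B) :=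
          ⟨x, hx, rfl⟩
        rw [h1, Subgroup.mem_bot] at h2
        exact (QuotientGroup.eq_one_iff x).mp h2
      have hle2 : derivedSeries G n ≤ dser B (d i) := by
        rw [← hsum2]
        exact derivedSeries_add_le_of_le B hle1 (d i)
      -- `B ≤ S ⊔ A`
      obtain ⟨S⟩ : Nonempty (Sylow (q i) G) := inferInstance
      have hfA := QuotientGroup.mk'_surjective A
      have hBS : B ≤ (S : Subgroup G) ⊔ A := by
        intro x hx
        rw [hB, upperPSeries_succ_odd (q i) 1 (by decide), Subgroup.mem_comap] at hx
        have h1 := Cfsg.Agent.Lib.Helper1.pCore_le_sylow (Sylow.mapSurjective hfA S) hx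
        rw [Sylow.coe_mapSurjective] at h1
        obtain ⟨s, hs, hsx⟩ := h1
        have h2 : s⁻¹ * x ∈ A := by
          rw [← QuotientGroup.eq_one_iff, QuotientGroup.mk_mul, QuotientGroup.mk_inv]
          have : (QuotientGroup.mk s : G ⧸ A) = QuotientGroup.mk x := hsx
          rw [this, inv_mul_cancel]
        have h3 : x = s * (s⁻¹ * x) := by group
        rw [h3]
        exact Subgroup.mul_mem _ (Subgroup.mem_sup_left hs) (Subgroup.mem_sup_right h2)
      have hle3 : dser ((S : Subgroup G) ⊔ A) (d i) ≤ A := by
        have h1 : (dser ((S : Subgroup G) ⊔ A) (d i)).map (QuotientGroup.mk' A) = ⊥ := by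
          rw [map_dser, Subgroup.map_sup, QuotientGroup.map_mk'_self, sup_bot_eq, ← map_dser,
            hd i S, Subgroup.map_bot]
        intro x hx
        have h2 : QuotientGroup.mk' A x ∈
            (dser ((S : Subgroup G) ⊔ A) (d i)).map (QuotientGroup.mk' A) := ⟨x, hx, rfl⟩
        rw [h1, Subgroup.mem_bot] at h2
        exact (QuotientGroup.eq_one_iff x).mp h2
      rw [← upperPSeries_one_eq]
      exact le_trans hle2 (le_trans (dser_mono hBS (d i)) hle3)
  -- conclude
  by_contra hne
  have hcard : Nat.card (derivedSeries G n) ≠ 1 := by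
    intro h1
    exact hne ((Subgroup.card_eq_one).mp h1)
  obtain ⟨s, hs, hsdvd⟩ := Nat.exists_prime_and_dvd hcard
  obtain ⟨i, hi⟩ := hcover s hs (dvd_trans hsdvd (Subgroup.card_subgroup_dvd_card _))
  have h1 : s ∣ Nat.card (Cfsg.pPrimeCore (q i) G) :=
    dvd_trans hsdvd (Subgroup.card_dvd_of_le (main i))
  have h2 := pPrimeCore_coprime (X := G) (q i)
  rw [hi] at h2
  have h3 : s ∣ Nat.gcd (Nat.card (Cfsg.pPrimeCore s G)) s := by
    rw [hi] at h1
    exact Nat.dvd_gcd h1 dvd_rfl
  rw [h2] at h3
  exact hs.one_lt.ne' (Nat.dvd_one.mp h3)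

/-- The Hall–Higman bound on derived length: let G be a finite solvable group, let p₁, …, p_r be distinct primes that include every prime dividing the order of G, and suppose that for each i the Sylow p_i-subgroups of G have derived length at most d_i and G has p_i-length at most l_i. Then G has derived length at most Σ d_i l_i. -/
theorem result {G : Type*} [Group G] [Finite G] (hG : Group.IsSolvable G) (r : ℕ) (q : Fin r → ℕ) (hq : ∀ i, (q i).Prime) (hinj : Function.Injective q) (hcover : ∀ s : ℕ, s.Prime → s ∣ Nat.card G → ∃ i, q i = s) (d l : Fin r → ℕ) (hd : ∀ i, ∀ P : Subgroup G, (haveI := Fact.mk (hq i); ∃ S : Sylow (q i) G, (S : Subgroup G) = P) → derivedSeries ↥P (d i) = ⊥) (hl : ∀ i, Cfsg.PLengthLE (q i) (l i) G) : derivedSeries G (Finset.univ.sum fun i => d i * l i) = ⊥ := by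
  apply aux r q hq d _ G l rfl hcover _ hl
  intro i S
  rw [Cfsg.Agent.Lib.Helper1.PLen.dser_eq_map, hd i (S : Subgroup G) ⟨S, rfl⟩, Subgroup.map_bot]

end Cfsg.Agent.S3791
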