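import Cfsg.Statements.S3796
import Cfsg.Agent.Lib.Helper23.WardK
import Cfsg.Agent.Lib.Helper20.ActionBridge

set_option autoImplicit false
open Cfsg

namespace Cfsg.Agent.S3796

open Cfsg.Agent.Lib.Helper20 Cfsg.Agent.Lib.Helper23.Ward

/-- Ward's Theorem -/
theorem result {G : Type*} [Group G] [Finite G] (hG : Group.IsSolvable G) {p : ℕ} (hp : p.Prime) (A : Subgroup (MulAut G)) (hA : Cfsg.IsElementaryAbelian p A) (hcard : Nat.card A = p ^ 2) (hfpf : ∀ g : G, (∀ a ∈ A, a g = g) → g = 1) : ∃ F : Fin (2 + 1) → Subgroup G, F 0 = ⊥ ∧ F (Fin.last 2) = ⊤ ∧ Monotone F ∧ (∀ i, (F i).Normal) ∧ ∀ i : Fin 2, ∃ k : ℕ, (F i.succ).lowerCentralSeries k ≤ F i.castSucc := by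
  classical
  have : Fact p.Prime := ⟨hp⟩
  have hAfin : Finite ↥A := Nat.finite_of_card_ne_zero (by rw [hcard]; exact pow_ne_zero _ hp.pos.ne')
  have hAcomm : ∀ a b : ↥A, a * b = b * a := by
    intro a b
    have := hA.1
    exact Subtype.ext (setLike_mul_comm a.2 b.2)
  -- coprimality
  have hApg : IsPGroup p ↥A := IsPGroup.of_card hcard
  have hfix : MulAction.fixedPoints ↥A G = {1} := by
    ext g
    constructor
    · intro hg
      have : g = 1 := hfpf g (fun a ha => hg ⟨a, ha⟩)
      exact this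
    · intro hg
      rw [Set.mem_singleton_iff] at hg
      intro a
      rw [hg]
      exact smul_one a
  have hmod := hApg.card_modEq_card_fixedPoints G
  have hcop : (Nat.card ↥A).Coprime (Nat.card G) := by
    rw [hcard]
    apply Nat.Coprime.pow_left
    rw [Nat.Prime.coprime_iff_not_dvd hp]
    intro hdvd
    have hc1 : Nat.card (MulAction.fixedPoints ↥A G) = 1 := by
      rw [hfix]
      simp
    rw [hc1] at hmod
    have h1 : Nat.card G % p = 0 := Nat.mod_eq_zero_of_dvd hdvd
    have h2 : Nat.card G % p = 1 % p := hmod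
    rw [h1, Nat.mod_eq_of_lt hp.one_lt] at h2
    exact absurd h2 (by norm_num)
  -- the semidirect product
  have hsolv : Group.IsSolvable (Sd ↥A G) := by
    have : Group.IsSolvable ↥A := Group.isSolvable_of_comm hAcomm
    exact Group.isSolvable_of_ker_le_range (SemidirectProduct.inl : G →* Sd ↥A G)
      (SemidirectProduct.rightHom : Sd ↥A G →* ↥A)
      (by rw [SemidirectProduct.range_inl_eq_ker_rightHom])
  have hWH : WH (Sd ↥A G) p (sdG ↥A G) (sdA ↥A G) :=
    { hp := hp
      hGn := inferInstance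
      hΓs := hsolv
      hA := by
        constructor
        · refine ⟨⟨?_⟩⟩
          rintro ⟨_, ⟨a, rfl⟩⟩ ⟨_, ⟨b, rfl⟩⟩
          apply Subtype.ext
          show SemidirectProduct.inr a * SemidirectProduct.inr b =
            SemidirectProduct.inr b * SemidirectProduct.inr a
          rw [← map_mul, ← map_mul, hAcomm a b]
        · rintro _ ⟨a, rfl⟩
          rw [← map_pow]
          have : a ^ p = 1 := Subtype.ext (by simpa using hA.2 a a.2)
          rw [this, map_one]
      hAcard := by rw [card_sdA, hcard]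
      hcop := by rw [card_sdA, card_sdG]; exact hcop
      hf := by
        rintro _ ⟨g, rfl⟩ hc
        have h1 : (SemidirectProduct.inl g : Sd ↥A G) ∈
            Subgroup.centralizer ((sdA ↥A G : Subgroup (Sd ↥A G)) : Set (Sd ↥A G)) := by
          rw [Subgroup.mem_centralizer_iff]
          intro a ha
          exact hc a ha
        have h2 := (sd_mem_centralizer_iff g).mp h1
        have h3 : g = 1 := hfpf g (fun a ha => h2 ⟨a, ha⟩)
        rw [h3, map_one] }
  obtain ⟨N', hN'G, hN'n, ⟨k₁, hk₁⟩, ⟨k₂, hk₂⟩⟩ :=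
    ward_internal _ (Sd ↥A G) p (sdG ↥A G) (sdA ↥A G) hWH rfl
  have hinj : Function.Injective (SemidirectProduct.inl : G →* Sd ↥A G) :=
    SemidirectProduct.inl_injective
  set N : Subgroup G := N'.comap (SemidirectProduct.inl : G →* Sd ↥A G) with hN
  have hNn : N.Normal := hN'n.comap _
  have hmapN : N.map (SemidirectProduct.inl : G →* Sd ↥A G) ≤ N' := Subgroup.map_comap_le _ _
  have hlcsN : N.lowerCentralSeries k₁ = ⊥ := by
    rw [eq_bot_iff]
    intro x hx
    have h1 : (SemidirectProduct.inl x : Sd ↥A G) ∈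
        (N.lowerCentralSeries k₁).map (SemidirectProduct.inl : G →* Sd ↥A G) :=
      Subgroup.mem_map_of_mem _ hx
    rw [Subgroup.map_lowerCentralSeries] at h1
    have h2 := lcs_mono hmapN k₁ h1
    rw [hk₁, Subgroup.mem_bot] at h2
    rw [Subgroup.mem_bot]
    exact hinj (by rw [h2, map_one])
  have hlcsG : (⊤ : Subgroup G).lowerCentralSeries k₂ ≤ N := by
    intro x hx
    have h1 : (SemidirectProduct.inl x : Sd ↥A G) ∈
        ((⊤ : Subgroup G).lowerCentralSeries k₂).map (SemidirectProduct.inl : G →* Sd ↥A G) :=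
      Subgroup.mem_map_of_mem _ hx
    rw [Subgroup.map_lowerCentralSeries, ← MonoidHom.range_eq_map] at h1
    exact hk₂ h1
  refine ⟨![⊥, N, ⊤], rfl, rfl, ?_, ?_, ?_⟩
  · intro i j hij
    fin_cases i <;> fin_cases j <;> simp at hij ⊢
  · intro i
    fin_cases i
    · exact (inferInstance : (⊥ : Subgroup G).Normal)
    · exact hNn
    · exact (inferInstance : (⊤ : Subgroup G).Normal)
  · intro i
    fin_cases i
    · exact ⟨k₁, le_of_eq hlcsN⟩
    · exact ⟨k₂, hlcsG⟩

end Cfsg.Agent.S3796
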