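import Cfsg.Statements.S3800
import Mathlib

set_option autoImplicit false
open Cfsg

namespace Cfsg.Agent.S3800

open scoped Pointwise

/-- Sylow conjugacy inside `P ⊔ N` for a `p`-subgroup `P` and a normal `p'`-subgroup `N`. -/
theorem conj_in_sup {G : Type*} [Group G] [Finite G] {p : ℕ} [Fact p.Prime] (N : Subgroup G) [N.Normal]
    (hN : (Nat.card N).Coprime p) (P : Subgroup G) (hP : IsPGroup p P) (x : G)
    (hx : P.map (MulAut.conj x).toMonoidHom ≤ P ⊔ N) :
    ∃ k ∈ P ⊔ N, P.map (MulAut.conj x).toMonoidHom = P.map (MulAut.conj k).toMonoidHom := by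
  classical
  set K : Subgroup G := P ⊔ N with hK
  set Q : Subgroup G := P.map (MulAut.conj x).toMonoidHom with hQ
  have hPK : P ≤ K := le_sup_left
  have hNK : N ≤ K := le_sup_right
  have hcop : (Nat.card P).Coprime (Nat.card N) := by
    obtain ⟨k, hk⟩ := hP.exists_card_eq
    rw [hk]
    exact (Nat.Coprime.pow_left k hN.symm)
  have hPN : P ⊓ N = ⊥ := (Subgroup.disjoint_of_coprime_natCard hcop).eq_bot
  have hcardK : Nat.card K = Nat.card N * Nat.card P := by
    have h1 := Subgroup.relIndex_mul_relIndex (⊥ : Subgroup G) N K bot_le hNK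
    rw [Subgroup.relIndex_bot_left, Subgroup.relIndex_bot_left] at h1
    rw [← h1]
    congr 1
    rw [hK, Subgroup.relIndex_sup_right, ← Subgroup.inf_relIndex_left, hPN,
      Subgroup.relIndex_bot_left]
  have hrel : ∀ R : Subgroup G, R ≤ K → Nat.card R = Nat.card P → R.relIndex K = Nat.card N := by
    intro R hRK hcard
    have h1 := Subgroup.relIndex_mul_relIndex (⊥ : Subgroup G) R K bot_le hRK
    rw [Subgroup.relIndex_bot_left, Subgroup.relIndex_bot_left, hcardK, hcard, mul_comm] at h1
    have hpos : 0 < Nat.card P := Nat.card_pos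
    exact Nat.eq_of_mul_eq_mul_right hpos h1
  have hQcard : Nat.card Q = Nat.card P :=
    Subgroup.card_map_of_injective (MulAut.conj x).injective
  have hQp : IsPGroup p Q := hP.map _
  have hnd : ∀ R : Subgroup G, R ≤ K → Nat.card R = Nat.card P → ¬ p ∣ (R.subgroupOf K).index := by
    intro R hRK hcard hdvd
    have : (R.subgroupOf K).index = Nat.card N := hrel R hRK hcard
    rw [this] at hdvd
    have hp : p.Prime := Fact.out
    exact hp.one_lt.ne' (Nat.eq_one_of_dvd_coprimes hN hdvd (dvd_refl p))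
  let S₁ : Sylow p K := (hP.comap_subtype (K := K)).toSylow (hnd P hPK rfl)
  let S₂ : Sylow p K := (hQp.comap_subtype (K := K)).toSylow (hnd Q hx hQcard)
  obtain ⟨k, hk⟩ := MulAction.exists_smul_eq K S₁ S₂
  refine ⟨k, k.2, ?_⟩
  have hk' : MulAut.conj k • (P.subgroupOf K) = Q.subgroupOf K := by
    have := congrArg (fun S : Sylow p K => (S : Subgroup K)) hk
    simpa [Sylow.coe_subgroup_smul, S₁, S₂] using this
  -- push to G
  ext g
  constructor
  · intro hg
    have hgK : g ∈ K := hx hg
    have : (⟨g, hgK⟩ : K) ∈ Q.subgroupOf K := by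
      rw [Subgroup.mem_subgroupOf]; exact hg
    rw [← hk'] at this
    rw [Subgroup.mem_pointwise_smul_iff_inv_smul_mem] at this
    rw [Subgroup.mem_subgroupOf] at this
    refine ⟨_, this, ?_⟩
    simp [MulAut.conj_apply, mul_assoc]
  · rintro ⟨u, hu, rfl⟩
    have huK : u ∈ K := hPK hu
    have h1 : MulAut.conj k • (⟨u, huK⟩ : K) ∈ MulAut.conj k • (P.subgroupOf K) :=
      Subgroup.smul_mem_pointwise_smul _ _ _ (by rw [Subgroup.mem_subgroupOf]; exact hu)
    rw [hk', Subgroup.mem_subgroupOf] at h1
    simpa [MulAut.conj_apply] using h1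

/-- Let G be a finite group, N a normal subgroup of G whose order is prime to p, and P a p-subgroup of G. Then in G/N the normalizer of the image of P is the image of N_G(P), and the centralizer of the image of P is the image of C_G(P). -/
theorem result {G : Type*} [Group G] [Finite G] {p : ℕ} [Fact p.Prime] (N : Subgroup G) [N.Normal] (hN : (Nat.card N).Coprime p) (P : Subgroup G) (hP : IsPGroup p P) : Subgroup.normalizer ((P.map (QuotientGroup.mk' N)) : Set (G ⧸ N)) = (Subgroup.normalizer (P : Set G)).map (QuotientGroup.mk' N) ∧ Subgroup.centralizer ((P.map (QuotientGroup.mk' N)) : Set (G ⧸ N)) = (Subgroup.centralizer (P : Set G)).map (QuotientGroup.mk' N) := by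
  classical
  have hcop : (Nat.card P).Coprime (Nat.card N) := by
    obtain ⟨k, hk⟩ := hP.exists_card_eq
    rw [hk]
    exact (Nat.Coprime.pow_left k hN.symm)
  have hPN : P ⊓ N = ⊥ := (Subgroup.disjoint_of_coprime_natCard hcop).eq_bot
  have hcomap : (P.map (QuotientGroup.mk' N)).comap (QuotientGroup.mk' N) = P ⊔ N := by
    rw [Subgroup.comap_map_eq, QuotientGroup.ker_mk']
  -- the normalizer inclusion
  have hnorm : ∀ q ∈ Subgroup.normalizer ((P.map (QuotientGroup.mk' N)) : Set (G ⧸ N)),
      q ∈ (Subgroup.normalizer (P : Set G)).map (QuotientGroup.mk' N) := by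
    intro q hq
    obtain ⟨x, rfl⟩ := QuotientGroup.mk'_surjective N q
    rw [Subgroup.mem_normalizer_iff] at hq
    have hx : P.map (MulAut.conj x).toMonoidHom ≤ P ⊔ N := by
      rintro _ ⟨u, hu, rfl⟩
      rw [← hcomap, Subgroup.mem_comap]
      simp only [MulEquiv.coe_toMonoidHom, MulAut.conj_apply, map_mul, map_inv]
      rw [← map_inv]
      exact (hq _).mp (Subgroup.mem_map_of_mem _ hu)
    obtain ⟨k, hk, hkeq⟩ := conj_in_sup N hN P hP x hx
    -- k = u * n with u ∈ P, n ∈ N
    obtain ⟨u, hu, n, hn, rfl⟩ := Subgroup.mem_sup_of_normal_right.mp hk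
    -- y = (u*n)⁻¹ * x normalizes P, and u * y maps to the same class as x
    have hy : (u * n)⁻¹ * x ∈ Subgroup.normalizer (P : Set G) := by
      rw [Subgroup.mem_normalizer_iff]
      intro g
      constructor
      · intro hg
        have h1 : x * g * x⁻¹ ∈ P.map (MulAut.conj x).toMonoidHom := ⟨g, hg, rfl⟩
        rw [hkeq] at h1
        obtain ⟨g', hg', he⟩ := h1
        simp only [MulEquiv.coe_toMonoidHom, MulAut.conj_apply] at he
        have : (u * n)⁻¹ * x * g * ((u * n)⁻¹ * x)⁻¹ = g' := by
          have : (u * n)⁻¹ * x * g * ((u * n)⁻¹ * x)⁻¹ = (u * n)⁻¹ * (x * g * x⁻¹) * (u * n) := by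
            group
          rw [this, ← he]; group
        rw [this]; exact hg'
      · intro hg
        have h1 : (u * n) * ((u * n)⁻¹ * x * g * ((u * n)⁻¹ * x)⁻¹) * (u * n)⁻¹ ∈
            P.map (MulAut.conj (u * n)).toMonoidHom := ⟨_, hg, rfl⟩
        rw [← hkeq] at h1
        obtain ⟨g', hg', he⟩ := h1
        simp only [MulEquiv.coe_toMonoidHom, MulAut.conj_apply] at he
        have e2 : (u * n) * ((u * n)⁻¹ * x * g * ((u * n)⁻¹ * x)⁻¹) * (u * n)⁻¹ = x * g * x⁻¹ := by
          group
        rw [e2] at he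
        have : g = g' := by
          have := congrArg (fun z => x⁻¹ * z * x) he
          have e3 : x⁻¹ * (x * g' * x⁻¹) * x = g' := by group
          have e4 : x⁻¹ * (x * g * x⁻¹) * x = g := by group
          rw [e3, e4] at this
          exact this.symm
        rw [this]; exact hg'
    refine ⟨u * ((u * n)⁻¹ * x), ?_, ?_⟩
    · exact Subgroup.mul_mem _ (Subgroup.le_normalizer hu) hy
    · rw [QuotientGroup.mk'_apply, QuotientGroup.mk'_apply, QuotientGroup.eq]
      have : (u * ((u * n)⁻¹ * x))⁻¹ * x = x⁻¹ * (u * n * u⁻¹) * x⁻¹⁻¹ := by group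
      rw [this]
      exact ‹N.Normal›.conj_mem _ (‹N.Normal›.conj_mem n hn u) x⁻¹
  constructor
  · apply le_antisymm
    · exact hnorm
    · exact Subgroup.le_normalizer_map _
  · apply le_antisymm
    · intro q hq
      have hqn : q ∈ Subgroup.normalizer ((P.map (QuotientGroup.mk' N)) : Set (G ⧸ N)) :=
        Subgroup.centralizer_le_normalizer _ hq
      obtain ⟨y, hy, rfl⟩ := hnorm q hqn
      refine ⟨y, ?_, rfl⟩
      rw [SetLike.mem_coe, Subgroup.mem_centralizer_iff]
      intro u hu
      -- [y,u] ∈ P ⊓ N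
      have hu' : u ∈ P := hu
      have h1 : y * u * y⁻¹ * u⁻¹ ∈ P := by
        have := (Subgroup.mem_normalizer_iff.mp hy u).mp hu'
        exact P.mul_mem this (P.inv_mem hu')
      have h2 : y * u * y⁻¹ * u⁻¹ ∈ N := by
        rw [← QuotientGroup.ker_mk' N, MonoidHom.mem_ker]
        rw [Subgroup.mem_centralizer_iff] at hq
        have := hq (QuotientGroup.mk' N u) (Subgroup.mem_map_of_mem _ hu')
        simp only [map_mul, map_inv]
        rw [← this]; group
      have h3 : y * u * y⁻¹ * u⁻¹ ∈ P ⊓ N := ⟨h1, h2⟩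
      rw [hPN, Subgroup.mem_bot] at h3
      have : y * u = u * y := by
        have := congrArg (fun z => z * u * y) h3
        have e : y * u * y⁻¹ * u⁻¹ * u * y = y * u := by group
        rw [e, one_mul] at this
        exact this
      exact this.symm
    · rw [Subgroup.coe_map]
      exact Subgroup.map_centralizer_le_centralizer_image _ _

end Cfsg.Agent.S3800
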