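import Cfsg.Statements.S3803
import Mathlib
import Cfsg.Agent.Lib.Helper20.OddAutTwoGroup

set_option autoImplicit false
open Cfsg

namespace Cfsg.Agent.S3803

open Cfsg.Agent.Lib.Helper20

theorem odd_orderOf_normalizerMonoidHom {X : Type*} [Group X] (R : Subgroup X) (a : X)
    (ha : a ∈ Subgroup.normalizer (R : Set X)) (hodd : Odd (orderOf a)) :
    Odd (orderOf (R.normalizerMonoidHom ⟨a, ha⟩)) := by
  have h1 : orderOf (R.normalizerMonoidHom ⟨a, ha⟩) ∣
      orderOf (⟨a, ha⟩ : Subgroup.normalizer (R : Set X)) := orderOf_map_dvd _ _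
  rw [Subgroup.orderOf_mk] at h1
  exact Odd.of_dvd_nat hodd h1

theorem conj_fix_of_isCyclic {X : Type*} [Group X] (R : Subgroup X) [Finite R]
    (hR : IsPGroup 2 R) [IsCyclic R] (a : X) (ha : a ∈ Subgroup.normalizer (R : Set X))
    (hodd : Odd (orderOf a)) : ∀ y ∈ R, a * y * a⁻¹ = y := by
  intro y hy
  have h1 := aut_eq_one_of_isCyclic_two_group hR _ (odd_orderOf_normalizerMonoidHom R a ha hodd)
  have h2 := congrArg (fun f : MulAut R => ((f ⟨y, hy⟩ : R) : X)) h1
  simpa using h2

theorem conj_fix_of_max_invariant {X : Type*} [Group X] (R : Subgroup X) [Finite R]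
    (hR : IsPGroup 2 R) (a : X) (ha : a ∈ Subgroup.normalizer (R : Set X))
    (hodd : Odd (orderOf a))
    (hM : ∀ M : Subgroup X, M ≤ R → 2 * Nat.card M = Nat.card R →
      a ∈ Subgroup.normalizer (M : Set X)) : ∀ y ∈ R, a * y * a⁻¹ = y := by
  haveI : Fact (Nat.Prime 2) := ⟨Nat.prime_two⟩
  have h1 : R.normalizerMonoidHom ⟨a, ha⟩ = 1 := by
    apply aut_eq_one_of_coatoms_invariant hR _ (odd_orderOf_normalizerMonoidHom R a ha hodd)
    intro M' hM' y hy
    have hidx : M'.index = 2 := Cfsg.Agent.Lib.Helper1.IsPGroup.coatom_index hR M' hM'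
    have hcard : 2 * Nat.card (M'.map R.subtype) = Nat.card R := by
      rw [Subgroup.card_map_of_injective R.subtype_injective, ← M'.card_mul_index, hidx, mul_comm]
    have hn := hM (M'.map R.subtype) (Subgroup.map_subtype_le M') hcard
    have hy' : (y : X) ∈ M'.map R.subtype := Subgroup.mem_map_of_mem R.subtype hy
    have h2 := (Subgroup.mem_normalizer_iff.mp hn (y : X)).mp hy'
    obtain ⟨z, hz, hzy⟩ := Subgroup.mem_map.mp h2
    have : z = R.normalizerMonoidHom ⟨a, ha⟩ y := by
      apply Subtype.ext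
      rw [← Subgroup.subtype_apply, hzy]
      simp
    rw [← this]; exact hz
  intro y hy
  have h2 := congrArg (fun f : MulAut R => ((f ⟨y, hy⟩ : R) : X)) h1
  simpa using h2

theorem exists_subgroup_card_between {X : Type*} [Group X] (P : Subgroup X) [Finite P] {p : ℕ}
    [Fact p.Prime] (H : Subgroup X) (hHP : H ≤ P) {n m : ℕ} (hH : Nat.card H = p ^ n)
    (hnm : n ≤ m) (hdvd : p ^ m ∣ Nat.card P) :
    ∃ K : Subgroup X, K ≤ P ∧ Nat.card K = p ^ m ∧ H ≤ K := by
  have hH' : Nat.card (H.subgroupOf P) = p ^ n := by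
    rw [← hH]; exact Nat.card_congr (Subgroup.subgroupOfEquivOfLe hHP).toEquiv
  obtain ⟨K', hK', hle⟩ := Sylow.exists_subgroup_card_pow_prime_le p hdvd (H.subgroupOf P) hH' hnm
  refine ⟨K'.map P.subtype, Subgroup.map_subtype_le K', ?_, ?_⟩
  · rw [Subgroup.card_map_of_injective P.subtype_injective, hK']
  · rw [← Subgroup.map_subgroupOf_eq_of_le hHP]
    exact Subgroup.map_mono hle

theorem exists_max_ge {X : Type*} [Group X] (F : Subgroup X) [Finite F] (hF : IsPGroup 2 F)
    (H : Subgroup X) (hHF : H ≤ F) (hne : H ≠ F) :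
    ∃ M : Subgroup X, M ≤ F ∧ H ≤ M ∧ 2 * Nat.card M = Nat.card F := by
  haveI : Fact (Nat.Prime 2) := ⟨Nat.prime_two⟩
  have hne' : H.subgroupOf F ≠ ⊤ := by
    intro h
    rw [Subgroup.subgroupOf_eq_top] at h
    exact hne (le_antisymm hHF h)
  obtain ⟨M', hM', hle⟩ := (eq_top_or_exists_le_coatom (H.subgroupOf F)).resolve_left hne'
  have hidx : M'.index = 2 := Cfsg.Agent.Lib.Helper1.IsPGroup.coatom_index hF M' hM'
  refine ⟨M'.map F.subtype, Subgroup.map_subtype_le M', ?_, ?_⟩
  · rw [← Subgroup.map_subgroupOf_eq_of_le hHF]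
    exact Subgroup.map_mono hle
  · rw [Subgroup.card_map_of_injective F.subtype_injective, ← M'.card_mul_index, hidx, mul_comm]

theorem core {X : Type*} [Group X] [Finite X] (P D : Subgroup X) (hP : IsPGroup 2 P) (a : X)
    (hodd : Odd (orderOf a)) (haP : a ∈ Subgroup.normalizer (P : Set X)) (hDP : D ≤ P)
    (hD1 : 1 < Nat.card D) (hD2 : Nat.card D < Nat.card P)
    (hinv : ∀ E : Subgroup X, E ≤ P →
      (Nat.card E = Nat.card D ∨ (Nat.card D = 2 ∧ Nat.card E = 4)) →
      a ∈ Subgroup.normalizer (E : Set X)) :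
    ∀ x ∈ P, a * x * a⁻¹ = x := by
  classical
  haveI : Fact (Nat.Prime 2) := ⟨Nat.prime_two⟩
  obtain ⟨d, hd⟩ := IsPGroup.iff_card.mp (hP.to_le hDP)
  obtain ⟨m, hm⟩ := IsPGroup.iff_card.mp hP
  have hd1 : 1 ≤ d := by
    by_contra hcon
    have h0 : d = 0 := by omega
    subst h0
    rw [pow_zero] at hd
    omega
  have hdm : d + 1 ≤ m := by
    rw [hd, hm] at hD2
    have := (Nat.pow_lt_pow_iff_right (by norm_num : 1 < 2)).mp hD2
    omega
  -- Step A: elements of order dividing 4 are fixed
  have stepA : ∀ x ∈ P, x ^ 4 = 1 → a * x * a⁻¹ = x := by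
    intro x hxP hx4
    have hZP : Subgroup.zpowers x ≤ P := (Subgroup.zpowers_le).mpr hxP
    obtain ⟨i, hi2, hi⟩ : ∃ i, i ≤ 2 ∧ orderOf x = 2 ^ i := by
      have : orderOf x ∣ 2 ^ 2 := orderOf_dvd_of_pow_eq_one (by norm_num; exact hx4)
      exact (Nat.dvd_prime_pow Nat.prime_two).mp this
    have hZcard : Nat.card (Subgroup.zpowers x) = 2 ^ i := by rw [Nat.card_zpowers, hi]
    by_cases hd2 : d = 1
    · subst hd2
      rcases Nat.eq_zero_or_pos i with h0 | h0
      · subst h0
        have hx1 : x = 1 := by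
          rw [pow_zero] at hi
          exact orderOf_eq_one_iff.mp hi
        subst hx1
        simp
      · have hZinv : a ∈ Subgroup.normalizer ((Subgroup.zpowers x : Subgroup X) : Set X) := by
          apply hinv _ hZP
          have hi' : i = 1 ∨ i = 2 := by omega
          rcases hi' with rfl | rfl
          · left; rw [hZcard, hd]
          · right; exact ⟨by rw [hd]; norm_num, by rw [hZcard]; norm_num⟩
        exact conj_fix_of_isCyclic _ (hP.to_le hZP) a hZinv hodd x (Subgroup.mem_zpowers x)
    · have hd2' : 2 ≤ d := by omega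
      obtain ⟨E, hEP, hEcard, hZE⟩ := exists_subgroup_card_between P (Subgroup.zpowers x) hZP
        hZcard (by omega : i ≤ d) (by rw [hm]; exact pow_dvd_pow 2 (by omega))
      obtain ⟨F, hFP, hFcard, hEF⟩ := exists_subgroup_card_between P E hEP hEcard
        (Nat.le_succ d) (by rw [hm]; exact pow_dvd_pow 2 hdm)
      have hxE : x ∈ E := hZE (Subgroup.mem_zpowers x)
      have hEinv : a ∈ Subgroup.normalizer (E : Set X) :=
        hinv E hEP (Or.inl (by rw [hEcard, hd]))
      by_cases hcyc : IsCyclic F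
      · haveI := hcyc
        haveI : IsCyclic E := Subgroup.isCyclic_of_le hEF
        exact conj_fix_of_isCyclic E (hP.to_le hEP) a hEinv hodd x hxE
      · have hMinv : ∀ M : Subgroup X, M ≤ F → 2 * Nat.card M = Nat.card F →
            a ∈ Subgroup.normalizer (M : Set X) := by
          intro M hMF hMc
          apply hinv M (hMF.trans hFP)
          left
          rw [hd]
          rw [hFcard, pow_succ] at hMc
          omega
        have key : ∀ b : X, (∀ M : Subgroup X, M ≤ F → 2 * Nat.card M = Nat.card F →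
            b ∈ Subgroup.normalizer (M : Set X)) → ∀ y ∈ F, b * y * b⁻¹ ∈ F := by
          intro b hb y hy
          have hne : Subgroup.zpowers y ≠ F := by
            intro h
            apply hcyc
            exact (Subgroup.isCyclic_iff_exists_zpowers_eq_top F).mpr ⟨y, h⟩
          obtain ⟨M, hMF, hyM, hMc⟩ := exists_max_ge F (hP.to_le hFP) (Subgroup.zpowers y)
            (Subgroup.zpowers_le.mpr hy) hne
          have := (Subgroup.mem_normalizer_iff.mp (hb M hMF hMc) y).mp
            (hyM (Subgroup.mem_zpowers y))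
          exact hMF this
        have hFinv : a ∈ Subgroup.normalizer (F : Set X) := by
          rw [Subgroup.mem_normalizer_iff]
          intro y
          constructor
          · exact key a hMinv y
          · intro hy
            have := key a⁻¹ (fun M hMF hMc => Subgroup.inv_mem _ (hMinv M hMF hMc)) _ hy
            simpa [mul_assoc] using this
        exact conj_fix_of_max_invariant F (hP.to_le hFP) a hFinv hodd hMinv x (hEF hxE)
  -- Step B
  have h1 : P.normalizerMonoidHom ⟨a, haP⟩ = 1 := by
    apply aut_eq_one_of_fix_pow_four hP _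
      (Nat.coprime_two_right.mpr (odd_orderOf_normalizerMonoidHom P a haP hodd))
    intro y hy4
    apply Subtype.ext
    have := stepA (y : X) y.2 (by rw [← Subgroup.coe_pow, hy4]; rfl)
    simpa using this
  intro x hxP
  have h2 := congrArg (fun f : MulAut P => ((f ⟨x, hxP⟩ : P) : X)) h1
  simpa using h2

/-- Let P be a 2-subgroup and A a subgroup of odd order of a finite group, with A normalizing P. Let D ≤ P with 1 < |D| < |P|. If every subgroup of P of order |D|, and also every subgroup of P of order 4 in case |D| = 2, is normalized by A, then A centralizes P. -/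
theorem result {X : Type*} [Group X] [Finite X] (P A D : Subgroup X) (hP : IsPGroup 2 P) (hA : Odd (Nat.card A))
    (hAP : A ≤ Subgroup.normalizer (P : Set X)) (hDP : D ≤ P) (hD1 : 1 < Nat.card D) (hD2 : Nat.card D < Nat.card P)
    (hinv : ∀ E : Subgroup X, E ≤ P → (Nat.card E = Nat.card D ∨ (Nat.card D = 2 ∧ Nat.card E = 4)) → A ≤ Subgroup.normalizer (E : Set X)) :
    A ≤ Subgroup.centralizer (P : Set X) := by
  classical
  intro a haA
  rw [Subgroup.mem_centralizer_iff]
  intro x hx
  have hodd : Odd (orderOf a) := by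
    have h1 : orderOf (⟨a, haA⟩ : A) ∣ Nat.card A := orderOf_dvd_natCard _
    rw [Subgroup.orderOf_mk] at h1
    exact Odd.of_dvd_nat hA h1
  have h := core P D hP a hodd (hAP haA) hDP hD1 hD2 (fun E hE hc => hinv E hE hc haA) x hx
  calc x * a = (a * x * a⁻¹) * a := by rw [h]
    _ = a * x := by simp [mul_assoc]

end Cfsg.Agent.S3803
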