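import Cfsg.Statements.S3804
import Mathlib
import Cfsg.Agent.Lib.Helper17.Card

set_option autoImplicit false
open Cfsg

namespace Cfsg.Agent.S3804

open scoped Pointwise

open Cfsg.Agent.Lib.Helper17 in
theorem real_key (α : ℝ) (hα : 0 < α) (a b s i ca cb cs ci cj M : ℝ)
    (ha : 0 < a) (hb : 0 < b) (hs : 0 < s) (hi : 0 < i) (hca : 0 < ca) (hcb : 0 < cb)
    (hcs : 0 < cs) (hci : 0 < ci) (_hcj : 0 < cj)
    (h1 : a * b ≤ s * i) (h2 : ca * cb ≤ cj * cs) (h3 : cj ≤ ci)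
    (hM1 : a ^ α * ca = M) (hM2 : b ^ α * cb = M)
    (hS : s ^ α * cs ≤ M) (hI : i ^ α * ci ≤ M) :
    a * b = s * i ∧ ca * cb = cj * cs ∧ cj = ci ∧ s ^ α * cs = M ∧ i ^ α * ci = M := by
  have hpa : 0 < a ^ α := Real.rpow_pos_of_pos ha α
  have hpb : 0 < b ^ α := Real.rpow_pos_of_pos hb α
  have hps : 0 < s ^ α := Real.rpow_pos_of_pos hs α
  have hpi : 0 < i ^ α := Real.rpow_pos_of_pos hi α
  have hM : 0 < M := by rw [← hM1]; positivity
  have hP : a ^ α * b ^ α ≤ s ^ α * i ^ α := by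
    have := Real.rpow_le_rpow (by positivity) h1 hα.le
    rwa [Real.mul_rpow ha.le hb.le, Real.mul_rpow hs.le hi.le] at this
  have e0 : (a ^ α * b ^ α) * (ca * cb) = M * M := by
    calc (a ^ α * b ^ α) * (ca * cb) = (a ^ α * ca) * (b ^ α * cb) := by ring
      _ = M * M := by rw [hM1, hM2]
  have hB : (a ^ α * b ^ α) * (ca * cb) ≤ (s ^ α * i ^ α) * (cj * cs) :=
    mul_le_mul hP h2 (by positivity) (by positivity)
  have hC : (s ^ α * i ^ α) * (cj * cs) ≤ (s ^ α * i ^ α) * (ci * cs) := by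
    apply mul_le_mul_of_nonneg_left _ (by positivity)
    exact mul_le_mul_of_nonneg_right h3 hcs.le
  have hD : (s ^ α * i ^ α) * (ci * cs) = (s ^ α * cs) * (i ^ α * ci) := by ring
  have hA : (s ^ α * cs) * (i ^ α * ci) ≤ M * M :=
    mul_le_mul hS hI (by positivity) hM.le
  have eX : (s ^ α * i ^ α) * (cj * cs) = M * M :=
    le_antisymm (hC.trans (hD ▸ hA)) (e0 ▸ hB)
  have eY : (s ^ α * i ^ α) * (ci * cs) = M * M :=
    le_antisymm (hD ▸ hA) (eX ▸ hC)
  have eZ : (s ^ α * cs) * (i ^ α * ci) = M * M := hD ▸ eY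
  have hQpos : 0 < s ^ α * i ^ α := by positivity
  have e3 : cj = ci := by
    have h := eX.trans eY.symm
    have h' := mul_left_cancel₀ hQpos.ne' h
    exact mul_right_cancel₀ hcs.ne' h'
  have ePQ : a ^ α * b ^ α = s ^ α * i ^ α := by
    by_contra hne
    have hlt : a ^ α * b ^ α < s ^ α * i ^ α := lt_of_le_of_ne hP hne
    have h1' : (a ^ α * b ^ α) * (ca * cb) < (s ^ α * i ^ α) * (ca * cb) :=
      mul_lt_mul_of_pos_right hlt (by positivity)
    have h2' : (s ^ α * i ^ α) * (ca * cb) ≤ (s ^ α * i ^ α) * (cj * cs) :=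
      mul_le_mul_of_nonneg_left h2 hQpos.le
    have : M * M < M * M := by
      calc M * M = (a ^ α * b ^ α) * (ca * cb) := e0.symm
        _ < (s ^ α * i ^ α) * (ca * cb) := h1'
        _ ≤ (s ^ α * i ^ α) * (cj * cs) := h2'
        _ = M * M := eX
    exact lt_irrefl _ this
  have e2 : ca * cb = cj * cs := by
    have h := e0.trans eX.symm
    rw [ePQ] at h
    exact mul_left_cancel₀ hQpos.ne' h
  have e1 : a * b = s * i := by
    by_contra hne
    have hlt : a * b < s * i := lt_of_le_of_ne h1 hne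
    have := Real.rpow_lt_rpow (by positivity) hlt hα
    rw [Real.mul_rpow ha.le hb.le, Real.mul_rpow hs.le hi.le] at this
    exact this.ne ePQ
  have e4 : s ^ α * cs = M := by
    by_contra hne
    have hlt : s ^ α * cs < M := lt_of_le_of_ne hS hne
    have h1' : (s ^ α * cs) * (i ^ α * ci) < M * (i ^ α * ci) :=
      mul_lt_mul_of_pos_right hlt (by positivity)
    have h2' : M * (i ^ α * ci) ≤ M * M := mul_le_mul_of_nonneg_left hI hM.le
    have : M * M < M * M := by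
      calc M * M = (s ^ α * cs) * (i ^ α * ci) := eZ.symm
        _ < M * (i ^ α * ci) := h1'
        _ ≤ M * M := h2'
    exact lt_irrefl _ this
  have e5 : i ^ α * ci = M := by
    rw [e4] at eZ
    exact mul_left_cancel₀ hM.ne' eZ
  exact ⟨e1, e2, e3, e4, e5⟩

theorem cent_sup {X : Type*} [Group X] (H A B : Subgroup X) :
    H ⊓ Subgroup.centralizer ((A ⊔ B : Subgroup X) : Set X)
      = (H ⊓ Subgroup.centralizer (A : Set X)) ⊓ (H ⊓ Subgroup.centralizer (B : Set X)) := by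
  apply le_antisymm
  · apply le_inf
    · exact inf_le_inf_left _ (Subgroup.centralizer_le (by exact_mod_cast (le_sup_left : A ≤ A ⊔ B)))
    · exact inf_le_inf_left _ (Subgroup.centralizer_le (by exact_mod_cast (le_sup_right : B ≤ A ⊔ B)))
  · intro h hh
    rw [Subgroup.mem_inf, Subgroup.mem_inf, Subgroup.mem_inf] at hh
    obtain ⟨⟨hH, hA⟩, ⟨_, hB⟩⟩ := hh
    rw [Subgroup.mem_inf]
    refine ⟨hH, ?_⟩
    rw [Subgroup.mem_centralizer_iff] at hA hB
    have hle : A ⊔ B ≤ Subgroup.centralizer ({h} : Set X) := by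
      apply sup_le
      · intro x hx
        rw [Subgroup.mem_centralizer_iff]
        intro y hy
        rw [Set.mem_singleton_iff] at hy
        subst hy
        exact (hA x hx).symm
      · intro x hx
        rw [Subgroup.mem_centralizer_iff]
        intro y hy
        rw [Set.mem_singleton_iff] at hy
        subst hy
        exact (hB x hx).symm
    rw [Subgroup.mem_centralizer_iff]
    intro x hx
    have := hle hx
    rw [Subgroup.mem_centralizer_iff] at this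
    exact (this h rfl).symm

theorem cent_inf_le {X : Type*} [Group X] (H A B : Subgroup X) :
    (H ⊓ Subgroup.centralizer (A : Set X)) ⊔ (H ⊓ Subgroup.centralizer (B : Set X))
      ≤ H ⊓ Subgroup.centralizer ((A ⊓ B : Subgroup X) : Set X) := by
  apply sup_le
  · exact inf_le_inf_left _ (Subgroup.centralizer_le (by exact_mod_cast (inf_le_left : A ⊓ B ≤ A)))
  · exact inf_le_inf_left _ (Subgroup.centralizer_le (by exact_mod_cast (inf_le_right : A ⊓ B ≤ B)))

theorem cent_bot {X : Type*} [Group X] (H : Subgroup X) :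
    H ⊓ Subgroup.centralizer (((⊥ : Subgroup X) : Subgroup X) : Set X) = H := by
  apply inf_eq_left.mpr
  intro x _
  rw [Subgroup.mem_centralizer_iff]
  intro y hy
  have : y = 1 := by simpa using hy
  subst this
  simp

/-- Let G and H be subgroups of a finite group with G normalizing H, fix a real number α > 0, and for a subgroup A of G put m(A) = |A|^α · |C_H(A)|. Let A and B be nontrivial subgroups of G at which m attains its maximum over all nontrivial subgroups of G, and assume that A ∩ B ≠ 1 or that this maximum is at least |H|. Then AB = BA is a subgroup at which m is again maximal, C_H(A ∩ B) = C_H(A) C_H(B), and if A ∩ B ≠ 1 then m is maximal at A ∩ B as well. -/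
theorem result {X : Type*} [Group X] [Finite X] (G H : Subgroup X) (hGH : G ≤ Subgroup.normalizer (H : Set X)) (α : ℝ) (hα : 0 < α)
    (A B : Subgroup X) (hA : A ≤ G) (hB : B ≤ G) (hA1 : A ≠ ⊥) (hB1 : B ≠ ⊥)
    (hAmax : ∀ A' : Subgroup X, A' ≤ G → A' ≠ ⊥ → (fun A : Subgroup X => ((Nat.card A : ℝ) ^ α) * (Nat.card ↥(H ⊓ Subgroup.centralizer (A : Set X)) : ℝ)) A' ≤ (fun A : Subgroup X => ((Nat.card A : ℝ) ^ α) * (Nat.card ↥(H ⊓ Subgroup.centralizer (A : Set X)) : ℝ)) A)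
    (hBmax : ∀ A' : Subgroup X, A' ≤ G → A' ≠ ⊥ → (fun A : Subgroup X => ((Nat.card A : ℝ) ^ α) * (Nat.card ↥(H ⊓ Subgroup.centralizer (A : Set X)) : ℝ)) A' ≤ (fun A : Subgroup X => ((Nat.card A : ℝ) ^ α) * (Nat.card ↥(H ⊓ Subgroup.centralizer (A : Set X)) : ℝ)) B)
    (hcase : A ⊓ B ≠ ⊥ ∨ (Nat.card H : ℝ) ≤ (fun A : Subgroup X => ((Nat.card A : ℝ) ^ α) * (Nat.card ↥(H ⊓ Subgroup.centralizer (A : Set X)) : ℝ)) A) :
    (∀ a ∈ A, ∀ b ∈ B, ∃ b' ∈ B, ∃ a' ∈ A, a * b = b' * a') ∧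
    (∀ A' : Subgroup X, A' ≤ G → A' ≠ ⊥ → (fun A : Subgroup X => ((Nat.card A : ℝ) ^ α) * (Nat.card ↥(H ⊓ Subgroup.centralizer (A : Set X)) : ℝ)) A' ≤ (fun A : Subgroup X => ((Nat.card A : ℝ) ^ α) * (Nat.card ↥(H ⊓ Subgroup.centralizer (A : Set X)) : ℝ)) (A ⊔ B)) ∧
    (∀ h ∈ H ⊓ Subgroup.centralizer ((A ⊓ B : Subgroup X) : Set X), ∃ u ∈ H ⊓ Subgroup.centralizer (A : Set X), ∃ v ∈ H ⊓ Subgroup.centralizer (B : Set X), h = u * v) ∧
    (A ⊓ B ≠ ⊥ → ∀ A' : Subgroup X, A' ≤ G → A' ≠ ⊥ → (fun A : Subgroup X => ((Nat.card A : ℝ) ^ α) * (Nat.card ↥(H ⊓ Subgroup.centralizer (A : Set X)) : ℝ)) A' ≤ (fun A : Subgroup X => ((Nat.card A : ℝ) ^ α) * (Nat.card ↥(H ⊓ Subgroup.centralizer (A : Set X)) : ℝ)) (A ⊓ B)) := by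
  classical
  beta_reduce at hAmax hBmax hcase ⊢
  have cardpos : ∀ S : Subgroup X, (0 : ℝ) < (Nat.card S : ℝ) := fun S => by
    exact_mod_cast Nat.card_pos
  have hSne : A ⊔ B ≠ ⊥ := fun h => hA1 (le_bot_iff.mp (h ▸ le_sup_left))
  have hSle : A ⊔ B ≤ G := sup_le hA hB
  have hS := hAmax (A ⊔ B) hSle hSne
  have hI : ((Nat.card ↥(A ⊓ B) : ℝ) ^ α) * (Nat.card ↥(H ⊓ Subgroup.centralizer ((A ⊓ B : Subgroup X) : Set X)) : ℝ)
      ≤ ((Nat.card A : ℝ) ^ α) * (Nat.card ↥(H ⊓ Subgroup.centralizer (A : Set X)) : ℝ) := by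
    by_cases h : A ⊓ B = ⊥
    · have h2 := hcase.resolve_left (fun hh => hh h)
      rw [h, cent_bot, Subgroup.card_bot]
      simpa using h2
    · exact hAmax (A ⊓ B) (inf_le_left.trans hA) h
  have hM2 : ((Nat.card B : ℝ) ^ α) * (Nat.card ↥(H ⊓ Subgroup.centralizer (B : Set X)) : ℝ)
      = ((Nat.card A : ℝ) ^ α) * (Nat.card ↥(H ⊓ Subgroup.centralizer (A : Set X)) : ℝ) :=
    le_antisymm (hAmax B hB hB1) (hBmax A hA hA1)
  have n1 := Cfsg.Agent.Lib.Helper17.card_mul_card_le_card_sup_mul_card_inf A B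
  have n2 := Cfsg.Agent.Lib.Helper17.card_mul_card_le_card_sup_mul_card_inf
    (H ⊓ Subgroup.centralizer (A : Set X)) (H ⊓ Subgroup.centralizer (B : Set X))
  rw [← cent_sup] at n2
  have n3 := Subgroup.card_le_of_le (cent_inf_le H A B)
  obtain ⟨e1, e2, e3, e4, e5⟩ := real_key α hα (Nat.card A) (Nat.card B) (Nat.card ↥(A ⊔ B))
    (Nat.card ↥(A ⊓ B)) (Nat.card ↥(H ⊓ Subgroup.centralizer (A : Set X)))
    (Nat.card ↥(H ⊓ Subgroup.centralizer (B : Set X)))
    (Nat.card ↥(H ⊓ Subgroup.centralizer ((A ⊔ B : Subgroup X) : Set X)))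
    (Nat.card ↥(H ⊓ Subgroup.centralizer ((A ⊓ B : Subgroup X) : Set X)))
    (Nat.card ↥((H ⊓ Subgroup.centralizer (A : Set X)) ⊔ (H ⊓ Subgroup.centralizer (B : Set X))))
    (((Nat.card A : ℝ) ^ α) * (Nat.card ↥(H ⊓ Subgroup.centralizer (A : Set X)) : ℝ))
    (cardpos _) (cardpos _) (cardpos _) (cardpos _) (cardpos _) (cardpos _) (cardpos _) (cardpos _)
    (cardpos _) (by exact_mod_cast n1) (by exact_mod_cast n2) (by exact_mod_cast n3) rfl hM2 hS hI
  have e1' : Nat.card A * Nat.card B = Nat.card ↥(A ⊔ B) * Nat.card ↥(A ⊓ B) := by exact_mod_cast e1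
  have e2' : Nat.card ↥(H ⊓ Subgroup.centralizer (A : Set X)) * Nat.card ↥(H ⊓ Subgroup.centralizer (B : Set X))
      = Nat.card ↥((H ⊓ Subgroup.centralizer (A : Set X)) ⊔ (H ⊓ Subgroup.centralizer (B : Set X)))
        * Nat.card ↥((H ⊓ Subgroup.centralizer (A : Set X)) ⊓ (H ⊓ Subgroup.centralizer (B : Set X))) := by
    rw [← cent_sup]; exact_mod_cast e2
  have e3' : Nat.card ↥((H ⊓ Subgroup.centralizer (A : Set X)) ⊔ (H ⊓ Subgroup.centralizer (B : Set X)))
      = Nat.card ↥(H ⊓ Subgroup.centralizer ((A ⊓ B : Subgroup X) : Set X)) := by exact_mod_cast e3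
  have sBA : ((B ⊔ A : Subgroup X) : Set X) = (B : Set X) * (A : Set X) := by
    apply Cfsg.Agent.Lib.Helper17.coe_sup_eq_mul_of_card_mul_card_eq
    rw [sup_comm, inf_comm, mul_comm]; exact e1'
  have sC := Cfsg.Agent.Lib.Helper17.coe_sup_eq_mul_of_card_mul_card_eq _ _ e2'
  have eC : (H ⊓ Subgroup.centralizer (A : Set X)) ⊔ (H ⊓ Subgroup.centralizer (B : Set X))
      = H ⊓ Subgroup.centralizer ((A ⊓ B : Subgroup X) : Set X) :=
    Subgroup.eq_of_le_of_card_ge (cent_inf_le H A B) e3'.ge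
  refine ⟨?_, ?_, ?_, ?_⟩
  · intro a ha b hb
    have hab : a * b ∈ ((B ⊔ A : Subgroup X) : Set X) := by
      have : a * b ∈ B ⊔ A := mul_mem (Subgroup.mem_sup_right ha) (Subgroup.mem_sup_left hb)
      exact this
    rw [sBA] at hab
    obtain ⟨b', hb', a', ha', h⟩ := Set.mem_mul.mp hab
    exact ⟨b', hb', a', ha', h.symm⟩
  · intro A' hA' hA'1
    rw [e4]; exact hAmax A' hA' hA'1
  · intro h hh
    rw [← eC] at hh
    have hh' : h ∈ (((H ⊓ Subgroup.centralizer (A : Set X)) ⊔ (H ⊓ Subgroup.centralizer (B : Set X)) : Subgroup X) : Set X) := hh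
    rw [sC] at hh'
    obtain ⟨u, hu, v, hv, huv⟩ := Set.mem_mul.mp hh'
    exact ⟨u, hu, v, hv, huv.symm⟩
  · intro _ A' hA' hA'1
    rw [e5]; exact hAmax A' hA' hA'1

end Cfsg.Agent.S3804
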