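import Cfsg.Statements.S3805
import Cfsg.Agent.Lib.Helper8.S3805P
import Cfsg.Agent.Lib.Helper8.S3805L
-- helper8: character-theoretic proof (lattice of six columns + class multiplication constants);
-- local group theory (Part A) by helper13 (Lib/Helper13/S3805Loc*).

set_option autoImplicit false
open Cfsg

namespace Cfsg.Agent.S3805

/-- Let G be a finite group whose Sylow 3-subgroup T is elementary abelian of order 9 and self-centralizing, with N_G(T)/T a Klein four-group, and suppose that the centralizer of every nonidentity element of T lies in N_G(T). Then T is normal in G. -/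
theorem result {G : Type*} [Group G] [Finite G]
    (T : Sylow 3 G) (hT : Cfsg.IsElementaryAbelian 3 (T : Subgroup G)) (hcard : Nat.card T = 9)
    (hC : Subgroup.centralizer ((T : Subgroup G) : Set G) = T)
    [hn : ((T : Subgroup G).subgroupOf (Subgroup.normalizer ((T : Subgroup G) : Set G))).Normal]
    (hK : IsKleinFour (↥(Subgroup.normalizer ((T : Subgroup G) : Set G)) ⧸
      (T : Subgroup G).subgroupOf (Subgroup.normalizer ((T : Subgroup G) : Set G))))
    (hloc : ∀ t ∈ (T : Subgroup G), t ≠ 1 →
      Subgroup.centralizer ({t} : Set G) ≤ Subgroup.normalizer ((T : Subgroup G) : Set G)) :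
    Subgroup.normalizer ((T : Subgroup G) : Set G) = ⊤ := by
  classical
  obtain ⟨x, y, a, b, h⟩ :=
    Cfsg.Agent.Lib.Helper13.S3805Loc.exists_data_of_statement T hT hcard hC hK hloc
  letI : Fintype G := Fintype.ofFinite G
  letI : Fintype (IrrCharacter G) := Cfsg.Agent.CharLib.fintypeIrr G
  obtain ⟨D, E3, E5, E4, E6, E1⟩ := Cfsg.Agent.Lib.Helper8.S3805.bridge h
  have hG : Fintype.card G = 36 := D.core (Fintype.card G) E3 E5 E4 E6 E1
  have hN := h.hyp.cardN
  apply Subgroup.eq_top_of_card_eq
  rw [hN, Nat.card_eq_fintype_card, hG]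

end Cfsg.Agent.S3805
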