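import Cfsg.Statements.S3866
import Mathlib

set_option autoImplicit false
open Cfsg
open scoped commutatorElement

namespace Cfsg.Agent.S3866

/-- Let A be a commutative normal subgroup of the finite group G with G generated by A and an element x. Then a ↦ x a x⁻¹ a⁻¹ is a surjective homomorphism from A onto the commutator subgroup of G whose kernel is the centralizer of x in A; in particular the commutator subgroup has order equal to the index in A of that centralizer. -/
theorem result {G : Type*} [Group G] [Finite G] (A : Subgroup G) [A.Normal] (hA : IsMulCommutative A) (x : G) (hgen : A ⊔ Subgroup.zpowers x = ⊤) : (∀ a ∈ A, x * a * x⁻¹ * a⁻¹ ∈ commutator G) ∧ (∀ c ∈ commutator G, ∃ a ∈ A, x * a * x⁻¹ * a⁻¹ = c) ∧ (∀ a ∈ A, ∀ b ∈ A, x * (a * b) * x⁻¹ * (a * b)⁻¹ = (x * a * x⁻¹ * a⁻¹) * (x * b * x⁻¹ * b⁻¹)) ∧ Nat.card (commutator G) * Nat.card ↥(A ⊓ Subgroup.centralizer ({x} : Set G)) = Nat.card A := by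
  classical
  have hnorm : ∀ a ∈ A, ∀ g : G, g * a * g⁻¹ ∈ A := fun a ha g => ‹A.Normal›.conj_mem a ha g
  have hcomm : ∀ a ∈ A, ∀ b ∈ A, a * b = b * a := fun a ha b hb =>
    setLike_mul_comm ha hb
  have hφA : ∀ a ∈ A, x * a * x⁻¹ * a⁻¹ ∈ A := fun a ha =>
    A.mul_mem (hnorm a ha x) (A.inv_mem ha)
  -- (3)
  have h3 : ∀ a ∈ A, ∀ b ∈ A, x * (a * b) * x⁻¹ * (a * b)⁻¹ =
      (x * a * x⁻¹ * a⁻¹) * (x * b * x⁻¹ * b⁻¹) := by
    intro a ha b hb
    have hc := hcomm a⁻¹ (A.inv_mem ha) (x * b * x⁻¹ * b⁻¹) (hφA b hb)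
    calc x * (a * b) * x⁻¹ * (a * b)⁻¹
        = (x * a * x⁻¹) * ((x * b * x⁻¹ * b⁻¹) * a⁻¹) := by group
      _ = (x * a * x⁻¹) * (a⁻¹ * (x * b * x⁻¹ * b⁻¹)) := by rw [hc]
      _ = (x * a * x⁻¹ * a⁻¹) * (x * b * x⁻¹ * b⁻¹) := by group
  -- the homomorphism
  let φ : ↥A →* G :=
    { toFun := fun a => x * (a : G) * x⁻¹ * (a : G)⁻¹
      map_one' := by simp
      map_mul' := fun a b => by
        simpa using h3 a a.2 b b.2 }
  have hφ_apply : ∀ a : ↥A, φ a = x * (a : G) * x⁻¹ * (a : G)⁻¹ := fun a => rfl
  let R : Subgroup G := φ.range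
  have hRA : R ≤ A := by
    rintro _ ⟨a, rfl⟩
    exact hφA a a.2
  -- (1)
  have h1 : ∀ a ∈ A, x * a * x⁻¹ * a⁻¹ ∈ commutator G := by
    intro a _
    have : x * a * x⁻¹ * a⁻¹ = ⁅x, a⁆ := rfl
    rw [this, commutator_def]
    exact Subgroup.commutator_mem_commutator (Subgroup.mem_top x) (Subgroup.mem_top a)
  have hRle : R ≤ commutator G := by
    rintro _ ⟨a, rfl⟩
    exact h1 a a.2
  -- R is normal in G
  have hRnormal : R.Normal := by
    have hN : Subgroup.normalizer (R : Set G) = ⊤ := by
      rw [eq_top_iff, ← hgen, sup_le_iff]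
      constructor
      · intro a ha
        rw [Subgroup.mem_normalizer_iff]
        intro r
        have : ∀ r ∈ A, a * r * a⁻¹ = r := by
          intro r hr
          rw [hcomm a ha r hr]; group
        constructor
        · intro hr
          rw [this r (hRA hr)]; exact hr
        · intro hr
          have hrA : r ∈ A := by
            have := hnorm _ (hRA hr) a⁻¹
            have e : a⁻¹ * (a * r * a⁻¹) * a⁻¹⁻¹ = r := by group
            rwa [e] at this
          rw [this r hrA] at hr; exact hr
      · rw [Subgroup.zpowers_le]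
        rw [Subgroup.mem_normalizer_iff]
        intro r
        constructor
        · rintro ⟨a, rfl⟩
          refine ⟨⟨x * a * x⁻¹, hnorm a a.2 x⟩, ?_⟩
          rw [hφ_apply, hφ_apply]
          simp only
          group
        · intro hr
          obtain ⟨a, ha⟩ := hr
          refine ⟨⟨x⁻¹ * a * x, ?_⟩, ?_⟩
          · have := hnorm a a.2 x⁻¹
            simpa using this
          · rw [hφ_apply]
            simp only
            rw [hφ_apply] at ha
            have e : x * (x⁻¹ * ↑a * x) * x⁻¹ * (x⁻¹ * ↑a * x)⁻¹ =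
                x⁻¹ * (x * ↑a * x⁻¹ * (↑a)⁻¹) * x := by group
            rw [e, ha]; group
    exact Subgroup.normalizer_eq_top_iff.mp hN
  -- G / R is abelian
  have hcomm_le : commutator G ≤ R := by
    have hxa : ∀ a ∈ A, (QuotientGroup.mk' R x) * (QuotientGroup.mk' R a) =
        (QuotientGroup.mk' R a) * (QuotientGroup.mk' R x) := by
      intro a ha
      rw [← map_mul, ← map_mul]
      rw [QuotientGroup.mk'_apply, QuotientGroup.mk'_apply, QuotientGroup.eq]
      -- (x*a)⁻¹ * (a*x) ∈ R
      have hmem : x * (x⁻¹ * a⁻¹ * x) * x⁻¹ * (x⁻¹ * a⁻¹ * x)⁻¹ ∈ R := by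
        refine ⟨⟨x⁻¹ * a⁻¹ * x, ?_⟩, rfl⟩
        have := hnorm a⁻¹ (A.inv_mem ha) x⁻¹
        simpa using this
      have e : (x * a)⁻¹ * (a * x) = x * (x⁻¹ * a⁻¹ * x) * x⁻¹ * (x⁻¹ * a⁻¹ * x)⁻¹ := by group
      rw [e]; exact hmem
    -- comap of the center is everything
    have hZ : (Subgroup.center (G ⧸ R)).comap (QuotientGroup.mk' R) = ⊤ := by
      rw [eq_top_iff, ← hgen, sup_le_iff]
      have hcent : ∀ g : G, (∀ a ∈ A, QuotientGroup.mk' R a * QuotientGroup.mk' R g =
          QuotientGroup.mk' R g * QuotientGroup.mk' R a) →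
          (QuotientGroup.mk' R x * QuotientGroup.mk' R g =
          QuotientGroup.mk' R g * QuotientGroup.mk' R x) →
          g ∈ (Subgroup.center (G ⧸ R)).comap (QuotientGroup.mk' R) := by
        intro g hgA hgx
        rw [Subgroup.mem_comap, Subgroup.mem_center_iff]
        intro q
        obtain ⟨h, rfl⟩ := QuotientGroup.mk'_surjective R q
        have hh : h ∈ (Subgroup.centralizer {QuotientGroup.mk' R g}).comap (QuotientGroup.mk' R) := by
          have : (⊤ : Subgroup G) ≤
              (Subgroup.centralizer {QuotientGroup.mk' R g}).comap (QuotientGroup.mk' R) := by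
            rw [← hgen, sup_le_iff]
            constructor
            · intro a ha
              rw [Subgroup.mem_comap, Subgroup.mem_centralizer_singleton_iff]
              exact hgA a ha
            · rw [Subgroup.zpowers_le, Subgroup.mem_comap, Subgroup.mem_centralizer_singleton_iff]
              exact hgx
          exact this (Subgroup.mem_top h)
        rw [Subgroup.mem_comap, Subgroup.mem_centralizer_singleton_iff] at hh
        exact hh
      constructor
      · intro a ha
        apply hcent
        · intro b hb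
          rw [← map_mul, ← map_mul, hcomm b hb a ha]
        · exact hxa a ha
      · rw [Subgroup.zpowers_le]
        apply hcent
        · intro b hb
          exact (hxa b hb).symm
        · rfl
    have hab : ∀ g h : G, ⁅g, h⁆ ∈ R := by
      intro g h
      have hg : QuotientGroup.mk' R g ∈ Subgroup.center (G ⧸ R) := by
        have : g ∈ (Subgroup.center (G ⧸ R)).comap (QuotientGroup.mk' R) := by
          rw [hZ]; exact Subgroup.mem_top g
        exact this
      rw [Subgroup.mem_center_iff] at hg
      have h2 := hg (QuotientGroup.mk' R h)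
      rw [← QuotientGroup.ker_mk' R, MonoidHom.mem_ker, commutatorElement_def]
      rw [map_mul, map_mul, map_mul, map_inv, map_inv, ← h2]
      group
    rw [commutator_def, Subgroup.commutator_le]
    intro g _ h _
    exact hab g h
  have hRe : commutator G = R := le_antisymm hcomm_le hRle
  refine ⟨h1, ?_, h3, ?_⟩
  · intro c hc
    rw [hRe] at hc
    obtain ⟨a, rfl⟩ := hc
    exact ⟨a, a.2, rfl⟩
  · -- counting
    have hker : φ.ker.map A.subtype = A ⊓ Subgroup.centralizer ({x} : Set G) := by
      ext g
      constructor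
      · rintro ⟨a, ha, rfl⟩
        rw [Subgroup.mem_inf]
        refine ⟨a.2, ?_⟩
        rw [Subgroup.mem_centralizer_singleton_iff]
        have ha' : φ a = 1 := ha
        rw [hφ_apply] at ha'
        have : x * (a : G) * x⁻¹ = a := by
          rw [mul_inv_eq_one] at ha'; exact ha'
        simp only [Subgroup.subtype_apply]
        calc (a : G) * x = (x * a * x⁻¹) * x := by rw [this]
          _ = x * a := by group
      · intro hg
        rw [Subgroup.mem_inf] at hg
        obtain ⟨hgA, hgx⟩ := hg
        rw [Subgroup.mem_centralizer_singleton_iff] at hgx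
        refine ⟨⟨g, hgA⟩, ?_, rfl⟩
        show φ ⟨g, hgA⟩ = 1
        rw [hφ_apply]
        simp only
        rw [← hgx]; group
    rw [hRe, ← hker, Subgroup.card_subtype, mul_comm]
    have := Subgroup.card_mul_index φ.ker
    rw [Subgroup.index_ker] at this
    exact this

end Cfsg.Agent.S3866
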