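import Cfsg.Statements.S3807
import Mathlib
import Cfsg.Agent.Lib.Helper20.Extraspecial
import Cfsg.Agent.Lib.Helper20.PrimeSubgroups
import Cfsg.Agent.S3866

set_option autoImplicit false
open Cfsg

namespace Cfsg.Agent.S3807

open scoped commutatorElement
open Cfsg.Agent.Lib.Helper20

/-- A subgroup of index `p` in a finite `p`-group is normal. -/
theorem normal_of_index_p {S : Type*} [Group S] [Finite S] {p : ℕ} (hp : p.Prime) (hS : IsPGroup p S)
    (Q : Subgroup S) (hQi : Q.index = p) : Q.Normal := by
  haveI : Fact p.Prime := ⟨hp⟩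
  obtain ⟨m, hm⟩ := IsPGroup.iff_card.mp hS
  have hm0 : m ≠ 0 := by
    rintro rfl
    rw [pow_zero] at hm
    have h1 : Q.index ∣ Nat.card S := Subgroup.index_dvd_card Q
    rw [hQi, hm] at h1
    exact hp.one_lt.ne' (Nat.dvd_one.mp h1)
  exact Subgroup.normal_of_index_eq_minFac_card (by rw [hQi, hm, hp.pow_minFac hm0])

theorem top_of_index_prime {S : Type*} [Group S] {p : ℕ} (hp : p.Prime) {B K : Subgroup S}
    (hBi : B.index = p) (hBK : B ≤ K) (hne : ¬ K ≤ B) : K = ⊤ := by
  rw [eq_top_iff]
  exact le_of_relIndex_prime hp hBK le_top (by rw [Subgroup.relIndex_top_right]; exact hBi) hne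

theorem mem_center_of_comm_outside {S : Type*} [Group S] {p : ℕ} (hp : p.Prime) {B : Subgroup S}
    (hB : ∀ a ∈ B, ∀ b ∈ B, a * b = b * a) (hBi : B.index = p) (c : S) (hc : c ∈ B)
    (K : Subgroup S) (hK : ¬ K ≤ B) (hcK : ∀ k ∈ K, c * k = k * c) : c ∈ Subgroup.center S := by
  have hBC : B ≤ Subgroup.centralizer ({c} : Set S) := by
    intro b hb
    rw [mem_centralizer_singleton_iff']
    exact hB c hc b hb
  have hKC : K ≤ Subgroup.centralizer ({c} : Set S) := by
    intro k hk
    rw [mem_centralizer_singleton_iff']
    exact hcK k hk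
  have htop := top_of_index_prime hp hBi hBC (fun h => hK (hKC.trans h))
  rw [Subgroup.mem_center_iff]
  intro g
  have : g ∈ Subgroup.centralizer ({c} : Set S) := htop ▸ Subgroup.mem_top g
  rw [mem_centralizer_singleton_iff'] at this
  exact this.symm

theorem center_le_of_abelian_index_p {S : Type*} [Group S] {p : ℕ} (hp : p.Prime)
    (hna : ¬ IsMulCommutative S) {B : Subgroup S}
    (hB : ∀ a ∈ B, ∀ b ∈ B, a * b = b * a) (hBi : B.index = p) : Subgroup.center S ≤ B := by
  by_contra hnle
  have hBZ : B ≤ Subgroup.center S := by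
    intro b hb
    exact mem_center_of_comm_outside hp hB hBi b hb (Subgroup.center S) hnle
      (fun k hk => (Subgroup.mem_center_iff.mp hk b))
  have htop := top_of_index_prime hp hBi hBZ hnle
  apply hna
  rw [isMulCommutative_iff]
  intro a b
  have : b ∈ Subgroup.center S := htop ▸ Subgroup.mem_top b
  exact (Subgroup.mem_center_iff.mp this a)

/-- Let S be a non-abelian finite p-group with an abelian subgroup A of index p. Then [S : Z(S)] = p·#[S,S], and either [S,S] has order p, S/Z(S) is elementary abelian of order p², and S has exactly p + 1 abelian subgroups of index p; or [S,S] has order at least p² and A is the only abelian subgroup of index p in S. -/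
theorem result {S : Type*} [Group S] [Finite S] (p : ℕ) [Fact p.Prime] (hS : IsPGroup p S) (hna : ¬ IsMulCommutative S)
    (A : Subgroup S) (hA : IsMulCommutative ↥A) (hAi : A.index = p) :
    (Subgroup.center S).index = p * Nat.card (commutator S) ∧
      ((Nat.card (commutator S) = p ∧ Cfsg.IsElementaryAbelian p (⊤ : Subgroup (S ⧸ Subgroup.center S)) ∧
          Nat.card (S ⧸ Subgroup.center S) = p ^ 2 ∧
          Nat.card {B : Subgroup S // IsMulCommutative ↥B ∧ B.index = p} = p + 1) ∨
        (p ^ 2 ≤ Nat.card (commutator S) ∧ ∀ B : Subgroup S, IsMulCommutative ↥B → B.index = p → B = A)) := by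
  classical
  have hp : p.Prime := Fact.out
  haveI hAn : A.Normal := normal_of_index_p hp hS A hAi
  have hAc : ∀ a ∈ A, ∀ b ∈ A, a * b = b * a := fun a ha b hb =>
    congrArg Subtype.val (isMulCommutative_iff.mp hA ⟨a, ha⟩ ⟨b, hb⟩)
  have hAne : A ≠ ⊤ := by
    intro h
    rw [h, Subgroup.index_top] at hAi
    exact hp.one_lt.ne hAi
  obtain ⟨x, hx⟩ : ∃ x : S, x ∉ A := by
    by_contra hcon
    apply hAne
    rw [eq_top_iff]
    intro g _
    by_contra hg
    exact hcon ⟨g, hg⟩
  have hgen : A ⊔ Subgroup.zpowers x = ⊤ :=
    top_of_index_prime hp hAi le_sup_left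
      (fun h => hx (h (Subgroup.mem_sup_right (Subgroup.mem_zpowers x))))
  obtain ⟨_, _, _, hcard⟩ := Cfsg.Agent.S3866.result A hA x hgen
  have hZA : Subgroup.center S ≤ A := center_le_of_abelian_index_p hp hna hAc hAi
  have hinf : A ⊓ Subgroup.centralizer ({x} : Set S) = Subgroup.center S := by
    apply le_antisymm
    · intro c hc
      obtain ⟨hcA, hcx⟩ := Subgroup.mem_inf.mp hc
      rw [mem_centralizer_singleton_iff'] at hcx
      apply mem_center_of_comm_outside hp hAc hAi c hcA (Subgroup.zpowers x)
        (fun h => hx (h (Subgroup.mem_zpowers x)))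
      intro k hk
      obtain ⟨n, rfl⟩ := Subgroup.mem_zpowers_iff.mp hk
      have hcomm : Commute c x := hcx.symm
      exact (hcomm.zpow_right n).eq
    · apply le_inf hZA
      intro z hz
      rw [mem_centralizer_singleton_iff']
      exact Subgroup.mem_center_iff.mp hz x
  rw [hinf] at hcard
  have hZpos : 0 < Nat.card (Subgroup.center S) := Nat.card_pos
  have hpart1 : (Subgroup.center S).index = p * Nat.card (commutator S) := by
    have h1 := Subgroup.card_mul_index (Subgroup.center S)
    have h2 := Subgroup.card_mul_index A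
    rw [hAi, ← hcard] at h2
    have h3 : Nat.card (Subgroup.center S) * (Subgroup.center S).index
        = Nat.card (Subgroup.center S) * (p * Nat.card (commutator S)) := by
      rw [h1, ← h2]; ring
    exact Nat.eq_of_mul_eq_mul_left hZpos h3
  refine ⟨hpart1, ?_⟩
  have hcomm_ne : commutator S ≠ ⊥ := by
    intro hbot
    apply hna
    rw [isMulCommutative_iff]
    intro a b
    have hm : ⁅a, b⁆ ∈ commutator S :=
      Subgroup.commutator_mem_commutator (Subgroup.mem_top a) (Subgroup.mem_top b)
    rw [hbot, Subgroup.mem_bot] at hm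
    exact commutatorElement_eq_one_iff_mul_comm.mp hm
  obtain ⟨j, hj⟩ := IsPGroup.iff_card.mp (hS.to_subgroup (commutator S))
  have hj0 : j ≠ 0 := by
    rintro rfl
    rw [pow_zero] at hj
    exact hcomm_ne (Subgroup.card_eq_one.mp hj)
  rcases Nat.lt_or_ge j 2 with hj2 | hj2
  · left
    have hj1 : j = 1 := by omega
    rw [hj1, pow_one] at hj
    have hidx : (Subgroup.center S).index = p ^ 2 := by rw [hpart1, hj]; ring
    have hquot : Nat.card (S ⧸ Subgroup.center S) = p ^ 2 := by
      rw [← Subgroup.index_eq_card]; exact hidx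
    have hqcomm : ∀ a b : S ⧸ Subgroup.center S, a * b = b * a :=
      isMulCommutative_iff.mp (IsPGroup.isMulCommutative_of_card_eq_prime_sq hquot)
    have hqexp : ∀ a : S ⧸ Subgroup.center S, a ^ p = 1 := by
      intro a
      have hdvd : orderOf a ∣ p ^ 2 := by rw [← hquot]; exact orderOf_dvd_natCard a
      obtain ⟨i, hi2, hi⟩ := (Nat.dvd_prime_pow hp).mp hdvd
      have hi1 : i ≤ 1 := by
        by_contra hlt
        have hi2' : i = 2 := by omega
        rw [hi2'] at hi
        haveI : IsCyclic (S ⧸ Subgroup.center S) :=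
          isCyclic_of_orderOf_eq_card a (by rw [hi, hquot])
        apply hna
        exact MonoidHom.isMulCommutative_of_isCyclic_of_ker_le_center
          (QuotientGroup.mk' (Subgroup.center S)) (by rw [QuotientGroup.ker_mk'])
      apply orderOf_dvd_iff_pow_eq_one.mp
      rw [hi]
      calc p ^ i ∣ p ^ 1 := pow_dvd_pow p hi1
        _ = p := pow_one p
    refine ⟨hj, ⟨?_, ?_⟩, hquot, ?_⟩
    · rw [isMulCommutative_iff]
      intro a b
      apply Subtype.ext
      simp only [Subgroup.coe_mul]
      exact hqcomm a b
    · intro a _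
      exact hqexp a
    · rw [← card_prime_subgroups_of_card_sq hp hquot hqexp]
      apply Nat.card_congr
      refine
        { toFun := fun B => ⟨B.1.map (QuotientGroup.mk' (Subgroup.center S)), ?_⟩
          invFun := fun K => ⟨K.1.comap (QuotientGroup.mk' (Subgroup.center S)), ?_, ?_⟩
          left_inv := ?_
          right_inv := ?_ }
      · -- card of image
        have hBc : ∀ a ∈ B.1, ∀ b ∈ B.1, a * b = b * a := fun a ha b hb =>
          congrArg Subtype.val (isMulCommutative_iff.mp B.2.1 ⟨a, ha⟩ ⟨b, hb⟩)
        have hZB : Subgroup.center S ≤ B.1 := center_le_of_abelian_index_p hp hna hBc B.2.2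
        have h1 : (B.1.map (QuotientGroup.mk' (Subgroup.center S))).index = p := by
          rw [Subgroup.index_map_eq B.1 (QuotientGroup.mk'_surjective _)
            (by rw [QuotientGroup.ker_mk']; exact hZB)]
          exact B.2.2
        have h2 := Subgroup.card_mul_index (B.1.map (QuotientGroup.mk' (Subgroup.center S)))
        rw [h1, hquot, pow_two] at h2
        exact Nat.eq_of_mul_eq_mul_right hp.pos h2
      · -- comap abelian
        haveI : IsCyclic ↥K.1 := isCyclic_of_prime_card K.2
        exact MonoidHom.isMulCommutative_of_isCyclic_of_ker_le_center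
          ((QuotientGroup.mk' (Subgroup.center S)).subgroupComap K.1) (by
            intro g hg
            rw [MonoidHom.mem_ker] at hg
            have h1 := congrArg Subtype.val hg
            simp only [Subgroup.coe_one] at h1
            have h2 : (g : S) ∈ Subgroup.center S := (QuotientGroup.eq_one_iff _).mp h1
            rw [Subgroup.mem_center_iff]
            intro h
            apply Subtype.ext
            simp only [Subgroup.coe_mul]
            exact Subgroup.mem_center_iff.mp h2 h)
      · -- comap index
        rw [Subgroup.index_comap_of_surjective _ (QuotientGroup.mk'_surjective _)]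
        have h2 := Subgroup.card_mul_index K.1
        rw [K.2, hquot, pow_two] at h2
        exact Nat.eq_of_mul_eq_mul_left hp.pos h2
      · intro B
        apply Subtype.ext
        have hBc : ∀ a ∈ B.1, ∀ b ∈ B.1, a * b = b * a := fun a ha b hb =>
          congrArg Subtype.val (isMulCommutative_iff.mp B.2.1 ⟨a, ha⟩ ⟨b, hb⟩)
        have hZB : Subgroup.center S ≤ B.1 := center_le_of_abelian_index_p hp hna hBc B.2.2
        simp only
        rw [Subgroup.comap_map_eq, QuotientGroup.ker_mk', sup_eq_left.mpr hZB]
      · intro K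
        apply Subtype.ext
        simp only
        exact Subgroup.map_comap_eq_self_of_surjective (QuotientGroup.mk'_surjective _) K.1
  · right
    refine ⟨?_, ?_⟩
    · rw [hj]
      exact Nat.pow_le_pow_right hp.pos hj2
    · intro B hB hBi
      by_contra hne
      have hBc : ∀ a ∈ B, ∀ b ∈ B, a * b = b * a := fun a ha b hb =>
        congrArg Subtype.val (isMulCommutative_iff.mp hB ⟨a, ha⟩ ⟨b, hb⟩)
      have hBA : ¬ B ≤ A := by
        intro hle
        apply hne
        apply Subgroup.eq_of_le_of_card_ge hle
        have h1 := Subgroup.card_mul_index A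
        have h2 := Subgroup.card_mul_index B
        rw [hAi] at h1
        rw [hBi, ← h1] at h2
        exact (Nat.eq_of_mul_eq_mul_right hp.pos h2).ge
      have hinfle : A ⊓ B ≤ Subgroup.center S := by
        intro c hc
        obtain ⟨hcA, hcB⟩ := Subgroup.mem_inf.mp hc
        exact mem_center_of_comm_outside hp hAc hAi c hcA B hBA (fun k hk => hBc c hcB k hk)
      have h1 : (Subgroup.center S).index ∣ (A ⊓ B).index := Subgroup.index_dvd_of_le hinfle
      have h2 : (A ⊓ B).index ≤ A.index * B.index := Subgroup.index_inf_le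
      rw [hAi, hBi] at h2
      have h3 : (A ⊓ B).index ≠ 0 := Subgroup.index_ne_zero_of_finite
      have h4 : (Subgroup.center S).index ≤ p * p :=
        (Nat.le_of_dvd (Nat.pos_of_ne_zero h3) h1).trans h2
      rw [hpart1, hj] at h4
      have h5 : p ^ 2 ≤ p ^ j := Nat.pow_le_pow_right hp.pos hj2
      have h6 : p * p ^ 2 ≤ p * p := (Nat.mul_le_mul_left p h5).trans h4
      have hp2 := hp.two_le
      nlinarith

end Cfsg.Agent.S3807
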