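import Cfsg.Statements.S3808
import Mathlib
import Cfsg.Agent.Lib.Helper12.Basic

set_option autoImplicit false
open Cfsg

namespace Cfsg.Agent.S3808

/-- Let S be a finite p-group with an extraspecial subgroup Q of index p. Then either Z(S) = Z(Q), or S = Q·Z(S) and Z(S) has order p². -/
theorem result {S : Type*} [Group S] [Finite S] (p : ℕ) [Fact p.Prime] (hS : IsPGroup p S) (Q : Subgroup S) (hQ : Cfsg.IsExtraspecial p ↥Q) (hQi : Q.index = p) :
    Subgroup.center S = (Subgroup.center ↥Q).map Q.subtype ∨
      (Q ⊔ Subgroup.center S = ⊤ ∧ Nat.card (Subgroup.center S) = p ^ 2) := by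
  classical
  have hp : p.Prime := Fact.out
  obtain ⟨_, hZcard⟩ := hQ
  obtain ⟨n, hn⟩ := IsPGroup.iff_card.mp hS
  have hn0 : n ≠ 0 := by
    rintro rfl
    rw [pow_zero] at hn
    have h1 : Q.index ∣ Nat.card S := Subgroup.index_dvd_card Q
    rw [hQi, hn] at h1
    exact hp.one_lt.ne' (Nat.dvd_one.mp h1)
  haveI hQn : Q.Normal :=
    Subgroup.normal_of_index_eq_minFac_card (by rw [hQi, hn, hp.pow_minFac hn0])
  have hZQcard : Nat.card ((Subgroup.center ↥Q).map Q.subtype) = p := by
    rw [Subgroup.card_map_of_injective Q.subtype_injective]; exact hZcard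
  haveI hZQn : ((Subgroup.center ↥Q).map Q.subtype).Normal := inferInstance
  have hZQne : (Subgroup.center ↥Q).map Q.subtype ≠ ⊥ := by
    intro h
    rw [h, Subgroup.card_bot] at hZQcard
    exact hp.one_lt.ne hZQcard
  obtain ⟨x, hxZQ, hx1, hxZ⟩ :=
    Cfsg.Agent.Lib.Helper12.exists_ne_one_mem_center_of_normal hS _ hZQne
  have hZQleQ : (Subgroup.center ↥Q).map Q.subtype ≤ Q := by
    rintro _ ⟨q, _, rfl⟩
    exact q.2
  have hZQle : (Subgroup.center ↥Q).map Q.subtype ≤ Subgroup.center S := by
    have hdvd : Nat.card ↥(Subgroup.center S ⊓ (Subgroup.center ↥Q).map Q.subtype) ∣ p := by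
      rw [← hZQcard]; exact Subgroup.card_dvd_of_le inf_le_right
    rcases (Nat.dvd_prime hp).mp hdvd with h1 | h1
    · exfalso
      have hbot := Subgroup.card_eq_one.mp h1
      have hxmem : x ∈ Subgroup.center S ⊓ (Subgroup.center ↥Q).map Q.subtype := ⟨hxZ, hxZQ⟩
      rw [hbot, Subgroup.mem_bot] at hxmem
      exact hx1 hxmem
    · have heq : Subgroup.center S ⊓ (Subgroup.center ↥Q).map Q.subtype
          = (Subgroup.center ↥Q).map Q.subtype :=
        Subgroup.eq_of_le_of_card_ge inf_le_right (by rw [h1, hZQcard])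
      rw [← heq]; exact inf_le_left
  have hinf : Q ⊓ Subgroup.center S = (Subgroup.center ↥Q).map Q.subtype := by
    apply le_antisymm
    · intro y hy
      rw [Subgroup.mem_inf] at hy
      obtain ⟨hyQ, hyZ⟩ := hy
      rw [Subgroup.mem_map]
      refine ⟨⟨y, hyQ⟩, ?_, rfl⟩
      rw [Subgroup.mem_center_iff]
      intro g
      apply Subtype.ext
      simp only [Subgroup.coe_mul]
      exact (Subgroup.mem_center_iff.mp hyZ) g
    · exact le_inf hZQleQ hZQle
  by_cases hle : Subgroup.center S ≤ Q
  · left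
    rw [← hinf]
    exact (inf_eq_right.mpr hle).symm
  · right
    have hQlt : Q < Q ⊔ Subgroup.center S := by
      apply lt_of_le_of_ne le_sup_left
      intro h
      apply hle
      rw [h]; exact le_sup_right
    have htop : Q ⊔ Subgroup.center S = ⊤ := by
      have h1 : (Q ⊔ Subgroup.center S).index ∣ p := by
        rw [← hQi]; exact Subgroup.index_dvd_of_le le_sup_left
      rcases (Nat.dvd_prime hp).mp h1 with h2 | h2
      · exact Subgroup.index_eq_one.mp h2
      · exfalso
        have h3 := Subgroup.relIndex_mul_index hQlt.le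
        rw [h2, hQi] at h3
        have hp0 : 0 < p := hp.pos
        have h4 : Q.relIndex (Q ⊔ Subgroup.center S) = 1 := by
          have : Q.relIndex (Q ⊔ Subgroup.center S) * p = 1 * p := by rw [h3, one_mul]
          exact Nat.eq_of_mul_eq_mul_right hp0 this
        rw [Subgroup.relIndex_eq_one] at h4
        exact hQlt.not_ge h4
    refine ⟨htop, ?_⟩
    have h1 : Q.relIndex (Subgroup.center S) = p := by
      rw [← Subgroup.relIndex_sup_left, htop, Subgroup.relIndex_top_right, hQi]
    have h2 : (Q ⊓ Subgroup.center S).relIndex (Subgroup.center S) = p := by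
      rw [Subgroup.inf_relIndex_right, h1]
    have h3 := Subgroup.relIndex_mul_relIndex (⊥ : Subgroup S) (Q ⊓ Subgroup.center S)
      (Subgroup.center S) bot_le inf_le_right
    rw [Subgroup.relIndex_bot_left, Subgroup.relIndex_bot_left, h2, hinf, hZQcard] at h3
    rw [← h3, pow_two]

end Cfsg.Agent.S3808
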