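import Cfsg.Statements.S3809
import Mathlib
import Cfsg.Agent.Lib.Helper20.Extraspecial
import Cfsg.Agent.Lib.Helper1.PGroup

set_option autoImplicit false
open Cfsg

namespace Cfsg.Agent.S3809

/-- Let S be a finite p-group with an extraspecial subgroup of index p. Then S has order p^(2+2n) for some n ≥ 1, derived length at most 3, and exponent dividing p³. -/
theorem result {S : Type*} [Group S] [Finite S] (p : ℕ) [Fact p.Prime] (hS : IsPGroup p S) (Q : Subgroup S) (hQ : Cfsg.IsExtraspecial p ↥Q) (hQi : Q.index = p) :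
    (∃ n : ℕ, 1 ≤ n ∧ Nat.card S = p ^ (2 + 2 * n)) ∧ derivedSeries S 3 = ⊥ ∧ ∀ x : S, x ^ (p ^ 3) = 1 := by
  classical
  have hp : p.Prime := Fact.out
  obtain ⟨⟨hQp, hfrat, hcz⟩, hZcard⟩ := hQ
  obtain ⟨m, hm⟩ := IsPGroup.iff_card.mp hS
  have hm0 : m ≠ 0 := by
    rintro rfl
    rw [pow_zero] at hm
    have h1 : Q.index ∣ Nat.card S := Subgroup.index_dvd_card Q
    rw [hQi, hm] at h1
    exact hp.one_lt.ne' (Nat.dvd_one.mp h1)
  haveI hQn : Q.Normal :=
    Subgroup.normal_of_index_eq_minFac_card (by rw [hQi, hm, hp.pow_minFac hm0])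
  obtain ⟨k, hk1, hk⟩ := Cfsg.Agent.Lib.Helper20.card_eq_of_commutator_eq_center hp hcz hZcard
  have hcardQuot : Nat.card (S ⧸ Q) = p := by rw [← Subgroup.index_eq_card, hQi]
  -- x ^ p ∈ Q
  have hpowQ : ∀ x : S, x ^ p ∈ Q := by
    intro x
    have h1 : (QuotientGroup.mk' Q x) ^ p = 1 := by
      rw [← hcardQuot]; exact pow_card_eq_one'
    rw [← map_pow] at h1
    exact (QuotientGroup.eq_one_iff _).mp h1
  -- q ^ p ∈ center Q
  have hpowZ : ∀ q : Q, q ^ p ∈ Subgroup.center ↥Q := by
    intro q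
    rw [← hfrat]
    exact Cfsg.Agent.Lib.Helper1.IsPGroup.pow_mem_frattini hQp q
  have hpowone : ∀ z : Q, z ∈ Subgroup.center ↥Q → z ^ p = 1 := by
    intro z hz
    have h1 : (⟨z, hz⟩ : Subgroup.center ↥Q) ^ p = 1 := by
      rw [← hZcard]; exact pow_card_eq_one'
    have := congrArg Subtype.val h1
    simpa using this
  refine ⟨⟨k, hk1, ?_⟩, ?_, ?_⟩
  · rw [← Subgroup.card_mul_index Q, hQi, hk]
    ring
  · -- derived series
    have hD1 : derivedSeries S 1 ≤ Q := by
      rw [derivedSeries_succ, derivedSeries_zero, ← commutator_def]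
      have hcyc : IsCyclic (S ⧸ Q) := isCyclic_of_prime_card hcardQuot
      have : IsMulCommutative (S ⧸ Q) := IsCyclic.isMulCommutative
      exact Subgroup.Normal.quotient_commutative_iff_commutator_le.mp this
    have hD2 : derivedSeries S 2 ≤ (Subgroup.center ↥Q).map Q.subtype := by
      rw [derivedSeries_succ, ← hcz, Subgroup.map_subtype_commutator]
      exact Subgroup.commutator_mono hD1 hD1
    rw [derivedSeries_succ, eq_bot_iff]
    refine (Subgroup.commutator_mono hD2 hD2).trans ?_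
    rw [← eq_bot_iff, Subgroup.commutator_eq_bot_iff_le_centralizer]
    rintro _ ⟨q1, hq1, rfl⟩
    rw [Subgroup.mem_centralizer_iff]
    rintro _ ⟨q2, hq2, rfl⟩
    have := Subgroup.mem_center_iff.mp hq1 q2
    have h2 := congrArg Subtype.val this
    simpa using h2
  · intro x
    have e : p ^ 3 = p * p * p := by ring
    rw [e, pow_mul, pow_mul]
    have h1 := hpowQ x
    have h2 := hpowZ ⟨x ^ p, h1⟩
    have h3 := hpowone _ h2
    have h4 := congrArg Subtype.val h3
    simpa using h4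

end Cfsg.Agent.S3809
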