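import Cfsg.Statements.S3810
import Mathlib
import Cfsg.Agent.Lib.Helper20.Extraspecial
import Cfsg.Agent.Lib.Helper12.Basic

set_option autoImplicit false
open Cfsg

namespace Cfsg.Agent.S3810

open scoped commutatorElement
open Cfsg.Agent.Lib.Helper20

/-- A subgroup of index `p` in a finite `p`-group is normal. -/
theorem normal_of_index_p {S : Type*} [Group S] [Finite S] {p : ℕ} (hp : p.Prime) (hS : IsPGroup p S)
    (Q : Subgroup S) (hQi : Q.index = p) : Q.Normal := by
  haveI : Fact p.Prime := ⟨hp⟩
  obtain ⟨m, hm⟩ := IsPGroup.iff_card.mp hS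
  have hm0 : m ≠ 0 := by
    rintro rfl
    rw [pow_zero] at hm
    have h1 : Q.index ∣ Nat.card S := Subgroup.index_dvd_card Q
    rw [hQi, hm] at h1
    exact hp.one_lt.ne' (Nat.dvd_one.mp h1)
  exact Subgroup.normal_of_index_eq_minFac_card (by rw [hQi, hm, hp.pow_minFac hm0])

/-- The image of the centre of a normal subgroup `Q` with `|Z(Q)| = p` is central in a `p`-group. -/
theorem center_map_le_center {S : Type*} [Group S] [Finite S] {p : ℕ} [Fact p.Prime] (hS : IsPGroup p S)
    (Q : Subgroup S) [Q.Normal] (hZcard : Nat.card (Subgroup.center ↥Q) = p) :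
    (Subgroup.center ↥Q).map Q.subtype ≤ Subgroup.center S := by
  have hp : p.Prime := Fact.out
  have hZQcard : Nat.card ((Subgroup.center ↥Q).map Q.subtype) = p := by
    rw [Subgroup.card_map_of_injective Q.subtype_injective]; exact hZcard
  haveI hZQn : ((Subgroup.center ↥Q).map Q.subtype).Normal := inferInstance
  have hZQne : (Subgroup.center ↥Q).map Q.subtype ≠ ⊥ := by
    intro h
    rw [h, Subgroup.card_bot] at hZQcard
    exact hp.one_lt.ne hZQcard
  obtain ⟨x, hxZQ, hx1, hxZ⟩ :=
    Cfsg.Agent.Lib.Helper12.exists_ne_one_mem_center_of_normal hS _ hZQne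
  have hdvd : Nat.card ↥(Subgroup.center S ⊓ (Subgroup.center ↥Q).map Q.subtype) ∣ p := by
    rw [← hZQcard]; exact Subgroup.card_dvd_of_le inf_le_right
  rcases (Nat.dvd_prime hp).mp hdvd with h1 | h1
  · exfalso
    have hbot := Subgroup.card_eq_one.mp h1
    have hxmem : x ∈ Subgroup.center S ⊓ (Subgroup.center ↥Q).map Q.subtype := ⟨hxZ, hxZQ⟩
    rw [hbot, Subgroup.mem_bot] at hxmem
    exact hx1 hxmem
  · have heq : Subgroup.center S ⊓ (Subgroup.center ↥Q).map Q.subtype
        = (Subgroup.center ↥Q).map Q.subtype :=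
      Subgroup.eq_of_le_of_card_ge inf_le_right (by rw [h1, hZQcard])
    rw [← heq]; exact inf_le_left

/-- In a group `P` with `P' = Z(P)` of order `p`, an abelian subgroup of index `p` has order at most `p²`. -/
theorem card_le_of_abelian_index_p {P : Type*} [Group P] [Finite P] {p : ℕ} (hp : p.Prime)
    (hcz : commutator P = Subgroup.center P) (hz : Nat.card (Subgroup.center P) = p)
    (B : Subgroup P) (hB : ∀ a ∈ B, ∀ b ∈ B, a * b = b * a) (hBi : B.index = p) :
    Nat.card B ≤ p * p := by
  have hc : commutator P ≤ Subgroup.center P := hcz.le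
  have hBne : B ≠ ⊤ := by
    intro h
    rw [h, Subgroup.index_top] at hBi
    exact hp.one_lt.ne hBi
  obtain ⟨g, hg⟩ : ∃ g : P, g ∉ B := by
    by_contra hcon
    apply hBne
    rw [eq_top_iff]
    intro g _
    by_contra hg
    exact hcon ⟨g, hg⟩
  set Cg := Subgroup.centralizer ({g} : Set P) with hCg
  have hdvd : Cg.relIndex B ∣ p := by
    by_cases hex : ∃ b₀ ∈ B, ⁅g, b₀⁆ ≠ 1
    · obtain ⟨b₀, hb₀, hne⟩ := hex
      rw [relIndex_centralizer_eq_prime hp hc hz g B b₀ hb₀ hne]
    · have hle : B ≤ Cg := by
        intro b hb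
        rw [hCg, mem_centralizer_singleton_iff', ← commutatorElement_eq_one_iff_mul_comm]
        by_contra hne
        exact hex ⟨b, hb, hne⟩
      rw [Subgroup.relIndex_eq_one.mpr hle]
      exact one_dvd _
  have hinfle : B ⊓ Cg ≤ Subgroup.center P := by
    intro c hc'
    obtain ⟨hcB, hcC⟩ := Subgroup.mem_inf.mp hc'
    set K := Subgroup.centralizer ({c} : Set P) with hK
    have hBK : B ≤ K := by
      intro b hb
      rw [hK, mem_centralizer_singleton_iff']
      exact hB c hcB b hb
    have hgK : g ∈ K := by
      rw [hK, mem_centralizer_singleton_iff']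
      rw [hCg, mem_centralizer_singleton_iff'] at hcC
      exact hcC.symm
    have htop : (⊤ : Subgroup P) ≤ K := by
      apply le_of_relIndex_prime hp hBK le_top (by rw [Subgroup.relIndex_top_right]; exact hBi)
      intro hle
      exact hg (hle hgK)
    rw [Subgroup.mem_center_iff]
    intro h
    have := htop (Subgroup.mem_top h)
    rw [hK, mem_centralizer_singleton_iff'] at this
    exact this.symm
  have h1 : Nat.card ↥(B ⊓ Cg) * Cg.relIndex B = Nat.card B := by
    have := Subgroup.relIndex_mul_relIndex (⊥ : Subgroup P) (B ⊓ Cg) B bot_le inf_le_left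
    rw [Subgroup.relIndex_bot_left, Subgroup.relIndex_bot_left, Subgroup.inf_relIndex_left] at this
    exact this
  have h2 : Nat.card ↥(B ⊓ Cg) ≤ p := by
    rw [← hz]; exact Subgroup.card_le_of_le hinfle
  have h3 : Cg.relIndex B ≤ p := Nat.le_of_dvd hp.pos hdvd
  rw [← h1]
  exact Nat.mul_le_mul h2 h3

/-- Let S be a finite p-group with an extraspecial subgroup of index p. Then S has an abelian subgroup of index p if and only if S has order p⁴. -/
theorem result {S : Type*} [Group S] [Finite S] (p : ℕ) [Fact p.Prime] (hS : IsPGroup p S) (Q : Subgroup S) (hQ : Cfsg.IsExtraspecial p ↥Q) (hQi : Q.index = p) :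
    (∃ A : Subgroup S, IsMulCommutative ↥A ∧ A.index = p) ↔ Nat.card S = p ^ 4 := by
  classical
  have hp : p.Prime := Fact.out
  have hQ' := hQ
  obtain ⟨⟨hQp, hfrat, hcz⟩, hZcard⟩ := hQ
  haveI hQn : Q.Normal := normal_of_index_p hp hS Q hQi
  obtain ⟨k, hk1, hk⟩ := card_eq_of_commutator_eq_center hp hcz hZcard
  have hcardS : Nat.card S = Nat.card Q * p := by rw [← Subgroup.card_mul_index Q, hQi]
  constructor
  · rintro ⟨A, hA, hAi⟩
    haveI hAn : A.Normal := normal_of_index_p hp hS A hAi
    have hBcomm : ∀ a ∈ A.subgroupOf Q, ∀ b ∈ A.subgroupOf Q, a * b = b * a := by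
      intro a ha b hb
      have := isMulCommutative_iff.mp hA ⟨a, Subgroup.mem_subgroupOf.mp ha⟩ ⟨b, Subgroup.mem_subgroupOf.mp hb⟩
      have h2 := congrArg Subtype.val this
      apply Subtype.ext
      simpa using h2
    have hBdvd : (A.subgroupOf Q).index ∣ p := by
      have : (A.subgroupOf Q).index = A.relIndex Q := rfl
      rw [this, ← hAi]
      exact Subgroup.relIndex_dvd_index_of_normal A Q
    have hBi : (A.subgroupOf Q).index = p := by
      rcases (Nat.dvd_prime hp).mp hBdvd with h1 | h1
      · exfalso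
        have htop := Subgroup.index_eq_one.mp h1
        -- Q abelian, contradiction
        have hbot : commutator ↥Q = ⊥ := by
          rw [commutator_def, eq_bot_iff, Subgroup.commutator_le]
          intro a _ b _
          have := hBcomm a (htop ▸ Subgroup.mem_top a) b (htop ▸ Subgroup.mem_top b)
          rw [Subgroup.mem_bot]
          exact commutatorElement_eq_one_iff_mul_comm.mpr this
        rw [← hcz, hbot, Subgroup.card_bot] at hZcard
        exact hp.one_lt.ne hZcard
      · exact h1
    have hBcard := card_le_of_abelian_index_p hp hcz hZcard (A.subgroupOf Q) hBcomm hBi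
    have hQcard : Nat.card Q = Nat.card (A.subgroupOf Q) * p := by
      rw [← Subgroup.card_mul_index (A.subgroupOf Q), hBi]
    have hle : p ^ (2 * k + 1) ≤ p ^ 3 := by
      rw [← hk, hQcard]
      calc Nat.card (A.subgroupOf Q) * p ≤ (p * p) * p := Nat.mul_le_mul_right p hBcard
        _ = p ^ 3 := by ring
    have hk' : 2 * k + 1 ≤ 3 := (Nat.pow_le_pow_iff_right hp.one_lt).mp hle
    have hk2 : k = 1 := by omega
    rw [hcardS, hk, hk2]
    ring
  · intro hS4
    have hQ3 : Nat.card Q = p ^ 3 := by
      have : Nat.card Q * p = p ^ 3 * p := by rw [← hcardS, hS4]; ring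
      exact Nat.eq_of_mul_eq_mul_right hp.pos this
    have hZQle := center_map_le_center hS Q hZcard
    have hZQcard : Nat.card ((Subgroup.center ↥Q).map Q.subtype) = p := by
      rw [Subgroup.card_map_of_injective Q.subtype_injective]; exact hZcard
    haveI hZQn : ((Subgroup.center ↥Q).map Q.subtype).Normal := inferInstance
    have hZQleQ : (Subgroup.center ↥Q).map Q.subtype ≤ Q := by
      rintro _ ⟨q, _, rfl⟩
      exact q.2
    have hG : IsPGroup p (S ⧸ (Subgroup.center ↥Q).map Q.subtype) := hS.to_quotient _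
    haveI hNn : (Q.map (QuotientGroup.mk' ((Subgroup.center ↥Q).map Q.subtype))).Normal :=
      Subgroup.Normal.map hQn _ (QuotientGroup.mk'_surjective _)
    have hNne : Q.map (QuotientGroup.mk' ((Subgroup.center ↥Q).map Q.subtype)) ≠ ⊥ := by
      intro h
      rw [Subgroup.map_eq_bot_iff, QuotientGroup.ker_mk'] at h
      have h1 := Subgroup.card_le_of_le h
      rw [hQ3, hZQcard] at h1
      have : p ^ 1 < p ^ 3 := Nat.pow_lt_pow_right hp.one_lt (by norm_num)
      rw [pow_one] at this
      omega
    obtain ⟨xbar, hxN, hx1, hxc⟩ :=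
      Cfsg.Agent.Lib.Helper12.exists_ne_one_mem_center_of_normal hG _ hNne
    obtain ⟨x, hxQ, rfl⟩ := Subgroup.mem_map.mp hxN
    have hxZ : x ∉ (Subgroup.center ↥Q).map Q.subtype := by
      intro h
      apply hx1
      exact (QuotientGroup.eq_one_iff x).mpr h
    have hcomm : ∀ g : S, ⁅x, g⁆ ∈ (Subgroup.center ↥Q).map Q.subtype := by
      intro g
      rw [← QuotientGroup.eq_one_iff, commutatorElement_def]
      have h1 := Subgroup.mem_center_iff.mp hxc (QuotientGroup.mk' _ g)
      simp only [QuotientGroup.mk'_apply] at h1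
      simp only [QuotientGroup.mk_mul, QuotientGroup.mk_inv]
      rw [← h1]; group
    let ψ : S →* ↥((Subgroup.center ↥Q).map Q.subtype) :=
      { toFun := fun g => ⟨⁅x, g⁆, hcomm g⟩
        map_one' := by
          apply Subtype.ext
          simp [commutatorElement_def]
        map_mul' := fun g h => by
          apply Subtype.ext
          simp only [Subgroup.coe_mul]
          rw [commElt_mul_right]
          have hz := Subgroup.mem_center_iff.mp (hZQle (hcomm h)) g
          rw [hz, mul_assoc, mul_inv_cancel, mul_one] }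
    have hmemA : ∀ g : S, g ∈ ψ.ker ↔ x * g = g * x := by
      intro g
      rw [MonoidHom.mem_ker, ← commutatorElement_eq_one_iff_mul_comm]
      constructor
      · intro h
        exact congrArg Subtype.val h
      · intro h
        exact Subtype.ext h
    have hAdvd : ψ.ker.index ∣ p := by
      rw [Subgroup.index_ker, ← hZQcard]
      exact Subgroup.card_subgroup_dvd_card ψ.range
    have hAne : ψ.ker ≠ ⊤ := by
      intro htop
      apply hxZ
      rw [Subgroup.mem_map]
      refine ⟨⟨x, hxQ⟩, ?_, rfl⟩
      rw [Subgroup.mem_center_iff]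
      intro q
      apply Subtype.ext
      simp only [Subgroup.coe_mul]
      have : (q : S) ∈ ψ.ker := htop ▸ Subgroup.mem_top _
      exact ((hmemA q).mp this).symm
    have hAi : ψ.ker.index = p := by
      rcases (Nat.dvd_prime hp).mp hAdvd with h1 | h1
      · exact absurd (Subgroup.index_eq_one.mp h1) hAne
      · exact h1
    refine ⟨ψ.ker, ?_, hAi⟩
    -- ψ.ker is abelian
    have hAcard : Nat.card ψ.ker = p ^ 3 := by
      have h := Subgroup.card_mul_index ψ.ker
      rw [hAi, hS4] at h
      have : Nat.card ψ.ker * p = p ^ 3 * p := by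
        rw [h]; ring
      exact Nat.eq_of_mul_eq_mul_right hp.pos this
    have hxA : x ∈ ψ.ker := (hmemA x).mpr rfl
    have hZA : (Subgroup.center ↥Q).map Q.subtype ≤ ψ.ker := by
      intro z hz
      rw [hmemA]
      exact (Subgroup.mem_center_iff.mp (hZQle hz) x)
    have hZsub : ((Subgroup.center ↥Q).map Q.subtype).subgroupOf ψ.ker ≤ Subgroup.center ↥ψ.ker := by
      intro a ha
      rw [Subgroup.mem_center_iff]
      intro g
      apply Subtype.ext
      simp only [Subgroup.coe_mul]
      exact Subgroup.mem_center_iff.mp (hZQle (Subgroup.mem_subgroupOf.mp ha)) g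
    have hxC : (⟨x, hxA⟩ : ψ.ker) ∈ Subgroup.center ↥ψ.ker := by
      rw [Subgroup.mem_center_iff]
      intro g
      apply Subtype.ext
      simp only [Subgroup.coe_mul]
      exact ((hmemA g).mp g.2).symm
    have hZsubcard : Nat.card (((Subgroup.center ↥Q).map Q.subtype).subgroupOf ψ.ker) = p := by
      rw [← Subgroup.card_map_of_injective ψ.ker.subtype_injective, Subgroup.subgroupOf_map_subtype,
        inf_eq_left.mpr hZA, hZQcard]
    obtain ⟨j, hj⟩ := IsPGroup.iff_card.mp ((hS.to_subgroup ψ.ker).to_subgroup (Subgroup.center ↥ψ.ker))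
    have hj2 : 2 ≤ j := by
      by_contra hlt
      have hj1 : j ≤ 1 := by omega
      have h1 : Nat.card (Subgroup.center ↥ψ.ker) ≤ p := by
        rw [hj]
        calc p ^ j ≤ p ^ 1 := Nat.pow_le_pow_right hp.pos hj1
          _ = p := pow_one p
      have heq : ((Subgroup.center ↥Q).map Q.subtype).subgroupOf ψ.ker = Subgroup.center ↥ψ.ker :=
        Subgroup.eq_of_le_of_card_ge hZsub (by rw [hZsubcard]; exact h1)
      rw [← heq, Subgroup.mem_subgroupOf] at hxC
      exact hxZ hxC
    have hCidx : (Subgroup.center ↥ψ.ker).index ∣ p := by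
      have h1 := Subgroup.card_mul_index (Subgroup.center ↥ψ.ker)
      rw [hAcard, hj] at h1
      obtain ⟨d, rfl⟩ := Nat.exists_eq_add_of_le hj2
      have h2 : p ^ 2 * (p ^ d * (Subgroup.center ↥ψ.ker).index) = p ^ 2 * p := by
        rw [← mul_assoc, ← pow_add, h1]; ring
      have h3 := Nat.eq_of_mul_eq_mul_left (pow_pos hp.pos 2) h2
      exact ⟨p ^ d, by rw [mul_comm]; exact h3.symm⟩
    have hCtop : Subgroup.center ↥ψ.ker = ⊤ := by
      rcases (Nat.dvd_prime hp).mp hCidx with h1 | h1
      · exact Subgroup.index_eq_one.mp h1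
      · rw [eq_top_iff]
        intro a _
        by_contra ha
        have hCK : Subgroup.center ↥ψ.ker ≤ Subgroup.centralizer ({a} : Set ↥ψ.ker) := by
          intro c hc
          rw [mem_centralizer_singleton_iff']
          exact (Subgroup.mem_center_iff.mp hc a)
        have haK : a ∈ Subgroup.centralizer ({a} : Set ↥ψ.ker) := by
          rw [mem_centralizer_singleton_iff']
        have htop : (⊤ : Subgroup ↥ψ.ker) ≤ Subgroup.centralizer ({a} : Set ↥ψ.ker) := by
          apply le_of_relIndex_prime hp hCK le_top (by rw [Subgroup.relIndex_top_right]; exact h1)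
          intro hle
          exact ha (hle haK)
        apply ha
        rw [Subgroup.mem_center_iff]
        intro g
        have := htop (Subgroup.mem_top g)
        rw [mem_centralizer_singleton_iff'] at this
        exact this.symm
    rw [isMulCommutative_iff]
    intro a b
    have : b ∈ Subgroup.center ↥ψ.ker := hCtop ▸ Subgroup.mem_top b
    exact Subgroup.mem_center_iff.mp this a

end Cfsg.Agent.S3810
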