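import Cfsg.Statements.S3815
-- import your own Cfsg.Agent.* helpers here

set_option autoImplicit false
open Cfsg

namespace Cfsg.Agent.S3815

/-- Let G be a finite group, p a prime and d ∈ G an element of order prime to p. If dg has order prime to p for every element g ∈ G of order prime to p, then d ∈ O_{p'}(G). -/
theorem result {G : Type*} [Group G] [Finite G] {p : ℕ} [Fact p.Prime]
    (d : G) (hd : (orderOf d).Coprime p)
    (h : ∀ g : G, (orderOf g).Coprime p → (orderOf (d * g)).Coprime p) :
    d ∈ Cfsg.pPrimeCore p G := by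
  classical
  -- the set of all elements with the property
  let S : Set G := {x | ∀ g : G, (orderOf g).Coprime p → (orderOf (x * g)).Coprime p}
  have hS1 : (1 : G) ∈ S := by
    intro g hg
    simpa using hg
  have hSmul : ∀ x y : G, x ∈ S → y ∈ S → x * y ∈ S := by
    intro x y hx hy g hg
    rw [mul_assoc]
    exact hx _ (hy g hg)
  have hSpow : ∀ (x : G) (n : ℕ), x ∈ S → x ^ n ∈ S := by
    intro x n hx
    induction n with
    | zero => simpa using hS1
    | succ n ih => rw [pow_succ]; exact hSmul _ _ ih hx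
  have hSinv : ∀ x : G, x ∈ S → x⁻¹ ∈ S := by
    intro x hx
    have : x⁻¹ = x ^ (orderOf x - 1) := by
      rw [inv_eq_iff_mul_eq_one, ← pow_succ']
      have hpos : 0 < orderOf x := orderOf_pos x
      rw [Nat.sub_add_cancel hpos, pow_orderOf_eq_one]
    rw [this]
    exact hSpow x _ hx
  let D : Subgroup G :=
    { carrier := S
      mul_mem' := fun {a b} ha hb => hSmul a b ha hb
      one_mem' := hS1
      inv_mem' := fun {a} ha => hSinv a ha }
  have hDn : D.Normal := by
    refine ⟨fun x hx g => ?_⟩
    intro y hy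
    have h1 : g * x * g⁻¹ * y = g * (x * (g⁻¹ * y * g)) * g⁻¹ := by group
    rw [h1]
    have h2 : orderOf (g * (x * (g⁻¹ * y * g)) * g⁻¹) = orderOf (x * (g⁻¹ * y * g)) := by
      have := (MulAut.conj g).orderOf_eq (x * (g⁻¹ * y * g))
      rwa [MulAut.conj_apply] at this
    rw [h2]
    apply hx
    have h3 : orderOf (g⁻¹ * y * g) = orderOf y := by
      have := (MulAut.conj g⁻¹).orderOf_eq y
      rwa [MulAut.conj_apply, inv_inv] at this
    rw [h3]; exact hy
  have hDcard : (Nat.card D).Coprime p := by
    rw [Nat.coprime_comm, Nat.Prime.coprime_iff_not_dvd (Fact.out)]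
    intro hdvd
    obtain ⟨x, hx⟩ := exists_prime_orderOf_dvd_card' p hdvd
    have hxS : (x : G) ∈ S := x.2
    have := hxS 1 (by simp)
    rw [mul_one, Subgroup.orderOf_coe, hx] at this
    exact (Nat.Prime.one_lt (Fact.out : p.Prime)).ne' (Nat.coprime_self p |>.mp this)
  have hdD : d ∈ D := h
  have hle : D ≤ Cfsg.pPrimeCore p G := le_sSup ⟨hDn, hDcard⟩
  exact hle hdD

end Cfsg.Agent.S3815
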