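import Cfsg.Statements.S3820
import Cfsg.Agent.Lib.Helper8.Conj

set_option autoImplicit false
open Cfsg

namespace Cfsg.Agent.S3820

open Cfsg.Agent.Lib.Helper8

/-- Call a subgroup H of G pronormal if H and gHg⁻¹ are conjugate inside ⟨H, gHg⁻¹⟩ for every g ∈ G. Let S ≤ H ≤ G be subgroups of a finite group with S pronormal in G (for instance S a Sylow subgroup). Then H is pronormal in G if and only if H and gHg⁻¹ are conjugate inside ⟨H, gHg⁻¹⟩ for every g ∈ N_G(S). In particular H is pronormal whenever N_G(S) ≤ H. -/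
theorem result {G : Type*} [Group G] [Finite G] (S H : Subgroup G) (hSH : S ≤ H)
    (hS : Cfsg.IsPronormal S) :
    Cfsg.IsPronormal H ↔
      ∀ g ∈ Subgroup.normalizer (S : Set G), ∃ w ∈ H ⊔ H.map (MulAut.conj g).toMonoidHom,
        H.map (MulAut.conj g).toMonoidHom = H.map (MulAut.conj w).toMonoidHom := by
  constructor
  · intro hH g _
    exact hH g
  · intro h g
    obtain ⟨x, hx, hSx⟩ := hS g
    set J : Subgroup G := H ⊔ H.map (MulAut.conj g).toMonoidHom with hJ
    have hxJ : x ∈ J := by
      have : S ⊔ S.map (MulAut.conj g).toMonoidHom ≤ J :=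
        sup_le_sup hSH (Subgroup.map_mono hSH)
      exact this hx
    -- n = x⁻¹ * g normalizes S
    have hn : x⁻¹ * g ∈ Subgroup.normalizer (S : Set G) := by
      rw [mem_normalizer_iff_map_conj, ← map_conj_map_conj, hSx, map_conj_map_conj,
        inv_mul_cancel, map_conj_one]
    obtain ⟨w, hw, hHw⟩ := h (x⁻¹ * g) hn
    refine ⟨x * w, ?_, ?_⟩
    · apply J.mul_mem hxJ
      have hle : H ⊔ H.map (MulAut.conj (x⁻¹ * g)).toMonoidHom ≤ J := by
        apply sup_le le_sup_left
        rw [← map_conj_map_conj]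
        intro y hy
        rw [mem_map_conj, inv_inv] at hy
        have h1 : x * y * x⁻¹ ∈ J := (le_sup_right : H.map (MulAut.conj g).toMonoidHom ≤ J) hy
        have h2 : y = x⁻¹ * (x * y * x⁻¹) * x := by group
        rw [h2]
        exact J.mul_mem (J.mul_mem (J.inv_mem hxJ) h1) hxJ
      exact hle hw
    · rw [← map_conj_map_conj H w x, ← hHw, map_conj_map_conj]
      congr 3
      group

end Cfsg.Agent.S3820
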