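import Cfsg.Statements.S3821
import Cfsg.Agent.Lib.Helper8.Conj

set_option autoImplicit false
open Cfsg

namespace Cfsg.Agent.S3821

open Cfsg.Agent.Lib.Helper8

theorem map_conj_subtype {G : Type*} [Group G] (A : Subgroup G) (K : Subgroup A) (a : A) :
    (K.map (MulAut.conj a).toMonoidHom).map A.subtype =
      (K.map A.subtype).map (MulAut.conj (a : G)).toMonoidHom := by
  rw [Subgroup.map_map, Subgroup.map_map]
  congr 1

/-- Let A be a normal subgroup of the finite group G and H a subgroup of A. Then H is pronormal in G (H and gHg⁻¹ conjugate inside ⟨H, gHg⁻¹⟩ for every g ∈ G) if and only if H is pronormal in A and G = A · N_G(H). -/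
theorem result {G : Type*} [Group G] [Finite G] (A H : Subgroup G) [A.Normal] (hHA : H ≤ A) :
    Cfsg.IsPronormal H ↔ (Cfsg.IsPronormal (H.subgroupOf A) ∧ A ⊔ Subgroup.normalizer (H : Set G) = ⊤) := by
  have T1 : (H.subgroupOf A).map A.subtype = H := Subgroup.map_subgroupOf_eq_of_le hHA
  have hconjA : ∀ g : G, H.map (MulAut.conj g).toMonoidHom ≤ A := by
    intro g
    rintro _ ⟨h, hh, rfl⟩
    exact ‹A.Normal›.conj_mem h (hHA hh) g
  have Tsup : ∀ a : A, ((H.subgroupOf A) ⊔ (H.subgroupOf A).map (MulAut.conj a).toMonoidHom).map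
      A.subtype = H ⊔ H.map (MulAut.conj (a : G)).toMonoidHom := by
    intro a
    rw [Subgroup.map_sup, map_conj_subtype, T1]
  constructor
  · intro hH
    constructor
    · intro a
      obtain ⟨x, hx, hxe⟩ := hH (a : G)
      have hxA : x ∈ A := (sup_le hHA (hconjA _)) hx
      refine ⟨⟨x, hxA⟩, ?_, ?_⟩
      · rw [← Subgroup.mem_map_iff_mem A.subtype_injective, Tsup]
        exact hx
      · apply Subgroup.map_injective A.subtype_injective
        rw [map_conj_subtype, map_conj_subtype, T1]
        exact hxe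
    · rw [eq_top_iff]
      intro g _
      obtain ⟨x, hx, hxe⟩ := hH g
      have hxA : x ∈ A := (sup_le hHA (hconjA _)) hx
      have hn : x⁻¹ * g ∈ Subgroup.normalizer (H : Set G) := by
        rw [mem_normalizer_iff_map_conj, ← map_conj_map_conj, hxe, map_conj_map_conj,
          inv_mul_cancel, map_conj_one]
      have : g = x * (x⁻¹ * g) := by group
      rw [this]
      exact Subgroup.mul_mem_sup hxA hn
  · rintro ⟨hHA', hsup⟩ g
    have hg : g ∈ A ⊔ Subgroup.normalizer (H : Set G) := by rw [hsup]; exact Subgroup.mem_top g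
    obtain ⟨a, ha, n, hn, rfl⟩ := Subgroup.mem_sup_of_normal_left.mp hg
    have hHn : H.map (MulAut.conj n).toMonoidHom = H := mem_normalizer_iff_map_conj.mp hn
    have hHg : H.map (MulAut.conj (a * n)).toMonoidHom = H.map (MulAut.conj a).toMonoidHom := by
      rw [← map_conj_map_conj, hHn]
    obtain ⟨x, hx, hxe⟩ := hHA' ⟨a, ha⟩
    refine ⟨(x : G), ?_, ?_⟩
    · rw [hHg]
      have := Subgroup.mem_map_of_mem A.subtype hx
      rw [Tsup] at this
      exact this
    · rw [hHg]
      have := congrArg (Subgroup.map A.subtype) hxe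
      rw [map_conj_subtype, map_conj_subtype, T1] at this
      exact this

end Cfsg.Agent.S3821
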