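import Cfsg.Statements.S3825
import Mathlib

set_option autoImplicit false
open Cfsg

namespace Cfsg.Agent.S3825

open scoped commutatorElement

/-- Let U be a subgroup of a finite group H and w an involution of H normalizing U and commuting with exactly two elements of U, the identity and y. If V is a non-cyclic elementary abelian 2-subgroup of U containing y which is normal in U and invariant under w, then V is a Sylow 2-subgroup of U, V has order 4, and U/V is abelian. -/
theorem result {H : Type*} [Group H] [Finite H] (U : Subgroup H) (w : H) (hw : orderOf w = 2)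
    (hwU : w ∈ Subgroup.normalizer (U : Set H)) (y : H) (hy : y ≠ 1) (hyU : y ∈ U)
    (hfix : ∀ u ∈ U, w * u * w⁻¹ = u ↔ (u = 1 ∨ u = y))
    (V : Subgroup H) (hVU : V ≤ U) (hVn : (V.subgroupOf U).Normal) (hVw : ∀ v ∈ V, w * v * w⁻¹ ∈ V)
    (hVe : Cfsg.IsElementaryAbelian 2 V) (hVc : ¬ IsCyclic ↥V) (hyV : y ∈ V) :
    ¬ 2 ∣ V.relIndex U ∧ Nat.card ↥V = 4 ∧ ⁅U, U⁆ ≤ V := by
  classical
  obtain ⟨hVcomm, hVexp⟩ := hVe
  have hw2 : w * w = 1 := by rw [← pow_two, ← hw, pow_orderOf_eq_one]
  have hwinv : w⁻¹ = w := inv_eq_of_mul_eq_one_left hw2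
  have hconj2 : ∀ x : H, w * (w * x * w⁻¹) * w⁻¹ = x := by
    intro x
    rw [hwinv]
    calc w * (w * x * w) * w = (w * w) * x * (w * w) := by simp only [mul_assoc]
      _ = x := by rw [hw2, one_mul, mul_one]
  have hconjmul : ∀ a b : H, w * (a * b) * w⁻¹ = (w * a * w⁻¹) * (w * b * w⁻¹) := by
    intro a b; group
  have hVcm : ∀ a ∈ V, ∀ b ∈ V, a * b = b * a := fun a ha b hb =>
    congrArg Subtype.val (isMulCommutative_iff.mp hVcomm ⟨a, ha⟩ ⟨b, hb⟩)
  have hVsq : ∀ a ∈ V, a * a = 1 := fun a ha => by rw [← pow_two]; exact hVexp a ha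
  have hyy : y * y = 1 := hVsq y hyV
  have key : ∀ u ∈ U, u⁻¹ * (w * u * w⁻¹) ∈ V → (w * u * w⁻¹ = u ∨ w * u * w⁻¹ = u * y) := by
    intro u hu hv
    have huv : w * u * w⁻¹ = u * (u⁻¹ * (w * u * w⁻¹)) := by group
    generalize u⁻¹ * (w * u * w⁻¹) = v at hv huv
    have h1 : u * v * (w * v * w⁻¹) = u := by
      have := hconj2 u
      rw [huv, hconjmul, huv] at this
      exact this
    have h2 : v * (w * v * w⁻¹) = 1 := by
      have : u * (v * (w * v * w⁻¹)) = u * 1 := by rw [mul_one, ← mul_assoc]; exact h1
      exact mul_left_cancel this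
    have h3 : w * v * w⁻¹ = v := mul_left_cancel (h2.trans (hVsq v hv).symm)
    rcases (hfix v (hVU hv)).mp h3 with h4 | h4
    · left; rw [huv, h4, mul_one]
    · right; rw [huv, h4]
  have hex : ∃ v' ∈ V, v' ≠ 1 ∧ v' ≠ y := by
    by_contra hcon
    refine hVc ⟨⟨⟨y, hyV⟩, fun x => ?_⟩⟩
    by_cases hx1 : (x : H) = 1
    · have : x = 1 := Subtype.ext hx1
      rw [this]; exact (Subgroup.zpowers (⟨y, hyV⟩ : V)).one_mem
    · have hxy : (x : H) = y := by
        by_contra hxy
        exact hcon ⟨x, x.2, hx1, hxy⟩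
      have : x = ⟨y, hyV⟩ := Subtype.ext hxy
      rw [this]; exact Subgroup.mem_zpowers (⟨y, hyV⟩ : V)
  obtain ⟨v', hv'V, hv'1, hv'y⟩ := hex
  have hv'w : w * v' * w⁻¹ = v' * y := by
    rcases key v' (hVU hv'V) (V.mul_mem (V.inv_mem hv'V) (hVw v' hv'V)) with h | h
    · rcases (hfix v' (hVU hv'V)).mp h with h | h
      · exact absurd h hv'1
      · exact absurd h hv'y
    · exact h
  have hcase : ∀ u ∈ U, w * u * w⁻¹ = u * y → (u * v' = 1 ∨ u * v' = y) := by
    intro u hu h
    have : w * (u * v') * w⁻¹ = u * v' := by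
      rw [hconjmul, h, hv'w]
      calc u * y * (v' * y) = u * (y * v') * y := by simp only [mul_assoc]
        _ = u * (v' * y) * y := by rw [hVcm y hyV v' hv'V]
        _ = u * v' * (y * y) := by simp only [mul_assoc]
        _ = u * v' := by rw [hyy, mul_one]
    exact (hfix (u * v') (U.mul_mem hu (hVU hv'V))).mp this
  have hfpf : ∀ u ∈ U, u⁻¹ * (w * u * w⁻¹) ∈ V → u ∈ V := by
    intro u hu hv
    rcases key u hu hv with h | h
    · rcases (hfix u hu).mp h with h | h
      · rw [h]; exact V.one_mem
      · rw [h]; exact hyV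
    · have huv' : u * v' ∈ V := by
        rcases hcase u hu h with h | h
        · rw [h]; exact V.one_mem
        · rw [h]; exact hyV
      have : u = (u * v') * v'⁻¹ := by group
      rw [this]; exact V.mul_mem huv' (V.inv_mem hv'V)
  have hVset : (V : Set H) = (({1, y, v', v' * y} : Finset H) : Set H) := by
    ext x
    simp only [Finset.coe_insert, Finset.coe_singleton, Set.mem_insert_iff, Set.mem_singleton_iff,
      SetLike.mem_coe]
    constructor
    · intro hx
      rcases key x (hVU hx) (V.mul_mem (V.inv_mem hx) (hVw x hx)) with h | h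
      · rcases (hfix x (hVU hx)).mp h with h | h
        · left; exact h
        · right; left; exact h
      · rcases hcase x (hVU hx) h with h | h
        · right; right; left
          exact mul_right_cancel (h.trans (hVsq v' hv'V).symm)
        · right; right; right
          calc x = x * (v' * v') := by rw [hVsq v' hv'V, mul_one]
            _ = (x * v') * v' := by rw [mul_assoc]
            _ = y * v' := by rw [h]
            _ = v' * y := hVcm y hyV v' hv'V
    · intro hx
      rcases hx with rfl | rfl | rfl | rfl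
      exacts [V.one_mem, hyV, hv'V, V.mul_mem hv'V hyV]
  have hcard : Nat.card V = 4 := by
    have h0 : Nat.card V = (V : Set H).ncard := (Nat.card_coe_set_eq (V : Set H))
    rw [h0, hVset, Set.ncard_coe_finset]
    have n1 : v' ≠ v' * y := fun h => hy (by
      have : v' * 1 = v' * y := by rw [mul_one]; exact h
      exact (mul_left_cancel this).symm)
    have n2 : y ≠ v' * y := fun h => hv'1 (by
      have : 1 * y = v' * y := by rw [one_mul]; exact h
      exact (mul_right_cancel this).symm)
    have n3 : (1 : H) ≠ v' * y := fun h => hv'y (by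
      have : v' * y = y * y := by rw [hyy]; exact h.symm
      exact mul_right_cancel this)
    rw [Finset.card_insert_of_notMem, Finset.card_insert_of_notMem, Finset.card_pair n1]
    · simp only [Finset.mem_insert, Finset.mem_singleton, not_or]
      exact ⟨hv'y.symm, n2⟩
    · simp only [Finset.mem_insert, Finset.mem_singleton, not_or]
      exact ⟨hy.symm, hv'1.symm, n3⟩
  -- the automorphism induced on the quotient
  haveI := hVn
  let f : U →* U :=
    { toFun := fun u => ⟨w * u * w⁻¹, (Subgroup.mem_normalizer_iff.mp hwU u).mp u.2⟩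
      map_one' := Subtype.ext (by
        change w * ((1 : U) : H) * w⁻¹ = 1
        rw [Subgroup.coe_one, mul_one, mul_inv_cancel])
      map_mul' := fun a b => Subtype.ext (by
        change w * ((a * b : U) : H) * w⁻¹ = (w * (a : H) * w⁻¹) * (w * (b : H) * w⁻¹)
        rw [Subgroup.coe_mul]; exact hconjmul a b) }
  have hfV : V.subgroupOf U ≤ (V.subgroupOf U).comap f := by
    intro u hu
    rw [Subgroup.mem_comap, Subgroup.mem_subgroupOf]
    exact hVw u (Subgroup.mem_subgroupOf.mp hu)
  let φ : (U ⧸ V.subgroupOf U) →* (U ⧸ V.subgroupOf U) :=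
    QuotientGroup.map (V.subgroupOf U) (V.subgroupOf U) f hfV
  have hφmk : ∀ u : U, φ (QuotientGroup.mk u) = QuotientGroup.mk (f u) := fun u => rfl
  have hinv : Function.Involutive φ := by
    intro q
    induction q using QuotientGroup.induction_on with
    | H u =>
      rw [hφmk, hφmk]
      congr 1
      ext
      exact hconj2 u
  have hfree : MonoidHom.FixedPointFree φ := by
    intro q
    induction q using QuotientGroup.induction_on with
    | H u =>
      intro h
      rw [hφmk] at h
      rw [QuotientGroup.eq_one_iff, Subgroup.mem_subgroupOf]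
      apply hfpf u u.2
      have := QuotientGroup.eq.mp h.symm
      rw [Subgroup.mem_subgroupOf] at this
      exact this
  haveI : Finite (U ⧸ V.subgroupOf U) := inferInstance
  refine ⟨?_, hcard, ?_⟩
  · have hodd := hfree.odd_card_of_involutive hinv
    have : V.relIndex U = Nat.card (U ⧸ V.subgroupOf U) := rfl
    rw [this]
    exact fun h2 => (Nat.not_even_iff_odd.mpr hodd) (even_iff_two_dvd.mpr h2)
  · rw [Subgroup.commutator_le]
    intro a ha b hb
    have hcomm := hfree.commute_all_of_involutive hinv
      (QuotientGroup.mk (⟨a, ha⟩ : U)) (QuotientGroup.mk (⟨b, hb⟩ : U))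
    have h1 : (QuotientGroup.mk (⁅(⟨a, ha⟩ : U), ⟨b, hb⟩⁆) : U ⧸ V.subgroupOf U) = 1 := by
      rw [commutatorElement_def]
      simp only [QuotientGroup.mk_mul, QuotientGroup.mk_inv]
      rw [hcomm.eq]; group
    rw [QuotientGroup.eq_one_iff, Subgroup.mem_subgroupOf] at h1
    exact h1

end Cfsg.Agent.S3825
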