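import Cfsg.Statements.S3835
import Mathlib
import Cfsg.Agent.Lib.Helper21.QdAlt
-- import your own Cfsg.Agent.* helpers here

set_option autoImplicit false
open Cfsg

namespace Cfsg.Agent.S3835

open Cfsg.Agent.Lib.Helper13 Cfsg.Agent.Lib.Helper21.QdAlt

/-- Let p be an odd prime and n a natural number. The alternating group of degree n has a subgroup isomorphic to Qd(p) (the natural semidirect product of an elementary abelian group of order p² by SL₂(p)) if and only if n ≥ p²; and if n < p² then Qd(p) is not even involved in it. -/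
theorem result {p : ℕ} [Fact p.Prime] (hp : p ≠ 2) (n : ℕ) : ((∃ H : Subgroup (alternatingGroup (Fin n)), Nonempty (↥H ≃* ↥(Cfsg.qd p))) ↔ p ^ 2 ≤ n) ∧ (n < p ^ 2 → ¬ Cfsg.Involves ↥(Cfsg.qd p) ↥(alternatingGroup (Fin n))) := by
  have part2 : n < p ^ 2 → ¬ Cfsg.Involves ↥(Cfsg.qd p) ↥(alternatingGroup (Fin n)) := by
    intro hn
    exact not_involves_qd_of_abSylow p ((abSylow_perm n hn).subgroup (alternatingGroup (Fin n)))
  refine ⟨⟨?_, fun hn => exists_subgroup_alternating hp hn⟩, part2⟩
  rintro ⟨H, ⟨e⟩⟩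
  by_contra hlt
  push Not at hlt
  apply part2 hlt
  refine ⟨H, ⊥, ?_, ⟨?_⟩⟩
  · rw [Subgroup.bot_subgroupOf]; infer_instance
  · have hb : (⊥ : Subgroup ↥(alternatingGroup (Fin n))).subgroupOf H = ⊥ := Subgroup.bot_subgroupOf H
    exact (QuotientGroup.quotientMulEquivOfEq hb).trans (QuotientGroup.quotientBot.trans e)

end Cfsg.Agent.S3835
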