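import Cfsg.Statements.S3836
import Cfsg.Agent.Lib.Helper1.Fitting

set_option autoImplicit false
open Cfsg

namespace Cfsg.Agent.S3836

/-- Let G be a finite group that is p-stable in the normalizer form: for every p-subgroup Q and every x ∈ N_G(Q) with [Q, x, x] = 1, the image of x in N_G(Q)/C_G(Q) lies in O_p(N_G(Q)/C_G(Q)). Then every subgroup of G is p-stable in the same sense. -/
theorem result {G : Type*} [Group G] [Finite G] {p : ℕ} [Fact p.Prime] (hst : Cfsg.IsNormalizerPStable p G) (H : Subgroup G) : Cfsg.IsNormalizerPStable p ↥H := by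
  classical
  intro P hP g hg hquad
  set Pt : Subgroup G := P.map H.subtype with hPtdef
  have hPt : IsPGroup p Pt := hP.map _
  have hNle : ∀ x : H, x ∈ Subgroup.normalizer (P : Set H) → (x : G) ∈ Subgroup.normalizer (Pt : Set G) := by
    intro x hx
    have := Subgroup.le_normalizer_map H.subtype (H := P) (Subgroup.mem_map_of_mem H.subtype hx)
    exact this
  have hgt : (g : G) ∈ Subgroup.normalizer (Pt : Set G) := hNle g hg
  have hquadt : ⁅⁅Pt, Subgroup.zpowers (g : G)⁆, Subgroup.zpowers (g : G)⁆ = ⊥ := by
    have : (⁅⁅P, Subgroup.zpowers g⁆, Subgroup.zpowers g⁆).map H.subtype =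
        ⁅⁅Pt, Subgroup.zpowers (g : G)⁆, Subgroup.zpowers (g : G)⁆ := by
      rw [Subgroup.map_commutator, Subgroup.map_commutator, MonoidHom.map_zpowers]
      rfl
    rw [← this, hquad, Subgroup.map_bot]
  have key := hst Pt hPt (g : G) hgt hquadt
  -- the embedding of normalizers
  let f : ↥(Subgroup.normalizer (P : Set H)) →* ↥(Subgroup.normalizer (Pt : Set G)) :=
    { toFun := fun x => ⟨((x : H) : G), hNle x x.2⟩
      map_one' := rfl
      map_mul' := fun x y => rfl }
  have hle : (Subgroup.centralizer (P : Set H)).subgroupOf (Subgroup.normalizer (P : Set H)) ≤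
      ((Subgroup.centralizer (Pt : Set G)).subgroupOf (Subgroup.normalizer (Pt : Set G))).comap f := by
    intro x hx
    rw [Subgroup.mem_subgroupOf] at hx
    rw [Subgroup.mem_comap, Subgroup.mem_subgroupOf, Subgroup.mem_centralizer_iff]
    rintro _ ⟨u, hu, rfl⟩
    rw [Subgroup.mem_centralizer_iff] at hx
    have := hx u hu
    have h2 := congrArg (fun z : H => (z : G)) this
    show (u : G) * ((x : H) : G) = ((x : H) : G) * (u : G)
    simpa only [Subgroup.coe_mul] using h2
  let ι := QuotientGroup.map _ _ f hle
  have hιinj : Function.Injective ι := by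
    rw [injective_iff_map_eq_one]
    intro q hq
    induction q using QuotientGroup.induction_on with
    | H x =>
      rw [QuotientGroup.map_mk, QuotientGroup.eq_one_iff, Subgroup.mem_subgroupOf,
        Subgroup.mem_centralizer_iff] at hq
      rw [QuotientGroup.eq_one_iff, Subgroup.mem_subgroupOf, Subgroup.mem_centralizer_iff]
      intro u hu
      have := hq (u : G) (Subgroup.mem_map_of_mem H.subtype hu)
      apply Subtype.ext
      have h3 : (u : G) * ((x : H) : G) = ((x : H) : G) * (u : G) := this
      simpa only [Subgroup.coe_mul] using h3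
  set O := pCore p (↥(Subgroup.normalizer (Pt : Set G)) ⧸
      (Subgroup.centralizer (Pt : Set G)).subgroupOf (Subgroup.normalizer (Pt : Set G))) with hO
  have hOp : IsPGroup p O := Cfsg.Agent.Lib.Helper1.pCore_isPGroup p _
  have hOn : O.Normal := Cfsg.Agent.Lib.Helper1.pCore_normal p _
  have hcomap_le : O.comap ι ≤ pCore p (↥(Subgroup.normalizer (P : Set H)) ⧸
      (Subgroup.centralizer (P : Set H)).subgroupOf (Subgroup.normalizer (P : Set H))) := by
    apply le_sSup
    exact ⟨hOn.comap ι, hOp.comap_of_injective ι hιinj⟩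
  apply hcomap_le
  rw [Subgroup.mem_comap]
  exact key

end Cfsg.Agent.S3836
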