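import Cfsg.Statements.S3838
import Mathlib
import Cfsg.Agent.Lib.Helper20.PNilpotentLift

set_option autoImplicit false
open Cfsg

namespace Cfsg.Agent.S3838

open scoped commutatorElement
open Cfsg.Agent.Lib.Helper20 Cfsg.Agent.Lib.Helper1

/-- Let G be a finite group with Sylow p-subgroup P such that N_G(P) has a normal p-complement. Then N_G(Q) has a normal p-complement for every subgroup Q with [P, P] ≤ Q ≤ Φ(P). -/
theorem result {G : Type*} [Group G] [Finite G] {p : ℕ} [Fact p.Prime] (P : Sylow p G) (hN : Cfsg.HasNormalPComplement p ↥(Subgroup.normalizer ((P : Subgroup G) : Set G))) (Q : Subgroup G) (h1 : (commutator ↥(P : Subgroup G)).map (P : Subgroup G).subtype ≤ Q) (h2 : Q ≤ (frattini ↥(P : Subgroup G)).map (P : Subgroup G).subtype) : Cfsg.HasNormalPComplement p ↥(Subgroup.normalizer (Q : Set G)) := by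
  classical
  have hp : p.Prime := Fact.out
  have hQP : Q ≤ (P : Subgroup G) := h2.trans (Subgroup.map_subtype_le _)
  -- commutators of `P` lie in `Q`
  have hcomm : ∀ x ∈ (P : Subgroup G), ∀ y ∈ (P : Subgroup G), x * y * x⁻¹ * y⁻¹ ∈ Q := by
    intro x hx y hy
    apply h1
    refine ⟨⁅(⟨x, hx⟩ : (P : Subgroup G)), ⟨y, hy⟩⁆, ?_, ?_⟩
    · rw [SetLike.mem_coe, commutator_def]
      exact Subgroup.commutator_mem_commutator (Subgroup.mem_top _) (Subgroup.mem_top _)
    · simp [commutatorElement_def]
  have hPH : (P : Subgroup G) ≤ Subgroup.normalizer (Q : Set G) := by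
    intro x hx
    apply mem_normalizer_of_forall_conj_mem
    intro q hq
    have := Q.mul_mem (hcomm x hx q (hQP hq)) hq
    simpa [mul_assoc] using this
  set NQ := Subgroup.normalizer (Q : Set G) with hNQ
  haveI hQn : (Q.subgroupOf NQ).Normal := Subgroup.normal_in_normalizer
  apply hasNormalPComplement_of_frattini_quotient (P.subtype hPH) (Q.subgroupOf NQ)
  · -- Q_X ≤ P_X
    intro x hx
    rw [Sylow.coe_subtype, Subgroup.mem_subgroupOf]
    exact hQP (Subgroup.mem_subgroupOf.mp hx)
  · -- non-generator property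
    intro T hT hgen
    -- transport `T` to a subgroup of `P`
    set T' : Subgroup (P : Subgroup G) := (T.map NQ.subtype).subgroupOf (P : Subgroup G) with hT'
    have htop : T' ⊔ frattini (P : Subgroup G) = ⊤ := by
      rw [eq_top_iff]
      intro x _
      have hxX : (⟨(x : G), hPH x.2⟩ : NQ) ∈ ((P.subtype hPH : Sylow p NQ) : Subgroup NQ) := by
        rw [Sylow.coe_subtype, Subgroup.mem_subgroupOf]; exact x.2
      obtain ⟨q, hq, t, ht, hqt⟩ := hgen _ hxX
      have hqQ : (q : G) ∈ Q := Subgroup.mem_subgroupOf.mp hq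
      obtain ⟨q', hq', hqq'⟩ := Subgroup.mem_map.mp (h2 hqQ)
      have htP : (t : G) ∈ (P : Subgroup G) := by
        have := hT ht
        rw [Sylow.coe_subtype, Subgroup.mem_subgroupOf] at this
        exact this
      have ht' : (⟨(t : G), htP⟩ : (P : Subgroup G)) ∈ T' := by
        rw [hT', Subgroup.mem_subgroupOf]
        exact Subgroup.mem_map_of_mem NQ.subtype ht
      have hx : x = q' * ⟨(t : G), htP⟩ := by
        apply Subtype.ext
        have := congrArg (Subtype.val : NQ → G) hqt
        simp only [Subgroup.coe_mul] at this ⊢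
        rw [this]
        congr 1
        exact hqq'.symm
      rw [hx]
      exact Subgroup.mul_mem _ (Subgroup.mem_sup_right hq') (Subgroup.mem_sup_left ht')
    have hT'top : T' = ⊤ := frattini_nongenerating htop
    intro x hx
    rw [Sylow.coe_subtype, Subgroup.mem_subgroupOf] at hx
    have h3 : (⟨(x : G), hx⟩ : (P : Subgroup G)) ∈ T' := by rw [hT'top]; exact Subgroup.mem_top _
    rw [hT', Subgroup.mem_subgroupOf] at h3
    obtain ⟨t, ht, htx⟩ := Subgroup.mem_map.mp h3
    have : t = x := Subtype.ext htx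
    rwa [← this]
  · -- N_X(P) centralizes P/Q
    intro n hn y hy
    rw [Sylow.coe_subtype, Subgroup.mem_subgroupOf] at hy
    rw [Subgroup.mem_subgroupOf]
    simp only [Subgroup.coe_mul, Subgroup.coe_inv]
    -- (n : G) normalizes P
    have hnG : (n : G) ∈ Subgroup.normalizer ((P : Subgroup G) : Set G) := by
      apply mem_normalizer_of_forall_conj_mem
      intro z hz
      have hzX : (⟨z, hPH hz⟩ : NQ) ∈ ((P.subtype hPH : Sylow p NQ) : Subgroup NQ) := by
        rw [Sylow.coe_subtype, Subgroup.mem_subgroupOf]; exact hz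
      have := (Subgroup.mem_normalizer_iff.mp hn _).mp hzX
      rw [Sylow.coe_subtype, Subgroup.mem_subgroupOf] at this
      simpa using this
    set NP := Subgroup.normalizer ((P : Subgroup G) : Set G) with hNP
    obtain ⟨S, K₀, hK₀n, hK₀c⟩ := hN
    -- the Sylow subgroup `S` of `N_G(P)` is `P`
    have hPn : ((P : Subgroup G).subgroupOf NP).Normal := Subgroup.normal_in_normalizer
    have hPS : (P : Subgroup G).subgroupOf NP ≤ (S : Subgroup NP) :=
      IsPGroup.le_sylow_of_normal (N := (P : Subgroup G).subgroupOf NP) (P.2.comap_subtype) S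
    have hSP : ∀ s ∈ (S : Subgroup NP), (s : G) ∈ (P : Subgroup G) := by
      intro s hs
      have h3 : IsPGroup p ((S : Subgroup NP).map NP.subtype) := S.2.map _
      have h4 : (P : Subgroup G) ≤ (S : Subgroup NP).map NP.subtype := by
        intro z hz
        exact ⟨⟨z, Subgroup.le_normalizer hz⟩, hPS (Subgroup.mem_subgroupOf.mpr hz), rfl⟩
      have h5 := P.3 h3 h4
      rw [← h5]
      exact Subgroup.mem_map_of_mem NP.subtype hs
    -- decompose n = k * s
    obtain ⟨⟨k, s⟩, hks, -⟩ := hK₀c.existsUnique (⟨(n : G), hnG⟩ : NP)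
    have hsP : ((s : NP) : G) ∈ (P : Subgroup G) := hSP _ s.2
    -- k commutes with elements of P
    have hdisj : Disjoint K₀ (S : Subgroup NP) := hK₀c.disjoint
    have hkcomm : ∀ z ∈ (P : Subgroup G), ((k : NP) : G) * z = z * ((k : NP) : G) := by
      intro z hz
      have hzS : (⟨z, Subgroup.le_normalizer hz⟩ : NP) ∈ (P : Subgroup G).subgroupOf NP :=
        Subgroup.mem_subgroupOf.mpr hz
      have hdisj' : Disjoint K₀ ((P : Subgroup G).subgroupOf NP) := hdisj.mono_right hPS
      have := Subgroup.commute_of_normal_of_disjoint K₀ _ hK₀n hPn hdisj' (k : NP) _ k.2 hzS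
      exact congrArg (Subtype.val : NP → G) this.eq
    have hn_eq : (n : G) = ((k : NP) : G) * ((s : NP) : G) := by
      have := congrArg (Subtype.val : NP → G) hks
      simpa using this.symm
    have hsy : ((s : NP) : G) * (y : G) * ((s : NP) : G)⁻¹ ∈ (P : Subgroup G) :=
      Subgroup.mul_mem _ (Subgroup.mul_mem _ hsP hy) (Subgroup.inv_mem _ hsP)
    have e : (n : G) * (y : G) * (n : G)⁻¹ * (y : G)⁻¹ =
        ((s : NP) : G) * (y : G) * ((s : NP) : G)⁻¹ * (y : G)⁻¹ := by
      rw [hn_eq]
      calc ((k : NP) : G) * ((s : NP) : G) * (y : G) * (((k : NP) : G) * ((s : NP) : G))⁻¹ * (y : G)⁻¹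
          = (((k : NP) : G) * (((s : NP) : G) * (y : G) * ((s : NP) : G)⁻¹)) * ((k : NP) : G)⁻¹ * (y : G)⁻¹ := by
            group
        _ = ((((s : NP) : G) * (y : G) * ((s : NP) : G)⁻¹) * ((k : NP) : G)) * ((k : NP) : G)⁻¹ * (y : G)⁻¹ := by
            rw [hkcomm _ hsy]
        _ = _ := by group
    rw [e]
    exact hcomm _ hsP _ hy

end Cfsg.Agent.S3838
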