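import Cfsg.Statements.S3858
import Mathlib
import Cfsg.Agent.Lib.Helper20.AlmostSimpleSylow
import Cfsg.Agent.Lib.Helper12.Basic
import Cfsg.Agent.Lib.Helper1.Coprime

set_option autoImplicit false
open Cfsg

namespace Cfsg.Agent.S3858

open Cfsg.Agent.Lib.Helper20

theorem isCoatom_map_conj {G : Type*} [Group G] (M : Subgroup G) (g : G) (hM : IsCoatom M) :
    IsCoatom (M.map (MulAut.conj g).toMonoidHom) :=
  ((MulEquiv.mapSubgroup (MulAut.conj g)).isCoatom_iff M).mpr hM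

/-- A maximal subgroup of index prime to `r` contains a conjugate of the Sylow subgroup `R`. -/
theorem exists_conj_ge_sylow {G : Type*} [Group G] [Finite G] {r : ℕ} [Fact r.Prime]
    (R : Sylow r G) (M : Subgroup G) (hidx : ¬ r ∣ M.index) :
    ∃ g : G, (R : Subgroup G) ≤ M.map (MulAut.conj g).toMonoidHom := by
  have hr : r.Prime := Fact.out
  obtain ⟨P₁⟩ : Nonempty (Sylow r M) := inferInstance
  have hQp : IsPGroup r ((P₁ : Subgroup M).map M.subtype) := P₁.2.map _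
  have hQidx : ¬ r ∣ ((P₁ : Subgroup M).map M.subtype).index := by
    rw [Subgroup.index_map_subtype]
    intro h
    rcases (Nat.Prime.dvd_mul hr).mp h with h | h
    · exact P₁.not_dvd_index h
    · exact hidx h
  obtain ⟨h, -, hh⟩ := Cfsg.Agent.Lib.Helper12.exists_conj_mem_sylow (hQp.toSylow hQidx) ⊤
    (R : Subgroup G) le_top le_top R.2
  refine ⟨h⁻¹, fun x hx => ?_⟩
  rw [Cfsg.Agent.Lib.Helper12.mem_map_conj_iff, inv_inv]
  have := hh x hx
  rw [IsPGroup.toSylow_coe] at this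
  exact Subgroup.map_subtype_le _ this

theorem not_dvd_index_of_sylow_le {G : Type*} [Group G] [Finite G] {r : ℕ} [Fact r.Prime]
    (R : Sylow r G) (M : Subgroup G) (hRM : (R : Subgroup G) ≤ M) : ¬ r ∣ M.index :=
  fun h => R.not_dvd_index (h.trans (Subgroup.index_dvd_of_le hRM))

/-- Let G be a finite group with a normal non-abelian simple subgroup T whose centralizer is trivial (G almost simple with socle T), r a prime and R a Sylow r-subgroup of G meeting T nontrivially. Then R lies in exactly one maximal subgroup of G if and only if G has exactly one conjugacy class of maximal subgroups whose index is prime to r. -/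
theorem result {G : Type*} [Group G] [Finite G] (T : Subgroup G) [T.Normal] (hT : IsSimpleGroup T) (hna : ¬ IsMulCommutative T)
    (hC : Subgroup.centralizer (T : Set G) = ⊥) {r : ℕ} [Fact r.Prime] (R : Sylow r G) (hR0 : (R : Subgroup G) ⊓ T ≠ ⊥) :
    (∃! M : Subgroup G, IsCoatom M ∧ (R : Subgroup G) ≤ M) ↔
      ((∃ M : Subgroup G, IsCoatom M ∧ ¬ r ∣ M.index) ∧
        ∀ M₁ M₂ : Subgroup G, IsCoatom M₁ → ¬ r ∣ M₁.index → IsCoatom M₂ → ¬ r ∣ M₂.index → ∃ g : G, M₂ = M₁.map (MulAut.conj g).toMonoidHom) := by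
  classical
  constructor
  · rintro ⟨M, ⟨hMco, hRM⟩, hMuniq⟩
    refine ⟨⟨M, hMco, not_dvd_index_of_sylow_le R M hRM⟩, ?_⟩
    intro M₁ M₂ hM₁ hi₁ hM₂ hi₂
    obtain ⟨g₁, hg₁⟩ := exists_conj_ge_sylow R M₁ hi₁
    obtain ⟨g₂, hg₂⟩ := exists_conj_ge_sylow R M₂ hi₂
    have e₁ := hMuniq _ ⟨isCoatom_map_conj M₁ g₁ hM₁, hg₁⟩
    have e₂ := hMuniq _ ⟨isCoatom_map_conj M₂ g₂ hM₂, hg₂⟩
    refine ⟨g₂⁻¹ * g₁, ?_⟩
    ext x
    rw [Cfsg.Agent.Lib.Helper12.mem_map_conj_iff]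
    have h1 : ∀ y, y ∈ M ↔ g₁⁻¹ * y * g₁ ∈ M₁ := by
      intro y; rw [← e₁, Cfsg.Agent.Lib.Helper12.mem_map_conj_iff]
    have h2 : ∀ y, y ∈ M ↔ g₂⁻¹ * y * g₂ ∈ M₂ := by
      intro y; rw [← e₂, Cfsg.Agent.Lib.Helper12.mem_map_conj_iff]
    have h3 := h2 (g₂ * x * g₂⁻¹)
    have h4 := h1 (g₂ * x * g₂⁻¹)
    have e5 : g₂⁻¹ * (g₂ * x * g₂⁻¹) * g₂ = x := by group
    have e6 : g₁⁻¹ * (g₂ * x * g₂⁻¹) * g₁ = (g₂⁻¹ * g₁)⁻¹ * x * (g₂⁻¹ * g₁) := by group
    rw [e5] at h3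
    rw [e6] at h4
    rw [← h3, h4]
  · rintro ⟨⟨M', hM'co, hM'i⟩, hconj⟩
    have hNne := normalizer_sylow_inf_ne_top T hT hna R hR0
    have hRN : (R : Subgroup G) ≤
        Subgroup.normalizer (((R : Subgroup G) ⊓ T : Subgroup G) : Set G) :=
      Subgroup.le_normalizer.trans (sylow_le_normalizer_inf T R)
    obtain ⟨M₀, hM₀co, hNM₀⟩ := (eq_top_or_exists_le_coatom _).resolve_left hNne
    have hRM₀ : (R : Subgroup G) ≤ M₀ := hRN.trans hNM₀
    refine ⟨M₀, ⟨hM₀co, hRM₀⟩, ?_⟩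
    rintro M₁ ⟨hM₁co, hRM₁⟩
    obtain ⟨g, hg⟩ := hconj M₀ M₁ hM₀co (not_dvd_index_of_sylow_le R M₀ hRM₀) hM₁co
      (not_dvd_index_of_sylow_le R M₁ hRM₁)
    have hQM₁ : (R : Subgroup G).map (MulAut.conj g).toMonoidHom ≤ M₁ := by
      rw [hg]; exact Subgroup.map_mono hRM₀
    obtain ⟨h, hhM₁, hh⟩ := Cfsg.Agent.Lib.Helper12.exists_conj_mem_sylow R M₁ _ hRM₁ hQM₁
      (R.2.map _)
    have hn : h * g ∈ M₀ := by
      apply hNM₀
      apply sylow_le_normalizer_inf T R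
      apply Cfsg.Agent.Lib.Helper1.mem_normalizer_of_forall_conj_mem
      intro x hx
      have := hh (g * x * g⁻¹) (Subgroup.mem_map.mpr ⟨x, hx, by simp⟩)
      have e : h * g * x * (h * g)⁻¹ = h * (g * x * g⁻¹) * h⁻¹ := by group
      rw [e]; exact this
    have hx_iff : ∀ x, x ∈ M₁ ↔ h * x * h⁻¹ ∈ M₀ := by
      intro x
      rw [hg, Cfsg.Agent.Lib.Helper12.mem_map_conj_iff]
      have e : g⁻¹ * x * g = (h * g)⁻¹ * (h * x * h⁻¹) * (h * g) := by group
      rw [e]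
      constructor
      · intro hh'
        have := M₀.mul_mem (M₀.mul_mem hn hh') (M₀.inv_mem hn)
        simpa [mul_assoc] using this
      · intro hh'
        exact M₀.mul_mem (M₀.mul_mem (M₀.inv_mem hn) hh') hn
    have hhM₀ : h ∈ M₀ := by
      have := (hx_iff h).mp hhM₁
      simpa using this
    ext x
    rw [hx_iff]
    constructor
    · intro hh'
      have := M₀.mul_mem (M₀.mul_mem (M₀.inv_mem hhM₀) hh') hhM₀
      simpa [mul_assoc] using this
    · intro hh'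
      exact M₀.mul_mem (M₀.mul_mem hhM₀ hh') (M₀.inv_mem hhM₀)

end Cfsg.Agent.S3858
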