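import Cfsg.Statements.S3859
import Mathlib
import Cfsg.Agent.Lib.Helper20.AlmostSimpleSylow

set_option autoImplicit false
open Cfsg

namespace Cfsg.Agent.S3859

open Cfsg.Agent.Lib.Helper20

/-- Let G be a finite group with a normal non-abelian simple subgroup T whose centralizer is trivial (G almost simple with socle T), r a prime and R a Sylow r-subgroup of G meeting T nontrivially. If R lies in exactly one maximal subgroup of G, then G/T is an r-group. -/
theorem result {G : Type*} [Group G] [Finite G] (T : Subgroup G) [T.Normal] (hT : IsSimpleGroup T) (hna : ¬ IsMulCommutative T)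
    (hC : Subgroup.centralizer (T : Set G) = ⊥) {r : ℕ} [Fact r.Prime] (R : Sylow r G) (hR0 : (R : Subgroup G) ⊓ T ≠ ⊥)
    (huniq : ∃! M : Subgroup G, IsCoatom M ∧ (R : Subgroup G) ≤ M) : IsPGroup r (G ⧸ T) := by
  classical
  obtain ⟨M, ⟨hMco, hRM⟩, hMuniq⟩ := huniq
  have hkey : ∀ K : Subgroup G, (R : Subgroup G) ≤ K → K ≠ ⊤ → K ≤ M :=
    fun K hRK hK => Cfsg.Agent.Lib.Helper16.minimalOver_key (Y := (R : Subgroup G)) hMuniq K hRK hK
  have hNne := normalizer_sylow_inf_ne_top T hT hna R hR0
  have hfr := normalizer_sylow_inf_sup_eq_top T R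
  have hRN : (R : Subgroup G) ≤ Subgroup.normalizer (((R : Subgroup G) ⊓ T : Subgroup G) : Set G) :=
    Subgroup.le_normalizer.trans (sylow_le_normalizer_inf T R)
  have hNM := hkey _ hRN hNne
  have hTM : M ⊔ T = ⊤ := top_le_iff.mp (hfr ▸ sup_le_sup_right hNM T)
  have hRT : (R : Subgroup G) ⊔ T = ⊤ := by
    by_contra hne
    have hle := hkey _ le_sup_left hne
    have hTle : T ≤ M := le_sup_right.trans hle
    have : M = ⊤ := by rw [← hTM]; exact (sup_eq_left.mpr hTle).symm
    exact hMco.1 this
  have hmap : (R : Subgroup G).map (QuotientGroup.mk' T) = ⊤ := by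
    have := congrArg (Subgroup.map (QuotientGroup.mk' T)) hRT
    rw [Subgroup.map_sup, Subgroup.map_top_of_surjective _ (QuotientGroup.mk'_surjective T)] at this
    have hTbot : T.map (QuotientGroup.mk' T) = ⊥ := by
      rw [Subgroup.map_eq_bot_iff, QuotientGroup.ker_mk']
    rwa [hTbot, sup_bot_eq] at this
  have h1 : IsPGroup r ((R : Subgroup G).map (QuotientGroup.mk' T)) := R.2.map _
  rw [hmap] at h1
  exact h1.of_equiv Subgroup.topEquiv

end Cfsg.Agent.S3859
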