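import Cfsg.Statements.S3862
import Mathlib
import Cfsg.Agent.Lib.Helper29.MinNonPNilpotent
import Cfsg.Agent.Lib.Helper20.HHReduction

set_option autoImplicit false
open Cfsg

namespace Cfsg.Agent.S3862

open Cfsg.Agent.Lib.Helper20 Cfsg.Agent.Lib.Helper29

/-- If every 2-element of the finite group G that is conjugate to its inverse lies in the centre of G, then G has a normal 2-complement. -/
theorem result {G : Type*} [Group G] [Finite G] (h : ∀ x : G, (∃ j : ℕ, orderOf x = 2 ^ j) → IsConj x x⁻¹ → x ∈ Subgroup.center G) : Cfsg.HasNormalPComplement 2 G := by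
  classical
  haveI : Fact (Nat.Prime 2) := ⟨Nat.prime_two⟩
  apply (frobCond_iff (p := 2) (G := G)).mp
  intro Q hQ g hg hcop
  -- the automorphism of `Q` induced by `g`
  have hα : (orderOf (Q.normalizerMonoidHom ⟨g, hg⟩)).Coprime 2 := by
    have h1 : orderOf (Q.normalizerMonoidHom ⟨g, hg⟩) ∣
        orderOf (⟨g, hg⟩ : Subgroup.normalizer (Q : Set G)) := orderOf_map_dvd _ _
    rw [Subgroup.orderOf_mk] at h1
    exact Nat.Coprime.coprime_dvd_left h1 hcop
  have key : Q.normalizerMonoidHom ⟨g, hg⟩ = 1 := by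
    by_contra hne
    obtain ⟨Q₀, hinv, ⟨x, hxQ₀, hx⟩, -, -, hpf, -⟩ := exists_hh_reduction hQ _ hα hne
    apply hx
    apply fix_of_fix_comm hQ _ hα
    obtain ⟨c, hc⟩ : ∃ c, c = x⁻¹ * (Q.normalizerMonoidHom ⟨g, hg⟩) x := ⟨_, rfl⟩
    rw [← hc]
    have h1 : (Q.normalizerMonoidHom ⟨g, hg⟩) x = x * c := by rw [hc]; group
    have h2 : (Q.normalizerMonoidHom ⟨g, hg⟩) (x ^ 2) = x ^ 2 := hpf x hxQ₀
    have h3 : c * x * c = x := by
      rw [map_pow, h1] at h2
      have : x * (c * x * c) = x * x := by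
        rw [← pow_two x, ← h2]; simp only [pow_two, mul_assoc]
      exact mul_left_cancel this
    -- `c` is conjugate to its inverse
    have h4 : x⁻¹ * c * x = c⁻¹ := by
      calc x⁻¹ * c * x = x⁻¹ * (c * x * c) * c⁻¹ := by group
        _ = c⁻¹ := by rw [h3]; group
    have hconj : IsConj (c : G) (c : G)⁻¹ := by
      rw [isConj_iff]
      refine ⟨(x : G)⁻¹, ?_⟩
      have := congrArg (Subtype.val : Q → G) h4
      simpa using this
    have h2pow : ∃ j : ℕ, orderOf (c : G) = 2 ^ j := by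
      obtain ⟨k, hk⟩ := hQ c
      have h5 : (c : G) ^ 2 ^ k = 1 := by
        have := congrArg (Subtype.val : Q → G) hk
        simpa using this
      obtain ⟨j, -, hj⟩ := (Nat.dvd_prime_pow Nat.prime_two).mp (orderOf_dvd_of_pow_eq_one h5)
      exact ⟨j, hj⟩
    have hcen := h (c : G) h2pow hconj
    apply Subtype.ext
    have h6 : g * (c : G) = (c : G) * g := Subgroup.mem_center_iff.mp hcen g
    have h7 : (((Q.normalizerMonoidHom ⟨g, hg⟩) c : Q) : G) = g * (c : G) * g⁻¹ := rfl
    rw [h7, h6]; group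
  rw [Subgroup.mem_centralizer_iff]
  intro y hy
  have h2 := congrArg (fun f : MulAut Q => ((f ⟨y, hy⟩ : Q) : G)) key
  have h3 : g * y * g⁻¹ = y := by simpa using h2
  calc y * g = (g * y * g⁻¹) * g := by rw [h3]
    _ = g * y := by group

end Cfsg.Agent.S3862
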