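import Cfsg.Statements.S3863
import Mathlib

set_option autoImplicit false
open Cfsg

namespace Cfsg.Agent.S3863

/-- conjugating by an odd power of an inverting element inverts. -/
theorem conj_pow_odd {G : Type*} [Group G] (g x : G) (h : g * x * g⁻¹ = x⁻¹) (m : ℕ) (hm : Odd m) :
    g ^ m * x * (g ^ m)⁻¹ = x⁻¹ := by
  have h2 : ∀ i : ℕ, g ^ (2 * i) * x * (g ^ (2 * i))⁻¹ = x := by
    intro i
    induction i with
    | zero => simp
    | succ i ih =>
      have e : g ^ (2 * (i + 1)) * x * (g ^ (2 * (i + 1)))⁻¹ =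
          g * (g * (g ^ (2 * i) * x * (g ^ (2 * i))⁻¹) * g⁻¹) * g⁻¹ := by
        have : 2 * (i + 1) = 2 * i + 1 + 1 := by ring
        rw [this, pow_succ', pow_succ']
        group
      rw [e, ih, h]
      have : g * x⁻¹ * g⁻¹ = (g * x * g⁻¹)⁻¹ := by group
      rw [this, h, inv_inv]
  obtain ⟨i, rfl⟩ := hm
  have e : g ^ (2 * i + 1) * x * (g ^ (2 * i + 1))⁻¹ =
      g * (g ^ (2 * i) * x * (g ^ (2 * i))⁻¹) * g⁻¹ := by
    rw [pow_succ']
    group
  rw [e, h2 i, h]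

/-- Let x be an element of the finite group G that is conjugate to its inverse. Then some 2-element conjugates x to its inverse; if the conjugacy class of x has odd size then x ^ 2 = 1; and x lies in, and is conjugate to its inverse inside, every normal subgroup of odd index. -/
theorem result {G : Type*} [Group G] [Finite G] (x : G) (hx : IsConj x x⁻¹) : (∃ t : G, (∃ j : ℕ, orderOf t = 2 ^ j) ∧ t * x * t⁻¹ = x⁻¹) ∧ (Odd (Subgroup.centralizer ({x} : Set G)).index → x ^ 2 = 1) ∧ ∀ (N : Subgroup G) [N.Normal], Odd N.index → ∃ hxN : x ∈ N, IsConj (⟨x, hxN⟩ : N) (⟨x, hxN⟩ : N)⁻¹ := by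
  classical
  -- part 1
  have part1 : ∃ t : G, (∃ j : ℕ, orderOf t = 2 ^ j) ∧ t * x * t⁻¹ = x⁻¹ := by
    obtain ⟨g, hg⟩ := isConj_iff.mp hx
    have hn : orderOf g ≠ 0 := (orderOf_pos g).ne'
    obtain ⟨k, m, hm, hkm⟩ := Nat.exists_eq_two_pow_mul_odd hn
    refine ⟨g ^ m, ⟨k, ?_⟩, conj_pow_odd g x hg m hm⟩
    rw [orderOf_pow' g hm.pos.ne', hkm]
    rw [Nat.gcd_eq_right (Dvd.intro_left _ rfl)]
    exact Nat.mul_div_cancel _ hm.pos
  obtain ⟨t, ⟨j, htj⟩, ht⟩ := part1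
  refine ⟨⟨t, ⟨j, htj⟩, ht⟩, ?_, ?_⟩
  · -- part 2
    intro hodd
    set C : Subgroup G := Subgroup.centralizer ({x} : Set G) with hC
    have memC : ∀ g : G, g ∈ C ↔ g * x = x * g := fun g => Subgroup.mem_centralizer_singleton_iff
    -- t normalizes C
    have htC : ∀ g : G, g ∈ C → t * g * t⁻¹ ∈ C := by
      intro g hg
      rw [memC] at hg ⊢
      have hginv : g * x⁻¹ = x⁻¹ * g := by
        have := congrArg (fun z => x⁻¹ * z * x⁻¹) hg
        have a1 : x⁻¹ * (g * x) * x⁻¹ = x⁻¹ * g := by group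
        have a2 : x⁻¹ * (x * g) * x⁻¹ = g * x⁻¹ := by group
        rw [a1, a2] at this
        exact this.symm
      have hxt : t⁻¹ * x * t = x⁻¹ := by
        have h3 : t⁻¹ * x⁻¹ * t = x := by rw [← ht]; group
        have h4 : t⁻¹ * x * t = (t⁻¹ * x⁻¹ * t)⁻¹ := by group
        rw [h4, h3]
      calc t * g * t⁻¹ * x = t * (g * (t⁻¹ * x * t)) * t⁻¹ := by group
        _ = t * (g * x⁻¹) * t⁻¹ := by rw [hxt]
        _ = t * (x⁻¹ * g) * t⁻¹ := by rw [hginv]
        _ = t * ((t⁻¹ * x * t) * g) * t⁻¹ := by rw [hxt]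
        _ = x * (t * g * t⁻¹) := by group
    have ht2 : t⁻¹ * t⁻¹ ∈ C := by
      rw [memC]
      have hxt : t⁻¹ * x * t = x⁻¹ := by
        have h3 : t⁻¹ * x⁻¹ * t = x := by rw [← ht]; group
        have h4 : t⁻¹ * x * t = (t⁻¹ * x⁻¹ * t)⁻¹ := by group
        rw [h4, h3]
      have h3 : t⁻¹ * x⁻¹ * t = x := by rw [← ht]; group
      calc t⁻¹ * t⁻¹ * x = t⁻¹ * (t⁻¹ * x * t) * t⁻¹ := by group
        _ = t⁻¹ * x⁻¹ * t⁻¹ := by rw [hxt]
        _ = (t⁻¹ * x⁻¹ * t) * (t⁻¹ * t⁻¹) := by group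
        _ = x * (t⁻¹ * t⁻¹) := by rw [h3]
    -- the involution on G ⧸ C
    let ρ : G ⧸ C → G ⧸ C := Quotient.map' (fun g => g * t⁻¹) (by
      intro a b hab
      rw [QuotientGroup.leftRel_apply] at hab ⊢
      have : (a * t⁻¹)⁻¹ * (b * t⁻¹) = t * (a⁻¹ * b) * t⁻¹ := by group
      rw [this]
      exact htC _ hab)
    have hρ_mk : ∀ g : G, ρ (QuotientGroup.mk g) = QuotientGroup.mk (g * t⁻¹) := fun g => rfl
    have hρinv : Function.Involutive ρ := by
      intro q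
      induction q using QuotientGroup.induction_on with
      | H g =>
        rw [hρ_mk, hρ_mk, QuotientGroup.eq]
        have : (g * t⁻¹ * t⁻¹)⁻¹ * g = (t⁻¹ * t⁻¹)⁻¹ := by group
        rw [this]
        exact C.inv_mem ht2
    let σ : Equiv.Perm (G ⧸ C) := hρinv.toPerm ρ
    haveI : Fintype (G ⧸ C) := Fintype.ofFinite _
    have hcard : ¬ 2 ∣ Fintype.card (G ⧸ C) := by
      rw [← Nat.card_eq_fintype_card]
      have : Nat.card (G ⧸ C) = C.index := rfl
      rw [this]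
      exact hodd.not_two_dvd_nat
    have hσ : σ ^ 2 ^ 1 = 1 := by
      ext q
      simp only [pow_one, sq, Equiv.Perm.coe_mul, Function.comp_apply, Equiv.Perm.coe_one, id_eq]
      exact hρinv q
    haveI : Fact (Nat.Prime 2) := ⟨Nat.prime_two⟩
    obtain ⟨q, hq⟩ := Equiv.Perm.exists_fixed_point_of_prime (p := 2) (n := 1) hcard hσ
    induction q using QuotientGroup.induction_on with
    | H g =>
      have hq' : ρ (QuotientGroup.mk g) = QuotientGroup.mk g := hq
      rw [hρ_mk, QuotientGroup.eq] at hq'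
      have e : (g * t⁻¹)⁻¹ * g = t := by group
      rw [e, memC] at hq'
      -- t commutes with x so x⁻¹ = x
      have : x⁻¹ = x := by
        rw [← ht, hq']; group
      rw [sq]
      calc x * x = x⁻¹ * x := by rw [this]
        _ = 1 := inv_mul_cancel x
  · -- part 3
    intro N _ hNodd
    have hcardodd : Odd (Nat.card (G ⧸ N)) := hNodd
    have hkill : ∀ y : G, (∃ i : ℕ, y ^ 2 ^ i ∈ N) → y ∈ N := by
      rintro y ⟨i, hi⟩
      rw [← QuotientGroup.eq_one_iff] at hi ⊢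
      rw [QuotientGroup.mk_pow] at hi
      have h1 : orderOf (y : G ⧸ N) ∣ 2 ^ i := orderOf_dvd_of_pow_eq_one hi
      have h2 : orderOf (y : G ⧸ N) ∣ Nat.card (G ⧸ N) := orderOf_dvd_natCard _
      have hcop : Nat.Coprime (2 ^ i) (Nat.card (G ⧸ N)) :=
        Nat.Coprime.pow_left i (Nat.coprime_two_left.mpr hcardodd)
      have := Nat.eq_one_of_dvd_coprimes hcop h1 h2
      exact orderOf_eq_one_iff.mp this
    have htN : t ∈ N := by
      apply hkill t
      refine ⟨j, ?_⟩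
      rw [← htj, pow_orderOf_eq_one]
      exact N.one_mem
    have hxN : x ∈ N := by
      apply hkill x
      refine ⟨1, ?_⟩
      rw [pow_one, sq]
      -- x * x = x * (t x⁻¹ t⁻¹)⁻¹ ... x = t x⁻¹ t⁻¹ ; x * x ∈ N iff ...
      have h3 : x = t * x⁻¹ * t⁻¹ := by
        have : t * x⁻¹ * t⁻¹ = (t * x * t⁻¹)⁻¹ := by group
        rw [this, ht, inv_inv]
      -- x * x = x * t * x⁻¹ * t⁻¹ = (x t x⁻¹) t⁻¹ ∈ N
      have h4 : x * x = (x * t * x⁻¹) * t⁻¹ := by
        conv_lhs => rw [h3]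
        have : x * (t * x⁻¹ * t⁻¹) = x * t * x⁻¹ * t⁻¹ := by group
        rw [← this, ← h3]
      rw [h4]
      exact N.mul_mem (‹N.Normal›.conj_mem t htN x) (N.inv_mem htN)
    refine ⟨hxN, ?_⟩
    rw [isConj_iff]
    refine ⟨⟨t, htN⟩, ?_⟩
    apply Subtype.ext
    simp only [Subgroup.coe_mul, Subgroup.coe_inv]
    exact ht

end Cfsg.Agent.S3863
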