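import Cfsg.Statements.S3870
import Mathlib

set_option autoImplicit false
open Cfsg

namespace Cfsg.Agent.S3870

open scoped Pointwise

/-- In a `p`-closed subgroup `H`, any family of `p`-subgroups lies in a common Sylow subgroup of `G`,
which moreover is normalized by `H`. -/
theorem common_sylow {G : Type*} [Group G] [Finite G] {p : ℕ} [Fact p.Prime] (H : Subgroup G)
    (hH : Cfsg.IsPClosed p ↥H) :
    ∃ T : Subgroup G, IsPGroup p T ∧ T ≤ H ∧ H ≤ Subgroup.normalizer (T : Set G) ∧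
      ∀ A : Subgroup G, IsPGroup p A → A ≤ H → A ≤ T := by
  classical
  obtain ⟨T₀⟩ : Nonempty (Sylow p H) := inferInstance
  haveI hT₀n : (T₀ : Subgroup H).Normal := hH T₀
  refine ⟨(T₀ : Subgroup H).map H.subtype, T₀.2.map _, Subgroup.map_subtype_le _, ?_, ?_⟩
  · intro h hh
    rw [Subgroup.mem_normalizer_iff]
    intro g
    constructor
    · rintro ⟨u, hu, rfl⟩
      refine ⟨⟨h, hh⟩ * u * ⟨h, hh⟩⁻¹, hT₀n.conj_mem u hu _, ?_⟩
      simp
    · rintro ⟨u, hu, hue⟩
      refine ⟨⟨h, hh⟩⁻¹ * u * ⟨h, hh⟩, ?_, ?_⟩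
      · have := hT₀n.conj_mem u hu ⟨h, hh⟩⁻¹
        rw [inv_inv] at this
        exact this
      · have : H.subtype (⟨h, hh⟩⁻¹ * u * ⟨h, hh⟩) = h⁻¹ * (H.subtype u) * h := by simp
        rw [this, hue]; group
  · intro A hA hAH
    have hA' : IsPGroup p (A.subgroupOf H) := hA.comap_subtype
    have hle : A.subgroupOf H ≤ (T₀ : Subgroup H) := by
      have hsup : IsPGroup p ((A.subgroupOf H) ⊔ (T₀ : Subgroup H) : Subgroup H) :=
        hA'.to_sup_of_normal_right T₀.2
      have := T₀.3 hsup le_sup_right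
      rw [← this]
      exact le_sup_left
    intro a ha
    exact ⟨⟨a, hAH ha⟩, hle (by rw [Subgroup.mem_subgroupOf]; exact ha), rfl⟩

/-- Let G be a finite simple group whose Sylow p-subgroups are not normal but such that every proper subgroup of G has a normal Sylow p-subgroup. Then any two distinct Sylow p-subgroups of G intersect trivially, and for every Sylow p-subgroup P the normalizer of every non-identity subgroup of P lies in the normalizer of P. -/
theorem result {G : Type*} [Group G] [Finite G] [IsSimpleGroup G] {p : ℕ} [Fact p.Prime]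
    (hnc : ¬ Cfsg.IsPClosed p G) (hsub : ∀ H : Subgroup G, H ≠ ⊤ → Cfsg.IsPClosed p ↥H) :
    (∀ P Q : Sylow p G, P ≠ Q → (P : Subgroup G) ⊓ (Q : Subgroup G) = ⊥) ∧
      ∀ (P : Sylow p G) (R : Subgroup G), R ≤ P → R ≠ ⊥ →
        Subgroup.normalizer (R : Set G) ≤ Subgroup.normalizer ((P : Subgroup G) : Set G) := by
  classical
  -- L1 : normalizers of nontrivial p-subgroups are proper
  have L1 : ∀ R : Subgroup G, IsPGroup p R → R ≠ ⊥ → Subgroup.normalizer (R : Set G) ≠ ⊤ := by
    intro R hR hR1 htop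
    have hRn : R.Normal := Subgroup.normalizer_eq_top_iff.mp htop
    have hRtop : R = ⊤ := (hRn.eq_bot_or_eq_top).resolve_left hR1
    apply hnc
    intro P
    have : (P : Subgroup G) = ⊤ := by
      have hle : R ≤ (P : Subgroup G) := hR.le_sylow_of_normal P
      rw [hRtop] at hle
      exact top_le_iff.mp hle
    rw [this]
    infer_instance
  -- L2 : common Sylow
  have L2 : ∀ H : Subgroup G, H ≠ ⊤ → ∃ S : Sylow p G,
      (∀ A : Subgroup G, IsPGroup p A → A ≤ H → A ≤ (S : Subgroup G)) ∧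
      ∃ T : Subgroup G, T ≤ (S : Subgroup G) ∧ H ≤ Subgroup.normalizer (T : Set G) ∧
        ∀ A : Subgroup G, IsPGroup p A → A ≤ H → A ≤ T := by
    intro H hH
    obtain ⟨T, hTp, hTH, hTn, hT⟩ := common_sylow H (hsub H hH)
    obtain ⟨S, hS⟩ := hTp.exists_le_sylow
    exact ⟨S, fun A hA hAH => (hT A hA hAH).trans hS, T, hS, hTn, hT⟩
  -- TI
  have TI : ∀ P Q : Sylow p G, P ≠ Q → (P : Subgroup G) ⊓ (Q : Subgroup G) = ⊥ := by
    by_contra hcon
    push Not at hcon
    obtain ⟨P₀, Q₀, hPQ₀, hD₀⟩ := hcon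
    let α := {PQ : Sylow p G × Sylow p G // PQ.1 ≠ PQ.2}
    haveI : Nonempty α := ⟨⟨(P₀, Q₀), hPQ₀⟩⟩
    obtain ⟨⟨⟨P, Q⟩, hPQ⟩, hmax⟩ := Finite.exists_max
      (fun PQ : α => Nat.card ((PQ.1.1 : Subgroup G) ⊓ (PQ.1.2 : Subgroup G) : Subgroup G))
    simp only at hPQ
    set D : Subgroup G := (P : Subgroup G) ⊓ (Q : Subgroup G) with hD
    have hmax' : ∀ P' Q' : Sylow p G, P' ≠ Q' →
        Nat.card ((P' : Subgroup G) ⊓ (Q' : Subgroup G) : Subgroup G) ≤ Nat.card D :=
      fun P' Q' h => hmax ⟨(P', Q'), h⟩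
    have hDne : D ≠ ⊥ := by
      intro h
      have h1 := hmax' P₀ Q₀ hPQ₀
      rw [h, Subgroup.card_bot] at h1
      have : ((P₀ : Subgroup G) ⊓ (Q₀ : Subgroup G)) = ⊥ :=
        (Subgroup.card_le_one_iff_eq_bot _).mp h1
      exact hD₀ this
    have hDp : IsPGroup p D := P.2.to_le inf_le_left
    have hH : Subgroup.normalizer (D : Set G) ≠ ⊤ := L1 D hDp hDne
    obtain ⟨S, hS, -⟩ := L2 _ hH
    -- key: for a Sylow P' with D ≤ P', D ≠ P': P' ⊓ N(D) > D
    have grow : ∀ P' : Sylow p G, D ≤ (P' : Subgroup G) → D ≠ (P' : Subgroup G) →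
        ∃ y, y ∈ (P' : Subgroup G) ∧ y ∈ Subgroup.normalizer (D : Set G) ∧ y ∉ D := by
      intro P' hDP hne
      haveI : Group.IsNilpotent (P' : Subgroup G) := P'.2.isNilpotent
      have hnc' := Group.normalizerCondition_of_isNilpotent (G := (P' : Subgroup G))
      have hlt : D.subgroupOf (P' : Subgroup G) < ⊤ := by
        rw [lt_top_iff_ne_top, Ne, Subgroup.subgroupOf_eq_top]
        intro hle
        exact hne (le_antisymm hDP hle)
      have h2 := hnc' _ hlt
      rw [← Subgroup.subgroupOf_normalizer_eq hDP] at h2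
      obtain ⟨y, hyN, hyD⟩ := SetLike.exists_of_lt h2
      rw [Subgroup.mem_subgroupOf] at hyN hyD
      exact ⟨y, y.2, hyN, hyD⟩
    have hsame : ∀ P' : Sylow p G, D ≤ (P' : Subgroup G) → D ≠ (P' : Subgroup G) → S = P' := by
      intro P' hDP hne
      by_contra hSP
      obtain ⟨y, hyP, hyN, hyD⟩ := grow P' hDP hne
      have hA : (P' : Subgroup G) ⊓ Subgroup.normalizer (D : Set G) ≤ (S : Subgroup G) :=
        hS _ (P'.2.to_le inf_le_left) inf_le_right
      have hDle : D ≤ (S : Subgroup G) ⊓ (P' : Subgroup G) := by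
        refine le_inf ?_ hDP
        exact (le_inf hDP Subgroup.le_normalizer).trans hA
      have hy : y ∈ (S : Subgroup G) ⊓ (P' : Subgroup G) := ⟨hA ⟨hyP, hyN⟩, hyP⟩
      have hlt : D < (S : Subgroup G) ⊓ (P' : Subgroup G) :=
        lt_of_le_of_ne hDle (fun h => hyD (h ▸ hy))
      have h1 := hmax' S P' hSP
      have h2 : Nat.card D < Nat.card ((S : Subgroup G) ⊓ (P' : Subgroup G) : Subgroup G) := by
        by_contra h3
        push Not at h3
        exact hlt.ne (Subgroup.eq_of_le_of_card_ge hlt.le h3)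
      omega
    have hDP : D ≠ (P : Subgroup G) := by
      intro h
      have hle : (P : Subgroup G) ≤ (Q : Subgroup G) := h ▸ inf_le_right
      exact hPQ (Sylow.ext (P.3 Q.2 hle)).symm
    have hDQ : D ≠ (Q : Subgroup G) := by
      intro h
      have hle : (Q : Subgroup G) ≤ (P : Subgroup G) := h ▸ inf_le_left
      exact hPQ (Sylow.ext (Q.3 P.2 hle))
    exact hPQ ((hsame P inf_le_left hDP).symm.trans (hsame Q inf_le_right hDQ))
  refine ⟨TI, ?_⟩
  intro P R hRP hR1 g hg
  have hRp : IsPGroup p R := P.2.to_le hRP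
  have hH := L1 R hRp hR1
  obtain ⟨S, hS, T, hTS, hTn, hT⟩ := L2 _ hH
  have hRT : R ≤ T := hT R hRp Subgroup.le_normalizer
  have hSP : S = P := by
    by_contra hne
    have := TI S P hne
    have hR : R ≤ (S : Subgroup G) ⊓ (P : Subgroup G) := le_inf (hRT.trans hTS) hRP
    rw [this] at hR
    exact hR1 (le_bot_iff.mp hR)
  subst hSP
  -- g • S = S
  have hgS : g • S = S := by
    by_contra hne
    have h1 := TI (g • S) S hne
    have hgT : T ≤ ((g • S : Sylow p G) : Subgroup G) := by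
      intro u hu
      have hgN : g ∈ Subgroup.normalizer (T : Set G) := hTn hg
      rw [Sylow.coe_subgroup_smul, Subgroup.mem_pointwise_smul_iff_inv_smul_mem]
      have : g⁻¹ * u * g⁻¹⁻¹ ∈ T := by
        have hinv : g⁻¹ ∈ Subgroup.normalizer (T : Set G) := Subgroup.inv_mem _ hgN
        exact (Subgroup.mem_normalizer_iff.mp hinv u).mp hu
      have h2 : (MulAut.conj g)⁻¹ • u = g⁻¹ * u * g⁻¹⁻¹ := by
        simp [MulAut.smul_def]
      rw [h2]
      exact hTS this
    have hR : R ≤ ((g • S : Sylow p G) : Subgroup G) ⊓ (S : Subgroup G) :=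
      le_inf (hRT.trans hgT) hRP
    rw [h1] at hR
    exact hR1 (le_bot_iff.mp hR)
  exact Sylow.smul_eq_iff_mem_normalizer.mp hgS

end Cfsg.Agent.S3870
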