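import Cfsg.Statements.S3872
import Cfsg.Agent.Lib.Helper9.PGroupMisc
import Cfsg.Agent.Lib.Helper20.HallPetrescu
import Cfsg.Agent.Lib.Helper22.Regular

set_option autoImplicit false
open Cfsg

namespace Cfsg.Agent.S3872

/-- Say that a finite group is p-exponent closed when its elements of order dividing p form a subgroup. Let G be a finite p-group that is not p-exponent closed, but all of whose proper subgroups and proper quotients are. Then G is generated by two elements, has nilpotency class at least p, has exponent p², has cyclic center, and has order at least p^(p+1). -/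
theorem result {G : Type*} [Group G] [Finite G] {p : ℕ} [Fact p.Prime] (hG : IsPGroup p G)
    (hnc : ¬ (∃ H : Subgroup G, (H : Set G) = {g : G | g ^ p = 1})) (hsub : ∀ K : Subgroup G, K ≠ ⊤ → (∃ H : Subgroup ↥K, (H : Set ↥K) = {g : ↥K | g ^ p = 1}))
    (hquo : ∀ (N : Subgroup G) [N.Normal], N ≠ ⊥ → (∃ H : Subgroup (G ⧸ N), (H : Set (G ⧸ N)) = {g : (G ⧸ N) | g ^ p = 1})) :
    (∃ x y : G, Subgroup.closure ({x, y} : Set G) = ⊤) ∧ (⊤ : Subgroup G).lowerCentralSeries (p - 1) ≠ ⊥ ∧
      Monoid.exponent G = p ^ 2 ∧ IsCyclic ↥(Subgroup.center G) ∧ p ^ (p + 1) ≤ Nat.card G := by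
  classical
  have hp : p.Prime := Fact.out
  -- two elements of order dividing `p` whose product is not
  have hxy : ∃ x y : G, x ^ p = 1 ∧ y ^ p = 1 ∧ (x * y) ^ p ≠ 1 := by
    by_contra hcon
    push Not at hcon
    apply hnc
    exact ⟨{ carrier := {g | g ^ p = 1}
             mul_mem' := fun {a b} ha hb => hcon a b ha hb
             one_mem' := one_pow p
             inv_mem' := fun {a} ha => by
               simp only [Set.mem_ofPred_eq] at ha ⊢
               rw [inv_pow, ha, inv_one] }, rfl⟩
  obtain ⟨x, y, hx, hy, hxy⟩ := hxy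
  -- they generate `G`
  have hgen : Subgroup.closure ({x, y} : Set G) = ⊤ := by
    by_contra hK
    obtain ⟨H, hH⟩ := hsub _ hK
    have hxK : x ∈ Subgroup.closure ({x, y} : Set G) := Subgroup.subset_closure (by simp)
    have hyK : y ∈ Subgroup.closure ({x, y} : Set G) := Subgroup.subset_closure (by simp)
    have h1 : (⟨x, hxK⟩ : Subgroup.closure ({x, y} : Set G)) ∈ H := by
      rw [← SetLike.mem_coe, hH]
      exact Subtype.ext (by simpa using hx)
    have h2 : (⟨y, hyK⟩ : Subgroup.closure ({x, y} : Set G)) ∈ H := by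
      rw [← SetLike.mem_coe, hH]
      exact Subtype.ext (by simpa using hy)
    have h3 := mul_mem h1 h2
    rw [← SetLike.mem_coe, hH] at h3
    apply hxy
    have h4 := congrArg Subtype.val h3
    simpa using h4
  -- `p`-th powers lie in every nontrivial normal subgroup
  have hpow : ∀ (N : Subgroup G) [N.Normal], N ≠ ⊥ → ∀ g : G, g ^ p ∈ N := by
    intro N _ hN g
    obtain ⟨H, hH⟩ := hquo N hN
    have h1 : (QuotientGroup.mk' N x) ∈ H := by
      rw [← SetLike.mem_coe, hH]
      show _ ^ p = 1
      rw [← map_pow, hx, map_one]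
    have h2 : (QuotientGroup.mk' N y) ∈ H := by
      rw [← SetLike.mem_coe, hH]
      show _ ^ p = 1
      rw [← map_pow, hy, map_one]
    have h3 : H = ⊤ := by
      rw [eq_top_iff, ← MonoidHom.range_eq_top.mpr (QuotientGroup.mk'_surjective N),
        MonoidHom.range_eq_map, ← hgen, MonoidHom.map_closure, Subgroup.closure_le]
      rintro z ⟨w, hw, rfl⟩
      rcases hw with rfl | rfl
      exacts [h1, h2]
    have h4 : QuotientGroup.mk' N g ∈ H := h3 ▸ Subgroup.mem_top _
    rw [← SetLike.mem_coe, hH] at h4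
    have h5 : QuotientGroup.mk' N (g ^ p) = 1 := by rw [map_pow]; exact h4
    exact (QuotientGroup.eq_one_iff _).mp h5
  have hnt : Nontrivial G := ⟨⟨x * y, 1, fun h => hxy (by rw [h, one_pow])⟩⟩
  -- a central element of order `p`
  have hZ : IsPGroup p (Subgroup.center G) := hG.to_subgroup _
  obtain ⟨z, hz⟩ : ∃ z : Subgroup.center G, orderOf z = p := by
    have := hG.center_nontrivial
    obtain ⟨k, hk0, hk⟩ := hZ.nontrivial_iff_card.mp inferInstance
    exact exists_prime_orderOf_dvd_card' p (by rw [hk]; exact dvd_pow_self p hk0.ne')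
  -- facts on the subgroup generated by a central element of order `p`
  have hcent : ∀ u : Subgroup.center G, orderOf u = p →
      (Subgroup.zpowers (u : G)).Normal ∧ Subgroup.zpowers (u : G) ≠ ⊥ ∧
        ∀ w ∈ Subgroup.zpowers (u : G), w ^ p = 1 := by
    intro u hu
    have hu' : orderOf (u : G) = p := by rw [Subgroup.orderOf_coe, hu]
    refine ⟨Cfsg.Agent.Lib.Helper9.PGroupMisc.normal_of_le_center'
      (Subgroup.zpowers_le_of_mem u.2), ?_, ?_⟩
    · rw [Ne, Subgroup.zpowers_eq_bot]
      intro h1
      rw [h1, orderOf_one] at hu'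
      exact hp.one_lt.ne hu'
    · intro w hw
      obtain ⟨k, rfl⟩ := Subgroup.mem_zpowers_iff.mp hw
      rw [← zpow_natCast, ← zpow_mul, mul_comm, zpow_mul, zpow_natCast, ← hu', pow_orderOf_eq_one,
        one_zpow]
  -- exponent
  have hexp : Monoid.exponent G = p ^ 2 := by
    obtain ⟨hzn, hzb, hzp⟩ := hcent z hz
    have h1 : Monoid.exponent G ∣ p ^ 2 := by
      apply Monoid.exponent_dvd_of_forall_pow_eq_one
      intro g
      rw [pow_two, pow_mul]
      exact hzp _ (hpow _ hzb g)
    obtain ⟨k, hk2, hk⟩ := (Nat.dvd_prime_pow hp).mp h1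
    interval_cases k
    · exfalso
      rw [pow_zero, Monoid.exp_eq_one_iff] at hk
      exact not_nontrivial_iff_subsingleton.mpr hk hnt
    · exfalso
      apply hxy
      rw [pow_one] at hk
      rw [← hk]
      exact Monoid.pow_exponent_eq_one _
    · exact hk
  refine ⟨⟨x, y, hgen⟩, ?_, hexp, ?_, ?_⟩
  · -- class at least `p`
    intro hcl
    have hreg : Cfsg.IsRegularPGroup p G :=
      ⟨hG, fun a b n => Cfsg.Agent.Lib.Helper20.HP.regular_aux hcl a b n⟩
    have h1 := Cfsg.Agent.Lib.Helper22.regular_mul_pow_eq_one hreg 1 x y (by rwa [pow_one])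
      (by rwa [pow_one])
    rw [pow_one] at h1
    exact hxy h1
  · -- cyclic center
    letI instC : CommGroup (Subgroup.center G) :=
      { (inferInstance : Group (Subgroup.center G)) with mul_comm := fun a b => mul_comm' a b }
    refine @Cfsg.Agent.Lib.Helper9.PGroupMisc.isCyclic_of_comm_of_unique_order_p
      (Subgroup.center G) instC inferInstance p _ hZ ?_
    intro u v hu hv
    obtain ⟨hun, hub, hup⟩ := hcent u hu
    obtain ⟨hvn, hvb, hvp⟩ := hcent v hv
    have hu' : orderOf (u : G) = p := by rw [Subgroup.orderOf_coe, hu]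
    have hv' : orderOf (v : G) = p := by rw [Subgroup.orderOf_coe, hv]
    set w : G := (x * y) ^ p with hw
    have hwu : w ∈ Subgroup.zpowers (u : G) := hpow _ hub _
    have hwv : w ∈ Subgroup.zpowers (v : G) := hpow _ hvb _
    have how : orderOf w = p := orderOf_eq_prime (hup w hwu) hxy
    have e1 : Subgroup.zpowers w = Subgroup.zpowers (u : G) :=
      Subgroup.eq_of_le_of_card_ge (Subgroup.zpowers_le_of_mem hwu)
        (by rw [Nat.card_zpowers, Nat.card_zpowers, how, hu'])
    have e2 : Subgroup.zpowers w = Subgroup.zpowers (v : G) :=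
      Subgroup.eq_of_le_of_card_ge (Subgroup.zpowers_le_of_mem hwv)
        (by rw [Nat.card_zpowers, Nat.card_zpowers, how, hv'])
    have h3 : (v : G) ∈ Subgroup.zpowers (u : G) := by
      rw [← e1, e2]; exact Subgroup.mem_zpowers _
    obtain ⟨k, hk⟩ := Subgroup.mem_zpowers_iff.mp h3
    exact Subgroup.mem_zpowers_iff.mpr ⟨k, Subtype.ext (by simpa using hk)⟩
  · -- order
    have hp2 : 2 ≤ p := hp.two_le
    have e1 : p - 2 + 1 = p - 1 := by omega
    have e2 : p - 2 + 3 = p + 1 := by omega
    have hcl : (⊤ : Subgroup G).lowerCentralSeries (p - 2 + 1) ≠ ⊥ := by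
      rw [e1]
      intro hcl
      have hreg : Cfsg.IsRegularPGroup p G :=
        ⟨hG, fun a b n => Cfsg.Agent.Lib.Helper20.HP.regular_aux hcl a b n⟩
      have h1 := Cfsg.Agent.Lib.Helper22.regular_mul_pow_eq_one hreg 1 x y (by rwa [pow_one])
        (by rwa [pow_one])
      rw [pow_one] at h1
      exact hxy h1
    have h1 := Cfsg.Agent.Lib.Helper9.PGroupMisc.pow_le_card_of_lowerCentralSeries_ne_bot
      (p - 2) hG hcl
    rwa [e2] at h1

end Cfsg.Agent.S3872
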