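import Cfsg.Statements.S3881
import Mathlib
import Cfsg.Agent.Lib.Helper21.Metacyclic2
-- import your own Cfsg.Agent.* helpers here

set_option autoImplicit false
open Cfsg

namespace Cfsg.Agent.S3881

open Subgroup Cfsg.Agent.Lib.Helper21.Metacyclic

/-- Let p be an odd prime and G a finite metacyclic p-group (G has a cyclic normal subgroup with cyclic quotient). Suppose G is non-abelian with |G'| = p^n. Then for 1 ≤ i ≤ n the number of elements of G whose conjugacy class has exactly p^i elements is |Z(G)| · (p^(2i) − p^(2i−2)). -/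
theorem result {G : Type*} [Group G] [Finite G] {p : ℕ} [Fact p.Prime] (hp : p ≠ 2) (hG : IsPGroup p G) (hmc : Cfsg.IsMetacyclic G) (n : ℕ) (hn : n ≠ 0) (hGn : Nat.card ↥(commutator G) = p ^ n) (i : ℕ) (hi : 1 ≤ i) (hin : i ≤ n) :
    Nat.card {g : G // (Subgroup.centralizer ({g} : Set G)).index = p ^ i} =
      Nat.card ↥(Subgroup.center G) * (p ^ (2 * i) - p ^ (2 * i - 2)) := by
  have hpp : p.Prime := Fact.out
  obtain ⟨P⟩ := exists_pres hG hmc
  have hc : orderOf P.c = p ^ n := by rw [← P.card_commutator hp, hGn]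
  -- index is a power of p
  have hidx : ∀ g : G, ∃ k : ℕ, (Subgroup.centralizer ({g} : Set G)).index = p ^ k := by
    intro g
    obtain ⟨m, hm⟩ := IsPGroup.iff_card.mp hG
    have h1 : (Subgroup.centralizer ({g} : Set G)).index ∣ p ^ m := by
      rw [← hm]; exact Subgroup.index_dvd_card _
    obtain ⟨k, -, hk⟩ := (Nat.dvd_prime_pow hpp).mp h1
    exact ⟨k, hk⟩
  have hset : {g : G | (Subgroup.centralizer ({g} : Set G)).index = p ^ i} =
      (P.Gs (n - i) : Set G) \ (P.Gs (n - i + 1) : Set G) := by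
    ext g
    simp only [Set.mem_ofPred_eq, Set.mem_sdiff, SetLike.mem_coe]
    rw [P.mem_Gs_iff_index hp hc (n - i) (Nat.sub_le _ _) g,
      P.mem_Gs_iff_index hp hc (n - i + 1) (by omega) g]
    have e1 : n - (n - i) = i := by omega
    have e2 : n - (n - i + 1) = i - 1 := by omega
    rw [e1, e2]
    obtain ⟨k, hk⟩ := hidx g
    rw [hk, Nat.pow_le_pow_iff_right hpp.one_lt, Nat.pow_le_pow_iff_right hpp.one_lt]
    constructor
    · intro h
      have := Nat.pow_right_injective hpp.two_le h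
      omega
    · rintro ⟨h1, h2⟩
      have : k = i := by omega
      rw [this]
  have hle : (P.Gs (n - i + 1) : Set G) ⊆ (P.Gs (n - i) : Set G) := by
    intro g hg
    rw [SetLike.mem_coe, P.mem_Gs_iff] at hg ⊢
    obtain ⟨a, b, ha, hb, rfl⟩ := hg
    exact ⟨a, b, (pow_dvd_pow p (Nat.le_succ _)).trans ha, (pow_dvd_pow p (Nat.le_succ _)).trans hb, rfl⟩
  have hcardset : Nat.card {g : G // (Subgroup.centralizer ({g} : Set G)).index = p ^ i} =
      ({g : G | (Subgroup.centralizer ({g} : Set G)).index = p ^ i}).ncard :=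
    Nat.card_coe_set_eq _
  rw [hcardset, hset, Set.ncard_sdiff hle (Set.toFinite _)]
  have hcard : ∀ H : Subgroup G, (H : Set G).ncard = Nat.card H := fun H =>
    (Nat.card_coe_set_eq (H : Set G)).symm
  rw [hcard, hcard]
  -- cardinalities
  have hZ := P.card_Gs hp hc hG n le_rfl
  rw [P.Gs_eq_center hp hc] at hZ
  have h1 := P.card_Gs hp hc hG (n - i) (Nat.sub_le _ _)
  have h2 := P.card_Gs hp hc hG (n - i + 1) (by omega)
  have hppos : ∀ k, 0 < p ^ k := fun k => pow_pos hpp.pos k
  have c1 : Nat.card (P.Gs (n - i)) = Nat.card (Subgroup.center G) * p ^ (2 * i) := by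
    apply Nat.eq_of_mul_eq_mul_right (hppos (2 * (n - i)))
    rw [h1, ← hZ, mul_assoc, ← pow_add]
    congr 2; omega
  have c2 : Nat.card (P.Gs (n - i + 1)) = Nat.card (Subgroup.center G) * p ^ (2 * i - 2) := by
    apply Nat.eq_of_mul_eq_mul_right (hppos (2 * (n - i + 1)))
    rw [h2, ← hZ, mul_assoc, ← pow_add]
    congr 2; omega
  rw [c1, c2, Nat.mul_sub]

end Cfsg.Agent.S3881
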