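import Cfsg.Statements.S3883
import Mathlib
import Cfsg.Agent.Lib.Helper21.Metacyclic3
-- import your own Cfsg.Agent.* helpers here

set_option autoImplicit false
open Cfsg

namespace Cfsg.Agent.S3883

open Subgroup Cfsg.Agent.Lib.Helper21.Metacyclic
open scoped commutatorElement

/-- Let p be an odd prime and G a finite metacyclic p-group (G has a cyclic normal subgroup with cyclic quotient). Suppose G is non-abelian. Then an element g of G lies outside the Frattini subgroup if and only if its centralizer C_G(g) is abelian. -/
theorem result {G : Type*} [Group G] [Finite G] {p : ℕ} [Fact p.Prime] (hp : p ≠ 2) (hG : IsPGroup p G) (hmc : Cfsg.IsMetacyclic G) (hna : ¬ IsMulCommutative G) (g : G) :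
    g ∉ frattini G ↔ IsMulCommutative ↥(Subgroup.centralizer ({g} : Set G)) := by
  obtain ⟨P⟩ := exists_pres hG hmc
  obtain ⟨n, hn, -⟩ := P.orderOf_c_eq_pow
  have hn1 : 1 ≤ n := by
    by_contra h
    have h0 : n = 0 := by omega
    rw [h0, pow_zero, orderOf_eq_one_iff] at hn
    apply hna
    have h2 : commutator G = ⊥ := by rw [P.commutator_eq hp, hn, zpowers_one_eq_bot]
    refine ⟨⟨fun x y => ?_⟩⟩
    have h3 : ⁅x, y⁆ ∈ commutator G := by
      rw [commutator_def]
      exact Subgroup.commutator_mem_commutator (mem_top x) (mem_top y)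
    rw [h2, mem_bot, commutatorElement_eq_one_iff_commute] at h3
    exact h3.eq
  rw [P.frattini_eq_Gs_one hp hn hn1 hG]
  constructor
  · exact fun hg => P.isMulCommutative_centralizer hg
  · intro hcomm hg
    by_cases hgz : g ∈ center G
    · apply hna
      refine ⟨⟨fun x y => ?_⟩⟩
      have hx : x ∈ centralizer ({g} : Set G) :=
        mem_centralizer_singleton_iff.mpr (Subgroup.mem_center_iff.mp hgz x)
      have hy : y ∈ centralizer ({g} : Set G) :=
        mem_centralizer_singleton_iff.mpr (Subgroup.mem_center_iff.mp hgz y)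
      have := hcomm.is_comm.comm (⟨x, hx⟩ : centralizer ({g} : Set G)) ⟨y, hy⟩
      exact congrArg Subtype.val this
    · obtain ⟨h, hhg, hlt⟩ := P.exists_commute_larger_class hp hg hgz
      have hh : h ∈ centralizer ({g} : Set G) := mem_centralizer_singleton_iff.mpr hhg.eq
      have hle : centralizer ({g} : Set G) ≤ centralizer ({h} : Set G) := by
        intro w hw
        have := hcomm.is_comm.comm (⟨w, hw⟩ : centralizer ({g} : Set G)) ⟨h, hh⟩
        rw [mem_centralizer_singleton_iff]
        exact congrArg Subtype.val this
      have h1 := Subgroup.index_dvd_of_le hle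
      have h2 := Nat.le_of_dvd (Nat.pos_of_ne_zero Subgroup.index_ne_zero_of_finite) h1
      omega

end Cfsg.Agent.S3883
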