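import Cfsg.Statements.S3885
import Mathlib
import Cfsg.Agent.Lib.Helper21.Metacyclic5
-- import your own Cfsg.Agent.* helpers here

set_option autoImplicit false
open Cfsg

namespace Cfsg.Agent.S3885

open Cfsg.Agent.Lib.Helper21.Metacyclic Subgroup

/-- Let p be an odd prime and G a finite metacyclic p-group (G has a cyclic normal subgroup with cyclic quotient). Then every abelian subgroup K of G containing the center of G is the center of its own centralizer: K = Z(C_G(K)). -/
theorem result {G : Type*} [Group G] [Finite G] {p : ℕ} [Fact p.Prime] (hp : p ≠ 2) (hG : IsPGroup p G) (hmc : Cfsg.IsMetacyclic G) (K : Subgroup G) (hK : IsMulCommutative ↥K) (hZ : Subgroup.center G ≤ K) :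
    K = Subgroup.centralizer (K : Set G) ⊓ Subgroup.centralizer (Subgroup.centralizer (K : Set G) : Set G) := by
  set C := centralizer (K : Set G) with hC
  have hKC : K ≤ C := by
    intro x hx
    rw [hC, mem_centralizer_iff]
    intro y hy
    exact (isMulCommutative_iff_forall_mem K).mp hK y hy x hx
  have hKCC : K ≤ centralizer (C : Set G) := by
    intro x hx
    rw [mem_centralizer_iff]
    intro y hy
    exact ((mem_centralizer_iff.mp hy) x hx).symm
  have h1 := card_mul_card_centralizer hp hG hmc K hZ
  have h2 := card_mul_card_centralizer hp hG hmc C (hZ.trans hKC)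
  rw [← h1, ← hC, mul_comm] at h2
  have h3 : Nat.card ↥(centralizer (C : Set G)) = Nat.card ↥K :=
    Nat.eq_of_mul_eq_mul_right Nat.card_pos h2
  have h4 : K = centralizer (C : Set G) := Subgroup.eq_of_le_of_card_ge hKCC h3.le
  rw [← h4]
  exact (inf_eq_right.mpr hKC).symm

end Cfsg.Agent.S3885
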