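import Cfsg.Statements.S3887
import Mathlib
import Cfsg.Agent.Lib.Helper21.Metacyclic5
-- import your own Cfsg.Agent.* helpers here

set_option autoImplicit false
open Cfsg

namespace Cfsg.Agent.S3887

open Cfsg.Agent.Lib.Helper21.Metacyclic Subgroup

/-- Let p be an odd prime and G a finite metacyclic p-group (G has a cyclic normal subgroup with cyclic quotient). Then a subgroup R of G maximizes |R| · |C_G(R)| over all subgroups of G if and only if R contains the center of G. -/
theorem result {G : Type*} [Group G] [Finite G] {p : ℕ} [Fact p.Prime] (hp : p ≠ 2) (hG : IsPGroup p G) (hmc : Cfsg.IsMetacyclic G) (R : Subgroup G) : Cfsg.IsCentralizerLarge R ↔ Subgroup.center G ≤ R := by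
  have hU := measure_le_aux hp (Nat.card G) G rfl hG hmc
  have hmax : Cfsg.maxCentralizerProduct G = Nat.card G * Nat.card (center G) := by
    unfold Cfsg.maxCentralizerProduct
    apply IsGreatest.csSup_eq
    constructor
    · refine ⟨⊤, ?_⟩
      rw [card_top, Subgroup.coe_top, Subgroup.centralizer_univ]
    · rintro k ⟨R', rfl⟩
      exact hU R'
  unfold Cfsg.IsCentralizerLarge
  rw [hmax]
  constructor
  · intro h
    set R₁ := R ⊔ center G with hR₁
    have hC : centralizer (R : Set G) ≤ centralizer (R₁ : Set G) := by
      intro x hx
      rw [mem_centralizer_iff]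
      intro y hy
      have hle : R₁ ≤ centralizer ({x} : Set G) := by
        apply sup_le
        · intro r hr; rw [mem_centralizer_singleton_iff]
          exact (mem_centralizer_iff.mp hx r hr)
        · intro c hc; rw [mem_centralizer_singleton_iff]
          exact (Subgroup.mem_center_iff.mp hc x).symm
      exact (mem_centralizer_singleton_iff.mp (hle hy))
    have h1 := hU R₁
    rw [← h] at h1
    have h2 : Nat.card ↥R₁ * Nat.card ↥(centralizer (R : Set G)) ≤
        Nat.card ↥R * Nat.card ↥(centralizer (R : Set G)) :=
      (Nat.mul_le_mul_left _ (Subgroup.card_le_of_le hC)).trans h1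
    have h3 : Nat.card ↥R₁ ≤ Nat.card ↥R := Nat.le_of_mul_le_mul_right h2 Nat.card_pos
    have h4 : R = R₁ := Subgroup.eq_of_le_of_card_ge le_sup_left h3
    rw [h4]
    exact le_sup_right
  · intro h
    exact card_mul_card_centralizer hp hG hmc R h

end Cfsg.Agent.S3887
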