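import Cfsg.Statements.S3889
-- import your own Cfsg.Agent.* helpers here

set_option autoImplicit false
open Cfsg

namespace Cfsg.Agent.S3889

/-- A finite abelian group that is the union of a family of proper subgroups any two of which intersect trivially is elementary abelian: its exponent is a prime. -/
theorem result {G : Type*} [CommGroup G] [Finite G] (𝓑 : Set (Subgroup G)) (hprop : ∀ B ∈ 𝓑, B ≠ ⊤)
    (hcov : ∀ g : G, ∃ B ∈ 𝓑, g ∈ B) (hdisj : ∀ B ∈ 𝓑, ∀ C ∈ 𝓑, B ≠ C → B ⊓ C = ⊥) :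
    (Monoid.exponent G).Prime := by
  classical
  -- Step 1: elements of different components have orders dividing each other
  have hdvd : ∀ A ∈ 𝓑, ∀ B ∈ 𝓑, A ≠ B → ∀ a ∈ A, ∀ b ∈ B, a ≠ 1 → b ≠ 1 →
      orderOf b ∣ orderOf a := by
    intro A hA B hB hAB a ha b hb ha1 hb1
    obtain ⟨C, hC, habC⟩ := hcov (a * b)
    have hCB : B ≠ C := by
      rintro rfl
      have : a ∈ B := by
        have := B.mul_mem habC (B.inv_mem hb)
        simpa using this
      have h2 : a ∈ A ⊓ B := ⟨ha, this⟩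
      rw [hdisj A hA B hB hAB] at h2
      exact ha1 (Subgroup.mem_bot.mp h2)
    have h3 : b ^ orderOf a ∈ C := by
      have := C.pow_mem habC (orderOf a)
      rwa [mul_pow, pow_orderOf_eq_one, one_mul] at this
    have h4 : b ^ orderOf a ∈ B ⊓ C := ⟨B.pow_mem hb _, h3⟩
    rw [hdisj B hB C hC hCB] at h4
    exact orderOf_dvd_of_pow_eq_one (Subgroup.mem_bot.mp h4)
  have heq : ∀ A ∈ 𝓑, ∀ B ∈ 𝓑, A ≠ B → ∀ a ∈ A, ∀ b ∈ B, a ≠ 1 → b ≠ 1 →
      orderOf a = orderOf b := by
    intro A hA B hB hAB a ha b hb ha1 hb1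
    exact Nat.dvd_antisymm (hdvd B hB A hA (Ne.symm hAB) b hb a ha hb1 ha1)
      (hdvd A hA B hB hAB a ha b hb ha1 hb1)
  -- every component has an outside nonidentity element in another component
  have hout : ∀ A ∈ 𝓑, ∃ B ∈ 𝓑, A ≠ B ∧ ∃ g ∈ B, g ≠ 1 := by
    intro A hA
    have : ∃ g : G, g ∉ A := by
      by_contra hcon
      push Not at hcon
      exact hprop A hA (Subgroup.eq_top_iff' A |>.mpr hcon)
    obtain ⟨g, hg⟩ := this
    obtain ⟨B, hB, hgB⟩ := hcov g
    refine ⟨B, hB, ?_, g, hgB, ?_⟩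
    · rintro rfl; exact hg hgB
    · rintro rfl; exact hg A.one_mem
  -- all nonidentity elements have the same order
  have hsame : ∀ a a' : G, a ≠ 1 → a' ≠ 1 → orderOf a = orderOf a' := by
    intro a a' ha1 ha'1
    obtain ⟨A, hA, haA⟩ := hcov a
    obtain ⟨A', hA', haA'⟩ := hcov a'
    by_cases hAA : A = A'
    · subst hAA
      obtain ⟨B, hB, hAB, g, hgB, hg1⟩ := hout A hA
      rw [heq A hA B hB hAB a haA g hgB ha1 hg1, heq A hA B hB hAB a' haA' g hgB ha'1 hg1]
    · exact heq A hA A' hA' hAA a haA a' haA' ha1 ha'1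
  -- G is nontrivial
  obtain ⟨B0, hB0, -⟩ := hcov 1
  obtain ⟨B1, -, -, g0, -, hg0⟩ := hout B0 hB0
  haveI : Nontrivial G := ⟨⟨g0, 1, hg0⟩⟩
  -- the common order is prime
  have hn1 : orderOf g0 ≠ 1 := by
    rw [Ne, orderOf_eq_one_iff]; exact hg0
  have hprime : (orderOf g0).Prime := by
    by_contra hnp
    obtain ⟨q, hq, hqd⟩ := Nat.exists_prime_and_dvd hn1
    have hpos : 0 < orderOf g0 := orderOf_pos g0
    have hqlt : q < orderOf g0 := by
      rcases (Nat.le_of_dvd hpos hqd).lt_or_eq with h | h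
      · exact h
      · exact absurd (h ▸ hq) hnp
    have hne : g0 ^ q ≠ 1 := by
      intro h
      exact absurd (Nat.le_of_dvd hq.pos (orderOf_dvd_of_pow_eq_one h)) (not_le.mpr hqlt)
    have h5 := hsame (g0 ^ q) g0 hne hg0
    rw [orderOf_pow' g0 hq.ne_zero, Nat.gcd_eq_right hqd] at h5
    have h6 : orderOf g0 / q < orderOf g0 := Nat.div_lt_self hpos hq.one_lt
    omega
  rw [(Monoid.exponent_eq_prime_iff hprime).mpr (fun g hg => hsame g g0 hg hg0)]
  exact hprime

end Cfsg.Agent.S3889
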