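import Cfsg.Statements.S3890
import Cfsg.Agent.Lib.Helper27.NilpCover

set_option autoImplicit false
open Cfsg

namespace Cfsg.Agent.S3890

/-- A cover of a group is a finite set of proper subgroups whose union is the whole group; it is minimal when no cover has fewer members, and nilpotent when all its members are nilpotent. Let G be a finite group with trivial center admitting a nilpotent minimal cover 𝓐, and let P be an abelian Sylow p-subgroup of G that is not normal. Then either P is elementary abelian of order greater than p, or P is a Sylow p-subgroup of some member A of 𝓐, the normalizer N of P is a maximal subgroup of G, N meets each of its conjugates by elements outside N in a subgroup of order prime to p, and the centralizer of P equals A. -/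
theorem result {G : Type*} [Group G] [Finite G] (hZ : Subgroup.center G = ⊥) (𝓐 : Finset (Subgroup G))
    (h𝓐 : ((∀ A ∈ 𝓐, A ≠ ⊤) ∧ (∀ g : G, ∃ A ∈ 𝓐, g ∈ A)) ∧ (∀ 𝓑 : Finset (Subgroup G), (∀ A ∈ 𝓑, A ≠ ⊤) ∧ (∀ g : G, ∃ A ∈ 𝓑, g ∈ A) → 𝓐.card ≤ 𝓑.card) ∧ (∀ A ∈ 𝓐, Group.IsNilpotent ↥A)) {p : ℕ} [Fact p.Prime] (P : Sylow p G) (hab : IsMulCommutative ↥(P : Subgroup G))
    (hnn : ¬ (P : Subgroup G).Normal) :
    (Cfsg.IsElementaryAbelian p (P : Subgroup G) ∧ p < Nat.card ↥(P : Subgroup G)) ∨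
    (∃ A ∈ 𝓐, (P : Subgroup G) ≤ A ∧ ¬ p ∣ ((P : Subgroup G).subgroupOf A).index ∧
      IsCoatom (Subgroup.normalizer ((P : Subgroup G) : Set G)) ∧
      (∀ g : G, g ∉ Subgroup.normalizer ((P : Subgroup G) : Set G) →
        ¬ p ∣ Nat.card ↥(Subgroup.normalizer ((P : Subgroup G) : Set G) ⊓
          (Subgroup.normalizer ((P : Subgroup G) : Set G)).map (MulAut.conj g).toMonoidHom)) ∧
      Subgroup.centralizer ((P : Subgroup G) : Set G) = A) := by
  have habP : ∀ a ∈ P, ∀ b ∈ P, a * b = b * a := fun a ha b hb =>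
    congrArg Subtype.val (hab.is_comm.comm (⟨a, ha⟩ : (P : Subgroup G)) ⟨b, hb⟩)
  by_cases hE : Cfsg.IsElementaryAbelian p (P : Subgroup G) ∧ p < Nat.card ↥(P : Subgroup G)
  · exact Or.inl hE
  right
  have hkeyP : (∃ a ∈ P, a ^ p ≠ 1) ∨ Nat.card P = p :=
    Cfsg.Agent.Lib.Helper27.NilpCover.key_of P hnn (fun hexp hlt => hE ⟨⟨hab, hexp⟩, hlt⟩)
  have h : Cfsg.Agent.Lib.Helper27.NilpCover.Hyp 𝓐 p :=
    ⟨⟨h𝓐.1, h𝓐.2.1⟩, h𝓐.2.2, hZ, Cfsg.Agent.Lib.Helper27.NilpCover.abelian_all P habP⟩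
  obtain ⟨A, hA, hPA, hCA, hco, hTI, -⟩ := Cfsg.Agent.Lib.Helper27.NilpCover.main h
    (Cfsg.Agent.Lib.Helper27.NilpCover.hyp_all P hkeyP) P hnn
  exact ⟨A, hA, hPA, Cfsg.Agent.Lib.Helper27.NilpCover.not_dvd_index_subgroupOf P hPA, hco, hTI, hCA⟩

end Cfsg.Agent.S3890
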