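import Cfsg.Statements.S3891
import Cfsg.Agent.Lib.Helper27.NilpCover

set_option autoImplicit false
open Cfsg

namespace Cfsg.Agent.S3891

/-- A cover of a group is a finite set of proper subgroups whose union is the whole group; it is minimal when no cover has fewer members, and nilpotent when all its members are nilpotent. Let G be a finite group with trivial center admitting a nilpotent minimal cover, and let P be a non-normal Sylow p-subgroup of G that is cyclic, or abelian but not elementary abelian. Then the centralizer of P is nilpotent and the normalizer of P is the unique maximal subgroup of G containing the centralizer of P. -/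
theorem result {G : Type*} [Group G] [Finite G] (hZ : Subgroup.center G = ⊥) (𝓐 : Finset (Subgroup G))
    (h𝓐 : ((∀ A ∈ 𝓐, A ≠ ⊤) ∧ (∀ g : G, ∃ A ∈ 𝓐, g ∈ A)) ∧ (∀ 𝓑 : Finset (Subgroup G), (∀ A ∈ 𝓑, A ≠ ⊤) ∧ (∀ g : G, ∃ A ∈ 𝓑, g ∈ A) → 𝓐.card ≤ 𝓑.card) ∧ (∀ A ∈ 𝓐, Group.IsNilpotent ↥A)) {p : ℕ} [Fact p.Prime] (P : Sylow p G)
    (hP : IsCyclic ↥(P : Subgroup G) ∨ (IsMulCommutative ↥(P : Subgroup G) ∧ ¬ Cfsg.IsElementaryAbelian p (P : Subgroup G)))
    (hnn : ¬ (P : Subgroup G).Normal) :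
    Group.IsNilpotent ↥(Subgroup.centralizer ((P : Subgroup G) : Set G)) ∧
      IsCoatom (Subgroup.normalizer ((P : Subgroup G) : Set G)) ∧
      ∀ M : Subgroup G, IsCoatom M → Subgroup.centralizer ((P : Subgroup G) : Set G) ≤ M →
        M = Subgroup.normalizer ((P : Subgroup G) : Set G) := by
  have hp : p.Prime := Fact.out
  -- `P` is abelian
  have hab : IsMulCommutative ↥(P : Subgroup G) := by
    rcases hP with hc | ⟨hc, -⟩
    · exact ⟨⟨fun a b => by
        haveI := hc
        exact (IsCyclic.commGroup (α := ↥(P : Subgroup G))).mul_comm a b⟩⟩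
    · exact hc
  have habP : ∀ a ∈ P, ∀ b ∈ P, a * b = b * a := fun a ha b hb =>
    congrArg Subtype.val (hab.is_comm.comm (⟨a, ha⟩ : (P : Subgroup G)) ⟨b, hb⟩)
  have hkeyP : (∃ a ∈ P, a ^ p ≠ 1) ∨ Nat.card P = p := by
    apply Cfsg.Agent.Lib.Helper27.NilpCover.key_of P hnn
    intro hexp hlt
    rcases hP with hc | ⟨-, hne⟩
    · -- cyclic of exponent p has order at most p
      haveI := hc
      obtain ⟨g, hg⟩ := IsCyclic.exists_generator (α := ↥(P : Subgroup G))
      have h1 : orderOf g = Nat.card ↥(P : Subgroup G) := orderOf_eq_card_of_forall_mem_zpowers hg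
      have h2 : g ^ p = 1 := Subtype.ext (by simpa using hexp g.1 g.2)
      have h3 : orderOf g ≤ p := Nat.le_of_dvd hp.pos (orderOf_dvd_of_pow_eq_one h2)
      omega
    · exact hne ⟨hab, hexp⟩
  have h : Cfsg.Agent.Lib.Helper27.NilpCover.Hyp 𝓐 p :=
    ⟨⟨h𝓐.1, h𝓐.2.1⟩, h𝓐.2.2, hZ, Cfsg.Agent.Lib.Helper27.NilpCover.abelian_all P habP⟩
  obtain ⟨A, hA, hPA, hCA, hco, -, hM⟩ := Cfsg.Agent.Lib.Helper27.NilpCover.main h
    (Cfsg.Agent.Lib.Helper27.NilpCover.hyp_all P hkeyP) P hnn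
  refine ⟨?_, hco, hM⟩
  rw [hCA]
  exact h𝓐.2.2 A hA

end Cfsg.Agent.S3891
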