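import Cfsg.Statements.S3892
import Cfsg.Agent.Lib.Helper27.NilpCoverSym

set_option autoImplicit false
open Cfsg

namespace Cfsg.Agent.S3892

/-- A cover of a group is a finite set of proper subgroups whose union is the whole group; it is minimal when no cover has fewer members, and nilpotent when all its members are nilpotent. The alternating groups of degree at least 5 and the symmetric groups of degree at least 4 have no nilpotent minimal cover. -/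
theorem result (n : ℕ) :
    (5 ≤ n → ¬ ∃ 𝓐 : Finset (Subgroup ↥(alternatingGroup (Fin n))), ((∀ A ∈ 𝓐, A ≠ ⊤) ∧ (∀ g : ↥(alternatingGroup (Fin n)), ∃ A ∈ 𝓐, g ∈ A)) ∧ (∀ 𝓑 : Finset (Subgroup ↥(alternatingGroup (Fin n))), (∀ A ∈ 𝓑, A ≠ ⊤) ∧ (∀ g : ↥(alternatingGroup (Fin n)), ∃ A ∈ 𝓑, g ∈ A) → 𝓐.card ≤ 𝓑.card) ∧ (∀ A ∈ 𝓐, Group.IsNilpotent ↥A)) ∧
    (4 ≤ n → ¬ ∃ 𝓐 : Finset (Subgroup (Equiv.Perm (Fin n))), ((∀ A ∈ 𝓐, A ≠ ⊤) ∧ (∀ g : (Equiv.Perm (Fin n)), ∃ A ∈ 𝓐, g ∈ A)) ∧ (∀ 𝓑 : Finset (Subgroup (Equiv.Perm (Fin n))), (∀ A ∈ 𝓑, A ≠ ⊤) ∧ (∀ g : (Equiv.Perm (Fin n)), ∃ A ∈ 𝓑, g ∈ A) → 𝓐.card ≤ 𝓑.card) ∧ (∀ A ∈ 𝓐, Group.IsNilpotent ↥A)) := by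
  constructor
  · rintro hn ⟨𝓐, hcov, hmin, hnil⟩
    rcases Nat.lt_or_ge n 6 with h | h
    · have : n = 5 := by omega
      subst this
      exact Cfsg.Agent.Lib.Helper27.NilpCoverSym.no_cover_alt5 𝓐 ⟨hcov, hmin⟩ hnil
    · exact Cfsg.Agent.Lib.Helper27.NilpCoverSym.no_cover_alt h 𝓐 ⟨hcov, hmin⟩ hnil
  · rintro hn ⟨𝓐, hcov, hmin, hnil⟩
    rcases Nat.lt_or_ge n 6 with h | h
    · have : n = 4 ∨ n = 5 := by omega
      rcases this with rfl | rfl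
      · exact Cfsg.Agent.Lib.Helper27.NilpCoverSym.no_cover_perm4 𝓐 ⟨hcov, hmin⟩ hnil
      · exact Cfsg.Agent.Lib.Helper27.NilpCoverSym.no_cover_perm5 𝓐 ⟨hcov, hmin⟩ hnil
    · exact Cfsg.Agent.Lib.Helper27.NilpCoverSym.no_cover_perm h 𝓐 ⟨hcov, hmin⟩ hnil


end Cfsg.Agent.S3892
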