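import Cfsg.Statements.S3893
-- import your own Cfsg.Agent.* helpers here
import Cfsg.Agent.Lib.Helper15.SuzukiTori
import Cfsg.Agent.Lib.Helper15.SuzukiLie

set_option autoImplicit false
open Cfsg

namespace Cfsg.Agent.S3893

open Cfsg.Agent.Lib.Helper15.SuzukiAlg Cfsg.Agent.Lib.Helper15.SuzukiOvoid
  Cfsg.Agent.Lib.Helper15.SuzukiGroup Cfsg.Agent.Lib.Helper15.SuzukiOrder
  Cfsg.Agent.Lib.Helper15.SuzukiZassenhaus Cfsg.Agent.Lib.Helper15.SuzukiBorel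
  Cfsg.Agent.Lib.Helper15.SuzukiElements
  Cfsg.Agent.Lib.Helper15.SuzukiFpf Cfsg.Agent.Lib.Helper15.SuzukiLie
  Cfsg.Agent.S2410 Cfsg.Agent.S2247
open scoped Pointwise

/-- a cover by proper subgroups -/
def IsCover {G : Type*} [Group G] (𝓐 : Finset (Subgroup G)) : Prop :=
  (∀ A ∈ 𝓐, A ≠ ⊤) ∧ (∀ g : G, ∃ A ∈ 𝓐, g ∈ A)

variable {F : Type*} [Field F] [Fintype F] {m : ℕ}

/-- a nilpotent subgroup containing a non-trivial torus element lies in the torus -/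
theorem nil_fix (hm : 1 ≤ m) (hF : Fintype.card F = 2 ^ (2 * m + 1)) {A : Subgroup (Cfsg.Sz F m)}
    (hA : Group.IsNilpotent A) {g k : Cfsg.Sz F m} {ν : Fˣ} (hg : g ∈ A) (hν : ν ≠ 1)
    (hk : k * g * k⁻¹ = Hs hF ν) :
    ∀ a ∈ A, a • (k⁻¹ • pt hF none) = k⁻¹ • pt hF none ∧
      a • (k⁻¹ • pt hF (some (0, 0))) = k⁻¹ • pt hF (some (0, 0)) := by
  have hg1 : g ≠ 1 := by
    rintro rfl
    rw [mul_one, mul_inv_cancel] at hk
    exact Hs_ne_one hF hν hk.symm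
  have hnt : Nontrivial A := ⟨⟨⟨g, hg⟩, 1, fun h => hg1 (congrArg Subtype.val h)⟩⟩
  have hc := Group.IsNilpotent.center_ne_bot (G := A)
  obtain ⟨⟨⟨z, hzA⟩, hz⟩, hz1⟩ := (Subgroup.ne_bot_iff_exists_ne_one).mp hc
  have hz1' : z ≠ 1 := fun h => hz1 (Subtype.ext (Subtype.ext h))
  rw [Subgroup.mem_center_iff] at hz
  have hzc : ∀ a ∈ A, a * z = z * a := by
    intro a ha
    exact congrArg Subtype.val (hz ⟨a, ha⟩)
  -- transport commutation through conjugation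
  have conj_comm : ∀ u v : Cfsg.Sz F m, u * v = v * u →
      (k * u * k⁻¹) * (k * v * k⁻¹) = (k * v * k⁻¹) * (k * u * k⁻¹) := by
    intro u v h
    have e1 : k * u * k⁻¹ * (k * v * k⁻¹) = k * (u * v) * k⁻¹ := by group
    have e2 : k * v * k⁻¹ * (k * u * k⁻¹) = k * (v * u) * k⁻¹ := by group
    rw [e1, e2, h]
  have h1 := conj_comm z g (hzc g hg).symm
  rw [hk] at h1
  obtain ⟨ν', hν'⟩ := cent_Hs hF hm hν h1
  have hν'1 : ν' ≠ 1 := by
    rintro rfl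
    rw [Hs_one] at hν'
    apply hz1'
    have : z = k⁻¹ * (k * z * k⁻¹) * k := by group
    rw [this, hν']; group
  intro a ha
  have h2 := conj_comm a z (hzc a ha)
  rw [hν'] at h2
  obtain ⟨ν'', hν''⟩ := cent_Hs hF hm hν'1 h2
  have ha' : a = k⁻¹ * Hs hF ν'' * k := by rw [← hν'']; group
  constructor
  · rw [ha', mul_smul, mul_smul, smul_inv_smul, Hs_inf]
  · rw [ha', mul_smul, mul_smul, smul_inv_smul, Hs_zero]

/-- the member of a nilpotent cover attached to a pair of points -/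
theorem exists_member (hm : 1 ≤ m) (hF : Fintype.card F = 2 ^ (2 * m + 1))
    {𝓐 : Finset (Subgroup (Cfsg.Sz F m))} (hcov : IsCover 𝓐)
    (hnil : ∀ A ∈ 𝓐, Group.IsNilpotent A) {P Q : Cfsg.suzukiOvoid F m} (hPQ : P ≠ Q) :
    ∃ A ∈ 𝓐, (∀ a ∈ A, a • P = P ∧ a • Q = Q) ∧
      ∃ g ∈ A, ∀ R : Cfsg.suzukiOvoid F m, g • R = R → R = P ∨ R = Q := by
  obtain ⟨k, hkP, hkQ⟩ := exists_to_standard hF hPQ
  obtain ⟨c, hc0, hc1⟩ := exists_ne_zero_one hF hm
  obtain ⟨ν, hν⟩ : ∃ ν : Fˣ, ν = Units.mk0 c hc0 := ⟨_, rfl⟩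
  have hν1 : ν ≠ 1 := by
    intro h
    apply hc1
    have := congrArg Units.val h
    rw [hν] at this
    simpa using this
  have hP : k⁻¹ • pt hF none = P := by rw [← hkP, inv_smul_smul]
  have hQ : k⁻¹ • pt hF (some (0, 0)) = Q := by rw [← hkQ, inv_smul_smul]
  obtain ⟨A, hA, hgA⟩ := hcov.2 (k⁻¹ * Hs hF ν * k)
  have hk : k * (k⁻¹ * Hs hF ν * k) * k⁻¹ = Hs hF ν := by group
  refine ⟨A, hA, ?_, k⁻¹ * Hs hF ν * k, hgA, ?_⟩
  · intro a ha
    have := nil_fix hm hF (hnil A hA) hgA hν1 hk a ha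
    rw [hP, hQ] at this
    exact this
  · intro R hR
    have h1 : Hs hF ν • (k • R) = k • R := by
      have : k • ((k⁻¹ * Hs hF ν * k) • R) = k • R := by rw [hR]
      rw [← mul_smul] at this
      have e : k * (k⁻¹ * Hs hF ν * k) = Hs hF ν * k := by group
      rw [e, mul_smul] at this
      exact this
    rcases Hs_fix hF hm hν1 h1 with h | h
    · left
      rw [← hP, ← h, inv_smul_smul]
    · right
      rw [← hQ, ← h, inv_smul_smul]

/-- a nilpotent cover of the Suzuki group is never minimal -/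
theorem exists_smaller (hm : 1 ≤ m) (hF : Fintype.card F = 2 ^ (2 * m + 1))
    {𝓐 : Finset (Subgroup (Cfsg.Sz F m))} (hcov : IsCover 𝓐)
    (hnil : ∀ A ∈ 𝓐, Group.IsNilpotent A) :
    ∃ 𝓑 : Finset (Subgroup (Cfsg.Sz F m)), IsCover 𝓑 ∧ 𝓑.card < 𝓐.card := by
  classical
  have := Fintype.ofFinite (Cfsg.suzukiOvoid F m)
  have hN : Fintype.card (Cfsg.suzukiOvoid F m) = (2 ^ (2 * m + 1)) ^ 2 + 1 := by
    rw [← Nat.card_eq_fintype_card, card_ovoid hF]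
  have hch : ∀ p : {p : Cfsg.suzukiOvoid F m × Cfsg.suzukiOvoid F m // p.1 ≠ p.2},
      ∃ A ∈ 𝓐, (∀ a ∈ A, a • p.1.1 = p.1.1 ∧ a • p.1.2 = p.1.2) ∧
        ∃ g ∈ A, ∀ R : Cfsg.suzukiOvoid F m, g • R = R → R = p.1.1 ∨ R = p.1.2 :=
    fun p => exists_member hm hF hcov hnil p.2
  choose Am hAm hfix hgen using hch
  have h0 := pt_none_ne_zero hF (m := m)
  let pair : ({P : Cfsg.suzukiOvoid F m // P ≠ pt hF none} ⊕
      {P : Cfsg.suzukiOvoid F m // P ≠ pt hF none ∧ P ≠ pt hF (some (0, 0))}) →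
      {p : Cfsg.suzukiOvoid F m × Cfsg.suzukiOvoid F m // p.1 ≠ p.2} := fun t =>
    match t with
    | Sum.inl P => ⟨(pt hF none, P.1), fun h => P.2 h.symm⟩
    | Sum.inr P => ⟨(pt hF (some (0, 0)), P.1), fun h => P.2.2 h.symm⟩
  have hinj : Function.Injective (fun t => Am (pair t)) := by
    intro t t' htt
    simp only at htt
    obtain ⟨g, hgA, hgfix⟩ := hgen (pair t)
    rw [htt] at hgA
    have h1 := hfix (pair t') g hgA
    have h2 := hgfix _ h1.1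
    have h3 := hgfix _ h1.2
    rcases t with ⟨P, hP⟩ | ⟨P, hP, hP'⟩ <;> rcases t' with ⟨P', hP2⟩ | ⟨P', hP2, hP2'⟩ <;>
      simp only [pair] at h2 h3
    · rcases h3 with h3 | h3
      · exact absurd h3 hP2
      · subst h3; rfl
    · exfalso
      rcases h2 with h2 | h2
      · exact h0 h2.symm
      · rcases h3 with h3 | h3
        · exact hP2 h3
        · rw [← h2] at h3; exact hP2' h3
    · exfalso
      rcases h2 with h2 | h2
      · exact h0 h2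
      · exact hP h2.symm
    · rcases h3 with h3 | h3
      · exact absurd h3 hP2'
      · subst h3; rfl
  have hmem : ∀ t, Am (pair t) ∈ 𝓐.filter (fun A => ¬ ∃ g ∈ A, IsFpf g) := by
    intro t
    rw [Finset.mem_filter]
    refine ⟨hAm _, ?_⟩
    rintro ⟨g, hg, hfpf⟩
    exact hfpf _ (hfix (pair t) g hg).1
  have hcardT : Fintype.card ({P : Cfsg.suzukiOvoid F m // P ≠ pt hF none} ⊕
      {P : Cfsg.suzukiOvoid F m // P ≠ pt hF none ∧ P ≠ pt hF (some (0, 0))}) =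
      2 * ((2 ^ (2 * m + 1)) ^ 2 + 1) - 3 := by
    rw [Fintype.card_sum, Fintype.card_subtype_compl, Fintype.card_subtype_eq, hN]
    have h2 : Fintype.card {P : Cfsg.suzukiOvoid F m // P ≠ pt hF none ∧ P ≠ pt hF (some (0, 0))} =
        (2 ^ (2 * m + 1)) ^ 2 + 1 - 2 := by
      rw [Fintype.card_subtype, ← hN, ← Finset.card_univ]
      have : (Finset.univ.filter (fun P : Cfsg.suzukiOvoid F m =>
          P ≠ pt hF none ∧ P ≠ pt hF (some (0, 0)))) =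
          (Finset.univ.erase (pt hF none)).erase (pt hF (some (0, 0))) := by
        ext P
        simp only [Finset.mem_filter, Finset.mem_univ, true_and, Finset.mem_erase, and_true]
        tauto
      rw [this, Finset.card_erase_of_mem, Finset.card_erase_of_mem (Finset.mem_univ _)]
      · rfl
      · rw [Finset.mem_erase]
        exact ⟨h0.symm, Finset.mem_univ _⟩
    rw [h2]
    have : 0 < (2 ^ (2 * m + 1)) ^ 2 := by positivity
    omega
  have hrest : 2 * ((2 ^ (2 * m + 1)) ^ 2 + 1) - 3 ≤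
      (𝓐.filter (fun A => ¬ ∃ g ∈ A, IsFpf g)).card := by
    rw [← hcardT, ← Finset.card_univ]
    exact Finset.card_le_card_of_injOn (fun t => Am (pair t)) (fun t _ => hmem t)
      (fun t _ t' _ h => hinj h)
  refine ⟨𝓐.filter (fun A => ∃ g ∈ A, IsFpf g) ∪
    Finset.univ.image (fun P : Cfsg.suzukiOvoid F m => MulAction.stabilizer (Cfsg.Sz F m) P),
    ⟨?_, ?_⟩, ?_⟩
  · intro A hA
    rw [Finset.mem_union] at hA
    rcases hA with hA | hA
    · exact hcov.1 A (Finset.mem_of_mem_filter A hA)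
    · rw [Finset.mem_image] at hA
      obtain ⟨P, -, rfl⟩ := hA
      intro htop
      obtain ⟨Q, hQ⟩ : ∃ Q : Cfsg.suzukiOvoid F m, Q ≠ P := by
        by_cases h : P = pt hF none
        · exact ⟨pt hF (some (0, 0)), by rw [h]; exact h0.symm⟩
        · exact ⟨pt hF none, fun h' => h h'.symm⟩
      have h2t := two_transitive hF (m := m)
      rw [MulAction.is_two_pretransitive_iff] at h2t
      obtain ⟨g, hg, -⟩ := h2t hQ.symm hQ
      have : g ∈ MulAction.stabilizer (Cfsg.Sz F m) P := by rw [htop]; exact Subgroup.mem_top g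
      rw [MulAction.mem_stabilizer_iff] at this
      exact hQ (hg.symm.trans this)
  · intro g
    by_cases hfpf : IsFpf g
    · obtain ⟨A, hA, hgA⟩ := hcov.2 g
      exact ⟨A, Finset.mem_union_left _ (Finset.mem_filter.mpr ⟨hA, g, hgA, hfpf⟩), hgA⟩
    · unfold IsFpf at hfpf
      push Not at hfpf
      obtain ⟨P, hP⟩ := hfpf
      exact ⟨MulAction.stabilizer (Cfsg.Sz F m) P,
        Finset.mem_union_right _ (Finset.mem_image.mpr ⟨P, Finset.mem_univ _, rfl⟩),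
        MulAction.mem_stabilizer_iff.mpr hP⟩
  · have h1 := Finset.card_union_le (𝓐.filter (fun A => ∃ g ∈ A, IsFpf g))
      (Finset.univ.image (fun P : Cfsg.suzukiOvoid F m => MulAction.stabilizer (Cfsg.Sz F m) P))
    have h2 : (Finset.univ.image (fun P : Cfsg.suzukiOvoid F m =>
        MulAction.stabilizer (Cfsg.Sz F m) P)).card ≤ (2 ^ (2 * m + 1)) ^ 2 + 1 := by
      rw [← hN, ← Finset.card_univ]
      exact Finset.card_image_le
    have h3 := Finset.card_filter_add_card_filter_not (s := 𝓐)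
      (fun A => ∃ g ∈ A, IsFpf g)
    have h4 : 4 ≤ (2 ^ (2 * m + 1)) ^ 2 := by
      have : 2 ≤ 2 ^ (2 * m + 1) := by
        calc 2 = 2 ^ 1 := rfl
          _ ≤ 2 ^ (2 * m + 1) := Nat.pow_le_pow_right (by norm_num) (by omega)
      nlinarith
    omega

/-- the image of a cover under an isomorphism -/
theorem cover_map {H H' : Type*} [Group H] [Group H'] [DecidableEq (Subgroup H')] (f : H ≃* H')
    (𝓒 : Finset (Subgroup H)) (hc : IsCover 𝓒) :
    IsCover (𝓒.image (fun A => A.map f.toMonoidHom)) := by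
  constructor
  · intro A hA
    rw [Finset.mem_image] at hA
    obtain ⟨A₀, hA₀, rfl⟩ := hA
    intro htop
    apply hc.1 A₀ hA₀
    rw [eq_top_iff]
    intro x _
    have : f x ∈ A₀.map f.toMonoidHom := by rw [htop]; exact Subgroup.mem_top _
    rw [Subgroup.mem_map_equiv, f.symm_apply_apply] at this
    exact this
  · intro g
    obtain ⟨A₀, hA₀, hg⟩ := hc.2 (f.symm g)
    exact ⟨A₀.map f.toMonoidHom, Finset.mem_image.mpr ⟨A₀, hA₀, rfl⟩,
      Subgroup.mem_map_equiv.mpr hg⟩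

/-- transporting the statement along an isomorphism -/
theorem transport {G G' : Type*} [Group G] [Group G'] (e : G ≃* G')
    (h : ∀ 𝓐 : Finset (Subgroup G), IsCover 𝓐 → (∀ A ∈ 𝓐, Group.IsNilpotent A) →
      ∃ 𝓑 : Finset (Subgroup G), IsCover 𝓑 ∧ 𝓑.card < 𝓐.card)
    (𝓐' : Finset (Subgroup G')) (hcov : IsCover 𝓐') (hnil : ∀ A ∈ 𝓐', Group.IsNilpotent A) :
    ∃ 𝓑' : Finset (Subgroup G'), IsCover 𝓑' ∧ 𝓑'.card < 𝓐'.card := by
  classical
  have hcov1 := cover_map e.symm 𝓐' hcov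
  have hnil1 : ∀ A : Subgroup G, A ∈ 𝓐'.image (fun A => A.map e.symm.toMonoidHom) →
      Group.IsNilpotent A := by
    intro A hA
    rw [Finset.mem_image] at hA
    obtain ⟨A₀, hA₀, rfl⟩ := hA
    have := hnil A₀ hA₀
    exact Group.nilpotent_of_mulEquiv (e.symm.subgroupMap A₀)
  obtain ⟨𝓑, h𝓑, hlt⟩ := h _ hcov1 hnil1
  refine ⟨𝓑.image (fun A => A.map e.toMonoidHom), cover_map e 𝓑 h𝓑, ?_⟩
  calc (𝓑.image (fun A => A.map e.toMonoidHom)).card ≤ 𝓑.card := Finset.card_image_le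
    _ < (𝓐'.image (fun A => A.map e.symm.toMonoidHom)).card := hlt
    _ ≤ 𝓐'.card := Finset.card_image_le

theorem main (m : ℕ) (hm : 1 ≤ m) (hF : Fintype.card F = 2 ^ (2 * m + 1)) :
    ¬ ∃ 𝓐 : Finset (Subgroup ↥(Cfsg.Lie.Sz F (2 ^ (m + 1)))), ((∀ A ∈ 𝓐, A ≠ ⊤) ∧ (∀ g : ↥(Cfsg.Lie.Sz F (2 ^ (m + 1))), ∃ A ∈ 𝓐, g ∈ A)) ∧ (∀ 𝓑 : Finset (Subgroup ↥(Cfsg.Lie.Sz F (2 ^ (m + 1)))), (∀ A ∈ 𝓑, A ≠ ⊤) ∧ (∀ g : ↥(Cfsg.Lie.Sz F (2 ^ (m + 1))), ∃ A ∈ 𝓑, g ∈ A) → 𝓐.card ≤ 𝓑.card) ∧ (∀ A ∈ 𝓐, Group.IsNilpotent ↥A) := by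
  rintro ⟨𝓐, hcov, hmin, hnil⟩
  obtain ⟨𝓑, h𝓑, hlt⟩ := transport (equivLie hF hm)
    (fun 𝓐₀ h1 h2 => exists_smaller hm hF h1 h2) 𝓐 hcov hnil
  have := hmin 𝓑 h𝓑
  omega

/-- A cover of a group is a finite set of proper subgroups whose union is the whole group; it is minimal when no cover has fewer members, and nilpotent when all its members are nilpotent. The Suzuki groups Sz(q), q = 2^(2m+1) with m ≥ 1, have no nilpotent minimal cover. -/
theorem result {F : Type*} [Field F] [Fintype F] (m : ℕ) (hm : 1 ≤ m) (hF : Fintype.card F = 2 ^ (2 * m + 1)) :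
    ¬ ∃ 𝓐 : Finset (Subgroup ↥(Cfsg.Lie.Sz F (2 ^ (m + 1)))), ((∀ A ∈ 𝓐, A ≠ ⊤) ∧ (∀ g : ↥(Cfsg.Lie.Sz F (2 ^ (m + 1))), ∃ A ∈ 𝓐, g ∈ A)) ∧ (∀ 𝓑 : Finset (Subgroup ↥(Cfsg.Lie.Sz F (2 ^ (m + 1)))), (∀ A ∈ 𝓑, A ≠ ⊤) ∧ (∀ g : ↥(Cfsg.Lie.Sz F (2 ^ (m + 1))), ∃ A ∈ 𝓑, g ∈ A) → 𝓐.card ≤ 𝓑.card) ∧ (∀ A ∈ 𝓐, Group.IsNilpotent ↥A) := by
  exact main m hm hF

end Cfsg.Agent.S3893
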