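-- S3894: no group between PSL_n(F) and PGL_n(F) (n ≥ 3, or n = 2 and q ≥ 4) has a nilpotent
-- minimal cover.  Planner helper18; leaves by helper27 (`NilpCover.replace_one`), helper20
-- (Case A core), helper10 + helper2 (non-split tori), helper18 (Jordan block, n ≥ 3, assembly).
import Cfsg.Statements.S3894
import Cfsg.Agent.Lib.Helper18.NilCovT3
import Cfsg.Agent.Lib.Helper18.NilCovA2
import Cfsg.Agent.Lib.Helper18.NilCovB6

set_option autoImplicit false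
open Cfsg

namespace Cfsg.Agent.S3894

/-- A cover of a group is a finite set of proper subgroups whose union is the whole group; it is minimal when no cover has fewer members, and nilpotent when all its members are nilpotent. Let F be a finite field with q elements and n ≥ 3, or n = 2 and q ≥ 4. Then no subgroup of PGL_n(F) = GL_n(F)/Z(GL_n(F)) containing the image of SL_n(F) has a nilpotent minimal cover. -/
theorem result {F : Type*} [Field F] [Fintype F] (n : ℕ) (hn : 3 ≤ n ∨ (n = 2 ∧ 4 ≤ Fintype.card F))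
    (G : Subgroup (GL (Fin n) F ⧸ Subgroup.center (GL (Fin n) F)))
    (hG : ((Matrix.SpecialLinearGroup.toGL : Matrix.SpecialLinearGroup (Fin n) F →* GL (Fin n) F).range).map
      (QuotientGroup.mk' (Subgroup.center (GL (Fin n) F))) ≤ G) :
    ¬ ∃ 𝓐 : Finset (Subgroup ↥G), ((∀ A ∈ 𝓐, A ≠ ⊤) ∧ (∀ g : ↥G, ∃ A ∈ 𝓐, g ∈ A)) ∧ (∀ 𝓑 : Finset (Subgroup ↥G), (∀ A ∈ 𝓑, A ≠ ⊤) ∧ (∀ g : ↥G, ∃ A ∈ 𝓑, g ∈ A) → 𝓐.card ≤ 𝓑.card) ∧ (∀ A ∈ 𝓐, Group.IsNilpotent ↥A) := by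
  rintro ⟨𝓐, hcov, hminimal, hnil⟩
  have hmin : Cfsg.Agent.Lib.Helper27.NilpCover.IsMinCover 𝓐 := ⟨hcov, hminimal⟩
  rcases hn with hn | ⟨rfl, hq⟩
  · exact Cfsg.Agent.Lib.Helper18.NilCov.no_cover_ge3 hn G hG 𝓐 hmin hnil
  · by_cases h : ∃ a : Fˣ, ¬ ∃ k : ℕ, orderOf a = 2 ^ k
    · obtain ⟨a, ha2⟩ := h
      exact Cfsg.Agent.Lib.Helper18.NilCov.no_cover_two_A G hG a ha2 𝓐 hmin hnil
    · have hall : ∀ a : Fˣ, ∃ k : ℕ, orderOf a = 2 ^ k := by
        intro a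
        by_contra ha
        exact h ⟨a, ha⟩
      exact Cfsg.Agent.Lib.Helper18.NilCov.no_cover_two_B hq hall G hG 𝓐 hmin hnil

end Cfsg.Agent.S3894
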