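import Cfsg.Statements.S3903
import Mathlib
import Cfsg.Agent.S0556

set_option autoImplicit false
open Cfsg

namespace Cfsg.Agent.S3903

theorem pelt_of_comm {G : Type*} [Group G] (N : Subgroup G)
    (h : ∀ x : G, x ∉ N → IsPrimePow (orderOf x))
    {p k : ℕ} (hp : p.Prime) (x : G) (hx : x ∉ N) (hox : orderOf x = p ^ k)
    (y : G) (hy : y ∉ N) (hxy : Commute x y) : ∃ j, orderOf y = p ^ j := by
  obtain ⟨q, j, hq, hj, hqj⟩ := (isPrimePow_nat_iff _).1 (h y hy)
  by_cases hqp : q = p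
  · subst hqp; exact ⟨j, hqj.symm⟩
  exfalso
  have hk : k ≠ 0 := by
    rintro rfl
    rw [pow_zero, orderOf_eq_one_iff] at hox
    exact hx (hox ▸ N.one_mem)
  have hcop : (orderOf x).Coprime (orderOf y) := by
    rw [hox, ← hqj]
    exact Nat.Coprime.pow _ _ ((Nat.coprime_primes hp hq).2 (Ne.symm hqp))
  have hmul := hxy.orderOf_mul_eq_mul_orderOf_of_coprime hcop
  by_cases hxyN : x * y ∈ N
  · have h1 : (x * y) ^ orderOf y ∈ N := N.pow_mem hxyN _
    rw [hxy.mul_pow, pow_orderOf_eq_one, mul_one] at h1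
    obtain ⟨m, hm⟩ := exists_pow_eq_self_of_coprime hcop.symm
    exact hx (hm ▸ N.pow_mem h1 m)
  · obtain ⟨r, a, hr, ha, hra⟩ := (isPrimePow_nat_iff _).1 (h _ hxyN)
    rw [hmul, hox, ← hqj] at hra
    have hpr : p ∣ r ^ a := by
      rw [hra]; exact Dvd.dvd.mul_right (dvd_pow_self p hk) _
    have hqr : q ∣ r ^ a := by
      rw [hra]; exact Dvd.dvd.mul_left (dvd_pow_self q hj.ne') _
    have e1 := (Nat.prime_dvd_prime_iff_eq hp hr).1 (hp.dvd_of_dvd_pow hpr)
    have e2 := (Nat.prime_dvd_prime_iff_eq hq hr).1 (hq.dvd_of_dvd_pow hqr)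
    exact hqp (e2.trans e1.symm)

theorem cent_isPGroup {G : Type*} [Group G] (N : Subgroup G)
    (h : ∀ x : G, x ∉ N → IsPrimePow (orderOf x))
    {p k : ℕ} (hp : p.Prime) (x : G) (hx : x ∉ N) (hox : orderOf x = p ^ k) :
    IsPGroup p (Subgroup.centralizer ({x} : Set G)) := by
  rintro ⟨y, hy⟩
  rw [Subgroup.mem_centralizer_singleton_iff] at hy
  have hc : Commute x y := hy.symm
  by_cases hyN : y ∈ N
  · have hxyN : x * y ∉ N := fun hh => hx (by
      have := N.mul_mem hh (N.inv_mem hyN)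
      simpa using this)
    have hc2 : Commute x (x * y) := (Commute.refl x).mul_right hc
    obtain ⟨j, hj⟩ := pelt_of_comm N h hp x hx hox (x * y) hxyN hc2
    refine ⟨k + j, Subtype.ext ?_⟩
    have e : y = x⁻¹ * (x * y) := by group
    have hc3 : Commute x⁻¹ (x * y) := hc2.inv_left
    have hx1 : x ^ (p ^ (k + j)) = 1 := by
      rw [pow_add, pow_mul, ← hox, pow_orderOf_eq_one, one_pow]
    have hxy1 : (x * y) ^ (p ^ (k + j)) = 1 := by
      rw [pow_add, mul_comm, pow_mul, ← hj, pow_orderOf_eq_one, one_pow]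
    change y ^ (p ^ (k + j)) = 1
    rw [e, hc3.mul_pow, inv_pow, hx1, hxy1]; simp
  · obtain ⟨j, hj⟩ := pelt_of_comm N h hp x hx hox y hyN hc
    refine ⟨j, Subtype.ext ?_⟩
    change y ^ (p ^ j) = 1
    rw [← hj, pow_orderOf_eq_one]

theorem central_of_count {G : Type*} [Group G] [Finite G] (N : Subgroup G) [N.Normal]
    (P : Subgroup G) (hPN : P ⊔ N = ⊤)
    (hconj : ∀ x : G, x ∉ N → ∃ g : G, g⁻¹ * x * g ∈ P ∧
      ∀ u ∈ P, u * (g⁻¹ * x * g) = (g⁻¹ * x * g) * u)
    (y : G) (hyP : y ∈ P) (hyN : y ∉ N) : ∀ u ∈ P, u * y = y * u := by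
  classical
  by_contra hcon
  push Not at hcon
  obtain ⟨u0, hu0P, hu0⟩ := hcon
  -- the types
  let X := {x : G // x ∉ N}
  let Z := {w : P // (w : G) ∉ N ∧ ∀ u ∈ P, u * (w : G) = (w : G) * u}
  let A := {w : P // w ∉ N.subgroupOf P}
  -- the conjugators
  choose! gx hgx using hconj
  have hnotN : ∀ x : G, x ∉ N → (gx x)⁻¹ * x * (gx x) ∉ N := by
    intro x hx hh
    apply hx
    have := Subgroup.Normal.conj_mem ‹N.Normal› _ hh (gx x)
    simpa [mul_assoc] using this
  let Φ : X × P → G × Z := fun xu =>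
    (gx xu.1.1 * (xu.2 : G),
      ⟨⟨(gx xu.1.1)⁻¹ * xu.1.1 * gx xu.1.1, (hgx _ xu.1.2).1⟩, hnotN _ xu.1.2, (hgx _ xu.1.2).2⟩)
  have hΦ : Function.Injective Φ := by
    rintro ⟨⟨x, hx⟩, ⟨u, hu⟩⟩ ⟨⟨x', hx'⟩, ⟨u', hu'⟩⟩ hh
    simp only [Φ, Prod.mk.injEq] at hh
    obtain ⟨h1, h2⟩ := hh
    replace h2 : (gx x)⁻¹ * x * gx x = (gx x')⁻¹ * x' * gx x' :=
      congrArg (fun z : Z => ((z.1 : P) : G)) h2
    have c1 := (hgx x hx).2 u hu
    have c2 := (hgx x' hx').2 u' hu'
    have e1 : x = (gx x * u) * ((gx x)⁻¹ * x * gx x) * (gx x * u)⁻¹ := by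
      have : (gx x * u) * ((gx x)⁻¹ * x * gx x) * (gx x * u)⁻¹
          = gx x * (u * ((gx x)⁻¹ * x * gx x)) * u⁻¹ * (gx x)⁻¹ := by group
      rw [this, c1]; group
    have e2 : x' = (gx x' * u') * ((gx x')⁻¹ * x' * gx x') * (gx x' * u')⁻¹ := by
      have : (gx x' * u') * ((gx x')⁻¹ * x' * gx x') * (gx x' * u')⁻¹
          = gx x' * (u' * ((gx x')⁻¹ * x' * gx x')) * u'⁻¹ * (gx x')⁻¹ := by group
      rw [this, c2]; group
    have hxx : x = x' := by rw [e1, e2, h1, h2]
    subst hxx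
    have huu : u = u' := mul_left_cancel h1
    subst huu
    rfl
  have hcard1 : Nat.card X * Nat.card P ≤ Nat.card G * Nat.card Z := by
    have := Nat.card_le_card_of_injective Φ hΦ
    rwa [Nat.card_prod, Nat.card_prod] at this
  -- Z injects into A missing y
  let Ψ : Z → A := fun w => ⟨w.1, fun hw => w.2.1 (Subgroup.mem_subgroupOf.1 hw)⟩
  have hΨ : Function.Injective Ψ := by
    rintro ⟨w, hw⟩ ⟨w', hw'⟩ hh
    have hh' : w = w' := congrArg (fun z : A => (z.1 : P)) hh
    subst hh'; rfl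
  have hyA : (⟨y, hyP⟩ : P) ∉ N.subgroupOf P := fun hh => hyN (Subgroup.mem_subgroupOf.1 hh)
  have hmiss : (⟨⟨y, hyP⟩, hyA⟩ : A) ∉ Set.range Ψ := by
    rintro ⟨⟨w, hw⟩, hh⟩
    have hh' : w = ⟨y, hyP⟩ := congrArg (fun z : A => (z.1 : P)) hh
    subst hh'
    exact hu0 (hw.2 u0 hu0P)
  have hcard2 : Nat.card Z < Nat.card A := by
    letI : Fintype Z := Fintype.ofFinite Z
    letI : Fintype A := Fintype.ofFinite A
    rw [Nat.card_eq_fintype_card, Nat.card_eq_fintype_card]
    exact Fintype.card_lt_of_injective_of_notMem Ψ hΨ hmiss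
  -- partitions
  have hG : Nat.card N + Nat.card X = Nat.card G := by
    rw [← Nat.card_sum]
    exact Nat.card_congr (Equiv.sumCompl (fun x => x ∈ N))
  have hP : Nat.card (N.subgroupOf P) + Nat.card A = Nat.card P := by
    rw [← Nat.card_sum]
    exact Nat.card_congr (Equiv.sumCompl (fun x => x ∈ N.subgroupOf P))
  -- indices
  have hidx : (N.subgroupOf P).index = N.index := by
    have h1 : N.relIndex (P ⊔ N) = N.relIndex P := Subgroup.relIndex_sup_right P N
    rw [hPN, Subgroup.relIndex_top_right] at h1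
    exact h1.symm
  have hG2 : Nat.card N * N.index = Nat.card G := N.card_mul_index
  have hP2 : Nat.card (N.subgroupOf P) * N.index = Nat.card P := by
    rw [← hidx]; exact (N.subgroupOf P).card_mul_index
  have hd : N.index ≠ 0 := Subgroup.index_ne_zero_of_finite
  have hn : 0 < Nat.card N := Nat.card_pos
  obtain ⟨e, he⟩ : ∃ e, N.index = e + 1 := ⟨N.index - 1, by omega⟩
  rw [he] at hG2 hP2
  set n := Nat.card N
  set q := Nat.card (N.subgroupOf P)
  have hXe : Nat.card X = n * e := by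
    have : n + Nat.card X = n * (e + 1) := by rw [hG, hG2]
    rw [mul_add, mul_one] at this; omega
  have hAe : Nat.card A = q * e := by
    have : q + Nat.card A = q * (e + 1) := by rw [hP, hP2]
    rw [mul_add, mul_one] at this; omega
  rw [hXe, ← hG2, ← hP2] at hcard1
  -- n * e * (q * (e+1)) ≤ n * (e+1) * Z
  have h3 : (n * (e + 1)) * (e * q) ≤ (n * (e + 1)) * Nat.card Z := by
    calc (n * (e + 1)) * (e * q) = n * e * (q * (e + 1)) := by ring
      _ ≤ _ := hcard1
  have h4 : e * q ≤ Nat.card Z := Nat.le_of_mul_le_mul_left h3 (by positivity)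
  rw [hAe] at hcard2
  have : q * e = e * q := mul_comm _ _
  omega

theorem solvable_of_pgroup {G : Type*} [Group G] [Finite G] (N : Subgroup G) {p : ℕ} [Fact p.Prime]
    (hN : IsPGroup p N) : Group.IsSolvable ↥N := by
  haveI := hN.isNilpotent
  infer_instance

theorem main {G : Type*} [Group G] [Finite G] (N : Subgroup G) [N.Normal] (hN : N ≠ ⊤)
    (h : ∀ x : G, x ∉ N → IsPrimePow (orderOf x) ∧ IsCoatom (Subgroup.centralizer ({x} : Set G))) :
    Group.IsSolvable ↥N := by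
  classical
  have h1 : ∀ x : G, x ∉ N → IsPrimePow (orderOf x) := fun x hx => (h x hx).1
  obtain ⟨x0, hx0⟩ : ∃ x0 : G, x0 ∉ N := by
    by_contra hcon
    push Not at hcon
    exact hN (eq_top_iff.2 fun x _ => hcon x)
  obtain ⟨p, k, hp, hk, hpk⟩ := (isPrimePow_nat_iff _).1 (h1 x0 hx0)
  haveI : Fact p.Prime := ⟨hp⟩
  have hC0 := cent_isPGroup N h1 hp x0 hx0 hpk.symm
  obtain ⟨P0, hle0⟩ := hC0.exists_le_sylow
  -- G a p-group?
  by_cases hGp : IsPGroup p G
  · exact solvable_of_pgroup N (hGp.to_subgroup N)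
  have hnotTop : ∀ P' : Sylow p G, (P' : Subgroup G) ≠ ⊤ := by
    intro P' hP'
    apply hGp
    intro g
    obtain ⟨j, hj⟩ := P'.2 ⟨g, by rw [hP']; trivial⟩
    exact ⟨j, congrArg Subtype.val hj⟩
  have hco0 : IsCoatom (Subgroup.centralizer ({x0} : Set G)) := (h x0 hx0).2
  have hP0 : (P0 : Subgroup G) = Subgroup.centralizer ({x0} : Set G) :=
    (hco0.le_iff_eq (hnotTop P0)).1 hle0
  have hco : IsCoatom (P0 : Subgroup G) := hP0 ▸ hco0
  by_cases hNP : N ≤ P0
  · exact solvable_of_pgroup N (P0.2.to_le hNP)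
  have hsup : (P0 : Subgroup G) ⊔ N = ⊤ := by
    rcases hco.le_iff.1 (le_sup_left : (P0 : Subgroup G) ≤ (P0 : Subgroup G) ⊔ N) with h2 | h2
    · exact h2
    · exact absurd (h2 ▸ le_sup_right) hNP
  -- every element has a p-power in N
  have hpow : ∀ g : G, ∃ a : ℕ, g ^ (p ^ a) ∈ N := by
    intro g
    have hg : g ∈ (P0 : Subgroup G) ⊔ N := by rw [hsup]; trivial
    obtain ⟨u, hu, n, hn, rfl⟩ := Subgroup.mem_sup_of_normal_right.1 hg
    obtain ⟨a, ha⟩ := P0.2 ⟨u, hu⟩
    have ha' : u ^ (p ^ a) = 1 := congrArg Subtype.val ha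
    refine ⟨a, ?_⟩
    rw [← QuotientGroup.eq_one_iff, QuotientGroup.mk_pow, QuotientGroup.mk_mul,
      (QuotientGroup.eq_one_iff n).2 hn, mul_one, ← QuotientGroup.mk_pow, ha', QuotientGroup.mk_one]
  -- every element outside N is a p-element
  have hpelt : ∀ x : G, x ∉ N → ∃ j, orderOf x = p ^ j := by
    intro x hx
    obtain ⟨r, j, hr, hj, hrj⟩ := (isPrimePow_nat_iff _).1 (h1 x hx)
    by_cases hrp : r = p
    · subst hrp; exact ⟨j, hrj.symm⟩
    exfalso
    obtain ⟨a, ha⟩ := hpow x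
    have hcop : (p ^ a).Coprime (orderOf x) := by
      rw [← hrj]
      exact Nat.Coprime.pow _ _ ((Nat.coprime_primes hp hr).2 (Ne.symm hrp))
    obtain ⟨m, hm⟩ := exists_pow_eq_self_of_coprime hcop
    exact hx (hm ▸ N.pow_mem ha m)
  -- centralizers are Sylow
  have hSyl : ∀ x : G, x ∉ N → ∃ P' : Sylow p G,
      (P' : Subgroup G) = Subgroup.centralizer ({x} : Set G) := by
    intro x hx
    obtain ⟨j, hj⟩ := hpelt x hx
    obtain ⟨P', hle⟩ := (cent_isPGroup N h1 hp x hx hj).exists_le_sylow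
    exact ⟨P', ((h x hx).2.le_iff_eq (hnotTop P')).1 hle⟩
  have hconj : ∀ x : G, x ∉ N → ∃ g : G, g⁻¹ * x * g ∈ (P0 : Subgroup G) ∧
      ∀ u ∈ (P0 : Subgroup G), u * (g⁻¹ * x * g) = (g⁻¹ * x * g) * u := by
    intro x hx
    obtain ⟨P', hP'⟩ := hSyl x hx
    obtain ⟨g, hg⟩ := MulAction.exists_smul_eq G P0 P'
    have hmem : ∀ v : G, v ∈ (P0 : Subgroup G) → g * v * g⁻¹ ∈ Subgroup.centralizer ({x} : Set G) := by
      intro v hv
      rw [← hP', ← hg, Sylow.coe_subgroup_smul]
      exact Subgroup.smul_mem_pointwise_smul v (MulAut.conj g) _ hv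
    have hxP' : x ∈ (P' : Subgroup G) := by
      rw [hP', Subgroup.mem_centralizer_singleton_iff]
    have hxP0 : g⁻¹ * x * g ∈ (P0 : Subgroup G) := by
      rw [← hg, Sylow.coe_subgroup_smul, Subgroup.mem_pointwise_smul_iff_inv_smul_mem] at hxP'
      simpa [MulAut.smul_def, mul_assoc] using hxP'
    refine ⟨g, hxP0, fun u hu => ?_⟩
    have := hmem u hu
    rw [Subgroup.mem_centralizer_singleton_iff] at this
    -- this : g * u * g⁻¹ * x = x * (g * u * g⁻¹)
    have e : u * (g⁻¹ * x * g) = g⁻¹ * (g * u * g⁻¹ * x) * g := by group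
    rw [e, this]; group
  have hcent := central_of_count N (P0 : Subgroup G) hsup hconj
  -- P0 is commutative
  obtain ⟨c, hcP, hcN⟩ : ∃ c : G, c ∈ (P0 : Subgroup G) ∧ c ∉ N := by
    by_contra hcon
    push Not at hcon
    have : (P0 : Subgroup G) ≤ N := fun c hc => hcon c hc
    exact hN (eq_top_iff.2 (hsup ▸ sup_le this le_rfl))
  have hcomm : ∀ a ∈ (P0 : Subgroup G), ∀ b ∈ (P0 : Subgroup G), a * b = b * a := by
    intro a ha b hb
    by_cases haN : a ∈ N
    · by_cases hbN : b ∈ N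
      · have hacN : a * c ∉ N := fun hh => hcN (by
          have := N.mul_mem (N.inv_mem haN) hh
          simpa using this)
        have e1 := hcent (a * c) (P0.1.mul_mem ha hcP) hacN b hb
        have e2 := hcent c hcP hcN b hb
        -- e1 : b * (a * c) = a * c * b ; e2 : b * c = c * b
        have : a * b * c = b * a * c := by
          calc a * b * c = a * (b * c) := by group
            _ = a * (c * b) := by rw [e2]
            _ = a * c * b := by group
            _ = b * (a * c) := e1.symm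
            _ = b * a * c := by group
        exact mul_right_cancel this
      · exact hcent b hb hbN a ha
    · exact (hcent a ha haN b hb).symm
  haveI : IsMulCommutative (P0 : Subgroup G) :=
    ⟨⟨fun a b => Subtype.ext (hcomm a.1 a.2 b.1 b.2)⟩⟩
  have hder := Cfsg.Agent.S0556.result (P0 : Subgroup G) hco
  haveI : Group.IsSolvable G := (Group.isSolvable_def G).2 ⟨3, hder⟩
  infer_instance


/-- Let N be a proper normal subgroup of the finite group G such that every element x of G outside N has prime power order and has centralizer C_G(x) a maximal subgroup of G. Then N is solvable. -/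
theorem result {G : Type*} [Group G] [Finite G] (N : Subgroup G) [N.Normal] (hN : N ≠ ⊤)
    (h : ∀ x : G, x ∉ N → IsPrimePow (orderOf x) ∧ IsCoatom (Subgroup.centralizer ({x} : Set G))) : Group.IsSolvable ↥N := by
  exact main N hN h

end Cfsg.Agent.S3903
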