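import Cfsg.Statements.S3910
import Mathlib
import Cfsg.Agent.Lib.Helper1.PGroup
import Cfsg.Agent.Lib.Helper1.Fitting

set_option autoImplicit false
open Cfsg

namespace Cfsg.Agent.S3910


theorem sylow_isCyclic_aux {G : Type*} [Group G] [Finite G]
    (hB : ∀ A B : Subgroup G, IsMulCommutative ↥A → IsMulCommutative ↥B → Nat.card ↥A = Nat.card ↥B → ∃ g : G, B = A.map (MulAut.conj g).toMonoidHom)
    (hnil : Group.IsNilpotent G) (p : ℕ) (hp : p.Prime) (P : Sylow p G) : IsCyclic ↥P := by
  classical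
  haveI : Fact p.Prime := ⟨hp⟩
  have hsyl : ∀ (q : ℕ) (_ : Fact q.Prime) (Q : Sylow q G), (Q : Subgroup G).Normal :=
    ((Group.isNilpotent_of_finite_tfae (G := G)).out 0 3 rfl rfl).mp hnil
  have hPn : (P : Subgroup G).Normal := hsyl p inferInstance P
  have hPp : IsPGroup p ↥(P : Subgroup G) := P.isPGroup'
  -- element of maximal order
  obtain ⟨b, hb⟩ := Finite.exists_max (fun x : ↥(P : Subgroup G) => orderOf x)
  by_contra hcyc
  have hne : Subgroup.zpowers b ≠ ⊤ := by
    intro h
    apply hcyc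
    exact ⟨⟨b, fun x => by
      have : x ∈ Subgroup.zpowers b := h ▸ Subgroup.mem_top x
      exact this⟩⟩
  obtain ⟨M, hM, hbM⟩ := (eq_top_or_exists_le_coatom (Subgroup.zpowers b)).resolve_left hne
  have hMn : M.Normal := Cfsg.Agent.Lib.Helper1.IsPGroup.coatom_normal hPp M hM
  -- M' normal in G
  set M' : Subgroup G := M.map (P : Subgroup G).subtype with hM'
  have hM'P : M' ≤ (P : Subgroup G) := Subgroup.map_subtype_le M
  have hnorm : Subgroup.normalizer (M' : Set G) = ⊤ := by
    apply Cfsg.Agent.Lib.Helper1.eq_top_of_forall_sylow_le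
    intro q hq
    by_cases hqp : q = p
    · subst hqp
      refine ⟨P, ?_⟩
      have h1 : Subgroup.normalizer (M : Set ↥(P : Subgroup G)) = ⊤ := Subgroup.normalizer_eq_top_iff.mpr hMn
      have h2 := Subgroup.le_normalizer_map (H := M) (P : Subgroup G).subtype
      rw [h1, ← MonoidHom.range_eq_map, Subgroup.range_subtype] at h2
      exact h2
    · obtain ⟨Q⟩ : Nonempty (Sylow q G) := inferInstance
      refine ⟨Q, ?_⟩
      have hQn : (Q : Subgroup G).Normal := hsyl q hq Q
      have hdisj : Disjoint (Q : Subgroup G) (P : Subgroup G) :=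
        IsPGroup.disjoint_of_ne q p hqp _ _ Q.isPGroup' P.isPGroup'
      intro x hx
      have hcomm : ∀ y ∈ (P : Subgroup G), x * y * x⁻¹ = y := by
        intro y hy
        have := Subgroup.commute_of_normal_of_disjoint _ _ hQn hPn hdisj x y hx hy
        rw [this.eq, mul_inv_cancel_right]
      rw [Subgroup.mem_normalizer_iff]
      intro h
      constructor
      · intro hh
        rw [hcomm h (hM'P hh)]
        exact hh
      · intro hh
        have h1 : x * h * x⁻¹ ∈ (P : Subgroup G) := hM'P hh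
        have h2 : h ∈ (P : Subgroup G) := by
          have := hPn.conj_mem _ h1 x⁻¹
          simpa [mul_assoc] using this
        rw [hcomm h h2] at hh
        exact hh
  have hM'n : M'.Normal := Subgroup.normalizer_eq_top_iff.mp hnorm
  -- an element outside M
  obtain ⟨a, ha⟩ : ∃ a : ↥(P : Subgroup G), a ∉ M := by
    by_contra hcon
    push Not at hcon
    exact hM.1 (eq_top_iff.mpr fun x _ => hcon x)
  obtain ⟨i, hi⟩ := (IsPGroup.iff_orderOf.mp hPp) a
  obtain ⟨j, hj⟩ := (IsPGroup.iff_orderOf.mp hPp) b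
  have hij : i ≤ j := by
    have h1 : orderOf a ≤ orderOf b := hb a
    rw [hi, hj] at h1
    exact (Nat.pow_le_pow_iff_right hp.one_lt).mp h1
  set c : ↥(P : Subgroup G) := b ^ (p ^ (j - i)) with hc
  have hcM : c ∈ M := M.pow_mem (hbM (Subgroup.mem_zpowers b)) _
  have hco : orderOf c = p ^ i := by
    have hdvd : p ^ (j - i) ∣ orderOf b := by rw [hj]; exact pow_dvd_pow p (Nat.sub_le j i)
    rw [hc, orderOf_pow_of_dvd (pow_ne_zero _ hp.ne_zero) hdvd, hj]
    exact Nat.pow_div (Nat.sub_le j i) hp.pos |>.trans (by congr 1; omega)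
  have hcard : Nat.card ↥(Subgroup.zpowers (c : G)) = Nat.card ↥(Subgroup.zpowers (a : G)) := by
    rw [Nat.card_zpowers, Nat.card_zpowers, Subgroup.orderOf_coe, Subgroup.orderOf_coe, hco, hi]
  obtain ⟨g, hg⟩ := hB (Subgroup.zpowers (c : G)) (Subgroup.zpowers (a : G)) inferInstance inferInstance hcard
  have haA : (a : G) ∈ (Subgroup.zpowers (c : G)).map (MulAut.conj g).toMonoidHom := by
    rw [← hg]; exact Subgroup.mem_zpowers _
  obtain ⟨y, hy, hya⟩ := Subgroup.mem_map.mp haA
  have hcM' : (c : G) ∈ M' := Subgroup.mem_map.mpr ⟨c, hcM, rfl⟩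
  have hyM' : y ∈ M' := (Subgroup.zpowers_le.mpr hcM') hy
  have haM' : (a : G) ∈ M' := by
    rw [← hya]
    simp only [MulEquiv.toMonoidHom_eq_coe, MonoidHom.coe_coe, MulAut.conj_apply]
    exact hM'n.conj_mem y hyM' g
  obtain ⟨a', ha', haa'⟩ := Subgroup.mem_map.mp haM'
  have : a' = a := Subtype.ext haa'
  exact ha (this ▸ ha')

/-- A finite nilpotent group in which any two abelian subgroups of the same order are conjugate is cyclic. -/
theorem result {G : Type*} [Group G] [Finite G] (hB : ∀ A B : Subgroup G, IsMulCommutative ↥A → IsMulCommutative ↥B → Nat.card ↥A = Nat.card ↥B → ∃ g : G, B = A.map (MulAut.conj g).toMonoidHom) (hnil : Group.IsNilpotent G) : IsCyclic G := by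
  classical
  haveI := hnil
  haveI : IsZGroup G := ⟨fun p hp P => sylow_isCyclic_aux hB hnil p hp P⟩
  infer_instance

end Cfsg.Agent.S3910
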