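import Cfsg.Statements.S3917
import Mathlib

set_option autoImplicit false
open Cfsg

namespace Cfsg.Agent.S3917

theorem cyclic_card_le {K : Type*} [Group K] [Finite K] [IsCyclic K] (p : ℕ) (hp : 0 < p)
    (h : ∀ a : K, a ^ p = 1) : Nat.card K ≤ p := by
  rw [← IsCyclic.exponent_eq_card]
  exact Nat.le_of_dvd hp (Monoid.exponent_dvd_of_forall_pow_eq_one h)

theorem exists_prime_big_torsion {G : Type*} [CommGroup G] [Finite G] (h : ¬ IsCyclic G) :
    ∃ p : ℕ, p.Prime ∧ p < Nat.card (powMonoidHom p : G →* G).ker := by
  classical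
  haveI := Fintype.ofFinite G
  have key : ∃ n, 0 < n ∧ n < Nat.card (powMonoidHom n : G →* G).ker := by
    by_contra hcon
    push Not at hcon
    apply h
    apply isCyclic_of_card_pow_eq_one_le
    intro n hn
    have h1 := hcon n hn
    have h2 : Nat.card (powMonoidHom n : G →* G).ker =
        (Finset.univ.filter (fun a : G => a ^ n = 1)).card := by
      rw [Nat.card_eq_fintype_card]
      apply Fintype.card_of_subtype
      intro x
      simp [MonoidHom.mem_ker]
    rw [h2] at h1
    exact h1
  have hn := Nat.find_spec key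
  have hmin : ∀ m, m < Nat.find key → ¬ (0 < m ∧ m < Nat.card (powMonoidHom m : G →* G).ker) :=
    fun m hm => Nat.find_min key hm
  set n := Nat.find key with hndef
  have hn1 : n ≠ 1 := by
    intro h1
    have h2 := hn.2
    rw [h1] at h2
    have : (powMonoidHom 1 : G →* G).ker = ⊥ := by
      ext a
      simp [MonoidHom.mem_ker]
    rw [this, Subgroup.card_bot] at h2
    exact lt_irrefl _ h2
  set p := n.minFac with hpdef
  have hp : p.Prime := Nat.minFac_prime hn1
  obtain ⟨m, hm⟩ : p ∣ n := Nat.minFac_dvd n
  have hmpos : 0 < m := by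
    rcases Nat.eq_zero_or_pos m with h0 | h0
    · rw [h0, mul_zero] at hm; omega
    · exact h0
  have hmlt : m < n := by
    rw [hm]
    have := hp.one_lt
    nlinarith
  have hKm : Nat.card (powMonoidHom m : G →* G).ker ≤ m := by
    have := hmin m hmlt
    push Not at this
    exact this hmpos
  -- the map K_n → G, a ↦ a ^ m
  let Kn : Subgroup G := (powMonoidHom n : G →* G).ker
  let φ : Kn →* G := (powMonoidHom m : G →* G).comp Kn.subtype
  have hcard : Nat.card φ.ker * Nat.card φ.range = Nat.card Kn := by
    have := Subgroup.card_mul_index φ.ker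
    rwa [Subgroup.index_ker] at this
  have hker : Nat.card φ.ker ≤ Nat.card (powMonoidHom m : G →* G).ker := by
    rw [← Subgroup.card_subtype Kn φ.ker]
    apply Subgroup.card_le_of_le
    rintro _ ⟨a, ha, rfl⟩
    exact ha
  have hrange : Nat.card φ.range ≤ Nat.card (powMonoidHom p : G →* G).ker := by
    apply Subgroup.card_le_of_le
    rintro _ ⟨a, rfl⟩
    rw [MonoidHom.mem_ker]
    have ha : (a : G) ^ n = 1 := a.2
    simp only [φ, MonoidHom.comp_apply, Subgroup.subtype_apply, powMonoidHom_apply]
    rw [← pow_mul, mul_comm, ← hm, ha]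
  refine ⟨p, hp, ?_⟩
  have h3 : p * m < Nat.card (powMonoidHom m : G →* G).ker * Nat.card (powMonoidHom p : G →* G).ker := by
    calc p * m = n := hm.symm
      _ < Nat.card Kn := hn.2
      _ = Nat.card φ.ker * Nat.card φ.range := hcard.symm
      _ ≤ _ := Nat.mul_le_mul hker hrange
  by_contra hle
  push Not at hle
  have : Nat.card (powMonoidHom m : G →* G).ker * Nat.card (powMonoidHom p : G →* G).ker ≤ m * p :=
    Nat.mul_le_mul hKm hle
  rw [mul_comm m p] at this
  omega

/-- Say that a group has self-centralizing non-cyclic subgroups when every non-cyclic subgroup H satisfies C_G(H) ≤ H. A finite abelian group with self-centralizing non-cyclic subgroups is cyclic or elementary abelian of order p² for a prime p. -/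
theorem result {G : Type*} [CommGroup G] [Finite G] (hX : (∀ H : Subgroup G, ¬ IsCyclic ↥H → Subgroup.centralizer (H : Set G) ≤ H)) :
    IsCyclic G ∨ ∃ p : ℕ, p.Prime ∧ Nat.card G = p ^ 2 ∧ Monoid.exponent G = p := by
  classical
  by_cases hcyc : IsCyclic G
  · exact Or.inl hcyc
  right
  have hX' : ∀ H : Subgroup G, ¬ IsCyclic ↥H → H = ⊤ := by
    intro H hH
    have h1 := hX H hH
    have h2 : Subgroup.centralizer (H : Set G) = ⊤ := by
      rw [Subgroup.centralizer_eq_top_iff_subset, CommGroup.center_eq_top]
      exact fun _ _ => Subgroup.mem_top _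
    rw [h2] at h1
    exact top_le_iff.mp h1
  obtain ⟨p, hp, hlt⟩ := exists_prime_big_torsion hcyc
  haveI : Fact p.Prime := ⟨hp⟩
  set K : Subgroup G := (powMonoidHom p : G →* G).ker with hK
  have hKnc : ¬ IsCyclic K := by
    intro hc
    have := cyclic_card_le (K := K) p hp.pos (by
      intro a
      apply Subtype.ext
      have : (a : G) ^ p = 1 := a.2
      simpa using this)
    omega
  have hKtop : K = ⊤ := hX' K hKnc
  have hpow : ∀ a : G, a ^ p = 1 := by
    intro a
    have : a ∈ K := by rw [hKtop]; exact Subgroup.mem_top a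
    exact this
  have hcardK : Nat.card K = Nat.card G := by
    rw [hKtop, Subgroup.card_top]
  have hexp : Monoid.exponent G = p := by
    have hd : Monoid.exponent G ∣ p := Monoid.exponent_dvd_of_forall_pow_eq_one hpow
    rcases (Nat.dvd_prime hp).mp hd with h1 | h1
    · exfalso
      rw [Monoid.exp_eq_one_iff] at h1
      have : Nat.card G = 1 := Nat.card_unique
      have := hp.one_lt
      omega
    · exact h1
  have hPG : IsPGroup p G := fun g => ⟨1, by rw [pow_one]; exact hpow g⟩
  obtain ⟨k, hk⟩ := IsPGroup.iff_card.mp hPG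
  have hk2 : 2 ≤ k := by
    by_contra hk2
    push Not at hk2
    have : p ^ k ≤ p ^ 1 := Nat.pow_le_pow_right hp.pos (by omega)
    rw [pow_one] at this
    omega
  have hdvd : p ^ 2 ∣ Nat.card G := by
    rw [hk]; exact pow_dvd_pow p hk2
  obtain ⟨H, hH⟩ := Sylow.exists_subgroup_card_pow_prime p hdvd
  have hHnc : ¬ IsCyclic H := by
    intro hc
    have := cyclic_card_le (K := H) p hp.pos (by
      intro a
      apply Subtype.ext
      simpa using hpow (a : G))
    rw [hH] at this
    have := hp.one_lt
    nlinarith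
  have hHtop : H = ⊤ := hX' H hHnc
  refine ⟨p, hp, ?_, hexp⟩
  rw [← hH, hHtop, Subgroup.card_top]

end Cfsg.Agent.S3917
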