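import Cfsg.Statements.S3918
import Mathlib
import Cfsg.Agent.Lib.Helper20.NormalRankTwoB

set_option autoImplicit false
open Cfsg

namespace Cfsg.Agent.S3918

open scoped commutatorElement
open Cfsg.Agent.Lib.Helper20

/-- Say that a group has self-centralizing non-cyclic subgroups when every non-cyclic subgroup H satisfies C_G(H) ≤ H. For an odd prime p, a finite non-abelian p-group has self-centralizing non-cyclic subgroups if and only if it has order p³. -/
theorem result {G : Type*} [Group G] [Finite G] {p : ℕ} [Fact p.Prime] (hp : p ≠ 2) (hG : IsPGroup p G) (hna : ¬ IsMulCommutative G) :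
    (∀ H : Subgroup G, ¬ IsCyclic ↥H → Subgroup.centralizer (H : Set G) ≤ H) ↔ Nat.card G = p ^ 3 := by
  classical
  have hpp : p.Prime := Fact.out
  obtain ⟨n, hn⟩ := IsPGroup.iff_card.mp hG
  have hn3 : 3 ≤ n := by
    by_contra hlt
    apply hna
    have hn2 : n ≤ 2 := by omega
    interval_cases n
    · rw [pow_zero] at hn
      haveI : Subsingleton G := (Nat.card_eq_one_iff_unique.mp hn).1
      exact ⟨⟨fun a b => Subsingleton.elim _ _⟩⟩
    · rw [pow_one] at hn
      haveI := isCyclic_of_prime_card hn
      exact IsCyclic.isMulCommutative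
    · exact IsPGroup.isMulCommutative_of_card_eq_prime_sq hn
  constructor
  · intro hSC
    have hnc : ¬ IsCyclic G := fun h => hna (by haveI := h; exact IsCyclic.isMulCommutative)
    obtain ⟨M, hMn, hMc, hMexp, hMcard⟩ := exists_normal_elemAb_of_not_isCyclic hp hG hnc
    haveI := hMn
    have hMnc : ¬ IsCyclic ↥M := by
      intro hcyc
      obtain ⟨g, hg⟩ := hcyc.exists_generator
      have h1 : orderOf g = Nat.card M := orderOf_eq_card_of_forall_mem_zpowers hg
      have h2 : g ^ p = 1 := by
        apply Subtype.ext
        simp only [Subgroup.coe_pow, Subgroup.coe_one]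
        exact hMexp g g.2
      have h3 : orderOf g ∣ p := orderOf_dvd_of_pow_eq_one h2
      rw [h1, hMcard] at h3
      have h4 := Nat.le_of_dvd hpp.pos h3
      have h5 : p ^ 1 < p ^ 2 := Nat.pow_lt_pow_right hpp.one_lt (by norm_num)
      rw [pow_one] at h5
      omega
    have hCM : Subgroup.centralizer (M : Set G) ≤ M := hSC M hMnc
    -- central subgroup of order p in M
    have hMne : M ≠ ⊥ := by
      intro h
      rw [h, Subgroup.card_bot] at hMcard
      have : 1 < p ^ 2 := Nat.one_lt_pow (by norm_num) hpp.one_lt
      omega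
    obtain ⟨z, hzM, hz1, hzc⟩ := Cfsg.Agent.Lib.Helper12.exists_ne_one_mem_center_of_normal hG M hMne
    have hZc : Subgroup.zpowers z ≤ Subgroup.center G := Subgroup.zpowers_le.mpr hzc
    haveI hZn : (Subgroup.zpowers z).Normal := normal_of_le_center' _ hZc
    have hZcard : Nat.card (Subgroup.zpowers z) = p := by
      rw [Nat.card_zpowers, orderOf_eq_prime (hMexp z hzM) hz1]
    have hZM : Subgroup.zpowers z ≤ M := Subgroup.zpowers_le.mpr hzM
    -- image of M in the quotient has order p, hence is central
    haveI hMbar : (M.map (QuotientGroup.mk' (Subgroup.zpowers z))).Normal :=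
      Subgroup.Normal.map inferInstance _ (QuotientGroup.mk'_surjective _)
    have hMbarcard : Nat.card (M.map (QuotientGroup.mk' (Subgroup.zpowers z))) = p := by
      have h1 := card_comap_mk'_eq (Subgroup.zpowers z) (M.map (QuotientGroup.mk' (Subgroup.zpowers z)))
      rw [QuotientGroup.comap_map_mk', sup_eq_right.mpr hZM, hMcard, hZcard, pow_two] at h1
      exact (Nat.eq_of_mul_eq_mul_right hpp.pos h1).symm
    have hMbarc := le_center_of_normal_of_card_eq_prime (hG.to_quotient (Subgroup.zpowers z))
      (M.map (QuotientGroup.mk' (Subgroup.zpowers z))) hMbarcard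
    have hcomm : ∀ g : G, ∀ m ∈ M, ⁅g, m⁆ ∈ Subgroup.zpowers z := by
      intro g m hm
      rw [← QuotientGroup.eq_one_iff]
      have hmem : QuotientGroup.mk' (Subgroup.zpowers z) m ∈ M.map (QuotientGroup.mk' (Subgroup.zpowers z)) :=
        Subgroup.mem_map_of_mem _ hm
      have hc := Subgroup.mem_center_iff.mp (hMbarc hmem) (QuotientGroup.mk g)
      simp only [QuotientGroup.mk'_apply] at hc
      simp only [commutatorElement_def, QuotientGroup.mk_mul, QuotientGroup.mk_inv]
      rw [hc]; group
    -- m ∈ M \ Z₀
    obtain ⟨m, hmM, hmZ⟩ : ∃ m ∈ M, m ∉ Subgroup.zpowers z := by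
      by_contra hcon
      have hle : M ≤ Subgroup.zpowers z := by
        intro x hx
        by_contra hxz
        exact hcon ⟨x, hx, hxz⟩
      have h1 := Subgroup.card_le_of_le hle
      rw [hMcard, hZcard] at h1
      have h5 : p ^ 1 < p ^ 2 := Nat.pow_lt_pow_right hpp.one_lt (by norm_num)
      rw [pow_one] at h5
      omega
    have hMeq : Subgroup.zpowers z ⊔ Subgroup.zpowers m = M := by
      apply Subgroup.eq_of_le_of_card_ge (sup_le hZM (Subgroup.zpowers_le.mpr hmM))
      have h1 := card_mul_le_card_of_lt hpp hG (le_sup_left : Subgroup.zpowers z ≤ Subgroup.zpowers z ⊔ Subgroup.zpowers m)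
        (fun h => hmZ (h (Subgroup.mem_sup_right (Subgroup.mem_zpowers m))))
      rw [hZcard] at h1
      rw [hMcard, pow_two]; exact h1
    have hCm : Subgroup.centralizer ({m} : Set G) ≤ Subgroup.centralizer (M : Set G) := by
      intro g hg
      rw [mem_centralizer_singleton_iff'] at hg
      have hle : M ≤ Subgroup.centralizer ({g} : Set G) := by
        rw [← hMeq]
        apply sup_le
        · intro x hx
          rw [mem_centralizer_singleton_iff']
          exact Subgroup.mem_center_iff.mp (hZc hx) g
        · rw [Subgroup.zpowers_le, mem_centralizer_singleton_iff']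
          exact hg.symm
      rw [Subgroup.mem_centralizer_iff]
      intro x hx
      exact ((mem_centralizer_singleton_iff' g x).mp (hle hx)).symm
    have hidx : (Subgroup.centralizer ({m} : Set G)).index ∣ p := by
      have := relIndex_centralizer_dvd_card (Subgroup.zpowers z) hZc m (fun g => hcomm g m hmM) ⊤
      rwa [Subgroup.relIndex_top_right, hZcard] at this
    have hle : Nat.card G ≤ p ^ 3 := by
      have h1 := Subgroup.card_mul_index (Subgroup.centralizer ({m} : Set G))
      have h2 : Nat.card (Subgroup.centralizer ({m} : Set G)) ≤ p ^ 2 := by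
        rw [← hMcard]; exact Subgroup.card_le_of_le (hCm.trans hCM)
      have h3 := Nat.le_of_dvd hpp.pos hidx
      rw [← h1]
      calc Nat.card (Subgroup.centralizer ({m} : Set G)) * (Subgroup.centralizer ({m} : Set G)).index
          ≤ p ^ 2 * p := Nat.mul_le_mul h2 h3
        _ = p ^ 3 := by ring
    have hge : p ^ 3 ≤ Nat.card G := by rw [hn]; exact Nat.pow_le_pow_right hpp.pos hn3
    exact le_antisymm hle hge
  · intro hcard H hHnc
    obtain ⟨j, hj⟩ := IsPGroup.iff_card.mp (hG.to_subgroup H)
    have hHidx := Subgroup.card_mul_index H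
    rw [hcard, hj] at hHidx
    have hj3 : j ≤ 3 := by
      have h1 : p ^ j ∣ p ^ 3 := ⟨_, hHidx.symm⟩
      exact (Nat.pow_dvd_pow_iff_le_right hpp.one_lt).mp h1
    have hj2 : 2 ≤ j := by
      by_contra hlt
      apply hHnc
      have hj1 : j ≤ 1 := by omega
      interval_cases j
      · rw [pow_zero] at hj
        haveI : Subsingleton ↥H := (Nat.card_eq_one_iff_unique.mp hj).1
        exact isCyclic_of_subsingleton
      · rw [pow_one] at hj
        exact isCyclic_of_prime_card hj
    rcases Nat.lt_or_ge j 3 with hlt | hge3
    · have hj' : j = 2 := by omega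
      rw [hj'] at hj hHidx
      have hidx : H.index = p := by
        have : p ^ 2 * H.index = p ^ 2 * p := by rw [hHidx]; ring
        exact Nat.eq_of_mul_eq_mul_left (pow_pos hpp.pos 2) this
      have hHc : IsMulCommutative ↥H := IsPGroup.isMulCommutative_of_card_eq_prime_sq hj
      have hHcomm : ∀ a ∈ H, ∀ b ∈ H, a * b = b * a := fun a ha b hb =>
        congrArg Subtype.val (isMulCommutative_iff.mp hHc ⟨a, ha⟩ ⟨b, hb⟩)
      by_contra hnle
      have hHK : H ≤ Subgroup.centralizer (H : Set G) := by
        intro a ha
        rw [Subgroup.mem_centralizer_iff]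
        intro b hb
        exact hHcomm b hb a ha
      have htop := eq_top_of_index_prime hpp hidx hHK hnle
      have hHZ : H ≤ Subgroup.center G := by
        intro a ha
        rw [Subgroup.mem_center_iff]
        intro g
        have hg : g ∈ Subgroup.centralizer (H : Set G) := htop ▸ Subgroup.mem_top g
        exact ((Subgroup.mem_centralizer_iff.mp hg) a ha).symm
      have hZH : Subgroup.center G ≤ H := by
        by_contra hZnle
        have hZtop := eq_top_of_index_prime hpp hidx hHZ hZnle
        apply hna
        rw [isMulCommutative_iff]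
        intro a b
        have hb : b ∈ Subgroup.center G := hZtop ▸ Subgroup.mem_top b
        exact Subgroup.mem_center_iff.mp hb a
      have hZeq : Subgroup.center G = H := le_antisymm hZH hHZ
      have hquot : Nat.card (G ⧸ Subgroup.center G) = p := by
        rw [← Subgroup.index_eq_card, hZeq, hidx]
      haveI : IsCyclic (G ⧸ Subgroup.center G) := isCyclic_of_prime_card hquot
      exact hna (MonoidHom.isMulCommutative_of_isCyclic_of_ker_le_center
        (QuotientGroup.mk' (Subgroup.center G)) (by rw [QuotientGroup.ker_mk']))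
    · have hj' : j = 3 := by omega
      rw [hj'] at hj
      have : H = ⊤ := Subgroup.eq_top_of_card_eq H (by rw [hj, hcard])
      rw [this]
      exact le_top

end Cfsg.Agent.S3918
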