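import Cfsg.Statements.S3919
import Mathlib
import Cfsg.Agent.Lib.Helper20.MaxClassSelfCent

set_option autoImplicit false
open Cfsg

namespace Cfsg.Agent.S3919

/-- Say that a group has self-centralizing non-cyclic subgroups when every non-cyclic subgroup H satisfies C_G(H) ≤ H. A finite non-abelian 2-group G of order 2^n has self-centralizing non-cyclic subgroups if and only if G has nilpotency class n − 1 (that is, G is dihedral, semidihedral or generalized quaternion). -/
theorem result {G : Type*} [Group G] [Finite G] (hna : ¬ IsMulCommutative G) (n : ℕ) (hG : Nat.card G = 2 ^ n) :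
    (∀ H : Subgroup G, ¬ IsCyclic ↥H → Subgroup.centralizer (H : Set G) ≤ H) ↔ (⊤ : Subgroup G).lowerCentralSeries (n - 2) ≠ ⊥ := by
  have hP : IsPGroup 2 G := IsPGroup.of_card hG
  constructor
  · intro hS
    exact Cfsg.Agent.Lib.Helper20.MCS.lcs_ne_bot_of_selfCent hna n hG hS
  · intro hlcs H hH
    haveI : Group.IsNilpotent G := hP.isNilpotent
    have hn3 : 3 ≤ n := by
      by_contra hlt
      apply hna
      have hn012 : n = 0 ∨ n = 1 ∨ n = 2 := by omega
      rcases hn012 with rfl | rfl | rfl
      · rw [pow_zero] at hG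
        haveI : Subsingleton G := (Nat.card_eq_one_iff_unique.mp hG).1
        exact ⟨⟨fun a b => Subsingleton.elim _ _⟩⟩
      · rw [pow_one] at hG
        haveI : Fact (Nat.Prime 2) := ⟨Nat.prime_two⟩
        haveI := isCyclic_of_prime_card hG
        refine ⟨⟨fun a b => ?_⟩⟩
        obtain ⟨g, hg⟩ := IsCyclic.exists_generator (α := G)
        obtain ⟨i, rfl⟩ := Subgroup.mem_zpowers_iff.mp (hg a)
        obtain ⟨j, rfl⟩ := Subgroup.mem_zpowers_iff.mp (hg b)
        exact ((Commute.refl g).zpow_zpow i j).eq
      · haveI : Fact (Nat.Prime 2) := ⟨Nat.prime_two⟩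
        exact IsPGroup.isMulCommutative_of_card_eq_prime_sq hG
    have h1 : ¬ Group.nilpotencyClass G ≤ n - 2 := by
      intro hle
      exact hlcs (Subgroup.lowerCentralSeries_eq_bot_iff_nilpotencyClass_le.mpr hle)
    haveI : Fact (Nat.Prime 2) := ⟨Nat.prime_two⟩
    have h2 := Cfsg.Agent.Lib.Helper1.nilpotencyClass_le_of_card_pow (p := 2) n G hG
    have h3 : max 1 (n - 1) = n - 1 := max_eq_right (by omega)
    rw [h3] at h2
    have hc : Group.nilpotencyClass G = n - 1 := by omega
    exact Cfsg.Agent.Lib.Helper20.MCS.centralizer_le_of_maximal_class n hn3 hG hc H hH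

end Cfsg.Agent.S3919
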