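import Cfsg.Statements.S3920
import Mathlib

set_option autoImplicit false
open Cfsg

namespace Cfsg.Agent.S3920

open DihedralGroup in
/-- `2k = 0` in `ZMod n` forces `k = 0` or `2 * k.val = n`. -/
theorem zmod_two_mul_eq_zero {n : ℕ} [NeZero n] (k : ZMod n) (h : 2 * k = 0) :
    k = 0 ∨ 2 * k.val = n := by
  have hv : k.val < n := ZMod.val_lt k
  have hk : ((k.val : ℕ) : ZMod n) = k := ZMod.natCast_zmod_val k
  have h2 : ((2 * k.val : ℕ) : ZMod n) = 0 := by
    push_cast; rw [hk]; exact h
  rw [ZMod.natCast_eq_zero_iff] at h2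
  obtain ⟨c, hc⟩ := h2
  rcases Nat.eq_zero_or_pos c with h0 | h0
  · left
    have : k.val = 0 := by rw [h0] at hc; omega
    exact (ZMod.val_eq_zero k).mp this
  · right
    have : c = 1 := by nlinarith
    rw [this] at hc; omega

open DihedralGroup in
theorem centralizer_le_of_cond {n : ℕ} (hn : 3 ≤ n) (hcond : Odd n ∨ ∃ t : ℕ, n = 2 ^ t)
    (H : Subgroup (DihedralGroup n)) (hH : ¬ IsCyclic ↥H) :
    Subgroup.centralizer (H : Set (DihedralGroup n)) ≤ H := by
  haveI : NeZero n := ⟨by omega⟩
  have hs : ∃ i, sr i ∈ H := by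
    by_contra hcon
    push Not at hcon
    apply hH
    have hle : H ≤ Subgroup.zpowers (r 1 : DihedralGroup n) := by
      intro g hg
      cases g with
      | r k =>
        rw [Subgroup.mem_zpowers_iff]
        refine ⟨(k.val : ℤ), ?_⟩
        rw [r_one_zpow]
        simp
      | sr k => exact absurd hg (hcon k)
    exact Subgroup.isCyclic_of_le hle
  obtain ⟨i, hi⟩ := hs
  have hr : ∃ j, j ≠ 0 ∧ r j ∈ H := by
    by_contra hcon
    push Not at hcon
    apply hH
    have hle : H ≤ Subgroup.zpowers (sr i : DihedralGroup n) := by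
      intro g hg
      cases g with
      | r k =>
        have : k = 0 := by
          by_contra h; exact hcon k h hg
        rw [this, r_zero]; exact Subgroup.one_mem _
      | sr k =>
        have h1 : r (k - i) ∈ H := by rw [← sr_mul_sr]; exact H.mul_mem hi hg
        have h2 : k - i = 0 := by
          by_contra h; exact hcon _ h h1
        rw [sub_eq_zero.mp h2]; exact Subgroup.mem_zpowers _
    exact Subgroup.isCyclic_of_le hle
  obtain ⟨j, hj0, hj⟩ := hr
  intro g hg
  have hgi : sr i * g = g * sr i := Subgroup.mem_centralizer_iff.mp hg (sr i) hi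
  have hgj : r j * g = g * r j := Subgroup.mem_centralizer_iff.mp hg (r j) hj
  cases g with
  | r k =>
    rw [r_mul_sr, sr_mul_r] at hgi
    have h2k : 2 * k = 0 := by
      have h1 : i + k = i - k := sr.inj hgi
      linear_combination h1
    rcases zmod_two_mul_eq_zero k h2k with h0 | h0
    · rw [h0, r_zero]; exact H.one_mem
    · rcases hcond with hodd | ⟨t, ht⟩
      · exfalso
        obtain ⟨m, hm⟩ := hodd
        omega
      · -- the unique involution of `⟨r⟩` lies in `⟨r j⟩`
        have hrj1 : (r j : DihedralGroup n) ≠ 1 := by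
          rw [one_def]; intro h; exact hj0 (r.inj h)
        have hodvd : orderOf (r j : DihedralGroup n) ∣ 2 ^ t := by
          rw [orderOf_r, ← ht]; exact Nat.div_dvd_of_dvd (Nat.gcd_dvd_left _ _)
        obtain ⟨e, -, he⟩ := (Nat.dvd_prime_pow Nat.prime_two).mp hodvd
        have he1 : 1 ≤ e := by
          rcases Nat.eq_zero_or_pos e with h | h
          · rw [h, pow_zero] at he
            exact absurd (orderOf_eq_one_iff.mp he) hrj1
          · exact h
        set y : DihedralGroup n := (r j) ^ (2 ^ (e - 1)) with hy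
        have hyH : y ∈ H := H.pow_mem hj _
        have hy1 : y ≠ 1 := by
          apply pow_ne_one_of_lt_orderOf (by positivity)
          rw [he]
          exact Nat.pow_lt_pow_right (by norm_num) (by omega)
        have hy2 : y * y = 1 := by
          rw [hy, ← pow_add, ← two_mul, ← pow_succ', Nat.sub_add_cancel he1, ← he]
          exact pow_orderOf_eq_one _
        rw [hy, r_pow] at hyH hy1 hy2
        set k' : ZMod n := j * ((2 ^ (e - 1) : ℕ) : ZMod n) with hk'
        have hk'0 : k' ≠ 0 := by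
          intro h; apply hy1; rw [h, r_zero]
        have h2k' : 2 * k' = 0 := by
          rw [r_mul_r, one_def] at hy2
          have := r.inj hy2
          linear_combination this
        rcases zmod_two_mul_eq_zero k' h2k' with h1 | h1
        · exact absurd h1 hk'0
        · have : k = k' := ZMod.val_injective n (by omega)
          rw [this]; exact hyH
  | sr k =>
    rw [r_mul_sr, sr_mul_r] at hgj
    have h2j : 2 * j = 0 := by
      have h1 : k - j = k + j := sr.inj hgj
      linear_combination (-1 : ZMod n) * h1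
    rcases zmod_two_mul_eq_zero j h2j with h0 | h0
    · exact absurd h0 hj0
    · rw [sr_mul_sr, sr_mul_sr] at hgi
      have h2 : 2 * (k - i) = 0 := by
        have h1 : k - i = i - k := r.inj hgi
        linear_combination h1
      rcases zmod_two_mul_eq_zero (k - i) h2 with h1 | h1
      · rw [sub_eq_zero.mp h1]; exact hi
      · have h3 : k - i = j := ZMod.val_injective n (by omega)
        have h4 : (sr k : DihedralGroup n) = sr i * r j := by
          rw [sr_mul_r, ← h3]; congr 1; ring
        rw [h4]; exact H.mul_mem hi hj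

open DihedralGroup in
theorem exists_bad_subgroup {n : ℕ} (hn : 3 ≤ n) (hodd : ¬ Odd n) (hpow : ¬ ∃ t : ℕ, n = 2 ^ t) :
    ∃ H : Subgroup (DihedralGroup n), ¬ IsCyclic ↥H ∧
      ¬ Subgroup.centralizer (H : Set (DihedralGroup n)) ≤ H := by
  haveI : NeZero n := ⟨by omega⟩
  obtain ⟨a, m, hm, hnam⟩ := Nat.exists_eq_two_pow_mul_odd (show n ≠ 0 by omega)
  have ha1 : 1 ≤ a := by
    rcases Nat.eq_zero_or_pos a with h | h
    · exfalso; apply hodd; rw [hnam, h, pow_zero, one_mul]; exact hm
    · exact h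
  have hm3 : 3 ≤ m := by
    obtain ⟨u, hu⟩ := hm
    rcases Nat.eq_zero_or_pos u with h | h
    · exfalso; apply hpow; exact ⟨a, by rw [hnam, hu, h]; ring⟩
    · omega
  set d : ZMod n := ((2 ^ a : ℕ) : ZMod n) with hd
  let H : Subgroup (DihedralGroup n) :=
    { carrier := {g | ∃ c : ZMod n, g = r (d * c) ∨ g = sr (d * c)}
      one_mem' := ⟨0, Or.inl (by rw [mul_zero, r_zero])⟩
      mul_mem' := by
        rintro x y ⟨c₁, h₁ | h₁⟩ ⟨c₂, h₂ | h₂⟩
        · exact ⟨c₁ + c₂, Or.inl (by rw [h₁, h₂, r_mul_r, mul_add])⟩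
        · exact ⟨c₂ - c₁, Or.inr (by rw [h₁, h₂, r_mul_sr, mul_sub])⟩
        · exact ⟨c₁ + c₂, Or.inr (by rw [h₁, h₂, sr_mul_r, mul_add])⟩
        · exact ⟨c₂ - c₁, Or.inl (by rw [h₁, h₂, sr_mul_sr, mul_sub])⟩
      inv_mem' := by
        rintro x ⟨c, h | h⟩
        · exact ⟨-c, Or.inl (by rw [h, inv_r, mul_neg])⟩
        · exact ⟨c, Or.inr (by rw [h, inv_sr])⟩ }
  have hrd : (r d : DihedralGroup n) ∈ H := ⟨1, Or.inl (by rw [mul_one])⟩
  have hs0 : (sr 0 : DihedralGroup n) ∈ H := ⟨0, Or.inr (by rw [mul_zero])⟩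
  -- `2 * d ≠ 0`
  have h2d : 2 * d ≠ 0 := by
    intro h
    have h1 : ((2 ^ (a + 1) : ℕ) : ZMod n) = 0 := by
      rw [pow_succ']; push_cast; rw [hd] at h; push_cast at h; exact h
    rw [ZMod.natCast_eq_zero_iff, hnam, pow_succ] at h1
    have h2 : m ∣ 2 := Nat.dvd_of_mul_dvd_mul_left (by positivity) h1
    have := Nat.le_of_dvd (by norm_num) h2
    omega
  refine ⟨H, ?_, ?_⟩
  · intro hc
    have hcomm : (⟨sr 0, hs0⟩ : H) * ⟨r d, hrd⟩ = ⟨r d, hrd⟩ * ⟨sr 0, hs0⟩ :=
      (IsCyclic.isMulCommutative : IsMulCommutative ↥H).is_comm.comm _ _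
    have h1 := congrArg Subtype.val hcomm
    simp only [Subgroup.coe_mul, sr_mul_r, r_mul_sr] at h1
    have h2 : (0 : ZMod n) + d = 0 - d := sr.inj h1
    apply h2d
    linear_combination h2
  · intro hle
    set z : DihedralGroup n := r ((n / 2 : ℕ) : ZMod n) with hz
    have hn2 : 2 * (n / 2) = n := by
      have : 2 ∣ n := by rw [hnam]; exact Dvd.dvd.mul_right (dvd_pow_self 2 (by omega)) m
      exact Nat.mul_div_cancel' this
    have h2z : (2 : ZMod n) * ((n / 2 : ℕ) : ZMod n) = 0 := by
      have : ((2 * (n / 2) : ℕ) : ZMod n) = 0 := by rw [hn2]; exact ZMod.natCast_self n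
      push_cast at this; exact this
    have hzc : z ∈ Subgroup.centralizer (H : Set (DihedralGroup n)) := by
      rw [Subgroup.mem_centralizer_iff]
      intro h _
      cases h with
      | r k => rw [hz, r_mul_r, r_mul_r, add_comm]
      | sr k =>
        rw [hz, sr_mul_r, r_mul_sr]
        congr 1
        linear_combination h2z
    obtain ⟨c, hc | hc⟩ := hle hzc
    · have h1 : ((n / 2 : ℕ) : ZMod n) = d * c := r.inj hc
      have h2 : ((n / 2 : ℕ) : ZMod n) = ((2 ^ a * c.val : ℕ) : ZMod n) := by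
        rw [h1, hd]; push_cast; rw [ZMod.natCast_zmod_val]
      rw [ZMod.natCast_eq_natCast_iff] at h2
      have hdn : 2 ^ a ∣ n := by rw [hnam]; exact Dvd.intro _ rfl
      have h3 : 2 ^ a ∣ n / 2 := (Nat.ModEq.dvd_iff h2 hdn).mpr (Dvd.intro _ rfl)
      have h4 : n / 2 = 2 ^ (a - 1) * m := by
        have : n = 2 * (2 ^ (a - 1) * m) := by
          rw [hnam, ← mul_assoc, ← pow_succ', Nat.sub_add_cancel ha1]
        omega
      rw [h4] at h3
      have h5 : 2 ^ a = 2 ^ (a - 1) * 2 := by rw [← pow_succ, Nat.sub_add_cancel ha1]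
      rw [h5] at h3
      have h6 : 2 ∣ m := Nat.dvd_of_mul_dvd_mul_left (by positivity) h3
      obtain ⟨u, hu⟩ := hm
      omega
    · rw [hz] at hc; exact absurd hc (by simp)

/-- Say that a group has self-centralizing non-cyclic subgroups when every non-cyclic subgroup H satisfies C_G(H) ≤ H. For n ≥ 3, the dihedral group of order 2n has self-centralizing non-cyclic subgroups if and only if n is odd or a power of 2. -/
theorem result (n : ℕ) (hn : 3 ≤ n) : (∀ H : Subgroup (DihedralGroup n), ¬ IsCyclic ↥H → Subgroup.centralizer (H : Set (DihedralGroup n)) ≤ H) ↔ (Odd n ∨ ∃ k : ℕ, n = 2 ^ k) := by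
  constructor
  · intro h
    by_contra hcon
    push Not at hcon
    obtain ⟨H, hH1, hH2⟩ := exists_bad_subgroup hn hcon.1 (by
      rintro ⟨t, ht⟩; exact hcon.2 t ht)
    exact hH2 (h H hH1)
  · intro hcond H hH
    exact centralizer_le_of_cond hn hcond H hH

end Cfsg.Agent.S3920
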