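import Cfsg.Statements.S3939
import Mathlib
import Cfsg.Agent.Lib.Helper21.Primary
import Cfsg.Agent.Lib.Helper21.SylowBasic
import Cfsg.Agent.Lib.Helper1.Fitting
import Cfsg.Agent.Lib.Helper1.NilpotentAction
import Cfsg.Agent.Lib.Helper1.Zipper
import Cfsg.Agent.Lib.Helper25.BaerSuzuki
-- import your own Cfsg.Agent.* helpers here

set_option autoImplicit false
open Cfsg

namespace Cfsg.Agent.S3939

open Cfsg.Agent.Lib.Helper21
open scoped commutatorElement

universe u

/-- `(⇐)`: elements of the hypercenter generate nilpotent subgroups with any other element. -/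
theorem isNilpotent_closure_pair_of_mem_upperCentralSeries :
    ∀ (n : ℕ) (G : Type u) [Group G] (g x : G), g ∈ Subgroup.upperCentralSeries G n →
      Group.IsNilpotent ↥(Subgroup.closure ({x, g} : Set G)) := by
  intro n
  induction n with
  | zero =>
    intro G _ g x hg
    rw [Subgroup.upperCentralSeries_zero, Subgroup.mem_bot] at hg
    have hle : Subgroup.closure ({x, g} : Set G) ≤ Subgroup.zpowers x := by
      rw [Subgroup.closure_le]
      rintro y hy
      rcases hy with rfl | hy
      · exact Subgroup.mem_zpowers y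
      · rw [Set.mem_singleton_iff] at hy
        rw [hy, hg]; exact Subgroup.one_mem _
    let _ : CommGroup (Subgroup.zpowers x) := IsCyclic.commGroup
    apply Subgroup.isNilpotent_of_ker_le_center (Subgroup.inclusion hle)
    rw [(MonoidHom.ker_eq_bot_iff _).mpr (Subgroup.inclusion_injective hle)]
    exact bot_le
  | succ n ih =>
    intro G _ g x hg
    rw [← Subgroup.comap_upperCentralSeries_quotient_center, Subgroup.mem_comap] at hg
    have hnil := ih (G ⧸ Subgroup.center G) _ (QuotientGroup.mk' (Subgroup.center G) x) hg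
    set H := Subgroup.closure ({x, g} : Set G) with hH
    set π := QuotientGroup.mk' (Subgroup.center G) with hπ
    have hmap : H.map π = Subgroup.closure ({π x, π g} : Set (G ⧸ Subgroup.center G)) := by
      rw [hH, MonoidHom.map_closure, Set.image_pair]
    have hmem : ∀ h : H, (π.comp H.subtype) h ∈ Subgroup.closure ({π x, π g} : Set (G ⧸ Subgroup.center G)) := by
      intro h
      rw [← hmap]
      exact ⟨h.1, h.2, rfl⟩
    let f : H →* Subgroup.closure ({π x, π g} : Set (G ⧸ Subgroup.center G)) :=
      (π.comp H.subtype).codRestrict _ hmem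
    apply Subgroup.isNilpotent_of_ker_le_center f
    intro h hh
    rw [MonoidHom.mem_ker] at hh
    have h1 : π (h : G) = 1 := by
      have := congrArg Subtype.val hh
      exact this
    have h2 : (h : G) ∈ Subgroup.center G := by
      rw [hπ, QuotientGroup.mk'_apply, QuotientGroup.eq_one_iff] at h1
      exact h1
    rw [Subgroup.mem_center_iff]
    intro k
    apply Subtype.ext
    exact (Subgroup.mem_center_iff.mp h2 k.1)

/-- in a finite nilpotent group elements of coprime prime power orders commute. -/
theorem commute_of_isNilpotent_of_prime_powers {H : Type*} [Group H] [Finite H] [Group.IsNilpotent H]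
    (p q : ℕ) [Fact p.Prime] [Fact q.Prime] (hpq : p ≠ q) (u y : H) (a b : ℕ)
    (hu : u ^ p ^ a = 1) (hy : y ^ q ^ b = 1) : Commute u y := by
  let P : Sylow p H := default
  let Q : Sylow q H := default
  have hP : (P : Subgroup H).Normal := inferInstance
  have hQ : (Q : Subgroup H).Normal := inferInstance
  have huP : u ∈ (P : Subgroup H) := mem_sylow_of_normal_of_pow_eq_one' P hP u a hu
  have hyQ : y ∈ (Q : Subgroup H) := mem_sylow_of_normal_of_pow_eq_one' Q hQ y b hy
  have hdisj : Disjoint (P : Subgroup H) (Q : Subgroup H) :=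
    IsPGroup.disjoint_of_ne p q hpq _ _ P.2 Q.2
  exact Subgroup.commute_of_normal_of_disjoint _ _ hP hQ hdisj u y huP hyQ

/-- a normal `p`-subgroup centralized by all `p'`-elements lies in the hypercenter. -/
theorem le_upperCentralSeries_of_centralized {G : Type*} [Group G] [Finite G] (p : ℕ) [Fact p.Prime] :
    ∀ (n : ℕ) (U : Subgroup G), Nat.card U = n → U.Normal → IsPGroup p U →
      (∀ v ∈ U, ∀ y : G, (orderOf y).Coprime p → v * y = y * v) →
      ∃ k : ℕ, U ≤ Subgroup.upperCentralSeries G k := by
  intro n
  induction n using Nat.strong_induction_on with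
  | _ n ih =>
    intro U hn hUn hUp hUc
    by_cases hU : U = ⊥
    · exact ⟨0, by rw [hU]; exact bot_le⟩
    let P : Sylow p G := default
    set C := Subgroup.centralizer (U : Set G) with hC
    have hCn : C.Normal := Subgroup.normal_centralizer
    have htop : C ⊔ (P : Subgroup G) = ⊤ := by
      apply Cfsg.Agent.Lib.Helper1.eq_top_of_forall_sylow_le
      intro r hr
      by_cases hrp : r = p
      · subst hrp
        exact ⟨P, le_sup_right⟩
      · let Q : Sylow r G := default
        refine ⟨Q, le_trans ?_ le_sup_left⟩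
        intro y hy
        rw [hC, Subgroup.mem_centralizer_iff]
        intro v hv
        have hyord : (orderOf y).Coprime p := by
          obtain ⟨k, hk⟩ := (IsPGroup.iff_orderOf.mp Q.2) ⟨y, hy⟩
          have h1 : orderOf y = r ^ k := by
            rw [← hk]; exact (Subgroup.orderOf_mk y hy).symm
          rw [h1]
          exact Nat.Coprime.pow_left _ ((Nat.coprime_primes hr.out (Fact.out : p.Prime)).mpr hrp)
        exact hUc v hv y hyord
    have hlt : ⁅U, (P : Subgroup G)⁆ < U := by
      apply Cfsg.Agent.Lib.Helper1.IsPGroup.commutator_lt hUp P.2 _ hU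
      rw [Subgroup.normalizer_eq_top_iff.mpr hUn]
      exact le_top
    have hle : ⁅U, (⊤ : Subgroup G)⁆ ≤ ⁅U, (P : Subgroup G)⁆ := by
      rw [Subgroup.commutator_le]
      intro v hv g _
      have hg : g ∈ C ⊔ (P : Subgroup G) := by rw [htop]; trivial
      rw [← SetLike.mem_coe, Subgroup.normal_mul] at hg
      obtain ⟨c, hc, b, hb, rfl⟩ := hg
      have hvb : ⁅v, b⁆ ∈ U := by
        rw [commutatorElement_def]
        have : b * v⁻¹ * b⁻¹ ∈ U := hUn.conj_mem _ (U.inv_mem hv) b
        have h2 := U.mul_mem hv this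
        convert h2 using 1
        group
      have hcv : c * v = v * c := ((Subgroup.mem_centralizer_iff.mp hc) v hv).symm
      have hcvb : c * ⁅v, b⁆ = ⁅v, b⁆ * c := ((Subgroup.mem_centralizer_iff.mp hc) _ hvb).symm
      have : ⁅v, c * b⁆ = ⁅v, b⁆ := by
        have h3 : ⁅v, c * b⁆ = c * ⁅v, b⁆ * c⁻¹ := by
          rw [commutatorElement_def, commutatorElement_def]
          have : v * (c * b) = c * (v * b) := by rw [← mul_assoc, ← hcv, mul_assoc]
          rw [this]
          simp only [mul_inv_rev, mul_assoc]
        rw [h3, hcvb, mul_assoc, mul_inv_cancel, mul_one]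
      rw [this]
      exact Subgroup.commutator_mem_commutator hv hb
    have hU'lt : ⁅U, (⊤ : Subgroup G)⁆ < U := lt_of_le_of_lt hle hlt
    have hU'n : (⁅U, (⊤ : Subgroup G)⁆).Normal := inferInstance
    have hcard : Nat.card (⁅U, (⊤ : Subgroup G)⁆ : Subgroup G) < n := by
      rw [← hn]
      exact Cfsg.Agent.Lib.Helper1.card_lt_card_of_le_of_ne hU'lt.le hU'lt.ne
    obtain ⟨k, hk⟩ := ih _ hcard _ rfl hU'n (hUp.to_le hU'lt.le)
      (fun v hv y hy => hUc v (hU'lt.le hv) y hy)
    refine ⟨k + 1, ?_⟩
    intro v hv
    rw [Subgroup.mem_upperCentralSeries_succ_iff]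
    intro y
    exact hk (Subgroup.commutator_mem_commutator hv (Subgroup.mem_top y))

/-- In a finite group G the set of elements g such that the subgroup generated by g and x is nilpotent for every x ∈ G is exactly the hypercenter of G (the last term of the upper central series). -/
theorem result {G : Type*} [Group G] [Finite G] (g : G) :
    (∀ x : G, Group.IsNilpotent ↥(Subgroup.closure ({x, g} : Set G))) ↔ g ∈ ⨆ n : ℕ, Subgroup.upperCentralSeries G n := by
  constructor
  · intro hN
    apply mem_of_primary_parts_mem _ (orderOf g) g rfl (orderOf_pos g).ne'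
    intro p hp hpn
    have : Fact p.Prime := ⟨hp⟩
    set v := (orderOf g).factorization p with hv
    set u := g ^ (orderOf g / p ^ v) with hu
    have hup : u ^ p ^ v = 1 := by
      rw [hu, ← pow_mul, Nat.div_mul_cancel (Nat.ordProj_dvd _ _), pow_orderOf_eq_one]
    have hcomm_q : ∀ y : G, (∃ q b : ℕ, q.Prime ∧ q ≠ p ∧ orderOf y = q ^ b) → u * y = y * u := by
      rintro y ⟨q, b, hq, hqp, hyo⟩
      have : Fact q.Prime := ⟨hq⟩
      have hnil := hN y
      have hgH : g ∈ Subgroup.closure ({y, g} : Set G) := Subgroup.subset_closure (by simp)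
      have hyH : y ∈ Subgroup.closure ({y, g} : Set G) := Subgroup.subset_closure (by simp)
      have huH : u ∈ Subgroup.closure ({y, g} : Set G) := Subgroup.pow_mem _ hgH _
      have hc := commute_of_isNilpotent_of_prime_powers (H := Subgroup.closure ({y, g} : Set G)) p q
        (Ne.symm hqp) ⟨u, huH⟩ ⟨y, hyH⟩ v b (Subtype.ext (by simpa using hup))
        (Subtype.ext (by simp only [Subgroup.coe_pow, Subgroup.coe_one]; rw [← hyo]; exact pow_orderOf_eq_one y))
      exact congrArg Subtype.val hc.eq
    have hcomm : ∀ y : G, (orderOf y).Coprime p → u * y = y * u := fun y hy =>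
      commute_of_coprime_order p u hcomm_q y (orderOf_pos y).ne' hy
    have hX : IsPGroup p (Subgroup.zpowers u) := by
      apply IsPGroup.of_card_dvd_pow (n := v)
      rw [Nat.card_zpowers]
      exact orderOf_dvd_of_pow_eq_one hup
    have hBS : ∀ z : G, IsPGroup p ↥(Subgroup.zpowers u ⊔ Cfsg.conjBy (Subgroup.zpowers u) z) := by
      intro z
      have hnil := hN (z * g * z⁻¹)
      have hgK : g ∈ Subgroup.closure ({z * g * z⁻¹, g} : Set G) := Subgroup.subset_closure (by simp)
      have hzgK : z * g * z⁻¹ ∈ Subgroup.closure ({z * g * z⁻¹, g} : Set G) :=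
        Subgroup.subset_closure (by simp)
      have huK : u ∈ Subgroup.closure ({z * g * z⁻¹, g} : Set G) := Subgroup.pow_mem _ hgK _
      have hzuK : z * u * z⁻¹ ∈ Subgroup.closure ({z * g * z⁻¹, g} : Set G) := by
        rw [hu, ← conj_pow]; exact Subgroup.pow_mem _ hzgK _
      let P : Sylow p (Subgroup.closure ({z * g * z⁻¹, g} : Set G)) := default
      have hPn : (P : Subgroup (Subgroup.closure ({z * g * z⁻¹, g} : Set G))).Normal := inferInstance
      have h1 : (⟨u, huK⟩ : Subgroup.closure ({z * g * z⁻¹, g} : Set G)) ∈ (P : Subgroup _) :=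
        mem_sylow_of_normal_of_pow_eq_one' P hPn _ v (Subtype.ext (by simpa using hup))
      have h2 : (⟨z * u * z⁻¹, hzuK⟩ : Subgroup.closure ({z * g * z⁻¹, g} : Set G)) ∈ (P : Subgroup _) :=
        mem_sylow_of_normal_of_pow_eq_one' P hPn _ v (Subtype.ext (by
          simp only [Subgroup.coe_pow, Subgroup.coe_one]
          rw [conj_pow, hup]; group))
      have hle : Subgroup.zpowers u ⊔ Cfsg.conjBy (Subgroup.zpowers u) z ≤
          (P : Subgroup (Subgroup.closure ({z * g * z⁻¹, g} : Set G))).map (Subgroup.subtype _) := by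
        apply sup_le
        · rw [Subgroup.zpowers_le]; exact ⟨⟨u, huK⟩, h1, rfl⟩
        · rw [Cfsg.conjBy, MonoidHom.map_zpowers, Subgroup.zpowers_le]
          exact ⟨⟨z * u * z⁻¹, hzuK⟩, h2, rfl⟩
      exact (P.2.map (Subgroup.subtype _)).to_le hle
    obtain ⟨N, hNn, hNp, hXN⟩ := Cfsg.Agent.Lib.Helper25.baer_suzuki (Subgroup.zpowers u) hX hBS
    obtain ⟨D, hD⟩ : ∃ D : Subgroup G, D = Subgroup.centralizer {y : G | (orderOf y).Coprime p} := ⟨_, rfl⟩
    have hDn : D.Normal := by
      constructor
      intro d hd z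
      rw [hD, Subgroup.mem_centralizer_iff] at hd ⊢
      intro y hy
      have hy' : z⁻¹ * y * z ∈ {y : G | (orderOf y).Coprime p} := by
        change (orderOf (z⁻¹ * y * z)).Coprime p
        have : orderOf (z⁻¹ * y * z) = orderOf y := by
          have := (MulAut.conj z⁻¹).orderOf_eq y
          simpa using this
        rw [this]; exact hy
      have h1 := hd _ hy'
      calc y * (z * d * z⁻¹) = z * ((z⁻¹ * y * z) * d) * z⁻¹ := by group
        _ = z * (d * (z⁻¹ * y * z)) * z⁻¹ := by rw [h1]
        _ = z * d * z⁻¹ * y := by group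
    have huD : u ∈ D := by
      rw [hD, Subgroup.mem_centralizer_iff]
      intro y hy
      exact (hcomm y hy).symm
    have hVn : (N ⊓ D).Normal := Subgroup.normal_inf_normal N D
    have hVp : IsPGroup p ↥(N ⊓ D) := hNp.to_le inf_le_left
    have hVc : ∀ w ∈ N ⊓ D, ∀ y : G, (orderOf y).Coprime p → w * y = y * w := by
      intro w hw y hy
      have hwD : w ∈ D := hw.2
      rw [hD, Subgroup.mem_centralizer_iff] at hwD
      exact (hwD y hy).symm
    obtain ⟨k, hk⟩ := le_upperCentralSeries_of_centralized p _ (N ⊓ D) rfl hVn hVp hVc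
    exact (le_iSup (fun n => Subgroup.upperCentralSeries G n) k)
      (hk ⟨hXN (Subgroup.mem_zpowers u), huD⟩)
  · intro hg x
    obtain ⟨n, hn⟩ := (Subgroup.mem_iSup_of_directed
      (Subgroup.upperCentralSeries_mono (G := G)).directed_le).mp hg
    exact isNilpotent_closure_pair_of_mem_upperCentralSeries n G g x hn

end Cfsg.Agent.S3939
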