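import Cfsg.Statements.S3941
import Mathlib
import Cfsg.Agent.Lib.Helper4.AltPClosed

set_option autoImplicit false
open Cfsg

namespace Cfsg.Agent.S3941


/-- Let n ≥ 5 and p an odd prime with p ≤ n, and suppose that every proper subgroup of the alternating group of degree n whose order is divisible by p has a normal Sylow p-subgroup. Then n = p. -/
theorem result (n p : ℕ) (hn : 5 ≤ n) [Fact p.Prime] (hp : p ≠ 2) (hpn : p ≤ n)
    (h : ∀ H : Subgroup ↥(alternatingGroup (Fin n)), H ≠ ⊤ → p ∣ Nat.card ↥H → Cfsg.IsPClosed p ↥H) : n = p := by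
  have hp : p.Prime := Fact.out
  by_contra hne
  have hlt : p < n := lt_of_le_of_ne hpn (Ne.symm hne)
  obtain ⟨m, rfl⟩ : ∃ m, n = m + 1 := ⟨n - 1, by omega⟩
  have hm4 : 4 ≤ m := by omega
  have hpm : p ≤ m := by omega
  -- the point stabiliser, as the image of `A_s` with `s` the complement of a point
  let s : Finset (Fin (m + 1)) := Finset.univ.erase 0
  have hs : Fintype.card ↥s = m := by
    rw [Fintype.card_coe, Finset.card_erase_of_mem (Finset.mem_univ _), Finset.card_univ,
      Fintype.card_fin]
    rfl
  let e₀ : alternatingGroup (Fin m) ≃* alternatingGroup ↥s :=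
    Equiv.altCongrHom (Fintype.equivFinOfCardEq hs).symm
  let e₁ : alternatingGroup ↥s ≃* (alternatingGroup.ofSubtype s).range :=
    MonoidHom.ofInjective alternatingGroup.ofSubtype_injective
  let e : alternatingGroup (Fin m) ≃* (alternatingGroup.ofSubtype s).range := e₀.trans e₁
  haveI : Nontrivial (Fin m) := Fin.nontrivial_iff_two_le.mpr (by omega)
  haveI : Nontrivial (Fin (m + 1)) := Fin.nontrivial_iff_two_le.mpr (by omega)
  have hcardm : 2 * Nat.card (alternatingGroup (Fin m)) = m.factorial := by
    rw [two_mul_nat_card_alternatingGroup, Nat.card_perm, Nat.card_eq_fintype_card,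
      Fintype.card_fin]
  have hcardn : 2 * Nat.card (alternatingGroup (Fin (m + 1))) = (m + 1).factorial := by
    rw [two_mul_nat_card_alternatingGroup, Nat.card_perm, Nat.card_eq_fintype_card,
      Fintype.card_fin]
  have hcardH : Nat.card (alternatingGroup.ofSubtype s).range = Nat.card (alternatingGroup (Fin m)) :=
    (Nat.card_congr e.toEquiv).symm
  have hHtop : (alternatingGroup.ofSubtype s).range ≠ ⊤ := by
    intro htop
    rw [htop, Subgroup.card_top] at hcardH
    have h1 : (m + 1).factorial = m.factorial := by rw [← hcardn, ← hcardm, hcardH]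
    have h2 : m.factorial < (m + 1).factorial := (Nat.factorial_lt (by omega)).mpr (Nat.lt_succ_self m)
    omega
  have hpd : p ∣ Nat.card (alternatingGroup.ofSubtype s).range := by
    rw [hcardH]
    have h1 : p ∣ 2 * Nat.card (alternatingGroup (Fin m)) := by
      rw [hcardm]; exact hp.dvd_factorial.mpr hpm
    rcases hp.dvd_mul.mp h1 with h2 | h2
    · exact absurd ((Nat.prime_dvd_prime_iff_eq hp Nat.prime_two).mp h2) ‹p ≠ 2›
    · exact h2
  have hcl := h _ hHtop hpd
  exact Cfsg.Agent.Lib.Helper4.not_isPClosed_alternatingGroup m p hm4 ‹p ≠ 2› hpm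
    (Cfsg.Agent.Lib.Helper4.isPClosed_of_mulEquiv e hcl)

end Cfsg.Agent.S3941
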