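import Cfsg.Statements.S3946
-- import your own Cfsg.Agent.* helpers here
import Mathlib
import Cfsg.Agent.Lib.Helper22.Kegel

set_option autoImplicit false
open Cfsg

namespace Cfsg.Agent.S3946

/-- Call an automorphism α of order n of a group G splitting when x · α(x) · α²(x) ⋯ α^(n−1)(x) = 1 for every x ∈ G. A finite group admitting a splitting automorphism of prime order is nilpotent (this contains the case of a fixed-point-free automorphism of prime order). -/
theorem result {G : Type*} [Group G] [Finite G] (α : MulAut G) (hp : (orderOf α).Prime)
    (hsplit : ∀ x : G, (((List.range (orderOf α)).map (fun i : ℕ => (α ^ i) x)).prod = 1)) : Group.IsNilpotent G := by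
  have hiter : ∀ (i : ℕ) (x : G), (α.toMonoidHom)^[i] x = (α ^ i) x := by
    intro i
    induction i with
    | zero => intro x; rfl
    | succ i ih =>
      intro x
      rw [Function.iterate_succ_apply', ih, pow_succ', MulAut.mul_apply]
      rfl
  refine Cfsg.Agent.Lib.Helper22.Kegel.isNilpotent_of_split α.toMonoidHom hp ⟨?_, ?_⟩
  · intro g
    rw [hiter, pow_orderOf_eq_one]
    rfl
  · intro g
    unfold Cfsg.Agent.Lib.Helper22.Kegel.cprod
    rw [← hsplit g]
    congr 1
    apply List.map_congr_left
    intro i _
    exact hiter i g

end Cfsg.Agent.S3946
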