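import Cfsg.Statements.S3949
import Mathlib
-- import your own Cfsg.Agent.* helpers here

set_option autoImplicit false
open Cfsg

namespace Cfsg.Agent.S3949

theorem inv_pow_aux {G : Type*} [Group G] (α : MulAut G) (g : G) (h : α g = g⁻¹) (k : ℕ) :
    α (g ^ k) = (g ^ k)⁻¹ := by
  rw [map_pow, h, inv_pow]

theorem iter_aux {G : Type*} [Group G] (α : MulAut G) (k : ℕ) :
    ∀ g : G, α g = g⁻¹ → (fun c : G => c * (α c)⁻¹)^[k] g = g ^ (2 ^ k) := by
  induction k with
  | zero => intro g _; simp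
  | succ k ih =>
    intro g hg
    rw [Function.iterate_succ_apply]
    have h1 : g * (α g)⁻¹ = g ^ 2 := by
      simp only [hg, inv_inv, sq]
    rw [h1, ih (g ^ 2) (inv_pow_aux α g hg 2), ← pow_mul, pow_succ']

/-- Let G be a finite group and α an automorphism of G of order 2 such that the elements g·α(g)⁻¹ generate G. Let j be a positive integer such that 2^j divides the order of no element inverted by α. Then the set of values of the j-th iterate of the map c ↦ c·α(c)⁻¹ is exactly the set of elements of odd order inverted by α. -/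
theorem result {G : Type*} [Group G] [Finite G] (α : MulAut G) (hα : orderOf α = 2) (hG : Subgroup.closure (Set.range (fun c : G => c * (α c)⁻¹)) = ⊤)
    (j : ℕ) (hj : ∀ g : G, α g = g⁻¹ → ¬ 2 ^ j ∣ orderOf g) :
    Set.range ((fun c : G => c * (α c)⁻¹)^[j]) = {g : G | Odd (orderOf g) ∧ α g = g⁻¹} := by
  have hα2 : ∀ x : G, α (α x) = x := by
    intro x
    have : α ^ 2 = 1 := by rw [← hα]; exact pow_orderOf_eq_one α
    calc α (α x) = (α ^ 2) x := by rw [sq]; rfl
      _ = x := by rw [this]; rfl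
  have hf : ∀ c : G, α (c * (α c)⁻¹) = (c * (α c)⁻¹)⁻¹ := by
    intro c
    rw [map_mul, map_inv, hα2, mul_inv_rev, inv_inv]
  have hj0 : j ≠ 0 := by
    rintro rfl
    exact hj 1 (by simp) (by simp)
  obtain ⟨i, rfl⟩ : ∃ i, j = i + 1 := ⟨j - 1, by omega⟩
  ext y
  constructor
  · rintro ⟨c, rfl⟩
    rw [Function.iterate_succ_apply]
    set k := c * (α c)⁻¹ with hk
    have hkinv : α k = k⁻¹ := hf c
    change (fun c : G => c * (α c)⁻¹)^[i] k ∈ _
    rw [iter_aux α i k hkinv]
    refine ⟨?_, inv_pow_aux α k hkinv _⟩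
    obtain ⟨a, m, hm, hn⟩ := Nat.exists_eq_two_pow_mul_odd (orderOf_pos k).ne'
    have ha : a ≤ i := by
      by_contra hlt
      rw [not_le] at hlt
      apply hj k hkinv
      rw [hn]
      exact Dvd.dvd.mul_right (pow_dvd_pow 2 (by omega)) m
    apply Odd.of_dvd_nat hm
    apply orderOf_dvd_of_pow_eq_one
    rw [← pow_mul]
    obtain ⟨b, rfl⟩ : ∃ b, i = a + b := ⟨i - a, by omega⟩
    rw [pow_add, mul_right_comm, ← hn, pow_mul, pow_orderOf_eq_one, one_pow]
  · rintro ⟨hodd, hinv⟩
    have hcop : (2 ^ (i + 1)).Coprime (orderOf y) := by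
      apply Nat.Coprime.pow_left
      exact Odd.coprime_two_left hodd
    obtain ⟨m, hm⟩ := exists_pow_eq_self_of_coprime hcop
    refine ⟨y ^ m, ?_⟩
    rw [iter_aux α (i + 1) (y ^ m) (inv_pow_aux α y hinv m), ← pow_mul, mul_comm, pow_mul, hm]

end Cfsg.Agent.S3949
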