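import Cfsg.Statements.S3950
import Mathlib
import Cfsg.Agent.Lib.Helper21.BilinExt
import Cfsg.Agent.Lib.Helper21.SchurMult
-- import your own Cfsg.Agent.* helpers here

set_option autoImplicit false
open Cfsg

namespace Cfsg.Agent.S3950

open Cfsg.Agent.Lib.Helper21
open scoped commutatorElement

theorem isCyclic_of_pi_coprime {ι : Type} [Fintype ι] (n : ι → ℕ)
    (hcop : Pairwise (Function.onFun Nat.Coprime n)) {G : Type*} [CommGroup G]
    (e : G ≃* ((i : ι) → Multiplicative (ZMod (n i)))) : IsCyclic G := by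
  let E : ZMod (∏ i, n i) ≃+ ((i : ι) → ZMod (n i)) := (ZMod.prodEquivPi n hcop).toAddEquiv
  let F : Multiplicative (ZMod (∏ i, n i)) ≃* G :=
    (AddEquiv.toMultiplicative E).trans ((MulEquiv.piMultiplicative _).trans e.symm)
  exact isCyclic_of_surjective F F.surjective

/-- two "independent" characters of a non-cyclic finite abelian group -/
theorem exists_indep_characters {G : Type*} [CommGroup G] [Finite G] (hG : ¬ IsCyclic G) :
    ∃ (p : ℕ) (_ : Fact p.Prime) (φ ψ : Additive G →+ ZMod p) (g g' : Additive G),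
      φ g = 1 ∧ φ g' = 0 ∧ ψ g = 0 ∧ ψ g' = 1 := by
  classical
  obtain ⟨ι, _, n, hn, ⟨e⟩⟩ := CommGroup.equiv_prod_multiplicative_zmod_of_finite G
  have hnc : ¬ Pairwise (Function.onFun Nat.Coprime n) := fun h => hG (isCyclic_of_pi_coprime n h e)
  rw [Pairwise] at hnc
  push Not at hnc
  obtain ⟨i, j, hij, hcop⟩ := hnc
  obtain ⟨p, hp, hpi, hpj⟩ := Nat.Prime.not_coprime_iff_dvd.mp hcop
  have hpf : Fact p.Prime := ⟨hp⟩
  -- characters
  let χ : ∀ k : ι, p ∣ n k → (Additive G →+ ZMod p) := fun k hk =>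
    MonoidHom.toAdditiveLeft
      (((AddMonoidHom.toMultiplicative (ZMod.castHom hk (ZMod p)).toAddMonoidHom).comp
        (Pi.evalMonoidHom (fun k => Multiplicative (ZMod (n k))) k)).comp e.toMonoidHom)
  have hχ : ∀ (k : ι) (hk : p ∣ n k) (l : ι),
      χ k hk (Additive.ofMul (e.symm (Pi.mulSingle l (Multiplicative.ofAdd (1 : ZMod (n l)))))) =
        if l = k then 1 else 0 := by
    intro k hk l
    show Multiplicative.toAdd ((AddMonoidHom.toMultiplicative (ZMod.castHom hk (ZMod p)).toAddMonoidHom)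
      ((e (e.symm (Pi.mulSingle l (Multiplicative.ofAdd (1 : ZMod (n l)))))) k)) = _
    rw [MulEquiv.apply_symm_apply]
    by_cases hlk : l = k
    · subst hlk
      rw [Pi.mulSingle_eq_same, if_pos rfl]
      show (ZMod.castHom hk (ZMod p)) 1 = 1
      exact map_one _
    · rw [Pi.mulSingle_eq_of_ne' hlk, if_neg hlk]
      show (ZMod.castHom hk (ZMod p)) 0 = 0
      exact map_zero _
  refine ⟨p, hpf, χ i hpi, χ j hpj,
    Additive.ofMul (e.symm (Pi.mulSingle i (Multiplicative.ofAdd (1 : ZMod (n i))))),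
    Additive.ofMul (e.symm (Pi.mulSingle j (Multiplicative.ofAdd (1 : ZMod (n j))))), ?_, ?_, ?_, ?_⟩
  · rw [hχ, if_pos rfl]
  · rw [hχ, if_neg (Ne.symm hij)]
  · rw [hχ, if_neg hij]
  · rw [hχ, if_pos rfl]

/-- the cocycle `(a, a') ↦ φ a * ψ a'` -/
noncomputable def cocyc2 {A : Type*} [AddCommGroup A] {R : Type*} [CommRing R] (φ ψ : A →+ R) : A →+ A →+ R :=
  AddMonoidHom.mk' (fun x => AddMonoidHom.mk' (fun y => φ x * ψ y)
    (by intro y y'; simp [mul_add]))
    (by intro x x'; ext y; simp [add_mul])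

theorem cocyc2_apply {A : Type*} [AddCommGroup A] {R : Type*} [CommRing R] (φ ψ : A →+ R) (x y : A) :
    cocyc2 φ ψ x y = φ x * ψ y := rfl

/-- A finite abelian group has trivial Schur multiplier if and only if it is cyclic. -/
theorem result {G : Type*} [CommGroup G] [Finite G] : Cfsg.HasCyclicSchurMultiplier G 1 ↔ IsCyclic G := by
  constructor
  · intro h
    by_contra hG
    obtain ⟨p, hpf, φ, ψ, g, g', h1, h2, h3, h4⟩ := exists_indep_characters hG
    let f := cocyc2 φ ψ
    let σ : BilinExt f →* G := (MulEquiv.multiplicativeAdditive G).toMonoidHom.comp (BilinExt.proj f)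
    have hker : σ.ker = (BilinExt.proj f).ker := by
      ext x
      rw [MonoidHom.mem_ker, MonoidHom.mem_ker]
      show (MulEquiv.multiplicativeAdditive G) (BilinExt.proj f x) = 1 ↔ _
      rw [MulEquiv.map_eq_one_iff]
    have hstem : Cfsg.IsStemExtension σ := by
      refine ⟨?_, ?_, ?_⟩
      · exact (MulEquiv.multiplicativeAdditive G).surjective.comp (BilinExt.proj_surjective f)
      · rw [hker]; exact BilinExt.ker_proj_le_center f
      · rw [hker]
        apply BilinExt.ker_proj_le_commutator f g g'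
        intro c
        refine ⟨c.val, ?_⟩
        show c = c.val • (φ g * ψ g' - φ g' * ψ g)
        rw [h1, h2, h3, h4]
        simp
    obtain ⟨π, hπ⟩ := h.2 (BilinExt f) σ hstem
    have hx : (⟨0, 1⟩ : BilinExt f) ∈ σ.ker := by
      rw [hker, BilinExt.mem_ker_proj]
    obtain ⟨a, ha⟩ := hπ ⟨_, hx⟩
    have ha1 : a = 1 := by
      have : Subsingleton (Multiplicative (ZMod 1)) := by
        change Subsingleton (Fin 1); infer_instance
      exact Subsingleton.elim _ _
    rw [ha1, map_one] at ha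
    have h5 := congrArg (fun x : σ.ker => x.1.snd) ha
    simp only [Subgroup.coe_one, BilinExt.one_snd] at h5
    exact zero_ne_one h5
  · intro hG
    apply hasCyclicSchurMultiplier_one_of
    intro Γ _ _ σ hσ
    obtain ⟨hs, hc, hd⟩ := hσ
    have hcomm' := MonoidHom.isMulCommutative_of_isCyclic_of_ker_le_center σ hc
    have hcomm : ∀ a b : Γ, a * b = b * a := hcomm'.is_comm.comm
    rw [eq_bot_iff]
    refine le_trans hd ?_
    rw [commutator_def, Subgroup.commutator_le]
    intro a _ b _
    rw [Subgroup.mem_bot, commutatorElement_eq_one_iff_commute]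
    exact hcomm a b

end Cfsg.Agent.S3950
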