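import Cfsg.Statements.S3951
import Mathlib
import Cfsg.Agent.Lib.Helper21.BilinExt
import Cfsg.Agent.Lib.Helper21.CommutatorGen
import Cfsg.Agent.Lib.Helper21.SchurMult
-- import your own Cfsg.Agent.* helpers here

set_option autoImplicit false
open Cfsg

namespace Cfsg.Agent.S3951

open Cfsg.Agent.Lib.Helper21
open scoped commutatorElement

/-- the cocycle `((a, b), (a', b')) ↦ a b'` on `ZMod m × ZMod n`, `n ∣ m`. -/
noncomputable def cocyc (m n : ℕ) (hnm : n ∣ m) : (ZMod m × ZMod n) →+ (ZMod m × ZMod n) →+ ZMod n :=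
  AddMonoidHom.mk' (fun x => AddMonoidHom.mk' (fun y => (ZMod.castHom hnm (ZMod n) x.1) * y.2)
    (by intro y y'; simp [mul_add]))
    (by intro x x'; ext y; simp [add_mul, map_add])

theorem cocyc_apply (m n : ℕ) (hnm : n ∣ m) (x y : ZMod m × ZMod n) :
    cocyc m n hnm x y = (ZMod.castHom hnm (ZMod n) x.1) * y.2 := rfl

theorem prod_closure (m n : ℕ) [NeZero m] [NeZero n] :
    Subgroup.closure ({Multiplicative.ofAdd ((1 : ZMod m), (0 : ZMod n)), Multiplicative.ofAdd ((0 : ZMod m), (1 : ZMod n))} :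
      Set (Multiplicative (ZMod m × ZMod n))) = ⊤ := by
  rw [eq_top_iff]
  intro g _
  have h1 : g = (Multiplicative.ofAdd ((1 : ZMod m), (0 : ZMod n))) ^ (Multiplicative.toAdd g).1.val *
      (Multiplicative.ofAdd ((0 : ZMod m), (1 : ZMod n))) ^ (Multiplicative.toAdd g).2.val := by
    rw [← ofAdd_nsmul, ← ofAdd_nsmul, ← ofAdd_add]
    apply Multiplicative.toAdd.injective
    rw [toAdd_ofAdd]
    ext <;> simp
  rw [h1]
  exact Subgroup.mul_mem _ (Subgroup.pow_mem _ (Subgroup.subset_closure (by simp)) _)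
    (Subgroup.pow_mem _ (Subgroup.subset_closure (by simp)) _)

/-- For positive integers `m` and `n` with `n` dividing `m`, the Schur multiplier of the abelian group `ZMod m × ZMod n` (written multiplicatively) is cyclic of order `n`. In particular the elementary abelian group of order `p ^ 2` has multiplier of order `p`. -/
theorem result (m n : ℕ) [NeZero m] [NeZero n] (hnm : n ∣ m) : Cfsg.HasCyclicSchurMultiplier (Multiplicative (ZMod m × ZMod n)) n := by
  constructor
  · refine ⟨BilinExt (cocyc m n hnm), inferInstance, inferInstance, BilinExt.proj _,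
      ⟨BilinExt.proj_surjective _, BilinExt.ker_proj_le_center _, ?_⟩, ⟨BilinExt.kerEquiv _⟩⟩
    apply BilinExt.ker_proj_le_commutator _ ((1 : ZMod m), (0 : ZMod n)) ((0 : ZMod m), (1 : ZMod n))
    intro c
    refine ⟨c.val, ?_⟩
    rw [cocyc_apply, cocyc_apply]
    simp [map_one]
  · intro Γ _ _ σ hσ
    obtain ⟨hs, hc, hd⟩ := hσ
    obtain ⟨α, hα⟩ := hs (Multiplicative.ofAdd ((1 : ZMod m), (0 : ZMod n)))
    obtain ⟨ξ, hξ⟩ := hs (Multiplicative.ofAdd ((0 : ZMod m), (1 : ZMod n)))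
    have hκ : ⁅α, ξ⁆ ∈ σ.ker := by
      rw [MonoidHom.mem_ker, map_commutatorElement, commutatorElement_eq_one_iff_commute]
      exact Commute.all _ _
    have hκc : ⁅α, ξ⁆ ∈ Subgroup.center Γ := hc hκ
    have hgen : Subgroup.closure ({α, ξ} : Set Γ) ⊔ σ.ker = ⊤ := by
      rw [← Subgroup.comap_map_eq, MonoidHom.map_closure, Set.image_pair, hα, hξ, prod_closure,
        Subgroup.comap_top]
    have hNn : (Subgroup.zpowers ⁅α, ξ⁆).Normal :=
      normal_of_le_center' _ ((Subgroup.zpowers_le).mpr hκc)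
    have hle : commutator Γ ≤ Subgroup.zpowers ⁅α, ξ⁆ := by
      apply commutator_le_of_generators σ.ker _ {α, ξ} hc hgen
      have hκm : ⁅α, ξ⁆ ∈ Subgroup.zpowers ⁅α, ξ⁆ := Subgroup.mem_zpowers _
      have hκm' : ⁅ξ, α⁆ ∈ Subgroup.zpowers ⁅α, ξ⁆ := by
        have : ⁅ξ, α⁆ = ⁅α, ξ⁆⁻¹ := (commutatorElement_inv α ξ).symm
        rw [this]; exact Subgroup.inv_mem _ hκm
      intro s hs t ht
      rcases hs with rfl | hs <;> rcases ht with rfl | ht
      · rw [commutatorElement_self]; exact Subgroup.one_mem _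
      · rw [Set.mem_singleton_iff] at ht; rw [ht]; exact hκm
      · rw [Set.mem_singleton_iff] at hs; rw [hs]; exact hκm'
      · rw [Set.mem_singleton_iff] at hs ht; rw [hs, ht, commutatorElement_self]; exact Subgroup.one_mem _
    -- κ ^ n = 1
    have hκn : ⁅α, ξ⁆ ^ n = 1 := by
      have hξn : ξ ^ n ∈ σ.ker := by
        rw [MonoidHom.mem_ker, map_pow, hξ, ← ofAdd_nsmul]
        have : n • ((0 : ZMod m), (1 : ZMod n)) = 0 := by
          ext <;> simp
        rw [this]; rfl
      have hξnc := Subgroup.mem_center_iff.mp (hc hξn)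
      have h1 : α * ξ * α⁻¹ = ⁅α, ξ⁆ * ξ := by
        rw [commutatorElement_def]; group
      have hcomm : Commute ⁅α, ξ⁆ ξ := (Subgroup.mem_center_iff.mp hκc ξ).symm
      have h2 : α * ξ ^ n * α⁻¹ = ⁅α, ξ⁆ ^ n * ξ ^ n := by
        rw [← conj_pow, h1, hcomm.mul_pow]
      have h3 : α * ξ ^ n * α⁻¹ = ξ ^ n := by
        rw [hξnc α]; group
      rw [h3] at h2
      exact (mul_eq_right.mp h2.symm)
    apply exists_surjective_of_zpowers σ.ker n ⁅α, ξ⁆ hκ hκn
    intro c hcm
    exact Subgroup.mem_zpowers_iff.mp (hle (hd hcm)) |>.imp fun j hj => hj.symm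

end Cfsg.Agent.S3951
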