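import Cfsg.Statements.S3953
import Mathlib
import Cfsg.Agent.Lib.Helper2.SchurSylowD
import Cfsg.Agent.Lib.Helper27.SchurExp
import Cfsg.Agent.Lib.Helper27.Schur5

set_option autoImplicit false
open Cfsg

namespace Cfsg.Agent.S3953

open Cfsg.Agent.Lib.Helper27.Schur Cfsg.Agent.Lib.Helper2.SchurSylow

theorem mult_eq_MM {α : Type*} {G : Type*} [Group G] (π : FreeGroup α →* G) :
    mult π = MM π.ker := by
  unfold mult MM ZZ hopfHom
  rw [QuotientGroup.ker_lift]
  rfl


/-- Let `P` be a Sylow `p`-subgroup of the finite group `G`, let `A` be the Schur multiplier of `G` and `B` that of `P`. Then the `p`-primary component of `A` is isomorphic to a direct factor of `B`: there are subgroups `C` and `D` of `B` meeting trivially and generating `B`, with `C` isomorphic to the `p`-primary component of `A`. -/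
theorem result {G : Type*} [Group G] [Finite G] (p : ℕ) [Fact p.Prime] (P : Sylow p G) {A B : Type*} [CommGroup A] [CommGroup B] (hA : Cfsg.HasSchurMultiplier G A) (hB : Cfsg.HasSchurMultiplier P B) : ∃ C D : Subgroup B, C ⊓ D = ⊥ ∧ C ⊔ D = ⊤ ∧ Nonempty (CommGroup.primaryComponent A p ≃* C) := by
  classical
  haveI : Finite B := finite_of_hasSchurMultiplier hB
  let π := stdPres G
  have hπ : Function.Surjective π := stdPres_surjective G
  let K : Subgroup (FreeGroup G) := (P : Subgroup G).comap π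
  have hKidx : K.index = (P : Subgroup G).index := Subgroup.index_comap_of_surjective _ hπ
  haveI : K.FiniteIndex := ⟨by rw [hKidx]; exact Subgroup.index_ne_zero_of_finite⟩
  let β := IsFreeGroup.Generators ↥K
  let e : FreeGroup β ≃* ↥K := IsFreeGroup.mulEquiv ↥K
  haveI : Group.FG ↥K := inferInstance
  haveI : Group.FG (FreeGroup β) :=
    Group.fg_of_surjective (f := e.symm.toMonoidHom) e.symm.surjective
  haveI : Finite β := finite_of_fg_freeGroup β
  let ι : FreeGroup β →* FreeGroup G := K.subtype.comp e.toMonoidHom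
  have hι : Function.Injective ι := K.subtype_injective.comp e.injective
  have hrange : ι.range = K := by
    ext x
    constructor
    · rintro ⟨y, rfl⟩
      exact (e y).2
    · intro hx
      exact ⟨e.symm ⟨x, hx⟩, by simp [ι]⟩
  haveI : ι.range.FiniteIndex := by rw [hrange]; infer_instance
  have hRK : π.ker ≤ ι.range := by
    rw [hrange]
    intro x hx
    show π x ∈ (P : Subgroup G)
    rw [MonoidHom.mem_ker.mp hx]
    exact one_mem _
  let π₀ : FreeGroup β →* ↥(P : Subgroup G) :=
    (π.comp ι).codRestrict (P : Subgroup G) (fun x => (e x).2)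
  have hπ₀ : Function.Surjective π₀ := by
    rintro ⟨y, hy⟩
    obtain ⟨f, rfl⟩ := hπ y
    refine ⟨e.symm ⟨f, hy⟩, ?_⟩
    apply Subtype.ext
    show π (ι (e.symm ⟨f, hy⟩)) = π f
    simp [ι]
  have hker : π₀.ker = π.ker.comap ι := by
    ext x
    rw [MonoidHom.mem_ker, Subgroup.mem_comap, MonoidHom.mem_ker, Subtype.ext_iff]
    rfl
  obtain ⟨eA⟩ := nonempty_mulEquiv_mult' π hπ hA
  obtain ⟨eB⟩ := nonempty_mulEquiv_mult' π₀ hπ₀ hB
  obtain ⟨res, cor, hrc⟩ := exists_res_cor' ι hι π.ker hRK π₀.ker hker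
  let cA : ↥(mult π) ≃* ↥(MM π.ker) := MulEquiv.subgroupCongr (mult_eq_MM π)
  let cB : ↥(mult π₀) ≃* ↥(MM π₀.ker) := MulEquiv.subgroupCongr (mult_eq_MM π₀)
  let fA : A ≃* ↥(MM π.ker) := eA.trans cA
  let fB : B ≃* ↥(MM π₀.ker) := eB.trans cB
  have hidx : ι.range.index = (P : Subgroup G).index := by rw [hrange, hKidx]
  have hn : ¬ p ∣ ι.range.index := by rw [hidx]; exact P.not_dvd_index
  have hBp : IsPGroup p B := by
    have h1 := exponent_sq_dvd_card hB
    obtain ⟨k, hk⟩ := IsPGroup.iff_card.mp P.2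
    have hk' : Nat.card ↥(P : Subgroup G) = p ^ k := hk
    rw [hk'] at h1
    have h2 : Monoid.exponent B ∣ p ^ k := Dvd.dvd.trans (Dvd.intro _ (sq _).symm) h1
    intro b
    exact ⟨k, by
      obtain ⟨c, hc⟩ := h2
      rw [hc, pow_mul, Monoid.pow_exponent_eq_one, one_pow]⟩
  refine exists_direct_factor p _ hn hBp
    (fB.symm.toMonoidHom.comp (res.comp fA.toMonoidHom))
    (fA.symm.toMonoidHom.comp (cor.comp fB.toMonoidHom)) ?_
  intro a
  simp only [MonoidHom.coe_comp, MulEquiv.coe_toMonoidHom, Function.comp_apply,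
    MulEquiv.apply_symm_apply]
  rw [hrc, map_pow, MulEquiv.symm_apply_apply]

end Cfsg.Agent.S3953
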