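import Cfsg.Statements.S3963
import Mathlib
import Cfsg.Agent.Lib.Helper21.StemDihedral
import Cfsg.Agent.Lib.Helper21.SchurMult
-- import your own Cfsg.Agent.* helpers here

set_option autoImplicit false
open Cfsg

namespace Cfsg.Agent.S3963

open Cfsg.Agent.Lib.Helper21
theorem quat_closure (n : ℕ) [NeZero n] :
    Subgroup.closure ({QuaternionGroup.a 1, QuaternionGroup.xa 0} : Set (QuaternionGroup n)) = ⊤ := by
  have : NeZero (2 * n) := ⟨Nat.mul_ne_zero two_ne_zero (NeZero.ne n)⟩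
  rw [eq_top_iff]
  intro g _
  have ha : ∀ i : ZMod (2 * n), (QuaternionGroup.a i : QuaternionGroup n) ∈
      Subgroup.closure ({QuaternionGroup.a 1, QuaternionGroup.xa 0} : Set (QuaternionGroup n)) := by
    intro i
    have h1 : (QuaternionGroup.a i : QuaternionGroup n) = (QuaternionGroup.a 1) ^ i.val := by
      rw [QuaternionGroup.a_one_pow, ZMod.natCast_zmod_val]
    rw [h1]
    exact Subgroup.pow_mem _ (Subgroup.subset_closure (by simp)) _
  rcases g with i | i
  · exact ha i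
  · have h1 : (QuaternionGroup.xa i : QuaternionGroup n) = QuaternionGroup.xa 0 * QuaternionGroup.a i := by
      simp
    rw [h1]
    exact Subgroup.mul_mem _ (Subgroup.subset_closure (by simp)) (ha i)

/-- For every `n ≥ 1` the dicyclic (generalized quaternion) group of order `4 n` has trivial Schur multiplier. -/
theorem result (n : ℕ) [NeZero n] : Cfsg.HasCyclicSchurMultiplier (QuaternionGroup n) 1 := by
  have hne : NeZero (2 * n) := ⟨Nat.mul_ne_zero two_ne_zero (NeZero.ne n)⟩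
  have hnn : (n : ZMod (2 * n)) + n = 0 := by
    rw [← Nat.cast_add, ← two_mul]; exact ZMod.natCast_self _
  apply hasCyclicSchurMultiplier_one_of
  intro Γ _ _ σ hσ
  obtain ⟨hs, hc, hd⟩ := hσ
  obtain ⟨α, hα⟩ := hs (QuaternionGroup.a 1)
  obtain ⟨ξ, hξ⟩ := hs (QuaternionGroup.xa 0)
  set z := α * (ξ * α * ξ⁻¹) with hzdef
  have hz : z ∈ σ.ker := by
    rw [MonoidHom.mem_ker, hzdef]
    simp only [map_mul, map_inv, hα, hξ]
    have hinv : (QuaternionGroup.xa 0 : QuaternionGroup n)⁻¹ = QuaternionGroup.xa (n : ZMod (2 * n)) := by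
      apply inv_eq_of_mul_eq_one_right
      rw [QuaternionGroup.xa_mul_xa, QuaternionGroup.one_def, sub_zero, hnn]
    rw [hinv, QuaternionGroup.xa_mul_a, QuaternionGroup.xa_mul_xa, QuaternionGroup.a_mul_a,
      QuaternionGroup.one_def]
    congr 1
    linear_combination hnn
  have hconj : ξ * α * ξ⁻¹ = α⁻¹ * z := by rw [hzdef]; group
  have hgen : Subgroup.closure ({α, ξ} : Set Γ) ⊔ σ.ker = ⊤ := by
    apply sup_ker_eq_top_of_closure
    rw [hα, hξ]; exact quat_closure n
  rw [eq_bot_iff]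
  intro c hcm
  obtain ⟨j, hj⟩ := dihext_ker_mem σ hc hd α ξ z hz hconj hgen c hcm
  have hord : orderOf (σ (α⁻¹ * α⁻¹ * z)) = n := by
    have h1 : σ (α⁻¹ * α⁻¹ * z) = ((QuaternionGroup.a 1 : QuaternionGroup n) ^ 2)⁻¹ := by
      rw [map_mul, map_mul, map_inv, hα, MonoidHom.mem_ker.mp hz, mul_one, pow_two, mul_inv_rev]
    rw [h1, orderOf_inv, orderOf_pow' _ two_ne_zero, QuaternionGroup.orderOf_a_one]
    have : Nat.gcd (2 * n) 2 = 2 := Nat.gcd_eq_right (Dvd.intro _ rfl)
    rw [this, Nat.mul_div_cancel_left _ (by norm_num : 0 < 2)]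
  have hβ : (α⁻¹ * α⁻¹ * z) ^ n = 1 := by
    apply dihext_beta_pow σ.ker hc α ξ z hz hconj
    have hw : (α ^ n)⁻¹ * ξ ^ 2 ∈ σ.ker := by
      rw [MonoidHom.mem_ker, map_mul, map_inv, map_pow, map_pow, hα, hξ, QuaternionGroup.a_one_pow,
        QuaternionGroup.xa_sq, inv_mul_cancel]
    have hwc := Subgroup.mem_center_iff.mp (hc hw)
    have h1 : α ^ n = ξ ^ 2 * ((α ^ n)⁻¹ * ξ ^ 2)⁻¹ := by group
    have h2 : Commute ξ (ξ ^ 2) := (Commute.refl ξ).pow_right 2
    have h3 : Commute ξ (((α ^ n)⁻¹ * ξ ^ 2)⁻¹) := by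
      apply Commute.inv_right
      exact (hwc ξ)
    have h4 : Commute ξ (α ^ n) := by
      rw [h1]; exact h2.mul_right h3
    exact h4
  rw [hord, hβ, one_zpow] at hj
  rw [hj]; exact Subgroup.one_mem _

end Cfsg.Agent.S3963
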