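import Cfsg.Statements.S3964
import Mathlib
import Cfsg.Agent.Lib.Helper21.DihedralStem
-- import your own Cfsg.Agent.* helpers here

set_option autoImplicit false
open Cfsg

namespace Cfsg.Agent.S3964

open Cfsg.Agent.Lib.Helper21

/-- For odd `n` the dihedral group of order `2 n` has trivial Schur multiplier. -/
theorem result (n : ℕ) (hn : Odd n) : Cfsg.HasCyclicSchurMultiplier (DihedralGroup n) 1 := by
  have hne : NeZero n := ⟨by rintro rfl; simp at hn⟩
  apply hasCyclicSchurMultiplier_one_of
  intro Γ _ _ σ hσ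
  obtain ⟨β, hβn, hσβ, hker⟩ := dih_stem_setup n σ hσ
  have hord : orderOf (σ β) = n := by
    rw [hσβ, orderOf_inv, orderOf_pow' _ two_ne_zero, DihedralGroup.orderOf_r_one]
    have : Nat.gcd n 2 = 1 := by
      exact Nat.coprime_two_right.mpr hn
    rw [this, Nat.div_one]
  rw [eq_bot_iff]
  intro c hcm
  obtain ⟨j, hj⟩ := hker c hcm
  rw [hord, hβn, one_zpow] at hj
  rw [hj]; exact Subgroup.one_mem _

end Cfsg.Agent.S3964
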