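import Cfsg.Statements.S3966
import Mathlib
-- import your own Cfsg.Agent.* helpers here

set_option autoImplicit false
open Cfsg

namespace Cfsg.Agent.S3966

open scoped commutatorElement

open QuaternionGroup DihedralGroup in
/-- the natural projection from the dicyclic group onto the dihedral group -/
noncomputable def proj (n : ℕ) : QuaternionGroup n →* DihedralGroup n :=
  MonoidHom.mk'
    (fun x => match x with
      | QuaternionGroup.a i => DihedralGroup.r (ZMod.castHom (dvd_mul_left n 2) (ZMod n) i)
      | QuaternionGroup.xa i => DihedralGroup.sr (ZMod.castHom (dvd_mul_left n 2) (ZMod n) i))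
    (by
      rintro (i | i) (j | j) <;> simp [map_add, map_sub])

theorem proj_a (n : ℕ) (i : ZMod (2 * n)) :
    proj n (QuaternionGroup.a i) = DihedralGroup.r (ZMod.castHom (dvd_mul_left n 2) (ZMod n) i) := rfl

theorem proj_xa (n : ℕ) (i : ZMod (2 * n)) :
    proj n (QuaternionGroup.xa i) = DihedralGroup.sr (ZMod.castHom (dvd_mul_left n 2) (ZMod n) i) := rfl

theorem cast_eq_zero_iff (n : ℕ) [NeZero n] (i : ZMod (2 * n)) :
    ZMod.castHom (dvd_mul_left n 2) (ZMod n) i = 0 ↔ i = 0 ∨ i = (n : ZMod (2 * n)) := by
  have : NeZero (2 * n) := ⟨Nat.mul_ne_zero two_ne_zero (NeZero.ne n)⟩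
  constructor
  · intro h
    rw [ZMod.castHom_apply, ZMod.cast_eq_val, ZMod.natCast_eq_zero_iff] at h
    obtain ⟨k, hk⟩ := h
    have hlt : i.val < 2 * n := ZMod.val_lt i
    have hk2 : k < 2 := by
      by_contra hge
      rw [not_lt] at hge
      have : n * 2 ≤ n * k := Nat.mul_le_mul_left n hge
      omega
    interval_cases k
    · left
      rw [mul_zero] at hk
      exact (ZMod.val_eq_zero i).mp hk
    · right
      rw [mul_one] at hk
      have h3 := ZMod.natCast_zmod_val i
      rw [hk] at h3
      exact h3.symm
  · rintro (rfl | rfl)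
    · exact map_zero _
    · rw [map_natCast]; exact ZMod.natCast_self n

/-- For even `n ≥ 2` the dicyclic group of order `4 n` is a stem extension of the dihedral group of order `2 n` with kernel of order `2`: there is a surjective homomorphism `QuaternionGroup n →* DihedralGroup n` whose kernel is central, lies in the commutator subgroup and has two elements. Together with the order of the multiplier this exhibits the dicyclic group as a Schur covering group of the dihedral group. -/
theorem result (n : ℕ) [NeZero n] (hn : Even n) : ∃ σ : QuaternionGroup n →* DihedralGroup n, Cfsg.IsStemExtension σ ∧ Nat.card σ.ker = 2 := by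
  have : NeZero (2 * n) := ⟨Nat.mul_ne_zero two_ne_zero (NeZero.ne n)⟩
  have h2n : ((2 * n : ℕ) : ZMod (2 * n)) = 0 := ZMod.natCast_self _
  have hnn : (n : ZMod (2 * n)) + n = 0 := by
    rw [← Nat.cast_add, ← two_mul]; exact h2n
  have hker : ∀ x : QuaternionGroup n, x ∈ (proj n).ker ↔ x = 1 ∨ x = QuaternionGroup.a (n : ZMod (2 * n)) := by
    intro x
    rw [MonoidHom.mem_ker]
    rcases x with i | i
    · rw [proj_a, DihedralGroup.one_def, QuaternionGroup.one_def]
      constructor
      · intro h
        have := DihedralGroup.r.inj h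
        rcases (cast_eq_zero_iff n i).mp this with h0 | h0
        · left; rw [h0]
        · right; rw [h0]
      · rintro (h | h)
        · have := QuaternionGroup.a.inj h
          rw [this, map_zero]
        · have := QuaternionGroup.a.inj h
          rw [(cast_eq_zero_iff n i).mpr (Or.inr this)]
    · rw [proj_xa, DihedralGroup.one_def, QuaternionGroup.one_def]
      constructor
      · intro h; cases h
      · rintro (h | h) <;> cases h
  have hne : (QuaternionGroup.a (n : ZMod (2 * n)) : QuaternionGroup n) ≠ 1 := by
    rw [QuaternionGroup.one_def]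
    intro h
    have h1 := QuaternionGroup.a.inj h
    rw [ZMod.natCast_eq_zero_iff] at h1
    have := Nat.le_of_dvd (NeZero.pos n) h1
    have := NeZero.pos n
    omega
  refine ⟨proj n, ⟨?_, ?_, ?_⟩, ?_⟩
  · -- surjective
    rintro (j | j)
    · obtain ⟨i, hi⟩ := ZMod.ringHom_surjective (ZMod.castHom (dvd_mul_left n 2) (ZMod n)) j
      exact ⟨QuaternionGroup.a i, by rw [proj_a, hi]⟩
    · obtain ⟨i, hi⟩ := ZMod.ringHom_surjective (ZMod.castHom (dvd_mul_left n 2) (ZMod n)) j
      exact ⟨QuaternionGroup.xa i, by rw [proj_xa, hi]⟩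
  · -- central
    intro x hx
    rw [Subgroup.mem_center_iff]
    rcases (hker x).mp hx with rfl | rfl
    · intro g; simp
    · rintro (j | j)
      · simp [add_comm]
      · simp only [QuaternionGroup.xa_mul_a, QuaternionGroup.a_mul_xa]
        congr 1
        rw [sub_eq_add_neg]
        congr 1
        exact (neg_eq_of_add_eq_zero_left hnn).symm
  · -- in the commutator subgroup
    intro x hx
    rcases (hker x).mp hx with rfl | rfl
    · exact one_mem _
    · obtain ⟨m, hm⟩ := hn
      have : (QuaternionGroup.a (n : ZMod (2 * n)) : QuaternionGroup n) =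
          ⁅QuaternionGroup.a (m : ZMod (2 * n)), QuaternionGroup.xa 0⁆ := by
        rw [commutatorElement_def]
        have hinv1 : (QuaternionGroup.a (m : ZMod (2 * n)) : QuaternionGroup n)⁻¹ = QuaternionGroup.a (-(m : ZMod (2 * n))) := rfl
        have hinv2 : (QuaternionGroup.xa (0 : ZMod (2 * n)) : QuaternionGroup n)⁻¹ = QuaternionGroup.xa ((n : ZMod (2 * n)) + 0) := rfl
        rw [hinv1, hinv2]
        simp only [QuaternionGroup.a_mul_xa, QuaternionGroup.xa_mul_a, QuaternionGroup.xa_mul_xa]
        congr 1
        have hnm : (n : ZMod (2 * n)) = m + m := by rw [hm]; push_cast; rfl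
        rw [hnm] at hnn ⊢
        linear_combination -hnn
      rw [this]
      exact Subgroup.commutator_mem_commutator (Subgroup.mem_top _) (Subgroup.mem_top _)
  · rw [Nat.card_eq_two_iff]
    refine ⟨⟨1, one_mem _⟩, ⟨QuaternionGroup.a (n : ZMod (2 * n)), (hker _).mpr (Or.inr rfl)⟩, ?_, ?_⟩
    · intro h
      exact hne (congrArg Subtype.val h).symm
    · ext ⟨x, hx⟩
      simp only [Set.mem_insert_iff, Set.mem_singleton_iff, Set.mem_univ, iff_true, Subtype.mk.injEq]
      exact (hker x).mp hx

end Cfsg.Agent.S3966
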