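import Cfsg.Statements.S3965
import Mathlib
import Cfsg.Agent.Lib.Helper21.DihedralStem
import Cfsg.Agent.S3966
-- import your own Cfsg.Agent.* helpers here

set_option autoImplicit false
open Cfsg

namespace Cfsg.Agent.S3965

open Cfsg.Agent.Lib.Helper21

/-- For even `n ≥ 2` the dihedral group of order `2 n` has Schur multiplier cyclic of order `2`. -/
theorem result (n : ℕ) [NeZero n] (hn : Even n) : Cfsg.HasCyclicSchurMultiplier (DihedralGroup n) 2 := by
  constructor
  · obtain ⟨σ, hσ, hcard⟩ := Cfsg.Agent.S3966.result n hn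
    refine ⟨QuaternionGroup n, inferInstance, inferInstance, σ, hσ, ⟨?_⟩⟩
    have : Fact (Nat.Prime 2) := ⟨Nat.prime_two⟩
    apply mulEquivOfPrimeCardEq (p := 2) hcard
    rw [Nat.card_eq_fintype_card]
    rfl
  · intro Γ _ _ σ hσ
    obtain ⟨β, hβn, hσβ, hker⟩ := dih_stem_setup n σ hσ
    obtain ⟨m, hm⟩ := hn
    have hm0 : m ≠ 0 := by
      rintro rfl
      exact (NeZero.ne n) (by omega)
    have hord : orderOf (σ β) = m := by
      rw [hσβ, orderOf_inv, orderOf_pow' _ two_ne_zero, DihedralGroup.orderOf_r_one]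
      have : Nat.gcd n 2 = 2 := Nat.gcd_eq_right ⟨m, by omega⟩
      rw [this, hm]
      omega
    rw [hord] at hker
    apply exists_surjective_of_zpowers σ.ker 2 (β ^ m)
    · rw [MonoidHom.mem_ker, map_pow, ← hord, pow_orderOf_eq_one]
    · rw [← pow_mul, ← hβn, hm]
      congr 1
      omega
    · exact hker

end Cfsg.Agent.S3965
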