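import Cfsg.Statements.S3969
import Mathlib
import Cfsg.Agent.Lib.Helper21.Primary
import Cfsg.Agent.Lib.Helper21.SylowBasic
-- import your own Cfsg.Agent.* helpers here

set_option autoImplicit false
open Cfsg

namespace Cfsg.Agent.S3969

open Cfsg.Agent.Lib.Helper21
/-- a `q`-group acting nontrivially by automorphisms on a `p`-group `V` forces `q ∣ p ^ i - 1`
for some `1 ≤ i` with `p ^ i ∣ |V|`. -/
theorem exists_dvd_pow_sub_one_of_action {V Z : Type*} [Group V] [Finite V] [Group Z]
    [MulDistribMulAction Z V] (p q : ℕ) [hp : Fact p.Prime] [hq : Fact q.Prime] (hpq : p ≠ q)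
    (hV : IsPGroup p V) (hZ : IsPGroup q Z) (hnt : ∃ (z : Z) (v : V), z • v ≠ v) :
    ∃ i : ℕ, 1 ≤ i ∧ p ^ i ∣ Nat.card V ∧ q ∣ p ^ i - 1 := by
  obtain ⟨t, ht⟩ := IsPGroup.iff_card.mp hV
  set F := FixedPoints.subgroup Z V with hF
  have hFp : IsPGroup p F := hV.to_subgroup F
  obtain ⟨c, hc⟩ := IsPGroup.iff_card.mp hFp
  have hFne : F ≠ ⊤ := by
    intro h
    obtain ⟨z, v, hzv⟩ := hnt
    have : v ∈ F := by rw [h]; trivial
    rw [hF, FixedPoints.mem_subgroup] at this
    exact hzv (this z)
  have hct : c < t := by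
    have h1 : Nat.card F ∣ Nat.card V := Subgroup.card_subgroup_dvd_card F
    rw [hc, ht] at h1
    have h2 : c ≤ t := (Nat.pow_dvd_pow_iff_le_right hp.out.one_lt).mp h1
    rcases Nat.lt_or_ge c t with h | h
    · exact h
    · exfalso
      apply hFne
      apply Subgroup.eq_top_of_card_eq
      rw [hc, ht]
      congr 1
      omega
  have hmod := hZ.card_modEq_card_fixedPoints V
  have hfix : Nat.card (MulAction.fixedPoints Z V) = Nat.card F := rfl
  rw [hfix, hc, ht] at hmod
  -- q ∣ p^t - p^c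
  have h3 : q ∣ p ^ t - p ^ c := (Nat.modEq_iff_dvd' (Nat.pow_le_pow_right hp.out.pos hct.le)).mp hmod.symm
  have h4 : p ^ t - p ^ c = p ^ c * (p ^ (t - c) - 1) := by
    rw [Nat.mul_sub, mul_one, ← pow_add]
    congr 2
    omega
  rw [h4] at h3
  have h5 : Nat.Coprime q (p ^ c) := Nat.Coprime.pow_right _ ((Nat.coprime_primes hq.out hp.out).mpr (Ne.symm hpq))
  refine ⟨t - c, by omega, ?_, h5.dvd_of_dvd_mul_left h3⟩
  rw [ht]
  exact pow_dvd_pow p (Nat.sub_le t c)

/-- `Ω₁` of an abelian subgroup, as a subgroup of `G`. -/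
def omegaOne {G : Type*} [Group G] (P : Subgroup G) (hab : ∀ a ∈ P, ∀ b ∈ P, a * b = b * a) (p : ℕ) : Subgroup G where
  carrier := {x | x ∈ P ∧ x ^ p = 1}
  mul_mem' := by
    rintro a b ⟨ha, ha'⟩ ⟨hb, hb'⟩
    refine ⟨P.mul_mem ha hb, ?_⟩
    have hc : Commute a b := hab a ha b hb
    rw [hc.mul_pow, ha', hb', one_mul]
  one_mem' := ⟨P.one_mem, one_pow _⟩
  inv_mem' := by
    rintro a ⟨ha, ha'⟩
    exact ⟨P.inv_mem ha, by rw [inv_pow, ha', inv_one]⟩

theorem mem_omegaOne {G : Type*} [Group G] (P : Subgroup G) (hab : ∀ a ∈ P, ∀ b ∈ P, a * b = b * a) (p : ℕ) (x : G) :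
    x ∈ omegaOne P hab p ↔ x ∈ P ∧ x ^ p = 1 := Iff.rfl

/-- Step 1: an element of `q`-power order normalizing the abelian `p`-group `P` and centralizing `Ω₁(P)`
centralizes `P`. -/
theorem centralizes_of_centralizes_omegaOne {G : Type*} [Group G] (P : Subgroup G)
    (hab : ∀ a ∈ P, ∀ b ∈ P, a * b = b * a) (p q : ℕ) (hp : p.Prime) (hq : q.Prime) (hpq : p ≠ q)
    (hP : ∀ x ∈ P, ∃ k : ℕ, x ^ (p ^ k) = 1) (g : G) (v : ℕ) (hgq : g ^ (q ^ v) = 1)
    (hgN : ∀ x ∈ P, g * x * g⁻¹ ∈ P)
    (hΩ : ∀ x ∈ omegaOne P hab p, g * x * g⁻¹ = x) : ∀ x ∈ P, g * x * g⁻¹ = x := by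
  have key : ∀ k : ℕ, ∀ x ∈ P, x ^ (p ^ k) = 1 → g * x * g⁻¹ = x := by
    intro k
    induction k with
    | zero =>
      intro x _ hx
      rw [pow_zero, pow_one] at hx
      rw [hx]; group
    | succ k ih =>
      intro x hxP hx
      have hxp : g * x ^ p * g⁻¹ = x ^ p := by
        apply ih (x ^ p) (P.pow_mem hxP p)
        rw [← pow_mul, ← pow_succ']; exact hx
      set u := x⁻¹ * (g * x * g⁻¹) with hu
      have huP : u ∈ P := P.mul_mem (P.inv_mem hxP) (hgN x hxP)
      have hup : u ^ p = 1 := by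
        have hc : Commute x⁻¹ (g * x * g⁻¹) := hab _ (P.inv_mem hxP) _ (hgN x hxP)
        rw [hu, hc.mul_pow, conj_pow, hxp, inv_pow, inv_mul_cancel]
      have huΩ : u ∈ omegaOne P hab p := ⟨huP, hup⟩
      have hgu : g * u * g⁻¹ = u := hΩ u huΩ
      have hgx : g * x * g⁻¹ = x * u := by rw [hu]; group
      have hiter : ∀ j : ℕ, g ^ j * x * (g ^ j)⁻¹ = x * u ^ j := by
        intro j
        induction j with
        | zero => simp
        | succ j ihj =>
          have h1 : g ^ (j + 1) * x * (g ^ (j + 1))⁻¹ = g * (g ^ j * x * (g ^ j)⁻¹) * g⁻¹ := by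
            rw [pow_succ']; group
          rw [h1, ihj]
          have h2 : g * (x * u ^ j) * g⁻¹ = (g * x * g⁻¹) * (g * u * g⁻¹) ^ j := by
            rw [conj_pow]; group
          rw [h2, hgx, hgu, mul_assoc, ← pow_succ']
      have h3 := hiter (q ^ v)
      rw [hgq, one_mul, inv_one, mul_one] at h3
      have h4 : u ^ (q ^ v) = 1 := by
        have : x * u ^ (q ^ v) = x * 1 := by rw [mul_one]; exact h3.symm
        exact mul_left_cancel this
      have h5 : orderOf u ∣ Nat.gcd (q ^ v) p := Nat.dvd_gcd (orderOf_dvd_of_pow_eq_one h4) (orderOf_dvd_of_pow_eq_one hup)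
      have h6 : Nat.gcd (q ^ v) p = 1 := Nat.Coprime.pow_left _ ((Nat.coprime_primes hq hp).mpr (Ne.symm hpq))
      rw [h6, Nat.dvd_one, orderOf_eq_one_iff] at h5
      rw [hgx, h5, mul_one]
  intro x hx
  obtain ⟨k, hk⟩ := hP x hx
  exact key k x hx hk

/-- In a finite abelian group, the number of solutions of `x ^ p = 1` divides `p ^ rank`. -/
theorem card_ker_pow_dvd_pow_rank {A : Type*} [CommGroup A] [Finite A] (p : ℕ) :
    Nat.card (powMonoidHom p : A →* A).ker ∣ p ^ Group.rank A := by
  set φ : A →* A := powMonoidHom p with hφ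
  set R := φ.range with hR
  have h1 : Nat.card (A ⧸ R) ∣ p ^ Group.rank (A ⧸ R) := by
    apply card_dvd_exponent_pow_rank'
    intro g
    induction g using QuotientGroup.induction_on with
    | H a =>
      rw [← QuotientGroup.mk_pow, QuotientGroup.eq_one_iff]
      exact ⟨a, rfl⟩
  have h2 : Group.rank (A ⧸ R) ≤ Group.rank A :=
    Group.rank_le_of_surjective (QuotientGroup.mk' R) (QuotientGroup.mk'_surjective R)
  have h3 : Nat.card (A ⧸ R) = Nat.card φ.ker := by
    have e1 : Nat.card φ.ker * φ.ker.index = Nat.card A := Subgroup.card_mul_index _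
    have e2 : Nat.card R * R.index = Nat.card A := Subgroup.card_mul_index _
    have e3 : φ.ker.index = Nat.card R := Subgroup.index_ker φ
    have e4 : R.index = Nat.card (A ⧸ R) := Subgroup.index_eq_card R
    rw [← e4]
    have hpos : 0 < Nat.card R := Nat.card_pos
    rw [e3] at e1
    have : Nat.card R * R.index = Nat.card R * Nat.card φ.ker := by rw [e2, ← e1, mul_comm]
    exact Nat.eq_of_mul_eq_mul_left hpos this
  rw [← h3]
  exact h1.trans (pow_dvd_pow p h2)

open scoped IsMulCommutative in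
theorem card_omegaOne_dvd {G : Type*} [Group G] [Finite G] (P : Subgroup G) [hP : IsMulCommutative P]
    (hab : ∀ a ∈ P, ∀ b ∈ P, a * b = b * a) (p : ℕ) :
    Nat.card (omegaOne P hab p) ∣ p ^ Group.rank P := by
  have h := card_ker_pow_dvd_pow_rank (A := P) p
  have e : (powMonoidHom p : P →* P).ker ≃ omegaOne P hab p :=
    { toFun := fun x => ⟨x.1.1, x.1.2, by
        have := x.2
        rw [MonoidHom.mem_ker, powMonoidHom_apply] at this
        have h2 := congrArg Subtype.val this
        simpa using h2⟩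
      invFun := fun x => ⟨⟨x.1, x.2.1⟩, by
        rw [MonoidHom.mem_ker, powMonoidHom_apply]
        apply Subtype.ext
        simpa using x.2.2⟩
      left_inv := fun x => rfl
      right_inv := fun x => rfl }
  rw [← Nat.card_congr e]
  exact h

/-- Let `P` be an abelian Sylow `p`-subgroup of the finite group `G`, generated by `d` elements (`d` its minimal number of generators). If the order of `G` is coprime to `(p - 1)(p ^ 2 - 1) ⋯ (p ^ d - 1)`, then `G` has a normal `p`-complement. (The classical statement needs only the largest number of cyclic factors of `P` of equal order in place of `d`; the form here follows from it.) -/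
theorem result {G : Type*} [Group G] [Finite G] (p : ℕ) [Fact p.Prime] (P : Sylow p G) (hab : IsMulCommutative (P : Subgroup G)) (hcop : Nat.Coprime (Nat.card G) (∏ i ∈ Finset.Icc 1 (Group.rank (P : Subgroup G)), (p ^ i - 1))) : Cfsg.HasNormalPComplement p G := by
  have hp : p.Prime := Fact.out
  have hab' : ∀ a ∈ (P : Subgroup G), ∀ b ∈ (P : Subgroup G), a * b = b * a :=
    fun a ha b hb => setLike_mul_comm ha hb
  have hNC : Subgroup.normalizer ((P : Subgroup G) : Set G) ≤ Subgroup.centralizer ((P : Subgroup G) : Set G) := by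
    intro g₀ hg₀
    apply mem_of_primary_parts_mem _ (orderOf g₀) g₀ rfl (orderOf_pos g₀).ne'
    intro q hq hqn
    have : Fact q.Prime := ⟨hq⟩
    set v := (orderOf g₀).factorization q with hv
    set g := g₀ ^ (orderOf g₀ / q ^ v) with hg
    have hgN : g ∈ Subgroup.normalizer ((P : Subgroup G) : Set G) := Subgroup.pow_mem _ hg₀ _
    have hgq : g ^ (q ^ v) = 1 := by
      rw [hg, ← pow_mul, Nat.div_mul_cancel (Nat.ordProj_dvd _ _), pow_orderOf_eq_one]
    have hgN' : ∀ x ∈ (P : Subgroup G), g * x * g⁻¹ ∈ (P : Subgroup G) := by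
      intro x hx
      exact (Subgroup.mem_normalizer_iff.mp hgN x).mp hx
    by_cases hqp : q = p
    · -- `g` is a `p`-element of `N(P)`, so lies in `P`
      have hZp : IsPGroup p (Subgroup.zpowers g) := by
        apply IsPGroup.of_card_dvd_pow (n := v)
        rw [Nat.card_zpowers]
        exact orderOf_dvd_of_pow_eq_one (hqp ▸ hgq)
      have hle : Subgroup.zpowers g ≤ Subgroup.normalizer ((P : Subgroup G) : Set G) := by
        rw [Subgroup.zpowers_le]; exact hgN
      have hsup : IsPGroup p (Subgroup.zpowers g ⊔ (P : Subgroup G) : Subgroup G) :=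
        hZp.to_sup_of_normal_right' P.2 hle
      have heq := P.3 hsup le_sup_right
      have hgP : g ∈ (P : Subgroup G) := by
        rw [← heq]; exact Subgroup.mem_sup_left (Subgroup.mem_zpowers g)
      rw [Subgroup.mem_centralizer_iff]
      intro x hx
      exact hab' x hx g hgP
    · by_contra hgC
      have hnotΩ : ¬ ∀ x ∈ omegaOne (P : Subgroup G) hab' p, g * x * g⁻¹ = x := by
        intro hΩ
        apply hgC
        have := centralizes_of_centralizes_omegaOne (P : Subgroup G) hab' p q hp hq (Ne.symm hqp)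
          (fun x hx => by
            obtain ⟨k, hk⟩ := P.2 ⟨x, hx⟩
            exact ⟨k, by simpa using congrArg Subtype.val hk⟩) g v hgq hgN' hΩ
        rw [Subgroup.mem_centralizer_iff]
        intro x hx
        have h1 := this x hx
        calc x * g = (g * x * g⁻¹) * g := by rw [h1]
          _ = g * x := by group
      push Not at hnotΩ
      obtain ⟨x, hxΩ, hxg⟩ := hnotΩ
      set Ω := omegaOne (P : Subgroup G) hab' p with hΩdef
      have hgNΩ : g ∈ Subgroup.normalizer (Ω : Set G) := by
        apply Subgroup.mem_normalizer_fintype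
        intro n hn
        refine ⟨hgN' n hn.1, ?_⟩
        rw [conj_pow, hn.2]; group
      set σ : MulAut Ω := Subgroup.normalizerMonoidHom Ω ⟨g, hgNΩ⟩ with hσ
      have hσq : σ ^ (q ^ v) = 1 := by
        rw [hσ, ← map_pow]
        have : (⟨g, hgNΩ⟩ : Subgroup.normalizer (Ω : Set G)) ^ (q ^ v) = 1 := by
          apply Subtype.ext
          simpa using hgq
        rw [this, map_one]
      have hZ : IsPGroup q (Subgroup.zpowers σ) := by
        rintro ⟨z, hz⟩
        obtain ⟨k, rfl⟩ := Subgroup.mem_zpowers_iff.mp hz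
        refine ⟨v, Subtype.ext ?_⟩
        simp only [Subgroup.coe_pow, Subgroup.coe_one]
        rw [← zpow_natCast, ← zpow_mul, mul_comm, zpow_mul, zpow_natCast, hσq, one_zpow]
      have hV : IsPGroup p Ω := P.2.to_le (fun x hx => hx.1)
      have hnt : ∃ (z : Subgroup.zpowers σ) (w : Ω), z • w ≠ w := by
        refine ⟨⟨σ, Subgroup.mem_zpowers σ⟩, ⟨x, hxΩ⟩, ?_⟩
        intro h
        apply hxg
        have := congrArg Subtype.val h
        exact this
      obtain ⟨i, hi1, hidvd, hqi⟩ := exists_dvd_pow_sub_one_of_action p q (Ne.symm hqp) hV hZ hnt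
      have hcard := card_omegaOne_dvd (P : Subgroup G) hab' p
      have hir : i ≤ Group.rank (P : Subgroup G) :=
        (Nat.pow_dvd_pow_iff_le_right hp.one_lt).mp (hidvd.trans hcard)
      have hq1 : q ∣ ∏ i ∈ Finset.Icc 1 (Group.rank (P : Subgroup G)), (p ^ i - 1) :=
        hqi.trans (Finset.dvd_prod_of_mem _ (Finset.mem_Icc.mpr ⟨hi1, hir⟩))
      have hq2 : q ∣ Nat.card G := hqn.trans (orderOf_dvd_natCard g₀)
      have := Nat.dvd_gcd hq2 hq1
      rw [hcop] at this
      exact hq.one_lt.ne' (Nat.dvd_one.mp this)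
  exact ⟨P, _, inferInstance, MonoidHom.ker_transferSylow_isComplement' P hNC⟩

end Cfsg.Agent.S3969
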