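import Cfsg.Statements.S3970
import Mathlib
import Cfsg.Agent.S3969
-- import your own Cfsg.Agent.* helpers here

set_option autoImplicit false
open Cfsg

namespace Cfsg.Agent.S3970

universe u

theorem rank_le_one_of_isCyclic' {P : Type*} [Group P] [Finite P] [hc : IsCyclic P] : Group.rank P ≤ 1 := by
  obtain ⟨g, hg⟩ := hc.exists_generator
  have h1 : Subgroup.closure ((({g} : Finset P) : Set P)) = ⊤ := by
    rw [Finset.coe_singleton, ← Subgroup.zpowers_eq_closure]
    exact (Subgroup.eq_top_iff' _).mpr hg
  have := Group.rank_le h1
  simpa using this

theorem solvable_aux : ∀ (n : ℕ) (G : Type u) [Group G] [Finite G], Nat.card G = n →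
    (∀ p : ℕ, p.Prime → p ∣ Nat.card G → (∃ q : ℕ, q.Prime ∧ q ∣ Nat.card G ∧ p < q) →
      ∀ P : Sylow p G, IsMulCommutative (P : Subgroup G) ∧ Group.rank (P : Subgroup G) ≤ 2) →
    ¬ 12 ∣ Nat.card G → Group.IsSolvable G := by
  intro n
  induction n using Nat.strong_induction_on with
  | _ n ih =>
    intro G _ _ hn h h12
    by_cases h1 : Nat.card G = 1
    · have : Subsingleton G := (Nat.card_eq_one_iff_unique.mp h1).1
      infer_instance
    set p := (Nat.card G).minFac with hp
    have hpp : p.Prime := Nat.minFac_prime h1
    have hpG : p ∣ Nat.card G := Nat.minFac_dvd _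
    have hmin : ∀ r : ℕ, r.Prime → r ∣ Nat.card G → p ≤ r := fun r hr hrG =>
      Nat.minFac_le_of_dvd hr.two_le hrG
    have : Fact p.Prime := ⟨hpp⟩
    by_cases hbig : ∃ q : ℕ, q.Prime ∧ q ∣ Nat.card G ∧ p < q
    · -- normal p-complement
      let P : Sylow p G := default
      obtain ⟨hab, hrk⟩ := h p hpp hpG hbig P
      have hcop : Nat.Coprime (Nat.card G) (∏ i ∈ Finset.Icc 1 (Group.rank (P : Subgroup G)), (p ^ i - 1)) := by
        apply Nat.Coprime.prod_right
        intro i hi
        rw [Finset.mem_Icc] at hi
        apply Nat.coprime_of_dvd
        intro r hr hrG hri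
        have hpr : p ≤ r := hmin r hr hrG
        have hp1 : ¬ r ∣ p - 1 := by
          intro hd
          have hpos : 0 < p - 1 := by have := hpp.two_le; omega
          have := Nat.le_of_dvd hpos hd
          omega
        have hi2 : i = 1 ∨ i = 2 := by omega
        rcases hi2 with hi1 | hi2
        · rw [hi1, pow_one] at hri
          exact hp1 hri
        · rw [hi2] at hri hi
          have hfac : p ^ 2 - 1 = (p - 1) * (p + 1) := by
            obtain ⟨k, hk⟩ : ∃ k, p = k + 1 := ⟨p - 1, by have := hpp.two_le; omega⟩
            rw [hk]
            simp only [Nat.add_sub_cancel]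
            ring_nf
            omega
          rw [hfac] at hri
          rcases (Nat.Prime.dvd_mul hr).mp hri with hd | hd
          · exact hp1 hd
          · have hle : r ≤ p + 1 := Nat.le_of_dvd (by omega) hd
            have hrp : r ≠ p := by
              intro hrp
              rw [hrp] at hd
              have : p ∣ 1 := (Nat.dvd_add_right (dvd_refl p)).mp hd
              exact hpp.one_lt.ne' (Nat.dvd_one.mp this)
            have hrp1 : r = p + 1 := by omega
            -- `p = 2`, `r = 3`
            have hp2 : p = 2 := by
              have := hpp.two_le
              rcases hpp.eq_two_or_odd with h2 | hodd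
              · exact h2
              · rcases hr.eq_two_or_odd with h2 | hodd'
                · omega
                · omega
            have hr3 : r = 3 := by omega
            -- `4 ∤ |G|`
            have h4 : ¬ 4 ∣ Nat.card G := by
              intro h4
              apply h12
              have h3 : 3 ∣ Nat.card G := hr3 ▸ hrG
              have : Nat.Coprime 4 3 := by norm_num
              exact this.mul_dvd_of_dvd_of_dvd h4 h3
            -- so `|P| ≤ 2` and rank ≤ 1
            have hcardP : Nat.card (P : Subgroup G) = p ^ (Nat.card G).factorization p :=
              P.card_eq_multiplicity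
            have hv : (Nat.card G).factorization p ≤ 1 := by
              by_contra hv
              push Not at hv
              apply h4
              have h5 : p ^ 2 ∣ Nat.card G :=
                (pow_dvd_pow p hv).trans (Nat.ordProj_dvd _ _)
              rw [hp2] at h5
              exact h5
            have hrk1 : Group.rank (P : Subgroup G) ≤ 1 := by
              have hv' : (Nat.card G).factorization p = 0 ∨ (Nat.card G).factorization p = 1 := by omega
              rcases hv' with hv0 | hv1
              · rw [hv0, pow_zero] at hcardP
                have : Subsingleton (P : Subgroup G) := (Nat.card_eq_one_iff_unique.mp hcardP).1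
                exact rank_le_one_of_isCyclic'
              · rw [hv1, pow_one] at hcardP
                have : IsCyclic (P : Subgroup G) := isCyclic_of_prime_card hcardP
                exact rank_le_one_of_isCyclic'
            omega
      obtain ⟨P', N, hNn, hNc⟩ := Cfsg.Agent.S3969.result p P hab hcop
      have hcardmul : Nat.card N * Nat.card (P' : Subgroup G) = Nat.card G := hNc.card_mul_card
      have hcardP' : Nat.card (P' : Subgroup G) = p ^ (Nat.card G).factorization p :=
        P'.card_eq_multiplicity
      have hvpos : 0 < (Nat.card G).factorization p :=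
        Nat.Prime.factorization_pos_of_dvd hpp Nat.card_pos.ne' hpG
      have hNlt : Nat.card N < n := by
        rw [← hn, ← hcardmul]
        have h2 : 2 ≤ Nat.card (P' : Subgroup G) := by
          rw [hcardP']
          calc 2 ≤ p := hpp.two_le
            _ = p ^ 1 := (pow_one p).symm
            _ ≤ p ^ (Nat.card G).factorization p := Nat.pow_le_pow_right hpp.pos hvpos
        have : 0 < Nat.card N := Nat.card_pos
        nlinarith
      have hNdvd : Nat.card N ∣ Nat.card G := Dvd.intro _ hcardmul
      have hpN : ¬ p ∣ Nat.card N := by
        intro hpN
        have h3 : p ^ ((Nat.card G).factorization p + 1) ∣ Nat.card G := by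
          calc p ^ ((Nat.card G).factorization p + 1) = p * p ^ (Nat.card G).factorization p := pow_succ' _ _
            _ ∣ Nat.card N * Nat.card (P' : Subgroup G) := mul_dvd_mul hpN (hcardP' ▸ dvd_rfl)
            _ = Nat.card G := hcardmul
        exact Nat.pow_succ_factorization_not_dvd Nat.card_pos.ne' hpp h3
      -- hypotheses for `N`
      have hN : ∀ q : ℕ, q.Prime → q ∣ Nat.card N → (∃ q' : ℕ, q'.Prime ∧ q' ∣ Nat.card N ∧ q < q') →
          ∀ Q : Sylow q N, IsMulCommutative (Q : Subgroup N) ∧ Group.rank (Q : Subgroup N) ≤ 2 := by
        intro q hq hqN hq' Q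
        have : Fact q.Prime := ⟨hq⟩
        have hqp : q ≠ p := fun hqp => hpN (hqp ▸ hqN)
        have hfac : (Nat.card G).factorization q = (Nat.card N).factorization q := by
          have hnd : ¬ q ∣ p ^ (Nat.card G).factorization p := by
            intro hd
            exact hqp ((Nat.prime_dvd_prime_iff_eq hq hpp).mp (hq.dvd_of_dvd_pow hd))
          have h5 : (Nat.card G).factorization q =
              (Nat.card N * Nat.card (P' : Subgroup G)).factorization q := by rw [hcardmul]
          rw [h5, Nat.factorization_mul Nat.card_pos.ne' Nat.card_pos.ne', Finsupp.add_apply, hcardP',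
            Nat.factorization_eq_zero_of_not_dvd hnd, add_zero]
        have hcardQ : Nat.card ((Q : Subgroup N).map N.subtype) = q ^ (Nat.card G).factorization q := by
          rw [hfac, ← Q.card_eq_multiplicity]
          exact Nat.card_congr ((Q : Subgroup N).equivMapOfInjective N.subtype N.subtype_injective).symm.toEquiv
        let Q' : Sylow q G := Sylow.ofCard ((Q : Subgroup N).map N.subtype) hcardQ
        obtain ⟨q', hq'p, hq'N, hlt⟩ := hq'
        obtain ⟨hc, hr⟩ := h q hq (hqN.trans hNdvd) ⟨q', hq'p, hq'N.trans hNdvd, hlt⟩ Q'
        have e : (Q : Subgroup N) ≃* (Q' : Subgroup G) :=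
          (Q : Subgroup N).equivMapOfInjective N.subtype N.subtype_injective
        constructor
        · constructor
          constructor
          intro a b
          apply e.injective
          rw [map_mul, map_mul]
          exact hc.is_comm.comm (e a) (e b)
        · rw [Group.rank_congr e]
          exact hr
      have h12N : ¬ 12 ∣ Nat.card N := fun hd => h12 (hd.trans hNdvd)
      have hNsolv : Group.IsSolvable N := ih _ hNlt N rfl hN h12N
      have hQp : IsPGroup p (G ⧸ N) := by
        apply IsPGroup.of_card (n := (Nat.card G).factorization p)
        rw [← Subgroup.index_eq_card, hNc.symm.index_eq_card, hcardP']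
      have hQsolv : Group.IsSolvable (G ⧸ N) := by
        have := hQp.isNilpotent
        infer_instance
      exact Group.isSolvable_of_ker_le_range N.subtype (QuotientGroup.mk' N) (by
        rw [QuotientGroup.ker_mk', Subgroup.range_subtype])
    · -- `G` is a `p`-group
      push Not at hbig
      have hpow : Nat.card G = p ^ (Nat.card G).primeFactorsList.length := by
        apply Nat.eq_prime_pow_of_unique_prime_dvd Nat.card_pos.ne'
        intro d hd hdG
        have h1 := hmin d hd hdG
        have h2 := hbig d hd hdG
        omega
      have hGp : IsPGroup p G := IsPGroup.of_card hpow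
      have := hGp.isNilpotent
      infer_instance

/-- Let `G` be a finite group such that for every prime `p` dividing its order, other than the largest such prime, the Sylow `p`-subgroups are abelian and generated by at most two elements, and suppose `12` does not divide the order of `G`. Then `G` is solvable. In particular a group of cube-free order not divisible by `12` is solvable. -/
theorem result {G : Type*} [Group G] [Finite G] (h : ∀ p : ℕ, p.Prime → p ∣ Nat.card G → (∃ q : ℕ, q.Prime ∧ q ∣ Nat.card G ∧ p < q) → ∀ P : Sylow p G, IsMulCommutative (P : Subgroup G) ∧ Group.rank (P : Subgroup G) ≤ 2) (h12 : ¬ 12 ∣ Nat.card G) : Group.IsSolvable G := by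
  exact solvable_aux _ G rfl h h12

end Cfsg.Agent.S3970
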