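import Cfsg.Statements.S3978
import Cfsg.Agent.Lib.Helper27.SchurLift
import Cfsg.Agent.Lib.Helper21.SchurMult

set_option autoImplicit false
open Cfsg

namespace Cfsg.Agent.S3978

/-- A finite group `Q` has trivial Schur multiplier if and only if, for every `n`, every homomorphism from `Q` to the projective general linear group (the quotient of `GL n ℂ` by its centre) lifts to a homomorphism into `GL n ℂ`. -/
theorem result {Q : Type*} [Group Q] [Finite Q] : Cfsg.HasCyclicSchurMultiplier Q 1 ↔ ∀ (n : ℕ) (γ : Q →* (GL (Fin n) ℂ ⧸ Subgroup.center (GL (Fin n) ℂ))), ∃ ρ : Q →* GL (Fin n) ℂ, (QuotientGroup.mk' (Subgroup.center (GL (Fin n) ℂ))).comp ρ = γ := by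
  open Cfsg.Agent.Lib.Helper27.Schur in
  constructor
  · intro hA n γ
    apply exists_lift_of_pbFst γ
    obtain ⟨θ, hθ⟩ := exists_surjective_of_hasSchurMultiplier hA (pbFst γ) (pbFst_surjective γ)
      (pbFst_ker_le_center γ)
    rw [eq_bot_iff]
    intro e he
    obtain ⟨a, ha⟩ := hθ ⟨e, he⟩
    have h2 : Subsingleton (Multiplicative (ZMod 1)) := by
      have : Subsingleton (ZMod 1) := by
        change Subsingleton (Fin 1); infer_instance
      exact inferInstanceAs (Subsingleton (ZMod 1))
    have h3 : a = 1 := Subsingleton.elim _ _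
    rw [h3, map_one] at ha
    rw [Subgroup.mem_bot]
    exact (congrArg Subtype.val ha).symm
  · intro hlift
    apply Cfsg.Agent.Lib.Helper21.hasCyclicSchurMultiplier_one_of
    intro Γ _ _ τ hτ
    have hid : Cfsg.IsStemExtension (MonoidHom.id Q) := by
      refine ⟨Function.surjective_id, ?_, ?_⟩
      · rw [MonoidHom.ker_id]; exact bot_le
      · rw [MonoidHom.ker_id]; exact bot_le
    obtain ⟨π, hπ⟩ := exists_surjective_ker_of_match (MonoidHom.id Q) τ hid hτ
      (match_of_lift (MonoidHom.id Q) τ hτ.1 (fun n γ => by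
        obtain ⟨ρ, hρ⟩ := hlift n γ
        exact ⟨ρ, by rw [hρ, MonoidHom.comp_id]⟩))
    rw [eq_bot_iff]
    intro k hk
    obtain ⟨x, hx⟩ := hπ ⟨k, hk⟩
    have hx1 : x = 1 := by
      apply Subtype.ext
      have h1 : (MonoidHom.id Q) (x : Q) = 1 := x.2
      exact h1
    rw [hx1, map_one] at hx
    rw [Subgroup.mem_bot]
    exact (congrArg Subtype.val hx).symm

end Cfsg.Agent.S3978
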