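import Cfsg.Statements.S3979
import Mathlib
-- import your own Cfsg.Agent.* helpers here

set_option autoImplicit false
open Cfsg

namespace Cfsg.Agent.S3979

/-- A finite cyclic group has trivial Schur multiplier: every finite stem extension of it is an isomorphism, said through `HasCyclicSchurMultiplier G 1`. -/
theorem result {G : Type*} [Group G] [Finite G] [IsCyclic G] : Cfsg.HasCyclicSchurMultiplier G 1 := by
  refine ⟨⟨G, inferInstance, inferInstance, MonoidHom.id G, ⟨Function.surjective_id, ?_, ?_⟩, ?_⟩, ?_⟩
  · rw [MonoidHom.ker_id]; exact bot_le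
  · rw [MonoidHom.ker_id]; exact bot_le
  · have : Subsingleton (MonoidHom.id G).ker := by
      rw [MonoidHom.ker_id]; infer_instance
    exact ⟨⟨⟨fun _ => 1, fun _ => 1, fun x => Subsingleton.elim _ _, fun x => Subsingleton.elim _ _⟩, fun x y => Subsingleton.elim _ _⟩⟩
  · intro Γ _ _ σ hσ
    obtain ⟨hs, hc, hd⟩ := hσ
    have hcomm' : IsMulCommutative Γ := MonoidHom.isMulCommutative_of_isCyclic_of_ker_le_center σ hc
    have hcomm : ∀ a b : Γ, a * b = b * a := fun a b => hcomm'.is_comm.comm a b
    have hker : σ.ker = ⊥ := by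
      rw [eq_bot_iff]
      refine hd.trans ?_
      rw [commutator_def, Subgroup.commutator_le]
      intro a _ b _
      rw [Subgroup.mem_bot, commutatorElement_eq_one_iff_mul_comm]
      exact hcomm a b
    have : Subsingleton σ.ker := by rw [hker]; infer_instance
    exact ⟨1, fun x => ⟨1, Subsingleton.elim _ _⟩⟩

end Cfsg.Agent.S3979
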