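import Cfsg.Statements.S3981
import Mathlib
import Cfsg.Agent.Lib.Helper17.Basic
-- import your own Cfsg.Agent.* helpers here

set_option autoImplicit false
open Cfsg

namespace Cfsg.Agent.S3981

open Subgroup Pointwise

/-- Lemma A: a proper normal subgroup of a finite `p`-group has an element of order `p` modulo it
which is central modulo it. -/
lemma exists_central_mod {W : Type*} [Group W] [Finite W] (p : ℕ) [Fact p.Prime] (hW : IsPGroup p W)
    (Q' : Subgroup W) [Q'.Normal] (hne : Q' ≠ ⊤) :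
    ∃ z : W, z ∉ Q' ∧ z ^ p ∈ Q' ∧ ∀ w : W, z * w * z⁻¹ * w⁻¹ ∈ Q' := by
  have hX : IsPGroup p (W ⧸ Q') := hW.to_quotient Q'
  have hnt : Nontrivial (W ⧸ Q') := by
    obtain ⟨w, hw⟩ : ∃ w : W, w ∉ Q' := by
      by_contra h
      push Not at h
      exact hne (eq_top_iff.mpr fun w _ => h w)
    exact ⟨⟨QuotientGroup.mk w, 1, fun h => hw ((QuotientGroup.eq_one_iff w).mp h)⟩⟩
  have hZ : Nontrivial (Subgroup.center (W ⧸ Q')) := hX.center_nontrivial
  have hpZ : p ∣ Nat.card (Subgroup.center (W ⧸ Q')) := by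
    have hZp : IsPGroup p (Subgroup.center (W ⧸ Q')) := hX.to_subgroup _
    rcases hZp.card_eq_or_dvd with h | h
    · exfalso
      have := (Nat.card_eq_one_iff_unique.mp h).1
      exact not_subsingleton _ this
    · exact h
  obtain ⟨c, hc⟩ := exists_prime_orderOf_dvd_card' (G := Subgroup.center (W ⧸ Q')) p hpZ
  obtain ⟨z, hz⟩ := QuotientGroup.mk_surjective (c : W ⧸ Q')
  have hcord : orderOf (c : W ⧸ Q') = p := by rw [Subgroup.orderOf_coe]; exact hc
  refine ⟨z, ?_, ?_, ?_⟩
  · intro hzQ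
    have h1 : (c : W ⧸ Q') = 1 := by rw [← hz]; exact (QuotientGroup.eq_one_iff z).mpr hzQ
    rw [h1, orderOf_one] at hcord
    exact (Fact.out : p.Prime).one_lt.ne hcord
  · rw [← QuotientGroup.eq_one_iff, QuotientGroup.mk_pow, hz, ← hcord, pow_orderOf_eq_one]
  · intro w
    rw [← QuotientGroup.eq_one_iff]
    simp only [QuotientGroup.mk_mul, QuotientGroup.mk_inv, hz]
    have := Subgroup.mem_center_iff.mp c.2 (QuotientGroup.mk w)
    rw [← this]; group

/-- Lemma B: modulo a normal subgroup, commuting elements have `(ab)^n = a^n b^n`. -/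
lemma mul_pow_mem {K : Type*} [Group K] (Q' : Subgroup K) [Q'.Normal] (a b : K) (n : ℕ)
    (hab : a * b * a⁻¹ * b⁻¹ ∈ Q') (ha : a ^ n ∈ Q') (hb : b ^ n ∈ Q') : (a * b) ^ n ∈ Q' := by
  rw [← QuotientGroup.eq_one_iff] at hab ha hb ⊢
  simp only [QuotientGroup.mk_mul, QuotientGroup.mk_inv, QuotientGroup.mk_pow] at hab ha hb ⊢
  have hc : Commute (QuotientGroup.mk a : K ⧸ Q') (QuotientGroup.mk b) := by
    show _ * _ = _ * _
    have := mul_inv_eq_one.mp hab
    rw [mul_inv_eq_iff_eq_mul] at this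
    exact this
  rw [hc.mul_pow, ha, hb, one_mul]


/-- Let p be an odd prime, Q a p-subgroup of the finite group G and y an involution normalizing Q. Then Q is maximal among the p-subgroups of G normalized by y if and only if the image of y in N_G(Q) ⧸ Q neither inverts nor centralizes any element of order p there; the latter is phrased inside N_G(Q): for every x in N_G(Q) outside Q with x ^ p ∈ Q, neither y x y⁻¹ x nor y x y⁻¹ x⁻¹ lies in Q. -/
theorem result {G : Type*} [Group G] [Finite G] (p : ℕ) [Fact p.Prime] (hp2 : p ≠ 2) (Q : Subgroup G) (hQ : IsPGroup p ↥Q) (y : G) (hy : orderOf y = 2) (hyQ : y ∈ Subgroup.normalizer (Q : Set G)) : (∀ R : Subgroup G, IsPGroup p ↥R → Q ≤ R → y ∈ Subgroup.normalizer (R : Set G) → R = Q) ↔ ∀ x : G, x ∈ Subgroup.normalizer (Q : Set G) → x ∉ Q → x ^ p ∈ Q → (y * x * y⁻¹ * x ∉ Q ∧ y * x * y⁻¹ * x⁻¹ ∉ Q) := by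
  constructor
  · intro hmax x hxN hxQ hxp
    have hxpg : IsPGroup p (zpowers x) := by
      obtain ⟨k, hk⟩ := hQ ⟨x ^ p, hxp⟩
      have h1 : (x ^ p) ^ p ^ k = 1 := congrArg Subtype.val hk
      apply IsPGroup.of_card_dvd_pow (n := k + 1)
      rw [Nat.card_zpowers]
      apply orderOf_dvd_of_pow_eq_one
      rw [pow_succ', pow_mul]; exact h1
    have hR : IsPGroup p (Q ⊔ zpowers x : Subgroup G) :=
      IsPGroup.to_sup_of_normal_left' hQ hxpg (by rw [zpowers_le]; exact hxN)
    have key : ∀ q ∈ Q, y * x * y⁻¹ = q * x ∨ y * x * y⁻¹ = q * x⁻¹ → False := by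
      intro q hq hcase
      have hyx : y * x * y⁻¹ ∈ Q ⊔ zpowers x := by
        rcases hcase with h | h <;> rw [h]
        · exact mul_mem (mem_sup_left hq) (mem_sup_right (mem_zpowers x))
        · exact mul_mem (mem_sup_left hq) (mem_sup_right (inv_mem (mem_zpowers x)))
      have hyR : y ∈ Subgroup.normalizer ((Q ⊔ zpowers x : Subgroup G) : Set G) := by
        apply Cfsg.Agent.Lib.Helper17.mem_normalizer_of_map_conj_le
        rw [Subgroup.map_sup, sup_le_iff]
        constructor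
        · rintro _ ⟨q', hq', rfl⟩
          exact mem_sup_left ((Subgroup.mem_normalizer_iff.mp hyQ q').mp hq')
        · rw [MonoidHom.map_zpowers, zpowers_le]; exact hyx
      have := hmax _ hR le_sup_left hyR
      apply hxQ
      rw [← this]
      exact mem_sup_right (mem_zpowers x)
    constructor
    · intro h; exact key (y * x * y⁻¹ * x) h (Or.inr (by group))
    · intro h; exact key (y * x * y⁻¹ * x⁻¹) h (Or.inl (by group))
  · intro hcond R hR hQR hyR
    by_contra hne
    have hnle : ¬ (Subgroup.normalizer (Q : Set G) ⊓ R ≤ Q) := fun h =>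
      hne (Cfsg.Agent.Lib.Helper17.eq_of_normalizer_inf_le Q R hR hQR h).symm
    obtain ⟨W, hWdef⟩ : ∃ W : Subgroup G, W = Subgroup.normalizer (Q : Set G) ⊓ R := ⟨_, rfl⟩
    have hQW : Q ≤ W := hWdef ▸ le_inf Subgroup.le_normalizer hQR
    have hWN : W ≤ Subgroup.normalizer (Q : Set G) := hWdef ▸ inf_le_left
    have hWR : W ≤ R := hWdef ▸ inf_le_right
    have hWp : IsPGroup p W := hR.to_le hWR
    have hnorm : (Q.subgroupOf W).Normal := (Subgroup.normal_subgroupOf_iff_le_normalizer hQW).mpr hWN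
    have hne' : Q.subgroupOf W ≠ ⊤ := by
      rw [Ne, Subgroup.subgroupOf_eq_top, hWdef]; exact hnle
    obtain ⟨⟨z, hzW⟩, hz1, hz2, hz3⟩ := exists_central_mod p hWp (Q.subgroupOf W) hne'
    rw [mem_subgroupOf] at hz1 hz2
    have hz1' : z ∉ Q := hz1
    have hz2' : z ^ p ∈ Q := by simpa using hz2
    have hz3' : ∀ w ∈ W, z * w * z⁻¹ * w⁻¹ ∈ Q := fun w hw => by
      have := hz3 ⟨w, hw⟩
      rw [mem_subgroupOf] at this
      simpa using this
    have hy2 : y * y = 1 := by rw [← pow_two, ← hy, pow_orderOf_eq_one]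
    obtain ⟨z', hz'def⟩ : ∃ z', z' = y * z * y⁻¹ := ⟨_, rfl⟩
    have hz'W : z' ∈ W := by
      rw [hWdef, Subgroup.mem_inf]
      constructor
      · rw [hz'def]; exact mul_mem (mul_mem hyQ (hWN hzW)) (inv_mem hyQ)
      · rw [hz'def]; exact (Subgroup.mem_normalizer_iff.mp hyR z).mp (hWR hzW)
    have hz'p : z' ^ p ∈ Q := by
      rw [hz'def, conj_pow]; exact (Subgroup.mem_normalizer_iff.mp hyQ _).mp hz2'
    have hcomm : z * z' * z⁻¹ * z'⁻¹ ∈ Q := hz3' z' hz'W
    have hyz' : y * z' * y⁻¹ = z := by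
      rw [hz'def]
      calc y * (y * z * y⁻¹) * y⁻¹ = (y * y) * z * (y * y)⁻¹ := by group
        _ = z := by rw [hy2]; group
    by_cases hcase : z * z' ∈ Q
    · have h1 := (hcond z (hWN hzW) hz1' hz2').1
      apply h1
      have : y * z * y⁻¹ * z = z⁻¹ * (z * z') * z⁻¹⁻¹ := by rw [hz'def]; group
      rw [this]
      exact (Subgroup.mem_normalizer_iff.mp (inv_mem (hWN hzW)) _).mp hcase
    · have hxN : z * z' ∈ Subgroup.normalizer (Q : Set G) := mul_mem (hWN hzW) (hWN hz'W)
      have hxp : (z * z') ^ p ∈ Q := by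
        have := mul_pow_mem (Q.subgroupOf W) ⟨z, hzW⟩ ⟨z', hz'W⟩ p
          (by rw [mem_subgroupOf]; simpa using hcomm)
          (by rw [mem_subgroupOf]; simpa using hz2')
          (by rw [mem_subgroupOf]; simpa using hz'p)
        rw [mem_subgroupOf] at this
        simpa using this
      have h2 := (hcond (z * z') hxN hcase hxp).2
      apply h2
      have e1 : y * (z * z') * y⁻¹ * (z * z')⁻¹ = (y * z * y⁻¹) * (y * z' * y⁻¹) * z'⁻¹ * z⁻¹ := by
        group
      rw [e1, hyz', ← hz'def]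
      have e2 : z' * z * z'⁻¹ * z⁻¹ = (z * z' * z⁻¹ * z'⁻¹)⁻¹ := by group
      rw [e2]; exact inv_mem hcomm

end Cfsg.Agent.S3981
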