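import Cfsg.Statements.S3982
import Mathlib
import Cfsg.Agent.Lib.Helper1.Basic
import Cfsg.Agent.Lib.Helper17.Basic
import Cfsg.Agent.Lib.Helper24.InvolutionSylow
-- import your own Cfsg.Agent.* helpers here

set_option autoImplicit false
open Cfsg

namespace Cfsg.Agent.S3982

open Subgroup Pointwise
open Cfsg.Agent.Lib.Helper1


/-- Let p be an odd prime and G a finite group of even order divisible by p in which the centralizer of every non-identity p-element has odd order. If some nontrivial p-subgroup of G has a normalizer of even order, then the normalizer of every Sylow p-subgroup of G has even order. -/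
theorem result {G : Type*} [Group G] [Finite G] (p : ℕ) [Fact p.Prime] (hp2 : p ≠ 2) (hpG : p ∣ Nat.card G) (h2G : 2 ∣ Nat.card G) (hC : ∀ g : G, g ≠ 1 → (∃ k : ℕ, orderOf g = p ^ k) → Odd (Nat.card ↥(Subgroup.centralizer ({g} : Set G)))) (Q : Subgroup G) (hQ : IsPGroup p ↥Q) (hQ1 : Q ≠ ⊥) (hev : Even (Nat.card ↥(Subgroup.normalizer (Q : Set G)))) (P : Sylow p G) : Even (Nat.card ↥(Subgroup.normalizer ((P : Subgroup G) : Set G))) := by
  have : Fact (Nat.Prime 2) := ⟨Nat.prime_two⟩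
  obtain ⟨t', ht'⟩ := exists_prime_orderOf_dvd_card' (G := ↥(Subgroup.normalizer (Q : Set G))) 2
    (even_iff_two_dvd.mp hev)
  obtain ⟨t, htdef⟩ : ∃ t : G, t = (t' : G) := ⟨_, rfl⟩
  have ht : orderOf t = 2 := by rw [htdef, Subgroup.orderOf_coe]; exact ht'
  have htN : t ∈ Subgroup.normalizer (Q : Set G) := by rw [htdef]; exact t'.2
  have htQ : ∀ u ∈ Q, t * u * t⁻¹ ∈ Q := fun u hu => (Subgroup.mem_normalizer_iff.mp htN u).mp hu
  obtain ⟨n, hn⟩ := IsPGroup.iff_card.mp hQ
  have hn1 : 1 ≤ n := by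
    rcases Nat.eq_zero_or_pos n with h0 | h0
    · exfalso
      rw [h0, pow_zero] at hn
      exact hQ1 (Subgroup.card_eq_one.mp hn)
    · exact h0
  obtain ⟨S, hScard, hSt⟩ := Cfsg.Agent.Lib.Helper24.exists_invariant_full p hC t ht Q n hn hn1 htQ
  obtain ⟨S', hS'⟩ : ∃ S' : Sylow p G, (S' : Subgroup G) = S := ⟨Sylow.ofCard S hScard, rfl⟩
  obtain ⟨a, ha⟩ := MulAction.exists_smul_eq G S' P
  have hmem : a * t * a⁻¹ ∈ Subgroup.normalizer ((P : Subgroup G) : Set G) := by
    apply Cfsg.Agent.Lib.Helper17.mem_normalizer_of_forall_conj_mem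
    intro y hy
    rw [← ha, mem_sylow_smul_iff, hS'] at hy ⊢
    have h1 := hSt _ hy
    have : a⁻¹ * (a * t * a⁻¹ * y * (a * t * a⁻¹)⁻¹) * a = t * (a⁻¹ * y * a) * t⁻¹ := by group
    rw [this]; exact h1
  have hord : orderOf (a * t * a⁻¹) = 2 := by
    have := MulEquiv.orderOf_eq (MulAut.conj a) t
    rw [← ht]
    simpa using this
  have hdvd : 2 ∣ Nat.card ↥(Subgroup.normalizer ((P : Subgroup G) : Set G)) := by
    have h1 := orderOf_dvd_natCard (⟨a * t * a⁻¹, hmem⟩ : ↥(Subgroup.normalizer ((P : Subgroup G) : Set G)))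
    rwa [Subgroup.orderOf_mk, hord] at h1
  exact even_iff_two_dvd.mpr hdvd

end Cfsg.Agent.S3982
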