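import Cfsg.Statements.S3983
import Mathlib
import Cfsg.Agent.Lib.Helper21.SylowBasic
-- import your own Cfsg.Agent.* helpers here

set_option autoImplicit false
open scoped Pointwise
open Cfsg

namespace Cfsg.Agent.S3983

open Cfsg.Agent.Lib.Helper21
open scoped Pointwise

/-- Let P be a Sylow p-subgroup of the finite group G that meets each conjugate g P g⁻¹ with g outside N_G(P) trivially, and let U be a subgroup of G of order divisible by p. Then a Sylow p-subgroup Q of U has the same property inside U: Q meets each conjugate u Q u⁻¹ with u ∈ U outside N_U(Q) trivially. -/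
theorem result {G : Type*} [Group G] [Finite G] (p : ℕ) [Fact p.Prime] (P : Sylow p G) (hTI : ∀ g : G, g ∉ Subgroup.normalizer ((P : Subgroup G) : Set G) → (P : Subgroup G) ⊓ (MulAut.conj g • (P : Subgroup G)) = ⊥) (U : Subgroup G) (hU : p ∣ Nat.card ↥U) (Q : Sylow p ↥U) : ∀ u : ↥U, u ∉ Subgroup.normalizer ((Q : Subgroup ↥U) : Set ↥U) → (Q : Subgroup ↥U) ⊓ (MulAut.conj u • (Q : Subgroup ↥U)) = ⊥ := by
  -- Q.map subtype ≤ g • P
  have hQm : IsPGroup p ((Q : Subgroup U).map U.subtype) := Q.2.map _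
  obtain ⟨P', hP'⟩ := hQm.exists_le_sylow
  obtain ⟨g, hg⟩ := MulAction.exists_smul_eq G P P'
  have hQP : ∀ q : U, q ∈ (Q : Subgroup U) ↔ g⁻¹ * (q : G) * g ∈ (P : Subgroup G) := by
    have hle : (Q : Subgroup U) ≤ ((P' : Subgroup G).subgroupOf U) := by
      intro q hq
      rw [Subgroup.mem_subgroupOf]
      exact hP' ⟨q, hq, rfl⟩
    have hpg : IsPGroup p ((P' : Subgroup G).subgroupOf U) := P'.2.comap_subtype
    have heq := Q.is_maximal' hpg hle
    intro q
    rw [← heq, Subgroup.mem_subgroupOf, ← hg, mem_sylow_smul_iff']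
  intro u hu
  by_contra hne
  apply hu
  obtain ⟨⟨x, hx⟩, hx1⟩ := (Subgroup.ne_bot_iff_exists_ne_one).mp hne
  have hx1' : x ≠ 1 := fun h => hx1 (Subtype.ext h)
  rw [Subgroup.mem_inf, mem_conj_smul_iff', hQP, hQP] at hx
  obtain ⟨hxa, hxb⟩ := hx
  -- h = g⁻¹ u g normalizes P
  have hh : g⁻¹ * (u : G) * g ∈ Subgroup.normalizer ((P : Subgroup G) : Set G) := by
    by_contra hcon
    have h1 := hTI _ hcon
    have h2 : g⁻¹ * (x : G) * g ∈ (P : Subgroup G) ⊓ (MulAut.conj (g⁻¹ * (u : G) * g) • (P : Subgroup G)) := by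
      rw [Subgroup.mem_inf, mem_conj_smul_iff']
      refine ⟨hxa, ?_⟩
      have : (g⁻¹ * (u : G) * g)⁻¹ * (g⁻¹ * (x : G) * g) * (g⁻¹ * (u : G) * g) = g⁻¹ * ((u⁻¹ * x * u : U) : G) * g := by
        push_cast; group
      rw [this]; exact hxb
    rw [h1, Subgroup.mem_bot] at h2
    apply hx1'
    have : (x : G) = g * (g⁻¹ * (x : G) * g) * g⁻¹ := by group
    rw [h2] at this
    apply Subtype.ext
    rw [this]; simp
  rw [Subgroup.mem_normalizer_iff] at hh ⊢
  intro q
  rw [hQP, hQP, hh]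
  have : (g⁻¹ * (u : G) * g) * (g⁻¹ * (q : G) * g) * (g⁻¹ * (u : G) * g)⁻¹ = g⁻¹ * ((u * q * u⁻¹ : U) : G) * g := by
    push_cast; group
  rw [this]

end Cfsg.Agent.S3983
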