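import Cfsg.Statements.S3984
import Mathlib
import Cfsg.Agent.Lib.Helper21.SylowBasic
import Cfsg.Agent.Lib.Helper12.Basic
-- import your own Cfsg.Agent.* helpers here

set_option autoImplicit false
open scoped Pointwise
open Cfsg

namespace Cfsg.Agent.S3984

open Cfsg.Agent.Lib.Helper21
open scoped Pointwise

/-- Let P be a Sylow p-subgroup of the finite group G that meets each conjugate g P g⁻¹ with g outside N_G(P) trivially, and let N be a normal subgroup of G of order prime to p. Then every Sylow p-subgroup Q of G ⧸ N meets each conjugate x Q x⁻¹ with x outside its normalizer trivially. -/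
theorem result {G : Type*} [Group G] [Finite G] (p : ℕ) [Fact p.Prime] (P : Sylow p G) (hTI : ∀ g : G, g ∉ Subgroup.normalizer ((P : Subgroup G) : Set G) → (P : Subgroup G) ⊓ (MulAut.conj g • (P : Subgroup G)) = ⊥) (N : Subgroup G) [N.Normal] (hN : (Nat.card ↥N).Coprime p) (Q : Sylow p (G ⧸ N)) : ∀ x : G ⧸ N, x ∉ Subgroup.normalizer ((Q : Subgroup (G ⧸ N)) : Set (G ⧸ N)) → (Q : Subgroup (G ⧸ N)) ⊓ (MulAut.conj x • (Q : Subgroup (G ⧸ N))) = ⊥ := by
  -- elementwise TI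
  have hTI' : ∀ g a : G, a ∈ (P : Subgroup G) → g⁻¹ * a * g ∈ (P : Subgroup G) → a ≠ 1 →
      g ∈ Subgroup.normalizer ((P : Subgroup G) : Set G) := by
    intro g a ha hga ha1
    by_contra hcon
    have h1 := hTI g hcon
    have h2 : a ∈ (P : Subgroup G) ⊓ (MulAut.conj g • (P : Subgroup G)) := by
      rw [Subgroup.mem_inf, mem_conj_smul_iff']
      exact ⟨ha, hga⟩
    rw [h1, Subgroup.mem_bot] at h2
    exact ha1 h2
  set π := QuotientGroup.mk' N with hπ
  have hπs : Function.Surjective π := QuotientGroup.mk'_surjective N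
  set Pb : Sylow p (G ⧸ N) := P.mapSurjective hπs with hPb
  have hPbc : (Pb : Subgroup (G ⧸ N)) = (P : Subgroup G).map π := Sylow.coe_mapSurjective hπs P
  -- main claim
  have main : ∀ (gb yb : G ⧸ N), yb ∈ (Pb : Subgroup (G ⧸ N)) → gb⁻¹ * yb * gb ∈ (Pb : Subgroup (G ⧸ N)) →
      yb ≠ 1 → gb ∈ Subgroup.normalizer ((Pb : Subgroup (G ⧸ N)) : Set (G ⧸ N)) := by
    intro gb yb hyb hgyb hyb1
    rw [hPbc] at hyb hgyb
    obtain ⟨a, ha, rfl⟩ := hyb
    obtain ⟨b, hb, hb2⟩ := hgyb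
    obtain ⟨g, rfl⟩ := hπs gb
    have ha1 : a ≠ 1 := by
      rintro rfl
      exact hyb1 (map_one π)
    -- c = g⁻¹ a g ∈ P ⊔ N
    have hbN : b⁻¹ * (g⁻¹ * a * g) ∈ N := by
      have : π b = π (g⁻¹ * a * g) := by rw [hb2]; simp
      rw [hπ] at this
      exact QuotientGroup.eq.mp this
    have hcH : g⁻¹ * a * g ∈ (P : Subgroup G) ⊔ N := by
      have : g⁻¹ * a * g = b * (b⁻¹ * (g⁻¹ * a * g)) := by group
      rw [this]
      exact Subgroup.mul_mem _ (Subgroup.mem_sup_left hb) (Subgroup.mem_sup_right hbN)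
    have hcp : IsPGroup p (Subgroup.zpowers (g⁻¹ * a * g)) := by
      have h1 : IsPGroup p (Subgroup.zpowers a) :=
        P.2.to_le ((Subgroup.zpowers_le).mpr ha)
      have : Subgroup.zpowers (g⁻¹ * a * g) = (Subgroup.zpowers a).map (MulAut.conj g⁻¹).toMonoidHom := by
        rw [MonoidHom.map_zpowers]
        simp
      rw [this]
      exact h1.map _
    obtain ⟨h, hh, hconj⟩ := Cfsg.Agent.Lib.Helper12.exists_conj_mem_sylow P ((P : Subgroup G) ⊔ N)
      (Subgroup.zpowers (g⁻¹ * a * g)) le_sup_left ((Subgroup.zpowers_le).mpr hcH) hcp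
    have hh' : h ∈ ((P : Subgroup G) : Set G) * (N : Set G) := by
      rw [← Subgroup.mul_normal]; exact hh
    obtain ⟨p1, hp1, n, hn, rfl⟩ := hh'
    have h3 := hconj _ (Subgroup.mem_zpowers _)
    have h4 : n * (g⁻¹ * a * g) * n⁻¹ ∈ (P : Subgroup G) := by
      have : n * (g⁻¹ * a * g) * n⁻¹ = p1⁻¹ * (p1 * n * (g⁻¹ * a * g) * (p1 * n)⁻¹) * p1 := by group
      rw [this]
      exact Subgroup.mul_mem _ (Subgroup.mul_mem _ (Subgroup.inv_mem _ hp1) h3) hp1
    have h5 : g * n⁻¹ ∈ Subgroup.normalizer ((P : Subgroup G) : Set G) := by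
      apply hTI' (g * n⁻¹) a ha _ ha1
      have : (g * n⁻¹)⁻¹ * a * (g * n⁻¹) = n * (g⁻¹ * a * g) * n⁻¹ := by group
      rw [this]; exact h4
    have h6 : π (g * n⁻¹) ∈ Subgroup.normalizer (((P : Subgroup G).map π : Subgroup (G ⧸ N)) : Set (G ⧸ N)) :=
      Subgroup.le_normalizer_map π ⟨_, h5, rfl⟩
    have h7 : π (g * n⁻¹) = π g := by
      rw [map_mul, map_inv]
      have : π n = 1 := by rw [hπ]; exact (QuotientGroup.eq_one_iff n).mpr hn
      rw [this]; simp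
    rw [hPbc, ← h7]
    exact h6
  obtain ⟨x0, hx0⟩ := MulAction.exists_smul_eq (G ⧸ N) Pb Q
  have hQP : ∀ q : G ⧸ N, q ∈ (Q : Subgroup (G ⧸ N)) ↔ x0⁻¹ * q * x0 ∈ (Pb : Subgroup (G ⧸ N)) := by
    intro q
    rw [← hx0, mem_sylow_smul_iff']
  intro u hu
  by_contra hne
  apply hu
  obtain ⟨⟨x, hx⟩, hx1⟩ := (Subgroup.ne_bot_iff_exists_ne_one).mp hne
  have hx1' : x ≠ 1 := fun h => hx1 (Subtype.ext h)
  rw [Subgroup.mem_inf, mem_conj_smul_iff', hQP, hQP] at hx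
  obtain ⟨hxa, hxb⟩ := hx
  have hh : x0⁻¹ * u * x0 ∈ Subgroup.normalizer ((Pb : Subgroup (G ⧸ N)) : Set (G ⧸ N)) := by
    apply main (x0⁻¹ * u * x0) (x0⁻¹ * x * x0) hxa
    · have : (x0⁻¹ * u * x0)⁻¹ * (x0⁻¹ * x * x0) * (x0⁻¹ * u * x0) = x0⁻¹ * (u⁻¹ * x * u) * x0 := by group
      rw [this]; exact hxb
    · intro h
      apply hx1'
      have : x = x0 * (x0⁻¹ * x * x0) * x0⁻¹ := by group
      rw [this, h]; group
  rw [Subgroup.mem_normalizer_iff] at hh ⊢
  intro q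
  rw [hQP, hQP, hh]
  have : (x0⁻¹ * u * x0) * (x0⁻¹ * q * x0) * (x0⁻¹ * u * x0)⁻¹ = x0⁻¹ * (u * q * u⁻¹) * x0 := by group
  rw [this]

end Cfsg.Agent.S3984
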