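import Cfsg.Statements.S3985
import Mathlib
import Cfsg.Agent.Lib.Helper21.SylowBasic
-- import your own Cfsg.Agent.* helpers here

set_option autoImplicit false
open scoped Pointwise
open Cfsg

namespace Cfsg.Agent.S3985

open Cfsg.Agent.Lib.Helper21
open scoped Pointwise

theorem centralizes_of_normalizes_cyclic {G : Type*} [Group G] [Finite G] (p : ℕ) [Fact p.Prime] (P : Sylow p G)
    (hcyc : IsCyclic ↥(P : Subgroup G)) (g : G) (hg : g ∈ Subgroup.normalizer ((P : Subgroup G) : Set G))
    (x : G) (hx : x ∈ (P : Subgroup G)) (hx1 : x ≠ 1) (hgx : g * x = x * g) :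
    g ∈ Subgroup.centralizer ((P : Subgroup G) : Set G) := by
  obtain ⟨⟨y, hyP⟩, hy⟩ := hcyc.exists_generator
  have hpow : ∀ z ∈ (P : Subgroup G), ∃ m : ℕ, z = y ^ m := by
    intro z hz
    have := hy ⟨z, hz⟩
    rw [← mem_powers_iff_mem_zpowers] at this
    obtain ⟨m, hm⟩ := this
    exact ⟨m, by simpa using (congrArg Subtype.val hm).symm⟩
  obtain ⟨k, hk⟩ := hpow (g * y * g⁻¹) ((hg y).mp hyP)
  obtain ⟨m, hm⟩ := hpow x hx
  have hxk : x ^ k = x := by
    have : g * x * g⁻¹ = x ^ k := by
      rw [hm, ← pow_mul, mul_comm, pow_mul, ← hk, conj_pow]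
    rw [← this, hgx]; group
  -- order of x
  obtain ⟨j, hj⟩ := (IsPGroup.iff_orderOf.mp P.2) ⟨x, hx⟩
  rw [Subgroup.orderOf_mk] at hj
  have hj0 : j ≠ 0 := by
    rintro rfl
    rw [pow_zero, orderOf_eq_one_iff] at hj
    exact hx1 hj
  have hpk : (p : ℤ) ∣ (k : ℤ) - 1 := by
    have h1 : x ^ ((k : ℤ) - 1) = 1 := by
      rw [zpow_sub_one, zpow_natCast, hxk, mul_inv_cancel]
    have h2 := orderOf_dvd_iff_zpow_eq_one.mpr h1
    rw [hj] at h2
    refine dvd_trans ?_ h2
    push_cast
    exact dvd_pow_self _ hj0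
  obtain ⟨n, hn⟩ := IsPGroup.iff_card.mp P.2
  have hkn := dvd_sub_pow_of_dvd_sub hpk n
  rw [one_pow] at hkn
  have hyn : y ^ (k ^ p ^ n) = y := by
    have h1 : (orderOf y : ℤ) ∣ (k : ℤ) ^ p ^ n - 1 := by
      refine dvd_trans ?_ hkn
      have : orderOf y ∣ p ^ n := by
        rw [← hn, ← Subgroup.orderOf_mk y hyP]
        exact orderOf_dvd_natCard _
      have h3 : orderOf y ∣ p ^ (n + 1) := dvd_trans this (pow_dvd_pow p (Nat.le_succ n))
      exact_mod_cast h3
    have h2 := orderOf_dvd_iff_zpow_eq_one.mp h1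
    rw [zpow_sub_one, mul_inv_eq_one] at h2
    have : y ^ ((k : ℤ) ^ p ^ n) = y ^ (k ^ p ^ n) := by
      rw [← zpow_natCast]; push_cast; rfl
    rw [← this]; exact h2
  have hiter : ∀ i : ℕ, g ^ i * y * (g ^ i)⁻¹ = y ^ (k ^ i) := by
    intro i
    induction i with
    | zero => simp
    | succ i ih =>
      have : g ^ (i + 1) * y * (g ^ (i + 1))⁻¹ = g * (g ^ i * y * (g ^ i)⁻¹) * g⁻¹ := by
        rw [pow_succ']; group
      rw [this, ih, ← conj_pow, hk, ← pow_mul, ← pow_succ']
  have hC1 : g ^ (p ^ n) ∈ Subgroup.centralizer ((P : Subgroup G) : Set G) := by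
    rw [Subgroup.mem_centralizer_iff]
    intro z hz
    obtain ⟨m, rfl⟩ := hpow z hz
    have h1 := hiter (p ^ n)
    rw [hyn] at h1
    have h2 : g ^ p ^ n * y = y * g ^ p ^ n := by
      rw [← mul_inv_eq_iff_eq_mul]; exact h1
    have h3 : Commute (g ^ p ^ n) y := h2
    exact ((h3.pow_right m).eq).symm
  -- abelian
  have hPC : (P : Subgroup G) ≤ Subgroup.centralizer ((P : Subgroup G) : Set G) := by
    intro a ha
    rw [Subgroup.mem_centralizer_iff]
    intro b hb
    obtain ⟨i, rfl⟩ := hpow a ha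
    obtain ⟨j, rfl⟩ := hpow b hb
    rw [← pow_add, ← pow_add, add_comm]
  have hCN : Subgroup.centralizer ((P : Subgroup G) : Set G) ≤ Subgroup.normalizer ((P : Subgroup G) : Set G) :=
    Subgroup.centralizer_le_normalizer _
  have hnorm : ((Subgroup.centralizer ((P : Subgroup G) : Set G)).subgroupOf
      (Subgroup.normalizer ((P : Subgroup G) : Set G))).Normal := by
    rw [← Subgroup.normalizerMonoidHom_ker]
    exact MonoidHom.normal_ker _
  have hC2 : g ^ ((Subgroup.centralizer ((P : Subgroup G) : Set G)).relIndex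
      (Subgroup.normalizer ((P : Subgroup G) : Set G))) ∈ Subgroup.centralizer ((P : Subgroup G) : Set G) := by
    have := Subgroup.pow_index_mem ((Subgroup.centralizer ((P : Subgroup G) : Set G)).subgroupOf
      (Subgroup.normalizer ((P : Subgroup G) : Set G))) ⟨g, hg⟩
    rw [Subgroup.mem_subgroupOf] at this
    simpa [Subgroup.relIndex] using this
  have hnd : ¬ p ∣ (Subgroup.centralizer ((P : Subgroup G) : Set G)).relIndex
      (Subgroup.normalizer ((P : Subgroup G) : Set G)) := by
    intro hdvd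
    apply P.not_dvd_index
    have h1 := Subgroup.relIndex_mul_relIndex _ _ _ hPC hCN
    have h2 : (P : Subgroup G).relIndex (Subgroup.normalizer ((P : Subgroup G) : Set G)) ∣ (P : Subgroup G).index :=
      Subgroup.relIndex_dvd_index_of_le (hPC.trans hCN)
    exact dvd_trans (dvd_trans (Dvd.dvd.mul_left hdvd _) (dvd_of_eq h1)) h2
  set idx := (Subgroup.centralizer ((P : Subgroup G) : Set G)).relIndex
      (Subgroup.normalizer ((P : Subgroup G) : Set G)) with hidx
  have hcop : Nat.Coprime (p ^ n) idx :=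
    Nat.Coprime.pow_left _ ((Nat.Prime.coprime_iff_not_dvd Fact.out).mpr hnd)
  have : g ^ ((Nat.gcd (p ^ n) idx : ℕ) : ℤ) ∈ Subgroup.centralizer ((P : Subgroup G) : Set G) := by
    rw [Nat.gcd_eq_gcd_ab, zpow_add, zpow_mul, zpow_mul]
    refine Subgroup.mul_mem _ (Subgroup.zpow_mem _ ?_ _) (Subgroup.zpow_mem _ ?_ _)
    · rw [zpow_natCast]; exact hC1
    · rw [zpow_natCast]; exact hC2
  rw [hcop] at this
  simpa using this

/-- Let P be a cyclic Sylow p-subgroup of the finite group G. Then P meets each conjugate g P g⁻¹ with g outside N_G(P) trivially if and only if P is weakly self-centralizing: C_G(x) = C_G(P) for every non-identity x ∈ P. -/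
theorem result {G : Type*} [Group G] [Finite G] (p : ℕ) [Fact p.Prime] (P : Sylow p G) (hcyc : IsCyclic ↥(P : Subgroup G)) : (∀ g : G, g ∉ Subgroup.normalizer ((P : Subgroup G) : Set G) → (P : Subgroup G) ⊓ (MulAut.conj g • (P : Subgroup G)) = ⊥) ↔ ∀ x : G, x ∈ (P : Subgroup G) → x ≠ 1 → Subgroup.centralizer ({x} : Set G) = Subgroup.centralizer ((P : Subgroup G) : Set G) := by
  constructor
  · intro hTI x hx hx1
    apply le_antisymm
    · intro g hg
      rw [Subgroup.mem_centralizer_singleton_iff] at hg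
      have hgN : g ∈ Subgroup.normalizer ((P : Subgroup G) : Set G) := by
        by_contra hcon
        have h1 := hTI g hcon
        have h2 : x ∈ (P : Subgroup G) ⊓ (MulAut.conj g • (P : Subgroup G)) := by
          rw [Subgroup.mem_inf, mem_conj_smul_iff']
          refine ⟨hx, ?_⟩
          have : g⁻¹ * x * g = x := by rw [mul_assoc, ← hg]; group
          rw [this]; exact hx
        rw [h1, Subgroup.mem_bot] at h2
        exact hx1 h2
      exact centralizes_of_normalizes_cyclic p P hcyc g hgN x hx hx1 hg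
    · apply Subgroup.centralizer_le
      intro z hz
      rw [Set.mem_singleton_iff] at hz
      rw [hz]; exact hx
  · intro h g hg
    by_contra hne
    apply hg
    obtain ⟨⟨x, hx⟩, hx1⟩ := (Subgroup.ne_bot_iff_exists_ne_one).mp hne
    have hx1' : x ≠ 1 := fun h => hx1 (Subtype.ext h)
    rw [Subgroup.mem_inf, mem_conj_smul_iff'] at hx
    obtain ⟨hxa, hxb⟩ := hx
    have hcomm : ∀ a ∈ (P : Subgroup G), ∀ b ∈ (P : Subgroup G), a * b = b * a := by
      intro a ha b hb
      have := (IsCyclic.isMulCommutative (α := (P : Subgroup G))).is_comm.comm ⟨a, ha⟩ ⟨b, hb⟩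
      exact congrArg Subtype.val this
    have hCx := h x hxa hx1'
    apply Subgroup.mem_normalizer_fintype
    intro y hy
    have hy : y ∈ (P : Subgroup G) := hy
    show g * y * g⁻¹ ∈ (P : Subgroup G)
    have hz : g * y * g⁻¹ ∈ Subgroup.centralizer ((P : Subgroup G) : Set G) := by
      rw [← hCx, Subgroup.mem_centralizer_singleton_iff]
      have h1 := hcomm y hy _ hxb
      calc g * y * g⁻¹ * x = g * (y * (g⁻¹ * x * g)) * g⁻¹ := by group
        _ = g * ((g⁻¹ * x * g) * y) * g⁻¹ := by rw [h1]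
        _ = x * (g * y * g⁻¹) := by group
    rw [Subgroup.mem_centralizer_iff] at hz
    have hpg : IsPGroup p (Subgroup.closure (((P : Subgroup G) : Set G) ∪ {g * y * g⁻¹})) := by
      apply isPGroup_closure_of_commute
      · intro a ha b hb
        rcases ha with ha | ha <;> rcases hb with hb | hb
        · exact hcomm a ha b hb
        · rw [Set.mem_singleton_iff] at hb; rw [hb]; exact hz a ha
        · rw [Set.mem_singleton_iff] at ha; rw [ha]; exact (hz b hb).symm
        · rw [Set.mem_singleton_iff] at ha hb; rw [ha, hb]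
      · intro a ha
        rcases ha with ha | ha
        · obtain ⟨k, hk⟩ := P.2 ⟨a, ha⟩
          exact ⟨k, by simpa using congrArg Subtype.val hk⟩
        · rw [Set.mem_singleton_iff] at ha
          obtain ⟨k, hk⟩ := P.2 ⟨y, hy⟩
          refine ⟨k, ?_⟩
          have hk' : y ^ p ^ k = 1 := by simpa using congrArg Subtype.val hk
          rw [ha, conj_pow, hk']; group
    have hle : (P : Subgroup G) ≤ Subgroup.closure (((P : Subgroup G) : Set G) ∪ {g * y * g⁻¹}) := by
      intro a ha
      exact Subgroup.subset_closure (Or.inl ha)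
    have heq := P.is_maximal' hpg hle
    rw [← heq]
    exact Subgroup.subset_closure (Or.inr rfl)

end Cfsg.Agent.S3985
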