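import Cfsg.Statements.S3987
import Mathlib
import Cfsg.Agent.Lib.Helper21.PDecomp
-- import your own Cfsg.Agent.* helpers here

set_option autoImplicit false
open Cfsg

namespace Cfsg.Agent.S3987

open Cfsg.Agent.Lib.Helper21
theorem centralizer_mul_of_commute_coprime {G : Type*} [Group G] [Finite G] (x y : G) (hxy : x * y = y * x)
    (hcop : Nat.Coprime (orderOf x) (orderOf y)) :
    Subgroup.centralizer ({x * y} : Set G) = Subgroup.centralizer ({x} : Set G) ⊓ Subgroup.centralizer ({y} : Set G) := by
  have hc : Commute x y := hxy
  apply le_antisymm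
  · intro g hg
    rw [Subgroup.mem_centralizer_singleton_iff] at hg
    have hgc : Commute g (x * y) := hg
    rw [Subgroup.mem_inf, Subgroup.mem_centralizer_singleton_iff, Subgroup.mem_centralizer_singleton_iff]
    constructor
    · obtain ⟨m, hm⟩ := exists_pow_eq_self_of_coprime hcop.symm
      have h1 : (x * y) ^ (orderOf y) = x ^ orderOf y := by
        rw [hc.mul_pow, pow_orderOf_eq_one, mul_one]
      have h2 : Commute g x := by
        rw [← hm, ← h1]
        exact (hgc.pow_right _).pow_right _
      exact h2
    · obtain ⟨m, hm⟩ := exists_pow_eq_self_of_coprime (x := y) hcop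
      have h1 : (x * y) ^ (orderOf x) = y ^ orderOf x := by
        rw [hc.mul_pow, pow_orderOf_eq_one, one_mul]
      have h2 : Commute g y := by
        rw [← hm, ← h1]
        exact (hgc.pow_right _).pow_right _
      exact h2
  · intro g hg
    rw [Subgroup.mem_inf, Subgroup.mem_centralizer_singleton_iff, Subgroup.mem_centralizer_singleton_iff] at hg
    rw [Subgroup.mem_centralizer_singleton_iff]
    have h1 : Commute g x := hg.1
    have h2 : Commute g y := hg.2
    exact h1.mul_right h2

/-- Let p be a prime and G a finite group. Then some Sylow p-subgroup of G is a direct factor of G (normal with a normal complement) if and only if for every element x of p-power order and every element y whose order is a power of a prime other than p, the conjugacy class of x y has as many elements as the product of the sizes of the classes of x and of y. -/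
theorem result {G : Type*} [Group G] [Finite G] (p : ℕ) [Fact p.Prime] : (∃ (P : Sylow p G) (K : Subgroup G), (P : Subgroup G).Normal ∧ K.Normal ∧ (P : Subgroup G) ⊓ K = ⊥ ∧ (P : Subgroup G) ⊔ K = ⊤) ↔ ∀ x y : G, (∃ a : ℕ, orderOf x = p ^ a) → (∃ q b : ℕ, q.Prime ∧ q ≠ p ∧ orderOf y = q ^ b) → (Subgroup.centralizer ({x * y} : Set G)).index = (Subgroup.centralizer ({x} : Set G)).index * (Subgroup.centralizer ({y} : Set G)).index := by
  constructor
  · rintro ⟨P, K, hP, hK, hinf, hsup⟩ x y hx hy
    obtain ⟨hxP, hyK, hxy⟩ := commute_of_pdecomp p P K hP hK hinf hsup x y hx hy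
    obtain ⟨a, ha⟩ := hx
    obtain ⟨q, b, hq, hqp, hb⟩ := hy
    have hcop : Nat.Coprime (orderOf x) (orderOf y) := by
      rw [ha, hb]
      exact Nat.Coprime.pow _ _ ((Nat.coprime_primes Fact.out hq).mpr (Ne.symm hqp))
    rw [centralizer_mul_of_commute_coprime x y hxy hcop]
    have hdis : Disjoint (P : Subgroup G) K := disjoint_iff.mpr hinf
    have hKA : K ≤ Subgroup.centralizer ({x} : Set G) := by
      intro k hk
      rw [Subgroup.mem_centralizer_singleton_iff]
      exact (Subgroup.commute_of_normal_of_disjoint _ _ hP hK hdis x k hxP hk).symm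
    have hPB : (P : Subgroup G) ≤ Subgroup.centralizer ({y} : Set G) := by
      intro z hz
      rw [Subgroup.mem_centralizer_singleton_iff]
      exact (Subgroup.commute_of_normal_of_disjoint _ _ hP hK hdis z y hz hyK)
    have hidx : K.index ∣ Nat.card (P : Subgroup G) := by
      have h1 : K.relIndex ((P : Subgroup G) ⊔ K) = K.relIndex (P : Subgroup G) := Subgroup.relIndex_sup_right _ _
      rw [hsup, Subgroup.relIndex_top_right] at h1
      rw [h1]; exact Subgroup.relIndex_dvd_card _ _
    have hcopi : Nat.Coprime (Subgroup.centralizer ({x} : Set G)).index (Subgroup.centralizer ({y} : Set G)).index := by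
      apply Nat.Coprime.coprime_dvd_left (dvd_trans (Subgroup.index_dvd_of_le hKA) hidx)
      apply Nat.Coprime.coprime_dvd_right (Subgroup.index_dvd_of_le hPB)
      exact P.card_coprime_index
    apply le_antisymm (Subgroup.index_inf_le)
    apply Nat.le_of_dvd (Nat.pos_of_ne_zero Subgroup.index_ne_zero_of_finite)
    exact Nat.Coprime.mul_dvd_of_dvd_of_dvd hcopi (Subgroup.index_dvd_of_le inf_le_left) (Subgroup.index_dvd_of_le inf_le_right)
  · intro h
    apply pdecomp_of_commute p
    intro x y hx hy
    have hidx := h x y hx hy
    have hle : Subgroup.centralizer ({x} : Set G) ⊓ Subgroup.centralizer ({y} : Set G) ≤ Subgroup.centralizer ({x * y} : Set G) := by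
      intro g hg
      rw [Subgroup.mem_inf, Subgroup.mem_centralizer_singleton_iff, Subgroup.mem_centralizer_singleton_iff] at hg
      rw [Subgroup.mem_centralizer_singleton_iff]
      have h1 : Commute g x := hg.1
      have h2 : Commute g y := hg.2
      exact h1.mul_right h2
    have h1 := Subgroup.relIndex_mul_index hle
    have h2 : (Subgroup.centralizer ({x} : Set G) ⊓ Subgroup.centralizer ({y} : Set G)).index ≤ (Subgroup.centralizer ({x * y} : Set G)).index := by
      rw [hidx]; exact Subgroup.index_inf_le
    have hpos : 0 < (Subgroup.centralizer ({x * y} : Set G)).index := Nat.pos_of_ne_zero Subgroup.index_ne_zero_of_finite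
    have h3 : (Subgroup.centralizer ({x} : Set G) ⊓ Subgroup.centralizer ({y} : Set G)).relIndex (Subgroup.centralizer ({x * y} : Set G)) = 1 := by
      rw [← h1] at h2
      have : (Subgroup.centralizer ({x} : Set G) ⊓ Subgroup.centralizer ({y} : Set G)).relIndex (Subgroup.centralizer ({x * y} : Set G)) ≤ 1 := by
        by_contra hcon
        push Not at hcon
        nlinarith
      have hne : (Subgroup.centralizer ({x} : Set G) ⊓ Subgroup.centralizer ({y} : Set G)).relIndex (Subgroup.centralizer ({x * y} : Set G)) ≠ 0 := by
        intro h0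
        rw [h0, zero_mul] at h1
        exact Subgroup.index_ne_zero_of_finite h1.symm
      omega
    rw [Subgroup.relIndex_eq_one] at h3
    have h4 : x * y ∈ Subgroup.centralizer ({x * y} : Set G) := by
      rw [Subgroup.mem_centralizer_singleton_iff]
    have h5 : x * y ∈ Subgroup.centralizer ({x} : Set G) := (Subgroup.mem_inf.mp (h3 h4)).1
    rw [Subgroup.mem_centralizer_singleton_iff] at h5
    -- h5 : x * y * x = x * (x * y)
    have : x * (y * x) = x * (x * y) := by rw [← mul_assoc]; exact h5
    exact (mul_left_cancel this).symm

end Cfsg.Agent.S3987
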