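import Cfsg.Statements.S3992
import Mathlib
import Cfsg.Agent.Lib.Lead.CharBurnside
import Cfsg.Agent.Lib.Helper1.MinNormal
import Cfsg.Agent.Lib.Helper19.SolvGraph2
import Cfsg.Agent.Lib.Helper19.MinNormalPower
-- import your own Cfsg.Agent.* helpers here

set_option autoImplicit false
open Cfsg

namespace Cfsg.Agent.S3992

open Cfsg.Agent.CharLib Cfsg.Agent.Lib.Helper1 Cfsg.Agent.Lib.Helper19
theorem not_isPrimePow_mul {r s : ℕ} (hr : r.Prime) (hs : s.Prime) (hrs : r ≠ s) : ¬ IsPrimePow (r * s) := by
  intro h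
  rw [isPrimePow_nat_iff] at h
  obtain ⟨p, k, hp, hk, hpk⟩ := h
  have h1 : r ∣ p ^ k := by rw [hpk]; exact Dvd.intro _ rfl
  have h2 : s ∣ p ^ k := by rw [hpk]; exact Dvd.intro_left _ rfl
  have h3 := (Nat.prime_dvd_prime_iff_eq hr hp).mp (hr.dvd_of_dvd_pow h1)
  have h4 := (Nat.prime_dvd_prime_iff_eq hs hp).mp (hs.dvd_of_dvd_pow h2)
  exact hrs (h3.trans h4.symm)

/-- in a group whose elements have prime power order there is no element of order `r * s` -/
theorem no_mixed_order {Γ : Type*} [Group Γ] (h : ∀ g : Γ, g ≠ 1 → IsPrimePow (orderOf g))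
    {r s : ℕ} (hr : r.Prime) (hs : s.Prime) (hrs : r ≠ s) : ¬ ∃ x : Γ, orderOf x = r * s := by
  rintro ⟨x, hx⟩
  have hx1 : x ≠ 1 := by
    intro h0
    rw [h0, orderOf_one] at hx
    have := hr.two_le
    have := hs.two_le
    nlinarith
  have := h x hx1
  rw [hx] at this
  exact not_isPrimePow_mul hr hs hrs this

/-- commuting elements of distinct prime orders cannot exist -/
theorem no_commuting_primes {Γ : Type*} [Group Γ] (h : ∀ g : Γ, g ≠ 1 → IsPrimePow (orderOf g))
    {r s : ℕ} (hr : r.Prime) (hs : s.Prime) (hrs : r ≠ s) {x y : Γ} (hx : orderOf x = r)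
    (hy : orderOf y = s) (hc : Commute x y) : False := by
  apply no_mixed_order h hr hs hrs
  refine ⟨x * y, ?_⟩
  rw [hc.orderOf_mul_eq_mul_orderOf_of_coprime, hx, hy]
  rw [hx, hy]
  exact (Nat.coprime_primes hr hs).mpr hrs

/-- Higman: a solvable group with all elements of prime power order has at most two prime divisors -/
theorem card_primeFactors_le_two_of_eppo {Γ : Type*} [Group Γ] [Finite Γ] [hsol : Group.IsSolvable Γ]
    (h : ∀ g : Γ, g ≠ 1 → IsPrimePow (orderOf g)) : (Nat.card Γ).primeFactors.card ≤ 2 := by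
  by_contra hcon
  push Not at hcon
  have hsolK : Group.IsSolvable (⊤ : Subgroup Γ) := inferInstance
  have key := solvable_normal_one_prime (G := Γ) (Nat.card Γ).primeFactors (by omega)
    (fun r hr => ⟨Nat.prime_of_mem_primeFactors hr, Nat.dvd_of_mem_primeFactors hr⟩)
    (fun r hr s hs hrs => no_mixed_order h (Nat.prime_of_mem_primeFactors hr)
      (Nat.prime_of_mem_primeFactors hs) hrs) ⊤ hsolK
  obtain ⟨r, hr, s, hs, hrs⟩ := Finset.one_lt_card.mp (by omega : 1 < (Nat.card Γ).primeFactors.card)
  apply hrs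
  apply key r hr s hs
  · rw [Subgroup.card_top]; exact Nat.dvd_of_mem_primeFactors hr
  · rw [Subgroup.card_top]; exact Nat.dvd_of_mem_primeFactors hs

/-- a finite simple non-abelian group has two distinct prime divisors -/
theorem exists_two_primes_of_simple {T : Type*} [Group T] [Finite T] [IsSimpleGroup T]
    (hna : ¬ IsMulCommutative T) : ∃ p q : ℕ, p.Prime ∧ q.Prime ∧ p ≠ q ∧ p ∣ Nat.card T ∧ q ∣ Nat.card T := by
  have hcard : Nat.card T ≠ 1 := by
    intro h1
    have := (Nat.card_eq_one_iff_unique.mp h1).1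
    exact hna ⟨⟨fun a b => Subsingleton.elim _ _⟩⟩
  obtain ⟨p, hp, hpd⟩ := Nat.exists_prime_and_dvd hcard
  by_contra hcon
  push Not at hcon
  have huniq : ∀ q : ℕ, q.Prime → q ∣ Nat.card T → q = p := by
    intro q hq hqd
    by_contra hne
    exact hcon p q hp hq (Ne.symm hne) hpd hqd
  have hpow := Nat.eq_prime_pow_of_unique_prime_dvd Nat.card_pos.ne' (fun {d} => huniq d)
  haveI : Fact p.Prime := ⟨hp⟩
  have hPG : IsPGroup p T := IsPGroup.of_card hpow
  have hnt := hPG.center_nontrivial
  have hcn : (Subgroup.center T).Normal := inferInstance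
  rcases hcn.eq_bot_or_eq_top with h0 | h0
  · rw [h0] at hnt
    exact not_nontrivial _ hnt
  · exact hna (Subgroup.center_eq_top_iff.mp h0)

/-- an element of order `p * q` in a power `T^m`, `m ≥ 2` -/
theorem exists_mixed_in_pi {T : Type*} [Group T] [Finite T] {m : ℕ} (hm : 2 ≤ m) {p q : ℕ}
    (hp : p.Prime) (hq : q.Prime) (hpq : p ≠ q) (hpT : p ∣ Nat.card T) (hqT : q ∣ Nat.card T) :
    ∃ z : Fin m → T, orderOf z = p * q := by
  classical
  haveI := Fact.mk hp
  haveI := Fact.mk hq
  obtain ⟨x, hx⟩ := exists_prime_orderOf_dvd_card' p hpT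
  obtain ⟨y, hy⟩ := exists_prime_orderOf_dvd_card' q hqT
  let i₀ : Fin m := ⟨0, by omega⟩
  let i₁ : Fin m := ⟨1, by omega⟩
  have hi : i₀ ≠ i₁ := by
    intro h
    have := congrArg Fin.val h
    simp [i₀, i₁] at this
  have h1 : orderOf (Pi.mulSingle i₀ x : Fin m → T) = p := by
    rw [← hx]
    exact orderOf_injective (MonoidHom.mulSingle (fun _ : Fin m => T) i₀) (Pi.mulSingle_injective (M := fun _ : Fin m => T) i₀) x
  have h2 : orderOf (Pi.mulSingle i₁ y : Fin m → T) = q := by
    rw [← hy]
    exact orderOf_injective (MonoidHom.mulSingle (fun _ : Fin m => T) i₁) (Pi.mulSingle_injective (M := fun _ : Fin m => T) i₁) y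
  have hc : Commute (Pi.mulSingle i₀ x : Fin m → T) (Pi.mulSingle i₁ y) := Pi.mulSingle_commute (f := fun _ : Fin m => T) hi x y
  refine ⟨Pi.mulSingle i₀ x * Pi.mulSingle i₁ y, ?_⟩
  rw [hc.orderOf_mul_eq_mul_orderOf_of_coprime, h1, h2]
  rw [h1, h2]
  exact (Nat.coprime_primes hp hq).mpr hpq

/-- Let G be a finite non-solvable group in which every element has prime-power order, and let R be its largest solvable normal subgroup. Then R is a p-group for some prime p; G/R has a non-abelian simple normal subgroup contained in every nontrivial normal subgroup of G/R (its unique minimal normal subgroup); and the order of every solvable subgroup of G has at most two prime divisors. -/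
theorem result {G : Type*} [Group G] [Finite G] (hns : ¬ Group.IsSolvable G) (hpp : ∀ g : G, g ≠ 1 → IsPrimePow (orderOf g))
    (R : Subgroup G) [R.Normal] (hRs : Group.IsSolvable ↥R) (hRmax : ∀ N : Subgroup G, N.Normal → Group.IsSolvable ↥N → N ≤ R) :
    (∃ p : ℕ, p.Prime ∧ IsPGroup p ↥R) ∧
      (∃ M : Subgroup (G ⧸ R), M.Normal ∧ IsSimpleGroup ↥M ∧ ¬ IsMulCommutative ↥M ∧
        ∀ N : Subgroup (G ⧸ R), N.Normal → N ≠ ⊥ → M ≤ N) ∧
      ∀ H : Subgroup G, Group.IsSolvable ↥H → (Nat.card ↥H).primeFactors.card ≤ 2 := by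
  classical
  refine ⟨?_, ?_, ?_⟩
  · -- R is a p-group
    by_cases hR1 : Nat.card R = 1
    · refine ⟨2, Nat.prime_two, ?_⟩
      haveI : Fact (Nat.Prime 2) := ⟨Nat.prime_two⟩
      exact IsPGroup.of_card (n := 0) (by rw [hR1, pow_zero])
    obtain ⟨p, hp, hpR⟩ := Nat.exists_prime_and_dvd hR1
    refine ⟨p, hp, ?_⟩
    haveI : Fact p.Prime := ⟨hp⟩
    have huniq : ∀ q : ℕ, q.Prime → q ∣ Nat.card R → q = p := by
      intro q hq hqR
      by_contra hne
      -- a third prime
      have hpG : p ∣ Nat.card G := hpR.trans (Subgroup.card_subgroup_dvd_card R)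
      have hqG : q ∣ Nat.card G := hqR.trans (Subgroup.card_subgroup_dvd_card R)
      have h3 : ∃ r : ℕ, r.Prime ∧ r ∣ Nat.card G ∧ r ≠ p ∧ r ≠ q := by
        by_contra hcon
        push Not at hcon
        apply hns
        have hn0 : Nat.card G ≠ 0 := Nat.card_pos.ne'
        have hsupp : (Nat.card G).factorization.support ⊆ ({p, q} : Finset ℕ) := by
          intro r hr
          rw [Nat.support_factorization, Nat.mem_primeFactors] at hr
          obtain ⟨hrp, hrd, -⟩ := hr
          by_cases hrp' : r = p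
          · simp [hrp']
          · have := hcon r hrp hrd hrp'
            simp [this]
        have hcard : Nat.card G = p ^ ((Nat.card G).factorization p) * q ^ ((Nat.card G).factorization q) := by
          conv_lhs => rw [← Nat.prod_factorization_pow_eq_self hn0]
          rw [Finsupp.prod_of_support_subset _ hsupp _ (by simp)]
          rw [Finset.prod_pair (Ne.symm hne)]
        exact isSolvable_of_card_pq p q _ _ hp hq hcard
      obtain ⟨r, hr, hrG, hrp, hrq⟩ := h3
      have key := solvable_normal_one_prime (G := G) ({p, q, r} : Finset ℕ) (by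
          rw [Finset.card_insert_of_notMem, Finset.card_insert_of_notMem, Finset.card_singleton]
          · simp; exact Ne.symm hrq
          · simp; exact ⟨Ne.symm hne, Ne.symm hrp⟩)
        (by
          intro s hs
          simp only [Finset.mem_insert, Finset.mem_singleton] at hs
          rcases hs with rfl | rfl | rfl
          · exact ⟨hp, hpG⟩
          · exact ⟨hq, hqG⟩
          · exact ⟨hr, hrG⟩)
        (by
          intro s hs s' hs' hss'
          simp only [Finset.mem_insert, Finset.mem_singleton] at hs hs'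
          have hsp : s.Prime := by rcases hs with rfl | rfl | rfl <;> assumption
          have hsp' : s'.Prime := by rcases hs' with rfl | rfl | rfl <;> assumption
          exact no_mixed_order hpp hsp hsp' hss')
        R hRs p (by simp) q (by simp) hpR hqR
      exact hne key.symm
    exact IsPGroup.of_card (Nat.eq_prime_pow_of_unique_prime_dvd Nat.card_pos.ne' (fun {d} => huniq d))
  · -- the quotient
    have hppQ : ∀ q : G ⧸ R, q ≠ 1 → IsPrimePow (orderOf q) := by
      intro q hq
      obtain ⟨g, rfl⟩ := QuotientGroup.mk_surjective q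
      have hg1 : g ≠ 1 := by
        intro h0; apply hq; rw [h0]; rfl
      obtain ⟨p, k, hp, hk, hpk⟩ := (isPrimePow_nat_iff _).mp (hpp g hg1)
      have hdvd : orderOf (g : G ⧸ R) ∣ p ^ k := by
        rw [hpk]
        apply orderOf_dvd_of_pow_eq_one
        rw [← QuotientGroup.mk_pow, pow_orderOf_eq_one]; rfl
      obtain ⟨j, -, hj⟩ := (Nat.dvd_prime_pow hp).mp hdvd
      rw [hj, isPrimePow_nat_iff]
      refine ⟨p, j, hp, ?_, rfl⟩
      rcases Nat.eq_zero_or_pos j with h0 | h0
      · exfalso
        rw [h0, pow_zero, orderOf_eq_one_iff] at hj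
        exact hq hj
      · exact h0
    have hrad : ∀ N : Subgroup (G ⧸ R), N.Normal → Group.IsSolvable N → N = ⊥ := by
      intro N hNn hNs
      have hcn : (N.comap (QuotientGroup.mk' R)).Normal := hNn.comap _
      have hcs : Group.IsSolvable (N.comap (QuotientGroup.mk' R)) := by
        have hRle : R ≤ N.comap (QuotientGroup.mk' R) := by
          intro r hr
          rw [Subgroup.mem_comap]
          have : (QuotientGroup.mk' R) r = 1 := (QuotientGroup.eq_one_iff r).mpr hr
          rw [this]; exact N.one_mem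
        apply Group.isSolvable_of_ker_le_range (Subgroup.inclusion hRle)
          ((QuotientGroup.mk' R).subgroupComap N)
        intro x hx
        rw [MonoidHom.mem_ker] at hx
        have hx' : (QuotientGroup.mk' R) (x : G) = 1 := congrArg Subtype.val hx
        have hxR : (x : G) ∈ R := (QuotientGroup.eq_one_iff _).mp hx'
        exact ⟨⟨x, hxR⟩, Subtype.ext rfl⟩
      have hle := hRmax _ hcn hcs
      rw [eq_bot_iff]
      intro n hn
      obtain ⟨g, rfl⟩ := QuotientGroup.mk_surjective n
      have : g ∈ R := hle (Subgroup.mem_comap.mpr hn)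
      rw [Subgroup.mem_bot]
      exact (QuotientGroup.eq_one_iff g).mpr this
    haveI hnt : Nontrivial (G ⧸ R) := by
      by_contra hcon
      rw [not_nontrivial_iff_subsingleton] at hcon
      apply hns
      have hsolQ : Group.IsSolvable (G ⧸ R) := by
        haveI : IsMulCommutative (G ⧸ R) := ⟨⟨fun a b => Subsingleton.elim _ _⟩⟩
        exact Group.isSolvable_of_comm (fun a b => Subsingleton.elim _ _)
      exact Group.isSolvable_of_ker_le_range R.subtype (QuotientGroup.mk' R)
        (by rw [QuotientGroup.ker_mk', Subgroup.range_subtype])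
    obtain ⟨M, hMn, hM1, hMmin⟩ := exists_isMinNormal (G := G ⧸ R)
    have hMna : ¬ IsMulCommutative M := by
      intro hc
      apply hM1
      apply hrad M hMn
      exact Group.isSolvable_of_comm (fun a b => hc.is_comm.comm a b)
    obtain ⟨T, m, hTM, hT1, hTs, hm, ⟨e⟩⟩ := exists_simple_pi_equiv_of_minNormal M hM1 hMmin
    have hTna : ¬ IsMulCommutative T := by
      intro hc
      apply hMna
      refine ⟨⟨fun a b => ?_⟩⟩
      apply e.injective
      rw [map_mul, map_mul]
      funext i
      exact hc.is_comm.comm _ _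
    obtain ⟨p, q, hp, hq, hpq, hpT, hqT⟩ := exists_two_primes_of_simple hTna
    have hm1 : m = 1 := by
      by_contra hne
      have hm2 : 2 ≤ m := by omega
      obtain ⟨z, hz⟩ := exists_mixed_in_pi (T := T) hm2 hp hq hpq hpT hqT
      apply no_mixed_order hppQ hp hq hpq
      refine ⟨((e.symm z : M) : G ⧸ R), ?_⟩
      rw [Subgroup.orderOf_coe, MulEquiv.orderOf_eq, hz]
    subst hm1
    have hMs : IsSimpleGroup M := (e.trans (MulEquiv.funUnique (Fin 1) T)).isSimpleGroup
    have hcardM : Nat.card M = Nat.card T := Nat.card_congr (e.trans (MulEquiv.funUnique (Fin 1) T)).toEquiv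
    refine ⟨M, hMn, hMs, hMna, ?_⟩
    intro N hNn hN1
    have hinf : (M ⊓ N).Normal := by
      haveI := hMn; haveI := hNn; infer_instance
    rcases hMmin (M ⊓ N) hinf inf_le_left with h0 | h0
    · exfalso
      have hdis : Disjoint M N := disjoint_iff.mpr h0
      have hNcard : Nat.card N ≠ 1 := fun h1 => hN1 (Subgroup.card_eq_one.mp h1)
      obtain ⟨s, hs, hsN⟩ := Nat.exists_prime_and_dvd hNcard
      haveI := Fact.mk hs
      obtain ⟨y, hy⟩ := exists_prime_orderOf_dvd_card' s hsN
      -- choose a prime of M different from s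
      obtain ⟨r, hr, hrs, hrM⟩ : ∃ r : ℕ, r.Prime ∧ r ≠ s ∧ r ∣ Nat.card M := by
        by_cases hps : p = s
        · exact ⟨q, hq, fun h => hpq (hps.trans h.symm), hcardM ▸ hqT⟩
        · exact ⟨p, hp, hps, hcardM ▸ hpT⟩
      haveI := Fact.mk hr
      obtain ⟨x, hx⟩ := exists_prime_orderOf_dvd_card' r hrM
      have hc := Subgroup.commute_of_normal_of_disjoint M N hMn hNn hdis x y x.2 y.2
      exact no_commuting_primes hppQ hr hs hrs (by rw [Subgroup.orderOf_coe]; exact hx)
        (by rw [Subgroup.orderOf_coe]; exact hy) hc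
    · rw [← h0]; exact inf_le_right
  · intro H hH
    exact card_primeFactors_le_two_of_eppo (Γ := H) (fun g hg => by
      have h1 : (g : G) ≠ 1 := fun h0 => hg (Subtype.ext h0)
      have := hpp g h1
      rwa [Subgroup.orderOf_coe] at this)

end Cfsg.Agent.S3992
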