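import Cfsg.Statements.S3994
import Mathlib
import Cfsg.Agent.Lib.Helper21.Frobenius
-- import your own Cfsg.Agent.* helpers here

set_option autoImplicit false
open Cfsg

namespace Cfsg.Agent.S3994

open Cfsg.Agent.Lib.Helper21
theorem frobWt_eq_card_centralizer {G : Type*} [Group G] (s : ℕ) (y : G) :
    frobWt s y = Nat.card {c : Subgroup.centralizer ({y} : Set G) // c ^ s = 1} := by
  unfold frobWt
  apply Nat.card_congr
  refine ⟨fun z => ⟨⟨z.1, ?_⟩, ?_⟩, fun c => ⟨c.1.1, ?_, ?_⟩, ?_, ?_⟩
  · rw [Subgroup.mem_centralizer_singleton_iff]; exact z.2.2.symm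
  · apply Subtype.ext; simpa using z.2.1
  · have := congrArg Subtype.val c.2; simpa using this
  · have : (c.1 : G) ∈ Subgroup.centralizer ({y} : Set G) := c.1.2
    rw [Subgroup.mem_centralizer_singleton_iff] at this
    exact this.symm
  · intro z; rfl
  · intro c; rfl

/-- the `n'`-part of `N` is coprime to `n` -/
theorem coprime_div_gcd_pow (N n : ℕ) (hN : 0 < N) (hn : 0 < n) :
    Nat.Coprime (N / Nat.gcd N (n ^ N)) n := by
  rw [Nat.coprime_iff_gcd_eq_one]
  by_contra hne
  obtain ⟨q, hq, hqd⟩ := Nat.exists_prime_and_dvd hne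
  have hq1 : q ∣ N / Nat.gcd N (n ^ N) := dvd_trans hqd (Nat.gcd_dvd_left _ _)
  have hq2 : q ∣ n := dvd_trans hqd (Nat.gcd_dvd_right _ _)
  have hg0 : Nat.gcd N (n ^ N) ≠ 0 := Nat.gcd_ne_zero_left hN.ne'
  have hgd : Nat.gcd N (n ^ N) ∣ N := Nat.gcd_dvd_left _ _
  have h1 : (N / Nat.gcd N (n ^ N)).factorization q = N.factorization q - (Nat.gcd N (n ^ N)).factorization q := by
    rw [Nat.factorization_div hgd]; rfl
  have h2 : (Nat.gcd N (n ^ N)).factorization q = min (N.factorization q) ((n ^ N).factorization q) := by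
    rw [Nat.factorization_gcd hN.ne' (pow_ne_zero _ hn.ne')]; rfl
  have h3 : (n ^ N).factorization q = N * n.factorization q := by
    rw [Nat.factorization_pow]; rfl
  have h4 : 1 ≤ n.factorization q := Nat.Prime.factorization_pos_of_dvd hq hn.ne' hq2
  have h5 : N.factorization q < N := Nat.factorization_lt q hN.ne'
  have h6 : 1 ≤ (N / Nat.gcd N (n ^ N)).factorization q :=
    Nat.Prime.factorization_pos_of_dvd hq (Nat.div_pos (Nat.le_of_dvd hN hgd) (Nat.pos_of_ne_zero hg0)).ne' hq1
  have h7 : N ≤ N * n.factorization q := Nat.le_mul_of_pos_right N h4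
  rw [h1, h2, h3] at h6
  have : min (N.factorization q) (N * n.factorization q) = N.factorization q := min_eq_left (by omega)
  omega

/-- Let G be a finite group and n a positive integer. The number of elements of G whose order is divisible by n is either 0 or divisible by the largest divisor of the order of G that is coprime to n. -/
theorem result {G : Type*} [Group G] [Finite G] (n : ℕ) (hn : 0 < n) :
    Nat.card {g : G // n ∣ orderOf g} = 0 ∨
      (Nat.card G / Nat.gcd (Nat.card G) (n ^ Nat.card G)) ∣ Nat.card {g : G // n ∣ orderOf g} := by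
  right
  classical
  have := Fintype.ofFinite G
  set N := Nat.card G with hN
  have hNpos : 0 < N := Nat.card_pos
  set A := Nat.gcd N (n ^ N) with hA
  set B := N / A with hB
  have hAd : A ∣ N := Nat.gcd_dvd_left _ _
  have hAB : A * B = N := Nat.mul_div_cancel' hAd
  have hBn : Nat.Coprime B n := coprime_div_gcd_pow N n hNpos hn
  have hcop : Nat.Coprime A B := by
    have h1 : Nat.Coprime B (n ^ N) := Nat.Coprime.pow_right _ hBn
    exact (Nat.Coprime.coprime_dvd_right (Nat.gcd_dvd_right N (n ^ N)) h1).symm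
  obtain ⟨e₁, e₂, he1, he2, he3, he4, he5⟩ := exists_crt_exponents A B hcop
  have hall : ∀ x : G, x ^ (A * B) = 1 := by
    intro x; rw [hAB, hN]; exact pow_card_eq_one'
  -- rewrite the count via the decomposition
  have h1 : Nat.card {g : G // n ∣ orderOf g} =
      Nat.card {x : G // x ^ (A * B) = 1 ∧ n ∣ orderOf (x ^ e₁)} := by
    apply Nat.card_congr
    apply Equiv.subtypeEquivRight
    intro x
    have hx := hall x
    have hy : (x ^ e₁) ^ A = 1 := by
      obtain ⟨k, rfl⟩ := he2
      rw [← pow_mul, mul_comm B k, mul_assoc, mul_comm B, mul_comm, pow_mul, hx, one_pow]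
    have hz : (x ^ e₂) ^ B = 1 := by
      obtain ⟨k, rfl⟩ := he3
      rw [← pow_mul, mul_comm A k, mul_assoc, mul_comm, pow_mul, hx, one_pow]
    have hxyz : x ^ e₁ * x ^ e₂ = x := by
      rw [← pow_add]
      exact pow_eq_self_of_modEq_one x (A * B) _ hx he5
    have hc : Commute (x ^ e₁) (x ^ e₂) := (Commute.refl x).pow_pow e₁ e₂
    have hoy : orderOf (x ^ e₁) ∣ A := orderOf_dvd_of_pow_eq_one hy
    have hoz : orderOf (x ^ e₂) ∣ B := orderOf_dvd_of_pow_eq_one hz
    have hcop' : Nat.Coprime (orderOf (x ^ e₁)) (orderOf (x ^ e₂)) :=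
      Nat.Coprime.coprime_dvd_left hoy (Nat.Coprime.coprime_dvd_right hoz hcop)
    have hox : orderOf x = orderOf (x ^ e₁) * orderOf (x ^ e₂) := by
      conv_lhs => rw [← hxyz]
      exact hc.orderOf_mul_eq_mul_orderOf_of_coprime hcop'
    have hnz : Nat.Coprime n (orderOf (x ^ e₂)) := (Nat.Coprime.coprime_dvd_left hoz hBn).symm
    constructor
    · intro h
      refine ⟨hx, ?_⟩
      rw [hox] at h
      exact Nat.Coprime.dvd_of_dvd_mul_right hnz h
    · rintro ⟨_, h⟩
      rw [hox]
      exact Dvd.dvd.mul_right h _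
  rw [h1, ← Nat.card_congr (coprimeDecompEquiv (G := G) A B e₁ e₂ he1 he2 he3 he4 he5
    (fun y => n ∣ orderOf y)), Nat.card_sigma]
  set S : Finset G := Finset.univ.filter (fun y : G => y ^ A = 1 ∧ n ∣ orderOf y) with hS
  have hsum : ∑ y : {y : G // y ^ A = 1 ∧ n ∣ orderOf y}, Nat.card {z : G // z ^ B = 1 ∧ y.1 * z = z * y.1} =
      ∑ y ∈ S, frobWt B y := by
    rw [hS, Finset.sum_subtype (Finset.univ.filter (fun y : G => y ^ A = 1 ∧ n ∣ orderOf y))
      (p := fun y => y ^ A = 1 ∧ n ∣ orderOf y) (by intro x; simp) (fun y => frobWt B y)]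
    rfl
  rw [hsum]
  apply dvd_sum_of_setoid' (IsConj.setoid G) S (frobWt B) B
  · intro y y' hy hr
    have hr' : IsConj y y' := hr
    obtain ⟨g, rfl⟩ := isConj_iff.mp hr'
    rw [hS, Finset.mem_filter] at hy ⊢
    have ho : orderOf (g * y * g⁻¹) = orderOf y :=
      orderOf_injective (MulAut.conj g).toMonoidHom (MulAut.conj g).injective y
    refine ⟨Finset.mem_univ _, ?_, ?_⟩
    · rw [conj_pow, hy.2.1]; group
    · rw [ho]; exact hy.2.2
  · intro y y' hr
    have hr' : IsConj y y' := hr
    exact frobWt_conj B y y' hr'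
  · intro y _
    rw [card_filter_isConj' y, frobWt_eq_card_centralizer, card_pow_eq_one_gcd]
    have h2 := frobenius_dvd_card_pow_eq_one (G := Subgroup.centralizer ({y} : Set G))
      (Nat.gcd B (Nat.card (Subgroup.centralizer ({y} : Set G)))) (Nat.gcd_dvd_right _ _)
    refine dvd_trans ?_ (Nat.mul_dvd_mul_left _ h2)
    have h4 : (Subgroup.centralizer ({y} : Set G)).index * Nat.card (Subgroup.centralizer ({y} : Set G)) =
        Nat.card G := Subgroup.index_mul_card _
    have h5 : B ∣ (Subgroup.centralizer ({y} : Set G)).index * Nat.card (Subgroup.centralizer ({y} : Set G)) := by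
      rw [h4, ← hN, ← hAB]; exact Dvd.intro_left _ rfl
    have h7 : B ∣ Nat.gcd ((Subgroup.centralizer ({y} : Set G)).index * B)
        ((Subgroup.centralizer ({y} : Set G)).index * Nat.card (Subgroup.centralizer ({y} : Set G))) :=
      Nat.dvd_gcd (Dvd.intro_left _ rfl) h5
    rwa [Nat.gcd_mul_left] at h7

end Cfsg.Agent.S3994
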