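import Cfsg.Statements.S3995
import Mathlib
import Cfsg.Agent.Lib.Helper25.FrobRoots
import Cfsg.Agent.Lib.Helper18.UniqueInvolution
-- import your own Cfsg.Agent.* helpers here

set_option autoImplicit false
open Cfsg

namespace Cfsg.Agent.S3995

open Finset

universe u

/-- number of elements of order `m` -/
noncomputable def sCount (G : Type u) [Group G] (m : ℕ) : ℕ := Nat.card {g : G // orderOf g = m}

variable {G : Type u} [Group G]

theorem sCount_one : sCount G 1 = 1 := by
  unfold sCount
  rw [Nat.card_eq_one_iff_unique]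
  refine ⟨⟨?_⟩, ⟨⟨1, orderOf_one⟩⟩⟩
  rintro ⟨a, ha⟩ ⟨b, hb⟩
  rw [orderOf_eq_one_iff] at ha hb
  exact Subtype.ext (ha.trans hb.symm)

theorem sCount_eq_zero {m : ℕ} (h : ∀ g : G, orderOf g ≠ m) : sCount G m = 0 := by
  unfold sCount
  have : IsEmpty {g : G // orderOf g = m} := ⟨fun ⟨g, hg⟩ => h g hg⟩
  exact Nat.card_of_isEmpty

theorem dvd_two_of_sCount_eq_one {m : ℕ} (g : G) (hg : orderOf g = m) (h : sCount G m = 1) :
    m ∣ 2 := by
  unfold sCount at h
  rw [Nat.card_eq_one_iff_unique] at h
  obtain ⟨hs, -⟩ := h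
  have h1 : (⟨g, hg⟩ : {g : G // orderOf g = m}) = ⟨g⁻¹, by rw [orderOf_inv, hg]⟩ :=
    Subsingleton.elim _ _
  have h2 : g = g⁻¹ := congrArg Subtype.val h1
  have h3 : g ^ 2 = 1 := by
    rw [pow_two]
    nth_rewrite 2 [h2]
    exact mul_inv_cancel g
  rw [← hg]
  exact orderOf_dvd_of_pow_eq_one h3

/-- Frobenius: `m ∣ #{x | x ^ m = 1} = ∑_{d ∣ m} s(d)` -/
theorem frob [Finite G] (m : ℕ) (hm : m ∣ Nat.card G) : m ∣ ∑ d ∈ m.divisors, sCount G d := by
  classical
  have hm0 : m ≠ 0 := by
    rintro rfl
    have : Nat.card G = 0 := Nat.eq_zero_of_zero_dvd hm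
    exact Nat.card_pos.ne' this
  have h1 := Cfsg.Agent.Lib.Helper25.gcd_dvd_rootCount m (1 : G)
  have h2 : Subgroup.centralizer ({1} : Set G) = ⊤ := by
    rw [eq_top_iff]
    intro x _
    rw [Subgroup.mem_centralizer_singleton_iff]
    simp
  rw [h2, Subgroup.card_top, Nat.gcd_eq_left hm] at h1
  have h3 : Cfsg.Agent.Lib.Helper25.rootCount m (1 : G) = ∑ d ∈ m.divisors, sCount G d := by
    let _ : Fintype G := Fintype.ofFinite G
    unfold Cfsg.Agent.Lib.Helper25.rootCount sCount
    have e := sum_card_orderOf_eq_card_pow_eq_one (G := G) hm0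
    simp only [Nat.card_eq_fintype_card, Fintype.card_subtype]
    convert e.symm
  rwa [h3] at h1

theorem sum_divisors_mul_coprime {a b : ℕ} (hab : a.Coprime b) (f : ℕ → ℕ) :
    ∑ d ∈ (a * b).divisors, f d = ∑ x ∈ a.divisors, ∑ y ∈ b.divisors, f (x * y) := by
  rw [hab.divisors_mul, Finset.sum_map]
  show ∑ x ∈ (a.divisors ×ˢ b.divisors).attach, f (x.1.1 * x.1.2) = _
  rw [Finset.sum_attach (a.divisors ×ˢ b.divisors) (fun p => f (p.1 * p.2)), Finset.sum_product]

theorem frob_prime [Finite G] {p : ℕ} (hp : p.Prime) (h : p ∣ Nat.card G) :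
    p ∣ 1 + sCount G p := by
  have := frob (G := G) p h
  rw [Nat.Prime.sum_divisors hp, sCount_one, add_comm] at this
  exact this

theorem frob_prime_sq [Finite G] {p : ℕ} (hp : p.Prime) (h : p ^ 2 ∣ Nat.card G) :
    p ^ 2 ∣ 1 + sCount G p + sCount G (p ^ 2) := by
  have := frob (G := G) (p ^ 2) h
  rw [Nat.sum_divisors_prime_pow hp] at this
  simpa [Finset.sum_range_succ, sCount_one] using this

theorem frob_pq [Finite G] {p q : ℕ} (hp : p.Prime) (hq : q.Prime) (hpq : p ≠ q)
    (h : p * q ∣ Nat.card G) :
    p * q ∣ 1 + sCount G p + sCount G q + sCount G (p * q) := by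
  have := frob (G := G) (p * q) h
  rw [sum_divisors_mul_coprime ((Nat.coprime_primes hp hq).mpr hpq),
    Nat.Prime.sum_divisors hp] at this
  simp only [Nat.Prime.sum_divisors hq, one_mul, mul_one, sCount_one] at this
  have e : sCount G (p * q) + sCount G p + (sCount G q + 1) =
      1 + sCount G p + sCount G q + sCount G (p * q) := by ring
  rwa [e] at this

theorem divisors_four : Nat.divisors 4 = {1, 2, 4} := by decide

theorem divisors_eight : Nat.divisors 8 = {1, 2, 4, 8} := by decide

theorem frob_four [Finite G] (h : 4 ∣ Nat.card G) :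
    4 ∣ 1 + sCount G 2 + sCount G 4 := by
  have := frob (G := G) 4 h
  rw [divisors_four] at this
  simpa [sCount_one, add_assoc] using this

theorem frob_eight [Finite G] (h : 8 ∣ Nat.card G) :
    8 ∣ 1 + sCount G 2 + sCount G 4 + sCount G 8 := by
  have := frob (G := G) 8 h
  rw [divisors_eight] at this
  simpa [sCount_one, add_assoc] using this

theorem frob_four_p [Finite G] {p : ℕ} (hp : p.Prime) (hp2 : p ≠ 2) (h : 4 * p ∣ Nat.card G) :
    4 * p ∣ 1 + sCount G 2 + sCount G 4 + sCount G p + sCount G (2 * p) + sCount G (4 * p) := by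
  have := frob (G := G) (4 * p) h
  have hcop : Nat.Coprime 4 p := by
    have : Nat.Coprime 2 p := (Nat.coprime_primes Nat.prime_two hp).mpr (Ne.symm hp2)
    exact Nat.Coprime.pow_left 2 this
  rw [sum_divisors_mul_coprime hcop, divisors_four] at this
  simp only [Nat.Prime.sum_divisors hp] at this
  have e : ∑ x ∈ ({1, 2, 4} : Finset ℕ), (sCount G (x * p) + sCount G (x * 1)) =
      1 + sCount G 2 + sCount G 4 + sCount G p + sCount G (2 * p) + sCount G (4 * p) := by
    rw [Finset.sum_insert (by decide), Finset.sum_insert (by decide), Finset.sum_singleton]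
    simp only [one_mul, mul_one, sCount_one]
    ring
  rwa [e] at this

theorem lemma_pq [Finite G] {p q n : ℕ} (hp : p.Prime) (hq : q.Prime) (hpq : p ≠ q)
    (h : p * q ∣ Nat.card G) (hsp : sCount G p = n) (hsq : sCount G q = n)
    (hspq : sCount G (p * q) = 0 ∨ sCount G (p * q) = n) : p = 2 := by
  have hpG : p ∣ Nat.card G := (Dvd.intro _ rfl : p ∣ p * q).trans h
  have h1 : p ∣ 1 + n := hsp ▸ frob_prime hp hpG
  have h2 : p ∣ 1 + sCount G p + sCount G q + sCount G (p * q) :=
    (Dvd.intro _ rfl : p ∣ p * q).trans (frob_pq hp hq hpq h)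
  rw [hsp, hsq] at h2
  have hpn : ¬ p ∣ n := by
    intro hd
    have : p ∣ 1 := (Nat.dvd_add_left hd).mp h1
    exact hp.one_lt.ne' (Nat.dvd_one.mp this)
  rcases hspq with h0 | h0
  · rw [h0, add_zero] at h2
    exact absurd ((Nat.dvd_add_right h1).mp h2) hpn
  · rw [h0] at h2
    have e : 1 + n + n + n = (1 + n) + 2 * n := by ring
    rw [e] at h2
    have h3 : p ∣ 2 * n := (Nat.dvd_add_right h1).mp h2
    rcases (Nat.Prime.dvd_mul hp).mp h3 with h4 | h4
    · exact (Nat.prime_dvd_prime_iff_eq hp Nat.prime_two).mp h4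
    · exact absurd h4 hpn

theorem lemma_p2 [Finite G] {p n : ℕ} (hp : p.Prime) (h : p ^ 2 ∣ Nat.card G)
    (hsp : sCount G p = n) (hsp2 : sCount G (p ^ 2) = n) : False := by
  have hpG : p ∣ Nat.card G := (Dvd.intro_left _ (pow_two p).symm : p ∣ p ^ 2).trans h
  have h1 : p ∣ 1 + n := hsp ▸ frob_prime hp hpG
  have h2 : p ∣ 1 + sCount G p + sCount G (p ^ 2) :=
    (Dvd.intro_left _ (pow_two p).symm : p ∣ p ^ 2).trans (frob_prime_sq hp h)
  rw [hsp, hsp2] at h2
  have h3 : p ∣ n := (Nat.dvd_add_right h1).mp h2
  have : p ∣ 1 := (Nat.dvd_add_left h3).mp h1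
  exact hp.one_lt.ne' (Nat.dvd_one.mp this)

/-- internal direct product of two commuting subgroups meeting trivially and generating -/
theorem nonempty_mulEquiv_prod_of_sup_eq_top {U W : Subgroup G}
    (hc : ∀ u ∈ U, ∀ w ∈ W, Commute u w) (hd : U ⊓ W = ⊥) (hsup : U ⊔ W = ⊤) :
    Nonempty (G ≃* ↥U × ↥W) := by
  have hcomm : ∀ (u : ↥U) (w : ↥W), Commute (U.subtype u) (W.subtype w) :=
    fun u w => hc u u.2 w w.2
  have hinj : Function.Injective (MonoidHom.noncommCoprod U.subtype W.subtype hcomm) := by
    rw [MonoidHom.noncommCoprod_injective]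
    refine ⟨U.subtype_injective, W.subtype_injective, ?_⟩
    rw [Subgroup.range_subtype, Subgroup.range_subtype, disjoint_iff, hd]
  have hsurj : Function.Surjective (MonoidHom.noncommCoprod U.subtype W.subtype hcomm) := by
    rw [← MonoidHom.range_eq_top, MonoidHom.noncommCoprod_range, Subgroup.range_subtype,
      Subgroup.range_subtype, hsup]
  exact ⟨(MulEquiv.ofBijective _ ⟨hinj, hsurj⟩).symm⟩

theorem card_pow_eq_one_eq_sum [Finite G] (m : ℕ) (hm0 : m ≠ 0) :
    Nat.card {x : G // x ^ m = 1} = ∑ d ∈ m.divisors, sCount G d := by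
  classical
  let _ : Fintype G := Fintype.ofFinite G
  unfold sCount
  have e := sum_card_orderOf_eq_card_pow_eq_one (G := G) hm0
  simp only [Nat.card_eq_fintype_card, Fintype.card_subtype]
  convert e.symm

/-- a group of exponent dividing the prime `p` has `1 + s(p)` elements -/
theorem card_eq_of_exponent [Finite G] {p : ℕ} (hp : p.Prime) (h : ∀ x : G, x ^ p = 1) :
    Nat.card G = 1 + sCount G p := by
  have h1 := card_pow_eq_one_eq_sum (G := G) p hp.ne_zero
  rw [Nat.Prime.sum_divisors hp, sCount_one, add_comm] at h1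
  rw [← h1]
  exact Nat.card_congr (Equiv.subtypeUnivEquiv h).symm

/-- an element of order `p ^ 2` from an element of order `p ^ j`, `j ≥ 2` -/
theorem exists_orderOf_eq_sq {p j : ℕ} (hp : p.Prime) (x : G) (hx : orderOf x = p ^ j) (hj : 2 ≤ j) :
    ∃ y : G, orderOf y = p ^ 2 := by
  refine ⟨x ^ (p ^ (j - 2)), ?_⟩
  rw [orderOf_pow_of_dvd (pow_pos hp.pos _).ne' (by rw [hx]; exact pow_dvd_pow p (by omega)), hx,
    Nat.pow_div (by omega) hp.pos]
  congr 1; omega

theorem exists_orderOf_eq_eight {j : ℕ} (x : G) (hx : orderOf x = 2 ^ j) (hj : 3 ≤ j) :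
    ∃ y : G, orderOf y = 8 := by
  refine ⟨x ^ (2 ^ (j - 3)), ?_⟩
  rw [orderOf_pow_of_dvd (pow_pos (by norm_num) _).ne' (by rw [hx]; exact pow_dvd_pow 2 (by omega)),
    hx, Nat.pow_div (by omega) (by norm_num)]
  have : j - (j - 3) = 3 := by omega
  rw [this]



/-- Let G be a finite group such that the numbers of elements of each order that occurs in G (the numbers #{g : o(g) = m}, m ranging over the element orders of G) take exactly two values, 1 and some n ≠ 1. Then either G is a p-group of exponent p and order at least 3 for some prime p, or G is the quaternion group of order 8, or G is cyclic of order 4, or G ≅ Z₂ × P for a p-group P of exponent p with p an odd prime. -/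
theorem result {G : Type*} [Group G] [Finite G] (n : ℕ) (hn : n ≠ 1) (h : ((fun m : ℕ => Nat.card {g : G // orderOf g = m}) '' Set.range (orderOf : G → ℕ)) = {1, n}) :
    (∃ p : ℕ, p.Prime ∧ IsPGroup p G ∧ 3 ≤ Nat.card G ∧ Monoid.exponent G = p) ∨
      Nonempty (G ≃* QuaternionGroup 2) ∨ (IsCyclic G ∧ Nat.card G = 4) ∨
      (∃ (p : ℕ) (P : Type) (_ : Group P) (_ : Finite P), p.Prime ∧ p ≠ 2 ∧ IsPGroup p P ∧ Monoid.exponent P = p ∧
        Nonempty (G ≃* Multiplicative (ZMod 2) × P)) := by
  have hmem : ∀ g : G, sCount G (orderOf g) = 1 ∨ sCount G (orderOf g) = n := by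
    intro g
    have hg : sCount G (orderOf g) ∈ ((fun m : ℕ => Nat.card {g : G // orderOf g = m}) ''
        Set.range (orderOf : G → ℕ)) := ⟨orderOf g, ⟨g, rfl⟩, rfl⟩
    rw [h] at hg
    simpa using hg
  have hn_occurs : ∃ g : G, sCount G (orderOf g) = n := by
    have hn' : n ∈ ({1, n} : Set ℕ) := by simp
    rw [← h] at hn'
    obtain ⟨m, ⟨g, rfl⟩, hm⟩ := hn'
    exact ⟨g, hm⟩
  have hbig : ∀ g : G, ¬ orderOf g ∣ 2 → sCount G (orderOf g) = n := by
    intro g hg
    rcases hmem g with h1 | h1
    · exact absurd (dvd_two_of_sCount_eq_one g rfl h1) hg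
    · exact h1
  have hval : ∀ m, ¬ m ∣ 2 → sCount G m = 0 ∨ sCount G m = n := by
    intro m hm
    by_cases hex : ∃ g : G, orderOf g = m
    · obtain ⟨g, rfl⟩ := hex; exact Or.inr (hbig g hm)
    · push Not at hex; exact Or.inl (sCount_eq_zero hex)
  have hnt : Nontrivial G := by
    by_contra hsub
    rw [not_nontrivial_iff_subsingleton] at hsub
    obtain ⟨g, hg⟩ := hn_occurs
    have : orderOf g = 1 := by rw [orderOf_eq_one_iff]; exact Subsingleton.elim _ _
    rw [this, sCount_one] at hg
    exact hn hg.symm
  have hcard1 : 1 < Nat.card G := Finite.one_lt_card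
  have hcauchy : ∀ p : ℕ, p.Prime → p ∣ Nat.card G → ∃ g : G, orderOf g = p := by
    intro p hp hd
    have : Fact p.Prime := ⟨hp⟩
    exact exists_prime_orderOf_dvd_card' p hd
  by_cases hB : ∃ t : G, orderOf t = 2 ∧ sCount G 2 = 1
  · -- Case B : a unique involution
    obtain ⟨t, ht, hs2⟩ := hB
    have huniq : ∀ u v : G, orderOf u = 2 → orderOf v = 2 → u = v := by
      intro u v hu hv
      have h1 := hs2
      unfold sCount at h1
      rw [Nat.card_eq_one_iff_unique] at h1
      obtain ⟨hss, -⟩ := h1
      have := Subsingleton.elim (⟨u, hu⟩ : {g : G // orderOf g = 2}) ⟨v, hv⟩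
      exact congrArg Subtype.val this
    have htc : ∀ g : G, g * t = t * g := by
      intro g
      have h1 : orderOf (g * t * g⁻¹) = 2 := by
        have := (MulAut.conj g).orderOf_eq t
        rw [MulAut.conj_apply] at this
        rw [this, ht]
      have h2 := huniq _ _ h1 ht
      calc g * t = (g * t * g⁻¹) * g := by group
        _ = t * g := by rw [h2]
    have h2G : 2 ∣ Nat.card G := ht ▸ orderOf_dvd_natCard t
    -- odd primes
    have hodd : ∀ p : ℕ, p.Prime → p ≠ 2 → p ∣ Nat.card G →
        sCount G p = n ∧ sCount G (2 * p) = n := by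
      intro p hp hp2 hd
      obtain ⟨y, hy⟩ := hcauchy p hp hd
      have hp3 : 3 ≤ p := by
        have := hp.two_le
        omega
      have h1 : sCount G p = n := by
        have := hbig y (by
          rw [hy]; intro hd2
          have := Nat.le_of_dvd (by norm_num) hd2
          omega)
        rwa [hy] at this
      have h2 : orderOf (t * y) = 2 * p := by
        rw [(show Commute t y from (htc y).symm).orderOf_mul_eq_mul_orderOf_of_coprime, ht, hy]
        rw [ht, hy]
        exact (Nat.coprime_primes Nat.prime_two hp).mpr (Ne.symm hp2)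
      have h3 := hbig (t * y) (by
        rw [h2]; intro hd2
        have := Nat.le_of_dvd (by norm_num) hd2
        omega)
      rw [h2] at h3
      exact ⟨h1, h3⟩
    by_cases h4 : 4 ∣ Nat.card G
    · -- Sylow 2-subgroup of order at least 4 : G is Z4 or Q8
      have hs4 : sCount G 4 = n ∧ 4 ∣ 2 + n := by
        have h1 := frob_four (G := G) h4
        rw [hs2] at h1
        rcases hval 4 (by decide) with h0 | h0
        · rw [h0] at h1; omega
        · rw [h0] at h1; exact ⟨h0, by simpa using h1⟩
      have hno8 : ∀ g : G, orderOf g ≠ 8 := by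
        intro g hg
        have h8 : 8 ∣ Nat.card G := hg ▸ orderOf_dvd_natCard g
        have hs8 : sCount G 8 = n := by
          have := hbig g (by rw [hg]; decide)
          rwa [hg] at this
        have h1 := frob_eight (G := G) h8
        rw [hs2, hs4.1, hs8] at h1
        have h2 := hs4.2
        omega
      have hnoodd : ∀ p : ℕ, p.Prime → p ∣ Nat.card G → p = 2 := by
        intro p hp hd
        by_contra hp2
        obtain ⟨hsp, hs2p⟩ := hodd p hp hp2 hd
        have hcop : Nat.Coprime 4 p := by
          have : Nat.Coprime 2 p := (Nat.coprime_primes Nat.prime_two hp).mpr (Ne.symm hp2)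
          exact Nat.Coprime.pow_left 2 this
        have h4p : 4 * p ∣ Nat.card G := hcop.mul_dvd_of_dvd_of_dvd h4 hd
        have h1 : p ∣ 1 + n := hsp ▸ frob_prime hp hd
        have h2 : p ∣ 1 + sCount G 2 + sCount G 4 + sCount G p + sCount G (2 * p) +
            sCount G (4 * p) := (Dvd.intro_left _ rfl : p ∣ 4 * p).trans (frob_four_p hp hp2 h4p)
        rw [hs2, hs4.1, hsp, hs2p] at h2
        have hp3 : 3 ≤ p := by
          have := hp.two_le
          omega
        rcases hval (4 * p) (by
          intro hd2
          have := Nat.le_of_dvd (by norm_num) hd2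
          omega) with h0 | h0
        · rw [h0] at h2
          have e : 1 + 1 + n + n + n + 0 + 1 = 3 * (1 + n) := by ring
          have h3 : p ∣ 1 + 1 + n + n + n + 0 + 1 := e ▸ Dvd.dvd.mul_left h1 3
          have h5 : p ∣ 1 := (Nat.dvd_add_right h2).mp h3
          exact hp.one_lt.ne' (Nat.dvd_one.mp h5)
        · rw [h0] at h2
          have e : 1 + 1 + n + n + n + n + 2 = 4 * (1 + n) := by ring
          have h3 : p ∣ 1 + 1 + n + n + n + n + 2 := e ▸ Dvd.dvd.mul_left h1 4
          have h5 : p ∣ 2 := (Nat.dvd_add_right h2).mp h3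
          exact hp2 ((Nat.prime_dvd_prime_iff_eq hp Nat.prime_two).mp h5)
      have hcardpow : Nat.card G = 2 ^ (Nat.card G).primeFactorsList.length :=
        Nat.eq_prime_pow_of_unique_prime_dvd Nat.card_pos.ne' (fun {d} hd hdd => hnoodd d hd hdd)
      have : Fact (Nat.Prime 2) := ⟨Nat.prime_two⟩
      have hG2 : IsPGroup 2 G := IsPGroup.of_card hcardpow
      rcases Cfsg.Agent.Lib.Helper18.cyclic_or_quaternion_data hG2 huniq with
        hcyc | ⟨a, x, m, hm, hord, hxnot, hxa, hx2, hall⟩
      · right; right; left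
        refine ⟨hcyc, ?_⟩
        obtain ⟨g, hg⟩ := hcyc.exists_generator
        have hgo : orderOf g = Nat.card G := orderOf_eq_card_of_forall_mem_zpowers hg
        obtain ⟨k, hk⟩ : ∃ k, Nat.card G = 2 ^ k := ⟨_, hcardpow⟩
        have hk2 : 2 ≤ k := by
          by_contra hlt
          push Not at hlt
          rw [hk] at h4
          have : 2 ^ k ≤ 2 ^ 1 := Nat.pow_le_pow_right (by norm_num) (by omega)
          have := Nat.le_of_dvd (by positivity) h4
          omega
        have hk3 : k < 3 := by
          by_contra hge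
          push Not at hge
          obtain ⟨y, hy⟩ := exists_orderOf_eq_eight g (hgo.trans hk) hge
          exact hno8 y hy
        have : k = 2 := by omega
        rw [hk, this]; norm_num
      · right; left
        have hm3 : m < 3 := by
          by_contra hge
          push Not at hge
          obtain ⟨y, hy⟩ := exists_orderOf_eq_eight a hord hge
          exact hno8 y hy
        have hm2 : m = 2 := by omega
        subst hm2
        exact Cfsg.Agent.Lib.Helper18.nonempty_mulEquiv_quaternionGroup a x 2
          (by rw [hord]; norm_num) (by rw [hx2]; norm_num) hxa hxnot hall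
    · -- |G| = 2 * odd
      right; right; right
      -- an odd prime divisor
      have hexodd : ∃ p : ℕ, p.Prime ∧ p ≠ 2 ∧ p ∣ Nat.card G := by
        by_contra hno
        push Not at hno
        have hall2 : ∀ {d : ℕ}, d.Prime → d ∣ Nat.card G → d = 2 := by
          intro d hd hdd
          by_contra hd2
          exact hno d hd hd2 hdd
        have hcardpow := Nat.eq_prime_pow_of_unique_prime_dvd Nat.card_pos.ne' hall2
        obtain ⟨k, hk⟩ : ∃ k, Nat.card G = 2 ^ k := ⟨_, hcardpow⟩
        have hk1 : k < 2 := by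
          by_contra hge
          push Not at hge
          apply h4
          rw [hk]
          exact pow_dvd_pow 2 hge
        have hcard2 : Nat.card G ∣ 2 := by
          rw [hk]
          exact pow_dvd_pow 2 (by omega : k ≤ 1)
        obtain ⟨g, hg⟩ := hn_occurs
        have hgo : orderOf g ∣ 2 := (orderOf_dvd_natCard g).trans hcard2
        rcases (Nat.dvd_prime Nat.prime_two).mp hgo with h1 | h1
        · rw [h1, sCount_one] at hg; exact hn hg.symm
        · rw [h1, hs2] at hg; exact hn hg.symm
      obtain ⟨p, hp, hp2, hpG⟩ := hexodd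
      have : Fact p.Prime := ⟨hp⟩
      obtain ⟨hsp, -⟩ := hodd p hp hp2 hpG
      have hp3 : 3 ≤ p := by
        have := hp.two_le
        omega
      -- the only primes are 2 and p
      have hprimes : ∀ q : ℕ, q.Prime → q ∣ Nat.card G → q = 2 ∨ q = p := by
        intro q hq hqG
        by_contra hne
        push Not at hne
        obtain ⟨hsq, -⟩ := hodd q hq hne.1 hqG
        have hpq : p * q ∣ Nat.card G :=
          ((Nat.coprime_primes hp hq).mpr (Ne.symm hne.2)).mul_dvd_of_dvd_of_dvd hpG hqG
        have hq3 : 3 ≤ q := by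
          have := hq.two_le
          omega
        have := lemma_pq hp hq (Ne.symm hne.2) hpq hsp hsq (hval (p * q) (by
          intro hd2
          have h1 := Nat.le_of_dvd (by norm_num) hd2
          have h2 : 3 * 3 ≤ p * q := Nat.mul_le_mul hp3 hq3
          omega))
        exact hp2 this
      -- no element of order p^2
      have hexp : ∀ g : G, ∀ j : ℕ, orderOf g = p ^ j → j ≤ 1 := by
        intro g j hg
        by_contra hj
        push Not at hj
        obtain ⟨y, hy⟩ := exists_orderOf_eq_sq hp g hg hj
        have hp2G : p ^ 2 ∣ Nat.card G := hy ▸ orderOf_dvd_natCard y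
        have hsp2 : sCount G (p ^ 2) = n := by
          have := hbig y (by
            rw [hy]; intro hd2
            have h1 := Nat.le_of_dvd (by norm_num) hd2
            have h2 : 3 ^ 2 ≤ p ^ 2 := Nat.pow_le_pow_left hp3 2
            omega)
          rwa [hy] at this
        exact lemma_p2 hp hp2G hsp hsp2
      -- the Sylow p-subgroup has index 2
      obtain ⟨P⟩ : Nonempty (Sylow p G) := inferInstance
      have hidx : (P : Subgroup G).index = 2 := by
        have h1 : ¬ p ∣ (P : Subgroup G).index := P.not_dvd_index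
        have h2 : (P : Subgroup G).index ∣ Nat.card G := Subgroup.index_dvd_card _
        have h3 : ∀ {d : ℕ}, d.Prime → d ∣ (P : Subgroup G).index → d = 2 := by
          intro d hd hdd
          rcases hprimes d hd (hdd.trans h2) with h | h
          · exact h
          · exact absurd (h ▸ hdd) h1
        have h5 := Nat.eq_prime_pow_of_unique_prime_dvd (P : Subgroup G).index_ne_zero_of_finite h3
        obtain ⟨k, hk⟩ : ∃ k, (P : Subgroup G).index = 2 ^ k := ⟨_, h5⟩
        have hk1 : k < 2 := by
          by_contra hge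
          push Not at hge
          apply h4
          rw [hk] at h2
          exact (pow_dvd_pow 2 hge).trans h2
        have hk0 : k ≠ 0 := by
          rintro rfl
          rw [pow_zero] at hk
          -- P = ⊤ so |G| is a power of p, but 2 ∣ |G|
          have htop : (P : Subgroup G) = ⊤ := Subgroup.index_eq_one.mp hk
          obtain ⟨j, hj⟩ := (IsPGroup.iff_card).mp P.2
          rw [htop, Subgroup.card_top] at hj
          rw [hj] at h2G
          have := Nat.Prime.dvd_of_dvd_pow Nat.prime_two h2G
          exact hp2 ((Nat.prime_dvd_prime_iff_eq Nat.prime_two hp).mp this).symm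
        have : k = 1 := by omega
        rw [hk, this, pow_one]
      have hPn : (P : Subgroup G).Normal := Subgroup.normal_of_index_eq_two hidx
      have htP : t ∉ (P : Subgroup G) := by
        intro htP
        obtain ⟨j, hj⟩ := (IsPGroup.iff_orderOf.mp P.2) ⟨t, htP⟩
        rw [Subgroup.orderOf_mk, ht] at hj
        have : p ∣ 2 := by
          rcases Nat.eq_zero_or_pos j with h0 | h0
          · rw [h0, pow_zero] at hj; omega
          · rw [hj]; exact dvd_pow_self p h0.ne'
        exact hp2 ((Nat.prime_dvd_prime_iff_eq hp Nat.prime_two).mp this)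
      have hdisj : Subgroup.zpowers t ⊓ (P : Subgroup G) = ⊥ := by
        apply disjoint_iff.mp
        apply Subgroup.disjoint_of_coprime_natCard
        rw [Nat.card_zpowers, ht]
        obtain ⟨j, hj⟩ := (IsPGroup.iff_card).mp P.2
        rw [hj]
        exact ((Nat.coprime_primes Nat.prime_two hp).mpr (Ne.symm hp2)).pow_right j
      have hsup : Subgroup.zpowers t ⊔ (P : Subgroup G) = ⊤ := by
        have hle : (P : Subgroup G) ≤ Subgroup.zpowers t ⊔ (P : Subgroup G) := le_sup_right
        have h1 : (Subgroup.zpowers t ⊔ (P : Subgroup G)).index ∣ 2 :=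
          hidx ▸ Subgroup.index_dvd_of_le hle
        rcases (Nat.dvd_prime Nat.prime_two).mp h1 with h2 | h2
        · exact Subgroup.index_eq_one.mp h2
        · exfalso
          apply htP
          have hcardeq : Nat.card ↥(Subgroup.zpowers t ⊔ (P : Subgroup G)) =
              Nat.card ↥(P : Subgroup G) := by
            have e1 := Subgroup.card_mul_index (Subgroup.zpowers t ⊔ (P : Subgroup G))
            have e2 := Subgroup.card_mul_index (P : Subgroup G)
            rw [h2] at e1
            rw [hidx] at e2
            omega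
          have heq : (P : Subgroup G) = Subgroup.zpowers t ⊔ (P : Subgroup G) :=
            Subgroup.eq_of_le_of_card_ge hle hcardeq.le
          rw [heq]
          exact (le_sup_left : Subgroup.zpowers t ≤ _) (Subgroup.mem_zpowers t)
      have hcomm : ∀ u ∈ Subgroup.zpowers t, ∀ w ∈ (P : Subgroup G), Commute u w := by
        intro u hu w _
        obtain ⟨k, rfl⟩ := Subgroup.mem_zpowers_iff.mp hu
        exact ((show Commute t w from (htc w).symm).zpow_left k)
      obtain ⟨e⟩ := nonempty_mulEquiv_prod_of_sup_eq_top hcomm hdisj hsup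
      -- the factors
      have hc2 : Nat.card ↥(Subgroup.zpowers t) = 2 := by rw [Nat.card_zpowers, ht]
      have hcz : Nat.card (Multiplicative (ZMod 2)) = 2 := by
        rw [Nat.card_eq_fintype_card]; rfl
      have : Fact (Nat.Prime 2) := ⟨Nat.prime_two⟩
      have e1 : ↥(Subgroup.zpowers t) ≃* Multiplicative (ZMod 2) := mulEquivOfPrimeCardEq hc2 hcz
      have e2 : ↥(P : Subgroup G) ≃* Shrink.{0} ↥(P : Subgroup G) := Shrink.mulEquiv.symm
      refine ⟨p, Shrink.{0} ↥(P : Subgroup G), inferInstance, inferInstance, hp, hp2, ?_, ?_,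
        ⟨e.trans (MulEquiv.prodCongr e1 e2)⟩⟩
      · exact P.2.of_equiv e2
      · -- exponent
        have hpow : ∀ x : Shrink.{0} ↥(P : Subgroup G), x ^ p = 1 := by
          intro x
          obtain ⟨y, rfl⟩ := e2.surjective x
          rw [← map_pow]
          have : y ^ p = 1 := by
            obtain ⟨j, hj⟩ := (IsPGroup.iff_orderOf.mp P.2) y
            have hj' : orderOf (y : G) = p ^ j := by rw [← hj, Subgroup.orderOf_coe]
            have hj1 := hexp (y : G) j hj'
            have : orderOf y ∣ p := by
              rw [hj]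
              exact (pow_dvd_pow p hj1).trans (by rw [pow_one])
            exact orderOf_dvd_iff_pow_eq_one.mp this
          rw [this, map_one]
        have h1 : Monoid.exponent (Shrink.{0} ↥(P : Subgroup G)) ∣ p :=
          Monoid.exponent_dvd_of_forall_pow_eq_one hpow
        rcases (Nat.dvd_prime hp).mp h1 with h2 | h2
        · exfalso
          rw [Monoid.exp_eq_one_iff] at h2
          have hsub : Subsingleton ↥(P : Subgroup G) := e2.toEquiv.subsingleton
          have hbot : (P : Subgroup G) = ⊥ := Subgroup.eq_bot_of_subsingleton _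
          rw [hbot, Subgroup.index_bot] at hidx
          -- |G| = 2 contradicts p ∣ |G|
          rw [hidx] at hpG
          exact hp2 ((Nat.prime_dvd_prime_iff_eq hp Nat.prime_two).mp hpG)
        · exact h2
  · -- Case A : every nontrivial order has `n` elements
    left
    push Not at hB
    have hA : ∀ g : G, g ≠ 1 → sCount G (orderOf g) = n := by
      intro g hg
      by_cases hd : orderOf g ∣ 2
      · rcases (Nat.dvd_prime Nat.prime_two).mp hd with h1 | h1
        · exact absurd (orderOf_eq_one_iff.mp h1) hg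
        · rcases hmem g with h2 | h2
          · rw [h1] at h2
            exact absurd h2 (hB g h1)
          · exact h2
      · exact hbig g hd
    have hAp : ∀ p : ℕ, p.Prime → p ∣ Nat.card G → sCount G p = n := by
      intro p hp hd
      obtain ⟨y, hy⟩ := hcauchy p hp hd
      have hy1 : y ≠ 1 := by
        rintro rfl
        rw [orderOf_one] at hy
        exact hp.one_lt.ne hy
      have := hA y hy1
      rwa [hy] at this
    obtain ⟨p, hp, hpG⟩ := Nat.exists_prime_and_dvd hcard1.ne'
    have : Fact p.Prime := ⟨hp⟩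
    have hsp := hAp p hp hpG
    have hprimes : ∀ {q : ℕ}, q.Prime → q ∣ Nat.card G → q = p := by
      intro q hq hqG
      by_contra hne
      have hsq := hAp q hq hqG
      have hpq : p * q ∣ Nat.card G :=
        ((Nat.coprime_primes hp hq).mpr (Ne.symm hne)).mul_dvd_of_dvd_of_dvd hpG hqG
      have hnd : ¬ p * q ∣ 2 := by
        intro hd2
        have h1 := Nat.le_of_dvd (by norm_num) hd2
        have h2 : 2 * 2 ≤ p * q := Nat.mul_le_mul hp.two_le hq.two_le
        omega
      have h1 := lemma_pq hp hq (Ne.symm hne) hpq hsp hsq (hval (p * q) hnd)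
      have hqp : q * p ∣ Nat.card G := by rwa [mul_comm]
      have h2 := lemma_pq hq hp hne hqp hsq hsp (by rw [mul_comm]; exact hval (p * q) hnd)
      exact hne (h2.trans h1.symm)
    have hcardpow := Nat.eq_prime_pow_of_unique_prime_dvd Nat.card_pos.ne' hprimes
    have hGp : IsPGroup p G := IsPGroup.of_card hcardpow
    have hexp : ∀ x : G, x ^ p = 1 := by
      intro x
      obtain ⟨j, hj⟩ := (IsPGroup.iff_orderOf.mp hGp) x
      have hj1 : j ≤ 1 := by
        by_contra hj2
        push Not at hj2
        obtain ⟨y, hy⟩ := exists_orderOf_eq_sq hp x hj hj2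
        have hp2G : p ^ 2 ∣ Nat.card G := hy ▸ orderOf_dvd_natCard y
        have hy1 : y ≠ 1 := by
          rintro rfl
          rw [orderOf_one] at hy
          have : 1 < p ^ 2 := Nat.one_lt_pow (by norm_num) hp.one_lt
          omega
        have hsp2 : sCount G (p ^ 2) = n := by
          have := hA y hy1
          rwa [hy] at this
        exact lemma_p2 hp hp2G hsp hsp2
      have : orderOf x ∣ p := by
        rw [hj]
        exact (pow_dvd_pow p hj1).trans (by rw [pow_one])
      exact orderOf_dvd_iff_pow_eq_one.mp this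
    refine ⟨p, hp, hGp, ?_, ?_⟩
    · have hc := card_eq_of_exponent hp hexp
      rw [hsp] at hc
      have hn0 : n ≠ 0 := by
        intro h0
        rw [h0] at hc
        omega
      omega
    · have h1 : Monoid.exponent G ∣ p := Monoid.exponent_dvd_of_forall_pow_eq_one hexp
      rcases (Nat.dvd_prime hp).mp h1 with h2 | h2
      · exfalso
        rw [Monoid.exp_eq_one_iff] at h2
        exact not_subsingleton G h2
      · exact h2

end Cfsg.Agent.S3995
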