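import Cfsg.Statements.S3997
import Mathlib
-- import your own Cfsg.Agent.* helpers here

set_option autoImplicit false
open Cfsg

namespace Cfsg.Agent.S3997

theorem mem_sylow_of_normal_of_pow_eq_one {G : Type*} [Group G] [Finite G] {p : ℕ} [Fact p.Prime]
    (P : Sylow p G) (hP : (P : Subgroup G).Normal) (g : G) (k : ℕ) (hg : g ^ p ^ k = 1) :
    g ∈ (P : Subgroup G) := by
  have hgp : IsPGroup p (Subgroup.zpowers g) := by
    apply IsPGroup.of_card_dvd_pow (n := k)
    rw [Nat.card_zpowers]
    exact orderOf_dvd_of_pow_eq_one hg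
  obtain ⟨Q, hQ⟩ := hgp.exists_le_sylow
  have := Sylow.unique_of_normal P hP
  rw [Subsingleton.elim P Q]
  exact hQ (Subgroup.mem_zpowers g)

theorem card_pow_eq_one_eq_sum {G : Type*} [Group G] [Finite G] (n : ℕ) (hn : n ≠ 0) :
    Nat.card {g : G // g ^ n = 1} = ∑ m ∈ n.divisors, Nat.card {g : G // orderOf g = m} := by
  classical
  have := Fintype.ofFinite G
  have h := sum_card_orderOf_eq_card_pow_eq_one (G := G) hn
  simp only [Nat.card_eq_fintype_card, Fintype.card_subtype]
  exact h.symm

theorem card_pow_eq_one_congr {G H : Type*} [Group G] [Finite G] [Group H] [Finite H]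
    (hT : ∀ m : ℕ, Nat.card {g : G // orderOf g = m} = Nat.card {h : H // orderOf h = m})
    (n : ℕ) (hn : n ≠ 0) :
    Nat.card {g : G // g ^ n = 1} = Nat.card {h : H // h ^ n = 1} := by
  rw [card_pow_eq_one_eq_sum n hn, card_pow_eq_one_eq_sum n hn]
  exact Finset.sum_congr rfl (fun m _ => hT m)

theorem card_eq_of_same_order_type {G H : Type*} [Group G] [Finite G] [Group H] [Finite H]
    (hT : ∀ m : ℕ, Nat.card {g : G // orderOf g = m} = Nat.card {h : H // orderOf h = m}) :
    Nat.card G = Nat.card H := by
  have hn : Nat.card G * Nat.card H ≠ 0 := Nat.mul_ne_zero Nat.card_pos.ne' Nat.card_pos.ne'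
  have h := card_pow_eq_one_congr hT _ hn
  have hG : ∀ g : G, g ^ (Nat.card G * Nat.card H) = 1 := by
    intro g; rw [pow_mul, pow_card_eq_one', one_pow]
  have hH : ∀ g : H, g ^ (Nat.card G * Nat.card H) = 1 := by
    intro g; rw [mul_comm, pow_mul, pow_card_eq_one', one_pow]
  rw [Nat.card_congr (Equiv.subtypeUnivEquiv hG), Nat.card_congr (Equiv.subtypeUnivEquiv hH)] at h
  exact h

/-- Let G and H be finite groups with the same order type: for every m they have the same number of elements of order m. If G is nilpotent then so is H. -/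
theorem result {G H : Type*} [Group G] [Finite G] [Group H] [Finite H] (hT : (∀ m : ℕ, Nat.card {g : G // orderOf g = m} = Nat.card {h : H // orderOf h = m})) (hG : Group.IsNilpotent G) :
    Group.IsNilpotent H := by
  have hcard := card_eq_of_same_order_type hT
  apply (Group.isNilpotent_of_finite_tfae.out 0 3 rfl rfl).mpr
  intro p hp Q
  have hp' : p.Prime := hp.out
  set v := (Nat.card H).factorization p with hv
  -- every Sylow p-subgroup of H has carrier the set of solutions of h^(p^v) = 1
  have key : ∀ Q' : Sylow p H, ((Q' : Subgroup H) : Set H) = {h : H | h ^ (p ^ v) = 1} := by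
    intro Q'
    have hQcard : Nat.card Q' = p ^ v := Sylow.card_eq_multiplicity Q'
    have hsub : ((Q' : Subgroup H) : Set H) ⊆ {h : H | h ^ (p ^ v) = 1} := by
      intro h hh
      have : (⟨h, hh⟩ : (Q' : Subgroup H)) ^ Nat.card Q' = 1 := pow_card_eq_one'
      rw [hQcard] at this
      exact congrArg Subtype.val this
    apply Set.eq_of_subset_of_ncard_le hsub _ (Set.toFinite _)
    -- count in G
    let P : Sylow p G := default
    have hPn : (P : Subgroup G).Normal := inferInstance
    have hPcard : Nat.card P = p ^ v := by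
      rw [hv, ← hcard]; exact Sylow.card_eq_multiplicity P
    have hGset : {g : G | g ^ (p ^ v) = 1} ⊆ ((P : Subgroup G) : Set G) :=
      fun g hg => mem_sylow_of_normal_of_pow_eq_one P hPn g v hg
    have h1 : {g : G | g ^ (p ^ v) = 1}.ncard ≤ p ^ v := by
      have h0 := Set.ncard_le_ncard hGset (Set.toFinite _)
      have h00 : ((P : Subgroup G) : Set G).ncard = p ^ v := by
        rw [← hPcard]; exact (Nat.card_coe_set_eq _).symm
      rwa [h00] at h0
    have h2 : {h : H | h ^ (p ^ v) = 1}.ncard = {g : G | g ^ (p ^ v) = 1}.ncard := by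
      have := card_pow_eq_one_congr hT (p ^ v) (pow_pos hp'.pos v).ne'
      rw [← Nat.card_coe_set_eq, ← Nat.card_coe_set_eq]
      exact this.symm
    rw [h2]
    refine h1.trans ?_
    rw [← hQcard]
    exact le_of_eq (Nat.card_coe_set_eq _).symm
  have hsub : Subsingleton (Sylow p H) := by
    constructor
    intro Q1 Q2
    apply Sylow.ext
    apply SetLike.coe_injective
    rw [key Q1, key Q2]
  exact Sylow.normal_of_subsingleton Q

end Cfsg.Agent.S3997
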