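import Cfsg.Statements.S3999
import Cfsg.Agent.Lib.Helper11.FrobOTA
import Cfsg.Agent.Lib.Helper11.FrobOTE
import Cfsg.Agent.Lib.Helper11.FrobOTF

set_option autoImplicit false
open Cfsg

namespace Cfsg.Agent.S3999

open Cfsg.Agent.Lib.Helper11.FrobOT in
/-- one direction of the solvability transfer -/
theorem solvable_transfer {F G : Type*} [Group F] [Finite F] [Group G] [Finite G]
    (D : FD F) (D' : FD G) (e : F ≃ G) (he : ∀ x, orderOf (e x) = orderOf x)
    (hc : Nat.card D'.C = Nat.card D.C) (hs : Group.IsSolvable G) : Group.IsSolvable F := by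
  rw [D.isSolvable_iff]
  rw [D'.isSolvable_iff] at hs
  by_contra hns
  obtain ⟨h1, t, ht, htc⟩ := D.nonsolvable_complement hns
  obtain ⟨y, hy⟩ := exists_orderOf_fifteen_of_solvable hs t (hc.trans ht) htc
  have h2 : ∃ y ∈ D'.C, orderOf y = 15 :=
    ⟨(y : G), y.2, by rw [Subgroup.orderOf_coe]; exact hy⟩
  obtain ⟨x, hx, hx15⟩ := D.exists_fifteen_transfer D' e he hc h2
  exact h1 x hx hx15

/-- Let F be a finite Frobenius group (it has a Frobenius complement) and G a finite group with the same order type as F (for every m the same number of elements of order m). Then G is a Frobenius group; moreover G is solvable if and only if F is. -/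
theorem result {F G : Type*} [Group F] [Finite F] [Group G] [Finite G] (hF : (∃ C : Subgroup F, Cfsg.IsFrobeniusComplement C)) (hT : (∀ m : ℕ, Nat.card {g : F // orderOf g = m} = Nat.card {h : G // orderOf h = m})) :
    (∃ C : Subgroup G, Cfsg.IsFrobeniusComplement C) ∧ (Group.IsSolvable G ↔ Group.IsSolvable F) := by
  obtain ⟨C, hC⟩ := hF
  obtain ⟨D, -⟩ := Cfsg.Agent.Lib.Helper11.FrobOT.exists_FD_of C hC
  obtain ⟨e, he⟩ := Cfsg.Agent.Lib.Helper11.FrobOT.exists_orderEquiv hT
  obtain ⟨D', hD'⟩ := Cfsg.Agent.Lib.Helper11.FrobOT.exists_FD_of_orderEquiv D e he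
  refine ⟨⟨D'.C, D'.hC⟩, ?_, ?_⟩
  · exact solvable_transfer D D' e he hD'
  · have he' : ∀ y : G, orderOf (e.symm y) = orderOf y := fun y => by
      have := he (e.symm y)
      rw [e.apply_symm_apply] at this
      exact this.symm
    exact solvable_transfer D' D e.symm he' hD'.symm

end Cfsg.Agent.S3999
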