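import Cfsg.Statements.S4002
import Mathlib
import Cfsg.Agent.Lib.Helper19.SolvGraph2
-- import your own Cfsg.Agent.* helpers here

set_option autoImplicit false
open Cfsg

namespace Cfsg.Agent.S4002

open Cfsg.Agent.Lib.Helper19
/-- three primes up to `n` with pairwise products exceeding `n` -/
theorem exists_three_primes (n : ℕ) (hn : 7 ≤ n) :
    ∃ p q r : ℕ, p.Prime ∧ q.Prime ∧ r.Prime ∧ p < q ∧ q < r ∧ r ≤ n ∧ n < p * q := by
  rcases Nat.lt_or_ge n 15 with h1 | h1
  · exact ⟨3, 5, 7, by norm_num, by norm_num, by norm_num, by norm_num, by norm_num, hn, by omega⟩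
  rcases Nat.lt_or_ge n 35 with h2 | h2
  · exact ⟨5, 7, 11, by norm_num, by norm_num, by norm_num, by norm_num, by norm_num, by omega, by omega⟩
  set a := n / 8 with ha
  have ha4 : 4 ≤ a := by omega
  have han : 8 * a ≤ n := by omega
  have han' : n < 8 * a + 8 := by omega
  obtain ⟨p, hp, hp1, hp2⟩ := Nat.exists_prime_lt_and_le_two_mul a (by omega)
  obtain ⟨q, hq, hq1, hq2⟩ := Nat.exists_prime_lt_and_le_two_mul (2 * a) (by omega)
  obtain ⟨r, hr, hr1, hr2⟩ := Nat.exists_prime_lt_and_le_two_mul (4 * a) (by omega)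
  refine ⟨p, q, r, hp, hq, hr, by omega, by omega, by omega, ?_⟩
  have h3 : (a + 1) * (2 * a + 1) ≤ p * q := Nat.mul_le_mul (by omega) (by omega)
  nlinarith

/-- If the set of element orders of a finite group G is {1, 2, …, n} with n ≥ 7, then G is not solvable. -/
theorem result {G : Type*} [Group G] [Finite G] (n : ℕ) (hn : 7 ≤ n) (h : Set.range (orderOf : G → ℕ) = {k : ℕ | 1 ≤ k ∧ k ≤ n}) : ¬ Group.IsSolvable G := by
  intro hsol
  obtain ⟨p, q, r, hp, hq, hr, hpq, hqr, hrn, hnpq⟩ := exists_three_primes n hn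
  have hmem : ∀ k : ℕ, 1 ≤ k → k ≤ n → ∃ g : G, orderOf g = k := by
    intro k h1 h2
    have : k ∈ Set.range (orderOf : G → ℕ) := by rw [h]; exact ⟨h1, h2⟩
    exact this
  have hle : ∀ g : G, orderOf g ≤ n := by
    intro g
    have : orderOf g ∈ {k : ℕ | 1 ≤ k ∧ k ≤ n} := by rw [← h]; exact Set.mem_range_self g
    exact this.2
  have hdvd : ∀ k : ℕ, 1 ≤ k → k ≤ n → k ∣ Nat.card G := by
    intro k h1 h2
    obtain ⟨g, hg⟩ := hmem k h1 h2
    rw [← hg]; exact orderOf_dvd_natCard g
  have hsolK : Group.IsSolvable (⊤ : Subgroup G) := inferInstance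
  have hpq' : p ≠ q := by omega
  have key := solvable_normal_one_prime (G := G) ({p, q, r} : Finset ℕ) (by
      rw [Finset.card_insert_of_notMem, Finset.card_insert_of_notMem, Finset.card_singleton]
      · simp; omega
      · simp; omega)
    (by
      intro s hs
      simp only [Finset.mem_insert, Finset.mem_singleton] at hs
      rcases hs with rfl | rfl | rfl
      · exact ⟨hp, hdvd _ hp.one_lt.le (by omega)⟩
      · exact ⟨hq, hdvd _ hq.one_lt.le (by omega)⟩
      · exact ⟨hr, hdvd _ hr.one_lt.le (by omega)⟩)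
    (by
      intro s hs s' hs' hss'
      rintro ⟨x, hx⟩
      have h1 := hle x
      rw [hx] at h1
      simp only [Finset.mem_insert, Finset.mem_singleton] at hs hs'
      have hqr' : p * q < q * r := by
        have hq0 := hq.pos
        nlinarith
      have hpr' : p * q < p * r := Nat.mul_lt_mul_of_pos_left hqr hp.pos
      rcases hs with rfl | rfl | rfl <;> rcases hs' with rfl | rfl | rfl <;>
        first
          | exact hss' rfl
          | nlinarith)
    ⊤ hsolK p (by simp) q (by simp)
    (by rw [Subgroup.card_top]; exact hdvd _ hp.one_lt.le (by omega))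
    (by rw [Subgroup.card_top]; exact hdvd _ hq.one_lt.le (by omega))
  exact hpq' key

end Cfsg.Agent.S4002
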