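import Cfsg.Statements.S4005
import Mathlib
import Cfsg.Agent.Lib.Lead.CharBurnside
import Cfsg.Agent.Lib.Helper1.MinNormal
-- import your own Cfsg.Agent.* helpers here

set_option autoImplicit false
open Cfsg

namespace Cfsg.Agent.S4005

open Cfsg.Agent.CharLib Cfsg.Agent.Lib.Helper1
theorem eq_one_of_sq_cube {H : Type*} [Group H] {y : H} (h2 : y ^ 2 = 1) (h3 : y ^ 3 = 1) : y = 1 := by
  calc y = y ^ 3 * (y ^ 2)⁻¹ := by group
    _ = 1 := by rw [h3, h2]; simp

/-- an involution never commutes with an element of order three -/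
theorem not_commute_of_sq_cube {H : Type*} [Group H] (h23 : ∀ g : H, g ^ 2 = 1 ∨ g ^ 3 = 1)
    {s y : H} (hs : s ^ 2 = 1) (hs1 : s ≠ 1) (hy : y ^ 3 = 1) (hy1 : y ≠ 1) : ¬ Commute s y := by
  intro hc
  rcases h23 (s * y) with h | h
  · rw [hc.mul_pow, hs, one_mul] at h
    exact hy1 (eq_one_of_sq_cube h hy)
  · rw [hc.mul_pow, hy, mul_one] at h
    exact hs1 (eq_one_of_sq_cube hs h)

/-- involutions invert normal subgroups of exponent three -/
theorem conj_eq_inv_of_normal_cube {H : Type*} [Group H] (h23 : ∀ g : H, g ^ 2 = 1 ∨ g ^ 3 = 1)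
    (N : Subgroup H) [hNn : N.Normal] (hN : ∀ n ∈ N, n ^ 3 = 1) {t : H} (ht : t ^ 2 = 1) (ht1 : t ≠ 1)
    {n : H} (hn : n ∈ N) : t * n * t⁻¹ = n⁻¹ := by
  have htt : t * t = 1 := by rw [← pow_two]; exact ht
  have htinv : t⁻¹ = t := inv_eq_of_mul_eq_one_left htt
  rw [htinv]
  rcases h23 (t * n) with h | h
  · rw [pow_two] at h
    have : t * n * t * n = 1 := by simpa [mul_assoc] using h
    exact eq_inv_of_mul_eq_one_left this
  · exfalso
    have h1 : (t * n) ^ 3 = (t * n * t) * n * (t * n * t) * t := by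
      simp only [pow_succ, pow_zero, one_mul, mul_assoc, htt, mul_one]
    have hc : t * n * t ∈ N := by
      have := hNn.conj_mem n hn t
      rwa [htinv] at this
    have h2 : (t * n * t) * n * (t * n * t) ∈ N := N.mul_mem (N.mul_mem hc hn) hc
    have h3 : t = ((t * n * t) * n * (t * n * t))⁻¹ := by
      rw [h1] at h
      exact eq_inv_of_mul_eq_one_right h
    have h4 : t ∈ N := by rw [h3]; exact N.inv_mem h2
    exact ht1 (eq_one_of_sq_cube ht (hN t h4))

/-- groups with element orders in {1,2,3} having a nontrivial normal subgroup of exponent three -/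
theorem structure_of_normal_cube {H : Type*} [Group H] (h23 : ∀ g : H, g ^ 2 = 1 ∨ g ^ 3 = 1)
    (N : Subgroup H) [hNn : N.Normal] (hN1 : N ≠ ⊥) (hN : ∀ n ∈ N, n ^ 3 = 1) :
    (∀ g : H, g ^ 3 = 1) ∨ ∃ K : Subgroup H, K.Normal ∧ K.index = 2 ∧ (∀ k ∈ K, k ^ 3 = 1) ∧
      (∀ a ∈ K, ∀ b ∈ K, a * b = b * a) := by
  by_cases hinv : ∀ g : H, g ^ 2 = 1 → g = 1
  · left
    intro g
    rcases h23 g with h | h
    · rw [hinv g h]; simp
    · exact h
  right
  push Not at hinv
  obtain ⟨t, ht, ht1⟩ := hinv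
  obtain ⟨n₀, hn₀, hn₀1⟩ : ∃ n₀ ∈ N, n₀ ≠ 1 := by
    by_contra hcon
    push Not at hcon
    exact hN1 ((Subgroup.eq_bot_iff_forall N).mpr hcon)
  set K := Subgroup.centralizer (N : Set H) with hK
  have hKn : K.Normal := Subgroup.normal_centralizer
  -- (a)
  have ha : ∀ k ∈ K, k ^ 3 = 1 := by
    intro k hk
    rcases h23 k with h | h
    · by_cases hk1 : k = 1
      · rw [hk1]; simp
      · exfalso
        apply not_commute_of_sq_cube h23 h hk1 (hN n₀ hn₀) hn₀1
        exact (Subgroup.mem_centralizer_iff.mp hk n₀ hn₀).symm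
    · exact h
  have htK : ∀ s : H, s ^ 2 = 1 → s ≠ 1 → s ∉ K := by
    intro s hs hs1 hsK
    exact hs1 (eq_one_of_sq_cube hs (ha s hsK))
  -- (b)
  have hb : ∀ s u : H, s ^ 2 = 1 → s ≠ 1 → u ^ 2 = 1 → u ≠ 1 → s * u ∈ K := by
    intro s u hs hs1 hu hu1
    rw [hK, Subgroup.mem_centralizer_iff]
    intro n hn
    have h1 := conj_eq_inv_of_normal_cube h23 N hN hu hu1 hn
    have h2 := conj_eq_inv_of_normal_cube h23 N hN hs hs1 (N.inv_mem hn)
    rw [inv_inv] at h2
    -- n * (s*u) = (s*u) * n  ⇐ s u n u⁻¹ s⁻¹ = n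
    have h3 : s * u * n * (s * u)⁻¹ = n := by
      rw [mul_inv_rev]
      calc s * u * n * (u⁻¹ * s⁻¹) = s * (u * n * u⁻¹) * s⁻¹ := by group
        _ = n := by rw [h1, h2]
    calc n * (s * u) = (s * u * n * (s * u)⁻¹) * (s * u) := by rw [h3]
      _ = s * u * n := by group
  have htt : t * t = 1 := by rw [← pow_two]; exact ht
  have htinv : t⁻¹ = t := inv_eq_of_mul_eq_one_left htt
  -- (c)
  have hc : ∀ g : H, g ^ 3 = 1 → g ∈ K := by
    intro g hg
    rcases h23 (g * t) with h | h
    · by_cases hgt : g * t = 1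
      · have : g = t := by rw [← htinv]; exact eq_inv_of_mul_eq_one_left hgt
        rw [this] at hg
        exact absurd (eq_one_of_sq_cube ht hg) ht1
      · have := hb (g * t) t h hgt ht ht1
        rwa [mul_assoc, htt, mul_one] at this
    · exfalso
      -- c := g t g⁻¹ t ∈ K
      have hgt2 : (g * t * g⁻¹) ^ 2 = 1 := by
        rw [pow_two]
        calc g * t * g⁻¹ * (g * t * g⁻¹) = g * (t * t) * g⁻¹ := by group
          _ = 1 := by rw [htt]; group
      have hgt1 : g * t * g⁻¹ ≠ 1 := by
        intro h0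
        apply ht1
        calc t = g⁻¹ * (g * t * g⁻¹) * g := by group
          _ = 1 := by rw [h0]; group
      have hcK := hb (g * t * g⁻¹) t hgt2 hgt1 ht ht1
      -- t = g c g⁻¹
      have hg2 : g⁻¹ = g * g := by
        have : g * g * g = 1 := by rw [← hg]; simp [pow_succ]
        exact inv_eq_of_mul_eq_one_right (by rw [← mul_assoc]; exact this)
      have h1 : (g * t) ^ 3 = g * t * g * t * g * t := by simp [pow_succ, mul_assoc]
      rw [h1] at h
      -- t = g * (g t g⁻¹ t) * g⁻¹ ?
      have h2 : t = g * (g * t * g⁻¹ * t) * g⁻¹ := by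
        -- from g t g t g t = 1: t = (g t g t g)⁻¹ ... compute
        have h3 : g * t * g * t * g = t⁻¹ := eq_inv_of_mul_eq_one_left h
        rw [htinv] at h3
        -- g*(g t g⁻¹ t) g⁻¹ = g g t g⁻¹ t g⁻¹ = g⁻¹ t g⁻¹ t g⁻¹
        -- inverse of (g t g t g) = g⁻¹ t⁻¹ g⁻¹ t⁻¹ g⁻¹ = g⁻¹ t g⁻¹ t g⁻¹
        have h4 : (g * t * g * t * g)⁻¹ = g⁻¹ * t * g⁻¹ * t * g⁻¹ := by
          simp only [mul_inv_rev, htinv, mul_assoc]
        rw [h3, htinv] at h4
        calc t = g⁻¹ * t * g⁻¹ * t * g⁻¹ := h4
          _ = (g * g) * t * g⁻¹ * t * g⁻¹ := by rw [← hg2]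
          _ = g * (g * t * g⁻¹ * t) * g⁻¹ := by group
      have h5 : t ∈ K := by
        rw [h2]
        exact hKn.conj_mem _ hcK g
      exact htK t ht ht1 h5
  refine ⟨K, hKn, ?_, ha, ?_⟩
  · rw [Subgroup.index_eq_two_iff]
    refine ⟨t, fun b => ?_⟩
    rcases h23 b with h | h
    · by_cases hb1 : b = 1
      · right
        rw [hb1, one_mul]
        exact ⟨K.one_mem, htK t ht ht1⟩
      · left
        exact ⟨hb b t h hb1 ht ht1, htK b h hb1⟩
    · right
      refine ⟨hc b h, fun hbt => ?_⟩
      apply htK t ht ht1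
      have := K.mul_mem (K.inv_mem (hc b h)) hbt
      rwa [inv_mul_cancel_left] at this
  · intro a haK b hbK
    have h1 := conj_eq_inv_of_normal_cube h23 K ha ht ht1 haK
    have h2 := conj_eq_inv_of_normal_cube h23 K ha ht ht1 hbK
    have h3 := conj_eq_inv_of_normal_cube h23 K ha ht ht1 (K.mul_mem haK hbK)
    have h4 : t * (a * b) * t⁻¹ = (t * a * t⁻¹) * (t * b * t⁻¹) := by group
    rw [h3, h1, h2, mul_inv_rev] at h4
    have := congrArg (fun z => z⁻¹) h4
    simpa using this

theorem comm_of_sq {H : Type*} [Group H] (S : Subgroup H) (hS : ∀ s ∈ S, s ^ 2 = 1) :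
    ∀ a ∈ S, ∀ b ∈ S, a * b = b * a := by
  have hinv : ∀ s ∈ S, s⁻¹ = s := fun s hs =>
    inv_eq_of_mul_eq_one_left (by rw [← pow_two]; exact hS s hs)
  intro a ha b hb
  have h1 := hinv (a * b) (S.mul_mem ha hb)
  rw [mul_inv_rev, hinv a ha, hinv b hb] at h1
  exact h1.symm

/-- the relation `1 + c + c² = 0` for an element of order three acting on a normal 2-subgroup -/
theorem cube_identity {H : Type*} [Group H] (h23 : ∀ g : H, g ^ 2 = 1 ∨ g ^ 3 = 1)
    (V : Subgroup H) [hVn : V.Normal] (hV : ∀ v ∈ V, v ^ 2 = 1) {c : H} (hc : c ^ 3 = 1) (hc1 : c ≠ 1)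
    {v : H} (hv : v ∈ V) : (c * v * c⁻¹) * (c * (c * v * c⁻¹) * c⁻¹) * v = 1 := by
  have hccc : c * c * c = 1 := by rw [← hc]; simp [pow_succ]
  rcases h23 (c * v) with h | h
  · exfalso
    rw [pow_two] at h
    have h1 : c * c = ((c⁻¹ * v * c) * v)⁻¹ := by
      apply eq_inv_of_mul_eq_one_left
      calc c * c * (c⁻¹ * v * c * v) = c * v * (c * v) := by group
        _ = 1 := h
    have h2 : c * c ∈ V := by
      rw [h1]
      apply V.inv_mem
      apply V.mul_mem _ hv
      have := hVn.conj_mem v hv c⁻¹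
      rwa [inv_inv] at this
    have h3 := hV _ h2
    apply hc1
    calc c = (c * c) * (c * c) * (c * c * c)⁻¹ := by group
      _ = 1 := by rw [← pow_two, h3, hccc]; simp
  · have h0 : (c * v) ^ 3 = (c * v) * (c * v) * (c * v) := by simp [pow_succ]
    have h1 : (c * v) * (c * v) * (c * v) =
        (c * v * c⁻¹) * (c * (c * v * c⁻¹) * c⁻¹) * ((c * c * c) * v * (c * c * c)⁻¹) *
        (c * c * c) := by group
    rw [h0, h1, hccc] at h
    simpa using h

theorem comm_aux {W : Type*} [CommGroup W] (hsq : ∀ w : W, w * w = 1) (α β : MulAut W)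
    (hαβ : ∀ w, α (β w) = β (α w))
    (Ia : ∀ w, α w * α (α w) * w = 1) (Ib : ∀ w, β w * β (β w) * w = 1)
    (Iab : ∀ w, α (β w) * α (β (α (β w))) * w = 1) (w : W) : α w = β w := by
  have hinv : ∀ u : W, u⁻¹ = u := fun u => inv_eq_of_mul_eq_one_left (hsq u)
  have Ea : ∀ u, α (α u) = α u * u := by
    intro u
    calc α (α u) = (α u)⁻¹ * (α u * α (α u) * u) * u⁻¹ := by group
      _ = α u * u := by rw [Ia u, hinv, hinv, mul_one]
  have Eb : ∀ u, β (β u) = β u * u := by
    intro u
    calc β (β u) = (β u)⁻¹ * (β u * β (β u) * u) * u⁻¹ := by group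
      _ = β u * u := by rw [Ib u, hinv, hinv, mul_one]
  have h1 : α (β (α (β w))) = (α (β w) * β w) * (α w * w) := by
    rw [← hαβ (β w), Eb, map_mul, map_mul, Ea, Ea]
  have h2 := Iab w
  rw [h1] at h2
  have h3 : α (β w) * ((α (β w) * β w) * (α w * w)) * w =
      (α (β w) * α (β w)) * ((w * w) * (β w * α w)) := by ac_rfl
  rw [h3, hsq, hsq, one_mul, one_mul] at h2
  calc α w = (β w)⁻¹ * (β w * α w) := by group
    _ = β w := by rw [h2, hinv, mul_one]

open scoped IsMulCommutative in
/-- two distinct commuting subgroups of order three cannot act freely on a normal 2-subgroup -/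
theorem no_rank_two {H : Type*} [Group H] (h23 : ∀ g : H, g ^ 2 = 1 ∨ g ^ 3 = 1)
    (V : Subgroup H) [hVn : V.Normal] (hV1 : V ≠ ⊥) (hV : ∀ v ∈ V, v ^ 2 = 1) {a b : H}
    (ha : a ^ 3 = 1) (hb : b ^ 3 = 1) (hab : a * b = b * a) (ha1 : a ≠ 1) (hb1 : b ≠ 1)
    (hne : a ≠ b) (hne' : a * b ≠ 1) : False := by
  have hcomm := comm_of_sq V hV
  have hVc : IsMulCommutative V := ⟨⟨fun u w => Subtype.ext (hcomm u u.2 w w.2)⟩⟩
  have hab3 : (a * b) ^ 3 = 1 := by
    rw [(show Commute a b from hab).mul_pow, ha, hb, one_mul]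
  have key : ∀ w : V, MulAut.conjNormal a w = MulAut.conjNormal b w := by
    apply comm_aux (W := V)
    · intro w
      apply Subtype.ext
      rw [Subgroup.coe_mul, Subgroup.coe_one, ← pow_two]
      exact hV w w.2
    · intro w
      apply Subtype.ext
      simp only [MulAut.conjNormal_apply]
      calc a * (b * w * b⁻¹) * a⁻¹ = (a * b) * w * (a * b)⁻¹ := by group
        _ = (b * a) * w * (b * a)⁻¹ := by rw [hab]
        _ = b * (a * w * a⁻¹) * b⁻¹ := by group
    · intro w
      apply Subtype.ext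
      simp only [Subgroup.coe_mul, MulAut.conjNormal_apply, Subgroup.coe_one]
      exact cube_identity h23 V hV ha ha1 w.2
    · intro w
      apply Subtype.ext
      simp only [Subgroup.coe_mul, MulAut.conjNormal_apply, Subgroup.coe_one]
      exact cube_identity h23 V hV hb hb1 w.2
    · intro w
      apply Subtype.ext
      simp only [Subgroup.coe_mul, MulAut.conjNormal_apply, Subgroup.coe_one]
      have := cube_identity h23 V hV hab3 hne' w.2
      calc a * (b * w * b⁻¹) * a⁻¹ * (a * (b * (a * (b * w * b⁻¹) * a⁻¹) * b⁻¹) * a⁻¹) * (w : H)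
          = (a * b) * w * (a * b)⁻¹ * ((a * b) * ((a * b) * w * (a * b)⁻¹) * (a * b)⁻¹) * w := by group
        _ = 1 := this
  obtain ⟨v, hv, hv1⟩ : ∃ v ∈ V, v ≠ 1 := by
    by_contra hcon
    push Not at hcon
    exact hV1 ((Subgroup.eq_bot_iff_forall V).mpr hcon)
  have h1 := congrArg Subtype.val (key ⟨v, hv⟩)
  simp only [MulAut.conjNormal_apply] at h1
  -- a v a⁻¹ = b v b⁻¹
  have hcab : Commute a⁻¹ b := by
    show a⁻¹ * b = b * a⁻¹
    calc a⁻¹ * b = a⁻¹ * (b * a) * a⁻¹ := by group
      _ = a⁻¹ * (a * b) * a⁻¹ := by rw [hab]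
      _ = b * a⁻¹ := by group
  have h3 : (a⁻¹ * b) ^ 3 = 1 := by
    rw [hcab.mul_pow, hb, inv_pow, ha]; simp
  have h4 : a⁻¹ * b ≠ 1 := by
    intro h0
    apply hne
    calc a = a * (a⁻¹ * b) := by rw [h0, mul_one]
      _ = b := by group
  apply not_commute_of_sq_cube h23 (hV v hv) hv1 h3 h4
  show v * (a⁻¹ * b) = (a⁻¹ * b) * v
  calc v * (a⁻¹ * b) = a⁻¹ * (a * v * a⁻¹) * b := by group
    _ = a⁻¹ * (b * v * b⁻¹) * b := by rw [h1]
    _ = a⁻¹ * b * v := by group

/-- A finite group whose set of element orders is exactly {1, 2, 3} has either a normal elementary abelian 3-subgroup of index 2 or a normal elementary abelian 2-subgroup of index 3. -/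
theorem result {G : Type*} [Group G] [Finite G] (h : Set.range (orderOf : G → ℕ) = {k : ℕ | 1 ≤ k ∧ k ≤ 3}) :
    (∃ N : Subgroup G, N.Normal ∧ Cfsg.IsElementaryAbelian 3 N ∧ N.index = 2) ∨
      (∃ N : Subgroup G, N.Normal ∧ Cfsg.IsElementaryAbelian 2 N ∧ N.index = 3) := by
  classical
  have hord : ∀ g : G, 1 ≤ orderOf g ∧ orderOf g ≤ 3 := by
    intro g
    have : orderOf g ∈ {k : ℕ | 1 ≤ k ∧ k ≤ 3} := by rw [← h]; exact Set.mem_range_self g
    exact this
  have h23 : ∀ g : G, g ^ 2 = 1 ∨ g ^ 3 = 1 := by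
    intro g
    obtain ⟨h1, h2⟩ := hord g
    have h3 := pow_orderOf_eq_one g
    interval_cases hh : orderOf g
    · left; rw [pow_one] at h3; rw [h3]; simp
    · left; exact h3
    · right; exact h3
  obtain ⟨t, ht⟩ : ∃ t : G, orderOf t = 2 := by
    have : (2 : ℕ) ∈ Set.range (orderOf : G → ℕ) := by rw [h]; constructor <;> norm_num
    exact this
  obtain ⟨x, hx⟩ : ∃ x : G, orderOf x = 3 := by
    have : (3 : ℕ) ∈ Set.range (orderOf : G → ℕ) := by rw [h]; constructor <;> norm_num
    exact this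
  have ht2 : t ^ 2 = 1 := by rw [← ht]; exact pow_orderOf_eq_one t
  have ht1 : t ≠ 1 := by
    intro h0; rw [h0, orderOf_one] at ht; norm_num at ht
  have hx3 : x ^ 3 = 1 := by rw [← hx]; exact pow_orderOf_eq_one x
  have hx1 : x ≠ 1 := by
    intro h0; rw [h0, orderOf_one] at hx; norm_num at hx
  -- solvability
  have hn0 : Nat.card G ≠ 0 := Nat.card_pos.ne'
  have hsupp : (Nat.card G).factorization.support ⊆ ({2, 3} : Finset ℕ) := by
    intro p hp
    rw [Nat.support_factorization, Nat.mem_primeFactors] at hp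
    obtain ⟨hpp, hpd, -⟩ := hp
    haveI := Fact.mk hpp
    obtain ⟨y, hy⟩ := exists_prime_orderOf_dvd_card' p hpd
    obtain ⟨h1, h2⟩ := hord y
    rw [hy] at h1 h2
    have h3 := hpp.two_le
    interval_cases p <;> simp
  have hcard : Nat.card G = 2 ^ ((Nat.card G).factorization 2) * 3 ^ ((Nat.card G).factorization 3) := by
    conv_lhs => rw [← Nat.factorization_prod_pow_eq_self hn0]
    rw [Finsupp.prod_of_support_subset _ hsupp _ (by simp)]
    simp
  haveI hsol : Group.IsSolvable G :=
    isSolvable_of_card_pq 2 3 _ _ Nat.prime_two Nat.prime_three hcard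
  haveI : Nontrivial G := ⟨⟨t, 1, ht1⟩⟩
  obtain ⟨N, hN⟩ := exists_isMinNormal (G := G)
  obtain ⟨p, hp, hNp⟩ := hN.exists_prime_pow_eq_one
  obtain ⟨hNn, hN1, -⟩ := hN
  obtain ⟨n₀, hn₀, hn₀1⟩ : ∃ n₀ ∈ N, n₀ ≠ 1 := by
    by_contra hcon
    push Not at hcon
    exact hN1 ((Subgroup.eq_bot_iff_forall N).mpr hcon)
  have hp23 : p = 2 ∨ p = 3 := by
    haveI := Fact.mk hp
    have h1 : orderOf n₀ = p := orderOf_eq_prime (hNp n₀ hn₀) hn₀1
    rcases h23 n₀ with h2 | h2
    · left
      have := orderOf_dvd_of_pow_eq_one h2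
      rw [h1] at this
      exact (Nat.prime_dvd_prime_iff_eq hp Nat.prime_two).mp this
    · right
      have := orderOf_dvd_of_pow_eq_one h2
      rw [h1] at this
      exact (Nat.prime_dvd_prime_iff_eq hp Nat.prime_three).mp this
  rcases hp23 with rfl | rfl
  swap
  · -- a normal 3-subgroup
    left
    rcases structure_of_normal_cube h23 N hN1 hNp with h3 | ⟨K, hKn, hidx, hK3, hKc⟩
    · exact absurd (eq_one_of_sq_cube ht2 (h3 t)) ht1
    · exact ⟨K, hKn, ⟨⟨⟨fun a b => Subtype.ext (hKc a a.2 b b.2)⟩⟩, hK3⟩, hidx⟩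
  · -- a normal 2-subgroup
    right
    set K := Subgroup.centralizer (N : Set G) with hK
    have hKn : K.Normal := Subgroup.normal_centralizer
    have hK2 : ∀ k ∈ K, k ^ 2 = 1 := by
      intro k hk
      rcases h23 k with h2 | h2
      · exact h2
      · by_cases hk1 : k = 1
        · rw [hk1]; simp
        · exfalso
          apply not_commute_of_sq_cube h23 (hNp n₀ hn₀) hn₀1 h2 hk1
          exact (Subgroup.mem_centralizer_iff.mp hk n₀ hn₀)
    have hNK : N ≤ K := by
      intro n hn
      rw [hK, Subgroup.mem_centralizer_iff]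
      intro m hm
      exact comm_of_sq N hNp m hm n hn
    have hKc := comm_of_sq K hK2
    have hxK : x ∉ K := by
      intro hxK
      exact hx1 (eq_one_of_sq_cube (hK2 x hxK) hx3)
    have hK1 : K ≠ ⊥ := by
      intro h0
      have := hNK hn₀
      rw [h0, Subgroup.mem_bot] at this
      exact hn₀1 this
    -- the quotient
    have h23Q : ∀ q : G ⧸ K, q ^ 2 = 1 ∨ q ^ 3 = 1 := by
      intro q
      induction q using QuotientGroup.induction_on with
      | H g =>
        rcases h23 g with h2 | h2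
        · left; rw [← QuotientGroup.mk_pow, h2]; rfl
        · right; rw [← QuotientGroup.mk_pow, h2]; rfl
    haveI : Nontrivial (G ⧸ K) := by
      refine ⟨⟨(x : G ⧸ K), 1, ?_⟩⟩
      intro h0
      exact hxK ((QuotientGroup.eq_one_iff x).mp h0)
    obtain ⟨A, hA⟩ := exists_isMinNormal (G := G ⧸ K)
    obtain ⟨p', hp', hAp⟩ := hA.exists_prime_pow_eq_one
    obtain ⟨hAn, hA1, -⟩ := hA
    obtain ⟨a₀, ha₀, ha₀1⟩ : ∃ a₀ ∈ A, a₀ ≠ 1 := by
      by_contra hcon
      push Not at hcon
      exact hA1 ((Subgroup.eq_bot_iff_forall A).mpr hcon)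
    have hp23' : p' = 2 ∨ p' = 3 := by
      haveI := Fact.mk hp'
      have h1 : orderOf a₀ = p' := orderOf_eq_prime (hAp a₀ ha₀) ha₀1
      rcases h23Q a₀ with h2 | h2
      · left
        have := orderOf_dvd_of_pow_eq_one h2
        rw [h1] at this
        exact (Nat.prime_dvd_prime_iff_eq hp' Nat.prime_two).mp this
      · right
        have := orderOf_dvd_of_pow_eq_one h2
        rw [h1] at this
        exact (Nat.prime_dvd_prime_iff_eq hp' Nat.prime_three).mp this
    rcases hp23' with rfl | rfl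
    · -- impossible: a bigger normal 2-subgroup
      exfalso
      set A₂ := A.comap (QuotientGroup.mk' K) with hA₂
      have hA₂sq : ∀ a ∈ A₂, a ^ 2 = 1 := by
        intro a ha
        rcases h23 a with h2 | h2
        · exact h2
        · have h3 : ((a : G ⧸ K)) ^ 3 = 1 := by rw [← QuotientGroup.mk_pow, h2]; rfl
          have h4 : ((a : G ⧸ K)) ^ 2 = 1 := hAp _ (Subgroup.mem_comap.mp ha)
          have h5 := eq_one_of_sq_cube h4 h3
          exact hK2 a ((QuotientGroup.eq_one_iff a).mp h5)
      have hKA₂ : K ≤ A₂ := by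
        intro k hk
        rw [hA₂, Subgroup.mem_comap]
        have : (QuotientGroup.mk' K) k = 1 := (QuotientGroup.eq_one_iff k).mpr hk
        rw [this]; exact A.one_mem
      have hA₂K : A₂ ≤ K := by
        intro a ha
        rw [hK, Subgroup.mem_centralizer_iff]
        intro m hm
        exact comm_of_sq A₂ hA₂sq m (hKA₂ (hNK hm)) a ha
      apply ha₀1
      obtain ⟨a, rfl⟩ := QuotientGroup.mk_surjective a₀
      have : a ∈ A₂ := Subgroup.mem_comap.mpr ha₀
      exact (QuotientGroup.eq_one_iff a).mpr (hA₂K this)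
    · rcases structure_of_normal_cube h23Q A hA1 hAp with h3 | ⟨Kb, hKbn, hidx, -, -⟩
      · -- G/K is a 3-group
        have hcube : ∀ g : G, g ^ 3 ∈ K := by
          intro g
          have := h3 (g : G ⧸ K)
          rw [← QuotientGroup.mk_pow] at this
          exact (QuotientGroup.eq_one_iff _).mp this
        haveI : Fact (Nat.Prime 3) := ⟨Nat.prime_three⟩
        have hQ3 : IsPGroup 3 (G ⧸ K) := fun q => ⟨1, by rw [pow_one]; exact h3 q⟩
        obtain ⟨m, hm⟩ := IsPGroup.iff_card.mp hQ3
        have hidx : K.index = 3 ^ m := by rw [Subgroup.index_eq_card]; exact hm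
        have hm0 : m ≠ 0 := by
          rintro rfl
          rw [pow_zero] at hm
          have := (Nat.card_eq_one_iff_unique.mp hm).1
          exact not_subsingleton (G ⧸ K) this
        refine ⟨K, hKn, ⟨⟨⟨fun a b => Subtype.ext (hKc a a.2 b b.2)⟩⟩, hK2⟩, ?_⟩
        rw [hidx]
        by_contra hne
        have hm2 : 2 ≤ m := by
          rcases Nat.lt_or_ge m 2 with h | h
          · exfalso; apply hne
            have : m = 1 := by omega
            rw [this, pow_one]
          · exact h
        have h9 : 3 ^ 2 ∣ Nat.card G := by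
          rw [← Subgroup.index_mul_card K, hidx]
          exact Dvd.dvd.mul_right (pow_dvd_pow 3 hm2) _
        obtain ⟨P, hP⟩ := Sylow.exists_subgroup_card_pow_prime 3 h9
        have hPc := IsPGroup.commutative_of_card_eq_prime_sq hP
        have hP3 : ∀ g ∈ P, g ^ 3 = 1 := by
          intro g hg
          rcases h23 g with h2 | h2
          · have h4 : orderOf g ∣ 2 := orderOf_dvd_of_pow_eq_one h2
            have h5 : orderOf g ∣ 3 ^ 2 := by
              rw [← hP]
              have := orderOf_dvd_natCard (⟨g, hg⟩ : P)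
              rwa [Subgroup.orderOf_mk] at this
            have h6 : orderOf g ∣ Nat.gcd 2 (3 ^ 2) := Nat.dvd_gcd h4 h5
            have h7 : Nat.gcd 2 (3 ^ 2) = 1 := by norm_num
            rw [h7, Nat.dvd_one, orderOf_eq_one_iff] at h6
            rw [h6]; simp
          · exact h2
        obtain ⟨a, haP, ha1⟩ : ∃ a ∈ P, a ≠ 1 := by
          by_contra hcon
          push Not at hcon
          have := (Subgroup.eq_bot_iff_forall P).mpr hcon
          rw [this, Subgroup.card_bot] at hP
          norm_num at hP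
        obtain ⟨b, hbP, hbz⟩ : ∃ b ∈ P, b ∉ Subgroup.zpowers a := by
          by_contra hcon
          push Not at hcon
          have hle : P ≤ Subgroup.zpowers a := hcon
          have h1 := Subgroup.card_le_of_le hle
          rw [hP, Nat.card_zpowers] at h1
          have h2 : orderOf a ∣ 3 := orderOf_dvd_of_pow_eq_one (hP3 a haP)
          have h3 := Nat.le_of_dvd (by norm_num) h2
          omega
        have hcab : a * b = b * a := by
          have := hPc ⟨a, haP⟩ ⟨b, hbP⟩
          exact congrArg Subtype.val this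
        apply no_rank_two h23 K hK1 hK2 (hP3 a haP) (hP3 b hbP) hcab ha1
        · intro h0; apply hbz; rw [h0]; exact Subgroup.one_mem _
        · intro h0; apply hbz; rw [← h0]; exact Subgroup.mem_zpowers a
        · intro h0
          apply hbz
          have : b = a⁻¹ := (eq_inv_of_mul_eq_one_right h0)
          rw [this]
          exact Subgroup.inv_mem _ (Subgroup.mem_zpowers a)
      · -- index 2 on top: impossible
        exfalso
        set M := Kb.comap (QuotientGroup.mk' K) with hM
        have hMidx : M.index = 2 := by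
          rw [hM, Subgroup.index_comap_of_surjective _ (QuotientGroup.mk'_surjective K)]
          exact hidx
        have hKM : K ≤ M := by
          intro k hk
          rw [hM, Subgroup.mem_comap]
          have : (QuotientGroup.mk' K) k = 1 := (QuotientGroup.eq_one_iff k).mpr hk
          rw [this]; exact Kb.one_mem
        have hout : ∀ g : G, g ∉ M → g ^ 2 = 1 := by
          intro g hg
          rcases h23 g with h2 | h2
          · exact h2
          · exfalso
            apply hg
            have h4 := Subgroup.sq_mem_of_index_two hMidx g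
            have h5 : g = (g ^ 2)⁻¹ := by
              apply eq_inv_of_mul_eq_one_left
              rw [← pow_succ']; exact h2
            rw [h5]; exact M.inv_mem h4
        have hcent : ∀ g : G, g ∉ M → ∀ v ∈ K, g * v = v * g := by
          intro g hg v hv
          have hgv : g * v ∉ M := by
            intro h0
            apply hg
            have := M.mul_mem h0 (M.inv_mem (hKM hv))
            rwa [mul_inv_cancel_right] at this
          have h1 := hout _ hgv
          have h2 := hout g hg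
          have h3 := hK2 v hv
          rw [pow_two] at h1 h2 h3
          have hginv : g⁻¹ = g := inv_eq_of_mul_eq_one_left h2
          have hvinv : v⁻¹ = v := inv_eq_of_mul_eq_one_left h3
          have h4 : (g * v)⁻¹ = g * v := inv_eq_of_mul_eq_one_left h1
          rw [mul_inv_rev, hginv, hvinv] at h4
          exact h4.symm
        obtain ⟨g₀, hg₀⟩ : ∃ g₀ : G, g₀ ∉ M := by
          by_contra hcon
          push Not at hcon
          have : M = ⊤ := (Subgroup.eq_top_iff' M).mpr hcon
          rw [this, Subgroup.index_top] at hMidx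
          norm_num at hMidx
        have hxM : x ∈ M := by
          by_contra hxM
          exact hx1 (eq_one_of_sq_cube (hout x hxM) hx3)
        have hxg : x * g₀ ∉ M := by
          intro h0
          apply hg₀
          have := M.mul_mem (M.inv_mem hxM) h0
          rwa [inv_mul_cancel_left] at this
        have h1 := hcent g₀ hg₀ n₀ (hNK hn₀)
        have h2 := hcent (x * g₀) hxg n₀ (hNK hn₀)
        apply not_commute_of_sq_cube h23 (hNp n₀ hn₀) hn₀1 hx3 hx1
        show n₀ * x = x * n₀
        have h3 : x * (g₀ * n₀) = n₀ * x * g₀ := by rw [← mul_assoc, h2, mul_assoc]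
        rw [h1] at h3
        have h4 : x * n₀ * g₀ = n₀ * x * g₀ := by rw [← h3, mul_assoc]
        exact (mul_right_cancel h4).symm

end Cfsg.Agent.S4005
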