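import Cfsg.Statements.S4006
import Mathlib
import Cfsg.Agent.Lib.Lead.CharBurnside
import Cfsg.Agent.Lib.Helper20.OrdFourH

set_option autoImplicit false
open Cfsg

namespace Cfsg.Agent.S4006

/-- A finite group whose set of element orders is exactly {1, 2, 3, 4} has a normal subgroup N such that either N is a 2-group of exponent 4 and nilpotency class at most 2 with G/N of order 3, or N is an elementary abelian 2-group with G/N isomorphic to the symmetric group of degree 3, or N is an elementary abelian 3-group with G/N cyclic of order 4 or quaternion of order 8. -/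
theorem result {G : Type*} [Group G] [Finite G] (h : Set.range (orderOf : G → ℕ) = {k : ℕ | 1 ≤ k ∧ k ≤ 4}) :
    ∃ (N : Subgroup G) (_ : N.Normal),
      (IsPGroup 2 ↥N ∧ Monoid.exponent ↥N = 4 ∧ Group.nilpotencyClass ↥N ≤ 2 ∧ N.index = 3) ∨
      (Cfsg.IsElementaryAbelian 2 N ∧ Nonempty (G ⧸ N ≃* Equiv.Perm (Fin 3))) ∨
      (Cfsg.IsElementaryAbelian 3 N ∧ ((IsCyclic (G ⧸ N) ∧ N.index = 4) ∨ Nonempty (G ⧸ N ≃* QuaternionGroup 2))) := by
  classical
  have hord : Cfsg.Agent.Lib.Helper20.OrdFour.Ord4 G := by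
    intro g
    have : orderOf g ∈ Set.range (orderOf : G → ℕ) := Set.mem_range_self g
    rw [h] at this
    exact this
  have hex : ∀ k : ℕ, 1 ≤ k → k ≤ 4 → ∃ g : G, orderOf g = k := by
    intro k h1 h4
    have : k ∈ Set.range (orderOf : G → ℕ) := by rw [h]; exact ⟨h1, h4⟩
    exact this
  obtain ⟨g3, hg3⟩ := hex 3 (by norm_num) (by norm_num)
  obtain ⟨g4, hg4⟩ := hex 4 (by norm_num) (by norm_num)
  obtain ⟨a, b, hab⟩ := Cfsg.Agent.Lib.Helper20.OrdFour.card_two_three hord
  haveI : Group.IsSolvable G :=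
    Cfsg.Agent.CharLib.isSolvable_of_card_pq 2 3 a b Nat.prime_two Nat.prime_three hab
  haveI : Fact (Nat.Prime 2) := ⟨Nat.prime_two⟩
  haveI : Fact (Nat.Prime 3) := ⟨Nat.prime_three⟩
  haveI hP2n : (pCore 2 G).Normal := Cfsg.Agent.Lib.Helper1.pCore_normal 2 G
  haveI hP3n : (pCore 3 G).Normal := Cfsg.Agent.Lib.Helper1.pCore_normal 3 G
  have hP2 : IsPGroup 2 (pCore 2 G) := Cfsg.Agent.Lib.Helper12.pCore_isPGroup' 2
  have hP3 : IsPGroup 3 (pCore 3 G) := Cfsg.Agent.Lib.Helper12.pCore_isPGroup' 3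
  by_cases h2 : pCore 2 G = ⊥
  · have hO : pPrimeCore 3 G = ⊥ := by
      have hQn := Cfsg.Agent.Lib.Helper1.pPrimeCore_normal 3 G
      have hcop := Cfsg.Agent.Lib.Helper12.pPrimeCore_coprime (X := G) 3
      have hQ2 : IsPGroup 2 (pPrimeCore 3 G) := by
        rintro ⟨q, hq⟩
        refine ⟨2, Subtype.ext ?_⟩
        rw [Subgroup.coe_pow, Subgroup.coe_one]
        change q ^ 4 = 1
        apply hord.pow_four_of_ne_three
        intro h3
        have h4 : orderOf (⟨q, hq⟩ : pPrimeCore 3 G) ∣ Nat.card (pPrimeCore 3 G) :=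
          orderOf_dvd_natCard _
        rw [Subgroup.orderOf_mk, h3] at h4
        have := Nat.Coprime.eq_one_of_dvd hcop.symm h4
        omega
      have := Cfsg.Agent.Lib.Helper12.le_pCore' 2 _ hQn hQ2
      rw [h2] at this
      exact eq_bot_iff.mpr this
    have hC := Cfsg.Agent.Lib.Helper9.centralizer_pCore_le_of_isSolvable (X := G) 3 hO
    obtain ⟨hEA, hrest⟩ := Cfsg.Agent.Lib.Helper20.OrdFour.case_three hord (pCore 3 G)
      (fun n hn => hord.pow_three_of_mem hP3 hn) hC g4 hg4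
    exact ⟨pCore 3 G, hP3n, Or.inr (Or.inr ⟨hEA, hrest⟩)⟩
  · have h3 : pCore 3 G = ⊥ := by
      by_contra h3
      obtain ⟨⟨x, hx⟩, hx1⟩ := (Subgroup.ne_bot_iff_exists_ne_one).mp h2
      obtain ⟨⟨y, hy⟩, hy1⟩ := (Subgroup.ne_bot_iff_exists_ne_one).mp h3
      have hx1' : x ≠ 1 := fun h => hx1 (Subtype.ext h)
      have hy1' : y ≠ 1 := fun h => hy1 (Subtype.ext h)
      have hc2 : x * y * x⁻¹ * y⁻¹ ∈ pCore 2 G := by
        have e : x * y * x⁻¹ * y⁻¹ = x * (y * x⁻¹ * y⁻¹) := by group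
        rw [e]
        exact (pCore 2 G).mul_mem hx (hP2n.conj_mem _ ((pCore 2 G).inv_mem hx) y)
      have hc3 : x * y * x⁻¹ * y⁻¹ ∈ pCore 3 G :=
        (pCore 3 G).mul_mem (hP3n.conj_mem _ hy x) ((pCore 3 G).inv_mem hy)
      have e4 := hord.pow_four_of_mem hP2 hc2
      have e3 := hord.pow_three_of_mem hP3 hc3
      have e1 : x * y * x⁻¹ * y⁻¹ = 1 := by
        have : (x * y * x⁻¹ * y⁻¹) ^ 4 = (x * y * x⁻¹ * y⁻¹) ^ 3 * (x * y * x⁻¹ * y⁻¹) := pow_succ _ 3
        rw [e4, e3, one_mul] at this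
        exact this.symm
      have hcomm : Commute y x := by
        have : x * y = y * x := by
          calc x * y = (x * y * x⁻¹ * y⁻¹) * (y * x) := by group
            _ = y * x := by rw [e1, one_mul]
        exact this.symm
      exact hord.no_comm (Cfsg.Agent.Lib.Helper20.OrdFour.orderOf_eq_three_of
        (hord.pow_three_of_mem hP3 hy) hy1') (hord.pow_four_of_mem hP2 hx) hx1' hcomm
    have hO : pPrimeCore 2 G = ⊥ := by
      have hQn := Cfsg.Agent.Lib.Helper1.pPrimeCore_normal 2 G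
      have hcop := Cfsg.Agent.Lib.Helper12.pPrimeCore_coprime (X := G) 2
      have hQ3 : IsPGroup 3 (pPrimeCore 2 G) := by
        rintro ⟨q, hq⟩
        refine ⟨1, Subtype.ext ?_⟩
        rw [Subgroup.coe_pow, Subgroup.coe_one]
        change q ^ 3 = 1
        have h4 : orderOf (⟨q, hq⟩ : pPrimeCore 2 G) ∣ Nat.card (pPrimeCore 2 G) :=
          orderOf_dvd_natCard _
        rw [Subgroup.orderOf_mk] at h4
        apply orderOf_dvd_iff_pow_eq_one.mp
        rcases hord.cases q with h | h | h | h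
        · rw [h]; exact one_dvd 3
        · rw [h] at h4
          have := Nat.Coprime.eq_one_of_dvd hcop.symm h4
          omega
        · rw [h]
        · rw [h] at h4
          have := Nat.Coprime.eq_one_of_dvd hcop.symm (dvd_trans (by norm_num : 2 ∣ 4) h4)
          omega
      have := Cfsg.Agent.Lib.Helper12.le_pCore' 3 _ hQn hQ3
      rw [h3] at this
      exact eq_bot_iff.mpr this
    have hC := Cfsg.Agent.Lib.Helper9.centralizer_pCore_le_of_isSolvable (X := G) 2 hO
    rcases Cfsg.Agent.Lib.Helper20.OrdFour.case_two hord (pCore 2 G) hP2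
      (fun Q hQn hQ2 => Cfsg.Agent.Lib.Helper12.le_pCore' 2 Q hQn hQ2) hC g3 g4 hg3 hg4 with hA | hB
    · exact ⟨pCore 2 G, hP2n, Or.inl hA⟩
    · exact ⟨pCore 2 G, hP2n, Or.inr (Or.inl hB)⟩

end Cfsg.Agent.S4006
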