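import Cfsg.Statements.S4010
import Mathlib
import Cfsg.Agent.Lib.Helper24.LinPGroup

set_option autoImplicit false
open Cfsg

namespace Cfsg.Agent.S4010

open Cfsg.Agent.Lib.Helper24.LinPGroup

universe u v

/-- the representation attached to a matrix group homomorphism -/
noncomputable def matRep {P : Type u} [Group P] {K : Type v} [Field K] {n : ℕ}
    (σ : P →* Matrix.GeneralLinearGroup (Fin n) K) : Representation K P (Fin n → K) :=
  ((Matrix.toLinAlgEquiv' : Matrix (Fin n) (Fin n) K ≃ₐ[K] _).toAlgHom : _ →* _).comp
    ((Units.coeHom _).comp σ)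

theorem matRep_ker {P : Type u} [Group P] {K : Type v} [Field K] {n : ℕ}
    (σ : P →* Matrix.GeneralLinearGroup (Fin n) K) (hσ : Function.Injective σ) :
    (matRep σ : P →* Module.End K (Fin n → K)).ker = ⊥ := by
  rw [eq_bot_iff]
  intro g hg
  rw [MonoidHom.mem_ker] at hg
  rw [Subgroup.mem_bot]
  apply hσ
  rw [map_one]
  apply Units.ext
  have h1 : (Matrix.toLinAlgEquiv' : Matrix (Fin n) (Fin n) K ≃ₐ[K] _) ((σ g : Matrix (Fin n) (Fin n) K)) = 1 := hg
  have h2 := (Matrix.toLinAlgEquiv' : Matrix (Fin n) (Fin n) K ≃ₐ[K] _).injective (h1.trans (map_one _).symm)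
  exact h2

theorem result' {P : Type u} [Group P] [Finite P] (p : ℕ) [hp : Fact p.Prime] (hP : IsPGroup p P)
    (F : Type v) [Field F] (n : ℕ) (hn : 1 ≤ n) (ρ : P →* Matrix.GeneralLinearGroup (Fin n) F)
    (hρ : Function.Injective ρ) : derivedSeries P (Nat.log 2 n + 1) = ⊥ := by
  classical
  rw [eq_bot_iff]
  by_cases hpF : (p : F) = 0
  · -- characteristic `p`
    have hchar : ringChar F = p := by
      have h1 : ringChar F ∣ p := ringChar.dvd hpF
      rcases (Nat.dvd_prime hp.out).mp h1 with h | h
      · exact absurd h (CharP.ringChar_ne_one)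
      · exact h
    haveI : CharP F p := hchar ▸ ringChar.charP F
    have h1 := charp_main (F := F) p n P hP (Fin n → F) (matRep ρ) (Module.finrank_fin_fun F)
    rw [matRep_ker ρ hρ] at h1
    refine le_trans (derivedSeries_antitone (G := P) ?_) h1
    exact Nat.clog_le_of_le_pow (Nat.lt_pow_succ_log_self (by norm_num) n).le
  · -- coprime characteristic: pass to the algebraic closure
    let K := AlgebraicClosure F
    let σ : P →* Matrix.GeneralLinearGroup (Fin n) K :=
      (Matrix.GeneralLinearGroup.map (algebraMap F K)).comp ρ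
    have hσ : Function.Injective σ := by
      intro a b hab
      apply hρ
      apply Units.ext
      have h1 : ((σ a : Matrix (Fin n) (Fin n) K)) = (σ b : Matrix (Fin n) (Fin n) K) := by rw [hab]
      ext i j
      have h2 := congrFun (congrFun h1 i) j
      simp only [σ, MonoidHom.comp_apply, Matrix.GeneralLinearGroup.map_apply] at h2
      exact (algebraMap F K).injective h2
    have hpK : (p : K) ≠ 0 := by
      intro h
      apply hpF
      apply (algebraMap F K).injective
      rw [map_natCast, map_zero, h]
    have h1 := coprime_main (F := K) p hpK n P hP (Fin n → K) (matRep σ) (Module.finrank_fin_fun K)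
    rw [matRep_ker σ hσ] at h1
    refine le_trans (derivedSeries_antitone (G := P) ?_) h1
    exact Nat.add_le_add_right (Nat.log_anti_left (by norm_num) hp.out.two_le) 1

/-- Let F be a field, n ≥ 1, and P a finite p-group (p a prime) admitting an injective homomorphism into the general linear group of degree n over F. Then the derived length of P is at most ⌊log₂ n⌋ + 1: that term of the derived series of P is trivial. -/
theorem result {P : Type*} [Group P] [Finite P] (p : ℕ) [Fact p.Prime] (hP : IsPGroup p P) (F : Type*) [Field F] (n : ℕ) (hn : 1 ≤ n) (ρ : P →* Matrix.GeneralLinearGroup (Fin n) F) (hρ : Function.Injective ρ) : derivedSeries P (Nat.log 2 n + 1) = ⊥ := by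
  exact result' p hP F n hn ρ hρ

end Cfsg.Agent.S4010
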