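import Cfsg.Statements.S4013
import Cfsg.Agent.Lib.Helper21.ClassSize
-- import your own Cfsg.Agent.* helpers here

set_option autoImplicit false
open Cfsg

namespace Cfsg.Agent.S4013

open Cfsg.Agent.Lib.Helper21

/-- Let G be a finite p-group (p prime) and N < M normal subgroups of G such that for some g ∈ M ∖ N the conjugacy class of g is exactly M ∖ N. Then p = 2 and N has index 2 in M. -/
theorem result {G : Type*} [Group G] [Finite G] (p : ℕ) [Fact p.Prime] (hG : IsPGroup p G) (N M : Subgroup G) [N.Normal] [M.Normal] (hNM : N < M) (g : G) (hgM : g ∈ M) (hgN : g ∉ N) (hcl : {h : G | IsConj g h} = (M : Set G) \ (N : Set G)) : p = 2 ∧ N.relIndex M = 2 := by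
  have hp : p.Prime := Fact.out
  obtain ⟨a, ha⟩ := hG.index (Subgroup.centralizer ({g} : Set G))
  rw [index_centralizer_eq_ncard_setOf_isConj, hcl] at ha
  have hsub : (N : Set G) ⊆ (M : Set G) := hNM.le
  have hdiff : ((M : Set G) \ (N : Set G)).ncard = Nat.card M - Nat.card N := by
    rw [Set.ncard_sdiff hsub (Set.toFinite _)]
    rfl
  rw [hdiff] at ha
  obtain ⟨b, hb⟩ := (IsPGroup.iff_card.mp (hG.to_subgroup N))
  obtain ⟨c, hc⟩ := (IsPGroup.iff_card.mp (hG.to_subgroup M))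
  have hlt : Nat.card N < Nat.card M := by
    have := Set.ncard_lt_ncard (show (N : Set G) ⊂ (M : Set G) from hNM) (Set.toFinite _)
    exact this
  rw [hb, hc] at ha hlt
  have hbc : b < c := (Nat.pow_lt_pow_iff_right hp.one_lt).mp hlt
  obtain ⟨d, rfl⟩ : ∃ d, c = b + (d + 1) := ⟨c - b - 1, by omega⟩
  have hrel : N.relIndex M = p ^ (d + 1) := by
    have h1 := Subgroup.relIndex_mul_relIndex ⊥ N M bot_le hNM.le
    rw [Subgroup.relIndex_bot_left, Subgroup.relIndex_bot_left, hb, hc, pow_add] at h1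
    exact Nat.eq_of_mul_eq_mul_left (pow_pos hp.pos b) h1
  -- p^(b+(d+1)) - p^b = p^a
  have h2 : p ^ b * (p ^ (d + 1) - 1) = p ^ a := by
    rw [Nat.mul_sub, mul_one, ← pow_add]; exact ha
  have h3 : (p ^ (d + 1) - 1) ∣ p ^ a := Dvd.intro_left _ h2
  obtain ⟨e, he, he'⟩ := (Nat.dvd_prime_pow hp).mp h3
  have hpd : 2 ≤ p ^ (d + 1) := by
    calc 2 ≤ p := hp.two_le
      _ = p ^ 1 := (pow_one p).symm
      _ ≤ p ^ (d + 1) := Nat.pow_le_pow_right hp.pos (by omega)
  have he0 : e = 0 := by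
    by_contra hne
    have h4 : p ∣ p ^ e := dvd_pow_self p hne
    have h5 : p ∣ p ^ (d + 1) := dvd_pow_self p (by omega)
    rw [← he'] at h4
    have h6 : p ∣ 1 := by
      have := (Nat.dvd_sub h5 h4)
      rwa [Nat.sub_sub_self (by omega)] at this
    exact hp.one_lt.ne' (Nat.dvd_one.mp h6)
  rw [he0, pow_zero] at he'
  have h7 : p ^ (d + 1) = 2 := by omega
  have hd0 : d = 0 := by
    by_contra hne
    have : p ^ 2 ≤ p ^ (d + 1) := Nat.pow_le_pow_right hp.pos (by omega)
    have : 2 * 2 ≤ p ^ 2 := by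
      rw [sq]; exact Nat.mul_le_mul hp.two_le hp.two_le
    omega
  rw [hd0] at h7 hrel
  simp only [zero_add, pow_one] at h7 hrel
  exact ⟨h7, by rw [hrel, h7]⟩

end Cfsg.Agent.S4013
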