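import Cfsg.Statements.S4022
-- import your own Cfsg.Agent.* helpers here
import Cfsg.Agent.Lib.Helper21.EqOrdE

set_option autoImplicit false
open Cfsg

namespace Cfsg.Agent.S4022

/-- Let G be a finite solvable group in which, for every prime p, any two p-subgroups of the same order are conjugate, and suppose the Sylow p-subgroups of G are cyclic for all primes p with at most one exception. Then any two subgroups of G of the same order are conjugate. -/
theorem result {G : Type*} [Group G] [Finite G]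
    [Group.IsSolvable G] (hD : ∀ p : ℕ, p.Prime → ∀ H K : Subgroup G, IsPGroup p H → IsPGroup p K → Nat.card H = Nat.card K →
      ∃ g : G, K = H.map (MulAut.conj g).toMonoidHom)
    (r : ℕ) (hcyc : ∀ p : ℕ, p.Prime → p ≠ r → ∀ P : Sylow p G, IsCyclic P) :
    ∀ H K : Subgroup G, Nat.card H = Nat.card K → ∃ g : G, K = H.map (MulAut.conj g).toMonoidHom := by
  classical
  obtain ⟨r', hr', hcyc'⟩ : ∃ r' : ℕ, r'.Prime ∧
      ∀ p : ℕ, p.Prime → p ≠ r' → ∀ P : Sylow p G, IsCyclic P := by
    by_cases hr : r.Prime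
    · exact ⟨r, hr, hcyc⟩
    · exact ⟨2, Nat.prime_two, fun p hp _ => hcyc p hp (fun h => hr (h ▸ hp))⟩
  have h1 : Cfsg.Agent.Lib.Helper21.EqOrd.H1 G r' := by
    intro p hp hpr P hP
    haveI : Fact p.Prime := ⟨hp⟩
    obtain ⟨Q, hPQ⟩ := hP.exists_le_sylow
    haveI := hcyc' p hp hpr Q
    exact isCyclic_of_injective (Subgroup.inclusion hPQ) (Subgroup.inclusion_injective hPQ)
  have h2 : Cfsg.Agent.Lib.Helper21.EqOrd.DP G r' := by
    intro H K hH hK hc
    obtain ⟨g, hg⟩ := hD r' hr' H K hH hK hc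
    exact ⟨g, hg.symm⟩
  intro H K hc
  obtain ⟨g, hg⟩ := Cfsg.Agent.Lib.Helper21.EqOrd.main _ G rfl r' hr' h1 h2 H K hc
  exact ⟨g, hg.symm⟩

end Cfsg.Agent.S4022
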