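import Cfsg.Statements.S4023
import Mathlib
import Cfsg.Agent.Lib.Helper18.UniqueInvolution
import Cfsg.Agent.Lib.Helper11.UniqueSubgroup
import Cfsg.Agent.Lib.Helper4.Basic
import Cfsg.Agent.Lib.Helper9.Cyclic
-- import your own Cfsg.Agent.* helpers here

set_option autoImplicit false
open Cfsg

namespace Cfsg.Agent.S4023

open Subgroup
open scoped commutatorElement

variable {Q : Type*} [Group Q]

/-- forward conjugation invariance suffices for normalizer membership in a finite group -/
theorem mem_normalizer_of_forall [Finite Q] (K : Subgroup Q) (x : Q)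
    (hn : ∀ k ∈ K, x * k * x⁻¹ ∈ K) : x ∈ normalizer (K : Set Q) := by
  rw [Subgroup.mem_normalizer_iff]
  intro h
  refine ⟨hn h, fun hh => ?_⟩
  let f : K → K := fun k => ⟨x * k * x⁻¹, hn k k.2⟩
  have hinj : Function.Injective f := by
    intro a b hab
    have : x * (a : Q) * x⁻¹ = x * (b : Q) * x⁻¹ := congrArg Subtype.val hab
    apply Subtype.ext
    simpa using this
  have hsurj : Function.Surjective f := Finite.injective_iff_surjective.mp hinj
  obtain ⟨k, hk⟩ := hsurj ⟨x * h * x⁻¹, hh⟩
  have : x * (k : Q) * x⁻¹ = x * h * x⁻¹ := congrArg Subtype.val hk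
  have hkh : (k : Q) = h := by simpa using this
  rw [← hkh]; exact k.2

/-- adjoining an element of prime order normalizing `K`, outside `K`, multiplies the order by `p` -/
theorem card_sup_zpowers_prime [Finite Q] {p : ℕ} (hp : p.Prime) (K : Subgroup Q) (x : Q)
    (hx : orderOf x = p) (hxK : x ∉ K) (hn : ∀ k ∈ K, x * k * x⁻¹ ∈ K) :
    Nat.card ↥(K ⊔ zpowers x) = p * Nat.card K := by
  have hle : zpowers x ≤ normalizer (K : Set Q) := by
    rw [zpowers_le]; exact mem_normalizer_of_forall K x hn
  have hinf : zpowers x ⊓ K = ⊥ := by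
    have hd : Nat.card ↥(zpowers x ⊓ K) ∣ p := by
      have := Subgroup.card_dvd_of_le (inf_le_left : zpowers x ⊓ K ≤ zpowers x)
      rwa [Nat.card_zpowers, hx] at this
    rcases (Nat.dvd_prime hp).mp hd with h | h
    · exact Subgroup.eq_bot_of_card_eq _ h
    · exfalso
      apply hxK
      have heq : zpowers x ⊓ K = zpowers x := by
        apply Subgroup.eq_of_le_of_card_ge inf_le_left
        rw [h, Nat.card_zpowers, hx]
      have : zpowers x ≤ K := by rw [← heq]; exact inf_le_right
      exact this (mem_zpowers x)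
  have := Cfsg.Agent.Lib.Helper4.card_sup_mul_card_inf (zpowers x) K hle
  rw [hinf, Subgroup.card_bot, mul_one, Nat.card_zpowers, hx, sup_comm] at this
  exact this

/-- adjoining an element commuting with a commutative subgroup -/
theorem comm_sup_zpowers (K : Subgroup Q) (v : Q) (hK : ∀ a ∈ K, ∀ b ∈ K, a * b = b * a)
    (hv : ∀ a ∈ K, a * v = v * a) :
    ∀ a ∈ K ⊔ zpowers v, ∀ b ∈ K ⊔ zpowers v, a * b = b * a := by
  have h1 : ∀ k ∈ K, ∀ a ∈ K ⊔ zpowers v, a * k = k * a := by
    intro k hk a ha
    have : K ⊔ zpowers v ≤ centralizer {k} := by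
      apply sup_le
      · intro b hb
        rw [Subgroup.mem_centralizer_singleton_iff]
        exact hK b hb k hk
      · rw [zpowers_le, Subgroup.mem_centralizer_singleton_iff]
        exact (hv k hk).symm
    exact Subgroup.mem_centralizer_singleton_iff.mp (this ha)
  have h2 : ∀ a ∈ K ⊔ zpowers v, a * v = v * a := by
    intro a ha
    have : K ⊔ zpowers v ≤ centralizer {v} := by
      apply sup_le
      · intro b hb
        rw [Subgroup.mem_centralizer_singleton_iff]
        exact hv b hb
      · rw [zpowers_le, Subgroup.mem_centralizer_singleton_iff]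
    exact Subgroup.mem_centralizer_singleton_iff.mp (this ha)
  intro a ha b hb
  have : K ⊔ zpowers v ≤ centralizer {a} := by
    apply sup_le
    · intro k hk
      rw [Subgroup.mem_centralizer_singleton_iff]
      exact (h1 k hk a ha).symm
    · rw [zpowers_le, Subgroup.mem_centralizer_singleton_iff]
      exact (h2 a ha).symm
  exact (Subgroup.mem_centralizer_singleton_iff.mp (this hb)).symm

/-- The commutator homomorphism `g ↦ ⁅g, w⁆` when all these commutators are central. -/
def commHom (w : Q) (hw : ∀ g : Q, ⁅g, w⁆ ∈ Subgroup.center Q) : Q →* Q :=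
  MonoidHom.mk' (fun g : Q => ⁅g, w⁆) (by
    intro a b
    have hb := Subgroup.mem_center_iff.mp (hw b)
    show ⁅a * b, w⁆ = ⁅a, w⁆ * ⁅b, w⁆
    have h1 : ⁅a * b, w⁆ = a * (⁅b, w⁆ * w) * a⁻¹ * w⁻¹ := by
      simp only [commutatorElement_def]
      group
    rw [h1, ← mul_assoc, hb a, hb ⁅a, w⁆, commutatorElement_def a w]
    simp only [mul_assoc])

theorem card_centralizer_mul_ge [Finite Q] (w : Q) (hw : ∀ g : Q, ⁅g, w⁆ ∈ Subgroup.center Q) :
    Nat.card Q ∣ Nat.card (centralizer {w} : Subgroup Q) * Nat.card (center Q) := by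
  have h1 : Nat.card (commHom w hw).ker * Nat.card (commHom w hw).range = Nat.card Q := by
    rw [← Subgroup.index_ker, Subgroup.card_mul_index]
  have h2 : (commHom w hw).ker = centralizer {w} := by
    ext g
    rw [MonoidHom.mem_ker, Subgroup.mem_centralizer_singleton_iff]
    show ⁅g, w⁆ = 1 ↔ _
    rw [commutatorElement_eq_one_iff_mul_comm]
  have h3 : (commHom w hw).range ≤ center Q := by
    rintro _ ⟨g, rfl⟩
    exact hw g
  rw [← h1, h2]
  exact Nat.mul_dvd_mul dvd_rfl (Subgroup.card_dvd_of_le h3)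

/-- the quaternion case: a generalized quaternion group of order at least 16 has a cyclic and a
non-cyclic subgroup of order 8 -/
theorem quaternion_case [Finite Q] (n : ℕ) (hcard : Nat.card Q = 2 ^ n)
    (hcyc : ∀ H K : Subgroup Q, Nat.card H = Nat.card K → IsCyclic H → IsCyclic K)
    (a x : Q) (m : ℕ) (hm : 3 ≤ m) (hord : orderOf a = 2 ^ m) (hxnot : x ∉ zpowers a)
    (hxa : x * a * x⁻¹ = a⁻¹) (hx2 : x ^ 2 = a ^ (2 ^ (m - 1)))
    (hall : ∀ g : Q, g ∈ zpowers a ∨ ∃ h ∈ zpowers a, g = x * h) : False := by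
  have : Fact (Nat.Prime 2) := ⟨Nat.prime_two⟩
  -- the cyclic subgroup of order 8
  have h8 : orderOf (a ^ (2 ^ (m - 3))) = 2 ^ 3 := by
    rw [orderOf_pow_of_dvd (by positivity) (by rw [hord]; exact pow_dvd_pow 2 (by omega)), hord,
      Nat.pow_div (by omega) (by norm_num)]
    congr 1; omega
  have hH1 : Nat.card (zpowers (a ^ (2 ^ (m - 3)))) = 2 ^ 3 := by rw [Nat.card_zpowers, h8]
  -- x has order 4
  have hx4 : orderOf x = 2 ^ 2 := by
    apply orderOf_eq_prime_pow
    · rw [pow_one, hx2]
      intro h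
      have := orderOf_dvd_of_pow_eq_one h
      rw [hord] at this
      have := (Nat.pow_dvd_pow_iff_le_right (by norm_num : 1 < 2)).mp this
      omega
    · rw [show (2 : ℕ) ^ (1 + 1) = 2 * 2 by norm_num, pow_mul, hx2, ← pow_mul, ← pow_succ]
      rw [show m - 1 + 1 = m by omega, ← hord, pow_orderOf_eq_one]
  have hL : Nat.card (zpowers x) = 2 ^ 2 := by rw [Nat.card_zpowers, hx4]
  have hmn : m ≤ n := by
    have := Subgroup.card_subgroup_dvd_card (zpowers a)
    rw [Nat.card_zpowers, hord, hcard] at this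
    exact (Nat.pow_dvd_pow_iff_le_right (by norm_num : 1 < 2)).mp this
  obtain ⟨M, hLM, -, hM⟩ := Cfsg.Agent.Lib.Helper11.exists_between_pgroup hL
    (show Nat.card (⊤ : Subgroup Q) = 2 ^ n by rw [Subgroup.card_top, hcard]) le_top
    (show 2 ≤ 3 by norm_num) (show 3 ≤ n by omega)
  have hMc : IsCyclic M := hcyc _ M (hH1.trans hM.symm) inferInstance
  obtain ⟨y, hy⟩ := IsCyclic.exists_generator (α := M)
  have hyord : orderOf (y : Q) = 2 ^ 3 := by
    rw [Subgroup.orderOf_coe, orderOf_eq_card_of_forall_mem_zpowers hy, hM]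
  -- conjugation by x inverts zpowers a
  have hinv : ∀ h ∈ zpowers a, x * h * x⁻¹ = h⁻¹ := by
    intro h hh
    obtain ⟨k, rfl⟩ := Subgroup.mem_zpowers_iff.mp hh
    have : x * a ^ k * x⁻¹ = (x * a * x⁻¹) ^ k := by
      rw [← MulAut.conj_apply, map_zpow, MulAut.conj_apply]
    rw [this, hxa, inv_zpow]
  have hyA : (y : Q) ∈ zpowers a := by
    rcases hall (y : Q) with h | ⟨h, hh, hyh⟩
    · exact h
    · exfalso
      have hsq : (x * h) ^ 2 = x ^ 2 := by
        have h1 : x * h = h⁻¹ * x := by
          have := hinv h hh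
          rw [← this]; group
        have hc : Commute (x ^ 2) h := by
          rw [hx2]
          obtain ⟨k, rfl⟩ := Subgroup.mem_zpowers_iff.mp hh
          exact ((Commute.refl a).pow_left _).zpow_right k
        calc (x * h) ^ 2 = x * h * (x * h) := pow_two _
          _ = h⁻¹ * x * (x * h) := by rw [h1]
          _ = h⁻¹ * (x ^ 2 * h) := by rw [pow_two]; group
          _ = h⁻¹ * (h * x ^ 2) := by rw [hc.eq]
          _ = x ^ 2 := by group
      have h4 : (y : Q) ^ 4 = 1 := by
        rw [hyh, show 4 = 2 * 2 by norm_num, pow_mul, hsq, ← pow_mul]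
        have := pow_orderOf_eq_one x
        rwa [hx4] at this
      have := orderOf_dvd_of_pow_eq_one h4
      rw [hyord] at this
      norm_num at this
  apply hxnot
  have hxM : x ∈ M := hLM (mem_zpowers x)
  obtain ⟨k, hk⟩ := Subgroup.mem_zpowers_iff.mp (hy ⟨x, hxM⟩)
  have hk' : (y : Q) ^ k = x := by
    have := congrArg Subtype.val hk
    simpa using this
  rw [← hk']
  exact Subgroup.zpow_mem _ hyA k

/-- Case of a unique subgroup of order `p`. -/
theorem unique_case [Finite Q] {p : ℕ} [Fact p.Prime] (hQ : IsPGroup p Q)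
    (hcyc : ∀ H K : Subgroup Q, Nat.card H = Nat.card K → IsCyclic H → IsCyclic K)
    (hU : ∀ A B : Subgroup Q, Nat.card A = p → Nat.card B = p → A = B) :
    IsCyclic Q ∨ (p = 2 ∧ Nonempty (Q ≃* QuaternionGroup 2)) := by
  have hp : p.Prime := Fact.out
  obtain ⟨n, hn⟩ := IsPGroup.iff_card.mp hQ
  by_cases hn1 : n ≤ 1
  · left
    interval_cases n
    · rw [pow_zero] at hn
      have : Subsingleton Q := (Nat.card_eq_one_iff_unique.mp hn).1
      exact isCyclic_of_subsingleton
    · rw [pow_one] at hn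
      exact isCyclic_of_prime_card hn
  by_cases hp2 : p = 2
  · subst hp2
    have huniq : ∀ s t : Q, orderOf s = 2 → orderOf t = 2 → s = t := by
      intro s t hs ht
      have h1 : zpowers s = zpowers t :=
        hU _ _ (by rw [Nat.card_zpowers, hs]) (by rw [Nat.card_zpowers, ht])
      have h2 : t ∈ zpowers s := h1 ▸ mem_zpowers t
      have ht1 : t ≠ 1 := by
        intro h; rw [h, orderOf_one] at ht; norm_num at ht
      have hs2 : s ^ (2 : ℤ) = 1 := by
        have := pow_orderOf_eq_one s
        rw [hs] at this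
        exact_mod_cast this
      obtain ⟨k, hk⟩ := Subgroup.mem_zpowers_iff.mp h2
      rcases Int.emod_two_eq_zero_or_one k with h | h
      · exfalso
        apply ht1
        have : k = 2 * (k / 2) := by omega
        rw [← hk, this, zpow_mul, hs2, one_zpow]
      · have : k = 2 * (k / 2) + 1 := by omega
        rw [← hk, this, zpow_add, zpow_mul, hs2, one_zpow, one_mul, zpow_one]
    rcases Cfsg.Agent.Lib.Helper18.cyclic_or_quaternion_data hQ huniq with
      h | ⟨a, x, m, hm, hord, hxnot, hxa, hx2, hall⟩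
    · exact Or.inl h
    · by_cases hm2 : m = 2
      · right
        refine ⟨rfl, ?_⟩
        subst hm2
        apply Cfsg.Agent.Lib.Helper18.nonempty_mulEquiv_quaternionGroup a x 2 (by rw [hord]; norm_num)
          (by simpa using hx2) hxa hxnot hall
      · exfalso
        exact quaternion_case n hn hcyc a x m (by omega) hord hxnot hxa hx2 hall
  · left
    exact Cfsg.Agent.Lib.Helper11.isCyclic_of_unique_subgroup_card p n 1 hp hn le_rfl (by omega)
      (Or.inl hp2) (by simpa using hU)

/-- a central element of order `p` in a nontrivial finite `p`-group -/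
theorem exists_central_order_p [Finite Q] [Nontrivial Q] {p : ℕ} [Fact p.Prime] (hQ : IsPGroup p Q) :
    ∃ z ∈ center Q, orderOf z = p := by
  have hZnt : Nontrivial (center Q) := hQ.center_nontrivial
  have hZp : IsPGroup p (center Q) := hQ.to_subgroup _
  obtain ⟨k, hk⟩ := IsPGroup.iff_card.mp hZp
  have hk0 : k ≠ 0 := by
    intro h
    rw [h, pow_zero] at hk
    have := Finite.one_lt_card_iff_nontrivial.mpr hZnt
    omega
  have hdvd : p ∣ Nat.card (center Q) := by rw [hk]; exact dvd_pow_self p hk0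
  obtain ⟨z, hz⟩ := exists_prime_orderOf_dvd_card' p hdvd
  exact ⟨(z : Q), z.2, by rw [Subgroup.orderOf_coe]; exact hz⟩

/-- conjugation fixes central elements -/
theorem conj_of_mem_center {k : Q} (hk : k ∈ center Q) (a : Q) : a * k * a⁻¹ = k := by
  rw [Subgroup.mem_center_iff] at hk
  rw [hk a]; group

/-- if there are two subgroups of order `p` then the group has exponent `p` -/
theorem exponent_case [Finite Q] {p : ℕ} [Fact p.Prime] (hQ : IsPGroup p Q)
    (hcyc : ∀ H K : Subgroup Q, Nat.card H = Nat.card K → IsCyclic H → IsCyclic K)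
    (A B : Subgroup Q) (hA : Nat.card A = p) (hB : Nat.card B = p) (hAB : A ≠ B) :
    ∀ x : Q, x ^ p = 1 := by
  have hp : p.Prime := Fact.out
  have hnt : Nontrivial Q := by
    rw [← Finite.one_lt_card_iff_nontrivial]
    have h1 : Nat.card A ≤ Nat.card Q := Subgroup.card_le_card_group A
    have := hp.one_lt
    omega
  obtain ⟨z, hzc, hz⟩ := exists_central_order_p hQ
  obtain ⟨A', hA', hA'Z⟩ : ∃ A' : Subgroup Q, Nat.card A' = p ∧ A' ≠ zpowers z := by
    by_cases h : A = zpowers z
    · exact ⟨B, hB, fun hb => hAB (h.trans hb.symm)⟩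
    · exact ⟨A, hA, h⟩
  obtain ⟨a, haA, ha1⟩ : ∃ a ∈ A', a ≠ 1 := by
    have : Nontrivial A' := by
      rw [← Finite.one_lt_card_iff_nontrivial, hA']; exact hp.one_lt
    obtain ⟨⟨a, ha⟩, hne⟩ := exists_ne (1 : A')
    exact ⟨a, ha, fun h => hne (Subtype.ext h)⟩
  have hao : orderOf a = p := by
    have h1 : orderOf a ∣ p := by
      have := Subgroup.orderOf_dvd_natCard A' haA
      rwa [hA'] at this
    rcases (Nat.dvd_prime hp).mp h1 with h | h
    · exact absurd (orderOf_eq_one_iff.mp h) ha1
    · exact h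
  have hAz : zpowers a = A' := by
    apply Subgroup.eq_of_le_of_card_ge (zpowers_le.mpr haA)
    rw [Nat.card_zpowers, hao, hA']
  have haZ : a ∉ zpowers z := by
    intro h
    apply hA'Z
    rw [← hAz]
    apply Subgroup.eq_of_le_of_card_ge (zpowers_le.mpr h)
    rw [Nat.card_zpowers, Nat.card_zpowers, hao, hz]
  have hE : Nat.card ↥(zpowers z ⊔ zpowers a) = p * p := by
    have := card_sup_zpowers_prime hp (zpowers z) a hao haZ (by
      intro k hk
      have hkc : k ∈ center Q := (zpowers_le.mpr hzc) hk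
      rw [conj_of_mem_center hkc]; exact hk)
    rw [this, Nat.card_zpowers, hz]
  have hEnc : ¬ IsCyclic ↥(zpowers z ⊔ zpowers a) := by
    intro hc
    apply hA'Z
    rw [← hAz]
    exact (Cfsg.Agent.Lib.Helper9.eq_of_card_eq_of_le_isCyclic (zpowers z ⊔ zpowers a) (zpowers z)
      (zpowers a) le_sup_left le_sup_right
      (by rw [Nat.card_zpowers, Nat.card_zpowers, hao, hz])).symm
  intro x
  by_contra hx
  obtain ⟨k, hk⟩ := (IsPGroup.iff_orderOf.mp hQ) x
  have hk2 : 2 ≤ k := by
    by_contra h
    push Not at h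
    interval_cases k
    · rw [pow_zero, orderOf_eq_one_iff] at hk; apply hx; rw [hk, one_pow]
    · rw [pow_one] at hk; apply hx; rw [← hk, pow_orderOf_eq_one]
  have hy : orderOf (x ^ (p ^ (k - 2))) = p ^ 2 := by
    rw [orderOf_pow_of_dvd (pow_ne_zero _ hp.ne_zero) (by rw [hk]; exact pow_dvd_pow p (by omega)),
      hk, Nat.pow_div (by omega) hp.pos]
    congr 1; omega
  apply hEnc
  apply hcyc (zpowers (x ^ (p ^ (k - 2)))) _ _ inferInstance
  rw [Nat.card_zpowers, hy, hE, pow_two]

/-- a nonabelian finite `p`-group has a noncentral element of the second centre -/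
theorem exists_second_center [Finite Q] {p : ℕ} [Fact p.Prime] (hQ : IsPGroup p Q)
    (hnc : ¬ ∀ a b : Q, a * b = b * a) :
    ∃ w : Q, w ∉ center Q ∧ ∀ g : Q, ⁅g, w⁆ ∈ center Q := by
  have hZne : center Q ≠ ⊤ := by
    intro h
    apply hnc
    intro a b
    have : b ∈ center Q := h ▸ mem_top b
    exact Subgroup.mem_center_iff.mp this a
  have : Nontrivial (Q ⧸ center Q) := QuotientGroup.nontrivial_iff.mpr hZne
  have hqp : IsPGroup p (Q ⧸ center Q) := hQ.to_quotient _
  have hcn : Nontrivial (center (Q ⧸ center Q)) := hqp.center_nontrivial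
  obtain ⟨⟨wb, hwb⟩, hwb1⟩ := exists_ne (1 : center (Q ⧸ center Q))
  obtain ⟨w, rfl⟩ := QuotientGroup.mk_surjective wb
  refine ⟨w, ?_, ?_⟩
  · intro h
    apply hwb1
    apply Subtype.ext
    exact (QuotientGroup.eq_one_iff w).mpr h
  · intro g
    rw [← QuotientGroup.eq_one_iff, commutatorElement_def]
    simp only [QuotientGroup.mk_mul, QuotientGroup.mk_inv]
    have := Subgroup.mem_center_iff.mp hwb (g : Q ⧸ center Q)
    rw [this]; group

/-- an abelian subgroup of order `p ^ 3` in a nonabelian group of exponent `p` and order at least `p ^ 4` -/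
theorem exists_abelian_cube [Finite Q] {p : ℕ} [Fact p.Prime] (hQ : IsPGroup p Q)
    (hexp : ∀ x : Q, x ^ p = 1) (n : ℕ) (hn : Nat.card Q = p ^ n) (hn4 : 4 ≤ n)
    (w : Q) (hwZ : w ∉ center Q) (hw : ∀ g : Q, ⁅g, w⁆ ∈ center Q) :
    ∃ A3 : Subgroup Q, Nat.card A3 = p * (p * p) ∧ ∀ a ∈ A3, ∀ b ∈ A3, a * b = b * a := by
  have hp : p.Prime := Fact.out
  have hw1 : w ≠ 1 := fun h => hwZ (h ▸ one_mem _)
  have hwo : orderOf w = p := orderOf_eq_prime (hexp w) hw1
  have hcent : ∀ a ∈ center Q, ∀ b : Q, a * b = b * a := fun a ha b =>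
    (Subgroup.mem_center_iff.mp ha b).symm
  obtain ⟨cz, hcz⟩ := IsPGroup.iff_card.mp (hQ.to_subgroup (center Q))
  by_cases h2 : 2 ≤ cz
  · obtain ⟨Z1, -, hZ1le, hZ1⟩ := Cfsg.Agent.Lib.Helper11.exists_between_pgroup
      (L := (⊥ : Subgroup Q)) (K := center Q) (a := 0) (b := 2) (c := cz) (by simp) hcz bot_le
      (by omega) h2
    refine ⟨Z1 ⊔ zpowers w, ?_, ?_⟩
    · rw [card_sup_zpowers_prime hp Z1 w hwo (fun h => hwZ (hZ1le h)) (by
        intro k hk
        rw [conj_of_mem_center (hZ1le hk)]; exact hk), hZ1, pow_two]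
    · exact comm_sup_zpowers Z1 w (fun a ha b _ => hcent a (hZ1le ha) b)
        (fun a ha => hcent a (hZ1le ha) w)
  · -- the centre has order `p`
    have hnt : Nontrivial Q := ⟨⟨w, 1, hw1⟩⟩
    have hZnt : Nontrivial (center Q) := hQ.center_nontrivial
    have hcz1 : cz = 1 := by
      have := Finite.one_lt_card_iff_nontrivial.mpr hZnt
      rw [hcz] at this
      have : cz ≠ 0 := by
        intro h; rw [h, pow_zero] at this; omega
      omega
    rw [hcz1, pow_one] at hcz
    obtain ⟨cc, hcc⟩ := IsPGroup.iff_card.mp (hQ.to_subgroup (centralizer {w}))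
    have hcc3 : 3 ≤ cc := by
      have := card_centralizer_mul_ge w hw
      rw [hn, hcc, hcz, ← pow_succ] at this
      have := (Nat.pow_dvd_pow_iff_le_right hp.one_lt).mp this
      omega
    have hM : Nat.card ↥(center Q ⊔ zpowers w) = p * p := by
      rw [card_sup_zpowers_prime hp (center Q) w hwo hwZ (by
        intro k hk
        rw [conj_of_mem_center hk]; exact hk), hcz]
    have hMc : ∀ a ∈ center Q ⊔ zpowers w, ∀ b ∈ center Q ⊔ zpowers w, a * b = b * a :=
      comm_sup_zpowers (center Q) w (fun a ha b _ => hcent a ha b) (fun a ha => hcent a ha w)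
    have hMC : center Q ⊔ zpowers w ≤ centralizer {w} := by
      apply sup_le (Subgroup.center_le_centralizer _)
      rw [zpowers_le, Subgroup.mem_centralizer_singleton_iff]
    obtain ⟨v, hvC, hvM⟩ : ∃ v ∈ centralizer {w}, v ∉ center Q ⊔ zpowers w := by
      by_contra h
      push Not at h
      have hle : centralizer {w} ≤ center Q ⊔ zpowers w := h
      have := Subgroup.card_le_of_le hle
      rw [hcc, hM, ← pow_two] at this
      have := (Nat.pow_le_pow_iff_right hp.one_lt).mp this
      omega
    have hv1 : v ≠ 1 := fun h => hvM (h ▸ one_mem _)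
    have hvo : orderOf v = p := orderOf_eq_prime (hexp v) hv1
    have hvw : v * w = w * v := Subgroup.mem_centralizer_singleton_iff.mp hvC
    have hvcomm : ∀ a ∈ center Q ⊔ zpowers w, a * v = v * a := by
      intro a ha
      have : center Q ⊔ zpowers w ≤ centralizer {v} := by
        apply sup_le (Subgroup.center_le_centralizer _)
        rw [zpowers_le, Subgroup.mem_centralizer_singleton_iff]
        exact hvw.symm
      exact Subgroup.mem_centralizer_singleton_iff.mp (this ha)
    refine ⟨(center Q ⊔ zpowers w) ⊔ zpowers v, ?_, ?_⟩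
    · rw [card_sup_zpowers_prime hp _ v hvo hvM (by
        intro k hk
        have : v * k * v⁻¹ = k := by rw [← hvcomm k hk]; group
        rw [this]; exact hk), hM]
    · exact comm_sup_zpowers _ v hMc hvcomm

/-- a nonabelian subgroup of order `p ^ 3` in a nonabelian group of exponent `p` -/
theorem exists_nonabelian_cube [Finite Q] {p : ℕ} [Fact p.Prime]
    (hexp : ∀ x : Q, x ^ p = 1)
    (w : Q) (hwZ : w ∉ center Q) (hw : ∀ g : Q, ⁅g, w⁆ ∈ center Q) :
    ∃ H3 : Subgroup Q, Nat.card H3 = p * (p * p) ∧ ¬ ∀ a ∈ H3, ∀ b ∈ H3, a * b = b * a := by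
  have hp : p.Prime := Fact.out
  have hw1 : w ≠ 1 := fun h => hwZ (h ▸ one_mem _)
  have hwo : orderOf w = p := orderOf_eq_prime (hexp w) hw1
  obtain ⟨x, hx⟩ : ∃ x, x * w ≠ w * x := by
    by_contra h
    push Not at h
    exact hwZ (Subgroup.mem_center_iff.mpr h)
  obtain ⟨c, hcdef⟩ : ∃ c, c = ⁅x, w⁆ := ⟨_, rfl⟩
  have hcZ : c ∈ center Q := hcdef ▸ hw x
  have hc1 : c ≠ 1 := by
    rw [hcdef]
    intro h
    exact hx (commutatorElement_eq_one_iff_mul_comm.mp h)
  have hco : orderOf c = p := orderOf_eq_prime (hexp c) hc1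
  have hx1 : x ≠ 1 := by
    intro h; apply hx; rw [h, one_mul, mul_one]
  have hxo : orderOf x = p := orderOf_eq_prime (hexp x) hx1
  have hcle : zpowers c ≤ center Q := zpowers_le.mpr hcZ
  have hcent : ∀ a ∈ center Q, ∀ b : Q, a * b = b * a := fun a ha b =>
    (Subgroup.mem_center_iff.mp ha b).symm
  have hK : Nat.card ↥(zpowers c ⊔ zpowers w) = p * p := by
    rw [card_sup_zpowers_prime hp (zpowers c) w hwo (fun h => hwZ (hcle h)) (by
      intro k hk
      rw [conj_of_mem_center (hcle hk)]; exact hk), Nat.card_zpowers, hco]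
  have hKc : ∀ a ∈ zpowers c ⊔ zpowers w, ∀ b ∈ zpowers c ⊔ zpowers w, a * b = b * a :=
    comm_sup_zpowers (zpowers c) w (fun a ha b _ => hcent a (hcle ha) b)
      (fun a ha => hcent a (hcle ha) w)
  have hxK : x ∉ zpowers c ⊔ zpowers w := by
    intro h
    exact hx (hKc x h w (le_sup_right (a := zpowers c) (mem_zpowers w)))
  have hmap : (zpowers c ⊔ zpowers w).map (MulAut.conj x).toMonoidHom ≤ zpowers c ⊔ zpowers w := by
    rw [Subgroup.map_sup, MonoidHom.map_zpowers, MonoidHom.map_zpowers]
    apply sup_le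
    · rw [zpowers_le]
      show x * c * x⁻¹ ∈ _
      rw [conj_of_mem_center hcZ]
      exact le_sup_left (a := zpowers c) (mem_zpowers c)
    · rw [zpowers_le]
      show x * w * x⁻¹ ∈ _
      have : x * w * x⁻¹ = c * w := by
        rw [hcdef, commutatorElement_def]; group
      rw [this]
      exact mul_mem (le_sup_left (a := zpowers c) (mem_zpowers c))
        (le_sup_right (a := zpowers c) (mem_zpowers w))
  refine ⟨(zpowers c ⊔ zpowers w) ⊔ zpowers x, ?_, ?_⟩
  · rw [card_sup_zpowers_prime hp _ x hxo hxK (by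
      intro k hk
      exact hmap (Subgroup.mem_map_of_mem _ hk)), hK]
  · intro h
    apply hx
    apply h
    · exact le_sup_right (a := zpowers c ⊔ zpowers w) (mem_zpowers x)
    · exact le_sup_left (a := zpowers c ⊔ zpowers w) (le_sup_right (a := zpowers c) (mem_zpowers w))

/-- The purely `p`-group theoretic statement. -/
theorem main [Finite Q] {p : ℕ} [Fact p.Prime] (hQ : IsPGroup p Q)
    (hcyc : ∀ H K : Subgroup Q, Nat.card H = Nat.card K → IsCyclic H → IsCyclic K)
    (hcomm : ∀ H K : Subgroup Q, Nat.card H = Nat.card K → (∀ a ∈ H, ∀ b ∈ H, a * b = b * a) →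
      (∀ a ∈ K, ∀ b ∈ K, a * b = b * a)) :
    IsCyclic Q ∨ ((∀ a b : Q, a * b = b * a) ∧ ∀ a : Q, a ^ p = 1) ∨
      (p = 2 ∧ Nonempty (Q ≃* QuaternionGroup 2)) ∨
      (p ≠ 2 ∧ (¬ ∀ a b : Q, a * b = b * a) ∧ Nat.card Q = p ^ 3 ∧ Monoid.exponent Q = p) := by
  have hp : p.Prime := Fact.out
  by_cases hU : ∀ A B : Subgroup Q, Nat.card A = p → Nat.card B = p → A = B
  · rcases unique_case hQ hcyc hU with h | h
    · exact Or.inl h
    · exact Or.inr (Or.inr (Or.inl h))
  · push Not at hU
    obtain ⟨A, B, hA, hB, hAB⟩ := hU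
    have hexp := exponent_case hQ hcyc A B hA hB hAB
    by_cases hab : ∀ a b : Q, a * b = b * a
    · exact Or.inr (Or.inl ⟨hab, hexp⟩)
    · right; right; right
      obtain ⟨n, hn⟩ := IsPGroup.iff_card.mp hQ
      have hp2 : p ≠ 2 := by
        intro h
        apply hab
        intro a b
        have hinv : ∀ g : Q, g⁻¹ = g := by
          intro g
          rw [inv_eq_iff_mul_eq_one, ← pow_two]
          have := hexp g
          rwa [h] at this
        calc a * b = (a * b)⁻¹ := (hinv _).symm
          _ = b⁻¹ * a⁻¹ := mul_inv_rev a b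
          _ = b * a := by rw [hinv a, hinv b]
      have hexd : Monoid.exponent Q ∣ p := Monoid.exponent_dvd_of_forall_pow_eq_one hexp
      have hex : Monoid.exponent Q = p := by
        rcases (Nat.dvd_prime hp).mp hexd with h | h
        · exfalso
          have : Subsingleton Q := Monoid.exp_eq_one_iff.mp h
          apply hab
          intro a b
          exact Subsingleton.elim _ _
        · exact h
      have hn3 : 3 ≤ n := by
        by_contra h
        push Not at h
        apply hab
        interval_cases n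
        · rw [pow_zero] at hn
          have : Subsingleton Q := (Nat.card_eq_one_iff_unique.mp hn).1
          intro a b
          exact Subsingleton.elim _ _
        · rw [pow_one] at hn
          have : IsCyclic Q := isCyclic_of_prime_card hn
          intro a b
          obtain ⟨g, hg⟩ := IsCyclic.exists_generator (α := Q)
          obtain ⟨i, rfl⟩ := Subgroup.mem_zpowers_iff.mp (hg a)
          obtain ⟨j, rfl⟩ := Subgroup.mem_zpowers_iff.mp (hg b)
          rw [← zpow_add, ← zpow_add, add_comm]
        · intro a b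
          exact (IsPGroup.isMulCommutative_of_card_eq_prime_sq hn).is_comm.comm a b
      have hn3' : n ≤ 3 := by
        by_contra h
        push Not at h
        obtain ⟨w, hwZ, hw⟩ := exists_second_center hQ hab
        obtain ⟨A3, hA3, hA3c⟩ := exists_abelian_cube hQ hexp n hn (by omega) w hwZ hw
        obtain ⟨H3, hH3, hH3c⟩ := exists_nonabelian_cube hexp w hwZ hw
        exact hH3c (hcomm A3 H3 (hA3.trans hH3.symm) hA3c)
      have : n = 3 := by omega
      subst this
      exact ⟨hp2, hab, hn, hex⟩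


/-- Let p be a prime and G a finite group in which any two p-subgroups of the same order are conjugate, with Sylow p-subgroup P. Then P is cyclic, or elementary abelian, or p = 2 and P is a quaternion group of order 8, or p is odd and P is non-abelian of order p³ and exponent p. -/
theorem result {G : Type*} [Group G] [Finite G]
    {p : ℕ} [Fact p.Prime] (hC : ∀ H K : Subgroup G, IsPGroup p H → IsPGroup p K → Nat.card H = Nat.card K →
      ∃ g : G, K = H.map (MulAut.conj g).toMonoidHom) (P : Sylow p G) :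
    IsCyclic P ∨ Cfsg.IsElementaryAbelian p (P : Subgroup G) ∨
      (p = 2 ∧ Nonempty ((P : Subgroup G) ≃* QuaternionGroup 2)) ∨
      (p ≠ 2 ∧ ¬ IsMulCommutative P ∧ Nat.card P = p ^ 3 ∧ Monoid.exponent P = p) := by
  have hQ : IsPGroup p (P : Subgroup G) := P.isPGroup'
  have hiso : ∀ H K : Subgroup (P : Subgroup G), Nat.card H = Nat.card K → Nonempty (H ≃* K) := by
    intro H K hHK
    have hH : IsPGroup p (H.map (P : Subgroup G).subtype) := (hQ.to_subgroup H).map _
    have hK : IsPGroup p (K.map (P : Subgroup G).subtype) := (hQ.to_subgroup K).map _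
    have e1 : H ≃* H.map (P : Subgroup G).subtype :=
      H.equivMapOfInjective _ (Subgroup.subtype_injective _)
    have e2 : K ≃* K.map (P : Subgroup G).subtype :=
      K.equivMapOfInjective _ (Subgroup.subtype_injective _)
    have hc : Nat.card (H.map (P : Subgroup G).subtype) = Nat.card (K.map (P : Subgroup G).subtype) := by
      rw [← Nat.card_congr e1.toEquiv, ← Nat.card_congr e2.toEquiv, hHK]
    obtain ⟨g, hg⟩ := hC _ _ hH hK hc
    have e3 : H.map (P : Subgroup G).subtype ≃*
        (H.map (P : Subgroup G).subtype).map (MulAut.conj g).toMonoidHom :=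
      Subgroup.equivMapOfInjective _ _ (MulAut.conj g).injective
    exact ⟨e1.trans (e3.trans ((MulEquiv.subgroupCongr hg.symm).trans e2.symm))⟩
  have hcyc : ∀ H K : Subgroup (P : Subgroup G), Nat.card H = Nat.card K → IsCyclic H → IsCyclic K := by
    intro H K hHK hHc
    obtain ⟨e⟩ := hiso H K hHK
    exact e.isCyclic.mp hHc
  have hcomm : ∀ H K : Subgroup (P : Subgroup G), Nat.card H = Nat.card K →
      (∀ a ∈ H, ∀ b ∈ H, a * b = b * a) → (∀ a ∈ K, ∀ b ∈ K, a * b = b * a) := by
    intro H K hHK hH a ha b hb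
    obtain ⟨e⟩ := hiso H K hHK
    have h1 := hH (e.symm ⟨a, ha⟩ : (P : Subgroup G)) (e.symm ⟨a, ha⟩).2
      (e.symm ⟨b, hb⟩ : (P : Subgroup G)) (e.symm ⟨b, hb⟩).2
    have h2 : e.symm ⟨a, ha⟩ * e.symm ⟨b, hb⟩ = e.symm ⟨b, hb⟩ * e.symm ⟨a, ha⟩ := Subtype.ext h1
    rw [← map_mul, ← map_mul] at h2
    have h3 := e.symm.injective h2
    exact congrArg Subtype.val h3
  rcases main hQ hcyc hcomm with h | ⟨h1, h2⟩ | ⟨h1, h2⟩ | ⟨h1, h2, h3, h4⟩
  · exact Or.inl h
  · refine Or.inr (Or.inl ⟨⟨⟨h1⟩⟩, ?_⟩)
    intro a ha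
    have := h2 ⟨a, ha⟩
    exact congrArg Subtype.val this
  · exact Or.inr (Or.inr (Or.inl ⟨h1, h2⟩))
  · refine Or.inr (Or.inr (Or.inr ⟨h1, ?_, h3, h4⟩))
    intro h
    apply h2
    intro a b
    exact h.is_comm.comm a b

end Cfsg.Agent.S4023
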