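import Cfsg.Statements.S4024
import Mathlib
import Cfsg.Agent.S4023
import Cfsg.Agent.Lib.Helper12.PPrimeP
import Cfsg.Agent.Lib.Helper24.PSolvable
-- import your own Cfsg.Agent.* helpers here

set_option autoImplicit false
open Cfsg

namespace Cfsg.Agent.S4024

open Subgroup

/-- `O_{p',p}` is characteristic. -/
theorem pPrimePCore_characteristic {X : Type*} [Group X] [Finite X] (p : ℕ) [Fact p.Prime] :
    (Cfsg.pPrimePCore p X).Characteristic := by
  rw [Subgroup.characteristic_iff_map_le]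
  intro φ
  obtain ⟨O, hOdef⟩ : ∃ O, O = Cfsg.pPrimeCore p X := ⟨_, rfl⟩
  have hOn : O.Normal := hOdef ▸ Cfsg.Agent.Lib.Helper12.pPrimeCore_normal' p
  have hOchar : O.Characteristic := hOdef ▸ Cfsg.Agent.Lib.Helper12.pPrimeCore_characteristic p
  have hKdef : Cfsg.pPrimePCore p X = (Cfsg.pCore p (X ⧸ O)).comap (QuotientGroup.mk' O) := by
    subst hOdef; rfl
  have hOmap : O.map φ.toMonoidHom = O := Subgroup.characteristic_iff_map_eq.mp hOchar φ
  have hOK : O ≤ Cfsg.pPrimePCore p X := hOdef ▸ Cfsg.Agent.Lib.Helper12.pPrimeCore_le_pPrimePCore p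
  have hON : O ≤ (Cfsg.pPrimePCore p X).map φ.toMonoidHom := by
    rw [← hOmap]; exact Subgroup.map_mono hOK
  have hKn : (Cfsg.pPrimePCore p X).Normal := Cfsg.Agent.Lib.Helper12.pPrimePCore_normal' p
  have hNn : ((Cfsg.pPrimePCore p X).map φ.toMonoidHom).Normal :=
    Subgroup.Normal.map hKn _ φ.surjective
  have hN'n : (((Cfsg.pPrimePCore p X).map φ.toMonoidHom).map (QuotientGroup.mk' O)).Normal :=
    Subgroup.Normal.map hNn _ (QuotientGroup.mk'_surjective O)
  have hcomap : (((Cfsg.pPrimePCore p X).map φ.toMonoidHom).map (QuotientGroup.mk' O)).comap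
      (QuotientGroup.mk' O) = (Cfsg.pPrimePCore p X).map φ.toMonoidHom := by
    apply Subgroup.comap_map_eq_self
    rw [QuotientGroup.ker_mk']; exact hON
  have hc1 := Cfsg.Agent.Lib.Helper12.card_comap_mk' O
    (((Cfsg.pPrimePCore p X).map φ.toMonoidHom).map (QuotientGroup.mk' O))
  rw [hcomap, Subgroup.card_map_of_injective φ.injective] at hc1
  have hc2 := Cfsg.Agent.Lib.Helper12.card_comap_mk' O (Cfsg.pCore p (X ⧸ O))
  rw [← hKdef, hc1] at hc2
  have hpos : 0 < Nat.card O := Nat.card_pos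
  have hc3 := Nat.eq_of_mul_eq_mul_left hpos hc2
  obtain ⟨a, ha⟩ := (IsPGroup.iff_card (p := p)).mp
    (Cfsg.Agent.Lib.Helper12.pCore_isPGroup' (X := X ⧸ O) p)
  have hN'p : IsPGroup p (((Cfsg.pPrimePCore p X).map φ.toMonoidHom).map (QuotientGroup.mk' O)) :=
    IsPGroup.of_card (hc3.trans ha)
  have hle := Cfsg.Agent.Lib.Helper12.le_pCore' p _ hN'n hN'p
  rw [hKdef]
  intro x hx
  rw [← hKdef] at hx
  rw [Subgroup.mem_comap]
  exact hle (Subgroup.mem_map_of_mem _ hx)

variable {G : Type*} [Group G] [Finite G] {p : ℕ} [Fact p.Prime]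

/-- If all subgroups of order `p` are conjugate and `P` has exponent `p`, then `P` lies in every normal
subgroup of order divisible by `p`. -/
theorem sylow_le_normal_of_exp
    (hC : ∀ H K : Subgroup G, IsPGroup p H → IsPGroup p K → Nat.card H = Nat.card K →
      ∃ g : G, K = H.map (MulAut.conj g).toMonoidHom) (P : Sylow p G)
    (hexp : ∀ x ∈ (P : Subgroup G), x ^ p = 1) (N : Subgroup G) [N.Normal] (hdiv : p ∣ Nat.card N) :
    (P : Subgroup G) ≤ N := by
  have hp : p.Prime := Fact.out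
  obtain ⟨y, hy⟩ := exists_prime_orderOf_dvd_card' p hdiv
  have hyo : orderOf (y : G) = p := by rw [Subgroup.orderOf_coe]; exact hy
  have hA : Nat.card (zpowers (y : G)) = p := by rw [Nat.card_zpowers, hyo]
  have hAp : IsPGroup p (zpowers (y : G)) := IsPGroup.of_card (n := 1) (by rw [hA, pow_one])
  have hAN : zpowers (y : G) ≤ N := zpowers_le.mpr y.2
  intro x hx
  by_cases hx1 : x = 1
  · rw [hx1]; exact one_mem _
  have hxo : orderOf x = p := orderOf_eq_prime (hexp x hx) hx1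
  have hB : Nat.card (zpowers x) = p := by rw [Nat.card_zpowers, hxo]
  have hBp : IsPGroup p (zpowers x) := IsPGroup.of_card (n := 1) (by rw [hB, pow_one])
  obtain ⟨g, hg⟩ := hC _ _ hAp hBp (hA.trans hB.symm)
  have : x ∈ (zpowers (y : G)).map (MulAut.conj g).toMonoidHom := hg ▸ mem_zpowers x
  obtain ⟨w, hw, rfl⟩ := Subgroup.mem_map.mp this
  show g * w * g⁻¹ ∈ N
  exact (inferInstance : N.Normal).conj_mem w (hAN hw) g

/-- The configuration `P ≤ K = O P` with `O`, `K` normal is impossible for nonabelian `P` of exponent `p`. -/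
theorem final_contra
    (hC : ∀ H K : Subgroup G, IsPGroup p H → IsPGroup p K → Nat.card H = Nat.card K →
      ∃ g : G, K = H.map (MulAut.conj g).toMonoidHom) (P : Sylow p G)
    (hexp : ∀ x ∈ (P : Subgroup G), x ^ p = 1)
    (hnc : ∃ a ∈ (P : Subgroup G), ∃ b ∈ (P : Subgroup G), a * b ≠ b * a)
    (O K : Subgroup G) [hOn : O.Normal] [hKn : K.Normal] (hO : (Nat.card O).Coprime p) (hOK : O ≤ K)
    (a : ℕ) (hK : Nat.card K = Nat.card O * p ^ a) (hPK : (P : Subgroup G) ≤ K) : False := by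
  have hp : p.Prime := Fact.out
  obtain ⟨x, hxP, y, hyP, hxy⟩ := hnc
  have hx1 : x ≠ 1 := by
    intro h; apply hxy; rw [h, one_mul, mul_one]
  have hnt : Nontrivial (P : Subgroup G) :=
    ⟨⟨⟨x, hxP⟩, 1, fun h => hx1 (congrArg Subtype.val h)⟩⟩
  obtain ⟨z, hzc, hzo⟩ := Cfsg.Agent.S4023.exists_central_order_p (P.isPGroup')
  have hzo' : orderOf (z : G) = p := by rw [Subgroup.orderOf_coe]; exact hzo
  have hzcent : ∀ u ∈ (P : Subgroup G), ∀ t ∈ zpowers (z : G), t * u = u * t := by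
    intro u hu t ht
    have h1 : (z : G) * u = u * z := by
      have := Subgroup.mem_center_iff.mp hzc ⟨u, hu⟩
      exact (congrArg Subtype.val this).symm
    have : zpowers (z : G) ≤ centralizer {u} := by
      rw [zpowers_le, Subgroup.mem_centralizer_singleton_iff]; exact h1
    exact Subgroup.mem_centralizer_singleton_iff.mp (this ht)
  have hzP : zpowers (z : G) ≤ (P : Subgroup G) := zpowers_le.mpr z.2
  -- conjugating `x` into `zpowers z`
  have hxo : orderOf x = p := orderOf_eq_prime (hexp x hxP) hx1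
  have hA : Nat.card (zpowers x) = p := by rw [Nat.card_zpowers, hxo]
  have hB : Nat.card (zpowers (z : G)) = p := by rw [Nat.card_zpowers, hzo']
  obtain ⟨g, hg⟩ := hC (zpowers x) (zpowers (z : G))
    (IsPGroup.of_card (n := 1) (by rw [hA, pow_one]))
    (IsPGroup.of_card (n := 1) (by rw [hB, pow_one])) (hA.trans hB.symm)
  have ht : g * x * g⁻¹ ∈ zpowers (z : G) := by
    rw [hg]
    exact Subgroup.mem_map_of_mem _ (mem_zpowers x)
  -- `K = O P`
  have hOP : O ⊓ (P : Subgroup G) = ⊥ :=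
    Cfsg.Agent.Lib.Helper12.inf_eq_bot_of_coprime_of_isPGroup hO P.isPGroup'
  have hKle : K ≤ O ⊔ (P : Subgroup G) := by
    have hle : O ⊔ (P : Subgroup G) ≤ K := sup_le hOK hPK
    have hcard : Nat.card ↥(O ⊔ (P : Subgroup G)) = Nat.card O * Nat.card (P : Subgroup G) := by
      have := Cfsg.Agent.Lib.Helper4.card_sup_mul_card_inf (P : Subgroup G) O
        (le_normalizer_of_normal)
      rw [inf_comm, hOP, Subgroup.card_bot, mul_one, sup_comm, mul_comm] at this
      exact this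
    have hdvd : p ^ a ∣ Nat.card (P : Subgroup G) := by
      apply P.pow_dvd_card_of_pow_dvd_card
      exact dvd_trans (Dvd.intro_left _ hK.symm) (Subgroup.card_subgroup_dvd_card K)
    have hge : Nat.card K ≤ Nat.card ↥(O ⊔ (P : Subgroup G)) := by
      rw [hK, hcard]
      exact Nat.mul_le_mul_left _ (Nat.le_of_dvd Nat.card_pos hdvd)
    rw [← Subgroup.eq_of_le_of_card_ge hle hge]
  -- Frattini
  have hfr : normalizer ((P : Subgroup G) : Set G) ⊔ K = ⊤ := Sylow.normalizer_sup_eq_top' P hPK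
  obtain ⟨n, hn, k, hk, hnk⟩ := Subgroup.mem_sup_of_normal_right.mp (hfr ▸ mem_top g)
  obtain ⟨o, ho, u, hu, hou⟩ := Subgroup.mem_sup_of_normal_left.mp (hKle hk)
  -- x1 = u x u⁻¹ ∈ P
  have hx1P : u * x * u⁻¹ ∈ (P : Subgroup G) := mul_mem (mul_mem hu hxP) (inv_mem hu)
  -- x2 = o x1 o⁻¹ ∈ P since n x2 n⁻¹ ∈ zpowers z ≤ P
  have hnx2 : n * (o * (u * x * u⁻¹) * o⁻¹) * n⁻¹ = g * x * g⁻¹ := by
    rw [← hnk, ← hou]; group
  have hx2P : o * (u * x * u⁻¹) * o⁻¹ ∈ (P : Subgroup G) := by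
    have h1 : n * (o * (u * x * u⁻¹) * o⁻¹) * n⁻¹ ∈ (P : Subgroup G) := by
      rw [hnx2]; exact hzP ht
    exact (Subgroup.mem_normalizer_iff.mp hn _).mpr h1
  have hcomm1 : o * (u * x * u⁻¹) * o⁻¹ * (u * x * u⁻¹)⁻¹ ∈ O ⊓ (P : Subgroup G) := by
    refine Subgroup.mem_inf.mpr ⟨?_, mul_mem hx2P (inv_mem hx1P)⟩
    have : o * (u * x * u⁻¹) * o⁻¹ * (u * x * u⁻¹)⁻¹ =
        o * ((u * x * u⁻¹) * o⁻¹ * (u * x * u⁻¹)⁻¹) := by group
    rw [this]
    exact mul_mem ho (hOn.conj_mem _ (inv_mem ho) _)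
  rw [hOP, Subgroup.mem_bot] at hcomm1
  have hx2eq : o * (u * x * u⁻¹) * o⁻¹ = u * x * u⁻¹ := by
    rw [← mul_inv_eq_one]; exact hcomm1
  rw [hx2eq] at hnx2
  -- u x u⁻¹ = n⁻¹ t n is central in P
  apply hxy
  -- first: x1 commutes with everything in P
  have hx1c : ∀ v ∈ (P : Subgroup G), (u * x * u⁻¹) * v = v * (u * x * u⁻¹) := by
    intro v hv
    have hnv : n * v * n⁻¹ ∈ (P : Subgroup G) := (Subgroup.mem_normalizer_iff.mp hn v).mp hv
    have h1 := hzcent (n * v * n⁻¹) hnv _ ht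
    rw [← hnx2] at h1
    have h2 : n * ((u * x * u⁻¹) * v) * n⁻¹ = n * (v * (u * x * u⁻¹)) * n⁻¹ := by
      calc n * ((u * x * u⁻¹) * v) * n⁻¹ = (n * (u * x * u⁻¹) * n⁻¹) * (n * v * n⁻¹) := by group
        _ = (n * v * n⁻¹) * (n * (u * x * u⁻¹) * n⁻¹) := h1
        _ = n * (v * (u * x * u⁻¹)) * n⁻¹ := by group
    exact mul_left_cancel (mul_right_cancel h2)
  have h3 := hx1c (u * y * u⁻¹) (mul_mem (mul_mem hu hyP) (inv_mem hu))
  have h4 : u * (x * y) * u⁻¹ = u * (y * x) * u⁻¹ := by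
    calc u * (x * y) * u⁻¹ = (u * x * u⁻¹) * (u * y * u⁻¹) := by group
      _ = (u * y * u⁻¹) * (u * x * u⁻¹) := h3
      _ = u * (y * x) * u⁻¹ := by group
  exact mul_left_cancel (mul_right_cancel h4)


/-- Let p be an odd prime and G a finite group in which any two p-subgroups of the same order are conjugate, with Sylow p-subgroup P. If H is a normal p-solvable subgroup of G whose order is divisible by p, then P is abelian, and either P ≤ H or P is cyclic. -/
theorem result {G : Type*} [Group G] [Finite G]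
    {p : ℕ} [Fact p.Prime] (hp : p ≠ 2) (hC : ∀ H K : Subgroup G, IsPGroup p H → IsPGroup p K → Nat.card H = Nat.card K →
      ∃ g : G, K = H.map (MulAut.conj g).toMonoidHom) (P : Sylow p G)
    (H : Subgroup G) [H.Normal] (hsolv : Cfsg.IsPSolvable p H) (hdiv : p ∣ Nat.card H) :
    IsMulCommutative P ∧ ((P : Subgroup G) ≤ H ∨ IsCyclic P) := by
  have hpp : p.Prime := Fact.out
  rcases Cfsg.Agent.S4023.result hC P with h | h | h | ⟨-, hnc, -, hex⟩
  · refine ⟨?_, Or.inr h⟩
    obtain ⟨g, hg⟩ := IsCyclic.exists_generator (α := P)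
    refine ⟨⟨fun a b => ?_⟩⟩
    obtain ⟨i, rfl⟩ := Subgroup.mem_zpowers_iff.mp (hg a)
    obtain ⟨j, rfl⟩ := Subgroup.mem_zpowers_iff.mp (hg b)
    rw [← zpow_add, ← zpow_add, add_comm]
  · exact ⟨h.1, Or.inl (sylow_le_normal_of_exp hC P h.2 H hdiv)⟩
  · exact absurd h.1 hp
  · exfalso
    have hexp : ∀ x ∈ (P : Subgroup G), x ^ p = 1 := by
      intro x hx
      have := Monoid.pow_exponent_eq_one (⟨x, hx⟩ : (P : Subgroup G))
      rw [hex] at this
      exact congrArg Subtype.val this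
    have hnc' : ∃ a ∈ (P : Subgroup G), ∃ b ∈ (P : Subgroup G), a * b ≠ b * a := by
      by_contra hcon
      push Not at hcon
      apply hnc
      exact ⟨⟨fun a b => Subtype.ext (hcon a a.2 b b.2)⟩⟩
    -- the characteristic subgroups of `H`
    have hOchar : (Cfsg.pPrimeCore p H).Characteristic :=
      Cfsg.Agent.Lib.Helper12.pPrimeCore_characteristic p
    have hKchar : (Cfsg.pPrimePCore p H).Characteristic := pPrimePCore_characteristic p
    have hOn : ((Cfsg.pPrimeCore p H).map H.subtype).Normal := inferInstance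
    have hKn : ((Cfsg.pPrimePCore p H).map H.subtype).Normal := inferInstance
    have hOcop : (Nat.card ((Cfsg.pPrimeCore p H).map H.subtype)).Coprime p := by
      rw [Subgroup.card_map_of_injective (Subgroup.subtype_injective H)]
      exact Cfsg.Agent.Lib.Helper12.pPrimeCore_coprime p
    have hOK : (Cfsg.pPrimeCore p H).map H.subtype ≤ (Cfsg.pPrimePCore p H).map H.subtype :=
      Subgroup.map_mono (Cfsg.Agent.Lib.Helper12.pPrimeCore_le_pPrimePCore p)
    obtain ⟨a, ha⟩ := (IsPGroup.iff_card (p := p)).mp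
      (Cfsg.Agent.Lib.Helper12.pCore_isPGroup' (X := H ⧸ Cfsg.pPrimeCore p H) p)
    have hKcard : Nat.card ((Cfsg.pPrimePCore p H).map H.subtype) =
        Nat.card ((Cfsg.pPrimeCore p H).map H.subtype) * p ^ a := by
      rw [Subgroup.card_map_of_injective (Subgroup.subtype_injective H),
        Subgroup.card_map_of_injective (Subgroup.subtype_injective H), ← ha]
      exact Cfsg.Agent.Lib.Helper12.card_comap_mk' (Cfsg.pPrimeCore p H)
        (Cfsg.pCore p (H ⧸ Cfsg.pPrimeCore p H))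
    have ha0 : a ≠ 0 := by
      intro h0
      rw [h0, pow_zero] at ha
      have hbot : Cfsg.pCore p (H ⧸ Cfsg.pPrimeCore p H) = ⊥ := Subgroup.card_eq_one.mp ha
      have hne : Cfsg.pPrimeCore p H ≠ ⊤ := by
        intro htop
        have h1 := Cfsg.Agent.Lib.Helper12.pPrimeCore_coprime (X := H) p
        rw [htop, Subgroup.card_top] at h1
        have := Nat.Coprime.eq_one_of_dvd h1.symm hdiv
        exact hpp.one_lt.ne' this
      have : Nontrivial (H ⧸ Cfsg.pPrimeCore p H) := QuotientGroup.nontrivial_iff.mpr hne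
      have hps : Cfsg.IsPSolvable p (H ⧸ Cfsg.pPrimeCore p H) :=
        Cfsg.Agent.Lib.Helper24.isPSolvable_of_surjective p (QuotientGroup.mk' _)
          (QuotientGroup.mk'_surjective _) hsolv
      exact Cfsg.Agent.Lib.Helper24.pCore_ne_bot_of_isPSolvable p hps
        (Cfsg.Agent.Lib.Helper24.pPrimeCore_quotient_eq_bot' p) hbot
    have hpK : p ∣ Nat.card ((Cfsg.pPrimePCore p H).map H.subtype) := by
      rw [hKcard]
      exact Dvd.dvd.mul_left (dvd_pow_self p ha0) _
    have hPK := sylow_le_normal_of_exp hC P hexp ((Cfsg.pPrimePCore p H).map H.subtype) hpK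
    exact final_contra hC P hexp hnc' _ _ hOcop hOK a hKcard hPK

end Cfsg.Agent.S4024
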