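import Cfsg.Statements.S4027
import Mathlib
import Cfsg.Agent.Lib.Helper11.RealOdd
-- import your own Cfsg.Agent.* helpers here

set_option autoImplicit false
open Cfsg

namespace Cfsg.Agent.S4027

/-- Let G be a finite group in which every element x of odd order satisfies N_G(⟨x⟩) = C_G(x). Then the Sylow 2-subgroups of G are normal. -/
theorem result {G : Type*} [Group G] [Finite G]
    (hirr : ∀ x : G, (∀ r : ℕ, r.Prime → r ∣ orderOf x → r ≠ 2) →
      Subgroup.normalizer ((Subgroup.zpowers x : Subgroup G) : Set G) ≤ Subgroup.centralizer {x}) (P : Sylow 2 G) :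
    (P : Subgroup G).Normal := by
  apply Cfsg.Agent.Lib.Helper11.normal_sylow_of_no_real_odd P
  intro x hx1 hodd hconj
  obtain ⟨c, hc⟩ := isConj_iff.mp hconj
  have hprime : ∀ r : ℕ, r.Prime → r ∣ orderOf x → r ≠ 2 := by
    intro r _ hrd h2
    subst h2
    exact (Nat.not_even_iff_odd.mpr hodd) (even_iff_two_dvd.mpr hrd)
  have hnorm : c ∈ Subgroup.normalizer ((Subgroup.zpowers x : Subgroup G) : Set G) := by
    have key : ∀ h : G, h ∈ Subgroup.zpowers x → c * h * c⁻¹ ∈ Subgroup.zpowers x := by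
      intro h hh
      obtain ⟨i, rfl⟩ := Subgroup.mem_zpowers_iff.mp hh
      have := (MulAut.conj c).toMonoidHom.map_zpow x i
      simp only [MulEquiv.toMonoidHom_eq_coe, MonoidHom.coe_coe, MulAut.conj_apply] at this
      rw [this, hc]
      exact Subgroup.zpow_mem _ (Subgroup.inv_mem _ (Subgroup.mem_zpowers x)) i
    have key' : ∀ h : G, h ∈ Subgroup.zpowers x → c⁻¹ * h * c ∈ Subgroup.zpowers x := by
      intro h hh
      obtain ⟨i, rfl⟩ := Subgroup.mem_zpowers_iff.mp hh
      have hc' : c⁻¹ * x * c = x⁻¹ := by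
        have h1 : c * x⁻¹ * c⁻¹ = x := by
          have : c * x⁻¹ * c⁻¹ = (c * x * c⁻¹)⁻¹ := by group
          rw [this, hc, inv_inv]
        calc c⁻¹ * x * c = c⁻¹ * (c * x⁻¹ * c⁻¹) * c := by rw [h1]
          _ = x⁻¹ := by group
      have := (MulAut.conj c⁻¹).toMonoidHom.map_zpow x i
      simp only [MulEquiv.toMonoidHom_eq_coe, MonoidHom.coe_coe, MulAut.conj_apply, inv_inv] at this
      rw [this, hc']
      exact Subgroup.zpow_mem _ (Subgroup.inv_mem _ (Subgroup.mem_zpowers x)) i
    rw [Subgroup.mem_normalizer_iff]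
    intro h
    constructor
    · exact key h
    · intro hh
      have := key' _ hh
      have e : c⁻¹ * (c * h * c⁻¹) * c = h := by group
      rwa [e] at this
  have hcent := hirr x hprime hnorm
  rw [Subgroup.mem_centralizer_singleton_iff] at hcent
  -- c commutes with x, so x = x⁻¹
  have hxx : x = x⁻¹ := by
    rw [← hc, hcent, mul_inv_cancel_right]
  have hx2 : x ^ 2 = 1 := by
    rw [pow_two]
    nth_rewrite 2 [hxx]
    exact mul_inv_cancel x
  have hd : orderOf x ∣ 2 := orderOf_dvd_of_pow_eq_one hx2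
  have hcop : Nat.Coprime (orderOf x) 2 := Nat.coprime_two_right.mpr hodd
  exact hx1 (orderOf_eq_one_iff.mp (Nat.Coprime.eq_one_of_dvd hcop hd))

end Cfsg.Agent.S4027
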