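import Cfsg.Statements.S4028
import Mathlib
import Cfsg.Agent.Lib.Helper1.Basic
import Cfsg.Agent.Lib.Helper17.Coprime
-- import your own Cfsg.Agent.* helpers here

set_option autoImplicit false
open Cfsg

namespace Cfsg.Agent.S4028

open Subgroup Pointwise
open Cfsg.Agent.Lib.Helper1

/-- an odd-order element normalizing a cyclic 2-group centralizes it -/
lemma odd_centralizes {G : Type*} [Group G] [Finite G] (x c : G) (n : ℕ)
    (hx : orderOf x = 2 ^ n) (hc : (orderOf c).Coprime 2)
    (hcn : c ∈ Subgroup.normalizer ((zpowers x : Subgroup G) : Set G)) : c * x = x * c := by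
  obtain ⟨H, hH⟩ : ∃ H : Subgroup G, H = zpowers x := ⟨_, rfl⟩
  rw [← hH] at hcn
  have hcyc : IsCyclic H := by rw [hH]; infer_instance
  have hcard : Nat.card H = 2 ^ n := by rw [hH, Nat.card_zpowers, hx]
  have h1 : orderOf (H.normalizerMonoidHom ⟨c, hcn⟩) ∣ orderOf c := by
    have := orderOf_map_dvd H.normalizerMonoidHom (⟨c, hcn⟩ : normalizer (H : Set G))
    rwa [Subgroup.orderOf_mk] at this
  have h2 : orderOf (H.normalizerMonoidHom ⟨c, hcn⟩) ∣ 2 ^ n := by
    have h3 := orderOf_dvd_natCard (H.normalizerMonoidHom ⟨c, hcn⟩)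
    rw [hcyc.card_mulAut, hcard] at h3
    rcases Nat.eq_zero_or_pos n with h0 | h0
    · rw [h0, pow_zero, Nat.totient_one] at h3
      rw [h0, pow_zero]; exact h3
    · rw [Nat.totient_prime_pow Nat.prime_two h0] at h3
      have : 2 ^ (n - 1) * (2 - 1) ∣ 2 ^ n := by
        rw [show 2 - 1 = 1 from rfl, mul_one]
        exact pow_dvd_pow 2 (by omega)
      exact h3.trans this
  have h4 : orderOf (H.normalizerMonoidHom ⟨c, hcn⟩) = 1 := by
    have hcop : (orderOf c).Coprime (2 ^ n) := Nat.Coprime.pow_right n hc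
    exact Nat.eq_one_of_dvd_coprimes hcop h1 h2
  rw [orderOf_eq_one_iff, ← MonoidHom.mem_ker, normalizerMonoidHom_ker, mem_subgroupOf] at h4
  have hxH : x ∈ H := by rw [hH]; exact mem_zpowers x
  have := Subgroup.mem_centralizer_iff.mp h4 x hxH
  exact this.symm


/-- Let G be a finite group with Sylow 2-subgroup P. Then N_G(⟨x⟩) = C_G(x) holds for every 2-element x of G if and only if N_P(⟨y⟩) = C_P(y) holds for every y ∈ P (computed inside P). -/
theorem result {G : Type*} [Group G] [Finite G] (P : Sylow 2 G) :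
    (∀ x : G, (∀ r : ℕ, r.Prime → r ∣ orderOf x → r = 2) →
      Subgroup.normalizer ((Subgroup.zpowers x : Subgroup G) : Set G) ≤ Subgroup.centralizer {x}) ↔
    (∀ y : ↥(P : Subgroup G), Subgroup.normalizer ((Subgroup.zpowers y : Subgroup ↥(P : Subgroup G)) : Set ↥(P : Subgroup G)) ≤
        Subgroup.centralizer {y}) := by
  have : Fact (Nat.Prime 2) := ⟨Nat.prime_two⟩
  constructor
  · intro h y u hu
    have hy2 : ∀ r : ℕ, r.Prime → r ∣ orderOf (y : G) → r = 2 := by
      intro r hr hry
      rw [Subgroup.orderOf_coe] at hry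
      obtain ⟨k, hk⟩ := P.2 y
      have h1 : orderOf y ∣ 2 ^ k := orderOf_dvd_of_pow_eq_one hk
      exact (Nat.prime_dvd_prime_iff_eq hr Nat.prime_two).mp (hr.dvd_of_dvd_pow (hry.trans h1))
    have huy : u * y * u⁻¹ ∈ zpowers y := (Subgroup.mem_normalizer_iff.mp hu y).mp (mem_zpowers y)
    obtain ⟨e, he⟩ := mem_zpowers_iff.mp huy
    have hun : (u : G) ∈ Subgroup.normalizer ((zpowers (y : G) : Subgroup G) : Set G) := by
      apply Cfsg.Agent.Lib.Helper17.mem_normalizer_of_forall_conj_mem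
      intro w hw
      obtain ⟨m, rfl⟩ := mem_zpowers_iff.mp hw
      have h1 : (u : G) * (y : G) ^ m * (u : G)⁻¹ = ((u : G) * (y : G) * (u : G)⁻¹) ^ m := by
        rw [conj_zpow]
      have h2 : (u : G) * (y : G) * (u : G)⁻¹ = (y : G) ^ e := by
        have := congrArg Subtype.val he
        simpa using this.symm
      rw [h1, h2]
      exact zpow_mem (zpow_mem (mem_zpowers _) e) m
    have := h (y : G) hy2 hun
    rw [Subgroup.mem_centralizer_singleton_iff] at this ⊢
    exact Subtype.ext this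
  · intro h x hx2 g hg
    rw [Subgroup.mem_centralizer_singleton_iff]
    have hox : orderOf x = 2 ^ (orderOf x).primeFactorsList.length :=
      Nat.eq_prime_pow_of_unique_prime_dvd (orderOf_pos x).ne' (fun {d} hd hdx => hx2 d hd hdx)
    obtain ⟨n, hn⟩ : ∃ n, orderOf x = 2 ^ n := ⟨_, hox⟩
    obtain ⟨i, j, hdec, ⟨k, hi⟩, hj⟩ := Cfsg.Agent.Lib.Helper17.exists_p_pprime_decomp 2 g
    have hgi : g ^ i ∈ Subgroup.normalizer ((zpowers x : Subgroup G) : Set G) := zpow_mem hg i
    have hgj : g ^ j ∈ Subgroup.normalizer ((zpowers x : Subgroup G) : Set G) := zpow_mem hg j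
    have hcj : g ^ j * x = x * g ^ j := odd_centralizes x (g ^ j) n hn hj hgj
    -- the 2-part
    have hci : g ^ i * x = x * g ^ i := by
      have hT : IsPGroup 2 (zpowers x ⊔ zpowers (g ^ i) : Subgroup G) := by
        apply IsPGroup.to_sup_of_normal_left'
        · exact IsPGroup.of_card (n := n) (by rw [Nat.card_zpowers, hn])
        · exact IsPGroup.of_card (n := k) (by rw [Nat.card_zpowers, hi])
        · rw [zpowers_le]; exact hgi
      obtain ⟨Q, hQ⟩ := hT.exists_le_sylow
      obtain ⟨a, ha⟩ := MulAction.exists_smul_eq G Q P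
      have hxQ : x ∈ (Q : Subgroup G) := hQ (mem_sup_left (mem_zpowers x))
      have hgQ : g ^ i ∈ (Q : Subgroup G) := hQ (mem_sup_right (mem_zpowers _))
      have hxP : a * x * a⁻¹ ∈ (P : Subgroup G) := by
        rw [← ha, mem_sylow_smul_iff]
        have : a⁻¹ * (a * x * a⁻¹) * a = x := by group
        rw [this]; exact hxQ
      have hgP : a * g ^ i * a⁻¹ ∈ (P : Subgroup G) := by
        rw [← ha, mem_sylow_smul_iff]
        have : a⁻¹ * (a * g ^ i * a⁻¹) * a = g ^ i := by group
        rw [this]; exact hgQ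
      have hgx : g ^ i * x * (g ^ i)⁻¹ ∈ zpowers x :=
        (Subgroup.mem_normalizer_iff.mp hgi x).mp (mem_zpowers x)
      obtain ⟨e, he⟩ := mem_zpowers_iff.mp hgx
      have hun : (⟨a * g ^ i * a⁻¹, hgP⟩ : (P : Subgroup G)) ∈
          Subgroup.normalizer ((zpowers (⟨a * x * a⁻¹, hxP⟩ : (P : Subgroup G)) :
            Subgroup (P : Subgroup G)) : Set (P : Subgroup G)) := by
        apply Cfsg.Agent.Lib.Helper17.mem_normalizer_of_forall_conj_mem
        intro w hw
        obtain ⟨m, rfl⟩ := mem_zpowers_iff.mp hw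
        rw [← conj_zpow]
        apply zpow_mem
        rw [mem_zpowers_iff]
        refine ⟨e, ?_⟩
        apply Subtype.ext
        show (a * x * a⁻¹) ^ e = a * g ^ i * a⁻¹ * (a * x * a⁻¹) * (a * g ^ i * a⁻¹)⁻¹
        rw [conj_zpow, he]
        group
      have := h _ hun
      rw [Subgroup.mem_centralizer_singleton_iff] at this
      have h3 := congrArg Subtype.val this
      simp only [Subgroup.coe_mul] at h3
      have h4 : a * (g ^ i * x) * a⁻¹ = a * (x * g ^ i) * a⁻¹ := by
        have e1 : a * (g ^ i * x) * a⁻¹ = a * g ^ i * a⁻¹ * (a * x * a⁻¹) := by group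
        have e2 : a * (x * g ^ i) * a⁻¹ = a * x * a⁻¹ * (a * g ^ i * a⁻¹) := by group
        rw [e1, e2]; exact h3
      exact mul_left_cancel (mul_right_cancel h4)
    calc g * x = g ^ i * g ^ j * x := by rw [← hdec]
      _ = g ^ i * (x * g ^ j) := by rw [mul_assoc, hcj]
      _ = x * (g ^ i * g ^ j) := by rw [← mul_assoc, hci, mul_assoc]
      _ = x * g := by rw [← hdec]

end Cfsg.Agent.S4028
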