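import Cfsg.Statements.S4029
import Mathlib
import Cfsg.Agent.Lib.Helper23.LinTwist
import Cfsg.Agent.Lib.Helper1.PGroup
import Cfsg.Agent.Lib.Lead.CharFS
import Cfsg.Agent.Lib.Helper1.Coprime
-- import your own Cfsg.Agent.* helpers here

set_option autoImplicit false
open Cfsg

namespace Cfsg.Agent.S4029

open Cfsg.Agent.CharLib Cfsg.Agent.Lib.Helper23 Cfsg.Agent.Lib.Helper1
universe u

open scoped IsMulCommutative in
theorem card_hom_of_comm' (Q : Type*) [Group Q] [Finite Q] [IsMulCommutative Q] :
    Nat.card (Q →* ℂˣ) = Nat.card Q := by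
  have hne : NeZero ((Monoid.exponent Q : ℕ) : ℂ) :=
    ⟨by exact_mod_cast (Monoid.exponent_ne_zero_of_finite (G := Q))⟩
  exact CommGroup.card_monoidHom_of_hasEnoughRootsOfUnity Q ℂ

/-- Let P be a finite 2-group in which N_P(⟨y⟩) = C_P(y) for every y ∈ P. If s is the number of conjugacy classes of involutions of P, then #(P/Φ(P)) ≤ s + 1; in particular the subgroup generated by the involutions of P has order at least #(P/Φ(P)). -/
theorem result {P : Type*} [Group P] [Finite P] (hP : IsPGroup 2 P)
    (hirr : ∀ y : P, Subgroup.normalizer ((Subgroup.zpowers y : Subgroup P) : Set P) ≤ Subgroup.centralizer {y}) :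
    Nat.card (P ⧸ frattini P) ≤ Nat.card {c : ConjClasses P // ∃ y : P, ConjClasses.mk y = c ∧ orderOf y = 2} + 1 ∧
    Nat.card (P ⧸ frattini P) ≤ Nat.card (Subgroup.closure {y : P | orderOf y = 2}) := by
  classical
  have : Fact (Nat.Prime 2) := ⟨Nat.prime_two⟩
  let _ := Fintype.ofFinite P
  let _ := fintypeIrr P
  -- real elements are involutions or trivial
  have hreal : ∀ y : P, IsConj y y⁻¹ → y ≠ 1 → orderOf y = 2 := by
    intro y hy hy1
    obtain ⟨c, hc⟩ := isConj_iff.mp hy
    have hcN : c ∈ Subgroup.normalizer ((Subgroup.zpowers y : Subgroup P) : Set P) := by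
      apply Cfsg.Agent.Lib.Helper1.mem_normalizer_of_forall_conj_mem
      intro x hx
      obtain ⟨k, rfl⟩ := Subgroup.mem_zpowers_iff.mp hx
      have : c * y ^ k * c⁻¹ = (y ^ k)⁻¹ := by
        rw [← conj_zpow, hc, inv_zpow]
      rw [this]
      exact Subgroup.inv_mem _ hx
    have hcC := hirr y hcN
    rw [Subgroup.mem_centralizer_singleton_iff] at hcC
    have h1 : y = y⁻¹ := by
      have : c * y * c⁻¹ = y := by rw [hcC, mul_inv_cancel_right]
      exact this.symm.trans hc
    have h2 : y ^ 2 = 1 := by
      rw [pow_two]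
      nth_rewrite 2 [h1]
      exact mul_inv_cancel y
    exact orderOf_eq_prime h2 hy1
  set S := {c : ConjClasses P // ∃ y : P, ConjClasses.mk y = c ∧ orderOf y = 2} with hS
  set R := {C : ConjClasses P // ∀ g : P, ConjClasses.mk g = C → IsConj g g⁻¹} with hR
  -- real classes inject into Option S
  have h1 : Nat.card R ≤ Nat.card S + 1 := by
    have : Nat.card (Option S) = Nat.card S + 1 := by
      rw [Nat.card_eq_fintype_card, Fintype.card_option, ← Nat.card_eq_fintype_card]
    rw [← this]
    let f : R → Option S := fun C =>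
      if h : C.1 = ConjClasses.mk 1 then none else
        some ⟨C.1, by
          obtain ⟨y, hy⟩ := ConjClasses.exists_rep C.1
          refine ⟨y, hy, hreal y (C.2 y hy) ?_⟩
          rintro rfl
          exact h hy.symm⟩
    apply Nat.card_le_card_of_injective f
    intro C D hCD
    by_cases hC : C.1 = ConjClasses.mk 1
    · by_cases hD : D.1 = ConjClasses.mk 1
      · exact Subtype.ext (hC.trans hD.symm)
      · simp only [f, dif_pos hC, dif_neg hD] at hCD
        exact absurd hCD (by simp)
    · by_cases hD : D.1 = ConjClasses.mk 1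
      · simp only [f, dif_neg hC, dif_pos hD] at hCD
        exact absurd hCD (by simp)
      · simp only [f, dif_neg hC, dif_neg hD] at hCD
        have h7 := Option.some.inj hCD
        have h8 : C.1 = D.1 := congrArg (fun z : S => z.1) h7
        exact Subtype.ext h8
  -- real irreducible characters
  have h2 : Nat.card (P ⧸ frattini P) ≤
      Nat.card {χ : IrrCharacter P // ∀ g : P, ((χ : P → ℂ) g).im = 0} := by
    have hcomm : IsMulCommutative (P ⧸ frattini P) :=
      Subgroup.Normal.quotient_commutative_iff_commutator_le.mpr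
        (IsPGroup.commutator_le_frattini hP)
    rw [← card_hom_of_comm' (P ⧸ frattini P)]
    have hsq : ∀ (ψ : (P ⧸ frattini P) →* ℂˣ) (g : P),
        (((ψ (QuotientGroup.mk' (frattini P) g) : ℂˣ) : ℂ)).im = 0 := by
      intro ψ g
      have h3 : (QuotientGroup.mk' (frattini P) g) ^ 2 = 1 := by
        rw [← map_pow]
        exact (QuotientGroup.eq_one_iff _).mpr (IsPGroup.pow_mem_frattini hP g)
      have h4 : (ψ (QuotientGroup.mk' (frattini P) g)) ^ 2 = 1 := by
        rw [← map_pow, h3, map_one]
      have h5 : (((ψ (QuotientGroup.mk' (frattini P) g) : ℂˣ) : ℂ)) ^ 2 = 1 := by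
        have := congrArg (fun u : ℂˣ => (u : ℂ)) h4
        simpa using this
      have h6 : ((((ψ (QuotientGroup.mk' (frattini P) g) : ℂˣ) : ℂ)) - 1) *
          ((((ψ (QuotientGroup.mk' (frattini P) g) : ℂˣ) : ℂ)) + 1) = 0 := by
        linear_combination h5
      rcases mul_eq_zero.mp h6 with h | h
      · rw [sub_eq_zero.mp h]; simp
      · rw [eq_neg_of_add_eq_zero_left h]; simp
    let f : ((P ⧸ frattini P) →* ℂˣ) → {χ : IrrCharacter P // ∀ g : P, ((χ : P → ℂ) g).im = 0} :=
      fun ψ => ⟨lin (ψ.comp (QuotientGroup.mk' (frattini P))), fun g => hsq ψ g⟩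
    apply Nat.card_le_card_of_injective f
    intro ψ₁ ψ₂ h
    have h3 := lin_injective (congrArg Subtype.val h)
    ext e
    rw [h3]
  have h3 := card_real_irr_eq_card_real_classes (G := P)
  have hA : Nat.card (P ⧸ frattini P) ≤ Nat.card S + 1 := by
    calc Nat.card (P ⧸ frattini P) ≤ _ := h2
      _ = Nat.card R := h3
      _ ≤ _ := h1
  refine ⟨hA, hA.trans ?_⟩
  -- S + 1 ≤ closure
  have : Nat.card (Option S) = Nat.card S + 1 := by
    rw [Nat.card_eq_fintype_card, Fintype.card_option, ← Nat.card_eq_fintype_card]
  rw [← this]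
  let f : Option S → Subgroup.closure {y : P | orderOf y = 2} := fun o =>
    match o with
    | none => 1
    | some c => ⟨Classical.choose c.2, Subgroup.subset_closure (Classical.choose_spec c.2).2⟩
  apply Nat.card_le_card_of_injective f
  intro a b hab
  cases a with
  | none =>
    cases b with
    | none => rfl
    | some d =>
      exfalso
      have h4 : (1 : P) = Classical.choose d.2 := congrArg Subtype.val hab
      have h5 := (Classical.choose_spec d.2).2
      rw [← h4, orderOf_one] at h5
      omega
  | some c =>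
    cases b with
    | none =>
      exfalso
      have h4 : Classical.choose c.2 = (1 : P) := congrArg Subtype.val hab
      have h5 := (Classical.choose_spec c.2).2
      rw [h4, orderOf_one] at h5
      omega
    | some d =>
      have h4 : Classical.choose c.2 = Classical.choose d.2 := congrArg Subtype.val hab
      have h5 := (Classical.choose_spec c.2).1
      have h6 := (Classical.choose_spec d.2).1
      rw [h4, h6] at h5
      exact congrArg some (Subtype.ext h5.symm)

end Cfsg.Agent.S4029
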