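import Cfsg.Statements.S4032
import Mathlib
import Cfsg.Agent.Lib.Helper1.SZConj
import Cfsg.Agent.Lib.Helper17.Basic
-- import your own Cfsg.Agent.* helpers here

set_option autoImplicit false
open Cfsg

namespace Cfsg.Agent.S4032

open Subgroup Pointwise
open Cfsg.Agent.Lib.Helper1

/-- lift of a coprime-order element -/
lemma lift_elt {G : Type*} [Group G] [Finite G] (N : Subgroup G) [N.Normal] (y : G ⧸ N)
    (hcop : (Nat.card N).Coprime (orderOf y)) :
    ∃ x : G, (QuotientGroup.mk x : G ⧸ N) = y ∧ orderOf x ∣ orderOf y := by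
  by_cases h1 : orderOf y = 1
  · refine ⟨1, ?_, by simp⟩
    rw [orderOf_eq_one_iff] at h1
    rw [h1]; rfl
  have ho : 1 < orderOf y := by
    have : 0 < orderOf y := orderOf_pos y
    omega
  obtain ⟨m, -, hm⟩ := Nat.exists_mul_mod_eq_one_of_coprime hcop ho
  obtain ⟨x0, rfl⟩ := QuotientGroup.mk_surjective y
  refine ⟨x0 ^ (Nat.card N * m), ?_, ?_⟩
  · rw [QuotientGroup.mk_pow, ← pow_mod_orderOf, hm, pow_one]
  · apply orderOf_dvd_of_pow_eq_one
    have hmem : x0 ^ orderOf (QuotientGroup.mk x0 : G ⧸ N) ∈ N := by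
      rw [← QuotientGroup.eq_one_iff, QuotientGroup.mk_pow, pow_orderOf_eq_one]
    have h2 : (x0 ^ orderOf (QuotientGroup.mk x0 : G ⧸ N)) ^ Nat.card N = 1 := by
      have := pow_card_eq_one' (G := N) (x := ⟨_, hmem⟩)
      exact congrArg Subtype.val this
    rw [← pow_mul, show Nat.card N * m * orderOf (QuotientGroup.mk x0 : G ⧸ N)
      = orderOf (QuotientGroup.mk x0 : G ⧸ N) * Nat.card N * m by ring, pow_mul, pow_mul, h2,
      one_pow]

/-- key conjugacy lemma -/
lemma key {G : Type*} [Group G] [Finite G] (N : Subgroup G) [N.Normal] (x w : G)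
    (hcop : (Nat.card N).Coprime (orderOf x)) (how : orderOf w = orderOf x)
    (hw : w ∈ zpowers x ⊔ N) : ∃ n ∈ N, MulAut.conj n • zpowers x = zpowers w := by
  obtain ⟨L, hL⟩ : ∃ L : Subgroup G, L = zpowers x ⊔ N := ⟨_, rfl⟩
  have hxL : zpowers x ≤ L := hL ▸ le_sup_left
  have hNL : N ≤ L := hL ▸ le_sup_right
  have hwL : zpowers w ≤ L := by
    rw [zpowers_le]; rw [hL]; exact hw
  have hdisj : Disjoint N (zpowers x) := by
    apply disjoint_of_coprime_natCard
    rwa [Nat.card_zpowers]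
  have hsup : ∀ l ∈ L, ∃ n ∈ N, ∃ k ∈ zpowers x, n * k = l := by
    intro l hl
    rw [hL, sup_comm, ← SetLike.mem_coe, Subgroup.normal_mul, Set.mem_mul] at hl
    obtain ⟨n, hn, k, hk, hnk⟩ := hl
    exact ⟨n, hn, k, hk, hnk⟩
  have hA : IsComplement' (N.subgroupOf L) ((zpowers x).subgroupOf L) :=
    isComplement'_subgroupOf_of_sup_eq hNL hxL hdisj hsup
  have hcA : Nat.card ((zpowers x).subgroupOf L) = orderOf x := by
    rw [Nat.card_congr (subgroupOfEquivOfLe hxL).toEquiv, Nat.card_zpowers]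
  have hcB : Nat.card ((zpowers w).subgroupOf L) = orderOf x := by
    rw [Nat.card_congr (subgroupOfEquivOfLe hwL).toEquiv, Nat.card_zpowers, how]
  have hcN : Nat.card (N.subgroupOf L) = Nat.card N := by
    rw [Nat.card_congr (subgroupOfEquivOfLe hNL).toEquiv]
  have hB : IsComplement' (N.subgroupOf L) ((zpowers w).subgroupOf L) := by
    apply isComplement'_of_coprime
    · rw [hcB, ← hcA]; exact hA.card_mul_card
    · rw [hcB, hcN]; exact hcop
  have hcopL : (Nat.card (N.subgroupOf L)).Coprime (N.subgroupOf L).index := by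
    rw [hA.symm.index_eq_card, hcA, hcN]; exact hcop
  have hsolv : Group.IsSolvable (↥L ⧸ N.subgroupOf L) := by
    subst hL
    have e := QuotientGroup.quotientInfEquivProdNormalQuotient (zpowers x) N
    exact Group.isSolvable_of_surjective (f := e.toMonoidHom) e.surjective
  obtain ⟨l, hl⟩ := sz_conj (N.subgroupOf L) hcopL (Or.inr hsolv) _ _ hA hB
  have h1 := conj_eq_of_subgroupOf_conj_eq hxL hwL l hl
  obtain ⟨n, hn, k, hk, hnk⟩ := hsup l l.2
  refine ⟨n, hn, ?_⟩
  rw [← h1, ← hnk, map_mul, mul_smul]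
  congr 1
  ext z
  rw [mem_conj_smul_iff]
  constructor
  · intro hz
    exact mul_mem (mul_mem (inv_mem hk) hz) hk
  · intro hz
    have : z = k * (k⁻¹ * z * k) * k⁻¹ := by group
    rw [this]
    exact mul_mem (mul_mem hk hz) (inv_mem hk)


/-- Let π be a set of primes and G a finite group in which N_G(⟨x⟩) = C_G(x) for every π-element x. If N is a normal subgroup of G whose order is divisible by no prime of π, then G/N has the same property: N_{G/N}(⟨y⟩) = C_{G/N}(y) for every π-element y of G/N. -/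
theorem result {G : Type*} [Group G] [Finite G] (π : Set ℕ)
    (hirr : ∀ x : G, (∀ r : ℕ, r.Prime → r ∣ orderOf x → r ∈ π) →
      Subgroup.normalizer ((Subgroup.zpowers x : Subgroup G) : Set G) ≤ Subgroup.centralizer {x})
    (N : Subgroup G) [N.Normal] (hN : ∀ r : ℕ, r.Prime → r ∣ Nat.card N → r ∉ π) :
    ∀ y : G ⧸ N, (∀ r : ℕ, r.Prime → r ∣ orderOf y → r ∈ π) →
      Subgroup.normalizer ((Subgroup.zpowers y : Subgroup (G ⧸ N)) : Set (G ⧸ N)) ≤ Subgroup.centralizer {y} := by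
  intro y hy gb hgb
  have hcopy : (Nat.card N).Coprime (orderOf y) := by
    by_contra hnc
    obtain ⟨r, hr, hr1, hr2⟩ := Nat.Prime.not_coprime_iff_dvd.mp hnc
    exact hN r hr hr1 (hy r hr hr2)
  obtain ⟨x, hxy, hox⟩ := lift_elt N y hcopy
  have hxπ : ∀ r : ℕ, r.Prime → r ∣ orderOf x → r ∈ π := fun r hr hrx => hy r hr (hrx.trans hox)
  have hcop : (Nat.card N).Coprime (orderOf x) := Nat.Coprime.coprime_dvd_right hox hcopy
  obtain ⟨g, rfl⟩ := QuotientGroup.mk_surjective gb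
  have hmem : (QuotientGroup.mk g : G ⧸ N) * y * (QuotientGroup.mk g : G ⧸ N)⁻¹ ∈ zpowers y :=
    (Subgroup.mem_normalizer_iff.mp hgb y).mp (mem_zpowers y)
  obtain ⟨k, hk⟩ := mem_zpowers_iff.mp hmem
  have hw : g * x * g⁻¹ ∈ zpowers x ⊔ N := by
    have h1 : (x ^ k)⁻¹ * (g * x * g⁻¹) ∈ N := by
      rw [← QuotientGroup.eq_one_iff]
      simp only [QuotientGroup.mk_mul, QuotientGroup.mk_inv, QuotientGroup.mk_zpow, hxy]
      rw [← hk]; group
    have : g * x * g⁻¹ = x ^ k * ((x ^ k)⁻¹ * (g * x * g⁻¹)) := by group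
    rw [this]
    exact mul_mem (mem_sup_left (zpow_mem (mem_zpowers x) k)) (mem_sup_right h1)
  have how : orderOf (g * x * g⁻¹) = orderOf x := by
    have := MulEquiv.orderOf_eq (MulAut.conj g) x
    simpa using this
  obtain ⟨n, hn, hconj⟩ := key N x (g * x * g⁻¹) hcop how hw
  -- n⁻¹ g normalizes zpowers x
  have hnorm : n⁻¹ * g ∈ Subgroup.normalizer ((zpowers x : Subgroup G) : Set G) := by
    have hx1 : (n⁻¹ * g) * x * (n⁻¹ * g)⁻¹ ∈ zpowers x := by
      have h2 : g * x * g⁻¹ ∈ MulAut.conj n • zpowers x := by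
        rw [hconj]; exact mem_zpowers _
      rw [mem_conj_smul_iff] at h2
      have : (n⁻¹ * g) * x * (n⁻¹ * g)⁻¹ = n⁻¹ * (g * x * g⁻¹) * n := by group
      rw [this]; exact h2
    apply Cfsg.Agent.Lib.Helper17.mem_normalizer_of_forall_conj_mem
    intro h hh
    obtain ⟨i, rfl⟩ := mem_zpowers_iff.mp hh
    have : (n⁻¹ * g) * x ^ i * (n⁻¹ * g)⁻¹ = ((n⁻¹ * g) * x * (n⁻¹ * g)⁻¹) ^ i := by
      rw [conj_zpow]
    rw [this]
    exact zpow_mem hx1 i
  have hcent := hirr x hxπ hnorm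
  rw [Subgroup.mem_centralizer_singleton_iff] at hcent ⊢
  have h3 : (QuotientGroup.mk (n⁻¹ * g) : G ⧸ N) = QuotientGroup.mk g := by
    rw [QuotientGroup.mk_mul, QuotientGroup.mk_inv, (QuotientGroup.eq_one_iff n).mpr hn]
    simp
  rw [← h3, ← hxy, ← QuotientGroup.mk_mul, ← QuotientGroup.mk_mul, hcent]

end Cfsg.Agent.S4032
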