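import Cfsg.Statements.S4035
import Mathlib
import Cfsg.Agent.Lib.Helper21.ClassSize
import Cfsg.Agent.Lib.Helper21.PDecomp
-- import your own Cfsg.Agent.* helpers here

set_option autoImplicit false
open Cfsg

namespace Cfsg.Agent.S4035

open Cfsg.Agent.Lib.Helper21
/-- Jordan's lemma: a transitive action in which every element has a fixed point is on at most one point. -/
theorem subsingleton_of_forall_exists_fixed {G X : Type*} [Group G] [Finite G] [MulAction G X] [Finite X]
    [MulAction.IsPretransitive G X] (h : ∀ g : G, ∃ x : X, g • x = x) : Subsingleton X := by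
  classical
  have := Fintype.ofFinite G
  have := Fintype.ofFinite X
  have hB := MulAction.sum_card_fixedBy_eq_card_orbits_mul_card_group G X
  have hΩ : Fintype.card (MulAction.orbitRel.Quotient G X) ≤ 1 := by
    rw [Fintype.card_le_one_iff_subsingleton]
    constructor
    intro a b
    induction a using Quotient.inductionOn'
    induction b using Quotient.inductionOn'
    rename_i a b
    apply Quotient.sound'
    rw [MulAction.orbitRel_apply]
    obtain ⟨g, hg⟩ := MulAction.exists_smul_eq G b a
    exact ⟨g, hg⟩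
  have h1 : ∀ g : G, 1 ≤ Fintype.card (MulAction.fixedBy X g) := by
    intro g
    obtain ⟨x, hx⟩ := h g
    exact Fintype.card_pos_iff.mpr ⟨⟨x, hx⟩⟩
  have h2 : Fintype.card (MulAction.fixedBy X (1 : G)) = Fintype.card X := by
    apply Fintype.card_of_subtype
    intro x
    simp
  have h3 : Fintype.card X + (Fintype.card G - 1) ≤ ∑ g : G, Fintype.card (MulAction.fixedBy X g) := by
    rw [← Finset.add_sum_erase Finset.univ _ (Finset.mem_univ (1 : G)), h2]
    apply Nat.add_le_add_left
    calc Fintype.card G - 1 = (Finset.univ.erase (1 : G)).card := by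
          rw [Finset.card_erase_of_mem (Finset.mem_univ _), Finset.card_univ]
      _ = ∑ g ∈ Finset.univ.erase (1 : G), 1 := by simp
      _ ≤ _ := Finset.sum_le_sum (fun g _ => h1 g)
  rw [hB] at h3
  have h4 : Fintype.card (MulAction.orbitRel.Quotient G X) * Fintype.card G ≤ Fintype.card G := by
    calc _ ≤ 1 * Fintype.card G := Nat.mul_le_mul_right _ hΩ
      _ = _ := one_mul _
  have hG : 0 < Fintype.card G := Fintype.card_pos
  have h6 := le_trans h3 h4
  have h5 : Fintype.card X ≤ 1 := by omega
  exact Fintype.card_le_one_iff_subsingleton.mp h5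

/-- if `p ∤ |G : C(y)|` then `C(y)` contains a Sylow `p`-subgroup of `G` containing any given
`p`-element of `C(y)`. -/
theorem exists_sylow_le_centralizer {G : Type*} [Group G] [Finite G] {p : ℕ} [Fact p.Prime] (y : G)
    (hy : ¬ p ∣ (Subgroup.centralizer ({y} : Set G)).index) (x : G) (hxy : x ∈ Subgroup.centralizer ({y} : Set G))
    (hx : IsPGroup p (Subgroup.zpowers x)) :
    ∃ P : Sylow p G, (P : Subgroup G) ≤ Subgroup.centralizer ({y} : Set G) ∧ x ∈ (P : Subgroup G) := by
  set C := Subgroup.centralizer ({y} : Set G) with hC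
  have hx' : IsPGroup p ((Subgroup.zpowers x).subgroupOf C) := hx.comap_subtype
  obtain ⟨P₁, hP₁⟩ := hx'.exists_le_sylow
  have hP₂ : IsPGroup p ((P₁ : Subgroup C).map C.subtype) := P₁.2.map _
  have hidx : ¬ p ∣ ((P₁ : Subgroup C).map C.subtype).index := by
    rw [Subgroup.index_map_subtype]
    intro hdvd
    rcases (Nat.Prime.dvd_mul Fact.out).mp hdvd with h1 | h1
    · exact P₁.not_dvd_index h1
    · exact hy h1
  refine ⟨hP₂.toSylow hidx, ?_, ?_⟩
  · rw [IsPGroup.toSylow_coe]
    rintro _ ⟨c, _, rfl⟩
    exact c.2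
  · rw [IsPGroup.toSylow_coe]
    refine ⟨⟨x, hxy⟩, hP₁ ?_, rfl⟩
    rw [Subgroup.mem_subgroupOf]
    exact Subgroup.mem_zpowers x

/-- Let G be a finite group and p a prime such that p divides the size of no conjugacy class of p-regular elements (elements of order prime to p). Then G is the internal direct product of a Sylow p-subgroup P and a normal subgroup H of order prime to p: P is normal, P ⊓ H = 1 and PH = G. -/
theorem result {G : Type*} [Group G] [Finite G] {p : ℕ} [Fact p.Prime]
    (h : ∀ x : G, (orderOf x).Coprime p → ¬ p ∣ (ConjClasses.mk x).carrier.ncard) (P : Sylow p G) :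
    (P : Subgroup G).Normal ∧ ∃ H : Subgroup G, H.Normal ∧ ¬ p ∣ Nat.card H ∧
      (P : Subgroup G) ⊓ H = ⊥ ∧ (P : Subgroup G) ⊔ H = ⊤ := by
  have hp : p.Prime := Fact.out
  have h' : ∀ x : G, (orderOf x).Coprime p → ¬ p ∣ (Subgroup.centralizer ({x} : Set G)).index := by
    intro x hx
    rw [index_centralizer_eq_ncard_carrier]
    exact h x hx
  -- every element normalizes some Sylow p-subgroup
  have hfix : ∀ g : G, ∃ Q : Sylow p G, g • Q = Q := by
    intro g
    have ho : orderOf g ≠ 0 := (orderOf_pos g).ne'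
    set a := (orderOf g).factorization p with ha
    set m := orderOf g / p ^ a with hm
    have hnm : p ^ a * m = orderOf g := Nat.ordProj_mul_ordCompl_eq_self (orderOf g) p
    have hcop : Nat.Coprime (p ^ a) m := Nat.Coprime.pow_left _ (Nat.coprime_ordCompl hp ho)
    have hm0 : m ≠ 0 := by
      rintro h0
      rw [h0, mul_zero] at hnm
      exact ho hnm.symm
    have ho1 : orderOf (g ^ (p ^ a)) = m := by
      rw [orderOf_pow_of_dvd (pow_ne_zero _ hp.ne_zero) (Dvd.intro _ hnm), ← hnm,
        Nat.mul_div_cancel_left _ (pow_pos hp.pos a)]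
    have ho2 : orderOf (g ^ m) = p ^ a := by
      rw [orderOf_pow_of_dvd hm0 (Dvd.intro_left _ hnm), ← hnm, Nat.mul_div_cancel _ (Nat.pos_of_ne_zero hm0)]
    have hcop1 : (orderOf (g ^ (p ^ a))).Coprime p := by
      rw [ho1]; exact (Nat.coprime_ordCompl hp ho).symm
    have hidx := h' _ hcop1
    have hcomm : g ^ m ∈ Subgroup.centralizer ({g ^ (p ^ a)} : Set G) := by
      rw [Subgroup.mem_centralizer_singleton_iff]
      rw [← pow_add, ← pow_add, add_comm]
    have hpg : IsPGroup p (Subgroup.zpowers (g ^ m)) := by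
      apply IsPGroup.of_card_dvd_pow (n := a)
      rw [Nat.card_zpowers, ho2]
    obtain ⟨Q, hQ1, hQ2⟩ := exists_sylow_le_centralizer (g ^ (p ^ a)) hidx (g ^ m) hcomm hpg
    refine ⟨Q, ?_⟩
    rw [Sylow.smul_eq_iff_mem_normalizer]
    apply mem_of_pow_mem_of_coprime _ g _ _ hcop
    · -- g^(p^a) centralizes Q
      apply Subgroup.centralizer_le_normalizer
      rw [Subgroup.mem_centralizer_iff]
      intro z hz
      have := hQ1 hz
      rw [Subgroup.mem_centralizer_singleton_iff] at this
      exact this
    · exact Subgroup.le_normalizer hQ2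
  have hsub : Subsingleton (Sylow p G) := subsingleton_of_forall_exists_fixed hfix
  have hPn : (P : Subgroup G).Normal := Sylow.normal_of_subsingleton P
  refine ⟨hPn, ?_⟩
  -- p-elements commute with q-elements
  have hcomm : ∀ x y : G, (∃ a : ℕ, orderOf x = p ^ a) →
      (∃ q b : ℕ, q.Prime ∧ q ≠ p ∧ orderOf y = q ^ b) → x * y = y * x := by
    rintro x y ⟨a, ha⟩ ⟨q, b, hq, hqp, hb⟩
    have hxP : x ∈ (P : Subgroup G) :=
      mem_sylow_of_normal_of_pow_eq_one' P hPn x a (by rw [← ha, pow_orderOf_eq_one])
    have hyc : (orderOf y).Coprime p := by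
      rw [hb]
      exact Nat.Coprime.pow_left _ ((Nat.coprime_primes hq hp).mpr hqp)
    have hidx := h' y hyc
    obtain ⟨Q, hQ1, _⟩ := exists_sylow_le_centralizer y hidx 1 (Subgroup.one_mem _)
      (by rw [Subgroup.zpowers_one_eq_bot]; exact IsPGroup.of_bot)
    rw [Subsingleton.elim Q P] at hQ1
    have := hQ1 hxP
    rw [Subgroup.mem_centralizer_singleton_iff] at this
    exact this
  obtain ⟨P', K, _, hKn, hinf, hsup⟩ := pdecomp_of_commute p hcomm
  rw [Subsingleton.elim P' P] at hinf hsup
  refine ⟨K, hKn, ?_, hinf, hsup⟩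
  have hcompl : Subgroup.IsComplement' (P : Subgroup G) K := by
    apply Subgroup.isComplement'_of_disjoint_and_mul_eq_univ (disjoint_iff.mpr hinf)
    rw [← Subgroup.normal_mul, hsup]; rfl
  have hKcard : Nat.card K = (P : Subgroup G).index := by
    have h1 := hcompl.card_mul_card
    have h2 := (P : Subgroup G).card_mul_index
    have hpos : 0 < Nat.card (P : Subgroup G) := Nat.card_pos
    exact Nat.eq_of_mul_eq_mul_left hpos (h1.trans h2.symm)
  rw [hKcard]
  exact P.not_dvd_index

end Cfsg.Agent.S4035
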