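import Cfsg.Statements.S4039
import Mathlib
import Cfsg.Agent.Lib.Helper29.PrimeComplements
import Cfsg.Agent.Lib.Helper29.MinNonPNilpotent
import Cfsg.Agent.Lib.Helper12.PNilpotent
import Cfsg.Agent.Lib.Helper12.Residual
import Cfsg.Agent.Lib.Helper17.Basic
import Cfsg.Agent.Lib.Helper1.SZConj
import Cfsg.Agent.S0023
import Cfsg.Agent.S0078
-- import your own Cfsg.Agent.* helpers here

set_option autoImplicit false
open Cfsg

namespace Cfsg.Agent.S4039

open Subgroup
universe u

/-- class ≤ 2: commutators are central -/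
lemma comm_central {M : Type*} [Group M] [hnil : Group.IsNilpotent M]
    (hcl : Group.nilpotencyClass M ≤ 2) (a b c : M) :
    (a * b * a⁻¹ * b⁻¹) * c = c * (a * b * a⁻¹ * b⁻¹) := by
  have h2 : Subgroup.upperCentralSeries M 2 = ⊤ :=
    Subgroup.upperCentralSeries_eq_top_iff_nilpotencyClass_le.mpr hcl
  have ha : a ∈ Subgroup.upperCentralSeries M (1 + 1) := by
    rw [show (1 + 1 : ℕ) = 2 from rfl, h2]; exact Subgroup.mem_top a
  rw [Subgroup.mem_upperCentralSeries_succ_iff] at ha
  have hb := ha b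
  rw [Subgroup.upperCentralSeries_one, Subgroup.mem_center_iff] at hb
  exact (hb c).symm

/-- fact (A): in the core-free case, a nontrivial subgroup of `M` normalized by `M` has normalizer `M` -/
lemma normalizer_eq {G : Type u} [Group G] (M : Subgroup G) (hmax : IsCoatom M)
    (hcore : M.normalCore = ⊥) (C : Subgroup G) (hCM : C ≤ M) (hC1 : C ≠ ⊥)
    (hMC : M ≤ Subgroup.normalizer (C : Set G)) : Subgroup.normalizer (C : Set G) = M := by
  by_contra hne
  have hlt : M < Subgroup.normalizer (C : Set G) := lt_of_le_of_ne hMC (fun h => hne h.symm)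
  have htop := hmax.2 _ hlt
  have hCn : C.Normal := Subgroup.normalizer_eq_top_iff.mp htop
  have : C ≤ M.normalCore := (Subgroup.normal_le_normalCore).mpr hCM
  rw [hcore] at this
  exact hC1 (eq_bot_iff.mpr this)

/-- the prime step -/
lemma prime_step {G : Type u} [Group G] [Finite G] (M : Subgroup G) (hmax : IsCoatom M)
    (hnil : Group.IsNilpotent M) (hcl : Group.nilpotencyClass ↥M ≤ 2) (hcore : M.normalCore = ⊥)
    (p : ℕ) (hp : p.Prime) (hpM : p ∣ Nat.card M) :
    (Nat.card G).factorization p = (Nat.card M).factorization p ∧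
    ∃ K : Subgroup G, K.Normal ∧ ¬ p ∣ Nat.card K ∧ K.index = p ^ (Nat.card M).factorization p := by
  have : Fact p.Prime := ⟨hp⟩
  obtain ⟨PM⟩ : Nonempty (Sylow p M) := inferInstance
  have hSyl := ((Group.isNilpotent_of_finite_tfae (G := M)).out 0 3).mp hnil
  have hPMn : (PM : Subgroup M).Normal := hSyl p inferInstance PM
  obtain ⟨P, hPdef⟩ : ∃ P : Subgroup G, P = (PM : Subgroup M).map M.subtype := ⟨_, rfl⟩
  have hPp : IsPGroup p P := by rw [hPdef]; exact PM.2.map _
  have hPM : P ≤ M := by rw [hPdef]; exact Subgroup.map_subtype_le _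
  have hPcard : Nat.card P = p ^ (Nat.card M).factorization p := by
    rw [hPdef, Subgroup.card_map_of_injective M.subtype_injective]
    exact PM.card_eq_multiplicity
  have hvM : 1 ≤ (Nat.card M).factorization p :=
    (hp.dvd_iff_one_le_factorization Nat.card_pos.ne').mp hpM
  have hP1 : P ≠ ⊥ := by
    intro hb
    rw [hb, Subgroup.card_bot] at hPcard
    have : 1 < p ^ (Nat.card M).factorization p := Nat.one_lt_pow (by omega) hp.one_lt
    omega
  have hMP : M ≤ Subgroup.normalizer (P : Set G) := by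
    intro m hm
    apply Cfsg.Agent.Lib.Helper17.mem_normalizer_of_forall_conj_mem
    intro x hx
    rw [hPdef] at hx ⊢
    obtain ⟨y, hy, rfl⟩ := hx
    refine ⟨⟨m, hm⟩ * y * ⟨m, hm⟩⁻¹, hPMn.conj_mem y hy ⟨m, hm⟩, rfl⟩
  have hNP : Subgroup.normalizer (P : Set G) = M := normalizer_eq M hmax hcore P hPM hP1 hMP
  -- p-subgroups of M lie in P
  have hpsub : ∀ A : Subgroup G, IsPGroup p A → A ≤ M → A ≤ P := by
    intro A hA hAM x hx
    have h1 : IsPGroup p (A.subgroupOf M) := hA.comap_subtype
    have h2 := Cfsg.Agent.Lib.Helper29.le_of_isPGroup_of_normal_sylow PM (A.subgroupOf M) h1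
    have h3 : (⟨x, hAM hx⟩ : M) ∈ A.subgroupOf M := by rw [mem_subgroupOf]; exact hx
    rw [hPdef]
    exact ⟨⟨x, hAM hx⟩, h2 h3, rfl⟩
  -- P is Sylow in G
  obtain ⟨S, hPS⟩ := hPp.exists_le_sylow
  have hPS' : P = (S : Subgroup G) := by
    apply Cfsg.Agent.Lib.Helper17.eq_of_normalizer_inf_le P S S.2 hPS
    rw [hNP]
    exact hpsub _ (S.2.to_le inf_le_right) inf_le_left
  have hvG : (Nat.card G).factorization p = (Nat.card M).factorization p := by
    have h1 := S.card_eq_multiplicity
    rw [← hPS', hPcard] at h1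
    exact (Nat.pow_right_injective hp.two_le h1).symm
  refine ⟨hvG, ?_⟩
  have hSM : (S : Subgroup G) ≤ M := hPS' ▸ hPM
  have hMS : M ≤ Subgroup.normalizer ((S : Subgroup G) : Set G) := hPS' ▸ hMP
  have hS1 : (S : Subgroup G) ≠ ⊥ := hPS' ▸ hP1
  have hpsubS : ∀ A : Subgroup G, IsPGroup p A → A ≤ M → A ≤ (S : Subgroup G) := hPS' ▸ hpsub
  -- the centre
  obtain ⟨Z, hZdef⟩ : ∃ Z : Subgroup G, Z = (S : Subgroup G) ⊓ Subgroup.centralizer ((S : Subgroup G) : Set G) :=
    ⟨_, rfl⟩
  have hZS : Z ≤ (S : Subgroup G) := by rw [hZdef]; exact inf_le_left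
  have hZ1 : Z ≠ ⊥ := by
    have hnt : Nontrivial ↥(S : Subgroup G) := (Subgroup.nontrivial_iff_ne_bot _).mpr hS1
    have hc : Nontrivial (Subgroup.center ↥(S : Subgroup G)) := IsPGroup.center_nontrivial S.2
    obtain ⟨z, hz⟩ := exists_ne (1 : Subgroup.center ↥(S : Subgroup G))
    intro hb
    have hzZ : ((z : ↥(S : Subgroup G)) : G) ∈ Z := by
      rw [hZdef, Subgroup.mem_inf, Subgroup.mem_centralizer_iff]
      refine ⟨(z : ↥(S : Subgroup G)).2, fun s hs => ?_⟩
      have := Subgroup.mem_center_iff.mp z.2 ⟨s, hs⟩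
      exact congrArg Subtype.val this
    rw [hb, Subgroup.mem_bot] at hzZ
    apply hz
    apply Subtype.ext
    apply Subtype.ext
    exact hzZ
  -- class two: commutators of M with S land in Z
  have hkey : ∀ m ∈ M, ∀ d ∈ (S : Subgroup G), m * d * m⁻¹ * d⁻¹ ∈ Z := by
    intro m hm d hd
    rw [hZdef, Subgroup.mem_inf, Subgroup.mem_centralizer_iff]
    constructor
    · exact (S : Subgroup G).mul_mem
        (Cfsg.Agent.Lib.Helper17.conj_mem_of_mem_normalizer (hMS hm) hd) ((S : Subgroup G).inv_mem hd)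
    · intro s hs
      have := comm_central (M := ↥M) hcl ⟨m, hm⟩ ⟨d, hSM hd⟩ ⟨s, hSM hs⟩
      have h2 := congrArg Subtype.val this
      simp only [Subgroup.coe_mul, Subgroup.coe_inv] at h2
      exact h2.symm
  -- M normalizes every subgroup between Z and S
  have hMnorm : ∀ D : Subgroup G, Z ≤ D → D ≤ (S : Subgroup G) →
      M ≤ Subgroup.normalizer (D : Set G) := by
    intro D hZD hDS m hm
    apply Cfsg.Agent.Lib.Helper17.mem_normalizer_of_forall_conj_mem
    intro x hx
    have h1 := hZD (hkey m hm x (hDS hx))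
    have h2 : m * x * m⁻¹ = (m * x * m⁻¹ * x⁻¹) * x := by group
    rw [h2]
    exact D.mul_mem h1 hx
  have hNZ : Subgroup.normalizer (Z : Set G) = M :=
    normalizer_eq M hmax hcore Z (hZS.trans hSM) hZ1 (hMnorm Z le_rfl hZS)
  -- p-normality
  have hpn : ∀ Q : Sylow p G, (S : Subgroup G) ⊓ Subgroup.centralizer ((S : Subgroup G) : Set G) ≤ (Q : Subgroup G) →
      (Q : Subgroup G) ⊓ Subgroup.centralizer ((Q : Subgroup G) : Set G) =
        (S : Subgroup G) ⊓ Subgroup.centralizer ((S : Subgroup G) : Set G) := by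
    intro Q hZQ
    rw [← hZdef] at hZQ ⊢
    suffices hQS : (Q : Subgroup G) = (S : Subgroup G) by rw [hQS, hZdef]
    obtain ⟨ZQ, hZQdef⟩ : ∃ ZQ : Subgroup G,
      ZQ = (Q : Subgroup G) ⊓ Subgroup.centralizer ((Q : Subgroup G) : Set G) := ⟨_, rfl⟩
    have hZQQ : ZQ ≤ (Q : Subgroup G) := by rw [hZQdef]; exact inf_le_left
    -- ZQ ≤ S
    have hZQS : ZQ ≤ (S : Subgroup G) := by
      apply hpsubS ZQ (Q.2.to_le hZQQ)
      rw [← hNZ]
      intro x hx
      apply Cfsg.Agent.Lib.Helper17.mem_normalizer_of_forall_conj_mem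
      intro z hz
      have hxc : x ∈ Subgroup.centralizer ((Q : Subgroup G) : Set G) := by
        rw [hZQdef] at hx; exact hx.2
      have := Subgroup.mem_centralizer_iff.mp hxc z (hZQ hz)
      have h2 : x * z * x⁻¹ = z := by rw [← this]; group
      rw [h2]; exact hz
    -- class two for Q
    obtain ⟨g, hg⟩ := MulAction.exists_smul_eq G S Q
    have hQmem : ∀ w : G, w ∈ (Q : Subgroup G) ↔ g⁻¹ * w * g ∈ (S : Subgroup G) := by
      intro w
      rw [← hg, Sylow.coe_subgroup_smul, Subgroup.mem_pointwise_smul_iff_inv_smul_mem,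
        MulAut.smul_def, ← map_inv, MulAut.conj_apply, inv_inv]
    have hkeyQ : ∀ q ∈ (Q : Subgroup G), ∀ d ∈ (Q : Subgroup G), q * d * q⁻¹ * d⁻¹ ∈ ZQ := by
      intro q hq d hd
      rw [hZQdef, Subgroup.mem_inf, Subgroup.mem_centralizer_iff]
      constructor
      · exact (Q : Subgroup G).mul_mem ((Q : Subgroup G).mul_mem ((Q : Subgroup G).mul_mem hq hd)
          ((Q : Subgroup G).inv_mem hq)) ((Q : Subgroup G).inv_mem hd)
      · intro s hs
        have hq' := (hQmem q).mp hq
        have hd' := (hQmem d).mp hd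
        have hs' := (hQmem s).mp hs
        have h1 := hkey _ (hSM hq') _ hd'
        rw [hZdef, Subgroup.mem_inf, Subgroup.mem_centralizer_iff] at h1
        have h2 := h1.2 _ hs'
        have e1 : s * (q * d * q⁻¹ * d⁻¹) = g * ((g⁻¹ * s * g) *
          ((g⁻¹ * q * g) * (g⁻¹ * d * g) * (g⁻¹ * q * g)⁻¹ * (g⁻¹ * d * g)⁻¹)) * g⁻¹ := by group
        have e2 : (q * d * q⁻¹ * d⁻¹) * s = g * (((g⁻¹ * q * g) * (g⁻¹ * d * g) * (g⁻¹ * q * g)⁻¹ *
          (g⁻¹ * d * g)⁻¹) * (g⁻¹ * s * g)) * g⁻¹ := by group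
        rw [e1, e2, h2]
    -- D
    obtain ⟨D, hDdef⟩ : ∃ D : Subgroup G, D = (S : Subgroup G) ⊓ (Q : Subgroup G) := ⟨_, rfl⟩
    have hDS : D ≤ (S : Subgroup G) := by rw [hDdef]; exact inf_le_left
    have hDQ : D ≤ (Q : Subgroup G) := by rw [hDdef]; exact inf_le_right
    have hZD : Z ≤ D := by rw [hDdef]; exact le_inf hZS hZQ
    have hZQD : ZQ ≤ D := by rw [hDdef]; exact le_inf hZQS hZQQ
    have hD1 : D ≠ ⊥ := by
      intro hb
      rw [hb] at hZD
      exact hZ1 (eq_bot_iff.mpr hZD)
    have hND : Subgroup.normalizer (D : Set G) = M :=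
      normalizer_eq M hmax hcore D (hDS.trans hSM) hD1 (hMnorm D hZD hDS)
    have hQM : (Q : Subgroup G) ≤ M := by
      rw [← hND]
      intro q hq
      apply Cfsg.Agent.Lib.Helper17.mem_normalizer_of_forall_conj_mem
      intro x hx
      have h1 := hZQD (hkeyQ q hq x (hDQ hx))
      have h2 : q * x * q⁻¹ = (q * x * q⁻¹ * x⁻¹) * x := by group
      rw [h2]
      exact D.mul_mem h1 hx
    have hQS : (Q : Subgroup G) ≤ (S : Subgroup G) := hpsubS _ Q.2 hQM
    exact (Q.3 S.2 hQS).symm
  -- Grün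
  have hgrun := Cfsg.Agent.S0078.result S hpn M (by
    have h := hNZ.le
    rw [hZdef] at h
    exact h)
  -- O^p(M) meets S trivially
  have hMcomp : Cfsg.HasNormalPComplement p M :=
    Cfsg.Agent.Lib.Helper12.hasNormalPComplement_iff_frobCond.mpr
      (Cfsg.Agent.Lib.Helper29.frobCond_of_isNilpotent hnil)
  obtain ⟨P'', N, hNn, hNc⟩ := hMcomp
  have hNcop : (Nat.card N).Coprime p := Cfsg.Agent.Lib.Helper12.coprime_card_of_isComplement' P'' N hNc
  have hNidx : N.index = p ^ (Nat.card M).factorization p := by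
    rw [hNc.symm.index_eq_card, P''.card_eq_multiplicity]
  have hresM : Cfsg.pResidual p ↥M ≤ N := by
    unfold Cfsg.pResidual
    rw [Subgroup.closure_le]
    intro x hx
    exact Cfsg.Agent.Lib.Helper29.mem_of_coprime_of_index_pow N _ hNidx x hx
  have hbot : (S : Subgroup G) ⊓ (Cfsg.pResidual p ↥M).map M.subtype = ⊥ := by
    rw [eq_bot_iff]
    rintro x ⟨hxS, y, hy, rfl⟩
    rw [Subgroup.mem_bot]
    have hyN : y ∈ N := hresM hy
    obtain ⟨k, hk⟩ := (IsPGroup.iff_orderOf.mp S.2) ⟨(y : G), hxS⟩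
    have hord : orderOf y = p ^ k := by
      rw [← Subgroup.orderOf_coe y]
      rw [← hk, ← Subgroup.orderOf_coe]
    have hdvd : orderOf y ∣ Nat.card N := by
      have := Subgroup.orderOf_dvd_natCard N hyN
      exact this
    rw [hord] at hdvd
    have hk0 : k = 0 := by
      by_contra hk0
      have : p ∣ Nat.card N := dvd_trans (dvd_pow_self p hk0) hdvd
      have h1 : p ∣ Nat.gcd (Nat.card N) p := Nat.dvd_gcd this (dvd_refl p)
      rw [hNcop] at h1
      exact hp.one_lt.ne' (Nat.dvd_one.mp h1)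
    rw [hk0, pow_zero, orderOf_eq_one_iff] at hord
    rw [hord]; rfl
  rw [hbot] at hgrun
  -- K := O^p(G)
  have hKn : (Cfsg.pResidual p G).Normal := Cfsg.Agent.Lib.Helper12.pResidual_normal' p G
  obtain ⟨a, ha⟩ := Cfsg.Agent.Lib.Helper12.pResidual_index_eq_pow p G
  have hKnot : ¬ p ∣ Nat.card (Cfsg.pResidual p G) := by
    intro hdvd
    -- a Sylow p-subgroup of K is nontrivial and conjugate into S
    obtain ⟨x, hx⟩ := exists_prime_orderOf_dvd_card' (G := ↥(Cfsg.pResidual p G)) p hdvd
    have hxp : IsPGroup p (Subgroup.zpowers (x : G)) := by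
      rw [IsPGroup.iff_card, Nat.card_zpowers, Subgroup.orderOf_coe, hx]
      exact ⟨1, (pow_one p).symm⟩
    obtain ⟨g, hg⟩ := hxp.exists_le_sylow
    obtain ⟨t, ht⟩ := MulAction.exists_smul_eq G g S
    have h1 : t * (x : G) * t⁻¹ ∈ (S : Subgroup G) := by
      rw [← ht, Sylow.coe_subgroup_smul, Subgroup.mem_pointwise_smul_iff_inv_smul_mem,
        MulAut.smul_def, ← map_inv, MulAut.conj_apply, inv_inv]
      have : t⁻¹ * (t * (x : G) * t⁻¹) * t = x := by group
      rw [this]
      exact hg (Subgroup.mem_zpowers _)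
    have h2 : t * (x : G) * t⁻¹ ∈ Cfsg.pResidual p G := hKn.conj_mem _ x.2 t
    have h3 : t * (x : G) * t⁻¹ ∈ (S : Subgroup G) ⊓ Cfsg.pResidual p G := ⟨h1, h2⟩
    rw [hgrun, Subgroup.mem_bot] at h3
    have h4 : (x : G) = 1 := by
      have : (x : G) = t⁻¹ * (t * (x : G) * t⁻¹) * t := by group
      rw [this, h3]; group
    have h5 : x = 1 := Subtype.ext h4
    rw [h5, orderOf_one] at hx
    exact hp.one_lt.ne hx
  refine ⟨Cfsg.pResidual p G, hKn, hKnot, ?_⟩
  rw [ha]
  congr 1
  -- |G| = |K| * p^a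
  have hcard : Nat.card (Cfsg.pResidual p G) * p ^ a = Nat.card G := by
    rw [← ha]; exact Subgroup.card_mul_index _
  have h1 : (Nat.card G).factorization p = a := by
    rw [← hcard, Nat.factorization_mul Nat.card_pos.ne' (pow_ne_zero _ hp.ne_zero)]
    simp only [Finsupp.coe_add, Pi.add_apply]
    rw [Nat.factorization_eq_zero_of_not_dvd hKnot, zero_add, hp.factorization_pow]
    simp
  rw [← h1, hvG]

lemma core_free_case {G : Type u} [Group G] [Finite G] (M : Subgroup G) (hmax : IsCoatom M)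
    (hnil : Group.IsNilpotent M) (hcl : Group.nilpotencyClass ↥M ≤ 2) (hcore : M.normalCore = ⊥) :
    Group.IsSolvable G := by
  obtain ⟨K, hKn, hK⟩ := Cfsg.Agent.Lib.Helper29.exists_normal_complement_of_prime_complements M
    (fun p hp hpM => (prime_step M hmax hnil hcl hcore p hp hpM).2)
  have hcardmul : Nat.card K * Nat.card M = Nat.card G := hK.card_mul_card
  have hcop : (Nat.card M).Coprime (Nat.card K) := by
    by_contra hnc
    obtain ⟨p, hp, hpM, hpK⟩ := Nat.Prime.not_coprime_iff_dvd.mp hnc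
    have hv := (prime_step M hmax hnil hcl hcore p hp hpM).1
    rw [← hcardmul, Nat.factorization_mul Nat.card_pos.ne' Nat.card_pos.ne'] at hv
    have h0 : (Nat.card K).factorization p = 0 := by
      have := hv
      simp only [Finsupp.coe_add, Pi.add_apply] at this
      omega
    have := (hp.dvd_iff_one_le_factorization Nat.card_pos.ne').mp hpK
    omega
  have hK1 : K ≠ ⊥ := by
    rintro rfl
    exact hmax.1 (Subgroup.isComplement'_bot_left.mp hK)
  have hcardK : Nat.card K ≠ 1 := fun h => hK1 (Subgroup.card_eq_one.mp h)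
  obtain ⟨q, hq, hqK⟩ := Nat.exists_prime_and_dvd hcardK
  have : Fact q.Prime := ⟨hq⟩
  have hMK : M ≤ Subgroup.normalizer (K : Set G) := by
    rw [Subgroup.normalizer_eq_top_iff.mpr hKn]; exact le_top
  have hMsolv : Group.IsSolvable M := inferInstance
  obtain ⟨Q, hQ⟩ := Cfsg.Agent.S0023.result M K hMK hcop (Or.inl hMsolv) q
  obtain ⟨Q', hQ'def⟩ : ∃ Q' : Subgroup G, Q' = (Q : Subgroup K).map K.subtype := ⟨_, rfl⟩
  rw [← hQ'def] at hQ
  have hQ'K : Q' ≤ K := by rw [hQ'def]; exact Subgroup.map_subtype_le _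
  have hQ'1 : Q' ≠ ⊥ := by
    rw [hQ'def, Ne, Subgroup.map_eq_bot_iff_of_injective _ K.subtype_injective]
    exact Q.ne_bot_of_dvd_card hqK
  have hQ'p : IsPGroup q Q' := by rw [hQ'def]; exact Q.2.map _
  have hsup : M ⊔ Q' = ⊤ := by
    apply hmax.2
    apply lt_of_le_of_ne le_sup_left
    intro heq
    have hQM : Q' ≤ M := by rw [heq]; exact le_sup_right
    have : Q' ≤ K ⊓ M := le_inf hQ'K hQM
    rw [hK.disjoint.eq_bot] at this
    exact hQ'1 (eq_bot_iff.mpr this)
  have hQ'n : Q'.Normal := by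
    rw [← Subgroup.normalizer_eq_top_iff, eq_top_iff, ← hsup]
    exact sup_le hQ Subgroup.le_normalizer
  have hQ'solv : Group.IsSolvable Q' := by
    have : Group.IsNilpotent Q' := hQ'p.isNilpotent
    infer_instance
  have hquot : Group.IsSolvable (G ⧸ Q') := by
    have hsurj : Function.Surjective ((QuotientGroup.mk' Q').comp M.subtype) := by
      intro y
      obtain ⟨g, rfl⟩ := QuotientGroup.mk_surjective y
      have hg : g ∈ M ⊔ Q' := hsup ▸ Subgroup.mem_top g
      rw [← SetLike.mem_coe, Subgroup.mul_normal, Set.mem_mul] at hg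
      obtain ⟨m, hm, x, hx, rfl⟩ := hg
      refine ⟨⟨m, hm⟩, ?_⟩
      show (QuotientGroup.mk m : G ⧸ Q') = QuotientGroup.mk (m * x)
      rw [QuotientGroup.mk_mul, (QuotientGroup.eq_one_iff x).mpr hx, mul_one]
    exact Group.isSolvable_of_surjective hsurj
  exact Group.isSolvable_of_ker_le_range Q'.subtype (QuotientGroup.mk' Q')
    (by rw [QuotientGroup.ker_mk', Subgroup.range_subtype])

theorem main : ∀ (n : ℕ) (G : Type u) [Group G] [Finite G], Nat.card G = n →
    ∀ (M : Subgroup G), IsCoatom M → ∀ (hnil : Group.IsNilpotent M), Group.nilpotencyClass ↥M ≤ 2 →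
      Group.IsSolvable G := by
  intro n
  induction n using Nat.strong_induction_on with
  | _ n ih =>
    intro G _ _ hcard M hmax hnil hcl
    by_cases hcore : M.normalCore = ⊥
    · exact core_free_case M hmax hnil hcl hcore
    · obtain ⟨N, hNdef⟩ : ∃ N : Subgroup G, N = M.normalCore := ⟨_, rfl⟩
      have hNn : N.Normal := by rw [hNdef]; infer_instance
      have hNM : N ≤ M := by rw [hNdef]; exact Subgroup.normalCore_le M
      have hN1 : N ≠ ⊥ := by rw [hNdef]; exact hcore
      have hlt : Nat.card (G ⧸ N) < n := hcard ▸ Cfsg.Agent.Lib.Helper1.card_quotient_lt_of_ne_bot hN1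
      -- image of M
      have hcomap : (M.map (QuotientGroup.mk' N)).comap (QuotientGroup.mk' N) = M := by
        rw [Subgroup.comap_map_eq, QuotientGroup.ker_mk', sup_eq_left.mpr hNM]
      have hmax' : IsCoatom (M.map (QuotientGroup.mk' N)) := by
        constructor
        · intro htop
          apply hmax.1
          rw [← hcomap, htop, Subgroup.comap_top]
        · intro L hL
          have h1 : M < L.comap (QuotientGroup.mk' N) := by
            rw [← hcomap]
            apply lt_of_le_of_ne (Subgroup.comap_mono hL.le)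
            intro heq
            have h2 := congrArg (Subgroup.map (QuotientGroup.mk' N)) heq
            rw [Subgroup.map_comap_eq_self_of_surjective (QuotientGroup.mk'_surjective N),
              Subgroup.map_comap_eq_self_of_surjective (QuotientGroup.mk'_surjective N)] at h2
            exact hL.ne h2
          have h3 := hmax.2 _ h1
          have h4 := congrArg (Subgroup.map (QuotientGroup.mk' N)) h3
          rw [Subgroup.map_comap_eq_self_of_surjective (QuotientGroup.mk'_surjective N)] at h4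
          rw [h4, ← MonoidHom.range_eq_map, MonoidHom.range_eq_top]
          exact QuotientGroup.mk'_surjective N
      have hnil' : Group.IsNilpotent (M.map (QuotientGroup.mk' N)) :=
        Group.nilpotent_of_surjective ((QuotientGroup.mk' N).subgroupMap M)
          ((QuotientGroup.mk' N).subgroupMap_surjective M)
      have hcl' : Group.nilpotencyClass ↥(M.map (QuotientGroup.mk' N)) ≤ 2 :=
        le_trans (Group.nilpotencyClass_le_of_surjective ((QuotientGroup.mk' N).subgroupMap M)
          ((QuotientGroup.mk' N).subgroupMap_surjective M)) hcl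
      have hquot : Group.IsSolvable (G ⧸ N) := ih _ hlt (G ⧸ N) rfl _ hmax' hnil' hcl'
      have hNsolv : Group.IsSolvable N := by
        have h1 : Group.IsSolvable M := inferInstance
        exact Group.isSolvable_of_isSolvable_injective (f := Subgroup.inclusion hNM)
          (Subgroup.inclusion_injective hNM)
      exact Group.isSolvable_of_ker_le_range N.subtype (QuotientGroup.mk' N)
        (by rw [QuotientGroup.ker_mk', Subgroup.range_subtype])

/-- A finite group possessing a maximal subgroup that is nilpotent of class at most 2 is solvable. -/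
theorem result {G : Type*} [Group G] [Finite G]
    (M : Subgroup G) (hmax : IsCoatom M) (hnil : Group.IsNilpotent M) (hcl : Group.nilpotencyClass ↥M ≤ 2) :
    Group.IsSolvable G := by
  exact main _ G rfl M hmax hnil hcl

end Cfsg.Agent.S4039
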