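import Cfsg.Statements.S4040
import Mathlib
import Cfsg.Agent.Lib.Helper8.GlauThomp
import Cfsg.Agent.Lib.Helper29.PrimeComplements
import Cfsg.Agent.Lib.Helper29.MinNonPNilpotent
import Cfsg.Agent.Lib.Helper17.Basic
import Cfsg.Agent.Lib.Helper1.SZConj
import Cfsg.Agent.S0023
-- import your own Cfsg.Agent.* helpers here

set_option autoImplicit false
open Cfsg

namespace Cfsg.Agent.S4040

open Subgroup

universe u

/-- fact (A): in the core-free case, a nontrivial subgroup of `M` normalized by `M` has normalizer `M` -/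
lemma normalizer_eq {G : Type u} [Group G] (M : Subgroup G) (hmax : IsCoatom M)
    (hcore : M.normalCore = ⊥) (C : Subgroup G) (hCM : C ≤ M) (hC1 : C ≠ ⊥)
    (hMC : M ≤ Subgroup.normalizer (C : Set G)) : Subgroup.normalizer (C : Set G) = M := by
  by_contra hne
  have hlt : M < Subgroup.normalizer (C : Set G) := lt_of_le_of_ne hMC (fun h => hne h.symm)
  have htop := hmax.2 _ hlt
  have hCn : C.Normal := Subgroup.normalizer_eq_top_iff.mp htop
  have : C ≤ M.normalCore := (Subgroup.normal_le_normalCore).mpr hCM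
  rw [hcore] at this
  exact hC1 (eq_bot_iff.mpr this)

/-- the prime step -/
lemma prime_step {G : Type u} [Group G] [Finite G] (M : Subgroup G) (hmax : IsCoatom M)
    (hnil : Group.IsNilpotent M) (hodd : Odd (Nat.card M)) (hcore : M.normalCore = ⊥)
    (p : ℕ) (hp : p.Prime) (hpM : p ∣ Nat.card M) :
    (Nat.card G).factorization p = (Nat.card M).factorization p ∧
    ∃ K : Subgroup G, K.Normal ∧ ¬ p ∣ Nat.card K ∧ K.index = p ^ (Nat.card M).factorization p := by
  have : Fact p.Prime := ⟨hp⟩
  have hp2 : p ≠ 2 := by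
    rintro rfl
    exact (Nat.not_even_iff_odd.mpr hodd) (even_iff_two_dvd.mpr hpM)
  obtain ⟨PM⟩ : Nonempty (Sylow p M) := inferInstance
  have hSyl := ((Group.isNilpotent_of_finite_tfae (G := M)).out 0 3).mp hnil
  have hPMn : (PM : Subgroup M).Normal := hSyl p inferInstance PM
  obtain ⟨P, hPdef⟩ : ∃ P : Subgroup G, P = (PM : Subgroup M).map M.subtype := ⟨_, rfl⟩
  have hPp : IsPGroup p P := by rw [hPdef]; exact PM.2.map _
  have hPM : P ≤ M := by rw [hPdef]; exact Subgroup.map_subtype_le _
  have hPcard : Nat.card P = p ^ (Nat.card M).factorization p := by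
    rw [hPdef, Subgroup.card_map_of_injective M.subtype_injective]
    exact PM.card_eq_multiplicity
  have hvM : 1 ≤ (Nat.card M).factorization p :=
    (hp.dvd_iff_one_le_factorization Nat.card_pos.ne').mp hpM
  have hP1 : P ≠ ⊥ := by
    intro hb
    rw [hb, Subgroup.card_bot] at hPcard
    have : 1 < p ^ (Nat.card M).factorization p := Nat.one_lt_pow (by omega) hp.one_lt
    omega
  have hMP : M ≤ Subgroup.normalizer (P : Set G) := by
    intro m hm
    apply Cfsg.Agent.Lib.Helper17.mem_normalizer_of_forall_conj_mem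
    intro x hx
    rw [hPdef] at hx ⊢
    obtain ⟨y, hy, rfl⟩ := hx
    refine ⟨⟨m, hm⟩ * y * ⟨m, hm⟩⁻¹, hPMn.conj_mem y hy ⟨m, hm⟩, rfl⟩
  have hNP : Subgroup.normalizer (P : Set G) = M := normalizer_eq M hmax hcore P hPM hP1 hMP
  -- P is Sylow in G
  obtain ⟨S, hPS⟩ := hPp.exists_le_sylow
  have hPS' : P = (S : Subgroup G) := by
    apply Cfsg.Agent.Lib.Helper17.eq_of_normalizer_inf_le P S S.2 hPS
    rw [hNP]
    intro x hx
    obtain ⟨hxM, hxS⟩ := Subgroup.mem_inf.mp hx
    have hQ : IsPGroup p ((M ⊓ (S : Subgroup G)).subgroupOf M) :=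
      (S.2.to_le inf_le_right).comap_subtype
    have hle : (PM : Subgroup M) ≤ (M ⊓ (S : Subgroup G)).subgroupOf M := by
      intro y hy
      rw [mem_subgroupOf]
      refine Subgroup.mem_inf.mpr ⟨y.2, hPS ?_⟩
      rw [hPdef]; exact ⟨y, hy, rfl⟩
    have heq := PM.3 hQ hle
    have hxQ : (⟨x, hxM⟩ : M) ∈ (M ⊓ (S : Subgroup G)).subgroupOf M := by
      rw [mem_subgroupOf]; exact hx
    rw [heq] at hxQ
    rw [hPdef]
    exact ⟨⟨x, hxM⟩, hxQ, rfl⟩
  have hvG : (Nat.card G).factorization p = (Nat.card M).factorization p := by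
    have h1 := S.card_eq_multiplicity
    rw [← hPS', hPcard] at h1
    exact (Nat.pow_right_injective hp.two_le h1).symm
  refine ⟨hvG, ?_⟩
  -- the ZJ subgroup
  have hZJ : Cfsg.centerThompsonAOf P = Cfsg.inducedFunctor Cfsg.Agent.Lib.Helper8.GT.zjA P :=
    (Cfsg.Agent.Lib.Helper8.GT.inducedFunctor_zjA P).symm
  have hW := Cfsg.Agent.Lib.Helper8.GT.isCharPFunctor_zjA.{u} p
  have hZM : Cfsg.centerThompsonAOf P ≤ M := by
    rw [hZJ]
    exact (Subgroup.map_subtype_le _).trans hPM
  have hZ1 : Cfsg.centerThompsonAOf P ≠ ⊥ := by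
    rw [hZJ]
    unfold Cfsg.inducedFunctor
    rw [Ne, Subgroup.map_eq_bot_iff_of_injective _ P.subtype_injective]
    have hnt : Nontrivial P := by
      rw [Subgroup.nontrivial_iff_ne_bot]; exact hP1
    exact hW.1 P hPp hnt
  have hMZ : M ≤ Subgroup.normalizer (Cfsg.centerThompsonAOf P : Set G) := by
    rw [hZJ, ← hNP]
    exact Cfsg.Agent.Lib.Helper12.normalizer_le_normalizer_inducedFunctor _ hW P hPp
  have hNZ := normalizer_eq M hmax hcore _ hZM hZ1 hMZ
  have hMcomp : Cfsg.HasNormalPComplement p M :=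
    Cfsg.Agent.Lib.Helper12.hasNormalPComplement_iff_frobCond.mpr
      (Cfsg.Agent.Lib.Helper29.frobCond_of_isNilpotent hnil)
  have htrans : ∀ N : Subgroup G, N = M → Cfsg.HasNormalPComplement p N := by
    rintro N rfl; exact hMcomp
  have hN : Cfsg.HasNormalPComplement p
      ↥(Subgroup.normalizer (Cfsg.centerThompsonAOf (S : Subgroup G) : Set G)) := by
    apply htrans
    rw [← hPS']; exact hNZ
  obtain ⟨P', K, hKn, hK⟩ := Cfsg.Agent.Lib.Helper8.GT.glauberman_thompson hp2 S hN
  refine ⟨K, hKn, ?_, ?_⟩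
  · have := Cfsg.Agent.Lib.Helper12.coprime_card_of_isComplement' P' K hK
    intro hdvd
    have h1 : p ∣ Nat.gcd (Nat.card K) p := Nat.dvd_gcd hdvd (dvd_refl p)
    rw [this] at h1
    exact hp.one_lt.ne' (Nat.dvd_one.mp h1)
  · rw [hK.symm.index_eq_card, P'.card_eq_multiplicity, hvG]

lemma core_free_case {G : Type u} [Group G] [Finite G] (M : Subgroup G) (hmax : IsCoatom M)
    (hnil : Group.IsNilpotent M) (hodd : Odd (Nat.card M)) (hcore : M.normalCore = ⊥) :
    Group.IsSolvable G := by
  obtain ⟨K, hKn, hK⟩ := Cfsg.Agent.Lib.Helper29.exists_normal_complement_of_prime_complements M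
    (fun p hp hpM => (prime_step M hmax hnil hodd hcore p hp hpM).2)
  have hcardmul : Nat.card K * Nat.card M = Nat.card G := hK.card_mul_card
  have hcop : (Nat.card M).Coprime (Nat.card K) := by
    by_contra hnc
    obtain ⟨p, hp, hpM, hpK⟩ := Nat.Prime.not_coprime_iff_dvd.mp hnc
    have hv := (prime_step M hmax hnil hodd hcore p hp hpM).1
    rw [← hcardmul, Nat.factorization_mul Nat.card_pos.ne' Nat.card_pos.ne'] at hv
    have h0 : (Nat.card K).factorization p = 0 := by
      have := hv
      simp only [Finsupp.coe_add, Pi.add_apply] at this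
      omega
    have := (hp.dvd_iff_one_le_factorization Nat.card_pos.ne').mp hpK
    omega
  have hK1 : K ≠ ⊥ := by
    rintro rfl
    exact hmax.1 (Subgroup.isComplement'_bot_left.mp hK)
  have hcardK : Nat.card K ≠ 1 := fun h => hK1 (Subgroup.card_eq_one.mp h)
  obtain ⟨q, hq, hqK⟩ := Nat.exists_prime_and_dvd hcardK
  have : Fact q.Prime := ⟨hq⟩
  have hMK : M ≤ Subgroup.normalizer (K : Set G) := by
    rw [Subgroup.normalizer_eq_top_iff.mpr hKn]; exact le_top
  have hMsolv : Group.IsSolvable M := inferInstance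
  obtain ⟨Q, hQ⟩ := Cfsg.Agent.S0023.result M K hMK hcop (Or.inl hMsolv) q
  obtain ⟨Q', hQ'def⟩ : ∃ Q' : Subgroup G, Q' = (Q : Subgroup K).map K.subtype := ⟨_, rfl⟩
  rw [← hQ'def] at hQ
  have hQ'K : Q' ≤ K := by rw [hQ'def]; exact Subgroup.map_subtype_le _
  have hQ'1 : Q' ≠ ⊥ := by
    rw [hQ'def, Ne, Subgroup.map_eq_bot_iff_of_injective _ K.subtype_injective]
    exact Q.ne_bot_of_dvd_card hqK
  have hQ'p : IsPGroup q Q' := by rw [hQ'def]; exact Q.2.map _
  have hsup : M ⊔ Q' = ⊤ := by
    apply hmax.2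
    apply lt_of_le_of_ne le_sup_left
    intro heq
    have hQM : Q' ≤ M := by rw [heq]; exact le_sup_right
    have : Q' ≤ K ⊓ M := le_inf hQ'K hQM
    rw [hK.disjoint.eq_bot] at this
    exact hQ'1 (eq_bot_iff.mpr this)
  have hQ'n : Q'.Normal := by
    rw [← Subgroup.normalizer_eq_top_iff, eq_top_iff, ← hsup]
    exact sup_le hQ Subgroup.le_normalizer
  have hQ'solv : Group.IsSolvable Q' := by
    have : Group.IsNilpotent Q' := hQ'p.isNilpotent
    infer_instance
  have hquot : Group.IsSolvable (G ⧸ Q') := by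
    have hsurj : Function.Surjective ((QuotientGroup.mk' Q').comp M.subtype) := by
      intro y
      obtain ⟨g, rfl⟩ := QuotientGroup.mk_surjective y
      have hg : g ∈ M ⊔ Q' := hsup ▸ Subgroup.mem_top g
      rw [← SetLike.mem_coe, Subgroup.mul_normal, Set.mem_mul] at hg
      obtain ⟨m, hm, x, hx, rfl⟩ := hg
      refine ⟨⟨m, hm⟩, ?_⟩
      show (QuotientGroup.mk m : G ⧸ Q') = QuotientGroup.mk (m * x)
      rw [QuotientGroup.mk_mul, (QuotientGroup.eq_one_iff x).mpr hx, mul_one]
    exact Group.isSolvable_of_surjective hsurj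
  exact Group.isSolvable_of_ker_le_range Q'.subtype (QuotientGroup.mk' Q')
    (by rw [QuotientGroup.ker_mk', Subgroup.range_subtype])

theorem main : ∀ (n : ℕ) (G : Type u) [Group G] [Finite G], Nat.card G = n →
    ∀ (M : Subgroup G), IsCoatom M → Group.IsNilpotent M → Odd (Nat.card M) →
      Group.IsSolvable G := by
  intro n
  induction n using Nat.strong_induction_on with
  | _ n ih =>
    intro G _ _ hcard M hmax hnil hodd
    by_cases hcore : M.normalCore = ⊥
    · exact core_free_case M hmax hnil hodd hcore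
    · obtain ⟨N, hNdef⟩ : ∃ N : Subgroup G, N = M.normalCore := ⟨_, rfl⟩
      have hNn : N.Normal := by rw [hNdef]; infer_instance
      have hNM : N ≤ M := by rw [hNdef]; exact Subgroup.normalCore_le M
      have hN1 : N ≠ ⊥ := by rw [hNdef]; exact hcore
      have hlt : Nat.card (G ⧸ N) < n := hcard ▸ Cfsg.Agent.Lib.Helper1.card_quotient_lt_of_ne_bot hN1
      -- image of M
      have hcomap : (M.map (QuotientGroup.mk' N)).comap (QuotientGroup.mk' N) = M := by
        rw [Subgroup.comap_map_eq, QuotientGroup.ker_mk', sup_eq_left.mpr hNM]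
      have hmax' : IsCoatom (M.map (QuotientGroup.mk' N)) := by
        constructor
        · intro htop
          apply hmax.1
          rw [← hcomap, htop, Subgroup.comap_top]
        · intro L hL
          have h1 : M < L.comap (QuotientGroup.mk' N) := by
            rw [← hcomap]
            apply lt_of_le_of_ne (Subgroup.comap_mono hL.le)
            intro heq
            have h2 := congrArg (Subgroup.map (QuotientGroup.mk' N)) heq
            rw [Subgroup.map_comap_eq_self_of_surjective (QuotientGroup.mk'_surjective N),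
              Subgroup.map_comap_eq_self_of_surjective (QuotientGroup.mk'_surjective N)] at h2
            exact hL.ne h2
          have h3 := hmax.2 _ h1
          have h4 := congrArg (Subgroup.map (QuotientGroup.mk' N)) h3
          rw [Subgroup.map_comap_eq_self_of_surjective (QuotientGroup.mk'_surjective N)] at h4
          rw [h4, ← MonoidHom.range_eq_map, MonoidHom.range_eq_top]
          exact QuotientGroup.mk'_surjective N
      have hnil' : Group.IsNilpotent (M.map (QuotientGroup.mk' N)) :=
        Group.nilpotent_of_surjective ((QuotientGroup.mk' N).subgroupMap M)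
          ((QuotientGroup.mk' N).subgroupMap_surjective M)
      have hodd' : Odd (Nat.card (M.map (QuotientGroup.mk' N))) :=
        Odd.of_dvd_nat hodd (Subgroup.card_map_dvd M _)
      have hquot : Group.IsSolvable (G ⧸ N) := ih _ hlt (G ⧸ N) rfl _ hmax' hnil' hodd'
      have hNsolv : Group.IsSolvable N := by
        have h1 : Group.IsSolvable M := inferInstance
        exact Group.isSolvable_of_isSolvable_injective (f := Subgroup.inclusion hNM)
          (Subgroup.inclusion_injective hNM)
      exact Group.isSolvable_of_ker_le_range N.subtype (QuotientGroup.mk' N)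
        (by rw [QuotientGroup.ker_mk', Subgroup.range_subtype])


/-- A finite group possessing a maximal subgroup that is nilpotent of odd order is solvable. -/
theorem result {G : Type*} [Group G] [Finite G]
    (M : Subgroup G) (hmax : IsCoatom M) (hnil : Group.IsNilpotent M) (hodd : Odd (Nat.card M)) :
    Group.IsSolvable G := by
  exact main _ G rfl M hmax hnil hodd

end Cfsg.Agent.S4040
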