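import Cfsg.Statements.S4043
import Mathlib
import Cfsg.Agent.Lib.Helper1.Coprime

set_option autoImplicit false
open Cfsg

namespace Cfsg.Agent.S4043

open Pointwise
open Cfsg.Agent.Lib.Helper1

/-- Unpack a normal `p`-complement of a subgroup `A` of `G` into subgroups of `G`. -/
theorem exists_pcomplement_data {G : Type*} [Group G] [Finite G] {p : ℕ} [Fact p.Prime]
    (A : Subgroup G) (h : Cfsg.HasNormalPComplement p A) :
    ∃ K PA : Subgroup G, K ≤ A ∧ PA ≤ A ∧ A ≤ Subgroup.normalizer (K : Set G) ∧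
      (Nat.card K).Coprime p ∧ IsPGroup p PA ∧ ∀ a ∈ A, ∃ k ∈ K, ∃ x ∈ PA, a = k * x := by
  have hp : p.Prime := Fact.out
  obtain ⟨P, K', hK'n, hc⟩ := h
  refine ⟨K'.map A.subtype, (P : Subgroup A).map A.subtype, Subgroup.map_subtype_le _,
    Subgroup.map_subtype_le _, ?_, ?_, P.2.map _, ?_⟩
  · intro a ha
    apply mem_normalizer_of_forall_conj_mem
    rintro x ⟨k, hk, rfl⟩
    refine ⟨⟨a, ha⟩ * k * ⟨a, ha⟩⁻¹, hK'n.conj_mem k hk ⟨a, ha⟩, ?_⟩
    simp
  · rw [Subgroup.card_map_of_injective A.subtype_injective, ← hc.index_eq_card]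
    exact ((Nat.Prime.coprime_iff_not_dvd hp).mpr P.not_dvd_index).symm
  · intro a ha
    obtain ⟨⟨k, x⟩, hkx, -⟩ := hc.existsUnique ⟨a, ha⟩
    refine ⟨(k : A), Subgroup.mem_map_of_mem A.subtype k.2, (x : A),
      Subgroup.mem_map_of_mem A.subtype x.2, ?_⟩
    have := congrArg (Subtype.val : A → G) hkx
    simpa using this.symm

theorem mem_normalizer_sup {G : Type*} [Group G] {H K : Subgroup G} {g : G}
    (hH : g ∈ Subgroup.normalizer (H : Set G)) (hK : g ∈ Subgroup.normalizer (K : Set G)) :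
    g ∈ Subgroup.normalizer ((H ⊔ K : Subgroup G) : Set G) := by
  rw [Subgroup.mem_normalizer_iff_map_conj_eq] at hH hK ⊢
  rw [Subgroup.map_sup, hH, hK]

/-- every `p'`-subgroup lies in `N ⊔ K`. -/
theorem le_sup_of_coprime {G : Type*} [Group G] [Finite G] {p : ℕ} [Fact p.Prime]
    (N : Subgroup G) [hNn : N.Normal] (A : Subgroup G) (hA : A.IsComplement' N)
    (K PA : Subgroup G) (hAK : A ≤ Subgroup.normalizer (K : Set G)) (hPAp : IsPGroup p PA)
    (hgen : ∀ a ∈ A, ∃ k ∈ K, ∃ x ∈ PA, a = k * x)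
    (L : Subgroup G) (hL : (Nat.card L).Coprime p) : L ≤ N ⊔ K := by
  have hMn : (N ⊔ K).Normal := by
    rw [← Subgroup.normalizer_eq_top_iff, eq_top_iff, ← hA.sup_eq_top]
    apply sup_le
    · intro a ha
      exact mem_normalizer_sup (by rw [Subgroup.normalizer_eq_top_iff.mpr hNn]; trivial) (hAK ha)
    · exact (le_sup_left : N ≤ N ⊔ K).trans Subgroup.le_normalizer
  intro l hl
  obtain ⟨⟨a, n⟩, han, -⟩ := hA.existsUnique l
  obtain ⟨k, hk, x, hx, hax⟩ := hgen a a.2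
  have hl' : l = k * x * n := by rw [← hax]; exact han.symm
  have hq : (QuotientGroup.mk' (N ⊔ K)) l = (QuotientGroup.mk' (N ⊔ K)) x := by
    have h1 : (QuotientGroup.mk' (N ⊔ K)) k = 1 :=
      (QuotientGroup.eq_one_iff k).mpr ((le_sup_right : K ≤ N ⊔ K) hk)
    have h2 : (QuotientGroup.mk' (N ⊔ K)) (n : G) = 1 :=
      (QuotientGroup.eq_one_iff (n : G)).mpr ((le_sup_left : N ≤ N ⊔ K) n.2)
    rw [hl', map_mul, map_mul, h1, h2, one_mul, mul_one]
  obtain ⟨j, hj⟩ := hPAp ⟨x, hx⟩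
  have hxj : x ^ p ^ j = 1 := by
    have := congrArg (Subtype.val : PA → G) hj
    simpa using this
  have h3 : ((QuotientGroup.mk' (N ⊔ K)) l) ^ p ^ j = 1 := by
    rw [hq, ← map_pow, hxj, map_one]
  have h4 : ((QuotientGroup.mk' (N ⊔ K)) l) ^ Nat.card L = 1 := by
    have : (⟨l, hl⟩ : L) ^ Nat.card L = 1 := pow_card_eq_one'
    have h5 : l ^ Nat.card L = 1 := by
      have h := congrArg (Subtype.val : L → G) this
      rwa [Subgroup.coe_pow, Subgroup.coe_one] at h
    rw [← map_pow, h5, map_one]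
  have h6 : orderOf ((QuotientGroup.mk' (N ⊔ K)) l) = 1 := by
    have d1 := orderOf_dvd_of_pow_eq_one h3
    have d2 := orderOf_dvd_of_pow_eq_one h4
    exact Nat.Coprime.eq_one_of_dvd
      (Nat.Coprime.coprime_dvd_left d2 (Nat.Coprime.pow_right j hL)) d1
  exact (QuotientGroup.eq_one_iff l).mp (orderOf_eq_one_iff.mp h6)

/-- `N_N(K) = 1`. -/
theorem eq_one_of_mem_normalizer {G : Type*} [Group G] [Finite G] {p : ℕ} [Fact p.Prime]
    (N : Subgroup G) [hNn : N.Normal] (hN : IsPGroup p N) (A : Subgroup G) (hAN : Disjoint A N)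
    (K PA : Subgroup G) (hKA : K ≤ A) (hPA : PA ≤ A)
    (hAK : A ≤ Subgroup.normalizer (K : Set G)) (hPAp : IsPGroup p PA)
    (hgen : ∀ a ∈ A, ∃ k ∈ K, ∃ x ∈ PA, a = k * x)
    (hC : ∀ n : G, n ∈ N → (∀ a : G, a ∈ A → a * n * a⁻¹ = n) → n = 1) :
    ∀ n ∈ N, n ∈ Subgroup.normalizer (K : Set G) → n = 1 := by
  classical
  have hp : p.Prime := Fact.out
  set C : Subgroup G := N ⊓ Subgroup.centralizer (K : Set G) with hCdef
  -- N_N(K) ≤ C
  have hNC : ∀ n ∈ N, n ∈ Subgroup.normalizer (K : Set G) → n ∈ C := by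
    intro n hn hnK
    refine Subgroup.mem_inf.mpr ⟨hn, ?_⟩
    rw [Subgroup.mem_centralizer_iff]
    intro k hk
    have h1 : n * k * n⁻¹ * k⁻¹ ∈ K :=
      K.mul_mem ((Subgroup.mem_normalizer_iff.mp hnK k).mp hk) (K.inv_mem hk)
    have h2 : n * k * n⁻¹ * k⁻¹ ∈ N := by
      have : n * (k * n⁻¹ * k⁻¹) ∈ N := N.mul_mem hn (hNn.conj_mem _ (N.inv_mem hn) k)
      simpa [mul_assoc] using this
    have h3 : n * k * n⁻¹ * k⁻¹ = 1 := by
      have := Subgroup.mem_bot.mp (hAN.le_bot (Subgroup.mem_inf.mpr ⟨hKA h1, h2⟩))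
      exact this
    calc k * n = (n * k * n⁻¹ * k⁻¹)⁻¹ * (n * k) := by group
      _ = n * k := by rw [h3]; simp
  -- A normalizes C
  have hAC : A ≤ Subgroup.normalizer (C : Set G) := by
    intro a ha
    apply mem_normalizer_of_forall_conj_mem
    intro c hc
    obtain ⟨hcN, hcK⟩ := Subgroup.mem_inf.mp hc
    refine Subgroup.mem_inf.mpr ⟨hNn.conj_mem c hcN a, ?_⟩
    rw [Subgroup.mem_centralizer_iff] at hcK ⊢
    intro k hk
    have hk' : a⁻¹ * k * a ∈ K := by
      have := (Subgroup.mem_normalizer_iff.mp (Subgroup.inv_mem _ (hAK ha)) k).mp hk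
      simpa using this
    have := hcK _ hk'
    calc k * (a * c * a⁻¹) = a * ((a⁻¹ * k * a) * c) * a⁻¹ := by group
      _ = a * (c * (a⁻¹ * k * a)) * a⁻¹ := by rw [this]
      _ = a * c * a⁻¹ * k := by group
  by_contra hcon
  push Not at hcon
  obtain ⟨n₀, hn₀N, hn₀K, hn₀⟩ := hcon
  have hCne : C ≠ ⊥ := by
    intro h
    have := hNC n₀ hn₀N hn₀K
    rw [h, Subgroup.mem_bot] at this
    exact hn₀ this
  have hCp : IsPGroup p C := hN.to_le inf_le_left
  have hPAC : PA ≤ Subgroup.normalizer (C : Set G) := hPA.trans hAC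
  letI : MulAction PA C := MulAction.compHom C
    ((C.normalizerMonoidHom).comp (Subgroup.inclusion hPAC))
  have hsmul : ∀ (x : PA) (c : C), ((x • c : C) : G) = (x : G) * c * (x : G)⁻¹ := by
    intro x c
    rfl
  have hdvd : p ∣ Nat.card C := by
    obtain ⟨m, hm⟩ := IsPGroup.iff_card.mp hCp
    rw [hm]
    apply dvd_pow_self
    rintro rfl
    rw [pow_zero] at hm
    exact hCne ((Subgroup.card_eq_one).mp hm)
  have hfix1 : (1 : C) ∈ MulAction.fixedPoints PA C := by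
    intro x
    apply Subtype.ext
    rw [hsmul]
    simp
  obtain ⟨b, hb, hb1⟩ := hPAp.exists_fixed_point_of_prime_dvd_card_of_fixed_point C hdvd hfix1
  apply hb1
  apply Subtype.ext
  symm
  obtain ⟨hbN, hbK⟩ := Subgroup.mem_inf.mp b.2
  apply hC (b : G) hbN
  intro a ha
  obtain ⟨k, hk, x, hx, rfl⟩ := hgen a ha
  have h1 : x * (b : G) * x⁻¹ = b := by
    have := hb ⟨x, hx⟩
    have := congrArg (Subtype.val : C → G) this
    rwa [hsmul] at this
  have h2 : k * (b : G) = b * k := Subgroup.mem_centralizer_iff.mp hbK k hk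
  calc k * x * (b : G) * (k * x)⁻¹ = k * (x * b * x⁻¹) * k⁻¹ := by group
    _ = k * b * k⁻¹ := by rw [h1]
    _ = b := by rw [h2]; group

/-- Let G be a finite group that is the semidirect product of a normal p-subgroup N by a subgroup A, and also of N by a subgroup A₁, where p is a prime and A and A₁ both have normal p-complements. If C_N(A) = C_N(A₁) = 1, then A₁ is conjugate to A by an element of N. -/
theorem result {G : Type*} [Group G] [Finite G] {p : ℕ}
    [Fact p.Prime] (N : Subgroup G) [N.Normal] (hN : IsPGroup p N) (A A₁ : Subgroup G)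
    (hA : A.IsComplement' N) (hA₁ : A₁.IsComplement' N)
    (hAp : Cfsg.HasNormalPComplement p A) (hA₁p : Cfsg.HasNormalPComplement p A₁)
    (hC : ∀ n : G, n ∈ N → (∀ a : G, a ∈ A → a * n * a⁻¹ = n) → n = 1)
    (hC₁ : ∀ n : G, n ∈ N → (∀ a : G, a ∈ A₁ → a * n * a⁻¹ = n) → n = 1) :
    ∃ n : G, n ∈ N ∧ A₁ = A.map (MulAut.conj n).toMonoidHom := by
  classical
  have hp : p.Prime := Fact.out
  obtain ⟨K, PA, hKA, hPA, hAK, hKp, hPAp, hgen⟩ := exists_pcomplement_data A hAp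
  obtain ⟨K₁, PA₁, hKA₁, hPA₁, hAK₁, hKp₁, hPAp₁, hgen₁⟩ := exists_pcomplement_data A₁ hA₁p
  have hK₁M : K₁ ≤ N ⊔ K := le_sup_of_coprime N A hA K PA hAK hPAp hgen K₁ hKp₁
  have hKM₁ : K ≤ N ⊔ K₁ := le_sup_of_coprime N A₁ hA₁ K₁ PA₁ hAK₁ hPAp₁ hgen₁ K hKp
  have hM : N ⊔ K₁ = N ⊔ K :=
    le_antisymm (sup_le le_sup_left hK₁M) (sup_le le_sup_left hKM₁)
  have hdisj : Disjoint N K := (hA.disjoint.mono_left hKA).symm
  have hdisj₁ : Disjoint N K₁ := (hA₁.disjoint.mono_left hKA₁).symm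
  have hNnorm : ∀ H : Subgroup G, H ≤ Subgroup.normalizer (N : Set G) := fun H => by
    rw [Subgroup.normalizer_eq_top_iff.mpr inferInstance]; exact le_top
  have hc : IsComplIn N K (N ⊔ K) := isComplIn_sup (hNnorm K) hdisj
  have hc₁ : IsComplIn N K₁ (N ⊔ K) := hM ▸ isComplIn_sup (hNnorm K₁) hdisj₁
  have hcop : Nat.Coprime (Nat.card N) (Nat.card K) := by
    obtain ⟨m, hm⟩ := IsPGroup.iff_card.mp hN
    rw [hm]
    exact (Nat.Coprime.pow_right m hKp).symm
  have hsolv : Group.IsSolvable N := by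
    haveI := hN.isNilpotent
    infer_instance
  obtain ⟨n, hnN, hn⟩ := internal_sz_conj (hNnorm _) hc hc₁ hcop (Or.inl hsolv)
  -- B = conj n • A₁ normalizes K
  have hBK : MulAut.conj n • A₁ ≤ Subgroup.normalizer (K : Set G) := by
    have := conj_smul_normalizer K₁ n
    rw [hn] at this
    rw [← this]
    exact Subgroup.pointwise_smul_le_pointwise_smul_iff.mpr hAK₁
  have hN1 := eq_one_of_mem_normalizer N hN A hA.disjoint K PA hKA hPA hAK hPAp hgen hC
  have hBA : MulAut.conj n • A₁ ≤ A := by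
    intro b hb
    obtain ⟨⟨a, m⟩, ham, -⟩ := hA.existsUnique b
    have hm1 : (m : G) = 1 := by
      apply hN1 _ m.2
      have : (m : G) = (a : G)⁻¹ * b := by rw [← ham]; group
      rw [this]
      exact Subgroup.mul_mem _ (Subgroup.inv_mem _ (hAK a.2)) (hBK hb)
    have : b = a := by rw [← ham, hm1, mul_one]
    rw [this]; exact a.2
  have hcard : Nat.card (MulAut.conj n • A₁ : Subgroup G) = Nat.card A := by
    rw [show Nat.card (MulAut.conj n • A₁ : Subgroup G) = Nat.card A₁ from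
      Nat.card_congr (Subgroup.equivSMul (MulAut.conj n) A₁).symm.toEquiv]
    have h1 := hA.card_mul_card
    have h2 := hA₁.card_mul_card
    have hN0 : 0 < Nat.card N := Nat.card_pos
    exact Nat.eq_of_mul_eq_mul_right hN0 (h2.trans h1.symm)
  have hBeq : MulAut.conj n • A₁ = A :=
    Subgroup.eq_of_le_of_card_ge hBA hcard.ge
  refine ⟨n⁻¹, N.inv_mem hnN, ?_⟩
  have : A.map (MulAut.conj n⁻¹).toMonoidHom = MulAut.conj n⁻¹ • A := rfl
  rw [this, ← hBeq, ← mul_smul, ← map_mul, inv_mul_cancel, map_one, one_smul]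

end Cfsg.Agent.S4043
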