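import Cfsg.Statements.S4049
import Mathlib
import Cfsg.Agent.Lib.Helper11.RealOdd
-- import your own Cfsg.Agent.* helpers here

set_option autoImplicit false
open Cfsg

namespace Cfsg.Agent.S4049

/-- Let G be a finite group such that N_G(H)/C_G(H) has odd order for every nontrivial subgroup H of odd order. Then the Sylow 2-subgroups of G are normal. -/
theorem result {G : Type*} [Group G] [Finite G]
    (hhom : ∀ H : Subgroup G, H ≠ ⊥ → ¬ 2 ∣ Nat.card ↥H →
        ¬ 2 ∣ (Subgroup.centralizer (H : Set G)).relIndex (Subgroup.normalizer (H : Set G))) (P : Sylow 2 G) :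
    (P : Subgroup G).Normal := by
  apply Cfsg.Agent.Lib.Helper11.normal_sylow_of_no_real_odd P
  intro x hx1 hodd hconj
  obtain ⟨c, hc⟩ := isConj_iff.mp hconj
  have hc' : c⁻¹ * x * c = x⁻¹ := by
    have h1 : c * x⁻¹ * c⁻¹ = x := by
      have : c * x⁻¹ * c⁻¹ = (c * x * c⁻¹)⁻¹ := by group
      rw [this, hc, inv_inv]
    calc c⁻¹ * x * c = c⁻¹ * (c * x⁻¹ * c⁻¹) * c := by rw [h1]
      _ = x⁻¹ := by group
  have hxne : x ≠ x⁻¹ := by
    intro hxx
    have hx2 : x ^ 2 = 1 := by
      rw [pow_two]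
      nth_rewrite 2 [hxx]
      exact mul_inv_cancel x
    have hd : orderOf x ∣ 2 := orderOf_dvd_of_pow_eq_one hx2
    have hcop : Nat.Coprime (orderOf x) 2 := Nat.coprime_two_right.mpr hodd
    exact hx1 (orderOf_eq_one_iff.mp (Nat.Coprime.eq_one_of_dvd hcop hd))
  set H : Subgroup G := Subgroup.zpowers x with hH
  have hHbot : H ≠ ⊥ := by
    intro h
    have : x ∈ (⊥ : Subgroup G) := h ▸ Subgroup.mem_zpowers x
    exact hx1 (Subgroup.mem_bot.mp this)
  have hHodd : ¬ 2 ∣ Nat.card ↥H := by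
    rw [hH, Nat.card_zpowers]
    exact fun h => (Nat.not_even_iff_odd.mpr hodd) (even_iff_two_dvd.mpr h)
  have hnorm : c ∈ Subgroup.normalizer (H : Set G) := by
    have key : ∀ h : G, h ∈ H → c * h * c⁻¹ ∈ H := by
      intro h hh
      obtain ⟨i, rfl⟩ := Subgroup.mem_zpowers_iff.mp hh
      have := (MulAut.conj c).toMonoidHom.map_zpow x i
      simp only [MulEquiv.toMonoidHom_eq_coe, MonoidHom.coe_coe, MulAut.conj_apply] at this
      rw [this, hc]
      exact Subgroup.zpow_mem _ (Subgroup.inv_mem _ (Subgroup.mem_zpowers x)) i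
    have key' : ∀ h : G, h ∈ H → c⁻¹ * h * c ∈ H := by
      intro h hh
      obtain ⟨i, rfl⟩ := Subgroup.mem_zpowers_iff.mp hh
      have := (MulAut.conj c⁻¹).toMonoidHom.map_zpow x i
      simp only [MulEquiv.toMonoidHom_eq_coe, MonoidHom.coe_coe, MulAut.conj_apply, inv_inv] at this
      rw [this, hc']
      exact Subgroup.zpow_mem _ (Subgroup.inv_mem _ (Subgroup.mem_zpowers x)) i
    rw [Subgroup.mem_normalizer_iff]
    intro h
    constructor
    · exact key h
    · intro hh
      have := key' _ hh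
      have e : c⁻¹ * (c * h * c⁻¹) * c = h := by group
      rwa [e] at this
  apply hhom H hHbot hHodd
  -- the image of c in Aut(H) has order 2
  set φ := H.normalizerMonoidHom with hφ
  have hrel : (Subgroup.centralizer (H : Set G)).relIndex (Subgroup.normalizer (H : Set G)) =
      Nat.card φ.range := by
    rw [← Subgroup.index_ker, hφ, Subgroup.normalizerMonoidHom_ker]
    rfl
  rw [hrel]
  set cN : Subgroup.normalizer (H : Set G) := ⟨c, hnorm⟩ with hcN
  have hφc1 : φ cN ≠ 1 := by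
    intro h
    have h1 := congrArg (fun f => f ⟨x, Subgroup.mem_zpowers x⟩) h
    simp only [MulAut.one_apply] at h1
    have h2 := congrArg Subtype.val h1
    have h3 : ((φ cN) ⟨x, Subgroup.mem_zpowers x⟩ : G) = c * x * c⁻¹ := rfl
    rw [h3, hc] at h2
    exact hxne h2.symm
  have hφc2 : (φ cN) ^ 2 = 1 := by
    ext ⟨h, hh⟩
    obtain ⟨i, rfl⟩ := Subgroup.mem_zpowers_iff.mp hh
    rw [pow_two]
    simp only [MulAut.mul_apply, MulAut.one_apply]
    have h3 : ∀ (u : H), ((φ cN) u : G) = c * (u : G) * c⁻¹ := fun u => rfl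
    rw [h3, h3]
    simp only
    have e1 := (MulAut.conj c).toMonoidHom.map_zpow x i
    simp only [MulEquiv.toMonoidHom_eq_coe, MonoidHom.coe_coe, MulAut.conj_apply] at e1
    have e2 := (MulAut.conj c).toMonoidHom.map_zpow x⁻¹ i
    simp only [MulEquiv.toMonoidHom_eq_coe, MonoidHom.coe_coe, MulAut.conj_apply] at e2
    have h4 : c * x⁻¹ * c⁻¹ = x := by
      have : c * x⁻¹ * c⁻¹ = (c * x * c⁻¹)⁻¹ := by group
      rw [this, hc, inv_inv]
    rw [e1, hc, e2, h4]
  have hord : orderOf (φ cN) = 2 := orderOf_eq_prime hφc2 hφc1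
  have hmem : φ cN ∈ φ.range := ⟨cN, rfl⟩
  have := Subgroup.orderOf_dvd_natCard φ.range hmem
  rwa [hord] at this

end Cfsg.Agent.S4049
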