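import Cfsg.Statements.S4051
import Mathlib
import Cfsg.Agent.Lib.Helper1.Coprime
import Cfsg.Agent.S0025
-- import your own Cfsg.Agent.* helpers here

set_option autoImplicit false
open Cfsg

namespace Cfsg.Agent.S4051

open Subgroup
/-- all prime divisors of `n` lie in `π` -/
def PiNum (π : Set ℕ) (n : ℕ) : Prop := ∀ p : ℕ, p.Prime → p ∣ n → p ∈ π

/-- `x` is a `π`-element -/
def PiEl (π : Set ℕ) {G : Type*} [Monoid G] (x : G) : Prop :=
  ∀ p : ℕ, p.Prime → p ∣ orderOf x → p ∈ π

/-- the `π`-elements form a subgroup -/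
def PiSub (π : Set ℕ) (G : Type*) [Group G] : Prop :=
  ∃ L : Subgroup G, ∀ x : G, x ∈ L ↔ PiEl π x

theorem PiNum.mul {π : Set ℕ} {a b : ℕ} (ha : PiNum π a) (hb : PiNum π b) : PiNum π (a * b) := by
  intro p hp hd
  rcases (Nat.Prime.dvd_mul hp).mp hd with h | h
  · exact ha p hp h
  · exact hb p hp h

theorem PiNum.of_dvd {π : Set ℕ} {a b : ℕ} (hab : a ∣ b) (hb : PiNum π b) : PiNum π a :=
  fun p hp hd => hb p hp (hd.trans hab)

theorem PiNum.eq_one {π : Set ℕ} {n : ℕ} (h1 : PiNum π n) (h2 : PiNum πᶜ n) : n = 1 := by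
  by_contra hne
  obtain ⟨p, hp, hd⟩ := Nat.exists_prime_and_dvd hne
  exact h2 p hp hd (h1 p hp hd)

theorem PiNum.coprime {π : Set ℕ} {a b : ℕ} (ha : PiNum π a) (hb : PiNum πᶜ b) :
    Nat.Coprime a b :=
  Nat.coprime_of_dvd fun k hk h1 h2 => hb k hk h2 (ha k hk h1)

theorem PiNum.pow_prime {π : Set ℕ} {p : ℕ} (hp : p.Prime) (hpπ : p ∈ π) (k : ℕ) :
    PiNum π (p ^ k) := by
  intro q hq hd
  have := (Nat.prime_dvd_prime_iff_eq hq hp).mp (hq.dvd_of_dvd_pow hd)
  rw [this]; exact hpπ

theorem PiEl.pow {π : Set ℕ} {G : Type*} [Monoid G] {x : G} (hx : PiEl π x) (n : ℕ) :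
    PiEl π (x ^ n) :=
  fun p hp hd => hx p hp (hd.trans (orderOf_pow_dvd n))

theorem PiEl.map {π : Set ℕ} {G H : Type*} [Monoid G] [Monoid H] (f : G →* H) {x : G}
    (hx : PiEl π x) : PiEl π (f x) :=
  fun p hp hd => hx p hp (hd.trans (orderOf_map_dvd f x))

theorem PiEl.of_pow_eq_one {π : Set ℕ} {G : Type*} [Monoid G] {x : G} {m : ℕ}
    (hm : PiNum π m) (h : x ^ m = 1) : PiEl π x :=
  fun p hp hd => hm p hp (hd.trans (orderOf_dvd_of_pow_eq_one h))

theorem PiEl.eq_one {π : Set ℕ} {G : Type*} [Monoid G] {x : G} (h1 : PiEl π x)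
    (h2 : PiEl πᶜ x) : x = 1 :=
  orderOf_eq_one_iff.mp (PiNum.eq_one h1 h2)

theorem piEl_coe {π : Set ℕ} {G : Type*} [Group G] {H : Subgroup G} (x : H) :
    PiEl π (x : G) ↔ PiEl π x := by
  unfold PiEl
  rw [Subgroup.orderOf_coe]

theorem piEl_of_mem {π : Set ℕ} {G : Type*} [Group G] (H : Subgroup G) [Finite H]
    (hH : PiNum π (Nat.card H)) {x : G} (hx : x ∈ H) : PiEl π x := by
  have h1 : orderOf (⟨x, hx⟩ : H) ∣ Nat.card H := orderOf_dvd_natCard _
  rw [← Subgroup.orderOf_coe] at h1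
  exact fun p hp hd => hH p hp (hd.trans h1)

theorem piNum_card_of_forall {π : Set ℕ} {G : Type*} [Group G] [Finite G]
    (h : ∀ x : G, PiEl π x) : PiNum π (Nat.card G) := by
  intro p hp hd
  have := Fact.mk hp
  obtain ⟨x, hx⟩ := exists_prime_orderOf_dvd_card' p hd
  exact h x p hp (by rw [hx])

theorem piEl_conj {π : Set ℕ} {G : Type*} [Group G] (g x : G) :
    PiEl π (g * x * g⁻¹) ↔ PiEl π x := by
  unfold PiEl
  have : orderOf (g * x * g⁻¹) = orderOf x := by
    have := (MulAut.conj g).orderOf_eq x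
    simpa [MulAut.conj_apply] using this
  rw [this]

/-- Step 1: modulo a normal `π`-subgroup, `π`-elements lift. -/
theorem piEl_of_quot {π : Set ℕ} {G : Type*} [Group G] (L : Subgroup G) [L.Normal] [Finite L]
    (hL : PiNum π (Nat.card L)) {x : G} (hx : PiEl π (QuotientGroup.mk' L x)) : PiEl π x := by
  set m := orderOf (QuotientGroup.mk' L x) with hm
  have h1 : x ^ m ∈ L := by
    rw [← QuotientGroup.eq_one_iff, ← QuotientGroup.mk'_apply, map_pow, hm]
    exact pow_orderOf_eq_one _
  have h2 : (x ^ m) ^ Nat.card L = 1 := by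
    have h3 : orderOf (⟨x ^ m, h1⟩ : L) ∣ Nat.card L := orderOf_dvd_natCard _
    rw [← Subgroup.orderOf_coe] at h3
    exact orderOf_dvd_iff_pow_eq_one.mp h3
  rw [← pow_mul] at h2
  exact PiEl.of_pow_eq_one (PiNum.mul hx hL) h2


/-- A central subgroup of index coprime to its order has the elements killed by the index as a
complement. -/
theorem exists_compl_of_central {M : Type*} [Group M] [Finite M]
    (D : Subgroup M) (hD : D ≤ Subgroup.center M) (hcop : (Nat.card D).Coprime D.index) :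
    ∃ K : Subgroup M, ∀ x : M, x ∈ K ↔ x ^ D.index = 1 := by
  have hDn : D.Normal := by
    constructor
    intro d hd g
    have : g * d = d * g := (Subgroup.mem_center_iff.mp (hD hd) g)
    rw [this, mul_inv_cancel_right]
    exact hd
  obtain ⟨K, hK⟩ := Subgroup.exists_right_complement'_of_coprime hcop
  have hcardK : Nat.card K = D.index := by
    have h1 := hK.card_mul_card
    have h2 := D.card_mul_index
    have hpos : 0 < Nat.card D := Nat.card_pos
    exact Nat.eq_of_mul_eq_mul_left hpos (h1.trans h2.symm)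
  have hpowK : ∀ y ∈ K, y ^ D.index = 1 := by
    intro y hy
    have h3 : orderOf (⟨y, hy⟩ : K) ∣ Nat.card K := orderOf_dvd_natCard _
    rw [← Subgroup.orderOf_coe, hcardK] at h3
    exact orderOf_dvd_iff_pow_eq_one.mp h3
  refine ⟨K, fun x => ⟨hpowK x, fun hx => ?_⟩⟩
  obtain ⟨⟨⟨d, hd⟩, ⟨y, hy⟩⟩, hdy, -⟩ := (Subgroup.isComplement_iff_existsUnique.mp hK) x
  simp only at hdy
  have hcomm : Commute d y := (Subgroup.mem_center_iff.mp (hD hd) y).symm
  have hy1 : y ^ D.index = 1 := hpowK y hy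
  have hd1 : d ^ D.index = 1 := by
    have := hcomm.mul_pow D.index
    rw [hdy, hx, hy1, mul_one] at this
    exact this.symm
  have hd2 : orderOf d ∣ Nat.card D := by
    have h3 : orderOf (⟨d, hd⟩ : D) ∣ Nat.card D := orderOf_dvd_natCard _
    rwa [← Subgroup.orderOf_coe] at h3
  have hd3 : orderOf d ∣ D.index := orderOf_dvd_of_pow_eq_one hd1
  have hd4 : d = 1 := by
    rw [← orderOf_eq_one_iff]
    exact Nat.eq_one_of_dvd_coprimes hcop hd2 hd3
  rw [← hdy, hd4, one_mul]
  exact hy

/-- Step 2: a normal `π'`-subgroup centralised by all `π`-elements, with `π`-closed quotient. -/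
theorem piSub_of_central {π : Set ℕ} {G Q : Type*} [Group G] [Finite G] [Group Q] [Finite Q]
    (N : Subgroup G) (hN : PiNum πᶜ (Nat.card N)) (f : G →* Q) (hker : f.ker ≤ N)
    (hQ : PiSub π Q) (hcent : ∀ x : G, PiEl π x → ∀ n ∈ N, n * x = x * n) : PiSub π G := by
  obtain ⟨T, hT⟩ := hQ
  have hTcard : PiNum π (Nat.card T) :=
    piNum_card_of_forall (fun y => (piEl_coe y).mp ((hT y).mp y.2))
  set C : Subgroup G := T.comap f ⊓ centralizer (N : Set G) with hC
  have hmemC : ∀ x, PiEl π x → x ∈ C := by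
    intro x hx
    refine ⟨?_, ?_⟩
    · show f x ∈ T
      exact (hT _).mpr (hx.map f)
    · show x ∈ centralizer (N : Set G)
      rw [mem_centralizer_iff]
      intro n hn
      exact hcent x hx n hn
  set D : Subgroup C := N.subgroupOf C with hD
  have hDcen : D ≤ center C := by
    intro d hd
    rw [mem_center_iff]
    intro c
    have h1 : (d : G) ∈ N := mem_subgroupOf.mp hd
    have h2 : (c : G) ∈ centralizer (N : Set G) := c.2.2
    apply Subtype.ext
    simp only [coe_mul]
    exact (mem_centralizer_iff.mp h2 _ h1).symm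
  have hDn : D.Normal := by
    constructor
    intro d hd g
    have : g * d = d * g := (Subgroup.mem_center_iff.mp (hDcen hd) g)
    rw [this, mul_inv_cancel_right]
    exact hd
  have hDcard : PiNum πᶜ (Nat.card D) := by
    apply PiNum.of_dvd _ hN
    apply Subgroup.card_dvd_of_injective
      ((C.subtype.comp D.subtype).codRestrict N (fun d => mem_subgroupOf.mp d.2))
    intro a b hab
    have : ((a : C) : G) = ((b : C) : G) := congrArg (fun z : N => (z : G)) hab
    exact Subtype.ext (Subtype.ext this)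
  have hDidx : PiNum π D.index := by
    set g : C →* Q := f.comp C.subtype with hg
    have h1 : g.ker ≤ D := by
      intro c hc
      rw [MonoidHom.mem_ker] at hc
      have : (c : G) ∈ f.ker := by rw [MonoidHom.mem_ker]; exact hc
      exact mem_subgroupOf.mpr (hker this)
    have h2 : g.range ≤ T := by
      rintro _ ⟨c, rfl⟩
      exact c.2.1
    have h3 : D.index ∣ Nat.card T := by
      refine (Subgroup.index_dvd_of_le h1).trans ?_
      rw [Subgroup.index_ker]
      exact Subgroup.card_dvd_of_le h2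
    exact PiNum.of_dvd h3 hTcard
  obtain ⟨P, hP⟩ := exists_compl_of_central D hDcen (hDidx.coprime hDcard).symm
  refine ⟨P.map C.subtype, fun x => ⟨?_, ?_⟩⟩
  · rintro ⟨c, hc, rfl⟩
    have h1 := (hP c).mp hc
    have h2 : ((c : G)) ^ D.index = 1 := by
      have := congrArg Subtype.val h1
      simpa using this
    exact PiEl.of_pow_eq_one hDidx h2
  · intro hx
    have hxC := hmemC x hx
    refine ⟨⟨x, hxC⟩, ?_, rfl⟩
    rw [SetLike.mem_coe, hP]
    have h1 : (⟨x, hxC⟩ : C) ^ D.index ∈ D := Subgroup.pow_index_mem D _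
    have h2 : x ^ D.index ∈ N := by
      have := mem_subgroupOf.mp h1
      simpa using this
    have h3 : x ^ D.index = 1 := PiEl.eq_one (hx.pow _) (piEl_of_mem N hN h2)
    apply Subtype.ext
    simpa using h3


/-- elementwise form of the homogeneity hypothesis -/
def Hcen (π : Set ℕ) (G : Type*) [Group G] : Prop :=
  ∀ (Q : Subgroup G) (q : ℕ), q.Prime → q ∉ π → IsPGroup q Q →
    ∀ n ∈ normalizer (Q : Set G), PiEl π n → n ∈ centralizer (Q : Set G)

theorem hcen_of_hhom {π : Set ℕ} {G : Type*} [Group G] [Finite G]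
    (hhom : ∀ H : Subgroup G, H ≠ ⊥ → (∀ p : ℕ, p.Prime → p ∣ Nat.card ↥H → p ∉ π) →
        ∀ p : ℕ, p.Prime → p ∣ (Subgroup.centralizer (H : Set G)).relIndex
          (Subgroup.normalizer (H : Set G)) → p ∉ π) :
    Hcen π G := by
  intro Q q hq hqπ hQ n hn hnπ
  have := Fact.mk hq
  by_cases hQb : Q = ⊥
  · subst hQb
    rw [mem_centralizer_iff]
    intro h hh
    have : h = 1 := by simpa using hh
    rw [this, one_mul, mul_one]
  have h1 : ∀ p : ℕ, p.Prime → p ∣ Nat.card Q → p ∉ π := by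
    intro p hp hd
    obtain ⟨k, hk⟩ := IsPGroup.iff_card.mp hQ
    rw [hk] at hd
    have := (Nat.prime_dvd_prime_iff_eq hp hq).mp (hp.dvd_of_dvd_pow hd)
    rw [this]; exact hqπ
  have h2 : PiNum πᶜ ((centralizer (Q : Set G)).relIndex (normalizer (Q : Set G))) :=
    hhom Q hQb h1
  have hcop : Nat.Coprime ((centralizer (Q : Set G)).relIndex (normalizer (Q : Set G)))
      (orderOf n) := (PiNum.coprime hnπ h2).symm
  have h4 : (⟨n, hn⟩ : normalizer (Q : Set G)) ^
      ((centralizer (Q : Set G)).subgroupOf (normalizer (Q : Set G))).index ∈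
      (centralizer (Q : Set G)).subgroupOf (normalizer (Q : Set G)) :=
    Subgroup.pow_index_mem _ _
  have h5 : n ^ ((centralizer (Q : Set G)).relIndex (normalizer (Q : Set G))) ∈
      centralizer (Q : Set G) := by
    have := mem_subgroupOf.mp h4
    simpa [Subgroup.relIndex] using this
  obtain ⟨m, hm⟩ := exists_pow_eq_self_of_coprime hcop
  rw [← hm]
  exact pow_mem h5 m

theorem Hcen.subgroup {π : Set ℕ} {G : Type*} [Group G] (h : Hcen π G) (U : Subgroup G) :
    Hcen π U := by
  intro Q q hq hqπ hQ n hn hnπ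
  have h1 : IsPGroup q (Q.map U.subtype) := hQ.map _
  have h2 : (n : G) ∈ normalizer ((Q.map U.subtype : Subgroup G) : Set G) := by
    rw [mem_normalizer_iff]
    intro g
    constructor
    · rintro ⟨y, hy, rfl⟩
      exact ⟨n * y * n⁻¹, (mem_normalizer_iff.mp hn y).mp hy, by simp⟩
    · rintro ⟨y, hy, hyg⟩
      have hgU : g ∈ U := by
        have : g = (n : G)⁻¹ * ((y : U) : G) * (n : G) := by
          simp only [Subgroup.subtype_apply] at hyg
          rw [hyg]; group
        rw [this]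
        exact U.mul_mem (U.mul_mem (U.inv_mem n.2) y.2) n.2
      refine ⟨⟨g, hgU⟩, ?_, rfl⟩
      rw [SetLike.mem_coe, mem_normalizer_iff.mp hn]
      have : n * ⟨g, hgU⟩ * n⁻¹ = y := by
        apply Subtype.ext
        simp only [Subgroup.subtype_apply] at hyg
        simp [hyg]
      rw [this]; exact hy
  have h3 := h (Q.map U.subtype) q hq hqπ h1 (n : G) h2 ((piEl_coe n).mpr hnπ)
  rw [mem_centralizer_iff] at h3 ⊢
  intro y hy
  apply Subtype.ext
  have := h3 (y : G) ⟨y, hy, rfl⟩
  simpa using this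


/-- Order of the full preimage of a subgroup of a quotient. -/
theorem card_comap_mk'' {X : Type*} [Group X] (N : Subgroup X) [N.Normal] (H : Subgroup (X ⧸ N)) :
    Nat.card ↥(H.comap (QuotientGroup.mk' N)) = Nat.card ↥N * Nat.card ↥H := by
  have hle : N ≤ H.comap (QuotientGroup.mk' N) := by
    intro x hx
    rw [Subgroup.mem_comap]
    have : QuotientGroup.mk' N x = 1 := (QuotientGroup.eq_one_iff x).mpr hx
    rw [this]; exact H.one_mem
  have h := Subgroup.relIndex_mul_relIndex ⊥ N (H.comap (QuotientGroup.mk' N)) bot_le hle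
  rw [Subgroup.relIndex_bot_left, Subgroup.relIndex_bot_left] at h
  rw [← h]
  congr 1
  have h2 : (⊥ : Subgroup (X ⧸ N)).comap (QuotientGroup.mk' N) = N := by
    have := QuotientGroup.ker_mk' N
    rwa [MonoidHom.ker] at this
  have h3 : N.relIndex (H.comap (QuotientGroup.mk' N)) =
      ((⊥ : Subgroup (X ⧸ N)).comap (QuotientGroup.mk' N)).relIndex
        (H.comap (QuotientGroup.mk' N)) := by
    rw [h2]
  rw [h3, Subgroup.relIndex_comap, Subgroup.relIndex_bot_left,
    Subgroup.map_comap_eq_self_of_surjective (QuotientGroup.mk'_surjective N)]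

/-- Lemma A: every `π`-element centralises `K/L`. -/
theorem mk_mem_centralizer {π : Set ℕ} {G : Type*} [Group G] [Finite G] (hcen : Hcen π G)
    (K L : Subgroup G) [K.Normal] [L.Normal] (hL : PiNum π (Nat.card L))
    (hKL : PiNum πᶜ (Nat.card (K.map (QuotientGroup.mk' L)))) {x : G} (hx : PiEl π x) :
    ∀ y ∈ K.map (QuotientGroup.mk' L), y * QuotientGroup.mk' L x = QuotientGroup.mk' L x * y := by
  set φ := QuotientGroup.mk' L with hφ
  set Kb := K.map φ with hKb
  set xb := φ x with hxb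
  have hxbπ : PiEl π xb := hx.map φ
  set A := zpowers xb with hA
  have hKbn : Kb.Normal := Subgroup.Normal.map inferInstance φ (QuotientGroup.mk'_surjective L)
  have hAK : A ≤ normalizer (Kb : Set (G ⧸ L)) := by rw [normalizer_eq_top]; exact le_top
  have hcop : (Nat.card A).Coprime (Nat.card Kb) := by
    rw [Nat.card_zpowers]; exact PiNum.coprime hxbπ hKL
  have hsolv : Group.IsSolvable A ∨ Group.IsSolvable Kb := Or.inl inferInstance
  have hkerφ : ∀ l ∈ L, φ l = 1 := fun l hl => (QuotientGroup.eq_one_iff l).mpr hl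
  -- key: for each prime q, a Sylow q-subgroup of Kb centralized by xb
  have key : ∀ q : ℕ, q.Prime → ∃ S : Subgroup (G ⧸ L), S ≤ Kb ∧
      Nat.card S = q ^ (Nat.card Kb).factorization q ∧ ∀ s ∈ S, s * xb = xb * s := by
    intro q hq
    have := Fact.mk hq
    obtain ⟨P, -, hPA⟩ := Cfsg.Agent.S0025.result A Kb hAK hcop hsolv q ⊥ bot_le IsPGroup.of_bot
      (by rw [normalizer_eq_top]; exact le_top)
    set S := (P : Subgroup Kb).map Kb.subtype with hS
    have hScard : Nat.card S = q ^ (Nat.card Kb).factorization q := by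
      rw [hS, Subgroup.card_subtype]
      exact P.card_eq_multiplicity
    refine ⟨S, map_subtype_le _, hScard, ?_⟩
    by_cases hqd : q ∣ Nat.card Kb
    swap
    · have h0 : (Nat.card Kb).factorization q = 0 := Nat.factorization_eq_zero_of_not_dvd hqd
      rw [h0, pow_zero] at hScard
      have hSb : S = ⊥ := Subgroup.card_eq_one.mp hScard
      intro s hs
      rw [hSb, mem_bot] at hs
      rw [hs, one_mul, mul_one]
    have hqπ : q ∉ π := hKL q hq hqd
    set St := S.comap φ with hSt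
    have hxSt : x ∈ normalizer (St : Set G) := by
      apply Cfsg.Agent.Lib.Helper1.mem_normalizer_of_forall_conj_mem
      intro s hs
      show φ (x * s * x⁻¹) ∈ S
      rw [map_mul, map_mul, map_inv]
      have hxbS : xb ∈ normalizer (S : Set (G ⧸ L)) := hPA (mem_zpowers xb)
      exact (mem_normalizer_iff.mp hxbS (φ s)).mp hs
    let Qs : Sylow q St := default
    obtain ⟨k, hk, hkn⟩ := Cfsg.Agent.Lib.Helper1.frattini_sylow St Qs x hxSt
    set Q' := (Qs : Subgroup St).map St.subtype with hQ'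
    have hcardSt : Nat.card St = Nat.card L * Nat.card S := card_comap_mk'' L S
    have hqL : ¬ q ∣ Nat.card L := fun hd => hqπ (hL q hq hd)
    have hcardQs : Nat.card (Qs : Subgroup St) = Nat.card S := by
      rw [Qs.card_eq_multiplicity, hcardSt, hScard,
        Nat.factorization_mul Nat.card_pos.ne' (pow_pos hq.pos _).ne',
        Finsupp.add_apply, Nat.factorization_eq_zero_of_not_dvd hqL, zero_add,
        hq.factorization_pow, Finsupp.single_eq_same]
    have hLSt : L ≤ St := fun l hl => by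
      show φ l ∈ S
      rw [hkerφ l hl]; exact S.one_mem
    have hcompl : IsComplement' (L.subgroupOf St) (Qs : Subgroup St) := by
      apply isComplement'_of_coprime
      · rw [Cfsg.Agent.Lib.Helper1.card_subgroupOf_of_le hLSt, hcardQs, hcardSt]
      · rw [Cfsg.Agent.Lib.Helper1.card_subgroupOf_of_le hLSt, hcardQs, hScard]
        exact Nat.Coprime.pow_right _ ((Nat.Prime.coprime_iff_not_dvd hq).mpr hqL).symm
    have hdec : ∀ s ∈ St, ∃ l ∈ L, ∃ u ∈ Q', s = l * u := by
      intro s hs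
      obtain ⟨⟨⟨l, hl⟩, ⟨u, hu⟩⟩, hlu, -⟩ :=
        (Subgroup.isComplement_iff_existsUnique.mp hcompl) ⟨s, hs⟩
      simp only at hlu
      refine ⟨(l : G), mem_subgroupOf.mp hl, (u : G), ⟨u, hu, rfl⟩, ?_⟩
      have := congrArg Subtype.val hlu
      simpa using this.symm
    obtain ⟨l, hl, u, hu, hklu⟩ := hdec k hk
    set n := l⁻¹ * x with hn
    have hnN : n ∈ normalizer (Q' : Set G) := by
      have h1 : k⁻¹ * x = u⁻¹ * n := by rw [hklu, hn]; group
      rw [h1] at hkn
      have hu' : u ∈ normalizer (Q' : Set G) := le_normalizer hu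
      have := mul_mem hu' hkn
      simpa using this
    have hφn : φ n = xb := by
      rw [hn, map_mul, map_inv, hkerφ l hl, inv_one, one_mul]
    have hnπ : PiEl π n := by
      apply piEl_of_quot L hL
      rw [← hφ, hφn]; exact hxbπ
    have hQ'p : IsPGroup q Q' := Qs.isPGroup'.map _
    have hnC := hcen Q' q hq hqπ hQ'p n hnN hnπ
    intro s hs
    obtain ⟨g, rfl⟩ := QuotientGroup.mk'_surjective L s
    have hg : g ∈ St := hs
    obtain ⟨l', hl', u', hu', hg'⟩ := hdec g hg
    have h1 : QuotientGroup.mk' L g = φ u' := by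
      rw [← hφ, hg', map_mul, hkerφ l' hl', one_mul]
    rw [h1, ← hφn, ← map_mul, ← map_mul]
    congr 1
    exact mem_centralizer_iff.mp hnC u' hu'
  -- assemble
  set Cb : Subgroup (G ⧸ L) := Kb ⊓ centralizer {xb} with hCb
  have hle : Cb ≤ Kb := inf_le_left
  have hdvd : Nat.card Kb ∣ Nat.card Cb := by
    rw [Nat.dvd_iff_prime_pow_dvd_dvd]
    intro p k hp hpk
    obtain ⟨S, hSK, hScard, hScomm⟩ := key p hp
    have h1 : S ≤ Cb := fun s hs =>
      ⟨hSK hs, mem_centralizer_singleton_iff.mpr (hScomm s hs)⟩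
    have h2 : p ^ k ∣ p ^ (Nat.card Kb).factorization p :=
      pow_dvd_pow p ((hp.pow_dvd_iff_le_factorization (Nat.card_pos.ne')).mp hpk)
    rw [← hScard] at h2
    exact h2.trans (Subgroup.card_dvd_of_le h1)
  have heq : Cb = Kb := Subgroup.eq_of_le_of_card_ge hle (Nat.le_of_dvd Nat.card_pos hdvd)
  intro y hy
  rw [← heq] at hy
  exact mem_centralizer_singleton_iff.mp hy.2


/-- Core theorem: extension step. -/
theorem core {π : Set ℕ} {G : Type*} [Group G] [Finite G] (hcen : Hcen π G)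
    (K : Subgroup G) [hKn : K.Normal] (hK : PiSub π K) (hQ : PiSub π (G ⧸ K)) : PiSub π G := by
  obtain ⟨LK, hLK⟩ := hK
  set L : Subgroup G := LK.map K.subtype with hL
  have hLmem : ∀ x, x ∈ L ↔ x ∈ K ∧ PiEl π x := by
    intro x
    constructor
    · rintro ⟨y, hy, rfl⟩
      exact ⟨y.2, (piEl_coe y).mpr ((hLK y).mp hy)⟩
    · rintro ⟨hxK, hx⟩
      exact ⟨⟨x, hxK⟩, (hLK _).mpr ((piEl_coe (⟨x, hxK⟩ : K)).mp hx), rfl⟩
  have hLK' : L ≤ K := fun x hx => ((hLmem x).mp hx).1
  have hLn : L.Normal := by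
    constructor
    intro l hl g
    rw [hLmem] at hl ⊢
    exact ⟨hKn.conj_mem l hl.1 g, (piEl_conj g l).mpr hl.2⟩
  have hLcard : PiNum π (Nat.card L) := by
    apply piNum_card_of_forall
    intro y
    exact (piEl_coe y).mp ((hLmem y).mp y.2).2
  set φ := QuotientGroup.mk' L with hφ
  have hKL : PiNum πᶜ (Nat.card (K.map φ)) := by
    intro p hp hd hpπ
    have := Fact.mk hp
    obtain ⟨kb, hkb⟩ := exists_prime_orderOf_dvd_card' (G := K.map φ) p hd
    obtain ⟨k, hkK, hk⟩ := kb.2
    obtain ⟨a, m, hpm, hn⟩ :=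
      Nat.exists_eq_pow_mul_and_not_dvd (orderOf_pos k).ne' p hp.ne_one
    have h1 : (k ^ m) ^ (p ^ a) = 1 := by
      rw [← pow_mul, mul_comm, ← hn]; exact pow_orderOf_eq_one k
    have h2 : PiEl π (k ^ m) := PiEl.of_pow_eq_one (PiNum.pow_prime hp hpπ a) h1
    have h3 : k ^ m ∈ L := (hLmem _).mpr ⟨K.pow_mem hkK m, h2⟩
    have h4 : (φ k) ^ m = 1 := by
      rw [← map_pow]; exact (QuotientGroup.eq_one_iff _).mpr h3
    have h5 : orderOf (φ k) = p := by
      rw [hk, Subgroup.orderOf_coe]; exact hkb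
    exact hpm (h5 ▸ orderOf_dvd_of_pow_eq_one h4)
  have hquot : PiSub π (G ⧸ L) := by
    set f : G ⧸ L →* G ⧸ K := QuotientGroup.map L K (MonoidHom.id G) (by simpa using hLK')
      with hf
    apply piSub_of_central (K.map φ) hKL f ?_ hQ ?_
    · intro y hy
      obtain ⟨g, rfl⟩ := QuotientGroup.mk'_surjective L y
      rw [MonoidHom.mem_ker] at hy
      have h1 : (QuotientGroup.mk' K g) = 1 := hy
      exact ⟨g, (QuotientGroup.eq_one_iff g).mp h1, rfl⟩
    · intro y hy n hn
      obtain ⟨g, rfl⟩ := QuotientGroup.mk'_surjective L y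
      have hg : PiEl π g := piEl_of_quot L hLcard hy
      exact mk_mem_centralizer hcen K L hLcard hKL hg n hn
  obtain ⟨P, hP⟩ := hquot
  refine ⟨P.comap φ, fun x => ?_⟩
  rw [mem_comap, hP]
  exact ⟨fun h => piEl_of_quot L hLcard h, fun h => h.map φ⟩

/-- Let π be a set of primes and G a finite group such that N_G(H)/C_G(H) is a π'-group for every nontrivial π'-subgroup H of G. If K is a normal subgroup of G such that the π-elements of K form a subgroup and the π-elements of G/K form a subgroup, then the π-elements of G form a subgroup. -/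
theorem result {G : Type*} [Group G] [Finite G] (π : Set ℕ)
    (hπ : ∀ p ∈ π, p.Prime) (hhom : (∀ H : Subgroup G, H ≠ ⊥ → (∀ p : ℕ, p.Prime → p ∣ Nat.card ↥H → p ∉ π) →
        ∀ p : ℕ, p.Prime → p ∣ (Subgroup.centralizer (H : Set G)).relIndex (Subgroup.normalizer (H : Set G)) → p ∉ π))
    (K : Subgroup G) [K.Normal]
    (hK : ∃ L : Subgroup ↥K, ∀ x : ↥K, x ∈ L ↔ ∀ p : ℕ, p.Prime → p ∣ orderOf x → p ∈ π)
    (hQ : ∃ L : Subgroup (G ⧸ K), ∀ x : G ⧸ K, x ∈ L ↔ ∀ p : ℕ, p.Prime → p ∣ orderOf x → p ∈ π) :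
    (∃ K : Subgroup G, ∀ x : G, x ∈ K ↔ ∀ p : ℕ, p.Prime → p ∣ orderOf x → p ∈ π) := by
  exact core (hcen_of_hhom hhom) K hK hQ

end Cfsg.Agent.S4051
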