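import Cfsg.Statements.S4050
import Mathlib
import Cfsg.Agent.S4051
-- import your own Cfsg.Agent.* helpers here

set_option autoImplicit false
open Cfsg

namespace Cfsg.Agent.S4050

open Subgroup Cfsg.Agent.S4051
theorem PiSub_of_equiv {π : Set ℕ} {G G' : Type*} [Group G] [Group G'] (e : G ≃* G')
    (h : PiSub π G) : PiSub π G' := by
  obtain ⟨L, hL⟩ := h
  refine ⟨L.map e.toMonoidHom, fun x => ?_⟩
  have h1 : x ∈ L.map e.toMonoidHom ↔ e.symm x ∈ L := by
    constructor
    · rintro ⟨y, hy, rfl⟩
      simpa using hy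
    · intro hx
      exact ⟨e.symm x, hx, by simp⟩
  rw [h1, hL]
  unfold PiEl
  rw [e.symm.orderOf_eq]

theorem piSub_of_piNum_card {π : Set ℕ} {G : Type*} [Group G] [Finite G]
    (h : PiNum π (Nat.card G)) : PiSub π G :=
  ⟨⊤, fun x => ⟨fun _ p hp hd => h p hp (hd.trans (orderOf_dvd_natCard x)), fun _ => mem_top x⟩⟩

theorem piSub_of_piNum_compl_card {π : Set ℕ} {G : Type*} [Group G] [Finite G]
    (h : PiNum πᶜ (Nat.card G)) : PiSub π G := by
  refine ⟨⊥, fun x => ⟨fun hx => ?_, fun hx => ?_⟩⟩
  · rw [mem_bot] at hx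
    rw [hx]
    intro p hp hd
    rw [orderOf_one] at hd
    exact absurd (Nat.dvd_one.mp hd) hp.ne_one
  · rw [mem_bot]
    exact PiEl.eq_one hx (fun p hp hd => h p hp (hd.trans (orderOf_dvd_natCard x)))

/-- prime-power part: some power of `k` is a `p`-element, and the exponent is prime to `p` -/
theorem exists_pow_piEl {π : Set ℕ} {G : Type*} [Group G] [Finite G] {p : ℕ} (hp : p.Prime)
    (hpπ : p ∈ π) (k : G) : ∃ m : ℕ, ¬ p ∣ m ∧ PiEl π (k ^ m) := by
  obtain ⟨a, m, hpm, hn⟩ :=
    Nat.exists_eq_pow_mul_and_not_dvd (orderOf_pos k).ne' p hp.ne_one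
  have h1 : (k ^ m) ^ (p ^ a) = 1 := by
    rw [← pow_mul, mul_comm, ← hn]; exact pow_orderOf_eq_one k
  exact ⟨m, hpm, PiEl.of_pow_eq_one (PiNum.pow_prime hp hpπ a) h1⟩

theorem piNum_compl_index {π : Set ℕ} {G : Type*} [Group G] [Finite G] (P : Subgroup G)
    [P.Normal] (h : ∀ x, PiEl π x → x ∈ P) : PiNum πᶜ P.index := by
  intro p hp hd hpπ
  have := Fact.mk hp
  rw [Subgroup.index_eq_card] at hd
  obtain ⟨gb, hgb⟩ := exists_prime_orderOf_dvd_card' (G := G ⧸ P) p hd
  obtain ⟨g, rfl⟩ := QuotientGroup.mk'_surjective P gb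
  obtain ⟨m, hpm, hm⟩ := exists_pow_piEl hp hpπ g
  have h3 : g ^ m ∈ P := h _ hm
  have h4 : (QuotientGroup.mk' P g) ^ m = 1 := by
    rw [← map_pow]; exact (QuotientGroup.eq_one_iff _).mpr h3
  exact hpm (hgb ▸ orderOf_dvd_of_pow_eq_one h4)

/-- Let π be a set of primes and G a finite group. The π-elements of G (elements whose order is divisible only by primes of π) form a subgroup if and only if G is π-separable (it has a chain of normal subgroups from 1 to G with each successive index divisible only by primes in π or only by primes outside π) and N_G(H)/C_G(H) is a π'-group for every nontrivial π'-subgroup H of G. -/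
theorem result {G : Type*} [Group G] [Finite G] (π : Set ℕ)
    (hπ : ∀ p ∈ π, p.Prime) :
    (∃ K : Subgroup G, ∀ x : G, x ∈ K ↔ ∀ p : ℕ, p.Prime → p ∣ orderOf x → p ∈ π) ↔
    ((∃ (n : ℕ) (H : Fin (n + 1) → Subgroup G), H 0 = ⊥ ∧ H (Fin.last n) = ⊤ ∧ Monotone H ∧ (∀ i, (H i).Normal) ∧
      ∀ i : Fin n, (∀ q : ℕ, q.Prime → q ∣ (H i.castSucc).relIndex (H i.succ) → q ∈ π) ∨
        (∀ q : ℕ, q.Prime → q ∣ (H i.castSucc).relIndex (H i.succ) → q ∉ π)) ∧
     (∀ H : Subgroup G, H ≠ ⊥ → (∀ p : ℕ, p.Prime → p ∣ Nat.card ↥H → p ∉ π) →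
        ∀ p : ℕ, p.Prime → p ∣ (Subgroup.centralizer (H : Set G)).relIndex (Subgroup.normalizer (H : Set G)) → p ∉ π)) := by
  constructor
  · rintro ⟨P, hP⟩
    have hPn : P.Normal := by
      constructor
      intro l hl g
      rw [hP] at hl ⊢
      exact (piEl_conj g l).mpr hl
    have hPcard : PiNum π (Nat.card P) := by
      apply piNum_card_of_forall
      intro y
      exact (piEl_coe y).mp ((hP y).mp y.2)
    refine ⟨⟨2, ![⊥, P, ⊤], rfl, rfl, ?_, ?_, ?_⟩, ?_⟩
    · rw [Fin.monotone_iff_le_succ]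
      intro i
      fin_cases i
      · exact bot_le
      · exact le_top
    · intro i
      fin_cases i
      · exact (inferInstance : (⊥ : Subgroup G).Normal)
      · exact hPn
      · exact (inferInstance : (⊤ : Subgroup G).Normal)
    · intro i
      fin_cases i
      · left
        show PiNum π ((⊥ : Subgroup G).relIndex P)
        rw [Subgroup.relIndex_bot_left]
        exact hPcard
      · right
        show PiNum πᶜ (P.relIndex ⊤)
        rw [Subgroup.relIndex_top_right]
        exact piNum_compl_index P (fun x hx => (hP x).mpr hx)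
    · intro H hHb hH p hp hd hpπ
      have := Fact.mk hp
      set N := normalizer (H : Set G) with hN
      set C := centralizer (H : Set G) with hC
      have hd' : p ∣ Nat.card (N ⧸ C.subgroupOf N) := by
        rw [← Subgroup.index_eq_card]; exact hd
      obtain ⟨nb, hnb⟩ := exists_prime_orderOf_dvd_card' (G := N ⧸ C.subgroupOf N) p hd'
      obtain ⟨n', rfl⟩ := QuotientGroup.mk'_surjective (C.subgroupOf N) nb
      obtain ⟨m, hpm, hm⟩ := exists_pow_piEl hp hpπ n'
      set y := n' ^ m with hy
      have hyP : (y : G) ∈ P := (hP _).mpr ((piEl_coe y).mpr hm)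
      have hyC : (y : G) ∈ C := by
        rw [hC, mem_centralizer_iff]
        intro h hh
        have h1 : (y : G) * h * (y : G)⁻¹ ∈ H := (mem_normalizer_iff.mp y.2 h).mp hh
        have h2 : (y : G) * h * (y : G)⁻¹ * h⁻¹ ∈ H := H.mul_mem h1 (H.inv_mem hh)
        have h3 : (y : G) * h * (y : G)⁻¹ * h⁻¹ ∈ P := by
          have : (y : G) * h * (y : G)⁻¹ * h⁻¹ = (y : G) * (h * (y : G)⁻¹ * h⁻¹) := by group
          rw [this]
          exact P.mul_mem hyP (hPn.conj_mem _ (P.inv_mem hyP) h)
        have h4 : (y : G) * h * (y : G)⁻¹ * h⁻¹ = 1 :=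
          PiEl.eq_one ((hP _).mp h3) (piEl_of_mem H hH h2)
        have h5 : (y : G) * h = h * (y : G) := by
          have := congrArg (fun z => z * h * (y : G)) h4
          simpa [mul_assoc] using this
        exact h5.symm
      have h6 : (QuotientGroup.mk' (C.subgroupOf N) n') ^ m = 1 := by
        rw [← map_pow]
        exact (QuotientGroup.eq_one_iff _).mpr (mem_subgroupOf.mpr hyC)
      exact hpm (hnb ▸ orderOf_dvd_of_pow_eq_one h6)
  · rintro ⟨⟨n, H, h0, hlast, hmono, hnorm, hstep⟩, hhom⟩
    have hcen : Hcen π G := hcen_of_hhom hhom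
    have key : ∀ i : ℕ, ∀ hi : i < n + 1, PiSub π (H ⟨i, hi⟩) := by
      intro i
      induction i with
      | zero =>
        intro hi
        have : H ⟨0, hi⟩ = ⊥ := h0
        rw [this]
        apply piSub_of_piNum_card
        rw [Subgroup.card_bot]
        intro p hp hd
        exact absurd (Nat.dvd_one.mp hd) hp.ne_one
      | succ i ih =>
        intro hi
        have hi' : i < n + 1 := by omega
        have ihV := ih hi'
        set U := H ⟨i + 1, hi⟩ with hU
        set V := H ⟨i, hi'⟩ with hV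
        have hVU : V ≤ U := hmono (by simp [Fin.le_def])
        have hVn : V.Normal := hnorm _
        have hKn : (V.subgroupOf U).Normal := inferInstance
        have hK : PiSub π (V.subgroupOf U) :=
          PiSub_of_equiv (Subgroup.subgroupOfEquivOfLe hVU).symm ihV
        have hQ : PiSub π (U ⧸ V.subgroupOf U) := by
          have hidx : Nat.card (U ⧸ V.subgroupOf U) = V.relIndex U := by
            rw [← Subgroup.index_eq_card]; rfl
          have hs := hstep ⟨i, by omega⟩
          have e1 : (⟨i, by omega⟩ : Fin n).castSucc = ⟨i, hi'⟩ := rfl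
          have e2 : (⟨i, by omega⟩ : Fin n).succ = ⟨i + 1, hi⟩ := rfl
          rw [e1, e2] at hs
          rcases hs with hs | hs
          · apply piSub_of_piNum_card
            rw [hidx]; exact hs
          · apply piSub_of_piNum_compl_card
            rw [hidx]; exact hs
        exact core (hcen.subgroup U) (V.subgroupOf U) hK hQ
    have htop := key n (by omega)
    have e3 : H ⟨n, by omega⟩ = ⊤ := hlast
    rw [e3] at htop
    exact PiSub_of_equiv Subgroup.topEquiv htop

end Cfsg.Agent.S4050
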