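import Cfsg.Statements.S4056
import Mathlib
import Cfsg.Agent.S0013
-- import your own Cfsg.Agent.* helpers here

set_option autoImplicit false
open Cfsg

namespace Cfsg.Agent.S4056

open scoped commutatorElement

/-- In a group where all commutators are central and fourth powers are trivial, commutators square to one. -/
theorem comm_sq_eq_one {P : Type*} [Group P] (hcen : ∀ x y : P, ⁅x, y⁆ ∈ Subgroup.center P)
    (h4 : ∀ x : P, x ^ 4 = 1) (x y : P) : ⁅x, y⁆ ^ 2 = 1 := by
  have hC : ∀ a b g : P, Commute ⁅a, b⁆ g := fun a b g =>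
    ((Subgroup.mem_center_iff.mp (hcen a b)) g).symm
  -- bilinearity
  have L1 : ∀ a b c : P, ⁅a * b, c⁆ = ⁅a, c⁆ * ⁅b, c⁆ := by
    intro a b c
    rw [commutatorElement_mul_left_eq_conj_mul, (hC b c a).eq.symm, mul_inv_cancel_right,
      (hC b c _).eq]
  have L2 : ∀ a b c : P, ⁅a, b * c⁆ = ⁅a, b⁆ * ⁅a, c⁆ := by
    intro a b c
    rw [commutatorElement_mul_right_eq_mul_conj, mul_assoc ⁅a, b⁆, (hC a c b).eq.symm, mul_assoc,
      mul_assoc, mul_inv_cancel, mul_one]
  set c := ⁅x, y⁆ with hc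
  have hx2 : ⁅x ^ 2, y⁆ = c ^ 2 := by rw [sq, L1, sq]
  have hc4 : c ^ 4 = 1 := by
    have : ⁅x ^ 4, y⁆ = c ^ 4 := by
      rw [show x ^ 4 = x ^ 2 * x ^ 2 by rw [← pow_add], L1, hx2, ← pow_add]
    rw [← this, h4, commutatorElement_one_left]
  have hcomm : Commute (x ^ 2) (y ^ 2) := by
    rw [← commutatorElement_eq_one_iff_commute, sq y, L2, hx2, ← pow_add]
    exact hc4
  have hyx : y * x = c⁻¹ * (x * y) := by
    rw [hc, commutatorElement_def]; group
  have hci : ∀ g : P, Commute c⁻¹ g := fun g => (hC x y g).inv_left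
  have hsq : (x * y) ^ 2 = c⁻¹ * (x ^ 2 * y ^ 2) := by
    calc (x * y) ^ 2 = x * (y * x) * y := by rw [sq]; group
      _ = x * (c⁻¹ * (x * y)) * y := by rw [hyx]
      _ = c⁻¹ * (x ^ 2 * y ^ 2) := by
        rw [(hci x).symm.left_comm]
        simp only [sq, mul_assoc]
  have h5 : (x * y) ^ 4 = (c⁻¹) ^ 2 := by
    rw [show (4 : ℕ) = 2 * 2 from rfl, pow_mul, hsq, (hci _).mul_pow, hcomm.mul_pow, ← pow_mul,
      ← pow_mul, h4, h4, mul_one, mul_one]
  rw [h4, inv_pow] at h5
  exact inv_eq_one.mp h5.symm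

/-- In a finite 2-group of nilpotency class at most 2 and exponent dividing 4, the Frattini subgroup lies in the centre and is elementary abelian. -/
theorem result {P : Type*} [Group P] [Finite P] (hP : IsPGroup 2 P)
    (hcl : Group.nilpotencyClass P ≤ 2) (hexp : Monoid.exponent P ∣ 4) :
    frattini P ≤ Subgroup.center P ∧ Cfsg.IsElementaryAbelian 2 (frattini P) := by
  have : Fact (Nat.Prime 2) := ⟨Nat.prime_two⟩
  have hnil : Group.IsNilpotent P := hP.isNilpotent
  have hZ2 : Subgroup.upperCentralSeries P 2 = ⊤ :=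
    Subgroup.upperCentralSeries_eq_top_iff_nilpotencyClass_le.mpr hcl
  have hcen : ∀ x y : P, ⁅x, y⁆ ∈ Subgroup.center P := by
    intro x y
    have hx : x ∈ Subgroup.upperCentralSeries P (1 + 1) := by
      rw [show (1 + 1 : ℕ) = 2 from rfl, hZ2]; exact Subgroup.mem_top x
    rw [Subgroup.mem_upperCentralSeries_succ_iff] at hx
    have := hx y
    rwa [Subgroup.upperCentralSeries_one] at this
  have h4 : ∀ x : P, x ^ 4 = 1 := by
    intro x
    obtain ⟨k, hk⟩ := hexp
    rw [hk, pow_mul, Monoid.pow_exponent_eq_one, one_pow]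
  have hC : ∀ a b g : P, Commute ⁅a, b⁆ g := fun a b g =>
    ((Subgroup.mem_center_iff.mp (hcen a b)) g).symm
  have hcsq := comm_sq_eq_one hcen h4
  -- squares are central
  have hsqcen : ∀ x : P, x ^ 2 ∈ Subgroup.center P := by
    intro x
    rw [Subgroup.mem_center_iff]
    intro g
    have h1 : ⁅x ^ 2, g⁆ = 1 := by
      rw [sq, commutatorElement_mul_left_eq_conj_mul, (hC x g x).eq.symm, mul_inv_cancel_right,
        ← sq]
      exact hcsq x g
    exact (commutatorElement_eq_one_iff_mul_comm.mp h1).symm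
  -- the subgroup generated by squares and commutators
  set S : Set P := {z | ∃ x : P, z = x ^ 2} ∪ {z | ∃ x y : P, z = ⁅x, y⁆} with hS
  set N : Subgroup P := Subgroup.closure S with hN
  have hScen : S ⊆ (Subgroup.center P : Set P) := by
    rintro z (⟨x, rfl⟩ | ⟨x, y, rfl⟩)
    · exact hsqcen x
    · exact hcen x y
  have hNcen : N ≤ Subgroup.center P := (Subgroup.closure_le _).mpr hScen
  have hSsq : ∀ z ∈ S, z ^ 2 = 1 := by
    rintro z (⟨x, rfl⟩ | ⟨x, y, rfl⟩)
    · rw [← pow_mul]; exact h4 x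
    · exact hcsq x y
  have hNsq : ∀ z ∈ N, z ^ 2 = 1 := by
    intro z hz
    induction hz using Subgroup.closure_induction with
    | mem z hz => exact hSsq z hz
    | one => exact one_pow 2
    | mul a b ha hb iha ihb =>
      have hab : Commute a b := ((Subgroup.mem_center_iff.mp (hNcen ha)) b).symm
      rw [hab.mul_pow, iha, ihb, mul_one]
    | inv a ha iha => rw [inv_pow, iha, inv_one]
  have hNn : N.Normal := by
    constructor
    intro n hn g
    have : g * n * g⁻¹ = n := by
      rw [(Subgroup.mem_center_iff.mp (hNcen hn)) g, mul_inv_cancel_right]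
    rw [this]; exact hn
  have hcomN : commutator P ≤ N := by
    rw [commutator_eq_closure]
    apply Subgroup.closure_mono
    rintro z ⟨x, y, rfl⟩
    exact Or.inr ⟨x, y, rfl⟩
  have hpowN : ∀ x : P, x ^ 2 ∈ N := fun x => Subgroup.subset_closure (Or.inl ⟨x, rfl⟩)
  have hfr : frattini P ≤ N := Cfsg.Agent.S0013.result 2 hP N hcomN hpowN
  refine ⟨hfr.trans hNcen, ?_, fun a ha => hNsq a (hfr ha)⟩
  constructor
  constructor
  rintro ⟨a, ha⟩ ⟨b, hb⟩
  apply Subtype.ext
  exact ((Subgroup.mem_center_iff.mp (hNcen (hfr ha))) b).symm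

end Cfsg.Agent.S4056
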