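import Cfsg.Statements.S4057
-- import your own Cfsg.Agent.* helpers here
import Cfsg.Agent.Lib.Helper23.LaffeyE
import Cfsg.Agent.Lib.Helper1.Alperin
import Cfsg.Agent.S0014

set_option autoImplicit false
open Cfsg

namespace Cfsg.Agent.S4057

/-- Let p be an odd prime and P a finite p-group in which every normal abelian subgroup can be generated by k elements. Then every subgroup of P can be generated by at most ⌊k(k+4)/4⌋ elements. -/
theorem result {P : Type*} [Group P] [Finite P] {p : ℕ} [Fact p.Prime]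
    (hp : p ≠ 2) (hP : IsPGroup p P) (k : ℕ)
    (hab : ∀ A : Subgroup P, A.Normal → IsMulCommutative A → ∃ S : Finset P, S.card ≤ k ∧ Subgroup.closure (S : Set P) = A) :
    ∀ H : Subgroup P, ∃ S : Finset P, S.card ≤ k * (k + 4) / 4 ∧ Subgroup.closure (S : Set P) = H := by
  classical
  intro H
  have hpp : p.Prime := Fact.out
  -- a maximal normal elementary abelian subgroup
  have hbot : (⊥ : Subgroup P) ∈ {A : Subgroup P | A.Normal ∧ IsMulCommutative A ∧
      (∀ a ∈ A, a ^ p = 1)} := by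
    refine ⟨inferInstance, ⟨⟨fun a b => Subsingleton.elim _ _⟩⟩, ?_⟩
    intro a ha
    rw [Subgroup.mem_bot] at ha
    rw [ha, one_pow]
  obtain ⟨E, -, hEmax⟩ := (Set.toFinite {A : Subgroup P | A.Normal ∧ IsMulCommutative A ∧
    (∀ a ∈ A, a ^ p = 1)}).exists_le_maximal hbot
  obtain ⟨⟨hEn, hEc, hEe⟩, hEmax'⟩ := hEmax
  -- Alperin: `Ω₁(C_P(E)) = E`
  have halp : ∀ x ∈ Subgroup.centralizer (E : Set P), x ^ p = 1 → x ∈ E := by
    intro x hx hxp
    refine Cfsg.Agent.Lib.Helper1.alperin_omega_centralizer hP 1 (by rw [pow_one]; exact hp) E hEc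
      (fun a ha => by rw [pow_one]; exact hEe a ha) ?_ x hx (by rw [pow_one]; exact hxp)
    intro B hBn hBc hBe hEB
    exact le_antisymm (hEmax' ⟨hBn, hBc, fun b hb => by simpa using hBe b hb⟩ hEB) hEB
  -- `|E| = p ^ n` with `n ≤ k`
  obtain ⟨S, hSk, hSE⟩ := hab E hEn hEc
  obtain ⟨n, hnS, hEcard⟩ := Cfsg.Agent.Lib.Helper23.Laffey.card_eq_pow_of_closure E hEc hEe S hSE
  have hnk : n ≤ k := hnS.trans hSk
  -- the Frattini quotient of `H`
  have hidx := Cfsg.Agent.Lib.Helper23.Laffey.index_frattini_le_of_normal_elemAb hp hP E hEc hEe n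
    hEcard halp H
  have hH : IsPGroup p ↥H := hP.to_subgroup H
  obtain ⟨r, hr⟩ : ∃ r, (frattini ↥H).index = p ^ r := by
    obtain ⟨c, hc⟩ := IsPGroup.iff_card.mp hH
    have h1 : (frattini ↥H).index ∣ p ^ c := hc ▸ Subgroup.index_dvd_card _
    obtain ⟨r, -, hr⟩ := (Nat.dvd_prime_pow hpp).mp h1
    exact ⟨r, hr⟩
  have hrle : r ≤ k * (k + 4) / 4 := by
    rw [hr] at hidx
    have h1 : r ≤ n ^ 2 / 4 + n := (Nat.pow_le_pow_iff_right hpp.one_lt).mp hidx
    have h2 : k * (k + 4) / 4 = k ^ 2 / 4 + k := by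
      have : k * (k + 4) = k ^ 2 + k * 4 := by ring
      rw [this, Nat.add_mul_div_right _ _ (by norm_num : 0 < 4)]
    rw [h2]
    have h3 : n ^ 2 / 4 ≤ k ^ 2 / 4 := Nat.div_le_div_right (Nat.pow_le_pow_left hnk 2)
    omega
  -- Burnside's basis theorem
  have : Fintype ↥H := Fintype.ofFinite ↥H
  obtain ⟨T, -, hTcard, hTgen⟩ := (Cfsg.Agent.S0014.result (G := ↥H) p r hH hr).1 Finset.univ (by
    rw [Finset.coe_univ, Subgroup.closure_univ])
  refine ⟨T.image Subtype.val, ?_, ?_⟩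
  · exact (Finset.card_image_le).trans (by rw [hTcard]; exact hrle)
  · have h1 := MonoidHom.map_closure H.subtype (T : Set ↥H)
    rw [hTgen] at h1
    rw [Finset.coe_image]
    have h2 : (⊤ : Subgroup ↥H).map H.subtype = H := by
      rw [← MonoidHom.range_eq_map, Subgroup.range_subtype]
    rw [h2] at h1
    exact h1.symm

end Cfsg.Agent.S4057
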