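import Cfsg.Statements.S4058
import Mathlib
import Cfsg.Agent.Lib.Helper23.LinTwist
import Cfsg.Agent.Lib.Helper23.FSInd
import Cfsg.Agent.Lib.Helper1.PGroup
-- import your own Cfsg.Agent.* helpers here

set_option autoImplicit false
open Cfsg

namespace Cfsg.Agent.S4058

open Cfsg.Agent.CharLib Cfsg.Agent.Lib.Helper23 Cfsg.Agent.Lib.Helper24 Cfsg.Agent.Lib.Helper1
universe u

/-- orbit-sum divisibility over `ℤ` -/
theorem dvd_sum_of_orbits {A X : Type*} [Group A] [Fintype X] [MulAction A X] (f : X → ℤ) (d : ℤ)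
    (hf : ∀ (a : A) (x : X), f (a • x) = f x)
    (hd : ∀ x : X, d ∣ ((MulAction.orbit A x).ncard : ℤ) * f x) : d ∣ ∑ x, f x := by
  classical
  rw [← Finset.sum_fiberwise_of_maps_to (s := Finset.univ)
    (t := Finset.univ.image (fun x => (Quotient.mk (MulAction.orbitRel A X) x)))
    (g := fun x => Quotient.mk (MulAction.orbitRel A X) x)
    (fun x hx => Finset.mem_image_of_mem _ hx) f]
  apply Finset.dvd_sum
  intro q hq
  obtain ⟨x₀, -, rfl⟩ := Finset.mem_image.mp hq
  have h1 : (Finset.univ.filter (fun x => Quotient.mk (MulAction.orbitRel A X) x =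
      Quotient.mk (MulAction.orbitRel A X) x₀)) = (MulAction.orbit A x₀).toFinset := by
    ext x
    simp only [Finset.mem_filter, Finset.mem_univ, true_and, Set.mem_toFinset]
    rw [Quotient.eq]
    exact MulAction.orbitRel_apply
  rw [h1]
  have h2 : ∑ x ∈ (MulAction.orbit A x₀).toFinset, f x =
      ∑ x ∈ (MulAction.orbit A x₀).toFinset, f x₀ := by
    apply Finset.sum_congr rfl
    intro x hx
    rw [Set.mem_toFinset] at hx
    obtain ⟨a, rfl⟩ := hx
    exact hf a x₀
  rw [h2, Finset.sum_const, nsmul_eq_mul, ← Set.ncard_eq_toFinset_card']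
  exact hd x₀

open scoped IsMulCommutative in
theorem card_hom_of_comm (Q : Type*) [Group Q] [Finite Q] [IsMulCommutative Q] :
    Nat.card (Q →* ℂˣ) = Nat.card Q := by
  have hne : NeZero ((Monoid.exponent Q : ℕ) : ℂ) :=
    ⟨by exact_mod_cast (Monoid.exponent_ne_zero_of_finite (G := Q))⟩
  exact CommGroup.card_monoidHom_of_hasEnoughRootsOfUnity Q ℂ

/-- linear characters of `G/N` act on `Irr(G)` by multiplication -/
@[reducible] noncomputable def twistAction (G : Type u) [Group G] [Finite G] (N : Subgroup G) [N.Normal] :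
    MulAction ((G ⧸ N) →* ℂˣ) (IrrCharacter G) where
  smul a χ := twist (a.comp (QuotientGroup.mk' N)) χ
  one_smul χ := by
    show twist ((1 : (G ⧸ N) →* ℂˣ).comp (QuotientGroup.mk' N)) χ = χ
    rw [MonoidHom.one_comp, twist_one]
  mul_smul a b χ := by
    show twist ((a * b).comp (QuotientGroup.mk' N)) χ =
      twist (a.comp (QuotientGroup.mk' N)) (twist (b.comp (QuotientGroup.mk' N)) χ)
    rw [MonoidHom.mul_comp, twist_mul]

theorem twistAction_smul_def (G : Type u) [Group G] [Finite G] (N : Subgroup G) [N.Normal]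
    (a : (G ⧸ N) →* ℂˣ) (χ : IrrCharacter G) :
    (twistAction G N).smul a χ = twist (a.comp (QuotientGroup.mk' N)) χ := rfl

/-- Let G be a finite 2-group with #(G/Φ(G)) ≥ 2^(2k+1). Then the number of elements x of G with x² = 1 is divisible by 2^(k+1). -/
theorem result {G : Type*} [Group G] [Finite G] (hG : IsPGroup 2 G) (k : ℕ)
    (hgen : 2 ^ (2 * k + 1) ≤ Nat.card (G ⧸ frattini G)) :
    2 ^ (k + 1) ∣ Nat.card {x : G // x ^ 2 = 1} := by
  classical
  have : Fact (Nat.Prime 2) := ⟨Nat.prime_two⟩
  let _ := Fintype.ofFinite G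
  let _ := fintypeIrr G
  letI act := twistAction G (frattini G)
  have hsm : ∀ (a : (G ⧸ frattini G) →* ℂˣ) (χ : IrrCharacter G),
      a • χ = twist (a.comp (QuotientGroup.mk' (frattini G))) χ := fun a χ => rfl
  -- cardinalities
  obtain ⟨n, hn⟩ := IsPGroup.iff_card.mp hG
  have hcomm : IsMulCommutative (G ⧸ frattini G) :=
    Subgroup.Normal.quotient_commutative_iff_commutator_le.mpr (IsPGroup.commutator_le_frattini hG)
  have hcardA : Nat.card ((G ⧸ frattini G) →* ℂˣ) = Nat.card (G ⧸ frattini G) :=
    card_hom_of_comm (G ⧸ frattini G)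
  obtain ⟨d, hd⟩ : ∃ d, Nat.card (G ⧸ frattini G) = 2 ^ d := by
    have h1 : Nat.card (G ⧸ frattini G) ∣ 2 ^ n := by
      rw [← hn, ← Subgroup.index_eq_card]; exact Subgroup.index_dvd_card _
    obtain ⟨d, -, hd⟩ := (Nat.dvd_prime_pow Nat.prime_two).mp h1
    exact ⟨d, hd⟩
  have hdk : 2 * k + 1 ≤ d := by
    rw [hd] at hgen
    exact (Nat.pow_le_pow_iff_right (by norm_num)).mp hgen
  have hAfin : Finite ((G ⧸ frattini G) →* ℂˣ) := by
    apply Nat.finite_of_card_ne_zero
    rw [hcardA, hd]; positivity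
  -- squares are killed
  have hsq : ∀ (a : (G ⧸ frattini G) →* ℂˣ) (s : G),
      (((a.comp (QuotientGroup.mk' (frattini G))) (s * s) : ℂˣ) : ℂ) = 1 := by
    intro a s
    have h1 : (QuotientGroup.mk' (frattini G)) (s * s) = 1 := by
      rw [QuotientGroup.mk'_apply, QuotientGroup.eq_one_iff, ← pow_two]
      exact IsPGroup.pow_mem_frattini hG s
    rw [MonoidHom.comp_apply, h1, map_one, Units.val_one]
  -- FS indicators
  choose e he using fun χ : IrrCharacter G => exists_fsIndicator χ
  have he1 : ∀ χ : IrrCharacter G,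
      ((Nat.card G : ℂ)⁻¹ * ∑ s : G, (χ : G → ℂ) (s * s)) = (e χ : ℂ) := fun χ => (he χ).1
  have heinv : ∀ (a : (G ⧸ frattini G) →* ℂˣ) (χ : IrrCharacter G), e (a • χ) = e χ := by
    intro a χ
    have h1 := he1 (a • χ)
    have h2 := he1 χ
    have h3 : ∑ s : G, ((a • χ : IrrCharacter G) : G → ℂ) (s * s) = ∑ s : G, (χ : G → ℂ) (s * s) := by
      apply Finset.sum_congr rfl
      intro s _
      rw [hsm, twist_apply, hsq, one_mul]
    rw [h3, h2] at h1
    exact_mod_cast h1.symm
  have hsum := one_add_card_involutions_eq e he1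
  have hcard : Nat.card {x : G // x ^ 2 = 1} = 1 + Nat.card {x : G // orderOf x = 2} := by
    rw [← card_sq_eq_one_eq_succ]
    exact Nat.card_congr (Equiv.subtypeEquivRight (fun x => by rw [pow_two]))
  rw [hcard]
  have hgoal : ((2 ^ (k + 1) : ℕ) : ℤ) ∣ ((1 + Nat.card {x : G // orderOf x = 2} : ℕ) : ℤ) := by
    rw [hsum]
    apply dvd_sum_of_orbits (A := (G ⧸ frattini G) →* ℂˣ)
    · intro a χ
      rw [heinv, hsm, charDegree_twist]
    · intro χ
      rw [← mul_assoc, mul_comm _ (e χ), mul_assoc]
      apply Dvd.dvd.mul_left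
      -- natural number divisibility
      have hnat : 2 ^ (k + 1) ∣ (MulAction.orbit ((G ⧸ frattini G) →* ℂˣ) χ).ncard *
          charDegree (χ : G → ℂ) := by
        rw [← MulAction.index_stabilizer]
        set St := MulAction.stabilizer ((G ⧸ frattini G) →* ℂˣ) χ with hSt
        have hA : Nat.card ((G ⧸ frattini G) →* ℂˣ) = 2 ^ d := by rw [hcardA, hd]
        obtain ⟨s, hsd, hs⟩ := (Nat.dvd_prime_pow Nat.prime_two).mp
          (hA ▸ Subgroup.card_subgroup_dvd_card St)
        have hidx : St.index = 2 ^ (d - s) := by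
          have h1 := Subgroup.index_mul_card St
          rw [hs, hA] at h1
          have h2 : (2 : ℕ) ^ d = 2 ^ (d - s) * 2 ^ s := by rw [← pow_add]; congr 1; omega
          rw [h2] at h1
          exact Nat.eq_of_mul_eq_mul_right (by positivity) h1
        obtain ⟨j, -, hj⟩ := (Nat.dvd_prime_pow Nat.prime_two).mp
          (hn ▸ irr_charDegree_dvd_card χ)
        -- stabilizer bound
        have hbound : Nat.card St ≤ charDegree (χ : G → ℂ) ^ 2 := by
          let _ := Fintype.ofFinite St
          have hinj : Function.Injective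
              (fun a : St => (a : (G ⧸ frattini G) →* ℂˣ).comp (QuotientGroup.mk' (frattini G))) := by
            intro a b hab
            apply Subtype.ext
            exact MonoidHom.cancel_right (QuotientGroup.mk'_surjective _) |>.mp hab
          have h1 := card_le_sq_of_twist_eq χ (Finset.univ.image
            (fun a : St => (a : (G ⧸ frattini G) →* ℂˣ).comp (QuotientGroup.mk' (frattini G)))) (by
              intro φ hφ
              obtain ⟨a, -, rfl⟩ := Finset.mem_image.mp hφ
              have h5 : (a : (G ⧸ frattini G) →* ℂˣ) • χ = χ := MulAction.mem_stabilizer_iff.mp a.2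
              rw [hsm] at h5
              exact h5)
          rw [Finset.card_image_of_injective _ hinj, Finset.card_univ, ← Nat.card_eq_fintype_card] at h1
          exact h1
        rw [hs, hj, ← pow_mul] at hbound
        have hs2 : s ≤ j * 2 := (Nat.pow_le_pow_iff_right (by norm_num)).mp hbound
        rw [hidx, hj, ← pow_add]
        apply pow_dvd_pow
        omega
      exact_mod_cast hnat
  exact_mod_cast hgoal

end Cfsg.Agent.S4058
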