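import Cfsg.Statements.S4059
import Mathlib
import Cfsg.Agent.Lib.Helper12.Basic
-- import your own Cfsg.Agent.* helpers here

set_option autoImplicit false
open Cfsg

namespace Cfsg.Agent.S4059

open scoped commutatorElement

/-- if `c` inverts `x` then so does every odd power of `c` -/
theorem odd_pow_inverts {G : Type*} [Group G] (c x : G) (hc : c * x * c⁻¹ = x⁻¹) (m : ℕ) (hm : Odd m) :
    c ^ m * x * (c ^ m)⁻¹ = x⁻¹ := by
  obtain ⟨j, rfl⟩ := hm
  set φ := MulAut.conj c with hφ
  have h1 : φ x = x⁻¹ := by rw [hφ, MulAut.conj_apply, hc]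
  have h2 : (φ ^ 2) x = x := by
    rw [sq, MulAut.mul_apply, h1, map_inv, h1, inv_inv]
  have h3 : ∀ j : ℕ, (φ ^ (2 * j + 1)) x = x⁻¹ := by
    intro j
    induction j with
    | zero => simpa using h1
    | succ j ih =>
      rw [show 2 * (j + 1) + 1 = (2 * j + 1) + 2 by ring, pow_add, MulAut.mul_apply, h2, ih]
  have h4 := h3 j
  rw [hφ, ← map_pow, MulAut.conj_apply] at h4
  exact h4

/-- in an ambivalent finite group every element is inverted by a 2-element -/
theorem exists_two_elt_inverting {G : Type*} [Group G] [Finite G] (hamb : ∀ x : G, IsConj x x⁻¹) (x : G) :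
    ∃ (g : G) (k : ℕ), orderOf g = 2 ^ k ∧ g * x * g⁻¹ = x⁻¹ := by
  obtain ⟨c, hc⟩ := isConj_iff.mp (hamb x)
  obtain ⟨a, m, hm, hn⟩ := Nat.exists_eq_two_pow_mul_odd (orderOf_pos c).ne'
  refine ⟨c ^ m, a, ?_, odd_pow_inverts c x hc m hm⟩
  rw [orderOf_pow, hn, Nat.gcd_mul_left_left, Nat.mul_div_cancel _ hm.pos]

/-- Let G be a finite group in which every element is conjugate to its inverse. Then: every non-identity element commuting with all elements of some Sylow 2-subgroup is an involution; the centre of G is an elementary abelian 2-group; the commutator quotient G/G' is an elementary abelian 2-group; and G is generated by its 2-elements. -/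
theorem result {G : Type*} [Group G] [Finite G] (hamb : ∀ x : G, IsConj x x⁻¹) :
    (∀ (S : Sylow 2 G) (x : G), x ∈ Subgroup.centralizer ((S : Subgroup G) : Set G) → x ≠ 1 → orderOf x = 2) ∧
    (∀ z : G, z ∈ Subgroup.center G → z ^ 2 = 1) ∧
    (∀ x : G, x ^ 2 ∈ commutator G) ∧
    Subgroup.closure {x : G | ∃ k : ℕ, orderOf x = 2 ^ k} = ⊤ := by
  have : Fact (Nat.Prime 2) := ⟨Nat.prime_two⟩
  refine ⟨?_, ?_, ?_, ?_⟩
  · intro S x hxS hx1
    by_contra hne
    have hx2 : x ^ 2 ≠ 1 := by
      intro h
      exact hne (orderOf_eq_prime h hx1)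
    have hxinv : x⁻¹ ≠ x := by
      intro h
      apply hx2
      rw [sq]
      nth_rewrite 1 [← h]
      exact inv_mul_cancel x
    obtain ⟨g, k, hgk, hg⟩ := exists_two_elt_inverting hamb x
    set C := Subgroup.centralizer ({x} : Set G) with hC
    have memC : ∀ c : G, c ∈ C ↔ Commute c x := by
      intro c
      rw [hC, Subgroup.mem_centralizer_iff]
      constructor
      · intro h; exact (h x rfl).symm
      · intro h y hy; rw [Set.mem_singleton_iff] at hy; rw [hy]; exact h.eq.symm
    have hSC : (S : Subgroup G) ≤ C := by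
      intro s hs
      rw [memC]
      rw [Subgroup.mem_centralizer_iff] at hxS
      exact hxS s hs
    have key : ∀ c : G, Commute c x ↔ Commute (g * c * g⁻¹) x := by
      intro c
      constructor
      · intro h
        have h1 := h.map (MulAut.conj g)
        simp only [MulAut.conj_apply] at h1
        rw [hg] at h1
        exact (Commute.inv_right_iff).mp h1
      · intro h
        have h0 : Commute (g * c * g⁻¹) (g * x * g⁻¹) := by rw [hg]; exact h.inv_right
        have h1 := h0.map (MulAut.conj g⁻¹)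
        simp only [MulAut.conj_apply, inv_inv] at h1
        have e1 : g⁻¹ * (g * c * g⁻¹) * g = c := by group
        have e2 : g⁻¹ * (g * x * g⁻¹) * g = x := by group
        rwa [e1, e2] at h1
    have hgN : g ∈ Subgroup.normalizer (C : Set G) := by
      rw [Subgroup.mem_normalizer_iff]
      intro c
      rw [memC, memC]
      exact key c
    have hQ : IsPGroup 2 (Subgroup.zpowers g) := by
      apply IsPGroup.of_card (n := k)
      rw [Nat.card_zpowers, hgk]
    have hQN : Subgroup.zpowers g ≤ Subgroup.normalizer (C : Set G) := by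
      rw [Subgroup.zpowers_le]; exact hgN
    obtain ⟨h, hhN, hh⟩ := Cfsg.Agent.Lib.Helper12.exists_conj_mem_sylow S
      (Subgroup.normalizer (C : Set G)) (Subgroup.zpowers g) (hSC.trans Subgroup.le_normalizer) hQN hQ
    have h1 : h * g * h⁻¹ ∈ C := hSC (hh g (Subgroup.mem_zpowers g))
    have h2 : g ∈ C := (Subgroup.mem_normalizer_iff.mp hhN g).mpr h1
    rw [memC] at h2
    apply hxinv
    rw [← hg, h2.eq, mul_inv_cancel_right]
  · intro z hz
    obtain ⟨c, hc⟩ := isConj_iff.mp (hamb z)
    rw [Subgroup.mem_center_iff] at hz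
    rw [hz c, mul_inv_cancel_right] at hc
    rw [sq]
    nth_rewrite 1 [hc]
    exact inv_mul_cancel z
  · intro x
    obtain ⟨g, k, _, hg⟩ := exists_two_elt_inverting hamb x
    have h1 : ⁅g, x⁆ = (x ^ 2)⁻¹ := by
      rw [commutatorElement_def, hg, sq, mul_inv_rev]
    have h2 : ⁅g, x⁆ ∈ commutator G :=
      Subgroup.commutator_mem_commutator (Subgroup.mem_top _) (Subgroup.mem_top _)
    rw [h1] at h2
    exact (Subgroup.inv_mem_iff _).mp h2
  · rw [eq_top_iff]
    intro x _
    set T := Subgroup.closure {x : G | ∃ k : ℕ, orderOf x = 2 ^ k} with hT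
    have hsq : ∀ y : G, y ^ 2 ∈ T := by
      intro y
      obtain ⟨g, k, hgk, hg⟩ := exists_two_elt_inverting hamb y
      have hgT : g ∈ T := Subgroup.subset_closure ⟨k, hgk⟩
      have hg'T : y * g⁻¹ * y⁻¹ ∈ T := by
        apply Subgroup.subset_closure
        refine ⟨k, ?_⟩
        have := (MulAut.conj y).orderOf_eq g⁻¹
        rw [MulAut.conj_apply, orderOf_inv] at this
        rw [this, hgk]
      have h1 : (y ^ 2)⁻¹ = g * (y * g⁻¹ * y⁻¹) := by
        have : y⁻¹ * y⁻¹ = (g * y * g⁻¹) * y⁻¹ := by rw [hg]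
        rw [sq, mul_inv_rev, this]
        group
      rw [← Subgroup.inv_mem_iff, h1]
      exact T.mul_mem hgT hg'T
    obtain ⟨a, m, hm, hn⟩ := Nat.exists_eq_two_pow_mul_odd (orderOf_pos x).ne'
    have hxm : x ^ m ∈ T := by
      apply Subgroup.subset_closure
      refine ⟨a, ?_⟩
      rw [orderOf_pow, hn, Nat.gcd_mul_left_left, Nat.mul_div_cancel _ hm.pos]
    obtain ⟨j, rfl⟩ := hm
    have : x = x ^ (2 * j + 1) * ((x ^ 2) ^ j)⁻¹ := by
      rw [pow_succ, pow_mul]; group
    rw [this]
    exact T.mul_mem hxm (T.inv_mem (T.pow_mem (hsq x) j))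

end Cfsg.Agent.S4059
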