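import Cfsg.Statements.S4060
import Mathlib
import Cfsg.Agent.Lib.Helper1.SZConj
import Cfsg.Agent.Lib.Helper17.Coprime
-- import your own Cfsg.Agent.* helpers here

set_option autoImplicit false
open Cfsg

namespace Cfsg.Agent.S4060

open Subgroup Pointwise
open Cfsg.Agent.Lib.Helper1

universe u

/-- final contradiction: `S ≤ C(x)`, `x` inverted by `g` -/
lemma final_step {G : Type u} [Group G] [Finite G] (S : Sylow 2 G) (x g : G)
    (hodd : Odd (orderOf x)) (hSx : ∀ s ∈ (S : Subgroup G), s * x = x * s)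
    (hg : g * x * g⁻¹ = x⁻¹) : x = 1 := by
  have : Fact (Nat.Prime 2) := ⟨Nat.prime_two⟩
  obtain ⟨i, j, hdec, ⟨k, hi⟩, hj⟩ := Cfsg.Agent.Lib.Helper17.exists_p_pprime_decomp 2 g
  -- g^2 commutes with x
  have hg2 : Commute (g ^ 2) x := by
    have h1 : g * x⁻¹ * g⁻¹ = x := by
      have : g * x⁻¹ * g⁻¹ = (g * x * g⁻¹)⁻¹ := by group
      rw [this, hg, inv_inv]
    show g ^ 2 * x = x * g ^ 2
    calc g ^ 2 * x = g * (g * x * g⁻¹) * g⁻¹ * g ^ 2 := by simp [pow_two, mul_assoc]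
      _ = g * x⁻¹ * g⁻¹ * g ^ 2 := by rw [hg]
      _ = x * g ^ 2 := by rw [h1]
  -- g^j commutes with x
  have hcj : Commute (g ^ j) x := by
    obtain ⟨t, ht⟩ : ∃ t, orderOf (g ^ j) + 1 = 2 * t := by
      have hoddj : Odd (orderOf (g ^ j)) := by
        rw [Nat.odd_iff]
        rcases Nat.even_or_odd (orderOf (g ^ j)) with he | ho
        · exfalso
          have h2 : 2 ∣ orderOf (g ^ j) := he.two_dvd
          have := Nat.Coprime.eq_one_of_dvd hj.symm h2
          omega
        · exact Nat.odd_iff.mp ho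
      obtain ⟨r, hr⟩ := hoddj
      exact ⟨r + 1, by omega⟩
    have h1 : g ^ j = ((g ^ 2) ^ j) ^ t := by
      have h2 : (g ^ j) ^ (orderOf (g ^ j) + 1) = g ^ j := by
        rw [pow_succ, pow_orderOf_eq_one, one_mul]
      rw [ht, pow_mul] at h2
      have h3 : (g ^ j) ^ 2 = (g ^ 2) ^ j := by
        rw [← zpow_natCast, ← zpow_mul, ← zpow_natCast g 2, ← zpow_mul, mul_comm]
      rw [h3] at h2
      exact h2.symm
    rw [h1]
    exact (hg2.zpow_left j).pow_left t
  -- t := g^i inverts x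
  have hti : g ^ i * x * (g ^ i)⁻¹ = x⁻¹ := by
    have h1 : g ^ i = g * (g ^ j)⁻¹ := by
      have : g * (g ^ j)⁻¹ = g ^ i * g ^ j * (g ^ j)⁻¹ := by rw [← hdec]
      rw [this]; group
    have h2 : (g ^ j)⁻¹ * x * (g ^ j) = x := by
      have := hcj.eq
      calc (g ^ j)⁻¹ * x * (g ^ j) = (g ^ j)⁻¹ * (x * g ^ j) := by group
        _ = (g ^ j)⁻¹ * (g ^ j * x) := by rw [this]
        _ = x := by group
    calc g ^ i * x * (g ^ i)⁻¹ = g * ((g ^ j)⁻¹ * x * (g ^ j)) * g⁻¹ := by rw [h1]; group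
      _ = x⁻¹ := by rw [h2, hg]
  obtain ⟨t, htdef⟩ : ∃ t, t = g ^ i := ⟨_, rfl⟩
  rw [← htdef] at hti hi
  -- T = normalizer of zpowers x
  obtain ⟨T, hT⟩ : ∃ T : Subgroup G, T = Subgroup.normalizer ((zpowers x : Subgroup G) : Set G) :=
    ⟨_, rfl⟩
  have hST : (S : Subgroup G) ≤ T := by
    intro s hs
    rw [hT]
    apply Cfsg.Agent.Lib.Helper17.mem_normalizer_of_forall_conj_mem
    intro w hw
    obtain ⟨m, rfl⟩ := mem_zpowers_iff.mp hw
    have h1 : s * x ^ m * s⁻¹ = (s * x * s⁻¹) ^ m := by rw [conj_zpow]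
    have h2 : s * x * s⁻¹ = x := by rw [hSx s hs]; group
    rw [h1, h2]
    exact zpow_mem (mem_zpowers x) m
  have htT : t ∈ T := by
    rw [hT]
    apply Cfsg.Agent.Lib.Helper17.mem_normalizer_of_forall_conj_mem
    intro w hw
    obtain ⟨m, rfl⟩ := mem_zpowers_iff.mp hw
    have h1 : t * x ^ m * t⁻¹ = (t * x * t⁻¹) ^ m := by rw [conj_zpow]
    rw [h1, hti]
    exact zpow_mem (inv_mem (mem_zpowers x)) m
  -- Sylow in T
  have hpt : IsPGroup 2 ((zpowers t).subgroupOf T) := by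
    have h1 : IsPGroup 2 (zpowers t) := IsPGroup.of_card (n := k) (by rw [Nat.card_zpowers, hi])
    exact h1.comap_subtype
  obtain ⟨Q, hQ⟩ := hpt.exists_le_sylow
  obtain ⟨c, hc⟩ := MulAction.exists_smul_eq T Q (S.subtype hST)
  have htQ : (⟨t, htT⟩ : T) ∈ (Q : Subgroup T) := by
    apply hQ
    rw [mem_subgroupOf]
    exact mem_zpowers t
  have hu : (c : G) * t * (c : G)⁻¹ ∈ (S : Subgroup G) := by
    have h1 : c * (⟨t, htT⟩ : T) * c⁻¹ ∈ ((S.subtype hST : Sylow 2 T) : Subgroup T) := by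
      rw [← hc, mem_sylow_smul_iff]
      have : c⁻¹ * (c * (⟨t, htT⟩ : T) * c⁻¹) * c = ⟨t, htT⟩ := by group
      rw [this]; exact htQ
    rw [Sylow.coe_subtype, mem_subgroupOf] at h1
    simpa using h1
  have hcomm := hSx _ hu
  -- c x c⁻¹ ∈ zpowers x
  have hcT : (c : G) ∈ Subgroup.normalizer ((zpowers x : Subgroup G) : Set G) := hT ▸ c.2
  have hcx : (c : G)⁻¹ * x * (c : G) ∈ zpowers x := by
    have := (Subgroup.mem_normalizer_iff''.mp hcT x).mp (mem_zpowers x)
    exact this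
  -- t commutes with c⁻¹ x c
  have h5 : t * ((c : G)⁻¹ * x * (c : G)) = ((c : G)⁻¹ * x * (c : G)) * t := by
    calc t * ((c : G)⁻¹ * x * (c : G)) = (c : G)⁻¹ * ((c : G) * t * (c : G)⁻¹ * x) * (c : G) := by group
      _ = (c : G)⁻¹ * (x * ((c : G) * t * (c : G)⁻¹)) * (c : G) := by rw [hcomm]
      _ = ((c : G)⁻¹ * x * (c : G)) * t := by group
  -- x ∈ zpowers (c⁻¹ x c)
  have hx' : x ∈ zpowers ((c : G)⁻¹ * x * (c : G)) := by
    have hle : zpowers ((c : G)⁻¹ * x * (c : G)) ≤ zpowers x := by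
      rw [zpowers_le]; exact hcx
    have hcard : Nat.card (zpowers ((c : G)⁻¹ * x * (c : G))) = Nat.card (zpowers x) := by
      rw [Nat.card_zpowers, Nat.card_zpowers]
      have := MulEquiv.orderOf_eq (MulAut.conj (c : G)⁻¹) x
      simpa using this
    have := Subgroup.eq_of_le_of_card_ge hle hcard.ge
    rw [this]; exact mem_zpowers x
  obtain ⟨e, he⟩ := mem_zpowers_iff.mp hx'
  have h6 : Commute t x := by
    rw [← he]
    exact Commute.zpow_right h5 e
  have h7 : x⁻¹ = x := by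
    rw [← hti, h6.eq]; group
  have h8 : x ^ 2 = 1 := by
    rw [pow_two]
    nth_rewrite 1 [← h7]
    exact inv_mul_cancel x
  have h9 : orderOf x ∣ 2 := orderOf_dvd_of_pow_eq_one h8
  have h10 : orderOf x = 1 := by
    rcases (Nat.dvd_prime Nat.prime_two).mp h9 with h | h
    · exact h
    · rw [h] at hodd; exact absurd hodd (by decide)
  exact orderOf_eq_one_iff.mp h10

theorem main : ∀ (n : ℕ) (G : Type u) [Group G] [Finite G] [Group.IsSolvable G], Nat.card G = n →
    ∀ (S : Sylow 2 G) (x : G), Odd (orderOf x) →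
      x ∈ Subgroup.normalizer ((S : Subgroup G) : Set G) → IsConj x x⁻¹ → x = 1 := by
  intro n
  induction n using Nat.strong_induction_on with
  | _ n ih =>
    intro G _ _ _ hcard S x hodd hnorm hconj
    have : Fact (Nat.Prime 2) := ⟨Nat.prime_two⟩
    by_contra hx1
    have : Nontrivial G := ⟨⟨x, 1, hx1⟩⟩
    obtain ⟨M, hM⟩ := exists_isMinNormal (G := G)
    obtain ⟨p, hp, hMp⟩ := hM.exists_prime_isPGroup
    have hMn : M.Normal := hM.1
    have hlt : Nat.card (G ⧸ M) < n := hcard ▸ card_quotient_lt_of_ne_bot hM.2.1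
    have hsurj := QuotientGroup.mk'_surjective M
    have hxM : x ∈ M := by
      have h1 : Odd (orderOf (QuotientGroup.mk' M x)) :=
        Odd.of_dvd_nat hodd (orderOf_map_dvd (QuotientGroup.mk' M) x)
      have h2 : QuotientGroup.mk' M x ∈
          Subgroup.normalizer (((S.mapSurjective hsurj : Sylow 2 (G ⧸ M)) : Subgroup (G ⧸ M)) :
            Set (G ⧸ M)) := by
        apply Cfsg.Agent.Lib.Helper17.mem_normalizer_of_forall_conj_mem
        intro y hy
        rw [Sylow.coe_mapSurjective] at hy ⊢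
        obtain ⟨s, hs, rfl⟩ := hy
        refine ⟨x * s * x⁻¹, ?_, by simp⟩
        exact (Subgroup.mem_normalizer_iff.mp hnorm s).mp hs
      have h3 : IsConj (QuotientGroup.mk' M x) (QuotientGroup.mk' M x)⁻¹ := by
        rw [← map_inv]
        exact (QuotientGroup.mk' M).map_isConj hconj
      have := ih _ hlt (G ⧸ M) rfl (S.mapSurjective hsurj) (QuotientGroup.mk' M x) h1 h2 h3
      exact (QuotientGroup.eq_one_iff x).mp this
    have hp2 : p ≠ 2 := by
      rintro rfl
      obtain ⟨k, hk⟩ := hMp ⟨x, hxM⟩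
      have h1 : x ^ 2 ^ k = 1 := congrArg Subtype.val hk
      obtain ⟨j, -, hj⟩ := (Nat.dvd_prime_pow Nat.prime_two).mp (orderOf_dvd_of_pow_eq_one h1)
      rcases Nat.eq_zero_or_pos j with h0 | h0
      · rw [h0, pow_zero] at hj
        exact hx1 (orderOf_eq_one_iff.mp hj)
      · rw [hj] at hodd
        have : Even (2 ^ j) := (Nat.even_pow' h0.ne').mpr even_two
        exact (Nat.not_odd_iff_even.mpr this) hodd
    have : Fact p.Prime := ⟨hp⟩
    have hdisj : Disjoint M (S : Subgroup G) := IsPGroup.disjoint_of_ne p 2 hp2 M S hMp S.2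
    have hSx : ∀ s ∈ (S : Subgroup G), s * x = x * s := by
      intro s hs
      have h1 : x * s * x⁻¹ * s⁻¹ ∈ M := by
        have : x * s * x⁻¹ * s⁻¹ = x * (s * x⁻¹ * s⁻¹) := by group
        rw [this]
        exact mul_mem hxM (hMn.conj_mem _ (inv_mem hxM) _)
      have h2 : x * s * x⁻¹ * s⁻¹ ∈ (S : Subgroup G) :=
        mul_mem ((Subgroup.mem_normalizer_iff.mp hnorm s).mp hs) (inv_mem hs)
      have h3 := Subgroup.disjoint_def.mp hdisj h1 h2
      have h4 : x * s * x⁻¹ = s := mul_inv_eq_one.mp h3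
      calc s * x = (x * s * x⁻¹) * x := by rw [h4]
        _ = x * s := by group
    obtain ⟨g, hg⟩ := isConj_iff.mp hconj
    exact hx1 (final_step S x g hodd hSx hg)


/-- Let G be a finite solvable group with Sylow 2-subgroup S, and let x ≠ 1 be an element of odd order normalizing S. Then x is not conjugate to its inverse in G. -/
theorem result {G : Type*} [Group G] [Finite G] [Group.IsSolvable G]
    (S : Sylow 2 G) (x : G) (hx : x ≠ 1) (hodd : Odd (orderOf x))
    (hnorm : x ∈ Subgroup.normalizer ((S : Subgroup G) : Set G)) : ¬ IsConj x x⁻¹ := by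
  intro hc
  exact hx (main _ G rfl S x hodd hnorm hc)

end Cfsg.Agent.S4060
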