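import Cfsg.Statements.S4061
-- import your own Cfsg.Agent.* helpers here
import Mathlib
import Cfsg.Agent.Lib.Helper18.AmbivalentSolv
import Cfsg.Agent.Lib.Helper18.UniqueInvolution

set_option autoImplicit false
open Cfsg

namespace Cfsg.Agent.S4061

/-- Let G be a finite solvable group of even order in which every element is conjugate to its inverse and all involutions are conjugate. Then a Sylow 2-subgroup S of G has order 2 or is a generalized quaternion group (of order at least 8). Moreover, if S has order 2, then G is the semidirect product of its largest normal subgroup of odd order O(G) by S, O(G) equals the derived subgroup of G, and the involution of S inverts every element of O(G). -/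
theorem result {G : Type*} [Group G] [Finite G] [Group.IsSolvable G]
    (hamb : ∀ x : G, IsConj x x⁻¹) (heven : 2 ∣ Nat.card G) (hone : ∀ s t : G, orderOf s = 2 → orderOf t = 2 → IsConj s t) (S : Sylow 2 G) :
    (Nat.card S = 2 ∨ ∃ n : ℕ, Nonempty ((S : Subgroup G) ≃* QuaternionGroup (2 ^ (n + 1)))) ∧
    (Nat.card S = 2 → (S : Subgroup G).IsComplement' (Cfsg.oddCore G) ∧ Cfsg.oddCore G = commutator G ∧
        ∀ t : G, t ∈ S → t ≠ 1 → ∀ x : G, x ∈ Cfsg.oddCore G → t * x * t⁻¹ = x⁻¹) := by
  have hfirst : Nat.card S = 2 ∨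
      ∃ n : ℕ, Nonempty ((S : Subgroup G) ≃* QuaternionGroup (2 ^ (n + 1))) := by
    have hSp : IsPGroup 2 (S : Subgroup G) := S.2
    rcases Cfsg.Agent.Lib.Helper18.isCyclic_or_quaternion_of_unique_involution hSp
      (fun s t hs ht => Subtype.ext
        (Cfsg.Agent.Lib.Helper18.AmbivalentSolv.sylow_involution_unique hamb hone S s.2 t.2
          (by rw [Subgroup.orderOf_coe]; exact hs) (by rw [Subgroup.orderOf_coe]; exact ht)))
      with hc | ⟨n, hn, ⟨e⟩⟩
    · left
      exact Cfsg.Agent.Lib.Helper18.AmbivalentSolv.sylow_card_two_of_isCyclic hamb heven S hc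
    · right
      obtain ⟨n', rfl⟩ := Nat.exists_eq_add_of_le' hn
      exact ⟨n', ⟨e⟩⟩
  exact ⟨hfirst, fun h2 =>
    Cfsg.Agent.Lib.Helper18.AmbivalentSolv.structure_of_sylow_card_two hamb S h2⟩

end Cfsg.Agent.S4061
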