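import Cfsg.Statements.S4064
import Cfsg.Agent.Lib.Helper23.CTIKillF
import Cfsg.Agent.Lib.Helper17.CTIA4
import Cfsg.Agent.Lib.Helper26.CTIB
import Cfsg.Agent.Lib.Helper13.CTICE
import Cfsg.Agent.Lib.Helper7.CTID
import Cfsg.Agent.Lib.Helper9.CTIE
import Cfsg.Agent.Lib.Helper26.CTIF3

/-!
# S4064: finite groups all of whose element centralizers are TI-subgroups

Assembly (helper23) of the packages:
A (helper17: CTI ⇒ CN, centre, Fitting/Frobenius case), B (helper26, helper5: a normal `PSL₂(2ⁿ)`-like
subgroup is everything), C (helper13: strongly embedded analysis ⇒ Zassenhaus data), D (helper7: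
recognition of `PSL₂(2ⁿ)` via S1230), E (helper9: the induction), F (helper26, helper17: Feit's
theorem S0885 and Suzuki 2-groups ⇒ residual configuration), and the kill of the residual
configuration by exceptional characters (helper23, with helper6's `exc_structure`).
-/

set_option autoImplicit false
open Cfsg

namespace Cfsg.Agent.S4064

open Cfsg.Agent.Lib.Helper23.CTI in
/-- Let G be a finite group in which the centralizer of every element meets each of its conjugates by elements outside its normalizer trivially. Then G is nilpotent; or G is a Frobenius group with a complement that is cyclic or isomorphic to the direct product of a cyclic group of odd order and the quaternion group of order 8; or G is isomorphic to PSL₂(2ⁿ) for some n ≥ 2. -/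
theorem result {G : Type*} [Group G] [Finite G] (hTI : ∀ x : G, Cfsg.IsTISubset (Subgroup.centralizer ({x} : Set G) : Set G)) :
    Group.IsNilpotent G ∨
    (∃ H : Subgroup G, Cfsg.IsFrobeniusComplement H ∧
      (IsCyclic H ∨ ∃ m : ℕ, Odd m ∧ Nonempty (H ≃* Multiplicative (ZMod m) × QuaternionGroup 2))) ∨
    (∃ n : ℕ, 2 ≤ n ∧ Nonempty (G ≃* Matrix.ProjectiveSpecialLinearGroup (Fin 2) (GaloisField 2 n))) := by
  refine Cfsg.Agent.Lib.Helper9.CTIE.S4064_of
    (fun G _ _ h hZ => Cfsg.Agent.Lib.Helper17.CTIA.nilpotent_of_center_ne_bot h hZ)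
    (fun G _ _ h hZ A _ hA hA1 IH =>
      Cfsg.Agent.Lib.Helper17.CTIA.frobAlt_of_normal_nilpotent h hZ A hA hA1 IH)
    (fun G _ _ h S _ hS => Cfsg.Agent.Lib.Helper26.CTIB.eq_top_of_normal_PSLlike h S hS)
    ?_
    (fun G _ _ h => Cfsg.Agent.Lib.Helper7.CTID.pslIso_of_PSLlike h)
    hTI
  intro G _ _ h hsimple hnc heven
  obtain ⟨Z⟩ := Cfsg.Agent.Lib.Helper13.CTIC.nonempty_zData h hnc heven
  rcases Cfsg.Agent.Lib.Helper26.CTIF.psllike_or_hasKillData h Z with
    h1 | ⟨Ω, _, _, a, b, H, E, n, K⟩
  · exact h1
  · exact (false_of_killData K).elim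

end Cfsg.Agent.S4064
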