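import Cfsg.Statements.S4067
import Mathlib
import Cfsg.Agent.Lib.Helper2.AutOrbE
import Cfsg.Agent.Lib.Helper2.AutOrbF

set_option autoImplicit false
open Cfsg

namespace Cfsg.Agent.S4067

open Cfsg.Agent.Lib.Helper2.AutOrb in
theorem s4067_center_index {G : Type*} [Group G] [Finite G] (hna : ¬ IsMulCommutative G) :
    Nat.card (Subgroup.center G) * ((Nat.card G).minFac * (Nat.card G).minFac) ≤ Nat.card G := by
  classical
  set p := (Nat.card G).minFac with hp
  set m := (Subgroup.center G).index with hm
  have hidx : Nat.card (Subgroup.center G) * m = Nat.card G := Subgroup.card_mul_index _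
  have hmpos : 0 < m := Nat.pos_of_ne_zero Subgroup.index_ne_zero_of_finite
  have hm1 : m ≠ 1 := by
    intro h
    apply hna
    have htop : Subgroup.center G = ⊤ := Subgroup.index_eq_one.mp h
    refine ⟨⟨fun a b => ?_⟩⟩
    have ha : a ∈ Subgroup.center G := by rw [htop]; exact Subgroup.mem_top a
    exact (Subgroup.mem_center_iff.mp ha b).symm
  have hmnp : ¬ m.Prime := by
    intro hpr
    apply hna
    haveI := Fact.mk hpr
    have hcard : Nat.card (G ⧸ Subgroup.center G) = m := rfl
    haveI : IsCyclic (G ⧸ Subgroup.center G) := isCyclic_of_prime_card hcard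
    exact isMulCommutative_of_isCyclic_quotient_center_self G
  have hmdvd : m ∣ Nat.card G := Subgroup.index_dvd_card _
  have h1 : m.minFac ^ 2 ≤ m := Nat.minFac_sq_le_self hmpos hmnp
  have h2 : p ≤ m.minFac := by
    apply Nat.minFac_le_of_dvd (Nat.minFac_prime hm1).two_le
    exact dvd_trans (Nat.minFac_dvd m) hmdvd
  have h3 : p * p ≤ m := by
    calc p * p ≤ m.minFac * m.minFac := Nat.mul_le_mul h2 h2
      _ = m.minFac ^ 2 := (pow_two _).symm
      _ ≤ m := h1
  calc Nat.card (Subgroup.center G) * (p * p) ≤ Nat.card (Subgroup.center G) * m :=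
        Nat.mul_le_mul_left _ h3
    _ = Nat.card G := hidx

/-- Let G be a finite non-abelian group and p the least prime dividing its order. Then the automorphism group of G has at most #G/p orbits on G. -/
theorem result {G : Type*} [Group G] [Finite G] (hna : ¬ IsMulCommutative G) :
    Nat.card (MulAction.orbitRel.Quotient (MulAut G) G) ≤ Nat.card G / (Nat.card G).minFac := by
  classical
  have hN1 : Nat.card G ≠ 1 := by
    intro h
    apply hna
    have : Subsingleton G := (Nat.card_eq_one_iff_unique.mp h).1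
    exact ⟨⟨fun a b => Subsingleton.elim _ _⟩⟩
  have hpp : (Nat.card G).minFac.Prime := Nat.minFac_prime hN1
  rw [Nat.le_div_iff_mul_le hpp.pos, mul_comm]
  by_cases hk : (Nat.card G).minFac * Nat.card (ConjClasses G) ≤ Nat.card G
  · exact le_trans (Nat.mul_le_mul_left _
      (Cfsg.Agent.Lib.Helper2.AutOrb.card_autOrbits_le_card_conjClasses G)) hk
  · push Not at hk
    have hD := Cfsg.Agent.Lib.Helper2.AutOrb.card_commutator_eq_minFac hna hk
    have hcen : commutator G ≤ Subgroup.center G :=
      Cfsg.Agent.Lib.Helper2.AutOrb.le_center_of_card_eq_minFac (commutator G) hD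
    have S : Cfsg.Agent.Lib.Helper2.AutOrb.Setting G (Nat.card G).minFac := ⟨hpp, hcen, hD⟩
    have hZ := s4067_center_index hna
    by_cases h2 : (Nat.card G).minFac = 2
    · have S2 : Cfsg.Agent.Lib.Helper2.AutOrb.Setting G 2 := h2 ▸ S
      obtain ⟨d, hdy, hdz, hdw, hdc, hdcp⟩ := Cfsg.Agent.Lib.Helper2.AutOrb.data_two S2
      have hZ2 : Nat.card (Subgroup.center G) * (2 * 2) ≤ Nat.card G := by
        have := hZ
        rw [h2] at this
        exact this
      have := Cfsg.Agent.Lib.Helper2.AutOrb.Setting.orbits_le S2 h2.symm hZ2 d hdy hdz hdw hdc hdcp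
      rw [h2]
      exact this
    · obtain ⟨d, hdy, hdz, hdw, hdc, hdcp⟩ := S.data_odd h2 hZ
      exact Cfsg.Agent.Lib.Helper2.AutOrb.Setting.orbits_le S rfl hZ d hdy hdz hdw hdc hdcp

end Cfsg.Agent.S4067
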