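import Cfsg.Statements.S4068
import Cfsg.Agent.S0144
import Cfsg.Agent.S0183
import Cfsg.Agent.S1230
import Cfsg.Agent.S3277
import Cfsg.Agent.Lib.Helper13.PSL2Spectrum

set_option autoImplicit false
open Cfsg

namespace Cfsg.Agent.S4068

theorem comm_of_sq (H : Type*) [Group H] (h : ∀ x : H, x ^ 2 = 1) (a b : H) : a * b = b * a := by
  have h1 : a * a = 1 := by rw [← sq]; exact h a
  have h2 : b * b = 1 := by rw [← sq]; exact h b
  have h3 : a * b * (a * b) = 1 := by rw [← sq]; exact h (a * b)
  calc a * b = a * (a * b * (a * b)) * b := by rw [h3]; simp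
    _ = (a * a) * (b * a) * (b * b) := by group
    _ = b * a := by rw [h1, h2]; simp

theorem card_pf_le_two {n d : ℕ} (hn : n.primeFactors.card = 3) (h2 : 2 ∣ n) (hd : d ∣ n)
    (hodd : ¬ 2 ∣ d) : d.primeFactors.card ≤ 2 := by
  have hn0 : n ≠ 0 := by rintro rfl; simp at hn
  have hsub : d.primeFactors ⊆ n.primeFactors.erase 2 := by
    intro p hp
    rw [Finset.mem_erase]
    refine ⟨?_, Nat.primeFactors_mono hd hn0 hp⟩
    rintro rfl
    exact hodd (Nat.dvd_of_mem_primeFactors hp)
  have h2m : 2 ∈ n.primeFactors := by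
    rw [Nat.mem_primeFactors]; exact ⟨Nat.prime_two, h2, hn0⟩
  calc d.primeFactors.card ≤ (n.primeFactors.erase 2).card := Finset.card_le_card hsub
    _ = 2 := by rw [Finset.card_erase_of_mem h2m, hn]

theorem card_pf_two_pow (a : ℕ) : (2 ^ a).primeFactors.card ≤ 2 := by
  rcases Nat.eq_zero_or_pos a with rfl | ha
  · simp
  · rw [Nat.primeFactors_prime_pow ha.ne' Nat.prime_two]; simp

theorem arith_four (N : ℕ) (a : ℕ) (hN : N = 2 ^ a) (h4 : 4 ≤ N) (h1 : (N - 1).Prime)
    (h2 : (N + 1).Prime) : N = 4 := by
  have h3 : ¬ 3 ∣ N := by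
    rw [hN]; intro h
    have := Nat.Prime.dvd_of_dvd_pow Nat.prime_three h
    omega
  have : N % 3 = 0 ∨ N % 3 = 1 ∨ N % 3 = 2 := by omega
  rcases this with h | h | h
  · exact absurd (Nat.dvd_of_mod_eq_zero h) h3
  · have hd : 3 ∣ N - 1 := by omega
    have := (Nat.prime_dvd_prime_iff_eq Nat.prime_three h1).mp hd
    omega
  · have hd : 3 ∣ N + 1 := by omega
    have := (Nat.prime_dvd_prime_iff_eq Nat.prime_three h2).mp hd
    omega


/-- all elements trivial or of prime order -/
def EPO (G : Type*) [Group G] : Prop := ∀ x : G, x = 1 ∨ (orderOf x).Prime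

theorem epo_cent {G : Type*} [Group G] (h : EPO G) (x : G) (p : ℕ) (hx : orderOf x = p)
    (hp : p.Prime) (c : G) (hc : c ∈ Subgroup.centralizer ({x} : Set G)) :
    c = 1 ∨ orderOf c = p := by
  rcases h c with h1 | hq
  · exact Or.inl h1
  · right
    by_contra hne
    have hcomm : Commute x c := by
      have := Subgroup.mem_centralizer_iff.mp hc x (Set.mem_singleton x)
      exact this
    have hcop : Nat.Coprime (orderOf x) (orderOf c) := by
      rw [hx]
      exact (Nat.coprime_primes hp hq).mpr (fun h => hne h.symm)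
    have hord := hcomm.orderOf_mul_eq_mul_orderOf_of_coprime hcop
    rcases h (x * c) with h1 | hpr
    · rw [h1, orderOf_one, hx] at hord
      have h1p := hp.one_lt
      have h1q := hq.one_lt
      have : 1 < p * orderOf c := by nlinarith
      omega
    · rw [hord, hx] at hpr
      exact Nat.not_prime_mul hp.one_lt.ne' hq.one_lt.ne' hpr

theorem epo_cent_pgroup {G : Type*} [Group G] (h : EPO G) (x : G) (p : ℕ) (hx : orderOf x = p)
    (hp : p.Prime) : IsPGroup p (Subgroup.centralizer ({x} : Set G)) := by
  intro c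
  rcases epo_cent h x p hx hp c.1 c.2 with h1 | h1
  · exact ⟨0, by ext; simpa using h1⟩
  · refine ⟨1, ?_⟩
    ext
    rw [pow_one, Subgroup.coe_pow, ← h1]
    exact pow_orderOf_eq_one (c : G)


theorem solv_of_two (H : Type*) [Group H] [Finite H]
    (h : (Nat.card H).primeFactors.card ≤ 2) : Group.IsSolvable H := by
  have hn : Nat.card H ≠ 0 := Nat.card_pos.ne'
  have hfac := Nat.prod_factorization_pow_eq_self hn
  rw [Finsupp.prod, Nat.support_factorization] at hfac
  have h012 : (Nat.card H).primeFactors.card = 0 ∨ (Nat.card H).primeFactors.card = 1 ∨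
      (Nat.card H).primeFactors.card = 2 := by omega
  rcases h012 with h0 | h1 | h2
  · rw [Finset.card_eq_zero] at h0
    rw [h0, Finset.prod_empty] at hfac
    exact Cfsg.Agent.S0144.result 2 3 0 0 Nat.prime_two Nat.prime_three (by rw [← hfac]; norm_num)
  · obtain ⟨p, hp⟩ := Finset.card_eq_one.mp h1
    have hpp : p.Prime := Nat.prime_of_mem_primeFactors (by rw [hp]; simp)
    rw [hp, Finset.prod_singleton] at hfac
    exact Cfsg.Agent.S0144.result p p ((Nat.card H).factorization p) 0 hpp hpp (by rw [pow_zero, mul_one]; exact hfac.symm)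
  · obtain ⟨p, q, hpq, hS⟩ := Finset.card_eq_two.mp h2
    have hpp : p.Prime := Nat.prime_of_mem_primeFactors (by rw [hS]; simp)
    have hqp : q.Prime := Nat.prime_of_mem_primeFactors (by rw [hS]; simp)
    rw [hS, Finset.prod_pair hpq] at hfac
    exact Cfsg.Agent.S0144.result p q _ _ hpp hqp hfac.symm

theorem solv_ext {G : Type*} [Group G] [Finite G] (N : Subgroup G) [N.Normal]
    (h1 : (Nat.card N).primeFactors.card ≤ 2) (h2 : N.index.primeFactors.card ≤ 2) :
    Group.IsSolvable G := by
  have : Group.IsSolvable N := solv_of_two N h1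
  have : Group.IsSolvable (G ⧸ N) := solv_of_two (G ⧸ N) (by rwa [← Subgroup.index_eq_card])
  exact Group.isSolvable_of_ker_le_range N.subtype (QuotientGroup.mk' N) (by simp)



theorem step_one {G : Type*} [Group G] [Finite G]
    (hsolv : (Nat.card G).primeFactors.card ≤ 2 → Group.IsSolvable G)
    (hns : ¬ Group.IsSolvable G)
    (h4 : Nat.card (MulAction.orbitRel.Quotient (MulAut G) G) = 4) :
    (Nat.card G).primeFactors.card = 3 ∧ EPO G := by
  classical
  set S := (Nat.card G).primeFactors with hS
  letI : Fintype (MulAction.orbitRel.Quotient (MulAut G) G) := Fintype.ofFinite _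
  let f : MulAction.orbitRel.Quotient (MulAut G) G → ℕ :=
    Quotient.lift (fun x : G => orderOf x) (by
      intro a b hab
      have hab' : a ∈ MulAction.orbit (MulAut G) b := MulAction.orbitRel_apply.mp hab
      obtain ⟨φ, hφ⟩ := hab'
      change orderOf a = orderOf b
      have hφ' : φ b = a := hφ
      rw [← hφ']
      exact MulEquiv.orderOf_eq φ b)
  have hf : ∀ x : G, f (Quotient.mk'' x) = orderOf x := fun x => rfl
  set I := (Finset.univ : Finset (MulAction.orbitRel.Quotient (MulAut G) G)).image f with hI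
  have hIcard : I.card ≤ 4 := by
    calc I.card ≤ (Finset.univ : Finset (MulAction.orbitRel.Quotient (MulAut G) G)).card :=
          Finset.card_image_le
      _ = 4 := by rw [Finset.card_univ, ← Nat.card_eq_fintype_card, h4]
  have hsub : insert 1 S ⊆ I := by
    intro n hn
    rw [Finset.mem_insert] at hn
    rcases hn with rfl | hn
    · rw [hI, Finset.mem_image]
      exact ⟨Quotient.mk'' (1 : G), Finset.mem_univ _, by rw [hf, orderOf_one]⟩
    · have hp : n.Prime := Nat.prime_of_mem_primeFactors hn
      haveI : Fact n.Prime := ⟨hp⟩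
      obtain ⟨x, hx⟩ := exists_prime_orderOf_dvd_card' n (Nat.dvd_of_mem_primeFactors hn)
      rw [hI, Finset.mem_image]
      exact ⟨Quotient.mk'' x, Finset.mem_univ _, by rw [hf, hx]⟩
  have h1S : (1 : ℕ) ∉ S := fun h => Nat.not_prime_one (Nat.prime_of_mem_primeFactors h)
  have hins : (insert 1 S).card = S.card + 1 := Finset.card_insert_of_notMem h1S
  have hle : S.card + 1 ≤ 4 := by
    rw [← hins]; exact (Finset.card_le_card hsub).trans hIcard
  have h3 : S.card = 3 := by
    by_contra hne
    exact hns (hsolv (by omega))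
  refine ⟨h3, ?_⟩
  have heq : insert 1 S = I := Finset.eq_of_subset_of_card_le hsub (by rw [hins, h3]; exact hIcard)
  intro x
  have hx : orderOf x ∈ I := by
    rw [hI, Finset.mem_image]
    exact ⟨Quotient.mk'' x, Finset.mem_univ _, hf x⟩
  rw [← heq, Finset.mem_insert] at hx
  rcases hx with hx | hx
  · exact Or.inl (orderOf_eq_one_iff.mp hx)
  · exact Or.inr (Nat.prime_of_mem_primeFactors hx)

theorem no_complement {G : Type*} [Group G] [Finite G]
    (h3 : (Nat.card G).primeFactors.card = 3) (h2 : 2 ∣ Nat.card G)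
    (P : Sylow 2 G) (N : Subgroup G) [N.Normal] (hc : N.IsComplement' (P : Subgroup G)) :
    Group.IsSolvable G := by
  have hPc : Nat.card P = 2 ^ (Nat.card G).factorization 2 := P.card_eq_multiplicity
  have hNi : N.index = Nat.card P := hc.symm.index_eq_card
  have hPi : (P : Subgroup G).index = Nat.card N := hc.index_eq_card
  refine solv_ext N ?_ ?_
  · rw [← hPi]
    exact card_pf_le_two h3 h2 (Subgroup.index_dvd_card _) P.not_dvd_index
  · rw [hNi, hPc]
    exact card_pf_two_pow _

theorem main {G : Type*} [Group G] [Finite G] (hns : ¬ Group.IsSolvable G)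
    (h3 : (Nat.card G).primeFactors.card = 3) (hepo : EPO G) :
    Nonempty (G ≃* alternatingGroup (Fin 5)) := by
  classical
  -- the group has even order, by the odd order CN theorem
  have hCN : Cfsg.IsCNGroup G := by
    intro g hg
    rcases hepo g with h1 | hp
    · exact absurd h1 hg
    · haveI : Fact (orderOf g).Prime := ⟨hp⟩
      exact (epo_cent_pgroup hepo g _ rfl hp).isNilpotent
  have h2 : 2 ∣ Nat.card G := by
    by_contra h
    exact hns (Cfsg.Agent.S0183.result (Nat.odd_iff.mpr (by omega)) hCN)
  -- Sylow 2-subgroup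
  let T : Sylow 2 G := default
  set a := (Nat.card G).factorization 2 with ha
  have hTc : Nat.card T = 2 ^ a := T.card_eq_multiplicity
  have hidx : ∀ N : Subgroup G, ¬ 2 ∣ N.index → N.index.primeFactors.card ≤ 2 := fun N hN =>
    card_pf_le_two h3 h2 (Subgroup.index_dvd_card _) hN
  -- T is not normal
  have hnn : ¬ (T : Subgroup G).Normal := by
    intro hn
    haveI := hn
    exact hns (solv_ext (T : Subgroup G) (by rw [hTc]; exact card_pf_two_pow _)
      (hidx _ T.not_dvd_index))
  -- T is not cyclic
  have hnc : ¬ IsCyclic (T : Subgroup G) := by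
    intro hcyc
    have hmin : (Nat.card G).minFac = 2 := (Nat.minFac_eq_two_iff _).mpr h2
    have hcomp := IsCyclic.isComplement' hmin hcyc
    exact hns (no_complement h3 h2 T _ hcomp)
  -- involution centralizers
  have hinv : ∀ t : G, orderOf t = 2 → ∀ c ∈ Subgroup.centralizer ({t} : Set G), c ^ 2 = 1 := by
    intro t ht c hc
    rcases epo_cent hepo t 2 ht Nat.prime_two c hc with h1 | h1
    · rw [h1, one_pow]
    · rw [← h1]; exact pow_orderOf_eq_one c
  have hC : ∀ t : G, orderOf t = 2 → IsMulCommutative (Subgroup.centralizer ({t} : Set G)) ∧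
      ∀ c ∈ Subgroup.centralizer ({t} : Set G), c ^ 2 = 1 := by
    intro t ht
    refine ⟨⟨⟨fun x y => comm_of_sq _ (fun z => ?_) x y⟩⟩, hinv t ht⟩
    ext
    rw [Subgroup.coe_pow]
    exact hinv t ht z.1 z.2
  obtain ⟨F, _, _, hFc, ⟨e⟩⟩ := Cfsg.Agent.S1230.result T hnc hnn hC
  -- a ≥ 2
  have ha2 : 2 ≤ a := by
    by_contra hlt
    have h01 : a = 0 ∨ a = 1 := by omega
    rcases h01 with h0 | h1
    · rw [h0, pow_zero] at hTc
      haveI : Subsingleton (T : Subgroup G) := (Nat.card_eq_one_iff_unique.mp hTc).1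
      exact hnc inferInstance
    · rw [h1, pow_one] at hTc
      haveI : Fact (Nat.Prime 2) := ⟨Nat.prime_two⟩
      exact hnc (isCyclic_of_prime_card hTc)
  have h4F : 4 ≤ Fintype.card F := by
    rw [hFc, hTc]
    calc 4 = 2 ^ 2 := by norm_num
      _ ≤ 2 ^ a := Nat.pow_le_pow_right (by norm_num) ha2
  -- characteristic two
  obtain ⟨p, hp⟩ := CharP.exists F
  haveI := hp
  have hpr : p.Prime := CharP.char_is_prime F p
  obtain ⟨n, -, hn⟩ := FiniteField.card F p
  have hp2 : p = 2 := by
    have hd : p ∣ 2 ^ a := by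
      rw [← hTc, ← hFc, hn]
      exact dvd_pow_self p n.ne_zero
    exact (Nat.prime_dvd_prime_iff_eq hpr Nat.prime_two).mp (hpr.dvd_of_dvd_pow hd)
  subst hp2
  haveI : Fact (Nat.Prime 2) := ⟨Nat.prime_two⟩
  obtain ⟨y1, hy1⟩ := Cfsg.Agent.Lib.Helper13.exists_orderOf_eq_split (F := F) 2 h4F
  obtain ⟨y2, hy2⟩ := Cfsg.Agent.Lib.Helper13.exists_orderOf_eq_nonsplit (F := F) 2
  rw [(Cfsg.Agent.Lib.Helper13.gcd_two_card_sub_one (F := F) 2).1 rfl, Nat.div_one] at hy1 hy2
  have hpr1 : (Fintype.card F - 1).Prime := by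
    have ho : orderOf (e.symm y1) = Fintype.card F - 1 := by rw [MulEquiv.orderOf_eq, hy1]
    rcases hepo (e.symm y1) with h1 | h1
    · rw [h1, orderOf_one] at ho; omega
    · rwa [ho] at h1
  have hpr2 : (Fintype.card F + 1).Prime := by
    have ho : orderOf (e.symm y2) = Fintype.card F + 1 := by rw [MulEquiv.orderOf_eq, hy2]
    rcases hepo (e.symm y2) with h1 | h1
    · rw [h1, orderOf_one] at ho; omega
    · rwa [ho] at h1
  have hF4 : Fintype.card F = 4 := arith_four _ a (by rw [hFc, hTc]) h4F hpr1 hpr2
  have hT4 : Nat.card T = 4 := by rw [← hFc, hF4]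
  have h2a : 2 ^ a = 4 := by rw [← hTc, hT4]
  -- an involution
  obtain ⟨x, hx⟩ := exists_prime_orderOf_dvd_card' (G := G) 2 h2
  -- its centralizer is a Sylow 2-subgroup of order 4
  have hC4 : Nat.card (Subgroup.centralizer ({x} : Set G)) = 4 := by
    obtain ⟨Q, hQ⟩ := (epo_cent_pgroup hepo x 2 hx Nat.prime_two).exists_le_sylow
    have hQc : Nat.card Q = 2 ^ 2 := by rw [Q.card_eq_multiplicity, ← ha, h2a]; norm_num
    have hQcomm : IsMulCommutative (Q : Subgroup G) := IsPGroup.isMulCommutative_of_card_eq_prime_sq hQc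
    have hxQ : x ∈ (Q : Subgroup G) := hQ (Subgroup.mem_centralizer_iff.mpr (by
      intro h hh; rw [Set.mem_singleton_iff.mp hh]))
    have hle : (Q : Subgroup G) ≤ Subgroup.centralizer ({x} : Set G) := by
      intro c hc
      rw [Subgroup.mem_centralizer_iff]
      intro h hh
      rw [Set.mem_singleton_iff.mp hh]
      have := hQcomm.is_comm.comm ⟨x, hxQ⟩ ⟨c, hc⟩
      exact congrArg Subtype.val this
    rw [le_antisymm hQ hle, hQc]; norm_num
  refine Cfsg.Agent.S3277.result x hx hC4 (hinv x hx) ?_ ?_
  · rintro ⟨P, N, hN, hc⟩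
    haveI := hN
    exact hns (no_complement h3 h2 P N hc)
  · intro E hE hEl
    haveI := hE
    constructor
    · intro hE2
      -- a normal subgroup of order two is central
      obtain ⟨z, hz1, hzu⟩ := (Nat.card_eq_two_iff' (1 : E)).mp hE2
      have hzc : ∀ g : G, g * (z : G) * g⁻¹ = z := by
        intro g
        have hm : g * (z : G) * g⁻¹ ∈ E := hE.conj_mem _ z.2 g
        have := hzu ⟨g * (z : G) * g⁻¹, hm⟩ (by
          intro h
          have h' : g * (z : G) * g⁻¹ = 1 := congrArg Subtype.val h
          apply hz1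
          ext
          have : (z : G) = g⁻¹ * (g * (z : G) * g⁻¹) * g := by group
          rw [this, h']; simp)
        exact congrArg Subtype.val this
      have hzo : orderOf (z : G) = 2 := by
        refine orderOf_eq_prime (hEl.2 _ z.2) ?_
        intro h; apply hz1; ext; exact h
      -- an element of odd prime order
      have : ∃ q ∈ (Nat.card G).primeFactors, q ≠ 2 := by
        by_contra hcon
        push Not at hcon
        have : (Nat.card G).primeFactors ⊆ {2} := fun q hq => by
          rw [Finset.mem_singleton]; exact hcon q hq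
        have := Finset.card_le_card this
        rw [h3] at this; simp at this
      obtain ⟨q, hq, hq2⟩ := this
      haveI : Fact q.Prime := ⟨Nat.prime_of_mem_primeFactors hq⟩
      obtain ⟨y, hy⟩ := exists_prime_orderOf_dvd_card' (G := G) q (Nat.dvd_of_mem_primeFactors hq)
      have hyc : y ∈ Subgroup.centralizer ({(z : G)} : Set G) := by
        rw [Subgroup.mem_centralizer_iff]
        intro h hh
        rw [Set.mem_singleton_iff.mp hh]
        have := hzc y
        calc (z : G) * y = (y * (z : G) * y⁻¹) * y := by rw [this]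
          _ = y * (z : G) := by group
      rcases epo_cent hepo (z : G) 2 hzo Nat.prime_two y hyc with h1 | h1
      · rw [h1, orderOf_one] at hy
        exact (Nat.prime_of_mem_primeFactors hq).one_lt.ne hy
      · rw [hy] at h1; exact hq2 h1
    · intro hE4
      have hmul := Subgroup.card_mul_index E
      have hmulT := Subgroup.card_mul_index (T : Subgroup G)
      have hEi : E.index = (T : Subgroup G).index := by
        rw [hE4] at hmul; rw [hT4] at hmulT
        omega
      exact hns (solv_ext E (by rw [hE4, ← h2a]; exact card_pf_two_pow _)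
        (by rw [hEi]; exact hidx _ T.not_dvd_index))

/-- A finite non-solvable group on which its automorphism group has exactly four orbits is isomorphic to the alternating group of degree 5. -/
theorem result {G : Type*} [Group G] [Finite G] (hns : ¬ Group.IsSolvable G)
    (h4 : Nat.card (MulAction.orbitRel.Quotient (MulAut G) G) = 4) : Nonempty (G ≃* alternatingGroup (Fin 5)) := by
  obtain ⟨h3, hepo⟩ := step_one (fun h => solv_of_two G h) hns h4
  exact main hns h3 hepo

end Cfsg.Agent.S4068
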